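import Cfsg.Statements.S0131
import Mathlib.GroupTheory.Sylow
import Mathlib.GroupTheory.Index
import Mathlib.GroupTheory.Abelianization.Defs
import Mathlib.GroupTheory.QuotientGroup.Basic

set_option autoImplicit false
open Cfsg

namespace Cfsg.Agent.S0131

/-- P/P' has a normal complement in G exactly when the focal subgroup G' ∩ P is as small as possible, namely P'. -/
theorem result {G : Type*} [Group G] [Finite G] {p : ℕ} [Fact p.Prime] (P : Sylow p G) : (∃ N : Subgroup G, N.Normal ∧ N ⊓ (P : Subgroup G) = ⁅(P : Subgroup G), (P : Subgroup G)⁆ ∧ N ⊔ (P : Subgroup G) = ⊤) ↔ commutator G ⊓ (P : Subgroup G) = ⁅(P : Subgroup G), (P : Subgroup G)⁆ := by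
  have hPle : ⁅(P : Subgroup G), (P : Subgroup G)⁆ ≤ commutator G ⊓ (P : Subgroup G) := by
    refine le_inf (Subgroup.commutator_mono le_top le_top) ?_
    exact Subgroup.commutator_le_self _
  constructor
  · rintro ⟨N, hN, hinf, hsup⟩
    refine le_antisymm ?_ hPle
    rw [← hinf]
    refine le_inf ?_ inf_le_right
    refine inf_le_left.trans ?_
    have hN' : ⁅(P : Subgroup G), (P : Subgroup G)⁆ ≤ N := hinf ▸ inf_le_left
    rw [← QuotientGroup.ker_mk' N, ← Subgroup.map_eq_bot_iff, commutator_def,
      Subgroup.map_commutator, ← hsup, Subgroup.map_sup,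
      (Subgroup.map_eq_bot_iff _).2 (QuotientGroup.ker_mk' N).ge, bot_sup_eq,
      ← Subgroup.map_commutator, Subgroup.map_eq_bot_iff, QuotientGroup.ker_mk']
    exact hN'
  · intro h
    classical
    set m := (P : Subgroup G).index with hm
    have hcop : Nat.Coprime m (Nat.card P) := by
      rw [Sylow.card_eq_multiplicity]
      exact Nat.Coprime.pow_right _ ((Nat.Prime.coprime_iff_not_dvd Fact.out).2 P.not_dvd_index).symm
    let φ : G →* Abelianization G := Abelianization.of
    let ψ : G →* Abelianization G :=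
      { toFun := fun g => (φ g) ^ m
        map_one' := by simp
        map_mul' := fun a b => by simp [mul_pow] }
    have hmem : ∀ g, g ∈ ψ.ker ↔ g ^ m ∈ commutator G := by
      intro g
      rw [MonoidHom.mem_ker, ← Abelianization.ker_of, MonoidHom.mem_ker, map_pow]
      rfl
    refine ⟨ψ.ker, inferInstance, ?_, ?_⟩
    · refine le_antisymm ?_ (le_inf ?_ (hPle.trans inf_le_right))
      · rintro g ⟨hg, hgP⟩
        have hgm : g ^ m ∈ ⁅(P : Subgroup G), (P : Subgroup G)⁆ :=
          h ▸ ⟨(hmem g).1 hg, Subgroup.pow_mem _ hgP m⟩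
        obtain ⟨k, hk⟩ := exists_pow_eq_self_of_coprime
          (hcop.coprime_dvd_right (Subgroup.orderOf_dvd_natCard _ hgP))
        rw [← hk]
        exact Subgroup.pow_mem _ hgm k
      · intro g hg
        rw [hmem]
        exact Subgroup.pow_mem _ (hPle hg).1 m
    · rw [eq_top_iff]
      intro g _
      obtain ⟨e, he⟩ : ∃ e, Nat.card P = p ^ e := IsPGroup.iff_card.1 P.isPGroup'
      have hN : g ^ Nat.card P ∈ ψ.ker := by
        rw [hmem, ← pow_mul, hm, Subgroup.card_mul_index, pow_card_eq_one']
        exact one_mem _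
      have hP : g ^ m ∈ ψ.ker ⊔ (P : Subgroup G) := by
        have : ((commutator G) ⊔ (P : Subgroup G)).Normal := Subgroup.Normal.of_commutator_le G le_sup_left
        have hle : (commutator G) ⊔ (P : Subgroup G) ≤ ψ.ker ⊔ (P : Subgroup G) := by
          refine sup_le_sup_right ?_ _
          intro x hx
          rw [hmem]
          exact Subgroup.pow_mem _ hx m
        apply hle
        obtain ⟨c, hc⟩ : ((commutator G) ⊔ (P : Subgroup G)).index ∣ m :=
          Subgroup.index_dvd_of_le le_sup_right
        rw [hc, pow_mul]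
        exact Subgroup.pow_mem _ (Subgroup.pow_index_mem _ g) c
      have hcop' : Nat.Coprime (Nat.card P) m := hcop.symm
      have hz : g = (g ^ Nat.card P) ^ (Nat.gcdA (Nat.card P) m) * (g ^ m) ^ (Nat.gcdB (Nat.card P) m) := by
        rw [← zpow_natCast g (Nat.card P), ← zpow_natCast g m, ← zpow_mul, ← zpow_mul, ← zpow_add,
          ← Nat.gcd_eq_gcd_ab, hcop'.gcd_eq_one, Nat.cast_one, zpow_one]
      rw [hz]
      exact mul_mem (Subgroup.zpow_mem _ (Subgroup.mem_sup_left hN) _) (Subgroup.zpow_mem _ hP _)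

end Cfsg.Agent.S0131
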