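import Cfsg.Statements.S1453
import Cfsg.Agent.Lib.OddOrder.NormalRank

set_option autoImplicit false
set_option linter.style.haveILetI false
open Cfsg Subgroup

namespace Cfsg.Agent.S1453

/-- Let p be an odd prime and R a finite p-group with an elementary abelian subgroup of order p ^ 3 and an elementary abelian subgroup E of order p ^ 2 contained in no larger elementary abelian subgroup. Let Z₂ be the second centre of R, W the subgroup generated by the elements of Z₂ of order dividing p, and T = C_R(W). Then E is not contained in T; the elements of order dividing p of the centre of R generate a group of order p; W is elementary abelian of order p ^ 2; and T is characteristic in R of index p. -/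
theorem result {R : Type*} [Group R] [Finite R] (p : ℕ) [Fact p.Prime] (hp : p ≠ 2) (hR : IsPGroup p R) (hr : ¬ Cfsg.PRankLE p 2 R)
    (E : Subgroup R) (hE : Cfsg.IsElementaryAbelian p E) (hE2 : Nat.card E = p ^ 2)
    (hEmax : ∀ B : Subgroup R, Cfsg.IsElementaryAbelian p B → E ≤ B → B = E) :
    ¬ E ≤ Subgroup.centralizer ((Subgroup.closure {x : R | x ∈ Subgroup.upperCentralSeries R 2 ∧ x ^ p = 1} : Subgroup R) : Set R) ∧
      Nat.card ↥(Subgroup.closure {x : R | x ∈ Subgroup.center R ∧ x ^ p = 1}) = p ∧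
      (Cfsg.IsElementaryAbelian p (Subgroup.closure {x : R | x ∈ Subgroup.upperCentralSeries R 2 ∧ x ^ p = 1}) ∧
        Nat.card ↥(Subgroup.closure {x : R | x ∈ Subgroup.upperCentralSeries R 2 ∧ x ^ p = 1}) = p ^ 2) ∧
      (Subgroup.centralizer ((Subgroup.closure {x : R | x ∈ Subgroup.upperCentralSeries R 2 ∧ x ^ p = 1} : Subgroup R) : Set R)).Characteristic ∧
      (Subgroup.centralizer ((Subgroup.closure {x : R | x ∈ Subgroup.upperCentralSeries R 2 ∧ x ^ p = 1} : Subgroup R) : Set R)).index = p := by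
  classical
  have hpp : p.Prime := Fact.out
  have hp1 := hpp.one_lt
  -- the second centre
  have hZ2 : ∀ x : R, x ∈ Subgroup.upperCentralSeries R 2 ↔ ∀ y, x * y * x⁻¹ * y⁻¹ ∈ center R := by
    intro x
    rw [show (2 : ℕ) = 1 + 1 from rfl, Subgroup.mem_upperCentralSeries_succ_iff,
      Subgroup.upperCentralSeries_one]
    simp only [commutatorElement_def]
  -- the subgroup of central elements of order dividing `p`
  let Z1 : Subgroup R :=
    { carrier := {x | x ∈ center R ∧ x ^ p = 1}
      one_mem' := ⟨one_mem _, one_pow p⟩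
      mul_mem' := fun {a b} ha hb => ⟨mul_mem ha.1 hb.1, by
        rw [(show Commute a b from mem_center_iff.1 hb.1 a).mul_pow, ha.2, hb.2, one_mul]⟩
      inv_mem' := fun {a} ha => ⟨inv_mem ha.1, by rw [inv_pow, ha.2, inv_one]⟩ }
  have hZ1cl : closure {x : R | x ∈ center R ∧ x ^ p = 1} = Z1 := closure_eq Z1
  -- the elements of order dividing `p` of the second centre
  let W : Subgroup R :=
    { carrier := {x | x ∈ Subgroup.upperCentralSeries R 2 ∧ x ^ p = 1}
      one_mem' := ⟨one_mem _, one_pow p⟩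
      mul_mem' := fun {a b} ha hb => ⟨mul_mem ha.1 hb.1, by
        have hc : b * a * b⁻¹ * a⁻¹ ∈ center R := (hZ2 b).1 hb.1 a
        have hab : b * a = (b * a * b⁻¹ * a⁻¹) * (a * b) := by group
        have hca : Commute (b * a * b⁻¹ * a⁻¹) a := (mem_center_iff.1 hc a).symm
        have hcb : Commute (b * a * b⁻¹ * a⁻¹) b := (mem_center_iff.1 hc b).symm
        have hcp : (b * a * b⁻¹ * a⁻¹) ^ p = 1 := by
          have h1 : MulAut.conj b a = (b * a * b⁻¹ * a⁻¹) * a := by rw [MulAut.conj_apply]; group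
          have h2 := congrArg (· ^ p) h1
          simp only [← map_pow, hca.mul_pow, ha.2, map_one, mul_one] at h2
          exact h2.symm
        obtain ⟨m, hm⟩ : p ∣ p.choose 2 :=
          hpp.dvd_choose_self two_ne_zero (lt_of_le_of_ne hpp.two_le hp.symm)
        rw [CfsgLib.OddOrder.mul_pow_of_central_commutator hab hca hcb p, ha.2, hb.2, hm, pow_mul,
          hcp, one_pow, one_mul, one_mul]⟩
      inv_mem' := fun {a} ha => ⟨inv_mem ha.1, by rw [inv_pow, ha.2, inv_one]⟩ }
  have hWcl : closure {x : R | x ∈ Subgroup.upperCentralSeries R 2 ∧ x ^ p = 1} = W := closure_eq W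
  rw [hZ1cl, hWcl]
  have hcard : ∀ A : Subgroup R, ∃ i, Nat.card A = p ^ i := fun A =>
    (hR.to_subgroup A).exists_card_eq
  have hcomm : ∀ {A : Subgroup R}, IsElementaryAbelian p A → ∀ a ∈ A, ∀ b ∈ A, a * b = b * a :=
    fun {A} hA a ha b hb =>
      mem_centralizer_iff.1 (le_centralizer_iff_isMulCommutative.2 hA.1 hb) a ha
  have hext : ∀ x : R, (∀ e ∈ E, e * x = x * e) → x ^ p = 1 → x ∈ E := by
    intro x hx hxp
    have hB : IsElementaryAbelian p (E ⊔ zpowers x) := by
      have hle : E ⊔ zpowers x ≤ centralizer (E ⊔ zpowers x : Subgroup R) := by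
        have h1 : E ⊔ zpowers x ≤ centralizer (E : Set R) :=
          sup_le (fun a ha e he => hcomm hE e he a ha) (zpowers_le.2 fun e he => hx e he)
        refine sup_le (le_centralizer_iff.1 h1) (zpowers_le.2 ?_)
        intro y hy
        have h2 : E ⊔ zpowers x ≤ centralizer ({x} : Set R) :=
          sup_le (fun e he => mem_centralizer_singleton_iff.2 (hx e he))
            (zpowers_le.2 (mem_centralizer_singleton_iff.2 rfl))
        exact mem_centralizer_singleton_iff.1 (h2 hy)
      have hc : ∀ a ∈ E ⊔ zpowers x, ∀ b ∈ E ⊔ zpowers x, a * b = b * a :=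
        fun a ha b hb => mem_centralizer_iff.1 (hle hb) a ha
      refine ⟨le_centralizer_iff_isMulCommutative.1 hle, fun a ha => ?_⟩
      let K : Subgroup R :=
        { carrier := {a | a ∈ E ⊔ zpowers x ∧ a ^ p = 1}
          one_mem' := ⟨one_mem _, one_pow p⟩
          mul_mem' := fun {a b} ha hb => ⟨mul_mem ha.1 hb.1, by
            rw [(show Commute a b from hc a ha.1 b hb.1).mul_pow, ha.2, hb.2, one_mul]⟩
          inv_mem' := fun {a} ha => ⟨inv_mem ha.1, by rw [inv_pow, ha.2, inv_one]⟩ }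
      exact ((sup_le (fun e he => ⟨mem_sup_left he, hE.2 e he⟩)
        (zpowers_le.2 ⟨mem_sup_right (mem_zpowers x), hxp⟩) : E ⊔ zpowers x ≤ K) ha).2
    rw [← hEmax _ hB le_sup_left]
    exact mem_sup_right (mem_zpowers x)
  have hZ1E : Z1 ≤ E := fun z hz => hext z (fun e _ => mem_center_iff.1 hz.1 e) hz.2
  -- a normal elementary abelian subgroup of order `p ^ 3`
  obtain ⟨E₂, hE₂n, hE₂, hE₂c⟩ := CfsgLib.OddOrder.exists_normal_elementary_two hp hR hr
  haveI := hE₂n
  obtain ⟨N, hNn, -, hN, hN3⟩ := CfsgLib.OddOrder.exists_normal_elementary_three hp hR hr hE₂ hE₂c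
  haveI := hNn
  have hNE : ∀ {A : Subgroup R}, A ≤ E → Nat.card A = p ^ 2 → A = E := fun {A} hA hc =>
    Subgroup.eq_of_le_of_card_ge hA (hE2.trans hc.symm).le
  have hEN : ¬ E ≤ N := fun h => by
    have := hEmax N hN h
    rw [this, hE2] at hN3
    exact absurd ((Nat.pow_right_injective hpp.two_le) hN3) (by norm_num)
  -- `E` does not lie in the second centre
  have hEZ : ¬ (∀ e ∈ E, e ∈ Subgroup.upperCentralSeries R 2) := by
    intro hEW
    haveI hEn : E.Normal := ⟨fun e he g => by
      have hz : e * g * e⁻¹ * g⁻¹ ∈ center R := (hZ2 e).1 (hEW e he) g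
      have hd : g * e * g⁻¹ = (e * g * e⁻¹ * g⁻¹)⁻¹ * e := by group
      have hzp : (e * g * e⁻¹ * g⁻¹) ^ p = 1 := by
        have hcom : Commute (e * g * e⁻¹ * g⁻¹)⁻¹ e :=
          (show Commute (e * g * e⁻¹ * g⁻¹) e from (mem_center_iff.1 hz e).symm).inv_left
        have h2 : (g * e * g⁻¹) ^ p = 1 := by
          rw [← MulAut.conj_apply, ← map_pow, hE.2 e he, map_one]
        rw [hd, hcom.mul_pow, hE.2 e he, mul_one, inv_pow, inv_eq_one] at h2
        exact h2
      rw [hd]
      exact mul_mem (inv_mem (hZ1E ⟨hz, hzp⟩)) he⟩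
    have hidx := CfsgLib.OddOrder.centralizer_index_le hR hE hE2
    have hle : N ⊓ centralizer (E : Set R) ≤ E := fun x hx =>
      hext x (fun e he => (Subgroup.mem_inf.1 hx).2 e he) (hN.2 x (Subgroup.mem_inf.1 hx).1)
    have hprod : Nat.card N =
        (centralizer (E : Set R)).relIndex N * Nat.card ↥(N ⊓ centralizer (E : Set R)) := by
      rw [← Subgroup.inf_relIndex_right, inf_comm (centralizer (E : Set R)) N, mul_comm,
        ← Subgroup.relIndex_bot_left (N ⊓ centralizer (E : Set R)),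
        Subgroup.relIndex_mul_relIndex ⊥ _ _ bot_le inf_le_left, Subgroup.relIndex_bot_left]
    have hrel : (centralizer (E : Set R)).relIndex N ≤ p := le_trans
      (Nat.le_of_dvd (Nat.pos_of_ne_zero index_ne_zero_of_finite)
        (Subgroup.relIndex_dvd_index_of_normal (centralizer (E : Set R)) N)) hidx
    obtain ⟨i, hi⟩ := hcard (N ⊓ centralizer (E : Set R))
    have hi2 : p ^ 2 ≤ p ^ i := by
      have h1 : p * p ^ 2 ≤ p * p ^ i := by
        rw [← pow_succ', ← hN3, hprod, hi]
        exact Nat.mul_le_mul_right _ hrel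
      exact Nat.le_of_mul_le_mul_left h1 hpp.pos
    have := Subgroup.eq_of_le_of_card_ge hle (by rw [hE2, hi]; exact hi2)
    exact hEN (this ▸ inf_le_left)
  -- the centre has a unique subgroup of order `p`
  have hne : ∀ {A : Subgroup R}, A.Normal → A ≠ ⊥ → ∃ z ∈ A, z ∈ Z1 ∧ orderOf z = p := by
    intro A hA hA1
    haveI := hA
    obtain ⟨z, hzA, hzc, hzo⟩ := CfsgLib.PGroup.exists_central_orderOf_eq hR A hA1
    exact ⟨z, hzA, ⟨hzc, by rw [← hzo, pow_orderOf_eq_one]⟩, hzo⟩
  have hN1 : N ≠ ⊥ := fun h => by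
    rw [h, card_bot] at hN3
    exact (Nat.one_lt_pow three_ne_zero hp1).ne hN3
  have hZ1card : Nat.card Z1 = p := by
    obtain ⟨i, hi⟩ := hcard Z1
    obtain ⟨z, -, hz, hzo⟩ := hne hNn hN1
    have h1 : 1 ≤ i := by
      by_contra h
      rw [show i = 0 by omega, pow_zero, card_eq_one] at hi
      rw [hi, mem_bot] at hz
      rw [hz, orderOf_one] at hzo
      exact hp1.ne hzo
    have h2 : i ≤ 1 := by
      by_contra h
      have hge : Nat.card E ≤ Nat.card Z1 := by
        rw [hE2, hi]; exact Nat.pow_le_pow_right hpp.pos (by omega)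
      have heq := Subgroup.eq_of_le_of_card_ge hZ1E hge
      exact hEN (fun e he => by
        have hz' : e ∈ Z1 := heq.ge he
        by_contra
        refine hEZ fun e' he' => ?_
        have hz'' : e' ∈ center R := (heq.ge he').1
        rw [hZ2]
        intro y
        rw [← mem_center_iff.1 hz'' y]
        simp [one_mem])
    rw [hi, show i = 1 by omega, pow_one]
  -- `W ⊓ E = Z1`
  have hWE : W ⊓ E = Z1 := by
    refine le_antisymm ?_ (fun z hz => Subgroup.mem_inf.2 ⟨(show z ∈ W from ⟨(hZ2 z).2 fun y => by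
      rw [← mem_center_iff.1 hz.1 y]; simp [one_mem], hz.2⟩), hZ1E hz⟩)
    intro x hx
    by_contra hxz
    have hlt : Z1 < W ⊓ E := lt_of_le_not_ge (fun z hz => Subgroup.mem_inf.2 ⟨(show z ∈ W from ⟨(hZ2 z).2 fun y => by
      rw [← mem_center_iff.1 hz.1 y]; simp [one_mem], hz.2⟩), hZ1E hz⟩) fun h => hxz (h hx)
    obtain ⟨i, hi⟩ := hcard (W ⊓ E)
    have hgt : p < p ^ i := by
      rw [← hi, ← hZ1card]
      exact (Subgroup.card_le_of_le hlt.le).lt_of_ne fun he =>
        hlt.ne (Subgroup.eq_of_le_of_card_ge hlt.le he.ge)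
    have hi2 : 2 ≤ i := (Nat.pow_lt_pow_iff_right hp1).1 (by rwa [pow_one])
    have := Subgroup.eq_of_le_of_card_ge (inf_le_right : W ⊓ E ≤ E)
      (by rw [hE2, hi]; exact Nat.pow_le_pow_right hpp.pos hi2)
    exact hEZ fun e he => (Subgroup.mem_inf.1 (this.ge he)).1.1
  obtain ⟨e, heE, he⟩ : ∃ e ∈ E, e ∉ Z1 := by
    by_contra h
    push Not at h
    have := Subgroup.card_le_of_le (show E ≤ Z1 from h)
    rw [hZ1card, hE2] at this
    exact absurd this (not_le.2 ((pow_one p).symm.trans_lt (Nat.pow_lt_pow_right hp1 one_lt_two)))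
  have hWcard : Nat.card W ≤ p ^ 2 := by
    let f : W → Z1 := fun w => ⟨(w : R) * e * (w : R)⁻¹ * e⁻¹, (hZ2 w).1 w.2.1 e, by
      have hz : (w : R) * e * (w : R)⁻¹ * e⁻¹ ∈ center R := (hZ2 w).1 w.2.1 e
      have h1 : MulAut.conj (w : R) e = ((w : R) * e * (w : R)⁻¹ * e⁻¹) * e := by
        rw [MulAut.conj_apply]; group
      have h2 := congrArg (· ^ p) h1
      simp only [← map_pow, (show Commute _ e from (mem_center_iff.1 hz e).symm).mul_pow,
        hE.2 e heE, map_one, mul_one] at h2
      exact h2.symm⟩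
    let g : W →* Z1 := MonoidHom.mk' f fun a b => Subtype.ext (by
      show (a * b : R) * e * (a * b : R)⁻¹ * e⁻¹ =
        ((a : R) * e * (a : R)⁻¹ * e⁻¹) * ((b : R) * e * (b : R)⁻¹ * e⁻¹)
      have hz : (b : R) * e * (b : R)⁻¹ * e⁻¹ ∈ center R := (hZ2 b).1 b.2.1 e
      calc (a * b : R) * e * (a * b : R)⁻¹ * e⁻¹
          = (a : R) * ((b : R) * e * (b : R)⁻¹ * e⁻¹) * e * (a : R)⁻¹ * e⁻¹ := by group
        _ = ((b : R) * e * (b : R)⁻¹ * e⁻¹) * ((a : R) * e * (a : R)⁻¹ * e⁻¹) := by
          rw [mem_center_iff.1 hz (a : R)]; group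
        _ = _ := (mem_center_iff.1 hz _).symm)
    have hker : g.ker.map W.subtype ≤ W ⊓ E := by
      rintro _ ⟨w, hw, rfl⟩
      refine Subgroup.mem_inf.2 ⟨w.2, hext _ ?_ w.2.2⟩
      have h1 : (w : R) * e * (w : R)⁻¹ * e⁻¹ = 1 := congrArg Subtype.val (MonoidHom.mem_ker.1 hw)
      have h2 : e * (w : R) = (w : R) * e :=
        (mul_inv_eq_iff_eq_mul.1 (mul_inv_eq_one.1 h1)).symm
      have hEle : E ≤ centralizer ({(w : R)} : Set R) := by
        have hZle : Z1 ⊔ zpowers e ≤ centralizer ({(w : R)} : Set R) :=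
          sup_le (fun z hz => mem_centralizer_singleton_iff.2 (mem_center_iff.1 hz.1 _).symm)
            (zpowers_le.2 (mem_centralizer_singleton_iff.2 h2))
        refine le_of_eq_of_le (Subgroup.eq_of_le_of_card_ge
          (sup_le hZ1E (zpowers_le.2 heE)) ?_).symm hZle
        have hlt : Z1 < Z1 ⊔ zpowers e :=
          lt_of_le_not_ge le_sup_left fun h => he (h (mem_sup_right (mem_zpowers e)))
        obtain ⟨i, hi⟩ := hcard (Z1 ⊔ zpowers e)
        have hgt : p < p ^ i := by
          rw [← hi, ← hZ1card]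
          exact (Subgroup.card_le_of_le hlt.le).lt_of_ne fun he' =>
            hlt.ne (Subgroup.eq_of_le_of_card_ge hlt.le he'.ge)
        rw [hE2, hi]
        exact Nat.pow_le_pow_right hpp.pos ((Nat.pow_lt_pow_iff_right hp1).1 (by rwa [pow_one]))
      exact fun e' he' => mem_centralizer_singleton_iff.1 (hEle he')
    calc Nat.card W = Nat.card (W ⧸ g.ker) * Nat.card g.ker :=
          Subgroup.card_eq_card_quotient_mul_card_subgroup _
      _ ≤ p * p := Nat.mul_le_mul (by
          rw [Nat.card_congr (QuotientGroup.quotientKerEquivRange g).toEquiv, ← hZ1card]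
          exact Subgroup.card_le_card_group _) (by
          rw [← Subgroup.card_map_of_injective W.subtype_injective]
          exact (Subgroup.card_le_of_le hker).trans (by rw [hWE]; exact hZ1card.le))
      _ = p ^ 2 := (sq p).symm
  -- `N` meets `W` in a subgroup of order at least `p ^ 2`
  obtain ⟨A, hAn, hAN, hA2⟩ := CfsgLib.PGroup.exists_normal_card_le hR 2 3 N hN3 (by norm_num)
  have hAW : A ≤ W := by
    intro x hx
    refine ⟨(hZ2 x).2 fun y => ?_, hN.2 x (hAN hx)⟩
    haveI := hAn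
    refine (hZ2 x).1 ?_ y
    by_cases hle : A ≤ center R
    · exact (hZ2 x).2 fun y => by rw [← mem_center_iff.1 (hle hx) y]; simp [one_mem]
    · haveI : (A ⊓ center R).Normal := Subgroup.normal_inf_normal _ _
      obtain ⟨x₀, hx₀, hx₀', -, hx₀c⟩ := CfsgLib.PGroup.exists_step hR (A ⊓ center R) A
        (lt_of_le_of_ne inf_le_left fun h => hle (h ▸ inf_le_right))
      have hlt : A ⊓ center R < A ⊓ Subgroup.upperCentralSeries R 2 := by
        refine lt_of_le_not_ge (le_inf inf_le_left fun z hz => (hZ2 z).2 fun y => ?_) fun h =>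
          hx₀' (h (Subgroup.mem_inf.2 ⟨hx₀, (hZ2 x₀).2 fun y => ?_⟩))
        · rw [← mem_center_iff.1 (Subgroup.mem_inf.1 hz).2 y]; simp [one_mem]
        · exact (Subgroup.mem_inf.1 (hx₀c y)).2
      obtain ⟨i, hi⟩ := hcard (A ⊓ Subgroup.upperCentralSeries R 2)
      obtain ⟨z, hzA, hz, hzo⟩ := hne hAn (fun h => hle (h ▸ bot_le))
      have hge : p ≤ Nat.card ↥(A ⊓ center R) := by
        rw [← hzo, ← Nat.card_zpowers]
        exact Subgroup.card_le_of_le (zpowers_le.2 (Subgroup.mem_inf.2 ⟨hzA, hz.1⟩))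
      have hgt : p < p ^ i := by
        rw [← hi]
        exact hge.trans_lt ((Subgroup.card_le_of_le hlt.le).lt_of_ne fun he' =>
          hlt.ne (Subgroup.eq_of_le_of_card_ge hlt.le he'.ge))
      have := Subgroup.eq_of_le_of_card_ge (inf_le_left : A ⊓ Subgroup.upperCentralSeries R 2 ≤ A) (by
        rw [hA2, hi]
        exact Nat.pow_le_pow_right hpp.pos ((Nat.pow_lt_pow_iff_right hp1).1 (by rwa [pow_one])))
      exact (Subgroup.mem_inf.1 (this.ge hx)).2
  have hWc : Nat.card W = p ^ 2 := le_antisymm hWcard (hA2 ▸ Subgroup.card_le_of_le hAW)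
  have hWA : A = W := Subgroup.eq_of_le_of_card_ge hAW (hWc.trans hA2.symm).le
  have hWel : IsElementaryAbelian p W := by
    rw [← hWA]
    exact ⟨le_centralizer_iff_isMulCommutative.1 fun a ha b hb =>
      hcomm hN b (hAN hb) a (hAN ha), fun a ha => hN.2 a (hAN ha)⟩
  have hnot : ¬ E ≤ centralizer (W : Set R) := by
    intro h
    have hle : W ≤ E := fun w hw => hext w (fun e' he' => (h he' w hw).symm) hw.2
    have : W ⊓ E = W := inf_eq_left.2 hle
    rw [hWE] at this
    rw [← this, hZ1card] at hWc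
    exact absurd hWc ((pow_one p).symm.trans_lt (Nat.pow_lt_pow_right hp1 one_lt_two)).ne
  haveI hWchar : W.Characteristic := by
    rw [characteristic_iff_le_comap]
    intro φ x hx
    refine ⟨?_, by show φ x ^ p = 1; rw [← map_pow, hx.2, map_one]⟩
    exact (characteristic_iff_le_comap.1 (inferInstance : (Subgroup.upperCentralSeries R 2).Characteristic) φ) hx.1
  refine ⟨hnot, hZ1card, ⟨hWel, hWc⟩, inferInstance, ?_⟩
  obtain ⟨i, hi⟩ := hR.index (centralizer (W : Set R))
  have h1 := CfsgLib.OddOrder.centralizer_index_le hR hWel hWc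
  rw [hi] at h1 ⊢
  have h2 : i ≤ 1 := (Nat.pow_le_pow_iff_right hp1).1 (by rwa [pow_one])
  have h3 : i ≠ 0 := fun h0 => hnot (by
    rw [h0, pow_zero, index_eq_one] at hi
    rw [hi]; exact le_top)
  rw [show i = 1 by omega, pow_one]

end Cfsg.Agent.S1453
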