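import Cfsg.Statements.S1414
import Cfsg.Agent.Lib.OddOrder.Beta

set_option autoImplicit false
open Cfsg

namespace Cfsg.Agent.S1414

open CfsgLib.OddOrder Subgroup

open scoped commutatorElement

theorem exists_nilpotent_hall {Y G : Type*} [Group Y] [Finite Y] [Group G] [Finite G] {π : Set ℕ}
    (K : Subgroup Y) [K.Normal] (hco : K.index.Coprime (Nat.card K))
    (hπK : Cfsg.IsPiSubgroup π K) (hidx : ∀ q : ℕ, q.Prime → q ∈ π → ¬ q ∣ K.index)
    (hnil : Group.IsNilpotent (Y ⧸ K)) (N : Subgroup Y) (hKN : K ≤ N) (f : Y →* G)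
    (hf : Function.Injective f) :
    ∃ H : Subgroup G, Cfsg.IsPiHallOf {q | q.Prime ∧ q ∉ π} H (N.map f) ∧ Group.IsNilpotent H := by
  obtain ⟨H₀, hH₀⟩ := exists_right_complement'_of_coprime hco.symm
  set H₁ := H₀ ⊓ N
  have hinj : Function.Injective ((QuotientGroup.mk' K).comp H₁.subtype) := by
    refine (injective_iff_map_eq_one _).2 fun x hx => Subtype.ext ?_
    have hxK : (x : Y) ∈ K := (QuotientGroup.eq_one_iff (N := K) _).1 hx
    exact mem_bot.1 (hH₀.disjoint.le_bot ⟨hxK, x.2.1⟩)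
  haveI := hnil
  haveI h1 : Group.IsNilpotent H₁ :=
    Group.nilpotent_of_mulEquiv (MonoidHom.ofInjective hinj).symm
  refine ⟨H₁.map f, ⟨map_mono inf_le_right, fun q hq hd => ⟨hq, fun hqπ => ?_⟩, fun q hq hqπ hd => ?_⟩,
    Group.nilpotent_of_mulEquiv (H₁.equivMapOfInjective f hf)⟩
  · rw [card_map_of_injective hf] at hd
    refine hidx q hq hqπ (hd.trans ?_)
    rw [hH₀.symm.index_eq_card]
    exact card_dvd_of_le inf_le_left
  · have hsup : N ≤ K ⊔ H₁ := by
      intro n hn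
      obtain ⟨⟨⟨k, hk⟩, ⟨h, hh⟩⟩, rfl⟩ := hH₀.2 n
      exact mul_mem (mem_sup_left hk) (mem_sup_right ⟨hh, (mul_mem_cancel_left (hKN hk)).1 hn⟩)
    have h2 : H₁.relIndex N * Nat.card H₁ ∣ Nat.card K * Nat.card H₁ := by
      rw [mul_comm, ← relIndex_bot_left H₁, relIndex_mul_relIndex ⊥ H₁ N bot_le inf_le_right,
        relIndex_bot_left]
      rw [relIndex_bot_left]
      exact (card_dvd_of_le hsup).trans (card_sup_dvd_mul_of_le_normalizer
        ((le_top).trans (normalizer_eq_top_iff.2 inferInstance).ge))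
    have h3 : H₁.relIndex N ∣ Nat.card K := Nat.dvd_of_mul_dvd_mul_right Nat.card_pos h2
    rw [relIndex_map_map_of_injective _ _ hf] at hd
    exact hqπ.2 (hπK q hq (hd.trans h3))

/-- Let G be a minimal simple group of odd order, M a maximal subgroup, β(M) the set of ideal primes in α(M), and M_β = O_{β(M)}(M). Then M_β is a Hall β(M)-subgroup of M and of G; M' and M_σ each have a nilpotent Hall β(M)'-subgroup; and for each prime p dividing the order of M with p ∉ β(M), both M' and M_σ have normal p-complements and every prime dividing the index of O_{p'}(M) in M is at most p. -/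
theorem result {G : Type*} [Group G] [Finite G] (hG : Cfsg.IsMinSimpleOddOrder G)
    (M : Subgroup G) (hM : IsCoatom M) :
    Cfsg.IsPiHallOf (Cfsg.beta M) (Cfsg.piCoreOf (Cfsg.beta M) M) M ∧ Cfsg.IsPiHall (Cfsg.beta M) (Cfsg.piCoreOf (Cfsg.beta M) M) ∧
      (∃ H : Subgroup G, Cfsg.IsPiHallOf {q | q.Prime ∧ q ∉ Cfsg.beta M} H ⁅M, M⁆ ∧ Group.IsNilpotent H) ∧
      (∃ H : Subgroup G, Cfsg.IsPiHallOf {q | q.Prime ∧ q ∉ Cfsg.beta M} H (Cfsg.sigmaCore M) ∧ Group.IsNilpotent H) ∧
      ∀ p : ℕ, p.Prime → p ∣ Nat.card M → p ∉ Cfsg.beta M →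
        Cfsg.HasNormalPComplement p ↥⁅M, M⁆ ∧ Cfsg.HasNormalPComplement p ↥(Cfsg.sigmaCore M) ∧
        ∀ q : ℕ, q.Prime → q ∣ (Cfsg.pPrimeCore p ↥M).index → q ≤ p := by
  have hβσ : Cfsg.beta M ⊆ Cfsg.sigma M := fun p hp => alpha_subset_sigma hG hM hp.1
  obtain ⟨hA, hB⟩ := hall_of_subset hG hM hβσ
    fun p _ S hp => sylow_le_betaCore hG hM hp S
  obtain ⟨hco, hidx, hnil⟩ := piCore_beta_facts hG hM
  set D := commutator M with hD
  set K := Cfsg.piCore (Cfsg.beta M) D with hK
  set f := M.subtype.comp D.subtype with hf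
  have hfinj : Function.Injective f := M.subtype_injective.comp D.subtype_injective
  have hDM : (⊤ : Subgroup D).map f = ⁅M, M⁆ := by
    rw [hf, ← map_map, ← MonoidHom.range_eq_map, range_subtype]
    exact map_subtype_commutator M
  set Sg := Cfsg.piCore (Cfsg.sigma M) M with hSg
  have hSD : Sg ≤ D := piCore_sigma_le_commutator hG hM
  haveI : K.Characteristic := piCore_characteristic _ D
  have hKS : K ≤ Sg.subgroupOf D := by
    have hKn : (K.map D.subtype).Normal := inferInstance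
    exact map_le_iff_le_comap.1 (le_piCore hKn
      (IsPiSubgroup.mono (IsPiSubgroup.map (piCore_isPiSubgroup _ D) _) hβσ))
  have hSM : (Sg.subgroupOf D).map f = Cfsg.sigmaCore M := by
    rw [hf, ← map_map, subgroupOf_map_subtype, inf_eq_left.2 hSD]
    rfl
  refine ⟨hA, hB, hDM ▸ exists_nilpotent_hall K hco (piCore_isPiSubgroup _ D) hidx hnil ⊤ le_top f hfinj,
    hSM ▸ exists_nilpotent_hall K hco (piCore_isPiSubgroup _ D) hidx hnil _ hKS f hfinj, fun p hp hpM hβ => ?_⟩
  haveI := Fact.mk hp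
  obtain ⟨h1, h2⟩ := not_beta_conclusions hG hM hpM hβ
  have h3 : Cfsg.HasNormalPComplement p ↥⁅M, M⁆ := by
    rw [← map_subtype_commutator M]
    exact CfsgLib.NPC.hasNormalPComplement_of_equiv
      (D.equivMapOfInjective _ M.subtype_injective) h2
  refine ⟨h3, CfsgLib.NPC.hasNormalPComplement_of_le ?_ h3, h1⟩
  rw [← map_subtype_commutator M]
  exact Subgroup.map_mono hSD

end Cfsg.Agent.S1414
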