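import Cfsg.Statements.S1378
import Cfsg.Agent.Lib.OddOrder.SigmaPartition

set_option autoImplicit false
open Cfsg

namespace Cfsg.Agent.S1378

/-- Let G be a minimal simple group of odd order. Then every prime dividing the order of G belongs to σ(M) for some maximal subgroup M, and if σ(M) and σ(N) have a prime in common for maximal subgroups M, N then N is conjugate to M; so the sets σ(M_i) over representatives of the conjugacy classes of maximal subgroups partition the prime divisors of #G. -/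
theorem result {G : Type*} [Group G] [Finite G] (hG : Cfsg.IsMinSimpleOddOrder G) :
    (∀ p : ℕ, p.Prime → p ∣ Nat.card G → ∃ M : Subgroup G, IsCoatom M ∧ p ∈ Cfsg.sigma M) ∧
      ∀ M N : Subgroup G, IsCoatom M → IsCoatom N → (Cfsg.sigma M ∩ Cfsg.sigma N).Nonempty → ∃ g : G, N = M.map (MulAut.conj g).toMonoidHom := by
  refine ⟨fun p hp hd => ?_, fun M N hM hN ⟨p, hpM, hpN⟩ => ?_⟩
  · haveI := Fact.mk hp
    obtain ⟨P⟩ : Nonempty (Sylow p G) := inferInstance
    have hP1 : (P : Subgroup G) ≠ ⊥ := P.ne_bot_of_dvd_card hd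
    obtain ⟨M, hM, hle⟩ := CfsgLib.OddOrder.exists_isCoatom_ge
      (CfsgLib.OddOrder.normalizer_ne_top hG hP1 (CfsgLib.OddOrder.isPGroup_ne_top hG P.2))
    have hPM : (P : Subgroup G) ≤ M := Subgroup.le_normalizer.trans hle
    refine ⟨M, hM, hp, (CfsgLib.OddOrder.dvd_card_of_isPGroup P.2 hP1).trans
      (Subgroup.card_dvd_of_le hPM), ?_⟩
    have hmax : CfsgLib.OddOrder.IsMaxPIn p M (P : Subgroup G) :=
      ⟨hPM, P.2, fun Q hQ hle' _ => P.3 hQ hle'⟩
    obtain ⟨S, hS⟩ := hmax.exists_sylow
    exact ⟨S, by rw [hS]; exact hle⟩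
  · by_contra hne
    push Not at hne
    exact CfsgLib.OddOrder.sigma_disjoint hG hM hN (fun g h => hne g h.symm) hpM hpN

end Cfsg.Agent.S1378
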