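import Cfsg.Statements.S0128
import Cfsg.Agent.Lib.PGroup.PowerMap
import Cfsg.Agent.S0129

set_option autoImplicit false
open Cfsg
open scoped commutatorElement

namespace Cfsg.Agent.S0128

/-- For p > 3, in a p-group of p-rank at most 2 the elements of order dividing p generate a subgroup of exponent dividing p. -/
theorem result {R : Type*} [Group R] [Finite R] {p : ℕ} [Fact p.Prime] (hp : 3 < p) (hR : IsPGroup p R) (hrk : ∀ E : Subgroup R, Cfsg.IsElementaryAbelian p E → Nat.card E ≤ p ^ 2) (g : R) (hg : g ∈ Subgroup.closure {x : R | x ^ p = 1}) : g ^ p = 1 := by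
  have hpp : p.Prime := Fact.out
  suffices key : ∀ H : Subgroup R, ∀ x ∈ H, ∀ y ∈ H, x ^ p = 1 → y ^ p = 1 → (x * y) ^ p = 1 by
    induction hg using Subgroup.closure_induction with
    | mem x hx => exact hx
    | one => simp
    | mul x y _ _ hx hy => exact key ⊤ x (Subgroup.mem_top _) y (Subgroup.mem_top _) hx hy
    | inv x _ hx => rw [inv_pow, hx, inv_one]
  intro H
  induction H using (wellFounded_lt (α := Subgroup R)).induction with
  | h H ih =>
    intro x hx y hy hxp hyp
    set D := Subgroup.closure ({x, y} : Set R) with hD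
    have hxD : x ∈ D := Subgroup.subset_closure (by simp)
    have hyD : y ∈ D := Subgroup.subset_closure (by simp)
    have hDH : D ≤ H := by
      rw [hD, Subgroup.closure_le]; rintro z (rfl | rfl) <;> assumption
    rcases hDH.lt_or_eq with hlt | heq
    · exact ih D hlt x hxD y hyD hxp hyp
    set x' : H := ⟨x, hx⟩ with hx'
    set y' : H := ⟨y, hy⟩ with hy'
    set N : Subgroup H := Subgroup.normalClosure {x'} with hN
    by_cases hNtop : N = ⊤
    · -- `x` generates `H`
      have hz : Subgroup.zpowers x' = ⊤ := by
        by_contra hne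
        obtain ⟨M, hM, hxM⟩ := (eq_top_or_exists_le_coatom _).resolve_left hne
        have hMn := Subgroup.NormalizerCondition.normal_of_coatom M
          (@Group.normalizerCondition_of_isNilpotent _ _ (hR.to_subgroup H).isNilpotent) hM
        refine hM.1 (top_unique (hNtop ▸ Subgroup.normalClosure_le_normal ?_))
        simpa using hxM (Subgroup.mem_zpowers x')
      obtain ⟨k, hk⟩ := Subgroup.mem_zpowers_iff.1 (hz ▸ Subgroup.mem_top y' : y' ∈ Subgroup.zpowers x')
      have hk' : x ^ k = y := by simpa [hx', hy'] using congrArg Subtype.val hk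
      have hc : Commute x y := hk' ▸ Commute.self_zpow x k
      rw [hc.mul_pow, hxp, hyp, one_mul]
    -- `N` has exponent p
    set N₀ := N.map H.subtype with hN₀
    have hN₀lt : N₀ < H := lt_of_le_of_ne (Subgroup.map_subtype_le N) fun h => hNtop (by
      rwa [← (Subgroup.map_injective H.subtype_injective).eq_iff, ← MonoidHom.range_eq_map,
        Subgroup.range_subtype])
    have hNexp : ∀ z ∈ N, z ^ p = 1 := by
      intro z hz
      induction hz using Subgroup.closure_induction with
      | mem z hz =>
        obtain ⟨w, hw, hc⟩ := Group.mem_conjugatesOfSet_iff.1 hz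
        rw [Set.mem_singleton_iff] at hw
        subst hw
        obtain ⟨g, rfl⟩ := isConj_iff.1 hc
        apply Subtype.ext
        simp [hx', hxp]
      | one => simp
      | mul u w hu hw h1 h2 =>
        apply Subtype.ext
        rw [Subgroup.coe_pow, Subgroup.coe_mul, Subgroup.coe_one]
        exact ih N₀ hN₀lt u ⟨u, hu, rfl⟩ w ⟨w, hw, rfl⟩
          (by rw [← Subgroup.coe_pow, h1, Subgroup.coe_one])
          (by rw [← Subgroup.coe_pow, h2, Subgroup.coe_one])
      | inv u _ h1 => rw [inv_pow, h1, inv_one]
    -- so `N` has order at most `p^3`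
    obtain ⟨A, ⟨hAn, hAc⟩, hAmax⟩ :=
      (Set.toFinite {A : Subgroup N | A.Normal ∧ IsMulCommutative A}).exists_maximal
        ⟨⊥, inferInstance, inferInstance⟩
    obtain ⟨a, ha⟩ := IsPGroup.iff_card.1 (((hR.to_subgroup H).to_subgroup N).to_subgroup A)
    have ha2 : a ≤ 2 := by
      have hinj : Function.Injective (H.subtype.comp N.subtype) :=
        H.subtype_injective.comp N.subtype_injective
      have hEA : Cfsg.IsElementaryAbelian p (A.map (H.subtype.comp N.subtype)) := by
        refine ⟨inferInstance, ?_⟩
        rintro _ ⟨z, -, rfl⟩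
        show (((z : H) : R)) ^ p = 1
        rw [← Subgroup.coe_pow, hNexp _ z.2, Subgroup.coe_one]
      have := hrk _ hEA
      rw [Nat.card_congr (A.equivMapOfInjective _ hinj).toEquiv.symm, ha] at this
      exact (Nat.pow_le_pow_iff_right hpp.one_lt).1 this
    have hNcard : Nat.card N ≤ p ^ 3 :=
      (Cfsg.Agent.S0129.result ((hR.to_subgroup H).to_subgroup N) A hAc
        (fun B h1 h2 h3 => le_antisymm (hAmax ⟨h1, h2⟩ h3) h3) a ha).trans
        (Nat.pow_le_pow_right hpp.pos (by interval_cases a <;> norm_num))
    obtain ⟨b, hb⟩ := IsPGroup.iff_card.1 ((hR.to_subgroup H).to_subgroup N)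
    have hb3 : b ≤ 3 := (Nat.pow_le_pow_iff_right hpp.one_lt).1 (hb ▸ hNcard)
    have hNn : N.Normal := Subgroup.normalClosure_normal
    -- `H` modulo `N` is generated by the image of `y`
    have hy1 : y'.val ^ p = 1 := hyp
    have hgen : Subgroup.zpowers (QuotientGroup.mk' N y') = ⊤ := by
      rw [eq_top_iff]
      intro q _
      obtain ⟨w, rfl⟩ := QuotientGroup.mk'_surjective N q
      have hsub : H ≤ ((Subgroup.zpowers (QuotientGroup.mk' N y')).comap (QuotientGroup.mk' N)).map
          H.subtype := by
        refine heq.ge.trans ?_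
        rw [hD, Subgroup.closure_le]
        intro z hz
        rcases hz with hz | hz <;> rw [hz]
        · refine ⟨x', ?_, rfl⟩
          show QuotientGroup.mk' N x' ∈ Subgroup.zpowers (QuotientGroup.mk' N y')
          have h1 : QuotientGroup.mk' N x' = 1 :=
            (QuotientGroup.eq_one_iff x').2 (Subgroup.subset_normalClosure rfl)
          rw [h1]
          exact one_mem _
        · exact ⟨y', Subgroup.mem_zpowers _, rfl⟩
      obtain ⟨w', hw', he⟩ := hsub w.2
      rwa [← Subtype.ext he]
    -- lower central series of `H`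
    let L : ℕ → Subgroup H := fun k => (⊤ : Subgroup H).lowerCentralSeries k
    have hL1 : L 1 ≤ N := by
      show (⊤ : Subgroup H).lowerCentralSeries 1 ≤ N
      rw [Subgroup.top_lowerCentralSeries_one, ← QuotientGroup.ker_mk' N, ← Subgroup.map_eq_bot_iff,
        commutator_def, Subgroup.map_commutator, Subgroup.commutator_eq_bot_iff_le_centralizer,
        ← MonoidHom.range_eq_map, MonoidHom.range_eq_top.2 (QuotientGroup.mk'_surjective N), ← hgen]
      exact Subgroup.le_centralizer _
    have hclass : L 3 = ⊥ := by
      by_contra h3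
      have hLn : ∀ k, (L k).Normal := fun k => inferInstance
      have hstep : ∀ k, L k ≠ ⊥ → p * Nat.card (L (k + 1)) ≤ Nat.card (L k) := by
        intro k hk
        have hlt : L (k + 1) < L k := by
          refine lt_of_le_of_ne (Subgroup.lowerCentralSeries_antitone _ (Nat.le_succ k)) fun he => hk ?_
          have hall : ∀ j, L k ≤ L (k + j) := by
            intro j
            induction j with
            | zero => exact le_rfl
            | succ j ihj =>
              show L k ≤ L (k + j + 1)
              calc L k = L (k + 1) := he.symm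
                _ = ⁅L k, ⊤⁆ := Subgroup.lowerCentralSeries_succ ..
                _ ≤ ⁅L (k + j), ⊤⁆ := Subgroup.commutator_mono ihj le_rfl
                _ = L (k + j + 1) := (Subgroup.lowerCentralSeries_succ ..).symm
          obtain ⟨j, hj⟩ := Subgroup.nilpotent_iff_lowerCentralSeries.1 (hR.to_subgroup H).isNilpotent
          refine le_bot_iff.1 ((hall j).trans ?_)
          exact hj ▸ Subgroup.lowerCentralSeries_antitone _ (Nat.le_add_left j k)
        obtain ⟨z, hzk, hzn, hzp, -⟩ :=
          CfsgLib.PGroup.exists_step (hR.to_subgroup H) (L (k + 1)) (L k) hlt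
        rw [← CfsgLib.PGroup.card_sup_zpowers hzn hzp]
        exact Subgroup.card_le_of_le (sup_le hlt.le (Subgroup.zpowers_le.2 hzk))
      have h2 : L 2 ≠ ⊥ := fun h => h3 (le_bot_iff.1 (h ▸ Subgroup.lowerCentralSeries_antitone _ (by norm_num)))
      have h1 : L 1 ≠ ⊥ := fun h => h3 (le_bot_iff.1 (h ▸ Subgroup.lowerCentralSeries_antitone _ (by norm_num)))
      have c3 : p ≤ Nat.card (L 3) := by
        obtain ⟨z, hz, -, hzo⟩ := CfsgLib.PGroup.exists_central_orderOf_eq (hR.to_subgroup H) (L 3) h3
        rw [← hzo, ← Nat.card_zpowers]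
        exact Subgroup.card_le_of_le (Subgroup.zpowers_le.2 hz)
      have c2 := hstep 2 h2
      have c1 := hstep 1 h1
      have c0 : Nat.card (L 1) ≤ p ^ 3 := (Subgroup.card_le_of_le hL1).trans hNcard
      have e : p ^ 3 ≤ Nat.card (L 1) := by
        calc p ^ 3 = p * (p * p) := by ring
          _ ≤ p * (p * Nat.card (L 3)) := by gcongr
          _ ≤ p * Nat.card (L 2) := by gcongr
          _ ≤ Nat.card (L 1) := c1
      -- hence `L 1 = N`, which is impossible
      have hLN : L 1 = N := Subgroup.eq_of_le_of_card_ge hL1 (hNcard.trans e)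
      apply hNtop
      have hxF : x' ∈ frattini H := by
        apply CfsgLib.PGroup.commutator_le_frattini (hR.to_subgroup H)
        rw [← Subgroup.top_lowerCentralSeries_one]
        exact hLN.ge (Subgroup.subset_normalClosure rfl)
      have hytop : Subgroup.zpowers y' = ⊤ := by
        apply frattini_nongenerating
        have hsub : H ≤ (Subgroup.zpowers y' ⊔ frattini H).map H.subtype := by
          refine heq.ge.trans ?_
          rw [hD, Subgroup.closure_le]
          intro z hz
          rcases hz with hz | hz <;> rw [hz]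
          · exact ⟨x', Subgroup.mem_sup_right hxF, rfl⟩
          · exact ⟨y', Subgroup.mem_sup_left (Subgroup.mem_zpowers _), rfl⟩
        rw [eq_top_iff]
        intro w _
        obtain ⟨w', hw', he⟩ := hsub w.2
        rwa [← Subtype.ext he]
      exfalso
      have hbot : L 1 = ⊥ := by
        show (⊤ : Subgroup H).lowerCentralSeries 1 = ⊥
        rw [Subgroup.top_lowerCentralSeries_one, commutator_def,
          Subgroup.commutator_eq_bot_iff_le_centralizer, ← hytop]
        exact Subgroup.le_centralizer _
      exact h1 hbot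
    have hpow := CfsgLib.PGroup.mul_pow_eq_one hpp (G := H) (fun c hc g => ?_) (Or.inr hp) x' y'
      (Subtype.ext (by simpa using hxp)) (Subtype.ext (by simpa using hyp))
    · simpa [hx', hy'] using congrArg Subtype.val hpow
    · have hmem : ⁅c, g⁆ ∈ L 2 := by
        show _ ∈ (⊤ : Subgroup H).lowerCentralSeries (1 + 1)
        rw [Subgroup.lowerCentralSeries_succ]
        exact Subgroup.commutator_mem_commutator (by rwa [Subgroup.top_lowerCentralSeries_one])
          (Subgroup.mem_top g)
      refine CfsgLib.PGroup.commutator_central_of_bot ?_ hmem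
      rw [← Subgroup.lowerCentralSeries_succ]
      exact hclass

end Cfsg.Agent.S0128
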