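import Cfsg.Statements.S1459
import Cfsg.Agent.Lib.OddOrder.Fitting
import Cfsg.Agent.Lib.Solvable.CoprimeAbelian
import Cfsg.Agent.Lib.PGroup.Basic

set_option autoImplicit false
open scoped commutatorElement
open Cfsg

namespace Cfsg.Agent.S1459

/-- Let G be a finite solvable group. (a) If H is a normal subgroup of order coprime to its index, K is a complement to H, and H ≤ G', then H = [H, K] and H ∩ C_G(K) ≤ [H, H]. (b) If G' is nilpotent and has prime index in G, then the order of G' is coprime to its index and G' = [G, K] (the subgroup generated by commutators of elements of G with elements of K) for every complement K of G'. -/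
theorem result {G : Type*} [Group G] [Finite G] [Group.IsSolvable G] :
    (∀ (H K : Subgroup G), H.Normal → (Nat.card H).Coprime H.index → Subgroup.IsComplement' H K → H ≤ commutator G →
        H = ⁅H, K⁆ ∧ H ⊓ Subgroup.centralizer (K : Set G) ≤ ⁅H, H⁆) ∧
      (Group.IsNilpotent ↥(commutator G) → (commutator G).index.Prime →
        (Nat.card ↥(commutator G)).Coprime (commutator G).index ∧
        ∀ K : Subgroup G, Subgroup.IsComplement' (commutator G) K → commutator G = ⁅(⊤ : Subgroup G), K⁆) := by
  have hA : ∀ (H K : Subgroup G), H.Normal → (Nat.card H).Coprime H.index →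
      Subgroup.IsComplement' H K → H ≤ commutator G →
      H = ⁅H, K⁆ ∧ H ⊓ Subgroup.centralizer (K : Set G) ≤ ⁅H, H⁆ := by
    intro H K hHn hcop hHK hG'
    have hKH : K ≤ Subgroup.normalizer (H : Set G) := by rw [Subgroup.normalizer_eq_top]; exact le_top
    have hcard : (Nat.card K).Coprime (Nat.card H) := by
      rw [← (Subgroup.IsComplement'.symm hHK).index_eq_card]; exact hcop.symm
    have hle : ⁅H, K⁆ ≤ H := CfsgLib.Solvable.commutator_le_of_normalizes hKH
    haveI hN : (⁅H, K⁆ : Subgroup G).Normal := by
      rw [← Subgroup.normalizer_eq_top_iff, eq_top_iff, ← hHK.sup_eq_top]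
      exact sup_le (CfsgLib.Solvable.le_normalizer_commutator_left H K)
        (CfsgLib.Solvable.le_normalizer_commutator_right H K)
    have h1 : ⁅H, K⁆ = H := by
      set f := QuotientGroup.mk' (⁅H, K⁆ : Subgroup G)
      have hf : Function.Surjective f := QuotientGroup.mk'_surjective _
      have hc : ⁅H.map f, K.map f⁆ = ⊥ := by
        rw [← Subgroup.map_commutator, Subgroup.map_eq_bot_iff, QuotientGroup.ker_mk']
      have htop : H.map f ⊔ K.map f = ⊤ := by
        rw [← Subgroup.map_sup, hHK.sup_eq_top, Subgroup.map_top_of_surjective f hf]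
      haveI : (H.map f).Normal := hHn.map f hf
      haveI : (⁅H.map f, H.map f⁆ : Subgroup _).Normal := inferInstance
      have hcm : ∀ u ∈ H.map f, ∀ v ∈ K.map f, Commute u v := fun u hu v hv =>
        commutatorElement_eq_one_iff_commute.1 (Subgroup.mem_bot.1 (hc ▸
          Subgroup.commutator_mem_commutator hu hv))
      have hsub : commutator (G ⧸ (⁅H, K⁆ : Subgroup G)) ≤ ⁅H.map f, H.map f⁆ ⊔ K.map f := by
        rw [commutator_def, Subgroup.commutator_le]
        intro a _ b _
        obtain ⟨a1, ha1, a2, ha2, rfl⟩ := Subgroup.mem_sup_of_normal_left.1 (htop ▸ Subgroup.mem_top a)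
        obtain ⟨b1, hb1, b2, hb2, rfl⟩ := Subgroup.mem_sup_of_normal_left.1 (htop ▸ Subgroup.mem_top b)
        have hk : ⁅a2, b2⁆ ∈ K.map f :=
          Subgroup.commutator_le_self _ (Subgroup.commutator_mem_commutator ha2 hb2)
        have e : ⁅a1 * a2, b1 * b2⁆ = ⁅a2, b2⁆ * ⁅a1, b1⁆ := by
          rw [commutatorElement_mul_left_eq_conj_mul, commutatorElement_mul_right_eq_mul_conj a1,
            commutatorElement_mul_right_eq_mul_conj a2,
            commutatorElement_eq_one_iff_commute.2 (hcm b1 hb1 a2 ha2).symm,
            commutatorElement_eq_one_iff_commute.2 (hcm a1 ha1 b2 hb2), one_mul,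
            (hcm b1 hb1 _ hk).eq]
          simp only [mul_one, mul_inv_cancel, mul_inv_cancel_right]
          rw [(hcm a1 ha1 _ hk).eq, mul_inv_cancel_right]
        rw [e]
        exact mul_mem (Subgroup.mem_sup_right hk)
          (Subgroup.mem_sup_left (Subgroup.commutator_mem_commutator ha1 hb1))
      have hdis : Disjoint (H.map f) (K.map f) := Subgroup.disjoint_of_coprime_natCard
        ((hcard.coprime_dvd_left (K.card_map_dvd f)).coprime_dvd_right (H.card_map_dvd f)).symm
      have hperf : ⁅H.map f, H.map f⁆ = H.map f := by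
        refine le_antisymm (Subgroup.commutator_le_self _) fun u hu => ?_
        have hu' : u ∈ ⁅H.map f, H.map f⁆ ⊔ K.map f := by
          refine hsub ?_
          obtain ⟨w, hw, rfl⟩ := hu
          have := Subgroup.mem_map_of_mem f (hG' hw)
          rw [commutator_def, Subgroup.map_commutator, Subgroup.map_top_of_surjective f hf] at this
          exact this
        obtain ⟨c, hc', k, hk, rfl⟩ := Subgroup.mem_sup_of_normal_left.1 hu'
        have hkH : k ∈ H.map f := by
          have := mul_mem (inv_mem (Subgroup.commutator_le_self _ hc')) hu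
          simpa using this
        rw [show k = 1 from Subgroup.disjoint_def.1 hdis hkH hk, mul_one]
        exact hc'
      have hbot : H.map f = ⊥ := by
        by_contra hne
        haveI : Group.IsSolvable (G ⧸ (⁅H, K⁆ : Subgroup G)) := Group.isSolvable_of_surjective hf
        haveI : Nontrivial (H.map f) := (Subgroup.nontrivial_iff_ne_bot _).2 hne
        refine (Group.IsSolvable.commutator_lt_top_of_nontrivial (H.map f)).ne
          (Subgroup.map_injective (H.map f).subtype_injective ?_)
        rw [Subgroup.map_subtype_commutator, hperf, ← MonoidHom.range_eq_map, Subgroup.range_subtype]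
      rw [Subgroup.map_eq_bot_iff, QuotientGroup.ker_mk'] at hbot
      exact le_antisymm hle hbot
    refine ⟨h1.symm, ?_⟩
    haveI : (⁅H, H⁆ : Subgroup G).Normal := inferInstance
    set g := QuotientGroup.mk' (⁅H, H⁆ : Subgroup G)
    haveI : IsMulCommutative (H.map g) := by
      rw [← Subgroup.commutator_self_eq_bot_iff, ← Subgroup.map_commutator, Subgroup.map_eq_bot_iff,
        QuotientGroup.ker_mk']
    have h2 := CfsgLib.Solvable.centralizer_inf_commutator_eq_bot
      ((Subgroup.map_mono hKH).trans (Subgroup.le_normalizer_map g))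
      ((hcard.coprime_dvd_left (K.card_map_dvd g)).coprime_dvd_right (H.card_map_dvd g))
    rintro x ⟨hxH, hxC⟩
    rw [← QuotientGroup.eq_one_iff, ← Subgroup.mem_bot, ← h2]
    refine ⟨⟨Subgroup.mem_map_of_mem g hxH, ?_⟩, ?_⟩
    · rintro _ ⟨k, hk, rfl⟩
      show g k * g x = g x * g k
      rw [← map_mul, hxC k hk, map_mul]
    · rw [← Subgroup.map_commutator, h1]
      exact Subgroup.mem_map_of_mem g hxH
  refine ⟨hA, fun hnil hprime => ?_⟩
  set D := commutator G with hD
  set r := D.index
  haveI := Fact.mk hprime
  haveI hnil' := hnil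
  set P := (Cfsg.pPrimeCore r D).map D.subtype with hP
  haveI := CfsgLib.Solvable.pPrimeCore_characteristic r D
  haveI : P.Normal := inferInstanceAs ((Cfsg.pPrimeCore r D).map D.subtype).Normal
  have hPD : P ≤ D := Subgroup.map_subtype_le _
  have hX : IsPGroup r (G ⧸ P) := by
    intro x
    obtain ⟨g, rfl⟩ := QuotientGroup.mk'_surjective P x
    have hg : g ^ r ∈ D := Subgroup.pow_index_mem D g
    refine ⟨1 + (orderOf (g ^ r)).factorization r, ?_⟩
    rw [← map_pow, QuotientGroup.mk'_apply, QuotientGroup.eq_one_iff, pow_add, pow_one, pow_mul]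
    refine ⟨⟨(g ^ r) ^ r ^ (orderOf (g ^ r)).factorization r, pow_mem hg _⟩, ?_, rfl⟩
    rw [CfsgLib.OddOrder.pPrimeCore_eq_piCore]
    refine CfsgLib.OddOrder.mem_piCore_of_nilpotent fun s hs hsd => ⟨hs, fun hsr => ?_⟩
    rw [Subgroup.orderOf_mk, orderOf_pow, Nat.gcd_eq_right (Nat.ordProj_dvd _ _)] at hsd
    rw [(Nat.prime_dvd_prime_iff_eq hs hprime).1 hsr] at hsd
    exact Nat.not_dvd_ordCompl hprime (orderOf_pos (g ^ r)).ne' hsd
  have hDP : D ≤ P := by
    set π := QuotientGroup.mk' P
    have hπ : Function.Surjective π := QuotientGroup.mk'_surjective P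
    have hX' : D.map π = commutator (G ⧸ P) := by
      rw [hD, commutator_def, commutator_def, Subgroup.map_commutator,
        Subgroup.map_top_of_surjective π hπ]
    have hidx : (D.map π).index = r :=
      D.index_map_eq hπ (by rw [QuotientGroup.ker_mk']; exact hPD)
    obtain ⟨x, hx⟩ : ∃ x, x ∉ D.map π := by
      by_contra hcon
      push Not at hcon
      rw [(Subgroup.eq_top_iff' _).2 hcon, Subgroup.index_top] at hidx
      exact hprime.ne_one hidx.symm
    haveI : (D.map π).Normal := by rw [hX']; infer_instance
    have hsup : Subgroup.zpowers x ⊔ D.map π = ⊤ := by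
      have h := Subgroup.index_antitone (le_sup_right : D.map π ≤ Subgroup.zpowers x ⊔ D.map π)
      have hd : (Subgroup.zpowers x ⊔ D.map π).index ∣ r :=
        hidx ▸ Subgroup.index_dvd_of_le le_sup_right
      rcases (Nat.dvd_prime hprime).1 hd with h1 | h1
      · exact Subgroup.index_eq_one.1 h1
      · exfalso
        apply hx
        have : D.map π = Subgroup.zpowers x ⊔ D.map π :=
          Subgroup.eq_of_le_of_card_ge le_sup_right (le_of_eq (by
            have e1 := (D.map π).index_mul_card
            have e2 := (Subgroup.zpowers x ⊔ D.map π).index_mul_card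
            rw [hidx, ← e2, h1] at e1
            exact (Nat.eq_of_mul_eq_mul_left hprime.pos e1).symm))
        rw [this]
        exact Subgroup.mem_sup_left (Subgroup.mem_zpowers x)
    have hgen : Subgroup.zpowers x = ⊤ := by
      refine frattini_nongenerating (eq_top_iff.2 ?_)
      rw [← hsup]
      exact sup_le_sup_left (hX' ▸ CfsgLib.PGroup.commutator_le_frattini hX) _
    have hbot : commutator (G ⧸ P) = ⊥ := by
      rw [commutator_def, Subgroup.commutator_self_eq_bot_iff, ← hgen]
      infer_instance
    rw [← hX', Subgroup.map_eq_bot_iff, QuotientGroup.ker_mk'] at hbot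
    exact hbot
  have hc : (Nat.card D).Coprime r := by
    have h1 : Nat.card P = Nat.card D := by rw [le_antisymm hPD hDP]
    rw [← h1, hP, Subgroup.card_map_of_injective D.subtype_injective]
    exact CfsgLib.Solvable.pPrimeCore_card_coprime r D
  exact ⟨hc, fun K hK => le_antisymm
    (((hA D K inferInstance hc hK le_rfl).1).le.trans (Subgroup.commutator_mono le_top le_rfl))
    (Subgroup.commutator_mono le_rfl le_top)⟩

end Cfsg.Agent.S1459
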