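import Cfsg.Statements.S1460
import Cfsg.Agent.Lib.Solvable.SchurZassenhaus
import Cfsg.Agent.Lib.Solvable.CoprimeAction

set_option autoImplicit false
open scoped commutatorElement Pointwise
open Cfsg

namespace Cfsg.Agent.S1460

/-- Let G be a finite solvable group, K a normal subgroup and U a subgroup with G = KU, and H ≤ U a subgroup whose order is coprime to that of K. Then H ∩ G' = H ∩ U'; N_G(H) is generated by K ∩ C_G(H) and U ∩ N_G(H); and if gHg⁻¹ ≤ U for some g ∈ G then g = u c with u ∈ U and c ∈ K ∩ C_G(H). -/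
theorem result {G : Type*} [Group G] [Finite G] [Group.IsSolvable G] (K U H : Subgroup G) [K.Normal] (hKU : K ⊔ U = ⊤) (hH : H ≤ U) (hcop : (Nat.card H).Coprime (Nat.card K)) :
    H ⊓ commutator G = H ⊓ ⁅U, U⁆ ∧
      Subgroup.normalizer (H : Set G) = (K ⊓ Subgroup.centralizer (H : Set G)) ⊔ (U ⊓ Subgroup.normalizer (H : Set G)) ∧
      ∀ g : G, H.map (MulAut.conj g).toMonoidHom ≤ U → ∃ u ∈ U, ∃ c ∈ K ⊓ Subgroup.centralizer (H : Set G), g = u * c := by
  have hsupU : U ⊔ K = ⊤ := by rw [sup_comm]; exact hKU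
  have key : ∀ g : G, H.map (MulAut.conj g).toMonoidHom ≤ U →
      ∃ u ∈ U, ∃ c ∈ K ⊓ Subgroup.centralizer (H : Set G), g = u * c := by
    intro g hg
    obtain ⟨u0, hu0, k, hk, rfl⟩ := Subgroup.mem_sup_of_normal_right.1 (hsupU ▸ Subgroup.mem_top g)
    have hkH : ∀ h ∈ H, k * h * k⁻¹ ∈ U := fun h hh => by
      have := hg (Subgroup.mem_map_of_mem _ hh)
      have h2 := mul_mem (mul_mem (inv_mem hu0) this) hu0
      simpa [mul_assoc] using h2
    have hHK : H ≤ Subgroup.normalizer ((K ⊓ U : Subgroup G) : Set G) := fun h hh =>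
      Subgroup.inf_normalizer_le_normalizer_inf
        ⟨by rw [Subgroup.normalizer_eq_top]; exact Subgroup.mem_top h, Subgroup.le_normalizer (hH hh)⟩
    have hB : H.map (MulAut.conj k).toMonoidHom ≤ (K ⊓ U) ⊔ H := by
      rintro _ ⟨h, hh, rfl⟩
      have hm : k * h * k⁻¹ * h⁻¹ ∈ K ⊓ U := by
        refine Subgroup.mem_inf.2 ⟨?_, mul_mem (hkH h hh) (inv_mem (hH hh))⟩
        have := mul_mem hk ((inferInstance : K.Normal).conj_mem _ (inv_mem hk) h)
        simpa [mul_assoc] using this
      have e : (MulAut.conj k).toMonoidHom h = k * h * k⁻¹ * h⁻¹ * h := by simp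
      rw [e]
      exact mul_mem (Subgroup.mem_sup_left hm) (Subgroup.mem_sup_right hh)
    obtain ⟨d, hd, he⟩ := CfsgLib.Solvable.exists_conj_eq_of_coprime hHK hB
      (Subgroup.card_map_of_injective (MulAut.conj k).injective)
      (hcop.symm.coprime_dvd_left (Subgroup.card_dvd_of_le inf_le_left)) (Or.inr inferInstance)
    have hdk : d⁻¹ * k ∈ K := mul_mem (inv_mem hd.1) hk
    refine ⟨u0 * d, mul_mem hu0 hd.2, d⁻¹ * k, Subgroup.mem_inf.2 ⟨hdk, ?_⟩, by group⟩
    refine CfsgLib.Solvable.inf_normalizer_le_centralizer (K := K)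
      (by rw [Subgroup.normalizer_eq_top]; exact le_top) (Subgroup.disjoint_of_coprime_natCard hcop)
      (Subgroup.mem_inf.2 ⟨hdk, ?_⟩)
    refine Subgroup.mem_normalizer_fintype fun h hh => ?_
    have hm : k * h * k⁻¹ ∈ MulAut.conj d • H := he.ge (Subgroup.mem_map_of_mem _ hh)
    rw [Subgroup.mem_pointwise_smul_iff_inv_smul_mem] at hm
    simpa [mul_assoc] using hm
  refine ⟨le_antisymm ?_ (inf_le_inf_left _ (Subgroup.commutator_mono le_top le_top)), ?_, key⟩
  · rintro x ⟨hx, hxG⟩
    refine ⟨hx, ?_⟩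
    have hUK : commutator G ≤ ⁅U, U⁆ ⊔ K := by
      set f := QuotientGroup.mk' K
      have htop : U.map f = ⊤ := by
        rw [← Subgroup.map_top_of_surjective f (QuotientGroup.mk'_surjective K), ← hsupU,
          Subgroup.map_sup, (Subgroup.map_eq_bot_iff K).2 (QuotientGroup.ker_mk' K).ge, sup_bot_eq]
      rw [← QuotientGroup.ker_mk' K, ← Subgroup.comap_map_eq, ← Subgroup.map_le_iff_le_comap,
        commutator_def, Subgroup.map_commutator, Subgroup.map_commutator, htop,
        Subgroup.map_top_of_surjective f (QuotientGroup.mk'_surjective K)]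
    obtain ⟨u, hu, k, hk, rfl⟩ := Subgroup.mem_sup_of_normal_right.1 (hUK hxG)
    have hkU : k ∈ U := by
      have := mul_mem (inv_mem (Subgroup.commutator_le_self U hu)) (hH hx)
      simpa using this
    let N : Subgroup U := commutator U
    let π := QuotientGroup.mk' N
    let xU : U := ⟨u * k, hH hx⟩
    have e1 : π xU = π ⟨k, hkU⟩ := by
      show π (⟨u, Subgroup.commutator_le_self U hu⟩ * ⟨k, hkU⟩) = _
      rw [map_mul]
      have : π ⟨u, Subgroup.commutator_le_self U hu⟩ = 1 := by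
        rw [QuotientGroup.mk'_apply, QuotientGroup.eq_one_iff]
        rw [← Subgroup.map_subtype_commutator] at hu
        obtain ⟨w, hw, hwu⟩ := hu
        exact (Subtype.ext hwu : w = ⟨u, _⟩) ▸ hw
      rw [this, one_mul]
    have h1 : orderOf (π xU) ∣ Nat.card H := (orderOf_map_dvd π xU).trans (by
      rw [← Subgroup.orderOf_coe]; exact H.orderOf_dvd_natCard hx)
    have h2 : orderOf (π xU) ∣ Nat.card K := by
      rw [e1]
      exact (orderOf_map_dvd π _).trans (by rw [Subgroup.orderOf_mk]; exact K.orderOf_dvd_natCard hk)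
    have h3 : xU ∈ N := (QuotientGroup.eq_one_iff xU).1
      (orderOf_eq_one_iff.1 (Nat.eq_one_of_dvd_coprimes hcop h1 h2))
    show (xU : G) ∈ ⁅U, U⁆
    rw [← Subgroup.map_subtype_commutator]
    exact Subgroup.mem_map_of_mem U.subtype h3
  · refine le_antisymm (fun g hg => ?_)
      (sup_le (inf_le_right.trans (Subgroup.centralizer_le_normalizer _)) inf_le_right)
    obtain ⟨u, hu, c, hc, rfl⟩ := key g (by
      rintro _ ⟨h, hh, rfl⟩
      exact hH ((Subgroup.mem_normalizer_iff.1 hg h).1 hh))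
    have hcN := Subgroup.centralizer_le_normalizer _ hc.2
    have huN : u ∈ Subgroup.normalizer (H : Set G) := by
      have := mul_mem hg (inv_mem hcN)
      rwa [mul_inv_cancel_right] at this
    exact mul_mem (Subgroup.mem_sup_right ⟨hu, huN⟩) (Subgroup.mem_sup_left hc)

end Cfsg.Agent.S1460
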