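import Cfsg.Statements.S1461
import Cfsg.Agent.S1460
import Cfsg.Agent.Lib.OddOrder.PPrime
import Cfsg.Agent.Lib.PLocal.SylowAux

set_option autoImplicit false
open Cfsg

namespace Cfsg.Agent.S1461

/-- Let G be a finite solvable group, p a prime with G = O_{p',p,p'}(G), and S a Sylow p-subgroup. Then: if S ≤ G' then S ≤ [N_G(S), N_G(S)]; if Y ⊆ S and xYx⁻¹ ⊆ S then x = g c for some g ∈ N_G(S) and c centralizing Y; and for every p-subgroup Q there is x ∈ C_G(Q ∩ S) with xQx⁻¹ ≤ S. -/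
theorem result {G : Type*} [Group G] [Finite G] [Group.IsSolvable G] (p : ℕ) [Fact p.Prime] (hpl : Cfsg.PLengthLE p 1 G) (S : Sylow p G) :
    ((S : Subgroup G) ≤ commutator G → (S : Subgroup G) ≤ ⁅Subgroup.normalizer ((S : Subgroup G) : Set G), Subgroup.normalizer ((S : Subgroup G) : Set G)⁆) ∧
      (∀ (Y : Set G) (x : G), Y ⊆ (S : Subgroup G) → (fun y => x * y * x⁻¹) '' Y ⊆ (S : Subgroup G) →
        ∃ g ∈ Subgroup.normalizer ((S : Subgroup G) : Set G), ∃ c ∈ Subgroup.centralizer Y, g * c = x) ∧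
      ∀ Q : Subgroup G, IsPGroup p Q → ∃ x ∈ Subgroup.centralizer ((Q ⊓ (S : Subgroup G) : Subgroup G) : Set G), Q.map (MulAut.conj x).toMonoidHom ≤ (S : Subgroup G) := by
  haveI := CfsgLib.Solvable.pPrimeCore_normal p G
  set N := Cfsg.pPrimeCore p G with hN
  set M := Cfsg.pPrimePCore p G with hM
  have hSM : (S : Subgroup G) ≤ M := fun s hs =>
    CfsgLib.OddOrder.mem_pPrimePCore_of_plength_one hpl (S.2.to_le (Subgroup.zpowers_le.2 hs))
  haveI hMn : M.Normal := by
    haveI := CfsgLib.Solvable.pCore_normal p (G ⧸ Cfsg.piCore (Cfsg.primesNotDvd p) G)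
    rw [hM, CfsgLib.OddOrder.pPrimePCore_eq_comap_barHom]
    exact Subgroup.Normal.comap inferInstance _
  have hMle : M ≤ N ⊔ (S : Subgroup G) := by
    intro y hy
    rw [hM, CfsgLib.OddOrder.pPrimePCore_eq_comap_barHom, Subgroup.mem_comap] at hy
    have h := CfsgLib.Solvable.pCore_le_sylow
      (S.mapSurjective (CfsgLib.OddOrder.barHom_surjective (Y := G) (p := p))) hy
    rw [Sylow.coe_mapSurjective] at h
    obtain ⟨s, hs, hsy⟩ := h
    have hk : y * s⁻¹ ∈ N := CfsgLib.OddOrder.mem_pPrimeCore_of_barHom_eq_one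
      (by rw [map_mul, map_inv, ← hsy]; exact mul_inv_cancel _)
    rw [show y = y * s⁻¹ * s by group]
    exact mul_mem (Subgroup.mem_sup_left hk) (Subgroup.mem_sup_right hs)
  set U := Subgroup.normalizer ((S : Subgroup G) : Set G) with hU
  have hNU : N ⊔ U = ⊤ := by
    have h := CfsgLib.PLocal.frattini_inf S M
    rw [inf_eq_left.2 hSM] at h
    exact eq_top_iff.2 (h.ge.trans (sup_le (hMle.trans (sup_le_sup_left Subgroup.le_normalizer N)) le_sup_right))
  have hcop : ∀ H : Subgroup G, H ≤ (S : Subgroup G) → (Nat.card H).Coprime (Nat.card N) := by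
    intro H hH
    obtain ⟨k, hk⟩ := (S.2.to_le hH).exists_card_eq
    rw [hk]
    exact (CfsgLib.Solvable.pPrimeCore_card_coprime p G).symm.pow_left k
  have key : ∀ (H : Subgroup G) (g : G), H ≤ (S : Subgroup G) →
      H.map (MulAut.conj g).toMonoidHom ≤ U →
      ∃ u ∈ U, ∃ c ∈ Subgroup.centralizer (H : Set G), g = u * c := by
    intro H g hH hg
    obtain ⟨u, hu, c, hc, rfl⟩ := (Cfsg.Agent.S1460.result N U H hNU
      (hH.trans Subgroup.le_normalizer) (hcop H hH)).2.2 g hg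
    exact ⟨u, hu, c, hc.2, rfl⟩
  refine ⟨fun hS => ?_, fun Y x hY hxY => ?_, fun Q hQ => ?_⟩
  · have h := (Cfsg.Agent.S1460.result N U (S : Subgroup G) hNU Subgroup.le_normalizer
      (hcop _ le_rfl)).1
    rw [inf_eq_left.2 hS] at h
    exact h.le.trans inf_le_right
  · obtain ⟨u, hu, c, hc, rfl⟩ := key (Subgroup.closure Y) x ((Subgroup.closure_le _).2 hY) (by
      rw [MonoidHom.map_closure, Subgroup.closure_le]
      rintro _ ⟨y, hy, rfl⟩
      exact Subgroup.le_normalizer (hxY ⟨y, hy, rfl⟩))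
    exact ⟨u, hu, c, fun y hy => hc y (Subgroup.subset_closure hy), rfl⟩
  · obtain ⟨T, hT⟩ := hQ.exists_le_sylow
    obtain ⟨g, hg⟩ := MulAction.exists_smul_eq G T S
    have hgS : ∀ t ∈ Q, g * t * g⁻¹ ∈ (S : Subgroup G) := fun t ht => by
      rw [← hg]
      exact Subgroup.smul_mem_pointwise_smul t (MulAut.conj g) _ (hT ht)
    obtain ⟨u, hu, c, hc, rfl⟩ := key (Q ⊓ (S : Subgroup G)) g inf_le_right (by
      rintro _ ⟨t, ht, rfl⟩
      exact Subgroup.le_normalizer (hgS t ht.1))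
    refine ⟨c, hc, ?_⟩
    rintro _ ⟨t, ht, rfl⟩
    refine (Subgroup.mem_normalizer_iff.1 hu _).2 ?_
    have := hgS t ht
    simpa [mul_assoc] using this

end Cfsg.Agent.S1461
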