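import Cfsg.Statements.S3771
import Mathlib

set_option autoImplicit false
open Cfsg
open scoped commutatorElement

namespace Cfsg.Agent.S3771

/-- A nontrivial normal subgroup of a finite `p`-group meets the centre nontrivially. -/
theorem inter_center {R : Type*} [Group R] [Finite R] {p : ℕ} [Fact p.Prime] (hR : IsPGroup p R)
    (N : Subgroup R) [N.Normal] (hN : N ≠ ⊥) : ∃ z : R, z ≠ 1 ∧ z ∈ N ⊓ Subgroup.center R := by
  by_contra hno
  push Not at hno
  obtain ⟨c, hc⟩ := Subgroup.nilpotent_iff_lowerCentralSeries.1 hR.isNilpotent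
  have key : ∀ m, N ⊓ (⊤ : Subgroup R).lowerCentralSeries m = ⊥ → ∀ k ≤ m,
      N ⊓ (⊤ : Subgroup R).lowerCentralSeries (m - k) = ⊥ := by
    intro m hm k
    induction k with
    | zero => intro _; simpa using hm
    | succ k ih =>
      intro hk
      refine eq_bot_iff.2 fun y hy => ?_
      by_contra hy1
      refine hno y (by simpa using hy1) ⟨hy.1, Subgroup.mem_center_iff.2 fun g => ?_⟩
      have hc2 : ⁅y, g⁆ ∈ N ⊓ (⊤ : Subgroup R).lowerCentralSeries (m - k) := by
        refine ⟨Subgroup.commutator_le_left N ⊤ (Subgroup.commutator_mem_commutator hy.1 trivial), ?_⟩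
        have h2 := Subgroup.commutator_mem_commutator hy.2 (show g ∈ (⊤ : Subgroup R) from trivial)
        rwa [← Subgroup.lowerCentralSeries_succ, show m - (k + 1) + 1 = m - k by omega] at h2
      rw [ih (by omega), Subgroup.mem_bot, commutatorElement_eq_one_iff_mul_comm] at hc2
      exact hc2.symm
  refine hN ?_
  have := key c (by rw [hc]; simp) c le_rfl
  simpa using this


/-- Let p be a prime and R a finite p-group of p-rank at most 2 (no elementary abelian subgroup of order p³) in which every element has order dividing p. Then R has order at most p³. -/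
theorem result {R : Type*} [Group R] [Finite R] {p : ℕ} [Fact p.Prime] (hR : IsPGroup p R) (hrank : Cfsg.PRankLE p 2 R) (hexp : ∀ x : R, x ^ p = 1) : Nat.card R ≤ p ^ 3 := by
  obtain ⟨A, ⟨hAn, hAc⟩, hmax⟩ := Set.Finite.exists_maximal
    (s := {A : Subgroup R | A.Normal ∧ ∀ a ∈ A, ∀ b ∈ A, a * b = b * a}) (Set.toFinite _)
    ⟨⊥, Subgroup.normal_bot, by simp⟩
  have := hAn
  have hself : Subgroup.centralizer (A : Set R) ≤ A := by
    by_contra hne
    set C := Subgroup.centralizer (A : Set R)
    have hCn : C.Normal := Subgroup.normal_centralizer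
    have hCA : A ≤ C := fun a ha => Subgroup.mem_centralizer_iff.2 fun b hb => hAc b hb a ha
    have h1 : C.map (QuotientGroup.mk' A) ≠ ⊥ := by
      rw [Ne, Subgroup.map_eq_bot_iff, QuotientGroup.ker_mk']
      exact hne
    have hQn : (C.map (QuotientGroup.mk' A)).Normal := hCn.map _ (QuotientGroup.mk'_surjective A)
    have hQ : IsPGroup p (R ⧸ A) := hR.to_quotient A
    obtain ⟨z, hz1, hz⟩ : ∃ z : R ⧸ A, z ≠ 1 ∧ z ∈ C.map (QuotientGroup.mk' A) ⊓ Subgroup.center (R ⧸ A) :=
      inter_center hQ _ h1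
    obtain ⟨c, hc, rfl⟩ := hz.1
    have hcA : c ∉ A := fun h => hz1 ((QuotientGroup.eq_one_iff c).2 h)
    let A' : Subgroup R := (Subgroup.zpowers ((c : R) : R ⧸ A)).comap (QuotientGroup.mk' A)
    have hA'n : A'.Normal := by
      refine Subgroup.Normal.comap ⟨fun y hy g => ?_⟩ _
      obtain ⟨k, rfl⟩ := hy
      have hcen : ((c : R) : R ⧸ A) ^ k ∈ Subgroup.center (R ⧸ A) :=
        Subgroup.zpow_mem (Subgroup.center (R ⧸ A)) hz.2 k
      rw [Subgroup.mem_center_iff.1 hcen g, mul_inv_cancel_right]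
      exact ⟨k, rfl⟩
    have hle : A ≤ A' := fun a ha => by
      show (a : R ⧸ A) ∈ Subgroup.zpowers ((c : R) : R ⧸ A)
      rw [(QuotientGroup.eq_one_iff a).2 ha]
      exact one_mem _
    have hform : ∀ y ∈ A', ∃ k : ℤ, ∃ a ∈ A, y = c ^ k * a := by
      intro y hy
      obtain ⟨k, hk⟩ := hy
      refine ⟨k, (c ^ k)⁻¹ * y, ?_, by group⟩
      rw [← QuotientGroup.eq_one_iff, QuotientGroup.mk_mul, QuotientGroup.mk_inv, QuotientGroup.mk_zpow]
      exact inv_mul_eq_one.2 hk
    have hc' : ∀ a ∈ A, Commute c a := fun a ha => ((Subgroup.mem_centralizer_iff.1 hc) a ha).symm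
    have hA'c : ∀ a ∈ A', ∀ b ∈ A', a * b = b * a := by
      intro x hx y hy
      obtain ⟨i, a, ha, rfl⟩ := hform x hx
      obtain ⟨j, b, hb, rfl⟩ := hform y hy
      exact ((((Commute.refl c).zpow_zpow i j).mul_right ((hc' b hb).zpow_left i)).mul_left
        (((hc' a ha).zpow_left j).symm.mul_right (hAc a ha b hb))).eq
    exact hcA (hmax ⟨hA'n, hA'c⟩ hle (show (c : R ⧸ A) ∈ _ from Subgroup.mem_zpowers _))
  have hAcard : Nat.card A ≤ p ^ 2 :=
    hrank A ⟨⟨fun a b => Subtype.ext (hAc a a.2 b b.2)⟩⟩ (fun a _ => hexp a)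
  have hpp : p.Prime := Fact.out
  rcases eq_or_ne A ⊥ with rfl | hAb
  · have : Subgroup.centralizer ((⊥ : Subgroup R) : Set R) = ⊤ :=
      eq_top_iff.2 fun x _ => Subgroup.mem_centralizer_iff.2 (by simp)
    rw [this, top_le_iff] at hself
    rw [← Subgroup.card_top, ← hself, Subgroup.card_bot]
    exact Nat.one_le_pow _ _ hpp.pos
  obtain ⟨z, hz1, hz⟩ := inter_center hR A hAb
  have hzord : orderOf z = p := orderOf_eq_prime (hexp z) hz1
  have hZcard : Nat.card (Subgroup.zpowers z) = p := by rw [Nat.card_zpowers, hzord]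
  have hZA : Subgroup.zpowers z ≤ A := Subgroup.zpowers_le.2 hz.1
  by_cases hsmall : A ≤ Subgroup.zpowers z
  · have hAtop : A = ⊤ := top_le_iff.1 fun x _ => hself (Subgroup.mem_centralizer_iff.2 fun a ha => by
      obtain ⟨k, rfl⟩ := hsmall ha
      exact (Subgroup.mem_center_iff.1 (Subgroup.zpow_mem (Subgroup.center R) hz.2 k) x).symm)
    rw [← Subgroup.card_top, ← hAtop]
    exact hAcard.trans (Nat.pow_le_pow_right hpp.pos (by norm_num))
  obtain ⟨a, haA, haz⟩ := SetLike.not_le_iff_exists.1 hsmall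
  have hgen : Subgroup.zpowers z ⊔ Subgroup.zpowers a = A := by
    refine Subgroup.eq_of_le_of_card_ge (sup_le hZA (Subgroup.zpowers_le.2 haA)) ?_
    have hlt : Subgroup.zpowers z < Subgroup.zpowers z ⊔ Subgroup.zpowers a :=
      lt_of_le_of_ne le_sup_left fun h =>
        haz (h.ge (Subgroup.mem_sup_right (Subgroup.mem_zpowers a)))
    obtain ⟨i, hi⟩ := (hR.to_subgroup (Subgroup.zpowers z ⊔ Subgroup.zpowers a)).exists_card_eq
    have h1 := Set.Finite.card_lt_card (Set.toFinite _) (show (Subgroup.zpowers z : Set R) ⊂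
      ((Subgroup.zpowers z ⊔ Subgroup.zpowers a : Subgroup R) : Set R) from hlt)
    change Nat.card (Subgroup.zpowers z) < Nat.card ↥(Subgroup.zpowers z ⊔ Subgroup.zpowers a) at h1
    rw [hi, hZcard] at h1
    have : 2 ≤ i := by
      by_contra hh
      have := Nat.pow_le_pow_right hpp.pos (show i ≤ 1 by omega)
      rw [pow_one] at this
      omega
    rw [hi]
    exact hAcard.trans (Nat.pow_le_pow_right hpp.pos this)
  have hCa : Subgroup.centralizer ({a} : Set R) ≤ A := by
    intro x hx
    apply hself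
    have hx' : Commute x a := (Subgroup.mem_centralizer_iff.1 hx a rfl).symm
    have : A ≤ Subgroup.centralizer ({x} : Set R) := by
      rw [← hgen, sup_le_iff, Subgroup.zpowers_le, Subgroup.zpowers_le]
      refine ⟨Subgroup.mem_centralizer_iff.2 ?_, Subgroup.mem_centralizer_iff.2 ?_⟩
      · intro y hy; rw [Set.mem_singleton_iff.1 hy]; exact Subgroup.mem_center_iff.1 hz.2 x
      · intro y hy; rw [Set.mem_singleton_iff.1 hy]; exact hx'
    exact Subgroup.mem_centralizer_iff.2 fun b hb => (Subgroup.mem_centralizer_iff.1 (this hb) x rfl).symm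
  -- the class of `a` lies in `A \ {1}`, so has at most `p` elements
  set O := MulAction.orbit (ConjAct R) a
  have hOA : O ⊆ (A : Set R) \ {1} := by
    rintro _ ⟨g, rfl⟩
    refine ⟨hAn.conj_mem a haA _, fun h => haz ?_⟩
    have : a = 1 := by
      have h' := congrArg (g⁻¹ • ·) h
      simpa using h'
    rw [this]; exact one_mem _
  have hOlt : Nat.card O < p ^ 2 := by
    refine lt_of_lt_of_le ?_ hAcard
    refine Set.Finite.card_lt_card (Set.toFinite _) ⟨hOA.trans Set.sdiff_subset, fun h => ?_⟩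
    exact (hOA (h (one_mem A))).2 rfl
  have horb : (Subgroup.centralizer ({a} : Set R)).index = Nat.card O := by
    have h1 := MulAction.index_stabilizer (ConjAct R) a
    rw [ConjAct.stabilizer_eq_centralizer] at h1
    exact h1.trans (Nat.card_coe_set_eq _).symm
  obtain ⟨i, hi⟩ := hR.index (Subgroup.centralizer ({a} : Set R))
  have hi1 : p ^ i ≤ p := by
    rw [← horb, hi] at hOlt
    have := (Nat.pow_lt_pow_iff_right hpp.one_lt).1 hOlt
    exact (Nat.pow_le_pow_right hpp.pos (show i ≤ 1 by omega)).trans_eq (pow_one p)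
  rw [← Subgroup.index_mul_card (Subgroup.centralizer ({a} : Set R)), hi, pow_succ']
  exact Nat.mul_le_mul hi1 ((Subgroup.card_le_of_le hCa).trans hAcard)

end Cfsg.Agent.S3771
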