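import Cfsg.Statements.S1448
import Cfsg.Agent.Lib.OddOrder.OperatorCube

set_option autoImplicit false
open Cfsg

namespace Cfsg.Agent.S1448

/-- Let G be a finite group, p an odd prime, R a nontrivial p-subgroup with no elementary abelian subgroup of order p ^ 3, and A a subgroup of odd order coprime to p normalizing R with [R, A] = R. Then 3 < p, and either R is abelian or R is generated by two elementwise-commuting subgroups R₁, R₂ with R₁ non-abelian of order p ^ 3 and exponent p, R₂ cyclic, and the elements of R₂ of order dividing p generating exactly [R₁, R₁]. -/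
theorem result {G : Type*} [Group G] [Finite G] (p : ℕ) [Fact p.Prime] (hp : p ≠ 2) (R A : Subgroup G) (hR : IsPGroup p R) (hR1 : R ≠ ⊥) (hr : Cfsg.PRankLE p 2 R)
    (hA : (A ≤ Subgroup.normalizer (R : Set G))) (hcop : (Nat.card A).Coprime p) (hAodd : Odd (Nat.card A)) (hRA : ⁅R, A⁆ = R) :
    3 < p ∧ (IsMulCommutative R ∨ ∃ R₁ R₂ : Subgroup G, R₁ ⊔ R₂ = R ∧ (∀ a ∈ R₁, ∀ b ∈ R₂, a * b = b * a) ∧
        ¬ IsMulCommutative R₁ ∧ Nat.card R₁ = p ^ 3 ∧ Monoid.exponent R₁ = p ∧ IsCyclic R₂ ∧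
        Subgroup.closure {x : G | x ∈ R₂ ∧ x ^ p = 1} = ⁅R₁, R₁⁆) := by
  haveI : Nontrivial R := R.nontrivial_iff_ne_bot.2 hR1
  let φ : A →* MulAut R := R.normalizerMonoidHom.comp (Subgroup.inclusion hA)
  have hφ : ∀ (a : A) (x : R), ((φ a x : R) : G) = a * x * (a : G)⁻¹ := fun _ _ => rfl
  have hnt : CfsgLib.OddOrder.Operator.NoTrivialQuotient φ := by
    intro D _ _ hdisp
    have hle : ⁅R, A⁆ ≤ D.map R.subtype := by
      rw [Subgroup.commutator_le]
      intro r hr' a ha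
      refine ⟨_, inv_mem (hdisp ⟨a, ha⟩ ⟨r, hr'⟩), ?_⟩
      simp only [map_inv, map_mul, Subgroup.coe_subtype, hφ, commutatorElement_def]
      group
    rw [hRA] at hle
    refine eq_top_iff.2 fun x _ => ?_
    obtain ⟨y, hy, he⟩ := hle x.2
    exact (R.subtype_injective he) ▸ hy
  obtain ⟨hp3, h⟩ := CfsgLib.OddOrder.Operator.structure_of_rankTwo (φ := φ) hp hR hr hAodd hcop hnt
  refine ⟨hp3, h.imp id ?_⟩
  rintro ⟨E, C, hsup, hcomm, hna, hE, hexp, hC, hcl⟩
  have eE := E.equivMapOfInjective R.subtype R.subtype_injective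
  have eC := C.equivMapOfInjective R.subtype R.subtype_injective
  refine ⟨E.map R.subtype, C.map R.subtype, ?_, ?_, ?_, ?_, ?_, ?_, ?_⟩
  · rw [← Subgroup.map_sup, hsup, ← MonoidHom.range_eq_map, Subgroup.range_subtype]
  · rintro _ ⟨a, ha, rfl⟩ _ ⟨b, hb, rfl⟩
    rw [← map_mul, hcomm a ha b hb, map_mul]
  · exact fun h => hna ⟨⟨fun a b => eE.injective (by rw [map_mul, map_mul, h.is_comm.comm])⟩⟩
  · rw [Subgroup.card_map_of_injective R.subtype_injective, hE]
  · rw [← Monoid.exponent_eq_of_mulEquiv eE, hexp]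
  · exact eC.isCyclic.1 hC
  · rw [← Subgroup.map_commutator, ← hcl, MonoidHom.map_closure]
    congr 1
    ext x
    constructor
    · rintro ⟨⟨c, hc, rfl⟩, hx⟩
      exact ⟨c, ⟨hc, R.subtype_injective (by rw [map_pow, hx, map_one])⟩, rfl⟩
    · rintro ⟨c, ⟨hc, hcp⟩, rfl⟩
      exact ⟨⟨c, hc, rfl⟩, by rw [← map_pow, hcp, map_one]⟩

end Cfsg.Agent.S1448
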