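import Cfsg.Statements.S1412
import Cfsg.Agent.Lib.OddOrder.PLengthOne
import Cfsg.Agent.S1448

set_option autoImplicit false
open Cfsg
open Subgroup
open scoped commutatorElement

namespace Cfsg.Agent.S1412

/-- Let G be a minimal simple group of odd order, p a prime and P a Sylow p-subgroup of G with no elementary abelian subgroup of order p ^ 3. Then either P is abelian, or P is generated by two elementwise-commuting subgroups P₁, P₂ with P₁ nonabelian of order p ^ 3 and exponent p, P₂ cyclic, and the elements of P₂ of order dividing p generating exactly the centre of P₁. -/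
theorem result {G : Type*} [Group G] [Finite G] (hG : Cfsg.IsMinSimpleOddOrder G) (p : ℕ) [Fact p.Prime] (P : Sylow p G) (hr : Cfsg.PRankLE p 2 (P : Subgroup G)) :
    IsMulCommutative (P : Subgroup G) ∨ ∃ P₁ P₂ : Subgroup G, P₁ ⊔ P₂ = (P : Subgroup G) ∧ (∀ a ∈ P₁, ∀ b ∈ P₂, a * b = b * a) ∧
        ¬ IsMulCommutative P₁ ∧ Nat.card P₁ = p ^ 3 ∧ Monoid.exponent P₁ = p ∧ IsCyclic P₂ ∧
        Subgroup.closure {x : G | x ∈ P₂ ∧ x ^ p = 1} = P₁ ⊓ Subgroup.centralizer (P₁ : Set G) := by
  by_cases hP : (P : Subgroup G) = ⊥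
  · left
    rw [hP]; infer_instance
  set N := Subgroup.normalizer ((P : Subgroup G) : Set G) with hN
  have hPN : (P : Subgroup G) ≤ N := Subgroup.le_normalizer
  haveI : ((P : Subgroup G).subgroupOf N).Normal := Subgroup.normal_in_normalizer
  have hcopN : (Nat.card ((P : Subgroup G).subgroupOf N)).Coprime ((P : Subgroup G).subgroupOf N).index :=
    (P.subtype hPN).card_coprime_index
  obtain ⟨V', hV'⟩ := Subgroup.exists_right_complement'_of_coprime hcopN
  set V := V'.map N.subtype with hVdef
  have hVN : V ≤ N := Subgroup.map_subtype_le _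
  have hV : Cfsg.IsComplIn (P : Subgroup G) V N := by
    refine ⟨hPN, hVN, eq_bot_iff.2 ?_, fun m hm => ?_⟩
    · rintro _ ⟨ht, v, hv, rfl⟩
      have h2 : v ∈ (P : Subgroup G).subgroupOf N ⊓ V' := ⟨ht, hv⟩
      rw [hV'.disjoint.eq_bot, Subgroup.mem_bot] at h2
      rw [h2]; exact one_mem _
    · obtain ⟨⟨⟨a, ha⟩, b⟩, hab⟩ := hV'.2 ⟨m, hm⟩
      exact ⟨a, ha, _, ⟨b, b.2, rfl⟩, (congrArg Subtype.val hab).symm⟩
  have hPV := CfsgLib.OddOrder.sylow_eq_commutator_complement hG P V hV
  have hp2 : p ≠ 2 := by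
    refine CfsgLib.OddOrder.prime_ne_two_of_dvd_card hG (H := (P : Subgroup G)) ?_
    obtain ⟨n, hn⟩ := P.isPGroup'.exists_card_eq
    exact hn ▸ dvd_pow_self p fun h0 => hP (Subgroup.card_eq_one.1 (by rw [hn, h0, pow_zero]))
  have hVc : (Nat.card V).Coprime p := by
    rw [Nat.card_congr (Subgroup.equivMapOfInjective _ _ N.subtype_injective).symm.toEquiv,
      ← hV'.symm.index_eq_card]
    exact (((Fact.out : p.Prime).coprime_iff_not_dvd).2 (P.subtype hPN).not_dvd_index).symm
  rcases (Cfsg.Agent.S1448.result p hp2 (P : Subgroup G) V P.isPGroup' hP hr hVN hVc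
    (CfsgLib.OddOrder.odd_card_subgroup hG V) hPV.symm).2 with h | ⟨R₁, R₂, h1, h2, h3, h4, h5, h6, h7⟩
  · exact Or.inl h
  right
  refine ⟨R₁, R₂, h1, h2, h3, h4, h5, h6, h7.trans ?_⟩
  have hR1p : IsPGroup p R₁ := IsPGroup.of_card h4
  -- the centre and the derived group both have order `p`
  set Z := Subgroup.center R₁
  haveI : Nontrivial R₁ := Finite.one_lt_card_iff_nontrivial.1
    (by rw [h4]; exact Nat.one_lt_pow (by norm_num) (Fact.out : p.Prime).one_lt)
  have hnc : ¬ ∀ a b : R₁, a * b = b * a := fun h => h3 ⟨⟨h⟩⟩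
  have hquot : p ^ 2 ≤ Nat.card (R₁ ⧸ Z) := by
    by_contra hlt
    push Not at hlt
    obtain ⟨k, hk⟩ := (hR1p.to_quotient Z).exists_card_eq
    rw [hk] at hlt
    have hk2 : k ≤ 1 := by
      have := (Nat.pow_lt_pow_iff_right (Fact.out : p.Prime).one_lt).1 hlt
      omega
    haveI : IsCyclic (R₁ ⧸ Z) := by
      rcases k with _ | k
      · haveI : Subsingleton (R₁ ⧸ Z) := (Nat.card_eq_one_iff_unique.1 (by rw [hk, pow_zero])).1
        infer_instance
      · exact isCyclic_of_prime_card (by rw [hk, show k = 0 by omega, pow_one])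
    refine hnc fun a b => ?_
    exact commutative_of_cyclic_center_quotient (QuotientGroup.mk' Z) (by rw [QuotientGroup.ker_mk']) a b
  have hZcard : Nat.card Z = p := by
    have h := Subgroup.card_eq_card_quotient_mul_card_subgroup Z
    rw [h4] at h
    haveI := hR1p.center_nontrivial
    have h1' : 1 < Nat.card Z := Finite.one_lt_card
    obtain ⟨j, hj⟩ := (hR1p.to_subgroup Z).exists_card_eq
    obtain ⟨k, hk⟩ := (hR1p.to_quotient Z).exists_card_eq
    rw [hj, hk, ← pow_add] at h
    rw [hk] at hquot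
    have := (Nat.pow_le_pow_iff_right (Fact.out : p.Prime).one_lt).1 hquot
    have h3' := Nat.pow_right_injective (Fact.out : p.Prime).two_le h
    have hj0 : j ≠ 0 := by
      rintro rfl
      rw [hj, pow_zero] at h1'
      exact lt_irrefl 1 h1'
    rw [hj, show j = 1 by omega, pow_one]
  have hcomm : commutator R₁ = Z := by
    have hle : commutator R₁ ≤ Z := by
      have hab : ∀ a b : R₁ ⧸ Z, a * b = b * a := by
        intro a b
        have hk : Nat.card (R₁ ⧸ Z) = p ^ 2 := by
          have h := Subgroup.card_eq_card_quotient_mul_card_subgroup Z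
          rw [h4, hZcard, pow_succ] at h
          exact (Nat.eq_of_mul_eq_mul_right (Fact.out : p.Prime).pos h).symm
        exact (IsPGroup.commutative_of_card_eq_prime_sq hk) a b
      rw [commutator_def, Subgroup.commutator_le]
      intro a _ b _
      rw [← QuotientGroup.eq_one_iff (N := Z)]
      show QuotientGroup.mk' Z ⁅a, b⁆ = 1
      rw [map_commutatorElement, commutatorElement_eq_one_iff_commute]
      exact hab _ _
    have hne : commutator R₁ ≠ ⊥ := by
      intro hb
      refine hnc fun a b => ?_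
      rw [← commutatorElement_eq_one_iff_mul_comm, ← Subgroup.mem_bot, ← hb, commutator_def]
      exact Subgroup.commutator_mem_commutator (Subgroup.mem_top _) (Subgroup.mem_top _)
    refine Subgroup.eq_of_le_of_card_ge hle ?_
    rw [hZcard]
    obtain ⟨j, hj⟩ := (hR1p.to_subgroup (commutator R₁)).exists_card_eq
    rcases j with _ | j
    · exact absurd (Subgroup.card_eq_one.1 (hj.trans (pow_zero p))) hne
    · rw [hj]; exact Nat.le_self_pow j.succ_ne_zero p
  rw [← map_subtype_commutator, hcomm]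
  ext t
  constructor
  · rintro ⟨z, hz, rfl⟩
    exact ⟨z.2, Subgroup.mem_centralizer_iff.2 fun g hg =>
      congrArg Subtype.val (Subgroup.mem_center_iff.1 hz ⟨g, hg⟩)⟩
  · rintro ⟨ht, htc⟩
    exact ⟨⟨t, ht⟩, Subgroup.mem_center_iff.2 fun g => Subtype.ext (Subgroup.mem_centralizer_iff.1 htc g g.2), rfl⟩

end Cfsg.Agent.S1412
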