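import Cfsg.Statements.S1352
import Cfsg.Agent.Lib.OddOrder.KappaStructure

set_option autoImplicit false
open Cfsg

namespace Cfsg.Agent.S1352

/-- Let G be a minimal simple group of odd order, M a maximal subgroup and K a cyclic Hall κ(M)-subgroup of M. Then there is a subgroup U of M, normalized by K, with U ∩ K M_σ = 1 and M = U K M_σ; moreover U M_σ is normal in M for any such U. -/
theorem result {G : Type*} [Group G] [Finite G] (hG : Cfsg.IsMinSimpleOddOrder G)
    (M : Subgroup G) (hM : IsCoatom M) (K : Subgroup G)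
    (hKc : IsCyclic K) (hK : Cfsg.IsPiHallOf (Cfsg.kappa M) K M) :
    (∃ U : Subgroup G, Cfsg.IsSigmaDecomposition M K U) ∧
      ∀ U : Subgroup G, Cfsg.IsSigmaDecomposition M K U → M ≤ Subgroup.normalizer ((U ⊔ Cfsg.sigmaCore M : Subgroup G) : Set G) := by
  refine ⟨CfsgLib.OddOrder.exists_sigma_decomposition hG hM hKc hK, fun U hKU m hm => ?_⟩
  obtain ⟨u, hu, b, hb, rfl⟩ := hKU.compl.2.2.2 m hm
  have hle : K ⊔ Cfsg.sigmaCore M ≤
      Subgroup.normalizer ((U ⊔ Cfsg.sigmaCore M : Subgroup G) : Set G) := by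
    refine sup_le (le_trans (le_inf hKU.normal ?_)
      (Subgroup.normalizer_inf_normalizer_le_normalizer_sup _ _))
      (le_sup_right.trans Subgroup.le_normalizer)
    exact hK.1.trans (CfsgLib.OddOrder.le_normalizer_piCoreOf _ _)
  exact Subgroup.mul_mem _ (Subgroup.le_normalizer (Subgroup.mem_sup_left hu)) (hle hb)

end Cfsg.Agent.S1352
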