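import Cfsg.Statements.S1446
import Cfsg.Agent.Lib.Frobenius.SmallFixed
import Cfsg.Agent.Lib.Solvable.CoprimeAction

set_option autoImplicit false
set_option linter.style.haveILetI false
open Cfsg

namespace Cfsg.Agent.S1446

open Subgroup
open scoped commutatorElement

universe u

/-- A normal elementary abelian central piece of a nontrivial nilpotent normal subgroup. -/
theorem exists_central_piece {X : Type u} [Group X] [Finite X] (M : Subgroup X) [M.Normal]
    (hM : M ≠ ⊥) (hMn : Group.IsNilpotent M) :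
    ∃ (ℓ : ℕ) (V : Subgroup X), ℓ.Prime ∧ V.Normal ∧ V ≤ M ∧ V ≠ ⊥ ∧
      Cfsg.IsElementaryAbelian ℓ V ∧ ℓ ∣ Nat.card M := by
  haveI : Nontrivial M := (nontrivial_iff_ne_bot M).2 hM
  haveI := hMn
  haveI : Nontrivial (center M) := (nontrivial_iff_ne_bot _).2 (Group.IsNilpotent.center_ne_bot M)
  obtain ⟨ℓ, hℓ, hdvd⟩ := Nat.exists_prime_and_dvd (Finite.one_lt_card (α := center M)).ne'
  haveI := Fact.mk hℓ
  obtain ⟨z, hz⟩ := exists_prime_orderOf_dvd_card' ℓ hdvd
  let V : Subgroup X :=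
    { carrier := {v | v ∈ M ∧ (∀ m ∈ M, m * v = v * m) ∧ v ^ ℓ = 1}
      one_mem' := ⟨M.one_mem, fun m _ => by simp, one_pow _⟩
      mul_mem' := fun {a b} ha hb => ⟨M.mul_mem ha.1 hb.1, fun m hm =>
        (Commute.mul_right (ha.2.1 m hm) (hb.2.1 m hm) : Commute m (a * b)),
        by rw [(show Commute a b from (ha.2.1 b hb.1).symm).mul_pow, ha.2.2, hb.2.2, one_mul]⟩
      inv_mem' := fun {a} ha => ⟨M.inv_mem ha.1, fun m hm => (Commute.inv_right (ha.2.1 m hm) : Commute m a⁻¹),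
        by rw [inv_pow, ha.2.2, inv_one]⟩ }
  refine ⟨ℓ, V, hℓ, ⟨fun v hv g => ⟨Normal.conj_mem ‹_› v hv.1 g, fun m hm => ?_, by rw [conj_pow, hv.2.2]; group⟩⟩,
    fun v hv => hv.1, fun h => ?_, ⟨⟨⟨fun a b => Subtype.ext ((a.2.2.1 b b.2.1).symm)⟩⟩, fun v hv => hv.2.2⟩,
    hdvd.trans (card_subgroup_dvd_card _)⟩
  · have h1 := hv.2.1 (g⁻¹ * m * g) (by simpa using Normal.conj_mem ‹_› m hm g⁻¹)
    calc m * (g * v * g⁻¹) = g * ((g⁻¹ * m * g) * v) * g⁻¹ := by group
      _ = g * v * g⁻¹ * m := by rw [h1]; group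
  · have hzV : ((z : M) : X) ∈ V := ⟨(z : M).2,
      fun m hm => congrArg Subtype.val (mem_center_iff.1 z.2 ⟨m, hm⟩), by
        have := pow_orderOf_eq_one z
        rw [hz] at this
        exact congrArg Subtype.val (congrArg Subtype.val this)⟩
    rw [h, mem_bot] at hzV
    exact hℓ.ne_one (by rw [← hz, show z = 1 from Subtype.ext (Subtype.ext hzV), orderOf_one])

theorem aux : ∀ (n : ℕ) (X : Type u) [Group X] [Finite X] (K R M : Subgroup X) [M.Normal],
    Nat.card M = n → K ≠ ⊥ → R ≠ ⊥ → K ⊓ R = ⊥ → R ≤ normalizer (K : Set X) →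
    (∀ r ∈ R, r ≠ 1 → K ⊓ centralizer ({r} : Set X) = ⊥) →
    Group.IsNilpotent M → (Nat.card ↥(K ⊔ R)).Coprime (Nat.card M) →
    M ⊓ centralizer (K : Set X) = ⊥ →
    (∀ x ∈ R, x ≠ 1 → M ⊓ centralizer ({x} : Set X) = M ⊓ centralizer (R : Set X)) →
    (M ≠ ⊥ → (Nat.card R).Prime) ∧
      Nat.card M = Nat.card ↥(M ⊓ centralizer (R : Set X)) ^ Nat.card R ∧
      (IsCyclic ↥(M ⊓ centralizer (R : Set X)) → ⁅K, K⁆ ≤ centralizer (M : Set X)) := by
  intro n
  induction n using Nat.strong_induction_on with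
  | _ n ih =>
  intro X _ _ K R M _ hn hK1 hR1 hKR hRK hfrob hMn hcop hCK hpr
  by_cases hM1 : M = ⊥
  · subst hM1
    refine ⟨fun h => absurd rfl h, ?_, fun _ => ?_⟩
    · rw [bot_inf_eq, card_bot, one_pow]
    · intro a _ b hb
      rw [SetLike.mem_coe, mem_bot] at hb
      subst hb; simp
  obtain ⟨ℓ, V, hℓ, hVn, hVM, hV1, hVe, hℓM⟩ := exists_central_piece M hM1 hMn
  haveI := hVn
  haveI := Fact.mk hℓ
  have hVN : ∀ A : Subgroup X, A ≤ normalizer (V : Set X) := fun A => by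
    rw [normalizer_eq_top]; exact le_top
  have hℓKR : ¬ ℓ ∣ Nat.card ↥(K ⊔ R) := fun h => hℓ.not_dvd_one (hcop ▸ Nat.dvd_gcd h hℓM)
  have hCVK : V ⊓ centralizer (K : Set X) = ⊥ :=
    eq_bot_iff.2 (le_trans (inf_le_inf_right _ hVM) hCK.le)
  have hfix : ∀ H : Subgroup X, H ≤ R → H ≠ ⊥ →
      Nat.card ↥(V ⊓ centralizer (H : Set X)) ^ Nat.card H = Nat.card V := by
    intro H hHR hH1
    have hle : K ⊔ H ≤ K ⊔ R := sup_le_sup_left hHR _
    have h := CfsgLib.Frobenius.frobenius_fixed_card (ℓ := ℓ) hVe.1 hVe.2 (hVN K) (hVN H) (hHR.trans hRK)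
      hK1 hH1 (eq_bot_iff.2 ((inf_le_inf_left K hHR).trans hKR.le)) (fun r hr => hfrob r (hHR hr))
      (fun h => hℓKR (h.trans (card_dvd_of_le hle)))
    rw [hCVK, card_bot, mul_one] at h
    have hbot : V ⊓ centralizer ((K ⊔ H : Subgroup X) : Set X) = ⊥ :=
      eq_bot_iff.2 (le_trans (inf_le_inf_left V (centralizer_le (le_sup_left : K ≤ K ⊔ H))) hCVK.le)
    rw [hbot, card_bot, one_pow, one_mul] at h
    exact h.symm
  have hcard := hfix R le_rfl hR1
  -- `R` has prime order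
  have hR : (Nat.card R).Prime := by
    obtain ⟨r, hr, hrR⟩ := Nat.exists_prime_and_dvd (fun h => hR1 (card_eq_one.1 h))
    haveI := Fact.mk hr
    obtain ⟨x, hx⟩ := exists_prime_orderOf_dvd_card' r hrR
    have hxne : (x : X) ≠ 1 := fun h => hr.ne_one (by rw [← hx, show x = 1 from Subtype.ext h, orderOf_one])
    have h := hfix (zpowers (x : X)) (zpowers_le.2 x.2) (fun h => hxne (zpowers_eq_bot.1 h))
    have hC : V ⊓ centralizer (zpowers (x : X) : Set X) = V ⊓ centralizer (R : Set X) := by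
      have h1 := hpr x x.2 hxne
      ext v
      refine ⟨fun hv => ?_, fun hv => ⟨hv.1, centralizer_le (zpowers_le.2 x.2) hv.2⟩⟩
      have : v ∈ M ⊓ centralizer ({(x : X)} : Set X) :=
        ⟨hVM hv.1, mem_centralizer_singleton_iff.2 (hv.2 _ (mem_zpowers _)).symm⟩
      rw [h1] at this
      exact ⟨hv.1, this.2⟩
    rw [hC, Nat.card_zpowers, Subgroup.orderOf_coe, hx] at h
    have h2 : 2 ≤ Nat.card ↥(V ⊓ centralizer (R : Set X)) := by
      by_contra h3
      have h4 : Nat.card ↥(V ⊓ centralizer (R : Set X)) = 1 := by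
        have : 0 < Nat.card ↥(V ⊓ centralizer (R : Set X)) := Nat.card_pos
        omega
      rw [h4, one_pow] at h
      exact hV1 (card_eq_one.1 h.symm)
    rw [← hcard] at h
    rwa [← Nat.pow_right_injective h2 h]
  refine ⟨fun _ => hR, ?_⟩
  -- pass to `X / V`
  set f := QuotientGroup.mk' V
  have hker : ∀ g ∈ K ⊔ R, f g = 1 → g = 1 := by
    intro g hg hg1
    refine disjoint_def.1 (disjoint_of_coprime_natCard (hcop.coprime_dvd_right (card_dvd_of_le hVM))) hg ?_
    exact (QuotientGroup.eq_one_iff g).1 hg1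
  have hinj : ∀ a ∈ K ⊔ R, ∀ b ∈ K ⊔ R, f a = f b → a = b := fun a ha b hb h => by
    have := hker (a⁻¹ * b) (mul_mem (inv_mem ha) hb) (by rw [map_mul, map_inv, h, inv_mul_cancel])
    exact inv_mul_eq_one.1 this
  haveI : (M.map f).Normal := Normal.map inferInstance f (QuotientGroup.mk'_surjective V)
  have hMV : Nat.card M = Nat.card (M.map f) * Nat.card V := by
    have e : V.subgroupOf M = (f.subgroupMap M).ker := by
      ext m
      rw [MonoidHom.mem_ker, mem_subgroupOf]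
      exact ⟨fun h => Subtype.ext ((QuotientGroup.eq_one_iff _).2 h),
        fun h => (QuotientGroup.eq_one_iff _).1 (congrArg Subtype.val h)⟩
    rw [← card_mul_index (V.subgroupOf M), e, MonoidHom.ker, mul_comm]
    congr 1
    · rw [← MonoidHom.ker, index_ker, MonoidHom.range_eq_top.2 (f.subgroupMap_surjective M)]
      exact card_top
    · rw [← MonoidHom.ker, ← e]
      exact Nat.card_congr (subgroupOfEquivOfLe hVM).toEquiv
  have hlt : Nat.card (M.map f) < n := by
    have h2 : 1 < Nat.card V := (one_lt_card_iff_ne_bot V).2 hV1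
    have h3 : 0 < Nat.card (M.map f) := Nat.card_pos
    rw [← hn, hMV]
    exact lt_mul_of_one_lt_right h3 h2
  have hMN : ∀ A : Subgroup X, A ≤ normalizer (M : Set X) := fun A => by
    rw [normalizer_eq_top]; exact le_top
  haveI hMsol : Group.IsSolvable M := by haveI := hMn; infer_instance
  -- fixed points in the quotient lift
  have hlift : ∀ A : Subgroup X, A ≤ K ⊔ R → ∀ y ∈ M.map f ⊓ centralizer ((A.map f : Subgroup (X ⧸ V)) : Set (X ⧸ V)),
      ∃ c ∈ M ⊓ centralizer (A : Set X), f c = y := by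
    rintro A hA _ ⟨⟨m, hm, rfl⟩, hy⟩
    obtain ⟨c, hc, hcV⟩ := CfsgLib.Solvable.exists_fixed_of_fixed_mod (hMN A)
      (hcop.coprime_dvd_left (card_dvd_of_le hA)) (Or.inr hMsol) hVM (hVN M) (hVN A) hm
      (fun a ha => (QuotientGroup.eq_one_iff _).1 (by
        show f (a * m * a⁻¹ * m⁻¹) = 1
        simp only [map_mul, map_inv]
        rw [mem_centralizer_iff.1 hy (f a) (mem_map_of_mem f ha)]
        group))
    exact ⟨c, hc, ((QuotientGroup.eq).2 hcV).symm⟩
  have hmapC : (M ⊓ centralizer (R : Set X)).map f = M.map f ⊓ centralizer ((R.map f : Subgroup (X ⧸ V)) : Set (X ⧸ V)) := by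
    refine le_antisymm ?_ fun y hy => ?_
    · rintro _ ⟨c, hc, rfl⟩
      refine ⟨mem_map_of_mem f hc.1, ?_⟩
      rintro _ ⟨a, ha, rfl⟩
      rw [← map_mul, hc.2 a ha, map_mul]
    · obtain ⟨c, hc, hcy⟩ := hlift R le_sup_right y hy
      exact ⟨c, hc, hcy⟩
  have hC : Nat.card ↥(M ⊓ centralizer (R : Set X)) =
      Nat.card ↥(M.map f ⊓ centralizer ((R.map f : Subgroup (X ⧸ V)) : Set (X ⧸ V))) *
        Nat.card ↥(V ⊓ centralizer (R : Set X)) := by
    rw [← hmapC, ← card_mul_index (V.subgroupOf (M ⊓ centralizer (R : Set X))), mul_comm]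
    congr 1
    · have e : V.subgroupOf (M ⊓ centralizer (R : Set X)) = (f.subgroupMap (M ⊓ centralizer (R : Set X))).ker := by
        ext m
        rw [MonoidHom.mem_ker, mem_subgroupOf]
        exact ⟨fun h => Subtype.ext ((QuotientGroup.eq_one_iff _).2 h),
          fun h => (QuotientGroup.eq_one_iff _).1 (congrArg Subtype.val h)⟩
      rw [e, index_ker, MonoidHom.range_eq_top.2 (f.subgroupMap_surjective _)]
      exact card_top
    · rw [← inf_subgroupOf_right, ← inf_assoc, inf_eq_left.2 hVM]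
      exact Nat.card_congr (subgroupOfEquivOfLe (inf_le_inf_right _ hVM)).toEquiv
  obtain ⟨-, ih2, ih3⟩ := ih _ hlt (X ⧸ V) (K.map f) (R.map f) (M.map f) rfl
    (fun h => hK1 (eq_bot_iff.2 fun k hk => mem_bot.2 (hker k (mem_sup_left hk)
      (by rw [← mem_bot, ← h]; exact mem_map_of_mem f hk))))
    (fun h => hR1 (eq_bot_iff.2 fun k hk => mem_bot.2 (hker k (mem_sup_right hk)
      (by rw [← mem_bot, ← h]; exact mem_map_of_mem f hk))))
    (by
      rw [eq_bot_iff]
      rintro _ ⟨⟨a, ha, rfl⟩, b, hb, hab⟩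
      have : a = b := hinj a (mem_sup_left ha) b (mem_sup_right hb) hab.symm
      have h1 : a ∈ K ⊓ R := ⟨ha, this ▸ hb⟩
      rw [hKR, mem_bot] at h1
      subst h1; simp)
    ((map_mono hRK).trans (le_normalizer_map f))
    (by
      rintro _ ⟨r, hr, rfl⟩ hr1
      rw [eq_bot_iff]
      rintro _ ⟨⟨k, hk, rfl⟩, hkc⟩
      have h1 : k * r = r * k := hinj _ (mul_mem (mem_sup_left hk) (mem_sup_right hr)) _
        (mul_mem (mem_sup_right hr) (mem_sup_left hk))
        (by rw [map_mul, map_mul]; exact mem_centralizer_singleton_iff.1 hkc)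
      have h2 : k ∈ K ⊓ centralizer ({r} : Set X) := ⟨hk, mem_centralizer_singleton_iff.2 h1⟩
      rw [hfrob r hr (fun h => hr1 (by rw [h, map_one])), mem_bot] at h2
      subst h2; simp)
    (Group.nilpotent_of_surjective (f.subgroupMap M) (f.subgroupMap_surjective M))
    (Nat.Coprime.of_dvd (by rw [← Subgroup.map_sup]; exact card_map_dvd _ _) (card_map_dvd _ _) hcop)
    (by
      rw [eq_bot_iff]
      intro y hy
      obtain ⟨c, hc, rfl⟩ := hlift K le_sup_left y hy
      rw [hCK, mem_bot] at hc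
      subst hc; simp)
    (by
      rintro _ ⟨x, hx, rfl⟩ hx1
      have hxne : x ≠ 1 := fun h => hx1 (by rw [h, map_one])
      refine le_antisymm (fun y hy => ?_) fun y hy =>
        ⟨hy.1, mem_centralizer_singleton_iff.2 (hy.2 (f x) (mem_map_of_mem f hx)).symm⟩
      have hy' : y ∈ M.map f ⊓ centralizer (((zpowers x).map f : Subgroup (X ⧸ V)) : Set (X ⧸ V)) := by
        refine ⟨hy.1, ?_⟩
        rintro _ ⟨a, ha, rfl⟩
        obtain ⟨k, rfl⟩ := mem_zpowers_iff.1 ha
        rw [map_zpow]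
        exact (Commute.zpow_left (mem_centralizer_singleton_iff.1 hy.2).symm k).eq
      obtain ⟨c, hc, rfl⟩ := hlift _ ((zpowers_le.2 hx).trans le_sup_right) y hy'
      have hcR : c ∈ M ⊓ centralizer (R : Set X) := by
        rw [← hpr x hx hxne]
        exact ⟨hc.1, mem_centralizer_singleton_iff.2 (hc.2 x (mem_zpowers x)).symm⟩
      rw [← hmapC]
      exact mem_map_of_mem f hcR)
  have hRf : Nat.card (R.map f) = Nat.card R := Nat.card_congr
    (Equiv.ofBijective (f.subgroupMap R)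
      ⟨fun a b h => Subtype.ext (hinj a (mem_sup_right a.2) b (mem_sup_right b.2) (congrArg Subtype.val h)),
        f.subgroupMap_surjective R⟩).symm
  rw [hRf] at ih2
  refine ⟨by rw [hMV, hC, mul_pow, ← ih2, hcard], fun hcyc => ?_⟩
  haveI := hcyc
  have hcycf : IsCyclic ↥(M.map f ⊓ centralizer ((R.map f : Subgroup (X ⧸ V)) : Set (X ⧸ V))) := by
    rw [← hmapC]
    exact isCyclic_of_surjective _ (f.subgroupMap_surjective (M ⊓ centralizer (R : Set X)))
  have hCVℓ : Nat.card ↥(V ⊓ centralizer (R : Set X)) = ℓ := by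
    haveI : IsCyclic ↥(V ⊓ centralizer (R : Set X)) :=
      isCyclic_of_injective (inclusion (inf_le_inf_right _ hVM)) (inclusion_injective _)
    obtain ⟨g, hg⟩ := IsCyclic.exists_generator (α := ↥(V ⊓ centralizer (R : Set X)))
    rw [← orderOf_eq_card_of_forall_mem_zpowers hg]
    refine orderOf_eq_prime (Subtype.ext (hVe.2 _ g.2.1)) fun h => ?_
    have h1 := orderOf_eq_card_of_forall_mem_zpowers hg
    rw [h, orderOf_one] at h1
    rw [← h1, one_pow] at hcard
    exact hV1 (card_eq_one.1 hcard.symm)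
  have hKV := CfsgLib.Frobenius.commutator_le_centralizer_of_card_fixed (ℓ := ℓ) hVe.1 hVe.2 (hVN K) (hVN R)
    hRK hK1 hR hKR hfrob hℓKR hCVℓ
  intro a ha m hm
  have hfa : f a ∈ ⁅K.map f, K.map f⁆ := by rw [← map_commutator]; exact mem_map_of_mem f ha
  have hcA : (Nat.card (zpowers a)).Coprime (Nat.card M) :=
    hcop.coprime_dvd_left (card_dvd_of_le (zpowers_le.2 (le_sup_left (b := R) (commutator_le_self K ha))))
  obtain ⟨c, hc, hcV⟩ := CfsgLib.Solvable.exists_fixed_of_fixed_mod (hMN (zpowers a)) hcA (Or.inl inferInstance)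
    hVM (hVN M) (hVN _) hm (fun b hb => (QuotientGroup.eq_one_iff _).1 (by
      obtain ⟨k, rfl⟩ := mem_zpowers_iff.1 hb
      have h := ih3 hcycf (zpow_mem hfa k) (f m) (mem_map_of_mem f hm)
      show f (a ^ k * m * (a ^ k)⁻¹ * m⁻¹) = 1
      simp only [map_mul, map_inv, map_zpow]
      rw [← h]; group))
  have h1 : (m⁻¹ * c) * a = a * (m⁻¹ * c) := mem_centralizer_iff.1 (hKV ha) _ hcV
  have h2 : a * c = c * a := hc.2 a (mem_zpowers a)
  have e : m = c * (m⁻¹ * c)⁻¹ := by group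
  rw [e]
  exact (Commute.mul_left (show Commute c a from h2.symm) (show Commute (m⁻¹ * c) a from h1).inv_left).eq

/-- Let X be a finite group with subgroups K, R, M such that: K and R are nontrivial, K ∩ R = 1, R normalizes K, no non-identity element of R centralizes a non-identity element of K, K ⊔ R is solvable of odd order; M is nilpotent and nontrivial, normalized by K and by R, with order coprime to that of K ⊔ R, M ∩ C(K) = 1, and M ∩ C(x) = M ∩ C(R) for all non-identity x ∈ R. Then R has prime order p, #M = #(M ∩ C(R)) ^ p, and if M ∩ C(R) is cyclic then [K, K] centralizes M. -/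
theorem result {X : Type*} [Group X] [Finite X] (K R M : Subgroup X) (hK1 : K ≠ ⊥) (hR1 : R ≠ ⊥) (hKR : K ⊓ R = ⊥)
    (hRK : R ≤ Subgroup.normalizer (K : Set X)) (hfrob : ∀ r ∈ R, r ≠ 1 → K ⊓ Subgroup.centralizer ({r} : Set X) = ⊥)
    (hsolv : Group.IsSolvable ↥(K ⊔ R)) (hodd : Odd (Nat.card ↥(K ⊔ R)))
    (hM1 : M ≠ ⊥) (hMn : Group.IsNilpotent M) (hKM : K ≤ Subgroup.normalizer (M : Set X)) (hRM : R ≤ Subgroup.normalizer (M : Set X))
    (hcop : (Nat.card ↥(K ⊔ R)).Coprime (Nat.card M)) (hCK : M ⊓ Subgroup.centralizer (K : Set X) = ⊥)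
    (hpr : ∀ x ∈ R, x ≠ 1 → M ⊓ Subgroup.centralizer ({x} : Set X) = M ⊓ Subgroup.centralizer (R : Set X)) :
    (Nat.card R).Prime ∧ Nat.card M = Nat.card ↥(M ⊓ Subgroup.centralizer (R : Set X)) ^ Nat.card R ∧
      (IsCyclic ↥(M ⊓ Subgroup.centralizer (R : Set X)) → ⁅K, K⁆ ≤ Subgroup.centralizer (M : Set X)) := by
  set Y := normalizer (M : Set X) with hY
  have hsub : K ⊔ R ≤ Y := sup_le hKM hRM
  haveI : (M.subgroupOf Y).Normal := normal_subgroupOf_of_le_normalizer le_rfl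
  have hsup : (K ⊔ R).subgroupOf Y = K.subgroupOf Y ⊔ R.subgroupOf Y := subgroupOf_sup hKM hRM
  have hbot : ∀ A : Subgroup X, A ≤ Y → A.subgroupOf Y = ⊥ → A = ⊥ := fun A hA h => by
    rw [← map_subgroupOf_eq_of_le hA, h, Subgroup.map_bot]
  have hCR : (M ⊓ centralizer (R : Set X)).subgroupOf Y =
      M.subgroupOf Y ⊓ centralizer ((R.subgroupOf Y : Subgroup Y) : Set Y) := by
    ext m
    exact ⟨fun h => ⟨h.1, fun r hr => Subtype.ext (h.2 r hr)⟩,
      fun h => ⟨h.1, fun r hr => congrArg Subtype.val (h.2 ⟨r, hRM hr⟩ hr)⟩⟩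
  obtain ⟨h1, h2, h3⟩ := aux _ Y (K.subgroupOf Y) (R.subgroupOf Y) (M.subgroupOf Y) rfl
    (fun h => hK1 (hbot K hKM h)) (fun h => hR1 (hbot R hRM h))
    (eq_bot_iff.2 fun z hz => by
      have : (z : X) ∈ K ⊓ R := hz
      rw [hKR, mem_bot] at this
      exact mem_bot.2 (Subtype.ext this))
    (fun r hr => mem_normalizer_iff.2 fun k => mem_normalizer_iff.1 (hRK hr) (k : X))
    (fun r hr hr1 => eq_bot_iff.2 fun k hk => by
      have : (k : X) ∈ K ⊓ centralizer ({(r : X)} : Set X) :=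
        ⟨hk.1, mem_centralizer_singleton_iff.2 (congrArg Subtype.val (mem_centralizer_singleton_iff.1 hk.2))⟩
      rw [hfrob r hr (fun h => hr1 (Subtype.ext h)), mem_bot] at this
      exact mem_bot.2 (Subtype.ext this))
    (Group.nilpotent_of_mulEquiv (subgroupOfEquivOfLe le_normalizer).symm)
    (by rw [← hsup, Nat.card_congr (subgroupOfEquivOfLe hsub).toEquiv,
      Nat.card_congr (subgroupOfEquivOfLe (le_normalizer : M ≤ Y)).toEquiv]; exact hcop)
    (eq_bot_iff.2 fun m hm => by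
      have : (m : X) ∈ M ⊓ centralizer (K : Set X) :=
        ⟨hm.1, fun k hk => congrArg Subtype.val (hm.2 ⟨k, hKM hk⟩ hk)⟩
      rw [hCK, mem_bot] at this
      exact mem_bot.2 (Subtype.ext this))
    (fun x hx hx1 => by
      rw [← hCR, ← hpr x hx (fun h => hx1 (Subtype.ext h))]
      ext m
      exact ⟨fun h => ⟨h.1, mem_centralizer_singleton_iff.2 (congrArg Subtype.val (mem_centralizer_singleton_iff.1 h.2))⟩,
        fun h => ⟨h.1, mem_centralizer_singleton_iff.2 (Subtype.ext (mem_centralizer_singleton_iff.1 h.2))⟩⟩)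
  have eM := subgroupOfEquivOfLe (le_normalizer : M ≤ Y)
  have eR := subgroupOfEquivOfLe (hRM : R ≤ Y)
  have eC := subgroupOfEquivOfLe (inf_le_left.trans le_normalizer : M ⊓ centralizer (R : Set X) ≤ Y)
  rw [← hCR, Nat.card_congr eM.toEquiv, Nat.card_congr eR.toEquiv, Nat.card_congr eC.toEquiv] at h2
  refine ⟨?_, h2, fun hcyc => ?_⟩
  · have := h1 (fun h => hM1 (hbot M le_normalizer h))
    rwa [Nat.card_congr eR.toEquiv] at this
  · have h := h3 (by rw [← hCR]; haveI := hcyc; exact isCyclic_of_injective eC.toMonoidHom eC.injective)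
    intro a ha m hm
    have hmap : ⁅K.subgroupOf Y, K.subgroupOf Y⁆.map Y.subtype = ⁅K, K⁆ := by
      rw [map_commutator, map_subgroupOf_eq_of_le (show K ≤ Y from hKM)]
    rw [← hmap] at ha
    obtain ⟨a', ha', rfl⟩ := ha
    exact congrArg Subtype.val (h ha' ⟨m, le_normalizer hm⟩ hm)

end Cfsg.Agent.S1446
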