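import Cfsg.Statements.S1416
import Cfsg.Agent.Lib.OddOrder.ExceptionalNormal
import Cfsg.Agent.Lib.OddOrder.SigmaPrimeUnique
import Cfsg.Agent.Lib.OddOrder.UniquenessTheorem

set_option autoImplicit false
set_option linter.style.haveILetI false
open Cfsg

namespace Cfsg.Agent.S1416

open CfsgLib.OddOrder Subgroup

open scoped commutatorElement

section

variable {G : Type*} [Group G] [Finite G] (hG : Cfsg.IsMinSimpleOddOrder G)
include hG

theorem centralizer_zpowers_eq (a : G) :
    centralizer (zpowers a : Set G) = centralizer ({a} : Set G) := by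
  rw [zpowers_eq_closure, centralizer_closure]

/-- `A` centralizes the fixed points of `a` in an invariant `r`-subgroup of `M_σ`. -/
theorem centralize_fixed {M H : Subgroup G} (hM : IsCoatom M) (hH : IsCoatom H) (hHM : H ≠ M)
    {p r : ℕ} [Fact p.Prime] [Fact r.Prime] (hrp : r ≠ p) (hr : r ∈ Cfsg.sigma M) {A : Subgroup G}
    (hA : Cfsg.IsElementaryAbelian p A) (hA2 : Nat.card A = p ^ 2) (hAM : A ≤ M) {a : G}
    (ha : a ∈ A) (ha1 : a ≠ 1) (hN : normalizer (zpowers a : Set G) ≤ H) {R : Subgroup G}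
    (hR : IsPGroup r R) (hRM : R ≤ Cfsg.sigmaCore M) (hRA : A ≤ normalizer (R : Set G)) :
    R ⊓ centralizer ({a} : Set G) ≤ centralizer (A : Set G) := by
  set W := R ⊓ centralizer ({a} : Set G) with hW
  haveI := hA.1
  have hAa : A ≤ centralizer ({a} : Set G) := fun b hb =>
    mem_centralizer_singleton_iff.2 (setLike_mul_comm (s := A) hb ha)
  have hCH : centralizer ({a} : Set G) ≤ H := by
    rw [← centralizer_zpowers_eq hG]
    exact (centralizer_le_normalizer _).trans hN
  have hAH : A ≤ H := hAa.trans hCH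
  have hWH : W ≤ H := inf_le_right.trans hCH
  have hWp : IsPGroup r W := hR.to_le inf_le_left
  have hWA : A ≤ normalizer (W : Set G) := le_normalizer_inf_of_le hRA (hAa.trans le_normalizer)
  by_cases hW1 : W = ⊥
  · rw [hW1]; exact bot_le
  rw [le_centralizer_iff]
  by_cases hpH : p ∈ Cfsg.sigma H
  · by_cases hβ : r ∈ Cfsg.beta H
    · exfalso
      have hWM : W ≤ M := inf_le_left.trans (hRM.trans (piCoreOf_le _ _))
      obtain ⟨T, hT, hWT⟩ := exists_isMaxPIn_ge hWM hWp
      have hmax := isMaxPIn_top_of_sigma hr hT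
      let P : Sylow r G := ⟨T, hT.pgroup, fun {Q} hQ hle => hmax.max Q hQ hle le_top⟩
      obtain ⟨L, -, huniq⟩ := inUniqueMaximal_inf_normalizer hG hβ.2 P (X := W) hWT
      have hNH : normalizer (W : Set G) ≤ H := normalizer_le_of_betaSubgroup hG hH hW1 hWH
        fun t ht htd => by
          obtain ⟨n, hn⟩ := hWp.exists_card_eq
          rw [(Nat.prime_dvd_prime_iff_eq ht Fact.out).1 (ht.dvd_of_dvd_pow (hn ▸ htd))]
          exact hβ
      exact hHM ((huniq H ⟨hH, inf_le_right.trans hNH⟩).trans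
        (huniq M ⟨hM, inf_le_left.trans hT.le⟩).symm)
    · exact le_centralizer_of_sigma hG hH hrp hpH hβ (isPGroup_of_exp hA.2) hAH hWp hWH hWA
  · have hexc : IsExceptional p H A (zpowers a) :=
      ⟨hpH, hAH, hA, hA2, zpowers_le.2 ha,
        by rw [Nat.card_zpowers, orderOf_eq_prime (hA.2 a ha) ha1], hN⟩
    by_cases hrH : r ∈ Cfsg.sigma H
    · refine absurd (le_bot_iff.1 ?_) hW1
      have hdis : Cfsg.sigmaCore H ⊓ Cfsg.sigmaCore M = ⊥ := by_contra fun hne =>
        hHM (hexc.eq_of_sigmaCore_inf_ne_bot hG hH hM hAM hne).symm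
      exact (le_inf (le_sigmaCore_of_pgroup hG hH hrH hWp hWH) (inf_le_left.trans hRM)).trans hdis.le
    · exact hexc.le_centralizer_of_inv hG hH hrp hrH hWp hWH hWA

/-- The case of BG 12.4 in which no subgroup of order `p` of `A` singles out `M`. -/
theorem main {M : Subgroup G} (hM : IsCoatom M) {p : ℕ} [hp : Fact p.Prime] {A : Subgroup G}
    (hAM : A ≤ M) (hA : Cfsg.IsElementaryAbelian p A) (hA2 : Nat.card A = p ^ 2)
    (hall : ∀ A₀ : Subgroup G, A₀ ≤ A → Nat.card A₀ = p →
      ¬ (normalizer (A₀ : Set G) ≤ M ∧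
        ∀ L : Subgroup G, IsCoatom L → normalizer (A₀ : Set G) ≤ L → L = M)) :
    centralizer (A : Set G) ≤ M ∧
      p ∈ Cfsg.sigma M ∧ Cfsg.alphaCore M = ⊥ ∧ Group.IsNilpotent (Cfsg.sigmaCore M) := by
  haveI hAc := hA.1
  have hAp : IsPGroup p A := isPGroup_of_exp hA.2
  have hlt : p < Nat.card A := hA2 ▸ lt_self_pow₀ hp.out.one_lt one_lt_two
  have hAnc : ¬ IsCyclic A := elementary_not_isCyclic hA hlt
  have hline : ∀ a ∈ A, a ≠ 1 → ∃ H : Subgroup G,
      IsCoatom H ∧ H ≠ M ∧ normalizer (zpowers a : Set G) ≤ H := by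
    intro a ha ha1
    have hle : zpowers a ≤ A := zpowers_le.2 ha
    have hne : zpowers a ≠ ⊥ := by rwa [Ne, zpowers_eq_bot]
    have h1 := hall _ hle (by rw [Nat.card_zpowers, orderOf_eq_prime (hA.2 a ha) ha1])
    obtain ⟨H, hH, hNH⟩ :=
      exists_isCoatom_ge (normalizer_ne_top hG hne (isPGroup_ne_top hG (hAp.to_le hle)))
    by_cases hHM : H = M
    · subst hHM
      by_contra hcon
      push Not at hcon
      exact h1 ⟨hNH, fun L hL hNL => by_contra fun hLM => hcon L hL hLM hNL⟩
    · exact ⟨H, hH, hHM, hNH⟩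
  have hnU : ¬ Cfsg.InUniqueMaximal A := by
    rintro ⟨L, -, huniq⟩
    obtain ⟨a, ha, ha1⟩ : ∃ a ∈ A, a ≠ 1 := by
      by_contra hcon
      push Not at hcon
      rw [show A = ⊥ from (Subgroup.eq_bot_iff_forall A).2 hcon, Subgroup.card_bot] at hlt
      exact absurd hlt (not_lt.2 hp.out.one_le)
    obtain ⟨H, hH, hHM, hNH⟩ := hline a ha ha1
    have hAH : A ≤ H := fun b hb => hNH (centralizer_le_normalizer _
      (centralizer_zpowers_eq hG a ▸ mem_centralizer_singleton_iff.2 (setLike_mul_comm (s := A) hb ha)))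
    exact hHM ((huniq H ⟨hH, hAH⟩).trans (huniq M ⟨hM, hAM⟩).symm)
  have hCr : Cfsg.RankLE 2 (centralizer (A : Set G)) := by_contra fun h =>
    hnU (uniqueness_theorem hG (isPGroup_ne_top hG hAp)
      (not_rankLE_of_not_pRankLE (p := p) (not_pRankLE_of_elementary le_rfl hA (by rwa [pow_one])))
      (Or.inr h))
  have hAmax : ∀ B : Subgroup G, Cfsg.IsElementaryAbelian p B → A ≤ B → B = A := fun B hB hAB => by
    refine (eq_of_le_of_card_ge hAB ?_).symm
    rw [hA2]
    by_contra hcon
    exact not_pRankLE_of_elementary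
      ((le_centralizer_iff_isMulCommutative.2 hB.1).trans (Subgroup.centralizer_le hAB)) hB
      (not_le.1 hcon) (hCr p hp.out)
  have hmem : ∀ x ∈ centralizer (A : Set G), x ^ p = 1 → x ∈ A := fun x hx hxp =>
    hAmax _ (elementary_sup_zpowers hA hx hxp) le_sup_left ▸ mem_sup_right (mem_zpowers x)
  -- a central element of a Sylow subgroup over `A`
  have hcentral : ∀ P : Subgroup G, IsPGroup p P → A ≤ P → ∃ z : G,
      z ∈ A ∧ z ≠ 1 ∧ z ∈ centralizer (P : Set G) := by
    intro P hP hAP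
    haveI : Nontrivial P := (nontrivial_iff_ne_bot _).2 fun hb => by
      rw [show A = ⊥ from le_bot_iff.1 (hAP.trans hb.le), Subgroup.card_bot] at hlt
      exact absurd hlt (not_lt.2 hp.out.one_le)
    obtain ⟨u, -, hu, huo⟩ := CfsgLib.PGroup.exists_central_orderOf_eq hP ⊤ (fun hb => by
      have h1 : Nat.card P = 1 := by rw [← Subgroup.card_top, hb, Subgroup.card_bot]
      exact (Finite.one_lt_card (α := P)).ne' h1)
    have huc : (u : G) ∈ centralizer (P : Set G) := fun v hv =>
      congrArg Subtype.val (mem_center_iff.1 hu ⟨v, hv⟩)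
    refine ⟨u, hmem _ (Subgroup.centralizer_le hAP huc) ?_, fun h1 => ?_, huc⟩
    · rw [← huo, ← Subgroup.orderOf_coe, pow_orderOf_eq_one]
    · rw [OneMemClass.coe_eq_one.1 h1, orderOf_one] at huo
      exact hp.out.one_lt.ne huo
  have hr : Cfsg.PRankLE p 2 M := by
    by_contra hc
    obtain ⟨P, hP, hAP⟩ := exists_isMaxPIn_ge hAM hAp
    obtain ⟨z, hzA, hz1, hzP⟩ := hcentral P hP.pgroup hAP
    obtain ⟨E, hEP, hE, hEc⟩ := exists_elementary_of_not_pRankLE
      fun h2 => hc (pRankLE_of_isMaxPIn hP h2)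
    have hPU : Cfsg.InUniqueMaximal P := inUniqueMaximal_mono
      (inUniqueMaximal_of_elementary_three hG hE hEc) hEP (isPGroup_ne_top hG hP.pgroup)
    obtain ⟨H, hH, hHM, hNH⟩ := hline z hzA hz1
    refine hHM (ExistsUnique.unique hPU ⟨hH, fun y hy => hNH (centralizer_le_normalizer _ ?_)⟩
      ⟨hM, hP.le⟩)
    rw [centralizer_zpowers_eq hG, mem_centralizer_singleton_iff]
    exact hzP y hy
  have hpα : p ∉ Cfsg.alpha M := fun h => h.2 hr
  have hstep : ∀ {r : ℕ} [Fact r.Prime], r ≠ p → r ∈ Cfsg.sigma M → ∀ R : Subgroup G,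
      IsPGroup r R → R ≤ Cfsg.sigmaCore M → A ≤ normalizer (R : Set G) →
      R ≤ centralizer (A : Set G) := by
    intro r _ hrp hrσ R hR hRM hRA
    obtain ⟨n, hn⟩ := hR.exists_card_eq
    refine CfsgLib.Solvable.le_of_centralizer_le hAnc hRA ?_ fun a ha ha1 => ?_
    · rw [hA2, hn]
      exact (((Nat.coprime_primes hp.out Fact.out).2 hrp.symm).pow_left 2).pow_right n
    obtain ⟨H, hH, hHM, hNH⟩ := hline a ha ha1
    exact centralize_fixed hG hM hH hHM hrp hrσ hA hA2 hAM ha ha1 hNH hR hRM hRA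
  have hα : ∀ r, r ∉ Cfsg.alpha M := by
    intro r hrα
    haveI := Fact.mk hrα.1
    have hrp : r ≠ p := fun h => hpα (h ▸ hrα)
    set K := Cfsg.alphaCore M
    have hKM : K ≤ M := piCoreOf_le _ _
    have hcop : (Nat.card A).Coprime (Nat.card K) := by
      rw [hA2]
      exact ((hp.out.coprime_iff_not_dvd).2 fun hd =>
        hpα (piCoreOf_isPiSubgroup _ M p hp.out hd)).pow_left 2
    have hKs : Group.IsSolvable K :=
      isSolvable_of_ne_top hG fun hb => hM.1 (top_le_iff.1 (hb ▸ hKM))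
    obtain ⟨S, hS⟩ := CfsgLib.Solvable.exists_invariant_sylow (K := K)
      (hAM.trans (le_normalizer_piCoreOf _ _)) hcop (Or.inr hKs) r
    set R := (S : Subgroup K).map K.subtype with hR
    have hRK : R ≤ K := map_subtype_le _
    have hmax : IsMaxPIn r M R := ⟨hRK.trans hKM, S.2.map _, fun T hT hle hTM => by
      obtain ⟨S', hS'⟩ := (hT.of_equiv (subgroupOfEquivOfLe hTM).symm).exists_le_sylow
      refine (isMaxPIn_of_sylow S).max T hT hle ?_
      rw [← map_subgroupOf_eq_of_le hTM]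
      exact map_mono (hS'.trans (sylow_le_alphaCore hG hM hrα S'))⟩
    have hKσ : K ≤ Cfsg.sigmaCore M := le_piCoreOf hKM (le_normalizer_piCoreOf _ _)
      (IsPiSubgroup.mono (piCoreOf_isPiSubgroup _ _) fun t ht => alpha_subset_sigma hG hM ht)
    have hRC := hstep hrp (alpha_subset_sigma hG hM hrα) R (S.2.map _) (hRK.trans hKσ) hS
    exact hrα.2 (pRankLE_of_isMaxPIn hmax
      (CfsgLib.TwoFusion.PRank.pRankLE_mono hRC (hCr r hrα.1)))
  have hpσ : p ∈ Cfsg.sigma M := by
    by_contra hpσ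
    refine not_le_centralizer_sigmaCore hG hM hpσ hAM hA hA2 (le_centralizer_iff.1 ?_)
    set K := Cfsg.sigmaCore M
    have hcop : (Nat.card A).Coprime (Nat.card K) := by
      rw [hA2]
      exact ((hp.out.coprime_iff_not_dvd).2 fun hd =>
        hpσ (sigma_of_dvd_sigmaCore hp.out hd)).pow_left 2
    suffices htop : (centralizer (A : Set G)).subgroupOf K = ⊤ from subgroupOf_eq_top.1 htop
    refine eq_top_of_le_card _ (Nat.le_of_dvd Nat.card_pos ?_)
    rw [Nat.dvd_iff_prime_pow_dvd_dvd]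
    intro r k hr hk
    rcases Nat.eq_zero_or_pos k with rfl | hk0
    · simp
    haveI := Fact.mk hr
    have hrσ := sigma_of_dvd_sigmaCore hr ((dvd_pow_self r hk0.ne').trans hk)
    obtain ⟨S, hS⟩ := CfsgLib.Solvable.exists_invariant_sylow (K := K)
      (hAM.trans (le_normalizer_piCoreOf _ _)) hcop (Or.inr (sigmaCore_isSolvable hG hM)) r
    have hrp : r ≠ p := fun h => hpσ (h ▸ hrσ)
    refine (S.pow_dvd_card_of_pow_dvd_card hk).trans (Subgroup.card_dvd_of_le fun x hx => ?_)
    exact mem_subgroupOf.2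
      (hstep hrp hrσ _ (S.2.map _) (map_subtype_le _) hS (mem_map_of_mem K.subtype hx))
  haveI := isSolvable_of_ne_top hG hM.1
  have hnil : Group.IsNilpotent (Cfsg.sigmaCore M) := by
    have hrank : Cfsg.RankLE 2 M := fun t ht => by_contra fun h => hα t ⟨ht, h⟩
    have h1 := commutator_le_fittingSubgroup (odd_card_subgroup hG M) (Or.inl hrank)
    have h2 := (piCore_sigma_le_commutator hG hM).trans h1
    have h3 := isNilpotent_of_subgroup_le (CfsgLib.Solvable.fittingSubgroup_isNilpotent M) h2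
    exact Group.nilpotent_of_mulEquiv
      ((Cfsg.piCore (Cfsg.sigma M) M).equivMapOfInjective _ M.subtype_injective)
  refine ⟨?_, hpσ, ?_, hnil⟩
  · set K := Cfsg.sigmaCore M
    haveI := hnil
    have hAK : A ≤ K := le_sigmaCore_of_pgroup hG hM hpσ hAp hAM
    obtain ⟨S, hS⟩ := (hAp.of_equiv (subgroupOfEquivOfLe hAK).symm).exists_le_sylow
    haveI : (S : Subgroup K).Characteristic := Sylow.characteristic_of_normal S inferInstance
    set P := (S : Subgroup K).map K.subtype with hP
    have hPK : P ≤ K := map_subtype_le _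
    have hAP : A ≤ P := by
      rw [← map_subgroupOf_eq_of_le hAK]
      exact map_mono hS
    have hMP : M ≤ normalizer (P : Set G) := (le_normalizer_piCoreOf _ M).trans
      (normalizer_le_normalizer_map_of_characteristic K (S : Subgroup K))
    have hPM : P ≤ M := hPK.trans (piCoreOf_le _ _)
    by_cases hAC : A ≤ centralizer (P : Set G)
    · have hMA : M ≤ normalizer (A : Set G) := fun m hm => by
        refine mem_normalizer_of_map_le ?_
        rintro _ ⟨x, hx, rfl⟩
        simp only [MulEquiv.coe_toMonoidHom, MulAut.conj_apply]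
        refine hmem _ (fun b hb => ?_) (by rw [conj_pow, hA.2 x hx, mul_one, mul_inv_cancel])
        exact (hAC hb _ ((mem_normalizer_iff.1 (hMP hm) x).1 (hAP hx))).symm
      refine (centralizer_le_normalizer _).trans (le_of_eq ?_)
      exact normalizer_eq_of_isCoatom_of_le hG hM (fun hb => by
        rw [hb, Subgroup.card_bot] at hlt
        exact absurd hlt (not_lt.2 hp.out.one_le)) hAM hMA
    · exfalso
      obtain ⟨z, hzA, hz1, hzP⟩ := hcentral P (S.2.map _) hAP
      set Z := A ⊓ centralizer (P : Set G) with hZ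
      have hMZ : M ≤ normalizer (Z : Set G) := fun m hm => by
        refine mem_normalizer_of_map_le ?_
        rintro _ ⟨x, hx, rfl⟩
        simp only [MulEquiv.coe_toMonoidHom, MulAut.conj_apply]
        have h1 : m * x * m⁻¹ ∈ centralizer (P : Set G) := (mem_normalizer_iff.1
          (normalizer_le_normalizer_centralizer P (hMP hm)) x).1 hx.2
        exact ⟨hmem _ (Subgroup.centralizer_le hAP h1)
          (by rw [conj_pow, hA.2 x hx.1, mul_one, mul_inv_cancel]), h1⟩
      have hZz : zpowers z = Z := by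
        refine eq_of_le_of_card_ge (zpowers_le.2 ⟨hzA, hzP⟩) ?_
        obtain ⟨i, hi⟩ := (hAp.to_le (inf_le_left : Z ≤ A)).exists_card_eq
        rw [Nat.card_zpowers, orderOf_eq_prime (hA.2 z hzA) hz1, hi]
        by_contra hlt2
        have h2 : 1 < i := (Nat.pow_lt_pow_iff_right hp.out.one_lt).1
          ((pow_one p).symm ▸ not_le.1 hlt2)
        have hZA : Z = A := eq_of_le_of_card_ge inf_le_left (by
          rw [hA2, hi]; exact Nat.pow_le_pow_right hp.out.pos h2)
        exact hAC (hZA ▸ inf_le_right)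
      obtain ⟨H, hH, hHM, hNH⟩ := hline z hzA hz1
      refine hHM (eq_of_isCoatom_of_le hM hH ?_)
      rw [hZz] at hNH
      exact hMZ.trans hNH
  · refine Subgroup.card_eq_one.1 (Nat.eq_one_iff_not_exists_prime_dvd.2 fun t ht htd => ?_)
    exact hα t (piCoreOf_isPiSubgroup _ M t ht htd)
where
  eq_of_isCoatom_of_le {M H : Subgroup G} (hM : IsCoatom M) (hH : IsCoatom H) (h : M ≤ H) : H = M :=
    ((hM.le_iff.1 h).resolve_left hH.1)

end

/-- Let G be a minimal simple group of odd order, M a maximal subgroup and A an elementary abelian subgroup of order p² of M. Then C_G(A) ≤ M; and if no subgroup A₀ of order p of A has M as the unique maximal subgroup containing N_G(A₀), then p ∈ σ(M), M_α = 1 and M_σ is nilpotent. -/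
theorem result {G : Type*} [Group G] [Finite G] (hG : Cfsg.IsMinSimpleOddOrder G)
    (M : Subgroup G) (hM : IsCoatom M) (p : ℕ) [Fact p.Prime] (A : Subgroup G) (hA : (A ≤ M ∧ Cfsg.IsElementaryAbelian p A ∧ Nat.card A = p ^ 2)) :
    Subgroup.centralizer (A : Set G) ≤ M ∧
      ((∀ A₀ : Subgroup G, A₀ ≤ A → Nat.card A₀ = p →
          ¬ (Subgroup.normalizer (A₀ : Set G) ≤ M ∧ ∀ L : Subgroup G, IsCoatom L → Subgroup.normalizer (A₀ : Set G) ≤ L → L = M)) →
        p ∈ Cfsg.sigma M ∧ Cfsg.alphaCore M = ⊥ ∧ Group.IsNilpotent (Cfsg.sigmaCore M)) := by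
  refine ⟨?_, fun hall => (main hG hM hA.1 hA.2.1 hA.2.2 hall).2⟩
  by_cases hall : ∀ A₀ : Subgroup G, A₀ ≤ A → Nat.card A₀ = p →
      ¬ (Subgroup.normalizer (A₀ : Set G) ≤ M ∧ ∀ L : Subgroup G, IsCoatom L → Subgroup.normalizer (A₀ : Set G) ≤ L → L = M)
  · exact (main hG hM hA.1 hA.2.1 hA.2.2 hall).1
  · push Not at hall
    obtain ⟨A₀, h0, -, hN, -⟩ := hall
    exact (Subgroup.centralizer_le h0).trans ((Subgroup.centralizer_le_normalizer _).trans hN)

end Cfsg.Agent.S1416
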