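import Cfsg.Statements.S1417
import Cfsg.Agent.S1416

set_option autoImplicit false
set_option linter.style.haveILetI false
open Cfsg

namespace Cfsg.Agent.S1417

open CfsgLib.OddOrder Subgroup

section

variable {G : Type*} [Group G] [Finite G] (hG : Cfsg.IsMinSimpleOddOrder G) {M : Subgroup G}
  (hM : IsCoatom M) {p : ℕ} [hp : Fact p.Prime] {A : Subgroup G}
include hG hM

/-- For `p ∉ σ(M)` an elementary subgroup of order `p²` makes `M` exceptional. -/
theorem exists_isExceptional (hpσ : p ∉ Cfsg.sigma M) (hAM : A ≤ M)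
    (hA : Cfsg.IsElementaryAbelian p A) (hA2 : Nat.card A = p ^ 2) :
    ∃ A₀ : Subgroup G, IsExceptional p M A A₀ ∧
      ∀ L : Subgroup G, IsCoatom L → normalizer (A₀ : Set G) ≤ L → L = M := by
  by_contra hcon
  push Not at hcon
  exact hpσ ((Cfsg.Agent.S1416.result hG M hM p A ⟨hAM, hA, hA2⟩).2 fun A₀ h0 h0c hN => by
    obtain ⟨L, hL, hNL, hne⟩ := hcon A₀ ⟨hpσ, hAM, hA, hA2, h0, h0c, hN.1⟩
    exact hne (hN.2 L hL hNL)).1

/-- BG 12.5 (e). -/
theorem sigmaCore_inf_eq_bot {A₀ : Subgroup G} (h : IsExceptional p M A A₀) {H : Subgroup G}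
    (hH : IsCoatom H) (hne : H ≠ M) (hAH : A ≤ H) : Cfsg.sigmaCore M ⊓ H = ⊥ := by
  set Y := Cfsg.sigmaCore M ⊓ H with hY
  by_contra hY1
  obtain ⟨q, hq, hqY⟩ := Nat.exists_prime_and_dvd (n := Nat.card Y)
    fun h1 => hY1 (Subgroup.card_eq_one.1 h1)
  haveI := Fact.mk hq
  have hqσ : q ∈ Cfsg.sigma M := sigma_of_dvd_sigmaCore hq (hqY.trans (card_dvd_of_le inf_le_left))
  have hqp : q ≠ p := fun e => h.notSigma (e ▸ hqσ)
  have hAY : A ≤ normalizer (Y : Set G) :=
    le_normalizer_inf_of_le (h.le.trans (le_normalizer_piCoreOf _ _)) (hAH.trans le_normalizer)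
  have hcop : (Nat.card A).Coprime (Nat.card Y) := by
    rw [h.card]
    exact ((hp.out.coprime_iff_not_dvd).2 fun hd =>
      h.notSigma (sigma_of_dvd_sigmaCore hp.out (hd.trans (card_dvd_of_le inf_le_left)))).pow_left 2
  have hYs : Group.IsSolvable Y :=
    isSolvable_of_ne_top hG fun hb => hH.1 (top_le_iff.1 (hb ▸ inf_le_right))
  obtain ⟨S, hS⟩ := CfsgLib.Solvable.exists_invariant_sylow hAY hcop (Or.inr hYs) q
  set U := (S : Subgroup Y).map Y.subtype
  have hUY : U ≤ Y := map_subtype_le _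
  have hUp : IsPGroup q U := S.2.map _
  have hU1 : U ≠ ⊥ := fun h1 => S.ne_bot_of_dvd_card hqY
    ((map_eq_bot_iff_of_injective _ Y.subtype_injective).1 h1)
  have hUH : U ≤ H := hUY.trans inf_le_right
  have hUσ : U ≤ Cfsg.sigmaCore M := hUY.trans inf_le_left
  suffices hAU : A ≤ centralizer (U : Set G) by
    exact hU1 (le_bot_iff.1 ((le_inf hUσ (le_centralizer_iff.1 hAU)).trans
      (h.sigmaCore_inf_centralizer hG hM).le))
  by_cases hpH : p ∈ Cfsg.sigma H
  · by_cases hβ : q ∈ Cfsg.beta H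
    · exfalso
      obtain ⟨T, hT, hUT⟩ := exists_isMaxPIn_ge (hUσ.trans (piCoreOf_le _ _)) hUp
      have hmax := isMaxPIn_top_of_sigma hqσ hT
      let P : Sylow q G := ⟨T, hT.pgroup, fun {Q} hQ hle => hmax.max Q hQ hle le_top⟩
      obtain ⟨L, -, huniq⟩ := inUniqueMaximal_inf_normalizer hG hβ.2 P (X := U) hUT
      have hNH : normalizer (U : Set G) ≤ H := normalizer_le_of_betaSubgroup hG hH hU1 hUH
        fun t ht htd => by
          obtain ⟨n, hn⟩ := hUp.exists_card_eq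
          rw [(Nat.prime_dvd_prime_iff_eq ht hq).1 (ht.dvd_of_dvd_pow (hn ▸ htd))]
          exact hβ
      exact hne ((huniq H ⟨hH, inf_le_right.trans hNH⟩).trans
        (huniq M ⟨hM, inf_le_left.trans hT.le⟩).symm)
    · exact le_centralizer_of_sigma hG hH hqp hpH hβ h.pgroup hAH hUp hUH hS
  · obtain ⟨A₁, h', -⟩ := exists_isExceptional hG hH hpH hAH h.elem h.card
    by_cases hqH : q ∈ Cfsg.sigma H
    · refine absurd (h.eq_of_sigmaCore_inf_ne_bot hG hM hH hAH fun hb => hU1 (le_bot_iff.1 ?_)) hne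
      exact (le_inf hUσ (le_sigmaCore_of_pgroup hG hH hqH hUp hUH)).trans hb.le
    · exact h'.le_centralizer_of_inv hG hH hqp hqH hUp hUH hS

end

/-- Let G be a minimal simple group of odd order, M a maximal subgroup, p ∈ τ₂(M) and A an elementary abelian subgroup of order p² of M. Then M_σ is nilpotent; M has abelian Sylow p-subgroups, and A contains the elements of order p of each Sylow p-subgroup containing it, whose normalizer is not in M; M_σA is normal in M; C_{M_σ}(A) = 1; M_σ meets every other maximal subgroup containing A trivially; and some subgroup A₁ of order p of A satisfies C_{M_σ}(A₁) = 1. -/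
theorem result {G : Type*} [Group G] [Finite G] (hG : Cfsg.IsMinSimpleOddOrder G)
    (M : Subgroup G) (hM : IsCoatom M) (p : ℕ) [Fact p.Prime] (hp : p ∈ Cfsg.tau2 M) (A : Subgroup G) (hA : (A ≤ M ∧ Cfsg.IsElementaryAbelian p A ∧ Nat.card A = p ^ 2)) :
    Group.IsNilpotent (Cfsg.sigmaCore M) ∧
      (∀ P : Sylow p M, IsMulCommutative (P : Subgroup M) ∧
        (A ≤ (P : Subgroup M).map M.subtype →
          (∀ x ∈ (P : Subgroup M).map M.subtype, x ^ p = 1 ↔ x ∈ A) ∧
          ¬ Subgroup.normalizer ((((P : Subgroup M).map M.subtype : Subgroup G)) : Set G) ≤ M)) ∧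
      M ≤ Subgroup.normalizer ((Cfsg.sigmaCore M ⊔ A : Subgroup G) : Set G) ∧
      Cfsg.sigmaCore M ⊓ Subgroup.centralizer (A : Set G) = ⊥ ∧
      (∀ Mstar : Subgroup G, IsCoatom Mstar → Mstar ≠ M → A ≤ Mstar → Cfsg.sigmaCore M ⊓ Mstar = ⊥) ∧
      ∃ A₁ : Subgroup G, A₁ ≤ A ∧ Nat.card A₁ = p ∧ Cfsg.sigmaCore M ⊓ Subgroup.centralizer (A₁ : Set G) = ⊥ := by
  obtain ⟨A₀, h, -⟩ := exists_isExceptional hG hM hp.2.1 hA.1 hA.2.1 hA.2.2
  refine ⟨h.isNilpotent_sigmaCore hG hM, fun P => ?_, h.le_normalizer_sup hG hM,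
    h.sigmaCore_inf_centralizer hG hM,
    fun H hH hne hAH => sigmaCore_inf_eq_bot hG hM h hH hne hAH, ?_⟩
  · have hP := isMaxPIn_of_sylow P
    refine ⟨?_, fun hAP => ⟨fun x hx => h.mem_iff_pow_eq_one hG hM hP hAP hx, fun hle => ?_⟩⟩
    · haveI := h.isMulCommutative_sylow hG hM hP
      exact ⟨⟨fun a b => Subtype.ext (Subtype.ext (setLike_mul_comm
        (s := (P : Subgroup M).map M.subtype) (mem_map_of_mem M.subtype a.2)
        (mem_map_of_mem M.subtype b.2)))⟩⟩
    · obtain ⟨g, hg, hgM⟩ := exists_normalizer_not_mem hG hM hp.2.1 hP h.dvd_card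
      exact hgM (hle hg)
  · obtain ⟨a₁, a₂, ha₁, -, hp₁, -, -, hC, -⟩ := h.exists_pair hG hM
    have ha1 : a₁ ≠ 1 := fun e => sigmaCore_ne_bot hG hM (le_bot_iff.1
      ((le_inf le_rfl fun x _ => mem_centralizer_singleton_iff.2 (by simp [e])).trans hC.le))
    refine ⟨zpowers a₁, zpowers_le.2 ha₁, by rw [Nat.card_zpowers, orderOf_eq_prime hp₁ ha1], ?_⟩
    rwa [Cfsg.Agent.S1416.centralizer_zpowers_eq hG]

end Cfsg.Agent.S1417
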