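import Cfsg.Statements.S1437
import Cfsg.Agent.S1426
import Cfsg.Agent.S1414
import Cfsg.Agent.S1373
import Cfsg.Agent.Lib.OddOrder.PrimeActionChief
import Cfsg.Agent.Lib.OddOrder.FittingHallSigma

set_option autoImplicit false
open Cfsg

namespace Cfsg.Agent.S1437

open CfsgLib.OddOrder Subgroup

open scoped commutatorElement

/-- Let G be a minimal simple group of odd order and M a maximal subgroup with standard factorisation M = K U M_σ such that M_F ≠ M_σ; put K* = M_σ ∩ C_G(K), p = #K, q = #K*. Then U = 1 and M_σ = M'; p and q are prime, q divides #M_F and q ∈ β(M); M_σ has a Sylow q-subgroup Q normal in M and contained in M_F; every complement D of Q in M_σ is nilpotent, and Q₀ = Q ∩ C_G(D) is normal in M; Q₀ < Q with #Q = #Q₀ · q ^ p, every element of Q has its q-th power and all its commutators with Q in Q₀, and every subgroup strictly between Q₀ and Q fails to be normal in M. -/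
theorem result {G : Type*} [Group G] [Finite G] (hG : Cfsg.IsMinSimpleOddOrder G)
    (M : Subgroup G) (hM : IsCoatom M) (K U : Subgroup G) (hKU : Cfsg.IsSigmaDecomposition M K U) (hne : Cfsg.fittingHallOf M ≠ Cfsg.sigmaCore M) :
    U = ⊥ ∧ Cfsg.sigmaCore M = ⁅M, M⁆ ∧ (Nat.card K).Prime ∧ (Nat.card ↥(Cfsg.sigmaCore M ⊓ Subgroup.centralizer (K : Set G))).Prime ∧
      Nat.card ↥(Cfsg.sigmaCore M ⊓ Subgroup.centralizer (K : Set G)) ∣ Nat.card (Cfsg.fittingHallOf M) ∧ Nat.card ↥(Cfsg.sigmaCore M ⊓ Subgroup.centralizer (K : Set G)) ∈ Cfsg.beta M ∧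
      ∃ Q : Subgroup G, Q ≤ Cfsg.fittingHallOf M ∧ M ≤ Subgroup.normalizer (Q : Set G) ∧ IsPGroup (Nat.card ↥(Cfsg.sigmaCore M ⊓ Subgroup.centralizer (K : Set G))) Q ∧
        ¬ Nat.card ↥(Cfsg.sigmaCore M ⊓ Subgroup.centralizer (K : Set G)) ∣ Q.relIndex (Cfsg.sigmaCore M) ∧
        ∀ D : Subgroup G, Cfsg.IsComplIn Q D (Cfsg.sigmaCore M) →
          Group.IsNilpotent D ∧ M ≤ Subgroup.normalizer ((Q ⊓ Subgroup.centralizer (D : Set G) : Subgroup G) : Set G) ∧
          Q ⊓ Subgroup.centralizer (D : Set G) < Q ∧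
          Nat.card Q = Nat.card ↥(Q ⊓ Subgroup.centralizer (D : Set G)) * Nat.card ↥(Cfsg.sigmaCore M ⊓ Subgroup.centralizer (K : Set G)) ^ Nat.card K ∧
          (∀ a ∈ Q, ∀ b ∈ Q, a ^ Nat.card ↥(Cfsg.sigmaCore M ⊓ Subgroup.centralizer (K : Set G)) ∈ Q ⊓ Subgroup.centralizer (D : Set G) ∧
            a * b * a⁻¹ * b⁻¹ ∈ Q ⊓ Subgroup.centralizer (D : Set G)) ∧
          ∀ N : Subgroup G, Q ⊓ Subgroup.centralizer (D : Set G) < N → N < Q → ¬ M ≤ Subgroup.normalizer (N : Set G) := by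
  set S := Cfsg.sigmaCore M with hSdef
  haveI := CfsgLib.OddOrder.isSolvable_of_ne_top hG hM.1
  have hSM : S ≤ M := piCoreOf_le _ _
  have hnil : ¬ Group.IsNilpotent S := fun h => hne (sigmaCore_eq_fittingHallOf hG hM h).symm
  have hall : ∀ s : ℕ, s.Prime → s ∣ Nat.card M → s ∉ Cfsg.sigma M → s ∈ Cfsg.kappa M := by
    intro s hs hd hσ
    by_contra hκ
    haveI := Fact.mk hs
    obtain ⟨T⟩ : Nonempty (Sylow s M) := inferInstance
    exact hnil (Cfsg.Agent.S1429.result hG M hM (fun h => hκ (h s hs hd hσ)) s hd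
      (fun h => h.elim hσ hκ) T).2.2
  have hU : U = ⊥ := by
    by_contra hne'
    obtain ⟨s, hs, hd⟩ := Nat.exists_prime_and_dvd
      (fun h1 => hne' (Subgroup.card_eq_one.1 h1) : Nat.card U ≠ 1)
    have hh := decomposition_U_primes hG hM hKU hs hd
    exact hh.2 (hall s hs (hd.trans (card_dvd_of_le hKU.compl.1)) hh.1)
  have hcompl : Cfsg.IsComplIn K S M := by
    have h := decomposition_isComplIn hKU
    rwa [hU, bot_sup_eq] at h
  obtain ⟨-, hgen, -⟩ := Cfsg.Agent.S1426.result hG M hM K hcompl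
  have hK1 : K ≠ ⊥ := fun hb => sigmaCore_ne_bot hG hM (by
    rw [← hgen, hb, commutator_bot_right])
  have h := isKappaPair_of_decomposition hM hKU hK1
  have hKM : K ≤ M := hKU.hall.1
  haveI hKc := hKU.cyclic
  have hSnM : M ≤ normalizer (S : Set G) := le_normalizer_piCoreOf _ _
  have hder : S = ⁅M, M⁆ := by
    refine le_antisymm (hgen.ge.trans (commutator_mono hSM hKM)) ?_
    haveI : (S.subgroupOf M).Normal := normal_subgroupOf_of_le_normalizer hSnM
    set f := QuotientGroup.mk' (S.subgroupOf M) with hf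
    have hrep : ∀ (a : G) (ha : a ∈ M), ∃ k : M, (k : G) ∈ K ∧ f ⟨a, ha⟩ = f k := by
      intro a ha
      obtain ⟨k, hk, s, hs, rfl⟩ := hcompl.2.2.2 a ha
      refine ⟨⟨k, hKM hk⟩, hk, ?_⟩
      rw [show (⟨k * s, ha⟩ : M) = ⟨k, hKM hk⟩ * ⟨s, hSM hs⟩ from rfl, map_mul,
        show f (⟨s, hSM hs⟩ : M) = 1 from
          (QuotientGroup.eq_one_iff _).2 (mem_subgroupOf.2 hs), mul_one]
    rw [Subgroup.commutator_le]
    intro a ha b hb
    obtain ⟨k, hk, e1⟩ := hrep a ha
    obtain ⟨k', hk', e2⟩ := hrep b hb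
    have h1 : f ⁅(⟨a, ha⟩ : M), ⟨b, hb⟩⁆ = 1 := by
      rw [map_commutatorElement, e1, e2, ← map_commutatorElement,
        show ⁅k, k'⁆ = 1 from commutatorElement_eq_one_iff_mul_comm.2
          (Subtype.ext (congrArg Subtype.val
            (IsCyclic.commGroup.mul_comm (⟨k, hk⟩ : K) ⟨k', hk'⟩) :)), map_one]
    exact mem_subgroupOf.1 ((QuotientGroup.eq_one_iff _).1 h1)
  have hqp : (Nat.card ↥(kappaStar M K)).Prime :=
    Cfsg.Agent.S1373.result hG M hM K U hKU hK1 hU
  set q := Nat.card ↥(kappaStar M K) with hqdef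
  haveI := Fact.mk hqp
  -- inside `M`
  set N := S.subgroupOf M with hN
  haveI : N.Normal := normal_subgroupOf_of_le_normalizer hSnM
  set K' := K.subgroupOf M with hK'
  have hinf : ∀ A B : Subgroup G, B ≤ M →
      A.subgroupOf M ⊓ centralizer (B.subgroupOf M : Set M) =
        (A ⊓ centralizer (B : Set G)).subgroupOf M := by
    intro A B hB
    ext x
    constructor
    · rintro ⟨h1, h2⟩
      exact ⟨h1, fun b hb => congrArg Subtype.val (h2 ⟨b, hB hb⟩ hb)⟩
    · rintro ⟨h1, h2⟩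
      exact ⟨h1, fun b hb => Subtype.ext (h2 b hb)⟩
  have hcardOf : ∀ A : Subgroup G, A ≤ M → Nat.card (A.subgroupOf M) = Nat.card A := fun A hA =>
    Nat.card_congr (subgroupOfEquivOfLe hA).toEquiv
  have hstarM : kappaStar M K ≤ M := inf_le_left.trans hSM
  obtain ⟨Q', hQn, hQN, hQp, hQ1, hQrel, hKp, hD⟩ := exists_prime_action_chief (X := M)
    (N := N) (K := K') (q := q) (odd_card_subgroup hG M)
    (eq_top_iff.2 fun x _ => by
      obtain ⟨k, hk, s, hs, he⟩ := hcompl.2.2.2 x x.2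
      rw [show x = (⟨k, hKM hk⟩ : M) * ⟨s, hSM hs⟩ from Subtype.ext he]
      exact mul_mem (mem_sup_right hk) (mem_sup_left hs))
    (by
      rw [hcardOf S hSM, hcardOf K hKM]
      exact Nat.coprime_of_dvd fun s hs h1 h2 =>
        h.not_sigma hs h2 (sigma_of_dvd_sigmaCore hs h1))
    (fun hb => hK1 (by rwa [hK', subgroupOf_eq_bot, disjoint_iff, inf_eq_left.2 hKM] at hb))
    (fun x hx hx1 => by
      rw [hinf S K hKM, ← (Cfsg.Agent.S1430.result hG M hM K hKU.hall hK1).1 x hx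
        (fun e => hx1 (Subtype.ext e))]
      ext y
      simp only [Subgroup.mem_inf, mem_subgroupOf, mem_centralizer_singleton_iff, N]
      exact and_congr Iff.rfl Subtype.ext_iff)
    (by rw [hinf S K hKM, hcardOf _ hstarM])
    (by
      apply Subgroup.map_injective M.subtype_injective
      rw [map_commutator, map_subgroupOf_eq_of_le hSM, map_subgroupOf_eq_of_le hKM, hgen])
    (fun hn => hnil (by
      haveI := hn
      exact Group.nilpotent_of_mulEquiv (subgroupOfEquivOfLe hSM)))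
  set Q := Q'.map M.subtype with hQdef
  have hQS : Q ≤ S := by
    rw [← map_subgroupOf_eq_of_le hSM]
    exact map_mono hQN
  have hQM : M ≤ normalizer (Q : Set G) := by
    refine le_trans (le_of_eq ?_) (le_normalizer_map (H := Q') M.subtype)
    rw [normalizer_eq_top, ← MonoidHom.range_eq_map, range_subtype]
  have hQsub : Q.subgroupOf M = Q' := comap_map_eq_self_of_injective M.subtype_injective Q'
  have hrel : Q.relIndex S = Q'.relIndex N := by
    rw [← hQsub, hN, relIndex_subgroupOf hSM]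
  have hQ1' : Q ≠ ⊥ := fun hb => hQ1 ((map_eq_bot_iff_of_injective _ M.subtype_injective).1 hb)
  have hQF : Q ≤ Cfsg.fittingHallOf M := by
    refine map_mono (le_sSup ⟨hQn, hQp.isNilpotent, ?_⟩)
    obtain ⟨n, hn⟩ := hQp.exists_card_eq
    rw [hn]
    refine (hqp.coprime_iff_not_dvd.2 fun hd => ?_).pow_left n
    rw [← relIndex_top_right, ← relIndex_mul_relIndex Q' N ⊤ hQN le_top, hqp.dvd_mul] at hd
    rcases hd with hd | hd
    · exact hQrel hd
    · rw [relIndex_top_right, show N.index = Nat.card K from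
        (card_eq_relIndex_of_isComplIn hcompl).symm] at hd
      exact h.not_sigma hqp hd (h.primes_kappaStar hqp dvd_rfl)
  have htrans : ∀ D : Subgroup G, Cfsg.IsComplIn Q D S →
      Cfsg.IsComplIn Q' (D.subgroupOf M) N := by
    intro D hDc
    refine ⟨hQN, fun x hx => hDc.2.1 hx, (eq_bot_iff_forall _).2 fun x hx => ?_, fun m hm => ?_⟩
    · have h1 : (x : G) ∈ Q ⊓ D := ⟨mem_map_of_mem M.subtype hx.1, hx.2⟩
      rw [hDc.2.2.1, mem_bot] at h1
      exact Subtype.ext h1
    · obtain ⟨a, ha, b, hb, he⟩ := hDc.2.2.2 m hm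
      obtain ⟨a', ha', rfl⟩ := ha
      exact ⟨a', ha', ⟨b, hSM (hDc.2.1 hb)⟩, hb, Subtype.ext he⟩
  have hβ : q ∈ Cfsg.beta M := by
    by_contra hqβ
    obtain ⟨-, -, -, -, h5⟩ := Cfsg.Agent.S1414.result hG M hM
    have hqM : q ∣ Nat.card M := card_dvd_of_le hstarM
    obtain ⟨P, W, hWn, hW⟩ := (h5 q hqp hqM hqβ).2.1
    haveI := hWn
    refine hnil ?_
    haveI : (Q.subgroupOf S).Normal := normal_subgroupOf_of_le_normalizer (hSM.trans hQM)
    have hQSp : IsPGroup q (Q.subgroupOf S) :=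
      (hQp.map M.subtype).of_equiv (subgroupOfEquivOfLe hQS).symm
    obtain ⟨T, hT⟩ : ∃ T : Sylow q S, (T : Subgroup S) = Q.subgroupOf S :=
      ⟨hQSp.toSylow (show ¬ q ∣ Q.relIndex S by rwa [hrel]), rfl⟩
    have hTP : (T : Subgroup S) ≤ (P : Subgroup S) := by
      rw [← P.3 (P.2.to_sup_of_normal_right hQSp) le_sup_left, hT]
      exact le_sup_right
    have hPQ : (P : Subgroup S) = Q.subgroupOf S := hT ▸ T.3 P.2 hTP
    rw [hPQ] at hW
    have hWc : Cfsg.IsComplIn Q (W.map S.subtype) S := by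
      refine ⟨hQS, map_subtype_le _, (eq_bot_iff_forall _).2 ?_, fun m hm => ?_⟩
      · rintro x ⟨hx, w, hw, rfl⟩
        have h1 : w ∈ W ⊓ Q.subgroupOf S := ⟨hw, hx⟩
        rw [disjoint_iff.1 hW.disjoint, mem_bot] at h1
        rw [h1, map_one]
      · obtain ⟨⟨⟨w, hw⟩, ⟨v, hv⟩⟩, he⟩ := hW.2 ⟨m, hm⟩
        have he' : (w : G) * v = m := congrArg Subtype.val he
        refine ⟨(w : G) * v * (w : G)⁻¹, (mem_normalizer_iff.1 (hQM (hSM w.2)) v).1 hv,
          w, mem_map_of_mem S.subtype hw, by rw [← he']; group⟩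
    haveI hWnil : Group.IsNilpotent W := by
      haveI := (hD _ (htrans _ hWc)).1
      haveI : Group.IsNilpotent ↥(W.map S.subtype) :=
        Group.nilpotent_of_mulEquiv (subgroupOfEquivOfLe ((map_subtype_le W).trans hSM))
      exact Group.nilpotent_of_mulEquiv (equivMapOfInjective W _ S.subtype_injective).symm
    have htop : (⊤ : Subgroup S) ≤ Cfsg.fittingSubgroup S := by
      rw [← hW.sup_eq_top]
      exact sup_le (CfsgLib.Solvable.le_fittingSubgroup hWn hWnil)
        (CfsgLib.Solvable.le_fittingSubgroup inferInstance hQSp.isNilpotent)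
    haveI : Group.IsNilpotent ↥(Cfsg.fittingSubgroup S) := (CfsgLib.Solvable.fittingSubgroup_isNilpotent _)
    haveI : Group.IsNilpotent ↥(⊤ : Subgroup S) :=
      Group.nilpotent_of_mulEquiv (MulEquiv.subgroupCongr (top_le_iff.1 htop))
    exact Group.nilpotent_of_mulEquiv Subgroup.topEquiv
  refine ⟨hU, hder, by rwa [hcardOf K hKM] at hKp, hqp, ?_, hβ, Q, hQF, hQM, hQp.map _,
    by rwa [hrel], fun D hDc => ?_⟩
  · exact (dvd_card_of_isPGroup (hQp.map M.subtype) hQ1').trans (card_dvd_of_le hQF)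
  obtain ⟨hn, hQ₀n, hlt, hcard, hpow, hirr⟩ := hD _ (htrans D hDc)
  rw [← hQsub, hinf Q D (hDc.2.1.trans hSM)] at hQ₀n hlt hcard hpow hirr
  rw [hQsub] at hlt hcard hpow hirr
  set Q₀ := Q ⊓ centralizer (D : Set G) with hQ₀
  have hQ₀M : Q₀ ≤ M := inf_le_left.trans (map_subtype_le _)
  refine ⟨?_, ?_, ?_, ?_, fun a ha b hb => ?_, fun W hW1 hW2 hWn => ?_⟩
  · haveI := hn
    exact Group.nilpotent_of_mulEquiv (subgroupOfEquivOfLe (hDc.2.1.trans hSM))
  · haveI := hQ₀n
    rw [← map_subgroupOf_eq_of_le hQ₀M]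
    refine le_trans (le_of_eq ?_) (le_normalizer_map (H := Q₀.subgroupOf M) M.subtype)
    rw [normalizer_eq_top, ← MonoidHom.range_eq_map, range_subtype]
  · rw [← map_subgroupOf_eq_of_le hQ₀M]
    exact (map_lt_map_iff_of_injective M.subtype_injective).2 hlt
  · rw [hQdef, card_map_of_injective M.subtype_injective, hcard, hcardOf Q₀ hQ₀M,
      hcardOf K hKM]
  · obtain ⟨a', ha', rfl⟩ := ha
    obtain ⟨b', hb', rfl⟩ := hb
    exact hpow a' ha' b' hb'
  · have hWM : W ≤ M := hW2.le.trans (map_subtype_le _)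
    refine hirr (W.subgroupOf M) ?_ ?_ (normal_subgroupOf_of_le_normalizer hWn)
    · refine lt_of_le_of_ne (fun x hx => hW1.le hx) fun e => hW1.ne ?_
      rw [← map_subgroupOf_eq_of_le hQ₀M, e, map_subgroupOf_eq_of_le hWM]
    · refine lt_of_le_of_ne (fun x hx => ?_) fun e => hW2.ne ?_
      · rw [← hQsub]
        exact hW2.le hx
      · rw [← map_subgroupOf_eq_of_le hWM, e]

end Cfsg.Agent.S1437
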