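import Cfsg.Statements.S0632
import Cfsg.Agent.Lib.PLocal.StableQuotient

set_option autoImplicit false
open Cfsg

namespace Cfsg.Agent.S0632

/-- For a group with a nontrivial normal p-subgroup, p-stability passes to and from the quotient by the largest normal subgroup of order prime to p. -/
theorem result {G : Type*} [Group G] [Finite G] {p : ℕ} [Fact p.Prime] (hO : Cfsg.pCore p G ≠ ⊥) : Cfsg.IsPStable p G ↔ Cfsg.IsPStable p (G ⧸ Cfsg.pPrimeCore p G) := by
  classical
  set π := QuotientGroup.mk' (Cfsg.pPrimeCore p G)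
  have hsurj : Function.Surjective π := QuotientGroup.mk'_surjective _
  have hker : π.ker = Cfsg.pPrimeCore p G := QuotientGroup.ker_mk' _
  have hcop : (Nat.card π.ker).Coprime p := by rw [hker]; exact CfsgLib.PLoc.pPrimeCore_coprime p
  have hObar : Cfsg.pPrimeCore p (G ⧸ Cfsg.pPrimeCore p G) = ⊥ :=
    CfsgLib.PLoc.pPrimeCore_quotient_eq_bot hsurj hker
  have hPP : Cfsg.pPrimePCore p (G ⧸ Cfsg.pPrimeCore p G) = Cfsg.pCore p (G ⧸ Cfsg.pPrimeCore p G) :=
    (CfsgLib.PLoc.pPrimePCore_eq_comap (f := MonoidHom.id _) Function.surjective_id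
      (by rw [hObar, MonoidHom.ker_id])).trans (Subgroup.comap_id _)
  have hPG : Cfsg.pPrimePCore p G = (Cfsg.pCore p (G ⧸ Cfsg.pPrimeCore p G)).comap π := rfl
  have hO' : Cfsg.pCore p (G ⧸ Cfsg.pPrimeCore p G) ≠ ⊥ := by
    intro h
    have h1 := CfsgLib.PLoc.pCore_map_le (p := p) hsurj
    rw [h, le_bot_iff, Subgroup.map_eq_bot_iff] at h1
    exact hO (le_bot_iff.mp ((le_inf le_rfl h1).trans
      (CfsgLib.PLoc.disjoint_of_pgroup_coprime (CfsgLib.PLoc.pCore_pgroup p G) hcop).le))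
  constructor
  · rintro ⟨hodd, -, h⟩
    refine ⟨hodd, hO', fun B Q hB hQ hBQ hQle hQn hcomm => ?_⟩
    rw [hObar, bot_sup_eq] at hQn
    rw [hPP] at hQle
    obtain ⟨P, -, hP, rfl⟩ := CfsgLib.PLoc.exists_pgroup_lift (f := π) (L := ⊤) hQ
      (by rw [Subgroup.map_top_of_surjective _ hsurj]; exact le_top)
    have hBN : B ≤ (Subgroup.normalizer (P : Set G)).map π := by
      rw [← CfsgLib.PLoc.normalizer_map_eq hsurj hcop hP]
      intro b hb
      exact Subgroup.mem_normalizer_fintype fun x hx => hBQ b hb x hx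
    obtain ⟨A, hAN, hA, rfl⟩ := CfsgLib.PLoc.exists_pgroup_lift hB hBN
    rw [← CfsgLib.PLoc.automizer_condition_map hsurj hcop hP hAN]
    refine h A P hA hP (fun a ha x hx => ((Subgroup.mem_normalizer_iff).mp (hAN ha) x).mp hx) ?_ ?_ ?_
    · rw [hPG, ← Subgroup.map_le_iff_le_comap]; exact hQle
    · rw [sup_comm, ← hker, ← Subgroup.comap_map_eq]
      exact hQn.comap π
    · rw [← Subgroup.map_commutator, ← Subgroup.map_commutator, Subgroup.map_eq_bot_iff] at hcomm
      have hle : ⁅⁅P, A⁆, A⁆ ≤ P :=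
        (Subgroup.commutator_mono (Subgroup.le_normalizer_iff_commutator_le_left.mp hAN) le_rfl).trans
          (Subgroup.le_normalizer_iff_commutator_le_left.mp hAN)
      exact le_bot_iff.mp ((le_inf hle hcomm).trans (CfsgLib.PLoc.disjoint_of_pgroup_coprime hP hcop).le)
  · rintro ⟨hodd, -, h⟩
    refine ⟨hodd, hO, fun A P hA hP hAP hPle hPn hcomm => ?_⟩
    have hAN : A ≤ Subgroup.normalizer (P : Set G) :=
      fun a ha => Subgroup.mem_normalizer_fintype fun x hx => hAP a ha x hx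
    rw [CfsgLib.PLoc.automizer_condition_map hsurj hcop hP hAN]
    refine h (A.map π) (P.map π) (hA.map π) (hP.map π) ?_ ?_ ?_ ?_
    · rintro _ ⟨a, ha, rfl⟩ _ ⟨x, hx, rfl⟩
      exact ⟨a * x * a⁻¹, hAP a ha x hx, by simp⟩
    · rw [hPP, Subgroup.map_le_iff_le_comap, ← hPG]; exact hPle
    · rw [hObar, bot_sup_eq]
      have := hPn.map π hsurj
      rwa [Subgroup.map_sup, show (Cfsg.pPrimeCore p G).map π = ⊥ from
        (Subgroup.map_eq_bot_iff _).mpr hker.ge, bot_sup_eq] at this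
    · rw [← Subgroup.map_commutator, ← Subgroup.map_commutator, hcomm, Subgroup.map_bot]

end Cfsg.Agent.S0632
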