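import Cfsg.Statements.S1421
import Cfsg.Agent.Lib.OddOrder.TauTwoNonabelian

set_option autoImplicit false
open Cfsg

namespace Cfsg.Agent.S1421

open CfsgLib.OddOrder Subgroup

/-- Let G be a minimal simple group of odd order, M a maximal subgroup and E a complement to M_σ in M. Suppose that every non-identity element e of E all of whose order's prime divisors lie in τ₁(M) ∪ τ₃(M) has M_σ ∩ C_G(e) = 1. Then E has an abelian normal subgroup A₀ with E ∩ C_G(x) ≤ A₀ for every non-identity x ∈ M_σ, and E has a subgroup E₀ of the same exponent as E such that no non-identity element of E₀ centralizes a non-identity element of M_σ. -/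
theorem result {G : Type*} [Group G] [Finite G] (hG : Cfsg.IsMinSimpleOddOrder G)
    (M : Subgroup G) (hM : IsCoatom M) (E : Subgroup G) (hE : Cfsg.IsComplIn E (Cfsg.sigmaCore M) M)
    (h : ∀ e ∈ E, e ≠ 1 → (∀ p : ℕ, p.Prime → p ∣ orderOf e → p ∈ Cfsg.tau1 M ∪ Cfsg.tau3 M) →
      Cfsg.sigmaCore M ⊓ Subgroup.centralizer ({e} : Set G) = ⊥) :
    (∃ A₀ : Subgroup G, A₀ ≤ E ∧ E ≤ Subgroup.normalizer (A₀ : Set G) ∧ IsMulCommutative A₀ ∧
        ∀ x ∈ Cfsg.sigmaCore M, x ≠ 1 → E ⊓ Subgroup.centralizer ({x} : Set G) ≤ A₀) ∧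
      ∃ E₀ : Subgroup G, E₀ ≤ E ∧ Monoid.exponent E₀ = Monoid.exponent E ∧
        ∀ e ∈ E₀, e ≠ 1 → Cfsg.sigmaCore M ⊓ Subgroup.centralizer ({e} : Set G) = ⊥ := by
  haveI := isSolvable_of_ne_top hG (H := E) fun hb => hM.1 (top_le_iff.1 (hb ▸ hE.1))
  set F := Cfsg.fittingOf E with hF
  have hFc : IsMulCommutative F := Cfsg.Agent.S1420.isMulCommutative_of_nilpotent hG hM
    ((fittingOf_le E).trans hE.1) (fittingOf_isNilpotent E) fun q hq hd =>
      complement_prime_not_sigma hG hM hE hq (hd.trans (card_dvd_of_le (fittingOf_le E)))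
  have hcore : ∀ (r : ℕ) [Fact r.Prime], Cfsg.piCoreOf {r} E ≤ F := fun r _ => by
    rw [← piCoreOf_singleton_fittingOf]; exact piCoreOf_le _ _
  have key : (∀ e ∈ E, Cfsg.sigmaCore M ⊓ centralizer ({e} : Set G) ≠ ⊥ → e ∈ F) ∧
      ∃ E₀ : Subgroup G, E₀ ≤ E ∧ Monoid.exponent E₀ = Monoid.exponent E ∧
        ∀ e ∈ E₀, e ≠ 1 → Cfsg.sigmaCore M ⊓ centralizer ({e} : Set G) = ⊥ := by
    by_cases hall : ∀ (r : ℕ) [Fact r.Prime], r ∈ Cfsg.tau2 M →
        ∀ T : Sylow r G, IsMulCommutative (T : Subgroup G)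
    · refine ⟨fun e he hb => mem_of_fixed_point hG hM hE h (fun z hz _ r i hr hrt ho => ?_) he hb,
        exists_fpf_subgroup_abelian hG hM hE h hall⟩
      haveI := Fact.mk hr
      exact hcore r (mem_piCoreOf_of_abelian hG hM hE hrt (hall r hrt) hz ho)
    push Not at hall
    obtain ⟨p, hp, hpt, T, hT⟩ := hall
    have hS : ∀ S : Sylow p G, ¬ IsMulCommutative (S : Subgroup G) := fun S hS =>
      hT (isMulCommutative_sylow_congr S T)
    obtain ⟨A₁, hA₁E, hEA₁, hA₁p, hbad, hE₀⟩ :=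
      exists_fpf_subgroup_nonabelian hG hM hE hpt hS h
    exact ⟨fun e he hb => hcore p
      (le_piCoreOf hA₁E hEA₁ (isPiSubgroup_singleton.2 hA₁p) (hbad e he hb)), hE₀⟩
  refine ⟨⟨F, fittingOf_le E, le_normalizer_fittingOf E, hFc, fun x hx hx1 e he => ?_⟩, key.2⟩
  refine key.1 e he.1 fun hb => hx1 (mem_bot.1 (hb ▸ ?_))
  exact ⟨hx, mem_centralizer_singleton_iff.2 (mem_centralizer_singleton_iff.1 he.2).symm⟩

end Cfsg.Agent.S1421
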