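import Cfsg.Statements.S1420
import Cfsg.Agent.Lib.OddOrder.TauTwo
import Cfsg.Agent.Lib.OddOrder.NonabelianUnique
import Cfsg.Agent.Lib.ConjAbelian.Lift

set_option autoImplicit false
set_option linter.style.haveILetI false
open Cfsg

namespace Cfsg.Agent.S1420

open CfsgLib.OddOrder Subgroup

open scoped commutatorElement

section

variable {G : Type*} [Group G] [Finite G] (hG : Cfsg.IsMinSimpleOddOrder G) {M : Subgroup G}
  (hM : IsCoatom M)
include hG hM

/-- A `p`-subgroup of `M`, `p ∉ σ(M)`, is abelian. -/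
theorem isMulCommutative_of_not_sigma {p : ℕ} [hp : Fact p.Prime] (hpσ : p ∉ Cfsg.sigma M)
    {S : Subgroup G} (hS : IsPGroup p S) (hSM : S ≤ M) : IsMulCommutative S := by
  by_cases hcyc : IsCyclic S
  · exact ⟨⟨fun a b => by haveI := hcyc; exact IsCyclic.commGroup.mul_comm a b⟩⟩
  by_cases hS1 : S = ⊥
  · subst hS1; infer_instance
  have hp2 : p ≠ 2 :=
    prime_ne_two_of_dvd_card hG ((dvd_card_of_isPGroup hS hS1).trans (card_dvd_of_le hSM))
  obtain ⟨A, hAS, hAe, hA2⟩ := exists_elementary_sq hp2 hS hcyc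
  obtain ⟨A₀, h, -⟩ :=
    Cfsg.Agent.S1417.exists_isExceptional hG hM hpσ (hAS.trans hSM) hAe hA2
  obtain ⟨P, hP, hSP⟩ := exists_isMaxPIn_ge hSM hS
  haveI := h.isMulCommutative_sylow hG hM hP
  exact ⟨⟨fun a b => Subtype.ext (setLike_mul_comm (s := P) (hSP a.2) (hSP b.2))⟩⟩

/-- BG 12.9 (nilpotent `σ(M)'`-subgroups are abelian). -/
theorem isMulCommutative_of_nilpotent {N : Subgroup G} (hNM : N ≤ M) (hN : Group.IsNilpotent N)
    (hσ : ∀ p : ℕ, p.Prime → p ∣ Nat.card N → p ∉ Cfsg.sigma M) : IsMulCommutative N := by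
  refine CfsgLib.ConjAbelian.isMulCommutative_of_sylow hN fun p hp S => ?_
  haveI := Fact.mk hp
  by_cases hd : p ∣ Nat.card N
  · haveI := isMulCommutative_of_not_sigma hG hM (hσ p hp hd) (S.2.map N.subtype)
      ((map_subtype_le _).trans hNM)
    exact ⟨⟨fun a b => Subtype.ext (Subtype.ext (setLike_mul_comm
      (s := (S : Subgroup N).map N.subtype) (mem_map_of_mem N.subtype a.2)
      (mem_map_of_mem N.subtype b.2)))⟩⟩
  · obtain ⟨n, hn⟩ := S.2.exists_card_eq
    rcases n with _ | n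
    · rw [Subgroup.card_eq_one.1 (hn.trans (pow_zero p))]
      infer_instance
    · exact absurd ((hn ▸ dvd_pow_self p n.succ_ne_zero).trans (card_subgroup_dvd_card _)) hd

end

/-- Let G be a minimal simple group of odd order and M a maximal subgroup with complement E to M_σ. Every nilpotent σ(M)'-subgroup of M is abelian and E' is abelian; if p ∈ σ(M) and P is a noncyclic p-subgroup of M then N_G(P) ≤ M; and if x is a nontrivial τ₂(M)-element of M commuting with a nontrivial element of M_σ then M is the unique maximal subgroup containing C_G(x). -/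
theorem result {G : Type*} [Group G] [Finite G] (hG : Cfsg.IsMinSimpleOddOrder G)
    (M : Subgroup G) (hM : IsCoatom M) (E : Subgroup G) (hE : Cfsg.IsComplIn E (Cfsg.sigmaCore M) M) :
    (∀ N : Subgroup G, N ≤ M → Group.IsNilpotent N → (∀ p : ℕ, p.Prime → p ∣ Nat.card N → p ∉ Cfsg.sigma M) → IsMulCommutative N) ∧
      IsMulCommutative ↥⁅E, E⁆ ∧
      (∀ (p : ℕ) (P : Subgroup G), p ∈ Cfsg.sigma M → IsPGroup p P → P ≤ M → ¬ IsCyclic P → Subgroup.normalizer (P : Set G) ≤ M) ∧
      ∀ x ∈ M, x ≠ 1 → (∀ p : ℕ, p.Prime → p ∣ orderOf x → p ∈ Cfsg.tau2 M) → x ∈ Cfsg.sigmaHat M →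
        Subgroup.centralizer ({x} : Set G) ≤ M ∧ ∀ L : Subgroup G, IsCoatom L → Subgroup.centralizer ({x} : Set G) ≤ L → L = M := by
  refine ⟨fun N hN hn hσ => isMulCommutative_of_nilpotent hG hM hN hn hσ,
    isMulCommutative_of_nilpotent hG hM ((commutator_le_self E).trans hE.1)
      (isNilpotent_complement_commutator hG hM hE) fun p hp hd =>
        complement_prime_not_sigma hG hM hE hp (hd.trans (card_dvd_of_le (commutator_le_self E))),
    fun p P hpσ hP hPM hPc g hg => ?_, fun x hxM hx1 hxτ hxσ => ?_⟩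
  · haveI := Fact.mk hpσ.1
    have hP1 : P ≠ ⊥ := fun hb => hPc (by rw [hb]; infer_instance)
    have hp2 : p ≠ 2 :=
      prime_ne_two_of_dvd_card hG ((dvd_card_of_isPGroup hP hP1).trans (card_dvd_of_le hPM))
    obtain ⟨A, hAP, hAe, hA2⟩ := exists_elementary_sq hp2 hP hPc
    obtain ⟨m, hm, c, hc, rfl⟩ := exists_eq_mul_centralizer hG hM hpσ hP hP1 hPM (g := g)
      ((mem_normalizer_iff_map_conj_eq.1 hg).le.trans hPM)
    exact mul_mem hm ((Cfsg.Agent.S1416.result hG M hM p A ⟨hAP.trans hPM, hAe, hA2⟩).1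
      (Subgroup.centralizer_le hAP hc))
  · -- the smallest prime divisor of the order of `x`
    set p := Nat.minFac (orderOf x)
    have hpp : p.Prime := Nat.minFac_prime fun h1 => hx1 (orderOf_eq_one_iff.1 h1)
    haveI := Fact.mk hpp
    have hpd : p ∣ orderOf x := Nat.minFac_dvd _
    have hp := hxτ p hpp hpd
    obtain ⟨E', hxE, hE'⟩ := exists_complement_ge hG hM (zpowers_le.2 hxM) fun q hq hd =>
      (hxτ q hq (by rwa [Nat.card_zpowers] at hd)).2.1
    have hxE' : x ∈ E' := hxE (mem_zpowers x)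
    obtain ⟨A, hAE, hAe, hA2⟩ := exists_elementary_in_complement hG hM hE' hp
    obtain ⟨⟨hEA, -⟩, -, -⟩ := Cfsg.Agent.S1418.result hG M hM E' hE' p hp A ⟨hAE, hAe, hA2⟩
    obtain ⟨A₀, h, -⟩ :=
      Cfsg.Agent.S1417.exists_isExceptional hG hM hp.2.1 (hAE.trans hE'.1) hAe hA2
    have hp2 : p ≠ 2 := prime_ne_two_of_dvd_card hG (h.dvd_card)
    have hAC : A ≤ centralizer ({x} : Set G) := by
      intro a ha
      rw [mem_centralizer_singleton_iff]
      have hmem : x ∈ centralizer ({a} : Set G) := by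
        refine mem_of_forall_exists_pow_mem (orderOf_pos x) fun q hq hqd => ?_
        haveI := Fact.mk hq
        obtain ⟨k, m, hm, hko⟩ :=
          Nat.exists_eq_pow_mul_and_not_dvd (orderOf_pos x).ne' q hq.one_lt.ne'
        refine ⟨m, fun hd => hm hd, ?_⟩
        have h2 : orderOf (x ^ m) ∣ q ^ k := by
          refine orderOf_dvd_of_pow_eq_one ?_
          rw [← pow_mul, mul_comm, ← hko, pow_orderOf_eq_one]
        have hxm : x ^ m ∈ normalizer (A : Set G) := pow_mem (hEA hxE') m
        by_cases hqp : q = p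
        · rw [hqp] at h2
          obtain ⟨i, -, hi⟩ := (Nat.dvd_prime_pow hpp).1 h2
          have hz : IsPGroup p (zpowers (x ^ m)) :=
            IsPGroup.of_card (n := i) (by rw [Nat.card_zpowers, hi])
          obtain ⟨P, hP, hle⟩ := exists_isMaxPIn_ge (B := zpowers (x ^ m) ⊔ A)
            (sup_le (zpowers_le.2 (pow_mem hxM m)) h.le)
            (hz.to_sup_of_normal_right' h.pgroup (zpowers_le.2 hxm))
          haveI := h.isMulCommutative_sylow hG hM hP
          exact mem_centralizer_singleton_iff.2 (setLike_mul_comm (s := P)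
            (hle (mem_sup_left (mem_zpowers _))) (hle (mem_sup_right ha)))
        · have hgt : ∀ t : ℕ, t.Prime → t ∣ orderOf (x ^ m) → p < t := fun t ht htd => by
            rw [(Nat.prime_dvd_prime_iff_eq ht hq).1 (ht.dvd_of_dvd_pow (htd.trans h2))]
            exact lt_of_le_of_ne (Nat.minFac_le_of_dvd hq.two_le hqd) (Ne.symm hqp)
          have h3 := mem_centralizer_of_primes_gt hp2 h.pgroup
            (CfsgLib.TwoFusion.PRank.pRankLE_mono h.le hp.2.2.1) hxm hgt
          exact mem_centralizer_singleton_iff.2 (h3 a ha).symm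
      exact (mem_centralizer_singleton_iff.1 hmem).symm
    obtain ⟨-, y, hy, hy1, hxy⟩ := hxσ
    have key : ∀ L : Subgroup G, IsCoatom L → centralizer ({x} : Set G) ≤ L → L = M :=
      fun L hL hCL => by_contra fun hLM => hy1 (by
        have h1 : y ∈ Cfsg.sigmaCore M ⊓ L := ⟨hy, hCL (mem_centralizer_singleton_iff.2 hxy.symm)⟩
        rwa [Cfsg.Agent.S1417.sigmaCore_inf_eq_bot hG hM h hL hLM (hAC.trans hCL), mem_bot] at h1)
    obtain ⟨L, hL, hCL⟩ := exists_isCoatom_ge (centralizer_singleton_ne_top hG hx1)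
    exact ⟨key L hL hCL ▸ hCL, key⟩

end Cfsg.Agent.S1420
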