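import Cfsg.Statements.S1439
import Cfsg.Agent.Lib.OddOrder.KappaBasic
import Cfsg.Agent.Lib.OddOrder.Section12
import Cfsg.Agent.S1417
import Cfsg.Agent.S1420
import Cfsg.Agent.Lib.OddOrder.BenderInvariant
-- import your own Cfsg.Agent.* helpers here

set_option autoImplicit false
set_option maxHeartbeats 400000
set_option linter.style.haveILetI false
open Cfsg
open Subgroup CfsgLib CfsgLib.OddOrder

namespace Cfsg.Agent.S1439

/-- Let G be a minimal simple group of odd order and M a maximal subgroup, and let Y be the largest normal subgroup of F(M) involving no prime of σ(M). Then Y is cyclic, every prime divisor of its order lies in τ₂(M), and F(M) is generated by F(M_σ) and Y (a direct product, the orders being coprime). -/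
theorem result {G : Type*} [Group G] [Finite G] (hG : Cfsg.IsMinSimpleOddOrder G)
    (M : Subgroup G) (hM : IsCoatom M) :
    IsCyclic ↥(Cfsg.piCoreOf {q | q.Prime ∧ q ∉ Cfsg.sigma M} (Cfsg.fittingOf M)) ∧
      (∀ p : ℕ, p.Prime → p ∣ Nat.card ↥(Cfsg.piCoreOf {q | q.Prime ∧ q ∉ Cfsg.sigma M} (Cfsg.fittingOf M)) → p ∈ Cfsg.tau2 M) ∧
      Cfsg.fittingOf M = Cfsg.fittingOf (Cfsg.sigmaCore M) ⊔ Cfsg.piCoreOf {q | q.Prime ∧ q ∉ Cfsg.sigma M} (Cfsg.fittingOf M) := by
  haveI := isSolvable_of_ne_top hG hM.1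
  set F := Cfsg.fittingOf M with hFdef
  set π' : Set ℕ := {q | q.Prime ∧ q ∉ Cfsg.sigma M} with hπ'
  set Y := Cfsg.piCoreOf π' F with hYdef
  set S := Cfsg.sigmaCore M with hSdef
  have hFn : Group.IsNilpotent F := fittingOf_isNilpotent M
  have hFM : F ≤ M := fittingOf_le M
  have hYM : Y ≤ M := (piCoreOf_le _ _).trans hFM
  have hMF : M ≤ normalizer (F : Set G) := le_normalizer_fittingOf M
  have hMY : M ≤ normalizer (Y : Set G) := hMF.trans (normalizer_le_normalizer_piCoreOf _ _)
  have hYn : Group.IsNilpotent Y := by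
    haveI := hFn
    exact Group.nilpotent_of_mulEquiv (subgroupOfEquivOfLe (piCoreOf_le π' F))
  have hYσ : ∀ q : ℕ, q.Prime → q ∣ Nat.card Y → q ∉ Cfsg.sigma M := fun q hq hd =>
    (piCoreOf_isPiSubgroup π' F q hq hd).2
  obtain ⟨E, hYE, hE⟩ := exists_complement_ge hG hM hYM hYσ
  have hYab : IsMulCommutative Y := (Cfsg.Agent.S1420.result hG M hM E hE).1 Y hYM hYn hYσ
  have hSM : S ≤ M := piCoreOf_le _ _
  have hYC : Y ≤ centralizer (S : Set G) :=
    commute_of_normalize_disjoint (hYM.trans (le_normalizer_piCoreOf _ _)) (hSM.trans hMY)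
      (disjoint_of_isPiSubgroup (piCoreOf_isPiSubgroup π' F) (piCoreOf_isPiSubgroup _ M)
        fun s hs hsσ _ => hs.2 hsσ)
  have hdec : F = Cfsg.fittingOf S ⊔ Y := by
    refine le_antisymm ?_ (sup_le ?_ (piCoreOf_le _ _))
    · refine (le_sup_piCoreOf_of_nilpotent hFn (Cfsg.sigma M)).trans (sup_le_sup_right ?_ _)
      have hle : Cfsg.piCoreOf (Cfsg.sigma M) F ≤ S :=
        le_piCoreOf ((piCoreOf_le _ _).trans hFM)
          (hMF.trans (normalizer_le_normalizer_piCoreOf _ _)) (piCoreOf_isPiSubgroup _ _)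
      refine le_fittingOf hle
        (hSM.trans (hMF.trans (normalizer_le_normalizer_piCoreOf _ _))) ?_
      haveI := hFn
      exact Group.nilpotent_of_mulEquiv (subgroupOfEquivOfLe (piCoreOf_le (Cfsg.sigma M) F))
    · refine le_fittingOf ((fittingOf_le S).trans hSM) ?_ (fittingOf_isNilpotent S)
      exact (le_normalizer_piCoreOf (Cfsg.sigma M) M).trans (normalizer_le_normalizer_fittingOf S)
  have htau : ∀ p : ℕ, p.Prime → p ∣ Nat.card Y → p ∈ Cfsg.tau2 M := by
    intro p hp hpY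
    haveI := Fact.mk hp
    have hps := hYσ p hp hpY
    have hpM : p ∣ Nat.card M := hpY.trans (card_dvd_of_le hYM)
    refine ⟨hp, hps, pRankLE_two_of_not_sigma hG hM hp hps, fun hr1 => hps ?_⟩
    obtain ⟨y, hy⟩ := exists_prime_orderOf_dvd_card' p hpY
    set P := Cfsg.piCoreOf {p} Y with hPdef
    have hPY : P ≤ Y := piCoreOf_le _ _
    have hyP : (y : G) ∈ P := mem_piCoreOf_of_nilpotent hYn y.2 fun t ht hd => by
      rw [Subgroup.orderOf_coe, hy] at hd
      exact (Nat.prime_dvd_prime_iff_eq ht hp).1 hd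
    have hP1 : P ≠ ⊥ := fun h => by
      have h1 : (y : G) = 1 := mem_bot.1 (h ▸ hyP)
      rw [← Subgroup.orderOf_coe, h1, orderOf_one] at hy
      exact hp.ne_one hy.symm
    have hNP : normalizer (P : Set G) = M := normalizer_eq_of_isCoatom_of_le hG hM hP1
      (hPY.trans hYM) (hMY.trans (normalizer_le_normalizer_piCoreOf _ _))
    obtain ⟨T, hT, hPT⟩ := exists_isMaxPIn_ge (hPY.trans hYM) (piCoreOf_singleton_isPGroup p Y)
    haveI := isCyclic_pgroup_of_rank_one hG hpM hr1 hT.pgroup hT.le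
    obtain ⟨s, hs⟩ := IsCyclic.exists_generator (α := T)
    obtain ⟨W, hW⟩ := hT.exists_sylow
    refine ⟨hp, hpM, W, ?_⟩
    rw [hW, ← hNP]
    intro g hg
    refine mem_normalizer_fintype fun x hx => ?_
    obtain ⟨j, hj⟩ := mem_zpowers_iff.1 (hs ⟨_, (mem_normalizer_iff.1 hg (s : G)).1 s.2⟩)
    obtain ⟨k, hk⟩ := mem_zpowers_iff.1 (hs ⟨x, hPT hx⟩)
    have hk' : (s : G) ^ k = x := congrArg Subtype.val hk
    have hj' : (s : G) ^ j = g * (s : G) * g⁻¹ := congrArg Subtype.val hj
    rw [← hk', ← conj_zpow, ← hj', ← zpow_mul, mul_comm, zpow_mul, hk']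
    exact zpow_mem hx j
  refine ⟨?_, htau, hdec⟩
  haveI := hYn
  haveI : IsZGroup Y := (isZGroup_iff _).2 fun q hq W => by
    haveI := Fact.mk hq
    by_contra hnc
    by_cases hqY : q ∣ Nat.card Y
    · have h1 : ¬ Cfsg.PRankLE q 1 Y := fun h =>
        not_pRankLE_one_of_not_isCyclic (prime_ne_two_of_dvd_card hG hqY) W.2 hnc
          (TwoFusion.PRank.pRankLE_of_injective _ (subtype_injective _) h)
      obtain ⟨A, hAY, hA, hA2⟩ := exists_elementary_two h1
      have h4 := (Cfsg.Agent.S1417.result hG M hM q (htau q hq hqY) A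
        ⟨hAY.trans hYM, hA, hA2⟩).2.2.2.1
      refine sigmaCore_ne_bot hG hM (le_bot_iff.1 ?_)
      rw [← h4]
      exact le_inf le_rfl fun x hx => mem_centralizer_iff.2 fun a ha =>
        (mem_centralizer_iff.1 (hYC (hAY ha)) x hx).symm
    · refine hnc ?_
      obtain ⟨n, hn⟩ := W.2.exists_card_eq
      rcases n with _ | n
      · haveI : Subsingleton (W : Subgroup Y) :=
          (Nat.card_eq_one_iff_unique.1 (hn.trans (pow_zero q))).1
        exact isCyclic_of_subsingleton
      · exact absurd ((hn ▸ dvd_pow_self q n.succ_ne_zero).trans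
          (card_subgroup_dvd_card _)) hqY
  infer_instance

end Cfsg.Agent.S1439
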