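import Cfsg.Statements.S1372
import Cfsg.Agent.Lib.OddOrder.KappaMain
import Cfsg.Agent.Lib.OddOrder.FHall
import Cfsg.Agent.S1437
import Cfsg.Agent.S1365
import Cfsg.Agent.S1363
import Cfsg.Agent.Lib.OddOrder.FittingTI

set_option autoImplicit false
set_option maxHeartbeats 400000
open Cfsg

namespace Cfsg.Agent.S1372

/-- Let G be a minimal simple group of odd order and M a maximal subgroup with standard factorisation M = K U M_σ, K ≠ 1 and U ≠ 1. Then K has prime order, and the Fitting subgroup F(M) contains M_σ and is a TI-subset of G. -/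
theorem result {G : Type*} [Group G] [Finite G] (hG : Cfsg.IsMinSimpleOddOrder G)
    (M : Subgroup G) (hM : IsCoatom M) (K U : Subgroup G) (hKU : Cfsg.IsSigmaDecomposition M K U) (hK1 : K ≠ ⊥) (hU1 : U ≠ ⊥) :
    (Nat.card K).Prime ∧ Cfsg.IsTISubset (Cfsg.fittingOf M : Set G) ∧ Cfsg.sigmaCore M ≤ Cfsg.fittingOf M := by
  obtain ⟨q, hq, hqU⟩ := Nat.exists_prime_and_dvd (U.one_lt_card_iff_ne_bot.2 hU1).ne'
  obtain ⟨hσ, hκ⟩ := CfsgLib.OddOrder.decomposition_U_primes hG hM hKU hq hqU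
  have hqM : q ∣ Nat.card M := hqU.trans (Subgroup.card_dvd_of_le hKU.compl.1)
  have hHS : Cfsg.fittingHallOf M = Cfsg.sigmaCore M :=
    by_contra fun h => hU1 (Cfsg.Agent.S1437.result hG M hM K U hKU h).1
  have hSF : Cfsg.sigmaCore M ≤ Cfsg.fittingOf M :=
    hHS ▸ CfsgLib.OddOrder.fittingHallOf_le_fittingOf M
  refine ⟨CfsgLib.OddOrder.kappa_hall_prime_of_not_typeP1 hG hM hKU.hall hK1 hq hqM hσ hκ, ?_, hSF⟩
  intro g hg x hx hgx
  by_contra hx1
  have hgM : g ∉ M := fun h => hg (CfsgLib.OddOrder.le_normalizer_fittingOf M h)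
  set y := g * x * g⁻¹ with hy
  have hy1 : y ≠ 1 := fun h => hx1 (conj_eq_one_iff.1 h)
  obtain ⟨p, hp, hpd⟩ := Nat.exists_prime_and_dvd fun h => hy1 (orderOf_eq_one_iff.1 h)
  haveI := Fact.mk hp
  have hzy : g⁻¹ * y ^ (orderOf y / p) * g ∈ Cfsg.fittingOf M := by
    rw [hy, conj_pow]
    simpa [mul_assoc] using Subgroup.pow_mem _ hx (orderOf (g * x * g⁻¹) / p)
  have hF : ⁅M, M⁆ ≤ Cfsg.fittingOf M :=
    CfsgLib.OddOrder.commutator_le_fittingOf_of_fitting_conj hG hM hgM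
      (Subgroup.pow_mem _ hgx (orderOf y / p))
      (orderOf_pow_orderOf_div (orderOf_pos y).ne' hpd) hzy
  obtain ⟨hder, -⟩ := Cfsg.Agent.S1365.result hG M hM K U hKU hK1
  obtain ⟨-, hNU⟩ := Cfsg.Agent.S1363.result hG M hM K U hKU hK1
  have hFn := CfsgLib.OddOrder.fittingOf_isNilpotent M
  have hUF : U ≤ Cfsg.fittingOf M := (hder ▸ le_sup_left : U ≤ ⁅M, M⁆).trans hF
  have hUS : U ≤ Subgroup.centralizer (Cfsg.sigmaCore M : Set G) := by
    intro u hu
    refine Subgroup.mem_centralizer_iff.2 fun s hs => ?_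
    have h1 := CfsgLib.OddOrder.mem_piCoreOf_of_nilpotent hFn (hUF hu)
      (π := {t | t.Prime ∧ t ∉ Cfsg.sigma M}) fun t ht htd =>
        ⟨ht, (CfsgLib.OddOrder.decomposition_U_primes hG hM hKU ht
          (htd.trans (CfsgLib.OddOrder.orderOf_dvd_card_of_mem hu))).1⟩
    have h2 := CfsgLib.OddOrder.mem_piCoreOf_of_nilpotent hFn (hSF hs)
      (π := Cfsg.sigma M) fun t ht htd => CfsgLib.OddOrder.sigma_of_dvd_sigmaCore ht
        (htd.trans (CfsgLib.OddOrder.orderOf_dvd_card_of_mem hs))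
    exact (Subgroup.mem_centralizer_iff.1 (CfsgLib.OddOrder.piCoreOf_le_centralizer_piCoreOf _
      (fun t h h' _ => h'.2 h) h2) u h1).symm
  have hMN : M ≤ Subgroup.normalizer (U : Set G) := by
    intro m hm
    obtain ⟨a, ha, b, hb, rfl⟩ := hKU.compl.2.2.2 m hm
    refine Subgroup.mul_mem _ (Subgroup.le_normalizer ha) ((sup_le hKU.normal ?_) hb)
    exact (Subgroup.le_centralizer_iff.1 hUS).trans (Subgroup.centralizer_le_normalizer _)
  exact hNU (CfsgLib.OddOrder.normalizer_eq_of_isCoatom_of_le hG hM hU1 hKU.compl.1 hMN).le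

end Cfsg.Agent.S1372
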