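import Cfsg.Statements.S1357
import Cfsg.Agent.Lib.OddOrder.Section15Cases
import Cfsg.Agent.Lib.OddOrder.FittingTIDichotomy

set_option autoImplicit false
open Cfsg

namespace Cfsg.Agent.S1357

/-- Let G be a minimal simple group of odd order and M a maximal subgroup with standard factorisation M = K U M_σ. If M_F ≠ M_σ then U = 1, the Fitting subgroup F(M) meets its conjugates by elements outside its normalizer trivially, and K has prime order. -/
theorem result {G : Type*} [Group G] [Finite G] (hG : Cfsg.IsMinSimpleOddOrder G)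
    (M : Subgroup G) (hM : IsCoatom M) (K U : Subgroup G) (hKU : Cfsg.IsSigmaDecomposition M K U) (hne : Cfsg.fittingHallOf M ≠ Cfsg.sigmaCore M) :
    U = ⊥ ∧ Cfsg.IsTISubset (Cfsg.fittingOf M : Set G) ∧ (Nat.card K).Prime := by
  obtain ⟨hU, hS, hK, -⟩ := Cfsg.Agent.S1437.result hG M hM K U hKU hne
  refine ⟨hU, fun g hg x hx hgx => by_contra fun hx1 => ?_, hK⟩
  have hgM : g ∉ M := fun h => hg (CfsgLib.OddOrder.le_normalizer_fittingOf M h)
  have hX : Cfsg.fittingOf M ⊓ (Cfsg.fittingOf M).map (MulAut.conj g).toMonoidHom ≠ ⊥ := by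
    intro h
    refine hx1 (conj_eq_one_iff.1 (Subgroup.mem_bot.1 (h.le (Subgroup.mem_inf.2
      ⟨hgx, x, hx, rfl⟩))))
  have hF : ⁅M, M⁆ ≤ Cfsg.fittingOf M := (CfsgLib.OddOrder.fitting_not_ti_structure hG hM hKU g hgM hX).2.1
  refine hne (CfsgLib.OddOrder.sigmaCore_eq_fittingHallOf hG hM ?_).symm
  haveI := CfsgLib.OddOrder.fittingOf_isNilpotent M
  exact Group.nilpotent_of_mulEquiv (Subgroup.subgroupOfEquivOfLe (hS.le.trans hF))

end Cfsg.Agent.S1357
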