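import Cfsg.Statements.S1362
import Cfsg.Agent.S1432
import Cfsg.Agent.S1352
import Cfsg.Agent.Lib.OddOrder.SigmaParts
import Cfsg.Agent.Lib.OddOrder.SigmaConj
import Cfsg.Agent.Lib.OddOrder.KappaDerived

set_option autoImplicit false
open Cfsg Subgroup CfsgLib CfsgLib.OddOrder

namespace Cfsg.Agent.S1362

/-- Let G be a minimal simple group of odd order and M a maximal subgroup with standard factorisation M = K U M_σ, and let A(M) be the set of elements of U M_σ centralizing some non-identity element of M_σ. Then A(M) with M_σ removed is a TI-subset of G. -/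
theorem result {G : Type*} [Group G] [Finite G] (hG : Cfsg.IsMinSimpleOddOrder G)
    (M : Subgroup G) (hM : IsCoatom M) (K U : Subgroup G) (hKU : Cfsg.IsSigmaDecomposition M K U) :
    Cfsg.IsTISubset (Cfsg.sigmaA M U \ (Cfsg.sigmaCore M : Set G)) := by
  set W := U ⊔ Cfsg.sigmaCore M with hW
  obtain ⟨hKM, hUM⟩ := decomposition_le hKU
  have hSM : Cfsg.sigmaCore M ≤ M := piCoreOf_le _ _
  have hWM : W ≤ M := sup_le hUM hSM
  have hWn : M ≤ normalizer (W : Set G) :=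
    (Cfsg.Agent.S1352.result hG M hM K hKU.cyclic hKU.hall).2 U hKU
  have hSn : M ≤ normalizer ((Cfsg.sigmaCore M : Subgroup G) : Set G) :=
    le_normalizer_piCoreOf (Cfsg.sigma M) M
  set X := Cfsg.sigmaA M U \ (Cfsg.sigmaCore M : Set G) with hX
  have hfwd : ∀ m ∈ M, ∀ a ∈ X, m * a * m⁻¹ ∈ X := by
    rintro m hm a ⟨⟨⟨haM, y, hy, hy1, hay⟩, haW⟩, haS⟩
    refine ⟨⟨⟨mul_mem (mul_mem hm haM) (inv_mem hm), m * y * m⁻¹,
      (mem_normalizer_iff.1 (hSn hm) y).1 hy, fun h => hy1 (conj_eq_one_iff.1 h), ?_⟩,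
      (mem_normalizer_iff.1 (hWn hm) a).1 haW⟩, fun h => haS ((mem_normalizer_iff.1 (hSn hm) a).2 h)⟩
    calc m * a * m⁻¹ * (m * y * m⁻¹) = m * (a * y) * m⁻¹ := by group
      _ = m * (y * a) * m⁻¹ := by rw [hay]
      _ = m * y * m⁻¹ * (m * a * m⁻¹) := by group
  -- the `σ(M)'`-part of an element of `X`
  have key : ∀ a ∈ X, ∀ u b : G, b ∈ zpowers a → a = u * b →
      (∀ q : ℕ, q.Prime → q ∣ orderOf u → q ∈ Cfsg.sigma M) →
      (∀ q : ℕ, q.Prime → q ∣ orderOf b → q ∉ Cfsg.sigma M) →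
      centralizer ({b} : Set G) ≤ M ∧
        ∀ L : Subgroup G, IsCoatom L → centralizer ({b} : Set G) ≤ L → L = M := by
    rintro a ⟨⟨⟨haM, y, hy, hy1, hay⟩, haW⟩, haS⟩ u b hb hab huπ hbπ
    have hb1 : b ≠ 1 := by
      rintro rfl
      refine haS (le_sigmaCore_of_piSubgroup hG hM (fun q hq hd => huπ q hq ?_)
        (zpowers_le.2 haM) (mem_zpowers a))
      rwa [Nat.card_zpowers, hab, mul_one] at hd
    have hbC : b ∈ M ⊓ centralizer ({y} : Set G) := by
      refine ⟨zpowers_le.2 haM hb, mem_centralizer_singleton_iff.2 ?_⟩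
      obtain ⟨i, rfl⟩ := mem_zpowers_iff.1 hb
      exact ((show Commute a y from hay).zpow_left i).eq
    have hbW : ∀ q : ℕ, q.Prime → q ∣ orderOf b → q ∉ Cfsg.kappa M := by
      intro q hq hd hκ
      have hWd : Nat.card W ∣ Nat.card (Cfsg.sigmaCore M) * Nat.card U := by
        rw [hW, sup_comm]
        exact card_sup_dvd_mul_of_le_normalizer (hUM.trans hSn)
      rcases hq.dvd_mul.1 ((hd.trans (orderOf_dvd_card_of_mem (zpowers_le.2 haW hb))).trans hWd)
        with h | h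
      · exact kappa_not_sigma hκ (sigma_of_dvd_sigmaCore hq h)
      · exact (decomposition_U_primes hG hM hKU hq h).2 hκ
    rcases Cfsg.Agent.S1432.result hG M hM y hy hy1 b hbC hb1 hbπ with
      ⟨hκ, -⟩ | ⟨-, -, hCM, huniq⟩
    · obtain ⟨q, hq, hqd⟩ := Nat.exists_prime_and_dvd (n := orderOf b)
        fun h => hb1 (orderOf_eq_one_iff.1 h)
      exact absurd (hκ q hq hqd) (hbW q hq hqd)
    · exact ⟨hCM, huniq⟩
  intro g hg x hx hgx
  exfalso
  refine hg ?_
  obtain ⟨u, b, -, hb, hab, -, huπ, hbπ⟩ := exists_pi_parts (Cfsg.sigma M) x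
  have hord : ∀ z : G, orderOf (g * z * g⁻¹) = orderOf z := fun z =>
    MulEquiv.orderOf_eq (MulAut.conj g) z
  obtain ⟨hCg, -⟩ := key _ hgx (g * u * g⁻¹) (g * b * g⁻¹) (by
      obtain ⟨i, rfl⟩ := mem_zpowers_iff.1 hb
      exact ⟨i, conj_zpow⟩) (by rw [hab]; group)
    (fun q hq hd => huπ q hq (hord u ▸ hd)) (fun q hq hd => hbπ q hq (hord b ▸ hd))
  obtain ⟨-, huniq⟩ := key x hx u b hb hab huπ hbπ
  have hinv : g⁻¹ ∈ M := by
    refine mem_of_map_conj_eq hG hM (huniq _ (isCoatom_conj hM g⁻¹) ?_)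
    have h := Subgroup.map_mono (f := (MulAut.conj g⁻¹).toMonoidHom) hCg
    rwa [← centralizer_singleton_conj, inv_inv,
      show g⁻¹ * (g * b * g⁻¹) * g = b by group] at h
  intro n
  refine ⟨hfwd g (inv_mem_iff.1 hinv) n, fun h => ?_⟩
  have := hfwd g⁻¹ hinv _ h
  rwa [inv_inv, show g⁻¹ * (g * n * g⁻¹) * g = n by group] at this

end Cfsg.Agent.S1362
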