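import Cfsg.Statements.S1371
import Cfsg.Agent.S1352
import Cfsg.Agent.Lib.OddOrder.KappaMain

set_option autoImplicit false
open Cfsg

namespace Cfsg.Agent.S1371

open CfsgLib.OddOrder Subgroup
open scoped Pointwise

/-- Let G be a minimal simple group of odd order, M a maximal subgroup with standard factorisation M = K U M_σ, K ≠ 1, K* = M_σ ∩ C_G(K), and Ẑ the set of elements of K K* outside K ∪ K*. Then the union of the M-conjugates of Ẑ equals A₀(M) with A(M) removed, and it is a TI-subset of G. -/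
theorem result {G : Type*} [Group G] [Finite G] (hG : Cfsg.IsMinSimpleOddOrder G)
    (M : Subgroup G) (hM : IsCoatom M) (K U : Subgroup G) (hKU : Cfsg.IsSigmaDecomposition M K U) (hK1 : K ≠ ⊥) :
    {a : G | ∃ m ∈ M, ∃ z ∈ ((↑(K ⊔ (Cfsg.sigmaCore M ⊓ Subgroup.centralizer (K : Set G))) : Set G) \ ((K : Set G) ∪ ↑(Cfsg.sigmaCore M ⊓ Subgroup.centralizer (K : Set G)))), a = m * z * m⁻¹} = Cfsg.sigmaA0 M K \ Cfsg.sigmaA M U ∧
      Cfsg.IsTISubset (Cfsg.sigmaA0 M K \ Cfsg.sigmaA M U) := by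
  have h := isKappaPair_of_decomposition hM hKU hK1
  obtain ⟨L, h', he, -, -⟩ := h.exists_dual hG
  have hreg := h.kappaReg_eq hG h' he
  rw [← hreg]
  haveI := CfsgLib.OddOrder.isSolvable_of_ne_top hG hM.1
  set S := Cfsg.sigmaCore M with hS
  have hKM : K ≤ M := hKU.hall.1
  have hMn := (Cfsg.Agent.S1352.result hG M hM K (h.cyclic hG) hKU.hall).2 U hKU
  set N := U ⊔ S with hN
  have hUS : U ≤ normalizer (S : Set G) := hKU.compl.1.trans (le_normalizer_piCoreOf _ _)
  have hNκ : ∀ q : ℕ, q.Prime → q ∣ Nat.card N → q ∉ Cfsg.kappa M := by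
    intro q hq hd
    rw [hN, sup_comm, CfsgLib.Solvable.card_sup_of_disjoint hUS
      (disjoint_iff.2 (le_bot_iff.1 ((le_inf inf_le_right (inf_le_left.trans le_sup_right)).trans
        hKU.compl.2.2.1.le))), hq.dvd_mul] at hd
    rcases hd with hd | hd
    · exact fun hκ => kappa_not_sigma hκ (sigma_of_dvd_sigmaCore hq hd)
    · exact (decomposition_U_primes hG hM hKU hq hd).2
  have hquot : ∀ a ∈ M, a ^ Nat.card K ∈ N := by
    intro a ha
    haveI : (N.subgroupOf M).Normal := normal_subgroupOf_of_le_normalizer hMn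
    obtain ⟨u, hu, b, hb, rfl⟩ := hKU.compl.2.2.2 a ha
    obtain ⟨s, hs, k, hk, rfl⟩ := (CfsgLib.Solvable.mem_sup_of_le_normalizer
      ((hKM.trans (le_normalizer_piCoreOf _ _)) : K ≤ normalizer (S : Set G))).1
      (sup_comm K S ▸ hb)
    have hus : u * s ∈ M := M.mul_mem (hKU.compl.1 hu) (piCoreOf_le _ _ hs)
    set f := QuotientGroup.mk' (N.subgroupOf M) with hf
    have h1 : f (⟨u * (s * k), ha⟩ : M) ^ Nat.card K = 1 := by
      rw [show (⟨u * (s * k), ha⟩ : M) = ⟨u * s, hus⟩ * ⟨k, hKM hk⟩ from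
          Subtype.ext (mul_assoc u s k).symm, map_mul,
        show f (⟨u * s, hus⟩ : M) = 1 from (QuotientGroup.eq_one_iff _).2
          (mem_subgroupOf.2 (N.mul_mem (mem_sup_left hu) (mem_sup_right hs))),
        one_mul, ← map_pow, show (⟨k, hKM hk⟩ : M) ^ Nat.card K = 1 from Subtype.ext
          (show k ^ Nat.card K = 1 from
            congrArg Subtype.val (pow_card_eq_one' (x := (⟨k, hk⟩ : K)))), map_one]
    rw [← map_pow] at h1
    exact mem_subgroupOf.1 ((QuotientGroup.eq_one_iff (N := N.subgroupOf M) _).1 h1)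
  have hNZ : ∀ z ∈ K ⊔ kappaStar M K, z ∈ N → z ∈ kappaStar M K := fun z hz hzN =>
    h.mem_kappaStar hz fun q hq hd => by
      have h1 : q ∣ Nat.card ↥(K ⊔ kappaStar M K) := hd.trans (orderOf_dvd_card_of_mem hz)
      rw [h.card_zsub, hq.dvd_mul] at h1
      rcases h1 with h1 | h1
      · exact absurd (h.hall.2.1 q hq h1) (hNκ q hq (hd.trans (orderOf_dvd_card_of_mem hzN)))
      · exact h.primes_kappaStar hq h1
  have hconjN : ∀ m ∈ M, ∀ z : G, m * z * m⁻¹ ∈ N → z ∈ N := fun m hm z hz =>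
    (mem_normalizer_iff.1 (hMn hm) z).2 hz
  have heq : {a : G | ∃ m ∈ M, ∃ z ∈ kappaReg M K, a = m * z * m⁻¹} =
      Cfsg.sigmaA0 M K \ Cfsg.sigmaA M U := by
    ext a
    constructor
    · rintro ⟨m, hm, z, hz, rfl⟩
      obtain ⟨hzZ, hzn⟩ := hreg.le hz
      obtain ⟨y, hy, hy1⟩ : ∃ y ∈ kappaStar M K, y ≠ 1 := by
        by_contra hcon
        push Not at hcon
        exact h.kappaStar_ne_bot hG ((Subgroup.eq_bot_iff_forall _).2 hcon)
      refine ⟨⟨⟨M.mul_mem (M.mul_mem hm (h.zsub_le hG hzZ)) (M.inv_mem hm), m * y * m⁻¹,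
        (mem_normalizer_iff.1 (le_normalizer_piCoreOf _ _ hm) y).1 hy.1,
        fun e => hy1 (conj_eq_one_iff.1 e), ?_⟩, ?_⟩, ?_⟩
      · calc m * z * m⁻¹ * (m * y * m⁻¹) = m * (z * y) * m⁻¹ := by group
          _ = m * (y * z) * m⁻¹ := by rw [(h.commute hG hzZ (mem_sup_right hy)).eq]
          _ = _ := by group
      · rintro ⟨k, hk, -, m', hm', he'⟩
        refine hzn (Or.inl (h.mem_of_coprime hzZ ?_))
        rw [← orderOf_injective (MulAut.conj m).toMonoidHom (MulAut.conj m).injective z,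
          show (MulAut.conj m).toMonoidHom z = (MulAut.conj m').toMonoidHom k from he',
          orderOf_injective (MulAut.conj m').toMonoidHom (MulAut.conj m').injective k]
        exact h.coprime_card.symm.coprime_dvd_right (orderOf_dvd_card_of_mem hk)
      · exact fun hA => hzn (Or.inr (hNZ z hzZ (hconjN m hm z hA.2)))
    · rintro ⟨⟨hσ, hnk⟩, hnA⟩
      have haM : a ∈ M := hσ.1
      have haN : a ∉ N := fun hc => hnA ⟨hσ, hc⟩
      obtain ⟨q, hq, hqa, hqK⟩ : ∃ q : ℕ, q.Prime ∧ q ∣ orderOf a ∧ q ∣ Nat.card K := by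
        by_contra hcon
        push Not at hcon
        exact haN (mem_of_pow_mem_of_coprime
          (Nat.coprime_of_dvd fun q hq h1 h2 => hcon q hq h2 h1) (hquot a haM))
      set a₁ := a ^ (orderOf a / q)
      have ha₁ : orderOf a₁ = q := orderOf_pow_orderOf_div (orderOf_pos a).ne' hqa
      have hhall : Cfsg.IsPiHall (Cfsg.kappa M) (K.subgroupOf M) :=
        ⟨fun p hp hd => h.hall.2.1 p hp
          (by rwa [Nat.card_congr (subgroupOfEquivOfLe hKM).toEquiv] at hd),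
          fun p hp hpκ => h.hall.2.2 p hp hpκ⟩
      obtain ⟨g, hg⟩ := CfsgLib.Solvable.exists_conj_le_isPiHall hhall
        (K := zpowers (⟨a₁, pow_mem haM _⟩ : M)) (fun p hp hd => by
          rw [Nat.card_zpowers, Subgroup.orderOf_mk, ha₁] at hd
          rw [(Nat.prime_dvd_prime_iff_eq hp hq).1 hd]
          exact h.hall.2.1 q hq hqK)
      have hk : (g : G) * a₁ * (g : G)⁻¹ ∈ K :=
        mem_subgroupOf.1 (hg (Subgroup.smul_mem_pointwise_smul _ _ _ (mem_zpowers _)))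
      set z := (g : G) * a * (g : G)⁻¹ with hz
      have hk1 : (g : G) * a₁ * (g : G)⁻¹ ≠ 1 := fun e =>
        hq.one_lt.ne (by rw [← ha₁, conj_eq_one_iff.1 e, orderOf_one])
      have hzZ : z ∈ K ⊔ kappaStar M K := by
        rw [← h.inf_centralizer hG hk hk1]
        refine ⟨M.mul_mem (M.mul_mem g.2 haM) (M.inv_mem g.2), mem_centralizer_singleton_iff.2 ?_⟩
        rw [hz, conj_mul, conj_mul,
          ((Commute.refl a).pow_right (orderOf a / q)).eq]
      refine ⟨(g : G)⁻¹, M.inv_mem g.2, z, hreg.ge ⟨hzZ, ?_⟩, by rw [hz]; group⟩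
      rintro (hc | hc)
      · refine hnk ⟨z, hc, fun e => haN ?_, (g : G)⁻¹, M.inv_mem g.2, by rw [hz]; group⟩
        rw [hz, conj_eq_one_iff] at e
        rw [e]
        exact one_mem _
      · exact haN (hconjN g g.2 a (mem_sup_right hc.1))
  refine ⟨heq, ?_⟩
  rw [← heq]
  intro g hg x hx hgx
  obtain ⟨m, hm, t, ht, rfl⟩ := hx
  obtain ⟨m', hm', t', ht', he'⟩ := hgx
  have hgM : g ∈ M := by
    have h1 : (m'⁻¹ * g * m) * t * (m'⁻¹ * g * m)⁻¹ = t' := by
      calc (m'⁻¹ * g * m) * t * (m'⁻¹ * g * m)⁻¹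
          = m'⁻¹ * (g * (m * t * m⁻¹) * g⁻¹) * m' := by group
        _ = t' := by rw [he']; group
    have h2 := h.zsub_le hG (h.conj_mem_zsub hG ht (by rw [h1]; exact ht'))
    have h3 := M.mul_mem (M.mul_mem hm' h2) (M.inv_mem hm)
    rwa [show m' * (m'⁻¹ * g * m) * m⁻¹ = g by group] at h3
  refine absurd ((le_set_normalizer_iff (H := M)).2 ?_ hgM) hg
  rintro g' hg' _ ⟨m₂, hm₂, t₂, ht₂, rfl⟩
  exact ⟨g' * m₂, M.mul_mem hg' hm₂, t₂, ht₂, by group⟩

end Cfsg.Agent.S1371
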