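import Cfsg.Statements.S1375
import Cfsg.Agent.S1378
import Cfsg.Agent.S1432
import Cfsg.Agent.S1352
import Cfsg.Agent.Lib.OddOrder.SigmaSupport

set_option autoImplicit false
open Cfsg

namespace Cfsg.Agent.S1375

/-- Let G be a minimal simple group of odd order, M a maximal subgroup, x ≠ 1 in M_σ with C_G(x) not contained in M. Then exactly one maximal subgroup N contains C_G(x); for it N_σ = N_F, C_{N_σ}(x) is a normal subgroup of C_G(x) complementing C_M(x), M ∩ N is a complement to N_σ in N, and for every standard factorisation N = K' U' N_σ one has U' ≠ 1 and x ∈ A(N) with x ∉ N_σ. -/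
theorem result {G : Type*} [Group G] [Finite G] (hG : Cfsg.IsMinSimpleOddOrder G)
    (M : Subgroup G) (hM : IsCoatom M) (x : G) (hx : x ∈ Cfsg.sigmaCore M) (hx1 : x ≠ 1) (hxM : ¬ Subgroup.centralizer ({x} : Set G) ≤ M) :
    ∃ N : Subgroup G, (IsCoatom N ∧ Subgroup.centralizer ({x} : Set G) ≤ N) ∧ (∀ L : Subgroup G, IsCoatom L → Subgroup.centralizer ({x} : Set G) ≤ L → L = N) ∧
        Cfsg.sigmaCore N = Cfsg.fittingHallOf N ∧
        Subgroup.centralizer ({x} : Set G) ≤ Subgroup.normalizer ((Cfsg.sigmaCore N ⊓ Subgroup.centralizer ({x} : Set G) : Subgroup G) : Set G) ∧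
        Cfsg.IsComplIn (M ⊓ Subgroup.centralizer ({x} : Set G)) (Cfsg.sigmaCore N ⊓ Subgroup.centralizer ({x} : Set G)) (Subgroup.centralizer ({x} : Set G)) ∧
        Cfsg.IsComplIn (M ⊓ N) (Cfsg.sigmaCore N) N ∧
        ∀ K' U' : Subgroup G, Cfsg.IsSigmaDecomposition N K' U' → U' ≠ ⊥ ∧ x ∈ Cfsg.sigmaA N U' ∧ x ∉ Cfsg.sigmaCore N := by
  obtain ⟨N, ⟨hN, hCN⟩, huniq, hF, -, hτ, hE, hRne⟩ :=
    CfsgLib.OddOrder.supporting_structure hG hM (Cfsg.Agent.S1378.result hG).2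
      (Cfsg.Agent.S1432.result hG) hx hx1 hxM
  obtain ⟨hn, hR, -⟩ := CfsgLib.OddOrder.centralizer_split hG hM
    (CfsgLib.OddOrder.piCoreOf_le _ _ hx) hN hCN hE
  have hxC : x ∈ Subgroup.centralizer ({x} : Set G) := Subgroup.mem_centralizer_singleton_iff.2 rfl
  have hxN : x ∈ N := hCN hxC
  have hxσ : x ∉ Cfsg.sigmaCore N := fun h => hx1 (Subgroup.mem_bot.1 (hE.2.2.1 ▸
    (Subgroup.mem_inf.2 ⟨Subgroup.mem_inf.2 ⟨CfsgLib.OddOrder.piCoreOf_le _ _ hx, hxN⟩, h⟩)))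
  refine ⟨N, ⟨hN, hCN⟩, huniq, hF, hn, hR, hE, fun K' U' hKU => ?_⟩
  set W := U' ⊔ Cfsg.sigmaCore N with hW
  obtain ⟨hKN, hUN⟩ := CfsgLib.OddOrder.decomposition_le hKU
  have hWn : N ≤ Subgroup.normalizer (W : Set G) :=
    (Cfsg.Agent.S1352.result hG N hN K' hKU.cyclic hKU.hall).2 U' hKU
  have hWN : W ≤ N := sup_le hUN (CfsgLib.OddOrder.piCoreOf_le _ _)
  have hxW : x ∈ W := by
    have hsup : N ≤ K' ⊔ W := fun m hm => by
      obtain ⟨a, ha, b, hb, rfl⟩ := hKU.compl.2.2.2 m hm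
      refine mul_mem (Subgroup.mem_sup_right (Subgroup.mem_sup_left ha)) ?_
      exact (sup_le_sup_left le_sup_right K' : K' ⊔ Cfsg.sigmaCore N ≤ K' ⊔ W) hb
    have hdvd : W.relIndex N ∣ Nat.card K' := by
      have h1 := CfsgLib.OddOrder.card_sup_dvd_mul_of_le_normalizer (hKN.trans hWn)
      have h2 : Nat.card W * W.relIndex N = Nat.card N := by
        rw [← Subgroup.relIndex_bot_left W, Subgroup.relIndex_mul_relIndex ⊥ W N bot_le hWN,
          Subgroup.relIndex_bot_left]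
      refine Nat.dvd_of_mul_dvd_mul_left (Nat.card_pos (α := W)) ?_
      rw [h2]
      exact (Subgroup.card_dvd_of_le (sup_comm K' W ▸ hsup)).trans h1
    haveI : (W.subgroupOf N).Normal := Subgroup.normal_subgroupOf_of_le_normalizer hWn
    obtain ⟨k, hk⟩ := exists_pow_eq_self_of_coprime (n := W.relIndex N)
      (x := (⟨x, hxN⟩ : N)) (by
        rw [Subgroup.orderOf_mk]
        refine Nat.coprime_of_dvd fun s hs h1 h2 => (hτ s hs h2).2.2.2 ?_
        haveI := Fact.mk hs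
        exact CfsgLib.OddOrder.kappa_rank_one (hKU.hall.2.1 s hs (h1.trans hdvd)))
    exact Subgroup.mem_subgroupOf.1 (hk ▸ Subgroup.pow_mem _ (Subgroup.pow_index_mem _ _) k)
  refine ⟨fun h => hxσ ?_, ⟨⟨hxN, ?_⟩, hxW⟩, hxσ⟩
  · rwa [hW, h, bot_sup_eq] at hxW
  · obtain ⟨⟨r, hr⟩, hr1⟩ := Subgroup.ne_bot_iff_exists_ne_one.1 hRne
    exact ⟨r, hr.1, fun h => hr1 (Subtype.ext h),
      (Subgroup.mem_centralizer_singleton_iff.1 hr.2).symm⟩


end Cfsg.Agent.S1375
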