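import Cfsg.Statements.S1418
import Cfsg.Agent.S1417

set_option autoImplicit false
open Cfsg

namespace Cfsg.Agent.S1418

open CfsgLib.OddOrder Subgroup

/-- Let G be a minimal simple group of odd order, M a maximal subgroup, E a complement to M_σ in M, p ∈ τ₂(M), and A ≤ E elementary abelian of order p ^ 2. Then A is normal in E and contains every subgroup of E of order p; C_G(A) ≤ M ∩ N_G(A) = E and N_G(A) is not contained in M; and for every subgroup X ≤ A of order p centralizing a non-identity element of M_σ, C_G(X) ≤ M and M is the unique maximal subgroup containing C_G(X). -/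
theorem result {G : Type*} [Group G] [Finite G] (hG : Cfsg.IsMinSimpleOddOrder G)
    (M : Subgroup G) (hM : IsCoatom M) (E : Subgroup G) (hE : Cfsg.IsComplIn E (Cfsg.sigmaCore M) M) (p : ℕ) [Fact p.Prime] (hp : p ∈ Cfsg.tau2 M) (A : Subgroup G) (hA : (A ≤ E ∧ Cfsg.IsElementaryAbelian p A ∧ Nat.card A = p ^ 2)) :
    (E ≤ Subgroup.normalizer (A : Set G) ∧ ∀ X : Subgroup G, X ≤ E → Nat.card X = p → X ≤ A) ∧
      (Subgroup.centralizer (A : Set G) ≤ M ⊓ Subgroup.normalizer (A : Set G) ∧ M ⊓ Subgroup.normalizer (A : Set G) = E ∧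
        ¬ Subgroup.normalizer (A : Set G) ≤ M) ∧
      ∀ X : Subgroup G, X ≤ A → Nat.card X = p → Cfsg.sigmaCore M ⊓ Subgroup.centralizer (X : Set G) ≠ ⊥ → (Subgroup.centralizer (X : Set G) ≤ M ∧ ∀ L : Subgroup G, IsCoatom L → Subgroup.centralizer (X : Set G) ≤ L → L = M) := by
  obtain ⟨hAE, hAe, hA2⟩ := hA
  have hAM : A ≤ M := hAE.trans hE.1
  obtain ⟨A₀, h, -⟩ := Cfsg.Agent.S1417.exists_isExceptional hG hM hp.2.1 hAM hAe hA2
  haveI := hAe.1
  have hEA := h.complement_le_normalizer hG hM hE hAE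
  have hMσ : M ≤ normalizer (Cfsg.sigmaCore M : Set G) := le_normalizer_piCoreOf _ _
  refine ⟨⟨hEA, fun X hXE hX x hx => ?_⟩,
    ⟨le_inf h.centralizer_le (centralizer_le_normalizer _), le_antisymm ?_ (le_inf hE.1 hEA),
      fun hle => ?_⟩, fun X hXA hX hne => ?_⟩
  · have hXp : IsPGroup p X := IsPGroup.of_card (n := 1) (by rw [hX, pow_one])
    obtain ⟨P, hP, hle⟩ := exists_isMaxPIn_ge (B := X ⊔ A) (sup_le (hXE.trans hE.1) hAM)
      (hXp.to_sup_of_normal_right' h.pgroup (hXE.trans hEA))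
    haveI := h.isMulCommutative_sylow hG hM hP
    refine h.mem_of_commute hG hM
      (fun a ha => setLike_mul_comm (s := P) (hle (mem_sup_right ha)) (hle (mem_sup_left hx))) ?_
    exact orderOf_dvd_iff_pow_eq_one.1 ((orderOf_dvd_card_of_mem hx).trans (dvd_of_eq hX))
  · intro m hm
    obtain ⟨e, he, s, hs, rfl⟩ := hE.2.2.2 m hm.1
    have hsA : s ∈ normalizer (A : Set G) := by
      simpa using mul_mem (inv_mem (hEA he)) hm.2
    have hdis : Disjoint A (Cfsg.sigmaCore M) := disjoint_iff.2 (le_bot_iff.1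
      ((inf_le_inf_right _ hAE).trans hE.2.2.1.le))
    have hsC : s ∈ centralizer (A : Set G) :=
      CfsgLib.Solvable.inf_normalizer_le_centralizer (hAM.trans hMσ) hdis ⟨hs, hsA⟩
    have hs1 : s ∈ Cfsg.sigmaCore M ⊓ centralizer (A : Set G) := ⟨hs, hsC⟩
    rw [h.sigmaCore_inf_centralizer hG hM, mem_bot] at hs1
    rw [hs1, mul_one]
    exact he
  · obtain ⟨g, hgA, hgM⟩ := h.exists_mover hG hM
    exact hgM (hle hgA)
  · have hX1 : X ≠ ⊥ := fun hb => by
      rw [hb, Subgroup.card_bot] at hX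
      exact (Fact.out : p.Prime).one_lt.ne hX
    have hAC : A ≤ centralizer (X : Set G) :=
      (le_centralizer_iff_isMulCommutative.2 hAe.1).trans (Subgroup.centralizer_le hXA)
    have key : ∀ L : Subgroup G, IsCoatom L → centralizer (X : Set G) ≤ L → L = M := fun L hL hCL =>
      by_contra fun hLM => hne (le_bot_iff.1 ((inf_le_inf_left _ hCL).trans
        (Cfsg.Agent.S1417.sigmaCore_inf_eq_bot hG hM h hL hLM (hAC.trans hCL)).le))
    obtain ⟨L, hL, hCL⟩ := exists_isCoatom_ge (centralizer_ne_top hG hX1)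
    exact ⟨key L hL hCL ▸ hCL, key⟩

end Cfsg.Agent.S1418
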