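import Cfsg.Statements.S1364
import Cfsg.Agent.Lib.OddOrder.KappaMain
import Cfsg.Agent.Lib.OddOrder.CyclicCoprime
import Cfsg.Agent.Lib.OddOrder.FHall
import Cfsg.Agent.Lib.OddOrder.CoprimeCompl
import Cfsg.Agent.S1431
import Cfsg.Agent.S1437

set_option autoImplicit false
set_option maxHeartbeats 400000
set_option linter.style.haveILetI false
open Cfsg

namespace Cfsg.Agent.S1364

/-- Let G be a minimal simple group of odd order, M a maximal subgroup with standard factorisation M = K U M_σ and K ≠ 1, and put K* = M_σ ∩ C_G(K). Then K* is cyclic, nontrivial and contained in M_F, while M_F itself is not cyclic. -/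
theorem result {G : Type*} [Group G] [Finite G] (hG : Cfsg.IsMinSimpleOddOrder G)
    (M : Subgroup G) (hM : IsCoatom M) (K U : Subgroup G) (hKU : Cfsg.IsSigmaDecomposition M K U) (hK1 : K ≠ ⊥) :
    IsCyclic ↥(Cfsg.sigmaCore M ⊓ Subgroup.centralizer (K : Set G)) ∧ (Cfsg.sigmaCore M ⊓ Subgroup.centralizer (K : Set G)) ≠ ⊥ ∧ (Cfsg.sigmaCore M ⊓ Subgroup.centralizer (K : Set G)) ≤ Cfsg.fittingHallOf M ∧ ¬ IsCyclic (Cfsg.fittingHallOf M) := by
  have h := CfsgLib.OddOrder.isKappaPair_of_decomposition hM hKU hK1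
  set S := Cfsg.sigmaCore M with hS
  set W := S ⊓ Subgroup.centralizer (K : Set G) with hW
  have hW1 : W ≠ ⊥ := h.kappaStar_ne_bot hG
  have hHS := CfsgLib.OddOrder.fittingHallOf_le_sigmaCore hG hM
  refine ⟨h.cyclic_kappaStar hG, hW1, ?_⟩
  by_cases hne : Cfsg.fittingHallOf M = S
  · refine ⟨hne ▸ inf_le_left, fun hc => ?_⟩
    rw [hne] at hc
    obtain ⟨q, hq, hd⟩ := Nat.exists_prime_and_dvd (W.one_lt_card_iff_ne_bot.2 hW1).ne'
    haveI := Fact.mk hq
    obtain ⟨P⟩ : Nonempty (Sylow q S) := inferInstance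
    refine ((Cfsg.Agent.S1431.result hG M hM K hKU.hall hK1).2.2.1 q hq hd P).2.2 ?_
    set T := (P : Subgroup S).map S.subtype with hT
    have hTS : T ≤ S := Subgroup.map_subtype_le _
    haveI := hc
    have hPc : (P : Subgroup S).Characteristic :=
      Sylow.characteristic_of_normal P ((P : Subgroup S).normal_of_isMulCommutative)
    haveI := hPc
    refine le_inf hTS (CfsgLib.OddOrder.le_centralizer_of_cyclic_pgroup (p := q) ?_ (P.2.map _) ?_ ?_ ?_)
    · exact Subgroup.isCyclic_of_le hTS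
    · exact (hKU.hall.1.trans (CfsgLib.OddOrder.le_normalizer_piCoreOf _ M)).trans
        (CfsgLib.Solvable.normalizer_le_of_characteristic_map (P : Subgroup S))
    · exact Nat.coprime_of_dvd fun s hs h1 h2 => h.not_sigma hs h1
        (CfsgLib.OddOrder.sigma_of_dvd_sigmaCore hs (h2.trans (Subgroup.card_dvd_of_le hTS)))
    · obtain ⟨x, hx⟩ := exists_prime_orderOf_dvd_card' (G := W) q hd
      have hxS : (x : G) ∈ S := x.2.1
      intro hbot
      have hxP : (⟨x, hxS⟩ : S) ∈ (P : Subgroup S) := by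
        have hp : IsPGroup q (Subgroup.zpowers (⟨x, hxS⟩ : S)) :=
          IsPGroup.of_card (n := 1) (by
            rw [Nat.card_zpowers, pow_one, Subgroup.orderOf_mk, Subgroup.orderOf_coe, hx])
        obtain ⟨Q, hQ⟩ := hp.exists_le_sylow
        haveI : Subsingleton (Sylow q S) := by
          haveI := Sylow.unique_of_normal P ((P : Subgroup S).normal_of_isMulCommutative)
          infer_instance
        rw [Subsingleton.elim P Q]
        exact hQ (Subgroup.mem_zpowers _)
      have h1 : (x : G) ∈ T ⊓ Subgroup.centralizer (K : Set G) := ⟨⟨_, hxP, rfl⟩, x.2.2⟩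
      rw [hbot, Subgroup.mem_bot] at h1
      rw [← Subgroup.orderOf_coe, h1, orderOf_one] at hx
      exact hq.one_lt.ne hx
  obtain ⟨-, -, hKp, hq, hqH, -, Q, hQH, hQn, hQp, hQi, hD⟩ :=
    Cfsg.Agent.S1437.result hG M hM K U hKU hne
  have hqH' : ∀ x ∈ W, x ∈ Cfsg.fittingHallOf M := fun x hx => by
    refine CfsgLib.OddOrder.mem_of_orderOf_coprime_relIndex
      (CfsgLib.OddOrder.le_normalizer_fittingHallOf M) (CfsgLib.OddOrder.piCoreOf_le _ M hx.1) ?_
    refine Nat.coprime_of_dvd fun s hs h1 h2 => ?_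
    have h3 := h1.trans (CfsgLib.OddOrder.orderOf_dvd_card_of_mem hx)
    rw [Nat.prime_dvd_prime_iff_eq hs hq] at h3
    exact Nat.not_coprime_of_dvd_of_dvd hs.one_lt (h3 ▸ hqH) h2
      (CfsgLib.OddOrder.fittingHallOf_coprime_relIndex M)
  refine ⟨hqH', fun hc => ?_⟩
  haveI := hc
  haveI : IsCyclic Q := Subgroup.isCyclic_of_le hQH
  haveI := Fact.mk hq
  -- `Q` would be cyclic, but it has a quotient of order `q ^ |K|` and exponent `q`
  have hQS : Q ≤ S := hQH.trans hHS
  have hco : (Nat.card Q).Coprime (Q.relIndex S) := Nat.coprime_of_dvd fun s hs h1 h2 => by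
    obtain ⟨n, hn⟩ := IsPGroup.iff_card.1 hQp
    rw [hn] at h1
    exact hQi ((Nat.prime_dvd_prime_iff_eq hs hq).1 (hs.dvd_of_dvd_pow h1) ▸ h2)
  obtain ⟨D, hQD⟩ := CfsgLib.OddOrder.exists_isComplIn_of_coprime hQS
    ((CfsgLib.OddOrder.piCoreOf_le _ M).trans hQn) hco
  obtain ⟨-, -, -, hcard, hsat, -⟩ := hD D hQD
  obtain ⟨z, hz⟩ := IsCyclic.exists_generator (α := Q)
  set Q₀ := Q ⊓ Subgroup.centralizer (D : Set G)
  set q := Nat.card W
  have hzq : (z : G) ^ q ∈ Q₀ := (hsat z z.2 z z.2).1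
  have hle : Nat.card Q ≤ Nat.card Q₀ * q := by
    have h2 : Nat.card Q ∣ orderOf ((z : G) ^ q) * q := by
      rw [← orderOf_eq_card_of_forall_mem_zpowers hz, ← Subgroup.orderOf_coe]
      refine orderOf_dvd_of_pow_eq_one ?_
      rw [mul_comm, pow_mul, pow_orderOf_eq_one]
    exact Nat.le_of_dvd (Nat.mul_pos Nat.card_pos hq.pos)
      (h2.trans (Nat.mul_dvd_mul_right (CfsgLib.OddOrder.orderOf_dvd_card_of_mem hzq) q))
  rw [hcard] at hle
  have h2 : q ^ Nat.card K ≤ q := Nat.le_of_mul_le_mul_left hle Nat.card_pos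
  exact absurd h2 (not_le.2 (lt_self_pow₀ hq.one_lt hKp.one_lt))

end Cfsg.Agent.S1364
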