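import Cfsg.Statements.S1429
import Cfsg.Agent.S1417
import Cfsg.Agent.Lib.OddOrder.KappaComplement

set_option autoImplicit false
open Cfsg

namespace Cfsg.Agent.S1429

theorem result {G : Type*} [Group G] [Finite G] (hG : Cfsg.IsMinSimpleOddOrder G)
    (M : Subgroup G) (hM : IsCoatom M) (hP1 : ¬ (∀ q : ℕ, q.Prime → q ∣ Nat.card M → q ∉ Cfsg.sigma M → q ∈ Cfsg.kappa M))
    (p : ℕ) [Fact p.Prime] (hpM : p ∣ Nat.card M) (hp : p ∉ Cfsg.sigma M ∪ Cfsg.kappa M) (S : Sylow p M) :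
    Nat.card ↥(Subgroup.closure {x : G | x ∈ (S : Subgroup M).map M.subtype ∧ x ^ p = 1}) ≤ p ^ 2 ∧
      Cfsg.sigmaCore M ⊓ Subgroup.centralizer ((Subgroup.closure {x : G | x ∈ (S : Subgroup M).map M.subtype ∧ x ^ p = 1} : Subgroup G) : Set G) = ⊥ ∧
      Group.IsNilpotent (Cfsg.sigmaCore M) := by
  refine CfsgLib.OddOrder.not_sigma_not_kappa hG hM (fun ht A hA => ?_) hpM hp S
  obtain ⟨h1, h2, -, h4, -⟩ := Cfsg.Agent.S1417.result hG M hM p ht A hA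
  exact ⟨h1, fun P hle => ((h2 P).2 hle).1, h4⟩

end Cfsg.Agent.S1429
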