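import Cfsg.Statements.S1435
import Cfsg.Agent.S1420
import Cfsg.Agent.Lib.OddOrder.TypeP2Partner
import Cfsg.Agent.Lib.OddOrder.Tau3Pair
import Cfsg.Agent.Lib.OddOrder.SigmaConj

set_option autoImplicit false
set_option linter.style.haveILetI false
open Cfsg Subgroup CfsgLib CfsgLib.OddOrder

open scoped commutatorElement

namespace Cfsg.Agent.S1435

/-- Let G be a minimal simple group of odd order, M a maximal subgroup with standard factorisation M = K U M_σ, K ≠ 1, U ≠ 1, K* = M_σ ∩ C_G(K), M* a maximal subgroup with K = M*_σ ∩ C_G(K*) and K* a Hall κ(M*)-subgroup of M*, r a prime dividing the order of U, R a Sylow r-subgroup of U, and H a maximal subgroup containing N_G(R). Then κ(H) is empty, U ≤ H_σ, M ∩ H = U ⊔ K, H ∩ N_G(U) ⊄ M, K ≤ F(H ∩ M*), and H ∩ M* is a complement to H_σ in H. -/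
theorem result {G : Type*} [Group G] [Finite G] (hG : Cfsg.IsMinSimpleOddOrder G)
    (M : Subgroup G) (hM : IsCoatom M) (K U : Subgroup G) (hKU : Cfsg.IsSigmaDecomposition M K U) (hK1 : K ≠ ⊥) (hU1 : U ≠ ⊥) (Mstar : Subgroup G) (hMstar : IsCoatom Mstar)
    (hKst : K = Cfsg.sigmaCore Mstar ⊓ Subgroup.centralizer ((Cfsg.sigmaCore M ⊓ Subgroup.centralizer (K : Set G)) : Set G))
    (hKstH : Cfsg.IsPiHallOf (Cfsg.kappa Mstar) (Cfsg.sigmaCore M ⊓ Subgroup.centralizer (K : Set G)) Mstar)
    (r : ℕ) [Fact r.Prime] (hr : r ∣ Nat.card U) (R : Sylow r U) (H : Subgroup G) (hH : IsCoatom H)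
    (hNR : Subgroup.normalizer (((R : Subgroup U).map U.subtype : Subgroup G) : Set G) ≤ H) :
    Cfsg.kappa H = ∅ ∧ U ≤ Cfsg.sigmaCore H ∧ M ⊓ H = U ⊔ K ∧ ¬ H ⊓ Subgroup.normalizer (U : Set G) ≤ M ∧
      K ≤ Cfsg.fittingOf (H ⊓ Mstar) ∧ Cfsg.IsComplIn (H ⊓ Mstar) (Cfsg.sigmaCore H) H := by
  classical
  obtain ⟨h', he, -⟩ := (isKappaPair_of_decomposition hM hKU hK1).dual_spec hG hMstar
    (by rw [Subgroup.coe_inf]; exact hKst)
  have hMP : IsKappaPair M K := isKappaPair_of_decomposition hM hKU hK1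
  obtain ⟨hKM, hUM⟩ := decomposition_le hKU
  have hp := typeP2_prime hG hM hKU hK1 hU1
  haveI hpF := Fact.mk hp
  have hdisj := (Cfsg.Agent.S1378.result hG).2
  have hUab : IsMulCommutative U := decomposition_abelian hG hM hKU hK1
  haveI := hUab
  have hrr : r.Prime := Fact.out
  obtain ⟨hrσ, hrκ⟩ := decomposition_U_primes hG hM hKU hrr hr
  set R' := (R : Subgroup U).map U.subtype with hR'
  have hR'U : R' ≤ U := map_subtype_le _
  obtain ⟨k, hk, hk1⟩ := K.bot_or_exists_ne_one.resolve_left hK1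
  have hok : orderOf k = Nat.card K :=
    ((Nat.dvd_prime hp).1 (orderOf_dvd_card_of_mem hk)).resolve_left
      fun h => hk1 (orderOf_eq_one_iff.1 h)
  have hkp : k ^ Nat.card K = 1 := by rw [← hok, pow_orderOf_eq_one]
  have hzk : zpowers k = K :=
    eq_of_le_of_card_ge (zpowers_le.2 hk) (by rw [Nat.card_zpowers, hok])
  have hkMs : k ∈ Cfsg.sigmaCore Mstar := le_dual_sigmaCore he hk
  -- `K` normalizes every Sylow subgroup of `U`
  have hKsyl : ∀ (s : ℕ) [Fact s.Prime] (S : Sylow s U),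
      K ≤ normalizer (((S : Subgroup U).map U.subtype : Subgroup G) : Set G) := fun s _ S => by
    haveI : (S : Subgroup U).Normal := ⟨fun a ha b => by
      rwa [(IsMulCommutative.is_comm.comm b a : b * a = a * b), mul_inv_cancel_right]⟩
    haveI := Sylow.characteristic_of_normal S this
    exact hKU.normal.trans (normalizer_le_normalizer_map_of_characteristic U (S : Subgroup U))
  have hRn : normalizer (U : Set G) ≤ normalizer (R' : Set G) := by
    haveI : (R : Subgroup U).Normal := ⟨fun a ha b => by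
      rwa [(IsMulCommutative.is_comm.comm b a : b * a = a * b), mul_inv_cancel_right]⟩
    haveI := Sylow.characteristic_of_normal R this
    exact normalizer_le_normalizer_map_of_characteristic U (R : Subgroup U)
  have hUH : U ≤ H := le_normalizer.trans (hRn.trans hNR)
  have hKH : K ≤ H := (hKsyl r R).trans hNR
  have hUKH : U ⊔ K ≤ H := sup_le hUH hKH
  -- `H` is conjugate neither to `M` nor to `M*`
  have hnM : ∀ g : G, H ≠ M.map (MulAut.conj g).toMonoidHom := by
    intro g hg
    have hcard : Nat.card H = Nat.card M := by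
      rw [hg]
      exact card_map_of_injective (MulAut.conj g).injective
    have hRH : R' ≤ H := hR'U.trans hUH
    obtain ⟨S, hS⟩ := exists_sylow_of_decomposition hG hM hKU hr R
    obtain ⟨T, hT⟩ := ((R.2.map U.subtype).of_equiv
      (subgroupOfEquivOfLe hRH).symm).exists_le_sylow
    have hTR : (T : Subgroup H).map H.subtype = R' := by
      refine (eq_of_le_of_card_ge ?_ ?_).symm
      · rw [← map_subgroupOf_eq_of_le hRH]
        exact map_mono hT
      · rw [hR', ← hS, card_map_of_injective H.subtype_injective,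
          card_map_of_injective M.subtype_injective, T.card_eq_multiplicity,
          S.card_eq_multiplicity, hcard]
    have hrH : r ∈ Cfsg.sigma H := ⟨hrr, hr.trans (card_dvd_of_le hUH), T, by rw [hTR]; exact hNR⟩
    rw [hg, sigma_conj] at hrH
    exact hrσ hrH
  have hMMs : M ⊓ Mstar = K ⊔ kappaStar M K := hMP.inf_dual hG h' he
  have hnMs : ∀ g : G, H ≠ Mstar.map (MulAut.conj g).toMonoidHom := by
    intro g hg
    have hkH : k ∈ H := hKH hk
    rw [hg, mem_map_conj_iff] at hkH
    obtain ⟨m, hm, c, hc, hgc⟩ := exists_mul_centralizer_of_sigma hG hMstar hkMs hk1 (g := g⁻¹)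
      (by rwa [inv_inv])
    have hg' : g⁻¹ ∈ Mstar := hgc ▸
      mul_mem hm ((dual_mem hG hM hKU hK1 hU1 h' he hk hk1).1 hc)
    have hHMs : H = Mstar := by
      rw [hg]
      exact mem_normalizer_iff_map_conj_eq.1 (le_normalizer (inv_mem_iff.1 hg'))
    have hRZ : R' ≤ K ⊔ kappaStar M K := hMMs ▸
      le_inf (hR'U.trans hUM) (hHMs ▸ hR'U.trans hUH)
    have hrZ : r ∣ Nat.card ↥(K ⊔ kappaStar M K) := by
      refine dvd_trans ?_ (card_dvd_of_le hRZ)
      refine dvd_card_of_isPGroup (R.2.map U.subtype) fun h => ?_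
      exact R.ne_bot_of_dvd_card hr ((map_eq_bot_iff_of_injective _ U.subtype_injective).1 h)
    rw [hMP.card_zsub] at hrZ
    rcases hrr.dvd_mul.1 hrZ with h | h
    · exact hrκ (hKU.hall.2.1 r hrr h)
    · exact hrσ (hMP.primes_kappaStar hrr h)
  have hκ : Cfsg.kappa H = ∅ := by
    rw [← Set.not_nonempty_iff_eq_empty]
    intro hne
    obtain ⟨g, hg | hg⟩ := hMP.conj_cases hG h' he hH hne
    · exact hnM g hg
    · exact hnMs g hg
  have hpMs : Nat.card K ∈ Cfsg.sigma Mstar :=
    sigma_of_dvd_sigmaCore hp (card_dvd_of_le (le_dual_sigmaCore he))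
  have hpH : Nat.card K ∉ Cfsg.sigma H := fun h => by
    obtain ⟨g, hg⟩ := hdisj Mstar H hMstar hH ⟨_, hpMs, h⟩
    exact hnMs g hg
  have hfix := fun x (hx : x ∈ K) (hx1 : x ≠ 1) =>
    sigmaCore_inf_centralizer_kappa hG hM hKU hK1 hU1 h' he hH hκ hKH hpH hx hx1
  -- `U ≤ H_σ`
  have hUσ : U ≤ Cfsg.sigmaCore H := by
    refine le_of_sylows_le fun s hs hsU => ?_
    haveI := Fact.mk hs
    obtain ⟨S⟩ : Nonempty (Sylow s U) := inferInstance
    set T := (S : Subgroup U).map U.subtype with hTdef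
    have hTU : T ≤ U := map_subtype_le _
    refine ⟨S, le_sigmaCore_of_pgroup hG hH (by_contra fun hsH => ?_) (S.2.map _)
      (hTU.trans hUH)⟩
    have hTc : IsMulCommutative T := ⟨⟨fun a b => Subtype.ext
      (setLike_mul_comm (hTU a.2) (hTU b.2))⟩⟩
    have hsp : s ≠ Nat.card K := fun h =>
      (decomposition_U_primes hG hM hKU hs hsU).2 (hKU.hall.2.1 s hs (h ▸ dvd_rfl))
    have h0 := commute_of_invariant hG hM hKU hK1 hU1 h' he hH hκ hKH hpH hsp hsH
      (hTU.trans hUH) (S.2.map _) hTc hk hk1 (hKsyl s S hk)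
    refine S.ne_bot_of_dvd_card hsU
      ((map_eq_bot_iff_of_injective _ U.subtype_injective).1 (le_bot_iff.1 ?_))
    rw [← Cfsg.Agent.S1353.result hG M hM K U hKU k hk hk1]
    exact le_inf hTU h0
  -- `M ∩ H = U K`
  have hMσH : Cfsg.sigmaCore M ⊓ H = ⊥ := by
    rw [← le_bot_iff, ← sigmaCore_inf_centralizer_sylow hG hM hKU hr R]
    refine le_inf inf_le_left fun w hw x hx => ?_
    exact (commute_of_sigma_cores (sigmaCore_inf_eq_bot hG hM hH fun g h => hnM g h.symm)
      hw.1 hw.2 (hUσ (hR'U hx)) (hUM (hR'U hx))).eq.symm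
  have hMH : M ⊓ H = U ⊔ K := by
    refine le_antisymm (fun m hm => ?_) (le_inf (sup_le hUM hKM) hUKH)
    obtain ⟨e, he', w, hw, rfl⟩ := (decomposition_isComplIn hKU).2.2.2 m hm.1
    have hwH : w ∈ H := by simpa using H.mul_mem (H.inv_mem (hUKH he')) hm.2
    have hw0 : w ∈ Cfsg.sigmaCore M ⊓ H := ⟨hw, hwH⟩
    rw [hMσH, mem_bot] at hw0
    rw [hw0, mul_one]
    exact he'
  have hHn := sigmaCore_nilpotent_of_kappa hG hM hKU hK1 hU1 h' he hH hκ hKH hpH
  -- `N_H(U) ⊄ M`
  have hNU : ¬ H ⊓ normalizer (U : Set G) ≤ M := by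
    intro hle
    have hUeq : U = Cfsg.sigmaCore H := by
      refine hUσ.eq_or_lt.resolve_right fun hlt => ?_
      haveI := hHn
      have hlt' : U.subgroupOf (Cfsg.sigmaCore H) < ⊤ :=
        lt_top_iff_ne_top.2 fun h => hlt.not_ge (subgroupOf_eq_top.1 h)
      obtain ⟨n, hn, hnU⟩ := SetLike.exists_of_lt (Group.normalizerCondition_of_isNilpotent _ hlt')
      rw [← subgroupOf_normalizer_eq hUσ] at hn
      have hnH : (n : G) ∈ H := piCoreOf_le _ _ n.2
      have h1 : (n : G) ∈ U ⊔ K :=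
        hMH ▸ (⟨hle ⟨hnH, mem_subgroupOf.1 hn⟩, hnH⟩ : (n : G) ∈ M ⊓ H)
      obtain ⟨u, hu, v, hv, huv⟩ := (Solvable.mem_sup_of_le_normalizer hKU.normal).mp h1
      have hvS : v ∈ Cfsg.sigmaCore H := by
        rw [show v = u⁻¹ * (n : G) by rw [← huv]; group]
        exact mul_mem (inv_mem (hUσ hu)) n.2
      have hv1 : v = 1 := by
        by_contra hv1
        exact hv1 (mem_bot.1 (hfix v hv hv1 ▸
          (⟨hvS, mem_centralizer_singleton_iff.2 rfl⟩ :
            v ∈ Cfsg.sigmaCore H ⊓ centralizer ({v} : Set G))))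
      exact hnU (mem_subgroupOf.2 (by rw [← huv, hv1, mul_one]; exact hu))
    refine hnM 1 ?_
    rw [map_conj_one]
    refine (hH.le_iff_eq hM.1).1 ?_ |>.symm
    exact le_trans (le_inf le_rfl (hUeq ▸ le_normalizer_piCoreOf _ _)) hle
  -- `H_σ ∩ M* = 1`
  have hHσMs : Cfsg.sigmaCore H ⊓ Mstar = ⊥ := by
    rw [← le_bot_iff, ← hfix k hk hk1]
    refine le_inf inf_le_left fun w hw => mem_centralizer_singleton_iff.2 ?_
    exact (commute_of_sigma_cores (sigmaCore_inf_eq_bot hG hH hMstar fun g h => hnMs g⁻¹ (by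
      rw [← h, map_conj_map_conj, inv_mul_cancel, map_conj_one])) hw.1 hw.2 hkMs (hKH hk)).eq
  obtain ⟨E, hKE, hE⟩ := exists_complement_ge hG hH hKH fun q hq hd =>
    (Nat.prime_dvd_prime_iff_eq hq hp).1 hd ▸ hpH
  haveI hEs := isSolvable_of_ne_top hG (H := E) fun h => hH.1 (top_le_iff.1 (h ▸ hE.1))
  have hcent : centralizer (K : Set G) ≤ Mstar :=
    (centralizer_le (Set.singleton_subset_iff.2 hk)).trans
      (dual_mem hG hM hKU hK1 hU1 h' he hk hk1).1
  have hnorm : normalizer (K : Set G) ≤ Mstar := by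
    intro n hn
    have hMn : IsCoatom (Mstar.map (MulAut.conj n).toMonoidHom) := isCoatom_conj hMstar n
    have hle : centralizer ({k} : Set G) ≤ Mstar.map (MulAut.conj n).toMonoidHom := by
      intro c hc
      refine mem_map_conj_iff.2 (hcent fun x hx => ?_)
      have hx' : n * x * n⁻¹ ∈ zpowers k := hzk.symm ▸ (mem_normalizer_iff.1 hn x).1 hx
      obtain ⟨i, hi⟩ := mem_zpowers_iff.1 hx'
      have hcom : Commute (k ^ i) c :=
        (show Commute k c from (mem_centralizer_singleton_iff.1 hc).symm).zpow_left i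
      rw [hi] at hcom
      calc x * (n⁻¹ * c * n) = n⁻¹ * (n * x * n⁻¹ * c) * n := by group
        _ = n⁻¹ * (c * (n * x * n⁻¹)) * n := by rw [hcom.eq]
        _ = _ := by group
    have h1 := (dual_mem hG hM hKU hK1 hU1 h' he hk hk1).2 _ hMn hle
    exact (normalizer_eq_of_isCoatom hG hMstar).le (mem_normalizer_iff_map_conj_eq.2 h1)
  obtain ⟨hEMs, hKF⟩ : E ≤ Mstar ∧ K ≤ Cfsg.fittingOf E := by
    have hcy : IsCyclic K := hKU.cyclic
    have hKn : Group.IsNilpotent K := by
      haveI : IsMulCommutative K := inferInstance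
      exact Solvable.isNilpotent_of_comm fun a b => mul_comm' a b
    rcases tau_cases_of_not_sigma hG hH hp (card_dvd_of_le hKH) hpH with hp1 | hp2 | hp3
    rotate_left
    · obtain ⟨A, hAE, hA, hA2⟩ := exists_elementary_in_complement hG hH hE hp2
      obtain ⟨⟨hEA, hAall⟩, -, -⟩ :=
        Cfsg.Agent.S1418.result hG H hH E hE _ hp2 A ⟨hAE, hA, hA2⟩
      have hKA : K ≤ A := hAall K hKE rfl
      haveI hAc := hA.1
      have hAMs : A ≤ Mstar := fun a ha => hcent fun x hx => setLike_mul_comm (hKA hx) ha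
      obtain ⟨E', -, hE'⟩ := exists_complement_ge hG hMstar (bot_le : (⊥ : Subgroup G) ≤ Mstar)
        fun q hq hd => absurd (card_bot (G := G) ▸ hd) hq.not_dvd_one
      have hNA := (Cfsg.Agent.S1420.result hG Mstar hMstar E' hE').2.2.1 _ A hpMs
        (IsPGroup.of_card (n := 2) hA2) hAMs fun hc => by
          haveI := hc
          have hdvd : Monoid.exponent A ∣ Nat.card K :=
            Monoid.exponent_dvd_of_forall_pow_eq_one fun a => Subtype.ext (hA.2 a a.2)
          have := Nat.le_of_dvd hp.pos hdvd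
          rw [IsCyclic.exponent_eq_card, hA2] at this
          nlinarith [hp.two_le]
      refine ⟨hEA.trans hNA, hKA.trans (le_fittingOf hAE hEA ?_)⟩
      exact Solvable.isNilpotent_of_comm fun a b => mul_comm' a b
    · obtain ⟨E₃, hE₃, hKE₃⟩ := exists_isPiHallOf_ge (π := Cfsg.tau3 H) hEs hKE
        fun q hq hd => (Nat.prime_dvd_prime_iff_eq hq hp).1 hd ▸ hp3
      obtain ⟨hc, -, hn⟩ := tau3_hall hG hH hE hE₃
      haveI := hc
      have hEK : E ≤ normalizer (K : Set G) := hn.trans (le_normalizer_of_le_cyclic hG hKE₃)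
      exact ⟨hEK.trans hnorm, le_fittingOf hKE hEK hKn⟩
    · -- `K` is central in `E`
      have hD := (Cfsg.Agent.S1420.result hG H hH E hE).2.1
      haveI := hD
      set D := ⁅E, E⁆ with hDdef
      have hDE : D ≤ E := commutator_le_self E
      have hpD : ¬ Nat.card K ∣ Nat.card D := fun h =>
        hp1.2.2.2.1 (h.trans (card_dvd_of_le (commutator_mono hE.1 hE.1)))
      have hDn : E ≤ normalizer (D : Set G) := by
        intro e he'
        rw [mem_normalizer_iff_map_conj_eq, hDdef, map_commutator,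
          mem_normalizer_iff_map_conj_eq.1 (le_normalizer he')]
      have hDk : D ≤ centralizer ({k} : Set G) := by
        refine le_of_sylows_le fun s hs hsD => ?_
        haveI := Fact.mk hs
        obtain ⟨S⟩ : Nonempty (Sylow s D) := inferInstance
        have hTD : (S : Subgroup D).map D.subtype ≤ D := map_subtype_le _
        haveI : (S : Subgroup D).Normal := ⟨fun a ha b => by
          rwa [(IsMulCommutative.is_comm.comm b a : b * a = a * b), mul_inv_cancel_right]⟩
        haveI := Sylow.characteristic_of_normal S this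
        refine ⟨S, commute_of_invariant hG hM hKU hK1 hU1 h' he hH hκ hKH hpH
          (fun h => hpD (h ▸ hsD))
          (complement_prime_not_sigma hG hH hE hs (hsD.trans (card_dvd_of_le hDE)))
          ((hTD.trans hDE).trans hE.1) (S.2.map _)
          ⟨⟨fun a b => Subtype.ext (setLike_mul_comm (hTD a.2) (hTD b.2))⟩⟩ hk hk1
          ((hDn.trans (normalizer_le_normalizer_map_of_characteristic D (S : Subgroup D)))
            (hKE hk))⟩
      have hEk : E ≤ centralizer ({k} : Set G) := fun e he' => by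
        have hc : ⁅e, k⁆ ∈ D := commutator_mem_commutator he' (hKE hk)
        have h1 := pow_commutatorElement_eq_one hkp (mem_centralizer_singleton_iff.1 (hDk hc))
        have h2 : orderOf ⁅e, k⁆ = 1 := Nat.eq_one_of_dvd_coprimes
          ((Nat.Prime.coprime_iff_not_dvd hp).2 hpD) (orderOf_dvd_of_pow_eq_one h1)
          (orderOf_dvd_card_of_mem hc)
        exact mem_centralizer_singleton_iff.2
          (commutatorElement_eq_one_iff_commute.1 (orderOf_eq_one_iff.1 h2)).eq
      have hEK : E ≤ centralizer (K : Set G) := by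
        rw [← hzk, ← Cfsg.Agent.S1416.centralizer_zpowers_eq hG] at *
        exact hEk
      exact ⟨hEK.trans hcent, le_fittingOf hKE (hEK.trans (centralizer_le_normalizer _)) hKn⟩
  have hEeq : H ⊓ Mstar = E := by
    refine le_antisymm (fun m hm => ?_) (le_inf hE.1 hEMs)
    obtain ⟨e, he', w, hw, rfl⟩ := hE.2.2.2 m hm.1
    have hwM : w ∈ Mstar := by simpa using Mstar.mul_mem (Mstar.inv_mem (hEMs he')) hm.2
    have hw0 : w ∈ Cfsg.sigmaCore H ⊓ Mstar := ⟨hw, hwM⟩
    rw [hHσMs, mem_bot] at hw0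
    rw [hw0, mul_one]
    exact he'
  rw [hEeq]
  exact ⟨hκ, hUσ, hMH, hNU, hKF, hE⟩

end Cfsg.Agent.S1435
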