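import Cfsg.Statements.S1436
import Cfsg.Agent.S1351
import Cfsg.Agent.S1414
import Cfsg.Agent.S1417
import Cfsg.Agent.S1418
import Cfsg.Agent.S1423
import Cfsg.Agent.S1426
import Cfsg.Agent.S1435
import Cfsg.Agent.Lib.OddOrder.TypeP2Partner
import Cfsg.Agent.Lib.OddOrder.SigmaSupport
import Cfsg.Agent.Lib.OddOrder.SigmaConj
import Cfsg.Agent.Lib.OddOrder.SigmaApps
import Cfsg.Agent.Lib.OddOrder.FittingHallSigma
import Cfsg.Agent.Lib.OddOrder.FHall
import Cfsg.Agent.Lib.Solvable.Core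

set_option autoImplicit false
set_option linter.style.haveILetI false
open Cfsg Subgroup CfsgLib CfsgLib.OddOrder

open scoped commutatorElement

namespace Cfsg.Agent.S1436

section

variable {G : Type*} [Group G] [Finite G]

omit [Finite G] in
theorem exists_orderOf_prime_le {x : G} (hx1 : x ≠ 1) (hx : IsOfFinOrder x) :
    ∃ q : ℕ, q.Prime ∧ q ∣ orderOf x ∧ orderOf (x ^ (orderOf x / q)) = q := by
  obtain ⟨q, hq, hd⟩ := Nat.exists_prime_and_dvd fun h => hx1 (orderOf_eq_one_iff.1 h)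
  exact ⟨q, hq, hd, orderOf_pow_orderOf_div hx.orderOf_pos.ne' hd⟩

omit [Finite G] in
theorem centralizer_le_pow (x : G) (i : ℕ) :
    centralizer ({x} : Set G) ≤ centralizer ({x ^ i} : Set G) := fun _ hc =>
  mem_centralizer_singleton_iff.2
    ((show Commute _ x from mem_centralizer_singleton_iff.1 hc).pow_right i).eq

section

variable (hG : Cfsg.IsMinSimpleOddOrder G) {M : Subgroup G} (hM : IsCoatom M) {y : G}
  (hy : y ∈ Cfsg.sigmaCore M) {q : ℕ} [hqF : Fact q.Prime] (hyo : orderOf y = q)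
  (hyM : ¬ centralizer ({y} : Set G) ≤ M) {N : Subgroup G} (hN : IsCoatom N)
  (hyN : centralizer ({y} : Set G) ≤ N)
include hG hM hy hyo hyM hN hyN

/-- The supporting subgroup. -/
theorem supporting_facts :
    Group.IsNilpotent (Cfsg.sigmaCore N) ∧ (∀ g : G, N ≠ M.map (MulAut.conj g).toMonoidHom) ∧
      q ∈ Cfsg.tau2 N ∧ q ∈ Cfsg.sigma M ∧
      Cfsg.IsComplIn (M ⊓ N) (Cfsg.sigmaCore N) N := by
  have hy1 : y ≠ 1 := fun h => hqF.out.ne_one (by rw [← hyo, h, orderOf_one])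
  obtain ⟨L, -, huniq, hfh, hconj, hτ, hE, -⟩ := supporting_structure hG hM
    (Cfsg.Agent.S1378.result hG).2 (Cfsg.Agent.S1432.result hG) hy hy1 hyM
  obtain rfl := huniq N hN hyN
  exact ⟨hfh ▸ fittingHallOf_isNilpotent N, hconj, hτ q hqF.out hyo.symm.dvd,
    sigma_of_dvd_sigmaCore hqF.out (hyo ▸ orderOf_dvd_card_of_mem hy), hE⟩

theorem not_sigma {p : ℕ} (hp : p ∈ Cfsg.sigma N) : p ∉ Cfsg.sigma M := fun h => by
  obtain ⟨g, hg⟩ := (Cfsg.Agent.S1378.result hG).2 M N hM hN ⟨p, h, hp⟩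
  exact (supporting_facts hG hM hy hyo hyM hN hyN).2.1 g hg

theorem exists_elementary :
    ∃ A : Subgroup G, A ≤ M ⊓ N ∧ Cfsg.IsElementaryAbelian q A ∧ Nat.card A = q ^ 2 := by
  obtain ⟨-, -, hq2, -, hE⟩ := supporting_facts hG hM hy hyo hyM hN hyN
  exact exists_elementary_in_complement hG hN hE hq2

/-- No prime is in `τ₂` of both. -/
theorem not_tau2_both {s : ℕ} (hsM : s ∈ Cfsg.tau2 M) : s ∉ Cfsg.tau2 N := fun hsN => by
  haveI := Fact.mk hsM.1
  obtain ⟨-, hconj, -, -, hE⟩ := supporting_facts hG hM hy hyo hyM hN hyN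
  obtain ⟨B, hB, hBe, hB2⟩ := exists_elementary_in_complement hG hN hE hsN
  obtain ⟨-, -, -, -, hd, -⟩ :=
    Cfsg.Agent.S1417.result hG M hM s hsM B ⟨hB.trans inf_le_left, hBe, hB2⟩
  have h := hd N hN (fun e => hconj 1 (by rw [e, map_conj_one])) (hB.trans inf_le_right)
  have hy' : y ∈ Cfsg.sigmaCore M ⊓ N := ⟨hy, hyN (mem_centralizer_singleton_iff.2 rfl)⟩
  rw [h, mem_bot] at hy'
  exact hqF.out.ne_one (by rw [← hyo, hy', orderOf_one])

/-- A prime of `M` in `σ(N)` lies in `β(N)`. -/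
theorem mem_beta (hnil : Group.IsNilpotent (Cfsg.sigmaCore M)) {p : ℕ} (hp : p ∈ Cfsg.sigma N)
    (hpM : p ∣ Nat.card M) : p ∈ Cfsg.beta N := by
  haveI := Fact.mk hp.1
  obtain ⟨hnN, -, hq2, hqM, hE⟩ := supporting_facts hG hM hy hyo hyM hN hyN
  have hy1 : y ≠ 1 := fun h => hqF.out.ne_one (by rw [← hyo, h, orderOf_one])
  have hpq : p ≠ q := fun h => not_sigma hG hM hy hyo hyM hN hyN hp (h ▸ hqM)
  have hMy : zpowers y ≤ M := zpowers_le.2 (piCoreOf_le _ _ hy)
  have hqMd : q ∣ Nat.card M := hyo ▸ orderOf_dvd_card_of_mem (piCoreOf_le _ _ hy)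
  -- `p ≤ q`
  have hle1 : p ≤ q := by
    have hqβ : q ∉ Cfsg.beta M := fun hb => by
      obtain ⟨P⟩ : Nonempty (Sylow q ↥(Cfsg.sigmaCore M)) := inferInstance
      refine hyM ?_
      have h := (Cfsg.Agent.S1423.result hG M hM q hqM (zpowers y) hMy
        (by rw [Nat.card_zpowers, hyo]) P (Or.inl hb)).1.1
      rwa [Cfsg.Agent.S1416.centralizer_zpowers_eq hG] at h
    refine ((Cfsg.Agent.S1414.result hG M hM).2.2.2.2 q hqF.out hqMd hqβ).2.2 p hp.1 ?_
    by_contra hind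
    obtain ⟨a, ha⟩ := exists_prime_orderOf_dvd_card' (G := M) p hpM
    set O := Cfsg.pPrimeCore q M with hO
    set O' := O.map M.subtype with hO'
    have hMO : M ≤ normalizer (O' : Set G) := by
      have := le_normalizer_map M.subtype (H := O)
      rwa [normalizer_eq_top, ← MonoidHom.range_eq_map, range_subtype] at this
    have haO : (a : G) ∈ O' := by
      refine mem_of_orderOf_coprime_relIndex hMO a.2 ?_
      rw [orderOf_coe, ha, hO', Subgroup.relIndex, ← comap_subtype,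
        comap_map_eq_self_of_injective M.subtype_injective]
      exact (Nat.Prime.coprime_iff_not_dvd hp.1).2 hind
    set S := Cfsg.piCoreOf {q} (Cfsg.sigmaCore M)
    have hyS : y ∈ S := mem_piCoreOf_of_nilpotent hnil hy fun t ht hd => by
      rw [hyo, Nat.prime_dvd_prime_iff_eq ht hqF.out] at hd
      exact hd
    have hMS : M ≤ normalizer (S : Set G) :=
      (le_normalizer_piCoreOf _ _).trans (normalizer_le_normalizer_piCoreOf _ _)
    have hOM : O' ≤ M := map_subtype_le _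
    have hdis : O' ⊓ S = ⊥ := inf_eq_bot_of_coprime (Nat.coprime_of_dvd fun t ht h1 h2 => by
      obtain rfl : t = q := piCoreOf_isPiSubgroup _ _ t ht h2
      rw [hO', card_map_of_injective M.subtype_injective] at h1
      exact (Nat.Prime.coprime_iff_not_dvd ht).1 (Solvable.pPrimeCore_card_coprime t M).symm h1)
    have hay : Commute (a : G) y := by
      have h1 : (a : G) * y * (a : G)⁻¹ * y⁻¹ ∈ O' ⊓ S := by
        refine ⟨?_, S.mul_mem ((mem_normalizer_iff.1 (hMS (hOM haO)) y).1 hyS) (S.inv_mem hyS)⟩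
        rw [show (a : G) * y * (a : G)⁻¹ * y⁻¹ = (a : G) * (y * (a : G)⁻¹ * y⁻¹) by group]
        exact mul_mem haO ((mem_normalizer_iff.1 (hMO (piCoreOf_le _ _ hy)) _).1 (inv_mem haO))
      rw [hdis, mem_bot, mul_inv_eq_one, mul_inv_eq_iff_eq_mul] at h1
      exact h1
    have haE : (a : G) ∈ M ⊓ N := ⟨a.2, hyN (mem_centralizer_singleton_iff.2 hay.eq)⟩
    exact complement_prime_not_sigma hG hN hE hp.1
      (ha ▸ orderOf_coe a ▸ orderOf_dvd_card_of_mem haE) hp
  by_contra hpβ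
  -- `q ≤ p`
  have hle2 : q ≤ p := by
    obtain ⟨A, hA, hAe, hA2⟩ := exists_elementary hG hM hy hyo hyM hN hyN
    refine ((Cfsg.Agent.S1414.result hG N hN).2.2.2.2 p hp.1 hp.2.1 hpβ).2.2 q hqF.out ?_
    by_contra hind
    set O := Cfsg.pPrimeCore p N with hO
    set O' := O.map N.subtype with hO'
    have hNO : N ≤ normalizer (O' : Set G) := by
      have := le_normalizer_map N.subtype (H := O)
      rwa [normalizer_eq_top, ← MonoidHom.range_eq_map, range_subtype] at this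
    have hAN : A ≤ N := hA.trans inf_le_right
    have hAO : A ≤ O' := fun a ha => by
      refine mem_of_orderOf_coprime_relIndex hNO (hAN ha) ?_
      rw [hO', Subgroup.relIndex, ← comap_subtype,
        comap_map_eq_self_of_injective N.subtype_injective]
      exact Nat.Coprime.coprime_dvd_left (orderOf_dvd_of_pow_eq_one (hAe.2 a ha))
        ((Nat.Prime.coprime_iff_not_dvd hqF.out).2 hind)
    set P := Cfsg.piCoreOf {p} (Cfsg.sigmaCore N)
    have hNP : N ≤ normalizer (P : Set G) :=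
      (le_normalizer_piCoreOf _ _).trans (normalizer_le_normalizer_piCoreOf _ _)
    have hON : O' ≤ N := map_subtype_le _
    have hPN : P ≤ Cfsg.sigmaCore N := piCoreOf_le _ _
    have hdis : O' ⊓ P = ⊥ := inf_eq_bot_of_coprime (Nat.coprime_of_dvd fun t ht h1 h2 => by
      obtain rfl : t = p := piCoreOf_isPiSubgroup _ _ t ht h2
      rw [hO', card_map_of_injective N.subtype_injective] at h1
      exact (Nat.Prime.coprime_iff_not_dvd ht).1 (Solvable.pPrimeCore_card_coprime t N).symm h1)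
    obtain ⟨-, -, -, hCA, -, -⟩ := Cfsg.Agent.S1417.result hG N hN q hq2 A ⟨hAN, hAe, hA2⟩
    obtain ⟨P₀⟩ : Nonempty (Sylow p N) := inferInstance
    obtain ⟨z, hz⟩ := exists_prime_orderOf_dvd_card' (G := N) p hp.2.1
    have hzσ : (z : G) ∈ Cfsg.sigmaCore N := le_sigmaCore_of_pgroup hG hN hp
      (isPGroup_of_prime_card (by rw [Nat.card_zpowers, orderOf_coe, hz])) (zpowers_le.2 z.2)
      (mem_zpowers _)
    have hzP : (z : G) ∈ P := mem_piCoreOf_of_nilpotent hnN hzσ fun t ht hd => by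
      rw [orderOf_coe, hz, Nat.prime_dvd_prime_iff_eq ht hp.1] at hd
      exact hd
    have hz1 : (z : G) ∈ Cfsg.sigmaCore N ⊓ centralizer (A : Set G) := by
      refine ⟨hzσ, fun a ha => ?_⟩
      have h1 : a * z * a⁻¹ * (z : G)⁻¹ ∈ O' ⊓ P := by
        refine ⟨?_, P.mul_mem ((mem_normalizer_iff.1 (hNP (hAN ha)) _).1 hzP) (P.inv_mem hzP)⟩
        rw [show a * z * a⁻¹ * (z : G)⁻¹ = a * ((z : G) * a⁻¹ * (z : G)⁻¹) by group]
        exact mul_mem (hAO ha) ((mem_normalizer_iff.1 (hNO z.2) _).1 (inv_mem (hAO ha)))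
      rw [hdis, mem_bot, mul_inv_eq_one, mul_inv_eq_iff_eq_mul] at h1
      exact h1
    rw [hCA, mem_bot] at hz1
    exact hp.1.ne_one (by rw [← hz, ← orderOf_coe, hz1, orderOf_one])
  exact hpq (le_antisymm hle1 hle2)

theorem not_sigma_of_tau2 {s : ℕ} (hs : s ∈ Cfsg.tau2 M) : s ∉ Cfsg.sigma N := fun h => by
  haveI := Fact.mk hs.1
  obtain ⟨A, hAM, hA, hA2⟩ : ∃ A : Subgroup G,
      A ≤ M ∧ Cfsg.IsElementaryAbelian s A ∧ Nat.card A = s ^ 2 := by
    obtain ⟨E, -, hE⟩ := exists_complement_ge hG hM (bot_le : (⊥ : Subgroup G) ≤ M)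
      fun t ht hd => absurd (card_bot (G := G) ▸ hd) ht.not_dvd_one
    obtain ⟨A, hA, hAe, hA2⟩ := exists_elementary_in_complement hG hM hE hs
    exact ⟨A, hA.trans hE.1, hAe, hA2⟩
  exact not_idealPrime hG hM hs.2.2.1 hs.2.2.2
    (mem_beta hG hM hy hyo hyM hN hyN (Cfsg.Agent.S1417.result hG M hM s hs A ⟨hAM, hA, hA2⟩).1
      h (hA2 ▸ card_dvd_of_le hAM |> dvd_trans (dvd_pow_self s two_ne_zero))).2

/-- A conjugate of the partner of `M` contains no elementary `q`-subgroup of order `q²`. -/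
theorem false_of_partner {K Ms : Subgroup G} (h : IsKappaPair M K)
    (h' : IsKappaPair Ms (kappaStar M K)) (he : kappaStar Ms (kappaStar M K) = K)
    {A : Subgroup G} (hA : Cfsg.IsElementaryAbelian q A) (hA2 : Nat.card A = q ^ 2)
    (hAM : A ≤ Ms) : False := by
  obtain ⟨-, -, -, hqM, -⟩ := supporting_facts hG hM hy hyo hyM hN hyN
  haveI := isSolvable_of_ne_top hG h'.max.1
  obtain ⟨c, hc⟩ := Solvable.exists_conj_le_isPiHall
    (Solvable.isPiHall_of_isPiHallOf (h.hall_sigma hG h' he)) (K := A.subgroupOf Ms)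
    fun t ht hd => by
      rw [Nat.card_congr (subgroupOfEquivOfLe hAM).toEquiv, hA2] at hd
      rw [(Nat.prime_dvd_prime_iff_eq ht hqF.out).1 (ht.dvd_of_dvd_pow hd)]
      exact hqM
  have hle : A.map (MulAut.conj (c : G)).toMonoidHom ≤ kappaStar M K := by
    rintro _ ⟨a, ha, rfl⟩
    exact mem_subgroupOf.1 (hc (smul_mem_pointwise_smul _ (MulAut.conj c) _
      (mem_subgroupOf.2 ha : (⟨a, hAM ha⟩ : Ms) ∈ A.subgroupOf Ms)))
  haveI := h.cyclic_kappaStar hG
  haveI hcA := isCyclic_of_injective (Subgroup.inclusion hle) (Subgroup.inclusion_injective hle)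
  haveI : IsCyclic A := (A.equivMapOfInjective _ (MulAut.conj (c : G)).injective).isCyclic.2 hcA
  have hdvd : Monoid.exponent A ∣ q :=
    Monoid.exponent_dvd_of_forall_pow_eq_one fun a => Subtype.ext (hA.2 a a.2)
  have h1 := Nat.le_of_dvd hqF.out.pos hdvd
  rw [IsCyclic.exponent_eq_card, hA2] at h1
  nlinarith [hqF.out.two_le]

theorem kappa_eq_empty {p : ℕ} (hp : p ∈ Cfsg.sigma N) (hpM : p ∣ Nat.card M) :
    Cfsg.kappa M = ∅ := by
  rw [← Set.not_nonempty_iff_eq_empty]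
  rintro ⟨t, ht⟩
  haveI := Fact.mk hp.1
  obtain ⟨⟨K, hK⟩, hcyc⟩ := Cfsg.Agent.S1351.result hG M hM
  obtain ⟨U, hKU⟩ := exists_sigma_decomposition hG hM (hcyc K hK) hK
  have hK1 : K ≠ ⊥ := fun h => hK.2.2 t ht.1 ht (by rw [h, relIndex_bot_left]; exact ht.2.1)
  have hMP := isKappaPair_of_decomposition hM hKU hK1
  obtain ⟨Ms, h', he, -⟩ := hMP.exists_dual hG
  obtain ⟨hnN, hconj, hq2, hqM, hE⟩ := supporting_facts hG hM hy hyo hyM hN hyN
  obtain ⟨A, hA, hAe, hA2⟩ := exists_elementary hG hM hy hyo hyM hN hyN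
  have hpσ := not_sigma hG hM hy hyo hyM hN hyN hp
  have key : ∀ g : G, A.map (MulAut.conj g).toMonoidHom ≤ Ms → False := fun g hg =>
    false_of_partner hG hM hy hyo hyM hN hyN hMP h' he
      ⟨⟨⟨fun a b => by
        obtain ⟨a', ha', hae⟩ := a.2
        obtain ⟨b', hb', hbe⟩ := b.2
        refine Subtype.ext ?_
        show (a : G) * b = b * a
        haveI := hAe.1
        rw [← hae, ← hbe, ← map_mul, setLike_mul_comm ha' hb', map_mul]⟩⟩,
      by rintro _ ⟨a, ha, rfl⟩; rw [← map_pow, hAe.2 a ha, map_one]⟩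
      (by rw [card_map_of_injective (MulAut.conj g).injective, hA2]) hg
  have hdisj := (Cfsg.Agent.S1378.result hG).2
  by_cases hpK : p ∣ Nat.card K
  · have hpMs : p ∈ Cfsg.sigma Ms :=
      sigma_of_dvd_sigmaCore hp.1 (hpK.trans (card_dvd_of_le (he.symm.le.trans inf_le_left)))
    obtain ⟨g, hg⟩ := hdisj N Ms hN h'.max ⟨p, hp, hpMs⟩
    exact key g (hg ▸ map_mono (hA.trans inf_le_right))
  have hpU : p ∣ Nat.card U := by
    by_contra hpU
    obtain ⟨hUM, -, -, -⟩ := hKU.compl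
    have hm : p ∣ Nat.card U * U.relIndex M := by
      rwa [← relIndex_bot_left (H := U), relIndex_mul_relIndex ⊥ U M bot_le hUM, relIndex_bot_left]
    rcases hp.1.dvd_mul.1 hm with h | h
    · exact hpU h
    · have h1 : U.relIndex M = Nat.card ↥(K ⊔ Cfsg.sigmaCore M) := by
        have e : Nat.card ↥(K ⊔ Cfsg.sigmaCore M) * (K ⊔ Cfsg.sigmaCore M).relIndex M =
            Nat.card U * U.relIndex M := by
          rw [← relIndex_bot_left, ← relIndex_bot_left (H := U),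
            relIndex_mul_relIndex ⊥ (K ⊔ Cfsg.sigmaCore M) M bot_le
              (sup_le hKU.hall.1 (piCoreOf_le _ _)),
            relIndex_mul_relIndex ⊥ U M bot_le hUM]
        rw [← card_eq_relIndex_of_isComplIn hKU.compl, mul_comm] at e
        exact (Nat.eq_of_mul_eq_mul_left Nat.card_pos e).symm
      rw [h1, sup_comm] at h
      rcases hp.1.dvd_mul.1 (h.trans (card_sup_dvd_mul_of_le_normalizer
        (hKU.hall.1.trans (le_normalizer_piCoreOf _ _)))) with h2 | h2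
      · exact hpσ (sigma_of_dvd_sigmaCore hp.1 h2)
      · exact hpK h2
  have hU1 : U ≠ ⊥ := fun h => hp.1.not_dvd_one (by rw [h, card_bot] at hpU; exact hpU)
  obtain ⟨R⟩ : Nonempty (Sylow p U) := inferInstance
  set R' := (R : Subgroup U).map U.subtype
  have hR'1 : R' ≠ ⊥ := fun h => R.ne_bot_of_dvd_card hpU
    ((map_eq_bot_iff_of_injective _ U.subtype_injective).1 h)
  obtain ⟨H, hH, hRH⟩ := exists_isCoatom_ge (normalizer_ne_top hG hR'1
    (isPGroup_ne_top hG (R.2.map _)))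
  obtain ⟨-, hUH, -, -, -, hEH⟩ := Cfsg.Agent.S1435.result hG M hM K U hKU hK1 hU1 Ms h'.max
    (by simpa [kappaStar, Subgroup.coe_inf] using he.symm) h'.hall p hpU R H hH hRH
  have hpH : p ∈ Cfsg.sigma H := sigma_of_dvd_sigmaCore hp.1 (hpU.trans (card_dvd_of_le hUH))
  obtain ⟨g, hg⟩ := hdisj N H hN hH ⟨p, hp, hpH⟩
  set A' := A.map (MulAut.conj g).toMonoidHom with hA'
  have hA'H : A' ≤ H := hg ▸ map_mono (hA.trans inf_le_right)
  have hqH : q ∉ Cfsg.sigma H := by rw [hg, sigma_conj]; exact hq2.2.1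
  obtain ⟨l, -, hl⟩ := exists_conj_into (L := H) (K := Cfsg.sigmaCore H) (J := H ⊓ Ms) (Y := A')
    (isSolvable_of_ne_top hG hH.1) (le_normalizer_piCoreOf _ _) inf_le_left
    (fun h hh => by
      obtain ⟨a, ha, b, hb, rfl⟩ := hEH.2.2.2 h hh
      exact mul_mem (mem_sup_right ha) (mem_sup_left hb))
    hA'H fun t ht h1 h2 => hqH (by
      rw [hA', card_map_of_injective (MulAut.conj g).injective, hA2] at h1
      rw [← (Nat.prime_dvd_prime_iff_eq ht hqF.out).1 (ht.dvd_of_dvd_pow h1)]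
      exact sigma_of_dvd_sigmaCore ht h2)
  refine key (l * g) ?_
  rw [← map_conj_map_conj]
  exact hl.trans inf_le_right

theorem tau2_eq_empty (hκ : Cfsg.kappa M = ∅) {p : ℕ} (hp : p ∈ Cfsg.sigma N)
    (hpM : p ∣ Nat.card M) : Cfsg.tau2 M = ∅ := by
  refine Set.eq_empty_iff_forall_notMem.2 fun s hs => ?_
  haveI := Fact.mk hp.1
  haveI := Fact.mk hs.1
  obtain ⟨hnN, hconj, hq2, hqM, hEN⟩ := supporting_facts hG hM hy hyo hyM hN hyN
  have hpσ := not_sigma hG hM hy hyo hyM hN hyN hp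
  have hsσ := not_sigma_of_tau2 hG hM hy hyo hyM hN hyN hs
  have hsN2 := not_tau2_both hG hM hy hyo hyM hN hyN hs
  have hpr : Cfsg.PRankLE p 1 M := by
    by_contra h
    exact not_sigma_of_tau2 hG hM hy hyo hyM hN hyN
      ⟨hp.1, hpσ, pRankLE_two_of_not_sigma hG hM hp.1 hpσ, h⟩ hp
  have hps : p ≠ s := fun h => hsσ (h ▸ hp)
  obtain ⟨a, ha⟩ := exists_prime_orderOf_dvd_card' (G := M) p hpM
  have hao : orderOf (a : G) = p := by rw [orderOf_coe, ha]
  have hap : (a : G) ^ p = 1 := by rw [← hao, pow_orderOf_eq_one]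
  have ha1 : (a : G) ≠ 1 := fun h => hp.1.ne_one (by rw [← hao, h, orderOf_one])
  have hfix := sigmaCore_inf_centralizer_eq_bot_of_not_kappa hG hM hpM hpσ
    (fun h => Set.eq_empty_iff_forall_notMem.1 hκ p h) hpr a.2 hap ha1
  obtain ⟨E, haE, hE⟩ := exists_complement_ge hG hM (K := zpowers (a : G)) (zpowers_le.2 a.2)
    fun t ht hd => by
      rw [Nat.card_zpowers, hao, Nat.prime_dvd_prime_iff_eq ht hp.1] at hd
      exact hd ▸ hpσ
  obtain ⟨A, hAE, hA, hA2⟩ := exists_elementary_in_complement hG hM hE hs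
  obtain ⟨⟨hEA, -⟩, -, -⟩ := Cfsg.Agent.S1418.result hG M hM E hE s hs A ⟨hAE, hA, hA2⟩
  obtain ⟨hnM, -, -, hCA, -, -⟩ :=
    Cfsg.Agent.S1417.result hG M hM s hs A ⟨hAE.trans hE.1, hA, hA2⟩
  have hpβ := mem_beta hG hM hy hyo hyM hN hyN hnM hp hpM
  haveI := hA.1
  have hAM : A ≤ M := hAE.trans hE.1
  have haA : (a : G) ∈ normalizer (A : Set G) := hEA (haE (mem_zpowers _))
  set S := Cfsg.sigmaCore M with hS
  have hcs : ∀ t, t.Prime → t ∉ Cfsg.sigma M → (Nat.card S).Coprime t := fun t ht htM =>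
    ((Nat.Prime.coprime_iff_not_dvd ht).2 fun h => htM (sigma_of_dvd_sigmaCore ht h)).symm
  have hcomm : ∀ v ∈ A, ⁅v, (a : G)⁆ ∈ centralizer (S : Set G) := fun v hv =>
    commutator_le_centralizer_of_fpf (V := S) (T := A) (x := (a : G))
      (prime_ne_two_of_dvd_card hG
        (show s ∣ Nat.card A from hA2 ▸ dvd_pow_self s two_ne_zero))
      (hao ▸ hp.1) (hao ▸ hps.symm) hnM (hcs s hs.1 hs.2.1) (hao ▸ hcs p hp.1 hpσ)
      (IsPGroup.of_card (n := 2) hA2) haA (hAM.trans (le_normalizer_piCoreOf _ _))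
      (le_normalizer_piCoreOf _ _ a.2) hfix (commutator_mem_commutator hv (mem_zpowers _))
  -- a conjugate of `a` in `N_σ`
  obtain ⟨g, hg⟩ := Cfsg.Agent.S1425.result hG N hN (zpowers (a : G))
    (fun h => ha1 (zpowers_eq_bot.1 h)) fun t ht hd => by
      rw [Nat.card_zpowers, hao, Nat.prime_dvd_prime_iff_eq ht hp.1] at hd
      exact hd ▸ hp
  set c := (MulAut.conj g).toMonoidHom with hc
  have hca : c a ∈ Cfsg.sigmaCore N := hg (mem_map_of_mem c (mem_zpowers _))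
  have hca1 : c a ≠ 1 := fun h => ha1 ((MulAut.conj g).injective (h.trans (map_one _).symm))
  have hcao : orderOf (c a) = p := by rw [hc, MulEquiv.coe_toMonoidHom, MulEquiv.orderOf_eq, hao]
  have hCN : centralizer ({c a} : Set G) ≤ N := by
    obtain ⟨P⟩ : Nonempty (Sylow p ↥(Cfsg.sigmaCore N)) := inferInstance
    have h := (Cfsg.Agent.S1423.result hG N hN p hp (zpowers (c a))
      (zpowers_le.2 (piCoreOf_le _ _ hca)) (by rw [Nat.card_zpowers, hcao]) P (Or.inl hpβ)).1.1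
    rwa [Cfsg.Agent.S1416.centralizer_zpowers_eq hG] at h
  have hbN : ∀ b : G, Commute b a → c b ∈ N := fun b hb =>
    hCN (mem_centralizer_singleton_iff.2 (by rw [← map_mul, hb.eq, map_mul]))
  by_cases hall : ∀ v ∈ A, Commute v (a : G)
  · have hAN : A.map c ≤ N := by
      rintro _ ⟨v, hv, rfl⟩
      exact hbN v (hall v hv)
    have hcard : Nat.card ↥((A.map c).subgroupOf N) = s ^ 2 := by
      rw [Nat.card_congr (subgroupOfEquivOfLe hAN).toEquiv,
        card_map_of_injective (MulAut.conj g).injective, hA2]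
    refine hsN2 ⟨hs.1, hsσ, pRankLE_two_of_not_sigma hG hN hs.1 hsσ, fun h1 => ?_⟩
    have := h1 ((A.map c).subgroupOf N) ⟨⟨fun u v => by
      obtain ⟨u', hu', hue⟩ := mem_map.1 (mem_subgroupOf.1 u.2)
      obtain ⟨v', hv', hve⟩ := mem_map.1 (mem_subgroupOf.1 v.2)
      refine Subtype.ext (Subtype.ext ?_)
      show ((u : N) : G) * (v : N) = (v : N) * (u : N)
      rw [← hue, ← hve, ← map_mul, setLike_mul_comm hu' hv', map_mul]⟩⟩ fun u hu => by
        obtain ⟨u', hu', hue⟩ := mem_map.1 (mem_subgroupOf.1 hu)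
        refine Subtype.ext ?_
        rw [coe_pow, ← hue, ← map_pow, hA.2 u' hu', map_one]; rfl
    rw [hcard, pow_one] at this
    nlinarith [hs.1.two_le]
  push Not at hall
  obtain ⟨v, hv, hva⟩ := hall
  have hAp : IsPGroup s A := IsPGroup.of_card (n := 2) hA2
  obtain ⟨u, hu, hdo, hdA, -⟩ :=
    exists_commutator_moved hp.1 hps.symm hAp hA.1 hap haA hv hva
  set d := ⁅u, (a : G)⁆ with hd
  have hdy : Commute y d := hcomm u hu y hy
  have hdN : d ∈ N := hyN (mem_centralizer_singleton_iff.2 hdy.symm.eq)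
  have hsN : s ∣ Nat.card N := hdo ▸ orderOf_dvd_card_of_mem hdN
  obtain ⟨b, hb, hba, hb1⟩ : ∃ b ∈ A, Commute b (a : G) ∧ b ≠ 1 := by
    by_contra hno
    push Not at hno
    have hmem : ∀ w ∈ A, ⁅w, (a : G)⁆ ∈ A := fun w hw => by
      have h := A.mul_mem hw ((mem_normalizer_iff.1 haA w⁻¹).1 (inv_mem hw))
      rwa [commutatorElement_def,
        show w * (a : G) * w⁻¹ * (a : G)⁻¹ = w * ((a : G) * w⁻¹ * (a : G)⁻¹) by group]
    have hinj : Function.Injective fun w : A => (⟨⁅(w : G), (a : G)⁆, hmem w w.2⟩ : A) := by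
      intro w₁ w₂ hw
      have hw' : (w₁ : G) * a * (w₁ : G)⁻¹ * (a : G)⁻¹ = (w₂ : G) * a * (w₂ : G)⁻¹ * (a : G)⁻¹ :=
        congrArg Subtype.val hw
      have h1 : Commute ((w₂ : G)⁻¹ * w₁) (a : G) := by
        show (w₂ : G)⁻¹ * w₁ * a = a * ((w₂ : G)⁻¹ * w₁)
        calc (w₂ : G)⁻¹ * w₁ * a
            = (w₂ : G)⁻¹ * ((w₁ : G) * a * (w₁ : G)⁻¹ * (a : G)⁻¹) * a * w₁ := by group
          _ = _ := by rw [hw']; group
      exact Subtype.ext (inv_mul_eq_one.1 (hno _ (mul_mem (inv_mem w₂.2) w₁.2) h1)).symm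
    have hAS : A ≤ centralizer (S : Set G) := fun w hw => by
      obtain ⟨w', hw'⟩ := Finite.surjective_of_injective hinj ⟨w, hw⟩
      rw [← show ⁅(w' : G), (a : G)⁆ = w from congrArg Subtype.val hw']
      exact hcomm w' w'.2
    refine sigmaCore_ne_bot hG hM (le_bot_iff.1 ?_)
    rw [← hCA]
    exact le_inf le_rfl (le_centralizer_iff.1 hAS)
  have hbo : orderOf (c b) = s := by
    rw [hc, MulEquiv.coe_toMonoidHom, MulEquiv.orderOf_eq,
      orderOf_eq_prime (hA.2 b hb) hb1]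
  have hκs : s ∈ Cfsg.kappa N := by
    rcases sigma_element_dichotomy hG hN hca hca1 (x' := c b)
      ⟨hbN b hba, mem_centralizer_singleton_iff.2 (by rw [← map_mul, hba.eq, map_mul])⟩
      (fun h => hs.1.ne_one (by rw [← hbo, h, orderOf_one]))
      (fun t ht hd => by
        rw [hbo, Nat.prime_dvd_prime_iff_eq ht hs.1] at hd
        exact hd ▸ hsσ) with ⟨h, -⟩ | ⟨h, -⟩
    · exact h s hs.1 hbo.symm.dvd
    · exact absurd (h s hs.1 hbo.symm.dvd) hsN2
  obtain ⟨⟨K₁, hK₁⟩, -⟩ := Cfsg.Agent.S1351.result hG N hN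
  have h₁ : IsKappaPair N K₁ := ⟨hN, hK₁, fun h => hK₁.2.2 s hs.1 hκs (by
    rw [h, relIndex_bot_left]; exact hsN)⟩
  haveI := isSolvable_of_ne_top hG hN.1
  obtain ⟨m, hm⟩ := Solvable.exists_conj_le_isPiHall (Solvable.isPiHall_of_isPiHallOf hK₁)
    (K := (zpowers d).subgroupOf N) fun t ht hd' => by
      rw [Nat.card_congr (subgroupOfEquivOfLe (zpowers_le.2 hdN)).toEquiv, Nat.card_zpowers, hdo,
        Nat.prime_dvd_prime_iff_eq ht hs.1] at hd'
      exact hd' ▸ hκs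
  have hmd : (m : G) * d * (m : G)⁻¹ ∈ K₁ :=
    mem_subgroupOf.1 (hm (smul_mem_pointwise_smul _ (MulAut.conj m) _
      (mem_subgroupOf.2 (mem_zpowers d) : (⟨d, hdN⟩ : N) ∈ (zpowers d).subgroupOf N)))
  have hmy : (m : G) * y * (m : G)⁻¹ ∈ K₁ ⊔ kappaStar N K₁ := by
    rw [← h₁.inf_centralizer hG hmd (fun h => hs.1.ne_one (by
      rw [← hdo, conj_eq_one_iff.1 h, orderOf_one]))]
    refine ⟨N.mul_mem (N.mul_mem m.2 (hyN (mem_centralizer_singleton_iff.2 rfl))) (N.inv_mem m.2),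
      mem_centralizer_singleton_iff.2 ?_⟩
    calc (m : G) * y * (m : G)⁻¹ * ((m : G) * d * (m : G)⁻¹) = m * (y * d) * (m : G)⁻¹ := by group
      _ = m * (d * y) * (m : G)⁻¹ := by rw [hdy.eq]
      _ = _ := by group
  have hqZ : q ∣ Nat.card ↥(K₁ ⊔ kappaStar N K₁) := by
    refine (dvd_of_eq ?_).trans (orderOf_dvd_card_of_mem hmy)
    rw [← MulAut.conj_apply, MulEquiv.orderOf_eq, hyo]
  rw [h₁.card_zsub] at hqZ
  rcases hqF.out.dvd_mul.1 hqZ with h | h
  · exact hq2.2.2.2 (kappa_rank_one (hK₁.2.1 q hqF.out h))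
  · exact hq2.2.1 (h₁.primes_kappaStar hqF.out h)


end

end

/-- Let G be a minimal simple group of odd order, M a maximal subgroup, x ≠ 1 in M_σ with C_G(x) ⊄ M, and N a maximal subgroup containing C_G(x). (a) If some prime of σ(N) divides the order of M, then κ(M) = ∅ and τ₂(M) = ∅. (b) If y ≠ 1 in M_σ has C_G(y) ⊄ M, N' is a maximal subgroup containing C_G(y), and gN'g⁻¹ = N for some g ∈ G, then mN'm⁻¹ = N for some m ∈ M. -/
theorem result {G : Type*} [Group G] [Finite G] (hG : Cfsg.IsMinSimpleOddOrder G)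
    (M : Subgroup G) (hM : IsCoatom M) (x : G) (hx : x ∈ Cfsg.sigmaCore M) (hx1 : x ≠ 1) (hxM : ¬ Subgroup.centralizer ({x} : Set G) ≤ M)
    (N : Subgroup G) (hN : IsCoatom N) (hxN : Subgroup.centralizer ({x} : Set G) ≤ N) :
    ((∃ p ∈ Cfsg.sigma N, p ∣ Nat.card M) → Cfsg.kappa M = ∅ ∧ Cfsg.tau2 M = ∅) ∧
      ∀ (y : G) (N' : Subgroup G) (g : G), y ∈ Cfsg.sigmaCore M → y ≠ 1 → ¬ Subgroup.centralizer ({y} : Set G) ≤ M → IsCoatom N' → Subgroup.centralizer ({y} : Set G) ≤ N' →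
        N'.map (MulAut.conj g).toMonoidHom = N → ∃ m ∈ M, N'.map (MulAut.conj m).toMonoidHom = N := by
  classical
  obtain ⟨q, hq, hqd, hyo⟩ := exists_orderOf_prime_le hx1 (isOfFinOrder_of_finite x)
  haveI := Fact.mk hq
  set y₀ := x ^ (orderOf x / q) with hy₀
  have hy₀S : y₀ ∈ Cfsg.sigmaCore M := pow_mem hx _
  have hle := centralizer_le_pow x (orderOf x / q)
  have hy₀M : ¬ centralizer ({y₀} : Set G) ≤ M := fun h => hxM (hle.trans h)
  have hy₀N : centralizer ({y₀} : Set G) ≤ N := by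
    have hy₀1 : y₀ ≠ 1 := fun h => hq.ne_one (by rw [← hyo, h, orderOf_one])
    obtain ⟨L, ⟨hL, hCL⟩, -⟩ := supporting_structure hG hM (Cfsg.Agent.S1378.result hG).2
      (Cfsg.Agent.S1432.result hG) hy₀S hy₀1 hy₀M
    obtain ⟨L', -, huniq, -⟩ := supporting_structure hG hM (Cfsg.Agent.S1378.result hG).2
      (Cfsg.Agent.S1432.result hG) hx hx1 hxM
    rw [huniq N hN hxN, ← huniq L hL (hle.trans hCL)]
    exact hCL
  obtain ⟨hnN, -, hq2, hqM, hE⟩ := supporting_facts hG hM hy₀S hyo hy₀M hN hy₀N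
  refine ⟨?_, ?_⟩
  · rintro ⟨p, hp, hpM⟩
    have hκ := kappa_eq_empty hG hM hy₀S hyo hy₀M hN hy₀N hp hpM
    exact ⟨hκ, tau2_eq_empty hG hM hy₀S hyo hy₀M hN hy₀N hκ hp hpM⟩
  intro z N' g hz hz1 hzM hN' hzN' hNg
  obtain ⟨L, -, huniq, -, -, -, hE', -⟩ := supporting_structure hG hM
    (Cfsg.Agent.S1378.result hG).2 (Cfsg.Agent.S1432.result hG) hz hz1 hzM
  obtain rfl := huniq N' hN' hzN'
  obtain ⟨A, hA, hAe, hA2⟩ := exists_elementary hG hM hy₀S hyo hy₀M hN hy₀N
  obtain ⟨l, hl, hlA⟩ := exists_conj_into (L := N) (K := Cfsg.sigmaCore N)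
    (J := (M ⊓ N').map (MulAut.conj g).toMonoidHom) (Y := A)
    (isSolvable_of_ne_top hG hN.1) (le_normalizer_piCoreOf _ _)
    ((map_mono inf_le_right).trans hNg.le)
    (fun w hw => by
      rw [← hNg, mem_map_conj_iff] at hw
      obtain ⟨e, he, b, hb, heb⟩ := hE'.2.2.2 _ hw
      rw [show w = g * e * g⁻¹ * (g * b * g⁻¹) by
        calc w = g * (g⁻¹ * w * g) * g⁻¹ := by group
          _ = _ := by rw [heb]; group]
      refine mul_mem (mem_sup_right ⟨e, he, rfl⟩) (mem_sup_left ?_)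
      rw [← hNg, sigmaCore_conj]
      exact ⟨b, hb, rfl⟩)
    (hA.trans inf_le_right) fun t ht h1 h2 => hq2.2.1 (by
      rw [hA2] at h1
      rw [← (Nat.prime_dvd_prime_iff_eq ht hq).1 (ht.dvd_of_dvd_pow h1)]
      exact sigma_of_dvd_sigmaCore ht h2)
  set m := l⁻¹ * g with hm
  have hAσ : A ≤ Cfsg.sigmaCore M := le_sigmaCore_of_pgroup hG hM hqM
    (IsPGroup.of_card (n := 2) hA2) (hA.trans inf_le_left)
  have hAm : A ≤ M.map (MulAut.conj m).toMonoidHom := fun a ha => by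
    rw [mem_map_conj_iff]
    obtain ⟨e, he, hee⟩ := hlA ⟨a, ha, rfl⟩
    have hee' : g * e * g⁻¹ = l * a * l⁻¹ := hee
    rw [show m⁻¹ * a * m = g⁻¹ * (l * a * l⁻¹) * g by rw [hm]; group, ← hee',
      show g⁻¹ * (g * e * g⁻¹) * g = e by group]
    exact he.1
  refine ⟨m, ?_, ?_⟩
  · by_contra hmM
    obtain ⟨E, -, hEc⟩ := exists_complement_ge hG hM (bot_le : (⊥ : Subgroup G) ≤ M)
      fun t ht hd => absurd (card_bot (G := G) ▸ hd) ht.not_dvd_one
    obtain ⟨hcyc, -, -⟩ := (Cfsg.Agent.S1426.result hG M hM E hEc).2.2 m hmM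
    haveI := hcyc
    haveI : IsCyclic A := isCyclic_of_injective (Subgroup.inclusion (le_inf hAσ hAm))
      (Subgroup.inclusion_injective _)
    have h1 := Nat.le_of_dvd hq.pos (Monoid.exponent_dvd_of_forall_pow_eq_one
      fun a : A => (Subtype.ext (hAe.2 a a.2) : a ^ q = 1))
    rw [IsCyclic.exponent_eq_card, hA2] at h1
    nlinarith [hq.two_le]
  · rw [hm, ← map_conj_map_conj, hNg]
    exact mem_normalizer_iff_map_conj_eq.1 (le_normalizer (inv_mem hl))

end Cfsg.Agent.S1436
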