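import Cfsg.Statements.S1379
import Cfsg.Agent.S1432
import Cfsg.Agent.S1433
import Cfsg.Agent.S1366
import Cfsg.Agent.S1369
import Cfsg.Agent.S1430
import Cfsg.Agent.Lib.OddOrder.SigmaCover

set_option autoImplicit false
set_option linter.style.haveILetI false
open Cfsg Subgroup CfsgLib CfsgLib.OddOrder

namespace Cfsg.Agent.S1379

/-- Let G be a minimal simple group of odd order; for a maximal subgroup M write M̃ for the union of the G-conjugates of the cosets x R(x), x ≠ 1 in M_σ. Then M̃ ∩ Ñ = ∅ for non-conjugate maximal M, N; if every maximal subgroup has κ empty, every g ≠ 1 lies in some M̃; and if M = K U M_σ has K ≠ 1 with Ẑ = K K* − (K ∪ K*), then every g ≠ 1 lies in some Ñ or in a conjugate of Ẑ, and no conjugate of an element of Ẑ lies in any Ñ. -/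
theorem result {G : Type*} [Group G] [Finite G] (hG : Cfsg.IsMinSimpleOddOrder G) :
    (∀ M N : Subgroup G, IsCoatom M → IsCoatom N → (∀ g : G, N ≠ M.map (MulAut.conj g).toMonoidHom) → Cfsg.tildeOf M ((Cfsg.sigmaCore M : Set G) \ {1}) ∩ Cfsg.tildeOf N ((Cfsg.sigmaCore N : Set G) \ {1}) = ∅) ∧
      ((∀ M : Subgroup G, IsCoatom M → Cfsg.kappa M = ∅) →
        ∀ g : G, g ≠ 1 → ∃ M : Subgroup G, IsCoatom M ∧ g ∈ Cfsg.tildeOf M ((Cfsg.sigmaCore M : Set G) \ {1})) ∧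
      ∀ (M K U : Subgroup G), IsCoatom M → Cfsg.IsSigmaDecomposition M K U → K ≠ ⊥ →
        (∀ g : G, g ≠ 1 → (∃ N : Subgroup G, IsCoatom N ∧ g ∈ Cfsg.tildeOf N ((Cfsg.sigmaCore N : Set G) \ {1})) ∨
            ∃ y : G, ∃ z ∈ ((↑(K ⊔ (Cfsg.sigmaCore M ⊓ Subgroup.centralizer (K : Set G))) : Set G) \ ((K : Set G) ∪ ↑(Cfsg.sigmaCore M ⊓ Subgroup.centralizer (K : Set G)))), g = y * z * y⁻¹) ∧
        ∀ N : Subgroup G, IsCoatom N → ∀ y : G, ∀ z ∈ ((↑(K ⊔ (Cfsg.sigmaCore M ⊓ Subgroup.centralizer (K : Set G))) : Set G) \ ((K : Set G) ∪ ↑(Cfsg.sigmaCore M ⊓ Subgroup.centralizer (K : Set G)))), y * z * y⁻¹ ∉ Cfsg.tildeOf N ((Cfsg.sigmaCore N : Set G) \ {1}) := by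
  have hdisj := (Cfsg.Agent.S1378.result hG).2
  have hdich := Cfsg.Agent.S1432.result hG
  refine ⟨fun M N hM hN hne => ?_, fun hκ g hg => ?_, fun M K U hM hKU hK1 => ?_⟩
  · refine Set.eq_empty_iff_forall_notMem.2 ?_
    rintro g ⟨⟨a, ha, r, hr, y, rfl⟩, b, hb, s, hs, z, hz⟩
    have haσ : y * a * y⁻¹ ∈ Cfsg.sigmaCore (M.map (MulAut.conj y).toMonoidHom) := by
      rw [sigmaCore_conj]; exact mem_map_of_mem _ ha.1
    have hbσ : z * b * z⁻¹ ∈ Cfsg.sigmaCore (N.map (MulAut.conj z).toMonoidHom) := by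
      rw [sigmaCore_conj]; exact mem_map_of_mem _ hb.1
    have ha1 : y * a * y⁻¹ ≠ 1 := fun h => ha.2 (conj_eq_one_iff.1 h)
    have hb1 : z * b * z⁻¹ ≠ 1 := fun h => hb.2 (conj_eq_one_iff.1 h)
    by_cases hab : y * a * y⁻¹ = z * b * z⁻¹
    · obtain ⟨p, hp, hpd⟩ := Nat.exists_prime_and_dvd (n := orderOf (y * a * y⁻¹))
        fun h => ha1 (orderOf_eq_one_iff.1 h)
      obtain ⟨w, hw⟩ := hdisj M N hM hN ⟨p, by
          rw [← sigma_conj M y]
          exact piCoreOf_isPiSubgroup _ _ p hp (hpd.trans (orderOf_dvd_card_of_mem haσ)), by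
          rw [← sigma_conj N z]
          exact piCoreOf_isPiSubgroup _ _ p hp (hpd.trans (hab ▸ orderOf_dvd_card_of_mem hbσ))⟩
      exact hne w hw
    · refine Cfsg.Agent.S1433.result hG _ _ (isCoatom_conj hM y) (isCoatom_conj hN z) _ _ haσ hbσ ha1
        hb1 hab (y * r * y⁻¹) ?_ (z * s * z⁻¹) ?_ ?_
      · rw [supportR_conj hG hdisj hdich hM ha.1 ha.2]; exact mem_map_of_mem _ hr
      · rw [supportR_conj hG hdisj hdich hN hb.1 hb.2]; exact mem_map_of_mem _ hs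
      · calc y * a * y⁻¹ * (y * r * y⁻¹) = y * (a * r) * y⁻¹ := by group
          _ = z * (b * s) * z⁻¹ := hz
          _ = _ := by group
  · rcases cover hG hdisj hdich hg with h | ⟨M, hM, u, v, y, -, -, -, hv1, hvκ, -⟩
    · exact h
    · obtain ⟨p, hp, hpd⟩ := Nat.exists_prime_and_dvd (n := orderOf v)
        fun h => hv1 (orderOf_eq_one_iff.1 h)
      exact absurd (hvκ p hp hpd) (by simp [hκ M hM])
  set Ks := Cfsg.sigmaCore M ⊓ centralizer (K : Set G) with hKs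
  obtain ⟨Ms, ⟨hMs, hKeq, hKsH⟩, -⟩ := Cfsg.Agent.S1366.result hG M hM K U hKU hK1
  have hKeq' : K = Cfsg.sigmaCore Ms ⊓ centralizer (Ks : Set G) := by
    rw [hKs, Subgroup.coe_inf]; exact hKeq
  have hcomm : ∀ k ∈ K, ∀ l ∈ Ks, Commute k l := fun k hk l hl =>
    mem_centralizer_iff.1 hl.2 k hk
  have hKdis : K ⊓ Ks = ⊥ := by
    rw [← le_bot_iff, ← decomposition_K_inf_sigmaCore hKU]
    exact inf_le_inf_left _ inf_le_left
  refine ⟨fun g hg => ?_, fun N hN y z hz => ?_⟩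
  · refine (cover hG hdisj hdich hg).imp id ?_
    rintro ⟨M', hM', u, v, y, hu, hu1, hv, hv1, hvκ, rfl⟩
    obtain ⟨p, hp, hpd⟩ := Nat.exists_prime_and_dvd (n := orderOf v)
      fun h => hv1 (orderOf_eq_one_iff.1 h)
    -- reduce to `M' = M` or `M' = Ms`
    have key : ∀ (A H : Subgroup G), IsCoatom A → Cfsg.IsPiHallOf (Cfsg.kappa A) H A →
        (∃ w : G, M' = A.map (MulAut.conj w).toMonoidHom) →
        (∀ k ∈ H, ∀ l ∈ Cfsg.sigmaCore A ⊓ centralizer (H : Set G), k ≠ 1 → l ≠ 1 →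
          l * k ∈ (↑(K ⊔ Ks) : Set G) \ ((K : Set G) ∪ ↑Ks)) →
        ∃ y' : G, ∃ z ∈ ((↑(K ⊔ Ks) : Set G) \ ((K : Set G) ∪ ↑Ks)),
          y * (u * v) * y⁻¹ = y' * z * y'⁻¹ := by
      rintro A H hA hH ⟨w, rfl⟩ hZ
      have hu' : w⁻¹ * u * w ∈ Cfsg.sigmaCore A := by
        rw [sigmaCore_conj] at hu; exact mem_map_conj_iff.1 hu
      have hv' : w⁻¹ * v * w ∈ A := mem_map_conj_iff.1 hv.1
      have hord : orderOf (w⁻¹ * v * w) = orderOf v := by
        rw [show w⁻¹ * v * w = MulAut.conj w⁻¹ v by simp, MulEquiv.orderOf_eq]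
      have hκA : ∀ q : ℕ, q.Prime → q ∣ orderOf v → q ∈ Cfsg.kappa A := by
        intro q hq hd
        have hκ' := hvκ q hq hd
        haveI := Fact.mk hq
        refine ⟨hq, hd.trans (hord ▸ orderOf_dvd_card_of_mem hv'),
          by rw [← sigma_conj A w]; exact hκ'.2.2.1, fun P => ?_⟩
        set c := (MulAut.conj w).toMonoidHom
        have hci : Function.Injective c := (MulAut.conj w).injective
        let e := A.equivMapOfInjective c hci
        obtain ⟨hcyc, x, hx, hx1, t, ht, ht1, hxt⟩ :=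
          hκ'.2.2.2 (P.mapSurjective (f := e.toMonoidHom) e.surjective)
        refine ⟨?_, ?_⟩
        · haveI := hcyc
          exact ((Subgroup.equivMapOfInjective _ e.toMonoidHom e.injective)).symm.isCyclic.1 hcyc
        · obtain ⟨x₀, hx₀, rfl⟩ := hx
          rw [sigmaCore_conj] at ht
          obtain ⟨t₀, ht₀, rfl⟩ := ht
          exact ⟨x₀, hx₀, fun h => hx1 (by rw [h]; exact map_one _), t₀, ht₀,
            fun h => ht1 (by rw [h]; exact map_one _), hci (by rw [map_mul, map_mul]; exact hxt)⟩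
      haveI := isSolvable_of_ne_top hG hA.1
      obtain ⟨a, ha⟩ := Solvable.exists_conj_le_isPiHall
        (Solvable.isPiHall_of_isPiHallOf hH) (K := zpowers (⟨w⁻¹ * v * w, hv'⟩ : A)) (by
          intro q hq hd
          rw [Nat.card_zpowers, orderOf_mk, hord] at hd
          exact hκA q hq hd)
      set k := (a : G) * (w⁻¹ * v * w) * (a : G)⁻¹ with hk
      set l := (a : G) * (w⁻¹ * u * w) * (a : G)⁻¹ with hl
      have hkH : k ∈ H :=
        mem_subgroupOf.1 (ha (smul_mem_pointwise_smul _ _ _ (mem_zpowers _)))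
      have hk1 : k ≠ 1 := fun h => hv1 (conj_eq_one_iff.1
        (show w⁻¹ * v * w⁻¹⁻¹ = 1 by rw [inv_inv]; exact conj_eq_one_iff.1 h))
      have hlA : l ∈ Cfsg.sigmaCore A :=
        (mem_normalizer_iff.1 (le_normalizer_piCoreOf (Cfsg.sigma A) A a.2) _).1 hu'
      have hH1 : H ≠ ⊥ := fun h => hk1 (mem_bot.1 (h ▸ hkH))
      have hlC : l ∈ Cfsg.sigmaCore A ⊓ centralizer (H : Set G) := by
        rw [← (Cfsg.Agent.S1430.result hG A hA H hH hH1).1 k hkH hk1]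
        refine ⟨hlA, mem_centralizer_singleton_iff.2 ?_⟩
        have h := mem_centralizer_singleton_iff.1 hv.2
        calc l * k = a * w⁻¹ * (u * v) * (w * (a : G)⁻¹) := by rw [hl, hk]; group
          _ = a * w⁻¹ * (v * u) * (w * (a : G)⁻¹) := by rw [h]
          _ = k * l := by rw [hl, hk]; group
      refine ⟨y * w * (a : G)⁻¹, l * k, hZ k hkH l hlC hk1 ?_, by rw [hl, hk]; group⟩
      exact fun h => hu1 (conj_eq_one_iff.1
        (show w⁻¹ * u * w⁻¹⁻¹ = 1 by rw [inv_inv]; exact conj_eq_one_iff.1 h))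
    obtain ⟨w, hw | hw⟩ := (Cfsg.Agent.S1369.result hG M hM K U hKU hK1 Ms hMs hKeq hKsH).2 M' hM'
      ⟨p, hvκ p hp hpd⟩
    · refine key M K hM hKU.hall ⟨w, hw⟩ fun k hk l hl hk1 hl1 =>
        ⟨mul_mem (mem_sup_right hl) (mem_sup_left hk), ?_⟩
      rintro (h | h)
      · exact hl1 (mem_bot.1 (hKdis ▸ (⟨(K.mul_mem_cancel_right hk).1 h, hl⟩ : l ∈ K ⊓ Ks)))
      · exact hk1 (mem_bot.1 (hKdis ▸ (⟨hk, (Ks.mul_mem_cancel_left hl).1 h⟩ : k ∈ K ⊓ Ks)))
    · refine key Ms Ks hMs hKsH ⟨w, hw⟩ fun k hk l hl hk1 hl1 => ?_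
      rw [← hKeq'] at hl
      refine ⟨mul_mem (mem_sup_left hl) (mem_sup_right hk), ?_⟩
      rintro (h | h)
      · exact hk1 (mem_bot.1 (hKdis ▸ (⟨(K.mul_mem_cancel_left hl).1 h, hk⟩ : k ∈ K ⊓ Ks)))
      · exact hl1 (mem_bot.1 (hKdis ▸ (⟨hl, (Ks.mul_mem_cancel_right hk).1 h⟩ : l ∈ K ⊓ Ks)))
  · rintro ⟨a, ha, r, hr, w, hw⟩
    obtain ⟨hzZ, hzn⟩ := hz
    rw [SetLike.mem_coe, Solvable.mem_sup_of_le_normalizer
      ((inf_le_right : Ks ≤ centralizer (K : Set G)).trans (centralizer_le_normalizer _))] at hzZ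
    obtain ⟨k, hk, l, hl, rfl⟩ := hzZ
    have hk1 : k ≠ 1 := fun h => hzn (Or.inr (by rw [h, one_mul]; exact hl))
    have hl1 : l ≠ 1 := fun h => hzn (Or.inl (by rw [h, mul_one]; exact hk))
    have hlσ : ∀ q : ℕ, q.Prime → q ∣ orderOf l → q ∈ Cfsg.sigma M := fun q hq hd =>
      piCoreOf_isPiSubgroup _ M q hq (hd.trans (orderOf_dvd_card_of_mem hl.1))
    have hkκ : ∀ q : ℕ, q.Prime → q ∣ orderOf k → q ∈ Cfsg.kappa M := fun q hq hd =>
      hKU.hall.2.1 q hq (hd.trans (orderOf_dvd_card_of_mem hk))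
    have hlκ : ∀ q : ℕ, q.Prime → q ∣ orderOf l → q ∈ Cfsg.kappa Ms := fun q hq hd =>
      hKsH.2.1 q hq (hd.trans (orderOf_dvd_card_of_mem hl))
    have hkS : k ∈ Cfsg.sigmaCore Ms := (hKeq'.le hk).1
    have hkσ : ∀ q : ℕ, q.Prime → q ∣ orderOf k → q ∈ Cfsg.sigma Ms := fun q hq hd =>
      piCoreOf_isPiSubgroup _ Ms q hq (hd.trans (orderOf_dvd_card_of_mem hkS))
    -- move to `a r = k l`
    set d := y⁻¹ * w with hd
    set N' := N.map (MulAut.conj d).toMonoidHom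
    have hN' : IsCoatom N' := isCoatom_conj hN d
    set a' := d * a * d⁻¹
    set r' := d * r * d⁻¹
    have ha' : a' ∈ Cfsg.sigmaCore N' := by rw [sigmaCore_conj]; exact mem_map_of_mem _ ha.1
    have ha'1 : a' ≠ 1 := fun h => ha.2 (conj_eq_one_iff.1 h)
    have hr' : r' ∈ Cfsg.supportR N' a' := by
      rw [supportR_conj hG hdisj hdich hN ha.1 ha.2]; exact mem_map_of_mem _ hr
    have he : a' * r' = k * l := by
      calc a' * r' = y⁻¹ * (w * (a * r) * w⁻¹) * y := by simp only [a', r', hd]; group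
        _ = y⁻¹ * (y * (k * l) * y⁻¹) * y := by rw [hw]
        _ = k * l := by group
    have haσ : ∀ q : ℕ, q.Prime → q ∣ orderOf a' → q ∈ Cfsg.sigma N' := fun q hq hd =>
      piCoreOf_isPiSubgroup _ N' q hq (hd.trans (orderOf_dvd_card_of_mem ha'))
    have hr'C : r' ∈ centralizer ({a'} : Set G) :=
      (supportR_spec hG hdisj hdich hN' ha' ha'1).2.2.1 hr'
    have har : Commute a' r' := (mem_centralizer_singleton_iff.1 hr'C).symm
    have hkl : Commute k l := hcomm k hk l hl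
    have hprime : ∀ x : G, x ≠ 1 → ∃ q : ℕ, q.Prime ∧ q ∣ orderOf x := fun x hx =>
      Nat.exists_prime_and_dvd fun h => hx (orderOf_eq_one_iff.1 h)
    by_cases hC : centralizer ({a'} : Set G) ≤ N'
    · rw [supportR_eq_bot hC, mem_bot] at hr'
      rw [hr', mul_one] at he
      obtain ⟨q, hq, hqk⟩ := hprime k hk1
      obtain ⟨s, hs, hsl⟩ := hprime l hl1
      have hco : (orderOf k).Coprime (orderOf l) := Nat.coprime_of_dvd fun t ht h1 h2 =>
        kappa_not_sigma (hkκ t ht h1) (hlσ t ht h2)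
      rw [he, hkl.orderOf_mul_eq_mul_orderOf_of_coprime hco] at haσ
      obtain ⟨f, hf⟩ := hdisj N' M hN' hM ⟨s, haσ s hs (hsl.mul_left _), hlσ s hs hsl⟩
      refine kappa_not_sigma (hkκ q hq hqk) ?_
      rw [hf, sigma_conj]
      exact haσ q hq (hqk.mul_right _)
    obtain ⟨L, ⟨hL, hCL⟩, huL, hF, hconj, -, -, -⟩ :=
      supporting_structure hG hN' hdisj hdich ha' ha'1 hC
    have hrσ : ∀ q : ℕ, q.Prime → q ∣ orderOf r' → q ∉ Cfsg.sigma N' := fun q hq hd hN'q => by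
      rw [supportR_eq hC hL hCL huL hF] at hr'
      obtain ⟨f, hf⟩ := hdisj N' L hN' hL
        ⟨q, hN'q, piCoreOf_isPiSubgroup _ L q hq (hd.trans (orderOf_dvd_card_of_mem hr'.1))⟩
      exact hconj f hf
    -- the part `a'` is one of `k`, `l`
    have fin : ∀ (A : Subgroup G) (x x' : G), IsCoatom A → x ∈ Cfsg.sigmaCore A →
        x' ∈ A → x ≠ 1 → x' ≠ 1 → Commute x x' →
        (∀ q : ℕ, q.Prime → q ∣ orderOf x' → q ∈ Cfsg.kappa A) → a' * r' = x * x' →
        (∀ q : ℕ, q.Prime → q ∣ orderOf a' → ∃ f : G, A = N'.map (MulAut.conj f).toMonoidHom) →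
        False := by
      intro A x x' hA hx hx'A hx1 hx'1 hxx' hκ' hexx hf
      obtain ⟨q, hq, hqa⟩ := hprime a' ha'1
      obtain ⟨f, hf'⟩ := hf q hq hqa
      have hσA : Cfsg.sigma A = Cfsg.sigma N' := by rw [hf', sigma_conj]
      obtain ⟨he1, he2⟩ := parts_eq_of_mul_eq (π := Cfsg.sigma A) har hxx' (hσA ▸ haσ) (hσA ▸ hrσ)
        (fun t ht hd => piCoreOf_isPiSubgroup _ A t ht (hd.trans (orderOf_dvd_card_of_mem hx)))
        (fun t ht hd => kappa_not_sigma (hκ' t ht hd)) hexx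
      have hCA : centralizer ({x} : Set G) ≤ A := by
        rcases hdich A hA x hx hx1 x' ⟨hx'A, mem_centralizer_singleton_iff.2 hxx'.eq.symm⟩ hx'1
          (fun t ht hd => kappa_not_sigma (hκ' t ht hd)) with ⟨-, h⟩ | ⟨hτ, -, -⟩
        · exact h
        · obtain ⟨t, ht, hd⟩ := hprime x' hx'1
          haveI := Fact.mk ht
          exact absurd (kappa_rank_one (hκ' t ht hd)) (hτ t ht hd).2.2.2
      have hxA' : a' ∈ A := he1 ▸ piCoreOf_le _ _ hx
      have h := (supportR_conjugate_eq hG hdisj hdich hN' ha' ha'1 (g := f)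
        (hf' ▸ hxA')).2
      rw [← hf', supportR_eq_bot (he1 ▸ hCA)] at h
      rw [← h, mem_bot] at hr'
      exact hx'1 (he2 ▸ hr')
    obtain ⟨q, hq, hqa⟩ := hprime a' ha'1
    have hq2 : q ∣ orderOf k ∨ q ∣ orderOf l := by
      have h1 : orderOf a' ∣ orderOf (k * l) := by
        rw [← he]
        exact orderOf_dvd_of_mem_zpowers (mem_zpowers_mul_of_coprime har
          (Nat.coprime_of_dvd fun t ht h1 h2 => hrσ t ht h1 (haσ t ht h2)))
      exact (hq.dvd_mul.1 ((hqa.trans h1).trans hkl.orderOf_mul_dvd_mul_orderOf))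
    rcases hq2 with hqk | hql
    · obtain ⟨f, hf⟩ := hdisj N' Ms hN' hMs ⟨q, haσ q hq hqa, hkσ q hq hqk⟩
      exact fin Ms k l hMs hkS (hKsH.1 hl) hk1 hl1 hkl hlκ he fun _ _ _ => ⟨f, hf⟩
    · obtain ⟨f, hf⟩ := hdisj N' M hN' hM ⟨q, haσ q hq hqa, hlσ q hq hql⟩
      exact fin M l k hM hl.1 (hKU.hall.1 hk) hl1 hk1 hkl.symm hkκ (he.trans hkl.eq)
        fun _ _ _ => ⟨f, hf⟩


end Cfsg.Agent.S1379
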