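import Cfsg.Statements.S0016
import Cfsg.Agent.Lib.Solvable.UniqueInvolution

set_option autoImplicit false
open Cfsg

namespace Cfsg.Agent.S0016

/-- A finite p-group in which only one subgroup has order p is either cyclic or (with p = 2) isomorphic to a generalized quaternion group. -/
theorem result {G : Type*} [Group G] [Finite G] (p : ℕ) [Fact p.Prime]
    (hG : IsPGroup p G) (huniq : ∀ H K : Subgroup G, Nat.card H = p → Nat.card K = p → H = K) :
    IsCyclic G ∨ (p = 2 ∧ ∃ n : ℕ, Nonempty (G ≃* QuaternionGroup (2 ^ n))) := by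
  by_cases hp2 : p = 2
  · subst hp2
    refine (CfsgLib.Solvable.isCyclic_or_quaternion_of_unique_involution hG ?_).imp id
      fun h => ⟨rfl, h⟩
    intro u v hu hu1 hv hv1
    have h := huniq (Subgroup.zpowers u) (Subgroup.zpowers v)
      (by rw [Nat.card_zpowers]; exact orderOf_eq_prime hu hu1)
      (by rw [Nat.card_zpowers]; exact orderOf_eq_prime hv hv1)
    have hmem : v ∈ Subgroup.zpowers u := h ▸ Subgroup.mem_zpowers v
    obtain ⟨k, rfl⟩ := Subgroup.mem_zpowers_iff.mp hmem
    rcases Int.even_or_odd' k with ⟨j, rfl | rfl⟩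
    · exact absurd (by rw [zpow_mul, zpow_two, ← pow_two, hu, one_zpow]) hv1
    · rw [zpow_add, zpow_mul, zpow_two, ← pow_two, hu, one_zpow, one_mul, zpow_one]
  · refine Or.inl (CfsgLib.PGroup.isCyclic_of_unique_order_prime hp2 hG fun x y hx hx1 hy => ?_)
    by_cases hy1 : y = 1
    · rw [hy1]; exact one_mem _
    · rw [huniq (Subgroup.zpowers x) (Subgroup.zpowers y)
        (by rw [Nat.card_zpowers]; exact orderOf_eq_prime hx hx1)
        (by rw [Nat.card_zpowers]; exact orderOf_eq_prime hy hy1)]
      exact Subgroup.mem_zpowers y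

end Cfsg.Agent.S0016
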