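import Cfsg.Statements.S1376
import Cfsg.Agent.S1361
import Cfsg.Agent.S1363
import Cfsg.Agent.S1364
import Cfsg.Agent.S1366
import Cfsg.Agent.S1367
import Cfsg.Agent.S1368
import Cfsg.Agent.S1372
import Cfsg.Agent.S1435
import Cfsg.Agent.S1437
import Cfsg.Agent.S1352
import Cfsg.Agent.S1375
import Cfsg.Agent.S1351
import Cfsg.Agent.S1353
import Cfsg.Agent.S1354
import Cfsg.Agent.S1365
import Cfsg.Agent.S1378
import Cfsg.Agent.S1417
import Cfsg.Agent.S1418
import Cfsg.Agent.S1419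
import Cfsg.Agent.S1420
import Cfsg.Agent.S1432
import Cfsg.Agent.S1446
import Cfsg.Agent.Lib.OddOrder.SigmaSupport
import Cfsg.Agent.Lib.OddOrder.SigmaParts
import Cfsg.Agent.Lib.OddOrder.SigmaConj
import Cfsg.Agent.Lib.OddOrder.KappaDerived
import Cfsg.Agent.Lib.OddOrder.KappaStructure
import Cfsg.Agent.Lib.OddOrder.FHall
import Cfsg.Agent.Lib.OddOrder.CyclicCoprime
import Cfsg.Agent.Lib.OddOrder.TauTwo
import Cfsg.Agent.Lib.Frobenius.Fpf
import Cfsg.Agent.Lib.CN.Nilpotent
import Cfsg.Agent.Lib.OddOrder.TauTwoCriterion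

set_option autoImplicit false
set_option linter.style.haveILetI false
open Cfsg Subgroup CfsgLib CfsgLib.OddOrder
open scoped commutatorElement

namespace Cfsg.Agent.S1376


section

variable {G : Type*} [Group G] [Finite G] (hG : Cfsg.IsMinSimpleOddOrder G)
include hG

/-- A decomposition moved by an element of `N`. -/
theorem decomposition_conj {N K U : Subgroup G} (hKU : Cfsg.IsSigmaDecomposition N K U) {m : G}
    (hm : m ∈ N) : Cfsg.IsSigmaDecomposition N (K.map (MulAut.conj m).toMonoidHom)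
      (U.map (MulAut.conj m).toMonoidHom) := by
  have hci : Function.Injective (MulAut.conj m).toMonoidHom := (MulAut.conj m).injective
  have hmN : N.map (MulAut.conj m).toMonoidHom = N := by
    have h := le_normalizer (H := N) hm
    rw [mem_normalizer_iff_map_conj_eq] at h
    exact h
  have hmS : (Cfsg.sigmaCore N).map (MulAut.conj m).toMonoidHom = Cfsg.sigmaCore N := by
    rw [← sigmaCore_conj, hmN]
  refine ⟨?_, ?_, ⟨?_, ?_, ?_, ?_⟩, ?_⟩
  · haveI := hKU.cyclic
    exact (K.equivMapOfInjective _ hci).isCyclic.1 inferInstance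
  · refine ⟨(Subgroup.map_mono hKU.hall.1).trans hmN.le, fun q hq hd => hKU.hall.2.1 q hq ?_,
      fun q hq hqκ hd => hKU.hall.2.2 q hq hqκ ?_⟩
    · rwa [card_map_of_injective hci] at hd
    · rwa [← hmN, relIndex_map_map_of_injective _ _ hci] at hd
  · exact (Subgroup.map_mono hKU.compl.1).trans hmN.le
  · exact (sup_le (Subgroup.map_mono hKU.hall.1 |>.trans hmN.le) (piCoreOf_le _ _))
  · rw [← hmS, ← Subgroup.map_sup, ← Subgroup.map_inf _ _ _ hci, hKU.compl.2.2.1, Subgroup.map_bot]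
  · intro n hn
    rw [← hmN] at hn
    obtain ⟨n₀, hn₀, rfl⟩ := hn
    obtain ⟨u, hu, b, hb, rfl⟩ := hKU.compl.2.2.2 n₀ hn₀
    refine ⟨_, mem_map_of_mem _ hu, _, ?_, map_mul _ u b⟩
    rw [← hmS, ← Subgroup.map_sup]
    exact mem_map_of_mem _ hb
  · rw [← map_equiv_normalizer_eq]
    exact Subgroup.map_mono hKU.normal

/-- `C_{N'}(k) = K^*` for `k ∈ K ∖ 1`. -/
theorem derived_inf_centralizer {N K U : Subgroup G} (hN : IsCoatom N)
    (hKU : Cfsg.IsSigmaDecomposition N K U) (hK1 : K ≠ ⊥) {k : G} (hk : k ∈ K) (hk1 : k ≠ 1) :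
    ⁅N, N⁆ ⊓ centralizer ({k} : Set G) = Cfsg.sigmaCore N ⊓ centralizer (K : Set G) := by
  obtain ⟨hd, -⟩ := Cfsg.Agent.S1365.result hG N hN K U hKU hK1
  obtain ⟨hKN, hUN⟩ := decomposition_le hKU
  refine le_antisymm ?_ (le_inf (inf_le_left.trans (hd ▸ le_sup_right))
    (inf_le_right.trans (centralizer_le (Set.singleton_subset_iff.2 hk))))
  rintro c ⟨hc, hck⟩
  rw [hd, sup_comm U] at hc
  obtain ⟨s, hs, u, hu, rfl⟩ := (Solvable.mem_sup_of_le_normalizer
    (hUN.trans (le_normalizer_piCoreOf (Cfsg.sigma N) N) :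
      U ≤ normalizer ((Cfsg.sigmaCore N : Subgroup G) : Set G))).1 hc
  have hn : U ⊔ K ≤ normalizer ((Cfsg.sigmaCore N : Subgroup G) : Set G) :=
    (sup_le hUN hKN).trans (le_normalizer_piCoreOf (Cfsg.sigma N) N)
  have hs' : u⁻¹ * s * u ∈ Cfsg.sigmaCore N := by
    simpa using (mem_normalizer_iff.1 (hn (mem_sup_left (inv_mem hu))) s).1 hs
  have e : s * u = u * (u⁻¹ * s * u) := by group
  rw [e] at hck ⊢
  obtain ⟨h1, h2⟩ := mem_centralizer_of_mul_mem (decomposition_isComplIn hKU).2.2.1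
    (mem_sup_right hk) hn (mem_sup_left hu) hs' (mem_centralizer_singleton_iff.1 hck)
  have hu1 : u ∈ U ⊓ centralizer ({k} : Set G) := ⟨hu, mem_centralizer_singleton_iff.2 h1⟩
  rw [decomposition_inf_centralizer hG hN hKU hk hk1, mem_bot] at hu1
  subst hu1
  rw [one_mul, ← kappa_prime_action hG hN hKU.cyclic hKU.hall hk hk1]
  exact ⟨hs', mem_centralizer_singleton_iff.2 h2⟩

/-- In `N`, whatever normalizes `K^*` centralizes it. -/
theorem normalizer_star_le {N K U : Subgroup G} (hN : IsCoatom N)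
    (hKU : Cfsg.IsSigmaDecomposition N K U) (hK1 : K ≠ ⊥)
    (hKsc : IsCyclic ↥(Cfsg.sigmaCore N ⊓ centralizer (K : Set G))) :
    N ⊓ normalizer ((Cfsg.sigmaCore N ⊓ centralizer (K : Set G) : Subgroup G) : Set G) ≤
      centralizer ((Cfsg.sigmaCore N ⊓ centralizer (K : Set G) : Subgroup G) : Set G) := by
  set Ks := Cfsg.sigmaCore N ⊓ centralizer (K : Set G) with hKs
  obtain ⟨hd, -⟩ := Cfsg.Agent.S1365.result hG N hN K U hKU hK1
  obtain ⟨hKN, hUN⟩ := decomposition_le hKU
  have hKC : K ≤ centralizer (Ks : Set G) := le_centralizer_iff.1 inf_le_right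
  set W := ⁅N, N⁆ ⊓ normalizer (Ks : Set G) with hW
  have hDN : ⁅N, N⁆ ≤ N := commutator_le_self N
  have hKW : K ≤ normalizer (W : Set G) := by
    intro k hk
    refine inf_normalizer_le_normalizer_inf ⟨?_, le_normalizer ?_⟩
    · exact Solvable.le_normalizer_commutator_left N N (hKN hk)
    · exact centralizer_le_normalizer _ (hKC hk)
  have hco : (Nat.card K).Coprime (Nat.card W) := by
    refine (decomposition_coprime hG hN hKU).coprime_dvd_right ?_
    rw [← hd]
    exact card_dvd_of_le inf_le_left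
  have hKs' : IsMulCommutative Ks := by haveI := hKsc; infer_instance
  have hW' : W ≤ centralizer (Ks : Set G) := by
    haveI := isSolvable_of_ne_top hG hN.1
    rw [← Solvable.commutator_sup_centralizer hKW hco (Or.inr
      (Group.isSolvable_of_isSolvable_injective (Subgroup.inclusion_injective (inf_le_left.trans hDN))))]
    refine sup_le ?_ ?_
    · rw [commutator_le]
      intro w hw k hk
      rw [commutatorElement_def]
      refine mul_mem ?_ (inv_mem (hKC hk))
      refine mem_centralizer_iff.2 fun z hz => ?_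
      have hz' : w⁻¹ * z * w ∈ Ks := by
        simpa using (mem_normalizer_iff.1 (inv_mem (mem_inf.1 hw).2) z).1 hz
      have := mem_centralizer_iff.1 (hKC hk) _ hz'
      calc z * (w * k * w⁻¹) = w * ((w⁻¹ * z * w) * k) * w⁻¹ := by group
        _ = w * (k * (w⁻¹ * z * w)) * w⁻¹ := by rw [this]
        _ = w * k * w⁻¹ * z := by group
    · rintro c ⟨hcW, hcK⟩
      obtain ⟨⟨k, hk⟩, hk1⟩ := ne_bot_iff_exists_ne_one.1 hK1
      have hc : c ∈ Ks := by
        rw [hKs, ← derived_inf_centralizer hG hN hKU hK1 hk fun h => hk1 (Subtype.ext h)]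
        exact ⟨hcW.1, centralizer_le (Set.singleton_subset_iff.2 hk) hcK⟩
      exact le_centralizer_iff_isMulCommutative.2 hKs' hc
  rintro n ⟨hnN, hnK⟩
  obtain ⟨u, hu, b, hb, rfl⟩ := hKU.compl.2.2.2 n hnN
  rw [sup_comm] at hb
  obtain ⟨s, hs, k, hk, rfl⟩ := (Solvable.mem_sup_of_le_normalizer
    (hKN.trans (le_normalizer_piCoreOf (Cfsg.sigma N) N) :
      K ≤ normalizer ((Cfsg.sigmaCore N : Subgroup G) : Set G))).1 hb
  have hus : u * s ∈ W := by
    refine mem_inf.2 ⟨hd ▸ mul_mem (mem_sup_left hu) (mem_sup_right hs), ?_⟩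
    have := (normalizer (Ks : Set G)).mul_mem hnK (inv_mem (centralizer_le_normalizer _ (hKC hk)))
    rwa [show u * (s * k) * k⁻¹ = u * s by group] at this
  rw [← mul_assoc]
  exact mul_mem (hW' hus) (hKC hk)

/-- For `U ≠ 1`: `M_σ` is nilpotent, `C_{M_σ}(U) = 1`, and `|M_σ| = |K^*| ^ |K|`. -/
theorem typeP2_facts {M K U : Subgroup G} (hM : IsCoatom M)
    (hKU : Cfsg.IsSigmaDecomposition M K U) (hK1 : K ≠ ⊥) (hU1 : U ≠ ⊥) :
    Group.IsNilpotent (Cfsg.sigmaCore M) ∧
      Cfsg.sigmaCore M ⊓ centralizer (U : Set G) = ⊥ ∧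
      Nat.card (Cfsg.sigmaCore M) =
        Nat.card ↥(Cfsg.sigmaCore M ⊓ centralizer (K : Set G)) ^ Nat.card K := by
  obtain ⟨hKM, hUM⟩ := decomposition_le hKU
  have hSn : M ≤ normalizer ((Cfsg.sigmaCore M : Subgroup G) : Set G) :=
    le_normalizer_piCoreOf (Cfsg.sigma M) M
  have hnil : Group.IsNilpotent (Cfsg.sigmaCore M) := by
    have h : Cfsg.fittingHallOf M = Cfsg.sigmaCore M := by
      by_contra h
      exact hU1 (Cfsg.Agent.S1437.result hG M hM K U hKU h).1
    exact h ▸ fittingHallOf_isNilpotent M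
  have hCU : Cfsg.sigmaCore M ⊓ centralizer (U : Set G) = ⊥ := by
    by_contra h
    obtain ⟨-, huniq⟩ := Cfsg.Agent.S1361.result hG M hM K U hKU U le_rfl hU1 h
    obtain ⟨L, hL, hNL⟩ := exists_isCoatom_ge (normalizer_ne_top hG hU1
      fun e => hM.1 (top_le_iff.1 (e ▸ hUM)))
    exact (Cfsg.Agent.S1363.result hG M hM K U hKU hK1).2
      (huniq L hL ((centralizer_le_normalizer _).trans hNL) ▸ hNL)
  have hUK : (Nat.card U).Coprime (Nat.card K) := Nat.coprime_of_dvd fun q hq h1 h2 =>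
    (decomposition_U_primes hG hM hKU hq h1).2 (hKU.hall.2.1 q hq h2)
  refine ⟨hnil, hCU, (Cfsg.Agent.S1446.result U K (Cfsg.sigmaCore M) hU1 hK1
    (disjoint_iff.1 (disjoint_of_coprime_natCard hUK)) hKU.normal
    (fun k hk hk1 => decomposition_inf_centralizer hG hM hKU hk hk1)
    (isSolvable_of_ne_top hG fun h => hM.1 (top_le_iff.1 (h ▸ sup_le hUM hKM)))
    (odd_card_subgroup hG _) (sigmaCore_ne_bot hG hM) hnil (hUM.trans hSn) (hKM.trans hSn)
    (Nat.coprime_of_dvd fun q hq h1 h2 => complement_prime_not_sigma hG hM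
      (decomposition_isComplIn hKU) hq h1 (sigma_of_dvd_sigmaCore hq h2)) hCU
    (fun k hk hk1 => kappa_prime_action hG hM hKU.cyclic hKU.hall hk hk1)).2.1⟩


/-- The supported subgroup has no `τ₂`-primes. -/
theorem tau2_eq_empty {M L Ks U' E : Subgroup G} (hM : IsCoatom M) (hκM : Cfsg.kappa M = ∅)
    (hL : IsCoatom L) (hLd : Cfsg.IsSigmaDecomposition L Ks U') (hKs1 : Ks ≠ ⊥)
    (hKp : (Nat.card ↥(Cfsg.sigmaCore L ⊓ centralizer (Ks : Set G))).Prime)
    (hE : Cfsg.IsComplIn E (Cfsg.sigmaCore M) M) (hEML : E = M ⊓ L)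
    (hKE : Cfsg.sigmaCore L ⊓ centralizer (Ks : Set G) ≤ Cfsg.fittingOf E)
    {x : G} (hx : x ∈ Cfsg.sigmaCore M) (hxE : ∀ e ∈ E, e * x = x * e → e = 1) (s : ℕ) :
    s ∉ Cfsg.tau2 M := by
  intro hs
  haveI := Fact.mk hs.1
  set K := Cfsg.sigmaCore L ⊓ centralizer (Ks : Set G) with hKdef
  set Lσ := Cfsg.sigmaCore L with hLσ
  set q := Nat.card K with hq
  haveI := Fact.mk hKp
  have hKsκ : (Cfsg.kappa L).Nonempty := by
    obtain ⟨p, hp, hpd⟩ := Nat.exists_prime_and_dvd (n := Nat.card Ks)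
      fun h => hKs1 (card_eq_one.1 h)
    exact ⟨p, hLd.hall.2.1 p hp hpd⟩
  have hLM : L ≠ M := fun h => by rw [h, hκM] at hKsκ; exact Set.not_nonempty_empty hKsκ
  have hEL : E ≤ L := hEML.le.trans inf_le_right
  have hEM : E ≤ M := hE.1
  have hLn : L ≤ normalizer ((Lσ : Subgroup G) : Set G) := le_normalizer_piCoreOf (Cfsg.sigma L) L
  have hLσL : Lσ ≤ L := piCoreOf_le _ _
  obtain ⟨A, hAE, hA, hA2⟩ := exists_elementary_in_complement hG hM hE hs
  have hA' := hA.1
  have hAp : IsPGroup s A := isPGroup_of_exp hA.2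
  have hCA : centralizer (A : Set G) ≤ M := centralizer_elementary_le hG hM (hAE.trans hEM) hA hA2
  obtain ⟨⟨hEA, -⟩, -, huA⟩ := Cfsg.Agent.S1418.result hG M hM E hE s hs A ⟨hAE, hA, hA2⟩
  -- the elements of order `s` centralizing `A` lie in `A`
  have hΩ : ∀ d : G, d ^ s = 1 → d ∈ centralizer (A : Set G) → d ∈ A := by
    intro d hd hdC
    by_contra hdA
    set B := closure (insert d (A : Set G)) with hB
    have hcomm : ∀ a ∈ insert d (A : Set G), ∀ b ∈ insert d (A : Set G), a * b = b * a := by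
      rintro a (rfl | ha) b (rfl | hb)
      · rfl
      · exact (mem_centralizer_iff.1 hdC b hb).symm
      · exact mem_centralizer_iff.1 hdC a ha
      · exact congrArg Subtype.val (hA'.1.comm (⟨a, ha⟩ : A) ⟨b, hb⟩)
    have hBab : IsMulCommutative B := isMulCommutative_closure hcomm
    have hBe : Cfsg.IsElementaryAbelian s B := by
      refine ⟨hBab, fun b hb => ?_⟩
      induction hb using closure_induction with
      | mem a ha => rcases ha with rfl | ha; exacts [hd, hA.2 a ha]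
      | one => exact one_pow _
      | mul a b ha hb iha ihb =>
        rw [(show Commute a b from congrArg Subtype.val (hBab.1.comm (⟨a, ha⟩ : B) ⟨b, hb⟩)).mul_pow,
          iha, ihb, one_mul]
      | inv a _ iha => rw [inv_pow, iha, inv_one]
    have hBM : B ≤ M := (closure_le M).2 (Set.insert_subset (hCA hdC) fun a ha => hEM (hAE ha))
    have hlt : A < B := lt_of_le_of_ne (fun a ha => subset_closure (Set.mem_insert_of_mem _ ha))
      fun h => hdA (h ▸ subset_closure (Set.mem_insert _ _))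
    refine not_pRankLE_of_elementary hBM hBe ?_ hs.2.2.1
    rw [← hA2]
    exact lt_of_not_ge fun h => hlt.ne (eq_of_le_of_card_ge hlt.le h)
  -- the Sylow subgroups of `G` are abelian
  have hSab : ∀ S : Sylow s G, IsMulCommutative (S : Subgroup G) := by
    intro S
    by_contra hS
    obtain ⟨-, ⟨hA₁c, -⟩, -⟩ := Cfsg.Agent.S1419.result hG M hM E hE s hs
      (fun T hT => hS (@isMulCommutative_sylow_congr G _ _ s _ T S hT)) A ⟨hAE, hA, hA2⟩
    obtain ⟨⟨z, hz⟩, hz1⟩ := ne_bot_iff_exists_ne_one.1 (ne_bot_of_prime_card hA₁c)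
    exact hz1 (Subtype.ext (hxE z (hAE hz.1) (mem_centralizer_iff.1 hz.2 x hx).symm))
  have hrank : ∀ B : Subgroup G, Cfsg.IsElementaryAbelian s B → ¬ s ^ 2 < Nat.card B := by
    intro B hB hlt
    obtain ⟨S, hBS⟩ := (isPGroup_of_exp hB.2).exists_le_sylow
    obtain ⟨T, hAT⟩ := hAp.exists_le_sylow
    obtain ⟨g, hg⟩ := MulAction.exists_smul_eq G S T
    haveI := hSab T
    have hle : B.map (MulAut.conj g).toMonoidHom ≤ A := by
      rintro _ ⟨b, hb, rfl⟩
      have hbT : g * b * g⁻¹ ∈ (T : Subgroup G) := by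
        rw [← hg, Sylow.coe_subgroup_smul, mem_pointwise_smul_iff_inv_smul_mem]
        simpa [MulAut.smul_def, mul_assoc] using hBS hb
      refine hΩ _ ?_ (mem_centralizer_iff.2 fun a ha => ?_)
      · show (g * b * g⁻¹) ^ s = 1
        rw [conj_pow, hB.2 b hb, mul_one, mul_inv_cancel]
      · exact setLike_mul_comm (hAT ha) hbT
    have := card_le_of_le hle
    rw [card_map_of_injective (MulAut.conj g).injective, hA2] at this
    omega
  -- an element of `A` with a fixed point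
  obtain ⟨a₀, ha₀, ha₀1, ha₀C⟩ : ∃ a ∈ A, a ≠ 1 ∧
      Cfsg.sigmaCore M ⊓ centralizer ({a} : Set G) ≠ ⊥ := by
    by_contra hno
    push Not at hno
    haveI := (tau2_facts hG hM hs (hAE.trans hEM) hA hA2).1
    haveI : Nontrivial ↥(Cfsg.sigmaCore M) :=
      (nontrivial_iff_ne_bot _).2 (sigmaCore_ne_bot hG hM)
    set Z := (Subgroup.center ↥(Cfsg.sigmaCore M)).map (Cfsg.sigmaCore M).subtype with hZ
    haveI : IsMulCommutative Z := map_isMulCommutative _ _
    have hZn : M ≤ normalizer (Z : Set G) :=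
      (le_normalizer_piCoreOf (Cfsg.sigma M) M :
          M ≤ normalizer ((Cfsg.sigmaCore M : Subgroup G) : Set G)).trans
        (normalizer_le_normalizer_map_of_characteristic (Cfsg.sigmaCore M) (Subgroup.center ↥(Cfsg.sigmaCore M)) (hK := Subgroup.centerCharacteristic))
    have hne : Z ≠ ⊥ := by
      rw [hZ, Ne, Subgroup.map_eq_bot_iff_of_injective _ (subtype_injective _)]
      exact Group.IsNilpotent.center_ne_bot _
    exact hne (Frobenius.eq_bot_of_elementary_fpf ((hAE.trans hEM).trans hZn)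
      (fun a ha ha1 => le_bot_iff.1 (hno a ha ha1 ▸ inf_le_inf_right _ (map_subtype_le _)))
      hs.1 hA2 hA.2)
  have ha₀o : orderOf a₀ = s := orderOf_eq_prime (hA.2 a₀ ha₀) ha₀1
  obtain ⟨hCa, huCa⟩ : centralizer ({a₀} : Set G) ≤ M ∧
      ∀ H : Subgroup G, IsCoatom H → centralizer ({a₀} : Set G) ≤ H → H = M := by
    have h := huA (zpowers a₀) (zpowers_le.2 ha₀) (by rw [Nat.card_zpowers, ha₀o])
      (by rwa [zpowers_eq_closure, centralizer_closure])
    rwa [zpowers_eq_closure, centralizer_closure] at h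
  -- `s` lies in `σ(L)`
  have hsL : s ∈ Cfsg.sigma L := by
    by_contra hsσ
    have hsq : s ≠ q := by
      rintro rfl
      exact hsσ (sigma_of_dvd_sigmaCore hKp (card_dvd_of_le inf_le_left))
    obtain ⟨⟨k, hk⟩, hk1⟩ := ne_bot_iff_exists_ne_one.1 (ne_bot_of_prime_card (X := K) hq.symm)
    have hk1' : k ≠ 1 := fun h => hk1 (Subtype.ext h)
    have hAF : A ≤ Cfsg.fittingOf E := le_fittingOf hAE hEA hAp.isNilpotent
    have hak : a₀ * k = k * a₀ := CN.commute_of_nilpotent hsq (fittingOf_isNilpotent E) (hAF ha₀)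
      (hKE hk) (CN.pElem_of_orderOf_eq ha₀o) (CN.pElem_of_mem (isPGroup_of_prime_card hq.symm) hk)
    rcases Cfsg.Agent.S1432.result hG L hL k hk.1 hk1' a₀
      ⟨hEL (hAE ha₀), mem_centralizer_singleton_iff.2 hak⟩ ha₀1 (fun r hr hd => by
        rw [ha₀o, Nat.prime_dvd_prime_iff_eq hr hs.1] at hd
        exact hd ▸ hsσ) with ⟨hκ, -⟩ | ⟨-, -, hC, -⟩
    · refine not_pRankLE_of_elementary (hAE.trans hEL) hA ?_ (kappa_rank_one (hκ s hs.1 (by rw [ha₀o])))
      rw [hA2]
      exact Nat.pow_lt_pow_right hs.1.one_lt one_lt_two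
    · exact hLM (huCa L hL hC)
  have hALσ : A ≤ Lσ := le_sigmaCore_of_piSubgroup hG hL
    (fun r hr hd => (Nat.prime_dvd_prime_iff_eq hr hs.1).1 (hr.dvd_of_dvd_pow (hA2 ▸ hd)) ▸ hsL)
    (hAE.trans hEL)
  obtain ⟨hdL, hK2⟩ := Cfsg.Agent.S1365.result hG L hL Ks U' hLd hKs1
  -- a nilpotent subgroup containing `A` centralizes it
  have hnilC : ∀ (D B : Subgroup G), Group.IsNilpotent D → B ≤ D → IsPGroup s B →
      D ≤ centralizer (B : Set G) := by
    intro D B hD hBD hB d hd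
    refine CN.mem_of_pElem_pow fun r m hr hrm => mem_centralizer_iff.2 fun b hb => ?_
    haveI := Fact.mk hr
    by_cases hrs : r = s
    · subst hrs
      have hP : IsPGroup r ↥(Cfsg.piCoreOf {r} D) := piCoreOf_singleton_isPGroup r D
      obtain ⟨S, hPS⟩ := hP.exists_le_sylow
      haveI := hSab S
      exact setLike_mul_comm
        (hPS (mem_piCoreOf_of_nilpotent hD (hBD hb) fun t ht h =>
          (CN.pElem_of_mem hB hb).orderOf_dvd ht h))
        (hPS (mem_piCoreOf_of_nilpotent hD (pow_mem hd m) fun t ht h => hrm.orderOf_dvd ht h))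
    · exact CN.commute_of_nilpotent (Ne.symm hrs) hD (hBD hb) (pow_mem hd m)
        (CN.pElem_of_mem hB hb) hrm
  by_cases hU' : U' = ⊥
  · -- `L' = L_σ`
    rw [hU', bot_sup_eq] at hdL
    rw [hdL] at hK2
    have hnotE : ¬ Lσ ≤ E := by
      intro hle
      obtain ⟨h1, -⟩ := Cfsg.Agent.S1420.result hG M hM E hE
      obtain ⟨-, hDab, -⟩ := Cfsg.Agent.S1420.result hG M hM E hE
      by_cases hn : Group.IsNilpotent Lσ
      · have hab := h1 Lσ (hle.trans hEM) hn fun r hr hd =>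
          complement_prime_not_sigma hG hM hE hr (hd.trans (card_dvd_of_le hle))
        have : ⁅Lσ, Lσ⁆ = ⊥ := by
          rw [commutator_eq_bot_iff_le_centralizer]
          exact le_centralizer_iff_isMulCommutative.2 hab
        exact ne_bot_of_prime_card (X := K) hq.symm (le_bot_iff.1 (this ▸ hK2))
      · obtain ⟨-, -, -, -, -, hβ, -⟩ := Cfsg.Agent.S1437.result hG L hL Ks U' hLd
          fun h => hn (hLσ ▸ h ▸ fittingHallOf_isNilpotent L)
        obtain ⟨B, hBL, hB, hBc⟩ := exists_elementary_of_not_pRankLE hβ.1.2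
        have hBLσ : B ≤ Lσ := le_sigmaCore_of_piSubgroup hG hL (fun r hr hd => by
          obtain ⟨n, hn⟩ := (isPGroup_of_exp hB.2).exists_card_eq
          rw [hn] at hd
          rw [(Nat.prime_dvd_prime_iff_eq hr hKp).1 (hr.dvd_of_dvd_pow hd)]
          exact alpha_subset_sigma hG hL hβ.1) hBL
        refine not_pRankLE_of_elementary (hBLσ.trans (hle.trans hEM)) hB hBc
          (pRankLE_two_of_not_sigma hG hM hKp ?_)
        refine complement_prime_not_sigma hG hM hE hKp ?_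
        exact (card_dvd_of_le (inf_le_left.trans hle))
    by_cases hn : Group.IsNilpotent Lσ
    · refine hnotE ?_
      rw [hEML]
      exact le_inf ((hnilC Lσ A hn hALσ hAp).trans hCA) hLσL
    obtain ⟨-, -, -, -, -, hβ, Q, hQF, hQn, hQq, hQi, hQD⟩ :=
      Cfsg.Agent.S1437.result hG L hL Ks U' hLd fun h => hn (hLσ ▸ h ▸ fittingHallOf_isNilpotent L)
    have hsq : s ≠ q := by
      rintro rfl
      obtain ⟨B, -, hB, hBc⟩ := exists_elementary_of_not_pRankLE hβ.1.2
      exact hrank B hB hBc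
    have hQσ : Q ≤ Lσ := hQF.trans (fittingHallOf_le_sigmaCore hG hL)
    have hσn : Lσ ≤ normalizer (Q : Set G) := hLσL.trans hQn
    have hKsn : Ks ≤ normalizer ((Lσ : Subgroup G) : Set G) := hLd.hall.1.trans hLn
    have hsolσ : Group.IsSolvable Lσ := isSolvable_of_ne_top hG fun h => hL.1 (top_le_iff.1 (h ▸ hLσL))
    have hcoKs : (Nat.card Ks).Coprime (Nat.card Lσ) := Nat.coprime_of_dvd fun r hr h1 h2 =>
      kappa_not_sigma (hLd.hall.2.1 r hr h1) (sigma_of_dvd_sigmaCore hr h2)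
    obtain ⟨D, hDh, hKsD⟩ := Solvable.exists_invariant_isPiHallOf hKsn hcoKs hsolσ {r | r ≠ q}
    have hDL : D ≤ L := hDh.1.trans hLσL
    have hQD' : Q ⊓ D = ⊥ := inf_eq_bot_of_coprime (Nat.coprime_of_dvd fun r hr h1 h2 => by
      obtain ⟨n, hn'⟩ := hQq.exists_card_eq
      rw [hn'] at h1
      exact hDh.2.1 r hr h2 ((Nat.prime_dvd_prime_iff_eq hr hKp).1 (hr.dvd_of_dvd_pow h1)))
    have hQDσ : Lσ ≤ Q ⊔ D := by
      refine relIndex_eq_one.1 (Nat.eq_one_iff_not_exists_prime_dvd.2 fun r hr hd => ?_)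
      by_cases hrq : r = q
      · subst hrq
        exact hQi (hd.trans (Dvd.intro_left _
          (relIndex_mul_relIndex Q (Q ⊔ D) Lσ le_sup_left (sup_le hQσ hDh.1))))
      · exact hDh.2.2 r hr hrq (hd.trans (Dvd.intro_left _
          (relIndex_mul_relIndex D (Q ⊔ D) Lσ le_sup_right (sup_le hQσ hDh.1))))
    obtain ⟨hDnil, hQ0n, hQ0lt, -, hQcomm, hQmin⟩ := hQD D ⟨hQσ, hDh.1, hQD', fun m hm => by
      obtain ⟨y, hy, d, hd, e⟩ := (Solvable.mem_sup_of_le_normalizer (hDh.1.trans hσn)).1 (hQDσ hm)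
      exact ⟨y, hy, d, hd, e.symm⟩⟩
    set Q0 := Q ⊓ centralizer (D : Set G) with hQ0
    obtain ⟨⟨n, hnσ⟩, hn'⟩ := Solvable.exists_conj_le_isPiHall (G := Lσ)
      (Solvable.isPiHall_of_isPiHallOf hDh) (K := A.subgroupOf Lσ) (fun r hr hd => by
        rw [Nat.card_congr (subgroupOfEquivOfLe hALσ).toEquiv, hA2] at hd
        intro h
        exact hsq ((Nat.prime_dvd_prime_iff_eq hr hs.1).1 (hr.dvd_of_dvd_pow hd) ▸ h))
    set A₁ := A.map (MulAut.conj n).toMonoidHom with hA₁
    have hA₁D : A₁ ≤ D := by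
      rintro _ ⟨a, ha, rfl⟩
      exact mem_subgroupOf.1 (hn' (smul_mem_pointwise_smul (⟨a, hALσ ha⟩ : Lσ) _ _ ha))
    have hDC : D ≤ centralizer (A₁ : Set G) := hnilC D A₁ hDnil hA₁D (hAp.map _)
    have hKsA : Ks ≤ normalizer (A₁ : Set G) := fun z hz => by
      refine mem_normalizer_fintype fun b hb => ?_
      have h1 : z * b * z⁻¹ ∈ D := (mem_normalizer_iff.1 (hKsD hz) b).1 (hA₁D hb)
      obtain ⟨a, ha, rfl⟩ := hb
      refine ⟨n⁻¹ * (z * (n * a * n⁻¹) * z⁻¹) * n, hΩ _ ?_ (mem_centralizer_iff.2 fun c hc => ?_),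
        by simp only [MulEquiv.coe_toMonoidHom, MulAut.conj_apply]; group⟩
      · rw [show n⁻¹ * (z * (n * a * n⁻¹) * z⁻¹) * n = (n⁻¹ * z * n) * a * (n⁻¹ * z * n)⁻¹ by group,
          conj_pow, hA.2 a ha, mul_one, mul_inv_cancel]
      · have h2 : (n * c * n⁻¹) * (z * (n * a * n⁻¹) * z⁻¹) =
            (z * (n * a * n⁻¹) * z⁻¹) * (n * c * n⁻¹) :=
          mem_centralizer_iff.1 (hDC h1) _ ⟨c, hc, rfl⟩
        calc c * (n⁻¹ * (z * (n * a * n⁻¹) * z⁻¹) * n)
            = n⁻¹ * ((n * c * n⁻¹) * (z * (n * a * n⁻¹) * z⁻¹)) * n := by group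
          _ = n⁻¹ * ((z * (n * a * n⁻¹) * z⁻¹) * (n * c * n⁻¹)) * n := by rw [h2]
          _ = n⁻¹ * (z * (n * a * n⁻¹) * z⁻¹) * n * c := by group
    set C₁ := Q ⊓ centralizer (A₁ : Set G) with hC₁
    set N₁ := Q0 ⊔ C₁ with hN₁
    have hN₁Q : N₁ ≤ Q := sup_le inf_le_left inf_le_left
    have hnC : ∀ z ∈ L, z ∈ normalizer (A₁ : Set G) → z ∈ normalizer (N₁ : Set G) := fun z hz hzA =>
      normalizer_inf_normalizer_le_normalizer_sup _ _ ⟨hQ0n hz,
        inf_normalizer_le_normalizer_inf ⟨hQn hz, normalizer_le_normalizer_centralizer _ hzA⟩⟩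
    have hLN₁ : L ≤ normalizer (N₁ : Set G) := by
      intro l hl
      obtain ⟨u, hu, b, hb, rfl⟩ := hLd.compl.2.2.2 l hl
      rw [hU', mem_bot] at hu
      subst hu
      rw [one_mul]
      refine (sup_le (fun z hz => hnC z (hLd.hall.1 hz) (hKsA hz)) (hQDσ.trans (sup_le ?_ ?_)) :
        Ks ⊔ Lσ ≤ normalizer (N₁ : Set G)) hb
      · intro y hy
        refine mem_normalizer_fintype fun w hw => ?_
        have h := (hQcomm y hy w (hN₁Q hw)).2
        rw [show y * w * y⁻¹ = (y * w * y⁻¹ * w⁻¹) * w by group]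
        exact mul_mem (mem_sup_left h) hw
      · exact fun z hz => hnC z (hDL hz) (centralizer_le_normalizer _ (hDC hz))
    rcases eq_or_lt_of_le (le_sup_left : Q0 ≤ N₁) with h0 | h0
    · -- `K ≤ Q₀`, which is impossible
      have hKQ : ∀ k ∈ K, k ∈ Q := fun k hk => mem_of_orderOf_coprime_relIndex hσn hk.1
        ((hKp.coprime_iff_not_dvd.2 hQi).coprime_dvd_left (orderOf_dvd_card_of_mem hk))
      have hKQ0 : K ≤ Q0 := by
        intro k hk
        have hkA : k ∈ centralizer (A : Set G) := mem_centralizer_iff.2 fun a ha => by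
          by_cases ha1 : a = 1
          · rw [ha1, one_mul, mul_one]
          exact CN.commute_of_nilpotent hsq (fittingOf_isNilpotent E)
            (le_fittingOf hAE hEA hAp.isNilpotent ha) (hKE hk)
            (CN.pElem_of_mem hAp ha) (CN.pElem_of_mem (isPGroup_of_prime_card hq.symm) hk)
        have hkn : n * k * n⁻¹ ∈ C₁ := by
          refine ⟨(mem_normalizer_iff.1 (hσn hnσ) k).1 (hKQ k hk), mem_centralizer_iff.2 ?_⟩
          rintro _ ⟨a, ha, rfl⟩
          show n * a * n⁻¹ * (n * k * n⁻¹) = n * k * n⁻¹ * (n * a * n⁻¹)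
          calc n * a * n⁻¹ * (n * k * n⁻¹) = n * (a * k) * n⁻¹ := by group
            _ = n * (k * a) * n⁻¹ := by rw [mem_centralizer_iff.1 hkA a ha]
            _ = _ := by group
        have h1 : n * k * n⁻¹ ∈ Q0 := h0 ▸ mem_sup_right hkn
        exact (mem_normalizer_iff.1 (hQ0n (hLσL hnσ)) k).2 h1
      obtain ⟨a, haKs, hap⟩ : ∃ a ∈ Ks, (orderOf a).Prime := by
        obtain ⟨p, hp, hpd⟩ := Nat.exists_prime_and_dvd (n := Nat.card Ks)
          fun h => hKs1 (card_eq_one.1 h)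
        haveI := Fact.mk hp
        obtain ⟨a, ha⟩ := exists_prime_orderOf_dvd_card' p hpd
        exact ⟨a, a.2, by rw [orderOf_coe, ha]; exact hp⟩
      have ha1 : a ≠ 1 := fun h => by rw [h, orderOf_one] at hap; exact Nat.not_prime_one hap
      have hfix := kappa_prime_action hG hL hLd.cyclic hLd.hall haKs ha1
      have haL : a ∈ L := hLd.hall.1 haKs
      have hQ0L : Q0 ≤ L := inf_le_left.trans (hQσ.trans hLσL)
      haveI : (Q0.subgroupOf L).Normal := normal_subgroupOf_of_le_normalizer hQ0n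
      set π := QuotientGroup.mk' (Q0.subgroupOf L) with hπ
      set V := (Lσ.subgroupOf L).map π with hV
      haveI : (Lσ.subgroupOf L).Normal := normal_subgroupOf_of_le_normalizer hLn
      have hVn : V.Normal := (inferInstance : (Lσ.subgroupOf L).Normal).map π
        (QuotientGroup.mk'_surjective _)
      have hVnil : Group.IsNilpotent V := by
        refine isNilpotent_of_prime_fpf hap (a := π ⟨a, haL⟩) ?_ ?_ ?_
        · rw [← map_pow, show (⟨a, haL⟩ : L) ^ orderOf a = 1 from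
            Subtype.ext (pow_orderOf_eq_one a), map_one]
        · haveI := hVn
          rw [normalizer_eq_top]; exact mem_top _
        · refine (eq_bot_iff_forall _).2 ?_
          rintro _ ⟨⟨⟨v, hvL⟩, hv, rfl⟩, hvC⟩
          refine (QuotientGroup.eq_one_iff _).2 (mem_subgroupOf.2 ?_)
          have hva : a * v * a⁻¹ * v⁻¹ ∈ Q0 := by
            have h := mem_centralizer_singleton_iff.1 hvC
            rw [← map_mul, ← map_mul] at h
            have h2 := QuotientGroup.eq.1 h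
            rw [mem_subgroupOf] at h2
            have h3 := (mem_normalizer_iff.1 (hQ0n (mul_mem hvL haL)) _).1 h2
            simp only [Subgroup.coe_mul, Subgroup.coe_inv] at h3
            rwa [show v * a * ((v * a)⁻¹ * (a * v)) * (v * a)⁻¹ = a * v * a⁻¹ * v⁻¹ by group] at h3
          obtain ⟨c, ⟨hc, hca⟩, hvc⟩ := Solvable.exists_fixed_of_fixed_mod (A := zpowers a)
            (K := Lσ) (N := Q0) ((zpowers_le.2 haKs).trans hKsn)
            (hcoKs.coprime_dvd_left (card_dvd_of_le (zpowers_le.2 haKs))) (Or.inr hsolσ)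
            (inf_le_left.trans hQσ) (hLσL.trans hQ0n) ((zpowers_le.2 haL).trans hQ0n)
            (mem_subgroupOf.1 hv) (fun b hb => by
              obtain ⟨i, hi⟩ := mem_zpowers_iff.1 hb
              have hb' : π ⟨b, zpowers_le.2 haL hb⟩ = π ⟨a, haL⟩ ^ i := by
                rw [← map_zpow]; exact congrArg π (Subtype.ext hi.symm)
              have hcm : Commute (π ⟨b, zpowers_le.2 haL hb⟩) (π ⟨v, hvL⟩) := by
                rw [hb']
                exact ((show Commute (π ⟨a, haL⟩) (π ⟨v, hvL⟩) from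
                  (mem_centralizer_singleton_iff.1 hvC).symm).zpow_left i)
              have h4 := commutatorElement_eq_one_iff_commute.2 hcm
              rw [← map_commutatorElement] at h4
              exact mem_subgroupOf.1 ((QuotientGroup.eq_one_iff _).1 h4))
          have hcK : c ∈ Q0 := by
            refine hKQ0 ?_
            rw [hKdef, ← hfix]
            exact ⟨hc, centralizer_le (Set.singleton_subset_iff.2 (mem_zpowers a)) hca⟩
          have h := mul_mem hcK (inv_mem hvc)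
          rwa [show c * (v⁻¹ * c)⁻¹ = v by group] at h
      refine hQ0lt.not_ge fun y hy => ?_
      obtain ⟨c, hc, hyc⟩ := Solvable.exists_fixed_of_fixed_mod (A := D) (K := Q) (N := Q0)
        (hDh.1.trans hσn) (Nat.coprime_of_dvd fun r hr h1 h2 => by
          obtain ⟨i, hi⟩ := hQq.exists_card_eq
          rw [hi] at h2
          exact hDh.2.1 r hr h1 ((Nat.prime_dvd_prime_iff_eq hr hKp).1 (hr.dvd_of_dvd_pow h2)))
        (Or.inr (Group.isSolvable_of_isSolvable_injective (Subgroup.inclusion_injective hQσ)))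
        inf_le_left ((hQσ.trans hLσL).trans hQ0n) (hDL.trans hQ0n) hy (fun d hd => by
          have hdm : π ⟨d, hDL hd⟩ ∈ V := mem_map_of_mem π (mem_subgroupOf.2 (hDh.1 hd))
          have hym : π ⟨y, hLσL (hQσ hy)⟩ ∈ V := mem_map_of_mem π (mem_subgroupOf.2 (hQσ hy))
          have hcm : Commute (π ⟨d, hDL hd⟩) (π ⟨y, hLσL (hQσ hy)⟩) := by
            have h1 := mem_piCoreOf_of_nilpotent hVnil hdm (π := {r | r ≠ q}) fun r hr h =>
              hDh.2.1 r hr ((h.trans (orderOf_map_dvd π _)).trans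
                (by rw [Subgroup.orderOf_mk]; exact orderOf_dvd_card_of_mem hd))
            have h2 := mem_piCoreOf_of_nilpotent hVnil hym (π := {q}) fun r hr h =>
              (CN.pElem_of_mem hQq hy).orderOf_dvd hr
                ((h.trans (orderOf_map_dvd π _)).trans (by rw [Subgroup.orderOf_mk]))
            exact (mem_centralizer_iff.1 (piCoreOf_le_centralizer_piCoreOf V
              (fun r (h : r ≠ q) (h' : r = q) _ => h h') h1) _ h2).symm
          have h4 := commutatorElement_eq_one_iff_commute.2 hcm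
          rw [← map_commutatorElement] at h4
          exact mem_subgroupOf.1 ((QuotientGroup.eq_one_iff _).1 h4))
      have : y = c * (y⁻¹ * c)⁻¹ := by group
      rw [this]
      exact mul_mem hc (inv_mem hyc)
    · have hN₁eq : N₁ = Q := hN₁Q.eq_or_lt.resolve_right fun h => hQmin N₁ h0 h hLN₁
      have hQC : Q ≤ centralizer (A₁ : Set G) := hN₁eq ▸
        sup_le (inf_le_right.trans (centralizer_le hA₁D)) inf_le_right
      have hQM : Q ≤ M := fun y hy => by
        refine hCA (mem_centralizer_iff.2 fun a ha => ?_)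
        have h := mem_centralizer_iff.1 (hQC ((mem_normalizer_iff.1 (hσn hnσ) y).1 hy)) _
          (mem_map_of_mem (MulAut.conj n).toMonoidHom ha)
        simp only [MulEquiv.coe_toMonoidHom, MulAut.conj_apply] at h
        calc a * y = n⁻¹ * ((n * a * n⁻¹) * (n * y * n⁻¹)) * n := by group
          _ = n⁻¹ * ((n * y * n⁻¹) * (n * a * n⁻¹)) * n := by rw [h]
          _ = y * a := by group
      obtain ⟨B, hBL, hB, hBc⟩ := exists_elementary_of_not_pRankLE hβ.1.2
      have hBp : IsPGroup q B := isPGroup_of_exp hB.2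
      have hBσ : B ≤ Lσ := le_sigmaCore_of_piSubgroup hG hL (fun r hr hd => by
        obtain ⟨i, hi⟩ := hBp.exists_card_eq
        rw [hi] at hd
        rw [(Nat.prime_dvd_prime_iff_eq hr hKp).1 (hr.dvd_of_dvd_pow hd)]
        exact alpha_subset_sigma hG hL hβ.1) hBL
      have hBQ : B ≤ Q := fun b hb => mem_of_orderOf_coprime_relIndex hσn (hBσ hb) (by
        obtain ⟨i, hi⟩ := hBp.exists_card_eq
        exact ((hKp.coprime_iff_not_dvd.2 hQi).pow_left i).coprime_dvd_left
          (hi ▸ orderOf_dvd_card_of_mem hb))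
      refine not_pRankLE_of_elementary (hBQ.trans hQM) hB hBc
        (pRankLE_two_of_not_sigma hG hM hKp ?_)
      refine complement_prime_not_sigma hG hM hE hKp ?_
      have hKQ : K ≤ Q := fun k hk => mem_of_orderOf_coprime_relIndex hσn hk.1
        ((hKp.coprime_iff_not_dvd.2 hQi).coprime_dvd_left (orderOf_dvd_card_of_mem hk))
      exact card_dvd_of_le (hEML ▸ le_inf (hKQ.trans hQM) (inf_le_left.trans hLσL))
  · -- `L_σ` is a `q`-group
    obtain ⟨hnil, hCU, hcard⟩ := typeP2_facts hG hL hLd hKs1 hU'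
    obtain ⟨p, hp, hpd⟩ := Nat.exists_prime_and_dvd (n := Nat.card Ks)
      fun h => hKs1 (card_eq_one.1 h)
    have hsq : s = q := (Nat.prime_dvd_prime_iff_eq hs.1 hKp).1 (hs.1.dvd_of_dvd_pow
      (hcard ▸ ((dvd_pow_self s two_ne_zero).trans (hA2 ▸ card_dvd_of_le hALσ))))
    have hσC := hnilC Lσ A hnil hALσ hAp
    obtain ⟨hKsL, hU'L⟩ := decomposition_le hLd
    have hLA : L ≤ normalizer (A : Set G) := fun l hl => by
      refine mem_normalizer_fintype fun a ha => ?_
      refine hΩ _ (by rw [conj_pow, hA.2 a ha, mul_one, mul_inv_cancel]) (hσC ?_)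
      exact (mem_normalizer_iff.1 (hLn hl) a).1 (hALσ ha)
    have hAne : A ≠ ⊥ := fun h => by
      rw [h, Subgroup.card_bot] at hA2
      exact hs.1.ne_one (Nat.eq_one_of_dvd_one (hA2 ▸ dvd_pow_self s two_ne_zero))
    have hUK : (Nat.card U').Coprime (Nat.card Ks) := Nat.coprime_of_dvd fun r hr h1 h2 =>
      (decomposition_U_primes hG hL hLd hr h1).2 (hLd.hall.2.1 r hr h2)
    have h46 := (Cfsg.Agent.S1446.result U' Ks A hU' hKs1
      (disjoint_iff.1 (disjoint_of_coprime_natCard hUK)) hLd.normal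
      (fun k hk hk1 => decomposition_inf_centralizer hG hL hLd hk hk1)
      (isSolvable_of_ne_top hG fun h => hL.1 (top_le_iff.1 (h ▸ sup_le hU'L hKsL)))
      (odd_card_subgroup hG _) hAne hAp.isNilpotent (hU'L.trans hLA) (hKsL.trans hLA)
      ((Nat.coprime_of_dvd fun r hr h1 h2 => complement_prime_not_sigma hG hL
        (decomposition_isComplIn hLd) hr h1 (sigma_of_dvd_sigmaCore hr h2) :
        (Nat.card ↥(U' ⊔ Ks)).Coprime (Nat.card Lσ)).coprime_dvd_right (card_dvd_of_le hALσ))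
      (le_bot_iff.1 (hCU ▸ inf_le_inf_right _ hALσ))
      (fun k hk hk1 => by
        rw [← inf_eq_left.2 hALσ, inf_assoc, inf_assoc,
          kappa_prime_action hG hL hLd.cyclic hLd.hall hk hk1])).2.1
    have hle : A ⊓ centralizer (Ks : Set G) ≤ K := inf_le_inf_right _ hALσ
    rcases (Nat.dvd_prime hKp).1 (card_dvd_of_le hle) with h | h <;> rw [h, hA2] at h46
    · rw [one_pow] at h46
      exact hs.1.ne_one (Nat.eq_one_of_dvd_one (h46 ▸ dvd_pow_self s two_ne_zero))
    · rw [hsq] at h46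
      have h2 := Nat.pow_right_injective hKp.two_le h46
      exact prime_ne_two_of_dvd_card hG hpd ((Nat.prime_dvd_prime_iff_eq hp Nat.prime_two).1 (h2 ▸ hpd))


/-- The complement is cyclic. -/
theorem complement_cyclic {M L Ks U' E : Subgroup G} (hM : IsCoatom M) (hL : IsCoatom L)
    (hLd : Cfsg.IsSigmaDecomposition L Ks U') (hKs1 : Ks ≠ ⊥)
    (hKp : (Nat.card ↥(Cfsg.sigmaCore L ⊓ centralizer (Ks : Set G))).Prime)
    (hE : Cfsg.IsComplIn E (Cfsg.sigmaCore M) M) (hEL : E ≤ L)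
    (hKE : Cfsg.sigmaCore L ⊓ centralizer (Ks : Set G) ≤ Cfsg.fittingOf E)
    (hτ : ∀ s : ℕ, s ∉ Cfsg.tau2 M)
    (hfpf : ∀ e ∈ E, e ≠ 1 → Cfsg.sigmaCore M ⊓ centralizer ({e} : Set G) = ⊥) :
    IsCyclic E := by
  set K := Cfsg.sigmaCore L ⊓ centralizer (Ks : Set G) with hKdef
  set Lσ := Cfsg.sigmaCore L with hLσ
  set q := Nat.card K with hq
  haveI := Fact.mk hKp
  have hEM : E ≤ M := hE.1
  have hKq : IsPGroup q K := isPGroup_of_prime_card hq.symm
  have hKE' : K ≤ E := hKE.trans (fittingOf_le E)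
  have hLn : L ≤ normalizer ((Lσ : Subgroup G) : Set G) := le_normalizer_piCoreOf (Cfsg.sigma L) L
  have hLσL : Lσ ≤ L := piCoreOf_le _ _
  obtain ⟨hKsL, hU'L⟩ := decomposition_le hLd
  -- cyclic Sylow subgroups
  have hrk : ∀ t : ℕ, t.Prime → t ∣ Nat.card E → Cfsg.PRankLE t 1 M := fun t ht hd => by
    by_contra h
    have hσ := complement_prime_not_sigma hG hM hE ht hd
    exact hτ t ⟨ht, hσ, pRankLE_two_of_not_sigma hG hM ht hσ, h⟩
  haveI hZ : IsZGroup E := isZGroup_of_rank_one hG hM hrk hEM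
  have hcyc : ∀ (t : ℕ) [Fact t.Prime] (P : Subgroup G), IsPGroup t P → P ≤ E → IsCyclic P := by
    intro t ht P hP hPE
    haveI : IsZGroup ↥(P.subgroupOf E) := inferInstance
    exact (subgroupOfEquivOfLe hPE).isCyclic.1
      (hP.of_equiv (subgroupOfEquivOfLe hPE).symm).isCyclic_of_isZGroup
  -- a fixed point free action on `Z(M_σ)`
  have hpq : ∀ (t r : ℕ) (b e : G), t.Prime → r.Prime → t ≠ r → b ∈ E → e ∈ E →
      orderOf b = t → orderOf e = r → e ∈ normalizer (zpowers b : Set G) → Commute b e := by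
    intro t r b e ht hr htr hb he hbo heo hn
    haveI := Fact.mk ht
    haveI := Fact.mk hr
    set A := zpowers b ⊔ zpowers e with hA
    have hAE : A ≤ E := sup_le (zpowers_le.2 hb) (zpowers_le.2 he)
    have hnil : Group.IsNilpotent (Cfsg.sigmaCore M) := by
      refine isNilpotent_of_prime_fpf (p := t) ht (by rw [← hbo, pow_orderOf_eq_one])
        (le_normalizer_piCoreOf (Cfsg.sigma M) M (hEM hb)) (hfpf b hb fun h => ?_)
      rw [h, orderOf_one] at hbo
      exact ht.ne_one hbo.symm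
    haveI := hnil
    haveI : Nontrivial ↥(Cfsg.sigmaCore M) :=
      (nontrivial_iff_ne_bot _).2 (sigmaCore_ne_bot hG hM)
    set Z := (Subgroup.center ↥(Cfsg.sigmaCore M)).map (Cfsg.sigmaCore M).subtype with hZdef
    haveI : IsMulCommutative Z := map_isMulCommutative _ _
    have hZn : A ≤ normalizer (Z : Set G) :=
      (hAE.trans hEM).trans ((le_normalizer_piCoreOf (Cfsg.sigma M) M :
          M ≤ normalizer ((Cfsg.sigmaCore M : Subgroup G) : Set G)).trans
        (normalizer_le_normalizer_map_of_characteristic (Cfsg.sigmaCore M)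
          (Subgroup.center ↥(Cfsg.sigmaCore M)) (hK := Subgroup.centerCharacteristic)))
    have hne : Z ≠ ⊥ := by
      rw [hZdef, Ne, Subgroup.map_eq_bot_iff_of_injective _ (subtype_injective _)]
      exact Group.IsNilpotent.center_ne_bot _
    have hcard : Nat.card A = t * r := by
      have hco : (Nat.card (zpowers b)).Coprime (Nat.card (zpowers e)) := by
        rw [Nat.card_zpowers, Nat.card_zpowers, hbo, heo]
        exact (Nat.coprime_primes ht hr).2 htr
      have hle := card_sup_dvd_mul_of_le_normalizer (A := zpowers b) (B := zpowers e)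
        (zpowers_le.2 hn)
      refine Nat.dvd_antisymm (by simpa [Nat.card_zpowers, hbo, heo] using hle) ?_
      rw [← hbo, ← heo, ← Nat.card_zpowers b, ← Nat.card_zpowers e]
      exact hco.mul_dvd_of_dvd_of_dvd (card_dvd_of_le le_sup_left) (card_dvd_of_le le_sup_right)
    haveI := Frobenius.isCyclic_of_card_mul_fpf hne hZn (fun a ha ha1 =>
      le_bot_iff.1 (hfpf a (hAE ha) ha1 ▸ inf_le_inf_right _ (map_subtype_le _))) ht hr hcard
    exact setLike_mul_comm (mem_sup_left (mem_zpowers b) : b ∈ A) (mem_sup_right (mem_zpowers e))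
  -- `K` is central in `E`
  have hKC : E ≤ centralizer (K : Set G) := by
    obtain ⟨-, hKsc⟩ : True ∧ IsCyclic K := ⟨trivial, isCyclic_of_prime_card hq.symm⟩
    refine le_trans (le_inf hEL ?_) (normalizer_star_le hG hL hLd hKs1 hKsc)
    have h1 : E ≤ normalizer ((Cfsg.piCoreOf {q} (Cfsg.fittingOf E) : Subgroup G) : Set G) :=
      (le_normalizer_fittingOf E).trans (normalizer_le_normalizer_piCoreOf _ _)
    have h2 : K ≤ Cfsg.piCoreOf {q} (Cfsg.fittingOf E) := fun k hk =>
      mem_piCoreOf_of_nilpotent (fittingOf_isNilpotent E) (hKE hk) fun r hr hd =>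
        (CN.pElem_of_mem hKq hk).orderOf_dvd hr hd
    haveI := hcyc q _ (piCoreOf_singleton_isPGroup q (Cfsg.fittingOf E))
      ((piCoreOf_le _ _).trans (fittingOf_le E))
    exact h1.trans (le_normalizer_of_le_cyclic hG h2)
  -- the derived subgroup is central
  set E' := ⁅E, E⁆ with hE'
  have hE'E : E' ≤ E := commutator_le_self E
  haveI hE'c : IsCyclic E' := by
    rw [hE', ← map_subtype_commutator]
    exact ((commutator ↥E).equivMapOfInjective _ E.subtype_injective).isCyclic.1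
      (IsZGroup.isCyclic_commutator _)
  obtain ⟨hdL, -⟩ := Cfsg.Agent.S1365.result hG L hL Ks U' hLd hKs1
  have hWn : L ≤ normalizer ((⁅L, L⁆ : Subgroup G) : Set G) := Solvable.le_normalizer_commutator_left L L
  have hindex : ⁅L, L⁆.relIndex L ∣ Nat.card Ks := by
    have hWL : ⁅L, L⁆ ≤ L := commutator_le_self L
    have hsup : L ≤ Ks ⊔ ⁅L, L⁆ := fun m hm => by
      obtain ⟨a, ha, b, hb, rfl⟩ := hLd.compl.2.2.2 m hm
      rw [hdL]
      exact mul_mem (mem_sup_right (mem_sup_left ha))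
        ((sup_le_sup_left le_sup_right Ks : Ks ⊔ Lσ ≤ Ks ⊔ (U' ⊔ Lσ)) hb)
    have h1 := card_sup_dvd_mul_of_le_normalizer (hKsL.trans hWn)
    refine Nat.dvd_of_mul_dvd_mul_left (Nat.card_pos (α := ↥⁅L, L⁆)) ?_
    have h2 : Nat.card ↥⁅L, L⁆ * ⁅L, L⁆.relIndex L = Nat.card L := by
      rw [← relIndex_bot_left ⁅L, L⁆, relIndex_mul_relIndex ⊥ ⁅L, L⁆ L bot_le hWL, relIndex_bot_left]
    rw [h2]
    exact (card_dvd_of_le (sup_comm Ks ⁅L, L⁆ ▸ hsup)).trans h1
  have key : ∀ (t s i j : ℕ) (b e : G), t.Prime → s.Prime → b ∈ E' → e ∈ E →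
      orderOf b = t ^ i → orderOf e = s ^ j → Commute b e := by
    intro t s i j b e ht hs hb he hbo heo
    haveI := Fact.mk ht
    haveI := Fact.mk hs
    by_cases hb1 : b = 1
    · subst hb1; exact Commute.one_left e
    by_cases he1 : e = 1
    · subst he1; exact Commute.one_right b
    have hbE := hE'E hb
    have hbP : IsPGroup t (zpowers b) := IsPGroup.of_card (n := i) (by rw [Nat.card_zpowers, hbo])
    have heP : IsPGroup s (zpowers e) := IsPGroup.of_card (n := j) (by rw [Nat.card_zpowers, heo])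
    have hbc : IsCyclic (zpowers b) := hcyc t _ hbP (zpowers_le.2 hbE)
    have hE'n : E ≤ normalizer (E' : Set G) := Solvable.le_normalizer_commutator_left E E
    have hen : e ∈ normalizer (zpowers b : Set G) :=
      le_normalizer_of_le_cyclic hG (zpowers_le.2 hb) (hE'n he)
    by_cases hts : t = s
    · subst hts
      have hP : IsPGroup t ↥(zpowers b ⊔ zpowers e) := by
        obtain ⟨k, -, hk⟩ := (Nat.dvd_prime_pow ht).1 (show Nat.card ↥(zpowers b ⊔ zpowers e) ∣ t ^ (i + j) by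
          refine (card_sup_dvd_mul_of_le_normalizer (A := zpowers b) (B := zpowers e)
            (zpowers_le.2 hen)).trans ?_
          rw [Nat.card_zpowers, Nat.card_zpowers, hbo, heo, pow_add])
        exact IsPGroup.of_card hk
      haveI := hcyc t _ hP (sup_le (zpowers_le.2 hbE) (zpowers_le.2 he))
      exact setLike_mul_comm (mem_sup_left (mem_zpowers b) : b ∈ zpowers b ⊔ zpowers e)
        (mem_sup_right (mem_zpowers e))
    have hco : (Nat.card (zpowers e)).Coprime (Nat.card (zpowers b)) := by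
      rw [Nat.card_zpowers, Nat.card_zpowers, hbo, heo]
      exact Nat.coprime_pow_primes _ _ hs ht (Ne.symm hts)
    obtain ⟨X, hXb, hX⟩ := exists_le_card_prime hbP (by rwa [Ne, zpowers_eq_bot])
    have hcent : ∀ c : G, c ∈ E → c ∈ normalizer (zpowers b : Set G) →
        (Nat.card (zpowers c)).Coprime (Nat.card (zpowers b)) →
        X ≤ centralizer ({c} : Set G) → Commute b c := by
      intro c _ hcn hcco hXc
      have hfix : zpowers b ⊓ centralizer (zpowers c : Set G) ≠ ⊥ := fun h => by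
        refine ne_bot_of_prime_card hX (le_bot_iff.1 (h ▸ le_inf hXb ?_))
        rwa [zpowers_eq_closure, centralizer_closure]
      exact (mem_centralizer_iff.1 (le_centralizer_of_cyclic_pgroup hbc hbP (zpowers_le.2 hcn) hcco
        hfix (mem_zpowers b)) c (mem_zpowers c)).symm
    by_cases htq : t = q
    · subst htq
      refine hcent e he hen hco fun z hz => mem_centralizer_singleton_iff.2 ?_
      have hXK : IsPGroup (Nat.card K) ↥(X ⊔ K) := by
        obtain ⟨k, -, hk⟩ := (Nat.dvd_prime_pow hKp).1 (show Nat.card ↥(X ⊔ K) ∣ q ^ 2 by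
          refine (card_sup_dvd_mul_of_le_normalizer (A := X) (B := K) ?_).trans ?_
          · refine le_trans ?_ (centralizer_le_normalizer _)
            intro k hk
            refine mem_centralizer_iff.2 fun y hy => ?_
            exact (mem_centralizer_iff.1 (hKC (zpowers_le.2 hbE (hXb hy))) k hk).symm
          · rw [hX, ← hq, sq])
        exact IsPGroup.of_card hk
      have hXE : X ≤ E := hXb.trans (zpowers_le.2 hbE)
      have hc := hcyc _ _ hXK (sup_le hXE hKE')
      have hXeq : X = K := eq_of_card_eq_of_le_cyclic hc le_sup_left le_sup_right (hX.trans hq)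
      exact mem_centralizer_iff.1 (hKC he) z (hXeq ▸ hz)
    have hbL' : b ∈ ⁅L, L⁆ := commutator_mono hEL hEL hb
    have hcommb : ∀ (R : Subgroup G), L ≤ normalizer (R : Set G) → e ∈ R → zpowers b ⊓ R = ⊥ →
        Commute b e := by
      intro R hR heR hbR
      have h1 : b * e * b⁻¹ * e⁻¹ ∈ zpowers b ⊓ R := by
        refine mem_inf.2 ⟨?_, mul_mem ((mem_normalizer_iff.1 (hR (hEL hbE)) e).1 heR) (inv_mem heR)⟩
        rw [show b * e * b⁻¹ * e⁻¹ = b * (e * b⁻¹ * e⁻¹) by group]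
        exact mul_mem (mem_zpowers b) ((mem_normalizer_iff.1 hen _).1 (inv_mem (mem_zpowers b)))
      rw [hbR, mem_bot, mul_inv_eq_one, mul_inv_eq_iff_eq_mul] at h1
      exact h1
    by_cases hsκ : s ∈ Cfsg.kappa L ∧ e ∉ ⁅L, L⁆
    · exfalso
      haveI := isSolvable_of_ne_top hG hL.1
      set e₀ := e ^ (orderOf e / s) with he₀
      have hsd : s ∣ orderOf e := by
        rcases j with _ | j
        · exact absurd (orderOf_eq_one_iff.1 (heo.trans (pow_zero s))) he1
        · rw [heo]; exact dvd_pow_self s j.succ_ne_zero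
      have he₀o : orderOf e₀ = s := orderOf_pow_orderOf_div (orderOf_pos e).ne' hsd
      have he₀E : e₀ ∈ E := pow_mem he _
      have he₀n : e₀ ∈ normalizer (zpowers b : Set G) := pow_mem hen _
      have hXn : e₀ ∈ normalizer (X : Set G) := by
        haveI := hbc
        exact le_normalizer_of_le_cyclic hG hXb he₀n
      obtain ⟨⟨x₀, hx₀⟩, hx₀o⟩ := exists_prime_orderOf_dvd_card' (G := X) t (hX ▸ dvd_rfl)
      rw [orderOf_mk] at hx₀o
      have hXz : zpowers x₀ = X := eq_of_le_of_card_ge (zpowers_le.2 hx₀)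
        (by rw [Nat.card_zpowers, hx₀o, hX])
      have hc0 := hpq t s x₀ e₀ ht hs hts (zpowers_le.2 hbE (hXb hx₀)) he₀E hx₀o he₀o (hXz ▸ hXn)
      have hbe₀ : Commute b e₀ := hcent e₀ he₀E he₀n
        (hco.coprime_dvd_left (card_dvd_of_le (zpowers_le.2 (pow_mem (mem_zpowers e) _))))
        (fun z hz => by
          rw [← hXz] at hz
          obtain ⟨k, rfl⟩ := mem_zpowers_iff.1 hz
          exact mem_centralizer_singleton_iff.2 (hc0.zpow_left k).eq)
      obtain ⟨⟨a, haL⟩, ha⟩ := Solvable.exists_conj_le_isPiHall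
        (Solvable.isPiHall_of_isPiHallOf hLd.hall) (K := (zpowers e₀).subgroupOf L) (by
          intro r hr hd
          rw [Nat.card_congr (subgroupOfEquivOfLe (zpowers_le.2 (hEL he₀E))).toEquiv,
            Nat.card_zpowers, he₀o, Nat.prime_dvd_prime_iff_eq hr hs] at hd
          exact hd ▸ hsκ.1)
      have hk : a * e₀ * a⁻¹ ∈ Ks :=
        mem_subgroupOf.1 (ha (smul_mem_pointwise_smul (⟨e₀, hEL he₀E⟩ : L) _ _ (mem_zpowers e₀)))
      have hk1 : a * e₀ * a⁻¹ ≠ 1 := fun h => hs.ne_one (by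
        rw [← he₀o, conj_eq_one_iff.1 h, orderOf_one])
      have hbK : a * b * a⁻¹ ∈ K := by
        rw [hKdef, ← derived_inf_centralizer hG hL hLd hKs1 hk hk1]
        refine ⟨(mem_normalizer_iff.1 (hWn haL) b).1 hbL', mem_centralizer_singleton_iff.2 ?_⟩
        calc a * b * a⁻¹ * (a * e₀ * a⁻¹) = a * (b * e₀) * a⁻¹ := by group
          _ = a * (e₀ * b) * a⁻¹ := by rw [hbe₀.eq]
          _ = a * e₀ * a⁻¹ * (a * b * a⁻¹) := by group
      refine htq ((Nat.prime_dvd_prime_iff_eq ht hKp).1 ((hX ▸ card_dvd_of_le hXb : t ∣ Nat.card (zpowers b)).trans ?_))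
      rw [Nat.card_zpowers, show orderOf b = orderOf (a * b * a⁻¹) from
        (MulEquiv.orderOf_eq (MulAut.conj a) b).symm]
      exact orderOf_dvd_card_of_mem hbK
    have heL' : e ∈ ⁅L, L⁆ := by
      by_contra h
      refine h (mem_of_orderOf_coprime_relIndex hWn (hEL he) (Nat.coprime_of_dvd fun r hr h1 h2 => ?_))
      rw [heo] at h1
      have := (Nat.prime_dvd_prime_iff_eq hr hs).1 (hr.dvd_of_dvd_pow h1)
      subst this
      exact hsκ ⟨hLd.hall.2.1 r hr (h2.trans hindex), h⟩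
    rw [hdL] at hbL' heL'
    by_cases hU' : U' = ⊥
    · rw [hU', bot_sup_eq] at hbL' heL'
      by_cases hn : Group.IsNilpotent Lσ
      · exact CN.commute_of_nilpotent hts hn hbL' heL' (CN.pElem_of_mem hbP (mem_zpowers b))
          (CN.pElem_of_mem heP (mem_zpowers e))
      obtain ⟨-, -, -, -, -, -, Q, hQF, hQn, hQq, hQi, hQD⟩ :=
        Cfsg.Agent.S1437.result hG L hL Ks U' hLd fun h => hn (hLσ ▸ h ▸ fittingHallOf_isNilpotent L)
      have hQσ : Q ≤ Lσ := hQF.trans (fittingHallOf_le_sigmaCore hG hL)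
      by_cases hsq : s = q
      · subst hsq
        refine hcommb Q hQn (mem_of_orderOf_coprime_relIndex (hLσL.trans hQn) heL'
          ((heo ▸ ((hKp.coprime_iff_not_dvd.2 hQi).pow_left j) :))) ?_
        obtain ⟨k, hk⟩ := hQq.exists_card_eq
        exact disjoint_iff.1 (disjoint_of_coprime_natCard (by
          rw [Nat.card_zpowers, hbo, hk]; exact Nat.coprime_pow_primes _ _ ht hKp htq))
      haveI := isSolvable_of_ne_top hG (H := Lσ) fun h => hL.1 (top_le_iff.1 (h ▸ hLσL))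
      obtain ⟨D, hD⟩ := Solvable.exists_isPiHall (G := Lσ) {r | r ≠ q}
      have hW : zpowers b ⊔ zpowers e ≤ Lσ := sup_le (zpowers_le.2 hbL') (zpowers_le.2 heL')
      obtain ⟨a, ha⟩ := Solvable.exists_conj_le_isPiHall hD
        (K := (zpowers b ⊔ zpowers e).subgroupOf Lσ) (fun r hr hd => by
          rw [Nat.card_congr (subgroupOfEquivOfLe hW).toEquiv] at hd
          have h2 := hd.trans (card_sup_dvd_mul_of_le_normalizer (A := zpowers b) (B := zpowers e)
            (zpowers_le.2 hen))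
          rw [Nat.card_zpowers, Nat.card_zpowers, hbo, heo] at h2
          rcases hr.dvd_mul.1 h2 with h | h
          · rw [(Nat.prime_dvd_prime_iff_eq hr ht).1 (hr.dvd_of_dvd_pow h)]; exact htq
          · rw [(Nat.prime_dvd_prime_iff_eq hr hs).1 (hr.dvd_of_dvd_pow h)]; exact hsq)
      set D' := D.map Lσ.subtype with hD'
      have hD'σ : D' ≤ Lσ := map_subtype_le _
      have hQD' : Q ⊓ D' = ⊥ := disjoint_iff.1 (disjoint_of_coprime_natCard
        (Nat.coprime_of_dvd fun r hr h1 h2 => by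
          obtain ⟨k, hk⟩ := hQq.exists_card_eq
          rw [hk] at h1
          rw [card_map_of_injective (subtype_injective _)] at h2
          exact hD.1 r hr h2 ((Nat.prime_dvd_prime_iff_eq hr hKp).1 (hr.dvd_of_dvd_pow h1))))
      have hQDσ : Lσ ≤ Q ⊔ D' := by
        refine relIndex_eq_one.1 (Nat.eq_one_iff_not_exists_prime_dvd.2 fun r hr hd => ?_)
        by_cases hrq : r = q
        · subst hrq
          exact hQi (hd.trans (Dvd.intro_left _
            (relIndex_mul_relIndex Q (Q ⊔ D') Lσ le_sup_left (sup_le hQσ hD'σ))))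
        · refine hD.2 r hr hrq (hd.trans ?_)
          have h := Dvd.intro_left _
            (relIndex_mul_relIndex D' (Q ⊔ D') Lσ le_sup_right (sup_le hQσ hD'σ))
          have e : D'.subgroupOf Lσ = D := comap_map_eq_self_of_injective (subtype_injective _) D
          rwa [show D'.relIndex Lσ = D.index from congrArg Subgroup.index e] at h
      obtain ⟨hDnil, -⟩ := hQD D' ⟨hQσ, hD'σ, hQD', fun m hm => by
        obtain ⟨y, hy, d, hd, e'⟩ := (Solvable.mem_sup_of_le_normalizer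
          (hD'σ.trans (hLσL.trans hQn))).1 (hQDσ hm)
        exact ⟨y, hy, d, hd, e'.symm⟩⟩
      have hbD : (a : G) * b * (a : G)⁻¹ ∈ D' := ⟨_, ha (smul_mem_pointwise_smul (⟨b, hbL'⟩ : Lσ) _ _
        (mem_subgroupOf.2 (mem_sup_left (mem_zpowers b)))), rfl⟩
      have heD : (a : G) * e * (a : G)⁻¹ ∈ D' := ⟨_, ha (smul_mem_pointwise_smul (⟨e, heL'⟩ : Lσ) _ _
        (mem_subgroupOf.2 (mem_sup_right (mem_zpowers e)))), rfl⟩
      have h := CN.commute_of_nilpotent hts hDnil hbD heD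
        ((CN.pElem_of_mem hbP (mem_zpowers b)).conj _) ((CN.pElem_of_mem heP (mem_zpowers e)).conj _)
      calc b * e = (a : G)⁻¹ * ((a : G) * b * (a : G)⁻¹ * ((a : G) * e * (a : G)⁻¹)) * a := by group
        _ = (a : G)⁻¹ * ((a : G) * e * (a : G)⁻¹ * ((a : G) * b * (a : G)⁻¹)) * a := by rw [h]
        _ = e * b := by group
    · -- `L' / L_σ` is abelian and `L_σ` is a `q`-group
      obtain ⟨-, -, hcard⟩ := typeP2_facts hG hL hLd hKs1 hU'
      have hUab := decomposition_abelian hG hL hLd hKs1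
      have hUn : U' ≤ normalizer ((Lσ : Subgroup G) : Set G) := hU'L.trans hLn
      have hcom : b * e * b⁻¹ * e⁻¹ ∈ zpowers b ⊓ Lσ := by
        refine mem_inf.2 ⟨?_, ?_⟩
        · rw [show b * e * b⁻¹ * e⁻¹ = b * (e * b⁻¹ * e⁻¹) by group]
          exact mul_mem (mem_zpowers b) ((mem_normalizer_iff.1 hen _).1 (inv_mem (mem_zpowers b)))
        · rw [sup_comm] at hbL' heL'
          obtain ⟨c, hc, u, hu, rfl⟩ := (Solvable.mem_sup_of_le_normalizer hUn).1 hbL'
          obtain ⟨d, hd, w, hw, rfl⟩ := (Solvable.mem_sup_of_le_normalizer hUn).1 heL'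
          have huw : u * w = w * u := congrArg Subtype.val (hUab.1.comm (⟨u, hu⟩ : U') ⟨w, hw⟩)
          have hn : ∀ g ∈ U', ∀ z ∈ Lσ, g * z * g⁻¹ ∈ Lσ := fun g hg z hz =>
            (mem_normalizer_iff.1 (hUn hg) z).1 hz
          have e1 : c * u * (d * w) * (c * u)⁻¹ * (d * w)⁻¹ =
              c * (u * d * u⁻¹) * (u * w * u⁻¹ * c⁻¹ * (u * w * u⁻¹)⁻¹) * (u * w * u⁻¹ * w⁻¹) * d⁻¹ := by
            group
          rw [e1, huw, mul_inv_cancel_right, mul_inv_cancel, mul_one]
          exact mul_mem (mul_mem (mul_mem hc (hn u hu d hd)) (hn w hw c⁻¹ (inv_mem hc))) (inv_mem hd)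
      rw [disjoint_iff.1 (disjoint_of_coprime_natCard (H := zpowers b) (K := Lσ) (by
          rw [Nat.card_zpowers, hbo, hcard]
          exact Nat.coprime_pow_primes _ _ ht hKp htq)), mem_bot, mul_inv_eq_one,
        mul_inv_eq_iff_eq_mul] at hcom
      exact hcom
  haveI : Group.IsNilpotent E := by
    refine Subgroup.isNilpotent_of_ker_le_center (Abelianization.of (G := E)) ?_
    rw [Abelianization.ker_of]
    intro c hc
    rw [mem_center_iff]
    intro e
    refine Subtype.ext ?_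
    have hcE' : (c : G) ∈ E' := by
      rw [hE', ← map_subtype_commutator]; exact mem_map_of_mem _ hc
    have : (e : G) ∈ centralizer ({(c : G)} : Set G) := by
      refine CN.mem_of_pElem_pow fun s m hs hsm => mem_centralizer_singleton_iff.2 ?_
      have h2 : (c : G) ∈ centralizer ({(e : G) ^ m} : Set G) := by
        refine CN.mem_of_pElem_pow fun t l ht htl => mem_centralizer_singleton_iff.2 ?_
        obtain ⟨i, hi⟩ := htl
        obtain ⟨j, hj⟩ := hsm
        haveI := Fact.mk ht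
        haveI := Fact.mk hs
        obtain ⟨i', -, hi'⟩ := (Nat.dvd_prime_pow ht).1 (orderOf_dvd_of_pow_eq_one hi)
        obtain ⟨j', -, hj'⟩ := (Nat.dvd_prime_pow hs).1 (orderOf_dvd_of_pow_eq_one hj)
        exact (key t s i' j' _ _ ht hs (pow_mem hcE' l) (pow_mem e.2 m) hi' hj').eq
      exact (mem_centralizer_singleton_iff.1 h2).symm
    exact mem_centralizer_singleton_iff.1 this
  infer_instance

end

/-- Let G be a minimal simple group of odd order, M a maximal subgroup, x ≠ 1 in M_σ with C_G(x) not contained in M, and N a maximal subgroup containing C_G(x) with κ(N) nonempty. Then κ(M) is empty, M has a cyclic Frobenius complement (M is a Frobenius group), and M_F is not a TI-subset of G. -/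
theorem result {G : Type*} [Group G] [Finite G] (hG : Cfsg.IsMinSimpleOddOrder G)
    (M : Subgroup G) (hM : IsCoatom M) (x : G) (hx : x ∈ Cfsg.sigmaCore M) (hx1 : x ≠ 1) (hxM : ¬ Subgroup.centralizer ({x} : Set G) ≤ M)
    (N : Subgroup G) (hN : IsCoatom N) (hxN : Subgroup.centralizer ({x} : Set G) ≤ N) (hkN : (Cfsg.kappa N).Nonempty) :
    Cfsg.kappa M = ∅ ∧ (∃ E : Subgroup ↥M, Cfsg.IsFrobeniusComplement E ∧ IsCyclic E) ∧ ¬ Cfsg.IsTISubset (Cfsg.fittingHallOf M : Set G) := by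
  obtain ⟨N', ⟨-, hxN'⟩, huN, -, -, -, -, hN'd⟩ := Cfsg.Agent.S1375.result hG M hM x hx hx1 hxM
  obtain rfl := huN N hN hxN
  clear huN
  obtain ⟨⟨K₀, hK₀⟩, hcyc⟩ := Cfsg.Agent.S1351.result hG N hN
  obtain ⟨⟨U₀, hKU₀⟩, -⟩ := Cfsg.Agent.S1352.result hG N hN K₀ (hcyc K₀ hK₀) hK₀
  obtain ⟨hU₀ne, ⟨-, hxW⟩, hxσ⟩ := hN'd K₀ U₀ hKU₀
  obtain ⟨hK₀N, hU₀N⟩ := decomposition_le hKU₀
  have hU₀n : U₀ ≤ normalizer ((Cfsg.sigmaCore N : Subgroup G) : Set G) :=
    hU₀N.trans (le_normalizer_piCoreOf (Cfsg.sigma N) N)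
  obtain ⟨p, hp, hpd⟩ := Nat.exists_prime_and_dvd (n := orderOf x)
    fun h => hx1 (orderOf_eq_one_iff.1 h)
  obtain ⟨q₀, hq₀⟩ := hkN
  have hK₀1 : K₀ ≠ ⊥ := fun h => hK₀.2.2 q₀ hq₀.1 hq₀ (by rw [h, relIndex_bot_left]; exact hq₀.2.1)
  -- move `x` into `U`
  have hxnσ : ∀ r : ℕ, r.Prime → r ∣ orderOf x → r ∉ Cfsg.sigma N := by
    obtain ⟨L₀, ⟨hL₀, hCL₀⟩, huL₀, -, -, hτ₀, -, -⟩ := supporting_structure hG hM
      (Cfsg.Agent.S1378.result hG).2 (Cfsg.Agent.S1432.result hG) hx hx1 hxM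
    obtain rfl := huL₀ N hN hxN
    exact fun r hr hd => (hτ₀ r hr hd).2.1
  obtain ⟨l, hl, hlU⟩ := exists_conj_into (L := U₀ ⊔ Cfsg.sigmaCore N) (K := Cfsg.sigmaCore N)
    (J := U₀) (Y := zpowers x)
    (isSolvable_of_ne_top hG fun h => hN.1 (top_le_iff.1 (h ▸ sup_le hU₀N (piCoreOf_le _ _))))
    (sup_le hU₀n le_normalizer) le_sup_left (sup_comm U₀ _).le (zpowers_le.2 hxW)
    (fun r hr h1 h2 => hxnσ r hr (by rwa [Nat.card_zpowers] at h1) (sigma_of_dvd_sigmaCore hr h2))
  have hlN : l ∈ N := sup_le hU₀N (piCoreOf_le _ _) hl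
  set K₁ := K₀.map (MulAut.conj l⁻¹).toMonoidHom
  set U₁ := U₀.map (MulAut.conj l⁻¹).toMonoidHom
  have hKU₁ : Cfsg.IsSigmaDecomposition N K₁ U₁ := decomposition_conj hG hKU₀ (inv_mem hlN)
  have hxU₁ : x ∈ U₁ := by
    rw [mem_map_conj_iff, inv_inv]
    exact hlU ⟨x, mem_zpowers x, rfl⟩
  haveI := Fact.mk hp
  -- move `H` to `M`
  have hdisj := (Cfsg.Agent.S1378.result hG).2
  have hU₁1 : U₁ ≠ ⊥ := fun h => hx1 (mem_bot.1 (h ▸ hxU₁))
  have hK₁1 : K₁ ≠ ⊥ := fun h => hK₀1 ((Subgroup.map_eq_bot_iff_of_injective _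
    (MulAut.conj l⁻¹).injective).1 h)
  obtain ⟨R₁⟩ : Nonempty (Sylow p U₁) := inferInstance
  have hpU₁ : p ∣ Nat.card U₁ := hpd.trans (orderOf_dvd_card_of_mem hxU₁)
  set R := (R₁ : Subgroup U₁).map U₁.subtype with hR
  have hR1 : R ≠ ⊥ := by
    rw [hR, Ne, Subgroup.map_eq_bot_iff_of_injective _ U₁.subtype_injective]
    exact R₁.ne_bot_of_dvd_card hpU₁
  have hRt : R ≠ ⊤ := fun h => hN.1 (top_le_iff.1 (h ▸ (map_subtype_le _).trans
    (decomposition_le hKU₁).2))
  obtain ⟨H, hH, hRH⟩ := exists_isCoatom_ge (normalizer_ne_top hG hR1 hRt)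
  obtain ⟨Ms₁, ⟨hMs₁, hKeq₁, hKsH₁⟩, -⟩ := Cfsg.Agent.S1366.result hG N hN K₁ U₁ hKU₁ hK₁1
  obtain ⟨-, hU₁H, -⟩ := Cfsg.Agent.S1435.result hG N hN K₁ U₁ hKU₁ hK₁1 hU₁1 Ms₁ hMs₁ hKeq₁ hKsH₁ p
    hpU₁ R₁ H hH hRH
  have hxH : x ∈ Cfsg.sigmaCore H := hU₁H hxU₁
  obtain ⟨g, hg⟩ := hdisj M H hM hH ⟨p,
    piCoreOf_isPiSubgroup _ M p hp (hpd.trans (orderOf_dvd_card_of_mem hx)),
    piCoreOf_isPiSubgroup _ H p hp (hpd.trans (orderOf_dvd_card_of_mem hxH))⟩
  obtain ⟨m, hm, c, hc, hgc⟩ := exists_mul_centralizer_of_sigma hG hM hx hx1 (g := g⁻¹) (by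
    have h := piCoreOf_le _ _ hxH
    rw [hg, mem_map_conj_iff] at h
    rwa [inv_inv])
  have hcN : c ∈ N := hxN hc
  have hMc : H.map (MulAut.conj c).toMonoidHom = M := by
    have hmM : M.map (MulAut.conj m⁻¹).toMonoidHom = M := by
      have h := le_normalizer (H := M) (inv_mem hm)
      rw [mem_normalizer_iff_map_conj_eq] at h
      exact h
    rw [hg, map_conj_map_conj, show c * g = m⁻¹ by
      rw [show c = m⁻¹ * g⁻¹ by rw [hgc]; group]; group, hmM]
  set K := K₁.map (MulAut.conj c).toMonoidHom with hKdef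
  set U := U₁.map (MulAut.conj c).toMonoidHom with hUdef
  have hKU : Cfsg.IsSigmaDecomposition N K U := decomposition_conj hG hKU₁ hcN
  have hxU : x ∈ U := by
    refine mem_map_conj_iff.2 ?_
    rwa [show c⁻¹ * x * c = x by
      rw [mul_assoc, ← mem_centralizer_singleton_iff.1 hc, inv_mul_cancel_left]]
  have hU1 : U ≠ ⊥ := fun h => hx1 (mem_bot.1 (h ▸ hxU))
  have hK1 : K ≠ ⊥ := fun h => hK₁1 ((Subgroup.map_eq_bot_iff_of_injective _
    (MulAut.conj c).injective).1 h)
  obtain ⟨L, ⟨hL, hKeq, hKsH⟩, -⟩ := Cfsg.Agent.S1366.result hG N hN K U hKU hK1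
  let e := U₁.equivMapOfInjective (MulAut.conj c).toMonoidHom (MulAut.conj c).injective
  obtain ⟨hκM, -, hMN, -, hKF, hE⟩ := Cfsg.Agent.S1435.result hG N hN K U hKU hK1 hU1 L hL hKeq hKsH p
    (hpd.trans (orderOf_dvd_card_of_mem hxU))
    (R₁.mapSurjective (f := e.toMonoidHom) e.surjective) M hM (by
      have h : ((R₁ : Subgroup U₁).map e.toMonoidHom).map U.subtype =
          R.map (MulAut.conj c).toMonoidHom := by
        refine (Subgroup.map_map _ _ _).trans (Eq.trans ?_ (Subgroup.map_map _ _ _).symm)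
        exact congrArg (fun f => (R₁ : Subgroup U₁).map f) (MonoidHom.ext fun _ => rfl)
      show normalizer ((((R₁ : Subgroup U₁).map e.toMonoidHom).map U.subtype : Subgroup G) :
        Set G) ≤ M
      rw [h, ← map_equiv_normalizer_eq, ← hMc]
      exact Subgroup.map_mono hRH)
  set Ks := Cfsg.sigmaCore N ⊓ centralizer (K : Set G) with hKs
  have hKeq' : K = Cfsg.sigmaCore L ⊓ centralizer (Ks : Set G) := by
    rw [hKs, Subgroup.coe_inf]; exact hKeq
  obtain ⟨hZ, hZc⟩ := Cfsg.Agent.S1368.result hG N hN K U hKU hK1 L hL hKeq hKsH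
  have hKs1 : Ks ≠ ⊥ := (Cfsg.Agent.S1354.result hG N hN K hKU.cyclic hKU.hall).1
  have hKsc : IsCyclic Ks := by
    haveI := hZc
    exact isCyclic_of_le (le_sup_right : Ks ≤ K ⊔ Ks)
  obtain ⟨⟨U', hLd⟩, -⟩ := Cfsg.Agent.S1352.result hG L hL Ks hKsc hKsH
  have hKp : (Nat.card K).Prime := (Cfsg.Agent.S1372.result hG N hN K U hKU hK1 hU1).1
  set E := M ⊓ L with hEdef
  have hxE : ∀ a ∈ E, a * x = x * a → a = 1 := by
    intro a ha hax
    have haN : a ∈ N := hxN (mem_centralizer_singleton_iff.2 hax)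
    have h1 : a ∈ K ⊔ Ks := hZ ▸ (⟨haN, ha.2⟩ : a ∈ N ⊓ L)
    have h2 : a ∈ U ⊔ K := hMN ▸ (⟨haN, ha.1⟩ : a ∈ N ⊓ M)
    obtain ⟨k, hk, z, hz, rfl⟩ := (Solvable.mem_sup_of_le_normalizer
      ((inf_le_right : Ks ≤ centralizer (K : Set G)).trans (centralizer_le_normalizer _))).1 h1
    have hz1 : z ∈ (U ⊔ K) ⊓ Cfsg.sigmaCore N :=
      ⟨((U ⊔ K).mul_mem_cancel_left (mem_sup_right hk)).1 h2, hz.1⟩
    rw [(decomposition_isComplIn hKU).2.2.1, mem_bot] at hz1
    subst hz1
    rw [mul_one] at hax ⊢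
    by_contra hk1
    have h : x ∈ U ⊓ centralizer ({k} : Set G) := ⟨hxU, mem_centralizer_singleton_iff.2 hax.symm⟩
    rw [decomposition_inf_centralizer hG hN hKU hk hk1, mem_bot] at h
    exact hx1 h
  rw [hKeq'] at hKp hKF
  have hτ := tau2_eq_empty hG hM hκM hL hLd hKs1 hKp hE rfl hKF hx hxE
  have hfpf : ∀ a ∈ E, a ≠ 1 → Cfsg.sigmaCore M ⊓ centralizer ({a} : Set G) = ⊥ := by
    intro a ha ha1
    by_contra h
    obtain ⟨⟨y, hy⟩, hy1⟩ := ne_bot_iff_exists_ne_one.1 h
    obtain ⟨r, hr, hrd⟩ := Nat.exists_prime_and_dvd (n := orderOf a)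
      fun h => ha1 (orderOf_eq_one_iff.1 h)
    rcases Cfsg.Agent.S1432.result hG M hM y hy.1 (fun h => hy1 (Subtype.ext h)) a
      ⟨ha.1, mem_centralizer_singleton_iff.2 (mem_centralizer_singleton_iff.1 hy.2).symm⟩ ha1
      (fun t ht hd => complement_prime_not_sigma hG hM hE ht
        (hd.trans (orderOf_dvd_card_of_mem ha))) with ⟨h', -⟩ | ⟨h', -⟩
    · have := h' r hr hrd
      rw [hκM] at this
      exact this
    · exact hτ r (h' r hr hrd)
  have hcycE := complement_cyclic hG hM hL hLd hKs1 hKp hE inf_le_right hKF hτ hfpf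
  have hSM : Cfsg.sigmaCore M ≤ M := piCoreOf_le _ _
  have hE1 : E ≠ ⊥ := fun h => hK1 (le_bot_iff.1 (h ▸ hKeq'.le.trans (hKF.trans (fittingOf_le E))))
  refine ⟨hκM, ⟨E.subgroupOf M, ?_, ?_⟩, ?_⟩
  · haveI : ((Cfsg.sigmaCore M).subgroupOf M).Normal :=
      normal_subgroupOf_of_le_normalizer (le_normalizer_piCoreOf (Cfsg.sigma M) M)
    refine Frobenius.isFrobeniusComplement_of_fpf (K := (Cfsg.sigmaCore M).subgroupOf M) ?_ ?_ ?_ ?_
    · refine isComplement'_of_disjoint_and_mul_eq_univ ?_ (Set.eq_univ_iff_forall.2 fun a => ?_)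
      · rw [disjoint_iff, eq_bot_iff_forall]
        rintro ⟨a, haM⟩ ⟨h1, h2⟩
        exact Subtype.ext (mem_bot.1 (hE.2.2.1 ▸ (⟨h2, h1⟩ : a ∈ E ⊓ Cfsg.sigmaCore M)))
      · obtain ⟨b, hb, z, hz, e'⟩ := hE.2.2.2 _ (inv_mem a.2)
        refine ⟨⟨z⁻¹, inv_mem (hSM hz)⟩, inv_mem hz, ⟨b⁻¹, inv_mem hb.1⟩, inv_mem hb, Subtype.ext ?_⟩
        show z⁻¹ * b⁻¹ = (a : G)
        rw [← mul_inv_rev, ← e', inv_inv]
    · rw [Ne, subgroupOf_eq_bot, disjoint_iff, inf_eq_left.2 hSM]
      exact sigmaCore_ne_bot hG hM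
    · rw [Ne, subgroupOf_eq_bot, disjoint_iff, inf_eq_left.2 hE.1]
      exact hE1
    · rintro ⟨a, haM⟩ ha ha1
      refine (eq_bot_iff_forall _).2 ?_
      rintro ⟨z, hzM⟩ ⟨hz, hzC⟩
      have h : z ∈ Cfsg.sigmaCore M ⊓ centralizer ({a} : Set G) := ⟨hz,
        mem_centralizer_singleton_iff.2 (congrArg Subtype.val (mem_centralizer_singleton_iff.1 hzC))⟩
      rw [hfpf a ha (fun h => ha1 (Subtype.ext h)), mem_bot] at h
      exact Subtype.ext h
  · exact (subgroupOfEquivOfLe hE.1).symm.isCyclic.1 hcycE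
  · obtain ⟨a, ha, haK⟩ : ∃ a ∈ E, orderOf a = Nat.card ↥(Cfsg.sigmaCore L ⊓ centralizer (Ks : Set G)) := by
      haveI := Fact.mk hKp
      obtain ⟨a, ha⟩ := exists_prime_orderOf_dvd_card'
        (G := ↥(Cfsg.sigmaCore L ⊓ centralizer (Ks : Set G))) _ dvd_rfl
      exact ⟨a, (hKF.trans (fittingOf_le E)) a.2, by rw [orderOf_coe, ha]⟩
    have ha1 : a ≠ 1 := fun h => by rw [h, orderOf_one] at haK; exact hKp.ne_one haK.symm
    have hnil : Group.IsNilpotent (Cfsg.sigmaCore M) := isNilpotent_of_prime_fpf hKp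
      (by rw [← haK, pow_orderOf_eq_one])
      (le_normalizer_piCoreOf (Cfsg.sigma M) M (hE.1 ha)) (hfpf a ha ha1)
    rw [← sigmaCore_eq_fittingHallOf hG hM hnil]
    intro hTI
    refine hxM fun d hd => ?_
    by_contra hdM
    refine hx1 (hTI d ?_ x hx ?_)
    · have h := normalizer_eq_of_isCoatom_of_le hG hM (sigmaCore_ne_bot hG hM) hSM
        (le_normalizer_piCoreOf (Cfsg.sigma M) M)
      rw [h]; exact hdM
    · rwa [mem_centralizer_singleton_iff.1 hd, mul_inv_cancel_right]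


end Cfsg.Agent.S1376
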