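import Cfsg.Statements.S1525
import Cfsg.Agent.Lib.OddChar.Dade

set_option autoImplicit false
open Cfsg

namespace Cfsg.Agent.S1525

/-- Under the Dade hypothesis for (A, L, H), let χ be a class function of G and let ψ be a function on L whose value at each a ∈ A is the average of χ over the coset a·H(a). Then (1/|G|) Σ |χ g|² over the elements g of G conjugate into some coset a·H(a) with a ∈ A is at least (1/|L|) Σ_{a ∈ A ∩ L} |ψ a|². -/
theorem result {G : Type*} [Group G] [Fintype G] (A : Set G) (L : Subgroup G) [Fintype L] (H : G → Subgroup G) (hD : Cfsg.DadeHypothesis A L H) (χ : G → ℂ) (hχ : Cfsg.IsClassFunction G χ) (ψ : L → ℂ) (hψ : ∀ a : L, (a : G) ∈ A → ψ a = (Nat.card (H a) : ℂ)⁻¹ * ∑ᶠ u ∈ (H a : Set G), χ (a * u)) : (Nat.card L : ℝ)⁻¹ * ∑ᶠ a ∈ {a : L | (a : G) ∈ A}, ‖ψ a‖ ^ 2 ≤ (Nat.card G : ℝ)⁻¹ * ∑ᶠ g ∈ {g : G | ∃ a ∈ A, ∃ u ∈ H a, ∃ x : G, x * g * x⁻¹ = a * u}, ‖χ g‖ ^ 2 := by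
  classical
  have h := CfsgLib.OddChar.dade_sum_classFun (K := ℝ) hD (fun g => ‖χ g‖ ^ 2)
    (fun g x => by simp only [hχ g x])
  have e1 : ∑ᶠ g ∈ {g : G | ∃ a ∈ A, ∃ u ∈ H a, ∃ x : G, x * g * x⁻¹ = a * u}, ‖χ g‖ ^ 2 =
      ∑ g ∈ Finset.univ.filter (fun g => g ∈ CfsgLib.OddChar.dadeSupport A H), ‖χ g‖ ^ 2 := by
    rw [← finsum_mem_finset_eq_sum]
    exact finsum_mem_congr (by
      ext g
      rw [Finset.mem_coe, Finset.mem_filter]
      exact ⟨fun h => ⟨Finset.mem_univ g, h⟩, fun h => h.2⟩) (fun _ _ => rfl)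
  have e2 : ∑ᶠ a ∈ {a : L | (a : G) ∈ A}, ‖ψ a‖ ^ 2 =
      ∑ a : L, if (a : G) ∈ A then ‖ψ a‖ ^ 2 else 0 := by
    rw [← Finset.sum_filter, ← finsum_mem_finset_eq_sum]
    simp
  rw [e1, e2, h]
  refine mul_le_mul_of_nonneg_left (Finset.sum_le_sum fun a _ => ?_) (by positivity)
  split_ifs with ha
  · rw [hψ a ha, ← finsum_set_coe_eq_finsum_mem, finsum_eq_sum_of_fintype, norm_mul, norm_inv,
      Complex.norm_natCast, mul_pow]
    have hn : (0 : ℝ) < Nat.card (H (a : G)) := Nat.cast_pos.2 Nat.card_pos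
    have h2 := norm_sum_le Finset.univ (fun u : H (a : G) => χ ((a : G) * u))
    have h3 := sq_sum_le_card_mul_sum_sq (s := Finset.univ) (f := fun u : H (a : G) => ‖χ ((a : G) * u)‖)
    rw [Finset.card_univ, ← Nat.card_eq_fintype_card] at h3
    have h4 : ‖∑ u : H (a : G), χ ((a : G) * u)‖ ^ 2 ≤
        (Nat.card (H (a : G)) : ℝ) * ∑ u : H (a : G), ‖χ ((a : G) * u)‖ ^ 2 :=
      (pow_le_pow_left₀ (norm_nonneg _) h2 2).trans h3
    refine (mul_le_mul_of_nonneg_left h4 (by positivity)).trans_eq ?_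
    field_simp
  · exact le_rfl

end Cfsg.Agent.S1525
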