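import Cfsg.Statements.S1528
import Cfsg.Agent.Lib.Char.Clifford
import Cfsg.Agent.Lib.Char.FrobeniusInd

set_option autoImplicit false
open Cfsg

namespace Cfsg.Agent.S1528

/-- Let N be a normal subgroup of the finite group G such that every element of G commuting with a non-identity element of N lies in N. If χ is an irreducible character of G with χ n ≠ χ 1 for some n ∈ N, then χ is the function induced from some irreducible character of N. -/
theorem result {G : Type*} [Group G] [Fintype G] (N : Subgroup G) [N.Normal] (hC : ∀ n ∈ N, n ≠ 1 → Subgroup.centralizer ({n} : Set G) ≤ N) (χ : G → ℂ) (hχ : Cfsg.IsIrrCharacter G χ) (hker : ∃ n ∈ N, χ n ≠ χ 1) : ∃ φ : N → ℂ, Cfsg.IsIrrCharacter N φ ∧ χ = Cfsg.indFun N φ := by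
  classical
  haveI : Fintype N := Fintype.ofFinite N
  obtain ⟨φ, hφ, hφc⟩ := CfsgLib.Clifford.exists_constituent_res N hχ
  have hφ1 : φ ≠ fun _ => 1 := by
    rintro rfl
    obtain ⟨n, hn, hne⟩ := hker
    apply hne
    have h := CfsgLib.Clifford.res_eq N hχ hφ hφc
    have horb : CfsgLib.Clifford.orbit N (fun _ : N => (1 : ℂ)) = {fun _ => 1} := by
      ext f
      rw [CfsgLib.Clifford.mem_orbit, Finset.mem_singleton]
      exact ⟨fun ⟨g, hg⟩ => by rw [← hg]; rfl, fun hf => ⟨1, by rw [hf]; rfl⟩⟩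
    rw [horb, Finset.sum_singleton] at h
    have h1 := congrFun h ⟨n, hn⟩
    have h2 := congrFun h 1
    simp only [Pi.smul_apply, OneMemClass.coe_one] at h1 h2
    rw [h1, h2]
  have hin : ∀ g : G, CfsgLib.CharTwist.conjFun N φ g = φ → g ∈ N := by
    intro g hg
    by_contra hgN
    refine hφ1 (CfsgLib.Char.eq_one_of_conjFun_eq N g (fun k hk hgk => ?_) φ hφ hg)
    by_contra hk1
    exact hgN (hC k hk hk1 (Subgroup.mem_centralizer_singleton_iff.2 hgk))
  have hind := CfsgLib.Char.isIrrCharacter_indFun_of_inertia N φ hφ hin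
  refine ⟨φ, hφ, CfsgLib.Char.eq_of_classInner_ne_zero hχ hind ?_⟩
  rw [← CfsgLib.Char.classInner_conj_symm, CfsgLib.Char.classInner_indFun _ _ _
    (CfsgLib.Char.IsIrrCharacter.isClassFunction hχ), CfsgLib.Char.classInner_conj_symm]
  exact hφc

end Cfsg.Agent.S1528
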