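import Cfsg.Statements.S1505
import Cfsg.Agent.Lib.OddChar.CyclicTI

set_option autoImplicit false
open Cfsg

namespace Cfsg.Agent.S1505

open Classical in
/-- Let W₁, W₂ ≤ G form a self-normalising cyclic subgroup W = W₁ ⊔ W₂. For nontrivial linear characters φ, φ' of W trivial on W₂ and ψ, ψ' trivial on W₁, put α = (1 − φ)(1 − ψ) and α' = (1 − φ')(1 − ψ'). Then the function induced from α to G has inner product 1 with the principal character, and the inner product of the functions induced from α and α' is 1 + a + b + ab where a = 1 if φ = φ' (else 0) and b = 1 if ψ = ψ' (else 0). -/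
theorem result {G : Type*} [Group G] [Fintype G] (W₁ W₂ : Subgroup G) (hW : Cfsg.IsSelfNormalizingCyclic W₁ W₂) (φ φ' ψ ψ' : ↥(W₁ ⊔ W₂) →* ℂˣ) (hφ : φ ≠ 1) (hφ' : φ' ≠ 1) (hψ : ψ ≠ 1) (hψ' : ψ' ≠ 1) (hφ₂ : ∀ w : ↥(W₁ ⊔ W₂), (w : G) ∈ W₂ → φ w = 1 ∧ φ' w = 1) (hψ₁ : ∀ w : ↥(W₁ ⊔ W₂), (w : G) ∈ W₁ → ψ w = 1 ∧ ψ' w = 1) : Cfsg.classInner (Cfsg.indFun (W₁ ⊔ W₂) (fun w => 1 - (φ w : ℂ) - (ψ w : ℂ) + (φ w : ℂ) * (ψ w : ℂ))) (fun _ => 1) = 1 ∧ Cfsg.classInner (Cfsg.indFun (W₁ ⊔ W₂) (fun w => 1 - (φ w : ℂ) - (ψ w : ℂ) + (φ w : ℂ) * (ψ w : ℂ))) (Cfsg.indFun (W₁ ⊔ W₂) (fun w => 1 - (φ' w : ℂ) - (ψ' w : ℂ) + (φ' w : ℂ) * (ψ' w : ℂ))) = 1 + (if φ = φ' then 1 else 0) + (if ψ = ψ' then 1 else 0) + (if φ = φ' then 1 else 0) * (if ψ = ψ' then 1 else 0) := by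
  classical
  have hφW : ∀ w : ↥(W₁ ⊔ W₂), (w : G) ∈ W₂ → φ w = 1 := fun w h => (hφ₂ w h).1
  have hφW' : ∀ w : ↥(W₁ ⊔ W₂), (w : G) ∈ W₂ → φ' w = 1 := fun w h => (hφ₂ w h).2
  have hψW : ∀ w : ↥(W₁ ⊔ W₂), (w : G) ∈ W₁ → ψ w = 1 := fun w h => (hψ₁ w h).1
  have hψW' : ∀ w : ↥(W₁ ⊔ W₂), (w : G) ∈ W₁ → ψ' w = 1 := fun w h => (hψ₁ w h).2
  -- characters trivial on one factor
  have hne : ∀ f g : ↥(W₁ ⊔ W₂) →* ℂˣ, (∀ w : ↥(W₁ ⊔ W₂), (w : G) ∈ W₂ → f w = 1) →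
      (∀ w : ↥(W₁ ⊔ W₂), (w : G) ∈ W₁ → g w = 1) → f ≠ 1 → f ≠ g := by
    intro f g hf hg h1 e
    exact h1 (CfsgLib.OddChar.sup_hom_ext (fun w hw => by rw [e, hg w hw]; rfl)
      (fun w hw => by rw [hf w hw]; rfl))
  have hpair : ∀ f f' g g' : ↥(W₁ ⊔ W₂) →* ℂˣ, (∀ w : ↥(W₁ ⊔ W₂), (w : G) ∈ W₂ → f w = 1) →
      (∀ w : ↥(W₁ ⊔ W₂), (w : G) ∈ W₂ → f' w = 1) → (∀ w : ↥(W₁ ⊔ W₂), (w : G) ∈ W₁ → g w = 1) →
      (∀ w : ↥(W₁ ⊔ W₂), (w : G) ∈ W₁ → g' w = 1) → f * g = f' * g' → f = f' ∧ g = g' := by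
    intro f f' g g' hf hf' hg hg' e
    constructor
    · refine CfsgLib.OddChar.sup_hom_ext (fun w hw => ?_) (fun w hw => by rw [hf w hw, hf' w hw])
      simpa [hg w hw, hg' w hw] using DFunLike.congr_fun e w
    · refine CfsgLib.OddChar.sup_hom_ext (fun w hw => by rw [hg w hw, hg' w hw]) (fun w hw => ?_)
      simpa [hf w hw, hf' w hw] using DFunLike.congr_fun e w
  have one₁ : ∀ w : ↥(W₁ ⊔ W₂), (w : G) ∈ W₁ → (1 : ↥(W₁ ⊔ W₂) →* ℂˣ) w = 1 := fun _ _ => rfl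
  have one₂ : ∀ w : ↥(W₁ ⊔ W₂), (w : G) ∈ W₂ → (1 : ↥(W₁ ⊔ W₂) →* ℂˣ) w = 1 := fun _ _ => rfl
  set L := fun f : ↥(W₁ ⊔ W₂) →* ℂˣ => (fun w : ↥(W₁ ⊔ W₂) => (f w : ℂ)) with hL
  have hI : ∀ f g, Cfsg.classInner (L f) (L g) = if f = g then (1 : ℂ) else 0 :=
    fun f g => CfsgLib.OddChar.classInner_linearChar f g
  have hA : ∀ f g : ↥(W₁ ⊔ W₂) →* ℂˣ, (fun w => 1 - (f w : ℂ) - (g w : ℂ) + (f w : ℂ) * (g w : ℂ)) =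
      L 1 - L f - L g + L (f * g) := fun f g => CfsgLib.OddChar.tiAlpha_eq_sum f g
  constructor
  · rw [CfsgLib.Char.classInner_indFun _ _ _ (fun _ _ => rfl), hA,
      show (fun _ : ↥(W₁ ⊔ W₂) => (1 : ℂ)) = L 1 from rfl]
    simp only [CfsgLib.Char.classInner_add_left, CfsgLib.Char.classInner_sub_left, hI]
    have h3 : φ * ψ ≠ 1 := fun e => hφ (hpair φ 1 ψ 1 hφW one₂ hψW one₁ (by ext v; simpa using congrArg (fun f : ↥(W₁ ⊔ W₂) →* ℂˣ => (f v : ℂ)) e)).1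
    simp [hφ, hψ, h3]
  · rw [CfsgLib.Char.classInner_indFun _ _ _ (CfsgLib.Char.isClassFunction_indFun _ _)]
    have e : Cfsg.classInner (fun w => 1 - (φ w : ℂ) - (ψ w : ℂ) + (φ w : ℂ) * (ψ w : ℂ))
        (fun h : ↥(W₁ ⊔ W₂) => Cfsg.indFun (W₁ ⊔ W₂)
          (fun w => 1 - (φ' w : ℂ) - (ψ' w : ℂ) + (φ' w : ℂ) * (ψ' w : ℂ)) h) =
        Cfsg.classInner (CfsgLib.OddChar.tiAlpha φ ψ) (CfsgLib.OddChar.tiAlpha φ' ψ') := by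
      unfold Cfsg.classInner
      congr 1
      refine Finset.sum_congr rfl fun w _ => ?_
      by_cases h : (w : G) ∈ W₁ ∨ (w : G) ∈ W₂
      · simp only [← show CfsgLib.OddChar.tiAlpha φ ψ w = 1 - (φ w : ℂ) - (ψ w : ℂ) + (φ w : ℂ) * (ψ w : ℂ) from rfl,
          CfsgLib.OddChar.tiAlpha_eq_zero hφW hψW h, zero_mul]
      · rw [not_or] at h
        have := CfsgLib.OddChar.indFun_apply_of_selfNormalizingCyclic hW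
          (CfsgLib.OddChar.tiAlpha φ' ψ')
          (fun v hv => CfsgLib.OddChar.tiAlpha_eq_zero hφW' hψW' hv) w h.1 h.2
        exact congrArg (fun z => CfsgLib.OddChar.tiAlpha φ ψ w * (starRingEnd ℂ) z) this
    rw [e, CfsgLib.OddChar.tiAlpha_eq_sum, CfsgLib.OddChar.tiAlpha_eq_sum]
    simp only [CfsgLib.Char.classInner_add_left, CfsgLib.Char.classInner_sub_left,
      CfsgLib.Char.classInner_add_right, CfsgLib.Char.classInner_sub_right,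
      show ∀ f : ↥(W₁ ⊔ W₂) →* ℂˣ, (fun w : ↥(W₁ ⊔ W₂) => (f w : ℂ)) = L f from fun _ => rfl, hI]
    have a1 : φ ≠ ψ' := hne φ ψ' hφW hψW' hφ
    have a2 : ψ ≠ φ' := fun h => hne φ' ψ hφW' hψW hφ' h.symm
    have a3 : φ ≠ φ' * ψ' := fun h => hψ' (hpair φ φ' 1 ψ' hφW hφW' one₁ hψW' (by ext v; simpa using congrArg (fun f : ↥(W₁ ⊔ W₂) →* ℂˣ => (f v : ℂ)) h)).2.symm
    have a4 : ψ ≠ φ' * ψ' := fun h => hφ' (hpair 1 φ' ψ ψ' one₂ hφW' hψW hψW' (by ext v; simpa using congrArg (fun f : ↥(W₁ ⊔ W₂) →* ℂˣ => (f v : ℂ)) h)).1.symm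
    have a5 : φ * ψ ≠ φ' := fun h => hψ (hpair φ φ' ψ 1 hφW hφW' hψW one₁ (by ext v; simpa using congrArg (fun f : ↥(W₁ ⊔ W₂) →* ℂˣ => (f v : ℂ)) h)).2
    have a6 : φ * ψ ≠ ψ' := fun h => hφ (hpair φ 1 ψ ψ' hφW one₂ hψW hψW' (by ext v; simpa using congrArg (fun f : ↥(W₁ ⊔ W₂) →* ℂˣ => (f v : ℂ)) h)).1
    have a7 : (1 : ↥(W₁ ⊔ W₂) →* ℂˣ) ≠ φ' * ψ' := fun h =>
      hφ' (hpair 1 φ' 1 ψ' one₂ hφW' one₁ hψW' (by ext v; simpa using congrArg (fun f : ↥(W₁ ⊔ W₂) →* ℂˣ => (f v : ℂ)) h)).1.symm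
    have a8 : φ * ψ ≠ 1 := fun h => hφ (hpair φ 1 ψ 1 hφW one₂ hψW one₁ (by ext v; simpa using congrArg (fun f : ↥(W₁ ⊔ W₂) →* ℂˣ => (f v : ℂ)) h)).1
    have a9 : (φ * ψ = φ' * ψ') ↔ (φ = φ' ∧ ψ = ψ') :=
      ⟨hpair φ φ' ψ ψ' hφW hφW' hψW hψW', fun h => by rw [h.1, h.2]⟩
    simp only [if_neg a1, if_neg a2, if_neg a3, if_neg a4, if_neg a5, if_neg a6, if_neg a7,
      if_neg a8, if_neg hφ, if_neg hψ, if_neg (Ne.symm hφ'), if_neg (Ne.symm hψ'), a9, ite_and,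
      if_true]
    split_ifs <;> simp

end Cfsg.Agent.S1505
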