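import Cfsg.Statements.S1374
import Cfsg.Agent.S1378
import Cfsg.Agent.Lib.OddOrder.SigmaSignalizer

set_option autoImplicit false
open Cfsg

namespace Cfsg.Agent.S1374

/-- Let G be a minimal simple group of odd order, M a maximal subgroup and x a non-identity element of M_σ. Then C_M(x) has order coprime to its index in C_G(x), and C_G(x) has a normal subgroup R complementing C_M(x) such that for every conjugate gMg⁻¹ containing x there is exactly one r ∈ R with rMr⁻¹ = gMg⁻¹. -/
theorem result {G : Type*} [Group G] [Finite G] (hG : Cfsg.IsMinSimpleOddOrder G)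
    (M : Subgroup G) (hM : IsCoatom M) (x : G) (hx : x ∈ Cfsg.sigmaCore M) (hx1 : x ≠ 1) :
    (Nat.card ↥(M ⊓ Subgroup.centralizer ({x} : Set G))).Coprime ((M ⊓ Subgroup.centralizer ({x} : Set G)).relIndex (Subgroup.centralizer ({x} : Set G))) ∧
      ∃ R : Subgroup G, Subgroup.centralizer ({x} : Set G) ≤ Subgroup.normalizer (R : Set G) ∧ Cfsg.IsComplIn (M ⊓ Subgroup.centralizer ({x} : Set G)) R (Subgroup.centralizer ({x} : Set G)) ∧
        ∀ g : G, x ∈ M.map (MulAut.conj g).toMonoidHom → ∃! r : G, r ∈ R ∧ M.map (MulAut.conj r).toMonoidHom = M.map (MulAut.conj g).toMonoidHom := by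
  set C := Subgroup.centralizer ({x} : Set G)
  by_cases hC : C ≤ M
  · have hR : Cfsg.IsComplIn (M ⊓ C) ⊥ C := ⟨inf_le_right, bot_le, inf_bot_eq _,
      fun c hc => ⟨c, ⟨hC hc, hc⟩, 1, one_mem _, (mul_one c).symm⟩⟩
    refine ⟨?_, ⊥, ?_, hR, CfsgLib.OddOrder.existsUnique_conj hG hM hx hx1 hR⟩
    · rw [inf_eq_right.2 hC, Subgroup.relIndex_self]
      exact Nat.coprime_one_right _
    · rw [Subgroup.normalizer_eq_top]; exact le_top
  · obtain ⟨L, hL, hCL, -, -, -, -, hE⟩ :=
      CfsgLib.OddOrder.exists_supporting hG hM (Cfsg.Agent.S1378.result hG).2 hx hx1 hC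
    obtain ⟨hn, hR, hco⟩ := CfsgLib.OddOrder.centralizer_split hG hM
      (CfsgLib.OddOrder.piCoreOf_le _ _ hx) hL hCL hE
    exact ⟨hco, _, hn, hR, CfsgLib.OddOrder.existsUnique_conj hG hM hx hx1 hR⟩


end Cfsg.Agent.S1374
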