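import Cfsg.Statements.S1527
import Cfsg.Agent.Lib.OddChar.Coprime

set_option autoImplicit false
open Cfsg

namespace Cfsg.Agent.S1527

/-- Let G be a finite group and H i (i in a finite index type) subgroups of pairwise coprime orders, each of whose underlying sets is a TI-subset of G, such that every non-identity element of G is conjugate to an element of some H i. Then Nat.card G − 1 = Σ_i [G : N_G(H i)] · (Nat.card (H i) − 1). -/
theorem result {G : Type*} [Group G] [Finite G] {ι : Type*} [Fintype ι] (H : ι → Subgroup G) (hcop : ∀ i j, i ≠ j → Nat.Coprime (Nat.card (H i)) (Nat.card (H j))) (hTI : ∀ i, Cfsg.IsTISubset (H i : Set G)) (hcover : ∀ g : G, g ≠ 1 → ∃ i, ∃ x : G, x * g * x⁻¹ ∈ H i) : Nat.card G - 1 = ∑ i, (Subgroup.normalizer (H i : Set G)).index * (Nat.card (H i) - 1) := by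
  classical
  haveI : Fintype G := Fintype.ofFinite G
  let e : (i : ι) → (G ⧸ Subgroup.normalizer (H i : Set G)) × {h : H i // h ≠ 1} → {g : G // g ≠ 1} :=
    fun i p => ⟨p.1.out * (p.2.1 : G) * p.1.out⁻¹, fun h => p.2.2 (Subtype.ext (conj_eq_one_iff.1 h))⟩
  let E : ((i : ι) × ((G ⧸ Subgroup.normalizer (H i : Set G)) × {h : H i // h ≠ 1})) → {g : G // g ≠ 1} :=
    fun x => e x.1 x.2
  have hE : Function.Bijective E := by
    constructor
    · rintro ⟨i, q, h⟩ ⟨j, q', h'⟩ he
      have he' : q.out * (h.1 : G) * q.out⁻¹ = q'.out * (h'.1 : G) * q'.out⁻¹ := congrArg Subtype.val he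
      have hconj : (q'.out⁻¹ * q.out) * (h.1 : G) * (q'.out⁻¹ * q.out)⁻¹ = h'.1 := by
        calc _ = q'.out⁻¹ * (q.out * (h.1 : G) * q.out⁻¹) * q'.out := by group
          _ = _ := by rw [he']; group
      have hij : i = j := by
        by_contra hij
        have h1 : (h.1 : G) ^ Nat.card (H i) = 1 := CfsgLib.OddChar.pow_card_mem h.1.2
        have h2 : (h'.1 : G) ^ Nat.card (H i) = 1 := by rw [← hconj, conj_pow, h1]; group
        refine h'.2 (Subtype.ext (orderOf_eq_one_iff.1 (Nat.eq_one_of_dvd_coprimes (hcop i j hij)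
          (orderOf_dvd_of_pow_eq_one h2)
          (orderOf_dvd_of_pow_eq_one (CfsgLib.OddChar.pow_card_mem h'.1.2)))))
      subst hij
      have hN : q'.out⁻¹ * q.out ∈ Subgroup.normalizer (H i : Set G) := by
        by_contra hn
        exact h.2 (Subtype.ext (hTI i _ hn _ h.1.2 (hconj ▸ h'.1.2)))
      have hq : q' = q := by
        rw [← q'.out_eq, ← q.out_eq]
        exact QuotientGroup.eq.2 hN
      subst hq
      have : (h.1 : G) = h'.1 := by simpa using he'
      rw [Subtype.ext (Subtype.ext this)]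
    · rintro ⟨g, hg⟩
      obtain ⟨i, x, hx⟩ := hcover g hg
      set N := Subgroup.normalizer (H i : Set G) with hNdef
      let q : G ⧸ N := QuotientGroup.mk x⁻¹
      have hn : x * q.out ∈ N := by
        have h1 : (QuotientGroup.mk x⁻¹ : G ⧸ N) = QuotientGroup.mk q.out := (q.out_eq).symm
        simpa using QuotientGroup.eq.1 h1
      have hh : q.out⁻¹ * g * q.out ∈ H i := by
        have h1 := (Subgroup.mem_normalizer_iff.1 (inv_mem hn) (x * g * x⁻¹)).1 hx
        simpa [mul_assoc] using h1
      refine ⟨⟨i, q, ⟨⟨_, hh⟩, ?_⟩⟩, Subtype.ext ?_⟩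
      · intro h
        exact hg (conj_eq_one_iff.1 (show q.out⁻¹ * g * (q.out⁻¹)⁻¹ = 1 by
          simpa using congrArg Subtype.val h))
      · simp [E, e, mul_assoc]
  have hc := Nat.card_eq_of_bijective E hE
  rw [Nat.card_sigma] at hc
  have hne : ∀ (K : Type _) [Group K] [Finite K], Nat.card {x : K // x ≠ 1} = Nat.card K - 1 := by
    intro K _ _
    haveI : Fintype K := Fintype.ofFinite K
    simp [Nat.card_eq_fintype_card, Fintype.card_subtype_compl]
  rw [← hne G, ← hc]
  refine Finset.sum_congr rfl fun i _ => ?_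
  rw [Nat.card_prod, hne (H i), Subgroup.index_eq_card]

end Cfsg.Agent.S1527
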