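import Cfsg.Statements.S1500
import Cfsg.Agent.Lib.OddChar.Dade

set_option autoImplicit false
open Cfsg

namespace Cfsg.Agent.S1500

/-- Under the Dade hypothesis for (A, L, H), let α be a class function of L vanishing outside A. Then (i) for every class function β of L vanishing outside A, the inner product over G of the Dade images of α and β equals the inner product of α and β over L; and (ii) for every class function χ of G and every function ψ on L whose value at each a ∈ A is the average of χ over the coset a·H(a), the inner product over G of the Dade image of α with χ equals the inner product over L of α with ψ. -/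
theorem result {G : Type*} [Group G] [Fintype G] (A : Set G) (L : Subgroup G) [Fintype L] (H : G → Subgroup G) (hD : Cfsg.DadeHypothesis A L H) (α : L → ℂ) (hα : Cfsg.IsClassFunction L α) (hαA : ∀ x : L, (x : G) ∉ A → α x = 0) : (∀ β : L → ℂ, Cfsg.IsClassFunction L β → (∀ x : L, (x : G) ∉ A → β x = 0) → Cfsg.classInner (Cfsg.dadeIsometry A L H α) (Cfsg.dadeIsometry A L H β) = Cfsg.classInner α β) ∧ (∀ (χ : G → ℂ) (ψ : L → ℂ), Cfsg.IsClassFunction G χ → (∀ a : L, (a : G) ∈ A → ψ a = (Nat.card (H a) : ℂ)⁻¹ * ∑ᶠ u ∈ (H a : Set G), χ (a * u)) → Cfsg.classInner (Cfsg.dadeIsometry A L H α) χ = Cfsg.classInner α ψ) := by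
  classical
  have key : ∀ (χ : G → ℂ) (ψ : L → ℂ), Cfsg.IsClassFunction G χ →
      (∀ a : L, (a : G) ∈ A → ψ a = (Nat.card (H a) : ℂ)⁻¹ * ∑ᶠ u ∈ (H a : Set G), χ (a * u)) →
      Cfsg.classInner (Cfsg.dadeIsometry A L H α) χ = Cfsg.classInner α ψ := by
    intro χ ψ hχ hψ
    have hF : ∀ g x : G, (fun z => Cfsg.dadeIsometry A L H α z * (starRingEnd ℂ) (χ z)) (x * g * x⁻¹) =
        (fun z => Cfsg.dadeIsometry A L H α z * (starRingEnd ℂ) (χ z)) g := by
      intro g x
      simp only [CfsgLib.OddChar.dadeIsometry_isClassFunction hD hα g x, hχ g x]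
    have h := CfsgLib.OddChar.dade_sum_classFun hD (fun z => Cfsg.dadeIsometry A L H α z * (starRingEnd ℂ) (χ z)) hF
    rw [Finset.sum_filter_of_ne (fun g _ hne => by
      by_contra hg
      exact hne (by rw [CfsgLib.OddChar.dadeIsometry_eq_zero hg, zero_mul]))] at h
    rw [Cfsg.classInner, h, Cfsg.classInner]
    congr 1
    refine Finset.sum_congr rfl fun a _ => ?_
    split_ifs with ha
    · rw [hψ a ha, ← finsum_set_coe_eq_finsum_mem, finsum_eq_sum_of_fintype, map_mul, map_inv₀,
        map_natCast, map_sum, Finset.mul_sum, Finset.mul_sum, Finset.mul_sum]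
      refine Finset.sum_congr rfl fun u _ => ?_
      rw [CfsgLib.OddChar.dadeIsometry_apply hD hα a ha u.2 (x := 1) (by group)]
      ring
    · rw [hαA a ha, zero_mul]
  refine ⟨fun β hβ hβA => ?_, key⟩
  refine key _ β (CfsgLib.OddChar.dadeIsometry_isClassFunction hD hβ) fun a ha => ?_
  rw [← finsum_set_coe_eq_finsum_mem, finsum_eq_sum_of_fintype,
    Finset.sum_congr rfl (fun u _ => CfsgLib.OddChar.dadeIsometry_apply hD hβ a ha u.2 (x := 1) (by group)),
    Finset.sum_const, Finset.card_univ, nsmul_eq_mul, ← mul_assoc, ← Nat.card_eq_fintype_card]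
  rw [show (Nat.card ↥(H (a : G)) : ℂ)⁻¹ * (Nat.card ((H (a : G) : Set G)) : ℂ) = 1 from
    inv_mul_cancel₀ (Nat.cast_ne_zero.2 Nat.card_pos.ne'), one_mul]

end Cfsg.Agent.S1500
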