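import Cfsg.Statements.S1518
import Cfsg.Agent.Lib.OddChar.DadeVirtual
import Cfsg.Agent.Lib.OddChar.Virt
import Cfsg.Agent.Lib.Char.Linear
import Cfsg.Agent.S1500

set_option autoImplicit false
open Cfsg

namespace Cfsg.Agent.S1518

/-- Under the Dade hypothesis for (A, L, H): if χ is an irreducible character of L vanishing at every non-identity element of L outside A, then the Dade image of χ − conj χ equals μ − conj μ for some irreducible character μ of G. -/
theorem result {G : Type*} [Group G] [Fintype G] (A : Set G) (L : Subgroup G) [Fintype L] (H : G → Subgroup G) (hD : Cfsg.DadeHypothesis A L H) (χ : L → ℂ) (hχ : Cfsg.IsIrrCharacter L χ) (hsupp : ∀ x : L, x ≠ 1 → (x : G) ∉ A → χ x = 0) : ∃ μ : G → ℂ, Cfsg.IsIrrCharacter G μ ∧ Cfsg.dadeIsometry A L H (χ - Cfsg.conjFun χ) = μ - Cfsg.conjFun μ := by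
  classical
  have hcc : Cfsg.IsIrrCharacter L (Cfsg.conjFun χ) := CfsgLib.OddChar.isIrrCharacter_conjFun hχ
  set α := χ - Cfsg.conjFun χ with hα
  have hgen : Cfsg.IsGeneralizedCharacter L α :=
    CfsgLib.Char.IsGeneralizedCharacter.sub (CfsgLib.Char.IsIrrCharacter.isGeneralizedCharacter hχ)
      (CfsgLib.Char.IsIrrCharacter.isGeneralizedCharacter hcc)
  have hαA : ∀ x : L, (x : G) ∉ A → α x = 0 := by
    intro x hx
    by_cases h1 : x = 1
    · subst h1
      simp [α, Cfsg.conjFun, CfsgLib.OddChar.conj_apply_one (CfsgLib.Char.IsIrrCharacter.isCharacter hχ)]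
    · simp [α, Cfsg.conjFun, hsupp x h1 hx]
  have hcl := CfsgLib.Char.IsGeneralizedCharacter.isClassFunction hgen
  by_cases heq : Cfsg.conjFun χ = χ
  · refine ⟨fun _ => 1, CfsgLib.Char.isIrrCharacter_principal, ?_⟩
    funext g
    have : α = 0 := by rw [hα, heq, sub_self]
    rw [this]
    simp [Cfsg.dadeIsometry, Cfsg.conjFun]
  · set τα := Cfsg.dadeIsometry A L H α with hτ
    have h2 : Cfsg.classInner τα τα = 2 := by
      rw [(Cfsg.Agent.S1500.result A L H hD α hcl hαA).1 α hcl hαA, hα,
        CfsgLib.Char.classInner_sub_left, CfsgLib.Char.classInner_sub_right,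
        CfsgLib.Char.classInner_sub_right, CfsgLib.Char.classInner_irr_self hχ,
        CfsgLib.Char.classInner_irr_self hcc, CfsgLib.Char.classInner_irr_of_ne hcc hχ heq,
        CfsgLib.Char.classInner_irr_of_ne hχ hcc (Ne.symm heq)]
      norm_num
    have hone : τα 1 = 0 := by
      apply CfsgLib.OddChar.dadeIsometry_eq_zero
      rintro ⟨a, ha, u, hu, x, e⟩
      have e' : a * u = 1 := by rw [← e]; group
      have h3 := (CfsgLib.OddChar.dade_pow_card_eq_one hD ha)
      have haH : a ∈ H a := by
        have := (H a).inv_mem hu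
        rwa [← inv_eq_of_mul_eq_one_right e', inv_inv] at this
      have : a ∈ H a ⊓ (L ⊓ Subgroup.centralizer ({a} : Set G)) :=
        ⟨haH, hD.subset ha, Subgroup.mem_centralizer_singleton_iff.2 rfl⟩
      rw [hD.inf_eq_bot a ha, Subgroup.mem_bot] at this
      exact hD.one_not_mem (this ▸ ha)
    obtain ⟨a, b, ha, hb, hab, he⟩ := CfsgLib.CharExc.exists_sub_of_norm_two
      (CfsgLib.OddChar.dadeIsometry_isGeneralizedCharacter hD hgen hαA) hone h2
    refine ⟨a, ha, ?_⟩
    have hconj : Cfsg.conjFun τα = -τα := by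
      funext g
      simp only [Cfsg.conjFun, τα, Cfsg.dadeIsometry, Pi.neg_apply]
      split_ifs with h
      · simp [α, Cfsg.conjFun]
      · simp
    rw [show τα = a - b from he, CfsgLib.OddChar.conjFun_sub, neg_sub] at hconj
    have ha' : Cfsg.IsIrrCharacter G (Cfsg.conjFun a) := CfsgLib.OddChar.isIrrCharacter_conjFun ha
    have hb' : Cfsg.IsIrrCharacter G (Cfsg.conjFun b) := CfsgLib.OddChar.isIrrCharacter_conjFun hb
    have h4 := congrArg (fun f => Cfsg.classInner f b) hconj
    simp only [CfsgLib.Char.classInner_sub_left, CfsgLib.Char.classInner_irr_self hb,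
      CfsgLib.Char.classInner_irr_of_ne ha hb hab, sub_zero,
      CfsgLib.Char.classInner_irr ha' hb, CfsgLib.Char.classInner_irr hb' hb] at h4
    by_cases h5 : Cfsg.conjFun a = b
    · rw [show τα = a - b from he, h5]
    · rw [if_neg h5] at h4
      split_ifs at h4 <;> norm_num at h4

end Cfsg.Agent.S1518
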