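import Cfsg.Statements.S1536
import Cfsg.Agent.Lib.OddChar.Coprime
import Cfsg.Agent.Lib.Char.Conj
import Cfsg.Agent.Lib.Char.Linear

set_option autoImplicit false
open Cfsg

namespace Cfsg.Agent.S1536

/-- Let H be a normal subgroup of the finite group M whose order is coprime to its index. For x ∈ M: some non-principal irreducible character of H is unchanged under h ↦ θ(x h x⁻¹) if and only if some non-identity element of H commutes with x. -/
theorem result {M : Type*} [Group M] [Finite M] (H : Subgroup M) [hN : H.Normal] (hHall : Nat.Coprime (Nat.card H) H.index) (x : M) : (∃ θ : H → ℂ, Cfsg.IsIrrCharacter H θ ∧ θ ≠ (fun _ => 1) ∧ (fun h : H => θ ⟨x * h * x⁻¹, hN.conj_mem h h.2 x⟩) = θ) ↔ ∃ h ∈ H, h ≠ 1 ∧ x * h = h * x := by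
  classical
  haveI : Fintype M := Fintype.ofFinite M
  haveI : Fintype H := Fintype.ofFinite H
  let s : H → H := fun h => ⟨x * h * x⁻¹, hN.conj_mem h h.2 x⟩
  have hs : ∀ χ : H → ℂ, Cfsg.IsIrrCharacter H χ → Cfsg.IsIrrCharacter H (χ ∘ s) := by
    intro χ hχ
    have : χ ∘ s = χ ∘ (MulAut.conjNormal x : MulAut H) := by
      funext h; exact congrArg χ (Subtype.ext (MulAut.conjNormal_apply x h).symm)
    rw [this]
    exact CfsgLib.Char.IsIrrCharacter.comp_mulEquiv hχ _
  have hcard := CfsgLib.Char.card_fixed_irr_eq_card_fixed_classes s hs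
  have hp : ((CfsgLib.Char.principalIrr : Cfsg.IrrCharacter H) : H → ℂ) ∘ s =
      (CfsgLib.Char.principalIrr : Cfsg.IrrCharacter H) := rfl
  have h1c : ∀ g : H, ConjClasses.mk g = ConjClasses.mk 1 → IsConj (s g) g := by
    intro g hg
    have : g = 1 := by
      have := isConj_comm.1 (ConjClasses.mk_eq_mk_iff_isConj.1 hg)
      exact isConj_one_right.1 this
    subst this
    have : s 1 = 1 := Subtype.ext (by simp [s])
    rw [this]
  constructor
  · rintro ⟨θ, hθ, hθ1, hθx⟩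
    have h2 : 1 < Nat.card {χ : Cfsg.IrrCharacter H // (χ : H → ℂ) ∘ s = (χ : H → ℂ)} := by
      rw [Finite.one_lt_card_iff_nontrivial]
      exact ⟨⟨⟨θ, hθ⟩, hθx⟩, ⟨CfsgLib.Char.principalIrr, hp⟩, fun e => hθ1 (congrArg (fun z => z.1.1) e)⟩
    rw [hcard, Finite.one_lt_card_iff_nontrivial] at h2
    obtain ⟨⟨C, hCfix⟩, hCne⟩ := exists_ne (⟨ConjClasses.mk 1, h1c⟩ :
      {C : ConjClasses H // ∀ g : H, ConjClasses.mk g = C → IsConj (s g) g})
    obtain ⟨k, rfl⟩ := C.exists_rep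
    have hk1 : (k : M) ≠ 1 := fun h => hCne (Subtype.ext (congrArg ConjClasses.mk (Subtype.ext h)))
    obtain ⟨c, hc⟩ := isConj_iff.1 (hCfix k rfl)
    have hc' : (c : M) * (x * k * x⁻¹) * (c : M)⁻¹ = k := congrArg Subtype.val hc
    by_cases hxi : x ^ H.index = 1
    swap
    · exact ⟨x ^ H.index, H.pow_index_mem x, hxi, (Commute.pow_right (Commute.refl x) _).eq⟩
    have hcop : Nat.Coprime (orderOf x) (Nat.card H) :=
      hHall.symm.coprime_dvd_left (orderOf_dvd_of_pow_eq_one hxi)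
    have hnorm : x ∈ Subgroup.normalizer (H : Set M) := Subgroup.mem_normalizer_iff.2 fun z =>
      ⟨fun hz => hN.conj_mem z hz x, fun hz => by simpa [mul_assoc] using hN.conj_mem _ hz x⁻¹⟩
    obtain ⟨y, hy, d, hd, hdx, hyd⟩ :=
      CfsgLib.OddChar.exists_conj_centralizer_coset H x hnorm hcop c c.2
    obtain ⟨m, hm⟩ := CfsgLib.OddChar.exists_pow_split (G := M) hcop
    have hdxm : (d * x) ^ m = x := by
      rw [hdx]
      exact hm x d hdx.symm (pow_orderOf_eq_one x) (CfsgLib.OddChar.pow_card_mem hd)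
    have h4 : Commute ((c : M) * x) k := by
      show (c : M) * x * k = k * ((c : M) * x)
      conv_rhs => rw [← hc']
      group
    have h5 : Commute (d * x) (y * k * y⁻¹) := by
      rw [← hyd]
      show y * ((c : M) * x) * y⁻¹ * (y * k * y⁻¹) = y * k * y⁻¹ * (y * ((c : M) * x) * y⁻¹)
      calc _ = y * ((c : M) * x * k) * y⁻¹ := by group
        _ = y * ((k : M) * ((c : M) * x)) * y⁻¹ := by rw [h4.eq]
        _ = _ := by group
    refine ⟨y * k * y⁻¹, H.mul_mem (H.mul_mem hy k.2) (H.inv_mem hy), ?_, ?_⟩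
    · exact fun h => hk1 (conj_eq_one_iff.1 h)
    · have := (h5.pow_left m).eq
      rwa [hdxm] at this
  · rintro ⟨h, hh, hh1, hhx⟩
    have h2 : 1 < Nat.card {C : ConjClasses H // ∀ g : H, ConjClasses.mk g = C → IsConj (s g) g} := by
      rw [Finite.one_lt_card_iff_nontrivial]
      refine ⟨⟨ConjClasses.mk ⟨h, hh⟩, fun g hg => ?_⟩, ⟨ConjClasses.mk 1, h1c⟩, fun e => ?_⟩
      · obtain ⟨c, hc⟩ := isConj_iff.1 (ConjClasses.mk_eq_mk_iff_isConj.1 hg)
        -- `s` fixes `h`
        have hfix : s (c * g * c⁻¹) = c * g * c⁻¹ := by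
          rw [hc]; exact Subtype.ext (show x * h * x⁻¹ = h by rw [hhx]; group)
        refine isConj_iff.2 ⟨c⁻¹ * s c, ?_⟩
        have hsm : s (c * g * c⁻¹) = s c * s g * (s c)⁻¹ := Subtype.ext (by simp [s, mul_assoc])
        calc c⁻¹ * s c * s g * (c⁻¹ * s c)⁻¹ = c⁻¹ * (s c * s g * (s c)⁻¹) * c := by group
          _ = g := by rw [← hsm, hfix]; group
      · have := ConjClasses.mk_eq_mk_iff_isConj.1 (congrArg Subtype.val e)
        exact hh1 (congrArg Subtype.val (isConj_one_left.1 this))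
    rw [← hcard, Finite.one_lt_card_iff_nontrivial] at h2
    obtain ⟨⟨θ, hθ⟩, hne⟩ := exists_ne (⟨CfsgLib.Char.principalIrr, hp⟩ :
      {χ : Cfsg.IrrCharacter H // (χ : H → ℂ) ∘ s = (χ : H → ℂ)})
    exact ⟨θ.1, θ.2, fun e => hne (Subtype.ext (Subtype.ext e)), hθ⟩

end Cfsg.Agent.S1536
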