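import Cfsg.Statements.S1470
import Mathlib.FieldTheory.Finite.GaloisField
import Mathlib.FieldTheory.Finite.Trace
import Mathlib.Algebra.Polynomial.Roots
import Mathlib.RingTheory.Norm.Basic
import Mathlib.Algebra.CharP.Lemmas
import Mathlib.Tactic.FieldSimp
import Mathlib.Tactic.Ring

set_option autoImplicit false
open Cfsg

namespace Cfsg.Agent.S1470

/-- Let p and q be odd primes with (p^q − 1)/(p − 1) coprime to p − 1, and let E be the set of elements a of the field with p ^ q elements whose norm to the prime field is 1 and for which 2 − a also has norm 1. If a⁻¹ ∈ E for every a ∈ E and E has at least two elements, then p ≤ q. -/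
theorem result (p q : ℕ) [Fact p.Prime] [Fact q.Prime] (hp : p ≠ 2) (hq : q ≠ 2) (hA : Nat.Coprime ((p ^ q - 1) / (p - 1)) (p - 1))
    (hinv : ∀ a ∈ {a : GaloisField p q | Algebra.norm (ZMod p) a = 1 ∧ Algebra.norm (ZMod p) (2 - a) = 1}, a⁻¹ ∈ {a : GaloisField p q | Algebra.norm (ZMod p) a = 1 ∧ Algebra.norm (ZMod p) (2 - a) = 1})
    (h2 : 2 ≤ Set.ncard {a : GaloisField p q | Algebra.norm (ZMod p) a = 1 ∧ Algebra.norm (ZMod p) (2 - a) = 1}) :
    p ≤ q := by
  classical
  obtain ⟨a, ⟨haN, haN'⟩, ha1⟩ : ∃ a ∈ {a : GaloisField p q | Algebra.norm (ZMod p) a = 1 ∧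
      Algebra.norm (ZMod p) (2 - a) = 1}, a ≠ 1 := Set.exists_ne_of_one_lt_ncard h2 1
  haveI : Finite (GaloisField p q) := Module.finite_of_finite (ZMod p)
  haveI : CharP (GaloisField p q) p := charP_of_injective_algebraMap
    (algebraMap (ZMod p) (GaloisField p q)).injective p
  set d : GaloisField p q := 1 - a with hd
  have hd0 : d ≠ 0 := sub_ne_zero.mpr (Ne.symm ha1)
  let D : ℕ → GaloisField p q := fun k => 1 + (k : GaloisField p q) * d
  have hne : ∀ x : GaloisField p q, Algebra.norm (ZMod p) x = 1 → x ≠ 0 := by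
    intro x hx h0
    rw [h0, Algebra.norm_zero] at hx
    exact zero_ne_one hx
  have hdiv : ∀ x y : GaloisField p q, Algebra.norm (ZMod p) y = 1 →
      Algebra.norm (ZMod p) (x / y) = Algebra.norm (ZMod p) x := by
    intro x y hy
    have h := map_mul (Algebra.norm (ZMod p)) (x / y) y
    rw [div_mul_cancel₀ _ (hne _ hy), hy, mul_one] at h
    exact h.symm
  have key : ∀ k, Algebra.norm (ZMod p) (D k) = 1 ∧ Algebra.norm (ZMod p) (D (k + 1)) = 1 ∧
      D k / D (k + 1) ∈ {a : GaloisField p q | Algebra.norm (ZMod p) a = 1 ∧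
        Algebra.norm (ZMod p) (2 - a) = 1} := by
    intro k
    induction k with
    | zero =>
      have h0 : D 0 = 1 := by simp [D]
      have h1 : D 1 = 2 - a := by simp [D, d]; ring
      have h3 : (2 - a)⁻¹ ∈ {a : GaloisField p q | Algebra.norm (ZMod p) a = 1 ∧
          Algebra.norm (ZMod p) (2 - a) = 1} := by
        apply hinv
        exact ⟨haN', by rw [sub_sub_cancel]; exact haN⟩
      rw [h0, h1, one_div]
      exact ⟨map_one _, haN', h3⟩
    | succ k ih =>
      obtain ⟨h1, h2', h3⟩ := ih
      have hD0 := hne _ h1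
      have hD1 := hne _ h2'
      have heq : 2 - D k / D (k + 1) = D (k + 1 + 1) / D (k + 1) := by
        rw [eq_div_iff hD1, sub_mul, div_mul_cancel₀ _ hD1]
        simp [D]; ring
      have hN2 : Algebra.norm (ZMod p) (D (k + 1 + 1)) = 1 := by
        have := h3.2
        rw [heq, hdiv _ _ h2'] at this
        exact this
      refine ⟨h2', hN2, ?_⟩
      have h4 : D (k + 1 + 1) / D (k + 1) ∈ {a : GaloisField p q | Algebra.norm (ZMod p) a = 1 ∧
          Algebra.norm (ZMod p) (2 - a) = 1} := by
        refine ⟨by rw [hdiv _ _ h2', hN2], ?_⟩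
        rw [← heq, sub_sub_cancel]; exact h3.1
      have := hinv _ h4
      rwa [inv_div] at this
  let f : Polynomial (GaloisField p q) :=
    (∏ i ∈ Finset.range q, (Polynomial.C (d ^ (p ^ i)) * Polynomial.X + Polynomial.C 1)) - 1
  have hcn : ∀ (i k : ℕ), (k : GaloisField p q) ^ (p ^ i) = k := by
    intro i k
    have := map_natCast (iterateFrobenius (GaloisField p q) p i) k
    rwa [iterateFrobenius_def] at this
  have hroot : ∀ k : ℕ, f.eval (k : GaloisField p q) = 0 := by
    intro k
    have h := congrArg (algebraMap (ZMod p) (GaloisField p q)) (key k).1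
    rw [FiniteField.algebraMap_norm_eq_prod_pow, map_one, GaloisField.finrank p
      (Fact.out : q.Prime).ne_zero, Nat.card_zmod] at h
    simp only [f, Polynomial.eval_sub, Polynomial.eval_one, Polynomial.eval_prod,
      Polynomial.eval_add, Polynomial.eval_mul, Polynomial.eval_C, Polynomial.eval_X, sub_eq_zero]
    refine Eq.trans (Finset.prod_congr rfl fun i _ => ?_) h
    simp only [D, add_pow_char_pow, one_pow, mul_pow, hcn]
    ring
  have hdeg : (∏ i ∈ Finset.range q,
      (Polynomial.C (d ^ (p ^ i)) * Polynomial.X + Polynomial.C 1)).natDegree = q := by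
    have hl : ∀ i, (Polynomial.C (d ^ (p ^ i)) * Polynomial.X + Polynomial.C 1).natDegree = 1 :=
      fun i => Polynomial.natDegree_linear (pow_ne_zero _ hd0)
    rw [Polynomial.natDegree_prod _ _ fun i _ h => absurd (hl i) (by rw [h, Polynomial.natDegree_zero]; exact zero_ne_one),
      Finset.sum_congr rfl fun i _ => hl i, Finset.sum_const, Finset.card_range, smul_eq_mul,
      mul_one]
  have hfdeg : f.natDegree = q := by
    simp only [f]
    rw [Polynomial.natDegree_sub_eq_left_of_natDegree_lt, hdeg]
    rw [hdeg, Polynomial.natDegree_one]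
    exact (Fact.out : q.Prime).pos
  have hf0 : f ≠ 0 := by
    intro h
    rw [h, Polynomial.natDegree_zero] at hfdeg
    exact (Fact.out : q.Prime).ne_zero hfdeg.symm
  have hinj : Set.InjOn (fun k : ℕ => (k : GaloisField p q)) (Finset.range p) := by
    intro i hi j hj hij
    rw [Finset.coe_range, Set.mem_Iio] at hi hj
    exact Nat.ModEq.eq_of_lt_of_lt ((CharP.natCast_eq_natCast (GaloisField p q) p).mp hij) hi hj
  calc p = ((Finset.range p).image (fun k : ℕ => (k : GaloisField p q))).card := by
        rw [Finset.card_image_of_injOn hinj, Finset.card_range]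
    _ ≤ f.natDegree := by
        apply Polynomial.card_le_degree_of_subset_roots
        intro x hx
        rw [Finset.mem_val, Finset.mem_image] at hx
        obtain ⟨k, _, rfl⟩ := hx
        rw [Polynomial.mem_roots']
        exact ⟨hf0, hroot k⟩
    _ = q := hfdeg

end Cfsg.Agent.S1470
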