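import Cfsg.Statements.S1471
import Cfsg.Agent.Lib.OddOrder.NormPair

set_option autoImplicit false
open Cfsg

namespace Cfsg.Agent.S1471

/-- Let p and q be odd primes with (p^q − 1)/(p − 1) coprime to p − 1. Then there are at least two elements a of the field with p ^ q elements such that both a and 2 − a have norm 1 to the prime field. -/
theorem result (p q : ℕ) [Fact p.Prime] [Fact q.Prime] (hp : p ≠ 2) (hq : q ≠ 2) (hA : Nat.Coprime ((p ^ q - 1) / (p - 1)) (p - 1)) :
    2 ≤ Set.ncard {a : GaloisField p q | Algebra.norm (ZMod p) a = 1 ∧ Algebra.norm (ZMod p) (2 - a) = 1} := by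
  classical
  haveI : Finite (GaloisField p q) := Module.finite_of_finite (ZMod p)
  haveI := Fintype.ofFinite (GaloisField p q)
  set E : Set (GaloisField p q) :=
    {a : GaloisField p q | Algebra.norm (ZMod p) a = 1 ∧ Algebra.norm (ZMod p) (2 - a) = 1} with hE
  have h1E : (1 : GaloisField p q) ∈ E :=
    ⟨map_one _, by rw [show (2 : GaloisField p q) - 1 = 1 by norm_num, map_one]⟩
  by_contra hlt
  have hall : ∀ a ∈ E, a = 1 := by
    intro a ha
    by_contra hne
    exact hlt ((Set.one_lt_ncard_iff E.toFinite).mpr ⟨a, 1, ha, h1E, hne⟩)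
  rcases eq_or_ne q 3 with rfl | hq3
  · obtain ⟨a, ha1, haN, haN'⟩ := CfsgLib.OddOrder.exists_norm_pair_three (p := p) hp
    exact ha1 (hall a ⟨haN, haN'⟩)
  have hp' : p.Prime := Fact.out
  have hq' : q.Prime := Fact.out
  have hq5 : 5 ≤ q := by
    have := hq'.two_le
    by_contra h
    interval_cases q
    · exact hq rfl
    · exact hq3 rfl
    · exact absurd hq' (by decide)
  have hp3 : 3 ≤ p := lt_of_le_of_ne hp'.two_le (Ne.symm hp)
  let U : Finset (GaloisField p q) :=
    Finset.univ.filter fun a => Algebra.norm (ZMod p) a = 1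
  have hU : U.card * (p - 1) = p ^ q - 1 := by
    rw [← CfsgLib.OddOrder.card_norm_eq_one p q, ← Set.ncard_coe_finset]
    congr 2
    ext a; simp [U]
  have h2 : (2 : GaloisField p q) ≠ 0 := by
    haveI : CharP (GaloisField p q) p := charP_of_injective_algebraMap
      (algebraMap (ZMod p) (GaloisField p q)).injective p
    intro h
    rw [show (2 : GaloisField p q) = ((2 : ℕ) : GaloisField p q) by norm_num,
      CharP.cast_eq_zero_iff _ p] at h
    exact hp ((Nat.prime_dvd_prime_iff_eq hp' Nat.prime_two).mp h)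
  have hkey := CfsgLib.OddOrder.card_sq_le_of_few_pairs U
    (by simp [U, Algebra.norm_zero]) (fun u hu v hv => by
      simp only [U, Finset.mem_filter, Finset.mem_univ, true_and] at hu hv ⊢
      rw [map_mul, hv, hu, one_mul]) 2 h2
  have hfil : (U.filter fun u => 2 - u ∈ U) = {1} := by
    ext a
    simp only [U, Finset.mem_filter, Finset.mem_univ, true_and, Finset.mem_singleton]
    exact ⟨fun h => hall a h, fun h => h ▸ h1E⟩
  rw [hfil, Finset.card_singleton, Nat.cast_one, mul_one, Fintype.card_eq_nat_card,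
    GaloisField.card p q hq'.ne_zero] at hkey
  push_cast at hkey
  have hn : p ^ (q - 1) ≤ U.card := by
    have h1 : p ^ (q - 1) * (p - 1) ≤ U.card * (p - 1) := by
      rw [hU, Nat.mul_sub_one, ← pow_succ, Nat.sub_add_cancel hq'.one_le]
      exact Nat.sub_le_sub_left (Nat.one_le_pow _ _ hp'.pos) _
    exact Nat.le_of_mul_le_mul_right h1 (by omega)
  obtain ⟨r, rfl⟩ : ∃ r, q = r + 2 := ⟨q - 2, by omega⟩
  set x : ℝ := (p : ℝ) with hx
  have hx3 : (3 : ℝ) ≤ x := by simp only [hx]; exact_mod_cast hp3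
  have hX : (27 : ℝ) ≤ x ^ r := calc
    (27 : ℝ) = 3 ^ 3 := by norm_num
    _ ≤ x ^ 3 := by gcongr
    _ ≤ x ^ r := pow_le_pow_right₀ (by linarith) (by omega)
  have hxr : x ^ 3 ≤ x ^ r := pow_le_pow_right₀ (by linarith) (by omega)
  have hn' : (x ^ (r + 1)) ^ 2 ≤ (U.card : ℝ) ^ 2 := by
    gcongr
    simp only [hx]
    exact_mod_cast hn
  set P : ℝ := x ^ (r + 2) with hP
  have hsq : (x ^ (r + 1)) ^ 2 = P * x ^ r := by rw [hP]; ring
  have hPp : (0 : ℝ) < P := by positivity
  have hlow : (P * (x ^ r - 1)) ^ 2 ≤ P ^ 3 := by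
    refine le_trans ?_ hkey
    gcongr
    · exact mul_nonneg hPp.le (by linarith)
    · rw [mul_sub, mul_one, ← hsq]; linarith
  have hcontra : P < (x ^ r - 1) ^ 2 := by
    have hPx : P * x ≤ x ^ r * x ^ r := by
      rw [hP, show x ^ (r + 2) * x = x ^ r * x ^ 3 by ring]
      exact mul_le_mul_of_nonneg_left hxr (by positivity)
    have h3P : 3 * P ≤ x ^ r * x ^ r := by nlinarith
    nlinarith
  rw [mul_pow, show P ^ 3 = P ^ 2 * P by ring] at hlow
  have := le_of_mul_le_mul_left hlow (by positivity)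
  linarith

end Cfsg.Agent.S1471
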