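import Cfsg.Statements.S1472
import Cfsg.Agent.Lib.OddChar.FieldConfig
import Cfsg.Agent.S1470
import Cfsg.Agent.S1471
import Mathlib

set_option autoImplicit false
open Cfsg

namespace Cfsg.Agent.S1472

/-- Let p, q be primes with (p^q − 1)/(p − 1) coprime to p − 1, G a finite group, F a field with p ^ q elements, and P, U, Q subgroups of G with: f : G → F bijective from P onto F and additive on P; U normalizing P and acting through ψ : G → F, injective and multiplicative on U with ψ(u) ≠ 0 and f(uxu⁻¹) = ψ(u) f(x); #U · (p − 1) = p^q − 1; Q abelian of order coprime to p, normalized by every x ∈ P with f(x) in the prime field; and some y ∈ Q such that y x y⁻¹ normalizes U for every such x. Then p ≤ q. -/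
theorem result {G : Type*} [Group G] [Finite G] (p q : ℕ) [Fact p.Prime] [Fact q.Prime] (hA : Nat.Coprime ((p ^ q - 1) / (p - 1)) (p - 1))
    (F : Type*) [Field F] [Fintype F] (hF : Fintype.card F = p ^ q) (P U Q : Subgroup G) (f ψ : G → F)
    (hf : Set.BijOn f (P : Set G) Set.univ) (hfadd : ∀ x ∈ P, ∀ z ∈ P, f (x * z) = f x + f z)
    (hUP : U ≤ Subgroup.normalizer (P : Set G)) (hψ : ∀ u ∈ U, ψ u ≠ 0 ∧ ∀ x ∈ P, f (u * x * u⁻¹) = ψ u * f x)
    (hψmul : ∀ u ∈ U, ∀ v ∈ U, ψ (u * v) = ψ u * ψ v) (hψinj : Set.InjOn ψ (U : Set G)) (hUcard : Nat.card U * (p - 1) = p ^ q - 1)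
    (hQ : IsMulCommutative Q) (hQp : (Nat.card Q).Coprime p) (hP0Q : ∀ x ∈ P, f x ^ p = f x → x ∈ Subgroup.normalizer (Q : Set G))
    (y : G) (hy : y ∈ Q) (hP0U : ∀ x ∈ P, f x ^ p = f x → y * x * y⁻¹ ∈ Subgroup.normalizer (U : Set G)) :
    p ≤ q := by
  classical
  by_contra hlt
  rw [not_le] at hlt
  have hp' : p.Prime := Fact.out
  have hq' : q.Prime := Fact.out
  have hpne : p ≠ 2 := by have := hq'.two_le; omega
  have hqne : q ≠ 2 := by
    intro h2
    subst h2
    have hodd := hp'.odd_of_ne_two hpne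
    obtain ⟨k, hk⟩ := hodd
    have hm : (p ^ 2 - 1) / (p - 1) = p + 1 := by
      rw [show p ^ 2 - 1 = (p + 1) * (p - 1) by rw [← Nat.sq_sub_sq, one_pow],
        Nat.mul_div_cancel _ (by omega)]
    rw [hm] at hA
    have h1 : 2 ∣ Nat.gcd (p + 1) (p - 1) := Nat.dvd_gcd (by omega) (by omega)
    rw [hA.gcd_eq_one] at h1
    omega
  haveI : Finite F := Finite.of_fintype F
  have hcard : Nat.card F = p ^ q := by rw [Nat.card_eq_fintype_card, hF]
  haveI hchar : CharP F p := charP_of_card_eq_prime_pow hF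
  have hψP : ∀ u ∈ U, ψ u ≠ 0 ∧ ∀ x ∈ P, u * x * u⁻¹ ∈ P ∧ f (u * x * u⁻¹) = ψ u * f x :=
    fun u hu => ⟨(hψ u hu).1, fun x hx =>
      ⟨(Subgroup.mem_normalizer_iff.1 (hUP hu) x).1 hx, (hψ u hu).2 x hx⟩⟩
  let C : CfsgLib.FieldConfig.Data G F p q :=
    { P := P, U := U, Q := Q, f := f, ψ := ψ, y := y, hcard := hcard, hpq := hlt.ne', hA := hA,
      hf := hf, hfadd := hfadd, hψ := hψP, hψmul := hψmul, hψinj := hψinj, hU := hUcard,
      hQc := fun a ha b hb => congrArg Subtype.val (mul_comm' (⟨a, ha⟩ : Q) ⟨b, hb⟩),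
      hQp := hQp, hnQ := hP0Q, hy := hy, hnU := hP0U }
  haveI : Finite (GaloisField p q) := Module.finite_of_finite (ZMod p)
  haveI := Fintype.ofFinite (GaloisField p q)
  have hKcard : Nat.card (GaloisField p q) = p ^ q := GaloisField.card p q hq'.ne_zero
  let e : GaloisField p q ≃+* F := FiniteField.ringEquivOfCardEq (by
    rw [hF, ← Nat.card_eq_fintype_card, hKcard])
  have hnorm : ∀ a : GaloisField p q, Algebra.norm (ZMod p) a = 1 ↔ ∃ u ∈ U, ψ u = e a := by
    intro a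
    have h1 : algebraMap (ZMod p) (GaloisField p q) (Algebra.norm (ZMod p) a) = a ^ C.m := by
      rw [FiniteField.algebraMap_norm_eq_pow, hKcard, Nat.card_zmod]
      rfl
    constructor
    · intro ha
      rw [ha, map_one] at h1
      exact C.exists_psi (by rw [← map_pow, ← h1, map_one])
    · rintro ⟨u, hu, hua⟩
      refine (algebraMap (ZMod p) (GaloisField p q)).injective ?_
      rw [h1, map_one]
      refine e.injective ?_
      rw [map_pow, map_one, ← hua]
      exact C.psi_pow_m hu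
  refine absurd (Cfsg.Agent.S1470.result p q hpne hqne hA ?_
    (Cfsg.Agent.S1471.result p q hpne hqne hA)) (not_le.2 hlt)
  rintro a ⟨ha, hb⟩
  obtain ⟨u, hu, hua⟩ := (hnorm a).1 ha
  obtain ⟨v, hv, hvb⟩ := (hnorm _).1 hb
  have hsum : C.ψ u + C.ψ v = 2 := by
    show ψ u + ψ v = 2
    rw [hua, hvb, map_sub, map_ofNat]
    ring
  obtain ⟨v', hv', hsum'⟩ := C.inv_closed hpne hu hv hsum
  rw [C.psi_inv hu] at hsum'
  refine ⟨(hnorm _).2 ⟨u⁻¹, inv_mem hu, ?_⟩, (hnorm _).2 ⟨v', hv', ?_⟩⟩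
  · rw [map_inv₀, ← hua]
    exact C.psi_inv hu
  · rw [map_sub, map_ofNat, map_inv₀, ← hua]
    exact eq_sub_of_add_eq' hsum'

end Cfsg.Agent.S1472
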