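import Cfsg.Statements.S0944
import Cfsg.Agent.Lib.Char.Basic

set_option autoImplicit false
open Cfsg

namespace Cfsg.Agent.S0944

/-- Let χ be an irreducible character of the finite group G and u an involution. Then χ u is a rational integer n with n ≡ χ 1 (mod 2). -/
theorem result {G : Type*} [Group G] [Finite G] (χ : Cfsg.IrrCharacter G) (u : G) (hu : orderOf u = 2) : ∃ n : ℤ, (χ : G → ℂ) u = (n : ℂ) ∧ (2 : ℤ) ∣ (Cfsg.charDegree (χ : G → ℂ) : ℤ) - n := by
  obtain ⟨n, ρ, hρ, he⟩ := χ.2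
  obtain ⟨μ, hμ, -, -, hpow⟩ := CfsgLib.Char.exists_eigenvalues ρ u
  rw [hu] at hμ
  have h1 := hpow 1
  simp only [pow_one] at h1
  have hdeg : Cfsg.charDegree (χ : G → ℂ) = Module.finrank ℂ (Fin n → ℂ) := by
    rw [← he]; simp [Cfsg.charDegree]
  have hz : ∀ i, ∃ z : ℤ, μ i = z ∧ (2 : ℤ) ∣ 1 - z := by
    intro i
    rcases sq_eq_one_iff.1 (hμ i) with h | h
    · exact ⟨1, by simp [h], by norm_num⟩
    · exact ⟨-1, by simp [h], by norm_num⟩
  choose z hz hz2 using hz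
  refine ⟨∑ i, z i, ?_, ?_⟩
  · rw [← he, h1]; push_cast; exact Finset.sum_congr rfl fun i _ => hz i
  · have h3 : (Cfsg.charDegree (χ : G → ℂ) : ℤ) - ∑ i, z i = ∑ i, (1 - z i) := by
      rw [hdeg, Finset.sum_sub_distrib]; simp
    rw [h3]
    exact Finset.dvd_sum fun i _ => hz2 i

end Cfsg.Agent.S0944
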