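import Cfsg.Statements.S4646
import Cfsg.Agent.Lib.Blocks.Pairs.Principal
import Cfsg.Agent.Lib.Invol.PrincipalKernel
import Cfsg.Agent.Lib.CharTools.Basic
import Cfsg.Agent.Lib.BlockRank.Basic
import Cfsg.Agent.Lib.Transfer.Tate
import Cfsg.Agent.Lib.Transfer.PResidual

set_option autoImplicit false
open Cfsg CfsgLib.Blocks CfsgLib.Blocks.Pairs

namespace Cfsg.Agent.S4646

variable {G : Type*} [Group G] [Finite G] {p : ℕ} [Fact p.Prime] {M : Ideal AlgInt}

/-- Nilpotency of the principal block is Frobenius' condition. -/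
theorem nilpotent_iff_frobenius (hM : IsPModular p M) :
    IsNilpotentBlock p M (principalBlock M G) ↔
      ∀ D : Subgroup G, IsPGroup p D → ∀ g ∈ Subgroup.normalizer (D : Set G),
        Nat.Coprime (orderOf g) p → g ∈ Subgroup.centralizer (D : Set G) := by
  haveI := isMaximal_of_isPModular hM
  haveI : CharP (ResField M) p := charP_resField hM.1 (natCast_mem_of_isPModular hM)
  have hp : p.Prime := Fact.out
  constructor
  · intro h D hD g hg hco
    have he := isPBlock_principalBlock (G := Subgroup.centralizer (D : Set G)) (M := M)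
    have hgC := normalizer_le_normalizer_centralizer D hg
    refine h.2 D _ ((isBrauerPairOf_iff hM isPBlock_principalBlock he).mpr
      ((pairOf_principal_iff (isBlockIdem_ebar _) aug_ebar_principal (isPair_eIn hD he)).mpr
        ((aug_eIn_eq_one_iff he).mpr rfl))) g hg ((stabilizesBlock_iff he hgC).mpr ?_)
      (hp.coprime_iff_not_dvd.mp hco.symm)
    exact (existsUnique_principal (Subgroup.centralizer (D : Set G))).unique
      ⟨(isBlockIdem_eIn he).conj_of_normalizer hgC,
        by rw [aug_conjA, (aug_eIn_eq_one_iff he).mpr rfl]⟩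
      ⟨isBlockIdem_eIn he, (aug_eIn_eq_one_iff he).mpr rfl⟩
  · intro h
    exact ⟨isPBlock_principalBlock, fun Q e he x hx _ hreg =>
      h Q he.1.1 x hx ((hp.coprime_iff_not_dvd.mpr hreg).symm)⟩

/-- A group with a normal complement has a principal block of rank one. -/
theorem blockRank_eq_one_of_complement (hM : IsPModular p M) (hc : HasNormalPComplement p G) :
    blockRank p (principalBlock M G) = 1 := by
  haveI := isMaximal_of_isPModular hM
  have hp : p.Prime := Fact.out
  obtain ⟨N, hN, hNp, k, hk⟩ :=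
    CfsgLib.Transfer.hasNormalPComplement_iff_exists_normal.mp hc
  haveI := hN
  have hval : ∀ χ ∈ principalBlock M G, ∀ x : G, IsPRegular p x →
      (χ : G → ℂ) x = (χ : G → ℂ) 1 := by
    intro χ hχ x hx
    have h1 : x ∈ N := by
      rw [← QuotientGroup.eq_one_iff, ← orderOf_eq_one_iff]
      have h3 : orderOf (x : G ⧸ N) ∣ p ^ k := hk ▸ orderOf_dvd_natCard _
      exact Nat.eq_one_of_dvd_coprimes
        ((hp.coprime_iff_not_dvd.mpr hx).pow_left k).symm
        (orderOf_map_dvd (QuotientGroup.mk' N) x) h3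
    have h2 := CfsgLib.Invol.apply_mul_of_mem_principalBlock hM hNp hχ h1 1
    rwa [one_mul] at h2
  refine le_antisymm ?_ (CfsgLib.BlockRank.blockRank_pos hp.ne_one
    ⟨_, principalIrr_mem_principalBlock⟩)
  unfold Cfsg.blockRank
  refine (Submodule.finrank_mono (t := Submodule.span ℂ
    ({pRegularPart p (fun _ : G => (1 : ℂ))} : Set (G → ℂ))) (Submodule.span_le.mpr ?_)).trans
      ((finrank_span_le_card _).trans (by simp))
  rintro _ ⟨χ, hχ, rfl⟩
  refine Submodule.mem_span_singleton.mpr ⟨(χ : G → ℂ) 1, funext fun x => ?_⟩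
  by_cases hx : IsPRegular p x
  · simp [pRegularPart, hx, hval χ hχ x hx]
  · simp [pRegularPart, hx]

/-- A principal block of rank one forces a normal complement. -/
theorem complement_of_blockRank_eq_one (hM : IsPModular p M)
    (hl : blockRank p (principalBlock M G) = 1) : HasNormalPComplement p G := by
  classical
  haveI := isMaximal_of_isPModular hM
  haveI := Fintype.ofFinite G
  have hp : p.Prime := Fact.out
  have h1reg : IsPRegular p (1 : G) := by simp [IsPRegular, hp.ne_one]
  let W := Submodule.span ℂ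
    ((fun χ : IrrCharacter G => pRegularPart p (χ : G → ℂ)) '' principalBlock M G)
  let v₀ : W := ⟨pRegularPart p ((CfsgLib.Char.principalIrr : IrrCharacter G) : G → ℂ),
    Submodule.subset_span ⟨_, principalIrr_mem_principalBlock, rfl⟩⟩
  have hv₀ : v₀ ≠ 0 := fun h => by
    have h' := congrFun (congrArg Subtype.val h) 1
    simp [v₀, pRegularPart, h1reg, CfsgLib.Char.principalIrr_apply] at h'
  have hval : ∀ χ ∈ principalBlock M G, ∀ x : G, IsPRegular p x →
      (χ : G → ℂ) x = (χ : G → ℂ) 1 := by
    intro χ hχ x hx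
    obtain ⟨c, hc⟩ := exists_smul_eq_of_finrank_eq_one (K := ℂ) (V := W) hl hv₀
      ⟨pRegularPart p (χ : G → ℂ), Submodule.subset_span ⟨χ, hχ, rfl⟩⟩
    have h2 : ∀ y, IsPRegular p y → (χ : G → ℂ) y = c := fun y hy => by
      have h' := congrFun (congrArg Subtype.val hc) y
      simpa [v₀, pRegularPart, hy, CfsgLib.Char.principalIrr_apply] using h'.symm
    rw [h2 x hx, h2 1 h1reg]
  let N : Subgroup G :=
    { carrier := {n | ∀ χ ∈ principalBlock M G, ∀ g : G, (χ : G → ℂ) (g * n) = (χ : G → ℂ) g}
      one_mem' := fun χ _ g => by rw [mul_one]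
      mul_mem' := fun {a b} ha hb χ hχ g => by rw [← mul_assoc, hb χ hχ, ha χ hχ]
      inv_mem' := fun {a} ha χ hχ g => by
        have := ha χ hχ (g * a⁻¹)
        rw [inv_mul_cancel_right] at this
        exact this.symm }
  have hmem : ∀ x : G, IsPRegular p x → x ∈ N := fun x hx χ hχ g =>
    CfsgLib.CharTools.mul_ker (CfsgLib.Char.IsIrrCharacter.isCharacter χ.2) (hval χ hχ x hx) g
  haveI hN : N.Normal := ⟨fun n hn a χ hχ g => by
    have hcl := CfsgLib.Char.IsIrrCharacter.isClassFunction χ.2
    have e1 := hcl (a⁻¹ * g * a * n) a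
    have e2 := hcl (a⁻¹ * g * a) a
    rw [show a * (a⁻¹ * g * a * n) * a⁻¹ = g * (a * n * a⁻¹) by group, hn χ hχ] at e1
    rw [show a * (a⁻¹ * g * a) * a⁻¹ = g by group] at e2
    rw [e1, ← e2]⟩
  refine CfsgLib.Transfer.hasNormalPComplement_iff_exists_normal.mpr ⟨N, hN, fun hdvd => ?_, ?_⟩
  · obtain ⟨u, hu⟩ := exists_prime_orderOf_dvd_card' p hdvd
    have h0 := CfsgLib.BlockReg.block_orthogonality hM
      (isPBlock_principalBlock (G := G) (M := M)) 1 (u : G) h1reg
      (by rw [Subgroup.orderOf_coe, hu])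
    rw [finsum_mem_eq_toFinset_sum] at h0
    have h3 : ∀ χ ∈ (principalBlock M G).toFinset,
        (χ : G → ℂ) 1 * (starRingEnd ℂ) ((χ : G → ℂ) (u : G)) =
          ((charDegree (χ : G → ℂ) ^ 2 : ℕ) : ℂ) := by
      intro χ hχ
      have h4 := u.2 χ (Set.mem_toFinset.mp hχ) 1
      rw [one_mul] at h4
      rw [h4, ← CfsgLib.BlockReg.deg_cast χ, map_natCast, Nat.cast_pow, sq]
    rw [Finset.sum_congr rfl h3, ← Nat.cast_sum, Nat.cast_eq_zero, Finset.sum_eq_zero_iff] at h0
    have h5 := h0 _ (Set.mem_toFinset.mpr principalIrr_mem_principalBlock)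
    exact (CfsgLib.BlockReg.deg_pos _).ne' (pow_eq_zero_iff two_ne_zero |>.mp h5)
  · refine IsPGroup.iff_card.mp (fun q => ⟨(Nat.card G).factorization p, ?_⟩)
    obtain ⟨g, rfl⟩ := QuotientGroup.mk_surjective q
    rw [← QuotientGroup.mk_pow, QuotientGroup.eq_one_iff]
    refine hmem _ fun hd => ?_
    have h6 : orderOf (g ^ p ^ (Nat.card G).factorization p) ∣
        Nat.card G / p ^ (Nat.card G).factorization p := by
      rw [orderOf_dvd_iff_pow_eq_one, ← pow_mul, Nat.ordProj_mul_ordCompl_eq_self, pow_card_eq_one']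
    exact Nat.not_dvd_ordCompl hp Nat.card_pos.ne' (hd.trans h6)

/-- For a finite group G, a prime p and a maximal ideal M of the algebraic integers containing p: the principal block of G is nilpotent if and only if its p-regular rank is 1 (the trivial Brauer character is its only irreducible Brauer character). -/
theorem result {G : Type*} [Group G] [Finite G] (p : ℕ) [Fact p.Prime] (M : Ideal Cfsg.AlgInt) (hM : Cfsg.IsPModular p M) : Cfsg.IsNilpotentBlock p M (Cfsg.principalBlock M G) ↔ Cfsg.blockRank p (Cfsg.principalBlock M G) = 1 := by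
  rw [nilpotent_iff_frobenius hM, ← CfsgLib.Transfer.hasNormalPComplement_iff_frobenius]
  exact ⟨blockRank_eq_one_of_complement hM, complement_of_blockRank_eq_one hM⟩

end Cfsg.Agent.S4646
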