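import Cfsg.Statements.S3780
import Mathlib

set_option autoImplicit false
open Cfsg

namespace Cfsg.Agent.S3780

/-- Let V be a finite abelian p-group and α an automorphism of V of order p whose fixed-point subgroup has order p^n. Then V can be generated by pn elements: some subset of V with at most pn elements generates V. -/
theorem result {V : Type*} [CommGroup V] [Finite V] {p : ℕ} [Fact p.Prime] (hV : IsPGroup p V) (α : MulAut V) (hα : orderOf α = p) (n : ℕ) (hfix : Nat.card {v : V // α v = v} = p ^ n) : ∃ S : Finset V, S.card ≤ p * n ∧ Subgroup.closure (S : Set V) = ⊤ := by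
  have hpp : p.Prime := Fact.out
  let W : Subgroup V := (powMonoidHom p : V →* V).ker
  let B : Additive V →+ Additive V :=
    MonoidHom.toAdditive ((α : V ≃* V).toMonoidHom) - AddMonoidHom.id _
  have hWp : ∀ w ∈ W, w ^ p = 1 := fun w hw => hw
  have hbound : Nat.card W ≤ p ^ (p * n) := by
    let αW : AddMonoid.End (Additive W) :=
      MonoidHom.toAdditive (((α : V ≃* V).toMonoidHom.comp W.subtype).codRestrict W (fun w => by
        show (α (w : V)) ^ p = 1
        rw [← map_pow, hWp w w.2, map_one]))
    have hα' : ∀ w : Additive W, ((Additive.toMul (αW w) : W) : V) = α (Additive.toMul w : W) := fun _ => rfl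
    have hpow : αW ^ p = 1 := by
      have key : ∀ (m : ℕ) (w : Additive W), ((Additive.toMul ((αW ^ m) w) : W) : V) = (α ^ m) (Additive.toMul w : W) := by
        intro m
        induction m with
        | zero => intro w; rfl
        | succ m ih =>
          intro w
          rw [pow_succ', pow_succ', MulAut.mul_apply, ← ih]
          exact hα' _
      refine AddMonoidHom.ext fun w => Additive.toMul.injective (Subtype.ext ?_)
      refine (key p w).trans ?_
      rw [← hα, pow_orderOf_eq_one]
      rfl
    have hpz : (p : AddMonoid.End (Additive W)) = 0 := by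
      refine AddMonoidHom.ext fun w => ?_
      show (p : AddMonoid.End (Additive W)) w = 0
      rw [AddMonoid.End.natCast_apply]
      apply Additive.toMul.injective
      rw [toMul_nsmul]
      exact Subtype.ext (hWp _ (Additive.toMul w).2)
    set β : AddMonoid.End (Additive W) := αW - 1 with hβ
    have hβp : β ^ p = 0 := by
      obtain ⟨r, hr⟩ := (Commute.one_right β).exists_add_pow_prime_eq hpp
      rw [hpz, zero_mul, zero_mul, zero_mul, add_zero, one_pow, hβ, sub_add_cancel, hpow] at hr
      exact add_eq_right.1 hr.symm
    have hker1 : Nat.card (AddMonoidHom.ker β) ≤ p ^ n := by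
      rw [← hfix]
      refine Nat.card_le_card_of_injective (fun w => ⟨((Additive.toMul (w : Additive W) : W) : V), ?_⟩) ?_
      · have h1 : αW (w : Additive W) - (w : Additive W) = 0 := w.2
        rw [← hα', sub_eq_zero.1 h1]
      · intro a b h
        exact Subtype.ext (Additive.toMul.injective (Subtype.ext (congrArg Subtype.val h :)))
    have hkerj : ∀ j, Nat.card (AddMonoidHom.ker (β ^ j)) ≤ (p ^ n) ^ j := by
      intro j
      induction j with
      | zero =>
        refine le_of_le_of_eq (Finite.card_le_one_iff_subsingleton.2 ⟨fun a b => Subtype.ext ?_⟩)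
          (pow_zero _).symm
        have ha : (a : Additive W) = 0 := a.2
        have hb : (b : Additive W) = 0 := b.2
        rw [ha, hb]
      | succ j ih =>
        let f : AddMonoidHom.ker (β ^ (j + 1)) →+ AddMonoidHom.ker (β ^ j) :=
          AddMonoidHom.codRestrict ((β : Additive W →+ Additive W).comp (AddMonoidHom.ker (β ^ (j + 1))).subtype) _
            (fun x => by
              have h1 : (β ^ (j + 1)) (x : Additive W) = 0 := x.2
              exact (DFunLike.congr_fun (pow_succ β j) (x : Additive W)).symm.trans h1)
        refine le_trans (le_of_eq (AddSubgroup.card_eq_card_quotient_mul_card_addSubgroup f.ker)) ?_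
        rw [pow_succ (p ^ n) j]
        refine Nat.mul_le_mul ?_ ?_
        · rw [Nat.card_congr (QuotientAddGroup.quotientKerEquivRange f).toEquiv]
          exact (Finite.card_subtype_le _).trans ih
        · refine le_trans ?_ hker1
          refine Nat.card_le_card_of_injective (fun x => ⟨(x : AddMonoidHom.ker (β ^ (j + 1))), ?_⟩) ?_
          · exact congrArg Subtype.val x.2
          · intro a b h
            exact Subtype.ext (Subtype.ext (congrArg Subtype.val h :))
    have h := hkerj p
    rw [mul_comm p n, pow_mul]
    refine le_trans ?_ h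
    refine Nat.card_le_card_of_injective
      (fun w => ⟨Additive.ofMul w, DFunLike.congr_fun hβp (Additive.ofMul w)⟩) fun a b h' => ?_
    exact Additive.ofMul.injective (congrArg Subtype.val h' :)
  set Φ : Subgroup V := (powMonoidHom p : V →* V).range
  have hindex : Φ.index = Nat.card W := by
    have h1 := Subgroup.card_eq_card_quotient_mul_card_subgroup W
    have h2 := Subgroup.index_mul_card Φ
    rw [Nat.card_congr (QuotientGroup.quotientKerEquivRange (powMonoidHom p : V →* V)).toEquiv, ← h2] at h1
    refine Nat.eq_of_mul_eq_mul_right (Nat.card_pos (α := Φ)) ?_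
    rw [h1, mul_comm]
  -- generators modulo `Φ`
  have hgen : ∀ k : ℕ, ∃ S : Finset V, S.card ≤ k ∧
      (Φ ⊔ Subgroup.closure (S : Set V) = ⊤ ∨ (Φ ⊔ Subgroup.closure (S : Set V)).index * p ^ k ≤ Φ.index) := by
    classical
    intro k
    induction k with
    | zero => exact ⟨∅, by simp, Or.inr (by simp)⟩
    | succ k ih =>
      obtain ⟨S, hS, h⟩ := ih
      rcases h with h | h
      · exact ⟨S, by omega, Or.inl h⟩
      · rcases eq_or_ne (Φ ⊔ Subgroup.closure (S : Set V)) ⊤ with h' | h'
        · exact ⟨S, by omega, Or.inl h'⟩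
        obtain ⟨x, -, hx⟩ := SetLike.exists_of_lt (lt_top_iff_ne_top.2 h')
        refine ⟨insert x S, (Finset.card_insert_le _ _).trans (by omega), Or.inr ?_⟩
        set H := Φ ⊔ Subgroup.closure (S : Set V)
        set H' := Φ ⊔ Subgroup.closure ((insert x S : Finset V) : Set V)
        have hle : H ≤ H' := sup_le_sup_left (Subgroup.closure_mono (by simp)) _
        have hne : H.relIndex H' ≠ 1 := fun he =>
          hx (Subgroup.relIndex_eq_one.1 he (Subgroup.mem_sup_right (Subgroup.subset_closure (by simp))))
        have hp' : p ≤ H.relIndex H' := by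
          obtain ⟨j, hj⟩ := (hV.to_subgroup H').index (H.subgroupOf H')
          rcases eq_or_ne j 0 with rfl | hj0
          · exact absurd hj hne
          · exact (Nat.le_self_pow hj0 p).trans_eq hj.symm
        calc H'.index * p ^ (k + 1) = p * H'.index * p ^ k := by ring
          _ ≤ H.relIndex H' * H'.index * p ^ k := Nat.mul_le_mul_right _ (Nat.mul_le_mul_right _ hp')
          _ = H.index * p ^ k := by rw [Subgroup.relIndex_mul_index hle]
          _ ≤ _ := h
  obtain ⟨S, hS, h⟩ := hgen (p * n)
  refine ⟨S, hS, ?_⟩
  have htop : Φ ⊔ Subgroup.closure (S : Set V) = ⊤ := by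
    rcases h with h | h
    · exact h
    · rw [← Subgroup.index_eq_one]
      have h2 := h.trans (hindex.le.trans hbound)
      have h3 : 0 < p ^ (p * n) := pow_pos hpp.pos _
      have := Subgroup.index_ne_zero_of_finite (H := Φ ⊔ Subgroup.closure (S : Set V))
      by_contra hne
      have : 2 * p ^ (p * n) ≤ p ^ (p * n) :=
        (Nat.mul_le_mul_right _ (by omega : 2 ≤ (Φ ⊔ Subgroup.closure (S : Set V)).index)).trans h2
      omega
  have hiter : ∀ v : V, ∀ k : ℕ, ∃ w : V, v * (w ^ p ^ k)⁻¹ ∈ Subgroup.closure (S : Set V) := by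
    intro v k
    induction k with
    | zero => exact ⟨v, by simp⟩
    | succ k ih =>
      obtain ⟨w, hw⟩ := ih
      obtain ⟨f, ⟨u, rfl⟩, s, hs, e⟩ := Subgroup.mem_sup.1 (htop ▸ Subgroup.mem_top w)
      refine ⟨u, ?_⟩
      have : v * (u ^ p ^ (k + 1))⁻¹ = v * (w ^ p ^ k)⁻¹ * s ^ p ^ k := by
        rw [← e, powMonoidHom_apply, mul_pow, ← pow_mul, ← pow_succ', mul_inv, mul_assoc v, mul_assoc,
          inv_mul_cancel, mul_one]
      rw [this]
      exact mul_mem hw (pow_mem hs _)
  obtain ⟨c, hc⟩ := hV.exists_card_eq
  refine eq_top_iff.2 fun v _ => ?_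
  obtain ⟨w, hw⟩ := hiter v c
  rwa [← hc, pow_card_eq_one', inv_one, mul_one] at hw

end Cfsg.Agent.S3780
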