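import Cfsg.Statements.S3781
import Mathlib

set_option autoImplicit false
open Cfsg

namespace Cfsg.Agent.S3781

variable {G : Type*} [Group G]

/-- `[X, G, …, G]` with `j` copies of `G`. -/
def iter (X : Subgroup G) : ℕ → Subgroup G
  | 0 => X
  | j + 1 => ⁅iter X j, (⊤ : Subgroup G)⁆

theorem iter_normal (X : Subgroup G) [X.Normal] : ∀ j, (iter X j).Normal
  | 0 => ‹X.Normal›
  | j + 1 => by
    have := iter_normal X j
    exact Subgroup.commutator_normal _ _

theorem iter_succ' (X : Subgroup G) : ∀ j, iter ⁅X, (⊤ : Subgroup G)⁆ j = iter X (j + 1)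
  | 0 => rfl
  | j + 1 => congrArg (fun H : Subgroup G => ⁅H, (⊤ : Subgroup G)⁆) (iter_succ' X j)

theorem iter_antitone (X : Subgroup G) [X.Normal] : Antitone (iter X) := by
  refine antitone_nat_of_succ_le fun j => ?_
  have := iter_normal X j
  exact Subgroup.commutator_le_left _ _

theorem iter_mono {X X' : Subgroup G} (h : X ≤ X') : ∀ j, iter X j ≤ iter X' j
  | 0 => h
  | j + 1 => Subgroup.commutator_mono (iter_mono h j) le_rfl

theorem eq_bot_of_le_commutator (hnil : Group.IsNilpotent G) (Y : Subgroup G)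
    (h : Y ≤ ⁅Y, (⊤ : Subgroup G)⁆) : Y = ⊥ := by
  obtain ⟨c, hc⟩ := Subgroup.nilpotent_iff_lowerCentralSeries.1 hnil
  have : ∀ m, Y ≤ (⊤ : Subgroup G).lowerCentralSeries m := by
    intro m
    induction m with
    | zero => exact le_top
    | succ m ih => exact h.trans (Subgroup.commutator_mono ih le_rfl)
  exact eq_bot_iff.2 (hc ▸ this c)

theorem three_subgroups_le (T H K L : Subgroup G) [T.Normal] (h1 : ⁅⁅K, L⁆, H⁆ ≤ T)
    (h2 : ⁅⁅L, H⁆, K⁆ ≤ T) : ⁅⁅H, K⁆, L⁆ ≤ T := by
  have e : ∀ U V W : Subgroup G, ⁅⁅U, V⁆, W⁆ ≤ T ↔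
      ⁅⁅U.map (QuotientGroup.mk' T), V.map (QuotientGroup.mk' T)⁆,
        W.map (QuotientGroup.mk' T)⁆ = ⊥ := by
    intro U V W
    rw [← Subgroup.map_commutator, ← Subgroup.map_commutator, Subgroup.map_eq_bot_iff,
      QuotientGroup.ker_mk']
  rw [e] at h1 h2 ⊢
  exact Subgroup.commutator_commutator_eq_bot_of_rotate h1 h2

theorem comm_lcs_le (X : Subgroup G) [X.Normal] (k : ℕ) :
    ⁅X, (⊤ : Subgroup G).lowerCentralSeries k⁆ ≤ iter X (k + 1) := by
  induction k generalizing X with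
  | zero => exact le_rfl
  | succ k ih =>
    have := iter_normal X (k + 2)
    rw [Subgroup.lowerCentralSeries_succ, Subgroup.commutator_comm]
    refine three_subgroups_le (iter X (k + 2)) _ ⊤ X ?_ ?_
    · rw [Subgroup.commutator_comm ⊤ X, ← iter_succ']
      exact ih ⁅X, ⊤⁆
    · exact Subgroup.commutator_mono (ih X) le_rfl

theorem iter_le [Finite G] {p : ℕ} [Fact p.Prime] (hG : IsPGroup p G) :
    ∀ (k : ℕ) (X Y : Subgroup G) [X.Normal] [Y.Normal], Y ≤ X → Y.relIndex X ≤ p ^ k → iter X k ≤ Y := by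
  intro k
  induction k with
  | zero =>
    intro X Y _ _ hYX h
    have hpos : Y.relIndex X ≠ 0 := Subgroup.index_ne_zero_of_finite
    refine Subgroup.relIndex_eq_one.1 ?_
    show Y.relIndex X = 1
    rw [pow_zero] at h; omega
  | succ k ih =>
    intro X Y _ _ hYX h
    rw [← iter_succ']
    rcases eq_or_lt_of_le hYX with rfl | hlt
    · rw [iter_succ']
      exact iter_antitone Y (Nat.zero_le (k + 1))
    · have hsub : ⁅X, (⊤ : Subgroup G)⁆ ⊔ Y ≤ X := sup_le (Subgroup.commutator_le_left _ _) hYX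
      have hne : ⁅X, (⊤ : Subgroup G)⁆ ⊔ Y ≠ X := by
        intro he
        have hnil : Group.IsNilpotent G := hG.isNilpotent
        have e : X.map (QuotientGroup.mk' Y) ≤
            ⁅X.map (QuotientGroup.mk' Y), (⊤ : Subgroup (G ⧸ Y))⁆ := by
          conv_lhs => rw [← he]
          rw [Subgroup.map_sup, (Subgroup.map_eq_bot_iff Y).2 (QuotientGroup.ker_mk' Y).ge,
            sup_bot_eq, Subgroup.map_commutator,
            Subgroup.map_top_of_surjective _ (QuotientGroup.mk'_surjective Y)]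
        have := eq_bot_of_le_commutator inferInstance _ e
        rw [Subgroup.map_eq_bot_iff, QuotientGroup.ker_mk'] at this
        exact hlt.not_ge this
      have h2 : p ≤ (⁅X, (⊤ : Subgroup G)⁆ ⊔ Y).relIndex X := by
        obtain ⟨j, hj⟩ := (hG.to_subgroup X).index ((⁅X, (⊤ : Subgroup G)⁆ ⊔ Y).subgroupOf X)
        rcases eq_or_ne j 0 with rfl | hj0
        · exact absurd (le_antisymm hsub (Subgroup.relIndex_eq_one.1 hj)) hne
        · exact (Nat.le_self_pow hj0 p).trans_eq hj.symm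
      have hmul := Subgroup.relIndex_mul_relIndex Y _ X (le_sup_right : Y ≤ ⁅X, (⊤ : Subgroup G)⁆ ⊔ Y) hsub
      have h3 : Y.relIndex (⁅X, (⊤ : Subgroup G)⁆ ⊔ Y) * p ≤ p ^ k * p := by
        rw [← pow_succ]
        exact (Nat.mul_le_mul le_rfl h2).trans (hmul.trans_le h)
      have hpp : 0 < p := (Fact.out : p.Prime).pos
      exact (iter_mono le_sup_left k).trans
        (ih _ Y le_sup_right (Nat.le_of_mul_le_mul_right h3 hpp))


/-- Let G be a finite p-group and n ≥ 1, and write γ_1(G) = G, γ_{k+1}(G) = [γ_k(G), G], and likewise γ_k(N) for a subgroup N. Let N be a normal subgroup of G contained in γ_n(G). If i > 1 and γ_{i+1}(N) ≠ 1, then |γ_i(N) : γ_{i+1}(N)| ≥ p^n. -/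
theorem result {G : Type*} [Group G] [Finite G] {p : ℕ} [Fact p.Prime] (hG : IsPGroup p G) (n : ℕ) (hn : 1 ≤ n) (N : Subgroup G) [N.Normal] (hN : N ≤ (⊤ : Subgroup G).lowerCentralSeries (n - 1)) (i : ℕ) (hi : 1 < i) (hne : N.lowerCentralSeries i ≠ ⊥) : p ^ n ≤ (N.lowerCentralSeries i).relIndex (N.lowerCentralSeries (i - 1)) := by
  set L := fun m => (⊤ : Subgroup G).lowerCentralSeries m with hL
  have hnil : Group.IsNilpotent G := hG.isNilpotent
  obtain ⟨i, rfl⟩ : ∃ j, i = j + 1 := ⟨i - 1, by omega⟩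
  set X := N.lowerCentralSeries i with hX
  set Y := N.lowerCentralSeries (i + 1) with hY
  have hXn : ∀ m, (N.lowerCentralSeries m).Normal := by
    intro m
    induction m with
    | zero => exact ‹N.Normal›
    | succ m ih => rw [Subgroup.lowerCentralSeries_succ]; exact Subgroup.commutator_normal _ _
  have hXY : Y ≤ X := Subgroup.lowerCentralSeries_antitone _ (Nat.le_succ i)
  have : X.Normal := hXn i
  have : Y.Normal := hXn (i + 1)
  by_contra hlt
  rw [not_le] at hlt
  simp only [Nat.add_sub_cancel] at hlt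
  obtain ⟨k, hk⟩ := (hG.to_subgroup X).index (Y.subgroupOf X)
  change Y.relIndex X = p ^ k at hk
  rw [hk] at hlt
  have hkn : k < n := (Nat.pow_lt_pow_iff_right (Fact.out : p.Prime).one_lt).1 hlt
  have hFY : iter X k ≤ Y := iter_le hG k X Y hXY hk.le
  have hFY' : iter X (n - 1) ≤ Y := (iter_antitone X (by omega)).trans hFY
  have h1 : Y ≤ iter X n := by
    have h2 : Y ≤ ⁅X, L (n - 1)⁆ := by
      rw [hY, Subgroup.lowerCentralSeries_succ]
      exact Subgroup.commutator_mono le_rfl hN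
    refine h2.trans ((comm_lcs_le X (n - 1)).trans_eq ?_)
    rw [Nat.sub_add_cancel hn]
  have h3 : iter X n ≤ ⁅Y, ⊤⁆ := by
    obtain ⟨m, rfl⟩ : ∃ m, n = m + 1 := ⟨n - 1, by omega⟩
    exact Subgroup.commutator_mono hFY' le_rfl
  exact hne (eq_bot_of_le_commutator hnil Y (h1.trans h3))

end Cfsg.Agent.S3781
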