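import Cfsg.Statements.S0494
import Cfsg.Agent.Lib.SmallOrder.Basic
import Mathlib.Tactic.NormNum.Prime
import Mathlib.Tactic.IntervalCases

set_option autoImplicit false
open Cfsg

namespace Cfsg.Agent.S0494

/-- A simple group of order 60 is isomorphic to the alternating group of degree 5. -/
theorem result {G : Type*} [Group G] [Finite G] [IsSimpleGroup G]
    (h : Nat.card G = 60) : Nonempty (G ≃* alternatingGroup (Fin 5)) := by
  haveI := Fact.mk Nat.prime_two
  have hnp : ¬ (Nat.card G).Prime := by rw [h]; norm_num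
  have hnc := CfsgLib.SmallOrder.not_comm_of_not_prime hnp
  have hG' : Nat.card G = 2 ^ 2 * 15 := by rw [h]; norm_num
  obtain ⟨h1, h2, h3, h4⟩ :=
    CfsgLib.SmallOrder.card_sylow_facts (p := 2) hG' (by norm_num) two_pos (by norm_num)
  obtain ⟨P⟩ := (inferInstance : Nonempty (Sylow 2 G))
  have hP := CfsgLib.SmallOrder.card_sylow_eq hG' (by norm_num) P
  have hN := CfsgLib.SmallOrder.card_normalizer_mul P
  have hne : (P : Subgroup G) ≠ ⊤ := by
    intro ht
    rw [ht, Subgroup.card_top, h] at hP
    norm_num at hP
  have hn : Nat.card (Sylow 2 G) = 5 := by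
    have hle := Nat.le_of_dvd (by norm_num) h1
    have hn15 : Nat.card (Sylow 2 G) ≠ 15 := by
      intro h15
      rw [h15, h] at hN
      refine CfsgLib.SmallOrder.not_coprime_aut (by rw [h]; norm_num) P hne
        (CfsgLib.SmallOrder.isMulCommutative_of_card_eq_prime_or_sq P (Or.inr hP)) (m := 1) ?_
        (Nat.coprime_one_left _)
      rw [hP]
      omega
    rw [h] at h4
    interval_cases hc : Nat.card (Sylow 2 G) <;>
      first | omega | (norm_num [Nat.factorial] at h4) | (norm_num at h1)
  have hidx : (Subgroup.normalizer ((P : Subgroup G) : Set G)).index = 5 := by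
    exact P.card_eq_index_normalizer.symm.trans hn
  obtain ⟨f, hf⟩ : ∃ f : G →* ↥(alternatingGroup (Fin 5)), Function.Injective f := hidx ▸
    CfsgLib.SmallOrder.exists_embedding_alternating hnc
    (H := Subgroup.normalizer ((P : Subgroup G) : Set G))
    (fun ht => by rw [ht, Subgroup.index_top] at hidx; omega)
  refine ⟨MulEquiv.ofBijective f ((Nat.bijective_iff_injective_and_card f).2 ⟨hf, ?_⟩)⟩
  have h2A := two_mul_card_alternatingGroup (α := Fin 5)
  simp only [← Nat.card_eq_fintype_card, Nat.card_perm, Nat.card_fin] at h2A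
  rw [show Nat.factorial 5 = 120 from rfl] at h2A
  omega

end Cfsg.Agent.S0494
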