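import Cfsg.Statements.S2401
import Cfsg.Agent.Lib.SteinbergSL.Count
import Cfsg.Agent.Lib.Linear.Transvection

set_option autoImplicit false
open Cfsg

namespace Cfsg.Agent.S2401

open Matrix in
theorem transvection_mul_comm {K : Type*} [Field K] {n : ℕ} {i j k l : Fin n} (hil : i ≠ l) (hjk : j ≠ k)
    (t u : K) : transvection i j t * transvection k l u = transvection k l u * transvection i j t := by
  simp only [transvection, mul_add, add_mul, Matrix.one_mul, Matrix.mul_one,
    Matrix.single_mul_single_of_ne _ _ _ _ hjk, Matrix.single_mul_single_of_ne _ _ _ _ hil.symm,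
    add_zero]
  abel

open Matrix in
theorem transvection_mul_step {K : Type*} [Field K] {n : ℕ} {i j k : Fin n} (hij : i ≠ j) (hjk : j ≠ k)
    (hik : i ≠ k) (t u : K) : transvection i j t * transvection j k u =
      transvection i k (t * u) * transvection j k u * transvection i j t := by
  simp only [transvection, mul_add, add_mul, Matrix.one_mul, Matrix.mul_one,
    Matrix.single_mul_single_same, Matrix.single_mul_single_of_ne _ _ _ _ hij.symm,
    Matrix.single_mul_single_of_ne _ _ _ _ hik.symm, Matrix.single_mul_single_of_ne _ _ _ _ hjk.symm,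
    add_zero, zero_add, Matrix.mul_zero, Matrix.zero_mul]
  abel

/-- The Steinberg presentation of `SL_n` over a finite field for `n ≥ 3`: the group generated by symbols `x_ij(t)` (`i ≠ j`, `t` in the field) subject to `x_ij(t) x_ij(u) = x_ij(t + u)` and, for `i ≠ l`, `x_ij(t) x_kl(u) x_ij(t)⁻¹ x_kl(u)⁻¹ = x_il(tu)` if `j = k` and `= 1` if `j ≠ k`, is isomorphic to `SL_n` by an isomorphism sending `x_ij(t)` to the elementary matrix `1 + t E_ij`. -/
theorem result {K : Type*} [Field K] [Finite K] (n : ℕ) (hn : 3 ≤ n) :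
    ∃ e : PresentedGroup
        ({g : FreeGroup ({ij : Fin n × Fin n // ij.1 ≠ ij.2} × K) | ∃ (a : {ij : Fin n × Fin n // ij.1 ≠ ij.2}) (t u : K),
            g = FreeGroup.of (a, t) * FreeGroup.of (a, u) * (FreeGroup.of (a, t + u))⁻¹} ∪
          {g | ∃ (a b : {ij : Fin n × Fin n // ij.1 ≠ ij.2}) (t u : K), a.1.1 ≠ b.1.2 ∧ a.1.2 ≠ b.1.1 ∧
            g = FreeGroup.of (a, t) * FreeGroup.of (b, u) * (FreeGroup.of (a, t))⁻¹ * (FreeGroup.of (b, u))⁻¹} ∪
          {g | ∃ (a b : {ij : Fin n × Fin n // ij.1 ≠ ij.2}) (h : a.1.1 ≠ b.1.2) (t u : K), a.1.2 = b.1.1 ∧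
            g = FreeGroup.of (a, t) * FreeGroup.of (b, u) * (FreeGroup.of (a, t))⁻¹ * (FreeGroup.of (b, u))⁻¹ *
              (FreeGroup.of (⟨(a.1.1, b.1.2), h⟩, t * u))⁻¹}) ≃* Matrix.SpecialLinearGroup (Fin n) K,
      ∀ (a : {ij : Fin n × Fin n // ij.1 ≠ ij.2}) (t : K), ((e (PresentedGroup.of (a, t)) : Matrix (Fin n) (Fin n) K)) = Matrix.transvection a.1.1 a.1.2 t := by
  classical
  haveI := Fintype.ofFinite K
  set R := ({g : FreeGroup ({ij : Fin n × Fin n // ij.1 ≠ ij.2} × K) | ∃ (a : {ij : Fin n × Fin n // ij.1 ≠ ij.2}) (t u : K),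
            g = FreeGroup.of (a, t) * FreeGroup.of (a, u) * (FreeGroup.of (a, t + u))⁻¹} ∪
          {g | ∃ (a b : {ij : Fin n × Fin n // ij.1 ≠ ij.2}) (t u : K), a.1.1 ≠ b.1.2 ∧ a.1.2 ≠ b.1.1 ∧
            g = FreeGroup.of (a, t) * FreeGroup.of (b, u) * (FreeGroup.of (a, t))⁻¹ * (FreeGroup.of (b, u))⁻¹} ∪
          {g | ∃ (a b : {ij : Fin n × Fin n // ij.1 ≠ ij.2}) (h : a.1.1 ≠ b.1.2) (t u : K), a.1.2 = b.1.1 ∧
            g = FreeGroup.of (a, t) * FreeGroup.of (b, u) * (FreeGroup.of (a, t))⁻¹ * (FreeGroup.of (b, u))⁻¹ *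
              (FreeGroup.of (⟨(a.1.1, b.1.2), h⟩, t * u))⁻¹}) with hR
  let f : {ij : Fin n × Fin n // ij.1 ≠ ij.2} × K → Matrix.SpecialLinearGroup (Fin n) K :=
    fun p => Matrix.SpecialLinearGroup.transvection p.1.2 p.2
  have hf : ∀ r ∈ R, FreeGroup.lift f r = 1 := by
    rintro r ((⟨a, t, u, rfl⟩ | ⟨a, b, t, u, h1, h2, rfl⟩) | ⟨a, b, h, t, u, h2, rfl⟩)
    · simp only [map_mul, map_inv, FreeGroup.lift_apply_of, mul_inv_eq_one]
      apply Subtype.ext
      exact Matrix.transvection_mul_transvection_same _ _ a.2 t u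
    · simp only [map_mul, map_inv, FreeGroup.lift_apply_of, mul_inv_eq_one, mul_inv_eq_iff_eq_mul, one_mul]
      apply Subtype.ext
      exact transvection_mul_comm h1 h2 t u
    · simp only [map_mul, map_inv, FreeGroup.lift_apply_of, mul_inv_eq_one, mul_inv_eq_iff_eq_mul, one_mul]
      obtain ⟨⟨i, j⟩, hij⟩ := a
      obtain ⟨⟨k, l⟩, hkl⟩ := b
      simp only at h2 h
      subst h2
      apply Subtype.ext
      exact transvection_mul_step hij hkl h t u
  let φ : PresentedGroup R →* Matrix.SpecialLinearGroup (Fin n) K := PresentedGroup.toGroup hf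
  let x : Fin n → Fin n → K → PresentedGroup R := fun i j t =>
    if h : i ≠ j then PresentedGroup.of (⟨(i, j), h⟩, t) else 1
  have hx : ∀ {i j : Fin n} (h : i ≠ j) (t : K), x i j t = PresentedGroup.of (⟨(i, j), h⟩, t) :=
    fun h t => dif_pos h
  have hrel : ∀ g ∈ R, PresentedGroup.mk R g = 1 := fun g hg => PresentedGroup.one_of_mem hg
  have hof : ∀ p, PresentedGroup.mk R (FreeGroup.of p) = PresentedGroup.of p := fun p => rfl
  have S : CfsgLib.SteinbergSL.Sys x := by
    refine CfsgLib.SteinbergSL.Sys.of_comm ?_ ?_ ?_ fun i j => ?_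
    · intro i j h t u
      have := hrel _ (Or.inl (Or.inl ⟨⟨(i, j), h⟩, t, u, rfl⟩))
      simp only [map_mul, map_inv, hof, mul_inv_eq_one] at this
      rw [hx h, hx h, hx h, this]
    · intro i j k l hij hkl hil hjk t u
      have := hrel _ (Or.inl (Or.inr ⟨⟨(i, j), hij⟩, ⟨(k, l), hkl⟩, t, u, hil, hjk, rfl⟩))
      simp only [map_mul, map_inv, hof, mul_inv_eq_one, mul_inv_eq_iff_eq_mul, one_mul] at this
      rw [hx hij, hx hkl]
      exact this
    · intro i j k hij hjk hik t u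
      have := hrel _ (Or.inr ⟨⟨(i, j), hij⟩, ⟨(j, k), hjk⟩, hik, t, u, rfl, rfl⟩)
      simp only [map_mul, map_inv, hof, mul_inv_eq_one, mul_inv_eq_iff_eq_mul, one_mul] at this
      rw [hx hij, hx hjk, hx hik]
      exact this
    · obtain ⟨k, hk⟩ : ∃ k : Fin n, k ∉ ({i, j} : Finset (Fin n)) := by
        by_contra hc
        push Not at hc
        have h1 := Finset.card_le_card (fun k (_ : k ∈ (Finset.univ : Finset (Fin n))) => hc k)
        have h2 := Finset.card_le_two (a := i) (b := j)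
        simp only [Finset.card_univ, Fintype.card_fin] at h1
        omega
      exact ⟨k, by simpa [not_or] using hk⟩
  have hgen : Subgroup.closure (CfsgLib.SteinbergSL.gensAll x) = ⊤ := by
    rw [eq_top_iff, ← PresentedGroup.closure_range_of R, Subgroup.closure_le]
    rintro _ ⟨⟨⟨⟨i, j⟩, h⟩, t⟩, rfl⟩
    exact Subgroup.subset_closure ⟨i, j, t, h, (hx h t).symm⟩
  obtain ⟨hfin, hle⟩ := CfsgLib.SteinbergSL.card_le_SL (by omega : 1 ≤ n) S hgen
  haveI := hfin
  have hsurj : Function.Surjective φ := by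
    rw [← MonoidHom.range_eq_top]
    exact CfsgLib.Linear.SL_eq_top_of_transvection_mem _ fun i j h c =>
      ⟨PresentedGroup.of (⟨(i, j), h⟩, c), PresentedGroup.toGroup.of hf⟩
  refine ⟨MulEquiv.ofBijective φ ((Nat.bijective_iff_surjective_and_card φ).2
    ⟨hsurj, le_antisymm hle (Nat.card_le_card_of_surjective φ hsurj)⟩), fun a t => ?_⟩
  show ((φ (PresentedGroup.of (a, t))) : Matrix (Fin n) (Fin n) K) = _
  rw [show φ (PresentedGroup.of (a, t)) = f (a, t) from PresentedGroup.toGroup.of hf]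
  rfl

end Cfsg.Agent.S2401
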