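import Cfsg.Statements.S0923
import Cfsg.Agent.Lib.Blocks.Section

set_option autoImplicit false
open Cfsg

namespace Cfsg.Agent.S0923

open CfsgLib.Blocks in
theorem inducedBlockDefined_centralizer {G : Type*} [Group G] [Finite G] (p : ℕ)
    (M : Ideal AlgInt) [M.IsMaximal] (hp : p.Prime) (hmem : (p : AlgInt) ∈ M) (x : G)
    (hx : ∃ k : ℕ, orderOf x = p ^ k)
    (b : Set (IrrCharacter (Subgroup.centralizer ({x} : Set G)))) (hb : IsPBlock M b) :
    InducedBlockDefined M (Subgroup.centralizer ({x} : Set G)) b := by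
  classical
  haveI := Fact.mk hp
  haveI := charP_resField (M := M) hp hmem
  obtain ⟨k, hk⟩ := hx
  set H := Subgroup.centralizer ({x} : Set G)
  set P := Subgroup.zpowers x
  have hcc : ∀ h : G, h ∈ Subgroup.centralizer (P : Set G) ↔ h ∈ H := fun h => by
    rw [mem_centralizer_zpowers_iff, Subgroup.mem_centralizer_singleton_iff]
    exact Iff.rfl
  have hCH : Subgroup.centralizer (P : Set G) ≤ H := fun h hh => (hcc h).1 hh
  have hres : ∀ a : Subalgebra.center (ResField M) (MonoidAlgebra (ResField M) G),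
      (resCenter H a : MonoidAlgebra (ResField M) H)
        = brTo P H (a : MonoidAlgebra (ResField M) G) := by
    intro a
    ext h
    rw [coeff_resCenter, coeff_brTo, if_pos ((hcc _).2 h.2)]
  obtain ⟨ξ, rfl⟩ := hb
  let μ : Subalgebra.center (ResField M) (MonoidAlgebra (ResField M) G) →ₐ[ResField M] ResField M :=
    AlgHom.ofLinearMap ((lam M ξ).toLinearMap.comp (resCenter H))
      (by
        show lam M ξ (resCenter H 1) = 1
        rw [show resCenter H (1 : Subalgebra.center (ResField M) (MonoidAlgebra (ResField M) G)) = 1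
          from Subtype.ext (by rw [hres, OneMemClass.coe_one, brTo_one, OneMemClass.coe_one]),
          map_one])
      (fun a c => by
        show lam M ξ (resCenter H (a * c)) = lam M ξ (resCenter H a) * lam M ξ (resCenter H c)
        rw [← map_mul]
        congr 1
        apply Subtype.ext
        rw [hres, Subalgebra.coe_mul, Subalgebra.coe_mul, hres, hres,
          brTo_mul (isPGroup_zpowers hk) hCH (conjFixed_of_mem_center a.2)
            (conjFixed_of_mem_center c.2)])
  obtain ⟨χ, hχ⟩ := exists_eq_lam μ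
  exact ⟨_, isInducedBlock_of_lam_resCenter_eq ξ χ fun a => DFunLike.congr_fun hχ a⟩

open CfsgLib.Blocks Classical in
theorem sum_blockCoeff_mul_irr {H : Type*} [Group H] [Fintype H] (b : Set (IrrCharacter H))
    (ψ : IrrCharacter H) (y : H) :
    ∑ c, blockCoeff b c * (ψ : H → ℂ) (c * y) = if ψ ∈ b then (ψ : H → ℂ) y else 0 := by
  classical
  obtain ⟨n, ρ, hρ, hρψ⟩ := ψ.2
  haveI := hρ
  have hf : Cfsg.IsClassFunction H (blockCoeff b) := fun x u => blockCoeff_conj b u x
  obtain ⟨c, hc, hc'⟩ := CfsgLib.Char.exists_scalar_sum_smul ρ (blockCoeff b) hf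
  have h1 : (∑ g, blockCoeff b g * (ψ : H → ℂ) g) / (ψ : H → ℂ) 1 = if ψ ∈ b then 1 else 0 := by
    have h := omega_idemC b ψ
    rw [omega_eq_sum, blockInd] at h
    simpa using h
  have hn : (Module.finrank ℂ (Fin n → ℂ) : ℂ) ≠ 0 := by
    exact_mod_cast (CfsgLib.Char.finrank_pos_of_isIrreducible ρ).ne'
  rw [← hρψ, Representation.char_one, ← hc', mul_div_cancel_right₀ _ hn] at h1
  have h2 := congrArg (fun T => LinearMap.trace ℂ (Fin n → ℂ) (T * ρ y)) hc
  rw [← hρψ]
  subst h1
  have h3 : ∑ c, blockCoeff b c * ρ.character (c * y) = (if ψ ∈ b then 1 else 0) * ρ.character y := by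
    split_ifs at h2 with hψ
    · simpa [hψ, Finset.sum_mul, map_sum, Representation.character, map_mul] using h2
    · simpa [hψ, Finset.sum_mul, map_sum, Representation.character, map_mul] using h2
  rw [h3]
  split_ifs <;> simp

theorem blockPart_eq {H : Type*} [Group H] [Finite H] (b : Set (IrrCharacter H)) {th : H → ℂ}
    (y : H) (hth : IsClassFunction H th) :
    blockPart b th y = ∑ᶠ c, blockCoeff b c * th (c * y) := by
  classical
  letI := Fintype.ofFinite H
  show ∑ᶠ ψ ∈ b, classInner th (ψ : H → ℂ) * (ψ : H → ℂ) y = _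
  rw [finsum_mem_def, finsum_eq_sum_of_fintype, finsum_eq_sum_of_fintype]
  conv_rhs => rw [CfsgLib.Char.IsClassFunction.eq_sum_classInner hth]
  simp only [Finset.sum_apply, Pi.smul_apply, smul_eq_mul, Finset.mul_sum]
  rw [Finset.sum_comm]
  refine Finset.sum_congr rfl fun ψ _ => ?_
  simp only [mul_left_comm _ (classInner th (ψ : H → ℂ))]
  rw [← Finset.mul_sum, sum_blockCoeff_mul_irr b ψ y]
  by_cases hψ : ψ ∈ b <;> simp [hψ]

/-- Brauer's Second Main Theorem, in terms of ordinary characters. Let x be a p-element of the finite group G with centralizer C, let χ lie in the block B of G and let b be a block of C that does not induce B (relative to a maximal ideal M of the algebraic integers containing p). Form the class function ϑ(c) = χ(x c) on C and its b-part (the sum over ψ ∈ b of the inner product of ϑ with ψ, times ψ). Then the b-part of ϑ vanishes at every p-regular element of C. (Equivalently, the generalized decomposition numbers of χ with respect to b are zero.) -/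
theorem result {G : Type*} [Group G] [Finite G] (p : ℕ) [Fact p.Prime] (M : Ideal Cfsg.AlgInt) (hM : Cfsg.IsPModular p M) (x : G) (hx : ∃ k : ℕ, orderOf x = p ^ k) (B : Set (Cfsg.IrrCharacter G)) (hB : Cfsg.IsPBlock M B) (χ : Cfsg.IrrCharacter G) (hχ : χ ∈ B) (b : Set (Cfsg.IrrCharacter (Subgroup.centralizer ({x} : Set G)))) (hb : Cfsg.IsPBlock M b) (hnot : ¬ Cfsg.IsInducedBlock M (Subgroup.centralizer ({x} : Set G)) b B) (y : Subgroup.centralizer ({x} : Set G)) (hy : ¬ p ∣ orderOf y) : Cfsg.blockPart b (fun c : Subgroup.centralizer ({x} : Set G) => (χ : G → ℂ) (x * (c : G))) y = 0 := by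
  haveI := hM.2.1
  have hp := (Fact.out : p.Prime)
  haveI := CfsgLib.Blocks.charP_resField (M := M) hp hM.2.2
  letI := Fintype.ofFinite G
  obtain ⟨k, hk⟩ := hx
  have hx' : x ∈ Subgroup.centralizer ({x} : Set G) := Subgroup.mem_centralizer_singleton_iff.2 rfl
  have hxy : Commute x (y : G) := (Subgroup.mem_centralizer_singleton_iff.1 y.2).symm
  obtain ⟨B', hB'⟩ := inducedBlockDefined_centralizer p M hp hM.2.2 x ⟨k, hk⟩ b hb
  have hχB' : χ ∉ B' := fun h => hnot (CfsgLib.Blocks.IsPBlock.eq_of_mem hB'.2.1 hB h hχ ▸ hB')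
  have hyreg : ¬ p ∣ orderOf (y : G) := by rwa [Subgroup.orderOf_coe]
  have key := CfsgLib.Blocks.sum_blockCoeff_mul_char_eq_zero hp hM.2.2 hB'
    (h := ⟨x * (y : G), mul_mem hx' y.2⟩) (CfsgLib.Blocks.isPPart_of_commute hxy hk hyreg)
    le_rfl hχB'
  rw [← key, blockPart_eq b]
  · refine finsum_congr fun c => ?_
    have hc : Commute (c : G) x := Subgroup.mem_centralizer_singleton_iff.1 c.2
    have e : x * ((c * y : Subgroup.centralizer ({x} : Set G)) : G) = (c : G) * (x * (y : G)) := by
      rw [Subgroup.coe_mul, ← mul_assoc, ← mul_assoc, hc.eq]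
    show _ * (χ : G → ℂ) (x * ((c * y : Subgroup.centralizer ({x} : Set G)) : G))
      = _ * (χ : G → ℂ) ((c : G) * (x * (y : G)))
    rw [e]
  · intro c d
    have hd : Commute (d : G) x := Subgroup.mem_centralizer_singleton_iff.1 d.2
    show (χ : G → ℂ) (x * ((d * c * d⁻¹ : Subgroup.centralizer ({x} : Set G)) : G))
      = (χ : G → ℂ) (x * (c : G))
    rw [Subgroup.coe_mul, Subgroup.coe_mul, InvMemClass.coe_inv,
      ← CfsgLib.Char.IsIrrCharacter.isClassFunction χ.2 (x * (c : G)) (d : G)]
    refine congrArg _ ?_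
    calc x * ((d : G) * c * (d : G)⁻¹) = x * (d : G) * ((c : G) * (d : G)⁻¹) := by group
      _ = (d : G) * x * ((c : G) * (d : G)⁻¹) := by rw [hd.eq]
      _ = _ := by group

end Cfsg.Agent.S0923
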