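import Cfsg.Statements.S0942
import Cfsg.Agent.Lib.Invol.PrincipalKernel
import Cfsg.Agent.S0923
import Cfsg.Agent.S0936
import Cfsg.Agent.Lib.Solvable.Core

set_option autoImplicit false
open Cfsg

namespace Cfsg.Agent.S0942

/-- Let u be a p-element of the finite group G, let v lie in the largest normal subgroup of C_G(u) of order prime to p, and let χ belong to the principal block (relative to a maximal ideal M of the algebraic integers containing p). Then χ (u * v) = χ u. -/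
theorem result {G : Type*} [Group G] [Finite G] (p : ℕ) [Fact p.Prime] (M : Ideal Cfsg.AlgInt) (hM : Cfsg.IsPModular p M) (u : G) (hu : ∃ k : ℕ, orderOf u = p ^ k) (v : G) (hv : v ∈ Cfsg.centralizerPPrimeCore p u) (χ : Cfsg.IrrCharacter G) (hχ : χ ∈ Cfsg.principalBlock M G) : (χ : G → ℂ) (u * v) = (χ : G → ℂ) u := by
  classical
  haveI := hM.2.1
  have hp := (Fact.out : p.Prime)
  set H := Subgroup.centralizer ({u} : Set G) with hH
  set b₀ := Cfsg.principalBlock M H
  letI := Fintype.ofFinite G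
  letI := Fintype.ofFinite H
  obtain ⟨w, hw, rfl⟩ := hv
  set θ : H → ℂ := fun c => (χ : G → ℂ) (u * (c : G)) with hθdef
  have hθ : Cfsg.IsClassFunction H θ := by
    intro c d
    have hd : Commute (d : G) u := Subgroup.mem_centralizer_singleton_iff.1 d.2
    show (χ : G → ℂ) (u * ((d * c * d⁻¹ : H) : G)) = (χ : G → ℂ) (u * (c : G))
    rw [← CfsgLib.Char.IsIrrCharacter.isClassFunction χ.2 (u * (c : G)) (d : G)]
    refine congrArg _ ?_
    calc u * ((d : G) * c * (d : G)⁻¹) = u * (d : G) * ((c : G) * (d : G)⁻¹) := by group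
      _ = (d : G) * u * ((c : G) * (d : G)⁻¹) := by rw [hd.eq]
      _ = _ := by group
  let F : Cfsg.IrrCharacter H → H → ℂ := fun ψ y => Cfsg.classInner θ (ψ : H → ℂ) * (ψ : H → ℂ) y
  -- at regular elements only the principal block contributes
  have hpart : ∀ y : H, ¬ p ∣ orderOf y →
      θ y = ∑ ψ ∈ Finset.univ.filter (fun ψ : Cfsg.IrrCharacter H => ψ ∈ b₀), F ψ y := by
    intro y hy
    have hfull : θ y = ∑ ψ, F ψ y := by
      conv_lhs => rw [CfsgLib.Char.IsClassFunction.eq_sum_classInner hθ]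
      rw [Finset.sum_apply]
      rfl
    rw [hfull, ← Finset.sum_filter_add_sum_filter_not Finset.univ (fun ψ => ψ ∈ b₀), add_eq_left,
      ← Finset.sum_fiberwise_of_maps_to (g := fun ψ : Cfsg.IrrCharacter H =>
        Cfsg.blockOf M (ψ : H → ℂ))
        (fun ψ hψ => Finset.mem_image_of_mem (fun ψ : Cfsg.IrrCharacter H =>
          Cfsg.blockOf M (ψ : H → ℂ)) hψ)]
    refine Finset.sum_eq_zero fun b hb => ?_
    obtain ⟨ψ₀, hψ₀, rfl⟩ := Finset.mem_image.1 hb
    have hbb : Cfsg.IsPBlock M (Cfsg.blockOf M (ψ₀ : H → ℂ)) := ⟨ψ₀, rfl⟩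
    have hne : Cfsg.blockOf M (ψ₀ : H → ℂ) ≠ b₀ := fun h =>
      (Finset.mem_filter.1 hψ₀).2 (h ▸ CfsgLib.Blocks.mem_blockOf_self ψ₀)
    have hnot : ¬ Cfsg.IsInducedBlock M H (Cfsg.blockOf M (ψ₀ : H → ℂ)) (Cfsg.principalBlock M G) :=
      fun h => hne ((Cfsg.Agent.S0936.result p M hM H _ ⟨_, h⟩).1 h)
    have h0 := Cfsg.Agent.S0923.result p M hM u hu _ CfsgLib.Blocks.isPBlock_principalBlock χ hχ
      _ hbb hnot y hy
    rw [Cfsg.blockPart, finsum_mem_eq_sum_of_inter_support_eq _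
      (t := Finset.univ.filter fun ψ : Cfsg.IrrCharacter H => ψ ∈ Cfsg.blockOf M (ψ₀ : H → ℂ))
      (by simp)] at h0
    rw [← h0]
    refine Finset.sum_congr ?_ fun ψ _ => rfl
    ext ψ
    simp only [Finset.mem_filter, Finset.mem_univ, true_and]
    constructor
    · rintro ⟨-, h⟩
      exact h ▸ CfsgLib.Blocks.mem_blockOf_self ψ
    · intro h
      have h' := (CfsgLib.Blocks.IsPBlock.eq_blockOf hbb h).symm
      exact ⟨fun hb0 => hne ((CfsgLib.Blocks.IsPBlock.eq_of_mem hbb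
        CfsgLib.Blocks.isPBlock_principalBlock h hb0)), h'⟩
  haveI := CfsgLib.Solvable.pPrimeCore_normal p H
  have hcop : ¬ p ∣ Nat.card (Cfsg.pPrimeCore p H) :=
    hp.coprime_iff_not_dvd.1 (CfsgLib.Solvable.pPrimeCore_card_coprime p H).symm
  have hw' : ¬ p ∣ orderOf w := fun h =>
    hcop (h.trans ((Subgroup.orderOf_mk w hw) ▸ orderOf_dvd_natCard (⟨w, hw⟩ : Cfsg.pPrimeCore p H)))
  show θ w = (χ : G → ℂ) u
  rw [show (χ : G → ℂ) u = θ 1 by simp [hθdef], hpart w hw',
    hpart 1 (by rw [orderOf_one]; exact hp.not_dvd_one)]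
  refine Finset.sum_congr rfl fun ψ hψ => ?_
  show _ * (ψ : H → ℂ) w = _ * (ψ : H → ℂ) 1
  have h := CfsgLib.Invol.apply_mul_of_mem_principalBlock hM hcop (Finset.mem_filter.1 hψ).2 hw 1
  rw [one_mul] at h
  rw [h]

end Cfsg.Agent.S0942
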