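import Cfsg.Statements.S0213
import Cfsg.Agent.Lib.Invol.Counting

set_option autoImplicit false
open Cfsg

namespace Cfsg.Agent.S0213

/-- An involution in the cyclic group generated by an element of even order is its middle power. -/
theorem eq_middle {G : Type*} [Group G] [Finite G] {r w : G} (hw : orderOf w = 2)
    (h : w ∈ Subgroup.zpowers r) (hev : Even (orderOf r)) : w = r ^ (orderOf r / 2) := by
  obtain ⟨k, rfl⟩ := Subgroup.mem_zpowers_iff.1 h
  obtain ⟨m, hm⟩ := hev
  have hd : orderOf r / 2 = m := by omega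
  have hne := CfsgLib.Invol.ne_one_of_invol hw
  have h2 := CfsgLib.Invol.mul_self_eq_one hw
  rw [← zpow_add, ← orderOf_dvd_iff_zpow_eq_one] at h2
  rw [Ne, ← orderOf_dvd_iff_zpow_eq_one] at hne
  rw [hd, ← zpow_natCast, ← orderOf_dvd_sub_iff_zpow_eq_zpow]
  rw [hm] at h2 hne ⊢
  push_cast at h2 hne ⊢
  obtain ⟨c, hc⟩ := h2
  rcases Int.even_or_odd' c with ⟨d, rfl | rfl⟩
  · exact absurd ⟨d, by linarith⟩ hne
  · exact ⟨d, by linarith⟩

/-- Thompson Order Formula, two-class case: if every involution of the finite group G is conjugate to exactly one of the non-conjugate involutions x₁, x₂, and nᵢ is the number of pairs (u, v) with u conjugate to x₁, v conjugate to x₂ and xᵢ in the cyclic group generated by uv, then |G| = |C(x₂)| n₁ + |C(x₁)| n₂. -/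
theorem result {G : Type*} [Group G] [Finite G] (x₁ x₂ : G) (h₁ : orderOf x₁ = 2) (h₂ : orderOf x₂ = 2) (hnc : ¬ IsConj x₁ x₂) (hall : ∀ t : G, orderOf t = 2 → IsConj x₁ t ∨ IsConj x₂ t) : Nat.card G = Nat.card (Subgroup.centralizer ({x₂} : Set G)) * Nat.card {p : G × G // IsConj x₁ p.1 ∧ IsConj x₂ p.2 ∧ x₁ ∈ Subgroup.zpowers (p.1 * p.2)} + Nat.card (Subgroup.centralizer ({x₁} : Set G)) * Nat.card {p : G × G // IsConj x₁ p.1 ∧ IsConj x₂ p.2 ∧ x₂ ∈ Subgroup.zpowers (p.1 * p.2)} := by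
  classical
  have : Fintype G := Fintype.ofFinite G
  set c₁ := Nat.card (Subgroup.centralizer ({x₁} : Set G))
  set c₂ := Nat.card (Subgroup.centralizer ({x₂} : Set G))
  set n₁ := Nat.card {p : G × G // IsConj x₁ p.1 ∧ IsConj x₂ p.2 ∧ x₁ ∈ Subgroup.zpowers (p.1 * p.2)}
  set n₂ := Nat.card {p : G × G // IsConj x₁ p.1 ∧ IsConj x₂ p.2 ∧ x₂ ∈ Subgroup.zpowers (p.1 * p.2)}
  set A : Finset G := Finset.univ.filter (fun u => IsConj x₁ u)
  set B : Finset G := Finset.univ.filter (fun u => IsConj x₂ u)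
  let mid : G × G → G := fun p => (p.1 * p.2) ^ (orderOf (p.1 * p.2) / 2)
  have hmid : ∀ p ∈ A ×ˢ B, orderOf (mid p) = 2 ∧ ∀ z : G, orderOf z = 2 →
      (z ∈ Subgroup.zpowers (p.1 * p.2) ↔ mid p = z) := by
    intro p hp
    simp only [A, B, Finset.mem_product, Finset.mem_filter, Finset.mem_univ, true_and] at hp
    obtain ⟨hev, h2, -⟩ := CfsgLib.Invol.exists_middle_of_not_isConj
      (CfsgLib.Invol.orderOf_eq_two_of_isConj h₁ hp.1)
      (CfsgLib.Invol.orderOf_eq_two_of_isConj h₂ hp.2)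
      (fun h => hnc ((hp.1.trans h).trans hp.2.symm))
    exact ⟨h2, fun z hz => ⟨fun h => (eq_middle hz h hev).symm,
      fun h => h ▸ Subgroup.npow_mem_zpowers _ _⟩⟩
  have hfib : ∀ x z : G, orderOf x = 2 → IsConj x z →
      ((A ×ˢ B).filter fun p => mid p = z).card = Nat.card {p : G × G //
        IsConj x₁ p.1 ∧ IsConj x₂ p.2 ∧ x ∈ Subgroup.zpowers (p.1 * p.2)} := by
    intro x z hx hxz
    obtain ⟨g, rfl⟩ := isConj_iff.1 hxz
    rw [← Nat.card_eq_finsetCard]
    symm
    refine Nat.card_congr (((MulAut.conj g).toEquiv.prodCongr (MulAut.conj g).toEquiv).subtypeEquiv ?_)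
    intro p
    have hz : orderOf (g * x * g⁻¹) = 2 := by rw [CfsgLib.Invol.orderOf_conj, hx]
    have hc : ∀ y u : G, IsConj y (g * u * g⁻¹) ↔ IsConj y u := fun y u =>
      ⟨fun h => h.trans (isConj_iff.2 ⟨g, rfl⟩).symm, fun h => h.trans (isConj_iff.2 ⟨g, rfl⟩)⟩
    have hmem : g * x * g⁻¹ ∈ Subgroup.zpowers (g * p.1 * g⁻¹ * (g * p.2 * g⁻¹)) ↔
        x ∈ Subgroup.zpowers (p.1 * p.2) := by
      rw [show g * p.1 * g⁻¹ * (g * p.2 * g⁻¹) = MulAut.conj g (p.1 * p.2) by
        rw [MulAut.conj_apply]; group, ← MulAut.conj_apply]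
      rw [Subgroup.mem_zpowers_iff, Subgroup.mem_zpowers_iff]
      refine exists_congr fun k => ?_
      rw [← map_zpow]
      exact (MulAut.conj g).injective.eq_iff
    simp only [Finset.mem_filter, Equiv.prodCongr_apply, MulEquiv.toEquiv_eq_coe,
      MulEquiv.coe_toEquiv, Prod.map_fst, Prod.map_snd, MulAut.conj_apply]
    constructor
    · rintro ⟨hu, hv, hx'⟩
      have hm : Prod.map (MulAut.conj g) (MulAut.conj g) p ∈ A ×ˢ B := by
        simp only [A, B, Finset.mem_product, Finset.mem_filter, Finset.mem_univ, true_and,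
          Prod.map_fst, Prod.map_snd, MulAut.conj_apply]
        exact ⟨(hc _ _).2 hu, (hc _ _).2 hv⟩
      exact ⟨hm, ((hmid _ hm).2 _ hz).1 (hmem.2 hx')⟩
    · rintro ⟨hm, he⟩
      have h' := hmem.1 (((hmid _ hm).2 _ hz).2 he)
      simp only [A, B, Finset.mem_product, Finset.mem_filter, Finset.mem_univ, true_and,
        Prod.map_fst, Prod.map_snd, MulAut.conj_apply] at hm
      exact ⟨(hc _ _).1 hm.1, (hc _ _).1 hm.2, h'⟩
  have hA : A.card = (Subgroup.centralizer ({x₁} : Set G)).index := by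
    rw [← CfsgLib.Invol.card_isConj_eq_index, Nat.card_eq_fintype_card, Fintype.card_subtype]
  have hB : B.card = (Subgroup.centralizer ({x₂} : Set G)).index := by
    rw [← CfsgLib.Invol.card_isConj_eq_index, Nat.card_eq_fintype_card, Fintype.card_subtype]
  have hmain : A.card * B.card = A.card * n₁ + B.card * n₂ := by
    rw [← Finset.card_product, Finset.card_eq_sum_card_fiberwise (f := mid) (t := A ∪ B)]
    · rw [Finset.sum_union, Finset.sum_const_nat, Finset.sum_const_nat]
      · intro z hz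
        exact hfib x₂ z h₂ (Finset.mem_filter.1 hz).2
      · intro z hz
        exact hfib x₁ z h₁ (Finset.mem_filter.1 hz).2
      · rw [Finset.disjoint_left]
        intro z hz hz'
        exact hnc ((Finset.mem_filter.1 hz).2.trans (Finset.mem_filter.1 hz').2.symm)
    · intro p hp
      rcases hall _ (hmid p hp).1 with h | h
      · exact Finset.mem_union_left _ (Finset.mem_filter.2 ⟨Finset.mem_univ _, h⟩)
      · exact Finset.mem_union_right _ (Finset.mem_filter.2 ⟨Finset.mem_univ _, h⟩)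
  have e₁ : c₁ * A.card = Nat.card G := by rw [hA]; exact Subgroup.card_mul_index _
  have e₂ : c₂ * B.card = Nat.card G := by rw [hB]; exact Subgroup.card_mul_index _
  apply Nat.eq_of_mul_eq_mul_left (Nat.card_pos (α := G))
  calc Nat.card G * Nat.card G = c₁ * c₂ * (A.card * B.card) := by
        rw [show c₁ * c₂ * (A.card * B.card) = (c₁ * A.card) * (c₂ * B.card) by ring, e₁, e₂]
    _ = c₁ * c₂ * (A.card * n₁ + B.card * n₂) := by rw [hmain]
    _ = (c₁ * A.card) * (c₂ * n₁) + (c₂ * B.card) * (c₁ * n₂) := by ring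
    _ = Nat.card G * (c₂ * n₁ + c₁ * n₂) := by rw [e₁, e₂]; ring

end Cfsg.Agent.S0213
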