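import Cfsg.Statements.S0046
import Cfsg.Agent.Lib.Solvable.SmallOrder
import Cfsg.Agent.Lib.Solvable.Basic
import Cfsg.Agent.Lib.Frobenius.Basic
import Mathlib.GroupTheory.SpecificGroups.Cyclic
import Mathlib.GroupTheory.Frattini

set_option autoImplicit false
set_option linter.style.haveILetI false
open Cfsg
open scoped Pointwise

namespace Cfsg.Agent.S0046

theorem eq_bot_or_top_of_isCoatom_pair {G : Type*} [Group G] [Finite G]
    (h : ∀ M : Subgroup G, IsCoatom M → Group.IsNilpotent M)
    (hs : ∀ N : Subgroup G, N.Normal → N = ⊥ ∨ N = ⊤)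
    {M₁ M₂ : Subgroup G} (h₁ : IsCoatom M₁) (h₂ : IsCoatom M₂) (hne : M₁ ≠ M₂) :
    M₁ ⊓ M₂ = ⊥ := by
  by_contra hD₀
  obtain ⟨⟨A, B⟩, ⟨hA, hB, hAB⟩, hmax⟩ := Set.exists_max_image
    {st : Subgroup G × Subgroup G | IsCoatom st.1 ∧ IsCoatom st.2 ∧ st.1 ≠ st.2}
    (fun st => Nat.card (st.1 ⊓ st.2 : Subgroup G)) (Set.toFinite _) ⟨(M₁, M₂), h₁, h₂, hne⟩
  set D := A ⊓ B with hD
  have hDne : D ≠ ⊥ := by
    intro e
    have h1 : Nat.card (M₁ ⊓ M₂ : Subgroup G) ≤ Nat.card D := hmax (M₁, M₂) ⟨h₁, h₂, hne⟩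
    rw [e, Subgroup.card_bot] at h1
    exact hD₀ (Subgroup.eq_bot_of_card_le _ h1)
  set N := Subgroup.normalizer (D : Set G) with hN
  have hNtop : N ≠ ⊤ := by
    intro e
    rcases hs D (Subgroup.normalizer_eq_top_iff.1 e) with e' | e'
    · exact hDne e'
    · exact hA.1 (top_le_iff.1 (e' ▸ inf_le_left))
  obtain ⟨M, hM, hNM⟩ := (eq_top_or_exists_le_coatom N).resolve_left hNtop
  have hstep : ∀ W : Subgroup G, IsCoatom W → D ≤ W → D ≠ W → M = W := by
    intro W hW hDW hneW
    haveI := h W hW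
    have hlt : D.subgroupOf W < Subgroup.normalizer ((D.subgroupOf W) : Set W) :=
      Group.normalizerCondition_of_isNilpotent _ (lt_top_iff_ne_top.2 fun e =>
        hneW (le_antisymm hDW (Subgroup.subgroupOf_eq_top.1 e)))
    obtain ⟨x, hx, hxD⟩ := SetLike.exists_of_lt hlt
    by_contra hMW
    have hxN : (x : G) ∈ N := by
      have h1 : x ∈ (Subgroup.normalizer (D : Set G)).subgroupOf W := by
        rwa [Subgroup.subgroupOf_normalizer_eq hDW]
      exact Subgroup.mem_subgroupOf.1 h1
    have hDMW : D ≤ M ⊓ W := le_inf (le_trans Subgroup.le_normalizer hNM) hDW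
    have heq := Subgroup.eq_of_le_of_card_ge hDMW (hmax (M, W) ⟨hM, hW, hMW⟩)
    exact hxD (Subgroup.mem_subgroupOf.2 (heq ▸ ⟨hNM hxN, x.2⟩))
  have hDA : D ≠ A := fun e => hAB ((hA.2 B |> fun hmax => (eq_or_lt_of_le (e ▸ inf_le_right : A ≤ B)).resolve_right fun hlt => hB.1 (hmax hlt)))
  have hDB : D ≠ B := fun e => hAB ((eq_or_lt_of_le (e ▸ inf_le_left : B ≤ A)).resolve_right fun hlt => hA.1 (hB.2 A hlt)).symm
  exact hAB ((hstep A hA inf_le_left hDA).symm.trans (hstep B hB inf_le_right hDB))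

theorem isSolvable_aux : ∀ (n : ℕ) (G : Type _) [Group G] [Finite G], Nat.card G ≤ n →
    (∀ M : Subgroup G, IsCoatom M → Group.IsNilpotent M) → Group.IsSolvable G := by
  intro n
  induction n with
  | zero => intro G _ _ hn; have := (Nat.card_pos : 0 < Nat.card G); omega
  | succ n ih =>
    intro G _ _ hn h
    by_cases hs : ∀ N : Subgroup G, N.Normal → N = ⊥ ∨ N = ⊤
    swap
    · push Not at hs
      obtain ⟨N, hN, hN1, hN2⟩ := hs
      haveI := hN
      obtain ⟨M, hM, hNM⟩ := (eq_top_or_exists_le_coatom N).resolve_left hN2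
      haveI := h M hM
      haveI : Group.IsNilpotent (N.subgroupOf M) := inferInstance
      haveI : Group.IsNilpotent N := Group.nilpotent_of_mulEquiv (Subgroup.subgroupOfEquivOfLe hNM)
      refine CfsgLib.Solvable.isSolvable_of_normal N inferInstance (ih _ ?_ fun K hK => ?_)
      · have h1 := N.card_eq_card_quotient_mul_card_subgroup
        have h2 : 2 ≤ Nat.card N := (Subgroup.one_lt_card_iff_ne_bot N).2 hN1
        have h3 : Nat.card (G ⧸ N) * 2 ≤ Nat.card G := h1 ▸ Nat.mul_le_mul_left _ h2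
        have h4 : 0 < Nat.card (G ⧸ N) := Nat.card_pos
        omega
      · have hf := QuotientGroup.mk'_surjective N
        haveI := h _ (Subgroup.isCoatom_comap_of_surjective hf hK)
        exact Group.nilpotent_of_surjective
          ((QuotientGroup.mk' N).subgroupComap K)
          ((QuotientGroup.mk' N).subgroupComap_surjective_of_surjective K hf)
    by_cases hcyc : IsCyclic G
    · exact Group.isSolvable_of_comm fun a b => (IsCyclic.isMulCommutative (α := G)).is_comm.comm a b
    have hnt : Nontrivial G := by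
      by_contra hnt
      rw [not_nontrivial_iff_subsingleton] at hnt
      exact hcyc inferInstance
    obtain ⟨M, hM, -⟩ := (eq_top_or_exists_le_coatom (⊥ : Subgroup G)).resolve_left bot_ne_top
    have hne : ∀ W : Subgroup G, IsCoatom W → W ≠ ⊥ := by
      intro W hW e
      subst e
      obtain ⟨x, hx⟩ := exists_ne (1 : G)
      have htop : Subgroup.zpowers x = ⊤ := by
        by_contra hne
        exact hne (hW.2 _ (bot_lt_iff_ne_bot.2 (by simpa using hx)))
      exact hcyc ⟨⟨x, fun y => (htop.symm.le (Subgroup.mem_top y) : y ∈ Subgroup.zpowers x)⟩⟩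
    have hF : ∀ W : Subgroup G, IsCoatom W → Cfsg.IsFrobeniusComplement W := by
      intro W hW
      refine ⟨hne W hW, hW.1, fun g hg => ?_⟩
      refine eq_bot_or_top_of_isCoatom_pair h hs hW ?_ fun e => hg ?_
      · have hc := (OrderIso.isCoatom_iff (MulEquiv.mapSubgroup (MulAut.conj g : G ≃* G)) W).2 hW
        exact hc
      · have hself : Subgroup.normalizer (W : Set G) = W := by
          rcases eq_or_lt_of_le (Subgroup.le_normalizer (H := W)) with e' | e'
          · exact e'.symm
          · exfalso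
            rcases hs W (Subgroup.normalizer_eq_top_iff.1 (hW.2 _ e')) with e'' | e''
            · exact hne W hW e''
            · exact hW.1 e''
        rw [← hself]
        exact CfsgLib.Solvable.conj_smul_eq_self_iff.1 e.symm
    obtain ⟨x, hx, hx1⟩ : ∃ x, x ∈ Cfsg.frobeniusKernel M ∧ x ≠ 1 := by
      by_contra hcon
      push Not at hcon
      have hs' : Cfsg.frobeniusKernel M = {1} :=
        Set.eq_singleton_iff_unique_mem.2 ⟨Or.inl rfl, hcon⟩
      have := CfsgLib.Frobenius.ncard_kernel (hF M hM)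
      rw [hs', Set.ncard_singleton] at this
      have := CfsgLib.Frobenius.index_ge_two (hF M hM)
      omega
    obtain ⟨M', hM', hxM'⟩ := (eq_top_or_exists_le_coatom (Subgroup.zpowers x)).resolve_left
      (fun e => hcyc ⟨⟨x, fun y => (e.symm.le (Subgroup.mem_top y) : y ∈ Subgroup.zpowers x)⟩⟩)
    have hdisj : Disjoint (Cfsg.frobeniusKernel M)ᶜ (Cfsg.frobeniusKernel M')ᶜ := by
      rw [Set.disjoint_left]
      intro z hz hz'
      simp only [Cfsg.frobeniusKernel, Set.mem_compl_iff, Set.mem_ofPred_eq, not_or] at hz hz'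
      obtain ⟨hz1, hz⟩ := hz
      obtain ⟨-, hz'⟩ := hz'
      push Not at hz hz'
      obtain ⟨a, ha⟩ := hz
      obtain ⟨b, hb⟩ := hz'
      have hca : IsCoatom (MulAut.conj a • M : Subgroup G) :=
        (OrderIso.isCoatom_iff (MulEquiv.mapSubgroup (MulAut.conj a : G ≃* G)) M).2 hM
      have hcb : IsCoatom (MulAut.conj b • M' : Subgroup G) :=
        (OrderIso.isCoatom_iff (MulEquiv.mapSubgroup (MulAut.conj b : G ≃* G)) M').2 hM'
      refine hz1 ?_
      have hab : MulAut.conj a • M ≠ MulAut.conj b • M' := by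
        intro e
        refine hx1 (CfsgLib.Frobenius.eq_one_of_mem_kernel_of_mem (g := b⁻¹ * a) hx ?_)
        rw [← CfsgLib.Solvable.conj_smul_conj_smul, e, CfsgLib.Solvable.conj_smul_conj_smul,
          inv_mul_cancel, map_one, one_smul]
        exact hxM' (Subgroup.mem_zpowers x)
      have hmem : z ∈ MulAut.conj a • M ⊓ MulAut.conj b • M' := ⟨ha, hb⟩
      rwa [eq_bot_or_top_of_isCoatom_pair h hs hca hcb hab, Subgroup.mem_bot] at hmem
    have hun : (Cfsg.frobeniusKernel M)ᶜ ∪ (Cfsg.frobeniusKernel M')ᶜ ⊆ {(1 : G)}ᶜ := by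
      rintro z (hz | hz) (rfl : z = 1) <;> exact hz (Or.inl rfl)
    have h3 := Set.ncard_le_ncard hun
    rw [Set.ncard_union_eq hdisj, Set.ncard_compl {(1 : G)}, Set.ncard_singleton] at h3
    have e1 := CfsgLib.Frobenius.ncard_kernel_compl (hF M hM)
    have e2 := CfsgLib.Frobenius.ncard_kernel_compl (hF M' hM')
    have h4 : 2 * M.index ≤ Nat.card G := by
      rw [← M.card_mul_index]; exact Nat.mul_le_mul_right _ (CfsgLib.Frobenius.card_ge_two (hF M hM))
    have h5 : 2 * M'.index ≤ Nat.card G := by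
      rw [← M'.card_mul_index]; exact Nat.mul_le_mul_right _ (CfsgLib.Frobenius.card_ge_two (hF M' hM'))
    have h6 : 0 < Nat.card G := Nat.card_pos
    omega

/-- Schmidt's Theorem on minimal non-nilpotent groups: a finite group in which every maximal subgroup is nilpotent is solvable. -/
theorem result {G : Type*} [Group G] [Finite G]
    (h : ∀ M : Subgroup G, IsCoatom M → Group.IsNilpotent M) : Group.IsSolvable G := by
  exact isSolvable_aux _ G le_rfl h

end Cfsg.Agent.S0046
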