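import Cfsg.Statements.S0179
import Cfsg.Agent.Lib.Char.Integral
import Cfsg.Agent.Lib.Char.Complete
import Cfsg.Agent.Lib.Char.Kernel

set_option autoImplicit false
open Cfsg

namespace Cfsg.Agent.S0179

open CfsgLib
open scoped ComplexConjugate

/-- The faithful case. -/
theorem faithful {G : Type*} [Group G] [Fintype G] {V : Type*} [AddCommGroup V] [Module ℂ V]
    [FiniteDimensional ℂ V] (ρ : Representation ℂ G V) [ρ.IsIrreducible]
    (hinj : Function.Injective ρ) :
    Module.finrank ℂ V ∣ (Subgroup.center G).index := by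
  classical
  set Z := Subgroup.center G with hZ
  let s : Setoid G :=
    { r := fun a b => ∃ z : Z, IsConj ((z : G) * a) b
      iseqv :=
        { refl := fun a => ⟨1, by rw [OneMemClass.coe_one, one_mul]⟩
          symm := fun {a b} ⟨z, hz⟩ => ⟨z⁻¹, by
            obtain ⟨c, hc⟩ := isConj_iff.mp hz
            refine isConj_iff.mpr ⟨c⁻¹, ?_⟩
            rw [← hc]
            have hz' := Subgroup.mem_center_iff.mp (z⁻¹).2
            calc c⁻¹ * (((z⁻¹ : Z) : G) * (c * ((z : G) * a) * c⁻¹)) * c⁻¹⁻¹
                = c⁻¹ * (((z⁻¹ : Z) : G) * c) * ((z : G) * a) := by simp [mul_assoc]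
              _ = c⁻¹ * (c * ((z⁻¹ : Z) : G)) * ((z : G) * a) := by rw [hz']
              _ = a := by simp [mul_assoc]⟩
          trans := fun {a b d} ⟨z, hz⟩ ⟨w, hw⟩ => ⟨w * z, by
            refine IsConj.trans ?_ hw
            obtain ⟨c, hc⟩ := isConj_iff.mp hz
            refine isConj_iff.mpr ⟨c, ?_⟩
            rw [← hc, Subgroup.coe_mul]
            calc c * ((w : G) * (z : G) * a) * c⁻¹
                = (c * (w : G)) * ((z : G) * a) * c⁻¹ := by simp [mul_assoc]
              _ = ((w : G) * c) * ((z : G) * a) * c⁻¹ := by rw [Subgroup.mem_center_iff.mp w.2]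
              _ = (w : G) * (c * ((z : G) * a) * c⁻¹) := by simp [mul_assoc]⟩ } }
  let rep : G → G := fun g => (Quotient.mk s g).out
  let w : G → ℂ := fun g => if IsConj g (rep g) then 1 else 0
  have hrep : ∀ g h : G, IsConj g h → rep g = rep h := fun g h hgh =>
    congrArg Quotient.out (Quotient.sound (s := s) ⟨1, by rw [OneMemClass.coe_one, one_mul]; exact hgh⟩)
  have hzrep : ∀ (z : Z) (g : G), rep ((z : G) * g) = rep g := fun z g =>
    congrArg Quotient.out (Quotient.sound (s := s) ⟨z⁻¹, by rw [← mul_assoc, InvMemClass.coe_inv, inv_mul_cancel, one_mul]⟩)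
  have hscal : ∀ z : Z, ∃ c : ℂ, ρ (z : G) = c • 1 := fun z =>
    Char.exists_scalar_of_commute ρ _ fun g => by
      rw [← map_mul, ← map_mul, Subgroup.mem_center_iff.mp z.2 g]
  choose c hc using hscal
  have hchar : ∀ (z : Z) (g : G), ρ.character ((z : G) * g) = c z * ρ.character g := by
    intro z g
    simp [Representation.character, map_mul, hc]
  have hnorm : ∀ z : Z, ‖c z‖ = 1 := by
    intro z
    have := Char.finrank_pos_of_irreducible ρ
    have : Nontrivial V := Module.finrank_pos_iff.mp this
    have hpow : (c z) ^ orderOf (z : G) = 1 := by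
      have h : ρ ((z : G) ^ orderOf (z : G)) = (c z) ^ orderOf (z : G) • 1 := by
        rw [map_pow, hc, smul_pow, one_pow]
      rw [pow_orderOf_eq_one, map_one] at h
      obtain ⟨v, hv⟩ := exists_ne (0 : V)
      have := LinearMap.congr_fun h v
      exact (smul_left_injective ℂ hv (show (1 : ℂ) • v = _ • v by simpa using this)).symm
    exact Complex.norm_eq_one_of_pow_eq_one hpow (orderOf_pos _).ne'
  let f : G → ℂ := fun g => conj (ρ.character g) * w g
  have hf : ∀ g h : G, f (h * g * h⁻¹) = f g := by
    intro g h
    have hgh : IsConj g (h * g * h⁻¹) := isConj_iff.mpr ⟨h, rfl⟩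
    have hw : w (h * g * h⁻¹) = w g := by
      simp only [w, ← hrep g _ hgh]
      exact if_congr ⟨fun e => hgh.trans e, fun e => hgh.symm.trans e⟩ rfl rfl
    show conj _ * w _ = _
    rw [hw, Representation.char_conj]
  have hint : ∀ g, IsIntegral ℤ (f g) := by
    intro g
    refine IsIntegral.mul ?_ ?_
    · rw [← Char.character_inv]; exact Char.isIntegral_character ρ _
    · simp only [w]; split_ifs
      · exact isIntegral_one
      · exact isIntegral_zero
  have hI := Char.isIntegral_central_sum ρ f hf hint
  have hsum : (Nat.card Z : ℂ) * ∑ g, f g * ρ.character g = (Nat.card G : ℂ) := by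
    have h1 : ∀ z : Z, ∑ g, f g * ρ.character g =
        ∑ g, conj (ρ.character g) * ρ.character g * w ((z : G) * g) := by
      intro z
      refine (Fintype.sum_equiv (Equiv.mulLeft (z : G)) _ _ fun g => ?_).symm
      simp only [Equiv.coe_mulLeft, f, hchar, map_mul]
      have : conj (c z) * c z = 1 := by rw [Complex.conj_mul', hnorm]; simp
      linear_combination -(conj (ρ.character g) * ρ.character g * w ((z : G) * g)) * this
    have h2 : (Nat.card Z : ℂ) * ∑ g, f g * ρ.character g =
        ∑ z : Z, ∑ g, conj (ρ.character g) * ρ.character g * w ((z : G) * g) := by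
      rw [← Finset.sum_congr rfl (fun z _ => h1 z), Finset.sum_const, Finset.card_univ,
        nsmul_eq_mul, Nat.card_eq_fintype_card]
    rw [h2, Finset.sum_comm, ← Char.sum_char_mul_char_inv ρ]
    refine Finset.sum_congr rfl fun g _ => ?_
    rw [Char.character_inv]
    by_cases hg : ρ.character g = 0
    · simp [hg]
    · rw [← Finset.mul_sum]
      have hone : ∑ z : Z, w ((z : G) * g) = 1 := by
        obtain ⟨z₀, hz₀⟩ : ∃ z : Z, IsConj ((z : G) * g) (rep g) := by
          exact Setoid.symm (Quotient.exact (s := s) (Quotient.out_eq (Quotient.mk s g)))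
        rw [Finset.sum_eq_single z₀]
        · simp only [w, hzrep, if_pos hz₀]
        · intro z _ hne
          simp only [w, hzrep]
          refine if_neg fun hz => hne ?_
          have hcc : ρ.character ((z : G) * g) = ρ.character ((z₀ : G) * g) := by
            obtain ⟨x, hx⟩ := isConj_iff.mp (hz.trans hz₀.symm)
            rw [← hx, Representation.char_conj]
          rw [hchar, hchar] at hcc
          have : c z = c z₀ := mul_right_cancel₀ hg hcc
          exact Subtype.ext (hinj (by rw [hc, hc, this]))
        · simp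
      rw [hone, mul_one]
  have hidx : (Z.index : ℂ) = ∑ g, f g * ρ.character g := by
    refine mul_left_cancel₀ (Nat.cast_ne_zero.mpr (Nat.card_pos (α := Z)).ne') ?_
    rw [hsum, ← Nat.cast_mul, Z.card_mul_index]
  rw [← hidx] at hI
  exact Char.dvd_of_isIntegral_natCast_div (Char.finrank_pos_of_irreducible ρ).ne' hI

theorem result {G : Type*} [Group G] [Finite G] {V : Type*} [AddCommGroup V] [Module ℂ V] [FiniteDimensional ℂ V] (ρ : Representation ℂ G V) [ρ.IsIrreducible] : Module.finrank ℂ V ∣ (Subgroup.center G).index := by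
  classical
  let φ := ρ.asGroupHom
  have : Finite φ.range := Finite.of_surjective φ.rangeRestrict φ.rangeRestrict_surjective
  have := Fintype.ofFinite φ.range
  let σ : Representation ℂ φ.range V := (Units.coeHom _).comp φ.range.subtype
  have hinj : Function.Injective σ := fun x y h => Subtype.ext (Units.ext h)
  have hirr : σ.IsIrreducible := by
    have := CharKernel.nontrivial_of_irreducible ρ
    exact CharKernel.isIrreducible_of_forall σ fun W hW =>
      CharKernel.eq_bot_or_eq_top ρ W (fun g v hv => by
        have := hW ⟨φ g, ⟨g, rfl⟩⟩ v hv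
        simpa [σ, φ, Representation.asGroupHom_apply] using! this)
  refine (faithful σ hinj).trans ?_
  have hle : (Subgroup.center G).map φ.rangeRestrict ≤ Subgroup.center φ.range := by
    rintro _ ⟨z, hz, rfl⟩
    rw [Subgroup.mem_center_iff]
    intro y
    obtain ⟨x, rfl⟩ := φ.rangeRestrict_surjective y
    rw [← map_mul, ← map_mul, Subgroup.mem_center_iff.mp hz x]
  exact (Subgroup.index_dvd_of_le hle).trans
    (Subgroup.index_map_dvd _ φ.rangeRestrict_surjective)

end Cfsg.Agent.S0179
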