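import Cfsg.Statements.S4733
import Cfsg.Agent.Lib.BlockReg.Height
import Cfsg.Agent.Lib.Blk83.RegDvd
import Cfsg.Agent.Lib.BlockReg.Integral
import Cfsg.Agent.Lib.Char.Complete
import Cfsg.Prelude.Def_BlockRank
import Mathlib.LinearAlgebra.Dimension.OrzechProperty

set_option autoImplicit false
open Cfsg

namespace Cfsg.Agent.S4733

open CfsgLib.BlockReg
open scoped ComplexConjugate

/-- A block of defect zero is a singleton. -/
theorem eq_singleton_of_defect_zero {G : Type*} [Group G] [Finite G] {p : ℕ} [Fact p.Prime]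
    {M : Ideal Cfsg.AlgInt} (hM : Cfsg.IsPModular p M) {B : Set (Cfsg.IrrCharacter G)}
    (hB : Cfsg.IsPBlock M B) (hd : Cfsg.blockDefect p B = 0) : ∃ χ, χ ∈ B ∧ B = {χ} := by
  classical
  have := Fintype.ofFinite G
  obtain ⟨χ, hχ, hχm⟩ := exists_minExp (p := p) (block_nonempty hM hB)
  refine ⟨χ, hχ, Set.eq_singleton_iff_unique_mem.mpr ⟨hχ, fun ψ hψ => ?_⟩⟩
  by_contra hne
  rw [blockDefect_eq] at hd
  have hmle : minExp p B ≤ (Nat.card G).factorization p := hχm ▸ factorization_deg_le χ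
  set a := (Nat.card G).factorization p with ha
  have hp : p.Prime := Fact.out
  have hbig : ∀ η ∈ B, (p : ℤ) ^ (2 * a) ≤ (Classical.choose (exists_int_classInner_tilde (p := p) hp χ η)) ^ 2 := by
    intro η hη
    set z := Classical.choose (exists_int_classInner_tilde (p := p) hp χ η) with hz
    have hzs : (z : ℂ) = rInner p (χ : G → ℂ) (η : G → ℂ) * (Cfsg.charDegree (η : G → ℂ) : ℂ) := by
      rw [← classInner_eq_rInner_mul, Classical.choose_spec (exists_int_classInner_tilde (p := p) hp χ η)]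
    have hv : (Cfsg.charDegree (η : G → ℂ)).factorization p = a :=
      le_antisymm (factorization_deg_le η) (le_trans (by omega) (minExp_le hη))
    have hne0 : z ≠ 0 := fun h0 => rInner_not_memIdeal hM hB hχ hη hχm (by
      rw [h0, Int.cast_zero, eq_comm, mul_eq_zero] at hzs
      rcases hzs with h1 | h1
      · rw [h1]; exact memIdeal_zero hM
      · exact absurd (Nat.cast_eq_zero.mp h1) (deg_pos η).ne')
    have hdvd : (p : ℤ) ^ a ∣ z := hv ▸ CfsgLib.Blk83.pow_dvd hM (deg_pos η).ne' hzs (rInner_memRing hM χ η)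
    obtain ⟨q, hq⟩ := hdvd
    have hq0 : q ≠ 0 := fun h0 => hne0 (by rw [hq, h0, mul_zero])
    have h1 : (1 : ℤ) ≤ q ^ 2 := by have := pow_two_pos_of_ne_zero hq0; omega
    rw [hq, mul_pow, ← pow_mul, mul_comm _ 2]
    exact le_mul_of_one_le_right (by positivity) h1
  set z := fun η : Cfsg.IrrCharacter G => Classical.choose (exists_int_classInner_tilde (p := p) hp χ η) with hz
  have hsum : ∑ η, z η ^ 2 = (p : ℤ) ^ a * z χ := by
    have hcf : Cfsg.IsClassFunction G (tilde p (χ : G → ℂ)) := fun g h =>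
      (tilde_congr p χ g (h * g * h⁻¹) (isConj_iff.mpr ⟨h, rfl⟩)).symm
    have h1 : Cfsg.classInner (tilde p (χ : G → ℂ)) (tilde p (χ : G → ℂ)) =
        ((p ^ a : ℕ) : ℂ) * Cfsg.classInner (tilde p (χ : G → ℂ)) (χ : G → ℂ) := by
      simp only [Cfsg.classInner]
      rw [mul_left_comm, Finset.mul_sum _ _ ((p ^ a : ℕ) : ℂ)]
      congr 1
      refine Finset.sum_congr rfl fun g _ => ?_
      simp only [tilde, ← ha]
      split_ifs
      · simp
      · simp only [map_mul, map_natCast]; ring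
    have hspec : ∀ η : Cfsg.IrrCharacter G, Cfsg.classInner (tilde p (χ : G → ℂ)) (η : G → ℂ) = (z η : ℂ) := fun η =>
      Classical.choose_spec (exists_int_classInner_tilde (p := p) hp χ η)
    rw [CfsgLib.Char.classInner_eq_sum hcf hcf, hspec χ] at h1
    have h2 : ∑ η, ((z η : ℂ)) ^ 2 = ((p ^ a : ℕ) : ℂ) * (z χ : ℂ) := by
      rw [← h1]
      exact Finset.sum_congr rfl fun η _ => by rw [hspec η, map_intCast, sq]
    have h3 : ((∑ η, z η ^ 2 : ℤ) : ℂ) = (((p : ℤ) ^ a * z χ : ℤ) : ℂ) := by push_cast at h2 ⊢; exact h2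
    exact_mod_cast h3
  have h1 : z χ ^ 2 + z ψ ^ 2 ≤ ∑ η, z η ^ 2 := by
    rw [← Finset.sum_pair (f := fun η => z η ^ 2) (Ne.symm hne)]
    exact Finset.sum_le_sum_of_subset_of_nonneg (Finset.subset_univ _) fun η _ _ => sq_nonneg _
  have h2 := hbig ψ hψ
  have h3 : (0 : ℤ) < (p : ℤ) ^ (2 * a) := pow_pos (by exact_mod_cast hp.pos) _
  have h4 : (p : ℤ) ^ (2 * a) = ((p : ℤ) ^ a) ^ 2 := by rw [← pow_mul, mul_comm]
  rw [hsum] at h1
  change (p : ℤ) ^ (2 * a) ≤ z ψ ^ 2 at h2
  nlinarith [sq_nonneg (2 * z χ - (p : ℤ) ^ a)]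

/-- If all members vanish on `p`-singular elements the defect is zero. -/
theorem defect_zero_of_vanish {G : Type*} [Group G] [Finite G] {p : ℕ} [Fact p.Prime]
    {M : Ideal Cfsg.AlgInt} (hM : Cfsg.IsPModular p M) {B : Set (Cfsg.IrrCharacter G)}
    (hB : Cfsg.IsPBlock M B) (h : ∀ χ ∈ B, ∀ y : G, p ∣ orderOf y → (χ : G → ℂ) y = 0) :
    Cfsg.blockDefect p B = 0 := by
  classical
  have := Fintype.ofFinite G
  obtain ⟨χ, hχ, hχm⟩ := exists_minExp (p := p) (block_nonempty hM hB)
  set a := (Nat.card G).factorization p with ha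
  have ht : tilde p (χ : G → ℂ) = ((p ^ a : ℕ) : ℂ) • (χ : G → ℂ) := by
    funext x
    simp only [tilde, Pi.smul_apply, smul_eq_mul, ← ha]
    split_ifs with hx
    · rw [h χ hχ x hx, mul_zero]
    · rfl
  rw [blockDefect_eq]
  by_contra hne
  refine rInner_not_memIdeal hM hB hχ hχ hχm ?_
  rw [rInner, ht, CfsgLib.Char.classInner_smul_left, CfsgLib.Char.classInner_irr_self χ.2, mul_one,
    ← deg_cast]
  refine natCast_div_memIdeal hM (deg_pos χ).ne' ?_
  rw [(Fact.out : p.Prime).factorization_pow, Finsupp.single_eq_same]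
  omega

/-- Let p be a prime, M a maximal ideal of the algebraic integers containing p, and B a p-block of the finite group G with k irreducible characters and p-regular rank l (the number of irreducible Brauer characters). Then l ≤ k, and the following are equivalent: B has defect 0; k = l = 1; k = l. -/
theorem result {G : Type*} [Group G] [Finite G] (p : ℕ) [Fact p.Prime] (M : Ideal Cfsg.AlgInt) (hM : Cfsg.IsPModular p M) (B : Set (Cfsg.IrrCharacter G)) (hB : Cfsg.IsPBlock M B) : Cfsg.blockRank p B ≤ Nat.card B ∧ (Cfsg.blockDefect p B = 0 ↔ (Nat.card B = 1 ∧ Cfsg.blockRank p B = 1)) ∧ (Cfsg.blockDefect p B = 0 ↔ Nat.card B = Cfsg.blockRank p B) := by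
  classical
  have := Fintype.ofFinite G
  have := Fintype.ofFinite B
  have hrank : Cfsg.blockRank p B =
      (Set.range fun χ : B => Cfsg.pRegularPart p ((χ : Cfsg.IrrCharacter G) : G → ℂ)).finrank ℂ := by
    rw [Cfsg.blockRank, Set.image_eq_range]
    rfl
  have hle : Cfsg.blockRank p B ≤ Nat.card B := by
    rw [hrank, Nat.card_eq_fintype_card]
    exact finrank_range_le_card _
  have hA : Cfsg.blockDefect p B = 0 → Nat.card B = 1 ∧ Cfsg.blockRank p B = 1 := by
    intro hd
    obtain ⟨χ, hχ, hBχ⟩ := eq_singleton_of_defect_zero hM hB hd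
    subst hBχ
    refine ⟨by simp, ?_⟩
    rw [Cfsg.blockRank, Set.image_singleton]
    refine finrank_span_singleton fun h => CfsgLib.BlockReg.deg_ne_zero χ ?_
    have h1 := congrFun h 1
    simpa [Cfsg.pRegularPart, Cfsg.IsPRegular, (Fact.out : p.Prime).ne_one] using h1
  have hB2 : Nat.card B = Cfsg.blockRank p B → Cfsg.blockDefect p B = 0 := by
    intro hcard
    refine defect_zero_of_vanish hM hB fun χ hχ y hy => ?_
    have hli : LinearIndependent ℂ (fun ψ : B => Cfsg.pRegularPart p ((ψ : Cfsg.IrrCharacter G) : G → ℂ)) :=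
      linearIndependent_iff_card_eq_finrank_span.mpr (by rw [← hrank, ← hcard, Nat.card_eq_fintype_card])
    have h0 := Fintype.linearIndependent_iff.mp hli
      (fun ψ => conj (((ψ : Cfsg.IrrCharacter G) : G → ℂ) y)) (by
        funext x
        rw [Finset.sum_apply]
        simp only [Pi.smul_apply, smul_eq_mul, Cfsg.pRegularPart, Pi.zero_apply]
        by_cases hx : Cfsg.IsPRegular p x
        · simp only [if_pos hx]
          have := CfsgLib.BlockReg.block_orthogonality hM hB x y hx hy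
          rw [finsum_mem_eq_toFinset_sum,
            Finset.sum_subtype B.toFinset (p := fun χ => χ ∈ B) (fun χ => Set.mem_toFinset)] at this
          rw [← this]
          exact Finset.sum_congr rfl fun ψ _ => by ring
        · simp [hx]) ⟨χ, hχ⟩
    simpa using h0
  exact ⟨hle, ⟨hA, fun h => hB2 (h.1.trans h.2.symm)⟩,
    ⟨fun h => (hA h).1.trans (hA h).2.symm, hB2⟩⟩

end Cfsg.Agent.S4733
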