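import Cfsg.Statements.S0867
import Cfsg.Agent.Lib.CharDeep.Extend

set_option autoImplicit false
open Cfsg

namespace Cfsg.Agent.S0867

/-- Let N be a normal subgroup of the finite group G and ϑ an irreducible character of N of degree d, invariant under conjugation by G, such that the index of N is coprime to the product of d and the determinantal order of ϑ. Then there is an irreducible character χ of G restricting to ϑ whose determinantal order equals that of ϑ, and χ is the only irreducible character of G restricting to ϑ whose determinantal order is coprime to the index of N. -/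
theorem result {G : Type*} [Group G] [Finite G] (N : Subgroup G) [hN : N.Normal] (ϑ : N → ℂ) (hϑ : Cfsg.IsIrrCharacter N ϑ) (hinv : ∀ (g : G) (n : N), ϑ ⟨g * n * g⁻¹, hN.conj_mem (n : G) n.2 g⟩ = ϑ n) (d : ℕ) (hd : ϑ 1 = d) (hcop : Nat.Coprime N.index (Cfsg.detOrder ϑ * d)) : ∃ χ : G → ℂ, (Cfsg.IsIrrCharacter G χ ∧ (∀ n : N, χ n = ϑ n) ∧ Cfsg.detOrder χ = Cfsg.detOrder ϑ) ∧ ∀ χ' : G → ℂ, Cfsg.IsIrrCharacter G χ' → (∀ n : N, χ' n = ϑ n) → Nat.Coprime N.index (Cfsg.detOrder χ') → χ' = χ := by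
  obtain ⟨δ, hδ⟩ := CfsgLib.CharDeep.Extend.exists_det_hom N ϑ hϑ
  unfold Cfsg.detOrder at hcop ⊢
  rw [hδ, CfsgLib.CharDeep.Lin.orderOf_coe] at hcop ⊢
  have hδinv : ∀ (g : G) (n : N), δ ⟨g * n * g⁻¹, hN.conj_mem (n : G) n.2 g⟩ = δ n := fun g n => by
    have h := CfsgLib.CharDeep.Extend.det_invariant N ϑ hinv hϑ g n
    rw [hδ] at h
    exact Units.ext h
  obtain ⟨F, hF, hFo, hFu⟩ :=
    CfsgLib.CharDeep.Lin.exists_ext_coprime δ hδinv hcop.coprime_mul_right_right
  have hFd : ∀ n : N, (F n : ℂ) = Cfsg.detChar ϑ n := fun n => by rw [hF, hδ]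
  obtain ⟨η, hη, hηN⟩ :=
    CfsgLib.CharDeep.Extend.extends_of_det N ϑ hϑ hinv d hd hcop.coprime_mul_left_right F hFd
  obtain ⟨χ, ⟨hχ, hχN, hχd⟩, -⟩ :=
    CfsgLib.CharDeep.Extend.existsUnique_det N ϑ hϑ d hd hcop.coprime_mul_left_right η hη hηN F hFd
  refine ⟨χ, ⟨hχ, hχN, by rw [hχd, CfsgLib.CharDeep.Lin.orderOf_coe, hFo]⟩, ?_⟩
  intro χ' hχ' hχ'N hord
  obtain ⟨m, σ, hσ, hσc⟩ := id hχ'
  let D : G →* ℂˣ := MonoidHom.toHomUnits ((LinearMap.det).comp σ)
  have hD : Cfsg.detChar χ' = fun g => (D g : ℂ) := by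
    rw [← hσc, CfsgLib.CharDeep.Cover.detChar_eq]
    rfl
  rw [hD, CfsgLib.CharDeep.Lin.orderOf_coe] at hord
  obtain ⟨χ₀, ⟨h01, h02, h03⟩, huniq⟩ :=
    CfsgLib.CharDeep.Extend.existsUnique_det N ϑ hϑ d hd hcop.coprime_mul_left_right η hη hηN F hFd
  have e1 : χ = χ₀ := huniq χ ⟨hχ, hχN, hχd⟩
  -- the determinant of `χ'` restricts to that of `ϑ`
  have hDN : ∀ n : N, D n = δ n := by
    intro n
    cases nonempty_fintype G
    have := Fintype.ofFinite N
    have hres : Cfsg.IsIrrCharacter N (fun n : N => η n) := by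
      rw [show (fun n : N => η n) = ϑ from funext hηN]; exact hϑ
    obtain ⟨l, hl, hl'⟩ := CfsgLib.CharDeep.Gal.exists_linear_of_res_eq N hη hχ' hres
      (fun n => (hχ'N n).trans (hηN n).symm)
    have hresχ : Cfsg.IsIrrCharacter N (fun n : N => χ n) := by
      rw [show (fun n : N => χ n) = ϑ from funext hχN]; exact hϑ
    obtain ⟨l₂, hl₂, hl₂'⟩ := CfsgLib.CharDeep.Gal.exists_linear_of_res_eq N hχ hχ' hresχ
      (fun n => (hχ'N n).trans (hχN n).symm)
    have h4 := congrFun hD (n : G)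
    rw [hl₂', CfsgLib.CharDeep.Extend.detChar_twist hχ l₂ d (by have := hχN 1; rw [Subgroup.coe_one] at this; rw [this, hd]),
      hχd] at h4
    simp only [hl₂, Units.val_one, one_pow, one_mul] at h4
    rw [← hF n]
    exact (Units.ext h4).symm
  have hDF : D = F := hFu D hDN hord
  rw [e1]
  exact huniq χ' ⟨hχ', hχ'N, by rw [hD, hDF]⟩

end Cfsg.Agent.S0867
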