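import Cfsg.Statements.S0914
import Cfsg.Agent.Lib.Blocks.Osima
import Cfsg.Agent.Lib.BlockReg.Height

set_option autoImplicit false
open Cfsg

namespace Cfsg.Agent.S0914

/-- Let χ be an irreducible character of the finite group G, p a prime and M a maximal ideal of the algebraic integers containing p. Then p does not divide the integer (Nat.card G) / χ(1) if and only if the block of χ relative to M consists of χ alone. -/
theorem result {G : Type*} [Group G] [Finite G] (p : ℕ) [Fact p.Prime] (M : Ideal Cfsg.AlgInt) (hM : Cfsg.IsPModular p M) (χ : Cfsg.IrrCharacter G) : ¬ p ∣ Nat.card G / Cfsg.charDegree (χ : G → ℂ) ↔ Cfsg.blockOf M (χ : G → ℂ) = {χ} := by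
  haveI := hM.2.1
  classical
  letI := Fintype.ofFinite G
  have hp := (Fact.out : p.Prime)
  set d := charDegree (χ : G → ℂ) with hd
  have hd0 : d ≠ 0 := (CfsgLib.BlockReg.deg_pos χ).ne'
  obtain ⟨m, hm⟩ := CfsgLib.BlockReg.deg_dvd_card χ
  have hm' : Nat.card G / d = m := by rw [hm, Nat.mul_div_cancel_left _ (Nat.pos_of_ne_zero hd0)]
  have hcoeff : ∀ g : G, blockCoeff ({χ} : Set (IrrCharacter G)) g
      = (d : ℂ) / (Nat.card G : ℂ) * (χ : G → ℂ) g⁻¹ := by
    intro g
    rw [blockCoeff, finsum_mem_singleton, ← CfsgLib.BlockReg.char_inv,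
      ← CfsgLib.BlockReg.deg_cast]
    ring
  constructor
  · intro hnd
    refine Set.Subset.antisymm (CfsgLib.Blocks.blockOf_subset_of_memLocalRing (fun g => ?_) rfl)
      (Set.singleton_subset_iff.2 (CfsgLib.Blocks.mem_blockOf_self χ))
    rw [hcoeff]
    refine CfsgLib.BlockReg.memRing_mul hM (CfsgLib.BlockReg.natCast_div_memRing hM
      Nat.card_pos.ne' (Or.inr ?_)) (CfsgLib.BlockReg.memRing_char hM χ g⁻¹)
    have hm0 : m ≠ 0 := fun h => hnd (by rw [hm', h]; exact dvd_zero p)
    rw [hm] at hnd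
    rw [hm, ← hd, Nat.factorization_mul hd0 hm0, Finsupp.add_apply,
      Nat.factorization_eq_zero_of_not_dvd (show ¬ p ∣ m by
        intro h; apply hnd; rwa [← hm, hm']), add_zero]
  · intro hsing hdvd
    obtain ⟨P⟩ : Nonempty (Sylow p G) := inferInstance
    have hB := CfsgLib.Blocks.isPBlock_blockOf (M := M) χ
    rw [hsing] at hB
    have hvan : ∀ u : (P : Subgroup G), u ≠ 1 → (χ : G → ℂ) u = 0 := by
      intro u hu
      obtain ⟨k, hk⟩ := (IsPGroup.iff_orderOf.1 P.isPGroup') u⁻¹
      have hpu : p ∣ orderOf ((u⁻¹ : (P : Subgroup G)) : G) := by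
        rw [Subgroup.orderOf_coe, hk]
        refine dvd_pow_self p fun h0 => hu (inv_eq_one.1 ?_)
        rw [← orderOf_eq_one_iff, hk, h0, pow_zero]
      have h := CfsgLib.BlockReg.blockCoeff_singular hM hB _ hpu
      rw [hcoeff, InvMemClass.coe_inv, inv_inv, mul_eq_zero] at h
      exact h.resolve_left (div_ne_zero (Nat.cast_ne_zero.2 hd0) (Nat.cast_ne_zero.2 Nat.card_pos.ne'))
    have hint := CfsgLib.BlockReg.isIntegral_avg_trace (P : Subgroup G) 1
      (fun u _ => Commute.one_left u) χ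
    rw [Finset.sum_eq_single 1 (fun u _ hu => by rw [one_mul]; exact hvan u hu) (by simp),
      one_mul, OneMemClass.coe_one, ← CfsgLib.BlockReg.deg_cast, inv_mul_eq_div] at hint
    obtain ⟨e, he⟩ := CfsgLib.Char.dvd_of_isIntegral_natCast_div Nat.card_pos.ne' hint
    obtain ⟨f, hf⟩ := hm' ▸ hdvd
    apply P.not_dvd_index
    have h1 : Nat.card (P : Subgroup G) * (P : Subgroup G).index
        = Nat.card (P : Subgroup G) * (p * (e * f)) := by
      rw [Subgroup.card_mul_index, hm, he, hf]; ring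
    exact ⟨e * f, Nat.eq_of_mul_eq_mul_left Nat.card_pos h1⟩

end Cfsg.Agent.S0914
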