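import Cfsg.Statements.S0887
import Cfsg.Agent.Lib.CharDeep.Extend

set_option autoImplicit false
open Cfsg

namespace Cfsg.Agent.S0887

/-- Let N be a normal subgroup of the finite group G, χ an irreducible character of G and ϑ an irreducible character of N having nonzero inner product with the restriction of χ. If χ 1 = c and ϑ 1 = d as natural numbers, then d divides c and c / d divides the index of N. -/
theorem result {G : Type*} [Group G] [Fintype G] (N : Subgroup G) [N.Normal] [Fintype N] (χ : G → ℂ) (hχ : Cfsg.IsIrrCharacter G χ) (ϑ : N → ℂ) (hϑ : Cfsg.IsIrrCharacter N ϑ) (hcon : Cfsg.classInner (fun n : N => χ n) ϑ ≠ 0) (c d : ℕ) (hc : χ 1 = c) (hd : ϑ 1 = d) : d ∣ c ∧ c / d ∣ N.index := by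
  classical
  rename_i hN _
  let T := CfsgLib.CharTwist.inertia N ϑ
  have hNT : N ≤ T := CfsgLib.CharTwist.le_inertia N (CfsgLib.Char.IsIrrCharacter.isClassFunction hϑ)
  have := Fintype.ofFinite T
  obtain ⟨ψ, hψ, hind, hres⟩ := CfsgLib.CharDeep.Cliff.correspondence N hχ hϑ T (fun g => Iff.rfl) hNT hcon
  let M : Subgroup T := N.subgroupOf T
  haveI : M.Normal := Subgroup.normal_subgroupOf
  have := Fintype.ofFinite M
  let e : M ≃* N := Subgroup.subgroupOfEquivOfLe hNT
  have hθ' : Cfsg.IsIrrCharacter M (ϑ ∘ e) := CfsgLib.CharTwist.isIrrCharacter_comp_equiv hϑ e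
  have hinv : ∀ (t : T) (m : M), (ϑ ∘ e) ⟨t * m * t⁻¹, ‹M.Normal›.conj_mem (m : T) m.2 t⟩ = (ϑ ∘ e) m := by
    intro t m
    exact congrFun (show CfsgLib.CharTwist.conjFun N ϑ t = ϑ from t.2) (e m)
  have hm : (CfsgLib.CharDeep.Cliff.mult (fun n : N => χ n) ϑ : ℂ) ≠ 0 := by
    rw [← CfsgLib.CharDeep.Cliff.classInner_eq_mult
      (CfsgLib.Char.IsCharacter.restrict (CfsgLib.Char.IsIrrCharacter.isCharacter hχ) N)
      (CfsgLib.Char.IsIrrCharacter.isCharacter hϑ)]
    exact hcon
  have hcon' : Cfsg.classInner (fun m : M => ψ m) (ϑ ∘ e) ≠ 0 := by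
    have : (fun m : M => ψ m) = (CfsgLib.CharDeep.Cliff.mult (fun n : N => χ n) ϑ : ℂ) • (ϑ ∘ e) := by
      funext m
      exact congrFun hres (e m)
    rw [this, CfsgLib.Char.classInner_smul_left, CfsgLib.Char.classInner_irr_self hθ', mul_one]
    exact hm
  obtain ⟨b, d', hd', hψ1, hb⟩ := CfsgLib.CharDeep.Extend.degree_dvd M (ϑ ∘ e) hθ' hinv ψ hψ hcon'
  have hdd : d' = d := by
    have : ((d' : ℕ) : ℂ) = d := by rw [← hd', Function.comp_apply, map_one, hd]
    exact_mod_cast this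
  subst hdd
  have hc' : c = T.index * b * d' := by
    have h1 := CfsgLib.Char.indFun_apply_one T ψ
    rw [hind, hc, hψ1] at h1
    rw [mul_assoc]
    exact_mod_cast h1
  have hdpos : 0 < d' := by
    rcases Nat.eq_zero_or_pos d' with h | h
    · exfalso
      apply CfsgLib.Char.IsIrrCharacter.apply_one_ne_zero hϑ
      rw [hd, h, Nat.cast_zero]
    · exact h
  refine ⟨Dvd.intro_left _ hc'.symm, ?_⟩
  rw [hc', Nat.mul_div_cancel _ hdpos, ← Subgroup.relIndex_mul_index hNT, mul_comm (N.relIndex T)]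
  exact Nat.mul_dvd_mul_left _ hb

end Cfsg.Agent.S0887
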