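import Cfsg.Statements.S4591
import Cfsg.Agent.Lib.BlockPrincipal.Criterion
import Cfsg.Agent.Lib.BlockReg.Integral
import Cfsg.Agent.Lib.Char.Clifford
import Cfsg.Agent.Lib.Char.Twist
import Cfsg.Agent.Lib.Char.Kernel
import Cfsg.Agent.Lib.OddChar.AbelInertia
import Cfsg.Agent.Lib.Transfer.Tate
import Cfsg.Agent.Lib.Transfer.PGroup
import Cfsg.Agent.Lib.Fusion.FrobeniusCriterion

set_option autoImplicit false
open Cfsg

namespace Cfsg.Agent.S4591

open Cfsg CfsgLib CfsgLib.BlockReg CfsgLib.BlockPrincipal CfsgLib.CharTwist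
open scoped ComplexConjugate

universe u

variable {G : Type u} [Group G] {p : ℕ}

/-- A constituent of a character is trivial where the character is. -/
theorem constituent_eq_degree {H : Type u} [Group H] [Fintype H] {χ : H → ℂ}
    (hχ : IsCharacter H χ) (μ : IrrCharacter H) (hne : classInner χ (μ : H → ℂ) ≠ 0)
    {x : H} (hx : χ x = χ 1) : (μ : H → ℂ) x = (μ : H → ℂ) 1 := by
  choose m hm using fun ν : IrrCharacter H =>
    Char.IsCharacter.exists_nat_classInner hχ ν.2
  have hexp : ∀ y, χ y = ∑ ν : IrrCharacter H, (m ν : ℂ) * (ν : H → ℂ) y := by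
    intro y
    have h := congrFun (Char.IsCharacter.eq_sum_classInner hχ) y
    simpa [Finset.sum_apply, hm] using h
  have hle : ∀ ν : IrrCharacter H, ‖(ν : H → ℂ) x‖ ≤ ((ν : H → ℂ) 1).re ∧ ((ν : H → ℂ) 1).im = 0 := by
    intro ν
    obtain ⟨n, ρ, -, hρ⟩ := ν.2
    have h1 : (ν : H → ℂ) 1 = (n : ℂ) := by rw [← hρ]; simp
    have h2 := Char.norm_character_le ρ x
    rw [hρ, Module.finrank_fin_fun] at h2
    rw [h1]
    simpa using h2
  have hsum : ∑ ν : IrrCharacter H, (m ν : ℝ) * (((ν : H → ℂ) 1).re - ((ν : H → ℂ) x).re) = 0 := by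
    have h := congrArg Complex.re (sub_eq_zero.2 hx.symm)
    rw [hexp, hexp, ← Finset.sum_sub_distrib] at h
    simp only [Complex.re_sum, Complex.sub_re, Complex.mul_re, Complex.natCast_re,
      Complex.natCast_im, zero_mul, sub_zero, Complex.zero_re] at h
    rw [← h]
    exact Finset.sum_congr rfl fun ν _ => mul_sub _ _ _
  have hnn : ∀ ν : IrrCharacter H,
      0 ≤ (m ν : ℝ) * (((ν : H → ℂ) 1).re - ((ν : H → ℂ) x).re) := fun ν =>
    mul_nonneg (Nat.cast_nonneg _) (sub_nonneg.2 ((Complex.re_le_norm _).trans (hle ν).1))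
  have hm0 : (m μ : ℝ) ≠ 0 := by
    intro h0
    apply hne
    rw [hm]
    simp only [Nat.cast_eq_zero] at h0
    simp [h0]
  have heq := sub_eq_zero.1 ((mul_eq_zero.1
    ((Finset.sum_eq_zero_iff_of_nonneg fun ν _ => hnn ν).1 hsum μ (Finset.mem_univ _))).resolve_left hm0)
  refine Complex.ext heq.symm ?_
  rw [(hle μ).2]
  have h1 : ‖(μ : H → ℂ) x‖ = ((μ : H → ℂ) x).re :=
    le_antisymm ((hle μ).1.trans heq.le) (Complex.re_le_norm _)
  have h2 := Complex.sq_norm ((μ : H → ℂ) x)
  rw [h1, Complex.normSq_apply] at h2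
  nlinarith [h2]

/-- An irreducible character constant on the group is the principal one. -/
theorem eq_one_of_const {H : Type u} [Group H] [Fintype H] (θ : IrrCharacter H)
    (h : ∀ r, (θ : H → ℂ) r = (θ : H → ℂ) 1) : θ = Char.principalIrr := by
  classical
  refine Subtype.ext ?_
  have h1 : classInner (θ : H → ℂ) (fun _ => 1) = (θ : H → ℂ) 1 := by
    simp [classInner, h, ← mul_assoc, mul_comm (Fintype.card H : ℂ)⁻¹]
  exact Char.eq_of_classInner_ne_zero θ.2 Char.principalIrr.2
    (by
      show classInner (θ : H → ℂ) (fun _ => 1) ≠ 0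
      rw [h1]
      exact deg_ne_zero θ)

variable [Fintype G]

/-- A normal subgroup on which `P` fixes only the identity has order prime to `p`. -/
theorem not_dvd_of_inf_centralizer [Fact p.Prime] (P : Sylow p G) (R : Subgroup G) [hR : R.Normal]
    (h : R ⊓ Subgroup.centralizer ((P : Subgroup G) : Set G) = ⊥) : ¬ p ∣ Nat.card R := by
  intro hdvd
  let _ : MulAction (P : Subgroup G) R :=
    { smul := fun a r => ⟨(a : G) * r * (a : G)⁻¹, hR.conj_mem r r.2 a⟩
      one_smul := fun r => Subtype.ext (show ((1 : (P : Subgroup G)) : G) * r * ((1 : (P : Subgroup G)) : G)⁻¹ = r by simp)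
      mul_smul := fun a b r => Subtype.ext (show ((a * b : (P : Subgroup G)) : G) * r * ((a * b : (P : Subgroup G)) : G)⁻¹ = (a : G) * ((b : G) * r * (b : G)⁻¹) * (a : G)⁻¹ by simp [mul_assoc]) }
  obtain ⟨r, hr, hne⟩ := P.isPGroup'.exists_fixed_point_of_prime_dvd_card_of_fixed_point R hdvd
    (a := (1 : R)) (fun a => Subtype.ext (show (a : G) * ((1 : R) : G) * (a : G)⁻¹ = ((1 : R) : G) by simp))
  have : (r : G) ∈ R ⊓ Subgroup.centralizer ((P : Subgroup G) : Set G) := by
    refine ⟨r.2, Subgroup.mem_centralizer_iff.2 fun a ha => ?_⟩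
    have := congrArg Subtype.val (hr ⟨a, ha⟩)
    exact mul_inv_eq_iff_eq_mul.1 this
  rw [h, Subgroup.mem_bot] at this
  exact hne (Subtype.ext this.symm)

/-- The action of `G` on the irreducible characters of a normal subgroup. -/
noncomputable def conjAct (R : Subgroup G) [R.Normal] : MulAction G (IrrCharacter R) where
  smul g θ := ⟨CharTwist.conjFun R (θ : R → ℂ) g⁻¹, isIrrCharacter_conjFun R θ.2 g⁻¹⟩
  one_smul θ := Subtype.ext (show CharTwist.conjFun R (θ : R → ℂ) 1⁻¹ = _ by rw [inv_one, conjFun_one])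
  mul_smul g h θ := Subtype.ext (show CharTwist.conjFun R (θ : R → ℂ) (g * h)⁻¹ =
    CharTwist.conjFun R (CharTwist.conjFun R (θ : R → ℂ) h⁻¹) g⁻¹ by
      funext n
      simp [CharTwist.conjFun, mul_assoc])

theorem eq_one_of_fixed [Fact p.Prime] (P : Sylow p G) (R : Subgroup G) [hR : R.Normal] [Fintype R]
    (h : R ⊓ Subgroup.centralizer ((P : Subgroup G) : Set G) = ⊥) (θ : IrrCharacter R)
    (hfix : ∀ g ∈ (P : Subgroup G), CharTwist.conjFun R (θ : R → ℂ) g = θ) : θ = Char.principalIrr := by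
  classical
  obtain ⟨M, hM⟩ := exists_isPModular (Fact.out : p.Prime)
  by_contra hne
  have hpd : ¬ p ∣ charDegree (θ : R → ℂ) := fun hd =>
    not_dvd_of_inf_centralizer P R h (hd.trans (deg_dvd_card θ))
  let _ : MulAction (P : Subgroup G) R :=
    { smul := fun a r => ⟨(a : G) * r * (a : G)⁻¹, hR.conj_mem r r.2 a⟩
      one_smul := fun r => Subtype.ext (show ((1 : (P : Subgroup G)) : G) * r * ((1 : (P : Subgroup G)) : G)⁻¹ = r by simp)
      mul_smul := fun a b r => Subtype.ext (show ((a * b : (P : Subgroup G)) : G) * r * ((a * b : (P : Subgroup G)) : G)⁻¹ = (a : G) * ((b : G) * r * (b : G)⁻¹) * (a : G)⁻¹ by simp [mul_assoc]) }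
  have hsum := sum_fixedPoints_memIdeal hM P.isPGroup' (α := R) Finset.univ
    (fun _ _ _ => Finset.mem_univ _) (θ : R → ℂ) (fun r _ => memRing_char hM θ r)
    (fun a r _ => congrFun (hfix a a.2) r)
  have hf : (Finset.univ.filter fun r : R => ∀ a : (P : Subgroup G), a • r = r) = {1} := by
    ext r
    simp only [Finset.mem_filter, Finset.mem_univ, true_and, Finset.mem_singleton]
    refine ⟨fun hr => ?_, fun hr a => Subtype.ext ?_⟩
    · have : (r : G) ∈ R ⊓ Subgroup.centralizer ((P : Subgroup G) : Set G) := by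
        refine ⟨r.2, Subgroup.mem_centralizer_iff.2 fun a ha => ?_⟩
        exact mul_inv_eq_iff_eq_mul.1 (congrArg Subtype.val (hr ⟨a, ha⟩))
      rw [h, Subgroup.mem_bot] at this
      exact Subtype.ext this
    · subst hr
      show (a : G) * ((1 : R) : G) * (a : G)⁻¹ = ((1 : R) : G)
      simp
  have h0 : ∑ r : R, (θ : R → ℂ) r = 0 := by
    have := Char.classInner_irr_of_ne θ.2 Char.principalIrr.2 (fun he => hne (Subtype.ext he))
    simpa [classInner, Char.principalIrr_apply] using this
  rw [hf, Finset.sum_singleton, h0, zero_sub, ← deg_cast] at hsum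
  exact not_memIdeal_natCast hM hpd (by simpa using memIdeal_neg hsum)

theorem exists_fixed_ne_one [Fact p.Prime] (P : Sylow p G) (R : Subgroup G) [hR : R.Normal]
    [Fintype R] (h : R ⊓ Subgroup.centralizer ((P : Subgroup G) : Set G) ≠ ⊥) :
    ∃ θ : IrrCharacter R, θ ≠ Char.principalIrr ∧
      ∀ g ∈ (P : Subgroup G), CharTwist.conjFun R (θ : R → ℂ) g = θ := by
  classical
  obtain ⟨M, hM⟩ := exists_isPModular (Fact.out : p.Prime)
  by_contra hno
  push Not at hno
  obtain ⟨n, hn, hn1⟩ : ∃ n ∈ R ⊓ Subgroup.centralizer ((P : Subgroup G) : Set G), n ≠ 1 := by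
    by_contra hh
    push Not at hh
    exact h (eq_bot_iff.2 fun x hx => hh x hx)
  let _ := conjAct R
  let _ : MulAction (P : Subgroup G) (IrrCharacter R) := MulAction.compHom _ (P : Subgroup G).subtype
  have hcent : ∀ a ∈ (P : Subgroup G), a * n * a⁻¹ = n := fun a ha => by
    rw [Subgroup.mem_centralizer_iff.1 hn.2 a ha, mul_inv_cancel_right]
  have hsum := sum_fixedPoints_memIdeal hM P.isPGroup' (α := IrrCharacter R) Finset.univ
    (fun _ _ _ => Finset.mem_univ _)
    (fun θ => (θ : R → ℂ) 1 * (θ : R → ℂ) ⟨n, hn.1⟩)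
    (fun θ _ => memRing_mul hM (memRing_char hM θ _) (memRing_char hM θ _))
    (fun a θ _ => by
      show CharTwist.conjFun R (θ : R → ℂ) (a : G)⁻¹ 1 * CharTwist.conjFun R (θ : R → ℂ) (a : G)⁻¹ ⟨n, hn.1⟩ = _
      have h1 : CharTwist.conjFun R (θ : R → ℂ) (a : G)⁻¹ 1 = (θ : R → ℂ) 1 := by
        exact congrArg (θ : R → ℂ) (Subtype.ext (by simp))
      have h2 : CharTwist.conjFun R (θ : R → ℂ) (a : G)⁻¹ ⟨n, hn.1⟩ = (θ : R → ℂ) ⟨n, hn.1⟩ :=
        congrArg (θ : R → ℂ) (Subtype.ext (hcent _ (inv_mem a.2)))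
      rw [h1, h2])
  have hf : (Finset.univ.filter fun θ : IrrCharacter R => ∀ a : (P : Subgroup G), a • θ = θ) =
      {Char.principalIrr} := by
    ext θ
    simp only [Finset.mem_filter, Finset.mem_univ, true_and, Finset.mem_singleton]
    refine ⟨fun hθ => ?_, fun hθ a => Subtype.ext ?_⟩
    · by_contra hne
      obtain ⟨g, hg, hgne⟩ := hno θ hne
      refine hgne ?_
      have := congrArg Subtype.val (hθ ⟨g⁻¹, inv_mem hg⟩)
      simpa using (show CharTwist.conjFun R (θ : R → ℂ) (g⁻¹)⁻¹ = _ from this)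
    · subst hθ
      rfl
  rw [hf, Finset.sum_singleton] at hsum
  have h0 := Char.sum_apply_one_mul (G := R) ⟨n, hn.1⟩
  rw [if_neg (fun he => hn1 (congrArg Subtype.val he))] at h0
  rw [h0] at hsum
  simp only [Char.principalIrr_apply, mul_one, zero_sub] at hsum
  exact not_memIdeal_one hM (by simpa using memIdeal_neg hsum)

/-- A character of degree prime to `p` has a constituent fixed by `P` on a normal subgroup. -/
theorem exists_fixed_constituent [Fact p.Prime] (P : Sylow p G) (R : Subgroup G) [R.Normal]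
    [Fintype R] (χ : IrrCharacter G) (hdeg : ¬ p ∣ charDegree (χ : G → ℂ)) :
    ∃ θ : IrrCharacter R, classInner (fun r : R => (χ : G → ℂ) r) (θ : R → ℂ) ≠ 0 ∧
      ∀ g ∈ (P : Subgroup G), CharTwist.conjFun R (θ : R → ℂ) g = θ := by
  classical
  obtain ⟨M, hM⟩ := exists_isPModular (Fact.out : p.Prime)
  have hres := Char.IsCharacter.restrict (Char.IsIrrCharacter.isCharacter χ.2) R
  choose m hm using fun θ : IrrCharacter R => Char.IsCharacter.exists_nat_classInner hres θ.2
  by_contra hno
  push Not at hno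
  let _ := conjAct R
  let _ : MulAction (P : Subgroup G) (IrrCharacter R) := MulAction.compHom _ (P : Subgroup G).subtype
  have hinv : ∀ (a : G) (θ : IrrCharacter R),
      classInner (fun r : R => (χ : G → ℂ) r) (CharTwist.conjFun R (θ : R → ℂ) a) =
        classInner (fun r : R => (χ : G → ℂ) r) (θ : R → ℂ) := fun a θ =>
    Clifford.classInner_res_conjFun (N := R) (Char.IsIrrCharacter.isClassFunction χ.2) (θ : R → ℂ) a
  have hsum := sum_fixedPoints_memIdeal hM P.isPGroup' (α := IrrCharacter R) Finset.univ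
    (fun _ _ _ => Finset.mem_univ _) (fun θ => (m θ : ℂ) * (θ : R → ℂ) 1)
    (fun θ _ => memRing_mul hM (memRing_natCast hM _) (memRing_char hM θ _))
    (fun a θ _ => by
      show (m (a • θ) : ℂ) * CharTwist.conjFun R (θ : R → ℂ) (a : G)⁻¹ 1 = _
      rw [← hm, ← hm]
      show classInner _ (CharTwist.conjFun R (θ : R → ℂ) (a : G)⁻¹) * _ = _
      rw [hinv]
      congr 1
      exact congrArg (θ : R → ℂ) (Subtype.ext (by simp)))
  have hz : ∑ θ ∈ Finset.univ.filter (fun θ : IrrCharacter R => ∀ a : (P : Subgroup G), a • θ = θ),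
      (m θ : ℂ) * (θ : R → ℂ) 1 = 0 := by
    refine Finset.sum_eq_zero fun θ hθ => ?_
    by_cases h0 : (m θ : ℂ) = 0
    · rw [h0, zero_mul]
    obtain ⟨g, hg, hgne⟩ := hno θ (by rw [hm]; exact h0)
    refine absurd ?_ hgne
    have := congrArg Subtype.val ((Finset.mem_filter.1 hθ).2 ⟨g⁻¹, inv_mem hg⟩)
    simpa using (show CharTwist.conjFun R (θ : R → ℂ) (g⁻¹)⁻¹ = _ from this)
  have hdeg1 : ∑ θ : IrrCharacter R, (m θ : ℂ) * (θ : R → ℂ) 1 = (χ : G → ℂ) 1 := by
    have h := congrFun (Char.IsCharacter.eq_sum_classInner hres) 1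
    simp only [Finset.sum_apply, Pi.smul_apply, smul_eq_mul, hm, Subgroup.coe_one] at h
    exact h.symm
  rw [hz, sub_zero, hdeg1, ← deg_cast] at hsum
  exact not_memIdeal_natCast hM hdeg hsum

/-- An element fixed by `P` in a `p'`-normal subgroup gives a character of `p'`-degree moving it. -/
theorem inf_centralizer_eq_bot [Fact p.Prime] (P : Sylow p G) (R : Subgroup G) [hR : R.Normal]
    [Fintype R] (hp' : ¬ p ∣ Nat.card R)
    (hker : ∀ χ : IrrCharacter G, ¬ p ∣ charDegree (χ : G → ℂ) →
      ∀ r ∈ R, (χ : G → ℂ) r = (χ : G → ℂ) 1) :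
    R ⊓ Subgroup.centralizer ((P : Subgroup G) : Set G) = ⊥ := by
  classical
  by_contra hne
  obtain ⟨θ, hθ1, hθfix⟩ := exists_fixed_ne_one P R hne
  set H := R ⊔ (P : Subgroup G) with hH
  let _ := Fintype.ofFinite H
  let _ := Fintype.ofFinite (R.subgroupOf H)
  have hRH : R ≤ H := le_sup_left
  have hinertia : H ≤ inertia R (θ : R → ℂ) :=
    sup_le (le_inertia R (Char.IsIrrCharacter.isClassFunction θ.2))
      (fun g hg => mem_inertia.2 (hθfix g hg))
  have hcop : Nat.Coprime (Nat.card (R.subgroupOf H)) (R.subgroupOf H).index := by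
    rw [Nat.card_congr (Subgroup.subgroupOfEquivOfLe hRH).toEquiv]
    have hdvd : R.relIndex H ∣ Nat.card (P : Subgroup G) := by
      rw [hH, Subgroup.relIndex_sup_left]
      exact Subgroup.index_dvd_card _
    obtain ⟨k, hk⟩ := IsPGroup.iff_card.1 P.isPGroup'
    refine Nat.Coprime.coprime_dvd_right hdvd ?_
    rw [hk]
    exact Nat.Coprime.pow_right k ((Fact.out : p.Prime).coprime_iff_not_dvd.2 hp').symm
  obtain ⟨ψ, hψ, hψR⟩ := OddChar.AbelInertia.exists_ext_coprime (R.subgroupOf H)
    (OddChar.AbelInertia.isIrr_transport R H hRH θ.2) (fun g => funext fun n => by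
      have := congrFun (mem_inertia.1 (hinertia g.2)) ⟨((n : H) : G), Subgroup.mem_subgroupOf.1 n.2⟩
      exact this) hcop
  have hψ1 : ψ 1 = (θ : R → ℂ) 1 := by
    exact (hψR 1).trans (congrArg (θ : R → ℂ) (Subtype.ext (by simp)))
  -- a constituent of degree prime to `p` of the induced character
  have hind := Char.IsCharacter.indFun (H := H) (Char.IsIrrCharacter.isCharacter hψ)
  choose m hm using fun χ : IrrCharacter G => Char.IsCharacter.exists_nat_classInner hind χ.2
  have hidx : ¬ p ∣ H.index * charDegree (θ : R → ℂ) := by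
    refine (Fact.out : p.Prime).not_dvd_mul ?_ (fun hd => hp' (hd.trans (deg_dvd_card θ)))
    exact fun hd => P.not_dvd_index (hd.trans (Subgroup.index_dvd_of_le le_sup_right))
  obtain ⟨χ, hχm, hχd⟩ : ∃ χ : IrrCharacter G, m χ ≠ 0 ∧ ¬ p ∣ charDegree (χ : G → ℂ) := by
    by_contra hall
    push Not at hall
    apply hidx
    have h := congrFun (Char.IsCharacter.eq_sum_classInner hind) 1
    simp only [Finset.sum_apply, Pi.smul_apply, smul_eq_mul, hm, Char.indFun_apply_one, hψ1,
      ← deg_cast] at h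
    have h' : H.index * charDegree (θ : R → ℂ) =
        ∑ χ : IrrCharacter G, m χ * charDegree (χ : G → ℂ) := by exact_mod_cast h
    rw [h']
    refine Finset.dvd_sum fun χ _ => ?_
    by_cases h0 : m χ = 0
    · simp [h0]
    · exact (hall χ h0).mul_left _
  have hres : classInner (fun h : H => (χ : G → ℂ) h) ψ ≠ 0 := by
    have h1 := hm χ
    rw [Char.classInner_indFun _ _ _ (Char.IsIrrCharacter.isClassFunction χ.2),
      ← Char.classInner_conj_symm] at h1
    intro h0
    rw [h0, map_zero] at h1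
    exact hχm (by exact_mod_cast h1.symm)
  refine hθ1 (eq_one_of_const θ fun r => ?_)
  have hresc := Char.IsCharacter.restrict (Char.IsIrrCharacter.isCharacter χ.2) H
  have h2 := constituent_eq_degree hresc ⟨ψ, hψ⟩ hres
    (x := ⟨(r : G), hRH r.2⟩) (by simpa using hker χ hχd r r.2)
  have h3 := hψR ⟨⟨(r : G), hRH r.2⟩, r.2⟩
  change ψ _ = ψ 1 at h2
  rw [hψ1] at h2
  exact h3.symm.trans h2

/-- A character of degree prime to `p` has a vector fixed by `Q ≤ P'`. -/
theorem classInner_one_ne_zero [Fact p.Prime] (P : Sylow p G) (χ : IrrCharacter G)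
    (hdeg : ¬ p ∣ charDegree (χ : G → ℂ)) (Q : Subgroup G) [Fintype Q]
    (hQ : Q ≤ ⁅(P : Subgroup G), (P : Subgroup G)⁆) :
    classInner (fun q : Q => (χ : G → ℂ) q) (fun _ => 1) ≠ 0 := by
  classical
  let _ := Fintype.ofFinite (P : Subgroup G)
  have hQP : Q ≤ (P : Subgroup G) := hQ.trans (Subgroup.commutator_le_self _)
  have hres := Char.IsCharacter.restrict (Char.IsIrrCharacter.isCharacter χ.2) (P : Subgroup G)
  choose m hm using fun μ : IrrCharacter (P : Subgroup G) =>
    Char.IsCharacter.exists_nat_classInner hres μ.2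
  have hexp : ∀ a : (P : Subgroup G), (χ : G → ℂ) a =
      ∑ μ : IrrCharacter (P : Subgroup G), (m μ : ℂ) * (μ : ↥(P : Subgroup G) → ℂ) a := by
    intro a
    have h := congrFun (Char.IsCharacter.eq_sum_classInner hres) a
    simpa [Finset.sum_apply, hm] using h
  obtain ⟨μ₀, hμm, hμ1⟩ : ∃ μ : IrrCharacter (P : Subgroup G), m μ ≠ 0 ∧
      charDegree (μ : ↥(P : Subgroup G) → ℂ) = 1 := by
    by_contra hall
    push Not at hall
    apply hdeg
    have h := hexp 1
    simp only [Subgroup.coe_one, ← deg_cast] at h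
    have h' : charDegree (χ : G → ℂ) = ∑ μ : IrrCharacter (P : Subgroup G),
        m μ * charDegree (μ : ↥(P : Subgroup G) → ℂ) := by exact_mod_cast h
    rw [h']
    refine Finset.dvd_sum fun μ _ => ?_
    by_cases h0 : m μ = 0
    · simp [h0]
    · obtain ⟨k, hk⟩ := IsPGroup.iff_card.1 P.isPGroup'
      obtain ⟨j, -, hj⟩ := (Nat.dvd_prime_pow (Fact.out : p.Prime)).1 (hk ▸ deg_dvd_card μ)
      rcases j with _ | j
      · exact absurd (by rw [hj, pow_zero]) (hall μ h0)
      · exact dvd_mul_of_dvd_right (hj ▸ dvd_pow_self p (Nat.succ_ne_zero j)) _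
  obtain ⟨lam, hlam⟩ := Char.IsCharacter.exists_linear (Char.IsIrrCharacter.isCharacter μ₀.2)
    (by rw [← deg_cast, hμ1, Nat.cast_one])
  have hval : ∀ q : Q, (μ₀ : ↥(P : Subgroup G) → ℂ) ⟨q, hQP q.2⟩ = 1 := by
    intro q
    have hq := hQ q.2
    rw [← Subgroup.map_subtype_commutator, Subgroup.mem_map] at hq
    obtain ⟨y, hy, hyq⟩ := hq
    have he : (⟨q, hQP q.2⟩ : (P : Subgroup G)) = y := Subtype.ext hyq.symm
    rw [hlam, he]
    show ((lam y : ℂˣ) : ℂ) = 1
    rw [(MonoidHom.mem_ker).1 (Abelianization.commutator_subset_ker lam hy), Units.val_one]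
  choose n hn using fun μ : IrrCharacter (P : Subgroup G) =>
    Char.IsCharacter.exists_nat_classInner
      (Char.IsCharacter.comp (Char.IsIrrCharacter.isCharacter μ.2) (Subgroup.inclusion hQP))
      (Char.isIrrCharacter_principal (G := Q))
  have hexp2 : classInner (fun q : Q => (χ : G → ℂ) q) (fun _ => 1) =
      ∑ μ : IrrCharacter (P : Subgroup G), (m μ : ℂ) * (n μ : ℂ) := by
    simp only [← hn, classInner, Function.comp_apply, Finset.mul_sum]
    rw [Finset.sum_comm]
    refine Finset.sum_congr rfl fun q _ => ?_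
    rw [show (χ : G → ℂ) q = (χ : G → ℂ) ((Subgroup.inclusion hQP q : (P : Subgroup G)) : G) from rfl,
      hexp, Finset.sum_mul, Finset.mul_sum]
    exact Finset.sum_congr rfl fun μ _ => by ring
  rw [hexp2]
  have hn0 : (n μ₀ : ℂ) = 1 := by
    rw [← hn]
    simp only [classInner, Function.comp_apply]
    rw [Finset.sum_congr rfl fun q _ => by
      rw [show Subgroup.inclusion hQP q = ⟨(q : G), hQP q.2⟩ from rfl, hval]]
    simp
  intro h0
  have h0' : ∑ μ : IrrCharacter (P : Subgroup G), m μ * n μ = 0 := by exact_mod_cast h0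
  have h1 := Finset.sum_eq_zero_iff.1 h0' μ₀ (Finset.mem_univ _)
  have : n μ₀ = 1 := by exact_mod_cast hn0
  rw [this, mul_one] at h1
  exact hμm h1

/-- The common kernel of the characters of degree prime to `p`. -/
noncomputable def primeKer (G : Type u) [Group G] [Fintype G] (p : ℕ) : Subgroup G where
  carrier := {g | ∀ χ : IrrCharacter G, ¬ p ∣ charDegree (χ : G → ℂ) →
    (χ : G → ℂ) g = (χ : G → ℂ) 1}
  one_mem' := fun _ _ => rfl
  mul_mem' := fun {a b} ha hb χ hχ => by
    obtain ⟨n, ρ, -, hρ⟩ := χ.2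
    have e : ∀ g, (χ : G → ℂ) g = (χ : G → ℂ) 1 ↔ ρ g = LinearMap.id := fun g => by
      rw [← Char.character_eq_degree_iff ρ g, ← hρ, ρ.char_one]
    rw [e, map_mul, (e a).1 (ha χ hχ), (e b).1 (hb χ hχ)]
    rfl
  inv_mem' := fun {a} ha χ hχ => by
    rw [char_inv, ha χ hχ, ← deg_cast, map_natCast]

theorem primeKer_normal : (primeKer G p).Normal :=
  ⟨fun a ha g χ hχ => (Char.IsIrrCharacter.isClassFunction χ.2 a g).trans (ha χ hχ)⟩

/-- Let G be a finite group, p a prime and P a Sylow p-subgroup, and let N be the largest normal subgroup of G in which P has trivial centralizer (N is normal with C_N(P) = 1 and contains every normal subgroup with that property). Then the intersection of the kernels of the irreducible characters of G of degree prime to p is the normal core in G of the subgroup N·P' (P' the derived subgroup of P). In particular, when G has no nontrivial normal subgroup of order prime to p, that intersection is the normal core of P'. -/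
theorem result {G : Type*} [Group G] [Finite G] (p : ℕ) [Fact p.Prime] (P : Sylow p G) (N : Subgroup G) [N.Normal]
    (hN : N ⊓ Subgroup.centralizer ((P : Subgroup G) : Set G) = ⊥)
    (hmax : ∀ L : Subgroup G, L.Normal → L ⊓ Subgroup.centralizer ((P : Subgroup G) : Set G) = ⊥ → L ≤ N) :
    {g : G | ∀ χ : Cfsg.IrrCharacter G, ¬ p ∣ Cfsg.charDegree (χ : G → ℂ) → (χ : G → ℂ) g = (χ : G → ℂ) 1} =
      ((N ⊔ ⁅(P : Subgroup G), (P : Subgroup G)⁆).normalCore : Set G) := by
  classical
  cases nonempty_fintype G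
  have hp : p.Prime := Fact.out
  let _ := Fintype.ofFinite N
  set L := (N ⊔ ⁅(P : Subgroup G), (P : Subgroup G)⁆).normalCore with hL
  set K := primeKer G p with hK
  have hKn : K.Normal := primeKer_normal
  show (K : Set G) = L
  have hP'P : ⁅(P : Subgroup G), (P : Subgroup G)⁆ ≤ (P : Subgroup G) := Subgroup.commutator_le_self _
  refine congrArg _ (le_antisymm ?_ ?_)
  · -- `K ≤ L`
    rw [hL, Subgroup.normal_le_normalCore]
    have hKP : K ⊓ (P : Subgroup G) ≤ ⁅(P : Subgroup G), (P : Subgroup G)⁆ := by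
      rintro x ⟨hxK, hxP⟩
      by_contra hx
      let _ := Fintype.ofFinite (P : Subgroup G)
      have hne : Abelianization.of (⟨x, hxP⟩ : (P : Subgroup G)) ≠ 1 := by
        intro h
        refine hx ?_
        rw [← Subgroup.map_subtype_commutator]
        exact ⟨⟨x, hxP⟩, (QuotientGroup.eq_one_iff _).1 h, rfl⟩
      have : NeZero (Monoid.exponent (Abelianization (P : Subgroup G))) :=
        ⟨Monoid.exponent_ne_zero_of_finite⟩
      have : HasEnoughRootsOfUnity ℂ (Monoid.exponent (Abelianization (P : Subgroup G))) :=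
        inferInstance
      obtain ⟨φ, hφ⟩ := CommGroup.exists_apply_ne_one_of_hasEnoughRootsOfUnity _ ℂ hne
      let lam : (P : Subgroup G) →* ℂˣ := φ.comp Abelianization.of
      let μ : IrrCharacter (P : Subgroup G) := ⟨_, Char.isIrrCharacter_linear lam⟩
      have hμ1 : (μ : ↥(P : Subgroup G) → ℂ) 1 = 1 := by simp [μ]
      have hind := Char.IsCharacter.indFun (H := (P : Subgroup G))
        (Char.IsIrrCharacter.isCharacter μ.2)
      choose m hm using fun χ : Cfsg.IrrCharacter G => Char.IsCharacter.exists_nat_classInner hind χ.2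
      obtain ⟨χ, hχm, hχd⟩ : ∃ χ : Cfsg.IrrCharacter G, m χ ≠ 0 ∧
          ¬ p ∣ Cfsg.charDegree (χ : G → ℂ) := by
        by_contra hall
        push Not at hall
        apply P.not_dvd_index
        have h := congrFun (Char.IsCharacter.eq_sum_classInner hind) 1
        simp only [Finset.sum_apply, Pi.smul_apply, smul_eq_mul, hm, Char.indFun_apply_one, hμ1,
          mul_one, ← deg_cast] at h
        have h' : (P : Subgroup G).index = ∑ χ : Cfsg.IrrCharacter G,
            m χ * Cfsg.charDegree (χ : G → ℂ) := by exact_mod_cast h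
        rw [h']
        refine Finset.dvd_sum fun χ _ => ?_
        by_cases h0 : m χ = 0
        · simp [h0]
        · exact (hall χ h0).mul_left _
      have hres : Cfsg.classInner (fun h : (P : Subgroup G) => (χ : G → ℂ) h) (μ : _ → ℂ) ≠ 0 := by
        have h1 := hm χ
        rw [Char.classInner_indFun _ _ _ (Char.IsIrrCharacter.isClassFunction χ.2),
          ← Char.classInner_conj_symm] at h1
        intro h0
        rw [h0, map_zero] at h1
        exact hχm (by exact_mod_cast h1.symm)
      have h2 := constituent_eq_degree (Char.IsCharacter.restrict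
        (Char.IsIrrCharacter.isCharacter χ.2) _) μ hres (x := ⟨x, hxP⟩)
        (by simpa using hxK χ hχd)
      rw [hμ1] at h2
      exact hφ (Units.ext h2)
    have hfr : K ⊓ (P : Subgroup G) ≤ (frattini (P : Subgroup G)).map (P : Subgroup G).subtype := by
      refine hKP.trans ?_
      rw [← Subgroup.map_subtype_commutator]
      have : Group.IsNilpotent (P : Subgroup G) := P.isPGroup'.isNilpotent
      exact Subgroup.map_mono CfsgLib.Transfer.commutator_le_frattini
    obtain ⟨R', hR'⟩ := (NPC.hasNormalPComplement_iff).1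
      (CfsgLib.Transfer.hasNormalPComplement_of_inf_le_frattini P K hfr)
    set R := R'.map K.subtype with hR
    have hRmem : ∀ g, g ∈ R ↔ g ∈ K ∧ Nat.Coprime (orderOf g) p := by
      intro g
      constructor
      · rintro ⟨y, hy, rfl⟩
        exact ⟨y.2, by rw [Subgroup.coe_subtype, Subgroup.orderOf_coe]; exact (NPC.mem_iff_coprime hR').1 hy⟩
      · rintro ⟨hg, hco⟩
        exact ⟨⟨g, hg⟩, (NPC.mem_iff_coprime hR').2 (by rwa [Subgroup.orderOf_mk]), rfl⟩
    have hRn : R.Normal := ⟨fun a ha g => (hRmem _).2 ⟨hKn.conj_mem a ((hRmem a).1 ha).1 g, by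
      rw [show orderOf (g * a * g⁻¹) = orderOf a from MulEquiv.orderOf_eq (MulAut.conj g) a]
      exact ((hRmem a).1 ha).2⟩⟩
    let _ := Fintype.ofFinite R
    have hRp : ¬ p ∣ Nat.card R := by
      rw [hR, Subgroup.card_map_of_injective K.subtype_injective]
      exact fun h => hp.one_lt.ne' (Nat.dvd_one.1 (hR'.2.1 ▸ Nat.dvd_gcd h dvd_rfl))
    have hRN : R ≤ N := hmax R hRn (inf_centralizer_eq_bot P R hRp fun χ hχ r hr =>
      ((hRmem r).1 hr).1 χ hχ)
    -- `K` is generated by `R` and `K ⊓ P`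
    set T := (P : Subgroup G).subgroupOf K with hT
    have hTidx : ¬ p ∣ T.index := by
      have h1 : T.index ∣ (P : Subgroup G).index := by
        show (P : Subgroup G).relIndex K ∣ _
        have e1 := Subgroup.relIndex_mul_relIndex (K ⊓ (P : Subgroup G)) K (K ⊔ (P : Subgroup G))
          inf_le_left le_sup_left
        have e2 := Subgroup.relIndex_mul_relIndex (K ⊓ (P : Subgroup G)) (P : Subgroup G)
          (K ⊔ (P : Subgroup G)) inf_le_right le_sup_right
        rw [← e2, Subgroup.inf_relIndex_right, inf_comm, Subgroup.inf_relIndex_right,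
          Subgroup.relIndex_sup_left, mul_comm] at e1
        have hne : K.relIndex (P : Subgroup G) ≠ 0 := Subgroup.index_ne_zero_of_finite
        rw [mul_left_cancel₀ hne e1]
        exact Subgroup.relIndex_dvd_index_of_le le_sup_right
      exact fun h => P.not_dvd_index (h.trans h1)
    obtain ⟨k, hk⟩ := hR'.2.2
    have htop : R' ⊔ T = ⊤ := by
      rw [← Subgroup.index_eq_one]
      refine Nat.eq_one_of_dvd_coprimes (a := p ^ k) (b := T.index)
        (Nat.Coprime.pow_left k (hp.coprime_iff_not_dvd.2 hTidx)) ?_ ?_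
      · rw [← hk]; exact Subgroup.index_dvd_of_le le_sup_left
      · exact Subgroup.index_dvd_of_le le_sup_right
    intro g hg
    have hmap : K ≤ R ⊔ (K ⊓ (P : Subgroup G)) := by
      intro x hx
      have h1 : (⟨x, hx⟩ : K) ∈ R' ⊔ T := htop ▸ Subgroup.mem_top _
      have h2 := Subgroup.mem_map_of_mem K.subtype h1
      rw [Subgroup.map_sup, hT, Subgroup.subgroupOf_map_subtype, inf_comm] at h2
      exact h2
    exact sup_le (hRN.trans le_sup_left) (hKP.trans le_sup_right) (hmap hg)
  · -- `L ≤ K`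
    intro g hg χ hχ
    obtain ⟨n, ρ, hρ, hρc⟩ := χ.2
    have e : ∀ g, (χ : G → ℂ) g = (χ : G → ℂ) 1 ↔ ρ g = LinearMap.id := fun g => by
      rw [← Char.character_eq_degree_iff ρ g, ← hρc, ρ.char_one]
    obtain ⟨θ, hθc, hθfix⟩ := exists_fixed_constituent P N χ hχ
    obtain rfl := eq_one_of_fixed P N hN θ hθfix
    -- a subgroup with a fixed vector
    have hfixvec : ∀ (Q : Subgroup G) [Fintype Q],
        Cfsg.classInner (fun q : Q => (χ : G → ℂ) q) (fun _ => 1) ≠ 0 →
        CharKernel.fixedSpace ρ Q ≠ ⊥ := by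
      intro Q _ hQ hbot
      apply hQ
      have : Invertible (Nat.card Q : ℂ) := invertibleOfNonzero (by simp [Nat.card_pos.ne'])
      have h := Representation.card_inv_mul_sum_char_eq_finrank (ρ.comp Q.subtype)
      have h0 : Module.finrank ℂ (Representation.invariants (ρ.comp Q.subtype)) = 0 := by
        have : Representation.invariants (ρ.comp Q.subtype) = ⊥ := by
          rw [← hbot]; rfl
        rw [this, finrank_bot]
      rw [h0, Nat.cast_zero] at h
      rw [← h, Cfsg.classInner]
      simp [← hρc, Representation.character]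
    have hNker : ∀ x ∈ N, ρ x = 1 := by
      by_contra hne
      push Not at hne
      exact hfixvec N hθc (CharKernel.fixedSpace_eq_bot ρ N hne)
    have hLn : L.Normal := Subgroup.normalCore_normal _
    let _ := Fintype.ofFinite ↥(L ⊓ ⁅(P : Subgroup G), (P : Subgroup G)⁆)
    have hfix := hfixvec (L ⊓ ⁅(P : Subgroup G), (P : Subgroup G)⁆)
      (classInner_one_ne_zero P χ hχ _ inf_le_right)
    have hNL : N ≤ L := Subgroup.normal_le_normalCore.2 le_sup_left
    have hLtop : CharKernel.fixedSpace ρ (L ⊓ ⁅(P : Subgroup G), (P : Subgroup G)⁆) ≤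
        CharKernel.fixedSpace ρ L := by
      intro v hv
      rw [CharKernel.mem_fixedSpace] at hv ⊢
      intro l hl
      have hl' : l ∈ N ⊔ ⁅(P : Subgroup G), (P : Subgroup G)⁆ := Subgroup.normalCore_le _ hl
      rw [← SetLike.mem_coe, Subgroup.normal_mul] at hl'
      obtain ⟨a, ha, b, hb, rfl⟩ := Set.mem_mul.1 hl'
      have hbL : b ∈ L := by
        have := L.mul_mem (L.inv_mem (hNL ha)) hl
        rwa [inv_mul_cancel_left] at this
      rw [map_mul, Module.End.mul_apply, hv b ⟨hbL, hb⟩, hNker a ha, Module.End.one_apply]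
    have hLker : ∀ x ∈ L, ρ x = 1 := by
      by_contra hne
      push Not at hne
      exact hfix (eq_bot_iff.2 (hLtop.trans (CharKernel.fixedSpace_eq_bot ρ L hne).le))
    exact (e g).2 (hLker g hg)

end Cfsg.Agent.S4591
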