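import Cfsg.Statements.S4710
import Cfsg.Agent.Lib.BlockReg.Integral
import Cfsg.Agent.Lib.Blk83.RegDvd
import Cfsg.Agent.Lib.Char.Complete

set_option autoImplicit false
open Cfsg

namespace Cfsg.Agent.S4710

open CfsgLib.BlockReg
open scoped ComplexConjugate

/-- The quadratic inequality from a row of the regular inner product matrix. -/
theorem row_bound {ι : Type*} [Fintype ι] [DecidableEq ι] (n : ι → ℤ) (i : ι) (A : ℤ)
    (hsum : ∑ j, n j ^ 2 = A * n i) (s : Finset ι) (his : i ∉ s) (b : ℤ) (hb : ∀ j ∈ s, b ≤ n j ^ 2) :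
    (s.card : ℤ) * b ≤ n i * (A - n i) ∧ 4 * ((s.card : ℤ) * b) ≤ A ^ 2 := by
  have h1 : (s.card : ℤ) * b ≤ ∑ j ∈ s, n j ^ 2 := by
    rw [← nsmul_eq_mul, ← Finset.sum_const]
    exact Finset.sum_le_sum hb
  have h2 : ∑ j ∈ s, n j ^ 2 ≤ ∑ j ∈ Finset.univ.erase i, n j ^ 2 :=
    Finset.sum_le_sum_of_subset_of_nonneg
      (fun j hj => Finset.mem_erase.mpr ⟨fun h => his (h ▸ hj), Finset.mem_univ _⟩) fun j _ _ => sq_nonneg _
  have h3 : ∑ j ∈ Finset.univ.erase i, n j ^ 2 = n i * (A - n i) := by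
    have h4 := Finset.add_sum_erase Finset.univ (fun j => n j ^ 2) (Finset.mem_univ i)
    simp only [hsum] at h4
    linear_combination h4
  refine ⟨by linarith, ?_⟩
  nlinarith [sq_nonneg (2 * n i - A)]

/-- Let p be a prime, M a maximal ideal of the algebraic integers containing p, and B a p-block of defect d of the finite group G containing k irreducible characters. If B contains a character of positive height then 2k ≤ p^(2d − 2); and every character in B has height 0 when d ≤ 1 and height at most d − 2 when d ≥ 2. -/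
theorem result {G : Type*} [Group G] [Finite G] (p : ℕ) [Fact p.Prime] (M : Ideal Cfsg.AlgInt) (hM : Cfsg.IsPModular p M) (B : Set (Cfsg.IrrCharacter G)) (hB : Cfsg.IsPBlock M B) (d : ℕ) (hd : Cfsg.blockDefect p B = d) : ((∃ χ ∈ B, 0 < Cfsg.blockHeight p B (χ : G → ℂ)) → 2 * Nat.card B ≤ p ^ (2 * d - 2)) ∧ ∀ χ ∈ B, (d ≤ 1 → Cfsg.blockHeight p B (χ : G → ℂ) = 0) ∧ (2 ≤ d → Cfsg.blockHeight p B (χ : G → ℂ) ≤ d - 2) := by
  classical
  have := Fintype.ofFinite G
  have hp : p.Prime := Fact.out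
  set a := (Nat.card G).factorization p with ha
  set m := minExp p B with hm
  have hd' : d = a - m := by rw [← hd, blockDefect_eq]
  choose n hn using fun χ ψ : Cfsg.IrrCharacter G => exists_int_classInner_tilde (p := p) hp χ ψ
  have hnr : ∀ χ ψ : Cfsg.IrrCharacter G, (n χ ψ : ℂ) =
      rInner p (χ : G → ℂ) (ψ : G → ℂ) * (Cfsg.charDegree (ψ : G → ℂ) : ℂ) := fun χ ψ => by
    rw [← hn χ ψ, classInner_eq_rInner_mul]
  have hsymm : ∀ χ ψ : Cfsg.IrrCharacter G, n χ ψ = n ψ χ := fun χ ψ => by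
    have h1 : (n ψ χ : ℂ) = (n χ ψ : ℂ) := by
      rw [← hn ψ χ, classInner_tilde_conj, hn χ ψ, map_intCast]
    exact_mod_cast h1.symm
  have hrow : ∀ χ : Cfsg.IrrCharacter G, ∑ ψ, n χ ψ ^ 2 = (p : ℤ) ^ a * n χ χ := by
    intro χ
    have hcf : Cfsg.IsClassFunction G (tilde p (χ : G → ℂ)) := fun g h =>
      (tilde_congr p χ g (h * g * h⁻¹) (isConj_iff.mpr ⟨h, rfl⟩)).symm
    have h1 : Cfsg.classInner (tilde p (χ : G → ℂ)) (tilde p (χ : G → ℂ)) =
        ((p ^ a : ℕ) : ℂ) * Cfsg.classInner (tilde p (χ : G → ℂ)) (χ : G → ℂ) := by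
      simp only [Cfsg.classInner]
      rw [mul_left_comm, Finset.mul_sum _ _ ((p ^ a : ℕ) : ℂ)]
      congr 1
      refine Finset.sum_congr rfl fun g _ => ?_
      simp only [tilde, ← ha]
      split_ifs
      · simp
      · simp only [map_mul, map_natCast]; ring
    rw [CfsgLib.Char.classInner_eq_sum hcf hcf, hn χ χ] at h1
    have h2 : ∑ ψ, ((n χ ψ : ℂ)) ^ 2 = ((p ^ a : ℕ) : ℂ) * (n χ χ : ℂ) := by
      rw [← h1]
      exact Finset.sum_congr rfl fun ψ _ => by rw [hn χ ψ, map_intCast, sq]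
    have h3 : ((∑ ψ, n χ ψ ^ 2 : ℤ) : ℂ) = (((p : ℤ) ^ a * n χ χ : ℤ) : ℂ) := by push_cast at h2 ⊢; exact h2
    exact_mod_cast h3
  -- entries at a height zero row
  have hzero : ∀ χ ∈ B, ∀ ψ ∈ B, (Cfsg.charDegree (χ : G → ℂ)).factorization p = m →
      ((p : ℤ) ^ (2 * (Cfsg.charDegree (ψ : G → ℂ)).factorization p)) ≤ n χ ψ ^ 2 := by
    intro χ hχ ψ hψ hχm
    obtain ⟨q, hq⟩ := CfsgLib.Blk83.pow_dvd hM (deg_pos ψ).ne' (hnr χ ψ) (rInner_memRing hM χ ψ)
    have hne : n χ ψ ≠ 0 := fun h0 => rInner_not_memIdeal hM hB hχ hψ hχm (by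
      have h1 := hnr χ ψ
      rw [h0, Int.cast_zero, eq_comm, mul_eq_zero] at h1
      rcases h1 with h1 | h1
      · rw [h1]; exact memIdeal_zero hM
      · exact absurd (Nat.cast_eq_zero.mp h1) (deg_pos ψ).ne')
    have hq0 : q ≠ 0 := fun h0 => hne (by rw [hq, h0, mul_zero])
    have h1 : (1 : ℤ) ≤ q ^ 2 := by
      have := pow_two_pos_of_ne_zero hq0
      omega
    rw [hq, mul_pow, ← pow_mul, mul_comm _ 2]
    exact le_mul_of_one_le_right (by positivity) h1
  obtain ⟨χ₀, hχ₀, hχ₀m⟩ := exists_minExp (p := p) (block_nonempty hM hB)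
  -- a character of positive height
  have hpos : ∀ η ∈ B, 0 < Cfsg.blockHeight p B (η : G → ℂ) →
      ((B.toFinset.filter fun ψ : Cfsg.IrrCharacter G => (Cfsg.charDegree (ψ : G → ℂ)).factorization p = m).card : ℤ) *
          ((p : ℤ) ^ (2 * (Cfsg.charDegree (η : G → ℂ)).factorization p)) * 4 ≤ ((p : ℤ) ^ a) ^ 2 ∧
        (Cfsg.charDegree (η : G → ℂ)).factorization p + 2 ≤ a := by
    intro η hη hη0
    rw [blockHeight_eq] at hη0
    set e := (Cfsg.charDegree (η : G → ℂ)).factorization p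
    have hηm : m < e := by omega
    have hdvd : (p : ℤ) ^ (e + 1) ∣ n η η :=
      CfsgLib.Blk83.pow_succ_dvd hM (deg_pos η).ne' (hnr η η) (rInner_memIdeal hM hB hη hηm)
    obtain ⟨h1, h2⟩ := row_bound (n η) η _ (hrow η)
      (B.toFinset.filter fun ψ : Cfsg.IrrCharacter G => (Cfsg.charDegree (ψ : G → ℂ)).factorization p = m)
      (fun h => hηm.ne' (Finset.mem_filter.mp h).2) ((p : ℤ) ^ (2 * e)) (fun ψ hψ => by
        obtain ⟨hψB, hψm⟩ := Finset.mem_filter.mp hψ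
        rw [hsymm]
        exact hzero ψ (Set.mem_toFinset.mp hψB) η hη hψm)
    refine ⟨by linarith, ?_⟩
    have hk : (1 : ℤ) ≤ ((B.toFinset.filter fun ψ : Cfsg.IrrCharacter G => (Cfsg.charDegree (ψ : G → ℂ)).factorization p = m).card : ℤ) := by
      exact_mod_cast Finset.card_pos.mpr ⟨χ₀, Finset.mem_filter.mpr ⟨Set.mem_toFinset.mpr hχ₀, hχ₀m⟩⟩
    have hpe : (0 : ℤ) < (p : ℤ) ^ (2 * e) := pow_pos (by exact_mod_cast hp.pos) _
    have hmul : 0 < n η η * ((p : ℤ) ^ a - n η η) := by nlinarith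
    have hN : 0 < n η η := by
      rcases lt_trichotomy (n η η) 0 with h | h | h
      · exfalso
        have : (0 : ℤ) ≤ (p : ℤ) ^ a := pow_nonneg (by exact_mod_cast hp.pos.le) _
        nlinarith
      · simp [h] at hmul
      · exact h
    have hlt : n η η < (p : ℤ) ^ a := by nlinarith
    have hge := Int.le_of_dvd hN hdvd
    have hlt' : p ^ (e + 1) < p ^ a := by exact_mod_cast lt_of_le_of_lt hge hlt
    have := (Nat.pow_lt_pow_iff_right hp.one_lt).mp hlt'
    omega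
  refine ⟨fun ⟨η, hη, hη0⟩ => ?_, fun χ hχ => ?_⟩
  · obtain ⟨hk0, hea⟩ := hpos η hη hη0
    rw [blockHeight_eq] at hη0
    set s₀ := B.toFinset.filter fun ψ : Cfsg.IrrCharacter G => (Cfsg.charDegree (ψ : G → ℂ)).factorization p = m
    set s₁ := B.toFinset.filter fun ψ : Cfsg.IrrCharacter G => ¬ (Cfsg.charDegree (ψ : G → ℂ)).factorization p = m
    have hp1 : (1 : ℤ) ≤ p := by exact_mod_cast hp.one_lt.le
    obtain ⟨-, hk1⟩ := row_bound (n χ₀) χ₀ _ (hrow χ₀) s₁
      (fun h => (Finset.mem_filter.mp h).2 hχ₀m) ((p : ℤ) ^ (2 * (m + 1))) (fun ψ hψ => by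
        obtain ⟨hψB, hψm⟩ := Finset.mem_filter.mp hψ
        have := minExp_le (p := p) (Set.mem_toFinset.mp hψB)
        exact le_trans (pow_le_pow_right₀ hp1 (by omega)) (hzero χ₀ hχ₀ ψ (Set.mem_toFinset.mp hψB) hχ₀m))
    have hk0' : (s₀.card : ℤ) * (p : ℤ) ^ (2 * (m + 1)) * 4 ≤ ((p : ℤ) ^ a) ^ 2 := by
      refine le_trans ?_ hk0
      gcongr <;> omega
    have hcard : Nat.card B = s₀.card + s₁.card := by
      rw [Finset.card_filter_add_card_filter_not, Nat.card_eq_fintype_card, Set.toFinset_card]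
    have hexp : 2 * a = 2 * (m + 1) + (2 * d - 2) := by omega
    have hfin : (2 * (Nat.card B : ℤ)) * (p : ℤ) ^ (2 * (m + 1)) ≤
        (p : ℤ) ^ (2 * d - 2) * (p : ℤ) ^ (2 * (m + 1)) := by
      rw [← pow_add, show (2 * d - 2) + 2 * (m + 1) = a * 2 by omega, pow_mul (p : ℤ) a 2, hcard]
      push_cast
      linarith
    have := le_of_mul_le_mul_right hfin (pow_pos (by exact_mod_cast hp.pos) _)
    exact_mod_cast this
  · by_cases h0 : Cfsg.blockHeight p B (χ : G → ℂ) = 0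
    · simp [h0]
    · obtain ⟨-, hea⟩ := hpos χ hχ (Nat.pos_of_ne_zero h0)
      rw [blockHeight_eq] at h0 ⊢
      exact ⟨fun h => by omega, fun h => by omega⟩

end Cfsg.Agent.S4710
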