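import Cfsg.Statements.S4438
import Cfsg.Agent.Lib.Blocks.Pairs.Covering
import Cfsg.Agent.Lib.Blocks.EquivDefect
import Cfsg.Agent.Lib.Blocks.Induced

set_option autoImplicit false
set_option maxHeartbeats 1000000
set_option synthInstance.maxHeartbeats 400000
open Cfsg

namespace Cfsg.Agent.S4438

/-- Let N be a normal subgroup of the finite group G, b a block of N with defect group Q, and B a block of G covering b (some member of B has a constituent in b on restriction to N), all relative to a maximal ideal M of the algebraic integers containing p. Then B has a defect group P with P ⊓ N = Q. -/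
theorem result {G : Type*} [Group G] [Fintype G] (p : ℕ) [Fact p.Prime] (M : Ideal Cfsg.AlgInt) (hM : Cfsg.IsPModular p M) (N : Subgroup G) [hN : N.Normal] [Fintype N] (b : Set (Cfsg.IrrCharacter N)) (hb : Cfsg.IsPBlock M b) (Q : Subgroup G) (hQN : Q ≤ N) (hQ : Cfsg.IsDefectGroup p M b (Q.subgroupOf N)) (B : Set (Cfsg.IrrCharacter G)) (hB : Cfsg.IsPBlock M B) (hcov : (∃ χ ∈ B, ∃ θ ∈ b, Cfsg.classInner (fun n : N => (χ : G → ℂ) n) (θ : N → ℂ) ≠ 0)) : ∃ P : Subgroup G, Cfsg.IsDefectGroup p M B P ∧ P ⊓ N = Q := by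
  haveI := hM.2.1
  obtain ⟨P, hP⟩ := CfsgLib.Blocks.exists_defectGroup hM hB
  obtain ⟨c, hc, -, ⟨χ', hχ', θ', hθ', hc'⟩, hcD⟩ :=
    CfsgLib.Blocks.Pairs.exists_stable_covered (N := N) hM hB hP
  obtain ⟨χ, hχ, θ, hθ, hcθ⟩ := hcov
  obtain ⟨g, hg⟩ := CfsgLib.Blocks.constituent_mem_conjClosure (M := M) N hb
    (CfsgLib.BlockReg.block_congr hM hB hχ hχ') hθ hcθ hc'
  set ψ := MulAut.conjNormal (H := N) g with hψ
  have hpull : CfsgLib.Blocks.Pairs.pullSet ψ c = b := by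
    refine CfsgLib.Blocks.IsPBlock.eq_of_mem (CfsgLib.Blocks.Pairs.isPBlock_pullSet ψ hc) hb
      ?_ hg
    exact ⟨θ', hθ', (CfsgLib.Blocks.conjIrr_eq_pull N θ' g).symm⟩
  have hD := CfsgLib.Blocks.isDefectGroup_pullSet ψ hcD
  rw [hpull] at hD
  obtain ⟨n, hn⟩ := CfsgLib.Blocks.defectGroup_conj hM hb hD hQ
  refine ⟨P.map (MulAut.conj ((n : G) * g⁻¹)).toMonoidHom,
    CfsgLib.Blocks.IsDefectGroup.conj' hP _, ?_⟩
  ext x
  simp only [Subgroup.mem_inf, Subgroup.mem_map, MulEquiv.coe_toMonoidHom, MulAut.conj_apply]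
  constructor
  · rintro ⟨⟨u, hu, rfl⟩, hxN⟩
    have huN : u ∈ N := by
      have h := hN.conj_mem _ hxN ((n : G) * g⁻¹)⁻¹
      simpa [mul_assoc] using h
    have hv : g⁻¹ * u * g ∈ N := by simpa using hN.conj_mem u huN g⁻¹
    have h1 : n * ⟨g⁻¹ * u * g, hv⟩ * n⁻¹ ∈ Q.subgroupOf N := by
      rw [← hn]
      refine ⟨_, ?_, rfl⟩
      show ψ ⟨g⁻¹ * u * g, hv⟩ ∈ (P ⊓ N).subgroupOf N
      rw [Subgroup.mem_subgroupOf, hψ, MulAut.conjNormal_apply]
      rw [show g * (g⁻¹ * u * g) * g⁻¹ = u by group]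
      exact ⟨hu, huN⟩
    have h2 := Subgroup.mem_subgroupOf.1 h1
    rw [show (n : G) * g⁻¹ * u * ((n : G) * g⁻¹)⁻¹ = (n : G) * (g⁻¹ * u * g) * (n : G)⁻¹ by group]
    exact h2
  · intro hx
    refine ⟨?_, hQN hx⟩
    have h1 : (⟨x, hQN hx⟩ : N) ∈ Q.subgroupOf N := Subgroup.mem_subgroupOf.2 hx
    rw [← hn] at h1
    obtain ⟨v, hv, hvx⟩ := h1
    have h2 : ((ψ v : N) : G) ∈ P ⊓ N := hv
    refine ⟨((ψ v : N) : G), h2.1, ?_⟩
    have h3 : (n : G) * (v : G) * (n : G)⁻¹ = x := congrArg Subtype.val hvx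
    rw [hψ, MulAut.conjNormal_apply]
    rw [show (n : G) * g⁻¹ * (g * (v : G) * g⁻¹) * ((n : G) * g⁻¹)⁻¹ =
      (n : G) * (v : G) * (n : G)⁻¹ by group]
    exact h3

end Cfsg.Agent.S4438
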