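import Cfsg.Statements.S4417
import Cfsg.Agent.Lib.CrossChar.Basic
import Cfsg.Agent.Lib.PGroup.Basic

set_option autoImplicit false
open Cfsg

namespace Cfsg.Agent.S4417

open scoped commutatorElement
open Matrix

/-- The derived series of a group, one step down, lies in that of a subgroup containing the commutators. -/
theorem derivedSeries_succ_le_map {G : Type*} [Group G] {M : Subgroup G}
    (hM : derivedSeries G 1 ≤ M) (i : ℕ) :
    derivedSeries G (i + 1) ≤ (derivedSeries ↥M i).map M.subtype := by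
  induction i with
  | zero =>
    rw [derivedSeries_zero, ← MonoidHom.range_eq_map, Subgroup.range_subtype]
    exact hM
  | succ i ih =>
    rw [derivedSeries_succ G (i + 1), derivedSeries_succ ↥M i, Subgroup.map_commutator]
    exact Subgroup.commutator_mono ih ih

/-- In a p-group the m-th derived subgroup lies in every subgroup of index p^m. -/
theorem derivedSeries_le_of_index : ∀ {G : Type*} [Group G] [Finite G] {p : ℕ} [Fact p.Prime],
    IsPGroup p G → ∀ (m : ℕ) (H : Subgroup G), H.index = p ^ m → derivedSeries G m ≤ H := by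
  intro G _ _ p hp hG m
  induction m generalizing G with
  | zero =>
    intro H hH
    rw [pow_zero, Subgroup.index_eq_one] at hH
    simp [hH]
  | succ m ih =>
    intro H hH
    have hne : H ≠ ⊤ := by
      intro h
      rw [h, Subgroup.index_top] at hH
      have := Nat.one_lt_pow (n := m + 1) (by omega) hp.out.one_lt
      omega
    obtain ⟨M, hM, hHM⟩ := (eq_top_or_exists_le_coatom H).resolve_left hne
    have hnil := hG.isNilpotent
    have hMn : M.Normal :=
      Subgroup.NormalizerCondition.normal_of_coatom M normalizerCondition_of_isNilpotent hM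
    have hMi : M.index = p := by
      obtain ⟨k, hk⟩ := hG.index M
      have hsimple : IsSimpleGroup (G ⧸ M) := by
        have hnt : Nontrivial (G ⧸ M) := by
          rw [QuotientGroup.nontrivial_iff]; exact hM.1
        refine ⟨fun N _ => ?_⟩
        rcases hM.le_iff.1 (show M ≤ N.comap (QuotientGroup.mk' M) from fun x hx => by
          simp [Subgroup.mem_comap, (QuotientGroup.eq_one_iff x).2 hx, N.one_mem]) with h | h
        · right
          exact Subgroup.comap_injective (QuotientGroup.mk'_surjective M) (by rw [h, Subgroup.comap_top])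
        · left
          refine Subgroup.comap_injective (QuotientGroup.mk'_surjective M) ?_
          rw [h, MonoidHom.comap_bot, QuotientGroup.ker_mk']
      have := (hG.to_quotient M).isNilpotent
      have : IsMulCommutative (G ⧸ M) :=
        ⟨⟨fun a b => (IsSimpleGroup.comm_iff_isSolvable.2 inferInstance) a b⟩⟩
      have hpr : (Nat.card (G ⧸ M)).Prime := IsSimpleGroup.prime_card
      rw [← Subgroup.index_eq_card, hk] at hpr
      rw [hk, hpr.eq_one_of_pow, pow_one]
    have h1 : derivedSeries G 1 ≤ M := by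
      have hcy : IsCyclic (G ⧸ M) := isCyclic_of_prime_card (p := p)
        (by rw [← Subgroup.index_eq_card]; exact hMi)
      rw [derivedSeries_one]
      exact (Subgroup.Normal.quotient_commutative_iff_commutator_le).1
        ⟨⟨fun a b => (IsCyclic.commGroup).mul_comm a b⟩⟩
    have h2 : (H.subgroupOf M).index = p ^ m := by
      have h := Subgroup.relIndex_mul_index hHM
      rw [hH, hMi, pow_succ] at h
      exact Nat.eq_of_mul_eq_mul_right hp.out.pos h
    calc derivedSeries G (m + 1) ≤ (derivedSeries ↥M m).map M.subtype :=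
          derivedSeries_succ_le_map h1 m
      _ ≤ (H.subgroupOf M).map M.subtype := Subgroup.map_mono (ih (hG.to_subgroup M) _ h2)
      _ ≤ H := by rw [Subgroup.map_subgroupOf_eq_of_le hHM]

/-- A matrix of finite order prime to the characteristic with the single eigenvalue 1 is trivial. -/
theorem eq_one_of_eigen {K : Type*} [Field K] [IsAlgClosed K] {n : ℕ}
    (f : Module.End K (Fin n → K)) (N : ℕ) (hN : (N : K) ≠ 0) (hf : f ^ N = 1)
    (h1 : ∀ μ, f.HasEigenvalue μ → μ = 1) : f = 1 := by
  have hint : IsIntegral K f := Algebra.IsIntegral.isIntegral f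
  have hsep : (Polynomial.X ^ N - Polynomial.C (1 : K)).Separable :=
    Polynomial.separable_X_pow_sub_C 1 hN one_ne_zero
  have hdvd : minpoly K f ∣ Polynomial.X ^ N - Polynomial.C (1 : K) := by
    apply minpoly.dvd
    simp [hf]
  have hnd : (minpoly K f).roots.Nodup := Polynomial.nodup_roots (hsep.of_dvd hdvd)
  have hroots : ∀ r ∈ (minpoly K f).roots, r = 1 := fun r hr =>
    h1 r (Module.End.hasEigenvalue_of_isRoot (Polynomial.isRoot_of_mem_roots hr))
  have hcases : (minpoly K f).roots ≤ {(1 : K)} :=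
    (Multiset.le_iff_subset hnd).2 fun r hr => by simp [hroots r hr]
  have hd : minpoly K f ∣ Polynomial.X - Polynomial.C (1 : K) := by
    rw [(IsAlgClosed.splits (minpoly K f)).eq_prod_roots_of_monic (minpoly.monic hint)]
    have := Multiset.prod_dvd_prod_of_le (Multiset.map_le_map (f := fun r => Polynomial.X - Polynomial.C r) hcases)
    simpa using this
  have h2 := Polynomial.aeval_eq_zero_of_dvd_aeval_eq_zero hd (minpoly.aeval K f)
  simpa [sub_eq_zero] using h2

/-- Let F be a field with q elements, p a prime not dividing q, and e the multiplicative order of q modulo p; assume e ≤ n. Then every p-subgroup of GL_n(F) has derived length at most ⌊log₂(n/e)⌋ + 1: that term of its derived series is trivial (n/e is the integer quotient). -/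
theorem result {F : Type*} [Field F] [Fintype F] (q : ℕ) (hF : Fintype.card F = q) (p : ℕ) [Fact p.Prime] (hpq : ¬ p ∣ q) (n e : ℕ) (he : e = orderOf (q : ZMod p)) (hen : e ≤ n) (P : Subgroup (GL (Fin n) F)) (hP : IsPGroup p P) : derivedSeries ↥P (Nat.log 2 (n / e) + 1) = ⊥ := by
  classical
  have hp := (inferInstance : Fact p.Prime)
  have he0 : 0 < e := by
    rcases Nat.eq_zero_or_pos e with h | h
    · exfalso
      have hq0 : (q : ZMod p) ≠ 0 := by rwa [Ne, ZMod.natCast_eq_zero_iff]
      have := orderOf_dvd_of_pow_eq_one (ZMod.pow_card_sub_one_eq_one hq0)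
      rw [← he, h, zero_dvd_iff] at this
      have := hp.out.two_le
      omega
    · exact h
  have hcop : Nat.Coprime e p := by
    have hq0 : (q : ZMod p) ≠ 0 := by rwa [Ne, ZMod.natCast_eq_zero_iff]
    have h1 : e ∣ p - 1 := he ▸ orderOf_dvd_of_pow_eq_one (ZMod.pow_card_sub_one_eq_one hq0)
    refine ((hp.out.coprime_iff_not_dvd).2 fun hd => ?_).symm
    have h2 := Nat.le_of_dvd (by have := hp.out.two_le; omega) h1
    have h3 := Nat.le_of_dvd he0 hd
    omega
  -- the representation over the algebraic closure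
  let K := AlgebraicClosure F
  let ρ : ↥P →* Matrix (Fin n) (Fin n) K :=
    ((algebraMap F K).mapMatrix.toMonoidHom.comp (Units.coeHom (Matrix (Fin n) (Fin n) F))).comp
      P.subtype
  have hρi : Function.Injective ρ := by
    intro a b hab
    apply Subtype.ext
    apply Units.ext
    exact Matrix.map_injective (algebraMap F K).injective hab
  have hpK : (p : K) ≠ 0 := by
    intro h
    have hpF : (p : F) = 0 := by
      apply (algebraMap F K).injective
      rw [map_natCast, map_zero]; exact h
    have hqF : (q : F) = 0 := by rw [← hF]; exact FiniteField.cast_card_eq_zero F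
    have hco : Nat.Coprime p q := hp.out.coprime_iff_not_dvd.2 hpq
    have h1 := (Nat.isCoprime_iff_coprime.2 hco).map (Int.castRingHom F)
    simp [hpF, hqF] at h1
  -- maximal normal abelian subgroup
  obtain ⟨A, ⟨hAn, hAc⟩, hmax⟩ := Set.Finite.exists_maximal
    (s := {A : Subgroup ↥P | A.Normal ∧ IsMulCommutative A}) (Set.toFinite _)
    ⟨⊥, inferInstance, inferInstance⟩
  have hCA : Subgroup.centralizer (A : Set ↥P) = A :=
    CfsgLib.PGroup.centralizer_eq_of_maximal_normal_abelian hP A hAc
      fun B hBn hBc hAB => le_antisymm (hmax ⟨hBn, hBc⟩ hAB) hAB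
  have hcommA : ∀ a b : A, ρ a * ρ b = ρ b * ρ a := by
    intro a b
    rw [← map_mul, ← map_mul]
    exact congrArg (fun x : A => ρ x) (hAc.is_comm.comm a b)
  -- eigencharacters
  let Ω : Set (A → K) := {χ | ∃ v : Fin n → K, v ≠ 0 ∧ ∀ a : A, ρ a *ᵥ v = χ a • v}
  have hbound : ∀ (ι : Type _) [Fintype ι] (f : ι → A → K), (∀ i, f i ∈ Ω) → Function.Injective f →
      Fintype.card ι ≤ n := by
    intro ι _ f hf hinj
    choose v hv0 hv using hf
    exact CfsgLib.CrossChar.card_le_of_distinct_eigen (fun a : A => ρ a) f v hv0 hv hinj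
  have hfinΩ : Ω.Finite := by
    by_contra hinf
    obtain ⟨s, hs, hsc⟩ := Set.Infinite.exists_subset_card_eq hinf (n + 1)
    have h := hbound ↥s (fun i => i.1) (fun i => hs i.2) Subtype.val_injective
    simp [hsc] at h
  have := hfinΩ.fintype
  -- conjugation action
  let cA : ↥P → A → A := fun g a => ⟨g⁻¹ * a.1 * g, by simpa using hAn.conj_mem a.1 a.2 g⁻¹⟩
  have hcA : ∀ g h a, cA h (cA g a) = cA (g * h) a := by
    intro g h a
    apply Subtype.ext
    simp [cA, mul_assoc]
  have hmem : ∀ (g : ↥P) (χ : A → K), χ ∈ Ω → (fun a => χ (cA g a)) ∈ Ω := by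
    rintro g χ ⟨v, hv0, hv⟩
    refine ⟨ρ g *ᵥ v, fun h => hv0 ?_, fun a => ?_⟩
    · have h1 := congrArg (fun w => ρ g⁻¹ *ᵥ w) h
      rw [Matrix.mulVec_mulVec, ← map_mul, inv_mul_cancel, map_one, Matrix.one_mulVec,
        Matrix.mulVec_zero] at h1
      exact h1
    · show _ = χ (cA g a) • _
      rw [Matrix.mulVec_mulVec, ← map_mul,
        show (a : ↥P) * g = g * (cA g a : ↥P) by simp [cA, mul_assoc], map_mul,
        ← Matrix.mulVec_mulVec, hv, Matrix.mulVec_smul]
  let _ : MulAction ↥P Ω :=
    { smul := fun g χ => ⟨fun a => χ.1 (cA g a), hmem g χ.1 χ.2⟩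
      one_smul := fun χ => Subtype.ext (funext fun a => by
        show χ.1 (cA 1 a) = χ.1 a
        simp [cA])
      mul_smul := fun g h χ => Subtype.ext (funext fun a => by
        show χ.1 (cA (g * h) a) = χ.1 (cA h (cA g a))
        rw [hcA]) }
  have hsmul : ∀ (g : ↥P) (χ : Ω) (a : A), (g • χ).1 a = χ.1 (cA g a) := fun _ _ _ => rfl
  -- Frobenius
  let φ : K →ₐ[F] K := FiniteField.frobeniusAlgHom F K
  have hφmem : ∀ χ : A → K, χ ∈ Ω → (fun a => φ (χ a)) ∈ Ω := by
    rintro χ ⟨v, hv0, hv⟩
    refine ⟨φ ∘ v, fun h => hv0 (funext fun i => ?_), fun a => funext fun i => ?_⟩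
    · have h1 := congrFun h i
      simp only [Function.comp_apply, Pi.zero_apply, map_eq_zero] at h1
      exact h1
    · have h1 := congrArg φ (congrFun (hv a) i)
      simp only [Pi.smul_apply, smul_eq_mul, map_mul] at h1
      rw [Pi.smul_apply, smul_eq_mul, Function.comp_apply, ← h1]
      simp [Matrix.mulVec, dotProduct, ρ, map_sum, map_mul]
  let Φ : Ω → Ω := fun χ => ⟨fun a => φ (χ.1 a), hφmem _ χ.2⟩
  have hΦinj : Function.Injective Φ := fun x y h => Subtype.ext (funext fun a =>
    φ.toRingHom.injective (congrFun (congrArg Subtype.val h) a))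
  have hΦc : ∀ (g : ↥P) (χ : Ω), Φ (g • χ) = g • Φ χ := fun _ _ => rfl
  have hΦit : ∀ (t : ℕ) (g : ↥P) (χ : Ω), Φ^[t] (g • χ) = g • Φ^[t] χ := by
    intro t g χ
    induction t with
    | zero => rfl
    | succ t ih => rw [Function.iterate_succ_apply', Function.iterate_succ_apply', ih, hΦc]
  have hΦval : ∀ (t : ℕ) (χ : Ω) (a : A), (Φ^[t] χ).1 a = χ.1 a ^ q ^ t := by
    intro t χ a
    induction t with
    | zero => simp
    | succ t ih =>
      rw [Function.iterate_succ_apply']
      show φ ((Φ^[t] χ).1 a) = _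
      simp only [φ, ih, FiniteField.coe_frobeniusAlgHom, pow_succ, pow_mul, hF]
  -- the characters are multiplicative
  have hχone : ∀ χ : Ω, χ.1 1 = 1 := by
    intro χ
    obtain ⟨v, hv0, hv⟩ := χ.2
    apply smul_left_injective K hv0
    show χ.1 1 • v = (1 : K) • v
    rw [← hv]
    simp
  have hχmul : ∀ (χ : Ω) (a b : A), χ.1 (a * b) = χ.1 a * χ.1 b := by
    intro χ a b
    obtain ⟨v, hv0, hv⟩ := χ.2
    apply smul_left_injective K hv0
    show χ.1 (a * b) • v = (χ.1 a * χ.1 b) • v
    rw [← hv, Subgroup.coe_mul, map_mul, ← Matrix.mulVec_mulVec, hv, Matrix.mulVec_smul, hv,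
      smul_smul, mul_comm]
  have hχpow : ∀ (χ : Ω) (a : A) (k : ℕ), χ.1 (a ^ k) = χ.1 a ^ k := by
    intro χ a k
    induction k with
    | zero => simp [hχone]
    | succ k ih => rw [pow_succ, hχmul, ih, pow_succ]
  -- periods of Frobenius
  have hper : ∀ (χ : Ω) (a : A), χ.1 a ≠ 1 → ∀ t, Φ^[t] χ = χ → e ∣ t := by
    intro χ a ha t ht
    obtain ⟨k, hk⟩ := hP a.1
    have hk' : χ.1 a ^ p ^ k = 1 := by
      rw [← hχpow, show a ^ p ^ k = 1 from Subtype.ext (by simpa using hk), hχone]
    have hne0 : χ.1 a ≠ 0 := fun h => by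
      rw [h, zero_pow (pow_pos hp.out.pos k).ne'] at hk'
      exact zero_ne_one hk'
    obtain ⟨j, -, hj⟩ := (Nat.dvd_prime_pow hp.out).1 (orderOf_dvd_of_pow_eq_one hk')
    have hj0 : j ≠ 0 := fun h => ha (orderOf_eq_one_iff.1 (by rw [hj, h, pow_zero]))
    have h1 : χ.1 a ^ q ^ t = χ.1 a := by rw [← hΦval, ht]
    have hq1 : 1 ≤ q ^ t := Nat.one_le_pow _ _ (hF ▸ Fintype.card_pos)
    have h2 : χ.1 a ^ (q ^ t - 1) = 1 := by
      rw [← mul_left_inj' hne0, one_mul, ← pow_succ, Nat.sub_add_cancel hq1, h1]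
    have h3 : p ∣ q ^ t - 1 :=
      ((dvd_pow_self p hj0).trans (hj ▸ orderOf_dvd_of_pow_eq_one h2))
    rw [he]
    apply orderOf_dvd_of_pow_eq_one
    have h4 : ((q ^ t - 1 : ℕ) : ZMod p) = 0 := (ZMod.natCast_eq_zero_iff _ _).2 h3
    rw [Nat.cast_sub hq1, sub_eq_zero] at h4
    simpa using h4
  -- every orbit is small
  have horb : ∀ χ : Ω, ∃ m, (MulAction.stabilizer ↥P χ).index = p ^ m ∧ m ≤ Nat.log 2 (n / e) := by
    intro χ
    obtain ⟨m, hm⟩ := hP.index (MulAction.stabilizer ↥P χ)
    refine ⟨m, hm, ?_⟩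
    by_cases hχ : ∀ a, χ.1 a = 1
    · have htop : MulAction.stabilizer ↥P χ = ⊤ := eq_top_iff.2 fun g _ =>
        MulAction.mem_stabilizer_iff.2 (Subtype.ext (funext fun a => by rw [hsmul, hχ, hχ]))
      rw [htop, Subgroup.index_top] at hm
      rcases Nat.eq_zero_or_pos m with rfl | hm0
      · exact Nat.zero_le _
      · have := Nat.one_lt_pow hm0.ne' hp.out.one_lt
        omega
    · push Not at hχ
      obtain ⟨a, ha⟩ := hχ
      have key : ∀ (g : ↥P) (t : ℕ), Φ^[t] χ = g • χ → e ∣ t := by
        intro g t ht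
        obtain ⟨k, hk⟩ := hP g
        have hj : ∀ j : ℕ, Φ^[t * j] χ = g ^ j • χ := by
          intro j
          induction j with
          | zero => simp
          | succ j ih =>
            rw [Nat.mul_succ, Function.iterate_add_apply, ht, hΦit, ih, smul_smul, ← pow_succ']
        have h1 := hper χ a ha (t * p ^ k) (by rw [hj, hk, one_smul])
        exact (Nat.Coprime.pow_right k hcop).dvd_of_dvd_mul_right h1
      have key2 : ∀ (i j : ℕ) (ψ ψ' : Ω), ψ ∈ MulAction.orbit ↥P χ → ψ' ∈ MulAction.orbit ↥P χ →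
          i ≤ j → j < e → Φ^[i] ψ = Φ^[j] ψ' → i = j ∧ ψ = ψ' := by
        intro i j ψ ψ' hψ hψ' hij hje h
        obtain ⟨d, rfl⟩ := Nat.exists_eq_add_of_le hij
        rw [Function.iterate_add_apply] at h
        have h' := hΦinj.iterate i h
        obtain ⟨g, rfl⟩ := hψ
        obtain ⟨g', rfl⟩ := hψ'
        simp only [hΦit] at h'
        have hd : e ∣ d := key (g'⁻¹ * g) d (by rw [mul_smul, h', inv_smul_smul])
        have hd0 : d = 0 := Nat.eq_zero_of_dvd_of_lt hd (by omega)
        subst hd0
        refine ⟨rfl, ?_⟩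
        show g • χ = g' • χ
        simpa using h'
      let F' : Fin e × MulAction.orbit ↥P χ → (A → K) := fun x => (Φ^[x.1.1] x.2.1).1
      have hF' : Function.Injective F' := by
        rintro ⟨i, ψ, hψ⟩ ⟨j, ψ', hψ'⟩ h
        have h' : Φ^[i.1] ψ = Φ^[j.1] ψ' := Subtype.ext h
        rcases le_total i.1 j.1 with hij | hij
        · obtain ⟨h1, h2⟩ := key2 _ _ _ _ hψ hψ' hij j.2 h'
          simp [Fin.ext h1, h2]
        · obtain ⟨h1, h2⟩ := key2 _ _ _ _ hψ' hψ hij i.2 h'.symm
          simp [Fin.ext h1, h2]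
      have h1 := hbound _ F' (fun x => (Φ^[x.1.1] x.2.1).2) hF'
      rw [Fintype.card_prod, Fintype.card_fin, ← Nat.card_eq_fintype_card,
        Nat.card_coe_set_eq, ← MulAction.index_stabilizer, hm] at h1
      apply Nat.le_log_of_pow_le Nat.one_lt_two
      rw [Nat.le_div_iff_mul_le he0]
      calc 2 ^ m * e ≤ p ^ m * e := Nat.mul_le_mul_right _ (Nat.pow_le_pow_left hp.out.two_le m)
        _ ≤ n := by rw [mul_comm]; exact h1
  -- intersection of the stabilisers
  have hker : ∀ g : ↥P, (∀ χ : Ω, g • χ = χ) → g ∈ A := by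
    intro g hg
    rw [← hCA, Subgroup.mem_centralizer_iff]
    intro a ha
    set a' : A := ⟨a, ha⟩
    set c : A := a'⁻¹ * cA g a' with hc
    have hone : ρ c = 1 := by
      obtain ⟨k, hk⟩ := hP c.1
      have heig := eq_one_of_eigen (Matrix.toLinAlgEquiv' (ρ c)) (p ^ k)
        (by rw [Nat.cast_pow]; exact pow_ne_zero _ hpK)
        (by rw [← map_pow, ← map_pow, hk, map_one, map_one]) ?_
      · exact Matrix.toLinAlgEquiv'.injective (by rw [heig, map_one])
      intro μ hμ
      obtain ⟨v, hvW, hv0, hv⟩ := CfsgLib.CrossChar.exists_common_eigen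
        (fun b : A => Matrix.toLinAlgEquiv' (ρ b))
        (fun b b' => by
          rw [← map_mul Matrix.toLinAlgEquiv', hcommA b b', map_mul]) _
        (Module.End.eigenspace (Matrix.toLinAlgEquiv' (ρ c)) μ) rfl hμ
        (fun b x hx => by
          rw [Module.End.mem_eigenspace_iff] at hx ⊢
          rw [← Module.End.mul_apply, ← map_mul Matrix.toLinAlgEquiv', hcommA, map_mul,
            Module.End.mul_apply, hx, map_smul])
      choose ν hν using hv
      have hνv : ∀ b : A, ρ b *ᵥ v = ν b • v := fun b => by simpa using hν b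
      have h2 := hg ⟨ν, v, hv0, hνv⟩
      have h3 : ν (cA g a') = ν a' := congrFun (congrArg Subtype.val h2) a'
      have h4 : ν c = 1 := by
        have hm := hχmul ⟨ν, v, hv0, hνv⟩ a' c
        simp only [hc, mul_inv_cancel_left] at hm
        rw [h3] at hm
        have hne : ν a' ≠ 0 := fun h0 => by
          have hm1 := hχmul ⟨ν, v, hv0, hνv⟩ a' a'⁻¹
          simp only [mul_inv_cancel, h0, zero_mul] at hm1
          exact zero_ne_one (hm1.symm.trans (hχone ⟨ν, v, hv0, hνv⟩))
        exact (mul_eq_left₀ hne).1 hm.symm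
      rw [Module.End.mem_eigenspace_iff, hν, h4] at hvW
      exact (smul_left_injective K hv0 hvW).symm
    have hc1 : (c : ↥P) = 1 := hρi (by rw [hone, map_one])
    have h5 : a'⁻¹.1 * (g⁻¹ * a * g) = 1 := hc1
    have h6 : a⁻¹ * (g⁻¹ * a * g) = 1 := h5
    rw [inv_mul_eq_one] at h6
    calc a * g = g * (g⁻¹ * a * g) := by group
      _ = g * a := by rw [← h6]
  -- conclusion
  have hL : derivedSeries ↥P (Nat.log 2 (n / e)) ≤ A := by
    intro g hg
    apply hker
    intro χ
    obtain ⟨m, hm, hmL⟩ := horb χ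
    exact MulAction.mem_stabilizer_iff.1
      (derivedSeries_le_of_index hP m _ hm (derivedSeries_antitone ↥P hmL hg))
  rw [derivedSeries_succ, eq_bot_iff]
  refine le_trans (Subgroup.commutator_mono hL hL) ?_
  rw [← eq_bot_iff, Subgroup.commutator_eq_bot_iff_le_centralizer, hCA]

end Cfsg.Agent.S4417
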