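import Cfsg.Statements.S0962
import Cfsg.Agent.Lib.Blocks.Defect

set_option autoImplicit false
set_option maxHeartbeats 1000000
set_option synthInstance.maxHeartbeats 400000
open Cfsg

namespace Cfsg.Agent.S0962

/-- Fix a maximal ideal M of the algebraic integers containing the prime p and a natural number d. The number of blocks of the finite group G of defect at least d is at most the number of conjugacy classes of p-regular elements of G of defect at least d, where the defect of a class is the exponent of p in the order of the centralizer of any of its elements. -/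
theorem result {G : Type*} [Group G] [Finite G] (p : ℕ) [Fact p.Prime] (M : Ideal Cfsg.AlgInt) (hM : Cfsg.IsPModular p M) (d : ℕ) : Nat.card {B : Set (Cfsg.IrrCharacter G) // Cfsg.IsPBlock M B ∧ d ≤ Cfsg.blockDefect p B} ≤ Nat.card {C : ConjClasses G // ∃ g : G, ConjClasses.mk g = C ∧ Cfsg.IsPRegular p g ∧ d ≤ (Nat.card (Subgroup.centralizer ({g} : Set G))).factorization p} := by
  classical
  haveI := hM.2.1
  haveI := Fintype.ofFinite G
  set F := CfsgLib.Blocks.ResField M
  set I := {B : Set (IrrCharacter G) // IsPBlock M B ∧ d ≤ blockDefect p B} with hI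
  set J := {C : ConjClasses G // ∃ g : G, ConjClasses.mk g = C ∧ IsPRegular p g ∧
    d ≤ (Nat.card (Subgroup.centralizer ({g} : Set G))).factorization p} with hJ
  haveI : Fintype I := Fintype.ofFinite _
  haveI : Fintype J := Fintype.ofFinite _
  choose χ hχ using fun B : I => CfsgLib.BlockReg.block_nonempty hM B.2.1
  let w : I → J → F := fun B C => CfsgLib.Blocks.red M (CfsgLib.Blocks.centralR M (χ B) C.1.out)
  let Φ : (J → F) →ₗ[F] (I → F) :=
    { toFun := fun x B => ∑ C, w B C * x C
      map_add' := fun x y => by funext B; simp [mul_add, Finset.sum_add_distrib]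
      map_smul' := fun r x => funext fun B => by
        show ∑ C, w B C * (r * x C) = r * ∑ C, w B C * x C
        rw [Finset.mul_sum]
        exact Finset.sum_congr rfl fun C _ => mul_left_comm (w B C) r (x C) }
  have hdelta : ∀ B : I, Φ (fun C => (CfsgLib.Blocks.blockIdem B.2.1 :
      MonoidAlgebra F G).coeff C.1.out) = Pi.single B 1 := by
    intro B
    funext B'
    show ∑ C : J, w B' C * _ = _
    have h := CfsgLib.Blocks.lam_blockIdem B.2.1 (χ B')
    rw [CfsgLib.Blocks.lam_apply, CfsgLib.Blocks.classEval] at h
    have hind : (CfsgLib.Blocks.blockInd (B.1) (χ B') : F) = (Pi.single B 1 : I → F) B' := by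
      by_cases hBB : B' = B
      · subst hBB
        rw [CfsgLib.Blocks.blockInd, if_pos (hχ B'), Pi.single_eq_same]
      · rw [CfsgLib.Blocks.blockInd, if_neg, Pi.single_eq_of_ne hBB]
        intro hmem
        exact hBB (Subtype.ext (CfsgLib.Blocks.IsPBlock.eq_of_mem B'.2.1 B.2.1 (hχ B') hmem))
    rw [← hind, ← h]
    refine Finset.sum_bij_ne_zero (fun C _ _ => C.1) (fun _ _ _ => Finset.mem_univ _)
      (fun _ _ _ _ _ _ h => Subtype.ext h) ?_ (fun C _ _ => mul_comm _ _)
    intro C _ hne
    obtain ⟨h1, h2⟩ := mul_ne_zero_iff.1 hne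
    have hreg : ¬ p ∣ orderOf C.out := fun hs => h1 (by
      rw [CfsgLib.Blocks.coeff_blockIdem_eq_zero_iff B.2.1,
        CfsgLib.BlockReg.blockCoeff_singular hM B.2.1 _ hs]
      exact CfsgLib.BlockReg.memIdeal_zero hM)
    have hdef : d ≤ (Nat.card (Subgroup.centralizer ({C.out} : Set G))).factorization p := by
      have hc : ¬ MemLocalIdeal M (centralChar (χ B' : G → ℂ) C.out) := by
        rwa [Ne, CfsgLib.Blocks.red_eq_zero] at h2
      have h3 := CfsgLib.BlockReg.factorization_csize_le hM B'.2.1 (hχ B') hc
      have h4 := B'.2.2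
      rw [CfsgLib.BlockReg.blockDefect_eq, ← CfsgLib.BlockReg.csize_mul_card C.out,
        Nat.factorization_mul Nat.card_pos.ne' (CfsgLib.BlockReg.csize_ne_zero _),
        Finsupp.add_apply] at h4
      omega
    exact ⟨⟨C, C.out, Quotient.out_eq C, hreg, hdef⟩, Finset.mem_univ _,
      by rwa [mul_comm], rfl⟩
  have hsurj : Function.Surjective Φ := by
    intro y
    refine ⟨∑ B, y B • fun C : J => (CfsgLib.Blocks.blockIdem B.2.1 :
      MonoidAlgebra F G).coeff C.1.out, ?_⟩
    rw [map_sum, Finset.sum_congr rfl (fun B _ => by rw [map_smul, hdelta B])]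
    funext B'
    rw [Finset.sum_apply, Finset.sum_eq_single B']
    · simp
    · intro x _ hx
      simp [Pi.single_eq_of_ne hx.symm]
    · simp
  have hrank := LinearMap.finrank_le_finrank_of_surjective hsurj
  rwa [Module.finrank_fintype_fun_eq_card, Module.finrank_fintype_fun_eq_card,
    ← Nat.card_eq_fintype_card, ← Nat.card_eq_fintype_card] at hrank

end Cfsg.Agent.S0962
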