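import Cfsg.Statements.S0738
import Mathlib.GroupTheory.SchurZassenhaus
import Mathlib.GroupTheory.PGroup
import Mathlib.GroupTheory.Sylow
import Mathlib.GroupTheory.Complement
import Cfsg.Agent.Lib.CharDeep.Zassenhaus

set_option autoImplicit false
open Cfsg

namespace Cfsg.Agent.S0738

open MulAction CfsgLib.CharDeep

variable {G Ω : Type*} [Group G] [MulAction G Ω]

/-- A group acting semiregularly by conjugation on the non-trivial part of `E`. -/
theorem card_dvd [Finite G] (L E : Subgroup G) (hinv : ∀ l ∈ L, ∀ x ∈ E, l * x * l⁻¹ ∈ E)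
    (hfree : ∀ l ∈ L, ∀ x ∈ E, x ≠ 1 → l * x * l⁻¹ = x → l = 1) :
    Nat.card L ∣ Nat.card E - 1 := by
  classical
  haveI := Fintype.ofFinite E
  letI act : MulAction L {x : E // x ≠ 1} :=
    { smul := fun l x => ⟨⟨(l : G) * (x.1 : G) * (l : G)⁻¹, hinv l l.2 _ x.1.2⟩, fun h => x.2 (Subtype.ext (by
        simpa [mul_inv_eq_one] using congrArg Subtype.val h))⟩
      one_smul := fun x => Subtype.ext (Subtype.ext (show (1 : G) * (x.1 : G) * (1 : G)⁻¹ = x.1 by simp))
      mul_smul := fun l m x => Subtype.ext (Subtype.ext (show ((l : G) * m) * (x.1 : G) * ((l : G) * m)⁻¹ =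
        (l : G) * ((m : G) * (x.1 : G) * (m : G)⁻¹) * (l : G)⁻¹ by simp [mul_assoc])) }
  have hc : Nat.card {x : E // x ≠ 1} = Nat.card E - 1 := by
    rw [Nat.card_eq_fintype_card, Fintype.card_subtype_compl, Fintype.card_subtype_eq, Nat.card_eq_fintype_card]
  haveI := Fintype.ofFinite (Quotient (orbitRel L {x : E // x ≠ 1}))
  rw [← hc, Nat.card_congr (selfEquivSigmaOrbits L {x : E // x ≠ 1}), Nat.card_sigma]
  refine Finset.dvd_sum fun ω _ => ?_
  have h1 : stabilizer L (Quotient.out ω : {x : E // x ≠ 1}) = ⊥ := by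
    refine (Subgroup.eq_bot_iff_forall _).2 fun l hl => Subtype.ext ?_
    exact hfree l l.2 _ (Quotient.out ω : {x : E // x ≠ 1}).1.2
      (fun h => (Quotient.out ω : {x : E // x ≠ 1}).2 (Subtype.ext h))
      (congrArg (fun z : {x : E // x ≠ 1} => ((z.1 : E) : G)) hl)
  rw [Nat.card_coe_set_eq, ← index_stabilizer, h1, Subgroup.index_bot]


/-- Let a finite Zassenhaus group of degree `n + 1` have two-point stabilisers of order `d` with `2d ≥ n - 1`. Then a normal subgroup of a point stabiliser acting regularly on the remaining points is elementary abelian, and the degree is a prime power plus one. -/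
theorem result {G Ω : Type*} [Group G] [Finite G] [MulAction G Ω] [Fintype Ω] (hZ : Cfsg.IsZassenhausGroup G Ω) {a b : Ω} (hab : a ≠ b) (hd : Fintype.card Ω - 2 ≤ 2 * Nat.card ↥(MulAction.stabilizer G a ⊓ MulAction.stabilizer G b)) (F : Subgroup G) (hFle : F ≤ MulAction.stabilizer G a) (hFn : (F.subgroupOf (MulAction.stabilizer G a)).Normal) (hreg : ∀ y z : Ω, y ≠ a → z ≠ a → ∃! u : F, (u : G) • y = z) : IsMulCommutative F ∧ ∃ p f : ℕ, p.Prime ∧ (∀ u ∈ F, u ^ p = 1) ∧ Fintype.card Ω = p ^ f + 1 := by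
  classical
  haveI := hZ.1
  have h3 := Zas.three_le_card hZ
  set H := stabilizer G a ⊓ stabilizer G b with hH
  have hFfix : ∀ u ∈ F, u ≠ 1 → ∀ c : Ω, u • c = c → c = a := by
    intro u hu hu1 c hc
    by_contra hca
    obtain ⟨v, -, hv⟩ := hreg c c hca hca
    have e1 := hv ⟨u, hu⟩ hc
    have e2 := hv 1 (one_smul G c)
    exact hu1 (congrArg Subtype.val (e1.trans e2.symm))
  have hbij : Nat.card F = Nat.card {z : Ω // z ≠ a} := by
    refine Nat.card_congr (Equiv.ofBijective (fun u : F => (⟨(u : G) • b, fun h => hab ?_⟩ : {z : Ω // z ≠ a})) ⟨?_, ?_⟩)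
    · exact (MulAction.injective (u : G) (h.trans (mem_stabilizer_iff.1 (hFle u.2)).symm)).symm
    · intro u v h
      obtain ⟨w, -, hw⟩ := hreg b ((u : G) • b) hab.symm (fun h => hab ((MulAction.injective (u : G)
        (h.trans (mem_stabilizer_iff.1 (hFle u.2)).symm)).symm))
      exact (hw u rfl).trans (hw v (congrArg Subtype.val h).symm).symm
    · intro z
      obtain ⟨u, hu, -⟩ := hreg b z hab.symm z.2
      exact ⟨u, Subtype.ext hu⟩
  have hFc : Nat.card F + 1 = Fintype.card Ω := by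
    rw [hbij, Nat.card_eq_fintype_card, Fintype.card_subtype_compl, Fintype.card_subtype_eq]
    omega
  -- fixing a further point makes conjugation on `F` fixed-point free
  have hfree : ∀ l : G, l • a = a → ∀ c, c ≠ a → l • c = c → ∀ x ∈ F, x ≠ 1 → l * x * l⁻¹ = x → l = 1 := by
    intro l la c hca lc x hx hx1 hlx
    by_contra hl
    have e : l • (x • c) = x • c := by
      rw [← mul_smul, mul_inv_eq_iff_eq_mul.1 hlx, mul_smul, lc]
    rcases Zas.three_fix hZ hca.symm hl la lc e with h | h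
    · exact hca (MulAction.injective x (h.trans (mem_stabilizer_iff.1 (hFle hx)).symm))
    · exact hca (hFfix x hx hx1 c h)
  have hnorm : ∀ g : G, g • a = a → ∀ x ∈ F, g * x * g⁻¹ ∈ F := fun g hg x hx =>
    hFn.conj_mem ⟨x, hFle hx⟩ hx ⟨g, hg⟩
  have hHdvd : Nat.card H ∣ Nat.card F - 1 :=
    card_dvd H F (fun l hl => hnorm l hl.1) (fun l hl => hfree l hl.1 b hab.symm hl.2)
  have hH2 : 2 ≤ Nat.card H := by
    obtain ⟨g, hg1, hga, hgb⟩ := Zas.exists_two_fix hZ hab
    haveI : Nontrivial H := ⟨⟨⟨g, hga, hgb⟩, 1, fun h => hg1 (congrArg Subtype.val h)⟩⟩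
    exact Finite.one_lt_card
  -- a large invariant subgroup of `F` is the whole of it
  have big : ∀ E : Subgroup G, E ≤ F → E ≠ ⊥ → Nat.card H ∣ Nat.card E - 1 → E = F := by
    intro E hEF hE hdvd
    have hpos : 1 < Nat.card E := (Subgroup.one_lt_card_iff_ne_bot E).2 hE
    have h1 := Nat.le_of_dvd (by omega) hdvd
    obtain ⟨c, hc⟩ := Subgroup.card_dvd_of_le hEF
    have hc1 : c = 1 := by
      by_contra hne
      have : 2 ≤ c := by
        rcases Nat.eq_zero_or_pos c with rfl | h
        · rw [mul_zero] at hc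
          exact absurd hc Nat.card_pos.ne'
        · omega
      have := Nat.mul_le_mul_left (Nat.card E) this
      omega
    exact Subgroup.eq_of_le_of_card_ge hEF (by rw [hc, hc1, mul_one])
  -- `F` is a `p`-group
  obtain ⟨p, hp, hpd⟩ := Nat.exists_prime_and_dvd (n := Nat.card F) (by omega)
  haveI := Fact.mk hp
  set A := stabilizer G a with hA
  let F' : Subgroup A := F.subgroupOf A
  haveI : F'.Normal := hFn
  have hF'c : Nat.card F' = Nat.card F := Nat.card_congr (Subgroup.subgroupOfEquivOfLe hFle).toEquiv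
  have hAc : Nat.card A = Nat.card F * Nat.card H := by
    rw [hA, Zas.card_stabilizer hZ hab.symm, ← hFc, Nat.add_sub_cancel]
  have hidx : F'.index = Nat.card H := by
    have := F'.index_mul_card
    rw [hF'c, hAc, mul_comm (Nat.card F)] at this
    exact Nat.eq_of_mul_eq_mul_right Nat.card_pos this
  have hcop : Nat.Coprime (Nat.card F) (Nat.card H) := by
    apply Nat.coprime_of_dvd
    intro k hk hkF hkH
    have := Nat.dvd_sub hkF (hkH.trans hHdvd)
    rw [show Nat.card F - (Nat.card F - 1) = 1 by omega] at this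
    exact hk.not_dvd_one this
  obtain ⟨P⟩ : Nonempty (Sylow p F') := inferInstance
  let Q : Subgroup A := (P : Subgroup F').map F'.subtype
  let N : Subgroup A := Subgroup.normalizer (Q : Set A)
  have hsup : N ⊔ F' = ⊤ := P.normalizer_sup_eq_top
  let M : Subgroup N := F'.subgroupOf N
  have hM : M.index = Nat.card H := by
    show F'.relIndex N = _
    rw [← Subgroup.relIndex_sup_right, hsup, Subgroup.relIndex_top_right, hidx]
  have hMc : Nat.card M ∣ Nat.card F := by
    rw [← hF'c]
    exact Subgroup.card_dvd_of_injective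
      (⟨⟨fun m => (⟨((m : N) : A), m.2⟩ : F'), rfl⟩, fun _ _ => rfl⟩ : M →* F')
      (fun m m' h => Subtype.ext (Subtype.ext (congrArg (fun z : F' => (z : A)) h)))
  haveI : M.Normal := Subgroup.normal_subgroupOf
  obtain ⟨L, hL⟩ := Subgroup.exists_right_complement'_of_coprime (N := M)
    (by rw [hM]; exact Nat.Coprime.coprime_dvd_left hMc hcop)
  have hLc : Nat.card L = Nat.card H := by
    rw [← hM]; exact (hL.symm.index_eq_card).symm
  let L' : Subgroup G := (L.map N.subtype).map A.subtype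
  have hL'c : Nat.card L' = Nat.card H := by
    rw [Subgroup.card_map_of_injective A.subtype_injective, Subgroup.card_map_of_injective N.subtype_injective, hLc]
  let Q' : Subgroup G := Q.map A.subtype
  have hQF : Q' ≤ F := by
    rintro _ ⟨_, ⟨x, -, rfl⟩, rfl⟩
    exact x.2
  have hQc : Nat.card Q' = Nat.card P := by
    rw [Subgroup.card_map_of_injective A.subtype_injective, Subgroup.card_map_of_injective F'.subtype_injective]
  have hQdvd : Nat.card H ∣ Nat.card Q' - 1 := by
    rw [← hL'c]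
    refine card_dvd L' Q' ?_ ?_
    · rintro _ ⟨_, ⟨l, -, rfl⟩, rfl⟩ _ ⟨x, hx, rfl⟩
      exact ⟨(l : A) * x * (l : A)⁻¹, (Subgroup.mem_normalizer_iff.1 l.2 x).1 hx, rfl⟩
    · intro l hl x hx hx1 hlx
      by_contra hl1
      obtain ⟨_, ⟨l0, hl0, rfl⟩, rfl⟩ := hl
      have la : ((l0 : A) : G) • a = a := (l0 : A).2
      by_cases hfx : ∀ c : Ω, ((l0 : A) : G) • c = c → c = a
      · have hm : ((l0 : A) : G) ∈ F := Zas.mem_kernel hZ a F hFle hFc hFfix la hfx
        have : l0 ∈ M := hm
        have h1 : l0 ∈ M ⊓ L := ⟨this, hl0⟩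
        rw [hL.disjoint.eq_bot, Subgroup.mem_bot] at h1
        exact hl1 (by rw [h1]; rfl)
      · push Not at hfx
        obtain ⟨c, hc, hca⟩ := hfx
        exact hl1 (hfree _ la c hca hc x (hQF hx) hx1 hlx)
  have hQne : Q' ≠ ⊥ := by
    rw [← Subgroup.one_lt_card_iff_ne_bot, hQc, Subgroup.one_lt_card_iff_ne_bot]
    exact P.ne_bot_of_dvd_card (hF'c.symm ▸ hpd)
  have hFP : IsPGroup p F := by
    rw [← big Q' hQF hQne hQdvd]
    exact (P.isPGroup'.map _).map _
  haveI : Nontrivial F := (Subgroup.nontrivial_iff_ne_bot F).2 (by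
    rw [← Subgroup.one_lt_card_iff_ne_bot]; omega)
  -- elements of order `p` in the centre
  let E : Subgroup G :=
    { carrier := {x | x ∈ F ∧ x ^ p = 1 ∧ ∀ y ∈ F, y * x = x * y}
      one_mem' := ⟨F.one_mem, one_pow p, fun y _ => by simp⟩
      mul_mem' := fun {x y} hx hy => ⟨F.mul_mem hx.1 hy.1,
        by rw [Commute.mul_pow (hy.2.2 x hx.1), hx.2.1, hy.2.1, one_mul],
        fun z hz => by rw [← mul_assoc, hx.2.2 z hz, mul_assoc, hy.2.2 z hz, mul_assoc]⟩
      inv_mem' := fun {x} hx => ⟨F.inv_mem hx.1, by rw [inv_pow, hx.2.1, inv_one],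
        fun z hz => (Commute.inv_right (hx.2.2 z hz))⟩ }
  have hEne : E ≠ ⊥ := by
    haveI := hFP.center_nontrivial
    have hpc : IsPGroup p (Subgroup.center F) := hFP.to_subgroup _
    obtain ⟨x, hx⟩ := exists_prime_orderOf_dvd_card' (G := Subgroup.center F) p (by
      obtain ⟨k, hk⟩ := IsPGroup.iff_card.1 hpc
      rw [hk]
      refine dvd_pow_self p fun h0 => ?_
      rw [h0, pow_zero] at hk
      exact absurd hk (Finite.one_lt_card).ne')
    intro hb
    have hm : ((x : F) : G) ∈ E := ⟨(x : F).2, by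
      have e : x ^ p = 1 := by rw [← hx, pow_orderOf_eq_one]
      exact congrArg (fun z : Subgroup.center F => ((z : F) : G)) e,
      fun y hy => congrArg Subtype.val (Subgroup.mem_center_iff.1 x.2 ⟨y, hy⟩)⟩
    rw [hb, Subgroup.mem_bot] at hm
    have : x = 1 := Subtype.ext (Subtype.ext hm)
    rw [this, orderOf_one] at hx
    exact hp.ne_one hx.symm
  have hEF : E = F := by
    refine big E (fun x hx => hx.1) hEne (card_dvd H E ?_ ?_)
    · intro l hl x hx
      refine ⟨hnorm l hl.1 x hx.1, by rw [conj_pow, hx.2.1, mul_one, mul_inv_cancel], fun y hy => ?_⟩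
      have := hx.2.2 (l⁻¹ * y * l) (by simpa using hnorm l⁻¹ ((stabilizer G a).inv_mem hl.1) y hy)
      have := congrArg (fun w => l * w * l⁻¹) this
      simpa [mul_assoc] using this
    · exact fun l hl x hx => hfree l hl.1 b hab.symm hl.2 x hx.1
  obtain ⟨f, hf⟩ := IsPGroup.iff_card.1 hFP
  refine ⟨⟨⟨fun x y => Subtype.ext ?_⟩⟩, p, f, hp, fun u hu => ?_, by rw [← hFc, hf]⟩
  · exact ((hEF.ge y.2).2.2 _ x.2)
  · exact (hEF.ge hu).2.1

end Cfsg.Agent.S0738
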