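import Cfsg.Statements.S0741
import Mathlib.Combinatorics.Enumerative.DoubleCounting
import Mathlib.GroupTheory.Perm.Cycle.Type
import Cfsg.Agent.Lib.CharDeep.Zassenhaus

set_option autoImplicit false
open Cfsg

namespace Cfsg.Agent.S0741

open MulAction CfsgLib.CharDeep


/-- If the two-point stabilisers of a finite Zassenhaus group of degree `n + 1` have even order `d`, then `2d ≥ n - 1`. -/
theorem result {G Ω : Type*} [Group G] [Finite G] [MulAction G Ω] [Fintype Ω] (hZ : Cfsg.IsZassenhausGroup G Ω) {a b : Ω} (hab : a ≠ b) (heven : Even (Nat.card ↥(MulAction.stabilizer G a ⊓ MulAction.stabilizer G b))) : Fintype.card Ω - 2 ≤ 2 * Nat.card ↥(MulAction.stabilizer G a ⊓ MulAction.stabilizer G b) := by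
  classical
  haveI := hZ.1
  haveI : Fact (Nat.Prime 2) := ⟨Nat.prime_two⟩
  haveI := Fintype.ofFinite G
  obtain ⟨t0, ht0⟩ := exists_prime_orderOf_dvd_card' 2 heven.two_dvd
  have h20 : orderOf (t0 : G) = 2 := by rw [Subgroup.orderOf_coe, ht0]
  let E : Finset (Ω × Ω) := Finset.univ.filter (fun e => e.1 ≠ e.2)
  let T : Finset G := Finset.univ.filter (fun t => orderOf t = 2 ∧ ∃ c d : Ω, c ≠ d ∧ t • c = c ∧ t • d = d)
  -- each pair is exchanged by at most `|G_ab|` elements
  have hA : ∀ e ∈ E, (Finset.bipartiteBelow (fun (t : G) (e : Ω × Ω) => t • e.1 = e.2 ∧ t • e.2 = e.1) T e).card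
      ≤ Nat.card ↥(stabilizer G a ⊓ stabilizer G b) := by
    intro e he
    simp only [E, Finset.mem_filter, Finset.mem_univ, true_and] at he
    obtain ⟨g, g1, g2⟩ := Zas.two_trans hZ hab he
    obtain ⟨s0, s1, s2⟩ := Zas.two_trans hZ he (Ne.symm he)
    refine le_of_le_of_eq (Finset.card_le_card_of_injOn (fun s => g⁻¹ * (s0 * s) * g)
      (t := Finset.univ.filter (fun x => x ∈ stabilizer G a ⊓ stabilizer G b)) ?_ ?_) ?_
    · intro s hs
      simp only [Finset.coe_filter, Finset.mem_univ, true_and, Set.mem_setOf_eq, Finset.mem_coe,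
        Finset.mem_bipartiteBelow, Subgroup.mem_inf, mem_stabilizer_iff] at hs ⊢
      refine ⟨?_, ?_⟩ <;> simp [mul_smul, g1, g2, hs.2.1, hs.2.2, s1, s2, inv_smul_eq_iff]
    · intro x _ y _ h
      simpa using h
    · rw [Nat.card_eq_fintype_card, Fintype.card_subtype]
  -- every involution with two fixed points moves all others
  have hB : ∀ t ∈ T, (Finset.bipartiteAbove (fun (t : G) (e : Ω × Ω) => t • e.1 = e.2 ∧ t • e.2 = e.1) E t).card
      = Fintype.card Ω - 2 := by
    intro t ht
    simp only [T, Finset.mem_filter, Finset.mem_univ, true_and] at ht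
    obtain ⟨hto, c, d, hcd, hc, hd⟩ := ht
    have tt : t * t = 1 := by rw [← pow_two, ← hto, pow_orderOf_eq_one]
    have ht1 : t ≠ 1 := fun h => by rw [h, orderOf_one] at hto; omega
    have hm : ∀ x : Ω, t • x ≠ x ↔ x ≠ c ∧ x ≠ d := by
      intro x
      constructor
      · intro h; exact ⟨fun e => h (e ▸ hc), fun e => h (e ▸ hd)⟩
      · intro h e
        rcases Zas.three_fix hZ hcd ht1 hc hd e with h' | h'
        exacts [h.1 h', h.2 h']
    have hset : Finset.bipartiteAbove (fun (t : G) (e : Ω × Ω) => t • e.1 = e.2 ∧ t • e.2 = e.1) E t =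
        ((Finset.univ.erase c).erase d).image (fun x => (x, t • x)) := by
      ext ⟨x, y⟩
      simp only [Finset.mem_bipartiteAbove, E, Finset.mem_filter, Finset.mem_univ, true_and, Finset.mem_image,
        Finset.mem_erase, and_true, Prod.mk.injEq]
      constructor
      · rintro ⟨hne, h1, h2⟩
        obtain ⟨q1, q2⟩ := (hm x).1 (fun e => hne (e.symm.trans h1))
        exact ⟨x, ⟨q2, q1⟩, rfl, h1⟩
      · rintro ⟨z, ⟨z1, z2⟩, rfl, rfl⟩
        exact ⟨Ne.symm ((hm z).2 ⟨z2, z1⟩), rfl, by rw [← mul_smul, tt, one_smul]⟩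
    rw [hset, Finset.card_image_of_injective _ (fun x y h => congrArg Prod.fst h),
      Finset.card_erase_of_mem (by simp [hcd.symm]), Finset.card_erase_of_mem (Finset.mem_univ c), Finset.card_univ]
    rfl
  -- every pair is the fixed-point set of some involution
  have hC : E.card ≤ 2 * T.card := by
    have key := Finset.card_mul_le_card_mul' (r := fun (t : G) (e : Ω × Ω) => t • e.1 = e.1 ∧ t • e.2 = e.2)
      (s := T) (t := E) (n := 1) (m := 2) ?_ ?_
    · simpa [mul_comm] using key
    · intro e he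
      simp only [E, Finset.mem_filter, Finset.mem_univ, true_and] at he
      obtain ⟨g, g1, g2⟩ := Zas.two_trans hZ hab he
      refine Finset.card_pos.2 ⟨g * t0 * g⁻¹, ?_⟩
      have f1 : (g * t0 * g⁻¹) • e.1 = e.1 := by
        rw [← g1, mul_smul, mul_smul, inv_smul_smul]; exact congrArg (g • ·) t0.2.1
      have f2 : (g * t0 * g⁻¹) • e.2 = e.2 := by
        rw [← g2, mul_smul, mul_smul, inv_smul_smul]; exact congrArg (g • ·) t0.2.2
      simp only [Finset.mem_bipartiteBelow, T, Finset.mem_filter, Finset.mem_univ, true_and]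
      refine ⟨⟨?_, e.1, e.2, he, f1, f2⟩, f1, f2⟩
      rw [← h20]
      exact orderOf_injective (MulAut.conj g).toMonoidHom (MulAut.conj g).injective _
    · intro t ht
      simp only [T, Finset.mem_filter, Finset.mem_univ, true_and] at ht
      obtain ⟨hto, c, d, hcd, hc, hd⟩ := ht
      have ht1 : t ≠ 1 := fun h => by rw [h, orderOf_one] at hto; omega
      refine le_trans (Finset.card_le_card (t := {(c, d), (d, c)}) ?_) Finset.card_le_two
      rintro ⟨x, y⟩ he
      simp only [Finset.mem_bipartiteAbove, E, Finset.mem_filter, Finset.mem_univ, true_and] at he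
      simp only [Finset.mem_insert, Finset.mem_singleton, Prod.mk.injEq]
      rcases Zas.three_fix hZ hcd ht1 hc hd he.2.1 with h | h <;>
        rcases Zas.three_fix hZ hcd ht1 hc hd he.2.2 with h' | h'
      · exact absurd (h.trans h'.symm) he.1
      · exact Or.inl ⟨h, h'⟩
      · exact Or.inr ⟨h, h'⟩
      · exact absurd (h.trans h'.symm) he.1
  have hsum := Finset.sum_card_bipartiteAbove_eq_sum_card_bipartiteBelow
    (r := fun (t : G) (e : Ω × Ω) => t • e.1 = e.2 ∧ t • e.2 = e.1) (s := T) (t := E)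
  rw [Finset.sum_const_nat hB] at hsum
  have hle : T.card * (Fintype.card Ω - 2) ≤ E.card * Nat.card ↥(stabilizer G a ⊓ stabilizer G b) := by
    rw [hsum]
    exact le_trans (Finset.sum_le_card_nsmul _ _ _ hA) (by simp)
  have hTpos : 0 < T.card := by
    have : 0 < E.card := Finset.card_pos.2 ⟨(a, b), by simp [E, hab]⟩
    omega
  have hle2 : T.card * (Fintype.card Ω - 2) ≤ T.card * (2 * Nat.card ↥(stabilizer G a ⊓ stabilizer G b)) := by
    refine hle.trans (le_of_le_of_eq (Nat.mul_le_mul_right _ hC) ?_)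
    ring
  exact Nat.le_of_mul_le_mul_left hle2 hTpos

end Cfsg.Agent.S0741
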