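import Cfsg.Statements.S0742
import Cfsg.Agent.Lib.ZassPSL.Main
import Cfsg.Agent.Lib.Zass.Counting
import Cfsg.Agent.S0741
import Cfsg.Agent.S0738

set_option autoImplicit false
open Cfsg

namespace Cfsg.Agent.S0742

/-- A finite Zassenhaus group of degree `n + 1` with two-point stabilisers of even order `d` satisfying `2d ≤ n - 1` has `n = p^f` for an odd prime `p` and is isomorphic to `PSL(2, p^f)`. -/
theorem result {G Ω : Type*} [Group G] [Finite G] [MulAction G Ω] [Fintype Ω] (hZ : Cfsg.IsZassenhausGroup G Ω) {a b : Ω} (hab : a ≠ b) (heven : Even (Nat.card ↥(MulAction.stabilizer G a ⊓ MulAction.stabilizer G b))) (hd : 2 * Nat.card ↥(MulAction.stabilizer G a ⊓ MulAction.stabilizer G b) ≤ Fintype.card Ω - 2) : ∃ (p f : ℕ) (K : Type) (_ : Field K) (_ : Fintype K), p.Prime ∧ p ≠ 2 ∧ Fintype.card K = p ^ f ∧ Fintype.card Ω = p ^ f + 1 ∧ Nonempty (G ≃* Matrix.ProjectiveSpecialLinearGroup (Fin 2) K) := by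
  have hP := CfsgLib.Zass.Pre.of hZ
  have h1 := Cfsg.Agent.S0741.result hZ hab heven
  have h3 := hP.three_le_card
  obtain ⟨K, hK⟩ := hP.exists_kernel a
  obtain ⟨hKc, p, f, hp, -, hα⟩ := Cfsg.Agent.S0738.result hZ hab h1 K
    (fun k hk => hK.le k hk) ⟨fun x hx g => hK.conj_mem (g : G) g.2 (x : G) hx⟩
    (fun y z hy hz => by
      obtain ⟨k, hk, hky⟩ := hK.regular y z hy hz
      exact ⟨⟨k, hk⟩, hky, fun k' hk' => Subtype.ext (hK.inj hy k'.2 hk (hk'.trans hky.symm))⟩)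
  have hcard := hK.card hP
  obtain ⟨s, -, hss, hsa, hsb⟩ := hP.exists_swap (hP.two_dvd_card hab) hab
  have hinv := ((hP.cyclic_of_extremal hab heven (by omega)).2 s hsa hsb).2
  obtain ⟨F, iF, iFF, hF, hp2, hΩ, hiso⟩ := CfsgLib.ZassPSL.exists_mulEquiv_psl hP hab K hK
    (fun x hx y hy => congrArg Subtype.val (hKc.is_comm.comm (⟨x, hx⟩ : K) ⟨y, hy⟩)) hp
    (show Nat.card K = p ^ f by omega) (by omega) hsa hsb hss hinv
  exact ⟨p, f, F, iF, iFF, hp, hp2, hF, hΩ, hiso⟩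

end Cfsg.Agent.S0742
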