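import Cfsg.Statements.S0730
import Cfsg.Agent.Lib.SharpThree.TwoPointAction

set_option autoImplicit false
open Cfsg

namespace Cfsg.Agent.S0730

/-- A sharply triply transitive group of degree `p^f + 1`, `p` an odd prime and `f` odd, is isomorphic to the projective general linear group of degree 2 over the field with `p^f` elements (for even `f` there is a second, twisted, group). -/
theorem result {α : Type*} [Fintype α] [DecidableEq α] {p f : ℕ} (hp : p.Prime) (hp2 : p ≠ 2) (hfo : Odd f) (hα : Fintype.card α = p ^ f + 1) (G : Subgroup (Equiv.Perm α)) (h3 : MulAction.IsMultiplyPretransitive G α 3) (hsharp : ∀ x : Fin 3 ↪ α, MulAction.stabilizer G x = ⊥) : ∃ (F : Type) (_ : Field F) (_ : Fintype F), Fintype.card F = p ^ f ∧ Nonempty (G ≃* Matrix.ProjGenLinGroup (Fin 2) F) := by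
  have hS : CfsgLib.SharpThree.IsS3 G α := ⟨h3, hsharp⟩
  have hev : Even (Fintype.card α) := by
    rw [hα]
    exact (Odd.pow (hp.odd_of_ne_two hp2)).add_one
  have hn : 3 ≤ Fintype.card α := by
    have h2 := hp.two_le
    have : p ≤ p ^ f := Nat.le_self_pow (by rintro rfl; simp at hfo) p
    omega
  obtain ⟨a, b, hab⟩ := Fintype.exists_pair_of_one_lt_card (show 1 < Fintype.card α by omega)
  obtain ⟨c, hca, hcb⟩ := CfsgLib.SharpThree.exists_third hn a b
  obtain ⟨s, hsa, hsb, hsc⟩ := hS.exists_three hab hca.symm hcb.symm hab.symm hcb.symm hca.symm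
  obtain ⟨N, -, -, -, p', f', hp', hα', hcomm⟩ := hS.exists_index_two hev hn hab hca.symm hcb.symm hsa hsb hsc
  have he : p' ^ f' = p ^ f := by omega
  have hpp : p' = p := (Nat.prime_dvd_prime_iff_eq hp' hp).1 (hp'.dvd_of_dvd_pow (he ▸ dvd_pow_self p' (by
    rintro rfl
    have h1 : p ^ f = 1 := by simpa using he.symm
    have : 2 ≤ p ^ f := le_trans hp.two_le (Nat.le_self_pow (by rintro rfl; simp at hfo) p)
    omega)))
  subst hpp
  have hff : f' = f := Nat.pow_right_injective hp.two_le he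
  subst hff
  obtain ⟨F, iF, iFF, hF, hiso⟩ := hS.exists_mulEquiv_pgl hab hca.symm hcb.symm hsa hsb hsc
    (fun m m' h1 h2 h3 h4 => congrArg Subtype.val (hcomm hfo ⟨m, h1, h2⟩ ⟨m', h3, h4⟩))
  exact ⟨F, iF, iFF, by omega, hiso⟩

end Cfsg.Agent.S0730
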