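import Cfsg.Statements.S1012
import Cfsg.Agent.Lib.SmallOrder.Basic
import Mathlib.NumberTheory.Divisors
import Mathlib.Tactic.NormNum.Prime
import Mathlib.Tactic.FinCases
import Mathlib.Tactic.Group
import Mathlib.Data.Fin.VecNotation
import Mathlib.GroupTheory.Perm.Cycle.Type

set_option autoImplicit false
open Cfsg

namespace Cfsg.Agent.S1012

/-- A group of order 24 containing no element of order 6 is isomorphic to the symmetric group of degree 4. -/
theorem result {G : Type*} [Group G] [Finite G] (h : Nat.card G = 24) (h6 : ∀ g : G, orderOf g ≠ 6) : Nonempty (G ≃* Equiv.Perm (Fin 4)) := by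
  have : Fact (Nat.Prime 3) := ⟨Nat.prime_three⟩
  obtain ⟨P⟩ := (inferInstance : Nonempty (Sylow 3 G))
  have hP : Nat.card ↥(P : Subgroup G) = 3 := by
    simpa using CfsgLib.SmallOrder.card_sylow_eq (e := 1) (m := 8) (by omega) (by norm_num) P
  have hidx : (P : Subgroup G).index = 8 := by
    have := (P : Subgroup G).card_mul_index
    rw [hP, h] at this
    omega
  have hnc : ∀ x y : G, orderOf x = 2 → orderOf y = 3 → x * y ≠ y * x := fun x y hx hy hxy =>
    h6 (x * y) (by rw [Commute.orderOf_mul_eq_mul_orderOf_of_coprime hxy (by rw [hx, hy]; norm_num),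
      hx, hy])
  obtain ⟨u, hu⟩ : ∃ u : ↥(P : Subgroup G), orderOf u = 3 :=
    exists_prime_orderOf_dvd_card' 3 (by rw [hP])
  have huo : orderOf (u : G) = 3 := by rwa [Subgroup.orderOf_coe]
  have hC : ∀ x : G, x ∈ Subgroup.centralizer ((P : Subgroup G) : Set G) → orderOf x ≠ 2 :=
    fun x hx hx2 => hnc x u hx2 huo (Subgroup.mem_centralizer_iff.1 hx u u.2).symm
  have hn : Nat.card (Sylow 3 G) = 4 := by
    have h1 := hidx ▸ P.card_dvd_index
    have h2 := card_sylow_modEq_one 3 G
    have hm : Nat.card (Sylow 3 G) ∈ Nat.divisors 8 := Nat.mem_divisors.2 ⟨h1, by norm_num⟩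
    have hne : Nat.card (Sylow 3 G) ≠ 1 := by
      intro h1
      have hN := CfsgLib.SmallOrder.card_normalizer_mul P
      rw [h1, mul_one, h] at hN
      have h2' : 2 ∣ Nat.card ↥(Subgroup.centralizer ((P : Subgroup G) : Set G)) := by
        have hd : (Subgroup.centralizer ((P : Subgroup G) : Set G)).index ∣ 2 := by
          have hk := Subgroup.index_ker (Subgroup.normalizerMonoidHom (P : Subgroup G))
          rw [Subgroup.normalizerMonoidHom_ker] at hk
          have hr : (Subgroup.centralizer ((P : Subgroup G) : Set G)).relIndex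
              (Subgroup.normalizer ((P : Subgroup G) : Set G)) ∣ 2 := by
            have := isCyclic_of_prime_card hP
            change (_ : Subgroup _).index ∣ 2
            rw [hk]
            refine (Subgroup.card_subgroup_dvd_card _).trans ?_
            rw [IsCyclic.card_mulAut, hP, Nat.totient_prime Nat.prime_three]
          have htop : Subgroup.normalizer ((P : Subgroup G) : Set G) = ⊤ :=
            Subgroup.eq_top_of_card_eq _ (by rw [hN, h])
          rwa [htop, Subgroup.relIndex_top_right] at hr
        have hmul := (Subgroup.centralizer ((P : Subgroup G) : Set G)).card_mul_index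
        rw [h] at hmul
        rcases (Nat.dvd_prime Nat.prime_two).1 hd with hd | hd <;> rw [hd] at hmul <;>
          exact ⟨Nat.card ↥(Subgroup.centralizer ((P : Subgroup G) : Set G)) / 2, by omega⟩
      have : Fact (Nat.Prime 2) := ⟨Nat.prime_two⟩
      obtain ⟨⟨x, hx⟩, hxo⟩ := exists_prime_orderOf_dvd_card' 2 h2'
      rw [Subgroup.orderOf_mk] at hxo
      exact hC x hx hxo
    generalize Nat.card (Sylow 3 G) = n at hm h2 hne
    have h3 : n % 3 = 1 := h2
    clear h2
    revert h3 hne
    revert hm n
    decide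
  let f := MulAction.toPermHom G (Sylow 3 G)
  have hf : Function.Injective f := by
    rw [← MonoidHom.ker_eq_bot_iff]
    by_contra hne
    have hle : f.ker ≤ Subgroup.normalizer ((P : Subgroup G) : Set G) := fun x hx =>
      Sylow.smul_eq_iff_mem_normalizer.1 (Equiv.ext_iff.1 (MonoidHom.mem_ker.1 hx) P)
    have hN : Nat.card ↥(Subgroup.normalizer ((P : Subgroup G) : Set G)) = 6 := by
      have := CfsgLib.SmallOrder.card_normalizer_mul P
      rw [hn, h] at this
      omega
    have hd := hN ▸ Subgroup.card_dvd_of_le hle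
    have hK1 : Nat.card f.ker ≠ 1 := fun h1 => hne (Subgroup.card_eq_one.1 h1)
    by_cases h3 : 3 ∣ Nat.card f.ker
    · obtain ⟨⟨y, hy⟩, hyo⟩ := exists_prime_orderOf_dvd_card' 3 h3
      rw [Subgroup.orderOf_mk] at hyo
      have hzy : IsPGroup 3 (Subgroup.zpowers y) :=
        IsPGroup.of_card (n := 1) (by rw [Nat.card_zpowers, hyo, pow_one])
      have hall : ∀ Q : Sylow 3 G, (Q : Subgroup G) = Subgroup.zpowers y := by
        intro Q
        have hyN : y ∈ Subgroup.normalizer ((Q : Subgroup G) : Set G) :=
          Sylow.smul_eq_iff_mem_normalizer.1 (Equiv.ext_iff.1 (MonoidHom.mem_ker.1 hy) Q)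
        have hyQ : y ∈ (Q : Subgroup G) :=
          ((IsPGroup.inf_normalizer_sylow hzy Q).le ⟨Subgroup.mem_zpowers y, hyN⟩).2
        refine (Subgroup.eq_of_le_of_card_ge (Subgroup.zpowers_le.2 hyQ) ?_).symm
        rw [Nat.card_zpowers, hyo, Q.card_eq_multiplicity, ← P.card_eq_multiplicity, hP]
      have hs : Subsingleton (Sylow 3 G) := ⟨fun A B => Sylow.ext ((hall A).trans (hall B).symm)⟩
      have := Nat.card_eq_one_iff_unique.2 ⟨hs, inferInstance⟩
      omega
    · have hK : Nat.card f.ker = 2 := by
        have hm : Nat.card f.ker ∈ Nat.divisors 6 := Nat.mem_divisors.2 ⟨hd, by norm_num⟩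
        generalize Nat.card f.ker = k at hm hK1 h3
        revert hK1 h3
        revert hm k
        decide
      obtain ⟨⟨x, hx⟩, hxo⟩ := exists_prime_orderOf_dvd_card' 2 (G := f.ker) (by rw [hK])
      rw [Subgroup.orderOf_mk] at hxo
      apply hnc x u hxo huo
      have huniq : ∀ z ∈ f.ker, z = 1 ∨ z = x := by
        intro z hz
        by_contra hzn
        push Not at hzn
        have hx1 : x ≠ 1 := fun h1 => by simp [h1] at hxo
        have : Function.Injective (![⟨1, one_mem _⟩, ⟨x, hx⟩, ⟨z, hz⟩] : Fin 3 → f.ker) := by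
          intro i j hij
          fin_cases i <;> fin_cases j <;>
            simp_all [Subtype.ext_iff, hzn.1.symm, hzn.2.symm, hx1.symm]
        have := Nat.card_le_card_of_injective _ this
        rw [hK, Nat.card_fin] at this
        omega
      rcases huniq _ ((MonoidHom.normal_ker f).conj_mem x hx (u : G)) with h1 | h1
      · rw [conj_eq_one_iff] at h1
        simp [h1] at hxo
      · conv_lhs => rw [← h1]
        group
  have hcard : Nat.card G = Nat.card (Equiv.Perm (Sylow 3 G)) := by
    rw [h, Nat.card_perm, hn]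
    rfl
  exact ⟨(MulEquiv.ofBijective f ((Nat.bijective_iff_injective_and_card f).2 ⟨hf, hcard⟩)).trans
    (Finite.equivFinOfCardEq hn).permCongrHom⟩

end Cfsg.Agent.S1012
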