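import Cfsg.Statements.S0185
import Cfsg.Agent.Lib.Char.Kernel
import Cfsg.Agent.Lib.Char.Integral

set_option autoImplicit false
open Cfsg

namespace Cfsg.Agent.S0185

open CfsgLib

theorem result {G : Type*} [Group G] [Finite G] {V : Type*} [AddCommGroup V] [Module ℂ V] [FiniteDimensional ℂ V] (ρ : Representation ℂ G V) (hfaithful : Function.Injective ρ) (hdeg : ∀ p : ℕ, p.Prime → p ∣ Nat.card G → Module.finrank ℂ V < p) (a b : G) : a * b = b * a := by
  by_contra hab
  set c := a * b * (b * a)⁻¹ with hc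
  have hc1 : ρ c ≠ 1 := fun h => hab (mul_inv_eq_one.mp (hfaithful (h.trans (map_one ρ).symm)))
  obtain ⟨U, hU, hUc⟩ := CharKernel.exists_irreducible_sub_ne_one ρ c hc1
  have hd : Module.finrank ℂ U.toSubmodule = 1 := by
    by_contra hne
    have hpos := Char.finrank_pos_of_irreducible U.toRepresentation
    obtain ⟨p, hp, hpd⟩ := Nat.exists_prime_and_dvd hne
    have h1 := hdeg p hp (hpd.trans (Char.finrank_dvd_card U.toRepresentation))
    have h2 := Nat.le_of_dvd hpos hpd
    have h3 := Submodule.finrank_le U.toSubmodule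
    omega
  obtain ⟨v, hv, hspan⟩ := finrank_eq_one_iff'.mp hd
  have key : ∀ x, ∃ t : ℂ, U.toRepresentation x = t • 1 := by
    intro x
    obtain ⟨t, ht⟩ := hspan (U.toRepresentation x v)
    refine ⟨t, LinearMap.ext fun w => ?_⟩
    obtain ⟨s, rfl⟩ := hspan w
    simp only [map_smul, LinearMap.smul_apply, Module.End.one_apply, ← ht, smul_comm s t v]
  obtain ⟨s, hs⟩ := key a
  obtain ⟨t, ht⟩ := key b
  refine hUc ?_
  rw [hc, map_mul, show U.toRepresentation (a * b) = U.toRepresentation (b * a) by
    rw [map_mul, map_mul, hs, ht, smul_mul_smul_comm, smul_mul_smul_comm, mul_comm s t],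
    ← map_mul, mul_inv_cancel, map_one]

end Cfsg.Agent.S0185
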