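import Cfsg.Statements.S0194
import Cfsg.Agent.Lib.Char.InertiaNorm
import Cfsg.Agent.Lib.Char.Linear
import Cfsg.Agent.Lib.Char.Integral
import Mathlib.Data.Fintype.EquivFin

set_option autoImplicit false
open scoped ComplexConjugate
open Cfsg

namespace Cfsg.Agent.S0194

open CfsgLib

theorem eq_one_of_real {H : Type*} [Group H] [Fintype H] (hodd : Odd (Nat.card H)) (θ : H → ℂ)
    (hθ : Cfsg.IsIrrCharacter H θ) (hreal : ∀ x, conj (θ x) = θ x) : θ = fun _ => 1 := by
  classical
  by_contra hne
  have h0 := Char.classInner_irr_of_ne hθ Char.isIrrCharacter_principal hne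
  simp only [Cfsg.classInner, map_one, mul_one, mul_eq_zero, inv_eq_zero, Nat.cast_eq_zero,
    Nat.card_pos.ne', false_or] at h0
  obtain ⟨n, ρ, hρ, rfl⟩ := hθ
  let e := Fintype.equivFin H
  let S := Finset.univ.filter fun x : H => e x < e x⁻¹
  have hne1 : ∀ x : H, x ≠ 1 → x⁻¹ ≠ x := by
    intro x hx h
    have h2 : x ^ 2 = 1 := by
      rw [sq]
      nth_rw 1 [← h]
      exact inv_mul_cancel x
    have hd : orderOf x ∣ Nat.gcd 2 (Nat.card H) :=
      Nat.dvd_gcd (orderOf_dvd_of_pow_eq_one h2) (orderOf_dvd_natCard x)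
    rw [(Nat.coprime_two_left.mpr hodd).gcd_eq_one, Nat.dvd_one, orderOf_eq_one_iff] at hd
    exact hx hd
  have hinv : ∀ x, ρ.character x⁻¹ = ρ.character x := fun x => by
    rw [Char.character_inv, hreal]
  have hS : ∑ x ∈ Finset.univ.erase (1 : H), ρ.character x = 2 * ∑ x ∈ S, ρ.character x := by
    rw [two_mul]
    nth_rw 2 [show S = Finset.univ.filter (fun x : H => e x < e x⁻¹) from rfl]
    have himg : ∑ x ∈ Finset.univ.filter (fun x : H => e x < e x⁻¹), ρ.character x =
        ∑ x ∈ Finset.univ.filter (fun x : H => e x⁻¹ < e x), ρ.character x := by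
      refine Finset.sum_equiv (Equiv.inv H) (fun x => ?_) (fun x _ => (hinv x).symm)
      simp
    nth_rw 2 [himg]
    rw [← Finset.sum_union]
    · refine Finset.sum_congr ?_ fun _ _ => rfl
      ext x
      simp only [S, Finset.mem_erase, Finset.mem_univ, and_true, Finset.mem_union, Finset.mem_filter,
        true_and]
      constructor
      · intro hx
        exact lt_or_gt_of_ne (fun h => hne1 x hx (e.injective h).symm)
      · rintro (h | h) rfl <;> simp at h
    · rw [Finset.disjoint_filter]
      exact fun x _ h h' => lt_asymm h h'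
  rw [← Finset.add_sum_erase _ _ (Finset.mem_univ (1 : H)), hS, Representation.char_one] at h0
  set d := Module.finrank ℂ (Fin n → ℂ) with hd
  set s := ∑ x ∈ S, ρ.character x with hs
  have hint : IsIntegral ℤ ((d : ℂ) / (2 : ℕ)) := by
    have : ((d : ℂ) / (2 : ℕ)) = -s := by
      push_cast
      linear_combination h0 / 2
    rw [this]
    exact (IsIntegral.sum _ fun x _ => Char.isIntegral_character ρ x).neg
  have h2 : (2 : ℕ) ∣ d := Char.dvd_of_isIntegral_natCast_div (by norm_num) hint
  exact (Nat.not_even_iff_odd.mpr hodd)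
    (even_iff_two_dvd.mpr (h2.trans (Char.finrank_dvd_card ρ)))

theorem result {G : Type*} [Group G] [Fintype G] (hodd : Odd (Nat.card G)) (H : Subgroup G) [H.Normal] (θ : H → ℂ) (hθ : Cfsg.IsIrrCharacter H θ) (hθ1 : θ ≠ fun _ => 1) : Cfsg.classInner (fun g => conj (Cfsg.indFun H θ g)) (Cfsg.indFun H θ) = 0 := by
  classical
  have hne : (Nat.card H : ℂ) ≠ 0 := Nat.cast_ne_zero.mpr Nat.card_pos.ne'
  have hconj : (fun g => conj (Cfsg.indFun H θ g)) = Cfsg.indFun H (fun h => conj (θ h)) := by
    funext g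
    simp only [Char.indFun_apply, map_mul, map_inv₀, map_natCast, map_sum]
    congr 1
    refine Finset.sum_congr rfl fun x _ => ?_
    by_cases hx : x⁻¹ * g * x ∈ H
    · rw [Char.extendByZero_apply_mem H _ hx, Char.extendByZero_apply_mem H _ hx]
    · rw [Char.extendByZero_of_notMem H _ hx, Char.extendByZero_of_notMem H _ hx, map_zero]
  rw [hconj]
  have h := CharTwist.card_mul_classInner_indFun H (CharTwist.isIrrCharacter_conj hθ) hθ
  have hempty : IsEmpty {g : G // CharTwist.conjFun H θ g = fun h => conj (θ h)} := by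
    refine ⟨fun ⟨g, hg⟩ => hθ1 ?_⟩
    have hg2 : g * g ∈ CharTwist.inertia H θ := by
      rw [CharTwist.mem_inertia, CharTwist.conjFun_mul, hg, CharTwist.conjFun_conj, hg]
      simp
    obtain ⟨k, hk⟩ := hodd
    have hgI : g ∈ CharTwist.inertia H θ := by
      have : (g * g) ^ (k + 1) = g := by
        rw [← sq, ← pow_mul, show 2 * (k + 1) = Nat.card G + 1 by omega, pow_succ, pow_card_eq_one',
          one_mul]
      rw [← this]
      exact pow_mem hg2 _
    rw [CharTwist.mem_inertia, hg] at hgI
    exact eq_one_of_real (Odd.of_dvd_nat ⟨k, hk⟩ (Subgroup.card_subgroup_dvd_card H))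
      θ hθ (fun x => congrFun hgI x)
  rw [Nat.card_of_isEmpty (α := {g : G // CharTwist.conjFun H θ g = fun h => conj (θ h)}), Nat.cast_zero] at h
  exact (mul_eq_zero.mp h).resolve_left hne

end Cfsg.Agent.S0194
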