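import Cfsg.Statements.S0346
import Cfsg.Agent.S0742
import Cfsg.Agent.S0738
import Cfsg.Agent.S0885
import Cfsg.Agent.Lib.Zass.Simple

set_option autoImplicit false
open Cfsg

namespace Cfsg.Agent.S0346

/-- The number of points of a finite simple Zassenhaus group is `p^k + 1` for some prime power `p^k` (the regular normal
subgroup of a point stabiliser is a `p`-group). -/
theorem result {G Ω : Type*} [Group G] [Finite G] [MulAction G Ω] [Fintype Ω]
    (hZ : Cfsg.IsZassenhausGroup G Ω) [IsSimpleGroup G] :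
    IsPrimePow (Fintype.card Ω - 1) := by
  classical
  have hP := CfsgLib.Zass.Pre.of hZ
  have h3 := hP.three_le_card
  obtain ⟨a⟩ : Nonempty Ω := Fintype.card_pos_iff.1 (by omega)
  obtain ⟨b, hb⟩ := hP.exists_ne a
  have hab : a ≠ b := hb.symm
  rw [isPrimePow_nat_iff]
  have key : ∀ p f : ℕ, p.Prime → Fintype.card Ω = p ^ f + 1 →
      ∃ p k : ℕ, p.Prime ∧ 0 < k ∧ p ^ k = Fintype.card Ω - 1 := by
    intro p f hp hΩ
    refine ⟨p, f, hp, Nat.pos_of_ne_zero fun h => ?_, by omega⟩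
    rw [h, pow_zero] at hΩ
    omega
  rcases Nat.even_or_odd (Nat.card ↥(MulAction.stabilizer G a ⊓ MulAction.stabilizer G b)) with he | ho
  · obtain ⟨p, f, K, iF, iFF, hp, -, -, hΩ, -⟩ :=
      Cfsg.Agent.S0742.result hZ hab he (CfsgLib.Zass.Pre.extremal_of_even hZ hab he).le
    exact key p f hp hΩ
  · obtain ⟨K, hK⟩ := hP.exists_kernel a
    have hcard := hK.card hP
    rcases Cfsg.Agent.S0885.result hZ hab (Fintype.card Ω - 1) _ (by omega) rfl ho K
      (fun k hk => hK.le k hk) hcard hK.fix with h1 | ⟨h2, -, -⟩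
    · obtain ⟨-, p, f, hp, -, hα⟩ := Cfsg.Agent.S0738.result hZ hab (by omega) K
        (fun k hk => hK.le k hk) ⟨fun x hx g => hK.conj_mem (g : G) g.2 (x : G) hx⟩
        (fun y z hy hz => by
          obtain ⟨k, hk, hky⟩ := hK.regular y z hy hz
          exact ⟨⟨k, hk⟩, hky, fun k' hk' => Subtype.ext (hK.inj hy k'.2 hk (hk'.trans hky.symm))⟩)
      exact key p f hp hα
    · haveI : Fact (Nat.Prime 2) := ⟨Nat.prime_two⟩
      obtain ⟨k, hk⟩ := IsPGroup.iff_card.1 h2
      exact key 2 k Nat.prime_two (by omega)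

end Cfsg.Agent.S0346
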