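import Cfsg.Statements.S4482
import Cfsg.Agent.Lib.Invol.DihedralBlock
import Cfsg.Agent.Lib.Invol.DihedralSum
import Mathlib.RingTheory.RootsOfUnity.Complex

set_option autoImplicit false
open Cfsg

namespace Cfsg.Agent.S4482

/-- An order formula for groups with dihedral Sylow 2-subgroups and one class of involutions. Let G be a finite group whose Sylow 2-subgroup P = ⟨σ, τ⟩ is dihedral of order 2^n ≥ 8 (σ of order 2^(n−1), τ an involution inverting σ), let J be the central involution σ^(2^(n−2)), and suppose J, τ and στ are conjugate in G. Fix M over 2 and let χ₁ be an irreducible character in the principal 2-block taking one constant value δ₁ = ±1 at every non-identity power of σ, with χ₁ ≠ 1. Then, with x₁ = χ₁(1) and c(·) denoting orders of centralizers, x₁ ≠ δ₁ and #G · (x₁ − δ₁)² = 2·x₁(x₁ + δ₁)·c(J)³·(1/c(J, τ) + 1/c(J, στ))², where c(J, y) is the order of the joint centralizer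 of J and y. -/
theorem result {G : Type*} [Group G] [Finite G] (M : Ideal Cfsg.AlgInt) (hM : Cfsg.IsPModular 2 M) (n : ℕ) (hn : 3 ≤ n) (P : Sylow 2 G) (σ τ : G) (hσ : σ ∈ (P : Subgroup G)) (hτ : τ ∈ (P : Subgroup G)) (hσo : orderOf σ = 2 ^ (n - 1)) (hτo : orderOf τ = 2) (hrel : τ * σ * τ⁻¹ = σ⁻¹) (hgen : Subgroup.closure ({σ, τ} : Set G) = (P : Subgroup G)) (hconj : IsConj (σ ^ (2 ^ (n - 2))) τ ∧ IsConj (σ ^ (2 ^ (n - 2))) (σ * τ)) (χ₁ : Cfsg.IrrCharacter G) (hχ₁ : χ₁ ∈ Cfsg.principalBlock M G) (h1 : (χ₁ : G → ℂ) ≠ (fun _ => 1)) (δ₁ : ℤ) (hδ₁ : δ₁ = 1 ∨ δ₁ = -1) (hval : ∀ l : ℕ, 0 < l → l < 2 ^ (n - 1) → (χ₁ : G → ℂ) (σ ^ l) = δ₁) : (Cfsg.charDegree (χ₁ : G → ℂ) : ℤ) ≠ δ₁ ∧ (Nat.card G : ℚ) * ((Cfsg.charDegree (χ₁ : G → ℂ) : ℚ) - δ₁) ^ 2 = 2 * (Cfsg.charDegree (χ₁ : G → ℂ) : ℚ) * ((Cfsg.charDegree (χ₁ : G → ℂ) : ℚ) + δ₁) * (Nat.card (Subgroup.centralizer ({σ ^ (2 ^ (n - 2))} : Set G))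 : ℚ) ^ 3 * (1 / (Nat.card (Subgroup.centralizer ({σ ^ (2 ^ (n - 2)), τ} : Set G)) : ℚ) + 1 / (Nat.card (Subgroup.centralizer ({σ ^ (2 ^ (n - 2)), σ * τ} : Set G)) : ℚ)) ^ 2 := by
  classical
  have : Fact (Nat.Prime 2) := ⟨Nat.prime_two⟩
  obtain ⟨b, rfl⟩ : ∃ b, n = b + 2 := ⟨n - 2, by omega⟩
  simp only [show b + 2 - 2 = b from rfl, show b + 2 - 1 = b + 1 from rfl] at *
  have hb : 1 ≤ b := by omega
  set h := 2 ^ b with hh
  have hq : 2 ^ (b + 1) = 2 * h := by rw [hh, pow_succ, mul_comm]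
  have h2 : 2 ≤ h := by
    calc 2 = 2 ^ 1 := (pow_one 2).symm
      _ ≤ 2 ^ b := Nat.pow_le_pow_right two_pos hb
  have heven : Even h := (Nat.even_pow.2 ⟨even_two, by omega⟩)
  rw [hq] at hσo
  have hτσ : τ * τ = 1 := CfsgLib.Invol.mul_self_eq_one hτo
  have hnm : τ ∉ Subgroup.zpowers σ := fun hm => by
    obtain ⟨i, rfl⟩ := Subgroup.mem_zpowers_iff.1 hm
    rw [(Commute.zpow_self σ i).eq, mul_inv_cancel_right] at hrel
    have := orderOf_dvd_of_pow_eq_one (x := σ) (n := 2) (by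
      rw [sq]; nth_rw 1 [hrel]; exact inv_mul_cancel σ)
    rw [hσo] at this
    have := Nat.le_of_dvd two_pos this
    omega
  have hcard : Nat.card (P : Subgroup G) = 4 * h := by
    have hform : ∀ s ∈ (P : Subgroup G), ∃ i : ℤ, s = σ ^ i ∨ s = σ ^ i * τ := by
      intro s hs
      rw [← hgen] at hs
      induction hs using Subgroup.closure_induction with
      | mem z hz =>
        rcases hz with rfl | rfl
        · exact ⟨1, Or.inl (zpow_one _).symm⟩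
        · exact ⟨0, Or.inr (by simp)⟩
      | one => exact ⟨0, Or.inl (by simp)⟩
      | mul a c _ _ iha ihc =>
        have hc := fun j : ℤ => CfsgLib.Invol.mul_zpow_of_inverts hrel j
        obtain ⟨i, rfl | rfl⟩ := iha <;> obtain ⟨j, rfl | rfl⟩ := ihc
        · exact ⟨i + j, Or.inl (zpow_add _ _ _).symm⟩
        · exact ⟨i + j, Or.inr (by rw [← mul_assoc, ← zpow_add])⟩
        · exact ⟨i + -j, Or.inr (by rw [mul_assoc, hc, ← mul_assoc, ← zpow_add])⟩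
        · exact ⟨i + -j, Or.inl (by
            rw [mul_assoc, ← mul_assoc τ, hc, mul_assoc, hτσ, mul_one, ← zpow_add])⟩
      | inv a _ iha =>
        obtain ⟨i, rfl | rfl⟩ := iha
        · exact ⟨-i, Or.inl (zpow_neg _ _).symm⟩
        · exact ⟨i, Or.inr (by
            rw [mul_inv_rev, inv_eq_of_mul_eq_one_right hτσ, ← zpow_neg,
              CfsgLib.Invol.mul_zpow_of_inverts hrel, neg_neg])⟩
    have hmem : ∀ q : Fin (2 * h) × Fin 2, σ ^ (q.1 : ℕ) * τ ^ (q.2 : ℕ) ∈ (P : Subgroup G) :=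
      fun q => mul_mem (pow_mem hσ _) (pow_mem hτ _)
    rw [← Nat.card_eq_of_bijective (fun q => (⟨_, hmem q⟩ : (P : Subgroup G))) ⟨?_, ?_⟩,
      Nat.card_prod, Nat.card_fin, Nat.card_fin]
    · ring
    · rintro ⟨i, u⟩ ⟨j, v⟩ huv
      have e : σ ^ (i : ℕ) * τ ^ (u : ℕ) = σ ^ (j : ℕ) * τ ^ (v : ℕ) := congrArg Subtype.val huv
      have hp : ∀ {i j : ℕ}, i < 2 * h → j < 2 * h → σ ^ i = σ ^ j → i = j := fun {i j} hi hj e =>
        pow_injOn_Iio_orderOf (x := σ) (by rw [Set.mem_Iio, hσo]; exact hi)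
          (by rw [Set.mem_Iio, hσo]; exact hj) e
      fin_cases u <;> fin_cases v <;> simp only [pow_zero, pow_one, mul_one] at e
      · rw [Fin.ext (hp i.2 j.2 e)]
      · exact absurd (e ▸ mul_mem (inv_mem (pow_mem (Subgroup.mem_zpowers σ) (j : ℕ)))
          (pow_mem (Subgroup.mem_zpowers σ) (i : ℕ)) :
          (σ ^ (j : ℕ))⁻¹ * (σ ^ (j : ℕ) * τ) ∈ Subgroup.zpowers σ) (by rw [inv_mul_cancel_left]; exact hnm)
      · exact absurd (e.symm ▸ mul_mem (inv_mem (pow_mem (Subgroup.mem_zpowers σ) (i : ℕ)))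
          (pow_mem (Subgroup.mem_zpowers σ) (j : ℕ)) :
          (σ ^ (i : ℕ))⁻¹ * (σ ^ (i : ℕ) * τ) ∈ Subgroup.zpowers σ) (by rw [inv_mul_cancel_left]; exact hnm)
      · rw [Fin.ext (hp i.2 j.2 (mul_right_cancel e))]
    · rintro ⟨s, hs⟩
      have hpw : ∀ i : ℤ, ∃ k : Fin (2 * h), σ ^ i = σ ^ (k : ℕ) := fun i => by
        obtain ⟨k, hk⟩ := (isOfFinOrder_of_finite σ).mem_powers_iff_mem_zpowers.2
          (Subgroup.mem_zpowers_iff.2 ⟨i, rfl⟩)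
        exact ⟨⟨k % (2 * h), Nat.mod_lt _ (by omega)⟩, by
          rw [← hk]; simp only; rw [← hσo, pow_mod_orderOf]⟩
      obtain ⟨i, hi | hi⟩ := hform s hs <;> obtain ⟨k, hk⟩ := hpw i
      · exact ⟨(k, 0), Subtype.ext (by simp [hi, hk])⟩
      · exact ⟨(k, 1), Subtype.ext (by simp [hi, hk])⟩
  have d : CfsgLib.Invol.DihPairs.DihData P σ τ h :=
    ⟨hσ, hτ, hσo, hcard, hrel, hτσ, hnm, by omega⟩
  set J := σ ^ h with hJ
  have hone : ∀ s : G, orderOf s = 2 → IsConj J s := by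
    intro s hs
    obtain ⟨Q, hQ⟩ := (IsPGroup.of_card (G := Subgroup.zpowers s) (p := 2) (n := 1)
      (by rw [Nat.card_zpowers, hs, pow_one])).exists_le_sylow
    obtain ⟨g, hg⟩ := MulAction.exists_smul_eq G Q P
    have hmem : g * s * g⁻¹ ∈ (P : Subgroup G) := by
      rw [← hg]
      exact (Subgroup.smul_mem_pointwise_smul_iff (a := MulAut.conj g) (x := s)
        (S := (Q : Subgroup G))).2 (hQ (Subgroup.mem_zpowers _))
    have ho : orderOf (g * s * g⁻¹) = 2 := by rw [CfsgLib.Invol.orderOf_conj, hs]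
    refine IsConj.trans ?_ (isConj_iff.2 ⟨g, rfl⟩ : IsConj s (g * s * g⁻¹)).symm
    obtain ⟨i, hi, hi' | hi'⟩ := CfsgLib.Invol.DihPairs.cases d hmem
    · have hd : 2 * h ∣ i * 2 := by
        rw [← hσo, orderOf_dvd_iff_pow_eq_one, pow_mul, ← hi', sq, CfsgLib.Invol.mul_self_eq_one ho]
      rw [mul_comm i 2] at hd
      obtain ⟨q, rfl⟩ := Nat.dvd_of_mul_dvd_mul_left two_pos hd
      have : q < 2 := by nlinarith
      interval_cases q
      · rw [hi', mul_zero, pow_zero, orderOf_one] at ho; omega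
      · rw [hi', mul_one]
    · rw [hi']
      have key : ∀ i, IsConj J (σ ^ i * τ) := fun i => by
        induction i using Nat.strong_induction_on with
        | _ i ih =>
          rcases (show i = 0 ∨ i = 1 ∨ 2 ≤ i by omega) with rfl | rfl | h3
          · rw [pow_zero, one_mul]; exact hconj.1
          · rw [pow_one]; exact hconj.2
          · obtain ⟨k, rfl⟩ : ∃ k, i = k + 2 := ⟨i - 2, by omega⟩
            refine (ih k (by omega)).trans (isConj_iff.2 ⟨σ ^ 1, ?_⟩)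
            rw [CfsgLib.Invol.DihPairs.refl_conj d 1 k]
      exact key i
  have hζ := Complex.isPrimitiveRoot_exp (2 * h) (by omega)
  generalize hζdef : Complex.exp _ = ζ at hζ
  obtain ⟨A, C, D, Bk, e, f, g, ⟨he, hf, hg⟩, -, -, -, hmem, hsum, hvals, hreg⟩ :=
    CfsgLib.Invol.DihBlock.block_structure hM d hh h2 hζ
  obtain ⟨hA1, hC1, hD1, hB1⟩ := hvals 1 one_pos (by omega)
  obtain ⟨hAh, hCh, hDh, hBh⟩ := hvals h (by omega) (by omega)
  have hhalf : ζ ^ h = -1 :=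
    ((hζ.pow (by omega) (mul_comm 2 h : 2 * h = h * 2)).eq_neg_one_of_two_right)
  have hBh' : ∀ k ∈ Finset.Ico 1 h, (Bk k : G → ℂ) J = e * (2 * (-1) ^ k) := fun k hk => by
    rw [hBh k hk, mul_comm k h, pow_mul, hhalf]
    rcases neg_one_pow_eq_or ℂ k with e' | e' <;> rw [e'] <;> norm_num
  -- identify the given character
  obtain ⟨rfl, rfl⟩ : χ₁ = A ∧ δ₁ = e := by
    have hv1 := hval 1 one_pos (by omega)
    have hvh := hval h (by omega) (by omega)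
    rcases (hmem χ₁).1 hχ₁ with rfl | rfl | rfl | rfl | ⟨k, hk, rfl⟩
    · exact absurd (funext CfsgLib.Char.principalIrr_apply) h1
    · exact ⟨rfl, by rw [hA1] at hv1; exact_mod_cast hv1.symm⟩
    · exfalso
      rw [hC1] at hv1
      rw [hCh, pow_succ, heven.neg_one_pow] at hvh
      have e1 : ((f : ℤ) : ℂ) = ((-f : ℤ) : ℂ) := by
        push_cast; linear_combination hv1 - hvh
      have : f = -f := by exact_mod_cast e1
      omega
    · exfalso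
      rw [hD1] at hv1
      rw [hDh, pow_succ, heven.neg_one_pow] at hvh
      have e1 : ((g : ℤ) : ℂ) = ((-g : ℤ) : ℂ) := by
        push_cast; linear_combination hv1 - hvh
      have : g = -g := by exact_mod_cast e1
      omega
    · exfalso
      rw [← hJ, hBh' k hk] at hvh
      have : e * (2 * (-1) ^ k) = δ₁ := by exact_mod_cast hvh
      rcases neg_one_pow_eq_or ℤ k with e' | e' <;> rw [e'] at this <;> omega
  set xA := Cfsg.charDegree (χ₁ : G → ℂ) with hxA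
  have hxA1 : (χ₁ : G → ℂ) 1 = (xA : ℂ) := CfsgLib.Blk83.one_eq χ₁
  obtain ⟨-, hBdeg⟩ := hreg 1 (by rw [orderOf_one]; norm_num)
  rw [hxA1] at hBdeg
  have he2 : (δ₁ : ℂ) * δ₁ = 1 := by rcases hδ₁ with rfl | rfl <;> norm_num
  have hden : (1 : ℂ) + δ₁ * xA ≠ 0 := by
    rw [hBdeg 1 (Finset.mem_Ico.2 ⟨le_rfl, by omega⟩)]
    exact mul_ne_zero (by rcases hδ₁ with rfl | rfl <;> norm_num)
      (CfsgLib.Char.IsIrrCharacter.apply_one_ne_zero (Bk 1).2)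
  -- the two equations
  obtain ⟨hrot, hrot'⟩ := CfsgLib.Invol.DihPairs.index_core_rot d h2 (l := 1)
    (fun hd => by have := Nat.le_of_dvd one_pos hd; omega)
  obtain ⟨hcen, hcen'⟩ := CfsgLib.Invol.DihPairs.index_core d
  cases nonempty_fintype G
  haveI := CfsgLib.Solvable.pPrimeCore_normal 2 (Subgroup.centralizer ({σ ^ 1} : Set G))
  haveI := CfsgLib.Solvable.pPrimeCore_normal 2 (Subgroup.centralizer ({σ ^ h} : Set G))
  have E1 := CfsgLib.Invol.DihPairs.block_equation hM d hone (l := 1) (e := h) (by omega) one_pos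
    (by rw [one_mul]) ⟨b + 1, by rw [pow_one, hσo, hq]⟩ (Cfsg.pPrimeCore 2 _) hrot' (k := b + 1)
    (by rw [hrot, hq])
  have Eh := CfsgLib.Invol.DihPairs.block_equation hM d hone (l := h) (e := 1) (by omega) (by omega)
    (by rw [mul_one]) ⟨1, by rw [CfsgLib.Invol.DihPairs.orderOf_J d, pow_one]⟩
    (Cfsg.pPrimeCore 2 _) hcen' (k := b + 2) (by rw [hcen, hh]; ring)
  rw [CfsgLib.Invol.DihPairs.sum_fib_odd _ h odd_one, hsum] at E1
  rw [CfsgLib.Invol.DihPairs.sum_fib_even _ h heven, hsum] at Eh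
  simp only [← hJ] at E1 Eh hAh hCh hDh
  have hS0 : ∑ k ∈ Finset.Ico 1 h, (ζ ^ (k * 1) + (ζ ^ (k * 1))⁻¹) = 0 := by
    have h0 := CfsgLib.Invol.DihBlock.sum_prim hζ 1
    rw [if_neg (fun hd => by have := Nat.le_of_dvd one_pos hd; omega),
      CfsgLib.Invol.DihBlock.sum_fold _ (by omega : 0 < h), one_mul, one_mul, pow_zero, hhalf] at h0
    rw [Finset.sum_congr rfl fun k hk => show ζ ^ (k * 1) + (ζ ^ (k * 1))⁻¹ =
        ζ ^ (1 * k) + ζ ^ (1 * (2 * h - k)) by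
      rw [Finset.mem_Ico] at hk
      rw [mul_one, one_mul, one_mul]
      congr 1
      exact inv_eq_of_mul_eq_one_right (by
        rw [← pow_add, Nat.add_sub_cancel' (by omega : k ≤ 2 * h), hζ.pow_eq_one])]
    linear_combination h0
  have hS1 : ∑ k ∈ Finset.Ico 1 h, ((-1 : ℂ)) ^ k = -1 := by
    have h0 : ∑ k ∈ Finset.range h, ((-1 : ℂ)) ^ k = 0 := by rw [neg_one_geom_sum, if_pos heven]
    rw [Finset.range_eq_Ico, Finset.sum_eq_sum_Ico_succ_bot (by omega : 0 < h), pow_zero] at h0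
    linear_combination h0
  set c := Nat.card (Subgroup.centralizer ({J} : Set G)) with hc
  set o := Nat.card (CfsgLib.Invol.DihPairs.core J) with ho
  set c₁ := Nat.card (Subgroup.centralizer ({J, τ} : Set G)) with hc₁
  set c₂ := Nat.card (Subgroup.centralizer ({J, σ * τ} : Set G)) with hc₂
  have hco : c = 4 * h * o := by
    rw [hc, ho, CfsgLib.Invol.DihPairs.core, Subgroup.card_map_of_injective (Subgroup.subtype_injective _),
      hJ, ← hcen]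
    exact (Subgroup.index_mul_card _).symm
  have hf0 : (CfsgLib.Invol.DihPairs.fib σ τ h 0 : ℂ) = 4 * o / c₁ := by
    have hfm := CfsgLib.Invol.DihPairs.fib_mul_card d 0
    rw [pow_zero, one_mul] at hfm
    rw [eq_div_iff (Nat.cast_ne_zero.2 Nat.card_pos.ne')]
    exact_mod_cast hfm
  have hf1 : (CfsgLib.Invol.DihPairs.fib σ τ h 1 : ℂ) = 4 * o / c₂ := by
    have hfm := CfsgLib.Invol.DihPairs.fib_mul_card d 1
    rw [pow_one] at hfm
    rw [eq_div_iff (Nat.cast_ne_zero.2 Nat.card_pos.ne')]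
    exact_mod_cast hfm
  have hterm : ∀ k ∈ Finset.Ico 1 h,
      (Bk k : G → ℂ) J * (Bk k : G → ℂ) J * (Bk k : G → ℂ) (σ ^ 1) / (Bk k : G → ℂ) 1 +
      (Bk k : G → ℂ) J * (Bk k : G → ℂ) J * (Bk k : G → ℂ) J / (Bk k : G → ℂ) 1 =
      4 * ((ζ ^ (k * 1) + (ζ ^ (k * 1))⁻¹) + 2 * (-1) ^ k) / (1 + δ₁ * xA) := by
    intro k hk
    have hb0 : (Bk k : G → ℂ) 1 ≠ 0 := CfsgLib.Char.IsIrrCharacter.apply_one_ne_zero (Bk k).2
    have hk2 : ((-1 : ℂ) ^ k) * (-1) ^ k = 1 := by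
      rw [← mul_pow]; norm_num
    rw [hB1 k hk, hBh' k hk, ← add_div, div_eq_div_iff hb0 hden, hBdeg k hk]
    linear_combination
      (4 * (δ₁ : ℂ) * (δ₁ : ℂ) * δ₁ * δ₁ * (Bk k : G → ℂ) 1 *
        ((ζ ^ (k * 1) + (ζ ^ (k * 1))⁻¹) + 2 * (-1) ^ k)) * hk2 +
      (4 * (Bk k : G → ℂ) 1 * ((ζ ^ (k * 1) + (ζ ^ (k * 1))⁻¹) + 2 * (-1) ^ k) *
        ((δ₁ : ℂ) * δ₁ + 1)) * he2
  have hsumB : ∑ k ∈ Finset.Ico 1 h,
        (Bk k : G → ℂ) J * (Bk k : G → ℂ) J * (Bk k : G → ℂ) (σ ^ 1) / (Bk k : G → ℂ) 1 +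
      ∑ k ∈ Finset.Ico 1 h,
        (Bk k : G → ℂ) J * (Bk k : G → ℂ) J * (Bk k : G → ℂ) J / (Bk k : G → ℂ) 1 =
      -8 / (1 + δ₁ * xA) := by
    rw [← Finset.sum_add_distrib, Finset.sum_congr rfl hterm, ← Finset.sum_div, ← Finset.mul_sum,
      Finset.sum_add_distrib, hS0, ← Finset.mul_sum, hS1]
    ring
  have hsq : ∀ z : ℤ, (z = 1 ∨ z = -1) → (z : ℂ) * z = 1 := fun z hz => by
    rcases hz with rfl | rfl <;> norm_num
  rw [pow_succ, heven.neg_one_pow, one_mul] at hCh hDh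
  have hC1' : (C : G → ℂ) (σ ^ 1) = (f : ℂ) := by rw [hC1]; norm_num
  have hD1' : (D : G → ℂ) (σ ^ 1) = (g : ℂ) := by rw [hD1]; norm_num
  simp only [hA1, hAh, hC1', hCh, hD1', hDh, CfsgLib.Char.principalIrr_apply, hxA1,
    one_mul, div_one, Nat.cast_mul, Nat.cast_add, Nat.cast_ofNat,
    hf0, hf1] at E1 Eh
  have hkey : (Nat.card G : ℂ) * ((o : ℂ) * (2 + 2 * (δ₁ : ℂ) / xA - 8 / (1 + δ₁ * xA))) =
      (c : ℂ) ^ 2 * ((h : ℂ) * (4 * (o : ℂ) / c₁ + 4 * o / c₂) ^ 2) := by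
    have e2 := he2
    linear_combination E1 + Eh - (Nat.card G : ℂ) * (o : ℂ) * hsumB
      - (Nat.card G : ℂ) * (o : ℂ) * (2 * (δ₁ : ℂ) / xA) * e2
  have hx0 : (xA : ℂ) ≠ 0 := Nat.cast_ne_zero.2 (CfsgLib.Blk83.deg_pos χ₁).ne'
  have ho0 : (o : ℂ) ≠ 0 := Nat.cast_ne_zero.2 Nat.card_pos.ne'
  have hc0 : (c₁ : ℂ) ≠ 0 ∧ (c₂ : ℂ) ≠ 0 :=
    ⟨Nat.cast_ne_zero.2 Nat.card_pos.ne', Nat.cast_ne_zero.2 Nat.card_pos.ne'⟩
  obtain ⟨hc10, hc20⟩ := hc0
  have hmain : (Nat.card G : ℂ) * ((xA : ℂ) - δ₁) ^ 2 =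
      2 * (xA : ℂ) * ((xA : ℂ) + δ₁) * (c : ℂ) ^ 3 * (1 / (c₁ : ℂ) + 1 / (c₂ : ℂ)) ^ 2 := by
    have hcC : (c : ℂ) = 4 * h * o := by exact_mod_cast hco
    have hbr : 2 + 2 * (δ₁ : ℂ) / xA - 8 / (1 + δ₁ * xA) =
        2 * ((xA : ℂ) - δ₁) ^ 2 / (xA * ((xA : ℂ) + δ₁)) := by
      have hne : (xA : ℂ) + δ₁ ≠ 0 := fun h0 => hden (by linear_combination (δ₁ : ℂ) * h0 - he2)
      have key : (8 : ℂ) / (1 + δ₁ * xA) = 8 * δ₁ / (xA + δ₁) := by
        rw [div_eq_div_iff hden hne]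
        linear_combination (-(8 : ℂ) * xA) * he2
      rw [key]
      field_simp
      ring
    have hne : (xA : ℂ) + δ₁ ≠ 0 := fun h0 => hden (by linear_combination (δ₁ : ℂ) * h0 - he2)
    rw [hbr] at hkey
    have h3 : (Nat.card G : ℂ) * ((xA : ℂ) - δ₁) ^ 2 * (2 * (o : ℂ)) =
        (c : ℂ) ^ 2 * (16 * (h : ℂ) * o ^ 2 * (1 / (c₁ : ℂ) + 1 / (c₂ : ℂ)) ^ 2) *
          (xA * ((xA : ℂ) + δ₁)) := by
      have h4 := congrArg (fun z => z * ((xA : ℂ) * ((xA : ℂ) + δ₁))) hkey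
      simp only [mul_assoc, div_mul_cancel₀ _ (mul_ne_zero hx0 hne)] at h4
      linear_combination h4
    refine mul_right_cancel₀ (mul_ne_zero two_ne_zero ho0) ?_
    rw [h3, hcC]
    ring
  have hpos : (0 : ℚ) < (Nat.card G : ℚ) := Nat.cast_pos.2 Nat.card_pos
  have hQ : (Nat.card G : ℚ) * ((xA : ℚ) - δ₁) ^ 2 =
      2 * (xA : ℚ) * ((xA : ℚ) + δ₁) * (c : ℚ) ^ 3 * (1 / (c₁ : ℚ) + 1 / (c₂ : ℚ)) ^ 2 := by
    apply Rat.cast_injective (α := ℂ)
    push_cast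
    exact hmain
  refine ⟨fun heq => ?_, hQ⟩
  have e1 : (xA : ℚ) = δ₁ := by exact_mod_cast heq
  rw [e1, sub_self] at hQ
  have hx : (0 : ℚ) < δ₁ := e1 ▸ Nat.cast_pos.2 (CfsgLib.Blk83.deg_pos χ₁)
  have hcq : (0 : ℚ) < c := Nat.cast_pos.2 Nat.card_pos
  have h1q : (0 : ℚ) < 1 / (c₁ : ℚ) := one_div_pos.2 (Nat.cast_pos.2 Nat.card_pos)
  have h2q : (0 : ℚ) < 1 / (c₂ : ℚ) := one_div_pos.2 (Nat.cast_pos.2 Nat.card_pos)
  have : (0 : ℚ) < 2 * (δ₁ : ℚ) * ((δ₁ : ℚ) + δ₁) * (c : ℚ) ^ 3 * (1 / (c₁ : ℚ) + 1 / (c₂ : ℚ)) ^ 2 := by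
    positivity
  rw [← hQ] at this
  norm_num at this

end Cfsg.Agent.S4482
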