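import Cfsg.Statements.S0514
import Cfsg.Agent.Lib.Case.TwoNilpotent
import Mathlib.GroupTheory.SpecificGroups.Dihedral
import Mathlib.Tactic.LinearCombination

set_option autoImplicit false
open Cfsg

namespace Cfsg.Agent.S0514

/-- In a finite group whose Sylow 2-subgroups are dihedral of order at least 4, the centralizer of any involution has a
normal subgroup of odd order whose index in the centralizer is a power of 2. -/
theorem result {X : Type*} [Group X] [Finite X]
    (S : Sylow 2 X) (n : ℕ) (hn : 2 ≤ n) (hS : Nonempty ((S : Subgroup X) ≃* DihedralGroup n)) (t : X)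
    (ht : orderOf t = 2) :
    ∃ N : Subgroup (Subgroup.centralizer ({t} : Set X)), N.Normal ∧ Odd (Nat.card N) ∧ ∃ k : ℕ, N.index = 2 ^ k := by
  haveI := Fact.mk Nat.prime_two
  obtain ⟨e⟩ := hS
  suffices h : ∃ l, (Cfsg.pPrimeCore 2 (Subgroup.centralizer ({t} : Set X))).index = 2 ^ l by
    obtain ⟨l, hl⟩ := h
    exact ⟨_, CfsgLib.Solvable.pPrimeCore_normal 2 _,
      Nat.coprime_two_right.1 (CfsgLib.Solvable.pPrimeCore_card_coprime 2 _), l, hl⟩
  obtain ⟨C, hC⟩ : ∃ C, C = Subgroup.centralizer ({t} : Set X) := ⟨_, rfl⟩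
  rw [← hC]
  have htC : t ∈ C := hC ▸ Subgroup.mem_centralizer_singleton_iff.2 rfl
  have hcent : ∀ c : C, c * (⟨t, htC⟩ : C) = ⟨t, htC⟩ * c := fun c =>
    Subtype.ext (Subgroup.mem_centralizer_singleton_iff.1 (hC ▸ c.2 : (c : X) ∈ _))
  obtain ⟨T⟩ := (inferInstance : Nonempty (Sylow 2 C))
  have hTi : Odd (T : Subgroup C).index :=
    Nat.not_even_iff_odd.1 (fun h => T.not_dvd_index (even_iff_two_dvd.1 h))
  -- t lies in T
  have htT : (⟨t, htC⟩ : C) ∈ (T : Subgroup C) := by
    haveI : (Subgroup.zpowers (⟨t, htC⟩ : C)).Normal := ⟨fun x hx c => by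
      obtain ⟨i, rfl⟩ := Subgroup.mem_zpowers_iff.1 hx
      rw [← ((show Commute c ⟨t, htC⟩ from hcent c).symm.zpow_left i).eq, mul_inv_cancel_right]
      exact Subgroup.zpow_mem_zpowers _ i⟩
    have hp : IsPGroup 2 (Subgroup.zpowers (⟨t, htC⟩ : C)) := IsPGroup.of_card (n := 1) (by
      rw [Nat.card_zpowers, ← Subgroup.orderOf_coe, pow_one]; exact ht)
    exact hp.le_sylow_of_normal T (Subgroup.mem_zpowers _)
  -- embed T in the dihedral group
  obtain ⟨R, hR⟩ := (T.isPGroup'.map C.subtype).exists_le_sylow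
  let φ : (T : Subgroup C) →* DihedralGroup n :=
    (((R.equiv S).trans e).toMonoidHom.comp (Subgroup.inclusion hR)).comp
      ((T : Subgroup C).equivMapOfInjective C.subtype C.subtype_injective).toMonoidHom
  have hφ : Function.Injective φ :=
    (((R.equiv S).trans e).injective.comp (Subgroup.inclusion_injective hR)).comp
      ((T : Subgroup C).equivMapOfInjective C.subtype C.subtype_injective).injective
  obtain ⟨t', ht', hot⟩ : ∃ t' : (T : Subgroup C), (t' : C) = ⟨t, htC⟩ ∧ orderOf t' = 2 :=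
    ⟨⟨_, htT⟩, rfl, by rw [← Subgroup.orderOf_coe, ← Subgroup.orderOf_coe]; exact ht⟩
  have ht'c : ∀ x : (T : Subgroup C), x * t' = t' * x := fun x => Subtype.ext (by
    rw [Subgroup.coe_mul, Subgroup.coe_mul, ht']; exact hcent x)
  -- pull back the rotations
  obtain ⟨K₀, hK₀⟩ : ∃ K₀, K₀ = (Subgroup.zpowers (DihedralGroup.r 1 : DihedralGroup n)).comap φ :=
    ⟨_, rfl⟩
  have hK₀cyc : IsCyclic K₀ := by
    subst hK₀
    exact isCyclic_of_injective
      (φ.subgroupComap (Subgroup.zpowers (DihedralGroup.r 1 : DihedralGroup n)))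
      (fun a b h => Subtype.ext (hφ (congrArg Subtype.val h)))
  have hrot : ∀ i : ZMod n, (DihedralGroup.r i) ∈ Subgroup.zpowers (DihedralGroup.r 1 : DihedralGroup n) := by
    intro i
    refine ⟨(i.val : ℤ), ?_⟩
    haveI : NeZero n := ⟨by omega⟩
    simp [DihedralGroup.r_one_pow]
  have hout : ∀ x : (T : Subgroup C), x ∉ K₀ → ∃ i, φ x = DihedralGroup.sr i := by
    intro x hx
    cases hφx : φ x with
    | r i => exact absurd (hK₀ ▸ (show φ x ∈ _ from hφx ▸ hrot i)) hx
    | sr i => exact ⟨i, rfl⟩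
  have hsq : ∀ x : (T : Subgroup C), x ∉ K₀ → x * x = 1 := by
    intro x hx
    obtain ⟨i, hi⟩ := hout x hx
    apply hφ
    rw [map_mul, map_one, hi, DihedralGroup.sr_mul_self]
  by_cases hTc : IsCyclic (T : Subgroup C)
  · exact CfsgLib.Case.index_oddCore_of_cyclic (T : Subgroup C) T.isPGroup' hTi hTc
  by_cases htop : K₀ = ⊤
  · refine CfsgLib.Case.index_oddCore_of_cyclic (T : Subgroup C) T.isPGroup' hTi ?_
    exact (Subgroup.topEquiv (G := (T : Subgroup C))).isCyclic.1 (htop ▸ hK₀cyc)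
  have hK₀i : K₀.index = 2 := by
    obtain ⟨a, ha⟩ : ∃ a, a ∉ K₀ := not_forall.1 fun h => htop (Subgroup.eq_top_iff' K₀ |>.2 h)
    refine Subgroup.index_eq_two_iff.2 ⟨a, fun b => ?_⟩
    by_cases hb : b ∈ K₀
    · exact Or.inr ⟨hb, fun h => ha (by simpa using mul_mem (inv_mem hb) h)⟩
    · refine Or.inl ⟨?_, hb⟩
      obtain ⟨i, hi⟩ := hout b hb
      obtain ⟨j, hj⟩ := hout a ha
      rw [hK₀, Subgroup.mem_comap, map_mul, hi, hj, DihedralGroup.sr_mul_sr]
      exact hrot _
  -- choose the cyclic subgroup containing t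
  obtain ⟨K, hKcyc, hKi, htK, hKsq⟩ : ∃ K : Subgroup (T : Subgroup C), IsCyclic K ∧ K.index = 2 ∧
      t' ∈ K ∧ ∀ x, x ∉ K → x * x = 1 := by
    by_cases htK₀ : t' ∈ K₀
    · exact ⟨K₀, hK₀cyc, hK₀i, htK₀, hsq⟩
    obtain ⟨j, hj⟩ := hout t' htK₀
    have hall : ∀ x : (T : Subgroup C), x * x = 1 := by
      intro x
      by_cases hx : x ∈ K₀
      · cases hφx : φ x with
        | r i =>
          apply hφ
          have h := congrArg φ (ht'c x)
          rw [map_mul, map_mul, hφx, hj, DihedralGroup.r_mul_sr, DihedralGroup.sr_mul_r,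
            DihedralGroup.sr.injEq] at h
          rw [map_mul, map_one, hφx, DihedralGroup.r_mul_r, DihedralGroup.one_def,
            DihedralGroup.r.injEq]
          linear_combination -h
        | sr i =>
          apply hφ
          rw [map_mul, map_one, hφx, DihedralGroup.sr_mul_self]
      · exact hsq x hx
    have hKcard : Nat.card K₀ ≤ 2 := by
      obtain ⟨g, hg⟩ := hK₀cyc.exists_ofOrder_eq_natCard
      rw [← hg]
      exact Nat.le_of_dvd two_pos (orderOf_dvd_of_pow_eq_one (Subtype.ext (by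
        rw [Subgroup.coe_pow, sq]; exact hall g)))
    have hz : Nat.card (Subgroup.zpowers t') = 2 := by rw [Nat.card_zpowers, hot]
    refine ⟨Subgroup.zpowers t', inferInstance, ?_, Subgroup.mem_zpowers t', fun x _ => hall x⟩
    have h1 := K₀.card_mul_index
    have h2 := (Subgroup.zpowers t').card_mul_index
    rw [hK₀i] at h1
    rw [hz] at h2
    have hpos : 0 < Nat.card K₀ := Nat.card_pos
    by_contra hne
    have hidx1 : (Subgroup.zpowers t').index = 1 := by omega
    have h3 : Nat.card K₀ = 1 := by omega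
    have h4 : Nat.card (T : Subgroup C) = 2 := by omega
    -- then T is generated by t', which lies outside K₀
    have : (Subgroup.zpowers t') = ⊤ := Subgroup.index_eq_one.1 hidx1
    exact hTc ((Subgroup.topEquiv (G := (T : Subgroup C))).isCyclic.1 (this ▸ inferInstance))
  refine CfsgLib.Case.index_oddCore_of_central_involution _ C rfl (T : Subgroup C)
    (K.map (T : Subgroup C).subtype) ⟨t, htC⟩ T.isPGroup' hTi (Subgroup.map_subtype_le K) ?_ ?_ ?_ ?_
    hcent ?_
  · rw [Subgroup.relIndex, Subgroup.subgroupOf,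
      Subgroup.comap_map_eq_self_of_injective (T : Subgroup C).subtype_injective]
    exact hKi
  · exact (K.equivMapOfInjective _ (T : Subgroup C).subtype_injective).isCyclic.1 hKcyc
  · exact ⟨t', htK, ht'⟩
  · rw [← Subgroup.orderOf_coe]; exact ht
  · intro x hx hx'
    exact congrArg Subtype.val (hKsq ⟨x, hx⟩ fun h => hx' ⟨_, h, rfl⟩)

end Cfsg.Agent.S0514
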