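import Cfsg.Statements.S0508
import Cfsg.Agent.Lib.FGS73.DihedralBSWSetup
import Cfsg.Agent.Lib.FGS73.DihedralBSWZass
import Cfsg.Agent.S3282

set_option autoImplicit false
open Cfsg

namespace Cfsg.Agent.S0508

/-- Let G be a finite simple group with a dihedral Sylow 2-subgroup S (of order at least 4), t an involution in the
centre of S, C the centralizer of t and O the core of C (its largest normal subgroup of odd order). Suppose that: if O
is nontrivial then the centralizer of O in S is cyclic of index 2 in S; every element of S not centralizing O inverts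
every element of O; and the normalizer of every nontrivial subgroup of O lies in C. Then G is isomorphic to a projective
special linear group of dimension 2 over a field of odd order. -/
theorem result {G : Type*} [Group G] [Finite G] [IsSimpleGroup G] (S : Sylow 2 G) (n : ℕ)
    (hn : 2 ≤ n) (hS : Nonempty ((S : Subgroup G) ≃* DihedralGroup n)) (t : G) (ht : orderOf t = 2)
    (htS : t ∈ (S : Subgroup G))
    (htZ : ∀ s ∈ (S : Subgroup G), s * t = t * s) (O : Subgroup G)
    (hO : O = (Cfsg.oddCore (Subgroup.centralizer ({t} : Set G))).map (Subgroup.centralizer ({t} : Set G)).subtype)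
    (ha : O ≠ ⊥ → IsCyclic ((S : Subgroup G) ⊓ Subgroup.centralizer (O : Set G) : Subgroup G) ∧
      ((S : Subgroup G) ⊓ Subgroup.centralizer (O : Set G)).relIndex (S : Subgroup G) = 2)
    (hb : ∀ s ∈ (S : Subgroup G), s ∉ Subgroup.centralizer (O : Set G) → ∀ y ∈ O, s * y * s⁻¹ = y⁻¹)
    (hc : ∀ Y : Subgroup G, Y ≤ O → Y ≠ ⊥ → Subgroup.normalizer (Y : Set G) ≤ Subgroup.centralizer ({t} : Set G)) :
    ∃ (F : Type) (_ : Field F) (_ : Fintype F), Odd (Fintype.card F) ∧ Nonempty (G ≃* Matrix.ProjectiveSpecialLinearGroup (Fin 2) F) := by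
  haveI := Fact.mk Nat.prime_two
  obtain ⟨R, H⟩ := CfsgLib.FGS73.DihBSW.exists_setup S n hn hS t ht htS htZ O hO ha hb hc
  obtain ⟨D⟩ := CfsgLib.TwoFusion.DihedralFusion.exists_dihGens S.isPGroup' hn hS.some
  have h4 : 4 ∣ Nat.card G := by
    refine dvd_trans ?_ (Subgroup.card_subgroup_dvd_card (S : Subgroup G))
    rw [D.card, pow_add]
    exact dvd_mul_left 4 _
  have hpos : 0 < Nat.card G := Nat.card_pos
  have hidx : ∀ U : Subgroup G, U.index ≠ 2 := by
    intro U hU
    haveI := Subgroup.normal_of_index_eq_two hU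
    rcases (inferInstance : U.Normal).eq_bot_or_eq_top with rfl | rfl
    · rw [Subgroup.index_bot] at hU
      have := Nat.le_of_dvd hpos h4
      omega
    · simp at hU
  have hns : ¬ Group.IsSolvable G := by
    intro hsol
    have hcomm : ∀ a b : G, a * b = b * a := by
      intro a b
      haveI := hsol
      exact IsSimpleGroup.comm_iff_isSolvable.2 inferInstance a b
    haveI : (Subgroup.zpowers t).Normal :=
      ⟨fun x hx g => by rwa [hcomm g x, mul_inv_cancel_right]⟩
    rcases (inferInstance : (Subgroup.zpowers t).Normal).eq_bot_or_eq_top with h | h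
    · rw [Subgroup.zpowers_eq_bot] at h
      rw [h, orderOf_one] at ht
      omega
    · have h2 : Nat.card G = 2 := by
        rw [← Subgroup.card_top (G := G), ← h, Nat.card_zpowers, ht]
      have := Nat.le_of_dvd hpos h4
      omega
  obtain ⟨s, hs, hsR⟩ := H.exists_notMem
  have hSp := S.isPGroup'
  have hs2 : orderOf s = 2 :=
    orderOf_eq_prime (by rw [sq, (H.inv_R s hs hsR).1]) (fun e => hsR (e ▸ R.one_mem))
  obtain ⟨Q, E, h1, h2, -, h3, h5, h6, -⟩ := Cfsg.Agent.S3282.result t ht H.K
    ⟨⟨fun x y => Subtype.ext (H.K_comm x x.2 y y.2)⟩⟩ H.K_le (H.R_le_K H.t_mem) s hs2 (H.S_le hs)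
    (H.s_notMem hSp hs hsR) (H.sup_eq hs hsR) (H.inf_cent hSp hs hsR) (H.inv_K hs hsR)
    (fun g hg => H.ti hSp hg)
    (fun x y hx hy => CfsgLib.TwoFusion.DihedralFusion.one_class_of_isConj D
      (CfsgLib.TwoFusion.DihedralFusion.isConj_z_of_no_index_two D hidx) hx hy)
  exact CfsgLib.FGS73.DihBSW.Local.exists_psl
    (⟨h1, h2, h3, h5, h6⟩ : CfsgLib.FGS73.DihBSW.Local Q E) hns

end Cfsg.Agent.S0508
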