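import Cfsg.Statements.S1475
import Cfsg.Agent.Lib.Counting.ThreePrimes

set_option autoImplicit false
open Cfsg

namespace Cfsg.Agent.S1475

/-- Let G be a finite solvable group such that the order of every element is a prime power (1 included). Then at most two distinct primes divide the order of G. -/
theorem result {G : Type*} [Group G] [Finite G] [Group.IsSolvable G] (h : ∀ g : G, IsPrimePow (orderOf g) ∨ g = 1) :
    (Nat.card G).primeFactors.card ≤ 2 := by
  by_contra hcon
  push Not at hcon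
  obtain ⟨a, b, c, ha, hb, hc, hab, hac, hbc⟩ := Finset.two_lt_card_iff.1 hcon
  rw [Nat.mem_primeFactors] at ha hb hc
  have key : ∀ {u v : ℕ}, u.Prime → v.Prime → u ≠ v → ∀ g : G, orderOf g ≠ u * v := by
    intro u v hu hv huv g hg
    rcases h g with hpp | rfl
    · obtain ⟨r, k, hr, -, hk⟩ := (isPrimePow_nat_iff _).1 hpp
      have h1 : u = r := (Nat.prime_dvd_prime_iff_eq hu hr).1
        (hu.dvd_of_dvd_pow (hk ▸ hg ▸ dvd_mul_right u v))
      have h2 : v = r := (Nat.prime_dvd_prime_iff_eq hv hr).1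
        (hv.dvd_of_dvd_pow (hk ▸ hg ▸ dvd_mul_left v u))
      exact huv (h1.trans h2.symm)
    · rw [orderOf_one] at hg
      exact hu.ne_one (Nat.eq_one_of_mul_eq_one_right hg.symm)
  obtain ⟨g, hg⟩ := CfsgLib.ThreePrimes.exists_adjacent (G := G) ha.1 hb.1 hc.1 hab hac hbc
    ha.2.1 hb.2.1 hc.2.1
  rcases hg with hg | hg | hg
  exacts [key ha.1 hb.1 hab g hg, key ha.1 hc.1 hac g hg, key hb.1 hc.1 hbc g hg]

end Cfsg.Agent.S1475
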