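import Cfsg.Statements.S0253
import Cfsg.Agent.Lib.Linear.Simple
import Cfsg.Agent.S0494

set_option autoImplicit false
open Cfsg

namespace Cfsg.Agent.S0253

/-- PSL_2(5) is isomorphic to A_5. -/
theorem result {F : Type*} [Field F] [Fintype F] (hF : Fintype.card F = 5) : Nonempty (Matrix.ProjectiveSpecialLinearGroup (Fin 2) F ≃* alternatingGroup (Fin 5)) := by
  have : IsSimpleGroup (Matrix.ProjectiveSpecialLinearGroup (Fin 2) F) :=
    CfsgLib.Linear.isSimpleGroup_PSL_fin 2 le_rfl fun _ => by rw [Nat.card_eq_fintype_card, hF]; norm_num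
  refine Cfsg.Agent.S0494.result ?_
  have h := CfsgLib.Linear.card_PSL_mul (n := Fin 2) (F := F)
  rw [CfsgLib.Linear.card_SL_two, hF, Fintype.card_fin, show Nat.gcd 2 (5 - 1) = 2 from rfl,
    show 5 * (5 ^ 2 - 1) = 120 from rfl] at h
  omega

end Cfsg.Agent.S0253
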