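import Cfsg.Statements.S0323
-- import your own Cfsg.Agent.* helpers here

set_option autoImplicit false
open scoped Pointwise
open Cfsg

namespace Cfsg.Agent.S0323

/-- A doubly transitive action on a set with at least three points yields a (B,N)-pair of rank one:
`B` is the stabiliser of a point `x`, `N` the setwise stabiliser of a pair `{x, y}`. -/
theorem result {G Ω : Type*} [Group G] [MulAction G Ω]
    (h2 : MulAction.IsMultiplyPretransitive G Ω 2) {x y z : Ω} (hxy : x ≠ y) (hyz : y ≠ z) (hxz : x ≠ z) :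
    ∃ P : Cfsg.BNPair G, P.B = MulAction.stabilizer G x ∧
      P.N = MulAction.stabilizer G ({x, y} : Set Ω) ∧ P.rank = 1 := by
  have h2' : ∀ {a b c d : Ω}, a ≠ b → c ≠ d → ∃ g : G, g • a = c ∧ g • b = d :=
    MulAction.is_two_pretransitive_iff.1 h2
  obtain ⟨s, hsx, hsy⟩ := h2' hxy hxy.symm
  set B := MulAction.stabilizer G x with hBdef
  set N := MulAction.stabilizer G ({x, y} : Set Ω) with hNdef
  have hN : ∀ g, g ∈ N ↔ (g • x = x ∧ g • y = y) ∨ (g • x = y ∧ g • y = x) := by
    intro g
    rw [hNdef, MulAction.mem_stabilizer_iff, Set.smul_set_insert, Set.smul_set_singleton,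
      Set.pair_eq_pair_iff]
  have hsN : s ∈ N := (hN s).2 (Or.inr ⟨hsx, hsy⟩)
  have hsB : s ∉ B := fun h => hxy (by rw [← hsx, MulAction.mem_stabilizer_iff.1 h])
  have hcell : ∀ g : G, g ∉ B → g ∈ DoubleCoset.doubleCoset s (B : Set G) B := by
    intro g hg
    obtain ⟨b, hbx, hby⟩ := h2' hxy (c := x) (d := g • x) (fun h => hg h.symm)
    refine DoubleCoset.mem_doubleCoset.2 ⟨b, hbx, (b * s)⁻¹ * g, ?_, by group⟩
    show ((b * s)⁻¹ * g) • x = x
    rw [mul_smul, inv_smul_eq_iff, mul_smul, hsx, hby]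
  have hBcell : ∀ {a g : G}, a ∈ B → g ∈ B → g ∈ DoubleCoset.doubleCoset a (B : Set G) B :=
    fun {a g} ha hg => DoubleCoset.mem_doubleCoset.2
      ⟨g * a⁻¹, mul_mem hg (inv_mem ha), 1, one_mem _, by group⟩
  have hcell' : ∀ {a g : G}, a ∉ B → g ∉ B → g ∈ DoubleCoset.doubleCoset a (B : Set G) B := by
    intro a g ha hg
    have h1 := hcell a ha
    rw [DoubleCoset.doubleCoset_eq_of_mem h1]
    exact hcell g hg
  have hout : ∀ {n : G}, n ∈ N → n ∉ B → n • x = y ∧ n • y = x := fun {n} hn hnB =>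
    ((hN n).1 hn).resolve_left fun h => hnB h.1
  refine ⟨{
    B := B, N := N, S := {s}
    sup_eq_top := ?_, conj_mem := ?_, subset := ?_, sq_mem := ?_, inj := ?_, closure_sup := ?_,
    mul_mem_union := ?_, conj_ne := ?_ }, rfl, rfl, ?_⟩
  · refine top_le_iff.1 fun g _ => ?_
    by_cases hg : g ∈ B
    · exact Subgroup.mem_sup_left hg
    · obtain ⟨b, hb, b', hb', rfl⟩ := DoubleCoset.mem_doubleCoset.1 (hcell g hg)
      exact mul_mem (mul_mem (Subgroup.mem_sup_left hb) (Subgroup.mem_sup_right hsN))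
        (Subgroup.mem_sup_left hb')
  · intro n hn t ht
    obtain ⟨htx, htN⟩ := ht
    have hty : t • y = y := by
      rcases (hN t).1 htN with h | h
      · exact h.2
      · exact absurd (h.1.symm.trans (MulAction.mem_stabilizer_iff.1 htx)).symm hxy
    show (n * t * n⁻¹) • x = x
    rcases (hN n⁻¹).1 (inv_mem hn) with h | h
    · rw [mul_smul, mul_smul, h.1, MulAction.mem_stabilizer_iff.1 htx]
      exact (inv_smul_eq_iff.1 h.1).symm
    · rw [mul_smul, mul_smul, h.1, hty]
      exact (inv_smul_eq_iff.1 h.1).symm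
  · exact Set.singleton_subset_iff.2 hsN
  · intro t ht
    rw [Set.mem_singleton_iff.1 ht]
    show (s * s) • x = x
    rw [mul_smul, hsx, hsy]
  · intro t ht t' ht' _
    rw [Set.mem_singleton_iff.1 ht, Set.mem_singleton_iff.1 ht']
  · refine le_antisymm (sup_le (Subgroup.closure_le _ |>.2 (Set.singleton_subset_iff.2 hsN))
      inf_le_right) fun n hn => ?_
    by_cases hnB : n ∈ B
    · exact Subgroup.mem_sup_right ⟨hnB, hn⟩
    · have h1 : s⁻¹ * n ∈ B := by
        show (s⁻¹ * n) • x = x
        rw [mul_smul, (hout hn hnB).1, inv_smul_eq_iff, hsx]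
      have : n = s * (s⁻¹ * n) := by group
      rw [this]
      exact mul_mem (Subgroup.mem_sup_left (Subgroup.subset_closure rfl))
        (Subgroup.mem_sup_right (Subgroup.mem_inf.2 ⟨h1, mul_mem (inv_mem hsN) hn⟩))
  · intro t ht n hn b hb
    rw [Set.mem_singleton_iff.1 ht]
    by_cases hnB : n ∈ B
    · left
      have hsn : s * n ∉ B := fun h => hsB (by simpa using mul_mem h (inv_mem hnB))
      exact hcell' hsn fun h =>
        hsB (by simpa [mul_assoc] using mul_mem h (inv_mem (mul_mem hb hnB)))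
    · have hsn : s * n ∈ B := by
        show (s * n) • x = x
        rw [mul_smul, (hout hn hnB).1, hsy]
      by_cases hg : s * b * n ∈ B
      · exact Or.inl (hBcell hsn hg)
      · exact Or.inr (hcell' hnB hg)
  · intro t ht he
    rw [Set.mem_singleton_iff.1 ht] at he
    obtain ⟨b, hbx, hby⟩ := h2' hxy hxz
    have h3 : s * b * s ∈ B := by
      have hmem : s * b * s ∈ (fun b : G => s * b * s) '' (B : Set G) := ⟨b, hbx, rfl⟩
      rwa [he] at hmem
    have h4 : (s * b * s) • x = x := h3
    rw [mul_smul, mul_smul, hsx, hby] at h4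
    apply hyz
    have h5 : s • z = s • y := by rw [h4, hsy]
    exact (MulAction.injective s h5).symm
  · exact Nat.card_unique (α := ({s} : Set G))

end Cfsg.Agent.S0323
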