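import Cfsg.Statements.S0857
import Cfsg.Agent.Lib.CharDeep.ChiefRestriction

set_option autoImplicit false
open Cfsg

namespace Cfsg.Agent.S0857

/-- Let L < K be normal subgroups of the finite group G with no normal subgroup of G strictly between them and with K / L abelian (the commutator subgroup of K lies in L). Let ϑ be an irreducible character of K invariant under conjugation by G. Then the restriction of ϑ to L is irreducible; or it equals e times an irreducible character of L with e ^ 2 equal to the index of L in K; or it is the sum of a family of pairwise distinct irreducible characters of L indexed by a set whose size is the index of L in K. -/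
theorem result {G : Type*} [Group G] [Fintype G] (K L : Subgroup G) [hK : K.Normal] [L.Normal] (hLK : L < K) (hchief : ∀ M : Subgroup G, M.Normal → L ≤ M → M ≤ K → M = L ∨ M = K) (hab : ⁅K, K⁆ ≤ L) (ϑ : K → ℂ) (hϑ : Cfsg.IsIrrCharacter K ϑ) (hinv : ∀ (g : G) (n : K), ϑ ⟨g * n * g⁻¹, hK.conj_mem (n : G) n.2 g⟩ = ϑ n) : Cfsg.IsIrrCharacter L (fun x : L => ϑ ⟨(x : G), hLK.le x.2⟩) ∨ (∃ (φ : L → ℂ) (e : ℕ), Cfsg.IsIrrCharacter L φ ∧ (fun x : L => ϑ ⟨(x : G), hLK.le x.2⟩) = (e : ℂ) • φ ∧ e ^ 2 = L.relIndex K) ∨ (∃ F : Finset (L → ℂ), (∀ φ ∈ F, Cfsg.IsIrrCharacter L φ) ∧ F.card = L.relIndex K ∧ (fun x : L => ϑ ⟨(x : G), hLK.le x.2⟩) = ∑ φ ∈ F, φ) := by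
  classical
  have := Fintype.ofFinite K
  let L' : Subgroup K := L.subgroupOf K
  have := Fintype.ofFinite L'
  have := Fintype.ofFinite L
  let e : L' ≃* L := Subgroup.subgroupOfEquivOfLe hLK.le
  have hab' : ∀ a b : K, a * b * a⁻¹ * b⁻¹ ∈ L' := fun a b =>
    hab (Subgroup.commutator_mem_commutator a.2 b.2)
  have hchief' : ∀ M : Subgroup K, L' ≤ M →
      (∀ g : G, ∀ x ∈ M, (MulAut.conjNormal (H := K) g) x ∈ M) → M = L' ∨ M = ⊤ := by
    intro M hM hMi
    have hn : (M.map K.subtype).Normal := ⟨by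
      rintro _ ⟨x, hx, rfl⟩ g
      exact ⟨_, hMi g x hx, rfl⟩⟩
    rcases hchief (M.map K.subtype) hn (fun l hl => ⟨⟨l, hLK.le hl⟩, hM hl, rfl⟩)
      (Subgroup.map_subtype_le M) with h | h
    · refine Or.inl (le_antisymm (fun x hx => ?_) hM)
      show (x : G) ∈ L
      exact h ▸ ⟨x, hx, rfl⟩
    · refine Or.inr (eq_top_iff.2 fun x _ => ?_)
      obtain ⟨y, hy, hxy⟩ : (x : G) ∈ M.map K.subtype := h.symm ▸ x.2
      rwa [← Subtype.ext hxy]
  rcases CfsgLib.CharDeep.Chief.trichotomy L' hab' (fun g : G => MulAut.conjNormal (H := K) g)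
    (fun g x hx => Subgroup.Normal.conj_mem ‹L.Normal› _ hx g) hchief' hϑ (fun g x => hinv g x)
    with h | ⟨φ, n, hφ, h1, h2⟩ | ⟨F, hF, hcard, h1⟩
  · exact Or.inl (CfsgLib.CharTwist.isIrrCharacter_comp_equiv h e.symm)
  · refine Or.inr (Or.inl ⟨φ ∘ e.symm, n, CfsgLib.CharTwist.isIrrCharacter_comp_equiv hφ e.symm,
      ?_, h2⟩)
    funext x
    exact congrFun h1 (e.symm x)
  · refine Or.inr (Or.inr ⟨F.image (fun f => f ∘ e.symm), ?_, ?_, ?_⟩)
    · intro f hf
      obtain ⟨f, hf', rfl⟩ := Finset.mem_image.1 hf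
      exact CfsgLib.CharTwist.isIrrCharacter_comp_equiv (hF f hf') e.symm
    · rw [Finset.card_image_of_injective _ e.symm.surjective.injective_comp_right]
      exact hcard
    · rw [Finset.sum_image e.symm.surjective.injective_comp_right.injOn]
      funext x
      have h3 := congrFun h1 (e.symm x)
      simp only [Finset.sum_apply] at h3 ⊢
      exact h3

end Cfsg.Agent.S0857
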