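import Cfsg.Statements.S0849
import Cfsg.Agent.Lib.Char.Induced
import Mathlib

set_option autoImplicit false
open Cfsg

namespace Cfsg.Agent.S0849

/-- Let H be a subgroup of a finite group G and S a subset of H that is mapped to itself under conjugation by H, is disjoint from its conjugate by any element outside H, and is closed under inverses. Let φ be a class function of H vanishing on H away from S, and let u, v be involutions of G. Then the sum of the induced function of φ over all products a * b with a conjugate to u and b conjugate to v equals the index of H times the sum of φ (a * b) over such pairs with a and b in H. -/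
theorem result {G : Type*} [Group G] [Fintype G] (H : Subgroup G) (S : Set G) (hSH : S ⊆ H) (hHS : ∀ h ∈ H, ∀ s ∈ S, h * s * h⁻¹ ∈ S) (hTI : ∀ g : G, g ∉ H → ∀ s ∈ S, g * s * g⁻¹ ∉ S) (hinv : ∀ s ∈ S, s⁻¹ ∈ S) (φ : H → ℂ) (hφ : Cfsg.IsClassFunction H φ) (hφS : ∀ x : H, (x : G) ∉ S → φ x = 0) (u v : G) (hu : orderOf u = 2) (hv : orderOf v = 2) : ∑ᶠ p ∈ {p : G × G | IsConj u p.1 ∧ IsConj v p.2}, Cfsg.indFun H φ (p.1 * p.2) = (H.index : ℂ) * ∑ᶠ p ∈ {p : H × H | IsConj u (p.1 : G) ∧ IsConj v (p.2 : G)}, φ (p.1 * p.2) := by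
  classical
  simp only [finsum_eq_sum_of_fintype, finsum_eq_if, Set.mem_setOf_eq,
    ← Finset.sum_filter]
  set P := (Finset.univ : Finset (G × G)).filter (fun p => IsConj u p.1 ∧ IsConj v p.2)
  set PH := (Finset.univ : Finset (H × H)).filter (fun p => IsConj u (p.1 : G) ∧ IsConj v (p.2 : G))
  have hshift : ∀ x : G, ∑ p ∈ P, Cfsg.extendByZero H φ (x⁻¹ * (p.1 * p.2) * x) =
      ∑ p ∈ P, Cfsg.extendByZero H φ (p.1 * p.2) := by
    intro x
    refine Finset.sum_equiv ((MulAut.conj x⁻¹).toEquiv.prodCongr (MulAut.conj x⁻¹).toEquiv) ?_ ?_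
    · rintro ⟨a, b⟩
      have hab : ∀ c a : G, IsConj c a ↔ IsConj c (x⁻¹ * a * x) := fun c a =>
        ⟨fun e => e.trans (isConj_iff.2 ⟨x⁻¹, by group⟩),
          fun e => e.trans (isConj_iff.2 ⟨x, by group⟩)⟩
      simp only [P, Finset.mem_filter, Finset.mem_univ, true_and, Equiv.prodCongr_apply, Prod.map_apply,
        MulEquiv.toEquiv_eq_coe, EquivLike.coe_coe, MulAut.conj_apply, inv_inv, ← hab]
    · rintro ⟨a, b⟩ -
      simp only [Equiv.prodCongr_apply, Prod.map_apply, MulEquiv.toEquiv_eq_coe, EquivLike.coe_coe,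
        MulAut.conj_apply, inv_inv]
      congr 1
      group
  simp only [CfsgLib.Char.indFun_apply, ← Finset.mul_sum]
  rw [Finset.sum_comm, Finset.sum_congr rfl (fun x _ => hshift x), Finset.sum_const, Finset.card_univ,
    nsmul_eq_mul, ← mul_assoc]
  have hidx : (Nat.card H : ℂ)⁻¹ * (Fintype.card G : ℂ) = (H.index : ℂ) := by
    rw [← Nat.card_eq_fintype_card, ← H.card_mul_index, Nat.cast_mul, ← mul_assoc,
      inv_mul_cancel₀ (Nat.cast_ne_zero.2 Nat.card_pos.ne'), one_mul]
  rw [hidx]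
  congr 1
  refine (Finset.sum_of_injOn (fun p : H × H => ((p.1 : G), (p.2 : G))) ?_ ?_ ?_ ?_).symm
  · intro a _ b _ h
    simp only [Prod.mk.injEq] at h
    exact Prod.ext (Subtype.ext h.1) (Subtype.ext h.2)
  · intro p hp
    simpa [P, PH] using hp
  · intro p hp hnot
    by_contra hne
    apply hnot
    have hmem : p.1 * p.2 ∈ H := by
      by_contra h
      exact hne (CfsgLib.Char.extendByZero_of_notMem H φ h)
    have hS : p.1 * p.2 ∈ S := by
      by_contra h
      exact hne (by rw [CfsgLib.Char.extendByZero_apply_mem H φ hmem]; exact hφS _ h)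
    obtain ⟨-, h1, h2⟩ := Finset.mem_filter.1 hp
    have hsq : ∀ {c a : G}, orderOf c = 2 → IsConj c a → a * a = 1 := by
      intro c a hc h
      obtain ⟨g, rfl⟩ := isConj_iff.1 h
      rw [show g * c * g⁻¹ * (g * c * g⁻¹) = g * (c * c) * g⁻¹ by group, ← sq, ← hc, pow_orderOf_eq_one]
      group
    have ha := hsq hu h1
    have hb := hsq hv h2
    have hpH : p.1 ∈ H := by
      by_contra h
      refine hTI p.1 h _ hS ?_
      have e : p.1 * (p.1 * p.2) * p.1⁻¹ = (p.1 * p.2)⁻¹ := by
        rw [mul_inv_rev, ← mul_assoc, ha, one_mul, inv_eq_of_mul_eq_one_right hb]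
      rw [e]
      exact hinv _ hS
    have hqH : p.2 ∈ H := by
      have := H.mul_mem (H.inv_mem hpH) hmem
      rwa [inv_mul_cancel_left] at this
    exact ⟨(⟨p.1, hpH⟩, ⟨p.2, hqH⟩), Finset.mem_coe.2 (Finset.mem_filter.2 ⟨Finset.mem_univ _, h1, h2⟩), rfl⟩
  · intro p _
    exact (CfsgLib.Char.extendByZero_coe H φ (p.1 * p.2)).symm

end Cfsg.Agent.S0849
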