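import Cfsg.Statements.S3681
-- import your own Cfsg.Agent.* helpers here

set_option autoImplicit false
open Cfsg

namespace Cfsg.Agent.S3681

theorem commutator_isThreeCycle {α : Type*} [Fintype α] [DecidableEq α] (σ τ : Equiv.Perm α) (γ : α)
    (h : ∀ x, σ x ≠ x → τ x ≠ x → x = γ) (hσ : σ γ ≠ γ) (hτ : τ γ ≠ γ) :
    (σ * τ * σ⁻¹ * τ⁻¹).IsThreeCycle := by
  have fixτ : ∀ x, σ x ≠ x → x ≠ γ → τ x = x := fun x hx hne => not_not.1 fun ht => hne (h x hx ht)
  have fixσ : ∀ x, τ x ≠ x → x ≠ γ → σ x = x := fun x hx hne => not_not.1 fun hs => hne (h x hs hx)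
  have hτσγ : τ (σ γ) = σ γ := fixτ _ (fun e => hσ (σ.injective e)) hσ
  have hστγ : σ (τ γ) = τ γ := fixσ _ (fun e => hτ (τ.injective e)) hτ
  have hne : σ γ ≠ τ γ := fun e => hσ (σ.injective (by rw [e]; exact hστγ.trans e.symm ▸ e ▸ rfl))
  have hc : ∀ x, (σ * τ * σ⁻¹ * τ⁻¹) x = σ (τ (σ⁻¹ (τ⁻¹ x))) := fun x => rfl
  have c1 : (σ * τ * σ⁻¹ * τ⁻¹) γ = σ γ := by
    rw [hc]
    obtain ⟨y, hy⟩ : ∃ y, τ⁻¹ γ = y := ⟨_, rfl⟩
    have hy' : τ y = γ := by simp [← hy]
    have hyγ : y ≠ γ := fun e => hτ (by rw [e] at hy'; exact hy')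
    have : σ y = y := fixσ y (by rw [hy']; exact hyγ.symm) hyγ
    have : σ⁻¹ y = y := by rw [Equiv.Perm.inv_def]; exact σ.symm_apply_eq.2 this.symm
    rw [hy, this, hy']
  have c2 : (σ * τ * σ⁻¹ * τ⁻¹) (σ γ) = τ γ := by
    rw [hc]
    have : τ⁻¹ (σ γ) = σ γ := by rw [Equiv.Perm.inv_def]; exact τ.symm_apply_eq.2 hτσγ.symm
    rw [this, Equiv.Perm.inv_def, Equiv.symm_apply_apply, hστγ]
  have c3 : (σ * τ * σ⁻¹ * τ⁻¹) (τ γ) = γ := by
    rw [hc]
    obtain ⟨y, hy⟩ : ∃ y, σ⁻¹ γ = y := ⟨_, rfl⟩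
    have hy' : σ y = γ := by simp [← hy]
    have hyγ : y ≠ γ := fun e => hσ (by rw [e] at hy'; exact hy')
    have : τ y = y := fixτ y (by rw [hy']; exact hyγ.symm) hyγ
    have e1 : τ⁻¹ (τ γ) = γ := by simp
    rw [e1, hy, this, hy']
  rw [← card_support_eq_three_iff]
  have : (σ * τ * σ⁻¹ * τ⁻¹).support = {γ, σ γ, τ γ} := by
    ext x
    simp only [Equiv.Perm.mem_support, Finset.mem_insert, Finset.mem_singleton]
    constructor
    · intro hx
      by_contra hcon
      simp only [not_or] at hcon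
      obtain ⟨h1, h2, h3⟩ := hcon
      apply hx
      rw [hc]
      obtain ⟨y, hy⟩ : ∃ y, τ⁻¹ x = y := ⟨_, rfl⟩
      have hy' : τ y = x := by simp [← hy]
      rw [hy]
      by_cases hs : σ x = x
      · have hsi : σ⁻¹ x = x := by rw [Equiv.Perm.inv_def]; exact σ.symm_apply_eq.2 hs.symm
        by_cases hyx : y = x
        · subst hyx; rw [hsi, hy', hs]
        · have hyγ : y ≠ γ := fun e => h3 (by rw [← e, hy'])
          have hsy : σ y = y := fixσ y (by rw [hy']; exact Ne.symm hyx) hyγ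
          have : σ⁻¹ y = y := by rw [Equiv.Perm.inv_def]; exact σ.symm_apply_eq.2 hsy.symm
          rw [this, hy', hs]
      · have htx : τ x = x := fixτ x hs h1
        have hyx : y = x := τ.injective (hy'.trans htx.symm)
        subst hyx
        obtain ⟨z, hz⟩ : ∃ z, σ⁻¹ y = z := ⟨_, rfl⟩
        have hz' : σ z = y := by simp [← hz]
        have hzγ : z ≠ γ := fun e => h2 (by rw [← e, hz'])
        have hzy : z ≠ y := fun e => hs (by rw [e] at hz'; exact hz')
        have : τ z = z := fixτ z (by rw [hz']; exact hzy.symm) hzγ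
        rw [hz, this, hz']
    · rintro (rfl | rfl | rfl)
      · rw [c1]; exact hσ
      · rw [c2]; exact hne.symm
      · rw [c3]; exact hτ.symm
  rw [this]
  exact Finset.card_eq_three.2 ⟨_, _, _, hσ.symm, hτ.symm, hne, rfl⟩


/-- Bochert's bound for primitive groups. Let a finite group G act faithfully and primitively on a finite set Ω with n elements, and suppose the image of G in the symmetric group of Ω does not contain the alternating group of Ω. Then |G| · ⌊(n + 1)/2⌋! ≤ n!, that is, the index of G in the symmetric group is at least ⌊(n + 1)/2⌋!. -/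
theorem result {G Ω : Type*} [Group G] [Finite G] [MulAction G Ω] [FaithfulSMul G Ω] [Fintype Ω] [DecidableEq Ω]
    (hprim : MulAction.IsPreprimitive G Ω) (hA : ¬ alternatingGroup Ω ≤ (MulAction.toPermHom G Ω).range) :
    Nat.card G * Nat.factorial ((Fintype.card Ω + 1) / 2) ≤ Nat.factorial (Fintype.card Ω) := by
  classical
  have hex : ∃ m, ∃ Γ : Finset Ω, Γ.card = m ∧ ∀ g : G, (∀ x ∈ Γ, g • x = x) → g = 1 :=
    ⟨_, Finset.univ, rfl, fun g hg => FaithfulSMul.eq_of_smul_eq_smul (α := Ω) fun x => by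
      rw [hg x (Finset.mem_univ x), one_smul]⟩
  obtain ⟨Γ, hΓm, hΓ⟩ := Nat.find_spec hex
  have hmin : ∀ Δ : Finset Ω, (∀ g : G, (∀ x ∈ Δ, g • x = x) → g = 1) → Γ.card ≤ Δ.card :=
    fun Δ hΔ => hΓm ▸ Nat.find_min' hex ⟨Δ, rfl, hΔ⟩
  have hcomp : ∀ g : G, (∀ x ∈ Γᶜ, g • x = x) → g = 1 := by
    intro h hh
    by_contra hne
    obtain ⟨γ, hγ⟩ : ∃ γ : Ω, h • γ ≠ γ := by
      by_contra hcon
      push Not at hcon
      exact hne (FaithfulSMul.eq_of_smul_eq_smul (α := Ω) fun x => by rw [hcon x, one_smul])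
    have hγΓ : γ ∈ Γ := by
      by_contra hn
      exact hγ (hh γ (Finset.mem_compl.2 hn))
    obtain ⟨g, hg, hg1⟩ : ∃ g : G, (∀ x ∈ Γ.erase γ, g • x = x) ∧ g ≠ 1 := by
      by_contra hcon
      push Not at hcon
      have := hmin _ hcon
      rw [Finset.card_erase_of_mem hγΓ] at this
      have := Finset.card_pos.2 ⟨γ, hγΓ⟩
      omega
    have hgγ : g • γ ≠ γ := fun e => hg1 (hΓ g fun x hx => by
      by_cases hxγ : x = γ
      · rw [hxγ, e]
      · exact hg x (Finset.mem_erase.2 ⟨hxγ, hx⟩))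
    set f := MulAction.toPermHom G Ω
    have h3 : (f h * f g * (f h)⁻¹ * (f g)⁻¹).IsThreeCycle := by
      refine commutator_isThreeCycle (f h) (f g) γ (fun x hx1 hx2 => ?_) hγ hgγ
      by_contra hxγ
      have hxΓ : x ∈ Γ := by
        by_contra hn
        exact hx1 (hh x (Finset.mem_compl.2 hn))
      exact hx2 (hg x (Finset.mem_erase.2 ⟨hxγ, hxΓ⟩))
    have hmem : f h * f g * (f h)⁻¹ * (f g)⁻¹ ∈ f.range :=
      ⟨h * g * h⁻¹ * g⁻¹, by simp [map_mul, map_inv]⟩
    have hpr : MulAction.IsPreprimitive f.range Ω := by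
      let ι : Ω →ₑ[f.rangeRestrict] Ω := ⟨id, fun _ _ => rfl⟩
      exact (MulAction.isPreprimitive_congr (φ := f.rangeRestrict) (f := ι)
        f.rangeRestrict_surjective Function.bijective_id).1 hprim
    exact hA (Equiv.Perm.alternatingGroup_le_of_isPreprimitive_of_isThreeCycle_mem hpr h3 hmem)
  have hm : Γ.card + Γ.card ≤ Fintype.card Ω := by
    have := hmin _ hcomp
    rw [Finset.card_compl] at this
    have := Finset.card_le_univ Γ
    omega
  have hinj : Function.Injective (fun g : G => (⟨fun x : Γ => g • (x : Ω),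
      fun x y hxy => Subtype.ext (MulAction.injective g hxy)⟩ : Γ ↪ Ω)) := by
    intro g₁ g₂ he
    have : g₂⁻¹ * g₁ = 1 := hΓ _ fun x hx => by
      have h1 := DFunLike.congr_fun he ⟨x, hx⟩
      replace h1 : g₁ • x = g₂ • x := h1
      rw [mul_smul, h1, inv_smul_smul]
    exact (inv_mul_eq_one.1 this).symm
  have hG := Nat.card_le_card_of_injective _ hinj
  rw [Nat.card_eq_fintype_card (α := Γ ↪ Ω), Fintype.card_embedding_eq, Fintype.card_coe] at hG
  calc Nat.card G * Nat.factorial ((Fintype.card Ω + 1) / 2)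
      ≤ (Fintype.card Ω).descFactorial Γ.card * Nat.factorial (Fintype.card Ω - Γ.card) :=
        Nat.mul_le_mul hG (Nat.factorial_le (by omega))
    _ = Nat.factorial (Fintype.card Ω) := by
        rw [Nat.mul_comm, Nat.factorial_mul_descFactorial (Finset.card_le_univ _)]

end Cfsg.Agent.S3681
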