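import Cfsg.Statements.S4034
import Cfsg.Agent.Lib.FGS73.Conj
import Cfsg.Agent.Lib.PGroup.Basic
import Cfsg.Agent.Lib.Char.Burnside
import Cfsg.Agent.Lib.Solvable.Hall
import Cfsg.Agent.Lib.Solvable.Core
import Cfsg.Agent.Lib.ClassSize.SylowCentralizer


set_option autoImplicit false
open Cfsg

namespace Cfsg.Agent.S4034
open scoped Pointwise

theorem exists_coprime_preimage {G : Type*} [Group G] [Finite G] {p : ℕ} (hp : p.Prime) (N : Subgroup G) [N.Normal]
    (y : G ⧸ N) (hy : (orderOf y).Coprime p) :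
    ∃ x : G, (orderOf x).Coprime p ∧ Subgroup.zpowers (x : G ⧸ N) = Subgroup.zpowers y := by
  induction y using QuotientGroup.induction_on with
  | H x0 =>
    obtain ⟨a, m, hm, ham⟩ := Nat.exists_eq_pow_mul_and_not_dvd (orderOf_pos x0).ne' p hp.ne_one
    refine ⟨x0 ^ p ^ a, ?_, ?_⟩
    · rw [orderOf_pow_of_dvd (pow_ne_zero a hp.ne_zero) (ham ▸ dvd_mul_right _ _), ham,
        Nat.mul_div_cancel_left _ (pow_pos hp.pos a)]
      exact (hp.coprime_iff_not_dvd.2 hm).symm
    · refine Subgroup.eq_of_le_of_card_ge ?_ ?_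
      · rw [Subgroup.zpowers_le, QuotientGroup.mk_pow]
        exact pow_mem (Subgroup.mem_zpowers _) _
      · rw [Nat.card_zpowers, Nat.card_zpowers, QuotientGroup.mk_pow]
        rw [Nat.Coprime.orderOf_pow (hy.pow_right a)]

theorem prime_simple {G : Type*} [Group G] [Finite G] [IsSimpleGroup G] {p : ℕ} (hp : p.Prime)
    (h : ∀ x : G, (orderOf x).Coprime p → ∃ k : ℕ, (Subgroup.centralizer ({x} : Set G)).index = p ^ k) :
    Group.IsSolvable G := by
  haveI := Fact.mk hp
  by_cases hpg : IsPGroup p G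
  · haveI := hpg.isNilpotent
    infer_instance
  obtain ⟨x, hx1, hx⟩ : ∃ x : G, x ≠ 1 ∧ (orderOf x).Coprime p := by
    by_contra hno
    push Not at hno
    apply hpg
    intro g
    obtain ⟨a, m, hm, ham⟩ := Nat.exists_eq_pow_mul_and_not_dvd (orderOf_pos g).ne' p hp.ne_one
    refine ⟨a, ?_⟩
    by_contra hne
    refine hno _ hne ?_
    rw [orderOf_pow_of_dvd (pow_ne_zero a hp.ne_zero) (ham ▸ dvd_mul_right _ _), ham,
      Nat.mul_div_cancel_left _ (pow_pos hp.pos a)]
    exact (hp.coprime_iff_not_dvd.2 hm).symm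
  obtain ⟨k, hk⟩ := h x hx
  have hprime := CfsgLib.Char.card_prime_of_prime_pow_class p k hp x hx1 hk
  haveI := Fact.mk hprime
  haveI : IsCyclic G := isCyclic_of_prime_card (p := Nat.card G) rfl
  exact Group.isSolvable_of_comm fun a b => IsMulCommutative.is_comm.comm a b

theorem isSolvable_of_classes (n : ℕ) (p : ℕ) (hp : p.Prime) : ∀ (G : Type _) [Group G] [Finite G], Nat.card G = n →
    (∀ x : G, (orderOf x).Coprime p → ∃ k : ℕ, (Subgroup.centralizer ({x} : Set G)).index = p ^ k) →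
    Group.IsSolvable G := by
  induction n using Nat.strong_induction_on with
  | _ n ih => ?_
  intro G _ _ hn h
  rcases subsingleton_or_nontrivial G with hG | hG
  · infer_instance
  by_cases hs : IsSimpleGroup G
  · exact prime_simple hp h
  obtain ⟨N, hN, hNb, hNt⟩ : ∃ N : Subgroup G, N.Normal ∧ N ≠ ⊥ ∧ N ≠ ⊤ := by
    by_contra hno
    push Not at hno
    exact hs ⟨fun H hH => or_iff_not_imp_left.2 fun hb => hno H hH hb⟩
  haveI := hN
  have hNlt : Nat.card N < n := hn ▸ lt_of_le_of_ne (Nat.le_of_dvd Nat.card_pos (Subgroup.card_subgroup_dvd_card N))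
    (fun he => hNt (Subgroup.eq_top_of_card_eq N he))
  have hQlt : Nat.card (G ⧸ N) < n := by
    rw [← hn, ← Subgroup.index_eq_card, ← Subgroup.index_bot (G := G)]
    exact Subgroup.index_strictAnti (bot_lt_iff_ne_bot.2 hNb)
  haveI : Group.IsSolvable N := ih _ hNlt N rfl (fun x hx => by
    obtain ⟨k, hk⟩ := h x (by rwa [Subgroup.orderOf_coe])
    have h1 : (Subgroup.centralizer ({x} : Set N)) = (Subgroup.centralizer ({(x : G)} : Set G)).subgroupOf N := by
      ext y
      rw [Subgroup.mem_subgroupOf, Subgroup.mem_centralizer_singleton_iff, Subgroup.mem_centralizer_singleton_iff,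
        Subtype.ext_iff]
      rfl
    have h2 := CfsgLib.PGroup.relIndex_dvd_index_normal_right (Subgroup.centralizer ({(x : G)} : Set G)) N
    rw [Subgroup.relIndex, ← h1, hk] at h2
    obtain ⟨i, -, hi⟩ := (Nat.dvd_prime_pow hp).1 h2
    exact ⟨i, hi⟩)
  haveI : Group.IsSolvable (G ⧸ N) := ih _ hQlt (G ⧸ N) rfl (fun y hy => by
    obtain ⟨x, hx, hxy⟩ := exists_coprime_preimage hp N y hy
    obtain ⟨k, hk⟩ := h x hx
    have h1 : (Subgroup.centralizer ({x} : Set G)).map (QuotientGroup.mk' N) ≤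
        Subgroup.centralizer ({y} : Set (G ⧸ N)) := by
      rintro _ ⟨c, hc, rfl⟩
      rw [Subgroup.mem_centralizer_singleton_iff]
      obtain ⟨j, hj⟩ := Subgroup.mem_zpowers_iff.1 (hxy ▸ Subgroup.mem_zpowers y : y ∈ Subgroup.zpowers (x : G ⧸ N))
      rw [← hj]
      have hcx : Commute ((QuotientGroup.mk' N) c) (x : G ⧸ N) := by
        have := congrArg (QuotientGroup.mk' N) (Subgroup.mem_centralizer_singleton_iff.1 hc)
        rwa [map_mul, map_mul] at this
      exact (hcx.zpow_right j).eq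
    have h2 := (Subgroup.index_dvd_of_le h1).trans
      (Subgroup.index_map_dvd _ (QuotientGroup.mk'_surjective N))
    rw [hk] at h2
    obtain ⟨i, -, hi⟩ := (Nat.dvd_prime_pow hp).1 h2
    exact ⟨i, hi⟩)
  exact Group.isSolvable_of_ker_le_range N.subtype (QuotientGroup.mk' N) (by simp)

theorem isSolvable_of_complement (n : ℕ) (p : ℕ) (hp : p.Prime) : ∀ (G : Type _) [Group G] [Finite G], Nat.card G = n →
    (∃ H : Subgroup G, IsMulCommutative H ∧ ¬ p ∣ Nat.card H ∧ ∃ k : ℕ, H.index = p ^ k) →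
    Group.IsSolvable G := by
  induction n using Nat.strong_induction_on with
  | _ n ih => ?_
  rintro G _ _ hn ⟨H, hHc, hHp, k, hHk⟩
  haveI := Fact.mk hp
  rcases subsingleton_or_nontrivial G with hG | hG
  · infer_instance
  by_cases hs : IsSimpleGroup G
  · by_cases hHb : H = ⊥
    · rw [hHb, Subgroup.index_bot] at hHk
      haveI := (IsPGroup.of_card hHk).isNilpotent
      infer_instance
    obtain ⟨x, hxH, hx1⟩ := (Subgroup.bot_or_exists_ne_one H).resolve_left hHb
    have hle : H ≤ Subgroup.centralizer ({x} : Set G) := fun y hy =>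
      Subgroup.mem_centralizer_singleton_iff.2
        (congrArg Subtype.val ((IsMulCommutative.is_comm (M := H)).comm ⟨y, hy⟩ ⟨x, hxH⟩))
    have h2 := Subgroup.index_dvd_of_le hle
    rw [hHk] at h2
    obtain ⟨i, -, hi⟩ := (Nat.dvd_prime_pow hp).1 h2
    have hprime := CfsgLib.Char.card_prime_of_prime_pow_class p i hp x hx1 hi
    haveI := Fact.mk hprime
    haveI : IsCyclic G := isCyclic_of_prime_card (p := Nat.card G) rfl
    exact Group.isSolvable_of_comm fun a b => IsMulCommutative.is_comm.comm a b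
  obtain ⟨N, hN, hNb, hNt⟩ : ∃ N : Subgroup G, N.Normal ∧ N ≠ ⊥ ∧ N ≠ ⊤ := by
    by_contra hno
    push Not at hno
    exact hs ⟨fun H hH => or_iff_not_imp_left.2 fun hb => hno H hH hb⟩
  haveI := hN
  have hNlt : Nat.card N < n := hn ▸ lt_of_le_of_ne (Nat.le_of_dvd Nat.card_pos (Subgroup.card_subgroup_dvd_card N))
    (fun he => hNt (Subgroup.eq_top_of_card_eq N he))
  have hQlt : Nat.card (G ⧸ N) < n := by
    rw [← hn, ← Subgroup.index_eq_card, ← Subgroup.index_bot (G := G)]
    exact Subgroup.index_strictAnti (bot_lt_iff_ne_bot.2 hNb)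
  haveI : Group.IsSolvable N := ih _ hNlt N rfl (by
    refine ⟨H.subgroupOf N, ⟨⟨fun a b => Subtype.ext (Subtype.ext (show ((a : N) : G) * (b : N) = (b : N) * (a : N) from
      congrArg Subtype.val ((IsMulCommutative.is_comm (M := H)).comm ⟨_, a.2⟩ ⟨_, b.2⟩)))⟩⟩, fun hd => hHp (hd.trans ?_), ?_⟩
    · exact Subgroup.card_comap_dvd_of_injective H N.subtype N.subtype_injective
    · have h2 := CfsgLib.PGroup.relIndex_dvd_index_normal_right H N
      rw [hHk] at h2
      obtain ⟨i, -, hi⟩ := (Nat.dvd_prime_pow hp).1 h2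
      exact ⟨i, hi⟩)
  haveI : Group.IsSolvable (G ⧸ N) := ih _ hQlt (G ⧸ N) rfl (by
    refine ⟨H.map (QuotientGroup.mk' N), ⟨⟨?_⟩⟩, fun hd => hHp (hd.trans (Subgroup.card_map_dvd _ _)), ?_⟩
    · rintro ⟨_, a, ha, rfl⟩ ⟨_, b, hb, rfl⟩
      refine Subtype.ext ?_
      show QuotientGroup.mk' N a * QuotientGroup.mk' N b = QuotientGroup.mk' N b * QuotientGroup.mk' N a
      rw [← map_mul, ← map_mul,
        show a * b = b * a from congrArg Subtype.val ((IsMulCommutative.is_comm (M := H)).comm ⟨a, ha⟩ ⟨b, hb⟩)]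
    · have h2 := Subgroup.index_map_dvd H (QuotientGroup.mk'_surjective N)
      rw [hHk] at h2
      obtain ⟨i, -, hi⟩ := (Nat.dvd_prime_pow hp).1 h2
      exact ⟨i, hi⟩)
  exact Group.isSolvable_of_ker_le_range N.subtype (QuotientGroup.mk' N) (by simp)

theorem abelian_complement {G : Type*} [Group G] [Finite G] [Group.IsSolvable G] (p : ℕ) (hp : p.Prime)
    (h : ∀ x : G, (orderOf x).Coprime p → ∃ k : ℕ, (Subgroup.centralizer ({x} : Set G)).index = p ^ k) :
    ∃ H : Subgroup G, IsMulCommutative H ∧ ¬ p ∣ Nat.card H ∧ ∃ k : ℕ, H.index = p ^ k := by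
  haveI := Fact.mk hp
  set M := Cfsg.pCore p G with hM
  haveI : M.Normal := CfsgLib.Solvable.pCore_normal p G
  set π : Set ℕ := {q : ℕ | q ≠ p} with hπ
  -- the quotient by the p-core
  have hq : ∀ y : G ⧸ M, (orderOf y).Coprime p → ∃ k : ℕ, (Subgroup.centralizer ({y} : Set (G ⧸ M))).index = p ^ k := by
    intro y hy
    obtain ⟨x, hx, hxy⟩ := exists_coprime_preimage hp M y hy
    obtain ⟨k, hk⟩ := h x hx
    have h1 : (Subgroup.centralizer ({x} : Set G)).map (QuotientGroup.mk' M) ≤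
        Subgroup.centralizer ({y} : Set (G ⧸ M)) := by
      rintro _ ⟨c, hc, rfl⟩
      rw [Subgroup.mem_centralizer_singleton_iff]
      obtain ⟨j, hj⟩ := Subgroup.mem_zpowers_iff.1 (hxy ▸ Subgroup.mem_zpowers y : y ∈ Subgroup.zpowers (x : G ⧸ M))
      rw [← hj]
      have hcx : Commute ((QuotientGroup.mk' M) c) (x : G ⧸ M) := by
        have := congrArg (QuotientGroup.mk' M) (Subgroup.mem_centralizer_singleton_iff.1 hc)
        rwa [map_mul, map_mul] at this
      exact (hcx.zpow_right j).eq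
    have h2 := (Subgroup.index_dvd_of_le h1).trans
      (Subgroup.index_map_dvd _ (QuotientGroup.mk'_surjective M))
    rw [hk] at h2
    obtain ⟨i, -, hi⟩ := (Nat.dvd_prime_pow hp).1 h2
    exact ⟨i, hi⟩
  have hbot : Cfsg.pCore p (G ⧸ M) = ⊥ := CfsgLib.Solvable.pCore_quotient_eq_bot M hM
  set F := Cfsg.fittingSubgroup (G ⧸ M)
  haveI : F.Normal := CfsgLib.Solvable.fittingSubgroup_normal _
  haveI : Group.IsNilpotent F := CfsgLib.Solvable.fittingSubgroup_isNilpotent _
  have hFp : ¬ p ∣ Nat.card F := by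
    intro hd
    obtain ⟨S⟩ := (inferInstance : Nonempty (Sylow p F))
    have hSn : (S : Subgroup F).Normal := Sylow.normal_of_normalizerCondition normalizerCondition_of_isNilpotent S
    have h1 : (Cfsg.pCore p F).map F.subtype ≤ Cfsg.pCore p (G ⧸ M) := CfsgLib.Solvable.map_subtype_pCore_le F
    rw [hbot, le_bot_iff, Subgroup.map_eq_bot_iff_of_injective _ F.subtype_injective] at h1
    exact S.ne_bot_of_dvd_card hd (le_bot_iff.1 (h1 ▸ CfsgLib.Solvable.le_pCore hSn S.isPGroup'))
  -- every Hall subgroup in a centralizer contains F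
  have hhall : ∀ y : G ⧸ M, (orderOf y).Coprime p → F ≤ Subgroup.centralizer ({y} : Set (G ⧸ M)) := by
    intro y hy
    obtain ⟨k, hk⟩ := hq y hy
    set C := Subgroup.centralizer ({y} : Set (G ⧸ M))
    obtain ⟨H0, hH0⟩ := CfsgLib.Solvable.exists_isPiHall (G := C) π
    set H1 := H0.map C.subtype
    have hH1 : Cfsg.IsPiHall π H1 := by
      refine ⟨fun q hq' hd => hH0.1 q hq' (by rwa [Subgroup.card_subtype] at hd), fun q hq' hqπ hd => ?_⟩
      rw [Subgroup.index_map_subtype, hk] at hd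
      rcases (Nat.Prime.dvd_mul hq').1 hd with hd | hd
      · exact hH0.2 q hq' hqπ hd
      · exact hqπ ((Nat.prime_dvd_prime_iff_eq hq' hp).1 (hq'.dvd_of_dvd_pow hd))
    obtain ⟨g, hg⟩ := CfsgLib.Solvable.exists_conj_le_isPiHall hH1 (K := F) (fun q _ hd he => hFp (he ▸ hd))
    intro a ha
    have h3 : MulAut.conj g (g⁻¹ * a * g) ∈ H1 :=
      hg ⟨g⁻¹ * a * g, by simpa using (inferInstance : F.Normal).conj_mem a ha g⁻¹, rfl⟩
    simp only [MulAut.conj_apply, mul_assoc, mul_inv_cancel, mul_one, mul_inv_cancel_left] at h3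
    exact Subgroup.map_subtype_le _ h3
  have hFab : F ≤ Subgroup.centralizer (F : Set (G ⧸ M)) := by
    intro a ha
    rw [Subgroup.mem_centralizer_iff]
    intro b hb
    refine (Subgroup.mem_centralizer_singleton_iff.1 (hhall b ?_ ha)).symm
    refine (hp.coprime_iff_not_dvd.2 fun hd => hFp (hd.trans ?_)).symm
    rw [← Subgroup.orderOf_mk b hb]
    exact orderOf_dvd_natCard _
  obtain ⟨H, hH⟩ := CfsgLib.Solvable.exists_isPiHall (G := G) π
  have hHp : ¬ p ∣ Nat.card H := fun hd => hH.1 p hp hd rfl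
  refine ⟨H, ⟨⟨fun a b => ?_⟩⟩, hHp, ?_⟩
  · have hmem : ∀ c : H, QuotientGroup.mk' M (c : G) ∈ F := by
      intro c
      apply CfsgLib.Solvable.centralizer_fittingSubgroup_le (G := G ⧸ M)
      rw [Subgroup.mem_centralizer_iff]
      intro f hf
      refine Subgroup.mem_centralizer_singleton_iff.1 (hhall _ ?_ hf)
      refine (hp.coprime_iff_not_dvd.2 fun hd => hHp (hd.trans ((orderOf_map_dvd _ (c : G)).trans ?_))).symm
      rw [Subgroup.orderOf_coe]
      exact orderOf_dvd_natCard c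
    have hc := Subgroup.mem_centralizer_iff.1 (hFab (hmem b)) _ (hmem a)
    rw [← map_mul, ← map_mul] at hc
    have h1 : ((a : G) * b)⁻¹ * ((b : G) * a) ∈ M := QuotientGroup.eq.1 hc
    have h2 : ((a : G) * b)⁻¹ * ((b : G) * a) ∈ H := mul_mem (inv_mem (mul_mem a.2 b.2)) (mul_mem b.2 a.2)
    obtain ⟨i, hi⟩ := IsPGroup.iff_card.1 (CfsgLib.Solvable.pCore_isPGroup p G)
    have hd : Disjoint M H := Subgroup.disjoint_of_coprime_natCard (by
      rw [hM, hi]; exact (hp.coprime_iff_not_dvd.2 hHp).pow_left i)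
    exact Subtype.ext (inv_mul_eq_one.1 (Subgroup.disjoint_def.1 hd h1 h2))
  · exact ⟨_, Nat.eq_prime_pow_of_unique_prime_dvd Subgroup.index_ne_zero_of_finite
      (fun {q} hq' hd => by by_contra hne; exact hH.2 q hq' hne hd)⟩


/-- Let G be a finite group and p a prime. Every conjugacy class of p-regular elements of G (elements of order prime to p) has p-power size if and only if G has an abelian p-complement, i.e. an abelian subgroup of order prime to p and p-power index. -/
theorem result {G : Type*} [Group G] [Finite G] {p : ℕ} (hp : p.Prime) :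
    (∀ x : G, (orderOf x).Coprime p → ∃ k : ℕ, (ConjClasses.mk x).carrier.ncard = p ^ k) ↔
    (∃ H : Subgroup G, IsMulCommutative H ∧ ¬ p ∣ Nat.card H ∧ ∃ k : ℕ, H.index = p ^ k) := by
  haveI := Fact.mk hp
  have hcl : ∀ x : G,
      (ConjClasses.mk x).carrier.ncard = (Subgroup.centralizer ({x} : Set G)).index := by
    intro x
    rw [← CfsgLib.ClassSize.ncard_setOf_isConj]
    congr 1
  simp only [hcl]
  constructor
  · intro h
    haveI := isSolvable_of_classes (Nat.card G) p hp G rfl h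
    exact abelian_complement p hp h
  · rintro ⟨H, hHc, hHp, k, hHk⟩ x hx
    haveI := isSolvable_of_complement (Nat.card G) p hp G rfl ⟨H, hHc, hHp, k, hHk⟩
    have hHall : Cfsg.IsPiHall {q : ℕ | q ≠ p} H := by
      refine ⟨fun q _ hd he => hHp (he ▸ hd), fun q hq hqp hd => hqp ?_⟩
      rw [hHk] at hd
      exact (Nat.prime_dvd_prime_iff_eq hq hp).1 (hq.dvd_of_dvd_pow hd)
    obtain ⟨g, hg⟩ := CfsgLib.Solvable.exists_conj_le_isPiHall hHall (K := Subgroup.zpowers x) (fun q hq hd he => by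
      subst he
      rw [Nat.card_zpowers] at hd
      exact hq.ne_one (Nat.eq_one_of_dvd_coprimes hx hd dvd_rfl))
    have hle : MulAut.conj g⁻¹ • H ≤ Subgroup.centralizer ({x} : Set G) := by
      intro y hy
      rw [Subgroup.mem_pointwise_smul_iff_inv_smul_mem, map_inv, inv_inv, MulAut.smul_def, MulAut.conj_apply] at hy
      have hx' : g * x * g⁻¹ ∈ H := hg ⟨x, Subgroup.mem_zpowers x, rfl⟩
      have h1 := congrArg Subtype.val ((IsMulCommutative.is_comm (M := H)).comm ⟨_, hy⟩ ⟨_, hx'⟩)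
      have h2 := congrArg (fun w => g⁻¹ * w * g) h1
      rw [Subgroup.mem_centralizer_singleton_iff]
      simpa [mul_assoc] using h2
    have := Subgroup.index_dvd_of_le hle
    rw [CfsgLib.Solvable.conj_smul_eq_map, Subgroup.index_map_of_bijective (MulAut.conj g⁻¹).bijective, hHk] at this
    obtain ⟨i, -, hi⟩ := (Nat.dvd_prime_pow hp).1 this
    exact ⟨i, hi⟩

end Cfsg.Agent.S4034
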