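import Cfsg.Agent.Lib.OrbitPPower.Main
import Cfsg.Agent.Lib.KazarinClass.Commute
import Cfsg.Agent.Lib.Solvable.Core
import Cfsg.Agent.Lib.ClassSize.SylowCentralizer
import Cfsg.Prelude.Def_Solvable
import Cfsg.Prelude.Def_Transfer

/-! S4125: groups in which every `q`-element has a class of prime-power size (Baer). -/

set_option autoImplicit false
set_option linter.style.haveILetI false
set_option linter.unusedSectionVars false
set_option maxHeartbeats 400000

namespace Cfsg.Agent.S4125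

universe u

variable {G : Type u} [Group G] [Finite G] {q : ℕ} [hq : Fact q.Prime]

/-- The index of the centralizer. -/
local notation "idx" x => Subgroup.index (Subgroup.centralizer ({x} : Set _))

theorem mem_image_pCore {r a : ℕ} [Fact r.Prime] {x : G} (hx : ∃ k, orderOf x = q ^ k)
    (hidx : (idx x) = r ^ a) [(Cfsg.pCore r G).Normal] :
    QuotientGroup.mk' (Cfsg.pCore r G) x ∈ Cfsg.pCore q (G ⧸ Cfsg.pCore r G) := by
  set π := QuotientGroup.mk' (Cfsg.pCore r G) with hπ
  set y := π x with hy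
  have hcomm : ∀ s ∈ Group.conjugatesOfSet ({y} : Set (G ⧸ Cfsg.pCore r G)),
      ∀ t ∈ Group.conjugatesOfSet ({y} : Set (G ⧸ Cfsg.pCore r G)), s * t = t * s := by
    intro s hs t ht
    rw [Group.mem_conjugatesOfSet_iff] at hs ht
    obtain ⟨_, rfl, hs⟩ := hs
    obtain ⟨_, rfl, ht⟩ := ht
    obtain ⟨c, rfl⟩ := isConj_iff.1 hs
    obtain ⟨d, rfl⟩ := isConj_iff.1 ht
    obtain ⟨g, rfl⟩ := QuotientGroup.mk'_surjective (Cfsg.pCore r G) c
    obtain ⟨h, rfl⟩ := QuotientGroup.mk'_surjective (Cfsg.pCore r G) d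
    have h1 := CfsgLib.KazarinClass.commutator_conjugates_mem_pCore ⟨a, hidx⟩ g h
    rw [← QuotientGroup.eq_one_iff] at h1
    have h2 : π ((g * x * g⁻¹) * (h * x * h⁻¹) * (g * x * g⁻¹)⁻¹ * (h * x * h⁻¹)⁻¹) = 1 := h1
    rw [map_mul, map_mul, map_mul, map_inv, map_inv, mul_inv_eq_one, mul_inv_eq_iff_eq_mul] at h2
    exact h2
  set L := Subgroup.normalClosure ({y} : Set (G ⧸ Cfsg.pCore r G)) with hL
  have hLp : IsPGroup q L := by
    haveI := Subgroup.isMulCommutative_closure hcomm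
    intro z
    obtain ⟨z, hz⟩ := z
    suffices h : ∃ k, z ^ q ^ k = 1 by
      obtain ⟨k, hk⟩ := h
      exact ⟨k, Subtype.ext hk⟩
    induction hz using Subgroup.closure_induction with
    | mem w hw =>
      rw [Group.mem_conjugatesOfSet_iff] at hw
      obtain ⟨_, rfl, hw⟩ := hw
      obtain ⟨c, rfl⟩ := isConj_iff.1 hw
      obtain ⟨k, hk⟩ := hx
      refine ⟨k, ?_⟩
      rw [conj_pow, ← map_pow, ← hk, pow_orderOf_eq_one, map_one, mul_one, mul_inv_cancel]
    | one => exact ⟨0, one_pow _⟩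
    | mul v w hv hw h1 h2 =>
      obtain ⟨i, hi⟩ := h1
      obtain ⟨j, hj⟩ := h2
      refine ⟨i + j, ?_⟩
      rw [Commute.mul_pow (congrArg Subtype.val (mul_comm'
        (⟨v, hv⟩ : Subgroup.closure (Group.conjugatesOfSet ({y} : Set (G ⧸ Cfsg.pCore r G))))
        ⟨w, hw⟩)), pow_add, pow_mul, hi, one_pow, one_mul, mul_comm, pow_mul, hj, one_pow]
    | inv v hv h1 =>
      obtain ⟨i, hi⟩ := h1
      exact ⟨i, by rw [inv_pow, hi, inv_one]⟩
  exact CfsgLib.Solvable.le_pCore Subgroup.normalClosure_normal hLp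
    (Subgroup.subset_normalClosure (Set.mem_singleton y))

theorem mem_pCore {a : ℕ} {x : G} (hx : ∃ k, orderOf x = q ^ k) (hidx : (idx x) = q ^ a) :
    x ∈ Cfsg.pCore q G := by
  haveI := CfsgLib.Solvable.pCore_normal q G
  have h := mem_image_pCore hx hidx
  rw [CfsgLib.Solvable.pCore_quotient_eq_bot (Cfsg.pCore q G) rfl, Subgroup.mem_bot] at h
  exact (QuotientGroup.eq_one_iff x).1 h

/-- A `q`-element centralizing a Sylow `q`-subgroup lies in it. -/
theorem mem_of_centralizes {x : G} (hx : ∃ k, orderOf x = q ^ k) (P : Sylow q G)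
    (hP : (P : Subgroup G) ≤ Subgroup.centralizer ({x} : Set G)) : x ∈ (P : Subgroup G) := by
  obtain ⟨k, hk⟩ := hx
  have hz : IsPGroup q (Subgroup.zpowers x) :=
    IsPGroup.of_card (n := k) (by rw [Nat.card_zpowers, hk])
  have hnorm : Subgroup.zpowers x ≤ Subgroup.normalizer ((P : Subgroup G) : Set G) := by
    refine (Subgroup.zpowers_le.2 ?_).trans (Subgroup.centralizer_le_normalizer _)
    exact Subgroup.mem_centralizer_iff.2 fun u hu => Subgroup.mem_centralizer_singleton_iff.1 (hP hu)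
  have h := P.3 (IsPGroup.to_sup_of_normal_left' P.2 hz hnorm) le_sup_left
  exact h ▸ Subgroup.mem_sup_right (Subgroup.mem_zpowers x)

omit hq in
/-- Coprime class sizes: `G = C(x) C(y)`. -/
theorem exists_conj_split (A B : Subgroup G) (h : A.index.Coprime B.index) (g : G) :
    ∃ c ∈ A, ∃ d ∈ B, g = c * d := by
  exact CfsgLib.PSingular.exists_mul_of_dvd_relIndex B A
    (CfsgLib.PSingular.dvd_relIndex_of_coprime B A h.symm) g

/-- Two commuting `q`-elements with coprime class sizes; the product class is prime to the first. -/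
theorem no_translation {x y : G} (hxy : Commute x y) (hx : ∃ k, orderOf x = q ^ k)
    (hy : ∃ k, orderOf y = q ^ k) (hco : (idx x).Coprime (idx y))
    (hcoz : (idx (x * y)).Coprime (idx x)) (hne : (idx x) ≠ 1) (hqy : ¬ q ∣ (idx y)) : False := by
  set X := {x' : G | IsConj x x'}
  set Y := {y' : G | IsConj y y'}
  -- every pair of conjugates is conjugate to `(x, y)`
  have hpair : ∀ x' ∈ X, ∀ y' ∈ Y, ∃ g : G, g * x * g⁻¹ = x' ∧ g * y * g⁻¹ = y' := by
    intro x' hx' y' hy'
    obtain ⟨a, rfl⟩ := isConj_iff.1 hx'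
    obtain ⟨b, rfl⟩ := isConj_iff.1 hy'
    obtain ⟨c, hc, d, hd, he⟩ := exists_conj_split _ _ hco.symm (b⁻¹ * a)
    rw [Subgroup.mem_centralizer_singleton_iff] at hc hd
    refine ⟨b * c, ?_, ?_⟩
    · have h1 : a = b * c * d := by rw [mul_assoc, ← he, mul_inv_cancel_left]
      rw [h1, show b * c * d * x * (b * c * d)⁻¹ = b * c * (d * x) * d⁻¹ * c⁻¹ * b⁻¹ by group, hd]
      group
    · rw [show b * c * y * (b * c)⁻¹ = b * (c * y) * c⁻¹ * b⁻¹ by group, hc]
      group
  have hcomm : ∀ x' ∈ X, ∀ y' ∈ Y, Commute x' y' := by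
    intro x' hx' y' hy'
    obtain ⟨g, rfl, rfl⟩ := hpair x' hx' y' hy'
    show (g * x * g⁻¹) * (g * y * g⁻¹) = (g * y * g⁻¹) * (g * x * g⁻¹)
    rw [← MulAut.conj_apply, ← MulAut.conj_apply, ← map_mul, ← map_mul, hxy.eq]
  -- translations
  have hkey : ∀ x' ∈ X, x'⁻¹ * x * y ∈ Y := by
    intro x' hx'
    obtain ⟨a, rfl⟩ := isConj_iff.1 hx'
    obtain ⟨c, hc, d, hd, rfl⟩ := exists_conj_split _ _ hcoz a
    rw [Subgroup.mem_centralizer_singleton_iff] at hc hd
    refine isConj_iff.2 ⟨c, ?_⟩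
    rw [show c * d * x * (c * d)⁻¹ = c * (d * x) * d⁻¹ * c⁻¹ by group, hd]
    calc c * y * c⁻¹ = (c * x⁻¹ * c⁻¹) * (c * (x * y)) * c⁻¹ := by group
      _ = _ := by rw [hc]; group
  have htrans : ∀ x₁ ∈ X, ∀ x₂ ∈ X, ∀ y₁ ∈ Y, x₂⁻¹ * x₁ * y₁ ∈ Y := by
    intro x₁ hx₁ x₂ hx₂ y₁ hy₁
    obtain ⟨g, hgx, hgy⟩ := hpair x₁ hx₁ y₁ hy₁
    have hx' : g⁻¹ * x₂ * g ∈ X := hx₂.trans (isConj_iff.2 ⟨g⁻¹, by simp⟩)
    have h := hkey _ hx'
    have h1 : x₂⁻¹ * x₁ * y₁ = g * ((g⁻¹ * x₂ * g)⁻¹ * x * y) * g⁻¹ := by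
      rw [← hgx, ← hgy]; group
    rw [h1]
    exact h.trans (isConj_iff.2 ⟨g, rfl⟩)
  obtain ⟨x', hx', hxx'⟩ : ∃ x' ∈ X, x' ≠ x := by
    by_contra hall
    push Not at hall
    apply hne
    rw [Subgroup.index_eq_one, eq_top_iff]
    intro g _
    rw [Subgroup.mem_centralizer_singleton_iff]
    exact mul_inv_eq_iff_eq_mul.1 (hall _ (isConj_iff.2 ⟨g, rfl⟩))
  set d := x'⁻¹ * x with hd
  have hd1 : d ≠ 1 := fun h => hxx' (inv_mul_eq_one.1 h)
  have hxX : x ∈ X := IsConj.refl x
  have hyY : y ∈ Y := IsConj.refl y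
  -- `d` is a `q`-element
  obtain ⟨g, hg⟩ := isConj_iff.1 (hkey x' hx')
  have hdy : Commute d y :=
    ((hcomm x' hx' y hyY).inv_left).mul_left (hcomm x hxX y hyY)
  have hd' : d = (g * y * g⁻¹) * y⁻¹ := by rw [hg, hd, mul_inv_cancel_right]
  have hgy : Commute (g * y * g⁻¹) y := by
    rw [hg]
    exact hdy.mul_left (Commute.refl y)
  obtain ⟨i, hi⟩ := hy
  have hdq : ∃ j, orderOf d = q ^ j := by
    obtain ⟨j, -, hj⟩ := (Nat.dvd_prime_pow hq.out).1
      (orderOf_dvd_of_pow_eq_one (show d ^ (q ^ i) = 1 by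
        rw [hd', hgy.inv_right.mul_pow, conj_pow, inv_pow, ← hi, pow_orderOf_eq_one]
        group))
    exact ⟨j, hj⟩
  obtain ⟨j, hj⟩ := hdq
  cases j with
  | zero => exact hd1 (orderOf_eq_one_iff.1 (by rw [hj, pow_zero]))
  | succ j =>
    refine hqy ?_
    rw [← CfsgLib.ClassSize.ncard_setOf_isConj]
    set c := d ^ (q ^ j) with hc
    have hcq : c ^ q = 1 := by
      rw [hc, ← pow_mul, ← pow_succ, ← hj, pow_orderOf_eq_one]
    have hc1 : c ≠ 1 := pow_ne_one_of_lt_orderOf (pow_ne_zero _ hq.out.ne_zero)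
      (by rw [hj]; exact Nat.pow_lt_pow_right hq.out.one_lt (Nat.lt_succ_self j))
    refine CfsgLib.PSingular.dvd_ncard_of_mul_mem Y hcq hc1 ?_
    have hpow : ∀ n : ℕ, ∀ z ∈ Y, d ^ n * z ∈ Y := by
      intro n
      induction n with
      | zero => intro z hz; simpa using hz
      | succ n ih =>
        intro z hz
        rw [pow_succ, mul_assoc]
        exact ih _ (htrans x hxX x' hx' z hz)
    exact hpow _

/-- For a normal Sylow subgroup with the two kinds of elements, `q'`-elements of prime power order. -/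
theorem commute_dichotomy (Q : Sylow q G) [(Q : Subgroup G).Normal]
    (hdis : ∀ x ∈ (Q : Subgroup G), (∃ a, (idx x) = q ^ a) ∨ ∀ u ∈ (Q : Subgroup G), x * u = u * x)
    {t : ℕ} [ht : Fact t.Prime] (htq : t ≠ q) {h : G} {k : ℕ} (hh : orderOf h = t ^ k) :
    (∀ x ∈ (Q : Subgroup G), Commute x h) ∨ ∀ x ∈ (Q : Subgroup G), ∀ u ∈ (Q : Subgroup G),
      x * u = u * x := by
  by_contra hcon
  push Not at hcon
  obtain ⟨⟨x₀, hx₀, hx₀h⟩, ⟨x₁, hx₁, u₁, hu₁, hne⟩⟩ := hcon
  set C := (Subgroup.centralizer ({h} : Set G)).subgroupOf (Q : Subgroup G) with hC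
  have hCtop : C ≠ ⊤ := fun e => hx₀h (Subgroup.mem_centralizer_singleton_iff.1
    (Subgroup.subgroupOf_eq_top.1 e hx₀))
  obtain ⟨M, hM, hCM⟩ := (eq_top_or_exists_le_coatom C).resolve_left hCtop
  haveI := Q.2.isNilpotent
  haveI hMn : M.Normal := Subgroup.NormalizerCondition.normal_of_coatom M (Group.normalizerCondition_of_isNilpotent) hM
  have key : ∀ x : (Q : Subgroup G), x ∈ Subgroup.center (Q : Subgroup G) ∨ x ∈ M := by
    intro x
    rcases hdis x x.2 with ⟨a, ha⟩ | hc
    swap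
    · exact Or.inl (Subgroup.mem_center_iff.2 fun u => Subtype.ext (hc u u.2).symm)
    right
    -- some conjugate under `Q` centralizes `h`
    let X := {y : G // IsConj (x : G) y}
    letI : MulAction (Subgroup.zpowers h) X :=
      { smul := fun g y => ⟨(g : G) * y * (g : G)⁻¹, y.2.trans (isConj_iff.2 ⟨g, rfl⟩)⟩
        one_smul := fun y => Subtype.ext (show (1 : G) * y * (1 : G)⁻¹ = y by simp)
        mul_smul := fun a b y => Subtype.ext (show ((a : G) * b) * y * ((a : G) * b)⁻¹ =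
          (a : G) * ((b : G) * y * (b : G)⁻¹) * (a : G)⁻¹ by group) }
    have hcard : Nat.card X = q ^ a := by
      rw [← ha, ← CfsgLib.ClassSize.ncard_setOf_isConj, ← Nat.card_coe_set_eq]
      rfl
    obtain ⟨y, hy⟩ := (IsPGroup.of_card (p := t) (n := k)
      (show Nat.card (Subgroup.zpowers h) = t ^ k by rw [Nat.card_zpowers, hh]))
      |>.nonempty_fixed_point_of_prime_not_dvd_card X (by
        rw [hcard]
        exact fun hd => htq ((Nat.prime_dvd_prime_iff_eq ht.out hq.out).1 (ht.out.dvd_of_dvd_pow hd)))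
    have hyh : Commute (y : G) h := by
      have h1 : h * (y : G) * h⁻¹ = y := congrArg Subtype.val (hy ⟨h, Subgroup.mem_zpowers h⟩)
      exact (mul_inv_eq_iff_eq_mul.1 h1).symm
    obtain ⟨g, hg⟩ := isConj_iff.1 y.2
    have hsplit : ∃ u ∈ (Q : Subgroup G), ∃ c ∈ Subgroup.centralizer ({(x : G)} : Set G), g = u * c := by
      refine CfsgLib.PSingular.exists_mul_of_dvd_relIndex _ _ ?_ g
      have h1 := Subgroup.relIndex_mul_index
        (inf_le_right : Subgroup.centralizer ({(x : G)} : Set G) ⊓ Q ≤ Q)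
      rw [Subgroup.inf_relIndex_right] at h1
      have h2 : (idx (x : G)) ∣ (Subgroup.centralizer ({(x : G)} : Set G) ⊓ (Q : Subgroup G)).index :=
        Subgroup.index_dvd_of_le inf_le_left
      rw [← h1] at h2
      refine Nat.Coprime.dvd_of_dvd_mul_right ?_ h2
      rw [ha]
      exact Nat.Coprime.pow_left _ (hq.out.coprime_iff_not_dvd.2 Q.not_dvd_index)
    obtain ⟨u, hu, c, hc, rfl⟩ := hsplit
    rw [Subgroup.mem_centralizer_singleton_iff] at hc
    have hy' : (y : G) = u * x * u⁻¹ := by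
      rw [← hg, show u * c * (x : G) * (u * c)⁻¹ = u * (c * x) * c⁻¹ * u⁻¹ by group, hc]
      group
    have hyM : (⟨u, hu⟩ : (Q : Subgroup G)) * x * ⟨u, hu⟩⁻¹ ∈ M := by
      refine hCM (Subgroup.mem_subgroupOf.2 (Subgroup.mem_centralizer_singleton_iff.2 ?_))
      show u * x * u⁻¹ * h = h * (u * x * u⁻¹)
      rw [← hy']
      exact hyh.eq
    simpa [mul_assoc] using hMn.conj_mem _ hyM (⟨u, hu⟩ : (Q : Subgroup G))⁻¹
  obtain ⟨z, -, hz⟩ := SetLike.exists_of_lt hM.lt_top
  have hz' := (key z).resolve_right hz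
  have hall : ∀ w : (Q : Subgroup G), w ∈ Subgroup.center (Q : Subgroup G) := by
    intro w
    rcases key w with h1 | h1
    · exact h1
    rcases key (w * z) with h2 | h2
    · simpa using mul_mem h2 (inv_mem hz')
    · exact absurd ((Subgroup.mul_mem_cancel_left M h1).1 h2) hz
  exact hne (congrArg Subtype.val (Subgroup.mem_center_iff.1 (hall ⟨u₁, hu₁⟩) ⟨x₁, hx₁⟩))

/-- All `q'`-elements centralize the normal Sylow subgroup. -/
theorem centralizer_sup (Q : Sylow q G) [(Q : Subgroup G).Normal]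
    (h : ∀ (t : ℕ) (_ : Fact t.Prime), t ≠ q → ∀ g : G, (∃ k, orderOf g = t ^ k) →
      ∀ x ∈ (Q : Subgroup G), Commute x g) :
    (Q : Subgroup G) ⊔ Subgroup.centralizer ((Q : Subgroup G) : Set G) = ⊤ := by
  rw [← Subgroup.index_eq_one]
  by_contra hne
  obtain ⟨t, ht, htd⟩ := Nat.exists_prime_and_dvd hne
  haveI := Fact.mk ht
  by_cases htq : t = q
  · subst htq
    exact Q.not_dvd_index (htd.trans (Subgroup.index_dvd_of_le le_sup_left))
  · obtain ⟨T⟩ : Nonempty (Sylow t G) := inferInstance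
    refine T.not_dvd_index (htd.trans (Subgroup.index_dvd_of_le fun g hg => Subgroup.mem_sup_right ?_))
    obtain ⟨k, hk⟩ := IsPGroup.iff_orderOf.1 T.2 ⟨g, hg⟩
    exact Subgroup.mem_centralizer_iff.2 fun x hx =>
      (h t inferInstance htq g ⟨k, by rw [← hk, Subgroup.orderOf_mk]⟩ x hx).eq

theorem exists_q_power {x : G} (Q : Sylow q G) (hx : x ∈ (Q : Subgroup G)) :
    ∃ k, orderOf x = q ^ k := by
  obtain ⟨k, hk⟩ := IsPGroup.iff_orderOf.1 Q.2 ⟨x, hx⟩
  exact ⟨k, by rw [← hk, Subgroup.orderOf_mk]⟩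

/-- Only one prime occurs. -/
theorem same_prime {r a : ℕ} (hr : r.Prime) (hrq : r ≠ q) {x : G} (hx : ∃ k, orderOf x = q ^ k)
    (hxa : (idx x) = r ^ a) (ha : (idx x) ≠ 1)
    (hBaer : ∀ z : G, (∃ k, orderOf z = q ^ k) → ∃ (r : ℕ) (a : ℕ), r.Prime ∧ (idx z) = r ^ a)
    {y : G} (hy : ∃ k, orderOf y = q ^ k) : ∃ b, (idx y) = r ^ b := by
  by_contra hall
  obtain ⟨s, b, hs, hyb⟩ := hBaer y hy
  have hsr : s ≠ r := fun e => hall ⟨b, e ▸ hyb⟩
  have hy1 : (idx y) ≠ 1 := fun e => hall ⟨0, by rw [pow_zero, e]⟩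
  haveI := Fact.mk hr
  haveI := Fact.mk hs
  have hqx : ¬ q ∣ (idx x) := by
    rw [hxa]; exact fun hd => hrq ((Nat.prime_dvd_prime_iff_eq hq.out hr).1 (hq.out.dvd_of_dvd_pow hd)).symm
  have hcop : ∀ {m n i j : ℕ}, m.Prime → n.Prime → m ≠ n → (m ^ i).Coprime (n ^ j) :=
    fun hm hn hmn => Nat.Coprime.pow _ _ ((Nat.coprime_primes hm hn).2 hmn)
  obtain ⟨Q₁, hQ₁⟩ := (CfsgLib.ClassSize.exists_sylow_le_centralizer_iff q x).2 hqx
  have hxQ := mem_of_centralizes hx Q₁ hQ₁
  by_cases hsq : s = q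
  · subst s
    -- all `q`-elements lie in the core
    haveI := CfsgLib.Solvable.pCore_normal q G
    have hyR : y ∈ Cfsg.pCore q G := mem_pCore hy hyb
    have hR : ∀ z : G, (∃ k, orderOf z = q ^ k) → z ∈ Cfsg.pCore q G := by
      intro w hw
      obtain ⟨t, c, ht, hwc⟩ := hBaer w hw
      by_cases htq : t = q
      · exact mem_pCore hw (htq ▸ hwc)
      haveI := Fact.mk ht
      by_cases hw1 : (idx w) = 1
      · exact mem_pCore hw (a := 0) (by rw [hw1, pow_zero])
      have hqw : ¬ q ∣ (idx w) := by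
        rw [hwc]; exact fun hd => htq ((Nat.prime_dvd_prime_iff_eq hq.out ht).1 (hq.out.dvd_of_dvd_pow hd)).symm
      obtain ⟨P, hP⟩ := (CfsgLib.ClassSize.exists_sylow_le_centralizer_iff q w).2 hqw
      have hyP : y ∈ (P : Subgroup G) := CfsgLib.Solvable.pCore_le_sylow P hyR
      have hwy : Commute w y := (Subgroup.mem_centralizer_singleton_iff.1 (hP hyP)).symm
      have hwyq : ∃ k, orderOf (w * y) = q ^ k :=
        exists_q_power P (mul_mem (mem_of_centralizes hw P hP) hyP)
      obtain ⟨e, f, he, hzf⟩ := hBaer _ hwyq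
      by_cases heq : e = q
      · have hz := mem_pCore hwyq (heq ▸ hzf)
        simpa using mul_mem hz (inv_mem hyR)
      exfalso
      refine no_translation hwy.symm hy hw ?_ ?_ hy1 hqw
      · rw [hyb, hwc]; exact hcop hq.out ht (Ne.symm htq)
      · rw [← hwy.eq, hzf, hyb]; exact hcop he hq.out heq
    have hQle : (Q₁ : Subgroup G) = Cfsg.pCore q G :=
      le_antisymm (fun z hz => hR z (exists_q_power Q₁ hz)) (CfsgLib.Solvable.pCore_le_sylow Q₁)
    haveI : (Q₁ : Subgroup G).Normal := hQle ▸ inferInstance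
    have hdis : ∀ z ∈ (Q₁ : Subgroup G),
        (∃ a, (idx z) = q ^ a) ∨ ∀ u ∈ (Q₁ : Subgroup G), z * u = u * z := by
      intro z hz
      obtain ⟨t, c, ht, hzc⟩ := hBaer z (exists_q_power Q₁ hz)
      by_cases htq : t = q
      · exact Or.inl ⟨c, htq ▸ hzc⟩
      right
      haveI := Fact.mk ht
      obtain ⟨P, hP⟩ := (CfsgLib.ClassSize.exists_sylow_le_centralizer_iff q z).2 (by
        rw [hzc]; exact fun hd => htq ((Nat.prime_dvd_prime_iff_eq hq.out ht).1 (hq.out.dvd_of_dvd_pow hd)).symm)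
      haveI := Sylow.unique_of_normal Q₁ inferInstance
      rw [Subsingleton.elim P Q₁] at hP
      exact fun u hu => (Subgroup.mem_centralizer_singleton_iff.1 (hP hu)).symm
    have hnc : ¬ ∀ z ∈ (Q₁ : Subgroup G), ∀ u ∈ (Q₁ : Subgroup G), z * u = u * z := by
      intro hc
      have h1 : (Q₁ : Subgroup G) ≤ Subgroup.centralizer ({y} : Set G) := fun u hu =>
        Subgroup.mem_centralizer_singleton_iff.2 (hc u hu y (hQle ▸ hyR))
      have h2 := (CfsgLib.ClassSize.exists_sylow_le_centralizer_iff q y).1 ⟨Q₁, h1⟩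
      rw [hyb] at h2 hy1
      cases b with
      | zero => exact hy1 (pow_zero q)
      | succ b => exact h2 (dvd_pow_self q (Nat.succ_ne_zero b))
    have htop := centralizer_sup Q₁ fun t _ htq g ⟨k, hk⟩ =>
      (commute_dichotomy Q₁ hdis htq hk).resolve_right hnc
    apply ha
    rw [Subgroup.index_eq_one, eq_top_iff, ← htop]
    refine sup_le hQ₁ fun g hg => ?_
    exact Subgroup.mem_centralizer_singleton_iff.2 (Subgroup.mem_centralizer_iff.1 hg x hxQ).symm
  -- two primes different from `q`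
  have hqy : ¬ q ∣ (idx y) := by
    rw [hyb]; exact fun hd => hsq ((Nat.prime_dvd_prime_iff_eq hq.out hs).1 (hq.out.dvd_of_dvd_pow hd)).symm
  obtain ⟨Q₂, hQ₂⟩ := (CfsgLib.ClassSize.exists_sylow_le_centralizer_iff q y).2 hqy
  obtain ⟨g, hg⟩ := MulAction.exists_smul_eq G Q₂ Q₁
  set y' := g * y * g⁻¹ with hy'
  have hy'Q : y' ∈ (Q₁ : Subgroup G) := by
    rw [← hg, Sylow.coe_subgroup_smul]
    exact ⟨y, mem_of_centralizes hy Q₂ hQ₂, rfl⟩
  have hy'b : (idx y') = s ^ b := (CfsgLib.PSingular.index_centralizer_conj y g).trans hyb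
  have hc : Commute x y' := (Subgroup.mem_centralizer_singleton_iff.1 (hQ₁ hy'Q)).symm
  obtain ⟨e, f, he, hzf⟩ := hBaer _ (exists_q_power Q₁ (mul_mem hxQ hy'Q))
  have hy'q := exists_q_power Q₁ hy'Q
  have hxy' : (idx x).Coprime (idx y') := by rw [hxa, hy'b]; exact hcop hr hs hsr.symm
  by_cases her : e = r
  · refine no_translation hc.symm hy'q hx hxy'.symm ?_ (by rw [hy'b, ← hyb]; exact hy1) hqx
    rw [← hc.eq, hzf, hy'b]
    exact hcop he hs (her ▸ hsr.symm)
  · refine no_translation hc hx hy'q hxy' ?_ ha (by rw [hy'b, ← hyb]; exact hqy)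
    rw [hzf, hxa]
    exact hcop he hr her

/-- The case `p = q`. -/
theorem direct_case (Q : Sylow q G)
    (hall : ∀ x : G, (∃ k, orderOf x = q ^ k) → ∃ a, (idx x) = q ^ a) :
    (Q : Subgroup G).Normal ∧ ∃ N : Subgroup G, N.Normal ∧ N.IsComplement' (Q : Subgroup G) := by
  haveI := CfsgLib.Solvable.pCore_normal q G
  have hQ : (Q : Subgroup G) = Cfsg.pCore q G := le_antisymm
    (fun z hz => by
      obtain ⟨a, ha⟩ := hall z (exists_q_power Q hz)
      exact mem_pCore (exists_q_power Q hz) ha)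
    (CfsgLib.Solvable.pCore_le_sylow Q)
  haveI hQn : (Q : Subgroup G).Normal := hQ ▸ inferInstance
  refine ⟨hQn, ?_⟩
  have htop := centralizer_sup Q fun t _ htq g ⟨k, hk⟩ x hx => by
    rcases commute_dichotomy Q (fun z hz => Or.inl (hall z (exists_q_power Q hz))) htq hk with h | h
    · exact h x hx
    · obtain ⟨a, ha⟩ := hall x (exists_q_power Q hx)
      have h2 := (CfsgLib.ClassSize.exists_sylow_le_centralizer_iff q x).1
        ⟨Q, fun u hu => Subgroup.mem_centralizer_singleton_iff.2 (h u hu x hx)⟩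
      cases a with
      | zero =>
        rw [pow_zero, Subgroup.index_eq_one] at ha
        exact (Subgroup.mem_centralizer_singleton_iff.1 (ha ▸ Subgroup.mem_top g)).symm
      | succ a => rw [ha] at h2; exact absurd (dvd_pow_self q (Nat.succ_ne_zero a)) h2
  obtain ⟨H, hH⟩ := Subgroup.exists_left_complement'_of_coprime (N := (Q : Subgroup G))
    Q.card_coprime_index
  refine ⟨H, ?_, hH⟩
  set C := Subgroup.centralizer ((Q : Subgroup G) : Set G) with hC
  haveI : C.Normal := inferInstance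
  have hHC : H ≤ C := by
    intro g hg
    rw [← QuotientGroup.eq_one_iff (N := C), ← orderOf_eq_one_iff, ← Nat.dvd_one]
    have h1 : orderOf (g : G ⧸ C) ∣ Nat.card H :=
      (orderOf_map_dvd (QuotientGroup.mk' C) g).trans
        (by rw [← Subgroup.orderOf_mk g hg]; exact orderOf_dvd_natCard _)
    have hsurj : Function.Surjective ((QuotientGroup.mk' C).comp (Q : Subgroup G).subtype) := by
      intro z
      obtain ⟨w, rfl⟩ := QuotientGroup.mk'_surjective C z
      obtain ⟨u, hu, c, hc, rfl⟩ := Subgroup.mem_sup_of_normal_left.1 (htop ▸ Subgroup.mem_top w)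
      refine ⟨⟨u, hu⟩, ?_⟩
      show QuotientGroup.mk' C u = QuotientGroup.mk' C (u * c)
      rw [map_mul, (QuotientGroup.eq_one_iff c).2 hc |> fun h => (show QuotientGroup.mk' C c = 1 from h),
        mul_one]
    have h2 : orderOf (g : G ⧸ C) ∣ Nat.card (Q : Subgroup G) :=
      (orderOf_dvd_natCard _).trans (Subgroup.card_dvd_of_surjective _ hsurj)
    have hco : (Nat.card H).Coprime (Nat.card (Q : Subgroup G)) := by
      rw [← hH.index_eq_card]
      exact Q.card_coprime_index.symm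
    exact hco ▸ Nat.dvd_gcd h1 h2
  rw [← Subgroup.normalizer_eq_top_iff, eq_top_iff, ← hH.sup_eq_top]
  refine sup_le Subgroup.le_normalizer fun u hu => Subgroup.centralizer_le_normalizer _ ?_
  exact Subgroup.mem_centralizer_iff.2 fun g hg => (Subgroup.mem_centralizer_iff.1 (hHC hg) u hu).symm

/-- A linear representation over `ZMod n` from an additive action. -/
noncomputable def linRep {H M : Type*} [Group H] [AddCommGroup M] (n : ℕ) [Module (ZMod n) M]
    (act : H → M → M) (hadd : ∀ g v w, act g (v + w) = act g v + act g w)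
    (hmul : ∀ g h w, act (g * h) w = act g (act h w)) (hone : ∀ w, act 1 w = w) :
    H →* (M ≃ₗ[ZMod n] M) where
  toFun g :=
    { (AddMonoidHom.mk' (act g) (hadd g)).toZModLinearMap n with
      invFun := act g⁻¹
      left_inv := fun w => show act g⁻¹ (act g w) = w by rw [← hmul, inv_mul_cancel, hone]
      right_inv := fun w => show act g (act g⁻¹ w) = w by rw [← hmul, mul_inv_cancel, hone] }
  map_one' := LinearEquiv.ext hone
  map_mul' g h := LinearEquiv.ext (hmul g h)

/-- Solvability of `G` modulo its `q'`-core in the abelian case. -/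
theorem solvable_case {p : ℕ} [Fact p.Prime] (hp : p ≠ q) (Q : Sylow q G)
    (hab : ∀ x ∈ (Q : Subgroup G), ∀ u ∈ (Q : Subgroup G), x * u = u * x)
    (hW : (Cfsg.pCore p G ⊔ (Q : Subgroup G)).Normal)
    (hall : ∀ x ∈ (Q : Subgroup G), ∃ a, (idx x) = p ^ a) [(Cfsg.pPrimeCore q G).Normal] :
    Group.IsSolvable (G ⧸ Cfsg.pPrimeCore q G) := by
  set K := Cfsg.pPrimeCore q G with hK
  set π := QuotientGroup.mk' K with hπ
  set V := (Q : Subgroup G).map π with hV
  have hsurj : Function.Surjective π := QuotientGroup.mk'_surjective K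
  haveI hVn : V.Normal := by
    have h1 : (Cfsg.pCore p G).map π = ⊥ := by
      rw [Subgroup.map_eq_bot_iff, QuotientGroup.ker_mk']
      refine CfsgLib.Solvable.le_pPrimeCore (CfsgLib.Solvable.pCore_normal p G) ?_
      obtain ⟨n, hn⟩ := CfsgLib.Solvable.card_pCore (p := p) (G := G)
      rw [hn]
      exact Nat.Coprime.pow_left _ ((Nat.coprime_primes Fact.out hq.out).2 hp)
    have h2 := Subgroup.Normal.map hW π hsurj
    rwa [Subgroup.map_sup, h1, bot_sup_eq] at h2
  have hVc : ∀ x ∈ V, ∀ u ∈ V, x * u = u * x := by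
    rintro _ ⟨x, hx, rfl⟩ _ ⟨u, hu, rfl⟩
    rw [← map_mul, ← map_mul, hab x hx u hu]
  have hVp : IsPGroup q V := Q.2.map π
  have hVidx : ¬ q ∣ V.index := fun h =>
    Q.not_dvd_index (h.trans (Subgroup.index_map_dvd _ hsurj))
  -- self-centralizing
  set C := Subgroup.centralizer (V : Set (G ⧸ K)) with hC
  haveI : C.Normal := inferInstance
  have hVC : V ≤ C := fun x hx => Subgroup.mem_centralizer_iff.2 fun u hu => hVc u hu x hx
  have hCV : C ≤ V := by
    have hVCn : (V.subgroupOf C).Normal := inferInstance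
    have hco : (Nat.card (V.subgroupOf C)).Coprime (V.subgroupOf C).index := by
      obtain ⟨n, hn⟩ := IsPGroup.iff_card.1 hVp
      rw [Nat.card_congr (Subgroup.subgroupOfEquivOfLe hVC).toEquiv, hn]
      refine Nat.Coprime.pow_left _ (hq.out.coprime_iff_not_dvd.2 fun h => hVidx ?_)
      exact h.trans (Dvd.intro _ (Subgroup.relIndex_mul_index hVC))
    obtain ⟨D, hD⟩ := Subgroup.exists_right_complement'_of_coprime hco
    have hcentral : ∀ v ∈ V.subgroupOf C, ∀ c : C, v * c = c * v := fun v hv c =>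
      Subtype.ext (Subgroup.mem_centralizer_iff.1 c.2 v hv)
    haveI hDn : D.Normal := by
      rw [← Subgroup.normalizer_eq_top_iff, eq_top_iff, ← hD.sup_eq_top]
      refine sup_le (fun v hv => Subgroup.centralizer_le_normalizer _ ?_) Subgroup.le_normalizer
      exact Subgroup.mem_centralizer_iff.2 fun d _ => (hcentral v hv d).symm
    have hDco : (Nat.card D).Coprime q := by
      rw [← hD.symm.index_eq_card]
      refine Nat.coprime_comm.1 (hq.out.coprime_iff_not_dvd.2 fun h => hVidx ?_)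
      exact h.trans (Dvd.intro _ (Subgroup.relIndex_mul_index hVC))
    have hD' : D.map C.subtype = ⊥ := by
      have h1 := (Subgroup.map_mono (f := C.subtype) (CfsgLib.Solvable.le_pPrimeCore hDn hDco)).trans
        (CfsgLib.Solvable.map_subtype_pPrimeCore_le (p := q) C)
      rw [CfsgLib.Solvable.pPrimeCore_quotient_eq_bot K hK] at h1
      exact le_bot_iff.1 h1
    rw [Subgroup.map_eq_bot_iff_of_injective _ C.subtype_injective] at hD'
    intro c hc
    have h1 : (⟨c, hc⟩ : C) ∈ V.subgroupOf C ⊔ D := hD.sup_eq_top ▸ Subgroup.mem_top _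
    rw [hD', sup_bot_eq] at h1
    exact h1
  -- the elements of order dividing `q`
  let W : Subgroup (G ⧸ K) :=
    { carrier := {y | y ∈ V ∧ y ^ q = 1}
      one_mem' := ⟨V.one_mem, one_pow q⟩
      mul_mem' := by
        rintro s t ⟨hs, hs'⟩ ⟨ht, ht'⟩
        refine ⟨V.mul_mem hs ht, ?_⟩
        rw [Commute.mul_pow (hVc s hs t ht), hs', ht', one_mul]
      inv_mem' := by
        rintro s ⟨hs, hs'⟩
        exact ⟨V.inv_mem hs, by rw [inv_pow, hs', inv_one]⟩ }
  haveI hWn : W.Normal := ⟨fun y hy g => ⟨hVn.conj_mem y hy.1 g, by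
    rw [conj_pow, hy.2, mul_one, mul_inv_cancel]⟩⟩
  letI : CommGroup W :=
    { (inferInstance : Group W) with mul_comm := fun x y => Subtype.ext (hVc x x.2.1 y y.2.1) }
  haveI : Module (ZMod q) (Additive W) := AddCommGroup.zmodModule fun w =>
    show (Additive.toMul w) ^ q = 1 from Subtype.ext (Additive.toMul w).2.2
  let act : G ⧸ K → Additive W → Additive W := fun g w =>
    Additive.ofMul ⟨g * (Additive.toMul w : W) * g⁻¹, hWn.conj_mem _ (Additive.toMul w).2 g⟩
  have hact_add : ∀ g v w, act g (v + w) = act g v + act g w := fun g v w =>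
    Subtype.ext (show g * ((Additive.toMul v : W) * (Additive.toMul w : W) : G ⧸ K) * g⁻¹ =
      (g * (Additive.toMul v : W) * g⁻¹) * (g * (Additive.toMul w : W) * g⁻¹) by group)
  have hact_mul : ∀ g h w, act (g * h) w = act g (act h w) := fun g h w =>
    Subtype.ext (show g * h * (Additive.toMul w : W) * (g * h)⁻¹ =
      g * (h * (Additive.toMul w : W) * h⁻¹) * g⁻¹ by group)
  have hact_one : ∀ w, act 1 w = w := fun w =>
    Subtype.ext (show (1 : G ⧸ K) * (Additive.toMul w : W) * (1 : G ⧸ K)⁻¹ = (Additive.toMul w : W) by simp)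
  let ρ : G ⧸ K →* (Additive W ≃ₗ[ZMod q] Additive W) :=
    linRep q act hact_add hact_mul hact_one
  have hkerV : ρ.ker ≤ V := by
    intro g hg
    refine hCV (Subgroup.mem_centralizer_iff.2 ?_)
    have hfix : ∀ w : G ⧸ K, w ∈ W → g * w * g⁻¹ = w := fun w hw =>
      congrArg (fun z : Additive W => ((Additive.toMul z : W) : G ⧸ K))
        (LinearEquiv.congr_fun hg (Additive.ofMul (⟨w, hw⟩ : W)))
    -- `g` can be taken of order prime to `q` modulo `V`
    obtain ⟨n, hn, hnm⟩ : ∃ n : ℕ, ¬ q ∣ n ∧ g ^ n ∈ V :=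
      ⟨V.index, hVidx, Subgroup.pow_index_mem _ g⟩
    suffices h : ∀ (i : ℕ) (v : G ⧸ K), v ∈ V → v ^ q ^ i = 1 → g * v * g⁻¹ = v by
      intro v hv
      obtain ⟨i, hi⟩ := hVp ⟨v, hv⟩
      exact (mul_inv_eq_iff_eq_mul.1 (h i v hv (congrArg Subtype.val hi))).symm
    intro i
    induction i with
    | zero => intro v _ h; rw [pow_zero, pow_one] at h; subst h; simp
    | succ i ih =>
      intro v hv hvi
      set δ := g * v * g⁻¹ * v⁻¹ with hδ
      have hδV : δ ∈ V := mul_mem (hVn.conj_mem v hv g) (inv_mem hv)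
      have hq' := ih (v ^ q) (pow_mem hv q) (by rw [← pow_mul, ← pow_succ']; exact hvi)
      have hδW : δ ∈ W := by
        refine ⟨hδV, ?_⟩
        rw [hδ, Commute.mul_pow (hVc _ (hVn.conj_mem v hv g) _ (inv_mem hv)), conj_pow, hq', inv_pow,
          mul_inv_cancel]
      have hpow : ∀ k : ℕ, g ^ k * v * (g ^ k)⁻¹ = δ ^ k * v := by
        intro k
        induction k with
        | zero => simp
        | succ k ihk =>
          calc g ^ (k + 1) * v * (g ^ (k + 1))⁻¹ = g * (g ^ k * v * (g ^ k)⁻¹) * g⁻¹ := by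
                rw [pow_succ']; group
            _ = (g * δ ^ k * g⁻¹) * (g * v * g⁻¹) := by rw [ihk]; group
            _ = δ ^ k * (δ * v) := by rw [hfix _ (W.pow_mem hδW k), hδ, inv_mul_cancel_right]
            _ = δ ^ (k + 1) * v := by rw [pow_succ, hδ]; group
      have hn1 : δ ^ n = 1 := by
        have h1 := hpow n
        rw [hVc _ hnm v hv, mul_inv_cancel_right] at h1
        exact mul_eq_right.1 h1.symm
      have h1 : orderOf δ ∣ 1 := by
        have hco : n.Coprime q := Nat.coprime_comm.1 (hq.out.coprime_iff_not_dvd.2 hn)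
        exact hco ▸ Nat.dvd_gcd (orderOf_dvd_of_pow_eq_one hn1) (orderOf_dvd_of_pow_eq_one hδW.2)
      exact mul_inv_eq_one.1 (orderOf_eq_one_iff.1 (Nat.dvd_one.1 h1))
  have hVker : V ≤ ρ.ker := fun g hg => LinearEquiv.ext fun w => Subtype.ext (by
    show g * (Additive.toMul w : W) * g⁻¹ = (Additive.toMul w : W)
    rw [hVc g hg _ (Additive.toMul w).2.1, mul_inv_cancel_right])
  have hrange : Group.IsSolvable ρ.range := by
    refine CfsgLib.OrbitPPower.isSolvable_of_pPow (p := p) _ (fun w => ?_) ?_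
    · obtain ⟨x, hx, hxw⟩ := (Additive.toMul w).2.1
      obtain ⟨a, ha⟩ := hall x hx
      have hdvd : (MulAction.stabilizer ρ.range w).index ∣ p ^ a := by
        rw [← ha, ← Subgroup.index_comap_of_surjective _ ρ.rangeRestrict_surjective]
        refine (Subgroup.index_dvd_of_le ?_).trans
          (Subgroup.index_map_dvd (Subgroup.centralizer ({x} : Set G)) hsurj)
        rintro _ ⟨c, hc, rfl⟩
        refine Subtype.ext ?_
        show π c * (Additive.toMul w : W) * (π c)⁻¹ = (Additive.toMul w : W)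
        rw [← hxw, ← map_mul, Subgroup.mem_centralizer_singleton_iff.1 hc, map_mul, mul_inv_cancel_right]
      obtain ⟨j, -, hj⟩ := (Nat.dvd_prime_pow (Fact.out : p.Prime)).1 hdvd
      exact ⟨j, hj⟩
    · intro h
      rw [← Subgroup.index_ker] at h
      exact hVidx (h.trans (Subgroup.index_dvd_of_le hVker))
  haveI : Group.IsSolvable V :=
    Group.isSolvable_of_comm fun a b => Subtype.ext (hVc a a.2 b b.2)
  haveI : Group.IsSolvable ρ.ker :=
    Group.isSolvable_of_isSolvable_injective (Subgroup.inclusion_injective hkerV)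
  exact Group.isSolvable_of_ker_le_range ρ.ker.subtype ρ.rangeRestrict
    (by rw [MonoidHom.ker_rangeRestrict, Subgroup.range_subtype])

/-- Let G be a finite group and q a prime dividing its order such that every element of q-power order has a conjugacy class of prime-power size. Then G is q-solvable of q-length 1: there are normal subgroups K ≤ L of G with K of order prime to q, L/K a q-group and L of index prime to q. Moreover there is a prime p such that every element of q-power order has a class of p-power size (one prime serving for all of them), and for a Sylow q-subgroup Q: if p = q then Q is normal with a normal complement (a direct factor), while if p ≠ q then Q is abelian, the product of Q with the largest normal p-subgroup O_p(G) is normal in G, and G/O_{q'}(G) is solvable, where O_{q'}(G) is the largest normal subgroup of order prime to q. -/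
theorem result {G : Type*} [Group G] [Finite G] (q : ℕ) [Fact q.Prime] (hq : q ∣ Nat.card G)
    (hBaer : ∀ x : G, (∃ k : ℕ, orderOf x = q ^ k) → ∃ (r : ℕ) (a : ℕ), r.Prime ∧ (Subgroup.centralizer ({x} : Set G)).index = r ^ a) (Q : Sylow q G) :
    (∃ K L : Subgroup G, K.Normal ∧ L.Normal ∧ K ≤ L ∧ (Nat.card K).Coprime q ∧ (∃ m : ℕ, K.relIndex L = q ^ m) ∧ L.index.Coprime q) ∧
    ∃ p : ℕ, p.Prime ∧ (∀ x : G, (∃ k : ℕ, orderOf x = q ^ k) → ∃ a : ℕ, (Subgroup.centralizer ({x} : Set G)).index = p ^ a) ∧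
      (p = q → (Q : Subgroup G).Normal ∧ ∃ N : Subgroup G, N.Normal ∧ N.IsComplement' (Q : Subgroup G)) ∧
      (p ≠ q → IsMulCommutative (Q : Subgroup G) ∧ (Cfsg.pCore p G ⊔ (Q : Subgroup G)).Normal ∧
        ∀ _h : (Cfsg.pPrimeCore q G).Normal, Group.IsSolvable (G ⧸ Cfsg.pPrimeCore q G)) := by
  have hqp : q.Prime := Fact.out
  have hQidx : (Q : Subgroup G).index.Coprime q :=
    Nat.coprime_comm.1 (hqp.coprime_iff_not_dvd.2 Q.not_dvd_index)
  obtain ⟨m, hm⟩ := Q.2.exists_card_eq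
  by_cases hall : ∀ x : G, (∃ k : ℕ, orderOf x = q ^ k) →
      ∃ a : ℕ, (Subgroup.centralizer ({x} : Set G)).index = q ^ a
  · obtain ⟨hn, hN⟩ := direct_case Q hall
    refine ⟨⟨⊥, Q, inferInstance, hn, bot_le, by simp, ⟨m, ?_⟩, hQidx⟩, q, hqp, hall,
      fun _ => ⟨hn, hN⟩, fun h => absurd rfl h⟩
    rw [Subgroup.relIndex_bot_left, hm]
  push Not at hall
  obtain ⟨x₀, hx₀, hx₀q⟩ := hall
  obtain ⟨p, a₀, hp, hx₀a⟩ := hBaer x₀ hx₀
  have hpq : p ≠ q := fun h => hx₀q a₀ (h ▸ hx₀a)
  have hx₀1 : (Subgroup.centralizer ({x₀} : Set G)).index ≠ 1 := fun h =>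
    hx₀q 0 (h.trans (pow_zero q).symm)
  have hall : ∀ x : G, (∃ k : ℕ, orderOf x = q ^ k) →
      ∃ a : ℕ, (Subgroup.centralizer ({x} : Set G)).index = p ^ a :=
    fun x hx => same_prime hp hpq hx₀ hx₀a hx₀1 hBaer hx
  haveI := Fact.mk hp
  haveI hPn := CfsgLib.Solvable.pCore_normal p G
  set P := Cfsg.pCore p G with hP
  set π := QuotientGroup.mk' P with hπ
  have hPco : (Nat.card P).Coprime q := by
    obtain ⟨n, hn⟩ := CfsgLib.Solvable.card_pCore (p := p) (G := G)
    rw [hP, hn]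
    exact Nat.Coprime.pow_left _ ((Nat.coprime_primes hp hqp).2 hpq)
  set U := Cfsg.pCore q (G ⧸ P) with hU
  haveI : U.Normal := CfsgLib.Solvable.pCore_normal q (G ⧸ P)
  have hQU : (Q : Subgroup G).map π = U := by
    refine le_antisymm ?_ ?_
    · rintro _ ⟨x, hx, rfl⟩
      obtain ⟨a, ha⟩ := hall x (exists_q_power Q hx)
      exact mem_image_pCore (exists_q_power Q hx) ha
    · exact CfsgLib.Solvable.pCore_le_sylow (Q.mapSurjective (QuotientGroup.mk'_surjective P))
  have hW : P ⊔ (Q : Subgroup G) = U.comap π := by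
    rw [← hQU, Subgroup.comap_map_eq, QuotientGroup.ker_mk', sup_comm]
  have hWn : (P ⊔ (Q : Subgroup G)).Normal := hW ▸ inferInstance
  have hinf : ∀ x ∈ (Q : Subgroup G), π x = 1 → x = 1 := by
    intro x hx h
    have hxP : x ∈ P := (QuotientGroup.eq_one_iff x).1 h
    obtain ⟨k, hk⟩ := exists_q_power Q hx
    have h1 : orderOf x ∣ 1 := by
      have hco : (Nat.card P).Coprime (q ^ k) := hPco.pow_right k
      exact hco ▸ Nat.dvd_gcd (by rw [← Subgroup.orderOf_mk x hxP]; exact orderOf_dvd_natCard _)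
        (dvd_of_eq hk)
    exact orderOf_eq_one_iff.1 (Nat.dvd_one.1 h1)
  have hab : ∀ x ∈ (Q : Subgroup G), ∀ u ∈ (Q : Subgroup G), x * u = u * x := by
    intro x hx u hu
    obtain ⟨a, ha⟩ := hall x (exists_q_power Q hx)
    obtain ⟨Q', hQ'⟩ := (CfsgLib.ClassSize.exists_sylow_le_centralizer_iff q x).2 (by
      rw [ha]; exact fun hd => hpq ((Nat.prime_dvd_prime_iff_eq hqp hp).1 (hqp.dvd_of_dvd_pow hd)).symm)
    have hcomm : π x * π u = π u * π x := by
      have hUQ : (Q' : Subgroup G).map π = U := by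
        refine le_antisymm ?_ (CfsgLib.Solvable.pCore_le_sylow
          (Q'.mapSurjective (QuotientGroup.mk'_surjective P)))
        rintro _ ⟨y, hy, rfl⟩
        obtain ⟨b, hb⟩ := hall y (exists_q_power Q' hy)
        exact mem_image_pCore (exists_q_power Q' hy) hb
      have hmem : π u ∈ (Q' : Subgroup G).map π := by rw [hUQ, ← hQU]; exact Subgroup.mem_map_of_mem π hu
      obtain ⟨y, hy, hyu⟩ := hmem
      rw [← hyu, ← map_mul, ← map_mul, (Subgroup.mem_centralizer_singleton_iff.1 (hQ' hy)).symm]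
    have h := hinf (x * u * x⁻¹ * u⁻¹) (mul_mem (mul_mem (mul_mem hx hu) (inv_mem hx)) (inv_mem hu))
      (by rw [map_mul, map_mul, map_mul, map_inv, map_inv, hcomm, mul_inv_cancel_right, mul_inv_cancel])
    rwa [mul_inv_eq_one, mul_inv_eq_iff_eq_mul] at h
  refine ⟨⟨P, P ⊔ Q, hPn, hWn, le_sup_left, hPco, ⟨m, ?_⟩,
      (hQidx.coprime_dvd_left (Subgroup.index_dvd_of_le le_sup_right))⟩,
    p, hp, hall, fun h => absurd h hpq, fun _ => ⟨?_, hWn, fun hn => ?_⟩⟩
  · rw [Subgroup.relIndex_sup_left, ← hm, ← Subgroup.inf_relIndex_right]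
    have hb : P ⊓ (Q : Subgroup G) = ⊥ := (Subgroup.eq_bot_iff_forall _).2 fun x hx =>
      hinf x hx.2 ((QuotientGroup.eq_one_iff x).2 hx.1)
    rw [hb, Subgroup.relIndex_bot_left]
  · exact ⟨⟨fun a b => Subtype.ext (hab a a.2 b b.2)⟩⟩
  · exact solvable_case hpq Q hab hWn fun x hx => hall x (exists_q_power Q hx)

end Cfsg.Agent.S4125
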