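import Cfsg.Statements.S4127
import Cfsg.Agent.Lib.FGStruct.PPowerClass
import Cfsg.Agent.Lib.PNilpotent.Basic
import Cfsg.Agent.Lib.Solvable.Core
import Cfsg.Agent.Lib.Solvable.CoprimeAction

set_option autoImplicit false
open Cfsg Pointwise

namespace Cfsg.Agent.S4127

/-- Let G be a finite group, p a prime and p^a the largest power of p dividing the size of any conjugacy class of G. If some element of p-power order has a conjugacy class of size exactly p^a, then G has a normal p-complement. -/
theorem result {G : Type*} [Group G] [Finite G] (p : ℕ) [Fact p.Prime]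
    (a : ℕ) (hmax : ∀ y : G, ¬ p ^ (a + 1) ∣ (Subgroup.centralizer ({y} : Set G)).index)
    (hx : ∃ x : G, (∃ k : ℕ, orderOf x = p ^ k) ∧ (Subgroup.centralizer ({x} : Set G)).index = p ^ a) :
    Cfsg.HasNormalPComplement p G := by
  classical
  obtain ⟨x, ⟨k, hk⟩, hxi⟩ := hx
  set C := Subgroup.centralizer ({x} : Set G) with hC
  obtain ⟨P₀⟩ : Nonempty (Sylow p C) := inferInstance
  have hxC : x ∈ C := Subgroup.mem_centralizer_singleton_iff.mpr rfl
  -- `p'`-elements of `C` centralise a Sylow `p`-subgroup of `C`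
  have hy0 : ∀ y ∈ C, (orderOf y).Coprime p →
      ¬ p ∣ (Subgroup.centralizer ({y} : Set G)).relIndex C := by
    intro y hy hyo hdvd
    apply hmax (x * y)
    have hxy : x * y = y * x := (Subgroup.mem_centralizer_singleton_iff.mp hy).symm
    have hcop : (orderOf x).Coprime (orderOf y) := by rw [hk]; exact (hyo.symm).pow_left _
    have heq : Subgroup.centralizer ({x * y} : Set G) = Subgroup.centralizer ({y} : Set G) ⊓ C := by
      ext z
      simp only [hC, Subgroup.mem_inf, Subgroup.mem_centralizer_singleton_iff]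
      constructor
      · intro hz
        have hcz : Commute z (x * y) := hz
        refine ⟨?_, ?_⟩
        · obtain ⟨i, hi⟩ : ∃ i : ℕ, (x * y) ^ (orderOf x * i) = y := by
            obtain ⟨i, hi⟩ := exists_pow_eq_self_of_coprime (x := y) hcop
            exact ⟨i, by rw [Commute.mul_pow hxy, pow_mul x, pow_orderOf_eq_one, one_pow, one_mul, pow_mul, hi]⟩
          have h2 := hcz.pow_right (orderOf x * i)
          rw [hi] at h2
          exact h2
        · obtain ⟨i, hi⟩ : ∃ i : ℕ, (x * y) ^ (orderOf y * i) = x := by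
            obtain ⟨i, hi⟩ := exists_pow_eq_self_of_coprime (x := x) hcop.symm
            exact ⟨i, by rw [Commute.mul_pow hxy, pow_mul y, pow_orderOf_eq_one, one_pow, mul_one, pow_mul, hi]⟩
          have h2 := hcz.pow_right (orderOf y * i)
          rw [hi] at h2
          exact h2
      · rintro ⟨h1, h2⟩
        exact (Commute.mul_right (show Commute z x from h2) (show Commute z y from h1))
    rw [heq, ← Subgroup.relIndex_mul_index inf_le_right, Subgroup.inf_relIndex_right, hxi, pow_succ']
    exact Nat.mul_dvd_mul_right hdvd _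
  have hsyl : ∀ z y : C, (orderOf (y : G)).Coprime p → (∃ j, orderOf z = p ^ j) → z * y = y * z →
      ∃ S : Sylow p C, z ∈ (S : Subgroup C) ∧ ∀ w ∈ (S : Subgroup C), w * y = y * w := by
    intro z y hy hz hzy
    set K := Subgroup.centralizer ({y} : Set C) with hK
    have hKidx : ¬ p ∣ K.index := by
      have : K = (Subgroup.centralizer ({(y : G)} : Set G)).subgroupOf C := by
        ext w
        rw [hK, Subgroup.mem_subgroupOf, Subgroup.mem_centralizer_singleton_iff,
          Subgroup.mem_centralizer_singleton_iff, Subtype.ext_iff]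
        rfl
      rw [this]
      exact hy0 y y.2 hy
    obtain ⟨j, hj⟩ := hz
    have hzK : z ∈ K := Subgroup.mem_centralizer_singleton_iff.mpr hzy
    obtain ⟨T, hT⟩ := (IsPGroup.of_card (p := p) (n := j) (G := ↥(Subgroup.zpowers (⟨z, hzK⟩ : K)))
      (by rw [Nat.card_zpowers, ← Subgroup.orderOf_coe]; exact hj)).exists_le_sylow
    have hcard : ¬ p ∣ ((T : Subgroup K).map K.subtype).index := by
      rw [Subgroup.index_map_subtype]
      exact fun h => ((Nat.Prime.dvd_mul Fact.out).mp h).elim T.not_dvd_index hKidx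
    refine ⟨(T.isPGroup'.map K.subtype).toSylow hcard, ⟨⟨z, hzK⟩, hT (Subgroup.mem_zpowers _), rfl⟩, ?_⟩
    rintro w ⟨w', -, rfl⟩
    exact Subgroup.mem_centralizer_singleton_iff.mp w'.2
  set U := (P₀ : Subgroup C) ⊔ Subgroup.centralizer ((P₀ : Subgroup C) : Set C) with hU
  have hUtop : U = ⊤ := by
    refine CfsgLib.FGStruct.PPowerClass.eq_top_of_conj_cover U fun w => ?_
    obtain ⟨i, j, hij, hpi, hpj⟩ := CfsgLib.PNilpotent.exists_pPart_decomp (p := p) w
    obtain ⟨S, hzS, hS⟩ := hsyl (w ^ i) (w ^ j) (by rw [Subgroup.orderOf_coe]; exact hpj) hpi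
      (by rw [← pow_add, ← pow_add, add_comm])
    obtain ⟨c, hc⟩ := MulAction.exists_smul_eq C P₀ S
    refine ⟨c, ?_⟩
    have hz : c⁻¹ * w ^ i * c ∈ (P₀ : Subgroup C) := by
      rw [← hc, Sylow.coe_subgroup_smul, CfsgLib.Solvable.mem_conj_smul] at hzS
      exact hzS
    have hy : c⁻¹ * w ^ j * c ∈ Subgroup.centralizer ((P₀ : Subgroup C) : Set C) := by
      rw [Subgroup.mem_centralizer_iff]
      intro q hq
      have hq' : c * q * c⁻¹ ∈ (S : Subgroup C) := by
        rw [← hc, Sylow.coe_subgroup_smul, CfsgLib.Solvable.mem_conj_smul]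
        rw [show c⁻¹ * (c * q * c⁻¹) * c = q by simp [mul_assoc]]
        exact hq
      have := hS _ hq'
      calc q * (c⁻¹ * w ^ j * c) = c⁻¹ * ((c * q * c⁻¹) * w ^ j) * c := by simp [mul_assoc]
        _ = c⁻¹ * w ^ j * c * q := by rw [this]; simp [mul_assoc]
    have e : c⁻¹ * w * c = (c⁻¹ * w ^ i * c) * (c⁻¹ * w ^ j * c) := by
      conv_lhs => rw [← hij]
      simp [mul_assoc]
    rw [e]
    exact Subgroup.mul_mem_sup hz hy
  haveI hP₀n : (P₀ : Subgroup C).Normal := by
    rw [← Subgroup.normalizer_eq_top_iff, eq_top_iff, ← hUtop, hU, sup_le_iff]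
    refine ⟨Subgroup.le_normalizer, fun c hc => Subgroup.mem_normalizer_iff.mpr fun q => ?_⟩
    have hc' := Subgroup.mem_centralizer_iff.mp hc
    constructor
    · intro hq
      rw [← hc' q hq, mul_inv_cancel_right]; exact hq
    · intro hq
      have h1 := hc' _ hq
      have : q = c * q * c⁻¹ := by
        calc q = c⁻¹ * (c * q * c⁻¹ * c) := by simp [mul_assoc]
          _ = c * q * c⁻¹ := by rw [h1]; simp
      rwa [this]
  have huniq : ∀ S : Sylow p C, S = P₀ := fun S => by
    obtain ⟨c, hc⟩ := MulAction.exists_smul_eq C P₀ S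
    rw [← hc]; exact Sylow.smul_eq_of_normal
  have hcent : ∀ y : C, (orderOf y).Coprime p → ∀ w ∈ (P₀ : Subgroup C), w * y = y * w := by
    intro y hy
    obtain ⟨S, -, hS⟩ := hsyl 1 y (by rw [Subgroup.orderOf_coe]; exact hy) ⟨0, by simp⟩ (by simp)
    rw [huniq S] at hS
    exact hS
  obtain ⟨A₀, hA⟩ := Subgroup.exists_right_complement'_of_coprime (N := (P₀ : Subgroup C)) P₀.card_coprime_index
  have hAcard : (Nat.card A₀).Coprime p := by
    have h1 : A₀.index = Nat.card (P₀ : Subgroup C) := hA.index_eq_card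
    have h2 := A₀.card_mul_index
    rw [h1, ← (P₀ : Subgroup C).index_mul_card] at h2
    rw [Nat.eq_of_mul_eq_mul_right Nat.card_pos h2]
    exact ((Nat.Prime.coprime_iff_not_dvd Fact.out).mpr P₀.not_dvd_index).symm
  have hAelt : ∀ w : C, (orderOf w).Coprime p → w ∈ A₀ := by
    intro w hw
    obtain ⟨⟨u, v⟩, huv, -⟩ := hA.existsUnique w
    have hcv : Commute (u : C) (v : C) :=
      hcent v (Nat.Coprime.coprime_dvd_left (Subgroup.orderOf_dvd_natCard _ v.2) hAcard) u u.2
    obtain ⟨j, hj⟩ := IsPGroup.iff_orderOf.mp P₀.isPGroup' u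
    have hju : orderOf (u : C) = p ^ j := by rw [← hj, Subgroup.orderOf_coe]
    have hcop : (orderOf (u : C)).Coprime (orderOf (v : C)) := by
      rw [hju]
      exact Nat.Coprime.pow_left _ (Nat.Coprime.coprime_dvd_left (Subgroup.orderOf_dvd_natCard _ v.2) hAcard).symm
    replace huv : (u : C) * (v : C) = w := huv
    have h1 : orderOf w = orderOf (u : C) * orderOf (v : C) := by
      rw [← huv]; exact hcv.orderOf_mul_eq_mul_orderOf_of_coprime hcop
    rw [h1] at hw
    have hu1 : (u : C) = 1 := by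
      rw [← orderOf_eq_one_iff]
      exact Nat.eq_one_of_dvd_coprimes (hw.pow_right j) (dvd_mul_right _ _) (hju ▸ dvd_rfl)
    rw [← huv, hu1, one_mul]
    exact v.2
  set A := A₀.map C.subtype with hAdef
  have hAc : (Nat.card A).Coprime p := by
    rw [hAdef, Subgroup.card_map_of_injective C.subtype_injective]; exact hAcard
  have hOC : A ≤ Subgroup.centralizer ((Cfsg.pCore p G : Subgroup G) : Set G) := by
    haveI := CfsgLib.Solvable.pCore_normal p G
    refine CfsgLib.Solvable.thompson_pxq (P := Subgroup.zpowers x)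
      (IsPGroup.of_card (n := k) (by rw [Nat.card_zpowers, hk])) hAc (CfsgLib.Solvable.pCore_isPGroup p G)
      ?_ (by rw [Subgroup.normalizer_eq_top]; exact le_top) (by rw [Subgroup.normalizer_eq_top]; exact le_top) ?_
    · rw [Subgroup.zpowers_le, Subgroup.mem_centralizer_iff]
      rintro _ ⟨w, -, rfl⟩
      exact Subgroup.mem_centralizer_singleton_iff.mp w.2
    · intro u hu
      obtain ⟨huO, hux⟩ := hu
      have huC : u ∈ C := Subgroup.mem_centralizer_singleton_iff.mpr
        ((Subgroup.mem_centralizer_iff.mp hux x (Subgroup.mem_zpowers x)).symm)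
      have huP : (⟨u, huC⟩ : C) ∈ (P₀ : Subgroup C) :=
        ((CfsgLib.Solvable.pCore_normal p G).subgroupOf C |> fun hn => by
          haveI := hn
          exact ((CfsgLib.Solvable.pCore_isPGroup p G).comap_subtype (K := C)).le_sylow_of_normal P₀ huO)
      rw [Subgroup.mem_centralizer_iff]
      rintro _ ⟨w, hw, rfl⟩
      exact (congrArg Subtype.val (hcent w (Nat.Coprime.coprime_dvd_left
        (Subgroup.orderOf_dvd_natCard _ hw) hAcard) _ huP)).symm
  have hxO : x ∈ Cfsg.pCore p G := CfsgLib.FGStruct.PPowerClass.mem_pCore x hk hxi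
  haveI hAn : A.Normal := by
    refine ⟨fun w hw g => ?_⟩
    have hwO : g * w * g⁻¹ ∈ Subgroup.centralizer ((Cfsg.pCore p G : Subgroup G) : Set G) := by
      rw [Subgroup.mem_centralizer_iff]
      intro o ho
      have h1 := (CfsgLib.Solvable.pCore_normal p G).conj_mem o ho g⁻¹
      have h2 := Subgroup.mem_centralizer_iff.mp (hOC hw) _ h1
      calc o * (g * w * g⁻¹) = g * ((g⁻¹ * o * g⁻¹⁻¹) * w) * g⁻¹ := by simp [mul_assoc]
        _ = g * w * g⁻¹ * o := by rw [h2]; simp [mul_assoc]
    have hwC : g * w * g⁻¹ ∈ C :=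
      Subgroup.mem_centralizer_singleton_iff.mpr ((Subgroup.mem_centralizer_iff.mp hwO x hxO).symm)
    refine ⟨⟨_, hwC⟩, hAelt _ ?_, rfl⟩
    rw [← Subgroup.orderOf_coe]
    show (orderOf (g * w * g⁻¹)).Coprime p
    rw [show orderOf (g * w * g⁻¹) = orderOf w from (MulAut.conj g).orderOf_eq w]
    exact Nat.Coprime.coprime_dvd_left (Subgroup.orderOf_dvd_natCard _ hw) hAc
  obtain ⟨P⟩ : Nonempty (Sylow p G) := inferInstance
  refine ⟨P, A, hAn, Subgroup.isComplement'_of_coprime ?_ ?_⟩
  · obtain ⟨j, hj⟩ := IsPGroup.iff_card.mp P₀.isPGroup'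
    obtain ⟨l, hl⟩ := IsPGroup.iff_card.mp P.isPGroup'
    have h1 := hA.card_mul
    have h2 := C.index_mul_card
    rw [hxi, ← h1, hj] at h2
    have h3 := (P : Subgroup G).card_mul_index
    rw [hl] at h3 ⊢
    have hcardA : Nat.card A = Nat.card A₀ := Subgroup.card_map_of_injective C.subtype_injective
    rw [hcardA]
    have h4 : p ^ (a + j) * Nat.card A₀ = p ^ l * (P : Subgroup G).index := by
      rw [h3, pow_add, mul_assoc, h2]
    have h5 : p ^ (a + j) ∣ p ^ l := by
      refine Nat.Coprime.dvd_of_dvd_mul_right ?_ (h4 ▸ dvd_mul_right _ _)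
      exact Nat.Coprime.pow_left _ ((Nat.Prime.coprime_iff_not_dvd Fact.out).mpr P.not_dvd_index)
    have h6 : p ^ l ∣ p ^ (a + j) :=
      Nat.Coprime.dvd_of_dvd_mul_right (hAcard.symm.pow_left l) (h4.symm ▸ dvd_mul_right _ _)
    rw [← h2, Nat.dvd_antisymm h6 h5, pow_add]
    ring
  · obtain ⟨l, hl⟩ := IsPGroup.iff_card.mp P.isPGroup'
    rw [hl]; exact hAc.pow_right l

end Cfsg.Agent.S4127
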