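import Cfsg.Statements.S3341
import Cfsg.Agent.Lib.Recog.ThreeNineSelfCent

set_option autoImplicit false
open Cfsg

namespace Cfsg.Agent.S3341

section Aux

variable {G : Type*} [Group G] [Finite G]

theorem card_sylow_modEq_nine (P : Sylow 3 G) (hA : CfsgLib.CA.SelfCent (P : Subgroup G))
    (h9 : Nat.card (P : Subgroup G) = 9) : 9 ∣ Nat.card (Sylow 3 G) - 1 := by
  classical
  have := Fact.mk Nat.prime_three
  have := Fintype.ofFinite (Sylow 3 G)
  have := Fintype.ofFinite (P : Subgroup G)
  have hstab : ∀ (a : (P : Subgroup G)) (Q : Sylow 3 G), a ≠ 1 → a • Q = Q → Q = P := by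
    intro a Q ha hQ
    have haN : (a : G) ∈ Subgroup.normalizer (Q : Set G) := (Sylow.smul_eq_iff_mem_normalizer).1 hQ
    have hp : IsPGroup 3 ((Subgroup.zpowers (a : G) : Subgroup G) ⊔ (Q : Subgroup G) : Subgroup G) := by
      refine IsPGroup.to_sup_of_normal_right' ?_ Q.2 (Subgroup.zpowers_le.2 haN)
      exact P.2.to_le (Subgroup.zpowers_le.2 a.2)
    have haQ : (a : G) ∈ (Q : Subgroup G) := Q.3 hp le_sup_right ▸ Subgroup.mem_sup_left (Subgroup.mem_zpowers _)
    have ha1 : (a : G) ≠ 1 := fun h => ha (Subtype.ext h)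
    have hcard : Nat.card (Q : Subgroup G) = 9 := by rw [Sylow.card_eq_multiplicity, ← P.card_eq_multiplicity, h9]
    haveI : IsMulCommutative (Q : Subgroup G) :=
      ⟨⟨IsPGroup.commutative_of_card_eq_prime_sq (p := 3) (by simpa using hcard)⟩⟩
    refine Sylow.ext (Subgroup.eq_of_le_of_card_ge (fun q hq => ?_) (by rw [hcard, h9]))
    exact hA.mem_of_commute a.2 ha1 (congrArg Subtype.val (mul_comm' (⟨q, hq⟩ : (Q : Subgroup G)) ⟨a, haQ⟩))
  have hPfix : ∀ a : (P : Subgroup G), a • P = P := fun a =>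
    Sylow.smul_eq_iff_mem_normalizer.2 (Subgroup.le_normalizer a.2)
  have hfix : ∀ a : (P : Subgroup G), a ≠ 1 → Fintype.card (MulAction.fixedBy (Sylow 3 G) a) = 1 := fun a ha =>
    Fintype.card_eq_one_iff.2 ⟨⟨P, hPfix a⟩, fun Q => Subtype.ext (hstab a Q.1 ha Q.2)⟩
  have h := MulAction.sum_card_fixedBy_eq_card_orbits_mul_card_group (P : Subgroup G) (Sylow 3 G)
  rw [← Finset.add_sum_erase _ _ (Finset.mem_univ (1 : (P : Subgroup G))),
    Finset.sum_congr rfl (fun b hb => hfix b (Finset.mem_erase.mp hb).1), Finset.sum_const,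
    smul_eq_mul, mul_one, Finset.card_erase_of_mem (Finset.mem_univ _), Finset.card_univ] at h
  have h1 : Fintype.card (MulAction.fixedBy (Sylow 3 G) (1 : (P : Subgroup G))) = Fintype.card (Sylow 3 G) :=
    Fintype.card_congr (Equiv.subtypeUnivEquiv fun x => one_smul _ x)
  rw [h1] at h
  simp only [Nat.card_eq_fintype_card] at h9 ⊢
  rw [h9] at h
  omega

end Aux

/-- Let G be a finite simple group whose Sylow 3-subgroup S is elementary abelian of order 9, such that G has more than one conjugacy class of elements of order 3 and C_G(s) = S for every non-identity s in S. Then G is isomorphic to the alternating group of degree 6. -/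
theorem result {G : Type*} [Group G] [Finite G] [IsSimpleGroup G]
    (P : Sylow 3 G) (S : Subgroup G) (hSP : S = P) (hcomm : IsMulCommutative S) (hexp : ∀ a ∈ S, a ^ 3 = 1)
    (hcard : Nat.card S = 9)
    (hclasses : ∃ a b : G, orderOf a = 3 ∧ orderOf b = 3 ∧ ∀ g : G, g * a * g⁻¹ ≠ b)
    (hcent : ∀ s ∈ S, s ≠ 1 → Subgroup.centralizer ({s} : Set G) = S) :
    Nonempty (G ≃* alternatingGroup (Fin 6)) := by
  classical
  subst hSP
  have := Fintype.ofFinite G
  have := Fact.mk Nat.prime_three
  set A : Subgroup G := (P : Subgroup G) with hAP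
  have hA : CfsgLib.CA.SelfCent A := ⟨fun h => by rw [h, Subgroup.card_bot] at hcard; omega, hcent⟩
  have hnc : ∃ x y : G, x * y ≠ y * x := by
    obtain ⟨a, b, -, -, hab⟩ := hclasses
    by_contra h
    push Not at h
    obtain ⟨s, hs, hs1⟩ := hA.exists_ne_one
    have hc : Subgroup.centralizer ({s} : Set G) = ⊤ := by
      rw [eq_top_iff]
      exact fun g _ => Subgroup.mem_centralizer_singleton_iff.2 (h g s)
    rw [hcent s hs hs1] at hc
    rw [hc, Subgroup.card_top] at hcard
    letI : CommGroup G := { (inferInstance : Group G) with mul_comm := h }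
    have hp := IsSimpleGroup.prime_card (α := G)
    rw [hcard] at hp
    norm_num at hp
  set N := Subgroup.normalizer (A : Set G) with hN
  obtain ⟨e, he⟩ : Nat.card A ∣ Nat.card N := Subgroup.card_dvd_of_le Subgroup.le_normalizer
  have hcardeq := CfsgLib.CA.Small.card_eq hA he
  rw [hcard] at hcardeq
  set k := Fintype.card (CfsgLib.CA.Orb A) with hk
  have hk2 : 2 ≤ k := by
    by_contra hlt
    have he8 : e = 8 := by
      interval_cases k <;> omega
    obtain ⟨a, b, ha, hb, hab⟩ := hclasses
    have hinA : ∀ x : G, orderOf x = 3 → ∃ g : G, g * x * g⁻¹ ∈ A := by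
      intro x hx
      obtain ⟨Q, hQ⟩ := IsPGroup.exists_le_sylow (IsPGroup.of_card (p := 3) (n := 1)
        (G := Subgroup.zpowers x) (by rw [Nat.card_zpowers, hx, pow_one]))
      obtain ⟨g, hg⟩ := MulAction.exists_smul_eq G Q P
      refine ⟨g, ?_⟩
      rw [hAP, ← hg]
      exact ⟨x, hQ (Subgroup.mem_zpowers x), rfl⟩
    obtain ⟨g, hg⟩ := hinA a ha
    obtain ⟨g', hg'⟩ := hinA b hb
    have hne : ∀ {u x : G} (hx : x * u * x⁻¹ ∈ A), orderOf u = 3 → (⟨_, hx⟩ : A) ≠ 1 := by
      intro u x hx hu h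
      rw [conj_eq_one_iff.1 (congrArg Subtype.val h), orderOf_one] at hu
      omega
    have hall : CfsgLib.CA.Small.ncl (⟨_, hg⟩ : A) = Finset.univ.erase 1 := by
      refine Finset.eq_of_subset_of_card_le (fun y hy => Finset.mem_erase.2
        ⟨CfsgLib.CA.Small.ne_one_of_mem_ncl (hne hg ha) hy, Finset.mem_univ y⟩) ?_
      rw [CfsgLib.CA.Small.card_ncl hA he (hne hg ha), Finset.card_erase_of_mem (Finset.mem_univ _),
        Finset.card_univ, ← Nat.card_eq_fintype_card, hcard, he8]
    have hmem : (⟨_, hg'⟩ : A) ∈ CfsgLib.CA.Small.ncl (⟨_, hg⟩ : A) :=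
      hall ▸ Finset.mem_erase.2 ⟨hne hg' hb, Finset.mem_univ _⟩
    obtain ⟨c, hc⟩ := isConj_iff.1 ((CfsgLib.CA.Small.isConj_iff_mem_ncl hA (hne hg ha)).2 hmem)
    refine hab (g'⁻¹ * c * g) ?_
    calc g'⁻¹ * c * g * a * (g'⁻¹ * c * g)⁻¹ = g'⁻¹ * (c * (g * a * g⁻¹) * c⁻¹) * g' := by group
      _ = b := by rw [hc]; group
  have h8 : e * k = 8 := by omega
  have hek : e = 1 ∨ e = 2 ∨ e = 4 := by
    have : e ∣ 8 := ⟨k, h8.symm⟩
    have : e ≤ 4 := by nlinarith
    interval_cases e <;> omega
  obtain ⟨D⟩ := CfsgLib.CA.Small.exists_data hA he hk2 (by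
    rcases hek with rfl | rfl | rfl <;> omega)
  rcases hek with rfl | rfl | rfl
  · exact (CfsgLib.Recog.ThreeNine.false_of_one hnc D).elim
  · exact (CfsgLib.Recog.ThreeNine.false_of_two hnc hA hexp hcard he D).elim
  have h720 := CfsgLib.Recog.ThreeNine.card_le_of_four hA hexp hcard he D
  have hsyl : Nat.card (Sylow 3 G) * 36 = Nat.card G := by
    rw [Sylow.card_eq_index_normalizer P]
    have := Subgroup.index_mul_card N
    rw [he, hcard] at this
    exact this
  have h9 := card_sylow_modEq_nine P hA hcard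
  have hpos : 0 < Nat.card (Sylow 3 G) := Nat.card_pos
  have hne1 : Nat.card (Sylow 3 G) ≠ 1 := by
    intro h1
    have hnorm : A.Normal := Subgroup.normalizer_eq_top_iff.1 (Subgroup.index_eq_one.1
      ((Sylow.card_eq_index_normalizer P).symm.trans h1))
    rcases hnorm.eq_bot_or_eq_top with h | h
    · exact hA.ne_bot h
    · rw [h, Subgroup.card_top] at hcard
      omega
  have hG : Nat.card G = 360 := by
    have : Nat.card (Sylow 3 G) = 10 ∨ Nat.card (Sylow 3 G) = 19 := by omega
    rcases this with h | h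
    · rw [h] at hsyl; omega
    · exfalso
      rw [h] at hsyl
      have := Fact.mk (show Nat.Prime 19 by norm_num)
      let Q : Sylow 19 G := default
      have hQ : Nat.card Q = 19 := by
        rw [Sylow.card_eq_multiplicity, ← hsyl, Nat.factorization_def _ (by norm_num)]
        have : padicValNat 19 (19 * 36) = 1 := by
          rw [padicValNat.mul (by norm_num) (by norm_num), padicValNat.self (by norm_num),
            padicValNat.eq_zero_of_not_dvd (by norm_num)]
        rw [this, pow_one]
      have hd : Nat.card (Sylow 19 G) ∣ 36 := by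
        have h1 := Q.card_dvd_index
        have h2 := Subgroup.card_mul_index (Q : Subgroup G)
        rw [hQ, ← hsyl] at h2
        rwa [Nat.eq_of_mul_eq_mul_left (by norm_num) h2] at h1
      have hmod := card_sylow_modEq_one 19 G
      have h1 : Nat.card (Sylow 19 G) = 1 := by
        have := Nat.le_of_dvd (by norm_num) hd
        have h36 : ∀ n ≤ 36, n ∣ 36 → n % 19 = 1 → n = 1 := by decide
        exact h36 _ this hd hmod
      have hnorm : (Q : Subgroup G).Normal := Subgroup.normalizer_eq_top_iff.1 (Subgroup.index_eq_one.1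
        ((Sylow.card_eq_index_normalizer Q).symm.trans h1))
      rcases hnorm.eq_bot_or_eq_top with h' | h'
      · rw [show Nat.card Q = Nat.card (Q : Subgroup G) from rfl, h', Subgroup.card_bot] at hQ; omega
      · rw [show Nat.card Q = Nat.card (Q : Subgroup G) from rfl, h', Subgroup.card_top, ← hsyl] at hQ
        norm_num at hQ
  exact CfsgLib.Recog.ThreeSixty.iso_alternating_six hG

end Cfsg.Agent.S3341
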