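import Cfsg.Statements.S0110
import Cfsg.Agent.Lib.PGroup.Basic
import Mathlib.GroupTheory.GroupAction.ConjAct

set_option autoImplicit false
open Cfsg
open scoped commutatorElement

namespace Cfsg.Agent.S0110

/-- In a p-group G, an extraspecial subgroup E with [G, E] ≤ Z(E) satisfies G = E C_G(E). -/
theorem result {G : Type*} [Group G] [Finite G] {p : ℕ} [Fact p.Prime] (hG : IsPGroup p G) (E : Subgroup G) (hE : Cfsg.IsExtraspecial p E) (h : ⁅(⊤ : Subgroup G), E⁆ ≤ E ⊓ Subgroup.centralizer (E : Set G)) : E ⊔ Subgroup.centralizer (E : Set G) = ⊤ := by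
  have hpp : p.Prime := Fact.out
  have hcZ : Nat.card (Subgroup.center E) = p := hE.2
  set Zm : Subgroup G := (Subgroup.center E).map E.subtype with hZm
  have hmemZm : ∀ z : G, z ∈ Zm ↔ z ∈ E ⊓ Subgroup.centralizer (E : Set G) := by
    intro z
    constructor
    · rintro ⟨w, hw, rfl⟩
      refine ⟨w.2, Subgroup.mem_centralizer_iff.2 fun e he => ?_⟩
      exact congrArg Subtype.val (Subgroup.mem_center_iff.1 hw ⟨e, he⟩)
    · rintro ⟨hz1, hz2⟩
      refine ⟨⟨z, hz1⟩, Subgroup.mem_center_iff.2 fun e => Subtype.ext ?_, rfl⟩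
      exact Subgroup.mem_centralizer_iff.1 hz2 e e.2
  have hle : ∀ g : G, ∀ e ∈ E, ⁅g, e⁆ ∈ Zm := fun g e he =>
    (hmemZm _).2 (h (Subgroup.commutator_mem_commutator (Subgroup.mem_top g) he))
  have hZmE : Zm ≤ E := Subgroup.map_subtype_le _
  have hEn : E.Normal := ⟨fun e he g => by
    have := mul_mem (hZmE (hle g e he)) he
    rwa [commutatorElement_def, inv_mul_cancel_right] at this⟩
  have hZn : Zm.Normal := inferInstance
  have hZcard : Nat.card Zm = p := by
    rw [hZm, Nat.card_congr ((Subgroup.center E).equivMapOfInjective _ E.subtype_injective).toEquiv.symm, hcZ]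
  -- `Zm` is central in `G`
  have hZne : Zm ≠ ⊥ := fun hb => by
    rw [hb, Subgroup.card_bot] at hZcard; exact hpp.ne_one hZcard.symm
  obtain ⟨z, hzZ, hzc, hzo⟩ := CfsgLib.PGroup.exists_central_orderOf_eq hG Zm hZne
  have hZz : Subgroup.zpowers z = Zm := Subgroup.eq_of_le_of_card_ge (Subgroup.zpowers_le.2 hzZ)
    (by rw [hZcard, Nat.card_zpowers, hzo])
  have hZc : Zm ≤ Subgroup.center G := hZz ▸ Subgroup.zpowers_le.2 hzc
  -- `|G : C(K)| * p ≤ |K|` for `Zm ≤ K ≤ E`
  have key : ∀ K : Subgroup G, Zm ≤ K → K ≤ E →
      (Subgroup.centralizer (K : Set G)).index * p ≤ Nat.card K := by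
    intro K
    induction K using (wellFounded_lt (α := Subgroup G)).induction with
    | h K ih =>
      intro hZK hKE
      rcases hZK.lt_or_eq with hlt | heq
      · obtain ⟨B, ⟨hZB, hBK⟩, hmax⟩ :=
          (Set.toFinite {B : Subgroup G | Zm ≤ B ∧ B < K}).exists_maximal ⟨Zm, le_rfl, hlt⟩
        obtain ⟨a, haK, haB⟩ := SetLike.exists_of_lt hBK
        have hgen : B ⊔ Subgroup.zpowers a = K := by
          have hle' : B ⊔ Subgroup.zpowers a ≤ K := sup_le hBK.le (Subgroup.zpowers_le.2 haK)
          by_contra hne
          exact haB (hmax ⟨hZB.trans le_sup_left, lt_of_le_of_ne hle' hne⟩ le_sup_left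
            (Subgroup.mem_sup_right (Subgroup.mem_zpowers a)))
        have hcard : p * Nat.card B ≤ Nat.card K := by
          obtain ⟨i, hi⟩ := IsPGroup.iff_card.1 (hG.to_subgroup K)
          obtain ⟨j, hj⟩ := IsPGroup.iff_card.1 (hG.to_subgroup B)
          have hd : Nat.card B < Nat.card K := by
            by_contra hge
            exact hBK.ne (Subgroup.eq_of_le_of_card_ge hBK.le (not_lt.1 hge))
          rw [hi, hj] at hd ⊢
          rw [← pow_succ']
          exact Nat.pow_le_pow_right hpp.pos ((Nat.pow_lt_pow_iff_right hpp.one_lt).1 hd)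
        have hrel : (Subgroup.centralizer (K : Set G)).relIndex (Subgroup.centralizer (B : Set G)) ≤ p := by
          rw [Subgroup.relIndex, Subgroup.index, ← hZcard]
          refine Nat.card_le_card_of_injective
            (fun q => (⟨⁅((Quotient.out q : Subgroup.centralizer (B : Set G)) : G), a⁆,
              hle _ a (hKE haK)⟩ : Zm)) ?_
          intro q q' hq
          simp only [Subtype.mk.injEq] at hq
          rw [← Quotient.out_eq q, ← Quotient.out_eq q']
          apply QuotientGroup.eq.2
          rw [Subgroup.mem_subgroupOf]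
          refine Subgroup.centralizer_le (SetLike.coe_subset_coe.2 hgen.ge) ?_
          set g := (Quotient.out q : Subgroup.centralizer (B : Set G))
          set g' := (Quotient.out q' : Subgroup.centralizer (B : Set G))
          rw [← Subgroup.zpowers_le, Subgroup.le_centralizer_iff, sup_le_iff]
          constructor
          · rw [Subgroup.le_centralizer_iff, Subgroup.zpowers_le]
            exact SetLike.coe_mem _
          · rw [Subgroup.le_centralizer_iff, Subgroup.zpowers_le, Subgroup.mem_centralizer_iff]
            intro y hy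
            obtain ⟨k, rfl⟩ := Subgroup.mem_zpowers_iff.1 hy
            have h' : (g : G) * a * (g : G)⁻¹ = (g' : G) * a * (g' : G)⁻¹ := by
              have := congrArg (· * a) hq
              simpa [commutatorElement_def] using this
            have hct : Commute ((g⁻¹ * g' : Subgroup.centralizer (B : Set G)) : G) a := by
              show ((g : G)⁻¹ * (g' : G)) * a = a * ((g : G)⁻¹ * (g' : G))
              calc ((g : G)⁻¹ * (g' : G)) * a = (g : G)⁻¹ * ((g' : G) * a * (g' : G)⁻¹) * (g' : G) := by
                    group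
                _ = (g : G)⁻¹ * ((g : G) * a * (g : G)⁻¹) * (g' : G) := by rw [h']
                _ = a * ((g : G)⁻¹ * (g' : G)) := by group
            exact ((hct.zpow_right k).eq).symm
        calc (Subgroup.centralizer (K : Set G)).index * p
            = (Subgroup.centralizer (K : Set G)).relIndex (Subgroup.centralizer (B : Set G)) *
              ((Subgroup.centralizer (B : Set G)).index * p) := by
              rw [← mul_assoc, Subgroup.relIndex_mul_index (Subgroup.centralizer_le hBK.le)]
          _ ≤ p * Nat.card B := Nat.mul_le_mul hrel (ih B hBK hZB (hBK.le.trans hKE))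
          _ ≤ Nat.card K := hcard
      · subst heq
        have htop : Subgroup.centralizer (Zm : Set G) = ⊤ := by
          rw [eq_top_iff, Subgroup.le_centralizer_iff, Subgroup.coe_top, Subgroup.centralizer_univ]
          exact hZc
        rw [htop, Subgroup.index_top, one_mul, hZcard]
  set C := Subgroup.centralizer (E : Set G) with hC
  have h1 := key E hZmE le_rfl
  have hrelE : C.relIndex E * p = Nat.card E := by
    have hsub : C.subgroupOf E = Subgroup.center E := by
      ext e
      rw [Subgroup.mem_subgroupOf, hC, Subgroup.mem_centralizer_iff, Subgroup.mem_center_iff]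
      exact ⟨fun hh w => Subtype.ext (hh w w.2), fun hh w hw => congrArg Subtype.val (hh ⟨w, hw⟩)⟩
    rw [Subgroup.relIndex, hsub, ← hcZ, Subgroup.index_mul_card]
  have hCn : C.Normal := Subgroup.normal_centralizer
  have h2 : (E ⊔ C).index * C.relIndex E = C.index := by
    rw [← Subgroup.relIndex_sup_right, mul_comm, Subgroup.relIndex_mul_index le_sup_right]
  rw [← h2, mul_assoc, hrelE] at h1
  rw [← Subgroup.index_eq_one]
  have hpos : 0 < Nat.card E := Nat.card_pos
  have hpos2 : (E ⊔ C).index ≠ 0 := Subgroup.index_ne_zero_of_finite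
  have : (E ⊔ C).index ≤ 1 := Nat.le_of_mul_le_mul_right (by rwa [one_mul]) hpos
  omega

end Cfsg.Agent.S0110
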