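import Cfsg.Statements.S0120
import Cfsg.Agent.Lib.PGroup.PowerMap

set_option autoImplicit false
open Cfsg
open scoped commutatorElement

namespace Cfsg.Agent.S0120

/-- For odd p, a p'-automorphism of a p-group acting trivially on the elements of order dividing p is trivial. -/
theorem result {G : Type*} [Group G] [Finite G] {p : ℕ} [Fact p.Prime] (hp : p ≠ 2) (hG : IsPGroup p G) (a : MulAut G) (ha : Nat.Coprime (orderOf a) p) (h : ∀ x : G, x ^ p = 1 → a x = x) : a = 1 := by
  have hpp : p.Prime := Fact.out
  suffices hsuff : ∀ H : Subgroup G, (∀ x ∈ H, a x ∈ H) → ∀ x ∈ H, a x = x by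
    ext x
    rw [MulAut.one_apply]
    exact hsuff ⊤ (fun _ _ => Subgroup.mem_top _) x (Subgroup.mem_top x)
  intro H
  induction H using (wellFounded_lt (α := Subgroup G)).induction with
  | h H ih =>
    intro hinv x hx
    by_cases hHb : H = ⊥
    · subst hHb
      rw [Subgroup.mem_bot] at hx
      rw [hx, map_one]
    -- a subgroup fixed by `a`
    let K : Subgroup G := Subgroup.closure
      ({z | ∃ u ∈ H, z = u ^ p} ∪ {z | ∃ u ∈ H, ∃ w ∈ H, z = ⁅u, w⁆})
    obtain ⟨M, hMH, hMp, hMc⟩ := CfsgLib.PGroup.exists_lt_pow_commutator_mem hG H hHb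
    have hKM : K ≤ M := by
      rw [Subgroup.closure_le]
      rintro z (⟨u, hu, rfl⟩ | ⟨u, hu, w, hw, rfl⟩)
      · exact hMp u hu
      · exact hMc u hu w hw
    have hKinv : ∀ z ∈ K, a z ∈ K := by
      intro z hz
      induction hz using Subgroup.closure_induction with
      | mem z hz =>
        apply Subgroup.subset_closure
        rcases hz with ⟨u, hu, rfl⟩ | ⟨u, hu, w, hw, rfl⟩
        · exact Or.inl ⟨a u, hinv u hu, map_pow a u p⟩
        · exact Or.inr ⟨a u, hinv u hu, a w, hinv w hw, map_commutatorElement a u w⟩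
      | one => rw [map_one]; exact one_mem _
      | mul u w _ _ h1 h2 => rw [map_mul]; exact mul_mem h1 h2
      | inv u _ h1 => rw [map_inv]; exact inv_mem h1
    have hKfix : ∀ z ∈ K, a z = z := ih K (lt_of_le_of_lt hKM hMH) hKinv
    set d := x⁻¹ * a x with hd
    have hdH : d ∈ H := mul_mem (inv_mem hx) (hinv x hx)
    have hax : a x = x * d := by rw [hd]; group
    -- conclusion from a fixed commutator
    have hfin : a d = d → a x = x := by
      intro had
      have hk : ∀ k : ℕ, (a ^ k) x = x * d ^ k := by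
        intro k
        induction k with
        | zero => simp
        | succ k ih =>
          rw [pow_succ', MulAut.mul_apply, ih, map_mul, map_pow, had, hax, mul_assoc, ← pow_succ']
      have h4 : d ^ orderOf a = 1 := by
        have := hk (orderOf a)
        rwa [pow_orderOf_eq_one, MulAut.one_apply, left_eq_mul] at this
      obtain ⟨j, hj⟩ := hG d
      have hd1 : d = 1 := by
        rw [← orderOf_eq_one_iff]
        exact Nat.eq_one_of_dvd_coprimes (Nat.Coprime.pow_right j ha)
          (orderOf_dvd_of_pow_eq_one h4) (orderOf_dvd_of_pow_eq_one hj)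
      rw [hax, hd1, mul_one]
    -- d centralizes K
    have hdK : ∀ z ∈ K, x * z * x⁻¹ ∈ K → z * d = d * z := by
      intro z hz hz'
      have := hKfix _ hz'
      rw [map_mul, map_mul, map_inv, hKfix z hz] at this
      calc z * d = x⁻¹ * (x * z * x⁻¹) * a x := by rw [hd]; group
        _ = x⁻¹ * (a x * z * (a x)⁻¹) * a x := by rw [this]
        _ = d * z := by rw [hd]; group
    have hKconj : ∀ z ∈ K, x * z * x⁻¹ ∈ K := by
      intro z hz
      have hzH : z ∈ H := hMH.le (hKM hz)
      have : ⁅x, z⁆ ∈ K := Subgroup.subset_closure (Or.inr ⟨x, hx, z, hzH, rfl⟩)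
      have h2 := mul_mem this hz
      rwa [commutatorElement_def, inv_mul_cancel_right] at h2
    let C : Subgroup G := H ⊓ Subgroup.centralizer (K : Set G)
    have hdC : d ∈ C := ⟨hdH, Subgroup.mem_centralizer_iff.2 fun z hz => hdK z hz (hKconj z hz)⟩
    by_cases hCH : C = H
    · -- d has order dividing p
      have hcent : ∀ u ∈ H, ∀ z ∈ K, z * u = u * z := fun u hu z hz =>
        Subgroup.mem_centralizer_iff.1 (hCH.ge hu).2 z hz
      have hcK : ⁅d, x⁆ ∈ K := Subgroup.subset_closure (Or.inr ⟨d, hdH, x, hx, rfl⟩)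
      have hxpK : x ^ p ∈ K := Subgroup.subset_closure (Or.inl ⟨x, hx, rfl⟩)
      have hcp : ⁅d, x⁆ ^ p = 1 := by
        have hcm : Commute x ⁅x, d⁆ := by
          rw [← commutatorElement_inv]
          exact ((show Commute ⁅d, x⁆ x from hcent x hx _ hcK).symm).inv_right
        have := CfsgLib.PGroup.commutator_pow_left x d hcm p
        rw [commutatorElement_eq_one_iff_mul_comm.2 (hcent d hdH _ hxpK)] at this
        rw [← commutatorElement_inv, inv_pow, ← this, inv_one]
      have hone : ∀ u ∈ H, ⁅u, ⁅d, x⁆⁆ = 1 := fun u hu =>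
        commutatorElement_eq_one_iff_mul_comm.2 (hcent u hu _ hcK).symm
      have hpow : (x * d) ^ p = x ^ p * d ^ p :=
        CfsgLib.PGroup.mul_pow_prime_eq hpp x d (by rw [hone x hx]; exact one_mem _)
          (by rw [hone d hdH]; exact one_mem _) hcp (Or.inl ⟨hp, hone x hx, hone d hdH⟩)
      have hdp : d ^ p = 1 := by
        rw [← hax, ← map_pow, hKfix _ hxpK] at hpow
        exact left_eq_mul.1 hpow
      exact hfin (h d hdp)
    · refine hfin (ih C (lt_of_le_of_ne inf_le_left hCH) ?_ d hdC)
      intro u hu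
      refine ⟨hinv u hu.1, Subgroup.mem_centralizer_iff.2 fun z hz => ?_⟩
      have h1 := Subgroup.mem_centralizer_iff.1 hu.2 z hz
      calc z * a u = a z * a u := by rw [hKfix z hz]
        _ = a u * a z := by rw [← map_mul, h1, map_mul]
        _ = a u * z := by rw [hKfix z hz]

end Cfsg.Agent.S0120
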