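import Cfsg.Statements.S3800
import Cfsg.Agent.Lib.Solvable.SchurZassenhaus

set_option autoImplicit false
open Cfsg
open scoped Pointwise

namespace Cfsg.Agent.S3800

/-- Let G be a finite group, N a normal subgroup of G whose order is prime to p, and P a p-subgroup of G. Then in G/N the normalizer of the image of P is the image of N_G(P), and the centralizer of the image of P is the image of C_G(P). -/
theorem result {G : Type*} [Group G] [Finite G] {p : ℕ} [Fact p.Prime] (N : Subgroup G) [N.Normal] (hN : (Nat.card N).Coprime p) (P : Subgroup G) (hP : IsPGroup p P) : Subgroup.normalizer ((P.map (QuotientGroup.mk' N)) : Set (G ⧸ N)) = (Subgroup.normalizer (P : Set G)).map (QuotientGroup.mk' N) ∧ Subgroup.centralizer ((P.map (QuotientGroup.mk' N)) : Set (G ⧸ N)) = (Subgroup.centralizer (P : Set G)).map (QuotientGroup.mk' N) := by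
  set q := QuotientGroup.mk' N with hq
  have hqsurj : Function.Surjective q := QuotientGroup.mk'_surjective N
  have := hP.isNilpotent
  have hsol : Group.IsSolvable P := inferInstance
  obtain ⟨i, hi⟩ := IsPGroup.iff_card.mp hP
  have hcop : (Nat.card N).Coprime (Nat.card P) := hi ▸ hN.pow_right i
  have hPN : P ≤ Subgroup.normalizer (N : Set G) := by
    rw [Subgroup.normalizer_eq_top N]; exact le_top
  have hnorm : ∀ g : G, q g ∈ Subgroup.normalizer ((P.map q : Subgroup (G ⧸ N)) : Set (G ⧸ N)) →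
      ∃ n ∈ N, ∃ y ∈ Subgroup.normalizer (P : Set G), g = n * y := by
    intro g hg
    have hle : MulAut.conj g • P ≤ N ⊔ P := by
      intro z hz
      rw [CfsgLib.Solvable.mem_conj_smul] at hz
      have h1 : q z ∈ P.map q := by
        have h2 := (Subgroup.mem_normalizer_iff.mp hg (q (g⁻¹ * z * g))).mp
          (Subgroup.mem_map_of_mem q hz)
        simpa [mul_assoc] using h2
      have h3 : z ∈ (P.map q).comap q := h1
      rwa [Subgroup.comap_map_eq, hq, QuotientGroup.ker_mk', sup_comm] at h3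
    obtain ⟨n, hn, hconj⟩ := CfsgLib.Solvable.exists_conj_eq_of_coprime hPN hle
      (CfsgLib.Solvable.card_conj_smul g P) hcop (Or.inr hsol)
    refine ⟨n, hn, n⁻¹ * g, ?_, by group⟩
    rw [← CfsgLib.Solvable.conj_smul_eq_self_iff, ← CfsgLib.Solvable.conj_smul_conj_smul, ← hconj,
      CfsgLib.Solvable.conj_smul_conj_smul, inv_mul_cancel, map_one, one_smul]
  have hnle : (Subgroup.normalizer (P : Set G)).map q ≤
      Subgroup.normalizer ((P.map q : Subgroup (G ⧸ N)) : Set (G ⧸ N)) :=
    Subgroup.le_normalizer_map q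
  refine ⟨le_antisymm ?_ hnle, le_antisymm ?_ ?_⟩
  · intro w hw
    obtain ⟨g, rfl⟩ := hqsurj w
    obtain ⟨n, hn, y, hy, rfl⟩ := hnorm g hw
    refine ⟨y, hy, ?_⟩
    rw [map_mul, hq, QuotientGroup.mk'_apply, QuotientGroup.mk'_apply, (QuotientGroup.eq_one_iff n).mpr hn,
      one_mul]
  · intro w hw
    obtain ⟨g, rfl⟩ := hqsurj w
    have hgc := Subgroup.mem_centralizer_iff.mp hw
    obtain ⟨n, hn, y, hy, rfl⟩ := hnorm g (Subgroup.centralizer_le_normalizer _ hw)
    have hqn : q n = 1 := (QuotientGroup.eq_one_iff n).mpr hn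
    refine ⟨y, ?_, by rw [map_mul, hqn, one_mul]⟩
    refine Subgroup.mem_centralizer_iff.mpr fun x hx => ?_
    have h1 : x * y * x⁻¹ * y⁻¹ ∈ N := by
      refine (QuotientGroup.eq_one_iff (N := N) _).mp ?_
      show q (x * y * x⁻¹ * y⁻¹) = 1
      have h2 := hgc (q x) (Subgroup.mem_map_of_mem q hx)
      rw [map_mul, hqn, one_mul] at h2
      simp only [map_mul, map_inv]
      rw [h2, mul_inv_cancel_right, mul_inv_cancel]
    have h3 : x * y * x⁻¹ * y⁻¹ ∈ P := by
      have := mul_mem hx ((Subgroup.mem_normalizer_iff.mp hy x⁻¹).mp (inv_mem hx))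
      simpa [mul_assoc] using this
    have hdis : Disjoint N P := disjoint_iff.mpr (Subgroup.inf_eq_bot_of_coprime hcop)
    have h4 := Subgroup.disjoint_def.mp hdis h1 h3
    rw [mul_inv_eq_one, mul_inv_eq_iff_eq_mul] at h4
    exact h4
  · rintro _ ⟨g, hg, rfl⟩
    refine Subgroup.mem_centralizer_iff.mpr ?_
    rintro _ ⟨x, hx, rfl⟩
    rw [← map_mul, ← map_mul, Subgroup.mem_centralizer_iff.mp hg x hx]

end Cfsg.Agent.S3800
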