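import Cfsg.Statements.S3071
import Cfsg.Agent.Lib.LocEven.FusionCentric
import Cfsg.Agent.Lib.Balance.AlperinTame
import Cfsg.Agent.Lib.Fusion.SL2Stable
-- import your own Cfsg.Agent.* helpers here

set_option autoImplicit false
open Cfsg

namespace Cfsg.Agent.S3071

/-- Let p be an odd prime and S a Sylow p-subgroup of the finite group G such that, for every subgroup P with Z(S) ≤ P ≤ S, the normalizer N_G(P) has no section isomorphic to SL₂(p). Let J(S) be the subgroup generated by the abelian subgroups of S of largest order. Then two elements of S are conjugate in G if and only if they are conjugate in N_G(Z(J(S))). -/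
theorem result {G : Type*} [Group G] [Finite G] {p : ℕ} [Fact p.Prime]
    (hp : p ≠ 2) (S : Sylow p G)
    (hfree : ∀ P : Subgroup G, (S : Subgroup G) ⊓ Subgroup.centralizer ((S : Subgroup G) : Set G) ≤ P → P ≤ S →
      ¬ ∃ (H K : Subgroup G) (hK : (K.subgroupOf H).Normal), H ≤ Subgroup.normalizer (P : Set G) ∧
        Nonempty ((H ⧸ K.subgroupOf H) ≃* Matrix.SpecialLinearGroup (Fin 2) (ZMod p))) :
    ∀ x ∈ S, ∀ y ∈ S, (∃ g : G, g * x * g⁻¹ = y) ↔
      ∃ n ∈ Subgroup.normalizer (Cfsg.centerThompsonAOf (S : Subgroup G) : Set G), n * x * n⁻¹ = y := by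
  have hC : CfsgLib.ZJFusion.StableClass p (fun X [Group X] => CfsgLib.SL2Stable.SL2Free p X) :=
    { subgroup := fun X _ _ Y h => h.subgroup Y
      quotient := fun X _ _ N _ h => h.of_surjective (QuotientGroup.mk'_surjective N)
      stable := fun X _ _ W _ _ h φ hφ hW a ha =>
        CfsgLib.SL2Stable.quad_mem_pCore_of_free hp h φ hφ hW ha }
  have hloc : CfsgLib.LocEven.FusionCentric.LocCentric p (S : Subgroup G) := by
    intro W hWS hZW hsyl A hA g hg hAg
    set L := Subgroup.normalizer (W : Set G) with hL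
    have hLfree : CfsgLib.SL2Stable.SL2Free p L := by
      intro K f hf
      set e := K.equivMapOfInjective L.subtype L.subtype_injective with he
      set f' := f.comp e.symm.toMonoidHom with hf'
      have hL' : (f'.ker.map (K.map L.subtype).subtype).subgroupOf (K.map L.subtype) = f'.ker :=
        Subgroup.comap_map_eq_self_of_injective (K.map L.subtype).subtype_injective _
      have hn : ((f'.ker.map (K.map L.subtype).subtype).subgroupOf (K.map L.subtype)).Normal := by
        rw [hL']; infer_instance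
      exact hfree W hZW hWS ⟨K.map L.subtype, _, hn, Subgroup.map_subtype_le _,
        ⟨(QuotientGroup.quotientMulEquivOfEq hL').trans
          (QuotientGroup.quotientKerEquivOfSurjective f' (hf.comp e.symm.surjective))⟩⟩
    set T := (S : Subgroup G) ⊓ L with hT
    have hTp : IsPGroup p (T.subgroupOf L) :=
      (S.isPGroup'.to_le inf_le_left).of_equiv (Subgroup.subgroupOfEquivOfLe inf_le_right).symm
    have hsyl' : ¬ p ∣ (T.subgroupOf L).index := hsyl
    obtain ⟨m, hm, hmd⟩ := CfsgLib.ZJFusion.controls hp (e := 0) (Or.inl rfl) hC hLfree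
      (hTp.toSylow hsyl') (A.subgroupOf L)
      (by rw [IsPGroup.toSylow_coe]; exact Subgroup.comap_mono hA) ⟨g, hg⟩
      (fun d hd => by
        rw [IsPGroup.toSylow_coe, Subgroup.mem_subgroupOf]
        exact hAg d (Subgroup.mem_subgroupOf.1 hd))
    refine ⟨m, m.2, ?_, fun d hd => congrArg Subtype.val
      (hmd ⟨d, (hA hd).2⟩ (Subgroup.mem_subgroupOf.2 hd))⟩
    have := Subgroup.le_normalizer_map L.subtype (Subgroup.mem_map_of_mem L.subtype hm)
    rwa [CfsgLib.ZJCenter.zj_map L.subtype_injective, IsPGroup.toSylow_coe,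
      Subgroup.map_subgroupOf_eq_of_le inf_le_right] at this
  have hchain : ∀ (D : Subgroup G) (X : G), CfsgLib.Balance.Chain p (S : Subgroup G) D X →
      ∃ n ∈ Subgroup.normalizer (CfsgLib.ZJCenter.zj 0 (S : Subgroup G) : Set G),
        ∀ d ∈ D, n⁻¹ * d * n = X⁻¹ * d * X := by
    intro D X h
    induction h with
    | nil D => exact ⟨1, one_mem _, fun _ _ => rfl⟩
    | cons D U y X hDU hU hy _ ih =>
      obtain ⟨hUS, hCL, ⟨-, -, hcomm, hdis, hsup⟩, -⟩ := hU
      have hcent : CfsgLib.LocEven.FusionCentric.CentD (S : Subgroup G) U := by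
        intro k hk z hz
        refine ⟨k⁻¹ * z * k, ?_, by simp [mul_assoc]⟩
        have hzC : k⁻¹ * z * k ∈ Subgroup.centralizer (U : Set G) := by
          refine Subgroup.mem_centralizer_iff.2 fun u hu => ?_
          have h1 := Subgroup.mem_centralizer_iff.1 hz.2 _ (hk ⟨u, hu, rfl⟩)
          simp only [MulEquiv.coe_toMonoidHom, MulAut.conj_apply] at h1
          calc u * (k⁻¹ * z * k) = k⁻¹ * (k * u * k⁻¹ * z) * k := by group
            _ = k⁻¹ * z * k * u := by rw [h1]; group
        have hzL := hCL hzC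
        rw [← hsup] at hzL
        obtain ⟨o, ho, u, hu, hou⟩ := (CfsgLib.Solvable.mem_sup_of_le_normalizer
          (fun v hv => Subgroup.centralizer_le_normalizer _ (Subgroup.mem_centralizer_iff.2
            fun o ho => hcomm o ho v hv))).1 hzL
        obtain ⟨i, hi⟩ := S.isPGroup' ⟨z, hz.1⟩
        obtain ⟨j, hj⟩ := S.isPGroup' ⟨u, hUS hu⟩
        have hzi : (k⁻¹ * z * k) ^ p ^ (i + j) = 1 := by
          have h9 := conj_pow (i := p ^ (i + j)) (a := k⁻¹) (b := z)
          rw [inv_inv] at h9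
          rw [h9, pow_add, pow_mul, show z ^ p ^ i = 1 from congrArg Subtype.val hi]
          simp
        have hu1 : u ^ p ^ (i + j) = 1 := by
          rw [add_comm, pow_add, pow_mul, show u ^ p ^ j = 1 from congrArg Subtype.val hj, one_pow]
        rw [← hou, (Commute.mul_pow (hcomm o ho u hu)), hu1, mul_one] at hzi
        have ho1 : o = 1 := CfsgLib.GlaubermanThompson.eq_one_of_coprime_of_pow hzi
          ((CfsgLib.Balance.coreP_coprime p (Subgroup.normalizer (U : Set G))).coprime_dvd_left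
            (Subgroup.orderOf_dvd_natCard _ ho))
        rwa [← hou, ho1, one_mul]
      obtain ⟨n1, hn1, hn1d⟩ := CfsgLib.LocEven.FusionCentric.controls_of_centric S hloc U hUS hcent y
        fun u hu => hUS (by simpa using (Subgroup.mem_normalizer_iff.1 (inv_mem hy) u).1 hu)
      obtain ⟨n2, hn2, hn2d⟩ := ih
      refine ⟨n1 * n2, mul_mem hn1 hn2, fun d hd => ?_⟩
      have := hn2d (y⁻¹ * d * y) ⟨d, hd, by simp⟩
      calc (n1 * n2)⁻¹ * d * (n1 * n2) = n2⁻¹ * (n1⁻¹ * d * n1) * n2 := by group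
        _ = (y * X)⁻¹ * d * (y * X) := by rw [hn1d d (hDU hd), this]; group
  intro x hx y hy
  refine ⟨?_, fun ⟨n, _, hn⟩ => ⟨n, hn⟩⟩
  rintro ⟨g, rfl⟩
  obtain ⟨c, hc, X, hX, hgX⟩ := CfsgLib.Balance.good_all S (Subgroup.zpowers x) g⁻¹
    (Subgroup.zpowers_le.2 hx) (by
      rw [inv_inv]
      refine Subgroup.map_le_iff_le_comap.2 (Subgroup.zpowers_le.2 ?_)
      show (MulAut.conj g) x ∈ (S : Subgroup G)
      rw [MulAut.conj_apply]
      exact hy)
  obtain ⟨n, hn, hnd⟩ := hchain _ X hX
  refine ⟨n⁻¹, ?_, ?_⟩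
  · rw [Cfsg.centerThompsonAOf, CfsgLib.PLoc.joinMaxAb_zero]
    exact inv_mem hn
  · have h1 := hnd x (Subgroup.mem_zpowers x)
    have h2 : c⁻¹ * x * c = x := by
      rw [mul_assoc, Subgroup.mem_centralizer_iff.1 hc x (Subgroup.mem_zpowers x), inv_mul_cancel_left]
    rw [inv_inv, h1]
    have hg : g = X⁻¹ * c⁻¹ := by rw [← inv_inv g, hgX, mul_inv_rev]
    calc X⁻¹ * x * X = X⁻¹ * (c⁻¹ * x * c) * X := by rw [h2]
      _ = g * x * g⁻¹ := by rw [hg]; group

end Cfsg.Agent.S3071
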