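import Cfsg.Statements.S1226
import Cfsg.Agent.Lib.TwoFusion.ConjUtil


set_option autoImplicit false
open Cfsg

namespace Cfsg.Agent.S1226

/-- Let G be a finite group with a Sylow 2-subgroup T that is neither cyclic nor normal, such that the centralizer of every involution is an elementary abelian 2-group. Then N_G(T) is a strongly embedded subgroup of G. -/
theorem result {G : Type*} [Group G] [Finite G] (T : Sylow 2 G) (hnc : ¬ IsCyclic (T : Subgroup G)) (hnn : ¬ (T : Subgroup G).Normal) (hC : ∀ t : G, orderOf t = 2 → IsMulCommutative (Subgroup.centralizer ({t} : Set G)) ∧ ∀ c ∈ Subgroup.centralizer ({t} : Set G), c ^ 2 = 1) : Cfsg.IsStronglyEmbedded (Subgroup.normalizer ((T : Subgroup G) : Set G)) := by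
  have hT1 : (T : Subgroup G) ≠ ⊥ := fun h => hnn (h ▸ inferInstance)
  have hnt : Nontrivial (T : Subgroup G) := (Subgroup.nontrivial_iff_ne_bot _).mpr hT1
  have hdvd : 2 ∣ Nat.card (T : Subgroup G) :=
    T.isPGroup'.card_eq_or_dvd.resolve_left (Finite.one_lt_card).ne'
  have hcent : ∀ t ∈ (T : Subgroup G), orderOf t = 2 → (∀ y ∈ (T : Subgroup G), y * t = t * y) →
      Subgroup.centralizer ({t} : Set G) = (T : Subgroup G) := by
    intro t _ ht2 hcom
    refine (T.3 ?_ fun y hy => Subgroup.mem_centralizer_singleton_iff.mpr (hcom y hy))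
    exact fun c => ⟨1, Subtype.ext (by simpa using (hC t ht2).2 c c.2)⟩
  have hcz := T.isPGroup'.center_nontrivial
  obtain ⟨z, hz⟩ := exists_prime_orderOf_dvd_card' (G := Subgroup.center (T : Subgroup G)) 2
    ((T.isPGroup'.to_subgroup (Subgroup.center (T : Subgroup G))).card_eq_or_dvd.resolve_left
      Finite.one_lt_card.ne')
  have hTcomm : ∀ a ∈ (T : Subgroup G), ∀ b ∈ (T : Subgroup G), a * b = b * a := by
    have hz2 : orderOf ((z : (T : Subgroup G)) : G) = 2 := by
      rw [Subgroup.orderOf_coe, Subgroup.orderOf_coe, hz]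
    have h : Subgroup.centralizer ({((z : (T : Subgroup G)) : G)} : Set G) = (T : Subgroup G) :=
      hcent _ (z : (T : Subgroup G)).2 hz2 fun y hy =>
        congrArg Subtype.val (Subgroup.mem_center_iff.mp z.2 ⟨y, hy⟩)
    intro a ha b hb
    rw [← h] at ha hb
    exact congrArg Subtype.val ((hC _ hz2).1.is_comm.comm ⟨a, ha⟩ ⟨b, hb⟩)
  refine ⟨fun h => hnn (Subgroup.normalizer_eq_top_iff.mp h), ?_, fun g hg => ?_⟩
  · exact even_iff_two_dvd.mpr (hdvd.trans (Subgroup.card_dvd_of_le Subgroup.le_normalizer))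
  · rw [← Nat.not_even_iff_odd, even_iff_two_dvd]
    intro hd
    apply hg
    obtain ⟨⟨t, htm⟩, ht'⟩ := exists_prime_orderOf_dvd_card' 2 hd
    have ht : orderOf t = 2 := (Subgroup.orderOf_mk t htm).symm.trans ht'
    obtain ⟨htH, htgH⟩ := Subgroup.mem_inf.mp htm
    have hmem : ∀ s : G, orderOf s = 2 → s ∈ Subgroup.normalizer ((T : Subgroup G) : Set G) →
        s ∈ (T : Subgroup G) := by
      intro s hs hsn
      have hp : IsPGroup 2 (Subgroup.zpowers s) :=
        IsPGroup.of_card (n := 1) (by rw [Nat.card_zpowers, hs, pow_one])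
      have : s ∈ Subgroup.zpowers s ⊓ (T : Subgroup G) :=
        (hp.inf_normalizer_sylow T) ▸ ⟨Subgroup.mem_zpowers s, hsn⟩
      exact this.2
    have htT := hmem t ht htH
    have htg : g⁻¹ * t * g ∈ Subgroup.normalizer ((T : Subgroup G) : Set G) :=
      (CfsgLib.TwoFusion.ConjUtil.mem_conjMap_iff g t _).mp htgH
    have hs2 : orderOf (g⁻¹ * t * g) = 2 := by
      rw [← ht]; simpa using (MulAut.conj g⁻¹).orderOf_eq t
    have hsT := hmem _ hs2 htg
    have c1 := hcent t htT ht fun y hy => hTcomm y hy t htT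
    have c2 := hcent _ hsT hs2 fun y hy => hTcomm y hy _ hsT
    refine CfsgLib.TwoFusion.ConjUtil.mem_normalizer_of_conj_mem g fun y hy => ?_
    rw [← c2, Subgroup.mem_centralizer_singleton_iff] at hy
    rw [← c1, Subgroup.mem_centralizer_singleton_iff]
    have h' : g * (y * (g⁻¹ * t * g)) * g⁻¹ = g * (g⁻¹ * t * g * y) * g⁻¹ := by rw [hy]
    simpa [mul_assoc] using h'

end Cfsg.Agent.S1226
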