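import Cfsg.Statements.S2086
import Cfsg.Agent.Lib.SLCover.Main
import Cfsg.Agent.Lib.SLCover.Universal
import Cfsg.Agent.Lib.Linear.Card
-- import your own Cfsg.Agent.* helpers here

set_option autoImplicit false
open Cfsg

namespace Cfsg.Agent.S2086

/-- Schur multipliers of the linear groups: for n ≥ 2 and a field F with q elements (q ≥ 4 when n = 2), apart from the five exceptional pairs (n, q) = (2, 4), (2, 9), (3, 2), (3, 4), (4, 2), the Schur multiplier of PSL_n(F) is cyclic of order gcd(n, q − 1); here the Schur multiplier is described through stem extensions, as in the definitions. -/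
theorem result {F : Type*} [Field F] [Fintype F] {q : ℕ} (hF : Fintype.card F = q) (n : ℕ) (hn : 2 ≤ n) (h2 : n = 2 → 4 ≤ q) (hexc : (n, q) ∉ ({(2, 4), (2, 9), (3, 2), (3, 4), (4, 2)} : Set (ℕ × ℕ))) : Cfsg.HasCyclicSchurMultiplier (Matrix.ProjectiveSpecialLinearGroup (Fin n) F) (Nat.gcd n (q - 1)) := by
  have hne : NeZero n := ⟨by omega⟩
  have hperf : commutator (Matrix.SpecialLinearGroup (Fin n) F) = ⊤ := by
    apply CfsgLib.Linear.commutator_SL_eq_top
    rw [Fintype.card_fin]
    rcases eq_or_lt_of_le hn with h | h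
    · exact Or.inr (CfsgLib.SLCover.exists_sq_ne_one (by have := h2 h.symm; omega))
    · exact Or.inl h
  have hcyc : IsCyclic (Subgroup.center (Matrix.SpecialLinearGroup (Fin n) F)) :=
    isCyclic_of_surjective _ (Matrix.SpecialLinearGroup.center_equiv_rootsOfUnity
      (n := Fin n) (R := F)).symm.surjective
  have hcard : Nat.card (Subgroup.center (Matrix.SpecialLinearGroup (Fin n) F)) = Nat.gcd n (q - 1) := by
    rw [CfsgLib.Linear.card_center_SL, Fintype.card_fin, hF, Nat.gcd_comm]
  refine CfsgLib.SLCover.hasSchurMultiplier_of_closed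
    (QuotientGroup.mk' (Subgroup.center (Matrix.SpecialLinearGroup (Fin n) F)))
    (QuotientGroup.mk'_surjective _) (by rw [QuotientGroup.ker_mk']) hperf ?_
    ((MulEquiv.subgroupCongr (QuotientGroup.ker_mk' _)).trans
      ((zmodCyclicMulEquiv hcyc).symm.trans
        (AddEquiv.toMultiplicative (ZMod.ringEquivCongr hcard).toAddEquiv)))
  intro E _ _ p hps hpc hpp
  rcases eq_or_lt_of_le hn with h | h
  · subst h
    have h5 := h2 rfl
    refine (MonoidHom.ker_eq_bot_iff p).1
      (CfsgLib.SchurSL2.stem_ker_eq_bot ?_ ?_ p ⟨hps, hpc, hpp ▸ le_top⟩)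
    · intro hq; apply hexc; simp [← hF, hq]
    · intro hq; apply hexc; simp [← hF, hq]
  · refine CfsgLib.SLCover.injective_of_perfect p hps hpc hpp ⟨?_, ?_, ?_⟩
    · rw [Fintype.card_fin]; omega
    · rw [Fintype.card_fin, hF]
      rintro ⟨rfl, rfl | rfl⟩ <;> simp at hexc
    · rw [Fintype.card_fin, hF]
      rintro ⟨rfl, rfl⟩
      simp at hexc

end Cfsg.Agent.S2086
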