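import Cfsg.Statements.S2092
import Cfsg.Agent.Lib.SpCover.Main
import Cfsg.Agent.Lib.SLCover.Universal
import Cfsg.Agent.Lib.Linear.SympCard
-- import your own Cfsg.Agent.* helpers here

set_option autoImplicit false
open Cfsg

namespace Cfsg.Agent.S2092

/-- Schur multipliers of the symplectic groups: for m ≥ 2 and a field F with q elements (q ≥ 3 when m = 2), with (m, q) ≠ (3, 2), the Schur multiplier of PSp_2m(F) is cyclic of order gcd(2, q − 1); here the Schur multiplier is described through stem extensions, as in the definitions. -/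
theorem result {F : Type*} [Field F] [Fintype F] {q : ℕ} (hF : Fintype.card F = q) (m : ℕ) (hm : 2 ≤ m) (h2 : m = 2 → 3 ≤ q) (hexc : ¬ (m = 3 ∧ q = 2)) : Cfsg.HasCyclicSchurMultiplier (Cfsg.PSp m F) (Nat.gcd 2 (q - 1)) := by
  have hq := Fintype.one_lt_card (α := F)
  have hperf : commutator (Matrix.symplecticGroup (Fin m) F) = ⊤ := by
    apply CfsgLib.Linear.Symp.commutator_eq_top
    rcases eq_or_lt_of_le hm with h | h
    · exact Or.inr (Or.inl ⟨h.symm, hF ▸ h2 h.symm⟩)
    · exact Or.inl h
  have hcard : Nat.card (Subgroup.center (Matrix.symplecticGroup (Fin m) F)) = Nat.gcd 2 (q - 1) := by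
    rw [CfsgLib.Linear.Symp.card_center (by omega), hF]
  have hcyc : IsCyclic (Subgroup.center (Matrix.symplecticGroup (Fin m) F)) := by
    rcases (Nat.dvd_prime Nat.prime_two).1 (Nat.gcd_dvd_left 2 (q - 1)) with h | h
    · have := (Nat.card_eq_one_iff_unique.1 (hcard.trans h)).1
      infer_instance
    · haveI : Fact (Nat.Prime 2) := ⟨Nat.prime_two⟩
      exact isCyclic_of_prime_card (p := 2) (hcard.trans h)
  refine CfsgLib.SLCover.hasSchurMultiplier_of_closed
    (QuotientGroup.mk' (Subgroup.center (Matrix.symplecticGroup (Fin m) F)))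
    (QuotientGroup.mk'_surjective _) (by rw [QuotientGroup.ker_mk']) hperf ?_
    ((MulEquiv.subgroupCongr (QuotientGroup.ker_mk' _)).trans
      ((zmodCyclicMulEquiv hcyc).symm.trans
        (AddEquiv.toMultiplicative (ZMod.ringEquivCongr hcard).toAddEquiv)))
  intro E _ _ p hps hpc hpp
  refine CfsgLib.SpCover.injective_of_perfect p hps hpc hpp ⟨hm, fun h => ?_⟩
  by_contra h4
  have hq2 : q = 2 := hF ▸ h
  rcases eq_or_lt_of_le hm with he | he
  · have := h2 he.symm
    omega
  · exact hexc ⟨by omega, hq2⟩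

end Cfsg.Agent.S2092
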