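import Cfsg.Statements.S0731
import Cfsg.Agent.Lib.ZassAbelian.Main

set_option autoImplicit false
open Cfsg

namespace Cfsg.Agent.S0731

/-- A finite Zassenhaus group whose point stabiliser has an abelian regular normal subgroup on the remaining points is sharply triply transitive or isomorphic to `PSL(2, F)` for a finite field `F` of odd characteristic. -/
theorem result {G Ω : Type*} [Group G] [Finite G] [MulAction G Ω] [Finite Ω] (hZ : Cfsg.IsZassenhausGroup G Ω) (x : Ω) (F : Subgroup G) (hFle : F ≤ MulAction.stabilizer G x) (hFn : (F.subgroupOf (MulAction.stabilizer G x)).Normal) (hFab : IsMulCommutative F) (hreg : ∀ y z : Ω, y ≠ x → z ≠ x → ∃! u : F, (u : G) • y = z) : (MulAction.IsMultiplyPretransitive G Ω 3 ∧ ∀ t : Fin 3 ↪ Ω, MulAction.stabilizer G t = ⊥) ∨ ∃ (K : Type) (_ : Field K) (_ : Fintype K), ringChar K ≠ 2 ∧ Nonempty (G ≃* Matrix.ProjectiveSpecialLinearGroup (Fin 2) K) := by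
  classical
  haveI := Fintype.ofFinite Ω
  have hP := CfsgLib.Zass.Pre.of hZ
  obtain ⟨K, hK⟩ := hP.exists_kernel x
  have hKF : K = F := by
    obtain ⟨y, hy⟩ := hP.exists_ne x
    have hfix : ∀ u ∈ F, u ≠ 1 → ∀ c : Ω, u • c = c → c = x := by
      intro u hu hu1 c hc
      by_contra hcx
      obtain ⟨w, -, huniq⟩ := hreg c c hcx hcx
      have h1 := huniq ⟨u, hu⟩ hc
      have h2 := huniq 1 (by simp)
      exact hu1 (congrArg Subtype.val (h1.trans h2.symm))
    refine le_antisymm (fun k hk => ?_) fun u hu => ?_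
    · have hky : k • y ≠ x := fun h => hy (MulAction.injective k (h.trans (hK.le k hk).symm))
      obtain ⟨u, hu, -⟩ := hreg y (k • y) hy hky
      by_cases hu1 : (u : G) = 1
      · have : k = 1 := hK.inj hy hk K.one_mem (by rw [← hu, hu1])
        rw [this]; exact F.one_mem
      · have huK : (u : G) ∈ K := hK.mem _ (hFle u.2) (hfix _ u.2 hu1)
        rw [← hK.inj hy huK hk hu]; exact u.2
    · by_cases hu1 : u = 1
      · rw [hu1]; exact K.one_mem
      · exact hK.mem u (hFle hu) (hfix u hu hu1)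
  subst hKF
  exact CfsgLib.ZassAbelian.classification hZ hK fun y hy z hz =>
    congrArg Subtype.val (hFab.is_comm.comm (⟨y, hy⟩ : K) ⟨z, hz⟩)

end Cfsg.Agent.S0731
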