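import Mathlib.LinearAlgebra.Matrix.ProjectiveSpecialLinearGroup
import Mathlib.LinearAlgebra.Matrix.Charpoly.Basic
import Mathlib.LinearAlgebra.Matrix.Charpoly.Coeff
import Mathlib.FieldTheory.Finite.Basic
import Cfsg.Statements.S0819

/-!
No element of `PSL₃(4)` has order 15: arithmetic of `F₄[X]/(χ)` for the 16 possible
characteristic polynomials.
-/

set_option autoImplicit false
open Cfsg

namespace Cfsg.Agent.S0819

open Matrix

/-- Coordinates of the field with four elements. -/
abbrev B := ZMod 2 × ZMod 2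

/-- Coefficient triples: residues modulo a monic cubic. -/
abbrev T := B × B × B

/-- Product in the field with four elements. -/
def mulB (x y : B) : B := (x.1 * y.1 + x.2 * y.2, x.1 * y.2 + x.2 * y.1 + x.2 * y.2)

/-- Multiplication by `X` modulo `X³ + pX² + qX + 1`. -/
def mulX (p q : B) (t : T) : T :=
  (t.2.2, t.1 + mulB q t.2.2, t.2.1 + mulB p t.2.2)

/-- `X ^ k` modulo `X³ + pX² + qX + 1`. -/
def powX (p q : B) (k : ℕ) : T := (mulX p q)^[k] ((1, 0), 0, 0)

/-- Scaling of a triple. -/
def scal (u : B) (t : T) : T := (mulB u t.1, mulB u t.2.1, mulB u t.2.2)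

/-- Product of a triple with a triple given by coefficients `u`. -/
def comb (p q : B) (u t : T) : T :=
  scal u.1 t + scal u.2.1 (mulX p q t) + scal u.2.2 (mulX p q (mulX p q t))

/-- For every cubic `χ` with constant term 1, `X³` or `X⁵` is a constant modulo `(χ, X⁴⁵ + 1)`. -/
theorem key : ∀ p q : B, ∃ u : T,
    (comb p q u (powX p q 45 + ((1, 0), 0, 0))).2 = (powX p q 3).2 ∨
    (comb p q u (powX p q 45 + ((1, 0), 0, 0))).2 = (powX p q 5).2 := by
  decide +kernel

section

variable {F : Type*} [Field F] [CharP F 2] (w : F)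

/-- The evaluation of coordinates at a primitive element. -/
def e (b : B) : F := ZMod.castHom (dvd_refl 2) F b.1 + ZMod.castHom (dvd_refl 2) F b.2 * w

theorem e_one : e w ((1, 0) : B) = 1 := by simp [e]

theorem e_zero : e w (0 : B) = 0 := by simp [e]

theorem e_add (x y : B) : e w (x + y) = e w x + e w y := by
  simp only [e, Prod.fst_add, Prod.snd_add, map_add]; ring

variable {w}

theorem e_mul (hw : w ^ 2 = w + 1) (x y : B) : e w (mulB x y) = e w x * e w y := by
  simp only [e, mulB, map_add, map_mul]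
  linear_combination -(ZMod.castHom (dvd_refl 2) F x.2 * ZMod.castHom (dvd_refl 2) F y.2) * hw

variable (w) (M : Matrix (Fin 3) (Fin 3) F)

/-- The value of a triple at a matrix. -/
def ev (t : T) : Matrix (Fin 3) (Fin 3) F :=
  e w t.1 • 1 + e w t.2.1 • M + e w t.2.2 • M ^ 2

theorem ev_add (s t : T) : ev w M (s + t) = ev w M s + ev w M t := by
  simp only [ev, Prod.fst_add, Prod.snd_add, e_add, add_smul]; abel

variable {w M}

theorem ev_scal (hw : w ^ 2 = w + 1) (u : B) (t : T) : ev w M (scal u t) = e w u • ev w M t := by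
  simp only [ev, scal, e_mul hw, smul_add, mul_smul]

theorem ev_mulX (hw : w ^ 2 = w + 1) {p q : B} (hM : M ^ 3 = e w p • M ^ 2 + e w q • M + 1)
    (t : T) : ev w M (mulX p q t) = M * ev w M t := by
  simp only [ev, mulX, e_add, e_mul hw, mul_add, mul_smul_comm, mul_one, ← pow_two,
    ← pow_succ', hM, smul_add, add_smul, smul_smul, mul_comm (e w p), mul_comm (e w q)]
  abel

theorem ev_powX (hw : w ^ 2 = w + 1) {p q : B} (hM : M ^ 3 = e w p • M ^ 2 + e w q • M + 1)
    (k : ℕ) : ev w M (powX p q k) = M ^ k := by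
  induction k with
  | zero => simp [powX, ev, e_one, e_zero]
  | succ k ih =>
    rw [powX, Function.iterate_succ_apply', ev_mulX hw hM, ← powX, ih, pow_succ']

theorem exists_pow_eq_smul_one (hw : w ^ 2 = w + 1) {p q : B}
    (hM : M ^ 3 = e w p • M ^ 2 + e w q • M + 1) (h45 : M ^ 45 = 1) :
    ∃ s : F, M ^ 3 = s • 1 ∨ M ^ 5 = s • 1 := by
  obtain ⟨u, hu⟩ := key p q
  have h0 : ev w M (powX p q 45 + ((1, 0), 0, 0)) = 0 := by
    rw [ev_add, ev_powX hw hM, h45]
    simp only [ev, e_one, e_zero, zero_smul, one_smul, add_zero, CharTwo.add_self_eq_zero,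
      ← two_smul F (1 : Matrix (Fin 3) (Fin 3) F), CharTwo.two_eq_zero]
  set v := comb p q u (powX p q 45 + ((1, 0), 0, 0)) with hv
  have hv0 : ev w M v = 0 := by
    simp only [hv, comb]
    rw [ev_add, ev_add, ev_scal hw, ev_scal hw, ev_scal hw, ev_mulX hw hM, ev_mulX hw hM,
      ev_mulX hw hM, h0]
    simp
  have hk : ∀ k, v.2 = (powX p q k).2 → ∃ s : F, M ^ k = s • 1 := fun k h => by
    refine ⟨e w (powX p q k).1 - e w v.1, ?_⟩
    rw [sub_smul, ← ev_powX hw hM k, ← sub_zero (ev w M (powX p q k)), ← hv0]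
    simp only [ev, ← h]; abel
  rcases hu with h | h
  · exact (hk 3 h).imp fun _ => Or.inl
  · exact (hk 5 h).imp fun _ => Or.inr

end

/-- No element of PSL_3(4) has order 15. -/
theorem result {F : Type*} [Field F] [Fintype F] (hF : Fintype.card F = 4) (g : Matrix.ProjectiveSpecialLinearGroup (Fin 3) F) : orderOf g ≠ 15 := by
  intro hord
  classical
  obtain ⟨h, rfl⟩ := QuotientGroup.mk_surjective g
  obtain ⟨n, hp, hn⟩ := FiniteField.card F (ringChar F)
  have h2 : ringChar F = 2 := by
    have hd : ringChar F ∣ 2 ^ 2 := by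
      rw [show (2 : ℕ) ^ 2 = 4 from rfl, ← hF, hn]; exact dvd_pow_self _ n.2.ne'
    exact (Nat.prime_dvd_prime_iff_eq hp Nat.prime_two).mp (hp.dvd_of_dvd_pow hd)
  have : CharP F 2 := h2 ▸ ringChar.charP F
  obtain ⟨w, hw0, hw1⟩ : ∃ w : F, w ≠ 0 ∧ w ≠ 1 := by
    by_contra hc
    have : (Finset.univ : Finset F) ⊆ {0, 1} := fun x _ => by
      rcases eq_or_ne x 0 with h0 | h0
      · simp [h0]
      rcases eq_or_ne x 1 with h1 | h1
      · simp [h1]
      exact absurd ⟨x, h0, h1⟩ hc
    have h4 := (Finset.card_le_card this).trans (Finset.card_insert_le _ _)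
    simp [hF] at h4
  have hw : w ^ 2 = w + 1 := by
    have h3 : w ^ 3 = 1 := by
      have := FiniteField.pow_card_sub_one_eq_one w hw0
      rwa [hF] at this
    have : (w - 1) * (w ^ 2 + w + 1) = 0 := by linear_combination h3
    rcases mul_eq_zero.mp this with h' | h'
    · exact absurd (sub_eq_zero.mp h') hw1
    · have h2' : (2 : F) = 0 := CharTwo.two_eq_zero
      linear_combination h' - (w + 1) * h2'
  have hinj : Function.Injective (e w) := by
    have h0 : ∀ b : B, e w b = 0 → b = 0 := by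
      intro b hb
      obtain ⟨b1, b2⟩ := b
      have hz : ∀ a : ZMod 2, a = 0 ∨ a = 1 := by decide
      rcases hz b1 with rfl | rfl <;> rcases hz b2 with rfl | rfl <;> simp only [e, map_zero,
        map_one, zero_mul, one_mul, zero_add, add_zero] at hb
      · rfl
      · exact absurd hb hw0
      · exact absurd hb one_ne_zero
      · exact absurd (CharTwo.add_eq_zero.mp hb).symm hw1
    intro x y hxy
    have : e w (x + y) = 0 := by rw [e_add, hxy, CharTwo.add_self_eq_zero]
    have hxy' : ∀ x y : B, x + y = 0 → x = y := by decide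
    exact hxy' x y (h0 _ this)
  have hsurj : Function.Surjective (e w) :=
    (((Fintype.bijective_iff_injective_and_card _).mpr ⟨hinj, by rw [hF]; rfl⟩)).2
  set M : Matrix (Fin 3) (Fin 3) F := (h : Matrix (Fin 3) (Fin 3) F) with hMdef
  have hcp := Matrix.aeval_self_charpoly M
  have hdeg : M.charpoly.natDegree = 3 := by
    rw [Matrix.charpoly_natDegree_eq_dim]; simp
  have hlead : M.charpoly.coeff 3 = 1 := by
    have := (Matrix.charpoly_monic M).coeff_natDegree
    rwa [hdeg] at this
  have hc0 : M.charpoly.coeff 0 = 1 := by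
    have hd := Matrix.det_eq_sign_charpoly_coeff M
    rw [hMdef, h.2] at hd
    simpa [CharTwo.neg_eq] using hd.symm
  obtain ⟨p, hp'⟩ := hsurj (M.charpoly.coeff 2)
  obtain ⟨q, hq'⟩ := hsurj (M.charpoly.coeff 1)
  have hM : M ^ 3 = e w p • M ^ 2 + e w q • M + 1 := by
    rw [Polynomial.aeval_eq_sum_range, hdeg] at hcp
    simp only [Finset.sum_range_succ, Finset.sum_range_zero, hlead, hc0, one_smul, pow_zero,
      pow_one, zero_add] at hcp
    rw [← hp', ← hq'] at hcp
    have h' := eq_neg_of_add_eq_zero_right hcp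
    rw [h', ← neg_one_smul F, CharTwo.neg_eq, one_smul]
    abel
  have h15 : h ^ 15 ∈ Subgroup.center (Matrix.SpecialLinearGroup (Fin 3) F) := by
    rw [← QuotientGroup.eq_one_iff, QuotientGroup.mk_pow, ← hord, pow_orderOf_eq_one]
  obtain ⟨r, hr, hr'⟩ := Matrix.SpecialLinearGroup.mem_center_iff.mp h15
  rw [Fintype.card_fin] at hr
  have hr'' : M ^ 15 = r • 1 := by
    rw [smul_one_eq_diagonal, hMdef, ← Matrix.SpecialLinearGroup.coe_pow, ← hr']; rfl
  have h45 : M ^ 45 = 1 := by
    rw [show 45 = 15 * 3 from rfl, pow_mul, hr'', smul_pow, one_pow, hr, one_smul]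
  obtain ⟨s, hs⟩ := exists_pow_eq_smul_one hw hM h45
  have hc : ∀ k, M ^ k = s • 1 → orderOf (h : ProjectiveSpecialLinearGroup (Fin 3) F) ∣ k :=
    fun k hk => by
    refine orderOf_dvd_of_pow_eq_one ?_
    rw [← QuotientGroup.mk_pow, QuotientGroup.eq_one_iff, Subgroup.mem_center_iff]
    intro A
    apply Subtype.ext
    rw [Matrix.SpecialLinearGroup.coe_mul, Matrix.SpecialLinearGroup.coe_mul, Matrix.SpecialLinearGroup.coe_pow,
      ← hMdef, hk, mul_smul_comm, smul_mul_assoc, mul_one, one_mul]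
  rcases hs with hs | hs
  · have := hc 3 hs; rw [hord] at this; norm_num at this
  · have := hc 5 hs; rw [hord] at this; norm_num at this

end Cfsg.Agent.S0819
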