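import Cfsg.Statements.S2090
import Cfsg.Agent.Lib.SchurTable.TwoLevel
import Cfsg.Agent.Lib.SchurTable.PairCover
import Cfsg.Agent.Lib.SchurTable.UFourThreeChecks
import Cfsg.Agent.Lib.SchurTable.UFourThreeModel

set_option autoImplicit false
open Cfsg

namespace Cfsg.Agent.S2090

/-- Exceptional Schur multiplier: PSU₄(3), realised over the field with 9 elements, has Schur multiplier isomorphic to the product of cyclic groups of orders 4, 3 and 3 (order 36, not cyclic; here the Schur multiplier is described through stem extensions, as in the definitions). -/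
theorem result {F : Type*} [Field F] [Fintype F] (hF : Fintype.card F = 9) : Cfsg.HasSchurMultiplier (Cfsg.PSU 4 F 3) (Multiplicative (ZMod 4 × ZMod 3 × ZMod 3)) := by
  open CfsgLib.SchurTable in open CfsgLib.SchurTable.UFourThree in
  exact (by
    obtain ⟨φ, hφ, hrel⟩ := exists_pres hF
    have hcard := card_psu_four_three hF
    have : Finite (Cfsg.PSU 4 F 3) := Nat.finite_of_card_ne_zero (by omega)
    have hkers := Level.exact_two φ linked hφ hrel (by rw [hcard]; exact le_of_eq (by decide +kernel))
    let iso : ZMod 12 × ZMod 3 ≃+ ZMod 4 × ZMod 3 × ZMod 3 :=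
      ((ZMod.chineseRemainder (show Nat.Coprime 4 3 by decide)).toAddEquiv.prodCongr (AddEquiv.refl _)).trans
        AddEquiv.prodAssoc
    refine ⟨?_, fun Γ _ _ σ hσ => ?_⟩
    · obtain ⟨Γ, σ, hfin, hσ, ⟨hiso⟩⟩ := exists_pair_cover data.toData labels 12 3 φ hφ hkers.1 inv_true
        (by decide +kernel) pairs_true range_true (by decide +kernel) (L1 := [5, 7]) (L2 := [2])
        (by decide +kernel) (by decide +kernel) (by decide +kernel) (by decide +kernel)
        (j0 := 0) (j1 := 1) (m0 := 5) (m1 := 7)
        (by decide +kernel) (by decide +kernel) (by decide +kernel) (by decide +kernel)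
        (by decide +kernel) (by decide +kernel) (by decide +kernel)
      exact ⟨Γ, inferInstance, hfin, σ, hσ, ⟨hiso.trans iso.toMultiplicative⟩⟩
    · obtain ⟨π, hπ⟩ := Level.exists_onto φ hφ linked hkers subBound_true bound_true σ hσ
      exact ⟨π.comp iso.toMultiplicative.symm.toMonoidHom,
        hπ.comp iso.toMultiplicative.symm.surjective⟩)

end Cfsg.Agent.S2090

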