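import Cfsg.Statements.S3390
import Cfsg.Agent.Lib.TwoFusion.AlperinRankTwo.TwoGroup
-- import your own Cfsg.Agent.* helpers here

set_option autoImplicit false
open Cfsg

set_option autoImplicit false
set_option linter.style.haveILetI false

namespace Cfsg.Agent.S3390
open Subgroup Pointwise

variable {G : Type*} [Group G]

/-- A free action: the order divides the number of points. -/
theorem free_dvd {X : Type*} [Finite X] {H : Type*} [Group H] [Finite H] [MulAction H X]
    (hfree : ∀ (h : H) (c : X), h • c = c → h = 1) : Nat.card H ∣ Nat.card X := by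
  classical
  let e : MulAction.orbitRel.Quotient H X × H ≃ X := Equiv.ofBijective (fun x => x.2 • x.1.out) (by
    constructor
    · rintro ⟨ω, a⟩ ⟨ω', a'⟩ hab
      change a • ω.out = a' • ω'.out at hab
      have hω : ω = ω' := by
        rw [← Quotient.out_eq' ω, ← Quotient.out_eq' ω']
        exact Quotient.sound' (MulAction.orbitRel_apply.2 ⟨a⁻¹ * a', by
          change (a⁻¹ * a') • ω'.out = ω.out
          rw [mul_smul, ← hab, inv_smul_smul]⟩)
      subst hω
      have h1 := hfree (a'⁻¹ * a) ω.out (by rw [mul_smul, hab, inv_smul_smul])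
      rw [inv_mul_eq_one] at h1
      rw [h1]
    · intro c
      obtain ⟨a, ha⟩ := MulAction.orbitRel_apply.1
        (Quotient.exact' (Quotient.out_eq' (Quotient.mk'' c : MulAction.orbitRel.Quotient H X)))
      exact ⟨(Quotient.mk'' c, a⁻¹), by
        change a⁻¹ • (Quotient.mk'' c : MulAction.orbitRel.Quotient H X).out = c
        rw [← ha]; exact inv_smul_smul a c⟩)
  exact ⟨Nat.card (MulAction.orbitRel.Quotient H X), by rw [← Nat.card_congr e, Nat.card_prod, mul_comm]⟩

/-- A free action with an even number of orbits is by even permutations. -/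
theorem sign_of_free_even {X : Type*} [Fintype X] [DecidableEq X] {H : Type*} [Group H] [Fintype H]
    [DecidableEq H] [MulAction H X] (hfree : ∀ (h : H) (c : X), h • c = c → h = 1) {k : ℕ}
    (hk : Fintype.card X = 2 * k * Fintype.card H) (h : H) :
    Equiv.Perm.sign (MulAction.toPerm h : Equiv.Perm X) = 1 := by
  classical
  let e : MulAction.orbitRel.Quotient H X × H ≃ X := Equiv.ofBijective (fun x => x.2 • x.1.out) (by
    constructor
    · rintro ⟨ω, a⟩ ⟨ω', a'⟩ hab
      change a • ω.out = a' • ω'.out at hab
      have hω : ω = ω' := by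
        rw [← Quotient.out_eq' ω, ← Quotient.out_eq' ω']
        exact Quotient.sound' (MulAction.orbitRel_apply.2 ⟨a⁻¹ * a', by
          change (a⁻¹ * a') • ω'.out = ω.out
          rw [mul_smul, ← hab, inv_smul_smul]⟩)
      subst hω
      have h1 := hfree (a'⁻¹ * a) ω.out (by rw [mul_smul, hab, inv_smul_smul])
      rw [inv_mul_eq_one] at h1
      rw [h1]
    · intro c
      obtain ⟨a, ha⟩ := MulAction.orbitRel_apply.1
        (Quotient.exact' (Quotient.out_eq' (Quotient.mk'' c : MulAction.orbitRel.Quotient H X)))
      exact ⟨(Quotient.mk'' c, a⁻¹), by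
        change a⁻¹ • (Quotient.mk'' c : MulAction.orbitRel.Quotient H X).out = c
        rw [← ha]; exact inv_smul_smul a c⟩)
  have hconj : (MulAction.toPerm h : Equiv.Perm X) =
      e.permCongr (Equiv.prodCongrRight fun _ => Equiv.mulLeft h) := by
    ext c
    obtain ⟨⟨ω, a⟩, rfl⟩ := e.surjective c
    simp only [MulAction.toPerm_apply, Equiv.permCongr_apply, Equiv.symm_apply_apply]
    change h • a • ω.out = (h * a) • ω.out
    rw [mul_smul]
  rw [hconj, Equiv.Perm.sign_permCongr, Equiv.Perm.sign_prodCongrRight, Finset.prod_const,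
    Finset.card_univ]
  have hq : Fintype.card (MulAction.orbitRel.Quotient H X) = 2 * k := by
    have h1 := Fintype.card_congr e
    rw [Fintype.card_prod, hk] at h1
    exact Nat.eq_of_mul_eq_mul_right Fintype.card_pos h1
  rw [hq, pow_mul, Int.units_sq, one_pow]

/-- A 2-group with an involution having centraliser of order at most four is dihedral or semidihedral. -/
theorem dihedral_of_small [Finite G] (hG : IsPGroup 2 G) (h4 : 4 ≤ Nat.card G) {t e : G}
    (ht : orderOf t = 2) (he : orderOf e = 2) (hte : t ≠ e) (hcom : Commute t e)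
    (hc : Nat.card (centralizer ({t} : Set G)) ≤ 4) :
    (∃ n : ℕ, Nonempty (G ≃* DihedralGroup n)) ∨ Cfsg.IsQuasiDihedral G := by
  classical
  haveI : Fact (Nat.Prime 2) := ⟨Nat.prime_two⟩
  have htt : t * t = 1 := by rw [← pow_two, ← ht, pow_orderOf_eq_one]
  have hee : e * e = 1 := by rw [← pow_two, ← he, pow_orderOf_eq_one]
  have ht1 : t ≠ 1 := fun h => by rw [h, orderOf_one] at ht; omega
  have he1 : e ≠ 1 := fun h => by rw [h, orderOf_one] at he; omega
  by_cases htz : t ∈ center G
  · have hG4 : Nat.card G = 4 := by
      refine le_antisymm ?_ h4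
      have : centralizer ({t} : Set G) = ⊤ := by
        rw [centralizer_eq_top_iff_subset]; simpa using htz
      rwa [this, card_top] at hc
    have hexp : Monoid.exponent G = 2 := by
      have hd : ∀ g : G, g ^ 2 = 1 := by
        haveI : Fintype G := Fintype.ofFinite G
        have huniv : ({1, t, e, t * e} : Finset G) = Finset.univ := by
          apply Finset.eq_univ_of_card
          have h1 : (1 : G) ≠ t * e := fun h => hte (by
            calc t = t * (e * e) := by rw [hee, mul_one]
              _ = e := by rw [← mul_assoc, ← h, one_mul])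
          have h2 : t ≠ t * e := fun h => he1 (by simpa using h)
          have h3 : e ≠ t * e := fun h => ht1 (by simpa using h)
          rw [Finset.card_insert_of_notMem (by simp [Ne.symm ht1, Ne.symm he1, h1]),
            Finset.card_insert_of_notMem (by simp [hte, h2]), Finset.card_insert_of_notMem (by simp [h3]),
            Finset.card_singleton, ← Nat.card_eq_fintype_card, hG4]
        intro g
        have hg : g ∈ ({1, t, e, t * e} : Finset G) := huniv ▸ Finset.mem_univ g
        simp only [Finset.mem_insert, Finset.mem_singleton] at hg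
        rcases hg with rfl | rfl | rfl | rfl
        · exact one_pow 2
        · rw [pow_two]; exact htt
        · rw [pow_two]; exact hee
        · rw [hcom.mul_pow, pow_two, pow_two, htt, hee, one_mul]
      exact (Nat.dvd_prime Nat.prime_two).mp (Monoid.exponent_dvd_of_forall_pow_eq_one hd)
        |>.resolve_left fun h => ht1 (by simpa [h] using Monoid.pow_exponent_eq_one t)
    haveI : IsKleinFour G := ⟨hG4, hexp⟩
    obtain ⟨ψ⟩ := IsKleinFour.nonempty_mulEquiv (G₁ := G) (G₂ := DihedralGroup 2)
    exact Or.inl ⟨2, ⟨ψ⟩⟩
  · haveI : Nontrivial G := ⟨⟨t, 1, ht1⟩⟩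
    haveI : Nontrivial ↥(center G) := hG.center_nontrivial
    obtain ⟨z, hz⟩ := exists_prime_orderOf_dvd_card' (G := ↥(center G)) 2 (by
      obtain ⟨n, hn0, hn⟩ := (hG.to_subgroup (center G)).nontrivial_iff_card.mp inferInstance
      rw [hn]; exact dvd_pow_self 2 hn0.ne')
    have hz2 : orderOf (z : G) = 2 := by rw [orderOf_coe]; exact hz
    have huniq : ∀ x : G, orderOf x = 2 → x ∈ center G → x = (z : G) := by
      intro x hx hxc
      by_contra hne
      haveI : Fintype ↥(centralizer ({t} : Set G)) := Fintype.ofFinite _
      have hsub : ({1, x, (z : G), x * z, t} : Finset G) ⊆ (centralizer ({t} : Set G) : Set G).toFinset := by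
        have hcz : center G ≤ centralizer ({t} : Set G) := center_le_centralizer _
        intro g hg
        simp only [Finset.mem_insert, Finset.mem_singleton] at hg
        rw [Set.mem_toFinset]
        rcases hg with rfl | rfl | rfl | rfl | rfl
        · exact one_mem _
        · exact hcz hxc
        · exact hcz z.2
        · exact mul_mem (hcz hxc) (hcz z.2)
        · exact mem_centralizer_singleton_iff.mpr rfl
      have hle := Finset.card_le_card hsub
      rw [Set.toFinset_card, ← Nat.card_eq_fintype_card] at hle
      have hx1 : x ≠ 1 := fun h => by rw [h, orderOf_one] at hx; omega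
      have hz1 : (z : G) ≠ 1 := fun h => by rw [h, orderOf_one] at hz2; omega
      have hzz : (z : G) * z = 1 := by rw [← pow_two, ← hz2, pow_orderOf_eq_one]
      have h1 : (1 : G) ≠ x * z := fun h => hne (by
        calc x = x * ((z : G) * z) := by rw [hzz, mul_one]
          _ = z := by rw [← mul_assoc, ← h, one_mul])
      have h2 : x ≠ x * z := fun h => hz1 (by simpa using h)
      have h3 : (z : G) ≠ x * z := fun h => hx1 (by simpa using h)
      have hxt : x ≠ t := fun h => htz (h ▸ hxc)
      have hzt : (z : G) ≠ t := fun h => htz (h ▸ z.2)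
      have hxzt : x * z ≠ t := fun h => htz (h ▸ mul_mem hxc z.2)
      rw [Finset.card_insert_of_notMem (by simp [Ne.symm hx1, Ne.symm hz1, h1, Ne.symm ht1]),
        Finset.card_insert_of_notMem (by simp [hne, h2, hxt]),
        Finset.card_insert_of_notMem (by simp [h3, hzt]),
        Finset.card_insert_of_notMem (by simp [hxzt]), Finset.card_singleton] at hle
      have hle' : 5 ≤ Nat.card ↥(centralizer ({t} : Set G)) := hle
      omega
    rcases CfsgLib.TwoFusion.AlperinRankTwo.isDQ_of_small_centralizer hG (z : G) hz2 z.2 huniq ht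
      (fun h => htz (h ▸ z.2)) hc with ⟨m, -, hm⟩ | h
    · exact Or.inl ⟨m, hm⟩
    · exact Or.inr h

/-- Let G be a finite group acting faithfully and transitively on a finite set Ω with fixity 2 (every non-identity element fixes at most two points, and some fixes exactly two). Let α ∈ Ω and S a Sylow 2-subgroup of G. Then one of the following holds: the stabilizer S_α of α in S is trivial; S is dihedral or semidihedral and either |S_α| = 2 or |S : S_α| = 2; |S| ≥ 4, S has exactly one orbit of size 2 on Ω, every other S-orbit is regular, and G has a normal subgroup of index 2 or of index |S| which is a Frobenius group; or S ≤ G_α. -/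
theorem result {G : Type*} [Group G] [Finite G] {Ω : Type*} [Fintype Ω] [MulAction G Ω] [FaithfulSMul G Ω] (htr : MulAction.IsPretransitive G Ω)
    (hfix : ∀ g : G, g ≠ 1 → Nat.card (MulAction.fixedBy Ω g) ≤ 2) (hex : ∃ g : G, g ≠ 1 ∧ Nat.card (MulAction.fixedBy Ω g) = 2) (α : Ω) (S : Sylow 2 G) :
    (S : Subgroup G) ⊓ MulAction.stabilizer G α = ⊥ ∨
    (((∃ n : ℕ, Nonempty (↥(S : Subgroup G) ≃* DihedralGroup n)) ∨ Cfsg.IsQuasiDihedral ↥(S : Subgroup G)) ∧
       (Nat.card ↥((S : Subgroup G) ⊓ MulAction.stabilizer G α) = 2 ∨ ((S : Subgroup G) ⊓ MulAction.stabilizer G α).relIndex (S : Subgroup G) = 2)) ∨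
    (4 ≤ Nat.card (S : Subgroup G) ∧
       (∃ ω : Ω, Nat.card (MulAction.orbit ↥(S : Subgroup G) ω) = 2 ∧
          ∀ ω' : Ω, ω' ∉ MulAction.orbit ↥(S : Subgroup G) ω → Nat.card (MulAction.orbit ↥(S : Subgroup G) ω') = Nat.card (S : Subgroup G)) ∧
       ∃ N : Subgroup G, N.Normal ∧ (N.index = 2 ∨ N.index = Nat.card (S : Subgroup G)) ∧ (∃ H : Subgroup ↥N, Cfsg.IsFrobeniusComplement H)) ∨
    (S : Subgroup G) ≤ MulAction.stabilizer G α := by
  classical
  haveI : Fact (Nat.Prime 2) := ⟨Nat.prime_two⟩
  set St : Subgroup G := (S : Subgroup G) with hSt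
  set Sa := St ⊓ MulAction.stabilizer G α with hSa
  rcases eq_or_ne Sa ⊥ with hbot | hbot
  · exact Or.inl hbot
  by_cases hle : St ≤ MulAction.stabilizer G α
  · exact Or.inr (Or.inr (Or.inr hle))
  have hS2 : IsPGroup 2 St := S.isPGroup'
  -- three fixed points force the identity
  have fix3 : ∀ g : G, ∀ x y w : Ω, g • x = x → g • y = y → g • w = w → x ≠ y → x ≠ w → y ≠ w → g = 1 := by
    intro g x y w hx hy hw hxy hxw hyw
    by_contra hg
    have h := hfix g hg
    have hsub : ({x, y, w} : Finset Ω) ⊆ (MulAction.fixedBy Ω g).toFinset := by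
      intro v hv
      simp only [Finset.mem_insert, Finset.mem_singleton] at hv
      rw [Set.mem_toFinset]
      rcases hv with rfl | rfl | rfl
      · exact hx
      · exact hy
      · exact hw
    have h2 := Finset.card_le_card hsub
    rw [Set.toFinset_card, ← Nat.card_eq_fintype_card, Finset.card_insert_of_notMem (by simp [hxy, hxw]),
      Finset.card_insert_of_notMem (by simp [hyw]), Finset.card_singleton] at h2
    omega
  have hSaS : Sa ≤ St := inf_le_left
  -- `β`
  have hlt : Sa.subgroupOf St < ⊤ := lt_top_iff_ne_top.mpr fun h => hle fun s hs => by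
    have : (⟨s, hs⟩ : ↥St) ∈ Sa.subgroupOf St := h ▸ Subgroup.mem_top _
    exact this.2
  haveI := hS2.isNilpotent
  obtain ⟨n, hnN, hn⟩ := SetLike.exists_of_lt
    ((Group.normalizerCondition_of_isNilpotent (G := ↥St)) (Sa.subgroupOf St) hlt)
  set β := (n : G) • α with hβ
  have hβα : β ≠ α := fun h => hn ⟨n.2, h⟩
  have hSaβ : ∀ e ∈ Sa, e • β = β := by
    intro e he
    have h1 := (mem_normalizer_iff.mp (inv_mem hnN) ⟨e, hSaS he⟩).mp he
    have h2 : ((n : G)⁻¹ * e * ((n : G)⁻¹)⁻¹) • α = α := h1.2
    rw [inv_inv, mul_smul, mul_smul, inv_smul_eq_iff] at h2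
    exact h2
  have hpair : ∀ e ∈ Sa, e ≠ 1 → ∀ ω, e • ω = ω → ω = α ∨ ω = β := by
    intro e he he1 ω hω
    by_contra h
    push Not at h
    exact he1 (fix3 e α β ω he.2 (hSaβ e he) hω hβα.symm (Ne.symm h.1) (Ne.symm h.2))
  have hcomm_pair : ∀ e ∈ Sa, e ≠ 1 → ∀ c : G, c * e = e * c → c • α = α ∨ c • α = β := by
    intro e he he1 c hc
    refine hpair e he he1 _ ?_
    rw [← mul_smul, ← hc, mul_smul, (he.2 : e • α = α)]
  obtain ⟨e, heS, he⟩ : ∃ e ∈ Sa, orderOf e = 2 := by
    haveI : Nontrivial ↥Sa := (Subgroup.nontrivial_iff_ne_bot _).mpr hbot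
    obtain ⟨k, hk0, hk⟩ := (hS2.to_le hSaS).nontrivial_iff_card.mp inferInstance
    obtain ⟨e, he⟩ := exists_prime_orderOf_dvd_card' (G := ↥Sa) 2 (by rw [hk]; exact dvd_pow_self 2 hk0.ne')
    exact ⟨e, e.2, by rw [orderOf_coe]; exact he⟩
  have he1 : e ≠ 1 := fun h => by rw [h, orderOf_one] at he; omega
  have hSa2 : 2 ≤ Nat.card Sa := by
    rw [← he]; exact Nat.le_of_dvd Nat.card_pos (orderOf_coe (⟨e, heS⟩ : ↥Sa) ▸ orderOf_dvd_natCard _)
  -- the pair stabiliser in `S`
  by_cases hidx : ∀ s ∈ St, s • α = α ∨ s • α = β
  · -- `|S : S_α| = 2`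
    have hrel : Sa.relIndex St = 2 := by
      have h1 : Sa.subgroupOf St = MulAction.stabilizer ↥St α := by
        ext s; exact ⟨fun h => h.2, fun h => ⟨s.2, h⟩⟩
      show (Sa.subgroupOf St).index = 2
      rw [h1, MulAction.index_stabilizer]
      have : MulAction.orbit ↥St α = {α, β} := by
        ext ω
        constructor
        · rintro ⟨s, rfl⟩
          exact hidx s s.2
        · rintro (h | h)
          · rw [h]; exact MulAction.mem_orbit_self α
          · rw [h]; exact ⟨n, rfl⟩
      rw [this, Set.ncard_pair hβα.symm]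
    have hidx2 : (Sa.subgroupOf St).index = 2 := hrel
    haveI : (Sa.subgroupOf St).Normal := Subgroup.normal_of_index_eq_two hidx2
    have hcardS : 2 * Nat.card Sa = Nat.card St := by
      rw [← Subgroup.card_mul_index (Sa.subgroupOf St), hidx2,
        Nat.card_congr (Subgroup.subgroupOfEquivOfLe hSaS).toEquiv, mul_comm]
    have h4 : 4 ≤ Nat.card St := by omega
    have hswap : ∀ s ∈ St, s ∉ Sa → s • α = β ∧ s • β = α := by
      intro s hs hsn
      refine ⟨(hidx s hs).resolve_left fun h => hsn ⟨hs, h⟩, ?_⟩
      have hsq : s * (n : G) ∈ Sa := by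
        have := (Subgroup.mul_mem_iff_of_index_two hidx2 (a := (⟨s, hs⟩ : ↥St)) (b := n)).mpr
          ⟨fun h => absurd h hsn, fun h => absurd h hn⟩
        exact this
      have := hsq.2
      change (s * (n : G)) • α = α at this
      rwa [mul_smul] at this
    by_cases hA : ∃ t ∈ St, t ∉ Sa ∧ ∃ ω : Ω, t • ω = ω
    · obtain ⟨t, htS, htn, ω, hω⟩ := hA
      obtain ⟨ht1, ht2⟩ := hswap t htS htn
      have hωα : ω ≠ α := fun h => hβα (by rw [← ht1, ← h, hω])
      have hωβ : ω ≠ β := fun h => hβα (by rw [← ht2, ← h, hω])
      have htne : t ≠ 1 := fun h => htn (h ▸ one_mem _)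
      have htt : t * t = 1 := fix3 _ α β ω (by rw [mul_smul, ht1, ht2]) (by rw [mul_smul, ht2, ht1])
        (by rw [mul_smul, hω, hω]) hβα.symm hωα.symm hωβ.symm
      have hto : orderOf t = 2 := orderOf_eq_prime (by rw [pow_two]; exact htt) htne
      set C := Subgroup.centralizer ({(⟨t, htS⟩ : ↥St)} : Set ↥St) with hC
      have hstab : ∀ c : ↥St, (c : G) • ω = ω → c = 1 ∨ (c : G) ∉ Sa := by
        intro c hc
        by_contra h
        push Not at h
        rcases hpair _ h.2 (fun h' => h.1 (Subtype.ext h')) ω hc with h' | h'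
        · exact hωα h'
        · exact hωβ h'
      -- the centraliser of `t` has order at most four
      have hC4 : Nat.card C ≤ 4 := by
        have horb : (MulAction.orbit ↥C ω).ncard ≤ 2 := by
          refine le_trans (Set.ncard_le_ncard (t := MulAction.fixedBy Ω t) ?_ (Set.toFinite _)) ?_
          · rintro _ ⟨c, rfl⟩
            show t • ((c : ↥St) : G) • ω = ((c : ↥St) : G) • ω
            have := congrArg Subtype.val (Subgroup.mem_centralizer_singleton_iff.mp c.2)
            simp only [Subgroup.coe_mul] at this
            rw [← mul_smul, ← this, mul_smul, hω]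
          · rw [← Nat.card_coe_set_eq]; exact hfix t htne
        have hst : Nat.card (MulAction.stabilizer ↥C ω) ≤ 2 := by
          have hinj : Function.Injective fun c : MulAction.stabilizer ↥C ω =>
              (decide (((c : ↥C) : ↥St) ∈ Sa.subgroupOf St) : Bool) := by
            intro c d hcd
            simp only [decide_eq_decide] at hcd
            have hm : ((c⁻¹ * d : MulAction.stabilizer ↥C ω) : ↥C).1 ∈ Sa.subgroupOf St :=
              (Subgroup.mul_mem_iff_of_index_two hidx2 (a := (((c : ↥C) : ↥St))⁻¹)).mpr
                (by rw [inv_mem_iff]; exact hcd)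
            rcases hstab _ ((c⁻¹ * d : MulAction.stabilizer ↥C ω)).2 with h | h
            · exact inv_mul_eq_one.mp (Subtype.ext (Subtype.ext h))
            · exact absurd hm h
          simpa using Nat.card_le_card_of_injective _ hinj
        calc Nat.card C = (MulAction.orbit ↥C ω).ncard * Nat.card (MulAction.stabilizer ↥C ω) := by
              rw [← MulAction.index_stabilizer, mul_comm, Subgroup.card_mul_index]
          _ ≤ 2 * 2 := Nat.mul_le_mul horb hst
      have hte : Commute t e → (∃ m : ℕ, Nonempty (↥St ≃* DihedralGroup m)) ∨ Cfsg.IsQuasiDihedral ↥St :=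
        fun hc => dihedral_of_small hS2 h4 (t := ⟨t, htS⟩) (e := ⟨e, hSaS heS⟩)
          (by rw [← orderOf_coe]; exact hto) (by rw [← orderOf_coe]; exact he)
          (fun h => htn (by have h' : t = e := congrArg Subtype.val h; rw [h']; exact heS)) (Subtype.ext hc.eq) hC4
      refine Or.inr (Or.inl ⟨?_, Or.inr hrel⟩)
      by_cases hc : Commute t e
      · exact hte hc
      · haveI : Nontrivial ↥St := ⟨⟨⟨t, htS⟩, 1, fun h => htne (congrArg Subtype.val h)⟩⟩
        haveI : Nontrivial ↥(Subgroup.center ↥St) := hS2.center_nontrivial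
        obtain ⟨z, hz⟩ := exists_prime_orderOf_dvd_card' (G := ↥(Subgroup.center ↥St)) 2 (by
          obtain ⟨k, hk0, hk⟩ := (hS2.to_subgroup (Subgroup.center ↥St)).nontrivial_iff_card.mp inferInstance
          rw [hk]; exact dvd_pow_self 2 hk0.ne')
        refine dihedral_of_small hS2 h4 (t := ⟨t, htS⟩) (e := (z : ↥St))
          (by rw [← orderOf_coe]; exact hto) (by rw [orderOf_coe]; exact hz)
          (fun h => hc (congrArg Subtype.val
            (Subgroup.mem_center_iff.mp (h ▸ z.2 : (⟨t, htS⟩ : ↥St) ∈ Subgroup.center ↥St) ⟨e, hSaS heS⟩)).symm)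
          (Subgroup.mem_center_iff.mp z.2 ⟨t, htS⟩) hC4
    · push Not at hA
      refine Or.inr (Or.inr (Or.inl ⟨h4, ⟨α, ?_, ?_⟩, ?_⟩))
      · have := hrel
        show Nat.card (MulAction.orbit ↥St α) = 2
        rw [Nat.card_coe_set_eq, ← MulAction.index_stabilizer, ← hidx2]
        congr 1
        ext s; exact ⟨fun h => ⟨s.2, h⟩, fun h => h.2⟩
      · intro ω hω
        have hst : MulAction.stabilizer ↥St ω = ⊥ := by
          rw [Subgroup.eq_bot_iff_forall]
          intro c hc
          by_contra hc1
          have hcSa : (c : G) ∈ Sa := by_contra fun h => hA c c.2 h ω hc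
          rcases hpair _ hcSa (fun h => hc1 (Subtype.ext h)) ω hc with h | h
          · exact hω (by rw [h]; exact MulAction.mem_orbit_self α)
          · exact hω (by rw [h]; exact ⟨n, rfl⟩)
        show Nat.card (MulAction.orbit ↥St ω) = Nat.card St
        rw [Nat.card_coe_set_eq, ← MulAction.index_stabilizer, hst, Subgroup.index_bot]
      · -- free action of `S` outside `{α, β}`
        let X := {ω : Ω // ω ≠ α ∧ ω ≠ β}
        have hinv : ∀ s ∈ St, ∀ ω : Ω, ω ≠ α ∧ ω ≠ β → s • ω ≠ α ∧ s • ω ≠ β := by
          intro s hs ω hω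
          have h1 : s⁻¹ • α = α ∨ s⁻¹ • α = β := hidx _ (inv_mem hs)
          have h2 : s⁻¹ • β = α ∨ s⁻¹ • β = β := by
            rw [hβ, ← mul_smul]; exact hidx _ (mul_mem (inv_mem hs) n.2)
          constructor
          · intro h
            rw [← h, inv_smul_smul] at h1
            rcases h1 with h1 | h1
            · exact hω.1 (h1.trans h)
            · exact hω.2 h1
          · intro h
            rw [← h, inv_smul_smul] at h2
            rcases h2 with h2 | h2
            · exact hω.1 h2
            · exact hω.2 (h2.trans h)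
        letI actX : MulAction ↥St X :=
          { smul := fun s ω => ⟨(s : G) • ω.1, hinv s s.2 ω.1 ω.2⟩
            one_smul := fun ω => Subtype.ext (one_smul G ω.1)
            mul_smul := fun s s' ω => Subtype.ext (mul_smul (s : G) (s' : G) ω.1) }
        have hfreeX : ∀ (s : ↥St) (ω : X), s • ω = ω → s = 1 := by
          intro s ω hs
          have hs' : (s : G) • ω.1 = ω.1 := congrArg Subtype.val hs
          by_contra h
          have hsSa : (s : G) ∈ Sa := by_contra fun h' => hA s s.2 h' ω.1 hs'
          rcases hpair _ hsSa (fun h' => h (Subtype.ext h')) ω.1 hs' with h' | h'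
          · exact ω.2.1 h'
          · exact ω.2.2 h'
        have hdX : Nat.card St ∣ Nat.card X := free_dvd hfreeX
        have hΩ : Fintype.card Ω = Nat.card X + 2 := by
          rw [Nat.card_eq_fintype_card]
          have h1 := Fintype.card_subtype_compl (fun ω : Ω => ω = α ∨ ω = β)
          have h2 : Fintype.card {ω : Ω // ω = α ∨ ω = β} = 2 := by
            rw [Fintype.card_subtype]
            have : Finset.univ.filter (fun ω : Ω => ω = α ∨ ω = β) = {α, β} := by ext; simp
            rw [this, Finset.card_pair hβα.symm]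
          have h3 : Fintype.card {ω : Ω // ¬ (ω = α ∨ ω = β)} = Fintype.card X :=
            Fintype.card_congr (Equiv.subtypeEquivRight fun ω => not_or)
          have h4 := Fintype.card_subtype_le (fun ω : Ω => ω = α ∨ ω = β)
          omega
        obtain ⟨χ, hχ1, hχ2⟩ : ∃ χ : G →* ℤˣ, (∀ a ∈ Sa, χ a = 1) ∧ χ n = -1 := by
          by_cases hcyc : IsCyclic ↥St
          · have hG2 : (Nat.card G).minFac = 2 := by
              rw [Nat.minFac_eq_two_iff, ← he]
              exact orderOf_dvd_natCard e
            haveI : IsCyclic ↥(S : Subgroup G) := hcyc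
            let V : G →* ↥St := MonoidHom.transferSylow S (IsCyclic.normalizer_le_centralizer hG2 hcyc)
            let π : ↥St →* ℤˣ :=
              { toFun := fun s => if s ∈ Sa.subgroupOf St then 1 else -1
                map_one' := if_pos (one_mem _)
                map_mul' := fun a b => by
                  have := Subgroup.mul_mem_iff_of_index_two hidx2 (a := a) (b := b)
                  by_cases ha : a ∈ Sa.subgroupOf St <;> by_cases hb : b ∈ Sa.subgroupOf St <;>
                    simp [this, ha, hb] }
            have hV : ∀ s : ↥St, V s = s ^ St.index := fun s =>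
              Subtype.ext (MonoidHom.transferSylow_eq_pow S _ (s : G) s.2 |> congrArg Subtype.val)
            have hodd : Odd St.index := Nat.not_even_iff_odd.mp fun h =>
              Sylow.not_dvd_index S (even_iff_two_dvd.mp h)
            refine ⟨π.comp V, fun a ha => ?_, ?_⟩
            · rw [MonoidHom.comp_apply, hV ⟨a, hSaS ha⟩, map_pow]
              rw [show π ⟨a, hSaS ha⟩ = 1 from if_pos ha, one_pow]
            · rw [MonoidHom.comp_apply, hV n, map_pow, show π n = -1 from if_neg hn, hodd.neg_one_pow]
          · have hsgn : ∀ s : ↥St, Equiv.Perm.sign (MulAction.toPermHom G Ω (s : G)) =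
                if s ∈ Sa.subgroupOf St then 1 else -1 := by
              intro s
              have hdvd : 2 * orderOf s ∣ Nat.card St := by
                obtain ⟨k, hk⟩ := IsPGroup.iff_card.mp hS2
                obtain ⟨m, hm⟩ := IsPGroup.iff_orderOf.mp hS2 s
                have hlt : orderOf s < Nat.card St := by
                  refine lt_of_le_of_ne (Nat.le_of_dvd Nat.card_pos (orderOf_dvd_natCard s)) fun h => hcyc ?_
                  exact isCyclic_of_orderOf_eq_card s h
                rw [hm, hk] at hlt ⊢
                rw [← pow_succ']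
                exact pow_dvd_pow 2 ((Nat.pow_lt_pow_iff_right (by norm_num)).mp hlt)
              letI actZ : MulAction ↥(Subgroup.zpowers s) X := MulAction.compHom X (Subgroup.zpowers s).subtype
              letI : Fintype ↥(Subgroup.zpowers s) := Fintype.ofFinite _
              obtain ⟨k, hk⟩ := hdvd.trans hdX
              have h1 : Equiv.Perm.sign
                  (MulAction.toPerm (⟨s, Subgroup.mem_zpowers s⟩ : ↥(Subgroup.zpowers s)) : Equiv.Perm X) = 1 := by
                refine sign_of_free_even (H := ↥(Subgroup.zpowers s)) (fun c ω hc => Subtype.ext (hfreeX _ ω hc)) (k := k) ?_ _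
                rw [← Nat.card_eq_fintype_card, ← Nat.card_eq_fintype_card, Nat.card_zpowers, hk]
                ring
              have h2 : MulAction.toPermHom G Ω (s : G) =
                  (if s ∈ Sa.subgroupOf St then 1 else Equiv.swap α β) *
                    Equiv.Perm.ofSubtype (MulAction.toPerm (⟨s, Subgroup.mem_zpowers s⟩ : ↥(Subgroup.zpowers s)) : Equiv.Perm X) := by
                ext ω
                rw [Equiv.Perm.mul_apply]
                by_cases hω : ω ≠ α ∧ ω ≠ β
                · rw [Equiv.Perm.ofSubtype_apply_of_mem (p := fun ω : Ω => ω ≠ α ∧ ω ≠ β) _ hω]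
                  show (s : G) • ω = _
                  have h3 := hinv s s.2 ω hω
                  split_ifs
                  · rfl
                  · exact (Equiv.swap_apply_of_ne_of_ne h3.1 h3.2).symm
                · rw [Equiv.Perm.ofSubtype_apply_of_not_mem (p := fun ω : Ω => ω ≠ α ∧ ω ≠ β) _ hω]
                  show (s : G) • ω = _
                  have hω' : ω = α ∨ ω = β := by tauto
                  split_ifs with hsa
                  · rcases hω' with h | h <;> rw [h]
                    · exact hsa.2
                    · exact hSaβ _ hsa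
                  · rcases hω' with h | h <;> rw [h]
                    · rw [Equiv.swap_apply_left]; exact (hswap _ s.2 hsa).1
                    · rw [Equiv.swap_apply_right]; exact (hswap _ s.2 hsa).2
              rw [h2, map_mul, Equiv.Perm.sign_ofSubtype, h1, mul_one]
              split_ifs
              · exact map_one _
              · exact Equiv.Perm.sign_swap hβα.symm
            refine ⟨Equiv.Perm.sign.comp (MulAction.toPermHom G Ω), fun a ha => ?_, ?_⟩
            · rw [MonoidHom.comp_apply, hsgn ⟨a, hSaS ha⟩, if_pos]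
              exact ha
            · rw [MonoidHom.comp_apply, hsgn n, if_neg hn]
        set N := χ.ker with hN
        have hNi : N.index = 2 := by
          rw [hN, Subgroup.index_ker]
          have : χ.range = ⊤ := by
            rw [eq_top_iff]
            intro u _
            rcases Int.units_eq_one_or u with rfl | rfl
            · exact one_mem _
            · exact ⟨n, hχ2⟩
          rw [this, Subgroup.card_top, Nat.card_eq_fintype_card]; rfl
        have hSaN : Sa ≤ N := fun a ha => hχ1 a ha
        have hnN' : (n : G) ∉ N := fun h => by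
          rw [hN, MonoidHom.mem_ker, hχ2] at h
          exact absurd h (by decide)
        refine ⟨N, inferInstance, Or.inl hNi, MulAction.stabilizer ↥N α, ?_⟩
        set Ω₁ := MulAction.orbit ↥N α with hΩ₁
        set m := Ω₁.ncard with hm
        have hmodd : Odd m := by
          have h1 : Sa.relIndex N * N.index = Sa.index := Subgroup.relIndex_mul_index hSaN
          have h2 : Sa.relIndex St * St.index = Sa.index := Subgroup.relIndex_mul_index hSaS
          rw [hNi] at h1
          rw [hrel] at h2
          have h3 : Sa.relIndex N = St.index := by omega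
          have hdvd : m ∣ St.index := by
            rw [← h3, hm, hΩ₁, ← MulAction.index_stabilizer]
            refine Subgroup.index_dvd_of_le ?_
            intro c hc
            exact hc.2
          refine Odd.of_dvd_nat (Nat.not_even_iff_odd.mp fun h => Sylow.not_dvd_index S (even_iff_two_dvd.mp h)) hdvd
        have hXeven : Even (Nat.card X) := even_iff_two_dvd.mpr
          ((Dvd.intro _ hcardS).trans hdX)
        have hαfix : α ∈ Ω₁ := MulAction.mem_orbit_self α
        have horb : ∀ c ∈ N, ∀ ω ∈ Ω₁, c • ω ∈ Ω₁ := by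
          rintro c hc _ ⟨d, rfl⟩
          exact ⟨⟨c, hc⟩ * d, mul_smul c (d : G) α⟩
        have hcover : ∀ ω : Ω, ω ∈ Ω₁ ∨ ∃ ω₁ ∈ Ω₁, ω = (n : G) • ω₁ := by
          intro ω
          obtain ⟨g, rfl⟩ := htr.exists_smul_eq α ω
          by_cases hg : g ∈ N
          · exact Or.inl ⟨⟨g, hg⟩, rfl⟩
          · refine Or.inr ⟨((n : G)⁻¹ * g) • α, ⟨⟨_, ?_⟩, rfl⟩, by rw [← mul_smul, mul_inv_cancel_left]⟩
            rw [Subgroup.mul_mem_iff_of_index_two hNi, inv_mem_iff]
            exact ⟨fun h => absurd h hnN', fun h => absurd h hg⟩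
        -- the second orbit is disjoint from the first
        have hdisj : ∀ ω₁ ∈ Ω₁, (n : G) • ω₁ ∉ Ω₁ := by
          intro ω₁ h1 h2
          have hall : ∀ ω, ω ∈ Ω₁ := by
            intro ω
            rcases hcover ω with h | ⟨w, hw, rfl⟩
            · exact h
            · obtain ⟨a, rfl⟩ := hw
              obtain ⟨b, rfl⟩ := h1
              obtain ⟨c, hc⟩ := h2
              -- write `n a = (n a b⁻¹ n⁻¹) n b`
              have hmem : (n : G) * ((a : G) * (b : G)⁻¹) * (n : G)⁻¹ ∈ N :=
                (inferInstance : N.Normal).conj_mem _ (mul_mem a.2 (inv_mem b.2)) _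
              have : (n : G) • (a : G) • α =
                  ((n : G) * ((a : G) * (b : G)⁻¹) * (n : G)⁻¹) • ((n : G) • (b : G) • α) := by
                rw [← mul_smul, ← mul_smul, ← mul_smul]; congr 1; group
              change (n : G) • (a : G) • α ∈ Ω₁
              rw [this]
              refine horb _ hmem _ ?_
              exact ⟨c, hc⟩
          have hu : Ω₁ = Set.univ := Set.eq_univ_of_forall hall
          rw [hm, hu, Set.ncard_univ, Nat.card_eq_fintype_card, hΩ] at hmodd
          exact Nat.not_even_iff_odd.mpr hmodd (hXeven.add even_two)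
        refine ⟨?_, ?_, ?_⟩
        · intro h
          have : (⟨e, hSaN heS⟩ : ↥N) ∈ MulAction.stabilizer ↥N α := heS.2
          rw [h, Subgroup.mem_bot] at this
          exact he1 (congrArg Subtype.val this)
        · intro h
          have hall : ∀ ω : Ω, e • ω = ω := by
            intro ω
            obtain ⟨g, rfl⟩ := htr.exists_smul_eq α ω
            have hm' : g⁻¹ * e * g ∈ N := by
              simpa using (inferInstance : N.Normal).conj_mem _ (hSaN heS) g⁻¹
            have : (⟨_, hm'⟩ : ↥N) ∈ MulAction.stabilizer ↥N α := h ▸ Subgroup.mem_top _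
            have h2 : (g⁻¹ * e * g) • α = α := this
            rwa [mul_smul, mul_smul, inv_smul_eq_iff] at h2
          exact he1 (eq_of_smul_eq_smul (α := Ω) fun ω => by rw [hall ω, one_smul])
        · intro g hg
          rw [Subgroup.eq_bot_iff_forall]
          rintro c ⟨hc1, hc2⟩
          by_contra hc
          set α' := g • α with hα'
          have hαα' : α' ≠ α := fun h => hg h
          have hca : (c : G) • α = α := hc1
          have hca' : (c : G) • α' = α' := by
            replace hc2 : c ∈ MulAut.conj g • MulAction.stabilizer ↥N α := hc2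
            rw [Subgroup.mem_pointwise_smul_iff_inv_smul_mem] at hc2
            have h2 : (g⁻¹ * c * g) • α = α := by simpa [MulAut.conj_symm_apply] using hc2
            rw [mul_smul, mul_smul, inv_smul_eq_iff] at h2
            exact h2
          have hcG : (c : G) ≠ 1 := fun h => hc (Subtype.ext h)
          let Z := Subgroup.zpowers (c : G)
          have hZfix : ∀ z ∈ Z, z • α = α ∧ z • α' = α' := fun z hz =>
            ⟨(Subgroup.zpowers_le (H := MulAction.stabilizer G α)).mpr hca hz,
              (Subgroup.zpowers_le (H := MulAction.stabilizer G α')).mpr hca' hz⟩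
          have hZN : Z ≤ N := Subgroup.zpowers_le.mpr c.2
          have hα'1 : α' ∈ Ω₁ := ⟨g, rfl⟩
          have hfree : ∀ z ∈ Z, ∀ ω, ω ≠ α → ω ≠ α' → z • ω = ω → z = 1 := fun z hz ω h1 h2 hω =>
            fix3 z α α' ω (hZfix z hz).1 (hZfix z hz).2 hω hαα'.symm h1.symm h2.symm
          -- on the first orbit
          let Y₁ := {ω : Ω // ω ∈ Ω₁ \ {α, α'}}
          letI act₁ : MulAction ↥Z Y₁ :=
            { smul := fun z ω => ⟨(z : G) • ω.1, horb _ (hZN z.2) _ ω.2.1, fun h => ω.2.2 (by
                rcases h with h | h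
                · left; exact smul_left_cancel (z : G) (h.trans (hZfix z z.2).1.symm)
                · right; exact smul_left_cancel (z : G) (h.trans (hZfix z z.2).2.symm))⟩
              one_smul := fun ω => Subtype.ext (one_smul G ω.1)
              mul_smul := fun s s' ω => Subtype.ext (mul_smul (s : G) (s' : G) ω.1) }
          have hd1 : Nat.card Z ∣ Nat.card Y₁ := free_dvd fun z ω hz => Subtype.ext
            (hfree z z.2 ω.1 (fun h => ω.2.2 (Or.inl h)) (fun h => ω.2.2 (Or.inr h)) (congrArg Subtype.val hz))
          -- on the second orbit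
          let Ω₂ := (fun ω => (n : G) • ω) '' Ω₁
          let Y₂ := {ω : Ω // ω ∈ Ω₂}
          letI act₂ : MulAction ↥Z Y₂ :=
            { smul := fun z ω => ⟨(z : G) • ω.1, by
                obtain ⟨w, hw, hwe⟩ := ω.2
                refine ⟨((n : G)⁻¹ * z * n) • w, horb _ ?_ _ hw, ?_⟩
                · simpa using (inferInstance : N.Normal).conj_mem _ (hZN z.2) (n : G)⁻¹
                · show (n : G) • ((n : G)⁻¹ * z * n) • w = (z : G) • ω.1
                  rw [← hwe, ← mul_smul, ← mul_smul]; congr 1; group⟩
              one_smul := fun ω => Subtype.ext (one_smul G ω.1)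
              mul_smul := fun s s' ω => Subtype.ext (mul_smul (s : G) (s' : G) ω.1) }
          have hd2 : Nat.card Z ∣ Nat.card Y₂ := free_dvd fun z ω hz => by
            obtain ⟨w, hw, hwe⟩ := ω.2
            refine Subtype.ext (hfree z z.2 ω.1 ?_ ?_ (congrArg Subtype.val hz))
            · exact fun h => hdisj w hw (by rw [show (n : G) • w = α from hwe.trans h]; exact hαfix)
            · exact fun h => hdisj w hw (by rw [show (n : G) • w = α' from hwe.trans h]; exact hα'1)
          have hY2 : Nat.card Y₂ = m := by
            show Nat.card Ω₂ = m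
            rw [Nat.card_coe_set_eq, hm, Set.ncard_image_of_injective _ (MulAction.injective (n : G))]
          have hY1 : Nat.card Y₁ + 2 = m := by
            show Nat.card ↥(Ω₁ \ {α, α'}) + 2 = m
            rw [Nat.card_coe_set_eq, hm, ← Set.ncard_pair hαα'.symm]
            exact Set.ncard_diff_add_ncard_of_subset (Set.insert_subset hαfix (Set.singleton_subset_iff.mpr hα'1)) (Set.toFinite _)
          have hd : Nat.card Z ∣ 2 := by
            rw [hY2] at hd2
            rw [← hY1] at hd2
            exact (Nat.dvd_add_right hd1).mp hd2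
          have hd' : Nat.card Z = 2 := ((Nat.dvd_prime Nat.prime_two).mp hd).resolve_left fun h => hcG (by
            rw [Nat.card_zpowers, orderOf_eq_one_iff] at h; exact h)
          rw [hY2, hd'] at hd2
          exact Nat.not_even_iff_odd.mpr hmodd (even_iff_two_dvd.mpr hd2)
  · -- `|S : S_α| > 2`
    push Not at hidx
    obtain ⟨z, hzc, hzo⟩ : ∃ z : ↥St, z ∈ Subgroup.center ↥St ∧ orderOf (z : G) = 2 := by
      haveI : Nontrivial ↥St := ⟨⟨⟨e, hSaS heS⟩, 1, fun h => he1 (congrArg Subtype.val h)⟩⟩
      haveI : Nontrivial ↥(Subgroup.center ↥St) := hS2.center_nontrivial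
      obtain ⟨z, hz⟩ := exists_prime_orderOf_dvd_card' (G := ↥(Subgroup.center ↥St)) 2 (by
        obtain ⟨k, hk0, hk⟩ := (hS2.to_subgroup (Subgroup.center ↥St)).nontrivial_iff_card.mp inferInstance
        rw [hk]; exact dvd_pow_self 2 hk0.ne')
      exact ⟨z, z.2, by rw [orderOf_coe, orderOf_coe]; exact hz⟩
    have hzcomm : ∀ s ∈ St, s * (z : G) = (z : G) * s := fun s hs =>
      congrArg Subtype.val (Subgroup.mem_center_iff.mp hzc ⟨s, hs⟩)
    have hz1 : (z : G) ≠ 1 := fun h => by rw [h, orderOf_one] at hzo; omega
    have hzz : (z : G) * z = 1 := by rw [← pow_two, ← hzo, pow_orderOf_eq_one]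
    have hzSa : (z : G) ∉ Sa := by
      intro h
      obtain ⟨s, hs, h1, h2⟩ := hidx
      rcases hcomm_pair _ h hz1 s (hzcomm s hs) with h' | h'
      · exact h1 h'
      · exact h2 h'
    have hzα : (z : G) • α = β :=
      (hcomm_pair e heS he1 z (hzcomm e (hSaS heS)).symm).resolve_left fun h => hzSa ⟨z.2, h⟩
    have hzβ : (z : G) • β = α := by rw [← hzα, ← mul_smul, hzz, one_smul]
    -- elements permuting the pair
    have hK : ∀ c ∈ St, (c • α = α ∨ c • α = β) → c ∈ Sa ∨ (z : G) * c ∈ Sa := by
      intro c hc h
      rcases h with h | h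
      · exact Or.inl ⟨hc, h⟩
      · exact Or.inr ⟨mul_mem z.2 hc, by show ((z : G) * c) • α = α; rw [mul_smul, h, hzβ]⟩
    let K : Subgroup ↥St := Sa.subgroupOf St ⊔ Subgroup.zpowers z
    have hKmem : ∀ c : ↥St, c ∈ K ↔ ((c : G) • α = α ∨ (c : G) • α = β) := by
      let P : Subgroup G := MulAction.stabilizer G ({α, β} : Set Ω)
      have hP : ∀ c ∈ K, (c : G) ∈ P := by
        have : K ≤ P.subgroupOf St := by
          refine sup_le ?_ ?_
          · intro c hc
            have h1 : (c : G) • α = α := hc.2
            have h2 : (c : G) • β = β := hSaβ (c : G) hc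
            show (c : G) • ({α, β} : Set Ω) = {α, β}
            rw [Set.smul_set_insert, Set.smul_set_singleton, h1, h2]
          · rw [Subgroup.zpowers_le]
            show (z : G) • ({α, β} : Set Ω) = {α, β}
            rw [Set.smul_set_insert, Set.smul_set_singleton, hzα, hzβ, Set.pair_comm]
        exact fun c hc => this hc
      intro c
      constructor
      · intro hc
        have h1 := hP c hc
        rw [MulAction.mem_stabilizer_iff] at h1
        have h2 : (c : G) • α ∈ (c : G) • ({α, β} : Set Ω) := Set.smul_mem_smul_set (Or.inl rfl)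
        rw [h1] at h2
        exact h2
      · intro h
        rcases hK c c.2 h with h' | h'
        · exact Subgroup.mem_sup_left h'
        · have : c = z⁻¹ * (z * c) := by rw [inv_mul_cancel_left]
          rw [this]
          exact mul_mem (Subgroup.mem_sup_right (inv_mem (Subgroup.mem_zpowers z)))
            (Subgroup.mem_sup_left h')
    have hKlt : K < ⊤ := lt_top_iff_ne_top.mpr fun h => by
      obtain ⟨s, hs, h1, h2⟩ := hidx
      rcases (hKmem ⟨s, hs⟩).mp (h ▸ Subgroup.mem_top _) with h' | h'
      · exact h1 h'
      · exact h2 h'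
    obtain ⟨g, hgN, hgK⟩ := SetLike.exists_of_lt
      ((Group.normalizerCondition_of_isNilpotent (G := ↥St)) K hKlt)
    have hgα : ¬ ((g : G) • α = α ∨ (g : G) • α = β) := fun h => hgK ((hKmem g).mpr h)
    push Not at hgα
    -- `S_α` meets its conjugate by `g` trivially inside `K`
    have hinter : ∀ a ∈ Sa, (g : G) * a * (g : G)⁻¹ ∈ Sa → a = 1 := by
      intro a ha hga
      by_contra ha1
      have hne : (g : G) * a * (g : G)⁻¹ ≠ 1 := fun h => ha1 (conj_eq_one_iff.mp h)
      rcases hpair _ hga hne ((g : G) • α) (by
        rw [← mul_smul, inv_mul_cancel_right, mul_smul, (ha.2 : a • α = α)]) with h | h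
      · exact hgα.1 h
      · exact hgα.2 h
    have hSacard : Nat.card Sa = 2 := by
      refine le_antisymm ?_ hSa2
      have hcls : ∀ a : ↥Sa, (g : G) * a * (g : G)⁻¹ ∈ Sa ∨ (z : G) * ((g : G) * a * (g : G)⁻¹) ∈ Sa := by
        intro a
        refine hK _ (mul_mem (mul_mem g.2 (hSaS a.2)) (inv_mem g.2))
          ((hKmem (g * ⟨a, hSaS a.2⟩ * g⁻¹)).mp ?_)
        exact (mem_normalizer_iff.mp hgN ⟨a, hSaS a.2⟩).mp (Subgroup.mem_sup_left a.2)
      let f : ↥Sa → Bool := fun a => decide ((g : G) * a * (g : G)⁻¹ ∈ Sa)
      have hf : Function.Injective f := by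
        intro a b hab
        simp only [f, decide_eq_decide] at hab
        have h : (g : G) * ((a : G)⁻¹ * b) * (g : G)⁻¹ =
            ((g : G) * a * (g : G)⁻¹)⁻¹ * ((g : G) * b * (g : G)⁻¹) := by group
        have h2 : (g : G) * ((a : G)⁻¹ * b) * (g : G)⁻¹ ∈ Sa := by
          rw [h]
          by_cases ha : (g : G) * a * (g : G)⁻¹ ∈ Sa
          · exact mul_mem (inv_mem ha) (hab.mp ha)
          · have h3 := (hcls a).resolve_left ha
            have h4 := (hcls b).resolve_left fun h => ha (hab.mpr h)
            have := mul_mem (inv_mem h3) h4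
            rwa [mul_inv_rev, mul_assoc, inv_mul_cancel_left] at this
        exact Subtype.ext (inv_mul_eq_one.mp (hinter _ (mul_mem (inv_mem a.2) b.2) h2))
      simpa using Nat.card_le_card_of_injective f hf
    refine Or.inr (Or.inl ⟨?_, Or.inl hSacard⟩)
    have h4 : 4 ≤ Nat.card St := by
      have h1 := Subgroup.card_mul_index (Sa.subgroupOf St)
      rw [Nat.card_congr (Subgroup.subgroupOfEquivOfLe hSaS).toEquiv, hSacard] at h1
      have h2 : (Sa.subgroupOf St).index ≠ 1 := fun h => hlt.ne (Subgroup.index_eq_one.mp h)
      have h3 : (Sa.subgroupOf St).index ≠ 0 := Subgroup.index_ne_zero_of_finite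
      omega
    refine dihedral_of_small hS2 h4 (t := ⟨e, hSaS heS⟩) (e := z)
      (by rw [← orderOf_coe]; exact he) (by rw [← orderOf_coe]; exact hzo)
      (fun h => hzSa (by have h' : e = (z : G) := congrArg Subtype.val h; rw [← h']; exact heS))
      (Subtype.ext (hzcomm e (hSaS heS))) ?_
    calc Nat.card (Subgroup.centralizer ({(⟨e, hSaS heS⟩ : ↥St)} : Set ↥St)) ≤ Nat.card K := by
          refine Subgroup.card_le_of_le fun c hc => (hKmem c).mpr (hcomm_pair e heS he1 c ?_)
          exact congrArg Subtype.val (Subgroup.mem_centralizer_singleton_iff.mp hc)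
      _ ≤ 4 := by
          let f : ↥K → Bool × ↥Sa := fun c =>
            if h : ((c : ↥St) : G) ∈ Sa then (true, ⟨_, h⟩)
            else (false, ⟨(z : G) * ((c : ↥St) : G),
              (hK _ (c : ↥St).2 ((hKmem _).mp c.2)).resolve_left h⟩)
          have hf : Function.Injective f := by
            intro a b hab
            simp only [f] at hab
            split_ifs at hab with ha hb
            all_goals simp only [Prod.mk.injEq, Bool.true_eq_false, Bool.false_eq_true, false_and,
              true_and, Subtype.mk.injEq, mul_right_inj] at hab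
            all_goals exact Subtype.ext (Subtype.ext hab)
          have := Nat.card_le_card_of_injective f hf
          rw [Nat.card_prod, hSacard] at this
          simpa using this

end Cfsg.Agent.S3390
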