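import Cfsg.Statements.S0948
import Cfsg.Agent.Lib.Invol.KleinPrincipal

set_option autoImplicit false
open Cfsg

namespace Cfsg.Agent.S0948

/-- Let the finite group G have a Sylow 2-subgroup P that is a Klein four-group, suppose all involutions of G are conjugate, and fix a maximal ideal M of the algebraic integers containing 2. Then the principal block consists of exactly four irreducible characters, the principal character and ζ₂, ζ₃, ζ₄, and there is a sign ε such that for every involution z: ζ₂ z = 1, ζ₃ z = ε, ζ₄ z = -1; moreover ζ₂ 1 ≡ 1, ζ₃ 1 ≡ ε, ζ₄ 1 ≡ -1 (mod 4), and 1 + ζ₂ y + ε ζ₃ y - ζ₄ y = 0 for every y of odd order. -/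
theorem result {G : Type*} [Group G] [Finite G] (M : Ideal Cfsg.AlgInt) (hM : Cfsg.IsPModular 2 M) (P : Sylow 2 G) (hP : IsKleinFour (P : Subgroup G)) (hone : ∀ s t : G, orderOf s = 2 → orderOf t = 2 → IsConj s t) : ∃ ζ₂ ζ₃ ζ₄ : Cfsg.IrrCharacter G, ∃ ε : ℤ, (ε = 1 ∨ ε = -1) ∧ (ζ₂ : G → ℂ) ≠ (fun _ => 1) ∧ (ζ₃ : G → ℂ) ≠ (fun _ => 1) ∧ ζ₂ ≠ ζ₃ ∧ ζ₂ ≠ ζ₄ ∧ ζ₃ ≠ ζ₄ ∧ Cfsg.principalBlock M G = {χ : Cfsg.IrrCharacter G | (χ : G → ℂ) = (fun _ => 1) ∨ χ = ζ₂ ∨ χ = ζ₃ ∨ χ = ζ₄} ∧ (∀ z : G, orderOf z = 2 → (ζ₂ : G → ℂ) z = 1 ∧ (ζ₃ : G → ℂ) z = (ε : ℂ) ∧ (ζ₄ : G → ℂ) z = -1) ∧ (4 : ℤ) ∣ (Cfsg.charDegree (ζ₂ : G → ℂ) : ℤ) - 1 ∧ (4 : ℤ) ∣ (Cfsg.charDegree (ζ₃ : G → ℂ) : ℤ) - ε ∧ (4 : ℤ) ∣ (Cfsg.charDegree (ζ₄ : G → ℂ) : ℤ) + 1 ∧ ∀ y : G, Odd (orderOf y) → 1 + (ζ₂ : G → ℂ) y + (ε : ℂ) * (ζ₃ : G → ℂ) y - (ζ₄ : G → ℂ) y = 0 := by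
  classical
  cases nonempty_fintype G
  obtain ⟨ρ, s, hinj, h0, hmem, hs0, hs2, hval, -, horth, -⟩ :=
    CfsgLib.Invol.KleinBlock.exists_four P hP hone hM
  have hpm : ∀ i, s i = 1 ∨ s i = -1 := fun i => mul_self_eq_one_iff.1 (hs2 i)
  have hd : ∀ i, (ρ i : G → ℂ) 1 = (Cfsg.charDegree (ρ i : G → ℂ) : ℂ) := fun i =>
    CfsgLib.Blk83.one_eq (ρ i)
  have hdpos : ∀ i, 0 < Cfsg.charDegree (ρ i : G → ℂ) := fun i => CfsgLib.Blk83.deg_pos (ρ i)
  have hd0 : Cfsg.charDegree (ρ 0 : G → ℂ) = 1 := by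
    have h := hd 0
    rw [h0, CfsgLib.Char.principalIrr_apply] at h
    rw [h0]
    exact_mod_cast h.symm
  have hdeg : s 0 * (Cfsg.charDegree (ρ 0 : G → ℂ) : ℤ) + s 1 * (Cfsg.charDegree (ρ 1 : G → ℂ) : ℤ)
      + s 2 * (Cfsg.charDegree (ρ 2 : G → ℂ) : ℤ) + s 3 * (Cfsg.charDegree (ρ 3 : G → ℂ) : ℤ) = 0 := by
    have h := horth 1 (by rw [orderOf_one]; norm_num)
    rw [Fin.sum_univ_four] at h
    simp only [hd] at h
    exact_mod_cast h
  rw [hs0, hd0] at hdeg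
  -- congruences modulo four
  have hmod : ∀ i, (4 : ℤ) ∣ (Cfsg.charDegree (ρ i : G → ℂ) : ℤ) - s i := by
    intro i
    haveI := Fintype.ofFinite (P : Subgroup G)
    obtain ⟨m, hm⟩ := CfsgLib.Blk83.exists_nat_sum_eq (ρ i) (P : Subgroup G)
    rw [← Finset.add_sum_erase _ _ (Finset.mem_univ (1 : (P : Subgroup G))),
      Finset.sum_congr (s₂ := Finset.univ.erase (1 : (P : Subgroup G))) rfl
        (g := fun _ => (s i : ℂ)) (fun w hw => hval i (w : G) ?_),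
      Finset.sum_const, Finset.card_erase_of_mem (Finset.mem_univ _), Finset.card_univ,
      ← Nat.card_eq_fintype_card, IsKleinFour.card_four, nsmul_eq_mul,
      OneMemClass.coe_one, hd] at hm
    · push_cast at hm
      have h2 : (Cfsg.charDegree (ρ i : G → ℂ) : ℤ) + 3 * s i = 4 * (m : ℤ) := by
        apply Int.cast_injective (α := ℂ)
        push_cast
        linear_combination hm
      omega
    · rw [Subgroup.orderOf_coe]
      have hw1 : w ≠ 1 := by simpa using hw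
      exact orderOf_eq_prime (by rw [sq]; exact IsKleinFour.mul_self w) hw1
  have hne : ∀ i, i ≠ 0 → (ρ i : G → ℂ) ≠ (fun _ => 1) := fun i hi h =>
    hi (hinj (h0.symm ▸ (Subtype.ext h : ρ i = CfsgLib.Char.principalIrr)))
  -- arrange the signs
  obtain ⟨i, j, k, hi, hj, hk, hij, hik, hjk, hsi, hsk⟩ : ∃ i j k : Fin 4, i ≠ 0 ∧ j ≠ 0 ∧ k ≠ 0 ∧
      i ≠ j ∧ i ≠ k ∧ j ≠ k ∧ s i = 1 ∧ s k = -1 := by
    have := hdpos 1; have := hdpos 2; have := hdpos 3
    rcases hpm 1 with h1 | h1 <;> rcases hpm 2 with h2 | h2 <;> rcases hpm 3 with h3 | h3 <;>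
      rw [h1, h2, h3] at hdeg
    · exfalso; omega
    · exact ⟨1, 2, 3, by decide, by decide, by decide, by decide, by decide, by decide, h1, h3⟩
    · exact ⟨1, 3, 2, by decide, by decide, by decide, by decide, by decide, by decide, h1, h2⟩
    · exact ⟨1, 3, 2, by decide, by decide, by decide, by decide, by decide, by decide, h1, h2⟩
    · exact ⟨2, 3, 1, by decide, by decide, by decide, by decide, by decide, by decide, h2, h1⟩
    · exact ⟨2, 3, 1, by decide, by decide, by decide, by decide, by decide, by decide, h2, h1⟩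
    · exact ⟨3, 2, 1, by decide, by decide, by decide, by decide, by decide, by decide, h3, h1⟩
    · exfalso; omega
  have key : ∀ a b c l : Fin 4, a ≠ 0 → b ≠ 0 → c ≠ 0 → a ≠ b → a ≠ c → b ≠ c →
      l = 0 ∨ l = a ∨ l = b ∨ l = c := by decide
  have hall : ∀ l : Fin 4, l = 0 ∨ l = i ∨ l = j ∨ l = k := fun l => key i j k l hi hj hk hij hik hjk
  refine ⟨ρ i, ρ j, ρ k, s j, hpm j, hne i hi, hne j hj, fun h => hij (hinj h), fun h => hik (hinj h),
    fun h => hjk (hinj h), ?_, fun z hz => ⟨by rw [hval i z hz, hsi]; simp, hval j z hz,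
      by rw [hval k z hz, hsk]; simp⟩, ?_, hmod j, ?_, fun y hy => ?_⟩
  · ext χ
    rw [← CfsgLib.Invol.BlockCol.mem_pBlock, hmem]
    constructor
    · rintro ⟨l, rfl⟩
      rcases hall l with rfl | rfl | rfl | rfl
      · exact Or.inl (by rw [h0]; rfl)
      · exact Or.inr (Or.inl rfl)
      · exact Or.inr (Or.inr (Or.inl rfl))
      · exact Or.inr (Or.inr (Or.inr rfl))
    · rintro (h | h | h | h)
      · exact ⟨0, by rw [h0]; exact Subtype.ext h.symm⟩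
      · exact ⟨i, h.symm⟩
      · exact ⟨j, h.symm⟩
      · exact ⟨k, h.symm⟩
  · have := hmod i
    rwa [hsi] at this
  · have := hmod k
    rw [hsk] at this
    simpa using this
  · have h := horth y (Nat.two_dvd_ne_zero.2 (Nat.odd_iff.1 hy))
    have hset : (Finset.univ : Finset (Fin 4)) = {0, i, j, k} := by
      ext l
      simpa using hall l
    rw [hset, Finset.sum_insert (by simp [Ne.symm hi, Ne.symm hj, Ne.symm hk]),
      Finset.sum_insert (by simp [hij, hik]), Finset.sum_pair hjk, hs0, hsi, hsk, h0,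
      CfsgLib.Char.principalIrr_apply] at h
    push_cast at h
    linear_combination h

end Cfsg.Agent.S0948
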