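import Cfsg.Statements.S4481
import Cfsg.Agent.Lib.Invol.DihedralBlock

set_option autoImplicit false
open Cfsg

namespace Cfsg.Agent.S4481

/-- The principal 2-block of a group with dihedral Sylow 2-subgroups. Let G be a finite group whose Sylow 2-subgroup P is dihedral of order 2^n ≥ 8, let σ be an element of P of order 2^(n−1), ζ a primitive 2^(n−1)-th root of unity, and M a maximal ideal of the algebraic integers containing 2. Then the principal 2-block consists of exactly 3 + 2^(n−2) irreducible characters, which can be labelled 1, χ₁, χ₂, χ₃ and χ^(j) for 1 ≤ j ≤ 2^(n−2) − 1 (all distinct), with signs δ₁, δ₂, δ₃ such that for 0 < λ < 2^(n−1): χ₁(σ^λ) = δ₁, χ₂(σ^λ) = δ₂(−1)^(λ+1), χ₃(σ^λ) = δ₃(−1)^(λ+1) and χ^(j)(σ^λ) = δ₁(ζ^(jλ) + ζ^(−jλ)); and for every element ρ of odd order and every j: 1 + δ₁χ₁(ρ) = −δ₂χ₂(ρ) − δ₃χ₃(ρ)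 = δ₁χ^(j)(ρ). -/
theorem result {G : Type*} [Group G] [Finite G] (M : Ideal Cfsg.AlgInt) (hM : Cfsg.IsPModular 2 M) (n : ℕ) (hn : 3 ≤ n) (P : Sylow 2 G) (hP : Nonempty ((P : Subgroup G) ≃* DihedralGroup (2 ^ (n - 1)))) (σ : G) (hσ : σ ∈ (P : Subgroup G)) (hσo : orderOf σ = 2 ^ (n - 1)) (ζ : ℂ) (hζ : IsPrimitiveRoot ζ (2 ^ (n - 1))) : Nat.card (Cfsg.principalBlock M G) = 3 + 2 ^ (n - 2) ∧ ∃ (χ₁ χ₂ χ₃ : Cfsg.IrrCharacter G) (χ' : Fin (2 ^ (n - 2) - 1) → Cfsg.IrrCharacter G) (δ₁ δ₂ δ₃ : ℤ), (δ₁ = 1 ∨ δ₁ = -1) ∧ (δ₂ = 1 ∨ δ₂ = -1) ∧ (δ₃ = 1 ∨ δ₃ = -1) ∧ Function.Injective χ' ∧ (χ₁ : G → ℂ) ≠ (fun _ => 1) ∧ (χ₂ : G → ℂ) ≠ (fun _ => 1) ∧ (χ₃ : G → ℂ) ≠ (fun _ => 1) ∧ χ₁ ≠ χ₂ ∧ χ₁ ≠ χ₃ ∧ χ₂ ≠ χ₃ ∧ (∀ j, χ' j ≠ χ₁ ∧ χ' j ≠ χ₂ ∧ χ' j ≠ χ₃ ∧ (χ' j : G → ℂ) ≠ (fun _ => 1)) ∧ Cfsg.principalBlock M G = {χ : Cfsg.IrrCharacter G | (χ : G →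 ℂ) = (fun _ => 1) ∨ χ = χ₁ ∨ χ = χ₂ ∨ χ = χ₃ ∨ ∃ j, χ = χ' j} ∧ (∀ l : ℕ, 0 < l → l < 2 ^ (n - 1) → (χ₁ : G → ℂ) (σ ^ l) = δ₁ ∧ (χ₂ : G → ℂ) (σ ^ l) = δ₂ * (-1) ^ (l + 1) ∧ (χ₃ : G → ℂ) (σ ^ l) = δ₃ * (-1) ^ (l + 1) ∧ ∀ j : Fin (2 ^ (n - 2) - 1), (χ' j : G → ℂ) (σ ^ l) = δ₁ * (ζ ^ (((j : ℕ) + 1) * l) + (ζ ^ (((j : ℕ) + 1) * l))⁻¹)) ∧ ∀ ρ : G, Odd (orderOf ρ) → ∀ j : Fin (2 ^ (n - 2) - 1), 1 + δ₁ * (χ₁ : G → ℂ) ρ = -δ₂ * (χ₂ : G → ℂ) ρ - δ₃ * (χ₃ : G → ℂ) ρ ∧ 1 + δ₁ * (χ₁ : G → ℂ) ρ = δ₁ * (χ' j : G → ℂ) ρ := by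
  classical
  obtain ⟨b, rfl⟩ : ∃ b, n = b + 2 := ⟨n - 2, by omega⟩
  simp only [show b + 2 - 2 = b from rfl, show b + 2 - 1 = b + 1 from rfl] at *
  have hq : 2 ^ (b + 1) = 2 * 2 ^ b := by rw [pow_succ, mul_comm]
  have h2 : 2 ≤ 2 ^ b := by
    calc 2 = 2 ^ 1 := (pow_one 2).symm
      _ ≤ 2 ^ b := Nat.pow_le_pow_right two_pos (by omega)
  obtain ⟨e⟩ := hP
  have : NeZero (2 ^ (b + 1)) := ⟨by positivity⟩
  set τ : (P : Subgroup G) := e.symm (DihedralGroup.sr 0) with hτ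
  have hinv : (τ : G) * σ * (τ : G)⁻¹ = σ⁻¹ := by
    have h' : τ * (⟨σ, hσ⟩ : (P : Subgroup G)) * τ⁻¹ = (⟨σ, hσ⟩ : (P : Subgroup G))⁻¹ := by
      apply e.injective
      rw [map_mul, map_mul, map_inv, map_inv, hτ, MulEquiv.apply_symm_apply]
      cases hc : e ⟨σ, hσ⟩ with
      | r i => simp
      | sr i =>
        exfalso
        have ho := e.orderOf_eq (⟨σ, hσ⟩ : (P : Subgroup G))
        rw [hc, DihedralGroup.orderOf_sr, Subgroup.orderOf_mk, hσo] at ho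
        omega
    exact congrArg Subtype.val h'
  have hsq : (τ : G) * (τ : G) = 1 := by
    rw [← Subgroup.coe_mul, hτ, ← map_mul]
    simp
  have d : CfsgLib.Invol.DihPairs.DihData P σ (τ : G) (2 ^ b) := by
    refine ⟨hσ, τ.2, by rw [hσo, hq], ?_, hinv, hsq, fun hm => ?_, by positivity⟩
    · rw [Nat.card_congr e.toEquiv, DihedralGroup.nat_card, show b + 2 - 1 = b + 1 from rfl, hq]; ring
    · obtain ⟨i, hi⟩ := Subgroup.mem_zpowers_iff.1 hm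
      rw [← hi, (Commute.zpow_self σ i).eq, mul_inv_cancel_right] at hinv
      have := orderOf_dvd_of_pow_eq_one (x := σ) (n := 2) (by
        rw [sq]; nth_rw 1 [hinv]; exact inv_mul_cancel σ)
      rw [hσo, hq] at this
      have := Nat.le_of_dvd two_pos this
      omega
  rw [hq] at hζ
  obtain ⟨A, C, D, Bk, δ₁, δ₂, δ₃, ⟨he, hf, hg⟩, ⟨hAp, hCp, hDp, hAC, hAD, hCD⟩, hBk, hinj, hmem, hsum,
    hval, hreg⟩ := CfsgLib.Invol.DihBlock.block_structure hM d rfl h2 hζ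
  have hp : ∀ χ : Cfsg.IrrCharacter G, (χ : G → ℂ) = (fun _ => 1) ↔ χ = CfsgLib.Char.principalIrr :=
    fun χ => ⟨fun h => Subtype.ext (h.trans (funext fun g => (CfsgLib.Char.principalIrr_apply g).symm)),
      fun h => funext fun g => by rw [h, CfsgLib.Char.principalIrr_apply]⟩
  have hI : ∀ j : Fin (2 ^ b - 1), (j : ℕ) + 1 ∈ Finset.Ico 1 (2 ^ b) := fun j => by
    have := j.2
    simp only [Finset.mem_Ico]; omega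
  refine ⟨?_, A, C, D, fun j => Bk ((j : ℕ) + 1), δ₁, δ₂, δ₃, he, hf, hg, fun i j hij => ?_,
    fun h => hAp ((hp _).1 h), fun h => hCp ((hp _).1 h), fun h => hDp ((hp _).1 h), hAC, hAD, hCD,
    fun j => ⟨(hBk _ (hI j)).2.1, (hBk _ (hI j)).2.2.1, (hBk _ (hI j)).2.2.2,
      fun h => (hBk _ (hI j)).1 ((hp _).1 h)⟩, ?_, fun l hl0 hl => ?_, fun ρ hρ j => ?_⟩
  · have h1 := hsum fun _ => (1 : ℂ)
    simp only [Finset.sum_const, nsmul_eq_mul, mul_one, Nat.card_Ico] at h1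
    rw [Nat.card_coe_set_eq, Set.ncard_eq_toFinset_card _ (Set.toFinite _)]
    have h3 : (CfsgLib.Invol.BlockCol.pBlock M G).card = 3 + 2 ^ b := by
      have e2 : ((CfsgLib.Invol.BlockCol.pBlock M G).card : ℂ) = ((3 + 2 ^ b : ℕ) : ℂ) := by
        rw [h1, Nat.cast_sub (by omega)]; push_cast; ring
      exact_mod_cast e2
    exact h3
  · exact Fin.ext (by
      have := hinj (Finset.mem_coe.2 (hI i)) (Finset.mem_coe.2 (hI j)) hij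
      omega)
  · ext χ
    rw [hmem χ, Set.mem_setOf_eq, hp]
    refine or_congr_right (or_congr_right (or_congr_right (or_congr_right ⟨?_, ?_⟩)))
    · rintro ⟨k, hk, rfl⟩
      simp only [Finset.mem_Ico] at hk
      exact ⟨⟨k - 1, by rw [show b + 2 - 2 = b from rfl]; omega⟩, by simp only; rw [Nat.sub_add_cancel hk.1]⟩
    · rintro ⟨j, rfl⟩
      exact ⟨_, hI j, rfl⟩
  · rw [hq] at hl
    obtain ⟨h1, h3, h4, h5⟩ := hval l hl0 hl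
    exact ⟨h1, h3, h4, fun j => h5 _ (hI j)⟩
  · obtain ⟨h1, h3⟩ := hreg ρ (by rw [← even_iff_two_dvd, Nat.not_even_iff_odd]; exact hρ)
    exact ⟨h1, h3 _ (hI j)⟩

end Cfsg.Agent.S4481
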