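import Cfsg.Statements.S4558
import Cfsg.Agent.Lib.Char.Integral

set_option autoImplicit false
open Cfsg

namespace Cfsg.Agent.S4558

theorem sum_pow (p j : ℕ) (hp : p.Prime) (s : Multiset Cfsg.AlgInt) :
    ∃ r : Cfsg.AlgInt, s.sum ^ p ^ j = (s.map fun a => a ^ p ^ j).sum + (p : Cfsg.AlgInt) * r := by
  induction s using Multiset.induction with
  | empty => exact ⟨0, by simp [zero_pow (pow_ne_zero j hp.ne_zero)]⟩
  | cons a s ih =>
    obtain ⟨r, hr⟩ := ih
    obtain ⟨r', hr'⟩ := exists_add_pow_prime_pow_eq hp a s.sum j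
    refine ⟨a * s.sum * r' + r, ?_⟩
    rw [Multiset.sum_cons, Multiset.map_cons, Multiset.sum_cons, hr', hr]
    ring

/-- Let χ be a character of the finite group G and g an element of p-power order for the prime p. If χ g = 0, then p divides the degree of χ. -/
theorem result {G : Type*} [Group G] [Finite G] (p : ℕ) [Fact p.Prime] (χ : G → ℂ) (hχ : Cfsg.IsCharacter G χ) (g : G) (hg : ∃ j : ℕ, orderOf g = p ^ j) (h0 : χ g = 0) : p ∣ Cfsg.charDegree χ := by
  have hp : p.Prime := Fact.out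
  obtain ⟨j, hj⟩ := hg
  obtain ⟨n, ρ, hρ⟩ := hχ
  obtain ⟨s, hcard, hsum, -, hroot⟩ := CfsgLib.Char.exists_eigen_multiset ρ g
  rw [Module.finrank_fintype_fun_eq_card, Fintype.card_fin] at hcard
  have hmem : ∀ z ∈ s, z ∈ Cfsg.AlgInt := fun z hz =>
    ⟨Polynomial.X ^ orderOf g - 1, Polynomial.monic_X_pow_sub_C 1 (orderOf_pos g).ne',
      by simp [hroot z hz]⟩
  let s' : Multiset Cfsg.AlgInt := s.attach.map fun z => ⟨z.1, hmem z.1 z.2⟩
  have hs' : ((s'.sum : Cfsg.AlgInt) : ℂ) = s.sum := by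
    rw [← Subalgebra.coe_val, map_multiset_sum, Multiset.map_map]
    simp [Function.comp_def]
  have hzero : s'.sum = 0 := by
    apply Subtype.ext
    rw [hs', ← hsum, hρ, h0]
    rfl
  have hone : (s'.map fun a => a ^ p ^ j) = Multiset.replicate n 1 := by
    rw [Multiset.eq_replicate]
    refine ⟨by simp [s', hcard], ?_⟩
    intro b hb
    simp only [s', Multiset.map_map, Multiset.mem_map, Function.comp_apply] at hb
    obtain ⟨⟨z, hz⟩, -, rfl⟩ := hb
    apply Subtype.ext
    simp [← hj, hroot z hz]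
  obtain ⟨r, hr⟩ := sum_pow p j hp s'
  rw [hzero, hone, Multiset.sum_replicate, zero_pow (pow_ne_zero j hp.ne_zero), nsmul_one] at hr
  have hdeg : Cfsg.charDegree χ = n := by
    unfold Cfsg.charDegree
    rw [← hρ, Representation.char_one, Module.finrank_fintype_fun_eq_card, Fintype.card_fin]
    simp
  rw [hdeg]
  apply CfsgLib.Char.dvd_of_isIntegral_natCast_div hp.ne_zero
  have hc := congrArg (fun x : Cfsg.AlgInt => (x : ℂ)) hr
  have hp0 : (p : ℂ) ≠ 0 := Nat.cast_ne_zero.2 hp.ne_zero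
  simp at hc
  have he : (n : ℂ) / p = -(r : ℂ) := by
    rw [div_eq_iff hp0]
    linear_combination -hc
  rw [he]
  exact r.2.neg

end Cfsg.Agent.S4558
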