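import Cfsg.Statements.S0060
import Cfsg.Agent.Lib.Solvable.Core
import Mathlib.Data.Set.Finite.Lemmas

set_option autoImplicit false
set_option linter.style.haveILetI false
open Pointwise
open Cfsg
open scoped Pointwise

namespace Cfsg.Agent.S0060

/-- Brodkey's Theorem: in a finite group with abelian Sylow p-subgroups and no nontrivial normal p-subgroup, some conjugate of a Sylow p-subgroup meets it trivially. -/
theorem result {G : Type*} [Group G] [Finite G] (p : ℕ) [Fact p.Prime]
    (S : Sylow p G) (hS : IsMulCommutative S) (hOp : Cfsg.pCore p G = ⊥) :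
    ∃ g : G, (S : Subgroup G) ⊓ MulAut.conj g • (S : Subgroup G) = ⊥ := by
  classical
  haveI := hS
  obtain ⟨g, -, hg'⟩ := Set.exists_min_image (Set.univ : Set G)
    (fun g : G => Nat.card ((S : Subgroup G) ⊓ MulAut.conj g • (S : Subgroup G) : Subgroup G))
    Set.finite_univ Set.univ_nonempty
  have hg : ∀ b : G, Nat.card ((S : Subgroup G) ⊓ MulAut.conj g • (S : Subgroup G) : Subgroup G) ≤
      Nat.card ((S : Subgroup G) ⊓ MulAut.conj b • (S : Subgroup G) : Subgroup G) :=
    fun b => hg' b trivial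
  clear hg'
  refine ⟨g, ?_⟩
  set T : Sylow p G := g • S with hT
  have hTdef : MulAut.conj g • (S : Subgroup G) = (T : Subgroup G) := rfl
  rw [hTdef] at hg ⊢
  set D := (S : Subgroup G) ⊓ T with hD
  rw [eq_bot_iff, ← hOp, CfsgLib.Solvable.pCore_eq_iInf_sylow]
  refine le_iInf fun U => ?_
  set N := Subgroup.normalizer (D : Set G) with hN
  have hcomm : ∀ W : Sylow p G, D ≤ W → (W : Subgroup G) ≤ N := by
    intro W hDW
    obtain ⟨w, rfl⟩ := MulAction.exists_smul_eq G S W
    refine le_trans ?_ (Subgroup.centralizer_le_normalizer _)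
    intro x hx
    rw [Subgroup.mem_centralizer_iff]
    intro y hy
    have hy' := hDW hy
    rw [Sylow.coe_subgroup_smul, Subgroup.mem_pointwise_smul_iff_inv_smul_mem] at hy'
    have hx' : (MulAut.conj w)⁻¹ • x ∈ (S : Subgroup G) :=
      Subgroup.mem_pointwise_smul_iff_inv_smul_mem.1 hx
    have h := setLike_mul_comm hy' hx'
    rw [← smul_mul', ← smul_mul'] at h
    exact MulAction.injective (MulAut.conj w)⁻¹ h
  have hSN : (S : Subgroup G) ≤ N := hcomm S inf_le_left
  have hTN : (T : Subgroup G) ≤ N := hcomm T inf_le_right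
  have hp1 : IsPGroup p ((U : Subgroup G).subgroupOf N) := U.isPGroup'.comap_subtype
  obtain ⟨Q, hQ⟩ := hp1.exists_le_sylow
  obtain ⟨n, hn⟩ := MulAction.exists_smul_eq N (S.subtype hSN) Q
  set U' : Sylow p G := (n : G)⁻¹ • U with hU'
  have hU'S : ∀ x ∈ (U' : Subgroup G), x ∈ N → x ∈ (S : Subgroup G) := by
    intro x hx hxN
    rw [hU', Sylow.coe_subgroup_smul, Subgroup.mem_pointwise_smul_iff_inv_smul_mem] at hx
    have h1 : (n : G) * x * (n : G)⁻¹ ∈ (U : Subgroup G) := by simpa [MulAut.smul_def] using hx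
    have h2 : (⟨(n : G) * x * (n : G)⁻¹, mul_mem (mul_mem n.2 hxN) (inv_mem n.2)⟩ : N) ∈
        (Q : Subgroup N) := hQ (Subgroup.mem_subgroupOf.2 h1)
    rw [← hn, Sylow.coe_subgroup_smul, Subgroup.mem_pointwise_smul_iff_inv_smul_mem,
      Sylow.coe_subtype, Subgroup.mem_subgroupOf] at h2
    simpa [MulAut.smul_def, mul_assoc] using h2
  have hle : (U' : Subgroup G) ⊓ T ≤ D := fun x hx => ⟨hU'S x hx.1 (hTN hx.2), hx.2⟩
  obtain ⟨a, ha⟩ := MulAction.exists_smul_eq G T S
  have hcard : Nat.card D ≤ Nat.card ((U' : Subgroup G) ⊓ T : Subgroup G) := by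
    obtain ⟨b, hb⟩ := MulAction.exists_smul_eq G S (a • U')
    have h := hg b
    have e : MulAut.conj a • ((U' : Subgroup G) ⊓ T) =
        MulAut.conj b • (S : Subgroup G) ⊓ (S : Subgroup G) := by
      rw [Subgroup.smul_inf, ← Sylow.coe_subgroup_smul, ← Sylow.coe_subgroup_smul,
        ← Sylow.coe_subgroup_smul, hb, ha]
    rw [inf_comm, ← e] at h
    rwa [Nat.card_congr (Subgroup.equivSMul (MulAut.conj a) ((U' : Subgroup G) ⊓ T)).toEquiv.symm] at h
  have heq := Subgroup.eq_of_le_of_card_ge hle hcard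
  intro x hx
  have hx' : (n : G)⁻¹ * x * (n : G) ∈ D := (Subgroup.mem_normalizer_iff''.1 n.2 x).1 hx
  rw [← heq] at hx'
  have h1 := hx'.1
  rw [hU', Sylow.coe_subgroup_smul] at h1
  have h2 := Subgroup.mem_pointwise_smul_iff_inv_smul_mem.1 h1
  simpa [MulAut.smul_def, mul_assoc] using h2

end Cfsg.Agent.S0060
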