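import Cfsg.Statements.S2060
import Cfsg.Agent.Lib.M24Elt.AutM11Data
import Cfsg.Agent.Lib.Golay.Mathieu
-- import your own Cfsg.Agent.* helpers here

set_option autoImplicit false
open Cfsg

namespace Cfsg.Agent.S2060

open Cfsg CfsgLib.Comp CfsgLib.Golay CfsgLib.M24Elt

/-- Membership test for M12. -/
noncomputable def mem12 (c : ℕ) : Bool := good c && keeps12 c

theorem mem12_spec (c : ℕ) (h : mem12 c = true) : PermCode.Ok 24 c ∧ pm c ∈ Spor.M12 := by
  rw [mem12, Bool.and_eq_true] at h
  refine ⟨good_ok h.1, mem_M12.2 ⟨pm_mem h.1, ?_⟩⟩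
  rw [squareDodecad_eq, ← toSet_push (isPermOf_pm (good_ok h.1)), Nat.eq_of_beq_eq_true h.2]

/-- Membership test for M11. -/
noncomputable def mem11 (c : ℕ) : Bool := mem12 c && Nat.beq (PermCode.get c 0) 0

theorem mem11_spec (c : ℕ) (h : mem11 c = true) : PermCode.Ok 24 c ∧ pm c ∈ Spor.M11 := by
  rw [mem11, Bool.and_eq_true] at h
  obtain ⟨ho, hm⟩ := mem12_spec c h.1
  refine ⟨ho, hm, bit_injective ?_⟩
  rw [Equiv.Perm.smul_def, bit_pm ho]
  exact Nat.eq_of_beq_eq_true h.2

theorem checks : AutBound.baseOk AutM11.cert mem11 = true ∧ AutBound.closureOk AutM11.cert = true ∧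
    AutBound.classesOk AutM11.cert mem11 = true ∧ AutBound.sylOk AutM11.cert mem11 (fun _ => false) = true ∧
    AutBound.pairsOk AutM11.cert = true := by
  decide +kernel

theorem out_le : Nat.card (Cfsg.Out ↥Spor.M11) ≤ 1 := by
  haveI : Fact (Nat.Prime AutM11.cert.p) := ⟨show Nat.Prime 11 by norm_num⟩
  obtain ⟨h1, h2, h3, h4, h5⟩ := checks
  exact AutBound.card_out_le' mem11_spec h1 h2 h3 h4 h5 card_M11 AutM11.gen_card (by decide +kernel)
    AutM11.syl_card (by decide +kernel) (T := fun _ => True) (fun _ _ _ => trivial) (fun _ _ h => Bool.noConfusion h)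
    (fun _ _ _ => trivial)

/-- The outer automorphism group of the Mathieu group M₁₁ (the stabiliser of a dodecad and one of its points in the automorphism group of the length-24 binary code) is trivial: every automorphism is inner. -/
theorem result : Nat.card (Cfsg.Out ↥Cfsg.Spor.M11) = 1 := by
  exact le_antisymm out_le Nat.card_pos

end Cfsg.Agent.S2060
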