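import Cfsg.Statements.S5197
import Cfsg.Agent.Lib.FusionControl.AgemoStep
import Cfsg.Agent.Lib.FusionControl.NormalStep
import Mathlib.GroupTheory.Focal
import Mathlib.GroupTheory.Abelianization.Defs

set_option autoImplicit false
open Cfsg

namespace Cfsg.Agent.S5197

open Cfsg.FusionSystem CfsgLib.Fusion CfsgLib.FusionControl
open scoped commutatorElement

universe u

variable {Ω : Type u} [Group Ω] {S T : Subgroup Ω} {F : Cfsg.FusionSystem S}
variable {E : Cfsg.FusionSystem T} {p : ℕ}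

/-- The subgroup generated by `x⁻¹ φ(x)` over the maps normalizing `V`. -/
def focalAt (F : Cfsg.FusionSystem S) (V : Subgroup Ω) : Subgroup Ω :=
  Subgroup.closure {y : Ω | ∃ (P : Subgroup Ω) (φ : P →* Ω) (x : P),
    φ ∈ F.normalizerHom V P ∧ y = (x : Ω)⁻¹ * φ x}

/-- The maps moving elements inside their cosets of `D`. -/
def focalSys (F : Cfsg.FusionSystem S) (D : Subgroup Ω)
    (hD : ∀ g ∈ S, ∀ x ∈ S, x⁻¹ * (g * x * g⁻¹) ∈ D) : Cfsg.FusionSystem S where
  Hom P := {φ | φ ∈ F.Hom P ∧ ∀ x : P, (x : Ω)⁻¹ * φ x ∈ D}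
  le_of_mem h := F.le_of_mem h.1
  injective_of_mem h := F.injective_of_mem h.1
  conj_mem hP hg := ⟨F.conj_mem hP hg, fun x => hD _ hg _ (hP x.2)⟩
  comp_mem := by
    rintro P Q φ ψ ⟨hφ, hφ'⟩ ⟨hψ, hψ'⟩ h
    refine ⟨F.comp_mem hφ hψ h, fun x => ?_⟩
    have := D.mul_mem (hφ' x) (hψ' ⟨φ x, h x⟩)
    rw [mul_assoc, mul_inv_cancel_left] at this
    exact this
  inv_mem := by
    rintro P φ ⟨hφ, hφ'⟩
    obtain ⟨ψ, hψ, hinv⟩ := F.inv_mem hφ
    refine ⟨ψ, ⟨hψ, ?_⟩, hinv⟩
    rintro ⟨_, x, rfl⟩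
    rw [hinv]
    have := D.inv_mem (hφ' x)
    rwa [mul_inv_rev, inv_inv] at this

/-- A commutator in a central-by-`p` normal `p`-subgroup lies in the derived group of the Sylow
subgroup. -/
theorem mem_commutator_of_transfer {L : Type u} [Group L] [Finite L] [Fact p.Prime] (P : Sylow p L)
    {z : L} (hz : z ∈ (P : Subgroup L)) (hc : z ∈ commutator L)
    (hconj : ∀ g : L, ∃ t ∈ (P : Subgroup L), g⁻¹ * z * g = t⁻¹ * z * t) :
    z ∈ (commutator (P : Subgroup L)).map (P : Subgroup L).subtype := by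
  classical
  let ϕ : (P : Subgroup L) →* Abelianization (P : Subgroup L) := Abelianization.of
  have : Fintype (Quotient (MulAction.orbitRel (Subgroup.zpowers z) (L ⧸ (P : Subgroup L)))) :=
    Fintype.ofFinite _
  have hpow : MonoidHom.transfer ϕ z = (ϕ ⟨z, hz⟩) ^ (P : Subgroup L).index := by
    rw [Subgroup.index_eq_sum_minimalPeriod (P : Subgroup L) z, ← Finset.prod_pow_eq_pow_sum,
      MonoidHom.transfer_eq_prod_quotient_orbitRel_zpowers_quot]
    refine Finset.prod_congr rfl fun q _ => ?_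
    rw [← map_pow]
    obtain ⟨t, ht, htz⟩ := hconj q.out.out
    have e : (⟨_, QuotientGroup.out_conj_pow_minimalPeriod_mem (P : Subgroup L) z q.out⟩ :
        (P : Subgroup L)) = (⟨t, ht⟩ : (P : Subgroup L))⁻¹ *
          ⟨z, hz⟩ ^ Function.minimalPeriod (z • ·) q.out * ⟨t, ht⟩ := by
      refine Subtype.ext ?_
      show q.out.out⁻¹ * z ^ _ * q.out.out = t⁻¹ * z ^ _ * t
      have e1 : ∀ (a : L) (k : ℕ), a⁻¹ * z ^ k * a = (a⁻¹ * z * a) ^ k := fun a k => by
        have := conj_pow (a := a⁻¹) (b := z) (i := k)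
        rw [inv_inv] at this
        exact this.symm
      rw [e1, e1, htz]
    rw [e, map_mul, map_mul, map_inv, mul_comm, mul_inv_cancel_left]
  have hker : MonoidHom.transfer ϕ z = 1 :=
    Abelianization.commutator_subset_ker (MonoidHom.transfer ϕ) hc
  rw [hpow] at hker
  have h1 : IsPGroup p (Abelianization (P : Subgroup L)) := P.isPGroup'.to_quotient _
  obtain ⟨j, hj⟩ := h1 (ϕ ⟨z, hz⟩)
  have h2 : ϕ ⟨z, hz⟩ = 1 := orderOf_eq_one_iff.1 (Nat.eq_one_of_dvd_coprimes
    (((Nat.Prime.coprime_iff_not_dvd Fact.out).2 P.not_dvd_index).pow_left j)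
    (orderOf_dvd_of_pow_eq_one hj) (orderOf_dvd_of_pow_eq_one hker))
  exact ⟨⟨z, hz⟩, (QuotientGroup.eq_one_iff _).1 h2, rfl⟩

variable {W : ∀ (Q : Type u) [Group Q], Subgroup Q}

/-- The constrained case. -/
theorem hcons_focal [Finite S] [Fact p.Prime] (hS : IsPGroup p S) (hF : F.IsSaturated p)
    (hW1 : ∀ (Q : Type u) [Group Q] [Finite Q], IsPGroup p Q → Nontrivial Q → W Q ≠ ⊥)
    (hW2 : ∀ (Q R : Type u) [Group Q] [Group R] [Finite Q], IsPGroup p Q → ∀ φ : Q ≃* R,
      (W Q).map φ.toMonoidHom = W R)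
    (hT : ∀ (G : Type u) [Group G] [Finite G] (P : Sylow p G),
      Subgroup.centralizer ((Cfsg.pCore p G : Subgroup G) : Set G) ≤ Cfsg.pCore p G →
      Cfsg.pCore p G ⊓ commutator G = Cfsg.pCore p G ⊓
        (commutator ↥(Subgroup.normalizer
          (((W ↥(P : Subgroup G)).map (P : Subgroup G).subtype : Subgroup G) : Set G))).map
          (Subgroup.normalizer
            (((W ↥(P : Subgroup G)).map (P : Subgroup G).subtype : Subgroup G) : Set G)).subtype)
    (ih : ∀ {Ω' : Type u} [Group Ω'] {S' : Subgroup Ω'} [Finite S'], IsPGroup p S' →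
      Nat.card S' < Nat.card S → ∀ F' : Cfsg.FusionSystem S', F'.IsSaturated p →
        F'.focalSubgroup ≤ focalAt F' ((W S').map S'.subtype))
    (D : Subgroup Ω) (hD : ∀ g ∈ S, ∀ x ∈ S, x⁻¹ * (g * x * g⁻¹) ∈ D)
    {T : Subgroup Ω} (E : Cfsg.FusionSystem T) (Z : Subgroup Ω) (hE : IsLocal F p E)
    (hZ : E.IsNormal Z) (hp : IsPGroup p (E.autGroup Z)) (hlt : Z < E.core)
    (hCT : centralizerIn T E.core ≤ E.core)
    (hcov : Covered (focalSys F D hD) (liftSub W) E Z)
    (hrec : ∀ {T' : Subgroup Ω} (E' : Cfsg.FusionSystem T') (Z' : Subgroup Ω), IsLocal F p E' →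
      E'.IsNormal Z' → IsPGroup p (E'.autGroup Z') → Covered (focalSys F D hD) (liftSub W) E' Z' →
      size E' < size E → E'.IsSubsystemOf (focalSys F D hD)) :
    E.IsSubsystemOf (focalSys F D hD) := by
  obtain ⟨M⟩ := exists_coreData hS hF hE hCT
  have := hE.finite
  have hTp := hE.isPGroup hS
  have hCh := isGoodChoice_liftSub (S := S) hS hW1 hW2
  have hY := CfsgLib.FusionQuot.isNormal_core E
  have hTY : T ≤ Subgroup.normalizer (E.core : Set Ω) :=
    stronglyClosed_le_normalizer (isNormal_stronglyClosed hY)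
  obtain ⟨P₀, hP₀⟩ := M.model.2.2.1
  -- the part of `D` in the derived group
  set D' : Subgroup T := D.comap T.subtype ⊓ (commutator M.L).comap M.ι with hD'
  -- conjugation inside a covered normalizer gives elements of `D'`
  have gen : ∀ U : Subgroup Ω, U ≤ T → T ≤ Subgroup.normalizer (U : Set Ω) →
      (∀ P, E.normalizerHom U P ⊆ (focalSys F D hD).Hom P) → ∀ (t t' : T) (l : M.L),
      l ∈ Subgroup.normalizer (((U.subgroupOf T).map M.ι : Subgroup M.L) : Set M.L) →
      M.ι t' = l * M.ι t * l⁻¹ → t⁻¹ * t' ∈ D' := by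
    intro U hUT hTU hG t t' l hl ht'
    refine ⟨?_, ?_⟩
    · have hzT : Subgroup.zpowers (t : Ω) ≤ T := (Subgroup.zpowers_le).2 t.2
      have hlU : ∀ u : U, l * M.ι ⟨u, hUT u.2⟩ * l⁻¹ ∈ (U.subgroupOf T).map M.ι := fun u =>
        (Subgroup.mem_normalizer_iff.1 hl _).1 ⟨⟨u, hUT u.2⟩, u.2, rfl⟩
      have hlt : ∀ x : Subgroup.zpowers (t : Ω), l * M.ι ⟨x, hzT x.2⟩ * l⁻¹ ∈ M.ι.range := by
        rintro ⟨x, n, rfl⟩
        exact ⟨t' ^ n, by rw [map_zpow, ht', conj_zpow, ← map_zpow]; rfl⟩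
      obtain ⟨ψ, hψ, hψl⟩ := realized_subgroup_conj M.model.2.1 (sup_le hzT hUT) l
        (realized_conj_mem_range_of_sup M.model.2.1 hzT hUT hlt
          fun u => Subgroup.map_le_range _ _ (hlU u))
      have hφ := hG (Subgroup.zpowers (t : Ω))
        (show ψ.comp (Subgroup.inclusion le_sup_left) ∈ E.normalizerHom U _ from
          ⟨restrict_mem hψ _, hzT.trans (le_inf le_rfl hTU), fun x => ⟨map_mem hψ _, hTU (map_mem hψ _)⟩,
            ψ, hψ, fun x => rfl, by
              have : Finite U := finite_of_le hUT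
              rw [← range_comp_inclusion le_sup_right]
              refine range_eq_of_le ((hom_inj hψ).comp (Subgroup.inclusion_injective _)) fun u => ?_
              obtain ⟨w, hw, hwu⟩ := hlU u
              have h2 : ψ (Subgroup.inclusion le_sup_right u) = (w : Ω) :=
                realized_inj M.model.2.1 (x := ⟨_, map_mem hψ _⟩)
                  ((hψl (Subgroup.inclusion le_sup_right u) (map_mem hψ _)).trans hwu.symm)
              show ψ (Subgroup.inclusion le_sup_right u) ∈ U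
              rw [h2]
              exact hw⟩)
      have h1 := hφ.2 ⟨t, Subgroup.mem_zpowers _⟩
      have h2 : ψ (Subgroup.inclusion le_sup_left ⟨(t : Ω), Subgroup.mem_zpowers _⟩) = (t' : Ω) :=
        realized_inj M.model.2.1 (x := ⟨_, map_mem hψ _⟩) ((hψl _ (map_mem hψ _)).trans ht'.symm)
      rw [MonoidHom.comp_apply, h2] at h1
      exact h1
    · show M.ι (t⁻¹ * t') ∈ commutator M.L
      rw [map_mul, map_inv, ht', commutator_eq_closure]
      exact Subgroup.subset_closure ⟨(M.ι t)⁻¹, l, by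
        rw [commutatorElement_def]; simp [mul_assoc]⟩
  intro P φ hφ
  refine ⟨hE.1 _ hφ, fun x => ?_⟩
  obtain ⟨g, hg⟩ := realized_exists_conj M.model.2.1 hφ
  set xT : T := ⟨x, dom_le hφ x.2⟩
  set φT : T := ⟨φ x, map_mem hφ x⟩
  set r : T := xT⁻¹ * φT
  suffices hr : (r : Ω) ∈ D from hr
  have hrL : M.ι r ∈ commutator M.L := by
    rw [map_mul, map_inv, hg x, commutator_eq_closure]
    exact Subgroup.subset_closure ⟨(M.ι xT)⁻¹, g, by rw [commutatorElement_def]; simp [mul_assoc]; rfl⟩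
  -- modulo the core
  obtain ⟨d, hd, hdY⟩ : ∃ d ∈ D', ((d⁻¹ * r : T) : Ω) ∈ E.core := by
    rcases eq_or_lt_of_le M.hle with heq | hYT
    · exact ⟨1, one_mem _, heq.ge (SetLike.coe_mem _)⟩
    have hnY : ((E.core.subgroupOf T).map M.ι).Normal := M.normal_map hY le_rfl
    set mkY := QuotientGroup.mk' ((E.core.subgroupOf T).map M.ι) with hmkY
    set Pb := P₀.mapSurjective (QuotientGroup.mk'_surjective ((E.core.subgroupOf T).map M.ι)) with hPbdef
    have hPb : (Pb : Subgroup (M.L ⧸ (E.core.subgroupOf T).map M.ι)) = M.ι.range.map mkY := by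
      rw [hPbdef, ← hP₀]
      rfl
    -- elements mapping into the image of `T` lie in it
    have hback : ∀ l : M.L, mkY l ∈ (Pb : Subgroup (M.L ⧸ (E.core.subgroupOf T).map M.ι)) → l ∈ M.ι.range := by
      intro l hl
      obtain ⟨_, ⟨t, rfl⟩, htl⟩ := hPb.le hl
      obtain ⟨y, -, hy⟩ := QuotientGroup.eq.1 htl
      exact ⟨t * y, by rw [map_mul, hy, mul_inv_cancel_left]⟩
    have hlt' : Nat.card (Pb : Subgroup (M.L ⧸ (E.core.subgroupOf T).map M.ι)) < Nat.card S := by
      have hYne : (E.core.subgroupOf T).map M.ι ≠ ⊥ := by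
        intro h
        refine hlt.not_ge fun y hy => ?_
        have h1 : M.ι ⟨y, M.hle hy⟩ = 1 := Subgroup.mem_bot.1 (h ▸ ⟨⟨y, M.hle hy⟩, hy, rfl⟩)
        have h2 : (⟨y, M.hle hy⟩ : T) = 1 := M.model.2.1.1 (h1.trans (map_one _).symm)
        rw [show y = 1 from congrArg Subtype.val h2]
        exact one_mem _
      have h1 : Nat.card (Pb : Subgroup (M.L ⧸ (E.core.subgroupOf T).map M.ι)) < Nat.card M.ι.range := by
        refine lt_of_le_of_ne ?_ ?_
        · rw [hPb]
          exact Nat.card_le_card_of_surjective (mkY.subgroupMap M.ι.range)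
            (mkY.subgroupMap_surjective _)
        · intro h
          rw [hPb] at h
          have hbij := (Nat.bijective_iff_surjective_and_card (mkY.subgroupMap M.ι.range)).2
            ⟨mkY.subgroupMap_surjective _, h.symm⟩
          refine hYne ((Subgroup.eq_bot_iff_forall _).2 fun y hy => ?_)
          have h3 : (⟨y, Subgroup.map_le_range _ _ hy⟩ : M.ι.range) = 1 := hbij.1 (by
            rw [map_one]
            exact Subtype.ext ((QuotientGroup.eq_one_iff y).2 hy))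
          exact congrArg Subtype.val h3
      refine h1.trans_le ?_
      rw [Nat.card_congr (MonoidHom.ofInjective M.model.2.1.1).toEquiv.symm]
      exact Nat.card_le_card_of_injective _ (Subgroup.inclusion_injective hE.le_S)
    have hfoc := ih (Pb.isPGroup') hlt' (Cfsg.groupFusionSystem (Pb : Subgroup (M.L ⧸ (E.core.subgroupOf T).map M.ι)))
      (groupFusionSystem_isSaturated Pb)
    obtain ⟨U, hU⟩ := liftSub_nonempty (W := W) hY
    obtain ⟨hYU, hUT, hUinv⟩ := hCh E.core T U hYT hE.le_S hU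
    have hTU : T ≤ Subgroup.normalizer (U : Set Ω) := fun g hg =>
      hUinv g (Subgroup.le_normalizer hg) (hTY hg)
    have hfn := isFullyNormalized_of_le_normalizer (E := E) hUT hTU
    have hN : ∀ Y' : Subgroup Ω, Y' ≤ T → Y' ≤ normalizerIn T U := fun Y' h => by
      rwa [normalizerIn_eq_of_le hTU]
    have hUG : ∀ P, E.normalizerHom U P ⊆ (focalSys F D hD).Hom P :=
      hrec (normalizerSystem E U hUT) Z (isLocal_normalizerSystem hS hE hfn (hN _ M.hle))
        (isNormal_normalizerSystem hUT hZ (hN _ hZ.1))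
        (isPGroup_autGroup_mono (normalizerSystem_le _) (hN _ hZ.1) hZ.1 hp)
        (hcov.mono (normalizerIn_eq_of_le hTU) (normalizerSystem_le _))
        (size_normalizerSystem_lt _ fun h => hYU.not_ge (CfsgLib.FusionQuot.le_core _ h))
    set V := (W (Pb : Subgroup (M.L ⧸ (E.core.subgroupOf T).map M.ι))).map
      (Pb : Subgroup (M.L ⧸ (E.core.subgroupOf T).map M.ι)).subtype with hV
    have hfoc' : focalAt (Cfsg.groupFusionSystem (Pb : Subgroup (M.L ⧸ (E.core.subgroupOf T).map M.ι))) V ≤ (D'.map M.ι).map mkY := by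
      refine (Subgroup.closure_le _).2 ?_
      rintro _ ⟨Q, χ, q, ⟨hχ, hQN, hχv, χ', hχ', hag, hVχ⟩, rfl⟩
      obtain ⟨hQ', -, h, hh⟩ := hχ'
      have hhN : h ∈ Subgroup.normalizer (V : Set _) := by
        refine Subgroup.mem_normalizer_fintype fun v hv => ?_
        have h1 := apply_mem_map_subgroupOf (P := V) (φ := χ')
          (Subgroup.inclusion le_sup_right ⟨v, hv⟩) hv
        rw [hVχ, hh] at h1
        exact h1
      obtain ⟨l, rfl⟩ := QuotientGroup.mk'_surjective _ h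
      obtain ⟨_, ⟨t, rfl⟩, htq⟩ := hPb.le (hQ' (le_sup_left (b := V) q.2))
      have hχq : χ q = mkY l * mkY (M.ι t) * (mkY l)⁻¹ := by
        rw [← hag q, hh]
        show _ * q.1 * _ = _
        rw [← htq]
      have hlt : l * M.ι t * l⁻¹ ∈ M.ι.range := hback _ (by
        rw [map_mul, map_mul, map_inv, ← hχq]
        exact (hχv q).1)
      obtain ⟨t', ht'⟩ := hlt
      refine ⟨M.ι (t⁻¹ * t'), ⟨_, gen U hUT hTU hUG t t' l
        ((mem_normalizer_liftSub hW2 hTp M.model.2.1.1 hU _ hPb l).1 hhN) ht', rfl⟩, ?_⟩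
      rw [hχq, ← htq, map_mul, map_inv, ht', map_mul, map_inv, map_mul, map_mul, map_inv]
    have hmem : mkY (M.ι r) ∈ (Cfsg.groupFusionSystem (Pb : Subgroup (M.L ⧸ (E.core.subgroupOf T).map M.ι))).focalSubgroup := by
      have hxP : mkY (M.ι xT) ∈ (Pb : Subgroup (M.L ⧸ (E.core.subgroupOf T).map M.ι)) := hPb.ge ⟨_, ⟨xT, rfl⟩, rfl⟩
      refine Subgroup.subset_closure ⟨Subgroup.zpowers (mkY (M.ι xT)), conjHom _ (mkY g),
        ⟨mkY (M.ι xT), Subgroup.mem_zpowers _⟩,
        ⟨Subgroup.zpowers_le.2 hxP, ?_, mkY g, fun _ => rfl⟩, ?_⟩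
      · rintro ⟨y, n, rfl⟩
        show mkY g * (mkY (M.ι xT)) ^ n * (mkY g)⁻¹ ∈ _
        rw [← conj_zpow, ← map_inv, ← map_mul, ← map_mul, ← hg x]
        exact zpow_mem (hPb.ge ⟨_, ⟨φT, rfl⟩, rfl⟩) n
      · show mkY (M.ι r) = (mkY (M.ι xT))⁻¹ * (mkY g * mkY (M.ι xT) * (mkY g)⁻¹)
        rw [map_mul, map_inv, hg x, map_mul, map_inv, map_mul, map_mul, map_inv]
    obtain ⟨_, ⟨d, hd, rfl⟩, hdr⟩ := hfoc' (hfoc hmem)
    obtain ⟨y, hy, hyv⟩ := QuotientGroup.eq.1 hdr
    rw [← map_inv, ← map_mul] at hyv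
    exact ⟨d, hd, M.model.2.1.1 hyv ▸ hy⟩
  -- inside the core
  set y : T := d⁻¹ * r with hy
  suffices hyD : (y : Ω) ∈ D by
    have := D.mul_mem hd.1 hyD
    rwa [hy, Subgroup.coe_subtype, Subgroup.coe_mul, Subgroup.coe_inv, mul_inv_cancel_left] at this
  have hyL : M.ι y ∈ commutator M.L := by
    rw [hy, map_mul, map_inv]
    exact mul_mem (inv_mem hd.2) hrL
  have hnZ : ((Z.subgroupOf T).map M.ι).Normal := M.normal_map hZ hlt.le
  set mk := QuotientGroup.mk' ((Z.subgroupOf T).map M.ι) with hmk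
  set Pz := P₀.mapSurjective (QuotientGroup.mk'_surjective ((Z.subgroupOf T).map M.ι)) with hPzdef
  have hPz : (Pz : Subgroup (M.L ⧸ (Z.subgroupOf T).map M.ι)) = M.ι.range.map mk := by
    rw [hPzdef, ← hP₀]
    rfl
  obtain ⟨U, hU⟩ := liftSub_nonempty (W := W) hZ
  obtain ⟨-, hUT, hUinv⟩ := hCh Z T U (hlt.trans_le M.hle) hE.le_S hU
  have hTU : T ≤ Subgroup.normalizer (U : Set Ω) := fun g hg =>
    hUinv g (Subgroup.le_normalizer hg) (stronglyClosed_le_normalizer (isNormal_stronglyClosed hZ) hg)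
  set NU := Subgroup.normalizer (((U.subgroupOf T).map M.ι : Subgroup M.L) : Set M.L) with hNU
  have hyO : mk (M.ι y) ∈ Cfsg.pCore p (M.L ⧸ (Z.subgroupOf T).map M.ι) ⊓ commutator _ := by
    refine ⟨?_, ?_⟩
    · have hn2 : (((E.core.subgroupOf T).map M.ι).map mk).Normal :=
        (M.normal_map hY le_rfl).map _ (QuotientGroup.mk'_surjective _)
      have hle : ((E.core.subgroupOf T).map M.ι).map mk ≤
          Cfsg.pCore p (M.L ⧸ (Z.subgroupOf T).map M.ι) := le_sSup
        ⟨hn2, ((M.isPGroup_range hTp).to_le (Subgroup.map_le_range _ _)).map mk⟩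
      exact hle ⟨_, ⟨y, hdY, rfl⟩, rfl⟩
    · have h1 : (commutator M.L).map mk ≤ commutator (M.L ⧸ (Z.subgroupOf T).map M.ι) := by
        rw [commutator_def, commutator_def, Subgroup.map_commutator]
        exact Subgroup.commutator_mono le_top le_top
      exact h1 ⟨_, hyL, rfl⟩
  rw [hT _ Pz (M.quotient_constrained hTp hZ hlt.le hp)] at hyO
  set V' : Subgroup (M.L ⧸ (Z.subgroupOf T).map M.ι) :=
    (W (Pz : Subgroup (M.L ⧸ (Z.subgroupOf T).map M.ι))).map
      (Pz : Subgroup (M.L ⧸ (Z.subgroupOf T).map M.ι)).subtype with hV'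
  set N' := Subgroup.normalizer (V' : Set (M.L ⧸ (Z.subgroupOf T).map M.ι)) with hN'
  have hN'le : N' ≤ NU.map mk := fun w hw => by
    obtain ⟨l, rfl⟩ := QuotientGroup.mk'_surjective _ w
    exact ⟨l, (mem_normalizer_liftSub hW2 hTp M.model.2.1.1 hU _ hPz l).1 hw, rfl⟩
  obtain ⟨c, hc, hcy⟩ : mk (M.ι y) ∈ ⁅NU, NU⁆.map mk := by
    have h2 := hyO.2
    rw [Subgroup.map_subtype_commutator] at h2
    rw [Subgroup.map_commutator]
    exact Subgroup.commutator_mono hN'le hN'le h2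
  obtain ⟨z, hz, hzv⟩ := QuotientGroup.eq.1 hcy
  -- `ι y = c * ι z`
  set t : T := y * z⁻¹ with ht
  have hct : M.ι t = c := by
    rw [ht, map_mul, map_inv, hzv]
    simp [mul_assoc]
  have htD : t ∈ D' := by
    have hP₀N : (P₀ : Subgroup M.L) ≤ NU := by
      rw [hP₀]
      rintro _ ⟨s, rfl⟩
      refine Subgroup.mem_normalizer_fintype ?_
      rintro _ ⟨u, hu, rfl⟩
      exact ⟨s * u * s⁻¹, (Subgroup.mem_normalizer_iff.1 (hTU s.2) _).1 hu, by simp⟩
    have hcN : c ∈ NU := (Subgroup.commutator_le.2 fun a ha b hb => by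
      rw [commutatorElement_def]
      exact mul_mem (mul_mem (mul_mem ha hb) (inv_mem ha)) (inv_mem hb) : ⁅NU, NU⁆ ≤ NU) hc
    have h1 : (⟨c, hcN⟩ : NU) ∈ commutator NU ⊓ ((P₀.subtype hP₀N : Sylow p NU) : Subgroup NU) := by
      refine ⟨?_, show c ∈ (P₀ : Subgroup M.L) from hP₀ ▸ ⟨t, hct⟩⟩
      rw [← Subgroup.map_subtype_commutator] at hc
      obtain ⟨c', hc', hcc⟩ := hc
      exact (Subtype.ext hcc : c' = ⟨c, hcN⟩) ▸ hc'
    rw [Subgroup.commutator_inf_eq_focalSubgroup] at h1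
    have h2 : ((P₀.subtype hP₀N : Sylow p NU) : Subgroup NU).focalSubgroup.map NU.subtype ≤
        D'.map M.ι := by
      rw [Subgroup.focalSubgroup_def, MonoidHom.map_closure]
      refine (Subgroup.closure_le _).2 ?_
      rintro _ ⟨_, ⟨hg', a, ha, v, rfl⟩, rfl⟩
      obtain ⟨a₀, ha₀⟩ : (a : M.L) ∈ M.ι.range := hP₀ ▸ (show (a : M.L) ∈ (P₀ : Subgroup M.L) from ha)
      have hva : (v : M.L) * M.ι a₀⁻¹ * (v : M.L)⁻¹ ∈ M.ι.range := by
        have e : (v : M.L) * M.ι a₀⁻¹ * (v : M.L)⁻¹ = (a : M.L)⁻¹ * ((⁅a, v⁆ : NU) : M.L) := by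
          rw [map_inv, ha₀]
          simp [commutatorElement_def, mul_assoc]
        rw [e]
        exact mul_mem (hP₀ ▸ (inv_mem (show (a : M.L) ∈ (P₀ : Subgroup M.L) from ha)))
          (hP₀ ▸ (show ((⁅a, v⁆ : NU) : M.L) ∈ (P₀ : Subgroup M.L) from hg'))
      obtain ⟨a₁, ha₁⟩ := hva
      refine ⟨a₀⁻¹⁻¹ * a₁, gen U hUT hTU (hcov (hlt.trans_le M.hle) U hU) a₀⁻¹ a₁ v v.2 ha₁, ?_⟩
      rw [map_mul, map_inv, ha₁, map_inv, inv_inv, ha₀]
      simp [commutatorElement_def, mul_assoc]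
    obtain ⟨t', ht', htt⟩ := h2 ⟨_, h1, rfl⟩
    exact M.model.2.1.1 (htt.trans hct.symm) ▸ ht'
  have hzL : M.ι z ∈ commutator M.L := by
    rw [hzv]
    refine mul_mem (inv_mem ?_) hyL
    rw [← hct]
    exact htD.2
  -- `z` lies in the derived group of `T`
  have hzT : M.ι z ∈ (commutator (P₀ : Subgroup M.L)).map (P₀ : Subgroup M.L).subtype := by
    refine mem_commutator_of_transfer P₀ (hP₀ ▸ ⟨z, rfl⟩) hzL fun l => ?_
    have hfin : Finite Z := finite_of_le hZ.1
    -- elements of the model act on `Z` as elements of `T`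
    have key : ∀ l : M.L, ∃ t : T, ∀ w : Z,
        l * M.ι ⟨w, hZ.1 w.2⟩ * l⁻¹ = M.ι (t * ⟨w, hZ.1 w.2⟩ * t⁻¹) := by
      intro l
      have ha : IsFIso E ((M.τ l : MulAut E.core) : E.core ≃* E.core) :=
        (mem_autGroup_iff M.hle).1 (M.τ l).2
      obtain ⟨α, hα, hαv⟩ := exists_aut (restrict_mem (P := Z) ha hlt.le)
        (range_eq_of_le (hom_inj (restrict_mem (P := Z) ha hlt.le)) fun x =>
          (isNormal_stronglyClosed hZ).2 _ le_rfl _ (restrict_mem (P := Z) ha hlt.le) x)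
      obtain ⟨-, R, hR⟩ := isFullyAutomized_of_isFullyNormalized hTp hE.2.1
        (isFullyNormalized_of_le_normalizer hZ.1
          (stronglyClosed_le_normalizer (isNormal_stronglyClosed hZ)))
      have htop := R.3 (hp.of_equiv Subgroup.topEquiv.symm) le_top
      have hmem : (⟨α, hα⟩ : E.autGroup Z) ∈ (R : Subgroup (E.autGroup Z)) :=
        htop ▸ Subgroup.mem_top _
      rw [hR, Subgroup.mem_subgroupOf] at hmem
      obtain ⟨t, ht, ht'⟩ := mem_autInducedBy_iff.1 hmem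
      refine ⟨⟨t, ht⟩, fun w => ?_⟩
      refine (M.equiv l ⟨w, hlt.le w.2⟩).trans (congrArg M.ι (Subtype.ext ?_))
      exact (hαv w).symm.trans (ht' w)
    obtain ⟨t, ht⟩ := key l⁻¹
    refine ⟨M.ι t⁻¹, hP₀ ▸ ⟨t⁻¹, rfl⟩, ?_⟩
    have h1 := ht ⟨z, hz⟩
    rw [inv_inv] at h1
    rw [h1, map_mul, map_mul, map_inv, inv_inv]
  have hzD : (z : Ω) ∈ D := by
    have h1 : (commutator (P₀ : Subgroup M.L)).map (P₀ : Subgroup M.L).subtype ≤
        (D.comap T.subtype).map M.ι := by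
      rw [Subgroup.map_subtype_commutator, hP₀, Subgroup.commutator_le]
      rintro _ ⟨a, rfl⟩ _ ⟨b, rfl⟩
      refine ⟨⁅a, b⁆, ?_, by rw [map_commutatorElement]⟩
      have h2 := hD (b : Ω) (hE.le_S b.2) _ (S.inv_mem (hE.le_S a.2))
      show ((⁅a, b⁆ : T) : Ω) ∈ D
      simpa [commutatorElement_def, mul_assoc] using h2
    obtain ⟨z', hz', hzz⟩ := h1 hzT
    exact M.model.2.1.1 hzz ▸ hz'
  have : (y : Ω) = (t : Ω) * z := by rw [ht]; simp
  rw [this]
  exact D.mul_mem htD.1 hzD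

theorem focal_le {p : ℕ} [Fact p.Prime]
    (W : ∀ (Q : Type u) [Group Q], Subgroup Q)
    (hW1 : ∀ (Q : Type u) [Group Q] [Finite Q], IsPGroup p Q → Nontrivial Q → W Q ≠ ⊥)
    (hW2 : ∀ (Q R : Type u) [Group Q] [Group R] [Finite Q], IsPGroup p Q → ∀ φ : Q ≃* R,
      (W Q).map φ.toMonoidHom = W R)
    (hT : ∀ (G : Type u) [Group G] [Finite G] (P : Sylow p G),
      Subgroup.centralizer ((Cfsg.pCore p G : Subgroup G) : Set G) ≤ Cfsg.pCore p G →
      Cfsg.pCore p G ⊓ commutator G = Cfsg.pCore p G ⊓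
        (commutator ↥(Subgroup.normalizer
          (((W ↥(P : Subgroup G)).map (P : Subgroup G).subtype : Subgroup G) : Set G))).map
          (Subgroup.normalizer
            (((W ↥(P : Subgroup G)).map (P : Subgroup G).subtype : Subgroup G) : Set G)).subtype) :
    ∀ (n : ℕ) {Ω : Type u} [Group Ω] {S : Subgroup Ω} [Finite S], IsPGroup p S → Nat.card S = n →
      ∀ F : Cfsg.FusionSystem S, F.IsSaturated p →
        F.focalSubgroup ≤ focalAt F ((W S).map S.subtype) := by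
  intro n
  induction n using Nat.strong_induction_on with
  | _ n ihn =>
    intro Ω _ S _ hS hn F hF
    set V := (W S).map S.subtype with hVdef
    have hVS : V ≤ S := Subgroup.map_subtype_le _
    have hSV : S ≤ Subgroup.normalizer (V : Set Ω) := by
      intro g hg
      refine mem_normalizer_of_map ?_
      have hmap := hW2 S S hS (conjAut S g (Subgroup.le_normalizer hg))
      rw [hVdef, Subgroup.map_map]
      conv_rhs => rw [← hmap, Subgroup.map_map]
      exact congrArg (fun f => (W S).map f)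
        (MonoidHom.ext fun x => (conjAut_apply (Subgroup.le_normalizer hg) x).symm)
    have hNS : normalizerIn S V = S := normalizerIn_eq_of_le hSV
    have hD : ∀ g ∈ S, ∀ x ∈ S, x⁻¹ * (g * x * g⁻¹) ∈ focalAt F V := fun g hg x hx =>
      Subgroup.subset_closure ⟨S, conjHom S g, ⟨x, hx⟩,
        (normalizerSystem F V hVS).conj_mem hNS.ge (hNS.ge hg), rfl⟩
    have hFG : F.IsSubsystemOf (focalSys F (focalAt F V) hD) :=
      control_top hS hF (isGoodChoice_liftSub hS hW1 hW2)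
        (fun {T} E Z hE hZ hp hlt hCT hcov hrec =>
          hcons_focal hS hF hW1 hW2 hT
            (fun {Ω'} _ {S'} _ hS' hlt' F' hF' => ihn _ (hn ▸ hlt') hS' rfl F' hF')
            _ hD E Z hE hZ hp hlt hCT hcov hrec)
        (by
          intro _ U hU P φ hφ
          rw [eq_of_mem_liftSub_bot hS hW2 hU] at hφ
          exact ⟨hφ.1, fun x => Subgroup.subset_closure ⟨P, φ, x, hφ, rfl⟩⟩)
    refine (Subgroup.closure_le _).2 ?_
    rintro _ ⟨P, φ, x, hφ, rfl⟩
    exact (hFG P hφ).2 x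

/-- Functors controlling transfer in constrained groups control focal subgroups. -/
theorem result {p : ℕ} [Fact p.Prime] (W : ∀ (Q : Type u) [Group Q], Subgroup Q) (hW1 : ∀ (Q : Type u) [Group Q] [Finite Q], IsPGroup p Q → Nontrivial Q → W Q ≠ ⊥) (hW2 : ∀ (Q R : Type u) [Group Q] [Group R] [Finite Q], IsPGroup p Q → ∀ φ : Q ≃* R, (W Q).map φ.toMonoidHom = W R) (hT : ∀ (G : Type u) [Group G] [Finite G] (P : Sylow p G), Subgroup.centralizer ((Cfsg.pCore p G : Subgroup G) : Set G) ≤ Cfsg.pCore p G → Cfsg.pCore p G ⊓ commutator G = Cfsg.pCore p G ⊓ (commutator ↥(Subgroup.normalizer (((W ↥(P : Subgroup G)).map (P : Subgroup G).subtype : Subgroup G) : Set G))).map (Subgroup.normalizer (((W ↥(P : Subgroup G)).map (P : Subgroup G).subtype : Subgroup G) : Set G)).subtype) {Ω : Type u} [Group Ω] {S : Subgroup Ω} [Finite S] (hS : IsPGroup p S) (F : Cfsg.FusionSystem S) (hF : F.IsSaturated p) (N : Cfsg.FusionSystem (Cfsg.FusionSystem.normalizerIn S ((W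 ↥S).map S.subtype))) (hN : F.IsNormalizerSystem ((W ↥S).map S.subtype) N) : N.focalSubgroup = F.focalSubgroup := by
  refine le_antisymm ((Subgroup.closure_le _).2 ?_)
    ((focal_le W hW1 hW2 hT _ hS rfl F hF).trans ((Subgroup.closure_le _).2 ?_))
  · rintro _ ⟨P, φ, x, hφ, rfl⟩
    exact Subgroup.subset_closure ⟨P, φ, x, (hN P ▸ hφ : φ ∈ F.normalizerHom _ P).1, rfl⟩
  · rintro _ ⟨P, φ, x, hφ, rfl⟩
    exact Subgroup.subset_closure ⟨P, φ, x, (hN P).symm ▸ hφ, rfl⟩

end Cfsg.Agent.S5197
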