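import Cfsg.Statements.S5252
import Cfsg.Agent.S5197
import Cfsg.Agent.S1991
import Cfsg.Agent.Lib.KInf.Transfer
import Cfsg.Agent.Lib.Fusion.Model
import Cfsg.Agent.Lib.FusionControl.Systems

set_option autoImplicit false
open Cfsg Cfsg.FusionSystem CfsgLib.Fusion

namespace Cfsg.Agent.S5252

/-- Let p ≥ 5 be a prime and F a saturated fusion system over a nontrivial finite p-group S such that Aut_F(S) is a p-group. Then the focal subgroup of F is a proper subgroup of S. -/
theorem result {Ω : Type*} [Group Ω] {S : Subgroup Ω} [Finite S] (p : ℕ) [Fact p.Prime] (hS : IsPGroup p S) (F : Cfsg.FusionSystem S) (hF : F.IsSaturated p) (hp : 5 ≤ p) (hS1 : S ≠ ⊥) (haut : IsPGroup p ↥(F.autGroup S)) : F.focalSubgroup < S := by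
  classical
  set K : Subgroup Ω := (Cfsg.kInfLower ↥S).map S.subtype with hK
  have hKS : K ≤ S := Subgroup.map_subtype_le _
  -- `K` is normal in `S`
  have hSK : S ≤ Subgroup.normalizer (K : Set Ω) := by
    intro g hg
    have e : ∀ a, a ∈ Cfsg.kInfLower ↥S → (MulAut.conj (⟨g, hg⟩ : ↥S)) a ∈ Cfsg.kInfLower ↥S := by
      intro a ha
      rw [← CfsgLib.KInf.kInfLower_map_equiv (MulAut.conj (⟨g, hg⟩ : ↥S))]
      exact Subgroup.mem_map_of_mem _ ha
    have e' : ∀ a, a ∈ Cfsg.kInfLower ↥S →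
        (MulAut.conj (⟨g, hg⟩ : ↥S)).symm a ∈ Cfsg.kInfLower ↥S := by
      intro a ha
      rw [← CfsgLib.KInf.kInfLower_map_equiv (MulAut.conj (⟨g, hg⟩ : ↥S)).symm]
      exact Subgroup.mem_map_of_mem _ ha
    rw [Subgroup.mem_normalizer_iff]
    intro x
    constructor
    · rintro ⟨a, ha, rfl⟩
      exact ⟨_, e a ha, by simp⟩
    · rintro ⟨a, ha, hax⟩
      refine ⟨_, e' a ha, ?_⟩
      simp only [MulAut.conj_symm_apply, Subgroup.coe_subtype, Subgroup.coe_mul,
        InvMemClass.coe_inv]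
      rw [show ((a : ↥S) : Ω) = g * x * g⁻¹ from hax]
      group
  -- `K` is centric
  have hCK : centralizerIn S K ≤ K := by
    rintro x ⟨hxS, hxc⟩
    refine ⟨⟨x, hxS⟩, CfsgLib.KInf.centralizer_kInfLower_le hS ?_, rfl⟩
    rw [Subgroup.mem_centralizer_iff]
    intro y hy
    exact Subtype.ext (Subgroup.mem_centralizer_iff.1 hxc y ⟨y, hy, rfl⟩)
  have hfn : F.IsFullyNormalized K :=
    CfsgLib.FusionControl.isFullyNormalized_of_le_normalizer hKS hSK
  have hKc : F.IsCentric K := isCentric_of_isFullyCentralized hS hF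
    (isFullyCentralized_of_isFullyNormalized hS hF hfn) hCK
  -- control of transfer
  have hT : normalizerIn S K = S := le_antisymm (normalizerIn_le S K) (le_inf le_rfl hSK)
  have hfoc := Cfsg.Agent.S5197.result Cfsg.kInfLower
    (CfsgLib.KInf.isCharPFunctor_kInfLower p).1 (CfsgLib.KInf.isCharPFunctor_kInfLower p).2
    (fun G _ _ P _ => by
      have h := (CfsgLib.KInf.kInfLower_transfer hp G CfsgLib.ConjFunctor.isSec_self P).2
      have hP : Cfsg.pCore p G ≤ (P : Subgroup G) := CfsgLib.Solvable.pCore_le_sylow P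
      rw [Subgroup.map_subtype_commutator]
      have hh := congrArg (fun X => Cfsg.pCore p G ⊓ X) h
      simp only [← inf_assoc, inf_eq_left.2 hP] at hh
      exact hh)
    hS F hF (normalizerSystem F K hKS) (isNormalizerSystem_normalizerSystem F K hKS)
  obtain ⟨L, hLG, ι, τ, hmodel, -, -, -, -⟩ := CfsgLib.FusionModel.exists_model hS hF hKc hfn hKS
    (normalizerSystem F K hKS) (isNormalizerSystem_normalizerSystem F K hKS)
  have := hmodel.1
  obtain ⟨P, hP⟩ := hmodel.2.2.1
  have hιinj := hmodel.2.1.1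
  have : Finite ↥(normalizerIn S K) := finite_of_le (normalizerIn_le S K)
  have hautT : IsPGroup p (F.autGroup (normalizerIn S K)) := by
    have key : ∀ T : Subgroup Ω, T = S → IsPGroup p (F.autGroup T) := by
      intro T hTe; subst hTe; exact haut
    exact key _ hT
  have hPne : (P : Subgroup L) ≠ ⊥ := by
    intro h
    apply hS1
    rw [← hT, Subgroup.eq_bot_iff_forall]
    intro x hx
    have : ι ⟨x, hx⟩ ∈ (P : Subgroup L) := hP ▸ ⟨_, rfl⟩
    rw [h, Subgroup.mem_bot, map_eq_one_iff ι hιinj] at this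
    exact congrArg Subtype.val this
  -- elements of order prime to `p` normalizing the Sylow subgroup centralize it
  have hN : ∀ g ∈ Subgroup.normalizer ((P : Subgroup L) : Set L), (orderOf g).Coprime p →
      g ∈ Subgroup.centralizer ((P : Subgroup L) : Set L) := by
    intro g hg hgp
    set e := (MonoidHom.ofInjective hιinj).trans (MulEquiv.subgroupCongr hP.symm) with he
    have heval : ∀ x, ((e x : (P : Subgroup L)) : L) = ι x := fun x => rfl
    set ρ : ↥(Subgroup.normalizer ((P : Subgroup L) : Set L)) →* MulAut ↥(normalizerIn S K) :=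
      (MulAut.congr e.symm).toMonoidHom.comp (P : Subgroup L).normalizerMonoidHom with hρ
    have hρval : ∀ x, ι (ρ ⟨g, hg⟩ x) = g * ι x * g⁻¹ := by
      intro x
      rw [← heval, hρ]
      simp only [MonoidHom.comp_apply, MulEquiv.coe_toMonoidHom]
      show ((e (e.symm ((P : Subgroup L).normalizerMonoidHom ⟨g, hg⟩ (e x)))) : L) = _
      rw [MulEquiv.apply_symm_apply]
      rfl
    have hmem : ρ ⟨g, hg⟩ ∈ F.autGroup (normalizerIn S K) := by
      rw [mem_autGroup_iff_hom (normalizerIn_le S K)]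
      have h2 := ((hmodel.2.1.2 _ le_rfl
        ((normalizerIn S K).subtype.comp (ρ ⟨g, hg⟩).toMonoidHom) (fun x => SetLike.coe_mem _)).2
          ⟨g, fun x => hρval x⟩)
      exact h2.1
    obtain ⟨k, hk⟩ := hautT ⟨_, hmem⟩
    have hd : orderOf (ρ ⟨g, hg⟩) ∣ orderOf g := by
      rw [← Subgroup.orderOf_mk g hg]
      exact orderOf_map_dvd ρ _
    have hd2 : orderOf (ρ ⟨g, hg⟩) ∣ p ^ k :=
      orderOf_dvd_of_pow_eq_one (by simpa using congrArg Subtype.val hk)
    have hone : ρ ⟨g, hg⟩ = 1 := by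
      rw [← orderOf_eq_one_iff]
      exact Nat.eq_one_of_dvd_coprimes (hgp.pow_right k) hd hd2
    rw [Subgroup.mem_centralizer_iff]
    intro y hy
    obtain ⟨x, hx⟩ := (hP ▸ hy : y ∈ ι.range)
    subst hx
    have h3 := hρval x
    rw [hone, MulAut.one_apply] at h3
    exact eq_mul_inv_iff_mul_eq.1 h3
  obtain ⟨N, hNn, hNi⟩ := Cfsg.Agent.S1991.result hp P hPne hN
  -- the focal subgroup lies in `ι⁻¹(N)`
  have hab : ∀ a b : L, a⁻¹ * (b * a * b⁻¹) ∈ N := by
    intro a b
    have hc : commutator L ≤ N := by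
      have : IsCyclic (L ⧸ N) := isCyclic_of_prime_card (p := p) hNi
      exact Subgroup.Normal.quotient_commutative_iff_commutator_le.1 inferInstance
    have h := hc (Subgroup.commutator_mem_commutator (Subgroup.mem_top a⁻¹) (Subgroup.mem_top b))
    simpa [commutatorElement_def, mul_assoc] using h
  have hle : F.focalSubgroup ≤ (N.comap ι).map (normalizerIn S K).subtype := by
    rw [← hfoc]
    refine (Subgroup.closure_le _).2 ?_
    rintro _ ⟨R, φ, x, hφ, rfl⟩
    have hR := dom_le hφ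
    obtain ⟨g, hg⟩ := (hmodel.2.1.2 R hR φ (fun y => map_mem hφ y)).1 hφ
    refine ⟨⟨x, hR x.2⟩⁻¹ * ⟨φ x, map_mem hφ x⟩, ?_, rfl⟩
    show ι _ ∈ N
    rw [map_mul, map_inv, hg x]
    exact hab _ g
  refine lt_of_le_of_ne ?_ ?_
  · intro x hx
    obtain ⟨y, -, rfl⟩ := hle hx
    exact normalizerIn_le S K y.2
  · intro h
    have htop : (P : Subgroup L) ≤ N := by
      rw [hP]
      rintro _ ⟨t, rfl⟩
      obtain ⟨y, hy, hyt⟩ := hle (h.ge (hT.le t.2))
      obtain rfl : y = t := Subtype.ext hyt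
      exact hy
    have hd := Subgroup.index_dvd_of_le htop
    rw [hNi] at hd
    exact P.not_dvd_index hd

end Cfsg.Agent.S5252
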