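import Cfsg.Statements.S4689
import Cfsg.Agent.Lib.BlockStar.Nilpotent

set_option autoImplicit false
open Cfsg CfsgLib.Blocks CfsgLib.Blocks.Pairs CfsgLib.BlockReg CfsgLib.BlockStar

namespace Cfsg.Agent.S4689

/-- Fix a prime p and a maximal ideal M of the algebraic integers containing p, and a nilpotent p-block B of the finite group G. Then B has p-regular rank one (a single irreducible Brauer character), and some χ₀ ∈ B restricts to that Brauer character: every χ ∈ B agrees on the p-regular elements with a natural-number multiple of χ₀. -/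
theorem result {G : Type*} [Group G] [Fintype G] (p : ℕ) [Fact p.Prime] (M : Ideal Cfsg.AlgInt) (hM : Cfsg.IsPModular p M) (B : Set (Cfsg.IrrCharacter G)) (hnil : Cfsg.IsNilpotentBlock p M B) : Cfsg.blockRank p B = 1 ∧ ∃ χ₀ ∈ B, ∀ χ ∈ B, ∃ d : ℕ, ∀ x : G, Cfsg.pRegularPart p (χ : G → ℂ) x = (d : ℂ) * Cfsg.pRegularPart p (χ₀ : G → ℂ) x := by
  haveI := hM.2.1
  haveI := charP_resField (M := M) hM.1 hM.2.2
  have hB : IsPBlock M B := hnil.1
  obtain ⟨P, hmax⟩ := exists_maxR (p := p) (isBlockIdem_ebar hB)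
  obtain ⟨e, he⟩ := exists_pairOf (isBlockIdem_ebar hB) hmax.pgroup hmax.ne_zero
  have hno := hmax.noExt he
  have hfus := innerFusion_of_nilPairs hM hB he hno
    ((CfsgLib.Blk83.isNilpotentBlock_iff hM hB).1 hnil)
  obtain ⟨χ₀, hχ₀, hmin⟩ := exists_minExp (p := p) (block_nonempty hM hB)
  obtain ⟨Φ, -, hΦ⟩ := exists_equiv_of_innerFusion hM hB he hno hfus hχ₀ hmin
  have hall : ∀ χ ∈ B, ∃ d : ℕ, ∀ x : G, pRegularPart p (χ : G → ℂ) x =
      (d : ℂ) * pRegularPart p (χ₀ : G → ℂ) x := by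
    intro χ hχ
    refine ⟨charDegree ((Φ.symm ⟨χ, hχ⟩ : IrrCharacter P) : P → ℂ), fun x => ?_⟩
    by_cases hx : IsPRegular p x
    · have h2 := hΦ (Φ.symm ⟨χ, hχ⟩) x hx
      rw [Equiv.apply_symm_apply] at h2
      simp only [pRegularPart, if_pos hx]
      rw [deg_cast]
      exact h2
    · simp only [pRegularPart, if_neg hx, mul_zero]
  refine ⟨?_, χ₀, hχ₀, hall⟩
  have h1 : IsPRegular p (1 : G) := by
    unfold IsPRegular
    rw [orderOf_one, Nat.dvd_one]
    exact (Fact.out : p.Prime).ne_one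
  have hne : pRegularPart p (χ₀ : G → ℂ) ≠ 0 := fun h => by
    have h2 := congrFun h 1
    simp only [pRegularPart, if_pos h1, Pi.zero_apply] at h2
    exact CfsgLib.Char.IsIrrCharacter.apply_one_ne_zero χ₀.2 h2
  rw [blockRank, ← finrank_span_singleton (K := ℂ) hne]
  have hspan : Submodule.span ℂ ((fun χ : IrrCharacter G => pRegularPart p (χ : G → ℂ)) '' B) =
      Submodule.span ℂ {pRegularPart p (χ₀ : G → ℂ)} := by
    refine le_antisymm (Submodule.span_le.2 ?_) (Submodule.span_mono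
      (Set.singleton_subset_iff.2 ⟨χ₀, hχ₀, rfl⟩))
    rintro _ ⟨χ, hχ, rfl⟩
    obtain ⟨d, hd⟩ := hall χ hχ
    exact Submodule.mem_span_singleton.2 ⟨d, funext fun x => (hd x).symm⟩
  rw [hspan]

end Cfsg.Agent.S4689
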