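import Cfsg.Statements.S3021
import Mathlib.GroupTheory.Nilpotent

set_option autoImplicit false
open Cfsg

namespace Cfsg.Agent.S3021

/-- Let G be a finite group, p a prime and H a p-subgroup of G that is extremely closed (for every g, the subgroup generated by H and g H g⁻¹ meets N_G(H) exactly in H). Then every p-subgroup Q of G containing H has N_G(Q) ≤ N_G(H); in particular every Sylow p-subgroup P of G containing H normalizes H, and H is strongly closed in P with respect to G. -/
theorem result {G : Type*} [Group G] [Finite G] {p : ℕ} [Fact p.Prime] (H : Subgroup G) (hHp : IsPGroup p H) (hcl : Cfsg.IsExtremelyClosed H) : (∀ Q : Subgroup G, IsPGroup p Q → H ≤ Q → Subgroup.normalizer (Q : Set G) ≤ Subgroup.normalizer (H : Set G)) ∧ ∀ P : Sylow p G, H ≤ (P : Subgroup G) → (P : Subgroup G) ≤ Subgroup.normalizer (H : Set G) ∧ Cfsg.IsStronglyClosed H (P : Subgroup G) := by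
  have key : ∀ Q : Subgroup G, IsPGroup p Q → H ≤ Q → Q ≤ Subgroup.normalizer (H : Set G) := by
    intro Q hQ hHQ
    by_contra hne
    have : Group.IsNilpotent Q := hQ.isNilpotent
    set D := (Subgroup.normalizer (H : Set G)).subgroupOf Q with hD
    have hlt : D < ⊤ := by rwa [lt_top_iff_ne_top, Ne, hD, Subgroup.subgroupOf_eq_top]
    obtain ⟨u, hu, huD⟩ := SetLike.exists_of_lt (normalizerCondition_of_isNilpotent D hlt)
    apply huD
    rw [hD, Subgroup.mem_subgroupOf]
    have hle : H.map (MulAut.conj (u : G)).toMonoidHom ≤ H := by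
      have h1 : H.map (MulAut.conj (u : G)).toMonoidHom ≤ Subgroup.normalizer (H : Set G) := by
        rintro _ ⟨h, hh, rfl⟩
        have h2 : (⟨h, hHQ hh⟩ : Q) ∈ D := Subgroup.mem_subgroupOf.mpr (Subgroup.le_normalizer hh)
        have h3 := (Subgroup.mem_normalizer_iff.mp hu _).mp h2
        rw [hD, Subgroup.mem_subgroupOf] at h3
        simpa using h3
      exact (le_inf le_sup_right h1).trans (hcl (u : G)).le
    have heq := Subgroup.eq_of_le_of_card_ge hle
      (Subgroup.card_map_of_injective (MulEquiv.injective _)).ge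
    rw [Subgroup.mem_normalizer_iff]
    intro y
    refine ⟨fun hy => hle (Subgroup.mem_map_of_mem _ hy), fun hy => ?_⟩
    rw [← heq] at hy
    obtain ⟨z, hz, hzy⟩ := hy
    simp at hzy
    rwa [← hzy]
  refine ⟨fun Q hQ hHQ n hn => ?_, fun P hP => ⟨key P P.isPGroup' hP, hP, fun y hy g hz => ?_⟩⟩
  · have h1 : H.map (MulAut.conj n).toMonoidHom ≤ Subgroup.normalizer (H : Set G) := by
      rintro _ ⟨h, hh, rfl⟩
      exact key Q hQ hHQ ((Subgroup.mem_normalizer_iff.mp hn h).mp (hHQ hh))
    have hle : H.map (MulAut.conj n).toMonoidHom ≤ H := (le_inf le_sup_right h1).trans (hcl n).le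
    have heq := Subgroup.eq_of_le_of_card_ge hle
      (Subgroup.card_map_of_injective (MulEquiv.injective _)).ge
    rw [Subgroup.mem_normalizer_iff]
    intro y
    refine ⟨fun hy => hle (Subgroup.mem_map_of_mem _ hy), fun hy => ?_⟩
    rw [← heq] at hy
    obtain ⟨z, hz, hzy⟩ := hy
    simp at hzy
    rwa [← hzy]
  · exact (hcl g).le ⟨(le_sup_right : _ ≤ H ⊔ H.map (MulAut.conj g).toMonoidHom)
      (Subgroup.mem_map_of_mem _ hy), key P P.isPGroup' hP hz⟩

end Cfsg.Agent.S3021
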