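import Cfsg.Statements.S3975
import Mathlib
import Cfsg.Agent.Lib.Counting.Frobenius

set_option autoImplicit false
open Cfsg

open Pointwise

namespace Cfsg.Agent.S3975

open Pointwise

/-- `card G.choose (p^β)` is `n * N` modulo `p * n` where `N` counts the subgroups of order `p^β`. -/
theorem choose_modEq {G : Type*} [Group G] [Finite G] (p β : ℕ) (hp : p.Prime)
    (hdiv : p ^ β ∣ Nat.card G) :
    (Nat.card G).choose (p ^ β) ≡
      Nat.card G / p ^ β * Nat.card {H : Subgroup G // Nat.card H = p ^ β}
        [MOD p * (Nat.card G / p ^ β)] := by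
  classical
  have := Fintype.ofFinite G
  set q := p ^ β with hq
  set n := Nat.card G / q with hn
  have hnq : n * q = Nat.card G := Nat.div_mul_cancel hdiv
  let Ω := {S : Finset G // S.card = q}
  letI act : MulAction G Ω :=
    { smul := fun g S => ⟨g • S.1, by rw [Finset.card_smul_finset]; exact S.2⟩
      one_smul := fun S => Subtype.ext (one_smul G S.1)
      mul_smul := fun g h S => Subtype.ext (mul_smul g h S.1) }
  have hval : ∀ (g : G) (S : Ω), (g • S).1 = g • S.1 := fun g S => rfl
  have hΩ : Nat.card Ω = (Nat.card G).choose q := by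
    rw [Nat.card_eq_fintype_card, Nat.card_eq_fintype_card]
    exact Fintype.card_finset_len q
  have hq0 : 0 < q := pow_pos hp.pos β
  have hne : ∀ S : Ω, S.1.Nonempty := fun S => Finset.card_pos.mp (by rw [S.2]; exact hq0)
  -- the stabiliser order divides `q`
  have hstab : ∀ (S : Ω) (g : G), g ∈ MulAction.stabilizer G S ↔ g • S.1 = S.1 :=
    fun S g => ⟨fun h => congrArg Subtype.val h, fun h => Subtype.ext h⟩
  have hcoset : ∀ (S : Ω) (K : Subgroup G), K = MulAction.stabilizer G S →
      Nat.card K ∣ q := by
    intro S K hK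
    have h : (MulAction.stabilizer G (S.1 : Finset G)) = K := by
      rw [hK]; ext g; rw [MulAction.mem_stabilizer_iff, hstab]
    let T : Set G := (S.1 : Set G)
    have hT : ∀ k ∈ K, ∀ x ∈ T, k * x ∈ T := by
      intro k hk x hx
      have h1 : k • S.1 = S.1 := (hstab S k).mp (hK ▸ hk)
      show k * x ∈ S.1
      rw [← h1]
      exact Finset.smul_mem_smul_finset hx
    letI a2 : MulAction K T :=
      { smul := fun k x => ⟨(k : G) * x.1, hT k k.2 x.1 x.2⟩
        one_smul := fun x => Subtype.ext (one_mul (x : G))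
        mul_smul := fun k l x => Subtype.ext (mul_assoc (k : G) l x.1) }
    have hfree : ∀ x : T, MulAction.stabilizer K x = ⊥ := by
      intro x
      rw [eq_bot_iff]
      intro k hk
      have h1 : (k : G) * x.1 = x.1 := congrArg Subtype.val hk
      rw [Subgroup.mem_bot]
      exact Subtype.ext (mul_eq_right.mp h1)
    have h2 := Nat.card_congr (MulAction.selfEquivSigmaOrbitsQuotientStabilizer K T)
    rw [Nat.card_sigma] at h2
    have hTq : Nat.card T = q := by
      show Nat.card (↥(S.1 : Set G)) = q
      rw [Nat.card_coe_set_eq, Set.ncard_coe_finset]; exact S.2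
    rw [hTq] at h2
    rw [h2]
    refine Finset.dvd_sum fun o _ => dvd_of_eq ?_
    rw [hfree]
    exact (Subgroup.index_bot (G := K)).symm
  have hidx : ∀ S : Ω, (Nat.card (MulAction.stabilizer G S) ≠ q →
      p * n ∣ (MulAction.stabilizer G S).index) ∧
      (Nat.card (MulAction.stabilizer G S) = q → (MulAction.stabilizer G S).index = n) := by
    intro S
    have h1 := Subgroup.card_mul_index (MulAction.stabilizer G S)
    obtain ⟨i, hi, hiq⟩ := (Nat.dvd_prime_pow hp).mp (hcoset S _ rfl)
    refine ⟨fun hneq => ?_, fun heq => ?_⟩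
    · have hlt : i < β := lt_of_le_of_ne hi (fun h => hneq (by rw [hiq, h, hq]))
      obtain ⟨d, hd⟩ : ∃ d, β = i + 1 + d := ⟨β - (i + 1), by omega⟩
      rw [hiq, ← hnq] at h1
      refine Dvd.intro (p ^ d) (mul_left_cancel₀ (pow_pos hp.pos i).ne' ?_)
      rw [h1, hq, hd, pow_add, pow_succ]; ring
    · rw [heq, ← hnq, mul_comm n q] at h1
      exact mul_left_cancel₀ hq0.ne' h1
  -- the good orbits correspond to the subgroups of order `q`
  let O := MulAction.orbitRel.Quotient G Ω
  let toΩ : {H : Subgroup G // Nat.card H = q} → Ω := fun H =>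
    ⟨(H.1 : Set G).toFinset, by
      rw [Set.toFinset_card, ← Nat.card_eq_fintype_card]; exact H.2⟩
  have htoΩ : ∀ H g x, x ∈ (g • toΩ H).1 ↔ g⁻¹ * x ∈ H.1 := by
    intro H g x
    rw [hval, ← Finset.inv_smul_mem_iff, smul_eq_mul, Set.mem_toFinset]
    exact Iff.rfl
  let good := {o : O // Nat.card (MulAction.stabilizer G o.out) = q}
  have hst : ∀ (g : G) (S : Ω), Nat.card (MulAction.stabilizer G (g • S)) =
      Nat.card (MulAction.stabilizer G S) := fun g S =>
    Nat.card_congr (MulAction.stabilizerEquivStabilizer (rfl : g • S = g • S)).toEquiv.symm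
  have hstH : ∀ H, Nat.card (MulAction.stabilizer G (toΩ H)) = q := by
    intro H
    refine (congrArg (fun K : Subgroup G => Nat.card K) ?_).trans H.2
    ext g
    rw [MulAction.mem_stabilizer_iff]
    constructor
    · intro h
      have h1 := htoΩ H g 1
      rw [h, mul_one] at h1
      have := h1.mp (by show (1 : G) ∈ (toΩ H).1; rw [Set.mem_toFinset]; exact one_mem H.1)
      simpa using inv_mem this
    · intro hg
      apply Subtype.ext
      ext x
      rw [htoΩ, Set.mem_toFinset, SetLike.mem_coe]
      exact Subgroup.mul_mem_cancel_left _ (inv_mem hg)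
  have hsame : ∀ H, Nat.card (MulAction.stabilizer G
      (Quotient.out (Quotient.mk'' (toΩ H) : O))) = q := by
    intro H
    obtain ⟨g, hg⟩ : (Quotient.mk'' (toΩ H) : O).out ∈ MulAction.orbit G (toΩ H) :=
      Quotient.mk_out' (toΩ H) |> MulAction.orbitRel_apply.mp
    rw [← hg, hst, hstH]
  let f : {H : Subgroup G // Nat.card H = q} → good := fun H => ⟨Quotient.mk'' (toΩ H), hsame H⟩
  have hf : Function.Bijective f := by
    constructor
    · intro H K hHK
      obtain ⟨g, hg⟩ : toΩ H ∈ MulAction.orbit G (toΩ K) :=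
        MulAction.orbitRel_apply.mp (Quotient.exact' (congrArg Subtype.val hHK))
      have hmem : ∀ x, x ∈ H.1 ↔ g⁻¹ * x ∈ K.1 := by
        intro x
        rw [← htoΩ, show (g • toΩ K) = toΩ H from hg, Set.mem_toFinset, SetLike.mem_coe]
      have hg1 : g⁻¹ ∈ K.1 := by simpa using (hmem 1).mp (one_mem _)
      refine Subtype.ext (Subgroup.ext fun x => ?_)
      rw [hmem, Subgroup.mul_mem_cancel_left _ hg1]
    · rintro ⟨o, ho⟩
      set S := o.out with hS
      set K := MulAction.stabilizer G S
      obtain ⟨s, hs⟩ := hne S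
      -- `S = K s`, hence `s⁻¹ • S` is the subgroup `s⁻¹ K s`
      let H : Subgroup G := K.comap (MulAut.conj s).toMonoidHom
      have hH : Nat.card H = q := by
        refine (Nat.card_congr ?_).trans ho
        exact
          { toFun := fun x => ⟨s * x.1 * s⁻¹, x.2⟩
            invFun := fun x => ⟨s⁻¹ * x.1 * s, by
              show s * (s⁻¹ * x.1 * s) * s⁻¹ ∈ K
              rw [show s * (s⁻¹ * x.1 * s) * s⁻¹ = x.1 by group]; exact x.2⟩
            left_inv := fun x => Subtype.ext (by simp only; group)
            right_inv := fun x => Subtype.ext (by simp only; group) }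
      refine ⟨⟨H, hH⟩, Subtype.ext ?_⟩
      show (Quotient.mk'' (toΩ ⟨H, hH⟩) : O) = o
      rw [← Quotient.out_eq' o, Quotient.eq'', MulAction.orbitRel_apply]
      refine ⟨s⁻¹, Subtype.ext (Eq.symm ?_)⟩
      apply Finset.eq_of_subset_of_card_le
      · intro x hx
        rw [Set.mem_toFinset] at hx
        rw [hval, ← Finset.inv_smul_mem_iff, inv_inv, smul_eq_mul]
        have hk : s * x * s⁻¹ ∈ K := hx
        have h1 : (s * x * s⁻¹) • S.1 = S.1 := congrArg Subtype.val hk
        show s * x ∈ S.1
        have h2 := Finset.smul_mem_smul_finset (a := s * x * s⁻¹) hs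
        rw [h1, smul_eq_mul, show s * x * s⁻¹ * s = s * x by group] at h2
        exact h2
      · rw [(s⁻¹ • S).2, (toΩ ⟨H, hH⟩).2]
  have hN : Nat.card {H : Subgroup G // Nat.card H = q} = Nat.card good := Nat.card_eq_of_bijective f hf
  have hdec := Nat.card_congr (MulAction.selfEquivSigmaOrbitsQuotientStabilizer G Ω)
  rw [hΩ, Nat.card_sigma] at hdec
  rw [hdec, hN]
  have hsplit := Finset.sum_filter_add_sum_filter_not (Finset.univ : Finset O)
    (fun o => Nat.card (MulAction.stabilizer G o.out) = q)
    (fun o => (MulAction.stabilizer G o.out).index)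
  show (∑ o : O, (MulAction.stabilizer G o.out).index) ≡ _ [MOD _]
  rw [← hsplit, Finset.sum_congr rfl (g := fun _ => n) (fun o ho => (hidx o.out).2
    (Finset.mem_filter.mp ho).2), Finset.sum_const, smul_eq_mul]
  have hbad : p * n ∣ ∑ o ∈ (Finset.univ : Finset O).filter
      (fun o => ¬ Nat.card (MulAction.stabilizer G o.out) = q),
      (MulAction.stabilizer G o.out).index :=
    Finset.dvd_sum fun o ho => (hidx o.out).1 (Finset.mem_filter.mp ho).2
  have hgood : Nat.card good = ((Finset.univ : Finset O).filter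
      (fun o => Nat.card (MulAction.stabilizer G o.out) = q)).card := by
    rw [Nat.card_eq_fintype_card]; exact Fintype.card_subtype _
  rw [hgood, mul_comm n]
  exact ((Nat.modEq_zero_iff_dvd.mpr hbad).add_left _).trans (by rw [add_zero])


/-- Let `p` be a prime and `G` a finite group whose order is divisible by `p ^ β`. Then the number of subgroups of `G` of order `p ^ β` is congruent to `1` modulo `p`. (When `p ^ β` is the full power of `p` dividing the order, these are the Sylow `p`-subgroups and this is the usual Sylow count.) -/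
theorem result {G : Type*} [Group G] [Finite G] (p β : ℕ) (hp : p.Prime) (hdiv : p ^ β ∣ Nat.card G) : Nat.card {H : Subgroup G // Nat.card H = p ^ β} ≡ 1 [MOD p] := by
  set M := Nat.card G with hM
  have : NeZero M := ⟨Nat.card_pos.ne'⟩
  have hC : Nat.card (Multiplicative (ZMod M)) = M := by simp
  have h1 := choose_modEq (G := G) p β hp hdiv
  have h2 := choose_modEq (G := Multiplicative (ZMod M)) p β hp (by rw [hC]; exact hdiv)
  rw [hC] at h2
  have hone : Nat.card {H : Subgroup (Multiplicative (ZMod M)) // Nat.card H = p ^ β} = 1 := by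
    rw [Nat.card_eq_one_iff_unique]
    refine ⟨⟨fun H K => Subtype.ext ?_⟩, ?_⟩
    · have hle : Nat.card {g : Multiplicative (ZMod M) // g ^ (p ^ β) = 1} ≤ p ^ β := by
        classical
        rw [Nat.card_eq_fintype_card, Fintype.card_subtype]
        exact IsCyclic.card_pow_eq_one_le (pow_pos hp.pos β)
      ext x
      rw [(CfsgLib.Counting.eq_solutions_of_card H.1 _ H.2 hle).1,
        (CfsgLib.Counting.eq_solutions_of_card K.1 _ K.2 hle).1]
    · have := Fact.mk hp
      obtain ⟨H, hH⟩ := Sylow.exists_subgroup_card_pow_prime p (G := Multiplicative (ZMod M))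
        (n := β) (by rw [hC]; exact hdiv)
      exact ⟨⟨H, hH⟩⟩
  rw [hone, mul_one] at h2
  have h3 := h1.symm.trans h2
  rw [mul_comm p, ← mul_one (M / p ^ β), mul_assoc, one_mul] at h3
  exact Nat.ModEq.mul_left_cancel' (Nat.div_pos (Nat.le_of_dvd Nat.card_pos hdiv)
    (pow_pos hp.pos β)).ne' (by simpa using h3)

end Cfsg.Agent.S3975
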