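import Cfsg.Statements.S2759
import Cfsg.Agent.Lib.LocalEven.Involves
import Cfsg.Agent.Lib.Transfer.PGroup
import Cfsg.Agent.Lib.PGroup.Basic
import Cfsg.Agent.Lib.Solvable.CoprimeAction

set_option autoImplicit false
open Cfsg CfsgLib.LocalEven Subgroup

namespace Cfsg.Agent.S2759

/-- the three involutions of the normal four group of `S₄` -/
def v4 : Fin 3 → Equiv.Perm (Fin 4) :=
  ![Equiv.swap 0 1 * Equiv.swap 2 3, Equiv.swap 0 2 * Equiv.swap 1 3, Equiv.swap 0 3 * Equiv.swap 1 2]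

theorem v4_mul : ∀ i j, v4 i * v4 j = 1 ∨ ∃ k, v4 i * v4 j = v4 k := by decide +kernel

theorem v4_inv : ∀ i, (v4 i)⁻¹ = v4 i := by decide +kernel

theorem v4_sq : ∀ i, v4 i ^ 2 = 1 := by decide +kernel

/-- the normal four group of `S₄` -/
def fourGroup : Subgroup (Equiv.Perm (Fin 4)) where
  carrier := {s | s = 1 ∨ ∃ i, s = v4 i}
  one_mem' := Or.inl rfl
  mul_mem' := by
    rintro a b (rfl | ⟨i, rfl⟩) (rfl | ⟨j, rfl⟩)
    · exact Or.inl (one_mul 1)
    · exact Or.inr ⟨j, one_mul _⟩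
    · exact Or.inr ⟨i, mul_one _⟩
    · exact v4_mul i j
  inv_mem' := by
    rintro a (rfl | ⟨i, rfl⟩)
    · exact Or.inl inv_one
    · exact Or.inr ⟨i, v4_inv i⟩

def conjIndex (s : Equiv.Perm (Fin 4)) (i : Fin 3) : Fin 3 :=
  if s * v4 i * s⁻¹ = v4 0 then 0 else if s * v4 i * s⁻¹ = v4 1 then 1 else 2

theorem conjIndex_inv : ∀ (s : Equiv.Perm (Fin 4)) (i : Fin 3),
    conjIndex s⁻¹ (conjIndex s i) = i := by decide +kernel

/-- the homomorphism `S₄ → S₃` -/
def toPermThree : Equiv.Perm (Fin 4) →* Equiv.Perm (Fin 3) :=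
  MonoidHom.mk' (fun s => ⟨conjIndex s, conjIndex s⁻¹, conjIndex_inv s,
    fun i => by simpa using conjIndex_inv s⁻¹ i⟩) (by
    intro a b
    ext i
    revert a b i
    decide +kernel)

theorem toPermThree_surjective : Function.Surjective toPermThree := by
  intro t; revert t; decide +kernel

theorem toPermThree_ker : ∀ s : Equiv.Perm (Fin 4),
    toPermThree s = 1 ↔ (∀ i, s * v4 i = v4 i * s) := by decide +kernel

theorem toPermThree_ker_mem : ∀ s : Equiv.Perm (Fin 4),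
    toPermThree s = 1 ↔ (s = 1 ∨ ∃ i, s = v4 i) := by decide +kernel

variable {G : Type*} [Group G] [Finite G]

theorem forward (h : Involves (Equiv.Perm (Fin 4)) G) :
    ∃ T : Subgroup G, IsPGroup 2 ↥T ∧ Involves (Equiv.Perm (Fin 3))
      (↥(normalizer (T : Set G)) ⧸ (centralizer (T : Set G)).subgroupOf (normalizer (T : Set G))) := by
  obtain ⟨K, f, hf⟩ := exists_surjective_of_involves h
  have : Fact (Nat.Prime 2) := ⟨Nat.prime_two⟩
  set g := toPermThree.comp f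
  obtain ⟨P⟩ : Nonempty (Sylow 2 g.ker) := inferInstance
  set T' := (P : Subgroup g.ker).map g.ker.subtype
  have hsup : normalizer (T' : Set K) ⊔ g.ker = ⊤ := P.normalizer_sup_eq_top
  have hfT : ∀ i, v4 i ∈ T'.map f := by
    let fL : g.ker →* fourGroup := (f.comp g.ker.subtype).codRestrict fourGroup fun z =>
      (toPermThree_ker_mem _).1 z.2
    have hfL : Function.Surjective fL := fun ⟨d, hd⟩ => by
      obtain ⟨k, hk⟩ := hf d
      refine ⟨⟨k, ?_⟩, Subtype.ext hk⟩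
      show toPermThree (f k) = 1
      rw [hk, toPermThree_ker_mem]
      exact hd
    have hV : IsPGroup 2 fourGroup := by
      intro ⟨a, ha⟩
      refine ⟨1, Subtype.ext ?_⟩
      show a ^ 2 ^ 1 = 1
      rcases ha with rfl | ⟨i, rfl⟩
      · exact one_pow _
      · rw [pow_one]; exact v4_sq i
    have htop : ((P.mapSurjective hfL : Sylow 2 fourGroup) : Subgroup fourGroup) = ⊤ :=
      ((P.mapSurjective hfL).3 (Q := ⊤) (hV.to_subgroup ⊤) le_top).symm
    rw [Sylow.coe_mapSurjective] at htop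
    intro i
    obtain ⟨z, hz, hzi⟩ := htop.ge (mem_top (⟨v4 i, Or.inr ⟨i, rfl⟩⟩ : fourGroup))
    exact ⟨z, ⟨z, hz, rfl⟩, congrArg Subtype.val hzi⟩
  set T := T'.map K.subtype
  refine ⟨T, (P.isPGroup'.map _).map _, ?_⟩
  set N := normalizer (T : Set G)
  set q := QuotientGroup.mk' ((centralizer (T : Set G)).subgroupOf N)
  have hNle : (normalizer (T' : Set K)).map K.subtype ≤ N := le_normalizer_map _
  let ι : ↥(normalizer (T' : Set K)) →* N :=
    (K.subtype.comp (normalizer (T' : Set K)).subtype).codRestrict N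
      fun z => hNle (mem_map_of_mem _ z.2)
  let a := q.comp ι
  let b := g.comp (normalizer (T' : Set K)).subtype
  have hb : Function.Surjective b := fun d => by
    obtain ⟨k, hk⟩ : ∃ k, g k = d := (toPermThree_surjective.comp hf) d
    have := hsup.ge (mem_top k)
    obtain ⟨n, hn, l, hl, rfl⟩ := (CfsgLib.Solvable.mem_sup_of_le_normalizer
      (le_top.trans (normalizer_eq_top g.ker).ge)).1 (sup_comm (normalizer (T' : Set K)) g.ker ▸ this)
    refine ⟨⟨l, hl⟩, ?_⟩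
    rw [← hk, map_mul, MonoidHom.mem_ker.1 hn, one_mul]
    rfl
  have hker : a.rangeRestrict.ker ≤ b.ker := by
    intro z hz
    rw [MonoidHom.ker_rangeRestrict, MonoidHom.mem_ker] at hz
    have hz' : ((z : K) : G) ∈ centralizer (T : Set G) := Subgroup.mem_subgroupOf.1 ((QuotientGroup.eq_one_iff (ι z)).1 hz)
    rw [MonoidHom.mem_ker]
    show toPermThree (f z) = 1
    rw [toPermThree_ker]
    intro i
    obtain ⟨t, ht, hti⟩ := hfT i
    have : t * (z : K) = (z : K) * t := Subtype.ext (hz' _ ⟨t, ht, rfl⟩)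
    rw [← hti, ← map_mul, ← map_mul, this]
  refine involves_of_surjective a.range
    (a.rangeRestrict.liftOfSurjective a.rangeRestrict_surjective ⟨b, hker⟩) fun d => ?_
  obtain ⟨z, rfl⟩ := hb d
  exact ⟨a.rangeRestrict z, MonoidHom.liftOfRightInverse_comp_apply _ _ _ _ z⟩

theorem exists_minimal_setup {T : Subgroup G} (hT : IsPGroup 2 T) (A : Subgroup G)
    (hA : A ≤ normalizer (T : Set G)) {y : G} (hy : y ∉ centralizer (T : Set G))
    (hyA : y ∈ A) (hy3 : (orderOf y).Coprime 2) :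
    ∃ P0 P1 : Subgroup G, P1 ≤ T ∧ P0 ≤ P1 ∧ P1 ≤ normalizer (P0 : Set G) ∧
      A ≤ normalizer (P1 : Set G) ∧ A ≤ normalizer (P0 : Set G) ∧
      (∀ v ∈ P1, v ^ 2 ∈ P0) ∧
      (∀ Q : Subgroup G, P0 ≤ Q → Q ≤ P1 → A ≤ normalizer (Q : Set G) → Q = P0 ∨ Q = P1) ∧
      ∃ v ∈ P1, y * v * y⁻¹ * v⁻¹ ∉ P0 := by
  have : Fact (Nat.Prime 2) := ⟨Nat.prime_two⟩
  obtain ⟨P1, ⟨hP1T, hAP1, hyP1⟩, hmin⟩ := Set.Finite.exists_minimal (Set.toFinite
    {P : Subgroup G | P ≤ T ∧ A ≤ normalizer (P : Set G) ∧ y ∉ centralizer (P : Set G)})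
    ⟨T, le_rfl, hA, hy⟩
  set F := (frattini ↥P1).map P1.subtype
  have hP1p : IsPGroup 2 P1 := hT.to_le hP1T
  haveI : Group.IsNilpotent P1 := hP1p.isNilpotent
  have hP1ne : P1 ≠ ⊥ := fun h => hyP1 (by rw [h]; intro v hv; rw [mem_bot.1 hv]; simp)
  haveI : Nontrivial P1 := (Subgroup.nontrivial_iff_ne_bot P1).2 hP1ne
  have hFlt : F < P1 := by
    refine lt_of_le_of_ne (map_subtype_le _) fun h => CfsgLib.PGroup.frattini_ne_top (G := P1) ?_
    refine map_injective P1.subtype_injective ?_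
    rw [← MonoidHom.range_eq_map, range_subtype]
    exact h
  have hAF : A ≤ normalizer (F : Set G) := fun a ha => by
    rw [mem_normalizer_iff_cj]
    haveI : (frattini ↥P1).Characteristic := inferInstance
    let φ : P1 ≃* P1 := ((MulAut.conj a).subgroupMap P1).trans
      (MulEquiv.subgroupCongr (mem_normalizer_iff_cj.1 (hAP1 ha)))
    have hφ := characteristic_iff_map_eq.1 (inferInstance : (frattini ↥P1).Characteristic) φ
    conv_rhs => rw [show F = ((frattini ↥P1).map φ.toMonoidHom).map P1.subtype by rw [hφ]]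
    rw [cj, map_map, map_map]
    rfl
  obtain ⟨P0, ⟨hFP0, hP0lt, hAP0⟩, hmax⟩ := Set.Finite.exists_maximal (Set.toFinite
    {P : Subgroup G | F ≤ P ∧ P < P1 ∧ A ≤ normalizer (P : Set G)}) ⟨F, le_rfl, hFlt, hAF⟩
  have hP1P0 : P1 ≤ normalizer (P0 : Set G) := fun v hv => by
    rw [mem_normalizer_iff]
    have key : ∀ v ∈ P1, ∀ w ∈ P0, v * w * v⁻¹ ∈ P0 := fun v hv w hw => by
      have hc : (⟨v, hv⟩ : P1) * ⟨w, hP0lt.le hw⟩ * (⟨v, hv⟩ : P1)⁻¹ * (⟨w, hP0lt.le hw⟩ : P1)⁻¹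
          ∈ frattini ↥P1 :=
        CfsgLib.Transfer.commutator_le_frattini (commutator_mem_commutator (mem_top _) (mem_top _))
      have : v * w * v⁻¹ * w⁻¹ ∈ P0 := hFP0 ⟨_, hc, by simp⟩
      have := mul_mem this hw
      simpa using this
    refine fun w => ⟨key v hv w, fun h => ?_⟩
    have := key v⁻¹ (inv_mem hv) _ h
    rwa [show v⁻¹ * (v * w * v⁻¹) * v⁻¹⁻¹ = w by group] at this
  refine ⟨P0, P1, hP1T, hP0lt.le, hP1P0, hAP1, hAP0, fun v hv => hFP0
    ⟨_, CfsgLib.PGroup.pow_mem_frattini hP1p (⟨v, hv⟩ : P1), by simp⟩, fun Q hQ0 hQ1 hAQ => ?_, ?_⟩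
  · rcases eq_or_lt_of_le hQ1 with h | h
    · exact Or.inr h
    · exact Or.inl (le_antisymm (hmax ⟨hFP0.trans hQ0, h, hAQ⟩ hQ0) hQ0)
  · by_contra hcon
    apply hyP1
    have hy0 : y ∈ centralizer (P0 : Set G) := by
      by_contra hc
      exact hP0lt.not_ge (hmin ⟨hP0lt.le.trans hP1T, hAP0, hc⟩ hP0lt.le)
    intro v hv
    have hd : y * v * y⁻¹ * v⁻¹ ∈ P0 := by_contra fun h => hcon ⟨v, hv, h⟩
    have hd' : v⁻¹ * (y * v * y⁻¹) ∈ P0 := by
      have := (mem_normalizer_iff.1 (hP1P0 (inv_mem hv)) _).1 hd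
      simpa [mul_assoc] using this
    exact (commute_of_series_step hP1p hy3 (hP0lt.le hd') (hy0 _ hd').symm).symm

theorem backward (T : Subgroup G) (hT : IsPGroup 2 T) (h : Involves (Equiv.Perm (Fin 3))
      (↥(normalizer (T : Set G)) ⧸ (centralizer (T : Set G)).subgroupOf (normalizer (T : Set G)))) :
    Involves (Equiv.Perm (Fin 4)) G := by
  have : Fact (Nat.Prime 2) := ⟨Nat.prime_two⟩
  have : Fact (Nat.Prime 3) := ⟨Nat.prime_three⟩
  set N := normalizer (T : Set G)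
  set q := QuotientGroup.mk' ((centralizer (T : Set G)).subgroupOf N)
  obtain ⟨K, f0, hf0⟩ := exists_surjective_of_involves h
  set K' := (K.comap q).map N.subtype
  have hK'N : K' ≤ N := map_subtype_le _
  let ι : K' →* K := ((q.comp (inclusion hK'N)).codRestrict K fun z => by
    obtain ⟨w, hw, hwz⟩ := z.2
    have : inclusion hK'N z = w := Subtype.ext hwz.symm
    simpa [this] using hw)
  have hι : Function.Surjective ι := fun ⟨k, hk⟩ => by
    obtain ⟨w, rfl⟩ := QuotientGroup.mk'_surjective _ k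
    exact ⟨⟨w, w, hk, rfl⟩, Subtype.ext rfl⟩
  set f := dihedralThreeEquiv.symm.toMonoidHom.comp (f0.comp ι)
  have hf : Function.Surjective f := dihedralThreeEquiv.symm.surjective.comp (hf0.comp hι)
  obtain ⟨x, y, ⟨a, ha⟩, ⟨b, hb⟩, hfy, hxy⟩ := exists_inverted (p := 3) (by norm_num) f hf
  rw [← orderOf_coe] at ha hb
  replace hxy : (x : G) * y * (x : G)⁻¹ = (y : G)⁻¹ := congrArg Subtype.val hxy
  have hyc : (y : G) ∉ centralizer (T : Set G) := fun hc => hfy (by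
    have : ι y = 1 := Subtype.ext ((QuotientGroup.eq_one_iff _).2 hc)
    show dihedralThreeEquiv.symm (f0 (ι y)) = 1
    rw [this, map_one, map_one])
  -- replace `y` by a power acting with order three
  classical
  have hex : ∃ j, (y : G) ^ 3 ^ j ∈ centralizer (T : Set G) :=
    ⟨b, by rw [← hb, pow_orderOf_eq_one]; exact one_mem _⟩
  obtain ⟨j, hj⟩ := Nat.exists_eq_succ_of_ne_zero (n := Nat.find hex) fun h0 => hyc (by
    have := Nat.find_spec hex
    rwa [h0, pow_zero, pow_one] at this)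
  set y1 := (y : G) ^ 3 ^ j with hy1def
  have hy1c : y1 ∉ centralizer (T : Set G) := Nat.find_min hex (by omega)
  have hy13 : y1 ^ 3 ∈ centralizer (T : Set G) := by
    rw [hy1def, ← pow_mul, ← pow_succ]
    have := Nat.find_spec hex
    rwa [hj] at this
  have hxy1 : (x : G) * y1 * (x : G)⁻¹ = y1⁻¹ := by rw [hy1def, ← conj_pow, hxy, inv_pow]
  have hxx : (x : G) ^ 2 * y1 = y1 * (x : G) ^ 2 := by
    calc (x : G) ^ 2 * y1 = x * ((x : G) * y1 * (x : G)⁻¹) * (x : G)⁻¹ * (x : G) ^ 2 := by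
          rw [pow_two]; group
      _ = (x : G) * y1⁻¹ * (x : G)⁻¹ * (x : G) ^ 2 := by rw [hxy1]
      _ = ((x : G) * y1 * (x : G)⁻¹)⁻¹ * (x : G) ^ 2 := by group
      _ = y1 * (x : G) ^ 2 := by rw [hxy1, inv_inv]
  set A := closure ({(x : G), y1} : Set G)
  have hxA : (x : G) ∈ A := subset_closure (Set.mem_insert _ _)
  have hyA : y1 ∈ A := subset_closure (Set.mem_insert_of_mem _ rfl)
  have hAN : A ≤ N := by
    rw [closure_le]
    rintro z (rfl | rfl)
    · exact hK'N x.2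
    · exact pow_mem (hK'N y.2) _
  have hy1cop : (orderOf y1).Coprime 2 :=
    Nat.Coprime.coprime_dvd_left ((orderOf_pow_dvd _).trans hb.dvd) (Nat.Coprime.pow_left _ (by norm_num))
  obtain ⟨P0, P1, hP1T, hP01, hP1P0, hAP1, hAP0, hsq, hirr, v0, hv0, hv0y⟩ :=
    exists_minimal_setup hT A hAN hy1c hyA hy1cop
  set B := P0 ⊔ A
  set K2 := P1 ⊔ A
  have hBK : B ≤ K2 := sup_le_sup_right hP01 _
  -- relation mod `P0`
  let R : G → G → Prop := fun u v => u⁻¹ * v ∈ P0
  have hR_conj : ∀ a ∈ A, ∀ u v, R u v → R (a * u * a⁻¹) (a * v * a⁻¹) := fun a ha u v h => by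
    have := (mem_normalizer_iff.1 (hAP0 ha) _).1 h
    show (a * u * a⁻¹)⁻¹ * (a * v * a⁻¹) ∈ P0
    rwa [show (a * u * a⁻¹)⁻¹ * (a * v * a⁻¹) = a * (u⁻¹ * v) * a⁻¹ by group]
  have hR_trans : ∀ u v w, R u v → R v w → R u w := fun u v w h1 h2 => by
    have := mul_mem h1 h2
    simpa [R, mul_assoc] using this
  have hR_symm : ∀ u v, R u v → R v u := fun u v h => by simpa [R] using inv_mem h
  have hR_refl : ∀ u, R u u := fun u => by simp [R, one_mem]
  have hR_mul : ∀ u v u' v', u' ∈ P1 → v' ∈ P1 → R u v → R u' v' → R (u * u') (v * v') := by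
    intro u v u' v' hu' _ h h'
    show (u * u')⁻¹ * (v * v') ∈ P0
    rw [show (u * u')⁻¹ * (v * v') = u'⁻¹ * (u⁻¹ * v) * u'⁻¹⁻¹ * (u'⁻¹ * v') by group]
    exact mul_mem ((mem_normalizer_iff.1 (hP1P0 (inv_mem hu')) _).1 h) h'
  have hR_inv : ∀ u, u ∈ P1 → R u u⁻¹ := fun u hu => by
    show u⁻¹ * u⁻¹ ∈ P0
    rw [← pow_two, inv_pow]
    exact inv_mem (hsq u hu)
  have hR_comm : ∀ u v, u ∈ P1 → v ∈ P1 → R (u * v) (v * u) := fun u v hu hv => by
    have h1 : R (u * v) (u * v)⁻¹ := hR_inv _ (mul_mem hu hv)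
    rw [mul_inv_rev] at h1
    exact hR_trans _ _ _ h1 (hR_mul _ _ _ _ (inv_mem hu) hu (hR_symm _ _ (hR_inv v hv))
      (hR_symm _ _ (hR_inv u hu)))
  -- fixed points of elements
  let Fix : ∀ a : G, a ∈ A → Subgroup G := fun a ha =>
    { carrier := {u | u ∈ P1 ∧ R (a * u * a⁻¹) u}
      one_mem' := ⟨one_mem _, by simpa using hR_refl 1⟩
      mul_mem' := fun {u v} hu hv => ⟨mul_mem hu.1 hv.1, by
        rw [show a * (u * v) * a⁻¹ = a * u * a⁻¹ * (a * v * a⁻¹) by group]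
        exact hR_mul _ _ _ _ ((mem_normalizer_iff.1 (hAP1 ha) v).1 hv.1) hv.1 hu.2 hv.2⟩
      inv_mem' := fun {u} hu => ⟨inv_mem hu.1, by
        have h1 := hR_conj a ha _ _ (hR_inv u hu.1)
        exact hR_trans _ _ _ (hR_symm _ _ h1) (hR_trans _ _ _ hu.2 (hR_inv u hu.1))⟩ }
  have hP0Fix : ∀ a (ha : a ∈ A), P0 ≤ Fix a ha := fun a ha u hu => by
    refine ⟨hP01 hu, ?_⟩
    show (a * u * a⁻¹)⁻¹ * u ∈ P0
    exact mul_mem (inv_mem ((mem_normalizer_iff.1 (hAP0 ha) u).1 hu)) hu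
  have hFixinv : ∀ a (ha : a ∈ A), (∀ g ∈ A, ∃ e : ℤ, g⁻¹ * a * g = a ^ e) →
      A ≤ normalizer (Fix a ha : Set G) := by
    intro a ha hnorm
    have hpow : ∀ u ∈ Fix a ha, ∀ e : ℤ, R (a ^ e * u * (a ^ e)⁻¹) u := by
      intro u hu e
      induction e using Int.induction_on with
      | zero => simpa using hR_refl u
      | succ e ih =>
        have := hR_conj a ha _ _ ih
        rw [show a * (a ^ (e : ℤ) * u * (a ^ (e : ℤ))⁻¹) * a⁻¹ =
          a ^ ((e : ℤ) + 1) * u * (a ^ ((e : ℤ) + 1))⁻¹ by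
            rw [add_comm, zpow_add, zpow_one]; group] at this
        exact hR_trans _ _ _ this hu.2
      | pred e ih =>
        have := hR_conj a⁻¹ (inv_mem ha) _ _ ih
        rw [show a⁻¹ * (a ^ (-(e : ℤ)) * u * (a ^ (-(e : ℤ)))⁻¹) * a⁻¹⁻¹ =
          a ^ (-(e : ℤ) - 1) * u * (a ^ (-(e : ℤ) - 1))⁻¹ by
            rw [sub_eq_add_neg, add_comm, zpow_add, zpow_neg_one]; group] at this
        refine hR_trans _ _ _ this ?_
        have h2 := hR_conj a⁻¹ (inv_mem ha) _ _ hu.2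
        rw [show a⁻¹ * (a * u * a⁻¹) * a⁻¹⁻¹ = u by group] at h2
        exact hR_symm _ _ h2
    have key : ∀ g ∈ A, ∀ u ∈ Fix a ha, g * u * g⁻¹ ∈ Fix a ha := by
      intro g hg u hu
      refine ⟨(mem_normalizer_iff.1 (hAP1 hg) u).1 hu.1, ?_⟩
      obtain ⟨e, he⟩ := hnorm g hg
      have := hR_conj g hg _ _ (hpow u hu e)
      rwa [← he, show g * (g⁻¹ * a * g * u * (g⁻¹ * a * g)⁻¹) * g⁻¹ =
        a * (g * u * g⁻¹) * a⁻¹ by group] at this
    intro g hg
    refine mem_normalizer_iff.2 fun u => ⟨key g hg u, fun h => ?_⟩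
    have := key g⁻¹ (inv_mem hg) _ h
    rwa [show g⁻¹ * (g * u * g⁻¹) * g⁻¹⁻¹ = u by group] at this
  have hAy : ∀ g ∈ A, g⁻¹ * y1 * g = y1 ∨ g⁻¹ * y1 * g = y1⁻¹ := by
    intro g hg
    induction hg using closure_induction with
    | mem z hz =>
      rcases hz with rfl | rfl
      · right
        calc (x : G)⁻¹ * y1 * x = (x : G)⁻¹ * ((x : G) * y1 * (x : G)⁻¹)⁻¹ * x := by
              rw [hxy1, inv_inv]
          _ = y1⁻¹ := by group
      · left; group
    | one => left; group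
    | mul g1 g2 _ _ h1 h2 =>
      rw [show (g1 * g2)⁻¹ * y1 * (g1 * g2) = g2⁻¹ * (g1⁻¹ * y1 * g1) * g2 by group]
      rcases h1 with h1 | h1 <;> rw [h1] <;> rcases h2 with h2 | h2
      · left; exact h2
      · right; exact h2
      · right; rw [show g2⁻¹ * y1⁻¹ * g2 = (g2⁻¹ * y1 * g2)⁻¹ by group, h2]
      · left; rw [show g2⁻¹ * y1⁻¹ * g2 = (g2⁻¹ * y1 * g2)⁻¹ by group, h2, inv_inv]
    | inv g1 _ h1 =>
      rcases h1 with h1 | h1
      · left; conv_lhs => rw [← h1]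
        group
      · right
        have h1' : g1⁻¹ * y1⁻¹ * g1 = y1 := by
          rw [show g1⁻¹ * y1⁻¹ * g1 = (g1⁻¹ * y1 * g1)⁻¹ by group, h1, inv_inv]
        calc g1⁻¹⁻¹ * y1 * g1⁻¹ = g1 * (g1⁻¹ * y1⁻¹ * g1) * g1⁻¹ := by rw [h1', inv_inv]
          _ = y1⁻¹ := by group
  have hyfix : Fix y1 hyA = P0 := by
    rcases hirr _ (hP0Fix y1 hyA) (fun u hu => hu.1) (hFixinv y1 hyA fun g hg => by
      rcases hAy g hg with h | h
      · exact ⟨1, by rw [h, zpow_one]⟩
      · exact ⟨-1, by rw [h, zpow_neg_one]⟩) with h | h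
    · exact h
    · exfalso
      apply hv0y
      have h1 : R (y1 * v0 * y1⁻¹) v0 := (h.ge hv0).2
      have h2 := (mem_normalizer_iff.1 (hP1P0 hv0) _).1 (hR_symm _ _ h1)
      rwa [show v0 * (v0⁻¹ * (y1 * v0 * y1⁻¹)) * v0⁻¹ = y1 * v0 * y1⁻¹ * v0⁻¹ by group] at h2
  -- a point fixed by `x`
  obtain ⟨u, hu, hu0, hux⟩ : ∃ u ∈ P1, u ∉ P0 ∧ R ((x : G) * u * (x : G)⁻¹) u := by
    set X := zpowers (x : G) with hX
    have hXP : IsPGroup 2 ↥(P1 ⊔ X) :=
      (hT.to_le hP1T).to_sup_of_normal_left'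
        (IsPGroup.of_card (n := a) (by rw [hX, Nat.card_zpowers, ha]))
        (zpowers_le.2 (hAP1 hxA))
    have hP0n : P1 ⊔ X ≤ normalizer (P0 : Set G) := sup_le hP1P0 (zpowers_le.2 (hAP0 hxA))
    haveI := (normal_subgroupOf_iff_le_normalizer (hP01.trans le_sup_left)).2 hP0n
    haveI := (normal_subgroupOf_iff_le_normalizer (le_sup_left : P1 ≤ P1 ⊔ X)).2
      (sup_le le_normalizer (zpowers_le.2 (hAP1 hxA)))
    set qq := QuotientGroup.mk' (P0.subgroupOf (P1 ⊔ X))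
    haveI : ((P1.subgroupOf (P1 ⊔ X)).map qq).Normal :=
      Normal.map inferInstance _ (QuotientGroup.mk'_surjective _)
    obtain ⟨z, ⟨⟨w, hw, rfl⟩, hzc⟩, hz1⟩ := CfsgLib.Solvable.exists_ne_one_mem_inf_center_of_normal
      (hXP.to_quotient (P0.subgroupOf (P1 ⊔ X))) (N := (P1.subgroupOf (P1 ⊔ X)).map qq) (fun hb => by
        rw [Subgroup.map_eq_bot_iff, QuotientGroup.ker_mk'] at hb
        apply hv0y
        have hle : P1 ≤ P0 := fun v hv => hb (show (⟨v, mem_sup_left hv⟩ : ↥(P1 ⊔ X)) ∈ _ from hv)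
        exact hle (mul_mem ((mem_normalizer_iff.1 (hAP1 hyA) v0).1 hv0) (inv_mem hv0)))
    refine ⟨(w : G), hw, fun h0 => hz1 ((QuotientGroup.eq_one_iff w).2 h0), ?_⟩
    have h1 := mem_center_iff.1 hzc (qq ⟨x, mem_sup_right (mem_zpowers _)⟩)
    rw [← map_mul, ← map_mul] at h1
    have h2 : ((x : G) * w)⁻¹ * (w * x) ∈ P0 := (QuotientGroup.eq (s := P0.subgroupOf (P1 ⊔ X))).1 h1
    have h3 := (mem_normalizer_iff.1 (hAP0 hxA) _).1 h2
    have h4 : R ((x : G) * w * (x : G)⁻¹) (w : G) := by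
      show ((x : G) * w * (x : G)⁻¹)⁻¹ * w ∈ P0
      rwa [show ((x : G) * w * (x : G)⁻¹)⁻¹ * (w : G) =
        x * (((x : G) * w)⁻¹ * (w * x)) * (x : G)⁻¹ by group]
    exact h4
  set u2 := y1 * u * y1⁻¹ with hu2def
  set u3 := y1 * u2 * y1⁻¹ with hu3def
  have hu2 : u2 ∈ P1 := (mem_normalizer_iff.1 (hAP1 hyA) u).1 hu
  have hu3 : u3 ∈ P1 := (mem_normalizer_iff.1 (hAP1 hyA) u2).1 hu2
  have hu4 : R (y1 * u3 * y1⁻¹) u := by
    show (y1 * u3 * y1⁻¹)⁻¹ * u ∈ P0
    have : y1 * u3 * y1⁻¹ = u := by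
      rw [show y1 * u3 * y1⁻¹ = y1 ^ 3 * u * (y1 ^ 3)⁻¹ by
        rw [hu3def, hu2def]; simp only [pow_succ, pow_zero, one_mul, mul_inv_rev, mul_assoc]]
      exact fixed_of_centralizer (mem_zpowers _) (fun c hc => by
        obtain ⟨e, rfl⟩ := mem_zpowers_iff.1 hc
        exact (zpow_mem hy13 e u (hP1T hu)).symm)
    rw [this, inv_mul_cancel]
    exact one_mem _
  -- the sum of the orbit is fixed by `y1`, hence trivial
  have hsum : R u3 (u * u2) := by
    have hmem : u * u2 * u3 ∈ Fix y1 hyA := by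
      refine ⟨mul_mem (mul_mem hu hu2) hu3, ?_⟩
      rw [show y1 * (u * u2 * u3) * y1⁻¹ = u2 * u3 * (y1 * u3 * y1⁻¹) by
        rw [hu3def, hu2def]; group]
      refine hR_trans _ (u2 * u3 * u) _ (hR_mul _ _ _ _ ((mem_normalizer_iff.1 (hAP1 hyA) u3).1 hu3)
        hu (hR_refl _) hu4) ?_
      refine hR_trans _ _ _ (hR_comm _ _ (mul_mem hu2 hu3) hu) ?_
      rw [← mul_assoc]
      exact hR_refl _
    rw [hyfix] at hmem
    refine hR_symm _ _ ?_
    have h1 : R 1 (u * u2 * u3) := by simpa [R] using hmem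
    have h2 := hR_mul _ _ _ _ (inv_mem hu3) (inv_mem hu3) h1 (hR_refl u3⁻¹)
    rw [one_mul, mul_inv_cancel_right] at h2
    exact hR_trans _ _ _ (hR_symm _ _ h2) (hR_symm _ _ (hR_inv _ hu3))
  have hxu2 : R ((x : G) * u2 * (x : G)⁻¹) u3 := by
    have e : (x : G) * u2 * (x : G)⁻¹ = y1⁻¹ * ((x : G) * u * (x : G)⁻¹) * y1⁻¹⁻¹ := by
      calc (x : G) * u2 * (x : G)⁻¹ = (x : G) * y1 * (x : G)⁻¹ * ((x : G) * u * (x : G)⁻¹) *
            ((x : G) * y1 * (x : G)⁻¹)⁻¹ := by rw [hu2def]; group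
        _ = _ := by rw [hxy1]
    rw [e]
    refine hR_trans _ _ _ (hR_conj _ (inv_mem hyA) _ _ hux) ?_
    have := hR_conj y1⁻¹ (inv_mem hyA) _ _ (hR_symm _ _ hu4)
    rwa [show y1⁻¹ * (y1 * u3 * y1⁻¹) * y1⁻¹⁻¹ = u3 by group] at this
  let c : Fin 4 → G := ![1, u, u2, u * u2]
  have hc : ∀ i, c i ∈ P1 := by
    intro i; fin_cases i
    exacts [one_mem _, hu, hu2, mul_mem hu hu2]
  -- the spanned subgroup is all of `P1`
  let S : Subgroup G :=
    { carrier := {z | z ∈ P1 ∧ ∃ i, R (c i) z}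
      one_mem' := ⟨one_mem _, 0, hR_refl 1⟩
      mul_mem' := fun {z w} ⟨hz, i, hi⟩ ⟨hw, j, hj⟩ => by
        refine ⟨mul_mem hz hw, ?_⟩
        suffices ∃ k, R (c k) (c i * c j) by
          obtain ⟨k, hk⟩ := this
          exact ⟨k, hR_trans _ _ _ hk (hR_mul _ _ _ _ (hc j) hw hi hj)⟩
        have h11 : ∀ z ∈ P1, R 1 (z * z) := fun z hz => by
          show (1 : G)⁻¹ * (z * z) ∈ P0
          rw [inv_one, one_mul, ← pow_two]; exact hsq z hz
        have huv : R (u * u2) (u2 * u) := hR_comm _ _ hu hu2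
        fin_cases i <;> fin_cases j <;> simp only [c, Fin.zero_eta, Fin.mk_one, Fin.reduceFinMk,
          Matrix.cons_val_zero, Matrix.cons_val_one, Matrix.cons_val, one_mul, mul_one]
        · exact ⟨0, hR_refl _⟩
        · exact ⟨1, hR_refl _⟩
        · exact ⟨2, hR_refl _⟩
        · exact ⟨3, hR_refl _⟩
        · exact ⟨1, hR_refl _⟩
        · exact ⟨0, h11 u hu⟩
        · exact ⟨3, hR_refl _⟩
        · refine ⟨2, ?_⟩
          have := hR_mul _ _ _ _ hu2 hu2 (h11 u hu) (hR_refl u2)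
          simpa [c, mul_assoc] using this
        · exact ⟨2, hR_refl _⟩
        · exact ⟨3, huv⟩
        · exact ⟨0, h11 u2 hu2⟩
        · refine ⟨1, ?_⟩
          have h1 := hR_mul _ _ _ _ hu2 hu2 (hR_symm _ _ huv) (hR_refl u2)
          have h2 := hR_mul _ _ _ _ (one_mem _) (mul_mem hu2 hu2) (hR_refl u) (h11 u2 hu2)
          have h3 : R (u2 * (u * u2)) (u2 * (u2 * u)) :=
            hR_mul _ _ _ _ (mul_mem hu hu2) (mul_mem hu2 hu) (hR_refl u2) huv
          rw [← mul_assoc u2 u2 u] at h3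
          have h4 := hR_mul _ _ _ _ hu hu (h11 u2 hu2) (hR_refl u)
          rw [one_mul] at h4
          simpa [c] using hR_trans _ _ _ h4 (hR_symm _ _ h3)
        · exact ⟨3, hR_refl _⟩
        · refine ⟨2, ?_⟩
          have h3 : R (u * u2 * u) (u2 * u * u) := hR_mul _ _ _ _ hu hu huv (hR_refl u)
          have h4 := hR_mul _ _ _ _ (one_mem _) (mul_mem hu hu) (hR_refl u2) (h11 u hu)
          rw [mul_one, ← mul_assoc] at h4
          simpa [c] using hR_trans _ _ _ h4 (hR_symm _ _ h3)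
        · refine ⟨1, ?_⟩
          have h4 := hR_mul _ _ _ _ (one_mem _) (mul_mem hu2 hu2) (hR_refl u) (h11 u2 hu2)
          rw [mul_one, ← mul_assoc] at h4
          simpa [c] using h4
        · exact ⟨0, h11 _ (mul_mem hu hu2)⟩
      inv_mem' := fun {z} ⟨hz, i, hi⟩ => ⟨inv_mem hz, i, hR_trans _ _ _ hi (hR_inv z hz)⟩ }
  have hconj : ∀ z ∈ S, (x : G) * z * (x : G)⁻¹ ∈ S ∧ y1 * z * y1⁻¹ ∈ S := by
    rintro z ⟨hz, i, hi⟩
    refine ⟨⟨(mem_normalizer_iff.1 (hAP1 hxA) z).1 hz, ?_⟩,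
      (mem_normalizer_iff.1 (hAP1 hyA) z).1 hz, ?_⟩
    · have h' := hR_conj _ hxA _ _ hi
      fin_cases i <;> simp only [c, Fin.zero_eta, Fin.mk_one, Fin.reduceFinMk,
        Matrix.cons_val_zero, Matrix.cons_val_one, Matrix.cons_val] at h'
      · exact ⟨0, by simpa [c] using h'⟩
      · exact ⟨1, hR_trans _ _ _ (hR_symm _ _ hux) h'⟩
      · exact ⟨3, hR_trans _ _ _ (hR_trans _ _ _ (hR_symm _ _ hsum) (hR_symm _ _ hxu2)) h'⟩
      · refine ⟨2, hR_trans _ _ _ ?_ h'⟩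
        rw [show (x : G) * (u * u2) * (x : G)⁻¹ =
          (x : G) * u * (x : G)⁻¹ * ((x : G) * u2 * (x : G)⁻¹) by group]
        refine hR_symm _ _ (hR_trans _ (u * (u * u2)) _ ?_ ?_)
        · exact hR_mul _ _ _ _ ((mem_normalizer_iff.1 (hAP1 hxA) u2).1 hu2) (mul_mem hu hu2) hux
            (hR_trans _ _ _ hxu2 hsum)
        · rw [← mul_assoc]
          have h11 : R (u * u) 1 := by
            show (u * u)⁻¹ * 1 ∈ P0
            rw [mul_one, ← pow_two]; exact inv_mem (hsq u hu)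
          simpa [c] using hR_mul _ _ _ _ hu2 hu2 h11 (hR_refl u2)
    · have h' := hR_conj _ hyA _ _ hi
      fin_cases i <;> simp only [c, Fin.zero_eta, Fin.mk_one, Fin.reduceFinMk,
        Matrix.cons_val_zero, Matrix.cons_val_one, Matrix.cons_val] at h'
      · exact ⟨0, by simpa [c] using h'⟩
      · exact ⟨2, h'⟩
      · exact ⟨3, hR_trans _ _ _ (hR_symm _ _ hsum) h'⟩
      · refine ⟨1, hR_trans _ _ _ ?_ h'⟩
        rw [show y1 * (u * u2) * y1⁻¹ = u2 * (y1 * u2 * y1⁻¹) by rw [hu2def]; group, ← hu3def]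
        have h22 : R (u2 * u2) 1 := by
          show (u2 * u2)⁻¹ * 1 ∈ P0
          rw [mul_one, ← pow_two]; exact inv_mem (hsq u2 hu2)
        refine hR_symm _ _ (hR_trans _ (u2 * (u2 * u)) _ (hR_mul _ _ _ _ hu3 (mul_mem hu2 hu)
          (hR_refl _) (hR_trans _ _ _ hsum (hR_comm _ _ hu hu2))) ?_)
        rw [← mul_assoc]
        simpa [c] using hR_mul _ _ _ _ hu hu h22 (hR_refl u)
  have hspan : ∀ z ∈ P1, ∃ i, R (c i) z := by
    have hASn : A ≤ normalizer (S : Set G) := by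
      rw [closure_le]
      rintro g (rfl | rfl)
      all_goals
        rw [SetLike.mem_coe, mem_normalizer_iff_cj]
        refine Subgroup.eq_of_le_of_card_ge ?_ (card_cj _ S).ge
        rintro _ ⟨z, hz, rfl⟩
        first | exact (hconj z hz).1 | exact (hconj z hz).2
    rcases hirr S (fun z hz => ⟨hP01 hz, 0, by simpa [R, c] using hz⟩) (fun z hz => hz.1) hASn with h | h
    · exact absurd (h.le ⟨hu, 1, hR_refl u⟩) hu0
    · exact fun z hz => (h.ge hz).2
  have hne12 : ¬ R u u2 := fun hh => hu0 (hyfix ▸ (⟨hu, hR_symm _ _ hh⟩ : u ∈ Fix y1 hyA))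
  have hu20 : u2 ∉ P0 := fun h0 => hu0 (by
    have := (mem_normalizer_iff.1 (hAP0 hyA) u).2 h0
    exact this)
  have hu30 : u * u2 ∉ P0 := fun h0 => hne12
    (hR_trans _ _ _ (hR_inv u hu) (show R u⁻¹ u2 by simpa [R] using h0))
  have hlt : ∀ i j, i < j → ¬ R (c i) (c j) := by
    intro i j hij h
    fin_cases i <;> fin_cases j <;> first
      | exact absurd hij (by decide)
      | exact hu0 (by simpa [c, R] using h)
      | exact hu20 (by simpa [c, R] using h)
      | exact hu30 (by simpa [c, R] using h)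
      | exact hne12 (by simpa [c, R] using h)
      | (have h6 := (mem_normalizer_iff.1 (hP1P0 hu2) _).1 h
         exact hu0 (by simpa [c, mul_assoc] using h6))
  have hinjR : ∀ i j, R (c i) (c j) → i = j := fun i j h =>
    (lt_trichotomy i j).elim (fun hh => absurd h (hlt i j hh))
      fun hh => hh.elim id fun hh => absurd (hR_symm _ _ h) (hlt j i hh)
  -- `P1 ∩ A ≤ P0`
  have hPA : P1 ⊓ A ≤ P0 := by
    intro w hw
    rw [← hyfix]
    refine ⟨hw.1, ?_⟩
    have hcomm : y1 * w = w * y1 := by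
      rcases hAy w hw.2 with h | h
      · calc y1 * w = w * (w⁻¹ * y1 * w) := by group
          _ = w * y1 := by rw [h]
      · -- then `[w, y1]` is a `2`-element and a power of `y1`
        exfalso
        have hd : y1 ^ 2 ∈ P1 := by
          have h' : y1 * w * y1⁻¹ * w⁻¹ = y1 ^ 2 := by
            calc y1 * w * y1⁻¹ * w⁻¹ = y1 * (w * (w⁻¹ * y1 * w) * w⁻¹) := by rw [h]; group
              _ = y1 ^ 2 := by rw [pow_two]; group
          rw [← h']
          exact mul_mem ((mem_normalizer_iff.1 (hAP1 hyA) w).1 hw.1) (inv_mem hw.1)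
        obtain ⟨m, hm⟩ := IsPGroup.iff_orderOf.1 (hT.to_le hP1T) ⟨_, hd⟩
        rw [Subgroup.orderOf_mk] at hm
        have hco : (orderOf y1).Coprime 2 := hy1cop
        have h12 : y1 ^ 2 = 1 := orderOf_eq_one_iff.1 (Nat.eq_one_of_dvd_coprimes (hco.pow_right m)
          (orderOf_pow_dvd 2) hm.dvd)
        have : y1 = 1 := orderOf_eq_one_iff.1 (Nat.eq_one_of_dvd_coprimes hco dvd_rfl
          (orderOf_dvd_of_pow_eq_one h12))
        exact hy1c (this ▸ one_mem _)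
    rw [hcomm, mul_inv_cancel_right]
    exact hR_refl w
  let e : Fin 4 → K2 ⧸ B.subgroupOf K2 := fun i => QuotientGroup.mk (⟨c i, mem_sup_left (hc i)⟩ : K2)
  have he_eq : ∀ i (z : K2) (w : G), w ∈ P1 → R (c i) w → w⁻¹ * (z : G) ∈ A →
      (QuotientGroup.mk z : K2 ⧸ B.subgroupOf K2) = e i := by
    intro i z w _ hi hz
    refine (QuotientGroup.eq.2 ?_).symm
    show (c i)⁻¹ * (z : G) ∈ B
    have : (c i)⁻¹ * (z : G) = ((c i)⁻¹ * w) * (w⁻¹ * z) := by group
    rw [this]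
    exact mul_mem (mem_sup_left hi) (mem_sup_right hz)
  have hebij : Function.Bijective e := by
    constructor
    · intro i j hij
      have h : (c i)⁻¹ * c j ∈ B := (QuotientGroup.eq (s := B.subgroupOf K2)).1 hij
      obtain ⟨n, hn, a', ha', he⟩ := (CfsgLib.Solvable.mem_sup_of_le_normalizer hAP0).1 h
      have haP : a' ∈ P1 := by
        have : a' = n⁻¹ * ((c i)⁻¹ * c j) := by rw [← he, inv_mul_cancel_left]
        rw [this]
        exact mul_mem (inv_mem (hP01 hn)) (mul_mem (inv_mem (hc i)) (hc j))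
      apply hinjR
      show (c i)⁻¹ * c j ∈ P0
      rw [← he]
      exact mul_mem hn (hPA ⟨haP, ha'⟩)
    · intro Z
      obtain ⟨z, rfl⟩ := QuotientGroup.mk_surjective Z
      obtain ⟨w, hw, a', ha', he⟩ := (CfsgLib.Solvable.mem_sup_of_le_normalizer hAP1).1 z.2
      obtain ⟨i, hi⟩ := hspan w hw
      exact ⟨i, (he_eq i z w hw hi (by rw [← he, inv_mul_cancel_left]; exact ha')).symm⟩
  let E := Equiv.ofBijective e hebij
  let φ : K2 →* Equiv.Perm (Fin 4) :=
    (E.symm.permCongrHom.toMonoidHom).comp (MulAction.toPermHom K2 (K2 ⧸ B.subgroupOf K2))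
  have hφ : ∀ (g : K2) i j, g • e i = e j → φ g i = j := by
    intro g i j h
    show E.symm (g • E i) = j
    rw [Equiv.symm_apply_eq]
    exact h
  have hAsmul : ∀ (a' : G) (ha : a' ∈ A) i j, R (c j) (a' * c i * a'⁻¹) →
      φ ⟨a', mem_sup_right ha⟩ i = j := by
    intro a' ha i j h
    refine hφ _ i j (he_eq j _ (a' * c i * a'⁻¹) ((mem_normalizer_iff.1 (hAP1 ha) _).1 (hc i)) h ?_)
    show (a' * c i * a'⁻¹)⁻¹ * (a' * c i) ∈ A
    rw [show (a' * c i * a'⁻¹)⁻¹ * (a' * c i) = a' by group]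
    exact ha
  set s := φ ⟨(x : G), mem_sup_right hxA⟩
  set r := φ ⟨y1, mem_sup_right hyA⟩
  set t := φ ⟨u, mem_sup_left hu⟩
  have hs : s = Equiv.swap 2 3 := by
    ext i : 1
    have hx0 := hAsmul _ hxA 0 0 (by simpa [c] using hR_refl (1 : G))
    have hx1 := hAsmul _ hxA 1 1 (hR_symm _ _ hux)
    have hx2 := hAsmul _ hxA 2 3 (hR_trans _ _ _ (hR_symm _ _ hsum) (hR_symm _ _ hxu2))
    fin_cases i
    · exact hx0
    · exact hx1
    · exact hx2
    · obtain ⟨k, hk⟩ : ∃ k, s 3 = k := ⟨_, rfl⟩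
      have h0 : s 3 ≠ 0 := fun hh => absurd (s.injective (hh.trans hx0.symm)) (by decide)
      have h1 : s 3 ≠ 1 := fun hh => absurd (s.injective (hh.trans hx1.symm)) (by decide)
      have h2 : s 3 ≠ 3 := fun hh => absurd (s.injective (hh.trans hx2.symm)) (by decide)
      show s 3 = 2
      revert h0 h1 h2
      generalize s 3 = k
      decide +revert
  have hr : r = Equiv.swap 1 3 * Equiv.swap 1 2 := by
    ext i : 1
    have hx0 := hAsmul _ hyA 0 0 (by simpa [c] using hR_refl (1 : G))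
    have hx1 := hAsmul _ hyA 1 2 (hR_refl _)
    have hx2 := hAsmul _ hyA 2 3 (hR_symm _ _ hsum)
    fin_cases i
    · exact hx0
    · exact hx1
    · exact hx2
    · have h0 : r 3 ≠ 0 := fun hh => absurd (r.injective (hh.trans hx0.symm)) (by decide)
      have h1 : r 3 ≠ 2 := fun hh => absurd (r.injective (hh.trans hx1.symm)) (by decide)
      have h2 : r 3 ≠ 3 := fun hh => absurd (r.injective (hh.trans hx2.symm)) (by decide)
      show r 3 = 1
      revert h0 h1 h2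
      generalize r 3 = k
      decide +revert
  have ht : t = Equiv.swap 0 1 * Equiv.swap 2 3 := by
    have hu1 : R 1 (u * u) := by simpa [R, pow_two] using hsq u hu
    have hsm : ∀ i j, R (c j) (u * c i) → t i = j := fun i j h =>
      hφ _ i j (he_eq j _ (u * c i) (mul_mem hu (hc i)) h (by
        show (u * c i)⁻¹ * (u * c i) ∈ A
        rw [inv_mul_cancel]; exact one_mem _))
    ext i : 1
    fin_cases i
    · exact hsm 0 1 (by simpa [c] using hR_refl u)
    · exact hsm 1 0 hu1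
    · exact hsm 2 3 (hR_refl _)
    · refine hsm 3 2 ?_
      have := hR_mul _ _ _ _ hu2 hu2 hu1 (hR_refl u2)
      simpa [c, mul_assoc] using this
  refine involves_of_surjective K2 φ ?_
  rw [← MonoidHom.range_eq_top, eq_top_iff]
  have h23 : Equiv.swap (2 : Fin 4) 3 ∈ φ.range := hs ▸ ⟨_, rfl⟩
  have hr' : Equiv.swap (1 : Fin 4) 3 * Equiv.swap 1 2 ∈ φ.range := hr ▸ ⟨_, rfl⟩
  have h01 : Equiv.swap (0 : Fin 4) 1 ∈ φ.range := by
    have h := mul_mem (ht ▸ ⟨_, rfl⟩ : Equiv.swap (0 : Fin 4) 1 * Equiv.swap 2 3 ∈ φ.range) h23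
    rwa [mul_assoc, Equiv.swap_mul_self, mul_one] at h
  have h12 : Equiv.swap (1 : Fin 4) 2 ∈ φ.range := by
    have h := mul_mem (mul_mem hr' h23) (inv_mem hr')
    convert mul_mem (inv_mem h) hr' using 1
    decide +kernel
  intro g _
  have hg : g ∈ Submonoid.closure (Set.range fun i : Fin 3 => Equiv.swap i.castSucc i.succ) := by
    rw [Equiv.Perm.mclosure_swap_castSucc_succ]; exact Submonoid.mem_top _
  refine (Submonoid.closure_le (S := φ.range.toSubmonoid)).2 ?_ hg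
  rintro _ ⟨i, rfl⟩
  fin_cases i
  exacts [h01, h12, h23]

/-- For a finite group G, the symmetric group of degree 4 is involved in G if and only if there is a 2-subgroup T of G such that the symmetric group of degree 3 is involved in N(T)/C(T). -/
theorem result {G : Type*} [Group G] [Finite G] : Cfsg.Involves (Equiv.Perm (Fin 4)) G ↔ ∃ T : Subgroup G, IsPGroup 2 ↥T ∧ Cfsg.Involves (Equiv.Perm (Fin 3)) (↥(Subgroup.normalizer (T : Set G)) ⧸ (Subgroup.centralizer (T : Set G)).subgroupOf (Subgroup.normalizer (T : Set G))) := by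
  exact ⟨forward, fun ⟨T, hT, h⟩ => backward T hT h⟩

end Cfsg.Agent.S2759
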