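import Cfsg.Statements.S1492
import Cfsg.Agent.Lib.Char.Basic
import Cfsg.Agent.Lib.Char.Orth
import Cfsg.Agent.Lib.Char.Induced
import Cfsg.Agent.Lib.Char.Virtual
import Cfsg.Agent.Lib.Char.Integral

set_option autoImplicit false
open Cfsg

namespace Cfsg.Agent.S1492

/-- Let ψ be an irreducible character of the finite group G and B ≤ D ≤ C subgroups with B normal in C, every commutator of an element of D with an element of C lying in B (so D/B is central in C/B), and ψ constant equal to ψ 1 on B. Then ψ(1) ^ 2 * |C| * |D| ≤ |G| ^ 2. -/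
theorem result {G : Type*} [Group G] [Finite G] (ψ : G → ℂ) (hψ : Cfsg.IsIrrCharacter G ψ) (B C D : Subgroup G) (hBD : B ≤ D) (hDC : D ≤ C) (hBn : ∀ c ∈ C, ∀ b ∈ B, c * b * c⁻¹ ∈ B) (hcent : ∀ d ∈ D, ∀ c ∈ C, d * c * d⁻¹ * c⁻¹ ∈ B) (hker : ∀ b ∈ B, ψ b = ψ 1) : ‖ψ 1‖ ^ 2 * (Nat.card C : ℝ) * (Nat.card D : ℝ) ≤ (Nat.card G : ℝ) ^ 2 := by
  classical
  haveI : Fintype G := Fintype.ofFinite G
  haveI : Fintype C := Fintype.ofFinite C
  have hψc := CfsgLib.Char.IsIrrCharacter.isCharacter hψ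
  have hres : Cfsg.IsCharacter C (fun c : C => ψ c) := CfsgLib.Char.IsCharacter.restrict hψc C
  obtain ⟨m, hm⟩ := CfsgLib.Char.IsCharacter.exists_nat_combination hres
  obtain ⟨φ₀, hφ₀⟩ : ∃ φ, m φ ≠ 0 := by
    by_contra h
    simp only [not_exists, not_not] at h
    have := congrFun hm 1
    simp [h] at this
    exact CfsgLib.Char.IsIrrCharacter.apply_one_ne_zero hψ this
  have hinner : Cfsg.classInner (fun c : C => ψ c) (φ₀ : C → ℂ) = (m φ₀ : ℂ) := by
    rw [hm, CfsgLib.Char.classInner_sum_smul_irr]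
  set φ : C → ℂ := φ₀.1
  obtain ⟨d, hd0, hd⟩ := CfsgLib.Char.IsIrrCharacter.exists_degree φ₀.2
  obtain ⟨e, he0, he⟩ := CfsgLib.Char.IsIrrCharacter.exists_degree hψ
  -- degree bound through induction
  have hle : e ≤ C.index * d := by
    have hind := CfsgLib.Char.IsCharacter.indFun (H := C) (CfsgLib.Char.IsIrrCharacter.isCharacter φ₀.2)
    obtain ⟨k, hk⟩ := CfsgLib.Char.IsCharacter.exists_nat_combination hind
    have hkψ : (k ⟨ψ, hψ⟩ : ℂ) = (m φ₀ : ℂ) := by
      rw [← CfsgLib.Char.classInner_sum_smul_irr (fun χ => (k χ : ℂ)) ⟨ψ, hψ⟩, ← hk,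
        CfsgLib.Char.classInner_indFun _ _ _ (CfsgLib.Char.IsIrrCharacter.isClassFunction hψ),
        ← CfsgLib.Char.classInner_conj_symm, hinner, map_natCast]
    have hk1 : k ⟨ψ, hψ⟩ ≠ 0 := by
      intro h0; apply hφ₀
      rw [h0] at hkψ; exact_mod_cast hkψ.symm
    have hev := congrFun hk 1
    simp only [CfsgLib.Char.indFun_apply_one, hd, Finset.sum_apply, Pi.smul_apply, smul_eq_mul] at hev
    choose deg hdeg using fun χ : Cfsg.IrrCharacter G =>
      CfsgLib.Char.IsCharacter.exists_degree (CfsgLib.Char.IsIrrCharacter.isCharacter χ.2)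
    simp only [hdeg] at hev
    have hev' : C.index * d = ∑ χ, k χ * deg χ := by exact_mod_cast hev
    have hde : deg ⟨ψ, hψ⟩ = e := by exact_mod_cast ((hdeg ⟨ψ, hψ⟩).symm.trans he)
    rw [hev', ← hde]
    exact le_trans (Nat.le_mul_of_pos_left _ (Nat.pos_of_ne_zero hk1))
      (Finset.single_le_sum (f := fun χ => k χ * deg χ) (fun _ _ => Nat.zero_le _) (Finset.mem_univ _))
  -- kernel of φ contains B
  have hBker : ∀ b : C, (b : G) ∈ B → φ b = (d : ℂ) := by
    intro b hb
    have h1 : ∑ χ : Cfsg.IrrCharacter C, (m χ : ℂ) * (χ : C → ℂ) b =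
        ∑ χ : Cfsg.IrrCharacter C, (m χ : ℂ) * (χ : C → ℂ) 1 := by
      have hb1 := congrFun hm b
      have h11 := congrFun hm 1
      simp only [Finset.sum_apply, Pi.smul_apply, smul_eq_mul, OneMemClass.coe_one] at hb1 h11
      rw [← hb1, ← h11, hker _ hb]
    have h1' := congrArg Complex.re h1
    rw [Complex.re_sum, Complex.re_sum] at h1'
    have hle' : ∀ χ ∈ (Finset.univ : Finset (Cfsg.IrrCharacter C)),
        ((m χ : ℂ) * (χ : C → ℂ) b).re ≤ ((m χ : ℂ) * (χ : C → ℂ) 1).re := by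
      intro χ _
      have hχ := CfsgLib.Char.IsIrrCharacter.isCharacter χ.2
      rw [← CfsgLib.Char.IsCharacter.degree_cast hχ]
      simp only [Complex.mul_re, Complex.natCast_re, Complex.natCast_im, zero_mul, sub_zero]
      exact mul_le_mul_of_nonneg_left
        ((Complex.re_le_norm _).trans (CfsgLib.Char.IsCharacter.norm_apply_le hχ b)) (Nat.cast_nonneg _)
    have h2 := (Finset.sum_eq_sum_iff_of_le hle').1 h1' φ₀ (Finset.mem_univ _)
    simp only [Complex.mul_re, Complex.natCast_re, Complex.natCast_im, zero_mul, sub_zero] at h2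
    have h3 : (φ b).re = (φ 1).re := mul_left_cancel₀ (Nat.cast_ne_zero.2 hφ₀) h2
    have h4 : ‖φ b‖ ≤ (d : ℝ) := by
      have hχ := CfsgLib.Char.IsIrrCharacter.isCharacter φ₀.2
      have h5 := CfsgLib.Char.IsCharacter.degree_cast hχ
      have : CfsgLib.Char.degree φ = d := by exact_mod_cast h5.trans hd
      have h6 := CfsgLib.Char.IsCharacter.norm_apply_le hχ b
      rwa [this] at h6
    rw [show φ 1 = (d : ℂ) from hd, Complex.natCast_re] at h3
    have h7 : (φ b).re ^ 2 + (φ b).im ^ 2 ≤ (d : ℝ) ^ 2 := by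
      calc _ = ‖φ b‖ ^ 2 := by rw [Complex.sq_norm, Complex.normSq_apply]; ring
        _ ≤ _ := by gcongr
    have h8 : (φ b).im = 0 := by rw [h3] at h7; nlinarith [sq_nonneg (φ b).im]
    exact Complex.ext (by simpa using h3) (by simpa using h8)
  -- D acts by scalars
  have hnormD : ∀ x : C, (x : G) ∈ D → ‖φ x‖ = (d : ℝ) := by
    intro x hx
    obtain ⟨n, ρ, hρ, hρφ⟩ := φ₀.2
    haveI := hρ
    have hdn : (Module.finrank ℂ (Fin n → ℂ) : ℂ) = d := by
      rw [← hd, ← hρφ, Representation.char_one]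
    have hB1 : ∀ b : C, (b : G) ∈ B → ρ b = 1 := by
      intro b hb
      refine (CfsgLib.Char.character_eq_degree_iff ρ b).1 ?_
      rw [hdn]
      exact (congrFun hρφ b).trans (hBker b hb)
    obtain ⟨c, hc⟩ := CfsgLib.Char.exists_scalar_of_commute ρ (ρ x) (fun g => by
      have h1 := hB1 (x * g * x⁻¹ * g⁻¹) (hcent x hx g g.2)
      calc ρ x * ρ g = ρ (x * g * x⁻¹ * g⁻¹) * ρ (g * x) := by
            rw [← map_mul, ← map_mul]; congr 1; group
        _ = ρ g * ρ x := by rw [h1, one_mul, map_mul])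
    have hpos := CfsgLib.Char.finrank_pos_of_irreducible ρ
    have hcn : ‖c‖ = 1 := by
      have hord : orderOf x ≠ 0 := (orderOf_pos x).ne'
      have h1 : ρ (x ^ orderOf x) = 1 := by rw [pow_orderOf_eq_one, map_one]
      rw [map_pow, hc, smul_pow, one_pow] at h1
      have h2 := congrArg (LinearMap.trace ℂ (Fin n → ℂ)) h1
      rw [map_smul, LinearMap.trace_one, smul_eq_mul] at h2
      have h3 := (mul_eq_right₀ (Nat.cast_ne_zero.2 hpos.ne')).1 h2
      exact Complex.norm_eq_one_of_pow_eq_one h3 hord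
    rw [show φ x = ρ.character x from (congrFun hρφ x).symm, Representation.character, hc, map_smul,
      LinearMap.trace_one, hdn, norm_smul, hcn, Complex.norm_natCast, one_mul]
  have hbound : (d : ℝ) ^ 2 * Nat.card D ≤ Nat.card C := by
    have h1 := CfsgLib.Char.classInner_irr_self φ₀.2
    rw [Cfsg.classInner, inv_mul_eq_iff_eq_mul₀ (Nat.cast_ne_zero.2 Nat.card_pos.ne'), mul_one] at h1
    have h2 : ∑ g : C, ‖φ g‖ ^ 2 = (Nat.card C : ℝ) := by
      have := congrArg Complex.re h1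
      rw [Complex.re_sum, Complex.natCast_re] at this
      rw [← this]
      refine Finset.sum_congr rfl fun g _ => ?_
      rw [Complex.mul_conj, Complex.ofReal_re, Complex.sq_norm]
    rw [← h2]
    calc (d : ℝ) ^ 2 * Nat.card D
        = ∑ g ∈ Finset.univ.filter (fun g : C => (g : G) ∈ D), ‖φ g‖ ^ 2 := by
          rw [Finset.sum_congr rfl (fun g hg => by rw [hnormD g (Finset.mem_filter.1 hg).2]),
            Finset.sum_const, nsmul_eq_mul, mul_comm, ← Fintype.card_subtype, ← Nat.card_eq_fintype_card]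
          congr 2
          exact (Nat.card_congr (Subgroup.subgroupOfEquivOfLe hDC).toEquiv).symm
      _ ≤ _ := Finset.sum_le_sum_of_subset_of_nonneg (Finset.filter_subset _ _)
          (fun _ _ _ => sq_nonneg _)
  have hG : (Nat.card G : ℝ) = (C.index : ℝ) * Nat.card C := by
    rw [← Nat.cast_mul, mul_comm, C.card_mul_index]
  rw [he, Complex.norm_natCast, hG]
  have hle' : (e : ℝ) ≤ (C.index : ℝ) * d := by exact_mod_cast hle
  calc (e : ℝ) ^ 2 * Nat.card C * Nat.card D
      ≤ ((C.index : ℝ) * d) ^ 2 * Nat.card C * Nat.card D := by gcongr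
    _ = (C.index : ℝ) ^ 2 * Nat.card C * ((d : ℝ) ^ 2 * Nat.card D) := by ring
    _ ≤ (C.index : ℝ) ^ 2 * Nat.card C * Nat.card C := by gcongr
    _ = _ := by ring

end Cfsg.Agent.S1492
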