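import Cfsg.Statements.S1519
import Cfsg.Agent.Lib.OddChar.Above
import Cfsg.Agent.S1492

set_option autoImplicit false
open Cfsg

namespace Cfsg.Agent.S1519

/-- Let K be a solvable normal subgroup of the finite group L and (S, τ, R) a coherence system from L to G where S is the set of functions induced from non-principal irreducible characters of K; write S(A) for those induced from characters whose kernel contains A. Let A, B, C, D be normal subgroups of L with A < K, B < K, B ≤ D ≤ C ≤ K and every commutator of D with C in B. If S(A) is coherent and 4 * [L:C]^2 * [C:D] < ([K:A] − 1)^2, then S(B) is coherent. -/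
theorem result {L : Type*} [Group L] [Fintype L] {G : Type*} [Group G] [Fintype G] (K : Subgroup L) [hK : K.Normal] (hsolv : Group.IsSolvable K) (τ : (L → ℂ) → (G → ℂ)) (R : (L → ℂ) → Finset (G → ℂ)) (hS : Cfsg.IsCoherenceSystem (Cfsg.inducedIrrAbove K ⊥) τ R) (A B C D : Subgroup L) [A.Normal] [B.Normal] [C.Normal] [D.Normal] (hAK : A < K) (hBK : B < K) (hBD : B ≤ D) (hDC : D ≤ C) (hCK : C ≤ K) (hcent : ∀ x ∈ D, ∀ y ∈ C, x * y * x⁻¹ * y⁻¹ ∈ B) (hA : Cfsg.IsCoherent (Cfsg.inducedIrrAbove K A) {1}ᶜ τ) (hlt : 4 * C.index ^ 2 * D.relIndex C < (A.relIndex K - 1) ^ 2) : Cfsg.IsCoherent (Cfsg.inducedIrrAbove K B) {1}ᶜ τ := by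
  refine CfsgLib.OddChar.Above.coherent_extend K hsolv hS A B hAK hBK hA fun θ hθ hker => ?_
  have hb := Cfsg.Agent.S1492.result θ hθ (B.subgroupOf K) (C.subgroupOf K) (D.subgroupOf K)
    (fun x hx => hBD hx) (fun x hx => hDC hx)
    (fun c _ b hb => Subgroup.Normal.conj_mem inferInstance b hb c)
    (fun d hd c hc => hcent _ hd _ hc) (fun b hb => hker b hb)
  rw [Nat.card_congr (Subgroup.subgroupOfEquivOfLe hCK).toEquiv,
    Nat.card_congr (Subgroup.subgroupOfEquivOfLe (hDC.trans hCK)).toEquiv,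
    ← CfsgLib.CharTools.degree_cast (CfsgLib.Char.IsIrrCharacter.isCharacter hθ),
    Complex.norm_natCast] at hb
  set m := Cfsg.charDegree θ
  have hb' : m ^ 2 * Nat.card C * Nat.card D ≤ Nat.card K ^ 2 := by exact_mod_cast hb
  have hK := K.card_mul_index
  have hC := C.card_mul_index
  have hD : D.relIndex C * Nat.card D = Nat.card C := by
    have h := (D.subgroupOf C).card_mul_index
    rw [Nat.card_congr (Subgroup.subgroupOfEquivOfLe hDC).toEquiv, mul_comm] at h
    exact h
  have hpos : 0 < Nat.card C * Nat.card D := Nat.mul_pos Nat.card_pos Nat.card_pos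
  have hsq : (K.index * m) ^ 2 ≤ C.index ^ 2 * D.relIndex C := by
    refine Nat.le_of_mul_le_mul_right ?_ hpos
    calc (K.index * m) ^ 2 * (Nat.card C * Nat.card D)
        = K.index ^ 2 * (m ^ 2 * Nat.card C * Nat.card D) := by ring
      _ ≤ K.index ^ 2 * Nat.card K ^ 2 := Nat.mul_le_mul_left _ hb'
      _ = (Nat.card C * C.index) ^ 2 := by rw [hC, ← hK]; ring
      _ = C.index ^ 2 * D.relIndex C * (Nat.card C * Nat.card D) := by
        conv_lhs => rw [mul_pow, pow_two (Nat.card C)]
        nth_rewrite 1 [← hD]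
        ring
  have h2 : (2 * (K.index * m)) ^ 2 < (A.relIndex K - 1) ^ 2 := by
    refine lt_of_le_of_lt ?_ hlt
    rw [mul_pow, mul_assoc]
    exact Nat.mul_le_mul_left _ hsq
  have h3 : 2 * (K.index * m) + 1 < A.relIndex K := by
    have := lt_of_pow_lt_pow_left' 2 h2
    omega
  have h4 : (2 : ℝ) * (K.index * m) + 1 < (A.relIndex K : ℝ) := by exact_mod_cast h3
  linarith

end Cfsg.Agent.S1519
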