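import Cfsg.Statements.S1520
import Cfsg.Agent.S1519
import Cfsg.Agent.Lib.OddChar.NilQuot

set_option autoImplicit false
open Cfsg

namespace Cfsg.Agent.S1520

/-- Let K be a solvable normal subgroup of the finite group L and (S, τ, R) a coherence system from L to G with S the functions induced from non-principal irreducible characters of K; S(A) the members of S induced from characters whose kernel contains A. Let M ≤ H₁ ≤ H ≤ K be normal subgroups of L such that every term of the lower central series of H eventually lies in M (H/M nilpotent), S(H₁) is coherent and [H:H₁] > 4 * [L:K]^2 + 1. Then S(M) is coherent. -/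
theorem result {L : Type*} [Group L] [Fintype L] {G : Type*} [Group G] [Fintype G] (K : Subgroup L) [hK : K.Normal] (hsolv : Group.IsSolvable K) (τ : (L → ℂ) → (G → ℂ)) (R : (L → ℂ) → Finset (G → ℂ)) (hS : Cfsg.IsCoherenceSystem (Cfsg.inducedIrrAbove K ⊥) τ R) (M H₁ H : Subgroup L) [M.Normal] [H₁.Normal] [H.Normal] (hMH₁ : M ≤ H₁) (hH₁H : H₁ ≤ H) (hHK : H ≤ K) [(M.subgroupOf H).Normal] (hnil : Group.IsNilpotent (↥H ⧸ M.subgroupOf H)) (hcoh : Cfsg.IsCoherent (Cfsg.inducedIrrAbove K H₁) {1}ᶜ τ) (hbig : 4 * K.index ^ 2 + 1 < H₁.relIndex H) : Cfsg.IsCoherent (Cfsg.inducedIrrAbove K M) {1}ᶜ τ := by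
  have hlt : H₁ < H := lt_of_le_of_ne hH₁H fun h => by
    rw [h, Subgroup.relIndex_self] at hbig; omega
  have claim : ∀ B : Subgroup L, B.Normal → M ≤ B → B ≤ H₁ →
      Cfsg.IsCoherent (Cfsg.inducedIrrAbove K B) {1}ᶜ τ := by
    intro B
    induction B using WellFoundedGT.induction with
    | ind B ih =>
      intro hBn hMB hBH
      rcases eq_or_lt_of_le hBH with rfl | hBlt
      · exact hcoh
      obtain ⟨D, ⟨hDn, hBD, hDH⟩, hDmin⟩ := (wellFounded_lt (α := Subgroup L)).has_min
        {E : Subgroup L | E.Normal ∧ B < E ∧ E ≤ H₁} ⟨H₁, inferInstance, hBlt, le_rfl⟩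
      haveI := hDn
      have hcent := CfsgLib.OddChar.NilQuot.commutator_mem_of_minimal M B D H hnil hMB hBD
        (hDH.trans hH₁H) fun E hEn hBE hED => by
          by_contra hne
          exact hDmin E ⟨hEn, hBE, hED.trans hDH⟩ (lt_of_le_of_ne hED hne)
      have hDK : D < K := lt_of_le_of_lt hDH (lt_of_lt_of_le hlt hHK)
      refine Cfsg.Agent.S1519.result K hsolv τ R hS D B H D hDK (hBD.trans hDK) hBD.le
        (hDH.trans hH₁H) hHK hcent (ih D hBD hDn (hMB.trans hBD.le) hDH) ?_
      have h1 := Subgroup.relIndex_mul_relIndex D H K (hDH.trans hH₁H) hHK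
      have h2 := Subgroup.relIndex_mul_relIndex D H₁ H hDH hH₁H
      rw [← h1, ← Subgroup.relIndex_mul_index hHK]
      have hk : 0 < H.relIndex K := Nat.pos_of_ne_zero (Subgroup.index_ne_zero_of_finite (H := H.subgroupOf K))
      have hx : 4 * K.index ^ 2 + 1 < D.relIndex H := by
        refine lt_of_lt_of_le hbig (Nat.le_of_dvd (Nat.pos_of_ne_zero (Subgroup.index_ne_zero_of_finite (H := D.subgroupOf H))) ?_)
        exact Dvd.intro_left _ h2
      generalize H.relIndex K = k at hk
      generalize D.relIndex H = x at hx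
      obtain ⟨t, ht⟩ : ∃ t, x * k = t + 1 := Nat.exists_eq_succ_of_ne_zero
        (Nat.mul_pos (by omega) hk).ne'
      rw [ht, Nat.add_sub_cancel]
      have ht' : (x : ℤ) * k = t + 1 := by exact_mod_cast ht
      have hx' : 4 * (K.index : ℤ) ^ 2 + 2 ≤ x := by exact_mod_cast hx
      have hk' : (1 : ℤ) ≤ k := by exact_mod_cast hk
      have key : 4 * ((k : ℤ) * K.index) ^ 2 * x < (t : ℤ) ^ 2 := by
        have hx0 : (0 : ℤ) ≤ x := Int.natCast_nonneg x
        have h4 := mul_le_mul_of_nonneg_left hx'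
          (mul_nonneg (mul_nonneg (sub_nonneg.2 hk') hx0) (by linarith : (0 : ℤ) ≤ k))
        have h5 := mul_le_mul_of_nonneg_left hx' (mul_nonneg hx0 (sq_nonneg (k : ℤ)))
        nlinarith [mul_nonneg (mul_nonneg hx0 (by linarith : (0 : ℤ) ≤ k)) (sub_nonneg.2 hk')]
      exact_mod_cast key
  exact claim M inferInstance le_rfl hMH₁

end Cfsg.Agent.S1520
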