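import Cfsg.Statements.S1521
import Cfsg.Agent.S1520
import Cfsg.Agent.Lib.Char.CentralOver
import Cfsg.Agent.Lib.OddChar.FrobSection

set_option autoImplicit false
open Cfsg

namespace Cfsg.Agent.S1521

/-- Let K be a solvable normal subgroup of the finite group L of odd order and (S, τ, R) a coherence system from L to G with S the functions induced from non-principal irreducible characters of K; S(A) as before. Let M ≤ K be normal in L with K/M nilpotent, H₁ = [K, K] ⊔ M, H₁ < K < L, and suppose every element of K outside H₁ is centralised modulo H₁ only from inside K (L/H₁ is a Frobenius group with kernel K/H₁). Suppose one of the following: some normal subgroup of L lies strictly between H₁ and K; or [K:H₁] > 4[L:K]^2 + 1; or [K:M] is not a prime power; or [K,K] ≤ M; or [K:M] is a power of a prime p with [L:K] dividing p − 1. Then S(M) is coherent. -/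
theorem result {L : Type*} [Group L] [Fintype L] {G : Type*} [Group G] [Fintype G] (K : Subgroup L) [hK : K.Normal] (hsolv : Group.IsSolvable K) (τ : (L → ℂ) → (G → ℂ)) (R : (L → ℂ) → Finset (G → ℂ)) (hS : Cfsg.IsCoherenceSystem (Cfsg.inducedIrrAbove K ⊥) τ R) (hodd : Odd (Nat.card L)) (M : Subgroup L) [M.Normal] (hMK : M ≤ K) [(M.subgroupOf K).Normal] (hnil : Group.IsNilpotent (↥K ⧸ M.subgroupOf K)) (H₁ : Subgroup L) (hH₁ : H₁ = ⁅K, K⁆ ⊔ M) (hH₁K : H₁ < K) (hKL : K < ⊤) (hfrob : ∀ k ∈ K, k ∉ H₁ → ∀ x : L, x * k * x⁻¹ * k⁻¹ ∈ H₁ → x ∈ K) (hgood : (∃ N : Subgroup L, N.Normal ∧ H₁ < N ∧ N < K) ∨ 4 * K.index ^ 2 + 1 < H₁.relIndex K ∨ (¬ ∃ p m : ℕ, p.Prime ∧ M.relIndex K = p ^ m) ∨ ⁅K, K⁆ ≤ M ∨ (∃ p m : ℕ, p.Prime ∧ M.relIndex K = p ^ m ∧ K.index ∣ p - 1)) : Cfsg.IsCoherent (Cfsg.inducedIrrAbove K M) {1}ᶜ τ := by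
  haveI hCn : (⁅K, K⁆ : Subgroup L).Normal := Subgroup.commutator_normal K K
  haveI hH₁n : H₁.Normal := hH₁ ▸ Subgroup.sup_normal _ _
  have hMH : M ≤ H₁ := hH₁ ▸ le_sup_right
  have hab : ∀ x ∈ K, ∀ y ∈ K, x * y * x⁻¹ * y⁻¹ ∈ H₁ := fun x hx y hy => by
    rw [hH₁, ← commutatorElement_def]
    exact Subgroup.mem_sup_left (Subgroup.commutator_mem_commutator hx hy)
  have hlin : ∀ φ ∈ Cfsg.inducedIrrAbove K H₁, φ 1 = (K.index : ℂ) := by
    rintro φ ⟨θ, hθ, -, hker, rfl⟩
    haveI : Fintype K := Fintype.ofFinite K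
    obtain ⟨ψ, hψ⟩ := CfsgLib.CharTools.exists_descend (H₁.subgroupOf K) hθ
      (fun n hn => hker n (Subgroup.mem_subgroupOf.1 hn))
    haveI : Fintype (↥K ⧸ H₁.subgroupOf K) := Fintype.ofFinite _
    have h1 := (CfsgLib.CharOver.abelian_irr (G := ↥K ⧸ H₁.subgroupOf K) (fun a b => by
      obtain ⟨x, rfl⟩ := QuotientGroup.mk_surjective a
      obtain ⟨y, rfl⟩ := QuotientGroup.mk_surjective b
      rw [← QuotientGroup.mk_mul, ← QuotientGroup.mk_mul, QuotientGroup.eq,
        Subgroup.mem_subgroupOf]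
      have := hab _ (K.inv_mem y.2) _ (K.inv_mem x.2)
      simpa [mul_assoc] using this) ψ.2).1
    rw [CfsgLib.Char.indFun_apply_one, ← hψ 1, QuotientGroup.mk_one, h1, mul_one]
  have hcohH : Cfsg.IsCoherent (Cfsg.inducedIrrAbove K H₁) {1}ᶜ τ := by
    obtain ⟨φ, hφ, -⟩ := CfsgLib.OddChar.Above.exists_linear_member K hsolv H₁ hH₁K
    exact CfsgLib.OddChar.Coh.coherent_of_constant (CfsgLib.OddChar.Above.system_subset hS
      (CfsgLib.OddChar.Above.above_mono K bot_le) ⟨φ, hφ⟩
      fun χ hχ => CfsgLib.OddChar.Above.above_conj K H₁ hχ)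
      fun φ hφ ψ hψ => (hlin φ hφ).trans (hlin ψ hψ).symm
  haveI : (K.subgroupOf K).Normal := inferInstance
  have caseB : 4 * K.index ^ 2 + 1 < H₁.relIndex K →
      Cfsg.IsCoherent (Cfsg.inducedIrrAbove K M) {1}ᶜ τ := fun h =>
    Cfsg.Agent.S1520.result K hsolv τ R hS M H₁ K hMH hH₁K.le le_rfl hnil hcohH h
  have caseD : ⁅K, K⁆ ≤ M → Cfsg.IsCoherent (Cfsg.inducedIrrAbove K M) {1}ᶜ τ := fun h => by
    rwa [show H₁ = M from hH₁.trans (sup_eq_right.2 h)] at hcohH
  have heodd : Odd K.index := hodd.of_dvd_nat K.index_dvd_card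
  have hodd' : ∀ {A B : Subgroup L}, Odd (A.relIndex B) := fun {A B} =>
    hodd.of_dvd_nat ((Subgroup.relIndex_dvd_card A B).trans B.card_subgroup_dvd_card)
  have hbigN : (∃ N : Subgroup L, N.Normal ∧ H₁ < N ∧ N < K) →
      4 * K.index ^ 2 + 1 < H₁.relIndex K := by
    rintro ⟨N, hNn, hHN, hNK⟩
    have e1 := CfsgLib.OddChar.FrobSection.index_dvd_relIndex_sub_one K H₁ N hHN.le hNK.le hab
      hfrob
    have e2 := CfsgLib.OddChar.FrobSection.index_dvd_relIndex_sub_one K H₁ K hH₁K.le le_rfl hab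
      hfrob
    have h12 := Subgroup.relIndex_mul_relIndex H₁ N K hHN.le hNK.le
    have a1 : H₁.relIndex N ≠ 1 := fun h => hHN.not_ge (Subgroup.relIndex_eq_one.1 h)
    have a2 : N.relIndex K ≠ 1 := fun h => hNK.not_ge (Subgroup.relIndex_eq_one.1 h)
    have o1 : Odd (H₁.relIndex N) := hodd'
    have o2 : Odd (N.relIndex K) := hodd'
    rw [← h12] at e2 ⊢
    generalize H₁.relIndex N = a at a1 o1 e1 e2
    generalize N.relIndex K = b at a2 o2 e2
    have ha0 : 0 < a := o1.pos
    have hb0 : 0 < b := o2.pos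
    have hab1 : a - 1 + a * (b - 1) = a * b - 1 := by
      rw [Nat.mul_sub, mul_one]
      have := Nat.le_mul_of_pos_right a hb0
      omega
    have e3 : K.index ∣ a * (b - 1) := (Nat.dvd_add_right e1).1 (hab1.symm ▸ e2)
    have hcop : Nat.Coprime K.index a := by
      obtain ⟨j, hj⟩ := e1
      rw [show a = 1 + K.index * j by omega, Nat.coprime_add_mul_left_right]
      exact Nat.coprime_one_right _
    have e4 := hcop.dvd_of_dvd_mul_left e3
    have key : ∀ c : ℕ, c ≠ 1 → Odd c → K.index ∣ c - 1 → 2 * K.index + 1 ≤ c := by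
      intro c hc hco ⟨j, hj⟩
      obtain ⟨i, rfl⟩ := hco
      have h2j : 2 ∣ j := (Nat.Coprime.dvd_of_dvd_mul_left (m := K.index)
        heodd.coprime_two_left ⟨i, by omega⟩)
      obtain ⟨j', rfl⟩ := h2j
      have : K.index * 1 ≤ K.index * j' := Nat.mul_le_mul_left _ (by
        rcases Nat.eq_zero_or_pos j' with rfl | h
        · omega
        · omega)
      have : K.index * (2 * j') = 2 * (K.index * j') := by ring
      omega
    have := Nat.mul_le_mul (key a a1 o1 e1) (key b a2 o2 e4)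
    have he0 := heodd.pos
    nlinarith
  have hH₁sub : H₁.subgroupOf K = commutator K ⊔ M.subgroupOf K := by
    apply Subgroup.map_injective K.subtype_injective
    rw [Subgroup.map_sup, Subgroup.map_subtype_commutator, Subgroup.subgroupOf_map_subtype,
      Subgroup.subgroupOf_map_subtype, inf_eq_left.2 hH₁K.le, inf_eq_left.2 hMK, hH₁]
  have hQidx : (commutator (↥K ⧸ M.subgroupOf K)).index = H₁.relIndex K := by
    have hsurj := QuotientGroup.mk'_surjective (M.subgroupOf K)
    have h : (H₁.subgroupOf K).map (QuotientGroup.mk' (M.subgroupOf K)) =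
        commutator (↥K ⧸ M.subgroupOf K) := by
      rw [hH₁sub, Subgroup.map_sup, QuotientGroup.map_mk'_self, sup_bot_eq, commutator_def,
        commutator_def, Subgroup.map_commutator, Subgroup.map_top_of_surjective _ hsurj]
    rw [← h, Subgroup.index_map_eq _ hsurj]
    · rfl
    · rw [QuotientGroup.ker_mk', hH₁sub]; exact le_sup_right
  haveI : Group.IsNilpotent (↥K ⧸ M.subgroupOf K) := hnil
  rcases hgood with h | h | h | h | ⟨p, m, hp, hm, hdvd⟩
  · exact caseB (hbigN h)
  · exact caseB h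
  · refine caseB (hbigN ?_)
    have hx : ¬ ∃ p r : ℕ, p.Prime ∧ H₁.relIndex K = p ^ r := by
      rintro ⟨p, r, hp, hr⟩
      obtain ⟨m, hm⟩ := CfsgLib.OddChar.FrobSection.card_prime_pow_of_commutator_index hp
        (hQidx.trans hr)
      exact h ⟨p, m, hp, by rw [← hm]; rfl⟩
    exact CfsgLib.OddChar.FrobSection.exists_normal_between K H₁ hH₁K hab hx
  · exact caseD h
  · have hpodd : Odd p := by
      rcases hp.eq_two_or_odd' with rfl | h
      · exfalso
        have hc : M.relIndex K ≠ 1 := fun h =>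
          hH₁K.not_ge ((Subgroup.relIndex_eq_one.1 h).trans hMH)
        have ho : Odd (M.relIndex K) := hodd'
        rw [hm] at hc ho
        rcases Nat.eq_zero_or_pos m with rfl | hpos
        · exact hc (pow_zero 2)
        · exact Nat.not_even_iff_odd.2 ho ((Nat.even_pow).2 ⟨even_two, hpos.ne'⟩)
      · exact h
    obtain ⟨r, -, hr⟩ := (Nat.dvd_prime_pow hp).1
      (hm ▸ Subgroup.relIndex_dvd_of_le_left K hMH)
    have hr0 : r ≠ 0 := fun h0 =>
      hH₁K.not_ge (Subgroup.relIndex_eq_one.1 (by rw [hr, h0, pow_zero]))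
    by_cases hr1 : r = 1
    · refine caseD ?_
      have hbot := CfsgLib.OddChar.FrobSection.commutator_eq_bot_of_index_prime
        (Q := ↥K ⧸ M.subgroupOf K) (by rw [hQidx, hr, hr1, pow_one]; exact hp)
      have hsub : commutator K ≤ M.subgroupOf K := by
        rw [← QuotientGroup.ker_mk' (M.subgroupOf K), ← Subgroup.map_eq_bot_iff, commutator_def,
          Subgroup.map_commutator,
          Subgroup.map_top_of_surjective _ (QuotientGroup.mk'_surjective _)]
        exact hbot
      rw [← Subgroup.map_subtype_commutator]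
      exact (Subgroup.map_mono hsub).trans (by
        rw [Subgroup.subgroupOf_map_subtype]; exact inf_le_left)
    · refine caseB ?_
      obtain ⟨j, hj⟩ := hdvd
      obtain ⟨i, rfl⟩ := hpodd
      have h2j : 2 ∣ j := (Nat.Coprime.dvd_of_dvd_mul_left (m := K.index)
        heodd.coprime_two_left ⟨i, by omega⟩)
      obtain ⟨j', rfl⟩ := h2j
      have hj' : 0 < j' := by
        rcases Nat.eq_zero_or_pos j' with rfl | h
        · have := hp.two_le; omega
        · exact h
      have h5 : 2 * K.index + 1 ≤ 2 * i + 1 := by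
        have := Nat.mul_le_mul_left K.index hj'
        have : K.index * (2 * j') = 2 * (K.index * j') := by ring
        omega
      rw [hr]
      have h6 : (2 * i + 1) ^ 2 ≤ (2 * i + 1) ^ r :=
        Nat.pow_le_pow_right (by omega) (by omega)
      have := Nat.mul_le_mul h5 h5
      have he0 := heodd.pos
      nlinarith

end Cfsg.Agent.S1521
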