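import Cfsg.Statements.S1389
import Cfsg.Agent.Lib.OddOrder.Section16TypeCore

set_option autoImplicit false
set_option linter.style.haveILetI false
open Cfsg

namespace Cfsg.Agent.S1389

/-- Let G be a minimal simple group of odd order and M a maximal subgroup, and let M_s be M' if M is of Type III or IV and M_F otherwise. Then N_G(P) ≤ M for every nontrivial Sylow subgroup P of M_s, and both M_F and M_s have order coprime to their index in G. -/
theorem result {G : Type*} [Group G] [Finite G] (hG : Cfsg.IsMinSimpleOddOrder G)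
    (M : Subgroup G) (hM : IsCoatom M) :
    (∀ (p : ℕ), p.Prime → ∀ (P : Sylow p ↥(Cfsg.typeCore M)), (P : Subgroup ↥(Cfsg.typeCore M)) ≠ ⊥ →
        Subgroup.normalizer ((((P : Subgroup ↥(Cfsg.typeCore M)).map (Cfsg.typeCore M).subtype : Subgroup G)) : Set G) ≤ M) ∧
      (Nat.card (Cfsg.fittingHallOf M)).Coprime (Cfsg.fittingHallOf M).index ∧
      (Nat.card (Cfsg.typeCore M)).Coprime (Cfsg.typeCore M).index := by
  rw [CfsgLib.OddOrder.typeCore_eq_sigmaCore hG hM]
  have hh := CfsgLib.OddOrder.hall_of_subset hG hM (π := Cfsg.sigma M) subset_rfl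
    fun p _ S hp => CfsgLib.OddOrder.sylow_le_sigmaCore hG hM hp S
  have hH := CfsgLib.OddOrder.fittingHallOf_le_sigmaCore hG hM
  set S := Cfsg.sigmaCore M
  have hSM : S ≤ M := CfsgLib.OddOrder.piCoreOf_le _ M
  have hco : (Nat.card S).Coprime S.index :=
    Nat.coprime_of_dvd fun q hq h1 h2 => hh.2.2 q hq (hh.2.1 q hq h1) h2
  refine ⟨fun p hp P hP => ?_, ?_, hco⟩
  · haveI := Fact.mk hp
    have hd : p ∣ Nat.card S := by
      obtain ⟨n, hn⟩ := IsPGroup.iff_card.1 P.2
      rcases n with _ | n
      · rw [pow_zero, Subgroup.card_eq_one] at hn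
        exact absurd hn hP
      · exact (dvd_pow_self p n.succ_ne_zero).trans (hn ▸ Subgroup.card_subgroup_dvd_card _)
    have hσ : p ∈ Cfsg.sigma M := hh.2.1 p hp hd
    have hPS : (P : Subgroup S).map S.subtype ≤ S := Subgroup.map_subtype_le _
    set T := ((P : Subgroup S).map S.subtype).subgroupOf M with hT
    have hTp : IsPGroup p T :=
      (P.2.map S.subtype).of_equiv (Subgroup.subgroupOfEquivOfLe (hPS.trans hSM)).symm
    have hTi : ¬ p ∣ T.index := by
      intro hd'
      change p ∣ ((P : Subgroup S).map S.subtype).relIndex M at hd'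
      rw [← Subgroup.relIndex_mul_relIndex _ _ _ hPS hSM, Subgroup.relIndex, Subgroup.subgroupOf,
        Subgroup.comap_map_eq_self_of_injective S.subtype_injective] at hd'
      rcases hp.dvd_mul.1 hd' with h | h
      · exact P.not_dvd_index h
      · exact hh.1.2.2 p hp hσ h
    have hmax := CfsgLib.OddOrder.isMaxPIn_of_sylow (hTp.toSylow hTi)
    rw [IsPGroup.toSylow_coe, hT, Subgroup.map_subgroupOf_eq_of_le (hPS.trans hSM)] at hmax
    exact CfsgLib.OddOrder.normalizer_le_of_sigma hσ hmax
  · rw [← Subgroup.relIndex_mul_index hH]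
    refine Nat.Coprime.mul_right ?_ (hco.coprime_dvd_left (Subgroup.card_dvd_of_le hH))
    exact (CfsgLib.OddOrder.fittingHallOf_coprime_relIndex M).coprime_dvd_right
      (Dvd.intro _ (Subgroup.relIndex_mul_relIndex _ _ M hH hSM))

end Cfsg.Agent.S1389
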