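import Cfsg.Statements.S1510
import Cfsg.Agent.Lib.OddChar.Coprime
import Mathlib.GroupTheory.SpecificGroups.Cyclic
import Mathlib.Tactic.Group

set_option autoImplicit false
open Cfsg

namespace Cfsg.Agent.S1510

/-- Let L be a finite group with a normal subgroup K and a nontrivial cyclic subgroup W₁ of order coprime to its index, K ⊓ W₁ = ⊥ and K ⊔ W₁ = ⊤; let W₂ ≠ ⊥ be a cyclic subgroup of K with K ⊓ C_L(x) = W₂ for every non-identity x ∈ W₁, and suppose W₁ ⊔ W₂ has odd order. Then (W₁, W₂) is a self-normalising cyclic pair in L. -/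
theorem result {L : Type*} [Group L] [Fintype L] (K W₁ W₂ : Subgroup L) [hK : K.Normal] (hKW₁ : K ⊓ W₁ = ⊥) (hKW₁' : K ⊔ W₁ = ⊤) (hW₁ : W₁ ≠ ⊥) (hW₁c : IsCyclic W₁) (hHall : Nat.Coprime (Nat.card W₁) W₁.index) (hW₂ : W₂ ≠ ⊥) (hW₂c : IsCyclic W₂) (hW₂K : W₂ ≤ K) (hC : ∀ x ∈ W₁, x ≠ 1 → K ⊓ Subgroup.centralizer ({x} : Set L) = W₂) (hodd : Odd (Nat.card ↥(W₁ ⊔ W₂))) : Cfsg.IsSelfNormalizingCyclic W₁ W₂ := by
  classical
  set W := W₁ ⊔ W₂ with hWdef
  obtain ⟨a₀, ha₀, ha₀1⟩ : ∃ a ∈ W₁, a ≠ (1 : L) := by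
    by_contra h
    simp only [not_exists, not_and, not_not] at h
    exact hW₁ (eq_bot_iff.2 fun a ha => Subgroup.mem_bot.2 (h a ha))
  have hcomm : ∀ a ∈ W₁, ∀ b ∈ W₂, a * b = b * a := by
    intro a ha b hb
    by_cases h : a = 1
    · simp [h]
    · rw [← hC a ha h] at hb
      exact (Subgroup.mem_centralizer_singleton_iff.1 hb.2).symm
  have hab : ∀ a ∈ W₁, ∀ a' ∈ W₁, a * a' = a' * a := by
    intro a ha a' ha'
    haveI := hW₁c
    letI : CommGroup W₁ := IsCyclic.commGroup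
    exact congrArg Subtype.val (mul_comm (⟨a, ha⟩ : W₁) ⟨a', ha'⟩)
  have hbb : ∀ b ∈ W₂, ∀ b' ∈ W₂, b * b' = b' * b := by
    intro a ha a' ha'
    haveI := hW₂c
    letI : CommGroup W₂ := IsCyclic.commGroup
    exact congrArg Subtype.val (mul_comm (⟨a, ha⟩ : W₂) ⟨a', ha'⟩)
  have hdecK : ∀ g : L, ∃ k ∈ K, ∃ w ∈ W₁, k * w = g := by
    intro g
    have hg : g ∈ K ⊔ W₁ := hKW₁' ▸ Subgroup.mem_top g
    rw [← SetLike.mem_coe, Subgroup.normal_mul] at hg
    obtain ⟨k, hk, w, hw, e⟩ := hg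
    exact ⟨k, hk, w, hw, e⟩
  have hcop : Nat.Coprime (Nat.card W₁) (Nat.card K) := by
    have hc : Subgroup.IsComplement' K W₁ :=
      Subgroup.isComplement'_of_disjoint_and_mul_eq_univ (disjoint_iff.2 hKW₁) (by
        rw [← Subgroup.normal_mul, hKW₁', Subgroup.coe_top])
    rwa [hc.index_eq_card] at hHall
  have hdec : ∀ x ∈ W, ∃ a ∈ W₁, ∃ b ∈ W₂, a * b = x := by
    intro x hx
    rw [hWdef, ← SetLike.mem_coe, Subgroup.coe_mul_of_left_le_normalizer_right W₁ W₂] at hx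
    · obtain ⟨a, ha, b, hb, e⟩ := hx
      exact ⟨a, ha, b, hb, e⟩
    · intro a ha
      refine Subgroup.mem_normalizer_iff.2 fun b => ⟨fun hb => ?_, fun hb => ?_⟩
      · rw [hcomm a ha b hb]; simpa using hb
      · have : b = a⁻¹ * (a * b * a⁻¹) * a := by group
        rw [this, hcomm a⁻¹ (inv_mem ha) _ hb]
        simpa using hb
  obtain ⟨k, hk⟩ := CfsgLib.OddChar.exists_pow_split (G := L) hcop
  have hsplit : ∀ a ∈ W₁, ∀ b ∈ W₂, (a * b) ^ k = a := fun a ha b hb =>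
    hk a b (hcomm a ha b hb) (CfsgLib.OddChar.pow_card_mem ha)
      (CfsgLib.OddChar.pow_card_mem (hW₂K hb))
  have hdisj : W₁ ⊓ W₂ = ⊥ := eq_bot_iff.2 fun x hx => hKW₁.le ⟨hW₂K hx.2, hx.1⟩
  have habel : ∀ x ∈ W, ∀ y ∈ W, x * y = y * x := by
    intro x hx y hy
    obtain ⟨a, ha, b, hb, rfl⟩ := hdec x hx
    obtain ⟨a', ha', b', hb', rfl⟩ := hdec y hy
    have c1 : Commute a a' := hab a ha a' ha'
    have c2 : Commute a b' := hcomm a ha b' hb'
    have c3 : Commute b a' := (hcomm a' ha' b hb).symm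
    have c4 : Commute b b' := hbb b hb b' hb'
    exact ((c1.mul_right c2).mul_left (c3.mul_right c4)).eq
  refine ⟨hW₁, hW₂, hdisj, hcomm, ?_, ?_⟩
  · obtain ⟨⟨a, ha⟩, hga⟩ := hW₁c.exists_generator
    obtain ⟨⟨b, hb⟩, hgb⟩ := hW₂c.exists_generator
    have hle : W ≤ Subgroup.zpowers (a * b) := by
      have ha' : a ∈ Subgroup.zpowers (a * b) := ⟨k, by simpa using hsplit a ha b hb⟩
      have hb' : b ∈ Subgroup.zpowers (a * b) := by
        simpa using mul_mem (inv_mem ha') (Subgroup.mem_zpowers (a * b))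
      refine sup_le (fun x hx => ?_) (fun x hx => ?_)
      · obtain ⟨n, hn⟩ := hga ⟨x, hx⟩
        rw [show x = a ^ n from (congrArg Subtype.val hn).symm]
        exact zpow_mem ha' n
      · obtain ⟨n, hn⟩ := hgb ⟨x, hx⟩
        rw [show x = b ^ n from (congrArg Subtype.val hn).symm]
        exact zpow_mem hb' n
    exact Subgroup.isCyclic_of_le hle
  · intro X hX hne
    apply le_antisymm
    · intro g hg
      obtain ⟨x, hx⟩ := hne
      obtain ⟨hxW, hx12⟩ := hX hx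
      have hgx := (Subgroup.mem_set_normalizer_iff.1 hg x).1 hx
      obtain ⟨hgxW, -⟩ := hX hgx
      obtain ⟨a, ha, b, hb, hab'⟩ := hdec x hxW
      obtain ⟨a', ha', b', hb', hab''⟩ := hdec _ hgxW
      have ha1 : a ≠ 1 := by
        rintro rfl
        rw [one_mul] at hab'
        exact hx12 (Or.inr (hab' ▸ hb))
      have h1 : g * a * g⁻¹ = a' := by
        rw [← hsplit a' ha' b' hb', hab'', ← hab', conj_pow, hsplit a ha b hb]
      obtain ⟨c, hc, w, hw, rfl⟩ := hdecK g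
      have h2 : c * a * c⁻¹ = a' := by
        rw [← h1]
        calc c * a * c⁻¹ = c * (a * w) * w⁻¹ * c⁻¹ := by group
          _ = c * (w * a) * w⁻¹ * c⁻¹ := by rw [hab a ha w hw]
          _ = _ := by group
      have h3 : a' * a⁻¹ = 1 := by
        rw [← Subgroup.mem_bot, ← hKW₁]
        refine ⟨?_, W₁.mul_mem ha' (W₁.inv_mem ha)⟩
        rw [← h2, show c * a * c⁻¹ * a⁻¹ = c * (a * c⁻¹ * a⁻¹) by group]
        exact K.mul_mem hc (hK.conj_mem _ (K.inv_mem hc) a)
      have h4 : c ∈ W₂ := by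
        rw [← hC a ha ha1]
        refine ⟨hc, Subgroup.mem_centralizer_singleton_iff.2 ?_⟩
        calc c * a = c * a * c⁻¹ * c := by group
          _ = a * c := by rw [h2, mul_inv_eq_one.1 h3]
      exact mul_mem (Subgroup.mem_sup_right h4) (Subgroup.mem_sup_left hw)
    · intro g hg
      rw [Subgroup.mem_set_normalizer_iff]
      intro x
      constructor
      · intro hx
        rw [habel g hg x (hX hx).1]
        simpa using hx
      · intro hx
        have e : x = g * x * g⁻¹ := by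
          have := habel g hg _ (hX hx).1
          calc x = g⁻¹ * (g * x * g⁻¹ * g) := by group
            _ = _ := by rw [← this]; group
        rwa [e]

end Cfsg.Agent.S1510
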