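import Cfsg.Statements.S1491
import Cfsg.Agent.Lib.OddChar.AbelInertia

set_option autoImplicit false
open Cfsg

namespace Cfsg.Agent.S1491

/-- Let H be a normal subgroup of the finite group G and θ an irreducible character of H with inertia group T, where T/H is abelian (commutators of T lie in H) and the index of H in T is coprime to the order of H. Then the function induced from θ is the sum of a set of exactly [T:H] irreducible characters of G, each of degree [G:T] * θ(1). -/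
theorem result {G : Type*} [Group G] [Fintype G] (H T : Subgroup G) [hN : H.Normal] (θ : H → ℂ) (hθ : Cfsg.IsIrrCharacter H θ) (hT : ∀ g : G, g ∈ T ↔ ∀ h : H, θ ⟨g * h * g⁻¹, hN.conj_mem h h.2 g⟩ = θ h) (hab : ∀ x ∈ T, ∀ y ∈ T, x * y * x⁻¹ * y⁻¹ ∈ H) (hcop : Nat.Coprime (Nat.card H) (H.relIndex T)) : ∃ C : Finset (G → ℂ), (∀ χ ∈ C, Cfsg.IsIrrCharacter G χ) ∧ C.card = H.relIndex T ∧ Cfsg.indFun H θ = ∑ χ ∈ C, χ ∧ ∀ χ ∈ C, χ 1 = (T.index : ℂ) * θ 1 := by
  classical
  haveI : Fintype H := Fintype.ofFinite H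
  haveI : Fintype T := Fintype.ofFinite T
  have hHT : H ≤ T := fun x hx => (hT x).2 fun h =>
    CfsgLib.Char.IsIrrCharacter.isClassFunction hθ h ⟨x, hx⟩
  haveI : Fintype (H.subgroupOf T) := Fintype.ofFinite _
  haveI : (H.subgroupOf T).Normal := inferInstance
  set θ' : H.subgroupOf T → ℂ := fun x => θ ⟨(x : T), Subgroup.mem_subgroupOf.mp x.2⟩
  have hθ' : Cfsg.IsIrrCharacter (H.subgroupOf T) θ' :=
    CfsgLib.OddChar.AbelInertia.isIrr_transport H T hHT hθ
  have hinv : ∀ g, CfsgLib.CharTwist.conjFun (H.subgroupOf T) θ' g = θ' := fun g =>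
    funext fun x => (hT g).1 g.2 ⟨(x : T), Subgroup.mem_subgroupOf.mp x.2⟩
  have hab' : ∀ x y : T, x * y * x⁻¹ * y⁻¹ ∈ H.subgroupOf T := fun x y =>
    Subgroup.mem_subgroupOf.2 (hab x x.2 y y.2)
  obtain ⟨ψ, hψ, hext⟩ := CfsgLib.OddChar.AbelInertia.exists_ext_coprime (H.subgroupOf T) hθ' hinv
    (by rw [Nat.card_congr (Subgroup.subgroupOfEquivOfLe hHT).toEquiv]; exact hcop)
  obtain ⟨C, hC, hcard, hdec, hdeg, hne⟩ := CfsgLib.OddChar.AbelInertia.invariant_decomp
    (H.subgroupOf T) hab' hθ' hinv hψ one_pos (fun h => by rw [hext h, Nat.cast_one, one_mul])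
  obtain ⟨D, hD, hDc, hDd, hD1⟩ := CfsgLib.OddChar.AbelInertia.induce_up H T hθ hT hHT 1 C hC hdec
    hne hdeg
  refine ⟨D, hD, ?_, ?_, fun χ hχ => by simpa using hD1 χ hχ⟩
  · rw [one_pow, one_mul] at hcard
    exact hDc.trans hcard
  · rw [hDd, Nat.cast_one, one_smul]

end Cfsg.Agent.S1491
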