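import Cfsg.Statements.S1513
import Cfsg.Agent.Lib.OddChar.FixedClasses
import Cfsg.Agent.Lib.Char.InertiaNorm
import Cfsg.Agent.S1491

set_option autoImplicit false
open Cfsg

namespace Cfsg.Agent.S1513

/-- Let L be a finite group with K normal with complement W₁ ≠ 1 a cyclic Hall subgroup, and W₂ ≠ 1 a cyclic subgroup of K equal to C_K(x) for every non-identity x ∈ W₁, with W₁W₂ of odd order. For an irreducible character θ of K: if θ is not fixed under conjugation by some element of W₁, then the function induced from θ to L is an irreducible character of L; and the irreducible characters of K fixed by all of W₁ are exactly Nat.card W₂ in number, each inducing to the sum of Nat.card W₁ pairwise distinct irreducible characters of L. -/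
theorem result {L : Type*} [Group L] [Fintype L] (K W₁ W₂ : Subgroup L) [hK : K.Normal] (hKW₁ : K ⊓ W₁ = ⊥) (hKW₁' : K ⊔ W₁ = ⊤) (hW₁ : W₁ ≠ ⊥) (hW₁c : IsCyclic W₁) (hHall : Nat.Coprime (Nat.card W₁) W₁.index) (hW₂ : W₂ ≠ ⊥) (hW₂c : IsCyclic W₂) (hW₂K : W₂ ≤ K) (hC : ∀ x ∈ W₁, x ≠ 1 → K ⊓ Subgroup.centralizer ({x} : Set L) = W₂) (hodd : Odd (Nat.card ↥(W₁ ⊔ W₂))) : (∀ θ : K → ℂ, Cfsg.IsIrrCharacter K θ → (∃ x ∈ W₁, (fun k : K => θ ⟨x * k * x⁻¹, hK.conj_mem (k : L) k.2 x⟩) ≠ θ) → Cfsg.IsIrrCharacter L (Cfsg.indFun K θ)) ∧ Nat.card {θ : Cfsg.IrrCharacter K // ∀ x ∈ W₁, (fun k : K => (θ : K → ℂ) ⟨x * k * x⁻¹, hK.conj_mem (k : L) k.2 x⟩) = θ} = Nat.card W₂ ∧ (∀ θ : K → ℂ, Cfsg.IsIrrCharacter K θ → (∀ x ∈ W₁, (fun k : K => θ ⟨x * k * x⁻¹, hK.conj_mem (k : L) k.2 x⟩) = θ) → ∃ C : Finset (L → ℂ), C.card = Nat.card W₁ ∧ (∀ μ ∈ C, Cfsg.IsIrrCharacter L μ) ∧ Cfsg.indFun K θ = ∑ μ ∈ C, μ) := by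
  classical
  haveI : Fintype K := Fintype.ofFinite K
  have hcompl : Subgroup.IsComplement' K W₁ := by
    refine Subgroup.isComplement'_of_disjoint_and_mul_eq_univ (disjoint_iff.2 hKW₁) ?_
    rw [← Subgroup.normal_mul, hKW₁']
    rfl
  have hdec : ∀ g : L, ∃ k ∈ K, ∃ w ∈ W₁, g = k * w := fun g => by
    obtain ⟨⟨k, w⟩, rfl⟩ := hcompl.2 g
    exact ⟨k, k.2, w, w.2, rfl⟩
  have hidx : W₁.index = Nat.card K := hcompl.index_eq_card
  have hcop : ∀ y ∈ W₁, Nat.Coprime (orderOf y) (Nat.card K) := fun y hy => by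
    rw [← hidx]
    refine hHall.coprime_dvd_left ?_
    have := orderOf_dvd_natCard (⟨y, hy⟩ : W₁)
    rwa [Subgroup.orderOf_mk] at this
  have habW : ∀ a ∈ W₂, ∀ b ∈ W₂, a * b = b * a := fun a ha b hb => by
    haveI := hW₂c
    letI : CommGroup W₂ := IsCyclic.commGroup
    exact congrArg Subtype.val (mul_comm (⟨a, ha⟩ : W₂) ⟨b, hb⟩)
  have hcount : ∀ y ∈ W₁, y ≠ 1 →
      Nat.card {θ : Cfsg.IrrCharacter K // CfsgLib.CharTwist.conjFun K (θ : K → ℂ) y = θ} =
        Nat.card W₂ := fun y hy hy1 =>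
    CfsgLib.OddChar.card_fixed_irr_of_coprime K y (hcop y hy) W₂ (hC y hy hy1) habW
  obtain ⟨⟨x₀, hx₀⟩, hgen⟩ := hW₁c.exists_generator
  have hpow : ∀ y ∈ W₁, y ∈ Subgroup.zpowers x₀ := fun y hy => by
    obtain ⟨i, hi⟩ := Subgroup.mem_zpowers_iff.1 (hgen ⟨y, hy⟩)
    exact Subgroup.mem_zpowers_iff.2 ⟨i, by simpa using congrArg Subtype.val hi⟩
  have hx₀1 : x₀ ≠ 1 := fun h => hW₁ ((Subgroup.eq_bot_iff_forall _).2 fun y hy => by
    have := hpow y hy
    rwa [h, Subgroup.zpowers_one_eq_bot, Subgroup.mem_bot] at this)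
  have hall : ∀ (θ : K → ℂ), CfsgLib.CharTwist.conjFun K θ x₀ = θ →
      ∀ x ∈ W₁, CfsgLib.CharTwist.conjFun K θ x = θ := fun θ h x hx =>
    Subgroup.zpowers_le.2 (show x₀ ∈ CfsgLib.CharTwist.inertia K θ from h) (hpow x hx)
  have hone : ∀ θ : K → ℂ, Cfsg.IsIrrCharacter K θ → ∀ y ∈ W₁, y ≠ 1 →
      CfsgLib.CharTwist.conjFun K θ y = θ → CfsgLib.CharTwist.conjFun K θ x₀ = θ := by
    intro θ hθ y hy hy1 h
    let A : Finset (Cfsg.IrrCharacter K) :=
      Finset.univ.filter fun t => CfsgLib.CharTwist.conjFun K (t : K → ℂ) x₀ = t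
    let B : Finset (Cfsg.IrrCharacter K) :=
      Finset.univ.filter fun t => CfsgLib.CharTwist.conjFun K (t : K → ℂ) y = t
    have hAB : A ⊆ B := fun t ht => Finset.mem_filter.2 ⟨Finset.mem_univ _,
      hall _ (Finset.mem_filter.1 ht).2 y hy⟩
    have he : B.card ≤ A.card := by
      simp only [A, B, ← Fintype.card_subtype, ← Nat.card_eq_fintype_card]
      rw [hcount y hy hy1, hcount x₀ hx₀ hx₀1]
    have : (⟨θ, hθ⟩ : Cfsg.IrrCharacter K) ∈ A := by
      rw [Finset.eq_of_subset_of_card_le hAB he]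
      exact Finset.mem_filter.2 ⟨Finset.mem_univ _, h⟩
    exact (Finset.mem_filter.1 this).2
  refine ⟨fun θ hθ ⟨x, hx, hne⟩ => ?_, ?_, fun θ hθ hfix => ?_⟩
  · refine CfsgLib.Char.IsCharacter.isIrrCharacter_of_classInner_self
      (CfsgLib.Char.IsCharacter.indFun K (CfsgLib.Char.IsIrrCharacter.isCharacter hθ)) ?_
    have hiner : CfsgLib.CharTwist.inertia K θ = K := by
      refine le_antisymm (fun g hg => ?_) (CfsgLib.CharTwist.le_inertia K
        (CfsgLib.Char.IsIrrCharacter.isClassFunction hθ))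
      obtain ⟨k, hk, w, hw, rfl⟩ := hdec g
      by_cases hw1 : w = 1
      · rw [hw1, mul_one]; exact hk
      · exfalso
        have hkin := CfsgLib.CharTwist.le_inertia K
          (CfsgLib.Char.IsIrrCharacter.isClassFunction hθ) hk
        have hwin : w ∈ CfsgLib.CharTwist.inertia K θ := by
          have := (CfsgLib.CharTwist.inertia K θ).mul_mem
            ((CfsgLib.CharTwist.inertia K θ).inv_mem hkin) hg
          rwa [inv_mul_cancel_left] at this
        exact hne (hall θ (hone θ hθ w hw hw1 hwin) x hx)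
    have h := CfsgLib.CharTwist.card_mul_classInner_indFun K hθ hθ
    rw [show Nat.card {g : L // CfsgLib.CharTwist.conjFun K θ g = θ} = Nat.card K from
      congrArg (fun S : Subgroup L => Nat.card S) hiner] at h
    exact mul_eq_left₀ (Nat.cast_ne_zero.2 Nat.card_pos.ne') |>.1 h
  · rw [← hcount x₀ hx₀ hx₀1]
    exact Nat.card_congr (Equiv.subtypeEquivRight fun t =>
      ⟨fun h => h x₀ hx₀, fun h x hx => hall _ h x hx⟩)
  · have hT : ∀ g : L, g ∈ (⊤ : Subgroup L) ↔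
        ∀ h : K, θ ⟨g * h * g⁻¹, hK.conj_mem h h.2 g⟩ = θ h := fun g => by
      refine ⟨fun _ h => ?_, fun _ => Subgroup.mem_top g⟩
      obtain ⟨k, hk, w, hw, rfl⟩ := hdec g
      have hin : k * w ∈ CfsgLib.CharTwist.inertia K θ :=
        (CfsgLib.CharTwist.inertia K θ).mul_mem (CfsgLib.CharTwist.le_inertia K
          (CfsgLib.Char.IsIrrCharacter.isClassFunction hθ) hk) (hfix w hw)
      exact congrFun hin h
    have hab : ∀ x ∈ (⊤ : Subgroup L), ∀ y ∈ (⊤ : Subgroup L), x * y * x⁻¹ * y⁻¹ ∈ K := by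
      intro x _ y _
      rw [← QuotientGroup.ker_mk' K, MonoidHom.mem_ker]
      obtain ⟨a, ha, u, hu, rfl⟩ := hdec x
      obtain ⟨b, hb, v, hv, rfl⟩ := hdec y
      have huv : u * v = v * u := by
        letI : CommGroup W₁ := @IsCyclic.commGroup _ _ hW₁c
        exact congrArg Subtype.val (mul_comm (⟨u, hu⟩ : W₁) ⟨v, hv⟩)
      have h1 : QuotientGroup.mk' K a = 1 := (QuotientGroup.eq_one_iff a).2 ha
      have h2 : QuotientGroup.mk' K b = 1 := (QuotientGroup.eq_one_iff b).2 hb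
      simp only [map_mul, map_inv, h1, h2, one_mul]
      rw [← map_mul, huv, map_mul]
      group
    have hKW : K.index = Nat.card W₁ := hcompl.symm.index_eq_card
    obtain ⟨C, hC1, hC2, hC3, -⟩ := Cfsg.Agent.S1491.result K ⊤ θ hθ hT hab (by
      rw [Subgroup.relIndex_top_right, hKW, ← hidx]; exact hHall.symm)
    exact ⟨C, by rw [hC2, Subgroup.relIndex_top_right, hKW], hC1, hC3⟩

end Cfsg.Agent.S1513
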