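import Cfsg.Statements.S0949
import Cfsg.Agent.Lib.Invol.HomocyclicSylow

set_option autoImplicit false
open Cfsg

namespace Cfsg.Agent.S0949

/-- Let the finite group G have a Sylow 2-subgroup P isomorphic to Z/2^m × Z/2^m with m ≥ 2, and suppose G has no nontrivial normal subgroup of odd order. Then P is normal in G, C_G(P) = P, and the index of P is 1 or 3. -/
theorem result {G : Type*} [Group G] [Finite G] (P : Sylow 2 G) (m : ℕ) (hm : 2 ≤ m) (e : (P : Subgroup G) ≃* Multiplicative (ZMod (2 ^ m) × ZMod (2 ^ m))) (hO : ∀ N : Subgroup G, N.Normal → Odd (Nat.card N) → N = ⊥) : (P : Subgroup G).Normal ∧ Subgroup.centralizer (P : Set G) = (P : Subgroup G) ∧ ((P : Subgroup G).index = 1 ∨ (P : Subgroup G).index = 3) := by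
  obtain ⟨k, rfl⟩ : ∃ k, m = k + 1 := ⟨m - 1, by omega⟩
  have : Fact (Nat.Prime 2) := ⟨Nat.prime_two⟩
  have hcore : Cfsg.pPrimeCore 2 G = ⊥ := CfsgLib.Invol.pPrimeCore_two_eq_bot hO
  have hn : (P : Subgroup G).Normal :=
    CfsgLib.Invol.Homocyclic2.normal_of_homocyclic k (by omega) _ G rfl P e hcore
  obtain ⟨h13, -⟩ := CfsgLib.Blocks.Homocyclic.automizer_facts P k e
  set C := Subgroup.centralizer ((P : Subgroup G) : Set G) with hC
  have hPC : (P : Subgroup G) ≤ C := fun x hx => Subgroup.mem_centralizer_iff.2 fun y hy =>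
    congrArg Subtype.val (e.injective (by rw [map_mul, map_mul, mul_comm]) :
      (⟨y, hy⟩ : (P : Subgroup G)) * ⟨x, hx⟩ = ⟨x, hx⟩ * ⟨y, hy⟩)
  have hCeq : C = (P : Subgroup G) := by
    refine le_antisymm ?_ hPC
    haveI : C.Normal := Subgroup.normal_centralizer
    haveI := CfsgLib.Solvable.pPrimeCore_characteristic 2 C
    have hmap : ((Cfsg.pPrimeCore 2 C).map C.subtype).Normal :=
      ConjAct.normal_of_characteristic_of_normal
    have hcard : Nat.card ((Cfsg.pPrimeCore 2 C).map C.subtype) = Nat.card (Cfsg.pPrimeCore 2 C) :=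
      Nat.card_congr (Subgroup.equivMapOfInjective _ C.subtype Subtype.val_injective).toEquiv.symm
    have hCcore : Cfsg.pPrimeCore 2 C = ⊥ := by
      have h := CfsgLib.Solvable.le_pPrimeCore hmap
        (p := 2) (hcard ▸ CfsgLib.Solvable.pPrimeCore_card_coprime 2 C)
      rw [hcore, le_bot_iff] at h
      exact (Subgroup.map_eq_bot_iff_of_injective _ Subtype.val_injective).1 h
    let PC : Sylow 2 C := P.subtype hPC
    have hle : Subgroup.normalizer ((PC : Subgroup C) : Set C) ≤
        Subgroup.centralizer ((PC : Subgroup C) : Set C) := fun n _ =>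
      Subgroup.mem_centralizer_iff.2 fun x hx => Subtype.ext
        (Subgroup.mem_centralizer_iff.1 n.2 _ (Subgroup.mem_subgroupOf.1 hx))
    by_contra hnle
    exact CfsgLib.Invol.not_isComplement_of_core_eq_bot PC hCcore
      (fun h => hnle (Subgroup.subgroupOf_eq_top.1 h)) _ (MonoidHom.normal_ker _)
      (MonoidHom.ker_transferSylow_isComplement' PC hle)
  refine ⟨hn, hCeq, ?_⟩
  have hN : Subgroup.normalizer ((P : Subgroup G) : Set G) = ⊤ := Subgroup.normalizer_eq_top_iff.2 hn
  rwa [hN, Subgroup.relIndex_top_right, hCeq] at h13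

end Cfsg.Agent.S0949
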