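import Cfsg.Statements.S5212
import Cfsg.Agent.Lib.FusionMetacyclic.TopNormal

set_option autoImplicit false
open Cfsg

namespace Cfsg.Agent.S5212

/-- Let S be a finite metacyclic 2-group that is not homocyclic abelian (a direct product of cyclic groups of one common order), not dihedral, not semidihedral and not generalized quaternion. Then every saturated fusion system over S is the inner fusion system of S. -/
theorem result {Ω : Type*} [Group Ω] {S : Subgroup Ω} [Finite S] (hS : IsPGroup 2 S) (F : Cfsg.FusionSystem S) (hF : F.IsSaturated 2) (hm : Cfsg.IsMetacyclic ↥S) (hh : ¬ ∃ n k : ℕ, Nonempty (↥S ≃* Multiplicative (Fin k → ZMod (2 ^ n)))) (hd : ¬ ∃ m : ℕ, Nonempty (↥S ≃* DihedralGroup m)) (hq : ¬ ∃ m : ℕ, Nonempty (↥S ≃* QuaternionGroup m)) (hsd : ¬ Cfsg.IsQuasiDihedral ↥S) : ∀ P : Subgroup Ω, F.Hom P = (Cfsg.innerFusionSystem S).Hom P := by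
  have hN : F.IsNormal S := CfsgLib.FusionMetacyclic.isNormal_two hS hF
    (CfsgLib.FusionMetacyclic.stronglyClosed_top F) hm (by
      rintro (⟨k, hk⟩ | h | ⟨k, hk⟩)
      · exact hd ⟨_, hk⟩
      · exact hsd h
      · exact hq ⟨_, hk⟩)
  have hA : IsPGroup 2 (MulAut S) := by
    by_contra hA
    rcases Cfsg.Agent.S1896.result hS hm hA with he | ⟨n, ⟨e⟩⟩
    · exact hq ⟨2, he⟩
    · refine hh ⟨n, 2, ⟨e.trans
        { toFun := fun x => Multiplicative.ofAdd ![x.1.toAdd, x.2.toAdd]
          invFun := fun x => (Multiplicative.ofAdd (x.toAdd 0), Multiplicative.ofAdd (x.toAdd 1))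
          left_inv := fun x => by ext <;> rfl
          right_inv := fun x => Multiplicative.toAdd.injective (funext fun i => by
            fin_cases i <;> rfl)
          map_mul' := fun x y => Multiplicative.toAdd.injective (funext fun i => by
            fin_cases i <;> rfl) }⟩⟩
  intro P
  rw [CfsgLib.FusionMetacyclic.eq_inner_of_isNormal_top hS hF hN (hA.to_subgroup _)]

end Cfsg.Agent.S5212
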