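import Cfsg.Statements.S0566
import Mathlib.GroupTheory.Transfer
import Mathlib.GroupTheory.IsSubnormal
import Mathlib.GroupTheory.Abelianization.Defs
import Mathlib.Tactic
-- import your own Cfsg.Agent.* helpers here

set_option autoImplicit false
open Pointwise
open Cfsg

namespace Cfsg.Agent.S0566

/-- Let A and B be nontrivial subgroups of a finite group G such that for every x the product set of A and xBx⁻¹ is a proper subgroup of G. Then there is a proper normal subgroup of G containing A or containing B. -/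
theorem result {G : Type*} [Group G] [Finite G] (A B : Subgroup G) (hA : A ≠ ⊥) (hB : B ≠ ⊥) (h : ∀ x : G, ∃ S : Subgroup G, S ≠ ⊤ ∧ (S : Set G) = (A : Set G) * ((MulAut.conj x • B : Subgroup G) : Set G)) : ∃ N : Subgroup G, N.Normal ∧ N ≠ ⊤ ∧ (A ≤ N ∨ B ≤ N) := by
  classical
  clear hA hB
  let P : Subgroup G → Prop := fun C => ∀ x : G, ∃ S : Subgroup G, S ≠ ⊤ ∧
    (S : Set G) = (C : Set G) * ((MulAut.conj x • B : Subgroup G) : Set G)
  obtain ⟨C, hAC, hC⟩ := (Set.toFinite {C : Subgroup G | P C}).exists_le_maximal (show A ∈ {C : Subgroup G | P C} from h)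
  have hmc : ∀ (x g : G), g ∈ (MulAut.conj x • B : Subgroup G) ↔ x⁻¹ * g * x ∈ B := by
    intro x g
    rw [Subgroup.mem_pointwise_smul_iff_inv_smul_mem, ← map_inv, MulAut.smul_def,
      MulAut.conj_apply, inv_inv]
  have key : ∀ y b : G, b ∈ (MulAut.conj y • B : Subgroup G) → ∀ a ∈ C, b * a * b⁻¹ ∈ C := by
    intro y b hb a ha
    let C' : Subgroup G := C ⊔ C.map (MulAut.conj b).toMonoidHom
    have hC' : P C' := by
      intro x
      obtain ⟨Sy, hSy, hSy'⟩ := hC.1 y
      set D : Subgroup G := MulAut.conj x • B with hD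
      have hperm : ∀ c ∈ D, ∀ g ∈ C', ∃ g' ∈ C', ∃ c' ∈ D, c * g = g' * c' := by
        have hbase : ∀ g, g ∈ (C : Set G) ∪ (C.map (MulAut.conj b).toMonoidHom : Subgroup G) →
            ∀ c ∈ D, ∃ g' ∈ C', ∃ c' ∈ D, c * g = g' * c' := by
          rintro g (hg | hg) c hc
          · obtain ⟨S, -, hS⟩ := hC.1 x
            have h1 : c * g ∈ S := S.mul_mem
              (by rw [← SetLike.mem_coe, hS]; exact ⟨1, C.one_mem, c, hc, one_mul _⟩)
              (by rw [← SetLike.mem_coe, hS]; exact ⟨g, hg, 1, one_mem _, mul_one _⟩)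
            rw [← SetLike.mem_coe, hS] at h1
            obtain ⟨g', hg', c', hc', e⟩ := h1
            exact ⟨g', Subgroup.mem_sup_left hg', c', hc', e.symm⟩
          · obtain ⟨g₀, hg₀, rfl⟩ := hg
            obtain ⟨S, -, hS⟩ := hC.1 (b⁻¹ * x)
            have hc0 : b⁻¹ * c * b ∈ (MulAut.conj (b⁻¹ * x) • B : Subgroup G) := by
              have := (hmc x c).1 hc
              rw [hmc]
              simpa [mul_assoc] using this
            have h1 : (b⁻¹ * c * b) * g₀ ∈ S := S.mul_mem
              (by rw [← SetLike.mem_coe, hS]; exact ⟨1, C.one_mem, _, hc0, one_mul _⟩)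
              (by rw [← SetLike.mem_coe, hS]; exact ⟨g₀, hg₀, 1, one_mem _, mul_one _⟩)
            rw [← SetLike.mem_coe, hS] at h1
            obtain ⟨g', hg', c', hc', e⟩ := h1
            refine ⟨b * g' * b⁻¹, Subgroup.mem_sup_right ⟨g', hg', rfl⟩, b * c' * b⁻¹, ?_, ?_⟩
            · rw [hD, hmc]
              have := (hmc _ _).1 hc'
              simpa [mul_assoc] using this
            · show c * (b * g₀ * b⁻¹) = _
              calc c * (b * g₀ * b⁻¹) = b * (b⁻¹ * c * b * g₀) * b⁻¹ := by group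
                _ = _ := by
                  rw [← e]
                  group
        intro c hc g hg
        have hcl : C' = Subgroup.closure ((C : Set G) ∪
            (C.map (MulAut.conj b).toMonoidHom : Subgroup G)) := by
          rw [Subgroup.closure_union, Subgroup.closure_eq, Subgroup.closure_eq]
        rw [hcl] at hg
        have : (∀ c ∈ D, ∃ g' ∈ C', ∃ c' ∈ D, c * g = g' * c') ∧
            ∀ c ∈ D, ∃ g' ∈ C', ∃ c' ∈ D, c * g⁻¹ = g' * c' := by
          clear hc c
          induction hg using Subgroup.closure_induction with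
          | mem u hu =>
            refine ⟨hbase u hu, hbase u⁻¹ ?_⟩
            exact hu.imp (fun h => inv_mem h) (fun h => inv_mem h)
          | one => exact ⟨fun c hc => ⟨1, one_mem _, c, hc, by group⟩,
              fun c hc => ⟨1, one_mem _, c, hc, by group⟩⟩
          | inv u _ hu => exact ⟨hu.2, by rw [inv_inv]; exact hu.1⟩
          | mul u v _ _ hu hv =>
            constructor
            · intro c hc
              obtain ⟨u', hu', c', hc', e⟩ := hu.1 c hc
              obtain ⟨v', hv', c'', hc'', e'⟩ := hv.1 c' hc'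
              refine ⟨u' * v', mul_mem hu' hv', c'', hc'', ?_⟩
              rw [← mul_assoc, e, mul_assoc, e', ← mul_assoc]
            · intro c hc
              obtain ⟨v', hv', c', hc', e⟩ := hv.2 c hc
              obtain ⟨u', hu', c'', hc'', e'⟩ := hu.2 c' hc'
              refine ⟨v' * u', mul_mem hv' hu', c'', hc'', ?_⟩
              rw [mul_inv_rev, ← mul_assoc, e, mul_assoc, e', ← mul_assoc]
        exact this.1 c hc
      let S : Subgroup G :=
        { carrier := (C' : Set G) * (D : Set G)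
          one_mem' := ⟨1, one_mem _, 1, one_mem _, one_mul _⟩
          mul_mem' := by
            rintro _ _ ⟨g, hg, c, hc, rfl⟩ ⟨g', hg', c', hc', rfl⟩
            obtain ⟨g'', hg'', c'', hc'', e⟩ := hperm c hc g' hg'
            refine ⟨g * g'', mul_mem hg hg'', c'' * c', mul_mem hc'' hc', ?_⟩
            show g * g'' * (c'' * c') = g * c * (g' * c')
            calc g * g'' * (c'' * c') = g * (g'' * c'') * c' := by group
              _ = _ := by rw [← e]; group
          inv_mem' := by
            rintro _ ⟨g, hg, c, hc, rfl⟩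
            obtain ⟨g', hg', c', hc', e⟩ := hperm c⁻¹ (inv_mem hc) g⁻¹ (inv_mem hg)
            refine ⟨g', hg', c', hc', ?_⟩
            show g' * c' = (g * c)⁻¹
            rw [mul_inv_rev, e] }
      refine ⟨S, fun htop => hSy ?_, rfl⟩
      have hCy : C ≤ Sy := fun g hg => by
        rw [← SetLike.mem_coe, hSy']; exact ⟨g, hg, 1, one_mem _, mul_one _⟩
      have hBy : ∀ g ∈ (MulAut.conj y • B : Subgroup G), g ∈ Sy := fun g hg => by
        rw [← SetLike.mem_coe, hSy']; exact ⟨1, C.one_mem, g, hg, one_mul _⟩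
      have hC'y : C' ≤ Sy := by
        refine sup_le hCy ?_
        rintro _ ⟨g, hg, rfl⟩
        exact mul_mem (mul_mem (hBy b hb) (hCy hg)) (inv_mem (hBy b hb))
      have hall : ∀ g : G, g ∈ (C' : Set G) * (D : Set G) := fun g =>
        show g ∈ S from htop ▸ Subgroup.mem_top g
      obtain ⟨a₀, ha₀, c₀, hc₀, e₀⟩ := hall (y * x⁻¹)
      have ha₀' : a₀ = y * x⁻¹ * c₀⁻¹ := eq_mul_inv_of_mul_eq e₀
      refine eq_top_iff.2 fun g _ => ?_
      obtain ⟨a₁, ha₁, c₁, hc₁, e₁⟩ := hall (a₀⁻¹ * g * a₀)
      have hg : g = (a₀ * a₁ * a₀⁻¹) * (a₀ * c₁ * a₀⁻¹) := by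
        calc g = a₀ * (a₀⁻¹ * g * a₀) * a₀⁻¹ := by group
          _ = _ := by rw [← e₁]; group
      rw [hg]
      refine mul_mem (hC'y (mul_mem (mul_mem ha₀ ha₁) (inv_mem ha₀))) (hBy _ ?_)
      rw [hmc, ha₀']
      have h3 := B.mul_mem (B.mul_mem (B.inv_mem ((hmc _ _).1 hc₀)) ((hmc _ _).1 hc₁))
        ((hmc _ _).1 hc₀)
      simpa [mul_assoc] using h3
    exact hC.2 hC' le_sup_left (Subgroup.mem_sup_right ⟨a, ha, rfl⟩)
  by_cases hN : Subgroup.normalClosure (B : Set G) = ⊤
  · refine ⟨C, ⟨fun a ha g => ?_⟩, fun htop => ?_, Or.inl hAC⟩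
    · have hle : Subgroup.normalClosure (B : Set G) ≤ Subgroup.normalizer (C : Set G) := by
        rw [Subgroup.normalClosure, Subgroup.closure_le]
        intro u hu
        obtain ⟨b, hb, hbu⟩ := Group.mem_conjugatesOfSet_iff.1 hu
        obtain ⟨y, rfl⟩ := isConj_iff.1 hbu
        have hmem : ∀ z ∈ B, y * z * y⁻¹ ∈ (MulAut.conj y • B : Subgroup G) := fun z hz => by
          rw [hmc]; simpa [mul_assoc] using hz
        refine Subgroup.mem_normalizer_iff.2 fun a => ⟨key y _ (hmem b hb) a, fun ha => ?_⟩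
        have := key y _ (hmem b⁻¹ (inv_mem hb)) _ ha
        simpa [mul_assoc] using this
      exact (Subgroup.mem_normalizer_iff.1 (hle (hN ▸ Subgroup.mem_top g)) a).1 ha
    · obtain ⟨S, hS, hS'⟩ := hC.1 1
      refine hS (eq_top_iff.2 fun g _ => ?_)
      rw [← SetLike.mem_coe, hS', htop]
      exact ⟨g, Subgroup.mem_top g, 1, one_mem _, mul_one _⟩
  · exact ⟨_, Subgroup.normalClosure_normal, hN, Or.inr Subgroup.subset_normalClosure⟩

end Cfsg.Agent.S0566
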