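import Cfsg.Statements.S0792
import Cfsg.Agent.Lib.Orth.Reflection

set_option autoImplicit false
open Cfsg

namespace Cfsg.Agent.S0792

/-- For q odd and Q with non-degenerate polar form on F^n, the determinant-one isometries form the subgroup generated by all products r_u r_v of two reflections (Q(u), Q(v) ≠ 0). -/
theorem result {F : Type*} [Field F] [Fintype F] (h2 : (2 : F) ≠ 0) {n : ℕ} (Q : QuadraticForm F (Fin n → F)) (hQ : (QuadraticMap.polarBilin Q).Nondegenerate) : Cfsg.specialIsometryGroup F ⇑Q = Subgroup.closure {g : ↥(Cfsg.isometryGroup F ⇑Q) | ∃ u v : Fin n → F, Q u ≠ 0 ∧ Q v ≠ 0 ∧ ((g : Matrix.GeneralLinearGroup (Fin n) F) : Matrix (Fin n) (Fin n) F) = Cfsg.reflectionMatrix ⇑Q u * Cfsg.reflectionMatrix ⇑Q v} := by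
  have hF : ∃ t : F, t ≠ 0 ∧ t ≠ 1 := by
    refine ⟨-1, neg_ne_zero.mpr one_ne_zero, fun h => h2 ?_⟩
    linear_combination -h
  have hnd := CfsgLib.Orth.ndPolar_iff.mpr hQ
  have hgen := CfsgLib.Orth.closure_reflectionMatrix Q hnd (Or.inl hF)
  set P := Subgroup.closure {g : ↥(Cfsg.isometryGroup F ⇑Q) | ∃ u v : Fin n → F, Q u ≠ 0 ∧ Q v ≠ 0 ∧
    ((g : Matrix.GeneralLinearGroup (Fin n) F) : Matrix (Fin n) (Fin n) F) =
      Cfsg.reflectionMatrix ⇑Q u * Cfsg.reflectionMatrix ⇑Q v} with hP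
  have hne : (1 : F) ≠ -1 := fun h => h2 (by linear_combination h)
  have hmem : ∀ g : ↥(Cfsg.isometryGroup F ⇑Q), g ∈ Cfsg.specialIsometryGroup F ⇑Q ↔
      g.1.1.det = 1 := fun g => by
    simp [Cfsg.specialIsometryGroup, MonoidHom.mem_ker, Units.ext_iff]
  refine le_antisymm (fun g hg => ?_) ?_
  · rw [hmem] at hg
    suffices key : (g.1.1.det = 1 → g ∈ P) ∧ (g.1.1.det = -1 → ∀ r : ↥(Cfsg.isometryGroup F ⇑Q),
        (∃ v, Q v ≠ 0 ∧ r.1.1 = Cfsg.reflectionMatrix ⇑Q v) → r * g ∈ P) from key.1 hg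
    clear hg
    have hmem' := hgen.ge (Subgroup.mem_top g)
    induction hmem' using Subgroup.closure_induction_left with
    | one => exact ⟨fun _ => one_mem _, fun h => absurd (by simpa using h) hne⟩
    | mul_left a ha b _ ih =>
      obtain ⟨u, hu, hau⟩ := ha
      have hd : (a * b).1.1.det = - b.1.1.det := by
        simp only [Subgroup.coe_mul, Units.val_mul, Matrix.det_mul, hau,
          CfsgLib.Orth.det_reflectionMatrix Q hu]
        ring
      refine ⟨fun h => ih.2 (by rw [hd] at h; linear_combination -h) a ⟨u, hu, hau⟩,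
        fun h r ⟨v, hv, hr⟩ => ?_⟩
      rw [← mul_assoc]
      refine mul_mem (Subgroup.subset_closure ⟨v, u, hv, hu, ?_⟩)
        (ih.1 (by rw [hd] at h; linear_combination -h))
      simp [hr, hau]
    | inv_mul_cancel a ha b _ ih =>
      obtain ⟨u, hu, hau⟩ := ha
      have hinv : a⁻¹ = a := by
        apply (CfsgLib.Classical.Quad.isometryGroupEquiv Q fun _ => rfl).injective
        rw [map_inv, (CfsgLib.Orth.isometryGroupEquiv_refl Q a u).mp hau,
          CfsgLib.Classical.Quad.refl_inv]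
      rw [hinv]
      have hd : (a * b).1.1.det = - b.1.1.det := by
        simp only [Subgroup.coe_mul, Units.val_mul, Matrix.det_mul, hau,
          CfsgLib.Orth.det_reflectionMatrix Q hu]
        ring
      refine ⟨fun h => ih.2 (by rw [hd] at h; linear_combination -h) a ⟨u, hu, hau⟩,
        fun h r ⟨v, hv, hr⟩ => ?_⟩
      rw [← mul_assoc]
      refine mul_mem (Subgroup.subset_closure ⟨v, u, hv, hu, ?_⟩)
        (ih.1 (by rw [hd] at h; linear_combination -h))
      simp [hr, hau]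
  · rw [hP, Subgroup.closure_le]
    rintro g ⟨u, v, hu, hv, hg⟩
    rw [SetLike.mem_coe, hmem, hg, Matrix.det_mul, CfsgLib.Orth.det_reflectionMatrix Q hu,
      CfsgLib.Orth.det_reflectionMatrix Q hv]
    ring

end Cfsg.Agent.S0792
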