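import Cfsg.Statements.S0790
import Cfsg.Agent.Lib.Orth.NegOne

set_option autoImplicit false
open Cfsg

namespace Cfsg.Agent.S0790

/-- −1 ∈ Ω⁺_2m(q) iff q^m ≡ 1 (mod 4), for q odd and m ≥ 1 (so that in the other case SO⁺_2m(q) = 2 × Ω⁺_2m(q)). -/
theorem result {F : Type*} [Field F] [Fintype F] {q : ℕ} (hF : Fintype.card F = q) (hodd : Odd q) (m : ℕ) (hm : 1 ≤ m) : (∃ g : ↥(Cfsg.isometryGroup F (Cfsg.quadFormPlus m F)), g ∈ Cfsg.Omega F (Cfsg.quadFormPlus m F) ∧ ((g : Matrix.GeneralLinearGroup (Fin m ⊕ Fin m) F) : Matrix (Fin m ⊕ Fin m) (Fin m ⊕ Fin m) F) = -1) ↔ q ^ m % 4 = 1 := by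
  classical
  have h2 : (2 : F) ≠ 0 := fun h => by
    haveI : CharP F 2 := CharTwo.of_one_ne_zero_of_two_eq_zero one_ne_zero h
    have he : Fintype.card F % 2 = 0 := FiniteField.even_card_of_char_two (ringChar.eq F 2)
    rw [hF] at he
    exact absurd (Nat.odd_iff.mp hodd) (by omega)
  have hch : ringChar F ≠ 2 := fun h => h2 (by
    haveI : CharP F 2 := ringChar.of_eq h
    exact CharTwo.two_eq_zero)
  have hsqm : (∏ _i : Fin m, if IsSquare (-1 : F) then (1 : ℤˣ) else -1) = 1 ↔ q ^ m % 4 = 1 := by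
    rw [Finset.prod_const, Finset.card_univ, Fintype.card_fin]
    have hq : q % 4 = 1 ∨ q % 4 = 3 := by have := Nat.odd_iff.mp hodd; omega
    have hneg : IsSquare (-1 : F) ↔ q % 4 ≠ 3 := hF ▸ FiniteField.isSquare_neg_one_iff
    rw [Nat.pow_mod]
    rcases hq with hq | hq
    · rw [if_pos (hneg.mpr (by omega)), hq]; simp
    · rw [if_neg (by rw [hneg]; omega), hq]
      rcases Nat.even_or_odd m with ⟨k, rfl⟩ | ⟨k, rfl⟩
      · simp [← two_mul, pow_mul, Nat.pow_mod]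
      · simp [pow_add, pow_mul, Nat.mul_mod, Nat.pow_mod]
  set b : Fin m ⊕ Fin m → (Fin m ⊕ Fin m → F) := Sum.elim
    (fun i => Pi.single (Sum.inl i) 1 + Pi.single (Sum.inr i) 1)
    (fun i => Pi.single (Sum.inl i) 1 - Pi.single (Sum.inr i) 1) with hb
  have hQp : ∀ i, Cfsg.quadFormPlus m F (b (Sum.inl i)) = 1 := fun i => by
    simp [Cfsg.quadFormPlus, hb, Pi.single_apply, Finset.sum_ite_eq']
  have hQm : ∀ i, Cfsg.quadFormPlus m F (b (Sum.inr i)) = -1 := fun i => by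
    simp [Cfsg.quadFormPlus, hb, Pi.single_apply, Finset.sum_ite_eq']
  have h := CfsgLib.OrthNegOne.negOne_mem_iff (Q := CfsgLib.CharTwoInv.plusQ m F) h2
    (by simp; omega) (κ := Fin m ⊕ Fin m) rfl (by simp) b
    (by rintro (i | i) <;> simp [CfsgLib.CharTwoInv.plusQ_coe, hQp, hQm])
    (by
      intro i j hij
      rw [CfsgLib.CharTwoInv.plusQ_coe]
      rcases i with i | i <;> rcases j with j | j <;>
        simp only [QuadraticMap.polar, Cfsg.quadFormPlus, ← Finset.sum_sub_distrib, hb, Sum.elim_inl,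
          Sum.elim_inr] <;>
        refine Finset.sum_eq_zero fun k _ => ?_ <;>
        simp [Pi.single_apply] <;> split_ifs <;> simp_all <;> ring)
  rw [CfsgLib.CharTwoInv.plusQ_coe] at h
  rw [h, ← hsqm, Fintype.prod_sum_type, ← Finset.prod_mul_distrib]
  apply Iff.of_eq
  congr 1
  refine Finset.prod_congr rfl fun i _ => ?_
  rw [hQp, hQm, if_pos IsSquare.one]
  split_ifs <;> rfl

end Cfsg.Agent.S0790
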