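import Cfsg.Statements.S2608
import Cfsg.Agent.Lib.AutPOmega.PlusResults

set_option autoImplicit false
open Cfsg

namespace Cfsg.Agent.S2608

/-- Outer automorphism group of PΩ⁺_2m(q), q = p^f odd: for m = 4 it is S_4 × C_f (triality); for m ≥ 5 it is C_2 × C_2 × C_f when q ≡ 3 (mod 4) and m is odd, and D_8 × C_f otherwise. -/
theorem result {F : Type*} [Field F] [Fintype F] {p f m : ℕ} [Fact p.Prime] (hf : 1 ≤ f) (hF : Fintype.card F = p ^ f) (hp : p ≠ 2) (hm : 4 ≤ m) : if m = 4 then Nonempty (Cfsg.Out (Cfsg.POmega F (Cfsg.quadFormPlus m F)) ≃* Equiv.Perm (Fin 4) × Multiplicative (ZMod f)) else if p ^ f % 4 = 3 ∧ Odd m then Nonempty (Cfsg.Out (Cfsg.POmega F (Cfsg.quadFormPlus m F)) ≃* Multiplicative (ZMod 2 × ZMod 2 × ZMod f)) else Nonempty (Cfsg.Out (Cfsg.POmega F (Cfsg.quadFormPlus m F)) ≃* DihedralGroup 4 × Multiplicative (ZMod f)) := by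
  haveI : CharP F p := charP_of_card_eq_prime_pow hF
  obtain ⟨t, ht⟩ := ((Fact.out : p.Prime).odd_of_ne_two hp).pow (n := f)
  have hgcd := CfsgLib.AutPOmega.gcd_plus_odd t m (hF.trans ht)
  rw [← Nat.card_eq_fintype_card] at hgcd
  split_ifs with h h3
  · subst h
    exact CfsgLib.AutPOmega.nonempty_out_d4 (CfsgLib.AutPOmega.out_d4_odd p f hF hp)
  · refine (CfsgLib.AutPOmega.out_plus_odd p f hF hp (by omega)).1 ?_
    rw [hgcd, if_neg (Nat.not_even_iff_odd.2 (h3.2.mul (Nat.odd_iff.2 (by omega))))]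
  · refine (CfsgLib.AutPOmega.out_plus_odd p f hF hp (by omega)).2 ?_
    rw [hgcd, if_pos]
    by_contra he
    obtain ⟨hmo, hto⟩ := Nat.odd_mul.1 (Nat.not_even_iff_odd.1 he)
    exact h3 ⟨by rw [Nat.odd_iff] at hto; omega, hmo⟩

end Cfsg.Agent.S2608
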