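import Cfsg.Statements.S0282
import Cfsg.Agent.Lib.Classical.Herm.Apps
import Cfsg.Agent.Lib.Char.Burnside
-- import your own Cfsg.Agent.* helpers here

set_option autoImplicit false
open Cfsg

namespace Cfsg.Agent.S0282

open CfsgLib.Classical

/-- PSU_3(2) is a solvable group of order 72. -/
theorem result {F : Type*} [Field F] [Fintype F] (hF : Fintype.card F = 4) : Nat.card (Cfsg.PSU 3 F 2) = 72 ∧ Group.IsSolvable (Cfsg.PSU 3 F 2) := by
  have h := Herm.card_psu (q := 2) (by simpa using hF) (show 2 ≤ 3 by norm_num)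
  simp [Finset.prod_range_succ, Nat.even_iff] at h
  have h72 : Nat.card (Cfsg.PSU 3 F 2) = 72 := by omega
  exact ⟨h72, CfsgLib.Char.isSolvable_of_card_eq_prime_pow_mul Nat.prime_two Nat.prime_three
    (a := 3) (b := 2) (by rw [h72]; norm_num)⟩

end Cfsg.Agent.S0282
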