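import Cfsg.Statements.S2475
import Cfsg.Agent.Lib.SL2Trace.Orders

set_option autoImplicit false
open Cfsg

namespace Cfsg.Agent.S2475

/-- The set of element orders of PSL(2,q): let F be a finite field of characteristic p with q ≥ 4 elements and d = gcd(2, q − 1). The orders of elements of PSL(2,F) are exactly the divisors of p, of (q − 1)/d and of (q + 1)/d. -/
theorem result {F : Type*} [Field F] [Fintype F] (p : ℕ) [Fact p.Prime] [CharP F p] (h4 : 4 ≤ Fintype.card F) :
    Set.range (orderOf : Matrix.ProjectiveSpecialLinearGroup (Fin 2) F → ℕ) =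
      {m : ℕ | m ∣ p ∨ m ∣ (Fintype.card F - 1) / Nat.gcd 2 (Fintype.card F - 1) ∨ m ∣ (Fintype.card F + 1) / Nat.gcd 2 (Fintype.card F - 1)} := by
  have hp := (Fact.out : p.Prime)
  have hdvd2 : Nat.gcd 2 (Fintype.card F - 1) ∣ 2 := Nat.gcd_dvd_left _ _
  have hd := Nat.le_of_dvd two_pos hdvd2
  have hd0 : 0 < Nat.gcd 2 (Fintype.card F - 1) := Nat.pos_of_dvd_of_pos hdvd2 two_pos
  ext m
  constructor
  · rintro ⟨g, rfl⟩
    rcases CfsgLib.SL2Trace.psl_pow_cases p g with h | h | h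
    · exact Or.inl (orderOf_dvd_of_pow_eq_one h)
    · exact Or.inr (Or.inl (orderOf_dvd_of_pow_eq_one h))
    · exact Or.inr (Or.inr (orderOf_dvd_of_pow_eq_one h))
  · intro h
    rcases h with h | h | h
    · obtain ⟨g, hg⟩ := CfsgLib.SL2Trace.exists_orderOf_char (F := F) p
      exact CfsgLib.SL2Trace.mem_range_of_dvd (g := g) (hg ▸ h) (by rw [hg]; exact hp.ne_zero)
    · obtain ⟨τ, hτ, hu⟩ := CfsgLib.SL2Trace.exists_isotropic_trace (F := F) h4
      obtain ⟨g, hg⟩ := CfsgLib.SL2Trace.exists_orderOf_toPSL τ hτ (Fintype.card F - 1)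
        ((CfsgLib.SL2Trace.card_centralizer_comp τ hτ).1 hu) rfl
      refine CfsgLib.SL2Trace.mem_range_of_dvd (g := g) (hg ▸ h) ?_
      rw [hg]
      exact (Nat.div_pos (by omega) hd0).ne'
    · obtain ⟨τ, hu⟩ := CfsgLib.SL2Trace.exists_anisotropic_trace (F := F)
      have hτ : τ ^ 2 ≠ 4 := fun h4 => hu (CfsgLib.SL2Trace.exists_root_of_sq_eq_four τ h4)
      obtain ⟨g, hg⟩ := CfsgLib.SL2Trace.exists_orderOf_toPSL τ hτ (Fintype.card F + 1)
        ((CfsgLib.SL2Trace.card_centralizer_comp τ hτ).2 hu) (by omega)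
      refine CfsgLib.SL2Trace.mem_range_of_dvd (g := g) (hg ▸ h) ?_
      rw [hg]
      exact (Nat.div_pos (by omega) hd0).ne'

end Cfsg.Agent.S2475
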