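import Cfsg.Statements.S3742
import Mathlib

set_option autoImplicit false
open Cfsg

namespace Cfsg.Agent.S3742

open QuaternionGroup in
/-- The images of the two generators attached to a permutation of four points (the diagonals). -/
def imgs : List ((Fin 4 × Fin 4 × Fin 4) × (QuaternionGroup 2 × QuaternionGroup 2)) :=
  [((0, 1, 2), (QuaternionGroup.a 1, QuaternionGroup.xa 0)), ((0, 1, 3), (QuaternionGroup.xa 2, QuaternionGroup.a 3)), ((0, 2, 1), (QuaternionGroup.a 3, QuaternionGroup.xa 1)), ((0, 2, 3), (QuaternionGroup.xa 3, QuaternionGroup.a 1)), ((0, 3, 1), (QuaternionGroup.xa 0, QuaternionGroup.xa 3)), ((0, 3, 2), (QuaternionGroup.xa 1, QuaternionGroup.xa 2)), ((1, 0, 2), (QuaternionGroup.xa 0, QuaternionGroup.a 1)), ((1, 0, 3), (QuaternionGroup.a 3, QuaternionGroup.xa 2)), ((1, 2, 0), (QuaternionGroup.xa 2, QuaternionGroup.xa 3)), ((1, 2, 3), (QuaternionGroup.xa 1, QuaternionGroup.xa 0)), ((1, 3, 0), (QuaternionGroup.a 1, QuaternionGroup.xa 1)), ((1, 3, 2), (QuaternionGroup.xa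 3, QuaternionGroup.a 3)), ((2, 0, 1), (QuaternionGroup.xa 1, QuaternionGroup.a 3)), ((2, 0, 3), (QuaternionGroup.a 1, QuaternionGroup.xa 3)), ((2, 1, 0), (QuaternionGroup.xa 3, QuaternionGroup.xa 2)), ((2, 1, 3), (QuaternionGroup.xa 0, QuaternionGroup.xa 1)), ((2, 3, 0), (QuaternionGroup.a 3, QuaternionGroup.xa 0)), ((2, 3, 1), (QuaternionGroup.xa 2, QuaternionGroup.a 1)), ((3, 0, 1), (QuaternionGroup.xa 3, QuaternionGroup.xa 0)), ((3, 0, 2), (QuaternionGroup.xa 2, QuaternionGroup.xa 1)), ((3, 1, 0), (QuaternionGroup.xa 1, QuaternionGroup.a 1)), ((3, 1, 2), (QuaternionGroup.a 3, QuaternionGroup.xa 3)), ((3, 2, 0), (QuaternionGroup.xa 0, QuaternionGroup.a 3)), ((3, 2, 1), (QuaternionGroup.a 1, QuaternionGroup.xa 2))]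

/-- Lookup of the images. -/
def img (σ : Equiv.Perm (Fin 4)) : QuaternionGroup 2 × QuaternionGroup 2 :=
  ((imgs.find? (fun e => decide (e.1 = (σ 0, σ 1, σ 2)))).map Prod.snd).getD (1, 1)

/-- The map with prescribed images of the generators. -/
def evalAt (u v : QuaternionGroup 2) : QuaternionGroup 2 → QuaternionGroup 2
  | QuaternionGroup.a i => u ^ i.val
  | QuaternionGroup.xa i => v * u ^ i.val

theorem eval_mul : ∀ σ : Equiv.Perm (Fin 4), ∀ x y : QuaternionGroup 2,
    evalAt (img σ).1 (img σ).2 (x * y) = evalAt (img σ).1 (img σ).2 x * evalAt (img σ).1 (img σ).2 y := by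
  decide +kernel

theorem eval_comp : ∀ σ τ : Equiv.Perm (Fin 4),
    evalAt (img σ).1 (img σ).2 (img τ).1 = (img (σ * τ)).1 ∧
      evalAt (img σ).1 (img σ).2 (img τ).2 = (img (σ * τ)).2 := by
  decide +kernel

theorem eval_inj : ∀ σ τ : Equiv.Perm (Fin 4), img σ = img τ → σ = τ := by
  decide +kernel

theorem eval_bij : ∀ σ : Equiv.Perm (Fin 4), ∀ x y : QuaternionGroup 2,
    evalAt (img σ).1 (img σ).2 x = evalAt (img σ).1 (img σ).2 y → x = y := by
  decide +kernel

theorem card_targets : (Finset.univ.filter (fun e : QuaternionGroup 2 × QuaternionGroup 2 =>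
    e.1 * e.1 ≠ 1 ∧ e.2 * e.2 ≠ 1 ∧ e.1 * e.2 ≠ e.2 * e.1)).card = 24 := by
  decide +kernel

theorem gens : ∀ x : QuaternionGroup 2,
    x = evalAt (QuaternionGroup.a 1) (QuaternionGroup.xa 0) x := by
  decide +kernel

/-- The automorphism attached to a permutation. -/
noncomputable def toAut (σ : Equiv.Perm (Fin 4)) : MulAut (QuaternionGroup 2) :=
  MulEquiv.ofBijective (MonoidHom.mk' (evalAt (img σ).1 (img σ).2) (eval_mul σ))
    (Finite.injective_iff_bijective.1 (eval_bij σ))

theorem ext_gens (f g : MulAut (QuaternionGroup 2)) (h1 : f (QuaternionGroup.a 1) = g (QuaternionGroup.a 1))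
    (h2 : f (QuaternionGroup.xa 0) = g (QuaternionGroup.xa 0)) : f = g := by
  apply MulEquiv.ext
  intro x
  rw [gens x]
  cases x with
  | a i => simp only [evalAt, map_pow, h1]
  | xa i => simp only [evalAt, map_mul, map_pow, h1, h2]

theorem toAut_a (σ : Equiv.Perm (Fin 4)) : toAut σ (QuaternionGroup.a 1) = (img σ).1 := by
  simp [toAut, evalAt, show (1 : ZMod (2 * 2)).val = 1 from rfl]

theorem toAut_xa (σ : Equiv.Perm (Fin 4)) : toAut σ (QuaternionGroup.xa 0) = (img σ).2 := by
  simp [toAut, evalAt]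


/-- The automorphism group of the quaternion group of order 8 is isomorphic to the symmetric group of degree 4. -/
theorem result : Nonempty (MulAut (QuaternionGroup 2) ≃* Equiv.Perm (Fin 4)) := by
  classical
  let φ : Equiv.Perm (Fin 4) →* MulAut (QuaternionGroup 2) :=
    MonoidHom.mk' toAut fun σ τ => by
      refine ext_gens _ _ ?_ ?_ <;> rw [MulAut.mul_apply]
      · rw [toAut_a, toAut_a]; exact (eval_comp σ τ).1.symm
      · rw [toAut_xa, toAut_xa]; exact (eval_comp σ τ).2.symm
  have hinj : Function.Injective φ := fun σ τ h => eval_inj σ τ (Prod.ext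
    (by rw [← toAut_a, ← toAut_a]; exact congrArg (fun f : MulAut (QuaternionGroup 2) => f (QuaternionGroup.a 1)) h)
    (by rw [← toAut_xa, ← toAut_xa]; exact congrArg (fun f : MulAut (QuaternionGroup 2) => f (QuaternionGroup.xa 0)) h))
  have hle : Nat.card (MulAut (QuaternionGroup 2)) ≤ 24 := by
    rw [← card_targets, ← Nat.card_eq_finsetCard]
    refine Nat.card_le_card_of_injective
      (fun f => ⟨(f (QuaternionGroup.a 1), f (QuaternionGroup.xa 0)), ?_⟩) ?_
    · simp only [Finset.mem_filter, Finset.mem_univ, true_and, ← map_mul, ne_eq, map_eq_one_iff f f.injective,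
        f.injective.eq_iff]
      decide +kernel
    · intro f g h
      simp only [Subtype.mk.injEq, Prod.mk.injEq] at h
      exact ext_gens f g h.1 h.2
  haveI : Finite (MulAut (QuaternionGroup 2)) :=
    Finite.of_injective (fun f : MulAut (QuaternionGroup 2) => (f : QuaternionGroup 2 → QuaternionGroup 2)) DFunLike.coe_injective
  refine ⟨(MulEquiv.ofBijective φ ?_).symm⟩
  refine (Nat.bijective_iff_injective_and_card φ).2 ⟨hinj, le_antisymm (Nat.card_le_card_of_injective φ hinj) ?_⟩
  refine hle.trans_eq ?_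
  rw [Nat.card_perm, Nat.card_eq_fintype_card, Fintype.card_fin]
  rfl

end Cfsg.Agent.S3742
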