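import Cfsg.Statements.S5148
import Cfsg.Agent.Lib.FusionQuot.Factor
import Cfsg.Agent.Lib.FusionQuot.Joins
import Cfsg.Agent.Lib.FusionQuot.SCSeries
import Cfsg.Agent.Lib.FusionControl.Step

set_option autoImplicit false
open Cfsg

namespace Cfsg.Agent.S5148

/-- A quasisimple fusion system over a finite p-group S (saturated, equal to its p-residual subsystem, with simple — in particular nontrivial — factor system modulo its centre) has S nonabelian. -/
theorem result {Ω : Type*} [Group Ω] {S : Subgroup Ω} [Finite S] (p : ℕ) [Fact p.Prime] (hS : IsPGroup p S) (F : Cfsg.FusionSystem S) (hq : F.Quasisimple p) : ¬ IsMulCommutative S := by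
  classical
  intro hab
  obtain ⟨hF, hhyp, hsimp⟩ := hq
  have hsc : F.StronglyClosed F.center := by
    refine ⟨CfsgLib.FusionQuot.center_le F, fun R hR φ hφ x => ?_⟩
    obtain ⟨ψ, -, hψ, hψZ⟩ := (CfsgLib.FusionQuot.isCentral_center F).2 R φ hφ
    have h1 := hψ x
    have h2 := hψZ ⟨x, hR x.2⟩
    rw [show Subgroup.inclusion (le_sup_left : R ≤ R ⊔ F.center) x =
      Subgroup.inclusion (le_sup_right : F.center ≤ R ⊔ F.center) ⟨x, hR x.2⟩ from Subtype.ext rfl, h2] at h1
    exact h1 ▸ hR x.2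
  have hcommS : ⁅S, S⁆ = ⊥ := by
    rw [eq_bot_iff, Subgroup.commutator_le]
    intro a ha b hb
    rw [Subgroup.mem_bot, commutatorElement_eq_one_iff_mul_comm]
    exact congrArg Subtype.val (hab.1.comm ⟨a, ha⟩ ⟨b, hb⟩)
  have hSsc : F.StronglyClosed S := ⟨le_rfl, fun R _ φ hφ x => CfsgLib.Fusion.map_mem hφ x⟩
  have hSn := CfsgLib.FusionQuot.isNormal_of_abelian hS hF hSsc hcommS
  set θ := QuotientGroup.mk' ((F.center).subgroupOf S) with hθ
  set V : Subgroup (S ⧸ (F.center).subgroupOf S) := ⊤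
  obtain ⟨E, hE⟩ : ∃ E : Cfsg.FusionSystem V, F.IsFactorSystem F.center θ E :=
    CfsgLib.FusionQuot.exists_factorSystem_quotient F F.center hsc
  obtain ⟨hEs, hne, hEn⟩ := hsimp E hE
  have habV : ∀ x y : S ⧸ (F.center).subgroupOf S, x * y = y * x := by
    intro x y
    obtain ⟨a, rfl⟩ := QuotientGroup.mk'_surjective _ x
    obtain ⟨b, rfl⟩ := QuotientGroup.mk'_surjective _ y
    rw [← map_mul, ← map_mul, hab.1.comm]
  have hV : IsPGroup p V := (hS.to_quotient _).to_subgroup _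
  have hVn : E.IsNormal V := by
    refine CfsgLib.FusionQuot.isNormal_of_abelian hV hEs ⟨le_rfl, fun R _ φ _ x => Subgroup.mem_top _⟩ ?_
    rw [eq_bot_iff, Subgroup.commutator_le]
    intro a _ b _
    rw [Subgroup.mem_bot, commutatorElement_eq_one_iff_mul_comm]
    exact habV a b
  have hinner : ∀ (P : Subgroup (S ⧸ (F.center).subgroupOf S)) (φ : P →* S ⧸ (F.center).subgroupOf S),
      φ ∈ (Cfsg.innerFusionSystem V).Hom P → ∀ x : P, φ x = x := by
    rintro P φ ⟨-, g, -, hg⟩ x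
    rw [hg, habV g x, mul_inv_cancel_right]
  have hnorm : (Cfsg.innerFusionSystem V).IsNormalIn E p := by
    refine ⟨⟨CfsgLib.FusionControl.inner_isSaturated hV, hEs, CfsgLib.FusionControl.inner_le E,
      ⟨le_rfl, fun R _ φ _ x => Subgroup.mem_top _⟩, ?_, ?_⟩, ?_⟩
    · intro P hPT φ hφ α _
      refine ⟨_, (Cfsg.innerFusionSystem V).conj_mem le_top (one_mem _), fun x hφx hαx => ?_⟩
      have e : (⟨φ x, hφx⟩ : V) = ⟨x, hPT x.2⟩ := Subtype.ext (hinner P φ hφ x)
      rw [e]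
      refine Eq.trans (MulAut.conj_apply _ _) ?_
      simp only [one_mul, inv_one, mul_one]
      rfl
    · intro P hP φ hφ
      obtain ⟨ψ, hψ, hag, hmap⟩ := hVn.2 P φ hφ
      have hle : V ≤ P ⊔ V := le_sup_right
      have hψ' := CfsgLib.Fusion.restrict_mem hψ hle
      have hr : (ψ.comp (Subgroup.inclusion hle)).range = V :=
        CfsgLib.Fusion.range_eq_of_le (CfsgLib.Fusion.hom_inj hψ') fun x => Subgroup.mem_top _
      refine ⟨CfsgLib.Fusion.isoOfInjective (CfsgLib.Fusion.hom_inj hψ') hr,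
        (CfsgLib.Fusion.mem_autGroup_iff_hom le_rfl).2 (CfsgLib.Fusion.isFIso_isoOfInjective hψ' hr),
        _, (Cfsg.innerFusionSystem V).conj_mem hP (one_mem _), fun x hx => ?_⟩
      rw [CfsgLib.Fusion.isoOfInjective_apply]
      rw [← hag x]
      exact congrArg ψ (Subtype.ext (by simp [Cfsg.conjHom]))
    · intro α hα
      have h1 : α = 1 := MulEquiv.ext fun x => Subtype.ext
        (hinner V _ ((CfsgLib.Fusion.mem_autGroup_iff_hom le_rfl).1 hα) x)
      subst h1
      refine ⟨1, one_mem _, fun x => rfl, fun c _ => ?_⟩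
      simp
  have hEeq : ∀ P, (Cfsg.innerFusionSystem V).Hom P = E.Hom P := by
    rcases hEn V _ hnorm with h | ⟨-, h⟩
    · exact absurd h hne
    · exact h
  -- every map of `F` is trivial modulo the centre
  have key : ∀ (P : Subgroup Ω) (φ : P →* Ω), φ ∈ F.Hom P → ∀ x : P, (x : Ω)⁻¹ * φ x ∈ F.center := by
    intro P φ hφ x
    obtain ⟨ψ, hψ, hag, -⟩ := hSn.2 P φ hφ
    have hPS := CfsgLib.Fusion.dom_le hφ
    set ψ' := ψ.comp (Subgroup.inclusion (le_sup_right : S ≤ P ⊔ S))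
    have hψ' : ψ' ∈ F.Hom S := CfsgLib.Fusion.restrict_mem hψ _
    have hfix : ∀ y : S, (y : Ω) ∈ F.center → ψ' y ∈ F.center := fun y hy =>
      hsc.2 F.center le_rfl _ (CfsgLib.Fusion.restrict_mem hψ' hsc.1) ⟨y, hy⟩
    obtain ⟨φ', hind⟩ := CfsgLib.FusionQuot.exists_induced (α := θ) le_rfl
      (fun y => CfsgLib.Fusion.map_mem hψ' y) (fun y hy => by
        rw [QuotientGroup.mk'_apply, QuotientGroup.eq_one_iff, Subgroup.mem_subgroupOf] at hy ⊢
        exact hfix y hy)
    have hpre : Cfsg.FusionSystem.preimageAlong θ V = S := by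
      simp [Cfsg.FusionSystem.preimageAlong, V, Subgroup.comap_top, ← MonoidHom.range_eq_map]
    have himg : Cfsg.FusionSystem.imageAlong θ S = V := by
      rw [CfsgLib.FusionQuot.imageAlong_self]
      exact MonoidHom.range_eq_top.2 (QuotientGroup.mk'_surjective _)
    obtain ⟨h1, h2, h3, h4⟩ := hind
    let φ'' : V →* S ⧸ (F.center).subgroupOf S := φ'.comp (Subgroup.inclusion himg.ge)
    have hmem : φ'' ∈ E.Hom V := by
      refine (hE.2.2.2 V φ'').2 ⟨le_rfl, ψ'.comp (Subgroup.inclusion hpre.le),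
        CfsgLib.Fusion.restrict_mem hψ' hpre.le, hpre.le, fun y => h2 _, fun y => Subgroup.mem_top _, fun y => ?_⟩
      exact h4 (Subgroup.inclusion hpre.le y)
    rw [← hEeq] at hmem
    have h5 := hinner V φ'' hmem ⟨θ ⟨x, hPS x.2⟩, Subgroup.mem_top _⟩
    have h6 : θ ⟨φ x, CfsgLib.Fusion.map_mem hφ x⟩ = θ ⟨x, hPS x.2⟩ := by
      refine Eq.trans ?_ h5
      have h7 := h4 ⟨x, hPS x.2⟩
      refine Eq.trans ?_ h7.symm
      refine congrArg θ (Subtype.ext ?_)
      exact (hag x).symm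
    have h8 := QuotientGroup.eq.1 h6.symm
    exact h8
  have hSZ : S ≤ F.center := by
    refine hhyp.ge.trans ((Subgroup.closure_le _).2 ?_)
    rintro _ ⟨P, α, x, hP, -, rfl⟩
    exact key P _ ((CfsgLib.Fusion.mem_autGroup_iff_hom hP).1 α.2) x
  refine hne (eq_bot_iff.2 fun y _ => ?_)
  obtain ⟨a, rfl⟩ := QuotientGroup.mk'_surjective _ y
  rw [Subgroup.mem_bot, QuotientGroup.mk'_apply, QuotientGroup.eq_one_iff]
  exact hSZ a.2

end Cfsg.Agent.S5148
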