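import Cfsg.Statements.S5153
import Cfsg.Agent.Lib.FusionQuot.Invariant

set_option autoImplicit false
open Cfsg

namespace Cfsg.Agent.S5153

theorem le_of_subnormal {Ω : Type*} [Group Ω] {p : ℕ} {T : Subgroup Ω} {E : Cfsg.FusionSystem T}
    {S : Subgroup Ω} {F : Cfsg.FusionSystem S} (hE : E.IsSubnormalIn F p) : T ≤ S := by
  induction hE with
  | refl => exact le_rfl
  | step _ hDF ih => exact le_trans ih hDF.1.2.2.2.1.1

theorem aux {Ω : Type*} [Group Ω] {p : ℕ} {T : Subgroup Ω} {E : Cfsg.FusionSystem T}
    {S : Subgroup Ω} {F : Cfsg.FusionSystem S} (hE : E.IsSubnormalIn F p) : Fact p.Prime → Finite S → IsPGroup p S →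
    F.IsSaturated p → ∀ P : Subgroup Ω, P ≤ T → F.IsFullyNormalized P → E.IsFullyNormalized P := by
  induction hE with
  | refl => intros; assumption
  | step hED hDF ih =>
    intro hp hfin hS hF P hPT hP
    obtain ⟨⟨hDs, -, hsub, hU, -⟩, -⟩ := hDF
    have := CfsgLib.Fusion.finite_of_le hU.1
    refine ih hp this (hS.to_le hU.1) hDs P hPT ?_
    refine CfsgLib.FusionQuot.isFullyNormalized_of_subsystem hS hF hU hsub ?_ hP
    exact le_trans hPT (le_of_subnormal hED)

/-- Let F be a saturated fusion system over a finite p-group S and E a subnormal subsystem of F over T. Then every subgroup of T that is fully normalized in F is fully normalized in E. -/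
theorem result {Ω : Type*} [Group Ω] {S : Subgroup Ω} [Finite S] (p : ℕ) [Fact p.Prime] (hS : IsPGroup p S) (F : Cfsg.FusionSystem S) (hF : F.IsSaturated p) {T : Subgroup Ω} (E : Cfsg.FusionSystem T) (hE : E.IsSubnormalIn F p) (P : Subgroup Ω) (hPT : P ≤ T) (hP : F.IsFullyNormalized P) : E.IsFullyNormalized P := by
  exact aux hE inferInstance inferInstance hS hF P hPT hP

end Cfsg.Agent.S5153
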