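import Cfsg.Statements.S5291
import Cfsg.Agent.Lib.Fusion.Stability
import Cfsg.Agent.Lib.FusionQuot.Joins

set_option autoImplicit false
open Cfsg

namespace Cfsg.Agent.S5291

open Cfsg.FusionSystem CfsgLib.Fusion

variable {Ω : Type*} [Group Ω] {S T : Subgroup Ω} {F : Cfsg.FusionSystem S}
  {E : Cfsg.FusionSystem T}

/-- the image of a subgroup under an automorphism of `T`, in the ambient group -/
def img (α : MulAut T) (P : Subgroup Ω) : Subgroup Ω :=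
  (P.subgroupOf T).map (T.subtype.comp α.toMonoidHom)

theorem mem_img {α : MulAut T} {P : Subgroup Ω} {y : Ω} :
    y ∈ img α P ↔ ∃ x : T, (x : Ω) ∈ P ∧ ((α x : T) : Ω) = y := by
  constructor
  · rintro ⟨x, hx, rfl⟩; exact ⟨x, hx, rfl⟩
  · rintro ⟨x, hx, rfl⟩; exact ⟨x, hx, rfl⟩

theorem img_le (α : MulAut T) (P : Subgroup Ω) : img α P ≤ T := fun y hy => by
  obtain ⟨x, -, rfl⟩ := mem_img.1 hy
  exact (α x).2

/-- images of normal subgroups of an invariant subsystem are normal -/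
theorem img_normal (hE : E.IsInvariantIn F) {R : Subgroup Ω} (hR : E.IsNormal R) {α : MulAut T}
    (hα : α ∈ F.autGroup T) : E.IsNormal (img α R) := by
  refine ⟨img_le α R, fun P φ hφ => ?_⟩
  obtain ⟨hPT, hφT⟩ := E.le_of_mem hφ
  obtain ⟨-, -, hinv, -⟩ := hE
  set P₁ := img α⁻¹ P with hP₁
  obtain ⟨χ, hχ, hχv⟩ := hinv P hPT φ hφ α⁻¹ (inv_mem hα)
  obtain ⟨ψ, hψ, hag, hψR⟩ := hR.2 P₁ χ hχ
  have hle : P₁ ⊔ R ≤ T := sup_le (img_le _ _) hR.1
  obtain ⟨θ, hθ, hθv⟩ := hinv _ hle ψ hψ α hα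
  have hsrc : P ⊔ img α R ≤ img α (P₁ ⊔ R) := by
    refine sup_le (fun y hy => ?_) (fun y hy => ?_)
    · exact mem_img.2 ⟨α⁻¹ ⟨y, hPT hy⟩, Subgroup.mem_sup_left (mem_img.2 ⟨⟨y, hPT hy⟩, hy, rfl⟩),
        by rw [MulAut.apply_inv_self]⟩
    · obtain ⟨x, hx, rfl⟩ := mem_img.1 hy
      exact mem_img.2 ⟨x, Subgroup.mem_sup_right hx, rfl⟩
  have hval : ∀ (x : T) (hx : (x : Ω) ∈ P₁ ⊔ R) (h : ((α x : T) : Ω) ∈ img α (P₁ ⊔ R)),
      θ ⟨((α x : T) : Ω), h⟩ = ((α ⟨ψ ⟨x, hx⟩, (E.le_of_mem hψ).2 _⟩ : T) : Ω) :=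
    fun x hx h => hθv ⟨x, hx⟩ _ h
  refine ⟨_, restrict_mem hθ hsrc, fun x => ?_, ?_⟩
  · have hxP₁ : ((α⁻¹ ⟨x, hPT x.2⟩ : T) : Ω) ∈ P₁ := mem_img.2 ⟨⟨x, hPT x.2⟩, x.2, rfl⟩
    have hx2 : ((α (α⁻¹ ⟨x, hPT x.2⟩) : T) : Ω) = (x : Ω) := by rw [MulAut.apply_inv_self]
    have h1 := hval (α⁻¹ ⟨x, hPT x.2⟩) (Subgroup.mem_sup_left hxP₁)
      (mem_img.2 ⟨_, Subgroup.mem_sup_left hxP₁, rfl⟩)
    have h2 := hχv x (hφT x) hxP₁
    have h3 := hag ⟨_, hxP₁⟩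
    show θ _ = φ x
    refine Eq.trans ?_ (h1.trans ?_)
    · congr 1
      exact Subtype.ext hx2.symm
    · have e : (⟨ψ ⟨((α⁻¹ ⟨x, hPT x.2⟩ : T) : Ω), Subgroup.mem_sup_left hxP₁⟩,
          (E.le_of_mem hψ).2 _⟩ : T) = α⁻¹ ⟨φ x, hφT x⟩ := Subtype.ext (h3.trans h2)
      rw [e, MulAut.apply_inv_self]
  · ext y
    rw [mem_map_subgroupOf]
    constructor
    · rintro ⟨z, hz, hzR, rfl⟩
      obtain ⟨x, hx, rfl⟩ := mem_img.1 hzR
      refine mem_img.2 ⟨⟨ψ ⟨x, Subgroup.mem_sup_right hx⟩, (E.le_of_mem hψ).2 _⟩, ?_, ?_⟩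
      · exact hψR.le (mem_map_subgroupOf.2 ⟨_, _, hx, rfl⟩)
      · exact (hval x (Subgroup.mem_sup_right hx) _).symm
    · intro hy
      obtain ⟨x, hx, rfl⟩ := mem_img.1 hy
      obtain ⟨w, hw, hwR, hwx⟩ := mem_map_subgroupOf.1 (hψR.ge hx)
      have hwT : w ∈ T := hle hw
      refine ⟨((α ⟨w, hwT⟩ : T) : Ω), Subgroup.mem_sup_right (mem_img.2 ⟨_, hwR, rfl⟩),
        mem_img.2 ⟨_, hwR, rfl⟩, ?_⟩
      show θ _ = _
      refine Eq.trans (hval ⟨w, hwT⟩ hw _) ?_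
      congr 2
      exact Subtype.ext hwx


/-- Let F be a saturated fusion system over a finite p-group S and E a weakly normal subsystem of F over a subgroup T. Suppose a subgroup R of T is normal in E (E = N_E(R)), and let R* be the subgroup of T generated by the images of R under all maps of F with source R. Then R* is normal in F (F = N_F(R*)). -/
theorem result {Ω : Type*} [Group Ω] {S : Subgroup Ω} [Finite S] (p : ℕ) [Fact p.Prime] (hS : IsPGroup p S)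
    (F : Cfsg.FusionSystem S) (hF : F.IsSaturated p)
    {T : Subgroup Ω} (E : Cfsg.FusionSystem T) (hE : E.IsWeaklyNormalIn F p)
    (R : Subgroup Ω) (hR : E.IsNormal R) :
    F.IsNormal (Subgroup.closure {x : Ω | ∃ φ ∈ F.Hom R, ∃ r : R, x = φ r}) := by
  obtain ⟨-, -, hinv⟩ := hE
  have hsub := hinv.1
  have hTsc := hinv.2.1
  have hfrat := hinv.2.2.2
  have hTS : T ≤ S := hTsc.1
  have : Finite T := CfsgLib.Fusion.finite_of_le hTS
  set s : Set (Subgroup Ω) := {R' | ∃ φ ∈ F.Hom R, φ.range = R'} with hs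
  have hclosure : Subgroup.closure {x : Ω | ∃ φ ∈ F.Hom R, ∃ r : R, x = φ r} = sSup s := by
    refine le_antisymm ((Subgroup.closure_le _).2 ?_) (sSup_le ?_)
    · rintro _ ⟨φ, hφ, r, rfl⟩
      exact le_sSup (show φ.range ∈ s from ⟨φ, hφ, rfl⟩) ⟨r, rfl⟩
    · rintro _ ⟨φ, hφ, rfl⟩ _ ⟨r, rfl⟩
      exact Subgroup.subset_closure ⟨φ, hφ, r, rfl⟩
  have himg : ∀ R' ∈ s, E.IsNormal R' := by
    rintro _ ⟨φ, hφ, rfl⟩
    obtain ⟨α, hα, φ₀, hφ₀, heq⟩ := hfrat R hR.1 φ hφ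
    have hr : φ.range = img α R := by
      obtain ⟨ψ, -, hag, hψR⟩ := hR.2 R φ₀ hφ₀
      ext y
      rw [mem_img]
      constructor
      · rintro ⟨x, rfl⟩
        refine ⟨⟨φ₀ x, (E.le_of_mem hφ₀).2 x⟩, ?_, (heq x _).symm⟩
        show φ₀ x ∈ R
        rw [← hag x]
        exact hψR.le (CfsgLib.Fusion.mem_map_subgroupOf.2 ⟨_, _, x.2, rfl⟩)
      · rintro ⟨x, hx, rfl⟩
        obtain ⟨w, hw, hwR, hwx⟩ := CfsgLib.Fusion.mem_map_subgroupOf.1 (hψR.ge hx)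
        refine ⟨⟨w, hwR⟩, ?_⟩
        rw [heq ⟨w, hwR⟩ ((E.le_of_mem hφ₀).2 _)]
        congr 2
        exact Subtype.ext ((hag ⟨w, hwR⟩).symm.trans hwx)
    rw [hr]
    exact img_normal hinv hR hα
  have hEn : E.IsNormal (sSup s) := by
    have hfin : s.Finite := CfsgLib.FusionQuot.finite_subgroups_le.subset
      (fun R' hR' => (himg R' hR').1)
    suffices H : ∀ t : Set (Subgroup Ω), t.Finite → (∀ Q ∈ t, E.IsNormal Q) → E.IsNormal (sSup t) from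
      H s hfin himg
    intro t ht
    induction t, ht using Set.Finite.induction_on with
    | empty => intro _; rw [sSup_empty]; exact CfsgLib.FusionQuot.isNormal_bot E
    | @insert a t _ _ ih =>
      intro hall
      rw [sSup_insert]
      exact CfsgLib.FusionQuot.isNormal_sup E (hall a (Set.mem_insert a t))
        (ih fun Q hQ => hall Q (Set.mem_insert_of_mem a hQ))
  rw [hclosure]
  have hle : sSup s ≤ T := hEn.1
  refine CfsgLib.Fusion.Stability.isNormal_of_restrictions hS hF (hle.trans hTS) fun P hP φ hφ => ?_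
  obtain ⟨α, hα, φ₀, hφ₀, heq⟩ := hfrat P (hP.trans hle) φ hφ
  obtain ⟨ψ, hψ, hag, hψR⟩ := hEn.2 P φ₀ hφ₀
  have : Finite ↥(sSup s : Subgroup Ω) := CfsgLib.Fusion.finite_of_le (hle.trans hTS)
  have hαs : ∀ (x : T), (x : Ω) ∈ sSup s → ((α x : T) : Ω) ∈ sSup s := by
    intro x hx
    suffices h : sSup s ≤ ((sSup s).comap (T.subtype.comp α.toMonoidHom)).map T.subtype by
      obtain ⟨y, hy, hyx⟩ := h hx
      obtain rfl : y = x := Subtype.ext hyx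
      exact hy
    refine sSup_le ?_
    rintro _ ⟨χ, hχ, rfl⟩ _ ⟨r, rfl⟩
    refine ⟨⟨χ r, hTsc.2 R hR.1 χ hχ r⟩, ?_, rfl⟩
    refine le_sSup (show _ ∈ s from ⟨_, F.comp_mem hχ
      ((CfsgLib.Fusion.mem_autGroup_iff_hom hTS).1 hα) (fun r => hTsc.2 R hR.1 χ hχ r), rfl⟩) ?_
    exact ⟨r, rfl⟩
  let f : ↥(sSup s : Subgroup Ω) →* ↥(sSup s : Subgroup Ω) :=
    ((T.subtype.comp α.toMonoidHom).comp
      ((ψ.comp (Subgroup.inclusion le_sup_right)).codRestrict T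
        fun x => (E.le_of_mem hψ).2 _)).codRestrict (sSup s) fun x => hαs _
        (hψR.le (CfsgLib.Fusion.mem_map_subgroupOf.2 ⟨_, _, x.2, rfl⟩))
  have hf : Function.Injective f := by
    intro a b hab
    have h1 : ((α ⟨ψ (Subgroup.inclusion le_sup_right a), (E.le_of_mem hψ).2 _⟩ : T) : Ω) =
        ((α ⟨ψ (Subgroup.inclusion le_sup_right b), (E.le_of_mem hψ).2 _⟩ : T) : Ω) :=
      congrArg (fun t : ↥(sSup s : Subgroup Ω) => (t : Ω)) hab
    have h2 := congrArg Subtype.val (α.injective (Subtype.ext h1))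
    exact Subgroup.inclusion_injective _ (E.injective_of_mem hψ h2)
  refine ⟨MulEquiv.ofBijective f ((Finite.injective_iff_bijective).1 hf), fun x => ?_⟩
  rw [heq x ((E.le_of_mem hφ₀).2 x)]
  show _ = ((α _ : T) : Ω)
  congr 2
  exact Subtype.ext (hag x).symm

end Cfsg.Agent.S5291
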