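import Cfsg.Statements.S5342
import Cfsg.Agent.Lib.Fusion.Stability
import Cfsg.Agent.Lib.Fusion.CentricExtend
import Cfsg.Agent.Lib.FusionQuot.Joins
import Cfsg.Agent.Lib.FusionQuot.NormalClosed

set_option autoImplicit false
open Cfsg

namespace Cfsg.Agent.S5342

open Cfsg.FusionSystem CfsgLib.Fusion CfsgLib.Fusion.Stability

variable {Ω : Type*} [Group Ω] {S T : Subgroup Ω} {F : Cfsg.FusionSystem S}
  {E : Cfsg.FusionSystem T} {p : ℕ}

theorem constrained_of_normal [Finite S] [Fact p.Prime] (hS : IsPGroup p S)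
    (hF : F.IsConstrained p) (hE : E.IsNormalIn F p) : E.IsConstrained p := by
  obtain ⟨hFs, Q₀, hQ₀, hQ₀c⟩ := hF
  obtain ⟨⟨hEs, -, hsub, hTsc, -, -⟩, -⟩ := hE
  have hTS : T ≤ S := hTsc.1
  have : Finite T := finite_of_le hTS
  have hTp : IsPGroup p T := hS.to_le hTS
  set Q := F.core with hQdef
  have hQ : F.IsNormal Q := CfsgLib.FusionQuot.isNormal_core F
  have hQS : Q ≤ S := hQ.1
  have hQc : F.IsCentric Q :=
    CentricExtend.centric_of_le hQ₀c (CfsgLib.FusionQuot.le_core F hQ₀) hQS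
  have : Finite Q := finite_of_le hQS
  have : Finite (MulAut Q) := finite_mulAut
  have hQp := isPGroup_of_le hS hQS
  have hQsc := isNormal_stronglyClosed hQ
  have hQn := stronglyClosed_le_normalizer hQsc
  -- strong closure passes to `E`
  have hscE : ∀ L : Subgroup Ω, F.StronglyClosed L → L ≤ T → E.StronglyClosed L := fun L hL hLT =>
    ⟨hLT, fun R hR φ hφ x => hL.2 R hR φ (hsub R hφ) x⟩
  set R := Q ⊓ T with hRdef
  have hRsc : F.StronglyClosed R := CfsgLib.FusionQuot.stronglyClosed_inf hQsc hTsc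
  obtain ⟨n, hn⟩ := (Subgroup.isNilpotent_iff_lowerCentralSeries Q).1 hQp.isNilpotent
  have hRE : E.IsNormal R := by
    have key := isNormal_of_series (L := fun i => Q.lowerCentralSeries i ⊓ T) hTp hEs n
      (fun i _ => hscE _ (CfsgLib.FusionQuot.stronglyClosed_inf
        (isNormal_stronglyClosed (CfsgLib.FusionQuot.isNormal_lowerCentralSeries hQ i)) hTsc)
        inf_le_right)
      (by simp only [hn, bot_inf_eq]) ?_
    · simpa using key
    · intro i _ r hr x hx
      refine ⟨?_, T.mul_mem (T.inv_mem hx.2) (T.mul_mem (T.mul_mem hr.2 hx.2) (T.inv_mem hr.2))⟩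
      have h1 := Subgroup.commutator_mem_commutator (H₁ := Q.lowerCentralSeries i) (H₂ := Q)
        (inv_mem hx.1) (show r ∈ Q by simpa using hr.1)
      rw [commutatorElement_def, inv_inv] at h1
      simpa [Subgroup.lowerCentralSeries_succ, mul_assoc] using h1
  -- the stabilizer of `Q ≥ R ≥ 1`
  let A : Subgroup (F.autGroup Q) :=
    { carrier := {α | ∀ x : Q, ((x⁻¹ * (α : MulAut Q) x : Q) : Ω) ∈ R ∧
        ((x : Ω) ∈ R → (α : MulAut Q) x = x)}
      one_mem' := fun x => ⟨by simp, fun _ => rfl⟩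
      mul_mem' := by
        intro α β hα hβ x
        have e : x⁻¹ * ((α * β : F.autGroup Q) : MulAut Q) x = (x⁻¹ * (β : MulAut Q) x) *
            (((β : MulAut Q) x)⁻¹ * (α : MulAut Q) ((β : MulAut Q) x)) := by simp [mul_assoc]
        refine ⟨e ▸ R.mul_mem (hβ x).1 (hα _).1, fun hx => ?_⟩
        show (α : MulAut Q) ((β : MulAut Q) x) = x
        rw [(hβ x).2 hx, (hα x).2 hx]
      inv_mem' := by
        intro α hα x
        have e : x⁻¹ * ((α⁻¹ : F.autGroup Q) : MulAut Q) x =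
            (((α : MulAut Q)⁻¹ x)⁻¹ * (α : MulAut Q) ((α : MulAut Q)⁻¹ x))⁻¹ := by simp [mul_assoc]
        refine ⟨e ▸ R.inv_mem (hα _).1, fun hx => ?_⟩
        show (α : MulAut Q)⁻¹ x = x
        conv_lhs => rw [← (hα x).2 hx]
        exact MulAut.inv_apply_self _ _ _ }
  have hAn : A.Normal := ⟨by
    intro α hα γ x
    have e : x⁻¹ * ((γ * α * γ⁻¹ : F.autGroup Q) : MulAut Q) x = (γ : MulAut Q)
        (((γ : MulAut Q)⁻¹ x)⁻¹ * (α : MulAut Q) ((γ : MulAut Q)⁻¹ x)) := by simp [mul_assoc]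
    refine ⟨e ▸ aut_mem hRsc hQS γ.2 (hα _).1, fun hx => ?_⟩
    show (γ : MulAut Q) ((α : MulAut Q) ((γ : MulAut Q)⁻¹ x)) = x
    rw [(hα _).2 (aut_mem hRsc hQS (inv_mem γ.2) hx), MulAut.apply_inv_self]⟩
  have hAfix : ∀ α ∈ A, (orderOf (α : MulAut Q)).Coprime p → (α : MulAut Q) = 1 := fun α hα hord =>
    MulEquiv.ext fun x => eq_self_of_disp_fixed hQp _ hord ((hα _).2 (hα x).1)
  set AΩ := A.map (F.autGroup Q).subtype with hAΩ
  -- the elements of `S` acting on `Q` in that stabilizer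
  let NA : Subgroup Ω :=
    { carrier := {s | ∃ hs : s ∈ S, conjAut Q s (hQn hs) ∈ AΩ}
      one_mem' := ⟨S.one_mem, by
        convert AΩ.one_mem using 1
        exact MulEquiv.ext fun x => Subtype.ext (by simp [conjAut_apply])⟩
      mul_mem' := by
        rintro a b ⟨ha, hA⟩ ⟨hb, hB⟩
        refine ⟨S.mul_mem ha hb, ?_⟩
        convert AΩ.mul_mem hA hB using 1
        exact MulEquiv.ext fun x => Subtype.ext (by simp [conjAut_apply, mul_assoc])
      inv_mem' := by
        rintro a ⟨ha, hA⟩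
        refine ⟨S.inv_mem ha, ?_⟩
        convert AΩ.inv_mem hA using 1
        refine eq_inv_of_mul_eq_one_left ?_
        exact MulEquiv.ext fun x => Subtype.ext (by simp [conjAut_apply, mul_assoc]) }
  have hNAS : NA ≤ S := fun s hs => hs.1
  -- conjugation invariance along maps defined on `Q` and the element
  have hmove : ∀ (X : Subgroup Ω) (φ : X →* Ω), φ ∈ F.Hom X → Q ≤ X → ∀ x : X, (x : Ω) ∈ NA →
      φ x ∈ NA := by
    intro X φ hφ hQX x ⟨hxS, hxA⟩
    obtain ⟨⟨a, ha⟩, haA, hae⟩ := hxA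
    have hφq : ∀ q : Q, φ ⟨q, hQX q.2⟩ ∈ Q := fun q =>
      stronglyClosed_apply_mem hQsc hφ ⟨q, hQX q.2⟩ q.2
    set η : Q →* Ω := φ.comp (Subgroup.inclusion hQX) with hη
    have hηr : η.range = Q := by
      refine Subgroup.eq_of_le_of_card_ge (by rintro _ ⟨q, rfl⟩; exact hφq q) (le_of_eq ?_)
      exact Nat.card_congr (MonoidHom.ofInjective (F.injective_of_mem (restrict_mem hφ hQX))).toEquiv
    obtain ⟨β, hβ, hβx⟩ := exists_aut (restrict_mem hφ hQX) hηr
    have hmem : ((⟨β, hβ⟩ : F.autGroup Q) * ⟨a, ha⟩ * (⟨β, hβ⟩ : F.autGroup Q)⁻¹) ∈ A :=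
      hAn.conj_mem _ haA _
    refine ⟨map_mem hφ x, _, hmem, MulEquiv.ext fun q => Subtype.ext ?_⟩
    obtain ⟨u, rfl⟩ := β.surjective q
    show ((β (a (β⁻¹ (β u))) : Q) : Ω) = φ x * ((β u : Q) : Ω) * (φ x)⁻¹
    rw [MulAut.inv_apply_self, show a u = conjAut Q x (hQn hxS) u from congrArg (· u) hae, hβx, hβx]
    have e : Subgroup.inclusion hQX (conjAut Q x (hQn hxS) u) =
        x * Subgroup.inclusion hQX u * x⁻¹ := Subtype.ext rfl
    show φ (Subgroup.inclusion hQX (conjAut Q x (hQn hxS) u)) = _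
    rw [e, map_mul, map_mul, map_inv]
    rfl
  have hNAn : ∀ s ∈ S, ∀ t ∈ NA, s * t * s⁻¹ ∈ NA := fun s hs t ht =>
    hmove S _ (F.conj_mem le_rfl hs) hQS ⟨t, hNAS ht⟩ ht
  have hcr : ∀ P : Subgroup Ω, F.IsCentric P → F.IsRadical p P → NA ≤ P := by
    intro P hPc hPr
    have hPS : P ≤ S := hPc.1
    have hQP : Q ≤ P := isNormal_le_of_centric_radical hS hQ hPc hPr
    have : Finite P := finite_of_le hPS
    have : Finite (MulAut P) := finite_mulAut
    refine le_of_normalizer_inf_le hS hPS hNAS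
      (Subgroup.le_normalizer_iff.2 hNAn) fun g hg hgN => ?_
    -- restriction to `Q`
    have hres : ∀ γ : F.autGroup P, ∀ q : Q,
        (((γ : MulAut P) ⟨q, hQP q.2⟩ : P) : Ω) ∈ Q := fun γ q =>
      aut_mem hQsc hPS γ.2 (x := ⟨q, hQP q.2⟩) q.2
    let K : Subgroup (F.autGroup P) :=
      { carrier := {γ | ∀ (q : Q), (q : Ω)⁻¹ * (((γ : MulAut P) ⟨q, hQP q.2⟩ : P) : Ω) ∈ R ∧
          ((q : Ω) ∈ R → (γ : MulAut P) ⟨q, hQP q.2⟩ = ⟨q, hQP q.2⟩)}
        one_mem' := fun q => ⟨by simp, fun _ => rfl⟩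
        mul_mem' := by
          intro γ δ hγ hδ q
          refine ⟨?_, fun hq => ?_⟩
          · have h1 := R.mul_mem (hδ q).1 (hγ ⟨_, hres δ q⟩).1
            simpa [mul_assoc] using h1
          · show (γ : MulAut P) ((δ : MulAut P) _) = _
            rw [(hδ q).2 hq, (hγ q).2 hq]
        inv_mem' := by
          intro γ hγ q
          refine ⟨?_, fun hq => ?_⟩
          · have h1 := R.inv_mem (hγ ⟨_, hres γ⁻¹ q⟩).1
            simpa [mul_assoc] using h1
          · show (γ : MulAut P)⁻¹ _ = _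
            conv_lhs => rw [← (hγ q).2 hq]
            exact MulAut.inv_apply_self _ _ _ }
    have hKn : K.Normal := ⟨by
      intro γ hγ δ q
      obtain ⟨h1, h2⟩ := hγ ⟨_, hres δ⁻¹ q⟩
      refine ⟨?_, fun hq => ?_⟩
      · have h3 := aut_mem hRsc hPS δ.2 (x := ((δ : MulAut P)⁻¹ ⟨q, hQP q.2⟩)⁻¹ *
          (γ : MulAut P) ((δ : MulAut P)⁻¹ ⟨q, hQP q.2⟩)) h1
        simpa [mul_assoc] using h3
      · show (δ : MulAut P) ((γ : MulAut P) ((δ : MulAut P)⁻¹ _)) = _
        have h4 := h2 (aut_mem hRsc hPS (inv_mem δ.2) (x := ⟨q, hQP q.2⟩) hq)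
        rw [show (γ : MulAut P) ((δ : MulAut P)⁻¹ ⟨q, hQP q.2⟩) = (δ : MulAut P)⁻¹ ⟨q, hQP q.2⟩
          from h4, MulAut.apply_inv_self]⟩
    have hKp : IsPGroup p K := by
      refine isPGroup_of_coprime_eq_one fun γ hγ => ?_
      have hord : (orderOf ((γ : F.autGroup P) : MulAut P)).Coprime p := by
        rw [Subgroup.orderOf_coe, Subgroup.orderOf_coe]; exact hγ
      have hPp := isPGroup_of_le hS hPS
      have hfix : ∀ x : P, (x : Ω) ∈ Q → ((γ : F.autGroup P) : MulAut P) x = x := by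
        intro x hx
        obtain ⟨h1, -⟩ := γ.2 ⟨x, hx⟩
        refine eq_self_of_disp_fixed hPp _ hord ((γ.2 ⟨_, ?_⟩).2 h1)
        exact h1.1
      obtain ⟨z, -, hzγ⟩ := CentricExtend.exists_conj_of_fix hS hFs hQc hQP
        (le_inf hPS (hPS.trans hQn)) γ.1.2 hfix
      have h1 : ((γ : F.autGroup P) : MulAut P) = 1 := by
        obtain ⟨k, hk⟩ := hPp z
        have h2 : orderOf ((γ : F.autGroup P) : MulAut P) ∣ p ^ k :=
          orderOf_dvd_of_pow_eq_one (by rw [hzγ, ← map_pow, hk, map_one])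
        exact orderOf_eq_one_iff.1
          (Nat.eq_one_of_dvd_coprimes (hord.pow_right k) dvd_rfl h2)
      exact Subtype.ext (Subtype.ext h1)
    have hle : K.map (F.autGroup P).subtype ≤ Cfsg.Inn P :=
      (Subgroup.map_mono (CfsgLib.Solvable.le_pCore hKn hKp)).trans hPr.2.le
    obtain ⟨hgS, ⟨a, ha⟩, haA, hae⟩ := hg
    refine mem_of_conjAut_mem_inn (centralizerIn_le_of_isCentric hPc) hPS hgS hgN (hle ?_)
    refine ⟨⟨conjAut P g hgN, autInducedBy_le_autGroup F hPS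
      (conjAut_mem_autInducedBy hgS hgN)⟩, fun q => ?_, rfl⟩
    have e : ((a q : Q) : Ω) = g * q * g⁻¹ := congrArg (fun α : MulAut Q => (α q : Ω)) hae
    obtain ⟨h1, h2⟩ := haA q
    refine ⟨?_, fun hq => Subtype.ext ?_⟩
    · rw [Subgroup.coe_mul, Subgroup.coe_inv, e] at h1
      exact h1
    · show g * (q : Ω) * g⁻¹ = q
      rw [← e]
      exact congrArg Subtype.val (h2 hq)
  have hNAsc : F.StronglyClosed NA := by
    refine ⟨hNAS, fun X hX φ hφ x => ?_⟩
    obtain ⟨ψ, hψ, hag, -⟩ := hQ.2 X φ hφ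
    rw [← hag x]
    exact hmove _ ψ hψ le_sup_right _ (hX x.2)
  have hNAQ : NA ≤ Q :=
    CfsgLib.FusionQuot.le_core F ((isNormal_iff_centric_radical hS hFs).2 ⟨hNAsc, hcr⟩)
  have hC : centralizerIn T R ≤ R := by
    intro x hx
    refine ⟨hNAQ ⟨hTS hx.1, ⟨⟨conjAut Q x (hQn (hTS hx.1)), autInducedBy_le_autGroup F hQS
      (conjAut_mem_autInducedBy (hTS hx.1) (hQn (hTS hx.1)))⟩, fun q => ?_, rfl⟩⟩, hx.1⟩
    refine ⟨?_, fun hq => Subtype.ext ?_⟩
    · show (q : Ω)⁻¹ * (x * q * x⁻¹) ∈ R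
      have h1 : x * (q : Ω) * x⁻¹ ∈ Q := (Subgroup.mem_normalizer_iff.1 (hQn (hTS hx.1)) q).1 q.2
      refine ⟨Q.mul_mem (Q.inv_mem q.2) h1, ?_⟩
      have h2 : (q : Ω)⁻¹ * x * q ∈ T :=
        (Subgroup.mem_normalizer_iff''.1 (stronglyClosed_le_normalizer hTsc (hQS q.2)) x).1 hx.1
      have h3 := T.mul_mem h2 (T.inv_mem hx.1)
      simpa [mul_assoc] using h3
    · show x * (q : Ω) * x⁻¹ = q
      rw [← Subgroup.mem_centralizer_iff.1 hx.2 q hq, mul_inv_cancel_right]
  refine ⟨hEs, R, hRE, inf_le_right, fun R' hR' => ?_⟩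
  obtain rfl := CfsgLib.FusionQuot.eq_of_isConj_of_stronglyClosed (hscE R hRsc inf_le_right) hR'
  exact hC

theorem le_of_subnormal {T : Subgroup Ω} {E : Cfsg.FusionSystem T} (h : E.IsSubnormalIn F p) :
    Finite S → Fact p.Prime → IsPGroup p S → F.IsConstrained p → E.IsConstrained p := by
  induction h with
  | refl => exact fun _ _ _ hF => hF
  | step _ hD ih =>
    intro hfin hp hS hF
    have hle := hD.1.2.2.2.1.1
    exact ih (finite_of_le hle) hp (hS.to_le hle) (constrained_of_normal hS hF hD)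

/-- Let F be a constrained saturated fusion system over a finite p-group S. Then every subsystem of F that is subnormal in F (reached from F by a finite chain of successive normal subsystems) is constrained. -/
theorem result {Ω : Type*} [Group Ω] {S : Subgroup Ω} [Finite S] (p : ℕ) [Fact p.Prime] (hS : IsPGroup p S) (F : Cfsg.FusionSystem S) (hF : F.IsConstrained p) {T : Subgroup Ω} (E : Cfsg.FusionSystem T) (hE : E.IsSubnormalIn F p) : E.IsConstrained p := by
  exact le_of_subnormal hE inferInstance inferInstance hS hF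

end Cfsg.Agent.S5342
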