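import Cfsg.Statements.S5251
import Cfsg.Agent.Lib.FusionPStable.Local

set_option autoImplicit false
open Cfsg Cfsg.FusionSystem CfsgLib.Fusion CfsgLib.FusionPStable

namespace Cfsg.Agent.S5251

/-- Let F be a saturated fusion system over a finite p-group S, E a normal subsystem of F over T, and P an F-centric subgroup of S such that P ∩ T is not E-centric. Then some F-conjugate P* of P satisfies Out_S(P*) ∩ O_p(Out_F(P*)) ≠ 1: there is an element of N_S(P*) outside P* whose conjugation action on P* lies in O_p(Aut_F(P*)). In particular P is not both centric and radical in F. -/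
theorem result {Ω : Type*} [Group Ω] {S : Subgroup Ω} [Finite S] (p : ℕ) [Fact p.Prime] (hS : IsPGroup p S) (F : Cfsg.FusionSystem S) (hF : F.IsSaturated p) {T : Subgroup Ω} (E : Cfsg.FusionSystem T) (hE : E.IsNormalIn F p) (P : Subgroup Ω) (hP : F.IsCentric P) (hPT : ¬ E.IsCentric (P ⊓ T)) : (∃ φ ∈ F.Hom P, ∃ x ∈ S ⊓ Subgroup.normalizer (φ.range : Set Ω), x ∉ φ.range ∧ ∃ α ∈ ((Cfsg.pCore p ↥(F.autGroup φ.range)).map (F.autGroup φ.range).subtype : Subgroup (MulAut ↥φ.range)), ∀ y : ↥φ.range, ((α y : ↥φ.range) : Ω) = x * (y : Ω) * x⁻¹) ∧ ¬ F.IsRadical p P := by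
  obtain ⟨⟨-, -, hEF, ⟨hTS, hTcl⟩, -⟩, -⟩ := hE
  have hTn : ∀ g ∈ S, ∀ t ∈ T, g * t * g⁻¹ ∈ T := fun g hg t ht =>
    hTcl T le_rfl _ (F.conj_mem hTS hg) ⟨t, ht⟩
  -- a counterexample to centricity in `E`
  obtain ⟨Q', hEQ, hQ'⟩ : ∃ Q', E.IsConj (P ⊓ T) Q' ∧ ¬ centralizerIn T Q' ≤ Q' := by
    by_contra hcon
    push Not at hcon
    exact hPT ⟨inf_le_right, hcon⟩
  have hFQ : F.IsConj (P ⊓ T) Q' := by
    obtain ⟨φ, hφ, hr⟩ := hEQ
    exact ⟨φ, hEF _ hφ, hr⟩
  obtain ⟨Q, hUQ, hQ⟩ := exists_isFullyNormalized F (P := P ⊓ T) (inf_le_left.trans hP.1)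
  obtain ⟨e', -, ψ', hψ', -, hag'⟩ :=
    exists_normalizer_map hS hF hQ (isConj_trans (isConj_symm hFQ) hUQ)
  -- an element of `C_T(Q)` outside `Q`
  obtain ⟨c, hc, hcQ⟩ : ∃ c, c ∈ T ⊓ centralizerIn S Q ∧ c ∉ Q := by
    obtain ⟨c, hc, hcQ'⟩ := SetLike.not_le_iff_exists.1 hQ'
    have hcN : c ∈ normalizerIn S Q' := ⟨hTS hc.1, centralizer_le_normalizer Q' hc.2⟩
    refine ⟨ψ' ⟨c, hcN⟩, ⟨?_, map_mem hψ' _, ?_⟩, fun h => hcQ' ?_⟩
    · exact hTcl (T ⊓ normalizerIn S Q') inf_le_left _ (restrict_mem hψ' inf_le_right) ⟨c, hc.1, hcN⟩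
    · exact (map_mem_centralizer_iff_of_extends (le_normalizerIn (isConj_le_right hFQ)) hag' hcN
        hcN.2).2 hc.2
    · have h1 := hag' (e'.symm ⟨_, h⟩)
      rw [MulEquiv.apply_symm_apply] at h1
      have h2 := Subtype.ext_iff.1 (hom_inj hψ' h1)
      simp only at h2
      rw [← h2]
      exact (e'.symm _).2
  obtain ⟨e, -, ψ, hψ, -, hag⟩ := exists_normalizer_map hS hF hQ hUQ
  have hPN : P ≤ normalizerIn S (P ⊓ T) := fun g hg => ⟨hP.1 hg,
    Subgroup.mem_normalizer_iff.2 fun n => ⟨fun hn => ⟨P.mul_mem (P.mul_mem hg hn.1) (P.inv_mem hg),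
      hTn g (hP.1 hg) n hn.2⟩, fun hn => by
      have h1 := P.mul_mem (P.mul_mem (P.inv_mem hg) hn.1) hg
      have h2 := hTn g⁻¹ (S.inv_mem (hP.1 hg)) _ hn.2
      exact ⟨by simpa [mul_assoc] using h1, by simpa [mul_assoc] using h2⟩⟩⟩
  let φ : P →* Ω := ψ.comp (Subgroup.inclusion hPN)
  have hφ : φ ∈ F.Hom P := restrict_mem hψ hPN
  have hPs : φ.range ≤ S := range_le hφ
  have hinter : φ.range ⊓ T = Q := by
    obtain ⟨ι, hι, hinv⟩ := F.inv_mem hφ
    refine le_antisymm ?_ fun q hq => ?_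
    · rintro y ⟨⟨x, rfl⟩, hyT⟩
      have hxT : (x : Ω) ∈ T := by
        rw [← hinv x]
        exact hTcl (φ.range ⊓ T) inf_le_right _ (restrict_mem hι inf_le_left) ⟨_, ⟨x, rfl⟩, hyT⟩
      have := hag ⟨x, x.2, hxT⟩
      show ψ _ ∈ Q
      exact this ▸ (e _).2
    · have h1 := hag (e.symm ⟨q, hq⟩)
      rw [MulEquiv.apply_symm_apply] at h1
      exact ⟨⟨⟨_, (e.symm ⟨q, hq⟩).2.1⟩, h1⟩,
        by
          have := hTcl (T ⊓ normalizerIn S (P ⊓ T)) inf_le_left _ (restrict_mem hψ inf_le_right)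
            ⟨_, (e.symm ⟨q, hq⟩).2.2, hPN (e.symm ⟨q, hq⟩).2.1⟩
          change ψ _ ∈ T at this
          show q ∈ T
          rw [show q = ψ _ from h1.symm]; exact this⟩
  -- an element of `N_S(P*)` in `C_T(Q)` outside `P*`
  obtain ⟨v, hvV, hvN, hvP⟩ : ∃ v ∈ T ⊓ centralizerIn S Q,
      v ∈ Subgroup.normalizer (φ.range : Set Ω) ∧ v ∉ φ.range := by
    have hnorm : φ.range ≤ Subgroup.normalizer ((T ⊓ centralizerIn S Q : Subgroup Ω) : Set Ω) := by
      have key : ∀ x ∈ φ.range, ∀ n ∈ T ⊓ centralizerIn S Q,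
          x * n * x⁻¹ ∈ T ⊓ centralizerIn S Q := by
        intro x hx n hn
        refine ⟨hTn x (hPs hx) n hn.1, S.mul_mem (S.mul_mem (hPs hx) hn.2.1) (S.inv_mem (hPs hx)), ?_⟩
        show x * n * x⁻¹ ∈ Subgroup.centralizer (Q : Set Ω)
        rw [Subgroup.mem_centralizer_iff]
        intro q hq
        rw [← hinter] at hq
        have hq' : x⁻¹ * q * x ∈ Q := hinter ▸ ⟨φ.range.mul_mem (φ.range.mul_mem (φ.range.inv_mem hx) hq.1) hx,
          by simpa using hTn x⁻¹ (S.inv_mem (hPs hx)) q hq.2⟩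
        have := Subgroup.mem_centralizer_iff.1 hn.2.2 _ hq'
        calc q * (x * n * x⁻¹) = x * (x⁻¹ * q * x * n) * x⁻¹ := by group
          _ = x * (n * (x⁻¹ * q * x)) * x⁻¹ := by rw [this]
          _ = x * n * x⁻¹ * q := by group
      intro x hx
      refine Subgroup.mem_normalizer_iff.2 fun n => ⟨key x hx n, fun hn => ?_⟩
      have := key x⁻¹ (φ.range.inv_mem hx) _ hn
      simpa [mul_assoc] using this
    have hW : φ.range ⊔ (T ⊓ centralizerIn S Q) ≤ S := sup_le hPs (inf_le_left.trans hTS)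
    haveI : Finite ↥(φ.range ⊔ (T ⊓ centralizerIn S Q)) := finite_of_le hW
    have hlt : φ.range < φ.range ⊔ (T ⊓ centralizerIn S Q) := by
      refine left_lt_sup.2 fun h => hcQ ?_
      rw [← hinter]
      exact ⟨h hc, hc.1⟩
    obtain ⟨w, hw, hwP⟩ := SetLike.exists_of_lt (lt_normalizerIn (isPGroup_of_le hS hW) hlt)
    have hw' : w ∈ ((φ.range ⊔ (T ⊓ centralizerIn S Q) : Subgroup Ω) : Set Ω) := hw.1
    rw [Subgroup.coe_mul_of_left_le_normalizer_right _ _ hnorm] at hw'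
    obtain ⟨x, hx, v, hv, rfl⟩ := hw'
    refine ⟨v, hv, ?_, fun h => hwP (φ.range.mul_mem hx h)⟩
    have := mul_mem (inv_mem (Subgroup.le_normalizer hx)) hw.2
    simpa using this
  have hvS : v ∈ S := hvV.2.1
  have hcore : conjAut φ.range v hvN ∈ autCore F p φ.range := by
    haveI : Finite ↥φ.range := finite_of_le hPs
    have hinv : ∀ (α : MulAut φ.range), α ∈ F.autGroup φ.range → ∀ y : φ.range, (y : Ω) ∈ Q →
        ((α y : φ.range) : Ω) ∈ Q := by
      intro α hα y hy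
      rw [← hinter] at hy ⊢
      refine ⟨(α y).2, ?_⟩
      have := (mem_autGroup_iff_hom hPs).1 hα
      exact hTcl (φ.range ⊓ T) inf_le_right _ (restrict_mem this inf_le_left) ⟨_, y.2, hy.2⟩
    let K : Subgroup (F.autGroup φ.range) :=
      { carrier := {α | ∀ y : φ.range, ((y : Ω) ∈ Q → (α : MulAut φ.range) y = y) ∧
          (y : Ω)⁻¹ * (((α : MulAut φ.range) y : φ.range) : Ω) ∈ Q}
        one_mem' := fun y => ⟨fun _ => rfl, by simp⟩
        mul_mem' := by
          intro α β hα hβ y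
          refine ⟨fun hy => by simp [(hβ y).1 hy, (hα y).1 hy], ?_⟩
          have := Q.mul_mem (hβ y).2 (hα ((β : MulAut φ.range) y)).2
          simpa [mul_assoc] using this
        inv_mem' := by
          intro α hα y
          refine ⟨fun hy => ?_, ?_⟩
          · have := congrArg ((α : MulAut φ.range)⁻¹ : MulAut φ.range) ((hα y).1 hy)
            simpa using this.symm
          · have := Q.inv_mem (hα (((α : MulAut φ.range)⁻¹ : MulAut φ.range) y)).2
            simpa using this }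
    have hKn : K.Normal := by
      refine ⟨fun α hα γ y => ⟨fun hy => ?_, ?_⟩⟩
      · have h1 := (hα _).1 (hinv _ (inv_mem γ.2) y hy)
        show (γ : MulAut φ.range) ((α : MulAut φ.range) ((γ : MulAut φ.range)⁻¹ y)) = y
        rw [h1]
        exact (γ : MulAut φ.range).apply_symm_apply y
      · obtain ⟨y, rfl⟩ := (γ : MulAut φ.range).surjective y
        have h1 := hinv _ γ.2 (y⁻¹ * (α : MulAut φ.range) y) (by simpa using (hα y).2)
        simpa using h1
    have hKp : IsPGroup p K := by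
      obtain ⟨k, hk⟩ := IsPGroup.iff_card.1 (isPGroup_of_le hS hPs)
      intro α
      refine ⟨k, Subtype.ext (Subtype.ext ?_)⟩
      have hq : IsQuadratic (((α : F.autGroup φ.range)) : MulAut φ.range) :=
        isQuadratic_of_apply_comm fun y => (α.2 _).1 (by simpa using (α.2 y).2)
      exact hk ▸ hq.pow_card_eq_one
    refine ⟨⟨_, autInducedBy_le_autGroup F hPs (conjAut_mem_autInducedBy hvS hvN)⟩,
      CfsgLib.Solvable.le_pCore hKn hKp (fun y => ⟨fun hy => ?_, ?_⟩), rfl⟩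
    · refine Subtype.ext ?_
      show v * (y : Ω) * v⁻¹ = y
      rw [← Subgroup.mem_centralizer_iff.1 hvV.2.2 _ hy, mul_inv_cancel_right]
    · show (y : Ω)⁻¹ * (v * y * v⁻¹) ∈ Q
      rw [← hinter]
      refine ⟨φ.range.mul_mem (φ.range.inv_mem y.2) (conjAut φ.range v hvN y).2, ?_⟩
      have := T.mul_mem (hTn (y : Ω)⁻¹ (S.inv_mem (hPs y.2)) v hvV.1) (T.inv_mem hvV.1)
      simpa [mul_assoc] using this
  refine ⟨⟨φ, hφ, v, ⟨hvS, hvN⟩, hvP, conjAut φ.range v hvN, hcore, fun y => rfl⟩, fun hrad => ?_⟩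
  have hfi := isFIso_isoOfInjective hφ rfl
  set f := isoOfInjective (hom_inj hφ) (Eq.refl φ.range)
  have h1 : MulAut.congr f.symm (conjAut φ.range v hvN) ∈ autCore F p P :=
    congr_mem_autCore hfi.symm hcore
  obtain ⟨u, hu⟩ := (show MulAut.congr f.symm (conjAut φ.range v hvN) ∈ Cfsg.Inn P from hrad.2 ▸ h1)
  have hcz : ((f u : φ.range) : Ω)⁻¹ * v ∈ centralizerIn S φ.range := by
    refine ⟨S.mul_mem (S.inv_mem (hPs (f u).2)) hvS, ?_⟩
    show _ ∈ Subgroup.centralizer (φ.range : Set Ω)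
    rw [Subgroup.mem_centralizer_iff]
    intro y hy
    have h2 := congrArg (fun a : MulAut P => (f (a (f.symm ⟨y, hy⟩)) : Ω)) hu
    simp at h2
    calc y * (((f u : φ.range) : Ω)⁻¹ * v)
        = ((f u : φ.range) : Ω)⁻¹ * (((f u : φ.range) : Ω) * y * ((f u : φ.range) : Ω)⁻¹) * v := by
          group
      _ = ((f u : φ.range) : Ω)⁻¹ * (v * y * v⁻¹) * v := by rw [h2]; simp [conjAut_apply]
      _ = ((f u : φ.range) : Ω)⁻¹ * v * y := by group
  refine hvP ?_
  have := φ.range.mul_mem (f u).2 (centralizerIn_le_of_isCentric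
    (isCentric_of_isConj hP ⟨φ, hφ, rfl⟩) hcz)
  simpa using this

end Cfsg.Agent.S5251
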