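import Cfsg.Statements.S5090
import Cfsg.Agent.Lib.Fusion.Model
import Cfsg.Agent.Lib.Fusion.Normal

set_option autoImplicit false
universe u
open Cfsg

namespace Cfsg.Agent.S5090

/-- Model Theorem, existence: a constrained saturated fusion system over a finite p-group S has a model — a finite group G with an injective homomorphism of S onto a Sylow p-subgroup realizing the system and with C_G(O_p(G)) ≤ O_p(G). -/
theorem result {Ω : Type u} [Group Ω] {S : Subgroup Ω} [Finite S] (p : ℕ) [Fact p.Prime] (hS : IsPGroup p S) (F : Cfsg.FusionSystem S) (hF : F.IsConstrained p) : ∃ (G : Type u) (_ : Group G) (ι : S →* G), F.IsModel p G ι := by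
  obtain ⟨hsat, Q, hQn, hQc⟩ := hF
  have hQS : Q ≤ S := hQn.1
  have hnor := CfsgLib.Fusion.stronglyClosed_le_normalizer (CfsgLib.Fusion.isNormal_stronglyClosed hQn)
  have heq : Cfsg.FusionSystem.normalizerIn S Q = S := inf_eq_left.2 hnor
  have hfn : F.IsFullyNormalized Q := ⟨hQS, fun R _ => by
    rw [heq]
    exact Nat.card_le_card_of_injective _
      (Subgroup.inclusion_injective (inf_le_left : Cfsg.FusionSystem.normalizerIn S R ≤ S))⟩
  obtain ⟨L, hL, ι, τ, ⟨hfin, ⟨hinj, hreal⟩, ⟨T, hT⟩, hcen⟩, -⟩ := CfsgLib.FusionModel.exists_model hS hsat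
    hQc hfn hQS (CfsgLib.Fusion.normalizerSystem F Q hQS)
    (CfsgLib.Fusion.isNormalizerSystem_normalizerSystem F Q hQS)
  let e : S ≃* ↥(Cfsg.FusionSystem.normalizerIn S Q) := MulEquiv.subgroupCongr heq.symm
  refine ⟨L, hL, ι.comp e.toMonoidHom, hfin, ⟨hinj.comp e.injective, fun P hP φ hφ => ?_⟩,
    ⟨T, hT.trans ?_⟩, hcen⟩
  · have hP' : P ≤ Cfsg.FusionSystem.normalizerIn S Q := heq.symm ▸ hP
    have hφ' : ∀ x, φ x ∈ Cfsg.FusionSystem.normalizerIn S Q := fun x => heq.symm ▸ hφ x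
    refine Iff.trans ⟨fun h => ?_, fun h => h.1⟩ (hreal P hP' φ hφ')
    obtain ⟨ψ, hψ, hag, hQψ⟩ := hQn.2 P φ h
    exact ⟨h, hP', hφ', ψ, hψ, hag, hQψ⟩
  · ext l
    constructor
    · rintro ⟨x, rfl⟩; exact ⟨e.symm x, by simp⟩
    · rintro ⟨x, rfl⟩; exact ⟨e x, rfl⟩

end Cfsg.Agent.S5090
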