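import Cfsg.Statements.S5198
import Cfsg.Agent.Lib.FusionQuot.ModExtension
import Cfsg.Agent.Lib.Fusion.Hyperfocal
import Cfsg.Agent.Lib.Transfer.PResidual
-- import your own Cfsg.Agent.* helpers here

set_option autoImplicit false
set_option linter.style.haveILetI false
open Cfsg

namespace Cfsg.Agent.S5198

/-- Let F be a saturated fusion system over a finite p-group S and T a subgroup of S strongly closed in F (so T is normal in S). Then every element x of the hyperfocal subgroup of F acts on T by conjugation as an element of O^p(Aut_F(T))·Inn(T): there is an automorphism of T in the subgroup generated by the elements of Aut_F(T) of order prime to p together with the inner automorphisms of T that agrees with conjugation by x. -/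
theorem result {Ω : Type*} [Group Ω] {S : Subgroup Ω} [Finite S] (p : ℕ) [Fact p.Prime] (hS : IsPGroup p S) (F : Cfsg.FusionSystem S) (hF : F.IsSaturated p) (T : Subgroup Ω) (hT : F.StronglyClosed T) : ∀ x ∈ F.hyperfocalSubgroup p, ∃ α ∈ ((Cfsg.pResidual p ↥(F.autGroup T)).map (F.autGroup T).subtype ⊔ Cfsg.Inn ↥T : Subgroup (MulAut ↥T)), ∀ t : ↥T, ((α t : ↥T) : Ω) = x * (t : Ω) * x⁻¹ := by
  classical
  have hTS : T ≤ S := hT.1
  haveI : Finite T := CfsgLib.Fusion.finite_of_le hTS
  haveI : Finite (MulAut T) := CfsgLib.Fusion.finite_mulAut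
  set A := F.autGroup T with hA
  haveI hInn : ((Cfsg.Inn ↥T).subgroupOf A).Normal := ⟨by
    rintro β ⟨t, ht⟩ a
    refine ⟨(a : MulAut T) t, MulEquiv.ext fun z => ?_⟩
    show (a : MulAut T) t * z * ((a : MulAut T) t)⁻¹ = (a : MulAut T) ((β : MulAut T) ((a : MulAut T)⁻¹ z))
    rw [show (β : MulAut T) = MulAut.conj t from ht.symm, MulAut.conj_apply, map_mul, map_mul, map_inv,
      MulAut.apply_inv_self]⟩
  haveI hres : (Cfsg.pResidual p A).Normal := inferInstance
  set K : Subgroup A := Cfsg.pResidual p A ⊔ (Cfsg.Inn ↥T).subgroupOf A with hK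
  haveI : K.Normal := Subgroup.sup_normal _ _
  have hn : ∀ s : S, (s : Ω) ∈ Subgroup.normalizer (T : Set Ω) := fun s =>
    CfsgLib.Fusion.stronglyClosed_le_normalizer hT s.2
  let c : S →* A := MonoidHom.mk' (fun s => ⟨CfsgLib.Fusion.conjAut T s (hn s),
    CfsgLib.Fusion.autInducedBy_le_autGroup F hTS (CfsgLib.Fusion.conjAut_mem_autInducedBy s.2 (hn s))⟩)
    fun a b => Subtype.ext (MulEquiv.ext fun z => Subtype.ext (by
      show (a : Ω) * b * z * ((a : Ω) * b)⁻¹ = (a : Ω) * ((b : Ω) * z * (b : Ω)⁻¹) * (a : Ω)⁻¹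
      simp [mul_assoc]))
  let θ : S →* A ⧸ K := (QuotientGroup.mk' K).comp c
  have hpQ : IsPGroup p (A ⧸ K) := by
    refine (CfsgLib.Transfer.isPGroup_quotient_pResidual (G := A) (p := p)).of_surjective
      (QuotientGroup.map _ K (MonoidHom.id _) le_sup_left) fun z => ?_
    obtain ⟨a, rfl⟩ := QuotientGroup.mk_surjective z
    exact ⟨QuotientGroup.mk a, rfl⟩
  -- every map is, modulo `K`, conjugation by an element
  have key : ∀ (P : Subgroup Ω) (hP : P ≤ S) (φ : P →* Ω) (hφ : φ ∈ F.Hom P),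
      ∃ a : A ⧸ K, ∀ x : P, θ ⟨φ x, CfsgLib.Fusion.map_mem hφ x⟩ = a * θ ⟨x, hP x.2⟩ * a⁻¹ := by
    intro P hP φ hφ
    obtain ⟨χ, hχ, hag⟩ := CfsgLib.FusionQuot.exists_extendsMod hS hF hT P φ hφ
    have hm : ∀ z : T, χ (Subgroup.inclusion le_sup_right z) ∈ T := fun z =>
      CfsgLib.Fusion.stronglyClosed_apply_mem hT hχ _ z.2
    let a₀ : T →* T := (χ.comp (Subgroup.inclusion le_sup_right)).codRestrict T hm
    have ha₀ : Function.Bijective a₀ := Finite.injective_iff_bijective.1 fun u v h =>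
      Subgroup.inclusion_injective le_sup_right (F.injective_of_mem hχ (congrArg Subtype.val h))
    let a : MulAut T := MulEquiv.ofBijective a₀ ha₀
    have haA : a ∈ A := (CfsgLib.Fusion.mem_autGroup_iff_hom hTS).2
      (CfsgLib.Fusion.restrict_mem hχ le_sup_right)
    refine ⟨(⟨a, haA⟩ : A), fun x => ?_⟩
    set y : Ω := χ (Subgroup.inclusion le_sup_left x) with hy
    have hyS : y ∈ S := CfsgLib.Fusion.map_mem hχ _
    have ht : (φ x)⁻¹ * y ∈ T := hag x
    have e1 : θ ⟨y, hyS⟩ = θ ⟨φ x, CfsgLib.Fusion.map_mem hφ x⟩ := by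
      have hz : θ ⟨(φ x)⁻¹ * y, hTS ht⟩ = 1 := (QuotientGroup.eq_one_iff _).2 (Subgroup.mem_sup_right
        ⟨⟨_, ht⟩, MulEquiv.ext fun z => Subtype.ext rfl⟩)
      rw [← mul_one (θ ⟨φ x, CfsgLib.Fusion.map_mem hφ x⟩), ← hz, ← map_mul]
      exact congrArg θ (Subtype.ext (mul_inv_cancel_left _ _).symm)
    have e2 : c ⟨y, hyS⟩ * ⟨a, haA⟩ = ⟨a, haA⟩ * c ⟨x, hP x.2⟩ := by
      refine Subtype.ext (MulEquiv.ext fun z => Subtype.ext ?_)
      show y * χ (Subgroup.inclusion le_sup_right z) * y⁻¹ = χ (Subgroup.inclusion le_sup_right _)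
      rw [hy, ← map_inv, ← map_mul, ← map_mul]
      exact congrArg χ (Subtype.ext rfl)
    rw [← e1, eq_mul_inv_iff_mul_eq]
    exact congrArg (QuotientGroup.mk' K) e2
  intro x hx
  have hxS := CfsgLib.Fusion.hyperfocalSubgroup_le_S F p hx
  have hker : F.hyperfocalSubgroup p ≤ θ.ker.map S.subtype := by
    refine (Subgroup.closure_le _).2 ?_
    rintro _ ⟨P, α, u, hP, hα, rfl⟩
    let M : Subgroup (F.autGroup P) :=
      { carrier := {β | ∀ v : P, θ (Subgroup.inclusion hP ((β : MulAut P) v)) = θ (Subgroup.inclusion hP v)}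
        one_mem' := fun v => rfl
        mul_mem' := fun {β γ} hβ hγ v => (hβ _).trans (hγ v)
        inv_mem' := fun {β} hβ v => by
          have h1 := hβ (((β⁻¹ : F.autGroup P) : MulAut P) v)
          rw [show (β : MulAut P) (((β⁻¹ : F.autGroup P) : MulAut P) v) = v from
            MulAut.apply_inv_self _ _ _] at h1
          exact h1.symm }
    have hle : Cfsg.pResidual p (F.autGroup P) ≤ M := (Subgroup.closure_le _).2 fun β hβ v => by
      obtain ⟨a, ha⟩ := key P hP _ ((CfsgLib.Fusion.mem_autGroup_iff_hom hP).1 β.2)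
      have hpow : ∀ (n : ℕ) (w : P), θ (Subgroup.inclusion hP (((β ^ n : F.autGroup P) : MulAut P) w)) =
          a ^ n * θ (Subgroup.inclusion hP w) * (a ^ n)⁻¹ := by
        intro n
        induction n with
        | zero => intro w; simp
        | succ m ihm =>
          intro w
          rw [pow_succ', pow_succ' a]
          show θ (Subgroup.inclusion hP ((β : MulAut P) (((β ^ m : F.autGroup P) : MulAut P) w))) = _
          refine (ha _).trans ?_
          rw [show θ ⟨_, hP (((β ^ m : F.autGroup P) : MulAut P) w).2⟩ = _ from ihm w]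
          simp [mul_assoc]
      have hcom : ∀ w : P, Commute (a ^ orderOf β) (θ (Subgroup.inclusion hP w)) := fun w => by
        have h1 := hpow (orderOf β) w
        rw [pow_orderOf_eq_one] at h1
        exact (eq_mul_inv_iff_mul_eq.1 h1).symm
      obtain ⟨k, hk⟩ := hpQ a
      have hcop : (orderOf β).Coprime (orderOf a) :=
        ((hβ : (orderOf β).Coprime p).pow_right k).coprime_dvd_right (orderOf_dvd_of_pow_eq_one hk)
      obtain ⟨m, hm⟩ := exists_pow_eq_self_of_coprime hcop
      have hcom' : Commute a (θ (Subgroup.inclusion hP v)) := hm ▸ (hcom v).pow_left m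
      refine (ha v).trans ?_
      rw [show θ ⟨(v : Ω), hP v.2⟩ = θ (Subgroup.inclusion hP v) from rfl, hcom'.eq, mul_inv_cancel_right]
    refine ⟨(Subgroup.inclusion hP u)⁻¹ * Subgroup.inclusion hP ((α : MulAut P) u), ?_, rfl⟩
    rw [SetLike.mem_coe, MonoidHom.mem_ker, map_mul, map_inv, hle hα u, inv_mul_cancel]
  obtain ⟨s, hs, rfl⟩ := hker hx
  have hmem : c s ∈ K := (QuotientGroup.eq_one_iff _).1 hs
  refine ⟨(c s : MulAut T), ?_, fun t => rfl⟩
  have h2 : ((c s : A) : MulAut T) ∈ K.map A.subtype := ⟨_, hmem, rfl⟩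
  rw [hK, Subgroup.map_sup] at h2
  exact sup_le_sup_left (Subgroup.map_comap_le A.subtype _) _ h2


end Cfsg.Agent.S5198
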