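import Cfsg.Statements.S5290
import Cfsg.Agent.Lib.Fusion.Stability

set_option autoImplicit false
open Cfsg

namespace Cfsg.Agent.S5290

open Cfsg.FusionSystem CfsgLib.Fusion

variable {Ω : Type*} [Group Ω] {S : Subgroup Ω} {F : Cfsg.FusionSystem S} {p : ℕ}

/-- the inner system of a finite `p`-group is saturated -/
theorem inner_saturated [Finite S] [Fact p.Prime] (hS : IsPGroup p S) :
    (Cfsg.innerFusionSystem S).IsSaturated p := by
  intro P hP
  have hA : (Cfsg.innerFusionSystem S).autGroup P = autInducedBy S P := by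
    refine le_antisymm (fun α hα => ?_) (autInducedBy_le_autGroup _ hP)
    obtain ⟨-, g, hg, hv⟩ := (mem_autGroup_iff_hom hP).1 hα
    exact mem_autInducedBy_iff.2 ⟨g, hg, hv⟩
  have hp : IsPGroup p ((Cfsg.innerFusionSystem S).autGroup P) := hA ▸ isPGroup_autInducedBy hS P
  have : Finite P := finite_of_le hP
  have : Finite (MulAut P) := finite_mulAut
  refine ⟨P, isConj_refl _ hP, ⟨hP, ?_⟩, hP, fun Q φ hφ hr => ?_⟩
  · obtain ⟨R, hR⟩ := (hp.to_subgroup ⊤).exists_le_sylow
    refine ⟨R, ?_⟩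
    rw [top_le_iff.1 hR]
    exact (Subgroup.subgroupOf_eq_top.2 hA.le).symm
  · obtain ⟨hQ, g, hg, hv⟩ := hφ
    exact ⟨_, (Cfsg.innerFusionSystem S).conj_mem
      ((extender_le_normalizerIn φ).trans (normalizerIn_le S Q)) hg, fun x hx _ => (hv ⟨x, hx⟩).symm⟩


/-- Let F be a saturated fusion system over a finite p-group S and Q a subgroup of S. Then Q is normal in F (F = N_F(Q)) if and only if the inner fusion system of Q, consisting of the conjugations by elements of Q on subgroups of Q, is a weakly normal subsystem of F (both saturated, Q strongly closed, invariant under F-conjugation, with the Frattini property). -/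
theorem result {Ω : Type*} [Group Ω] {S : Subgroup Ω} [Finite S] (p : ℕ) [Fact p.Prime] (hS : IsPGroup p S)
    (F : Cfsg.FusionSystem S) (hF : F.IsSaturated p)
    (Q : Subgroup Ω) (hQ : Q ≤ S) :
    F.IsNormal Q ↔ (Cfsg.innerFusionSystem Q).IsWeaklyNormalIn F p := by
  have hfin : Finite Q := CfsgLib.Fusion.finite_of_le hQ
  constructor
  · intro hn
    refine ⟨inner_saturated (hS.to_le hQ), hF, fun P φ hφ => ?_,
      CfsgLib.Fusion.isNormal_stronglyClosed hn, ?_, ?_⟩
    · obtain ⟨hP, g, hg, hv⟩ := hφ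
      exact CfsgLib.Fusion.mem_of_eq_conj (hP.trans hQ) (hQ hg) φ hv
    · intro P hPQ φ hφ α hα
      obtain ⟨hP, g, hg, hv⟩ := hφ
      refine ⟨_, (Cfsg.innerFusionSystem Q).conj_mem ?_ (α ⟨g, hg⟩).2, fun x hφx hαx => ?_⟩
      · rintro _ ⟨x, -, rfl⟩
        exact (α x).2
      · have h1 : (⟨φ x, hφx⟩ : Q) = ⟨g, hg⟩ * ⟨x, hPQ x.2⟩ * ⟨g, hg⟩⁻¹ := Subtype.ext (hv x)
        rw [h1, map_mul, map_mul, map_inv]
        rfl
    · intro P hPQ φ hφ
      obtain ⟨ψ, hψ, hag, hψQ⟩ := hn.2 P φ hφ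
      have hr : (ψ.comp (Subgroup.inclusion (le_sup_right : Q ≤ P ⊔ Q))).range = Q :=
        (CfsgLib.Fusion.range_comp_inclusion _).trans hψQ
      obtain ⟨α, hα, hαv⟩ := CfsgLib.Fusion.exists_aut
        (CfsgLib.Fusion.restrict_mem hψ le_sup_right) hr
      refine ⟨α, hα, P.subtype, CfsgLib.Fusion.subtype_mem _ hPQ, fun x hx => ?_⟩
      rw [← hag x, hαv]
      rfl
  · intro hw
    refine CfsgLib.Fusion.Stability.isNormal_of_restrictions hS hF hQ fun P hP φ hφ => ?_
    obtain ⟨α, -, φ₀, ⟨-, g, hg, hv⟩, heq⟩ := hw.2.2.2.2.2 P hP φ hφ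
    refine ⟨α * MulAut.conj (⟨g, hg⟩ : Q), fun x => ?_⟩
    have hx : φ₀ x ∈ Q := by
      rw [hv]
      exact Q.mul_mem (Q.mul_mem hg (hP x.2)) (Q.inv_mem hg)
    rw [heq x hx]
    rw [MulAut.mul_apply]
    exact congrArg (fun t : Q => ((α t : Q) : Ω)) (Subtype.ext (hv x))

end Cfsg.Agent.S5290
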