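import Cfsg.Statements.S0071
import Cfsg.Agent.Lib.Transfer.Tate

set_option autoImplicit false
open Cfsg

namespace Cfsg.Agent.S0071

/-- The Frobenius normal p-complement Theorem states that a Sylow p-subgroup has a normal complement exactly when, for each of its subgroups Q, every element of the normalizer of Q of order prime to p centralizes Q. -/
theorem result {G : Type*} [Group G] [Finite G] {p : ℕ} [Fact p.Prime] (P : Sylow p G) : (∃ N : Subgroup G, N.Normal ∧ N.IsComplement' (P : Subgroup G)) ↔ ∀ Q : Subgroup G, Q ≤ (P : Subgroup G) → ∀ g ∈ Subgroup.normalizer (Q : Set G), Nat.Coprime (orderOf g) p → g ∈ Subgroup.centralizer (Q : Set G) := by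
  rw [CfsgLib.Transfer.exists_normal_isComplement'_iff P,
    CfsgLib.Transfer.hasNormalPComplement_iff_frobenius]
  constructor
  · intro h Q hQ
    exact h Q (P.2.to_le hQ)
  · intro h D hD g hg hgc
    obtain ⟨R, hR⟩ := hD.exists_le_sylow
    obtain ⟨a, ha⟩ := MulAction.exists_smul_eq G R P
    have hle : D.map (MulAut.conj a).toMonoidHom ≤ (P : Subgroup G) := by
      rintro _ ⟨d, hd, rfl⟩
      rw [← ha]
      refine (CfsgLib.Transfer.mem_sylow_smul_iff a R _).mpr (show a⁻¹ * (a * d * a⁻¹) * a ∈ (R : Subgroup G) from ?_)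
      simpa [mul_assoc] using hR hd
    have hga : MulAut.conj a g ∈ Subgroup.normalizer
        (D.map (MulAut.conj a).toMonoidHom : Set G) :=
      Subgroup.le_normalizer_map _ ⟨g, hg, rfl⟩
    have h2 := h _ hle (MulAut.conj a g) hga (by
      rwa [MulEquiv.orderOf_eq])
    rw [Subgroup.mem_centralizer_iff] at h2 ⊢
    intro d hd
    refine (MulAut.conj a).injective ((map_mul _ _ _).trans (Eq.trans ?_ (map_mul _ _ _).symm))
    exact h2 _ ⟨d, hd, rfl⟩

end Cfsg.Agent.S0071
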