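import Cfsg.Statements.S1254
import Cfsg.Agent.Lib.TwoFusion.DihedralFusionMain
import Cfsg.Agent.S0071


set_option autoImplicit false
open Cfsg

namespace Cfsg.Agent.S1254

open CfsgLib.TwoFusion CfsgLib.TwoFusion.DihedralFusion

/-- Let X be a finite group whose Sylow 2-subgroup S is dihedral (of order at least 4). Then X has a normal 2-complement if and only if, for every Klein four-subgroup U ≤ S, the normalizer N_X(U) is generated by C_X(U) and N_S(U). -/
theorem result {X : Type*} [Group X] [Finite X] (S : Sylow 2 X) (m : ℕ) (hm : 2 ≤ m) (eS : (S : Subgroup X) ≃* DihedralGroup m) : Cfsg.HasNormalPComplement 2 X ↔ ∀ U : Subgroup X, U ≤ S → IsKleinFour U → Subgroup.normalizer (U : Set X) = Subgroup.centralizer (U : Set X) ⊔ ((S : Subgroup X) ⊓ Subgroup.normalizer (U : Set X)) := by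
  obtain ⟨D⟩ := exists_dihGens S.isPGroup' hm eS
  constructor
  · intro hN U hUS hU
    obtain ⟨O, hO, hc⟩ := (CfsgLib.Transfer.exists_normal_isComplement'_iff S).mpr hN
    refine le_antisymm (fun n hn => ?_)
      (sup_le (Subgroup.centralizer_le_normalizer _) inf_le_right)
    obtain ⟨⟨⟨o, ho⟩, ⟨s, hs⟩⟩, hos⟩ := hc.2 n
    replace hos : o * s = n := hos
    have hkey : ∀ u ∈ U, n * u * n⁻¹ = s * u * s⁻¹ := by
      intro u hu
      have hw : s * u * s⁻¹ ∈ (S : Subgroup X) :=
        (S : Subgroup X).mul_mem ((S : Subgroup X).mul_mem hs (hUS hu)) ((S : Subgroup X).inv_mem hs)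
      have hn' : n * u * n⁻¹ ∈ (S : Subgroup X) :=
        hUS ((Subgroup.mem_normalizer_iff.mp hn u).mp hu)
      have e : n * u * n⁻¹ * (s * u * s⁻¹)⁻¹ = o * (s * u * s⁻¹) * o⁻¹ * (s * u * s⁻¹)⁻¹ := by
        rw [← hos]; simp [mul_assoc]
      have h1 : n * u * n⁻¹ * (s * u * s⁻¹)⁻¹ ∈ O ⊓ (S : Subgroup X) := by
        refine ⟨?_, (S : Subgroup X).mul_mem hn' ((S : Subgroup X).inv_mem hw)⟩
        rw [SetLike.mem_coe, e]
        simpa [mul_assoc] using O.mul_mem ho (hO.conj_mem _ (O.inv_mem ho) (s * u * s⁻¹))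
      rw [hc.disjoint.eq_bot, Subgroup.mem_bot, mul_inv_eq_one] at h1
      exact h1
    have hsN : s ∈ Subgroup.normalizer (U : Set X) := by
      refine ConjUtil.mem_normalizer_of_conj_mem s fun u hu => ?_
      rw [← hkey u hu]
      exact (Subgroup.mem_normalizer_iff.mp hn u).mp hu
    have hoC : o ∈ Subgroup.centralizer (U : Set X) := by
      rw [Subgroup.mem_centralizer_iff]
      intro v hv
      have hu : s⁻¹ * v * s ∈ U := by
        simpa using (Subgroup.mem_normalizer_iff.mp (Subgroup.inv_mem _ hsN) v).mp hv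
      have h2 := hkey _ hu
      have e1 : n * (s⁻¹ * v * s) * n⁻¹ = o * v * o⁻¹ := by rw [← hos]; simp [mul_assoc]
      have e2 : s * (s⁻¹ * v * s) * s⁻¹ = v := by simp [mul_assoc]
      rw [e1, e2, mul_inv_eq_iff_eq_mul] at h2
      exact h2.symm
    rw [← hos]
    exact Subgroup.mul_mem _ (Subgroup.mem_sup_left hoC) (Subgroup.mem_sup_right ⟨hs, hsN⟩)
  · intro h
    rw [← CfsgLib.Transfer.exists_normal_isComplement'_iff S]
    refine (Cfsg.Agent.S0071.result S).mpr fun Q hQ g hg hgc => ?_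
    refine odd_centralizes D hQ (fun hK n hn hodd => ?_) hg (Nat.coprime_two_right.mp hgc)
    let φ := Q.normalizerMonoidHom
    let S' : Subgroup (Subgroup.normalizer (Q : Set X)) :=
      ((S : Subgroup X) ⊓ Subgroup.normalizer (Q : Set X)).subgroupOf _
    have htop : φ.ker ⊔ S' = ⊤ := by
      rw [Subgroup.normalizerMonoidHom_ker, ← Subgroup.subgroupOf_sup
        (Subgroup.centralizer_le_normalizer _) inf_le_right, ← h Q hQ hK, Subgroup.subgroupOf_self]
    have hmem : φ ⟨n, hn⟩ ∈ S'.map φ := by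
      have h3 : (⊤ : Subgroup (Subgroup.normalizer (Q : Set X))).map φ = S'.map φ := by
        rw [← htop, Subgroup.map_sup, (Subgroup.map_eq_bot_iff _).mpr le_rfl, bot_sup_eq]
      exact h3 ▸ Subgroup.mem_map_of_mem φ (Subgroup.mem_top _)
    have hp : IsPGroup 2 (S'.map φ) :=
      (IsPGroup.of_equiv (S.isPGroup'.to_le inf_le_left)
        (Subgroup.subgroupOfEquivOfLe inf_le_right).symm).map φ
    obtain ⟨r, hr⟩ := IsPGroup.iff_orderOf.mp hp ⟨_, hmem⟩
    rw [Subgroup.orderOf_mk] at hr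
    have h2 : orderOf (φ ⟨n, hn⟩) ∣ orderOf n :=
      (orderOf_map_dvd φ _).trans (by rw [Subgroup.orderOf_mk])
    have h5 : (⟨n, hn⟩ : Subgroup.normalizer (Q : Set X)) ∈ φ.ker := orderOf_eq_one_iff.mp
      (Nat.eq_one_of_dvd_coprimes ((Nat.coprime_two_right.mpr hodd).pow_right _) h2 hr.dvd)
    rw [Subgroup.normalizerMonoidHom_ker] at h5
    exact h5

end Cfsg.Agent.S1254
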