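import Cfsg.Statements.S1205
import Cfsg.Agent.Lib.TwoFusion.QDTheorems

set_option autoImplicit false
open Cfsg

namespace Cfsg.Agent.S1205

/-- Let G be a finite group with quasi-dihedral Sylow 2-subgroup S, T a Klein four-subgroup and Q a quaternion subgroup of order 8 of S, with |N_G(T) : C_G(T)| = 2 and |N_G(Q) : Q C_G(Q)| = 6. Then G has a normal subgroup K of index 2 whose Sylow 2-subgroups are generalized quaternion and which has no subgroup of index 2; the centre of S is weakly closed in S; and G has exactly two classes of involutions and one class of elements of order 4. -/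
theorem result {G : Type*} [Group G] [Finite G] (S : Sylow 2 G) (hS : Cfsg.IsQuasiDihedral (S : Subgroup G)) (T : Subgroup G) (hT : IsKleinFour T) (hTS : T ≤ S) (Q : Subgroup G) (hQS : Q ≤ S) (eQ : Q ≃* QuaternionGroup 2) (h₁ : (Subgroup.centralizer (T : Set G)).relIndex (Subgroup.normalizer (T : Set G)) = 2) (h₂ : (Q ⊔ Subgroup.centralizer (Q : Set G)).relIndex (Subgroup.normalizer (Q : Set G)) = 6) : (∃ K : Subgroup G, K.Normal ∧ K.index = 2 ∧ (∀ P : Sylow 2 ↥K, ∃ m : ℕ, 1 ≤ m ∧ Nonempty ((P : Subgroup ↥K) ≃* QuaternionGroup (2 ^ m))) ∧ (∀ H : Subgroup ↥K, H.index ≠ 2)) ∧ Cfsg.IsWeaklyClosed ((Subgroup.center (S : Subgroup G)).map (S : Subgroup G).subtype) (S : Subgroup G) ∧ Nat.card {C : ConjClasses G // ∃ t : G, orderOf t = 2 ∧ ConjClasses.mk t = C} = 2 ∧ Nat.card {C : ConjClasses G // ∃ t : G, orderOf t = 4 ∧ ConjClasses.mk t = C} = 1 := by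
  obtain ⟨D⟩ := CfsgLib.TwoFusion.exists_qdGens hS
  have hy : ¬ IsConj (CfsgLib.TwoFusion.QDFusion.vG D 0) (CfsgLib.TwoFusion.QDFusion.cG D) :=
    fun h => by
      have := (CfsgLib.TwoFusion.QDFusion.klein_six_iff S D hT hTS).mpr h
      omega
  have hv := (CfsgLib.TwoFusion.QDFusion.quat_six_iff S D hQS eQ).mp h₂
  refine ⟨?_, ⟨Subgroup.map_subtype_le _, ?_⟩, CfsgLib.TwoFusion.QDFusion.classes_two_two S D hy,
    CfsgLib.TwoFusion.QDFusion.classes_four_one S D hv⟩
  · obtain ⟨K, hKn, hK, hyK⟩ := CfsgLib.TwoFusion.QDFusion.exists_avoid_y S D hy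
    haveI := hKn
    have hxyK := CfsgLib.TwoFusion.QDFusion.vG_one_mem_of_conj S D hK hv
    have hR : K.subgroupOf (S : Subgroup G) = D.quatMax := by
      rcases CfsgLib.TwoFusion.QDFusion.coatom_subgroupOf S D hK with h | h | h
      · exfalso
        have h1 : D.x ^ (1 : ℤ) * D.y ∈ K.subgroupOf (S : Subgroup G) := hxyK
        rw [h, Subgroup.mul_mem_cancel_left _ (zpow_mem (Subgroup.mem_zpowers _) 1)] at h1
        exact D.y_not_mem h1
      · exact h
      · exfalso
        apply hyK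
        have h1 : D.x ^ (0 : ℤ) * D.y ∈ K.subgroupOf (S : Subgroup G) := by
          rw [h, zpow_zero, one_mul]; exact D.y_mem_dihMax
        exact h1
    have hRmap : D.quatMax.map (S : Subgroup G).subtype = (S : Subgroup G) ⊓ K := by
      rw [← hR, Subgroup.subgroupOf_map_subtype, inf_comm]
    refine ⟨K, hKn, hK, fun P => ?_, fun H hH => ?_⟩
    · obtain ⟨e⟩ := CfsgLib.TwoFusion.FusionTools.sylow_mulEquiv_of_odd K
        (D.quatMax.map (S : Subgroup G).subtype) ((S.isPGroup'.to_subgroup _).map _)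
        (hRmap ▸ inf_le_right)
        (hRmap ▸ CfsgLib.TwoFusion.FusionTools.odd_relIndex_inf _ K
          (CfsgLib.TwoFusion.FusionTools.sylow_index_odd S)) P
      exact ⟨D.p + 1, by omega, ⟨(e.trans (Subgroup.equivMapOfInjective _ _
        (S : Subgroup G).subtype_injective).symm).trans D.quatMax_mulEquiv.some⟩⟩
    · have key : ∀ i : ℤ, ¬ 2 ∣ i →
          CfsgLib.TwoFusion.QDFusion.vG D i ∈ H.map K.subtype := fun i hi => by
        obtain ⟨hm, hmH⟩ := CfsgLib.TwoFusion.QDFusion.quat_absorb S D hv K hK H hH hi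
        exact ⟨_, hmH, rfl⟩
      have hle : D.quatMax ≤ (H.map K.subtype).subgroupOf (S : Subgroup G) := by
        refine D.quatMax_le ?_ (key 1 (by omega))
        have h1 : (D.x ^ (3 : ℤ) * D.y) * (D.x ^ (1 : ℤ) * D.y)⁻¹ ∈
            (H.map K.subtype).subgroupOf (S : Subgroup G) :=
          mul_mem (key 3 (by omega)) (inv_mem (key 1 (by omega)))
        rwa [mul_inv_rev, mul_assoc, mul_inv_cancel_left, ← zpow_neg, ← zpow_add] at h1
      have h2 : ((S : Subgroup G) ⊓ K) ≤ H.map K.subtype := by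
        rw [← hRmap, Subgroup.map_le_iff_le_comap]; exact hle
      have h3 := CfsgLib.TwoFusion.FusionTools.odd_relIndex_inf (S : Subgroup G) K
        (CfsgLib.TwoFusion.FusionTools.sylow_index_odd S)
      have h4 := Subgroup.relIndex_mul_relIndex _ _ K h2 (Subgroup.map_subtype_le H)
      rw [← h4, show (H.map K.subtype).relIndex K = H.index from by
        rw [Subgroup.relIndex, ← Subgroup.comap_subtype,
          Subgroup.comap_map_eq_self_of_injective K.subtype_injective], hH] at h3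
      exact (Nat.not_odd_iff_even.mpr ⟨_, mul_two _⟩) h3
  · intro g hg
    refine Subgroup.eq_of_le_of_card_ge ?_ (Subgroup.card_map_of_injective (MulAut.conj g).injective).ge
    rintro _ ⟨a, ⟨z, hz, rfl⟩, rfl⟩
    rw [SetLike.mem_coe, D.center_eq] at hz
    obtain ⟨j, rfl⟩ := hz
    have hcS : g * CfsgLib.TwoFusion.QDFusion.cG D * g⁻¹ ∈ (S : Subgroup G) :=
      hg ⟨_, ⟨D.c, by rw [SetLike.mem_coe, D.center_eq]; exact Subgroup.mem_zpowers _, rfl⟩, rfl⟩
    have hcfix : g * CfsgLib.TwoFusion.QDFusion.cG D * g⁻¹ = CfsgLib.TwoFusion.QDFusion.cG D := by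
      rcases CfsgLib.TwoFusion.QDFusion.involution_cases D hcS (by
        rw [show g * CfsgLib.TwoFusion.QDFusion.cG D * g⁻¹ = MulAut.conj g (CfsgLib.TwoFusion.QDFusion.cG D) from rfl,
          MulEquiv.orderOf_eq]; exact CfsgLib.TwoFusion.QDFusion.orderOf_cG D) with h | h
      · exact h
      · exact absurd (h.trans (isConj_iff.mpr ⟨g, rfl⟩ : IsConj (CfsgLib.TwoFusion.QDFusion.cG D) _).symm) hy
    refine ⟨D.c ^ j, by rw [SetLike.mem_coe, D.center_eq]; exact ⟨j, rfl⟩, ?_⟩
    show ((D.c ^ j : (S : Subgroup G)) : G) = g * ((D.c ^ j : (S : Subgroup G)) : G) * g⁻¹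
    rw [SubgroupClass.coe_zpow, ← conj_zpow, hcfix]

end Cfsg.Agent.S1205
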