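import Cfsg.Statements.S1206
import Cfsg.Agent.Lib.TwoFusion.QDTheorems

set_option autoImplicit false
open Cfsg

namespace Cfsg.Agent.S1206

/-- Let G be a finite group with quasi-dihedral Sylow 2-subgroup S, T a Klein four-subgroup and Q a quaternion subgroup of order 8 of S, with |N_G(T) : C_G(T)| = 6 and |N_G(Q) : Q C_G(Q)| = 2. Then G has a normal subgroup K of index 2 whose Sylow 2-subgroups are dihedral and which has no subgroup of index 2, and G has exactly one class of involutions and two classes of elements of order 4. -/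
theorem result {G : Type*} [Group G] [Finite G] (S : Sylow 2 G) (hS : Cfsg.IsQuasiDihedral (S : Subgroup G)) (T : Subgroup G) (hT : IsKleinFour T) (hTS : T ≤ S) (Q : Subgroup G) (hQS : Q ≤ S) (eQ : Q ≃* QuaternionGroup 2) (h₁ : (Subgroup.centralizer (T : Set G)).relIndex (Subgroup.normalizer (T : Set G)) = 6) (h₂ : (Q ⊔ Subgroup.centralizer (Q : Set G)).relIndex (Subgroup.normalizer (Q : Set G)) = 2) : (∃ K : Subgroup G, K.Normal ∧ K.index = 2 ∧ (∀ P : Sylow 2 ↥K, ∃ m : ℕ, Nonempty ((P : Subgroup ↥K) ≃* DihedralGroup m)) ∧ (∀ H : Subgroup ↥K, H.index ≠ 2)) ∧ Nat.card {C : ConjClasses G // ∃ t : G, orderOf t = 2 ∧ ConjClasses.mk t = C} = 1 ∧ Nat.card {C : ConjClasses G // ∃ t : G, orderOf t = 4 ∧ ConjClasses.mk t = C} = 2 := by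
  obtain ⟨D⟩ := CfsgLib.TwoFusion.exists_qdGens hS
  have hy := (CfsgLib.TwoFusion.QDFusion.klein_six_iff S D hT hTS).mp h₁
  have hv : ¬ IsConj (CfsgLib.TwoFusion.QDFusion.vG D 1) (CfsgLib.TwoFusion.QDFusion.qG D) :=
    fun h => by
      have := (CfsgLib.TwoFusion.QDFusion.quat_six_iff S D hQS eQ).mpr h
      omega
  refine ⟨?_, CfsgLib.TwoFusion.QDFusion.classes_two_one S D hy,
    CfsgLib.TwoFusion.QDFusion.classes_four_two S D hv⟩
  obtain ⟨K, hKn, hK, hvK⟩ := CfsgLib.TwoFusion.QDFusion.exists_avoid_xy S D hv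
  haveI := hKn
  have hyK := CfsgLib.TwoFusion.QDFusion.vG_zero_mem_of_conj S D hK hy
  have hR : K.subgroupOf (S : Subgroup G) = D.dihMax := by
    rcases CfsgLib.TwoFusion.QDFusion.coatom_subgroupOf S D hK with h | h | h
    · exfalso
      have h1 : D.x ^ (0 : ℤ) * D.y ∈ K.subgroupOf (S : Subgroup G) := hyK
      rw [h, zpow_zero, one_mul] at h1
      exact D.y_not_mem h1
    · exfalso
      have h1 : D.x ^ (0 : ℤ) * D.y ∈ K.subgroupOf (S : Subgroup G) := hyK
      rw [h, zpow_zero, one_mul] at h1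
      exact D.y_not_mem_quatMax h1
    · exact h
  have hRmap : D.dihMax.map (S : Subgroup G).subtype = (S : Subgroup G) ⊓ K := by
    rw [← hR, Subgroup.subgroupOf_map_subtype, inf_comm]
  refine ⟨K, hKn, hK, fun P => ?_, fun H hH => ?_⟩
  · obtain ⟨e⟩ := CfsgLib.TwoFusion.FusionTools.sylow_mulEquiv_of_odd K
      (D.dihMax.map (S : Subgroup G).subtype) ((S.isPGroup'.to_subgroup _).map _)
      (hRmap ▸ inf_le_right)
      (hRmap ▸ CfsgLib.TwoFusion.FusionTools.odd_relIndex_inf _ K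
        (CfsgLib.TwoFusion.FusionTools.sylow_index_odd S)) P
    exact ⟨2 ^ (D.p + 2), ⟨(e.trans (Subgroup.equivMapOfInjective _ _
      (S : Subgroup G).subtype_injective).symm).trans D.dihMax_mulEquiv.some⟩⟩
  · have key : ∀ i : ℤ, 2 ∣ i →
        CfsgLib.TwoFusion.QDFusion.vG D i ∈ H.map K.subtype := fun i hi => by
      obtain ⟨hm, hmH⟩ := CfsgLib.TwoFusion.QDFusion.four_absorb S D hy K hK H hH hi
      exact ⟨_, hmH, rfl⟩
    have h0 : D.x ^ (0 : ℤ) * D.y ∈ (H.map K.subtype).subgroupOf (S : Subgroup G) :=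
      key 0 (dvd_zero 2)
    have hle : D.dihMax ≤ (H.map K.subtype).subgroupOf (S : Subgroup G) := by
      refine D.dihMax_le ?_ (by rwa [zpow_zero, one_mul] at h0)
      have h1 : (D.x ^ (2 : ℤ) * D.y) * (D.x ^ (0 : ℤ) * D.y)⁻¹ ∈
          (H.map K.subtype).subgroupOf (S : Subgroup G) :=
        mul_mem (key 2 dvd_rfl) (inv_mem h0)
      rwa [zpow_zero, one_mul, mul_inv_cancel_right] at h1
    have h2 : ((S : Subgroup G) ⊓ K) ≤ H.map K.subtype := by
      rw [← hRmap, Subgroup.map_le_iff_le_comap]; exact hle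
    have h3 := CfsgLib.TwoFusion.FusionTools.odd_relIndex_inf (S : Subgroup G) K
      (CfsgLib.TwoFusion.FusionTools.sylow_index_odd S)
    have h4 := Subgroup.relIndex_mul_relIndex _ _ K h2 (Subgroup.map_subtype_le H)
    rw [← h4, show (H.map K.subtype).relIndex K = H.index from by
      rw [Subgroup.relIndex, ← Subgroup.comap_subtype,
        Subgroup.comap_map_eq_self_of_injective K.subtype_injective], hH] at h3
    exact (Nat.not_odd_iff_even.mpr ⟨_, mul_two _⟩) h3

end Cfsg.Agent.S1206
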