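import Cfsg.Statements.S1207
import Cfsg.Agent.Lib.TwoFusion.QDTheorems

set_option autoImplicit false
open Cfsg

namespace Cfsg.Agent.S1207

/-- Let G be a finite group with quasi-dihedral Sylow 2-subgroup S, T a Klein four-subgroup and Q a quaternion subgroup of order 8 of S, with |N_G(T) : C_G(T)| = 2 and |N_G(Q) : Q C_G(Q)| = 2. Then G has a normal 2-complement, exactly two classes of involutions and exactly two classes of elements of order 4. -/
theorem result {G : Type*} [Group G] [Finite G] (S : Sylow 2 G) (hS : Cfsg.IsQuasiDihedral (S : Subgroup G)) (T : Subgroup G) (hT : IsKleinFour T) (hTS : T ≤ S) (Q : Subgroup G) (hQS : Q ≤ S) (eQ : Q ≃* QuaternionGroup 2) (h₁ : (Subgroup.centralizer (T : Set G)).relIndex (Subgroup.normalizer (T : Set G)) = 2) (h₂ : (Q ⊔ Subgroup.centralizer (Q : Set G)).relIndex (Subgroup.normalizer (Q : Set G)) = 2) : Cfsg.HasNormalPComplement 2 G ∧ Nat.card {C : ConjClasses G // ∃ t : G, orderOf t = 2 ∧ ConjClasses.mk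 t = C} = 2 ∧ Nat.card {C : ConjClasses G // ∃ t : G, orderOf t = 4 ∧ ConjClasses.mk t = C} = 2 := by
  obtain ⟨D⟩ := CfsgLib.TwoFusion.exists_qdGens hS
  have hy : ¬ IsConj (CfsgLib.TwoFusion.QDFusion.vG D 0) (CfsgLib.TwoFusion.QDFusion.cG D) :=
    fun h => by
      have := (CfsgLib.TwoFusion.QDFusion.klein_six_iff S D hT hTS).mpr h
      omega
  have hv : ¬ IsConj (CfsgLib.TwoFusion.QDFusion.vG D 1) (CfsgLib.TwoFusion.QDFusion.qG D) :=
    fun h => by
      have := (CfsgLib.TwoFusion.QDFusion.quat_six_iff S D hQS eQ).mpr h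
      omega
  refine ⟨?_, CfsgLib.TwoFusion.QDFusion.classes_two_two S D hy,
    CfsgLib.TwoFusion.QDFusion.classes_four_two S D hv⟩
  obtain ⟨M₁, hn₁, hM₁, hyM⟩ := CfsgLib.TwoFusion.QDFusion.exists_avoid_y S D hy
  obtain ⟨M₂, hn₂, hM₂, hvM⟩ := CfsgLib.TwoFusion.QDFusion.exists_avoid_xy S D hv
  haveI := hn₁
  haveI := hn₂
  -- the index is a power of two
  have hidx : (M₁ ⊓ M₂).index ∣ 2 ^ 2 := by
    rw [← Subgroup.relIndex_top_right]
    refine (Subgroup.relIndex_dvd_of_le_left _ le_rfl).trans ?_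
    rw [Subgroup.relIndex_top_right, ← Subgroup.relIndex_mul_index (inf_le_left : M₁ ⊓ M₂ ≤ M₁),
      hM₁, Subgroup.inf_relIndex_left, pow_two]
    exact mul_dvd_mul_right ((Subgroup.relIndex_dvd_index_of_normal M₂ M₁).trans hM₂.dvd) 2
  obtain ⟨k, -, hk⟩ := (Nat.dvd_prime_pow Nat.prime_two).mp hidx
  refine CfsgLib.TwoFusion.FusionTools.hasNormalPComplement_of_cyclic S (M₁ ⊓ M₂) hk ?_
  have hle : (S : Subgroup G) ⊓ (M₁ ⊓ M₂) ≤ (Subgroup.zpowers D.x).map (S : Subgroup G).subtype := by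
    intro g hg
    obtain ⟨hgS, hg1, hg2⟩ := hg
    refine ⟨⟨g, hgS⟩, ?_, rfl⟩
    obtain ⟨i, h | h⟩ := D.normalForm (⟨g, hgS⟩ : (S : Subgroup G))
    · rw [SetLike.mem_coe, h]; exact zpow_mem (Subgroup.mem_zpowers _) i
    · exfalso
      have hx2 : ∀ j : ℤ, ∀ M : Subgroup G, M.index = 2 →
          ((D.x ^ (2 * j) : (S : Subgroup G)) : G) ∈ M := fun j M hM =>
        CfsgLib.TwoFusion.QDFusion.sq_mem_index_two S D hM j
      obtain ⟨j, rfl | rfl⟩ := Int.even_or_odd' i
      · apply hyM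
        have e : (D.x ^ (2 * j))⁻¹ * (⟨g, hgS⟩ : (S : Subgroup G)) = D.x ^ (0 : ℤ) * D.y := by
          rw [h, zpow_zero, one_mul, inv_mul_cancel_left]
        have h1 := mul_mem (inv_mem (hx2 j M₁ hM₁)) hg1
        rw [← Subgroup.coe_inv] at h1
        have h2 := congrArg Subtype.val e
        rw [Subgroup.coe_mul] at h2
        rw [show CfsgLib.TwoFusion.QDFusion.vG D 0 = ((D.x ^ (0 : ℤ) * D.y : (S : Subgroup G)) : G) from rfl,
          ← h2]
        exact h1
      · apply hvM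
        have e : (D.x ^ (2 * j))⁻¹ * (⟨g, hgS⟩ : (S : Subgroup G)) = D.x ^ (1 : ℤ) * D.y := by
          rw [h, ← zpow_neg, D.mul_zy, show -(2 * j) + (2 * j + 1) = 1 by ring]
        have h1 := mul_mem (inv_mem (hx2 j M₂ hM₂)) hg2
        rw [← Subgroup.coe_inv] at h1
        have h2 := congrArg Subtype.val e
        rw [Subgroup.coe_mul] at h2
        rw [show CfsgLib.TwoFusion.QDFusion.vG D 1 = ((D.x ^ (1 : ℤ) * D.y : (S : Subgroup G)) : G) from rfl,
          ← h2]
        exact h1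
  haveI : IsCyclic ((Subgroup.zpowers D.x).map (S : Subgroup G).subtype) := by
    rw [MonoidHom.map_zpowers]; infer_instance
  exact Subgroup.isCyclic_of_le hle

end Cfsg.Agent.S1207
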