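import Cfsg.Statements.S1237
import Cfsg.Agent.Lib.TwoFusion.RankTwoTrans.Main
import Cfsg.Agent.Lib.SylowU3.Model


set_option autoImplicit false
open Cfsg

namespace Cfsg.Agent.S1237

open CfsgLib.TwoFusion.RankTwo

/-- A group with unitary coordinates over the field of `16` elements satisfies the hypotheses and is
nonabelian. -/
theorem threeInvol_of_coords {T : Type*} [Group T] {F : Type*} [Field F] [Fintype F] {s : F →+* F}
    (c : CfsgLib.SylowU3.UCoords T s) (hF : CfsgLib.SylowU3.UField F s (2 ^ 2)) :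
    ThreeInvol T ∧ ∃ x y : T, x * y ≠ y * x := by
  classical
  haveI : Finite T := Finite.of_injective c.c c.inj
  have hpg : IsPGroup 2 T := IsPGroup.of_card (n := 6) (by rw [c.card_eq hF]; norm_num)
  have hset : {x : T | x * x = 1} = (Subgroup.center T : Set T) := by
    ext x; exact (c.mem_center_iff_sq hF x).symm
  have hcard : Nat.card {x : T // x * x = 1} = 4 := by
    rw [show Nat.card {x : T // x * x = 1} = Nat.card ↥(Subgroup.center T) from
      Nat.card_congr (Equiv.setCongr hset), c.card_center hF]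
    norm_num
  refine ⟨⟨hpg, hcard, ?_⟩, ?_⟩
  · -- a scalar of norm different from one
    let Fix : Finset F := Finset.univ.filter fun y => s y = y
    have hFix : Fix.card = 4 := by
      rw [← Fintype.card_subtype, ← Nat.card_eq_fintype_card, hF.card_fixed]; norm_num
    obtain ⟨N, hN, hN01⟩ : ∃ N ∈ Fix, N ∉ ({0, 1} : Finset F) :=
      Finset.exists_mem_notMem_of_card_lt_card (by
        have : ({0, 1} : Finset F).card ≤ 2 := Finset.card_le_two
        omega)
    simp only [Finset.mem_insert, Finset.mem_singleton, not_or] at hN01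
    obtain ⟨hN0, hN1⟩ := hN01
    have hNs : s N = N := (Finset.mem_filter.mp hN).2
    obtain ⟨⟨a, ha⟩⟩ : Nonempty {z : F // z * s z = N} :=
      (Nat.card_ne_zero.mp (by rw [hF.card_norm N hNs hN0]; norm_num)).1
    have ha0 : a ≠ 0 := fun h => hN0 (by rw [← ha, h, zero_mul])
    have hcond : ∀ x : T, N * (c.c x).2 + s (N * (c.c x).2) =
        a * (c.c x).1 * s (a * (c.c x).1) := fun x => by
      rw [map_mul s N, hNs, ← mul_add, c.cond, ← ha, map_mul]; ring
    choose f hf using fun x => c.surj _ _ (hcond x)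
    have hmul : ∀ x y, f (x * y) = f x * f y := fun x y => c.inj (by
      rw [hf, c.mul x y, c.mul, hf, hf]
      refine Prod.ext ?_ ?_
      · simp only [mul_add]
      · simp only [map_mul, ← ha]; ring)
    have hinj : Function.Injective f := fun x y hxy => by
      have h1 := congrArg c.c hxy
      rw [hf, hf] at h1
      exact c.inj (Prod.ext (mul_left_cancel₀ ha0 (congrArg Prod.fst h1))
        (mul_left_cancel₀ hN0 (congrArg Prod.snd h1)))
    let φ : MulAut T := MulEquiv.ofBijective (MonoidHom.mk' f hmul)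
      (Finite.injective_iff_bijective.mp hinj)
    refine ⟨φ, fun x y hx hx1 hy hy1 => ?_⟩
    have hpow : ∀ k : ℕ, c.c ((φ ^ k) x) = (0, N ^ k * (c.c x).2) := by
      intro k
      induction k with
      | zero =>
        rw [pow_zero, pow_zero, one_mul]
        exact Prod.ext ((c.mul_self_eq_one_iff hF x).mp hx) rfl
      | succ k ih =>
        rw [pow_succ', MulAut.mul_apply]
        show c.c (f ((φ ^ k) x)) = _
        rw [hf, ih, mul_zero, pow_succ', mul_assoc]
    have hne : ∀ z : T, z * z = 1 → z ≠ 1 → (c.c z).2 ≠ 0 ∧ (c.c z).2 ∈ Fix := by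
      intro z hz hz1
      have h1 := (c.mul_self_eq_one_iff hF z).mp hz
      refine ⟨fun h0 => hz1 ((c.eq_one_iff hF z).mpr ⟨h1, h0⟩), ?_⟩
      have h2 := c.cond z
      rw [h1, zero_mul] at h2
      simp only [Fix, Finset.mem_filter, Finset.mem_univ, true_and]
      calc s (c.c z).2 = (c.c z).2 + (c.c z).2 + s (c.c z).2 := by rw [hF.two, zero_add]
        _ = (c.c z).2 := by rw [add_assoc, h2, add_zero]
    obtain ⟨hx0, hxF⟩ := hne x hx hx1
    obtain ⟨hy0, hyF⟩ := hne y hy hy1
    set r := (c.c y).2 / (c.c x).2 with hr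
    have hr0 : r ≠ 0 := div_ne_zero hy0 hx0
    have hrF : r ∈ Fix := by
      simp only [Fix, Finset.mem_filter, Finset.mem_univ, true_and] at hxF hyF ⊢
      rw [hr, map_div₀, hxF, hyF]
    have hN2F : N * N ∈ Fix := by
      simp only [Fix, Finset.mem_filter, Finset.mem_univ, true_and]
      rw [map_mul, hNs]
    have hN2 : N * N ≠ 1 := fun h => by
      have h2 : (N + 1) * (N + 1) = 0 := by
        calc (N + 1) * (N + 1) = N * N + 1 + (N + N) := by ring
          _ = 0 := by rw [h, hF.two, hF.two, add_zero]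
      have h3 := mul_self_eq_zero.mp h2
      exact hN1 (by
        calc N = N + (1 + 1) := by rw [hF.two, add_zero]
          _ = N + 1 + 1 := by ring
          _ = 1 := by rw [h3, zero_add])
    have hall : ({0, 1, N, N * N} : Finset F) = Fix := by
      refine Finset.eq_of_subset_of_card_le ?_ (le_of_eq ?_)
      · intro z hz
        simp only [Finset.mem_insert, Finset.mem_singleton] at hz
        rcases hz with rfl | rfl | rfl | rfl
        · simp [Fix]
        · simp [Fix]
        · exact hN
        · exact hN2F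
      · rw [hFix, Finset.card_insert_of_notMem (by
            simp [Ne.symm hN0, (mul_ne_zero hN0 hN0).symm]),
          Finset.card_insert_of_notMem (by simp [Ne.symm hN1, hN2.symm]),
          Finset.card_insert_of_notMem (by
            simp only [Finset.mem_singleton]
            intro h; exact hN1 (mul_left_cancel₀ hN0 (by rw [mul_one]; exact h.symm))),
          Finset.card_singleton]
    rw [← hall] at hrF
    simp only [Finset.mem_insert, Finset.mem_singleton] at hrF
    have hy1' : (c.c y).1 = 0 := (c.mul_self_eq_one_iff hF y).mp hy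
    have key : ∀ k : ℕ, r = N ^ k → (φ ^ k) x = y := fun k hk => c.inj (by
      rw [hpow, ← hk, hr, div_mul_cancel₀ _ hx0]
      exact Prod.ext hy1'.symm rfl)
    rcases hrF with h | h | h | h
    · exact absurd h hr0
    · exact ⟨0, key 0 (by rw [h, pow_zero])⟩
    · exact ⟨1, key 1 (by rw [h, pow_one])⟩
    · exact ⟨2, key 2 (by rw [h, sq])⟩
  · by_contra hab
    push Not at hab
    have h1 : Subgroup.center T = ⊤ :=
      eq_top_iff.mpr fun x _ => Subgroup.mem_center_iff.mpr fun y => hab y x
    have h2 := c.card_center hF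
    rw [h1, Subgroup.card_top, c.card_eq hF] at h2
    norm_num at h2


/-- Let T be a finite 2-group of 2-rank exactly 2 (it has a Klein four-subgroup but no elementary abelian subgroup of order 8) admitting an automorphism φ such that any two involutions of T are carried to one another by a power of φ. Then T ≅ Z_{2^n} × Z_{2^n} for some n ≥ 1, or T is isomorphic to a Sylow 2-subgroup of PSU(3) over the field with 16 elements. -/
theorem result {T : Type*} [Group T] [Finite T] (hT : IsPGroup 2 T) (h2 : Cfsg.PRankLE 2 2 T) (h1 : ¬ Cfsg.PRankLE 2 1 T) (φ : MulAut T) (htrans : ∀ s t : T, orderOf s = 2 → orderOf t = 2 → ∃ k : ℕ, (φ ^ k) s = t) {F : Type*} [Field F] [Fintype F] (hF : Fintype.card F = 16) (P : Sylow 2 (Cfsg.PSU 3 F 4)) : (∃ n : ℕ, 1 ≤ n ∧ Nonempty (T ≃* Multiplicative (ZMod (2 ^ n) × ZMod (2 ^ n)))) ∨ Nonempty (T ≃* (P : Subgroup (Cfsg.PSU 3 F 4))) := by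
  classical
  haveI : Fact (Nat.Prime 2) := ⟨Nat.prime_two⟩
  obtain ⟨A, hAc, hA2, hA⟩ : ∃ A : Subgroup T, IsMulCommutative A ∧ (∀ a ∈ A, a ^ 2 = 1) ∧
      2 < Nat.card A := by
    simp only [Cfsg.PRankLE] at h1
    push Not at h1
    obtain ⟨A, a, b, c⟩ := h1
    exact ⟨A, a, b, by simpa using c⟩
  haveI : Nontrivial T := by
    have : 1 < Nat.card A := by omega
    obtain ⟨a, b, hab⟩ := (Finite.one_lt_card_iff_nontrivial.mp this).exists_pair_ne
    exact ⟨⟨a, b, fun h => hab (Subtype.ext h)⟩⟩
  have ord2 : ∀ s : T, s * s = 1 → s ≠ 1 → orderOf s = 2 := fun s hs hs1 =>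
    orderOf_eq_prime (by rw [sq]; exact hs) hs1
  -- the involutions are central
  obtain ⟨z, hz⟩ := exists_prime_orderOf_dvd_card' (G := Subgroup.center T) 2 (by
    obtain ⟨j, hj, hj'⟩ := (hT.to_subgroup _).nontrivial_iff_card.mp hT.center_nontrivial
    rw [hj']; exact dvd_pow_self 2 (by omega))
  rw [← Subgroup.orderOf_coe] at hz
  have hcen : ∀ x : T, x * x = 1 → ∀ t, x * t = t * x := by
    intro x hx t
    by_cases hx1 : x = 1
    · rw [hx1, one_mul, mul_one]
    obtain ⟨k, rfl⟩ := htrans z x hz (ord2 x hx hx1)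
    obtain ⟨t', rfl⟩ := (φ ^ k).surjective t
    rw [← map_mul, ← map_mul, Subgroup.mem_center_iff.mp z.2 t']
  let V : Subgroup T :=
    { carrier := {x | x * x = 1}
      one_mem' := one_mul 1
      mul_mem' := fun {a b} ha hb => by
        show a * b * (a * b) = 1
        calc a * b * (a * b) = a * (b * a) * b := by group
          _ = a * (a * b) * b := by rw [hcen b hb a]
          _ = (a * a) * (b * b) := by group
          _ = 1 := by rw [show a * a = 1 from ha, show b * b = 1 from hb, one_mul]
      inv_mem' := fun {a} ha => by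
        show a⁻¹ * a⁻¹ = 1
        rw [← mul_inv_rev, show a * a = 1 from ha, inv_one] }
  have hAV : A ≤ V := fun a ha => show a * a = 1 by rw [← sq]; exact hA2 a ha
  have hle : Nat.card V ≤ 2 ^ 2 := h2 V
    ⟨⟨fun a b => Subtype.ext (hcen a a.2 b)⟩⟩ (fun a ha => by rw [sq]; exact ha)
  have hV4 : Nat.card V = 4 := by
    obtain ⟨j, hj⟩ := (hT.to_subgroup V).exists_card_eq
    have := hA.trans_le (Nat.le_of_dvd Nat.card_pos (Subgroup.card_dvd_of_le hAV))
    rw [hj] at this hle ⊢
    have hj2 : j ≤ 2 := (Nat.pow_le_pow_iff_right (by norm_num)).mp hle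
    interval_cases j <;> omega
  have hTI : ThreeInvol T :=
    ⟨hT, hV4, φ, fun s t hs hs1 ht ht1 => htrans s t (ord2 s hs hs1) (ord2 t ht ht1)⟩
  by_cases hab : ∀ x y : T, x * y = y * x
  · exact Or.inl (hTI.homocyclic hab)
  · right
    push Not at hab
    obtain ⟨s, -, hU, ⟨c⟩⟩ := CfsgLib.SylowU3.exists_coords_PSU (F := F) 2 (by rw [hF]; norm_num) P
    obtain ⟨hP, hPna⟩ := threeInvol_of_coords c hU
    haveI : Finite ↥(P : Subgroup (Cfsg.PSU 3 F 4)) := Finite.of_injective c.c c.inj
    exact (hTI.hasForm hab).mulEquiv (hP.hasForm hPna)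

end Cfsg.Agent.S1237
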