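import Cfsg.Statements.S1248
import Cfsg.Agent.Lib.SylowU3.Model


set_option autoImplicit false
open Cfsg

namespace Cfsg.Agent.S1248

open CfsgLib.SylowU3
open scoped commutatorElement

theorem core {F : Type*} [Field F] [Fintype F] {s : F →+* F} {T : Type*} [Group T] [Finite T]
    (hU : UField F s 4) (co : UCoords T s) :
    Nat.card T = 64 ∧ IsKleinFour (Subgroup.center T) ∧
      Subgroup.center T = Subgroup.closure {x : T | orderOf x = 2} ∧
      Subgroup.center T = commutator T ∧ Nat.card (T ⧸ Subgroup.center T) = 16 ∧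
      ∀ x : T ⧸ Subgroup.center T, x ^ 2 = 1 := by
  have hcard : Nat.card T = 64 := by
    rw [co.card_eq hU]
    norm_num
  have hZ : Nat.card ↥(Subgroup.center T) = 4 := by
    rw [co.card_center hU]

  have hsq : ∀ z ∈ Subgroup.center T, z * z = 1 := fun z hz =>
    (co.mem_center_iff_sq hU z).mp hz
  refine ⟨hcard, ⟨hZ, ?_⟩, ?_, ?_, ?_, ?_⟩
  · have : Nontrivial ↥(Subgroup.center T) :=
      Finite.one_lt_card_iff_nontrivial.mp (by rw [hZ]; norm_num)
    refine (Monoid.exponent_eq_prime_iff Nat.prime_two).mpr fun z hz => orderOf_eq_prime ?_ hz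
    exact Subtype.ext (by rw [pow_two]; exact hsq z z.2)
  · refine le_antisymm (fun z hz => ?_) ((Subgroup.closure_le _).mpr fun x hx => ?_)
    · rcases eq_or_ne z 1 with rfl | hz1
      · exact Subgroup.one_mem _
      · exact Subgroup.subset_closure (orderOf_eq_prime (by rw [pow_two]; exact hsq z hz) hz1)
    · refine (co.mem_center_iff_sq hU x).mpr ?_
      have hx2 : orderOf x = 2 := hx
      rw [← pow_two, ← hx2, pow_orderOf_eq_one]
  · refine le_antisymm (fun w hw => ?_) ?_
    · obtain ⟨a, ha⟩ := hU.trace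
      have h0 : (co.c w).1 = 0 := (co.mem_center_iff hU w).mp hw
      have hw2 : (co.c w).2 + s (co.c w).2 = 0 := by
        rw [co.cond, h0, zero_mul]
      have hsw : s (co.c w).2 = (co.c w).2 := by
        calc s (co.c w).2 = ((co.c w).2 + s (co.c w).2) + (co.c w).2 := by
              rw [add_comm (co.c w).2, add_assoc, hU.two, add_zero]
          _ = (co.c w).2 := by rw [hw2, zero_add]
      obtain ⟨x, hx⟩ := co.exists_fst hU (1 : F)
      obtain ⟨x', hx'⟩ := co.exists_fst hU ((co.c w).2 * a)
      have he : x * x' = w * (x' * x) := by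
        refine co.inj (Prod.ext ?_ ?_)
        · simp only [co.mul, h0]
          ring
        · simp only [co.mul, h0, hx, hx', map_zero, zero_mul, map_one, one_mul, add_zero, map_mul,
            hsw, mul_one]
          linear_combination (-(co.c w).2) * ha + hU.two ((co.c w).2 * a) - hU.two ((co.c w).2)
      have hwc : w = ⁅x, x'⁆ := by
        rw [commutatorElement_def, he]
        simp [mul_assoc]
      rw [hwc]
      exact Subgroup.commutator_mem_commutator (Subgroup.mem_top x) (Subgroup.mem_top x')
    · rw [commutator_def, Subgroup.commutator_le]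
      intro x _ y _
      have he : x * y = ⁅x, y⁆ * (y * x) := by simp [commutatorElement_def, mul_assoc]
      have h1 := congrArg (fun z => (co.c z).1) he
      simp only [co.mul] at h1
      rw [co.mem_center_iff hU]
      linear_combination -h1
  · have h := Subgroup.card_eq_card_quotient_mul_card_subgroup
      (Subgroup.center T)
    rw [hcard, hZ] at h
    omega
  · intro x
    obtain ⟨y, rfl⟩ := QuotientGroup.mk'_surjective _ x
    rw [← map_pow, QuotientGroup.mk'_apply, QuotientGroup.eq_one_iff, pow_two]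
    exact co.sq_mem_center hU y


/-- Let F be a field with 16 elements and S a Sylow 2-subgroup of PSU(3) over F (the unitary group U₃(4)). Then |S| = 64; the centre Z(S) is a Klein four-group and coincides with the subgroup generated by the involutions of S and with the derived subgroup; and every element of S ⧸ Z(S) squares to the identity, S ⧸ Z(S) having order 16. -/
theorem result {F : Type*} [Field F] [Fintype F] (hF : Fintype.card F = 16) (S : Sylow 2 (Cfsg.PSU 3 F 4)) : Nat.card S = 64 ∧ IsKleinFour (Subgroup.center (S : Subgroup (Cfsg.PSU 3 F 4))) ∧ Subgroup.center (S : Subgroup (Cfsg.PSU 3 F 4)) = Subgroup.closure {x : (S : Subgroup (Cfsg.PSU 3 F 4)) | orderOf x = 2} ∧ Subgroup.center (S : Subgroup (Cfsg.PSU 3 F 4)) = commutator (S : Subgroup (Cfsg.PSU 3 F 4)) ∧ Nat.card ((S : Subgroup (Cfsg.PSU 3 F 4)) ⧸ Subgroup.center (S : Subgroup (Cfsg.PSU 3 F 4))) = 16 ∧ ∀ x : (S : Subgroup (Cfsg.PSU 3 F 4)) ⧸ Subgroup.center (S : Subgroup (Cfsg.PSU 3 F 4)), x ^ 2 = 1 := by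
  obtain ⟨s, -, hU, ⟨co⟩⟩ :=
    CfsgLib.SylowU3.exists_coords_PSU 2 (by simpa using hF) (S : Sylow 2 (Cfsg.PSU 3 F (2 ^ 2)))
  exact core (T := ↥(S : Subgroup (Cfsg.PSU 3 F 4))) hU co

end Cfsg.Agent.S1248
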