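import Cfsg.Statements.S1201
import Cfsg.Agent.Lib.TwoFusion.WreathedSubgroups

set_option autoImplicit false
open Cfsg

namespace Cfsg.Agent.S1201

/-- If X is a non-commutative subgroup of a wreathed 2-group S, then Z(X) ≤ Z(S). -/
theorem result {S : Type*} [Group S] [Finite S] (hS : Cfsg.IsWreathed S) (X : Subgroup S) (hX : ¬ IsMulCommutative X) : (Subgroup.center X).map X.subtype ≤ Subgroup.center S := by
  obtain ⟨D⟩ := CfsgLib.TwoFusion.exists_wrGens hS
  rintro _ ⟨⟨g, hgX⟩, hg, rfl⟩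
  have hgc : ∀ h ∈ X, h * g = g * h := fun h hh =>
    congrArg Subtype.val (Subgroup.mem_center_iff.mp hg ⟨h, hh⟩)
  show g ∈ Subgroup.center S
  obtain ⟨w, hwX, hw⟩ : ∃ w ∈ X, w ∉ D.base := by
    by_contra h
    push Not at h
    refine hX ⟨⟨fun p q => Subtype.ext ?_⟩⟩
    have e := congrArg Subtype.val (D.base_comm.is_comm.comm ⟨_, h p p.2⟩ ⟨_, h q q.2⟩)
    exact e
  by_cases hgb : g ∈ D.base
  · obtain ⟨c, d, rfl⟩ := D.mem_base.mp hgb
    obtain ⟨a, b, rfl⟩ := D.not_mem_base_iff.mp hw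
    exact D.mem_center_iff_diag.mpr (D.u_commute_uz_iff.mp (hgc _ hwX).symm)
  · exfalso
    obtain ⟨a, b, rfl⟩ := D.not_mem_base_iff.mp hgb
    apply hX
    set g := D.u a b * D.z
    have key : ∀ p ∈ X, ∀ q ∈ X, p * q = q * p := by
      intro p hp q hq
      rcases D.commute_uz_cases (hgc p hp) with h | h
      · exact (Subgroup.mem_center_iff.mp h q).symm
      · calc p * q = p * g * g⁻¹ * q := by rw [mul_inv_cancel_right]
          _ = p * g * (q * g⁻¹) := by
              rw [mul_assoc (p * g)]; congr 1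
              calc g⁻¹ * q = g⁻¹ * (q * g) * g⁻¹ := by group
                _ = q * g⁻¹ := by rw [hgc q hq]; group
          _ = q * g⁻¹ * (p * g) := (Subgroup.mem_center_iff.mp h _).symm
          _ = q * p := by rw [hgc p hp]; group
    exact ⟨⟨fun p q => Subtype.ext (key p p.2 q q.2)⟩⟩

end Cfsg.Agent.S1201
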