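import Cfsg.Statements.S5213
import Cfsg.Agent.Lib.TwoFusion.AlperinRankTwo.System


set_option autoImplicit false
open Cfsg

namespace Cfsg.Agent.S5213

open CfsgLib.TwoFusion.AlperinRankTwo

/-- Let S be a finite 2-group of 2-rank 2 (it has an elementary abelian subgroup of order 4 and none of order 8) and F a saturated fusion system over S with trivial centre. Then S is dihedral, semidihedral, wreathed, homocyclic abelian (a direct product of cyclic groups of one common order), or isomorphic to a Sylow 2-subgroup of the projective special unitary group PSU₃(4) (realised over the field with 16 elements). -/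
theorem result {Ω : Type*} [Group Ω] {S : Subgroup Ω} [Finite S] (hS : IsPGroup 2 S) (F : Cfsg.FusionSystem S) (hF : F.IsSaturated 2) (hr : Cfsg.PRankAtLeast 2 2 ↥S ∧ ¬ Cfsg.PRankAtLeast 2 3 ↥S) (hZ : F.center = ⊥) {K : Type*} [Field K] [Fintype K] (hK : Fintype.card K = 16) : (∃ m : ℕ, Nonempty (↥S ≃* DihedralGroup m)) ∨ Cfsg.IsQuasiDihedral ↥S ∨ Cfsg.IsWreathed ↥S ∨ (∃ n k : ℕ, Nonempty (↥S ≃* Multiplicative (Fin k → ZMod (2 ^ n)))) ∨ ∃ T : Sylow 2 (Cfsg.PSU 3 K 4), Nonempty (↥S ≃* ↥(T : Subgroup (Cfsg.PSU 3 K 4))) := by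
  classical
  haveI : Fact (Nat.Prime 2) := ⟨Nat.prime_two⟩
  have h2 : Cfsg.PRankLE 2 2 S := by
    intro A hA hexp
    by_contra hlt
    refine hr.2 ⟨A, hA, hexp, ?_⟩
    have hp : IsPGroup 2 A := fun a => ⟨1, Subtype.ext (hexp a a.2)⟩
    obtain ⟨k, hk⟩ := hp.exists_card_eq
    rw [hk] at hlt ⊢
    refine Nat.pow_le_pow_right two_pos ?_
    by_contra hk3
    exact hlt (Nat.pow_le_pow_right two_pos (by omega))
  have h1 : ¬ Cfsg.PRankLE 2 1 S := fun h => by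
    obtain ⟨A, hA, hexp, hcard⟩ := hr.1
    have := h A hA hexp
    omega
  obtain ⟨T⟩ := (inferInstance : Nonempty (Sylow 2 (Cfsg.PSU 3 K 4)))
  suffices h : IsDQ S ∨ ∃ Q ≤ S, F.IsCentric Q ∧ S ≤ Subgroup.normalizer (Q : Set Ω) ∧
      ∀ x ∈ S, orderOf x = 2 → (∀ s ∈ S, s * x = x * s) →
        ∃ hx : x ∈ Q, ∃ β ∈ F.autGroup Q, ((β : MulAut Q) ⟨x, hx⟩ : Ω) ≠ x by
    rcases h with (⟨m, -, hm⟩ | hq) | ⟨Q, hQS, hQc, hQn, hmove⟩
    · exact Or.inl ⟨m, hm⟩
    · exact Or.inr (Or.inl hq)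
    rcases shape_of_local hS hF h2 h1 hQS hQc hQn hmove hK T with
      ⟨m, -, hm⟩ | h | h | ⟨n, -, ⟨f⟩⟩ | h
    exacts [Or.inl ⟨m, hm⟩, Or.inr (Or.inl h), Or.inr (Or.inr (Or.inl h)),
      Or.inr (Or.inr (Or.inr (Or.inl ⟨n, 2, ⟨f.trans
        (AddEquiv.toMultiplicative (RingEquiv.piFinTwo fun _ : Fin 2 => ZMod (2 ^ n)).toAddEquiv.symm)⟩⟩))),
      Or.inr (Or.inr (Or.inr (Or.inr ⟨T, h⟩)))]
  obtain ⟨A, hA, hexp, hcard⟩ := hr.1
  obtain ⟨a, haA, ha1⟩ := exists_notMem_finset A {1} (by simp; omega)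
  haveI : Nontrivial S := ⟨⟨a, 1, by simpa using ha1⟩⟩
  obtain ⟨z₀, hz₀⟩ := exists_prime_orderOf_dvd_card' (G := Subgroup.center S) 2 (by
    obtain ⟨j, hj, hj'⟩ := (hS.to_subgroup _).nontrivial_iff_card.mp hS.center_nontrivial
    rw [hj']; exact dvd_pow_self 2 (by omega))
  set zS : S := z₀.1 with hzS
  have hz : orderOf zS = 2 := by rw [hzS, Subgroup.orderOf_coe]; exact hz₀
  have hcenΩ : ∀ x : S, x ∈ Subgroup.center S ↔ ∀ s ∈ S, s * (x : Ω) = x * s := fun x =>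
    Subgroup.mem_center_iff.trans ⟨fun h s hs => congrArg Subtype.val (h ⟨s, hs⟩),
      fun h g => Subtype.ext (h g g.2)⟩
  by_cases huniq : ∀ x : S, orderOf x = 2 → x ∈ Subgroup.center S → x = zS
  swap
  · -- several central involutions
    push Not at huniq
    obtain ⟨u, hu, huc, hne⟩ := huniq
    have hall : ∀ w : S, orderOf w = 2 → w ∈ Subgroup.center S := fun w hw => by
      rcases rank_three_false h2 hz hu (Ne.symm hne) (c := w)
          (by rw [← sq, ← hw]; exact pow_orderOf_eq_one w)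
          ((Subgroup.mem_center_iff.mp z₀.2 u).symm) ((Subgroup.mem_center_iff.mp z₀.2 w).symm)
          ((Subgroup.mem_center_iff.mp huc w).symm) with h | h | h | h <;> subst h
      · simp at hw
      exacts [z₀.2, huc, mul_mem z₀.2 huc]
    refine Or.inr ⟨S, le_rfl, CfsgLib.Fusion.isCentric_top F, Subgroup.le_normalizer,
      fun x hxS hx _ => ⟨hxS, exists_aut_top hS hF hZ (fun w hw hw2 => (hcenΩ ⟨w, hw⟩).1
        (hall ⟨w, hw⟩ (by rw [← Subgroup.orderOf_coe]; exact hw2))) hxS hx⟩⟩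
  -- a unique central involution
  obtain ⟨v, hvA, hv'⟩ := exists_notMem_finset A {1, zS} (lt_of_le_of_lt Finset.card_le_two (by omega))
  simp only [Finset.mem_insert, Finset.mem_singleton, not_or] at hv'
  rcases isDQ_or_normal_four hS zS hz z₀.2 huniq ⟨v, orderOf_eq_prime (hexp v hvA) hv'.1, hv'.2⟩ with
    h | ⟨eS, he, hne, hconj⟩
  · exact Or.inl h
  by_cases hsmall : ∃ s : S, orderOf s = 2 ∧ s ≠ zS ∧
      Nat.card (Subgroup.centralizer ({s} : Set S)) ≤ 4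
  · obtain ⟨s, hs, hsz, hsc⟩ := hsmall
    exact Or.inl (isDQ_of_small_centralizer hS zS hz z₀.2 huniq hs hsz hsc)
  push Not at hsmall
  right
  have hzc := (hcenΩ zS).1 z₀.2
  have hzΩ : orderOf (zS : Ω) = 2 := by rw [Subgroup.orderOf_coe, hz]
  have heΩ : orderOf (eS : Ω) = 2 := by rw [Subgroup.orderOf_coe, he]
  have hezΩ : (eS : Ω) ≠ zS := fun h => hne (Subtype.ext h)
  have huΩ : ∀ x ∈ S, orderOf x = 2 → (∀ s ∈ S, s * x = x * s) → x = zS := fun x hx hx2 hxc =>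
    congrArg Subtype.val (huniq ⟨x, hx⟩ (by rw [← Subgroup.orderOf_coe]; exact hx2) ((hcenΩ ⟨x, hx⟩).2 hxc))
  have hconjΩ : ∀ s ∈ S, s * (eS : Ω) * s⁻¹ = eS ∨ s * (eS : Ω) * s⁻¹ = eS * zS := fun s hs =>
    (hconj ⟨s, hs⟩).imp (congrArg Subtype.val) (congrArg Subtype.val)
  have hroot := four_root hS h2 hz hzc hzΩ eS he hne hconj hsmall
  have hfin : ∀ e' : S, orderOf e' = 2 → e' ≠ zS →
      (∀ s ∈ S, s * (e' : Ω) * s⁻¹ = e' ∨ s * (e' : Ω) * s⁻¹ = e' * zS) → F.IsConjElt zS e' →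
      ∃ Q ≤ S, F.IsCentric Q ∧ S ≤ Subgroup.normalizer (Q : Set Ω) ∧
        ∀ x ∈ S, orderOf x = 2 → (∀ s ∈ S, s * x = x * s) →
          ∃ hx : x ∈ Q, ∃ β ∈ F.autGroup Q, ((β : MulAut Q) ⟨x, hx⟩ : Ω) ≠ x := by
    intro e' he' hne' hc' hze'
    obtain ⟨Q, hQS, hQc, hQn, hzQ, β, hβ, hβz⟩ := exists_local_four hS hF zS.2 e'.2 hzΩ
      (by rw [Subgroup.orderOf_coe, he']) (fun h => hne' (Subtype.ext h)) hzc huΩ hc' hze'
    refine ⟨Q, hQS, hQc, hQn, fun x hx hx2 hxc => ?_⟩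
    obtain rfl := huΩ x hx hx2 hxc
    exact ⟨hzQ, β, hβ, hβz⟩
  rcases exists_conj_four hS hF hZ h2 zS.2 eS.2 hzΩ heΩ hezΩ hzc hconjΩ hroot with h | h
  · exact hfin eS he hne hconjΩ h
  · refine hfin (eS * zS) ?_ ?_ (fun s hs => ?_) h
    · refine orderOf_eq_prime ?_ fun h1 => hne ?_
      · rw [(show Commute eS zS from Subgroup.mem_center_iff.mp z₀.2 eS).mul_pow,
          ← he, pow_orderOf_eq_one, he, ← hz, pow_orderOf_eq_one, one_mul]
      · rw [eq_inv_of_mul_eq_one_left h1, inv_eq_of_mul_eq_one_right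
          (show zS * zS = 1 by rw [← sq, ← hz]; exact pow_orderOf_eq_one zS)]
    · intro h1
      rw [mul_eq_right] at h1
      simp [h1] at he
    · have hzs : s * (zS : Ω) * s⁻¹ = zS := mul_inv_eq_iff_eq_mul.2 (hzc s hs)
      have key : s * ((eS * zS : S) : Ω) * s⁻¹ = (s * eS * s⁻¹) * zS := by
        rw [Subgroup.coe_mul, conj_mul_conj s eS zS, hzs]
      have hzz : (zS : Ω) * zS = 1 := by rw [← sq, ← hzΩ]; exact pow_orderOf_eq_one _
      rw [key, Subgroup.coe_mul]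
      rcases hconjΩ s hs with h' | h' <;> rw [h']
      · exact Or.inl rfl
      · exact Or.inr rfl

end Cfsg.Agent.S5213
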