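import Cfsg.Statements.S5337
import Cfsg.Agent.Lib.Fusion.Stability

set_option autoImplicit false
open Cfsg

namespace Cfsg.Agent.S5337

open Cfsg.FusionSystem CfsgLib.Fusion

variable {Ω : Type*} [Group Ω] {S : Subgroup Ω} {F : Cfsg.FusionSystem S} {p : ℕ}

/-- the inner system of a finite `p`-group is saturated -/
theorem inner_saturated [Finite S] [Fact p.Prime] (hS : IsPGroup p S) :
    (Cfsg.innerFusionSystem S).IsSaturated p := by
  intro P hP
  have hA : (Cfsg.innerFusionSystem S).autGroup P = autInducedBy S P := by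
    refine le_antisymm (fun α hα => ?_) (autInducedBy_le_autGroup _ hP)
    obtain ⟨-, g, hg, hv⟩ := (mem_autGroup_iff_hom hP).1 hα
    exact mem_autInducedBy_iff.2 ⟨g, hg, hv⟩
  have hp : IsPGroup p ((Cfsg.innerFusionSystem S).autGroup P) := hA ▸ isPGroup_autInducedBy hS P
  have : Finite P := finite_of_le hP
  have : Finite (MulAut P) := finite_mulAut
  refine ⟨P, isConj_refl _ hP, ⟨hP, ?_⟩, hP, fun Q φ hφ hr => ?_⟩
  · obtain ⟨R, hR⟩ := (hp.to_subgroup ⊤).exists_le_sylow
    refine ⟨R, ?_⟩
    rw [top_le_iff.1 hR]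
    exact (Subgroup.subgroupOf_eq_top.2 hA.le).symm
  · obtain ⟨hQ, g, hg, hv⟩ := hφ
    exact ⟨_, (Cfsg.innerFusionSystem S).conj_mem
      ((extender_le_normalizerIn φ).trans (normalizerIn_le S Q)) hg, fun x hx _ => (hv ⟨x, hx⟩).symm⟩


/-- Let F be a saturated fusion system over a finite abelian p-group S. Then F is simple if and only if S has order p and F is the inner system of S (whose only maps are the inclusions, S being abelian). -/
theorem result {Ω : Type*} [Group Ω] {S : Subgroup Ω} [Finite S] (p : ℕ) [Fact p.Prime] (hS : IsPGroup p S) (F : Cfsg.FusionSystem S) (hF : F.IsSaturated p) (hab : ∀ x ∈ S, ∀ y ∈ S, x * y = y * x) : F.IsSimple p ↔ (Nat.card S = p ∧ ∀ P : Subgroup Ω, F.Hom P = (Cfsg.innerFusionSystem S).Hom P) := by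
  constructor
  · intro hs
    obtain ⟨-, hS1, hnorm⟩ := hs
    have hinnS : Cfsg.Inn S = ⊥ := by
      rw [eq_bot_iff]
      rintro α ⟨g, rfl⟩
      rw [Subgroup.mem_bot]
      refine MulEquiv.ext fun x => Subtype.ext ?_
      show (g : Ω) * x * (g : Ω)⁻¹ = x
      rw [hab g g.2 x x.2, mul_inv_cancel_right]
    have hSn : F.IsNormal S := by
      refine (CfsgLib.Fusion.isNormal_iff_essential hS hF).2 fun P hP => ?_
      have hPeq : P = S := by
        rcases hP with h | hP
        · exact h
        · refine le_antisymm hP.1.1 fun s hs => ?_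
          refine CfsgLib.Fusion.centralizerIn_le_of_isCentric hP.1 ⟨hs, ?_⟩
          show s ∈ Subgroup.centralizer (P : Set Ω)
          rw [Subgroup.mem_centralizer_iff]
          exact fun y hy => hab y (hP.1.1 hy) s hs
      subst hPeq
      exact ⟨le_rfl, fun α _ => by
        rw [Subgroup.subgroupOf_self, Subgroup.map_top_of_surjective _ α.surjective]⟩
    have hB : ∀ B : Subgroup Ω, F.StronglyClosed B → B = ⊥ ∨ B = S := by
      intro B hBc
      have hBS : B ≤ S := hBc.1
      have hBab : ∀ x ∈ B, ∀ y ∈ B, x * y = y * x := fun x hx y hy => hab x (hBS hx) y (hBS hy)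
      have hBn := CfsgLib.Fusion.Stability.isNormal_of_abelian hS hF hBc hBab
      have hinn : (Cfsg.innerFusionSystem B).IsNormalIn F p := by
        have : Finite B := CfsgLib.Fusion.finite_of_le hBS
        have hid : ∀ (P : Subgroup Ω) (φ : P →* Ω), φ ∈ (Cfsg.innerFusionSystem B).Hom P →
            ∀ x : P, φ x = x := by
          rintro P φ ⟨hP, g, hg, hv⟩ x
          rw [hv, hBab g hg x (hP x.2), mul_inv_cancel_right]
        refine ⟨⟨inner_saturated (hS.to_le hBS), hF, fun P φ hφ => ?_, hBc, ?_, ?_⟩, ?_⟩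
        · obtain ⟨hP, g, hg, hv⟩ := hφ
          exact CfsgLib.Fusion.mem_of_eq_conj (hP.trans hBS) (hBS hg) φ hv
        · intro P hPB φ hφ α hα
          refine ⟨_, (Cfsg.innerFusionSystem B).conj_mem ?_ B.one_mem, fun x hφx hαx => ?_⟩
          · rintro _ ⟨x, -, rfl⟩
            exact (α x).2
          · simp only [Cfsg.conjHom, MonoidHom.coe_comp, Function.comp_apply,
              MulEquiv.coe_toMonoidHom, Subgroup.coe_subtype, MulAut.conj_apply, one_mul, inv_one,
              mul_one]
            congr 2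
            exact Subtype.ext (hid P φ hφ x).symm
        · intro P hPB φ hφ
          obtain ⟨ψ, hψ, hag, hψB⟩ := hBn.2 P φ hφ
          have hr : (ψ.comp (Subgroup.inclusion (le_sup_right : B ≤ P ⊔ B))).range = B :=
            (CfsgLib.Fusion.range_comp_inclusion _).trans hψB
          obtain ⟨α, hα, hαv⟩ := CfsgLib.Fusion.exists_aut
            (CfsgLib.Fusion.restrict_mem hψ le_sup_right) hr
          refine ⟨α, hα, P.subtype, CfsgLib.Fusion.subtype_mem _ hPB, fun x hx => ?_⟩
          rw [← hag x, hαv]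
          rfl
        · intro α hα
          have hα1 : ∀ x : B, ((α x : B) : Ω) = x := fun x => by
            have := hid B _ ((CfsgLib.Fusion.mem_autGroup_iff_hom le_rfl).1 hα) x
            simpa using this
          refine ⟨1, one_mem _, fun x => ?_, fun c hc => ?_⟩
          · simp [hα1]
          · simp
      rcases hnorm B _ hinn with h | h
      · exact Or.inl h
      · exact Or.inr h.1
    have hinner : ∀ P, F.Hom P = (Cfsg.innerFusionSystem S).Hom P := by
      have hSc : F.StronglyClosed S := ⟨le_rfl, fun R _ φ hφ x => CfsgLib.Fusion.map_mem hφ x⟩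
      have hSsub : ∀ (P : Subgroup Ω) (φ : P →* Ω), φ ∈ (Cfsg.innerFusionSystem S).Hom P →
          φ ∈ F.Hom P := fun P φ ⟨hP, g, hg, hv⟩ => CfsgLib.Fusion.mem_of_eq_conj hP hg φ hv
      have hid : ∀ (P : Subgroup Ω) (φ : P →* Ω), φ ∈ (Cfsg.innerFusionSystem S).Hom P →
          ∀ x : P, φ x = x := by
        rintro P φ ⟨hP, g, hg, hv⟩ x
        rw [hv, hab g hg x (hP x.2), mul_inv_cancel_right]
      have hinn : (Cfsg.innerFusionSystem S).IsNormalIn F p := by
        refine ⟨⟨inner_saturated hS, hF, fun P φ hφ => hSsub P φ hφ, hSc, ?_, ?_⟩, ?_⟩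
        · intro P hPS φ hφ α hα
          refine ⟨_, (Cfsg.innerFusionSystem S).conj_mem ?_ S.one_mem, fun x hφx hαx => ?_⟩
          · rintro _ ⟨x, -, rfl⟩
            exact (α x).2
          · simp only [Cfsg.conjHom, MonoidHom.coe_comp, Function.comp_apply,
              MulEquiv.coe_toMonoidHom, Subgroup.coe_subtype, MulAut.conj_apply, one_mul, inv_one,
              mul_one]
            congr 2
            exact Subtype.ext (hid P φ hφ x).symm
        · intro P hPS φ hφ
          obtain ⟨ψ, hψ, hag, hψS⟩ := hSn.2 P φ hφ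
          have hr : (ψ.comp (Subgroup.inclusion (le_sup_right : S ≤ P ⊔ S))).range = S :=
            (CfsgLib.Fusion.range_comp_inclusion _).trans hψS
          obtain ⟨α, hα, hαv⟩ := CfsgLib.Fusion.exists_aut
            (CfsgLib.Fusion.restrict_mem hψ le_sup_right) hr
          refine ⟨α, hα, P.subtype, CfsgLib.Fusion.subtype_mem _ hPS, fun x hx => ?_⟩
          rw [← hag x, hαv]
          rfl
        · intro α hα
          have hα1 : ∀ x : S, ((α x : S) : Ω) = x := fun x => by
            have := hid S _ ((CfsgLib.Fusion.mem_autGroup_iff_hom le_rfl).1 hα) x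
            simpa using this
          refine ⟨1, one_mem _, fun x => ?_, fun c hc => ?_⟩
          · simp [hα1]
          · simp
      rcases hnorm S _ hinn with h | h
      · exact absurd h hS1
      · exact fun P => (h.2 P).symm
    refine ⟨?_, hinner⟩
    have hScard : p ∣ Nat.card S := by
      obtain ⟨n, hn⟩ := IsPGroup.iff_card.1 hS
      rcases n.eq_zero_or_pos with rfl | hn0
      · exact absurd (Subgroup.card_eq_one.1 (by simpa using hn)) hS1
      · exact hn ▸ dvd_pow_self p hn0.ne'
    obtain ⟨a, ha⟩ := exists_prime_orderOf_dvd_card' p hScard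
    have haS : Subgroup.zpowers (a : Ω) ≤ S := Subgroup.zpowers_le.2 a.2
    have hc : F.StronglyClosed (Subgroup.zpowers (a : Ω)) := by
      refine ⟨haS, fun R hR φ hφ x => ?_⟩
      obtain ⟨hRS, g, hg, hv⟩ := hinner R ▸ hφ
      rw [hv, hab g hg x (hRS x.2), mul_inv_cancel_right]
      exact hR x.2
    rcases hB _ hc with h | h
    · rw [Subgroup.zpowers_eq_bot] at h
      rw [← Subgroup.orderOf_coe, h, orderOf_one] at ha
      exact absurd ha.symm (Fact.out : p.Prime).ne_one
    · rw [← h, Nat.card_zpowers, Subgroup.orderOf_coe, ha]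
  · rintro ⟨hcard, hinner⟩
    have hS1 : S ≠ ⊥ := by
      rintro rfl
      simp at hcard
      exact (Fact.out : p.Prime).ne_one hcard.symm
    refine ⟨hF, hS1, fun T E hE => ?_⟩
    have hTS : T ≤ S := hE.1.2.2.2.1.1
    have : Finite T := CfsgLib.Fusion.finite_of_le hTS
    have hdvd : Nat.card T ∣ p := hcard ▸ Subgroup.card_dvd_of_le hTS
    rcases (Nat.dvd_prime Fact.out).1 hdvd with h | h
    · exact Or.inl (Subgroup.card_eq_one.1 h)
    · have hT : T = S := Subgroup.eq_of_le_of_card_ge hTS (hcard.trans h.symm).le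
      subst hT
      refine Or.inr ⟨rfl, fun P => subset_antisymm (hE.1.2.2.1 P) fun φ hφ => ?_⟩
      obtain ⟨hP, g, hg, hv⟩ := hinner P ▸ hφ
      exact CfsgLib.Fusion.mem_of_eq_conj hP hg φ hv

end Cfsg.Agent.S5337
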