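import Cfsg.Statements.S5191
import Mathlib.GroupTheory.Sylow

set_option autoImplicit false
open Cfsg
open scoped Pointwise

namespace Cfsg.Agent.S5191

theorem result {G : Type*} [Group G] [Finite G] {p : ℕ} [Fact p.Prime]
    [hN : (Cfsg.pPrimeCore p G).Normal] (S : Sylow p G) (P : Subgroup G) (hP : P ≤ (S : Subgroup G))
    (γ : G ⧸ Cfsg.pPrimeCore p G)
    (hγ : ∀ x ∈ P, γ * QuotientGroup.mk x * γ⁻¹ ∈ ((S : Subgroup G).map (QuotientGroup.mk' (Cfsg.pPrimeCore p G)))) :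
    ∃ g : G, ∀ x ∈ P, g * x * g⁻¹ ∈ S ∧
      (QuotientGroup.mk (g * x * g⁻¹) : G ⧸ Cfsg.pPrimeCore p G) = γ * QuotientGroup.mk x * γ⁻¹ := by
  obtain ⟨g₀, hg₀⟩ := QuotientGroup.mk_surjective γ
  set H : Subgroup G := (S : Subgroup G) ⊔ Cfsg.pPrimeCore p G
  have hSH : (S : Subgroup G) ≤ H := le_sup_left
  have hP' : P.map (MulAut.conj g₀).toMonoidHom ≤ H := by
    rintro _ ⟨x, hx, rfl⟩
    obtain ⟨s, hs, hs'⟩ := hγ x hx
    have hs'' : (QuotientGroup.mk s : G ⧸ Cfsg.pPrimeCore p G) = QuotientGroup.mk (g₀ * x * g₀⁻¹) := by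
      rw [← hg₀] at hs'
      simpa using hs'
    rw [QuotientGroup.eq] at hs''
    have : g₀ * x * g₀⁻¹ = s * (s⁻¹ * (g₀ * x * g₀⁻¹)) := by group
    show g₀ * x * g₀⁻¹ ∈ H
    rw [this]
    exact Subgroup.mul_mem_sup hs hs''
  have hpP : IsPGroup p ((P.map (MulAut.conj g₀).toMonoidHom).subgroupOf H) :=
    ((S.isPGroup'.to_le hP).map _).of_equiv (Subgroup.subgroupOfEquivOfLe hP').symm
  obtain ⟨T, hT⟩ := hpP.exists_le_sylow
  obtain ⟨k, hk⟩ := MulAction.exists_smul_eq H T (S.subtype hSH)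
  obtain ⟨s, hs, n, hn, hkn⟩ := Subgroup.mem_sup_of_normal_right.1 k.2
  have hn1 : (QuotientGroup.mk n : G ⧸ Cfsg.pPrimeCore p G) = 1 := (QuotientGroup.eq_one_iff n).2 hn
  refine ⟨n * g₀, fun x hx => ⟨?_, ?_⟩⟩
  · have h1 : (⟨g₀ * x * g₀⁻¹, hP' ⟨x, hx, rfl⟩⟩ : H) ∈ (T : Subgroup H) := hT ⟨x, hx, rfl⟩
    have h2 : MulAut.conj k • (⟨g₀ * x * g₀⁻¹, hP' ⟨x, hx, rfl⟩⟩ : H) ∈
        ((k • T : Sylow p H) : Subgroup H) := by
      rw [Sylow.coe_subgroup_smul]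
      exact Subgroup.smul_mem_pointwise_smul _ _ _ h1
    rw [hk, Sylow.coe_subtype, Subgroup.mem_subgroupOf] at h2
    have h3 : s * n * (g₀ * x * g₀⁻¹) * (s * n)⁻¹ ∈ (S : Subgroup G) := by
      rw [hkn]; simpa [MulAut.smul_def] using h2
    have := mul_mem (mul_mem (inv_mem hs) h3) hs
    show _ ∈ (S : Subgroup G)
    simpa [mul_assoc] using this
  · rw [← hg₀]
    simp [mul_inv_rev, hn1, mul_assoc]

end Cfsg.Agent.S5191
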