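import Cfsg.Statements.S5336
import Cfsg.Agent.S5118
import Cfsg.Agent.Lib.Fusion.Saturation

set_option autoImplicit false
open Cfsg

namespace Cfsg.Agent.S5336

open Cfsg.FusionSystem


/-- Let G be a finite group with Sylow p-subgroup S whose fusion system F_S(G) is simple. If G has no nontrivial normal subgroup of order prime to p and no proper subgroup H containing S induces the same fusion system on S as G does, then G is a simple group. -/
theorem result {G : Type*} [Group G] [Finite G] (p : ℕ) [Fact p.Prime] (S : Sylow p G) (hsimple : (Cfsg.groupFusionSystem (S : Subgroup G)).IsSimple p) (hcore : Cfsg.pPrimeCore p G = ⊥) (hmin : ∀ (H : Subgroup G) (hSH : (S : Subgroup G) ≤ H), H ≠ ⊤ → ∃ P : Subgroup G, (Cfsg.fusionSystemOfSubgroup H (S : Subgroup G) hSH).Hom P ≠ (Cfsg.groupFusionSystem (S : Subgroup G)).Hom P) : IsSimpleGroup G := by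
  have hne : Nontrivial G := by
    by_contra hc
    rw [not_nontrivial_iff_subsingleton] at hc
    exact hsimple.2.1 (Subsingleton.elim _ _)
  refine ⟨fun N hN => ?_⟩
  by_contra hcon
  push Not at hcon
  obtain ⟨hN1, hN2⟩ := hcon
  rcases hsimple.2.2 _ _ (Cfsg.Agent.S5118.result p S N) with h | ⟨hT, hE⟩
  · refine hN1 (eq_bot_iff.2 (hcore ▸ le_sSup ⟨hN, ?_⟩))
    rw [Nat.coprime_comm, (Fact.out : p.Prime).coprime_iff_not_dvd]
    intro hdvd
    obtain ⟨x, hx⟩ := exists_prime_orderOf_dvd_card' p hdvd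
    have hU : IsPGroup p (Subgroup.zpowers (x : G)) :=
      IsPGroup.of_card (n := 1) (by rw [Nat.card_zpowers, Subgroup.orderOf_coe, hx, pow_one])
    obtain ⟨g, hg⟩ := CfsgLib.Fusion.exists_conj_le_sylow S hU
    have hmem : g * x * g⁻¹ ∈ (S : Subgroup G) ⊓ N :=
      ⟨hg _ (Subgroup.mem_zpowers _), hN.conj_mem _ x.2 g⟩
    rw [h, Subgroup.mem_bot, conj_eq_one_iff] at hmem
    rw [← Subgroup.orderOf_coe, hmem, orderOf_one] at hx
    exact (Fact.out : p.Prime).ne_one hx.symm
  · have hSN : (S : Subgroup G) ≤ N := inf_eq_left.1 hT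
    obtain ⟨P, hP⟩ := hmin N hSN hN2
    refine hP ?_
    rw [← hE P]
    ext φ
    simp [Cfsg.fusionSystemOfSubgroup, hT]

end Cfsg.Agent.S5336
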