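import Cfsg.Statements.S5343
import Cfsg.Agent.S5336
import Cfsg.Agent.S5191
import Cfsg.Agent.Lib.Fusion.Transport
import Cfsg.Agent.Lib.Solvable.Core

set_option autoImplicit false
universe u
open Cfsg

namespace Cfsg.Agent.S5343

open Cfsg.FusionSystem CfsgLib.Fusion CfsgLib.Fusion.Transport

variable {Ω : Type u} [Group Ω] {S : Subgroup Ω} {F : Cfsg.FusionSystem S} {p : ℕ}
  {G : Type u} [Group G] {ι : S →* G}

/-- a quotient by a subgroup meeting the image of `S` trivially realizes the same system -/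
theorem realized_quotient [Finite G] [Fact p.Prime] [(Cfsg.pPrimeCore p G).Normal]
    (hι : F.IsRealizedBy ι) (T : Sylow p G) (hT : (T : Subgroup G) = ι.range) :
    F.IsRealizedBy ((QuotientGroup.mk' (Cfsg.pPrimeCore p G)).comp ι) := by
  set N := Cfsg.pPrimeCore p G with hN
  have hker : ∀ y ∈ (T : Subgroup G), y ∈ N → y = 1 := by
    intro y hy hyN
    obtain ⟨k, hk⟩ := T.2 ⟨y, hy⟩
    have h1 : orderOf y ∣ p ^ k := orderOf_dvd_of_pow_eq_one (congrArg Subtype.val hk)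
    have h2 : orderOf y ∣ Nat.card N := by
      rw [← Subgroup.orderOf_mk y hyN]; exact orderOf_dvd_natCard _
    exact orderOf_eq_one_iff.1 (Nat.eq_one_of_dvd_coprimes
      ((CfsgLib.Solvable.pPrimeCore_card_coprime p G).pow_right k) h2 h1)
  have hinj : ∀ a b : S, QuotientGroup.mk' N (ι a) = QuotientGroup.mk' N (ι b) → a = b := by
    intro a b hab
    have h1 : ι (a⁻¹ * b) ∈ N := by
      rw [← QuotientGroup.eq_one_iff]
      show QuotientGroup.mk' N (ι (a⁻¹ * b)) = 1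
      rw [map_mul, map_mul, map_inv, map_inv, hab, inv_mul_cancel]
    have h2 := hker _ (hT ▸ ⟨_, rfl⟩) h1
    exact inv_mul_eq_one.1 (hι.1 (h2.trans (map_one ι).symm))
  refine ⟨fun a b => hinj a b, fun P hP φ hφ => ⟨fun hmem => ?_, ?_⟩⟩
  · obtain ⟨g, hg⟩ := (hι.2 P hP φ hφ).1 hmem
    refine ⟨QuotientGroup.mk' N g, fun x => ?_⟩
    show QuotientGroup.mk' N (ι _) = _
    rw [hg x, map_mul, map_mul, map_inv]
    rfl
  · rintro ⟨γ, hγ⟩
    have hPG : (P.subgroupOf S).map ι ≤ (T : Subgroup G) := hT ▸ Subgroup.map_le_range ι _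
    obtain ⟨g, hg⟩ := Cfsg.Agent.S5191.result T _ hPG γ (by
      rintro _ ⟨s, hs, rfl⟩
      have := hγ ⟨s, hs⟩
      exact ⟨ι ⟨φ ⟨s, hs⟩, hφ _⟩, hT ▸ ⟨_, rfl⟩, this⟩)
    refine (hι.2 P hP φ hφ).2 ⟨g, fun x => ?_⟩
    obtain ⟨hg1, hg2⟩ := hg _ ⟨⟨x, hP x.2⟩, x.2, rfl⟩
    obtain ⟨s, hs⟩ : g * ι ⟨x, hP x.2⟩ * g⁻¹ ∈ ι.range := hT ▸ hg1
    rw [← hs]
    refine congrArg ι (hinj _ _ ?_)
    rw [hs]
    exact (hγ x).trans hg2.symm

/-- a group realizing a simple system gives a simple group system -/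
theorem isSimple_group [Finite S] [Finite G] [Fact p.Prime] (hS : IsPGroup p S) (hsimple : F.IsSimple p)
    (hι : F.IsRealizedBy ι) (T : Sylow p G) (hT : (T : Subgroup G) = ι.range) :
    (Cfsg.groupFusionSystem (T : Subgroup G)).IsSimple p := by
  have hs := Subgroup.subtype_injective S
  have htop : (⊤ : Subgroup S).map S.subtype = S := by
    rw [← MonoidHom.range_eq_map, Subgroup.range_subtype]
  set F₀ := pullSys F S.subtype hs htop with hF₀
  have h₁ : IsPush S.subtype F₀ F := isPush_pullSys F hs htop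
  have hTle : ∀ x : S, ι x ∈ (T : Subgroup G) := fun x => hT ▸ ⟨x, rfl⟩
  have h₂ : IsPush ι F₀ (Cfsg.groupFusionSystem (T : Subgroup G)) := by
    refine ⟨by rw [← MonoidHom.range_eq_map, hT], hι.1, fun {P φ P' φ'} hr => ?_⟩
    obtain ⟨ψ, hψ⟩ := exists_rel_right hs φ
    have hP : P.map S.subtype ≤ S := Subgroup.map_subtype_le P
    have hψS : ∀ x, ψ x ∈ S := by
      rintro ⟨_, x, hx, rfl⟩
      exact (hψ.2 ⟨x, hx⟩ ⟨x, hx, rfl⟩).symm ▸ (φ _).2
    have hval : ∀ (x : S) (hx : x ∈ P) (h1 : (x : Ω) ∈ P.map S.subtype) (h2 : ψ ⟨(x : Ω), h1⟩ ∈ S),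
        (⟨ψ ⟨(x : Ω), h1⟩, h2⟩ : S) = φ ⟨x, hx⟩ :=
      fun x hx h1 h2 => Subtype.ext (hψ.2 ⟨x, hx⟩ h1)
    have hP' : ∀ x : P, ι (x : S) ∈ P' := fun x => hr.1 ▸ ⟨x, x.2, rfl⟩
    rw [h₁.iff hψ, hι.2 _ hP ψ hψS]
    constructor
    · rintro ⟨g, hg⟩
      have key : ∀ y : P', φ' y = g * (y : G) * g⁻¹ ∧ φ' y ∈ (T : Subgroup G) := by
        rintro ⟨y, hy⟩
        obtain ⟨x, hx, rfl⟩ : y ∈ P.map ι := hr.1.symm ▸ hy
        rw [hr.2 ⟨x, hx⟩]
        refine ⟨?_, hTle _⟩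
        exact (congrArg ι (hval x hx ⟨x, hx, rfl⟩ _)).symm.trans (hg ⟨_, x, hx, rfl⟩)
      exact ⟨hr.1 ▸ (Subgroup.map_le_range ι P).trans hT.ge, fun y => (key y).2, g,
        fun y => (key y).1⟩
    · rintro ⟨-, -, g, hg⟩
      refine ⟨g, ?_⟩
      rintro ⟨_, x, hx, rfl⟩
      refine (congrArg ι (hval x hx ⟨x, hx, rfl⟩ _)).trans ?_
      exact (hr.2 ⟨x, hx⟩ (hP' ⟨x, hx⟩)).symm.trans (hg ⟨_, hP' ⟨x, hx⟩⟩)
  have hne : (T : Subgroup G) ≠ ⊥ := by
    intro hbot
    refine hsimple.2.1 (eq_bot_iff.2 fun x hx => ?_)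
    have h1 : ι ⟨x, hx⟩ ∈ (T : Subgroup G) := hTle _
    rw [hbot, Subgroup.mem_bot] at h1
    rw [Subgroup.mem_bot]
    exact congrArg Subtype.val (hι.1 (h1.trans (map_one ι).symm) : (⟨x, hx⟩ : S) = 1)
  refine ⟨groupFusionSystem_isSaturated T, hne, fun T' E hE => ?_⟩
  have hT'T : T' ≤ (T : Subgroup G) := hE.1.2.2.2.1.1
  have hT' : (T'.comap ι).map ι = T' := Subgroup.map_comap_eq_self (hT'T.trans hT.le)
  have hE₀ : IsPush ι (pullSys E ι hι.1 hT') E := isPush_pullSys E hι.1 hT'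
  set E₀ := pullSys E ι hι.1 hT'
  have hp0 : IsPGroup p (T'.comap ι) := hS.to_subgroup _
  have htop' : IsPGroup p (⊤ : Subgroup S) := hS.to_subgroup _
  have hn₀ : E₀.IsNormalIn F₀ p := (h₂.isNormalIn_iff hE₀ htop' hp0).2 hE
  have hE₁ := isPush_pushSys E₀ hs
  rcases hsimple.2.2 _ _ ((h₁.isNormalIn_iff hE₁ htop' hp0).1 hn₀) with h | ⟨hTS, hhom⟩
  · left
    have : T'.comap ι = ⊥ := (Subgroup.map_eq_bot_iff_of_injective _ hs).1 h
    rw [← hT', this, Subgroup.map_bot]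
  · right
    have hc : T'.comap ι = ⊤ := Subgroup.map_injective hs (hTS.trans htop.symm)
    refine ⟨by rw [← hT', hc, ← MonoidHom.range_eq_map, hT], fun P' => Set.ext fun φ' =>
      ⟨fun hφ' => ?_, fun hφ' => ?_⟩⟩
    · obtain ⟨φ, hφ, hr⟩ := hE₀.exists_left hφ'
      obtain ⟨ψ, hψ, hr'⟩ := hE₁.exists_right hφ
      rw [hhom] at hψ
      exact (h₂.iff hr).1 ((h₁.iff hr').2 hψ)
    · obtain ⟨φ, hφ, hr⟩ := h₂.exists_left hφ'
      obtain ⟨ψ, hψ, hr'⟩ := h₁.exists_right hφ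
      rw [← hhom] at hψ
      exact (hE₀.iff hr).1 ((hE₁.iff hr').2 hψ)

theorem main [Finite S] [Fact p.Prime] (hS : IsPGroup p S) (hsimple : F.IsSimple p) :
    ∀ (n : ℕ) (G : Type u) [Group G] [Finite G] (ι : S →* G) (T : Sylow p G), Nat.card G ≤ n →
      F.IsRealizedBy ι → (T : Subgroup G) = ι.range →
      ∃ (K : Type u) (_ : Group K) (_ : Finite K) (_ : IsSimpleGroup K) (κ : S →* K),
        F.IsRealizedBy κ ∧ ∃ T : Sylow p K, (T : Subgroup K) = κ.range := by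
  intro n
  induction n using Nat.strong_induction_on with
  | _ n ih =>
    intro G _ _ ι T hn hι hT
    have hN := CfsgLib.Solvable.pPrimeCore_normal p G
    by_cases hcore : Cfsg.pPrimeCore p G = ⊥
    · by_cases hmin : ∀ (H : Subgroup G) (hSH : (T : Subgroup G) ≤ H), H ≠ ⊤ →
        ∃ P : Subgroup G, (Cfsg.fusionSystemOfSubgroup H (T : Subgroup G) hSH).Hom P ≠
          (Cfsg.groupFusionSystem (T : Subgroup G)).Hom P
      · exact ⟨G, inferInstance, inferInstance,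
          Cfsg.Agent.S5336.result p T (isSimple_group hS hsimple hι T hT) hcore hmin,
          ι, hι, T, hT⟩
      · push Not at hmin
        obtain ⟨H, hSH, hne, heq⟩ := hmin
        have hlt : Nat.card H < Nat.card G := by
          refine lt_of_le_of_ne (Subgroup.card_le_card_group H) fun h => hne ?_
          exact Subgroup.eq_top_of_card_eq H h
        let κ : S →* H := ι.codRestrict H fun x => hSH (hT ▸ ⟨x, rfl⟩)
        refine ih (Nat.card H) (by omega) H κ (T.subtype hSH) le_rfl ⟨fun a b hab =>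
          hι.1 (congrArg Subtype.val hab), fun P hP φ hφ => ⟨fun hmem => ?_, ?_⟩⟩ ?_
        · obtain ⟨g, hg⟩ := (hι.2 P hP φ hφ).1 hmem
          set Q : Subgroup G := (P.subgroupOf S).map ι
          have hQT : Q ≤ (T : Subgroup G) := hT ▸ Subgroup.map_le_range ι _
          have hmem' : Cfsg.conjHom Q g ∈ (Cfsg.groupFusionSystem (T : Subgroup G)).Hom Q := by
            refine ⟨hQT, ?_, g, fun _ => rfl⟩
            rintro ⟨_, s, hs, rfl⟩
            show g * ι s * g⁻¹ ∈ (T : Subgroup G)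
            rw [← hg ⟨s, hs⟩, hT]
            exact ⟨_, rfl⟩
          rw [← heq Q] at hmem'
          obtain ⟨-, -, h, hh, hgh⟩ := hmem'
          refine ⟨⟨h, hh⟩, fun x => Subtype.ext ((hg x).trans ?_)⟩
          exact hgh ⟨_, ⟨x, hP x.2⟩, x.2, rfl⟩
        · rintro ⟨g, hg⟩
          exact (hι.2 P hP φ hφ).2 ⟨g, fun x => congrArg Subtype.val (hg x)⟩
        · rw [Sylow.coe_subtype]
          ext y
          rw [Subgroup.mem_subgroupOf, hT]
          exact ⟨fun ⟨x, hx⟩ => ⟨x, Subtype.ext hx⟩, fun ⟨x, hx⟩ => ⟨x, congrArg Subtype.val hx⟩⟩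
    · have hlt : Nat.card (G ⧸ Cfsg.pPrimeCore p G) < Nat.card G := by
        rw [Subgroup.card_eq_card_quotient_mul_card_subgroup (Cfsg.pPrimeCore p G)]
        exact lt_mul_of_one_lt_right Nat.card_pos ((Subgroup.one_lt_card_iff_ne_bot _).2 hcore)
      refine ih (Nat.card (G ⧸ Cfsg.pPrimeCore p G)) (by omega) _ _
        (T.mapSurjective (QuotientGroup.mk'_surjective (Cfsg.pPrimeCore p G))) le_rfl
        (realized_quotient hι T hT) ?_
      rw [Sylow.coe_mapSurjective, MonoidHom.range_comp, hT]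

/-- Let F be a simple saturated fusion system over a finite p-group S that is realized by some finite group on a Sylow p-subgroup. Then F is realized by a finite simple group on a Sylow p-subgroup. -/
theorem result {Ω : Type u} [Group Ω] {S : Subgroup Ω} [Finite S] (p : ℕ) [Fact p.Prime] (hS : IsPGroup p S) (F : Cfsg.FusionSystem S) (hsimple : F.IsSimple p) (hreal : F.IsRealizable p) : ∃ (G : Type u) (_ : Group G) (_ : Finite G) (_ : IsSimpleGroup G) (ι : ↥S →* G), F.IsRealizedBy ι ∧ ∃ T : Sylow p G, (T : Subgroup G) = ι.range := by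
  obtain ⟨G, hG, hGf, ι, hι, T, hT⟩ := hreal
  exact main hS hsimple (Nat.card G) G ι T le_rfl hι hT

end Cfsg.Agent.S5343
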