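import Cfsg.Statements.S5220
import Cfsg.Agent.Lib.FusionControl.AgemoLift
import Cfsg.Agent.Lib.FusionControl.GroupAgemo
import Cfsg.Agent.Lib.PLocal.ZJ

set_option autoImplicit false
open Cfsg

namespace Cfsg.Agent.S5220

open Cfsg.FusionSystem CfsgLib.Fusion CfsgLib.FusionControl

universe u

/-- The functor `Q ↦ J(Q)`. -/
def jW (Q : Type u) [Group Q] : Subgroup Q := CfsgLib.PLoc.joinMaxAb 0 (⊤ : Subgroup Q)

theorem jW_ne_bot {p : ℕ} [Fact p.Prime] (Q : Type u) [Group Q] [Finite Q] (hQ : IsPGroup p Q)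
    (hne : Nontrivial Q) : jW Q ≠ ⊥ := fun h =>
  CfsgLib.ZJCenter.zj_ne_bot (p := p) (Or.inl rfl) (hQ.to_subgroup (⊤ : Subgroup Q)) top_ne_bot
    (le_bot_iff.1 (inf_le_left.trans h.le))

theorem jW_natural {p : ℕ} (Q R : Type u) [Group Q] [Group R] [Finite Q] (_ : IsPGroup p Q)
    (φ : Q ≃* R) : (jW Q).map φ.toMonoidHom = jW R := by
  rw [jW, CfsgLib.ZJCenter.joinMaxAb_map (f := φ.toMonoidHom) φ.injective,
    Subgroup.map_top_of_surjective _ φ.surjective, jW]

theorem jW_map {H : Type u} [Group H] (P : Subgroup H) :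
    (jW P).map P.subtype = CfsgLib.PLoc.joinMaxAb 0 P := by
  rw [jW, CfsgLib.ZJCenter.joinMaxAb_map P.subtype_injective, ← MonoidHom.range_eq_map,
    Subgroup.range_subtype]

theorem joinMaxAb_eq_of_le {H : Type u} [Group H] [Finite H] {D Q : Subgroup H} (hQD : Q ≤ D)
    (h : CfsgLib.PLoc.joinMaxAb 0 D ≤ Q) :
    CfsgLib.PLoc.joinMaxAb 0 Q = CfsgLib.PLoc.joinMaxAb 0 D := by
  obtain ⟨A, hA⟩ := CfsgLib.PLoc.exists_isMaxAb 0 D
  have hAQ : A ≤ Q := (CfsgLib.PLoc.le_joinMaxAb hA).trans h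
  refine le_antisymm (sSup_le fun B hB => ?_) (sSup_le fun B hB => ?_)
  · exact CfsgLib.PLoc.le_joinMaxAb ⟨hB.le.trans hQD, hB.comm, hB.exp, fun C hC hc he =>
      (hA.max C hC hc he).trans (hB.max A hAQ hA.comm hA.exp)⟩
  · exact CfsgLib.PLoc.le_joinMaxAb ⟨(CfsgLib.PLoc.le_joinMaxAb hB).trans h, hB.comm, hB.exp,
      fun C hC hc he => hB.max C (hC.trans hQD) hc he⟩

theorem result {Ω : Type*} [Group Ω] {S : Subgroup Ω} [Finite S] (p : ℕ) [Fact p.Prime] (hS : IsPGroup p S) (F : Cfsg.FusionSystem S) (hF : F.IsSaturated p) (hS1 : S ≠ ⊥) (C : Cfsg.FusionSystem (Cfsg.FusionSystem.centralizerIn S (Cfsg.powerClosure p 1 (S ⊓ Subgroup.centralizer (S : Set Ω))))) (hC : F.IsCentralizerSystem (Cfsg.powerClosure p 1 (S ⊓ Subgroup.centralizer (S : Set Ω))) C) (N : Cfsg.FusionSystem (Cfsg.FusionSystem.normalizerIn S (Cfsg.thompsonSubgroupAOf S))) (hN : F.IsNormalizerSystem (Cfsg.thompsonSubgroupAOf S) N) (E : Cfsg.FusionSystem S) (hCE : C.IsSubsystemOf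 E) (hNE : N.IsSubsystemOf E) : F.IsSubsystemOf E := by
  have hCh := isGoodChoice_liftSub (S := S) hS (W := jW) jW_ne_bot jW_natural
  refine control_centralizer hS hF
    (A := Cfsg.powerClosure p 1 (S ⊓ Subgroup.centralizer (S : Set Ω)))
    (powerClosure_le.trans inf_le_left) (powerClosure_le.trans inf_le_right) hCh
    (fun {T} E' Z hE hZ hp hlt hCT D => ?_) (fun P φ hφ => hCE P (hC P ▸ hφ)) ?_
  · have := hE.finite
    have hT := hE.isPGroup hS
    have hn : ((Z.subgroupOf T).map D.ι).Normal := D.normal_map hZ hlt.le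
    obtain ⟨U, hU⟩ := liftSub_nonempty (W := jW) hZ
    obtain ⟨-, hUT, -⟩ := hCh Z T U (hlt.trans_le D.hle) hE.le_S hU
    set mk := QuotientGroup.mk' ((Z.subgroupOf T).map D.ι)
    set P := D.ι.range.map mk with hP
    set Q := coreImage D Z with hQ
    have hQn : Q.Normal := coreImage_normal D
    have hQP : Q ≤ P := Subgroup.map_mono (Subgroup.map_le_range _ _)
    by_cases hJ : CfsgLib.PLoc.joinMaxAb 0 P ≤ Q
    · refine Or.inl ⟨U, hU, ?_⟩
      have : ((U.subgroupOf T).map D.ι).Normal := by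
        rw [← Subgroup.normalizer_eq_top_iff, eq_top_iff]
        intro l _
        refine (mem_normalizer_liftSub jW_natural hT D.model.2.1.1 hU P rfl l).1 ?_
        rw [jW_map, ← joinMaxAb_eq_of_le hQP hJ]
        exact CfsgLib.PLoc.normalizer_le_normalizer_joinMaxAb 0 Q
          (by rw [Subgroup.normalizer_eq_top]; exact Subgroup.mem_top _)
      exact isNormal_of_normal_map D.model.2.1 hUT
    · have hPp : IsPGroup p P := (D.isPGroup_range hT).map mk
      obtain ⟨M, hMn, hMQ, hMfix⟩ := exists_normal_fix_of_joinMaxAb (Q := Q) (P := P)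
        (V := Q ⊓ Subgroup.centralizer (Q : Set _))
        (IsMulCommutative.of_setLike_mul_comm fun x hx y hy =>
          Subgroup.mem_centralizer_iff.1 hy.2 x hx.1)
        (hPp.to_le (inf_le_left.trans hQP)) hPp (inf_le_left.trans hQP)
        (fun q hq => Subgroup.mem_centralizer_iff.2 fun v hv =>
          (Subgroup.mem_centralizer_iff.1 hv.2 q hq).symm) hJ
      exact Or.inr (exists_fix_of_quotient hS hE hZ hp hlt hCT D 1 M hMQ fun m hm hco v hv => by
        rw [pow_one]; exact hMfix m hm hco v hv)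
  · intro _ U hU P φ hφ
    rw [eq_of_mem_liftSub_bot hS jW_natural hU, jW_map, ← CfsgLib.PLoc.joinMaxAb_zero] at hφ
    exact hNE P (hN P ▸ hφ)

end Cfsg.Agent.S5220
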