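import Cfsg.Statements.S5091
import Cfsg.Agent.Lib.Fusion.Realized
import Cfsg.Agent.Lib.Fusion.Complement

set_option autoImplicit false
open Cfsg

namespace Cfsg.Agent.S5091

/-- Model Theorem, uniqueness: two models of a constrained saturated fusion system over a finite p-group S are isomorphic by an isomorphism compatible with the two embeddings of S. -/
theorem result {Ω : Type*} [Group Ω] {S : Subgroup Ω} [Finite S] (p : ℕ) [Fact p.Prime] (hS : IsPGroup p S) (F : Cfsg.FusionSystem S) (hF : F.IsConstrained p) {G₁ G₂ : Type*} [Group G₁] [Group G₂] (ι₁ : S →* G₁) (ι₂ : S →* G₂) (h₁ : F.IsModel p G₁ ι₁) (h₂ : F.IsModel p G₂ ι₂) : ∃ φ : G₁ ≃* G₂, ∀ x : S, φ (ι₁ x) = ι₂ x := by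
  classical
  have : Finite G₁ := h₁.1
  have : Finite G₂ := h₂.1
  have hι₁ := h₁.2.1
  have hι₂ := h₂.2.1
  set Q := F.core
  have hO₁ : Cfsg.pCore p G₁ = (Q.subgroupOf S).map ι₁ := by
    rw [CfsgLib.Fusion.pCore_eq_map_modelCore h₁, CfsgLib.Fusion.modelCore_eq_core hS h₁]
  have hO₂ : Cfsg.pCore p G₂ = (Q.subgroupOf S).map ι₂ := by
    rw [CfsgLib.Fusion.pCore_eq_map_modelCore h₂, CfsgLib.Fusion.modelCore_eq_core hS h₂]
  have hn₁ : (Cfsg.pCore p G₁).Normal := CfsgLib.Solvable.pCore_normal p G₁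
  have hn₂ : (Cfsg.pCore p G₂).Normal := CfsgLib.Solvable.pCore_normal p G₂
  -- `w ∈ W` iff both components act in the same way on `Q`
  let W : Subgroup (G₁ × G₂) :=
    { carrier := {w | ∀ x y : S, (x : Ω) ∈ Q → (y : Ω) ∈ Q →
        (w.1 * ι₁ x * w.1⁻¹ = ι₁ y ↔ w.2 * ι₂ x * w.2⁻¹ = ι₂ y)}
      one_mem' := fun x y _ _ => by
        simp only [Prod.fst_one, Prod.snd_one, one_mul, inv_one, mul_one]
        exact ⟨fun h => by rw [hι₁.1 h], fun h => by rw [hι₂.1 h]⟩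
      mul_mem' := fun {a b} ha hb x y hx hy => by
        constructor
        · intro h
          obtain ⟨z, hz, hzb⟩ : b.1 * ι₁ x * b.1⁻¹ ∈ (Q.subgroupOf S).map ι₁ :=
            hO₁ ▸ hn₁.conj_mem _ (hO₁.symm ▸ ⟨x, hx, rfl⟩) b.1
          have h1 := (hb x z hx hz).1 hzb.symm
          have h2 : a.1 * ι₁ z * a.1⁻¹ = ι₁ y := by
            rw [hzb, ← h]; simp [mul_assoc]
          rw [← (ha z y hz hy).1 h2, ← h1]
          simp [mul_assoc]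
        · intro h
          obtain ⟨z, hz, hzb⟩ : b.2 * ι₂ x * b.2⁻¹ ∈ (Q.subgroupOf S).map ι₂ :=
            hO₂ ▸ hn₂.conj_mem _ (hO₂.symm ▸ ⟨x, hx, rfl⟩) b.2
          have h1 := (hb x z hx hz).2 hzb.symm
          have h2 : a.2 * ι₂ z * a.2⁻¹ = ι₂ y := by
            rw [hzb, ← h]; simp [mul_assoc]
          rw [← (ha z y hz hy).2 h2, ← h1]
          simp [mul_assoc]
      inv_mem' := fun {a} ha x y hx hy => by
        constructor
        · intro h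
          have h1 : a.1 * ι₁ y * a.1⁻¹ = ι₁ x := by rw [← h]; simp [mul_assoc]
          rw [← (ha y x hy hx).1 h1]; simp [mul_assoc]
        · intro h
          have h1 : a.2 * ι₂ y * a.2⁻¹ = ι₂ x := by rw [← h]; simp [mul_assoc]
          rw [← (ha y x hy hx).2 h1]; simp [mul_assoc] }
  have hWmem : ∀ {g : G₁} {h : G₂}, (∀ x : S, (x : Ω) ∈ Q → ∃ z : S,
      g * ι₁ x * g⁻¹ = ι₁ z ∧ h * ι₂ x * h⁻¹ = ι₂ z) → (g, h) ∈ W := by
    intro g h hgh x y hx _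
    obtain ⟨z, hz1, hz2⟩ := hgh x hx
    exact ⟨fun e => by rw [hz2, hι₁.1 (hz1.symm.trans e)], fun e => by rw [hz1, hι₂.1 (hz2.symm.trans e)]⟩
  let δ : S →* W := (ι₁.prod ι₂).codRestrict W fun s => hWmem fun x _ => ⟨s * x * s⁻¹,
    by constructor <;> simp⟩
  let π₁ : W →* G₁ := (MonoidHom.fst G₁ G₂).comp W.subtype
  let π₂ : W →* G₂ := (MonoidHom.snd G₁ G₂).comp W.subtype
  have hQS : Q ≤ S := sSup_le fun _ h => h.1
  -- the kernels of the projections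
  have hker₁ : ∀ w : W, π₁ w = 1 →
      π₂ w ∈ Subgroup.centralizer ((Cfsg.pCore p G₂ : Subgroup G₂) : Set G₂) := by
    intro w hw
    rw [Subgroup.mem_centralizer_iff]
    intro o ho
    obtain ⟨x, hx, rfl⟩ : o ∈ (Q.subgroupOf S).map ι₂ := hO₂ ▸ ho
    have hw1 : (w : G₁ × G₂).1 = 1 := hw
    have := (w.2 x x hx hx).1 (by simp [hw1])
    exact (mul_inv_eq_iff_eq_mul.1 this).symm
  have hker₂ : ∀ w : W, π₂ w = 1 →
      π₁ w ∈ Subgroup.centralizer ((Cfsg.pCore p G₁ : Subgroup G₁) : Set G₁) := by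
    intro w hw
    rw [Subgroup.mem_centralizer_iff]
    intro o ho
    obtain ⟨x, hx, rfl⟩ : o ∈ (Q.subgroupOf S).map ι₁ := hO₁ ▸ ho
    have hw2 : (w : G₁ × G₂).2 = 1 := hw
    have := (w.2 x x hx hx).2 (by simp [hw2])
    exact (mul_inv_eq_iff_eq_mul.1 this).symm
  have hsurj₁ : Function.Surjective π₁ := by
    intro g
    obtain ⟨φ, hφ, hφg⟩ := CfsgLib.Fusion.realized_subgroup_conj hι₁ hQS g fun x =>
      CfsgLib.Fusion.pCore_le_range h₁ (hn₁.conj_mem _ (hO₁.symm ▸ ⟨⟨x, hQS x.2⟩, x.2, rfl⟩) g)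
    obtain ⟨h, hh⟩ := CfsgLib.Fusion.realized_exists_conj hι₂ hφ
    exact ⟨⟨(g, h), hWmem fun x hx => ⟨⟨φ ⟨x, hx⟩, _⟩,
      (hφg ⟨x, hx⟩ (CfsgLib.Fusion.map_mem hφ _)).symm, (hh ⟨x, hx⟩).symm⟩⟩, rfl⟩
  have hsurj₂ : Function.Surjective π₂ := by
    intro g
    obtain ⟨φ, hφ, hφg⟩ := CfsgLib.Fusion.realized_subgroup_conj hι₂ hQS g fun x =>
      CfsgLib.Fusion.pCore_le_range h₂ (hn₂.conj_mem _ (hO₂.symm ▸ ⟨⟨x, hQS x.2⟩, x.2, rfl⟩) g)
    obtain ⟨h, hh⟩ := CfsgLib.Fusion.realized_exists_conj hι₁ hφ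
    exact ⟨⟨(h, g), hWmem fun x hx => ⟨⟨φ ⟨x, hx⟩, _⟩,
      (hh ⟨x, hx⟩).symm, (hφg ⟨x, hx⟩ (CfsgLib.Fusion.map_mem hφ _)).symm⟩⟩, rfl⟩
  set N : Subgroup W := π₁.ker with hN
  set D : Subgroup W := δ.range with hD
  have hP : D ⊔ N = (ι₁.range).comap π₁ := by
    refine le_antisymm (sup_le ?_ ?_) fun w hw => ?_
    · rintro _ ⟨s, rfl⟩
      exact ⟨s, rfl⟩
    · intro w hw
      show π₁ w ∈ ι₁.range
      rw [hw]
      exact one_mem _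
    · obtain ⟨s, hs⟩ := hw
      have h1 : (δ s)⁻¹ * w ∈ N := by
        show π₁ ((δ s)⁻¹ * w) = 1
        rw [map_mul, map_inv, inv_mul_eq_one]
        exact hs
      have := Subgroup.mul_mem_sup (S := D) ⟨s, rfl⟩ h1
      rwa [mul_inv_cancel_left] at this
  have habel : ∀ a ∈ N, ∀ b ∈ N, a * b = b * a := by
    intro a ha b hb
    have h := Subgroup.mem_centralizer_iff.1 (hker₁ b hb) _ (h₂.2.2.2 (hker₁ a ha))
    exact Subtype.ext (Prod.ext (by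
      show π₁ a * π₁ b = π₁ b * π₁ a
      rw [ha, hb]) h)
  have hDN : D ⊓ N = ⊥ := by
    refine eq_bot_iff.2 fun w hw => ?_
    obtain ⟨⟨s, rfl⟩, hs⟩ := hw
    have hs' : ι₁ s = 1 := hs
    rw [Subgroup.mem_bot, hι₁.1 (hs'.trans (map_one ι₁).symm), map_one]
  have hcop : (D ⊔ N).index.Coprime (Nat.card N) := by
    obtain ⟨T, hT⟩ := h₁.2.2.1
    rw [hP, Subgroup.index_comap_of_surjective _ hsurj₁, ← hT]
    have hNp : IsPGroup p N := by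
      refine IsPGroup.of_injective (CfsgLib.Solvable.pCore_isPGroup p G₂)
        ((π₂.comp N.subtype).codRestrict _ fun n => h₂.2.2.2 (hker₁ n n.2)) fun a b hab => ?_
      exact Subtype.ext (Subtype.ext (Prod.ext (a.2.trans b.2.symm :) (congrArg Subtype.val hab :)))
    obtain ⟨k, hk⟩ := IsPGroup.iff_card.1 hNp
    rw [hk]
    exact (((Fact.out : p.Prime).coprime_iff_not_dvd.2 T.not_dvd_index).symm.pow_right k)
  have hfus : ∀ w : W, ∃ b ∈ N, ∀ d ∈ D,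
      (w * b)⁻¹ * d * (w * b) ∈ D ⊔ N → (w * b)⁻¹ * d * (w * b) ∈ D := by
    intro w
    let R : Subgroup Ω := ((ι₁.range).comap ((MulAut.conj (π₁ w)⁻¹).toMonoidHom.comp ι₁)).map S.subtype
    have hRS : R ≤ S := Subgroup.map_subtype_le _
    have hRmem : ∀ x : R, (π₁ w)⁻¹ * ι₁ ⟨x, hRS x.2⟩ * (π₁ w)⁻¹⁻¹ ∈ ι₁.range := by
      rintro ⟨x, z, hz, rfl⟩
      exact hz
    have hQR : ∀ x : S, (x : Ω) ∈ Q → (x : Ω) ∈ R := fun x hx =>
      ⟨x, CfsgLib.Fusion.pCore_le_range h₁ (hn₁.conj_mem _ (hO₁.symm ▸ ⟨x, hx, rfl⟩) _), rfl⟩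
    obtain ⟨φ, hφ, hφg⟩ := CfsgLib.Fusion.realized_subgroup_conj hι₁ hRS (π₁ w)⁻¹ hRmem
    obtain ⟨h, hh⟩ := CfsgLib.Fusion.realized_exists_conj hι₂ hφ
    let v : W := ⟨((π₁ w)⁻¹, h), hWmem fun x hx =>
      ⟨⟨φ ⟨x, hQR x hx⟩, _⟩,
        (hφg ⟨x, hQR x hx⟩ (CfsgLib.Fusion.map_mem hφ _)).symm, (hh ⟨x, hQR x hx⟩).symm⟩⟩
    refine ⟨w⁻¹ * v⁻¹, ?_, ?_⟩
    · show π₁ (w⁻¹ * v⁻¹) = 1
      rw [map_mul, map_inv, map_inv]
      show (π₁ w)⁻¹ * (π₁ w)⁻¹⁻¹ = 1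
      rw [inv_inv, inv_mul_cancel]
    · rintro _ ⟨s, rfl⟩ hs
      rw [mul_inv_cancel_left, inv_inv] at hs ⊢
      rw [hP] at hs
      have hsR : (s : Ω) ∈ R := ⟨s, hs, rfl⟩
      refine ⟨⟨φ ⟨s, hsR⟩, CfsgLib.Fusion.map_mem hφ _⟩, Subtype.ext (Prod.ext ?_ ?_)⟩
      · exact hφg ⟨s, hsR⟩ _
      · exact hh ⟨s, hsR⟩
  obtain ⟨H, hDH, hHN, hHsup⟩ :=
    CfsgLib.Fusion.exists_complement_containing inferInstance habel hDN hcop hfus
  have hbij₁ : Function.Bijective (π₁.comp H.subtype) := by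
    refine ⟨(injective_iff_map_eq_one _).2 fun w hw => ?_, fun g => ?_⟩
    · have : (w : W) ∈ H ⊓ N := ⟨w.2, hw⟩
      rw [hHN, Subgroup.mem_bot] at this
      exact Subtype.ext this
    · obtain ⟨w, rfl⟩ := hsurj₁ g
      have hw : w ∈ (↑(H ⊔ N) : Set W) := by rw [hHsup]; trivial
      rw [Subgroup.mul_normal H N] at hw
      obtain ⟨a, ha, b, hb, rfl⟩ := hw
      refine ⟨⟨a, ha⟩, ?_⟩
      show π₁ a = π₁ (a * b)
      rw [map_mul, (hb : π₁ b = 1), mul_one]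
  have hbij₂ : Function.Bijective (π₂.comp H.subtype) := by
    refine ⟨(injective_iff_map_eq_one _).2 fun w hw => ?_, fun g => ?_⟩
    · obtain ⟨z, hz⟩ := CfsgLib.Fusion.pCore_le_range h₁ (h₁.2.2.2 (hker₂ w hw))
      -- `(1, ι₂ z)` lies in `H ⊓ N`
      have hm : (w : W)⁻¹ * δ z ∈ H ⊓ N := by
        refine ⟨H.mul_mem (H.inv_mem w.2) (hDH ⟨z, rfl⟩), ?_⟩
        show π₁ ((w : W)⁻¹ * δ z) = 1
        rw [map_mul, map_inv, inv_mul_eq_one]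
        exact hz.symm
      rw [hHN, Subgroup.mem_bot, inv_mul_eq_one] at hm
      have h2 : π₂ (w : W) = ι₂ z := by rw [hm]; rfl
      have hz1 : z = 1 := hι₂.1 ((h2.symm.trans hw).trans (map_one ι₂).symm)
      exact Subtype.ext (by rw [hm, hz1, map_one]; rfl)
    · obtain ⟨w, rfl⟩ := hsurj₂ g
      have hw : w ∈ (↑(H ⊔ N) : Set W) := by rw [hHsup]; trivial
      rw [Subgroup.mul_normal H N] at hw
      obtain ⟨a, ha, b, hb, rfl⟩ := hw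
      obtain ⟨z, hz⟩ := CfsgLib.Fusion.pCore_le_range h₂ (h₂.2.2.2 (hker₁ b hb))
      refine ⟨⟨a, ha⟩ * ⟨δ z, hDH ⟨z, rfl⟩⟩, ?_⟩
      show π₂ (a * δ z) = π₂ (a * b)
      rw [map_mul, map_mul]
      exact congrArg (π₂ a * ·) hz
  let e₁ : H ≃* G₁ := MulEquiv.ofBijective _ hbij₁
  let e₂ : H ≃* G₂ := MulEquiv.ofBijective _ hbij₂
  refine ⟨e₁.symm.trans e₂, fun x => ?_⟩
  have h1 : e₁.symm (ι₁ x) = ⟨δ x, hDH ⟨x, rfl⟩⟩ := by
    rw [MulEquiv.symm_apply_eq]; rfl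
  show e₂ (e₁.symm (ι₁ x)) = ι₂ x
  rw [h1]
  rfl

end Cfsg.Agent.S5091
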