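import Cfsg.Statements.S5246
import Cfsg.Agent.Lib.Fusion.Group
import Cfsg.Agent.Lib.FusionPStable.Basic
import Mathlib.GroupTheory.Commutator.Basic

set_option autoImplicit false
universe u
open Cfsg CfsgLib.Fusion CfsgLib.FusionPStable
open scoped commutatorElement

namespace Cfsg.Agent.S5246

variable {G : Type*} [Group G]

theorem commutator_bot_iff [Finite G] {Q : Subgroup G} {g : G}
    (hg : g ∈ Subgroup.normalizer (Q : Set G)) :
    ⁅⁅Q, Subgroup.zpowers g⁆, Subgroup.zpowers g⁆ = ⊥ ↔ IsQuadratic (conjAut Q g hg) := by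
  rw [Subgroup.commutator_eq_bot_iff_le_centralizer]
  have key : ∀ a : G, a ∈ Subgroup.centralizer (Subgroup.zpowers g : Set G) ↔ g * a = a * g := by
    intro a
    rw [Subgroup.mem_centralizer_iff]
    exact ⟨fun h => h g (Subgroup.mem_zpowers g), fun h x hx => by
      obtain ⟨n, rfl⟩ := Subgroup.mem_zpowers_iff.1 hx
      exact (Commute.zpow_left (show Commute g a from h) n).eq⟩
  constructor
  · intro h
    refine isQuadratic_of_apply_comm fun a => Subtype.ext ?_
    have hm : ⁅(a : G)⁻¹, g⁆ ∈ ⁅Q, Subgroup.zpowers g⁆ :=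
      Subgroup.commutator_mem_commutator (Q.inv_mem a.2) (Subgroup.mem_zpowers g)
    have h1 := (key _).1 (h hm)
    rw [commutatorElement_def, inv_inv] at h1
    show g * ((a : G)⁻¹ * (g * a * g⁻¹)) * g⁻¹ = (a : G)⁻¹ * (g * a * g⁻¹)
    rw [mul_inv_eq_iff_eq_mul]
    simpa [mul_assoc] using h1
  · intro h
    have hc : ∀ a ∈ Q, Commute g ⁅a, g⁆ := by
      intro a ha
      have h1 := congrArg Subtype.val (h.apply_comm ⟨a⁻¹, Q.inv_mem ha⟩)
      have h2 : g * (a * (g * a⁻¹ * g⁻¹)) * g⁻¹ = a * (g * a⁻¹ * g⁻¹) := by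
        simpa [conjAut_apply, mul_assoc] using h1
      rw [mul_inv_eq_iff_eq_mul] at h2
      show g * ⁅a, g⁆ = ⁅a, g⁆ * g
      simpa [commutatorElement_def, mul_assoc] using h2
    rw [Subgroup.commutator_le]
    intro a ha x hx
    obtain ⟨n, rfl⟩ := (isOfFinOrder_of_finite g).mem_powers_iff_mem_zpowers.2 hx
    rw [key]
    show Commute g ⁅a, g ^ n⁆
    clear hx
    induction n with
    | zero => simp [commutatorElement_def]
    | succ n ih =>
      have e : ⁅a, g ^ (n + 1)⁆ = ⁅a, g ^ n⁆ * (g ^ n * ⁅a, g⁆ * (g ^ n)⁻¹) := by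
        simp [commutatorElement_def, pow_succ, mul_assoc]
      rw [e]
      have hp : Commute g (g ^ n) := (Commute.refl g).pow_right n
      exact ih.mul_right ((hp.mul_right (hc a ha)).mul_right hp.inv_right)

theorem mk_mem_core_iff (p : ℕ) (Q : Subgroup G) {g : G}
    (hg : g ∈ Subgroup.normalizer (Q : Set G)) :
    (QuotientGroup.mk (s := (Subgroup.centralizer (Q : Set G)).subgroupOf
        (Subgroup.normalizer (Q : Set G))) (⟨g, hg⟩ : ↥(Subgroup.normalizer (Q : Set G)))) ∈
      pCore p (↥(Subgroup.normalizer (Q : Set G)) ⧸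
        (Subgroup.centralizer (Q : Set G)).subgroupOf (Subgroup.normalizer (Q : Set G))) ↔
    conjAut Q g hg ∈ autCore (groupFusionSystem (⊤ : Subgroup G)) p Q := by
  let f : Subgroup.normalizer (Q : Set G) →* (groupFusionSystem (⊤ : Subgroup G)).autGroup Q :=
    Q.normalizerMonoidHom.codRestrict _ (fun x => by
      rw [group_autGroup_eq le_top]
      exact conjAut_mem_autInducedBy (P := Q) (Subgroup.mem_top _) x.2)
  have hf : Function.Surjective f := by
    rintro ⟨α, hα⟩
    rw [group_autGroup_eq le_top] at hα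
    obtain ⟨x, hx, -, rfl⟩ := exists_eq_conjAut hα
    exact ⟨⟨x, hx⟩, rfl⟩
  have hker : f.ker = (Subgroup.centralizer (Q : Set G)).subgroupOf
      (Subgroup.normalizer (Q : Set G)) := by
    rw [MonoidHom.ker_codRestrict, Subgroup.normalizerMonoidHom_ker]
  let e := (QuotientGroup.quotientMulEquivOfEq hker).symm.trans
    (QuotientGroup.quotientKerEquivOfSurjective f hf)
  have hmap := CfsgLib.Solvable.map_pCore_mulEquiv (p := p) e
  constructor
  · intro h
    exact ⟨e _, hmap.le ⟨_, h, rfl⟩, rfl⟩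
  · rintro ⟨y, hy, hy'⟩
    obtain ⟨z, hz, hzy⟩ := hmap.ge hy
    have : z = QuotientGroup.mk (⟨g, hg⟩ : ↥(Subgroup.normalizer (Q : Set G))) := by
      apply e.injective
      exact hzy.trans (Subtype.ext hy')
    exact this ▸ hz

theorem autCore_top_eq {p : ℕ} (S : Subgroup G) {Q : Subgroup G} (hQ : Q ≤ S) :
    autCore (groupFusionSystem (⊤ : Subgroup G)) p Q = autCore (groupFusionSystem S) p Q := by
  unfold autCore
  rw [group_autGroup_eq hQ, group_autGroup_eq le_top]

/-- Let p be an odd prime, G a finite group and P a Sylow p-subgroup. Call a fusion system F p-stable when, for every fully normalized subgroup Q and every χ ∈ Aut_F(Q) acting quadratically on Q (that is, χ fixes a⁻¹χ(a) for every a ∈ Q; equivalently χ(a⁻¹)·a·χ(a⁻¹)·χ(χ(a)) = 1), χ lies in O_p(Aut_F(Q)). Then G is p-stable in the normalizer form (for every p-subgroup Q and x ∈ N_G(Q) with [Q, x, x] = 1, the image of x lies in O_p(N_G(Q)/C_G(Q))) if and only if the fusion system of G on P is p-stable.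 -/
theorem result {Ω : Type*} [Group Ω] [Finite Ω] {p : ℕ} [Fact p.Prime] (hp : p ≠ 2) (P : Sylow p Ω) : Cfsg.IsNormalizerPStable p Ω ↔ (∀ Q : Subgroup Ω, (Cfsg.groupFusionSystem (P : Subgroup Ω)).IsFullyNormalized Q → ∀ χ : MulAut ↥Q, χ ∈ (Cfsg.groupFusionSystem (P : Subgroup Ω)).autGroup Q → (∀ a : ↥Q, (χ a⁻¹) * a * (χ a⁻¹) * (χ (χ a)) = 1) → χ ∈ ((Cfsg.pCore p ↥((Cfsg.groupFusionSystem (P : Subgroup Ω)).autGroup Q)).map ((Cfsg.groupFusionSystem (P : Subgroup Ω)).autGroup Q).subtype : Subgroup (MulAut ↥Q))) := by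
  constructor
  · intro h Q hQ χ hχ hq
    show χ ∈ autCore _ p Q
    rw [group_autGroup_eq hQ.1] at hχ
    obtain ⟨g, hg, -, rfl⟩ := exists_eq_conjAut hχ
    rw [← autCore_top_eq _ hQ.1, ← mk_mem_core_iff p Q hg]
    exact h Q (P.2.to_le hQ.1) g hg ((commutator_bot_iff hg).2 hq)
  · intro h Q hQ g hg hcomm
    rw [mk_mem_core_iff p Q hg]
    obtain ⟨c, hc⟩ := exists_conj_le_sylow P hQ
    have hle : Q.map (MulAut.conj c).toMonoidHom ≤ (P : Subgroup Ω) := by
      rintro _ ⟨x, hx, rfl⟩; exact hc x hx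
    have hconj : (groupFusionSystem (⊤ : Subgroup Ω)).IsConj Q (Q.map (MulAut.conj c).toMonoidHom) :=
      group_isConj_iff.2 ⟨le_top, le_top, c, rfl⟩
    obtain ⟨e, he⟩ := exists_iso_of_isConj hconj
    rw [← congr_mem_autCore_iff he, autCore_top_eq _ hle]
    refine IsPStable.of_le (F := groupFusionSystem (P : Subgroup Ω)) h hle ?_
      (((commutator_bot_iff hg).1 hcomm).congr e)
    have h1 : conjAut Q g hg ∈ (groupFusionSystem (⊤ : Subgroup Ω)).autGroup Q := by
      rw [group_autGroup_eq le_top]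
      exact conjAut_mem_autInducedBy (P := Q) (Subgroup.mem_top _) hg
    have h2 := he.congr_mem h1
    rwa [group_autGroup_eq le_top, ← group_autGroup_eq hle] at h2

end Cfsg.Agent.S5246
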