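import Cfsg.Statements.S2761
import Cfsg.Agent.Lib.Qd.Basic

set_option autoImplicit false
open Cfsg CfsgLib.Qd

namespace Cfsg.Agent.S2761

/-- the point with index `i` -/
def px (i : Fin 4) : ZMod 2 := if i = 1 ∨ i = 3 then 1 else 0
def py (i : Fin 4) : ZMod 2 := if i = 2 ∨ i = 3 then 1 else 0
/-- the index of a point -/
def idx (x y : ZMod 2) : Fin 4 := if x = 0 then (if y = 0 then 0 else 2) else (if y = 0 then 1 else 3)

theorem px_idx : ∀ x y, px (idx x y) = x := by decide
theorem py_idx : ∀ x y, py (idx x y) = y := by decide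
theorem idx_pxy : ∀ i, idx (px i) (py i) = i := by decide

/-- The action on the four points of the affine plane. -/
def act (M : ↥(Cfsg.qd 2)) (i : Fin 4) : Fin 4 :=
  idx (M.1.1 0 0 * px i + M.1.1 0 1 * py i + M.1.1 0 2)
    (M.1.1 1 0 * px i + M.1.1 1 1 * py i + M.1.1 1 2)

theorem act_mk (a b c d x y : ZMod 2) (h) (i : Fin 4) :
    act (mk a b c d x y h) i = idx (a * px i + b * py i + x) (c * px i + d * py i + y) := rfl

theorem act_mul (M N : ↥(Cfsg.qd 2)) (i : Fin 4) : act (M * N) i = act M (act N i) := by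
  obtain ⟨a, b, c, d, x, y, h, rfl⟩ := exists_eq_mk M
  obtain ⟨a', b', c', d', x', y', h', rfl⟩ := exists_eq_mk N
  rw [mk_mul, act_mk, act_mk, act_mk, px_idx, py_idx]
  congr 1 <;> ring

theorem act_one (i : Fin 4) : act 1 i = i := by
  rw [← mk_one, act_mk]
  simp [idx_pxy]

theorem surj_aux : ∀ s : Equiv.Perm (Fin 4), ∃ t : Fin 4, ∃ u : Fin 4, ∃ w : Fin 4,
    px u * py w - px w * py u = 1 ∧ ∀ i, idx (px u * px i + px w * py i + px t)
      (py u * px i + py w * py i + py t) = s i := by decide +kernel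

/-- The action as a homomorphism. -/
def toPerm : ↥(Cfsg.qd 2) →* Equiv.Perm (Fin 4) :=
  MonoidHom.mk' (fun M => ⟨act M, act M⁻¹,
      fun i => by rw [← act_mul, inv_mul_cancel, act_one],
      fun i => by rw [← act_mul, mul_inv_cancel, act_one]⟩)
    fun M N => Equiv.ext (act_mul M N)

/-- The group Qd(2), the natural semidirect product of an elementary abelian group of order 4 by SL₂(2) (realised as the affine subgroup of SL₃(2)), is isomorphic to the symmetric group of degree 4. -/
theorem result : Nonempty (↥(Cfsg.qd 2) ≃* Equiv.Perm (Fin 4)) := by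
  refine ⟨MulEquiv.ofBijective toPerm ⟨?_, fun s => ?_⟩⟩
  · rw [injective_iff_map_eq_one]
    intro M hM
    obtain ⟨a, b, c, d, x, y, h, rfl⟩ := exists_eq_mk M
    have e : ∀ i, idx (a * px i + b * py i + x) (c * px i + d * py i + y) = i :=
      fun i => Equiv.ext_iff.1 hM i
    have key : ∀ a b c d x y : ZMod 2,
        (∀ i, idx (a * px i + b * py i + x) (c * px i + d * py i + y) = i) →
          a = 1 ∧ b = 0 ∧ c = 0 ∧ d = 1 ∧ x = 0 ∧ y = 0 := by decide +kernel
    rw [← mk_one, mk_inj]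
    exact key _ _ _ _ _ _ e
  · obtain ⟨t, u, w, hd, he⟩ := surj_aux s
    exact ⟨mk (px u) (px w) (py u) (py w) (px t) (py t) hd, Equiv.ext he⟩

end Cfsg.Agent.S2761
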