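import Cfsg.Statements.S3081
import Cfsg.Agent.Lib.LocEven.FusionRel
import Cfsg.Agent.Lib.PLocal.QdStable
-- import your own Cfsg.Agent.* helpers here

set_option autoImplicit false
open Cfsg

namespace Cfsg.Agent.S3081

/-- Let p be an odd prime, G a finite group in which Qd(p) (the natural semidirect product of an elementary abelian group of order p² by SL₂(p)) is not involved, P a Sylow p-subgroup and D a subgroup of P strongly closed in P with respect to G. Then N_G(Z(J(D))) controls strong G-fusion in P (for every subset A of P and every g ∈ G with gAg⁻¹ ⊆ P, some element of that normalizer acts on A exactly as g does; J(D) is generated by the abelian subgroups of D of largest order), and so does N_G(Ω₁(Z(J_e(D)))) (J_e(D) generated by the elementary abelian subgroups of largest order). -/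
theorem result {G : Type*} [Group G] [Finite G] {p : ℕ} [Fact p.Prime] (hp : p ≠ 2) (P : Sylow p G) (D : Subgroup G) (hD : Cfsg.IsStronglyClosed D (P : Subgroup G)) (hqd : ¬ Cfsg.Involves ↥(Cfsg.qd p) G) : (∀ A : Set G, A ⊆ (P : Subgroup G) → Cfsg.ControlsStrongFusionOf (Subgroup.normalizer ((Cfsg.centerThompsonAOf D) : Set G)) (P : Subgroup G) A) ∧ (∀ A : Set G, A ⊆ (P : Subgroup G) → Cfsg.ControlsStrongFusionOf (Subgroup.normalizer ((Cfsg.omegaOne p (Cfsg.centerThompsonOf p D)) : Set G)) (P : Subgroup G) A) := by
  have key : ∀ {e : ℕ}, (e = 0 ∨ e = p) → CfsgLib.ZJFusion.Controls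
      (Subgroup.normalizer (CfsgLib.ZJCenter.zj e D : Set G)) (P : Subgroup G) := fun he =>
    CfsgLib.LocEven.FusionRel.controls_aux p hp he
      (C := fun X [Group X] => ¬ CfsgLib.PLoc.HasQdSection p X)
      (fun X _ _ Y h hY => h (CfsgLib.PLoc.hasQdSection_of_subgroup Y hY))
      (fun X _ _ N _ h hN => h (CfsgLib.PLoc.hasQdSection_of_surjective (QuotientGroup.mk'_surjective N) hN))
      (fun X _ _ h => CfsgLib.LocEven.ZJClosed.nStable_of_isNormalizerPStable
        ((CfsgLib.PLoc.isNormalizerPStable_or_qd hp X).resolve_right h))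
      _ G rfl hqd P D hD
  refine ⟨fun A hA => ?_, fun A hA => ?_⟩
  · rw [CfsgLib.LocEven.ZJClosed.centerThompsonAOf_eq_zj]
    exact CfsgLib.LocEven.FusionRel.controlsStrong (key (Or.inl rfl)) hA
  · rw [CfsgLib.LocEven.ZJClosed.centerThompsonOf_eq_zj]
    exact CfsgLib.LocEven.FusionRel.controlsStrong (CfsgLib.LocEven.FusionRel.controls_mono
      (key (Or.inr rfl)) (CfsgLib.LocEven.ZJClosed.normalizer_le_normalizer_omegaOne _)) hA

end Cfsg.Agent.S3081
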