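import Cfsg.Statements.S0791
import Cfsg.Agent.Lib.Orth.NegOne

set_option autoImplicit false
open Cfsg

namespace Cfsg.Agent.S0791

/-- −1 ∈ Ω⁻_2m(q) iff q^m ≡ −1 (mod 4), for q odd and m ≥ 1; for the minus-type form quadFormMinus (m−1) with anisotropic binary part. -/
theorem result {F : Type*} [Field F] [Fintype F] {q : ℕ} (hF : Fintype.card F = q) (hodd : Odd q) (m : ℕ) (hm : 1 ≤ m) (a b : F) (hab : ∀ z₁ z₂ : F, z₁ ^ 2 + a * z₁ * z₂ + b * z₂ ^ 2 = 0 → z₁ = 0 ∧ z₂ = 0) : (∃ g : ↥(Cfsg.isometryGroup F (Cfsg.quadFormMinus (m - 1) F a b)), g ∈ Cfsg.Omega F (Cfsg.quadFormMinus (m - 1) F a b) ∧ ((g : Matrix.GeneralLinearGroup ((Fin (m - 1) ⊕ Fin (m - 1)) ⊕ Fin 2) F) : Matrix ((Fin (m - 1) ⊕ Fin (m - 1)) ⊕ Fin 2) ((Fin (m - 1) ⊕ Fin (m - 1)) ⊕ Fin 2) F) = -1) ↔ q ^ m % 4 = 3 := by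
  classical
  have h2 : (2 : F) ≠ 0 := fun h => by
    haveI : CharP F 2 := CharTwo.of_one_ne_zero_of_two_eq_zero one_ne_zero h
    have he : Fintype.card F % 2 = 0 := FiniteField.even_card_of_char_two (ringChar.eq F 2)
    rw [hF] at he
    exact absurd (Nat.odd_iff.mp hodd) (by omega)
  have hch : ringChar F ≠ 2 := fun h => h2 (by
    haveI : CharP F 2 := ringChar.of_eq h
    exact CharTwo.two_eq_zero)
  obtain ⟨k, rfl⟩ : ∃ k, m = k + 1 := ⟨m - 1, by omega⟩
  have hk1 : k + 1 - 1 = k := rfl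
  change (∃ g : ↥(Cfsg.isometryGroup F (Cfsg.quadFormMinus k F a b)), g ∈ Cfsg.Omega F (Cfsg.quadFormMinus k F a b) ∧ _) ↔ _
  set δ : F := b - a ^ 2 / 4 with hδ
  have h4 : (4 : F) ≠ 0 := by
    rw [show (4 : F) = 2 * 2 by norm_num]; exact mul_ne_zero h2 h2
  have hns : ¬ IsSquare (-δ) := by
    rintro ⟨s, hs⟩
    refine one_ne_zero (hab (s - a / 2) 1 ?_).2
    rw [hδ] at hs
    field_simp at hs ⊢
    linear_combination -hs
  have hδ0 : δ ≠ 0 := fun h => hns (by simp [h])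
  have hsqm : ((∏ _i : Fin k, if IsSquare (-1 : F) then (1 : ℤˣ) else -1) *
      if IsSquare (-1 : F) then (-1 : ℤˣ) else 1) = 1 ↔ q ^ (k + 1) % 4 = 3 := by
    rw [Finset.prod_const, Finset.card_univ, Fintype.card_fin]
    have hq : q % 4 = 1 ∨ q % 4 = 3 := by have := Nat.odd_iff.mp hodd; omega
    have hneg : IsSquare (-1 : F) ↔ q % 4 ≠ 3 := hF ▸ FiniteField.isSquare_neg_one_iff
    rw [Nat.pow_mod]
    rcases hq with hq | hq
    · rw [if_pos (hneg.mpr (by omega)), if_pos (hneg.mpr (by omega)), hq]; simp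
    · rw [if_neg (by rw [hneg]; omega), if_neg (by rw [hneg]; omega), hq]
      rcases Nat.even_or_odd k with ⟨j, rfl⟩ | ⟨j, rfl⟩
      · simp [← two_mul, pow_add, pow_mul, Nat.mul_mod, Nat.pow_mod]
      · simp [add_assoc, pow_add, pow_mul, Nat.mul_mod, Nat.pow_mod]
  set v : (Fin k ⊕ Fin k) ⊕ Fin 2 → ((Fin k ⊕ Fin k) ⊕ Fin 2 → F) := Sum.elim (Sum.elim
    (fun i => Pi.single (Sum.inl (Sum.inl i)) 1 + Pi.single (Sum.inl (Sum.inr i)) 1)
    (fun i => Pi.single (Sum.inl (Sum.inl i)) 1 - Pi.single (Sum.inl (Sum.inr i)) 1))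
    ![Pi.single (Sum.inr 0) 1, (-(a / 2)) • Pi.single (Sum.inr 0) 1 + Pi.single (Sum.inr 1) 1] with hv
  have hQp : ∀ i, Cfsg.quadFormMinus k F a b (v (Sum.inl (Sum.inl i))) = 1 := fun i => by
    simp [Cfsg.quadFormMinus, hv, Pi.single_apply, Finset.sum_ite_eq']
  have hQm : ∀ i, Cfsg.quadFormMinus k F a b (v (Sum.inl (Sum.inr i))) = -1 := fun i => by
    simp [Cfsg.quadFormMinus, hv, Pi.single_apply, Finset.sum_ite_eq']
  have hQ0 : Cfsg.quadFormMinus k F a b (v (Sum.inr 0)) = 1 := by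
    simp [Cfsg.quadFormMinus, hv]
  have hQ1 : Cfsg.quadFormMinus k F a b (v (Sum.inr 1)) = δ := by
    simp [Cfsg.quadFormMinus, hv, hδ]
    field_simp
    ring
  have h := CfsgLib.OrthNegOne.negOne_mem_iff (Q := CfsgLib.CharTwoInv.minusQ k F a b) h2
    (by simp) (κ := (Fin k ⊕ Fin k) ⊕ Fin 2) rfl (by simp [← two_mul, Nat.even_add]) v
    (by rintro ((i | i) | i) <;> try fin_cases i <;>
        simp [CfsgLib.CharTwoInv.minusQ_coe, hQ0, hQ1, hδ0]
        all_goals simp [CfsgLib.CharTwoInv.minusQ_coe, hQp, hQm])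
    (by
      intro i j hij
      rw [CfsgLib.CharTwoInv.minusQ_coe]
      have hp : ∀ x y : (Fin k ⊕ Fin k) ⊕ Fin 2 → F,
          QuadraticMap.polar (Cfsg.quadFormMinus k F a b) x y =
            (∑ l : Fin k, (x (Sum.inl (Sum.inl l)) * y (Sum.inl (Sum.inr l))
              + y (Sum.inl (Sum.inl l)) * x (Sum.inl (Sum.inr l))))
            + (2 * (x (Sum.inr 0) * y (Sum.inr 0))
              + a * (x (Sum.inr 0) * y (Sum.inr 1) + x (Sum.inr 1) * y (Sum.inr 0))
              + 2 * b * (x (Sum.inr 1) * y (Sum.inr 1))) := by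
        intro x y
        simp only [QuadraticMap.polar, Cfsg.quadFormMinus, Pi.add_apply, add_mul, mul_add,
          Finset.sum_add_distrib]
        ring
      rw [hp]
      rcases i with (i | i) | i <;> rcases j with (j | j) | j
      all_goals try (fin_cases i)
      all_goals try (fin_cases j)
      all_goals try exact absurd rfl hij
      all_goals simp [hv, Pi.single_apply, Finset.sum_add_distrib] at hij ⊢
      all_goals try simp [eq_comm]
      all_goals try simp [hij, Ne.symm hij]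
      all_goals (try field_simp)
      all_goals ring)
  rw [CfsgLib.CharTwoInv.minusQ_coe] at h
  rw [h, ← hsqm, Fintype.prod_sum_type, Fintype.prod_sum_type, ← Finset.prod_mul_distrib,
    Fin.prod_univ_two, hQ0, hQ1, if_pos IsSquare.one]
  apply Iff.of_eq
  congr 1
  congr 1
  · refine Finset.prod_congr rfl fun i _ => ?_
    rw [hQp, hQm, if_pos IsSquare.one]
    split_ifs <;> rfl
  · have hprod : IsSquare δ ↔ ¬ IsSquare (-1 : F) := by
      have hmul : quadraticChar F δ = quadraticChar F (-1) * quadraticChar F (-δ) := by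
        rw [← map_mul]; simp
      rw [← quadraticChar_one_iff_isSquare hδ0,
        ← quadraticChar_one_iff_isSquare (neg_ne_zero.mpr one_ne_zero), hmul,
        quadraticChar_neg_one_iff_not_isSquare.mpr hns]
      rcases quadraticChar_dichotomy (F := F) (neg_ne_zero.mpr one_ne_zero) with h | h <;> simp [h]
    split_ifs <;> first | rfl | (exfalso; tauto)

end Cfsg.Agent.S0791
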