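import Cfsg.Statements.S0121
import Mathlib.GroupTheory.PGroup
import Mathlib.GroupTheory.OrderOfElement
import Mathlib.Tactic.Group

set_option autoImplicit false
open Cfsg

namespace Cfsg.Agent.S0121

/-- A p'-automorphism of a p-group acting trivially on a critical subgroup is trivial. -/
theorem result {G : Type*} [Group G] [Finite G] {p : ℕ} [Fact p.Prime] (hG : IsPGroup p G) (H : Subgroup G) (hH : H.Characteristic) (h1 : (frattini H).map H.subtype ≤ Subgroup.centralizer (H : Set G)) (h2 : ⁅H, (⊤ : Subgroup G)⁆ ≤ H ⊓ Subgroup.centralizer (H : Set G)) (h3 : Subgroup.centralizer (H : Set G) ≤ H) (a : MulAut G) (ha : Nat.Coprime (orderOf a) p) (h : ∀ x ∈ H, a x = x) : a = 1 := by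
  ext x
  have hn : H.Normal := inferInstance
  set d := x⁻¹ * a x with hd
  have hdC : d ∈ Subgroup.centralizer (H : Set G) := by
    rw [Subgroup.mem_centralizer_iff]
    intro k hk
    have hk' : x * k * x⁻¹ ∈ H := hn.conj_mem _ hk x
    have := h _ hk'
    rw [map_mul, map_mul, map_inv, h k hk] at this
    calc k * d = x⁻¹ * (x * k * x⁻¹) * a x := by rw [hd]; group
      _ = x⁻¹ * (a x * k * (a x)⁻¹) * a x := by rw [this]
      _ = d * k := by rw [hd]; group
  have had : a d = d := h d (h3 hdC)
  have hax : a x = x * d := by rw [hd]; group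
  have hk : ∀ k : ℕ, (a ^ k) x = x * d ^ k := by
    intro k
    induction k with
    | zero => simp
    | succ k ih =>
      rw [pow_succ', MulAut.mul_apply, ih, map_mul, map_pow, had, hax, mul_assoc, ← pow_succ']
  have h4 : d ^ orderOf a = 1 := by
    have := hk (orderOf a)
    rwa [pow_orderOf_eq_one, MulAut.one_apply, left_eq_mul] at this
  obtain ⟨j, hj⟩ := hG d
  have hd1 : d = 1 := by
    rw [← orderOf_eq_one_iff]
    exact Nat.eq_one_of_dvd_coprimes (Nat.Coprime.pow_right j ha)
      (orderOf_dvd_of_pow_eq_one h4) (orderOf_dvd_of_pow_eq_one hj)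
  rw [hax, hd1, mul_one, MulAut.one_apply]

end Cfsg.Agent.S0121
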