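import Cfsg.Statements.S3793
import Cfsg.Agent.Lib.ShultGross.Key
import Cfsg.Agent.Lib.ShultGross.Module
import Cfsg.Agent.Lib.Solvable.Core
import Cfsg.Agent.Lib.Solvable.CoprimeAction
import Cfsg.Agent.Lib.CN.Nilpotent

set_option autoImplicit false
set_option linter.style.haveILetI false
open Cfsg
open scoped Pointwise commutatorElement

namespace Cfsg.Agent.S3793

universe u

variable {G : Type u} [Group G] [Finite G]

/-- A fixed point free automorphism of `p`-power order acts on a group of order prime to `p`. -/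
theorem not_dvd_card {p k : ℕ} [hp : Fact p.Prime] (σ : MulAut G) (hσ : σ ^ p ^ k = 1)
    (hfpf : ∀ g, σ g = g → g = 1) : ¬ p ∣ Nat.card G := by
  classical
  intro hd
  haveI : Fintype G := Fintype.ofFinite G
  haveI : Fintype (Sylow p G) := Fintype.ofFinite _
  obtain ⟨P, hP⟩ := Equiv.Perm.exists_fixed_point_of_prime (p := p) (n := k)
    (by rw [← Nat.card_eq_fintype_card]; exact not_dvd_card_sylow p G)
    (σ := MulAction.toPermHom (MulAut G) (Sylow p G) σ) (by rw [← map_pow, hσ, map_one])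
  have hPinv : ∀ x ∈ (P : Subgroup G), σ x ∈ (P : Subgroup G) := by
    intro x hx
    have h1 : σ • P = P := hP
    have h2 : σ • x ∈ σ • (P : Subgroup G) := Subgroup.smul_mem_pointwise_smul x σ _ hx
    have h3 : σ • (P : Subgroup G) = (P : Subgroup G) := congrArg Sylow.toSubgroup h1
    rwa [h3] at h2
  obtain ⟨ψ, hψ⟩ := CfsgLib.Solvable.exists_restrict σ (P : Subgroup G) hPinv
  haveI : Fintype (P : Subgroup G) := Fintype.ofFinite _
  have hdP : p ∣ Fintype.card (P : Subgroup G) := by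
    rw [← Nat.card_eq_fintype_card]
    exact P.dvd_card_of_dvd_card hd
  obtain ⟨b, hb, hb1⟩ := Equiv.Perm.exists_fixed_point_of_prime' (p := p) (n := k) hdP
    (σ := ψ.toEquiv) (a := 1)
    (by
      refine Equiv.ext fun x => Subtype.ext ?_
      have h : ∀ j : ℕ, (ψ.toEquiv ^ j) x = (ψ ^ j) x := by
        intro j
        induction j with
        | zero => rfl
        | succ j ih => rw [pow_succ', pow_succ', Equiv.Perm.mul_apply, MulAut.mul_apply, ih]; rfl
      rw [h, CfsgLib.Solvable.restrict_pow hψ, hσ]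
      rfl)
    (map_one ψ)
  exact hb1 (Subtype.ext (hfpf _ ((hψ b).symm.trans (congrArg Subtype.val hb))))

omit [Finite G] in
theorem map_lowerCentralSeries {H : Type*} [Group H] (f : G →* H) (S : Subgroup G) :
    ∀ k, (S.map f).lowerCentralSeries k = (S.lowerCentralSeries k).map f := by
  intro k
  induction k with
  | zero => rfl
  | succ k ih =>
    rw [Subgroup.lowerCentralSeries_succ, Subgroup.lowerCentralSeries_succ, ih, Subgroup.map_commutator]

omit [Finite G] in
theorem exists_lowerCentralSeries_eq_bot (S : Subgroup G) (h : Group.IsNilpotent S) :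
    ∃ k, S.lowerCentralSeries k = ⊥ := by
  exact (Subgroup.isNilpotent_iff_lowerCentralSeries S).1 h

omit [Finite G] in
theorem pow_congr {N : Subgroup G} [N.Normal] {σ : MulAut G} (h : N.map (σ : G →* G) = N) (i : ℕ)
    (g : G) : ((QuotientGroup.congr N N σ h) ^ i) (g : G ⧸ N) = (((σ ^ i) g : G) : G ⧸ N) := by
  induction i generalizing g with
  | zero => rfl
  | succ i ih => rw [pow_succ, MulAut.mul_apply, pow_succ, MulAut.mul_apply]; exact ih (σ g)

/-- An element of prime power order of the Fitting subgroup lies in the corresponding core. -/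
theorem mem_pCore_of_mem_fitting {s : ℕ} [Fact s.Prime] {y : G} (hy : y ∈ Cfsg.fittingSubgroup G)
    (hys : CfsgLib.CN.PElem s y) : y ∈ Cfsg.pCore s G := by
  haveI := CfsgLib.Solvable.fittingSubgroup_normal G
  set F := Cfsg.fittingSubgroup G
  have hall := ((Group.isNilpotent_of_finite_tfae (G := F)).out 0 3).mp
    (CfsgLib.Solvable.fittingSubgroup_isNilpotent G)
  have hzp : IsPGroup s (Subgroup.zpowers (⟨y, hy⟩ : F)) := by
    obtain ⟨k, hk⟩ := hys
    intro x
    obtain ⟨j, hj⟩ := Subgroup.mem_zpowers_iff.1 x.2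
    refine ⟨k, Subtype.ext ?_⟩
    rw [SubmonoidClass.coe_pow, ← hj, ← zpow_natCast, ← zpow_mul, mul_comm, zpow_mul, zpow_natCast]
    rw [show (⟨y, hy⟩ : F) ^ s ^ k = 1 from Subtype.ext hk, one_zpow]
    rfl
  obtain ⟨Q, hQ⟩ := hzp.exists_le_sylow
  have hQn : (Q : Subgroup F).Normal := hall s inferInstance Q
  haveI := Sylow.characteristic_of_normal Q hQn
  exact CfsgLib.Solvable.le_pCore
    (CfsgLib.Solvable.normal_map_subtype_of_characteristic F (Q : Subgroup F)) (Q.2.map F.subtype)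
    ⟨⟨y, hy⟩, hQ (Subgroup.mem_zpowers _), rfl⟩

omit [Finite G] in
theorem char_mem {H : Subgroup G} (h : H.Characteristic) (σ : MulAut G) {x : G} (hx : x ∈ H) : σ x ∈ H :=
  Subgroup.characteristic_iff_le_comap.1 h σ hx

omit [Finite G] in
theorem char_map {H : Subgroup G} (h : H.Characteristic) (σ : MulAut G) : H.map (σ : G →* G) = H :=
  Subgroup.characteristic_iff_map_eq.1 h σ

/-- The action on the Frattini quotient of a `t`-core. -/
theorem trivial_on_layer {p n r t : ℕ} [hp : Fact p.Prime] [hr : Fact r.Prime] [ht : Fact t.Prime]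
    (hp2 : p ≠ 2) (hpr : p ≠ r) (hpt : p ≠ t) (hrt : r ≠ t) (σ : MulAut G)
    (hσ : σ ^ p ^ (n + 1) = 1) (hfpf : ∀ g, σ g = g → g = 1) (hpG : ¬ p ∣ Nat.card G)
    [hFn : (Cfsg.fittingSubgroup G).Normal]
    (hF : (Cfsg.fittingSubgroup G).map (σ : G →* G) = Cfsg.fittingSubgroup G)
    {u : G ⧸ Cfsg.fittingSubgroup G} (hu : u ∈ Cfsg.pCore r (G ⧸ Cfsg.fittingSubgroup G)) (g : G)
    (hg : (g : G ⧸ Cfsg.fittingSubgroup G) =
      u⁻¹ * ((QuotientGroup.congr _ _ σ hF) ^ p ^ n) u) :
    ∀ k ∈ Cfsg.pCore t G, g * k * g⁻¹ * k⁻¹ ∈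
      (frattini (Cfsg.pCore t G : Subgroup G)).map (Cfsg.pCore t G).subtype := by
  classical
  haveI := CfsgLib.Solvable.pCore_normal (p := t) G
  set O := Cfsg.pCore t G with hO
  have hOp : IsPGroup t O := CfsgLib.Solvable.pCore_isPGroup _ G
  set Φ := frattini O
  letI : CommGroup (O ⧸ Φ) := { (inferInstance : Group (O ⧸ Φ)) with
    mul_comm := fun a b => by
      obtain ⟨x, rfl⟩ := QuotientGroup.mk_surjective a
      obtain ⟨y, rfl⟩ := QuotientGroup.mk_surjective b
      rw [← commutatorElement_eq_one_iff_mul_comm]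
      refine (QuotientGroup.eq_one_iff _).2 (CfsgLib.PGroup.commutator_le_frattini hOp ?_)
      exact Subgroup.commutator_mem_commutator (Subgroup.mem_top x) (Subgroup.mem_top y) }
  have hexp : ∀ a : O ⧸ Φ, a ^ t = 1 := fun a => by
    obtain ⟨x, rfl⟩ := QuotientGroup.mk_surjective a
    exact (QuotientGroup.eq_one_iff _).2 (CfsgLib.PGroup.pow_mem_frattini hOp x)
  have hΦchar : Φ.Characteristic := inferInstance
  let bar : MulAut O →* MulAut (O ⧸ Φ) :=
    { toFun := fun α => QuotientGroup.congr _ _ α (char_map hΦchar α)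
      map_one' := MulEquiv.ext fun v => by
        obtain ⟨x, rfl⟩ := QuotientGroup.mk_surjective v
        rfl
      map_mul' := fun α β => MulEquiv.ext fun v => by
        obtain ⟨x, rfl⟩ := QuotientGroup.mk_surjective v
        rfl }
  let act : G →* MulAut (O ⧸ Φ) := bar.comp MulAut.conjNormal
  have hact : ∀ (h : G) (x : O), act h (x : O ⧸ Φ) = ((MulAut.conjNormal h x : O) : O ⧸ Φ) := fun _ _ => rfl
  have hFker : Cfsg.fittingSubgroup G ≤ act.ker := by
    intro y hy
    refine CfsgLib.CN.mem_of_pElem_pow fun s m hs hsm => ?_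
    haveI := Fact.mk hs
    have hys : y ^ m ∈ Cfsg.pCore s G :=
      mem_pCore_of_mem_fitting (pow_mem hy m) hsm
    rw [MonoidHom.mem_ker]
    refine MulEquiv.ext fun v => ?_
    obtain ⟨x, rfl⟩ := QuotientGroup.mk_surjective v
    rw [hact, MulAut.one_apply]
    by_cases hst : s = t
    · subst hst
      have e : MulAut.conjNormal (y ^ m) x = (⟨y ^ m, hys⟩ : O) * x * (⟨y ^ m, hys⟩ : O)⁻¹ :=
        Subtype.ext (by rw [MulAut.conjNormal_apply]; rfl)
      rw [e, QuotientGroup.mk_mul, QuotientGroup.mk_mul, QuotientGroup.mk_inv, mul_comm,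
        inv_mul_cancel_left]
    · haveI := CfsgLib.Solvable.pCore_normal (p := s) G
      have hc : Commute (y ^ m) (x : G) := Subgroup.commute_of_normal_of_disjoint _ _ inferInstance
        inferInstance (disjoint_iff.2 (Subgroup.inf_eq_bot_of_coprime
          (CfsgLib.FourPrimes.coprime_card hs ht.out hst (CfsgLib.Solvable.pCore_isPGroup _ G) hOp)))
        _ _ hys x.2
      congr 1
      refine Subtype.ext ?_
      rw [MulAut.conjNormal_apply, hc.eq, mul_inv_cancel_right]
  let actQ : G ⧸ (Cfsg.fittingSubgroup G) →* MulAut (O ⧸ Φ) := QuotientGroup.lift (Cfsg.fittingSubgroup G) act hFker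
  obtain ⟨σO, hσO⟩ := CfsgLib.Solvable.exists_restrict σ O
    fun x hx => char_mem (CfsgLib.Solvable.pCore_characteristic _ G) σ hx
  set σA := bar σO with hσA
  have hσAapp : ∀ x : O, σA (x : O ⧸ Φ) = ((σO x : O) : O ⧸ Φ) := fun x => rfl
  have hσON : σO ^ p ^ (n + 1) = 1 :=
    MulEquiv.ext fun x => Subtype.ext (by rw [CfsgLib.Solvable.restrict_pow hσO, hσ]; rfl)
  have hσAN : σA ^ p ^ (n + 1) = 1 := by rw [hσA, ← map_pow, hσON, map_one]
  have hσAfpf : ∀ a, σA a = a → a = 1 := by
    intro a ha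
    obtain ⟨x, rfl⟩ := QuotientGroup.mk_surjective a
    rw [hσAapp] at ha
    have hncop : ¬ p ∣ Nat.card Φ := fun hd => hpG <| hd.trans
      ((Subgroup.card_subgroup_dvd_card Φ).trans (Subgroup.card_subgroup_dvd_card O))
    obtain ⟨c, hc, hxc⟩ := CfsgLib.ShultGross.exists_fixed_mem_coset (p := p) (k := n + 1) σO hσON Φ
      (fun y hy => char_mem hΦchar σO hy) hncop (QuotientGroup.eq.1 ha.symm)
    have h1 : ((x * c : O) : G) = 1 := hfpf _ ((hσO _).symm.trans (congrArg Subtype.val hxc))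
    rw [(mul_eq_one_iff_eq_inv.1 (Subtype.ext h1 : x * c = 1))]
    exact (QuotientGroup.eq_one_iff _).2 (inv_mem hc)
  obtain ⟨d, M, hM, hMsum⟩ := CfsgLib.ShultGross.exists_rep (t := t) hexp
  set σQ := QuotientGroup.congr (Cfsg.fittingSubgroup G) (Cfsg.fittingSubgroup G) σ hF with hσQ
  have hequiv : ∀ h : G ⧸ (Cfsg.fittingSubgroup G), σA * actQ h = actQ (σQ h) * σA := by
    intro h
    obtain ⟨h, rfl⟩ := QuotientGroup.mk_surjective h
    refine MulEquiv.ext fun v => ?_
    obtain ⟨x, rfl⟩ := QuotientGroup.mk_surjective v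
    show σA (act h (x : O ⧸ Φ)) = act (σ h) (σA (x : O ⧸ Φ))
    rw [hact, hσAapp, hσAapp, hact]
    congr 1
    refine Subtype.ext ?_
    simp [hσO, MulAut.conjNormal_apply]
  set R := Cfsg.pCore r (G ⧸ (Cfsg.fittingSubgroup G)) with hR
  obtain ⟨σR, hσR⟩ := CfsgLib.Solvable.exists_restrict σQ R
    fun x hx => char_mem (CfsgLib.Solvable.pCore_characteristic _ (G ⧸ (Cfsg.fittingSubgroup G))) σQ hx
  have hσQN : σQ ^ p ^ (n + 1) = 1 := MulEquiv.ext fun x => by
    obtain ⟨y, rfl⟩ := QuotientGroup.mk_surjective x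
    rw [hσQ, pow_congr, hσ]; rfl
  have hσRfpf : ∀ x, σR x = x → x = 1 := by
    intro x hx
    have h1 : σQ (x : G ⧸ (Cfsg.fittingSubgroup G)) = x := (hσR x).symm.trans (congrArg Subtype.val hx)
    obtain ⟨y, hy⟩ := QuotientGroup.mk_surjective (x : G ⧸ (Cfsg.fittingSubgroup G))
    refine Subtype.ext ?_
    rw [← hy] at h1 ⊢
    obtain ⟨c, hc, hyc⟩ := CfsgLib.ShultGross.exists_fixed_mem_coset (p := p) (k := n + 1) σ hσ (Cfsg.fittingSubgroup G)
      (fun z hz => hF.le ⟨z, hz, rfl⟩) (fun hd => hpG (hd.trans (Subgroup.card_subgroup_dvd_card (Cfsg.fittingSubgroup G))))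
      (QuotientGroup.eq.1 (Eq.symm h1))
    rw [mul_eq_one_iff_eq_inv.1 (hfpf _ hyc)]
    exact (QuotientGroup.eq_one_iff _).2 (inv_mem hc)
  let K := AlgebraicClosure (ZMod t)
  have hcast : ∀ {s : ℕ}, s.Prime → s ≠ t → (s : K) ≠ 0 := fun {s} hs hst h => hst <|
    ((Nat.prime_dvd_prime_iff_eq ht.out hs).1 <| by
      rw [← ZMod.natCast_eq_zero_iff]
      exact (algebraMap (ZMod t) K).injective (by rw [map_natCast, h, map_zero])).symm
  have hres := CfsgLib.ShultGross.key (p := p) (r := r) (n := n) hp2 hpr (K := K) (hcast hr.out hrt)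
    (hcast hp.out hpt) (Nat.card R) R le_rfl (CfsgLib.Solvable.pCore_isPGroup _ (G ⧸ (Cfsg.fittingSubgroup G))) σR
    (MulEquiv.ext fun x => Subtype.ext (by rw [CfsgLib.Solvable.restrict_pow hσR, hσQN]; rfl))
    hσRfpf (M.comp (actQ.comp R.subtype)) (M σA)
    (fun x => by
      simp only [MonoidHom.comp_apply, Subgroup.subtype_apply, hσR, ← map_mul, hequiv])
    (by rw [← map_pow, hσAN, map_one]) (hMsum σA _ hσAN hσAfpf) ⟨u, hu⟩
  simp only [MonoidHom.comp_apply, Subgroup.subtype_apply, CfsgLib.Solvable.restrict_pow hσR] at hres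
  have h1 : actQ (u⁻¹ * (σQ ^ p ^ n) u) = 1 := by
    rw [map_mul, hM hres, ← map_mul, inv_mul_cancel, map_one]
  rw [← hg] at h1
  intro k hk
  have h2 := DFunLike.congr_fun (show act g = 1 from h1) ((⟨k, hk⟩ : O) : O ⧸ Φ)
  rw [hact, MulAut.one_apply, ← mul_inv_eq_one, ← QuotientGroup.mk_inv, ← QuotientGroup.mk_mul,
    QuotientGroup.eq_one_iff] at h2
  exact ⟨_, h2, by simp [MulAut.conjNormal_apply]⟩

/-- The power of order `p` centralizes the cores of `G` modulo its Fitting subgroup. -/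
theorem core_fixed [Group.IsSolvable G] {p n r : ℕ} [hp : Fact p.Prime] [hr : Fact r.Prime]
    (hp2 : p ≠ 2) (hpr : p ≠ r) (σ : MulAut G)
    (hσ : σ ^ p ^ (n + 1) = 1) (hfpf : ∀ g, σ g = g → g = 1)
    [hFn : (Cfsg.fittingSubgroup G).Normal]
    (hF : (Cfsg.fittingSubgroup G).map (σ : G →* G) = Cfsg.fittingSubgroup G) :
    ∀ u ∈ Cfsg.pCore r (G ⧸ Cfsg.fittingSubgroup G),
      ((QuotientGroup.congr _ _ σ hF) ^ p ^ n) u = u := by
  classical
  have hpG := not_dvd_card σ hσ hfpf
  set F0 := Cfsg.fittingSubgroup G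
  intro u hu
  set R := Cfsg.pCore r (G ⧸ F0)
  set zQ := (QuotientGroup.congr F0 F0 σ hF) ^ p ^ n
  set y := u⁻¹ * zQ u with hy
  suffices hy1 : y = 1 by rw [hy, inv_mul_eq_one] at hy1; exact hy1.symm
  have hyR : y ∈ R := mul_mem (inv_mem hu)
    (char_mem (CfsgLib.Solvable.pCore_characteristic _ (G ⧸ F0)) zQ hu)
  obtain ⟨g, hg⟩ := QuotientGroup.mk_surjective y
  obtain ⟨e, m, hm, hem⟩ := Nat.exists_eq_pow_mul_and_not_dvd (orderOf_pos g).ne' r hr.out.ne_one
  have hmr : Nat.Coprime m r := (hr.out.coprime_iff_not_dvd.2 hm).symm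
  have hgm : g ^ m ∈ F0 := by
    set h := g ^ m with hh
    have hhr : h ^ r ^ e = 1 := by rw [hh, ← pow_mul, mul_comm, ← hem, pow_orderOf_eq_one]
    let S := {t // t ∈ (Nat.card G).primeFactors ∧ t ≠ r}
    haveI : ∀ t : S, (Subgroup.centralizer (Cfsg.pCore (t : ℕ) G : Set G)).Normal := fun t => by
      haveI := CfsgLib.Solvable.pCore_normal (p := (t : ℕ)) G
      infer_instance
    haveI := CfsgLib.Solvable.pCore_normal (p := r) (G ⧸ F0)
    haveI : (R.comap (QuotientGroup.mk' F0)).Normal := inferInstance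
    haveI : (⨅ t : S, Subgroup.centralizer (Cfsg.pCore (t : ℕ) G : Set G)).Normal :=
      Subgroup.normal_iInf_normal fun t => inferInstance
    set Cc := R.comap (QuotientGroup.mk' F0) ⊓ ⨅ t : S, Subgroup.centralizer (Cfsg.pCore (t : ℕ) G : Set G)
      with hCc
    haveI : Cc.Normal := Subgroup.normal_inf_normal _ _
    have hcent : ∀ w ∈ Cc, (orderOf w).Coprime r → ∀ v ∈ Cc, v * w = w * v := by
      intro w hw hwr v hv
      have key : w ∈ Subgroup.centralizer ({v} : Set G) := by
        refine CfsgLib.CN.mem_of_pElem_pow fun s j hs hsj => ?_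
        rw [Subgroup.mem_centralizer_singleton_iff]
        haveI := Fact.mk hs
        by_cases hone : w ^ j = 1
        · rw [hone, one_mul, mul_one]
        have hsr : s ≠ r := by
          rintro rfl
          obtain ⟨i, hi⟩ := hsj
          refine hone (orderOf_eq_one_iff.1 (Nat.eq_one_of_dvd_coprimes (Nat.Coprime.pow_right i hwr)
            (orderOf_pow_dvd j) (orderOf_dvd_of_pow_eq_one hi)))
        have hmem : w ^ j ∈ F0 := by
          rw [← QuotientGroup.eq_one_iff]
          have h1 : ((w ^ j : G) : G ⧸ F0) ∈ R := pow_mem hw.1 j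
          obtain ⟨i, hi⟩ := hsj
          refine CfsgLib.CN.PElem.eq_one (p := s) (q := r) hsr
            ⟨i, by rw [← QuotientGroup.mk_pow, hi, QuotientGroup.mk_one]⟩
            (CfsgLib.CN.pElem_of_mem (CfsgLib.Solvable.pCore_isPGroup _ (G ⧸ F0)) h1)
        have hO := mem_pCore_of_mem_fitting hmem hsj
        have hsd : s ∈ (Nat.card G).primeFactors := by
          refine Nat.mem_primeFactors.2 ⟨hs, ?_, Nat.card_pos.ne'⟩
          obtain ⟨q, hq, hqd⟩ := Nat.exists_prime_and_dvd (n := orderOf (w ^ j)) (mt orderOf_eq_one_iff.1 hone)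
          rw [← hsj.orderOf_dvd hq hqd]
          exact hqd.trans (orderOf_dvd_natCard _)
        exact Subgroup.mem_centralizer_iff.1 (Subgroup.mem_iInf.1 hv.2 ⟨s, hsd, hsr⟩) _ hO
      exact (Subgroup.mem_centralizer_singleton_iff.1 key).symm
    have hnil : Group.IsNilpotent Cc := by
      refine Group.of_quotient_center_nilpotent (IsPGroup.isNilpotent (p := r) ?_)
      intro x
      obtain ⟨c, rfl⟩ := QuotientGroup.mk_surjective x
      obtain ⟨e', m', hm', hem'⟩ := Nat.exists_eq_pow_mul_and_not_dvd (orderOf_pos c).ne' r hr.out.ne_one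
      refine ⟨e', ?_⟩
      rw [← QuotientGroup.mk_pow, QuotientGroup.eq_one_iff, Subgroup.mem_center_iff]
      intro v
      refine Subtype.ext (hcent _ (c ^ r ^ e').2 ?_ v v.2)
      rw [Subgroup.orderOf_coe]
      refine Nat.Coprime.coprime_dvd_left ?_ ((hr.out.coprime_iff_not_dvd.2 hm').symm)
      exact orderOf_dvd_of_pow_eq_one (by rw [← pow_mul, ← hem', pow_orderOf_eq_one])
    refine CfsgLib.Solvable.le_fittingSubgroup inferInstance hnil ⟨?_, Subgroup.mem_iInf.2 ?_⟩
    · show ((h : G) : G ⧸ F0) ∈ R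
      rw [hh, QuotientGroup.mk_pow, hg]
      exact pow_mem hyR m
    rintro ⟨t, ht, htr⟩
    haveI := Fact.mk (Nat.prime_of_mem_primeFactors ht)
    haveI := CfsgLib.Solvable.pCore_normal (p := t) G
    have hpt : p ≠ t := fun e => hpG (e ▸ Nat.dvd_of_mem_primeFactors ht)
    have htriv := trivial_on_layer hp2 hpr hpt (Ne.symm htr) σ hσ hfpf hpG hF hu
    refine (CfsgLib.Solvable.le_centralizer_of_trivial_on_frattini_quotient (A := Subgroup.zpowers h) ?_ ?_
      (Subgroup.mem_zpowers h))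
    · obtain ⟨i, hi⟩ := ((CfsgLib.Solvable.pCore_isPGroup (p := t) G).to_subgroup
        (frattini (Cfsg.pCore t G : Subgroup G))).exists_card_eq
      rw [hi, Nat.card_zpowers]
      exact Nat.Coprime.coprime_dvd_left (orderOf_dvd_of_pow_eq_one hhr)
        (Nat.Coprime.pow e i ((Nat.coprime_primes hr.out (Fact.out : t.Prime)).2 (Ne.symm htr)))
    · intro a ha k hk
      obtain ⟨j, rfl⟩ := (mem_powers_iff_mem_zpowers (x := h)).2 ha
      show h ^ j * k * (h ^ j)⁻¹ * k⁻¹ ∈ _
      have hgen : ∀ g' : G, (g' : G ⧸ F0) = y → ∀ k ∈ Cfsg.pCore t G, g' * k * g'⁻¹ * k⁻¹ ∈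
          (frattini (Cfsg.pCore t G : Subgroup G)).map (Cfsg.pCore t G).subtype := fun g' hg' => htriv g' hg'
      have hind : ∀ i : ℕ, ∀ k ∈ Cfsg.pCore t G, g ^ i * k * (g ^ i)⁻¹ * k⁻¹ ∈
          (frattini (Cfsg.pCore t G : Subgroup G)).map (Cfsg.pCore t G).subtype := by
        intro i
        induction i with
        | zero => intro k _; simp
        | succ i ih =>
          intro k hk
          have hk' : g * k * g⁻¹ ∈ Cfsg.pCore t G :=
            Subgroup.Normal.conj_mem inferInstance k hk g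
          have := mul_mem (ih _ hk') (hgen g hg k hk)
          rw [show g ^ i * (g * k * g⁻¹) * (g ^ i)⁻¹ * (g * k * g⁻¹)⁻¹ * (g * k * g⁻¹ * k⁻¹) =
            g ^ (i + 1) * k * (g ^ (i + 1))⁻¹ * k⁻¹ by rw [pow_succ]; group] at this
          exact this
      rw [hh, ← pow_mul]
      exact hind _ k hk
  have hy' : y ^ m = 1 := by rw [← hg, ← QuotientGroup.mk_pow, QuotientGroup.eq_one_iff]; exact hgm
  obtain ⟨i, hi⟩ := CfsgLib.CN.pElem_of_mem (CfsgLib.Solvable.pCore_isPGroup _ (G ⧸ F0)) hyR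
  have h2 := pow_gcd_eq_one.2 ⟨hy', hi⟩
  rwa [(Nat.Coprime.pow_right i hmr).gcd_eq_one, pow_one] at h2

theorem height {p : ℕ} [hp : Fact p.Prime] (hp2 : p ≠ 2) : ∀ (n : ℕ) (G : Type u) [Group G] [Finite G]
    [Group.IsSolvable G] (σ : MulAut G), σ ^ p ^ n = 1 → (∀ g, σ g = g → g = 1) →
    ∃ F : Fin (n + 1) → Subgroup G, F 0 = ⊥ ∧ F (Fin.last n) = ⊤ ∧ Monotone F ∧ (∀ i, (F i).Normal) ∧
      ∀ i : Fin n, ∃ k : ℕ, (F i.succ).lowerCentralSeries k ≤ F i.castSucc := by
  intro n
  induction n with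
  | zero =>
    intro G _ _ _ σ hσ hfpf
    rw [pow_zero, pow_one] at hσ
    refine ⟨fun _ => ⊥, rfl, ?_, monotone_const, fun _ => inferInstance, fun i => i.elim0⟩
    refine eq_top_iff.2 fun g _ => ?_
    rw [Subgroup.mem_bot]
    exact hfpf g (by rw [hσ]; rfl)
  | succ n ih =>
    intro G _ _ _ σ hσ hfpf
    haveI hFn := CfsgLib.Solvable.fittingSubgroup_normal G
    set F0 := Cfsg.fittingSubgroup G
    have hpG := not_dvd_card σ hσ hfpf
    have hF : F0.map (σ : G →* G) = F0 := char_map (CfsgLib.Solvable.fittingSubgroup_characteristic G) σ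
    set σQ := QuotientGroup.congr F0 F0 σ hF with hσQ
    have hσQN : σQ ^ p ^ (n + 1) = 1 := MulEquiv.ext fun x => by
      obtain ⟨y, rfl⟩ := QuotientGroup.mk_surjective x
      rw [hσQ, pow_congr, hσ]; rfl
    have hσQfpf : ∀ x, σQ x = x → x = 1 := by
      intro x hx
      obtain ⟨y, rfl⟩ := QuotientGroup.mk_surjective x
      obtain ⟨c, hc, hyc⟩ := CfsgLib.ShultGross.exists_fixed_mem_coset (p := p) (k := n + 1) σ hσ F0
        (fun z hz => hF.le ⟨z, hz, rfl⟩) (fun hd => hpG (hd.trans (Subgroup.card_subgroup_dvd_card F0)))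
        (QuotientGroup.eq.1 hx.symm)
      rw [mul_eq_one_iff_eq_inv.1 (hfpf _ hyc)]
      exact (QuotientGroup.eq_one_iff _).2 (inv_mem hc)
    set zQ := σQ ^ p ^ n with hzQ
    have hzp : zQ ^ p ^ 1 = 1 := by rw [pow_one, hzQ, ← pow_mul, ← pow_succ, hσQN]
    have hFfix : ∀ x ∈ Cfsg.fittingSubgroup (G ⧸ F0), zQ x = x := by
      have hle : Cfsg.fittingSubgroup (G ⧸ F0) ≤ zQ.toMonoidHom.eqLocus (MonoidHom.id _) := by
        rw [CfsgLib.Solvable.fittingSubgroup_eq_iSup_pCore]
        refine iSup_le fun r x hx => ?_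
        haveI := Fact.mk (Nat.prime_of_mem_primeFactors r.2)
        have hpr : p ≠ (r : ℕ) := fun e => hpG (e ▸ (Nat.dvd_of_mem_primeFactors r.2).trans
          (Subgroup.card_quotient_dvd_card F0))
        exact core_fixed hp2 hpr σ hσ hfpf hF x hx
      exact fun x hx => hle hx
    have hz1 : zQ = 1 := by
      haveI := CfsgLib.Solvable.fittingSubgroup_normal (G ⧸ F0)
      refine MulEquiv.ext fun g => ?_
      have hyC : g⁻¹ * zQ g ∈ Subgroup.centralizer (Cfsg.fittingSubgroup (G ⧸ F0) : Set (G ⧸ F0)) := by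
        rw [Subgroup.mem_centralizer_iff]
        intro f hf
        have h1 := hFfix _ (Subgroup.Normal.conj_mem inferInstance f hf g)
        rw [map_mul, map_mul, map_inv, hFfix f hf] at h1
        calc f * (g⁻¹ * zQ g) = g⁻¹ * (g * f * g⁻¹) * zQ g := by group
          _ = g⁻¹ * zQ g * f := by rw [← h1]; group
      have hncop : ¬ p ∣ Nat.card (Cfsg.fittingSubgroup (G ⧸ F0)) := fun hd => hpG <|
        hd.trans ((Subgroup.card_subgroup_dvd_card _).trans (Subgroup.card_quotient_dvd_card F0))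
      obtain ⟨c, hc, hgc⟩ := CfsgLib.ShultGross.exists_fixed_mem_coset (p := p) (k := 1) zQ hzp
        (Cfsg.fittingSubgroup (G ⧸ F0)) (fun x hx => by rw [hFfix x hx]; exact hx) hncop
        (CfsgLib.Solvable.centralizer_fittingSubgroup_le hyC)
      rw [map_mul, hFfix c hc] at hgc
      exact mul_right_cancel hgc
    obtain ⟨F', h0, h1, hmono, hn, hk⟩ := ih (G ⧸ F0) σQ hz1 hσQfpf
    set q := QuotientGroup.mk' F0
    refine ⟨Fin.cases ⊥ fun i => (F' i).comap q, rfl, ?_, ?_, ?_, ?_⟩
    · simp only [← Fin.succ_last, Fin.cases_succ, h1, Subgroup.comap_top]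
    · intro i j hij
      cases i using Fin.cases with
      | zero => simp
      | succ i =>
        cases j using Fin.cases with
        | zero => exact absurd hij (by simp [Fin.le_def])
        | succ j =>
          simp only [Fin.cases_succ]
          exact Subgroup.comap_mono (hmono (Fin.succ_le_succ_iff.1 hij))
    · intro i
      cases i using Fin.cases with
      | zero => simp only [Fin.cases_zero]; infer_instance
      | succ i => simp only [Fin.cases_succ]; exact (hn i).comap q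
    · intro i
      cases i using Fin.cases with
      | zero =>
        obtain ⟨k, hk⟩ := exists_lowerCentralSeries_eq_bot F0 (CfsgLib.Solvable.fittingSubgroup_isNilpotent G)
        refine ⟨k, ?_⟩
        simp only [Fin.cases_succ, Fin.castSucc_zero, Fin.cases_zero, h0, MonoidHom.comap_bot, q,
          QuotientGroup.ker_mk', hk, le_refl]
      | succ i =>
        obtain ⟨k, hk⟩ := hk i
        refine ⟨k, ?_⟩
        simp only [Fin.cases_succ, Fin.castSucc_succ]
        rw [← Subgroup.map_le_iff_le_comap, ← map_lowerCentralSeries,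
          Subgroup.map_comap_eq_self_of_surjective (QuotientGroup.mk'_surjective F0)]
        exact hk

/-- The Shult–Gross Theorem: let p be an odd prime and G a finite solvable group with an automorphism σ of order p^n fixing only the identity. Then G has Fitting height at most n: G has Fitting height at most m when there is a chain of normal subgroups 1 = F₀ ≤ F₁ ≤ ⋯ ≤ F_m = G with each F_{i+1}/F_i nilpotent. -/
theorem result {G : Type*} [Group G] [Finite G] (hG : Group.IsSolvable G) {p : ℕ} (hp : p.Prime) (hp2 : p ≠ 2) (σ : MulAut G) (n : ℕ) (hσ : orderOf σ = p ^ n) (hfpf : ∀ g : G, σ g = g → g = 1) : ∃ F : Fin (n + 1) → Subgroup G, F 0 = ⊥ ∧ F (Fin.last n) = ⊤ ∧ Monotone F ∧ (∀ i, (F i).Normal) ∧ ∀ i : Fin n, ∃ k : ℕ, (F i.succ).lowerCentralSeries k ≤ F i.castSucc := by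
  haveI := hG
  haveI : Fact p.Prime := ⟨hp⟩
  exact height hp2 n G σ (by rw [← hσ, pow_orderOf_eq_one]) hfpf

end Cfsg.Agent.S3793
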