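import Cfsg.Statements.S0743
import Mathlib.GroupTheory.GroupAction.MultipleTransitivity
import Mathlib.GroupTheory.PGroup

set_option autoImplicit false
open Cfsg

namespace Cfsg.Agent.S0743

open MulAction

theorem pretransitive_of {G α : Type*} [Group G] [MulAction G α] [Finite α] {p k : ℕ} (hp : p.Prime)
    (hk : 1 ≤ k) (hkn : k < Nat.card α)
    (h : ∀ s : Finset α, s.card = k → ∃ P : Subgroup G, IsPGroup p P ∧ fixedPoints P α = (s : Set α)) :
    IsPretransitive G α := by
  classical
  haveI := Fintype.ofFinite α
  haveI := Fact.mk hp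
  rw [Nat.card_eq_fintype_card] at hkn
  refine ⟨fun u v => ?_⟩
  let O : Finset α := Finset.univ.filter (fun z => z ∈ orbit G u)
  have hO : ∀ s : Finset α, s.card = k → O.card % p = (O ∩ s).card % p := by
    intro s hs
    obtain ⟨P, hP, hfix⟩ := h s hs
    let X : SubMulAction P α :=
      { carrier := orbit G u
        smul_mem' := fun g x hx => mem_orbit_of_mem_orbit (g : G) hx }
    haveI : Finite P → True := fun _ => trivial
    have := hP.card_modEq_card_fixedPoints (α := X)
    have hX : Nat.card X = O.card := by
      rw [Nat.card_eq_fintype_card]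
      exact Fintype.card_of_subtype O (fun z => by simp [O]; rfl)
    have hF : Nat.card (fixedPoints P X) = (O ∩ s).card := by
      have e : fixedPoints P X ≃ {z : α // z ∈ orbit G u ∧ z ∈ (s : Set α)} :=
        { toFun := fun z => ⟨z.1.1, z.1.2, hfix ▸ fun g => congrArg Subtype.val (z.2 g)⟩
          invFun := fun z => ⟨⟨z.1, z.2.1⟩, fun g => Subtype.ext ((hfix.symm ▸ z.2.2 : z.1 ∈ fixedPoints P α) g)⟩
          left_inv := fun z => rfl
          right_inv := fun z => rfl }
      rw [Nat.card_congr e, Nat.card_eq_fintype_card]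
      exact Fintype.card_of_subtype (O ∩ s) (fun z => by simp [O])
    rwa [hX, hF] at this
  by_contra hv
  have hvO : v ∉ O := by
    simp only [O, Finset.mem_filter, Finset.mem_univ, true_and]
    exact fun ⟨g, hg⟩ => hv ⟨g, hg⟩
  have huO : u ∈ O := by simp [O]
  have huv : u ≠ v := fun e => hvO (e ▸ huO)
  obtain ⟨r, hr, hrc⟩ := Finset.exists_subset_card_eq (s := (Finset.univ.erase u).erase v) (n := k - 1) (by
    rw [Finset.card_erase_of_mem (by simp [huv.symm]), Finset.card_erase_of_mem (Finset.mem_univ u),
      Finset.card_univ]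
    omega)
  have hu : u ∉ r := fun e => by simpa using hr e
  have hvr : v ∉ r := fun e => by simpa using hr e
  have e1 := hO (insert u r) (by rw [Finset.card_insert_of_notMem hu]; omega)
  have e2 := hO (insert v r) (by rw [Finset.card_insert_of_notMem hvr]; omega)
  rw [Finset.inter_insert_of_mem huO, Finset.card_insert_of_notMem (by simp [hu]), e2,
    Finset.inter_insert_of_notMem hvO] at e1
  have : ((O ∩ r).card + 1) ≡ (O ∩ r).card + 0 [MOD p] := e1.symm
  have h01 : 1 ≡ 0 [MOD p] := Nat.ModEq.add_left_cancel' _ this
  exact hp.ne_one (Nat.dvd_one.1 (Nat.modEq_zero_iff_dvd.1 h01))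

theorem main.{u, v} (k : ℕ) : ∀ {G : Type u} {α : Type v} [Group G] [MulAction G α] [Finite α] {p : ℕ}, p.Prime →
    k < Nat.card α → (∀ s : Finset α, s.card = k → ∃ P : Subgroup G, IsPGroup p P ∧ fixedPoints P α = (s : Set α)) →
    IsMultiplyPretransitive G α k := by
  classical
  induction k with
  | zero => intros; exact MulAction.is_zero_pretransitive'
  | succ k ih =>
    intro G α _ _ _ p hp hkn h
    haveI := pretransitive_of hp (Nat.succ_pos k) hkn h
    obtain ⟨a⟩ : Nonempty α := Finite.card_pos_iff.1 (by omega)
    rw [SubMulAction.ofStabilizer.isMultiplyPretransitive (a := a)]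
    refine ih (p := p) hp ?_ ?_
    · have := SubMulAction.nat_card_ofStabilizer_add_one_eq (G := G) a
      omega
    · intro s hs
      let s' : Finset α := insert a (s.map (Function.Embedding.subtype _))
      have ha : a ∉ s.map (Function.Embedding.subtype _) := by
        simp only [Finset.mem_map, Function.Embedding.coe_subtype, not_exists, not_and]
        exact fun x _ => x.2
      obtain ⟨P, hP, hfix⟩ := h s' (by rw [Finset.card_insert_of_notMem ha, Finset.card_map, hs])
      have hPle : P ≤ stabilizer G a := fun g hg => by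
        have hm : a ∈ fixedPoints P α := hfix ▸ Finset.mem_coe.2 (Finset.mem_insert_self a _)
        exact hm ⟨g, hg⟩
      refine ⟨P.subgroupOf (stabilizer G a), hP.of_equiv (Subgroup.subgroupOfEquivOfLe hPle).symm, ?_⟩
      ext z
      constructor
      · intro hz
        have hm : (z : α) ∈ fixedPoints P α := fun g =>
          congrArg Subtype.val (hz ⟨⟨(g : G), hPle g.2⟩, g.2⟩)
        rw [hfix] at hm
        simp only [s', Finset.coe_insert, Finset.coe_map, Set.mem_insert_iff, Set.mem_image] at hm
        rcases hm with hm | ⟨y, hy, hyz⟩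
        · exact absurd hm z.2
        · exact (Subtype.ext hyz : y = z) ▸ hy
      · intro hz g
        have hm : (z : α) ∈ fixedPoints P α := hfix ▸ by
          simp only [s', Finset.coe_insert, Finset.coe_map, Set.mem_insert_iff, Set.mem_image]
          exact Or.inr ⟨z, hz, rfl⟩
        exact Subtype.ext (hm ⟨((g : stabilizer G a) : G), g.2⟩)


/-- Gleason's Lemma: let `p` be a prime and `1 ≤ k < n`; if every `k`-subset of the `n` points is exactly the fixed-point set of some `p`-subgroup of `G`, then `G` is `k`-transitive. -/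
theorem result {α : Type*} [Fintype α] [DecidableEq α] (G : Subgroup (Equiv.Perm α)) {p k : ℕ} (hp : p.Prime) (hk : 1 ≤ k) (hkn : k < Fintype.card α) (h : ∀ s : Finset α, s.card = k → ∃ P : Subgroup G, IsPGroup p P ∧ MulAction.fixedPoints P α = (s : Set α)) : MulAction.IsMultiplyPretransitive G α k := by
  exact main k hp (by rwa [Nat.card_eq_fintype_card]) h

end Cfsg.Agent.S0743
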