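import Cfsg.Statements.S0736
import Mathlib.Data.Nat.Choose.Lucas
import Mathlib.Data.Finset.Powerset
import Mathlib.Algebra.BigOperators.Group.Finset.Basic
import Mathlib.Combinatorics.Enumerative.DoubleCounting
import Mathlib.Data.Nat.Factorization.Basic

set_option autoImplicit false
open Cfsg

namespace Cfsg.Agent.S0736

open MulAction Finset
open scoped Pointwise

theorem choose_pow_ne {p : ℕ} [Fact p.Prime] (e m : ℕ) :
    ¬ p ∣ (m * p ^ e + (p ^ e - 1)).choose (p ^ e - 1) := by
  induction e generalizing m with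
  | zero => simpa using (Fact.out : p.Prime).ne_one
  | succ e ih =>
    have hp := (Fact.out : p.Prime).pos
    have hpe : 0 < p ^ e := pow_pos hp e
    have h := Choose.choose_modEq_choose_mod_mul_choose_div_nat (p := p)
      (n := m * p ^ (e + 1) + (p ^ (e + 1) - 1)) (k := p ^ (e + 1) - 1)
    have e1 : p ^ (e + 1) - 1 = p * (p ^ e - 1) + (p - 1) := by
      rw [pow_succ, Nat.mul_sub, mul_comm p, mul_one]
      have : p ≤ p ^ e * p := Nat.le_mul_of_pos_left p hpe
      omega
    have e2 : m * p ^ (e + 1) + (p ^ (e + 1) - 1) = p * (m * p ^ e + (p ^ e - 1)) + (p - 1) := by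
      rw [e1, pow_succ]; ring
    rw [e1] at e2 h
    rw [e1]
    rw [e2] at h ⊢
    have lt : p - 1 < p := by omega
    simp only [Nat.mul_add_mod, Nat.mod_eq_of_lt lt, Nat.choose_self, one_mul,
      Nat.mul_add_div hp, Nat.div_eq_of_lt lt, add_zero] at h
    intro hd
    exact ih m ((Nat.ModEq.dvd_iff h dvd_rfl).1 hd)


/-- A `k`-homogeneous permutation group of degree `n`, `k ≥ 2`, with `k + q - 1 ≤ n` for every prime power `q` dividing `k`, is `(k-1)`-homogeneous. -/
theorem result {α : Type*} [Fintype α] [DecidableEq α] (G : Subgroup (Equiv.Perm α)) {k : ℕ} (hk : 2 ≤ k) (hG : MulAction.IsPretransitive G (Set.powersetCard α k)) (hq : ∀ q : ℕ, IsPrimePow q → q ∣ k → k + q - 1 ≤ Fintype.card α) : MulAction.IsPretransitive G (Set.powersetCard α (k - 1)) := by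
  classical
  have hkn : k < Fintype.card α := by
    obtain ⟨p, hp, hpk⟩ := Nat.exists_prime_and_dvd (n := k) (by omega)
    have := hq p hp.isPrimePow hpk
    have := hp.two_le
    omega
  refine ⟨fun T₀ T₁ => ?_⟩
  let P : Finset α → Prop := fun T => ∃ g : G, g • (T₀ : Finset α) = T
  suffices hall : ∀ T : Finset α, T.card = k - 1 → P T by
    obtain ⟨g, hg⟩ := hall (T₁ : Finset α) T₁.2
    exact ⟨g, Subtype.ext hg⟩
  let cnt : Finset α → ℕ := fun S => ((S.powersetCard (k - 1)).filter P).card
  have hPinv : ∀ (g : G) (T : Finset α), P T → P (g • T) := by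
    rintro g T ⟨h, hh⟩
    exact ⟨g * h, by rw [mul_smul, hh]⟩
  have hle : ∀ (g : G) (S : Finset α), cnt S ≤ cnt (g • S) := by
    intro g S
    refine Finset.card_le_card_of_injOn (fun T => g • T) ?_ (fun a _ b _ h => MulAction.injective g h)
    intro T hT
    simp only [Finset.coe_filter, Finset.mem_powersetCard, Set.mem_setOf_eq] at hT ⊢
    exact ⟨⟨Finset.smul_finset_subset_smul_finset hT.1.1, by rw [Finset.card_smul_finset]; exact hT.1.2⟩,
      hPinv g T hT.2⟩
  have hconst : ∀ S S' : Finset α, S.card = k → S'.card = k → cnt S = cnt S' := by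
    intro S S' hS hS'
    obtain ⟨g, hg⟩ := hG.exists_smul_eq ⟨S, hS⟩ ⟨S', hS'⟩
    obtain ⟨g', hg'⟩ := hG.exists_smul_eq ⟨S', hS'⟩ ⟨S, hS⟩
    have h1 : g • S = S' := congrArg Subtype.val hg
    have h2 : g' • S' = S := congrArg Subtype.val hg'
    exact le_antisymm (h1 ▸ hle g S) (h2 ▸ hle g' S')
  obtain ⟨S₀, hS₀T, -, hS₀⟩ := Finset.exists_subsuperset_card_eq (Finset.subset_univ (T₀ : Finset α))
    (show (T₀ : Finset α).card ≤ k by rw [T₀.2]; omega) (show k ≤ (univ : Finset α).card by rw [card_univ]; omega)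
  have hpos : 0 < cnt S₀ := Finset.card_pos.2 ⟨(T₀ : Finset α), Finset.mem_filter.2
    ⟨Finset.mem_powersetCard.2 ⟨hS₀T, T₀.2⟩, 1, one_smul _ _⟩⟩
  have hdvd : k ∣ cnt S₀ := by
    refine (Nat.dvd_iff_prime_pow_dvd_dvd _ _).2 fun p e hp hpe => ?_
    rcases Nat.eq_zero_or_pos e with rfl | he
    · simp
    haveI := Fact.mk hp
    have hbound := hq (p ^ e) (hp.isPrimePow.pow he.ne') hpe
    have hpep : 0 < p ^ e := pow_pos hp.pos e
    obtain ⟨U, -, hU⟩ := Finset.exists_subset_card_eq (s := (univ : Finset α))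
      (show k + p ^ e - 1 ≤ (univ : Finset α).card by rw [card_univ]; omega)
    have key := Finset.sum_card_bipartiteAbove_eq_sum_card_bipartiteBelow (r := fun T S : Finset α => T ⊆ S)
      (s := (U.powersetCard (k - 1)).filter P) (t := U.powersetCard k)
    have hA : ∀ T ∈ (U.powersetCard (k - 1)).filter P,
        ((U.powersetCard k).bipartiteAbove (fun T S : Finset α => T ⊆ S) T).card = p ^ e := by
      intro T hT
      rw [mem_filter, mem_powersetCard] at hT
      have : (U.powersetCard k).bipartiteAbove (fun T S : Finset α => T ⊆ S) T = (U \ T).image (fun x => insert x T) := by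
        ext S
        simp only [Finset.mem_bipartiteAbove, mem_powersetCard, mem_image, mem_sdiff]
        constructor
        · rintro ⟨⟨hSU, hSc⟩, hTS⟩
          have hTc := hT.1.2
          obtain ⟨x, hx, hxS⟩ : ∃ x, x ∉ T ∧ insert x T = S := by
            have h1 : (S \ T).card = 1 := by rw [card_sdiff_of_subset hTS]; omega
            obtain ⟨x, hx⟩ := card_eq_one.1 h1
            have hx' : x ∈ S \ T := hx ▸ mem_singleton_self x
            exact ⟨x, (mem_sdiff.1 hx').2, by rw [insert_eq, ← hx, sdiff_union_of_subset hTS]⟩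
          exact ⟨x, ⟨hSU (hxS ▸ mem_insert_self x T), hx⟩, hxS⟩
        · rintro ⟨x, ⟨hxU, hxT⟩, rfl⟩
          exact ⟨⟨insert_subset hxU hT.1.1, by rw [card_insert_of_notMem hxT, hT.1.2]; omega⟩, subset_insert _ _⟩
      rw [this, card_image_of_injOn, card_sdiff_of_subset hT.1.1, hU, hT.1.2]
      · omega
      · intro a ha b hb hab
        simp only [coe_sdiff, Set.mem_diff, mem_coe] at ha hb
        have : a ∈ insert b T := by rw [← show insert a T = insert b T from hab]; exact mem_insert_self a T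
        exact (mem_insert.1 this).resolve_right ha.2
    have hB : ∀ S ∈ U.powersetCard k,
        (((U.powersetCard (k - 1)).filter P).bipartiteBelow (fun T S : Finset α => T ⊆ S) S).card = cnt S₀ := by
      intro S hS
      rw [mem_powersetCard] at hS
      rw [← hconst S S₀ hS.2 hS₀]
      congr 1
      ext T
      simp only [Finset.mem_bipartiteBelow, mem_filter, mem_powersetCard]
      exact ⟨fun ⟨⟨⟨_, b⟩, c⟩, d⟩ => ⟨⟨d, b⟩, c⟩, fun ⟨⟨d, b⟩, c⟩ => ⟨⟨⟨d.trans hS.1, b⟩, c⟩, d⟩⟩
    rw [sum_const_nat hA, sum_const_nat hB, card_powersetCard, hU] at key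
    obtain ⟨m, hm⟩ := hpe
    have hcop : Nat.Coprime (p ^ e) ((k + p ^ e - 1).choose k) := by
      apply Nat.Coprime.pow_left
      rw [hp.coprime_iff_not_dvd, Nat.choose_symm_of_eq_add (show k + p ^ e - 1 = k + (p ^ e - 1) by omega)]
      have := choose_pow_ne (p := p) e m
      rwa [mul_comm, ← hm, show k + (p ^ e - 1) = k + p ^ e - 1 by omega] at this
    exact hcop.dvd_of_dvd_mul_left ⟨_, (key.symm.trans (mul_comm _ _))⟩
  intro T hT
  obtain ⟨S, hST, -, hS⟩ := Finset.exists_subsuperset_card_eq (Finset.subset_univ T)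
    (show T.card ≤ k by omega) (show k ≤ (univ : Finset α).card by rw [card_univ]; omega)
  have hk1 : (S.powersetCard (k - 1)).card = k := by
    rw [card_powersetCard, hS, Nat.choose_symm (show 1 ≤ k by omega), Nat.choose_one_right]
  have heq : (S.powersetCard (k - 1)).filter P = S.powersetCard (k - 1) := by
    refine eq_of_subset_of_card_le (filter_subset _ _) ?_
    rw [hk1]
    have e : cnt S₀ = ((S.powersetCard (k - 1)).filter P).card := hconst S₀ S hS₀ hS
    rw [e] at hpos hdvd
    exact Nat.le_of_dvd hpos hdvd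
  have hTm : T ∈ S.powersetCard (k - 1) := mem_powersetCard.2 ⟨hST, hT⟩
  rw [← heq] at hTm
  exact (mem_filter.1 hTm).2

end Cfsg.Agent.S0736
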