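import Cfsg.Statements.S0744
import Mathlib.GroupTheory.GroupAction.MultipleTransitivity
import Mathlib.GroupTheory.GroupAction.Quotient
import Mathlib.Data.Set.Card

set_option autoImplicit false
open Cfsg

namespace Cfsg.Agent.S0744

open MulAction

theorem base {G α : Type*} [Group G] [MulAction G α] [FaithfulSMul G α] [Finite G] [Finite α] (l m : ℕ)
    (hl : 1 < l) (h1 : ∀ x : α, Nat.card (stabilizer G x) = l)
    (h2 : ∀ x y : α, x ≠ y → Nat.card (stabilizer (stabilizer G x) y) = m) :
    IsPretransitive G α := by
  classical
  haveI := Fintype.ofFinite α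
  refine ⟨fun u v => ?_⟩
  by_contra hv
  let L := stabilizer G u
  have hfix : ∀ (x y : α), x ≠ y → ∀ e : ℕ, e = (orbit (stabilizer G x) y).ncard → e * m = l := by
    intro x y hxy e he
    rw [← h1 x, ← h2 x y hxy, he, ← MulAction.index_stabilizer]
    exact Subgroup.index_mul_card _
  have hm : 0 < m := by
    rcases eq_or_ne u v with h | h
    · exact absurd ⟨1, by rw [h, one_smul]⟩ hv
    · rw [← h2 u v h]; exact Nat.card_pos
  let e := l / m
  have horb : ∀ x y : α, x ≠ y → (orbit (stabilizer G x) y).ncard = e := fun x y hxy => by
    have h := hfix x y hxy _ rfl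
    simp only [e, ← h, Nat.mul_div_cancel _ hm]
  -- `X` a set avoiding `u`, invariant under the stabiliser of `u`
  have hdiv : ∀ X : Set α, u ∉ X → (∀ g : L, ∀ x ∈ X, g • x ∈ X) → e ∣ X.ncard := by
    intro X hu hX
    let X' : SubMulAction L α := { carrier := X, smul_mem' := fun g x hx => hX g x hx }
    have hc : Nat.card X' = X.ncard := rfl
    rw [← hc, Nat.card_congr (selfEquivSigmaOrbits L X'), Nat.card_sigma]
    refine Finset.dvd_sum fun ω _ => ?_
    have hne : u ≠ ((Quotient.out ω : X') : α) := fun h => hu (h ▸ (Quotient.out ω : X').2)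
    rw [Nat.card_coe_set_eq, ← horb u _ hne, ← SubMulAction.val_image_orbit,
      Set.ncard_image_of_injective _ Subtype.val_injective]
  have hu' : ∀ g : L, (g : G) • u = u := fun g => g.2
  have hO1 : e ∣ (orbit G u \ {u}).ncard := by
    refine hdiv _ (by simp) fun g x hx => ⟨mem_orbit_of_mem_orbit (g : G) hx.1, fun h => hx.2 ?_⟩
    exact MulAction.injective (g : G) ((Set.mem_singleton_iff.1 h).trans (hu' g).symm)
  have hO2 : e ∣ (orbit G v).ncard :=
    hdiv _ (fun h => hv (by obtain ⟨g, hg⟩ := h; exact ⟨g⁻¹, by rw [inv_smul_eq_iff]; exact hg.symm⟩))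
      fun g x hx => mem_orbit_of_mem_orbit (g : G) hx
  have hq : ∀ x : α, (orbit G x).ncard * l = Nat.card G := fun x => by
    rw [← h1 x, ← MulAction.index_stabilizer]
    exact Subgroup.index_mul_card _
  have hqq : (orbit G v).ncard = (orbit G u).ncard :=
    Nat.eq_of_mul_eq_mul_right (by omega : 0 < l) ((hq v).trans (hq u).symm)
  have hsucc : (orbit G u \ {u}).ncard + 1 = (orbit G u).ncard :=
    Set.ncard_sdiff_singleton_add_one (mem_orbit_self u)
  rw [hqq, ← hsucc] at hO2
  have he1 : e = 1 := Nat.dvd_one.1 ((Nat.dvd_add_right hO1).1 hO2)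
  have : Subsingleton L := ⟨fun g g' => by
    apply Subtype.ext
    refine eq_of_smul_eq_smul (α := α) fun y => ?_
    by_cases hy : y = u
    · rw [hy, hu' g, hu' g']
    · obtain ⟨z, hz⟩ := Set.ncard_eq_one.1 ((horb u y (Ne.symm hy)).trans he1)
      have a : (g : G) • y ∈ orbit L y := mem_orbit y g
      have b : (g' : G) • y ∈ orbit L y := mem_orbit y g'
      rw [hz] at a b
      exact a.trans b.symm⟩
  have : Nat.card L = 1 := Nat.card_unique
  exact hl.ne' ((h1 u).symm.trans this)

theorem main.{u, v} (j : ℕ) : ∀ {G : Type u} {α : Type v} [Group G] [MulAction G α] [FaithfulSMul G α] [Finite G] [Finite α]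
    (l m : ℕ), j + 1 ≤ Nat.card α → 1 < l →
    (∀ s : Finset α, s.card = j → Nat.card (fixingSubgroup G (s : Set α)) = l) →
    (∀ s : Finset α, s.card = j + 1 → Nat.card (fixingSubgroup G (s : Set α)) = m) →
    IsMultiplyPretransitive G α j := by
  classical
  induction j with
  | zero => intros; exact MulAction.is_zero_pretransitive'
  | succ j ih =>
    intro G α _ _ _ _ _ l m hj hl h1 h2
    haveI hf : ∀ x : α, FaithfulSMul (stabilizer G x) (SubMulAction.ofStabilizer G x) := fun x => ⟨fun {g g'} h => by
      apply Subtype.ext
      refine eq_of_smul_eq_smul (α := α) fun y => ?_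
      by_cases hy : y = x
      · rw [hy]; exact g.2.trans g'.2.symm
      · exact congrArg Subtype.val (h ⟨y, hy⟩)⟩
    have key : ∀ x : α, IsMultiplyPretransitive (stabilizer G x) (SubMulAction.ofStabilizer G x) j := by
      intro x
      have hc := SubMulAction.nat_card_ofStabilizer_add_one_eq (G := G) x
      have tr : ∀ (i n : ℕ), (∀ s : Finset α, s.card = i + 1 → Nat.card (fixingSubgroup G (s : Set α)) = n) →
          ∀ s : Finset (SubMulAction.ofStabilizer G x), s.card = i →
            Nat.card (fixingSubgroup (stabilizer G x) (s : Set (SubMulAction.ofStabilizer G x))) = n := by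
        intro i n h s hs
        rw [← Nat.card_congr (SubMulAction.fixingSubgroupInsertEquiv x _).toEquiv]
        have := h (insert x (s.map (Function.Embedding.subtype _))) (by
          rw [Finset.card_insert_of_notMem, Finset.card_map, hs]
          simp only [Finset.mem_map, Function.Embedding.coe_subtype, not_exists, not_and]
          exact fun y _ => y.2)
        rwa [Finset.coe_insert, Finset.coe_map, Function.Embedding.coe_subtype] at this
      exact ih l m (by omega) hl (tr j l h1) (tr (j + 1) m h2)
    have htr : IsPretransitive G α := by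
      rcases Nat.eq_zero_or_pos j with rfl | hj0
      · refine base l m hl (fun x => ?_) fun x y hxy => ?_
        · rw [← h1 {x} rfl]
          exact Nat.card_congr (Equiv.subtypeEquivRight fun g => by
            simp [mem_fixingSubgroup_iff])
        · rw [← h2 {x, y} (by rw [Finset.card_pair hxy])]
          exact Nat.card_congr
            { toFun := fun g => ⟨((g : stabilizer G x) : G), by
                rw [mem_fixingSubgroup_iff]
                intro z hz
                simp only [Finset.coe_insert, Finset.coe_singleton, Set.mem_insert_iff, Set.mem_singleton_iff] at hz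
                rcases hz with rfl | rfl
                · exact (g : stabilizer G z).2
                · exact g.2⟩
              invFun := fun g => ⟨⟨(g : G), (mem_fixingSubgroup_iff G).1 g.2 x (by simp)⟩,
                (mem_fixingSubgroup_iff G).1 g.2 y (by simp)⟩
              left_inv := fun g => rfl
              right_inv := fun g => rfl }
      · refine ⟨fun u v => ?_⟩
        haveI := Fintype.ofFinite α
        rw [Nat.card_eq_fintype_card] at hj
        obtain ⟨w, hw⟩ : ∃ w, w ∉ ({u, v} : Finset α) := by
          by_contra hall
          push Not at hall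
          have h3 := Finset.card_le_card (show (Finset.univ : Finset α) ⊆ {u, v} from fun z _ => hall z)
          have := h3.trans Finset.card_le_two
          rw [Finset.card_univ] at this
          omega
        simp only [Finset.mem_insert, Finset.mem_singleton, not_or] at hw
        haveI := key w
        have hc := SubMulAction.nat_card_ofStabilizer_add_one_eq (G := G) w
        have h1' : IsPretransitive (stabilizer G w) (SubMulAction.ofStabilizer G w) :=
          is_one_pretransitive_iff.1 (isMultiplyPretransitive_of_le (n := j) hj0 (by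
            have := Nat.card_eq_fintype_card (α := α)
            omega))
        obtain ⟨g, hg⟩ := exists_smul_eq (stabilizer G w)
          (⟨u, Ne.symm hw.1⟩ : SubMulAction.ofStabilizer G w) ⟨v, Ne.symm hw.2⟩
        exact ⟨g, congrArg Subtype.val hg⟩
    obtain ⟨a⟩ : Nonempty α := Finite.card_pos_iff.1 (by omega)
    exact (SubMulAction.ofStabilizer.isMultiplyPretransitive (a := a)).2 (key a)


/-- If for some `k > 1` the pointwise stabilisers of all `(k-1)`-subsets have the same order `> 1` and those of all `k`-subsets have the same order, then the group is `(k-1)`-transitive. -/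
theorem result {α : Type*} [Fintype α] [DecidableEq α] (G : Subgroup (Equiv.Perm α)) {k : ℕ} (hk : 1 < k) (hkn : k ≤ Fintype.card α) (l m : ℕ) (hl : 1 < l) (hkm1 : ∀ s : Finset α, s.card = k - 1 → Nat.card (fixingSubgroup G (s : Set α)) = l) (hkm : ∀ s : Finset α, s.card = k → Nat.card (fixingSubgroup G (s : Set α)) = m) : MulAction.IsMultiplyPretransitive G α (k - 1) := by
  obtain ⟨j, rfl⟩ := Nat.exists_eq_add_of_le' (show 1 ≤ k by omega)
  simp only [Nat.add_sub_cancel] at hkm1 ⊢
  exact main j l m (by rwa [Nat.card_eq_fintype_card]) hl hkm1 hkm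

end Cfsg.Agent.S0744
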