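import Cfsg.Statements.S0943
import Cfsg.Agent.Lib.Char.Integral

set_option autoImplicit false
open Cfsg

namespace Cfsg.Agent.S0943

/-- Let χ be an irreducible character of the finite group G and u, v ∈ G. If χ (x * y) = χ (u * v) whenever x is conjugate to u and y is conjugate to v, then χ u * χ v = χ 1 * χ (u * v). (Multiply the class sums of u and v and apply the central character of χ.) -/
theorem result {G : Type*} [Group G] [Finite G] (χ : Cfsg.IrrCharacter G) (u v : G) (hc : ∀ x y : G, IsConj u x → IsConj v y → (χ : G → ℂ) (x * y) = (χ : G → ℂ) (u * v)) : (χ : G → ℂ) u * (χ : G → ℂ) v = (χ : G → ℂ) 1 * (χ : G → ℂ) (u * v) := by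
  classical
  haveI := Fintype.ofFinite G
  obtain ⟨n, ρ, hρ, he⟩ := χ.2
  have hind : ∀ w g h : G, (if IsConj w (h * g * h⁻¹) then (1 : ℂ) else 0)
      = if IsConj w g then 1 else 0 := fun w g h =>
    if_congr ⟨fun hh => hh.trans (isConj_iff.2 ⟨h⁻¹, by group⟩),
      fun hh => hh.trans (isConj_iff.2 ⟨h, rfl⟩)⟩ rfl rfl
  obtain ⟨cu, hcu, hcu'⟩ := CfsgLib.Char.exists_scalar_sum_smul ρ
    (fun x => if IsConj u x then 1 else 0) (hind u)
  obtain ⟨cv, hcv, hcv'⟩ := CfsgLib.Char.exists_scalar_sum_smul ρ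
    (fun x => if IsConj v x then 1 else 0) (hind v)
  simp only [ite_smul, one_smul, zero_smul, ite_mul, one_mul, zero_mul, ← Finset.sum_filter]
    at hcu hcu' hcv hcv'
  have hval : ∀ w x : G, IsConj w x → (χ : G → ℂ) x = (χ : G → ℂ) w := by
    intro w x hx
    obtain ⟨c, rfl⟩ := isConj_iff.1 hx
    rw [← he]; exact ρ.char_conj w c
  rw [he] at hcu' hcv'
  rw [Finset.sum_congr rfl (fun x hx => hval u x (Finset.mem_filter.1 hx).2), Finset.sum_const,
    nsmul_eq_mul] at hcu'
  rw [Finset.sum_congr rfl (fun x hx => hval v x (Finset.mem_filter.1 hx).2), Finset.sum_const,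
    nsmul_eq_mul] at hcv'
  have h1 : (χ : G → ℂ) 1 = (Module.finrank ℂ (Fin n → ℂ) : ℂ) := by rw [← he]; simp
  have h3 : cu * cv * (Module.finrank ℂ (Fin n → ℂ) : ℂ)
      = ((Finset.univ.filter (IsConj u)).card : ℂ) * ((Finset.univ.filter (IsConj v)).card : ℂ) * (χ : G → ℂ) (u * v) := by
    have h2 := congrArg₂ (· * ·) hcu hcv
    simp only [Finset.sum_mul, Finset.mul_sum, ← map_mul, smul_mul_smul_comm, one_mul] at h2
    have h2' := congrArg (LinearMap.trace ℂ (Fin n → ℂ)) h2
    simp only [map_sum, map_smul, LinearMap.trace_one, smul_eq_mul] at h2'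
    rw [← h2']
    rw [Finset.sum_congr rfl (g := fun _ => ∑ _x ∈ Finset.univ.filter (IsConj u), (χ : G → ℂ) (u * v))
      (fun y hy => Finset.sum_congr rfl fun x hx => ?_)]
    · simp only [Finset.sum_const, nsmul_eq_mul]
      ring
    · have := hc x y (Finset.mem_filter.1 hx).2 (Finset.mem_filter.1 hy).2
      rw [← this, ← he]; rfl
  have hne : (((Finset.univ.filter (IsConj u)).card : ℂ) * ((Finset.univ.filter (IsConj v)).card : ℂ)) ≠ 0 := by
    refine mul_ne_zero ?_ ?_ <;> refine Nat.cast_ne_zero.2 (Finset.card_ne_zero.2 ?_)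
    · exact ⟨u, by simp [IsConj.refl, -isConj_iff]⟩
    · exact ⟨v, by simp [IsConj.refl, -isConj_iff]⟩
  apply mul_left_cancel₀ hne
  rw [h1]
  linear_combination (Module.finrank ℂ (Fin n → ℂ) : ℂ) * h3
    - cv * (Module.finrank ℂ (Fin n → ℂ) : ℂ) * hcu'
    - ((Finset.univ.filter (IsConj u)).card : ℂ) * (χ : G → ℂ) u * hcv'

end Cfsg.Agent.S0943
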