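import Cfsg.Statements.S1181
import Cfsg.Agent.Lib.TwoFusion.Isolated
import Mathlib.GroupTheory.QuotientGroup.Basic

set_option autoImplicit false
open Cfsg

namespace Cfsg.Agent.S1181

/-- Let z be an isolated involution of the finite group G and N a normal subgroup with z ∉ N. Then the centralizer of zN in G/N is the image of C_G(z), and zN is an isolated involution of G/N. -/
theorem result {G : Type*} [Group G] [Finite G] (z : G) (hz : Cfsg.IsIsolatedInvolution z) (N : Subgroup G) [N.Normal] (hzN : z ∉ N) : Subgroup.centralizer ({(QuotientGroup.mk z : G ⧸ N)} : Set (G ⧸ N)) = (Subgroup.centralizer ({z} : Set G)).map (QuotientGroup.mk' N) ∧ Cfsg.IsIsolatedInvolution (QuotientGroup.mk z : G ⧸ N) := by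
  have hsq : (QuotientGroup.mk z : G ⧸ N) ^ 2 = 1 := by
    rw [← QuotientGroup.mk_pow, pow_two, CfsgLib.TwoFusion.Isolated.sq_eq hz]; rfl
  have hne1 : (QuotientGroup.mk z : G ⧸ N) ≠ 1 := fun h => hzN ((QuotientGroup.eq_one_iff z).mp h)
  refine ⟨le_antisymm ?_ ?_, orderOf_eq_prime hsq hne1, ?_⟩
  · intro q hq
    obtain ⟨g, rfl⟩ := QuotientGroup.mk'_surjective N q
    rw [Subgroup.mem_centralizer_singleton_iff] at hq
    have hn : g * z * g⁻¹ * z ∈ N := by
      rw [← QuotientGroup.eq_one_iff]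
      simp only [QuotientGroup.mk'_apply] at hq
      rw [QuotientGroup.mk_mul, QuotientGroup.mk_mul, QuotientGroup.mk_mul, QuotientGroup.mk_inv,
        hq, mul_inv_cancel_right, ← pow_two]
      exact hsq
    set k := CfsgLib.TwoFusion.oddSqrt (g * z * g⁻¹ * z) with hk
    have hkN : k ∈ N := CfsgLib.TwoFusion.oddSqrt_mem hn
    refine ⟨k⁻¹ * g, ?_, ?_⟩
    · rw [SetLike.mem_coe, Subgroup.mem_centralizer_singleton_iff, ← mul_inv_eq_iff_eq_mul]
      calc k⁻¹ * g * z * (k⁻¹ * g)⁻¹ = k⁻¹ * (g * z * g⁻¹) * k := by group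
        _ = z := by rw [← CfsgLib.TwoFusion.Isolated.sqrt_conj hz g, ← hk]; group
    · simp [(QuotientGroup.eq_one_iff k).mpr hkN]
  · rintro q ⟨c, hc, rfl⟩
    rw [SetLike.mem_coe, Subgroup.mem_centralizer_singleton_iff] at hc
    rw [Subgroup.mem_centralizer_singleton_iff]
    simp only [QuotientGroup.mk'_apply, ← QuotientGroup.mk_mul, hc]
  · intro q
    obtain ⟨g, rfl⟩ := QuotientGroup.mk_surjective q
    intro hc
    rw [← QuotientGroup.mk_inv, ← QuotientGroup.mk_mul, ← QuotientGroup.mk_mul] at hc ⊢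
    have hodd : Odd (orderOf (QuotientGroup.mk' N (g * z * g⁻¹ * z))) :=
      Odd.of_dvd_nat (CfsgLib.TwoFusion.Isolated.odd_orderOf_conj_mul hz g) (orderOf_map_dvd _ _)
    have hm : QuotientGroup.mk' N (g * z * g⁻¹ * z) ^ 2 = 1 := by
      rw [QuotientGroup.mk'_apply, QuotientGroup.mk_mul, hc.symm.mul_pow,
        ← QuotientGroup.mk_pow, hsq, mul_one, conj_pow, pow_two, CfsgLib.TwoFusion.Isolated.sq_eq hz]
      simp
    have h1 : QuotientGroup.mk' N (g * z * g⁻¹ * z) = 1 :=
      CfsgLib.TwoFusion.sq_injective_of_odd hodd (by simp) (by rw [← pow_two, hm, one_mul])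
    rw [QuotientGroup.mk'_apply, QuotientGroup.mk_mul, mul_eq_one_iff_eq_inv] at h1
    rw [h1, ← QuotientGroup.mk_inv, CfsgLib.TwoFusion.Isolated.inv_eq hz]

end Cfsg.Agent.S1181
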