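import Cfsg.Statements.S0631
import Cfsg.Agent.Lib.PLocal.Locals

set_option autoImplicit false
open Cfsg

namespace Cfsg.Agent.S0631

/-- In a p-constrained group the normalizer and the centralizer of any p-subgroup are again p-constrained. -/
theorem result {G : Type*} [Group G] [Finite G] {p : ℕ} [Fact p.Prime] (hG : Cfsg.IsPConstrained p G) (P : Subgroup G) (hP : IsPGroup p P) : Cfsg.IsPConstrained p ↥(Subgroup.normalizer (P : Set G)) ∧ Cfsg.IsPConstrained p ↥(Subgroup.centralizer (P : Set G)) := by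
  set π := QuotientGroup.mk' (Cfsg.pPrimeCore p G)
  have hcop : (Nat.card π.ker).Coprime p := by
    rw [QuotientGroup.ker_mk']; exact CfsgLib.PLoc.pPrimeCore_coprime p
  have hc := CfsgLib.PLoc.isPConstrained_iff.mp hG
  have hP' := hP.map π
  have key : ∀ L : Subgroup (G ⧸ Cfsg.pPrimeCore p G), L ≤ Subgroup.normalizer (P.map π : Set _) →
      Subgroup.centralizer (P.map π : Set _) ≤ L →
      (P.map π ≤ L ∨ L ≤ Subgroup.centralizer (P.map π : Set _)) → Cfsg.IsPConstrained p L :=
    fun L h1 h2 h3 => CfsgLib.PLoc.isPConstrained_of_trivial_core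
      (CfsgLib.PLoc.pPrimeCore_local_eq_bot hc hP' h1 h2 h3)
      (CfsgLib.PLoc.centralizer_pCore_local_le hc hP' h1 h2 h3)
  constructor
  · rw [CfsgLib.PLoc.isPConstrained_subgroup_iff hcop,
      ← CfsgLib.PLoc.normalizer_map_eq (QuotientGroup.mk'_surjective _) hcop hP]
    exact key _ le_rfl (Subgroup.centralizer_le_normalizer _) (Or.inl Subgroup.le_normalizer)
  · rw [CfsgLib.PLoc.isPConstrained_subgroup_iff hcop,
      ← CfsgLib.PLoc.centralizer_map_eq (QuotientGroup.mk'_surjective _) hcop hP]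
    exact key _ (Subgroup.centralizer_le_normalizer _) le_rfl (Or.inr le_rfl)

end Cfsg.Agent.S0631
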