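import Cfsg.Statements.S3246
import Cfsg.Agent.Lib.InvChar.LocalConstrained
import Cfsg.Agent.Lib.InvChar.Basic

set_option autoImplicit false
open Cfsg

namespace Cfsg.Agent.S3246

section

variable {G : Type*} [Group G] [Finite G]

/-- A fixed-point-free involution on an odd order subgroup inverts it. -/
theorem inverts {t : G} (ht : t * t = 1) (X : Subgroup G) (hn : ∀ x ∈ X, t * x * t ∈ X)
    (hfix : ∀ x ∈ X, t * x = x * t → x = 1) : ∀ x ∈ X, t * x * t = x⁻¹ := by
  classical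
  let f : ↥X → ↥X := fun x => ⟨(x : G)⁻¹ * (t * x * t), X.mul_mem (X.inv_mem x.2) (hn x x.2)⟩
  have hf : Function.Injective f := by
    intro x y h
    have h' : (x : G)⁻¹ * (t * x * t) = (y : G)⁻¹ * (t * y * t) := congrArg Subtype.val h
    have key := hfix ((y : G) * (x : G)⁻¹) (X.mul_mem y.2 (X.inv_mem x.2)) (by
      rw [eq_inv_mul_iff_mul_eq, ← mul_assoc] at h'
      have e : (y : G) * (x : G)⁻¹ = t * y * t * (t * x * t)⁻¹ := by
        rw [← h']; simp [mul_assoc]
      have ti : t⁻¹ = t := inv_eq_of_mul_eq_one_right ht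
      calc t * ((y : G) * (x : G)⁻¹) = t * (t * y * t * (t * x * t)⁻¹) := by rw [e]
        _ = (t * t) * y * ((t * t) * (x : G)⁻¹ * t) := by simp [mul_assoc, ti]
        _ = (y : G) * (x : G)⁻¹ * t := by rw [ht]; simp [mul_assoc])
    exact Subtype.ext (mul_inv_eq_one.mp key).symm
  intro w hw
  obtain ⟨x, hx⟩ := (Finite.injective_iff_surjective.mp hf) ⟨w, hw⟩
  have h' : (x : G)⁻¹ * (t * x * t) = w := congrArg Subtype.val hx
  have ti : t⁻¹ = t := inv_eq_of_mul_eq_one_right ht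
  rw [← h']
  calc t * ((x : G)⁻¹ * (t * x * t)) * t = t * (x : G)⁻¹ * t * x * (t * t) := by simp [mul_assoc]
    _ = ((x : G)⁻¹ * (t * x * t))⁻¹ := by rw [ht]; simp [mul_assoc, ti]

/-- In a constrained subgroup with trivial odd core, an odd subgroup normalised by a 2-subgroup of
index at most two in a Sylow 2-subgroup is trivial. -/
theorem odd_eq_bot {M Y R : Subgroup G} (S : Sylow 2 G) (hM : Cfsg.IsPConstrained 2 ↥M)
    (hO : Cfsg.oddCore ↥M = ⊥) (hYM : Y ≤ M) (hY : Odd (Nat.card ↥Y)) (hRM : R ≤ M)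
    (hR : IsPGroup 2 ↥R) (hRY : R ≤ Subgroup.normalizer (Y : Set G))
    (hcard : Nat.card ↥(S : Subgroup G) ≤ 2 * Nat.card ↥R) : Y = ⊥ := by
  classical
  let Q : Subgroup G := (Cfsg.pCore 2 ↥M).map M.subtype
  have hQM : Q ≤ M := Subgroup.map_subtype_le _
  have hQp : IsPGroup 2 ↥Q := (CfsgLib.Solvable.pCore_isPGroup 2 ↥M).map _
  have : (Cfsg.pCore 2 ↥M).Normal := CfsgLib.Solvable.pCore_normal 2 ↥M
  have hQn : M ≤ Subgroup.normalizer (Q : Set G) := by
    intro m hm
    rw [Subgroup.mem_normalizer_iff]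
    intro q
    constructor
    · rintro ⟨q', hq', rfl⟩
      exact ⟨⟨m, hm⟩ * q' * ⟨m, hm⟩⁻¹, Subgroup.Normal.conj_mem inferInstance _ hq' _, by simp⟩
    · rintro ⟨q', hq', e⟩
      refine ⟨⟨m, hm⟩⁻¹ * q' * ⟨m, hm⟩, Subgroup.Normal.conj_mem' inferInstance _ hq' _, ?_⟩
      change ((m⁻¹ * (q' : G) * m : G)) = q
      rw [show (q' : G) = m * q * m⁻¹ from e]; simp [mul_assoc]
  have hc : Subgroup.centralizer (Cfsg.pCore 2 ↥M : Set ↥M) ≤ Cfsg.pCore 2 ↥M :=
    (CfsgLib.PLoc.isPConstrained_iff_of_surjective (f := MonoidHom.id ↥M) Function.surjective_id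
      (by rw [MonoidHom.ker_id]; exact hO.symm)).mp hM
  set Q₀ := Q ⊓ R with hQ₀
  have hidx : Q₀.relIndex Q ≤ 2 := by
    have hJ : IsPGroup 2 ↥(R ⊔ Q) := hR.to_sup_of_normal_right' hQp (le_trans hRM hQn)
    obtain ⟨P, hP⟩ := hJ.exists_le_sylow
    have h1 : Nat.card ↥(R ⊔ Q) ≤ Nat.card ↥(S : Subgroup G) := by
      rw [Sylow.card_eq_multiplicity S, ← Sylow.card_eq_multiplicity P]
      exact Nat.le_of_dvd Nat.card_pos (Subgroup.card_dvd_of_le hP)
    have h2 : R.relIndex (R ⊔ Q) ≤ 2 := by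
      have h3 := Subgroup.relIndex_mul_relIndex ⊥ R (R ⊔ Q) bot_le le_sup_left
      rw [Subgroup.relIndex_bot_left, Subgroup.relIndex_bot_left] at h3
      have hpos : 0 < Nat.card ↥R := Nat.card_pos
      nlinarith
    calc Q₀.relIndex Q = R.relIndex Q := by rw [hQ₀, inf_comm, Subgroup.inf_relIndex_right]
      _ ≤ R.relIndex (R ⊔ Q) := Subgroup.relIndex_le_of_le_right le_sup_right
          Subgroup.index_ne_zero_of_finite
      _ ≤ 2 := h2
  have hdis : ∀ g, g ∈ Q → g ∈ Y → g = 1 := by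
    intro g hgQ hgY
    obtain ⟨k, hk⟩ := IsPGroup.iff_orderOf.mp hQp ⟨g, hgQ⟩
    rw [Subgroup.orderOf_mk] at hk
    have h1 : orderOf g ∣ Nat.card ↥Y := Subgroup.orderOf_dvd_natCard Y hgY
    rw [← orderOf_eq_one_iff]
    rcases Nat.eq_zero_or_pos k with rfl | hk0
    · simpa using hk
    · exfalso
      rw [hk] at h1
      exact (Nat.not_even_iff_odd.mpr hY) (even_iff_two_dvd.mpr ((dvd_pow_self 2 hk0.ne').trans h1))
  have hfix : ∀ y ∈ Y, ∀ q ∈ Q₀, y * q * y⁻¹ = q := by
    intro y hy q hq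
    obtain ⟨hqQ, hqR⟩ := Subgroup.mem_inf.mp hq
    have h1 : y * q * y⁻¹ * q⁻¹ ∈ Q :=
      Q.mul_mem ((Subgroup.mem_normalizer_iff.mp (hQn (hYM hy)) q).mp hqQ) (Q.inv_mem hqQ)
    have h2 : y * q * y⁻¹ * q⁻¹ ∈ Y := by
      have := Y.mul_mem hy ((Subgroup.mem_normalizer_iff.mp (hRY hqR) y⁻¹).mp (Y.inv_mem hy))
      simpa [mul_assoc] using this
    exact mul_inv_eq_one.mp (hdis _ h1 h2)
  have hcent : ∀ y ∈ Y, ∀ q ∈ Q, y * q * y⁻¹ = q := by
    intro y hy q hq
    by_cases hq0 : q ∈ Q₀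
    · exact hfix y hy q hq0
    have hi : (Q₀.subgroupOf Q).index = 2 := by
      have hne : Q₀.relIndex Q ≠ 1 := fun h => hq0 (Subgroup.relIndex_eq_one.mp h hq)
      have h0 : Q₀.relIndex Q ≠ 0 := Subgroup.index_ne_zero_of_finite
      show Q₀.relIndex Q = 2
      omega
    have hy' : y * q * y⁻¹ ∈ Q := (Subgroup.mem_normalizer_iff.mp (hQn (hYM hy)) q).mp hq
    have hy'' : y * q * y⁻¹ ∉ Q₀ := fun h => hq0 (by
      have := hfix y⁻¹ (Y.inv_mem hy) _ h
      have e : q = y * q * y⁻¹ := by simpa [mul_assoc] using this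
      exact e ▸ h)
    have hm := Subgroup.mul_mem_iff_of_index_two hi (a := (⟨_, hy'⟩ : ↥Q)) (b := ⟨q, hq⟩⁻¹)
    have hcmem : y * q * y⁻¹ * q⁻¹ ∈ Q₀ := by
      have h' : (y * q * y⁻¹ * q⁻¹ ∈ Q₀) ↔ (y * q * y⁻¹ ∈ Q₀ ↔ q⁻¹ ∈ Q₀) := by
        simpa [Subgroup.mem_subgroupOf] using hm
      exact h'.mpr (iff_of_false hy'' (fun h => hq0 (Q₀.inv_mem_iff.mp h)))
    set c := y * q * y⁻¹ * q⁻¹ with hc'
    have hpow : ∀ k : ℕ, y ^ k * q * (y ^ k)⁻¹ = c ^ k * q := by
      intro k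
      induction k with
      | zero => simp
      | succ k ih =>
        have hck : c ^ k ∈ Q₀ := Q₀.pow_mem hcmem k
        calc y ^ (k + 1) * q * (y ^ (k + 1))⁻¹ = y * (y ^ k * q * (y ^ k)⁻¹) * y⁻¹ := by
              rw [pow_succ']; simp [mul_assoc]
          _ = (y * c ^ k * y⁻¹) * (y * q * y⁻¹) := by rw [ih]; simp [mul_assoc]
          _ = c ^ k * (c * q) := by
              rw [hfix y hy _ hck]
              congr 1
              rw [hc']; simp [mul_assoc]
          _ = c ^ (k + 1) * q := by rw [pow_succ, mul_assoc (c ^ k)]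
    have hone : c ^ orderOf y = 1 := by
      have := hpow (orderOf y)
      rw [pow_orderOf_eq_one, one_mul, inv_one, mul_one] at this
      exact (right_eq_mul.mp this)
    obtain ⟨k, hk⟩ := IsPGroup.iff_orderOf.mp hQp ⟨c, hcmem.1⟩
    rw [Subgroup.orderOf_mk] at hk
    have hd : orderOf c ∣ orderOf y := orderOf_dvd_of_pow_eq_one hone
    have hodd : Odd (orderOf y) := hY.of_dvd_nat (Subgroup.orderOf_dvd_natCard Y hy)
    rcases Nat.eq_zero_or_pos k with rfl | hk0
    · rw [pow_zero, orderOf_eq_one_iff] at hk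
      exact mul_inv_eq_one.mp hk
    · rw [hk] at hd
      exact absurd (even_iff_two_dvd.mpr ((dvd_pow_self 2 hk0.ne').trans hd)) (Nat.not_even_iff_odd.mpr hodd)
  rw [eq_bot_iff]
  intro y hy
  have hyc : (⟨y, hYM hy⟩ : ↥M) ∈ Subgroup.centralizer (Cfsg.pCore 2 ↥M : Set ↥M) := fun q hq => by
    apply Subtype.ext
    exact (mul_inv_eq_iff_eq_mul.mp (hcent y hy (q : G) (Subgroup.mem_map_of_mem M.subtype hq))).symm
  exact Subgroup.mem_bot.mpr (hdis y (Subgroup.mem_map_of_mem M.subtype (hc hyc)) hy)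

end

/-- Let G be a finite group whose Sylow 2-subgroup S has a self-centralizing normal subgroup of rank at least 3. Suppose that either every maximal 2-local subgroup of G is 2-constrained with no nontrivial normal subgroup of odd order, or the centralizer of every involution of G is 2-constrained with no nontrivial normal subgroup of odd order. Then S normalizes no nontrivial subgroup of G of odd order and every 2-local subgroup of G is 2-constrained. -/
theorem result {G : Type*} [Group G] [Finite G]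
    (S : Sylow 2 G) (A : Subgroup G) (hA : Cfsg.IsSCN (S : Subgroup G) A) (hA3 : ¬ Cfsg.PRankLE 2 2 ↥A)
    (h : (∀ M : Subgroup G, Cfsg.IsMaximalTwoLocal M → Cfsg.IsPConstrained 2 ↥M ∧ Cfsg.oddCore ↥M = ⊥) ∨
      (∀ t : G, orderOf t = 2 → Cfsg.IsPConstrained 2 ↥(Subgroup.centralizer ({t} : Set G)) ∧
        Cfsg.oddCore ↥(Subgroup.centralizer ({t} : Set G)) = ⊥)) :
    (∀ X : Subgroup G, Odd (Nat.card ↥X) → (S : Subgroup G) ≤ Subgroup.normalizer (X : Set G) → X = ⊥) ∧
      (∀ T : Subgroup G, IsPGroup 2 ↥T → T ≠ ⊥ → Cfsg.IsPConstrained 2 ↥(Subgroup.normalizer (T : Set G))) := by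
  classical
  obtain ⟨hAS, hSA, hSC⟩ := hA
  have hstep : ∀ T : Subgroup G, IsPGroup 2 ↥T → T ≠ ⊥ →
      Cfsg.IsPConstrained 2 ↥(Subgroup.normalizer (T : Set G)) := by
    intro T hT hT1
    rcases h with h | h
    · obtain ⟨M, hle, hM, hmax⟩ := (Set.toFinite {M : Subgroup G | Cfsg.IsTwoLocal M}).exists_le_maximal
        (a := Subgroup.normalizer (T : Set G)) ⟨T, hT, hT1, rfl⟩
      exact CfsgLib.InvChar.isPConstrained_normalizer_of_le
        (h M ⟨hM, fun N hN hMN => le_antisymm (hmax hN hMN) hMN⟩).1 hT hle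
    · exact CfsgLib.InvChar.isPConstrained_normalizer_of_centralizer (fun x hx => (h x hx).1) hT hT1
  refine ⟨fun X hX hSX => ?_, hstep⟩
  have hM : ∀ t : G, orderOf t = 2 → ∃ M : Subgroup G, Subgroup.centralizer ({t} : Set G) ≤ M ∧
      Cfsg.IsPConstrained 2 ↥M ∧ Cfsg.oddCore ↥M = ⊥ := by
    intro t ht
    rcases h with h | h
    · have hp : IsPGroup 2 ↥(Subgroup.zpowers t) :=
        IsPGroup.of_card (n := 1) (by rw [Nat.card_zpowers, ht, pow_one])
      have hne : Subgroup.zpowers t ≠ ⊥ := by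
        rw [Ne, Subgroup.zpowers_eq_bot]; intro h1; rw [h1, orderOf_one] at ht; omega
      obtain ⟨M, hle, hMl, hmax⟩ := (Set.toFinite {M : Subgroup G | Cfsg.IsTwoLocal M}).exists_le_maximal
        (a := Subgroup.normalizer (Subgroup.zpowers t : Set G)) ⟨_, hp, hne, rfl⟩
      refine ⟨M, le_trans (fun g hg => Subgroup.centralizer_le_normalizer _ ?_) hle,
        h M ⟨hMl, fun N hN hMN => le_antisymm (hmax hN hMN) hMN⟩⟩
      intro s hs
      obtain ⟨k, rfl⟩ := Subgroup.mem_zpowers_iff.mp hs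
      exact ((show Commute t g from (Subgroup.mem_centralizer_singleton_iff.mp hg).symm).zpow_left k).eq
    · exact ⟨_, le_rfl, h t ht⟩
  -- `C_X(t) = 1` for involutions `t ∈ S` with centraliser of index at most two in `S`
  have hCX : ∀ t ∈ (S : Subgroup G), orderOf t = 2 →
      Nat.card ↥(S : Subgroup G) ≤ 2 * Nat.card ↥((S : Subgroup G) ⊓ Subgroup.centralizer ({t} : Set G)) →
      ∀ x ∈ X, t * x = x * t → x = 1 := by
    intro t htS ht hcard x hx hxt
    obtain ⟨M, hCM, hMc, hMO⟩ := hM t ht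
    have h' := odd_eq_bot (Y := X ⊓ Subgroup.centralizer ({t} : Set G))
      (R := (S : Subgroup G) ⊓ Subgroup.centralizer ({t} : Set G)) S hMc hMO (le_trans inf_le_right hCM)
      (hX.of_dvd_nat (Subgroup.card_dvd_of_le inf_le_left)) (le_trans inf_le_right hCM)
      (S.isPGroup'.to_le inf_le_left) ?_ hcard
    · exact Subgroup.mem_bot.mp (h' ▸ Subgroup.mem_inf.mpr ⟨hx, Subgroup.mem_centralizer_singleton_iff.mpr hxt.symm⟩)
    · intro s hs
      obtain ⟨hsS, hsC⟩ := Subgroup.mem_inf.mp hs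
      rw [Subgroup.mem_normalizer_iff]
      intro y
      refine and_congr (Subgroup.mem_normalizer_iff.mp (hSX hsS) y) ?_
      exact (Subgroup.mem_normalizer_iff.mp (Subgroup.le_normalizer hsC) y)
  -- a four subgroup `⟨z, e⟩`
  obtain ⟨z, e, hz, he, hzS, heS, hez, hzc, hec⟩ : ∃ z e : G, orderOf z = 2 ∧ orderOf e = 2 ∧
      z ∈ (S : Subgroup G) ∧ e ∈ (S : Subgroup G) ∧ e ≠ z ∧ (∀ s ∈ (S : Subgroup G), s * z = z * s) ∧
      (∀ s ∈ (S : Subgroup G), s * e * s⁻¹ = e ∨ s * e * s⁻¹ = e * z) := by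
    have hAcomm : ∀ a ∈ A, ∀ b ∈ A, a * b = b * a := fun a ha b hb => by
      rw [← hSC] at hb
      exact hb.2 a ha
    let V : Subgroup ↥(S : Subgroup G) :=
      { carrier := {v | (v : G) ∈ A ∧ (v : G) * v = 1}
        one_mem' := ⟨A.one_mem, mul_one _⟩
        mul_mem' := fun {a b} ha hb => ⟨A.mul_mem ha.1 hb.1, by
          rw [Subgroup.coe_mul, (show Commute (b : G) a from hAcomm b hb.1 a ha.1).mul_mul_mul_comm,
            ha.2, hb.2, mul_one]⟩
        inv_mem' := fun {a} ha => ⟨A.inv_mem ha.1, by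
          rw [Subgroup.coe_inv, ← mul_inv_rev, ha.2, inv_one]⟩ }
    have hVn : V.Normal := ⟨fun v hv s => ⟨(Subgroup.mem_normalizer_iff.mp (hSA s.2) _).mp hv.1, by
      simp only [Subgroup.coe_mul, Subgroup.coe_inv]
      rw [conj_mul, hv.2, mul_one, mul_inv_cancel]⟩⟩
    obtain ⟨E, hE, hEp, hEcard⟩ : ∃ E : Subgroup ↥A, IsMulCommutative ↥E ∧ (∀ a ∈ E, a ^ 2 = 1) ∧
        4 < Nat.card ↥E := by
      simpa [Cfsg.PRankLE] using hA3
    have hVcard : 4 < Nat.card ↥V := by
      refine lt_of_lt_of_le hEcard (Nat.card_le_card_of_injective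
        (fun a : ↥E => (⟨⟨((a : ↥A) : G), hAS (a : ↥A).2⟩, (a : ↥A).2, by
          have := congrArg (Subtype.val) (hEp a a.2)
          simpa [pow_two] using this⟩ : ↥V)) ?_)
      intro a b hab
      have := congrArg (fun v : ↥V => ((v : ↥(S : Subgroup G)) : G)) hab
      exact Subtype.ext (Subtype.ext this)
    have hSp : IsPGroup 2 ↥(S : Subgroup G) := S.isPGroup'
    obtain ⟨z, hzV, hz1, hzC⟩ := CfsgLib.InvChar.exists_ne_one_mem_center_of_normal hSp V
      (fun h => by rw [h, Subgroup.card_bot] at hVcard; omega)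
    let Z := Subgroup.zpowers z
    have hZn : Z.Normal := ⟨fun n hn g => by
      obtain ⟨k, rfl⟩ := Subgroup.mem_zpowers_iff.mp hn
      rw [Subgroup.mem_center_iff.mp (zpow_mem hzC k) g, mul_inv_cancel_right]
      exact Subgroup.zpow_mem_zpowers z k⟩
    have hz2 : orderOf z = 2 := orderOf_eq_prime (Subtype.ext (by simpa [pow_two] using hzV.2)) hz1
    let π := QuotientGroup.mk' Z
    obtain ⟨w, hwV, hw1, hwC⟩ := CfsgLib.InvChar.exists_ne_one_mem_center_of_normal
      (hSp.to_quotient Z) (V.map π) (fun h => by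
        rw [Subgroup.map_eq_bot_iff, QuotientGroup.ker_mk'] at h
        have := Nat.le_of_dvd Nat.card_pos (Subgroup.card_dvd_of_le h)
        rw [Nat.card_zpowers, hz2] at this
        omega)
    obtain ⟨e, heV, rfl⟩ := Subgroup.mem_map.mp hwV
    have hene : e ∉ Z := fun h => hw1 ((QuotientGroup.eq_one_iff e).mpr h)
    have he1 : e ≠ 1 := fun h => hene (h ▸ Z.one_mem)
    refine ⟨z, e, by rw [Subgroup.orderOf_coe, hz2], by
      rw [Subgroup.orderOf_coe]; exact orderOf_eq_prime (Subtype.ext (by simpa [pow_two] using heV.2)) he1,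
      z.2, e.2, fun h => hene (by rw [Subtype.ext h]; exact Subgroup.mem_zpowers z),
      fun s hs => congrArg Subtype.val (Subgroup.mem_center_iff.mp hzC ⟨s, hs⟩), fun s hs => ?_⟩
    have h1 := Subgroup.mem_center_iff.mp hwC (π ⟨s, hs⟩)
    have h2 : e⁻¹ * (⟨s, hs⟩ * e * ⟨s, hs⟩⁻¹) ∈ Z := by
      refine (QuotientGroup.eq (s := Z)).mp ?_
      show π e = π (⟨s, hs⟩ * e * ⟨s, hs⟩⁻¹)
      rw [map_mul, map_mul, map_inv, h1, mul_inv_cancel_right]
    obtain ⟨k, hk⟩ := Subgroup.mem_zpowers_iff.mp h2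
    have hzz : z * z = 1 := by
      have h := pow_orderOf_eq_one z
      rwa [hz2, pow_two] at h
    rcases Int.even_or_odd k with ⟨i, rfl⟩ | ⟨i, rfl⟩
    · left
      rw [zpow_add, ← (Commute.refl z).mul_zpow, hzz, one_zpow, eq_comm, inv_mul_eq_one] at hk
      exact (congrArg Subtype.val hk).symm
    · right
      rw [zpow_add, zpow_mul, zpow_two, hzz, one_zpow, one_mul, zpow_one, eq_inv_mul_iff_mul_eq] at hk
      exact (congrArg Subtype.val hk).symm
  have hzz : z * z = 1 := by rw [← pow_two, ← hz]; exact pow_orderOf_eq_one z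
  have hee : e * e = 1 := by rw [← pow_two, ← he]; exact pow_orderOf_eq_one e
  have hze : Commute e z := hzc e heS
  have key : ∀ t ∈ (S : Subgroup G), t * t = 1 → t ≠ 1 →
      (∀ s ∈ (S : Subgroup G), s * t * s⁻¹ = t ∨ s * t * s⁻¹ = t * z) →
      ∀ x ∈ X, t * x = x * t → x = 1 := by
    intro t htS htt ht1 hts
    refine hCX t htS (orderOf_eq_prime (by rw [pow_two, htt]) ht1) ?_
    set R := (S : Subgroup G) ⊓ Subgroup.centralizer ({t} : Set G) with hR
    have hmemR : ∀ s ∈ (S : Subgroup G), s ∈ R ↔ s * t * s⁻¹ = t := fun s hs => by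
      rw [hR, Subgroup.mem_inf, Subgroup.mem_centralizer_singleton_iff, mul_inv_eq_iff_eq_mul]
      exact and_iff_right hs
    have hidx : R.relIndex (S : Subgroup G) ≤ 2 := by
      by_cases hall : ∀ s ∈ (S : Subgroup G), s ∈ R
      · rw [Subgroup.relIndex_eq_one.mpr hall]; omega
      push Not at hall
      obtain ⟨a, ha, haR⟩ := hall
      refine le_of_eq (Subgroup.index_eq_two_iff.mpr ⟨⟨a, ha⟩, fun b => ?_⟩)
      have hat := (hts a ha).resolve_left (fun h => haR ((hmemR a ha).mpr h))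
      rw [Subgroup.mem_subgroupOf, Subgroup.mem_subgroupOf, Subgroup.coe_mul, hmemR _ (mul_mem b.2 ha),
        hmemR _ b.2]
      have e1 : (b : G) * a * t * ((b : G) * a)⁻¹ = ((b : G) * t * (b : G)⁻¹) * z := by
        calc (b : G) * a * t * ((b : G) * a)⁻¹ = (b : G) * (a * t * a⁻¹) * (b : G)⁻¹ := by simp [mul_assoc]
          _ = (b : G) * t * (z * (b : G)⁻¹) := by rw [hat]; simp [mul_assoc]
          _ = (b : G) * t * ((b : G)⁻¹ * z) := by rw [hzc _ (inv_mem b.2)]
          _ = _ := by rw [← mul_assoc]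
      rw [e1]
      have hz1 : z ≠ 1 := fun h => by rw [h, orderOf_one] at hz; omega
      rcases hts _ b.2 with hb | hb
      · refine Or.inr ⟨hb, ?_⟩
        rw [hb]
        exact fun h => hz1 (mul_eq_left.mp h)
      · refine Or.inl ⟨?_, ?_⟩
        · rw [hb, mul_assoc, hzz, mul_one]
        · rw [hb]
          exact fun h => hz1 (mul_eq_left.mp h)
    have h3 := Subgroup.relIndex_mul_relIndex ⊥ R (S : Subgroup G) bot_le inf_le_left
    rw [Subgroup.relIndex_bot_left, Subgroup.relIndex_bot_left] at h3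
    nlinarith
  have hz1 : z ≠ 1 := fun h => by rw [h, orderOf_one] at hz; omega
  have he1 : e ≠ 1 := fun h => by rw [h, orderOf_one] at he; omega
  have hezS : e * z ∈ (S : Subgroup G) := mul_mem heS hzS
  have hez2 : (e * z) * (e * z) = 1 := by rw [hze.symm.mul_mul_mul_comm, hee, hzz, mul_one]
  have hez1 : e * z ≠ 1 := fun h => hez (by rw [mul_eq_one_iff_eq_inv] at h; rw [h, inv_eq_of_mul_eq_one_right hzz])
  have fz := key z hzS hzz hz1 (fun s hs => Or.inl (by rw [hzc s hs, mul_inv_cancel_right]))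
  have fe := key e heS hee he1 hec
  have fez := key (e * z) hezS hez2 hez1 (fun s hs => by
    have h1 : s * (e * z) * s⁻¹ = (s * e * s⁻¹) * z := by
      calc s * (e * z) * s⁻¹ = s * e * (z * s⁻¹) := by simp [mul_assoc]
        _ = s * e * (s⁻¹ * z) := by rw [hzc _ (inv_mem hs)]
        _ = _ := by rw [← mul_assoc]
    rcases hec s hs with h' | h'
    · exact Or.inl (by rw [h1, h'])
    · exact Or.inr (by rw [h1, h']))
  have hn : ∀ t ∈ (S : Subgroup G), t * t = 1 → ∀ x ∈ X, t * x * t ∈ X := fun t ht htt x hx => by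
    have h' := (Subgroup.mem_normalizer_iff.mp (hSX ht) x).mp hx
    rwa [inv_eq_of_mul_eq_one_right htt] at h'
  have iz := inverts hzz X (hn z hzS hzz) fz
  have ie := inverts hee X (hn e heS hee) fe
  rw [eq_bot_iff]
  intro x hx
  refine Subgroup.mem_bot.mpr (fez x hx ?_)
  have h1 := iz x hx
  have h2 := ie x⁻¹ (X.inv_mem hx)
  rw [inv_inv] at h2
  calc e * z * x = e * (z * x * z) * z := by
        rw [show e * (z * x * z) * z = e * z * x * (z * z) by simp [mul_assoc], hzz, mul_one]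
    _ = e * x⁻¹ * (z * 1) := by rw [h1, mul_one]
    _ = e * x⁻¹ * (e * e * z) := by rw [hee, mul_one, one_mul]
    _ = (e * x⁻¹ * e) * (e * z) := by simp [mul_assoc]
    _ = x * (e * z) := by rw [h2]

end Cfsg.Agent.S3246
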