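import Cfsg.Statements.S3209
import Cfsg.Agent.Lib.InvChar.SL2Pair

set_option autoImplicit false
open Cfsg

namespace Cfsg.Agent.S3209

open CfsgLib.InvChar

theorem result {G : Type*} [Group G] [Finite G]
    {F₁ : Type*} [Field F₁] [Fintype F₁] {F₂ : Type*} [Field F₂] [Fintype F₂]
    (hF₁ : Odd (Fintype.card F₁)) (hF₂ : Odd (Fintype.card F₂)) (L₁ L₂ : Subgroup G)
    (e₁ : ↥L₁ ≃* Matrix.SpecialLinearGroup (Fin 2) F₁) (e₂ : ↥L₂ ≃* Matrix.SpecialLinearGroup (Fin 2) F₂)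
    (hc : ∀ x ∈ L₁, ∀ y ∈ L₂, x * y = y * x) (j : G) (hj : orderOf j = 2) (hm : L₁ ⊓ L₂ = Subgroup.zpowers j) :
    ∃ x ∈ L₁ ⊔ L₂, orderOf x = 2 ∧ x ≠ j ∧
      ∀ y ∈ L₁ ⊔ L₂, orderOf y = 2 → y = j ∨ ∃ g ∈ L₁ ⊔ L₂, g * x * g⁻¹ = y := by
  have h1 : (2 : F₁) ≠ 0 := SL2Iso.two_ne_zero' hF₁
  have h2 : (2 : F₂) ≠ 0 := SL2Iso.two_ne_zero' hF₂
  have hjm : j ∈ L₁ ⊓ L₂ := hm ▸ Subgroup.mem_zpowers j
  obtain ⟨hj1, hj2⟩ := Subgroup.mem_inf.mp hjm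
  have hjj : j * j = 1 := mul_self_eq_one_of_orderOf_two hj
  obtain ⟨a, ha, haa⟩ := sl2iso_exists_sq_j h1 e₁ hj hj1
  obtain ⟨b, hb, hbb⟩ := sl2iso_exists_sq_j h2 e₂ hj hj2
  have hab : Commute a b := hc a ha b hb
  have hinter : ∀ x ∈ L₁, x ∈ L₂ → x = 1 ∨ x = j := fun x hx hx' =>
    eq_one_or_of_mem_zpowers hj (hm ▸ Subgroup.mem_inf.mpr ⟨hx, hx'⟩)
  have hx1 : a * b ≠ 1 ∧ a * b ≠ j := by
    constructor <;> intro h
    · have : a ∈ L₂ := by rw [eq_inv_of_mul_eq_one_left h]; exact L₂.inv_mem hb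
      rcases hinter a ha this with rfl | rfl
      · rw [one_mul] at haa; rw [← haa, orderOf_one] at hj; omega
      · rw [hjj] at haa; rw [← haa, orderOf_one] at hj; omega
    · have : a ∈ L₂ := by rw [eq_mul_inv_of_mul_eq h]; exact L₂.mul_mem hj2 (L₂.inv_mem hb)
      rcases hinter a ha this with rfl | rfl
      · rw [one_mul] at haa; rw [← haa, orderOf_one] at hj; omega
      · rw [hjj] at haa; rw [← haa, orderOf_one] at hj; omega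
  refine ⟨a * b, Subgroup.mul_mem_sup ha hb, orderOf_eq_prime ?_ hx1.1, hx1.2, fun y hy hy2 => ?_⟩
  · rw [hab.mul_pow, pow_two, pow_two, haa, hbb, hjj]
  obtain ⟨p, hp, q, hq, rfl⟩ := (mem_sup_of_commute hc).mp hy
  have hpq : Commute p q := hc p hp q hq
  have hsq : (p * p) * (q * q) = 1 := by
    rw [← hpq.symm.mul_mul_mul_comm]; exact mul_self_eq_one_of_orderOf_two hy2
  rcases hinter (p * p) (L₁.mul_mem hp hp)
      (by rw [eq_inv_of_mul_eq_one_left hsq]; exact L₂.inv_mem (L₂.mul_mem hq hq)) with hpp | hpp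
  · left
    rw [hpp, one_mul] at hsq
    rcases sl2iso_sq_one h1 e₁ hj hj1 hp hpp with rfl | rfl <;>
      rcases sl2iso_sq_one h2 e₂ hj hj2 hq hsq with rfl | rfl
    · rw [one_mul, orderOf_one] at hy2; omega
    · rw [one_mul]
    · rw [mul_one]
    · rw [hjj, orderOf_one] at hy2; omega
  · right
    have hqq : q * q = j := by
      rw [hpp] at hsq
      exact mul_left_cancel (hsq.trans hjj.symm)
    obtain ⟨g₁, hg₁, e⟩ := sl2iso_sq_j_conj h1 e₁ hj hj1 ha hp haa hpp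
    obtain ⟨g₂, hg₂, e'⟩ := sl2iso_sq_j_conj h2 e₂ hj hj2 hb hq hbb hqq
    refine ⟨g₁ * g₂, Subgroup.mul_mem_sup hg₁ hg₂, ?_⟩
    have c1 : g₂ * a * g₂⁻¹ = a := by rw [(hc a ha g₂ hg₂).symm, mul_inv_cancel_right]
    have c2 : g₁ * (g₂ * b * g₂⁻¹) * g₁⁻¹ = g₂ * b * g₂⁻¹ := by
      rw [hc g₁ hg₁ _ (L₂.mul_mem (L₂.mul_mem hg₂ hb) (L₂.inv_mem hg₂)), mul_inv_cancel_right]
    calc g₁ * g₂ * (a * b) * (g₁ * g₂)⁻¹
        = (g₁ * (g₂ * a * g₂⁻¹) * g₁⁻¹) * (g₁ * (g₂ * b * g₂⁻¹) * g₁⁻¹) := by simp [mul_assoc]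
      _ = p * q := by rw [c1, c2, e, e']

end Cfsg.Agent.S3209
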