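import Cfsg.Statements.S0130
import Cfsg.Agent.Lib.PGroup.PowerMap

set_option autoImplicit false
open Cfsg
open scoped commutatorElement

namespace Cfsg.Agent.S0130

/-- If A is maximal among the normal abelian subgroups of exponent dividing p^n of a p-group (p^n ≠ 2), then A contains every element of order dividing p^n in its centralizer. -/
theorem result {G : Type*} [Group G] [Finite G] {p : ℕ} [Fact p.Prime] (hG : IsPGroup p G) (n : ℕ) (hn : p ^ n ≠ 2) (A : Subgroup G) [A.Normal] (hA : IsMulCommutative A) (hAe : ∀ a ∈ A, a ^ p ^ n = 1) (hmax : ∀ B : Subgroup G, B.Normal → IsMulCommutative B → (∀ b ∈ B, b ^ p ^ n = 1) → A ≤ B → B = A) (x : G) (hx : x ∈ Subgroup.centralizer (A : Set G)) (hxn : x ^ p ^ n = 1) : x ∈ A := by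
  have hpp : p.Prime := Fact.out
  suffices hsuff : ∀ L : Subgroup G, L.Normal → L ≤ Subgroup.centralizer (A : Set G) →
      ∀ x ∈ L, x ^ p ^ n = 1 → x ∈ A by
    exact hsuff _ inferInstance le_rfl x hx hxn
  intro L
  induction L using (wellFounded_lt (α := Subgroup G)).induction with
  | h L ih =>
    intro hLn hLC x hx hxn
    by_cases hLb : L = ⊥
    · subst hLb
      rw [Subgroup.mem_bot] at hx
      rw [hx]; exact one_mem _
    have hL' : ⁅L, (⊤ : Subgroup G)⁆ < L := by
      refine lt_of_le_of_ne (Subgroup.commutator_le_left _ _) fun he => hLb ?_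
      have hk : ∀ k, L ≤ (⊤ : Subgroup G).lowerCentralSeries k := by
        intro k
        induction k with
        | zero => simp
        | succ k ihk =>
          rw [Subgroup.lowerCentralSeries_succ]
          exact he ▸ Subgroup.commutator_mono ihk le_rfl
      obtain ⟨k, hk'⟩ := Subgroup.nilpotent_iff_lowerCentralSeries.1 hG.isNilpotent
      exact le_bot_iff.1 (hk' ▸ hk k)
    have hmemA : ∀ u ∈ ⁅L, (⊤ : Subgroup G)⁆, u ^ p ^ n = 1 → u ∈ A :=
      ih _ hL' inferInstance (hL'.le.trans hLC)
    have hcommA : ∀ u ∈ L, ∀ c ∈ A, Commute u c := fun u hu c hc =>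
      (Subgroup.mem_centralizer_iff.1 (hLC hu) c hc).symm
    -- the main argument, for a property of elements
    have main : ∀ Pr : G → Prop, (∀ u, Pr u → Pr u⁻¹) → (∀ u g, Pr u → Pr (g * u * g⁻¹)) →
        (∀ u, Pr u → u ^ p ^ n = 1) →
        (∀ u ∈ L, ∀ w ∈ L, Pr u → Pr w → ⁅w, u⁆ ∈ A → ⁅w, u⁆ ^ (p ^ n).choose 2 = 1) →
        ∀ z ∈ L, Pr z → z ∈ A := by
      intro Pr hinv hconj hpn hch
      have key : ∀ H : Subgroup G, ∀ u ∈ L, ∀ w ∈ L, Pr u → Pr w →
          Subgroup.closure {u, w} = H → (u * w) ^ p ^ n = 1 := by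
        intro H
        induction H using (wellFounded_lt (α := Subgroup G)).induction with
        | h H ihH =>
          intro u hu w hw hPu hPw hH
          set b := u * w⁻¹ * u⁻¹ with hb
          have hwb : ⁅w, u⁆ = w * b := by rw [hb, commutatorElement_def]; group
          have hbL : b ∈ L := mul_mem (mul_mem hu (inv_mem hw)) (inv_mem hu)
          have hle : Subgroup.closure {w, b} ≤ H := by
            rw [← hH, Subgroup.closure_le]
            have h1 : u ∈ Subgroup.closure ({u, w} : Set G) := Subgroup.subset_closure (by simp)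
            have h2 : w ∈ Subgroup.closure ({u, w} : Set G) := Subgroup.subset_closure (by simp)
            rintro z (rfl | rfl)
            · exact h2
            · exact mul_mem (mul_mem h1 (inv_mem h2)) (inv_mem h1)
          have hcA : ⁅w, u⁆ ∈ A := by
            rcases hle.lt_or_eq with hlt | heq
            · exact hmemA _ (Subgroup.commutator_mem_commutator hw (Subgroup.mem_top u))
                (hwb ▸ ihH _ hlt w hw b hbL hPw (hconj _ u (hinv _ hPw)) rfl)
            · -- in this case `w` generates `H`
              have hwH : w ∈ H := heq ▸ Subgroup.subset_closure (by simp)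
              have huH : u ∈ H := hH ▸ Subgroup.subset_closure (by simp)
              have htop : Subgroup.zpowers (⟨w, hwH⟩ : H) = ⊤ := by
                by_contra hne
                obtain ⟨M, hM, hwM⟩ := (eq_top_or_exists_le_coatom _).resolve_left hne
                have hMn := Subgroup.NormalizerCondition.normal_of_coatom M
                  (@Group.normalizerCondition_of_isNilpotent _ _ (hG.to_subgroup H).isNilpotent) hM
                have hwM' : (⟨w, hwH⟩ : H) ∈ M := hwM (Subgroup.mem_zpowers _)
                apply hM.1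
                rw [eq_top_iff]
                intro z _
                have hz : (z : G) ∈ M.map H.subtype := by
                  have hsub : Subgroup.closure {w, b} ≤ M.map H.subtype := by
                    rw [Subgroup.closure_le]
                    rintro z (rfl | rfl)
                    · exact ⟨_, hwM', rfl⟩
                    · exact ⟨(⟨u, huH⟩ : H) * (⟨w, hwH⟩ : H)⁻¹ * (⟨u, huH⟩ : H)⁻¹,
                        hMn.conj_mem _ (inv_mem hwM') _, rfl⟩
                  exact hsub (heq.symm ▸ z.2)
                obtain ⟨z', hz', hzz⟩ := hz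
                rwa [← Subtype.ext hzz]
              obtain ⟨k, hk⟩ := Subgroup.mem_zpowers_iff.1
                (htop ▸ Subgroup.mem_top (⟨u, huH⟩ : H))
              have hk' : w ^ k = u := by simpa using congrArg Subtype.val hk
              rw [← hk', commutatorElement_eq_one_iff_mul_comm.2 (Commute.self_zpow w k).eq]
              exact one_mem _
          have hx1 := (hcommA u hu _ hcA).eq
          have hy1 := (hcommA w hw _ hcA).eq
          rw [CfsgLib.PGroup.mul_pow_collect u w 1 1 (one_mem _) (one_mem _) (by rw [hx1, one_mul])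
            (by rw [hy1, one_mul]) (p ^ n), hch u hu w hw hPu hPw hcA, hpn u hPu, hpn w hPw]
          simp
      intro z hz hPz
      have hcA : ∀ g : G, ⁅z, g⁆ ∈ A := by
        intro g
        refine hmemA _ (Subgroup.commutator_mem_commutator hz (Subgroup.mem_top g)) ?_
        have he : ⁅z, g⁆ = z * (g * z⁻¹ * g⁻¹) := by rw [commutatorElement_def]; group
        rw [he]
        exact key _ z hz _ (hLn.conj_mem _ (inv_mem hz) g) hPz (hconj _ g (hinv _ hPz)) rfl
      have hBn := CfsgLib.PGroup.sup_zpowers_normal hcA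
      have hzA : Subgroup.zpowers z ≤ Subgroup.centralizer (A : Set G) :=
        Subgroup.zpowers_le.2 (hLC hz)
      have hBcomm : IsMulCommutative (A ⊔ Subgroup.zpowers z : Subgroup G) := by
        rw [← Subgroup.le_centralizer_iff_isMulCommutative]
        refine sup_le ?_ ?_
        · rw [Subgroup.le_centralizer_iff]
          exact sup_le (Subgroup.le_centralizer A) hzA
        · rw [Subgroup.le_centralizer_iff]
          refine sup_le ?_ (Subgroup.le_centralizer _)
          rw [Subgroup.le_centralizer_iff]
          exact hzA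
      have hBexp : ∀ b ∈ A ⊔ Subgroup.zpowers z, b ^ p ^ n = 1 := by
        intro b hb
        obtain ⟨a, ha, w, hw, rfl⟩ := Subgroup.mem_sup_of_normal_left.1 hb
        obtain ⟨k, rfl⟩ := Subgroup.mem_zpowers_iff.1 hw
        have hcm : Commute a (z ^ k) := ((hcommA z hz a ha).symm).zpow_right k
        rw [hcm.mul_pow, hAe a ha, ← zpow_natCast, ← zpow_mul, mul_comm, zpow_mul, zpow_natCast,
          hpn z hPz, one_zpow, one_mul]
      exact (hmax _ hBn hBcomm hBexp le_sup_left) ▸
        Subgroup.mem_sup_right (Subgroup.mem_zpowers z)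
    have hcpow : ∀ u ∈ L, ∀ w ∈ L, ⁅w, u⁆ ∈ A → ∀ m : ℕ, ⁅w, u⁆ ^ m = ⁅w ^ m, u⁆ :=
      fun u _ w hw hc m => (CfsgLib.PGroup.commutator_pow_left w u (hcommA w hw _ hc) m).symm
    rcases Nat.eq_zero_or_pos n with hn0 | hn0
    · subst hn0
      rw [pow_zero, pow_one] at hxn
      rw [hxn]; exact one_mem _
    by_cases hp2 : p = 2
    · subst hp2
      have hn2 : 2 ≤ n := by
        rcases Nat.lt_or_ge n 2 with h | h
        · exfalso; apply hn; interval_cases n; rfl
        · exact h
      have hsplit : 2 ^ n = 2 ^ (n - 1) * 2 := by rw [← pow_succ]; congr 1; omega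
      have hch : 2 ^ (n - 1) ∣ (2 ^ n).choose 2 := by
        rw [Nat.choose_two_right, hsplit, mul_comm (2 ^ (n - 1)) 2, mul_assoc,
          Nat.mul_div_cancel_left _ two_pos]
        exact dvd_mul_right _ _
      -- elements of order dividing `2^(n-1)`
      have h1 : ∀ z ∈ L, z ^ 2 ^ (n - 1) = 1 → z ∈ A := by
        refine main (fun u => u ^ 2 ^ (n - 1) = 1) (fun u hu => by simp [hu])
          (fun u g hu => by simp [conj_pow, hu]) (fun u hu => by simp [hsplit, pow_mul, hu])
          (fun u hu w hw _ hw1 hc => ?_)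
        obtain ⟨k, hk⟩ := hch
        rw [hk, pow_mul, hcpow u hu w hw hc, hw1, commutatorElement_one_left, one_pow]
      refine main (fun u => u ^ 2 ^ n = 1 ∧ u ^ 2 ∈ A) ?_ ?_ (fun u hu => hu.1) ?_ x hx
        ⟨hxn, h1 _ (pow_mem hx 2) (by rw [← pow_mul, mul_comm, ← hsplit, hxn])⟩
      · intro u hu; exact ⟨by simp [hu.1], by simpa using inv_mem hu.2⟩
      · intro u g hu
        exact ⟨by simp [conj_pow, hu.1], by rw [conj_pow]; exact ‹A.Normal›.conj_mem _ hu.2 g⟩
      · intro u hu w hw _ hw1 hc
        have h2 : ⁅w, u⁆ ^ 2 = 1 := by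
          rw [hcpow u hu w hw hc, commutatorElement_eq_one_iff_mul_comm]
          exact (hcommA u hu _ hw1.2).symm.eq
        obtain ⟨k, hk⟩ : 2 ∣ (2 ^ n).choose 2 := (dvd_pow_self 2 (by omega)).trans hch
        rw [hk, pow_mul, h2, one_pow]
    · refine main (fun u => u ^ p ^ n = 1) (fun u hu => by simp [hu])
        (fun u g hu => by simp [conj_pow, hu]) (fun u hu => hu) (fun u hu w hw _ hw1 hc => ?_)
        x hx hxn
      have hodd : ¬ 2 ∣ p ^ n := fun h => hp2
        ((Nat.prime_dvd_prime_iff_eq Nat.prime_two hpp).1 (Nat.prime_two.dvd_of_dvd_pow h)).symm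
      obtain ⟨k, hk⟩ : p ^ n ∣ (p ^ n).choose 2 := by
        rw [Nat.choose_two_right, Nat.mul_div_assoc _ (by omega)]
        exact dvd_mul_right _ _
      rw [hk, pow_mul, hcpow u hu w hw hc, hw1, commutatorElement_one_left, one_pow]

end Cfsg.Agent.S0130
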