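import Cfsg.Statements.S0126
import Cfsg.Agent.Lib.PGroup.CyclicMaximal
import Cfsg.Agent.S0130

set_option autoImplicit false
open Cfsg

namespace Cfsg.Agent.S0126

/-- For odd p, every non-cyclic p-group contains a normal elementary abelian subgroup of order p^2. -/
theorem result {R : Type*} [Group R] [Finite R] {p : ℕ} [Fact p.Prime] (hp : p ≠ 2) (hR : IsPGroup p R) (hnc : ¬ IsCyclic R) : ∃ A : Subgroup R, A.Normal ∧ Cfsg.IsElementaryAbelian p A ∧ Nat.card A = p ^ 2 := by
  have hpp : p.Prime := Fact.out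
  let P : Subgroup R → Prop := fun A => A.Normal ∧ IsMulCommutative A ∧ ∀ a ∈ A, a ^ p = 1
  have hPbot : P ⊥ := ⟨inferInstance, inferInstance, fun a ha => by
    rw [Subgroup.mem_bot] at ha; rw [ha, one_pow]⟩
  obtain ⟨A, ⟨hAn, hAc, hAe⟩, hmax⟩ := (Set.toFinite {A | P A}).exists_maximal ⟨⊥, hPbot⟩
  obtain ⟨a, ha⟩ := IsPGroup.iff_card.1 (hR.to_subgroup A)
  rcases Nat.lt_or_ge a 2 with ha2 | ha2
  · exfalso
    apply hnc
    have hex : ∀ B : Subgroup R, B.Normal → IsMulCommutative B → (∀ b ∈ B, b ^ p ^ 1 = 1) →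
        A ≤ B → B = A := fun B h1 h2 h3 h4 =>
      le_antisymm (hmax ⟨h1, h2, fun b hb => by simpa using h3 b hb⟩ h4) h4
    -- `A` is central
    have hAcen : A ≤ Subgroup.center R := by
      by_cases hb : A = ⊥
      · rw [hb]; exact bot_le
      obtain ⟨z, hzA, hzc, hz⟩ := CfsgLib.PGroup.exists_central_orderOf_eq hR A hb
      have hle : Subgroup.zpowers z ≤ A := Subgroup.zpowers_le.2 hzA
      have hca : Nat.card A ≤ Nat.card (Subgroup.zpowers z) := by
        rw [Nat.card_zpowers, hz, ha]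
        calc p ^ a ≤ p ^ 1 := Nat.pow_le_pow_right hpp.pos (by omega)
          _ = p := pow_one p
      rw [← Subgroup.eq_of_le_of_card_ge hle hca]
      exact Subgroup.zpowers_le.2 hzc
    have hall : ∀ x : R, x ^ p = 1 → x ∈ A := fun x hx => by
      refine Cfsg.Agent.S0130.result hR 1 (by rw [pow_one]; exact hp) A hAc
        (fun b hb => by rw [pow_one]; exact hAe b hb) hex x ?_ (by rw [pow_one]; exact hx)
      rw [Subgroup.mem_centralizer_iff]
      exact fun b hb => (Subgroup.mem_center_iff.1 (hAcen hb) x).symm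
    refine CfsgLib.PGroup.isCyclic_of_unique_order_prime hp hR fun x y hx hx1 hy => ?_
    have hle : Subgroup.zpowers x ≤ A := Subgroup.zpowers_le.2 (hall x hx)
    have hca : Nat.card A ≤ Nat.card (Subgroup.zpowers x) := by
      rw [Nat.card_zpowers, orderOf_eq_prime hx hx1, ha]
      calc p ^ a ≤ p ^ 1 := Nat.pow_le_pow_right hpp.pos (by omega)
        _ = p := pow_one p
    rw [Subgroup.eq_of_le_of_card_ge hle hca]
    exact hall y hy
  · obtain ⟨B, hBn, hBA, hB⟩ := CfsgLib.PGroup.exists_normal_card_le hR 2 a A ha ha2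
    exact ⟨B, hBn, ⟨Subgroup.le_centralizer_iff_isMulCommutative.1
      (hBA.trans ((Subgroup.le_centralizer_iff_isMulCommutative.2 hAc).trans
        (Subgroup.centralizer_le hBA))), fun b hb => hAe b (hBA hb)⟩, hB⟩

end Cfsg.Agent.S0126
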