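import Cfsg.Statements.S3888
import Cfsg.Agent.Lib.PGroup.RankTwoOdd
import Cfsg.Agent.S0126

set_option autoImplicit false
open Cfsg

namespace Cfsg.Agent.S3888

/-- The classification of the p-groups of rank at most two for odd p. Let p be an odd prime and G a group of order p^n with no elementary abelian subgroup of order p³. Then one of the following holds: G is metacyclic; n ≥ 3 and G is generated by elements x, y, z with x^p = y^p = z^(p^(n−2)) = 1, z commuting with x and y, and x⁻¹yx = y z^(p^(n−3)); n ≥ 4 and G is generated by elements x, y, z with x^p = y^p = z^(p^(n−2)) = 1, yz = zy, x⁻¹yx = y z^(s p^(n−3)) and x⁻¹zx = yz, where s = 1 or s is a quadratic non-residue modulo p; or p = 3 and G has maximal class (nilpotency class n − 1). -/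
theorem result {G : Type*} [Group G] [Finite G] {p : ℕ} [Fact p.Prime] (hp : p ≠ 2) (n : ℕ) (hG : Nat.card G = p ^ n)
    (hrk : Cfsg.PRankLE p 2 G) :
    Cfsg.IsMetacyclic G ∨
    (3 ≤ n ∧ ∃ x y z : G, Subgroup.closure ({x, y, z} : Set G) = ⊤ ∧ x ^ p = 1 ∧ y ^ p = 1 ∧ z ^ p ^ (n - 2) = 1 ∧
        x * z = z * x ∧ y * z = z * y ∧ x⁻¹ * y * x = y * z ^ p ^ (n - 3)) ∨
    (4 ≤ n ∧ ∃ (s : ℕ) (x y z : G), (s = 1 ∨ ¬ IsSquare (s : ZMod p)) ∧ Subgroup.closure ({x, y, z} : Set G) = ⊤ ∧
        x ^ p = 1 ∧ y ^ p = 1 ∧ z ^ p ^ (n - 2) = 1 ∧ y * z = z * y ∧ x⁻¹ * y * x = y * z ^ (s * p ^ (n - 3)) ∧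
        x⁻¹ * z * x = y * z) ∨
    (p = 3 ∧ 2 ≤ n ∧ (⊤ : Subgroup G).lowerCentralSeries (n - 2) ≠ ⊥) := by
  by_cases hcyc : IsCyclic G
  · exact Or.inl ⟨⊥, inferInstance, inferInstance, isCyclic_of_surjective (QuotientGroup.mk' (⊥ : Subgroup G)) (QuotientGroup.mk'_surjective _)⟩
  have hR : IsPGroup p G := IsPGroup.of_card hG
  obtain ⟨E, hEn, hEe, hEc⟩ := Cfsg.Agent.S0126.result hp hR hcyc
  by_cases hm : Cfsg.IsMetacyclic G
  · exact Or.inl hm
  refine Or.inr ?_
  have hnc : ¬ E ≤ Subgroup.center G := by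
    intro hcen
    refine hm (CfsgLib.PGroup.RankTwo.isMetacyclic_of_index_le hp hR ?_)
    have hall : ∀ x : G, x ^ p = 1 → x ∈ E := by
      intro x hx
      by_contra hxE
      have hcom : ∀ u ∈ ((E : Set G) ∪ {x}), ∀ v ∈ ((E : Set G) ∪ {x}), u * v = v * u := by
        rintro u (hu | rfl) v (hv | rfl)
        · exact Subgroup.mem_center_iff.1 (hcen hv) u
        · exact (Subgroup.mem_center_iff.1 (hcen hu) _).symm
        · exact Subgroup.mem_center_iff.1 (hcen hv) _
        · rfl
      set A := Subgroup.closure ((E : Set G) ∪ {x})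
      have hAc : IsMulCommutative A := Subgroup.isMulCommutative_closure hcom
      have hAe : ∀ u ∈ A, u ^ p = 1 := by
        intro u hu
        induction hu using Subgroup.closure_induction with
        | mem u hu =>
          rcases hu with hu | rfl
          · exact hEe.2 u hu
          · exact hx
        | one => exact one_pow p
        | mul u v hu' hv' h1 h2 =>
          rw [(show Commute u v from congrArg Subtype.val (hAc.is_comm.comm (⟨u, hu'⟩ : A) ⟨v, hv'⟩)).mul_pow,
            h1, h2, one_mul]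
        | inv u _ h1 => rw [inv_pow, h1, inv_one]
      have hEA : E ≤ A := fun u hu => Subgroup.subset_closure (Or.inl hu)
      have heq : E = A := Subgroup.eq_of_le_of_card_ge hEA ((hrk A hAc hAe).trans hEc.ge)
      exact hxE (heq ▸ Subgroup.subset_closure (Or.inr rfl))
    exact (CfsgLib.PGroup.RankTwo.index_powerClosure_le hp hR (fun x hx => hcen (hall x hx)) E hall).trans hEc.le
  obtain ⟨D⟩ := CfsgLib.PGroup.RankTwo.nonempty_setup hR hrk E hEe hEc hnc
  exact CfsgLib.PGroup.RankTwo.Setup.classification D hp hR hm n hG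

end Cfsg.Agent.S3888
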