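import Cfsg.Statements.S0190
import Mathlib.GroupTheory.GroupAction.Quotient
import Mathlib.Algebra.BigOperators.Ring.Finset

set_option autoImplicit false
open Cfsg

namespace Cfsg.Agent.S0190

theorem result {G : Type*} [Group G] [Fintype G] (X : Type*) [MulAction G X] [Finite X] [MulAction.IsPretransitive G X] (x : X) : (fun g : G => (Nat.card (MulAction.fixedBy X g) : ℂ)) = Cfsg.indFun (MulAction.stabilizer G x) (fun _ => 1) := by
  classical
  have := Fintype.ofFinite X
  funext g
  set H := MulAction.stabilizer G x with hH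
  have hne : (Nat.card H : ℂ) ≠ 0 := Nat.cast_ne_zero.mpr Nat.card_pos.ne'
  have hext : ∀ y : G, Cfsg.extendByZero H (fun _ => (1 : ℂ)) (y⁻¹ * g * y) =
      if g • (y • x) = y • x then 1 else 0 := by
    intro y
    have hiff : y⁻¹ * g * y ∈ H ↔ g • (y • x) = y • x := by
      rw [hH, MulAction.mem_stabilizer_iff, mul_smul, mul_smul, inv_smul_eq_iff]
    unfold Cfsg.extendByZero
    by_cases h : y⁻¹ * g * y ∈ H
    · rw [if_pos (hiff.mp h)]
      exact Subtype.val_injective.extend_apply _ _ (⟨_, h⟩ : H)
    · rw [if_neg (fun hh => h (hiff.mpr hh)), Function.extend_apply']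
      · rfl
      · rintro ⟨a, ha⟩
        exact h (ha ▸ a.2)
  show _ = (Nat.card H : ℂ)⁻¹ * _
  rw [Finset.sum_congr rfl (fun y _ => hext y), ← Finset.sum_fiberwise Finset.univ (fun y : G => y • x)]
  have hfib : ∀ z : X, (∑ y ∈ Finset.univ.filter (fun y : G => y • x = z),
      if g • (y • x) = y • x then (1 : ℂ) else 0) = if g • z = z then (Nat.card H : ℂ) else 0 := by
    intro z
    obtain ⟨y₀, hy₀⟩ := MulAction.exists_smul_eq G x z
    rw [Finset.sum_congr rfl (g := fun _ => if g • z = z then (1 : ℂ) else 0) (fun y hy => by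
      rw [(Finset.mem_filter.mp hy).2])]
    have hcard : (Finset.univ.filter (fun y : G => y • x = z)).card = Nat.card H := by
      rw [← Fintype.card_subtype, ← Nat.card_eq_fintype_card]
      refine Nat.card_congr
        { toFun := fun y => ⟨y₀⁻¹ * y.1, by
            rw [hH, MulAction.mem_stabilizer_iff, mul_smul, y.2, inv_smul_eq_iff, hy₀]⟩
          invFun := fun h => ⟨y₀ * h.1, by
            rw [mul_smul, MulAction.mem_stabilizer_iff.mp h.2, hy₀]⟩
          left_inv := fun y => Subtype.ext (mul_inv_cancel_left _ _)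
          right_inv := fun h => Subtype.ext (inv_mul_cancel_left _ _) }
    rw [Finset.sum_const, hcard, nsmul_eq_mul]
    split_ifs <;> simp
  rw [Finset.sum_congr rfl (fun z _ => hfib z), Finset.sum_ite, Finset.sum_const_zero, add_zero,
    Finset.sum_const, nsmul_eq_mul, mul_comm _ (Nat.card H : ℂ), ← mul_assoc,
    inv_mul_cancel₀ hne, one_mul, Nat.card_eq_fintype_card, ← Fintype.card_subtype]
  rfl

end Cfsg.Agent.S0190
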