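import Cfsg.Statements.S0157
import Cfsg.Agent.S0190
import Cfsg.Agent.Lib.Char.Linear
import Cfsg.Agent.Lib.Char.Induced
import Cfsg.Agent.Lib.Char.Virtual
import Cfsg.Agent.Lib.PermDerange.Counting

set_option autoImplicit false
open Cfsg

namespace Cfsg.Agent.S0157

/-- For a transitive action of a finite group on a finite set with at least two points: the action is 2-transitive if and only if the function sending g to (number of fixed points of g) − 1 is an irreducible character. -/
theorem result {G : Type*} [Group G] [Finite G] (X : Type*) [MulAction G X] [Finite X] [MulAction.IsPretransitive G X] (hX : 2 ≤ Nat.card X) : Cfsg.IsIrrCharacter G (fun g => (Nat.card (MulAction.fixedBy X g) : ℂ) - 1) ↔ MulAction.IsMultiplyPretransitive G X 2 := by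
  classical
  cases nonempty_fintype G
  obtain ⟨x⟩ : Nonempty X := Nat.card_pos_iff.mp (by omega) |>.1
  have : Nontrivial X := Finite.one_lt_card_iff_nontrivial.mp (by omega)
  let π : G → ℂ := fun g => (Nat.card (MulAction.fixedBy X g) : ℂ)
  have hπ : Cfsg.IsCharacter G π := by
    change Cfsg.IsCharacter G fun g => (Nat.card (MulAction.fixedBy X g) : ℂ)
    rw [Cfsg.Agent.S0190.result X x]
    exact CfsgLib.Char.IsCharacter.indFun _ CfsgLib.Char.isCharacter_one
  have hG : (Nat.card G : ℂ) ≠ 0 := Nat.cast_ne_zero.mpr Nat.card_pos.ne'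
  let one : G → ℂ := fun _ => 1
  have h1 : Cfsg.classInner π one = 1 := by
    simp only [Cfsg.classInner, π, one, map_one, mul_one]
    rw [← Nat.cast_sum, CfsgLib.PermDerange.sum_card_fixedBy_transitive, inv_mul_cancel₀ hG]
  have h2 : Cfsg.classInner π π = (CfsgLib.PermDerange.numOrbitals G X : ℂ) := by
    simp only [Cfsg.classInner, π, map_natCast, ← Nat.cast_mul]
    rw [← Nat.cast_sum, CfsgLib.PermDerange.sum_sq_card_fixedBy, Nat.cast_mul, mul_left_comm,
      inv_mul_cancel₀ hG, mul_one]
  have hirr1 : Cfsg.IsIrrCharacter G one := CfsgLib.Char.isIrrCharacter_principal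
  have hd : Cfsg.IsCharacter G (fun g => (Nat.card (MulAction.fixedBy X g) : ℂ) - 1) := by
    obtain ⟨m, hm⟩ := CfsgLib.Char.IsCharacter.exists_nat_combination hπ
    let one' : Cfsg.IrrCharacter G := ⟨one, hirr1⟩
    have hm1 : (m one' : ℂ) = 1 := by
      rw [← h1, hm]
      exact (CfsgLib.Char.classInner_sum_smul_irr (fun φ => (m φ : ℂ)) one').symm
    have he : (fun g => (Nat.card (MulAction.fixedBy X g) : ℂ) - 1) =
        ∑ φ ∈ Finset.univ.erase one', m φ • (φ : G → ℂ) := by
      funext g
      have hg := congrFun hm g
      rw [← Finset.add_sum_erase _ _ (Finset.mem_univ one'), hm1, one_smul] at hg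
      change π g - 1 = _
      rw [hg]
      simp [one', one, ← Nat.cast_smul_eq_nsmul ℂ]
    rw [he]
    exact CfsgLib.Char.IsCharacter.sum _ _ fun φ _ =>
      CfsgLib.Char.IsCharacter.nsmul (CfsgLib.Char.IsIrrCharacter.isCharacter φ.2) _
  have hnorm : Cfsg.classInner (π - one) (π - one) =
      (CfsgLib.PermDerange.numOrbitals G X : ℂ) - 1 := by
    have h3 : Cfsg.classInner one π = 1 := by
      rw [← CfsgLib.Char.classInner_conj_symm, h1, map_one]
    rw [CfsgLib.Char.classInner_sub_left, CfsgLib.Char.classInner_sub_right,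
      CfsgLib.Char.classInner_sub_right, h1, h2, h3,
      CfsgLib.Char.classInner_irr_self hirr1]
    ring
  refine ⟨fun hirr => ?_, fun h => ?_⟩
  · have h4 := CfsgLib.Char.classInner_irr_self hirr
    change Cfsg.classInner (π - one) (π - one) = 1 at h4
    rw [hnorm, sub_eq_iff_eq_add] at h4
    have h5 : CfsgLib.PermDerange.numOrbitals G X = 2 := by
      have : (CfsgLib.PermDerange.numOrbitals G X : ℂ) = (2 : ℕ) := by rw [h4]; norm_num
      exact_mod_cast this
    exact MulAction.is_two_pretransitive_iff.mpr fun hab hcd =>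
      CfsgLib.PermDerange.pretransitive_pairs_of_numOrbitals h5 _ _ _ _ hab hcd
  · refine CfsgLib.Char.IsCharacter.isIrrCharacter_of_classInner_self hd ?_
    change Cfsg.classInner (π - one) (π - one) = 1
    have h6 : CfsgLib.PermDerange.numOrbitals G X = 2 := by
      refine le_antisymm ?_ CfsgLib.PermDerange.two_le_numOrbitals
      obtain ⟨a, b, hab⟩ := exists_pair_ne X
      let f : Bool → MulAction.orbitRel.Quotient G (X × X) := fun t =>
        if t then Quotient.mk'' (a, a) else Quotient.mk'' (a, b)
      have hf : Function.Surjective f := by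
        intro q
        induction q using Quotient.inductionOn' with
        | h p =>
          obtain ⟨c, d⟩ := p
          by_cases hcd : c = d
          · obtain ⟨g, hg⟩ := MulAction.exists_smul_eq G c a
            refine ⟨true, Quotient.sound' ?_⟩
            exact ⟨g, by simp [← hcd, hg]⟩
          · obtain ⟨g, hg, hg'⟩ := MulAction.is_two_pretransitive_iff.mp h hcd hab
            refine ⟨false, Quotient.sound' ?_⟩
            exact ⟨g, by simp [hg, hg']⟩
      have := Nat.card_le_card_of_surjective f hf
      simpa [CfsgLib.PermDerange.numOrbitals] using this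
    rw [hnorm, h6]
    norm_num

end Cfsg.Agent.S0157
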