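import Cfsg.Statements.S0727
import Cfsg.Agent.Lib.SharpThree.Coord

set_option autoImplicit false
open Cfsg

namespace Cfsg.Agent.S0727

open MulAction CfsgLib.SharpThree


/-- A sharply triply transitive permutation group of degree `2^f + 1` is isomorphic to the projective general linear group of degree 2 over the field with `2^f` elements. -/
theorem result {α : Type*} [Fintype α] [DecidableEq α] {f : ℕ} (hf : 1 ≤ f) (hα : Fintype.card α = 2 ^ f + 1) (G : Subgroup (Equiv.Perm α)) (h3 : MulAction.IsMultiplyPretransitive G α 3) (hsharp : ∀ x : Fin 3 ↪ α, MulAction.stabilizer G x = ⊥) : ∃ (F : Type) (_ : Field F) (_ : Fintype F), Fintype.card F = 2 ^ f ∧ Nonempty (G ≃* Matrix.ProjGenLinGroup (Fin 2) F) := by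
  have h : IsS3 G α := ⟨h3, hsharp⟩
  have h2f : 2 ≤ 2 ^ f := Nat.le_self_pow (by omega) 2
  have hn : 3 ≤ Fintype.card α := by omega
  obtain ⟨a⟩ : Nonempty α := Fintype.card_pos_iff.1 (by omega)
  obtain ⟨b, hb, -⟩ := exists_third hn a a
  obtain ⟨c, hca, hcb⟩ := exists_third hn a b
  obtain ⟨s, hsa, hsb, hsc⟩ := h.exists_three hb.symm hca.symm hcb.symm hb hcb.symm hca.symm
  -- a non-trivial element of the two-point stabiliser is not centralised by the swap
  haveI : Fact (Nat.Prime 2) := ⟨Nat.prime_two⟩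
  have hs2 := h.swap_sq hb.symm hca.symm hcb.symm hsa hsb hsc
  have hfix : ∀ m : G, m • a = a → m • b = b → s * m = m * s → m = 1 := by
    intro m ma mb hm
    refine h.eq_one hb.symm hca.symm hcb.symm ma mb ?_
    have hmc : s • (m • c) = m • c := by rw [← mul_smul, hm, mul_smul, hsc]
    by_contra hne
    -- `s` would fix exactly two points, but the degree is odd
    have hs1 : s ≠ 1 := fun e => hb (by rw [e, one_smul] at hsa; exact hsa.symm)
    have hmod := fix_mod (α := α) (t := s) (p := 2) (by rw [pow_two, hs2])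
    have hle := h.fix_card_le hs1
    have h2 : 2 ≤ (Finset.univ.filter fun x : α => s • x = x).card := by
      rw [← Finset.card_pair (Ne.symm hne)]
      refine Finset.card_le_card fun x hx => ?_
      simp only [Finset.mem_insert, Finset.mem_singleton] at hx
      rcases hx with rfl | rfl <;> simp [hsc, hmc]
    have he : 2 ∣ 2 ^ f := dvd_pow_self 2 (by omega)
    omega
  -- so it inverts the stabiliser, which is therefore commutative
  let M : Subgroup G := stabilizer G a ⊓ stabilizer G b
  have hσ : ∀ m : M, s * (m : G) * s ∈ M := fun m =>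
    ⟨by simp [mul_smul, hsa, hsb, show (m : G) • b = b from m.2.2],
      by simp [mul_smul, hsa, hsb, show (m : G) • a = a from m.2.1]⟩
  have hsurj : ∀ m : M, ∃ g : M, m = g⁻¹ * ⟨_, hσ g⟩ := by
    have hinj : Function.Injective (fun g : M => g⁻¹ * ⟨_, hσ g⟩) := by
      intro x y hxy
      have e : (x : G)⁻¹ * (s * x * s) = (y : G)⁻¹ * (s * y * s) := congrArg Subtype.val hxy
      have hcomm : s * ((y : G) * (x : G)⁻¹) = ((y : G) * (x : G)⁻¹) * s := by
        have e2 : (y : G) * (x : G)⁻¹ * s = s * (y : G) * (x : G)⁻¹ := by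
          have := congrArg (fun w => (y : G) * w * (s * (x : G)⁻¹)) e
          simp only [mul_assoc, mul_inv_cancel_left] at this
          rw [← mul_assoc s s, hs2, one_mul] at this
          simpa [mul_assoc] using this
        rw [e2, mul_assoc]
      have xa : (x : G)⁻¹ • a = a := by rw [inv_smul_eq_iff]; exact (show (x : G) • a = a from x.2.1).symm
      have xb : (x : G)⁻¹ • b = b := by rw [inv_smul_eq_iff]; exact (show (x : G) • b = b from x.2.2).symm
      have := hfix _ (by rw [mul_smul, xa]; exact y.2.1) (by rw [mul_smul, xb]; exact y.2.2) hcomm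
      exact Subtype.ext (mul_inv_eq_one.1 this).symm
    intro m
    obtain ⟨g, hg⟩ := (Finite.injective_iff_surjective.1 hinj) m
    exact ⟨g, hg.symm⟩
  have hinv : ∀ m : G, m ∈ M → s * m * s = m⁻¹ := by
    intro m hm
    obtain ⟨g, hg⟩ := hsurj ⟨m, hm⟩
    have e : m = (g : G)⁻¹ * (s * g * s) := congrArg Subtype.val hg
    have hss : ∀ z : G, s * (s * z) = z := fun z => by rw [← mul_assoc, hs2, one_mul]
    have hsi : s⁻¹ = s := inv_eq_of_mul_eq_one_right hs2
    rw [e]
    simp only [mul_inv_rev, mul_assoc, hsi, hss, inv_inv, hs2, mul_one]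
  obtain ⟨F, iF, iFt, hcard, hiso⟩ := h.exists_mulEquiv_pgl hb.symm hca.symm hcb.symm hsa hsb hsc
    (fun m m' ma mb ma' mb' => by
      have e := hinv (m * m') (M.mul_mem ⟨ma, mb⟩ ⟨ma', mb'⟩)
      have hss : s * s = 1 := hs2
      rw [show s * (m * m') * s = (s * m * s) * (s * m' * s) by
        simp only [mul_assoc]; rw [← mul_assoc s s, hss, one_mul], hinv m ⟨ma, mb⟩, hinv m' ⟨ma', mb'⟩] at e
      have := congrArg (fun z => z⁻¹) e
      simpa using this.symm)
  exact ⟨F, iF, iFt, by omega, hiso⟩

end Cfsg.Agent.S0727
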