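import Cfsg.Statements.S4702
import Cfsg.Agent.S0727


set_option autoImplicit false
open Cfsg

namespace Cfsg.Agent.S4702

/-- Let G be a triply transitive permutation group on a finite set of odd size m ≥ 3 in which only the identity fixes three or more points. Then m = 2^a + 1 for some a ≥ 1 and G is isomorphic to SL(2, 2^a). -/
theorem result {α : Type*} [Fintype α] [DecidableEq α] (hm : 3 ≤ Fintype.card α) (hodd : Odd (Fintype.card α)) (G : Subgroup (Equiv.Perm α)) (h3 : MulAction.IsMultiplyPretransitive G α 3) (hfix : ∀ g : G, 3 ≤ Nat.card (MulAction.fixedBy α g) → g = 1) : ∃ a : ℕ, 1 ≤ a ∧ Fintype.card α = 2 ^ a + 1 ∧ ∃ (F : Type) (_ : Field F) (_ : Fintype F), Fintype.card F = 2 ^ a ∧ Nonempty (G ≃* Matrix.SpecialLinearGroup (Fin 2) F) := by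
  classical
  have h : CfsgLib.SharpThree.IsS3 G α := by
    refine ⟨h3, fun x => (Subgroup.eq_bot_iff_forall _).2 fun g hg => hfix g ?_⟩
    have hmem : ∀ i, (g : G) • x i = x i := fun i => congrArg (fun e : Fin 3 ↪ α => e i) hg
    calc 3 = Nat.card (Fin 3) := by simp
      _ ≤ Nat.card (MulAction.fixedBy α g) :=
        Nat.card_le_card_of_injective (fun i => (⟨x i, hmem i⟩ : MulAction.fixedBy α g))
          fun i j hij => x.injective (congrArg Subtype.val hij)
  obtain ⟨a₀⟩ : Nonempty α := Fintype.card_pos_iff.1 (by omega)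
  obtain ⟨K, p, f, -, hp, hf, hcard, -⟩ := h.exists_kernel hm a₀
  have hp2 : p = 2 := by
    rcases hp.eq_two_or_odd' with h2 | h2
    · exact h2
    · exfalso
      rw [hcard] at hodd
      exact (Nat.not_odd_iff_even.mpr (Odd.add_one (h2.pow (n := f)))) hodd
  subst hp2
  refine ⟨f, hf, hcard, ?_⟩
  obtain ⟨F, iF, iFt, hF, ⟨e⟩⟩ := Cfsg.Agent.S0727.result hf hcard G h3 h.sharp
  refine ⟨F, iF, iFt, hF, ⟨e.trans (MulEquiv.ofBijective Matrix.SpecialLinearGroup.toPGL ?_).symm⟩⟩
  haveI : CharP F 2 := by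
    haveI : Fact (Nat.Prime 2) := ⟨Nat.prime_two⟩
    exact charP_of_card_eq_prime_pow hF
  have hroot : ∀ r : Fˣ, ∃ k : Fˣ, k ^ Fintype.card (Fin 2) = r := by
    intro r
    obtain ⟨k, hk⟩ := FiniteField.isSquare_of_char_two (ringChar.eq F 2) (r : F)
    exact ⟨Units.mk0 k (by rintro rfl; rw [mul_zero] at hk; exact r.ne_zero hk),
      Units.ext (by simp [pow_two, ← hk])⟩
  refine ⟨?_, fun x => ?_⟩
  · rw [← MonoidHom.ker_eq_bot_iff, Matrix.SpecialLinearGroup.toPGL_ker]
    refine (Subgroup.eq_bot_iff_forall _).2 fun A hA => ?_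
    obtain ⟨r, hr, hAr⟩ := Matrix.SpecialLinearGroup.mem_center_iff.1 hA
    apply Matrix.SpecialLinearGroup.ext
    intro i j
    rw [← hAr, Fintype.card_fin] at *
    have h1 : r = 1 := by
      have h0 : (r - 1) * (r - 1) = 0 := by
        linear_combination hr + (1 - r) * CharTwo.two_eq_zero (R := F)
      exact sub_eq_zero.1 (mul_self_eq_zero.1 h0)
    simp [h1]
  · obtain ⟨y, hy⟩ := Matrix.ProjectiveSpecialLinearGroup.toPGL_surj_of_roots hroot x
    obtain ⟨A, rfl⟩ := QuotientGroup.mk_surjective y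
    exact ⟨A, hy⟩

end Cfsg.Agent.S4702
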