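import Cfsg.Statements.S4706
import Cfsg.Agent.Lib.ItoPrimeDegree.Main
import Cfsg.Agent.S4702
-- import your own Cfsg.Agent.* helpers here

set_option autoImplicit false
open Cfsg

namespace Cfsg.Agent.S4706

/-- Let p > 2 be a prime and G a permutation group on p letters whose Sylow p-subgroup P has normalizer of order 2p. Then either P is normal in G, or p − 1 = 2^a for some a and G is isomorphic to SL(2, 2^a). -/
theorem result {α : Type*} [Fintype α] [DecidableEq α] {p : ℕ} [Fact p.Prime] (hp : 2 < p) (hα : Fintype.card α = p) (G : Subgroup (Equiv.Perm α)) (P : Sylow p G) (hN : Nat.card (Subgroup.normalizer ((P : Subgroup G) : Set G)) = 2 * p) : (P : Subgroup G).Normal ∨ ∃ (a : ℕ) (F : Type) (_ : Field F) (_ : Fintype F), p = 2 ^ a + 1 ∧ Fintype.card F = 2 ^ a ∧ Nonempty (G ≃* Matrix.SpecialLinearGroup (Fin 2) F) := by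
  classical
  by_cases hn : (P : Subgroup G).Normal
  · exact Or.inl hn
  refine Or.inr ?_
  have hpp : p.Prime := Fact.out
  have hP : Nat.card ↥(P : Subgroup G) = p := by
    have hd : Nat.card ↥(P : Subgroup G) ∣ 2 * p := hN ▸ Subgroup.card_dvd_of_le Subgroup.le_normalizer
    obtain ⟨k, hk⟩ := P.isPGroup'.exists_card_eq
    rcases k with _ | _ | k
    · rw [pow_zero, Subgroup.card_eq_one] at hk
      exact absurd (hk ▸ Subgroup.normal_bot) hn
    · rwa [pow_one] at hk
    · exfalso
      rw [hk] at hd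
      have h1 : p * p ∣ 2 * p := (Dvd.intro (p ^ k) (by ring)).trans hd
      have := Nat.le_of_dvd two_pos (Nat.dvd_of_mul_dvd_mul_right hpp.pos h1)
      omega
  haveI := CfsgLib.ItoPrimeDegree.isPretransitive_of_dvd hα (G := G)
    (hP ▸ Subgroup.card_subgroup_dvd_card _)
  have hns : ¬ Group.IsSolvable G := fun h => hn (CfsgLib.ItoPrimeDegree.normal_of_isSolvable hα h P hP)
  have h2 := CfsgLib.Perm.two_transitive_of_not_isSolvable hα G hns
  obtain ⟨hfix, hd⟩ := CfsgLib.ItoPrimeDegree.sharp_data hp hα G P hP hN h2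
  have h3 := CfsgLib.ItoPrimeDegree.three_transitive hp hα G hd h2 hfix
  obtain ⟨a, -, ha, F, iF, iFt, hF, he⟩ := Cfsg.Agent.S4702.result (by omega)
    (hα ▸ hpp.odd_of_ne_two (by omega)) G h3 hfix
  exact ⟨a, F, iF, iFt, hα ▸ ha, hF, he⟩

end Cfsg.Agent.S4706
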