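import Cfsg.Statements.S2947
import Cfsg.Agent.Lib.CharP.PCore
import Cfsg.Agent.Lib.CharP.Basic
import Cfsg.Agent.Lib.PLocal.Thompson

set_option autoImplicit false
open Cfsg

namespace Cfsg.Agent.S2947

/-- A 2-group meeting `M` nontrivially lies in `M` if the normalisers of the nontrivial 2-subgroups
of `M` do. -/
theorem le_of_inf_ne_bot {G : Type*} [Group G] [Finite G] {M : Subgroup G}
    (hA : ∀ X : Subgroup G, IsPGroup 2 X → X ≠ ⊥ → X ≤ M → Subgroup.normalizer (X : Set G) ≤ M)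
    (R : Subgroup G) (hR : IsPGroup 2 R) (h : R ⊓ M ≠ ⊥) : R ≤ M := by
  by_contra hRM
  have hlt : (M.subgroupOf R) < ⊤ := by
    rw [lt_top_iff_ne_top]
    exact fun h' => hRM (Subgroup.subgroupOf_eq_top.mp h')
  haveI : Fact (Nat.Prime 2) := ⟨Nat.prime_two⟩
  haveI := hR.isNilpotent
  have hnc : NormalizerCondition R := Group.normalizerCondition_of_isNilpotent
  obtain ⟨g, hg, hgn⟩ := SetLike.exists_of_lt (hnc _ hlt)
  apply hgn
  rw [Subgroup.mem_subgroupOf]
  refine hA (R ⊓ M) (hR.to_le inf_le_left) h inf_le_right ?_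
  rw [Subgroup.mem_normalizer_iff]
  rw [Subgroup.mem_normalizer_iff] at hg
  intro n
  constructor
  · rintro ⟨h1, h2⟩
    exact ⟨R.mul_mem (R.mul_mem g.2 h1) (R.inv_mem g.2), ((hg ⟨n, h1⟩).mp h2)⟩
  · intro hn
    have h1 : n ∈ R := by
      have := R.mul_mem (R.mul_mem (R.inv_mem g.2) hn.1) g.2
      simpa [mul_assoc] using this
    exact ⟨h1, (hg ⟨n, h1⟩).mpr hn.2⟩

theorem result {G : Type*} [Group G] [Finite G] (hL : Cfsg.IsCharacteristicTwoType G) (hN : ∀ N : Subgroup G, Cfsg.IsTwoLocal N → Group.IsSolvable ↥N)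
    (hZ : ∀ S : Sylow 2 G, Subgroup.centralizer (Cfsg.omegaCenterOf (S : Subgroup G) : Set G) ≤ Subgroup.normalizer ((S : Subgroup G) : Set G)) (hO : Cfsg.pCore 2 G = ⊥) (S : Sylow 2 G) (M : Subgroup G) (hM : Cfsg.IsTwoLocal M)
    (hMJ : Subgroup.normalizer (Cfsg.thompsonSubgroupOf 2 (S : Subgroup G) : Set G) ≤ M) :
    Cfsg.IsStronglyEmbedded M ↔ Cfsg.straddlingTwoSubgroups M = ∅ := by
  haveI : Fact (Nat.Prime 2) := ⟨Nat.prime_two⟩
  constructor
  · rintro ⟨-, -, hodd⟩
    have hA : ∀ X : Subgroup G, IsPGroup 2 X → X ≠ ⊥ → X ≤ M →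
        Subgroup.normalizer (X : Set G) ≤ M := by
      intro X hX hX1 hXM g hg
      by_contra hgM
      have hXle : X ≤ M ⊓ M.map (MulAut.conj g).toMonoidHom := by
        refine le_inf hXM fun x hx => ?_
        rw [CfsgLib.CharP.mem_map_conj]
        refine hXM ?_
        have h1 := (Subgroup.mem_normalizer_iff''.mp hg x).mp hx
        exact h1
      obtain ⟨x, hx, hxo⟩ := CfsgLib.CharP.exists_orderOf_eq_prime X hX hX1
      have h2 : 2 ∣ Nat.card ↥(M ⊓ M.map (MulAut.conj g).toMonoidHom) := by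
        have := Subgroup.orderOf_dvd_natCard _ (hXle hx)
        rwa [hxo] at this
      exact Nat.not_even_iff_odd.mpr (hodd g hgM) (even_iff_two_dvd.mpr h2)
    rw [Set.eq_empty_iff_forall_notMem]
    rintro T ⟨hT, hT1, hTM, L, ⟨U, hU, hU1, rfl⟩, hTL, hLM⟩
    apply hLM
    have hUM : U ≤ M := by
      refine le_sup_right.trans (le_of_inf_ne_bot hA (T ⊔ U) (hT.to_sup_of_normal_right' hU hTL) ?_)
      exact ne_bot_of_le_ne_bot hT1 (le_inf le_sup_left hTM)
    exact hA U hU hU1 hUM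
  · intro h
    have hA : ∀ X : Subgroup G, IsPGroup 2 X → X ≠ ⊥ → X ≤ M →
        Subgroup.normalizer (X : Set G) ≤ M := by
      intro X hX hX1 hXM
      by_contra hn
      have hmem : X ∈ Cfsg.straddlingTwoSubgroups M :=
        ⟨hX, hX1, hXM, _, ⟨X, hX, hX1, rfl⟩, Subgroup.le_normalizer, hn⟩
      rw [h] at hmem
      exact hmem
    obtain ⟨T, hT, hT1, hMT⟩ := hM
    have hTM : T ≤ M := by rw [hMT]; exact Subgroup.le_normalizer
    refine ⟨?_, ?_, ?_⟩
    · intro htop
      apply hT1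
      rw [eq_bot_iff, ← hO]
      refine CfsgLib.CharP.le_pCore' ?_ hT
      rw [← Subgroup.normalizer_eq_top_iff, ← hMT, htop]
    · obtain ⟨x, hx, hxo⟩ := CfsgLib.CharP.exists_orderOf_eq_prime T hT hT1
      have := Subgroup.orderOf_dvd_natCard _ (hTM hx)
      rw [hxo] at this
      exact even_iff_two_dvd.mpr this
    · intro g hg
      rw [← Nat.not_even_iff_odd, even_iff_two_dvd]
      intro hdvd
      apply hg
      obtain ⟨x, hxo⟩ := exists_prime_orderOf_dvd_card' 2 hdvd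
      have hxo' : orderOf (x : G) = 2 := by rw [Subgroup.orderOf_coe, hxo]
      have hxM : (x : G) ∈ M := x.2.1
      have hxg : g⁻¹ * (x : G) * g ∈ M := CfsgLib.CharP.mem_map_conj.mp x.2.2
      have hp : IsPGroup 2 (Subgroup.zpowers (x : G)) :=
        IsPGroup.of_card (n := 1) (by rw [Nat.card_zpowers, hxo', pow_one])
      obtain ⟨R, hR⟩ := hp.exists_le_sylow
      have hx1 : (x : G) ≠ 1 := by
        intro h1
        rw [h1, orderOf_one] at hxo'
        omega
      have hxR : (x : G) ∈ (R : Subgroup G) := hR (Subgroup.mem_zpowers _)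
      have hRM : (R : Subgroup G) ≤ M := by
        refine le_of_inf_ne_bot hA _ R.isPGroup' fun h0 => hx1 ?_
        have : (x : G) ∈ (R : Subgroup G) ⊓ M := ⟨hxR, hxM⟩
        rw [h0] at this
        exact this
      have hxR' : g⁻¹ * (x : G) * g ∈ ((g⁻¹ • R : Sylow 2 G) : Subgroup G) := by
        rw [Sylow.coe_subgroup_smul, Subgroup.mem_pointwise_smul_iff_inv_smul_mem]
        simpa [MulAut.smul_def, mul_assoc] using hxR
      have hR'M : ((g⁻¹ • R : Sylow 2 G) : Subgroup G) ≤ M := by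
        refine le_of_inf_ne_bot hA _ (g⁻¹ • R).isPGroup' fun h0 => hx1 ?_
        have h1 : g⁻¹ * (x : G) * g ∈ ((g⁻¹ • R : Sylow 2 G) : Subgroup G) ⊓ M := ⟨hxR', hxg⟩
        rw [h0, Subgroup.mem_bot] at h1
        have h2 : (x : G) = g * (g⁻¹ * (x : G) * g) * g⁻¹ := by group
        rw [h2, h1, mul_one, mul_inv_cancel]
      obtain ⟨m, hm⟩ := MulAction.exists_smul_eq ↥M ((g⁻¹ • R).subtype hR'M) (R.subtype hRM)
      rw [Sylow.smul_subtype hR'M] at hm
      have hfix : ((m : G) * g⁻¹) • R = R := by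
        rw [mul_smul]
        exact Sylow.subtype_injective hm
      rw [Sylow.smul_eq_iff_mem_normalizer] at hfix
      have hR1 : (R : Subgroup G) ≠ ⊥ := fun h0 => hx1 (by rw [h0] at hxR; exact hxR)
      have h3 := hA _ R.isPGroup' hR1 hRM hfix
      have h4 := M.mul_mem (M.inv_mem m.2) h3
      rw [inv_mul_cancel_left] at h4
      simpa using M.inv_mem h4

end Cfsg.Agent.S2947
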