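import Cfsg.Statements.S2949
import Cfsg.Agent.Lib.JComp.Straddle

set_option autoImplicit false
open Cfsg

namespace Cfsg.Agent.S2949

/-- Let G be a finite group of characteristic 2 type in which every 2-local subgroup is solvable and the centralizer of Ω₁(Z(S)) lies in N_G(S) for every Sylow 2-subgroup S; suppose O₂(G) = 1, fix a Sylow 2-subgroup S and a 2-local subgroup M containing N_G(J(S)) (J the Thompson subgroup generated by the elementary abelian 2-subgroups of largest order). For every T maximal (for the order of a largest elementary abelian subgroup, then the order of J(T), then the order of T) among the nontrivial 2-subgroups of M lying in a 2-local subgroup not inside M, there is a J(T)-component K not contained in M with J(T) the Thompson subgroup of every Sylow 2-subgroup of N_G(W_K) containing J(T), and O₂(⟨K, T⟩) ≠ 1. -/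
theorem result {G : Type*} [Group G] [Finite G] (hL : Cfsg.IsCharacteristicTwoType G) (hN : ∀ N : Subgroup G, Cfsg.IsTwoLocal N → Group.IsSolvable ↥N)
    (hZ : ∀ S : Sylow 2 G, Subgroup.centralizer (Cfsg.omegaCenterOf (S : Subgroup G) : Set G) ≤ Subgroup.normalizer ((S : Subgroup G) : Set G)) (hO : Cfsg.pCore 2 G = ⊥) (S : Sylow 2 G) (M : Subgroup G) (hM : Cfsg.IsTwoLocal M)
    (hMJ : Subgroup.normalizer (Cfsg.thompsonSubgroupOf 2 (S : Subgroup G) : Set G) ≤ M) (T : Subgroup G) (hT : T ∈ Cfsg.maxStraddlingTwoSubgroups M) :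
    (Cfsg.jComponentsOutside M T).Nonempty := by
  have hSM : (S : Subgroup G) ≤ M :=
    (Subgroup.le_normalizer.trans (CfsgLib.PLocal.normalizer_le_normalizer_thompsonSubgroupOf _)).trans hMJ
  have hNJ := CfsgLib.JComp.normalizer_thompson_le hSM hMJ hT
  obtain ⟨L, hL2, hTL, hLM⟩ := hT.1.2.2.2
  have h4 := CfsgLib.JComp.straddle_overgroup_self hL hNJ hT hL2 hLM hTL
  have c : CfsgLib.JComp.Ctx T L := ⟨hT.1.1, hT.1.2.1, h4, hN, hZ⟩
  obtain ⟨K, hK, hKL, hKM⟩ := c.exists_component_outside (inf_le_left.trans hNJ) hLM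
  refine ⟨K, ⟨hK, fun S' hJS' hS' => ?_⟩, hKM, ?_⟩
  · have hKN : K ≤ Subgroup.normalizer (Cfsg.wOf K : Set G) :=
      le_sup_left.trans (CfsgLib.JComp.le_normalizer_wOf hK)
    exact (CfsgLib.JComp.straddle_overgroup hL hNJ hT (CfsgLib.JComp.normalizer_wOf_twoLocal hK)
      (fun h => hKM (hKN.trans h)) hS' hJS').1.symm
  · intro h
    apply c.core_ne_bot
    rw [eq_bot_iff, ← h]
    have hKT : K ⊔ T ≤ L := sup_le hKL c.T_le
    exact CfsgLib.JComp.two_le_pCoreOf (CfsgLib.JComp.pCoreOf_isPGroup L) (c.core_le_T.trans le_sup_right)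
      (hKT.trans c.L_le_normalizer_core)

end Cfsg.Agent.S2949
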