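import Cfsg.Statements.S5339
import Cfsg.Agent.Lib.Fusion.Basic

set_option autoImplicit false
open Cfsg

namespace Cfsg.Agent.S5339

/-- Let F be a saturated fusion system over a nontrivial finite p-group S such that Aut_F(S) consists of inner automorphisms only and S has no strongly closed subgroup other than 1 and S. Then F is simple. -/
theorem result {Ω : Type*} [Group Ω] {S : Subgroup Ω} [Finite S] (p : ℕ) [Fact p.Prime] (hS : IsPGroup p S) (F : Cfsg.FusionSystem S) (hF : F.IsSaturated p) (hS1 : S ≠ ⊥) (htop : F.autGroup S = Cfsg.Inn ↥S) (hsc : ∀ T : Subgroup Ω, F.StronglyClosed T → T = ⊥ ∨ T = S) : F.IsSimple p := by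
  refine ⟨hF, hS1, fun T E hE => ?_⟩
  obtain ⟨⟨-, -, hsub, hT, -, hfrat⟩, -⟩ := hE
  rcases hsc T hT with hT' | hT'
  · exact Or.inl hT'
  subst hT'
  refine Or.inr ⟨rfl, fun P => subset_antisymm (hsub P) fun φ hφ => ?_⟩
  have hPS : P ≤ T := (F.le_of_mem hφ).1
  obtain ⟨α, hα, φ₀, hφ₀, heq⟩ := hfrat P hPS φ hφ
  rw [htop] at hα
  obtain ⟨g, rfl⟩ := hα
  refine CfsgLib.Fusion.mem_of_comp hφ₀ (E.conj_mem (le_refl T) g.2)
    (fun x => (E.le_of_mem hφ₀).2 x) φ fun x => ?_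
  rw [heq x ((E.le_of_mem hφ₀).2 x)]
  rfl

end Cfsg.Agent.S5339
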