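import Cfsg.Statements.S5340
import Cfsg.Agent.S5339

set_option autoImplicit false
open Cfsg

namespace Cfsg.Agent.S5340

/-- Let F be a saturated fusion system over a nontrivial finite p-group S such that S is generated by its elements of order p, any two subgroups of S of order p are F-conjugate, and Aut_F(S) consists of inner automorphisms only. Then F is simple. -/
theorem result {Ω : Type*} [Group Ω] {S : Subgroup Ω} [Finite S] (p : ℕ) [Fact p.Prime] (hS : IsPGroup p S) (F : Cfsg.FusionSystem S) (hF : F.IsSaturated p) (hS1 : S ≠ ⊥) (hgen : Subgroup.closure {x : Ω | x ∈ S ∧ orderOf x = p} = S) (htr : ∀ A B : Subgroup Ω, A ≤ S → B ≤ S → Nat.card A = p → Nat.card B = p → F.IsConj A B) (htop : F.autGroup S = Cfsg.Inn ↥S) : F.IsSimple p := by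
  refine Cfsg.Agent.S5339.result p hS F hF hS1 htop fun T hT => ?_
  refine or_iff_not_imp_left.2 fun hT1 => ?_
  have hTp : IsPGroup p T := hS.to_le hT.1
  have : Finite T := CfsgLib.Fusion.finite_of_le hT.1
  have hdvd : p ∣ Nat.card T := by
    obtain ⟨n, hn⟩ := IsPGroup.iff_card.1 hTp
    rcases n.eq_zero_or_pos with rfl | hn0
    · exact absurd (Subgroup.card_eq_one.1 (by simpa using hn)) hT1
    · exact hn ▸ dvd_pow_self p hn0.ne'
  obtain ⟨a, ha⟩ := exists_prime_orderOf_dvd_card' p hdvd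
  refine le_antisymm hT.1 ?_
  rw [← hgen, Subgroup.closure_le]
  rintro x ⟨hxS, hx⟩
  have haT : Subgroup.zpowers (a : Ω) ≤ T := Subgroup.zpowers_le.2 a.2
  obtain ⟨φ, hφ, hr⟩ := htr (Subgroup.zpowers (a : Ω)) (Subgroup.zpowers x) (haT.trans hT.1)
    (Subgroup.zpowers_le.2 hxS) (by rw [Nat.card_zpowers, Subgroup.orderOf_coe, ha])
    (by rw [Nat.card_zpowers, hx])
  have hxr : x ∈ φ.range := hr ▸ Subgroup.mem_zpowers x
  obtain ⟨y, rfl⟩ := hxr
  exact hT.2 _ haT φ hφ y

end Cfsg.Agent.S5340
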