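import Cfsg.Statements.S5317
import Cfsg.Agent.S5340
import Cfsg.Agent.Lib.PSL2Sub.Bounds
import Cfsg.Agent.Lib.InvChar.SL2Pair
import Cfsg.Agent.Lib.Fusion.Stability
import Cfsg.Agent.Lib.Fusion.Group

set_option autoImplicit false
open Cfsg

namespace Cfsg.Agent.S5317

open Matrix

/-- An automorphism of odd order of a dihedral 2-group of order at least 8 is trivial. -/
theorem aut_eq_one (k : ℕ) (hk : 2 ≤ k) (a : MulAut (DihedralGroup (2 ^ k)))
    (ha : (orderOf a).Coprime 2) : a = 1 := by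
  haveI : Fact (Nat.Prime 2) := ⟨Nat.prime_two⟩
  haveI : NeZero (2 ^ k) := ⟨by positivity⟩
  haveI : Finite (MulAut (DihedralGroup (2 ^ k))) :=
    Finite.of_injective (fun f => (f : DihedralGroup (2 ^ k) → DihedralGroup (2 ^ k)))
      DFunLike.coe_injective
  obtain ⟨u, hu⟩ : ∃ u, a (DihedralGroup.r 1) = DihedralGroup.r u := by
    have h := (MulEquiv.orderOf_eq a (DihedralGroup.r 1)).trans DihedralGroup.orderOf_r_one
    rcases hx : a (DihedralGroup.r 1) with i | i
    · exact ⟨i, rfl⟩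
    · rw [hx, DihedralGroup.orderOf_sr] at h
      have : 2 ^ 2 ≤ 2 ^ k := Nat.pow_le_pow_right two_pos hk
      omega
  have har : ∀ i : ZMod (2 ^ k), a (DihedralGroup.r i) = DihedralGroup.r (u * i) := by
    intro i
    have e1 : DihedralGroup.r i = DihedralGroup.r (1 : ZMod (2 ^ k)) ^ i.val := by
      rw [DihedralGroup.r_one_pow, ZMod.natCast_zmod_val]
    rw [e1, map_pow, hu,
      show DihedralGroup.r u = DihedralGroup.r (1 : ZMod (2 ^ k)) ^ u.val by
        rw [DihedralGroup.r_one_pow, ZMod.natCast_zmod_val],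
      ← pow_mul, DihedralGroup.r_one_pow, Nat.cast_mul, ZMod.natCast_zmod_val,
      ZMod.natCast_zmod_val]
  have hpow : ∀ j : ℕ, (a ^ j) (DihedralGroup.r 1) = DihedralGroup.r (u ^ j) := by
    intro j
    induction j with
    | zero => simp
    | succ j ih => rw [pow_succ', MulAut.mul_apply, ih, har, pow_succ']
  have hun : u ^ orderOf a = 1 := by
    have h := hpow (orderOf a)
    rw [pow_orderOf_eq_one, MulAut.one_apply] at h
    exact (DihedralGroup.r.inj h).symm
  obtain ⟨w, hw⟩ := IsUnit.of_pow_eq_one hun (orderOf_pos a).ne'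
  have hu1 : u = 1 := by
    have h1 : orderOf w ∣ orderOf a :=
      orderOf_dvd_of_pow_eq_one (Units.ext (by rw [Units.val_pow_eq_pow_val, hw, hun, Units.val_one]))
    have h2 : orderOf w ∣ 2 ^ (k - 1) := by
      refine orderOf_dvd_of_pow_eq_one ?_
      have h := ZMod.pow_totient w
      rwa [Nat.totient_prime_pow Nat.prime_two (by omega : 0 < k), show (2 : ℕ) - 1 = 1 from rfl,
        mul_one] at h
    have h3 := Nat.dvd_gcd h1 h2
    rw [Nat.Coprime.gcd_eq_one (Nat.Coprime.pow_right _ ha), Nat.dvd_one, orderOf_eq_one_iff] at h3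
    rw [← hw, h3, Units.val_one]
  have hr : ∀ i, a (DihedralGroup.r i) = DihedralGroup.r i := fun i => by rw [har, hu1, one_mul]
  obtain ⟨j, hj⟩ : ∃ j, a (DihedralGroup.sr 0) = DihedralGroup.sr j := by
    rcases hx : a (DihedralGroup.sr 0) with i | i
    · rw [← hr i] at hx
      exact nomatch a.injective hx
    · exact ⟨i, rfl⟩
  have hD : IsPGroup 2 (DihedralGroup (2 ^ k)) :=
    IsPGroup.of_card (n := k + 1) (by rw [DihedralGroup.nat_card, pow_succ'])
  have hs : a (DihedralGroup.sr 0) = DihedralGroup.sr 0 := by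
    refine CfsgLib.Fusion.Stability.eq_self_of_disp_fixed hD a ha ?_
    rw [hj, DihedralGroup.inv_sr, DihedralGroup.sr_mul_sr]
    exact hr _
  refine MulEquiv.ext fun x => ?_
  rw [MulAut.one_apply]
  rcases x with i | i
  · exact hr i
  · rw [show DihedralGroup.sr i = DihedralGroup.sr 0 * DihedralGroup.r i by
      rw [DihedralGroup.sr_mul_r, zero_add], map_mul, hs, hr]

/-- The Sylow 2-subgroups of `PSL₂(q)`, `q` odd with `16 ∣ q² - 1`, are dihedral. -/
theorem exists_dihedral_sylow {F : Type*} [Field F] [Fintype F]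
    (hodd : Fintype.card F % 2 = 1) (h16 : 16 ∣ Fintype.card F ^ 2 - 1)
    (S : Sylow 2 (ProjectiveSpecialLinearGroup (Fin 2) F)) :
    ∃ k, 2 ≤ k ∧ Nonempty (↥(S : Subgroup (ProjectiveSpecialLinearGroup (Fin 2) F)) ≃*
      DihedralGroup (2 ^ k)) := by
  classical
  haveI : Fact (Nat.Prime 2) := ⟨Nat.prime_two⟩
  set q := Fintype.card F with hq
  have hq3 : 3 ≤ q := by
    have : 1 < q := Fintype.one_lt_card
    omega
  have hd : Nat.gcd 2 (q - 1) = 2 := Nat.gcd_eq_left (Nat.dvd_of_mod_eq_zero (by omega))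
  have hsq : q ^ 2 - 1 = (q + 1) * (q - 1) := by simpa using Nat.sq_sub_sq q 1
  have h8 : q % 8 = 1 ∨ q % 8 = 7 := by
    have h0 : q ^ 2 % 16 = 1 := by
      have : 1 ≤ q ^ 2 := Nat.one_le_pow _ _ (by omega)
      omega
    rw [Nat.pow_mod] at h0
    have h : q % 16 < 16 := Nat.mod_lt _ (by norm_num)
    rcases lt_or_ge (q % 16) 8 with hl | hl <;> interval_cases hh : q % 16 <;>
      first | omega | norm_num at h0
  obtain ⟨τ, n, n', hτ, hn, hn8, hn4, hnn⟩ : ∃ (τ : F) (n n' : ℕ), τ ^ 2 ≠ 4 ∧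
      Nat.card (Subgroup.centralizer
        ({CfsgLib.SL2Trace.comp τ} : Set (SpecialLinearGroup (Fin 2) F))) = n ∧
      n % 8 = 0 ∧ n' % 4 = 2 ∧ q ^ 2 - 1 = n * n' := by
    rcases h8 with h | h
    · obtain ⟨u, hu⟩ := IsCyclic.exists_ofOrder_eq_natCard (α := Fˣ)
      rw [Nat.card_units, Nat.card_eq_fintype_card, ← hq] at hu
      have hu0 : (u : F) ≠ 0 := u.ne_zero
      have hu2 : (u : F) * u ≠ 1 := fun e => by
        have h2 : orderOf u ∣ 2 :=
          orderOf_dvd_of_pow_eq_one (Units.ext (by simp [pow_two, e]))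
        rw [hu] at h2
        have := Nat.le_of_dvd two_pos h2
        omega
      have hτ : ((u : F) + (u : F)⁻¹) ^ 2 ≠ 4 := fun e => by
        apply hu2
        have h0 : ((u : F) - (u : F)⁻¹) ^ 2 = 0 := by
          have : (u : F) * (u : F)⁻¹ = 1 := mul_inv_cancel₀ hu0
          linear_combination e - 4 * this
        have h1 := sub_eq_zero.1 ((pow_eq_zero_iff two_ne_zero).1 h0)
        nth_rewrite 2 [h1]
        exact mul_inv_cancel₀ hu0
      refine ⟨_, q - 1, q + 1, hτ, (CfsgLib.SL2Trace.card_centralizer_comp _ hτ).1 ⟨u, ?_⟩,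
        by omega, by omega, by rw [hsq, mul_comm]⟩
      have : (u : F) * (u : F)⁻¹ = 1 := mul_inv_cancel₀ hu0
      linear_combination -this
    · obtain ⟨τ, hτ⟩ := CfsgLib.SL2Trace.exists_anisotropic_trace (F := F)
      have hτ4 : τ ^ 2 ≠ 4 := fun e => hτ (CfsgLib.SL2Trace.exists_root_of_sq_eq_four τ e)
      exact ⟨τ, q + 1, q - 1, hτ4, (CfsgLib.SL2Trace.card_centralizer_comp τ hτ4).2 hτ,
        by omega, by omega, hsq⟩
  obtain ⟨c, s, hc, hs, hsc, hout⟩ := CfsgLib.PSL2Sub.exists_torus τ hτ n hn (by rw [← hq]; omega)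
  rw [← hq, hd] at hc
  have hn0 : 0 < n := by rw [← hn]; exact Nat.card_pos
  obtain ⟨k, o, ho, hm⟩ :=
    Nat.exists_eq_pow_mul_and_not_dvd (show n / 2 ≠ 0 by omega) 2 (by norm_num)
  have ho2 : o % 2 = 1 := Nat.two_dvd_ne_zero.1 ho
  have hk : 2 ≤ k := by
    by_contra hlt
    interval_cases k <;> omega
  have hc2 : orderOf (c ^ o) = 2 ^ k := by
    rw [orderOf_pow' c (by omega), hc, hm, Nat.gcd_eq_right (Dvd.intro_left _ rfl),
      Nat.mul_div_cancel _ (by omega)]
  obtain ⟨H, -, -, hH, ⟨eH⟩⟩ := CfsgLib.PSL2Sub.exists_dihedral (c ^ o) s hs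
    (by rw [← conj_pow, hsc, inv_pow])
    fun h => hout (Subgroup.zpowers_le.2 (Subgroup.npow_mem_zpowers c o) h)
  rw [hc2] at hH eH
  have hG : Nat.card (ProjectiveSpecialLinearGroup (Fin 2) F) = 2 ^ (k + 1) * (q * o * (n' / 2)) := by
    have h := CfsgLib.PSL2Sub.gcd_mul_card_PS (F := F)
    rw [← hq, hd, hnn, show n = 2 * (2 ^ k * o) by omega, show n' = 2 * (n' / 2) by omega] at h
    refine Nat.eq_of_mul_eq_mul_left two_pos (h.trans ?_)
    ring
  have hfac : (Nat.card (ProjectiveSpecialLinearGroup (Fin 2) F)).factorization 2 = k + 1 := by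
    have hodd' : ¬ 2 ∣ q * o * (n' / 2) := by
      rw [Nat.Prime.dvd_mul Nat.prime_two, Nat.Prime.dvd_mul Nat.prime_two]
      omega
    rw [hG, Nat.factorization_mul (pow_ne_zero _ two_ne_zero) (fun h0 => hodd' (by rw [h0]; exact dvd_zero 2)),
      Finsupp.add_apply, Nat.factorization_eq_zero_of_not_dvd hodd',
      Nat.factorization_pow_self Nat.prime_two, add_zero]
  let P : Sylow 2 (ProjectiveSpecialLinearGroup (Fin 2) F) :=
    Sylow.ofCard H (by rw [hH, hfac, pow_succ'])
  exact ⟨k, hk, ⟨(Sylow.equiv S P).trans eH⟩⟩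

/-- All involutions of `PSL₂(q)`, `q` odd, are conjugate. -/
theorem involutions_conj {F : Type*} [Field F] [Fintype F] (hodd : Fintype.card F % 2 = 1)
    (a b : ProjectiveSpecialLinearGroup (Fin 2) F) (ha : orderOf a = 2) (hb : orderOf b = 2) :
    ∃ g, g * a * g⁻¹ = b := by
  have h2 : (2 : F) ≠ 0 := CfsgLib.Linear.two_ne_zero_of_odd_card (Nat.odd_iff.2 hodd)
  obtain ⟨M, rfl⟩ := QuotientGroup.mk_surjective a
  obtain ⟨N, rfl⟩ := QuotientGroup.mk_surjective b
  have key : ∀ A : SpecialLinearGroup (Fin 2) F,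
      orderOf (QuotientGroup.mk A : ProjectiveSpecialLinearGroup (Fin 2) F) = 2 → A * A = -1 := by
    intro A hA
    have h1 : (QuotientGroup.mk A : ProjectiveSpecialLinearGroup (Fin 2) F) * QuotientGroup.mk A = 1 :=
      CfsgLib.InvChar.mul_self_eq_one_of_orderOf_two hA
    rw [← QuotientGroup.mk_mul, QuotientGroup.eq_one_iff] at h1
    refine (CfsgLib.InvChar.sl2_center h2 h1).resolve_left fun h => ?_
    have hc := CfsgLib.SL2Trace.mem_center_of_sq_eq_one h2 h
    rw [(QuotientGroup.eq_one_iff A).2 hc, orderOf_one] at hA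
    omega
  obtain ⟨U, hU⟩ := CfsgLib.InvChar.sl2_conj_of_sq_eq_neg h2 (key M ha) (key N hb)
  exact ⟨QuotientGroup.mk U, by rw [hU]; rfl⟩

/-- Let F be a finite field of odd order q with q² ≡ 1 mod 16 (so that a Sylow 2-subgroup of PSL(2,q), dihedral of order the 2-part of (q²−1)/2, has order at least 8). Then the 2-fusion system of PSL(2,F) on a Sylow 2-subgroup is simple: saturated, over a nontrivial 2-group, with no normal subsystem other than the trivial one and itself. -/
theorem result {F : Type*} [Field F] [Fintype F] (hodd : Fintype.card F % 2 = 1) (h16 : 16 ∣ Fintype.card F ^ 2 - 1)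
    (S : Sylow 2 (Matrix.ProjectiveSpecialLinearGroup (Fin 2) F)) :
    (Cfsg.groupFusionSystem (S : Subgroup (Matrix.ProjectiveSpecialLinearGroup (Fin 2) F))).IsSimple 2 := by
  classical
  haveI : Fact (Nat.Prime 2) := ⟨Nat.prime_two⟩
  obtain ⟨k, hk, ⟨e⟩⟩ := exists_dihedral_sylow hodd h16 S
  set T := (S : Subgroup (Matrix.ProjectiveSpecialLinearGroup (Fin 2) F)) with hT
  have hsat := CfsgLib.Fusion.groupFusionSystem_isSaturated S
  have hcardT : Nat.card T = 2 ^ (k + 1) := by
    rw [Nat.card_congr e.toEquiv, DihedralGroup.nat_card, pow_succ']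
  have : Finite (MulAut T) := CfsgLib.Fusion.finite_mulAut
  refine Cfsg.Agent.S5340.result (S := T) 2 S.2 _ hsat ?_ ?_ ?_ ?_
  · intro hbot
    rw [hbot, Subgroup.card_bot] at hcardT
    have : 2 ≤ 2 ^ (k + 1) := Nat.le_self_pow (by omega) 2
    omega
  · refine le_antisymm ((Subgroup.closure_le _).2 fun x hx => hx.1) fun x hx => ?_
    have key : ∀ i, ((e.symm (DihedralGroup.sr i) : T) : Matrix.ProjectiveSpecialLinearGroup (Fin 2) F) ∈
        Subgroup.closure {x | x ∈ T ∧ orderOf x = 2} := fun i => Subgroup.subset_closure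
      ⟨(e.symm _).2, by rw [Subgroup.orderOf_coe, MulEquiv.orderOf_eq, DihedralGroup.orderOf_sr]⟩
    rcases hx' : e ⟨x, hx⟩ with i | i
    · have : x = ((e.symm (DihedralGroup.sr 0) * e.symm (DihedralGroup.sr i) : T) : Matrix.ProjectiveSpecialLinearGroup (Fin 2) F) := by
        rw [← map_mul, DihedralGroup.sr_mul_sr, sub_zero, ← hx', MulEquiv.symm_apply_apply]
      rw [this, Subgroup.coe_mul]
      exact Subgroup.mul_mem _ (key 0) (key i)
    · have : x = ((e.symm (DihedralGroup.sr i) : T) : Matrix.ProjectiveSpecialLinearGroup (Fin 2) F) := by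
        rw [← hx', MulEquiv.symm_apply_apply]
      rw [this]
      exact key i
  · intro A B hA hB hcA hcB
    obtain ⟨a, ha⟩ := exists_prime_orderOf_dvd_card' (G := A) 2 (by rw [hcA])
    obtain ⟨b, hb⟩ := exists_prime_orderOf_dvd_card' (G := B) 2 (by rw [hcB])
    rw [← Subgroup.orderOf_coe] at ha hb
    have hA' : Subgroup.zpowers (a : Matrix.ProjectiveSpecialLinearGroup (Fin 2) F) = A :=
      Subgroup.eq_of_le_of_card_ge (Subgroup.zpowers_le.2 a.2) (by rw [Nat.card_zpowers, ha, hcA])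
    have hB' : Subgroup.zpowers (b : Matrix.ProjectiveSpecialLinearGroup (Fin 2) F) = B :=
      Subgroup.eq_of_le_of_card_ge (Subgroup.zpowers_le.2 b.2) (by rw [Nat.card_zpowers, hb, hcB])
    obtain ⟨g, hg⟩ := involutions_conj hodd _ _ ha hb
    have hr : (Cfsg.conjHom A g).range = B := by
      rw [Cfsg.conjHom, MonoidHom.range_comp, Subgroup.range_subtype, ← hA', MonoidHom.map_zpowers,
        ← hB']
      exact congrArg Subgroup.zpowers hg
    refine ⟨Cfsg.conjHom A g, ⟨hA, fun x => hB ?_, g, fun x => rfl⟩, hr⟩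
    rw [← hr]
    exact ⟨x, rfl⟩
  · have hp : IsPGroup 2 ((Cfsg.groupFusionSystem T).autGroup T) := by
      refine CfsgLib.Fusion.Stability.isPGroup_of_coprime_eq_one fun α hα => ?_
      have h1 : MulAut.congr e (α : MulAut T) = 1 := aut_eq_one k hk _ (by
        rwa [MulEquiv.orderOf_eq, Subgroup.orderOf_coe])
      exact Subtype.ext ((MulEquiv.map_eq_one_iff _).1 h1)
    refine le_antisymm (fun α hα => ?_) (CfsgLib.Fusion.inn_le_autGroup _ le_rfl)
    obtain ⟨-, R, hR⟩ := CfsgLib.Fusion.isFullyAutomized_of_isFullyNormalized S.2 hsat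
      (CfsgLib.Fusion.isFullyNormalized_top _)
    have htop : (R : Subgroup ((Cfsg.groupFusionSystem T).autGroup T)) = ⊤ :=
      (R.3 (hp.to_subgroup ⊤) le_top).symm
    have := (le_of_eq (htop.symm.trans hR)) (Subgroup.mem_top ⟨α, hα⟩)
    rw [CfsgLib.Fusion.inn_eq_autInducedBy]
    exact this

end Cfsg.Agent.S5317
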