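import Cfsg.Statements.S4648
import Cfsg.Agent.Lib.Blocks.Brandt.OneSimple
import Cfsg.Agent.Lib.BlockRank.RankOne
import Cfsg.Agent.Lib.BlockRank.NilpotentAbelian
import Cfsg.Agent.Lib.Blk83.PairFusion

set_option autoImplicit false
open Cfsg

set_option maxHeartbeats 1600000
set_option synthInstance.maxHeartbeats 400000

namespace Cfsg.Agent.S4648

open CfsgLib CfsgLib.Blocks CfsgLib.Blocks.Pairs CfsgLib.BlockRank
open scoped Classical

universe u

variable {G : Type u} [Group G] [Finite G] {p : ℕ} [Fact p.Prime] {M : Ideal AlgInt}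

/-- The order of the defect group is the number of characters. -/
theorem card_eq (hM : IsPModular p M) {B : Set (IrrCharacter G)} (hB : IsPBlock M B)
    (hl : blockRank p B = 1) (hk : Nat.card B ≤ 4) : p ^ blockDefect p B = Nat.card B := by
  have : M.IsMaximal := hM.2.1
  have : CharP (ResField M) p := charP_resField hM.1 hM.2.2
  have := Fintype.ofFinite G
  have := Fintype.ofFinite B
  obtain ⟨N, hN⟩ := Brandt.exists_common_degree_of_rankOne hM hB hl hk
  obtain ⟨φ, n, d, hφ, hd, hsum⟩ := exists_rankOne_data hM hB hl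
  have h1 : IsPRegular p (1 : G) := by simp [IsPRegular, hM.1.ne_one]
  obtain ⟨ξ, hξ⟩ := BlockReg.block_nonempty hM hB
  have hval : ∀ χ ∈ B, (χ : G → ℂ) 1 = (N : ℂ) := fun χ hχ => by
    rw [← BlockReg.deg_cast, hN χ hχ]
  have hN0 : (N : ℂ) ≠ 0 := hval ξ hξ ▸ BlockReg.deg_ne_zero ξ
  have hφ1 : φ 1 = ((∑ ψ ∈ B.toFinset, n ψ : ℤ) : ℂ) * N := by
    rw [hφ]
    push_cast
    rw [Finset.sum_mul]
    exact Finset.sum_congr rfl fun ψ hψ => by rw [hval ψ (Set.mem_toFinset.1 hψ)]
  have hone : ∀ χ ∈ B, d χ = 1 := fun χ hχ => by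
    have h2 := hd χ hχ 1 h1
    rw [hval χ hχ, hφ1] at h2
    have h3 : ((d χ : ℤ) * ∑ ψ ∈ B.toFinset, n ψ : ℤ) = (1 : ℤ) := by
      have : (((d χ : ℤ) * ∑ ψ ∈ B.toFinset, n ψ : ℤ) : ℂ) * N = ((1 : ℤ) : ℂ) * N := by
        push_cast at h2 ⊢
        rw [one_mul, mul_assoc, ← h2]
      exact_mod_cast mul_right_cancel₀ hN0 this
    rcases Int.eq_one_or_neg_one_of_mul_eq_one h3 with h | h <;> omega
  rw [← hsum, Finset.sum_congr rfl fun χ hχ => by rw [hone χ (Set.mem_toFinset.1 hχ), one_pow],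
    Finset.sum_const, smul_eq_mul, mul_one, Set.toFinset_card, Nat.card_eq_fintype_card]

/-- In an abelian group of order at most four, an automorphism of order prime to `p` fixing a
non-identity element is trivial. -/
theorem mem_centralizer_of_fix (hM : IsPModular p M) [M.IsMaximal] [CharP (ResField M) p]
    {B e : MonoidAlgebra (ResField M) G} {P : Subgroup G} (hP : PairOf p B P e)
    (hno : NoExt p P e) (hab : ∀ x ∈ P, ∀ y ∈ P, x * y = y * x) (h4 : Nat.card P ≤ 4)
    {y u : G} (hy : y ∈ pairStab P e) (hu : u ∈ P) (hu1 : u ≠ 1) (hfix : y * u * y⁻¹ = u) :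
    y ∈ Subgroup.centralizer (P : Set G) := by
  have hp : p.Prime := Fact.out
  have := Fintype.ofFinite P
  obtain ⟨r, hr, hyr⟩ := exists_pow_mem_centralizer hM hP hno hab hy
  have hN : ∀ a ∈ P, y * a * y⁻¹ ∈ P := fun a ha => (Subgroup.mem_normalizer_iff.1 hy.1 a).1 ha
  have hfixu : y * u = u * y := mul_inv_eq_iff_eq_mul.1 hfix
  rw [Subgroup.mem_centralizer_iff]
  intro a ha
  by_contra hne
  have ha' : y * a * y⁻¹ ≠ a := fun h => hne (mul_inv_eq_iff_eq_mul.1 h).symm
  have haau : a ≠ 1 ∧ a ≠ u := ⟨fun h => hne (by rw [h, one_mul, mul_one]),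
    fun h => hne (by rw [h, hfixu])⟩
  set b := y * a * y⁻¹ with hb
  have hbb : b ≠ 1 ∧ b ≠ u := by
    constructor
    · exact fun h => haau.1 (conj_eq_one_iff.1 h)
    · exact fun h => haau.2 (MulAut.conj y |>.injective (h.trans hfix.symm))
  -- `P` is `1, u, a, b`
  have h1 : ({(1 : P), ⟨u, hu⟩, ⟨a, ha⟩, ⟨b, hN a ha⟩} : Finset P) = Finset.univ := by
    refine Finset.eq_univ_of_card _ ?_
    refine le_antisymm (Finset.card_le_univ _) ?_
    rw [← Nat.card_eq_fintype_card]
    refine h4.trans (le_of_eq ?_)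
    rw [Finset.card_insert_of_notMem (by
        simp [Subtype.ext_iff, Ne.symm hu1, Ne.symm haau.1, Ne.symm hbb.1]),
      Finset.card_insert_of_notMem (by simp [Subtype.ext_iff, Ne.symm haau.2, Ne.symm hbb.2]),
      Finset.card_pair (by simpa [Subtype.ext_iff] using Ne.symm ha')]
  have hcard : Nat.card P = 4 := by
    refine le_antisymm h4 ?_
    rw [Nat.card_eq_fintype_card, ← Finset.card_univ, ← h1]
    rw [Finset.card_insert_of_notMem (by
        simp [Subtype.ext_iff, Ne.symm hu1, Ne.symm haau.1, Ne.symm hbb.1]),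
      Finset.card_insert_of_notMem (by simp [Subtype.ext_iff, Ne.symm haau.2, Ne.symm hbb.2]),
      Finset.card_pair (by simpa [Subtype.ext_iff] using Ne.symm ha')]
  have hp2 : p = 2 := by
    obtain ⟨j, hj⟩ := hP.pair.pgroup.exists_card_eq
    rw [hcard] at hj
    have : p ∣ 4 := hj ▸ dvd_pow_self p (by rintro rfl; simp at hj)
    exact (Nat.prime_dvd_prime_iff_eq hp Nat.prime_two).1 (hp.dvd_of_dvd_pow (n := 2) this)
  -- the square of `y` centralizes `P`
  have hy2 : y ^ 2 ∈ Subgroup.centralizer (P : Set G) := by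
    have hyb : y * b * y⁻¹ = a := by
      have hmem : (⟨y * b * y⁻¹, hN b (hN a ha)⟩ : P) ∈ Finset.univ := Finset.mem_univ _
      rw [← h1] at hmem
      simp only [Finset.mem_insert, Finset.mem_singleton, Subtype.ext_iff, Subgroup.coe_one] at hmem
      rcases hmem with h | h | h | h
      · exact absurd (conj_eq_one_iff.1 h) hbb.1
      · exact absurd (MulAut.conj y |>.injective (h.trans hfix.symm)) hbb.2
      · exact h
      · exact absurd (MulAut.conj y |>.injective (h.trans hb)) (ha'.imp fun h' => h')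
    refine Subgroup.mem_centralizer_iff.2 fun c hc => ?_
    suffices h : y * (y * c * y⁻¹) * y⁻¹ = c by
      rw [eq_comm, ← mul_inv_eq_iff_eq_mul, pow_two, mul_inv_rev]
      simpa [mul_assoc] using h
    have hmem : (⟨c, hc⟩ : P) ∈ Finset.univ := Finset.mem_univ _
    rw [← h1] at hmem
    simp only [Finset.mem_insert, Finset.mem_singleton, Subtype.ext_iff, Subgroup.coe_one] at hmem
    rcases hmem with rfl | rfl | rfl | rfl
    · group
    · rw [hfix, hfix]
    · exact hyb
    · rw [hyb]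
  have := mem_of_pow_mem (p := p) (k := 1) hr hyr (by rw [pow_one, hp2]; exact hy2)
  exact hne (Subgroup.mem_centralizer_iff.1 this a ha)

/-- With as many characters as elements of the defect group the inertial quotient is trivial. -/
theorem pairStab_le (hM : IsPModular p M) [M.IsMaximal] [CharP (ResField M) p]
    {B : Set (IrrCharacter G)} (hB : IsPBlock M B) {P : Subgroup G}
    {e : MonoidAlgebra (ResField M) G} (hP : PairOf p (ebar hB) P e) (hno : NoExt p P e)
    (hab : ∀ x ∈ P, ∀ y ∈ P, x * y = y * x) (hl : blockRank p B = 1)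
    (hcardB : Nat.card B = Nat.card P) (h4 : Nat.card P ≤ 4) :
    pairStab P e ≤ Subgroup.centralizer (P : Set G) := by
  have := Fintype.ofFinite G
  have hpP := hP.pair.pgroup
  have hmaxR := maxR_of_noExt hP hno
  let X : Finset G := (Finset.univ.image fun g : G => Quotient.out (ConjClasses.mk g)).filter
    fun x => ∃ k : ℕ, orderOf x = p ^ k
  have hout : ∀ g : G, IsConj g (Quotient.out (ConjClasses.mk g)) := fun g =>
    (ConjClasses.mk_eq_mk_iff_isConj.1 (Quotient.out_eq (ConjClasses.mk g))).symm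
  have hX : ∀ x ∈ X, ∃ k : ℕ, orderOf x = p ^ k := fun x hx => (Finset.mem_filter.1 hx).2
  have hXrep : ∀ g : G, (∃ k : ℕ, orderOf g = p ^ k) → ∃! x, x ∈ X ∧ IsConj g x := by
    intro g ⟨k, hk⟩
    refine ⟨Quotient.out (ConjClasses.mk g), ⟨Finset.mem_filter.2
      ⟨Finset.mem_image.2 ⟨g, Finset.mem_univ _, rfl⟩, k, ?_⟩, hout g⟩, ?_⟩
    · obtain ⟨c, hc⟩ := isConj_iff.1 (hout g)
      rw [← hc, ← hk]
      exact MulEquiv.orderOf_eq (MulAut.conj c) g
    · rintro y ⟨hy, hgy⟩
      obtain ⟨g', -, rfl⟩ := Finset.mem_image.1 (Finset.mem_filter.1 hy).1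
      rw [show ConjClasses.mk g = ConjClasses.mk g' from
        ConjClasses.mk_eq_mk_iff_isConj.2 (hgy.trans (hout g').symm)]
  let S := fun x : G => {b : Set (IrrCharacter (Subgroup.centralizer ({x} : Set G))) |
    IsInducedBlock M (Subgroup.centralizer ({x} : Set G)) b B}
  let T : Finset (Σ x : G, Set (IrrCharacter (Subgroup.centralizer ({x} : Set G)))) :=
    X.sigma fun x => (S x).toFinset
  have hk : Nat.card B = ∑ s ∈ T, blockRank p s.2 := by
    rw [card_eq_sum_sections hM hB X hX hXrep, Finset.sum_sigma]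
    exact Finset.sum_congr rfl fun x _ => finsum_mem_eq_toFinset_sum _ _
  have hmem : ∀ s, s ∈ T ↔ s.1 ∈ X ∧
      IsInducedBlock M (Subgroup.centralizer ({s.1} : Set G)) s.2 B := fun s => by
    simp [T, S, Finset.mem_sigma]
  have hex : ∀ s ∈ T, ∃ g : G, ∃ hb : IsPBlock M s.2, g * s.1 * g⁻¹ ∈ P ∧
      SLE p (Subgroup.zpowers (g * s.1 * g⁻¹)) (conjA g (eIn hb)) P e := by
    intro s hs
    obtain ⟨hsX, hsI⟩ := (hmem s).1 hs
    have hz := BlockRank.isPGroup_zpowers (hX _ hsX)
    have hpair := (BlockRank.isInducedBlock_singleton_iff hM hz hB hsI.1).1 hsI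
    obtain ⟨g, hg⟩ := exists_conj_sle hP hno hpair
    rw [conjSub_zpowers] at hg
    exact ⟨g, hsI.1, hg.le (Subgroup.mem_zpowers _), hg⟩
  choose gg hgb hgP hgle using hex
  let Φ : ∀ s ∈ T, P := fun s hs => ⟨gg s hs * s.1 * (gg s hs)⁻¹, hgP s hs⟩
  -- subsections with values in one orbit coincide
  have hinj : ∀ s₁ (h₁ : s₁ ∈ T) s₂ (h₂ : s₂ ∈ T), ∀ z ∈ pairStab P e,
      z * (Φ s₁ h₁ : G) * z⁻¹ = Φ s₂ h₂ → s₁ = s₂ := by
    rintro ⟨x₁, b₁⟩ h₁ ⟨x₂, b₂⟩ h₂ z hz heq
    have heq' : z * gg _ h₁ * x₁ * (z * gg _ h₁)⁻¹ = gg _ h₂ * x₂ * (gg _ h₂)⁻¹ := by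
      refine Eq.trans ?_ heq
      show z * gg _ h₁ * x₁ * (z * gg _ h₁)⁻¹ = z * (gg _ h₁ * x₁ * (gg _ h₁)⁻¹) * z⁻¹
      group
    have hx : x₁ = x₂ := by
      refine (hXrep x₁ (hX _ ((hmem _).1 h₁).1)).unique ⟨((hmem _).1 h₁).1, IsConj.refl _⟩
        ⟨((hmem _).1 h₂).1, isConj_iff.2 ⟨(gg _ h₂)⁻¹ * (z * gg _ h₁), ?_⟩⟩
      calc _ = (gg _ h₂)⁻¹ * (z * gg _ h₁ * x₁ * (z * gg _ h₁)⁻¹) * gg _ h₂ := by group
        _ = x₂ := by rw [heq']; group
    subst hx
    have hl1 := (hgle _ h₁).conj z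
    rw [conjA_conjA, conjSub_eq_of_mem_normalizer hz.1, hz.2, conjSub_zpowers] at hl1
    rw [show z * (gg _ h₁ * x₁ * (gg _ h₁)⁻¹) * z⁻¹ = z * gg _ h₁ * x₁ * (z * gg _ h₁)⁻¹ by group,
      heq'] at hl1
    have hl2 := hgle _ h₂
    have h3 := SLE.unique hP.pair hl1 hl2
    have h4' : conjA ((gg _ h₂)⁻¹ * (z * gg _ h₁)) (eIn (hgb _ h₁)) = eIn (hgb _ h₂) := by
      rw [← conjA_conjA, h3, conjA_inv_conjA]
    have hc : (gg _ h₂)⁻¹ * (z * gg _ h₁) ∈ Subgroup.centralizer ({x₁} : Set G) := by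
      rw [Subgroup.mem_centralizer_singleton_iff]
      calc _ = (gg _ h₂)⁻¹ * (z * gg _ h₁ * x₁ * (z * gg _ h₁)⁻¹) * (z * gg _ h₁) := by group
        _ = _ := by rw [heq']; group
    rw [conjFixed_iff.mp (isBlockIdem_eIn (hgb _ h₁)).mem.fixed _ hc] at h4'
    obtain rfl : b₁ = b₂ := eIn_injective (hgb _ h₁) (hgb _ h₂) h4'
    rfl
  -- every subsection has rank one
  have hrank : ∀ s ∈ T, blockRank p s.2 = 1 := by
    intro s hsT
    obtain ⟨hsX, hsI⟩ := (hmem s).1 hsT
    by_cases hsc : s.1 ∈ Subgroup.center G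
    · have htop : Subgroup.centralizer ({s.1} : Set G) = ⊤ :=
        (Subgroup.eq_top_iff' _).2 fun y =>
          Subgroup.mem_centralizer_singleton_iff.2 (Subgroup.mem_center_iff.1 hsc y)
      let φ := (MulEquiv.subgroupCongr htop).trans Subgroup.topEquiv
      rw [eq_pullSet_of_central hM hB (BlockRank.isPGroup_zpowers (hX _ hsX)) φ (fun _ => rfl) hsI,
        blockRank_pullSet, hl]
    set H := Subgroup.centralizer ({s.1} : Set G) with hH
    have hH' : H = Subgroup.centralizer (Subgroup.zpowers s.1 : Set G) := by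
      rw [Subgroup.zpowers_eq_closure, Subgroup.centralizer_closure]
    obtain ⟨x, hx⟩ : ∃ x, x = (gg s hsT)⁻¹ := ⟨_, rfl⟩
    have hle' : SLE p (Subgroup.zpowers s.1) (eIn hsI.1) (conjSub x P) (conjA x e) := by
      have := (hgle s hsT).conj x
      rw [← conjSub_zpowers, conjSub_conjSub, hx, inv_mul_cancel, conjSub_one,
        conjA_inv_conjA] at this
      exact hx ▸ this
    have hP₁ : PairOf p (ebar hB) (conjSub x P) (conjA x e) := hP.conj x
    have hno₁ : NoExt p (conjSub x P) (conjA x e) :=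
      (hmaxR.conj (isBlockIdem_ebar hB).mem x).noExt hP₁
    have hab₁ : ∀ a ∈ conjSub x P, ∀ b ∈ conjSub x P, a * b = b * a := by
      rintro _ ⟨a, ha, rfl⟩ _ ⟨b, hb, rfl⟩
      rw [← map_mul, hab a ha b hb, map_mul]
    obtain ⟨hP', hno', hst⟩ := local_pair hH' hP₁ hno₁ hab₁ hle'
    have hdown : down H (eIn hsI.1) = ebar hsI.1 := by rw [eIn, down_up]
    rw [hdown] at hP'
    have habH : ∀ a ∈ (conjSub x P).subgroupOf H, ∀ b ∈ (conjSub x P).subgroupOf H,
        a * b = b * a := fun a ha b hb => Subtype.ext (hab₁ _ ha _ hb)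
    refine (rankOne_of_trivial_inertial hM hsI.1 hP' hno' habH fun y hy => ?_).1
    have hs1 : s.1 ≠ 1 := fun h => hsc (h ▸ (Subgroup.center G).one_mem)
    have hy' := mem_centralizer_of_fix hM hP₁ hno₁ hab₁ (by rw [card_map_conj x P]; exact h4)
      (hst y hy) (hle'.le (Subgroup.mem_zpowers _)) hs1
      (mul_inv_eq_iff_eq_mul.2 (Subgroup.mem_centralizer_singleton_iff.1 y.2))
    exact Subgroup.mem_centralizer_iff.2 fun a ha => Subtype.ext
      (Subgroup.mem_centralizer_iff.1 hy' (a : G) ha)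
  have hT : T.card = Fintype.card P := by
    rw [← Nat.card_eq_fintype_card, ← hcardB, hk, Finset.sum_congr rfl hrank, Finset.sum_const,
      smul_eq_mul, mul_one]
  let f : T → P := fun s => Φ s.1 s.2
  have hf : Function.Injective f := fun s t h => Subtype.ext (hinj _ s.2 _ t.2 1 (one_mem _)
    (by rw [one_mul, inv_one, mul_one]; exact congrArg Subtype.val h))
  have hsurj : Function.Surjective f :=
    ((Fintype.bijective_iff_injective_and_card f).2 ⟨hf, by rw [Fintype.card_coe, hT]⟩).2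
  intro z hz
  refine Subgroup.mem_centralizer_iff.2 fun u hu => ?_
  obtain ⟨s, hs⟩ := hsurj ⟨u, hu⟩
  obtain ⟨t, ht⟩ := hsurj ⟨z * u * z⁻¹, (Subgroup.mem_normalizer_iff.1 hz.1 u).1 hu⟩
  have h := hinj _ s.2 _ t.2 z hz (by
    rw [show (Φ s.1 s.2 : G) = u from congrArg Subtype.val hs]
    exact (congrArg Subtype.val ht).symm)
  have hst : s = t := Subtype.ext h
  have : u = z * u * z⁻¹ := by
    rw [← show (f s : G) = u from congrArg Subtype.val hs, hst]
    exact congrArg Subtype.val ht |>.trans (by rw [← hst, show (f s : G) = u from congrArg Subtype.val hs])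
  exact (eq_mul_inv_iff_mul_eq.1 this)


/-- Let B be a block of the finite group G relative to a maximal ideal M of the algebraic integers containing the prime p, with a nontrivial defect group D. If B has p-regular rank 1 and at most four irreducible characters, then B is nilpotent, D has exactly as many elements as B has irreducible characters, and p is 2 or 3. -/
theorem result {G : Type*} [Group G] [Finite G] (p : ℕ) [Fact p.Prime] (M : Ideal Cfsg.AlgInt) (hM : Cfsg.IsPModular p M) (B : Set (Cfsg.IrrCharacter G)) (hB : Cfsg.IsPBlock M B) (D : Subgroup G) (hD : Cfsg.IsDefectGroup p M B D) (hD1 : D ≠ ⊥) (hl : Cfsg.blockRank p B = 1) (hk : Nat.card B ≤ 4) : Cfsg.IsNilpotentBlock p M B ∧ Nat.card D = Nat.card B ∧ (p = 2 ∨ p = 3) := by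
  have : M.IsMaximal := hM.2.1
  have : CharP (ResField M) p := charP_resField hM.1 hM.2.2
  have hcardD := card_defectGroup hM hB hD
  have hcard := card_eq hM hB hl hk
  rw [hcard] at hcardD
  have hp : p.Prime := Fact.out
  have hd0 : blockDefect p B ≠ 0 := fun h => hD1 (Subgroup.eq_bot_of_card_eq D (by
    rw [hcardD, ← hcard, h, pow_zero]))
  have hp4 : p ≤ 4 := (Nat.le_self_pow hd0 p).trans (hcard.le.trans hk)
  refine ⟨?_, hcardD, ?_⟩
  swap
  · have h2 := hp.two_le
    by_contra hcon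
    have h4 : p = 4 := by omega
    subst h4
    exact absurd hp (by norm_num)
  have hmax := (isDefectGroup_iff_maxR hM hB).1 hD
  obtain ⟨e, hP⟩ := exists_pairOf (p := p) (isBlockIdem_ebar hB) hmax.pgroup hmax.ne_zero
  have hno := hmax.noExt hP
  have hab : ∀ x ∈ D, ∀ y ∈ D, x * y = y * x := by
    have hdef : blockDefect p B ≤ 2 := by
      by_contra h
      have h1 : 2 ^ 3 ≤ p ^ blockDefect p B :=
        (Nat.pow_le_pow_left hp.two_le 3).trans (Nat.pow_le_pow_right hp.pos (by omega))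
      omega
    have hcomm : IsMulCommutative D := by
      rcases (by omega : blockDefect p B = 1 ∨ blockDefect p B = 2) with h | h <;>
        rw [← hcard, h] at hcardD
      · rw [pow_one] at hcardD
        have := isCyclic_of_prime_card hcardD
        exact ⟨⟨fun a b => IsCyclic.commGroup.mul_comm a b⟩⟩
      · exact IsPGroup.isMulCommutative_of_card_eq_prime_sq hcardD
    exact fun x hx y hy => congrArg Subtype.val (hcomm.is_comm.comm ⟨x, hx⟩ ⟨y, hy⟩)
  have htriv := pairStab_le hM hB hP hno hab hl hcardD.symm (hcardD.le.trans hk)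
  rw [CfsgLib.Blk83.isNilpotentBlock_iff hM hB]
  refine CfsgLib.Blk83.nilPairs_of_below hP hno fun Q f hle x hx _ => ?_
  obtain ⟨y, hy, -, c, hc, rfl⟩ := CfsgLib.Blk83.exists_mul_of_comm hP hno hab hle
    (exists_maxIn_of_isBlockIdem hM (hle.pair_left hP.pair).block) hx
  exact Subgroup.mul_mem _ (centralizer_anti hle.le (htriv hy)) hc

end Cfsg.Agent.S4648
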