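import Cfsg.Statements.S3360
import Cfsg.Agent.Lib.Semilinear.TransitiveSolvable
import Cfsg.Agent.Lib.Zsigmondy.Basic

set_option autoImplicit false
open Cfsg
set_option linter.style.haveILetI false

namespace Cfsg.Agent.S3360

open CfsgLib.Semilinear

theorem two_dim_arith {q : ℕ} (hq : q.Prime) (h2 : q ≠ 2) (hle : q + 1 ≤ 24)
    (hodd : ∀ r, r.Prime → r ∣ q + 1 → r ≠ 2 → r = 3) (h9 : ¬ 9 ∣ q + 1) :
    q = 3 ∨ q = 5 ∨ q = 7 ∨ q = 11 ∨ q = 23 := by
  have h3 : 3 ≤ q := by have := hq.two_le; omega
  have h' : q ≤ 23 := by omega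
  by_contra hne
  push Not at hne
  interval_cases q
  all_goals first
    | omega
    | (revert hq; norm_num; done)
    | (have := hodd 7 (by decide); revert this; norm_num; done)
    | (have := hodd 5 (by decide); revert this; norm_num; done)

theorem pow_two_arith {q j r : ℕ} (hq : 3 ≤ q) (hj : 2 ≤ j) (hr : r = 2 * j + 1)
    (h : q ^ j + 1 ≤ 2 * r) : j = 2 ∧ q = 3 := by
  have hgrow : ∀ i, 3 ≤ i → 4 * i + 1 < 3 ^ i := by
    intro i hi
    induction i, hi using Nat.le_induction with
    | base => norm_num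
    | succ i hi ih => rw [pow_succ]; omega
  have h3 : 3 ^ j ≤ q ^ j := Nat.pow_le_pow_left hq j
  have hj2 : j = 2 := by
    by_contra hne
    have := hgrow j (by omega)
    omega
  subst hj2
  refine ⟨rfl, ?_⟩
  nlinarith

/-- No subgroup of order `r ^ 2` when every element of order `r` is fixed-point-free on `B / A`. -/
theorem not_sq_dvd {G : Type*} [Group G] [Finite G] {A B : Subgroup G} [A.Normal] [B.Normal]
    {r : ℕ} [Fact r.Prime]
    (hfree : ∀ x : G, orderOf x = r → ∀ b ∈ B, x * b * x⁻¹ * b⁻¹ ∈ A → b ∈ A)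
    (h : r ^ 2 ∣ Nat.card G) : r ^ 2 ∣ Nat.card (B.map (QuotientGroup.mk' A)) - 1 := by
  classical
  obtain ⟨R, hR⟩ := Sylow.exists_subgroup_card_pow_prime r h
  let π := QuotientGroup.mk' A
  let W := B.map π
  haveI : W.Normal := Subgroup.Normal.map inferInstance π (QuotientGroup.mk'_surjective A)
  let Φ : G →* MulAut W := MulAut.conjNormal.comp π
  let X := {w : W // w ≠ 1}
  letI : MulAction R X :=
    { smul := fun g w => ⟨Φ g w.1, fun h => w.2 ((MulEquiv.map_eq_one_iff _).1 h)⟩
      one_smul := fun w => Subtype.ext (show Φ 1 w.1 = w.1 by rw [map_one]; rfl)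
      mul_smul := fun g g' w => Subtype.ext (show Φ ((g : G) * g') w.1 = Φ g (Φ g' w.1) by
        rw [map_mul]; rfl) }
  have hstab : ∀ w : X, MulAction.stabilizer R w = ⊥ := by
    intro w
    by_contra hne
    obtain ⟨g, hg, hg1⟩ : ∃ g ∈ MulAction.stabilizer R w, g ≠ 1 := by
      simpa [Subgroup.eq_bot_iff_forall] using hne
    have hdvd : r ∣ Nat.card (MulAction.stabilizer R w) := by
      obtain ⟨k, hk⟩ := (IsPGroup.of_card hR).to_subgroup (MulAction.stabilizer R w) |>.exists_card_eq
      rcases Nat.eq_zero_or_pos k with rfl | hk'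
      · rw [pow_zero, Subgroup.card_eq_one] at hk
        rw [hk, Subgroup.mem_bot] at hg
        exact absurd hg hg1
      · rw [hk]; exact dvd_pow_self r hk'.ne'
    obtain ⟨x, hx⟩ := exists_prime_orderOf_dvd_card' r hdvd
    rw [← Subgroup.orderOf_coe, ← Subgroup.orderOf_coe] at hx
    obtain ⟨b, hb, hbw⟩ := Subgroup.mem_map.1 w.1.2
    have hfix : Φ ((x : R) : G) w.1 = w.1 := congrArg Subtype.val x.2
    have hfix' := congrArg Subtype.val hfix
    rw [show ((Φ ((x : R) : G) w.1 : W) : G ⧸ A) = π ((x : R) : G) * (w.1 : G ⧸ A) * (π ((x : R) : G))⁻¹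
      from MulAut.conjNormal_apply _ _, ← hbw] at hfix'
    have hbA := hfree _ hx b hb (by
      rw [← QuotientGroup.eq_one_iff]
      show π (((x : R) : G) * b * ((x : R) : G)⁻¹ * b⁻¹) = 1
      rw [map_mul, map_mul, map_mul, map_inv, map_inv, hfix', mul_inv_cancel])
    exact w.2 (Subtype.ext (hbw.symm.trans ((QuotientGroup.eq_one_iff b).2 hbA)))
  have hc : Nat.card X = Nat.card W - 1 := by
    haveI := Fintype.ofFinite W
    rw [Nat.card_eq_fintype_card, Fintype.card_subtype_compl, Fintype.card_subtype_eq,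
      Nat.card_eq_fintype_card]
  rw [← hc, Nat.card_congr (MulAction.selfEquivOrbitsQuotientProd hstab), Nat.card_prod, hR]
  exact dvd_mul_left _ _

/-- If `|B / A| = 4` and the centralizer of `B` is `A`, then `|G| ≤ 24 |A|`. -/
theorem card_le_of_layer_four {G : Type*} [Group G] [Finite G] {A B : Subgroup G} [A.Normal]
    [B.Normal] (L : Layer A B 2) [IsCyclic A] (hAG : ∀ g : G, ∀ a ∈ A, g * a = a * g)
    (hW : Nat.card (B.map (QuotientGroup.mk' A)) = 4)
    (hcent : ∀ g : G, (∀ b ∈ B, g * b = b * g) → g ∈ A) : Nat.card G ≤ 24 * Nat.card A := by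
  classical
  let π := QuotientGroup.mk' A
  let W := B.map π
  haveI : W.Normal := Subgroup.Normal.map inferInstance π (QuotientGroup.mk'_surjective A)
  let Φ : G →* MulAut W := MulAut.conjNormal.comp π
  haveI : Fintype W := Fintype.ofFinite W
  have h6 : Nat.card Φ.range ≤ 6 := by
    let Ψ : Φ.range → Equiv.Perm {w : W // w ≠ 1} := fun φ =>
      Equiv.subtypeEquiv (φ : MulAut W).toEquiv fun w => not_congr (MulEquiv.map_eq_one_iff _).symm
    refine le_trans (Nat.card_le_card_of_injective Ψ fun φ ψ h => Subtype.ext (MulEquiv.ext fun w => ?_)) ?_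
    · by_cases hw : w = 1
      · rw [hw, map_one, map_one]
      · exact congrArg Subtype.val (Equiv.ext_iff.1 h ⟨w, hw⟩)
    · rw [Nat.card_perm, Nat.card_eq_fintype_card, Fintype.card_subtype_compl,
        Fintype.card_subtype_eq, ← Nat.card_eq_fintype_card, hW]
      exact le_of_eq rfl
  obtain ⟨b1, hb1, hb1A⟩ : ∃ b ∈ B, b ∉ A := by
    by_contra h
    push Not at h
    exact L.ne (le_antisymm h L.le)
  obtain ⟨b2, hb2, hb12⟩ : ∃ c ∈ B, b1 * c ≠ c * b1 := by
    by_contra h
    push Not at h
    exact hb1A (L.center b1 hb1 h)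
  have hgenB : ∀ g : G, g * b1 = b1 * g → g * b2 = b2 * g → ∀ c ∈ B, g * c = c * g := by
    intro g h1 h2 c hc
    let w1 : W := ⟨π b1, Subgroup.mem_map_of_mem π hb1⟩
    let w2 : W := ⟨π b2, Subgroup.mem_map_of_mem π hb2⟩
    have hb2A : b2 ∉ A := fun h => hb12 (L.cent b2 h b1 hb1).symm
    have hw1 : w1 ≠ 1 := fun h => hb1A ((QuotientGroup.eq_one_iff _).1 (congrArg Subtype.val h))
    have hw2 : w2 ≠ 1 := fun h => hb2A ((QuotientGroup.eq_one_iff _).1 (congrArg Subtype.val h))
    have hw12 : w1 ≠ w2 := by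
      intro h
      have ha : b1⁻¹ * b2 ∈ A := (QuotientGroup.eq (s := A)).1 (congrArg Subtype.val h)
      apply hb12
      calc b1 * b2 = b1 * (b1 * (b1⁻¹ * b2)) := by group
        _ = b1 * ((b1⁻¹ * b2) * b1) := by rw [L.cent _ ha b1 hb1]
        _ = b2 * b1 := by group
    have hw3 : w1 * w2 ≠ 1 ∧ w1 * w2 ≠ w1 ∧ w1 * w2 ≠ w2 := by
      refine ⟨fun h => hw12 ?_, fun h => hw2 (mul_eq_left.1 h), fun h => hw1 (mul_eq_right.1 h)⟩
      have h1 : w1 * w1 = 1 := by
        refine Subtype.ext ?_
        show π b1 * π b1 = 1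
        rw [← map_mul, ← pow_two]
        exact (QuotientGroup.eq_one_iff _).2 (L.pow b1 hb1)
      exact (mul_left_cancel (h1.trans h.symm))
    have huniv : (Finset.univ : Finset W) = {1, w1, w2, w1 * w2} := by
      symm
      refine Finset.eq_univ_of_card _ ?_
      rw [← Nat.card_eq_fintype_card, hW]
      rw [Finset.card_insert_of_notMem, Finset.card_insert_of_notMem, Finset.card_insert_of_notMem,
        Finset.card_singleton]
      · simp [hw3.2.2.symm]
      · simp [hw12, hw3.2.1.symm]
      · simp [hw1.symm, hw2.symm, hw3.1.symm]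
    have hcW : (⟨π c, Subgroup.mem_map_of_mem π hc⟩ : W) ∈ ({1, w1, w2, w1 * w2} : Finset W) :=
      huniv ▸ Finset.mem_univ _
    have key : ∀ u : G, π u = π c → Commute g u → g * c = c * g := fun u hu hgu => by
      have ha : u⁻¹ * c ∈ A := (QuotientGroup.eq (s := A)).1 hu
      have h := hgu.mul_right (hAG g _ ha : Commute g (u⁻¹ * c))
      rw [mul_inv_cancel_left] at h
      exact h
    simp only [Finset.mem_insert, Finset.mem_singleton] at hcW
    rcases hcW with h | h | h | h
    · exact key 1 (by rw [map_one]; exact (congrArg Subtype.val h).symm) (Commute.one_right g)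
    · exact key b1 (congrArg Subtype.val h).symm h1
    · exact key b2 (congrArg Subtype.val h).symm h2
    · exact key (b1 * b2) (by rw [map_mul]; exact (congrArg Subtype.val h).symm) (Commute.mul_right h1 h2)
  haveI : Fintype A := Fintype.ofFinite A
  let Z := {a : A // a ^ 2 = 1}
  have hZ : Nat.card Z ≤ 2 := by
    rw [Nat.card_eq_fintype_card, Fintype.card_subtype]
    exact IsCyclic.card_pow_eq_one_le (α := A) two_pos
  have hmem : ∀ g : Φ.ker, ∀ b ∈ B, (g : G) * b * (g : G)⁻¹ * b⁻¹ ∈ A := by
    intro g b hb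
    have h := congrArg Subtype.val (DFunLike.congr_fun g.2 (⟨π b, Subgroup.mem_map_of_mem π hb⟩ : W))
    rw [MulAut.one_apply, show ((Φ g ⟨π b, Subgroup.mem_map_of_mem π hb⟩ : W) : G ⧸ A) =
      π g * π b * (π g)⁻¹ from MulAut.conjNormal_apply _ _] at h
    rw [← QuotientGroup.eq_one_iff]
    show π ((g : G) * b * (g : G)⁻¹ * b⁻¹) = 1
    rw [map_mul, map_mul, map_mul, map_inv, map_inv, h, mul_inv_cancel]
  have hsq : ∀ g : Φ.ker, ∀ b (hb : b ∈ B),
      (⟨(g : G) * b * (g : G)⁻¹ * b⁻¹, hmem g b hb⟩ : A) ^ 2 = 1 := by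
    intro g b hb
    refine Subtype.ext ?_
    have h := hAG g _ (L.pow b hb)
    set a := (g : G) * b * (g : G)⁻¹ * b⁻¹ with ha
    have h2 : ((g : G) * b * (g : G)⁻¹) ^ 2 = b ^ 2 := by
      rw [conj_pow, h, mul_inv_cancel_right]
    rw [show (g : G) * b * (g : G)⁻¹ = a * b by rw [ha]; group,
      Commute.mul_pow (L.cent a (hmem g b hb) b hb)] at h2
    exact mul_eq_right.1 h2
  let f : Φ.ker → Z × Z := fun g => (⟨_, hsq g b1 hb1⟩, ⟨_, hsq g b2 hb2⟩)
  have hf : ∀ g g' : Φ.ker, f g = f g' → (g : G)⁻¹ * g' ∈ A := by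
    intro g g' h
    have e : ∀ b, (g : G) * b * (g : G)⁻¹ * b⁻¹ = (g' : G) * b * (g' : G)⁻¹ * b⁻¹ →
        (g : G)⁻¹ * g' * b = b * ((g : G)⁻¹ * g') := by
      intro b hb
      calc (g : G)⁻¹ * g' * b = (g : G)⁻¹ * ((g' : G) * b * (g' : G)⁻¹ * b⁻¹) * b * g' := by group
        _ = b * ((g : G)⁻¹ * g') := by rw [← hb]; group
    exact hcent _ (hgenB _ (e b1 (congrArg (fun p : Z × Z => ((p.1.1 : A) : G)) h))
      (e b2 (congrArg (fun p : Z × Z => ((p.2.1 : A) : G)) h)))
  haveI : Nonempty Φ.ker := ⟨1⟩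
  have hker : Nat.card Φ.ker ≤ 4 * Nat.card A := by
    refine le_trans (Nat.card_le_card_of_injective (β := (Z × Z) × A)
      (fun g => (f g, ⟨((Function.invFun f (f g) : Φ.ker) : G)⁻¹ * g,
        hf _ _ (Function.invFun_eq ⟨g, rfl⟩)⟩)) fun g g' h => ?_) ?_
    · have h1 := congrArg Prod.fst h
      have h2 := congrArg (fun p : (Z × Z) × A => (p.2 : G)) h
      simp only at h1 h2
      rw [h1] at h2
      exact Subtype.ext (mul_left_cancel h2)
    · rw [Nat.card_prod, Nat.card_prod]
      exact Nat.mul_le_mul_right _ (le_trans (Nat.mul_le_mul hZ hZ) (le_refl 4))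
  rw [Subgroup.card_eq_card_quotient_mul_card_subgroup Φ.ker,
    Nat.card_congr (QuotientGroup.quotientKerEquivRange Φ).toEquiv]
  calc Nat.card Φ.range * Nat.card Φ.ker ≤ 6 * (4 * Nat.card A) := Nat.mul_le_mul h6 hker
    _ = 24 * Nat.card A := by ring

/-- Let q be a prime and V a non-trivial finite vector space over the field with q elements, and let G be a finite solvable group acting faithfully and linearly on V and transitively on the non-zero vectors. Then either V can be identified with the additive group of a finite field F in such a way that every element of G acts as x ↦ a·σ(x) for some a ∈ F and some field automorphism σ, or the number of elements of V is one of 3^2, 5^2, 7^2, 11^2, 23^2, 3^4. -/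
theorem result
    (q : ℕ) [Fact q.Prime] {V : Type*} [AddCommGroup V] [Module (ZMod q) V] [Finite V] [Nontrivial V]
    {G : Type*} [Group G] [Finite G] (hsol : Group.IsSolvable G)
    (ρ : G →* (V ≃ₗ[ZMod q] V)) (hρ : Function.Injective ρ)
    (htrans : ∀ v w : V, v ≠ 0 → w ≠ 0 → ∃ g : G, ρ g v = w) :
    (∃ (F : Type) (_ : Field F) (_ : Fintype F) (e : V ≃+ F),
        ∀ g : G, ∃ (a : F) (σ : F ≃+* F), ∀ v : V, e (ρ g v) = a * σ (e v)) ∨
    Nat.card V ∈ ({9, 25, 49, 121, 529, 81} : Set ℕ) := by
  classical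
  haveI := hsol
  letI : DistribMulAction G V := DistribMulAction.compHom V ρ
  have hsm : ∀ (g : G) (v : V), g • v = ρ g v := fun _ _ => rfl
  have hfaith : ∀ g : G, (∀ v : V, g • v = v) → g = 1 := fun g h =>
    hρ (LinearEquiv.ext fun v => by
      rw [map_one]
      exact h v)
  have htr : ∀ v w : V, v ≠ 0 → w ≠ 0 → ∃ g : G, g • v = w := htrans
  have hq : q.Prime := Fact.out
  haveI : Fintype V := Fintype.ofFinite V
  obtain ⟨v0, hv0⟩ := exists_ne (0 : V)
  have hdvdG : Nat.card V - 1 ∣ Nat.card G := by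
    have horb : MulAction.orbit G v0 = ({0}ᶜ : Set V) := by
      ext w
      constructor
      · rintro ⟨g, rfl⟩ h
        exact hv0 ((smul_eq_zero_iff_eq g).1 h)
      · intro hw
        obtain ⟨g, hg⟩ := htr v0 w hv0 hw
        exact ⟨g, hg⟩
    refine ⟨Nat.card (MulAction.stabilizer G v0), ?_⟩
    rw [← Subgroup.index_mul_card (MulAction.stabilizer G v0), MulAction.index_stabilizer, horb,
      Set.ncard_compl, Set.ncard_singleton]
  obtain ⟨A, -, hAmax⟩ := exists_maximal_ge_of_wellFoundedGT
    (fun B : Subgroup G => B.Normal ∧ ∀ a ∈ B, ∀ b ∈ B, a * b = b * a) ⊥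
    ⟨inferInstance, fun a ha b hb => by
      rw [Subgroup.mem_bot.1 ha, Subgroup.mem_bot.1 hb]⟩
  obtain ⟨hAn, hAc⟩ := hAmax.prop
  haveI := hAn
  have hmax : ∀ B : Subgroup G, B.Normal → (∀ a ∈ B, ∀ b ∈ B, a * b = b * a) → A ≤ B → B = A :=
    fun B hB hBc hAB => le_antisymm (hAmax.2 ⟨hB, hBc⟩ hAB) hAB
  obtain ⟨F, iF, iFF, φ, σ, ι, hφ, hsemi, hι, hker⟩ :=
    exists_field_of_abelian_normal htr hfaith A hAc
  haveI : CharP F q := by
    have hq0 : (q : F) = 0 := by
      by_contra h
      refine hv0 (hφ (q : F) h ?_)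
      rw [map_natCast, map_zero]
      show q • v0 = 0
      rw [← Nat.cast_smul_eq_nsmul (ZMod q), ZMod.natCast_self, zero_smul]
    exact (CharP.charP_iff_prime_eq_zero hq).2 hq0
  obtain ⟨d', -, hFcard'⟩ := FiniteField.card F q
  obtain ⟨d, hd, hFcard⟩ : ∃ d : ℕ, 1 ≤ d ∧ Fintype.card F = q ^ d := ⟨d', d'.pos, hFcard'⟩
  obtain ⟨hcyc, hAut⟩ := isCyclic_ringEquiv_and_card (q := q) (d := d) hFcard
  letI : Module F V := Module.compHom V φ
  have hsmF : ∀ (f : F) (v : V), f • v = φ f v := fun _ _ => rfl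
  obtain ⟨m, hm⟩ : ∃ m, Module.finrank F V = m := ⟨_, rfl⟩
  have hVcard : Nat.card V = (q ^ d) ^ m := by
    rw [Nat.card_eq_fintype_card, Module.card_eq_pow_finrank (K := F), hFcard, hm]
  have hQ : 2 ≤ q ^ d := le_trans hq.two_le (Nat.le_self_pow (by omega) q)
  have hm0 : 1 ≤ m := by
    rcases Nat.eq_zero_or_pos m with rfl | h
    · have := Finite.one_lt_card (α := V)
      rw [hVcard, pow_zero] at this
      omega
    · exact h
  have hιinj : Function.Injective ι := fun a b h => Subtype.ext (by
    refine (inv_mul_eq_one.1 (hfaith ((b : G)⁻¹ * a) fun v => ?_)).symm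
    rw [mul_smul, ← hι, h, hι, inv_smul_smul])
  have hιu : Function.Injective ι.toHomUnits := fun a b h => hιinj (congrArg Units.val h)
  haveI hAcyc : IsCyclic A := isCyclic_of_injective ι.toHomUnits hιu
  have hAdvd : Nat.card A ∣ q ^ d - 1 := by
    have h := Subgroup.card_dvd_of_injective ι.toHomUnits hιu
    rwa [Nat.card_units, Nat.card_eq_fintype_card (α := F), hFcard] at h
  set C := Subgroup.centralizer (A : Set G) with hC
  have hAC : A ≤ C := fun a ha => Subgroup.mem_centralizer_iff.2 fun b hb => hAc b hb a ha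
  have hlin : ∀ g ∈ C, ∀ (f : F) (v : V), g • f • v = f • g • v := by
    intro g hg f v
    rw [← hker, MonoidHom.mem_ker] at hg
    rw [hsmF, hsemi, hg, hsmF]
    rfl
  haveI : Finite (F ≃+* F) := Finite.of_injective _ DFunLike.coe_injective
  have hrange : Nat.card σ.range ∣ d := hAut ▸ Subgroup.card_subgroup_dvd_card σ.range
  -- the semilinear case
  have hsl : m = 1 → ∃ (F : Type) (_ : Field F) (_ : Fintype F) (e : V ≃+ F),
      ∀ g : G, ∃ (a : F) (σ : F ≃+* F), ∀ v : V, e (ρ g v) = a * σ (e v) := by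
    intro hm1
    let f : F →+ V := ((smulAddHom F V).flip v0)
    have hfinj : Function.Injective f := by
      refine (injective_iff_map_eq_zero f).2 fun x hx => ?_
      by_contra hx0
      exact hv0 (hφ x hx0 (hx.trans (map_zero (φ x)).symm))
    have hfb : Function.Bijective f := (Nat.bijective_iff_injective_and_card _).2
      ⟨hfinj, by rw [hVcard, hm1, pow_one, Nat.card_eq_fintype_card, hFcard]⟩
    let e : V ≃+ F := (AddEquiv.ofBijective f hfb).symm
    refine ⟨F, iF, iFF, e, fun g => ⟨e (g • v0), σ g, fun v => ?_⟩⟩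
    have hv : ∀ w : V, φ (e w) v0 = w := fun w => (AddEquiv.ofBijective f hfb).apply_symm_apply w
    refine (AddEquiv.ofBijective f hfb).injective ?_
    show f (e (ρ g v)) = φ (e (g • v0) * σ g (e v)) v0
    rw [mul_comm, map_mul]
    show φ (e (ρ g v)) v0 = φ (σ g (e v)) (φ (e (g • v0)) v0)
    rw [hv, hv, ← hsemi, hv, hsm]
  by_cases hCA : C = A
  · refine Or.inl (hsl ?_)
    by_contra hne
    have hle : Nat.card V - 1 ≤ d * (q ^ d - 1) := by
      refine le_trans (Nat.le_of_dvd Nat.card_pos hdvdG) ?_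
      rw [Subgroup.card_eq_card_quotient_mul_card_subgroup σ.ker,
        Nat.card_congr (QuotientGroup.quotientKerEquivRange σ).toEquiv, hker, hCA]
      exact Nat.mul_le_mul (Nat.le_of_dvd hd hrange) (Nat.le_of_dvd (by omega) hAdvd)
    rw [hVcard] at hle
    have h2 : (q ^ d) ^ 2 ≤ (q ^ d) ^ m := Nat.pow_le_pow_right (by omega) (by omega)
    have hdlt : d < q ^ d := Nat.lt_pow_self hq.one_lt
    obtain ⟨k, hk⟩ : ∃ k, q ^ d = k + 1 := ⟨_, (Nat.sub_add_cancel (by omega)).symm⟩
    rw [hk] at h2 hle hdlt hQ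
    rw [Nat.add_sub_cancel] at hle
    have h3 : (k + 1) ^ 2 ≤ d * k + 1 := by omega
    nlinarith
  · obtain ⟨B, s, hBn, hBC, L⟩ := exists_layer A hAc hmax hCA
    haveI := hBn
    haveI : Fact s.Prime := ⟨L.prime⟩
    obtain ⟨hWle, hWeq⟩ := L.card_le hBC hlin ι (fun a v => by rw [hsmF, hι]) hιinj
    rw [hm] at hWle hWeq
    let W := B.map (QuotientGroup.mk' A)
    have hW2 : 2 ≤ Nat.card W := by
      rcases Nat.lt_or_ge (Nat.card W) 2 with h | h
      · exfalso
        have h1 : Nat.card W = 1 := by have := Nat.card_pos (α := W); omega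
        rw [Subgroup.card_eq_one, Subgroup.map_eq_bot_iff, QuotientGroup.ker_mk'] at h1
        exact L.ne (le_antisymm h1 L.le)
      · exact h
    have hm2 : 2 ≤ m := by
      by_contra h
      obtain rfl : m = 1 := by omega
      have : Nat.card W ≤ 1 := hWle
      omega
    have hWs : ∀ w : W, w ^ s = 1 := by
      rintro ⟨_, b, hb, rfl⟩
      refine Subtype.ext ?_
      show (QuotientGroup.mk' A b) ^ s = 1
      rw [← map_pow]
      exact (QuotientGroup.eq_one_iff _).2 (L.pow b hb)
    obtain ⟨b0, hb0, hb0A⟩ : ∃ b ∈ B, b ∉ A := by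
      by_contra h
      push Not at h
      exact L.ne (le_antisymm h L.le)
    obtain ⟨c0, hc0, hbc0⟩ : ∃ c ∈ B, b0 * c ≠ c * b0 := by
      by_contra h
      push Not at h
      exact hb0A (L.center b0 hb0 h)
    have hw0 : orderOf (⟨QuotientGroup.mk' A b0, Subgroup.mem_map_of_mem _ hb0⟩ : W) = s :=
      orderOf_eq_prime (hWs _) fun h =>
        hb0A ((QuotientGroup.eq_one_iff b0).1 (congrArg Subtype.val h))
    have hsW : s ∣ Nat.card W := hw0 ▸ orderOf_dvd_natCard _
    -- `s` divides `|A|`
    have hsA : s ∣ Nat.card A := by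
      set a := b0 * c0 * b0⁻¹ * c0⁻¹ with ha
      have haA : a ∈ A := L.comm _ hb0 _ hc0
      have hbc : b0 * c0 * b0⁻¹ = a * c0 := by rw [ha]; group
      have hpk : ∀ k : ℕ, b0 ^ k * c0 * (b0 ^ k)⁻¹ = a ^ k * c0 := by
        intro k
        induction k with
        | zero => simp
        | succ k ih =>
          calc b0 ^ (k + 1) * c0 * (b0 ^ (k + 1))⁻¹ = b0 * (b0 ^ k * c0 * (b0 ^ k)⁻¹) * b0⁻¹ := by
                rw [pow_succ']; group
            _ = (b0 * a ^ k) * c0 * b0⁻¹ := by rw [ih]; group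
            _ = (a ^ k * b0) * c0 * b0⁻¹ := by rw [L.cent _ (pow_mem haA k) b0 hb0]
            _ = a ^ k * (b0 * c0 * b0⁻¹) := by group
            _ = a ^ (k + 1) * c0 := by rw [hbc, pow_succ]; group
      have has : a ^ s = 1 := by
        have h := hpk s
        rw [L.cent _ (L.pow b0 hb0) c0 hc0, mul_inv_cancel_right] at h
        exact mul_eq_right.1 h.symm
      have ha1 : a ≠ 1 := fun h => hbc0 (by
        rw [h, one_mul] at hbc
        exact mul_inv_eq_iff_eq_mul.1 hbc)
      have ho : orderOf (⟨a, haA⟩ : A) = s := by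
        rw [← Subgroup.orderOf_coe]
        exact orderOf_eq_prime has ha1
      exact ho ▸ orderOf_dvd_natCard _
    have hsQ : s ∣ q ^ d - 1 := hsA.trans hAdvd
    -- elements of primitive prime order
    have key : ∀ r, r.Prime → r ∣ q ^ (d * m) - 1 →
        (∀ i, 0 < i → i < d * m → ¬ r ∣ q ^ i - 1) →
        d = 1 ∧ r = m + 1 ∧ s = 2 ∧ (∃ h, 0 < h ∧ m = 2 ^ h) ∧ Nat.card W = m * m ∧
          ¬ r ^ 2 ∣ q ^ (d * m) - 1 := by
      intro r hr hrd hmin
      haveI : Fact r.Prime := ⟨hr⟩
      have hn1 : 0 < d * m := Nat.mul_pos (by omega) (by omega)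
      obtain ⟨-, hnr⟩ := CfsgLib.Zsigmondy.dvd_sub_one_of_primitive hq.pos hn1 hrd hmin
      have hrn : d * m < r := by
        have := Nat.le_of_dvd (by have := hr.two_le; omega) hnr
        have := hr.two_le
        omega
      have hdm : d ≤ d * m := Nat.le_mul_of_pos_right d (by omega)
      have hmn : m ≤ d * m := Nat.le_mul_of_pos_left m (by omega)
      have hdn : d < d * m := lt_mul_of_one_lt_right (by omega) (by omega)
      have hrG : r ∣ Nat.card G := (show r ∣ Nat.card V - 1 by
        rwa [hVcard, ← pow_mul]).trans hdvdG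
      have hrs : r ≠ s := fun h => hmin d (by omega) hdn (h ▸ hsQ)
      have hQF : Nat.card F = q ^ d := by rw [Nat.card_eq_fintype_card, hFcard]
      have hprim : ∀ i, 0 < i → i < Module.finrank F V → ¬ r ∣ Nat.card F ^ i - 1 := by
        intro i hi him
        rw [hQF, ← pow_mul]
        exact hmin _ (Nat.mul_pos (by omega) hi) (Nat.mul_lt_mul_of_pos_left (hm ▸ him) (by omega))
      have hcore : ∀ x : G, orderOf x = r → d = 1 ∧ r = m + 1 ∧ s = 2 ∧ (∃ h, 0 < h ∧ m = 2 ^ h) ∧
          Nat.card W = m * m ∧ ∀ b ∈ B, x * b * x⁻¹ * b⁻¹ ∈ A → b ∈ A := by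
        intro x hx
        have hxC : x ∈ C := by
          rw [← hker, MonoidHom.mem_ker, ← orderOf_eq_one_iff]
          have h1 : orderOf (σ x) ∣ r := hx ▸ orderOf_map_dvd σ x
          have h2 : orderOf (σ x) ∣ d := hAut ▸ orderOf_dvd_natCard (σ x)
          rcases (Nat.dvd_prime hr).1 h1 with h | h
          · exact h
          · have := Nat.le_of_dvd (by omega) (h ▸ h2)
            omega
        obtain ⟨h, hpos, hrsh, hle, hfree⟩ := L.exists_square hBC hAcyc
          (fun g hg a ha => (Subgroup.mem_centralizer_iff.1 hg a ha).symm) hlin hfaith hr hrs hxC hx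
          (by rw [hQF, ← pow_mul, hm]; exact hrd) hprim
        have hsh : s ^ h ≤ m := by
          refine Nat.mul_self_le_mul_self_iff.1 ?_
          rw [← pow_add, ← two_mul]
          exact hle.trans hWle
        have hs1 : 2 ≤ s ^ h := le_trans L.prime.two_le (Nat.le_self_pow hpos.ne' s)
        have hr1 : r ∣ s ^ h + 1 := by
          have hsplit : s ^ (2 * h) - 1 = (s ^ h + 1) * (s ^ h - 1) := by
            rw [mul_comm 2 h, pow_mul, ← Nat.sq_sub_sq, one_pow]
          rw [hsplit] at hrsh
          rcases hr.dvd_mul.1 hrsh with h' | h'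
          · exact h'
          · have := Nat.le_of_dvd (by omega) h'
            omega
        have hle' := Nat.le_of_dvd (by omega) hr1
        have hd1 : d = 1 := by
          by_contra hne
          have : m < d * m := lt_mul_of_one_lt_left (by omega) (by omega)
          omega
        have hrm : r = m + 1 := by omega
        have hsm : s ^ h = m := by omega
        have hs2 : s = 2 := by
          by_contra hne
          have ho : Odd (s ^ h) := (L.prime.odd_of_ne_two hne).pow
          have hro : Odd r := hr.odd_of_ne_two (by omega)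
          obtain ⟨a, ha⟩ := ho
          obtain ⟨b, hb⟩ := hro
          omega
        have hWm : Nat.card W = m * m := le_antisymm hWle (by
          rw [← hsm, ← pow_add, ← two_mul]; exact hle)
        exact ⟨hd1, hrm, hs2, ⟨h, hpos, by rw [← hs2, hsm]⟩, hWm,
          hfree (by rw [two_mul, pow_add, hsm]; exact hWm.symm)⟩
      obtain ⟨x, hx⟩ := exists_prime_orderOf_dvd_card' (G := G) r hrG
      obtain ⟨hd1, hrm, hs2, hh, hWm, -⟩ := hcore x hx
      refine ⟨hd1, hrm, hs2, hh, hWm, fun h2 => ?_⟩
      have h3 := not_sq_dvd (fun y hy => (hcore y hy).2.2.2.2.2) ((show r ^ 2 ∣ Nat.card V - 1 by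
        rwa [hVcard, ← pow_mul]).trans hdvdG)
      rw [show Nat.card (B.map (QuotientGroup.mk' A)) = m * m from hWm,
        show m * m - 1 = (m + 1) * (m - 1) by rw [← Nat.sq_sub_sq, one_pow, pow_two],
        ← hrm, pow_two] at h3
      have h4 := Nat.le_of_dvd (by omega) (Nat.dvd_of_mul_dvd_mul_left hr.pos h3)
      omega
    rcases (show d * m = 2 ∨ 2 < d * m by
        have h := Nat.mul_le_mul hd hm2
        omega) with hn | hn
    · -- dimension two
      have hd1 : d = 1 := by
        have h1 : d * 2 ≤ d * m := Nat.mul_le_mul_left d hm2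
        omega
      obtain rfl : m = 2 := by rw [hd1, one_mul] at hn; exact hn
      subst hd1
      rw [pow_one] at hsQ hAdvd hQ
      have hW4 : Nat.card W = 4 := by
        by_contra hne
        have hW4' : Nat.card W ≤ 4 := hWle
        have hWp : (Nat.card W).Prime := by
          rcases (show Nat.card W = 2 ∨ Nat.card W = 3 by omega) with h | h <;> rw [h] <;> norm_num
        haveI : Fact (Nat.card W).Prime := ⟨hWp⟩
        apply hbc0
        have hmem := mem_zpowers_of_prime_card (G := W) (p := Nat.card W) rfl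
          (g := ⟨QuotientGroup.mk' A b0, Subgroup.mem_map_of_mem _ hb0⟩)
          (g' := ⟨QuotientGroup.mk' A c0, Subgroup.mem_map_of_mem _ hc0⟩)
          (fun h => hb0A ((QuotientGroup.eq_one_iff b0).1 (congrArg Subtype.val h)))
        obtain ⟨k, hk⟩ := Subgroup.mem_zpowers_iff.1 hmem
        have hk' := congrArg Subtype.val hk
        rw [Subgroup.coe_zpow] at hk'
        simp only at hk'
        rw [← map_zpow] at hk'
        have ha : (b0 ^ k)⁻¹ * c0 ∈ A := (QuotientGroup.eq (s := A)).1 hk'
        have h1 : Commute b0 ((b0 ^ k)⁻¹ * c0) := (L.cent _ ha b0 hb0).symm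
        have h2 := ((Commute.refl b0).zpow_right k).mul_right h1
        rw [mul_inv_cancel_left] at h2
        exact h2
      have hs2 : s = 2 := (Nat.prime_dvd_prime_iff_eq L.prime Nat.prime_two).1
        (L.prime.dvd_of_dvd_pow (show s ∣ 2 ^ 2 by rw [hW4] at hsW; exact hsW))
      subst hs2
      have hq2 : q ≠ 2 := by
        rintro rfl
        norm_num at hsQ
      have hCtop : C = ⊤ := by
        rw [← hker, MonoidHom.ker_eq_top_iff]
        refine MonoidHom.ext fun g => ?_
        haveI : Subsingleton (F ≃+* F) := (Nat.card_eq_one_iff_unique.1 hAut).1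
        exact Subsingleton.elim _ _
      have hallC : ∀ g : G, g ∈ C := fun g => hCtop ▸ Subgroup.mem_top g
      have hcentA : ∀ g : G, (∀ b ∈ B, g * b = b * g) → g ∈ A := by
        intro g hg
        haveI : (Subgroup.centralizer (B : Set G)).Normal := Subgroup.normal_centralizer
        rw [← hmax (Subgroup.centralizer (B : Set G)) inferInstance (fun a ha b hb => ?_)
          (fun a ha => Subgroup.mem_centralizer_iff.2 fun b hb => (L.cent a ha b hb).symm)]
        · exact Subgroup.mem_centralizer_iff.2 fun b hb => (hg b hb).symm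
        · refine eq_of_mul_inv_eq_one (hfaith _ fun v => ?_)
          have h := hWeq (by rw [show Nat.card (B.map (QuotientGroup.mk' A)) = 4 from hW4])
            a (hallC a) (fun c hc => (Subgroup.mem_centralizer_iff.1 ha c hc).symm)
            b (hallC b) ((b * a)⁻¹ • v)
          rw [← mul_smul, ← mul_smul b a, smul_inv_smul, ← mul_smul] at h
          exact h
      have hle := card_le_of_layer_four L
        (fun g a ha => (Subgroup.mem_centralizer_iff.1 (hallC g) a ha).symm) hW4 hcentA
      have hq24 : q + 1 ≤ 24 := by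
        have h1 := (Nat.le_of_dvd Nat.card_pos hdvdG).trans
          (hle.trans (Nat.mul_le_mul_left 24 (Nat.le_of_dvd (by omega) hAdvd)))
        rw [hVcard, pow_one, show q ^ 2 - 1 = (q + 1) * (q - 1) by
          rw [← Nat.sq_sub_sq, one_pow]] at h1
        exact Nat.le_of_mul_le_mul_right h1 (by omega)
      have hprim : ∀ r, r.Prime → r ∣ q + 1 → r ≠ 2 →
          r ∣ q ^ (1 * 2) - 1 ∧ ∀ i, 0 < i → i < 1 * 2 → ¬ r ∣ q ^ i - 1 := by
        intro r hr hrq hr2
        refine ⟨dvd_trans hrq ⟨q - 1, by rw [one_mul, ← Nat.sq_sub_sq, one_pow]⟩, fun i hi hi2 h => hr2 ?_⟩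
        obtain rfl : i = 1 := by omega
        rw [pow_one] at h
        have h2 := Nat.dvd_sub hrq h
        rw [show q + 1 - (q - 1) = 2 by omega] at h2
        exact (Nat.prime_dvd_prime_iff_eq hr Nat.prime_two).1 h2
      have h5 := two_dim_arith hq hq2 hq24 (fun r hr hrq hr2 => by
        obtain ⟨h1, h2⟩ := hprim r hr hrq hr2
        exact (key r hr h1 h2).2.1) (fun h9 => by
        obtain ⟨h1, h2⟩ := hprim 3 Nat.prime_three (dvd_trans (by norm_num) h9) (by norm_num)
        refine (key 3 Nat.prime_three h1 h2).2.2.2.2.2 ?_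
        refine dvd_trans (show 3 ^ 2 ∣ q + 1 from h9) ⟨q - 1, ?_⟩
        rw [one_mul, ← Nat.sq_sub_sq, one_pow])
      right
      rw [hVcard]
      rcases h5 with rfl | rfl | rfl | rfl | rfl <;> simp
    · by_cases h26 : q = 2 ∧ d * m = 6
      · -- the case `2 ^ 6`
        exfalso
        obtain ⟨rfl, hn6⟩ := h26
        have hd6 : d ∣ 6 := ⟨m, hn6.symm⟩
        have hdle : d ≤ 3 := by
          have : d * 2 ≤ d * m := Nat.mul_le_mul_left d hm2
          omega
        have hsle : s ≤ m * m := le_trans (Nat.le_of_dvd (by omega) hsW) hWle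
        interval_cases d
        · norm_num at hsQ
          exact L.prime.ne_one hsQ
        · obtain rfl : m = 3 := by omega
          norm_num at hsQ
          obtain rfl : s = 3 := (Nat.prime_dvd_prime_iff_eq L.prime Nat.prime_three).1 hsQ
          haveI : Fact (Nat.Prime 7) := ⟨by norm_num⟩
          have h7 : 7 ∣ Nat.card G := dvd_trans (by rw [hVcard]; norm_num) hdvdG
          obtain ⟨x, hx⟩ := exists_prime_orderOf_dvd_card' (G := G) 7 h7
          have hxC : x ∈ C := by
            rw [← hker, MonoidHom.mem_ker, ← orderOf_eq_one_iff]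
            have h1 : orderOf (σ x) ∣ 7 := hx ▸ orderOf_map_dvd σ x
            have h2 : orderOf (σ x) ∣ 2 := hAut ▸ orderOf_dvd_natCard (σ x)
            exact Nat.dvd_one.1 (Nat.dvd_gcd h1 h2)
          have hQF : Nat.card F = 4 := by rw [Nat.card_eq_fintype_card, hFcard]; norm_num
          obtain ⟨h, hpos, hdiv, hle, -⟩ := L.exists_square hBC hAcyc
            (fun g hg a ha => (Subgroup.mem_centralizer_iff.1 hg a ha).symm) hlin hfaith
            (r := 7) (by norm_num) (by norm_num) hxC hx
            (by rw [hQF, hm]; norm_num)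
            (by
              intro i hi him
              rw [hm] at him
              rw [hQF]
              interval_cases i <;> norm_num)
          have h1 : h = 1 := by
            by_contra hne
            have h4 : 3 ^ 4 ≤ 3 ^ (2 * h) := Nat.pow_le_pow_right (by norm_num) (by omega)
            have : 3 ^ (2 * h) ≤ 3 * 3 := hle.trans hWle
            omega
          subst h1
          norm_num at hdiv
        · obtain rfl : m = 2 := by omega
          norm_num at hsQ
          obtain rfl : s = 7 := (Nat.prime_dvd_prime_iff_eq L.prime (by norm_num)).1 hsQ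
          omega
      · obtain ⟨r, hr, hrd, hmin⟩ := CfsgLib.Zsigmondy.exists_primitive_prime_divisor
          (a := q) (n := d * m) hq.one_lt (by omega) h26 (by rintro ⟨h, -⟩; omega)
        obtain ⟨hd1, hrm, rfl, ⟨h, hpos, hmh⟩, -, hnsq⟩ := key r hr hrd hmin
        subst hd1
        rw [one_mul] at hn hnsq hrd
        rw [pow_one] at hsQ
        have hq3 : 3 ≤ q := by
          rcases (show q = 2 ∨ 3 ≤ q by have := hq.two_le; omega) with rfl | h'
          · norm_num at hsQ
          · exact h'
        obtain ⟨k, rfl⟩ : ∃ k, h = k + 1 := ⟨h - 1, by omega⟩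
        have hk : 1 ≤ k := by
          by_contra hk
          obtain rfl : k = 0 := by omega
          norm_num at hmh
          omega
        set j := 2 ^ k with hj
        have hm' : m = 2 * j := by rw [hmh, hj, pow_succ']
        have hj2 : 2 ≤ j := Nat.le_self_pow (by omega) 2
        have hodd : Odd q := hq.odd_of_ne_two (by omega)
        obtain ⟨u, hu⟩ : ∃ u, q ^ j = 4 * u + 1 := by
          have hje : 2 ∣ j := dvd_pow_self 2 (by omega)
          obtain ⟨i, hi⟩ := hje
          obtain ⟨w, hw⟩ := hodd.pow (n := i)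
          obtain ⟨v, hv⟩ : Even (w * (w + 1)) := Nat.even_mul_succ_self w
          refine ⟨2 * v, ?_⟩
          rw [hi, mul_comm, pow_mul, hw]
          nlinarith
        have hN : q ^ m - 1 = (q ^ j + 1) * (q ^ j - 1) := by
          rw [hm', mul_comm 2 j, pow_mul, ← Nat.sq_sub_sq, one_pow]
        have hM1 : ∀ l, l.Prime → l ∣ 2 * u + 1 → l = r := by
          intro l hl hlM
          haveI : Fact l.Prime := ⟨hl⟩
          have hlj : l ∣ q ^ j + 1 := by rw [hu]; exact dvd_trans hlM ⟨2, by ring⟩
          have hl2 : l ≠ 2 := by rintro rfl; omega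
          have hln : l ∣ q ^ (1 * m) - 1 := by rw [one_mul, hN]; exact dvd_mul_of_dvd_left hlj _
          have hlj' : ¬ l ∣ q ^ j - 1 := fun h' => hl2 (by
            have h2 := Nat.dvd_sub hlj h'
            rw [show q ^ j + 1 - (q ^ j - 1) = 2 by omega] at h2
            exact (Nat.prime_dvd_prime_iff_eq hl Nat.prime_two).1 h2)
          have hord : orderOf (q : ZMod l) = m := by
            rw [hmh]
            refine orderOf_eq_prime_pow ?_ ?_
            · rw [← CfsgLib.Zsigmondy.natCast_eq_one_iff_dvd hq.pos]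
              exact hlj'
            · rw [← CfsgLib.Zsigmondy.natCast_eq_one_iff_dvd hq.pos, ← hmh]
              rwa [one_mul] at hln
          have hprim := CfsgLib.Zsigmondy.primitive_of_orderOf hq.pos hord
          rw [hrm]
          exact (key l hl hln (fun i hi hi' => hprim.2 i hi (by omega))).2.1
        have hMeq := Nat.eq_prime_pow_of_unique_prime_dvd (n := 2 * u + 1) (p := r) (by omega)
          (fun {l} hl hlM => hM1 l hl hlM)
        have hfin : q ^ j + 1 ≤ 2 * r := by
          rcases Nat.lt_or_ge (2 * u + 1).primeFactorsList.length 2 with hlen | hlen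
          · have h1 : r ^ (2 * u + 1).primeFactorsList.length ≤ r ^ 1 :=
              Nat.pow_le_pow_right hr.pos (by omega)
            rw [← hMeq, pow_one] at h1
            omega
          · exfalso
            refine hnsq ?_
            rw [hN]
            refine dvd_mul_of_dvd_left (dvd_trans (pow_dvd_pow r hlen) ?_) _
            rw [← hMeq, hu]
            exact ⟨2, by ring⟩
        obtain ⟨hj2', rfl⟩ := pow_two_arith hq3 hj2 (by omega) hfin
        right
        rw [hVcard, hm', hj2']
        norm_num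

end Cfsg.Agent.S3360
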