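import Cfsg.Statements.S4956
import Mathlib.GroupTheory.GroupAction.CardCommute
import Mathlib.GroupTheory.Coset.Card
import Mathlib.GroupTheory.QuotientGroup.Basic
import Mathlib.Tactic.Group
import Mathlib.GroupTheory.OrderOfElement
import Mathlib.Algebra.BigOperators.Ring.Finset
import Mathlib.Tactic.Ring

set_option autoImplicit false
open Cfsg

namespace Cfsg.Agent.S4956

open Classical in
/-- kernel count for the commuting equation -/
theorem card_sol {A G : Type*} [CommGroup A] [Finite A] [Group G] [Finite G]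
    (φ : G →* MulAut A) (hcop : (Nat.card A).Coprime (Nat.card G)) (x y : G) :
    Nat.card {p : A × A // p.1 * φ x p.2 = p.2 * φ y p.1} =
      Nat.card A * Nat.card {v : A // φ x v = v ∧ φ y v = v} := by
  let S : Subgroup G := Subgroup.closure {x, y}
  let : Fintype ↥S := Fintype.ofFinite _
  let L : A × A →* A :=
    { toFun := fun p => (p.1 * φ x p.2) / (p.2 * φ y p.1)
      map_one' := by simp
      map_mul' := by
        intro p q
        simp only [Prod.fst_mul, Prod.snd_mul, map_mul, div_eq_mul_inv, mul_inv]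
        ac_rfl }
  let N : A →* A :=
    { toFun := fun v => ∏ g : ↥S, φ (g : G) v
      map_one' := by simp
      map_mul' := fun v w => by simp [Finset.prod_mul_distrib] }
  have hNinv : ∀ g ∈ S, ∀ v, N (φ g v) = N v := by
    intro g hg v
    refine Fintype.prod_equiv (Equiv.mulRight ⟨g, hg⟩) _ _ fun k => ?_
    simp only [Equiv.coe_mulRight, Subgroup.coe_mul, map_mul, MulAut.mul_apply]
  have hNfix : ∀ g ∈ S, ∀ v, φ g (N v) = N v := by
    intro g hg v
    change φ g (∏ k : ↥S, φ (k : G) v) = _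
    rw [map_prod]
    refine Fintype.prod_equiv (Equiv.mulLeft ⟨g, hg⟩) _ _ fun k => ?_
    simp only [Equiv.coe_mulLeft, Subgroup.coe_mul, map_mul, MulAut.mul_apply]
  have hx : x ∈ S := Subgroup.subset_closure (by simp)
  have hy : y ∈ S := Subgroup.subset_closure (by simp)
  have hS : (Nat.card A).Coprime (Nat.card ↥S) :=
    hcop.coprime_dvd_right (Subgroup.card_subgroup_dvd_card S)
  have hfix : ∀ v, φ x v = v → φ y v = v → ∀ g ∈ S, φ g v = v := by
    intro v h1 h2 g hg
    induction hg using Subgroup.closure_induction with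
    | mem g hg => rcases hg with rfl | rfl <;> assumption
    | one => simp
    | mul a b _ _ ha hb => rw [map_mul, MulAut.mul_apply, hb, ha]
    | inv a _ ha =>
      have := congrArg (φ a⁻¹) ha
      rw [← MulAut.mul_apply, ← map_mul, inv_mul_cancel, map_one, MulAut.one_apply] at this
      exact this.symm
  have hrange : Nat.card N.range = Nat.card {v : A // φ x v = v ∧ φ y v = v} := by
    refine Nat.card_congr (Equiv.subtypeEquivRight fun v => ⟨?_, fun h => ?_⟩)
    · rintro ⟨w, rfl⟩
      exact ⟨hNfix x hx w, hNfix y hy w⟩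
    · obtain ⟨w, hw⟩ := (powCoprime hS).surjective v
      change w ^ Nat.card ↥S = v at hw
      have hwfix : ∀ g ∈ S, φ g w = w := fun g hg => by
        apply (powCoprime hS).injective
        change (φ g w) ^ Nat.card ↥S = w ^ Nat.card ↥S
        rw [← map_pow, hw, hfix v h.1 h.2 g hg]
      refine ⟨w, ?_⟩
      change (∏ g : ↥S, φ (g : G) w) = v
      rw [Finset.prod_congr rfl (fun (g : ↥S) _ => hwfix (g : G) g.2), Finset.prod_const, Finset.card_univ,
        ← Nat.card_eq_fintype_card, hw]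
  have hker : N.ker = L.range := by
    apply le_antisymm
    · intro v hv
      let T : Subgroup G := Subgroup.closure {g | ∀ w, φ g w / w ∈ L.range}
      have hmul : ∀ g h : G, (∀ w, φ g w / w ∈ L.range) → (∀ w, φ h w / w ∈ L.range) →
          ∀ w, φ (g * h) w / w ∈ L.range := by
        intro g h hg hh w
        have : φ (g * h) w / w = (φ g (φ h w) / φ h w) * (φ h w / w) := by
          rw [map_mul, MulAut.mul_apply, div_mul_div_cancel]
        rw [this]
        exact mul_mem (hg _) (hh _)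
      have hall : ∀ g ∈ S, ∀ w, φ g w / w ∈ L.range := by
        intro g hg
        induction hg using Subgroup.closure_induction with
        | mem g hg =>
          rcases hg with rfl | rfl <;> intro w
          · exact ⟨(1, w), by simp [L]⟩
          · exact inv_mem_iff.mp ⟨(w, 1), by simp [L]⟩
        | one => intro w; simp
        | mul a b _ _ ha hb => exact hmul a b ha hb
        | inv a _ ha =>
          intro w
          apply inv_mem_iff.mp
          have := ha (φ a⁻¹ w)
          rw [← MulAut.mul_apply, ← map_mul, mul_inv_cancel, map_one, MulAut.one_apply] at this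
          rwa [inv_div]
      have h1 : (∏ g : ↥S, φ (g : G) v / v) ∈ L.range :=
        prod_mem fun g _ => hall g g.2 v
      have h2 : (∏ g : ↥S, φ (g : G) v / v) = (v ^ Nat.card ↥S)⁻¹ := by
        rw [Finset.prod_div_distrib, Finset.prod_const, Finset.card_univ, ← Nat.card_eq_fintype_card]
        change N v / _ = _
        rw [MonoidHom.mem_ker.mp hv, one_div]
      rw [h2, inv_mem_iff] at h1
      have hc : (orderOf v).Coprime (Nat.card ↥S) :=
        hS.coprime_dvd_left (orderOf_dvd_natCard v)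
      have h4 : v ∈ Subgroup.zpowers (v ^ Nat.card ↥S) := by
        obtain ⟨m, hm⟩ := exists_pow_eq_self_of_coprime hc.symm
        exact ⟨(m : ℤ), by simpa using hm⟩
      exact (Subgroup.zpowers_le.mpr h1) h4
    · rintro _ ⟨⟨a, b⟩, rfl⟩
      rw [MonoidHom.mem_ker]
      change N ((a * φ x b) / (b * φ y a)) = 1
      rw [map_div, map_mul, map_mul, hNinv x hx, hNinv y hy, mul_comm, div_self']
  have e1 : Nat.card {p : A × A // p.1 * φ x p.2 = p.2 * φ y p.1} = Nat.card L.ker := by
    refine Nat.card_congr (Equiv.subtypeEquivRight fun p => ?_)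
    rw [MonoidHom.mem_ker]
    exact div_eq_one.symm
  have e2 : Nat.card L.ker * Nat.card L.range = Nat.card A * Nat.card A := by
    rw [← Subgroup.index_ker L, mul_comm, Subgroup.index_mul_card, Nat.card_prod]
  have e3 : Nat.card N.ker * Nat.card N.range = Nat.card A := by
    rw [← Subgroup.index_ker N, mul_comm, Subgroup.index_mul_card]
  rw [hker] at e3
  rw [e1, ← hrange]
  apply Nat.eq_of_mul_eq_mul_right (Nat.card_pos (α := ↥L.range))
  rw [e2, mul_assoc, mul_comm (Nat.card N.range), e3]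


/-- Let X be a finite group, V an abelian normal subgroup of X (any two elements of V commute) and G a complement to V in X whose order is coprime to that of V. Let S be a set of representatives of the orbits of G on V under conjugation: S lies in V and every element of V is conjugate under G to exactly one member of S. Then the number of conjugacy classes of X equals the sum, over s in S, of the number of conjugacy classes of the centralizer of s in G. -/
theorem result {X : Type*} [Group X] [Finite X] (V : Subgroup X) [V.Normal] (hab : ∀ a ∈ V, ∀ b ∈ V, a * b = b * a) (G : Subgroup X) (hGV : Subgroup.IsComplement' V G) (hcop : (Nat.card V).Coprime (Nat.card G)) (S : Finset X) (hSV : ∀ s ∈ S, s ∈ V) (hrep : ∀ v ∈ V, ∃! s, s ∈ S ∧ ∃ g ∈ G, g * v * g⁻¹ = s) : Nat.card (ConjClasses X) = ∑ s ∈ S, Nat.card (ConjClasses ↥(G ⊓ Subgroup.centralizer ({s} : Set X))) := by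
  classical
  let : CommGroup ↥V :=
    { Subgroup.toGroup V with mul_comm := fun a b => Subtype.ext (hab a a.2 b b.2) }
  let φ : ↥G →* MulAut ↥V := (MulAut.conjNormal (H := V)).comp G.subtype
  have hφ : ∀ (g : ↥G) (v : ↥V), ((φ g v : ↥V) : X) = g * v * (g : X)⁻¹ :=
    fun g v => MulAut.conjNormal_apply (g : X) v
  have hcomm : ∀ (a b : ↥V) (x y : ↥G), Commute ((a : X) * x) ((b : X) * y) ↔
      Commute x y ∧ a * φ x b = b * φ y a := by
    intro a b x y
    have hk : ∀ (a b : ↥V) (x y : ↥G),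
        (a : X) * x * ((b : X) * y) = ((a * φ x b : ↥V) : X) * ((x * y : ↥G) : X) := by
      intro a b x y
      rw [Subgroup.coe_mul, Subgroup.coe_mul, hφ]
      group
    rw [commute_iff_eq, hk, hk, commute_iff_eq]
    constructor
    · intro h
      have := hGV.1 (a₁ := (a * φ x b, x * y)) (a₂ := (b * φ y a, y * x)) h
      rw [Prod.mk.injEq] at this
      exact ⟨this.2, this.1⟩
    · rintro ⟨h1, h2⟩
      rw [h1, h2]
  -- commuting pairs of X
  let P := {q : ↥G × ↥G // Commute q.1 q.2}
  let T : P → Type _ := fun q => {p : ↥V × ↥V // p.1 * φ q.1.1 p.2 = p.2 * φ q.1.2 p.1}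
  let f : (Σ q : P, T q) → {p : X × X // Commute p.1 p.2} := fun z =>
    ⟨((z.2.1.1 : X) * z.1.1.1, (z.2.1.2 : X) * z.1.1.2), (hcomm _ _ _ _).mpr ⟨z.1.2, z.2.2⟩⟩
  have hf : Function.Bijective f := by
    constructor
    · rintro ⟨⟨⟨x, y⟩, hq⟩, ⟨⟨a, b⟩, hp⟩⟩ ⟨⟨⟨x', y'⟩, hq'⟩, ⟨⟨a', b'⟩, hp'⟩⟩ h
      simp only [f, Subtype.mk.injEq, Prod.mk.injEq] at h
      have h1 := hGV.1 (a₁ := (a, x)) (a₂ := (a', x')) h.1
      have h2 := hGV.1 (a₁ := (b, y)) (a₂ := (b', y')) h.2
      obtain ⟨rfl, rfl⟩ := Prod.mk.inj h1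
      obtain ⟨rfl, rfl⟩ := Prod.mk.inj h2
      rfl
    · rintro ⟨⟨u, w⟩, h⟩
      obtain ⟨⟨a, x⟩, rfl⟩ := hGV.2 u
      obtain ⟨⟨b, y⟩, rfl⟩ := hGV.2 w
      exact ⟨⟨⟨(x, y), ((hcomm a b x y).mp h).1⟩, ⟨(a, b), ((hcomm a b x y).mp h).2⟩⟩, rfl⟩
  let : Fintype P := Fintype.ofFinite _
  let : Fintype ↥V := Fintype.ofFinite _
  let h : ↥V → ℕ := fun v => Nat.card {q : P // φ q.1.1 v = v ∧ φ q.1.2 v = v}
  have hX : Nat.card (ConjClasses X) * Nat.card X = Nat.card ↥V * ∑ v : ↥V, h v := by
    rw [← card_comm_eq_card_conjClasses_mul_card, ← Nat.card_eq_of_bijective f hf, Nat.card_sigma,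
      Finset.sum_congr rfl (fun q _ => card_sol φ hcop q.1.1 q.1.2), ← Finset.mul_sum]
    congr 1
    rw [← Nat.card_sigma, ← Nat.card_sigma]
    exact Nat.card_congr
      { toFun := fun z => ⟨z.2.1, ⟨z.1, z.2.2⟩⟩
        invFun := fun z => ⟨z.2.1, ⟨z.1, z.2.2⟩⟩
        left_inv := fun _ => rfl
        right_inv := fun _ => rfl }
  -- the orbit map
  have hrep' : ∀ v : ↥V, ∃ s : ↥V, (s : X) ∈ S ∧ ∃ g : ↥G, φ g v = s := by
    intro v
    obtain ⟨s, ⟨hs, g, hg, hgs⟩, -⟩ := hrep v v.2
    exact ⟨⟨s, hSV s hs⟩, hs, ⟨g, hg⟩, Subtype.ext ((hφ _ _).trans hgs)⟩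
  choose r hrS gr hgr using hrep'
  have hr_eq : ∀ (v : ↥V) (g : ↥G) (s : ↥V), (s : X) ∈ S → φ g v = s → r v = s := by
    intro v g s hs hgs
    exact Subtype.ext ((hrep v v.2).unique
      ⟨hrS v, gr v, (gr v).2, by rw [← hφ, hgr]⟩ ⟨hs, g, g.2, by rw [← hφ, hgs]⟩)
  let SV : Finset ↥V := Finset.univ.filter (fun v => (v : X) ∈ S)
  have hconst : ∀ v, h v = h (r v) := by
    intro v
    have key : ∀ (g : ↥G) (u w : ↥V), φ g u = w → ∀ k : ↥G, φ k u = u →
        φ (g * k * g⁻¹) w = w := by
      intro g u w hgu k hk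
      rw [← hgu, ← MulAut.mul_apply, ← map_mul, inv_mul_cancel_right, map_mul, MulAut.mul_apply, hk]
    refine Nat.card_congr
      { toFun := fun q => ⟨⟨(gr v * q.1.1.1 * (gr v)⁻¹, gr v * q.1.1.2 * (gr v)⁻¹),
            (Commute.conj_iff (gr v)).mpr q.1.2⟩, key _ _ _ (hgr v) _ q.2.1, key _ _ _ (hgr v) _ q.2.2⟩
        invFun := fun q => ⟨⟨((gr v)⁻¹ * q.1.1.1 * (gr v)⁻¹⁻¹, (gr v)⁻¹ * q.1.1.2 * (gr v)⁻¹⁻¹),
            (Commute.conj_iff _).mpr q.1.2⟩,
            key _ _ _ (by rw [← hgr v, ← MulAut.mul_apply, ← map_mul, inv_mul_cancel, map_one, MulAut.one_apply]) _ q.2.1,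
            key _ _ _ (by rw [← hgr v, ← MulAut.mul_apply, ← map_mul, inv_mul_cancel, map_one, MulAut.one_apply]) _ q.2.2⟩
        left_inv := fun q => by
          apply Subtype.ext; apply Subtype.ext
          ext <;> simp [mul_assoc]
        right_inv := fun q => by
          apply Subtype.ext; apply Subtype.ext
          ext <;> simp [mul_assoc] }
  let act : MulAction ↥G ↥V := MulAction.compHom ↥V φ
  have hsmul : ∀ (g : ↥G) (v : ↥V), g • v = φ g v := fun _ _ => rfl
  have hfib : ∀ s ∈ SV, ∑ v ∈ Finset.univ.filter (fun v => r v = s), h v =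
      Nat.card ↥G * Nat.card (ConjClasses ↥(G ⊓ Subgroup.centralizer ({(s : X)} : Set X))) := by
    intro s hs
    have hsS : (s : X) ∈ S := (Finset.mem_filter.mp hs).2
    rw [Finset.sum_congr rfl (fun v hv => by rw [hconst v, (Finset.mem_filter.mp hv).2] :
      ∀ v ∈ Finset.univ.filter (fun v => r v = s), h v = h s), Finset.sum_const, smul_eq_mul]
    have hH : h s = Nat.card (ConjClasses ↥(G ⊓ Subgroup.centralizer ({(s : X)} : Set X))) *
        Nat.card ↥(G ⊓ Subgroup.centralizer ({(s : X)} : Set X)) := by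
      rw [← card_comm_eq_card_conjClasses_mul_card]
      have hc : ∀ g : ↥G, φ g s = s ↔ (g : X) ∈ Subgroup.centralizer ({(s : X)} : Set X) := fun g => by
        rw [Subgroup.mem_centralizer_singleton_iff, Subtype.ext_iff, hφ, mul_inv_eq_iff_eq_mul]
      exact Nat.card_congr
        { toFun := fun q => ⟨(⟨q.1.1.1, q.1.1.1.2, (hc _).mp q.2.1⟩, ⟨q.1.1.2, q.1.1.2.2, (hc _).mp q.2.2⟩),
              Subtype.ext (congrArg Subtype.val q.1.2.eq :)⟩
          invFun := fun q => ⟨⟨(⟨q.1.1, q.1.1.2.1⟩, ⟨q.1.2, q.1.2.2.1⟩),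
              Subtype.ext (congrArg Subtype.val q.2.eq :)⟩, (hc _).mpr q.1.1.2.2, (hc _).mpr q.1.2.2.2⟩
          left_inv := fun _ => rfl
          right_inv := fun _ => rfl }
    have hstab : Nat.card (MulAction.stabilizer ↥G s) =
        Nat.card ↥(G ⊓ Subgroup.centralizer ({(s : X)} : Set X)) := by
      have hc : ∀ g : ↥G, g • s = s ↔ (g : X) ∈ Subgroup.centralizer ({(s : X)} : Set X) := fun g => by
        rw [hsmul, Subgroup.mem_centralizer_singleton_iff, Subtype.ext_iff, hφ, mul_inv_eq_iff_eq_mul]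
      exact Nat.card_congr
        { toFun := fun g => ⟨g.1.1, g.1.2, (hc _).mp g.2⟩
          invFun := fun g => ⟨⟨g.1, g.2.1⟩, (hc _).mpr g.2.2⟩
          left_inv := fun _ => rfl
          right_inv := fun _ => rfl }
    have horb : (Finset.univ.filter (fun v => r v = s)).card = Nat.card (MulAction.orbit ↥G s) := by
      rw [← Fintype.card_subtype, ← Nat.card_eq_fintype_card]
      refine Nat.card_congr (Equiv.subtypeEquivRight fun v => ⟨fun hv => ?_, ?_⟩)
      · refine ⟨(gr v)⁻¹, ?_⟩
        change (gr v)⁻¹ • s = v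
        rw [inv_smul_eq_iff, hsmul, hgr, hv]
      · rintro ⟨g, hg⟩
        refine hr_eq v g⁻¹ s hsS ?_
        rw [← hsmul, inv_smul_eq_iff]
        exact hg.symm
    rw [horb, hH, ← hstab, ← Nat.card_congr (MulAction.orbitProdStabilizerEquivGroup ↥G s),
      Nat.card_prod]
    ring
  have hsum : ∑ v : ↥V, h v = Nat.card ↥G *
      ∑ s ∈ S, Nat.card (ConjClasses ↥(G ⊓ Subgroup.centralizer ({s} : Set X))) := by
    rw [← Finset.sum_fiberwise_of_maps_to (t := SV) (g := r)
      (fun v _ => Finset.mem_filter.mpr ⟨Finset.mem_univ _, hrS v⟩), Finset.sum_congr rfl hfib,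
      ← Finset.mul_sum]
    congr 1
    refine Finset.sum_bij (fun s _ => (s : X)) ?_ ?_ ?_ ?_
    · exact fun s hs => (Finset.mem_filter.mp hs).2
    · exact fun a _ b _ hh => Subtype.ext hh
    · exact fun s hs => ⟨⟨s, hSV s hs⟩, Finset.mem_filter.mpr ⟨Finset.mem_univ _, hs⟩, rfl⟩
    · exact fun s _ => rfl
  rw [hsum, ← hGV.card_mul_card] at hX
  apply Nat.eq_of_mul_eq_mul_right (Nat.mul_pos (Nat.card_pos (α := ↥V)) (Nat.card_pos (α := ↥G)))
  rw [hX]; ring

end Cfsg.Agent.S4956
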