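import Cfsg.Statements.S0711
import Mathlib.GroupTheory.GroupAction.Jordan
import Mathlib.Data.Fin.Tuple.Embedding

set_option autoImplicit false
open Cfsg

namespace Cfsg.Agent.S0711

open MulAction Equiv

variable {α : Type*} [Fintype α] [DecidableEq α]

theorem move {G : Subgroup (Equiv.Perm α)} {k : ℕ} (hkn : k ≤ Fintype.card α)
    (hG : IsMultiplyPretransitive G α k) (T : Finset α) {u w : α} (hu : u ∉ T) (hw : w ∉ T)
    (hc : T.card + 1 ≤ k) : ∃ h ∈ G, (∀ x ∈ T, h x = x) ∧ h u = w := by
  haveI := hG
  haveI : IsMultiplyPretransitive G α (T.card + 1) :=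
    isMultiplyPretransitive_of_le (n := k) hc (by rw [Nat.card_eq_fintype_card]; exact hkn)
  let e : Fin T.card ↪ α := T.equivFin.symm.toEmbedding.trans (Function.Embedding.subtype _)
  have hr : ∀ {z}, z ∉ T → z ∉ Set.range e := fun hz ⟨i, hi⟩ => hz (hi ▸ (T.equivFin.symm i).2)
  obtain ⟨g, hg⟩ := exists_smul_eq G (Fin.Embedding.snoc e (hr hu)) (Fin.Embedding.snoc e (hr hw))
  refine ⟨g, g.2, fun x hx => ?_, ?_⟩
  · have := congrArg (fun f : Fin (T.card + 1) ↪ α => f (Fin.castSucc (T.equivFin ⟨x, hx⟩))) hg
    simp [Fin.Embedding.snoc, Function.Embedding.smul_apply, e, Subgroup.smul_def] at this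
    exact this
  · have := congrArg (fun f : Fin (T.card + 1) ↪ α => f (Fin.last _)) hg
    simp [Fin.Embedding.snoc, Function.Embedding.smul_apply, Subgroup.smul_def] at this
    exact this

/-- A set of points of which `g` takes at most one out. -/
theorem greedy (g : Equiv.Perm α) : ∀ j, j ≤ g.support.card → ∃ T : Finset α, T ⊆ g.support ∧ T.card = j ∧
    (T.filter (fun x => g x ∉ T)).card ≤ 1 := by
  intro j
  induction j with
  | zero => intro _; exact ⟨∅, by simp⟩
  | succ j ih =>
    intro hj
    obtain ⟨T, hTS, hTc, hT⟩ := ih (by omega)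
    by_cases hX : ∃ a ∈ T, g a ∉ T
    · obtain ⟨a, ha, hga⟩ := hX
      refine ⟨insert (g a) T, Finset.insert_subset (Equiv.Perm.apply_mem_support.2 (hTS ha)) hTS,
        by rw [Finset.card_insert_of_notMem hga, hTc], Finset.card_le_one.2 fun x hx y hy => ?_⟩
      simp only [Finset.mem_filter, Finset.mem_insert, not_or] at hx hy
      have key : ∀ z, (z = g a ∨ z ∈ T) ∧ ¬ g z = g a ∧ g z ∉ T → z = g a := by
        rintro z ⟨h1 | h1, h2, h3⟩
        · exact h1
        · exact absurd (congrArg g (Finset.card_le_one.1 hT z (Finset.mem_filter.2 ⟨h1, h3⟩) a (Finset.mem_filter.2 ⟨ha, hga⟩))) h2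
      rw [key x hx, key y hy]
    · push Not at hX
      obtain ⟨x, hx, hxT⟩ := Finset.exists_mem_notMem_of_card_lt_card (show T.card < g.support.card by omega)
      refine ⟨insert x T, Finset.insert_subset hx hTS, by rw [Finset.card_insert_of_notMem hxT, hTc],
        Finset.card_le_one.2 fun y hy z hz => ?_⟩
      simp only [Finset.mem_filter, Finset.mem_insert, not_or] at hy hz
      rcases hy with ⟨rfl | hy, h1, h2⟩
      · rcases hz with ⟨rfl | hz, h3, h4⟩
        · rfl
        · exact absurd (hX z hz) h4
      · exact absurd (hX y hy) h2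

theorem descend {G : Subgroup (Equiv.Perm α)} {k : ℕ} (hk : 3 ≤ k) (hkn : k ≤ Fintype.card α)
    (hG : IsMultiplyPretransitive G α k) {g : Equiv.Perm α} (hg : g ∈ G)
    (hsupp : g.support.card < 2 * k - 2) (h4 : 4 ≤ g.support.card) :
    ∃ f ∈ G, f ≠ 1 ∧ f.support.card < g.support.card := by
  set S := g.support with hS
  have hmem : ∀ h ∈ G, (h * g * h⁻¹)⁻¹ * g ∈ G := fun h hh =>
    G.mul_mem (G.inv_mem (G.mul_mem (G.mul_mem hh hg) (G.inv_mem hh))) hg
  have hne : ∀ (h : Equiv.Perm α) (x : α), h (g (h⁻¹ x)) ≠ g x → (h * g * h⁻¹)⁻¹ * g ≠ 1 := by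
    intro h x hx e
    rw [inv_mul_eq_one] at e
    exact hx (congrArg (fun f : Equiv.Perm α => f x) e)
  have hbd : ∀ (h : Equiv.Perm α) (A : Finset α), A ⊆ S → (∀ x ∈ A, h x = x ∧ h (g x) = g x) →
      ((h * g * h⁻¹)⁻¹ * g).support ⊆ (S ∪ S.image h) \ A := by
    intro h A _ hA x hx
    simp only [Equiv.Perm.mem_support, Equiv.Perm.mul_apply, ne_eq, Equiv.Perm.inv_eq_iff_eq] at hx
    simp only [Finset.mem_sdiff, Finset.mem_union, Finset.mem_image]
    refine ⟨?_, fun hxA => hx ?_⟩
    · by_contra hc
      push Not at hc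
      have h1 : g x = x := by simpa [hS] using hc.1
      have h2 : g (h⁻¹ x) = h⁻¹ x := by
        by_contra h3
        exact hc.2 (h⁻¹ x) (by rwa [hS, Equiv.Perm.mem_support]) (h.apply_symm_apply x)
      apply hx
      rw [h1, h2]; exact (h.apply_symm_apply x).symm
    · rw [show h⁻¹ x = x by rw [Equiv.Perm.inv_eq_iff_eq, (hA x hxA).1], (hA x hxA).2]
  have hmS : ∀ x, g x ≠ x → x ∈ S := fun x hx => by rwa [hS, Equiv.Perm.mem_support]
  rcases (S.card_le_univ).lt_or_eq with hlt | heq
  · obtain ⟨w', -, hw'⟩ := Finset.exists_mem_notMem_of_card_lt_card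
      (show S.card < (Finset.univ : Finset α).card by rwa [Finset.card_univ])
    have gw' : g w' = w' := by simpa [hS] using hw'
    by_cases hmk : S.card ≤ k
    · obtain ⟨u, hu⟩ : S.Nonempty := Finset.card_pos.1 (by omega)
      obtain ⟨h, hh, hfix, huw⟩ := move hkn hG (S.erase u) (Finset.notMem_erase u S)
        (fun e => hw' (Finset.mem_of_mem_erase e)) (by rw [Finset.card_erase_of_mem hu]; omega)
      have hgu : g u ∈ S.erase u := Finset.mem_erase.2 ⟨by simpa [hS] using hu, Equiv.Perm.apply_mem_support.2 hu⟩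
      refine ⟨_, hmem h hh, hne h w' ?_, ?_⟩
      · rw [show h⁻¹ w' = u by rw [Equiv.Perm.inv_eq_iff_eq, huw], hfix _ hgu, gw']
        exact fun e => hw' (e ▸ Finset.mem_of_mem_erase hgu)
      · refine lt_of_le_of_lt (Finset.card_le_card ((hbd h (S.filter (fun x => x ≠ u ∧ g x ≠ u))
          (Finset.filter_subset _ _) ?_).trans (?_ : _ ⊆ ({w', u, g⁻¹ u} : Finset α)))) (lt_of_le_of_lt Finset.card_le_three (by omega))
        · intro x hx
          simp only [Finset.mem_filter] at hx
          exact ⟨hfix x (Finset.mem_erase.2 ⟨hx.2.1, hx.1⟩),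
            hfix _ (Finset.mem_erase.2 ⟨hx.2.2, Equiv.Perm.apply_mem_support.2 hx.1⟩)⟩
        · intro x hx
          simp only [Finset.mem_sdiff, Finset.mem_union, Finset.mem_image, Finset.mem_filter] at hx
          simp only [Finset.mem_insert, Finset.mem_singleton]
          by_cases hxu : x = u
          · exact Or.inr (Or.inl hxu)
          rcases hx.1 with h1 | ⟨y, hy, rfl⟩
          · refine Or.inr (Or.inr (Equiv.Perm.eq_inv_iff_eq.2 ?_))
            by_contra h2
            exact hx.2 ⟨h1, hxu, h2⟩
          · rcases eq_or_ne y u with rfl | hyu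
            · exact Or.inl huw
            · have e := hfix y (Finset.mem_erase.2 ⟨hyu, hy⟩)
              rw [e] at hx hxu ⊢
              refine Or.inr (Or.inr (Equiv.Perm.eq_inv_iff_eq.2 ?_))
              by_contra h2
              exact hx.2 ⟨hy, hxu, h2⟩
    · push Not at hmk
      obtain ⟨T, hTS, hTc, hT⟩ := greedy g (k - 1) (by rw [← hS]; omega)
      have hcard : ∀ (h : Equiv.Perm α) (A U : Finset α), A ⊆ S → (∀ x ∈ A, h x = x ∧ h (g x) = g x) →
          U ⊆ S ∩ S.image h → 2 * S.card < U.card + A.card + S.card → ((h * g * h⁻¹)⁻¹ * g).support.card < S.card := by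
        intro h A U hA hA' hU hlt'
        have e1 := Finset.card_le_card (hbd h A hA hA')
        rw [Finset.card_sdiff_of_subset (hA.trans Finset.subset_union_left)] at e1
        have e2 := Finset.card_union_add_card_inter S (S.image h)
        have e3 := Finset.card_le_card hU
        have e4 : (S.image h).card = S.card := Finset.card_image_of_injective _ h.injective
        omega
      by_cases hX : ∃ a ∈ T, g a ∉ T
      · obtain ⟨a, ha, hga⟩ := hX
        have hgaS : g a ∈ S := Equiv.Perm.apply_mem_support.2 (hTS ha)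
        obtain ⟨w, hwS, hwn⟩ := Finset.exists_mem_notMem_of_card_lt_card
          (show (insert (g a) T).card < S.card by rw [Finset.card_insert_of_notMem hga]; omega)
        simp only [Finset.mem_insert, not_or] at hwn
        obtain ⟨h, hh, hfix, huw⟩ := move hkn hG T hga hwn.2 (by omega)
        refine ⟨_, hmem h hh, hne h a ?_, ?_⟩
        · rw [show h⁻¹ a = a by rw [Equiv.Perm.inv_eq_iff_eq, hfix a ha], huw]
          exact hwn.1
        · refine hcard h (T.filter (fun x => g x ∈ T)) (insert w T) ((Finset.filter_subset _ _).trans hTS) ?_ ?_ ?_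
          · intro x hx
            simp only [Finset.mem_filter] at hx
            exact ⟨hfix x hx.1, hfix _ hx.2⟩
          · intro x hx
            simp only [Finset.mem_insert] at hx
            simp only [Finset.mem_inter, Finset.mem_image]
            rcases hx with rfl | hx
            · exact ⟨hwS, g a, hgaS, huw⟩
            · exact ⟨hTS hx, x, hTS hx, hfix x hx⟩
          · have e := Finset.card_filter_add_card_filter_not (s := T) (fun x => g x ∈ T)
            rw [Finset.card_insert_of_notMem hwn.2]
            omega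
      · push Not at hX
        obtain ⟨u, huS, huT⟩ := Finset.exists_mem_notMem_of_card_lt_card (show T.card < S.card by omega)
        obtain ⟨h, hh, hfix, huw⟩ := move hkn hG T huT (fun e => hw' (hTS e)) (by omega)
        refine ⟨_, hmem h hh, hne h w' ?_, ?_⟩
        · rw [show h⁻¹ w' = u by rw [Equiv.Perm.inv_eq_iff_eq, huw], gw', ← huw]
          exact fun e => (by simpa [hS] using huS : g u ≠ u) (h.injective e)
        · refine hcard h T T hTS (fun x hx => ⟨hfix x hx, hfix _ (hX x hx)⟩) ?_ (by omega)
          intro x hx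
          exact Finset.mem_inter.2 ⟨hTS hx, Finset.mem_image.2 ⟨x, hTS hx, hfix x hx⟩⟩
  · have hSu : ∀ x, g x ≠ x := fun x => by
      have : x ∈ S := (Finset.eq_univ_of_card S heq) ▸ Finset.mem_univ x
      rwa [hS, Equiv.Perm.mem_support] at this
    obtain ⟨a⟩ : Nonempty α := Fintype.card_pos_iff.1 (by omega)
    obtain ⟨c, -, hc⟩ := Finset.exists_mem_notMem_of_card_lt_card
      (show ({a, g a, g⁻¹ a} : Finset α).card < (Finset.univ : Finset α).card from
        lt_of_le_of_lt Finset.card_le_three (by rw [Finset.card_univ]; omega))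
    simp only [Finset.mem_insert, Finset.mem_singleton, not_or] at hc
    have d1 : g c ≠ a := fun e => hc.2.2 (Equiv.Perm.eq_inv_iff_eq.2 e)
    have d2 : g c ≠ g a := fun e => hc.1 (g.injective e)
    have d3 : g c ≠ c := hSu c
    rcases (show 4 ≤ Fintype.card α by omega).eq_or_lt with h4' | h5
    · refine ⟨Equiv.swap a c, ?_, fun e => hc.1 (by simpa using congrArg (fun f : Equiv.Perm α => f c) e.symm), ?_⟩
      · haveI := hG
        have hk4 : k = Fintype.card α := by omega
        let e0 : Fin k ↪ α := (Fintype.equivFinOfCardEq hk4.symm).symm.toEmbedding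
        obtain ⟨f, hf⟩ := exists_smul_eq G e0 (e0.trans (Equiv.swap a c).toEmbedding)
        have : (f : Equiv.Perm α) = Equiv.swap a c := Equiv.ext fun x => by
          have := congrArg (fun q : Fin k ↪ α => q (Fintype.equivFinOfCardEq hk4.symm x)) hf
          simpa [e0, Function.Embedding.smul_apply, Subgroup.smul_def] using this
        rw [← this]
        exact f.2
      · rw [Equiv.Perm.card_support_swap (Ne.symm hc.1)]
        omega
    · obtain ⟨w, -, hw⟩ := Finset.exists_mem_notMem_of_card_lt_card
        (show ({a, g a, c, g c} : Finset α).card < (Finset.univ : Finset α).card from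
          lt_of_le_of_lt Finset.card_le_four (by rw [Finset.card_univ]; omega))
      simp only [Finset.mem_insert, Finset.mem_singleton, not_or] at hw
      obtain ⟨h, hh, hfix, huw⟩ := move hkn hG ({a, g a, c} : Finset α) (u := g c) (w := w)
        (by simp [d1, d2, d3]) (by simp [hw.1, hw.2.1, hw.2.2.1])
        (by have := Finset.card_le_three (a := a) (b := g a) (c := c); omega)
      refine ⟨_, hmem h hh, hne h c ?_, ?_⟩
      · rw [show h⁻¹ c = c by rw [Equiv.Perm.inv_eq_iff_eq, hfix c (by simp)], huw]
        exact hw.2.2.2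
      · refine lt_of_le_of_lt (Finset.card_le_card (hbd h {a} (by simpa using hmS a (hSu a)) ?_)) ?_
        · simp only [Finset.mem_singleton]
          rintro x rfl
          exact ⟨hfix x (by simp), hfix _ (by simp)⟩
        · have e := Finset.card_le_univ (S ∪ S.image h)
          rw [Finset.card_sdiff_of_subset (by simpa using Or.inl (hmS a (hSu a))), Finset.card_singleton]
          omega


/-- A `k`-transitive permutation group (`k ≥ 3`) with a non-identity element of support smaller than `2k - 2` contains a non-identity element of support at most 3, and therefore contains the alternating group. -/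
theorem result {α : Type*} [Fintype α] [DecidableEq α] (G : Subgroup (Equiv.Perm α)) {k : ℕ} (hk : 3 ≤ k) (hkn : k ≤ Fintype.card α) (hG : MulAction.IsMultiplyPretransitive G α k) (g : Equiv.Perm α) (hg : g ∈ G) (hg1 : g ≠ 1) (hsupp : g.support.card < 2 * k - 2) : (∃ h : Equiv.Perm α, h ∈ G ∧ h ≠ 1 ∧ h.support.card ≤ 3) ∧ alternatingGroup α ≤ G := by
  have key : ∀ m, ∀ f ∈ G, f ≠ 1 → f.support.card = m → f.support.card < 2 * k - 2 →
      ∃ h : Equiv.Perm α, h ∈ G ∧ h ≠ 1 ∧ h.support.card ≤ 3 := by
    intro m
    induction m using Nat.strong_induction_on with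
    | _ m ih =>
      intro f hf hf1 hfm hlt
      by_cases h3 : f.support.card ≤ 3
      · exact ⟨f, hf, hf1, h3⟩
      · obtain ⟨f', hf', hf1', hlt'⟩ := descend hk hkn hG hf hlt (by omega)
        exact ih _ (hfm ▸ hlt') f' hf' hf1' rfl (by omega)
  obtain ⟨h, hh, hh1, hh3⟩ := key _ g hg hg1 rfl hsupp
  refine ⟨⟨h, hh, hh1, hh3⟩, ?_⟩
  haveI := hG
  have hprim : IsPreprimitive G α := isPreprimitive_of_is_two_pretransitive
    (isMultiplyPretransitive_of_le (n := k) (by omega) (by rw [Nat.card_eq_fintype_card]; exact hkn))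
  rcases (show h.support.card = 2 ∨ h.support.card = 3 by
    have := Equiv.Perm.two_le_card_support_of_ne_one hh1
    omega) with h2 | h3
  · rw [Equiv.Perm.subgroup_eq_top_of_isPreprimitive_of_isSwap_mem hprim h (Equiv.Perm.card_support_eq_two.1 h2) hh]
    exact le_top
  · exact Equiv.Perm.alternatingGroup_le_of_isPreprimitive_of_isThreeCycle_mem hprim
      (card_support_eq_three_iff.1 h3) hh

end Cfsg.Agent.S0711
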