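import Cfsg.Statements.S0713
import Mathlib.GroupTheory.GroupAction.Jordan
import Mathlib.GroupTheory.Perm.Cycle.Type
import Mathlib.GroupTheory.Sylow
import Mathlib.GroupTheory.Perm.Subgroup

set_option autoImplicit false
open Cfsg

namespace Cfsg.Agent.S0713

open MulAction Equiv
open scoped Pointwise

variable {α : Type*} [Fintype α] [DecidableEq α]

theorem not_sq_dvd_factorial {p : ℕ} (hp : p.Prime) : ¬ p ^ 2 ∣ p.factorial := by
  intro h
  obtain ⟨q, hq⟩ := Nat.exists_eq_add_of_le' hp.one_le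
  subst hq
  rw [Nat.factorial_succ, pow_two] at h
  have h' := Nat.dvd_of_mul_dvd_mul_left (Nat.succ_pos q) h
  rw [Nat.Prime.dvd_factorial hp] at h'
  omega


/-- Jordan's Theorem: a primitive permutation group of degree `n ≥ 5` containing a `p`-cycle for a prime `p ≤ n - 3` contains the alternating group. -/
theorem result {α : Type*} [Fintype α] [DecidableEq α] (G : Subgroup (Equiv.Perm α)) (hG : MulAction.IsPreprimitive G α) {p : ℕ} (hp : p.Prime) (hn : 5 ≤ Fintype.card α) (hpn : p + 3 ≤ Fintype.card α) {g : Equiv.Perm α} (hgc : g.IsCycle) (hgp : g.support.card = p) (hg : g ∈ G) : alternatingGroup α ≤ G := by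
  classical
  haveI := Fact.mk hp
  set s : Set α := {x | g x = x} with hs
  have hgs : ∀ x ∈ s, g x = x := fun x hx => hx
  have hscard : s.ncard = Fintype.card α - p := by
    rw [show s = ((g.supportᶜ : Finset α) : Set α) by ext x; simp [hs], Set.ncard_coe_finset,
      Finset.card_compl, hgp]
  -- the pointwise stabiliser of the fixed points of `g`
  have hKprim : IsPreprimitive (fixingSubgroup G s) (SubMulAction.ofFixingSubgroup G s) := by
    have hgK : (⟨g, hg⟩ : G) ∈ fixingSubgroup G s := (mem_fixingSubgroup_iff G).2 hgs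
    haveI : IsPretransitive (fixingSubgroup G s) (SubMulAction.ofFixingSubgroup G s) := by
      refine ⟨fun u v => ?_⟩
      have hu : g (u : α) ≠ (u : α) := u.2
      have hv : g (v : α) ≠ (v : α) := v.2
      obtain ⟨i, hi⟩ := hgc.exists_zpow_eq hu hv
      exact ⟨(⟨_, hgK⟩ : fixingSubgroup G s) ^ i, Subtype.ext (by
        show ((((⟨_, hgK⟩ : fixingSubgroup G s) ^ i : fixingSubgroup G s) : G) : Equiv.Perm α) (u : α) = v
        simpa using hi)⟩
    refine IsPreprimitive.of_prime_card ?_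
    have : Nat.card (SubMulAction.ofFixingSubgroup G s) = p := by
      show Nat.card (sᶜ : Set α) = p
      rw [Nat.card_coe_set_eq, Set.ncard_compl, hscard, Nat.card_eq_fintype_card]
      omega
    rwa [this]
  have hp2 := hp.two_le
  obtain ⟨r, hr⟩ := Nat.exists_eq_add_of_le' (show 1 ≤ s.ncard by omega)
  have htr : IsMultiplyPretransitive G α (r + 2) :=
    (IsPreprimitive.isMultiplyPreprimitive hG hr (by rw [Nat.card_eq_fintype_card]; omega) hKprim).isMultiplyPretransitive
  haveI htr' : IsMultiplyPretransitive G α s.ncard :=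
    have := htr
    isMultiplyPretransitive_of_le (n := r + 2) (by omega) (by rw [Nat.card_eq_fintype_card]; omega)
  let K : Subgroup (Equiv.Perm α) := G ⊓ fixingSubgroup (Equiv.Perm α) s
  have hgK : g ∈ K := ⟨hg, (mem_fixingSubgroup_iff _).2 hgs⟩
  have hog : orderOf g = p := by rw [hgc.orderOf, hgp]
  have hKp : Nat.card K ∣ p.factorial := by
    refine dvd_trans (Subgroup.card_dvd_of_le inf_le_right) (dvd_of_eq ?_)
    have e : fixingSubgroup (Equiv.Perm α) s ≃ {f : Equiv.Perm α // ∀ a, ¬ a ∉ s → f a = a} :=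
      Equiv.subtypeEquivRight fun f => by simp [mem_fixingSubgroup_iff]
    rw [Nat.card_congr e, ← Nat.card_congr (Equiv.Perm.subtypeEquivSubtypePerm (fun a => a ∉ s)), Nat.card_perm]
    congr 1
    show Nat.card (sᶜ : Set α) = p
    rw [Nat.card_coe_set_eq, Set.ncard_compl, hscard, Nat.card_eq_fintype_card]
    omega
  have hfac : (Nat.card K).factorization p = 1 := by
    have h1 : p ∣ Nat.card K := by
      rw [← hog]; exact Subgroup.orderOf_dvd_natCard K hgK
    refine le_antisymm ?_ ((hp.dvd_iff_one_le_factorization Nat.card_pos.ne').1 h1)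
    by_contra h
    push Not at h
    exact not_sq_dvd_factorial hp (dvd_trans
      ((hp.pow_dvd_iff_le_factorization Nat.card_pos.ne').2 h) hKp)
  -- realise every transposition of fixed points in the normaliser of `g`
  have hswap : ∀ a ∈ s, ∀ b ∈ s, ∃ y ∈ G, (∃ i : ℤ, y * g * y⁻¹ = g ^ i) ∧ ∀ x ∈ s, y x = Equiv.swap a b x := by
    intro a ha b hb
    obtain ⟨e⟩ : Nonempty (Fin s.ncard ≃ s) :=
      Finite.card_eq.mp (by rw [Nat.card_fin, Nat.card_coe_set_eq])
    let E : Fin s.ncard ↪ α := e.toEmbedding.trans (Function.Embedding.subtype _)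
    obtain ⟨h, hh⟩ := exists_smul_eq G E (E.trans (Equiv.swap a b).toEmbedding)
    have hsw : ∀ x ∈ s, (h : Equiv.Perm α) x = Equiv.swap a b x := by
      intro x hx
      have := congrArg (fun f : Fin s.ncard ↪ α => f (e.symm ⟨x, hx⟩)) hh
      simpa [E, Function.Embedding.smul_apply, Subgroup.smul_def] using this
    have hsw' : ∀ x ∈ s, Equiv.swap a b x ∈ s := by
      intro x hx
      rcases eq_or_ne x a with rfl | h1
      · rwa [Equiv.swap_apply_left]
      rcases eq_or_ne x b with rfl | h2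
      · rwa [Equiv.swap_apply_right]
      rwa [Equiv.swap_apply_of_ne_of_ne h1 h2]
    have hg' : (h : Equiv.Perm α) * g * (h : Equiv.Perm α)⁻¹ ∈ K := by
      refine ⟨G.mul_mem (G.mul_mem h.2 hg) (G.inv_mem h.2), (mem_fixingSubgroup_iff _).2 fun x hx => ?_⟩
      have : (h : Equiv.Perm α)⁻¹ x = Equiv.swap a b x := by
        rw [Equiv.Perm.inv_eq_iff_eq, hsw _ (hsw' x hx), Equiv.swap_apply_self]
      rw [Equiv.Perm.smul_def, Equiv.Perm.mul_apply, Equiv.Perm.mul_apply, this, hgs _ (hsw' x hx),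
        hsw _ (hsw' x hx), Equiv.swap_apply_self]
    have hsyl : ∀ z : K, orderOf z = p → ∃ P : Sylow p K, (P : Subgroup K) = Subgroup.zpowers z := fun z hz =>
      ⟨Sylow.ofCard (Subgroup.zpowers z) (by rw [Nat.card_zpowers, hz, hfac, pow_one]), rfl⟩
    obtain ⟨P, hP⟩ := hsyl ⟨g, hgK⟩ (by rw [← Subgroup.orderOf_coe, hog])
    obtain ⟨Q, hQ⟩ := hsyl ⟨_, hg'⟩ (by
      rw [← Subgroup.orderOf_coe, ← hog]
      exact orderOf_injective (MulAut.conj (h : Equiv.Perm α)).toMonoidHom (MulAut.conj _).injective g)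
    obtain ⟨c, hc⟩ := exists_smul_eq K Q P
    have hcm : c * ⟨_, hg'⟩ * c⁻¹ ∈ (P : Subgroup K) := by
      rw [← hc]
      show _ ∈ MulAut.conj c • (Q : Subgroup K)
      exact Subgroup.smul_mem_pointwise_smul _ _ _ (hQ ▸ Subgroup.mem_zpowers _)
    rw [hP] at hcm
    obtain ⟨i, hi⟩ := hcm
    refine ⟨(c : Equiv.Perm α) * h, G.mul_mem c.2.1 h.2, ⟨i, ?_⟩, fun x hx => ?_⟩
    · have := congrArg Subtype.val hi
      simp only [Subgroup.coe_zpow, Subgroup.coe_mul, Subgroup.coe_inv] at this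
      rw [this, mul_inv_rev]
      simp only [mul_assoc]
    · rw [Equiv.Perm.mul_apply, hsw x hx]
      exact (mem_fixingSubgroup_iff _).1 c.2.2 _ (hsw' x hx)
  obtain ⟨a, b, c, ha, hb, hc, hab, hac, hbc⟩ := (Set.two_lt_ncard_iff (Set.toFinite s)).1 (show 2 < s.ncard by omega)
  obtain ⟨y, hy, ⟨i, hyi⟩, hys⟩ := hswap a ha b hb
  obtain ⟨z, hz, ⟨j, hzj⟩, hzs⟩ := hswap b hb c hc
  set τ := Equiv.swap a b
  set υ := Equiv.swap b c
  have hτs : ∀ x ∈ s, τ x ∈ s := by
    intro x hx; simp only [τ, Equiv.swap_apply_def]; split_ifs <;> assumption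
  have hυs : ∀ x ∈ s, υ x ∈ s := by
    intro x hx; simp only [υ, Equiv.swap_apply_def]; split_ifs <;> assumption
  set x := y⁻¹ * z⁻¹ * y * z with hxdef
  have hxG : x ∈ G := G.mul_mem (G.mul_mem (G.mul_mem (G.inv_mem hy) (G.inv_mem hz)) hy) hz
  have hcomm : x * g = g * x := by
    have e1 : ∀ (w : Equiv.Perm α) (k l : ℤ), w * g * w⁻¹ = g ^ k → w * g ^ l * w⁻¹ = g ^ (k * l) := by
      intro w k l h; rw [← conj_zpow, h, zpow_mul]
    have h1 : (y * z) * g * (y * z)⁻¹ = g ^ (i * j) := by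
      rw [show (y * z) * g * (y * z)⁻¹ = y * (z * g * z⁻¹) * y⁻¹ by simp only [mul_inv_rev, mul_assoc],
        hzj, e1 y i j hyi]
    have h2 : (z * y) * g * (z * y)⁻¹ = g ^ (i * j) := by
      rw [show (z * y) * g * (z * y)⁻¹ = z * (y * g * y⁻¹) * z⁻¹ by simp only [mul_inv_rev, mul_assoc],
        hyi, e1 z j i hzj, mul_comm]
    rw [← h2] at h1
    have := congrArg (fun w => (z * y)⁻¹ * w * (y * z)) h1
    simp only [mul_assoc, inv_mul_cancel_left, inv_mul_cancel, mul_one, mul_inv_rev] at this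
    simp only [hxdef, mul_assoc]
    exact this
  have hxs : ∀ w ∈ s, x w = ((τ * υ) * (τ * υ)) w := by
    intro w hw
    have hzi : ∀ v ∈ s, z⁻¹ v = υ v := fun v hv => by
      rw [Equiv.Perm.inv_eq_iff_eq, hzs _ (hυs v hv), Equiv.swap_apply_self]
    have hyi' : ∀ v ∈ s, y⁻¹ v = τ v := fun v hv => by
      rw [Equiv.Perm.inv_eq_iff_eq, hys _ (hτs v hv), Equiv.swap_apply_self]
    simp only [hxdef, Equiv.Perm.mul_apply]
    rw [hzs w hw, hys _ (hυs w hw), hzi _ (hτs _ (hυs w hw)), hyi' _ (hυs _ (hτs _ (hυs w hw)))]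
  obtain ⟨x0, hx0⟩ := hgc.nonempty_support
  rw [Equiv.Perm.mem_support] at hx0
  have hxx0 : g (x x0) ≠ x x0 := by
    rw [← Equiv.Perm.mul_apply, ← hcomm, Equiv.Perm.mul_apply]
    exact fun h => hx0 (x.injective h)
  obtain ⟨k, hk⟩ := hgc.exists_zpow_eq hx0 hxx0
  have hz3 : (g ^ k)⁻¹ * x = (τ * υ) * (τ * υ) := by
    apply Equiv.ext
    intro w
    rw [Equiv.Perm.mul_apply, Equiv.Perm.inv_eq_iff_eq]
    by_cases hw : g w = w
    · rw [hxs w hw]
      exact (Equiv.Perm.zpow_apply_eq_self_of_apply_eq_self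
        (hgs _ (hτs _ (hυs _ (hτs _ (hυs w hw))))) k).symm
    · obtain ⟨l, hl⟩ := hgc.exists_zpow_eq hx0 hw
      have hfix : ((τ * υ) * (τ * υ)) w = w := by
        have h1 : τ w = w := Equiv.swap_apply_of_ne_of_ne (fun e => hw (e ▸ ha)) (fun e => hw (e ▸ hb))
        have h2 : υ w = w := Equiv.swap_apply_of_ne_of_ne (fun e => hw (e ▸ hb)) (fun e => hw (e ▸ hc))
        simp [Equiv.Perm.mul_apply, h1, h2]
      rw [hfix, ← hl, ← Equiv.Perm.mul_apply, (Commute.zpow_right hcomm l).eq, Equiv.Perm.mul_apply, ← hk,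
        ← Equiv.Perm.mul_apply, ← Equiv.Perm.mul_apply, ← zpow_add, ← zpow_add, add_comm]
  have h3 : ((g ^ k)⁻¹ * x).IsThreeCycle := by
    rw [hz3]
    have : (τ * υ).IsThreeCycle := by
      have := Equiv.Perm.isThreeCycle_swap_mul_swap_same (Ne.symm hab) hbc hac
      rwa [Equiv.swap_comm b a] at this
    exact Equiv.Perm.IsThreeCycle.isThreeCycle_sq this
  exact Equiv.Perm.alternatingGroup_le_of_isPreprimitive_of_isThreeCycle_mem hG h3
    (G.mul_mem (G.inv_mem (G.zpow_mem hg k)) hxG)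

end Cfsg.Agent.S0713
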