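import Cfsg.Statements.S5420
import Cfsg.Agent.Lib.LargeXSpecial.Basic

set_option autoImplicit false
open Cfsg

namespace Cfsg.Agent.S5420

open CfsgLib

/-- Let Q be an extraspecial 2-subgroup of the finite group G whose centralizer in G is its centre Z and which is normal in the centralizer of Z. If Z lies in the largest normal 2-subgroup of G, then Q is a large extraspecial 2-subgroup of G: it normalizes no non-trivial subgroup of G of odd order. -/
theorem result {G : Type*} [Group G] [Finite G] (Q : Subgroup G) (hL1 : Cfsg.IsExtraspecial 2 ↥Q) (hL2 : Subgroup.centralizer (Q : Set G) = ((Subgroup.center ↥Q).map Q.subtype)) (hL3 : Subgroup.centralizer (((Subgroup.center ↥Q).map Q.subtype) : Set G) ≤ Subgroup.normalizer (Q : Set G)) (hZ : ((Subgroup.center ↥Q).map Q.subtype) ≤ Cfsg.pCore 2 G) : Cfsg.IsLargeExtraspecial Q := by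
  refine ⟨hL1, hL2, hL3, fun K hK hQK => ?_⟩
  set Z := (Subgroup.center ↥Q).map Q.subtype with hZdef
  have hZQ : Z ≤ Q := Subgroup.map_subtype_le _
  have hpc : IsPGroup 2 (Cfsg.pCore 2 G) := LargeXS.pCore_isPGroup 2 G
  -- `Z` centralizes `K`
  have hKZ : K ≤ Subgroup.centralizer (Z : Set G) := by
    intro k hk z hz
    have h1 : k * z * k⁻¹ * z⁻¹ ∈ Cfsg.pCore 2 G :=
      Subgroup.mul_mem _ ((inferInstance : (Cfsg.pCore 2 G).Normal).conj_mem z (hZ hz) k)
        ((Cfsg.pCore 2 G).inv_mem (hZ hz))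
    have h2 : k * z * k⁻¹ * z⁻¹ ∈ K := by
      have := (Subgroup.mem_normalizer_iff.1 (hQK (hZQ hz)) k⁻¹).1 (K.inv_mem hk)
      simpa [mul_assoc] using K.mul_mem hk this
    have h3 := LargeXS.eq_one_of_mem_odd_two hpc hK h1 h2
    calc z * k = (k * z * k⁻¹ * z⁻¹) * (z * k) := by rw [h3, one_mul]
      _ = k * z := by group
  exact LargeXS.eq_bot_of_le_centralizer_center hL1 hL2 hL3 hK hQK hKZ

end Cfsg.Agent.S5420
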