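import Cfsg.Statements.S5422
import Cfsg.Agent.Lib.LargeXSpecial.Pair
import Cfsg.Agent.Lib.LargeXSpecial.Orbit

set_option autoImplicit false
open Cfsg

namespace Cfsg.Agent.S5422

open CfsgLib.LargeXS

/-- Let Q be an extraspecial 2-subgroup of the finite group G whose centralizer in G is its centre Z and which is normal in the centralizer of Z; suppose Q has width at least 2 (order 2^(2w+1) with w ≥ 2) and g is an element of G not normalizing Z with g Z g⁻¹ inside Q. Then Z lies inside g Q g⁻¹; writing V for the subgroup generated by Z and g Z g⁻¹ (a four-group), the normalizer of V induces on V its full automorphism group, that is, the centralizer of V has index 6 in the normalizer of V; and Q is a large extraspecial 2-subgroup of G. -/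
theorem result {G : Type*} [Group G] [Finite G] (Q : Subgroup G) (hL1 : Cfsg.IsExtraspecial 2 ↥Q) (hL2 : Subgroup.centralizer (Q : Set G) = ((Subgroup.center ↥Q).map Q.subtype)) (hL3 : Subgroup.centralizer (((Subgroup.center ↥Q).map Q.subtype) : Set G) ≤ Subgroup.normalizer (Q : Set G)) (w : ℕ) (hw : 2 ≤ w) (hcard : Nat.card ↥Q = 2 ^ (2 * w + 1)) (g : G) (hg : g ∉ Subgroup.normalizer (((Subgroup.center ↥Q).map Q.subtype) : Set G)) (hZg : (((Subgroup.center ↥Q).map Q.subtype)).map (MulAut.conj g).toMonoidHom ≤ Q) : ((Subgroup.center ↥Q).map Q.subtype) ≤ (Q).map (MulAut.conj g).toMonoidHom ∧ (Subgroup.centralizer ((((Subgroup.center ↥Q).map Q.subtype) ⊔ (((Subgroup.center ↥Q).map Q.subtype)).map (MulAut.conj g).toMonoidHom : Subgroup G) : Set G)).relIndex (Subgroup.normalizer ((((Subgroup.center ↥Q).map Q.subtype) ⊔ (((Subgroup.center ↥Q).map Q.subtype)).map (MulAut.conj g).toMonoidHom : Subgroup G) : Set G)) = 6 ∧ Cfsg.IsLargeExtraspecial Q := by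
  have hZgQ := hZg
  clear hZg
  obtain ⟨z, hz⟩ := exists_center_gen hL1
  have h := xpair_of hL1 hL2 hL3 hz
  have hZg : ((Subgroup.center ↥Q).map Q.subtype).map (MulAut.conj g).toMonoidHom = Subgroup.zpowers (g * z * g⁻¹) := by
    rw [hz, MonoidHom.map_zpowers]; rfl
  set v := g * z * g⁻¹ with hv
  have hvQ : v ∈ Q := hZgQ (hZg.symm ▸ Subgroup.mem_zpowers v)
  have hne : v ≠ z := by
    intro e
    apply hg
    rw [Subgroup.mem_normalizer_iff_conj_image_eq, ← MulEquiv.coe_toMonoidHom, ← Subgroup.coe_map, hZg, e, hz]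
  have hcard16 : 16 ≤ Nat.card Q := by
    rw [hcard]
    calc 16 = 2 ^ 4 := by norm_num
      _ ≤ 2 ^ (2 * w + 1) := Nat.pow_le_pow_right (by norm_num) (by omega)
  set Qv := Q.map (MulAut.conj g).toMonoidHom with hQv
  have hzQv : z ∈ Qv := h.mem_conjugate_of_mem hvQ hne hcard16
  have hv' : XPair Qv v := h.conjugate g
  have hvv := hv'.mul_self
  have hzv : z * v = v * z := (h.central v hvQ).symm
  refine ⟨?_, ?_, hL1, hL2, hL3, fun K hK hQK => ?_⟩
  · rw [hz]; exact Subgroup.zpowers_le.2 hzQv
  · set V := ((Subgroup.center ↥Q).map Q.subtype) ⊔ ((Subgroup.center ↥Q).map Q.subtype).map (MulAut.conj g).toMonoidHom with hV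
    have hVz : V = Subgroup.closure {z, v} := by
      rw [hV, hZg, hz, Subgroup.zpowers_eq_closure, Subgroup.zpowers_eq_closure, ← Subgroup.closure_union,
        Set.singleton_union]
    have hzV : z ∈ V := hVz ▸ Subgroup.subset_closure (Set.mem_insert _ _)
    have hvV : v ∈ V := hVz ▸ Subgroup.subset_closure (Set.mem_insert_of_mem _ rfl)
    have hmemV : ∀ x ∈ V, x = 1 ∨ x = z ∨ x = v ∨ x = v * z := by
      have hzz := h.mul_self
      have e1 : z * (v * z) = v := by rw [← mul_assoc, hzv, mul_assoc, hzz, mul_one]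
      have e2 : v * (v * z) = z := by rw [← mul_assoc, hvv, one_mul]
      have e3 : v * z * v = z := by rw [mul_assoc, hzv, e2]
      have e4 : v * z * z = v := by rw [mul_assoc, hzz, mul_one]
      intro x hx
      rw [hVz] at hx
      induction hx using Subgroup.closure_induction with
      | mem y hy => rcases hy with rfl | rfl <;> simp
      | one => simp
      | mul a b _ _ ha hb =>
        rcases ha with rfl | rfl | rfl | rfl <;> rcases hb with rfl | rfl | rfl | rfl <;>
          simp [hzz, hvv, hzv, e1, e2, e3, e4, mul_assoc]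
      | inv a _ ha =>
        rcases ha with rfl | rfl | rfl | rfl
        · simp
        · simp [inv_eq_of_mul_eq_one_right hzz]
        · simp [inv_eq_of_mul_eq_one_right hvv]
        · simp [inv_eq_of_mul_eq_one_right hzz, inv_eq_of_mul_eq_one_right hvv, hzv]
    have hnorm : ∀ a : G, a * z * a⁻¹ ∈ V → a * v * a⁻¹ ∈ V → a ∈ Subgroup.normalizer (V : Set G) := by
      intro a h1 h2
      rw [Subgroup.mem_normalizer_iff_conj_image_eq, ← MulEquiv.coe_toMonoidHom, ← Subgroup.coe_map,
        SetLike.coe_set_eq]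
      refine Subgroup.eq_of_le_of_card_ge ?_ (le_of_eq (Subgroup.card_map_of_injective (MulAut.conj a).injective).symm)
      rw [hVz, MonoidHom.map_closure, ← hVz, Subgroup.closure_le]
      rintro _ ⟨y, rfl | rfl, rfl⟩
      exacts [h1, h2]
    obtain ⟨q, hq, hqv⟩ := h.exists_conj_eq_mul hvQ hv'.ne_one hne
    obtain ⟨x, hx, hxz⟩ := hv'.exists_conj_eq_mul hzQv h.ne_one hne.symm
    have hqz : q * z * q⁻¹ = z := mul_inv_eq_iff_eq_mul.2 (h.central q hq)
    have hxv : x * v * x⁻¹ = v := mul_inv_eq_iff_eq_mul.2 (hv'.central x hx)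
    have hqN : q ∈ Subgroup.normalizer (V : Set G) :=
      hnorm q (by rw [hqz]; exact hzV) (by rw [hqv]; exact V.mul_mem hvV hzV)
    have hxN : x ∈ Subgroup.normalizer (V : Set G) :=
      hnorm x (by rw [hxz]; exact V.mul_mem hzV hvV) (by rw [hxv]; exact hvV)
    have hC : Subgroup.centralizer (V : Set G) = Subgroup.centralizer ({z} : Set G) ⊓ Subgroup.centralizer ({v} : Set G) := by
      ext a
      rw [hVz, Subgroup.centralizer_closure, Subgroup.mem_inf, Subgroup.mem_centralizer_singleton_iff,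
        Subgroup.mem_centralizer_singleton_iff, Subgroup.mem_centralizer_iff]
      simp only [Set.mem_insert_iff, Set.mem_singleton_iff, forall_eq_or_imp, forall_eq]
      exact ⟨fun ⟨h1, h2⟩ => ⟨h1.symm, h2.symm⟩, fun ⟨h1, h2⟩ => ⟨h1.symm, h2.symm⟩⟩
    set N := Subgroup.normalizer (V : Set G) with hN
    have hi1 : (Subgroup.centralizer ({z} : Set G)).relIndex N = 3 := by
      rw [relIndex_centralizer, show {b : G | ∃ n ∈ N, n * z * n⁻¹ = b} = {z, v * z, v} from ?_]
      · exact Set.ncard_eq_three.2 ⟨z, v * z, v, fun e => hv'.ne_one (by simpa using e),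
          fun e => hne e.symm, fun e => h.ne_one (by simpa using e), rfl⟩
      ext b
      constructor
      · rintro ⟨n, hn, rfl⟩
        rcases hmemV _ ((Subgroup.mem_normalizer_iff.1 hn z).1 hzV) with e | e | e | e
        · exact absurd (conj_eq_one_iff.1 e) h.ne_one
        all_goals simp [e]
      · rintro (rfl | rfl | rfl)
        · exact ⟨1, N.one_mem, by simp⟩
        · exact ⟨x, hxN, by rw [hxz, hzv]⟩
        · refine ⟨q * x, N.mul_mem hqN hxN, ?_⟩
          calc q * x * z * (q * x)⁻¹ = (q * z * q⁻¹) * (q * v * q⁻¹) := by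
                rw [show q * x * z * (q * x)⁻¹ = q * (x * z * x⁻¹) * q⁻¹ by group, hxz]; group
            _ = v := by rw [hqz, hqv, ← mul_assoc, hzv, mul_assoc, h.mul_self, mul_one]
    have hi2 : (Subgroup.centralizer ({v} : Set G)).relIndex (N ⊓ Subgroup.centralizer ({z} : Set G)) = 2 := by
      rw [relIndex_centralizer, show {b : G | ∃ n ∈ N ⊓ Subgroup.centralizer ({z} : Set G), n * v * n⁻¹ = b} = {v, v * z} from ?_]
      · exact Set.ncard_pair fun e => h.ne_one (by simpa using e.symm)
      ext b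
      constructor
      · rintro ⟨n, ⟨hn, hnz⟩, rfl⟩
        rcases hmemV _ ((Subgroup.mem_normalizer_iff.1 hn v).1 hvV) with e | e | e | e
        · exact absurd (conj_eq_one_iff.1 e) hv'.ne_one
        · refine absurd ?_ hne
          have h1 : n * z * n⁻¹ = z := mul_inv_eq_iff_eq_mul.2 (Subgroup.mem_centralizer_singleton_iff.1 hnz)
          calc v = n⁻¹ * (n * v * n⁻¹) * n := by group
            _ = n⁻¹ * (n * z * n⁻¹) * n := by rw [e, h1]
            _ = z := by group
        all_goals simp [e]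
      · rintro (rfl | rfl)
        · exact ⟨1, Subgroup.one_mem _, by simp⟩
        · exact ⟨q, ⟨hqN, Subgroup.mem_centralizer_singleton_iff.2 (h.central q hq)⟩, hqv⟩
    have hCN : Subgroup.centralizer (V : Set G) ≤ N := Subgroup.centralizer_le_normalizer (V : Set G)
    have hCle : Subgroup.centralizer (V : Set G) ≤ N ⊓ Subgroup.centralizer ({z} : Set G) :=
      le_inf hCN (hC ▸ inf_le_left)
    rw [← Subgroup.relIndex_mul_relIndex _ _ _ hCle inf_le_left,
      show (N ⊓ Subgroup.centralizer ({z} : Set G)) = Subgroup.centralizer ({z} : Set G) ⊓ N from inf_comm _ _,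
      Subgroup.inf_relIndex_right, hi1]
    have : (Subgroup.centralizer (V : Set G)).relIndex (Subgroup.centralizer ({z} : Set G) ⊓ N) = 2 := by
      rw [← Subgroup.inf_relIndex_right, show Subgroup.centralizer (V : Set G) ⊓ (Subgroup.centralizer ({z} : Set G) ⊓ N)
          = Subgroup.centralizer ({v} : Set G) ⊓ (Subgroup.centralizer ({z} : Set G) ⊓ N) from by rw [hC]; ac_rfl,
        Subgroup.inf_relIndex_right, inf_comm, hi2]
    rw [this]
  · refine h.eq_bot_of_fixed_point_free hK hQK hvQ hvv hv'.ne_one hne fun k hk hkv => h.eq_one_of_odd hK hQK hk ?_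
    have h1 : k * z * k⁻¹ * z⁻¹ ∈ K := by
      have := (Subgroup.mem_normalizer_iff.1 (hQK h.mem) k⁻¹).1 (K.inv_mem hk)
      simpa [mul_assoc] using K.mul_mem hk this
    have h2 : k * z * k⁻¹ * z⁻¹ ∈ Qv := Qv.mul_mem (hv'.norm k hkv z hzQv) (Qv.inv_mem hzQv)
    exact mul_inv_eq_iff_eq_mul.1 (mul_inv_eq_one.1 (eq_one_of_mem_odd_two hv'.two hK h2 h1))

end Cfsg.Agent.S5422
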