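import Cfsg.Statements.S5434
import Cfsg.Agent.Lib.LargeXSpecial.Sub
import Cfsg.Agent.Lib.Solvable.CoprimeAction

set_option autoImplicit false
open Cfsg

namespace Cfsg.Agent.S5434

open CfsgLib.LargeXS

/-- Let Q be a large extraspecial 2-subgroup of the finite group G (extraspecial; centralizer equal to its centre; normal in the centralizer of its centre; normalizing no non-trivial subgroup of odd order), and A a non-trivial subgroup of odd order of the normalizer of Q. Then Q is the central product of the centralizer of A in Q and the commutator subgroup [Q, A] (they generate Q and commute elementwise), [Q, A] is extraspecial, and the centralizer of A in Q is either the centre of Q or extraspecial. -/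
theorem result {G : Type*} [Group G] [Finite G] (Q : Subgroup G) (hQ : Cfsg.IsLargeExtraspecial Q) (A : Subgroup G) (hA : A ≤ Subgroup.normalizer (Q : Set G)) (hAodd : Odd (Nat.card ↥A)) (hA1 : A ≠ ⊥) : (Q ⊓ Subgroup.centralizer (A : Set G)) ⊔ ⁅Q, A⁆ = Q ∧ (∀ x ∈ Q ⊓ Subgroup.centralizer (A : Set G), ∀ y ∈ ⁅Q, A⁆, x * y = y * x) ∧ Cfsg.IsExtraspecial 2 ↥⁅Q, A⁆ ∧ (Q ⊓ Subgroup.centralizer (A : Set G) = ((Subgroup.center ↥Q).map Q.subtype) ∨ Cfsg.IsExtraspecial 2 ↥(Q ⊓ Subgroup.centralizer (A : Set G))) := by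
  haveI : Fact (Nat.Prime 2) := ⟨Nat.prime_two⟩
  obtain ⟨hE, hC, hN, -⟩ := hQ
  obtain ⟨z, hz⟩ := exists_center_gen hE
  have h := xpair_of hE hC hN hz
  haveI : Group.IsNilpotent Q := h.two.isNilpotent
  have hcop : (Nat.card A).Coprime (Nat.card Q) := by
    obtain ⟨n, hn⟩ := IsPGroup.iff_card.1 h.two
    rw [hn]; exact (Nat.coprime_two_right.2 hAodd).pow_right n
  have hsolv : Group.IsSolvable A ∨ Group.IsSolvable Q := Or.inr inferInstance
  have hsup := CfsgLib.Solvable.commutator_sup_centralizer hA hcop hsolv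
  have hRQ : ⁅Q, A⁆ ≤ Q := CfsgLib.Solvable.commutator_le_of_normalizes hA
  have hzA : ∀ a ∈ A, a * z = z * a := fun a ha =>
    Subgroup.mem_centralizer_singleton_iff.1 (normalizer_le_centralizer hE hz (hA ha))
  set C := Q ⊓ Subgroup.centralizer (A : Set G) with hCdef
  have hcomm : ∀ x ∈ C, ∀ y ∈ ⁅Q, A⁆, x * y = y * x := by
    intro x hx y hy
    induction hy using Subgroup.closure_induction with
    | mem y hy =>
      obtain ⟨q, hq, a, ha, rfl⟩ := hy
      rw [commutatorElement_def]
      have hxa : x * a * x⁻¹ = a := mul_inv_eq_iff_eq_mul.2 (hx.2 a ha).symm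
      refine mul_inv_eq_iff_eq_mul.1 ?_
      rcases h.conj_cases hx.1 hq with e | e
      · calc x * (q * a * q⁻¹ * a⁻¹) * x⁻¹
            = (x * q * x⁻¹) * (x * a * x⁻¹) * (x * q * x⁻¹)⁻¹ * (x * a * x⁻¹)⁻¹ := by group
          _ = q * a * q⁻¹ * a⁻¹ := by rw [hxa, e]
      · calc x * (q * a * q⁻¹ * a⁻¹) * x⁻¹
            = (x * q * x⁻¹) * (x * a * x⁻¹) * (x * q * x⁻¹)⁻¹ * (x * a * x⁻¹)⁻¹ := by group
          _ = q * (z * a) * z⁻¹ * q⁻¹ * a⁻¹ := by rw [hxa, e]; group
          _ = q * a * q⁻¹ * a⁻¹ := by rw [← hzA a ha]; group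
    | one => simp
    | mul a b _ _ ha hb => exact (Commute.mul_right ha hb).eq
    | inv a _ ha => exact (Commute.inv_right ha).eq
  have hsup' : C ⊔ ⁅Q, A⁆ = Q := by rw [sup_comm]; exact hsup
  -- an element of one factor central in it is central in `Q`
  have central_of : ∀ x : G, (∀ c ∈ C, c * x = x * c) → (∀ r ∈ ⁅Q, A⁆, r * x = x * r) → x = 1 ∨ x = z := by
    intro x h1 h2
    refine h.selfCent x fun q hq => ?_
    have hle : C ⊔ ⁅Q, A⁆ ≤ Subgroup.centralizer ({x} : Set G) :=
      sup_le (fun c hc => Subgroup.mem_centralizer_singleton_iff.2 (h1 c hc))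
        (fun r hr => Subgroup.mem_centralizer_singleton_iff.2 (h2 r hr))
    exact Subgroup.mem_centralizer_singleton_iff.1 (hle (hsup'.symm ▸ hq))
  refine ⟨hsup', hcomm, ?_, ?_⟩
  · refine (h.isExtraspecial_of_center_le hRQ ?_ fun x hx hxc => ?_).1
    · by_contra hcon
      push Not at hcon
      apply hA1
      have h0 : ⁅⁅Q, A⁆, A⁆ = ⊥ := by
        rw [Subgroup.commutator_eq_bot_iff_le_centralizer]
        intro x hx a ha
        by_cases e : x = 1
        · simp [e]
        · rw [hcon x hx e]; exact hzA a ha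
      rw [CfsgLib.Solvable.commutator_commutator_eq hA hcop hsolv] at h0
      rw [eq_bot_iff]
      intro a ha
      have hq : ∀ q ∈ Q, q * a = a * q := fun q hq =>
        ((Subgroup.commutator_eq_bot_iff_le_centralizer.1 h0 hq) a ha).symm
      rcases h.selfCent a hq with e | e
      · exact e
      · exact eq_one_of_mem_odd_two h.two hAodd (e ▸ h.mem) ha
    · exact central_of x (fun c hc => hcomm c hc x hx) hxc
  · by_cases hne : ∃ r ∈ C, r ≠ 1 ∧ r ≠ z
    · exact Or.inr (h.isExtraspecial_of_center_le inf_le_left hne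
        fun x hx hxc => central_of x hxc fun r hr => (hcomm x hx r hr).symm).1
    · left
      push Not at hne
      rw [hz]
      refine le_antisymm (fun x hx => ?_) (Subgroup.zpowers_le.2 ⟨h.mem, fun a ha => hzA a ha⟩)
      by_cases e : x = 1
      · exact e ▸ one_mem _
      · rw [hne x hx e]; exact Subgroup.mem_zpowers z

end Cfsg.Agent.S5434
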