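import Cfsg.Statements.S1163
import Cfsg.Agent.Lib.SuzukiMatrix.Action

set_option autoImplicit false
open Cfsg

namespace Cfsg.Agent.S1163

/-- For the Suzuki group Sz(q), q = 2^(2m+1) ≥ 8, realised as the elements g of Sp₄(F) with g* = g^θ (θ the 2^(m+1)-th power map, so that θ² is squaring): `|Sz(q)| = q² (q - 1) (q² + 1)`, and there is a Sylow 2-subgroup `S` whose normaliser `H` has order `q²(q-1)` and index `q² + 1`, the action of `Sz(q)` on the cosets of `H` is doubly transitive, and `S` acts regularly on the cosets other than `H` itself. -/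
theorem result {F : Type*} [Field F] [Fintype F] {m : ℕ} (hm : 1 ≤ m) (hF : Fintype.card F = 2 ^ (2 * m + 1)) :
    Nat.card ↥(Cfsg.Lie.Sz F (2 ^ (m + 1))) = (2 ^ (2 * m + 1)) ^ 2 * (2 ^ (2 * m + 1) - 1) * ((2 ^ (2 * m + 1)) ^ 2 + 1) ∧
    ∃ S : Sylow 2 ↥(Cfsg.Lie.Sz F (2 ^ (m + 1))),
      Nat.card (Subgroup.normalizer ((S : Subgroup ↥(Cfsg.Lie.Sz F (2 ^ (m + 1)))) : Set ↥(Cfsg.Lie.Sz F (2 ^ (m + 1))))) = (2 ^ (2 * m + 1)) ^ 2 * (2 ^ (2 * m + 1) - 1) ∧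
      (Subgroup.normalizer ((S : Subgroup ↥(Cfsg.Lie.Sz F (2 ^ (m + 1)))) : Set ↥(Cfsg.Lie.Sz F (2 ^ (m + 1))))).index = (2 ^ (2 * m + 1)) ^ 2 + 1 ∧
      MulAction.IsMultiplyPretransitive ↥(Cfsg.Lie.Sz F (2 ^ (m + 1))) (↥(Cfsg.Lie.Sz F (2 ^ (m + 1))) ⧸ Subgroup.normalizer ((S : Subgroup ↥(Cfsg.Lie.Sz F (2 ^ (m + 1)))) : Set ↥(Cfsg.Lie.Sz F (2 ^ (m + 1))))) 2 ∧
      ∀ x y : ↥(Cfsg.Lie.Sz F (2 ^ (m + 1))) ⧸ Subgroup.normalizer ((S : Subgroup ↥(Cfsg.Lie.Sz F (2 ^ (m + 1)))) : Set ↥(Cfsg.Lie.Sz F (2 ^ (m + 1)))),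
        x ≠ (QuotientGroup.mk 1) → y ≠ (QuotientGroup.mk 1) → ∃! s : ↥(S : Subgroup ↥(Cfsg.Lie.Sz F (2 ^ (m + 1)))), (s : ↥(Cfsg.Lie.Sz F (2 ^ (m + 1)))) • x = y := by
  classical
  have h : CfsgLib.Suzuki.SzHyp F m := ⟨hm, hF⟩
  haveI : Fact (Nat.Prime 2) := ⟨Nat.prime_two⟩
  set e := CfsgLib.SuzukiMatrix.szEquiv h with he
  set q := 2 ^ (2 * m + 1) with hq
  have hcard : Nat.card ↥(Cfsg.Lie.Sz F (2 ^ (m + 1))) = q ^ 2 * (q - 1) * (q ^ 2 + 1) := by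
    rw [CfsgLib.SuzukiMatrix.card_lieSz h]; ring
  refine ⟨hcard, Sylow.ofCard _ (CfsgLib.SuzukiMatrix.card_map_tGroup h), ?_⟩
  set N := Subgroup.normalizer
    (((CfsgLib.Suzuki.tGroup h).map e.toMonoidHom : Subgroup ↥(Cfsg.Lie.Sz F (2 ^ (m + 1)))) :
      Set ↥(Cfsg.Lie.Sz F (2 ^ (m + 1)))) with hNdef
  have hN : N = (CfsgLib.Suzuki.borel F m).map e.toMonoidHom := by
    rw [hNdef, ← Subgroup.map_equiv_normalizer_eq, CfsgLib.SuzukiMatrix.normalizer_tGroup]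
  have hNcard : Nat.card N = q ^ 2 * (q - 1) := by
    rw [hN, Subgroup.card_map_of_injective e.injective, CfsgLib.Suzuki.card_stab h]
  -- the point of a coset
  let pt : ↥(Cfsg.Lie.Sz F (2 ^ (m + 1))) ⧸ N → Projectivization F (Fin 4 → F) :=
    fun x => e.symm x.out • (Cfsg.suzukiPointInfinity F)
  have hpt : ∀ g, pt (QuotientGroup.mk g) = e.symm g • Cfsg.suzukiPointInfinity F := by
    intro g
    obtain ⟨n, hn⟩ := QuotientGroup.mk_out_eq_mul N g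
    have hn' : e.symm (n : ↥(Cfsg.Lie.Sz F (2 ^ (m + 1)))) ∈ CfsgLib.Suzuki.borel F m := by
      obtain ⟨x, hx, hxe⟩ := hN.le n.2
      rw [← hxe]
      simpa using hx
    show e.symm (QuotientGroup.mk g : ↥(Cfsg.Lie.Sz F (2 ^ (m + 1))) ⧸ N).out • _ = _
    rw [hn, map_mul, mul_smul, MulAction.mem_stabilizer_iff.1 hn']
  have hmem : ∀ x, pt x ∈ Cfsg.suzukiOvoid F m := fun x =>
    CfsgLib.Suzuki.smul_ovoid (e.symm x.out).2 CfsgLib.Suzuki.pInf_mem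
  have hinj : Function.Injective pt := by
    intro x y
    obtain ⟨g, rfl⟩ := QuotientGroup.mk_surjective x
    obtain ⟨g', rfl⟩ := QuotientGroup.mk_surjective y
    rw [hpt, hpt]
    intro hgg
    rw [QuotientGroup.eq, hN]
    refine ⟨e.symm (g⁻¹ * g'), ?_, e.apply_symm_apply _⟩
    show e.symm (g⁻¹ * g') • Cfsg.suzukiPointInfinity F = _
    rw [map_mul, map_inv, mul_smul, ← hgg, inv_smul_smul]
  refine ⟨hNcard, ?_, ?_, ?_⟩
  · have h1 := N.card_mul_index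
    rw [hNcard, hcard] at h1
    refine Nat.eq_of_mul_eq_mul_left ?_ h1
    have : 2 ≤ q := le_self_pow (by norm_num) (by omega)
    have : 0 < q - 1 := by omega
    positivity
  · rw [MulAction.is_two_pretransitive_iff]
    intro a b c d hab hcd
    obtain ⟨u, hu1, hu2⟩ := CfsgLib.Suzuki.exists_smul_pair h (hmem a) (hmem b) (hinj.ne hab)
    obtain ⟨v, hv1, hv2⟩ := CfsgLib.Suzuki.exists_smul_pair h (hmem c) (hmem d) (hinj.ne hcd)
    have key : ∀ x y, u • pt x = v • pt y → e (v⁻¹ * u) • x = y := by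
      intro x y hxy
      apply hinj
      obtain ⟨g, rfl⟩ := QuotientGroup.mk_surjective x
      rw [MulAction.Quotient.smul_mk, hpt, smul_eq_mul, map_mul, MulEquiv.symm_apply_apply,
        mul_smul, mul_smul, ← hpt, hxy, inv_smul_smul]
    exact ⟨e (v⁻¹ * u), key a c (hu1.trans hv1.symm), key b d (hu2.trans hv2.symm)⟩
  · intro x y hx hy
    have haff : ∀ z, z ≠ QuotientGroup.mk 1 → ∃ c d, pt z = CfsgLib.Suzuki.pAff m c d := by
      intro z hz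
      rcases CfsgLib.Suzuki.mem_ovoid.1 (hmem z) with e1 | e1
      · exact absurd (hinj (e1.trans (by rw [hpt, map_one, one_smul]))) hz
      · exact e1
    obtain ⟨c, d, hcd⟩ := haff x hx
    obtain ⟨c', d', hcd'⟩ := haff y hy
    obtain ⟨⟨r, s⟩, hrs, huniq⟩ := CfsgLib.SuzukiMatrix.eq_one_of_tS_fix h
      (x := c) (y := d) (x' := c') (y' := d')
    have htrans : ∀ (t : Cfsg.Sz F m) (z), pt (e t • z) = t • pt z := by
      intro t z
      obtain ⟨g, rfl⟩ := QuotientGroup.mk_surjective z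
      rw [MulAction.Quotient.smul_mk, hpt, hpt, smul_eq_mul, map_mul, MulEquiv.symm_apply_apply,
        mul_smul]
    refine ⟨⟨e (CfsgLib.Suzuki.tS h r s), _, CfsgLib.Suzuki.tS_mem_tGroup h r s, rfl⟩, ?_, ?_⟩
    · apply hinj
      refine (htrans _ x).trans ?_
      rw [hcd, hcd']
      exact hrs
    · rintro ⟨_, t, ⟨r', s', rfl⟩, rfl⟩ ht
      have ht' := congrArg pt ht
      replace ht' := (htrans _ x).symm.trans ht'
      rw [hcd, hcd'] at ht'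
      obtain ⟨rfl, rfl⟩ := Prod.mk.injEq _ _ _ _ ▸ huniq (r', s') ht'
      rfl
end Cfsg.Agent.S1163
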