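import Cfsg.Statements.S5998
import Cfsg.Agent.Lib.LinFix.Heis3
-- import your own Cfsg.Agent.* helpers here

set_option autoImplicit false
open scoped MatrixGroups
open Cfsg

namespace Cfsg.Agent.S5998

open Matrix Polynomial CfsgLib.Heis

variable {F : Type*} [Field F] [Fintype F]

theorem mem_specialLinear_iff {n : ℕ} {x : GL (Fin n) F} :
    x ∈ Cfsg.Geo.specialLinear (Fin n) F ↔ (x : Matrix (Fin n) (Fin n) F).det = 1 := by
  rw [Cfsg.Geo.specialLinear, MonoidHom.mem_ker, Units.ext_iff]
  rfl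

theorem coprime_of_pow {p : ℕ} [Fact p.Prime] [CharP F p] {n k : ℕ} (hk : (k : F) ≠ 0) {c : F} (hc : c ≠ 0) {y : GL (Fin n) F}
    (hy : (y : Matrix (Fin n) (Fin n) F) ^ k = c • 1) : (orderOf y).Coprime p := by
  have h : y ^ (k * (Fintype.card F - 1)) = 1 := by
    apply Units.ext
    rw [pow_mul, Units.val_pow_eq_pow_val, Units.val_pow_eq_pow_val, hy, _root_.smul_pow, one_pow,
      FiniteField.pow_card_sub_one_eq_one c hc, one_smul, Units.val_one]
  refine Nat.Coprime.coprime_dvd_left (orderOf_dvd_of_pow_eq_one h) ?_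
  have hp : p.Prime := Fact.out
  rw [Nat.coprime_comm, hp.coprime_iff_not_dvd, ← CharP.cast_eq_zero_iff F p, Nat.cast_mul,
    Nat.cast_sub Fintype.card_pos, FiniteField.cast_card_eq_zero]
  simp [hk]

/-- Conjugating into the normalizer by a matrix of determinant one. -/
theorem exists_sl_conj (p : ℕ) [Fact p.Prime] [CharP F p] {R : Subgroup (GL (Fin 3) F)} {k : ℕ} (hk : (k : F) ≠ 0) {c : F} (hc : c ≠ 0)
    {x y : GL (Fin 3) F} (hx : (x : Matrix (Fin 3) (Fin 3) F) ^ k = c • 1)
    (hy : (y : Matrix (Fin 3) (Fin 3) F) ^ k = c • 1)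
    (hcp : (y : Matrix (Fin 3) (Fin 3) F).charpoly = (x : Matrix (Fin 3) (Fin 3) F).charpoly)
    (hyn : y ∈ Cfsg.Geo.subgroupNormalizer R) :
    ∃ g ∈ Cfsg.Geo.specialLinear (Fin 3) F, g⁻¹ * x * g ∈ Cfsg.Geo.subgroupNormalizer R := by
  obtain ⟨g, hg⟩ := isConj_iff.1 (CfsgLib.Semisimple.isConj_of_charpoly_eq p y x
    (coprime_of_pow hk hc hy) (coprime_of_pow hk hc hx) hcp)
  obtain ⟨D, hD, hDx⟩ := CfsgLib.Semisimple.exists_commute_det_eq p x (coprime_of_pow hk hc hx)
    ((Matrix.GeneralLinearGroup.det g⁻¹ : Fˣ) : F) (Units.ne_zero _)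
  refine ⟨D * g, ?_, ?_⟩
  · rw [mem_specialLinear_iff, Units.val_mul, Matrix.det_mul, hD]
    change ((Matrix.GeneralLinearGroup.det g⁻¹ : Fˣ) : F) * ((Matrix.GeneralLinearGroup.det g : Fˣ) : F) = 1
    rw [← Units.val_mul, ← map_mul, inv_mul_cancel, map_one, Units.val_one]
  · have hd : D * x = x * D := hDx
    have : (D * g)⁻¹ * x * (D * g) = y := by
      calc (D * g)⁻¹ * x * (D * g) = g⁻¹ * (D⁻¹ * (x * D)) * g := by group
        _ = g⁻¹ * (D⁻¹ * (D * x)) * g := by rw [hd]
        _ = g⁻¹ * x * g := by group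
        _ = y := by rw [← hg]; group
    rw [this]; exact hyn

theorem exists_cube_root_of_one (hF : 3 ∣ Fintype.card F - 1) : ∃ ω : F, ω ^ 3 = 1 ∧ ω ≠ 1 := by
  haveI : Fact (Nat.Prime 3) := ⟨Nat.prime_three⟩
  obtain ⟨u, hu⟩ := exists_prime_orderOf_dvd_card' (G := Fˣ) 3
    (by rwa [Nat.card_units, Nat.card_eq_fintype_card])
  refine ⟨u, ?_, fun h => ?_⟩
  · rw [← Units.val_pow_eq_pow_val, ← hu, pow_orderOf_eq_one, Units.val_one]
  · rw [Units.val_eq_one.1 h, orderOf_one] at hu
    norm_num at hu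

omit [Fintype F] in
theorem charpoly_hW (w : F) :
    (w • hW F).charpoly = (X + C w) * (X + C w) * (X - C w) := by
  rw [Matrix.charpoly, Matrix.det_fin_three]
  simp [hW, Matrix.charmatrix_apply, map_neg]
  ring

omit [Fintype F] in
theorem splits_of_roots {k : ℕ} {c ω w : F} (hk : k ≠ 0) (hw : w ^ k = c) (hw0 : w ≠ 0)
    (hω : IsPrimitiveRoot ω k) : (X ^ k - C c : F[X]).Splits :=
  X_pow_sub_C_splits_of_isPrimitiveRoot hω hw


/-- Elements of prime order of PSL_3(p), p ≡ 1 (mod 3), and the normalizer of an extraspecial subgroup of order 27. Here `T = PSL_3(F)` for the field `F` with `p` elements, `p` a prime with `p ≡ 1 (mod 3)`; `R` is a non-abelian subgroup of GL_3(F) of order 27 and exponent 3 (an extraspecial group 3^{1+2}, acting absolutely irreducibly), and `H` is the subgroup of matrices of determinant 1 normalizing `R` — a subgroup of type 3^{1+2}.Sp₂(3) (maximality is not assumed). Ω is the set of cosets of `H` in `T`, so an element of `T` of prime order `r` (a matrix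 `x` of determinant 1 with `x^r` scalar, `x` not scalar) fixes a point of Ω exactly when some conjugate of `x` by a matrix of determinant 1 normalizes `R`. Let `r` be a prime dividing the index of `H`. Then every element of `T` of order `r` fixes a point of Ω if and only if `r = 2`, or `r = 3` and `p ≡ 1 (mod 9)`. -/
theorem result {F : Type*} [Field F] [Fintype F] {p : ℕ} [Fact p.Prime] [CharP F p] (hF : Fintype.card F = p) (hp3 : p % 3 = 1)
    (R : Subgroup (GL (Fin 3) F)) (hR : Nat.card R = 27) (hRe : Monoid.exponent R = 3) (hRna : ¬ IsMulCommutative R)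
    (r : ℕ) [Fact r.Prime]
    (hΩ : r ∣ (Cfsg.Geo.subgroupNormalizer R).relIndex (Cfsg.Geo.specialLinear (Fin 3) F)) :
    (∀ x ∈ Cfsg.Geo.specialLinear (Fin 3) F, (∃ z : F, ((x ^ r : GL (Fin 3) F) : Matrix (Fin 3) (Fin 3) F) = z • (1 : Matrix (Fin 3) (Fin 3) F)) →
      (∀ z : F, (x : Matrix (Fin 3) (Fin 3) F) ≠ z • (1 : Matrix (Fin 3) (Fin 3) F)) →
      ∃ g ∈ Cfsg.Geo.specialLinear (Fin 3) F, g⁻¹ * x * g ∈ Cfsg.Geo.subgroupNormalizer R) ↔ (r = 2 ∨ (r = 3 ∧ p % 9 = 1)) := by
  classical
  have hp : p.Prime := Fact.out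
  have hp5 : 7 ≤ p := by
    have := hp.two_le
    by_contra h; push Not at h
    interval_cases p <;> simp_all (config := { decide := true })
  have hcast : ∀ k : ℕ, 0 < k → k < p → (k : F) ≠ 0 := fun k hk hkp h => by
    rw [CharP.cast_eq_zero_iff F p] at h
    exact absurd (Nat.le_of_dvd hk h) (by omega)
  have h3 : 3 ∣ Fintype.card F - 1 := by rw [hF]; omega
  obtain ⟨ω₀, hω₀, hω₀1⟩ := exists_cube_root_of_one h3
  obtain ⟨ω, Q, A, B, Z, hS⟩ := exists_standard R hR hRe hRna hω₀ hω₀1
  have hdetpow : ∀ (x : GL (Fin 3) F) (k : ℕ) (c : F), x ∈ Cfsg.Geo.specialLinear (Fin 3) F →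
      (x : Matrix (Fin 3) (Fin 3) F) ^ k = c • 1 → c ^ 3 = 1 := fun x k c hx hc => by
    have := congrArg Matrix.det hc
    rwa [Matrix.det_pow, mem_specialLinear_iff.1 hx, one_pow, Matrix.det_smul, Fintype.card_fin,
      Matrix.det_one, mul_one, eq_comm] at this
  have hr : r.Prime := Fact.out
  constructor
  · intro H
    rcases eq_or_ne r 2 with hr2 | hr2
    · exact Or.inl hr2
    rcases eq_or_ne r 3 with hr3 | hr3
    · refine Or.inr ⟨hr3, ?_⟩
      subst hr3
      by_contra h9
      have hsub : R ≤ Cfsg.Geo.specialLinear (Fin 3) F ⊓ Cfsg.Geo.subgroupNormalizer R := by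
        refine le_inf ?_ (fun g hg => ?_)
        · rw [← hS.gen, Subgroup.closure_le]
          rintro g (rfl | rfl)
          · rw [SetLike.mem_coe, mem_specialLinear_iff, hS.hA_eq, Matrix.det_units_conj, hA,
              Matrix.det_diagonal]
            simp [Fin.prod_univ_three]
            linear_combination hS.cube
          · rw [SetLike.mem_coe, mem_specialLinear_iff, hS.hB_eq, Matrix.det_units_conj, hB,
              Matrix.det_fin_three]
            simp
        · exact hS.mem_normalizer (R.mul_mem (R.mul_mem hg hS.A_mem) (R.inv_mem hg))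
            (R.mul_mem (R.mul_mem hg hS.B_mem) (R.inv_mem hg))
      have h27 : 27 ∣ Nat.card ↥(Cfsg.Geo.specialLinear (Fin 3) F ⊓ Cfsg.Geo.subgroupNormalizer R) :=
        hR ▸ Subgroup.card_dvd_of_le hsub
      have hmul : Nat.card ↥(Cfsg.Geo.specialLinear (Fin 3) F) =
          (Cfsg.Geo.subgroupNormalizer R).relIndex (Cfsg.Geo.specialLinear (Fin 3) F) *
            Nat.card ↥(Cfsg.Geo.specialLinear (Fin 3) F ⊓ Cfsg.Geo.subgroupNormalizer R) := by
        have := Subgroup.relIndex_mul_relIndex ⊥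
          (Cfsg.Geo.specialLinear (Fin 3) F ⊓ Cfsg.Geo.subgroupNormalizer R)
          (Cfsg.Geo.specialLinear (Fin 3) F) bot_le inf_le_left
        rw [Subgroup.relIndex_bot_left, Subgroup.relIndex_bot_left, Subgroup.inf_relIndex_left] at this
        rw [← this, mul_comm]
      have h81 : 3 * 27 ∣ Nat.card ↥(Cfsg.Geo.specialLinear (Fin 3) F) :=
        hmul ▸ mul_dvd_mul hΩ h27
      have hGL : Nat.card (GL (Fin 3) F) = (p - 1) * Nat.card ↥(Cfsg.Geo.specialLinear (Fin 3) F) := by
        rw [Subgroup.card_eq_card_quotient_mul_card_subgroup (Cfsg.Geo.specialLinear (Fin 3) F)]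
        congr 1
        rw [Cfsg.Geo.specialLinear, Nat.card_congr (QuotientGroup.quotientKerEquivOfSurjective _
          Matrix.GeneralLinearGroup.det_surjective).toEquiv, Nat.card_units, Nat.card_eq_fintype_card, hF]
      obtain ⟨u, hu⟩ : ∃ u, p = 3 * u + 1 := ⟨p / 3, by omega⟩
      have hu3 : ¬ 3 ∣ u := fun ⟨v, hv⟩ => h9 (by omega)
      rw [Matrix.card_GL_field, hF, Fin.prod_univ_three] at hGL
      simp only [Fin.val_zero, Fin.val_one, Fin.val_two, pow_zero, pow_one] at hGL
      have e1 : p ^ 3 - 1 = 9 * u * (3 * u ^ 2 + 3 * u + 1) := by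
        refine Nat.sub_eq_of_eq_add ?_; rw [hu]; ring
      have e2 : p ^ 3 - p = p * (3 * u) * (3 * u + 2) := by
        refine Nat.sub_eq_of_eq_add ?_; rw [hu]; ring
      have e3 : p ^ 3 - p ^ 2 = p * p * (3 * u) := by
        refine Nat.sub_eq_of_eq_add ?_; rw [hu]; ring
      rw [e1, e2, e3, show p - 1 = 3 * u by omega] at hGL
      have hS' : Nat.card ↥(Cfsg.Geo.specialLinear (Fin 3) F) =
          27 * (u ^ 2 * (p ^ 3 * ((3 * u ^ 2 + 3 * u + 1) * (3 * u + 2)))) :=
        Nat.eq_of_mul_eq_mul_left (show 0 < 3 * u by omega) (hGL.symm.trans (by ring))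
      rw [hS', mul_comm 3 27, Nat.mul_dvd_mul_iff_left (by norm_num)] at h81
      rcases Nat.prime_three.dvd_mul.1 h81 with h | h
      · exact hu3 (Nat.prime_three.dvd_of_dvd_pow h)
      rcases Nat.prime_three.dvd_mul.1 h with h | h
      · have := Nat.prime_three.dvd_of_dvd_pow h; omega
      rcases Nat.prime_three.dvd_mul.1 h with h | h
      · have : 3 * u ^ 2 + 3 * u + 1 = 3 * (u ^ 2 + u) + 1 := by ring
        omega
      · omega
    · exfalso
      obtain ⟨x, hx⟩ := exists_prime_orderOf_dvd_card' (G := Cfsg.Geo.specialLinear (Fin 3) F) r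
        (hΩ.trans (Subgroup.relIndex_dvd_card _ _))
      have hxr : (x : GL (Fin 3) F) ^ r = 1 := by
        rw [← Subgroup.coe_pow, ← hx, pow_orderOf_eq_one, Subgroup.coe_one]
      have hxs : ∀ z : F, ((x : GL (Fin 3) F) : Matrix (Fin 3) (Fin 3) F) ≠ z • 1 := by
        intro z hz
        have h1 : z ^ 3 = 1 := hdetpow x 1 z x.2 (by rw [pow_one, hz])
        have h2 : z ^ r = 1 := by
          have h := congrArg (fun g : GL (Fin 3) F => (g : Matrix (Fin 3) (Fin 3) F) 0 0) hxr
          simp [hz, _root_.smul_pow] at h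
          exact h
        have hz1 : z = 1 := by
          have hg := (pow_gcd_eq_one (m := 3) (n := r) (a := z)).2 ⟨h1, h2⟩
          rwa [((Nat.coprime_primes Nat.prime_three hr).2 (Ne.symm hr3)).gcd_eq_one, pow_one] at hg
        have : x = 1 := Subtype.ext (Units.ext (by rw [hz, hz1, one_smul]; rfl))
        rw [this, orderOf_one] at hx
        exact hr.one_lt.ne hx
      obtain ⟨g, -, hg⟩ := H x x.2 ⟨1, by rw [hxr]; simp⟩ hxs
      obtain ⟨t, ht⟩ := hS.scalar_of_order hR hr2 hr3 (y := g⁻¹ * x * g) (by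
        calc (g⁻¹ * (x : GL (Fin 3) F) * g) ^ r = g⁻¹ * (x : GL (Fin 3) F) ^ r * g := by
              simpa using conj_pow (a := g⁻¹) (b := (x : GL (Fin 3) F)) (i := r)
          _ = 1 := by rw [hxr]; group) hg
      refine hxs t ?_
      have hc := CfsgLib.Heis.commute_of_scalar (h := g⁻¹) ht
      have : (x : GL (Fin 3) F) = g⁻¹ * x * g := by
        calc (x : GL (Fin 3) F) = g * (g⁻¹ * x * g * g⁻¹) := by group
          _ = g * (g⁻¹ * (g⁻¹ * x * g)) := by rw [hc]
          _ = _ := by group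
      rw [this]; exact ht
  · rintro hrhs x hx ⟨c, hc⟩ hns
    rw [Units.val_pow_eq_pow_val] at hc
    have hc3 := hdetpow x r c hx hc
    have hc0 : c ≠ 0 := fun h => by rw [h] at hc3; simp at hc3
    rcases hrhs with rfl | ⟨rfl, h9⟩
    · have hw2 : (c ^ 2) ^ 2 = c := by linear_combination c * hc3
      have h2 : ((2 : ℕ) : F) ≠ 0 := hcast 2 two_pos (by omega)
      have hneg : IsPrimitiveRoot (-1 : F) 2 := by
        exact IsPrimitiveRoot.neg_one p (by omega)
      obtain ⟨d, hd, hcp⟩ := exists_charpoly_roots (splits_of_roots two_ne_zero hw2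
        (pow_ne_zero _ hc0) hneg) two_ne_zero hc
      have hdv : ∀ i, d i = c ^ 2 ∨ d i = -c ^ 2 := fun i =>
        sq_eq_sq_iff_eq_or_eq_neg.1 (by rw [hd i, hw2])
      let y : GL (Fin 3) F := Matrix.GeneralLinearGroup.mkOfDetNeZero
        ((Q : Matrix (Fin 3) (Fin 3) F) * hW F * ((Q⁻¹ : GL (Fin 3) F) : Matrix (Fin 3) (Fin 3) F))
        (by rw [Matrix.det_units_conj, hW, Matrix.det_fin_three]; simp)
      let s : GL (Fin 3) F := Matrix.GeneralLinearGroup.mkOfDetNeZero ((c ^ 2) • (1 : Matrix (Fin 3) (Fin 3) F))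
        (by simp [hc0])
      have hyn := hS.involution_normalizes (y := y) rfl
      have hsn : s ∈ Cfsg.Geo.subgroupNormalizer R := by
        refine hS.mem_normalizer ?_ ?_ <;>
          rw [CfsgLib.Heis.commute_of_scalar (g := s) rfl, mul_inv_cancel_right]
        exacts [hS.A_mem, hS.B_mem]
      have hsy : ((s * y : GL (Fin 3) F) : Matrix (Fin 3) (Fin 3) F) =
          (Q : Matrix (Fin 3) (Fin 3) F) * (c ^ 2 • hW F) *
            ((Q⁻¹ : GL (Fin 3) F) : Matrix (Fin 3) (Fin 3) F) := by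
        change (c ^ 2 • (1 : Matrix (Fin 3) (Fin 3) F)) * (_ * hW F * _) = _
        rw [Matrix.smul_mul, one_mul, Matrix.mul_smul, Matrix.smul_mul]
      refine exists_sl_conj p (k := 2) h2 hc0 hc (y := s * y) ?_ ?_ (Subgroup.mul_mem _ hsn hyn)
      · rw [hsy, Units.conj_pow, _root_.smul_pow, hw2]
        have : hW F ^ 2 = 1 := by
          rw [pow_two]; ext i j
          fin_cases i <;> fin_cases j <;> simp [hW, Matrix.mul_apply, Fin.sum_univ_three]
        simp [this]
      · rw [hsy, Matrix.coe_units_inv, Matrix.charpoly_units_conj, charpoly_hW, hcp, Fin.prod_univ_three]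
        have hdet : d 0 * d 1 * d 2 = 1 := by
          have h := Matrix.det_eq_sign_charpoly_coeff (x : Matrix (Fin 3) (Fin 3) F)
          rw [mem_specialLinear_iff.1 hx, hcp, coeff_zero_eq_eval_zero, Fin.prod_univ_three] at h
          simp at h
          linear_combination -h
        have hne : ¬ (d 0 = d 1 ∧ d 1 = d 2) := by
          rintro ⟨e1, e2⟩
          obtain ⟨g, hg⟩ := isConj_iff.1 (CfsgLib.Semisimple.isConj_of_charpoly_eq p x
            (Matrix.GeneralLinearGroup.mkOfDetNeZero ((d 0) • (1 : Matrix (Fin 3) (Fin 3) F))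
              (by rw [Matrix.det_smul, Matrix.det_one, mul_one]
                  exact pow_ne_zero _ fun h0 => hc0 (by rw [← hd 0, h0, zero_pow two_ne_zero])))
            (coprime_of_pow h2 hc0 hc)
            (coprime_of_pow (c := c) h2 hc0 (by
              change (d 0 • (1 : Matrix (Fin 3) (Fin 3) F)) ^ 2 = _
              rw [_root_.smul_pow, one_pow, hd]))
            (by
              rw [hcp, Fin.prod_univ_three, ← e2, ← e1]
              change _ = (d 0 • (1 : Matrix (Fin 3) (Fin 3) F)).charpoly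
              rw [Matrix.smul_one_eq_diagonal, Matrix.charpoly_diagonal, Fin.prod_univ_three]))
          refine hns (d 0) ?_
          have hx' : x = g⁻¹ * (g * x * g⁻¹) * g := by group
          rw [hg] at hx'
          rw [hx', Units.val_mul, Units.val_mul]
          change _ * (d 0 • (1 : Matrix (Fin 3) (Fin 3) F)) * _ = _
          simp
        have hcube : c ^ 2 * c ^ 2 * c ^ 2 = 1 := by linear_combination (c ^ 3 + 1) * hc3
        have hne1 : (-1 : F) ≠ 1 := fun h => h2 (by rw [Nat.cast_ofNat]; linear_combination -h)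
        rcases hdv 0 with a0 | a0 <;> rcases hdv 1 with a1 | a1 <;> rcases hdv 2 with a2 | a2 <;>
          first
          | (exfalso; exact hne ⟨a0.trans a1.symm, a1.trans a2.symm⟩)
          | (rw [a0, a1, a2, map_neg]; ring1)
          | (exfalso; rw [a0, a1, a2] at hdet; exact hne1 (by linear_combination hdet + hcube))
    · have hw : ∃ w : F, w ^ 3 = c := by
        obtain ⟨u, hu⟩ := IsCyclic.exists_generator (α := Fˣ)
        obtain ⟨j, hj⟩ : ∃ j : ℕ, u ^ j = Units.mk0 c hc0 :=
          (mem_powers_iff_mem_zpowers).2 (hu _)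
        have hord : orderOf u = p - 1 := by
          rw [orderOf_eq_card_of_forall_mem_zpowers hu, Nat.card_units, Nat.card_eq_fintype_card, hF]
        have hdvd : p - 1 ∣ j * 3 := hord ▸ orderOf_dvd_of_pow_eq_one
          (by rw [pow_mul, hj]; exact Units.ext hc3)
        obtain ⟨j', hj'⟩ : 3 ∣ j := (Nat.mul_dvd_mul_iff_right (show 0 < 3 by norm_num)).1
          (dvd_trans (show 3 * 3 ∣ p - 1 by omega) hdvd)
        exact ⟨((u ^ j' : Fˣ) : F), by
          rw [← Units.val_pow_eq_pow_val, ← pow_mul, mul_comm, ← hj', hj, Units.val_mk0]⟩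
      obtain ⟨w, hw⟩ := hw
      have h3F : ((3 : ℕ) : F) ≠ 0 := hcast 3 (by norm_num) (by omega)
      have hw0 : w ≠ 0 := fun h => hc0 (by rw [← hw, h]; simp)
      haveI : Fact (Nat.Prime 3) := ⟨Nat.prime_three⟩
      obtain ⟨d, hd, hcp⟩ := exists_charpoly_roots (splits_of_roots (by norm_num) hw hw0
        (IsPrimitiveRoot.iff_orderOf.2 (orderOf_eq_prime hω₀ hω₀1))) (by norm_num) hc
      have hd0 : (Matrix.diagonal d).det ≠ 0 := by
        rw [Matrix.det_diagonal]
        exact Finset.prod_ne_zero_iff.2 fun i _ h0 => hc0 (by rw [← hd i, h0]; simp)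
      let y : GL (Fin 3) F := Matrix.GeneralLinearGroup.mkOfDetNeZero
        ((Q : Matrix (Fin 3) (Fin 3) F) * Matrix.diagonal d *
          ((Q⁻¹ : GL (Fin 3) F) : Matrix (Fin 3) (Fin 3) F))
        (by rwa [Matrix.det_units_conj])
      have hy : (y : Matrix (Fin 3) (Fin 3) F) = _ := rfl
      refine exists_sl_conj p (k := 3) h3F hc0 hc (y := y) ?_ ?_ (hS.diag_normalizes hc0 hd rfl)
      · change (_ * Matrix.diagonal d * _) ^ 3 = _
        rw [Units.conj_pow, Matrix.diagonal_pow, show d ^ 3 = fun _ => c from funext hd,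
          ← Matrix.smul_one_eq_diagonal]
        simp
      · change (_ * Matrix.diagonal d * _).charpoly = _
        rw [Matrix.coe_units_inv, Matrix.charpoly_units_conj, Matrix.charpoly_diagonal, hcp]

end Cfsg.Agent.S5998
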