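import Cfsg.Statements.S5999
import Cfsg.Agent.Lib.LinFix.Heis3
import Cfsg.Agent.Lib.Conj.Unitary
import Cfsg.Agent.S5998
import Cfsg.Agent.S0278
-- import your own Cfsg.Agent.* helpers here

set_option autoImplicit false
open scoped MatrixGroups
open Cfsg

namespace Cfsg.Agent.S5999

open Matrix Polynomial CfsgLib.Heis CfsgLib.Conj

variable {F : Type*} [Field F] [Fintype F] {p : ℕ} [Fact p.Prime] [CharP F p]

theorem herm_smul {n q : ℕ} (a b : F) (u v : Fin n → F) :
    Cfsg.hermForm n F q (a • u) (b • v) = a * b ^ q * Cfsg.hermForm n F q u v := by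
  simp only [Cfsg.hermForm, Pi.smul_apply, smul_eq_mul, Finset.mul_sum]
  exact Finset.sum_congr rfl fun i _ => by ring

omit [Fact p.Prime] [CharP F p] in
/-- The norm to the subfield of index two is surjective. -/
theorem exists_norm (hF : Fintype.card F = p ^ 2) {t : F} (ht0 : t ≠ 0) (ht : t ^ p = t) :
    ∃ s : F, s ^ (p + 1) = t := by
  have hp1 : 1 < p := by
    have := Fintype.one_lt_card (α := F)
    rw [hF] at this
    by_contra h; interval_cases p <;> simp at this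
  obtain ⟨g, hg⟩ := IsCyclic.exists_generator (α := Fˣ)
  obtain ⟨j, hj⟩ : ∃ j : ℕ, g ^ j = Units.mk0 t ht0 := mem_powers_iff_mem_zpowers.2 (hg _)
  have hord : orderOf g = (p + 1) * (p - 1) := by
    rw [orderOf_eq_card_of_forall_mem_zpowers hg, Nat.card_units, Nat.card_eq_fintype_card, hF,
      ← Nat.sq_sub_sq, one_pow]
  have h1 : (g ^ j) ^ (p - 1) = 1 := by
    rw [hj]
    refine Units.ext (mul_right_cancel₀ ht0 ?_)
    rw [Units.val_pow_eq_pow_val, Units.val_mk0, ← pow_succ, Units.val_one, one_mul,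
      show p - 1 + 1 = p by omega, ht]
  rw [← pow_mul] at h1
  have hd := orderOf_dvd_of_pow_eq_one h1
  rw [hord, Nat.mul_dvd_mul_iff_right (by omega)] at hd
  obtain ⟨k, rfl⟩ := hd
  exact ⟨((g ^ k : Fˣ) : F), by rw [← Units.val_pow_eq_pow_val, ← pow_mul, mul_comm, hj, Units.val_mk0]⟩

/-- Conjugate transpose of a diagonal matrix. -/
theorem conjT_diagonal {n : ℕ} (φ : F →+* F) (d : Fin n → F) :
    conjT (n := n) φ (Matrix.diagonal d) = Matrix.diagonal fun i => φ (d i) := by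
  ext i j
  rcases eq_or_ne i j with rfl | hij
  · simp [conjT]
  · simp [conjT, hij, hij.symm]

theorem det_norm_one {n : ℕ} {φ : F →+* F} (hφq : ∀ x, φ x = x ^ p) {h : GL (Fin n) F}
    (hh : conjT (n := n) φ (h : Matrix (Fin n) (Fin n) F) * h = 1) :
    (h : Matrix (Fin n) (Fin n) F).det ^ (p + 1) = 1 := by
  have := congrArg Matrix.det hh
  rw [Matrix.det_mul, Matrix.det_one] at this
  rw [show (conjT (n := n) φ (h : Matrix (Fin n) (Fin n) F)).det =
    φ (h : Matrix (Fin n) (Fin n) F).det from by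
      change ((h : Matrix (Fin n) (Fin n) F).map φ)ᵀ.det = _
      rw [Matrix.det_transpose, RingHom.map_det, RingHom.mapMatrix_apply], hφq] at this
  rw [pow_succ, this]

/-- The standard presentation can be chosen with a unitary change of basis. -/
theorem exists_unitary_standard (hF : Fintype.card F = p ^ 2) (hp3 : p % 3 = 2)
    (R : Subgroup (GL (Fin 3) F)) (hRU : R ≤ Cfsg.GU 3 F p) (hR : Nat.card R = 27)
    (hRe : Monoid.exponent R = 3) (hRna : ¬ IsMulCommutative R) :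
    ∃ (ω : F) (Q A B Z : GL (Fin 3) F), Standard R ω Q A B Z ∧ Q ∈ Cfsg.GU 3 F p := by
  obtain ⟨ω₀, hω₀, hω₀1⟩ := S5998.exists_cube_root_of_one (F := F) (by
    rw [hF]
    obtain ⟨k, hk⟩ : ∃ k, p = 3 * k + 2 := ⟨p / 3, by omega⟩
    exact ⟨3 * k ^ 2 + 4 * k + 1, Nat.sub_eq_of_eq_add (by rw [hk]; ring)⟩)
  obtain ⟨ω, Q, A, B, Z, hS⟩ := exists_standard R hR hRe hRna hω₀ hω₀1
  obtain ⟨φ, hφq, hφ, -⟩ := exists_frob hF
  set u : Fin 3 → Fin 3 → F := fun i => (Q : Matrix (Fin 3) (Fin 3) F) *ᵥ Pi.single i 1 with hu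
  have hcube := hS.cube
  have hAu : ∀ i, (A : Matrix (Fin 3) (Fin 3) F) *ᵥ u i = (![1, ω, ω ^ 2] i) • u i := fun i => by
    rw [hu, hS.hA_eq, Matrix.mulVec_mulVec, Matrix.mul_assoc, Units.inv_mul, mul_one,
      ← Matrix.mulVec_mulVec, CfsgLib.Heis.hA, Matrix.diagonal_mulVec_single, mul_one, ← mul_one
        (![1, ω, ω ^ 2] i), ← smul_eq_mul, Pi.single_smul, Matrix.mulVec_smul, smul_eq_mul, mul_one]
  have hBu : ∀ i, (B : Matrix (Fin 3) (Fin 3) F) *ᵥ u i = u (i + 1) := fun i => by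
    rw [hu, hS.hB_eq, Matrix.mulVec_mulVec, Matrix.mul_assoc, Units.inv_mul, mul_one,
      ← Matrix.mulVec_mulVec]
    congr 1
    funext j
    fin_cases i <;> fin_cases j <;> simp [CfsgLib.Heis.hB]
  have hAU : ∀ v w, Cfsg.hermForm 3 F p ((A : Matrix (Fin 3) (Fin 3) F) *ᵥ v)
      ((A : Matrix (Fin 3) (Fin 3) F) *ᵥ w) = Cfsg.hermForm 3 F p v w := fun v w => hRU hS.A_mem v w
  have hBU : ∀ v w, Cfsg.hermForm 3 F p ((B : Matrix (Fin 3) (Fin 3) F) *ᵥ v)
      ((B : Matrix (Fin 3) (Fin 3) F) *ᵥ w) = Cfsg.hermForm 3 F p v w := fun v w => hRU hS.B_mem v w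
  have hωp : ω ^ p = ω ^ 2 := by
    conv_lhs => rw [← Nat.div_add_mod p 3, hp3, pow_add, pow_mul, hcube, one_pow, one_mul]
  set t := Cfsg.hermForm 3 F p (u 0) (u 0) with htdef
  have hdiag : ∀ i, Cfsg.hermForm 3 F p (u i) (u i) = t := by
    have e1 := hBU (u 0) (u 0)
    have e2 := hBU (u 1) (u 1)
    rw [hBu] at e1 e2
    intro i
    fin_cases i
    · rfl
    · exact e1
    · exact e2.trans e1
  have hprim : IsPrimitiveRoot ω 3 := by
    haveI : Fact (Nat.Prime 3) := ⟨Nat.prime_three⟩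
    exact IsPrimitiveRoot.iff_orderOf.2 (orderOf_eq_prime hcube hS.ne_one)
  have hω1 : ω ≠ 1 := hS.ne_one
  have hω2 : ω ^ 2 ≠ 1 := hprim.pow_ne_one_of_pos_of_lt (by norm_num) (by norm_num)
  have hoff : ∀ i j, i ≠ j → Cfsg.hermForm 3 F p (u i) (u j) = 0 := by
    intro i j hij
    have h := hAU (u i) (u j)
    rw [hAu, hAu, herm_smul] at h
    by_contra hne
    have h' := mul_right_cancel₀ hne (h.trans (one_mul _).symm)
    have hpow : ∀ i : Fin 3, ![1, ω, ω ^ 2] i = ω ^ (i : ℕ) := by intro i; fin_cases i <;> simp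
    rw [hpow, hpow, ← pow_mul, mul_comm (j : ℕ) p, pow_mul, hωp, ← pow_mul, ← pow_add,
      hprim.pow_eq_one_iff_dvd] at h'
    exact hij (Fin.ext (by omega))
  have hsum : ∀ v, Cfsg.hermForm 3 F p (u 0) v =
      ∑ k, (((Q⁻¹ : GL (Fin 3) F) : Matrix (Fin 3) (Fin 3) F) *ᵥ v) k ^ p *
        Cfsg.hermForm 3 F p (u 0) (u k) := by
    intro v
    set c := ((Q⁻¹ : GL (Fin 3) F) : Matrix (Fin 3) (Fin 3) F) *ᵥ v with hc
    have hv : v = (Q : Matrix (Fin 3) (Fin 3) F) *ᵥ c := by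
      rw [hc, Matrix.mulVec_mulVec, Units.mul_inv, Matrix.one_mulVec]
    conv_lhs => rw [hv]
    simp only [Cfsg.hermForm, Finset.mul_sum, hu, Matrix.mulVec_single_one, Matrix.col_apply]
    rw [Finset.sum_comm]
    refine Finset.sum_congr rfl fun i _ => ?_
    rw [Matrix.mulVec, dotProduct, ← hφq, map_sum, Finset.mul_sum]
    refine Finset.sum_congr rfl fun k _ => ?_
    rw [map_mul, hφq, hφq]; ring
  have ht0 : t ≠ 0 := by
    intro h0
    have hz : ∀ v, Cfsg.hermForm 3 F p (u 0) v = 0 := fun v => by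
      rw [hsum]
      refine Finset.sum_eq_zero fun k _ => ?_
      rcases eq_or_ne (0 : Fin 3) k with rfl | hk
      · rw [← htdef, h0, mul_zero]
      · rw [hoff 0 k hk, mul_zero]
    have hp0 : p ≠ 0 := (Fact.out : p.Prime).ne_zero
    have hu0 : u 0 = 0 := funext fun k => by
      have := hz (Pi.single k 1)
      simpa [Cfsg.hermForm, Pi.single_apply, ite_pow, zero_pow hp0] using this
    have : (Q : Matrix (Fin 3) (Fin 3) F).det = 0 := Matrix.det_eq_zero_of_column_eq_zero 0 fun i => by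
      simpa [hu, Matrix.mulVec_single_one] using congrFun hu0 i
    exact ((Matrix.isUnit_iff_isUnit_det _).1 Q.isUnit).ne_zero this
  have htp : t ^ p = t := by
    rw [htdef, Cfsg.hermForm, ← hφq, map_sum]
    refine Finset.sum_congr rfl fun i _ => ?_
    rw [map_mul, ← hφq (u 0 i), hφ, mul_comm]
  obtain ⟨s, hs⟩ := exists_norm hF (inv_ne_zero ht0) (by rw [inv_pow, htp])
  have hs0 : s ≠ 0 := fun h => by
    rw [h, zero_pow (by omega)] at hs; exact inv_ne_zero ht0 hs.symm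
  let sc : GL (Fin 3) F := Matrix.GeneralLinearGroup.mkOfDetNeZero (s • (1 : Matrix (Fin 3) (Fin 3) F))
    (by simp [hs0])
  have hscale : ∀ M : Matrix (Fin 3) (Fin 3) F,
      ((Q * sc : GL (Fin 3) F) : Matrix (Fin 3) (Fin 3) F) * M *
        (((Q * sc)⁻¹ : GL (Fin 3) F) : Matrix (Fin 3) (Fin 3) F) =
      (Q : Matrix (Fin 3) (Fin 3) F) * M * ((Q⁻¹ : GL (Fin 3) F) : Matrix (Fin 3) (Fin 3) F) := by
    intro M
    have hcomm : (sc : Matrix (Fin 3) (Fin 3) F) * M = M * (sc : Matrix (Fin 3) (Fin 3) F) := by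
      change (s • (1 : Matrix (Fin 3) (Fin 3) F)) * M = M * (s • 1)
      rw [Matrix.smul_mul, Matrix.mul_smul, one_mul, mul_one]
    rw [_root_.mul_inv_rev, Units.val_mul, Units.val_mul, Matrix.mul_assoc (Q : Matrix (Fin 3) (Fin 3) F), hcomm]
    simp [Matrix.mul_assoc]
  refine ⟨ω, Q * sc, A, B, Z, ⟨hS.cube, hS.ne_one, hS.gen, hS.finite, hS.hA_eq.trans (hscale _).symm,
    hS.hB_eq.trans (hscale _).symm, hS.hZ_mem, hS.hZ_eq⟩, ?_⟩
  rw [mem_GU_iff φ hφq hφ]
  ext i j
  have hcol : ∀ i k, ((Q * sc : GL (Fin 3) F) : Matrix (Fin 3) (Fin 3) F) k i = s * u i k := by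
    intro i k
    rw [Units.val_mul, show (sc : Matrix (Fin 3) (Fin 3) F) = s • 1 from rfl, Matrix.mul_smul, mul_one,
      Matrix.smul_apply, smul_eq_mul]
    simp [hu, Matrix.mulVec_single_one]
  rw [Matrix.mul_apply]
  simp only [conjT, AddMonoidHom.coe_mk, ZeroHom.coe_mk, Matrix.transpose_apply, Matrix.map_apply, hcol,
    map_mul, hφq]
  rw [show ∑ k, (s * u i k) ^ p * (s * u j k) =
    s ^ (p + 1) * Cfsg.hermForm 3 F p (u j) (u i) by
      rw [Cfsg.hermForm, Finset.mul_sum]; exact Finset.sum_congr rfl fun k _ => by ring, hs]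
  rcases eq_or_ne i j with rfl | hij
  · rw [hdiag, inv_mul_cancel₀ ht0, Matrix.one_apply_eq]
  · rw [hoff j i hij.symm, mul_zero, Matrix.one_apply_ne hij]

/-- A conjugate of a unitary diagonalisable matrix. -/
theorem mem_GU_conj {φ : F →+* F} (hφq : ∀ x, φ x = x ^ p) (hφ : ∀ x, φ (φ x) = x)
    {Q y : GL (Fin 3) F} {Y : Matrix (Fin 3) (Fin 3) F} (hQ : Q ∈ Cfsg.GU 3 F p)
    (hY : conjT (n := 3) φ Y * Y = 1)
    (hy : (y : Matrix (Fin 3) (Fin 3) F) = (Q : Matrix (Fin 3) (Fin 3) F) * Y *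
      ((Q⁻¹ : GL (Fin 3) F) : Matrix (Fin 3) (Fin 3) F)) : y ∈ Cfsg.GU 3 F p := by
  let Y' : GL (Fin 3) F := ⟨Y, conjT (n := 3) φ Y, mul_eq_one_comm.1 hY, hY⟩
  have : y = Q * Y' * Q⁻¹ := Units.ext hy
  rw [this]
  exact mul_mem (mul_mem hQ ((mem_GU_iff φ hφq hφ Y').2 hY)) (inv_mem hQ)

/-- Conjugating in the special unitary group. -/
theorem exists_su_conj (hF : Fintype.card F = p ^ 2) {R : Subgroup (GL (Fin 3) F)} {k : ℕ}
    (hk : (k : F) ≠ 0) {c : F} (hc : c ≠ 0) {x y Q : GL (Fin 3) F} {Y : Matrix (Fin 3) (Fin 3) F}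
    (hxU : x ∈ Cfsg.GU 3 F p) (hyU : y ∈ Cfsg.GU 3 F p) (hQ : Q ∈ Cfsg.GU 3 F p)
    (hx : (x : Matrix (Fin 3) (Fin 3) F) ^ k = c • 1)
    (hy : (y : Matrix (Fin 3) (Fin 3) F) ^ k = c • 1)
    (hyQ : (y : Matrix (Fin 3) (Fin 3) F) = (Q : Matrix (Fin 3) (Fin 3) F) * Y *
      ((Q⁻¹ : GL (Fin 3) F) : Matrix (Fin 3) (Fin 3) F))
    (hY : ∀ δ : F, Y * Matrix.diagonal ![δ, 1, 1] = Matrix.diagonal ![δ, 1, 1] * Y)
    (hcp : (y : Matrix (Fin 3) (Fin 3) F).charpoly = (x : Matrix (Fin 3) (Fin 3) F).charpoly)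
    (hyn : y ∈ Cfsg.Geo.subgroupNormalizer R) :
    ∃ g ∈ Cfsg.GU 3 F p ⊓ Cfsg.Geo.specialLinear (Fin 3) F, g⁻¹ * x * g ∈ Cfsg.Geo.subgroupNormalizer R := by
  obtain ⟨φ, hφq, hφ, hw⟩ := exists_frob hF
  obtain ⟨g₀, hg₀⟩ := isConj_iff.1 (CfsgLib.Semisimple.isConj_of_charpoly_eq p y x
    (S5998.coprime_of_pow hk hc hy) (S5998.coprime_of_pow hk hc hx) hcp)
  obtain ⟨h, hh, hhy⟩ := exists_unitary_conj φ hφ hw y x g₀ ((mem_GU_iff φ hφq hφ y).1 hyU)
    ((mem_GU_iff φ hφq hφ x).1 hxU) (by rw [← hg₀]; group)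
  set δ := (h : Matrix (Fin 3) (Fin 3) F).det⁻¹ with hδ
  have hdet0 : (h : Matrix (Fin 3) (Fin 3) F).det ≠ 0 := ((Matrix.isUnit_iff_isUnit_det _).1 h.isUnit).ne_zero
  have hδn : δ ^ (p + 1) = 1 := by rw [hδ, inv_pow, det_norm_one hφq hh, inv_one]
  let C : GL (Fin 3) F := Matrix.GeneralLinearGroup.mkOfDetNeZero
    ((Q : Matrix (Fin 3) (Fin 3) F) * Matrix.diagonal ![δ, 1, 1] *
      ((Q⁻¹ : GL (Fin 3) F) : Matrix (Fin 3) (Fin 3) F))
    (by rw [Matrix.det_units_conj, Matrix.det_diagonal, Fin.prod_univ_three]; simp [hδ, hdet0])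
  have hCU : C ∈ Cfsg.GU 3 F p := mem_GU_conj hφq hφ hQ (by
    rw [conjT_diagonal, Matrix.diagonal_mul_diagonal, ← Matrix.diagonal_one]
    congr 1
    funext i
    fin_cases i <;> simp [hφq, ← pow_succ, hδn]) rfl
  refine ⟨h * C, ⟨mul_mem ((mem_GU_iff φ hφq hφ h).2 hh) hCU, ?_⟩, ?_⟩
  · refine S5998.mem_specialLinear_iff.2 ?_
    rw [Units.val_mul, Matrix.det_mul]
    change _ * ((Q : Matrix (Fin 3) (Fin 3) F) * Matrix.diagonal ![δ, 1, 1] *
      ((Q⁻¹ : GL (Fin 3) F) : Matrix (Fin 3) (Fin 3) F)).det = 1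
    rw [Matrix.det_units_conj, Matrix.det_diagonal, Fin.prod_univ_three]
    simp [hδ, hdet0]
  · have hCy : C * y = y * C := by
      apply Units.ext
      rw [Units.val_mul, Units.val_mul, hyQ]
      change (_ * Matrix.diagonal ![δ, 1, 1] * _) * _ = _ * (_ * Matrix.diagonal ![δ, 1, 1] * _)
      simp only [Matrix.mul_assoc]
      rw [← Matrix.mul_assoc ((Q⁻¹ : GL (Fin 3) F) : Matrix (Fin 3) (Fin 3) F), Units.inv_mul,
        Matrix.one_mul, ← Matrix.mul_assoc ((Q⁻¹ : GL (Fin 3) F) : Matrix (Fin 3) (Fin 3) F),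
        Units.inv_mul, Matrix.one_mul, ← Matrix.mul_assoc Y, hY, Matrix.mul_assoc]
    have : (h * C)⁻¹ * x * (h * C) = y := by
      calc (h * C)⁻¹ * x * (h * C) = C⁻¹ * (h⁻¹ * (x * h)) * C := by group
        _ = C⁻¹ * (h⁻¹ * (h * y)) * C := by rw [hhy]
        _ = C⁻¹ * (y * C) := by group
        _ = y := by rw [← hCy]; group
    rw [this]; exact hyn


/-- Elements of prime order of PSU_3(p), p ≡ 2 (mod 3), and the normalizer of an extraspecial subgroup of order 27. Here `T = PSU_3(p)` for a prime `p ≥ 5` with `p ≡ 2 (mod 3)`, realised through `SU_3(p)`, the matrices of determinant 1 over the field `F` with `p²` elements preserving the hermitian form `Σ uᵢvᵢ^p`; `R` is a non-abelian subgroup of order 27 and exponent 3 of the full unitary group of that form (an extraspecial group 3^{1+2}, acting absolutely irreducibly), and `H` is the subgroup of `SU_3(p)` normalizing `R` — a subgroup of type 3^{1+2}.Sp₂(3) (maximality is not assumed).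 Ω is the set of cosets of `H`, so an element of `T` of prime order `r` (`x ∈ SU_3(p)` with `x^r` scalar, `x` not scalar) fixes a point of Ω exactly when some `SU_3(p)`-conjugate of `x` normalizes `R`. Let `r` be a prime dividing the index of `H`. Then every element of `T` of order `r` fixes a point of Ω if and only if `r = 2`, or `r = 3` and `p ≡ 8 (mod 9)`. -/
theorem result {F : Type*} [Field F] [Fintype F] {p : ℕ} [Fact p.Prime] [CharP F p] (hF : Fintype.card F = p ^ 2) (hp : 5 ≤ p) (hp3 : p % 3 = 2)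
    (R : Subgroup (GL (Fin 3) F)) (hRU : R ≤ Cfsg.GU 3 F p) (hR : Nat.card R = 27) (hRe : Monoid.exponent R = 3) (hRna : ¬ IsMulCommutative R)
    (r : ℕ) [Fact r.Prime]
    (hΩ : r ∣ (Cfsg.Geo.subgroupNormalizer R).relIndex (Cfsg.GU 3 F p ⊓ Cfsg.Geo.specialLinear (Fin 3) F)) :
    (∀ x ∈ Cfsg.GU 3 F p ⊓ Cfsg.Geo.specialLinear (Fin 3) F, (∃ z : F, ((x ^ r : GL (Fin 3) F) : Matrix (Fin 3) (Fin 3) F) = z • (1 : Matrix (Fin 3) (Fin 3) F)) →
      (∀ z : F, (x : Matrix (Fin 3) (Fin 3) F) ≠ z • (1 : Matrix (Fin 3) (Fin 3) F)) →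
      ∃ g ∈ Cfsg.GU 3 F p ⊓ Cfsg.Geo.specialLinear (Fin 3) F, g⁻¹ * x * g ∈ Cfsg.Geo.subgroupNormalizer R) ↔ (r = 2 ∨ (r = 3 ∧ p % 9 = 8)) := by
  classical
  have hp' : p.Prime := Fact.out
  have hcast : ∀ k : ℕ, 0 < k → k < p → (k : F) ≠ 0 := fun k hk hkp h => by
    rw [CharP.cast_eq_zero_iff F p] at h
    exact absurd (Nat.le_of_dvd hk h) (by omega)
  obtain ⟨φ, hφq, hφ, -⟩ := exists_frob hF
  obtain ⟨ω, Q, A, B, Z, hS, hQU⟩ := exists_unitary_standard hF hp3 R hRU hR hRe hRna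
  have hdetpow : ∀ (x : GL (Fin 3) F) (k : ℕ) (c : F), x ∈ Cfsg.GU 3 F p ⊓ Cfsg.Geo.specialLinear (Fin 3) F →
      (x : Matrix (Fin 3) (Fin 3) F) ^ k = c • 1 → c ^ 3 = 1 := fun x k c hx hc => by
    have := congrArg Matrix.det hc
    rwa [Matrix.det_pow, S5998.mem_specialLinear_iff.1 hx.2, one_pow, Matrix.det_smul, Fintype.card_fin,
      Matrix.det_one, mul_one, eq_comm] at this
  have hroot : ∀ z : F, ∀ k : ℕ, z ^ k = 1 → k ∣ p + 1 → z ^ p * z = 1 := fun z k hz hk => by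
    obtain ⟨j, hj⟩ := hk
    rw [← pow_succ, hj, pow_mul, hz, one_pow]
  have hr : r.Prime := Fact.out
  constructor
  · intro H
    rcases eq_or_ne r 2 with hr2 | hr2
    · exact Or.inl hr2
    rcases eq_or_ne r 3 with hr3 | hr3
    · refine Or.inr ⟨hr3, ?_⟩
      subst hr3
      by_contra h9
      have hsub : R ≤ (Cfsg.GU 3 F p ⊓ Cfsg.Geo.specialLinear (Fin 3) F) ⊓ Cfsg.Geo.subgroupNormalizer R := by
        refine le_inf (le_inf hRU ?_) (fun g hg => ?_)
        · rw [← hS.gen, Subgroup.closure_le]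
          rintro g (rfl | rfl)
          · rw [SetLike.mem_coe, S5998.mem_specialLinear_iff, hS.hA_eq, Matrix.det_units_conj, hA,
              Matrix.det_diagonal]
            simp [Fin.prod_univ_three]
            linear_combination hS.cube
          · rw [SetLike.mem_coe, S5998.mem_specialLinear_iff, hS.hB_eq, Matrix.det_units_conj, hB,
              Matrix.det_fin_three]
            simp
        · exact hS.mem_normalizer (R.mul_mem (R.mul_mem hg hS.A_mem) (R.inv_mem hg))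
            (R.mul_mem (R.mul_mem hg hS.B_mem) (R.inv_mem hg))
      have h27 : 27 ∣ Nat.card ↥((Cfsg.GU 3 F p ⊓ Cfsg.Geo.specialLinear (Fin 3) F) ⊓ Cfsg.Geo.subgroupNormalizer R) :=
        hR ▸ Subgroup.card_dvd_of_le hsub
      have hmul : Nat.card ↥(Cfsg.GU 3 F p ⊓ Cfsg.Geo.specialLinear (Fin 3) F) =
          (Cfsg.Geo.subgroupNormalizer R).relIndex (Cfsg.GU 3 F p ⊓ Cfsg.Geo.specialLinear (Fin 3) F) *
            Nat.card ↥((Cfsg.GU 3 F p ⊓ Cfsg.Geo.specialLinear (Fin 3) F) ⊓ Cfsg.Geo.subgroupNormalizer R) := by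
        have := Subgroup.relIndex_mul_relIndex ⊥
          ((Cfsg.GU 3 F p ⊓ Cfsg.Geo.specialLinear (Fin 3) F) ⊓ Cfsg.Geo.subgroupNormalizer R)
          (Cfsg.GU 3 F p ⊓ Cfsg.Geo.specialLinear (Fin 3) F) bot_le inf_le_left
        rw [Subgroup.relIndex_bot_left, Subgroup.relIndex_bot_left, Subgroup.inf_relIndex_left] at this
        rw [← this, mul_comm]
      have h81 : 3 * 27 ∣ Nat.card ↥(Cfsg.GU 3 F p ⊓ Cfsg.Geo.specialLinear (Fin 3) F) :=
        hmul ▸ mul_dvd_mul hΩ h27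
      have hmap : (Cfsg.SU 3 F p).map
          (Matrix.SpecialLinearGroup.toGL : Matrix.SpecialLinearGroup (Fin 3) F →* GL (Fin 3) F) =
          Cfsg.GU 3 F p ⊓ Cfsg.Geo.specialLinear (Fin 3) F := by
        ext g
        constructor
        · rintro ⟨s, hs, rfl⟩
          exact ⟨hs, S5998.mem_specialLinear_iff.2 s.2⟩
        · rintro ⟨h1, h2⟩
          exact ⟨⟨g, S5998.mem_specialLinear_iff.1 h2⟩, h1, Units.ext rfl⟩
      have hGU := S0278.result hF 3 (by norm_num)
      rw [← Subgroup.card_map_of_injective Matrix.SpecialLinearGroup.toGL_injective, hmap,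
        Finset.prod_range_succ, Finset.prod_range_succ, Finset.prod_range_one,
        if_pos (by decide), if_neg (by decide), if_pos (by decide)] at hGU
      obtain ⟨u, hu⟩ : ∃ u, p + 1 = 3 * u := ⟨(p + 1) / 3, by omega⟩
      have hu3 : ¬ 3 ∣ u := fun ⟨v, hv⟩ => h9 (by omega)
      obtain ⟨v, rfl⟩ : ∃ v, u = v + 2 := ⟨u - 2, by omega⟩
      obtain rfl : p = 3 * v + 5 := by omega
      rw [show (3 * v + 5) ^ (1 + 1) - 1 = 3 * (v + 2) * (3 * v + 4) from
          Nat.sub_eq_of_eq_add (by ring),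
        show (3 * v + 5) ^ (2 + 1) + 1 = 9 * (v + 2) * (3 * v ^ 2 + 9 * v + 7) by ring,
        show (3 * v + 5) ^ (0 + 1) + 1 = 3 * (v + 2) by ring,
        show 3 * (3 - 1) / 2 = 3 by norm_num, hu] at hGU
      have hS' : Nat.card ↥(Cfsg.GU 3 F (3 * v + 5) ⊓ Cfsg.Geo.specialLinear (Fin 3) F) =
          27 * ((v + 2) ^ 2 * ((3 * v + 5) ^ 3 * ((3 * v + 4) * (3 * v ^ 2 + 9 * v + 7)))) :=
        Nat.eq_of_mul_eq_mul_left (show 0 < 3 * (v + 2) by omega) (hGU.trans (by ring))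
      rw [hS', mul_comm 3 27, Nat.mul_dvd_mul_iff_left (by norm_num)] at h81
      rcases Nat.prime_three.dvd_mul.1 h81 with h | h
      · exact hu3 (Nat.prime_three.dvd_of_dvd_pow h)
      rcases Nat.prime_three.dvd_mul.1 h with h | h
      · have := Nat.prime_three.dvd_of_dvd_pow h; omega
      rcases Nat.prime_three.dvd_mul.1 h with h | h
      · omega
      · have : 3 * v ^ 2 + 9 * v + 7 = 3 * (v ^ 2 + 3 * v + 2) + 1 := by ring
        omega
    · exfalso
      obtain ⟨x, hx⟩ := exists_prime_orderOf_dvd_card' (G := ↥(Cfsg.GU 3 F p ⊓ Cfsg.Geo.specialLinear (Fin 3) F)) r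
        (hΩ.trans (Subgroup.relIndex_dvd_card _ _))
      have hxr : (x : GL (Fin 3) F) ^ r = 1 := by
        rw [← Subgroup.coe_pow, ← hx, pow_orderOf_eq_one, Subgroup.coe_one]
      have hxs : ∀ z : F, ((x : GL (Fin 3) F) : Matrix (Fin 3) (Fin 3) F) ≠ z • 1 := by
        intro z hz
        have h1 : z ^ 3 = 1 := hdetpow x 1 z x.2 (by rw [pow_one, hz])
        have h2 : z ^ r = 1 := by
          have h := congrArg (fun g : GL (Fin 3) F => (g : Matrix (Fin 3) (Fin 3) F) 0 0) hxr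
          simp [hz, _root_.smul_pow] at h
          exact h
        have hz1 : z = 1 := by
          have hg := (pow_gcd_eq_one (m := 3) (n := r) (a := z)).2 ⟨h1, h2⟩
          rwa [((Nat.coprime_primes Nat.prime_three hr).2 (Ne.symm hr3)).gcd_eq_one, pow_one] at hg
        have : x = 1 := Subtype.ext (Units.ext (by rw [hz, hz1, one_smul]; rfl))
        rw [this, orderOf_one] at hx
        exact hr.one_lt.ne hx
      obtain ⟨g, -, hg⟩ := H x x.2 ⟨1, by rw [hxr]; simp⟩ hxs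
      obtain ⟨t, ht⟩ := hS.scalar_of_order hR hr2 hr3 (y := g⁻¹ * x * g) (by
        calc (g⁻¹ * (x : GL (Fin 3) F) * g) ^ r = g⁻¹ * (x : GL (Fin 3) F) ^ r * g := by
              simpa using conj_pow (a := g⁻¹) (b := (x : GL (Fin 3) F)) (i := r)
          _ = 1 := by rw [hxr]; group) hg
      refine hxs t ?_
      have hc := CfsgLib.Heis.commute_of_scalar (h := g⁻¹) ht
      have : (x : GL (Fin 3) F) = g⁻¹ * x * g := by
        calc (x : GL (Fin 3) F) = g * (g⁻¹ * x * g * g⁻¹) := by group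
          _ = g * (g⁻¹ * (g⁻¹ * x * g)) := by rw [hc]
          _ = _ := by group
      rw [this]; exact ht
  · rintro hrhs x hx ⟨c, hc⟩ hns
    rw [Units.val_pow_eq_pow_val] at hc
    have hc3 := hdetpow x r c hx hc
    have hc0 : c ≠ 0 := fun h => by rw [h] at hc3; simp at hc3
    rcases hrhs with rfl | ⟨rfl, h9⟩
    · have hw2 : (c ^ 2) ^ 2 = c := by linear_combination c * hc3
      have h2 : ((2 : ℕ) : F) ≠ 0 := hcast 2 two_pos (by omega)
      obtain ⟨d, hd, hcp⟩ := exists_charpoly_roots (S5998.splits_of_roots two_ne_zero hw2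
        (pow_ne_zero _ hc0) (IsPrimitiveRoot.neg_one p (by omega))) two_ne_zero hc
      have hdv : ∀ i, d i = c ^ 2 ∨ d i = -c ^ 2 := fun i =>
        sq_eq_sq_iff_eq_or_eq_neg.1 (by rw [hd i, hw2])
      let y : GL (Fin 3) F := Matrix.GeneralLinearGroup.mkOfDetNeZero
        ((Q : Matrix (Fin 3) (Fin 3) F) * hW F * ((Q⁻¹ : GL (Fin 3) F) : Matrix (Fin 3) (Fin 3) F))
        (by rw [Matrix.det_units_conj, hW, Matrix.det_fin_three]; simp)
      let s : GL (Fin 3) F := Matrix.GeneralLinearGroup.mkOfDetNeZero ((c ^ 2) • (1 : Matrix (Fin 3) (Fin 3) F))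
        (by simp [hc0])
      have hyn := hS.involution_normalizes (y := y) rfl
      have hsn : s ∈ Cfsg.Geo.subgroupNormalizer R := by
        refine hS.mem_normalizer ?_ ?_ <;>
          rw [CfsgLib.Heis.commute_of_scalar (g := s) rfl, mul_inv_cancel_right]
        exacts [hS.A_mem, hS.B_mem]
      have hsy : ((s * y : GL (Fin 3) F) : Matrix (Fin 3) (Fin 3) F) =
          (Q : Matrix (Fin 3) (Fin 3) F) * (c ^ 2 • hW F) *
            ((Q⁻¹ : GL (Fin 3) F) : Matrix (Fin 3) (Fin 3) F) := by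
        change (c ^ 2 • (1 : Matrix (Fin 3) (Fin 3) F)) * (_ * hW F * _) = _
        rw [Matrix.smul_mul, one_mul, Matrix.mul_smul, Matrix.smul_mul]
      have hW2 : hW F * hW F = 1 := by
        ext i j
        fin_cases i <;> fin_cases j <;> simp [hW, Matrix.mul_apply, Fin.sum_univ_three]
      have hWT : conjT (n := 3) φ (c ^ 2 • hW F) = (c ^ 2) ^ p • hW F := by
        ext i j
        simp [conjT, hφq]
        fin_cases i <;> fin_cases j <;> simp [hW, ← hφq]
      refine exists_su_conj hF (k := 2) h2 hc0 hx.1 (y := s * y) ?_ hQU hc ?_ hsy ?_ ?_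
        (Subgroup.mul_mem _ hsn hyn)
      · refine mem_GU_conj hφq hφ hQU ?_ hsy
        rw [hWT, Matrix.smul_mul, Matrix.mul_smul, hW2, smul_smul,
          hroot (c ^ 2) 3 (by rw [← pow_mul, mul_comm, pow_mul, hc3, one_pow]) (by omega), one_smul]
      · rw [hsy, Units.conj_pow, _root_.smul_pow, hw2, pow_two (hW F), hW2]
        simp
      · intro δ
        ext i j
        fin_cases i <;> fin_cases j <;> simp [hW, Matrix.mul_apply, Fin.sum_univ_three, mul_comm]
      · rw [hsy, Matrix.coe_units_inv, Matrix.charpoly_units_conj, S5998.charpoly_hW, hcp, Fin.prod_univ_three]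
        have hdet : d 0 * d 1 * d 2 = 1 := by
          have h := Matrix.det_eq_sign_charpoly_coeff (x : Matrix (Fin 3) (Fin 3) F)
          rw [S5998.mem_specialLinear_iff.1 hx.2, hcp, coeff_zero_eq_eval_zero, Fin.prod_univ_three] at h
          simp at h
          linear_combination -h
        have hne : ¬ (d 0 = d 1 ∧ d 1 = d 2) := by
          rintro ⟨e1, e2⟩
          obtain ⟨g, hg⟩ := isConj_iff.1 (CfsgLib.Semisimple.isConj_of_charpoly_eq p x
            (Matrix.GeneralLinearGroup.mkOfDetNeZero ((d 0) • (1 : Matrix (Fin 3) (Fin 3) F))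
              (by rw [Matrix.det_smul, Matrix.det_one, mul_one]
                  exact pow_ne_zero _ fun h0 => hc0 (by rw [← hd 0, h0, zero_pow two_ne_zero])))
            (S5998.coprime_of_pow h2 hc0 hc)
            (S5998.coprime_of_pow (c := c) h2 hc0 (by
              change (d 0 • (1 : Matrix (Fin 3) (Fin 3) F)) ^ 2 = _
              rw [_root_.smul_pow, one_pow, hd]))
            (by
              rw [hcp, Fin.prod_univ_three, ← e2, ← e1]
              change _ = (d 0 • (1 : Matrix (Fin 3) (Fin 3) F)).charpoly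
              rw [Matrix.smul_one_eq_diagonal, Matrix.charpoly_diagonal, Fin.prod_univ_three]))
          refine hns (d 0) ?_
          have hx' : x = g⁻¹ * (g * x * g⁻¹) * g := by group
          rw [hg] at hx'
          rw [hx', Units.val_mul, Units.val_mul]
          change _ * (d 0 • (1 : Matrix (Fin 3) (Fin 3) F)) * _ = _
          simp
        have hcube : c ^ 2 * c ^ 2 * c ^ 2 = 1 := by linear_combination (c ^ 3 + 1) * hc3
        have hne1 : (-1 : F) ≠ 1 := fun h => h2 (by rw [Nat.cast_ofNat]; linear_combination -h)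
        rcases hdv 0 with a0 | a0 <;> rcases hdv 1 with a1 | a1 <;> rcases hdv 2 with a2 | a2 <;>
          first
          | (exfalso; exact hne ⟨a0.trans a1.symm, a1.trans a2.symm⟩)
          | (rw [a0, a1, a2, map_neg]; ring1)
          | (exfalso; rw [a0, a1, a2] at hdet; exact hne1 (by linear_combination hdet + hcube))
    · have hw : ∃ w : F, w ^ 3 = c := by
        obtain ⟨u, hu⟩ := IsCyclic.exists_generator (α := Fˣ)
        obtain ⟨j, hj⟩ : ∃ j : ℕ, u ^ j = Units.mk0 c hc0 :=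
          (mem_powers_iff_mem_zpowers).2 (hu _)
        have hord : orderOf u = (p + 1) * (p - 1) := by
          rw [orderOf_eq_card_of_forall_mem_zpowers hu, Nat.card_units, Nat.card_eq_fintype_card, hF,
            ← Nat.sq_sub_sq, one_pow]
        have hdvd : (p + 1) * (p - 1) ∣ j * 3 := hord ▸ orderOf_dvd_of_pow_eq_one
          (by rw [pow_mul, hj]; exact Units.ext hc3)
        obtain ⟨j', hj'⟩ : 3 ∣ j := (Nat.mul_dvd_mul_iff_right (show 0 < 3 by norm_num)).1
          (dvd_trans ((show 3 * 3 ∣ p + 1 by omega).trans (dvd_mul_right _ _)) hdvd)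
        exact ⟨((u ^ j' : Fˣ) : F), by
          rw [← Units.val_pow_eq_pow_val, ← pow_mul, mul_comm, ← hj', hj, Units.val_mk0]⟩
      obtain ⟨w, hw⟩ := hw
      have h3F : ((3 : ℕ) : F) ≠ 0 := hcast 3 (by norm_num) (by omega)
      have hw0 : w ≠ 0 := fun h => hc0 (by rw [← hw, h]; simp)
      haveI : Fact (Nat.Prime 3) := ⟨Nat.prime_three⟩
      obtain ⟨d, hd, hcp⟩ := exists_charpoly_roots (S5998.splits_of_roots (by norm_num) hw hw0
        (IsPrimitiveRoot.iff_orderOf.2 (orderOf_eq_prime hS.cube hS.ne_one))) (by norm_num) hc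
      have hd0 : (Matrix.diagonal d).det ≠ 0 := by
        rw [Matrix.det_diagonal]
        exact Finset.prod_ne_zero_iff.2 fun i _ h0 => hc0 (by rw [← hd i, h0]; simp)
      let y : GL (Fin 3) F := Matrix.GeneralLinearGroup.mkOfDetNeZero
        ((Q : Matrix (Fin 3) (Fin 3) F) * Matrix.diagonal d *
          ((Q⁻¹ : GL (Fin 3) F) : Matrix (Fin 3) (Fin 3) F))
        (by rwa [Matrix.det_units_conj])
      refine exists_su_conj hF (k := 3) h3F hc0 hx.1 (y := y) (mem_GU_conj hφq hφ hQU ?_ rfl) hQU hc ?_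
        rfl ?_ ?_ (hS.diag_normalizes hc0 hd rfl)
      · rw [conjT_diagonal, Matrix.diagonal_mul_diagonal, ← Matrix.diagonal_one]
        congr 1
        funext i
        rw [hφq, hroot (d i) 9 (by rw [show (9 : ℕ) = 3 * 3 by norm_num, pow_mul, hd, hc3]) (by omega)]
      · change (_ * Matrix.diagonal d * _) ^ 3 = _
        rw [Units.conj_pow, Matrix.diagonal_pow, show d ^ 3 = fun _ => c from funext hd,
          ← Matrix.smul_one_eq_diagonal]
        simp
      · intro δ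
        rw [Matrix.diagonal_mul_diagonal, Matrix.diagonal_mul_diagonal]
        congr 1; funext i; ring
      · change (_ * Matrix.diagonal d * _).charpoly = _
        rw [Matrix.coe_units_inv, Matrix.charpoly_units_conj, Matrix.charpoly_diagonal, hcp]

end Cfsg.Agent.S5999
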