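import Cfsg.Statements.S5979
import Cfsg.Agent.Lib.LinFix.Kron
import Cfsg.Agent.Lib.LinFix.Subfield
import Cfsg.Agent.Lib.Semisimple.GL
-- import your own Cfsg.Agent.* helpers here

set_option autoImplicit false
open scoped MatrixGroups
open Cfsg

namespace Cfsg.Agent.S5979

open Matrix CfsgLib.LinFix Polynomial
open scoped Kronecker

variable {F : Type*} [Field F] {n a b : ℕ}

/-- Unfolding membership of a conjugate in the tensor stabiliser. -/
theorem exists_model {e : Fin n ≃ Fin a × Fin b} {P g x : GL (Fin n) F}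
    (h : g⁻¹ * x * g ∈ Cfsg.Geo.tensorProductSubgroup a b e P) :
    ∃ (A : GL (Fin a) F) (B : GL (Fin b) F) (Q : GL (Fin n) F), (x : Matrix (Fin n) (Fin n) F) =
      (Q : Matrix (Fin n) (Fin n) F) *
        (((A : Matrix (Fin a) (Fin a) F) ⊗ₖ (B : Matrix (Fin b) (Fin b) F)).submatrix e e) *
        ((Q⁻¹ : GL (Fin n) F) : Matrix (Fin n) (Fin n) F) := by
  obtain ⟨_, ⟨m, ⟨A, B, hm⟩, rfl⟩, hy⟩ := h
  refine ⟨A, B, g * P, ?_⟩
  have hx : x = (g * P) * (Cfsg.Geo.glReindex e.symm).toMonoidHom m * (g * P)⁻¹ := by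
    rw [MulEquiv.coe_toMonoidHom, MulAut.conj_apply] at hy
    calc x = g * (g⁻¹ * x * g) * g⁻¹ := by group
      _ = _ := by rw [← hy]; group
  conv_lhs => rw [hx]
  rw [Units.val_mul, Units.val_mul]
  congr 2
  rw [← hm]
  rfl

/-- Membership from a model. -/
theorem mem_of_model {e : Fin n ≃ Fin a × Fin b} {P g x : GL (Fin n) F} (A : GL (Fin a) F)
    (B : GL (Fin b) F) (Q M : GL (Fin n) F)
    (hM : (M : Matrix (Fin n) (Fin n) F) =
      ((A : Matrix (Fin a) (Fin a) F) ⊗ₖ (B : Matrix (Fin b) (Fin b) F)).submatrix e e)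
    (hx : x = Q * M * Q⁻¹) (hg : Commute (g * P * Q⁻¹) x) :
    g⁻¹ * x * g ∈ Cfsg.Geo.tensorProductSubgroup a b e P := by
  refine ⟨M, ⟨(Cfsg.Geo.glReindex e) M, ⟨A, B, ?_⟩, ?_⟩, ?_⟩
  · change Matrix.reindexAlgEquiv F F e (M : Matrix (Fin n) (Fin n) F) = _
    rw [hM]
    ext i j
    simp
  · apply Units.ext
    ext i j
    simp [Cfsg.Geo.glReindex]
  · rw [MulEquiv.coe_toMonoidHom, MulAut.conj_apply]
    have h : M = Q⁻¹ * x * Q := by rw [hx]; group
    have hc : (g * P * Q⁻¹) * x = x * (g * P * Q⁻¹) := hg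
    rw [h]
    calc P * (Q⁻¹ * x * Q) * P⁻¹ = g⁻¹ * ((g * P * Q⁻¹) * x) * Q * P⁻¹ := by group
      _ = g⁻¹ * x * g := by rw [hc]; group

/-- In the model, a small rank forces divisibility of all ranks. -/
theorem rank_facts {e : Fin n ≃ Fin a × Fin b} (ha : 0 < a) {x : Matrix (Fin n) (Fin n) F}
    {A : Matrix (Fin a) (Fin a) F} {B : Matrix (Fin b) (Fin b) F} (hB : IsUnit B.det)
    {Q : GL (Fin n) F}
    (hx : x = (Q : Matrix (Fin n) (Fin n) F) * ((A ⊗ₖ B).submatrix e e) *
      ((Q⁻¹ : GL (Fin n) F) : Matrix (Fin n) (Fin n) F)) :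
    (∀ μ : F, (x - μ • 1).rank = (A ⊗ₖ B - μ • 1).rank) ∧
    (∀ μ : F, (x - μ • 1).rank < b → ∃ C : Matrix (Fin b) (Fin b) F,
      A ⊗ₖ B = (1 : Matrix (Fin a) (Fin a) F) ⊗ₖ C ∧
        ∀ μ' : F, (x - μ' • 1).rank = a * (C - μ' • 1).rank) := by
  haveI : Nonempty (Fin a) := ⟨⟨0, ha⟩⟩
  have h1 : ∀ μ : F, (x - μ • 1).rank = (A ⊗ₖ B - μ • 1).rank := by
    intro μ
    have hs : (A ⊗ₖ B - μ • 1).submatrix e e = (A ⊗ₖ B).submatrix e e - μ • 1 := by
      ext i j
      simp [Matrix.one_apply]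
    have hid : x - μ • 1 = (Q : Matrix (Fin n) (Fin n) F) * (A ⊗ₖ B - μ • 1).submatrix e e *
        ((Q⁻¹ : GL (Fin n) F) : Matrix (Fin n) (Fin n) F) := by
      rw [hx, hs, Matrix.mul_sub, Matrix.sub_mul, Matrix.mul_smul, Matrix.smul_mul, Matrix.mul_one,
        Units.mul_inv]
    rw [hid, Matrix.rank_mul_eq_left_of_isUnit_det _ _ ((Matrix.isUnit_iff_isUnit_det _).1 (Q⁻¹).isUnit),
      Matrix.rank_mul_eq_right_of_isUnit_det _ _ ((Matrix.isUnit_iff_isUnit_det _).1 Q.isUnit),
      Matrix.rank_submatrix]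
  refine ⟨h1, fun μ hμ => ?_⟩
  obtain ⟨C, hC, hr⟩ := exists_rank_eq_of_lt hB (μ := μ) (by rw [← h1, Fintype.card_fin]; exact hμ)
  exact ⟨C, hC, fun μ' => by rw [h1, hr, Fintype.card_fin]⟩

theorem model_pow {e : Fin n ≃ Fin a × Fin b} {x : Matrix (Fin n) (Fin n) F}
    {A : Matrix (Fin a) (Fin a) F} {B : Matrix (Fin b) (Fin b) F} {Q : GL (Fin n) F}
    (hx : x = (Q : Matrix (Fin n) (Fin n) F) * ((A ⊗ₖ B).submatrix e e) *
      ((Q⁻¹ : GL (Fin n) F) : Matrix (Fin n) (Fin n) F)) {k : ℕ} (hk : x ^ k = 1) :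
    (A ⊗ₖ B) ^ k = 1 := by
  rw [hx] at hk
  rw [Units.conj_pow] at hk
  have h2 : ((A ⊗ₖ B).submatrix e e) ^ k = 1 := by
    have := congrArg (fun M => ((Q⁻¹ : GL (Fin n) F) : Matrix (Fin n) (Fin n) F) * M *
      (Q : Matrix (Fin n) (Fin n) F)) hk
    simpa [Matrix.mul_assoc] using this
  have h3 : (A ⊗ₖ B).submatrix e e = Matrix.reindexAlgEquiv F F e.symm (A ⊗ₖ B) := rfl
  rw [h3, ← map_pow] at h2
  exact (Matrix.reindexAlgEquiv F F e.symm).injective (h2.trans (map_one _).symm)

/-- Derangements from two ranks. -/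
theorem no_model_of_ranks {e : Fin n ≃ Fin a × Fin b} {P : GL (Fin n) F} (ha : 0 < a)
    {x : GL (Fin n) F} {μ μ' : F} (h1 : ((x : Matrix (Fin n) (Fin n) F) - μ • 1).rank < b)
    (h2 : ¬ a ∣ ((x : Matrix (Fin n) (Fin n) F) - μ' • 1).rank) :
    ¬ ∃ g ∈ Cfsg.Geo.specialLinear (Fin n) F, g⁻¹ * x * g ∈ Cfsg.Geo.tensorProductSubgroup a b e P := by
  rintro ⟨g, -, hg⟩
  obtain ⟨A, B, Q, hx⟩ := exists_model hg
  obtain ⟨C, -, hC⟩ := (rank_facts ha ((Matrix.isUnit_iff_isUnit_det _).1 B.isUnit) hx).2 μ h1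
  exact h2 (hC μ' ▸ dvd_mul_right a _)

theorem mem_specialLinear_iff {x : GL (Fin n) F} :
    x ∈ Cfsg.Geo.specialLinear (Fin n) F ↔ (x : Matrix (Fin n) (Fin n) F).det = 1 := by
  rw [Cfsg.Geo.specialLinear, MonoidHom.mem_ker, Units.ext_iff]
  rfl

/-- The order of an element is seen in the model: a derangement when `r` does not divide `q - 1`. -/
theorem no_model_of_order [Fintype F] {r : ℕ} [Fact r.Prime] {e : Fin n ≃ Fin a × Fin b}
    {P : GL (Fin n) F} (ha : 2 ≤ a) (hlt : a < b) {x : GL (Fin n) F}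
    (hi : 1 < orderOf (Fintype.card F : ZMod r)) (hrF : (r : F) ≠ 0)
    (hxr : (x : Matrix (Fin n) (Fin n) F) ^ r = 1)
    (hrk : ((x : Matrix (Fin n) (Fin n) F) - 1).rank = orderOf (Fintype.card F : ZMod r)) :
    ¬ ∃ g ∈ Cfsg.Geo.specialLinear (Fin n) F, g⁻¹ * x * g ∈ Cfsg.Geo.tensorProductSubgroup a b e P := by
  set i := orderOf (Fintype.card F : ZMod r) with hidef
  rintro ⟨g, -, hg⟩
  haveI : Nonempty (Fin a) := ⟨⟨0, by omega⟩⟩
  obtain ⟨A, B, Q, hx⟩ := exists_model hg
  have hB := (Matrix.isUnit_iff_isUnit_det _).1 B.isUnit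
  have hAs : ∃ s : F, (A : Matrix (Fin a) (Fin a) F) = s • 1 := by
    rcases Nat.lt_or_ge i b with hib | hib
    · refine exists_left_scalar hB (μ := 1) ?_
      rw [← (rank_facts (by omega) hB hx).1, Fintype.card_fin, one_smul, hrk]
      exact hib
    · have hk := model_pow hx hxr
      rw [kronecker_pow] at hk
      obtain ⟨s, hs⟩ := exists_left_scalar (κ := Fin b) (μ := 1)
        (A := (A : Matrix (Fin a) (Fin a) F) ^ r) (B := (B : Matrix (Fin b) (Fin b) F) ^ r)
        (by rw [Matrix.det_pow]; exact hB.pow r)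
        (by rw [hk, one_smul, sub_self, Matrix.rank_zero, Fintype.card_fin]; omega)
      obtain ⟨w, hw⟩ := exists_root_of_coprime (r := r) (F := F) (by omega) s
      have hw0 : w ≠ 0 := by
        rintro rfl
        have h := ((Matrix.isUnit_iff_isUnit_det _).1 A.isUnit).pow r
        rw [← Matrix.det_pow, hs, ← hw, zero_pow (Fact.out : r.Prime).ne_zero, zero_smul,
          Matrix.det_zero] at h
        exact not_isUnit_zero h
      have h1 : (w⁻¹ • (A : Matrix (Fin a) (Fin a) F)) ^ r = 1 := by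
        rw [_root_.smul_pow, hs, smul_smul, inv_pow, hw, inv_mul_cancel₀ (hw ▸ pow_ne_zero _ hw0), one_smul]
      have h2 := matrix_eq_one_of_rank_lt (m := Fin a) (by omega) hrF h1
        (lt_of_le_of_lt (Matrix.rank_le_width _) (by omega))
      exact ⟨w, by rw [← h2, smul_smul, mul_inv_cancel₀ hw0, one_smul]⟩
  obtain ⟨s, hs⟩ := hAs
  have hAB : (A : Matrix (Fin a) (Fin a) F) ⊗ₖ (B : Matrix (Fin b) (Fin b) F) =
      (1 : Matrix (Fin a) (Fin a) F) ⊗ₖ (s • (B : Matrix (Fin b) (Fin b) F)) := by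
    rw [hs, smul_one_kronecker]
  have hk := model_pow hx hxr
  rw [hAB, kronecker_pow, one_pow] at hk
  have hC : (s • (B : Matrix (Fin b) (Fin b) F)) ^ r = 1 := eq_one_of_one_kronecker hk
  have hrank : a * (s • (B : Matrix (Fin b) (Fin b) F) - 1).rank = i := by
    rw [← hrk, ← one_smul F (1 : Matrix (Fin n) (Fin n) F), (rank_facts (by omega) hB hx).1, hAB,
      one_kronecker_sub_smul, rank_one_kronecker, one_smul, Fintype.card_fin]
  have hlt' : (s • (B : Matrix (Fin b) (Fin b) F) - 1).rank < i := by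
    rcases Nat.eq_zero_or_pos (s • (B : Matrix (Fin b) (Fin b) F) - 1).rank with h0 | h0
    · omega
    · nlinarith
  rw [matrix_eq_one_of_rank_lt (by omega) hrF hC hlt', sub_self, Matrix.rank_zero] at hrank
  omega

/-- The diagonal matrix with two special entries. -/
def twoDiag (n : ℕ) (i₀ i₁ : Fin n) (u v w : F) : Fin n → F :=
  fun i => if i = i₀ then u else if i = i₁ then v else w

theorem prod_twoDiag {i₀ i₁ : Fin n} (h : i₀ ≠ i₁) (u v w : F) :
    ∏ i, twoDiag n i₀ i₁ u v w i = u * v * w ^ (n - 2) := by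
  classical
  rw [← Finset.prod_erase_mul _ _ (Finset.mem_univ i₀),
    ← Finset.prod_erase_mul _ _ (Finset.mem_erase.2 ⟨h.symm, Finset.mem_univ i₁⟩),
    Finset.prod_congr rfl (g := fun _ => w) (fun i hi => by
      simp only [Finset.mem_erase, Finset.mem_univ, and_true] at hi
      simp [twoDiag, hi.1, hi.2]),
    Finset.prod_const, Finset.card_erase_of_mem (Finset.mem_erase.2 ⟨h.symm, Finset.mem_univ i₁⟩),
    Finset.card_erase_of_mem (Finset.mem_univ i₀), Finset.card_univ, Fintype.card_fin]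
  simp [twoDiag, h.symm, Nat.sub_sub]
  ring

theorem rank_diag_sub [DecidableEq F] (d : Fin n → F) (μ : F) :
    (Matrix.diagonal d - μ • (1 : Matrix (Fin n) (Fin n) F)).rank =
      (Finset.univ.filter fun i => d i ≠ μ).card := by
  rw [← Matrix.diagonal_one, ← Matrix.diagonal_smul, Matrix.diagonal_sub, Matrix.rank_diagonal,
    Fintype.card_subtype]
  congr 1
  ext i
  simp [sub_eq_zero]

/-- An element of `GL` from a diagonal. -/
theorem exists_diag_element (d : Fin n → F) (hd : ∏ i, d i = 1) :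
    ∃ x : GL (Fin n) F, x ∈ Cfsg.Geo.specialLinear (Fin n) F ∧
      (x : Matrix (Fin n) (Fin n) F) = Matrix.diagonal d := by
  refine ⟨Matrix.GeneralLinearGroup.mkOfDetNeZero (Matrix.diagonal d)
    (by rw [Matrix.det_diagonal, hd]; exact one_ne_zero), ?_, rfl⟩
  rw [mem_specialLinear_iff]
  exact (Matrix.det_diagonal (d := d)).trans hd

section conj

variable [Fintype F] {p : ℕ} [Fact p.Prime] [CharP F p]

theorem coprime_of_sq {c : F} (hp2 : p ≠ 2) (hc : c ≠ 0) {y : GL (Fin n) F}
    (hy : (y : Matrix (Fin n) (Fin n) F) ^ 2 = c • 1) : (orderOf y).Coprime p := by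
  have h : y ^ (2 * (Fintype.card F - 1)) = 1 := by
    apply Units.ext
    rw [pow_mul, Units.val_pow_eq_pow_val, Units.val_pow_eq_pow_val, hy, _root_.smul_pow, one_pow,
      FiniteField.pow_card_sub_one_eq_one c hc, one_smul, Units.val_one]
  refine Nat.Coprime.coprime_dvd_left (orderOf_dvd_of_pow_eq_one h) ?_
  have hp : p.Prime := Fact.out
  rw [Nat.coprime_comm, hp.coprime_iff_not_dvd, hp.dvd_mul, not_or]
  refine ⟨fun h2 => hp2 ((Nat.prime_dvd_prime_iff_eq hp Nat.prime_two).1 h2), fun h1 => ?_⟩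
  rw [← CharP.cast_eq_zero_iff F p, Nat.cast_sub Fintype.card_pos, FiniteField.cast_card_eq_zero] at h1
  simp at h1

omit [Fintype F] [Fact p.Prime] [CharP F p] in
theorem charpoly_of_sq_eq_nonsquare {c : F} (hc : ∀ w : F, w ^ 2 ≠ c)
    {M : Matrix (Fin n) (Fin n) F} (hM : M ^ 2 = c • 1) :
    M.charpoly = (X ^ 2 - C c : F[X]) ^ (n / 2) := by
  have hirr := X_pow_sub_C_irreducible_of_prime Nat.prime_two hc
  have hmon : (X ^ 2 - C c : F[X]).Monic := monic_X_pow_sub_C c two_ne_zero
  obtain ⟨k, hk⟩ := CfsgLib.Spectrum.exists_eq_pow_of_forall_irreducible_dvd hmon hirr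
    M.charpoly_monic (fun g hg hgd => by
      have h1 := hg.prime.dvd_of_dvd_pow (hgd.trans (CfsgLib.Spectrum.charpoly_dvd_minpoly_pow M))
      have h2 : g ∣ X ^ 2 - C c := h1.trans (minpoly.dvd F M (by
        simp [hM, Algebra.algebraMap_eq_smul_one]))
      exact (hg.associated_of_dvd hirr h2).symm.dvd)
  have hn := congrArg natDegree hk
  rw [M.charpoly_natDegree_eq_dim, Fintype.card_fin, natDegree_pow, natDegree_X_pow_sub_C] at hn
  rw [hk, hn, Nat.mul_div_cancel k two_pos]

omit [Fintype F] [Fact p.Prime] [CharP F p] in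
theorem charpoly_of_sq_eq_sq {w : F} {M : Matrix (Fin n) (Fin n) F} (hM : M ^ 2 = (w ^ 2) • 1) :
    ∃ k l : ℕ, k + l = n ∧ M.charpoly = (X - C w) ^ k * (X - C (-w)) ^ l := by
  classical
  have hdvd : M.charpoly ∣ ((X - C w) * (X - C (-w))) ^ n := by
    refine (CfsgLib.Spectrum.charpoly_dvd_minpoly_pow M).trans (pow_dvd_pow_of_dvd (minpoly.dvd F M ?_) n)
    rw [show (X - C w) * (X - C (-w)) = (X ^ 2 - C (w ^ 2) : F[X]) by rw [map_neg, map_pow]; ring]
    simp [hM, Algebra.algebraMap_eq_smul_one, _root_.smul_pow]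
  have hne : ((X - C w) * (X - C (-w))) ^ n ≠ 0 :=
    pow_ne_zero _ (mul_ne_zero (X_sub_C_ne_zero w) (X_sub_C_ne_zero _))
  have hs : M.charpoly.Splits := Polynomial.Splits.of_dvd
    ((((Polynomial.Splits.X_sub_C w).mul (Polynomial.Splits.X_sub_C (-w)))).pow n) hne hdvd
  have hroots : ∀ z ∈ M.charpoly.roots, z = w ∨ z = -w := by
    intro z hz
    have h := ((mem_roots M.charpoly_monic.ne_zero).1 hz).dvd hdvd
    simp [IsRoot, sub_eq_zero, add_eq_zero_iff_eq_neg] at h
    exact h.1
  have hprod := hs.eq_prod_roots_of_monic M.charpoly_monic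
  set R := M.charpoly.roots
  refine ⟨(R.filter fun z => z = w).card, (R.filter fun z => ¬ z = w).card, ?_, ?_⟩
  · have := congrArg Multiset.card (Multiset.filter_add_not (fun z => z = w) R)
    rw [Multiset.card_add] at this
    rw [this]
    exact hs.natDegree_eq_card_roots.symm.trans
      (by rw [M.charpoly_natDegree_eq_dim, Fintype.card_fin])
  · rw [hprod]
    conv_lhs => rw [← Multiset.filter_add_not (fun z => z = w) R, Multiset.map_add, Multiset.prod_add]
    congr 1
    · rw [Multiset.map_congr rfl (g := fun _ => X - C w)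
        (fun z hz => by rw [(Multiset.mem_filter.1 hz).2]),
        Multiset.map_const', Multiset.prod_replicate]
    · rw [Multiset.map_congr rfl (g := fun _ => X - C (-w)) (fun z hz => by
        rw [(hroots z (Multiset.mem_filter.1 hz).1).resolve_left (Multiset.mem_filter.1 hz).2]),
        Multiset.map_const', Multiset.prod_replicate]

/-- Two square roots of a scalar with the same characteristic polynomial give a model. -/
theorem exists_conj_mem {e : Fin n ≃ Fin a × Fin b} {P x M : GL (Fin n) F} (hn : 0 < n)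
    (A : GL (Fin a) F) (B : GL (Fin b) F)
    (hM : (M : Matrix (Fin n) (Fin n) F) =
      ((A : Matrix (Fin a) (Fin a) F) ⊗ₖ (B : Matrix (Fin b) (Fin b) F)).submatrix e e)
    {c : F} (hp2 : p ≠ 2) (hc : c ≠ 0) (hx : (x : Matrix (Fin n) (Fin n) F) ^ 2 = c • 1)
    (hM2 : (M : Matrix (Fin n) (Fin n) F) ^ 2 = c • 1)
    (hcp : (M : Matrix (Fin n) (Fin n) F).charpoly = (x : Matrix (Fin n) (Fin n) F).charpoly) :
    ∃ g ∈ Cfsg.Geo.specialLinear (Fin n) F, g⁻¹ * x * g ∈ Cfsg.Geo.tensorProductSubgroup a b e P := by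
  haveI : Nonempty (Fin n) := ⟨⟨0, hn⟩⟩
  obtain ⟨Q, hQ⟩ := isConj_iff.1 (CfsgLib.Semisimple.isConj_of_charpoly_eq p M x
    (coprime_of_sq hp2 hc hM2) (coprime_of_sq hp2 hc hx) hcp)
  have hdet : ∀ y : GL (Fin n) F, (y : Matrix (Fin n) (Fin n) F).det =
      ((Matrix.GeneralLinearGroup.det y : Fˣ) : F) := fun y => rfl
  obtain ⟨D, hD, hDx⟩ := CfsgLib.Semisimple.exists_commute_det_eq p x (coprime_of_sq hp2 hc hx)
    ((Matrix.GeneralLinearGroup.det (P * Q⁻¹) : Fˣ) : F) (Units.ne_zero _)
  refine ⟨D * Q * P⁻¹, ?_, mem_of_model A B Q M hM hQ.symm ?_⟩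
  · rw [mem_specialLinear_iff, hdet, map_mul, map_mul, map_inv]
    rw [hdet] at hD
    rw [Units.ext hD, map_mul, map_inv]
    simp
  · rwa [show D * Q * P⁻¹ * P * Q⁻¹ = D by group]

end conj

/-- No scalar has `n`-th power minus one. -/
theorem pow_ne_neg_one [Fintype F] {q : ℕ} (hq : Fintype.card F = q) (h2 : (2 : F) ≠ 0)
    (hn : padicValNat 2 (q - 1) ≤ padicValNat 2 n) (t : F) : t ^ n ≠ -1 := by
  intro ht
  rcases Nat.eq_zero_or_pos n with rfl | hn0
  · rw [pow_zero] at ht; exact h2 (by linear_combination ht)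
  have hq1 : q - 1 ≠ 0 := by have := Fintype.one_lt_card (α := F); omega
  haveI : Fact (Nat.Prime 2) := ⟨Nat.prime_two⟩
  obtain ⟨w, hw⟩ := (pow_padicValNat_dvd (p := 2) (n := q - 1))
  obtain ⟨k, hk⟩ : 2 ^ padicValNat 2 (q - 1) ∣ n := (pow_dvd_pow 2 hn).trans pow_padicValNat_dvd
  have hwodd : ¬ 2 ∣ w := by
    rintro ⟨w', rfl⟩
    refine pow_succ_padicValNat_not_dvd (p := 2) hq1 ⟨w', ?_⟩
    rw [pow_succ]; conv_lhs => rw [hw]
    ring
  have ht0 : t ≠ 0 := by
    rintro rfl
    rw [zero_pow hn0.ne'] at ht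
    exact one_ne_zero (neg_eq_zero.1 ht.symm)
  set e := padicValNat 2 (q - 1)
  set s := (t ^ 2 ^ e) ^ k with hsdef
  have hs : s = -1 := by rw [hsdef, ← pow_mul, ← hk, ht]
  have hsw : s ^ w = 1 := by
    rw [hsdef, ← pow_mul, ← pow_mul, show 2 ^ e * (k * w) = (2 ^ e * w) * k by ring, ← hw, pow_mul,
      ← hq, FiniteField.pow_card_sub_one_eq_one t ht0, one_pow]
  rw [hs, (Nat.odd_iff.2 (by omega)).neg_one_pow] at hsw
  exact h2 (by linear_combination -hsw)

/-- A scalar whose `n`-th power is minus one. -/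
theorem exists_pow_eq_neg_one [Fintype F] {q : ℕ} (hq : Fintype.card F = q) (hn0 : n ≠ 0)
    (hn : padicValNat 2 n < padicValNat 2 (q - 1)) : ∃ t : F, t ^ n = -1 := by
  classical
  haveI : Fact (Nat.Prime 2) := ⟨Nat.prime_two⟩
  obtain ⟨g, hg⟩ := IsCyclic.exists_generator (α := Fˣ)
  have hord : orderOf g = q - 1 := by
    rw [orderOf_eq_card_of_forall_mem_zpowers hg, Nat.card_units, Nat.card_eq_fintype_card, hq]
  obtain ⟨m, hm⟩ := (pow_padicValNat_dvd (p := 2) (n := n))
  have hmodd : ¬ 2 ∣ m := by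
    rintro ⟨m', rfl⟩
    refine pow_succ_padicValNat_not_dvd (p := 2) hn0 ⟨m', ?_⟩
    rw [pow_succ]; conv_lhs => rw [hm]
    ring
  set v := padicValNat 2 n
  obtain ⟨j, hj⟩ : 2 ^ (v + 1) ∣ q - 1 := (pow_dvd_pow 2 hn).trans pow_padicValNat_dvd
  have hq1 : q - 1 ≠ 0 := by have := Fintype.one_lt_card (α := F); omega
  have hj0 : 0 < j := Nat.pos_of_ne_zero fun h => hq1 (by rw [hj, h, mul_zero])
  have hlt : j * 2 ^ v < orderOf g := by
    have := Nat.mul_pos hj0 (Nat.two_pow_pos v)
    rw [hord, hj, pow_succ]; linarith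
  set u : F := ((g ^ (j * 2 ^ v) : Fˣ) : F) with hu
  have hu1 : u ≠ 1 := fun h => pow_ne_one_of_lt_orderOf (Nat.mul_pos hj0 (Nat.two_pow_pos v)).ne' hlt
    (Units.ext h)
  have hu2 : u * u = 1 := by
    rw [hu, ← Units.val_mul, ← pow_add, show j * 2 ^ v + j * 2 ^ v = q - 1 by rw [hj, pow_succ]; ring,
      ← hord, pow_orderOf_eq_one, Units.val_one]
  refine ⟨((g ^ j : Fˣ) : F), ?_⟩
  rw [hm, pow_mul, ← Units.val_pow_eq_pow_val, ← pow_mul, ← hu,
    (mul_self_eq_one_iff.1 hu2).resolve_left hu1]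
  exact Odd.neg_one_pow (Nat.odd_iff.2 (by omega))

/-- The tensor model of a square root of a nonsquare. -/
theorem exists_model_nonsquare (e : Fin n ≃ Fin a × Fin b) (ha : a = 2) {c : F} (hc : c ≠ 0) :
    ∃ (A : GL (Fin a) F) (B : GL (Fin b) F) (M : GL (Fin n) F),
      (M : Matrix (Fin n) (Fin n) F) =
        ((A : Matrix (Fin a) (Fin a) F) ⊗ₖ (B : Matrix (Fin b) (Fin b) F)).submatrix e e ∧
      (M : Matrix (Fin n) (Fin n) F) ^ 2 = c • 1 := by
  subst ha
  have hdA : (!![0, c; 1, 0] : Matrix (Fin 2) (Fin 2) F).det ≠ 0 := by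
    rw [Matrix.det_fin_two_of]; simpa using hc
  let A := Matrix.GeneralLinearGroup.mkOfDetNeZero (!![0, c; 1, 0] : Matrix (Fin 2) (Fin 2) F) hdA
  have hA2 : (!![0, c; 1, 0] : Matrix (Fin 2) (Fin 2) F) ^ 2 = c • 1 := by
    rw [pow_two]
    ext i j
    fin_cases i <;> fin_cases j <;> simp
  set N := ((!![0, c; 1, 0] : Matrix (Fin 2) (Fin 2) F) ⊗ₖ (1 : Matrix (Fin b) (Fin b) F)).submatrix e e
    with hN
  have hN2 : N ^ 2 = c • 1 := by
    have h3 : N = Matrix.reindexAlgEquiv F F e.symm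
        ((!![0, c; 1, 0] : Matrix (Fin 2) (Fin 2) F) ⊗ₖ (1 : Matrix (Fin b) (Fin b) F)) := rfl
    rw [h3, ← map_pow, kronecker_pow, one_pow, hA2, Matrix.smul_kronecker, Matrix.one_kronecker_one,
      map_smul, map_one]
  have hdN : N.det ≠ 0 := fun h => by
    have := congrArg Matrix.det hN2
    rw [Matrix.det_pow, h, zero_pow two_ne_zero, Matrix.det_smul, Matrix.det_one, mul_one] at this
    exact pow_ne_zero _ hc this.symm
  exact ⟨A, 1, Matrix.GeneralLinearGroup.mkOfDetNeZero N hdN, rfl, hN2⟩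

/-- The tensor model of a square root of a square. -/
theorem exists_model_square (e : Fin n ≃ Fin a × Fin b) (ha : a = 2) {w : F} (hw : w ≠ 0) {k l : ℕ}
    (hkl : k + l = b) :
    ∃ (A : GL (Fin a) F) (B : GL (Fin b) F) (M : GL (Fin n) F),
      (M : Matrix (Fin n) (Fin n) F) =
        ((A : Matrix (Fin a) (Fin a) F) ⊗ₖ (B : Matrix (Fin b) (Fin b) F)).submatrix e e ∧
      (M : Matrix (Fin n) (Fin n) F) ^ 2 = (w ^ 2) • 1 ∧
      (M : Matrix (Fin n) (Fin n) F).charpoly = (X - C w) ^ (2 * k) * (X - C (-w)) ^ (2 * l) := by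
  subst ha hkl
  let β : Fin (k + l) → F := Fin.append (fun _ => w) (fun _ => -w)
  have hβ : ∀ i, β i ≠ 0 ∧ β i ^ 2 = w ^ 2 := fun i => by
    refine Fin.addCases (fun i => ?_) (fun i => ?_) i <;> simp [β, hw]
  let d : Fin n → F := fun i => β (e i).2
  have hd : Matrix.diagonal d = ((1 : Matrix (Fin 2) (Fin 2) F) ⊗ₖ Matrix.diagonal β).submatrix e e := by
    rw [← Matrix.diagonal_one, Matrix.diagonal_kronecker_diagonal, Matrix.submatrix_diagonal_equiv]
    simp [d, Function.comp_def]
  have hdne : (Matrix.diagonal d).det ≠ 0 := by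
    rw [Matrix.det_diagonal]
    exact Finset.prod_ne_zero_iff.2 fun i _ => (hβ _).1
  have hβne : (Matrix.diagonal β).det ≠ 0 := by
    rw [Matrix.det_diagonal]
    exact Finset.prod_ne_zero_iff.2 fun i _ => (hβ i).1
  refine ⟨1, Matrix.GeneralLinearGroup.mkOfDetNeZero (Matrix.diagonal β) hβne,
    Matrix.GeneralLinearGroup.mkOfDetNeZero (Matrix.diagonal d) hdne, hd, ?_, ?_⟩
  · change Matrix.diagonal d ^ 2 = _
    rw [Matrix.diagonal_pow, ← Matrix.diagonal_one, ← Matrix.diagonal_smul]
    congr 1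
    ext i
    simp [d, (hβ (e i).2).2]
  · change (Matrix.diagonal d).charpoly = _
    rw [Matrix.charpoly_diagonal, Equiv.prod_comp e (fun p : Fin 2 × Fin (k + l) => X - C (β p.2)),
      Fintype.prod_prod_type, Fin.prod_univ_two, Fin.prod_univ_add]
    simp [β]
    ring


/-- Elements of prime order of PSL_n(q) and the stabilizers of tensor decompositions with factors of different dimensions. Here `T = PSL_n(F)` for a field `F` with `q` elements and `n = a·b` with `2 ≤ a < b`; a tensor decomposition `F^n ≅ F^a ⊗ F^b` is given by a bijection `e` of index sets and a change of basis `P`, and `H` is the subgroup of matrices of determinant 1 in its stabilizer (the conjugate by `P` of the group of Kronecker products `g₁ ⊗ g₂`) — a subgroup of type GL_a(q) ⊗ GL_b(q) (maximality is not assumed); Ω is the set of cosets of `H` in `T`, so an element of `T` of prime order `r` (a matrix `x` of determinant 1 with `x^r` scalar, `x` not scalar) fixes a point of Ω exactly when some conjugate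 of `x` by a matrix of determinant 1 lies in `H`. Let `r` be a prime dividing the index of `H`. Then every element of `T` of order `r` fixes a point of Ω if and only if `r = 2`, `a = 2`, `q` is odd and `(q − 1)_2 ≤ (n)_2` (2-parts). -/
theorem result {F : Type*} [Field F] [Fintype F] {p : ℕ} [Fact p.Prime] [CharP F p] {q : ℕ} (hq : Fintype.card F = q)
    (n a b : ℕ) (hab : n = a * b) (ha : 2 ≤ a) (hlt : a < b) (e : Fin n ≃ Fin a × Fin b) (P : GL (Fin n) F)
    (r : ℕ) [Fact r.Prime]
    (hΩ : r ∣ (Cfsg.Geo.tensorProductSubgroup a b e P).relIndex (Cfsg.Geo.specialLinear (Fin n) F)) :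
    (∀ x ∈ Cfsg.Geo.specialLinear (Fin n) F, (∃ z : F, ((x ^ r : GL (Fin n) F) : Matrix (Fin n) (Fin n) F) = z • (1 : Matrix (Fin n) (Fin n) F)) →
      (∀ z : F, (x : Matrix (Fin n) (Fin n) F) ≠ z • (1 : Matrix (Fin n) (Fin n) F)) →
      ∃ g ∈ Cfsg.Geo.specialLinear (Fin n) F, g⁻¹ * x * g ∈ Cfsg.Geo.tensorProductSubgroup a b e P) ↔
    (r = 2 ∧ a = 2 ∧ Odd q ∧ padicValNat 2 (q - 1) ≤ padicValNat 2 n) := by
  classical
  have hn6 : 6 ≤ n := by nlinarith
  let i₀ : Fin n := ⟨0, by omega⟩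
  let i₁ : Fin n := ⟨1, by omega⟩
  have h01 : i₀ ≠ i₁ := by simp [i₀, i₁, Fin.ext_iff]
  have hp : p.Prime := Fact.out
  have hr : r.Prime := Fact.out
  have hodd_iff : p ≠ 2 → Odd q := fun h => by
    obtain ⟨k, -, hk⟩ := FiniteField.card F p
    rw [← hq, hk]; exact (hp.odd_of_ne_two h).pow
  have ha_dvd : a ∣ n := ⟨b, hab⟩
  constructor
  · intro H
    -- a diagonal or unipotent element with two incompatible ranks
    have bad : ∀ (x : GL (Fin n) F) (μ μ' z : F), x ∈ Cfsg.Geo.specialLinear (Fin n) F →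
        (x : Matrix (Fin n) (Fin n) F) ^ r = z • 1 →
        ((x : Matrix (Fin n) (Fin n) F) - μ • 1).rank < b →
        ¬ a ∣ ((x : Matrix (Fin n) (Fin n) F) - μ' • 1).rank → False := by
      intro x μ μ' z hx hz h1 h2
      refine no_model_of_ranks (P := P) (e := e) (by omega) h1 h2
        (H x hx ⟨z, by rw [Units.val_pow_eq_pow_val]; exact hz⟩ fun t ht => h2 ?_)
      rw [ht, ← sub_smul]
      rcases eq_or_ne (t - μ') 0 with h0 | h0
      · rw [h0, zero_smul, Matrix.rank_zero]; exact dvd_zero a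
      · rw [Matrix.rank_of_det_ne_zero (by simp [h0]), Fintype.card_fin]; exact ha_dvd
    rcases eq_or_ne r p with hrp | hrp
    · exfalso
      subst hrp
      let x : GL (Fin n) F := Matrix.GeneralLinearGroup.mkOfDetNeZero (Matrix.transvection i₀ i₁ 1)
        (by rw [Matrix.det_transvection_of_ne _ _ h01]; exact one_ne_zero)
      have hxM : (x : Matrix (Fin n) (Fin n) F) = Matrix.transvection i₀ i₁ (1 : F) := rfl
      have hpw : ∀ k : ℕ, Matrix.transvection i₀ i₁ (1 : F) ^ k = Matrix.transvection i₀ i₁ (k : F) := by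
        intro k
        induction k with
        | zero => simp
        | succ k ih => rw [pow_succ, ih, Matrix.transvection_mul_transvection_same _ _ h01, Nat.cast_succ]
      have hsub : (x : Matrix (Fin n) (Fin n) F) - (1 : F) • 1 =
          Matrix.vecMulVec (Pi.single i₀ 1) (Pi.single i₁ 1) := by
        rw [hxM, one_smul, Matrix.transvection, add_sub_cancel_left, Matrix.single_eq_single_vecMulVec_single]
      have hle : ((x : Matrix (Fin n) (Fin n) F) - (1 : F) • 1).rank ≤ 1 :=
        hsub ▸ Matrix.rank_vecMulVec_le _ _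
      refine bad x 1 1 1 ?_ ?_ (by omega) ?_
      · rw [mem_specialLinear_iff, hxM, Matrix.det_transvection_of_ne _ _ h01]
      · rw [hxM, hpw, CharP.cast_eq_zero F r, Matrix.transvection_zero, one_smul]
      · intro hd
        have h0 : ((x : Matrix (Fin n) (Fin n) F) - (1 : F) • 1).rank = 0 :=
          Nat.eq_zero_of_dvd_of_lt hd (by omega)
        rw [Matrix.rank, Submodule.finrank_eq_zero, LinearMap.range_eq_bot, hsub] at h0
        have := congrFun (LinearMap.congr_fun h0 (Pi.single i₁ 1)) i₀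
        simp [Matrix.vecMulVec] at this
    have hrF : (r : F) ≠ 0 := natCast_ne_zero_of_ne (p := p) hrp
    have hi0 : 0 < orderOf (Fintype.card F : ZMod r) := orderOf_pos_of_ne (p := p) hrp
    rcases eq_or_ne (orderOf (Fintype.card F : ZMod r)) 1 with hi | hi
    · have hrq : r ∣ q - 1 := by
        have := (dvd_pow_sub_one_iff (r := r) Fintype.card_pos 1).2 (by rw [hi])
        rwa [pow_one, hq] at this
      rcases eq_or_ne r 2 with hr2 | hr2
      · subst hr2
        have hp2 : p ≠ 2 := fun h => hrp h.symm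
        have h20 : (2 : F) ≠ 0 := by exact_mod_cast hrF
        have hne : (-1 : F) ≠ 1 := fun h => h20 (by linear_combination -h)
        refine ⟨rfl, ?_, hodd_iff hp2, ?_⟩
        · by_contra ha2
          obtain ⟨x, hx, hxM⟩ := exists_diag_element (twoDiag n i₀ i₁ (-1 : F) (-1) 1)
            (by rw [prod_twoDiag h01]; simp)
          have c1 : (Finset.univ.filter fun i => twoDiag n i₀ i₁ (-1 : F) (-1) 1 i ≠ 1) = {i₀, i₁} := by
            ext i; simp only [Finset.mem_filter, Finset.mem_univ, true_and]; by_cases h0 : i = i₀ <;> by_cases h1 : i = i₁ <;> simp [twoDiag, h0, h1, hne]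
          have c2 : (Finset.univ.filter fun i => twoDiag n i₀ i₁ (-1 : F) (-1) 1 i ≠ -1) =
              ({i₀, i₁} : Finset (Fin n))ᶜ := by
            ext i; simp only [Finset.mem_filter, Finset.mem_univ, true_and]; by_cases h0 : i = i₀ <;> by_cases h1 : i = i₁ <;> simp [twoDiag, h0, h1, hne.symm]
          refine bad x 1 (-1) 1 hx ?_ ?_ ?_
          · rw [hxM, Matrix.diagonal_pow, one_smul, ← Matrix.diagonal_one]
            congr 1
            ext i
            by_cases h0 : i = i₀ <;> by_cases h1 : i = i₁ <;> simp [twoDiag, h0, h1]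
          · rw [hxM, rank_diag_sub, c1, Finset.card_pair h01]; omega
          · rw [hxM, rank_diag_sub, c2, Finset.card_compl, Fintype.card_fin, Finset.card_pair h01]
            intro hd
            have := Nat.dvd_sub ha_dvd hd
            rw [Nat.sub_sub_self (by omega)] at this
            exact ha2 (le_antisymm (Nat.le_of_dvd two_pos this) ha)
        · by_contra hv
          obtain ⟨t, ht⟩ := exists_pow_eq_neg_one hq (n := n) (by omega) (not_le.1 hv)
          have ht0 : t ≠ 0 := by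
            rintro rfl
            rw [zero_pow (by omega)] at ht
            exact one_ne_zero (neg_eq_zero.1 ht.symm)
          have hne' : -t ≠ t := fun h => h20 ((mul_eq_zero.1
            (show (2 : F) * t = 0 by linear_combination -h)).resolve_right ht0)
          obtain ⟨x, hx, hxM⟩ := exists_diag_element (twoDiag n i₀ i₁ (-t) t t) (by
            rw [prod_twoDiag h01, show -t * t * t ^ (n - 2) = -(t * t * t ^ (n - 2)) by ring,
              ← pow_two, ← pow_add, show 2 + (n - 2) = n by omega, ht, neg_neg])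
          have c1 : (Finset.univ.filter fun i => twoDiag n i₀ i₁ (-t) t t i ≠ t) = {i₀} := by
            ext i; simp only [Finset.mem_filter, Finset.mem_univ, true_and]; by_cases h0 : i = i₀ <;> by_cases h1 : i = i₁ <;> simp [twoDiag, h0, h1, hne']
          refine bad x t t (t ^ 2) hx ?_ ?_ ?_
          · rw [hxM, Matrix.diagonal_pow, ← Matrix.diagonal_one, ← Matrix.diagonal_smul]
            congr 1
            ext i
            by_cases h0 : i = i₀ <;> by_cases h1 : i = i₁ <;> simp [twoDiag, h0, h1]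
          · rw [hxM, rank_diag_sub, c1, Finset.card_singleton]; omega
          · rw [hxM, rank_diag_sub, c1, Finset.card_singleton, Nat.dvd_one]; omega
      · exfalso
        obtain ⟨u, hu⟩ := exists_prime_orderOf_dvd_card' (G := Fˣ) r (by
          rw [Nat.card_units, Nat.card_eq_fintype_card, hq]; exact hrq)
        have hu1 : (u : F) ≠ 1 := fun h => hr.one_lt.ne'
          (hu ▸ orderOf_eq_one_iff.2 (Units.ext h))
        have huu : (u : F) ≠ ((u⁻¹ : Fˣ) : F) := fun h => by
          have h2 : u ^ 2 = 1 := by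
            rw [pow_two]; exact eq_inv_iff_mul_eq_one.1 (Units.ext h)
          have := orderOf_dvd_of_pow_eq_one h2
          rw [hu] at this
          exact hr2 ((Nat.prime_dvd_prime_iff_eq hr Nat.prime_two).1 this)
        have hur : (u : F) ^ r = 1 := by
          rw [← Units.val_pow_eq_pow_val, ← hu, pow_orderOf_eq_one, Units.val_one]
        have hu1' : ((u⁻¹ : Fˣ) : F) ≠ 1 := fun h => hu1 (by
          rw [inv_eq_one.1 (Units.ext h : u⁻¹ = 1), Units.val_one])
        obtain ⟨x, hx, hxM⟩ := exists_diag_element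
          (twoDiag n i₀ i₁ (u : F) ((u⁻¹ : Fˣ) : F) 1) (by rw [prod_twoDiag h01]; simp)
        have c1 : (Finset.univ.filter fun i => twoDiag n i₀ i₁ (u : F) ((u⁻¹ : Fˣ) : F) 1 i ≠ 1) =
            {i₀, i₁} := by
          ext i; simp only [Finset.mem_filter, Finset.mem_univ, true_and]; by_cases h0 : i = i₀ <;> by_cases h1 : i = i₁ <;> simp [twoDiag, h0, h1, hu1] <;>
            simp_all
        have huu' : ¬ ((u : F))⁻¹ = (u : F) := fun h => huu (by rw [Units.val_inv_eq_inv_val, h])
        have c2 : (Finset.univ.filter fun i => twoDiag n i₀ i₁ (u : F) ((u⁻¹ : Fˣ) : F) 1 i ≠ (u : F)) =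
            ({i₀} : Finset (Fin n))ᶜ := by
          ext i; simp only [Finset.mem_filter, Finset.mem_univ, true_and]; by_cases h0 : i = i₀ <;> by_cases h1 : i = i₁ <;>
            simp [twoDiag, h0, h1, Ne.symm hu1, huu'] <;> simp_all
        refine bad x 1 (u : F) 1 hx ?_ ?_ ?_
        · rw [hxM, Matrix.diagonal_pow, one_smul, ← Matrix.diagonal_one]
          congr 1
          ext i
          by_cases h0 : i = i₀ <;> by_cases h1 : i = i₁ <;> simp [twoDiag, h0, h1, hur]
        · rw [hxM, rank_diag_sub, c1, Finset.card_pair h01]; omega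
        · rw [hxM, rank_diag_sub, c2, Finset.card_compl, Fintype.card_fin, Finset.card_singleton]
          intro hd
          have := Nat.dvd_sub ha_dvd hd
          rw [Nat.sub_sub_self (by omega)] at this
          have := Nat.le_of_dvd one_pos this
          omega
    · exfalso
      have hle : orderOf (Fintype.card F : ZMod r) ≤ n := by
        have h1 : r ∣ Nat.card (GL (Fin n) F) :=
          (hΩ.trans (Subgroup.relIndex_dvd_card _ _)).trans (Subgroup.card_subgroup_dvd_card _)
        rw [Matrix.card_GL_field] at h1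
        obtain ⟨j, -, hj⟩ := (hr.prime.dvd_finsetProd_iff _).1 h1
        have hjn : (j : ℕ) < n := j.2
        have e1 : Fintype.card F ^ n - Fintype.card F ^ (j : ℕ) =
            Fintype.card F ^ (j : ℕ) * (Fintype.card F ^ (n - j) - 1) := by
          rw [Nat.mul_sub, mul_one, ← pow_add, Nat.add_sub_cancel' hjn.le]
        rw [e1, hr.dvd_mul] at hj
        rcases hj with hj | hj
        · obtain ⟨k, -, hk⟩ := FiniteField.card F p
          have := hr.dvd_of_dvd_pow hj
          rw [hk] at this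
          exact absurd ((Nat.prime_dvd_prime_iff_eq hr hp).1 (hr.dvd_of_dvd_pow this)) hrp
        · exact (Nat.le_of_dvd (by omega) ((dvd_pow_sub_one_iff Fintype.card_pos _).1 hj)).trans
            (Nat.sub_le _ _)
      have hi1 : 1 < orderOf (Fintype.card F : ZMod r) := by omega
      obtain ⟨x, hxr, hxk⟩ := exists_sl_fixed (F := F) hrp hi1
        (n - orderOf (Fintype.card F : ZMod r)) 1 (n := n) (by omega)
      let y : GL (Fin n) F := Matrix.SpecialLinearGroup.toGL x
      have hyr : (y : Matrix (Fin n) (Fin n) F) ^ r = 1 := by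
        apply Matrix.toLin'.injective
        rw [toLin'_pow', Matrix.toLin'_one]
        exact hxr
      have hrk : ((y : Matrix (Fin n) (Fin n) F) - 1).rank = orderOf (Fintype.card F : ZMod r) := by
        have h1 := LinearMap.finrank_range_add_finrank_ker
          (Matrix.toLin' (x : Matrix (Fin n) (Fin n) F) - 1)
        rw [hxk, Module.finrank_fintype_fun_eq_card, Fintype.card_fin] at h1
        change Module.finrank F (LinearMap.range ((y : Matrix (Fin n) (Fin n) F) - 1).mulVecLin) = _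
        rw [← Matrix.toLin'_apply', map_sub, Matrix.toLin'_one]
        change Module.finrank F (LinearMap.range (Matrix.toLin' (x : Matrix (Fin n) (Fin n) F) - 1)) = _
        have := Nat.eq_sub_of_add_eq h1
        rw [Nat.sub_sub_self hle] at this
        exact this
      refine no_model_of_order (e := e) (P := P) ha hlt hi1 hrF hyr hrk
        (H y (mem_specialLinear_iff.2 x.2) ⟨1, by rw [Units.val_pow_eq_pow_val, hyr, one_smul]⟩
          fun t ht => ?_)
      have htr : t ^ r = 1 := by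
        have h := hyr
        rw [ht, _root_.smul_pow, one_pow] at h
        have := congrFun (congrFun h i₀) i₀
        simpa using this
      have ht0 : t ≠ 0 := fun h => by
        rw [h, zero_pow hr.ne_zero] at htr; exact zero_ne_one htr
      have ht1 : t = 1 := by
        rw [← orderOf_eq_one_iff]
        rcases (Nat.dvd_prime hr).1 (orderOf_dvd_of_pow_eq_one htr) with h | h
        · exact h
        · refine absurd (Nat.dvd_one.1 ((dvd_pow_sub_one_iff Fintype.card_pos 1).1 ?_)) hi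
          rw [pow_one, ← h]
          exact orderOf_dvd_of_pow_eq_one (FiniteField.pow_card_sub_one_eq_one t ht0)
      rw [ht, ht1, one_smul, sub_self, Matrix.rank_zero] at hrk
      omega
  · rintro ⟨rfl, ha2, hqodd, hv⟩ x hx ⟨c, hc⟩ -
    have hp2 : p ≠ 2 := by
      rintro rfl
      obtain ⟨k, -, hk⟩ := FiniteField.card F 2
      rw [← hq, hk, Nat.odd_pow_iff k.ne_zero] at hqodd
      exact absurd hqodd (by decide)
    have h20 : (2 : F) ≠ 0 := by
      have := natCast_ne_zero_of_ne (F := F) (r := 2) (p := p) (Ne.symm hp2)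
      exact_mod_cast this
    rw [Units.val_pow_eq_pow_val] at hc
    have hxdet := mem_specialLinear_iff.1 hx
    have hc0 : c ≠ 0 := by
      rintro rfl
      have := congrArg Matrix.det hc
      have hne : Nonempty (Fin n) := ⟨i₀⟩
      rw [Matrix.det_pow, hxdet, one_pow, zero_smul, Matrix.det_zero] at this
      exact one_ne_zero this
    have hneg := pow_ne_neg_one hq h20 hv
    by_cases hsq : ∃ w : F, w ^ 2 = c
    · obtain ⟨w, rfl⟩ := hsq
      have hw : w ≠ 0 := fun h => hc0 (by rw [h, zero_pow two_ne_zero])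
      obtain ⟨k, l, hkl, hcp⟩ := charpoly_of_sq_eq_sq hc
      have hdet : (w ^ n) * (-1) ^ l = 1 := by
        conv_rhs => rw [← hxdet]
        rw [Matrix.det_eq_sign_charpoly_coeff, coeff_zero_eq_eval_zero, hcp, Fintype.card_fin]
        simp only [eval_mul, eval_pow, eval_sub, eval_X, eval_C, zero_sub, neg_neg]
        rw [← hkl, pow_add, pow_add, neg_pow w k]
        have : ((-1 : F) ^ k) * (-1) ^ k = 1 := by rw [← mul_pow]; simp
        linear_combination (-(w ^ k * w ^ l * (-1) ^ l)) * this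
      obtain ⟨l', rfl⟩ : Even l := by
        by_contra hl
        rw [(Nat.not_even_iff_odd.1 hl).neg_one_pow, mul_neg, mul_one, neg_eq_iff_eq_neg] at hdet
        exact hneg w hdet
      obtain ⟨k', rfl⟩ : Even k := by
        have : Even (k + (l' + l')) := ⟨b, by rw [hkl, hab, ha2]; ring⟩
        exact (Nat.even_add.1 this).2 ⟨l', rfl⟩
      obtain ⟨A, B, M, hM, hM2, hMcp⟩ := exists_model_square e ha2 hw (k := k') (l := l')
        (by rw [hab, ha2] at hkl; omega)
      refine exists_conj_mem (by omega) A B hM hp2 hc0 hc hM2 ?_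
      rw [hMcp, hcp, two_mul, two_mul]
    · push Not at hsq
      obtain ⟨A, B, M, hM, hM2⟩ := exists_model_nonsquare e ha2 hc0
      exact exists_conj_mem (by omega) A B hM hp2 hc0 hc hM2
        (by rw [charpoly_of_sq_eq_nonsquare hsq hM2, charpoly_of_sq_eq_nonsquare hsq hc])

end Cfsg.Agent.S5979
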