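import Cfsg.Statements.S2763
import Cfsg.Agent.Lib.Qd.Basic
import Cfsg.Agent.Lib.LocalEven.PBasic

set_option autoImplicit false
open Cfsg CfsgLib.Qd CfsgLib.LocalEven Subgroup

namespace Cfsg.Agent.S2763

variable {p : ℕ}

/-- unitriangular elements -/
def uni (s x y : ZMod p) : ↥(Cfsg.qd p) := mk 1 s 0 1 x y (by simp)

theorem uni_mul (s x y s' x' y' : ZMod p) :
    uni s x y * uni s' x' y' = uni (s + s') (x + x' + s * y') (y + y') := by
  simp only [uni, mk_mul]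
  exact mk_eq (by ring) (by ring) (by ring) (by ring) (by ring) (by ring)

theorem uni_zero : uni (p := p) 0 0 0 = 1 := mk_one

theorem uni_inv (s x y : ZMod p) : (uni s x y)⁻¹ = uni (-s) (-x + s * y) (-y) := by
  refine inv_eq_of_mul_eq_one_right ?_
  rw [uni_mul, ← uni_zero]
  congr 1 <;> ring

/-- The standard Sylow subgroup. -/
def stdSyl (p : ℕ) : Subgroup ↥(Cfsg.qd p) where
  carrier := {g | ∃ s x y, g = uni s x y}
  one_mem' := ⟨0, 0, 0, uni_zero.symm⟩
  mul_mem' := by rintro _ _ ⟨s, x, y, rfl⟩ ⟨s', x', y', rfl⟩; exact ⟨_, _, _, uni_mul ..⟩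
  inv_mem' := by rintro _ ⟨s, x, y, rfl⟩; exact ⟨_, _, _, uni_inv ..⟩

theorem uni_mem (s x y : ZMod p) : uni s x y ∈ stdSyl p := ⟨s, x, y, rfl⟩

theorem mk_mem_stdSyl {a b c d x y : ZMod p} {h} :
    mk a b c d x y h ∈ stdSyl p ↔ a = 1 ∧ c = 0 ∧ d = 1 := by
  constructor
  · rintro ⟨s, x', y', e⟩
    simp only [uni, mk_inj] at e
    exact ⟨e.1, e.2.2.1, e.2.2.2.1⟩
  · rintro ⟨rfl, rfl, rfl⟩
    exact ⟨b, x, y, rfl⟩

theorem stdSyl_isPGroup : IsPGroup p ↥(stdSyl p) := by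
  rintro ⟨_, s, x, y, rfl⟩
  refine ⟨2, Subtype.ext ?_⟩
  have hn : ∀ n : ℕ, ∃ x' y', uni s x y ^ n = uni ((n : ZMod p) * s) x' y' := by
    intro n
    induction n with
    | zero => exact ⟨0, 0, by simp [uni_zero]⟩
    | succ n ih =>
      obtain ⟨x', y', e⟩ := ih
      refine ⟨x' + x + (n : ZMod p) * s * y, y' + y, ?_⟩
      rw [pow_succ, e, uni_mul, Nat.cast_succ, add_one_mul]
  obtain ⟨x', y', e⟩ := hn p
  show uni s x y ^ p ^ 2 = 1
  rw [pow_two, pow_mul, e, ZMod.natCast_self, zero_mul]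
  exact translations_pow (tra_mem x' y')

theorem conj_uni {a b c d x y : ZMod p} {h} (s u v : ZMod p) :
    ∃ x' y', mk a b c d x y h * uni s u v * (mk a b c d x y h)⁻¹ =
      mk (1 - s * a * c) (s * a * a) (-(s * c * c)) (1 + s * a * c) x' y'
        (by ring) := by
  refine ⟨a * u + b * v + x - ((1 - s * a * c) * x + s * a * a * y),
    c * u + d * v + y - (-(s * c * c) * x + (1 + s * a * c) * y), ?_⟩
  rw [mul_inv_eq_iff_eq_mul]
  simp only [uni, mk_mul]
  exact mk_eq (by ring) (by linear_combination (-(s * a)) * h) (by ring)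
    (by linear_combination (-(s * c)) * h) (by ring) (by ring)

variable [Fact p.Prime]

theorem mk_mem_normalizer {a b c d x y : ZMod p} {h} :
    mk a b c d x y h ∈ normalizer (stdSyl p : Set ↥(Cfsg.qd p)) ↔ c = 0 := by
  constructor
  · intro hn
    have h1 := (mem_normalizer_iff.1 hn _).1 (uni_mem 1 0 0)
    obtain ⟨x', y', e⟩ := conj_uni (h := h) 1 0 0
    rw [e, mk_mem_stdSyl] at h1
    simpa using h1.2.1
  · rintro rfl
    haveI : NeZero p := ⟨(Fact.out : p.Prime).ne_zero⟩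
    rw [mem_normalizer_iff_cj]
    refine Subgroup.eq_of_le_of_card_ge ?_ (card_cj _ _).ge
    rintro _ ⟨_, ⟨s, u, v, rfl⟩, rfl⟩
    obtain ⟨x', y', e⟩ := conj_uni (h := h) s u v
    show _ * uni s u v * _ ∈ stdSyl p
    rw [e, mk_mem_stdSyl]
    simp

theorem stdSyl_maximal {P : Subgroup ↥(Cfsg.qd p)} (hP : IsPGroup p P) (hle : stdSyl p ≤ P) :
    P = stdSyl p := by
  haveI : NeZero p := ⟨(Fact.out : p.Prime).ne_zero⟩
  haveI : Group.IsNilpotent P := hP.isNilpotent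
  by_contra hne
  have hlt : stdSyl p < P := lt_of_le_of_ne hle (Ne.symm hne)
  have hlt' : (stdSyl p).subgroupOf P < ⊤ := by
    rw [lt_top_iff_ne_top, Ne, subgroupOf_eq_top]
    exact hlt.not_ge
  obtain ⟨g, hg, hgS⟩ := SetLike.exists_of_lt
    (Group.normalizerCondition_of_isNilpotent _ hlt')
  have hgN : (g : ↥(Cfsg.qd p)) ∈ normalizer (stdSyl p : Set ↥(Cfsg.qd p)) := by
    rw [mem_normalizer_iff]
    intro z
    by_cases hz : z ∈ P
    · exact mem_normalizer_iff.1 hg ⟨z, hz⟩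
    · refine ⟨fun h => absurd (hle h) hz, fun h => absurd ?_ hz⟩
      have := mul_mem (mul_mem (inv_mem g.2) (hle h)) g.2
      simpa [mul_assoc] using this
  obtain ⟨a, b, c, d, x, y, h, e⟩ := exists_eq_mk (g : ↥(Cfsg.qd p))
  rw [e, mk_mem_normalizer] at hgN
  subst hgN
  apply hgS
  rw [mem_subgroupOf, e, mk_mem_stdSyl]
  obtain ⟨k, hk⟩ := hP g
  have hpow : ∀ n : ℕ, ∃ b' d' x' y' h', mk a b 0 d x y h ^ n = mk (a ^ n) b' 0 d' x' y' h' := by
    intro n
    induction n with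
    | zero => exact ⟨0, 1, 0, 0, by simp, by rw [pow_zero, ← mk_one]; simp⟩
    | succ n ih =>
      obtain ⟨b', d', x', y', h', e'⟩ := ih
      refine ⟨a ^ n * b + b' * d, d' * d, a ^ n * x + b' * y + x', d' * y + y',
        by linear_combination (a * d) * h' + h, ?_⟩
      rw [pow_succ, e', mk_mul]
      exact mk_eq (by rw [pow_succ]; ring) (by ring) (by ring) (by ring) (by ring) (by ring)
  obtain ⟨b', d', x', y', h', e'⟩ := hpow (p ^ k)
  have hk' : (g : ↥(Cfsg.qd p)) ^ p ^ k = 1 := congrArg Subtype.val hk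
  rw [e, e', ← mk_one, mk_inj] at hk'
  have ha : a = 1 := by rw [← hk'.1, ZMod.pow_card_pow]
  exact ⟨ha, rfl, by linear_combination h + (-d) * ha⟩

theorem eq_top_of_normalizer_lt {H : Subgroup ↥(Cfsg.qd p)}
    (hH : normalizer (stdSyl p : Set ↥(Cfsg.qd p)) ≤ H) {g : ↥(Cfsg.qd p)} (hg : g ∈ H)
    (hg' : g ∉ normalizer (stdSyl p : Set ↥(Cfsg.qd p))) : H = ⊤ := by
  obtain ⟨a, b, c, d, x, y, h, rfl⟩ := exists_eq_mk g
  rw [mk_mem_normalizer] at hg'
  rw [eq_top_iff]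
  intro m _
  obtain ⟨a', b', c', d', x', y', h', rfl⟩ := exists_eq_mk m
  by_cases hc' : c' = 0
  · exact hH (mk_mem_normalizer.2 hc')
  set α := c / c' with hα
  set β := (a' - α * a) / c
  set t := (d' - c' / c * d) / c'
  have h1 : mk α β 0 (c' / c) 0 0 (by rw [hα]; field_simp; ring) ∈ H :=
    hH (mk_mem_normalizer.2 rfl)
  set m1 := mk α β 0 (c' / c) 0 0 _ * mk a b c d x y h * uni t 0 0
  have hm1 : m1 ∈ H := mul_mem (mul_mem h1 hg) (hH (le_normalizer (uni_mem _ _ _)))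
  have key : ∀ u v, mk 1 0 0 1 u v (by simp) * m1 ∈ H := fun u v =>
    mul_mem (hH (mk_mem_normalizer.2 rfl)) hm1
  obtain ⟨a1, b1, c1, d1, x1, y1, h1', e⟩ := exists_eq_mk m1
  have e' : m1 = mk a1 b1 c1 d1 x1 y1 h1' := e
  simp only [m1, uni, mk_mul, mk_inj] at e
  obtain ⟨ea, eb, ec, ed, -, -⟩ := e
  have ha : a1 = a' := by rw [← ea]; simp only [β]; field_simp; ring
  have hcc : c1 = c' := by rw [← ec]; field_simp; ring
  have hd : d1 = d' := by rw [← ed]; simp only [t]; field_simp; ring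
  have hb : b1 = b' := by
    subst ha hcc hd
    have := h1'.trans h'.symm
    refine mul_right_cancel₀ hc' ?_
    linear_combination -this
  have := key (x' - x1) (y' - y1)
  rw [e', mk_mul] at this
  convert this using 1
  exact mk_eq (by rw [ha]; ring) (by rw [hb]; ring) (by rw [hcc]; ring) (by rw [hd]; ring)
    (by ring) (by ring)

/-- the automorphism of the standard Sylow subgroup exchanging its two maximal abelian subgroups -/
noncomputable def flip (p : ℕ) [Fact p.Prime] : ↥(stdSyl p) ≃* ↥(stdSyl p) :=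
  let f : ↥(stdSyl p) → ↥(stdSyl p) := fun g =>
    ⟨uni (-(g.1.1.1 1 2)) (-(g.1.1.1 0 2) + g.1.1.1 0 1 * g.1.1.1 1 2) (-(g.1.1.1 0 1)),
      uni_mem _ _ _⟩
  have hf : ∀ g : ↥(stdSyl p), f (f g) = g := fun ⟨_, s, x, y, e⟩ => by
    subst e
    refine Subtype.ext ?_
    show uni (-(-s)) (-(-x + s * y) + -y * -s) (-(-y)) = uni s x y
    congr 1 <;> ring
  { toFun := f
    invFun := f
    left_inv := hf
    right_inv := hf
    map_mul' := fun ⟨_, s, x, y, e⟩ ⟨_, s', x', y', e'⟩ => by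
      subst e e'
      refine Subtype.ext ?_
      have e2 : (⟨uni s x y, uni_mem _ _ _⟩ : ↥(stdSyl p)) * ⟨uni s' x' y', uni_mem _ _ _⟩ =
          ⟨uni (s + s') (x + x' + s * y') (y + y'), uni_mem _ _ _⟩ := Subtype.ext (uni_mul ..)
      rw [e2]
      show uni (-(y + y')) (-(x + x' + s * y') + (s + s') * (y + y')) (-(s + s')) =
        uni (-y) (-x + s * y) (-s) * uni (-y') (-x' + s' * y') (-s')
      rw [uni_mul]
      congr 1 <;> ring }

theorem flip_uni (s x y : ZMod p) :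
    (flip p ⟨uni s x y, uni_mem _ _ _⟩ : ↥(Cfsg.qd p)) = uni (-y) (-x + s * y) (-s) := rfl

theorem core_step {T : Subgroup ↥(Cfsg.qd p)} (hle : T ≤ stdSyl p) (hne : T ≠ ⊥)
    (hN : normalizer (stdSyl p : Set ↥(Cfsg.qd p)) ≤ normalizer (T : Set ↥(Cfsg.qd p)))
    (hflip : ∀ z (hz : z ∈ T), (flip p ⟨z, hle hz⟩ : ↥(Cfsg.qd p)) ∈ T) :
    normalizer (T : Set ↥(Cfsg.qd p)) = normalizer (stdSyl p : Set ↥(Cfsg.qd p)) := by
  refine le_antisymm (fun g hg => by_contra fun hg' => ?_) hN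
  have htop := eq_top_of_normalizer_lt hN hg hg'
  haveI : T.Normal := normalizer_eq_top_iff.1 htop
  have htr : T ≤ translations p := by
    intro z hz
    obtain ⟨s, x, y, rfl⟩ := hle hz
    have h2 := hle (Normal.conj_mem inferInstance _ hz
      (mk 0 (-1) 1 0 0 0 (by simp) : ↥(Cfsg.qd p)))
    obtain ⟨x', y', e⟩ := conj_uni (a := 0) (b := -1) (c := 1) (d := 0) (x := 0) (y := 0)
      (h := by simp) s x y
    rw [e, mk_mem_stdSyl] at h2
    have hs : s = 0 := by simpa using h2.2.1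
    subst hs
    exact tra_mem x y
  have hall := translations_le_of_invariant htr hne
    (fun z hz => Normal.conj_mem inferInstance z hz _) (fun z hz => Normal.conj_mem inferInstance z hz _)
  have hmem : uni (0 : ZMod p) 0 1 ∈ T := hall (tra_mem 0 1)
  have h3 := htr (hflip _ hmem)
  rw [flip_uni] at h3
  obtain ⟨u, v, e⟩ := h3
  simp only [uni, tra, mk_inj] at e
  simpa using e.2.1

/-- In the group Qd(p) (p prime; the natural semidirect product of an elementary abelian group of order p² by SL₂(p)), the normalizer of every nontrivial characteristic subgroup of a Sylow p-subgroup S equals the normalizer of S, which is a proper subgroup; in particular no such characteristic subgroup is normal. -/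
theorem result {p : ℕ} [Fact p.Prime] (S : Sylow p ↥(Cfsg.qd p)) (T : Subgroup ↥(S : Subgroup ↥(Cfsg.qd p))) (hT : T ≠ ⊥) (hTc : T.Characteristic) : Subgroup.normalizer ((T.map (S : Subgroup ↥(Cfsg.qd p)).subtype : Subgroup ↥(Cfsg.qd p)) : Set ↥(Cfsg.qd p)) = Subgroup.normalizer ((S : Subgroup ↥(Cfsg.qd p)) : Set ↥(Cfsg.qd p)) ∧ Subgroup.normalizer ((S : Subgroup ↥(Cfsg.qd p)) : Set ↥(Cfsg.qd p)) ≠ ⊤ := by
  haveI : NeZero p := ⟨(Fact.out : p.Prime).ne_zero⟩
  obtain ⟨P, hP⟩ := (stdSyl_isPGroup (p := p)).exists_le_sylow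
  have hP' : (P : Subgroup ↥(Cfsg.qd p)) = stdSyl p := stdSyl_maximal P.isPGroup' hP
  obtain ⟨g, rfl⟩ := MulAction.exists_smul_eq ↥(Cfsg.qd p) P S
  set Q := T.map ((g • P : Sylow p ↥(Cfsg.qd p)) : Subgroup ↥(Cfsg.qd p)).subtype
  have hS : ((g • P : Sylow p ↥(Cfsg.qd p)) : Subgroup ↥(Cfsg.qd p)) = cj g (stdSyl p) := by
    rw [← hP']; rfl
  have hchar : ∀ f : ↥((g • P : Sylow p ↥(Cfsg.qd p)) : Subgroup ↥(Cfsg.qd p)) ≃* _, ∀ z ∈ T,
      f z ∈ T := fun f z hz =>
    (characteristic_iff_map_eq.1 hTc f).le (mem_map_of_mem f.toMonoidHom hz)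
  have hNQ : ∀ h ∈ normalizer (((g • P : Sylow p ↥(Cfsg.qd p)) : Subgroup ↥(Cfsg.qd p)) :
      Set ↥(Cfsg.qd p)), h ∈ normalizer (Q : Set ↥(Cfsg.qd p)) := by
    intro h hh
    rw [mem_normalizer_iff_cj]
    refine Subgroup.eq_of_le_of_card_ge ?_ (card_cj _ _).ge
    rintro _ ⟨_, ⟨z, hz, rfl⟩, rfl⟩
    exact ⟨_, hchar (((MulAut.conj h).subgroupMap _).trans
      (MulEquiv.subgroupCongr (mem_normalizer_iff_cj.1 hh))) z hz, rfl⟩
  set T0 := cj g⁻¹ Q with hT0
  have hT0le : T0 ≤ stdSyl p := by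
    rw [hT0, show stdSyl p = cj g⁻¹ (cj g (stdSyl p)) by rw [cj_cj, inv_mul_cancel, cj_one]]
    refine map_mono ?_
    rw [← hS]
    exact map_subtype_le _
  have hconj : ∀ {H : Subgroup ↥(Cfsg.qd p)} {h : ↥(Cfsg.qd p)},
      h ∈ normalizer (cj g H : Set ↥(Cfsg.qd p)) ↔ g⁻¹ * h * g ∈ normalizer (H : Set ↥(Cfsg.qd p)) := by
    intro H h
    rw [mem_normalizer_iff_cj, mem_normalizer_iff_cj, cj_cj]
    constructor
    · intro hh
      rw [mul_assoc, ← cj_cj g⁻¹, hh, cj_cj, inv_mul_cancel, cj_one]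
    · intro hh
      conv_rhs => rw [← hh]
      rw [cj_cj, show g * (g⁻¹ * h * g) = h * g by group]
  have hQ : Q = cj g T0 := by rw [hT0, cj_cj, mul_inv_cancel, cj_one]
  have key : normalizer (T0 : Set ↥(Cfsg.qd p)) = normalizer (stdSyl p : Set ↥(Cfsg.qd p)) := by
    refine core_step hT0le (fun hb => hT ?_) (fun h hh => ?_) (fun z hz => ?_)
    · have : Q = ⊥ := by rw [hQ, hb]; exact map_bot _
      exact (map_eq_bot_iff_of_injective _ (Subgroup.subtype_injective _)).1 this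
    · have h1 : g * h * g⁻¹ ∈ normalizer (((g • P : Sylow p ↥(Cfsg.qd p)) : Subgroup ↥(Cfsg.qd p)) :
          Set ↥(Cfsg.qd p)) := by
        rw [hS, hconj]; convert hh using 1; group
      have h2 := hNQ _ h1
      rw [hQ, hconj] at h2
      convert h2 using 1; group
    · let e : ↥(stdSyl p) ≃* ↥((g • P : Sylow p ↥(Cfsg.qd p)) : Subgroup ↥(Cfsg.qd p)) :=
        ((MulAut.conj g).subgroupMap (stdSyl p)).trans (MulEquiv.subgroupCongr hS.symm)
      obtain ⟨w, ⟨v, hv, hvw⟩, hwz⟩ := hz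
      have hev : e.symm v = ⟨z, hT0le ⟨w, ⟨v, hv, hvw⟩, hwz⟩⟩ := by
        rw [MulEquiv.symm_apply_eq]
        refine Subtype.ext ?_
        show (v : ↥(Cfsg.qd p)) = g * z * g⁻¹
        rw [← hwz, ← hvw]
        simp [mul_assoc]
      have h1 := hchar ((e.symm.trans (flip p)).trans e) v hv
      simp only [MulEquiv.trans_apply, hev] at h1
      refine ⟨_, mem_map_of_mem _ h1, ?_⟩
      show g⁻¹ * (g * _ * g⁻¹) * g⁻¹⁻¹ = _
      group
  refine ⟨le_antisymm (fun h hh => ?_) hNQ, fun htop => ?_⟩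
  · rw [hQ, hconj, key] at hh
    rw [hS, hconj]
    exact hh
  · have h1 : g * lo 1 * g⁻¹ ∈ normalizer (cj g (stdSyl p) : Set ↥(Cfsg.qd p)) := by
      rw [← hS, htop]; trivial
    rw [hconj, show g⁻¹ * (g * lo 1 * g⁻¹) * g = lo 1 by group] at h1
    exact one_ne_zero (mk_mem_normalizer.1 h1)

end Cfsg.Agent.S2763
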