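import Cfsg.Statements.S2803
import Cfsg.Agent.Lib.LocalEven.PReduced
import Mathlib.Tactic.Group

set_option autoImplicit false
open Cfsg CfsgLib.LocalEven

namespace Cfsg.Agent.S2803

/-- Let L be a finite group and p a prime with C_L(O_p(L)) ≤ O_p(L), T a Sylow p-subgroup, and Y the largest p-reduced normal subgroup of L. Put T_L = C_T(Y) and L_T = N_L(T_L). Then L = L_T · C_L(Y) (elementwise), T_L = O_p(L_T), and Y = Ω₁(Z(T_L)). -/
theorem result {L : Type*} [Group L] [Finite L] {p : ℕ} [Fact p.Prime] (hchar : Subgroup.centralizer (Cfsg.pCore p L : Set L) ≤ Cfsg.pCore p L) (T : Sylow p L) (Y : Subgroup L) (hY : (Cfsg.IsPReducedNormal p Y ∧ ∀ V : Subgroup L, Cfsg.IsPReducedNormal p V → V ≤ Y)) (TL : Subgroup L) (hTL : TL = (T : Subgroup L) ⊓ Subgroup.centralizer (Y : Set L)) : (∀ g : L, ∃ a ∈ Subgroup.normalizer (TL : Set L), ∃ c ∈ Subgroup.centralizer (Y : Set L), g = a * c) ∧ (Cfsg.pCore p ↥(Subgroup.normalizer (TL : Set L))).map (Subgroup.normalizer (TL : Set L)).subtype = TL ∧ Y = Cfsg.omegaOne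 p (TL ⊓ Subgroup.centralizer (TL : Set L)) := by
  obtain ⟨hY, hmax⟩ := hY
  haveI := pCore_normal' p L
  have hC : (Subgroup.centralizer (Y : Set L)).Normal :=
    haveI := hY.1; Subgroup.normal_centralizer
  set C := Subgroup.centralizer (Y : Set L) with hCdef
  have hPT : pCore p L ≤ (T : Subgroup L) := (pCore_isPGroup' L).le_sylow_of_normal T
  have hPTL : pCore p L ≤ TL := hTL ▸ le_inf hPT (pCore_le_centralizer hY)
  have hYTL : Y ≤ TL := (pReduced_le_pCore hY).trans hPTL
  -- `T ∩ C` is a Sylow subgroup of `C`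
  have hsyl : IsSylOf p TL C := by
    obtain ⟨U, hU, hTU⟩ := exists_isSylOf_ge (p := p) (H := C)
      (T.isPGroup'.to_le (hTL ▸ inf_le_left)) (hTL ▸ inf_le_right)
    obtain ⟨S, hS⟩ := hU.isPGroup.exists_le_sylow
    obtain ⟨g, hg⟩ := MulAction.exists_smul_eq L S T
    have hgU : cj g U ≤ TL := by
      rw [hTL]
      refine le_inf ?_ ?_
      · rw [← hg]
        rintro _ ⟨u, hu, rfl⟩
        exact ⟨u, hS hu, rfl⟩
      · rintro _ ⟨u, hu, rfl⟩
        exact hC.conj_mem u (hU.1 hu) g
    have : TL = U := Subgroup.eq_of_le_of_card_ge hTU (by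
      rw [← card_cj g U]
      exact Subgroup.card_le_of_le hgU)
    exact this ▸ hU
  have hfrat : ∀ g : L, ∃ a ∈ Subgroup.normalizer (TL : Set L), ∃ c ∈ C, g = a * c := by
    intro g
    have h' := hsyl.cj g
    rw [show cj g C = C from mem_normalizer_iff_cj.1
      (Subgroup.normalizer_eq_top (H := C) ▸ Subgroup.mem_top g)] at h'
    obtain ⟨c, hc, hce⟩ := h'.exists_conj hsyl
    refine ⟨c * g, ?_, (c * g)⁻¹ * g, ?_, (mul_inv_cancel_left _ _).symm⟩
    · rw [mem_normalizer_iff_cj, ← cj_cj, hce]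
    · rw [mul_inv_rev, mul_assoc]
      simpa [mul_assoc] using hC.conj_mem _ (inv_mem hc) g⁻¹
  refine ⟨hfrat, ?_, ?_⟩
  · set A := Subgroup.normalizer (TL : Set L) with hA
    apply le_antisymm
    · set P := (pCore p ↥A).map A.subtype with hP
      have hPA : P ≤ A := Subgroup.map_subtype_le _
      have hPp : IsPGroup p P := (pCore_isPGroup' _).map _
      have hNn : (P ⊔ C).Normal := by
        refine Subgroup.normalizer_eq_top_iff.1 (top_le_iff.1 fun g _ => ?_)
        obtain ⟨a, ha, c, hc, rfl⟩ := hfrat g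
        refine mul_mem ?_ (Subgroup.le_normalizer (Subgroup.mem_sup_right hc))
        rw [mem_normalizer_iff_cj, cj, Subgroup.map_sup]
        congr 1
        · exact mem_normalizer_iff_cj.1 (le_normalizer_pCoreOf A ha)
        · exact mem_normalizer_iff_cj.1 (Subgroup.normalizer_eq_top (H := C) ▸ Subgroup.mem_top a)
      have hm : IsPMod p C (P ⊔ C) := by
        rw [isPMod_iff_map, Subgroup.map_sup,
          (Subgroup.map_eq_bot_iff _).2 (QuotientGroup.ker_mk' C).ge, sup_bot_eq]
        exact hPp.map _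
      have hPC : P ≤ C := le_sup_left.trans (pReduced_le_centralizer hY hNn hm)
      have h := hsyl.of_isPGroup_ge (hPp.to_sup_of_normal_right' hsyl.isPGroup hPA)
        le_sup_right (sup_le hPC hsyl.1)
      rw [← h]
      exact le_sup_left
    · intro t ht
      refine ⟨⟨t, Subgroup.le_normalizer ht⟩, ?_, rfl⟩
      exact le_pCore' (Subgroup.normal_subgroupOf_iff_le_normalizer Subgroup.le_normalizer |>.2 le_rfl)
        hsyl.isPGroup.comap_subtype ht
  · set W := omegaOne p (TL ⊓ Subgroup.centralizer (TL : Set L)) with hW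
    apply le_antisymm
    · intro y hy
      refine Subgroup.subset_closure ⟨⟨hYTL hy, fun t ht => ?_⟩, hY.2.1.2 y hy⟩
      exact ((hsyl.1 ht) y hy).symm
    · have hWTL : W ≤ TL := (omegaOne_le _).trans inf_le_left
      have hWc : TL ≤ Subgroup.centralizer (W : Set L) :=
        Subgroup.le_centralizer_iff.1 ((omegaOne_le _).trans inf_le_right)
      have hWP : W ≤ pCore p L := fun w hw =>
        hchar fun z hz => (hWc (hPTL hz) w hw).symm
      have hpow : ∀ w ∈ W, w ^ p = 1 := by
        intro w hw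
        suffices w ∈ TL ⊓ Subgroup.centralizer (TL : Set L) ∧ w ^ p = 1 from this.2
        induction hw using Subgroup.closure_induction with
        | mem x hx => exact hx
        | one => exact ⟨one_mem _, one_pow p⟩
        | mul a b _ _ ha hb =>
          exact ⟨mul_mem ha.1 hb.1, by
            rw [(show Commute a b from hb.1.2 a ha.1.1).mul_pow, ha.2, hb.2, one_mul]⟩
        | inv a _ ha => exact ⟨inv_mem ha.1, by rw [inv_pow, ha.2, inv_one]⟩
      have hYW : Y ≤ W := fun y hy =>
        Subgroup.subset_closure ⟨⟨hYTL hy, fun t ht => ((hsyl.1 ht) y hy).symm⟩, hY.2.1.2 y hy⟩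
      have hV := pReduced_normalClosure_aux T hWP (hPTL.trans hWc) hpow fun N hN _ hm => by
        have hNC : N ≤ C := pReduced_le_centralizer hY hN fun x hx => by
          obtain ⟨k, hk⟩ := hm x hx
          exact ⟨k, Subgroup.centralizer_le
            (hYW.trans Subgroup.le_normalClosure) hk⟩
        exact le_trans (hTL ▸ inf_le_inf_left _ hNC) hWc
      exact Subgroup.le_normalClosure.trans (hmax _ hV)

end Cfsg.Agent.S2803
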