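import Cfsg.Statements.S2824
import Cfsg.Agent.Lib.LocalStr.PReduced
import Mathlib.Tactic.Group
-- import your own Cfsg.Agent.* helpers here

set_option autoImplicit false
open Cfsg

set_option autoImplicit false
set_option linter.style.haveILetI false

namespace Cfsg.Agent.S2824
open Subgroup CfsgLib CfsgLib.LocalStr
open CfsgLib.LocalEven (IsSylOf omegaZ)
open scoped commutatorElement


/-- Let H be a finite group, p a prime, T a Sylow p-subgroup, L and M subgroups of characteristic p containing T, Y_L the largest p-reduced normal subgroup of L and T₀ = C_T(Y_L). If M·C_H(Y_L) = L·C_H(Y_L), then L* := N_M(T₀) has Y_{L*} = Y_L and L·C_H(Y_L) = L*·C_H(Y_L). -/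
theorem result {H : Type*} [Group H] [Finite H] {p : ℕ} [Fact p.Prime] (T : Sylow p H) (L M : Subgroup H) (hTL : (T : Subgroup H) ≤ L) (hTM : (T : Subgroup H) ≤ M) (hL : Subgroup.centralizer (Cfsg.pCore p ↥L : Set ↥L) ≤ Cfsg.pCore p ↥L) (hM : Subgroup.centralizer (Cfsg.pCore p ↥M : Set ↥M) ≤ Cfsg.pCore p ↥M) (T₀ : Subgroup H) (hT₀ : T₀ = (T : Subgroup H) ⊓ Subgroup.centralizer (((Cfsg.largestPReducedOf p L) : Subgroup H) : Set H)) (hfac : M ⊔ Subgroup.centralizer (((Cfsg.largestPReducedOf p L) : Subgroup H) : Set H) = L ⊔ Subgroup.centralizer (((Cfsg.largestPReducedOf p L) : Subgroup H) : Set H)) (Ls : Subgroup H) (hLs : Ls = M ⊓ Subgroup.normalizer ((T₀ : Subgroup H) : Set H)) : (Cfsg.largestPReducedOf p Ls) = (Cfsg.largestPReducedOf p L) ∧ L ⊔ Subgroup.centralizer (((Cfsg.largestPReducedOf p L) : Subgroup H) : Set H) = Ls ⊔ Subgroup.centralizer (((Cfsg.largestPReducedOf p L) : Subgroup H) : Set H) := by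
  subst hLs
  set Y := largestPReducedOf p L with hY
  set C := centralizer (Y : Set H) with hC
  have hTs : IsSylOf p (T : Subgroup H) L := (sylow_isSylOf_top T).of_le hTL le_top
  have hYr := pRedIn_largest (p := p) L
  have hS : IsSylOf p T₀ C := hT₀ ▸ inf_centralizer_isSylOf T (hTL.trans hYr.norm)
  have hXY : L ⊔ C ≤ normalizer (Y : Set H) := sup_le hYr.norm (centralizer_le_normalizer _)
  have hMC : M ≤ normalizer (C : Set H) :=
    (le_sup_left.trans hfac.le).trans (hXY.trans (LocalEven.le_normalizer_centralizer' le_rfl))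
  have hT0M : T₀ ≤ M := hT₀ ▸ inf_le_left.trans hTM
  have hMle : M ≤ (M ⊓ normalizer (T₀ : Set H)) ⊔ C := by
    intro m hm
    have h1 : IsSylOf p T₀ (C ⊓ M) := hS.of_le (le_inf hS.1 hT0M) inf_le_left
    have h2 : IsSylOf p (T₀.map (MulAut.conj m).toMonoidHom) (C ⊓ M) := by
      have := h1.cj m
      have e : LocalEven.cj m (C ⊓ M) = C ⊓ M := map_conj_eq_iff.mpr
        (LocalEven.le_normalizer_inf hMC le_normalizer hm)
      rwa [e] at this
    obtain ⟨c, hc, hc'⟩ := h2.exists_conj h1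
    have h3 : c * m ∈ normalizer (T₀ : Set H) := map_conj_eq_iff.mp (by
      rw [← map_conj_conj]; exact hc')
    rw [show m = c⁻¹ * (c * m) by group]
    exact mul_mem (mem_sup_right (inv_mem hc.1)) (mem_sup_left ⟨mul_mem hc.2 hm, h3⟩)
  have hfac2 : L ⊔ C = (M ⊓ normalizer (T₀ : Set H)) ⊔ C := by
    refine le_antisymm ?_ (sup_le (inf_le_left.trans (le_sup_left.trans hfac.le)) le_sup_right)
    rw [← hfac]
    exact sup_le hMle le_sup_right
  refine ⟨le_antisymm ?_ ?_, hfac2⟩
  · set Ls := M ⊓ normalizer (T₀ : Set H) with hLs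
    have hTN : (T : Subgroup H) ≤ normalizer (T₀ : Set H) := hT₀ ▸ LocalEven.le_normalizer_inf
      le_normalizer (LocalEven.le_normalizer_centralizer' (hTL.trans hYr.norm))
    have hTLs : (T : Subgroup H) ≤ Ls := le_inf hTM hTN
    have hs := pRedIn_largest (p := p) Ls
    have hT0O : T₀ ≤ pCoreOf p Ls :=
      le_pCoreOf (le_inf hT0M le_normalizer) inf_le_right hS.isPGroup
    have hsc : largestPReducedOf p Ls ≤ centralizer (T₀ : Set H) :=
      le_centralizer_iff.mp (hT0O.trans hs.pCoreOf_le_centralizer)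
    have hYT0 : Y ≤ T₀ := hT₀ ▸ le_inf (hYr.le_pCoreOf.trans hTs.pCoreOf_le)
      (hYr.le_pCoreOf.trans hYr.pCoreOf_le_centralizer)
    have hsT0 : largestPReducedOf p Ls ≤ T₀ := by
      rw [hT₀]
      exact le_inf (hs.le_pCoreOf.trans ((sylow_isSylOf_top T).of_le hTLs le_top).pCoreOf_le)
        (hsc.trans (centralizer_le (SetLike.coe_subset_coe.mpr hYT0)))
    intro y hy
    rw [hY, largest_eq_omegaZ T hTL hL, ← hY, ← hC, ← hT₀]
    exact LocalEven.mem_omegaZ (hsT0 hy) (hsc hy) (hs.elem.2 y hy)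
  · refine le_largest (hYr.transfer ?_ hfac2.symm)
    have hYT0 : Y ≤ T₀ := hT₀ ▸ le_inf (hYr.le_pCoreOf.trans hTs.pCoreOf_le)
      (hYr.le_pCoreOf.trans hYr.pCoreOf_le_centralizer)
    exact le_inf (hYT0.trans hT0M) (hYT0.trans le_normalizer)

end Cfsg.Agent.S2824
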