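import Cfsg.Statements.S3224
import Cfsg.Agent.Lib.InvChar.OneInvolution
import Cfsg.Agent.Lib.TwoFusion.DihedralIso

set_option autoImplicit false
open Cfsg

namespace Cfsg.Agent.S3224

variable {S : Type*} [Group S] [Finite S]

theorem exists_central_involution (hS : IsPGroup 2 S) [Nontrivial S] :
    ∃ z : S, orderOf z = 2 ∧ ∀ g : S, g * z = z * g := by
  have : Fact (Nat.Prime 2) := ⟨Nat.prime_two⟩
  have hc : Nontrivial ↥(Subgroup.center S) := hS.center_nontrivial
  rcases (hS.to_subgroup (Subgroup.center S)).card_eq_or_dvd with h | h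
  · exact absurd h (by have := Finite.one_lt_card (α := ↥(Subgroup.center S)); omega)
  obtain ⟨z, hz⟩ := exists_prime_orderOf_dvd_card' (G := ↥(Subgroup.center S)) 2 h
  exact ⟨z, by rw [Subgroup.orderOf_coe, hz], fun g => Subgroup.mem_center_iff.mp z.2 g⟩

/-- The centraliser is the four-group generated by `x` and a central involution. -/
theorem mem_centralizer_four {x z : S} (hx : orderOf x = 2) (hz : orderOf z = 2)
    (hzc : ∀ g : S, g * z = z * g) (hne : z ≠ x)
    (hC : Nat.card ↥(Subgroup.centralizer ({x} : Set S)) = 4) {g : S} (hg : g * x = x * g) :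
    g = 1 ∨ g = x ∨ g = z ∨ g = x * z := by
  have hxx : x * x = 1 := by rw [← pow_two, ← hx]; exact pow_orderOf_eq_one x
  have hzz : z * z = 1 := by rw [← pow_two, ← hz]; exact pow_orderOf_eq_one z
  have hx1 : x ≠ 1 := fun h => by rw [h, orderOf_one] at hx; omega
  have hz1 : z ≠ 1 := fun h => by rw [h, orderOf_one] at hz; omega
  have hxz1 : x * z ≠ 1 := fun h => hne (by
    rw [← inv_eq_of_mul_eq_one_right hxx, ← inv_eq_of_mul_eq_one_right h])
  by_contra hcon
  push Not at hcon
  obtain ⟨h1, h2, h3, h4⟩ := hcon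
  let C := Subgroup.centralizer ({x} : Set S)
  have mem : ∀ a : S, a * x = x * a → a ∈ C := fun a ha => Subgroup.mem_centralizer_singleton_iff.mpr ha
  let f : Fin 5 → ↥C := ![1, ⟨x, mem x rfl⟩, ⟨z, mem z (hzc x).symm⟩,
    ⟨x * z, mem _ (by rw [mul_assoc, ← hzc x])⟩, ⟨g, mem g hg⟩]
  have hf : Function.Injective f := by
    have n1 : x * z ≠ x := by simp [hz1]
    have n2 : x * z ≠ z := by simp [hx1]
    intro i j hij
    fin_cases i <;> fin_cases j <;>
      simp [f, Subtype.ext_iff, hx1, hz1, hxz1, hne, n1, n2, h1, h2, h3, h4, Ne.symm hx1, Ne.symm hz1,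
        Ne.symm hxz1, Ne.symm hne, Ne.symm n1, Ne.symm n2, Ne.symm h1, Ne.symm h2, Ne.symm h3,
        Ne.symm h4] at hij ⊢
  have := Nat.card_le_card_of_injective f hf
  rw [Nat.card_fin] at this
  have hC' : Nat.card ↥C = 4 := hC
  omega

/-- Such a group has a cyclic subgroup of index two. -/
theorem exists_cyclic_index_two.{u} :
    ∀ (n : ℕ) (S : Type u) [Group S] [Finite S], Nat.card S = n → IsPGroup 2 S →
      ∀ x : S, orderOf x = 2 → Nat.card ↥(Subgroup.centralizer ({x} : Set S)) = 4 →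
      ∃ r : S, (Subgroup.zpowers r).index = 2 := by
  intro n
  induction n using Nat.strong_induction_on with
  | _ n ih =>
  intro S _ _ hn hS x hx hC
  have : Fact (Nat.Prime 2) := ⟨Nat.prime_two⟩
  obtain ⟨m, hm⟩ := IsPGroup.iff_card.mp hS
  have hxx : x * x = 1 := by rw [← pow_two, ← hx]; exact pow_orderOf_eq_one x
  have hdvd : 4 ∣ Nat.card S := hC ▸ Subgroup.card_subgroup_dvd_card _
  have hidx : ∀ r : S, 2 * orderOf r = Nat.card S → (Subgroup.zpowers r).index = 2 := by
    intro r hr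
    have h1 := (Subgroup.zpowers r).card_mul_index
    rw [Nat.card_zpowers, ← hr, mul_comm 2] at h1
    exact Nat.eq_of_mul_eq_mul_left (orderOf_pos r) h1
  have hm2 : 2 ≤ m := by
    have := Nat.le_of_dvd Nat.card_pos hdvd
    rw [hm] at this
    by_contra h
    have : 2 ^ m ≤ 2 ^ 1 := Nat.pow_le_pow_right (by norm_num) (by omega)
    omega
  rcases Nat.lt_or_ge m 4 with hm4 | hm4
  · rcases (show m = 2 ∨ m = 3 by omega) with rfl | rfl
    · exact ⟨x, hidx x (by rw [hx, hm]; norm_num)⟩
    · -- some element has order four, as the group is not abelian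
      have hex : ∃ r : S, orderOf r = 4 := by
        by_contra hcon
        push Not at hcon
        have hsq : ∀ g : S, g * g = 1 := by
          intro g
          obtain ⟨i, hi⟩ := IsPGroup.iff_orderOf.mp hS g
          have hle : i ≤ 3 := by
            have h := orderOf_dvd_natCard g
            rw [hi, hm] at h
            exact Nat.pow_dvd_pow_iff_le_right one_lt_two |>.mp h
          rcases (show i = 0 ∨ i = 1 ∨ i = 2 ∨ i = 3 by omega) with rfl | rfl | rfl | rfl
          · rw [pow_zero, orderOf_eq_one_iff] at hi; rw [hi, mul_one]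
          · rw [← pow_two, show (2 : ℕ) = orderOf g by rw [hi, pow_one], pow_orderOf_eq_one]
          · exact absurd hi (hcon g)
          · refine absurd ?_ (hcon (g * g))
            rw [← pow_two, orderOf_pow_of_dvd two_ne_zero (hi ▸ dvd_pow_self 2 (by norm_num)), hi]
            norm_num
        have htop : Subgroup.centralizer ({x} : Set S) = ⊤ := by
          rw [eq_top_iff]
          intro g _
          rw [Subgroup.mem_centralizer_singleton_iff]
          calc g * x = g⁻¹ * x⁻¹ := by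
                rw [inv_eq_of_mul_eq_one_right (hsq g), inv_eq_of_mul_eq_one_right hxx]
            _ = (x * g)⁻¹ := (mul_inv_rev _ _).symm
            _ = x * g := inv_eq_of_mul_eq_one_right (hsq _)
        rw [htop, Subgroup.card_top, hm] at hC
        omega
      obtain ⟨r, hr⟩ := hex
      exact ⟨r, hidx r (by rw [hr, hm]; norm_num)⟩
  -- now the group has order at least 16
  have h16 : 16 ≤ Nat.card S := by
    rw [hm]
    calc 16 = 2 ^ 4 := rfl
      _ ≤ _ := Nat.pow_le_pow_right (by norm_num) hm4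
  have hnt : Nontrivial S := Finite.one_lt_card_iff_nontrivial.mp (by omega)
  obtain ⟨z, hz, hzc⟩ := exists_central_involution hS
  have hzz : z * z = 1 := by rw [← pow_two, ← hz]; exact pow_orderOf_eq_one z
  have hz1 : z ≠ 1 := fun h => by rw [h, orderOf_one] at hz; omega
  have hne : z ≠ x := by
    rintro rfl
    have : Subgroup.centralizer ({z} : Set S) = ⊤ :=
      eq_top_iff.mpr fun g _ => Subgroup.mem_centralizer_singleton_iff.mpr (hzc g)
    rw [this, Subgroup.card_top] at hC
    omega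
  have hfour := fun {g : S} => mem_centralizer_four hx hz hzc hne hC (g := g)
  set Z := Subgroup.zpowers z with hZ
  have hZn : Z.Normal := ⟨fun a ha g => by
    obtain ⟨i, rfl⟩ := Subgroup.mem_zpowers_iff.mp ha
    have : g * z ^ i = z ^ i * g := ((show Commute g z from hzc g).zpow_right i).eq
    rw [this, mul_inv_cancel_right]
    exact Subgroup.zpow_mem _ (Subgroup.mem_zpowers z) i⟩
  have hZmem : ∀ a ∈ Z, a = 1 ∨ a = z := by
    intro a ha
    obtain ⟨i, rfl⟩ := Subgroup.mem_zpowers_iff.mp ha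
    rcases Int.even_or_odd i with ⟨j, rfl⟩ | ⟨j, rfl⟩
    · left; rw [zpow_add, ← (Commute.refl z).mul_zpow, hzz, one_zpow]
    · right; rw [zpow_add, zpow_mul, zpow_two, hzz, one_zpow, one_mul, zpow_one]
  have hxZ : x ∉ Z := by
    intro h
    rcases hZmem x h with h | h
    · rw [h, orderOf_one] at hx; omega
    · exact hne h.symm
  -- the centraliser of the image of `x`
  set C := Subgroup.centralizer ({x} : Set S) with hCdef
  set C' := Subgroup.centralizer ({(x : S ⧸ Z)} : Set (S ⧸ Z)) with hC'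
  set K := C'.comap (QuotientGroup.mk' Z) with hK
  have hKmem : ∀ g : S, g ∈ K ↔ g * x * g⁻¹ = x ∨ g * x * g⁻¹ = x * z := by
    intro g
    rw [hK, Subgroup.mem_comap, hC', Subgroup.mem_centralizer_singleton_iff]
    show (g : S ⧸ Z) * x = x * g ↔ _
    rw [← mul_inv_eq_iff_eq_mul, ← QuotientGroup.mk_mul, ← QuotientGroup.mk_inv, ← QuotientGroup.mk_mul]
    constructor
    · intro h
      rcases hZmem _ (QuotientGroup.eq.mp h.symm) with h1 | h1
      · left; exact (inv_mul_eq_one.mp h1).symm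
      · right; exact (inv_mul_eq_iff_eq_mul.mp h1)
    · intro h
      rcases h with h | h <;> rw [h]
      rw [QuotientGroup.mk_mul, (QuotientGroup.eq_one_iff z).mpr (Subgroup.mem_zpowers z), mul_one]
  have hCK : C ≤ K := fun g hg => (hKmem g).mpr (Or.inl (by
    rw [Subgroup.mem_centralizer_singleton_iff] at hg; rw [hg, mul_inv_cancel_right]))
  have hCtop : C ≠ ⊤ := by
    intro h; rw [h, Subgroup.card_top] at hC; omega
  have hnil : Group.IsNilpotent S := hS.isNilpotent
  obtain ⟨g, hgN, hgC⟩ := SetLike.exists_of_lt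
    (Group.normalizerCondition_of_isNilpotent C (lt_top_iff_ne_top.mpr hCtop))
  have hg : g * x * g⁻¹ = x * z := by
    have h1 : g * x * g⁻¹ ∈ C := (Subgroup.mem_normalizer_iff.mp hgN x).mp
      (Subgroup.mem_centralizer_singleton_iff.mpr rfl)
    rcases hfour (Subgroup.mem_centralizer_singleton_iff.mp h1) with h | h | h | h
    · rw [mul_inv_eq_one] at h
      exfalso
      exact absurd (mul_left_cancel (h.trans (mul_one g).symm)) (fun h' => by rw [h', orderOf_one] at hx; omega)
    · exact absurd (Subgroup.mem_centralizer_singleton_iff.mpr (mul_inv_eq_iff_eq_mul.mp h)) hgC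
    · exfalso
      apply hne
      have h2 := congrArg (fun a => g⁻¹ * a * g) h
      simp only [mul_assoc, inv_mul_cancel, mul_one, inv_mul_cancel_left] at h2
      rw [h2, ← hzc g, inv_mul_cancel_left]
    · exact h
  have hgK : g ∈ K := (hKmem g).mpr (Or.inr hg)
  have hrel : (C.subgroupOf K).index = 2 := by
    rw [Subgroup.index_eq_two_iff]
    refine ⟨⟨g, hgK⟩, fun ⟨b, hb⟩ => ?_⟩
    simp only [Subgroup.mem_subgroupOf, Subgroup.coe_mul]
    by_cases hbC : b ∈ C
    · exact Or.inr ⟨hbC, fun h => hgC ((Subgroup.mul_mem_cancel_left _ hbC).mp h)⟩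
    · refine Or.inl ⟨?_, hbC⟩
      rw [Subgroup.mem_centralizer_singleton_iff, ← mul_inv_eq_iff_eq_mul]
      rcases (hKmem b).mp hb with h | h
      · exact absurd (Subgroup.mem_centralizer_singleton_iff.mpr (mul_inv_eq_iff_eq_mul.mp h)) hbC
      · calc b * g * x * (b * g)⁻¹ = b * (g * x * g⁻¹) * b⁻¹ := by simp [mul_assoc]
          _ = (b * x * b⁻¹) * (b * z * b⁻¹) := by rw [hg]; simp [mul_assoc]
          _ = x := by rw [h, hzc b, mul_inv_cancel_right, mul_assoc, hzz, mul_one]
  have hcardK : Nat.card ↥K = 8 := by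
    have h1 := (C.subgroupOf K).card_mul_index
    rw [hrel, Nat.card_congr (Subgroup.subgroupOfEquivOfLe hCK).toEquiv, hC] at h1
    omega
  have hcZ : Nat.card ↥Z = 2 := by rw [hZ, Nat.card_zpowers, hz]
  have hcardC' : Nat.card ↥C' = 4 := by
    have hker : ((QuotientGroup.mk' Z).domRestrict K).ker = Z.subgroupOf K := by
      rw [MonoidHom.ker_domRestrict, QuotientGroup.ker_mk']
    have h1 := ((QuotientGroup.mk' Z).domRestrict K).ker.card_mul_index
    rw [Subgroup.index_ker, MonoidHom.domRestrict_range, hK,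
      Subgroup.map_comap_eq_self_of_surjective (QuotientGroup.mk'_surjective Z)] at h1
    rw [hker] at h1
    have hZK : Z ≤ K := Subgroup.zpowers_le.mpr ((hKmem z).mpr (Or.inl (by
      rw [← hzc x, mul_inv_cancel_right])))
    rw [Nat.card_congr (Subgroup.subgroupOfEquivOfLe hZK).toEquiv, hcZ] at h1
    rw [hK] at hcardK
    omega
  have hx2 : orderOf (x : S ⧸ Z) = 2 := orderOf_eq_prime
    (by rw [pow_two, ← QuotientGroup.mk_mul, hxx, QuotientGroup.mk_one])
    (fun h => hxZ ((QuotientGroup.eq_one_iff x).mp h))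
  have hlt : Nat.card (S ⧸ Z) < n := by
    have h1 := Subgroup.card_eq_card_quotient_mul_card_subgroup Z
    rw [hcZ] at h1
    have := Nat.card_pos (α := S ⧸ Z)
    omega
  obtain ⟨rb, hrb⟩ := ih _ hlt (S ⧸ Z) rfl (hS.to_quotient Z) _ hx2 hcardC'
  obtain ⟨r, rfl⟩ := QuotientGroup.mk_surjective rb
  refine ⟨r, ?_⟩
  set R := (Subgroup.zpowers (r : S ⧸ Z)).comap (QuotientGroup.mk' Z) with hR
  have hRidx : R.index = 2 := by
    rw [hR, Subgroup.index_comap_of_surjective _ (QuotientGroup.mk'_surjective Z), hrb]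
  have hRmem : ∀ a ∈ R, ∃ (i : ℤ) (e : S), e ∈ Z ∧ a = r ^ i * e := by
    intro a ha
    obtain ⟨i, hi⟩ := Subgroup.mem_zpowers_iff.mp ha
    refine ⟨i, (r ^ i)⁻¹ * a, ?_, by simp⟩
    rw [← QuotientGroup.eq, QuotientGroup.mk_zpow]
    exact hi
  by_cases hzr : z ∈ Subgroup.zpowers r
  · have : R = Subgroup.zpowers r := by
      apply le_antisymm
      · intro a ha
        obtain ⟨i, e, he, rfl⟩ := hRmem a ha
        exact Subgroup.mul_mem _ (Subgroup.zpow_mem _ (Subgroup.mem_zpowers r) i)
          ((Subgroup.zpowers_le.mpr hzr) he)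
      · rw [Subgroup.zpowers_le]; exact Subgroup.mem_zpowers _
    rw [← this]; exact hRidx
  exfalso
  have hZr : ∀ e ∈ Z, e ∈ Subgroup.zpowers r → e = 1 := fun e he her => by
    rcases hZmem e he with h | h
    · exact h
    · exact absurd (h ▸ her) hzr
  have hord : orderOf (r : S ⧸ Z) = orderOf r := by
    apply dvd_antisymm (orderOf_map_dvd (QuotientGroup.mk' Z) r)
    apply orderOf_dvd_of_pow_eq_one
    exact hZr _ ((QuotientGroup.eq_one_iff _).mp (by rw [QuotientGroup.mk_pow]; exact pow_orderOf_eq_one _))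
      (Subgroup.pow_mem _ (Subgroup.mem_zpowers r) _)
  have hcardr : 4 * orderOf r = Nat.card S := by
    have h1 := Subgroup.card_eq_card_quotient_mul_card_subgroup Z
    have h2 := (Subgroup.zpowers (r : S ⧸ Z)).card_mul_index
    rw [Nat.card_zpowers, hord, hrb] at h2
    rw [hcZ, ← h2] at h1
    omega
  obtain ⟨q, hq⟩ := IsPGroup.iff_orderOf.mp hS r
  have hq2 : 2 ≤ q := by
    by_contra h
    have : 2 ^ q ≤ 2 ^ 1 := Nat.pow_le_pow_right (by norm_num) (by omega)
    omega
  set w := r ^ 2 ^ (q - 1) with hw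
  have hwo : orderOf w = 2 := by
    rw [hw, orderOf_pow_of_dvd (by positivity) (hq ▸ pow_dvd_pow 2 (by omega)), hq,
      Nat.pow_div (by omega) (by omega), show q - (q - 1) = 1 by omega, pow_one]
  have hww : w * w = 1 := by rw [← pow_two, ← hwo]; exact pow_orderOf_eq_one w
  have hxr : x * r * x⁻¹ ∈ R := (Subgroup.normal_of_index_eq_two hRidx).conj_mem r (Subgroup.mem_zpowers _) x
  obtain ⟨i, e, he, hie⟩ := hRmem _ hxr
  have hconj : x * w * x⁻¹ = w ^ i := by
    have hec : Commute (r ^ i) e := by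
      rcases hZmem e he with rfl | rfl
      · exact Commute.one_right _
      · exact hzc _
    have he2 : e * e = 1 := by
      rcases hZmem e he with rfl | rfl
      · simp
      · exact hzz
    rw [hw, ← conj_pow, hie, hec.mul_pow,
      show 2 ^ (q - 1) = 2 * 2 ^ (q - 2) by rw [← pow_succ']; congr 1; omega, pow_mul e, pow_two,
      he2, one_pow, mul_one, ← zpow_natCast, ← zpow_mul, mul_comm, zpow_mul, zpow_natCast]
  have hcomm : w * x = x * w := by
    rcases Int.even_or_odd i with ⟨j, rfl⟩ | ⟨j, rfl⟩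
    · rw [zpow_add, ← (Commute.refl w).mul_zpow, hww, one_zpow, mul_inv_eq_one] at hconj
      have : w = 1 := mul_left_cancel (hconj.trans (mul_one x).symm)
      rw [this, orderOf_one] at hwo; omega
    · rw [zpow_add, zpow_mul, zpow_two, hww, one_zpow, one_mul, zpow_one, mul_inv_eq_iff_eq_mul] at hconj
      exact hconj.symm
  have hwR : w ∈ R := R.pow_mem (show r ∈ R from Subgroup.mem_zpowers _) _
  have hxR : x ∉ R := by
    intro h
    have hle : R ≤ C := by
      intro a ha
      rw [Subgroup.mem_centralizer_singleton_iff]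
      obtain ⟨j, e, he, rfl⟩ := hRmem a ha
      obtain ⟨j', e', he', hx'⟩ := hRmem x h
      have hzcen : ∀ e ∈ Z, ∀ b : S, Commute b e := fun e he b => by
        rcases hZmem e he with rfl | rfl
        · exact Commute.one_right _
        · exact hzc b
      rw [hx']
      exact ((((Commute.refl r).zpow_zpow j j').mul_right (hzcen e' he' _)).mul_left
        ((hzcen e he _).symm)).eq
    have h1 := Subgroup.card_le_of_le hle
    have h2 := R.card_mul_index
    rw [hRidx] at h2
    omega
  rcases hfour hcomm with h | h | h | h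
  · rw [h, orderOf_one] at hwo; omega
  · exact hxR (h ▸ hwR)
  · exact hzr (h ▸ Subgroup.pow_mem _ (Subgroup.mem_zpowers r) _)
  · refine hxR ((Subgroup.mul_mem_cancel_right _ ?_).mp (h ▸ hwR))
    rw [hR, Subgroup.mem_comap, QuotientGroup.mk'_apply, (QuotientGroup.eq_one_iff z).mpr (Subgroup.mem_zpowers z)]
    exact Subgroup.one_mem _

theorem result {S : Type*} [Group S] [Finite S] (hS : IsPGroup 2 S)
    (x : S) (hx : orderOf x = 2) (hC : Nat.card ↥(Subgroup.centralizer ({x} : Set S)) = 4) :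
    (∃ n : ℕ, Nonempty (S ≃* DihedralGroup n)) ∨ Cfsg.IsQuasiDihedral S ∨ Nat.card S = 4 := by
  by_cases h4 : Nat.card S = 4
  · exact Or.inr (Or.inr h4)
  have : Fact (Nat.Prime 2) := ⟨Nat.prime_two⟩
  have hxx : x * x = 1 := by rw [← pow_two, ← hx]; exact pow_orderOf_eq_one x
  obtain ⟨r, hidx⟩ := exists_cyclic_index_two _ S rfl hS x hx hC
  obtain ⟨k, hk⟩ := IsPGroup.iff_orderOf.mp hS r
  have hcard : Nat.card S = 2 ^ (k + 1) := by
    rw [← (Subgroup.zpowers r).card_mul_index, hidx, Nat.card_zpowers, hk, pow_succ]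
  have hk2 : 2 ≤ k := by
    have h1 : 4 ∣ Nat.card S := hC ▸ Subgroup.card_subgroup_dvd_card _
    by_contra h
    rcases (show k = 0 ∨ k = 1 by omega) with rfl | rfl
    · rw [hcard] at h1; norm_num at h1
    · exact h4 (by rw [hcard]; norm_num)
  have hrn : (Subgroup.zpowers r).Normal := Subgroup.normal_of_index_eq_two hidx
  have hxr : x ∉ Subgroup.zpowers r := by
    intro h
    have hle : Subgroup.zpowers r ≤ Subgroup.centralizer ({x} : Set S) := by
      intro a ha
      rw [Subgroup.mem_centralizer_singleton_iff]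
      obtain ⟨i, rfl⟩ := Subgroup.mem_zpowers_iff.mp ha
      obtain ⟨j, rfl⟩ := Subgroup.mem_zpowers_iff.mp h
      exact ((Commute.refl r).zpow_zpow i j).eq
    -- the unique involution of a normal cyclic subgroup is central
    have hcen : Subgroup.centralizer ({x} : Set S) = ⊤ := by
      rw [eq_top_iff]
      intro g _
      rw [Subgroup.mem_centralizer_singleton_iff, ← mul_inv_eq_iff_eq_mul]
      obtain ⟨j, hj⟩ := Subgroup.mem_zpowers_iff.mp h
      obtain ⟨i, hi⟩ := Subgroup.mem_zpowers_iff.mp (hrn.conj_mem x h g)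
      rw [← hi, ← hj, CfsgLib.InvChar.zpow_eq_zpow_iff_dvd hk]
      have hP : (2 : ℤ) ^ k = 2 * 2 ^ (k - 1) := by rw [← pow_succ', Nat.sub_add_cancel (by omega)]
      have key : ∀ l : ℤ, orderOf (r ^ l) = 2 → ∃ o : ℤ, l = 2 ^ (k - 1) * o ∧ ¬ (2 : ℤ) ∣ o := by
        intro l hl
        have h1 : (2 : ℤ) ^ k ∣ 2 * l := by
          have := orderOf_dvd_iff_zpow_eq_one.mpr
            (show r ^ (2 * l) = 1 by rw [mul_comm, zpow_mul, zpow_two, ← pow_two, ← hl, pow_orderOf_eq_one])
          rw [hk] at this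
          exact_mod_cast this
        rw [hP, mul_dvd_mul_iff_left two_ne_zero] at h1
        obtain ⟨o, rfl⟩ := h1
        refine ⟨o, rfl, fun ⟨c, hc⟩ => ?_⟩
        have : r ^ ((2 : ℤ) ^ (k - 1) * o) = r ^ (0 : ℤ) := by
          rw [CfsgLib.InvChar.zpow_eq_zpow_iff_dvd hk, hP, hc]; exact ⟨-c, by ring⟩
        rw [this, zpow_zero, orderOf_one] at hl; omega
      obtain ⟨o, rfl, ho⟩ := key i (by
        rw [hi, show g * x * g⁻¹ = MulAut.conj g x from rfl, MulEquiv.orderOf_eq, hx])
      obtain ⟨o', rfl, ho'⟩ := key j (by rw [hj, hx])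
      obtain ⟨c, hc⟩ : (2 : ℤ) ∣ o' - o := by omega
      exact ⟨c, by rw [hP]; linear_combination (2 : ℤ) ^ (k - 1) * hc⟩
    rw [hcen, Subgroup.card_top, hcard] at hC
    have : 2 ^ 3 ≤ 2 ^ (k + 1) := Nat.pow_le_pow_right (by norm_num) (by omega)
    omega
  -- powers of r commuting with x have order at most two
  have hsmall : ∀ a ∈ Subgroup.zpowers r, a * x = x * a → orderOf a ≤ 2 := by
    intro a ha hax
    have hnt : Nontrivial S := Finite.one_lt_card_iff_nontrivial.mp (by rw [hcard]; exact Nat.one_lt_two_pow (by omega))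
    obtain ⟨z, hz, hzc⟩ := exists_central_involution hS
    have hzne : z ≠ x := by
      rintro rfl
      have : Subgroup.centralizer ({z} : Set S) = ⊤ :=
        eq_top_iff.mpr fun g _ => Subgroup.mem_centralizer_singleton_iff.mpr (hzc g)
      rw [this, Subgroup.card_top] at hC
      exact h4 hC
    rcases mem_centralizer_four hx hz hzc hzne hC hax with rfl | rfl | rfl | rfl
    · simp
    · omega
    · omega
    · refine Nat.le_of_dvd two_pos (orderOf_dvd_of_pow_eq_one ?_)
      rw [(show Commute x z from hzc x).mul_pow, pow_two, pow_two, hxx,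
        show z * z = 1 by rw [← pow_two, ← hz]; exact pow_orderOf_eq_one z, one_mul]
  obtain ⟨s, hs⟩ := Subgroup.mem_zpowers_iff.mp (hrn.conj_mem r (Subgroup.mem_zpowers r) x)
  have hP : (2 : ℤ) ^ k = 2 * 2 ^ (k - 1) := by rw [← pow_succ', Nat.sub_add_cancel (by omega)]
  set P : ℤ := 2 ^ (k - 1) with hPdef
  have h1 : (2 : ℤ) ^ k ∣ s * s - 1 := by
    rw [← CfsgLib.InvChar.zpow_eq_zpow_iff_dvd hk, zpow_one, zpow_mul, hs, conj_zpow, hs]
    rw [show x * (x * r * x⁻¹) * x⁻¹ = (x * x) * r * (x * x)⁻¹ by simp [mul_assoc], hxx]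
    simp
  have hodd : ∀ (n : ℕ) (o y : ℤ), Odd o → (2 : ℤ) ^ n ∣ o * y → (2 : ℤ) ^ n ∣ y := by
    intro n o y ho h
    have hc : IsCoprime ((2 : ℤ) ^ n) o := by
      apply IsCoprime.pow_left
      obtain ⟨m, rfl⟩ := ho
      exact ⟨-m, 1, by ring⟩
    exact hc.dvd_of_dvd_mul_left h
  obtain ⟨u, rfl⟩ : Odd s := by
    rw [← Int.not_even_iff_odd]
    rintro ⟨c, hc⟩
    obtain ⟨d, hd⟩ := h1
    rw [hc, hP] at hd
    have : 2 * (2 * (c * c)) - 1 = 2 * (P * d) := by linear_combination hd
    omega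
  rcases Int.even_or_odd u with ⟨w, rfl⟩ | ⟨w, rfl⟩
  · exfalso
    have hw : P ∣ 4 * w := by
      have h2 : (2 : ℤ) ^ k ∣ 2 * ((2 * w + 1) * (4 * w)) := by convert h1 using 1; ring
      rw [hP, mul_dvd_mul_iff_left two_ne_zero] at h2
      exact hodd (k - 1) _ _ ⟨w, rfl⟩ h2
    obtain ⟨f, hf⟩ := hw
    have h2 : r ^ (2 : ℤ) * x = x * r ^ (2 : ℤ) := by
      have : x * r ^ (2 : ℤ) * x⁻¹ = r ^ (2 : ℤ) := by
        rw [← conj_zpow, ← hs, ← zpow_mul, CfsgLib.InvChar.zpow_eq_zpow_iff_dvd hk]
        exact ⟨-f, by rw [hP]; linear_combination -2 * hf⟩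
      exact (mul_inv_eq_iff_eq_mul.mp this).symm
    have h3 := hsmall _ (Subgroup.zpow_mem _ (Subgroup.mem_zpowers r) 2) h2
    rw [show r ^ (2 : ℤ) = r ^ (2 : ℕ) from by rw [← zpow_natCast]; rfl,
      orderOf_pow_of_dvd two_ne_zero (hk ▸ dvd_pow_self 2 (by omega)), hk] at h3
    have hk' : k = 2 := by
      by_contra hne
      have : 2 ^ 3 ≤ 2 ^ k := Nat.pow_le_pow_right (by norm_num) (by omega)
      omega
    subst hk'
    have h5 : x * r * x⁻¹ = r := by
      rw [← hs]
      conv_rhs => rw [← zpow_one r]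
      rw [CfsgLib.InvChar.zpow_eq_zpow_iff_dvd hk]
      exact ⟨-w, by ring⟩
    have := hsmall r (Subgroup.mem_zpowers r) (mul_inv_eq_iff_eq_mul.mp h5).symm
    omega
  · have hw : P ∣ 4 * w + 4 := by
      have h2 : (2 : ℤ) ^ k ∣ 2 * ((2 * w + 1) * (4 * w + 4)) := by convert h1 using 1; ring
      rw [hP, mul_dvd_mul_iff_left two_ne_zero] at h2
      exact hodd (k - 1) _ _ ⟨w, rfl⟩ h2
    obtain ⟨f, hf⟩ := hw
    rcases Int.even_or_odd f with ⟨g, rfl⟩ | ⟨g, rfl⟩
    · left
      have hinv : x * r * x⁻¹ = r⁻¹ := by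
        rw [← hs, ← zpow_neg_one, CfsgLib.InvChar.zpow_eq_zpow_iff_dvd hk]
        exact ⟨-g, by rw [hP]; linear_combination -hf⟩
      obtain ⟨e⟩ := CfsgLib.TwoFusion.exists_dihedral_mulEquiv (Nat.two_pow_pos k) hk hxx hinv hxr ⊤ (by
        intro g
        refine iff_of_true (Subgroup.mem_top g) ?_
        by_cases hg : g ∈ Subgroup.zpowers r
        · obtain ⟨i, hi⟩ := Subgroup.mem_zpowers_iff.mp hg
          exact ⟨i, Or.inl hi.symm⟩
        · obtain ⟨i, hi⟩ := Subgroup.mem_zpowers_iff.mp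
            ((Subgroup.mul_mem_iff_of_index_two hidx (a := x) (b := g)).mpr (iff_of_false hxr hg))
          exact ⟨i, Or.inr (by rw [hi, ← mul_assoc, hxx, one_mul])⟩)
      exact ⟨_, ⟨Subgroup.topEquiv.symm.trans e⟩⟩
    · right; left
      have hk3 : 3 ≤ k := by
        by_contra h
        have : k = 2 := by omega
        subst this
        norm_num [hPdef] at hf
        omega
      refine ⟨k, hk3, hcard, r, x, hk, hx, ?_⟩
      rw [← hs, ← zpow_natCast r, CfsgLib.InvChar.zpow_eq_zpow_iff_dvd hk]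
      push_cast [Nat.one_le_two_pow]
      exact ⟨-g, by rw [hP, hPdef] at *; linear_combination -hf⟩

end Cfsg.Agent.S3224
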