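import Cfsg.Statements.S5604
import Cfsg.Agent.Lib.M24Elt.Centralisers
import Cfsg.Agent.Lib.M24Elt.Tables
-- import your own Cfsg.Agent.* helpers here

set_option autoImplicit false
open scoped Pointwise
open Cfsg

open CfsgLib.Golay CfsgLib.M24Elt CfsgLib.Comp
open scoped Pointwise

namespace Cfsg.Agent.S5604

/-- The seven powers, with the index of the next one. -/
noncomputable def powers : List (ℕ × List ℕ) :=
  (List.range 7).map fun i => (powc CentData.rep7 i, [(i + 1) % 7])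

/-- The least of the six nontrivial powers, as a name for the group they generate. -/
noncomputable def key (c : ℕ) : ℕ :=
  ((List.range 6).map fun k => canon (powc c (k + 1))).foldr min (2 ^ 200)

theorem foldr_min_le {b : ℕ} : ∀ {l : List ℕ} {x : ℕ}, x ∈ l → l.foldr min b ≤ x
  | a :: l, x, h => by
    rcases List.mem_cons.1 h with rfl | h
    · exact min_le_left _ _
    · exact (min_le_right _ _).trans (foldr_min_le h)

theorem foldr_min_mono {b : ℕ} {l' : List ℕ} : ∀ {l : List ℕ}, l ⊆ l' → l'.foldr min b ≤ l.foldr min b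
  | [], _ => by
    induction l' with
    | nil => exact le_rfl
    | cons a l ih => exact (min_le_right _ _).trans (ih (List.nil_subset _))
  | a :: l, h => le_min (foldr_min_le (h List.mem_cons_self))
      (foldr_min_mono fun x hx => h (List.mem_cons_of_mem a hx))

theorem pow_eq_mod {G : Type*} [Group G] {x : G} (h : x ^ 7 = 1) (n : ℕ) : x ^ n = x ^ (n % 7) := by
  conv_lhs => rw [← Nat.div_add_mod n 7, pow_add, pow_mul, h, one_pow, one_mul]

theorem key_le {a b : ℕ} (ha : PermCode.Ok 24 a) (hb : PermCode.Ok 24 b) (h7 : pm b ^ 7 = 1)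
    {k : ℕ} (he : pm a = pm b ^ k) (hne : pm a ≠ 1) : key b ≤ key a := by
  refine foldr_min_mono fun x hx => ?_
  obtain ⟨m, hm, rfl⟩ := List.mem_map.1 hx
  rw [List.mem_range] at hm
  have hk : k % 7 ≠ 0 := fun e => hne (by rw [he, pow_eq_mod h7, e, pow_zero])
  refine List.mem_map.2 ⟨k * (m + 1) % 7 - 1, List.mem_range.2 ?_, ?_⟩
  · have := Nat.mod_lt (k * (m + 1)) (by norm_num : 0 < 7)
    omega
  have hpos : k * (m + 1) % 7 ≠ 0 := fun e => by
    have h2 : 7 ∣ k * (m + 1) := Nat.dvd_of_mod_eq_zero e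
    rcases (Nat.prime_seven.dvd_mul).1 h2 with h3 | h3
    · exact hk (Nat.mod_eq_zero_of_dvd h3 |>.trans rfl)
    · have := Nat.le_of_dvd (by omega) h3; omega
  rw [Nat.sub_add_cancel (Nat.one_le_iff_ne_zero.2 hpos)]
  refine canon_eq (powc_ok hb _) (powc_ok ha _) ?_
  rw [pm_powc hb, pm_powc ha, he, ← pow_mul, ← pow_eq_mod h7]

noncomputable def R : Equiv.Perm Cfsg.GolayPt := pm CentData.rep7

/-- The normaliser of the base subgroup. -/
noncomputable def nz : Subgroup (Equiv.Perm Cfsg.GolayPt) :=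
  Cfsg.M24 ⊓ Subgroup.normalizer (Subgroup.zpowers R : Set (Equiv.Perm Cfsg.GolayPt))

theorem rep_checks : (good CentData.rep7 && isOne (powc CentData.rep7 7) && !isOne CentData.rep7 &&
    closedCheck [CentData.rep7] powers) = true := by decide +kernel

theorem norm_checks :
    ((CentData.norm7Gens.all fun s => good s && (List.range 7).any fun k =>
      eqc (PermCode.mul 24 s CentData.rep7) (PermCode.mul 24 (powc CentData.rep7 k) s)) &&
    (CentData.cent7Gens.all fun s => good s &&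
      eqc (PermCode.mul 24 s CentData.rep7) (PermCode.mul 24 CentData.rep7 s)) &&
    (CentData.norm7Gens.any fun s =>
      !eqc (PermCode.mul 24 s CentData.rep7) (PermCode.mul 24 CentData.rep7 s)) &&
    (CentData.cent7Gens.any fun a => CentData.cent7Gens.any fun b =>
      !eqc (PermCode.mul 24 a b) (PermCode.mul 24 b a)) &&
    Nat.beq (fixedRows CentData.rep7 TableData.trioTab) 1 && rowOk CentData.trio7 &&
    trioChunks.flatten.any (fun l => sameM l CentData.trio7) &&
    sameM (CentData.trio7.map (push CentData.rep7)) CentData.trio7) = true := by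
  decide +kernel

theorem witness_checks :
    (witCheck CentData.rep7 CentData.wit7 CentData.wit7Conj && Nat.beq CentData.wit7.length 512 &&
    incr CentData.wit7Key && (CentData.wit7.all fun w => sameM (CentData.trio7.map (push w)) CentData.trio7) &&
    Nat.beq CentData.wit7Key.length 512 &&
    (List.zipWith (fun c k => Nat.beq (key c) k) CentData.wit7Conj CentData.wit7Key).all id) = true := by
  decide +kernel

theorem R_order : R ^ 7 = 1 ∧ orderOf R = 7 ∧ R ∈ Cfsg.M24 := by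
  have h := rep_checks
  simp only [Bool.and_eq_true, Bool.not_eq_true'] at h
  have hok := good_ok h.1.1.1
  have h7 : R ^ 7 = 1 := by rw [R, ← pm_powc hok, pm_eq_one (powc_ok hok 7) h.1.1.2]
  haveI : Fact (Nat.Prime 7) := ⟨Nat.prime_seven⟩
  exact ⟨h7, orderOf_eq_prime h7 (pm_ne_one hok h.1.2), pm_mem h.1.1.1⟩

theorem mem_normalizer_zpowers {G : Type*} [Group G] [Finite G] {r x : G}
    (h : x * r * x⁻¹ ∈ Subgroup.zpowers r) :
    x ∈ Subgroup.normalizer (Subgroup.zpowers r : Set G) := by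
  have hle : Subgroup.zpowers (x * r * x⁻¹) ≤ Subgroup.zpowers r := by
    rwa [Subgroup.zpowers_le]
  have he : Subgroup.zpowers (x * r * x⁻¹) = Subgroup.zpowers r := by
    refine Subgroup.eq_of_le_of_card_ge hle ?_
    rw [Nat.card_zpowers, Nat.card_zpowers, ← MulAut.conj_apply, MulEquiv.orderOf_eq]
  have hmap : (Subgroup.zpowers r).map (MulAut.conj x).toMonoidHom = Subgroup.zpowers r := by
    rw [MonoidHom.map_zpowers]; exact he
  rw [Subgroup.mem_normalizer_iff]
  intro y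
  constructor
  · intro hy
    rw [← hmap]
    exact ⟨y, hy, rfl⟩
  · intro hy
    rw [← hmap] at hy
    obtain ⟨z, hz, he'⟩ := hy
    have : z = y := (MulAut.conj x).injective he'
    exact this ▸ hz

theorem exists_pow_of_mem_nz {x : Equiv.Perm Cfsg.GolayPt} (hx : x ∈ nz) :
    ∃ k : ℕ, x * R * x⁻¹ = R ^ k := by
  have h := (Subgroup.mem_normalizer_iff.1 hx.2 R).1 (Subgroup.mem_zpowers R)
  rw [← mem_powers_iff_mem_zpowers] at h
  obtain ⟨k, hk⟩ := h
  exact ⟨k, hk.symm⟩

theorem trio7_mem : mset CentData.trio7 ∈ Cfsg.trios := by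
  have h := norm_checks
  simp only [Bool.and_eq_true, List.any_eq_true] at h
  obtain ⟨l, hl, he⟩ := h.1.2
  exact tabTrios.mem_iff.2 ⟨l, hl, (sameM_iff (rowOk_spec (List.all_eq_true.1 tabTrios.ok l hl)).2
    (rowOk_spec h.1.1.2).2).1 he⟩

theorem nz_fix_trio {x : Equiv.Perm Cfsg.GolayPt} (hx : x ∈ nz) :
    x • mset CentData.trio7 = mset CentData.trio7 := by
  have h := norm_checks
  simp only [Bool.and_eq_true] at h
  have hr := rep_checks
  simp only [Bool.and_eq_true] at hr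
  have hok := good_ok hr.1.1.1
  have hone : {T | T ∈ Cfsg.trios ∧ R • T = T}.ncard = 1 := by
    rw [R, ncard_fixed_trios hok, Nat.eq_of_beq_eq_true h.1.1.1.2]
  obtain ⟨T₀, hT⟩ := Set.ncard_eq_one.1 hone
  have hbase : mset CentData.trio7 ∈ {T | T ∈ Cfsg.trios ∧ R • T = T} :=
    ⟨trio7_mem, sameM_push hok (rowOk_spec h.1.1.2).2 h.2⟩
  have himg : x • mset CentData.trio7 ∈ {T | T ∈ Cfsg.trios ∧ R • T = T} := by
    refine ⟨(smul_mem_trios hx.1).2 trio7_mem, ?_⟩
    obtain ⟨k, hk⟩ := exists_pow_of_mem_nz (inv_mem hx)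
    rw [inv_inv] at hk
    have e : R * x = x * R ^ k := by rw [← hk]; group
    rw [← mul_smul, e, mul_smul]
    congr 1
    clear hk e
    induction k with
    | zero => rw [pow_zero, one_smul]
    | succ k ih => rw [pow_succ, mul_smul, hbase.2, ih]
  rw [hT, Set.mem_singleton_iff] at hbase himg
  rw [himg, hbase]

theorem coset_sep (hok : PermCode.Ok 24 CentData.rep7) {ws cs ks : List ℕ} {N : ℕ}
    (hwit : witCheck CentData.rep7 ws cs = true) (hincr : incr ks = true) (hlen : ws.length = N)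
    (hklen : ks.length = N) (hkeys : (List.zipWith (fun c k => Nat.beq (key c) k) cs ks).all id = true)
    (i j : ℕ) (hi : i < (ws.map pm).length) (hj : j < (ws.map pm).length)
    (hij : (ws.map pm)[i]⁻¹ * (ws.map pm)[j] ∈ nz) : i = j := by
  obtain ⟨hl, hspec⟩ := witCheck_spec hok hwit
  rw [List.length_map] at hi hj
  rw [List.getElem_map, List.getElem_map] at hij
  obtain ⟨-, hci, hei⟩ := hspec i hi (hl ▸ hi)
  obtain ⟨-, hcj, hej⟩ := hspec j hj (hl ▸ hj)
  have hne : ∀ w : Equiv.Perm Cfsg.GolayPt, w * R * w⁻¹ ≠ 1 := fun w e => by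
    rw [conj_eq_one_iff] at e
    have := R_order.2.1
    rw [e, orderOf_one] at this
    omega
  have hp7 : ∀ w : Equiv.Perm Cfsg.GolayPt, (w * R * w⁻¹) ^ 7 = 1 := fun w => by
    rw [conj_pow, R_order.1, mul_one, mul_inv_cancel]
  have le_key : ∀ {a b : ℕ} {wa wb : Equiv.Perm Cfsg.GolayPt}, PermCode.Ok 24 a → PermCode.Ok 24 b →
      wa * pm CentData.rep7 * wa⁻¹ = pm a → wb * pm CentData.rep7 * wb⁻¹ = pm b → wb⁻¹ * wa ∈ nz → key b ≤ key a := by
    intro a b wa wb ha hb hea heb hmem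
    obtain ⟨k, hk⟩ := exists_pow_of_mem_nz hmem
    rw [show pm CentData.rep7 = R from rfl] at hea heb
    refine key_le ha hb (heb ▸ hp7 wb) (k := k) ?_ (hea ▸ hne wa)
    rw [← hea, ← heb, conj_pow, ← hk]
    group
  have hji : (pm ws[j])⁻¹ * pm ws[i] ∈ nz := by
    have := inv_mem hij
    rwa [mul_inv_rev, inv_inv] at this
  have hkey : key cs[i] = key cs[j] :=
    le_antisymm (le_key (wa := pm ws[j]) (wb := pm ws[i]) hcj hci hej hei hij)
      (le_key (wa := pm ws[i]) (wb := pm ws[j]) hci hcj hei hej hji)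
  have hkk : ∀ (n : ℕ) (hn : n < cs.length) (hn' : n < ks.length),
      key cs[n] = ks[n] := fun n hn hn' => by
    have := List.all_eq_true.1 hkeys _ (List.mem_iff_getElem.2 ⟨n, by simp [hn, hn'], rfl⟩)
    simp only [List.getElem_zipWith, id_eq] at this
    exact Nat.eq_of_beq_eq_true this
  rw [hkk i (hl ▸ hi) (by omega), hkk j (hl ▸ hj) (by omega)] at hkey
  exact (show ks.Nodup from (incr_pairwise hincr).imp Nat.ne_of_lt).getElem_inj_iff.1 hkey

theorem card_nz : Nat.card nz = 126 := by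
  have h := norm_checks
  simp only [Bool.and_eq_true] at h
  have hr := rep_checks
  simp only [Bool.and_eq_true] at hr
  have hok := good_ok hr.1.1.1
  have hlow : 126 ≤ Nat.card nz := by
    rw [← CentData.norm7_card, ← card_spanPts]
    refine Nat.card_le_card_of_injective _ (Subgroup.inclusion_injective (spanPts_le fun s hs => ?_))
    have h1 := List.all_eq_true.1 h.1.1.1.1.1.1.1 s hs
    rw [Bool.and_eq_true, List.any_eq_true] at h1
    obtain ⟨hg, k, -, hk⟩ := h1
    refine ⟨pm_mem hg, mem_normalizer_zpowers ?_⟩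
    have e := pm_eq_of_eqc (ok_pm_mul (good_ok hg) hok) (ok_pm_mul (powc_ok hok k) (good_ok hg)) hk
    rw [pm_mul (good_ok hg) hok, pm_mul (powc_ok hok k) (good_ok hg), pm_powc hok] at e
    rw [R, e, mul_inv_cancel_right]
    exact Subgroup.npow_mem_zpowers _ k
  have hw := witness_checks
  simp only [Bool.and_eq_true] at hw
  obtain ⟨⟨⟨⟨⟨hwit, hlen⟩, hincr⟩, hfix⟩, hklen⟩, hkeys⟩ := hw
  obtain ⟨hl, hspec⟩ := witCheck_spec hok hwit
  rw [Nat.beq_eq] at hlen hklen
  have hup : 512 * Nat.card nz ≤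
      Nat.card ↥(Cfsg.M24 ⊓ MulAction.stabilizer (Equiv.Perm Cfsg.GolayPt) (mset CentData.trio7)) := by
    rw [← hlen, ← List.length_map (as := CentData.wit7) pm]
    refine length_mul_card_le (C := nz)
      (H := Cfsg.M24 ⊓ MulAction.stabilizer (Equiv.Perm Cfsg.GolayPt) (mset CentData.trio7))
      (fun x hx => ⟨hx.1, nz_fix_trio hx⟩) (fun g hg => ?_) fun i j hi hj hij => ?_
    · obtain ⟨w, hw, rfl⟩ := List.mem_map.1 hg
      obtain ⟨i, hi, rfl⟩ := List.mem_iff_getElem.1 hw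
      exact mem_stab_of_rows (hspec i hi (hl ▸ hi)).1 h.1.1.2
        (List.all_eq_true.1 hfix _ (List.getElem_mem hi))
    exact coset_sep hok hwit hincr hlen hklen hkeys i j hi hj hij
  have hst := card_stab_of_orbit (S := Cfsg.trios) trio7_mem (fun hg => (smul_mem_trios hg).2 trio7_mem)
    (fun y hy => exists_smul_trio trio7_mem hy) CfsgLib.GolayDesign.ncard_trios
  omega

theorem card_cz_R : Nat.card (cz R) = 42 ∧ ∃ x ∈ cz R, ∃ y ∈ cz R, x * y ≠ y * x := by
  have h := norm_checks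
  simp only [Bool.and_eq_true, List.any_eq_true, Bool.not_eq_true'] at h
  have hr := rep_checks
  simp only [Bool.and_eq_true] at hr
  have hok := good_ok hr.1.1.1
  have hle : cz R ≤ nz := fun x hx => by
    refine ⟨(mem_cz.1 hx).1, mem_normalizer_zpowers ?_⟩
    rw [(mem_cz.1 hx).2, mul_inv_cancel_right]
    exact Subgroup.mem_zpowers R
  have hsp : spanPts CentData.cent7Gens ≤ cz R := spanPts_le_cz hok h.1.1.1.1.1.1.2
  refine ⟨?_, ?_⟩
  · have d1 : Nat.card (cz R) ∣ 126 := card_nz ▸ Subgroup.card_dvd_of_le hle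
    have d2 : 42 ∣ Nat.card (cz R) := by
      rw [← CentData.cent7_card, ← card_spanPts]; exact Subgroup.card_dvd_of_le hsp
    have hne : Nat.card (cz R) ≠ 126 := fun e => by
      have heq : cz R = nz := Subgroup.eq_of_le_of_card_ge hle (by rw [e, card_nz])
      obtain ⟨s, hs, hsne⟩ := h.1.1.1.1.1.2
      have h1 := List.all_eq_true.1 h.1.1.1.1.1.1.1 s hs
      rw [Bool.and_eq_true, List.any_eq_true] at h1
      obtain ⟨hg, k, -, hk⟩ := h1
      have hmem : pm s ∈ nz := by
        refine ⟨pm_mem hg, mem_normalizer_zpowers ?_⟩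
        have e := pm_eq_of_eqc (ok_pm_mul (good_ok hg) hok) (ok_pm_mul (powc_ok hok k) (good_ok hg)) hk
        rw [pm_mul (good_ok hg) hok, pm_mul (powc_ok hok k) (good_ok hg), pm_powc hok] at e
        rw [R, e, mul_inv_cancel_right]
        exact Subgroup.npow_mem_zpowers _ k
      rw [← heq, mem_cz, R, ← pm_mul (good_ok hg) hok, ← pm_mul hok (good_ok hg)] at hmem
      have := eqc_of_pm_eq (ok_pm_mul (good_ok hg) hok) (ok_pm_mul hok (good_ok hg)) hmem.2
      rw [this] at hsne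
      exact Bool.noConfusion hsne
    have := Nat.le_of_dvd (by norm_num) d1
    obtain ⟨m, hm⟩ := d2
    rw [hm] at d1 hne this ⊢
    rcases m with _ | _ | _ | _ | m
    · simp at d1
    · rfl
    · norm_num at d1
    · exact absurd rfl hne
    · omega
  · obtain ⟨a, ha, b, hb, hab⟩ := h.1.1.1.1.2
    refine ⟨pm a, hsp (pm_mem_spanPts ha), pm b, hsp (pm_mem_spanPts hb), fun e => ?_⟩
    have ha' := (List.all_eq_true.1 h.1.1.1.1.1.1.2 a ha)
    have hb' := (List.all_eq_true.1 h.1.1.1.1.1.1.2 b hb)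
    rw [Bool.and_eq_true] at ha' hb'
    rw [← pm_mul (good_ok ha'.1) (good_ok hb'.1), ← pm_mul (good_ok hb'.1) (good_ok ha'.1)] at e
    have := eqc_of_pm_eq (ok_pm_mul (good_ok ha'.1) (good_ok hb'.1))
      (ok_pm_mul (good_ok hb'.1) (good_ok ha'.1)) e
    rw [this] at hab
    exact Bool.noConfusion hab

/-- For a subgroup S of order 7 of the group of the length-24 code (a Sylow 7-subgroup): the normaliser of S has order 126, the centraliser of S has order 42 and is non-abelian, and the whole normaliser leaves some trio invariant. (These are the orders of a Frobenius group of order 21 times a symmetric group of degree 3; the isomorphism type itself is not asserted here.) -/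
theorem result (S : Subgroup ↥Cfsg.M24) (hS : Nat.card S = 7) : Nat.card ↥(Subgroup.normalizer (S : Set ↥Cfsg.M24)) = 126 ∧ Nat.card ↥(Subgroup.centralizer (S : Set ↥Cfsg.M24)) = 42 ∧ (∃ x ∈ Subgroup.centralizer (S : Set ↥Cfsg.M24), ∃ y ∈ Subgroup.centralizer (S : Set ↥Cfsg.M24), x * y ≠ y * x) ∧ ∃ T ∈ Cfsg.trios, ∀ n ∈ Subgroup.normalizer (S : Set ↥Cfsg.M24), ((n : ↥Cfsg.M24) : Equiv.Perm Cfsg.GolayPt) • T = T := by
  haveI : Fact (Nat.Prime 7) := ⟨Nat.prime_seven⟩
  have hr := rep_checks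
  simp only [Bool.and_eq_true] at hr
  have hok := good_ok hr.1.1.1
  obtain ⟨a, ha⟩ : ∃ a : S, a ≠ 1 := by
    have : Nontrivial S := Finite.one_lt_card_iff_nontrivial.1 (by omega)
    exact exists_ne 1
  have horda : orderOf (a : ↥Cfsg.M24) = 7 := by
    rw [Subgroup.orderOf_coe]
    exact ((Nat.dvd_prime Nat.prime_seven).1 (hS ▸ orderOf_dvd_natCard a)).resolve_left
      (fun e => ha (orderOf_eq_one_iff.1 e))
  have hSa : Subgroup.zpowers (a : ↥Cfsg.M24) = S := by
    refine Subgroup.eq_of_le_of_card_ge ((Subgroup.zpowers_le).2 a.2) ?_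
    rw [Nat.card_zpowers, horda, hS]
  obtain ⟨u, hu, e, he, -, hue⟩ := exists_conj_code (p := 7) (k := 1) (gens := [CentData.rep7])
    (by simp [hr.1.1.1]) hr.2 (by
      have hR := R_order.2.1
      rw [← card_spanPts, spanPts, CfsgLib.Comp.PermCode.span, MonoidHom.map_closure, pow_one]
      have : toFin.symm.toMonoidHom '' {g | ∃ s ∈ [CentData.rep7], CfsgLib.Comp.PermCode.val 24 s = g} = {R} := by
        ext g; simp [R, pm, eq_comm]
      rw [this, ← Subgroup.zpowers_eq_closure, Nat.card_zpowers, hR]) (by norm_num)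
    (a : ↥Cfsg.M24).2 (by rw [Subgroup.orderOf_coe]; exact horda)
  obtain ⟨i, -, rfl⟩ := List.mem_map.1 he
  rw [pm_powc hok] at hue
  have hne : R ^ i ≠ 1 := fun e1 => by
    rw [R] at e1
    rw [e1, conj_eq_one_iff] at hue
    have : orderOf ((a : ↥Cfsg.M24) : Equiv.Perm Cfsg.GolayPt) = 7 := by
      rw [Subgroup.orderOf_coe]; exact horda
    rw [hue, orderOf_one] at this
    omega
  have hgen : Subgroup.zpowers (R ^ i) = Subgroup.zpowers R := by
    refine Subgroup.eq_of_le_of_card_ge ((Subgroup.zpowers_le).2 (Subgroup.npow_mem_zpowers R i)) ?_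
    rw [Nat.card_zpowers, Nat.card_zpowers, R_order.2.1, orderOf_eq_prime (by
      rw [← pow_mul, mul_comm, pow_mul, R_order.1, one_pow]) hne]
  -- membership in S, moved to the base subgroup
  have hS' : ∀ x : ↥Cfsg.M24, x ∈ S ↔
      u * (x : Equiv.Perm Cfsg.GolayPt) * u⁻¹ ∈ Subgroup.zpowers R := by
    intro x
    rw [← hSa, ← hgen, R, ← hue, Subgroup.mem_zpowers_iff, Subgroup.mem_zpowers_iff]
    simp only [conj_zpow]
    refine exists_congr fun n => ⟨fun h => by rw [← h]; rfl, fun h => Subtype.ext ?_⟩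
    have h' := mul_left_cancel (mul_right_cancel h)
    exact h'
  have hN : ∀ n : ↥Cfsg.M24, n ∈ Subgroup.normalizer (S : Set ↥Cfsg.M24) ↔
      u * (n : Equiv.Perm Cfsg.GolayPt) * u⁻¹ ∈ nz := by
    intro n
    constructor
    · intro hn
      refine ⟨(mul_mem (mul_mem hu n.2) (inv_mem hu) : _ ∈ Cfsg.M24), mem_normalizer_zpowers ?_⟩
      have h1 := (Subgroup.mem_normalizer_iff.1 hn ⟨u⁻¹ * R * u, mul_mem (mul_mem (inv_mem hu) R_order.2.2) hu⟩).1
        ((hS' _).2 (by
          show u * (u⁻¹ * R * u) * u⁻¹ ∈ _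
          rw [show u * (u⁻¹ * R * u) * u⁻¹ = R by group]
          exact Subgroup.mem_zpowers R))
      have h2 := (hS' _).1 h1
      have e2 : u * ((n : Equiv.Perm Cfsg.GolayPt) * (u⁻¹ * R * u) * (n : Equiv.Perm Cfsg.GolayPt)⁻¹) * u⁻¹ =
          u * (n : Equiv.Perm Cfsg.GolayPt) * u⁻¹ * R * (u * (n : Equiv.Perm Cfsg.GolayPt) * u⁻¹)⁻¹ := by group
      rw [← e2]
      exact h2
    · intro hn
      rw [Subgroup.mem_normalizer_iff]
      intro x
      rw [hS', hS', Subgroup.mem_normalizer_iff.1 hn.2,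
        Subgroup.coe_mul, Subgroup.coe_mul, Subgroup.coe_inv]
      rw [show u * (n : Equiv.Perm Cfsg.GolayPt) * u⁻¹ * (u * (x : Equiv.Perm Cfsg.GolayPt) * u⁻¹) *
          (u * (n : Equiv.Perm Cfsg.GolayPt) * u⁻¹)⁻¹ =
          u * ((n : Equiv.Perm Cfsg.GolayPt) * x * (n : Equiv.Perm Cfsg.GolayPt)⁻¹) * u⁻¹ by group]
  have hC : ∀ n : ↥Cfsg.M24, n ∈ Subgroup.centralizer (S : Set ↥Cfsg.M24) ↔
      u * (n : Equiv.Perm Cfsg.GolayPt) * u⁻¹ ∈ cz R := by
    intro n
    rw [Subgroup.mem_centralizer_iff, mem_cz]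
    constructor
    · intro hn
      refine ⟨mul_mem (mul_mem hu n.2) (inv_mem hu), ?_⟩
      have h1 := congrArg Subtype.val (hn ⟨u⁻¹ * R * u, mul_mem (mul_mem (inv_mem hu) R_order.2.2) hu⟩
        ((hS' _).2 (by
          show u * (u⁻¹ * R * u) * u⁻¹ ∈ _
          rw [show u * (u⁻¹ * R * u) * u⁻¹ = R by group]
          exact Subgroup.mem_zpowers R)))
      simp only [Subgroup.coe_mul] at h1
      calc u * (n : Equiv.Perm Cfsg.GolayPt) * u⁻¹ * R
          = u * ((n : Equiv.Perm Cfsg.GolayPt) * (u⁻¹ * R * u)) * u⁻¹ := by group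
        _ = u * (u⁻¹ * R * u * (n : Equiv.Perm Cfsg.GolayPt)) * u⁻¹ := by rw [h1]
        _ = _ := by group
    · rintro ⟨-, hn⟩ x hx
      obtain ⟨k, hk⟩ := Subgroup.mem_zpowers_iff.1 ((hS' x).1 hx)
      have hcom : Commute (R ^ k) (u * (n : Equiv.Perm Cfsg.GolayPt) * u⁻¹) := (Commute.zpow_left hn.symm k)
      rw [hk] at hcom
      refine Subtype.ext ?_
      simp only [Subgroup.coe_mul]
      have h3 := hcom.eq
      rw [show u * (x : Equiv.Perm Cfsg.GolayPt) * u⁻¹ * (u * (n : Equiv.Perm Cfsg.GolayPt) * u⁻¹) =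
          u * ((x : Equiv.Perm Cfsg.GolayPt) * n) * u⁻¹ by group,
        show u * (n : Equiv.Perm Cfsg.GolayPt) * u⁻¹ * (u * (x : Equiv.Perm Cfsg.GolayPt) * u⁻¹) =
          u * ((n : Equiv.Perm Cfsg.GolayPt) * x) * u⁻¹ by group] at h3
      exact mul_left_cancel (mul_right_cancel h3)
  have hcount : ∀ (K : Subgroup ↥Cfsg.M24) (L : Subgroup (Equiv.Perm Cfsg.GolayPt)), L ≤ Cfsg.M24 →
      (∀ n : ↥Cfsg.M24, n ∈ K ↔ u * (n : Equiv.Perm Cfsg.GolayPt) * u⁻¹ ∈ L) →
      Nat.card K = Nat.card L := fun K L hL hKL => Nat.card_congr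
    { toFun := fun n => ⟨u * ((n : ↥Cfsg.M24) : Equiv.Perm Cfsg.GolayPt) * u⁻¹, (hKL n).1 n.2⟩
      invFun := fun y => ⟨⟨u⁻¹ * y * u, mul_mem (mul_mem (inv_mem hu) (hL y.2)) hu⟩, (hKL _).2 (by
        show u * (u⁻¹ * y.1 * u) * u⁻¹ ∈ L
        rw [show u * (u⁻¹ * y.1 * u) * u⁻¹ = y.1 by group]; exact y.2)⟩
      left_inv := fun n => Subtype.ext (Subtype.ext (by
        show u⁻¹ * (u * ((n : ↥Cfsg.M24) : Equiv.Perm Cfsg.GolayPt) * u⁻¹) * u = _; group))
      right_inv := fun y => Subtype.ext (by show u * (u⁻¹ * y.1 * u) * u⁻¹ = _; group) }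
  refine ⟨?_, ?_, ?_, u⁻¹ • mset CentData.trio7, (smul_mem_trios (inv_mem hu)).2 trio7_mem, fun n hn => ?_⟩
  · rw [hcount _ nz inf_le_left hN, card_nz]
  · rw [hcount _ (cz R) inf_le_left hC, card_cz_R.1]
  · obtain ⟨x, hx, y, hy, hxy⟩ := card_cz_R.2
    have lift : ∀ z ∈ cz R, ∃ w ∈ Subgroup.centralizer (S : Set ↥Cfsg.M24),
        ((w : ↥Cfsg.M24) : Equiv.Perm Cfsg.GolayPt) = u⁻¹ * z * u := fun z hz =>
      ⟨⟨u⁻¹ * z * u, mul_mem (mul_mem (inv_mem hu) (mem_cz.1 hz).1) hu⟩, (hC _).2 (by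
        show u * (u⁻¹ * z * u) * u⁻¹ ∈ cz R
        rw [show u * (u⁻¹ * z * u) * u⁻¹ = z by group]; exact hz), rfl⟩
    obtain ⟨x', hx', hxe⟩ := lift x hx
    obtain ⟨y', hy', hye⟩ := lift y hy
    refine ⟨x', hx', y', hy', fun e => hxy ?_⟩
    have e' := congrArg Subtype.val e
    simp only [Subgroup.coe_mul, hxe, hye] at e'
    calc x * y = u * (u⁻¹ * x * u * (u⁻¹ * y * u)) * u⁻¹ := by group
      _ = u * (u⁻¹ * y * u * (u⁻¹ * x * u)) * u⁻¹ := by rw [e']
      _ = y * x := by group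
  · have h1 := nz_fix_trio ((hN n).1 hn)
    rw [mul_smul, mul_smul, eq_comm, ← inv_smul_eq_iff, eq_comm] at h1
    exact h1

end Cfsg.Agent.S5604
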