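import Cfsg.Statements.S4456
import Cfsg.Agent.Lib.Glauberman.ResidualSum

set_option autoImplicit false
open Cfsg

namespace Cfsg.Agent.S4456

/-- If every nonlinear irreducible character degree is divisible by p, then G has a normal p-complement. -/
theorem result {G : Type*} [Group G] [Finite G] (p : ℕ) (hp : p.Prime) (hdeg : ∀ χ : Cfsg.IrrCharacter G, Cfsg.charDegree (χ : G → ℂ) ≠ 1 → p ∣ Cfsg.charDegree (χ : G → ℂ)) : ∃ N : Subgroup G, N.Normal ∧ (Nat.card N).Coprime p ∧ ∃ k : ℕ, N.index = p ^ k := by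
  haveI : Fact p.Prime := ⟨hp⟩
  haveI : (Cfsg.pResidual p G).Normal := CfsgLib.LocalStr.pResidual_normal G p
  exact ⟨_, inferInstance, ((hp.coprime_iff_not_dvd).2
    (CfsgLib.Glauberman.not_dvd_card_residual hdeg)).symm,
    IsPGroup.iff_card.1 (CfsgLib.LocalStr.isPGroup_quotient_pResidual G p)⟩

end Cfsg.Agent.S4456
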