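import Cfsg.Statements.S2999
import Cfsg.Agent.Lib.LocalEven.PairSplit
import Cfsg.Agent.Lib.PLocal.Replacement
import Cfsg.Agent.Lib.PLocal.Quadratic
import Cfsg.Agent.Lib.PLocal.Unipotent

set_option autoImplicit false
open Cfsg
open scoped commutatorElement

namespace Cfsg.Agent.S2999

/-- Let p be a prime and let P and V be subgroups of a finite group with V elementary abelian, P normalizing V and acting faithfully on it (P ∩ C(V) = 1). Suppose P is p-minimal (a Sylow p-subgroup T of P is not normal and lies in a unique maximal subgroup M of P) and A ≤ T is an elementary abelian subgroup such that: |V/C_V(A)| ≤ |A| while |A₀|·|C_V(A₀)| < |A|·|C_V(A)| for every nontrivial proper subgroup A₀ of A; [C_V(T), P] ≠ 1; and P = ⟨A, xAx⁻¹⟩ for every x ∈ P outside M. Then, with q = |A|, there is a field F with q elements such that P ≅ SL₂(F), C_V(A) = [V, A]·C_V(P), and P acts on V/C_V(P) as SL₂(F) on its natural two-dimensional module. -/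
theorem result {G : Type*} [Group G] [Finite G] {p : ℕ} [Fact p.Prime] (V P : Subgroup G) (hV : Cfsg.IsElementaryAbelian p V) (hPV : P ≤ Subgroup.normalizer (V : Set G)) (hfaith : P ⊓ Subgroup.centralizer (V : Set G) = ⊥) (hmin : Cfsg.IsPMinimal p ↥P) (T : Sylow p ↥P) (M : Subgroup ↥P) (hM : IsCoatom M) (hTM : (T : Subgroup ↥P) ≤ M) (A : Subgroup G) (hAT : A ≤ ((T : Subgroup ↥P).map P.subtype)) (hAel : Cfsg.IsElementaryAbelian p A) (hi : Nat.card ↥V ≤ Nat.card ↥A * Nat.card ↥(V ⊓ Subgroup.centralizer ((A : Subgroup G) : Set G)) ∧ ∀ A₀ : Subgroup G, A₀ ≤ A → A₀ ≠ ⊥ → A₀ ≠ A → Nat.card ↥A₀ * Nat.card ↥(V ⊓ Subgroup.centralizer ((A₀ : Subgroup G) : Set G)) < Nat.card ↥A * Nat.card ↥(V ⊓ Subgroup.centralizer ((A : Subgroup G) : Set G))) (hii : ⁅(V ⊓ Subgroup.centralizer ((((T : Subgroup ↥P).map P.subtype) : Subgroup G) : Set G)), P⁆ ≠ ⊥) (hiii : ∀ x : ↥P, x ∉ M → A ⊔ A.map (MulAut.conj (x : G)).toMonoidHom = P) : ∃ (F : Type) (_ : Field F) (_ : Fintype F), Fintype.card F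 = Nat.card ↥A ∧ Nonempty (↥P ≃* Matrix.SpecialLinearGroup (Fin 2) F) ∧ (V ⊓ Subgroup.centralizer ((A : Subgroup G) : Set G)) = ⁅V, A⁆ ⊔ (V ⊓ Subgroup.centralizer ((P : Subgroup G) : Set G)) ∧ Cfsg.ActsAsSL2OnSection F ⊤ P V (V ⊓ Subgroup.centralizer ((P : Subgroup G) : Set G)) := by
  classical
  have hp : p.Prime := Fact.out
  set T' := (T : Subgroup P).map P.subtype with hT'
  have hT'P : T' ≤ P := Subgroup.map_subtype_le _
  have hAP : A ≤ P := hAT.trans hT'P
  have hAV : A ≤ Subgroup.normalizer (V : Set G) := hAP.trans hPV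
  set A' := A.subgroupOf P with hA'
  have hA'T : A' ≤ (T : Subgroup P) := by
    intro a ha
    obtain ⟨t, ht, e⟩ := hAT (Subgroup.mem_subgroupOf.mp ha)
    rwa [← Subtype.ext (a1 := t) (a2 := a) e]
  have hA'map : A'.map P.subtype = A := by
    rw [hA', Subgroup.subgroupOf_map_subtype, inf_eq_left.mpr hAP]
  obtain ⟨hTn, M', ⟨hM'c, hTM'⟩, hM'u⟩ := hmin T
  obtain rfl : M = M' := hM'u M ⟨hM, hTM⟩
  have huniq : ∀ R : Subgroup P, (T : Subgroup P) ≤ R → R ≠ ⊤ → R ≤ M := by
    intro R hTR hR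
    obtain h | ⟨N, hN, hRN⟩ := eq_top_or_exists_le_coatom R
    · exact absurd h hR
    · exact hM'u N ⟨hN, hTR.trans hRN⟩ ▸ hRN
  have hgen : ∀ x : P, x ∉ M → A' ⊔ A'.map (MulAut.conj x).toMonoidHom = ⊤ := by
    intro x hx
    apply Subgroup.map_injective P.subtype_injective
    rw [Subgroup.map_sup, hA'map, ← MonoidHom.range_eq_map, Subgroup.range_subtype]
    refine Eq.trans ?_ (hiii x hx)
    congr 1
    rw [Subgroup.map_map, show P.subtype.comp (MulAut.conj x).toMonoidHom =
      (MulAut.conj (x : G)).toMonoidHom.comp P.subtype from rfl, ← Subgroup.map_map, hA'map]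
  have hA'ne : A' ≠ ⊥ := by
    intro h
    obtain ⟨x, hx⟩ : ∃ x : P, x ∉ M := by
      by_contra hcon
      push Not at hcon
      exact hM.1 (top_le_iff.mp fun y _ => hcon y)
    have h2 := hgen x hx
    rw [h, Subgroup.map_bot, bot_sup_eq] at h2
    exact hM.1 (top_le_iff.mp (h2.ge.trans bot_le))
  have hA1 : A ≠ ⊥ := fun h => hA'ne (by rw [hA', h, Subgroup.bot_subgroupOf])
  have hcard : ∀ H : Subgroup G, H ≤ P → Nat.card (H.subgroupOf P) = Nat.card H := fun H hH =>
    Nat.card_congr (Subgroup.subgroupOfEquivOfLe hH).toEquiv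
  have hconjfix : ∀ (v a : G), a * v * a⁻¹ = v ↔ a * v = v * a := fun v a => mul_inv_eq_iff_eq_mul
  -- `A` is quadratic
  have hAA : ⁅A, A⁆ = ⊥ := Subgroup.commutator_self_eq_bot_iff.mpr hAel.1
  have hbest : Cfsg.IsBestOffenderOn p V A := by
    refine ⟨fun B hB => ?_, by rw [hAA]; exact bot_le, fun a ha => by
      rw [hAel.2 a ha]; exact one_mem _⟩
    rcases eq_or_ne B ⊥ with rfl | hB0
    · rw [Subgroup.card_bot, one_mul]
      exact le_trans (Nat.le_of_dvd Nat.card_pos (Subgroup.card_dvd_of_le inf_le_left)) hi.1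
    rcases eq_or_ne B A with rfl | hBA
    · exact le_rfl
    · exact (hi.2 B hB hB0 hBA).le
  have hquad' : ⁅V, A⁆ ≤ Subgroup.centralizer (A : Set G) := by
    obtain ⟨-, h1, h2⟩ := CfsgLib.PLocal.bestOffender_replacement hV.1 hAV hbest (U := V) le_rfl
    set A0 := A ⊓ Subgroup.centralizer ((⁅V, A⁆ : Subgroup G) : Set G) with hA0
    rcases eq_or_ne A0 A with h | h
    · rw [Subgroup.le_centralizer_iff]
      exact h.ge.trans inf_le_right
    exfalso
    rcases eq_or_ne A0 ⊥ with h0 | h0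
    swap
    · exact (hi.2 A0 inf_le_left h0 h).ne h2
    rw [h0, Subgroup.coe_bot] at h1
    have hWV : ⁅V, A⁆ ≤ V := CfsgLib.PLocal.commutator_le_of_le_normalizer hAV
    have hVsup : V ≤ ⁅V, A⁆ ⊔ (V ⊓ Subgroup.centralizer (A : Set G)) := by
      rw [← h1]
      exact fun v hv => ⟨hv, fun w hw => by rw [Set.mem_singleton_iff.mp hw, one_mul, mul_one]⟩
    have hle : ⁅V, A⁆ ≤ ⁅⁅V, A⁆, A⁆ := by
      refine Subgroup.commutator_le.mpr fun v hv a ha => ?_
      have hWA : ⁅⁅V, A⁆, A⁆ ≤ V := (Subgroup.commutator_mono hWV le_rfl).trans hWV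
      have key : v ∈ V ∧ ⁅v, a⁆ ∈ ⁅⁅V, A⁆, A⁆ := by
        have hv' := hVsup hv
        clear hv
        rw [Subgroup.sup_eq_closure] at hv'
        induction hv' using Subgroup.closure_induction with
        | mem y hy =>
          rcases hy with hy | hy
          · exact ⟨hWV hy, Subgroup.commutator_mem_commutator hy ha⟩
          · refine ⟨hy.1, ?_⟩
            rw [commutatorElement_eq_one_iff_mul_comm.mpr (hy.2 a ha).symm]
            exact one_mem _
        | one => exact ⟨V.one_mem, by rw [commutatorElement_one_left]; exact one_mem _⟩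
        | mul y y' _ _ hy hy' =>
          refine ⟨mul_mem hy.1 hy'.1, ?_⟩
          have e : ⁅y * y', a⁆ = y * ⁅y', a⁆ * y⁻¹ * ⁅y, a⁆ := by
            simp only [commutatorElement_def]; group
          rw [e, show y * ⁅y', a⁆ * y⁻¹ = ⁅y', a⁆ by
            rw [CfsgLib.PLocal.commute_of_mem_comm hV.1 hy.1 (hWA hy'.2), mul_inv_cancel_right]]
          exact mul_mem hy'.2 hy.2
        | inv y _ hy =>
          refine ⟨inv_mem hy.1, ?_⟩
          have e : ⁅y⁻¹, a⁆ = y⁻¹ * ⁅y, a⁆⁻¹ * y := by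
            simp only [commutatorElement_def]; group
          rw [e, CfsgLib.PLocal.commute_of_mem_comm hV.1 (inv_mem hy.1) (inv_mem (hWA hy.2)),
            inv_mul_cancel_right]
          exact inv_mem hy.2
      exact key.2
    have heq : ⁅⁅V, A⁆, A⁆ = ⁅V, A⁆ := by
      refine le_antisymm ?_ hle
      exact Subgroup.commutator_mono hWV le_rfl
    have hnW : A ≤ Subgroup.normalizer ((⁅V, A⁆ : Subgroup G) : Set G) :=
      Subgroup.le_normalizer_iff_commutator_le_left.mpr heq.le
    have hbot := CfsgLib.PLocal.eq_bot_of_commutator_eq_self_pgroup (p := p)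
      (CfsgLib.PLocal.isEA_isPGroup (CfsgLib.PLocal.isEA_mono hV hWV))
      (CfsgLib.PLocal.isEA_isPGroup hAel) hnW heq
    refine hA1 (le_bot_iff.mp (le_trans (le_inf hAP ?_) hfaith.le))
    rw [Subgroup.le_centralizer_iff]
    exact Subgroup.commutator_eq_bot_iff_le_centralizer.mp hbot
  -- the module
  let _ : CommGroup V := { (inferInstance : Group V) with mul_comm := fun a b => hV.1.is_comm.comm a b }
  have hmem : ∀ (c : P) (v : V), (c : G) * v * (c : G)⁻¹ ∈ V := fun c v =>
    (Subgroup.mem_normalizer_iff.mp (hPV c.2) _).mp v.2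
  let ρ₀ : P → AddMonoid.End (Additive V) := fun c =>
    AddMonoidHom.mk' (fun v => Additive.ofMul ⟨_, hmem c v.toMul⟩) fun v w => by
      apply Additive.toMul.injective
      apply Subtype.ext
      simp [mul_assoc]
  let ρ : P →* AddMonoid.End (Additive V) :=
    { toFun := ρ₀
      map_one' := by
        refine AddMonoidHom.ext fun v => ?_
        apply Additive.toMul.injective
        apply Subtype.ext
        show ((1 : P) : G) * v.toMul * ((1 : P) : G)⁻¹ = v.toMul
        simp
      map_mul' := fun x y => by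
        refine AddMonoidHom.ext fun v => ?_
        apply Additive.toMul.injective
        apply Subtype.ext
        show ((x * y : P) : G) * v.toMul * ((x * y : P) : G)⁻¹ =
          (x : G) * ((y : G) * v.toMul * (y : G)⁻¹) * (x : G)⁻¹
        simp [mul_assoc] }
  have hρ : ∀ (c : P) (v : Additive V), (((ρ c v).toMul : V) : G) = (c : G) * v.toMul * (c : G)⁻¹ :=
    fun c v => rfl
  have hext : ∀ v w : Additive V, ((v.toMul : V) : G) = ((w.toMul : V) : G) → v = w :=
    fun v w h => Additive.toMul.injective (Subtype.ext h)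
  have hfix : ∀ H : Subgroup G, H ≤ P → ∀ v : Additive V,
      v ∈ CfsgLib.LocalEven.Pair.fix ρ (H.subgroupOf P) ↔
        ((v.toMul : V) : G) ∈ Subgroup.centralizer (H : Set G) := by
    intro H hH v
    constructor
    · intro h a ha
      have h1 := congrArg (fun u : Additive V => ((u.toMul : V) : G))
        (h ⟨a, hH ha⟩ (Subgroup.mem_subgroupOf.mpr ha))
      exact (hconjfix _ _).mp h1
    · intro h a ha
      exact hext _ _ ((hconjfix _ _).mpr (h a (Subgroup.mem_subgroupOf.mp ha)))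
  have hfixcard : ∀ H : Subgroup G, H ≤ P →
      Nat.card (CfsgLib.LocalEven.Pair.fix ρ (H.subgroupOf P)) =
        Nat.card ↥(V ⊓ Subgroup.centralizer (H : Set G)) := fun H hH =>
    Nat.card_congr
      { toFun := fun v => ⟨((v.1.toMul : V) : G), Subgroup.mem_inf.mpr ⟨v.1.toMul.2, (hfix H hH v.1).mp v.2⟩⟩
        invFun := fun u => ⟨Additive.ofMul ⟨u.1, (Subgroup.mem_inf.mp u.2).1⟩,
          (hfix H hH _).mpr (Subgroup.mem_inf.mp u.2).2⟩
        left_inv := fun v => rfl
        right_inv := fun u => rfl }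
  have hfixP : ∀ v : Additive V, v ∈ CfsgLib.LocalEven.Pair.fix ρ (⊤ : Subgroup P) ↔
      ((v.toMul : V) : G) ∈ Subgroup.centralizer (P : Set G) := fun v => by
    rw [← Subgroup.subgroupOf_self, hfix P le_rfl]
  obtain ⟨z, hzV, hzT, hzP⟩ : ∃ z, z ∈ V ∧ z ∈ Subgroup.centralizer (T' : Set G) ∧
      z ∉ Subgroup.centralizer (P : Set G) := by
    by_contra hcon
    push Not at hcon
    refine hii (Subgroup.commutator_eq_bot_iff_le_centralizer.mpr fun z hz => ?_)
    exact hcon z (Subgroup.mem_inf.mp hz).1 (Subgroup.mem_inf.mp hz).2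
  have hmem' : ∀ {a : P}, a ∈ A' → (a : G) ∈ A := fun {a} h => Subgroup.mem_subgroupOf.mp h
  obtain ⟨hFA, F, iF, iFt, hcF, e, ψ, hψ⟩ := CfsgLib.LocalEven.Pair.exists_SL2_of_offender
    (p := p) (A := A') (M := M) ρ T hTn hM hTM huniq hA'ne hA'T
    (fun v => hext _ _ (by
      rw [toMul_nsmul, toMul_zero, Subgroup.coe_pow, OneMemClass.coe_one]
      exact hV.2 _ v.toMul.2))
    (fun h hh => Subtype.ext (Subgroup.mem_bot.mp (hfaith ▸ Subgroup.mem_inf.mpr ⟨h.2, fun v hv =>
      ((hconjfix _ _).mp (congrArg (fun u : Additive V => ((u.toMul : V) : G))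
        (hh (Additive.ofMul ⟨v, hv⟩)))).symm⟩)))
    (fun a ha a' ha' v => by
      apply hext
      rw [hρ, toMul_sub, Subgroup.coe_div, hρ, div_eq_mul_inv]
      refine (hconjfix _ _).mpr (hquad' ?_ _ (hmem' ha'))
      have h1 := inv_mem (Subgroup.commutator_mem_commutator (v.toMul).2 (hmem' ha))
      rwa [commutatorElement_inv, commutatorElement_def] at h1)
    (by rw [hA', hcard A hAP, hfixcard A hAP]; exact hi.1)
    (fun A₀ hle h0 hne => by
      have h0le : A₀.map P.subtype ≤ A := hA'map ▸ Subgroup.map_mono hle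
      have he : A₀ = (A₀.map P.subtype).subgroupOf P :=
        (Subgroup.comap_map_eq_self_of_injective P.subtype_injective A₀).symm
      rw [hA', hcard A hAP, hfixcard A hAP, he, hcard _ (h0le.trans hAP),
        hfixcard _ (h0le.trans hAP)]
      exact hi.2 _ h0le (fun h => h0 ((Subgroup.map_eq_bot_iff_of_injective _ P.subtype_injective).mp h))
        fun h => hne (by rw [he, h]))
    hgen
    (z := Additive.ofMul ⟨z, hzV⟩)
    (by
      intro t ht
      exact hext _ _ ((hconjfix _ _).mpr (hzT _ ⟨t, ht, rfl⟩)))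
    (fun h => hzP ((hfixP _).mp h))
  refine ⟨F, iF, iFt, by rw [hcF, hA', hcard A hAP], ⟨e⟩, ?_, ?_⟩
  · refine le_antisymm (fun v hv => ?_) (sup_le (le_inf (CfsgLib.PLocal.commutator_le_of_le_normalizer hAV) hquad')
      (le_inf inf_le_left (inf_le_right.trans (Subgroup.centralizer_le hAP))))
    obtain ⟨hvV, hvA⟩ := Subgroup.mem_inf.mp hv
    have h1 := hFA (Additive.ofMul ⟨v, hvV⟩) ((hfix A hAP _).mpr hvA)
    obtain ⟨y, hy, c, hc, hyc⟩ := AddSubgroup.mem_sup.mp h1
    have e' : v = ((y.toMul : V) : G) * ((c.toMul : V) : G) :=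
      (congrArg (fun u : Additive V => ((u.toMul : V) : G)) hyc).symm
    have hy' : ((y.toMul : V) : G) ∈ ⁅V, A⁆ := by
      clear e' hyc
      induction hy using AddSubgroup.closure_induction with
      | mem y hy =>
        obtain ⟨a, ha, w, rfl⟩ := hy
        rw [toMul_sub, Subgroup.coe_div, hρ, div_eq_mul_inv]
        have h1 := inv_mem (Subgroup.commutator_mem_commutator (w.toMul).2 (hmem' ha))
        rwa [commutatorElement_inv, commutatorElement_def] at h1
      | zero => exact one_mem _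
      | add y y' _ _ hy hy' => exact mul_mem hy hy'
      | neg y _ hy => exact inv_mem hy
    rw [e']
    exact Subgroup.mul_mem_sup hy' (Subgroup.mem_inf.mpr ⟨c.toMul.2, (hfixP c).mp hc⟩)
  · refine ⟨hPV, inf_le_left, e.toMonoidHom,
      MonoidHom.mk' (fun u => Multiplicative.ofAdd (ψ (Additive.ofMul u : Additive V)))
        (fun u w => by rw [ofMul_mul, QuotientAddGroup.mk_add, map_add, ofAdd_add]),
      MonoidHom.range_eq_top.mpr e.surjective, fun c => ?_, fun u => ?_, fun c u => ?_⟩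
    · obtain ⟨v, hv⟩ := QuotientAddGroup.mk_surjective (ψ.symm c.toAdd)
      refine ⟨v.toMul, ?_⟩
      show Multiplicative.ofAdd (ψ (v : Additive V ⧸ _)) = c
      rw [hv, AddEquiv.apply_symm_apply, ofAdd_toAdd]
    · show Multiplicative.ofAdd (ψ (Additive.ofMul u : Additive V)) = 1 ↔ _
      rw [ofAdd_eq_one, map_eq_zero_iff _ ψ.injective, QuotientAddGroup.eq_zero_iff, hfixP,
        Subgroup.mem_inf]
      exact ⟨fun h => ⟨u.2, h⟩, fun h => h.2⟩
    · exact ⟨⟨_, hmem c u⟩, rfl, hψ c (Additive.ofMul u)⟩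

end Cfsg.Agent.S2999
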