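import Cfsg.Statements.S4742
import Cfsg.Agent.Lib.Blk83.PairCount

set_option autoImplicit false
open Cfsg

namespace Cfsg.Agent.S4742

/-- Let p ≠ q be primes dividing the order of the finite group G, and suppose the centralizer of every non-identity p-element of G has order prime to q. Then either G has an irreducible character of p-defect zero, or for every non-identity q-element z of G there are conjugates g, h of z such that g h⁻¹ is a non-identity p-element. -/
theorem result {G : Type*} [Group G] [Finite G] (p q : ℕ) [Fact p.Prime] [Fact q.Prime] (hppq : p ≠ q) (hpG : p ∣ Nat.card G) (hqG : q ∣ Nat.card G) (hC : ∀ g : G, g ≠ 1 → (∃ k : ℕ, orderOf g = p ^ k) → ¬ q ∣ Nat.card ↥(Subgroup.centralizer ({g} : Set G))) : (∃ χ : Cfsg.IrrCharacter G, (Cfsg.charDegree (χ : G → ℂ)).factorization p = (Nat.card G).factorization p) ∨ ∀ z : G, z ≠ 1 → (∃ k : ℕ, orderOf z = q ^ k) → ∃ g h : G, IsConj z g ∧ IsConj z h ∧ g * h⁻¹ ≠ 1 ∧ ∃ k : ℕ, orderOf (g * h⁻¹) = p ^ k := by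
  classical
  have hp : p.Prime := Fact.out
  by_contra hcon
  obtain ⟨hnd, hcon⟩ := not_or.mp hcon
  obtain ⟨z, hz⟩ := not_forall.mp hcon
  obtain ⟨hz1, hz⟩ := Classical.not_imp.mp hz
  obtain ⟨hzq, hz⟩ := Classical.not_imp.mp hz
  obtain ⟨P⟩ := (inferInstance : Nonempty (Sylow p G))
  have ha : (Nat.card ↥(Subgroup.centralizer ({z} : Set G))).factorization p = 0 := by
    refine Nat.factorization_eq_zero_of_not_dvd fun hdvd => ?_
    obtain ⟨⟨g, hg⟩, hgo⟩ := exists_prime_orderOf_dvd_card' p hdvd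
    rw [← Subgroup.orderOf_coe] at hgo
    refine hC g ?_ ⟨1, by simpa using hgo⟩ ?_
    · rintro rfl
      simp only [orderOf_one] at hgo
      exact hp.one_lt.ne hgo
    · obtain ⟨k, hk⟩ := hzq
      have hzmem : z ∈ Subgroup.centralizer ({g} : Set G) :=
        Subgroup.mem_centralizer_singleton_iff.mpr (Subgroup.mem_centralizer_singleton_iff.mp hg).symm
      have h1 : orderOf z ∣ Nat.card ↥(Subgroup.centralizer ({g} : Set G)) := by
        have := orderOf_dvd_natCard (⟨z, hzmem⟩ : ↥(Subgroup.centralizer ({g} : Set G)))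
        rwa [← Subgroup.orderOf_coe] at this
      refine dvd_trans ?_ h1
      rw [hk]
      refine dvd_pow_self q ?_
      rintro rfl
      rw [pow_zero, orderOf_eq_one_iff] at hk
      exact hz1 hk
  obtain ⟨c, hc⟩ := IsPGroup.iff_card.mp P.isPGroup'
  obtain ⟨χ, hχ⟩ := CfsgLib.Blk83.exists_pow_dvd_degree p z (P : Subgroup G) c 0 hc ha (by
    intro b w hw hconj
    by_contra hw1
    apply hz
    refine ⟨b * z * b⁻¹ * w, b * z * b⁻¹, hconj, isConj_iff.mpr ⟨b, rfl⟩, ?_, ?_⟩
    · intro h
      apply hw1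
      have h2 := congrArg (fun t => (b * z * b⁻¹)⁻¹ * t * (b * z * b⁻¹)) h
      group at h2
      simpa using h2
    · obtain ⟨k, hk⟩ := IsPGroup.iff_orderOf.mp P.isPGroup' ⟨w, hw⟩
      refine ⟨k, ?_⟩
      rw [← hk, ← Subgroup.orderOf_coe]
      exact orderOf_injective (MulAut.conj (b * z * b⁻¹)).toMonoidHom (MulAut.conj (b * z * b⁻¹)).injective w)
  refine hnd ⟨χ, le_antisymm ?_ ?_⟩
  · exact (Nat.factorization_le_iff_dvd (CfsgLib.Blk83.deg_pos χ).ne' Nat.card_pos.ne').mpr (CfsgLib.Blk83.deg_dvd χ) p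
  · have hcard : c = (Nat.card G).factorization p := by
      have h1 : p ^ (Nat.card G).factorization p = p ^ c := by rw [← hc]; exact P.card_eq_multiplicity.symm
      exact (Nat.pow_right_injective hp.two_le h1).symm
    rw [← hcard]
    simpa using (hp.pow_dvd_iff_le_factorization (CfsgLib.Blk83.deg_pos χ).ne').mp hχ

end Cfsg.Agent.S4742
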