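import Cfsg.Statements.S4744
import Cfsg.Agent.S4742
import Mathlib.GroupTheory.FixedPointFree
import Mathlib.GroupTheory.Nilpotent
import Mathlib.Algebra.Group.Subgroup.Finite

set_option autoImplicit false
open Cfsg

namespace Cfsg.Agent.S4744

/-- The structure forced by an involution inverting a nontrivial `p`-element. -/
theorem sylow_even {G : Type*} [Group G] [Finite G] (p : ℕ) [Fact p.Prime]
    (hC : ∀ g : G, g ≠ 1 → (∃ k : ℕ, orderOf g = p ^ k) →
      Odd (Nat.card ↥(Subgroup.centralizer ({g} : Set G))))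
    (g : G) (hgo : orderOf g = 2) (y : G) (hy1 : y ≠ 1) (hy : ∃ k : ℕ, orderOf y = p ^ k)
    (hinv : g * y * g⁻¹ = y⁻¹) (P : Sylow p G) :
    Even (Nat.card ↥(Subgroup.normalizer ((P : Subgroup G) : Set G))) ∧ IsMulCommutative ↥(P : Subgroup G) := by
  classical
  have hp : p.Prime := Fact.out
  have hgg : g * g = 1 := by simpa [pow_two, hgo] using pow_orderOf_eq_one g
  let S : Set (Subgroup G) := {Q | IsPGroup p Q ∧ y ∈ Q ∧ ∀ x ∈ Q, g * x * g⁻¹ = x⁻¹}
  have hS : (Subgroup.zpowers y) ∈ S := by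
    obtain ⟨k, hk⟩ := hy
    refine ⟨IsPGroup.of_card (n := k) (by rw [Nat.card_zpowers, hk]), Subgroup.mem_zpowers y, ?_⟩
    intro x hx
    obtain ⟨i, rfl⟩ := Subgroup.mem_zpowers_iff.mp hx
    rw [← conj_zpow, hinv, inv_zpow]
  obtain ⟨Q, ⟨hQp, hyQ, hQinv⟩, hQmax⟩ :=
    Set.Finite.exists_maximalFor (fun Q : Subgroup G => Nat.card Q) S (Set.toFinite S) ⟨_, hS⟩
  have hcomm : ∀ a ∈ Q, ∀ b ∈ Q, a * b = b * a := by
    intro a ha b hb
    have h1 := hQinv (a * b) (Q.mul_mem ha hb)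
    have h2 : g * (a * b) * g⁻¹ = a⁻¹ * b⁻¹ := by
      rw [← hQinv a ha, ← hQinv b hb]; group
    rw [h2, mul_inv_rev] at h1
    simpa using congrArg Inv.inv h1.symm
  set C := Subgroup.centralizer (Q : Set G) with hCdef
  have hQC : Q ≤ C := fun a ha => Subgroup.mem_centralizer_iff.mpr fun b hb => hcomm b hb a ha
  have hCodd : Odd (Nat.card C) := by
    refine (hC y hy1 hy).of_dvd_nat (Subgroup.card_dvd_of_le ?_)
    exact Subgroup.centralizer_le (Set.singleton_subset_iff.mpr hyQ)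
  have hgN : g ∈ Subgroup.normalizer (Q : Set G) := by
    rw [Subgroup.mem_normalizer_iff]
    intro x
    refine ⟨fun hx => (hQinv x hx).symm ▸ Q.inv_mem hx, fun hx => ?_⟩
    have h1 : g * (g * x * g⁻¹) * g⁻¹ = x := by
      calc g * (g * x * g⁻¹) * g⁻¹ = (g * g) * x * (g * g)⁻¹ := by group
        _ = x := by rw [hgg]; group
    rw [← h1]
    exact (hQinv _ hx).symm ▸ Q.inv_mem hx
  have hCnorm : ∀ n ∈ Subgroup.normalizer (Q : Set G), ∀ a ∈ C, n * a * n⁻¹ ∈ C := by
    intro n hn a ha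
    rw [hCdef, Subgroup.mem_centralizer_iff]
    intro b hb
    have hb' : n⁻¹ * b * n ∈ Q := by
      have := (Subgroup.mem_normalizer_iff.mp (Subgroup.inv_mem _ hn) b).mp hb
      simpa using this
    have := Subgroup.mem_centralizer_iff.mp ha _ hb'
    calc b * (n * a * n⁻¹) = n * ((n⁻¹ * b * n) * a) * n⁻¹ := by group
      _ = n * (a * (n⁻¹ * b * n)) * n⁻¹ := by rw [this]
      _ = n * a * n⁻¹ * b := by group
  have hpC : ¬ p ∣ Nat.card ↥(Subgroup.centralizer ({g} : Set G)) := by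
    intro hdvd
    obtain ⟨⟨w, hw⟩, hwo⟩ := exists_prime_orderOf_dvd_card' p hdvd
    rw [← Subgroup.orderOf_coe] at hwo
    have hodd := hC w (fun h => by
      simp only [h, orderOf_one] at hwo
      exact hp.one_lt.ne hwo) ⟨1, by simpa using hwo⟩
    have hmem : g ∈ Subgroup.centralizer ({w} : Set G) :=
      Subgroup.mem_centralizer_singleton_iff.mpr (Subgroup.mem_centralizer_singleton_iff.mp hw).symm
    have h2 := orderOf_dvd_natCard (⟨g, hmem⟩ : ↥(Subgroup.centralizer ({w} : Set G)))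
    rw [← Subgroup.orderOf_coe] at h2
    exact (Nat.not_even_iff_odd.mpr hodd) (even_iff_two_dvd.mpr (hgo ▸ h2))
  -- `g` permutes the Sylow `p`-subgroups of `C`, an odd number, so fixes one
  let φ : MulAut C :=
    { toFun := fun a => ⟨g * a * g⁻¹, hCnorm g hgN a a.2⟩
      invFun := fun a => ⟨g * a * g⁻¹, hCnorm g hgN a a.2⟩
      left_inv := fun a => Subtype.ext <| by
        calc g * (g * (a : G) * g⁻¹) * g⁻¹ = (g * g) * a * (g * g)⁻¹ := by group
          _ = a := by rw [hgg]; group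
      right_inv := fun a => Subtype.ext <| by
        calc g * (g * (a : G) * g⁻¹) * g⁻¹ = (g * g) * a * (g * g)⁻¹ := by group
          _ = a := by rw [hgg]; group
      map_mul' := fun a b => Subtype.ext <| by
        change g * ((a : G) * b) * g⁻¹ = (g * a * g⁻¹) * (g * b * g⁻¹)
        group }
  have hφφ : Function.Involutive φ := fun a => φ.left_inv a
  obtain ⟨R, hRfix⟩ : ∃ R : Sylow p C, φ • R = R := by
    let f : Equiv.Perm (Sylow p C) := MulAction.toPerm φ
    have hf : Function.Involutive f := fun R => by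
      have h1 : φ * φ = 1 := MulEquiv.ext hφφ
      change φ • φ • R = R
      rw [smul_smul, h1, one_smul]
    haveI := Fintype.ofFinite (Sylow p C)
    have hodd : ¬ 2 ∣ Fintype.card (Sylow p C) := by
      rw [← Nat.card_eq_fintype_card, Nat.two_dvd_ne_zero, ← Nat.odd_iff]
      exact hCodd.of_dvd_nat ((default : Sylow p C).card_dvd_index.trans (Subgroup.index_dvd_card _))
    obtain ⟨R, hR⟩ := Equiv.Perm.exists_fixed_point_of_prime (p := 2) (n := 1) hodd (σ := f) (by
      rw [pow_one, pow_two]; exact Equiv.ext hf)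
    exact ⟨R, hR⟩
  have hQR : ∀ a (ha : a ∈ Q), (⟨a, hQC ha⟩ : C) ∈ (R : Subgroup C) := by
    intro a ha
    haveI : (Q.subgroupOf C).Normal := ⟨fun b hb c => by
      rw [Subgroup.mem_subgroupOf] at hb ⊢
      have hcom : (c : G) * b * (c : G)⁻¹ = b := by
        rw [← Subgroup.mem_centralizer_iff.mp c.2 _ hb, mul_assoc, mul_inv_cancel, mul_one]
      simp only [Subgroup.coe_mul, Subgroup.coe_inv, hcom]
      exact hb⟩
    have hp' : IsPGroup p (Q.subgroupOf C) := hQp.comap_of_injective _ (Subgroup.subtype_injective _)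
    obtain ⟨R', hR'⟩ := hp'.exists_le_sylow
    obtain ⟨c, rfl⟩ := MulAction.exists_smul_eq C R' R
    refine Subgroup.mem_map.mpr ⟨⟨a, hQC ha⟩, hR' ha, ?_⟩
    exact Subtype.ext (by
      have := Subgroup.mem_centralizer_iff.mp c.2 a ha
      simp [← this])
  set R' := (R : Subgroup C).map C.subtype with hR'def
  have hR'p : IsPGroup p R' := R.isPGroup'.map _
  have hR'inv : ∀ x ∈ R', g * x * g⁻¹ = x⁻¹ := by
    have hφR : ∀ a ∈ (R : Subgroup C), φ a ∈ (R : Subgroup C) := by
      intro a ha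
      rw [← hRfix]
      exact Subgroup.mem_map.mpr ⟨a, ha, rfl⟩
    let ψ : (R : Subgroup C) →* (R : Subgroup C) :=
      (φ.toMonoidHom.comp (R : Subgroup C).subtype).codRestrict _ fun a => hφR a a.2
    have hfree : MonoidHom.FixedPointFree ψ := by
      rintro ⟨⟨a, haC⟩, haR⟩ hfix
      have hfix' : g * a * g⁻¹ = a := congrArg (fun t : (R : Subgroup C) => ((t : C) : G)) hfix
      by_contra hne
      have ha1 : a ≠ 1 := fun h => hne (Subtype.ext (Subtype.ext h))
      obtain ⟨k, hk⟩ := IsPGroup.iff_orderOf.mp R.isPGroup' ⟨⟨a, haC⟩, haR⟩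
      rw [← Subgroup.orderOf_coe, ← Subgroup.orderOf_coe] at hk
      have hmem : g ∈ Subgroup.centralizer ({a} : Set G) :=
        Subgroup.mem_centralizer_singleton_iff.mpr (mul_inv_eq_iff_eq_mul.mp hfix')
      have h2 := orderOf_dvd_natCard (⟨g, hmem⟩ : ↥(Subgroup.centralizer ({a} : Set G)))
      rw [← Subgroup.orderOf_coe] at h2
      exact (Nat.not_even_iff_odd.mpr (hC a ha1 ⟨k, hk⟩)) (even_iff_two_dvd.mpr (hgo ▸ h2))
    have hψ : Function.Involutive ψ := fun a => Subtype.ext (hφφ a)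
    rintro x ⟨a, ha, rfl⟩
    have := congrFun (hfree.coe_eq_inv_of_involutive hψ) ⟨a, ha⟩
    exact congrArg (fun t : (R : Subgroup C) => ((t : C) : G)) this
  have hQR' : Q ≤ R' := fun a ha => ⟨⟨a, hQC ha⟩, hQR a ha, rfl⟩
  have hR'Q : R' = Q := by
    refine (Subgroup.eq_of_le_of_card_ge hQR' ?_).symm
    exact hQmax ⟨hR'p, hQR' hyQ, hR'inv⟩ (Nat.card_mono (Set.toFinite _) hQR')
  have hsyl : ∀ x : C, (∃ k : ℕ, orderOf x = p ^ k) → (x : G) ∈ Q := by
    rintro x ⟨k, hk⟩
    obtain ⟨R₂, hR₂⟩ := (IsPGroup.of_card (n := k) (by rw [Nat.card_zpowers, hk]) :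
      IsPGroup p (Subgroup.zpowers x)).exists_le_sylow
    obtain ⟨c, hc⟩ := MulAction.exists_smul_eq C R₂ R
    have hx2 : c * x * c⁻¹ ∈ (R : Subgroup C) := by
      rw [← hc]
      exact Subgroup.mem_map.mpr ⟨x, hR₂ (Subgroup.mem_zpowers x), rfl⟩
    have hxQ : (c : G) * x * (c : G)⁻¹ ∈ Q := hR'Q ▸ ⟨_, hx2, rfl⟩
    have := Subgroup.mem_centralizer_iff.mp c.2 _ hxQ
    have h2 : (x : G) = (c : G) * x * (c : G)⁻¹ := by
      calc (x : G) = (c : G)⁻¹ * ((c : G) * x * (c : G)⁻¹ * c) := by group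
        _ = (c : G) * x * (c : G)⁻¹ := by rw [this]; group
    rwa [h2]
  -- every `p`-element of `N(Q)` lies in `Q`
  have hNp : ∀ n ∈ Subgroup.normalizer (Q : Set G), (∃ k : ℕ, orderOf n = p ^ k) → n ∈ Q := by
    intro n hn ⟨k, hk⟩
    set c := g * (n * g * n⁻¹) with hc
    have hcC : c ∈ C := by
      rw [hCdef, Subgroup.mem_centralizer_iff]
      intro b hb
      have hb' : n⁻¹ * b * n ∈ Q := by
        have := (Subgroup.mem_normalizer_iff.mp (Subgroup.inv_mem _ hn) b).mp hb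
        simpa using this
      have hngn : n * g * n⁻¹ * b * (n * g * n⁻¹)⁻¹ = b⁻¹ := by
        calc n * g * n⁻¹ * b * (n * g * n⁻¹)⁻¹ = n * (g * (n⁻¹ * b * n) * g⁻¹) * n⁻¹ := by group
          _ = n * (n⁻¹ * b * n)⁻¹ * n⁻¹ := by rw [hQinv _ hb']
          _ = b⁻¹ := by group
      have h1 : c * b * c⁻¹ = b := by
        calc c * b * c⁻¹ = g * (n * g * n⁻¹ * b * (n * g * n⁻¹)⁻¹) * g⁻¹ := by rw [hc]; group
          _ = b := by rw [hngn, hQinv _ (Q.inv_mem hb), inv_inv]
      exact (mul_inv_eq_iff_eq_mul.mp h1).symm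
    have hcinv : g * c * g⁻¹ = c⁻¹ := by
      have hg' : g⁻¹ = g := inv_eq_of_mul_eq_one_right hgg
      rw [hc, mul_inv_rev, mul_inv_rev, mul_inv_rev, inv_inv, hg', ← mul_assoc g g, hgg, one_mul]
      group
    obtain ⟨m, hm⟩ := hCodd
    set d := c ^ (m + 1) with hd
    have hd2 : d * d = c := by
      have h1 : c ^ (2 * m + 1) = 1 := by
        rw [← hm]
        exact congrArg Subtype.val (pow_card_eq_one' (x := (⟨c, hcC⟩ : C)))
      rw [hd, ← pow_add, show m + 1 + (m + 1) = (2 * m + 1) + 1 by ring, pow_succ, h1, one_mul]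
    have hdC : d ∈ C := C.pow_mem hcC _
    have hdg : g * d * g⁻¹ = d⁻¹ := by rw [hd, ← conj_pow, hcinv, inv_pow]
    -- `d * n` centralizes `g`
    have hmg : d * n ∈ Subgroup.centralizer ({g} : Set G) := by
      rw [Subgroup.mem_centralizer_singleton_iff]
      have hgn : n * g * n⁻¹ = g * c := by rw [hc, ← mul_assoc, hgg, one_mul]
      calc d * n * g = d * (n * g * n⁻¹) * n := by group
        _ = d * (g * (d * d)) * n := by rw [hgn, hd2]
        _ = d * (g * d * g⁻¹) * g * d * n := by group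
        _ = g * (d * n) := by rw [hdg]; group
    haveI : (C.subgroupOf (Subgroup.normalizer (Q : Set G))).Normal := ⟨fun a ha b => by
      rw [Subgroup.mem_subgroupOf] at ha ⊢
      exact hCnorm b b.2 a ha⟩
    set π := QuotientGroup.mk' (C.subgroupOf (Subgroup.normalizer (Q : Set G)))
    have hdN : d ∈ Subgroup.normalizer (Q : Set G) := by
      rw [Subgroup.mem_normalizer_iff]
      intro x
      refine ⟨fun hx => ?_, fun hx => ?_⟩
      · rw [← Subgroup.mem_centralizer_iff.mp hdC x hx]; simpa using hx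
      · have := Subgroup.mem_centralizer_iff.mp hdC _ hx
        have h2 : x = d * x * d⁻¹ := by
          calc x = d⁻¹ * ((d * x * d⁻¹) * d) := by group
            _ = d * x * d⁻¹ := by rw [this]; group
        rwa [h2]
    have hπ : π ⟨n, hn⟩ = π (⟨d, hdN⟩ * ⟨n, hn⟩) := by
      rw [map_mul, show π ⟨d, hdN⟩ = 1 from (QuotientGroup.eq_one_iff _).mpr hdC, one_mul]
    have h1 : π ⟨n, hn⟩ ^ p ^ k = 1 := by
      rw [← map_pow, ← hk]
      convert map_one π
      exact Subtype.ext (pow_orderOf_eq_one n)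
    have h2 : π ⟨n, hn⟩ ^ Nat.card ↥(Subgroup.centralizer ({g} : Set G)) = 1 := by
      rw [hπ, ← map_pow]
      convert map_one π
      refine Subtype.ext ?_
      have := congrArg Subtype.val (pow_card_eq_one' (x := (⟨d * n, hmg⟩ : ↥(Subgroup.centralizer ({g} : Set G)))))
      simpa [-pow_card_eq_one'] using this
    have h3 : π ⟨n, hn⟩ = 1 := by
      have h := pow_gcd_eq_one.mpr ⟨h1, h2⟩
      rwa [((hp.coprime_iff_not_dvd.mpr hpC).pow_left k).gcd_eq_one, pow_one] at h
    have hnC : n ∈ C := Subgroup.mem_subgroupOf.mp ((QuotientGroup.eq_one_iff (⟨n, hn⟩ : Subgroup.normalizer (Q : Set G))).mp h3)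
    refine hsyl ⟨n, hnC⟩ ⟨k, ?_⟩
    rw [← hk, ← Subgroup.orderOf_coe]
  obtain ⟨T, hT⟩ := hQp.exists_le_sylow
  have hQT : Q = (T : Subgroup G) := by
    by_contra hne
    have hlt : Q.subgroupOf (T : Subgroup G) < ⊤ := by
      rw [lt_top_iff_ne_top, Ne, Subgroup.subgroupOf_eq_top]
      exact fun h => hne (le_antisymm hT h)
    haveI : Group.IsNilpotent (T : Subgroup G) := T.isPGroup'.isNilpotent
    obtain ⟨⟨n, hnT⟩, hnN, hnQ⟩ :=
      SetLike.exists_of_lt (normalizerCondition_of_isNilpotent _ hlt)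
    refine hnQ (Subgroup.mem_subgroupOf.mpr (hNp n ?_ ?_))
    · rw [Subgroup.mem_normalizer_iff] at hnN ⊢
      intro x
      refine ⟨fun hx => ?_, fun hx => ?_⟩
      · exact (hnN ⟨x, hT hx⟩).mp (Subgroup.mem_subgroupOf.mpr hx)
      · have hxT : x ∈ (T : Subgroup G) := by
          have := T.mul_mem (T.mul_mem (T.inv_mem hnT) (hT hx)) hnT
          simpa [mul_assoc] using this
        exact Subgroup.mem_subgroupOf.mp ((hnN ⟨x, hxT⟩).mpr hx)
    · obtain ⟨k, hk⟩ := IsPGroup.iff_orderOf.mp T.isPGroup' ⟨n, hnT⟩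
      exact ⟨k, by rw [← hk, ← Subgroup.orderOf_coe]⟩
  subst hQT
  obtain ⟨x, rfl⟩ := MulAction.exists_smul_eq G T P
  refine ⟨?_, ?_⟩
  · rw [even_iff_two_dvd, ← hgo]
    have hmem : x * g * x⁻¹ ∈ Subgroup.normalizer (((x • T : Sylow p G) : Subgroup G) : Set G) := by
      refine Sylow.smul_eq_iff_mem_normalizer.mp ?_
      rw [smul_smul, inv_mul_cancel_right, ← smul_smul, Sylow.smul_eq_iff_mem_normalizer.mpr hgN]
    rw [show orderOf g = orderOf (x * g * x⁻¹) from
      (orderOf_injective (MulAut.conj x).toMonoidHom (MulAut.conj x).injective g).symm]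
    exact Subgroup.orderOf_dvd_natCard _ hmem
  · refine ⟨⟨fun a b => Subtype.ext ?_⟩⟩
    obtain ⟨a', ha', ha⟩ := Subgroup.mem_map.mp a.2
    obtain ⟨b', hb', hb⟩ := Subgroup.mem_map.mp b.2
    simp only [Subgroup.coe_mul, ← ha, ← hb]
    change (MulAut.conj x) a' * (MulAut.conj x) b' = (MulAut.conj x) b' * (MulAut.conj x) a'
    rw [← map_mul, ← map_mul, hcomm a' ha' b' hb']

/-- Let p be an odd prime and G a finite group of even order divisible by p in which the centralizer of every non-identity p-element has odd order. Then either G has an irreducible character of p-defect zero, or the normalizer of every Sylow p-subgroup P of G has even order and P is abelian. -/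
theorem result {G : Type*} [Group G] [Finite G] (p : ℕ) [Fact p.Prime] (hp2 : p ≠ 2) (hpG : p ∣ Nat.card G) (h2G : 2 ∣ Nat.card G) (hC : ∀ g : G, g ≠ 1 → (∃ k : ℕ, orderOf g = p ^ k) → Odd (Nat.card ↥(Subgroup.centralizer ({g} : Set G)))) : (∃ χ : Cfsg.IrrCharacter G, (Cfsg.charDegree (χ : G → ℂ)).factorization p = (Nat.card G).factorization p) ∨ ∀ P : Sylow p G, Even (Nat.card ↥(Subgroup.normalizer ((P : Subgroup G) : Set G))) ∧ IsMulCommutative ↥(P : Subgroup G) := by
  classical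
  have hp : p.Prime := Fact.out
  have hcent : ∀ g : G, g ≠ 1 → (∃ k : ℕ, orderOf g = p ^ k) →
      ¬ 2 ∣ Nat.card ↥(Subgroup.centralizer ({g} : Set G)) :=
    fun g hg hk => Nat.two_dvd_ne_zero.mpr (Nat.odd_iff.mp (hC g hg hk))
  rcases Cfsg.Agent.S4742.result p 2 hp2 hpG h2G hcent with h | H
  · exact Or.inl h
  right
  obtain ⟨z, hz⟩ := exists_prime_orderOf_dvd_card' 2 h2G
  obtain ⟨g, h, hgz, hhz, hne, k, hk⟩ := H z (fun h => by simp [h] at hz) ⟨1, by simpa using hz⟩
  have hgo : orderOf g = 2 := by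
    obtain ⟨d, rfl⟩ := isConj_iff.mp hgz
    rw [← hz]
    exact orderOf_injective (MulAut.conj d).toMonoidHom (MulAut.conj d).injective z
  have hho : orderOf h = 2 := by
    obtain ⟨d, rfl⟩ := isConj_iff.mp hhz
    rw [← hz]
    exact orderOf_injective (MulAut.conj d).toMonoidHom (MulAut.conj d).injective z
  have hinv : g * (g * h⁻¹) * g⁻¹ = (g * h⁻¹)⁻¹ := by
    have hgg : g * g = 1 := by simpa [pow_two, hgo] using pow_orderOf_eq_one g
    have hhh : h * h = 1 := by simpa [pow_two, hho] using pow_orderOf_eq_one h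
    rw [inv_eq_of_mul_eq_one_right hgg, inv_eq_of_mul_eq_one_right hhh, mul_inv_rev,
      inv_eq_of_mul_eq_one_right hgg, inv_eq_of_mul_eq_one_right hhh, ← mul_assoc g g h, hgg, one_mul]
  exact sylow_even p hC g hgo (g * h⁻¹) hne ⟨k, hk⟩ hinv

end Cfsg.Agent.S4744
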