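import Cfsg.Statements.S1487
import Cfsg.Agent.Lib.Char.Basic
import Cfsg.Agent.Lib.Char.Induced

set_option autoImplicit false
open Cfsg

namespace Cfsg.Agent.S1487

/-- Let A ≤ H be normal subgroups of the finite group G and θ an irreducible character of H. Then θ takes the value θ 1 on all of A if and only if the function induced from θ to G takes its value at 1 on all of A. -/
theorem result {G : Type*} [Group G] [Fintype G] (A H : Subgroup G) [A.Normal] [H.Normal] (hAH : A ≤ H) (θ : H → ℂ) (hθ : Cfsg.IsIrrCharacter H θ) : (∀ a : H, (a : G) ∈ A → θ a = θ 1) ↔ (∀ a : G, a ∈ A → Cfsg.indFun H θ a = Cfsg.indFun H θ 1) := by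
  classical
  have hA : Subgroup.Normal A := inferInstance
  have hmem : ∀ a ∈ A, ∀ x : G, x⁻¹ * a * x ∈ H ∧ x⁻¹ * a * x ∈ A := by
    intro a ha x
    have := hA.conj_mem a ha x⁻¹
    rw [inv_inv] at this
    exact ⟨hAH this, this⟩
  have hG : (Nat.card G : ℂ) = (H.index : ℂ) * Nat.card H := by
    rw [← Nat.cast_mul, mul_comm, H.card_mul_index]
  have hsum : ∀ a : G, a ∈ A → (∀ x : G, Cfsg.extendByZero H θ (x⁻¹ * a * x) = θ 1) →
      Cfsg.indFun H θ a = Cfsg.indFun H θ 1 := by
    intro a _ h
    rw [CfsgLib.Char.indFun_apply, CfsgLib.Char.indFun_apply_one, Finset.sum_congr rfl (fun x _ => h x),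
      Finset.sum_const, Finset.card_univ, nsmul_eq_mul, ← Nat.card_eq_fintype_card, hG]
    field_simp [Nat.cast_ne_zero.2 (Nat.card_pos (α := H)).ne']
  constructor
  · intro h a ha
    refine hsum a ha fun x => ?_
    rw [CfsgLib.Char.extendByZero_apply_mem H θ (hmem a ha x).1]
    exact h _ (hmem a ha x).2
  · intro h a ha
    have hχ := CfsgLib.Char.IsIrrCharacter.isCharacter hθ
    set d := CfsgLib.Char.degree θ
    have hd : (d : ℂ) = θ 1 := CfsgLib.Char.IsCharacter.degree_cast hχ
    have h' := h a ha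
    rw [CfsgLib.Char.indFun_apply, CfsgLib.Char.indFun_apply_one] at h'
    have hsum' : ∑ x : G, Cfsg.extendByZero H θ (x⁻¹ * a * x) = ∑ _x : G, (d : ℂ) := by
      rw [Finset.sum_const, Finset.card_univ, nsmul_eq_mul, ← Nat.card_eq_fintype_card, hG, hd]
      field_simp [Nat.cast_ne_zero.2 (Nat.card_pos (α := H)).ne'] at h'
      rw [h']
      ring
    have hre := congrArg Complex.re hsum'
    rw [Complex.re_sum, Complex.re_sum] at hre
    have hle : ∀ x ∈ (Finset.univ : Finset G),
        (Cfsg.extendByZero H θ (x⁻¹ * (a : G) * x)).re ≤ ((d : ℂ)).re := by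
      intro x _
      rw [CfsgLib.Char.extendByZero_apply_mem H θ (hmem a ha x).1, Complex.natCast_re]
      exact (Complex.re_le_norm _).trans (CfsgLib.Char.IsCharacter.norm_apply_le hχ _)
    have h1 := (Finset.sum_eq_sum_iff_of_le hle).1 hre 1 (Finset.mem_univ _)
    simp only [inv_one, one_mul, mul_one, CfsgLib.Char.extendByZero_coe, Complex.natCast_re] at h1
    rw [← hd]
    have h2 := CfsgLib.Char.IsCharacter.norm_apply_le hχ a
    have h4 := Complex.sq_norm (θ a)
    rw [Complex.normSq_apply, h1] at h4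
    have h5 : (θ a).im = 0 := by nlinarith [norm_nonneg (θ a), sq_nonneg (θ a).im]
    exact Complex.ext (by simpa using h1) (by simpa using h5)

end Cfsg.Agent.S1487
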