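import Cfsg.Statements.S1370
import Cfsg.Agent.Lib.OddOrder.KappaMain

set_option autoImplicit false
open Cfsg

namespace Cfsg.Agent.S1370

open CfsgLib.OddOrder Subgroup

/-- Let G be a minimal simple group of odd order, M a maximal subgroup with standard factorisation M = K U M_σ, K ≠ 1, K* = M_σ ∩ C_G(K) and Z the subgroup generated by K and K*. Then the set of elements of Z lying in neither K nor K* is a TI-subset of G, and its set-normalizer in G is exactly Z. -/
theorem result {G : Type*} [Group G] [Finite G] (hG : Cfsg.IsMinSimpleOddOrder G)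
    (M : Subgroup G) (hM : IsCoatom M) (K U : Subgroup G) (hKU : Cfsg.IsSigmaDecomposition M K U) (hK1 : K ≠ ⊥) :
    Cfsg.IsTISubset ((↑(K ⊔ (Cfsg.sigmaCore M ⊓ Subgroup.centralizer (K : Set G))) : Set G) \ ((K : Set G) ∪ ↑(Cfsg.sigmaCore M ⊓ Subgroup.centralizer (K : Set G)))) ∧ Subgroup.normalizer ((↑(K ⊔ (Cfsg.sigmaCore M ⊓ Subgroup.centralizer (K : Set G))) : Set G) \ ((K : Set G) ∪ ↑(Cfsg.sigmaCore M ⊓ Subgroup.centralizer (K : Set G)))) = K ⊔ (Cfsg.sigmaCore M ⊓ Subgroup.centralizer (K : Set G)) := by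
  have h := isKappaPair_of_decomposition hM hKU hK1
  obtain ⟨L, h', he, -, -⟩ := h.exists_dual hG
  rw [← h.kappaReg_eq hG h' he]
  have hle : K ⊔ kappaStar M K ≤ Subgroup.normalizer (kappaReg M K) :=
    le_set_normalizer_iff.2 fun g hg x hx => by
      rwa [(h.commute hG hg hx.1).eq, mul_inv_cancel_right]
  refine ⟨fun g hg x hx hgx => absurd (hle (h.conj_mem_zsub hG hx hgx)) hg,
    le_antisymm (fun g hg => ?_) hle⟩
  have hne : (kappaReg M K).Nonempty := by
    rw [Set.nonempty_iff_ne_empty]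
    intro he0
    have h1 := h.card_lt_two_mul_conjUnion hG h' he
    have h2 := h.ncard_conjUnion hG (T := kappaReg M K) le_rfl
    rw [he0, Set.ncard_empty, mul_zero] at h2
    rcases mul_eq_zero.1 h2 with h3 | h3
    · rw [he0] at h1
      omega
    · exact Nat.card_pos.ne' h3
  obtain ⟨t, ht⟩ := hne
  exact h.conj_mem_zsub hG ht ((mem_set_normalizer_iff.1 hg t).1 ht)

end Cfsg.Agent.S1370
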