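import Cfsg.Statements.S1419
import Cfsg.Agent.Lib.OddOrder.TauTwo
import Cfsg.Agent.S1414

set_option autoImplicit false
set_option linter.style.haveILetI false
open Cfsg

namespace Cfsg.Agent.S1419

open CfsgLib.OddOrder Subgroup

open scoped commutatorElement

section

variable {G : Type*} [Group G] [Finite G] (hG : Cfsg.IsMinSimpleOddOrder G) {M : Subgroup G}
  (hM : IsCoatom M) {p : ℕ} [hp : Fact p.Prime] {A A₀ : Subgroup G}
  (h : IsExceptional p M A A₀) (hS : ∀ S : Sylow p G, ¬ IsMulCommutative (S : Subgroup G))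
include hG hM h hS

/-- A Sylow subgroup of `G` is not contained in `M`. -/
theorem not_sylow_le {T : Subgroup G} (hT : IsMaxPIn p ⊤ T) : ¬ T ≤ M := by
  intro hle
  haveI := h.isMulCommutative_sylow hG hM
    (⟨hle, hT.pgroup, fun R hR hTR _ => hT.max R hR hTR le_top⟩ : IsMaxPIn p M T)
  exact hS ⟨T, hT.pgroup, fun {R} hR hle => hT.max R hR hle le_top⟩
    ‹IsMulCommutative T›

/-- No `q`-subgroup centralizing `A` lies in a maximal subgroup `H` with `p ∈ σ(H)`. -/
theorem false_of_inv {H : Subgroup G} (hH : IsCoatom H) (hpH : p ∈ Cfsg.sigma H) (hAH : A ≤ H)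
    {q : ℕ} [hq : Fact q.Prime] (hqp : q ≠ p) {Q : Subgroup G} (hQ : IsPGroup q Q) (hQH : Q ≤ H)
    (hQA : Q ≤ centralizer (A : Set G)) (hCQ : centralizer (Q : Set G) ≤ M)
    (hβ : q ∉ Cfsg.beta H) : False := by
  set S := Cfsg.sigmaCore H with hSdef
  have hAS : A ≤ S := le_sigmaCore_of_pgroup hG hH hpH h.pgroup hAH
  -- a `Q`-invariant `q'`-subgroup of `H_σ` containing its `p`-elements
  obtain ⟨K, hKS, hQK, hqK, hpK⟩ : ∃ K ≤ S, Q ≤ normalizer (K : Set G) ∧ ¬ q ∣ Nat.card K ∧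
      ∀ R : Subgroup G, IsPGroup p R → R ≤ H → R ≤ K := by
    by_cases hqσ : q ∈ Cfsg.sigma H
    · obtain ⟨-, -, -, -, h5⟩ := Cfsg.Agent.S1414.result hG H hH
      obtain ⟨-, hnpc, -⟩ := h5 q hq.out hqσ.2.1 hβ
      obtain ⟨N, hN⟩ := (CfsgLib.NPC.hasNormalPComplement_iff).1 hnpc
      haveI := hN.1
      refine ⟨N.map S.subtype, map_subtype_le _, ?_, ?_, fun R hR hRH => ?_⟩
      · intro x hx
        have hxS : x ∈ S := le_sigmaCore_of_pgroup hG hH hqσ hQ hQH hx
        exact le_normalizer_map S.subtype ⟨⟨x, hxS⟩, by rw [normalizer_eq_top]; exact mem_top _, rfl⟩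
      · rw [card_map_of_injective S.subtype_injective]
        exact (hq.out.coprime_iff_not_dvd).1 hN.2.1.symm
      · have hRS : R ≤ S := le_sigmaCore_of_pgroup hG hH hpH hR hRH
        intro x hx
        refine ⟨⟨x, hRS hx⟩, (CfsgLib.NPC.mem_iff_coprime hN).2 ?_, rfl⟩
        obtain ⟨n, hn⟩ := hR.exists_card_eq
        rw [Subgroup.orderOf_mk]
        exact Nat.Coprime.coprime_dvd_left (hn ▸ orderOf_dvd_card_of_mem hx)
          (((Nat.coprime_primes hp.out hq.out).2 hqp.symm).pow_left n)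
    · exact ⟨S, le_rfl, hQH.trans (le_normalizer_piCoreOf _ _),
        fun hd => hqσ (sigma_of_dvd_sigmaCore hq.out hd),
        fun R hR hRH => le_sigmaCore_of_pgroup hG hH hpH hR hRH⟩
  have hKH : K ≤ H := hKS.trans (piCoreOf_le _ _)
  have hcop : (Nat.card Q).Coprime (Nat.card K) := by
    obtain ⟨n, hn⟩ := hQ.exists_card_eq
    rw [hn]
    exact ((hq.out.coprime_iff_not_dvd).2 hqK).pow_left n
  have hKs : Group.IsSolvable K :=
    isSolvable_of_ne_top hG fun hb => hH.1 (top_le_iff.1 (hb ▸ hKH))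
  obtain ⟨T₀, hAT, hQT⟩ := CfsgLib.Solvable.exists_invariant_sylow_ge hQK hcop (Or.inr hKs) p
    (hpK A h.pgroup hAH) h.pgroup (hQA.trans (centralizer_le_normalizer _))
  set T := (T₀ : Subgroup K).map K.subtype
  have hTtop : IsMaxPIn p ⊤ T := isMaxPIn_top_of_sigma hpH (M := H)
    ⟨(map_subtype_le _).trans hKH, T₀.2.map _, fun R hR hle hRH =>
      (isMaxPIn_of_sylow T₀).max R hR hle (hpK R hR hRH)⟩
  refine not_sylow_le hG hM h hS hTtop ?_
  refine le_trans (le_centralizer_iff.1 ?_) hCQ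
  -- `Q` centralizes `C_T(A)`, hence `T`
  set P' := T ⊓ centralizer (A : Set G) with hP'
  obtain ⟨P, hP, hP'P⟩ := exists_isMaxPIn_ge (B := P')
    (inf_le_right.trans h.centralizer_le) (hTtop.pgroup.to_le inf_le_left)
  haveI := h.isMulCommutative_sylow hG hM hP
  haveI : IsMulCommutative P' := ⟨⟨fun u v => Subtype.ext
    (setLike_mul_comm (s := P) (hP'P u.2) (hP'P v.2))⟩⟩
  have hQP' : Q ≤ normalizer (P' : Set G) := le_normalizer_inf_of_le hQT
    (hQA.trans (centralizer_le_normalizer _) |>.trans (normalizer_le_normalizer_centralizer A))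
  have hcop' : (Nat.card Q).Coprime (Nat.card P') := by
    obtain ⟨n, hn⟩ := hQ.exists_card_eq
    obtain ⟨m, hm⟩ := (hTtop.pgroup.to_le (inf_le_left : P' ≤ T)).exists_card_eq
    rw [hn, hm]
    exact (((Nat.coprime_primes hq.out hp.out).2 hqp).pow_left n).pow_right m
  have hQC : Q ≤ centralizer (P' : Set G) :=
    CfsgLib.Solvable.le_centralizer_of_fix_prime_order hQP' hcop' fun v hv hvo x hx => by
      obtain ⟨m, hm⟩ := (hTtop.pgroup.to_le (inf_le_left : P' ≤ T)).exists_card_eq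
      have hvp : orderOf v = p := (Nat.prime_dvd_prime_iff_eq hvo hp.out).1
        (hvo.dvd_of_dvd_pow (hm ▸ orderOf_dvd_card_of_mem hv))
      exact (hQA hx v (h.mem_of_commute hG hM hv.2 (hvp ▸ pow_orderOf_eq_one v))).symm
  refine CfsgLib.Solvable.thompson_pxq (P := P') (Q := Q) (U := T) (hTtop.pgroup.to_le inf_le_left)
    ?_ hTtop.pgroup (le_centralizer_iff.1 hQC) ((inf_le_left : P' ≤ T).trans le_normalizer) hQT ?_
  · obtain ⟨n, hn⟩ := hQ.exists_card_eq
    rw [hn]
    exact ((Nat.coprime_primes hq.out hp.out).2 hqp).pow_left n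
  · refine le_trans ?_ (le_centralizer_iff.1 hQC)
    exact le_inf inf_le_left (inf_le_right.trans (Subgroup.centralizer_le (le_inf hAT
      (le_centralizer_iff_isMulCommutative.2 h.elem.1))))

end

/-- Let G be a minimal simple group of odd order, M a maximal subgroup with complement E to M_σ, p ∈ τ₂(M), A an elementary abelian subgroup of order p² of E, and suppose the Sylow p-subgroups of G are nonabelian. Then τ₂(M) = {p}, A₀ = C_A(M_σ) has order p and F(M) = M_σ × A₀, and every other subgroup X of order p of E has C_{M_σ}(X) = 1 and C_G(X) not in M. -/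
theorem result {G : Type*} [Group G] [Finite G] (hG : Cfsg.IsMinSimpleOddOrder G)
    (M : Subgroup G) (hM : IsCoatom M) (E : Subgroup G) (hE : Cfsg.IsComplIn E (Cfsg.sigmaCore M) M) (p : ℕ) [Fact p.Prime] (hp : p ∈ Cfsg.tau2 M) (hS : ∀ S : Sylow p G, ¬ IsMulCommutative (S : Subgroup G))
    (A : Subgroup G) (hA : (A ≤ E ∧ Cfsg.IsElementaryAbelian p A ∧ Nat.card A = p ^ 2)) :
    Cfsg.tau2 M = {p} ∧
      (Nat.card ↥(A ⊓ Subgroup.centralizer (Cfsg.sigmaCore M : Set G)) = p ∧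
        Cfsg.fittingOf M = Cfsg.sigmaCore M ⊔ (A ⊓ Subgroup.centralizer (Cfsg.sigmaCore M : Set G))) ∧
      ∀ X : Subgroup G, X ≤ E → Nat.card X = p → X ≠ A ⊓ Subgroup.centralizer (Cfsg.sigmaCore M : Set G) →
        Cfsg.sigmaCore M ⊓ Subgroup.centralizer (X : Set G) = ⊥ ∧ ¬ Subgroup.centralizer (X : Set G) ≤ M := by
  have hpp : p.Prime := Fact.out
  obtain ⟨hAE, hAe, hA2⟩ := hA
  have hAM : A ≤ M := hAE.trans hE.1
  obtain ⟨Z₀, h, -⟩ := Cfsg.Agent.S1417.exists_isExceptional hG hM hp.2.1 hAM hAe hA2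
  obtain ⟨⟨hEA, hEX⟩, ⟨hCAM, -, -⟩, huniq⟩ :=
    Cfsg.Agent.S1418.result hG M hM E hE p hp A ⟨hAE, hAe, hA2⟩
  haveI hAc := hAe.1
  set S₁ := Cfsg.sigmaCore M with hS₁
  have hMS : M ≤ normalizer (S₁ : Set G) := le_normalizer_piCoreOf _ _
  -- Sylow subgroups `P ≤ S`
  obtain ⟨P, hP, hAP⟩ := exists_isMaxPIn_ge hAM h.pgroup
  obtain ⟨S, hPS⟩ := hP.pgroup.exists_le_sylow
  set T := (S : Subgroup G) with hT
  have hTtop : IsMaxPIn p ⊤ T := ⟨le_top, S.2, fun R hR hle _ => S.3 hR hle⟩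
  have hTM : ¬ T ≤ M := not_sylow_le hG hM h hS hTtop
  have hTP : ∀ x ∈ T, x ∈ M → x ∈ P := fun x hx hxM => by
    rw [← hP.max (T ⊓ M) (S.2.to_le inf_le_left) (le_inf hPS hP.le) inf_le_right]
    exact ⟨hx, hxM⟩
  have hPC := h.le_centralizer_of_isMaxPIn hG hM hP hAP
  have hAT : A ≤ T := hAP.trans hPS
  have hAZ : ¬ A ≤ centralizer (T : Set G) := fun hc =>
    hTM ((le_centralizer_iff.1 hc).trans h.centralizer_le)
  -- the central element
  haveI : Nontrivial T := (nontrivial_iff_ne_bot _).2 fun hb => hTM (hb.le.trans bot_le)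
  obtain ⟨zu, -, hzc, hzo⟩ := CfsgLib.PGroup.exists_central_orderOf_eq S.2 ⊤ (fun hb => by
    have h1 : Nat.card T = 1 := by rw [← Subgroup.card_top, hb, Subgroup.card_bot]
    exact (Finite.one_lt_card (α := T)).ne' h1)
  set z := (zu : G) with hz
  have hzp : z ^ p = 1 :=
    orderOf_dvd_iff_pow_eq_one.1 (dvd_of_eq ((Subgroup.orderOf_coe zu).trans hzo))
  have hz1 : z ≠ 1 := fun h1 => by
    rw [OneMemClass.coe_eq_one.1 (h1 : ((zu : T) : G) = 1), orderOf_one] at hzo
    exact hpp.one_lt.ne hzo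
  have hzT : ∀ x ∈ T, Commute x z := fun x hx =>
    congrArg Subtype.val (mem_center_iff.1 hzc ⟨x, hx⟩)
  have hzA : z ∈ A := h.mem_of_commute hG hM (fun x hx => (hzT x (hAT hx)).eq) hzp
  have hTCz : T ≤ centralizer ({z} : Set G) := fun x hx =>
    mem_centralizer_singleton_iff.2 (hzT x hx).eq
  -- an element with nontrivial fixed points on `M_σ`
  have hcop : (Nat.card A).Coprime (Nat.card S₁) := by
    rw [hA2]
    exact ((hpp.coprime_iff_not_dvd).2 fun hd => hp.2.1 (sigma_of_dvd_sigmaCore hpp hd)).pow_left 2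
  have hAnc : ¬ IsCyclic A :=
    elementary_not_isCyclic hAe (hA2 ▸ lt_self_pow₀ hpp.one_lt one_lt_two)
  obtain ⟨a, haA, ha1, hafix⟩ : ∃ a ∈ A, a ≠ 1 ∧ S₁ ⊓ centralizer ({a} : Set G) ≠ ⊥ := by
    by_contra hcon
    push Not at hcon
    exact sigmaCore_ne_bot hG hM (le_bot_iff.1 (CfsgLib.Solvable.le_of_centralizer_le hAnc
      (hAM.trans hMS) hcop fun b hb hb1 => (hcon b hb hb1).le))
  have hCa : centralizer ({a} : Set G) ≤ M ∧
      ∀ L : Subgroup G, IsCoatom L → centralizer ({a} : Set G) ≤ L → L = M := by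
    have := huniq (zpowers a) (zpowers_le.2 haA)
      (by rw [Nat.card_zpowers, orderOf_eq_prime (hAe.2 a haA) ha1])
    rw [Cfsg.Agent.S1416.centralizer_zpowers_eq hG] at this
    exact this hafix
  have hCz : ∀ i : ℤ, T ≤ centralizer ({z ^ i} : Set G) := fun i x hx =>
    mem_centralizer_singleton_iff.2 ((hzT x hx).zpow_right i).eq
  have haz : a ∉ zpowers z := by
    rintro ⟨i, hi⟩
    exact hTM ((hCz i).trans ((show z ^ i = a from hi) ▸ hCa.1))
  obtain ⟨hAsup, hdec⟩ := exists_pair_decomp hAe hA2 hzA hz1 haA haz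
  -- an element of `S` moving `a`
  obtain ⟨g, hgT, hgP, hgN⟩ : ∃ g ∈ T, g ∉ P ∧ g ∈ normalizer (P : Set G) := by
    haveI : Group.IsNilpotent T := S.2.isNilpotent
    have hlt : P.subgroupOf T < ⊤ := lt_top_iff_ne_top.2 fun hc =>
      hTM ((subgroupOf_eq_top.1 hc).trans hP.le)
    obtain ⟨g, hg, hgP⟩ := SetLike.exists_of_lt (Group.normalizerCondition_of_isNilpotent _ hlt)
    refine ⟨g, g.2, fun hc => hgP (mem_subgroupOf.2 hc), ?_⟩
    rw [← map_subgroupOf_eq_of_le hPS]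
    exact le_normalizer_map T.subtype ⟨g, hg, rfl⟩
  have hgA : g ∈ normalizer (A : Set G) := h.normalizer_le_normalizer hG hM hP hAP hgN
  have hgM : g ∉ M := fun hc => hgP (hTP g hgT hc)
  have hgo : ∃ n, orderOf g = p ^ n := by
    obtain ⟨n, hn⟩ := S.2.exists_card_eq
    obtain ⟨i, -, hi⟩ := (Nat.dvd_prime_pow hpp).1 (hn ▸ orderOf_dvd_card_of_mem (A := T) hgT)
    exact ⟨i, hi⟩
  obtain ⟨u, hu⟩ := conj_eq_zpow_mul hAe hA2 hzA hz1 haA haz (hzT g hgT) hgA hgo
  have hu0 : ¬ (p : ℤ) ∣ u := fun ⟨k, hk⟩ => hgM (hCa.1 (mem_centralizer_singleton_iff.2 (by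
    rw [hk, zpow_mul, zpow_natCast, hzp, one_zpow, one_mul] at hu
    exact mul_inv_eq_iff_eq_mul.1 hu)))
  have hza : Commute z a := setLike_mul_comm (s := A) hzA haA
  have hpow : ∀ t : ℕ, g ^ t * a * (g ^ t)⁻¹ = z ^ (u * t) * a := by
    intro t
    induction t with
    | zero => simp
    | succ t ih =>
      calc g ^ (t + 1) * a * (g ^ (t + 1))⁻¹ = g * (g ^ t * a * (g ^ t)⁻¹) * g⁻¹ := by
            rw [pow_succ']; group
        _ = (g * z ^ (u * t) * g⁻¹) * (g * a * g⁻¹) := by rw [ih]; group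
        _ = z ^ (u * ((t + 1 : ℕ) : ℤ)) * a := by
          rw [((hzT g hgT).zpow_right _).eq, mul_inv_cancel_right, hu, ← mul_assoc, ← zpow_add,
            Nat.cast_succ, mul_add, mul_one]
  -- only `a` has its centralizer in `M`
  have hline : ∀ b ∈ A, centralizer ({b} : Set G) ≤ M → b ∈ zpowers a := by
    intro b hb hCb
    obtain ⟨i, j, rfl⟩ := hdec b hb
    by_cases hj : (p : ℤ) ∣ j
    · obtain ⟨k, rfl⟩ := hj
      rw [zpow_mul, zpow_natCast, hAe.2 a haA, one_zpow, mul_one] at hCb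
      exact absurd ((hCz i).trans hCb) hTM
    have hprime := Nat.prime_iff_prime_int.1 hpp
    obtain ⟨r, s, hrs⟩ := hprime.coprime_iff_not_dvd.2
      (fun hd => (hprime.dvd_or_dvd hd).elim hu0 hj : ¬ (p : ℤ) ∣ u * j)
    set t : ℤ := (i * s) % (p : ℤ) with ht
    have ht0 : 0 ≤ t := Int.emod_nonneg _ (by exact_mod_cast hpp.ne_zero)
    set c := g ^ t.toNat with hc
    have hconj : c * a ^ j * c⁻¹ = z ^ i * a ^ j := by
      rw [← conj_zpow, hpow, (hza.zpow_left _).mul_zpow, ← zpow_mul, Int.toNat_of_nonneg ht0]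
      congr 1
      rw [show u * t * j = i + (p : ℤ) * (-(i * r) - (u * j) * ((i * s) / (p : ℤ))) by
        rw [ht, Int.emod_def]; linear_combination i * hrs]
      rw [zpow_add, zpow_mul, zpow_natCast, hzp, one_zpow, mul_one]
    have hle : centralizer ({a} : Set G) ≤ M.map (MulAut.conj c⁻¹).toMonoidHom := by
      intro y hy
      rw [mem_map_conj_iff, inv_inv]
      refine hCb (mem_centralizer_singleton_iff.2 ?_)
      have hy' : Commute y (a ^ j) :=
        (show Commute y a from mem_centralizer_singleton_iff.1 hy).zpow_right j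
      rw [← hconj]
      calc c * y * c⁻¹ * (c * a ^ j * c⁻¹) = c * (y * a ^ j) * c⁻¹ := by group
        _ = c * (a ^ j * y) * c⁻¹ := by rw [hy'.eq]
        _ = c * a ^ j * c⁻¹ * (c * y * c⁻¹) := by group
    have hcM : c ∈ M := inv_mem_iff.1
      (mem_of_map_conj_eq hG hM (hCa.2 _ (isCoatom_conj hM c⁻¹) hle))
    have hcA : Commute c (a ^ j) :=
      ((show Commute a c from hPC (hTP c (pow_mem hgT _) hcM) a haA).symm.zpow_right j)
    rw [← hconj, hcA.eq, mul_inv_cancel_right]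
    exact zpow_mem (mem_zpowers a) j
  have hσa : S₁ ≤ centralizer ({a} : Set G) := by
    refine CfsgLib.Solvable.le_of_centralizer_le hAnc (hAM.trans hMS) hcop fun b hb hb1 => ?_
    by_cases hb0 : S₁ ⊓ centralizer ({b} : Set G) = ⊥
    · rw [hb0]; exact bot_le
    have hCb : centralizer ({b} : Set G) ≤ M := by
      have := huniq (zpowers b) (zpowers_le.2 hb)
        (by rw [Nat.card_zpowers, orderOf_eq_prime (hAe.2 b hb) hb1])
      rw [Cfsg.Agent.S1416.centralizer_zpowers_eq hG] at this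
      exact (this hb0).1
    have hba : zpowers b = zpowers a := eq_of_le_of_card_ge (zpowers_le.2 (hline b hb hCb))
      (by rw [Nat.card_zpowers, Nat.card_zpowers, orderOf_eq_prime (hAe.2 b hb) hb1,
        orderOf_eq_prime (hAe.2 a haA) ha1])
    rw [← Cfsg.Agent.S1416.centralizer_zpowers_eq hG b, hba,
      Cfsg.Agent.S1416.centralizer_zpowers_eq hG]
    exact inf_le_right
  set A₁ := A ⊓ centralizer (S₁ : Set G) with hA₁
  have haA₁ : a ∈ A₁ := ⟨haA, fun y hy => mem_centralizer_singleton_iff.1 (hσa hy)⟩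
  have hA₁eq : A₁ = zpowers a := by
    refine (eq_of_le_of_card_ge (zpowers_le.2 haA₁) ?_).symm
    rw [Nat.card_zpowers, orderOf_eq_prime (hAe.2 a haA) ha1]
    obtain ⟨i, hi⟩ := (h.pgroup.to_le (inf_le_left : A₁ ≤ A)).exists_card_eq
    rw [hi]
    by_contra hlt
    have h2 : 1 < i := (Nat.pow_lt_pow_iff_right hpp.one_lt).1 ((pow_one p).symm ▸ not_le.1 hlt)
    have hA₁A : A₁ = A := eq_of_le_of_card_ge inf_le_left (by
      rw [hA2, hi]; exact Nat.pow_le_pow_right hpp.pos h2)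
    refine sigmaCore_ne_bot hG hM (le_bot_iff.1 ((le_inf le_rfl ?_).trans
      (h.sigmaCore_inf_centralizer hG hM).le))
    exact le_centralizer_iff.1 (hA₁A ▸ inf_le_right)
  have hA₁M : A₁ ≤ M := inf_le_left.trans hAM
  have hMA₁ : M ≤ normalizer (A₁ : Set G) := by
    intro m hm
    obtain ⟨e, he, s, hs, rfl⟩ := hE.2.2.2 m hm
    refine mul_mem (inf_normalizer_le_normalizer_inf ⟨hEA he,
      normalizer_le_normalizer_centralizer _ (hMS (hE.1 he))⟩) (centralizer_le_normalizer _ ?_)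
    exact (le_centralizer_iff.1 (inf_le_right : A₁ ≤ _)) hs
  have hA₁1 : A₁ ≠ ⊥ := by rw [hA₁eq, Ne, zpowers_eq_bot]; exact ha1
  have hNA₁ : normalizer (A₁ : Set G) = M :=
    normalizer_eq_of_isCoatom_of_le hG hM hA₁1 hA₁M hMA₁
  -- the maximal subgroup over `C(z)`
  obtain ⟨H, hH, hCH⟩ := exists_isCoatom_ge (centralizer_singleton_ne_top hG hz1)
  have hTH : T ≤ H := hTCz.trans hCH
  have hHM : H ≠ M := fun e => hTM (e ▸ hTH)
  have hpH : p ∈ Cfsg.sigma H := by
    by_contra hpσ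
    obtain ⟨Z', h', -⟩ :=
      Cfsg.Agent.S1417.exists_isExceptional hG hH hpσ (hAT.trans hTH) hAe hA2
    haveI := h'.isMulCommutative_sylow hG hH
      (⟨hTH, S.2, fun R hR hle _ => S.3 hR hle⟩ : IsMaxPIn p H T)
    exact hS S ‹IsMulCommutative T›
  have hQH : ∀ Q : Subgroup G, Q ≤ centralizer (A : Set G) → Q ≤ H := fun Q hQ x hx =>
    hCH (mem_centralizer_singleton_iff.2 (hQ hx z hzA).symm)
  have hτ : Cfsg.tau2 M = {p} := by
    refine Set.eq_singleton_iff_unique_mem.2 ⟨hp, fun q hq => ?_⟩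
    by_contra hqp
    haveI := Fact.mk hq.1
    obtain ⟨B, hBE, hBe, hB2⟩ := exists_elementary_in_complement hG hM hE hq
    obtain ⟨⟨hEB, -⟩, -, -⟩ := Cfsg.Agent.S1418.result hG M hM E hE q hq B ⟨hBE, hBe, hB2⟩
    have hBA : B ≤ centralizer (A : Set G) := le_centralizer_iff.1
      (h.le_centralizer_of_inv hG hM hqp hq.2.1 (isPGroup_of_exp hBe.2) (hBE.trans hE.1)
        (hAE.trans hEB))
    refine false_of_inv hG hM h hS hH hpH (hAT.trans hTH) hqp (isPGroup_of_exp hBe.2)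
      (hQH B hBA) hBA (Cfsg.Agent.S1416.result hG M hM q B ⟨hBE.trans hE.1, hBe, hB2⟩).1
      fun hβ => not_idealPrime hG hM hq.2.2.1 hq.2.2.2 hβ.2
  haveI := h.isNilpotent_sigmaCore hG hM
  refine ⟨hτ, ⟨?_, le_antisymm ?_ (sup_le ?_ ?_)⟩, fun X hXE hX hne => ?_⟩
  · rw [hA₁eq, Nat.card_zpowers, orderOf_eq_prime (hAe.2 a haA) ha1]
  · intro f hf
    refine mem_of_forall_exists_pow_mem (orderOf_pos f) fun q hq hqd => ?_
    haveI := Fact.mk hq
    obtain ⟨k, m, hm, hko⟩ := Nat.exists_eq_pow_mul_and_not_dvd (orderOf_pos f).ne' q hq.one_lt.ne'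
    refine ⟨m, fun hd => hm hd, ?_⟩
    set x := f ^ m with hx
    set Q := Cfsg.piCoreOf {q} M with hQdef
    have hQ : IsPGroup q Q := piCoreOf_singleton_isPGroup q M
    have hQM : Q ≤ M := piCoreOf_le _ _
    have hMQ : M ≤ normalizer (Q : Set G) := le_normalizer_piCoreOf _ _
    have hxQ : x ∈ Q := by
      rw [hQdef, ← piCoreOf_singleton_fittingOf]
      refine mem_piCoreOf_of_nilpotent (fittingOf_isNilpotent M) (pow_mem hf m) fun s hs hsd => ?_
      have h2 : orderOf x ∣ q ^ k := by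
        refine orderOf_dvd_of_pow_eq_one ?_
        rw [hx, ← pow_mul, mul_comm, ← hko, pow_orderOf_eq_one]
      exact Set.mem_singleton_iff.2
        ((Nat.prime_dvd_prime_iff_eq hs hq).1 (hs.dvd_of_dvd_pow (hsd.trans h2)))
    by_cases hqσ : q ∈ Cfsg.sigma M
    · exact mem_sup_left (le_sigmaCore_of_pgroup hG hM hqσ hQ hQM hxQ)
    refine mem_sup_right ?_
    by_cases hQ1 : Q = ⊥
    · rw [hQ1, mem_bot] at hxQ
      rw [hxQ]; exact one_mem _
    have hQS : Q ≤ centralizer (S₁ : Set G) := by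
      refine commute_of_normalize_disjoint (hQM.trans hMS)
        ((piCoreOf_le _ _).trans hMQ) (disjoint_iff.2 (inf_eq_bot_of_coprime ?_))
      obtain ⟨n, hn⟩ := hQ.exists_card_eq
      rw [hn]
      exact ((hq.coprime_iff_not_dvd).2 fun hd => hqσ (sigma_of_dvd_sigmaCore hq hd)).pow_left n
    by_cases hqp : q = p
    · subst hqp
      have hQP : Q ≤ P := by
        rw [← hP.max (P ⊔ Q) (hP.pgroup.to_sup_of_normal_right' hQ (hP.le.trans hMQ)) le_sup_left
          (sup_le hP.le hQM)]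
        exact le_sup_right
      obtain ⟨C, hC, -, hCpow, hCN⟩ := exists_cyclic_pow hG (h.ne_two hG) S hAT hAe hA2
        (fun B hB hAB => h.maximal hG hM hB hAB) hAZ
      have hxC : x ∈ centralizer (A : Set G) := hPC (hQP hxQ)
      refine ⟨h.mem_of_commute hG hM hxC ?_, hQS hxQ⟩
      by_contra hxp
      obtain ⟨y, hy⟩ := exists_prime_orderOf_dvd_card' q
        (dvd_card_of_isPGroup (hQ.to_le (zpowers_le.2 (pow_mem hxQ q)))
          (by rwa [Ne, zpowers_eq_bot]))
      rw [← Subgroup.orderOf_coe] at hy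
      have hyC : zpowers (y : G) ≤ C :=
        zpowers_le.2 (zpowers_le.2 (hCpow x (hPS (hQP hxQ)) hxC) y.2)
      have hyQ : (y : G) ∈ Q := zpowers_le.2 (pow_mem hxQ q) y.2
      have hyA : zpowers (y : G) = A₁ := by
        refine eq_of_le_of_card_ge (zpowers_le.2 ⟨h.mem_of_commute hG hM (hPC (hQP hyQ))
          (orderOf_dvd_iff_pow_eq_one.1 (dvd_of_eq hy)), hQS hyQ⟩) ?_
        rw [hA₁eq, Nat.card_zpowers, Nat.card_zpowers, hy, orderOf_eq_prime (hAe.2 a haA) ha1]
      refine hgM (hNA₁.le ?_)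
      rw [← hyA]
      exact le_normalizer_of_cyclic (zpowers_le.2 (hCN g hgT hgA)) hC hyC (mem_zpowers g)
    · exfalso
      have hQA : Q ≤ centralizer (A : Set G) :=
        le_centralizer_iff.1 (h.le_centralizer_of_inv hG hM hqp hqσ hQ hQM (hAM.trans hMQ))
      have hNQ := normalizer_eq_of_isCoatom_of_le hG hM hQ1 hQM hMQ
      by_cases hβ : q ∈ Cfsg.beta H
      · have hle : normalizer (Q : Set G) ≤ H :=
          normalizer_le_of_betaSubgroup hG hH hQ1 (hQH Q hQA) fun t ht htd => by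
            obtain ⟨n, hn⟩ := hQ.exists_card_eq
            rw [(Nat.prime_dvd_prime_iff_eq ht hq).1 (ht.dvd_of_dvd_pow (hn ▸ htd))]
            exact hβ
        rw [hNQ] at hle
        exact hHM ((hM.le_iff.1 hle).resolve_left hH.1)
      · exact false_of_inv hG hM h hS hH hpH (hAT.trans hTH) hqp hQ (hQH Q hQA) hQA
          ((centralizer_le_normalizer _).trans hNQ.le) hβ
  · exact le_fittingOf (piCoreOf_le _ _) hMS (h.isNilpotent_sigmaCore hG hM)
  · exact le_fittingOf hA₁M hMA₁ (h.pgroup.to_le inf_le_left).isNilpotent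
  · have hXA := hEX X hXE hX
    haveI : IsCyclic X := isCyclic_of_prime_card (p := p) hX
    obtain ⟨b, hb⟩ := (Subgroup.isCyclic_iff_exists_zpowers_eq_top X).1 inferInstance
    have hbA : b ∈ A := hXA (hb ▸ mem_zpowers b)
    have hba : b ∉ zpowers a := fun hc => hne (by
      rw [hA₁eq]
      refine eq_of_le_of_card_ge (hb ▸ zpowers_le.2 hc) ?_
      rw [hX, Nat.card_zpowers, orderOf_eq_prime (hAe.2 a haA) ha1])
    refine ⟨le_bot_iff.1 ?_, fun hle => hba (hline b hbA ?_)⟩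
    · refine le_trans ?_ (h.sigmaCore_inf_centralizer hG hM).le
      refine le_inf inf_le_left fun y hy => ?_
      have hya : Commute y a := mem_centralizer_singleton_iff.1 (hσa hy.1)
      have hyb : Commute y b := (hy.2 b (hb ▸ mem_zpowers b)).symm
      have hsup : A ≤ zpowers a ⊔ zpowers b := (exists_pair_decomp hAe hA2 haA ha1 hbA hba).1.le
      intro w hw
      have : zpowers a ⊔ zpowers b ≤ centralizer ({y} : Set G) := sup_le
        (zpowers_le.2 (mem_centralizer_singleton_iff.2 hya.symm.eq))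
        (zpowers_le.2 (mem_centralizer_singleton_iff.2 hyb.symm.eq))
      exact mem_centralizer_singleton_iff.1 (this (hsup hw))
    · rw [← Cfsg.Agent.S1416.centralizer_zpowers_eq hG, hb]
      exact hle

end Cfsg.Agent.S1419
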