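import Cfsg.Statements.S1337
import Cfsg.Agent.Lib.OddOrder.NormalRank
import Cfsg.Agent.Lib.Invol.NormalFour
import Cfsg.Agent.Lib.Invol.Counting

set_option autoImplicit false
open Cfsg

namespace Cfsg.Agent.S1337

theorem commOf {P : Type*} [Group P] {p : ℕ} {E : Subgroup P} (h : Cfsg.IsElementaryAbelian p E)
    {a b : P} (ha : a ∈ E) (hb : b ∈ E) : a * b = b * a :=
  congrArg Subtype.val (h.1.is_comm.comm (⟨a, ha⟩ : E) ⟨b, hb⟩)

set_option maxHeartbeats 800000 in
/-- Let P be a finite p-group of p-rank greater than 2. Then P has a normal elementary abelian subgroup U of order p², and for every elementary abelian X ≤ P with |X| ≥ p²: X is joined to U by a chain of pairwise commuting elementary abelian subgroups of order ≥ p² if and only if C_P(X) has p-rank greater than 2. -/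
theorem result {P : Type*} [Group P] [Finite P] (p : ℕ) [Fact p.Prime] (hP : IsPGroup p P) (hrk : ¬ Cfsg.PRankLE p 2 P) : ∃ U : Subgroup P, U.Normal ∧ Cfsg.IsElementaryAbelian p U ∧ Nat.card ↥U = p ^ 2 ∧ ∀ X : Subgroup P, Cfsg.IsElementaryAbelian p X → p ^ 2 ≤ Nat.card ↥X → (Relation.ReflTransGen (fun A B : Subgroup P => Cfsg.IsElementaryAbelian p A ∧ p ^ 2 ≤ Nat.card ↥A ∧ Cfsg.IsElementaryAbelian p B ∧ p ^ 2 ≤ Nat.card ↥B ∧ ∀ a ∈ A, ∀ b ∈ B, a * b = b * a) X U ↔ ¬ Cfsg.PRankLE p 2 ↥(Subgroup.centralizer (X : Set P))) := by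
  classical
  have hp := (Fact.out : p.Prime)
  -- pointwise-commuting elementary abelian subgroups generate one
  have hsupEA : ∀ A B : Subgroup P, Cfsg.IsElementaryAbelian p A → Cfsg.IsElementaryAbelian p B →
      (∀ a ∈ A, ∀ b ∈ B, a * b = b * a) → Cfsg.IsElementaryAbelian p (A ⊔ B) := by
    intro A B hA hB hc
    have hAc : ∀ a ∈ A, ∀ a' ∈ A, a * a' = a' * a := fun a ha a' ha' =>
      congrArg Subtype.val (hA.1.is_comm.comm (⟨a, ha⟩ : A) ⟨a', ha'⟩)
    have hBc : ∀ b ∈ B, ∀ b' ∈ B, b * b' = b' * b := fun b hb b' hb' =>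
      congrArg Subtype.val (hB.1.is_comm.comm (⟨b, hb⟩ : B) ⟨b', hb'⟩)
    have hcom : ∀ x ∈ A ⊔ B, ∀ y ∈ A ⊔ B, x * y = y * x := by
      have h1 : A ⊔ B ≤ Subgroup.centralizer (A : Set P) :=
        sup_le (fun a ha => Subgroup.mem_centralizer_iff.mpr fun a' ha' => hAc a' ha' a ha)
          (fun b hb => Subgroup.mem_centralizer_iff.mpr fun a ha => hc a ha b hb)
      have h2 : A ⊔ B ≤ Subgroup.centralizer (B : Set P) :=
        sup_le (fun a ha => Subgroup.mem_centralizer_iff.mpr fun b hb => (hc a ha b hb).symm)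
          (fun b hb => Subgroup.mem_centralizer_iff.mpr fun b' hb' => hBc b' hb' b hb)
      intro x hx y hy
      have h3 : A ⊔ B ≤ Subgroup.centralizer {x} :=
        sup_le (fun a ha => Subgroup.mem_centralizer_singleton_iff.mpr
            (Subgroup.mem_centralizer_iff.mp (h1 hx) a ha))
          (fun b hb => Subgroup.mem_centralizer_singleton_iff.mpr
            (Subgroup.mem_centralizer_iff.mp (h2 hx) b hb))
      exact (Subgroup.mem_centralizer_singleton_iff.mp (h3 hy)).symm
    refine ⟨⟨⟨fun a b => Subtype.ext (hcom a a.2 b b.2)⟩⟩, fun x hx => ?_⟩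
    let K : Subgroup P :=
      { carrier := {x | x ∈ A ⊔ B ∧ x ^ p = 1}
        one_mem' := ⟨one_mem _, one_pow p⟩
        mul_mem' := fun {a b} ha hb =>
          ⟨mul_mem ha.1 hb.1, by rw [Commute.mul_pow (hcom a ha.1 b hb.1), ha.2, hb.2, one_mul]⟩
        inv_mem' := fun {a} ha => ⟨inv_mem ha.1, by rw [inv_pow, ha.2, inv_one]⟩ }
    have hle : A ⊔ B ≤ K := sup_le (fun a ha => ⟨Subgroup.mem_sup_left ha, hA.2 a ha⟩)
      (fun b hb => ⟨Subgroup.mem_sup_right hb, hB.2 b hb⟩)
    exact (hle hx).2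
  -- rank at least three
  have hrank : ∀ (H E : Subgroup P), E ≤ H → Cfsg.IsElementaryAbelian p E →
      p ^ 2 < Nat.card E → ¬ Cfsg.PRankLE p 2 ↥H := by
    intro H E hEH hE hlt h
    have := h (E.subgroupOf H) ⟨⟨fun a b => Subtype.ext (Subtype.ext (commOf hE a.2 b.2))⟩⟩
      (fun a ha => Subtype.ext (hE.2 _ ha))
    rw [Nat.card_congr (Subgroup.subgroupOfEquivOfLe hEH).toEquiv] at this
    omega
  have hrankE : ∀ H : Subgroup P, ¬ Cfsg.PRankLE p 2 ↥H →
      ∃ E : Subgroup P, E ≤ H ∧ Cfsg.IsElementaryAbelian p E ∧ p ^ 2 < Nat.card E := by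
    intro H h
    simp only [Cfsg.PRankLE, not_forall, not_le] at h
    obtain ⟨A, hAc, hAp, hA⟩ := h
    refine ⟨A.map H.subtype, Subgroup.map_subtype_le A, ⟨by haveI := hAc; infer_instance, ?_⟩, ?_⟩
    · rintro _ ⟨a, ha, rfl⟩
      exact congrArg Subtype.val (hAp a ha)
    · rwa [Subgroup.card_map_of_injective H.subtype_injective]
  -- the normal subgroup
  obtain ⟨E0, hE0, hE0c⟩ : ∃ E : Subgroup P, Cfsg.IsElementaryAbelian p E ∧ p ^ 2 < Nat.card E := by
    simp only [Cfsg.PRankLE, not_forall, not_le] at hrk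
    obtain ⟨A, hAc, hAp, hA⟩ := hrk
    exact ⟨A, ⟨hAc, hAp⟩, hA⟩
  obtain ⟨U, hUn, hU, hUc⟩ : ∃ U : Subgroup P, U.Normal ∧ Cfsg.IsElementaryAbelian p U ∧
      Nat.card U = p ^ 2 := by
    rcases eq_or_ne p 2 with rfl | hp2
    · obtain ⟨k, hk⟩ := (hP.to_subgroup E0).exists_card_eq
      have hk3 : 3 ≤ k := by
        by_contra h
        have := Nat.pow_le_pow_right (show 0 < 2 by norm_num) (show k ≤ 2 by omega)
        omega
      obtain ⟨E1, hE1⟩ := Sylow.exists_subgroup_card_pow_prime 2 (n := 3)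
        (G := ↥E0) (hk ▸ pow_dvd_pow 2 hk3)
      obtain ⟨z, w, hz, hzo, hwo, hne, hconj⟩ := CfsgLib.Invol.exists_normal_four_pair hP
        (E := E1.map E0.subtype) (by rw [Subgroup.card_map_of_injective E0.subtype_injective, hE1]; rfl)
        (fun e he => by rw [← sq]; exact hE0.2 e (Subgroup.map_subtype_le E1 he))
      have hz2 : z ^ 2 = 1 := by rw [← hzo]; exact pow_orderOf_eq_one z
      have hw2 : w ^ 2 = 1 := by rw [← hwo]; exact pow_orderOf_eq_one w
      have hzw : z * w = w * z := (Subgroup.mem_center_iff.mp hz w).symm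
      have hEAz : ∀ x : P, x ^ 2 = 1 → Cfsg.IsElementaryAbelian 2 (Subgroup.zpowers x) := by
        intro x hx
        refine ⟨inferInstance, ?_⟩
        rintro a ⟨n, rfl⟩
        show (x ^ n) ^ 2 = 1
        rw [← zpow_natCast, ← zpow_mul, mul_comm, zpow_mul, zpow_natCast, hx, one_zpow]
      have hEA := hsupEA _ _ (hEAz z hz2) (hEAz w hw2) (by
        rintro _ ⟨i, rfl⟩ _ ⟨j, rfl⟩
        exact (Commute.zpow_zpow hzw i j).eq)
      refine ⟨_, ?_, hEA, ?_⟩
      · refine ⟨fun x hx g => ?_⟩
        have hle : Subgroup.zpowers z ⊔ Subgroup.zpowers w ≤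
            (Subgroup.zpowers z ⊔ Subgroup.zpowers w).comap (MulAut.conj g).toMonoidHom := by
          refine sup_le ((Subgroup.zpowers_le).mpr ?_) ((Subgroup.zpowers_le).mpr ?_)
          · rw [Subgroup.mem_comap, MulEquiv.coe_toMonoidHom, MulAut.conj_apply]
            rw [Subgroup.mem_center_iff.mp hz g, mul_inv_cancel_right]
            exact Subgroup.mem_sup_left (Subgroup.mem_zpowers z)
          · rw [Subgroup.mem_comap, MulEquiv.coe_toMonoidHom, MulAut.conj_apply]
            rcases hconj g with e | e <;> rw [e]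
            · exact Subgroup.mem_sup_right (Subgroup.mem_zpowers w)
            · exact mul_mem (Subgroup.mem_sup_left (Subgroup.mem_zpowers z))
                (Subgroup.mem_sup_right (Subgroup.mem_zpowers w))
        exact hle hx
      · have hdisj : Subgroup.zpowers z ⊓ Subgroup.zpowers w = ⊥ := by
          rw [eq_bot_iff]
          intro x hx
          obtain ⟨⟨i, rfl⟩, j, hj⟩ := hx
          have hj' : w ^ j = z ^ i := hj
          rcases Int.even_or_odd i with ⟨a, ha⟩ | ⟨a, ha⟩
          · show z ^ i = 1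
            rw [ha, ← two_mul, zpow_mul, zpow_ofNat, hz2, one_zpow]
          · exfalso
            have hzi : z ^ i = z := by rw [ha, zpow_add, zpow_mul, zpow_ofNat, hz2, one_zpow, one_mul, zpow_one]
            rw [hzi] at hj'
            rcases Int.even_or_odd j with ⟨b, hb⟩ | ⟨b, hb⟩
            · rw [hb, ← two_mul, zpow_mul, zpow_ofNat, hw2, one_zpow] at hj'
              rw [← hj', orderOf_one] at hzo
              omega
            · rw [hb, zpow_add, zpow_mul, zpow_ofNat, hw2, one_zpow, one_mul, zpow_one] at hj'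
              exact hne hj'
        haveI : (Subgroup.zpowers z).Normal := ⟨fun x hx g => by
          obtain ⟨i, rfl⟩ := hx
          rw [Subgroup.mem_center_iff.mp (zpow_mem hz i) g, mul_inv_cancel_right]
          exact ⟨i, rfl⟩⟩
        have h := Subgroup.relIndex_mul_relIndex ⊥ (Subgroup.zpowers z)
          (Subgroup.zpowers w ⊔ Subgroup.zpowers z) bot_le le_sup_right
        rw [Subgroup.relIndex_sup_right, ← Subgroup.inf_relIndex_right (Subgroup.zpowers z) (Subgroup.zpowers w), hdisj,
          Subgroup.relIndex_bot_left, Subgroup.relIndex_bot_left, Subgroup.relIndex_bot_left,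
          Nat.card_zpowers, Nat.card_zpowers, hzo, hwo] at h
        rw [sup_comm]
        exact h.symm
    · exact CfsgLib.OddOrder.exists_normal_elementary_two hp2 hP hrk
  haveI := hUn
  -- the centralizer of `U` has index at most `p`
  have hidx : (Subgroup.centralizer (U : Set P)).index ≤ p := by
    have hne : U ≠ ⊥ := fun e => by
      rw [e, Subgroup.card_bot] at hUc
      exact (Nat.one_lt_pow two_ne_zero hp.one_lt).ne hUc
    obtain ⟨z, hzU, hzc, hzo⟩ := CfsgLib.PGroup.exists_central_orderOf_eq hP U hne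
    have hnle : ¬ U ≤ Subgroup.zpowers z := fun hle => by
      have := Subgroup.card_le_of_le hle
      rw [hUc, Nat.card_zpowers, hzo] at this
      exact absurd this (not_le.mpr (lt_self_pow₀ hp.one_lt one_lt_two))
    obtain ⟨w, hwU, hwz⟩ := SetLike.not_le_iff_exists.mp hnle
    have hle : Subgroup.centralizer {w} ≤ Subgroup.centralizer (U : Set P) := by
      intro g hg
      rw [Subgroup.mem_centralizer_singleton_iff] at hg
      let W : Subgroup P := U ⊓ Subgroup.centralizer {g}
      have hzW : Subgroup.zpowers z ≤ W := (Subgroup.zpowers_le).mpr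
        ⟨hzU, Subgroup.mem_centralizer_singleton_iff.mpr (Subgroup.mem_center_iff.mp hzc g).symm⟩
      have hwW : w ∈ W := ⟨hwU, Subgroup.mem_centralizer_singleton_iff.mpr hg.symm⟩
      obtain ⟨i, -, hi⟩ := (Nat.dvd_prime_pow hp).mp
        (hUc ▸ Subgroup.card_dvd_of_le (inf_le_left : W ≤ U))
      have hlt : p < Nat.card W := by
        rw [← hzo, ← Nat.card_zpowers]
        refine lt_of_le_of_ne (Subgroup.card_le_of_le hzW) fun e => hwz ?_
        rw [Subgroup.eq_of_le_of_card_ge hzW e.ge]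
        exact hwW
      have hWU : W = U := by
        refine Subgroup.eq_of_le_of_card_ge inf_le_left ?_
        rw [hUc, hi]
        refine Nat.pow_le_pow_right hp.pos ?_
        by_contra hlt2
        have := Nat.pow_le_pow_right hp.pos (show i ≤ 1 by omega)
        rw [pow_one] at this
        have e : Nat.card ↥W = p ^ i := hi
        omega
      rw [Subgroup.mem_centralizer_iff]
      intro u hu
      have hu' : u ∈ W := hWU.symm ▸ hu
      exact Subgroup.mem_centralizer_singleton_iff.mp hu'.2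
    have hlt : (Subgroup.centralizer {w}).index < p ^ 2 := by
      rw [← CfsgLib.Invol.card_isConj_eq_index, ← hUc]
      let f : {u : P // IsConj w u} → {u : ↥U // u ≠ 1} := fun u =>
        ⟨⟨u.1, by obtain ⟨g, hg⟩ := isConj_iff.1 u.2; exact hg ▸ hUn.conj_mem w hwU g⟩, fun e => by
          have h1 : u.1 = 1 := congrArg Subtype.val e
          obtain ⟨g, hg⟩ := isConj_iff.1 u.2
          rw [h1, mul_inv_eq_one, mul_eq_left] at hg
          exact hwz (hg ▸ one_mem _)⟩
      have hf : Function.Injective f := fun a b e =>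
        Subtype.ext (congrArg (fun v : {u : ↥U // u ≠ 1} => ((v : ↥U) : P)) e)
      refine lt_of_le_of_lt (Nat.card_le_card_of_injective f hf) ?_
      haveI : Fintype ↥U := Fintype.ofFinite _
      rw [Nat.card_eq_fintype_card, Nat.card_eq_fintype_card]
      exact Fintype.card_subtype_lt (x := (1 : ↥U)) (fun h => h rfl)
    obtain ⟨i, hi⟩ := hP.index (Subgroup.centralizer {w})
    have h1 : (Subgroup.centralizer {w}).index ≤ p := by
      rw [hi] at hlt ⊢
      have hi2 : i < 2 := (Nat.pow_lt_pow_iff_right hp.one_lt).mp hlt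
      exact (Nat.pow_le_pow_right hp.pos (show i ≤ 1 by omega)).trans_eq (pow_one p)
    exact (Nat.le_of_dvd (Nat.pos_of_ne_zero Subgroup.index_ne_zero_of_finite)
      (Subgroup.index_dvd_of_le hle)).trans h1
  -- large elementary abelian subgroups meet that centralizer in order at least `p ^ 2`
  have hmeet : ∀ E : Subgroup P, p ^ 2 < Nat.card E →
      p ^ 2 ≤ Nat.card ↥(E ⊓ Subgroup.centralizer (U : Set P)) := by
    intro E hE
    obtain ⟨k, hk⟩ := (hP.to_subgroup E).exists_card_eq
    have hk3 : 3 ≤ k := by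
      by_contra h
      have := Nat.pow_le_pow_right hp.pos (show k ≤ 2 by omega)
      omega
    have h := Subgroup.relIndex_mul_relIndex ⊥ (E ⊓ Subgroup.centralizer (U : Set P)) E bot_le inf_le_left
    rw [Subgroup.relIndex_bot_left, Subgroup.relIndex_bot_left, Subgroup.inf_relIndex_left, hk] at h
    have h2 : (Subgroup.centralizer (U : Set P)).relIndex E ≤ p := by
      refine le_trans ?_ hidx
      rw [← Subgroup.relIndex_top_right]
      exact Subgroup.relIndex_le_of_le_right le_top (by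
        rw [Subgroup.relIndex_top_right]; exact Subgroup.index_ne_zero_of_finite)
    by_contra hlt
    push Not at hlt
    obtain ⟨j, hj⟩ := (hP.to_subgroup (E ⊓ Subgroup.centralizer (U : Set P))).exists_card_eq
    rw [hj] at hlt h
    have hj1 : j ≤ 1 := by
      have := (Nat.pow_lt_pow_iff_right hp.one_lt).mp hlt
      omega
    have h3 := Nat.mul_le_mul (Nat.pow_le_pow_right hp.pos hj1) h2
    rw [h, pow_one, ← sq] at h3
    have := (Nat.pow_le_pow_iff_right hp.one_lt).mp h3
    omega
  -- the centralizer of `U` has rank at least three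
  have hUrank : ¬ Cfsg.PRankLE p 2 ↥(Subgroup.centralizer (U : Set P)) := by
    have hUU : U ≤ Subgroup.centralizer (U : Set P) := fun u hu =>
      Subgroup.mem_centralizer_iff.mpr fun v hv =>
        congrArg Subtype.val (hU.1.is_comm.comm (⟨v, hv⟩ : U) ⟨u, hu⟩)
    set E' := E0 ⊓ Subgroup.centralizer (U : Set P) with hE'
    have hE'EA : Cfsg.IsElementaryAbelian p E' := ⟨⟨⟨fun a b => Subtype.ext (commOf hE0 a.2.1 b.2.1)⟩⟩, fun a ha => hE0.2 a ha.1⟩
    have hc : ∀ a ∈ E', ∀ b ∈ U, a * b = b * a := fun a ha b hb =>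
      (Subgroup.mem_centralizer_iff.mp ha.2 b hb).symm
    by_cases heq : E' ≤ U
    · have hE'U : E' = U := Subgroup.eq_of_le_of_card_ge heq (hUc ▸ hmeet E0 hE0c)
      refine hrank _ E0 (fun e he => Subgroup.mem_centralizer_iff.mpr fun u hu => ?_) hE0 hE0c
      exact congrArg Subtype.val
        (hE0.1.is_comm.comm (⟨u, ((hE'U.symm ▸ hu : u ∈ E')).1⟩ : E0) ⟨e, he⟩)
    · refine hrank _ (E' ⊔ U) (sup_le inf_le_right hUU) (hsupEA _ _ hE'EA hU hc) ?_
      rw [← hUc]
      refine lt_of_le_of_ne (Subgroup.card_le_of_le le_sup_right) fun e => heq ?_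
      rw [Subgroup.eq_of_le_of_card_ge (le_sup_right : U ≤ E' ⊔ U) e.ge]
      exact le_sup_left
  refine ⟨U, hUn, hU, hUc, fun X hX hXc => ⟨fun hpath => ?_, fun h => ?_⟩⟩
  · clear hX hXc
    induction hpath using Relation.ReflTransGen.head_induction_on with
    | refl => exact hUrank
    | @head A B hedge hrest ih =>
      obtain ⟨hA, hAc, hB, hBc, hc⟩ := hedge
      have hAA : A ≤ Subgroup.centralizer (A : Set P) := fun u hu =>
        Subgroup.mem_centralizer_iff.mpr fun v hv =>
          congrArg Subtype.val (hA.1.is_comm.comm (⟨v, hv⟩ : A) ⟨u, hu⟩)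
      by_cases hBA : B ≤ A
      · rcases lt_or_eq_of_le (Subgroup.card_le_of_le hBA) with hlt | heq
        · exact hrank _ A hAA hA (lt_of_le_of_lt hBc hlt)
        · rw [← Subgroup.eq_of_le_of_card_ge hBA heq.ge]
          exact ih
      · refine hrank _ (A ⊔ B) (sup_le hAA fun b hb =>
          Subgroup.mem_centralizer_iff.mpr fun a ha => hc a ha b hb) (hsupEA A B hA hB hc) ?_
        refine lt_of_le_of_lt hAc (lt_of_le_of_ne (Subgroup.card_le_of_le le_sup_left) fun e => hBA ?_)
        rw [Subgroup.eq_of_le_of_card_ge (le_sup_left : A ≤ A ⊔ B) e.ge]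
        exact le_sup_right
  · obtain ⟨E, hEX, hE, hEc⟩ := hrankE _ h
    have hEX' : ∀ a ∈ X, ∀ b ∈ E, a * b = b * a := fun a ha b hb =>
      Subgroup.mem_centralizer_iff.mp (hEX hb) a ha
    have hE'EA : Cfsg.IsElementaryAbelian p (E ⊓ Subgroup.centralizer (U : Set P)) :=
      ⟨⟨⟨fun a b => Subtype.ext (commOf hE a.2.1 b.2.1)⟩⟩, fun a ha => hE.2 a ha.1⟩
    refine Relation.ReflTransGen.head ⟨hX, hXc, hE, hEc.le, hEX'⟩
      (Relation.ReflTransGen.head ⟨hE, hEc.le, hE'EA, hmeet E hEc, fun a ha b hb =>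
        congrArg Subtype.val (hE.1.is_comm.comm (⟨a, ha⟩ : E) ⟨b, hb.1⟩)⟩
        (Relation.ReflTransGen.single ⟨hE'EA, hmeet E hEc, hU, hUc.ge, fun a ha b hb =>
          (Subgroup.mem_centralizer_iff.mp ha.2 b hb).symm⟩))

end Cfsg.Agent.S1337
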