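import Cfsg.Statements.S0501
import Cfsg.Agent.Lib.MacWilliams.Main

set_option autoImplicit false
open Cfsg

namespace Cfsg.Agent.S0501

/-- A finite 2-group in which every normal elementary abelian subgroup has order at most 4 has sectional rank at most
4: every quotient of every subgroup has no elementary abelian subgroup of order exceeding 16. -/
theorem result {P : Type*} [Group P] [Finite P] (hP : IsPGroup 2 P)
    (h : ∀ A : Subgroup P, A.Normal → IsMulCommutative A → (∀ a ∈ A, a ^ 2 = 1) → Nat.card A ≤ 4) :
    Cfsg.SectionalPRankLE 2 4 P := by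
  intro H N _ A hc he
  let f := QuotientGroup.mk' N
  have hf : Function.Surjective f := QuotientGroup.mk'_surjective N
  set K := (A.comap f).map H.subtype with hK
  have hKcard : Nat.card K = Nat.card A * Nat.card N := by
    rw [hK, Subgroup.card_map_of_injective H.subtype_injective]
    have h1 := (A.comap f).card_mul_index
    rw [Subgroup.index_comap_of_surjective _ hf,
      Subgroup.card_eq_card_quotient_mul_card_subgroup N, ← A.card_mul_index] at h1
    refine Nat.eq_of_mul_eq_mul_right (m := A.index)
      (Nat.pos_of_ne_zero Subgroup.index_ne_zero_of_finite) ?_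
    rw [h1]
    ring
  have hsq : Nat.card (CfsgLib.MacWilliams.sqSub K) ≤ Nat.card N := by
    rw [Nat.card_congr (N.equivMapOfInjective H.subtype H.subtype_injective).toEquiv]
    refine Subgroup.card_le_of_le (CfsgLib.MacWilliams.sqSub_le_iff.mpr ?_)
    rintro _ ⟨x, hx, rfl⟩
    refine ⟨x * x, ?_, rfl⟩
    show x * x ∈ N
    rw [← QuotientGroup.eq_one_iff, QuotientGroup.mk_mul, ← pow_two]
    exact he _ hx
  have hle := CfsgLib.MacWilliams.card_le_sixteen_mul_sqSub hP h K
  rw [hKcard] at hle
  exact Nat.le_of_mul_le_mul_right (hle.trans (Nat.mul_le_mul_left 16 hsq)) Nat.card_pos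

end Cfsg.Agent.S0501
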