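import Cfsg.Statements.S5515
import Cfsg.Agent.Lib.AutPOmega.PlusResults
import Cfsg.Agent.Lib.Components.GenFitting

set_option autoImplicit false
set_option maxHeartbeats 800000
set_option synthInstance.maxHeartbeats 400000
open Cfsg

namespace Cfsg.Agent.S5515

/-- A subgroup of order six of `S₄` is a point stabiliser. -/
theorem eq_stabilizer (U : Subgroup (Equiv.Perm (Fin 4))) (hU : Nat.card U = 6) :
    ∃ i : Fin 4, U = MulAction.stabilizer (Equiv.Perm (Fin 4)) i := by
  haveI : Fact (Nat.Prime 3) := ⟨Nat.prime_three⟩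
  obtain ⟨c, hc⟩ := exists_prime_orderOf_dvd_card' (G := U) 3 (by rw [hU]; norm_num)
  have hc' : orderOf (c : Equiv.Perm (Fin 4)) = 3 := by rwa [Subgroup.orderOf_coe]
  have hidx : (Subgroup.zpowers c).index = 2 := by
    have h := (Subgroup.zpowers c).index_mul_card
    rw [Nat.card_zpowers, hc, hU] at h
    omega
  haveI := Subgroup.normal_of_index_eq_two hidx
  have key : ∀ g : Equiv.Perm (Fin 4), g ^ 3 = 1 → g ≠ 1 → ∃ i, g i = i ∧ ∀ j, g j = j → j = i := by decide
  obtain ⟨i, hi, huniq⟩ := key c (by rw [← hc', pow_orderOf_eq_one]) fun h => by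
    rw [h, orderOf_one] at hc'; norm_num at hc'
  have hle : U ≤ MulAction.stabilizer (Equiv.Perm (Fin 4)) i := by
    intro u hu
    have hn := Subgroup.Normal.conj_mem (inferInstance : (Subgroup.zpowers c).Normal) c
      (Subgroup.mem_zpowers c) (⟨u, hu⟩ : U)⁻¹
    obtain ⟨k, hk⟩ := Subgroup.mem_zpowers_iff.1 hn
    have hk' : (c : Equiv.Perm (Fin 4)) ^ k = u⁻¹ * c * u := by
      have h := congrArg (fun x : U => (x : Equiv.Perm (Fin 4))) hk
      simpa using h
    have hfix : ((c : Equiv.Perm (Fin 4)) ^ k) i = i :=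
      Equiv.Perm.zpow_apply_eq_self_of_apply_eq_self hi k
    rw [hk', Equiv.Perm.mul_apply, Equiv.Perm.mul_apply] at hfix
    refine huniq _ ?_
    exact Equiv.Perm.inv_eq_iff_eq.1 hfix
  refine ⟨i, Subgroup.eq_of_le_of_card_ge hle (le_of_eq ?_)⟩
  have hst : ∀ j : Fin 4,
      Nat.card (MulAction.stabilizer (Equiv.Perm (Fin 4)) j) = 6 := by
    intro j
    have h := (MulAction.stabilizer (Equiv.Perm (Fin 4)) j).index_mul_card
    rw [MulAction.index_stabilizer_of_transitive (Equiv.Perm (Fin 4)) j, Nat.card_fin, Nat.card_perm,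
      Nat.card_fin] at h
    have : Nat.factorial 4 = 24 := rfl
    omega
  rw [hst, hU]

/-- Subgroups of order six of a group isomorphic to `S₄` are conjugate. -/
theorem conj_of_card_six {O : Type*} [Group O] (e : O ≃* Equiv.Perm (Fin 4)) (U V : Subgroup O)
    (hU : Nat.card U = 6) (hV : Nat.card V = 6) : ∃ o : O, U.map (MulAut.conj o).toMonoidHom = V := by
  obtain ⟨i, hi⟩ := eq_stabilizer (U.map e.toMonoidHom)
    (by rw [Subgroup.card_map_of_injective e.injective, hU])
  obtain ⟨j, hj⟩ := eq_stabilizer (V.map e.toMonoidHom)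
    (by rw [Subgroup.card_map_of_injective e.injective, hV])
  obtain ⟨g, hg⟩ := MulAction.exists_smul_eq (Equiv.Perm (Fin 4)) i j
  refine ⟨e.symm g, Subgroup.map_injective (f := e.toMonoidHom) e.injective ?_⟩
  rw [hj, ← hg, MulAction.stabilizer_smul_eq_stabilizer_map_conj, ← hi, Subgroup.map_map,
    Subgroup.map_map]
  congr 1
  exact MonoidHom.ext fun x => by simp

section Ext

variable {K : Type*} [Group K] {G : Type*} [Group G] (N : Subgroup G) [N.Normal]

/-- The action of the group on the normal subgroup. -/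
noncomputable def act (e : N ≃* K) : G →* MulAut K :=
  (MulAut.congr e).toMonoidHom.comp MulAut.conjNormal

theorem act_coe (e : N ≃* K) (n : N) : act N e n = MulAut.conj (e n) := by
  refine MulEquiv.ext fun k => ?_
  have h : MulAut.conjNormal (n : G) (e.symm k) = n * e.symm k * n⁻¹ := Subtype.ext (by
    simp [MulAut.conjNormal_apply])
  show e (MulAut.conjNormal (n : G) (e.symm k)) = e n * k * (e n)⁻¹
  rw [h, map_mul, map_mul, map_inv, e.apply_symm_apply]

theorem act_injective (e : N ≃* K) (hC : Subgroup.centralizer (N : Set G) ≤ N)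
    (hZ : Function.Injective (MulAut.conj : K →* MulAut K)) : Function.Injective (act N e) := by
  refine (injective_iff_map_eq_one _).2 fun g hg => ?_
  have hg' : g ∈ Subgroup.centralizer (N : Set G) := by
    rw [Subgroup.mem_centralizer_iff]
    intro x hx
    have h := DFunLike.congr_fun hg (e ⟨x, hx⟩)
    have h' : MulAut.conjNormal g ⟨x, hx⟩ = ⟨x, hx⟩ := by
      refine e.injective ?_
      simpa [act, MulAut.congr] using h
    have h'' := congrArg Subtype.val h'
    rw [MulAut.conjNormal_apply, mul_inv_eq_iff_eq_mul] at h''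
    exact h''.symm
  have h1 : act N e g = MulAut.conj (e ⟨g, hC hg'⟩) := act_coe N e ⟨g, hC hg'⟩
  rw [hg] at h1
  have h2 : e ⟨g, hC hg'⟩ = 1 := hZ (h1.symm.trans (map_one _).symm)
  exact congrArg Subtype.val (e.map_eq_one_iff.1 h2)

theorem act_range (e : N ≃* K) : Cfsg.Inn K ≤ (act N e).range := by
  rintro _ ⟨k, rfl⟩
  exact ⟨(e.symm k : N), by rw [act_coe, e.apply_symm_apply]⟩

theorem card_image [Finite G] [Finite (MulAut K)] (e : N ≃* K)
    (hC : Subgroup.centralizer (N : Set G) ≤ N)
    (hZ : Function.Injective (MulAut.conj : K →* MulAut K)) :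
    Nat.card ((act N e).range.map (QuotientGroup.mk' (Cfsg.Inn K))) = Nat.card (G ⧸ N) := by
  set f := (QuotientGroup.mk' (Cfsg.Inn K)).comp (act N e) with hf
  have hker : f.ker = N := by
    ext g
    rw [hf, MonoidHom.mem_ker, MonoidHom.comp_apply, QuotientGroup.mk'_apply, QuotientGroup.eq_one_iff]
    constructor
    · rintro ⟨k, hk⟩
      have h : act N e ((e.symm k : N) : G) = act N e g := by
        rw [act_coe, e.apply_symm_apply]; exact hk
      rw [← act_injective N e hC hZ h]
      exact (e.symm k).2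
    · intro hg
      exact ⟨e ⟨g, hg⟩, (act_coe N e ⟨g, hg⟩).symm⟩
  rw [MonoidHom.map_range, ← hf, ← Nat.card_congr (QuotientGroup.quotientKerEquivRange f).toEquiv, hker]

theorem injective_conj_of_equiv {A B : Type*} [Group A] [Group B] (e : A ≃* B)
    (h : Function.Injective (MulAut.conj : B →* MulAut B)) :
    Function.Injective (MulAut.conj : A →* MulAut A) := by
  intro x y hxy
  refine e.injective (h (MulEquiv.ext fun b => ?_))
  have h' := congrArg e (DFunLike.congr_fun hxy (e.symm b))
  simpa using h'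

end Ext

theorem ext_unique {K : Type*} [Group K] [Finite (MulAut K)] (hout : Cfsg.Out K ≃* Equiv.Perm (Fin 4))
    (hZ : Function.Injective (MulAut.conj : K →* MulAut K))
    {G G' : Type*} [Group G] [Finite G] [Group G'] [Finite G'] (N : Subgroup G) [N.Normal]
    (N' : Subgroup G') [N'.Normal] (e : N ≃* K) (e' : N' ≃* K)
    (hC : Subgroup.centralizer (N : Set G) ≤ N) (hC' : Subgroup.centralizer (N' : Set G') ≤ N')
    (h6 : Nat.card (G ⧸ N) = 6) (h6' : Nat.card (G' ⧸ N') = 6) : Nonempty (G ≃* G') := by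
  obtain ⟨o, ho⟩ := conj_of_card_six (O := Cfsg.Out K) hout
    ((act N e).range.map (QuotientGroup.mk' (Cfsg.Inn K)))
    ((act N' e').range.map (QuotientGroup.mk' (Cfsg.Inn K)))
    ((card_image N e hC hZ).trans h6) ((card_image N' e' hC' hZ).trans h6')
  obtain ⟨a, rfl⟩ := QuotientGroup.mk'_surjective _ o
  have hmap : (act N e).range.map (MulAut.conj a).toMonoidHom = (act N' e').range := by
    have h1 := Subgroup.comap_map_eq_self (f := QuotientGroup.mk' (Cfsg.Inn K))
      (H := (act N' e').range) (by rw [QuotientGroup.ker_mk']; exact act_range N' e')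
    rw [← h1, ← ho, Subgroup.map_map]
    have h2 : ((act N e).range.map (MulAut.conj a).toMonoidHom).map (QuotientGroup.mk' (Cfsg.Inn K)) =
        (act N e).range.map (((MulAut.conj (QuotientGroup.mk' (Cfsg.Inn K) a)).toMonoidHom).comp
          (QuotientGroup.mk' (Cfsg.Inn K))) := by
      rw [Subgroup.map_map]
      congr 1
    rw [← h2, Subgroup.comap_map_eq_self]
    rw [QuotientGroup.ker_mk']
    intro y hy
    refine ⟨a⁻¹ * y * a, act_range N e ?_, by simp [mul_assoc]⟩
    have := Subgroup.Normal.conj_mem (inferInstance : (Cfsg.Inn K).Normal) y hy a⁻¹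
    simpa using this
  exact ⟨(MonoidHom.ofInjective (act_injective N e hC hZ)).trans
    ((((act N e).range.equivMapOfInjective _ (MulAut.conj a).injective).trans
      (MulEquiv.subgroupCongr hmap)).trans (MonoidHom.ofInjective (act_injective N' e' hC' hZ)).symm)⟩

/-- Let G and G′ be finite groups whose generalized Fitting subgroups are isomorphic to PΩ⁺(8, 3) (the commutator subgroup of the isometry group of the hyperbolic quadratic form in dimension 8 over the field with three elements, modulo its centre) with quotients isomorphic to the symmetric group of degree 3. Then G and G′ are isomorphic. -/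
theorem result {G G' : Type*} [Group G] [Finite G] [Group G'] [Finite G'] (hF : Nonempty (↥(Cfsg.generalizedFittingSubgroup G) ≃* Cfsg.POmega (ZMod 3) (Cfsg.quadFormPlus 4 (ZMod 3)))) (hF' : Nonempty (↥(Cfsg.generalizedFittingSubgroup G') ≃* Cfsg.POmega (ZMod 3) (Cfsg.quadFormPlus 4 (ZMod 3)))) [hn : (Cfsg.generalizedFittingSubgroup G).Normal] [hn' : (Cfsg.generalizedFittingSubgroup G').Normal] (hq : Nonempty (G ⧸ Cfsg.generalizedFittingSubgroup G ≃* Equiv.Perm (Fin 3))) (hq' : Nonempty (G' ⧸ Cfsg.generalizedFittingSubgroup G' ≃* Equiv.Perm (Fin 3))) : Nonempty (G ≃* G') := by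
  haveI : Fact (Nat.Prime 3) := ⟨Nat.prime_three⟩
  haveI : Fintype (ZMod 3) := inferInstance
  have hG := CfsgLib.AutPOmega.good_plus (F := ZMod 3) 3 (m := 4) (by norm_num)
  obtain ⟨j⟩ := CfsgLib.AutPOmega.nonempty_out_d4
    (CfsgLib.AutPOmega.out_d4_odd (F := ZMod 3) 3 1 (by rw [ZMod.card, pow_one]) (by norm_num))
  haveI : Subsingleton (Multiplicative (ZMod 1)) := inferInstanceAs (Subsingleton (ZMod 1))
  have hout : Cfsg.Out (Cfsg.POmega (ZMod 3) (Cfsg.quadFormPlus 4 (ZMod 3))) ≃* Equiv.Perm (Fin 4) :=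
    j.trans (MulEquiv.ofBijective (MonoidHom.fst _ _)
      ⟨fun x y h => Prod.ext h (Subsingleton.elim _ _), fun x => ⟨(x, 1), rfl⟩⟩)
  obtain ⟨e⟩ := hF
  obtain ⟨e'⟩ := hF'
  obtain ⟨q⟩ := hq
  obtain ⟨q'⟩ := hq'
  haveI : Finite (Cfsg.POmega (ZMod 3) (Cfsg.quadFormPlus 4 (ZMod 3))) := Finite.of_equiv _ e.toEquiv
  haveI : Finite (MulAut (Cfsg.POmega (ZMod 3) (Cfsg.quadFormPlus 4 (ZMod 3)))) :=
    Finite.of_injective _ DFunLike.coe_injective
  refine ext_unique hout ?_ _ _ e e' CfsgLib.Components.centralizer_genFitting_le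
    CfsgLib.Components.centralizer_genFitting_le ?_ ?_
  · exact injective_conj_of_equiv
      (CfsgLib.Classical.Quad.pomegaEquiv (CfsgLib.Classical.Quad.plusEquiv 4 (ZMod 3))
        (CfsgLib.Classical.Quad.plusEquiv_spec 4)
        (CfsgLib.Classical.Quad.ndPolar_hypForm CfsgLib.Classical.Quad.ndPolar_zeroKernel 4)
        (CfsgLib.AutPOmega.frame (CfsgLib.Classical.Quad.zeroKernel (ZMod 3)) (by norm_num : 3 ≤ 4)))
      (CfsgLib.AutPOmega.conj_injective hG)
  · rw [Nat.card_congr q.toEquiv, Nat.card_perm, Nat.card_fin]; rfl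
  · rw [Nat.card_congr q'.toEquiv, Nat.card_perm, Nat.card_fin]; rfl

end Cfsg.Agent.S5515
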