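import Cfsg.Statements.S5516
import Cfsg.Agent.S5515
import Cfsg.Agent.Lib.OmegaEightThree.Classes

set_option autoImplicit false
set_option maxRecDepth 100000
set_option maxHeartbeats 1000000
set_option synthInstance.maxHeartbeats 400000
open Cfsg

namespace Cfsg.Agent.S5516

open CfsgLib.OmegaEightThree

/-- An element of order three and an inverting involution generate a subgroup of order six. -/
theorem card_closure_pair {O : Type*} [Group O] (e : O ≃* Equiv.Perm (Fin 4)) {a b : O}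
    (ha3 : a * a * a = 1) (ha1 : a ≠ 1) (hb2 : b * b = 1) (hb1 : b ≠ 1) (hab : b * a * b⁻¹ = a⁻¹) :
    Nat.card (Subgroup.closure {a, b}) = 6 := by
  have key : ∀ x y : Equiv.Perm (Fin 4), x * x * x = 1 → x ≠ 1 → y * y = 1 → y * x * y⁻¹ = x⁻¹ →
      ∃ i, x i = i ∧ y i = i := by decide +kernel
  obtain ⟨i, hx, hy⟩ := key (e a) (e b) (by rw [← map_mul, ← map_mul, ha3, map_one])
    (fun h => ha1 (e.map_eq_one_iff.1 h)) (by rw [← map_mul, hb2, map_one])
    (by rw [← map_inv, ← map_mul, ← map_mul, hab, map_inv])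
  have hle : (Subgroup.closure {a, b}).map e.toMonoidHom ≤
      MulAction.stabilizer (Equiv.Perm (Fin 4)) i := by
    rw [MonoidHom.map_closure, Subgroup.closure_le]
    rintro _ ⟨z, rfl | rfl, rfl⟩
    exacts [hx, hy]
  have hst : Nat.card (MulAction.stabilizer (Equiv.Perm (Fin 4)) i) = 6 := by
    have h := (MulAction.stabilizer (Equiv.Perm (Fin 4)) i).index_mul_card
    rw [MulAction.index_stabilizer_of_transitive (Equiv.Perm (Fin 4)) i, Nat.card_fin, Nat.card_perm,
      Nat.card_fin] at h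
    have : Nat.factorial 4 = 24 := rfl
    omega
  have hle6 := Nat.le_of_dvd (by rw [hst]; norm_num) (Subgroup.card_dvd_of_le hle)
  rw [hst, Subgroup.card_map_of_injective e.injective] at hle6
  have : Fact (Nat.Prime 2) := ⟨Nat.prime_two⟩
  have : Fact (Nat.Prime 3) := ⟨Nat.prime_three⟩
  have h3 : 3 ∣ Nat.card (Subgroup.closure {a, b}) := by
    rw [← orderOf_eq_prime (p := 3) (by rw [pow_succ, pow_two, ha3]) ha1]
    exact Subgroup.orderOf_dvd_natCard _ (Subgroup.subset_closure (Or.inl rfl))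
  have h2 : 2 ∣ Nat.card (Subgroup.closure {a, b}) := by
    rw [← orderOf_eq_prime (p := 2) (by rw [pow_two, hb2]) hb1]
    exact Subgroup.orderOf_dvd_natCard _ (Subgroup.subset_closure (Or.inr rfl))
  have : Finite O := Finite.of_equiv _ e.symm.toEquiv
  have hpos : 0 < Nat.card (Subgroup.closure {a, b}) := Nat.card_pos
  obtain ⟨u, hu⟩ := h3
  omega

theorem card_image_closure {K : Type*} [Group K] (e : Cfsg.Out K ≃* Equiv.Perm (Fin 4))
    (g k : MulAut K) (hg3 : g * g * g = 1) (hg : g ∉ Cfsg.Inn K) (hk2 : k * k = 1)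
    (hk : k ∉ Cfsg.Inn K) (hkg : k * g * k⁻¹ = g⁻¹) :
    Nat.card ((Subgroup.closure (Set.range (MulAut.conj : K → MulAut K) ∪ {g, k})).map
      (QuotientGroup.mk' (Cfsg.Inn K))) = 6 := by
  have hmap : (Subgroup.closure (Set.range (MulAut.conj : K → MulAut K) ∪ {g, k})).map
      (QuotientGroup.mk' (Cfsg.Inn K)) = Subgroup.closure
      {QuotientGroup.mk' (Cfsg.Inn K) g, QuotientGroup.mk' (Cfsg.Inn K) k} := by
    refine le_antisymm ?_ ((Subgroup.closure_le _).2 ?_)
    · rw [MonoidHom.map_closure, Subgroup.closure_le]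
      rintro _ ⟨z, ⟨k', rfl⟩ | rfl | rfl, rfl⟩
      · have h1 : QuotientGroup.mk' (Cfsg.Inn K) (MulAut.conj k') = 1 :=
          (QuotientGroup.eq_one_iff _).2 ⟨k', rfl⟩
        rw [h1]
        exact one_mem _
      · exact Subgroup.subset_closure (Or.inl rfl)
      · exact Subgroup.subset_closure (Or.inr rfl)
    · rintro _ (rfl | rfl)
      · exact Subgroup.mem_map_of_mem _ (Subgroup.subset_closure (Or.inr (Or.inl rfl)))
      · exact Subgroup.mem_map_of_mem _ (Subgroup.subset_closure (Or.inr (Or.inr rfl)))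
  rw [hmap]
  refine card_closure_pair e ?_ ?_ ?_ ?_ ?_
  · rw [← map_mul, ← map_mul, hg3, map_one]
  · rwa [QuotientGroup.mk'_apply, ne_eq, QuotientGroup.eq_one_iff]
  · rw [← map_mul, hk2, map_one]
  · rwa [QuotientGroup.mk'_apply, ne_eq, QuotientGroup.eq_one_iff]
  · rw [← map_inv, ← map_mul, ← map_mul, hkg, map_inv]

/-- An extension whose image in the outer automorphisms has order six acts as a conjugate of a given one. -/
theorem exists_twist {K : Type*} [Group K] [Finite (MulAut K)] {G : Type*} [Group G] [Finite G]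
    (L : Subgroup G) [L.Normal] (e : L ≃* K) (hC : Subgroup.centralizer (L : Set G) ≤ L)
    (hZ : Function.Injective (MulAut.conj : K →* MulAut K)) (h6 : Nat.card (G ⧸ L) = 6)
    (hout : Cfsg.Out K ≃* Equiv.Perm (Fin 4)) (A : Subgroup (MulAut K)) (hinn : Cfsg.Inn K ≤ A)
    (hA6 : Nat.card (A.map (QuotientGroup.mk' (Cfsg.Inn K))) = 6) :
    ∃ (f : L ≃* K) (act : G →* MulAut K),
      (∀ g (x : L), act g (f x) = f (MulAut.conjNormal g x)) ∧ act.range = A := by
  obtain ⟨o, ho⟩ := Cfsg.Agent.S5515.conj_of_card_six hout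
    ((Cfsg.Agent.S5515.act L e).range.map (QuotientGroup.mk' (Cfsg.Inn K)))
    (A.map (QuotientGroup.mk' (Cfsg.Inn K)))
    ((Cfsg.Agent.S5515.card_image L e hC hZ).trans h6) hA6
  obtain ⟨a, rfl⟩ := QuotientGroup.mk'_surjective _ o
  have hmap : (Cfsg.Agent.S5515.act L e).range.map (MulAut.conj a).toMonoidHom = A := by
    have h1 := Subgroup.comap_map_eq_self (f := QuotientGroup.mk' (Cfsg.Inn K))
      (H := A) (by rw [QuotientGroup.ker_mk']; exact hinn)
    rw [← h1, ← ho, Subgroup.map_map]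
    have h2 : ((Cfsg.Agent.S5515.act L e).range.map (MulAut.conj a).toMonoidHom).map
        (QuotientGroup.mk' (Cfsg.Inn K)) = (Cfsg.Agent.S5515.act L e).range.map
          (((MulAut.conj (QuotientGroup.mk' (Cfsg.Inn K) a)).toMonoidHom).comp
            (QuotientGroup.mk' (Cfsg.Inn K))) := by
      rw [Subgroup.map_map]
      congr 1
    rw [← h2, Subgroup.comap_map_eq_self]
    rw [QuotientGroup.ker_mk']
    intro y hy
    refine ⟨a⁻¹ * y * a, Cfsg.Agent.S5515.act_range L e ?_, by simp [mul_assoc]⟩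
    have := Subgroup.Normal.conj_mem (inferInstance : (Cfsg.Inn K).Normal) y hy a⁻¹
    simpa using this
  refine ⟨e.trans a, (MulAut.conj a).toMonoidHom.comp (Cfsg.Agent.S5515.act L e), fun g x => ?_, ?_⟩
  · show a ((Cfsg.Agent.S5515.act L e g) (a.symm (a (e x)))) = a (e (MulAut.conjNormal g x))
    rw [a.symm_apply_apply]
    show a (e (MulAut.conjNormal g (e.symm (e x)))) = _
    rw [e.symm_apply_apply]
  · rw [MonoidHom.range_comp, hmap]

theorem kap_sq : κ * κ = 1 := by
  unfold κ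
  rw [← MonoidHom.map_mul, ← MonoidHom.map_mul, CfsgLib.AutPOmega.kap_mul_self, MonoidHom.map_one,
    MonoidHom.map_one]

theorem card_graphAuts (e : Cfsg.Out K8 ≃* Equiv.Perm (Fin 4)) :
    Nat.card (graphAuts.map (QuotientGroup.mk' (Cfsg.Inn K8))) = 6 := by
  unfold graphAuts
  exact card_image_closure e γ κ (CfsgLib.AutPOmega.gam_cube 3) (not_inn (γ_rep 4) (by decide)) kap_sq
    (not_inn (κ_rep 4) (by decide)) (CfsgLib.AutPOmega.kap_gam 3)

theorem inn_le_graphAuts : Cfsg.Inn K8 ≤ graphAuts := by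
  rintro _ ⟨k, rfl⟩
  exact conj_mem_graphAuts k

/-- The orbits in an extension by the symmetric group of degree three. -/
theorem orbits_ext {G : Type*} [Group G] [Finite G] (L : Subgroup G) [L.Normal] (e : L ≃* K8)
    (hC : Subgroup.centralizer (L : Set G) ≤ L) (h6 : Nat.card (G ⧸ L) = 6) :
    ∃ Y : Fin 7 → Subgroup G, (∀ i, Y i ≤ L ∧ Nat.card (Y i) = 3) ∧
      (∀ i j, (∃ g : G, (Y i).map (MulAut.conj g).toMonoidHom = Y j) → i = j) ∧
      ∀ X : Subgroup G, X ≤ L → Nat.card X = 3 →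
        ∃ i, ∃ g : G, X.map (MulAut.conj g).toMonoidHom = Y i := by
  have hG := CfsgLib.AutPOmega.good_plus (F := ZMod 3) 3 (m := 4) (by norm_num)
  have hZ : Function.Injective (MulAut.conj : K8 →* MulAut K8) :=
    CfsgLib.AutPOmega.conj_injective hG
  obtain ⟨j⟩ := CfsgLib.AutPOmega.out_d4_odd (F := ZMod 3) 3 1 (by rw [ZMod.card, pow_one]) (by norm_num)
  have hsub : Subsingleton (Multiplicative (ZMod 1)) := inferInstanceAs (Subsingleton (ZMod 1))
  have hout : Cfsg.Out K8 ≃* Equiv.Perm (Fin 4) :=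
    j.trans (MulEquiv.ofBijective (MonoidHom.fst _ _)
      ⟨fun x y h => Prod.ext h (Subsingleton.elim _ _), fun x => ⟨(x, 1), rfl⟩⟩)
  have : Finite K8 := Finite.of_equiv _ e.toEquiv
  have : Finite (MulAut K8) := Finite.of_injective _ DFunLike.coe_injective
  obtain ⟨f, act, hact, hA⟩ := exists_twist L e hC hZ h6 hout graphAuts inn_le_graphAuts
    (card_graphAuts hout)
  exact classData.orbits L orbitOf orbitRep orbit_facts.1 graphAuts conj_mem_graphAuts
    graphAuts_keeps graphAuts_trans f act hact hA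

/-- PΩ⁺(8, 3) (the commutator subgroup of the isometry group of the hyperbolic quadratic form in dimension 8 over the field with three elements, modulo its centre) has exactly 13 conjugacy classes of subgroups of order 3; and a finite group G whose generalized Fitting subgroup L is isomorphic to PΩ⁺(8, 3) with G/L the symmetric group of degree 3 has exactly 7 orbits, under conjugation, on the subgroups of L of order 3. -/
theorem result {G : Type*} [Group G] [Finite G] (L : Subgroup G) (hL : L = Cfsg.generalizedFittingSubgroup G) (hF : Nonempty (↥L ≃* Cfsg.POmega (ZMod 3) (Cfsg.quadFormPlus 4 (ZMod 3)))) [hn : L.Normal] (hq : Nonempty (G ⧸ L ≃* Equiv.Perm (Fin 3))) : (∃ Y : Fin 13 → Subgroup (Cfsg.POmega (ZMod 3) (Cfsg.quadFormPlus 4 (ZMod 3))), (∀ i, Nat.card (Y i) = 3) ∧ (∀ i j, (∃ g : Cfsg.POmega (ZMod 3) (Cfsg.quadFormPlus 4 (ZMod 3)), (Y i).map (MulAut.conj g).toMonoidHom = Y j) → i = j) ∧ (∀ X : Subgroup (Cfsg.POmega (ZMod 3) (Cfsg.quadFormPlus 4 (ZMod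 3))), Nat.card X = 3 → ∃ i, ∃ g : Cfsg.POmega (ZMod 3) (Cfsg.quadFormPlus 4 (ZMod 3)), X.map (MulAut.conj g).toMonoidHom = Y i)) ∧ ∃ Y : Fin 7 → Subgroup G, (∀ i, Y i ≤ L ∧ Nat.card (Y i) = 3) ∧ (∀ i j, (∃ g : G, (Y i).map (MulAut.conj g).toMonoidHom = Y j) → i = j) ∧ ∀ X : Subgroup G, X ≤ L → Nat.card X = 3 → ∃ i, ∃ g : G, X.map (MulAut.conj g).toMonoidHom = Y i := by
  have : Fact (Nat.Prime 3) := ⟨Nat.prime_three⟩
  obtain ⟨e⟩ := hF
  obtain ⟨q⟩ := hq
  let e0 : Cfsg.POmega (ZMod 3) (Cfsg.quadFormPlus 4 (ZMod 3)) ≃* K8 :=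
    CfsgLib.Classical.Quad.pomegaEquiv (CfsgLib.Classical.Quad.plusEquiv 4 (ZMod 3))
      (CfsgLib.Classical.Quad.plusEquiv_spec 4) hnd
      (CfsgLib.AutPOmega.frame (CfsgLib.Classical.Quad.zeroKernel (ZMod 3)) (by norm_num : 3 ≤ 4))
  refine ⟨classData.classes e0.symm, orbits_ext L (e.trans e0) ?_ ?_⟩
  · subst hL
    exact CfsgLib.Components.centralizer_genFitting_le
  · rw [Nat.card_congr q.toEquiv, Nat.card_perm, Nat.card_fin]; rfl

end Cfsg.Agent.S5516
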