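import Cfsg.Statements.S0672
import Cfsg.Agent.Lib.Perm.PermModule
import Cfsg.Agent.Lib.Perm.ThreeTransitive
import Mathlib.GroupTheory.Perm.Cycle.Type
import Mathlib.Algebra.Group.Action.Pointwise.Finset
import Mathlib.Tactic.Ring

set_option autoImplicit false
open Cfsg

namespace Cfsg.Agent.S0672

open scoped Pointwise

section
variable {G : Type*} [Group G] {K : Type*} [Field K] {Ω : Type*} [Fintype Ω] [DecidableEq Ω]
  [MulAction G Ω]

/-- A `G`-invariant incidence matrix with vanishing row sums is constant on rows. -/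
theorem rows_constant
    (h : ∀ f : Representation.IntertwiningMap (Cfsg.permSumZero K G Ω).toRepresentation
      (Cfsg.permRep K G (Set.powersetCard Ω 2)),
      (∀ v : (Cfsg.permSumZero K G Ω).toSubmodule,
        (v : Ω → K) ∈ (Cfsg.permConstants K G Ω).toSubmodule → f v = 0) → f = 0)
    (A : Ω → Set.powersetCard Ω 2 → K) (hA : ∀ (g : G) x B, A (g • x) (g • B) = A x B)
    (hsum : ∀ B, ∑ x, A x B = 0) (B : Set.powersetCard Ω 2) (x y : Ω) : A x B = A y B := by
  let L : (Cfsg.permSumZero K G Ω).toSubmodule →ₗ[K] (Set.powersetCard Ω 2 → K) :=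
    { toFun := fun v B => ∑ x, A x B * (v : Ω → K) x
      map_add' := fun u v => by funext B; simp [mul_add, Finset.sum_add_distrib]
      map_smul' := fun c u => by funext B; simp [Finset.mul_sum, mul_left_comm] }
  let f : Representation.IntertwiningMap (Cfsg.permSumZero K G Ω).toRepresentation
      (Cfsg.permRep K G (Set.powersetCard Ω 2)) :=
    ⟨L, fun g => by
      apply LinearMap.ext
      intro v
      funext B
      show ∑ x, A x B * (v : Ω → K) (g⁻¹ • x) = ∑ x, A x (g⁻¹ • B) * (v : Ω → K) x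
      exact Fintype.sum_equiv (MulAction.toPerm g⁻¹) _ _ fun x => by simp [hA g⁻¹]⟩
  have hf : f = 0 := h f fun v hv => by
    obtain ⟨c, hc⟩ := (CfsgLib.Perm.mem_permConstants_iff _).mp hv
    funext B
    show ∑ x, A x B * (v : Ω → K) x = 0
    simp only [hc, ← Finset.sum_mul, hsum B, zero_mul]
  have hv : (Pi.single x 1 - Pi.single y 1 : Ω → K) ∈ (Cfsg.permSumZero K G Ω).toSubmodule := by
    rw [CfsgLib.Perm.mem_permSumZero_iff]
    simp [Finset.sum_sub_distrib]
  have := congrFun (congrArg (fun F : Representation.IntertwiningMap _ _ => F ⟨_, hv⟩) hf) B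
  change ∑ z, A z B * (Pi.single x 1 - Pi.single y 1 : Ω → K) z = 0 at this
  simpa [mul_sub, Finset.sum_sub_distrib, Pi.single_apply, sub_eq_zero] using this

end

theorem pair_smul {G : Type*} [Group G] {Ω : Type*} [DecidableEq Ω] [MulAction G Ω]
    (g : G) (B : Set.powersetCard Ω 2) {x : Ω} :
    g • x ∈ ((g • B : Set.powersetCard Ω 2) : Finset Ω) ↔ x ∈ (B : Finset Ω) := by
  rw [Set.powersetCard.coe_smul, Finset.smul_mem_smul_finset_iff]

/-- Let a finite group act faithfully and doubly transitively with point stabilisers of even order, and let `K` have characteristic `p` dividing the degree. If the heart of the permutation module admits no non-zero equivariant map to the permutation module on unordered pairs (phrased: every intertwining map from the sum-zero functions vanishing on the constants is zero), the action is triply transitive. -/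
theorem result {G : Type*} [Group G] [Finite G] {K : Type*} [Field K] {p : ℕ} [Fact p.Prime] [CharP K p] {Ω : Type*} [Fintype Ω] [DecidableEq Ω] [MulAction G Ω] [FaithfulSMul G Ω] (h2 : MulAction.IsMultiplyPretransitive G Ω 2) (hp : p ∣ Fintype.card Ω) (heven : ∀ a : Ω, Even (Nat.card (MulAction.stabilizer G a))) (h : ∀ f : Representation.IntertwiningMap (Cfsg.permSumZero K G Ω).toRepresentation (Cfsg.permRep K G (Set.powersetCard Ω 2)), (∀ v : (Cfsg.permSumZero K G Ω).toSubmodule, (v : Ω → K) ∈ (Cfsg.permConstants K G Ω).toSubmodule → f v = 0) → f = 0) : MulAction.IsMultiplyPretransitive G Ω 3 := by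
  classical
  have h2' : ∀ {a b c d : Ω}, a ≠ b → c ≠ d → ∃ g : G, g • a = c ∧ g • b = d :=
    (MulAction.is_two_pretransitive_iff (G := G) (α := Ω)).mp h2
  rcases Nat.lt_or_ge (Fintype.card Ω) 3 with hn | hn
  · haveI : IsEmpty (Fin 3 ↪ Ω) := ⟨fun e => by
      have := Fintype.card_le_of_embedding e
      simp at this; omega⟩
    exact ⟨fun x => isEmptyElim x⟩
  have hn' : (Fintype.card Ω : K) = 0 := (CharP.cast_eq_zero_iff K p _).mpr hp
  -- the setwise stabiliser of a pair is transitive on the remaining points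
  have hset : ∀ a b c d : Ω, a ≠ b → c ≠ a → c ≠ b → d ≠ a → d ≠ b →
      ∃ g : G, ((g • a = a ∧ g • b = b) ∨ (g • a = b ∧ g • b = a)) ∧ g • c = d := by
    intro a b c d hab hca hcb hda hdb
    let B₀ : Set.powersetCard Ω 2 := ⟨{a, b}, Finset.card_pair hab⟩
    have hpair : ∀ B : Set.powersetCard Ω 2, ∃ g : G, g • B₀ = B := by
      rintro ⟨B, hB⟩
      obtain ⟨u, v, huv, rfl⟩ := Finset.card_eq_two.mp hB
      obtain ⟨g, hu, hv⟩ := h2' hab huv
      refine ⟨g, Subtype.ext ?_⟩
      rw [Set.powersetCard.coe_smul]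
      show g • ({a, b} : Finset Ω) = {u, v}
      rw [Finset.smul_finset_insert, Finset.smul_finset_singleton, hu, hv]
    let χ : Ω → Set.powersetCard Ω 2 → K := fun x B => if x ∈ (B : Finset Ω) then 0 else 1
    have hχ : ∀ (g : G) x B, χ (g • x) (g • B) = χ x B := fun g x B => by
      simp only [χ, pair_smul]
    have hχs : ∀ B, ∑ x, χ x B = -2 := fun B => by
      have : ∀ x, χ x B = 1 - if x ∈ (B : Finset Ω) then (1 : K) else 0 := fun x => by
        simp only [χ]; split_ifs <;> simp
      simp only [this, Finset.sum_sub_distrib, Finset.sum_const, Finset.card_univ, nsmul_eq_mul,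
        hn', zero_mul, Finset.sum_ite_mem, Finset.univ_inter, mul_one]
      rw [show ((B : Finset Ω)).card = 2 from B.2]
      simp
    by_contra hcon
    by_cases h22 : (2 : K) = 0
    · have := rows_constant h χ hχ (fun B => by rw [hχs, h22, neg_zero]) B₀ a c
      simp [χ, B₀, hca, hcb] at this
    let O : Ω → Set.powersetCard Ω 2 → K := fun x B => if ∃ g : G, g • c = x ∧ g • B₀ = B then 1 else 0
    have hO : ∀ (g : G) x B, O (g • x) (g • B) = O x B := fun g x B => by
      simp only [O]
      congr 1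
      refine propext ⟨fun ⟨k, h1, h3⟩ => ⟨g⁻¹ * k, ?_, ?_⟩, fun ⟨k, h1, h3⟩ => ⟨g * k, ?_, ?_⟩⟩ <;>
        simp [mul_smul, h1, h3]
    set s₀ := ∑ x, O x B₀ with hs₀
    have hOs : ∀ B, ∑ x, O x B = s₀ := fun B => by
      obtain ⟨g, rfl⟩ := hpair B
      exact (Fintype.sum_equiv (MulAction.toPerm g) _ _ fun x => (hO g x B₀).symm).symm
    have := rows_constant h (fun x B => 2 * O x B + s₀ * χ x B)
      (fun g x B => by rw [hO, hχ])
      (fun B => by
        rw [Finset.sum_add_distrib, ← Finset.mul_sum, ← Finset.mul_sum, hOs, hχs]; ring) B₀ c d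
    have e1 : O c B₀ = 1 := if_pos ⟨1, one_smul _ _, one_smul _ _⟩
    have e2 : O d B₀ = 0 := if_neg fun ⟨g, hg, hgB⟩ => hcon ⟨g, by
      have hgB' : g • ({a, b} : Finset Ω) = {a, b} := by
        have := congrArg Subtype.val hgB
        rwa [Set.powersetCard.coe_smul] at this
      have ha : g • a ∈ ({a, b} : Finset Ω) := hgB' ▸ Finset.smul_mem_smul_finset (Finset.mem_insert_self a _)
      have hb : g • b ∈ ({a, b} : Finset Ω) := hgB' ▸ Finset.smul_mem_smul_finset
        (Finset.mem_insert_of_mem (Finset.mem_singleton_self b))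
      simp only [Finset.mem_insert, Finset.mem_singleton] at ha hb
      rcases ha with ha | ha <;> rcases hb with hb | hb
      · exact absurd (MulAction.injective g (ha.trans hb.symm)) hab
      · exact Or.inl ⟨ha, hb⟩
      · exact Or.inr ⟨ha, hb⟩
      · exact absurd (MulAction.injective g (ha.trans hb.symm)) hab, hg⟩
    simp only [e1, e2, χ, B₀, Finset.mem_insert, Finset.mem_singleton, hca, hcb, hda, hdb] at this
    simp [h22] at this
  obtain ⟨a⟩ : Nonempty Ω := Fintype.card_pos_iff.mp (by omega)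
  haveI : Fact (Nat.Prime 2) := ⟨Nat.prime_two⟩
  obtain ⟨⟨t, ha⟩, ht⟩ := exists_prime_orderOf_dvd_card' 2 (heven a).two_dvd
  have htt : t * t = 1 := by
    have := pow_orderOf_eq_one (⟨t, ha⟩ : MulAction.stabilizer G a)
    rw [ht, pow_two] at this
    exact congrArg Subtype.val this
  obtain ⟨u, hu⟩ : ∃ u : Ω, t • u ≠ u := by
    by_contra hall
    push Not at hall
    have : t = 1 := FaithfulSMul.eq_of_smul_eq_smul (α := Ω) fun x => by rw [hall, one_smul]
    rw [show (⟨t, ha⟩ : MulAction.stabilizer G a) = 1 from Subtype.ext this, orderOf_one] at ht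
    omega
  have ha' : t • a = a := ha
  have hau : a ≠ u := fun e => hu (e ▸ ha')
  have hau' : a ≠ t • u := fun e => hau (by
    have h1 := congrArg (t • ·) e
    simp only [smul_smul, htt, one_smul, ha'] at h1
    exact h1)
  -- the pointwise stabiliser of `u, t • u` is transitive on the rest
  have horb : ∀ y, y ≠ u → y ≠ t • u → ∃ g : G, g • u = u ∧ g • t • u = t • u ∧ g • a = y := by
    intro y hy1 hy2
    obtain ⟨g, hg, hgy⟩ := hset u (t • u) a y (Ne.symm hu) hau hau' hy1 hy2
    rcases hg with ⟨h1, h3⟩ | ⟨h1, h3⟩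
    · exact ⟨g, h1, h3, hgy⟩
    · refine ⟨g * t, ?_, ?_, ?_⟩
      · rw [mul_smul, h3]
      · rw [mul_smul, smul_smul t, htt, one_smul, h1]
      · rw [mul_smul, ha', hgy]
  refine CfsgLib.Perm.three_pretransitive_of_pairs h2 fun x y c d hxy hcx hcy hdx hdy => ?_
  obtain ⟨k, hk1, hk2⟩ := h2' hxy (Ne.symm hu)
  obtain ⟨g₁, p1, q1, r1⟩ := horb (k • c) (by rw [← hk1]; exact fun e => hcx (MulAction.injective k e))
    (by rw [← hk2]; exact fun e => hcy (MulAction.injective k e))
  obtain ⟨g₂, p2, q2, r2⟩ := horb (k • d) (by rw [← hk1]; exact fun e => hdx (MulAction.injective k e))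
    (by rw [← hk2]; exact fun e => hdy (MulAction.injective k e))
  refine ⟨k⁻¹ * g₂ * g₁⁻¹ * k, ?_, ?_, ?_⟩
  · rw [mul_smul, mul_smul, mul_smul, hk1, inv_smul_eq_iff.mpr p1.symm, p2, ← hk1, inv_smul_smul]
  · rw [mul_smul, mul_smul, mul_smul, hk2, inv_smul_eq_iff.mpr q1.symm, q2, ← hk2, inv_smul_smul]
  · rw [mul_smul, mul_smul, mul_smul, ← r1, inv_smul_smul, r2, inv_smul_smul]

end Cfsg.Agent.S0672
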