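import Cfsg.Statements.S0676
import Cfsg.Agent.Lib.Perm.PrimeDegreeEven
import Cfsg.Agent.S0672
import Mathlib.Algebra.Group.Action.Pointwise.Finset
import Mathlib.GroupTheory.GroupAction.SubMulAction.Combination

set_option autoImplicit false
open Cfsg

namespace Cfsg.Agent.S0676

open scoped Pointwise

/-- A non-solvable transitive permutation group of prime degree `p` whose Sylow `p`-normaliser has even order is triply transitive. -/
theorem result {α : Type*} [Fintype α] [DecidableEq α] {p : ℕ} [Fact p.Prime] (hα : Fintype.card α = p) (G : Subgroup (Equiv.Perm α)) [MulAction.IsPretransitive G α] (hG : ¬ Group.IsSolvable G) (P : Sylow p G) (heven : Even (Nat.card (Subgroup.normalizer ((P : Subgroup G) : Set G)))) : MulAction.IsMultiplyPretransitive G α 3 := by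
  classical
  have h5 : 5 ≤ p := CfsgLib.Perm.five_le_of_not_isSolvable (p := p)
    (by rw [Nat.card_eq_fintype_card]; exact hα) G hG
  have hp2 : p ≠ 2 := by omega
  obtain ⟨x, t, hxp, hxne, hinv, htt, htne⟩ := CfsgLib.Perm.exists_inverting hα hp2 G P heven
  obtain ⟨e, he, het⟩ := CfsgLib.Perm.exists_coords_neg hα hp2
    (congrArg Subtype.val hxp) (fun h => hxne (Subtype.ext h)) (congrArg Subtype.val hinv)
  have hxs : ∀ j, x • e j = e (j + 1) := he
  have hts : ∀ j, t • e j = e (-j) := het
  refine Cfsg.Agent.S0672.result (K := ZMod p) (p := p)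
    (CfsgLib.Perm.two_transitive_of_not_isSolvable hα G hG) (by rw [hα]) ?_ ?_
  · intro a
    obtain ⟨g, hg⟩ := MulAction.exists_smul_eq G (e 0) a
    rw [even_iff_two_dvd, ← hg, ← Nat.card_congr
      (MulAction.stabilizerEquivStabilizer (g := g) (a := e 0) rfl).toEquiv]
    have hmem : t ∈ MulAction.stabilizer G (e 0) := by
      rw [MulAction.mem_stabilizer_iff, hts, neg_zero]
    have := Subgroup.orderOf_dvd_natCard (MulAction.stabilizer G (e 0)) hmem
    rwa [orderOf_eq_prime (by rw [pow_two]; exact htt) htne] at this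
  intro f hf
  set S := (Cfsg.permSumZero (ZMod p) G α).toSubmodule with hS
  -- the kernel of `f`, inside the whole module
  let W : Submodule (ZMod p) (α → ZMod p) := (LinearMap.ker f.toLinearMap).map S.subtype
  have hWinv : ∀ g : G, ∀ v ∈ W, Cfsg.permRep (ZMod p) G α g v ∈ W := by
    rintro g _ ⟨v, hv, rfl⟩
    refine ⟨(Cfsg.permSumZero (ZMod p) G α).toRepresentation g v, ?_, rfl⟩
    rw [SetLike.mem_coe, LinearMap.mem_ker]
    show f _ = 0
    rw [f.isIntertwining, show f v = 0 from hv, map_zero]
  have hcs := CfsgLib.Perm.one_mem_permSumZero (G := G) (K := ZMod p) (p := p) (Ω := α) (by rw [hα])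
  have hcW : (Cfsg.permConstants (ZMod p) G α).toSubmodule ≤ W := fun v hv =>
    ⟨⟨v, hcs hv⟩, hf ⟨v, hcs hv⟩ hv, rfl⟩
  let v₀ : α → ZMod p := fun z => e.symm z
  have hv₀ : v₀ ∈ S := by
    rw [hS, CfsgLib.Perm.mem_permSumZero_iff,
      ← Fintype.sum_equiv e (fun j : ZMod p => j) v₀ (fun j => by simp [v₀])]
    simpa using FiniteField.sum_pow_lt_card_sub_one (ZMod p) 1 (by rw [ZMod.card]; omega)
  set v : S := ⟨v₀, hv₀⟩ with hvdef
  set F := f v with hF
  have hFx : ∀ B : Set.powersetCard α 2, F (x⁻¹ • B) = F B := fun B => by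
    have hc : (fun _ : α => (-1 : ZMod p)) ∈ (Cfsg.permConstants (ZMod p) G α).toSubmodule :=
      (CfsgLib.Perm.mem_permConstants_iff _).mpr ⟨-1, rfl⟩
    have hd : (Cfsg.permSumZero (ZMod p) G α).toRepresentation x v = v + ⟨_, hcs hc⟩ := by
      apply Subtype.ext
      funext z
      obtain ⟨j, rfl⟩ := e.surjective z
      show e.symm (x⁻¹ • e j) = e.symm (e j) + -1
      rw [show x⁻¹ • e j = e (j - 1) by rw [inv_smul_eq_iff, hxs, sub_add_cancel]]
      simp [sub_eq_add_neg]
    have h := congrFun (f.isIntertwining _ _ x v) B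
    rw [hd, map_add, hf ⟨_, hcs hc⟩ hc, add_zero] at h
    exact h.symm
  have hFn : ∀ (n : ℕ) B, F ((x ^ n) • B) = F B := fun n => by
    induction n with
    | zero => intro B; simp
    | succ n ih =>
      intro B
      rw [pow_succ, mul_smul, ih, ← hFx (x • B), inv_smul_smul]
  have hFt : ∀ B : Set.powersetCard α 2, F (t • B) = - F B := fun B => by
    have hd : (Cfsg.permSumZero (ZMod p) G α).toRepresentation t v = -v := by
      apply Subtype.ext
      funext z
      obtain ⟨j, rfl⟩ := e.surjective z
      show e.symm (t⁻¹ • e j) = -(e.symm (e j))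
      rw [inv_eq_of_mul_eq_one_right htt, hts]
      simp
    have h := congrFun (f.isIntertwining _ _ t v) B
    rw [hd, map_neg] at h
    have h' : -(F B) = F (t⁻¹ • B) := h
    rw [inv_eq_of_mul_eq_one_right htt] at h'
    exact h'.symm
  have hF0 : F = 0 := by
    funext B
    obtain ⟨u, w, huw, hB⟩ := Finset.card_eq_two.mp B.2
    obtain ⟨i, rfl⟩ := e.surjective u
    obtain ⟨k, rfl⟩ := e.surjective w
    have hpow : ∀ (n : ℕ) (j : ZMod p), (x ^ n) • e j = e (j + n) := fun n j => by
      show ((x : Equiv.Perm α) ^ n) (e j) = _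
      exact CfsgLib.Perm.pow_apply_coords he n j
    have heq : (x ^ (-(i + k)).val) • B = t • B := by
      apply Subtype.ext
      show (x ^ (-(i + k)).val) • (B : Finset α) = t • (B : Finset α)
      rw [show ((B : Finset α)) = {e i, e k} from hB]
      rw [Finset.smul_finset_insert, Finset.smul_finset_singleton, Finset.smul_finset_insert,
        Finset.smul_finset_singleton, hpow, hpow, hts, hts, ZMod.natCast_zmod_val,
        Finset.pair_comm]
      congr 2 <;> ring
    have h := hFn (-(i + k)).val B
    rw [heq, hFt] at h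
    have h2 : (2 : ZMod p) * F B = 0 := by linear_combination -h
    rcases mul_eq_zero.mp h2 with h2 | h2
    · exfalso
      have h' : ((2 : ℕ) : ZMod p) = 0 := by simpa using h2
      rw [ZMod.natCast_eq_zero_iff] at h'
      exact hp2 ((Nat.prime_dvd_prime_iff_eq Fact.out Nat.prime_two).mp h')
    · exact h2
  have hvW : v₀ ∈ W := ⟨v, hF0, rfl⟩
  rcases CfsgLib.Perm.heart_irreducible hα G hG W hWinv hcW
      (by rintro _ ⟨u, -, rfl⟩; exact u.2) with h | h
  · exfalso
    rw [h] at hvW
    obtain ⟨c, hc⟩ := (CfsgLib.Perm.mem_permConstants_iff _).mp hvW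
    have h0 := congrFun hc (e 0)
    have h1 := congrFun hc (e 1)
    simp [v₀] at h0 h1
    exact zero_ne_one (h0.trans h1.symm)
  · apply Representation.IntertwiningMap.toLinearMap_injective
    apply LinearMap.ext
    intro u
    have hu : (u : α → ZMod p) ∈ W := h.symm ▸ u.2
    obtain ⟨u', hu', he'⟩ := hu
    rw [show u = u' from Subtype.ext he'.symm]
    exact hu'

end Cfsg.Agent.S0676
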