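import Cfsg.Statements.S4637
import Cfsg.Agent.Lib.BlockRank.FreeSections
import Cfsg.Agent.Lib.BlockRank.BrauerFeit

set_option autoImplicit false
open Cfsg

namespace Cfsg.Agent.S4637

/-- Let B be a block of the finite group G relative to a maximal ideal M of the algebraic integers containing 2, with a Klein four defect group P. Let c be a block of C_G(P) inducing B, T the stabilizer of c in N_G(P) and e the index of C_G(P) in T (the inertial index). Then e is 1 or 3, B contains exactly four irreducible characters, and the 2-regular rank of B (its number of irreducible Brauer characters) equals e. -/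
theorem result {G : Type*} [Group G] [Finite G] (M : Ideal Cfsg.AlgInt) (hM : Cfsg.IsPModular 2 M) (B : Set (Cfsg.IrrCharacter G)) (hB : Cfsg.IsPBlock M B) (P : Subgroup G) (hPD : Cfsg.IsDefectGroup 2 M B P) (hV : IsKleinFour P) (c : Set (Cfsg.IrrCharacter (Subgroup.centralizer (P : Set G)))) (hc : Cfsg.IsInducedBlock M (Subgroup.centralizer (P : Set G)) c B) (T : Subgroup G) (hT : ∀ g : G, g ∈ T ↔ (g ∈ Subgroup.normalizer (P : Set G) ∧ Cfsg.StabilizesBlock (Subgroup.centralizer (P : Set G)) c g)) (e : ℕ) (he : (Subgroup.centralizer (P : Set G)).relIndex T = e) : (e = 1 ∨ e = 3) ∧ Nat.card B = 4 ∧ Cfsg.blockRank 2 B = e := by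
  classical
  cases nonempty_fintype G
  haveI := CfsgLib.Blocks.isMaximal_of_isPModular hM
  haveI : CharP (CfsgLib.Blocks.ResField M) 2 :=
    CfsgLib.Blocks.charP_resField hM.1 (CfsgLib.Blocks.natCast_mem_of_isPModular hM)
  have hP4 : Nat.card P = 4 := hV.card_four
  have hsq : ∀ x ∈ P, x * x = 1 := fun x hx =>
    congrArg Subtype.val (IsKleinFour.mul_self (⟨x, hx⟩ : P))
  have hab : ∀ x ∈ P, ∀ y ∈ P, x * y = y * x := fun x hx y hy => by
    have h := hsq _ (mul_mem hx hy)
    calc x * y = x * (x * y * (x * y)) * y := by rw [h, mul_one]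
      _ = (x * x) * (y * x) * (y * y) := by group
      _ = y * x := by rw [hsq x hx, hsq y hy, one_mul, mul_one]
  obtain ⟨hB', hc', hP, hno, -, -⟩ := CfsgLib.Blocks.Pairs.exists_root_pair hM hPD hc
  have hTeq : T = CfsgLib.Blocks.Pairs.pairStab P (CfsgLib.Blocks.Pairs.eIn hc') :=
    SetLike.ext fun g => (hT g).trans (CfsgLib.Blk83.mem_pairStab_iff hc').symm
  have hfree : CfsgLib.Blocks.Pairs.Free P
      (CfsgLib.Blocks.Pairs.pairStab P (CfsgLib.Blocks.Pairs.eIn hc')) := by
    intro g hg x hx hx1 hgx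
    obtain ⟨r, hr, hgr⟩ := CfsgLib.Blocks.Pairs.exists_pow_mem_centralizer hM hP hno hab hg
    refine CfsgLib.Blocks.Pairs.mem_of_pow_mem (k := 1) hr hgr ?_
    rw [Subgroup.mem_centralizer_iff]
    intro y hy
    have hgy : ∀ w ∈ P, g * w * g⁻¹ ∈ P := fun w hw => (Subgroup.mem_normalizer_iff.1 hg.1 w).1 hw
    have hconj : ∀ w, g * w * g⁻¹ = w ↔ g * w = w * g := fun w => mul_inv_eq_iff_eq_mul
    have key : g * (g * y * g⁻¹) * g⁻¹ = y := by
      rcases eq_or_ne y x with rfl | hyx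
      · rw [hgx, hgx]
      rcases eq_or_ne y 1 with rfl | hy1
      · simp
      rcases eq_or_ne (g * y * g⁻¹) y with h | h
      · rw [h, h]
      set z := g * y * g⁻¹ with hz
      have hzP : (⟨z, hgy y hy⟩ : P) = ⟨x, hx⟩ * ⟨y, hy⟩ := by
        refine IsKleinFour.eq_mul_of_ne_all (fun h' => hx1 (congrArg Subtype.val h'))
          (fun h' => hy1 (congrArg Subtype.val h')) (fun h' => hyx (congrArg Subtype.val h').symm)
          (fun h' => hy1 ?_) (fun h' => hyx ?_) (fun h' => h (congrArg Subtype.val h'))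
        · have h2 : z = 1 := congrArg Subtype.val h'
          calc y = g⁻¹ * z * g := by rw [hz]; group
            _ = 1 := by rw [h2]; group
        · have h2 : z = x := congrArg Subtype.val h'
          calc y = g⁻¹ * z * g := by rw [hz]; group
            _ = g⁻¹ * (g * x * g⁻¹) * g := by rw [h2, hgx]
            _ = x := by group
      have hzv : z = x * y := congrArg Subtype.val hzP
      calc g * z * g⁻¹ = (g * x * g⁻¹) * (g * y * g⁻¹) := by rw [hzv]; group
        _ = x * (x * y) := by rw [hgx, ← hz, hzv]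
        _ = y := by rw [← mul_assoc, hsq x hx, one_mul]
    rw [pow_one, pow_two]
    have h2 : g * g * y * (g * g)⁻¹ = y :=
      (show g * g * y * (g * g)⁻¹ = g * (g * y * g⁻¹) * g⁻¹ by group).trans key
    exact (mul_inv_eq_iff_eq_mul.1 h2).symm
  obtain ⟨m, hk, hm⟩ := CfsgLib.BlockRank.exists_card_of_free hM hB hP hno hab hfree
  rw [← hTeq, he, hP4] at hm
  have he13 : e = 1 ∧ m = 3 ∨ e = 3 ∧ m = 1 := by
    have h3 : e * m = 3 := by omega
    have hle : e ≤ 3 := Nat.le_of_dvd (by norm_num) ⟨m, h3.symm⟩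
    interval_cases e <;> omega
  have hd : Cfsg.blockDefect 2 B = 2 := by
    have h := CfsgLib.Blocks.card_defectGroup hM hB hPD
    rw [hP4] at h
    exact Nat.pow_right_injective le_rfl (h.symm.trans (by norm_num : (4 : ℕ) = 2 ^ 2))
  have hk4 : Nat.card B ≤ 4 := ((CfsgLib.BrauerFeit.card_block_le hM 2 hB hd).1 le_rfl)
  have hdvd : 4 ∣ Nat.card B := by
    haveI := Fintype.ofFinite B
    set S := ∑ᶠ χ ∈ B, charDegree (χ : G → ℂ) ^ 2 with hS
    set k := CfsgLib.BlockReg.minExp 2 B with hk'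
    have hw : ∀ χ ∈ B, ∃ w : ℕ, charDegree (χ : G → ℂ) = 2 ^ k * w ∧ w ^ 2 % 4 = 1 := by
      intro χ hχ
      obtain ⟨-, hh⟩ := Cfsg.Agent.S4710.result 2 M hM B hB 2 hd
      have h0 := ((hh χ hχ).2 le_rfl)
      rw [CfsgLib.BlockReg.blockHeight_eq] at h0
      have h1 := CfsgLib.BlockReg.minExp_le (p := 2) hχ
      have hf : (charDegree (χ : G → ℂ)).factorization 2 = k := by omega
      obtain ⟨w, hw⟩ : 2 ^ k ∣ charDegree (χ : G → ℂ) := hf ▸ Nat.ordProj_dvd _ 2
      refine ⟨w, hw, ?_⟩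
      have hodd : ¬ 2 ∣ w := fun h => by
        have h2 := Nat.pow_succ_factorization_not_dvd (CfsgLib.BlockReg.deg_pos χ).ne'
          Nat.prime_two
        rw [hf] at h2
        refine h2 ?_
        rw [hw, pow_succ]
        exact Nat.mul_dvd_mul_left _ h
      obtain ⟨j, rfl⟩ : ∃ j, w = 2 * j + 1 := ⟨w / 2, by omega⟩
      rw [show (2 * j + 1) ^ 2 = 4 * (j * j + j) + 1 by ring]
      omega
    choose! w hw1 hw2 using hw
    have hS2 : S = 2 ^ (2 * k) * ∑ χ ∈ B.toFinset, w χ ^ 2 := by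
      rw [hS, finsum_mem_eq_toFinset_sum, Finset.mul_sum]
      refine Finset.sum_congr rfl fun χ hχ => ?_
      rw [hw1 χ (Set.mem_toFinset.1 hχ), mul_pow, ← pow_mul, mul_comm k 2]
    have hfac := CfsgLib.BlockReg.factorization_sum_sq hM hB
    rw [← hS] at hfac
    have hadd := CfsgLib.BrauerFeit.defect_add_minExp hM hB
    rw [hd] at hadd
    have hdS : 2 ^ (2 * k + 2) ∣ S := by
      rw [show 2 * k + 2 = S.factorization 2 by omega]
      exact Nat.ordProj_dvd _ 2
    rw [hS2, pow_add] at hdS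
    have h4 := Nat.dvd_of_mul_dvd_mul_left (Nat.two_pow_pos _) hdS
    rw [Nat.card_eq_fintype_card, ← Set.toFinset_card, Finset.card_eq_sum_ones]
    refine Nat.dvd_of_mod_eq_zero ?_
    rw [Finset.sum_nat_mod, ← Finset.sum_congr rfl (fun χ hχ => ?_ : ∀ χ ∈ B.toFinset,
      w χ ^ 2 % 4 = 1 % 4), ← Finset.sum_nat_mod]
    · exact Nat.dvd_iff_mod_eq_zero.1 h4
    · exact hw2 χ (Set.mem_toFinset.1 hχ)
  obtain ⟨χ, hχ⟩ := CfsgLib.BlockReg.block_nonempty hM hB
  have hpos : 0 < Nat.card B := by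
    haveI : Nonempty B := ⟨⟨χ, hχ⟩⟩
    exact Nat.card_pos
  have hk44 : Nat.card B = 4 := by
    obtain ⟨j, hj⟩ := hdvd
    omega
  rcases he13 with ⟨h1, h2⟩ | ⟨h1, h2⟩ <;> refine ⟨by omega, hk44, by omega⟩

end Cfsg.Agent.S4637
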