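import Cfsg.Statements.S1127
import Cfsg.Agent.Lib.RankOne.FixedPoints

set_option autoImplicit false
open Cfsg

namespace Cfsg.Agent.S1127

/-- In the rank-one set-up (`G` finite and doubly transitive on `Ω`, `t` an involution moving `a`, `Q` normal in `G_a` with `G_a = Q D`, `Q ⊓ D = 1` for the two-point stabiliser `D = G_a ⊓ G_{t • a}`, `|Q|` even, `|D|` odd): if `s` is an involution of `G_a` and `r ∈ Q` satisfy `t s t = r⁻¹ t r`, then `C_D(t) = C_D(s)`; moreover `C_D(t) ⊓ C_D(K) = C_D(I ∩ G_a)`, where `K` is the set of elements of `D` inverted by `t` and `I ∩ G_a` the set of involutions of `G_a`. -/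
theorem result {G Ω : Type*} [Group G] [Finite G] [MulAction G Ω] {a : Ω} {t : G} {Q : Subgroup G}
    (hS : Cfsg.IsRankOneSetup G Ω a t Q) :
    (∀ s r : G, s ∈ Cfsg.involutionsIn (MulAction.stabilizer G a : Set G) → r ∈ Q → t * s * t = r⁻¹ * t * r →
        (MulAction.stabilizer G a ⊓ MulAction.stabilizer G (t • a)) ⊓ Subgroup.centralizer {t} = (MulAction.stabilizer G a ⊓ MulAction.stabilizer G (t • a)) ⊓ Subgroup.centralizer {s}) ∧
      (MulAction.stabilizer G a ⊓ MulAction.stabilizer G (t • a)) ⊓ Subgroup.centralizer {t} ⊓ Subgroup.centralizer (Cfsg.invertedBy (MulAction.stabilizer G a ⊓ MulAction.stabilizer G (t • a)) t) =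
        (MulAction.stabilizer G a ⊓ MulAction.stabilizer G (t • a)) ⊓ Subgroup.centralizer (Cfsg.involutionsIn (MulAction.stabilizer G a : Set G)) := by
  refine ⟨fun s r hs hr he => CfsgLib.RankOne.centralizer_distinguished hS hs hr he, ?_⟩
  obtain ⟨⟨s, r⟩, ⟨hs, hr, he⟩, -⟩ := CfsgLib.RankOne.exists_structure_eq hS
  have hV := CfsgLib.RankOne.centralizer_distinguished hS hs hr he
  ext d
  constructor
  · intro hd
    obtain ⟨hdV, hdK⟩ := Subgroup.mem_inf.1 hd
    refine Subgroup.mem_inf.2 ⟨(Subgroup.mem_inf.1 hdV).1, Subgroup.mem_centralizer_iff.2 fun s' hs' => ?_⟩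
    obtain ⟨k, ⟨hk, hks⟩, -⟩ := CfsgLib.RankOne.exists_K_conj hS hs hs'
    rw [hV] at hdV
    have h1 : Commute d s := Subgroup.mem_centralizer_singleton_iff.1 (Subgroup.mem_inf.1 hdV).2
    have h2 : Commute d k := (Subgroup.mem_centralizer_iff.1 hdK k hk).symm
    subst hks
    exact ((h2.inv_right.mul_right h1).mul_right h2).symm
  · intro hd
    obtain ⟨hdD, hdI⟩ := Subgroup.mem_inf.1 hd
    have hdV : d ∈ CfsgLib.RankOne.twoPt G a t ⊓ Subgroup.centralizer {t} := by
      rw [hV]
      exact Subgroup.mem_inf.2 ⟨hdD, Subgroup.mem_centralizer_singleton_iff.2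
        (Subgroup.mem_centralizer_iff.1 hdI s hs).symm⟩
    refine Subgroup.mem_inf.2 ⟨hdV, Subgroup.mem_centralizer_iff.2 fun k hk => ?_⟩
    have hkD : k ∈ CfsgLib.RankOne.twoPt G a t := hk.1
    have hs' := CfsgLib.RankOne.conj_mem_involutionsIn hS hkD.1 hs
    have hc : Commute d (k⁻¹ * s * k) := (Subgroup.mem_centralizer_iff.1 hdI _ hs').symm
    set e := k * d * k⁻¹ with hedef
    have he1 : e ∈ CfsgLib.RankOne.twoPt G a t ⊓ Subgroup.centralizer {t} := by
      rw [hV]
      refine Subgroup.mem_inf.2 ⟨(CfsgLib.RankOne.twoPt G a t).mul_mem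
        ((CfsgLib.RankOne.twoPt G a t).mul_mem hkD hdD) ((CfsgLib.RankOne.twoPt G a t).inv_mem hkD),
        Subgroup.mem_centralizer_singleton_iff.2 ?_⟩
      calc e * s = k * (d * (k⁻¹ * s * k)) * k⁻¹ := by rw [hedef]; group
        _ = k * ((k⁻¹ * s * k) * d) * k⁻¹ := by rw [hc.eq]
        _ = s * e := by rw [hedef]; group
    have hdt : Commute d t := Subgroup.mem_centralizer_singleton_iff.1 (Subgroup.mem_inf.1 hdV).2
    have het : Commute e t := Subgroup.mem_centralizer_singleton_iff.1 (Subgroup.mem_inf.1 he1).2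
    have hkt := CfsgLib.RankOne.K_conj hS hk
    have h1 : k⁻¹ * d * k = e := by
      have hti := CfsgLib.RankOne.t_inv hS
      have hk' : t * k = k⁻¹ * t := by
        calc t * k = t * k * (t * t) := by rw [hS.mul_self, mul_one]
          _ = k⁻¹ * t := by rw [← mul_assoc (t * k) t t, ((CfsgLib.RankOne.mem_K hS).1 hk).2]
      calc k⁻¹ * d * k = k⁻¹ * (d * (t * t)) * k := by rw [hS.mul_self, mul_one]
        _ = (k⁻¹ * t) * d * (t * k) := by rw [← mul_assoc d t t, hdt.eq]; group
        _ = (t * k) * d * (k⁻¹ * t) := by rw [← hk']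
        _ = t * e * t := by rw [hedef]; group
        _ = e := by rw [mul_assoc, het.eq, ← mul_assoc, hS.mul_self, one_mul]
    have h2 : Commute (k * k) d := by
      calc k * k * d = k * (k * d * k⁻¹) * k := by group
        _ = k * (k⁻¹ * d * k) * k := by rw [h1]
        _ = d * (k * k) := by group
    exact CfsgLib.RankOne.commute_of_sq_commute hS.odd_card hkD h2
end Cfsg.Agent.S1127
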