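import Cfsg.Statements.S0851
import Cfsg.Agent.Lib.CharDeep.TIFrobenius

set_option autoImplicit false
open Cfsg

namespace Cfsg.Agent.S0851

open CfsgLib in
theorem elementary_of_single {N : Type*} [Group N] [Fintype N] (K : Subgroup N) [K.Normal]
    [Fintype K] (hfpf : ∀ g : N, g ∉ K → ∀ k ∈ K, g * k = k * g → k = 1)
    (hab : ∀ a b : K, a * b = b * a) (χ₀ : N → ℂ) (hχ₀ : Cfsg.IsIrrCharacter N χ₀)
    (hrel : CharDeep.TIF.Rel K χ₀)
    (huniq : ∀ χ, Cfsg.IsIrrCharacter N χ → CharDeep.TIF.Rel K χ → χ = χ₀) :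
    ∃ p : ℕ, p.Prime ∧ (∀ k : K, k ^ p = 1) ∧ Nat.card K = K.index + 1 := by
  classical
  obtain ⟨k₀, hk₀, hk₀ne⟩ := id hrel
  have hnt : Nontrivial K := ⟨⟨⟨k₀, hk₀⟩, 1, fun h => hk₀ne (by
    rw [show k₀ = 1 from congrArg Subtype.val h])⟩⟩
  have hlin : ∀ τ : Cfsg.IrrCharacter K, (τ : K → ℂ) 1 = 1 := fun τ => (CharOver.abelian_irr hab τ.2).1
  have hcardIrr : Nat.card (Cfsg.IrrCharacter K) = Nat.card K := by
    rw [Char.card_irrCharacter]
    refine (Nat.card_congr (Equiv.ofBijective ConjClasses.mk ⟨fun a b h => ?_, ConjClasses.mk_surjective⟩)).symm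
    obtain ⟨c, hc⟩ := isConj_iff.1 (ConjClasses.mk_eq_mk_iff_isConj.1 h)
    rw [← hc, hab c a, mul_inv_cancel_right]
  have hcoef : ∀ τ : Cfsg.IrrCharacter K, (τ : K → ℂ) ≠ (fun _ => 1) →
      Cfsg.classInner (fun k : K => χ₀ k) (τ : K → ℂ) = 1 := by
    intro τ hτ
    have e : Cfsg.indFun K (τ : K → ℂ) = χ₀ :=
      huniq _ (CharDeep.TIF.indFun_irr K hfpf τ.2 hτ) (CharDeep.TIF.rel_indFun K hfpf τ.2 hτ)
    rw [← Char.classInner_conj_symm (τ : K → ℂ), ← Char.classInner_indFun K (τ : K → ℂ) χ₀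
      (Char.IsIrrCharacter.isClassFunction hχ₀), e, Char.classInner_irr_self hχ₀, map_one]
  have hdeg : χ₀ 1 = (K.index : ℂ) := by
    obtain ⟨τ, hτ, -, he⟩ := CharDeep.TIF.exists_eq_indFun K hfpf hχ₀ hrel
    rw [he, Char.indFun_apply_one, show τ 1 = 1 from hlin ⟨τ, hτ⟩, mul_one]
  let P : Cfsg.IrrCharacter K := Char.principalIrr
  have hsum : χ₀ 1 = ((Nat.card K : ℂ) - 1) := by
    have hcl : Cfsg.IsClassFunction K (fun k : K => χ₀ k) := fun a b => by
      rw [show b * a * b⁻¹ = a by rw [hab b a, mul_inv_cancel_right]]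
    have h := congrFun (Char.IsClassFunction.eq_sum_classInner hcl) 1
    simp only [Finset.sum_apply, Pi.smul_apply, smul_eq_mul, Subgroup.coe_one, hlin, mul_one] at h
    rw [h, ← Finset.add_sum_erase _ _ (Finset.mem_univ P),
      show Cfsg.classInner (fun k : K => χ₀ k) (P : K → ℂ) = 0 from
        CharDeep.TIF.classInner_res_one K hfpf hχ₀ hrel,
      Finset.sum_congr rfl (fun τ hτ => hcoef τ fun e => (Finset.mem_erase.1 hτ).1 (Subtype.ext e)),
      Finset.sum_const, Finset.card_erase_of_mem (Finset.mem_univ P), Finset.card_univ,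
      ← Nat.card_eq_fintype_card, hcardIrr, zero_add, nsmul_eq_mul, mul_one,
      Nat.cast_sub Nat.card_pos, Nat.cast_one]
  have hcardK : Nat.card K = K.index + 1 := by
    rw [hdeg] at hsum
    exact_mod_cast (show (Nat.card K : ℂ) = ((K.index + 1 : ℕ) : ℂ) by push_cast; linear_combination -hsum)
  -- the dual group has prime exponent
  let E : (K →* ℂˣ) ≃ Cfsg.IrrCharacter K := Char.linearCharEquiv.trans (Equiv.subtypeUnivEquiv hlin)
  have : Finite (K →* ℂˣ) := Finite.of_equiv _ E.symm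
  have hcardHom : Nat.card (K →* ℂˣ) = Nat.card K := (Nat.card_congr E).trans hcardIrr
  obtain ⟨p, hp, hpd⟩ := Nat.exists_prime_and_dvd (n := Nat.card (K →* ℂˣ)) (by
    rw [hcardHom]; exact (Finite.one_lt_card).ne')
  haveI := Fact.mk hp
  obtain ⟨f₀, hf₀⟩ := exists_prime_orderOf_dvd_card' p hpd
  have hne : ∀ f : K →* ℂˣ, f ≠ 1 → ((E f : K → ℂ)) ≠ fun _ => 1 := by
    intro f hf h
    exact hf (MonoidHom.ext fun k => Units.ext (congrFun h k))
  have hf₀1 : f₀ ≠ 1 := fun h => hp.one_lt.ne (by rw [← hf₀, h, orderOf_one])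
  refine ⟨p, hp, fun k => ?_, hcardK⟩
  have hall : ∀ χ, Cfsg.IsIrrCharacter K χ → χ (k ^ p) = χ 1 := by
    intro χ hχ
    obtain ⟨f, hf⟩ : ∃ f, E f = ⟨χ, hχ⟩ := E.surjective _
    have hfv : ∀ x, χ x = (f x : ℂ) := fun x => by
      rw [show χ = ((E f : Cfsg.IrrCharacter K) : K → ℂ) by rw [hf]]
      rfl
    rw [hfv, hfv, map_one, map_pow]
    by_cases hf1 : f = 1
    · rw [hf1, MonoidHom.one_apply, one_pow]
    obtain ⟨g, hg⟩ := CfsgLib.Clifford.exists_conjFun_eq K hχ₀ (E f₀).2 (E f).2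
      (by rw [hcoef (E f₀) (hne f₀ hf₀1)]; exact one_ne_zero)
      (by rw [hcoef (E f) (hne f hf1)]; exact one_ne_zero)
    let k' : K := MulAut.conjNormal (H := K) g k
    have hfk : f k = f₀ k' := Units.ext (congrFun hg k).symm
    rw [hfk, ← MonoidHom.pow_apply, ← hf₀, pow_orderOf_eq_one, MonoidHom.one_apply]
  exact isConj_one_left.1 (Char.isConj_of_forall_eq hall)


/-- Let K be a subgroup of the finite group G that meets each conjugate by an element outside its normalizer N trivially, is properly contained in N, and contains the centralizer of each of its non-identity elements (a T.I. subgroup with Frobenius normalizer). Suppose K is abelian, let e be the index of K in N, and call an irreducible character of N relevant when it takes at some element of K a value different from its degree. Then either there is exactly one relevant character and K is an elementary abelian p-group of order e + 1 for some prime p, or there are a sign ε and an injective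 map f from the relevant characters to the irreducible characters of G such that inducing χ - ξ to G gives ε (f χ - f ξ) for all relevant χ and ξ. -/
theorem result {G : Type*} [Group G] [Fintype G] (K : Subgroup G) (hTI : ∀ g : G, g ∉ Subgroup.normalizer (K : Set G) → ∀ k ∈ K, g * k * g⁻¹ ∈ K → k = 1) (hlt : K < Subgroup.normalizer (K : Set G)) (hC : ∀ k ∈ K, k ≠ 1 → Subgroup.centralizer ({k} : Set G) ≤ K) (hab : ∀ a ∈ K, ∀ b ∈ K, a * b = b * a) : (Nat.card {χ : Cfsg.IrrCharacter (Subgroup.normalizer (K : Set G)) // ∃ k : Subgroup.normalizer (K : Set G), (k : G) ∈ K ∧ (χ : ↥(Subgroup.normalizer (K : Set G)) → ℂ) k ≠ (χ : ↥(Subgroup.normalizer (K : Set G)) → ℂ) 1} = 1 ∧ ∃ p : ℕ, p.Prime ∧ Cfsg.IsElementaryAbelian p K ∧ Nat.card K = (K.subgroupOf (Subgroup.normalizer (K : Set G))).index + 1) ∨ ∃ (ε : ℂ) (f : {χ : Cfsg.IrrCharacter (Subgroup.normalizer (K : Set G)) // ∃ k : Subgroup.normalizer (K : Set G), (k : G) ∈ K ∧ (χ : ↥(Subgroup.normalizer (K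 : Set G)) → ℂ) k ≠ (χ : ↥(Subgroup.normalizer (K : Set G)) → ℂ) 1} → Cfsg.IrrCharacter G), (ε = 1 ∨ ε = -1) ∧ Function.Injective f ∧ ∀ χ ξ, Cfsg.indFun (Subgroup.normalizer (K : Set G)) ((χ.1 : ↥(Subgroup.normalizer (K : Set G)) → ℂ) - (ξ.1 : ↥(Subgroup.normalizer (K : Set G)) → ℂ)) = ε • ((f χ : G → ℂ) - (f ξ : G → ℂ)) := by
  classical
  haveI := CfsgLib.CharDeep.TIF.normal_subgroupOf_normalizer K
  have hfpf := CfsgLib.CharDeep.TIF.fpf K hC
  let KN := K.subgroupOf (Subgroup.normalizer (K : Set G))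
  have := Fintype.ofFinite KN
  have := Fintype.ofFinite (Subgroup.normalizer (K : Set G))
  have habN : ∀ a b : KN, a * b = b * a := fun a b =>
    Subtype.ext (Subtype.ext (hab _ a.2 _ b.2))
  have hdeg : ∀ χ : ↥(Subgroup.normalizer (K : Set G)) → ℂ, Cfsg.IsIrrCharacter _ χ →
      CfsgLib.CharDeep.TIF.Rel KN χ → χ 1 = (KN.index : ℂ) := by
    intro χ hχ hrel
    obtain ⟨τ, hτ, -, rfl⟩ := CfsgLib.CharDeep.TIF.exists_eq_indFun KN hfpf hχ hrel
    rw [CfsgLib.Char.indFun_apply_one, (CfsgLib.CharOver.abelian_irr habN hτ).1, mul_one]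
  set R := {χ : Cfsg.IrrCharacter (Subgroup.normalizer (K : Set G)) //
    ∃ k : Subgroup.normalizer (K : Set G), (k : G) ∈ K ∧
      (χ : ↥(Subgroup.normalizer (K : Set G)) → ℂ) k ≠ (χ : ↥(Subgroup.normalizer (K : Set G)) → ℂ) 1}
  by_cases h1 : Nat.card R = 1
  · left
    refine ⟨h1, ?_⟩
    obtain ⟨hsub, ⟨⟨χ₀, hχ₀⟩, hrel⟩⟩ := Nat.card_eq_one_iff_unique.1 h1
    obtain ⟨p, hp, hexp, hcard⟩ := elementary_of_single KN hfpf habN χ₀ hχ₀ hrel
      (fun χ hχ hχr => congrArg (fun r : R => (r.1 : ↥(Subgroup.normalizer (K : Set G)) → ℂ))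
        (hsub.elim ⟨⟨χ, hχ⟩, hχr⟩ ⟨⟨χ₀, hχ₀⟩, hrel⟩))
    refine ⟨p, hp, ⟨⟨⟨fun a b => Subtype.ext (hab _ a.2 _ b.2)⟩⟩, fun a ha => ?_⟩, ?_⟩
    · exact congrArg (fun x : KN => ((x : Subgroup.normalizer (K : Set G)) : G))
        (hexp ⟨⟨a, Subgroup.le_normalizer ha⟩, ha⟩)
    · rw [← hcard]
      exact (Nat.card_congr (Subgroup.subgroupOfEquivOfLe Subgroup.le_normalizer).toEquiv).symm
  · right
    by_cases hne : Nonempty R
    · obtain ⟨i₀⟩ := hne
      let τ : R → (G → ℂ) := fun i => Cfsg.indFun (Subgroup.normalizer (K : Set G))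
        ((i.1 : ↥(Subgroup.normalizer (K : Set G)) → ℂ) - (i₀.1 : ↥(Subgroup.normalizer (K : Set G)) → ℂ))
      have hoff : ∀ i : R, ∀ x : Subgroup.normalizer (K : Set G), (x : G) ∉ K →
          ((i.1 : ↥(Subgroup.normalizer (K : Set G)) → ℂ) -
            (i₀.1 : ↥(Subgroup.normalizer (K : Set G)) → ℂ)) x = 0 := fun i x hx => by
        rw [Pi.sub_apply, CfsgLib.CharDeep.TIF.vanish_off KN hfpf i.1.2 i.2 hx,
          CfsgLib.CharDeep.TIF.vanish_off KN hfpf i₀.1.2 i₀.2 hx, sub_self]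
      have hat1 : ∀ i : R, ((i.1 : ↥(Subgroup.normalizer (K : Set G)) → ℂ) -
            (i₀.1 : ↥(Subgroup.normalizer (K : Set G)) → ℂ)) 1 = 0 := fun i => by
        rw [Pi.sub_apply, hdeg _ i.1.2 i.2, hdeg _ i₀.1.2 i₀.2, sub_self]
      have hgram : ∀ i j : R, i ≠ i₀ → j ≠ i₀ →
          Cfsg.classInner (τ i) (τ j) = (if i = j then 1 else 0) + 1 := by
        intro i j hi hj
        rw [CfsgLib.Char.classInner_indFun_ti (K : Set G) hTI _ _
          (fun x y => by
            simp only [Pi.sub_apply, CfsgLib.Char.IsIrrCharacter.isClassFunction j.1.2 x y,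
              CfsgLib.Char.IsIrrCharacter.isClassFunction i₀.1.2 x y])
          (hoff i) (hoff j) (hat1 i),
          CfsgLib.Char.classInner_sub_left, CfsgLib.Char.classInner_sub_right,
          CfsgLib.Char.classInner_sub_right,
          CfsgLib.Char.classInner_irrCharacter, CfsgLib.Char.classInner_irrCharacter,
          CfsgLib.Char.classInner_irrCharacter, CfsgLib.Char.classInner_irrCharacter,
          if_neg (fun e => hi (Subtype.ext e)), if_neg (fun e => hj (Subtype.ext e).symm), if_pos rfl]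
        simp only [← Subtype.ext_iff]
        ring
      obtain ⟨ε, hε, μ, hμ, hinj, hμτ⟩ := CfsgLib.CharExc.exists_base i₀ τ
        (by simp only [τ, sub_self, CfsgLib.Char.indFun_zero])
        (fun i => CfsgLib.Char.IsGeneralizedCharacter.indFun _
          (CfsgLib.Char.IsGeneralizedCharacter.sub (CfsgLib.Char.IsIrrCharacter.isGeneralizedCharacter i.1.2)
            (CfsgLib.Char.IsIrrCharacter.isGeneralizedCharacter i₀.1.2)))
        (fun i => by simp only [τ]; rw [CfsgLib.Char.indFun_apply_one, hat1, mul_zero])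
        (fun i hi => by rw [hgram i i hi hi, if_pos rfl]; norm_num)
        (fun i j hi hj hij => by rw [hgram i j hi hj, if_neg hij]; norm_num)
      refine ⟨ε, fun i => ⟨μ i, hμ i⟩, hε, fun i j h => hinj (congrArg Subtype.val h), fun i j => ?_⟩
      show Cfsg.indFun _ _ = ε • (μ i - μ j)
      rw [show ((i.1 : ↥(Subgroup.normalizer (K : Set G)) → ℂ) - (j.1 : ↥(Subgroup.normalizer (K : Set G)) → ℂ)) =
        ((i.1 : ↥(Subgroup.normalizer (K : Set G)) → ℂ) - (i₀.1 : ↥(Subgroup.normalizer (K : Set G)) → ℂ)) -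
        ((j.1 : ↥(Subgroup.normalizer (K : Set G)) → ℂ) - (i₀.1 : ↥(Subgroup.normalizer (K : Set G)) → ℂ)) by
          abel, CfsgLib.Char.indFun_sub]
      show τ i - τ j = _
      rw [hμτ, hμτ, ← smul_sub]
      congr 1
      abel
    · exact ⟨1, fun i => (hne ⟨i⟩).elim, Or.inl rfl, fun i => (hne ⟨i⟩).elim, fun i => (hne ⟨i⟩).elim⟩

end Cfsg.Agent.S0851
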