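import Cfsg.Statements.S2430
import Cfsg.Agent.Lib.SL2Trace.Tori
import Cfsg.Agent.Lib.Linear.Card

set_option autoImplicit false
open Cfsg

namespace Cfsg.Agent.S2430
open Matrix

theorem torus_of_sylow {F : Type*} [Field F] [Fintype F] (hodd : Odd (Fintype.card F)) (ℓ : ℕ)
    [Fact ℓ.Prime] (hℓ : ℓ ≠ 2) (P : Sylow ℓ (SpecialLinearGroup (Fin 2) F))
    (hdvd : ℓ ∣ Fintype.card F - 1 ∨ ℓ ∣ Fintype.card F + 1) :
    ∃ n, (n = Fintype.card F - 1 ∨ n = Fintype.card F + 1) ∧ ℓ ∣ n ∧
      Nat.card (Subgroup.centralizer ((P : Subgroup (SpecialLinearGroup (Fin 2) F)) : Set (SpecialLinearGroup (Fin 2) F))) = n ∧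
      IsCyclic (Subgroup.centralizer ((P : Subgroup (SpecialLinearGroup (Fin 2) F)) : Set (SpecialLinearGroup (Fin 2) F))) ∧
      Nat.card (Subgroup.normalizer ((P : Subgroup (SpecialLinearGroup (Fin 2) F)) : Set (SpecialLinearGroup (Fin 2) F))) = 2 * n := by
  have hℓp := (Fact.out : ℓ.Prime)
  have h2 := CfsgLib.SL2Trace.two_ne_zero_of_odd hodd
  have hq : 2 ≤ Fintype.card F := Fintype.one_lt_card
  obtain ⟨p, hp⟩ := CharP.exists F
  have hpp : p.Prime := (CharP.char_is_prime_or_zero F p).resolve_right (CharP.char_ne_zero_of_finite F p)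
  have : Fact p.Prime := ⟨hpp⟩
  have hdvdG : ℓ ∣ Nat.card (SpecialLinearGroup (Fin 2) F) := by
    rw [CfsgLib.Linear.card_SL_two]
    have : Fintype.card F ^ 2 - 1 = (Fintype.card F + 1) * (Fintype.card F - 1) := by
      simpa using Nat.sq_sub_sq (Fintype.card F) 1
    rw [this]
    rcases hdvd with h | h
    · exact dvd_mul_of_dvd_right (dvd_mul_of_dvd_right h _) _
    · exact dvd_mul_of_dvd_right (dvd_mul_of_dvd_left h _) _
  have hℓq : ¬ ℓ ∣ Fintype.card F := by
    intro h
    rcases hdvd with h' | h'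
    · have := Nat.dvd_sub h h'
      rw [show Fintype.card F - (Fintype.card F - 1) = 1 by omega] at this
      exact hℓp.one_lt.ne' (Nat.dvd_one.1 this)
    · have := Nat.dvd_sub h' h
      rw [show Fintype.card F + 1 - Fintype.card F = 1 by omega] at this
      exact hℓp.one_lt.ne' (Nat.dvd_one.1 this)
  -- a non-trivial element of the centre of `P`
  have hPne : (P : Subgroup (SpecialLinearGroup (Fin 2) F)) ≠ ⊥ := P.ne_bot_of_dvd_card hdvdG
  have : Nontrivial (P : Subgroup (SpecialLinearGroup (Fin 2) F)) :=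
    (Subgroup.nontrivial_iff_ne_bot _).2 hPne
  have : Nontrivial (Subgroup.center (P : Subgroup (SpecialLinearGroup (Fin 2) F))) :=
    IsPGroup.center_nontrivial P.isPGroup'
  obtain ⟨z, hz⟩ := exists_ne (1 : Subgroup.center (P : Subgroup (SpecialLinearGroup (Fin 2) F)))
  set x : SpecialLinearGroup (Fin 2) F := z.1.1 with hx
  have hxP : x ∈ (P : Subgroup (SpecialLinearGroup (Fin 2) F)) := z.1.2
  have hx1 : x ≠ 1 := fun h => hz (Subtype.ext (Subtype.ext h))
  have hxc : ∀ y ∈ (P : Subgroup (SpecialLinearGroup (Fin 2) F)), y * x = x * y := fun y hy =>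
    congrArg Subtype.val (Subgroup.mem_center_iff.1 z.2 ⟨y, hy⟩)
  have noncentral : ∀ y ∈ (P : Subgroup (SpecialLinearGroup (Fin 2) F)), y ≠ 1 →
      ∀ k, (k = 1 ∨ k = p) → y ^ k ∉ Subgroup.center (SpecialLinearGroup (Fin 2) F) := by
    intro y hy hy1 k hk hc
    have h1 := CfsgLib.SL2Trace.mul_self_eq_one_of_mem_center hc
    rw [← pow_add, ← two_mul] at h1
    obtain ⟨e, he⟩ := IsPGroup.iff_orderOf.1 P.isPGroup' ⟨y, hy⟩
    rw [← Subgroup.orderOf_coe] at he
    simp only at he
    have hd := orderOf_dvd_of_pow_eq_one h1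
    rw [he] at hd
    rcases Nat.eq_zero_or_pos e with h0 | h0
    · rw [h0, pow_zero, orderOf_eq_one_iff] at he
      exact hy1 he
    · have h3 : ℓ ∣ 2 * k := (dvd_pow_self ℓ h0.ne').trans hd
      rcases (Nat.Prime.dvd_mul hℓp).1 h3 with h4 | h4
      · exact hℓ ((Nat.prime_dvd_prime_iff_eq hℓp Nat.prime_two).1 h4)
      · rcases hk with rfl | rfl
        · exact hℓp.one_lt.ne' (Nat.dvd_one.1 h4)
        · apply hℓq
          obtain ⟨m, -, hm⟩ := FiniteField.card F k
          rw [hm, (Nat.prime_dvd_prime_iff_eq hℓp hpp).1 h4]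
          exact dvd_pow_self _ m.pos.ne'
  have hnc : x ∉ Subgroup.center (SpecialLinearGroup (Fin 2) F) := fun h =>
    noncentral x hxP hx1 1 (Or.inl rfl) (by rwa [pow_one])
  have hreg : (x : Matrix (Fin 2) (Fin 2) F).trace ^ 2 ≠ 4 := fun h =>
    noncentral x hxP hx1 p (Or.inr rfl) (CfsgLib.SL2Trace.pow_char_mem_center p x h)
  set T := Subgroup.centralizer ({x} : Set (SpecialLinearGroup (Fin 2) F)) with hT
  have hPT : (P : Subgroup (SpecialLinearGroup (Fin 2) F)) ≤ T := fun y hy => by
    rw [hT, Subgroup.mem_centralizer_singleton_iff]; exact hxc y hy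
  have hC : Subgroup.centralizer ((P : Subgroup (SpecialLinearGroup (Fin 2) F)) :
      Set (SpecialLinearGroup (Fin 2) F)) = T := by
    ext g
    constructor
    · intro hg
      rw [hT, Subgroup.mem_centralizer_singleton_iff]
      exact (Subgroup.mem_centralizer_iff.1 hg x hxP).symm
    · intro hg
      rw [Subgroup.mem_centralizer_iff]
      exact fun y hy => CfsgLib.SL2Trace.torus_comm hreg (hPT hy) hg
  obtain ⟨hcyc, hsplit, hnon⟩ := CfsgLib.SL2Trace.centralizer_card_cyclic x hreg
  have hN : Subgroup.normalizer ((P : Subgroup (SpecialLinearGroup (Fin 2) F)) :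
      Set (SpecialLinearGroup (Fin 2) F)) = Subgroup.normalizer (T : Set (SpecialLinearGroup (Fin 2) F)) := by
    ext g
    constructor
    · intro hg
      rw [← hC, Subgroup.mem_normalizer_iff]
      intro h
      rw [Subgroup.mem_centralizer_iff, Subgroup.mem_centralizer_iff]
      constructor
      · intro hh y hy
        have hy' := (Subgroup.mem_normalizer_iff''.1 hg y).1 hy
        calc y * (g * h * g⁻¹) = g * ((g⁻¹ * y * g) * h) * g⁻¹ := by group
          _ = g * (h * (g⁻¹ * y * g)) * g⁻¹ := by rw [hh _ hy']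
          _ = g * h * g⁻¹ * y := by group
      · intro hh y hy
        have hy' := (Subgroup.mem_normalizer_iff.1 hg y).1 hy
        calc y * h = g⁻¹ * ((g * y * g⁻¹) * (g * h * g⁻¹)) * g := by group
          _ = g⁻¹ * ((g * h * g⁻¹) * (g * y * g⁻¹)) * g := by rw [hh _ hy']
          _ = h * y := by group
    · intro hg
      by_cases hgT : g ∈ T
      · refine Subgroup.mem_normalizer_iff.2 fun y => ?_
        constructor
        · intro hy
          rwa [CfsgLib.SL2Trace.torus_comm hreg hgT (hPT hy), mul_inv_cancel_right]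
        · intro hy
          have hy' : g⁻¹ * (g * y * g⁻¹) * g ∈ (P : Subgroup (SpecialLinearGroup (Fin 2) F)) := by
            rw [CfsgLib.SL2Trace.torus_comm hreg (inv_mem hgT) (hPT hy), inv_mul_cancel_right]
            exact hy
          simpa [mul_assoc] using hy'
      · have hinv := (CfsgLib.SL2Trace.outside_inverts hreg h2 hg hgT).1
        refine Subgroup.mem_normalizer_iff.2 fun y => ?_
        constructor
        · intro hy
          rw [hinv y (hPT hy)]
          exact inv_mem hy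
        · intro hy
          have hyT : y ∈ T := (Subgroup.mem_normalizer_iff.1 hg y).2 (hPT hy)
          rw [hinv y hyT] at hy
          simpa using inv_mem hy
  have hdvdT : ℓ ∣ Nat.card T := by
    have h1 : orderOf x ∣ Nat.card T := Subgroup.orderOf_dvd_natCard T (CfsgLib.SL2Trace.self_mem x)
    obtain ⟨e, he⟩ := IsPGroup.iff_orderOf.1 P.isPGroup' ⟨x, hxP⟩
    rw [← Subgroup.orderOf_coe] at he
    simp only at he
    refine dvd_trans ?_ h1
    rw [he]
    rcases Nat.eq_zero_or_pos e with h0 | h0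
    · rw [h0, pow_zero, orderOf_eq_one_iff] at he
      exact absurd he hx1
    · exact dvd_pow_self ℓ h0.ne'
  refine ⟨Nat.card T, ?_, hdvdT, by rw [hC], hC.symm ▸ hcyc, ?_⟩
  · by_cases hu : ∃ u : F, u ^ 2 - (x : Matrix (Fin 2) (Fin 2) F).trace * u + 1 = 0
    · exact Or.inl (hsplit hu)
    · exact Or.inr (hnon hu)
  · rw [hN]
    exact CfsgLib.SL2Trace.card_normalizer_torus hreg h2


/-- Let F be a finite field with q elements, q odd, ℓ an odd prime, and P a Sylow ℓ-subgroup of SL₂ over F. If ℓ divides q − 1, the centraliser of P is cyclic of order q − 1 (a split torus) and the normaliser of P has order 2(q − 1); if ℓ divides q + 1, the centraliser of P is cyclic of order q + 1 (a non-split torus) and the normaliser of P has order 2(q + 1). -/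
theorem result {F : Type*} [Field F] [Fintype F] (hodd : Odd (Fintype.card F)) (ℓ : ℕ) [Fact ℓ.Prime] (hℓ : ℓ ≠ 2)
    (P : Sylow ℓ (Matrix.SpecialLinearGroup (Fin 2) F)) :
    (ℓ ∣ Fintype.card F - 1 →
      Nat.card (Subgroup.centralizer ((P : Subgroup (Matrix.SpecialLinearGroup (Fin 2) F)) : Set (Matrix.SpecialLinearGroup (Fin 2) F))) = Fintype.card F - 1 ∧
      IsCyclic (Subgroup.centralizer ((P : Subgroup (Matrix.SpecialLinearGroup (Fin 2) F)) : Set (Matrix.SpecialLinearGroup (Fin 2) F))) ∧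
      Nat.card (Subgroup.normalizer ((P : Subgroup (Matrix.SpecialLinearGroup (Fin 2) F)) : Set (Matrix.SpecialLinearGroup (Fin 2) F))) = 2 * (Fintype.card F - 1)) ∧
    (ℓ ∣ Fintype.card F + 1 →
      Nat.card (Subgroup.centralizer ((P : Subgroup (Matrix.SpecialLinearGroup (Fin 2) F)) : Set (Matrix.SpecialLinearGroup (Fin 2) F))) = Fintype.card F + 1 ∧
      IsCyclic (Subgroup.centralizer ((P : Subgroup (Matrix.SpecialLinearGroup (Fin 2) F)) : Set (Matrix.SpecialLinearGroup (Fin 2) F))) ∧
      Nat.card (Subgroup.normalizer ((P : Subgroup (Matrix.SpecialLinearGroup (Fin 2) F)) : Set (Matrix.SpecialLinearGroup (Fin 2) F))) = 2 * (Fintype.card F + 1)) := by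
  have hℓp := (Fact.out : ℓ.Prime)
  have hq : 2 ≤ Fintype.card F := Fintype.one_lt_card
  have hexcl : ℓ ∣ Fintype.card F - 1 → ℓ ∣ Fintype.card F + 1 → False := by
    intro h1 h2
    have := Nat.dvd_sub h2 h1
    rw [show Fintype.card F + 1 - (Fintype.card F - 1) = 2 by omega] at this
    exact hℓ ((Nat.prime_dvd_prime_iff_eq hℓp Nat.prime_two).1 this)
  constructor
  · intro h
    obtain ⟨n, hn | hn, hd, h1, h2, h3⟩ := torus_of_sylow hodd ℓ hℓ P (Or.inl h)
    · subst hn; exact ⟨h1, h2, h3⟩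
    · exact (hexcl h (hn ▸ hd)).elim
  · intro h
    obtain ⟨n, hn | hn, hd, h1, h2, h3⟩ := torus_of_sylow hodd ℓ hℓ P (Or.inr h)
    · exact (hexcl (hn ▸ hd) h).elim
    · subst hn; exact ⟨h1, h2, h3⟩

end Cfsg.Agent.S2430
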