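import Cfsg.Statements.S2431
import Cfsg.Agent.Lib.SL2Trace.Tori
import Cfsg.Agent.Lib.Linear.Card

set_option autoImplicit false
open Cfsg

namespace Cfsg.Agent.S2431
open Matrix

variable {F : Type*} [Field F]

/-- The order three rotation of two anticommuting square roots of `-1`. -/
theorem exists_rot (h2 : (2 : F) ≠ 0) (i j : Matrix.SpecialLinearGroup (Fin 2) F)
    (hi : (i : Matrix (Fin 2) (Fin 2) F) * i = -1) (hj : (j : Matrix (Fin 2) (Fin 2) F) * j = -1)
    (hij : (j : Matrix (Fin 2) (Fin 2) F) * i = -((i : Matrix (Fin 2) (Fin 2) F) * j)) :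
    ∃ h : Matrix.SpecialLinearGroup (Fin 2) F, h * i * h⁻¹ = i * j ∧ h * (i * j) * h⁻¹ = j ∧ h * j * h⁻¹ = i := by
  set I := (i : Matrix (Fin 2) (Fin 2) F) with hI
  set J := (j : Matrix (Fin 2) (Fin 2) F) with hJ
  have hiji : I * J * I = J := by
    rw [mul_assoc, hij, mul_neg, ← mul_assoc, hi, neg_one_mul, neg_neg]
  have hjij : J * (I * J) = I := by
    rw [← mul_assoc, hij, neg_mul, mul_assoc, hj, mul_neg, mul_one, neg_neg]
  set N := I + J + I * J with hN
  have hN2 : N * N = (-3 : F) • (1 : Matrix (Fin 2) (Fin 2) F) := by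
    have h1 : I * (I * J) = -J := by rw [← mul_assoc, hi, neg_one_mul]
    have h2' : (I * J) * J = -I := by rw [mul_assoc, hj, mul_neg, mul_one]
    have h3 : (I * J) * (I * J) = -1 := by rw [← mul_assoc, hiji, hj]
    have e : N * N = I * I + J * J + (I * J) * (I * J) + (I * J + J * I) + (I * (I * J) + (I * J) * I)
        + (J * (I * J) + (I * J) * J) := by rw [hN]; noncomm_ring
    rw [e, hi, hj, h3, h1, h2', hiji, hjij, hij]
    ext a b
    fin_cases a <;> fin_cases b <;> simp <;> ring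
  set H : Matrix (Fin 2) (Fin 2) F := (2 : F)⁻¹ • (-1 + N) with hH
  have htr : ∀ X : Matrix.SpecialLinearGroup (Fin 2) F, (X : Matrix (Fin 2) (Fin 2) F) * X = -1 →
      (X : Matrix (Fin 2) (Fin 2) F) 0 0 + (X : Matrix (Fin 2) (Fin 2) F) 1 1 = 0 := by
    intro X hX
    have h1 := CfsgLib.SL2Trace.mul_self_eq X
    rw [hX, trace_fin_two, eq_sub_iff_add_eq, neg_add_cancel] at h1
    rcases smul_eq_zero.1 h1.symm with h | h
    · exact h
    · exfalso
      rw [h, mul_zero] at hX
      have := congrFun (congrFun hX 0) 0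
      simp at this
  obtain ⟨K, hK⟩ : ∃ K : Matrix.SpecialLinearGroup (Fin 2) F, K = i * j := ⟨_, rfl⟩
  have hKv : (K : Matrix (Fin 2) (Fin 2) F) = I * J := by rw [hK]; rfl
  have hIJ : (K : Matrix (Fin 2) (Fin 2) F) * K = -1 := by
    rw [hKv, ← mul_assoc, hiji, hj]
  have hNtr : N 0 0 + N 1 1 = 0 := by
    have a := htr i hi
    have b := htr j hj
    have c := htr K hIJ
    rw [hKv] at c
    rw [← hI] at a
    rw [← hJ] at b
    simp only [hN, Matrix.add_apply]
    linear_combination a + b + c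
  have hdet : H.det = 1 := by
    have e := congrFun (congrFun hN2 0) 0
    simp [Matrix.mul_apply, Fin.sum_univ_two] at e
    rw [hH, det_fin_two]
    simp
    field_simp
    linear_combination -e + (N 0 0 - 1) * hNtr
  let Hs : Matrix.SpecialLinearGroup (Fin 2) F := ⟨H, hdet⟩
  refine ⟨Hs, ?_, ?_, ?_⟩
  · rw [mul_inv_eq_iff_eq_mul]
    apply Subtype.ext
    show H * I = I * J * H
    rw [hH, smul_mul_assoc, mul_smul_comm]
    congr 1
    rw [hN]
    have h1 : I * J * (I * J) = -1 := by rw [← mul_assoc, hiji, hj]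
    have h2' : I * J * J = -I := by rw [mul_assoc, hj, mul_neg, mul_one]
    simp only [add_mul, mul_add, neg_mul, mul_neg, one_mul, mul_one, hi, hij, hiji, h1, h2']
    abel
  · rw [mul_inv_eq_iff_eq_mul]
    apply Subtype.ext
    show H * (I * J) = J * H
    rw [hH, smul_mul_assoc, mul_smul_comm]
    congr 1
    rw [hN]
    have h1 : I * J * (I * J) = -1 := by rw [← mul_assoc, hiji, hj]
    have h2' : I * (I * J) = -J := by rw [← mul_assoc, hi, neg_one_mul]
    simp only [add_mul, mul_add, neg_mul, mul_neg, one_mul, mul_one, hj, hij, hjij, h1, h2']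
    abel
  · rw [mul_inv_eq_iff_eq_mul]
    apply Subtype.ext
    show H * J = I * H
    rw [hH, smul_mul_assoc, mul_smul_comm]
    congr 1
    rw [hN]
    have h2' : I * J * J = -I := by rw [mul_assoc, hj, mul_neg, mul_one]
    have h3 : I * (I * J) = -J := by rw [← mul_assoc, hi, neg_one_mul]
    simp only [add_mul, mul_add, neg_mul, mul_neg, one_mul, mul_one, hi, hj, hij, h2', h3]
    abel

variable [Fintype F]

theorem exists_model (hodd : Odd (Fintype.card F)) :
    ∃ S : Sylow 2 (Matrix.SpecialLinearGroup (Fin 2) F),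
      Subgroup.centralizer ((S : Subgroup (Matrix.SpecialLinearGroup (Fin 2) F)) : Set (Matrix.SpecialLinearGroup (Fin 2) F)) =
        Subgroup.center (Matrix.SpecialLinearGroup (Fin 2) F) ∧
      ((Fintype.card F % 8 = 1 ∨ Fintype.card F % 8 = 7) →
        Subgroup.normalizer ((S : Subgroup (Matrix.SpecialLinearGroup (Fin 2) F)) : Set (Matrix.SpecialLinearGroup (Fin 2) F)) =
          (S : Subgroup (Matrix.SpecialLinearGroup (Fin 2) F))) ∧
      ((Fintype.card F % 8 = 3 ∨ Fintype.card F % 8 = 5) →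
        Nat.card (Subgroup.normalizer ((S : Subgroup (Matrix.SpecialLinearGroup (Fin 2) F)) : Set (Matrix.SpecialLinearGroup (Fin 2) F))) =
          3 * Nat.card S) := by
  classical
  have h2 := CfsgLib.SL2Trace.two_ne_zero_of_odd hodd
  have hq : 2 ≤ Fintype.card F := Fintype.one_lt_card
  have hqodd := Nat.odd_iff.1 hodd
  -- the torus whose order is divisible by four
  obtain ⟨M, hM, n, n', hcard, hn, hn', hnn⟩ : ∃ M : Matrix.SpecialLinearGroup (Fin 2) F,
      (M : Matrix (Fin 2) (Fin 2) F).trace ^ 2 ≠ 4 ∧ ∃ n n' : ℕ,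
        Nat.card (Subgroup.centralizer ({M} : Set (Matrix.SpecialLinearGroup (Fin 2) F))) = n ∧ n % 4 = 0 ∧
        n' % 4 = 2 ∧ ((n = Fintype.card F - 1 ∧ n' = Fintype.card F + 1) ∨ (n = Fintype.card F + 1 ∧ n' = Fintype.card F - 1)) := by
    by_cases h4 : Fintype.card F % 4 = 1
    · obtain ⟨τ, hτ, hu⟩ := CfsgLib.SL2Trace.exists_isotropic_trace (F := F) (by omega)
      refine ⟨CfsgLib.SL2Trace.comp τ, by simpa [CfsgLib.SL2Trace.coe_comp, trace_fin_two] using hτ, _, _,
        (CfsgLib.SL2Trace.card_centralizer_comp τ hτ).1 hu, ?_, ?_, Or.inl ⟨rfl, rfl⟩⟩ <;> omega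
    · obtain ⟨τ, hu⟩ := CfsgLib.SL2Trace.exists_anisotropic_trace (F := F)
      have hτ : τ ^ 2 ≠ 4 := fun h => hu (CfsgLib.SL2Trace.exists_root_of_sq_eq_four τ h)
      refine ⟨CfsgLib.SL2Trace.comp τ, by simpa [CfsgLib.SL2Trace.coe_comp, trace_fin_two] using hτ, _, _,
        (CfsgLib.SL2Trace.card_centralizer_comp τ hτ).2 hu, ?_, ?_, Or.inr ⟨rfl, rfl⟩⟩ <;> omega
  set T := Subgroup.centralizer ({M} : Set (Matrix.SpecialLinearGroup (Fin 2) F)) with hT
  obtain ⟨e, m, hm2, hnem⟩ := Nat.exists_eq_pow_mul_and_not_dvd (n := n) (by omega) 2 (by norm_num)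
  have he : 2 ≤ e := by
    rcases e with _ | _ | e
    · omega
    · exfalso; rw [pow_one] at hnem; omega
    · omega
  set Z : Subgroup (Matrix.SpecialLinearGroup (Fin 2) F) :=
    { carrier := {t | t ∈ T ∧ t ^ (2 ^ e) = 1}
      one_mem' := ⟨one_mem T, one_pow _⟩
      mul_mem' := fun {a b} ha hb => ⟨mul_mem ha.1 hb.1, by
        rw [(show Commute a b from CfsgLib.SL2Trace.torus_comm hM ha.1 hb.1).mul_pow, ha.2, hb.2, one_mul]⟩
      inv_mem' := fun {a} ha => ⟨inv_mem ha.1, by rw [inv_pow, ha.2, inv_one]⟩ } with hZdef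
  have hZcard : Nat.card Z = 2 ^ e := by
    have hcyc : IsCyclic T := (CfsgLib.SL2Trace.centralizer_card_cyclic M hM).1
    let _ := IsCyclic.commGroup (α := T)
    have h := IsCyclic.card_powMonoidHom_ker (G := T) (2 ^ e)
    rw [hcard, Nat.gcd_eq_right ⟨m, hnem⟩] at h
    rw [← h]
    exact Nat.card_congr
      { toFun := fun t => ⟨⟨t.1, t.2.1⟩, Subtype.ext t.2.2⟩
        invFun := fun t => ⟨t.1.1, t.1.2, congrArg Subtype.val t.2⟩
        left_inv := fun _ => rfl
        right_inv := fun _ => rfl }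
  obtain ⟨z, hzZ, hz⟩ : ∃ z ∈ Z, orderOf z = 2 ^ e := by
    have hle : Z ≤ T := fun t ht => ht.1
    have hcyc : IsCyclic T := (CfsgLib.SL2Trace.centralizer_card_cyclic M hM).1
    have hcyc' : IsCyclic Z := isCyclic_of_injective (Subgroup.inclusion hle) (Subgroup.inclusion_injective hle)
    obtain ⟨z, hz⟩ := IsCyclic.exists_ofOrder_eq_natCard (α := Z)
    exact ⟨z.1, z.2, by rw [Subgroup.orderOf_coe, hz, hZcard]⟩
  have he4 : 4 ≤ 2 ^ e := le_trans (by norm_num) (Nat.pow_le_pow_right two_pos he)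
  have hznc : z ∉ Subgroup.center (Matrix.SpecialLinearGroup (Fin 2) F) := by
    intro h
    have := orderOf_dvd_of_pow_eq_one (x := z) (n := 2)
      (by rw [pow_two]; exact CfsgLib.SL2Trace.mul_self_eq_one_of_mem_center h)
    rw [hz] at this
    have := Nat.le_of_dvd two_pos this
    omega
  obtain ⟨U, hU⟩ := CfsgLib.SL2Trace.exists_inverter hM
  obtain ⟨hUT, hinv⟩ := CfsgLib.SL2Trace.inverts_of_conj_eq_inv hM h2 hU
  have hUN := (CfsgLib.SL2Trace.mem_normalizer_iff_cases hM h2 U).2 (Or.inr hU)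
  have hUU : ((U * U : Matrix.SpecialLinearGroup (Fin 2) F) : Matrix (Fin 2) (Fin 2) F) = -1 :=
    (CfsgLib.SL2Trace.outside_inverts hM h2 hUN hUT).2
  have hUU' : U * U = -1 := Subtype.ext (by rw [hUU]; simp [Matrix.SpecialLinearGroup.coe_neg])
  have hneg : (-1 : Matrix.SpecialLinearGroup (Fin 2) F) ∈ Z := by
    refine ⟨CfsgLib.SL2Trace.neg_one_mem hM, ?_⟩
    obtain ⟨k, rfl⟩ : ∃ k, e = k + 1 := ⟨e - 1, by omega⟩
    rw [pow_succ', pow_mul, neg_one_sq, one_pow]
  have hnegc : ∀ g : Matrix.SpecialLinearGroup (Fin 2) F, -1 * g = g * -1 := fun g => by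
    rw [neg_one_mul, mul_neg_one]
  have hUinv : U⁻¹ = -1 * U := inv_eq_of_mul_eq_one_right (by
    rw [← mul_assoc, ← hnegc, mul_assoc, hUU']; simp)
  have hswap : ∀ t ∈ Z, U * t = t⁻¹ * U := fun t ht => mul_inv_eq_iff_eq_mul.1 (hinv t ht.1)
  let S0 : Subgroup (Matrix.SpecialLinearGroup (Fin 2) F) :=
    { carrier := {g | g ∈ Z ∨ ∃ t ∈ Z, g = t * U}
      one_mem' := Or.inl (one_mem Z)
      mul_mem' := by
        rintro a b (ha | ⟨s, hs, rfl⟩) (hb | ⟨t, ht, rfl⟩)
        · exact Or.inl (mul_mem ha hb)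
        · exact Or.inr ⟨a * t, mul_mem ha ht, (mul_assoc _ _ _).symm⟩
        · exact Or.inr ⟨s * b⁻¹, mul_mem hs (inv_mem hb), by rw [mul_assoc, hswap b hb, mul_assoc]⟩
        · refine Or.inl ?_
          rw [show s * U * (t * U) = s * (U * t) * U by group, hswap t ht,
            show s * (t⁻¹ * U) * U = s * t⁻¹ * (U * U) by group, hUU']
          exact mul_mem (mul_mem hs (inv_mem ht)) hneg
      inv_mem' := by
        rintro a (ha | ⟨s, hs, rfl⟩)
        · exact Or.inl (inv_mem ha)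
        · refine Or.inr ⟨-1 * s, mul_mem hneg hs, ?_⟩
          rw [_root_.mul_inv_rev, hUinv, mul_assoc, mul_assoc, hswap s⁻¹ (inv_mem hs), inv_inv] }
  have hUS : U ∈ S0 := Or.inr ⟨1, one_mem Z, (one_mul U).symm⟩
  have hS0card : Nat.card S0 = 2 * 2 ^ e := by
    rw [two_mul, ← hZcard, ← Nat.card_sum]
    refine (Nat.card_eq_of_bijective (fun x : Z ⊕ Z => (Sum.elim (fun t => (⟨t.1, Or.inl t.2⟩ : S0))
      (fun t => ⟨t.1 * U, Or.inr ⟨t.1, t.2, rfl⟩⟩) x)) ⟨?_, ?_⟩).symm
    · rintro (a | a) (b | b) h <;> simp only [Sum.elim_inl, Sum.elim_inr, Subtype.mk.injEq] at h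
      · exact congrArg Sum.inl (Subtype.ext h)
      · exact absurd ((Subgroup.mul_mem_cancel_left _ b.2.1).1 (h ▸ a.2.1)) hUT
      · exact absurd ((Subgroup.mul_mem_cancel_left _ a.2.1).1 (h.symm ▸ b.2.1)) hUT
      · exact congrArg Sum.inr (Subtype.ext (mul_right_cancel h))
    · rintro ⟨g, hg | ⟨t, ht, rfl⟩⟩
      · exact ⟨Sum.inl ⟨g, hg⟩, rfl⟩
      · exact ⟨Sum.inr ⟨t, ht⟩, rfl⟩
  have hp : IsPGroup 2 S0 := IsPGroup.of_card (n := e + 1) (by rw [hS0card, pow_succ']) 
  have hidx : ¬ 2 ∣ S0.index := by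
    have h := S0.card_mul_index
    rw [hS0card, CfsgLib.Linear.card_SL_two] at h
    have hsq : Fintype.card F ^ 2 - 1 = n * n' := by
      have h' : Fintype.card F ^ 2 - 1 = (Fintype.card F + 1) * (Fintype.card F - 1) := by
        simpa using Nat.sq_sub_sq (Fintype.card F) 1
      rcases hnn with ⟨rfl, rfl⟩ | ⟨rfl, rfl⟩
      · rw [h', mul_comm]
      · exact h'
    obtain ⟨k, hk⟩ : ∃ k, n' = 2 * k := ⟨n' / 2, by omega⟩
    rw [hsq, hnem, hk] at h
    have h' : 2 * 2 ^ e * S0.index = 2 * 2 ^ e * (Fintype.card F * (m * k)) := by rw [h]; ring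
    rw [Nat.eq_of_mul_eq_mul_left (by positivity) h']
    intro hd
    rcases (Nat.Prime.dvd_mul Nat.prime_two).1 hd with h1 | h1
    · omega
    rcases (Nat.Prime.dvd_mul Nat.prime_two).1 h1 with h1 | h1
    · exact hm2 h1
    · omega
  refine ⟨hp.toSylow hidx, ?_⟩
  show Subgroup.centralizer (S0 : Set (Matrix.SpecialLinearGroup (Fin 2) F)) = _ ∧ (_ → Subgroup.normalizer (S0 : Set (Matrix.SpecialLinearGroup (Fin 2) F)) = S0) ∧
    (_ → Nat.card (Subgroup.normalizer (S0 : Set (Matrix.SpecialLinearGroup (Fin 2) F))) = 3 * Nat.card S0)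
  have hCz : Subgroup.centralizer ({z} : Set (Matrix.SpecialLinearGroup (Fin 2) F)) = T :=
    CfsgLib.SL2Trace.centralizer_eq hM hzZ.1 hznc
  -- normalising elements which stabilise `T`
  have key : ∀ g ∈ Subgroup.normalizer (S0 : Set (Matrix.SpecialLinearGroup (Fin 2) F)), g * z * g⁻¹ ∈ Z → g ∈ S0 := by
    intro g hg hgz
    have hgN : g ∈ Subgroup.normalizer (T : Set (Matrix.SpecialLinearGroup (Fin 2) F)) := by
      rw [hT, CfsgLib.SL2Trace.mem_normalizer_iff_cases hM h2]
      rcases CfsgLib.SL2Trace.eq_or_eq_inv_of_trace_eq hM h2 hzZ.1 hgz.1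
        (CfsgLib.SL2Trace.trace_mul_mul_inv z) with h | h
      · left
        rw [← hT, ← hCz, Subgroup.mem_centralizer_singleton_iff]
        exact mul_inv_eq_iff_eq_mul.1 h
      · have hUg : U⁻¹ * g ∈ T := by
          rw [← hCz, Subgroup.mem_centralizer_singleton_iff]
          calc U⁻¹ * g * z = U⁻¹ * (g * z * g⁻¹) * g := by group
            _ = U⁻¹ * (U * z * U⁻¹) * g := by rw [h, hinv z hzZ.1]
            _ = z * (U⁻¹ * g) := by group
        right
        rw [← hU, show g = U * (U⁻¹ * g) by group]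
        generalize U⁻¹ * g = w at hUg
        rw [hT, Subgroup.mem_centralizer_singleton_iff] at hUg
        calc U * w * M * (U * w)⁻¹ = U * (w * M) * w⁻¹ * U⁻¹ := by group
          _ = _ := by rw [hUg]; group
    -- reduce to an element of the torus
    have red : ∀ t ∈ T, t ∈ Subgroup.normalizer (S0 : Set (Matrix.SpecialLinearGroup (Fin 2) F)) → t ∈ S0 := by
      intro t ht htN
      have h1 := (Subgroup.mem_normalizer_iff.1 htN U).1 hUS
      have h2' : t * U * t⁻¹ = t * t * U := by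
        rw [mul_assoc t t U, show t * U * t⁻¹ = t * (U * t⁻¹) by group,
          mul_inv_eq_iff_eq_mul.1 (hinv t⁻¹ (inv_mem ht)), inv_inv]
      rw [h2'] at h1
      rcases h1 with h1 | ⟨s, hs, h1⟩
      · exact absurd ((Subgroup.mul_mem_cancel_left _ (mul_mem ht ht)).1 h1.1) hUT
      · have htt := mul_right_cancel h1
        refine Or.inl ⟨ht, ?_⟩
        have h3 : t ^ (2 * 2 ^ e) = 1 := by rw [pow_mul, pow_two, htt, hs.2]
        have h4 : t ^ n = 1 := by
          rw [← hcard]
          exact congrArg Subtype.val (pow_card_eq_one' (x := (⟨t, ht⟩ : T)))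
        have hgcd : Nat.gcd (2 * 2 ^ e) n = 2 ^ e := by
          rw [hnem, mul_comm 2 (2 ^ e), Nat.gcd_mul_left, show Nat.gcd 2 m = 1 from
            (Nat.Prime.coprime_iff_not_dvd Nat.prime_two).2 hm2, mul_one]
        rw [← hgcd]
        exact pow_gcd_eq_one.2 ⟨h3, h4⟩
    by_cases hgT : g ∈ T
    · exact red g hgT hg
    · have hgM := ((CfsgLib.SL2Trace.mem_normalizer_iff_cases hM h2 g).1 hgN).resolve_left hgT
      have hUg : U⁻¹ * g ∈ T := by
        rw [hT, Subgroup.mem_centralizer_singleton_iff]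
        calc U⁻¹ * g * M = U⁻¹ * (g * M * g⁻¹) * g := by group
          _ = U⁻¹ * (U * M * U⁻¹) * g := by rw [hgM, ← hU]
          _ = M * (U⁻¹ * g) := by group
      have := red _ hUg (mul_mem (inv_mem (Subgroup.le_normalizer hUS)) hg)
      simpa using mul_mem hUS this
  refine ⟨?_, fun h8 => ?_, fun h8 => ?_⟩
  · apply le_antisymm
    · intro g hg
      rw [Subgroup.mem_centralizer_iff] at hg
      have hgT : g ∈ T := by
        rw [← hCz, Subgroup.mem_centralizer_singleton_iff]
        exact (hg z (Or.inl hzZ)).symm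
      have h1 := hinv g hgT
      rw [hg U hUS, mul_inv_cancel_right] at h1
      exact CfsgLib.SL2Trace.mem_center_of_sq_eq_one h2 (mul_eq_one_iff_eq_inv.2 h1)
    · exact Subgroup.center_le_centralizer _
  · apply le_antisymm ?_ Subgroup.le_normalizer
    intro g hg
    apply key g hg
    rcases (Subgroup.mem_normalizer_iff.1 hg z).1 (Or.inl hzZ) with h | ⟨t, ht, h⟩
    · exact h
    · exfalso
      have he3 : 3 ≤ e := by
        by_contra hlt
        have : e = 2 := by omega
        rw [this] at hnem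
        rcases hnn with ⟨h1, -⟩ | ⟨h1, -⟩ <;> omega
      have hsq : (g * z * g⁻¹) ^ 2 = -1 := by
        rw [h, pow_two, show t * U * (t * U) = t * (U * t) * U by group, hswap t ht,
          show t * (t⁻¹ * U) * U = U * U by group, hUU']
      rw [conj_pow] at hsq
      have hz2 : z ^ 2 = -1 := by
        calc z ^ 2 = g⁻¹ * (g * z ^ 2 * g⁻¹) * g := by group
          _ = g⁻¹ * (-1 * g) := by rw [hsq, mul_assoc]
          _ = -1 := by rw [hnegc, inv_mul_cancel_left]
      have hz4 : z ^ (2 * 2) = 1 := by rw [pow_mul, hz2, neg_one_sq]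
      have := Nat.le_of_dvd (by norm_num) (orderOf_dvd_of_pow_eq_one hz4)
      rw [hz] at this
      have : 2 ^ 3 ≤ 2 ^ e := Nat.pow_le_pow_right two_pos he3
      omega
  · have he2 : e = 2 := by
      by_contra hne
      have h8n : 2 ^ 3 ∣ n := ⟨2 ^ (e - 3) * m, by rw [hnem, ← mul_assoc, ← pow_add]; congr 2; omega⟩
      rcases hnn with ⟨h1, -⟩ | ⟨h1, -⟩ <;> omega
    have hzz : ((z * z : Matrix.SpecialLinearGroup (Fin 2) F) : Matrix (Fin 2) (Fin 2) F) = -1 := by
      have h4 : (z * z) * (z * z) = 1 := by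
        have := pow_orderOf_eq_one z
        rw [hz, he2] at this
        rw [← this, show (2 : ℕ) ^ 2 = 1 + 1 + 1 + 1 from rfl]
        simp only [pow_add, pow_one, mul_assoc]
      obtain ⟨r, hr, hrz⟩ := Matrix.SpecialLinearGroup.mem_center_iff.1
        (CfsgLib.SL2Trace.mem_center_of_sq_eq_one h2 h4)
      rw [Fintype.card_fin] at hr
      rcases sq_eq_one_iff.1 hr with rfl | rfl
      · exfalso
        have : z ^ 2 = 1 := Subtype.ext (by rw [pow_two, ← hrz]; simp)
        have := Nat.le_of_dvd two_pos (orderOf_dvd_of_pow_eq_one this)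
        omega
      · rw [← hrz, map_neg, map_one]
    have hzz' : z * z = -1 := Subtype.ext (by rw [hzz]; simp [Matrix.SpecialLinearGroup.coe_neg])
    have hzinv : z⁻¹ = -1 * z := inv_eq_of_mul_eq_one_right (by
      rw [← mul_assoc, ← hnegc, mul_assoc, hzz']; simp)
    obtain ⟨h, hi', hk', hj'⟩ := exists_rot h2 z U (by rw [← Matrix.SpecialLinearGroup.coe_mul, hzz])
      (by rw [← Matrix.SpecialLinearGroup.coe_mul, hUU]) (by
        rw [← Matrix.SpecialLinearGroup.coe_mul, hswap z hzZ, hzinv, Matrix.SpecialLinearGroup.coe_mul,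
          Matrix.SpecialLinearGroup.coe_mul, Matrix.SpecialLinearGroup.coe_neg, Matrix.SpecialLinearGroup.coe_one,
          neg_one_mul, neg_mul])
    have hS0gen : ∀ g ∈ S0, g ∈ Subgroup.closure ({z, U} : Set (Matrix.SpecialLinearGroup (Fin 2) F)) := by
      have hZz : Z = Subgroup.zpowers z := (Subgroup.eq_of_le_of_card_ge (Subgroup.zpowers_le.2 hzZ)
        (by rw [Nat.card_zpowers, hz, hZcard])).symm
      have hz' : Z ≤ Subgroup.closure ({z, U} : Set (Matrix.SpecialLinearGroup (Fin 2) F)) := by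
        rw [hZz, Subgroup.zpowers_le]; exact Subgroup.subset_closure (Or.inl rfl)
      rintro g (hg | ⟨t, ht, rfl⟩)
      · exact hz' hg
      · exact mul_mem (hz' ht) (Subgroup.subset_closure (Or.inr rfl))
    have hhN : h ∈ Subgroup.normalizer (S0 : Set (Matrix.SpecialLinearGroup (Fin 2) F)) := by
      refine Subgroup.mem_normalizer_fintype fun g hg => ?_
      have hmem := hS0gen g hg
      induction hmem using Subgroup.closure_induction with
      | mem x hx =>
        rcases hx with rfl | rfl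
        · rw [hi']; exact mul_mem (Or.inl hzZ) hUS
        · rw [hj']; exact Or.inl hzZ
      | one => simpa using one_mem S0
      | mul x y hx hy ihx ihy =>
        have hx' : x ∈ S0 := (Subgroup.closure_le S0).2 (by rintro w (rfl | rfl); exacts [Or.inl hzZ, hUS]) hx
        have hy' : y ∈ S0 := (Subgroup.closure_le S0).2 (by rintro w (rfl | rfl); exacts [Or.inl hzZ, hUS]) hy
        rw [show h * (x * y) * h⁻¹ = (h * x * h⁻¹) * (h * y * h⁻¹) by group]
        exact mul_mem (ihx hx') (ihy hy')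
      | inv x hx ih =>
        have hx' : x ∈ S0 := (Subgroup.closure_le S0).2 (by rintro w (rfl | rfl); exacts [Or.inl hzZ, hUS]) hx
        rw [show h * x⁻¹ * h⁻¹ = (h * x * h⁻¹)⁻¹ by group]
        exact inv_mem (ih hx')
    have hh2 : h * h * z * (h * h)⁻¹ = U := by
      rw [show h * h * z * (h * h)⁻¹ = h * (h * z * h⁻¹) * h⁻¹ by group, hi', hk']
    have hhS : h ∉ S0 := by
      rintro (hh | ⟨t, ht, rfl⟩)
      · have : h * z * h⁻¹ = z := by
          rw [CfsgLib.SL2Trace.torus_comm hM hh.1 hzZ.1, mul_inv_cancel_right]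
        rw [hi'] at this
        have h1 : U = 1 := mul_left_cancel (this.trans (mul_one z).symm)
        exact hUT (h1 ▸ one_mem T)
      · have : t * U * z * (t * U)⁻¹ = z⁻¹ := by
          rw [show t * U * z * (t * U)⁻¹ = t * (U * z * U⁻¹) * t⁻¹ by group, hinv z hzZ.1,
            CfsgLib.SL2Trace.torus_comm hM ht.1 (inv_mem hzZ.1), mul_inv_cancel_right]
        rw [hi'] at this
        have h1 : U = z⁻¹ * z⁻¹ := by
          rw [← inv_mul_cancel_left z U, this]
        exact hUT (h1 ▸ mul_mem (inv_mem hzZ.1) (inv_mem hzZ.1))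
    have hh2S : h * h ∉ S0 := by
      intro hh
      have hcases : h * h * z * (h * h)⁻¹ ∈ Z := by
        rcases hh with hh' | ⟨t, ht, hh'⟩
        · rw [CfsgLib.SL2Trace.torus_comm hM hh'.1 hzZ.1, mul_inv_cancel_right]; exact hzZ
        · rw [hh', show t * U * z * (t * U)⁻¹ = t * (U * z * U⁻¹) * t⁻¹ by group, hinv z hzZ.1,
            CfsgLib.SL2Trace.torus_comm hM ht.1 (inv_mem hzZ.1), mul_inv_cancel_right]
          exact inv_mem hzZ
      rw [hh2] at hcases
      exact hUT hcases.1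
    set N := Subgroup.normalizer (S0 : Set (Matrix.SpecialLinearGroup (Fin 2) F)) with hN
    have hcover : ∀ g ∈ N, g ∈ S0 ∨ h⁻¹ * g ∈ S0 ∨ (h * h)⁻¹ * g ∈ S0 := by
      intro g hg
      have hgz := (Subgroup.mem_normalizer_iff.1 hg z).1 (Or.inl hzZ)
      rcases hgz with hgz | ⟨t, ht, hgz⟩
      · exact Or.inl (key g hg hgz)
      · have hpow : t = 1 ∨ t = -1 ∨ t = z ∨ t = -1 * z := by
          have hZz : Z = Subgroup.zpowers z := (Subgroup.eq_of_le_of_card_ge (Subgroup.zpowers_le.2 hzZ)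
            (by rw [Nat.card_zpowers, hz, hZcard])).symm
          rw [hZz, mem_zpowers_iff_mem_range_orderOf, hz, he2] at ht
          simp only [Finset.mem_image, Finset.mem_range] at ht
          obtain ⟨i, hi, rfl⟩ := ht
          rcases (show i = 0 ∨ i = 1 ∨ i = 2 ∨ i = 3 by omega) with rfl | rfl | rfl | rfl
          · exact Or.inl (pow_zero z)
          · exact Or.inr (Or.inr (Or.inl (pow_one z)))
          · exact Or.inr (Or.inl (by rw [pow_two, hzz']))
          · exact Or.inr (Or.inr (Or.inr (by rw [pow_succ, pow_two, hzz'])))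
        have hc : ∀ w ∈ N, ∀ ε : Matrix.SpecialLinearGroup (Fin 2) F, (ε = 1 ∨ ε = -1) →
            g * z * g⁻¹ = ε * (w * z * w⁻¹) → w⁻¹ * g ∈ S0 := by
          intro w hw ε hε hgw
          apply key _ (mul_mem (inv_mem hw) hg)
          rw [show w⁻¹ * g * z * (w⁻¹ * g)⁻¹ = w⁻¹ * (g * z * g⁻¹) * w by group, hgw]
          rcases hε with rfl | rfl
          · rw [one_mul, show w⁻¹ * (w * z * w⁻¹) * w = z by group]; exact hzZ
          · rw [show w⁻¹ * (-1 * (w * z * w⁻¹)) * w = -1 * z by simp [mul_assoc]]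
            exact mul_mem hneg hzZ
        rcases hpow with rfl | rfl | rfl | rfl
        · exact Or.inr (Or.inr (hc _ (mul_mem hhN hhN) 1 (Or.inl rfl) (by rw [hgz, hh2])))
        · exact Or.inr (Or.inr (hc _ (mul_mem hhN hhN) (-1) (Or.inr rfl) (by rw [hgz, hh2])))
        · exact Or.inr (Or.inl (hc _ hhN 1 (Or.inl rfl) (by rw [hgz, hi', one_mul])))
        · exact Or.inr (Or.inl (hc _ hhN (-1) (Or.inr rfl) (by rw [hgz, hi', mul_assoc])))
    have h3 : Nat.card N = Nat.card (S0 ⊕ (S0 ⊕ S0)) := by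
      refine (Nat.card_eq_of_bijective (fun x : S0 ⊕ (S0 ⊕ S0) => (Sum.elim
        (fun s => (⟨s.1, Subgroup.le_normalizer s.2⟩ : N))
        (Sum.elim (fun s => ⟨h * s.1, mul_mem hhN (Subgroup.le_normalizer s.2)⟩)
          (fun s => ⟨h * h * s.1, mul_mem (mul_mem hhN hhN) (Subgroup.le_normalizer s.2)⟩)) x)) ⟨?_, ?_⟩).symm
      · have no1 : ∀ a b : S0, (a : Matrix.SpecialLinearGroup (Fin 2) F) ≠ h * b := fun a b e =>
          hhS ((Subgroup.mul_mem_cancel_right _ b.2).1 (e ▸ a.2))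
        have no2 : ∀ a b : S0, (a : Matrix.SpecialLinearGroup (Fin 2) F) ≠ h * h * b := fun a b e =>
          hh2S ((Subgroup.mul_mem_cancel_right _ b.2).1 (e ▸ a.2))
        rintro (a | a | a) (b | b | b) e <;> simp only [Sum.elim_inl, Sum.elim_inr, Subtype.mk.injEq] at e
        · exact congrArg Sum.inl (Subtype.ext e)
        · exact absurd e (no1 a b)
        · exact absurd e (no2 a b)
        · exact absurd e.symm (no1 b a)
        · exact congrArg (Sum.inr ∘ Sum.inl) (Subtype.ext (mul_left_cancel e))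
        · rw [mul_assoc] at e; exact absurd (mul_left_cancel e) (no1 a b)
        · exact absurd e.symm (no2 b a)
        · rw [mul_assoc] at e; exact absurd (mul_left_cancel e).symm (no1 b a)
        · exact congrArg (Sum.inr ∘ Sum.inr) (Subtype.ext (mul_left_cancel e))
      · rintro ⟨g, hg⟩
        rcases hcover g hg with h' | h' | h'
        · exact ⟨Sum.inl ⟨g, h'⟩, rfl⟩
        · exact ⟨Sum.inr (Sum.inl ⟨_, h'⟩), by simp⟩
        · exact ⟨Sum.inr (Sum.inr ⟨_, h'⟩), by simp [mul_assoc]⟩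
    rw [h3, Nat.card_sum, Nat.card_sum]
    ring


/-- Let F be a finite field with q elements, q odd, and S a Sylow 2-subgroup of SL₂ over F. The centraliser of S is the centre of SL₂ (of order 2); S is its own normaliser when q ≡ ±1 mod 8, and has index 3 in its normaliser when q ≡ ±3 mod 8. -/
theorem result {F : Type*} [Field F] [Fintype F] (hodd : Odd (Fintype.card F)) (S : Sylow 2 (Matrix.SpecialLinearGroup (Fin 2) F)) :
    Subgroup.centralizer ((S : Subgroup (Matrix.SpecialLinearGroup (Fin 2) F)) : Set (Matrix.SpecialLinearGroup (Fin 2) F)) = Subgroup.center (Matrix.SpecialLinearGroup (Fin 2) F) ∧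
    ((Fintype.card F % 8 = 1 ∨ Fintype.card F % 8 = 7) →
      Subgroup.normalizer ((S : Subgroup (Matrix.SpecialLinearGroup (Fin 2) F)) : Set (Matrix.SpecialLinearGroup (Fin 2) F)) = (S : Subgroup (Matrix.SpecialLinearGroup (Fin 2) F))) ∧
    ((Fintype.card F % 8 = 3 ∨ Fintype.card F % 8 = 5) →
      Nat.card (Subgroup.normalizer ((S : Subgroup (Matrix.SpecialLinearGroup (Fin 2) F)) : Set (Matrix.SpecialLinearGroup (Fin 2) F))) = 3 * Nat.card S) := by
  obtain ⟨S₀, hC, hN1, hN3⟩ := exists_model hodd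
  obtain ⟨g, hg⟩ := MulAction.exists_smul_eq (Matrix.SpecialLinearGroup (Fin 2) F) S₀ S
  have hS : ∀ x, x ∈ (S : Subgroup (Matrix.SpecialLinearGroup (Fin 2) F)) ↔
      g⁻¹ * x * g ∈ (S₀ : Subgroup (Matrix.SpecialLinearGroup (Fin 2) F)) := by
    intro x
    rw [← hg, Sylow.coe_subgroup_smul, Subgroup.mem_pointwise_smul_iff_inv_smul_mem]
    simp [MulAut.conj_inv_apply]
  have hidxN : Nat.card (Subgroup.normalizer ((S : Subgroup (Matrix.SpecialLinearGroup (Fin 2) F)) : Set (Matrix.SpecialLinearGroup (Fin 2) F))) =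
      Nat.card (Subgroup.normalizer ((S₀ : Subgroup (Matrix.SpecialLinearGroup (Fin 2) F)) : Set (Matrix.SpecialLinearGroup (Fin 2) F))) := by
    have h1 := Subgroup.card_mul_index (Subgroup.normalizer ((S : Subgroup (Matrix.SpecialLinearGroup (Fin 2) F)) : Set (Matrix.SpecialLinearGroup (Fin 2) F)))
    have h2 := Subgroup.card_mul_index (Subgroup.normalizer ((S₀ : Subgroup (Matrix.SpecialLinearGroup (Fin 2) F)) : Set (Matrix.SpecialLinearGroup (Fin 2) F)))
    have e1 : Nat.card (Sylow 2 (Matrix.SpecialLinearGroup (Fin 2) F)) = (Subgroup.normalizer ((S : Subgroup (Matrix.SpecialLinearGroup (Fin 2) F)) : Set (Matrix.SpecialLinearGroup (Fin 2) F))).index := Sylow.card_eq_index_normalizer S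
    have e2 : Nat.card (Sylow 2 (Matrix.SpecialLinearGroup (Fin 2) F)) = (Subgroup.normalizer ((S₀ : Subgroup (Matrix.SpecialLinearGroup (Fin 2) F)) : Set (Matrix.SpecialLinearGroup (Fin 2) F))).index := Sylow.card_eq_index_normalizer S₀
    rw [← e1] at h1
    rw [← e2] at h2
    exact Nat.eq_of_mul_eq_mul_right Nat.card_pos (h1.trans h2.symm)
  have hcardS : Nat.card S = Nat.card S₀ := Nat.card_congr (S.equiv S₀).toEquiv
  refine ⟨le_antisymm (fun x hx => ?_) (Subgroup.center_le_centralizer _), fun h => ?_, fun h => ?_⟩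
  · have : g⁻¹ * x * g ∈ Subgroup.center (Matrix.SpecialLinearGroup (Fin 2) F) := by
      rw [← hC, Subgroup.mem_centralizer_iff]
      intro y hy
      have hy' : g * y * g⁻¹ ∈ (S : Subgroup (Matrix.SpecialLinearGroup (Fin 2) F)) :=
        (hS _).2 (by rw [show g⁻¹ * (g * y * g⁻¹) * g = y by group]; exact hy)
      have := Subgroup.mem_centralizer_iff.1 hx _ hy'
      calc y * (g⁻¹ * x * g) = g⁻¹ * (g * y * g⁻¹ * x) * g := by group
        _ = g⁻¹ * (x * (g * y * g⁻¹)) * g := by rw [this]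
        _ = g⁻¹ * x * g * y := by group
    have h' := Subgroup.mem_center_iff.1 this g
    rw [show g * (g⁻¹ * x * g) = x * g by group] at h'
    rwa [← mul_right_cancel h'] at this
  · refine (Subgroup.eq_of_le_of_card_ge Subgroup.le_normalizer ?_).symm
    rw [hidxN, hN1 h]
    exact le_of_eq hcardS.symm
  · rw [hidxN, hN3 h, hcardS]

end Cfsg.Agent.S2431
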