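import Cfsg.Statements.S2437
import Cfsg.Agent.Lib.SL2Borel.Basic
import Cfsg.Agent.Lib.SL2Trace.Tori

set_option autoImplicit false
open Cfsg

namespace Cfsg.Agent.S2437
open CfsgLib.SL2Borel Matrix

variable {F : Type*} [Field F]

/-- The obstruction to commuting with the unipotent radical. -/
def dd (a : Fˣ) : F := (a : F) - ((a⁻¹ : Fˣ) : F)

theorem commute_iff (a a' : Fˣ) (u u' : F) :
    Commute (bMk a u) (bMk a' u') ↔ dd a * u' = dd a' * u := by
  constructor
  · intro h
    have := congrArg
      (fun x : borel F => ((x : Matrix.SpecialLinearGroup (Fin 2) F) : Matrix (Fin 2) (Fin 2) F) 0 1) h.eq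
    simp only [Subgroup.coe_mul, Matrix.SpecialLinearGroup.coe_mul, bMk_coe, dd] at this ⊢
    simp [Matrix.mul_apply, Fin.sum_univ_two] at this ⊢
    linear_combination this
  · intro h
    apply Subtype.ext
    apply Subtype.ext
    simp only [Subgroup.coe_mul, Matrix.SpecialLinearGroup.coe_mul, bMk_coe, dd] at h ⊢
    ext i j
    fin_cases i <;> fin_cases j <;> simp [Matrix.mul_apply, Fin.sum_univ_two] at h ⊢ <;>
      first
        | ring1
        | linear_combination h

theorem card_sol [Fintype F] [DecidableEq F] (c c' : F) :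
    Nat.card {w : F × F // c * w.2 = c' * w.1} =
      Fintype.card F + if c = 0 ∧ c' = 0 then Fintype.card F ^ 2 - Fintype.card F else 0 := by
  have hpos : Fintype.card F ≤ Fintype.card F ^ 2 := Nat.le_self_pow two_ne_zero _
  by_cases hc : c = 0
  · by_cases hc' : c' = 0
    · rw [if_pos ⟨hc, hc'⟩, Nat.card_congr (Equiv.subtypeUnivEquiv fun w => by simp [hc, hc']),
        Nat.card_eq_fintype_card, Fintype.card_prod, ← pow_two]
      omega
    · rw [if_neg (fun h => hc' h.2), add_zero, ← Nat.card_eq_fintype_card]
      exact Nat.card_congr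
        { toFun := fun w => w.1.2
          invFun := fun y => ⟨(0, y), by simp [hc]⟩
          left_inv := fun ⟨⟨x, y⟩, h⟩ => by
            have : x = 0 := by simpa [hc, hc'] using h.symm
            simp [this]
          right_inv := fun y => rfl }
  · rw [if_neg (fun h => hc h.1), add_zero, ← Nat.card_eq_fintype_card]
    exact Nat.card_congr
      { toFun := fun w => w.1.1
        invFun := fun x => ⟨(x, c⁻¹ * (c' * x)), by simp [hc]⟩
        left_inv := fun ⟨⟨x, y⟩, h⟩ => by
          apply Subtype.ext
          apply Prod.ext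
          · rfl
          · show c⁻¹ * (c' * x) = y
            rw [← h, inv_mul_cancel_left₀ hc]
        right_inv := fun x => rfl }

theorem card_dd_zero [Fintype F] [DecidableEq F] (two_ne : (2 : F) ≠ 0) :
    Fintype.card {a : Fˣ // dd a = 0} = 2 := by
  rw [Fintype.card_subtype, Finset.card_eq_two]
  refine ⟨1, -1, fun h => two_ne ?_, ?_⟩
  · have := congrArg (fun a : Fˣ => (a : F)) h
    simp at this
    linear_combination this
  · ext a
    simp only [Finset.mem_filter, Finset.mem_univ, true_and, Finset.mem_insert, Finset.mem_singleton,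
      dd, sub_eq_zero, Units.val_inv_eq_inv_val]
    constructor
    · intro h
      have h2 : (a : F) * a = 1 := by
        nth_rewrite 2 [h]
        exact mul_inv_cancel₀ a.ne_zero
      rcases mul_self_eq_one_iff.1 h2 with h3 | h3
      · exact Or.inl (Units.ext h3)
      · exact Or.inr (Units.ext (by simpa using h3))
    · rintro (rfl | rfl) <;> simp


/-- Over a finite field F with q elements, q odd, the upper triangular subgroup of SL₂ (a Borel subgroup, of order q(q − 1)) has exactly q + 3 conjugacy classes. -/
theorem result {F : Type*} [Field F] [Fintype F] (hodd : Odd (Fintype.card F)) :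
    Nat.card (ConjClasses ((Cfsg.upperTriangularGL 2 F).comap Matrix.SpecialLinearGroup.toGL)) = Fintype.card F + 3 := by
  classical
  have htwo : (2 : F) ≠ 0 := CfsgLib.SL2Trace.two_ne_zero_of_odd hodd
  have hcount := card_comm_eq_card_conjClasses_mul_card (borel F)
  let e : {p : borel F × borel F // Commute p.1 p.2} ≃
      Σ a : Fˣ × Fˣ, {w : F × F // dd a.1 * w.2 = dd a.2 * w.1} :=
    ((Equiv.subtypeEquiv (((borelEquiv (F := F)).prodCongr borelEquiv).trans
        (Equiv.prodProdProdComm _ _ _ _)) (fun p => by
      obtain ⟨b, b'⟩ := p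
      have h := commute_iff (borelEquiv b).1 (borelEquiv b').1 (borelEquiv b).2 (borelEquiv b').2
      simp only [bMk, Prod.mk.eta, Equiv.symm_apply_apply] at h
      exact h)).trans
      (Equiv.subtypeProdEquivSigmaSubtype
        (fun (a : Fˣ × Fˣ) (w : F × F) => dd a.1 * w.2 = dd a.2 * w.1)))
  rw [Nat.card_congr e, Nat.card_sigma, card_borel] at hcount
  simp only [card_sol] at hcount
  rw [Finset.sum_add_distrib, Finset.sum_const, ← Finset.sum_filter, Finset.sum_const,
    Finset.card_univ, Fintype.card_prod, Fintype.card_units,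
    show (Finset.univ.filter fun a : Fˣ × Fˣ => dd a.1 = 0 ∧ dd a.2 = 0) =
      (Finset.univ.filter fun a : Fˣ => dd a = 0) ×ˢ (Finset.univ.filter fun a : Fˣ => dd a = 0)
      from by ext a; simp,
    Finset.card_product, ← Fintype.card_subtype, card_dd_zero htwo, smul_eq_mul, smul_eq_mul] at hcount
  have hq : 2 ≤ Fintype.card F := Fintype.one_lt_card
  generalize Fintype.card F = q at hcount hq ⊢
  obtain ⟨k, rfl⟩ : ∃ k, q = k + 1 := ⟨q - 1, by omega⟩
  rw [Nat.add_sub_cancel, show (k + 1) ^ 2 - (k + 1) = (k + 1) * k by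
    rw [pow_two, ← Nat.mul_sub_one, Nat.add_sub_cancel]] at hcount
  refine Nat.eq_of_mul_eq_mul_right (show 0 < k * (k + 1) from Nat.mul_pos (by omega) (by omega)) ?_
  rw [← hcount]
  ring

end Cfsg.Agent.S2437
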