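import Cfsg.Statements.S3377
import Cfsg.Agent.Lib.Present.BinIcosahedral
import Mathlib.Tactic

set_option autoImplicit false
open Cfsg

namespace Cfsg.Agent.S3377

/-- The alternating group of degree 5 has the presentation ⟨x, y | x³ = 1, y⁵ = 1, (xy)² = 1⟩: the group so presented is isomorphic to Alt(5). -/
theorem result :
    Nonempty (PresentedGroup ({FreeGroup.of (0 : Fin 2) ^ 3, FreeGroup.of (1 : Fin 2) ^ 5,
        (FreeGroup.of (0 : Fin 2) * FreeGroup.of 1) ^ 2} : Set (FreeGroup (Fin 2))) ≃* alternatingGroup (Fin 5)) := by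
  classical
  set rels : Set (FreeGroup (Fin 2)) := {FreeGroup.of (0 : Fin 2) ^ 3, FreeGroup.of (1 : Fin 2) ^ 5,
        (FreeGroup.of (0 : Fin 2) * FreeGroup.of 1) ^ 2} with hrels
  obtain ⟨a, b, ha, hb, hab, hgen⟩ := CfsgLib.Present.ico_pair
  have hr : ∀ r ∈ rels, FreeGroup.lift ![a, b] r = 1 := by
    rintro r (rfl | rfl | rfl)
    · simpa using (congrArg (a ^ ·) ha).symm.trans (pow_orderOf_eq_one a)
    · simpa using (congrArg (b ^ ·) hb).symm.trans (pow_orderOf_eq_one b)
    · simpa using (congrArg ((a * b) ^ ·) hab).symm.trans (pow_orderOf_eq_one (a * b))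
  let φ : PresentedGroup rels →* alternatingGroup (Fin 5) := PresentedGroup.toGroup hr
  have hsurj : Function.Surjective φ := by
    rw [← MonoidHom.range_eq_top, eq_top_iff, ← hgen, Subgroup.closure_le]
    rintro _ (rfl | rfl)
    · exact ⟨_, PresentedGroup.toGroup.of hr (x := 0)⟩
    · exact ⟨_, PresentedGroup.toGroup.of hr (x := 1)⟩
  have h0 : ∀ r ∈ rels, PresentedGroup.mk rels r = 1 := fun r h => PresentedGroup.one_of_mem h
  have htop : Subgroup.closure {PresentedGroup.of (rels := rels) 0, PresentedGroup.of (rels := rels) 1} = ⊤ := by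
    rw [eq_top_iff, ← PresentedGroup.closure_range_of rels, Subgroup.closure_le]
    rintro _ ⟨i, rfl⟩
    fin_cases i
    · exact Subgroup.subset_closure (Or.inl rfl)
    · exact Subgroup.subset_closure (Or.inr rfl)
  obtain ⟨hfin, hle⟩ := CfsgLib.Present.icosahedral_card_le _ _
    (by simpa [PresentedGroup.of] using h0 _ (Or.inl rfl))
    (by simpa [PresentedGroup.of] using h0 _ (Or.inr (Or.inl rfl)))
    (by simpa [PresentedGroup.of] using h0 _ (Or.inr (Or.inr rfl))) htop
  have h60 : Nat.card (alternatingGroup (Fin 5)) = 60 := by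
    rw [Nat.card_eq_fintype_card]
    have := two_mul_card_alternatingGroup (α := Fin 5)
    rw [Fintype.card_perm, Fintype.card_fin, show Nat.factorial 5 = 120 from rfl] at this
    omega
  exact ⟨MulEquiv.ofBijective φ (hsurj.bijective_of_nat_card_le (h60.symm ▸ hle))⟩

end Cfsg.Agent.S3377
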