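import Cfsg.Statements.S4025
import Cfsg.Agent.Lib.FGS73.SubspaceTransitive
import Cfsg.Agent.Lib.Solvable.Core

set_option autoImplicit false
set_option linter.style.haveILetI false
open Cfsg

namespace Cfsg.Agent.S4025

universe u

/-- A crude bound on the semi-affine group of a field. -/
theorem card_semiaffine_le (E : Type u) [Field E] [Finite E] :
    Nat.card (Cfsg.semiaffineGroup E) ≤ Nat.card Eˣ * Nat.card E * Nat.card (E ≃+* E) := by
  haveI : Finite (E ≃+* E) := Finite.of_injective _ DFunLike.coe_injective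
  rw [← Nat.card_prod, ← Nat.card_prod]
  refine Nat.card_le_card_of_surjective (fun t => ⟨(t.2.toEquiv.trans (Equiv.mulLeft₀ (t.1.1 : E) t.1.1.ne_zero)).trans
    (Equiv.addRight t.1.2), t.1.1, t.1.2, t.2, fun x => rfl⟩) ?_
  rintro ⟨s, a, b, φ, hs⟩
  exact ⟨((a, b), φ), Subtype.ext (Equiv.ext fun x => (hs x).symm)⟩

/-- A crude bound on the affine group of a field. -/
theorem card_affine_le (E : Type u) [Field E] [Finite E] :
    Nat.card (Cfsg.affineGroup E) ≤ Nat.card Eˣ * Nat.card E := by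
  rw [← Nat.card_prod]
  refine Nat.card_le_card_of_surjective (fun t => ⟨(Equiv.mulLeft₀ (t.1 : E) t.1.ne_zero).trans
    (Equiv.addRight t.2), t.1, t.2, fun x => rfl⟩) ?_
  rintro ⟨s, a, b, hs⟩
  exact ⟨(a, b), Subtype.ext (Equiv.ext fun x => (hs x).symm)⟩


/-- Let p be a prime and G a finite group in which any two p-subgroups of the same order are conjugate, and suppose a Sylow p-subgroup P of G is elementary abelian of order pⁿ with n ≥ 3. Let N be the normalizer of P and K the largest normal subgroup of N of order prime to p, and assume N/K is solvable. Then either n = 3 and N/K embeds in the one-dimensional semi-affine group over the field with p³ elements (and for p = 2 it is isomorphic to the affine or the semi-affine group over the field with 8 elements), or n = 5, p = 2 and N/K is isomorphic to the one-dimensional semi-affine group over the field with 32 elements. -/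
theorem result {G : Type*} [Group G] [Finite G]
    {p : ℕ} [Fact p.Prime] (hC : ∀ H K : Subgroup G, IsPGroup p H → IsPGroup p K → Nat.card H = Nat.card K →
      ∃ g : G, K = H.map (MulAut.conj g).toMonoidHom) (P : Sylow p G) (n : ℕ) (hn : 3 ≤ n)
    (hel : Cfsg.IsElementaryAbelian p (P : Subgroup G)) (hcard : Nat.card P = p ^ n)
    (N : Subgroup G) (hN : N = Subgroup.normalizer ((P : Subgroup G) : Set G))
    (hsolv : Group.IsSolvable (↥N ⧸ Cfsg.pPrimeCore p ↥N)) :
    (n = 3 ∧ (∃ f : ↥N ⧸ Cfsg.pPrimeCore p ↥N →* ↥(Cfsg.semiaffineGroup (GaloisField p 3)), Function.Injective f) ∧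
      (p = 2 → Nonempty (↥N ⧸ Cfsg.pPrimeCore p ↥N ≃* Cfsg.semiaffineGroup (GaloisField 2 3)) ∨
               Nonempty (↥N ⧸ Cfsg.pPrimeCore p ↥N ≃* Cfsg.affineGroup (GaloisField 2 3)))) ∨
    (n = 5 ∧ p = 2 ∧ Nonempty (↥N ⧸ Cfsg.pPrimeCore p ↥N ≃* Cfsg.semiaffineGroup (GaloisField 2 5))) := by
  classical
  have hp : p.Prime := Fact.out
  subst hN
  set N := Subgroup.normalizer ((P : Subgroup G) : Set G) with hNdef
  have hPN : (P : Subgroup G) ≤ N := Subgroup.le_normalizer
  haveI hPc : IsMulCommutative (P : Subgroup G) := hel.1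
  have hcomm : ∀ a ∈ (P : Subgroup G), ∀ b ∈ (P : Subgroup G), a * b = b * a :=
    fun a ha b hb => setLike_mul_comm ha hb
  set P' := (P : Subgroup G).subgroupOf N with hP'
  haveI : P'.Normal := Subgroup.normal_in_normalizer
  have hP'card : Nat.card P' = p ^ n := (Nat.card_congr (Subgroup.subgroupOfEquivOfLe hPN).toEquiv).trans hcard
  have hP'idx : ¬ p ∣ P'.index := (P.subtype hPN).not_dvd_index
  set π := QuotientGroup.mk' (Cfsg.pPrimeCore p ↥N) with hπ
  have hπs : Function.Surjective π := QuotientGroup.mk'_surjective _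
  have hker : ∀ x ∈ P', π x = 1 → x = 1 := by
    intro x hx h1
    rw [hπ, QuotientGroup.mk'_apply, QuotientGroup.eq_one_iff] at h1
    have hco : (Nat.card P').Coprime (Nat.card (Cfsg.pPrimeCore p ↥N)) := by
      rw [hP'card]
      exact (Nat.Coprime.pow_right n (CfsgLib.Solvable.pPrimeCore_card_coprime p ↥N)).symm
    exact Subgroup.disjoint_def.1 (Subgroup.disjoint_of_coprime_natCard hco) hx h1
  set Pb := P'.map π with hPb
  haveI : Pb.Normal := Subgroup.Normal.map inferInstance π hπs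
  have hPbcard : Nat.card Pb = p ^ n := by
    have hinj : Function.Injective (π.subgroupMap P') := by
      rw [injective_iff_map_eq_one]
      exact fun x hx => Subtype.ext (hker x x.2 (congrArg Subtype.val hx))
    rw [← hP'card]
    exact (Nat.card_eq_of_bijective _ ⟨hinj, π.subgroupMap_surjective P'⟩).symm
  have hPbexp : ∀ x : Pb, x ^ p = 1 := by
    rintro ⟨_, x, hx, rfl⟩
    refine Subtype.ext ?_
    rw [SubmonoidClass.coe_pow, OneMemClass.coe_one, ← map_pow,
      show x ^ p = 1 from Subtype.ext (by simpa using hel.2 _ hx), map_one]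
  have hPbc : ∀ x y : Pb, x * y = y * x := by
    rintro ⟨_, x, hx, rfl⟩ ⟨_, y, hy, rfl⟩
    refine Subtype.ext ?_
    show π x * π y = π y * π x
    rw [← map_mul, ← map_mul, show x * y = y * x from Subtype.ext (hcomm _ hx _ hy)]
  letI : CommGroup Pb := { (inferInstance : Group Pb) with mul_comm := hPbc }
  have hidx : ¬ p ∣ Pb.index := fun h => hP'idx (h.trans (Subgroup.index_map_dvd _ hπs))
  obtain ⟨H, hH⟩ := Subgroup.exists_right_complement'_of_coprime (N := Pb)
    (by rw [hPbcard]; exact Nat.Coprime.pow_left n (hp.coprime_iff_not_dvd.2 hidx))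
  have hHcard : Nat.card H = Pb.index := hH.symm.index_eq_card.symm
  have hHcop : ¬ p ∣ Nat.card H := hHcard ▸ hidx
  haveI := hsolv
  have hHsol : Group.IsSolvable H := inferInstance
  -- self-centralizing
  have hself : ∀ q : ↥N ⧸ Cfsg.pPrimeCore p ↥N, (∀ v ∈ Pb, v * q = q * v) → q ∈ Pb := by
    intro q hq
    obtain ⟨m, rfl⟩ := hπs q
    set C := Subgroup.centralizer (P' : Set ↥N) with hC'
    have hmC : m ∈ C := by
      intro x hx
      have h1 := hq (π x) (Subgroup.mem_map_of_mem π hx)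
      have hd : x * m * x⁻¹ * m⁻¹ ∈ P' := by
        rw [show x * m * x⁻¹ * m⁻¹ = x * (m * x⁻¹ * m⁻¹) by group]
        exact mul_mem hx (Subgroup.Normal.conj_mem inferInstance _ (inv_mem hx) m)
      have h2 := hker _ hd (by rw [map_mul, map_mul, map_mul, h1, map_inv, map_inv]; group)
      exact mul_inv_eq_iff_eq_mul.1 (mul_inv_eq_one.1 h2)
    have hP'C : P' ≤ C := fun x hx y hy => Subtype.ext (hcomm _ hy _ hx)
    set Z := P'.subgroupOf C with hZ
    haveI : Z.Normal := inferInstance
    have hZc : ∀ z ∈ Z, ∀ c : C, z * c = c * z := fun z hz c => Subtype.ext (c.2 (z : ↥N) hz)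
    have hZcard : Nat.card Z = p ^ n :=
      (Nat.card_congr (Subgroup.subgroupOfEquivOfLe hP'C).toEquiv).trans hP'card
    obtain ⟨O, hO⟩ := Subgroup.exists_right_complement'_of_coprime (N := Z) (by
      rw [hZcard]
      refine Nat.Coprime.pow_left n (hp.coprime_iff_not_dvd.2 fun h => hP'idx (h.trans ?_))
      exact ⟨C.index, (Subgroup.relIndex_mul_index hP'C).symm⟩)
    have hOcard : Nat.card O = Z.index := hO.symm.index_eq_card.symm
    have hOcop : (Nat.card O).Coprime p := by
      rw [hOcard]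
      refine (hp.coprime_iff_not_dvd.2 fun h => hP'idx (h.trans ?_)).symm
      exact ⟨C.index, (Subgroup.relIndex_mul_index hP'C).symm⟩
    have hOmem : ∀ c : C, (orderOf c).Coprime p → c ∈ O := by
      intro c hc
      obtain ⟨⟨x, o⟩, hxo⟩ := hO.2 c
      simp only at hxo
      have hx1 : (x : C) = 1 := by
        have hk : ((x : C) * o) ^ (orderOf c) = 1 := by rw [hxo]; exact pow_orderOf_eq_one c
        have hcx : Commute (x : C) (o : C) := hZc _ x.2 _
        rw [hcx.mul_pow] at hk
        have h1 : (x : C) ^ orderOf c = 1 := by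
          refine Subgroup.disjoint_def.1 hO.disjoint (pow_mem x.2 _) ?_
          rw [eq_inv_of_mul_eq_one_left hk]
          exact inv_mem (pow_mem o.2 _)
        have h2 : (x : C) ^ p = 1 := Subtype.ext (Subtype.ext (by simpa using hel.2 _ x.2))
        have := pow_gcd_eq_one.2 ⟨h1, h2⟩
        rwa [hc.gcd_eq_one, pow_one] at this
      rw [hx1, one_mul] at hxo
      exact hxo ▸ o.2
    have hOord : ∀ o : C, o ∈ O → (orderOf o).Coprime p := fun o ho =>
      hOcop.coprime_dvd_left (by simpa using orderOf_dvd_natCard (⟨o, ho⟩ : O))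
    have hOn : (O.map C.subtype).Normal := by
      refine ⟨?_⟩
      rintro _ ⟨o, ho, rfl⟩ g
      haveI : C.Normal := inferInstance
      refine ⟨⟨g * o * g⁻¹, ‹C.Normal›.conj_mem _ o.2 g⟩, hOmem _ ?_, rfl⟩
      rw [← Subgroup.orderOf_coe]
      show (orderOf (g * (o : ↥N) * g⁻¹)).Coprime p
      rw [show g * (o : ↥N) * g⁻¹ = MulAut.conj g (o : ↥N) from rfl,
        (MulAut.conj g).orderOf_eq, Subgroup.orderOf_coe]
      exact hOord o ho
    have hOR : O.map C.subtype ≤ Cfsg.pPrimeCore p ↥N := CfsgLib.Solvable.le_pPrimeCore hOn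
      (by rw [Subgroup.card_map_of_injective C.subtype_injective]; exact hOcop)
    obtain ⟨⟨x, o⟩, hxo⟩ := hO.2 ⟨m, hmC⟩
    refine ⟨((x : C) : ↥N), x.2, ?_⟩
    have h1 : m = ((x : C) : ↥N) * ((o : C) : ↥N) := (congrArg Subtype.val hxo).symm
    rw [h1, map_mul, (show π ((o : C) : ↥N) = 1 from (QuotientGroup.eq_one_iff _).2
      (hOR (Subgroup.mem_map_of_mem _ o.2))), mul_one]
  let ψ : H →* MulAut Pb := (MulAut.conjNormal (H := Pb)).comp H.subtype
  have hψv : ∀ (h : H) (v : Pb), ((ψ h v : Pb) : ↥N ⧸ Cfsg.pPrimeCore p ↥N) = h * v * (h : ↥N ⧸ Cfsg.pPrimeCore p ↥N)⁻¹ :=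
    fun h v => MulAut.conjNormal_apply _ v
  have hψ : Function.Injective ψ := by
    rw [injective_iff_map_eq_one]
    intro h h1
    have : (h : ↥N ⧸ Cfsg.pPrimeCore p ↥N) ∈ Pb := hself _ fun v hv => by
      have h2 := hψv h ⟨v, hv⟩
      rw [h1, MulAut.one_apply] at h2
      exact eq_mul_inv_iff_mul_eq.1 h2
    exact Subtype.ext (Subgroup.disjoint_def.1 hH.disjoint this h.2)
  -- fusion in the normalizer
  have hfus : ∀ K L : Subgroup G, K ≤ P → L ≤ P → Nat.card K = Nat.card L →
      ∃ m : ↥N, K.map (MulAut.conj (m : G)).toMonoidHom = L := by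
    intro K L hK hL hKL
    obtain ⟨g, hg⟩ := hC K L (P.2.to_le hK) (P.2.to_le hL) hKL
    have h1 : (P : Subgroup G) ≤ Subgroup.centralizer (L : Set G) := fun x hx y hy => hcomm _ (hL hy) _ hx
    have h2 : ((g • P : Sylow p G) : Subgroup G) ≤ Subgroup.centralizer (L : Set G) := by
      rintro _ ⟨x, hx, rfl⟩ y hy
      obtain ⟨k, hk, rfl⟩ : y ∈ K.map (MulAut.conj g).toMonoidHom := hg ▸ hy
      show MulAut.conj g k * MulAut.conj g x = MulAut.conj g x * MulAut.conj g k
      rw [← map_mul, ← map_mul, hcomm _ (hK hk) _ hx]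
    obtain ⟨c, hc⟩ := MulAction.exists_smul_eq (Subgroup.centralizer (L : Set G))
      ((g • P).subtype h2) (P.subtype h1)
    rw [Sylow.smul_subtype] at hc
    have hc' : (c : G) • g • P = P := Sylow.subtype_injective hc
    rw [← mul_smul] at hc'
    refine ⟨⟨(c : G) * g, Sylow.smul_eq_iff_mem_normalizer.1 hc'⟩, ?_⟩
    show K.map (MulAut.conj ((c : G) * g)).toMonoidHom = L
    rw [show (MulAut.conj ((c : G) * g)).toMonoidHom =
      (MulAut.conj (c : G)).toMonoidHom.comp (MulAut.conj g).toMonoidHom by rw [map_mul]; rfl,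
      ← Subgroup.map_map, ← hg]
    refine Subgroup.ext fun y => ⟨?_, fun hy => ⟨y, hy, ?_⟩⟩
    · rintro ⟨z, hz, rfl⟩
      show (c : G) * z * (c : G)⁻¹ ∈ L
      rw [← c.2 z hz, mul_inv_cancel_right]
      exact hz
    · show (c : G) * y * (c : G)⁻¹ = y
      rw [← c.2 y hy, mul_inv_cancel_right]
  have htr : ∀ K L : Subgroup Pb, Nat.card K = Nat.card L → ∃ h : H, K.map (ψ h).toMonoidHom = L := by
    intro K L hKL
    let up : Subgroup Pb → Subgroup ↥N := fun W => P' ⊓ (W.map Pb.subtype).comap π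
    have hup : ∀ W, (up W).map π = W.map Pb.subtype := by
      intro W
      refine le_antisymm (Subgroup.map_le_iff_le_comap.2 inf_le_right) ?_
      rintro _ ⟨w, hw, rfl⟩
      obtain ⟨x, hx, hxw⟩ := w.2
      exact ⟨x, ⟨hx, show π x ∈ W.map Pb.subtype from ⟨w, hw, hxw.symm⟩⟩, hxw⟩
    have hcardup : ∀ W, Nat.card ((up W).map N.subtype) = Nat.card W := by
      intro W
      rw [Subgroup.card_map_of_injective N.subtype_injective]
      have hinj : Function.Injective (π.subgroupMap (up W)) := by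
        rw [injective_iff_map_eq_one]
        exact fun x hx => Subtype.ext (hker x x.2.1 (congrArg Subtype.val hx))
      rw [Nat.card_eq_of_bijective _ ⟨hinj, π.subgroupMap_surjective _⟩, hup,
        Subgroup.card_map_of_injective Pb.subtype_injective]
    have hupP : ∀ W, (up W).map N.subtype ≤ P := by
      rintro W _ ⟨x, hx, rfl⟩
      exact hx.1
    obtain ⟨m, hm⟩ := hfus _ _ (hupP K) (hupP L) (by rw [hcardup, hcardup, hKL])
    obtain ⟨⟨v, h⟩, hvh⟩ := hH.2 (π m)
    refine ⟨h, Subgroup.map_injective Pb.subtype_injective ?_⟩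
    have hm' : (up K).map (MulAut.conj m).toMonoidHom = up L := by
      apply Subgroup.map_injective N.subtype_injective
      rw [← hm, Subgroup.map_map, Subgroup.map_map]
      rfl
    rw [← hup L, ← hm']
    have hcm : π.comp (MulAut.conj m).toMonoidHom = (MulAut.conj (π m)).toMonoidHom.comp π := by
      ext x; simp
    conv_rhs => rw [Subgroup.map_map, hcm, ← Subgroup.map_map, hup K, Subgroup.map_map]
    rw [Subgroup.map_map]
    congr 1
    refine MonoidHom.ext fun w => ?_
    show ((ψ h w : Pb) : ↥N ⧸ Cfsg.pPrimeCore p ↥N) = π m * w * (π m)⁻¹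
    rw [hψv, ← hvh]
    show _ = (v : ↥N ⧸ Cfsg.pPrimeCore p ↥N) * h * w * ((v : ↥N ⧸ Cfsg.pPrimeCore p ↥N) * h)⁻¹
    have h1 := congrArg Subtype.val (hPbc v (ψ h w))
    rw [Subgroup.coe_mul, Subgroup.coe_mul, hψv] at h1
    rw [mul_inv_rev]
    calc (h : ↥N ⧸ Cfsg.pPrimeCore p ↥N) * w * (h : ↥N ⧸ Cfsg.pPrimeCore p ↥N)⁻¹
        = ((h : ↥N ⧸ Cfsg.pPrimeCore p ↥N) * w * (h : ↥N ⧸ Cfsg.pPrimeCore p ↥N)⁻¹ * v) * (v : ↥N ⧸ Cfsg.pPrimeCore p ↥N)⁻¹ := by group
      _ = _ := by rw [← h1]; group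
  obtain ⟨e, hsemi, hcases⟩ := CfsgLib.FGS73.semilinear_of_transitive hn hPbexp hPbcard hHsol hHcop ψ hψ
    (fun K L h1 h2 => htr K L (h1.trans h2.symm)) (fun K L h1 h2 => htr K L (h1.trans h2.symm))
  -- the action on the cosets of the complement
  have hbij : Function.Bijective (fun v : Pb => (QuotientGroup.mk (v : ↥N ⧸ Cfsg.pPrimeCore p ↥N) : (↥N ⧸ Cfsg.pPrimeCore p ↥N) ⧸ H)) := by
    constructor
    · intro v w hvw
      rw [QuotientGroup.eq] at hvw
      have := Subgroup.disjoint_def.1 hH.disjoint (mul_mem (inv_mem v.2) w.2) hvw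
      exact Subtype.ext (inv_mul_eq_one.1 this)
    · intro c
      obtain ⟨q, rfl⟩ := QuotientGroup.mk_surjective c
      obtain ⟨⟨v, h⟩, rfl⟩ := hH.2 q
      exact ⟨v, by rw [QuotientGroup.eq]; simp⟩
  let Θ : (↥N ⧸ Cfsg.pPrimeCore p ↥N) ⧸ H ≃ GaloisField p n :=
    ((Equiv.ofBijective _ hbij).symm.trans Additive.ofMul).trans e.toEquiv
  let f : ↥N ⧸ Cfsg.pPrimeCore p ↥N →* Equiv.Perm (GaloisField p n) :=
    (Equiv.permCongrHom Θ).toMonoidHom.comp (MulAction.toPermHom _ _)
  have hΘ : ∀ v : Pb, Θ (QuotientGroup.mk (v : ↥N ⧸ Cfsg.pPrimeCore p ↥N)) = e (Additive.ofMul v) := by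
    intro v
    show e (Additive.ofMul ((Equiv.ofBijective _ hbij).symm _)) = _
    rw [Equiv.ofBijective_symm_apply_apply]
  have hfap : ∀ (x : Pb) (h : H) (v : Pb), f (x * h) (e (Additive.ofMul v)) =
      e (Additive.ofMul x) + e (Additive.ofMul (ψ h v)) := by
    intro x h v
    show Θ (((x : ↥N ⧸ Cfsg.pPrimeCore p ↥N) * h) • Θ.symm (e (Additive.ofMul v))) = _
    rw [← hΘ v, Equiv.symm_apply_apply]
    show Θ (QuotientGroup.mk ((x : ↥N ⧸ Cfsg.pPrimeCore p ↥N) * h * v)) = _
    rw [show (QuotientGroup.mk ((x : ↥N ⧸ Cfsg.pPrimeCore p ↥N) * h * v) : (↥N ⧸ Cfsg.pPrimeCore p ↥N) ⧸ H) =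
      QuotientGroup.mk (((x * ψ h v : Pb)) : ↥N ⧸ Cfsg.pPrimeCore p ↥N) by
        rw [QuotientGroup.eq, Subgroup.coe_mul, hψv]
        simp [mul_assoc],
      hΘ, ofMul_mul, map_add]
  have hfmem : ∀ q, ∃ (h : H) (a : GaloisField p n) (σ : GaloisField p n ≃+* GaloisField p n) (b : GaloisField p n),
      a ≠ 0 ∧ (∀ v : Pb, e (Additive.ofMul (ψ h v)) = a * σ (e (Additive.ofMul v))) ∧ ∀ y, f q y = a * σ y + b := by
    intro q
    obtain ⟨⟨x, h⟩, rfl⟩ := hH.2 q
    obtain ⟨a, σ, hσ⟩ := hsemi h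
    have hval : ∀ y, f (x * h) y = a * σ y + e (Additive.ofMul x) := by
      intro y
      obtain ⟨v, rfl⟩ : ∃ v : Pb, e (Additive.ofMul v) = y := ⟨(e.symm y).toMul, by simp⟩
      rw [hfap, hσ, add_comm]
    refine ⟨h, a, σ, _, fun h0 => ?_, hσ, hval⟩
    have h1 := (f (x * h)).injective.ne (zero_ne_one (α := GaloisField p n))
    rw [hval, hval, h0, zero_mul, zero_mul] at h1
    exact h1 rfl
  have hfinj : Function.Injective f := by
    rw [injective_iff_map_eq_one]
    intro q hq
    obtain ⟨⟨x, h⟩, rfl⟩ := hH.2 q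
    simp only at hq ⊢
    have hx : x = 1 := by
      have h1 := hfap x h 1
      rw [hq, Equiv.Perm.one_apply, map_one (ψ h), ofMul_one, map_zero, add_zero] at h1
      simpa using e.injective (h1.symm.trans (map_zero e).symm)
    subst hx
    have h1 : h = 1 := hψ (by
      rw [map_one]
      refine MulEquiv.ext fun v => ?_
      have h2 := hfap 1 h v
      rw [hq, Equiv.Perm.one_apply, ofMul_one, map_zero, zero_add] at h2
      exact Additive.ofMul.injective (e.injective h2.symm))
    subst h1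
    simp
  have hfsemi : ∀ q, f q ∈ Cfsg.semiaffineGroup (GaloisField p n) := by
    intro q
    obtain ⟨h, a, σ, b, ha, -, hy⟩ := hfmem q
    exact ⟨Units.mk0 a ha, b, σ, hy⟩
  let f' := f.codRestrict _ hfsemi
  have hf' : Function.Injective f' := fun x y h => hfinj (congrArg Subtype.val h)
  have hQcard : Nat.card (↥N ⧸ Cfsg.pPrimeCore p ↥N) = p ^ n * Nat.card H := by
    rw [← hH.card_mul_card, hPbcard]
  haveI : Fintype (GaloisField p n) := Fintype.ofFinite _
  have hE : Nat.card (GaloisField p n) = p ^ n := GaloisField.card p n (by omega)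
  obtain ⟨hcyc, hAut⟩ := CfsgLib.Semilinear.isCyclic_ringEquiv_and_card (F := GaloisField p n) (q := p) (d := n)
    (by rw [← Nat.card_eq_fintype_card, hE])
  haveI : Finite (GaloisField p n ≃+* GaloisField p n) := Finite.of_injective _ DFunLike.coe_injective
  have hEu : Nat.card (GaloisField p n)ˣ = p ^ n - 1 := by rw [Nat.card_units, hE]
  have hle := card_semiaffine_le (GaloisField p n)
  rw [hEu, hE, hAut] at hle
  have hQle := Nat.card_le_card_of_injective f' hf'
  rcases hcases with ⟨rfl, h7⟩ | ⟨rfl, rfl, h155⟩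
  · refine Or.inl ⟨rfl, ⟨f', hf'⟩, ?_⟩
    rintro rfl
    have h7' := h7 rfl
    norm_num at hQcard
    replace hle := hle.trans_eq (show (2 ^ 3 - 1) * 2 ^ 3 * 3 = 168 by norm_num)
    by_cases hbig : 21 ≤ Nat.card H
    · exact Or.inl ⟨MulEquiv.ofBijective f' (hf'.bijective_of_nat_card_le (by omega))⟩
    · right
      have hH7 : Nat.card H = 7 := by
        obtain ⟨k, hk⟩ := h7'
        have hk2 : k ≠ 2 := fun h => hHcop ⟨7, by omega⟩
        have := Nat.card_pos (α := H)
        omega
      have hfaff : ∀ q, f q ∈ Cfsg.affineGroup (GaloisField 2 3) := by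
        intro q
        obtain ⟨h, a, σ, b, ha, hh, hy⟩ := hfmem q
        refine ⟨Units.mk0 a ha, b, fun y => ?_⟩
        obtain ⟨c, hc⟩ := CfsgLib.FGS73.semilinear_iterate (fun h v => ψ h v) (fun v => e (Additive.ofMul v))
          (fun v => by simp) (fun g k v => by simp) hh 7
        rw [← hH7, pow_card_eq_one', hH7] at hc
        have h1 : ∀ z : GaloisField 2 3, z = c * (σ ^ 7) z := fun z => by
          have := hc (e.symm z).toMul
          simpa using this
        have hc1 : c = 1 := by have := h1 1; rw [map_one, mul_one] at this; exact this.symm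
        have hσ7 : σ ^ 7 = 1 := RingEquiv.ext fun z => by
          have := h1 z; rw [hc1, one_mul] at this; exact this.symm
        have hσ1 : σ = 1 := by
          have := pow_gcd_eq_one.2 (⟨hσ7, orderOf_dvd_iff_pow_eq_one.1 ((orderOf_dvd_natCard _).trans hAut.dvd)⟩ :
            σ ^ 7 = 1 ∧ σ ^ 3 = 1)
          simpa using this
        rw [hy, hσ1]
        rfl
      let f2 := f.codRestrict _ hfaff
      have hf2 : Function.Injective f2 := fun x y h => hfinj (congrArg Subtype.val h)
      have hle2 := card_affine_le (GaloisField 2 3)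
      rw [hEu, hE] at hle2
      replace hle2 := hle2.trans_eq (show (2 ^ 3 - 1) * 2 ^ 3 = 56 by norm_num)
      exact ⟨MulEquiv.ofBijective f2 (hf2.bijective_of_nat_card_le (by omega))⟩
  · refine Or.inr ⟨rfl, rfl, ⟨MulEquiv.ofBijective f' (hf'.bijective_of_nat_card_le ?_)⟩⟩
    norm_num at hQcard
    replace hle := hle.trans_eq (show (2 ^ 5 - 1) * 2 ^ 5 * 5 = 4960 by norm_num)
    omega

end Cfsg.Agent.S4025
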