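import Cfsg.Statements.S3736
import Cfsg.Agent.Lib.Solvable.CoprimeAction
import Cfsg.Agent.Lib.Transfer.PGroup
import Cfsg.Agent.Lib.FGS68.Basic
import Cfsg.Agent.Lib.PGroup.Basic
import Cfsg.Agent.Lib.PGroup.PowerMap
import Mathlib

set_option autoImplicit false
open Cfsg
open scoped commutatorElement

namespace Cfsg.Agent.S3736

/-- If `[P, A] = P` for a coprime action then fixed points lie in every invariant normal
subgroup with abelian quotient. -/
theorem fixed_le {X : Type*} [Group X] [Finite X] {p : ℕ} {A P : Subgroup X} (hP : IsPGroup p P)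
    (hAP : A ≤ Subgroup.normalizer (P : Set X)) (hAp : (Nat.card A).Coprime p) (hPA : ⁅P, A⁆ = P)
    (N : Subgroup P) (hN : commutator ↥P ≤ N)
    (hinv : ∀ a ∈ A, ∀ x : P, x ∈ N → ∀ h : a * (x : X) * a⁻¹ ∈ P, (⟨_, h⟩ : P) ∈ N) :
    (P ⊓ Subgroup.centralizer (A : Set X)).subgroupOf P ≤ N := by
  classical
  haveI := Fintype.ofFinite A
  haveI : N.Normal := Subgroup.Normal.of_commutator_le _ hN
  letI : CommGroup (P ⧸ N) :=
    { (inferInstance : Group (P ⧸ N)) with
      mul_comm := fun a b => by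
        induction a using QuotientGroup.induction_on with | _ u => ?_
        induction b using QuotientGroup.induction_on with | _ v => ?_
        rw [← QuotientGroup.mk_mul, ← QuotientGroup.mk_mul, QuotientGroup.eq]
        have : (u * v)⁻¹ * (v * u) = ⁅v⁻¹, u⁻¹⁆ := by simp [commutatorElement_def, mul_assoc]
        rw [this]
        exact hN (Subgroup.commutator_mem_commutator (Subgroup.mem_top _) (Subgroup.mem_top _)) }
  let c : A → P → P := fun a x =>
    ⟨(a : X) * x * (a : X)⁻¹, (Subgroup.mem_normalizer_iff.1 (hAP a.2) x).1 x.2⟩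
  let τ : P →* P ⧸ N :=
    { toFun := fun x => ∏ a : A, QuotientGroup.mk (c a x)
      map_one' := Finset.prod_eq_one fun a _ => by
        rw [show c a 1 = 1 from Subtype.ext (by simp [c])]; rfl
      map_mul' := fun x y => by
        rw [← Finset.prod_mul_distrib]
        refine Finset.prod_congr rfl fun a _ => ?_
        rw [← QuotientGroup.mk_mul]
        congr 1
        exact Subtype.ext (by simp [c, mul_assoc]) }
  have hτ : ∀ (a : A) (x : P), τ (c a x) = τ x := fun a x => by
    show ∏ b : A, (QuotientGroup.mk (c b (c a x)) : P ⧸ N) = ∏ b : A, QuotientGroup.mk (c b x)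
    refine Fintype.prod_equiv (Equiv.mulRight a) _ _ fun b => ?_
    congr 1
    exact Subtype.ext (by simp [c, mul_assoc])
  have htriv : ∀ x, τ x = 1 := by
    have hle : P ≤ τ.ker.map P.subtype := by
      conv_lhs => rw [← hPA]
      rw [Subgroup.commutator_le]
      intro x hx a ha
      refine ⟨⟨x, hx⟩ * c ⟨a, ha⟩ (⟨x, hx⟩ : P)⁻¹, ?_, by simp [c, commutatorElement_def, mul_assoc]⟩
      rw [SetLike.mem_coe, MonoidHom.mem_ker, map_mul, hτ, map_inv, mul_inv_cancel]
    intro x
    obtain ⟨y, hy, hyx⟩ := hle x.2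
    obtain rfl := P.subtype_injective hyx
    exact hy
  intro d hd
  have hd1 : τ d = (QuotientGroup.mk d : P ⧸ N) ^ Nat.card A := by
    rw [Nat.card_eq_fintype_card, ← Finset.card_univ, ← Finset.prod_const]
    show ∏ a : A, (QuotientGroup.mk (c a d) : P ⧸ N) = _
    refine Finset.prod_congr rfl fun a _ => ?_
    congr 1
    apply Subtype.ext
    show (a : X) * d * (a : X)⁻¹ = d
    have hd' : (a : X) * (d : X) = (d : X) * a := Subgroup.mem_centralizer_iff.1 hd.2 a a.2
    rw [hd', mul_inv_cancel_right]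
  rw [htriv] at hd1
  obtain ⟨k, hk⟩ := hP d
  have h1 : orderOf (QuotientGroup.mk d : P ⧸ N) = 1 :=
    Nat.eq_one_of_dvd_coprimes (hAp.symm.pow_left k)
      (orderOf_dvd_of_pow_eq_one (by rw [← QuotientGroup.mk_pow, hk]; rfl)) (orderOf_dvd_of_pow_eq_one hd1.symm)
  exact (QuotientGroup.eq_one_iff d).1 (orderOf_eq_one_iff.1 h1)


/-- The Hall–Higman reduction for a minimal non-trivial action. Let B, A and P be subgroups of a finite group with P a p-group, B normalizing P, and A a normal subgroup of B of order prime to p. Suppose A does not centralize P but centralizes every proper B-invariant subgroup of P. Then [P, A] = P; P is elementary abelian or special; B acts irreducibly on P/Φ(P), that is, the only B-invariant subgroups of P containing Φ(P) are Φ(P) and P; and if p is odd then every element of P has order dividing p. -/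
theorem result {X : Type*} [Group X] [Finite X] {p : ℕ} [Fact p.Prime] (B A P : Subgroup X) (hP : IsPGroup p P) (hBP : B ≤ Subgroup.normalizer (P : Set X)) (hAB : A ≤ B) (hAn : B ≤ Subgroup.normalizer (A : Set X)) (hAp : (Nat.card A).Coprime p) (hnt : ⁅P, A⁆ ≠ ⊥) (hmin : ∀ U : Subgroup X, U < P → B ≤ Subgroup.normalizer (U : Set X) → ⁅U, A⁆ = ⊥) : ⁅P, A⁆ = P ∧ (Cfsg.IsElementaryAbelian p P ∨ Cfsg.IsSpecial p ↥P) ∧ (∀ U : Subgroup X, (frattini ↥P).map P.subtype ≤ U → U ≤ P → B ≤ Subgroup.normalizer (U : Set X) → U = (frattini ↥P).map P.subtype ∨ U = P) ∧ (p ≠ 2 → ∀ x ∈ P, x ^ p = 1) := by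
  have hpp : p.Prime := Fact.out
  have hAP : A ≤ Subgroup.normalizer (P : Set X) := hAB.trans hBP
  haveI : Group.IsNilpotent P := hP.isNilpotent
  obtain ⟨e, he⟩ := hP.exists_card_eq
  have hcop : (Nat.card A).Coprime (Nat.card P) := by rw [he]; exact hAp.pow_right e
  have hsolv : Group.IsSolvable A ∨ Group.IsSolvable P := Or.inr inferInstance
  have hBcomm : B ≤ Subgroup.normalizer ((⁅P, A⁆ : Subgroup X) : Set X) := by
    intro b hb
    refine Subgroup.mem_normalizer_iff_map_conj_eq.2 ?_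
    have h1 := Subgroup.mem_normalizer_iff_map_conj_eq.1 (hBP hb)
    have h2 := Subgroup.mem_normalizer_iff_map_conj_eq.1 (hAn hb)
    rw [Subgroup.map_commutator]
    exact congrArg₂ (fun U V : Subgroup X => ⁅U, V⁆) h1 h2
  -- first conclusion
  have hPA : ⁅P, A⁆ = P := by
    rcases (CfsgLib.Solvable.commutator_le_of_normalizes hAP).eq_or_lt with h | h
    · exact h
    · have h2 := hmin _ h hBcomm
      rw [CfsgLib.Solvable.commutator_commutator_eq hAP hcop hsolv] at h2
      exact absurd h2 hnt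
  have hPne : P ≠ ⊥ := by
    rintro rfl
    exact hnt (Subgroup.commutator_bot_left A)
  haveI : Nontrivial P := (Subgroup.nontrivial_iff_ne_bot P).2 hPne
  set Φ := (frattini ↥P).map P.subtype with hΦdef
  have hΦP : Φ < P := by
    refine lt_of_le_of_ne (Subgroup.map_subtype_le _) fun h => ?_
    obtain ⟨x, -, hx⟩ := SetLike.exists_of_lt (lt_top_iff_ne_top.2
      (CfsgLib.PGroup.frattini_ne_top (G := P)))
    obtain ⟨y, hy, hyx⟩ := h.ge x.2
    exact hx (P.subtype_injective hyx ▸ hy)
  have hΦB : B ≤ Subgroup.normalizer (Φ : Set X) :=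
    hBP.trans (CfsgLib.FGS68.normalizer_le_map_of_char P (frattini ↥P))
  have hΦA : ⁅Φ, A⁆ = ⊥ := hmin _ hΦP hΦB
  have hPΦ : ⁅P, Φ⁆ ≤ Φ := by
    rw [Subgroup.commutator_comm]
    refine CfsgLib.Solvable.commutator_le_of_normalizes ?_
    exact Subgroup.le_normalizer.trans (CfsgLib.FGS68.normalizer_le_map_of_char P (frattini ↥P))
  have hΦcen : ⁅P, Φ⁆ = ⊥ := by
    have h : ⁅⁅P, A⁆, Φ⁆ = ⊥ := by
      refine Subgroup.commutator_commutator_eq_bot_of_rotate ?_ ?_
      · rw [Subgroup.commutator_comm A Φ, hΦA, Subgroup.commutator_bot_left]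
      · rw [eq_bot_iff, ← hΦA]
        exact Subgroup.commutator_mono (by rw [Subgroup.commutator_comm]; exact hPΦ) le_rfl
    rwa [hPA] at h
  have hΦz : ∀ x ∈ P, ∀ y ∈ Φ, x * y = y * x := fun x hx y hy =>
    commutatorElement_eq_one_iff_mul_comm.1 (Subgroup.mem_bot.1 (hΦcen ▸ Subgroup.commutator_mem_commutator hx hy))
  -- the fixed points lie in the derived group
  set D := (P ⊓ Subgroup.centralizer (A : Set X)).subgroupOf P
  have hDle : D ≤ commutator ↥P := fixed_le hP hAP hAp hPA (commutator ↥P) le_rfl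
    (fun a ha x hx hm => ?_)
  swap
  · have h1 := Subgroup.mem_normalizer_iff.1
      (CfsgLib.FGS68.normalizer_le_map_of_char P (commutator ↥P) (hAP ha)) (x : X)
    obtain ⟨y, hy, hyx⟩ := h1.1 ⟨x, hx, rfl⟩
    rw [show (⟨_, hm⟩ : P) = y from Subtype.ext hyx.symm]
    exact hy
  have hΦD : frattini ↥P ≤ D := by
    intro x hx
    refine ⟨x.2, Subgroup.mem_centralizer_iff.2 fun a ha => ?_⟩
    exact (commutatorElement_eq_one_iff_mul_comm.1 (Subgroup.mem_bot.1
      (hΦA ▸ Subgroup.commutator_mem_commutator (show (x : X) ∈ Φ from ⟨x, hx, rfl⟩) ha))).symm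
  have hPnil := hP.isNilpotent
  have hcΦ : commutator ↥P ≤ frattini ↥P := CfsgLib.Transfer.commutator_le_frattini
  have hΦeq : frattini ↥P = commutator ↥P := le_antisymm (hΦD.trans hDle) hcΦ
  have hΦZ : frattini ↥P ≤ Subgroup.center ↥P := fun x hx => Subgroup.mem_center_iff.2 fun y =>
    Subtype.ext (hΦz y y.2 x ⟨x, hx, rfl⟩)
  refine ⟨hPA, ?_, fun U hUΦ hUP hBU => ?_, fun hp2 => ?_⟩
  · by_cases hab : ∀ x y : P, x * y = y * x
    · left
      have hc : commutator ↥P = ⊥ := by
        rw [commutator_def, Subgroup.commutator_eq_bot_iff_le_centralizer]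
        exact fun x _ => Subgroup.mem_centralizer_iff.2 fun y _ => hab y x
      refine ⟨⟨⟨hab⟩⟩, fun x hx => ?_⟩
      have h1 : (⟨x, hx⟩ : P) ^ p ∈ frattini ↥P := CfsgLib.Transfer.pow_mem_frattini hP ⟨x, hx⟩
      rw [hΦeq, hc, Subgroup.mem_bot] at h1
      exact congrArg Subtype.val h1
    · right
      have hZ : Subgroup.center ↥P ≤ frattini ↥P := by
        set Z := (Subgroup.center ↥P).map P.subtype
        have hZP : Z < P := lt_of_le_of_ne (Subgroup.map_subtype_le _) fun h => hab fun x y => by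
          obtain ⟨z, hz, hzy⟩ := h.ge y.2
          obtain rfl := P.subtype_injective hzy
          exact Subgroup.mem_center_iff.1 hz x
        have hZA := hmin _ hZP (hBP.trans (CfsgLib.FGS68.normalizer_le_map_of_char P (Subgroup.center ↥P)))
        intro x hx
        refine hcΦ (hDle ⟨x.2, Subgroup.mem_centralizer_iff.2 fun a ha => ?_⟩)
        exact (commutatorElement_eq_one_iff_mul_comm.1 (Subgroup.mem_bot.1
          (hZA ▸ Subgroup.commutator_mem_commutator (show (x : X) ∈ Z from ⟨x, hx, rfl⟩) ha))).symm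
      exact ⟨hP, le_antisymm hΦZ hZ, hΦeq.symm.trans (le_antisymm hΦZ hZ)⟩
  · rcases hUP.eq_or_lt with h | h
    · exact Or.inr h
    · refine Or.inl (le_antisymm ?_ hUΦ)
      have hUA := hmin U h hBU
      intro x hx
      refine ⟨⟨x, hUP hx⟩, hcΦ (hDle ⟨hUP hx, Subgroup.mem_centralizer_iff.2 fun a ha => ?_⟩), rfl⟩
      exact (commutatorElement_eq_one_iff_mul_comm.1 (Subgroup.mem_bot.1
        (hUA ▸ Subgroup.commutator_mem_commutator hx ha))).symm
  · have hcen : ∀ u v : P, ⁅u, v⁆ ∈ Subgroup.center ↥P := fun u v =>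
      hΦZ (hcΦ (CfsgLib.PGroup.commutatorElement_mem_commutator' u v))
    have hcp : ∀ u v : P, ⁅u, v⁆ ^ p = 1 := fun u v => by
      have h1 : Commute u ⁅u, v⁆ := Subgroup.mem_center_iff.1 (hcen u v) u
      rw [← CfsgLib.PGroup.commutator_pow_left u v h1, commutatorElement_eq_one_iff_mul_comm]
      exact (Subgroup.mem_center_iff.1 (hΦZ (CfsgLib.Transfer.pow_mem_frattini hP u)) v).symm
    have hone : ∀ u w z : P, w ∈ Subgroup.center ↥P → z = ⁅u, w⁆ → z = 1 := fun u w z hw hz => by
      rw [hz, commutatorElement_eq_one_iff_mul_comm]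
      exact Subgroup.mem_center_iff.1 hw u
    have hmulp : ∀ u v : P, (u * v) ^ p = u ^ p * v ^ p := fun u v => by
      have e1 := hone u _ _ (hcen v u) rfl
      have e2 := hone v _ _ (hcen v u) rfl
      exact CfsgLib.PGroup.mul_pow_prime_eq hpp u v (by rw [e1]; exact one_mem _)
        (by rw [e2]; exact one_mem _) (hcp v u) (Or.inl ⟨hp2, e1, e2⟩)
    let h : ↥P →* ↥P := { toFun := fun x => x ^ p, map_one' := one_pow p, map_mul' := hmulp }
    suffices hle : ⁅P, A⁆ ≤ h.ker.map P.subtype by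
      intro x hx
      rw [hPA] at hle
      obtain ⟨y, hy, rfl⟩ := hle hx
      exact congrArg Subtype.val (hy : y ^ p = 1)
    rw [Subgroup.commutator_le]
    intro x hx a ha
    have hc : a * x⁻¹ * a⁻¹ ∈ P := (Subgroup.mem_normalizer_iff.1 (hAP ha) x⁻¹).1 (inv_mem hx)
    refine ⟨⟨x, hx⟩ * ⟨a * x⁻¹ * a⁻¹, hc⟩, ?_, by simp [commutatorElement_def, mul_assoc]⟩
    show (_ : P) ^ p = 1
    rw [hmulp]
    apply Subtype.ext
    show x ^ p * (a * x⁻¹ * a⁻¹) ^ p = 1
    have hfix : Commute a (x⁻¹ ^ p) := by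
      have h1 := CfsgLib.Transfer.pow_mem_frattini hP (⟨x⁻¹, inv_mem hx⟩ : P)
      exact Subgroup.mem_centralizer_iff.1 (hΦD h1).2 a ha
    rw [conj_pow, hfix.eq, mul_inv_cancel_right, ← (Commute.inv_right (Commute.refl x)).mul_pow,
      mul_inv_cancel, one_pow]

end Cfsg.Agent.S3736
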