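import Cfsg.Statements.S0197
import Cfsg.Agent.Lib.GL23.Exceptional

set_option autoImplicit false
open Cfsg

namespace Cfsg.Agent.S0197

/-- If a finite simple group has an involution whose centralizer is isomorphic to the general linear group GL(2, 3), then the group has order 5616 or 7920. -/
theorem result {G : Type*} [Group G] [Finite G] [IsSimpleGroup G] (t : G) (ht : orderOf t = 2) (e : Subgroup.centralizer ({t} : Set G) ≃* Matrix.GeneralLinearGroup (Fin 2) (ZMod 3)) : Nat.card G = 5616 ∨ Nat.card G = 7920 := by
  cases nonempty_fintype G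
  obtain ⟨E, -⟩ := CfsgLib.GL23.exists_emb ht e
  refine E.card_eq ?_
  refine ((inferInstance : (commutator G).Normal).eq_bot_or_eq_top).resolve_left fun h => ?_
  have hc := (commutator_eq_bot_iff G).mp h
  -- in a commutative group the centraliser would be commutative
  have key : ∀ a b : CfsgLib.GL23.M, a * b = b * a := fun a b => E.inj (by
    rw [map_mul, map_mul]
    exact hc.is_comm.comm _ _)
  have h2 : ∀ a ∈ CfsgLib.GL23.codeList, ∀ b ∈ CfsgLib.GL23.codeList,
      CfsgLib.GL23.mulC a b = CfsgLib.GL23.mulC b a := by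
    intro a ha b hb
    rw [← CfsgLib.GL23.elemList_map_code, List.mem_map] at ha hb
    obtain ⟨x, -, rfl⟩ := ha
    obtain ⟨z, -, rfl⟩ := hb
    rw [← CfsgLib.GL23.code_mul, ← CfsgLib.GL23.code_mul, key]
  revert h2
  decide +kernel

end Cfsg.Agent.S0197
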