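import Cfsg.Statements.S0493
import Cfsg.Agent.Lib.SmallOrder.Basic
import Cfsg.Agent.Lib.Char.Burnside
import Mathlib.Tactic.NormNum.Prime

set_option autoImplicit false
open Cfsg

namespace Cfsg.Agent.S0493

def primesBelow100 : List ℕ :=
  [2, 3, 5, 7, 11, 13, 17, 19, 23, 29, 31, 37, 41, 43, 47, 53, 59, 61, 67, 71, 73, 79, 83, 89, 97]

theorem cases_le_100 : ∀ n : Fin 101, n.val = 0 ∨ n.val = 60 ∨ n.val = 84 ∨ n.val % 4 = 2 ∨
    primesBelow100.any (fun p => primesBelow100.any fun q => p ^ 7 * q ^ 7 % n.val == 0) = true := by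
  decide +kernel

theorem prime_of_mem {p : ℕ} (hp : p ∈ primesBelow100) : p.Prime := by
  fin_cases hp <;> norm_num

/-- A finite simple group of order at most 100 that is not cyclic has order 60. -/
theorem result {G : Type*} [Group G] [Finite G] [IsSimpleGroup G]
    (hG : ¬ IsCyclic G) (h : Nat.card G ≤ 100) : Nat.card G = 60 := by
  have hnp : ¬ (Nat.card G).Prime := fun hp => hG (haveI := Fact.mk hp; isCyclic_of_prime_card rfl)
  have hnc := CfsgLib.SmallOrder.not_comm_of_not_prime hnp
  have hns : ¬ Group.IsSolvable G := fun hs =>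
    hnc ⟨⟨IsSimpleGroup.comm_iff_isSolvable.2 hs⟩⟩
  have hpos : 0 < Nat.card G := Nat.card_pos
  rcases cases_le_100 ⟨Nat.card G, by omega⟩ with h0 | h0 | h0 | h0 | h0
  · simp only at h0
    omega
  · exact h0
  · -- order 84: a single Sylow 7-subgroup
    exfalso
    haveI := Fact.mk (show Nat.Prime 7 by norm_num)
    obtain ⟨h1, h2, h3, -⟩ := CfsgLib.SmallOrder.card_sylow_facts (p := 7) (e := 1) (m := 12)
      (G := G) (by simpa using h0) (by norm_num) one_pos (by norm_num)
    have hle := Nat.le_of_dvd (by norm_num) h1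
    interval_cases hc : Nat.card (Sylow 7 G) <;> omega
  · -- twice an odd number
    exfalso
    haveI := Fact.mk Nat.prime_two
    simp only at h0
    have hm : Nat.card G = 2 * (Nat.card G / 2) := by omega
    have hm1 : 1 < Nat.card G / 2 := by
      by_contra hcon
      have : Nat.card G = 2 := by omega
      exact hnp (this ▸ Nat.prime_two)
    obtain ⟨h1, -, -, -⟩ := CfsgLib.SmallOrder.card_sylow_facts (p := 2) (e := 1)
      (m := Nat.card G / 2) (G := G) (by rw [pow_one]; exact hm) (by omega) one_pos hm1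
    obtain ⟨k, hk⟩ := h1
    exact CfsgLib.SmallOrder.not_coprime_of_prime_order (p := 2) hm (by omega) hm1
      (k := k) (by rw [hk, mul_comm]) (by simp)
  · exfalso
    obtain ⟨p, hp, h0⟩ := List.any_eq_true.1 h0
    obtain ⟨q, hq, h0⟩ := List.any_eq_true.1 h0
    rw [beq_iff_eq] at h0
    have hdvd : Nat.card G ∣ p ^ 7 * q ^ 7 := Nat.dvd_of_mod_eq_zero h0
    refine hns (CfsgLib.Char.isSolvable_of_two_primes p q (prime_of_mem hp) (prime_of_mem hq) _ G rfl
      fun r hr hdr => ?_)
    rcases hr.dvd_mul.1 (hdr.trans hdvd) with h | h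
    · exact Or.inl ((Nat.prime_dvd_prime_iff_eq hr (prime_of_mem hp)).1 (hr.dvd_of_dvd_pow h))
    · exact Or.inr ((Nat.prime_dvd_prime_iff_eq hr (prime_of_mem hq)).1 (hr.dvd_of_dvd_pow h))

end Cfsg.Agent.S0493
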