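import Cfsg.Statements.S1327
import Cfsg.Agent.Lib.Components.PLayer
import Cfsg.Agent.Lib.PLocal.Constrained

set_option autoImplicit false
open Cfsg

namespace Cfsg.Agent.S1327

/-- A finite group X is p-constrained if and only if its p-layer L_{p'}(X) is trivial (equivalently X / O_{p'}(X) has trivial layer). -/
theorem result {X : Type*} [Group X] [Finite X] (p : ℕ) [Fact p.Prime] : Cfsg.IsPConstrained p X ↔ Cfsg.pLayer p X = ⊥ := by
  rw [CfsgLib.PLoc.isPConstrained_iff, CfsgLib.Components.pLayer_eq_bot_iff,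
    ← CfsgLib.Components.genFitting_eq_pCore_iff p,
    CfsgLib.Components.genFitting_eq_pCore_iff_criterion p]
  refine ⟨fun h => h.1, fun h => ⟨h, fun q hq hne => ?_⟩⟩
  haveI := Fact.mk hq
  obtain ⟨k, hk⟩ := CfsgLib.Solvable.card_pCore (p := q) (G := X ⧸ Cfsg.pPrimeCore p X)
  exact le_bot_iff.mp ((CfsgLib.Solvable.le_pPrimeCore (CfsgLib.Solvable.pCore_normal q _)
    (by rw [hk]; exact ((Nat.coprime_primes hq Fact.out).2 hne).pow_left k)).trans
    CfsgLib.Components.pPrimeCore_quotient_self.le)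

end Cfsg.Agent.S1327
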