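import Cfsg.Statements.S4738
import Cfsg.Agent.S4742
import Cfsg.Agent.Lib.Blk83.InvertSylow
import Cfsg.Agent.Lib.Char.Linear

set_option autoImplicit false
open Cfsg

namespace Cfsg.Agent.S4738

/-- Let p be an odd prime and G a finite group of even order containing no element of order 2p. Then either G has an irreducible character of p-defect zero (its degree has the same p-part as the order of G), or every Sylow p-subgroup of G is abelian and all involutions of G are conjugate. -/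
theorem result {G : Type*} [Group G] [Finite G] (p : ℕ) [Fact p.Prime] (hp2 : p ≠ 2) (hG : Even (Nat.card G)) (h2p : ∀ g : G, orderOf g ≠ 2 * p) : (∃ χ : Cfsg.IrrCharacter G, (Cfsg.charDegree (χ : G → ℂ)).factorization p = (Nat.card G).factorization p) ∨ ((∀ P : Sylow p G, IsMulCommutative ↥(P : Subgroup G)) ∧ ∀ s t : G, orderOf s = 2 → orderOf t = 2 → IsConj s t) := by
  classical
  have hp : p.Prime := Fact.out
  have h2G : 2 ∣ Nat.card G := even_iff_two_dvd.mp hG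
  by_cases hpG : p ∣ Nat.card G
  swap
  · refine Or.inl ⟨CfsgLib.Char.principalIrr, ?_⟩
    rw [Nat.factorization_eq_zero_of_not_dvd hpG]
    exact Nat.factorization_eq_zero_of_not_dvd fun h =>
      hpG (h.trans (CfsgLib.Blk83.deg_dvd CfsgLib.Char.principalIrr))
  have hC : ∀ g : G, g ≠ 1 → (∃ k : ℕ, orderOf g = p ^ k) →
      ¬ 2 ∣ Nat.card ↥(Subgroup.centralizer ({g} : Set G)) := by
    intro g hg ⟨k, hk⟩ hdvd
    obtain ⟨⟨z, hz⟩, hzo⟩ := exists_prime_orderOf_dvd_card' 2 hdvd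
    rw [← Subgroup.orderOf_coe] at hzo
    simp only at hzo
    have hk0 : k ≠ 0 := fun h => hg (orderOf_eq_one_iff.mp (by rw [hk, h, pow_zero]))
    obtain ⟨j, rfl⟩ : ∃ j, k = j + 1 := ⟨k - 1, by omega⟩
    have hw : orderOf (g ^ p ^ j) = p := by
      rw [orderOf_pow_of_dvd (pow_ne_zero _ hp.ne_zero) (hk ▸ pow_dvd_pow p (Nat.le_succ j)), hk,
        pow_succ, Nat.mul_div_cancel_left _ (pow_pos hp.pos _)]
    have hcomm : Commute z (g ^ p ^ j) :=
      Commute.pow_right (Subgroup.mem_centralizer_singleton_iff.mp hz) _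
    refine h2p (z * g ^ p ^ j) ?_
    rw [hcomm.orderOf_mul_eq_mul_orderOf_of_coprime, hzo, hw]
    rw [hzo, hw]
    exact (Nat.coprime_primes Nat.prime_two hp).mpr (Ne.symm hp2)
  have hCodd : ∀ g : G, g ≠ 1 → (∃ k : ℕ, orderOf g = p ^ k) →
      Odd (Nat.card ↥(Subgroup.centralizer ({g} : Set G))) :=
    fun g hg hk => Nat.odd_iff.mpr (Nat.two_dvd_ne_zero.mp (hC g hg hk))
  rcases Cfsg.Agent.S4742.result p 2 hp2 hpG h2G hC with h | H
  · exact Or.inl h
  -- every involution is conjugate to one inverting a Sylow subgroup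
  have key : ∀ z : G, orderOf z = 2 → ∃ (g : G) (T : Sylow p G),
      IsConj z g ∧ ∀ x ∈ (T : Subgroup G), g * x * g⁻¹ = x⁻¹ := by
    intro z hz
    obtain ⟨g, h, hgz, hhz, hne, k, hk⟩ := H z (fun h => by simp [h] at hz) ⟨1, by simpa using hz⟩
    have hord : ∀ w, IsConj z w → orderOf w = 2 := fun w hw => by
      obtain ⟨d, rfl⟩ := isConj_iff.mp hw
      rw [← hz]
      exact orderOf_injective (MulAut.conj d).toMonoidHom (MulAut.conj d).injective z
    have hgg : g * g = 1 := by simpa [pow_two, hord g hgz] using pow_orderOf_eq_one g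
    have hhh : h * h = 1 := by simpa [pow_two, hord h hhz] using pow_orderOf_eq_one h
    have hinv : g * (g * h⁻¹) * g⁻¹ = (g * h⁻¹)⁻¹ := by
      rw [inv_eq_of_mul_eq_one_right hgg, inv_eq_of_mul_eq_one_right hhh, mul_inv_rev,
        inv_eq_of_mul_eq_one_right hgg, inv_eq_of_mul_eq_one_right hhh, ← mul_assoc g g h, hgg,
        one_mul]
    obtain ⟨T, hT⟩ :=
      CfsgLib.InvertSylow.exists_sylow_inverted p hCodd g (hord g hgz) _ hne ⟨k, hk⟩ hinv
    exact ⟨g, T, hgz, hT⟩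
  -- move the Sylow subgroup
  have key2 : ∀ (P : Sylow p G) (z : G), orderOf z = 2 →
      ∃ g : G, IsConj z g ∧ ∀ x ∈ (P : Subgroup G), g * x * g⁻¹ = x⁻¹ := by
    intro P z hz
    obtain ⟨g, T, hgz, hT⟩ := key z hz
    obtain ⟨c, rfl⟩ := MulAction.exists_smul_eq G T P
    refine ⟨c * g * c⁻¹, hgz.trans (isConj_iff.mpr ⟨c, rfl⟩), fun x hx => ?_⟩
    obtain ⟨y, hy, rfl⟩ := Subgroup.mem_map.mp hx
    change c * g * c⁻¹ * (c * y * c⁻¹) * (c * g * c⁻¹)⁻¹ = (c * y * c⁻¹)⁻¹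
    calc c * g * c⁻¹ * (c * y * c⁻¹) * (c * g * c⁻¹)⁻¹ = c * (g * y * g⁻¹) * c⁻¹ := by group
      _ = c * y⁻¹ * c⁻¹ := by rw [hT y hy]
      _ = (c * y * c⁻¹)⁻¹ := by group
  refine Or.inr ⟨fun P => ?_, fun s t hs ht => ?_⟩
  · obtain ⟨z, hz⟩ := exists_prime_orderOf_dvd_card' 2 h2G
    obtain ⟨g, -, hg⟩ := key2 P z hz
    refine ⟨⟨fun a b => Subtype.ext ?_⟩⟩
    have h1 := hg _ (mul_mem a.2 b.2)
    have h2 : g * ((a : G) * b) * g⁻¹ = (a : G)⁻¹ * (b : G)⁻¹ := by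
      rw [← hg a a.2, ← hg b b.2]; group
    rw [h2, mul_inv_rev] at h1
    simpa using congrArg Inv.inv h1.symm
  obtain ⟨P⟩ := (inferInstance : Nonempty (Sylow p G))
  obtain ⟨x, hxP, hx1⟩ : ∃ x ∈ (P : Subgroup G), x ≠ 1 :=
    (Subgroup.ne_bot_iff_exists_ne_one.mp (P.ne_bot_of_dvd_card hpG)).elim fun x hx =>
      ⟨x, x.2, fun h => hx (Subtype.ext h)⟩
  obtain ⟨a, has, ha⟩ := key2 P s hs
  obtain ⟨b, hbt, hb⟩ := key2 P t ht
  refine has.trans (IsConj.trans ?_ hbt.symm)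
  have hord : ∀ z w : G, IsConj z w → orderOf z = 2 → w * w = 1 := fun z w hw hz => by
    obtain ⟨d, rfl⟩ := isConj_iff.mp hw
    rw [← pow_two, conj_pow, ← hz, pow_orderOf_eq_one, mul_one, mul_inv_cancel]
  have haa := hord s a has hs
  have hbb := hord t b hbt ht
  have hcC : a * b ∈ Subgroup.centralizer ({x} : Set G) := by
    rw [Subgroup.mem_centralizer_singleton_iff]
    have h1 : a * b * x * (a * b)⁻¹ = x := by
      calc a * b * x * (a * b)⁻¹ = a * (b * x * b⁻¹) * a⁻¹ := by group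
        _ = x := by rw [hb x hxP, ha _ (inv_mem hxP), inv_inv]
    exact mul_inv_eq_iff_eq_mul.mp h1
  obtain ⟨k, hk⟩ := IsPGroup.iff_orderOf.mp P.isPGroup' ⟨x, hxP⟩
  obtain ⟨m, hm⟩ := (hCodd x hx1 ⟨k, by rw [← hk, ← Subgroup.orderOf_coe]⟩)
  have hpow : (a * b) ^ (2 * m + 1) = 1 := by
    rw [← hm]
    exact congrArg Subtype.val
      (pow_card_eq_one' (x := (⟨a * b, hcC⟩ : ↥(Subgroup.centralizer ({x} : Set G)))))
  -- the conjugator
  have hinv : a * (a * b) * a⁻¹ = (a * b)⁻¹ := by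
    rw [inv_eq_of_mul_eq_one_right haa, mul_inv_rev, inv_eq_of_mul_eq_one_right haa,
      inv_eq_of_mul_eq_one_right hbb, ← mul_assoc a a b, haa, one_mul]
  refine isConj_iff.mpr ⟨((a * b) ^ (m + 1))⁻¹, ?_⟩
  have h3 : a * (a * b) ^ (m + 1) = ((a * b) ^ (m + 1))⁻¹ * a := by
    rw [← mul_inv_eq_iff_eq_mul, ← conj_pow, hinv, inv_pow]
  have h4 : (a * b) ^ (m + 1) * (a * b) ^ (m + 1) = a * b := by
    rw [← pow_add, show m + 1 + (m + 1) = (2 * m + 1) + 1 by ring, pow_succ, hpow, one_mul]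
  calc ((a * b) ^ (m + 1))⁻¹ * a * ((a * b) ^ (m + 1))⁻¹⁻¹
      = (a * (a * b) ^ (m + 1)) * (a * b) ^ (m + 1) := by rw [h3, inv_inv]
    _ = a * (a * b) := by rw [mul_assoc, h4]
    _ = b := by rw [← mul_assoc, haa, one_mul]

end Cfsg.Agent.S4738
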