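import Cfsg.Statements.S4480
import Cfsg.Agent.Lib.Invol.KleinOrder
import Cfsg.Agent.S0944

set_option autoImplicit false
open Cfsg

namespace Cfsg.Agent.S4480

/-- Same setting as the Klein-four order formula: G of order 4·g₀ (g₀ odd) with no normal 2-complement, P a Sylow 2-subgroup, J an involution of P, M over 2, principal 2-block {1, χ₁, χ₂, χ₃} with χ_i(J) = ε_i = ±1. Suppose ε₁ε₂ε₃ = −1 and ε₃ = −1, and put q = x₃ = χ₃(1). Then there is a natural number m with 4·c(J) = m·c(P)·(q + 1), and the order of G equals (m³·c(P)/4)·(q³ − q)/2, that is 8·#G = m³·c(P)·(q³ − q). -/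
theorem result {G : Type*} [Group G] [Finite G] (M : Ideal Cfsg.AlgInt) (hM : Cfsg.IsPModular 2 M) (g₀ : ℕ) (hg₀ : Odd g₀) (hG : Nat.card G = 4 * g₀) (hnc : ¬ ∃ N : Subgroup G, N.Normal ∧ Nat.card N = g₀) (P : Sylow 2 G) (J : G) (hJ : J ∈ (P : Subgroup G)) (hJ2 : orderOf J = 2) (χ₁ χ₂ χ₃ : Cfsg.IrrCharacter G) (ε₁ ε₂ ε₃ : ℤ) (hB : Cfsg.principalBlock M G = {χ : Cfsg.IrrCharacter G | (χ : G → ℂ) = (fun _ => 1) ∨ χ = χ₁ ∨ χ = χ₂ ∨ χ = χ₃}) (hdist : (χ₁ : G → ℂ) ≠ (fun _ => 1) ∧ (χ₂ : G → ℂ) ≠ (fun _ => 1) ∧ (χ₃ : G → ℂ) ≠ (fun _ => 1) ∧ χ₁ ≠ χ₂ ∧ χ₁ ≠ χ₃ ∧ χ₂ ≠ χ₃) (hε : (ε₁ = 1 ∨ ε₁ = -1) ∧ (ε₂ = 1 ∨ ε₂ = -1) ∧ (ε₃ = 1 ∨ ε₃ = -1)) (hval : (χ₁ : G → ℂ) J = ε₁ ∧ (χ₂ : G → ℂ) J = ε₂ ∧ (χ₃ : G → ℂ) J = ε₃) (hprod : ε₁ * ε₂ * ε₃ = -1) (hε₃ : ε₃ = -1) : ∃ m : ℕ, 4 * Nat.card (Subgroup.centralizer ({J} : Set G)) = m * Nat.card (Subgroup.centralizer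 ((P : Subgroup G) : Set G)) * (Cfsg.charDegree (χ₃ : G → ℂ) + 1) ∧ 8 * Nat.card G = m ^ 3 * Nat.card (Subgroup.centralizer ((P : Subgroup G) : Set G)) * (Cfsg.charDegree (χ₃ : G → ℂ) ^ 3 - Cfsg.charDegree (χ₃ : G → ℂ)) := by
  obtain ⟨hsum, hdeg, ⟨r, hr⟩, hne, h⟩ := CfsgLib.Invol.KleinOrder.order_formula hM hg₀ hG hnc P hJ hJ2
    χ₁ χ₂ χ₃ ε₁ ε₂ ε₃ hB hdist hε hval
  obtain ⟨hd1, hd2, hd3, h12, h13, h23⟩ := hdist
  obtain ⟨hv1, hv2, hv3⟩ := hval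
  subst hε₃
  set x₁ := Cfsg.charDegree (χ₁ : G → ℂ) with hx₁
  set x₂ := Cfsg.charDegree (χ₂ : G → ℂ) with hx₂
  set q := Cfsg.charDegree (χ₃ : G → ℂ) with hq
  have hp1 : 0 < x₁ := CfsgLib.Blk83.deg_pos χ₁
  have hp2 : 0 < x₂ := CfsgLib.Blk83.deg_pos χ₂
  have hp3 : 0 < q := CfsgLib.Blk83.deg_pos χ₃
  obtain ⟨rfl, rfl⟩ : ε₁ = 1 ∧ ε₂ = 1 := by
    obtain ⟨h1, h2, -⟩ := hε
    rcases h1 with rfl | rfl <;> rcases h2 with rfl | rfl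
    · exact ⟨rfl, rfl⟩
    · norm_num at hprod
    · norm_num at hprod
    · omega
  have hodd : ∀ (χ : Cfsg.IrrCharacter G) (e : ℤ), (χ : G → ℂ) J = e → (e = 1 ∨ e = -1) →
      ¬ 2 ∣ Cfsg.charDegree (χ : G → ℂ) := by
    intro χ e he he1
    obtain ⟨n, hn, hn2⟩ := Cfsg.Agent.S0944.result χ J hJ2
    have : n = e := by rw [hn] at he; exact_mod_cast he
    subst this
    omega
  obtain ⟨hK, ⟨τ, d⟩, -⟩ := CfsgLib.Invol.KleinOrder.setting g₀ hg₀ hG hnc P hJ hJ2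
  have hp : ∀ χ : Cfsg.IrrCharacter G, (χ : G → ℂ) = (fun _ => 1) → χ = CfsgLib.Char.principalIrr :=
    fun χ h => Subtype.ext (h.trans (funext fun g => (CfsgLib.Char.principalIrr_apply g).symm))
  have hm : ∀ χ, (χ = χ₁ ∨ χ = χ₂ ∨ χ = χ₃) → χ ∈ Cfsg.principalBlock M G := fun χ hχ => by
    rw [hB]; exact Or.inr hχ
  have hx : x₁ = x₂ := CfsgLib.Invol.KleinOrder.degree_eq hM hK d χ₁ χ₂ χ₃ hsum
    (fun χ hχ => by
      rw [hB] at hχ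
      exact hχ.imp (hp χ) id)
    (hm _ (Or.inl rfl)) (hm _ (Or.inr (Or.inl rfl))) (hm _ (Or.inr (Or.inr rfl)))
    (fun he => hd1 (funext fun g => by rw [he, CfsgLib.Char.principalIrr_apply]))
    (by rw [hv1, Int.cast_one]) (by rw [hv2, Int.cast_one]) (by rw [hv3]; norm_num)
    (hodd _ _ hv1 (Or.inl rfl)) (hodd _ _ hv3 (Or.inr rfl)) (hodd _ _ hv2 (Or.inl rfl))
  obtain ⟨x, hxo⟩ : ∃ x, x₁ = 2 * x + 1 := ⟨x₁ / 2, by have := hodd _ _ hv1 (Or.inl rfl); omega⟩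
  have hqx : q = 2 * x₁ + 1 := by omega
  set cP := Nat.card (Subgroup.centralizer ((P : Subgroup G) : Set G)) with hcP
  set c := Nat.card (Subgroup.centralizer ({J} : Set G)) with hc
  set I := (Subgroup.centralizer ({J} : Set G)).index with hI
  have hGI : Nat.card G = c * I := (Subgroup.card_mul_index _).symm
  have hmain : (I : ℚ) * ((q : ℚ) + 1) ^ 2 = 16 * (r : ℚ) ^ 2 * x₁ * q := by
    have hcp0 : (cP : ℚ) ≠ 0 := Nat.cast_ne_zero.2 Nat.card_pos.ne'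
    have hr0 : (r : ℚ) ≠ 0 := Nat.cast_ne_zero.2 fun h0 => by
      rw [h0, mul_zero] at hr; exact Nat.card_pos.ne' hr
    have hx0 : (x₁ : ℚ) ≠ 0 := Nat.cast_ne_zero.2 (by omega)
    rw [← hx, hGI, hr] at h
    have hqq : (q : ℚ) = 2 * (x₁ : ℚ) + 1 := by exact_mod_cast hqx
    refine mul_left_cancel₀ (mul_ne_zero (mul_ne_zero (pow_ne_zero 3 hcp0) hr0) hx0) ?_
    push_cast at h ⊢
    rw [hqq] at h ⊢
    linear_combination 2 * h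
  have hmN : I * (q + 1) ^ 2 = 16 * r ^ 2 * (x₁ * q) := by
    rw [← mul_assoc]; exact_mod_cast hmain
  have hcop : (q + 1).Coprime (x₁ * q) := by
    refine Nat.Coprime.mul_right ?_ (by simp)
    apply Nat.coprime_of_dvd
    intro k hk hk1 hk2
    have hk2' : k ∣ 2 := by
      have : k ∣ q + 1 - 2 * x₁ := Nat.dvd_sub hk1 (hk2.mul_left 2)
      rwa [show q + 1 - 2 * x₁ = 2 by omega] at this
    rw [(Nat.prime_dvd_prime_iff_eq hk Nat.prime_two).1 hk2'] at hk2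
    omega
  have hdiv : q + 1 ∣ 4 * r := by
    have h2 : (q + 1) ^ 2 ∣ (4 * r) ^ 2 := by
      refine (hcop.pow_left 2).dvd_of_dvd_mul_right ⟨I, ?_⟩
      rw [mul_pow, mul_comm _ I, hmN]; norm_num
    exact (Nat.pow_dvd_pow_iff two_ne_zero).1 h2
  obtain ⟨m, hmr⟩ := hdiv
  refine ⟨m, ?_, ?_⟩
  · rw [hr, mul_comm m, mul_assoc cP m, mul_comm m, ← hmr]; ring
  · have hq3 : q ≤ q ^ 3 := Nat.le_self_pow (by norm_num) q
    have hmr' : (4 : ℚ) * r = ((q : ℚ) + 1) * m := by exact_mod_cast hmr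
    have hq1 : ((q : ℚ) + 1) ^ 2 ≠ 0 := pow_ne_zero 2 (by positivity)
    have hqq : (q : ℚ) = 2 * (x₁ : ℚ) + 1 := by exact_mod_cast hqx
    have key : (8 : ℚ) * (Nat.card G : ℚ) = (m : ℚ) ^ 3 * cP * ((q : ℚ) ^ 3 - q) := by
      refine mul_left_cancel₀ hq1 ?_
      rw [hGI, hr]
      push_cast
      have h3 : ((4 : ℚ) * r) ^ 3 = (((q : ℚ) + 1) * m) ^ 3 := by rw [hmr']
      linear_combination (8 * (cP : ℚ) * r) * hmain + (2 * (cP : ℚ) * x₁ * q) * h3 +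
        (-((q : ℚ) + 1) ^ 3 * (m : ℚ) ^ 3 * cP * q) * hqq
    have : ((8 * Nat.card G : ℕ) : ℚ) = ((m ^ 3 * cP * (q ^ 3 - q) : ℕ) : ℚ) := by
      push_cast [Nat.cast_sub hq3]
      exact key
    exact_mod_cast this

end Cfsg.Agent.S4480
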