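import Cfsg.Statements.S0219
import Mathlib.GroupTheory.Transfer

set_option autoImplicit false
open Cfsg

namespace Cfsg.Agent.S0219

/-- If a finite group has even order and a cyclic Sylow 2-subgroup, then it has a subgroup of index 2 (consider the parity of permutations in the regular representation). -/
theorem result {G : Type*} [Group G] [Finite G] (heven : Even (Nat.card G)) (T : Sylow 2 G) (hT : IsCyclic (T : Subgroup G)) : ∃ H : Subgroup G, H.index = 2 := by
  have : Fact (Nat.Prime 2) := ⟨Nat.prime_two⟩
  have hmin : (Nat.card G).minFac = 2 := by rw [Nat.minFac_eq_two_iff]; exact even_iff_two_dvd.1 heven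
  have hle := IsCyclic.normalizer_le_centralizer hmin hT
  set N := (MonoidHom.transferSylow T hle).ker
  have hidx : N.index = Nat.card (T : Subgroup G) :=
    Subgroup.IsComplement'.index_eq_card (MonoidHom.ker_transferSylow_isComplement' T hle).symm
  obtain ⟨k, hk⟩ := T.isPGroup'.exists_card_eq
  have hkpos : 0 < k := by
    rcases Nat.eq_zero_or_pos k with rfl | h
    · exfalso
      have h1 := T.card_eq_multiplicity
      rw [hk] at h1
      have h2 : 0 < (Nat.card G).factorization 2 :=
        Nat.prime_two.factorization_pos_of_dvd Nat.card_pos.ne' (even_iff_two_dvd.1 heven)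
      have := Nat.pow_right_injective (le_refl 2) h1
      omega
    · exact h
  have hq : Nat.card (G ⧸ N) = 2 ^ k := hidx.trans hk
  obtain ⟨K, hK⟩ := Sylow.exists_subgroup_card_pow_prime 2 (G := G ⧸ N) (n := k - 1)
    (by rw [hq]; exact pow_dvd_pow 2 (Nat.sub_le k 1))
  refine ⟨K.comap (QuotientGroup.mk' N), ?_⟩
  rw [Subgroup.index_comap_of_surjective _ (QuotientGroup.mk'_surjective N)]
  have h := Subgroup.card_mul_index K
  rw [hK, hq] at h
  apply Nat.eq_of_mul_eq_mul_left (Nat.two_pow_pos (k - 1))
  rw [h, ← pow_succ]
  congr 1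
  omega

end Cfsg.Agent.S0219
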