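import Cfsg.Statements.S0498
import Cfsg.Agent.Lib.SmallOrder.PSL2Recog

set_option autoImplicit false
set_option synthInstance.maxSize 2000
open Cfsg CfsgLib.SmallOrder Subgroup

namespace Cfsg.Agent.S0498

/-- A simple group of order 660, respectively 1092, is isomorphic to the projective special linear group of dimension 2
over the field with 11, respectively 13, elements. -/
theorem result {G : Type*} [Group G] [Finite G] [IsSimpleGroup G] (p : ℕ)
    (hp : p = 11 ∨ p = 13) (h : 2 * Nat.card G = p * (p ^ 2 - 1)) {F : Type*} [Field F] [Fintype F]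
    (hF : Fintype.card F = p) : Nonempty (G ≃* Matrix.ProjectiveSpecialLinearGroup (Fin 2) F) := by
  rcases hp with rfl | rfl
  · have hc : Nat.card G = 660 := by omega
    have : Fact (Nat.Prime 11) := ⟨by norm_num⟩
    obtain ⟨h1, h2, h3, -⟩ := card_sylow_facts (G := G) (p := 11) (e := 1) (m := 60) (by rw [hc]; norm_num)
      (by norm_num) one_pos (by norm_num)
    have hn : Nat.card (Sylow 11 G) = 12 :=
      (by decide : ∀ n ∈ Nat.divisors 60, n % 11 = 1 → 1 < n → n = 12) _
        (Nat.mem_divisors.2 ⟨h1, by norm_num⟩) h2 h3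
    refine nonempty_mulEquiv_psl (d := 5) (by norm_num) (by norm_num) hc hn (fun M g D => ?_) hF
    exact D.conclusion_primePow (r := 5) (a := 1) (b := 132) (by norm_num) one_pos (by norm_num)
      (by rw [hc]; norm_num) (by norm_num) (by norm_num) (by decide) (by norm_num)
  · have hc : Nat.card G = 1092 := by omega
    have : Fact (Nat.Prime 13) := ⟨by norm_num⟩
    obtain ⟨h1, h2, h3, -⟩ := card_sylow_facts (G := G) (p := 13) (e := 1) (m := 84) (by rw [hc]; norm_num)
      (by norm_num) one_pos (by norm_num)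
    have hn : Nat.card (Sylow 13 G) = 14 :=
      (by decide : ∀ n ∈ Nat.divisors 84, n % 13 = 1 → 1 < n → n = 14) _
        (Nat.mem_divisors.2 ⟨h1, by norm_num⟩) h2 h3
    refine nonempty_mulEquiv_psl (d := 6) (by norm_num) (by norm_num) hc hn (fun M g D => ?_) hF
    have key : ∀ k, k < 6 → ∀ i, i < 6 → k * k % 6 = 1 % 6 → k * i % 6 = i →
        k = 1 ∨ (k = 5 ∧ i = 3) ∨ ((k + 1) % 6 = 0 ∧ i = 0) := by decide
    rcases key _ D.hk _ D.hi D.hk2 D.hki with hk | ⟨hk, hi⟩ | ⟨hk, hi⟩
    · exfalso
      exact D.not_k_one (r := 3) (a := 1) (b := 364) (by norm_num) one_pos (by rw [hc]; norm_num)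
        (by norm_num) (by norm_num) (by norm_num) (by norm_num) 2 (by norm_num) (by rw [hk, one_mul])
    · exfalso
      have : Fact (Nat.Prime 2) := ⟨Nat.prime_two⟩
      have hg2 : g ^ 2 = D.m ^ 3 := by rw [pow_two, D.hgg, hi]
      have hord : orderOf g = 2 ^ 2 := by
        refine orderOf_eq_prime_pow (p := 2) (n := 1) ?_ ?_
        · rw [pow_one, hg2]
          exact pow_ne_one_of_lt_orderOf (by norm_num) (by rw [D.hord]; norm_num)
        · rw [show (2 : ℕ) ^ (1 + 1) = 2 * 2 from rfl, pow_mul, hg2, ← pow_mul,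
            show 3 * 2 = orderOf D.m by rw [D.hord], pow_orderOf_eq_one]
      refine D.not_cyclic_two_self (a := 2) (b := 273) two_pos (by rw [hc]; norm_num) (by norm_num)
        (by norm_num) hord (by rw [show (2 : ℕ) ^ (2 - 1) = 2 from rfl, hg2]; exact pow_mem D.m_mem 3) ?_
      intro y hy hyg
      obtain ⟨n, rfl⟩ := D.exists_pow hy
      obtain ⟨e, he⟩ := mem_powers_iff_mem_zpowers.2 hyg
      change g ^ e = _ at he
      have h5 : D.m ^ n * g * (D.m ^ n)⁻¹ = D.m ^ (2 * n) * g := by
        have h6 := D.conj_pow_m (5 * n)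
        rw [hk, pow_eq_pow_iff_modEq.2 (show 5 * (5 * n) ≡ n [MOD orderOf D.m] by
          rw [D.hord, Nat.ModEq]; omega), mul_inv_eq_iff_eq_mul] at h6
        have h7 : (D.m ^ n)⁻¹ = D.m ^ (5 * n) := by
          rw [inv_eq_iff_mul_eq_one, ← pow_add, show n + 5 * n = orderOf D.m * n by rw [D.hord]; ring,
            pow_mul, pow_orderOf_eq_one, one_pow]
        rw [h7, mul_assoc, h6, ← mul_assoc, ← pow_add, two_mul]
      rcases Nat.even_or_odd e with ⟨f, rfl⟩ | ⟨f, rfl⟩
      · exfalso
        refine D.g_not_mem ?_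
        rw [h5, ← two_mul, pow_mul, hg2] at he
        exact ((mul_mem_cancel_left (pow_mem D.m_mem _)).1 (he ▸ pow_mem (pow_mem D.m_mem 3) f))
      · rw [h5, pow_succ, pow_mul, hg2, ← pow_mul] at he
        have h8 := mul_right_cancel he
        rw [pow_eq_pow_iff_modEq, D.hord, Nat.ModEq] at h8
        have h9 : D.m ^ (2 * n) = 1 := orderOf_dvd_iff_pow_eq_one.1 (by rw [D.hord]; omega)
        rw [h9, one_mul, mul_inv_eq_iff_eq_mul] at h5
        exact h5
    · exact D.conclusion hk hi

end Cfsg.Agent.S0498
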