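import Cfsg.Statements.S1011
import Cfsg.Agent.Lib.SmallPSL.OrderFiveZeroFour
import Cfsg.Agent.Lib.Linear.LineModel
import Cfsg.Agent.S1230
import Mathlib.FieldTheory.Finite.GaloisField

set_option autoImplicit false
open Cfsg

namespace Cfsg.Agent.S1011

/-- A simple group of order 504 is isomorphic to the projective special linear group of dimension 2 over the field with 8 elements. -/
theorem result {G : Type*} [Group G] [Finite G] [IsSimpleGroup G] (h : Nat.card G = 504) {F : Type*} [Field F] [Fintype F] (hF : Fintype.card F = 8) : Nonempty (G ≃* Matrix.ProjectiveSpecialLinearGroup (Fin 2) F) := by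
  classical
  obtain ⟨T⟩ := (inferInstance : Nonempty (Sylow 2 G))
  obtain ⟨hnc, hnn, hC⟩ := CfsgLib.SmallPSL.elemCent_504 h T
  obtain ⟨F', _, _, hF', ⟨e⟩⟩ := Cfsg.Agent.S1230.result T hnc hnn hC
  have hT : Nat.card (T : Subgroup G) = 2 ^ 3 :=
    CfsgLib.SmallOrder.card_sylow_eq (G := G) (e := 3) (m := 63) (by rw [h]; norm_num) (by norm_num) T
  exact ⟨e.trans (CfsgLib.Linear.pslRingEquiv (FiniteField.ringEquivOfCardEq (K := F') (K' := F)
    (by rw [hF', hF]; exact hT)))⟩

end Cfsg.Agent.S1011
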