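import Cfsg.Statements.S1020
import Cfsg.Agent.Lib.SmallOrder.PSL2Recog

set_option autoImplicit false
set_option synthInstance.maxSize 2000
open Cfsg CfsgLib.SmallOrder Subgroup

namespace Cfsg.Agent.S1020

/-- A simple group of order 2448 is isomorphic to the projective special linear group of dimension 2 over the field with 17 elements. -/
theorem result {G : Type*} [Group G] [Finite G] [IsSimpleGroup G] (h : Nat.card G = 2448) {F : Type*} [Field F] [Fintype F] (hF : Fintype.card F = 17) : Nonempty (G ≃* Matrix.ProjectiveSpecialLinearGroup (Fin 2) F) := by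
  have : Fact (Nat.Prime 17) := ⟨by norm_num⟩
  obtain ⟨h1, h2, h3, -⟩ := card_sylow_facts (G := G) (p := 17) (e := 1) (m := 144) (by rw [h]; norm_num)
    (by norm_num) one_pos (by norm_num)
  have hn : Nat.card (Sylow 17 G) = 18 :=
    (by decide : ∀ n ∈ Nat.divisors 144, n % 17 = 1 → 1 < n → n = 18) _
      (Nat.mem_divisors.2 ⟨h1, by norm_num⟩) h2 h3
  have hnc : ¬ IsMulCommutative G := not_comm_of_not_prime (by rw [h]; norm_num)
  refine nonempty_mulEquiv_psl (d := 8) (by norm_num) (by norm_num) h hn (fun M g D => ?_) hF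
  have key : ∀ k, k < 8 → ∀ i, i < 8 → k * k % 8 = 1 % 8 → k * i % 8 = i →
      (∃ j, j < 8 ∧ (k * j + i + j) % 8 = 4) ∨ (k = 1 ∧ i % 2 = 1) ∨ ((k + 1) % 8 = 0 ∧ i = 0) := by
    decide
  rcases key _ D.hk _ D.hi D.hk2 D.hki with ⟨j, -, hj⟩ | ⟨hk, hi⟩ | ⟨hk, hi⟩
  · exact (D.not_half hnc (e := 4) (k := 2) (by norm_num) rfl hj (by rw [hn])).elim
  · exfalso
    have : Fact (Nat.Prime 2) := ⟨Nat.prime_two⟩
    have hg8 : g ^ 8 = D.m ^ 4 := by
      rw [show g ^ 8 = (g * g) ^ 4 by rw [← pow_two, ← pow_mul], D.hgg, ← pow_mul, ← pow_mod_orderOf,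
        D.hord]
      congr 1
      omega
    have hord : orderOf g = 2 ^ 4 := by
      refine orderOf_eq_prime_pow (p := 2) (n := 3) ?_ ?_
      · rw [show (2 : ℕ) ^ 3 = 8 from rfl, hg8]
        exact pow_ne_one_of_lt_orderOf (by norm_num) (by rw [D.hord]; norm_num)
      · rw [show (2 : ℕ) ^ (3 + 1) = 8 * 2 from rfl, pow_mul, hg8, ← pow_mul,
          show 4 * 2 = orderOf D.m by rw [D.hord], pow_orderOf_eq_one]
    refine D.not_cyclic_two_self (a := 4) (b := 153) (by norm_num) (by rw [h]; norm_num) (by norm_num)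
      (by norm_num) hord (by rw [show (2 : ℕ) ^ (4 - 1) = 8 from rfl, hg8]; exact pow_mem D.m_mem 4) ?_
    intro y hy _
    obtain ⟨n, rfl⟩ := D.exists_pow hy
    have h1 := D.hgm
    rw [hk, pow_one, mul_inv_eq_iff_eq_mul] at h1
    exact ((show Commute g D.m from h1).pow_right n).symm
  · exact D.conclusion hk hi

end Cfsg.Agent.S1020
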