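import Cfsg.Statements.S3669
import Cfsg.Agent.Lib.Char.Ito
import Cfsg.Agent.Lib.CharDeep.PermChar
import Cfsg.Agent.Lib.Char.Orth
import Cfsg.Agent.Lib.Char.Linear
import Cfsg.Agent.Lib.Char.Induced
import Cfsg.Agent.S0494

set_option autoImplicit false
open Cfsg

namespace Cfsg.Agent.S3669

theorem factorization_one {n p m : ℕ} (hp : p.Prime) (h : n = p * m) (hm : ¬ p ∣ m) :
    n.factorization p = 1 := by
  have hm0 : m ≠ 0 := fun e => hm (e ▸ dvd_zero p)
  rw [h, Nat.factorization_mul hp.ne_zero hm0, Finsupp.coe_add, Pi.add_apply, hp.factorization_self,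
    Nat.factorization_eq_zero_of_not_dvd hm]

open scoped Classical in
/-- A group of order `60` with a non-normal subgroup of order five has six of them. -/
theorem card_sylow_five {X : Type*} [Group X] [Finite X] (h60 : Nat.card X = 60)
    (hn : ∀ N : Subgroup X, N.Normal → Nat.card N ≠ 5) : Nat.card (Sylow 5 X) = 6 := by
  haveI : Fact (Nat.Prime 5) := ⟨by norm_num⟩
  let P : Sylow 5 X := default
  have hP : Nat.card P = 5 := by
    rw [P.card_eq_multiplicity, h60, show (60 : ℕ).factorization 5 = 1 from ?_, pow_one]
    exact factorization_one (m := 12) (by norm_num) (by norm_num) (by norm_num)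
  have h1 := card_sylow_modEq_one 5 X
  have h2 := P.card_dvd_index
  have h3 : (P : Subgroup X).index = 12 := by
    have := (P : Subgroup X).card_mul_index
    rw [h60, hP] at this
    omega
  rw [h3] at h2
  have h4 : Nat.card (Sylow 5 X) ≠ 1 := fun h => by
    haveI : Subsingleton (Sylow 5 X) := Finite.card_le_one_iff_subsingleton.1 h.le
    exact hn _ P.normal_of_subsingleton hP
  have := Nat.le_of_dvd (by norm_num) h2
  unfold Nat.ModEq at h1
  have : Nat.card (Sylow 5 X) ∈ Nat.divisors 12 := Nat.mem_divisors.2 ⟨h2, by norm_num⟩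
  rw [show Nat.divisors 12 = {1, 2, 3, 4, 6, 12} from by decide] at this
  simp at this
  omega

open scoped Classical in
/-- The characters of a group of order `60` with six Sylow `5`-subgroups include one of degree `5`. -/
theorem five_mem_degreePrimes {X : Type*} [Group X] [Finite X] (h60 : Nat.card X = 60)
    (hn : ∀ N : Subgroup X, N.Normal → Nat.card N ≠ 5) : 5 ∈ Cfsg.degreePrimes X := by
  haveI : Fact (Nat.Prime 5) := ⟨by norm_num⟩
  haveI := Fintype.ofFinite X
  have hsix := card_sylow_five h60 hn
  let P : Sylow 5 X := default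
  set H := Subgroup.normalizer ((P : Subgroup X) : Set X)
  have hidx : H.index = 6 := by
    rw [← hsix]; exact P.card_eq_index_normalizer.symm
  set χ : X → ℂ := Cfsg.indFun H (fun _ => (1 : ℂ))
  have hχ : Cfsg.IsCharacter X χ := CfsgLib.Char.IsCharacter.indFun H
    (CfsgLib.Char.IsIrrCharacter.isCharacter CfsgLib.Char.isIrrCharacter_principal)
  set one : Cfsg.IrrCharacter X := ⟨fun _ => 1, CfsgLib.Char.isIrrCharacter_principal⟩
  have hone : Cfsg.classInner χ (one : X → ℂ) = 1 := by
    rw [CfsgLib.Char.classInner_indFun H _ _ (CfsgLib.Char.IsIrrCharacter.isClassFunction one.2)]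
    exact CfsgLib.Char.classInner_irr_self (G := H) CfsgLib.Char.isIrrCharacter_principal
  have hnorm : Cfsg.classInner χ χ = 2 := by
    rw [CfsgLib.Char.classInner_indFun H _ _ (CfsgLib.Char.IsCharacter.isClassFunction hχ)]
    unfold Cfsg.classInner
    simp only [one_mul, χ, CfsgLib.CharDeep.Perm.indFun_one, Complex.conj_natCast]
    have horb : Nat.card (MulAction.orbitRel.Quotient H (X ⧸ H)) = 2 := by
      set base : X ⧸ H := ((1 : X) : X ⧸ H)
      have hbase : ∀ h : H, h • base = base := fun h => by
        show ((h : X) • base : X ⧸ H) = base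
        rw [MulAction.Quotient.smul_coe, QuotientGroup.eq, smul_eq_mul, mul_one, mul_one]
        exact H.inv_mem h.2
      let PH : Subgroup H := (P : Subgroup X).subgroupOf H
      have hPH : IsPGroup 5 PH := P.2.of_equiv (Subgroup.subgroupOfEquivOfLe Subgroup.le_normalizer).symm
      have hbig : ∀ q : X ⧸ H, q ≠ base → 5 ≤ Nat.card (MulAction.orbit PH q) := by
        intro q hq
        obtain ⟨k, hk⟩ := hPH.card_orbit q
        rcases Nat.eq_zero_or_pos k with rfl | hk0
        · exfalso
          rw [pow_zero, Nat.card_eq_one_iff_unique] at hk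
          obtain ⟨g, rfl⟩ := QuotientGroup.mk_surjective q
          -- `P` fixes `gH`, so `g⁻¹ P g ≤ H`
          have hle : ∀ x ∈ (P : Subgroup X), g⁻¹ * x * g ∈ H := by
            intro x hx
            have := congrArg Subtype.val (hk.1.elim
              ⟨(⟨⟨x, Subgroup.le_normalizer hx⟩, hx⟩ : PH) • (g : X ⧸ H), MulAction.mem_orbit _ _⟩
              ⟨(g : X ⧸ H), MulAction.mem_orbit_self _⟩)
            replace this : ((x * g : X) : X ⧸ H) = (g : X ⧸ H) := this
            have := H.inv_mem (QuotientGroup.eq.1 this)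
            simpa [mul_assoc] using this
          have hgP : g • P = P := by
            have hfix : ∀ x ∈ (P : Subgroup X), g⁻¹ * x * g ∈ (P : Subgroup X) := by
              intro x hx
              -- `P` is the unique Sylow subgroup of its normaliser
              set z := g⁻¹ * x * g
              have hz : z ∈ H := hle x hx
              have hz5 : IsPGroup 5 ((P : Subgroup X) ⊔ Subgroup.zpowers z : Subgroup X) := by
                refine P.2.to_sup_of_normal_left' ?_ (Subgroup.zpowers_le.2 hz)
                have : Subgroup.zpowers z = (Subgroup.zpowers x).map (MulAut.conj g⁻¹).toMonoidHom := by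
                  rw [MonoidHom.map_zpowers]
                  simp [z]
                rw [this]
                exact (P.2.to_le (Subgroup.zpowers_le.2 hx)).map _
              rw [← P.3 hz5 le_sup_left]
              exact Subgroup.mem_sup_right (Subgroup.mem_zpowers z)
            apply Sylow.ext
            rw [Sylow.smul_def, Sylow.pointwise_smul_def]
            refine (Subgroup.eq_of_le_of_card_ge ?_ ?_).symm
            · intro x hx
              exact ⟨g⁻¹ * x * g, hfix x hx, by simp [mul_assoc]⟩
            · exact (Nat.card_congr ((P : Subgroup X).equivMapOfInjective _ (MulAut.conj g).injective).toEquiv).ge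
          exact hq (QuotientGroup.eq.2 (by
            rw [mul_one]
            exact H.inv_mem (Sylow.smul_eq_iff_mem_normalizer.1 hgP)))
        · rw [hk]; exact Nat.le_self_pow hk0.ne' 5
      have hother : ∀ q r : X ⧸ H, q ≠ base → r ≠ base → r ∈ MulAction.orbit H q := by
        intro q r hq hr
        have hsub : ∀ u ∈ MulAction.orbit PH q, u ∈ ({base}ᶜ : Set (X ⧸ H)) := by
          rintro _ ⟨h, rfl⟩ (he : h • q = base)
          apply hq
          have h2 := congrArg (fun u => ((h : H)⁻¹) • u) he
          rw [hbase] at h2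
          exact (inv_smul_smul (h : H) q).symm.trans h2
        have heq : MulAction.orbit PH q = ({base}ᶜ : Set (X ⧸ H)) := by
          refine Set.eq_of_subset_of_ncard_le hsub ?_
          rw [Set.ncard_compl, Set.ncard_singleton, ← Subgroup.index_eq_card, hidx]
          exact (hbig q hq)
        have : r ∈ MulAction.orbit PH q := heq ▸ hr
        obtain ⟨h, rfl⟩ := this
        exact ⟨(h : H), rfl⟩
      obtain ⟨q₀, hq₀⟩ : ∃ q : X ⧸ H, q ≠ base := by
        by_contra hcon
        push Not at hcon
        have : Nat.card (X ⧸ H) ≤ 1 := Finite.card_le_one_iff_subsingleton.2 ⟨fun a b => (hcon a).trans (hcon b).symm⟩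
        rw [← Subgroup.index_eq_card, hidx] at this
        omega
      rw [Nat.card_eq_two_iff]
      refine ⟨Quotient.mk'' base, Quotient.mk'' q₀, fun e => ?_, Set.eq_univ_of_forall fun z => ?_⟩
      · obtain ⟨h, hh⟩ := MulAction.orbitRel_apply.1 (Quotient.exact' e.symm)
        exact hq₀ (by rw [← hh]; exact hbase h)
      · induction z using Quotient.inductionOn' with
        | h q =>
          by_cases hq : q = base
          · exact Or.inl (by rw [hq])
          · exact Or.inr (Set.mem_singleton_iff.2 (Quotient.sound' (hother q₀ q hq₀ hq)))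
    have hb := MulAction.sum_card_fixedBy_eq_card_orbits_mul_card_group H (X ⧸ H)
    simp only [← Nat.card_eq_fintype_card] at hb
    rw [horb] at hb
    have hb' : ((∑ h : H, CfsgLib.CharDeep.Perm.fixCard H (h : X) : ℕ) : ℂ) = 2 * (Nat.card H : ℂ) := by
      rw [← Nat.cast_two, ← Nat.cast_mul]
      exact congrArg Nat.cast hb
    rw [← Nat.cast_sum, hb']
    have : (Nat.card H : ℂ) ≠ 0 := by exact_mod_cast Nat.card_pos.ne'
    field_simp
  obtain ⟨m, hm⟩ := CfsgLib.Char.IsCharacter.exists_nat_combination hχ
  have hm1 : m one = 1 := by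
    rw [hm, CfsgLib.Char.classInner_sum_smul_irr] at hone
    exact_mod_cast hone
  have hm2 : ∑ φ, m φ * m φ = 2 := by
    rw [hm, CfsgLib.Char.classInner_sum_smul_sum_smul] at hnorm
    simp only [map_natCast] at hnorm
    exact_mod_cast hnorm
  rw [← Finset.add_sum_erase _ _ (Finset.mem_univ one), hm1] at hm2
  obtain ⟨φ, hφe, hφ0⟩ := Finset.exists_ne_zero_of_sum_ne_zero (s := Finset.univ.erase one)
    (f := fun φ => m φ * m φ) (by omega)
  rw [← Finset.add_sum_erase _ _ hφe] at hm2
  have hφ1 : m φ = 1 := by
    have h : m φ * m φ ≤ 1 := by omega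
    have h0 : m φ ≠ 0 := fun e => hφ0 (by simp [e])
    nlinarith [Nat.pos_of_ne_zero h0]
  have hrest : ∀ ψ ∈ (Finset.univ.erase one).erase φ, m ψ = 0 := by
    intro ψ hψ
    rw [hφ1] at hm2
    have := Finset.single_le_sum (f := fun φ => m φ * m φ) (fun i _ => Nat.zero_le _) hψ
    exact mul_self_eq_zero.1 (by omega)
  have h6 : χ 1 = 6 := by
    show Cfsg.indFun H _ 1 = 6
    rw [CfsgLib.Char.indFun_apply_one, hidx]
    norm_num
  have h5 : (φ : X → ℂ) 1 = 5 := by
    rw [hm, Finset.sum_apply, ← Finset.add_sum_erase _ _ (Finset.mem_univ one),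
      ← Finset.add_sum_erase _ _ hφe, Finset.sum_eq_zero (fun ψ hψ => by simp [hrest ψ hψ])] at h6
    simp [hm1, hφ1, one] at h6
    linear_combination h6
  refine ⟨by norm_num, 5, ⟨φ, ?_⟩, dvd_rfl⟩
  simp [Cfsg.charDegree, h5]

/-- A group of order `30` does not have six Sylow `5`-subgroups. -/
theorem six_five_thirty {X : Type*} [Group X] [Finite X] (h30 : Nat.card X = 30)
    (h6 : Nat.card (Sylow 5 X) = 6) : False := by
  haveI : Fact (Nat.Prime 2) := ⟨Nat.prime_two⟩
  haveI : Fact (Nat.Prime 5) := ⟨by norm_num⟩
  let S : Sylow 2 X := default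
  have hS : Nat.card S = 2 := by
    rw [S.card_eq_multiplicity, h30, show (30 : ℕ).factorization 2 = 1 from by
      exact factorization_one (m := 15) (by norm_num) (by norm_num) (by norm_num)]
    norm_num
  have hC : IsCyclic (S : Subgroup X) := isCyclic_of_prime_card hS
  have hK := IsCyclic.isComplement' (P := S) (by rw [h30]; decide) hC
  set K := (MonoidHom.transferSylow S (hC.normalizer_le_centralizer (by rw [h30]; decide))).ker
  have hK15 : Nat.card K = 15 := by
    have := hK.card_mul
    rw [hS, h30] at this
    omega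
  -- `K` has a single subgroup of order five, and every one of order five lies in `K`
  have hK5 : Nat.card (Sylow 5 K) = 1 := by
    let R : Sylow 5 K := default
    have h1 := card_sylow_modEq_one 5 K
    have h2 : Nat.card (Sylow 5 K) ∣ 15 := hK15 ▸ R.card_dvd_index.trans (Subgroup.index_dvd_card _)
    unfold Nat.ModEq at h1
    have h3 : Nat.card (Sylow 5 K) ∈ Nat.divisors 15 := Nat.mem_divisors.2 ⟨h2, by norm_num⟩
    rw [show Nat.divisors 15 = {1, 3, 5, 15} from by decide] at h3
    simp at h3
    omega
  haveI : Subsingleton (Sylow 5 K) := Finite.card_le_one_iff_subsingleton.1 hK5.le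
  have hle : ∀ Q : Sylow 5 X, (Q : Subgroup X) ≤ K := by
    intro Q q hq
    by_contra hne
    obtain ⟨k, hk⟩ := Q.2 ⟨q, hq⟩
    have hk' : q ^ 5 ^ k = 1 := congrArg Subtype.val hk
    have hidx : K.index = 2 := by
      have := K.card_mul_index
      rw [hK15, h30] at this
      omega
    have hsq : q ^ 2 ∈ K := by
      rw [pow_two]
      exact Subgroup.mul_self_mem_of_index_two hidx q
    apply hne
    obtain ⟨j, hj⟩ : ∃ j, 5 ^ k = 2 * j + 1 := ⟨5 ^ k / 2, by
      have : Odd (5 ^ k) := (by decide : Odd 5).pow
      rw [Nat.odd_iff] at this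
      omega⟩
    rw [hj, pow_succ, pow_mul] at hk'
    rw [eq_inv_of_mul_eq_one_right hk']
    exact K.inv_mem (K.pow_mem hsq j)
  have : Subsingleton (Sylow 5 X) := ⟨fun Q R => by
    have h := Subsingleton.elim (Q.subtype (hle Q)) (R.subtype (hle R))
    have h' := congrArg (fun T : Sylow 5 K => (T : Subgroup K).map K.subtype) h
    simp only [Sylow.coe_subtype, Subgroup.subgroupOf_map_subtype, inf_eq_left.2 (hle Q), inf_eq_left.2 (hle R)] at h'
    exact Sylow.ext h'⟩
  have := Finite.card_le_one_iff_subsingleton.2 this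
  omega

/-- In a group of order `60` a nontrivial normal `5'`-subgroup times a Sylow `5`-subgroup is normal. -/
theorem normal_of_small {X : Type*} [Group X] [Finite X] (h60 : Nat.card X = 60) (N : Subgroup X)
    [N.Normal] (hne : N ≠ ⊥) (h5 : ¬ 5 ∣ Nat.card N) (P : Sylow 5 X)
    (hM : Nat.card (N ⊔ (P : Subgroup X) : Subgroup X) = Nat.card N * 5) :
    (N ⊔ (P : Subgroup X)).Normal := by
  haveI : Fact (Nat.Prime 5) := ⟨by norm_num⟩
  set π := QuotientGroup.mk' N
  let Q : Sylow 5 (X ⧸ N) := P.mapSurjective (QuotientGroup.mk'_surjective N)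
  have hmod := card_sylow_modEq_one 5 (X ⧸ N)
  have hN60 : Nat.card N ∣ 12 := by
    have h := Subgroup.card_subgroup_dvd_card N
    rw [h60, show (60 : ℕ) = 5 * 12 from rfl] at h
    exact ((Nat.Prime.coprime_iff_not_dvd (by norm_num)).2 h5).symm.dvd_of_dvd_mul_left h
  have hmul := N.card_mul_index
  rw [h60, Subgroup.index_eq_card] at hmul
  have h1 : 1 < Nat.card N := N.one_lt_card_iff_ne_bot.2 hne
  have hone : Nat.card (Sylow 5 (X ⧸ N)) = 1 := by
    have hQ5 : 5 ∣ Nat.card (X ⧸ N) := by
      have h' : 5 ∣ Nat.card N * Nat.card (X ⧸ N) := by rw [hmul]; norm_num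
      exact ((Nat.Prime.dvd_mul (by norm_num)).1 h').resolve_left h5
    have hd : Nat.card (Sylow 5 (X ⧸ N)) * 5 ∣ Nat.card (X ⧸ N) := by
      have hc := (Q : Subgroup (X ⧸ N)).card_mul_index
      rw [← hc, mul_comm (Nat.card Q)]
      exact Nat.mul_dvd_mul Q.card_dvd_index (Q.dvd_card_of_dvd_card hQ5)
    unfold Nat.ModEq at hmod
    have hle := Nat.le_of_dvd (by norm_num) hN60
    have hdl := Nat.le_of_dvd Nat.card_pos hd
    have hpos := Nat.card_pos (α := Sylow 5 (X ⧸ N))
    by_contra hne1
    have h6 : 6 ≤ Nat.card (Sylow 5 (X ⧸ N)) := by omega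
    have h30 : Nat.card (X ⧸ N) = 30 := by
      have : Nat.card N * Nat.card (X ⧸ N) = 60 := hmul
      have : Nat.card (X ⧸ N) ≤ 30 := by nlinarith
      omega
    exact six_five_thirty h30 (by omega)
  haveI : Subsingleton (Sylow 5 (X ⧸ N)) := Finite.card_le_one_iff_subsingleton.1 hone.le
  haveI : (Q : Subgroup (X ⧸ N)).Normal := Q.normal_of_subsingleton
  have he : N ⊔ (P : Subgroup X) = (Q : Subgroup (X ⧸ N)).comap π := by
    show N ⊔ (P : Subgroup X) = ((P : Subgroup X).map π).comap π
    rw [Subgroup.comap_map_eq, QuotientGroup.ker_mk', sup_comm]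
  rw [he]
  infer_instance

open scoped Classical in
theorem isSimpleGroup_of_sixty {X : Type*} [Group X] [Finite X] (h60 : Nat.card X = 60)
    (hn : ∀ N : Subgroup X, N.Normal → Nat.card N ≠ 5) : IsSimpleGroup X := by
  haveI : Fact (Nat.Prime 5) := ⟨by norm_num⟩
  haveI : Fact (Nat.Prime 3) := ⟨by norm_num⟩
  have hsix := card_sylow_five h60 hn
  let P : Sylow 5 X := default
  have hP : Nat.card P = 5 := by
    have h1 := P.card_dvd_index
    rw [hsix] at h1
    obtain ⟨k, hk⟩ := P.2.exists_card_eq
    have h2 : Nat.card P ∣ 60 := h60 ▸ Subgroup.card_subgroup_dvd_card _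
    have h3 : 5 ∣ Nat.card P := P.dvd_card_of_dvd_card (by rw [h60]; norm_num)
    rw [hk] at h2 h3 ⊢
    have : k ≤ 1 := by
      by_contra hh
      have : 5 ^ 2 ∣ 60 := (pow_dvd_pow 5 (by omega : 2 ≤ k)).trans h2
      norm_num at this
    interval_cases k
    · norm_num at h3
    · norm_num
  -- a normal subgroup containing one Sylow `5`-subgroup is everything
  have hbig : ∀ N : Subgroup X, N.Normal → 5 ∣ Nat.card N → N = ⊤ := by
    intro N hN h5
    obtain ⟨x, hx⟩ := exists_prime_orderOf_dvd_card' 5 h5
    have hxP : IsPGroup 5 (Subgroup.zpowers (x : X)) :=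
      IsPGroup.of_card (n := 1) (by rw [Nat.card_zpowers, Subgroup.orderOf_coe, hx, pow_one])
    obtain ⟨Q₀, hQ₀⟩ := hxP.exists_le_sylow
    have hQcard : ∀ Q : Sylow 5 X, Nat.card Q = 5 := fun Q => by
      rw [Q.card_eq_multiplicity, ← P.card_eq_multiplicity, hP]
    have hle : ∀ Q : Sylow 5 X, (Q : Subgroup X) ≤ N := by
      intro Q
      have e0 : (Q₀ : Subgroup X) = Subgroup.zpowers (x : X) := (Subgroup.eq_of_le_of_card_ge hQ₀ (by
        rw [Nat.card_zpowers, Subgroup.orderOf_coe, hx, hQcard])).symm
      obtain ⟨g, rfl⟩ := MulAction.exists_smul_eq X Q₀ Q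
      rw [Sylow.smul_def, Sylow.pointwise_smul_def]
      rintro _ ⟨z, hz, rfl⟩
      rw [e0] at hz
      exact hN.conj_mem z ((Subgroup.zpowers_le.2 x.2) hz) g
    have hN6 : Nat.card (Sylow 5 N) = 6 := by
      have hN1 : ∀ Q : Sylow 5 N, Nat.card Q = 5 := fun Q => by
        have h1 : Nat.card Q ∣ 60 := (Subgroup.card_subgroup_dvd_card _).trans (h60 ▸ Subgroup.card_subgroup_dvd_card N)
        obtain ⟨k, hk⟩ := Q.2.exists_card_eq
        have h3 := Q.dvd_card_of_dvd_card h5
        rw [hk] at h1 h3 ⊢
        have : k ≤ 1 := by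
          by_contra hh
          have : 5 ^ 2 ∣ 60 := (pow_dvd_pow 5 (by omega : 2 ≤ k)).trans h1
          norm_num at this
        interval_cases k
        · norm_num at h3
        · norm_num
      rw [← hsix]
      refine Nat.card_congr (Equiv.ofBijective
        (fun Q : Sylow 5 N => (⟨(Q : Subgroup N).map N.subtype, Q.2.map _, ?_⟩ : Sylow 5 X)) ⟨?_, ?_⟩)
      · intro R hR hle'
        refine (Subgroup.eq_of_le_of_card_ge hle' ?_).symm
        obtain ⟨R', hR'⟩ := hR.exists_le_sylow
        calc Nat.card R ≤ Nat.card R' := Subgroup.card_le_of_le hR'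
          _ = 5 := hQcard R'
          _ = _ := by rw [← Nat.card_congr ((Q : Subgroup N).equivMapOfInjective _ N.subtype_injective).toEquiv, hN1]
      · intro Q R h
        exact Sylow.ext (Subgroup.map_injective N.subtype_injective (congrArg (fun S : Sylow 5 X => (S : Subgroup X)) h))
      · intro Q
        exact ⟨Q.subtype (hle Q), Sylow.ext (by
          show ((Q.subtype (hle Q) : Sylow 5 N) : Subgroup N).map N.subtype = _
          rw [Sylow.coe_subtype, Subgroup.subgroupOf_map_subtype, inf_eq_left.2 (hle Q)])⟩
    have hdiv : 30 ∣ Nat.card N := by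
      let Q : Sylow 5 N := default
      have h6 : 6 ∣ Nat.card N :=
        hN6 ▸ (Q.card_dvd_index.trans (Subgroup.index_dvd_card _))
      exact (show Nat.Coprime 5 6 by norm_num).mul_dvd_of_dvd_of_dvd h5 h6
    have hdvd60 : Nat.card N ∣ 60 := h60 ▸ Subgroup.card_subgroup_dvd_card N
    rcases Nat.lt_or_ge (Nat.card N) 60 with hlt | hge
    · exfalso
      have h30 : Nat.card N = 30 := by
        obtain ⟨c, hc⟩ := hdiv
        have := Nat.card_pos (α := N)
        omega
      -- count elements of order `3` and `5`
      let Q : Sylow 3 N := default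
      have h3 : Nat.card Q = 3 := by
        rw [Q.card_eq_multiplicity, h30]
        rw [show (30 : ℕ).factorization 3 = 1 from by
          exact factorization_one (m := 10) (by norm_num) (by norm_num) (by norm_num)]
        norm_num
      obtain ⟨R⟩ : Nonempty (Sylow 5 N) := inferInstance
      have hR : Nat.card R = 5 := by
        rw [R.card_eq_multiplicity, h30]
        rw [show (30 : ℕ).factorization 5 = 1 from by
          exact factorization_one (m := 6) (by norm_num) (by norm_num) (by norm_num)]
        norm_num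
      exact six_five_thirty h30 hN6
    · exact Subgroup.eq_top_of_le_card N (h60 ▸ hge)
  haveI : Nontrivial X := Finite.one_lt_card_iff_nontrivial.1 (by omega)
  refine ⟨fun N hN => ?_⟩
  by_cases h5 : 5 ∣ Nat.card N
  · exact Or.inr (hbig N hN h5)
  left
  by_contra hne
  -- the preimage of the Sylow `5`-subgroup of the quotient
  haveI := hN
  have hcN : (Nat.card N).Coprime 5 := ((Nat.Prime.coprime_iff_not_dvd (by norm_num)).2 h5).symm
  set M := N ⊔ (P : Subgroup X)
  have hMcard : Nat.card M = Nat.card N * 5 := by
    have hd : Disjoint N (P : Subgroup X) := disjoint_iff.2 (Subgroup.inf_eq_bot_of_coprime (by rwa [hP]))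
    rw [← hP, ← Nat.card_prod]
    refine (Nat.card_congr (Equiv.ofBijective (fun z : N × (P : Subgroup X) => (⟨(z.1 : X) * z.2,
      Subgroup.mul_mem_sup z.1.2 z.2.2⟩ : M)) ⟨?_, ?_⟩)).symm
    · rintro ⟨a, b⟩ ⟨c, d⟩ h
      exact Subgroup.mul_injective_of_disjoint hd (congrArg Subtype.val h)
    · rintro ⟨z, hz⟩
      obtain ⟨a, ha, b, hb, rfl⟩ := Subgroup.mem_sup_of_normal_left.1 hz
      exact ⟨(⟨a, ha⟩, ⟨b, hb⟩), rfl⟩
  by_cases hMn : M.Normal
  · have hM := hbig M hMn (by rw [hMcard]; exact dvd_mul_left _ _)
    have hN12 : Nat.card N = 12 := by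
      have := hMcard
      rw [hM, Subgroup.card_top, h60] at this
      omega
    -- `P` normalizes a Sylow `3`-subgroup of `N`
    letI : MulAction (P : Subgroup X) (Sylow 3 N) := MulAction.compHom _
      ((MulAut.conjNormal (H := N)).comp (P : Subgroup X).subtype)
    have hs3 : Nat.card (Sylow 3 N) = 1 ∨ Nat.card (Sylow 3 N) = 4 := by
      have h1 := card_sylow_modEq_one 3 N
      let Q : Sylow 3 N := default
      have h2 : Nat.card (Sylow 3 N) ∣ 4 := by
        have := Q.card_dvd_index
        have hi : (Q : Subgroup N).index = 4 := by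
          have hm := (Q : Subgroup N).card_mul_index
          rw [Q.card_eq_multiplicity, hN12, show (12 : ℕ).factorization 3 = 1 from by
            exact factorization_one (m := 4) (by norm_num) (by norm_num) (by norm_num)] at hm
          omega
        rwa [hi] at this
      have := Nat.le_of_dvd (by norm_num) h2
      unfold Nat.ModEq at h1
      interval_cases h : Nat.card (Sylow 3 N) <;> simp_all
    obtain ⟨Q, hQ⟩ := (P.2).nonempty_fixed_point_of_prime_not_dvd_card (Sylow 3 N)
      (by rcases hs3 with h | h <;> rw [h] <;> norm_num)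
    -- an element of order `3` normalized by, hence centralizing, `P`
    let Q' : Subgroup X := (Q : Subgroup N).map N.subtype
    have hQ'card : Nat.card Q' = 3 := by
      rw [← Nat.card_congr ((Q : Subgroup N).equivMapOfInjective _ N.subtype_injective).toEquiv,
        Q.card_eq_multiplicity, hN12, show (12 : ℕ).factorization 3 = 1 from by
          exact factorization_one (m := 4) (by norm_num) (by norm_num) (by norm_num)]
      norm_num
    have hPQ : (P : Subgroup X) ≤ Subgroup.normalizer (Q' : Set X) := by
      intro p hp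
      refine Subgroup.mem_normalizer_fintype ?_
      rintro _ ⟨q, hq, rfl⟩
      refine ⟨MulAut.conjNormal p q, ?_, MulAut.conjNormal_apply p q⟩
      have e : (MulAut.conjNormal p : MulAut N) • Q = Q := hQ ⟨p, hp⟩
      rw [← e]
      exact ⟨q, hq, rfl⟩
    let ψ := (Q'.normalizerMonoidHom).comp (Subgroup.inclusion hPQ)
    have hψ : ψ.range = ⊥ := by
      rw [← Subgroup.card_eq_one]
      have h1 : Nat.card ψ.range ∣ 5 := (Subgroup.card_range_dvd ψ).trans hP.dvd
      have h2 : Nat.card ψ.range ≤ 2 := (Subgroup.card_le_card_group _).trans (by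
        haveI : IsCyclic Q' := isCyclic_of_prime_card hQ'card
        rw [IsCyclic.card_mulAut, hQ'card]
        decide)
      rcases (Nat.dvd_prime (by norm_num)).1 h1 with h | h <;> omega
    have hQH : Q' ≤ Subgroup.normalizer ((P : Subgroup X) : Set X) := by
      intro q hq
      refine Subgroup.mem_normalizer_fintype fun p hp => ?_
      have hpp : ψ ⟨p, hp⟩ = 1 := by
        have : ψ ⟨p, hp⟩ ∈ ψ.range := ⟨_, rfl⟩
        rwa [hψ, Subgroup.mem_bot] at this
      have := congrArg Subtype.val (congrArg (fun f : MulAut Q' => f ⟨q, hq⟩) hpp)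
      replace this : p * q * p⁻¹ = q := this
      have hqp : q * p = p * q := (mul_inv_eq_iff_eq_mul.1 this).symm
      rw [hqp, mul_inv_cancel_right]
      exact hp
    have h3 : 3 ∣ 10 := by
      have hidx : (Subgroup.normalizer ((P : Subgroup X) : Set X)).index = 6 := by
        rw [← hsix]; exact P.card_eq_index_normalizer.symm
      have := (Subgroup.normalizer ((P : Subgroup X) : Set X)).card_mul_index
      rw [hidx, h60] at this
      have hc := Subgroup.card_dvd_of_le hQH
      rw [hQ'card] at hc
      rwa [show Nat.card (Subgroup.normalizer ((P : Subgroup X) : Set X)) = 10 by omega] at hc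
    norm_num at h3
  · -- `P N / N` is normal in the quotient of order at most `30`
    exact hMn (normal_of_small h60 N hne h5 P hMcard)


/-- The character degree graph of a finite group has as vertices the primes dividing some irreducible complex character degree, two distinct primes being joined when their product divides some irreducible character degree; two groups have the same character degree graph when they have the same vertices and the same joined pairs. A finite group of order 60 with the same character degree graph as the alternating group A₅ (whose character degrees are 1, 3, 4, 5, so the graph has vertices 2, 3, 5 and no edges) is isomorphic to A₅. -/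
theorem result {G : Type*} [Group G] [Finite G] (hcard : Nat.card G = 60)
    (hΓ : Cfsg.degreePrimes G = Cfsg.degreePrimes (alternatingGroup (Fin 5)) ∧ Cfsg.degreeGraph G = Cfsg.degreeGraph (alternatingGroup (Fin 5))) : Nonempty (G ≃* alternatingGroup (Fin 5)) := by
  classical
  have hA : Nat.card (alternatingGroup (Fin 5)) = 60 := by
    rw [nat_card_alternatingGroup, Nat.card_fin]; rfl
  have hG : ∀ N : Subgroup G, N.Normal → Nat.card N ≠ 5 := by
    intro N hN h5
    haveI := hN
    have hmem : 5 ∈ Cfsg.degreePrimes G := by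
      rw [hΓ.1]
      refine five_mem_degreePrimes hA fun M hM hc => ?_
      rcases hM.eq_bot_or_eq_top with h | h <;> rw [h] at hc
      · rw [Subgroup.card_bot] at hc; omega
      · rw [Subgroup.card_top, hA] at hc; omega
    obtain ⟨-, d, ⟨χ, rfl⟩, hd⟩ := hmem
    obtain ⟨n, ρ, hρ, he⟩ := χ.2
    haveI : IsCyclic N := by
      haveI : Fact (Nat.Prime 5) := ⟨by norm_num⟩
      exact isCyclic_of_prime_card h5
    letI : CommGroup N := IsCyclic.commGroup
    haveI := hρ
    have hab : ∀ a ∈ N, ∀ b ∈ N, a * b = b * a := fun a ha b hb =>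
      congrArg Subtype.val (mul_comm (⟨a, ha⟩ : N) ⟨b, hb⟩)
    have := CfsgLib.Char.finrank_dvd_index_of_abelian_normal ρ N hab
    rw [← he, show Cfsg.charDegree ρ.character = CfsgLib.Char.degree ρ.character from rfl,
      CfsgLib.Char.degree_character] at hd
    have h12 := hd.trans this
    have := N.card_mul_index
    rw [h5, hcard] at this
    omega
  haveI := isSimpleGroup_of_sixty hcard hG
  exact Cfsg.Agent.S0494.result hcard

end Cfsg.Agent.S3669
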