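import Cfsg.Statements.S4774
import Cfsg.Agent.Lib.SL2Deg.Degrees

set_option autoImplicit false
open Cfsg

namespace Cfsg.Agent.S4774

/-- Let F be a finite field of odd characteristic t with q > 5 elements and let S be isomorphic to PSL(2,F) or to SL(2,F). Then the vertices of the character degree graph of S are the primes dividing q(q²−1); the prime t is adjacent to no vertex; two distinct primes dividing q² − 1 are adjacent exactly when one of them is 2, or both divide q + 1, or both divide q − 1. -/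
theorem result (F : Type*) [Field F] [Fintype F] (t : ℕ) [Fact t.Prime] [CharP F t] (ht : t ≠ 2) (q : ℕ) (hq : Fintype.card F = q) (h5 : 5 < q) {S : Type*} [Group S] [Finite S] (hS : Nonempty (S ≃* Matrix.ProjectiveSpecialLinearGroup (Fin 2) F) ∨ Nonempty (S ≃* Matrix.SpecialLinearGroup (Fin 2) F)) : Cfsg.degreePrimes S = {r : ℕ | r.Prime ∧ r ∣ q * (q ^ 2 - 1)} ∧ ∀ r s : ℕ, (Cfsg.degreeGraph S).Adj r s ↔ (r ≠ s ∧ r.Prime ∧ s.Prime ∧ r ∣ q ^ 2 - 1 ∧ s ∣ q ^ 2 - 1 ∧ (r = 2 ∨ s = 2 ∨ (r ∣ q + 1 ∧ s ∣ q + 1) ∨ (r ∣ q - 1 ∧ s ∣ q - 1))) := by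
  classical
  subst hq
  have hodd : Odd (Fintype.card F) := Nat.odd_iff.2 (FiniteField.odd_card_of_char_ne_two (by
    rw [ringChar.eq F t]; exact ht))
  obtain ⟨k, hk⟩ := hodd
  obtain ⟨hsub, hmq, hpm⟩ := CfsgLib.SL2Deg.charDegrees_spec (F := F) (by omega) hS
  obtain ⟨hm1, hm2⟩ := hpm (by omega)
  obtain ⟨n, htp, hn⟩ := FiniteField.card F t
  have hfac : Fintype.card F ^ 2 - 1 = (Fintype.card F + 1) * (Fintype.card F - 1) := by
    rw [← Nat.sq_sub_sq, one_pow]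
  have hsplit : ∀ d ∈ Cfsg.charDegrees S, d = 1 ∨ d = Fintype.card F ∨
      d ∣ Fintype.card F + 1 ∨ d ∣ Fintype.card F - 1 := by
    intro d hd
    rcases hsub hd with rfl | rfl | rfl | rfl | ⟨-, rfl | rfl⟩
    · exact Or.inl rfl
    · exact Or.inr (Or.inl rfl)
    · exact Or.inr (Or.inr (Or.inl dvd_rfl))
    · exact Or.inr (Or.inr (Or.inr dvd_rfl))
    · exact Or.inr (Or.inr (Or.inl (Nat.div_dvd_of_dvd ⟨k + 1, by omega⟩)))
    · exact Or.inr (Or.inr (Or.inr (Nat.div_dvd_of_dvd ⟨k, by omega⟩)))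
  refine ⟨Set.ext fun r => ⟨?_, ?_⟩, fun r s => ⟨?_, ?_⟩⟩
  · rintro ⟨hr, d, hd, hrd⟩
    refine ⟨hr, ?_⟩
    rw [hfac]
    rcases hsplit d hd with rfl | rfl | h | h
    · exact absurd hrd hr.not_dvd_one
    · exact hrd.mul_right _
    · exact dvd_mul_of_dvd_right ((hrd.trans h).mul_right _) _
    · exact dvd_mul_of_dvd_right ((hrd.trans h).mul_left _) _
  · rintro ⟨hr, hrd⟩
    rw [hfac] at hrd
    refine ⟨hr, ?_⟩
    rcases (Nat.Prime.dvd_mul hr).1 hrd with h | h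
    · exact ⟨_, hmq, h⟩
    · rcases (Nat.Prime.dvd_mul hr).1 h with h | h
      · exact ⟨_, hm1, h⟩
      · exact ⟨_, hm2, h⟩
  · rintro ⟨hne, hr, hs, d, hd, hrd⟩
    rw [hfac]
    rcases hsplit d hd with rfl | rfl | h | h
    · exact absurd (Nat.eq_one_of_mul_eq_one_right (Nat.dvd_one.1 hrd)) hr.ne_one
    · rw [hn] at hrd
      exact absurd (((Nat.prime_dvd_prime_iff_eq hr htp).1 (hr.dvd_of_dvd_pow
        ((dvd_mul_right r s).trans hrd))).trans ((Nat.prime_dvd_prime_iff_eq hs htp).1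
        (hs.dvd_of_dvd_pow ((dvd_mul_left s r).trans hrd))).symm) hne
    · have h1 := ((dvd_mul_right r s).trans hrd).trans h
      have h2 := ((dvd_mul_left s r).trans hrd).trans h
      exact ⟨hne, hr, hs, h1.mul_right _, h2.mul_right _, Or.inr (Or.inr (Or.inl ⟨h1, h2⟩))⟩
    · have h1 := ((dvd_mul_right r s).trans hrd).trans h
      have h2 := ((dvd_mul_left s r).trans hrd).trans h
      exact ⟨hne, hr, hs, h1.mul_left _, h2.mul_left _, Or.inr (Or.inr (Or.inr ⟨h1, h2⟩))⟩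
  · rintro ⟨hne, hr, hs, hr2, hs2, hcase⟩
    rw [hfac] at hr2 hs2
    have hcop : Nat.Coprime r s := (Nat.coprime_primes hr hs).2 hne
    refine ⟨hne, hr, hs, ?_⟩
    have h2p : 2 ∣ Fintype.card F + 1 := ⟨k + 1, by omega⟩
    have h2m : 2 ∣ Fintype.card F - 1 := ⟨k, by omega⟩
    have both : (r ∣ Fintype.card F + 1 ∧ s ∣ Fintype.card F + 1) ∨
        (r ∣ Fintype.card F - 1 ∧ s ∣ Fintype.card F - 1) := by
      rcases hcase with rfl | rfl | h | h
      · rcases (Nat.Prime.dvd_mul hs).1 hs2 with h | h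
        · exact Or.inl ⟨h2p, h⟩
        · exact Or.inr ⟨h2m, h⟩
      · rcases (Nat.Prime.dvd_mul hr).1 hr2 with h | h
        · exact Or.inl ⟨h, h2p⟩
        · exact Or.inr ⟨h, h2m⟩
      · exact Or.inl h
      · exact Or.inr h
    rcases both with ⟨h1, h2⟩ | ⟨h1, h2⟩
    · exact ⟨_, hm1, hcop.mul_dvd_of_dvd_of_dvd h1 h2⟩
    · exact ⟨_, hm2, hcop.mul_dvd_of_dvd_of_dvd h1 h2⟩

end Cfsg.Agent.S4774
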