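import Cfsg.Statements.S3933
import Mathlib
import Cfsg.Agent.Lib.Char.Burnside

/-!
# All Sylow numbers prime powers implies solvable

The hypothesis passes to normal subgroups and quotients.  In a non-abelian simple group, if the
normalizer `N` of a nontrivial `X` has `s`-power index then `G = S N` for a Sylow `s`-subgroup `S`,
so `X` and `S` lie in no common proper subgroup.  With the normalizers of Sylow subgroups for a
third prime this forces at most two primes, and Burnside's theorem finishes the proof.
-/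

set_option autoImplicit false
set_option linter.style.haveILetI false
open Cfsg

namespace Cfsg.Agent.S3933

open Subgroup

universe u

/-- A subgroup of `s`-power index is supplemented by every Sylow `s`-subgroup. -/
theorem exists_mul_of_index_pow {G : Type*} [Group G] [Finite G] {s a : ℕ} [Fact s.Prime]
    (H : Subgroup G) (hH : H.index = s ^ a) (S : Sylow s G) (g : G) :
    ∃ x ∈ (S : Subgroup G), ∃ y ∈ H, g = x * y := by
  classical
  have hs : s.Prime := Fact.out
  obtain ⟨i, hi⟩ := IsPGroup.iff_card.1 S.2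
  have hI : Nat.card (H ⊓ (S : Subgroup G) : Subgroup G) ∣ s ^ i :=
    hi ▸ card_dvd_of_le inf_le_right
  obtain ⟨j, -, hj⟩ := (Nat.dvd_prime_pow hs).1 hI
  have hjH : s ^ j ∣ Nat.card H := hj ▸ card_dvd_of_le inf_le_left
  have hS : s ^ (j + a) ∣ s ^ i := by
    have h1 : s ^ (j + a) ∣ Nat.card G := by
      rw [← H.card_mul_index, hH, pow_add]; exact mul_dvd_mul_right hjH _
    rw [← hi, S.card_eq_multiplicity]
    exact pow_dvd_pow _ ((hs.pow_dvd_iff_le_factorization Nat.card_pos.ne').1 h1)
  have hmul : s ^ j * H.relIndex (S : Subgroup G) = s ^ i := by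
    rw [← hj, ← hi, ← inf_relIndex_right H (S : Subgroup G), Subgroup.relIndex,
      ← Nat.card_congr (subgroupOfEquivOfLe (inf_le_right : H ⊓ (S : Subgroup G) ≤ S)).toEquiv,
      card_mul_index]
  have hge : H.index ≤ H.relIndex (S : Subgroup G) := by
    rw [hH]
    refine Nat.le_of_mul_le_mul_left ?_ (pow_pos hs.pos j)
    rw [hmul, ← pow_add]
    exact Nat.le_of_dvd (pow_pos hs.pos i) hS
  -- the orbit map `S / (H ∩ S) → G / H` is onto
  let f : (S : Subgroup G) ⧸ H.subgroupOf (S : Subgroup G) → G ⧸ H :=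
    Quotient.lift (fun x : (S : Subgroup G) => ((x : G) : G ⧸ H)) fun x y hxy => by
      have h1 := QuotientGroup.leftRel_apply.1 hxy
      exact QuotientGroup.eq.2 (by simpa [mem_subgroupOf] using h1)
  have hf : Function.Injective f := by
    rintro ⟨x⟩ ⟨y⟩ hxy
    exact QuotientGroup.eq.2 (by simpa [mem_subgroupOf] using QuotientGroup.eq.1 hxy)
  have hsurj : Function.Surjective f := by
    have hc : Nat.card ((S : Subgroup G) ⧸ H.subgroupOf (S : Subgroup G)) = Nat.card (G ⧸ H) :=
      le_antisymm (Nat.card_le_card_of_injective f hf) hge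
    exact ((Nat.bijective_iff_injective_and_card f).2 ⟨hf, hc⟩).2
  obtain ⟨⟨x⟩, hx⟩ := hsurj (g : G ⧸ H)
  exact ⟨x, x.2, (x : G)⁻¹ * g, QuotientGroup.eq.1 hx, by group⟩

/-- In a simple group, `X` and a Sylow `s`-subgroup cannot share a proper subgroup when the
normalizer of `X` has `s`-power index. -/
theorem false_of_le {G : Type*} [Group G] [Finite G] [IsSimpleGroup G] {s a : ℕ} [Fact s.Prime]
    {X K : Subgroup G} (hK : K ≠ ⊤) (hX : X ≠ ⊥) (hXK : X ≤ K)
    (hN : (normalizer (X : Set G)).index = s ^ a) (S : Sylow s G) (hSK : (S : Subgroup G) ≤ K) :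
    False := by
  have hle : normalClosure (X : Set G) ≤ K := by
    refine closure_le _ |>.2 fun z hz => ?_
    obtain ⟨x, hx, hc⟩ := Group.mem_conjugatesOfSet_iff.1 hz
    obtain ⟨g, rfl⟩ := isConj_iff.1 hc
    obtain ⟨u, hu, v, hv, rfl⟩ := exists_mul_of_index_pow _ hN S g
    have h1 : v * x * v⁻¹ ∈ X := (mem_normalizer_iff.1 hv x).1 hx
    rw [show u * v * x * (u * v)⁻¹ = u * (v * x * v⁻¹) * u⁻¹ by group]
    exact mul_mem (mul_mem (hSK hu) (hXK h1)) (inv_mem (hSK hu))
  rcases (normalClosure_normal (s := (X : Set G))).eq_bot_or_eq_top with h | h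
  · exact hX (le_bot_iff.1 (h ▸ le_normalClosure))
  · exact hK (top_le_iff.1 (h ▸ hle))

/-- The number of Sylow subgroups of a normal subgroup divides that of the group. -/
theorem card_sylow_normal_dvd {G : Type*} [Group G] [Finite G] (r : ℕ) [Fact r.Prime]
    (N : Subgroup G) [N.Normal] : Nat.card (Sylow r N) ∣ Nat.card (Sylow r G) := by
  obtain ⟨Q⟩ := (inferInstance : Nonempty (Sylow r N))
  set M := normalizer (((Q : Subgroup N).map N.subtype : Subgroup G) : Set G) with hM
  obtain ⟨P, hP⟩ := (Q.2.map N.subtype).exists_le_sylow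
  have hPN : (Q : Subgroup N).map N.subtype = (P : Subgroup G) ⊓ N := by
    refine le_antisymm (le_inf hP (map_subtype_le _)) fun x hx => ?_
    have hsub : (Q : Subgroup N) ≤ (P : Subgroup G).comap N.subtype := map_le_iff_le_comap.1 hP
    have h1 := Q.3 (P.2.comap_of_injective N.subtype Subtype.coe_injective) hsub
    exact ⟨⟨x, hx.2⟩, h1 ▸ (mem_comap.2 hx.1), rfl⟩
  have hle : normalizer ((P : Subgroup G) : Set G) ≤ M := fun g hg => mem_normalizer_iff.2 fun x => by
    rw [hPN]
    simp only [mem_inf]
    rw [mem_normalizer_iff.1 hg x]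
    exact and_congr_right fun _ => ⟨fun hx => Normal.conj_mem inferInstance x hx g, fun hx => by
      simpa [mul_assoc] using Normal.conj_mem inferInstance _ hx g⁻¹⟩
  have hidx : Nat.card (Sylow r N) = M.index := by
    rw [Q.card_eq_index_normalizer]
    have h1 : normalizer ((Q : Subgroup N) : Set N) = M.subgroupOf N := by
      ext g
      rw [mem_subgroupOf, hM, mem_normalizer_iff, mem_normalizer_iff]
      constructor
      · intro h x
        constructor
        · rintro ⟨y, hy, rfl⟩
          exact ⟨g * y * g⁻¹, (h y).1 hy, rfl⟩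
        · rintro ⟨y, hy, he⟩
          replace he : (y : G) = (g : G) * x * (g : G)⁻¹ := he
          refine ⟨g⁻¹ * y * g, (h _).2 ?_, ?_⟩
          · rw [show g * (g⁻¹ * y * g) * g⁻¹ = y by group]; exact hy
          · show (g : G)⁻¹ * (y : G) * g = x
            rw [he]; group
      · intro h y
        have h0 := h (y : G)
        constructor
        · intro hy
          obtain ⟨z, hz, he⟩ := h0.1 ⟨y, hy, rfl⟩
          have hzy : z = g * y * g⁻¹ := Subtype.ext he
          exact hzy ▸ hz
        · intro hy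
          obtain ⟨z, hz, he⟩ := h0.2 ⟨g * y * g⁻¹, hy, rfl⟩
          exact (Subtype.ext he : z = y) ▸ hz
    rw [Sylow.coe_coe] at *
    rw [h1]
    have h2 : M ⊔ N = ⊤ := Sylow.normalizer_sup_eq_top Q
    have hr1 : N.relIndex M = N.index := by
      rw [← relIndex_sup_right M N, h2, relIndex_top_right]
    have e1 : Nat.card (M ⊓ N : Subgroup G) * M.relIndex N = Nat.card N := by
      rw [← inf_relIndex_right M N, Subgroup.relIndex,
        ← Nat.card_congr (subgroupOfEquivOfLe (inf_le_right : M ⊓ N ≤ N)).toEquiv, card_mul_index]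
    have e2 : Nat.card (M ⊓ N : Subgroup G) * N.index = Nat.card M := by
      rw [← hr1, ← inf_relIndex_right N M, inf_comm N M, Subgroup.relIndex,
        ← Nat.card_congr (subgroupOfEquivOfLe (inf_le_left : M ⊓ N ≤ M)).toEquiv, card_mul_index]
    have e3 : Nat.card M * M.index = Nat.card N * N.index := by
      rw [M.card_mul_index, N.card_mul_index]
    rw [← e1, ← e2] at e3
    show M.relIndex N = M.index
    refine (Nat.eq_of_mul_eq_mul_left (Nat.mul_pos Nat.card_pos (Nat.pos_of_ne_zero
      index_ne_zero_of_finite) : 0 < Nat.card (M ⊓ N : Subgroup G) * N.index) ?_)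
    rw [e3]; ring
  rw [hidx, P.card_eq_index_normalizer]
  exact index_dvd_of_le hle

/-- The number of Sylow subgroups of a quotient divides that of the group. -/
theorem card_sylow_quotient_dvd {G : Type*} [Group G] [Finite G] (r : ℕ) [Fact r.Prime]
    (N : Subgroup G) [N.Normal] : Nat.card (Sylow r (G ⧸ N)) ∣ Nat.card (Sylow r G) := by
  obtain ⟨P⟩ := (inferInstance : Nonempty (Sylow r G))
  have hs := QuotientGroup.mk'_surjective N
  rw [P.card_eq_index_normalizer, (P.mapSurjective hs).card_eq_index_normalizer]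
  refine dvd_trans (index_dvd_of_le ?_) (index_map_dvd (H := normalizer ((P : Subgroup G) : Set G)) hs)
  exact le_normalizer_map (QuotientGroup.mk' N)

theorem main : ∀ (n : ℕ) (G : Type u) [Group G] [Finite G], Nat.card G = n →
    (∀ (r : ℕ) [Fact r.Prime], Nat.card (Sylow r G) = 1 ∨ IsPrimePow (Nat.card (Sylow r G))) →
    Group.IsSolvable G := by
  intro n
  induction n using Nat.strong_induction_on with
  | _ n ih =>
    intro G _ _ hn h
    have hdvd : ∀ {k m : ℕ}, k ∣ m → (m = 1 ∨ IsPrimePow m) → k = 1 ∨ IsPrimePow k := by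
      intro k m hkm hm
      rcases hm with rfl | hm
      · exact Or.inl (Nat.dvd_one.1 hkm)
      · exact (em (k = 1)).imp id fun hk => hm.dvd hkm hk
    by_cases hN : ∃ N : Subgroup G, N.Normal ∧ N ≠ ⊥ ∧ N ≠ ⊤
    · obtain ⟨N, hNn, hNb, hNt⟩ := hN
      have h1 : 1 < Nat.card N := N.one_lt_card_iff_ne_bot.2 hNb
      have h2 : 1 < N.index := one_lt_index_of_ne_top hNt
      have hmul := N.card_mul_index
      have : Group.IsSolvable N := ih (Nat.card N) (by nlinarith) N rfl fun r _ =>
        hdvd (card_sylow_normal_dvd r N) (h r)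
      have : Group.IsSolvable (G ⧸ N) :=
        ih N.index (by nlinarith) (G ⧸ N) (index_eq_card N).symm fun r _ =>
          hdvd (card_sylow_quotient_dvd r N) (h r)
      exact Group.isSolvable_of_ker_le_range N.subtype (QuotientGroup.mk' N) (by simp)
    push Not at hN
    rcases subsingleton_or_nontrivial G with hG | hG
    · infer_instance
    haveI : IsSimpleGroup G := ⟨fun H hH => (em (H = ⊥)).imp id fun hb => hN H hH hb⟩
    by_contra hsol
    -- every prime divisor has nontrivial prime power Sylow number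
    have hne : ∀ (r : ℕ) [Fact r.Prime], r ∣ Nat.card G → ∀ P : Sylow r G,
        (P : Subgroup G) ≠ ⊥ ∧ normalizer ((P : Subgroup G) : Set G) ≠ ⊤ := by
      intro r hr hd P
      have hb : (P : Subgroup G) ≠ ⊥ := P.ne_bot_of_dvd_card hd
      refine ⟨hb, fun ht => hsol ?_⟩
      haveI : (P : Subgroup G).Normal := normalizer_eq_top_iff.1 ht
      have hPG : IsPGroup r G := by
        have := hN _ inferInstance hb
        intro g
        obtain ⟨k, hk⟩ := P.2 ⟨g, this ▸ mem_top g⟩
        exact ⟨k, congrArg Subtype.val hk⟩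
      haveI := hPG.isNilpotent
      infer_instance
    have hfun : ∀ (r : ℕ) [Fact r.Prime], r ∣ Nat.card G → ∃ s : ℕ, s.Prime ∧ s ≠ r ∧
        s ∣ Nat.card G ∧ ∀ P : Sylow r G, ∃ a, (normalizer ((P : Subgroup G) : Set G)).index = s ^ a := by
      intro r hr hd
      obtain ⟨P⟩ := (inferInstance : Nonempty (Sylow r G))
      have hn1 : Nat.card (Sylow r G) ≠ 1 := fun e => (hne r hd P).2
        (index_eq_one.1 (P.card_eq_index_normalizer ▸ e))
      obtain ⟨s, a, hs, ha, hsa⟩ := (isPrimePow_nat_iff _).1 ((h r).resolve_left hn1)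
      refine ⟨s, hs, fun e => ?_, ?_, fun Q => ⟨a, Q.card_eq_index_normalizer ▸ hsa.symm⟩⟩
      · refine not_dvd_card_sylow r G ?_
        rw [← hsa, e]
        exact dvd_pow_self r ha.ne'
      · exact (dvd_pow_self s ha.ne').trans (hsa ▸ P.card_eq_index_normalizer ▸
          index_dvd_card _)
    -- a Sylow subgroup for another prime lies in a normalizer of prime power index
    have hcov : ∀ {s a t : ℕ} [Fact t.Prime] {H : Subgroup G}, s.Prime → H.index = s ^ a → t ≠ s →
        ∃ T : Sylow t G, (T : Subgroup G) ≤ H := by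
      intro s a t _ H hs hH hts
      obtain ⟨T₀⟩ := (inferInstance : Nonempty (Sylow t H))
      obtain ⟨T, hT⟩ := (T₀.2.map H.subtype).exists_le_sylow
      refine ⟨T, ?_⟩
      have hcard : Nat.card ((T₀ : Subgroup H).map H.subtype) = Nat.card T := by
        rw [card_map_of_injective H.subtype_injective, T₀.card_eq_multiplicity,
          T.card_eq_multiplicity, ← H.card_mul_index, hH,
          Nat.factorization_mul Nat.card_pos.ne' (pow_ne_zero _ hs.ne_zero), Finsupp.add_apply,
          hs.factorization_pow, Finsupp.single_apply, if_neg hts.symm, add_zero]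
      rw [← eq_of_le_of_card_ge hT hcard.ge]
      exact map_subtype_le _
    -- mutual
    have hmut : ∀ {r s : ℕ} [Fact r.Prime] [Fact s.Prime], r ∣ Nat.card G → s ∣ Nat.card G →
        (∀ P : Sylow r G, ∃ a, (normalizer ((P : Subgroup G) : Set G)).index = s ^ a) →
        ∀ v : ℕ, v.Prime →
        (∀ P : Sylow s G, ∃ a, (normalizer ((P : Subgroup G) : Set G)).index = v ^ a) → v = r := by
      intro r s _ _ hr hs hrs v hv hsv
      by_contra hvr
      obtain ⟨S⟩ := (inferInstance : Nonempty (Sylow s G))
      obtain ⟨b, hb⟩ := hsv S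
      obtain ⟨R, hR⟩ := hcov (t := r) hv hb (Ne.symm hvr)
      obtain ⟨a, ha⟩ := hrs R
      exact false_of_le (hne s hs S).2 (hne r hr R).1 hR ha S le_normalizer
    -- pick `r`
    obtain ⟨r, hr, hrd⟩ := Nat.exists_prime_and_dvd (Finite.one_lt_card (α := G)).ne'
    haveI := Fact.mk hr
    obtain ⟨s, hs, hsr, hsd, hrs⟩ := hfun r hrd
    haveI := Fact.mk hs
    have htwo : ∀ t : ℕ, t.Prime → t ∣ Nat.card G → t = r ∨ t = s := by
      intro t ht htd
      by_contra hne'
      push Not at hne'
      haveI := Fact.mk ht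
      obtain ⟨v, hv, hvt, hvd, htv⟩ := hfun t htd
      haveI := Fact.mk hv
      obtain ⟨w, hw, -, -, hvw⟩ := hfun v hvd
      obtain ⟨x, hx, -, -, hsx⟩ := hfun s hsd
      have hxr : x = r := hmut hrd hsd hrs x hx hsx
      subst hxr
      have hvs : v ≠ s := fun e => by subst e; exact hne'.1 (hmut htd hvd htv x hx hsx).symm
      obtain ⟨R⟩ := (inferInstance : Nonempty (Sylow x G))
      obtain ⟨a, ha⟩ := hrs R
      obtain ⟨T, hT⟩ := hcov (t := t) hs ha hne'.2
      obtain ⟨U, hU⟩ := hcov (t := v) hs ha hvs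
      obtain ⟨b, hb⟩ := htv T
      exact false_of_le (hne x hrd R).2 (hne t htd T).1 hT hb U hU
    refine hsol ?_
    exact CfsgLib.Char.isSolvable_of_card_eq_prime_pow_mul hr hs
      (a := (Nat.card G).factorization r) (b := (Nat.card G).factorization s)
      (eq_pow_mul_pow hr hs hsr.symm Nat.card_pos.ne' htwo)
where
  eq_pow_mul_pow {r s n : ℕ} (hr : r.Prime) (hs : s.Prime) (hrs : r ≠ s) (hn : n ≠ 0)
      (h : ∀ t : ℕ, t.Prime → t ∣ n → t = r ∨ t = s) :
      n = r ^ n.factorization r * s ^ n.factorization s := by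
    refine Nat.eq_of_factorization_eq hn (mul_ne_zero (pow_ne_zero _ hr.ne_zero) (pow_ne_zero _ hs.ne_zero)) fun t => ?_
    rw [Nat.factorization_mul (pow_ne_zero _ hr.ne_zero) (pow_ne_zero _ hs.ne_zero), Finsupp.add_apply,
      hr.factorization_pow, hs.factorization_pow, Finsupp.single_apply, Finsupp.single_apply]
    by_cases h1 : r = t
    · subst h1; simp [hrs.symm]
    by_cases h2 : s = t
    · subst h2; simp [hrs]
    rw [if_neg h1, if_neg h2]
    rw [add_zero, Nat.factorization_eq_zero_iff]
    rcases em t.Prime with ht | ht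
    · exact Or.inr (Or.inl fun hd => by rcases h t ht hd with e | e <;> simp [e] at h1 h2)
    · exact Or.inl ht

/-- If for every prime r the number of Sylow r-subgroups of the finite group G is a prime power or 1, then G is solvable. -/
theorem result {G : Type*} [Group G] [Finite G] (h : ∀ (r : ℕ) [Fact r.Prime], Nat.card (Sylow r G) = 1 ∨ IsPrimePow (Nat.card (Sylow r G))) :
    Group.IsSolvable G :=
  main _ G rfl h

end Cfsg.Agent.S3933
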