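import Cfsg.Statements.S4341

set_option autoImplicit false
open Pointwise
open Cfsg

namespace Cfsg.Agent.S4341

variable {G : Type*} [Group G] [Finite G] {p : ℕ} [Fact p.Prime]

omit [Finite G] in
theorem relIndex_eq_of_forall_exists {A B L : Subgroup G} (hLB : L ≤ B)
    (h : ∀ b ∈ B, ∃ l ∈ L, l⁻¹ * b ∈ A) : A.relIndex B = A.relIndex L := by
  symm
  refine Nat.card_congr (Equiv.ofBijective (Quotient.map' (Subgroup.inclusion hLB) ?_) ⟨?_, ?_⟩)
  · intro a b hab
    rw [QuotientGroup.leftRel_apply] at hab ⊢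
    exact hab
  · rintro ⟨a⟩ ⟨b⟩ hab
    have h1 := QuotientGroup.eq.1 hab
    exact QuotientGroup.eq.2 h1
  · rintro ⟨⟨b, hb⟩⟩
    obtain ⟨l, hl, hla⟩ := h b hb
    exact ⟨((⟨l, hl⟩ : L) : L ⧸ A.subgroupOf L), QuotientGroup.eq.2 hla⟩

theorem card_sylow_quotient_normal (M : Subgroup G) [M.Normal] (P : Sylow p G) :
    Nat.card (Sylow p (G ⧸ M)) =
      (Subgroup.normalizer (((P : Subgroup G) ⊔ M : Subgroup G) : Set G)).index := by
  have h := (P.mapSurjective (QuotientGroup.mk'_surjective M)).card_eq_index_normalizer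
  rw [h, ← Subgroup.index_comap_of_surjective _ (QuotientGroup.mk'_surjective M)]
  congr 1
  have := Subgroup.comap_normalizer_eq_of_surjective
    ((P : Subgroup G).map (QuotientGroup.mk' M)) (QuotientGroup.mk'_surjective M)
  rw [Subgroup.comap_map_eq, QuotientGroup.ker_mk'] at this
  exact this

theorem card_sylow_relIndex (K : Subgroup G) (P : Sylow p K) :
    Nat.card (Sylow p K) =
      (Subgroup.normalizer (((P : Subgroup K).map K.subtype : Subgroup G) : Set G)).relIndex K := by
  have h : (((P : Subgroup K).map K.subtype).subgroupOf K) = (P : Subgroup K) :=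
    Subgroup.comap_map_eq_self_of_injective K.subtype_injective _
  rw [P.card_eq_index_normalizer, Subgroup.relIndex,
    Subgroup.subgroupOf_normalizer_eq (Subgroup.map_subtype_le _), h]
  rfl

/-- The Sylow number of a group from a normal subgroup. -/
theorem result {G : Type*} [Group G] [Finite G]
    (p : ℕ) [Fact p.Prime] (K : Subgroup G) [K.Normal] (P : Sylow p G) (N : Subgroup G)
    (hN : N = ((P : Subgroup G) ⊔ K) ⊓ Subgroup.normalizer (((P : Subgroup G) ⊓ K : Subgroup G) : Set G))
    [hn : (((P : Subgroup G) ⊓ K).subgroupOf N).Normal] :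
    Nat.card (Sylow p G) =
      Nat.card (Sylow p (G ⧸ K)) * Nat.card (Sylow p K) * Nat.card (Sylow p (N ⧸ ((P : Subgroup G) ⊓ K).subgroupOf N)) := by
  set D := (P : Subgroup G) ⊓ K with hD
  set L := (P : Subgroup G) ⊔ K with hL
  set NP := Subgroup.normalizer ((P : Subgroup G) : Set G) with hNP
  set B := Subgroup.normalizer (L : Set G) with hB
  have hPL : (P : Subgroup G) ≤ L := le_sup_left
  have hKL : K ≤ L := le_sup_right
  have hconjD : ∀ g ∈ NP, g ∈ Subgroup.normalizer (D : Set G) := by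
    intro g hg
    exact (Subgroup.inf_normalizer_le_normalizer_inf ⟨hg, by
      rw [Subgroup.normalizer_eq_top]; exact Subgroup.mem_top g⟩)
  have hNPB : NP ≤ B := by
    intro g hg
    rw [hB, Subgroup.mem_normalizer_iff_map_conj_eq, hL, Subgroup.map_sup]
    congr 1
    · exact Subgroup.mem_normalizer_iff_map_conj_eq.1 hg
    · exact Subgroup.mem_normalizer_iff_map_conj_eq.1
        (by rw [Subgroup.normalizer_eq_top]; exact Subgroup.mem_top g)
  -- Frattini argument in B
  have h2 : NP.relIndex B = NP.relIndex L := by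
    apply relIndex_eq_of_forall_exists Subgroup.le_normalizer
    intro b hb
    have hbP : ((b • P : Sylow p G) : Subgroup G) ≤ L := by
      rintro y ⟨z, hz, rfl⟩
      exact (hb z).1 (hPL hz)
    obtain ⟨l, hl⟩ := MulAction.exists_smul_eq L (P.subtype hPL) ((b • P).subtype hbP)
    rw [Sylow.smul_subtype] at hl
    have h3 : (l : G) • P = b • P := Sylow.subtype_injective hl
    refine ⟨l, l.2, Sylow.smul_eq_iff_mem_normalizer.1 ?_⟩
    rw [mul_smul, ← h3, inv_smul_smul]
  have hNL : N ≤ L := hN ▸ inf_le_left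
  have hPN : (P : Subgroup G) ≤ N := hN ▸ le_inf hPL (fun g hg => hconjD g (Subgroup.le_normalizer hg))
  have h4 : NP.relIndex L = NP.relIndex N * N.relIndex L := by
    rw [← Subgroup.inf_relIndex_right NP L, ← Subgroup.relIndex_mul_relIndex (NP ⊓ L) N L ?_ hNL]
    · congr 1
      rw [← Subgroup.inf_relIndex_right, inf_assoc, inf_eq_right.2 hNL, Subgroup.inf_relIndex_right]
    · exact fun g hg => hN ▸ ⟨hg.2, hconjD g hg.1⟩
  obtain ⟨QK, hQK⟩ : ∃ Q : Sylow p K, (Q : Subgroup K) = (P : Subgroup G).subgroupOf K := by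
    obtain ⟨Q, hQ⟩ := (P.isPGroup'.comap_of_injective K.subtype K.subtype_injective).exists_le_sylow
    obtain ⟨R, hR⟩ := Q.exists_comap_subtype_eq
    obtain ⟨g, hg⟩ := MulAction.exists_smul_eq G P R
    refine ⟨Q, (Subgroup.eq_of_le_of_card_ge hQ ?_).symm⟩
    -- the intersections of conjugate Sylow subgroups with K have equal order
    have hR' : (R : Subgroup G) ⊓ K = MulAut.conj g • ((P : Subgroup G) ⊓ K) := by
      rw [Subgroup.smul_inf, Subgroup.Normal.conj_smul_eq_self g K, ← hg]; rfl
    change Nat.card (Q : Subgroup K) ≤ Nat.card ((P : Subgroup G).subgroupOf K)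
    rw [← hR]
    change Nat.card ((R : Subgroup G).subgroupOf K) ≤ _
    rw [← Subgroup.inf_subgroupOf_right, Nat.card_congr (Subgroup.subgroupOfEquivOfLe inf_le_right).toEquiv,
      hR', ← Subgroup.inf_subgroupOf_right (P : Subgroup G) K,
      Nat.card_congr (Subgroup.subgroupOfEquivOfLe (inf_le_right : (P : Subgroup G) ⊓ K ≤ K)).toEquiv]
    exact (Nat.card_congr (Subgroup.equivSMul (MulAut.conj g) _).toEquiv).ge
  have h5 : Nat.card (Sylow p K) = N.relIndex L := by
    rw [card_sylow_relIndex K QK, hQK, Subgroup.subgroupOf_map_subtype, hN,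
      Subgroup.inf_relIndex_left, ← relIndex_eq_of_forall_exists hKL]
    intro b hb
    rw [hL, sup_comm] at hb
    obtain ⟨k, hk, y, hy, rfl⟩ := (Subgroup.mem_sup_of_normal_left (s := K) (t := (P : Subgroup G))).1 hb
    exact ⟨k, hk, by rw [inv_mul_cancel_left]; exact hconjD y (Subgroup.le_normalizer hy)⟩
  have h6 : Nat.card (Sylow p (N ⧸ D.subgroupOf N)) = NP.relIndex N := by
    rw [card_sylow_quotient_normal (D.subgroupOf N) (P.subtype hPN)]
    have : ((P.subtype hPN : Sylow p N) : Subgroup N) ⊔ D.subgroupOf N =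
        (P : Subgroup G).subgroupOf N := by
      rw [Sylow.coe_subtype, sup_eq_left]
      exact fun x hx => hx.1
    rw [this, ← Subgroup.subgroupOf_normalizer_eq hPN]
    rfl
  rw [h5, h6, card_sylow_quotient_normal K P, P.card_eq_index_normalizer, mul_assoc,
    mul_comm (N.relIndex L), ← h4, ← h2, ← hB, mul_comm, Subgroup.relIndex_mul_index hNPB]
  rfl

end Cfsg.Agent.S4341
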