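import Cfsg.Statements.S4343

set_option autoImplicit false
open Pointwise
open Cfsg

namespace Cfsg.Agent.S4343

/-- Simple group with fewer than p² Sylow p-subgroups has Sylow of order p. -/
theorem result {S : Type*} [Group S] [Finite S]
    [IsSimpleGroup S] (hS : ¬ IsMulCommutative S) (p : ℕ) [hpf : Fact p.Prime] (hp : p ∣ Nat.card S)
    (hn : Nat.card (Sylow p S) < p ^ 2) (P : Sylow p S) : Nat.card P = p := by
  -- the intersection of all Sylow subgroups is trivial
  have hbot : ∀ x : S, (∀ Q : Sylow p S, x ∈ Q) → x = 1 := by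
    intro x hx
    let N := Subgroup.normalClosure ({x} : Set S)
    have hN : ∀ Q : Sylow p S, N ≤ Q := by
      intro Q
      refine (Subgroup.closure_le _).2 ?_
      intro y hy
      obtain ⟨z, hz, hzy⟩ := Group.mem_conjugatesOfSet_iff.1 hy
      obtain ⟨g, rfl⟩ := isConj_iff.1 hzy
      obtain rfl : z = x := hz
      have : z ∈ (g⁻¹ • Q : Sylow p S) := hx _
      have h2 : z ∈ MulAut.conj g⁻¹ • (Q : Subgroup S) := this
      rw [Subgroup.mem_pointwise_smul_iff_inv_smul_mem] at h2
      simp [MulAut.smul_def] at h2 ⊢; exact h2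
    rcases (inferInstance : N.Normal).eq_bot_or_eq_top with h | h
    · have : x ∈ N := Subgroup.subset_normalClosure rfl
      rwa [h, Subgroup.mem_bot] at this
    · exfalso
      have hP : (P : Subgroup S) = ⊤ := top_le_iff.1 (h ▸ hN P)
      have : IsPGroup p S := (hP ▸ P.isPGroup' : IsPGroup p (⊤ : Subgroup S)).of_equiv Subgroup.topEquiv
      have hc := this.center_nontrivial
      rcases (inferInstance : (Subgroup.center S).Normal).eq_bot_or_eq_top with h2 | h2
      · rw [h2] at hc
        exact false_of_nontrivial_of_subsingleton (⊥ : Subgroup S)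
      · exact hS ⟨⟨fun a b => (Subgroup.mem_center_iff.1 (h2 ▸ Subgroup.mem_top b)) a⟩⟩
  have hstab : ∀ A B : Sylow p S, ((A : Subgroup S) ⊓ B).relIndex A ≤ Nat.card (Sylow p S) := by
    intro A B
    have h1 : MulAction.stabilizer (A : Subgroup S) B = (B : Subgroup S).subgroupOf A := by
      rw [← Subgroup.inf_subgroupOf_left, ← IsPGroup.inf_normalizer_sylow A.isPGroup' B,
        Subgroup.inf_subgroupOf_left]
      ext a
      simp [MulAction.mem_stabilizer_iff, Subgroup.mem_subgroupOf, Subgroup.smul_def,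
        Sylow.smul_eq_iff_mem_normalizer]
    rw [Subgroup.inf_relIndex_left, Subgroup.relIndex, ← h1, MulAction.index_stabilizer]
    exact Set.ncard_le_card _
  -- Sylow subgroups are abelian
  have hab : ∀ A : Sylow p S, ∀ a ∈ A, ∀ b ∈ A, a * b = b * a := by
    intro A a ha b hb
    have key : ∀ B : Sylow p S, a * b * a⁻¹ * b⁻¹ ∈ B := by
      intro B
      let J : Subgroup (A : Subgroup S) := (B : Subgroup S).subgroupOf A
      obtain ⟨k, hk⟩ := A.isPGroup'.index J
      have hle : p ^ k < p ^ 2 := by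
        rw [← hk]
        have := hstab A B
        rw [Subgroup.inf_relIndex_left] at this
        exact lt_of_le_of_lt this hn
      have hk2 : k < 2 := (Nat.pow_lt_pow_iff_right hpf.out.one_lt).1 hle
      interval_cases k
      · rw [pow_zero, Subgroup.index_eq_one] at hk
        have : (⟨a, ha⟩ * ⟨b, hb⟩ * ⟨a, ha⟩⁻¹ * ⟨b, hb⟩⁻¹ : (A : Subgroup S)) ∈ J :=
          hk ▸ Subgroup.mem_top _
        exact this
      · rw [pow_one] at hk
        obtain ⟨m, hm⟩ := IsPGroup.iff_card.1 A.isPGroup'
        have hm0 : m ≠ 0 := by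
          rintro rfl
          have := Subgroup.index_dvd_card J
          rw [hm, pow_zero, hk] at this
          exact hpf.out.ne_one (Nat.dvd_one.1 this)
        have hmin : (Nat.card (A : Subgroup S)).minFac = p := by
          rw [hm, Nat.pow_minFac hm0, hpf.out.minFac_eq]
        have : J.Normal := Subgroup.normal_of_index_eq_minFac_card (hk.trans hmin.symm)
        have : IsCyclic ((A : Subgroup S) ⧸ J) :=
          isCyclic_of_prime_card (p := p) (by rw [← Subgroup.index_eq_card, hk])
        have hcomm := (IsCyclic.isMulCommutative (α := (A : Subgroup S) ⧸ J)).is_comm.comm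
          ((⟨a, ha⟩ : (A : Subgroup S)) : (A : Subgroup S) ⧸ J) ((⟨b, hb⟩ : (A : Subgroup S)) : _)
        have : (⟨a, ha⟩ * ⟨b, hb⟩ * ⟨a, ha⟩⁻¹ * ⟨b, hb⟩⁻¹ : (A : Subgroup S)) ∈ J := by
          rw [← QuotientGroup.eq_one_iff]
          simp only [QuotientGroup.mk_mul, QuotientGroup.mk_inv]
          rw [hcomm]; group
        exact this
    have := hbot _ key
    rwa [mul_inv_eq_one, mul_inv_eq_iff_eq_mul] at this
  -- two Sylow subgroups with trivial intersection
  have hex : ∃ A B : Sylow p S, (A : Subgroup S) ⊓ B = ⊥ := by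
    have : Nonempty (Sylow p S × Sylow p S) := inferInstance
    obtain ⟨⟨A, B⟩, hmin⟩ := Finite.exists_min
      (fun q : Sylow p S × Sylow p S => Nat.card ((q.1 : Subgroup S) ⊓ q.2 : Subgroup S))
    refine ⟨A, B, (Subgroup.eq_bot_iff_forall _).2 fun x hx => hbot x fun R => ?_⟩
    let C := Subgroup.centralizer (((A : Subgroup S) ⊓ B : Subgroup S) : Set S)
    have hAC : (A : Subgroup S) ≤ C := fun a ha => Subgroup.mem_centralizer_iff.2
      fun y hy => hab A y hy.1 a ha
    have hBC : (B : Subgroup S) ≤ C := fun a ha => Subgroup.mem_centralizer_iff.2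
      fun y hy => hab B y hy.2 a ha
    have hRC : IsPGroup p ((R : Subgroup S).subgroupOf C) :=
      R.isPGroup'.comap_of_injective C.subtype C.subtype_injective
    obtain ⟨T, hT⟩ := hRC.exists_le_sylow
    obtain ⟨c, hc⟩ := MulAction.exists_smul_eq C T (A.subtype hAC)
    let R' : Sylow p S := (c : S) • R
    have hR' : ∀ z ∈ C, z ∈ R' → z ∈ A := by
      intro z hz hzR
      have h2 : z ∈ MulAut.conj (c : S) • (R : Subgroup S) := hzR
      rw [Subgroup.mem_pointwise_smul_iff_inv_smul_mem] at h2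
      simp [MulAut.smul_def] at h2
      have hmem : (c : S)⁻¹ * z * c ∈ C := C.mul_mem (C.mul_mem (C.inv_mem c.2) hz) c.2
      have h3 : (⟨_, hmem⟩ : C) ∈ T := hT h2
      have h4 : (⟨z, hz⟩ : C) ∈ MulAut.conj c • (T : Subgroup C) := by
        rw [Subgroup.mem_pointwise_smul_iff_inv_smul_mem]
        simp [MulAut.smul_def]
        exact h3
      have h5 : (⟨z, hz⟩ : C) ∈ (A.subtype hAC : Sylow p C) := hc ▸ h4
      exact h5
    have hle : (R' : Subgroup S) ⊓ B ≤ (A : Subgroup S) ⊓ B := fun z hz =>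
      ⟨hR' z (hBC hz.2) hz.1, hz.2⟩
    have heq := Subgroup.eq_of_le_of_card_ge hle (hmin (R', B))
    have hxR : x ∈ MulAut.conj (c : S) • (R : Subgroup S) := (heq.ge hx).1
    rw [Subgroup.mem_pointwise_smul_iff_inv_smul_mem] at hxR
    simp [MulAut.smul_def] at hxR
    have hxc : x * c = c * x := (Subgroup.mem_centralizer_iff.1 c.2) x hx
    rwa [mul_assoc, hxc, ← mul_assoc, inv_mul_cancel, one_mul] at hxR
  obtain ⟨A, B, hAB⟩ := hex
  have h1 := hstab A B
  rw [hAB, Subgroup.relIndex_bot_left] at h1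
  obtain ⟨m, hm⟩ := IsPGroup.iff_card.1 A.isPGroup'
  have hlt : p ^ m < p ^ 2 := by rw [← hm]; exact lt_of_le_of_lt h1 hn
  have hm2 : m < 2 := (Nat.pow_lt_pow_iff_right hpf.out.one_lt).1 hlt
  have hA : p ∣ Nat.card A := A.dvd_card_of_dvd_card hp
  have hPA : Nat.card P = Nat.card A := Nat.card_congr (P.equiv A).toEquiv
  rw [hPA]
  interval_cases m
  · exfalso
    rw [pow_zero] at hm
    rw [hm] at hA
    exact hpf.out.ne_one (Nat.dvd_one.1 hA)
  · rw [hm, pow_one]

end Cfsg.Agent.S4343
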