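import Cfsg.Statements.S5958
import Cfsg.Agent.Lib.LinFix.Decomp
import Cfsg.Agent.Lib.LinFix.Jordan
-- import your own Cfsg.Agent.* helpers here

set_option autoImplicit false
open scoped MatrixGroups
open Cfsg

namespace Cfsg.Agent.S5958

open CfsgLib.LinFix Cfsg.Geo

section general

variable {F V : Type*} [Field F] [AddCommGroup V] [Module F V]

theorem eq_zero_of_sum {ι : Type*} [Fintype ι] {D : ι → Submodule F V} (hD : iSupIndep D)
    {w : ι → V} (hw : ∀ i, w i ∈ D i) (h : ∑ i, w i = 0) (i : ι) : w i = 0 := by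
  classical
  rw [← Finset.add_sum_erase _ _ (Finset.mem_univ i)] at h
  refine Submodule.disjoint_def.1 (hD i) _ (hw i) ?_
  rw [eq_neg_of_add_eq_zero_left h]
  refine Submodule.neg_mem _ (Submodule.sum_mem _ fun j hj => ?_)
  exact Submodule.mem_iSup_of_mem j (Submodule.mem_iSup_of_mem (Finset.ne_of_mem_erase hj) (hw j))

/-- Independent subspaces inside a subspace. -/
theorem sum_le_of_indep [FiniteDimensional F V] {ι : Type*} [Fintype ι] {D : ι → Submodule F V}
    (hD : iSupIndep D) {C : Submodule F V} {l : ℕ} (hl : ∀ i, l ≤ Module.finrank F ↥(D i ⊓ C)) :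
    Fintype.card ι * l ≤ Module.finrank F C := by
  classical
  let f : (∀ i, ↥(D i ⊓ C)) →ₗ[F] C :=
    { toFun := fun w => ⟨∑ i, (w i : V), C.sum_mem fun i _ => (w i).2.2⟩
      map_add' := fun x y => Subtype.ext (by simp [Finset.sum_add_distrib])
      map_smul' := fun a x => Subtype.ext (by simp [Finset.smul_sum]) }
  have hf : Function.Injective f := by
    rw [injective_iff_map_eq_zero]
    intro w hw
    funext i
    exact Subtype.ext (eq_zero_of_sum hD (w := fun i => (w i : V)) (fun i => (w i).2.1)
      (congrArg Subtype.val hw) i)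
  refine le_trans ?_ (LinearMap.finrank_le_finrank_of_injective hf)
  rw [Module.finrank_pi_fintype]
  have := Finset.card_nsmul_le_sum Finset.univ (fun i => Module.finrank F ↥(D i ⊓ C)) l fun i _ => hl i
  simpa [Finset.card_univ] using this

theorem inv_span_orbit (T : Module.End F V) (v : V) :
    Inv T (Submodule.span F (Set.range fun k : ℕ => (T ^ k) v)) :=
  inv_of_map_le (by
    rw [Submodule.map_span]
    refine Submodule.span_mono ?_
    rintro _ ⟨_, ⟨k, rfl⟩, rfl⟩
    exact ⟨k + 1, by simp [pow_succ']⟩)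

/-- A non-zero vector of a minimal constituent generates it. -/
theorem span_orbit_eq [FiniteDimensional F V] {T : Module.End F V} {C : Submodule F V} {d : ℕ}
    (h : Homog T C d) {U : Submodule F V} (hU : Inv T U) (hUd : Module.finrank F U = d)
    (hUC : U ⊓ C = ⊥) {v : V} (hv : v ∈ U) (hv0 : v ≠ 0) :
    Submodule.span F (Set.range fun k : ℕ => (T ^ k) v) = U := by
  set S := Submodule.span F (Set.range fun k : ℕ => (T ^ k) v)
  have hSU : S ≤ U := Submodule.span_le.2 (by
    rintro _ ⟨k, rfl⟩
    induction k with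
    | zero => simpa using hv
    | succ k ih => change (T ^ (k + 1)) v ∈ U; rw [pow_succ', Module.End.mul_apply]; exact hU _ ih)
  have hvS : v ∈ S := Submodule.subset_span ⟨0, by simp⟩
  refine Submodule.eq_of_le_of_finrank_le hSU ?_
  obtain ⟨j, hj⟩ := h.finrank_eq (inv_span_orbit T v)
  rw [show S ⊓ C = ⊥ from le_bot_iff.1 (hUC ▸ inf_le_inf_right C hSU), finrank_bot, zero_add] at hj
  have hpos : Module.finrank F S ≠ 0 := fun h0 => hv0 (by
    rw [Submodule.finrank_eq_zero] at h0; rw [h0] at hvS; exact (Submodule.mem_bot F).1 hvS)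
  rcases j with _ | j
  · rw [zero_mul] at hj; exact absurd hj hpos
  · rw [hj, hUd, Nat.succ_mul]; omega

variable {r : ℕ} [hr : Fact r.Prime]

/-- The subspaces `span {T ^ k (u m) | k ≡ l}`. -/
def orbitPart (T : Module.End F V) {a : ℕ} (u : Fin a → V) (l : ZMod r) : Submodule F V :=
  Submodule.span F {w | ∃ (k : ℕ) (m : Fin a), (k : ZMod r) = l ∧ (T ^ k) (u m) = w}

theorem orbitPart_map_le (T : Module.End F V) {a : ℕ} (u : Fin a → V) (l : ZMod r) :
    (orbitPart T u l).map T ≤ orbitPart T u (l + 1) := by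
  rw [orbitPart, Submodule.map_span]
  refine Submodule.span_mono ?_
  rintro _ ⟨_, ⟨k, m, hk, rfl⟩, rfl⟩
  exact ⟨k + 1, m, by push_cast; rw [hk], by rw [pow_succ', Module.End.mul_apply]⟩

theorem mem_orbitPart (T : Module.End F V) {a : ℕ} (u : Fin a → V) (k : ℕ) (m : Fin a) :
    (T ^ k) (u m) ∈ orbitPart T u (k : ZMod r) :=
  Submodule.subset_span ⟨k, m, rfl, rfl⟩

theorem finrank_orbitPart_le {T : Module.End F V} {z : F} (hT : T ^ r = z • 1) {a : ℕ}
    (u : Fin a → V) (l : ZMod r) : Module.finrank F (orbitPart T u l) ≤ a := by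
  have hle : orbitPart T u l ≤ Submodule.span F (Set.range fun m => (T ^ l.val) (u m)) := by
    refine Submodule.span_le.2 ?_
    rintro _ ⟨k, m, hk, rfl⟩
    have : (T ^ k) = (z ^ (k / r)) • T ^ l.val := by
      conv_lhs => rw [← Nat.div_add_mod k r]
      rw [pow_add, pow_mul, hT, smul_pow, one_pow, smul_mul_assoc, one_mul, ← hk, ZMod.val_natCast]
    rw [this, LinearMap.smul_apply]
    exact Submodule.smul_mem _ _ (Submodule.subset_span ⟨m, rfl⟩)
  haveI : FiniteDimensional F (Submodule.span F (Set.range fun m => (T ^ l.val) (u m))) :=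
    FiniteDimensional.span_of_finite F (Set.finite_range _)
  exact (Submodule.finrank_mono hle).trans ((finrank_range_le_card _).trans_eq (Fintype.card_fin a))

end general

section constructions

variable {F : Type*} [Field F] {n a t : ℕ} {T : Module.End F (Fin n → F)}

theorem stabilised_of_parts {C : Submodule F (Fin n → F)} {d : ℕ} (h : Homog T C d)
    (hsplit : ∀ A B : Submodule F (Fin n → F), Inv T A → Inv T B → Disjoint A B →
      (A ⊔ B) ⊓ C ≤ (A ⊓ C) ⊔ (B ⊓ C))
    (hT : Function.Injective T) (ht : 2 ≤ t) (ha : 1 ≤ a) (hn : n = a * t)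
    (he : t * (a % d) ≤ Module.finrank F C) :
    ∃ E : Fin t → Submodule F (Fin n → F), IsMDecomposition a E ∧
      ∃ σ : Equiv.Perm (Fin t), ∀ j, (E j).map T = E (σ j) := by
  obtain ⟨D, hD, htop⟩ := exists_parts h hsplit a t ⊤ (inv_top T)
    (by rw [finrank_top, Module.finrank_fin_fun, hn, mul_comm]) (by rwa [top_inf_eq])
  exact exists_decomp_of_family (Fintype.card_fin t) ht ha hn hT D (fun i => (hD i).2.le) htop 1
    fun i => (hD i).1.map_le

variable {r : ℕ} [hr : Fact r.Prime]

theorem stabilised_nonpower [Fintype F] {z : F} (hz : T ^ r = z • 1) (h : Homog T ⊥ r)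
    (hT : Function.Injective T) (ht : 2 ≤ t) (ha : 1 ≤ a) (hn : n = a * t) :
    ∃ E : Fin t → Submodule F (Fin n → F), IsMDecomposition a E ∧
      ∃ σ : Equiv.Perm (Fin t), ∀ j, (E j).map T = E (σ j) := by
  have hsplit : ∀ A B : Submodule F (Fin n → F), Inv T A → Inv T B → Disjoint A B →
      (A ⊔ B) ⊓ (⊥ : Submodule F (Fin n → F)) ≤ (A ⊓ ⊥) ⊔ (B ⊓ ⊥) := fun A B _ _ _ =>
    inf_le_right.trans bot_le
  by_cases hra : r ∣ a
  · exact stabilised_of_parts h hsplit hT ht ha hn (by simp [Nat.mod_eq_zero_of_dvd hra])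
  have hrn : r ∣ n := by
    have := h.dim_multiple (inv_top T)
    rwa [finrank_top, Module.finrank_fin_fun] at this
  obtain ⟨g, rfl⟩ : r ∣ t := (hr.out.dvd_mul.1 (hn ▸ hrn)).resolve_left hra
  obtain ⟨U, hU, hUtop⟩ := exists_parts h hsplit r (g * a) ⊤ (inv_top T)
    (by rw [finrank_top, Module.finrank_fin_fun, hn]; ring) (by simp)
  have hne : ∀ i, ∃ v ∈ U i, v ≠ 0 := fun i =>
    Submodule.exists_mem_ne_zero_of_ne_bot fun h0 => by
      have := (hU i).2
      rw [h0, finrank_bot] at this
      exact hr.out.ne_zero this.symm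
  choose u hu hu0 using hne
  let e : Fin g × Fin a ≃ Fin (g * a) := finProdFinEquiv
  refine exists_decomp_of_family (ι := Fin g × ZMod r) (by simp [mul_comm]) ht ha hn hT
    (fun i => orbitPart T (fun m => u (e (i.1, m))) i.2)
    (fun i => finrank_orbitPart_le hz _ _) ?_
    (Equiv.prodCongr (Equiv.refl _) (Equiv.addRight 1)) fun i => orbitPart_map_le T _ _
  rw [eq_top_iff, ← hUtop]
  refine iSup_le fun i => ?_
  rw [← span_orbit_eq h (hU i).1 (hU i).2 (inf_bot_eq _) (hu i) (hu0 i), Submodule.span_le]
  rintro _ ⟨k, rfl⟩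
  refine Submodule.mem_iSup_of_mem ((e.symm i).1, (k : ZMod r)) ?_
  have := mem_orbitPart (r := r) T (fun m => u (e ((e.symm i).1, m))) k (e.symm i).2
  simpa using this

theorem stabilised_lines [Fintype F] (hrF : (r : F) ≠ 0) (hT1 : T ^ r = 1) (hT : Function.Injective T)
    (hc : orderOf (Fintype.card F : ZMod r) = r - 1) (hn : n = 1 * t) (ht : 2 ≤ t)
    (hnk : n ≤ n % (r - 1) * r) :
    ∃ E : Fin t → Submodule F (Fin n → F), IsMDecomposition 1 E ∧
      ∃ σ : Equiv.Perm (Fin t), ∀ j, (E j).map T = E (σ j) := by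
  classical
  have hr2 := hr.out.two_le
  have hlen : Module.finrank F (Fin n → F) = n := Module.finrank_fin_fun F
  have h := homog_order (r := r) (T := T) (by omega) hrF hT1
  rw [hc] at h
  set C := LinearMap.ker (T - 1) with hC
  obtain ⟨W, -, hW, hdis, hsup⟩ := exists_inv_compl h.semisimple (h.inv_le le_rfl) (inv_top T) le_top
  obtain ⟨s, hs⟩ := h.finrank_eq hW
  have hWC : W ⊓ C = ⊥ := hdis.symm.eq_bot
  rw [hWC, finrank_bot, zero_add] at hs
  set e := Module.finrank F C with he
  have hsum := finrank_sup_of_disjoint hdis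
  rw [hsup, finrank_top, hlen, hs] at hsum
  have hse : s ≤ e := by
    have h1 : n % (r - 1) + (r - 1) * (n / (r - 1)) = n := Nat.mod_add_div n _
    obtain ⟨c, hc'⟩ : ∃ c, r = c + 1 := ⟨r - 1, by omega⟩
    subst hc'
    simp only [Nat.add_sub_cancel] at h1 hsum hnk
    have hk : n % c ≤ e := by
      rw [hsum, Nat.add_mul_mod_self_right]; exact Nat.mod_le _ _
    have h2 : n % c * (c + 1) = c * (n % c) + n % c := by ring
    have h3 : n / c ≤ n % c := Nat.le_of_mul_le_mul_left (by omega : c * (n / c) ≤ c * (n % c)) (by omega)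
    have h4 : s ≤ n / c := (Nat.le_div_iff_mul_le (by omega)).2 (by omega)
    omega
  obtain ⟨U, hU, hUW⟩ := exists_parts h (fun A B => split_ker_sub_one T) (r - 1) s W hW hs
    (by simp)
  have hUC : ∀ i, U i ⊓ C = ⊥ := fun i =>
    le_bot_iff.1 (hWC ▸ inf_le_inf_right C (hUW ▸ le_iSup U i))
  have hne : ∀ i, ∃ v ∈ U i, v ≠ 0 := fun i =>
    Submodule.exists_mem_ne_zero_of_ne_bot fun h0 => by
      have := (hU i).2
      rw [h0, finrank_bot] at this
      omega
  choose u hu hu0 using hne
  let f : Fin e → (Fin n → F) := fun i => (Module.finBasis F C i : Fin n → F)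
  have hfC : ∀ i, f i ∈ C := fun i => (Module.finBasis F C i).2
  have hfix : ∀ (k : ℕ), ∀ x ∈ C, (T ^ k) x = x := by
    intro k x hx
    have hx' : T x = x := by simpa [C, sub_eq_zero] using hx
    induction k with
    | zero => rfl
    | succ k ih => rw [pow_succ, Module.End.mul_apply, hx', ih]
  let v : Fin s → (Fin n → F) := fun i => f (Fin.castLE hse i) + u i
  let D : Fin (e - s) ⊕ (Fin s × ZMod r) → Submodule F (Fin n → F) :=
    Sum.elim (fun i => Submodule.span F {f ⟨s + i.1, by omega⟩})
      (fun i => orbitPart T (fun _ : Fin 1 => v i.1) i.2)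
  refine exists_decomp_of_family (ι := Fin (e - s) ⊕ (Fin s × ZMod r)) ?_ ht le_rfl hn hT D ?_ ?_
    (Equiv.sumCongr (Equiv.refl _) (Equiv.prodCongr (Equiv.refl _) (Equiv.addRight 1))) ?_
  · simp only [Fintype.card_sum, Fintype.card_fin, Fintype.card_prod, ZMod.card]
    have : s * r = s * (r - 1) + s := by
      conv_lhs => rw [← Nat.sub_add_cancel hr.out.one_le]
      ring
    omega
  · rintro (i | i)
    · exact (finrank_span_le_card {f ⟨s + i.1, by omega⟩}).trans (by simp)
    · exact finrank_orbitPart_le (z := 1) (by rw [one_smul]; exact hT1) _ _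
  · have hv : ∀ i k, (T ^ k) (v i) ∈ iSup D := fun i k =>
      Submodule.mem_iSup_of_mem (Sum.inr (i, (k : ZMod r)))
        (mem_orbitPart (r := r) T (fun _ : Fin 1 => v i) k 0)
    have hf1 : ∀ i : Fin s, f (Fin.castLE hse i) ∈ iSup D := by
      intro i
      have hmem : (∑ k ∈ Finset.range r, T ^ k) (v i) ∈ iSup D := by
        rw [LinearMap.sum_apply]; exact Submodule.sum_mem _ fun k _ => hv i k
      have hSu : (∑ k ∈ Finset.range r, T ^ k) (u i) = 0 := by
        refine (Submodule.mem_bot F).1 (hUC i ▸ ⟨?_, ?_⟩)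
        · rw [LinearMap.sum_apply]; exact Submodule.sum_mem _ fun k _ => Inv.pow (hU i).1 k _ (hu i)
        · rw [hC, SetLike.mem_coe, LinearMap.mem_ker, ← Module.End.mul_apply, mul_geom_sum, hT1,
            sub_self, LinearMap.zero_apply]
      have hSf : (∑ k ∈ Finset.range r, T ^ k) (f (Fin.castLE hse i)) = (r : F) • f (Fin.castLE hse i) := by
        rw [LinearMap.sum_apply, Finset.sum_congr rfl (fun k _ => hfix k _ (hfC _)), Finset.sum_const,
          Finset.card_range, Nat.cast_smul_eq_nsmul]
      rw [map_add, hSu, hSf, add_zero] at hmem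
      exact (Submodule.smul_mem_iff _ hrF).1 hmem
    rw [eq_top_iff, ← hsup]
    refine sup_le ?_ (hUW ▸ iSup_le fun i => ?_)
    · have hspan : C = Submodule.span F (Set.range f) := by
        have h' := congrArg (Submodule.map C.subtype) (Module.finBasis F C).span_eq
        rw [Submodule.map_span, Submodule.map_subtype_top, ← Set.range_comp] at h'
        exact h'.symm
      rw [hspan, Submodule.span_le]
      rintro _ ⟨i, rfl⟩
      rcases Nat.lt_or_ge i.1 s with hi | hi
      · exact hf1 ⟨i, hi⟩
      · exact Submodule.mem_iSup_of_mem (Sum.inl ⟨i.1 - s, by omega⟩)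
          (Submodule.subset_span (by simp [Nat.add_sub_cancel' hi]))
    · rw [← span_orbit_eq h (hU i).1 (hU i).2 (hUC i) (hu i) (hu0 i), Submodule.span_le]
      rintro _ ⟨k, rfl⟩
      have hk : (T ^ k) (u i) = (T ^ k) (v i) - f (Fin.castLE hse i) := by
        simp only [v, map_add, hfix k _ (hfC _), add_sub_cancel_left]
      change (T ^ k) (u i) ∈ iSup D
      rw [hk]
      exact Submodule.sub_mem _ (hv i k) (hf1 i)
  · rintro (i | i)
    · change (Submodule.span F {f ⟨s + i.1, by omega⟩}).map T ≤ Submodule.span F {f ⟨s + i.1, by omega⟩}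
      rw [Submodule.map_le_iff_le_comap, Submodule.span_le, Set.singleton_subset_iff]
      have hTf : T (f ⟨s + i.1, by omega⟩) = f ⟨s + i.1, by omega⟩ := by
        simpa using hfix 1 _ (hfC _)
      change T _ ∈ Submodule.span F _
      rw [hTf]
      exact Submodule.subset_span rfl
    · exact orbitPart_map_le T _ _

end constructions

section necessity

variable {F : Type*} [Field F] {n a t r : ℕ} [hr : Fact r.Prime] {T : Module.End F (Fin n → F)}
  {D : Fin t → Submodule F (Fin n → F)} {σ : Equiv.Perm (Fin t)}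

theorem map_pow_eq (hσ : ∀ j, (D j).map T = D (σ j)) (k : ℕ) (j : Fin t) :
    (D j).map (T ^ k) = D ((σ ^ k) j) := by
  induction k with
  | zero => rw [pow_zero, pow_zero, Module.End.one_eq_id, Submodule.map_id]; rfl
  | succ k ih =>
    rw [pow_succ', Module.End.mul_eq_comp, Submodule.map_comp, ih, hσ, pow_succ', Equiv.Perm.mul_apply]

theorem perm_pow_eq_one (hD : IsMDecomposition a D) (hσ : ∀ j, (D j).map T = D (σ j))
    (hT : T ^ r = 1) : σ ^ r = 1 := by
  have hne : ∀ j, D j ≠ ⊥ := fun j h0 => by
    have := hD.finrank_eq j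
    rw [h0, finrank_bot] at this
    have := hD.pos
    omega
  refine Equiv.ext fun j => hD.indep.injective hne ?_
  rw [← map_pow_eq hσ, hT, Module.End.one_eq_id, Submodule.map_id]; rfl

theorem orbit_injective (hσr : σ ^ r = 1) {j : Fin t} (hj : σ j ≠ j) :
    Function.Injective fun i : Fin r => (σ ^ (i : ℕ)) j := by
  have hlt : ∀ i i' : ℕ, i < i' → i' < r → (σ ^ i) j ≠ (σ ^ i') j := by
    intro i i' hii hi' he
    have h1 : (σ ^ (i' - i)) j = j := by
      apply (σ ^ i).injective
      rw [← Equiv.Perm.mul_apply, ← pow_add, Nat.add_sub_cancel' hii.le, he]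
    obtain ⟨k, hk⟩ := exists_pow_eq_self_of_coprime (x := σ) (n := i' - i) (by
      rcases (Nat.dvd_prime hr.out).1 (orderOf_dvd_of_pow_eq_one hσr) with h | h
      · rw [h]; exact Nat.coprime_one_right _
      · rw [h]
        refine Nat.coprime_comm.1 (hr.out.coprime_iff_not_dvd.2 fun hd => ?_)
        have := Nat.le_of_dvd (by omega) hd
        omega)
    refine hj ?_
    conv_lhs => rw [← hk]
    clear hk
    induction k with
    | zero => rfl
    | succ k ih => rw [pow_succ, Equiv.Perm.mul_apply, h1, ih]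
  intro i i' h
  rcases lt_trichotomy (i : ℕ) i' with h' | h' | h'
  · exact absurd h (hlt _ _ h' i'.2)
  · exact Fin.ext h'
  · exact absurd h.symm (hlt _ _ h' i.2)

/-- A moved summand contributes `a` to the fixed space and `(r - 1) a` to its complement. -/
theorem moved_bounds (hD : IsMDecomposition a D) (hσ : ∀ j, (D j).map T = D (σ j))
    (hT : T ^ r = 1) {j : Fin t} (hj : σ j ≠ j) :
    a ≤ Module.finrank F (LinearMap.ker (T - 1)) ∧
      (r - 1) * a + Module.finrank F (LinearMap.ker (T - 1)) ≤ n := by
  classical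
  have hind : iSupIndep fun i : Fin r => D ((σ ^ (i : ℕ)) j) :=
    hD.indep.comp (orbit_injective (perm_pow_eq_one hD hσ hT) hj)
  have hmem : ∀ (k : ℕ) (x : Fin n → F), x ∈ D j → (T ^ k) x ∈ D ((σ ^ k) j) := fun k x hx => by
    rw [← map_pow_eq hσ]; exact ⟨x, hx, rfl⟩
  have hinj : ∀ (k : ℕ) (x : Fin n → F), (T ^ k) x = 0 → x = 0 := fun k x hx => by
    have h : (T ^ ((r - 1) * k)) ((T ^ k) x) = 0 := by rw [hx, map_zero]
    rwa [← Module.End.mul_apply, ← pow_add, ← Nat.succ_mul, Nat.succ_eq_add_one,
      Nat.sub_add_cancel hr.out.one_le, pow_mul, hT, one_pow, Module.End.one_apply] at h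
  refine ⟨?_, ?_⟩
  · let S : D j →ₗ[F] LinearMap.ker (T - 1) :=
      ((∑ i ∈ Finset.range r, T ^ i).domRestrict (D j)).codRestrict _ fun x => by
        rw [LinearMap.mem_ker, LinearMap.domRestrict_apply, ← Module.End.mul_apply, mul_geom_sum, hT,
          sub_self, LinearMap.zero_apply]
    have hS : Function.Injective S := by
      rw [injective_iff_map_eq_zero]
      intro x hx
      have h0 : ∑ i : Fin r, (T ^ (i : ℕ)) (x : Fin n → F) = 0 := by
        rw [Fin.sum_univ_eq_sum_range (fun i => (T ^ i) (x : Fin n → F)), ← LinearMap.sum_apply]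
        exact congrArg Subtype.val hx
      exact Subtype.ext (hinj 0 _ (eq_zero_of_sum hind (fun i : Fin r => hmem i _ x.2) h0
        ⟨0, hr.out.pos⟩))
    have := LinearMap.finrank_le_finrank_of_injective hS
    rwa [hD.finrank_eq] at this
  · obtain ⟨c, hc⟩ : ∃ c, r = c + 1 := ⟨r - 1, (Nat.sub_add_cancel hr.out.one_le).symm⟩
    subst hc
    rw [Nat.add_sub_cancel]
    let Ψ : (Fin c → D j) →ₗ[F] LinearMap.range (T - 1) :=
      { toFun := fun x => ⟨(T - 1) (∑ i : Fin c, (T ^ (i : ℕ)) (x i : Fin n → F)), ⟨_, rfl⟩⟩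
        map_add' := fun x y => Subtype.ext (by
          simp only [Pi.add_apply, Submodule.coe_add, map_add, Finset.sum_add_distrib])
        map_smul' := fun b x => Subtype.ext (by
          simp only [Pi.smul_apply, Submodule.coe_smul, map_smul, ← Finset.smul_sum, RingHom.id_apply]) }
    have hΨ : Function.Injective Ψ := by
      rw [injective_iff_map_eq_zero]
      intro x hx
      set x' : ℕ → (Fin n → F) := fun i => if h : i < c then (x ⟨i, h⟩ : Fin n → F) else 0 with hx'
      set y : ℕ → (Fin n → F) := fun i => (if i = 0 then 0 else x' (i - 1)) - x' i with hy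
      have hxmem : ∀ i, x' i ∈ D j := fun i => by
        simp only [hx']; split_ifs with h
        · exact (x ⟨i, h⟩).2
        · exact Submodule.zero_mem _
      have hymem : ∀ i, y i ∈ D j := fun i => by
        simp only [hy]
        split_ifs
        · exact Submodule.sub_mem _ (Submodule.zero_mem _) (hxmem i)
        · exact Submodule.sub_mem _ (hxmem _) (hxmem i)
      have hsum : ∑ i : Fin (c + 1), (T ^ (i : ℕ)) (y i) = 0 := by
        have h0 : (T - 1) (∑ i : Fin c, (T ^ (i : ℕ)) (x i : Fin n → F)) = 0 := congrArg Subtype.val hx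
        have e1 : ∑ i : Fin c, (T ^ (i : ℕ)) (x i : Fin n → F) = ∑ i ∈ Finset.range c, (T ^ i) (x' i) := by
          rw [← Fin.sum_univ_eq_sum_range (fun i => (T ^ i) (x' i))]
          exact Finset.sum_congr rfl fun i _ => by simp [hx', i.2]
        rw [e1, LinearMap.sub_apply, Module.End.one_apply, map_sum] at h0
        rw [Fin.sum_univ_eq_sum_range (fun i => (T ^ i) (y i))]
        have e2 : ∑ i ∈ Finset.range (c + 1), (T ^ i) (y i) =
            ∑ i ∈ Finset.range (c + 1), (T ^ i) (if i = 0 then 0 else x' (i - 1)) -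
            ∑ i ∈ Finset.range (c + 1), (T ^ i) (x' i) := by
          rw [← Finset.sum_sub_distrib]
          exact Finset.sum_congr rfl fun i _ => map_sub _ _ _
        rw [e2, Finset.sum_range_succ', Finset.sum_range_succ]
        simp only [Nat.succ_ne_zero, if_false, Nat.add_sub_cancel, if_true, map_zero, add_zero,
          show x' c = 0 by simp [hx']]
        rw [← h0]
        congr 1
        exact Finset.sum_congr rfl fun i _ => by rw [pow_succ', Module.End.mul_apply]
      have hy0 : ∀ i, i < c + 1 → y i = 0 := fun i hi => hinj i _ (eq_zero_of_sum hind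
        (fun i : Fin (c + 1) => hmem i _ (hymem i)) hsum ⟨i, hi⟩)
      funext i
      apply Subtype.ext
      have key : ∀ i, i < c → x' i = 0 := by
        intro i
        induction i with
        | zero => intro _; simpa [hy] using hy0 0 (by omega)
        | succ i ih =>
          intro hi
          have := hy0 (i + 1) (by omega)
          simpa [hy, ih (by omega)] using this
      have := key i i.2
      simpa [hx', i.2] using this
    have h1 := LinearMap.finrank_le_finrank_of_injective hΨ
    rw [Module.finrank_pi_fintype, Finset.sum_const, Finset.card_univ, Fintype.card_fin, smul_eq_mul,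
      hD.finrank_eq] at h1
    have h2 := LinearMap.finrank_range_add_finrank_ker (T - 1)
    rw [Module.finrank_fin_fun] at h2
    omega

/-- With lines, the number of orbits is at most the dimension of the fixed space. -/
theorem lines_bound (hrF : (r : F) ≠ 0) (hn : n = 1 * t) (hD : IsMDecomposition 1 D)
    (hσ : ∀ j, (D j).map T = D (σ j)) (hT : T ^ r = 1)
    (hfix : ∀ j, σ j = j → D j ≤ LinearMap.ker (T - 1)) :
    t ≤ Module.finrank F (LinearMap.ker (T - 1)) * r := by
  classical
  have hσr := perm_pow_eq_one hD hσ hT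
  have hne : ∀ j, ∃ v ∈ D j, v ≠ 0 := fun j =>
    Submodule.exists_mem_ne_zero_of_ne_bot fun h0 => by
      have := hD.finrank_eq j
      rw [h0, finrank_bot] at this
      exact zero_ne_one this
  choose v hv hv0 using hne
  have hspan : ∀ j, D j = F ∙ v j := fun j =>
    (Submodule.eq_of_le_of_finrank_eq ((Submodule.span_singleton_le_iff_mem _ _).2 (hv j))
      (by rw [finrank_span_singleton (hv0 j), hD.finrank_eq])).symm
  have htop : ⊤ ≤ Submodule.span F (Set.range v) := by
    rw [← hD.iSup_eq_top]
    exact iSup_le fun j => by rw [hspan]; exact Submodule.span_mono (by simp)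
  let b := basisOfTopLeSpanOfCardEqFinrank v htop (by simp [hn])
  have hb : ∀ j, b j = v j := fun j => by simp [b]
  have hrepr : ∀ m l, l ≠ m → ∀ w ∈ D m, b.repr w l = 0 := by
    intro m l hlm w hw
    rw [hspan] at hw
    obtain ⟨c, rfl⟩ := Submodule.mem_span_singleton.1 hw
    rw [map_smul, ← hb, b.repr_self, Finsupp.smul_apply, Finsupp.single_eq_of_ne (by simpa using hlm), smul_zero]
  let Q := Quotient (Equiv.Perm.SameCycle.setoid σ)
  haveI : Finite Q := Quotient.finite _
  haveI : Fintype Q := Fintype.ofFinite Q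
  have hmem : ∀ (k : ℕ) (j : Fin t), (T ^ k) (v j) ∈ D ((σ ^ k) j) := fun k j => by
    rw [← map_pow_eq hσ]; exact ⟨_, hv j, rfl⟩
  let S : Q → LinearMap.ker (T - 1) := fun ω => ⟨(∑ i ∈ Finset.range r, T ^ i) (v ω.out), by
    rw [LinearMap.mem_ker, ← Module.End.mul_apply, mul_geom_sum, hT, sub_self, LinearMap.zero_apply]⟩
  have hS : LinearIndependent F S := by
    rw [Fintype.linearIndependent_iff]
    intro g hg ω
    have h := congrArg (fun w : LinearMap.ker (T - 1) => b.repr (w : Fin n → F) ω.out) hg
    simp only [S, AddSubmonoidClass.coe_finsetSum, SetLike.val_smul, map_sum, map_smul, LinearMap.sum_apply,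
      Finsupp.finsetSum_apply, Finsupp.smul_apply, smul_eq_mul, ZeroMemClass.coe_zero, map_zero,
      Finsupp.zero_apply] at h
    rw [Finset.sum_eq_single ω] at h
    · refine (mul_eq_zero.1 h).resolve_right ?_
      by_cases hj : σ ω.out = ω.out
      · have hk : ∀ i : ℕ, (T ^ i) (v ω.out) = v ω.out := by
          intro i
          have hx : T (v ω.out) = v ω.out := by simpa [sub_eq_zero] using hfix _ hj (hv _)
          induction i with
          | zero => rfl
          | succ i ih => rw [pow_succ, Module.End.mul_apply, hx, ih]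
        rw [Finset.sum_congr rfl (fun i _ => by rw [hk i, ← hb, b.repr_self, Finsupp.single_eq_same]),
          Finset.sum_const, Finset.card_range, nsmul_one]
        exact hrF
      · rw [Finset.sum_eq_single 0]
        · rw [pow_zero, Module.End.one_apply, ← hb, b.repr_self, Finsupp.single_eq_same]
          exact one_ne_zero
        · intro i hi hi0
          refine hrepr _ _ (fun he => hi0 ?_) _ (hmem i _)
          have := orbit_injective hσr hj (a₁ := ⟨i, Finset.mem_range.1 hi⟩) (a₂ := ⟨0, hr.out.pos⟩)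
            (by simpa using he.symm)
          exact congrArg Fin.val this
        · intro h0; exact absurd (Finset.mem_range.2 hr.out.pos) h0
    · intro ω' _ hω
      rw [Finset.sum_eq_zero (fun i _ => hrepr ((σ ^ i) ω'.out) ω.out ?_ _ (hmem i _)), mul_zero]
      intro he
      refine hω ?_
      rw [← Quotient.out_eq ω', ← Quotient.out_eq ω]
      exact Quotient.sound ⟨(i : ℤ), by rw [zpow_natCast, ← he]⟩
    · simp
  have h1 := hS.fintype_card_le_finrank
  let Φ : Q × Fin r → Fin t := fun x => (σ ^ (x.2 : ℕ)) x.1.out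
  have hΦ : Function.Surjective Φ := by
    intro j
    obtain ⟨i, hi⟩ := Quotient.exact (Quotient.out_eq (Quotient.mk (Equiv.Perm.SameCycle.setoid σ) j))
    refine ⟨(Quotient.mk _ j, ⟨(i % (r : ℤ)).toNat, ?_⟩), ?_⟩
    · have := Int.emod_lt_of_pos i (Int.natCast_pos.2 hr.out.pos)
      have := Int.emod_nonneg i (Int.natCast_ne_zero.2 hr.out.ne_zero)
      omega
    · change (σ ^ (i % (r : ℤ)).toNat) _ = j
      rw [← zpow_natCast, Int.toNat_of_nonneg (Int.emod_nonneg i (Int.natCast_ne_zero.2 hr.out.ne_zero)),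
        ← zpow_eq_zpow_emod' i hσr]
      exact hi
  have h2 := Fintype.card_le_of_surjective Φ hΦ
  rw [Fintype.card_prod, Fintype.card_fin, Fintype.card_fin] at h2
  exact h2.trans (Nat.mul_le_mul_right r h1)

end necessity

/-- Elements of odd prime order of PSL_n(q) and imprimitive subgroups. Here `T = PSL_n(F)` for a field `F` with `q = p^f` elements (`n ≥ 2`, `(n, q) ≠ (2, 2), (2, 3)`), `n = a·t` with `t ≥ 2`, and Ω is the set of direct-sum decompositions of `F^n` into `t` subspaces of dimension `a` (unordered; their number is the number of ordered ones divided by `t!`), whose stabilizers are the imprimitive subgroups of type GL_a(q) ≀ S_t (maximal except in some small cases; maximality is not assumed); an element of `T` of prime order `r` (a matrix `x` of determinant 1 with `x^r` scalar, `x` not scalar) fixes a point of Ω when it permutes the summands of some such decomposition. Let `r ≠ p` be an odd prime dividing the number of such decompositions, let `c` be the multiplicative order of `q` modulo `r`, and write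 `k = n mod c`, `ℓ = a mod c`. Then every element of `T` of order `r` stabilizes such a decomposition if and only if either `a = 1`, `c = r − 1 > 1` and `n ≤ k·r`, or `c ≤ a` and `k = t·ℓ`. -/
theorem result {F : Type*} [Field F] [Fintype F] {p : ℕ} [Fact p.Prime] [CharP F p] {q : ℕ} (hq : Fintype.card F = q)
    (n a t : ℕ) (hn : 2 ≤ n) (hT : (n, q) ≠ (2, 2) ∧ (n, q) ≠ (2, 3)) (hat : n = a * t) (ha : 1 ≤ a) (ht : 2 ≤ t)
    (r : ℕ) [Fact r.Prime] (hr2 : r ≠ 2) (hrp : r ≠ p) (hΩ : r ∣ Nat.card {D : Fin t → Submodule F (Fin n → F) // Cfsg.Geo.IsMDecomposition a D} / Nat.factorial t)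
    (c : ℕ) (hc : c = orderOf (q : ZMod r)) :
    (∀ x : Matrix.SpecialLinearGroup (Fin n) F,
      (∃ z : F, ((x ^ r : Matrix.SpecialLinearGroup (Fin n) F) : Matrix (Fin n) (Fin n) F) = z • (1 : Matrix (Fin n) (Fin n) F)) →
      (∀ z : F, (x : Matrix (Fin n) (Fin n) F) ≠ z • (1 : Matrix (Fin n) (Fin n) F)) →
      ∃ D : Fin t → Submodule F (Fin n → F), Cfsg.Geo.IsMDecomposition a D ∧
        ∃ σ : Equiv.Perm (Fin t), ∀ j, (D j).map (Matrix.toLin' (x : Matrix (Fin n) (Fin n) F)) = D (σ j)) ↔
    ((a = 1 ∧ 1 < c ∧ c = r - 1 ∧ n ≤ (n % c) * r) ∨ (c ≤ a ∧ n % c = t * (a % c))) :=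
  by
  subst hq
  subst hc
  have hn0 : n ≠ 0 := by omega
  have hrF : (r : F) ≠ 0 := natCast_ne_zero_of_ne (p := p) hrp
  have hc0 : 0 < orderOf (Fintype.card F : ZMod r) := orderOf_pos_of_ne (p := p) hrp
  have hcn : orderOf (Fintype.card F : ZMod r) ≤ n :=
    exists_le_of_dvd_card_decomp (p := p) rfl ht ha hat hrp hΩ
  have hcr : orderOf (Fintype.card F : ZMod r) ≤ r - 1 := by
    refine Nat.le_of_dvd (by have := (Fact.out : r.Prime).two_le; omega) ?_
    rw [orderOf_dvd_iff_pow_eq_one]
    refine ZMod.pow_card_sub_one_eq_one fun h0 => ?_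
    rw [h0, orderOf_zero] at hc0
    exact lt_irrefl 0 hc0
  set c := orderOf (Fintype.card F : ZMod r) with hcdef
  have hlen : Module.finrank F (Fin n → F) = n := Module.finrank_fin_fun F
  constructor
  · intro hel
    by_contra hcond
    push Not at hcond
    have hc2 : 1 < c := by
      by_contra h
      have h1 : c = 1 := by omega
      exact hcond.2 (by omega) (by simp [h1, Nat.mod_one])
    -- decompositions fixed by the test elements
    have key : ∀ e s : ℕ, n = e + s * c → 0 < s →
        ∃ (T : Module.End F (Fin n → F)) (D : Fin t → Submodule F (Fin n → F)) (σ : Equiv.Perm (Fin t)),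
          T ^ r = 1 ∧ Module.finrank F (LinearMap.ker (T - 1)) = e ∧ IsMDecomposition a D ∧
          ∀ j, (D j).map T = D (σ j) := by
      intro e s hes hs
      obtain ⟨x, hx, hxe⟩ := exists_sl_fixed (F := F) (p := p) hrp hc2 e s hes
      have hsc : ∀ z : F, (x : Matrix (Fin n) (Fin n) F) ≠ z • 1 := by
        intro z hz
        have hz1 : Matrix.toLin' (x : Matrix (Fin n) (Fin n) F) = z • 1 := by
          rw [hz, map_smul, Matrix.toLin'_one]; rfl
        by_cases h1 : z = 1
        · rw [hz1, h1, one_smul, sub_self, LinearMap.ker_zero, finrank_top, hlen] at hxe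
          have := Nat.mul_pos hs hc0
          omega
        · haveI : Nontrivial (Fin n → F) := Module.nontrivial_of_finrank_pos (R := F) (by omega)
          rw [hz1, smul_pow, one_pow] at hx
          obtain ⟨v, hv⟩ := exists_ne (0 : Fin n → F)
          have hzr : z ^ r = 1 := smul_left_injective F hv (by simpa using LinearMap.congr_fun hx v)
          have hz0 : z ≠ 0 := fun h0 => by
            rw [h0, zero_pow (Fact.out : r.Prime).ne_zero] at hzr; exact zero_ne_one hzr
          have hdvd : r ∣ Fintype.card F ^ 1 - 1 := by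
            rw [pow_one, ← orderOf_eq_prime hzr h1]
            exact orderOf_dvd_of_pow_eq_one (FiniteField.pow_card_sub_one_eq_one z hz0)
          have := Nat.le_of_dvd one_pos ((dvd_pow_sub_one_iff Fintype.card_pos _).1 hdvd)
          omega
      obtain ⟨D, hD, σ, hσ⟩ := hel x ⟨1, pow_eq_of_toLin' (by rw [one_smul]; exact hx)⟩ hsc
      exact ⟨_, D, σ, hx, hxe, hD, hσ⟩
    -- fixed summands
    have hfixed : ∀ (T : Module.End F (Fin n → F)) (D : Fin t → Submodule F (Fin n → F)) (σ : Equiv.Perm (Fin t)),
        T ^ r = 1 → IsMDecomposition a D → (∀ j, (D j).map T = D (σ j)) → ∀ j, σ j = j →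
        ∃ i, a = Module.finrank F ↥(D j ⊓ LinearMap.ker (T - 1)) + i * c := by
      intro T D σ hT hD hσ j hj
      obtain ⟨i, hi⟩ := (homog_order (r := r) hc0 hrF hT).finrank_eq (W := D j)
        (inv_of_map_le (by rw [hσ, hj]))
      exact ⟨i, by rw [← hD.finrank_eq j]; exact hi⟩
    have hkc : n % c < c := Nat.mod_lt n hc0
    have hnc : n % c + n / c * c = n := by rw [mul_comm]; exact Nat.mod_add_div n c
    have hs0 : 0 < n / c := Nat.div_pos hcn hc0
    by_cases hca : c ≤ a
    · obtain ⟨T, D, σ, hT, he, hD, hσ⟩ := key (n % c) (n / c) hnc.symm hs0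
      by_cases hall : ∀ j, σ j = j
      · refine hcond.2 hca ?_
        have hle : t * (a % c) ≤ n % c := by
          refine le_of_le_of_eq ?_ he
          refine le_trans ?_ (sum_le_of_indep hD.indep (l := a % c) fun j => ?_)
          · rw [Fintype.card_fin]
          · obtain ⟨i, hi⟩ := hfixed T D σ hT hD hσ j (hall j)
            conv_lhs => rw [hi, Nat.add_mul_mod_self_right]
            exact Nat.mod_le _ _
        rw [hat, Nat.mul_mod] at hle ⊢
        have h1 : a % c * (t % c) % c = t * (a % c) % c := by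
          rw [Nat.mul_mod t, Nat.mod_mod, mul_comm]
        rw [h1] at hle ⊢
        rcases Nat.lt_or_ge (t * (a % c)) c with h | h
        · exact Nat.mod_eq_of_lt h
        · have := Nat.mod_lt (t * (a % c)) hc0
          omega
      · push Not at hall
        obtain ⟨j, hj⟩ := hall
        have := (moved_bounds hD hσ hT hj).1
        omega
    · push Not at hca
      obtain ⟨T, D, σ, hT, he, hD, hσ⟩ := key (n - c) 1 (by omega) one_pos
      have hin : ∀ (T : Module.End F (Fin n → F)) (D : Fin t → Submodule F (Fin n → F)) (σ : Equiv.Perm (Fin t)),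
          T ^ r = 1 → IsMDecomposition a D → (∀ j, (D j).map T = D (σ j)) → ∀ j, σ j = j →
          D j ≤ LinearMap.ker (T - 1) := by
        intro T D σ hT hD hσ j hj
        obtain ⟨i, hi⟩ := hfixed T D σ hT hD hσ j hj
        rcases i with _ | i
        · have h := Submodule.eq_of_le_of_finrank_eq (inf_le_left : D j ⊓ LinearMap.ker (T - 1) ≤ D j)
            (by rw [hD.finrank_eq]; omega)
          exact inf_eq_left.1 h
        · rw [Nat.succ_mul] at hi; omega
      obtain ⟨j, hj⟩ : ∃ j, σ j ≠ j := by
        by_contra hall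
        push Not at hall
        have htop : LinearMap.ker (T - 1) = ⊤ :=
          eq_top_iff.2 (hD.iSup_eq_top.symm.le.trans (iSup_le fun j => hin T D σ hT hD hσ j (hall j)))
        rw [htop, finrank_top, hlen] at he
        omega
      have hb := (moved_bounds hD hσ hT hj).2
      rw [he] at hb
      have hr3 : 3 ≤ r := by
        have := (Fact.out : r.Prime).two_le
        omega
      have ha1 : a = 1 := by
        by_contra h
        have h2 : (r - 1) * 2 ≤ (r - 1) * a := Nat.mul_le_mul_left _ (by omega)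
        omega
      subst ha1
      have hcr' : c = r - 1 := by omega
      obtain ⟨T', D', σ', hT', he', hD', hσ'⟩ := key (n % c) (n / c) hnc.symm hs0
      have hb' := lines_bound hrF hat hD' hσ' hT' (hin T' D' σ' hT' hD' hσ')
      rw [he'] at hb'
      have := hcond.1 rfl hc2 hcr'
      omega
  · rintro hcond x ⟨z, hxz⟩ -
    have hz0 := scalar_ne_zero hn0 hxz
    have hT := toLin'_pow_eq hxz
    set T := Matrix.toLin' (x : Matrix (Fin n) (Fin n) F) with hTdef
    have hinj : Function.Injective T := by
      rw [injective_iff_map_eq_zero]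
      intro v hv
      have h := LinearMap.congr_fun hT v
      rw [← Nat.sub_add_cancel (Fact.out : r.Prime).one_le, pow_succ, Module.End.mul_apply, hv,
        map_zero, LinearMap.smul_apply, Module.End.one_apply] at h
      exact (smul_eq_zero.1 h.symm).resolve_left hz0
    by_cases hroot : ∃ w : F, w ^ r = z
    · obtain ⟨w, hw⟩ := hroot
      have hw0 : w ≠ 0 := fun h => hz0 (by rw [← hw, h, zero_pow (Fact.out : r.Prime).ne_zero])
      set T' : Module.End F (Fin n → F) := w⁻¹ • T with hT'def
      have hT' : T' ^ r = 1 := by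
        rw [hT'def, smul_pow, hT, smul_smul, inv_pow, hw, inv_mul_cancel₀ hz0, one_smul]
      have hinj' : Function.Injective T' := fun u v huv =>
        hinj (smul_right_injective _ (inv_ne_zero hw0) huv)
      suffices h : ∃ E : Fin t → Submodule F (Fin n → F), IsMDecomposition a E ∧
          ∃ σ : Equiv.Perm (Fin t), ∀ j, (E j).map T' = E (σ j) by
        obtain ⟨E, hE, σ, hσ⟩ := h
        exact ⟨E, hE, σ, fun j => by rw [← hσ j, hT'def, Submodule.map_smul _ _ _ (inv_ne_zero hw0)]⟩
      rcases hcond with ⟨rfl, h1, hcr', hnk⟩ | ⟨hca, hk⟩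
      · exact stabilised_lines hrF hT' hinj' hcr' hat ht (hcr' ▸ hnk)
      · have hhom := homog_order (r := r) hc0 hrF hT'
        refine stabilised_of_parts hhom (fun A B => split_ker_sub_one T') hinj' ht ha hat ?_
        obtain ⟨s, hs⟩ := hhom.finrank_eq (inv_top T')
        rw [finrank_top, top_inf_eq, hlen] at hs
        have h := congrArg (· % c) hs
        simp only [← hcdef, Nat.add_mul_mod_self_right] at h
        rw [← hcdef, ← hk, h]
        exact Nat.mod_le _ _
    · push Not at hroot
      exact stabilised_nonpower hT (homog_nonpower hrF hroot hT) hinj ht ha hat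

end Cfsg.Agent.S5958
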