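import Cfsg.Statements.S0168
import Cfsg.Agent.Lib.Char.Orth
import Mathlib.Algebra.Polynomial.Degree.Lemmas
import Mathlib.Algebra.Polynomial.BigOperators

set_option autoImplicit false
open Cfsg

namespace Cfsg.Agent.S0168

/-- The Burnside–Brauer Theorem. Let χ be the character of a faithful complex representation of a finite group, taking m distinct values. Then every irreducible character has nonzero inner product with χ ^ i for some i < m. -/
theorem result {G : Type*} [Group G] [Fintype G] {V : Type*} [AddCommGroup V] [Module ℂ V] [FiniteDimensional ℂ V] (ρ : Representation ℂ G V) (hfaithful : Function.Injective ρ) (ψ : G → ℂ) (hψ : Cfsg.IsIrrCharacter G ψ) : ∃ i : ℕ, i < Nat.card (Set.range ρ.character) ∧ Cfsg.classInner (fun g => ρ.character g ^ i) ψ ≠ 0 := by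
  classical
  by_contra hcon
  push Not at hcon
  have hG : (Nat.card G : ℂ) ≠ 0 := Nat.cast_ne_zero.mpr Nat.card_pos.ne'
  let s : Finset ℂ := Finset.univ.image ρ.character
  have hs : Nat.card (Set.range ρ.character) = s.card := by
    rw [← Fintype.card_coe, ← Nat.card_eq_fintype_card]
    exact Nat.card_congr (Equiv.subtypeEquivRight fun x => by simp [s])
  let n : ℂ := ρ.character 1
  have hn : n ∈ s := Finset.mem_image.mpr ⟨1, Finset.mem_univ _, rfl⟩
  let P : Polynomial ℂ := ∏ a ∈ s.erase n, (Polynomial.X - Polynomial.C a)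
  have hP : P.natDegree < s.card := by
    simp only [P, Polynomial.natDegree_finsetProd_X_sub_C_eq_card]
    exact Finset.card_erase_lt_of_mem hn
  have hsum : ∑ g : G, P.eval (ρ.character g) * (starRingEnd ℂ) (ψ g) = 0 := by
    simp only [Polynomial.eval_eq_sum_range, Finset.sum_mul, mul_assoc]
    rw [Finset.sum_comm]
    refine Finset.sum_eq_zero fun i hi => ?_
    rw [← Finset.mul_sum]
    have h := hcon i (by rw [hs]; have := Finset.mem_range.mp hi; omega)
    simp only [Cfsg.classInner, mul_eq_zero, inv_eq_zero, hG, false_or] at h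
    rw [h, mul_zero]
  rw [Finset.sum_eq_single 1] at hsum
  · rcases mul_eq_zero.mp hsum with h | h
    · simp only [P, Polynomial.eval_prod, Finset.prod_eq_zero_iff, Polynomial.eval_sub,
        Polynomial.eval_X, Polynomial.eval_C, sub_eq_zero] at h
      obtain ⟨a, ha, he⟩ := h
      exact (Finset.mem_erase.mp ha).1 he.symm
    · exact CfsgLib.Char.IsIrrCharacter.apply_one_ne_zero hψ (by simpa using h)
  · intro g _ hg
    have hne : ρ.character g ≠ n := fun e => hg (hfaithful (by
      rw [map_one, (CfsgLib.Char.character_eq_degree_iff ρ g).mp (by simpa [n] using e)]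
      rfl))
    have hmem : ρ.character g ∈ s.erase n :=
      Finset.mem_erase.mpr ⟨hne, Finset.mem_image.mpr ⟨g, Finset.mem_univ _, rfl⟩⟩
    simp only [P, Polynomial.eval_prod]
    rw [Finset.prod_eq_zero hmem (by simp), zero_mul]
  · simp

end Cfsg.Agent.S0168
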