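import Cfsg.Statements.S5349
import Cfsg.Agent.Lib.ThreeTransp.Classes

set_option autoImplicit false
open Cfsg

namespace Cfsg.Agent.S5349

open CfsgLib.ThreeTransp

/-- Let D be a conjugacy class of 3-transpositions generating the finite group G, with at least two members, and d a member of D. Then the set of members of D commuting with exactly the same members of D as d coincides with the set of members of D lying in the coset of d modulo the largest normal 2-subgroup of G, and also with the orbit of d under conjugation by that normal 2-subgroup. -/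
theorem result {G : Type*} [Group G] [Finite G] {D : Set G} (hD : Cfsg.IsThreeTranspositionClass D) (hD2 : ∃ a ∈ D, ∃ b ∈ D, a ≠ b) {d : G} (hd : d ∈ D) : {v : G | v ∈ D ∧ ∀ e ∈ D, Commute v e ↔ Commute d e} = {v : G | v ∈ D ∧ d⁻¹ * v ∈ Cfsg.pCore 2 G} ∧ {v : G | v ∈ D ∧ ∀ e ∈ D, Commute v e ↔ Commute d e} = {v : G | ∃ g ∈ Cfsg.pCore 2 G, v = g * d * g⁻¹} := by
  obtain ⟨hset, hconj, hgen⟩ := class_to_group hD
  have horb : {v : G | ∃ g ∈ Cfsg.pCore 2 G, v = g * d * g⁻¹} ⊆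
      {v : G | v ∈ D ∧ d⁻¹ * v ∈ Cfsg.pCore 2 G} := by
    rintro v ⟨g, hg, rfl⟩
    refine ⟨hconj g d hd, ?_⟩
    have h1 := (inferInstance : (Cfsg.pCore 2 G).Normal).conj_mem g hg d⁻¹
    rw [inv_inv] at h1
    have h2 : d⁻¹ * (g * d * g⁻¹) = d⁻¹ * g * d * g⁻¹ := by group
    rw [h2]
    exact mul_mem h1 (inv_mem hg)
  have hA : {v : G | v ∈ D ∧ d⁻¹ * v ∈ Cfsg.pCore 2 G} ⊆
      {v : G | v ∈ D ∧ ∀ e ∈ D, Commute v e ↔ Commute d e} := by
    rintro v ⟨hv, hm⟩
    rw [inv_eq_self (hset.1 d hd)] at hm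
    exact ⟨hv, sameComm_of_mul_mem hset hd hv hm⟩
  have hB : {v : G | v ∈ D ∧ ∀ e ∈ D, Commute v e ↔ Commute d e} ⊆
      {v : G | ∃ g ∈ Cfsg.pCore 2 G, v = g * d * g⁻¹} := by
    rintro v ⟨hv, hs⟩
    have hz : d * v ∈ Cfsg.pCore 2 G := mul_mem_of_sameComm hset hconj hd hv hs
    by_cases hvd : v = d
    · exact ⟨1, one_mem _, by simp [hvd]⟩
    obtain ⟨e, he, hde⟩ : ∃ e ∈ D, ¬ Commute d e := by
      by_contra! hall
      obtain ⟨g, hg⟩ := class_conj hD hd hv
      have hc : g ∈ Subgroup.centralizer {d} := by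
        have hle : Subgroup.closure D ≤ Subgroup.centralizer {d} :=
          (Subgroup.closure_le _).2 fun e he => Subgroup.mem_centralizer_singleton_iff.2 (hall e he).eq.symm
        exact hle (by rw [hgen]; exact Subgroup.mem_top g)
      rw [Subgroup.mem_centralizer_singleton_iff] at hc
      exact hvd (by rw [← hg, hc, mul_inv_cancel_right])
    have hve : ¬ Commute v e := fun hc => hde ((hs e he).1 hc)
    have hdv : Commute d v := (hs v hv).1 (Commute.refl v)
    refine ⟨e * (d * v) * e⁻¹, (inferInstance : (Cfsg.pCore 2 G).Normal).conj_mem _ hz e, ?_⟩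
    have he2 := mul_self_eq_one (hset.1 e he)
    have hei := inv_eq_self (hset.1 e he)
    have hdi := inv_eq_self (hset.1 d hd)
    have hvi := inv_eq_self (hset.1 v hv)
    have h1 := conj_eq_conj hset hd he hde
    have h2 := conj_eq_conj hset hv he hve
    symm
    calc e * (d * v) * e⁻¹ * d * (e * (d * v) * e⁻¹)⁻¹
        = e * d * v * (e⁻¹ * d * e) * v⁻¹ * d⁻¹ * e⁻¹ := by group
      _ = e * d * v * (e * d * e⁻¹) * v⁻¹ * d⁻¹ * e⁻¹ := by rw [hei]
      _ = e * d * v * (d * e * d⁻¹) * v⁻¹ * d⁻¹ * e⁻¹ := by rw [h1]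
      _ = e * (d * (v * d) * e * d⁻¹ * v⁻¹ * d⁻¹) * e⁻¹ := by group
      _ = e * ((d * d) * v * e * (d⁻¹ * v⁻¹ * d⁻¹)) * e⁻¹ := by rw [← hdv.eq]; group
      _ = e * (v * e * (d⁻¹ * (d * v)⁻¹)) * e⁻¹ := by rw [mul_self_eq_one (hset.1 d hd)]; group
      _ = e * (v * e * v⁻¹) * e⁻¹ := by
          rw [hdv.eq, mul_inv_rev, ← mul_assoc d⁻¹, hdi, mul_self_eq_one (hset.1 d hd), one_mul]
      _ = e * (e * v * e⁻¹) * e⁻¹ := by rw [h2]
      _ = (e * e) * v * (e * e)⁻¹ := by group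
      _ = v := by rw [he2]; simp
  exact ⟨Set.Subset.antisymm (fun v hv => horb (hB hv)) hA,
    Set.Subset.antisymm hB (fun v hv => hA (horb hv))⟩

end Cfsg.Agent.S5349
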