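import Cfsg.Statements.S4314

set_option autoImplicit false
open Pointwise
open Cfsg
open scoped commutatorElement

namespace Cfsg.Agent.S4314

/-- In a faithful transitive action of prime degree, an element of order `p` is self-centralising. -/
theorem commute_mem_zpowers {H X : Type*} [Group H] [Finite H] [Finite X] [MulAction H X]
    [FaithfulSMul H X] {p : ℕ} [Fact p.Prime] (hX : Nat.card X = p) {y : H} (hy : orderOf y = p)
    {t : H} (ht : Commute t y) : t ∈ Subgroup.zpowers y := by
  obtain ⟨o, ho⟩ : ∃ o : X, y • o ≠ o := by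
    by_contra hc
    push Not at hc
    have : y = 1 := FaithfulSMul.eq_of_smul_eq_smul (α := X) fun a => by rw [hc, one_smul]
    rw [this, orderOf_one] at hy
    exact (Fact.out : p.Prime).ne_one hy.symm
  have horb : MulAction.orbit (Subgroup.zpowers y) o = Set.univ := by
    have hP : IsPGroup p (Subgroup.zpowers y) := IsPGroup.of_card (by rw [Nat.card_zpowers, hy, pow_one])
    obtain ⟨k, hk⟩ := hP.card_orbit o
    have hle : Nat.card (MulAction.orbit (Subgroup.zpowers y) o) ≤ p := by
      rw [← hX]; exact Nat.card_le_card_of_injective _ Subtype.val_injective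
    apply Set.eq_of_subset_of_ncard_le (Set.subset_univ _)
    rw [Set.ncard_univ, hX, ← Nat.card_coe_set_eq, hk]
    rcases Nat.eq_zero_or_pos k with rfl | hk0
    · exfalso
      rw [pow_zero, Nat.card_eq_one_iff_unique] at hk
      obtain ⟨hs, -⟩ := hk
      exact ho (congrArg Subtype.val (Subsingleton.elim
        (⟨y • o, ⟨⟨y, Subgroup.mem_zpowers y⟩, rfl⟩⟩ : MulAction.orbit (Subgroup.zpowers y) o)
        ⟨o, MulAction.mem_orbit_self o⟩))
    · calc p = p ^ 1 := (pow_one p).symm
        _ ≤ p ^ k := Nat.pow_le_pow_right (Fact.out : p.Prime).pos hk0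
  obtain ⟨⟨z, hz⟩, hzo⟩ : t • o ∈ MulAction.orbit (Subgroup.zpowers y) o := horb ▸ Set.mem_univ _
  suffices t = z by rw [this]; exact hz
  refine FaithfulSMul.eq_of_smul_eq_smul (α := X) fun a => ?_
  obtain ⟨⟨w, hw⟩, rfl⟩ : a ∈ MulAction.orbit (Subgroup.zpowers y) o := horb ▸ Set.mem_univ _
  obtain ⟨i, rfl⟩ := Subgroup.mem_zpowers_iff.1 hw
  obtain ⟨j, rfl⟩ := Subgroup.mem_zpowers_iff.1 hz
  change y ^ j • o = t • o at hzo
  change t • (y ^ i • o) = y ^ j • (y ^ i • o)
  rw [smul_smul, (ht.zpow_right i).eq, mul_smul, ← hzo, smul_smul, smul_smul,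
    (Commute.zpow_zpow_self y i j).eq]

/-- Groups with all class sizes one or prime. -/
theorem result {G : Type*} [Group G] [Finite G]
    (h : ∀ x : G, (Subgroup.centralizer ({x} : Set G)).index = 1 ∨ ((Subgroup.centralizer ({x} : Set G)).index).Prime) :
    Subgroup.upperCentralSeries G 2 = ⊤ ∨
      ∃ p q : ℕ, p.Prime ∧ q.Prime ∧ p ≠ q ∧ Nat.card (G ⧸ Subgroup.center G) = p * q ∧ ¬ IsMulCommutative (G ⧸ Subgroup.center G) := by
  by_cases hnorm : ∀ x : G, (Subgroup.centralizer ({x} : Set G)).Normal
  · left
    rw [eq_top_iff]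
    intro g _
    rw [Subgroup.mem_upperCentralSeries_succ_iff]
    intro a
    rw [Subgroup.upperCentralSeries_one, Subgroup.mem_center_iff]
    intro x
    have : ⁅g, a⁆ ∈ Subgroup.centralizer ({x} : Set G) := by
      set C := Subgroup.centralizer ({x} : Set G)
      have := hnorm x
      rcases h x with h1 | h1
      · rw [show C = ⊤ from Subgroup.index_eq_one.1 h1]; exact Subgroup.mem_top _
      have : Fact (C.index).Prime := ⟨h1⟩
      have hc := (isCyclic_of_prime_card (α := G ⧸ C) (p := C.index) (Subgroup.index_eq_card C).symm).isMulCommutative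
      rw [← QuotientGroup.eq_one_iff, commutatorElement_def]
      simp only [QuotientGroup.mk_mul, QuotientGroup.mk_inv]
      rw [hc.is_comm.comm (g : G ⧸ C) (a : G ⧸ C)]
      group
    rw [Subgroup.mem_centralizer_singleton_iff] at this
    exact this.symm
  · right
    push Not at hnorm
    obtain ⟨x, hx⟩ := hnorm
    set C := Subgroup.centralizer ({x} : Set G) with hC
    have hp : C.index.Prime := (h x).resolve_left fun h1 => hx (by
      rw [show C = ⊤ from Subgroup.index_eq_one.1 h1]; infer_instance)
    set p := C.index with hpdef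
    have : Fact p.Prime := ⟨hp⟩
    set K := C.normalCore with hK
    have hKC : K ≤ C := C.normalCore_le
    have hker : (MulAction.toPermHom G (G ⧸ C)).ker = K := (Subgroup.normalCore_eq_ker C).symm
    let : MulAction (G ⧸ K) (G ⧸ C) := MulAction.compHom (G ⧸ C)
      (QuotientGroup.lift K (MulAction.toPermHom G (G ⧸ C)) hker.ge)
    have hfaith : FaithfulSMul (G ⧸ K) (G ⧸ C) := ⟨fun {a b} => by
      intro hab
      have hinj : Function.Injective (QuotientGroup.lift K (MulAction.toPermHom G (G ⧸ C)) hker.ge) := by
        rw [injective_iff_map_eq_one]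
        intro q
        refine QuotientGroup.induction_on q fun g hg => ?_
        exact (QuotientGroup.eq_one_iff g).2 (hker ▸ (MonoidHom.mem_ker.2 hg))
      exact hinj (Equiv.ext hab)⟩
    have hX : Nat.card (G ⧸ C) = p := (Subgroup.index_eq_card C).symm
    have hpdvd : p ∣ Nat.card (G ⧸ K) := by
      rw [← Subgroup.index_eq_card]; exact Subgroup.index_dvd_of_le hKC
    obtain ⟨ybar, hybar⟩ := exists_prime_orderOf_dvd_card' p hpdvd
    obtain ⟨y, rfl⟩ := QuotientGroup.mk_surjective ybar
    set A := Subgroup.centralizer ({y} : Set G) with hA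
    have hAmap : A.map (QuotientGroup.mk' K) = Subgroup.zpowers (y : G ⧸ K) := by
      refine le_antisymm ?_ ?_
      · rintro _ ⟨a, ha, rfl⟩
        refine commute_mem_zpowers hX hybar ?_
        exact congrArg (QuotientGroup.mk' K) (Subgroup.mem_centralizer_singleton_iff.1 ha)
      · rw [Subgroup.zpowers_le]
        exact ⟨y, Subgroup.mem_centralizer_singleton_iff.2 rfl, rfl⟩
    set d := (A.map (QuotientGroup.mk' K)).index with hd
    have hcard : d * p = Nat.card (G ⧸ K) := by
      rw [← Subgroup.index_mul_card (A.map (QuotientGroup.mk' K)), ← hd, hAmap, Nat.card_zpowers, hybar]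
    have hdeq : d = (A ⊔ K).index := by
      rw [hd, Subgroup.index_map, QuotientGroup.ker_mk', QuotientGroup.range_mk', Subgroup.index_top, mul_one]
    have hddvd : d ∣ A.index := hdeq ▸ Subgroup.index_dvd_of_le le_sup_left
    have hd1 : d ≠ 1 := by
      intro hd1
      apply hx
      have h1 : K.index = C.index := by
        rw [Subgroup.index_eq_card, ← hcard, hd1, one_mul]
      have h2 : K = C := by
        refine Subgroup.eq_of_le_of_card_ge hKC ?_
        have h3 := K.card_mul_index
        rw [h1] at h3
        exact le_of_eq (Nat.eq_of_mul_eq_mul_right (Nat.pos_of_ne_zero (hp.ne_zero))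
          (C.card_mul_index.trans h3.symm))
      rw [← h2]
      exact C.normalCore_normal
    have hr : A.index.Prime := (h y).resolve_left fun h1 => hd1 (Nat.dvd_one.1 (h1 ▸ hddvd))
    set r := A.index with hrdef
    have hdr : d = r := (hr.eq_one_or_self_of_dvd d hddvd).resolve_left hd1
    rw [hdr] at hcard
    have hKA : K ≤ A := by
      have : A = A ⊔ K := by
        refine Subgroup.eq_of_le_of_card_ge le_sup_left ?_
        have h1 := A.card_mul_index
        have h2 := (A ⊔ K).card_mul_index
        rw [← hdeq, hdr] at h2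
        exact le_of_eq (Nat.eq_of_mul_eq_mul_right hr.pos (h2.trans h1.symm))
      rw [this]; exact le_sup_right
    have hpr : p ≠ r := by
      intro hpr
      have hfact : Nat.card (G ⧸ K) ∣ p.factorial := by
        have h1 : Nat.card (G ⧸ K) ∣ Nat.card (Equiv.Perm (G ⧸ C)) :=
          Subgroup.card_dvd_of_injective (QuotientGroup.lift K (MulAction.toPermHom G (G ⧸ C)) hker.ge)
            (fun a b hab => hfaith.eq_of_smul_eq_smul fun q => Equiv.ext_iff.1 hab q)
        rwa [Nat.card_perm, hX] at h1
      rw [← hcard, ← hpr, ← Nat.mul_factorial_pred hp.ne_zero] at hfact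
      have h2 := (hp.dvd_factorial).1 (Nat.dvd_of_mul_dvd_mul_left hp.pos hfact)
      have := hp.two_le
      omega
    have hxK : x ∉ K := by
      intro hxK
      have : (y : G) ∈ C := Subgroup.mem_centralizer_singleton_iff.2
        (Subgroup.mem_centralizer_singleton_iff.1 (hKA hxK)).symm
      have hle : C.map (QuotientGroup.mk' K) ≠ ⊤ := fun h1 => by
        have h3 := (Subgroup.index_map C (QuotientGroup.mk' K))
        rw [h1, Subgroup.index_top, QuotientGroup.ker_mk', sup_eq_left.2 hKC, QuotientGroup.range_mk',
          Subgroup.index_top, mul_one] at h3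
        exact hp.ne_one h3.symm
      have h4 : p ∣ Nat.card (C.map (QuotientGroup.mk' K)) :=
        hybar ▸ Subgroup.orderOf_dvd_natCard (C.map (QuotientGroup.mk' K)) ⟨y, this, rfl⟩
      have h5 := Subgroup.card_mul_index (C.map (QuotientGroup.mk' K))
      rw [Subgroup.index_map, QuotientGroup.ker_mk', sup_eq_left.2 hKC, QuotientGroup.range_mk',
        Subgroup.index_top, mul_one, ← hpdef, ← hcard] at h5
      have h6 : Nat.card (C.map (QuotientGroup.mk' K)) = r := Nat.eq_of_mul_eq_mul_right hp.pos h5
      rw [h6] at h4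
      exact hpr ((Nat.prime_dvd_prime_iff_eq hp hr).1 h4)
    -- centralisers of the coset of x
    have hcentx : ∀ t : G, Commute (t : G ⧸ K) (x : G ⧸ K) → t ∈ C := by
      intro t ht
      by_contra htC
      let Z := Subgroup.centralizer ({(x : G ⧸ K)} : Set (G ⧸ K))
      have hle : C.map (QuotientGroup.mk' K) ≤ Z := by
        rintro _ ⟨c, hc, rfl⟩
        exact Subgroup.mem_centralizer_singleton_iff.2
          (congrArg (QuotientGroup.mk' K) (Subgroup.mem_centralizer_singleton_iff.1 hc))
      have hind : (C.map (QuotientGroup.mk' K)).index = p := by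
        rw [Subgroup.index_map, QuotientGroup.ker_mk', sup_eq_left.2 hKC, QuotientGroup.range_mk',
          Subgroup.index_top, mul_one]
      rcases hp.eq_one_or_self_of_dvd _ (hind ▸ Subgroup.index_dvd_of_le hle) with h1 | h1
      · rw [Subgroup.index_eq_one] at h1
        have hy' : Commute (x : G ⧸ K) (y : G ⧸ K) :=
          (Subgroup.mem_centralizer_singleton_iff.1 (h1.ge (Subgroup.mem_top (y : G ⧸ K)))).symm
        have hmem := commute_mem_zpowers hX hybar hy'
        have h7 : orderOf (x : G ⧸ K) ∣ p := by
          have h71 := Subgroup.orderOf_dvd_natCard _ hmem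
          rwa [Nat.card_zpowers, hybar] at h71
        have h8 : orderOf (x : G ⧸ K) ∣ r := by
          have h9 := Subgroup.card_mul_index (C.map (QuotientGroup.mk' K))
          rw [hind, ← hcard] at h9
          rw [← Nat.eq_of_mul_eq_mul_right hp.pos h9]
          exact Subgroup.orderOf_dvd_natCard _ ⟨x, Subgroup.mem_centralizer_singleton_iff.2 rfl, rfl⟩
        have := Nat.dvd_gcd h7 h8
        rw [((Nat.coprime_primes hp hr).2 hpr).gcd_eq_one, Nat.dvd_one, orderOf_eq_one_iff,
          QuotientGroup.eq_one_iff] at this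
        exact hxK this
      · have h2 : C.map (QuotientGroup.mk' K) = Z := by
          refine Subgroup.eq_of_le_of_card_ge hle ?_
          have a := (C.map (QuotientGroup.mk' K)).card_mul_index
          have b := Z.card_mul_index
          rw [hind] at a
          rw [h1] at b
          exact le_of_eq (Nat.eq_of_mul_eq_mul_right hp.pos (b.trans a.symm))
        have h3 : (t : G ⧸ K) ∈ C.map (QuotientGroup.mk' K) :=
          h2 ▸ Subgroup.mem_centralizer_singleton_iff.2 ht.eq
        obtain ⟨c, hc, hct⟩ := h3
        have := QuotientGroup.eq.1 hct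
        exact htC ((C.mul_mem_cancel_left (C.inv_mem hc)).1 (hKC this))
    have hKab : ∀ k ∈ K, ∀ l ∈ K, k * l = l * k := by
      intro k hk l hl
      by_contra hkl
      set B := Subgroup.centralizer ({x * k} : Set G)
      have hBC : B ≤ C := by
        intro t ht
        apply hcentx
        have h1 := congrArg (QuotientGroup.mk' K) (Subgroup.mem_centralizer_singleton_iff.1 ht)
        change (t : G ⧸ K) * (x : G ⧸ K) = (x : G ⧸ K) * (t : G ⧸ K)
        simpa [(QuotientGroup.eq_one_iff k).2 hk] using h1
      have hne : B ≠ C := by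
        intro hBeq
        have h1 : l * (x * k) = (x * k) * l :=
          Subgroup.mem_centralizer_singleton_iff.1 (hBeq ▸ hKC hl : l ∈ B)
        have h2 : l * x = x * l := Subgroup.mem_centralizer_singleton_iff.1 (hKC hl)
        rw [← mul_assoc, h2, mul_assoc, mul_assoc] at h1
        exact hkl (mul_left_cancel h1).symm
      have hB := Subgroup.relIndex_mul_index hBC
      rw [← hpdef] at hB
      have hlt : B.relIndex C ≠ 1 := fun h1 => hne (le_antisymm hBC (Subgroup.relIndex_eq_one.1 h1))
      rcases h (x * k) with h3 | h3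
      · rw [h3] at hB
        exact hp.ne_one (Nat.eq_one_of_mul_eq_one_left hB)
      · rw [← hB, Nat.prime_mul_iff] at h3
        rcases h3 with ⟨-, h4⟩ | ⟨-, h4⟩
        · exact hp.ne_one h4
        · exact hlt h4
    have hgen : ∀ S : Subgroup G, K ≤ S → x ∈ S → y ∈ S → S = ⊤ := by
      intro S hS hxS hyS
      rw [← Subgroup.index_eq_one]
      have h1 : S.index ∣ K.index := Subgroup.index_dvd_of_le hS
      rw [Subgroup.index_eq_card K, ← hcard] at h1
      set M := S.map (QuotientGroup.mk' K) with hM
      have hMi : M.index = S.index := by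
        rw [hM, Subgroup.index_map, QuotientGroup.ker_mk', sup_eq_left.2 hS, QuotientGroup.range_mk',
          Subgroup.index_top, mul_one]
      have hmulM := M.card_mul_index
      rw [hMi, ← hcard] at hmulM
      have hpM : p ∣ Nat.card M := hybar ▸ Subgroup.orderOf_dvd_natCard M ⟨y, hyS, rfl⟩
      have hxo : orderOf (x : G ⧸ K) = r := by
        have h9 := Subgroup.card_mul_index (C.map (QuotientGroup.mk' K))
        rw [Subgroup.index_map, QuotientGroup.ker_mk', sup_eq_left.2 hKC, QuotientGroup.range_mk',
          Subgroup.index_top, mul_one, ← hpdef, ← hcard] at h9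
        refine (hr.eq_one_or_self_of_dvd _ ?_).resolve_left ?_
        · rw [← Nat.eq_of_mul_eq_mul_right hp.pos h9]
          exact Subgroup.orderOf_dvd_natCard _ ⟨x, Subgroup.mem_centralizer_singleton_iff.2 rfl, rfl⟩
        · rw [orderOf_eq_one_iff, QuotientGroup.eq_one_iff]; exact hxK
      have hrM : r ∣ Nat.card M := hxo ▸ Subgroup.orderOf_dvd_natCard M ⟨x, hxS, rfl⟩
      obtain ⟨c, hc⟩ := ((Nat.coprime_primes hp hr).2 hpr).mul_dvd_of_dvd_of_dvd hpM hrM
      rw [hc] at hmulM
      have : c * S.index = 1 := Nat.eq_of_mul_eq_mul_left (Nat.mul_pos hp.pos hr.pos)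
        (by rw [← mul_assoc, hmulM, mul_one, mul_comm r p])
      exact Nat.eq_one_of_mul_eq_one_left this
    have hKZ : K = Subgroup.center G := by
      refine le_antisymm (fun k hk => ?_) ?_
      · have := hgen (Subgroup.centralizer ({k} : Set G))
          (fun l hl => Subgroup.mem_centralizer_singleton_iff.2 (hKab l hl k hk))
          (Subgroup.mem_centralizer_singleton_iff.2 (Subgroup.mem_centralizer_singleton_iff.1 (hKC hk)).symm)
          (Subgroup.mem_centralizer_singleton_iff.2 (Subgroup.mem_centralizer_singleton_iff.1 (hKA hk)).symm)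
        rw [Subgroup.mem_center_iff]
        intro g
        exact Subgroup.mem_centralizer_singleton_iff.1 (this ▸ Subgroup.mem_top g)
      · exact Subgroup.normal_le_normalCore.2 (Subgroup.center_le_centralizer _)
    refine ⟨r, p, hr, hp, Ne.symm hpr, by rw [← hKZ, hcard], fun hcomm => ?_⟩
    have hn : C.Normal := by
      have hsurj := QuotientGroup.mk'_surjective (Subgroup.center G)
      have h10 : ((C.map (QuotientGroup.mk' (Subgroup.center G))).comap
          (QuotientGroup.mk' (Subgroup.center G))).Normal := by
        have : (C.map (QuotientGroup.mk' (Subgroup.center G))).Normal :=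
          ⟨fun n hn g => by rwa [hcomm.is_comm.comm g n, mul_inv_cancel_right]⟩
        infer_instance
      rwa [Subgroup.comap_map_eq, QuotientGroup.ker_mk', sup_eq_left.2 (hKZ ▸ hKC)] at h10
    exact hx hn

end Cfsg.Agent.S4314
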