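import Cfsg.Statements.S4345
import Cfsg.Agent.S4341

set_option autoImplicit false
open Pointwise
open Cfsg

namespace Cfsg.Agent.S4345

theorem exists_normal_primePower {G : Type*} [Group G] [Finite G] [Nontrivial G]
    (hG : Group.IsSolvable G) :
    ∃ (q : ℕ) (K : Subgroup G), q.Prime ∧ K.Normal ∧ K ≠ ⊥ ∧ IsPGroup q K := by
  obtain ⟨n, hn⟩ := hG
  have h0 : derivedSeries G 0 ≠ ⊥ := by
    rw [derivedSeries_zero]; exact top_ne_bot
  obtain ⟨m, hm, hne⟩ : ∃ m, derivedSeries G (m + 1) = ⊥ ∧ derivedSeries G m ≠ ⊥ := by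
    classical
    have hex : ∃ n, derivedSeries G n = ⊥ := ⟨n, hn⟩
    obtain ⟨m, hm⟩ : ∃ m, Nat.find hex = m + 1 := by
      rcases Nat.eq_zero_or_pos (Nat.find hex) with h | h
      · exact absurd (h ▸ Nat.find_spec hex) h0
      · exact ⟨Nat.find hex - 1, by omega⟩
    exact ⟨m, hm ▸ Nat.find_spec hex, Nat.find_min hex (by omega)⟩
  set A := derivedSeries G m with hA
  have hcomm : ∀ a b : A, a * b = b * a := by
    intro a b
    apply Subtype.ext
    have : ⁅A, A⁆ ≤ ⊥ := by rw [← hm, derivedSeries_succ]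
    exact commutatorElement_eq_one_iff_mul_comm.1
      (Subgroup.mem_bot.1 (this (Subgroup.commutator_mem_commutator a.2 b.2))) |>.trans rfl
  have hcard : Nat.card A ≠ 1 := fun h => hne (Subgroup.eq_bot_of_card_eq _ h)
  have : Fact (Nat.card A).minFac.Prime := ⟨Nat.minFac_prime hcard⟩
  obtain ⟨S⟩ : Nonempty (Sylow (Nat.card A).minFac A) := Sylow.nonempty
  have : (S : Subgroup A).Normal := ⟨fun x hx g => by rwa [hcomm g x, mul_inv_cancel_right]⟩
  have := Sylow.characteristic_of_normal S this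
  refine ⟨(Nat.card A).minFac, (S : Subgroup A).map A.subtype, Fact.out, ?_, ?_, S.isPGroup'.map _⟩
  · exact inferInstance
  · rw [Ne, Subgroup.map_eq_bot_iff_of_injective _ A.subtype_injective]
    exact S.ne_bot_of_dvd_card (Nat.minFac_dvd _)

theorem card_sylow_eq_one_of_isPGroup {K : Type*} [Group K] [Finite K] {p q : ℕ} [Fact p.Prime]
    [Fact q.Prime] (h : IsPGroup q K) : Nat.card (Sylow p K) = 1 := by
  obtain ⟨P⟩ : Nonempty (Sylow p K) := Sylow.nonempty
  have : Group.IsNilpotent K := h.isNilpotent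
  have hN : (P : Subgroup K).Normal :=
    Sylow.normal_of_normalizerCondition Group.normalizerCondition_of_isNilpotent P
  rw [P.card_eq_index_normalizer]
  exact Subgroup.index_eq_one.2 (Subgroup.normalizer_eq_top_iff.2 hN)

theorem aux (n : ℕ) : ∀ (G : Type*) [Group G] [Finite G], Nat.card G = n → Group.IsSolvable G →
    ∀ (p ℓ : ℕ) [Fact p.Prime], ℓ.Prime →
    ℓ ^ (Nat.card (Sylow p G)).factorization ℓ ≡ 1 [MOD p] := by
  induction n using Nat.strong_induction_on with
  | _ n ih =>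
  intro G _ _ hn hG p ℓ _ hℓ
  rcases subsingleton_or_nontrivial G with h | h
  · have : Subsingleton (Sylow p G) := ⟨fun A B => Sylow.ext (Subsingleton.elim _ _)⟩
    rw [Nat.card_unique, Nat.factorization_one]
    rfl
  obtain ⟨q, K, hq, hK, hne, hKq⟩ := exists_normal_primePower hG
  have : Fact q.Prime := ⟨hq⟩
  have hlt : Nat.card (G ⧸ K) < n := by
    rw [← hn, Subgroup.card_eq_card_quotient_mul_card_subgroup K]
    have h1 : 0 < Nat.card (G ⧸ K) := Nat.card_pos
    have h2 : 1 < Nat.card K := (Subgroup.one_lt_card_iff_ne_bot K).2 hne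
    nlinarith
  have hquot := ih _ hlt (G ⧸ K) rfl inferInstance p ℓ hℓ
  obtain ⟨P⟩ : Nonempty (Sylow p G) := Sylow.nonempty
  set N := ((P : Subgroup G) ⊔ K) ⊓
    Subgroup.normalizer (((P : Subgroup G) ⊓ K : Subgroup G) : Set G) with hN
  have hnormal : (((P : Subgroup G) ⊓ K).subgroupOf N).Normal :=
    Subgroup.normal_subgroupOf_of_le_normalizer inf_le_right
  rw [S4341.result p K P N hN, card_sylow_eq_one_of_isPGroup hKq, mul_one]
  have hPN : (P : Subgroup G) ≤ N := le_inf le_sup_left (fun g hg =>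
    Subgroup.inf_normalizer_le_normalizer_inf ⟨Subgroup.le_normalizer hg, by
      rw [Subgroup.normalizer_eq_top]; exact Subgroup.mem_top g⟩)
  set X := Nat.card (Sylow p (N ⧸ ((P : Subgroup G) ⊓ K).subgroupOf N)) with hXdef
  have hdvd : X ∣ Nat.card K := by
    refine (Sylow.card_dvd_index ((P.subtype hPN).mapSurjective
      (QuotientGroup.mk'_surjective (((P : Subgroup G) ⊓ K).subgroupOf N)))).trans ?_
    refine (Subgroup.index_map_dvd _ (QuotientGroup.mk'_surjective _)).trans ?_
    rw [Sylow.coe_subtype]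
    change (P : Subgroup G).relIndex N ∣ _
    have h1 : (P : Subgroup G).relIndex ((P : Subgroup G) ⊔ K) = (P : Subgroup G).relIndex K := by
      apply S4341.relIndex_eq_of_forall_exists le_sup_right
      intro b hb
      rw [sup_comm] at hb
      obtain ⟨k, hk, y, hy, rfl⟩ := Subgroup.mem_sup_of_normal_left.1 hb
      exact ⟨k, hk, by rwa [inv_mul_cancel_left]⟩
    have h2 : (P : Subgroup G).relIndex K ∣ Nat.card K := Subgroup.index_dvd_card _
    refine dvd_trans ?_ (h1 ▸ h2)
    exact Dvd.intro (N.relIndex _) (Subgroup.relIndex_mul_relIndex _ _ _ hPN (hN ▸ inf_le_left))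
  obtain ⟨k, hk⟩ := IsPGroup.iff_card.1 hKq
  obtain ⟨j, -, hj⟩ := (Nat.dvd_prime_pow hq).1 (hk ▸ hdvd)
  have hX : ℓ ^ X.factorization ℓ ≡ 1 [MOD p] := by
    by_cases hlq : ℓ = q
    · subst hlq
      rw [hj, hℓ.factorization_pow, Finsupp.single_eq_same, ← hj, hXdef]
      exact card_sylow_modEq_one p _
    · rw [hj, hq.factorization_pow, Finsupp.single_eq_of_ne (Ne.symm (Ne.symm hlq)), pow_zero]
  rw [Nat.factorization_mul Nat.card_pos.ne' Nat.card_pos.ne', Finsupp.add_apply, pow_add]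
  simpa using hquot.mul hX

/-- Prime-power parts of Sylow numbers of solvable groups are congruent to 1. -/
theorem result {G : Type*} [Group G] [Finite G]
    (hG : Group.IsSolvable G) (p ℓ : ℕ) [Fact p.Prime] (hℓ : ℓ.Prime) :
    ℓ ^ (Nat.card (Sylow p G)).factorization ℓ ≡ 1 [MOD p] :=
  aux _ G rfl hG p ℓ hℓ

end Cfsg.Agent.S4345
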