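import Cfsg.Statements.S1324
import Cfsg.Agent.Lib.Solvable.CoprimeGeneration
import Cfsg.Agent.Lib.Components.Subnormal

set_option autoImplicit false
open Cfsg

namespace Cfsg.Agent.S1324

/-- Let A be a noncyclic elementary abelian p-subgroup of a finite group H normalizing a subgroup X of order prime to p. Then X is generated by the subgroups X ∩ C_H(B), B ranging over the subgroups of A of index at most p. -/
theorem result {H : Type*} [Group H] [Finite H] (p : ℕ) [Fact p.Prime] (A X : Subgroup H) (hA : Cfsg.IsElementaryAbelian p A) (hA2 : p ^ 2 ≤ Nat.card ↥A) (hX : ¬ p ∣ Nat.card ↥X) (hAX : A ≤ Subgroup.normalizer (X : Set H)) : X = ⨆ B : {B : Subgroup H // B ≤ A ∧ B.relIndex A ≤ p}, X ⊓ Subgroup.centralizer ((B : Subgroup H) : Set H) := by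
  haveI := hA.1
  have hp := (Fact.out : p.Prime)
  have hAp : IsPGroup p ↥A := fun a => ⟨1, Subtype.ext (by simpa using hA.2 a a.2)⟩
  have hcop : (Nat.card ↥A).Coprime (Nat.card ↥X) := by
    obtain ⟨k, hk⟩ := hAp.exists_card_eq
    rw [hk]
    exact Nat.Coprime.pow_left k (hp.coprime_iff_not_dvd.mpr hX)
  refine le_antisymm ?_ (iSup_le fun B => inf_le_left)
  refine CfsgLib.Solvable.le_of_cyclic_quotient_centralizer_le hAX hcop fun B hB ⟨a, ha, hcyc⟩ => ?_
  refine le_iSup_of_le (⟨B, hB, ?_⟩ : {B : Subgroup H // B ≤ A ∧ B.relIndex A ≤ p}) le_rfl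
  have h1 : B.relIndex A * Nat.card ↥B = Nat.card ↥A := by
    rw [← Subgroup.relIndex_bot_left B, mul_comm, Subgroup.relIndex_mul_relIndex _ _ _ bot_le hB,
      Subgroup.relIndex_bot_left]
  have h2 : Nat.card ↥A ≤ Nat.card ↥B * p := by
    have hn : Subgroup.zpowers a ≤ Subgroup.normalizer (B : Set H) := by
      refine (Subgroup.zpowers_le.mpr ?_).trans (Subgroup.centralizer_le_normalizer _)
      exact Subgroup.mem_centralizer_iff.mpr fun b hb =>
        congrArg Subtype.val (mul_comm' (⟨b, hB hb⟩ : ↥A) ⟨a, ha⟩)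
    have hd := CfsgLib.Components.card_sup_dvd hn
    have hpa : Nat.card ↥(Subgroup.zpowers a) ≤ p := by
      rw [Nat.card_zpowers]
      exact orderOf_le_of_pow_eq_one hp.pos (hA.2 a ha)
    calc Nat.card ↥A ≤ Nat.card ↥(B ⊔ Subgroup.zpowers a) := Subgroup.card_le_of_le hcyc
      _ ≤ Nat.card ↥(Subgroup.zpowers a) * Nat.card ↥B := by
        rw [sup_comm]; exact Nat.le_of_dvd (mul_pos Nat.card_pos Nat.card_pos) hd
      _ ≤ Nat.card ↥B * p := by rw [mul_comm]; exact Nat.mul_le_mul_left _ hpa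
  rw [← h1, mul_comm _ p] at h2
  exact Nat.le_of_mul_le_mul_right h2 Nat.card_pos

end Cfsg.Agent.S1324
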