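import Cfsg.Statements.S1349
import Cfsg.Agent.Lib.Solvable.Core
import Cfsg.Agent.Lib.Invol.Dihedral

set_option autoImplicit false
open Cfsg

namespace Cfsg.Agent.S1349

open scoped Classical

variable {G : Type*} [Group G]

/-- `S` is invariant under conjugation by elements of `A`. -/
def AInv (A S : Subgroup G) : Prop := ∀ a ∈ A, ∀ s ∈ S, a * s * a⁻¹ ∈ S

/-- `c` centralizes or inverts `x`. -/
def Eig (c x : G) : Prop := c * x * c⁻¹ = x ∨ c * x * c⁻¹ = x⁻¹

theorem mem_of_mul_self_mem [Finite G] {L S : Subgroup G} (hL : Odd (Nat.card ↥L)) {x : G} (hx : x ∈ L)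
    (h : x * x ∈ S) : x ∈ S := by
  obtain ⟨m, hm⟩ := hL.of_dvd_nat (Subgroup.orderOf_dvd_natCard L hx)
  have h1 : (x * x) ^ (m + 1) = x := by
    rw [← pow_two, ← pow_mul, show 2 * (m + 1) = orderOf x + 1 by omega, pow_succ,
      pow_orderOf_eq_one, one_mul]
  rw [← h1]
  exact pow_mem h _

theorem eq_one_of_mul_self [Finite G] {L : Subgroup G} (hL : Odd (Nat.card ↥L)) {x : G} (hx : x ∈ L)
    (h : x * x = 1) : x = 1 :=
  Subgroup.mem_bot.mp (mem_of_mul_self_mem (S := ⊥) hL hx (Subgroup.mem_bot.mpr h))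

theorem eq_one_of_fixed_inverted [Finite G] {L : Subgroup G} (hL : Odd (Nat.card ↥L)) {x a : G}
    (hx : x ∈ L) (h1 : a * x * a⁻¹ = x) (h2 : a * x * a⁻¹ = x⁻¹) : x = 1 :=
  eq_one_of_mul_self hL hx (by
    have h3 : x = x⁻¹ := h1.symm.trans h2
    nth_rw 2 [h3]
    exact mul_inv_cancel x)

section Eigen

variable {A : Subgroup G}

theorem inverted_comm_quot (hsq : ∀ c ∈ A, c * c = 1) {a : G} (ha : a ∈ A) (x : G) :
    a * (x⁻¹ * (a * x * a⁻¹)) * a⁻¹ = (x⁻¹ * (a * x * a⁻¹))⁻¹ := by
  have hi : a⁻¹ = a := inv_eq_of_mul_eq_one_right (hsq a ha)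
  have h1 : ∀ z : G, a * (a * z) = z := fun z => by rw [← mul_assoc, hsq a ha, one_mul]
  simp only [mul_inv_rev, inv_inv, hi, mul_assoc, h1, hsq a ha, mul_one]

theorem exists_eigen (hcomA : ∀ c ∈ A, ∀ d ∈ A, c * d = d * c) (hsq : ∀ c ∈ A, c * c = 1)
    (S T : Subgroup G) (hS : AInv A S) (hodd : ∀ x ∈ S, x * x ∈ T → x ∈ T)
    (hcomm : ∀ x ∈ S, ∀ c ∈ A, Commute x (c * x * c⁻¹)) {x0 : G} (hx0 : x0 ∈ S) (hx0T : x0 ∉ T)
    (s : Finset G) (hs : ∀ c ∈ s, c ∈ A) :
    ∃ x ∈ S, x ∉ T ∧ (∀ c ∈ s, Eig c x) ∧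
      ∀ a ∈ A, a * x0 * a⁻¹ = x0⁻¹ → a * x * a⁻¹ = x⁻¹ := by
  induction s using Finset.induction_on with
  | empty => exact ⟨x0, hx0, hx0T, by simp, fun _ _ h => h⟩
  | @insert c s hc ih =>
    obtain ⟨x, hxS, hxT, heig, hinv⟩ := ih (fun d hd => hs d (Finset.mem_insert_of_mem hd))
    have hcA : c ∈ A := hs c (Finset.mem_insert_self c s)
    set y := c * x * c⁻¹ with hy
    have hyS : y ∈ S := hS c hcA x hxS
    have hxy : Commute x y := hcomm x hxS c hcA
    have hcy : c * y * c⁻¹ = x := by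
      rw [hy, show c * (c * x * c⁻¹) * c⁻¹ = (c * c) * x * (c * c)⁻¹ by
        simp only [mul_inv_rev, mul_assoc], hsq c hcA, one_mul, inv_one, mul_one]
    have hd : ∀ d ∈ A, d * y * d⁻¹ = c * (d * x * d⁻¹) * c⁻¹ := by
      intro d hd
      rw [hy]
      calc d * (c * x * c⁻¹) * d⁻¹ = (d * c) * x * (d * c)⁻¹ := by
            simp only [mul_inv_rev, mul_assoc]
        _ = (c * d) * x * (c * d)⁻¹ := by rw [hcomA c hcA d hd]
        _ = c * (d * x * d⁻¹) * c⁻¹ := by simp only [mul_inv_rev, mul_assoc]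
    have hdfix : ∀ d ∈ A, d * x * d⁻¹ = x → d * y * d⁻¹ = y := fun d hdA h => by
      rw [hd d hdA, h]
    have hdinv : ∀ d ∈ A, d * x * d⁻¹ = x⁻¹ → d * y * d⁻¹ = y⁻¹ := fun d hdA h => by
      rw [hd d hdA, h, hy]; simp only [mul_inv_rev, inv_inv, mul_assoc]
    have step : ∀ e : G, (e = y ∨ e = y⁻¹) → x * e ∈ S → x * e ∉ T → Eig c (x * e) →
        ∃ x ∈ S, x ∉ T ∧ (∀ c' ∈ insert c s, Eig c' x) ∧
          ∀ a ∈ A, a * x0 * a⁻¹ = x0⁻¹ → a * x * a⁻¹ = x⁻¹ := by
      intro e he heS heT hec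
      have hxe : Commute x e := by rcases he with rfl | rfl; exacts [hxy, hxy.inv_right]
      have hfix : ∀ d ∈ A, d * x * d⁻¹ = x → d * (x * e) * d⁻¹ = x * e := by
        intro d hdA h
        have h' : d * e * d⁻¹ = e := by
          rcases he with rfl | rfl
          · exact hdfix d hdA h
          · rw [← conj_inv, hdfix d hdA h]
        calc d * (x * e) * d⁻¹ = (d * x * d⁻¹) * (d * e * d⁻¹) := by
              simp only [mul_assoc, inv_mul_cancel_left]
          _ = x * e := by rw [h, h']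
      have hinv' : ∀ d ∈ A, d * x * d⁻¹ = x⁻¹ → d * (x * e) * d⁻¹ = (x * e)⁻¹ := by
        intro d hdA h
        have h' : d * e * d⁻¹ = e⁻¹ := by
          rcases he with rfl | rfl
          · exact hdinv d hdA h
          · rw [← conj_inv, hdinv d hdA h]
        calc d * (x * e) * d⁻¹ = (d * x * d⁻¹) * (d * e * d⁻¹) := by
              simp only [mul_assoc, inv_mul_cancel_left]
          _ = (x * e)⁻¹ := by rw [h, h', mul_inv_rev, hxe.inv_inv.eq]
      refine ⟨x * e, heS, heT, ?_, fun a ha h => hinv' a ha (hinv a ha h)⟩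
      intro c' hc'
      rcases Finset.mem_insert.mp hc' with rfl | h
      · exact hec
      · rcases heig c' h with h1 | h1
        · exact Or.inl (hfix c' (hs c' hc') h1)
        · exact Or.inr (hinv' c' (hs c' hc') h1)
    by_cases hT : x * y ∈ T
    · refine step y⁻¹ (Or.inr rfl) (mul_mem hxS (inv_mem hyS)) (fun h => hxT (hodd x hxS ?_)) (Or.inr ?_)
      · have := mul_mem h hT
        rwa [show x * y⁻¹ * (x * y) = x * x by
          rw [hxy.eq]; simp only [mul_assoc, inv_mul_cancel_left]] at this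
      · calc c * (x * y⁻¹) * c⁻¹ = y * (c * y * c⁻¹)⁻¹ := by
              rw [hy]; simp only [mul_inv_rev, inv_inv, mul_assoc, inv_mul_cancel_left]
          _ = (x * y⁻¹)⁻¹ := by rw [hcy, mul_inv_rev, inv_inv]
    · refine step y (Or.inl rfl) (mul_mem hxS hyS) hT (Or.inl ?_)
      calc c * (x * y) * c⁻¹ = y * (c * y * c⁻¹) := by
            rw [hy]; simp only [mul_assoc, inv_mul_cancel_left]
        _ = x * y := by rw [hcy, hxy.eq]

theorem exists_selfcentralizing [Finite G] (hcomA : ∀ c ∈ A, ∀ d ∈ A, c * d = d * c)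
    (hsq : ∀ c ∈ A, c * c = 1) (F : Subgroup G) [Group.IsNilpotent ↥F] (hF : Odd (Nat.card ↥F))
    (hFA : AInv A F) :
    ∃ M ≤ F, AInv A M ∧ (∀ a ∈ M, ∀ b ∈ M, a * b = b * a) ∧
      F ⊓ Subgroup.centralizer (M : Set G) ≤ M := by
  let α := {M : Subgroup G // M ≤ F ∧ AInv A M ∧ ∀ a ∈ M, ∀ b ∈ M, a * b = b * a}
  haveI : Nonempty α := ⟨⟨⊥, bot_le, fun a _ s hs => by
      rw [Subgroup.mem_bot.mp hs, mul_one, mul_inv_cancel]; exact one_mem _,
    fun a ha b hb => by rw [Subgroup.mem_bot.mp ha, Subgroup.mem_bot.mp hb]⟩⟩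
  haveI : Finite (Subgroup G) := Finite.of_injective (fun H => (H : Set G)) SetLike.coe_injective
  obtain ⟨⟨M, hMF, hMA, hMc⟩, hmax⟩ := Finite.exists_max (fun M : α => Nat.card ↥M.1)
  refine ⟨M, hMF, hMA, hMc, ?_⟩
  by_contra hnot
  let β := {C : Subgroup G // C ≤ F ⊓ Subgroup.centralizer (M : Set G) ∧ AInv A C ∧ ¬ C ≤ M}
  have hCA : AInv A (F ⊓ Subgroup.centralizer (M : Set G)) := by
    intro a ha s hs
    refine ⟨hFA a ha s hs.1, ?_⟩
    have hsM : s ∈ Subgroup.centralizer (M : Set G) := hs.2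
    apply Subgroup.mem_centralizer_iff.mpr
    intro m hm
    have h1 := Subgroup.mem_centralizer_iff.mp hsM (a⁻¹ * m * a) (by
      have := hMA a⁻¹ (inv_mem ha) m hm
      rwa [inv_inv] at this)
    calc m * (a * s * a⁻¹) = a * ((a⁻¹ * m * a) * s) * a⁻¹ := by
          simp only [mul_assoc, mul_inv_cancel_left]
      _ = a * (s * (a⁻¹ * m * a)) * a⁻¹ := by rw [h1]
      _ = (a * s * a⁻¹) * m := by simp only [mul_assoc, mul_inv_cancel, mul_one]
  haveI : Nonempty β := ⟨⟨_, le_rfl, hCA, hnot⟩⟩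
  obtain ⟨⟨C, hC, hCinv, hCM⟩, hmin⟩ := Finite.exists_min (fun C : β => Nat.card ↥C.1)
  have hCF : C ≤ F := hC.trans inf_le_left
  have hcent : ∀ m ∈ M, ∀ u ∈ C, m * u = u * m := fun m hm u hu =>
    Subgroup.mem_centralizer_iff.mp (hC hu).2 m hm
  have hsmall : ∀ D : Subgroup G, D ≤ C → AInv A D → D ≠ C → D ≤ M := by
    intro D hDC hDA hne
    by_contra hDM
    exact hne (Subgroup.eq_of_le_of_card_ge hDC (hmin ⟨D, hDC.trans hC, hDA, hDM⟩))
  have hD : ⁅C, C⁆ ≤ M := by
    refine hsmall _ ?_ ?_ ?_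
    · rw [Subgroup.commutator_le]
      intro u hu v hv
      exact mul_mem (mul_mem (mul_mem hu hv) (inv_mem hu)) (inv_mem hv)
    · intro a ha s hs
      have hmap : C.map (MulAut.conj a).toMonoidHom ≤ C := by
        rintro _ ⟨u, hu, rfl⟩
        exact hCinv a ha u hu
      have := Subgroup.mem_map_of_mem (MulAut.conj a).toMonoidHom hs
      rw [Subgroup.map_commutator] at this
      exact Subgroup.commutator_mono hmap hmap this
    · intro heq
      haveI : Group.IsNilpotent ↥C := Group.nilpotent_of_mulEquiv (Subgroup.subgroupOfEquivOfLe hCF)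
      haveI : Group.IsSolvable ↥C := inferInstance
      have hne : Nontrivial ↥C := (Subgroup.nontrivial_iff_ne_bot C).mpr (fun h => hCM (h ▸ bot_le))
      have htop : commutator ↥C = ⊤ := by
        apply Subgroup.map_injective C.subtype_injective
        rw [commutator_def, Subgroup.map_commutator]
        simp only [← MonoidHom.range_eq_map, Subgroup.range_subtype]
        exact heq
      exact (IsSolvable.commutator_lt_top_of_nontrivial ↥C).ne htop
  have hcomm : ∀ x ∈ C, ∀ c ∈ A, Commute x (c * x * c⁻¹) := by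
    intro x hx c hc
    set y := c * x * c⁻¹ with hy
    have hyC : y ∈ C := hCinv c hc x hx
    have hcy : c * y * c⁻¹ = x := by
      rw [hy, show c * (c * x * c⁻¹) * c⁻¹ = (c * c) * x * (c * c)⁻¹ by
        simp only [mul_inv_rev, mul_assoc], hsq c hc, one_mul, inv_one, mul_one]
    by_cases hfix : C ⊓ Subgroup.centralizer ({c} : Set G) = C
    · have hxc := Subgroup.mem_centralizer_singleton_iff.mp (inf_eq_left.mp hfix hx)
      rw [hy, ← hxc, mul_inv_cancel_right]
    · have hfixM : C ⊓ Subgroup.centralizer ({c} : Set G) ≤ M := by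
        refine hsmall _ inf_le_left ?_ hfix
        intro a ha s hs
        refine ⟨hCinv a ha s hs.1, ?_⟩
        apply Subgroup.mem_centralizer_singleton_iff.mpr
        have hsc : s * c = c * s := Subgroup.mem_centralizer_singleton_iff.mp hs.2
        have hac : Commute a c := hcomA a ha c hc
        exact (((Commute.symm hac).mul_right (hsc.symm : Commute c s)).mul_right
          (Commute.symm hac).inv_right).symm
      set z := y * x * y⁻¹ * x⁻¹ with hz
      have hzM : z ∈ M := hD (Subgroup.commutator_mem_commutator hyC hx)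
      obtain ⟨m, hm⟩ := hF.of_dvd_nat (Subgroup.orderOf_dvd_natCard F (hMF hzM))
      have hss : z ^ (m + 1) * z ^ (m + 1) = z := by
        rw [← pow_add, show m + 1 + (m + 1) = orderOf z + 1 by omega, pow_succ,
          pow_orderOf_eq_one, one_mul]
      have hzc : c * z * c⁻¹ = z⁻¹ := by
        calc c * z * c⁻¹ = (c * y * c⁻¹) * (c * x * c⁻¹) * (c * y * c⁻¹)⁻¹ * (c * x * c⁻¹)⁻¹ := by
              rw [hz]; simp only [mul_inv_rev, inv_inv, mul_assoc, inv_mul_cancel_left]
          _ = z⁻¹ := by rw [hcy, ← hy, hz]; simp only [mul_inv_rev, inv_inv, mul_assoc]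
      have hsc : c * z ^ (m + 1) * c⁻¹ = (z ^ (m + 1))⁻¹ := by
        rw [← conj_pow, hzc, inv_pow]
      have hv : z ^ (m + 1) * (x * y) ∈ C ⊓ Subgroup.centralizer ({c} : Set G) := by
        refine ⟨mul_mem (pow_mem (show z ∈ C from
          mul_mem (mul_mem (mul_mem hyC hx) (inv_mem hyC)) (inv_mem hx)) _) (mul_mem hx hyC), ?_⟩
        · apply Subgroup.mem_centralizer_singleton_iff.mpr
          have h1 : c * (z ^ (m + 1) * (x * y)) * c⁻¹ = z ^ (m + 1) * (x * y) := by
            calc c * (z ^ (m + 1) * (x * y)) * c⁻¹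
                = (c * z ^ (m + 1) * c⁻¹) * ((c * x * c⁻¹) * (c * y * c⁻¹)) := by
                  simp only [mul_assoc, inv_mul_cancel_left]
              _ = (z ^ (m + 1))⁻¹ * (z * (x * y)) := by
                  rw [hsc, hcy, ← hy, hz]
                  simp only [mul_assoc, inv_mul_cancel_left, inv_mul_cancel, mul_one]
              _ = z ^ (m + 1) * (x * y) := by
                  nth_rw 2 [← hss]
                  simp only [mul_assoc, inv_mul_cancel_left]
          exact (mul_inv_eq_iff_eq_mul.mp h1).symm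
      have hxy : x * y ∈ M := by
        have := mul_mem (inv_mem (pow_mem hzM (m + 1))) (hfixM hv)
        rwa [inv_mul_cancel_left] at this
      have h2 : (x * y) * x = x * (x * y) := hcent _ hxy x hx
      show x * y = y * x
      have h3 : x * (y * x) = x * (x * y) := by rwa [mul_assoc] at h2
      exact (mul_left_cancel h3).symm
  obtain ⟨x0, hx0, hx0M⟩ := SetLike.not_le_iff_exists.mp hCM
  obtain ⟨x, hxC, hxM, heig, -⟩ := exists_eigen hcomA hsq C M hCinv
    (fun u hu h => mem_of_mul_self_mem hF (hCF hu) h) hcomm hx0 hx0M (Set.toFinite (A : Set G)).toFinset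
    (fun c hc => by simpa using hc)
  have hxeig : ∀ c ∈ A, Eig c x := fun c hc => heig c (by simpa using hc)
  let S := M ⊔ Subgroup.zpowers x
  have hSC : ∀ a ∈ S, ∀ b ∈ S, a * b = b * a := by
    have h1 : S ≤ Subgroup.centralizer ((M : Set G) ∪ {x}) := by
      refine sup_le (fun m hm => ?_) (Subgroup.zpowers_le.mpr ?_) <;>
        rw [Subgroup.mem_centralizer_iff] <;> rintro u (hu | rfl)
      · exact hMc u hu m hm
      · exact (hcent m hm _ hxC).symm
      · exact hcent u hu _ hxC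
      · rfl
    have h2 : ∀ b ∈ S, S ≤ Subgroup.centralizer {b} := by
      intro b hb
      refine sup_le (fun m hm => ?_) (Subgroup.zpowers_le.mpr ?_) <;>
        rw [Subgroup.mem_centralizer_singleton_iff]
      · exact Subgroup.mem_centralizer_iff.mp (h1 hb) m (Or.inl hm)
      · exact Subgroup.mem_centralizer_iff.mp (h1 hb) x (Or.inr rfl)
    exact fun a ha b hb => Subgroup.mem_centralizer_singleton_iff.mp (h2 b hb ha)
  have hSA : AInv A S := by
    intro a ha s hs
    have hle : S ≤ S.comap (MulAut.conj a).toMonoidHom := by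
      refine sup_le (fun m hm => ?_) (Subgroup.zpowers_le.mpr ?_)
      · exact Subgroup.mem_sup_left (hMA a ha m hm)
      · show a * x * a⁻¹ ∈ S
        rcases hxeig a ha with h | h <;> rw [h]
        exacts [Subgroup.mem_sup_right (Subgroup.mem_zpowers x),
          inv_mem (Subgroup.mem_sup_right (Subgroup.mem_zpowers x))]
    exact hle hs
  have hSF : S ≤ F := sup_le hMF (Subgroup.zpowers_le.mpr (hCF hxC))
  have hMS : M = S := Subgroup.eq_of_le_of_card_ge le_sup_left (hmax ⟨S, hSF, hSA, hSC⟩)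
  exact hxM (by rw [hMS]; exact Subgroup.mem_sup_right (Subgroup.mem_zpowers x))

theorem exists_basis [Finite G] (hcomA : ∀ c ∈ A, ∀ d ∈ A, c * d = d * c)
    (hsq : ∀ c ∈ A, c * c = 1) (M : Subgroup G) (hM : Odd (Nat.card ↥M)) (hMA : AInv A M)
    (hMc : ∀ a ∈ M, ∀ b ∈ M, a * b = b * a)
    (hfaith : ∀ a ∈ A, (∀ m ∈ M, a * m * a⁻¹ = m) → a = 1) :
    ∀ (d : ℕ) (B : Subgroup G), B ≤ A → Nat.card ↥B = 2 ^ d →
      ∃ (b : Fin d → G) (x : Fin d → G), Subgroup.closure (Set.range b) = B ∧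
        (∀ i, x i ∈ M ∧ x i ≠ 1 ∧ b i * x i * (b i)⁻¹ = (x i)⁻¹ ∧ ∀ c ∈ A, Eig c (x i)) ∧
        ∀ i j, i ≠ j → b i * x j * (b i)⁻¹ = x j := by
  intro d
  induction d with
  | zero =>
    intro B _ hB
    refine ⟨Fin.elim0, Fin.elim0, ?_, fun i => i.elim0, fun i => i.elim0⟩
    rw [show Set.range (Fin.elim0 : Fin 0 → G) = ∅ from Set.range_eq_empty _, Subgroup.closure_empty]
    exact (Subgroup.card_eq_one.mp (by rw [hB, pow_zero])).symm
  | succ d ih =>
    intro B hBA hB
    have hBne : B ≠ ⊥ := by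
      intro h
      rw [h, Subgroup.card_bot] at hB
      exact absurd hB.symm (by simp)
    obtain ⟨a₀, ha₀⟩ := Subgroup.ne_bot_iff_exists_ne_one.mp hBne
    obtain ⟨a, haB, ha1⟩ : ∃ a ∈ B, a ≠ 1 := ⟨(a₀ : G), a₀.2, fun h => ha₀ (Subtype.ext h)⟩
    obtain ⟨m, hm, hmne⟩ : ∃ m ∈ M, a * m * a⁻¹ ≠ m := by
      by_contra h
      push Not at h
      exact ha1 (hfaith a (hBA haB) h)
    obtain ⟨x, hxM, hx1, heig, hinv⟩ := exists_eigen hcomA hsq M ⊥ hMA
      (fun u hu h => mem_of_mul_self_mem hM hu h) (fun u hu c hc => hMc u hu _ (hMA c hc u hu))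
      (x0 := m⁻¹ * (a * m * a⁻¹)) (mul_mem (inv_mem hm) (hMA a (hBA haB) m hm))
      (fun h => hmne (inv_mul_eq_one.mp (Subgroup.mem_bot.mp h)).symm)
      (Set.toFinite (A : Set G)).toFinset (fun c hc => by simpa using hc)
    have hax : a * x * a⁻¹ = x⁻¹ := hinv a (hBA haB) (inverted_comm_quot hsq (hBA haB) m)
    have hxne : x ≠ 1 := fun h => hx1 (Subgroup.mem_bot.mpr h)
    have hxeig : ∀ c ∈ A, Eig c x := fun c hc => heig c (by simpa using hc)
    set B' := B ⊓ Subgroup.centralizer ({x} : Set G) with hB'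
    have hfixB : ∀ c, c ∈ B' ↔ c ∈ B ∧ c * x * c⁻¹ = x := by
      intro c
      rw [hB', Subgroup.mem_inf, Subgroup.mem_centralizer_singleton_iff, mul_inv_eq_iff_eq_mul]
    have hnotfix : ∀ c ∈ B, c ∉ B' → c * x * c⁻¹ = x⁻¹ := by
      intro c hc hc'
      rcases hxeig c (hBA hc) with h | h
      · exact absurd ((hfixB c).mpr ⟨hc, h⟩) hc'
      · exact h
    have hsplit : ∀ c ∈ B, c ∉ B' → ∀ e ∈ B, e ∉ B' → c * e ∈ B' := by
      intro c hc hc' e he he'
      refine (hfixB _).mpr ⟨mul_mem hc he, ?_⟩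
      calc c * e * x * (c * e)⁻¹ = c * (e * x * e⁻¹) * c⁻¹ := by
            simp only [mul_inv_rev, mul_assoc]
        _ = x := by rw [hnotfix e he he', ← conj_inv, hnotfix c hc hc', inv_inv]
    have haB' : a ∉ B' := fun h =>
      hxne (eq_one_of_fixed_inverted hM hxM ((hfixB a).mp h).2 hax)
    have hidx : (B'.subgroupOf B).index = 2 := by
      rw [Subgroup.index_eq_two_iff]
      refine ⟨⟨a, haB⟩, fun e => ?_⟩
      by_cases he : (e : G) ∈ B'
      · refine Or.inr ⟨Subgroup.mem_subgroupOf.mpr he, fun h => haB' ?_⟩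
        exact (Subgroup.mul_mem_cancel_left B' he).mp (Subgroup.mem_subgroupOf.mp h)
      · exact Or.inl ⟨Subgroup.mem_subgroupOf.mpr (hsplit e e.2 he a haB haB'),
          fun h => he (Subgroup.mem_subgroupOf.mp h)⟩
    have hcard : Nat.card ↥B' = 2 ^ d := by
      have h1 := Subgroup.card_mul_index (B'.subgroupOf B)
      rw [hidx, hB, Nat.card_congr (Subgroup.subgroupOfEquivOfLe (show B' ≤ B from inf_le_left)).toEquiv,
        pow_succ] at h1
      omega
    obtain ⟨b, y, hgen, hy, hij⟩ := ih B' (inf_le_left.trans hBA) hcard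
    have hbB' : ∀ i, b i ∈ B' := fun i => hgen ▸ Subgroup.subset_closure ⟨i, rfl⟩
    have hadj : ∀ s : Finset (Fin d), ∃ e ∈ B, e ∉ B' ∧ ∀ i ∈ s, e * y i * e⁻¹ = y i := by
      intro s
      induction s using Finset.induction_on with
      | empty => exact ⟨a, haB, haB', by simp⟩
      | @insert k s hk ihs =>
        obtain ⟨e, heB, heB', hes⟩ := ihs
        rcases (hy k).2.2.2 e (hBA heB) with h | h
        · refine ⟨e, heB, heB', fun i hi => ?_⟩
          rcases Finset.mem_insert.mp hi with rfl | hi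
          exacts [h, hes i hi]
        · refine ⟨b k * e, mul_mem (hbB' k).1 heB,
            fun hmem => heB' ((Subgroup.mul_mem_cancel_left B' (hbB' k)).mp hmem), fun i hi => ?_⟩
          have he : b k * e * y i * (b k * e)⁻¹ = b k * (e * y i * e⁻¹) * (b k)⁻¹ := by
            simp only [mul_inv_rev, mul_assoc]
          rw [he]
          rcases Finset.mem_insert.mp hi with rfl | hi
          · rw [h, ← conj_inv, (hy i).2.2.1, inv_inv]
          · rw [hes i hi]
            exact hij k i (fun hki => hk (hki ▸ hi))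
    obtain ⟨e, heB, heB', hes⟩ := hadj Finset.univ
    refine ⟨Fin.cons e b, Fin.cons x y, ?_, ?_, ?_⟩
    · apply le_antisymm
      · rw [Subgroup.closure_le]
        rintro _ ⟨i, rfl⟩
        cases i using Fin.cases with
        | zero => simpa using heB
        | succ i => simpa using (hbB' i).1
      · intro c hc
        have he : e ∈ Subgroup.closure (Set.range (Fin.cons e b)) :=
          Subgroup.subset_closure ⟨0, by simp⟩
        have hle : B' ≤ Subgroup.closure (Set.range (Fin.cons e b)) := by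
          rw [← hgen]
          exact Subgroup.closure_mono (by rintro _ ⟨i, rfl⟩; exact ⟨i.succ, by simp⟩)
        by_cases hc' : c ∈ B'
        · exact hle hc'
        · exact (Subgroup.mul_mem_cancel_left _ he).mp (hle (hsplit e heB heB' c hc hc'))
    · intro i
      cases i using Fin.cases with
      | zero => simpa using ⟨hxM, hxne, hnotfix e heB heB', hxeig⟩
      | succ i => simpa using hy i
    · intro i j hne
      cases i using Fin.cases with
      | zero =>
        cases j using Fin.cases with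
        | zero => exact absurd rfl hne
        | succ j => simpa using hes j (Finset.mem_univ j)
      | succ i =>
        cases j using Fin.cases with
        | zero => simpa using ((hfixB _).mp (hbB' i)).2
        | succ j => simpa using hij i j (fun h => hne (congrArg Fin.succ h))

end Eigen

/-- Let G be finite, L ≤ G solvable of odd order, and A an elementary abelian 2-subgroup of order 2^d (d ≥ 1) normalizing L with C_A(L) = 1. Then there are subgroups A_1, …, A_d of A of order 2 generating A and subgroups L_1, …, L_d of L such that each A_i ⊔ L_i is dihedral of order 2 n_i with n_i odd and at least 3, and A_i ⊔ L_i commutes elementwise with A_j ⊔ L_j for i ≠ j. -/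
theorem result {G : Type*} [Group G] [Finite G] (L A : Subgroup G) (hLs : Group.IsSolvable ↥L) (hLodd : Odd (Nat.card ↥L)) (hA : Cfsg.IsElementaryAbelian 2 A) (d : ℕ) (hd : 1 ≤ d) (hAd : Nat.card ↥A = 2 ^ d) (hAL : A ≤ Subgroup.normalizer (L : Set G)) (hfaith : A ⊓ Subgroup.centralizer (L : Set G) = ⊥) : ∃ (Ai : Fin d → Subgroup G) (Li : Fin d → Subgroup G) (n : Fin d → ℕ), (∀ i, Ai i ≤ A ∧ Nat.card ↥(Ai i) = 2 ∧ Li i ≤ L ∧ Odd (n i) ∧ 3 ≤ n i ∧ Nonempty (↥(Ai i ⊔ Li i) ≃* DihedralGroup (n i))) ∧ (⨆ i, Ai i) = A ∧ ∀ i j, i ≠ j → ∀ x ∈ Ai i ⊔ Li i, ∀ y ∈ Ai j ⊔ Li j, x * y = y * x := by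
  classical
  haveI := hA.1
  have hcomA : ∀ c ∈ A, ∀ e ∈ A, c * e = e * c := fun c hc e he =>
    congrArg Subtype.val (mul_comm' (⟨c, hc⟩ : ↥A) ⟨e, he⟩)
  have hsq : ∀ c ∈ A, c * c = 1 := fun c hc => by rw [← pow_two]; exact hA.2 c hc
  haveI := hLs
  set F : Subgroup G := (Cfsg.fittingSubgroup ↥L).map L.subtype with hF
  have hFL : F ≤ L := Subgroup.map_subtype_le _
  haveI := CfsgLib.Solvable.fittingSubgroup_isNilpotent ↥L
  haveI : Group.IsNilpotent ↥F := Group.nilpotent_of_mulEquiv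
    ((Cfsg.fittingSubgroup ↥L).equivMapOfInjective L.subtype L.subtype_injective)
  have hFodd : Odd (Nat.card ↥F) := hLodd.of_dvd_nat (Subgroup.card_dvd_of_le hFL)
  have hLA : AInv A L := fun a ha s hs => (Subgroup.mem_normalizer_iff.mp (hAL ha) s).mp hs
  have hFA : AInv A F := by
    intro a ha s hs
    obtain ⟨u, hu, rfl⟩ := hs
    let e : ↥L ≃* ↥L :=
      { toFun := fun v => ⟨a * v * a⁻¹, hLA a ha v v.2⟩
        invFun := fun v => ⟨a⁻¹ * v * a, by
          have := hLA a⁻¹ (inv_mem ha) v v.2; rwa [inv_inv] at this⟩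
        left_inv := fun v => Subtype.ext (by simp [mul_assoc])
        right_inv := fun v => Subtype.ext (by simp [mul_assoc])
        map_mul' := fun v w => Subtype.ext (by simp [mul_assoc]) }
    refine ⟨e u, ?_, rfl⟩
    rw [SetLike.mem_coe, ← CfsgLib.Solvable.map_fittingSubgroup_mulEquiv e]
    exact Subgroup.mem_map_of_mem _ hu
  obtain ⟨M, hMF, hMA, hMc, hMsc⟩ := exists_selfcentralizing hcomA hsq F hFodd hFA
  have hfaith' : ∀ a ∈ A, (∀ m ∈ M, a * m * a⁻¹ = m) → a = 1 := by
    intro a ha hfix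
    set K := F ⊓ Subgroup.centralizer ({a} : Set G) with hK
    have hKfix : ∀ k, k ∈ K ↔ k ∈ F ∧ a * k * a⁻¹ = k := by
      intro k
      rw [hK, Subgroup.mem_inf, Subgroup.mem_centralizer_singleton_iff, mul_inv_eq_iff_eq_mul,
        eq_comm (a := k * a)]
    have hMK : M ≤ K := fun m hm => (hKfix m).mpr ⟨hMF hm, hfix m hm⟩
    have hKF : F ≤ K := by
      by_contra hnot
      have hlt : K.subgroupOf F < ⊤ := by
        rw [lt_top_iff_ne_top, Ne, Subgroup.subgroupOf_eq_top]
        exact hnot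
      obtain ⟨x, hxN, hxK⟩ := SetLike.exists_of_lt
        ((Group.normalizerCondition_of_isNilpotent : NormalizerCondition ↥F) _ hlt)
      rw [Subgroup.mem_subgroupOf] at hxK
      apply hxK
      refine (hKfix x).mpr ⟨x.2, ?_⟩
      set u := (x : G)⁻¹ * (a * x * a⁻¹) with hu
      have huF : u ∈ F := mul_mem (inv_mem x.2) (hFA a ha x x.2)
      have huM : u ∈ M := by
        refine hMsc ⟨huF, ?_⟩
        apply Subgroup.mem_centralizer_iff.mpr
        intro m hm
        have hmK := hMK hm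
        have hxm : (x : G) * m * (x : G)⁻¹ ∈ K := Subgroup.mem_subgroupOf.mp
          ((Subgroup.mem_normalizer_iff.mp hxN ⟨m, hMF hm⟩).mp (Subgroup.mem_subgroupOf.mpr hmK))
        have h2 : (a * x * a⁻¹) * m * (a * x * a⁻¹)⁻¹ = (x : G) * m * (x : G)⁻¹ := by
          calc (a * x * a⁻¹) * m * (a * x * a⁻¹)⁻¹
              = (a * x * a⁻¹) * (a * m * a⁻¹) * (a * x * a⁻¹)⁻¹ := by rw [hfix m hm]
            _ = a * ((x : G) * m * (x : G)⁻¹) * a⁻¹ := by
              simp only [mul_inv_rev, inv_inv, mul_assoc, inv_mul_cancel_left]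
            _ = _ := ((hKfix _).mp hxm).2
        have h3 : a * x * a⁻¹ = (x : G) * u := by rw [hu, mul_inv_cancel_left]
        rw [h3] at h2
        simp only [mul_inv_rev, mul_assoc, mul_left_cancel_iff] at h2
        simp only [← mul_assoc] at h2
        exact (mul_inv_eq_iff_eq_mul.mp (mul_right_cancel h2)).symm
      have h1 := eq_one_of_fixed_inverted hFodd huF ((hKfix u).mp (hMK huM)).2
        (inverted_comm_quot hsq ha _)
      exact (inv_mul_eq_one.mp h1).symm
    have haL : ∀ x ∈ L, a * x * a⁻¹ = x := by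
      intro x hx
      set u := x⁻¹ * (a * x * a⁻¹) with hu
      have huL : u ∈ L := mul_mem (inv_mem hx) (hLA a ha x hx)
      have huF : u ∈ F := by
        refine ⟨⟨u, huL⟩, CfsgLib.Solvable.centralizer_fittingSubgroup_le ?_, rfl⟩
        apply Subgroup.mem_centralizer_iff.mpr
        intro f hf
        apply Subtype.ext
        have hfK : (f : G) ∈ F := ⟨f, hf, rfl⟩
        have hffix := ((hKfix _).mp (hKF hfK)).2
        have hxf : x * (f : G) * x⁻¹ ∈ F := by
          refine ⟨(⟨x, hx⟩ : ↥L) * f * (⟨x, hx⟩ : ↥L)⁻¹, ?_, rfl⟩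
          exact (CfsgLib.Solvable.fittingSubgroup_normal ↥L).conj_mem _ hf _
        have h2 : (a * x * a⁻¹) * (f : G) * (a * x * a⁻¹)⁻¹ = x * (f : G) * x⁻¹ := by
          calc (a * x * a⁻¹) * (f : G) * (a * x * a⁻¹)⁻¹
              = (a * x * a⁻¹) * (a * (f : G) * a⁻¹) * (a * x * a⁻¹)⁻¹ := by rw [hffix]
            _ = a * (x * (f : G) * x⁻¹) * a⁻¹ := by
              simp only [mul_inv_rev, inv_inv, mul_assoc, inv_mul_cancel_left]
            _ = _ := ((hKfix _).mp (hKF hxf)).2
        have h3 : a * x * a⁻¹ = x * u := by rw [hu, mul_inv_cancel_left]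
        rw [h3] at h2
        simp only [mul_inv_rev, mul_assoc, mul_left_cancel_iff] at h2
        simp only [← mul_assoc] at h2
        show (f : G) * u = u * (f : G)
        exact (mul_inv_eq_iff_eq_mul.mp (mul_right_cancel h2)).symm
      have h1 := eq_one_of_fixed_inverted hLodd huL ((hKfix u).mp (hKF huF)).2
        (inverted_comm_quot hsq ha _)
      exact (inv_mul_eq_one.mp h1).symm
    have hmem : a ∈ A ⊓ Subgroup.centralizer (L : Set G) := by
      refine ⟨ha, Subgroup.mem_centralizer_iff.mpr fun x hx => ?_⟩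
      exact (mul_inv_eq_iff_eq_mul.mp (haL x hx)).symm
    rw [hfaith] at hmem
    exact Subgroup.mem_bot.mp hmem
  have hModd : Odd (Nat.card ↥M) := hFodd.of_dvd_nat (Subgroup.card_dvd_of_le hMF)
  obtain ⟨b, x, hgen, hx, hij⟩ :=
    exists_basis hcomA hsq M hModd hMA hMc hfaith' d A le_rfl hAd
  have hbA : ∀ i, b i ∈ A := fun i => hgen ▸ Subgroup.subset_closure ⟨i, rfl⟩
  have hb1 : ∀ i, b i ≠ 1 := fun i h => (hx i).2.1 (eq_one_of_mul_self hModd (hx i).1 (by
    have h1 := (hx i).2.2.1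
    rw [h, one_mul, inv_one, mul_one] at h1
    nth_rw 2 [h1]
    exact mul_inv_cancel _))
  have hbo : ∀ i, orderOf (b i) = 2 := fun i =>
    CfsgLib.Invol.orderOf_eq_two (hb1 i) (hsq _ (hbA i))
  have hodd : ∀ i, Odd (orderOf (x i)) := fun i =>
    hModd.of_dvd_nat (Subgroup.orderOf_dvd_natCard M (hx i).1)
  refine ⟨fun i => Subgroup.zpowers (b i), fun i => Subgroup.zpowers (x i), fun i => orderOf (x i),
    fun i => ⟨Subgroup.zpowers_le.mpr (hbA i), by rw [Nat.card_zpowers, hbo],
      Subgroup.zpowers_le.mpr (hFL (hMF (hx i).1)), hodd i, ?_, ?_⟩, ?_, ?_⟩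
  · show 3 ≤ orderOf (x i)
    have h1 : orderOf (x i) ≠ 1 := fun h => (hx i).2.1 (orderOf_eq_one_iff.mp h)
    obtain ⟨k, hk⟩ := hodd i
    omega
  · have hbx : (b i * x i) * (b i * x i) = 1 := by
      calc (b i * x i) * (b i * x i) = (b i * x i * b i) * x i := by simp only [mul_assoc]
        _ = (b i * x i * (b i)⁻¹) * x i := by rw [inv_eq_of_mul_eq_one_right (hsq _ (hbA i))]
        _ = 1 := by rw [(hx i).2.2.1, inv_mul_cancel]
    have hne : b i ≠ b i * x i := fun h => (hx i).2.1 (mul_left_cancel (h.symm.trans (mul_one _).symm))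
    have hbx1 : b i * x i ≠ 1 := by
      intro h
      have h1 : x i = (b i)⁻¹ := eq_inv_of_mul_eq_one_right h
      apply (hx i).2.1
      refine eq_one_of_mul_self hModd (hx i).1 ?_
      rw [h1, ← mul_inv_rev, hsq _ (hbA i), inv_one]
    obtain ⟨φ⟩ := CfsgLib.Invol.nonempty_closure_pair_mulEquiv (hbo i)
      (CfsgLib.Invol.orderOf_eq_two hbx1 hbx) hne
    rw [show b i * (b i * x i) = x i by rw [← mul_assoc, hsq _ (hbA i), one_mul]] at φ
    have heq : Subgroup.zpowers (b i) ⊔ Subgroup.zpowers (x i) =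
        Subgroup.closure ({b i, b i * x i} : Set G) := by
      apply le_antisymm
      · refine sup_le (Subgroup.zpowers_le.mpr (CfsgLib.Invol.left_mem_closure_pair _ _))
          (Subgroup.zpowers_le.mpr ?_)
        have h2 := mul_mem (CfsgLib.Invol.left_mem_closure_pair (b i) (b i * x i))
          (CfsgLib.Invol.right_mem_closure_pair (b i) (b i * x i))
        rwa [← mul_assoc, hsq _ (hbA i), one_mul] at h2
      · rw [Subgroup.closure_le]
        rintro z (rfl | rfl)
        · exact Subgroup.mem_sup_left (Subgroup.mem_zpowers _)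
        · exact mul_mem (Subgroup.mem_sup_left (Subgroup.mem_zpowers _))
            (Subgroup.mem_sup_right (Subgroup.mem_zpowers _))
    exact ⟨(MulEquiv.subgroupCongr heq).trans φ⟩
  · rw [← hgen, Subgroup.closure_eq_of_le]
    · rintro _ ⟨i, rfl⟩
      exact le_iSup (fun i => Subgroup.zpowers (b i)) i (Subgroup.mem_zpowers _)
    · exact iSup_le fun i => Subgroup.zpowers_le.mpr (Subgroup.subset_closure ⟨i, rfl⟩)
  · intro i j hne u hu v hv
    have h1 : ∀ k l, k ≠ l → Commute (b k) (x l) := fun k l hkl =>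
      mul_inv_eq_iff_eq_mul.mp (hij k l hkl)
    have hvc : Commute v (b i) ∧ Commute v (x i) := by
      have : Subgroup.zpowers (b j) ⊔ Subgroup.zpowers (x j) ≤
          Subgroup.centralizer ({b i, x i} : Set G) := by
        refine sup_le (Subgroup.zpowers_le.mpr ?_) (Subgroup.zpowers_le.mpr ?_) <;>
          rw [Subgroup.mem_centralizer_iff] <;> rintro w (rfl | rfl)
        · exact hcomA _ (hbA i) _ (hbA j)
        · exact (h1 j i hne.symm).eq.symm
        · exact (h1 i j hne).eq
        · exact hMc _ (hx i).1 _ (hx j).1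
      have hv' := Subgroup.mem_centralizer_iff.mp (this hv)
      exact ⟨(hv' _ (Or.inl rfl)).symm, (hv' _ (Or.inr rfl)).symm⟩
    have hle : Subgroup.zpowers (b i) ⊔ Subgroup.zpowers (x i) ≤ Subgroup.centralizer ({v} : Set G) := by
      refine sup_le (Subgroup.zpowers_le.mpr ?_) (Subgroup.zpowers_le.mpr ?_) <;>
        rw [Subgroup.mem_centralizer_singleton_iff]
      · exact hvc.1.eq.symm
      · exact hvc.2.eq.symm
    exact Subgroup.mem_centralizer_singleton_iff.mp (hle hu)

end Cfsg.Agent.S1349
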