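import Cfsg.Statements.S0017
import Cfsg.Agent.Lib.Solvable.Core

set_option autoImplicit false
open Cfsg

namespace Cfsg.Agent.S0017

/-- In a finite solvable group whose largest normal subgroup of order prime to p is trivial, the centralizer of the p-core is contained in the p-core. -/
theorem result {G : Type*} [Group G] [Finite G] [Group.IsSolvable G] (p : ℕ) [Fact p.Prime]
    (h : Cfsg.pPrimeCore p G = ⊥) :
    Subgroup.centralizer (Cfsg.pCore p G : Set G) ≤ Cfsg.pCore p G := by
  have hF : Cfsg.fittingSubgroup G = Cfsg.pCore p G := by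
    refine le_antisymm ?_ CfsgLib.Solvable.pCore_le_fittingSubgroup
    rw [CfsgLib.Solvable.fittingSubgroup_eq_iSup_pCore]
    refine iSup_le fun q => ?_
    by_cases hq : (q : ℕ) = p
    · rw [hq]
    · have : Fact (q : ℕ).Prime := ⟨Nat.prime_of_mem_primeFactors q.2⟩
      obtain ⟨k, hk⟩ := (CfsgLib.Solvable.pCore_isPGroup (q : ℕ) G).exists_card_eq
      have h1 := CfsgLib.Solvable.le_pPrimeCore (p := p) (CfsgLib.Solvable.pCore_normal (q : ℕ) G)
        (by rw [hk]; exact Nat.Coprime.pow_left k ((Nat.coprime_primes (Nat.prime_of_mem_primeFactors q.2) Fact.out).mpr hq))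
      rw [h] at h1
      exact h1.trans bot_le
  rw [← hF]
  exact CfsgLib.Solvable.centralizer_fittingSubgroup_le

end Cfsg.Agent.S0017
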