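import Cfsg.Statements.S0018
import Cfsg.Agent.Lib.Solvable.Core
import Cfsg.Agent.S0017

set_option autoImplicit false
open Cfsg

namespace Cfsg.Agent.S0018

/-- A finite solvable group whose Sylow p-subgroups are abelian has p-length one: a Sylow p-subgroup together with the largest normal subgroup of order prime to p generates a normal subgroup. -/
theorem result {G : Type*} [Group G] [Finite G] [Group.IsSolvable G]
    (p : ℕ) [Fact p.Prime] (P : Sylow p G) (hP : IsMulCommutative P) :
    ((P : Subgroup G) ⊔ Cfsg.pPrimeCore p G).Normal := by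
  have := CfsgLib.Solvable.pPrimeCore_normal p G
  set N := Cfsg.pPrimeCore p G with hN
  set f := QuotientGroup.mk' N with hf
  have hsurj : Function.Surjective f := QuotientGroup.mk'_surjective N
  set Q := P.mapSurjective hsurj with hQ
  have hcore : Cfsg.pCore p (G ⧸ N) ≤ Q := CfsgLib.Solvable.pCore_le_sylow Q
  have hQc : (Q : Subgroup (G ⧸ N)) ≤
      Subgroup.centralizer (Cfsg.pCore p (G ⧸ N) : Set (G ⧸ N)) := by
    intro x hx y hy
    obtain ⟨a, ha, rfl⟩ := hx
    obtain ⟨b, hb, rfl⟩ := hcore hy
    rw [← map_mul, ← map_mul]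
    exact congr_arg f (congr_arg Subtype.val (hP.is_comm.comm (⟨b, hb⟩ : P) ⟨a, ha⟩))
  have h1 := CfsgLib.Solvable.pPrimeCore_quotient_eq_bot (p := p) N hN
  have heq : (Q : Subgroup (G ⧸ N)) = Cfsg.pCore p (G ⧸ N) :=
    le_antisymm (hQc.trans (Cfsg.Agent.S0017.result p h1)) hcore
  have hnorm : ((P : Subgroup G).map f).Normal := by
    rw [hQ, Sylow.coe_mapSurjective] at heq
    rw [heq]
    exact CfsgLib.Solvable.pCore_normal p _
  have := hnorm.comap f
  rwa [Subgroup.comap_map_eq, hf, QuotientGroup.ker_mk'] at this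

end Cfsg.Agent.S0018
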