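import Cfsg.Statements.S3035
import Cfsg.Agent.Lib.Invol.DihedralEightIndexTwo
import Cfsg.Agent.Lib.Linear.PSL2Seven
import Cfsg.Agent.Lib.Linear.PSL2Nine

set_option autoImplicit false
open Cfsg

namespace Cfsg.Agent.S3035

/-- Let G be a finite group with an involution z whose centralizer is dihedral of order 8. Then G = C_G(z) O(G) with O(G) the largest normal subgroup of odd order, or G is isomorphic to the symmetric group of degree 4, the symmetric group of degree 5, the group SL₃(2), or the alternating group of degree 6. -/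
theorem result {G : Type*} [Group G] [Finite G] (z : G) (hz : orderOf z = 2)
    (hC : Nonempty (↥(Subgroup.centralizer ({z} : Set G)) ≃* DihedralGroup 4)) :
    Subgroup.centralizer ({z} : Set G) ⊔ Cfsg.oddCore G = ⊤ ∨ Nonempty (G ≃* Equiv.Perm (Fin 4)) ∨ Nonempty (G ≃* Equiv.Perm (Fin 5)) ∨
      Nonempty (G ≃* Matrix.SpecialLinearGroup (Fin 3) (ZMod 2)) ∨ Nonempty (G ≃* ↥(alternatingGroup (Fin 6))) := by
  obtain ⟨e⟩ := hC
  by_cases hG : ∃ H : Subgroup G, H.index = 2
  · obtain ⟨H, hH⟩ := hG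
    rcases CfsgLib.Invol.D8IndexTwo.classify e hz H hH with h | h | h
    · exact Or.inl h
    · exact Or.inr (Or.inl h)
    · exact Or.inr (Or.inr (Or.inl h))
  obtain ⟨F, iF, fF, hF, ⟨iso⟩⟩ := CfsgLib.DihedralEight.exists_psl_iso e hz
    (fun u hu => CfsgLib.DihedralEight.isConj_of_no_index_two e hz (not_exists.1 hG) hu)
  rcases hF with h7 | h9
  · obtain ⟨i⟩ := CfsgLib.Linear.PSL2Seven.equiv_SL3Two
    exact Or.inr (Or.inr (Or.inr (Or.inl ⟨(iso.trans
      (CfsgLib.Linear.pslRingEquiv (ZMod.ringEquivOfPrime F (by norm_num : Nat.Prime 7) h7).symm)).trans i⟩)))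
  · obtain ⟨i⟩ := CfsgLib.Linear.PSL2Nine.exists_PSL2_equiv_A6 h9
    exact Or.inr (Or.inr (Or.inr (Or.inr ⟨iso.trans i⟩)))

end Cfsg.Agent.S3035
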