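import Cfsg.Statements.S2578
import Cfsg.Agent.Lib.Conj.RegularNilpotent


set_option autoImplicit false
set_option maxHeartbeats 300000
open Cfsg

namespace Cfsg.Agent.S2578

theorem exists_regNilp {F : Type*} [Field F] {n : ℕ} (hn : 1 ≤ n) :
    ∃ N : Matrix (Fin n) (Fin n) F, CfsgLib.Conj.IsRegNilp N := by
  classical
  let s : (Fin n → F) →ₗ[F] (Fin n → F) :=
    { toFun := fun v i => if h : (i : ℕ) = 0 then 0 else v ⟨(i : ℕ) - 1, by omega⟩
      map_add' := fun v w => by funext i; simp only [Pi.add_apply]; split <;> simp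
      map_smul' := fun c v => by funext i; simp only [Pi.smul_apply, RingHom.id_apply]; split <;> simp }
  let N := LinearMap.toMatrix' s
  have hmv : ∀ v, N.mulVec v = s v := fun v => LinearMap.toMatrix'_mulVec s v
  have hpow : ∀ (j : ℕ) (v : Fin n → F) (i : Fin n), (i : ℕ) < j → (N ^ j).mulVec v i = 0 := by
    intro j
    induction j with
    | zero => intro v i hi; omega
    | succ j ih =>
      intro v i hi
      rw [pow_succ', ← Matrix.mulVec_mulVec, hmv]
      show (if h : (i : ℕ) = 0 then 0 else _) = (0 : F)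
      split
      · rfl
      · exact ih v _ (show (i : ℕ) - 1 < j by omega)
  have hnil : N ^ n = 0 := Matrix.ext_of_mulVec_single fun j => by
    funext i; rw [hpow n _ i i.2, Matrix.zero_mulVec]; rfl
  refine ⟨N, by rw [Fintype.card_fin]; exact hnil, ?_, by rw [Fintype.card_fin]; omega⟩
  rw [Fintype.card_fin]
  have h1 := LinearMap.finrank_range_add_finrank_ker N.mulVecLin
  rw [Module.finrank_fintype_fun_eq_card, Fintype.card_fin] at h1
  have hle : Module.finrank F (LinearMap.ker N.mulVecLin) ≤ 1 := by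
    have := LinearMap.finrank_le_finrank_of_injective (f := (LinearMap.proj (⟨n - 1, by omega⟩ : Fin n)).comp (LinearMap.ker N.mulVecLin).subtype) (by
      rw [← LinearMap.ker_eq_bot, Submodule.eq_bot_iff]
      rintro ⟨v, hv⟩ hlast
      have hv' : s v = 0 := by rw [← hmv]; exact hv
      apply Subtype.ext
      funext i
      by_cases hi : (i : ℕ) + 1 < n
      · have h2 := congrFun hv' ⟨(i : ℕ) + 1, hi⟩
        simpa [s] using h2
      · have : i = (⟨n - 1, by omega⟩ : Fin n) := Fin.ext (show (i : ℕ) = n - 1 by omega)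
        rw [this]; exact hlast)
    simpa using this
  have hne : Module.finrank F (LinearMap.ker N.mulVecLin) ≠ 0 := by
    intro h0
    have hinj := LinearMap.ker_eq_bot.mp (Submodule.finrank_eq_zero.mp h0)
    have hu : IsUnit N := Matrix.mulVec_injective_iff_isUnit.mp hinj
    have hz : IsUnit (0 : Matrix (Fin n) (Fin n) F) := hnil ▸ hu.pow n
    haveI : Nonempty (Fin n) := ⟨⟨0, by omega⟩⟩
    exact not_isUnit_zero hz
  have : N.rank = Module.finrank F (LinearMap.range N.mulVecLin) := rfl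
  omega


/-- Regular unipotent classes of SL_n(q): for n ≥ 2 over the field with q elements, the matrices u of determinant one with (u − 1)^n = 0 and rank(u − 1) = n − 1 form a single GL_n(q)-class which splits into exactly gcd(n, q − 1) conjugacy classes of SL_n(q). -/
theorem result {F : Type*} [Field F] [Fintype F] {q : ℕ} (hF : Fintype.card F = q) {n : ℕ} (hn : 2 ≤ n) : Nat.card {C : ConjClasses (Matrix.SpecialLinearGroup (Fin n) F) // ∃ u : Matrix.SpecialLinearGroup (Fin n) F, ConjClasses.mk u = C ∧ ((u : Matrix (Fin n) (Fin n) F) - 1) ^ n = 0 ∧ ((u : Matrix (Fin n) (Fin n) F) - 1).rank = n - 1} = Nat.gcd n (q - 1) := by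
  classical
  obtain ⟨N₀, hN₀⟩ := exists_regNilp (F := F) (n := n) (by omega)
  have hnil0 : IsNilpotent N₀ := ⟨_, hN₀.pow_card⟩
  let u₀ : GL (Fin n) F := Matrix.GeneralLinearGroup.mkOfDetNeZero (1 + N₀) (by
    have := CfsgLib.Conj.det_smul_one_add_nilpotent hnil0 (1 : F)
    rw [one_smul, one_pow] at this
    rw [this]; exact one_ne_zero)
  have hu₀ : (u₀ : Matrix (Fin n) (Fin n) F) = 1 + N₀ := rfl
  have hdu₀ : (u₀ : Matrix (Fin n) (Fin n) F).det = 1 := by
    have := CfsgLib.Conj.det_smul_one_add_nilpotent hnil0 (1 : F)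
    rwa [one_smul, one_pow] at this
  have hD : ∀ d : Fˣ, (Matrix.diagonal (fun i : Fin n => if (i : ℕ) = 0 then (d : F) else 1)).det = d := fun d => by
    rw [Matrix.det_diagonal, Finset.prod_eq_single (⟨0, by omega⟩ : Fin n)]
    · simp
    · intro b _ hb; rw [if_neg]; exact fun h => hb (Fin.ext h)
    · simp
  let D : Fˣ → GL (Fin n) F := fun d => Matrix.GeneralLinearGroup.mkOfDetNeZero _ (by rw [hD d]; exact d.ne_zero)
  have hDd : ∀ d, (D d : Matrix (Fin n) (Fin n) F).det = d := hD
  have hconjdet : ∀ g : GL (Fin n) F, ((g * u₀ * g⁻¹ : GL (Fin n) F) : Matrix (Fin n) (Fin n) F).det = 1 := fun g => by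
    rw [Units.val_mul, Units.val_mul, Matrix.det_units_conj, hdu₀]
  let E : Fˣ → Matrix.SpecialLinearGroup (Fin n) F := fun d => ⟨((D d * u₀ * (D d)⁻¹ : GL (Fin n) F) : Matrix (Fin n) (Fin n) F), hconjdet _⟩
  have hEgl : ∀ d, Matrix.SpecialLinearGroup.toGL (E d) = D d * u₀ * (D d)⁻¹ := fun d => Units.ext rfl
  let P : Matrix.SpecialLinearGroup (Fin n) F → Prop := fun u =>
    ((u : Matrix (Fin n) (Fin n) F) - 1) ^ n = 0 ∧ ((u : Matrix (Fin n) (Fin n) F) - 1).rank = n - 1
  have hEP : ∀ d, P (E d) := fun d => by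
    have h1 : ((D d * u₀ * (D d)⁻¹ : GL (Fin n) F) : Matrix (Fin n) (Fin n) F) - 1 = (D d : Matrix (Fin n) (Fin n) F) * N₀ * ((D d)⁻¹ : GL (Fin n) F) := by
      rw [Units.val_mul, Units.val_mul, hu₀, mul_add, add_mul, mul_one, Units.mul_inv, add_sub_cancel_left]
    constructor
    · show (_ - 1) ^ n = 0
      rw [h1, Units.conj_pow]
      have := hN₀.pow_card
      rw [Fintype.card_fin] at this
      rw [this, mul_zero, zero_mul]
    · show (_ - 1 : Matrix (Fin n) (Fin n) F).rank = n - 1
      rw [h1, Matrix.rank_mul_eq_left_of_isUnit_det _ _ ((Matrix.isUnit_iff_isUnit_det _).mp (Units.isUnit _)), Matrix.rank_mul_eq_right_of_isUnit_det _ _ ((Matrix.isUnit_iff_isUnit_det _).mp (Units.isUnit _)), hN₀.rank_eq, Fintype.card_fin]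
  let Θ : Fˣ → {C : ConjClasses (Matrix.SpecialLinearGroup (Fin n) F) // ∃ u : Matrix.SpecialLinearGroup (Fin n) F,
      ConjClasses.mk u = C ∧ ((u : Matrix (Fin n) (Fin n) F) - 1) ^ n = 0 ∧ ((u : Matrix (Fin n) (Fin n) F) - 1).rank = n - 1} :=
    fun d => ⟨ConjClasses.mk (E d), E d, rfl, hEP d⟩
  have hsurj : Function.Surjective Θ := by
    rintro ⟨C, u, rfl, hun, hur⟩
    have hu : CfsgLib.Conj.IsRegNilp ((u : Matrix (Fin n) (Fin n) F) - 1) :=
      ⟨by rw [Fintype.card_fin]; exact hun, by rw [Fintype.card_fin]; exact hur, by rw [Fintype.card_fin]; omega⟩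
    obtain ⟨g, hg⟩ := hN₀.exists_conj hu
    have hg' : Matrix.SpecialLinearGroup.toGL u = g * u₀ * g⁻¹ := by
      rw [eq_mul_inv_iff_mul_eq]
      apply Units.ext
      rw [Units.val_mul, Units.val_mul, hu₀, mul_add, hg, sub_mul, mul_one, one_mul, add_sub_cancel]
      rfl
    let d := Matrix.GeneralLinearGroup.det g
    refine ⟨d, Subtype.ext (ConjClasses.mk_eq_mk_iff_isConj.mpr (isConj_iff.mpr ?_))⟩
    have hd : ((g * (D d)⁻¹ : GL (Fin n) F) : Matrix (Fin n) (Fin n) F).det = 1 := by
      have hk : ((D d)⁻¹ : GL (Fin n) F).val.det * (d : F) = 1 := by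
        rw [← hDd d, ← Matrix.det_mul, ← Units.val_mul, inv_mul_cancel, Units.val_one, Matrix.det_one]
      rw [Units.val_mul, Matrix.det_mul, mul_comm, ← hk]
      rfl
    let sl : Matrix.SpecialLinearGroup (Fin n) F := ⟨_, hd⟩
    refine ⟨sl, Matrix.SpecialLinearGroup.toGL_injective ?_⟩
    rw [map_mul, map_mul, map_inv, hEgl, hg', show Matrix.SpecialLinearGroup.toGL sl = g * (D d)⁻¹ from Units.ext rfl]
    group
  have hfib : ∀ d d', Θ d = Θ d' ↔ (QuotientGroup.mk d : Fˣ ⧸ (powMonoidHom n : Fˣ →* Fˣ).range) = QuotientGroup.mk d' := by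
    intro d d'
    rw [QuotientGroup.eq, Subtype.ext_iff, ConjClasses.mk_eq_mk_iff_isConj, isConj_iff]
    constructor
    · rintro ⟨h, hh⟩
      have hh' := congrArg Matrix.SpecialLinearGroup.toGL hh
      rw [map_mul, map_mul, map_inv, hEgl, hEgl] at hh'
      set a := (D d')⁻¹ * Matrix.SpecialLinearGroup.toGL h * D d with ha
      have hau : a * u₀ = u₀ * a := by
        calc a * u₀ = (D d')⁻¹ * (Matrix.SpecialLinearGroup.toGL h * (D d * u₀ * (D d)⁻¹) * (Matrix.SpecialLinearGroup.toGL h)⁻¹) * (Matrix.SpecialLinearGroup.toGL h * D d) := by rw [ha]; group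
          _ = (D d')⁻¹ * (D d' * u₀ * (D d')⁻¹) * (Matrix.SpecialLinearGroup.toGL h * D d) := by rw [hh']
          _ = u₀ * a := by rw [ha]; group
      have haN : Commute (a : Matrix (Fin n) (Fin n) F) N₀ := by
        have := congrArg Units.val hau
        rw [Units.val_mul a u₀, Units.val_mul u₀ a, hu₀, mul_add, add_mul, mul_one, one_mul, add_right_inj] at this
        exact this
      obtain ⟨c, hc⟩ := hN₀.exists_sum_of_commute haN
      let i₀ : Fin (Fintype.card (Fin n)) := ⟨0, by simp; omega⟩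
      have hM : IsNilpotent (∑ i ∈ Finset.univ.erase i₀, c i • N₀ ^ (i : ℕ)) := by
        refine Commute.isNilpotent_sum (fun i hi => ?_) (fun i j _ _ => ((Commute.refl N₀).pow_pow _ _).smul_left _ |>.smul_right _)
        have hi0 : (i : ℕ) ≠ 0 := fun e => (Finset.mem_erase.mp hi).1 (Fin.ext e)
        exact (hnil0.pow_of_pos hi0).smul _
      have hdet := CfsgLib.Conj.det_smul_one_add_nilpotent hM (c i₀)
      have hsum : c i₀ • (1 : Matrix (Fin n) (Fin n) F) + ∑ i ∈ Finset.univ.erase i₀, c i • N₀ ^ (i : ℕ) = (a : Matrix (Fin n) (Fin n) F) := by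
        rw [hc, ← Finset.add_sum_erase Finset.univ (fun i => c i • N₀ ^ (i : ℕ)) (Finset.mem_univ i₀)]
        simp [i₀]
      rw [hsum, Fintype.card_fin] at hdet
      have hdh : Matrix.GeneralLinearGroup.det (Matrix.SpecialLinearGroup.toGL h) = 1 := Units.ext h.2
      have hdD : ∀ e, Matrix.GeneralLinearGroup.det (D e) = e := fun e => Units.ext (hDd e)
      have hda : Matrix.GeneralLinearGroup.det a = d'⁻¹ * d := by
        rw [ha, map_mul, map_mul, map_inv, hdD, hdD, hdh, mul_one]
      have hne : c i₀ ≠ 0 := by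
        intro h0
        rw [h0, zero_pow (by omega)] at hdet
        exact (Matrix.GeneralLinearGroup.det a).ne_zero hdet
      refine ⟨(Units.mk0 _ hne)⁻¹, ?_⟩
      show (Units.mk0 _ hne)⁻¹ ^ n = d⁻¹ * d'
      rw [inv_pow, show (Units.mk0 _ hne) ^ n = Matrix.GeneralLinearGroup.det a from Units.ext (by simp [hdet]), hda]
      group
    · rintro ⟨c, hc⟩
      let a : GL (Fin n) F := Matrix.GeneralLinearGroup.scalar (Fin n) c⁻¹
      have hau : a * u₀ = u₀ * a := by
        refine (Subgroup.mem_center_iff.mp ?_ u₀).symm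
        rw [Matrix.GeneralLinearGroup.center_eq_range_scalar]
        exact ⟨_, rfl⟩
      have hd : ((D d' * a * (D d)⁻¹ : GL (Fin n) F) : Matrix (Fin n) (Fin n) F).det = 1 := by
        have : Matrix.GeneralLinearGroup.det (D d' * a * (D d)⁻¹) = 1 := by
          have hdD : ∀ e, Matrix.GeneralLinearGroup.det (D e) = e := fun e => Units.ext (hDd e)
          have hda : Matrix.GeneralLinearGroup.det a = (c ^ n)⁻¹ := Units.ext (by simp [a, Matrix.det_diagonal, inv_pow])
          rw [map_mul, map_mul, map_inv, hdD, hdD, hda, show c ^ n = d⁻¹ * d' from hc, mul_inv_rev, inv_inv,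
            mul_inv_cancel_left, mul_inv_cancel]
        exact congrArg Units.val this
      let sl : Matrix.SpecialLinearGroup (Fin n) F := ⟨_, hd⟩
      refine ⟨sl, Matrix.SpecialLinearGroup.toGL_injective ?_⟩
      rw [map_mul, map_mul, map_inv, hEgl, hEgl, show Matrix.SpecialLinearGroup.toGL sl = D d' * a * (D d)⁻¹ from Units.ext rfl]
      calc D d' * a * (D d)⁻¹ * (D d * u₀ * (D d)⁻¹) * (D d' * a * (D d)⁻¹)⁻¹ = D d' * (a * u₀) * a⁻¹ * (D d')⁻¹ := by group
        _ = D d' * u₀ * (D d')⁻¹ := by rw [hau]; group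
  have hbij : Function.Bijective (Quotient.lift Θ (fun d d' hdd => (hfib d d').mpr (Quotient.sound hdd)) :
      Fˣ ⧸ (powMonoidHom n : Fˣ →* Fˣ).range → _) := by
    refine ⟨fun x y hxy => ?_, fun C => ?_⟩
    · induction x using QuotientGroup.induction_on with | _ d =>
      induction y using QuotientGroup.induction_on with | _ d' =>
      exact (hfib d d').mp hxy
    · obtain ⟨d, rfl⟩ := hsurj C
      exact ⟨QuotientGroup.mk d, rfl⟩
  rw [← Nat.card_eq_of_bijective _ hbij]
  show (powMonoidHom n : Fˣ →* Fˣ).range.index = _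
  rw [IsCyclic.index_powMonoidHom_range, Nat.card_units,
    Nat.card_eq_fintype_card, hF, Nat.gcd_comm]

end Cfsg.Agent.S2578
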