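import Mathlib
import Cfsg.Statements.S0007
-- import your own Cfsg.Agent.* helpers here

set_option autoImplicit false
open Cfsg

namespace Cfsg.Agent.S0007

/-- Subgroups of coprime index: the intersection has index equal to the product of the indices, and every element is a product of an element of the first subgroup and an element of the second. -/
theorem result {G : Type*} [Group G] [Finite G] (H K : Subgroup G)
    (h : H.index.Coprime K.index) :
    (H ⊓ K).index = H.index * K.index ∧ ∀ g : G, ∃ x ∈ H, ∃ y ∈ K, g = x * y := by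
  have h1 : (H ⊓ K).index = H.index * K.index := by
    apply le_antisymm Subgroup.index_inf_le
    refine Nat.le_of_dvd (Nat.pos_of_ne_zero Subgroup.index_ne_zero_of_finite) ?_
    exact h.mul_dvd_of_dvd_of_dvd (Subgroup.index_dvd_of_le inf_le_left)
      (Subgroup.index_dvd_of_le inf_le_right)
  refine ⟨h1, fun g => ?_⟩
  have h2 : (K.subgroupOf H).index = K.index := by
    have := Subgroup.relIndex_mul_index (inf_le_left : H ⊓ K ≤ H)
    rw [h1, Subgroup.inf_relIndex_left] at this
    have h0 : H.index ≠ 0 := Subgroup.index_ne_zero_of_finite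
    change K.relIndex H = K.index
    exact Nat.eq_of_mul_eq_mul_right (Nat.pos_of_ne_zero h0) (this.trans (mul_comm _ _))
  have hb : Function.Bijective (Subgroup.quotientSubgroupOfEmbeddingOfLE K (le_top : H ≤ ⊤)) := by
    refine (Nat.bijective_iff_injective_and_card _).2 ⟨(Subgroup.quotientSubgroupOfEmbeddingOfLE K _).injective, ?_⟩
    change (K.subgroupOf H).index = K.relIndex ⊤
    rw [h2, Subgroup.relIndex_top_right]
  obtain ⟨q, hq⟩ := hb.2 (QuotientGroup.mk (⟨g, Subgroup.mem_top g⟩ : (⊤ : Subgroup G)))
  obtain ⟨⟨x, hx⟩, rfl⟩ := QuotientGroup.mk_surjective q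
  refine ⟨x, hx, x⁻¹ * g, ?_, by group⟩
  have := QuotientGroup.eq.1 hq
  simpa [Subgroup.mem_subgroupOf] using this

end Cfsg.Agent.S0007
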