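import Cfsg.Statements.S0019
import Cfsg.Agent.Lib.Solvable.Hall

set_option autoImplicit false
open Cfsg

namespace Cfsg.Agent.S0019

universe u

open scoped Pointwise in
open Subgroup in
theorem aux : ∀ (n : ℕ) (G : Type u) [Group G] [Finite G] (H₁ H₂ H₃ : Subgroup G),
    Nat.card G = n → Group.IsSolvable H₁ → Group.IsSolvable H₂ → Group.IsSolvable H₃ →
    (∀ g : G, ∃ x ∈ H₁, ∃ y ∈ H₂, g = x * y) → (∀ g : G, ∃ x ∈ H₁, ∃ y ∈ H₃, g = x * y) →
    H₂.index.Coprime H₃.index → Group.IsSolvable G := by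
  intro n
  induction n using Nat.strong_induction_on with
  | _ n ih =>
  intro G _ _ H₁ H₂ H₃ hn h₁ h₂ h₃ h12 h13 hcop
  by_cases hbot : H₁ = ⊥
  · have : H₂ = ⊤ := eq_top_iff.mpr fun g _ => by
      obtain ⟨x, hx, y, hy, rfl⟩ := h12 g
      rw [hbot, mem_bot] at hx
      rwa [hx, one_mul]
    subst this
    exact Group.isSolvable_of_surjective (f := (⊤ : Subgroup G).subtype)
      (MonoidHom.range_eq_top.mp (range_subtype _))
  have : Nontrivial H₁ := (nontrivial_iff_ne_bot H₁).mpr hbot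
  obtain ⟨p, N₀, hp, hN₀, hN₀p, hN₀1⟩ := CfsgLib.Solvable.exists_normal_pgroup_ne_bot (G := H₁)
  have : Fact p.Prime := ⟨hp⟩
  set N := N₀.map H₁.subtype with hN
  have hN1 : N ≠ ⊥ := fun h => hN₀1 (map_injective H₁.subtype_injective (h.trans (Subgroup.map_bot _).symm))
  have hH₁N : H₁ ≤ normalizer (N : Set G) := by
    have := le_normalizer_map H₁.subtype (H := N₀)
    rwa [normalizer_eq_top, ← MonoidHom.range_eq_map, range_subtype] at this
  have key : ∀ H : Subgroup G, Group.IsSolvable H → (∀ g : G, ∃ x ∈ H₁, ∃ y ∈ H, g = x * y) →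
      ¬ p ∣ H.index → ∃ M : Subgroup G, M.Normal ∧ M ≠ ⊥ ∧ Group.IsSolvable M := by
    intro H hH hfac hpH
    obtain ⟨P⟩ : Nonempty (Sylow p H) := inferInstance
    have hPG : IsPGroup p ((P : Subgroup H).map H.subtype) := P.2.map _
    have hidx : ¬ p ∣ ((P : Subgroup H).map H.subtype).index := by
      rw [index_map_subtype]
      exact hp.not_dvd_mul P.not_dvd_index hpH
    obtain ⟨Q, hQ⟩ := (hN₀p.map H₁.subtype).exists_le_sylow
    obtain ⟨g, hg⟩ := MulAction.exists_smul_eq G (hPG.toSylow hidx) Q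
    rw [← hg] at hQ
    have hNH : N ≤ MulAut.conj g • H := hQ.trans (pointwise_smul_le_pointwise_smul_iff.mpr
      ((IsPGroup.toSylow_coe _ _).le.trans (map_subtype_le _)))
    obtain ⟨x, hx, y, hy, rfl⟩ := hfac g
    have hNH' : N ≤ H := by
      have h1 : MulAut.conj x⁻¹ • N ≤ MulAut.conj x⁻¹ • MulAut.conj (x * y) • H :=
        pointwise_smul_le_pointwise_smul_iff.mpr hNH
      rwa [CfsgLib.Solvable.conj_smul_eq_self_iff.mpr (hH₁N (inv_mem hx)),
        CfsgLib.Solvable.conj_smul_conj_smul, inv_mul_cancel_left,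
        conj_smul_eq_self_of_mem hy] at h1
    refine ⟨normalClosure (N : Set G), inferInstance, fun h => hN1 (le_bot_iff.mp
      ((show N ≤ normalClosure (N : Set G) from subset_normalClosure).trans h.le)), ?_⟩
    have hle : normalClosure (N : Set G) ≤ H := by
      rw [normalClosure, closure_le]
      intro z hz
      obtain ⟨n₀, hn₀, hconj⟩ := Group.mem_conjugatesOfSet_iff.mp hz
      obtain ⟨c, rfl⟩ := isConj_iff.mp hconj
      obtain ⟨a, ha, b, hb, hab⟩ := hfac c⁻¹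
      have hc : c = b⁻¹ * a⁻¹ := by rw [← mul_inv_rev, ← hab, inv_inv]
      have h1 : a⁻¹ * n₀ * a⁻¹⁻¹ ∈ H := hNH' (le_normalizer_iff.mp hH₁N _ (inv_mem ha) _ hn₀)
      have : c * n₀ * c⁻¹ = b⁻¹ * (a⁻¹ * n₀ * a⁻¹⁻¹) * b⁻¹⁻¹ := by
        rw [hc]; simp [mul_assoc]
      rw [SetLike.mem_coe, this]
      exact mul_mem (mul_mem (inv_mem hb) h1) (inv_mem (inv_mem hb))
    exact @Group.isSolvable_of_isSolvable_injective _ _ _ _ _ (inclusion_injective hle) hH
  obtain ⟨M, hM, hM1, hMs⟩ : ∃ M : Subgroup G, M.Normal ∧ M ≠ ⊥ ∧ Group.IsSolvable M := by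
    by_cases h : p ∣ H₂.index
    · exact key H₃ h₃ h13 fun h' => hp.ne_one (Nat.eq_one_of_dvd_coprimes hcop h h')
    · exact key H₂ h₂ h12 h
  set f := QuotientGroup.mk' M with hf
  have hlt : Nat.card (G ⧸ M) < n := by
    rw [← hn, ← index_eq_card, ← card_mul_index M]
    exact lt_mul_of_one_lt_left (Nat.pos_of_ne_zero index_ne_zero_of_finite)
      (M.one_lt_card_iff_ne_bot.mpr hM1)
  have hsolmap : ∀ H : Subgroup G, Group.IsSolvable H → Group.IsSolvable (H.map f) := fun H hH =>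
    @Group.isSolvable_of_surjective _ _ _ _ _ (f.subgroupMap_surjective H) hH
  have hfac : ∀ H : Subgroup G, (∀ g : G, ∃ x ∈ H₁, ∃ y ∈ H, g = x * y) →
      ∀ g : G ⧸ M, ∃ x ∈ H₁.map f, ∃ y ∈ H.map f, g = x * y := by
    intro H h g
    obtain ⟨g, rfl⟩ := QuotientGroup.mk'_surjective M g
    obtain ⟨x, hx, y, hy, rfl⟩ := h g
    exact ⟨f x, mem_map_of_mem f hx, f y, mem_map_of_mem f hy, map_mul f x y⟩
  have hq := ih _ hlt (G ⧸ M) (H₁.map f) (H₂.map f) (H₃.map f) rfl (hsolmap _ h₁) (hsolmap _ h₂)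
    (hsolmap _ h₃) (hfac _ h12) (hfac _ h13)
    ((hcop.coprime_dvd_left (index_map_dvd _ (QuotientGroup.mk'_surjective M))).coprime_dvd_right
      (index_map_dvd _ (QuotientGroup.mk'_surjective M)))
  exact (Group.isSolvable_iff_subgroup_quotient M).mpr ⟨hMs, hq⟩


/-- A finite group that factorises as H₁H₂ and as H₁H₃ with all three subgroups solvable and the indices of H₂ and H₃ coprime is solvable. -/
theorem result {G : Type*} [Group G] [Finite G] (H₁ H₂ H₃ : Subgroup G)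
    (h₁ : Group.IsSolvable H₁) (h₂ : Group.IsSolvable H₂) (h₃ : Group.IsSolvable H₃)
    (h12 : ∀ g : G, ∃ x ∈ H₁, ∃ y ∈ H₂, g = x * y) (h13 : ∀ g : G, ∃ x ∈ H₁, ∃ y ∈ H₃, g = x * y)
    (hcop : H₂.index.Coprime H₃.index) : Group.IsSolvable G := by
  exact aux _ G H₁ H₂ H₃ rfl h₁ h₂ h₃ h12 h13 hcop

end Cfsg.Agent.S0019
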