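import Cfsg.Statements.S0006
import Cfsg.Agent.S0019
import Cfsg.Agent.S0007
import Cfsg.Agent.Lib.Char.Burnside

set_option autoImplicit false
open Cfsg

namespace Cfsg.Agent.S0006

universe u

theorem aux : ∀ (n : ℕ) (G : Type u) [Group G] [Finite G], Nat.card G = n →
    (∀ p : ℕ, p.Prime → ∃ H : Subgroup G, H.index = p ^ (Nat.card G).factorization p) →
    Group.IsSolvable G := by
  intro n
  induction n using Nat.strong_induction_on with
  | _ n ih =>
  intro G _ _ hn h
  have hsub : ∀ (p : ℕ), p ∈ (Nat.card G).primeFactors → ∀ H : Subgroup G,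
      H.index = p ^ (Nat.card G).factorization p → Group.IsSolvable H := by
    intro p hp H hH
    have hpp := Nat.prime_of_mem_primeFactors hp
    have hcard : Nat.card H * p ^ (Nat.card G).factorization p = Nat.card G :=
      hH ▸ Subgroup.card_mul_index H
    have hlt : Nat.card H < n := by
      rw [← hn, ← hcard]
      refine lt_mul_of_one_lt_right Nat.card_pos (Nat.one_lt_pow ?_ hpp.one_lt)
      exact (hpp.factorization_pos_of_dvd Nat.card_pos.ne' (Nat.dvd_of_mem_primeFactors hp)).ne'
    refine ih _ hlt H rfl fun r hr => ?_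
    by_cases hrp : r = p
    · subst hrp
      refine ⟨⊤, ?_⟩
      have hf : (Nat.card H).factorization r = 0 := by
        have h1 := congr_arg (fun k => k.factorization r) hcard
        simp only [Nat.factorization_mul Nat.card_pos.ne' (pow_ne_zero _ hr.ne_zero),
          Finsupp.add_apply, hr.factorization_pow, Finsupp.single_eq_same] at h1
        omega
      rw [hf, Subgroup.index_top, pow_zero]
    · obtain ⟨K, hK⟩ := h r hr
      refine ⟨K.subgroupOf H, ?_⟩
      have hcop : H.index.Coprime K.index := by
        rw [hH, hK]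
        exact Nat.Coprime.pow _ _ ((Nat.coprime_primes hpp hr).mpr (Ne.symm hrp))
      have h1 := (Cfsg.Agent.S0007.result H K hcop).1
      rw [← Subgroup.relIndex_mul_index (inf_le_left : H ⊓ K ≤ H), Subgroup.inf_relIndex_left,
        mul_comm] at h1
      have hrel : K.relIndex H = K.index :=
        Nat.eq_of_mul_eq_mul_left (Nat.pos_of_ne_zero Subgroup.index_ne_zero_of_finite) h1
      have hf : (Nat.card G).factorization r = (Nat.card H).factorization r := by
        rw [← hcard, Nat.factorization_mul Nat.card_pos.ne' (pow_ne_zero _ hpp.ne_zero),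
          Finsupp.add_apply, hpp.factorization_pow, Finsupp.single_eq_of_ne hrp, add_zero]
      change K.relIndex H = _
      rw [hrel, hK, hf]
  have hprod : ∏ q ∈ (Nat.card G).primeFactors, q ^ (Nat.card G).factorization q = Nat.card G :=
    (by rw [Finsupp.prod, Nat.support_factorization] :
      (Nat.card G).factorization.prod (fun q e => q ^ e) =
        ∏ q ∈ (Nat.card G).primeFactors, q ^ (Nat.card G).factorization q).symm.trans
      (Nat.factorization_prod_pow_eq_self Nat.card_pos.ne')
  set P := (Nat.card G).primeFactors with hPdef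
  rcases Nat.lt_or_ge P.card 3 with hlt | hge
  · obtain h0 | h1 | h2 : P.card = 0 ∨ P.card = 1 ∨ P.card = 2 := by omega
    · rw [Finset.card_eq_zero.mp h0, Finset.prod_empty] at hprod
      exact CfsgLib.Char.isSolvable_of_card_eq_prime_pow_mul (a := 0) (b := 0) Nat.prime_two
        Nat.prime_three (by rw [← hprod]; simp)
    · obtain ⟨p, hp⟩ := Finset.card_eq_one.mp h1
      have hpp : p.Prime := Nat.prime_of_mem_primeFactors (n := Nat.card G) (hPdef ▸ hp ▸ Finset.mem_singleton_self p)
      rw [hp, Finset.prod_singleton] at hprod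
      exact CfsgLib.Char.isSolvable_of_card_eq_prime_pow_mul
        (a := (Nat.card G).factorization p) (b := 0) hpp hpp
        (by rw [pow_zero, mul_one]; exact hprod.symm)
    · obtain ⟨p, q, hpq, hp⟩ := Finset.card_eq_two.mp h2
      have hpp : p.Prime := Nat.prime_of_mem_primeFactors (n := Nat.card G) (by rw [← hPdef, hp]; simp)
      have hqq : q.Prime := Nat.prime_of_mem_primeFactors (n := Nat.card G) (by rw [← hPdef, hp]; simp)
      rw [hp, Finset.prod_pair hpq] at hprod
      exact CfsgLib.Char.isSolvable_of_card_eq_prime_pow_mul hpp hqq hprod.symm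
  · obtain ⟨a, b, c, ha, hb, hc, hab, hac, hbc⟩ := Finset.two_lt_card_iff.mp hge
    have hpa := Nat.prime_of_mem_primeFactors ha
    have hpb := Nat.prime_of_mem_primeFactors hb
    have hpc := Nat.prime_of_mem_primeFactors hc
    obtain ⟨A, hA⟩ := h a hpa
    obtain ⟨B, hB⟩ := h b hpb
    obtain ⟨C, hC⟩ := h c hpc
    have cop : ∀ {x y : ℕ} {X Y : Subgroup G}, x.Prime → y.Prime → x ≠ y →
        X.index = x ^ (Nat.card G).factorization x → Y.index = y ^ (Nat.card G).factorization y →
        X.index.Coprime Y.index := fun hx hy hxy h1 h2 =>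
      h1 ▸ h2 ▸ Nat.Coprime.pow _ _ ((Nat.coprime_primes hx hy).mpr hxy)
    exact Cfsg.Agent.S0019.result A B C (hsub a ha A hA) (hsub b hb B hB) (hsub c hc C hC)
      (Cfsg.Agent.S0007.result A B (cop hpa hpb hab hA hB)).2
      (Cfsg.Agent.S0007.result A C (cop hpa hpc hac hA hC)).2 (cop hpb hpc hbc hB hC)


/-- Converse of Hall's Theorem: if for every prime p a finite group has a subgroup of index equal to the p-part of the group order (a Hall p-complement), then the group is solvable. -/
theorem result {G : Type*} [Group G] [Finite G]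
    (h : ∀ p : ℕ, p.Prime → ∃ H : Subgroup G, H.index = p ^ (Nat.card G).factorization p) :
    Group.IsSolvable G := by
  exact aux _ G rfl h

end Cfsg.Agent.S0006
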