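import Cfsg.Statements.S0013
import Mathlib.RingTheory.Int.Basic

set_option autoImplicit false
open Cfsg

namespace Cfsg.Agent.S0013

/-- In a finite p-group the Frattini subgroup is the smallest normal subgroup with elementary abelian quotient: it lies below any normal subgroup containing all commutators and all p-th powers. -/
theorem result {G : Type*} [Group G] [Finite G] (p : ℕ) [Fact p.Prime]
    (hG : IsPGroup p G) (N : Subgroup G) [N.Normal] (hcomm : commutator G ≤ N) (hpow : ∀ x : G, x ^ p ∈ N) :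
    frattini G ≤ N := by
  intro x hx
  by_contra hxN
  obtain ⟨M, hNM, hM⟩ := exists_maximal_ge_of_wellFoundedGT
    (fun M : Subgroup G => N ≤ M ∧ x ∉ M) N ⟨le_rfl, hxN⟩
  have hxM : x ∉ M := hM.prop.2
  have : M.Normal := Subgroup.Normal.of_commutator_le G (hcomm.trans hNM)
  have hgt : ∀ K : Subgroup G, M < K → x ∈ K := fun K hK => by
    by_contra h
    exact hK.not_ge (hM.2 ⟨hNM.trans hK.le, h⟩ hK.le)
  have hxall : ∀ g : G, g ∉ M → g ∈ M ⊔ Subgroup.zpowers x := by
    intro g hg
    have hlt : M < M ⊔ Subgroup.zpowers g := lt_of_le_of_ne le_sup_left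
      fun h => hg (h ▸ Subgroup.mem_sup_right (Subgroup.mem_zpowers g))
    obtain ⟨m, hm, y, hy, hmy⟩ := Subgroup.mem_sup_of_normal_left.mp (hgt _ hlt)
    obtain ⟨i, rfl⟩ := Subgroup.mem_zpowers_iff.mp hy
    have hnd : ¬ (p : ℤ) ∣ i := by
      rintro ⟨j, rfl⟩
      refine hxM (hmy ▸ mul_mem hm ?_)
      rw [zpow_mul, zpow_natCast]
      exact zpow_mem (hNM (hpow g)) j
    obtain ⟨u, v, huv⟩ := ((Nat.prime_iff_prime_int.mp (Fact.out : p.Prime)).coprime_iff_not_dvd).mpr hnd
    have hgi : g ^ i ∈ M ⊔ Subgroup.zpowers x := by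
      rw [show g ^ i = m⁻¹ * x by rw [← hmy, inv_mul_cancel_left]]
      exact mul_mem (Subgroup.mem_sup_left (inv_mem hm))
        (Subgroup.mem_sup_right (Subgroup.mem_zpowers x))
    have hg' : g = (g ^ p) ^ u * (g ^ i) ^ v := by
      rw [← zpow_natCast g p, ← zpow_mul, ← zpow_mul, ← zpow_add, mul_comm _ u, mul_comm i v, huv,
        zpow_one]
    rw [hg']
    exact mul_mem (zpow_mem (Subgroup.mem_sup_left (hNM (hpow g))) u) (zpow_mem hgi v)
  have hco : IsCoatom M := by
    refine ⟨fun h => hxM (h ▸ Subgroup.mem_top x), fun K hK => eq_top_iff.mpr fun g _ => ?_⟩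
    by_cases hg : g ∈ M
    · exact hK.le hg
    · exact sup_le hK.le (Subgroup.zpowers_le.mpr (hgt K hK)) (hxall g hg)
  exact hxM (frattini_le_coatom hco hx)

end Cfsg.Agent.S0013
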