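import Cfsg.Statements.S0014
import Cfsg.Agent.Lib.PGroup.Basic
import Cfsg.Agent.Lib.Solvable.Basic
import Mathlib.Data.Finset.Card

set_option autoImplicit false
open Cfsg

namespace Cfsg.Agent.S0014

open Subgroup in
/-- Adjoining an element to a subgroup above the Frattini subgroup multiplies its order by at most `p`. -/
theorem step {G : Type*} [Group G] [Finite G] {p : ℕ} [Fact p.Prime] (hG : IsPGroup p G)
    (K : Subgroup G) (hK : frattini G ≤ K) (x : G) :
    (x ∈ K → (K ⊔ zpowers x).index = K.index) ∧
      (x ∉ K → (K ⊔ zpowers x).index * p = K.index) := by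
  refine ⟨fun hx => by rw [sup_eq_left.mpr (zpowers_le.mpr hx)], fun hx => ?_⟩
  have : K.Normal := Subgroup.Normal.of_commutator_le G ((CfsgLib.PGroup.commutator_le_frattini hG).trans hK)
  have hc := CfsgLib.PGroup.card_sup_zpowers hx (hK (CfsgLib.PGroup.pow_mem_frattini hG x))
  have h1 := card_mul_index (K ⊔ zpowers x)
  rw [hc, ← card_mul_index K] at h1
  refine Nat.eq_of_mul_eq_mul_left (Nat.card_pos (α := K)) ?_
  rw [← h1]; ring


/-- Burnside's basis Theorem: in a finite p-group whose Frattini quotient has order p ^ n, every generating set contains n elements that already generate, and no set with fewer than n elements generates. -/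
theorem result {G : Type*} [Group G] [Finite G] (p n : ℕ) [Fact p.Prime]
    (hG : IsPGroup p G) (hn : (frattini G).index = p ^ n) :
    (∀ S : Finset G, Subgroup.closure (S : Set G) = ⊤ → ∃ T : Finset G, T ⊆ S ∧ T.card = n ∧ Subgroup.closure (T : Set G) = ⊤) ∧
    (∀ T : Finset G, Subgroup.closure (T : Set G) = ⊤ → n ≤ T.card) := by
  classical
  have hle : ∀ T : Finset G, p ^ n ≤ (frattini G ⊔ Subgroup.closure (T : Set G)).index * p ^ T.card := by
    intro T
    induction T using Finset.induction_on with
    | empty => simp [hn]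
    | insert x T hxT ih =>
      rw [Finset.card_insert_of_notMem hxT, Finset.coe_insert, Set.insert_eq, Subgroup.closure_union,
        ← Subgroup.zpowers_eq_closure, sup_comm (Subgroup.zpowers x), ← sup_assoc]
      obtain ⟨h1, h2⟩ := step hG _ (le_sup_left : frattini G ≤ frattini G ⊔ Subgroup.closure (T : Set G)) x
      by_cases hx : x ∈ frattini G ⊔ Subgroup.closure (T : Set G)
      · rw [h1 hx, pow_succ]
        exact ih.trans (Nat.mul_le_mul_left _ (Nat.le_mul_of_pos_right _ (Fact.out : p.Prime).pos))
      · rw [← h2 hx, mul_assoc, ← pow_succ'] at ih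
        exact ih
  refine ⟨fun S hS => ?_, fun T hT => ?_⟩
  · have key : ∀ k ≤ n, ∃ T : Finset G, T ⊆ S ∧ T.card = k ∧
        (frattini G ⊔ Subgroup.closure (T : Set G)).index = p ^ (n - k) := by
      intro k
      induction k with
      | zero => exact fun _ => ⟨∅, by simp, by simp, by simp [hn]⟩
      | succ k ih =>
        intro hk
        obtain ⟨T, hTS, hTc, hTi⟩ := ih (by omega)
        obtain ⟨x, hxS, hx⟩ : ∃ x ∈ S, x ∉ frattini G ⊔ Subgroup.closure (T : Set G) := by
          by_contra hno
          push Not at hno
          have : (⊤ : Subgroup G) ≤ frattini G ⊔ Subgroup.closure (T : Set G) := by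
            rw [← hS, Subgroup.closure_le]
            exact fun x hx => hno x hx
          rw [top_le_iff.mp this, Subgroup.index_top] at hTi
          exact (Nat.one_lt_pow (by omega) (Fact.out : p.Prime).one_lt).ne hTi
        have hxT : x ∉ T := fun h => hx (Subgroup.mem_sup_right (Subgroup.subset_closure h))
        refine ⟨insert x T, Finset.insert_subset hxS hTS, by rw [Finset.card_insert_of_notMem hxT, hTc], ?_⟩
        rw [Finset.coe_insert, Set.insert_eq, Subgroup.closure_union,
          ← Subgroup.zpowers_eq_closure, sup_comm (Subgroup.zpowers x), ← sup_assoc]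
        have h2 := (step hG _ (le_sup_left : frattini G ≤ frattini G ⊔ Subgroup.closure (T : Set G)) x).2 hx
        rw [hTi, show n - k = n - (k + 1) + 1 by omega, pow_succ] at h2
        exact Nat.eq_of_mul_eq_mul_right (Fact.out : p.Prime).pos h2
    obtain ⟨T, hTS, hTc, hTi⟩ := key n le_rfl
    rw [Nat.sub_self, pow_zero, Subgroup.index_eq_one, sup_comm] at hTi
    exact ⟨T, hTS, hTc, frattini_nongenerating hTi⟩
  · have h := hle T
    rw [hT, sup_top_eq, Subgroup.index_top, one_mul] at h
    exact (Nat.pow_le_pow_iff_right (Fact.out : p.Prime).one_lt).mp h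

end Cfsg.Agent.S0014
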