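import Cfsg.Statements.S0015
import Mathlib.Algebra.Group.Subgroup.ZPowers.Basic

set_option autoImplicit false
open Cfsg
open scoped commutatorElement

namespace Cfsg.Agent.S0015

/-- In a finite nilpotent group, an abelian normal subgroup that is maximal among abelian normal subgroups equals its own centralizer. -/
theorem result {G : Type*} [Group G] [Finite G] [Group.IsNilpotent G]
    (N : Subgroup G) [N.Normal] [IsMulCommutative N]
    (hmax : ∀ M : Subgroup G, M.Normal → IsMulCommutative M → N ≤ M → M = N) :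
    Subgroup.centralizer (N : Set G) = N := by
  have hCn : (Subgroup.centralizer (N : Set G)).Normal := inferInstance
  refine le_antisymm ?_ (Subgroup.le_centralizer N)
  intro c hc
  by_contra hcN
  obtain ⟨k, hk⟩ := Subgroup.nilpotent_iff_lowerCentralSeries.mp ‹Group.IsNilpotent G›
  set D : ℕ → Subgroup G := fun i => Subgroup.centralizer (N : Set G) ⊓ (⊤ : Subgroup G).lowerCentralSeries i
    with hD
  have hex : ∃ i, D i ≤ N := ⟨k, by simp [hD, hk]⟩
  classical
  set i := Nat.find hex with hi
  have hi0 : i ≠ 0 := by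
    intro h
    have := Nat.find_spec hex
    rw [← hi, h] at this
    exact hcN (this (Subgroup.mem_inf.mpr ⟨hc, by simp⟩))
  obtain ⟨j, hj⟩ := Nat.exists_eq_succ_of_ne_zero hi0
  obtain ⟨x, hx, hxN⟩ := SetLike.not_le_iff_exists.mp (Nat.find_min hex (hj ▸ Nat.lt_succ_self j : j < i))
  have hxC : x ∈ Subgroup.centralizer (N : Set G) := (Subgroup.mem_inf.mp hx).1
  have hcomm : ∀ g : G, ⁅x, g⁆ ∈ N := by
    intro g
    have h := Nat.find_spec hex
    rw [← hi, hj] at h
    refine h (Subgroup.mem_inf.mpr ⟨?_, ?_⟩)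
    · rw [commutatorElement_def, mul_assoc x, mul_assoc x]
      exact mul_mem hxC (hCn.conj_mem _ (inv_mem hxC) g)
    · exact Subgroup.commutator_mem_commutator (Subgroup.mem_inf.mp hx).2 (Subgroup.mem_top g)
  have hMn : (N ⊔ Subgroup.zpowers x).Normal := by
    refine ⟨fun y hy g => ?_⟩
    obtain ⟨n, hn, z, hz, rfl⟩ := Subgroup.mem_sup_of_normal_left.mp hy
    obtain ⟨t, rfl⟩ := Subgroup.mem_zpowers_iff.mp hz
    rw [conj_mul.symm, ← conj_zpow]
    refine mul_mem (Subgroup.mem_sup_left (Subgroup.Normal.conj_mem inferInstance n hn g))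
      (zpow_mem ?_ t)
    have : g * x * g⁻¹ = ⁅x, g⁆⁻¹ * x := by simp [commutatorElement_def, mul_assoc]
    rw [this]
    exact mul_mem (Subgroup.mem_sup_left (inv_mem (hcomm g)))
      (Subgroup.mem_sup_right (Subgroup.mem_zpowers x))
  have hMc : IsMulCommutative (N ⊔ Subgroup.zpowers x : Subgroup G) := by
    rw [← Subgroup.closure_eq N, Subgroup.zpowers_eq_closure, ← Subgroup.closure_union]
    refine Subgroup.isMulCommutative_closure ?_
    rintro a (ha | rfl) b (hb | rfl)
    · exact congr_arg Subtype.val (mul_comm' (⟨a, ha⟩ : N) ⟨b, hb⟩)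
    · exact hxC a ha
    · exact (hxC b hb).symm
    · rfl
  exact hxN (hmax _ hMn hMc le_sup_left ▸ Subgroup.mem_sup_right (Subgroup.mem_zpowers x))

end Cfsg.Agent.S0015
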