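import Cfsg.Statements.S0020
import Cfsg.Agent.Lib.Solvable.Hall
import Cfsg.Agent.S0003
import Cfsg.Agent.S0007

set_option autoImplicit false
open Pointwise
open Cfsg

namespace Cfsg.Agent.S0020

/-- A finite solvable group admits a Sylow system: Sylow subgroups, one for each prime, that pairwise permute as sets. -/
theorem result {G : Type*} [Group G] [Finite G] [Group.IsSolvable G] :
    ∃ S : (p : Nat.Primes) → Sylow (p : ℕ) G,
      ∀ p q : Nat.Primes, (S p : Set G) * (S q : Set G) = (S q : Set G) * (S p : Set G) := by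
  classical
  have hK : ∀ p : ℕ, ∃ K : Subgroup G, p.Prime → K.index = p ^ (Nat.card G).factorization p := by
    intro p
    by_cases hp : p.Prime
    swap
    · exact ⟨⊤, fun h => absurd h hp⟩
    obtain ⟨H, hH⟩ := Cfsg.Agent.S0003.result (G := G) (Nat.card G / p ^ (Nat.card G).factorization p)
      (p ^ (Nat.card G).factorization p) (Nat.div_mul_cancel (Nat.ordProj_dvd _ _)).symm
      ((Nat.coprime_ordCompl hp Nat.card_pos.ne').symm.pow_right _)
    refine ⟨H, fun _ => ?_⟩
    have h := Subgroup.card_mul_index H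
    rw [hH] at h
    exact Nat.eq_of_mul_eq_mul_left (hH ▸ Nat.card_pos)
      (h.trans (Nat.div_mul_cancel (Nat.ordProj_dvd _ _)).symm)
  choose K hKi using hK
  set P := (Nat.card G).primeFactors with hPdef
  have hI : ∀ s : Finset ℕ, s ⊆ P →
      (s.inf K).index = ∏ q ∈ s, q ^ (Nat.card G).factorization q := by
    intro s hs
    induction s using Finset.induction_on with
    | empty => simp
    | insert q t hqt ih =>
      obtain ⟨hq, hts⟩ := Finset.insert_subset_iff.mp hs
      have hqp := Nat.prime_of_mem_primeFactors hq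
      rw [Finset.inf_insert, Finset.prod_insert hqt, ← ih hts, ← hKi q hqp]
      refine (Cfsg.Agent.S0007.result (K q) (t.inf K) ?_).1
      rw [hKi q hqp, ih hts]
      refine Nat.Coprime.prod_right fun r hr => Nat.Coprime.pow _ _ ?_
      exact (Nat.coprime_primes hqp (Nat.prime_of_mem_primeFactors (hts hr))).mpr
        fun h => hqt (h ▸ hr)
  have hprod : ∏ q ∈ P, q ^ (Nat.card G).factorization q = Nat.card G :=
    (by rw [Finsupp.prod, Nat.support_factorization] :
      (Nat.card G).factorization.prod (fun q e => q ^ e) =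
        ∏ q ∈ (Nat.card G).primeFactors, q ^ (Nat.card G).factorization q).symm.trans
      (Nat.factorization_prod_pow_eq_self Nat.card_pos.ne')
  have hcardI : ∀ s t : Finset ℕ, Disjoint s t → s ∪ t = P →
      Nat.card (s.inf K : Subgroup G) = ∏ q ∈ t, q ^ (Nat.card G).factorization q := by
    intro s t hd hu
    refine Nat.eq_of_mul_eq_mul_right (Nat.pos_of_ne_zero
      (Subgroup.index_ne_zero_of_finite (H := s.inf K))) ?_
    rw [Subgroup.card_mul_index, hI s (hu ▸ Finset.subset_union_left), mul_comm,
      ← Finset.prod_union hd, hu, hprod]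
  have hone : ∀ q : Nat.Primes,
      ∏ r ∈ P ∩ {(q : ℕ)}, r ^ (Nat.card G).factorization r =
        (q : ℕ) ^ (Nat.card G).factorization q := by
    intro q
    by_cases hq : (q : ℕ) ∈ P
    · rw [Finset.inter_singleton_of_mem hq, Finset.prod_singleton]
    · rw [Finset.inter_singleton_of_notMem hq, Finset.prod_empty]
      rw [hPdef, ← Nat.support_factorization, Finsupp.notMem_support_iff] at hq
      rw [hq, pow_zero]
  have hS : ∀ q : Nat.Primes, Nat.card ((P \ {(q : ℕ)}).inf K : Subgroup G) =
      (q : ℕ) ^ (Nat.card G).factorization q := by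
    intro q
    rw [hcardI _ (P ∩ {(q : ℕ)}) (Finset.disjoint_sdiff_inter _ _) (Finset.sdiff_union_inter _ _), hone]
  have hfact : ∀ q : Nat.Primes, Fact (q : ℕ).Prime := fun q => ⟨q.2⟩
  refine ⟨fun q => Sylow.ofCard ((P \ {(q : ℕ)}).inf K) (hS q), fun p q => ?_⟩
  by_cases hpq : p = q
  · subst hpq; rfl
  have key : ∀ a b : Nat.Primes, a ≠ b →
      ((((P \ {(a : ℕ)}).inf K : Subgroup G) : Set G) * ((P \ {(b : ℕ)}).inf K : Subgroup G)) =
        (((P \ {(a : ℕ), (b : ℕ)}).inf K : Subgroup G) : Set G) := by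
    intro a b hab
    set A : Subgroup G := (P \ {(a : ℕ)}).inf K
    set B : Subgroup G := (P \ {(b : ℕ)}).inf K
    set T : Subgroup G := (P \ {(a : ℕ), (b : ℕ)}).inf K
    have hAT : A ≤ T := Finset.inf_mono (Finset.sdiff_subset_sdiff le_rfl (by simp))
    have hBT : B ≤ T := Finset.inf_mono (Finset.sdiff_subset_sdiff le_rfl (by simp))
    refine Set.eq_of_subset_of_ncard_le ?_ ?_ (Set.toFinite _)
    · rintro _ ⟨x, hx, y, hy, rfl⟩
      exact mul_mem (hAT hx) (hBT hy)
    have hab' : (a : ℕ) ≠ b := fun h => hab (Subtype.ext h)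
    have hcT : Nat.card T = Nat.card A * Nat.card B := by
      have := hcardI (P \ {(a : ℕ), (b : ℕ)}) (P ∩ {(a : ℕ), (b : ℕ)})
        (Finset.disjoint_sdiff_inter _ _) (Finset.sdiff_union_inter _ _)
      rw [this, hS, hS, ← hone a, ← hone b, ← Finset.prod_union]
      · congr 1
        ext x
        simp only [Finset.mem_inter, Finset.mem_insert, Finset.mem_singleton, Finset.mem_union]
        tauto
      · rw [Finset.disjoint_left]
        simp only [Finset.mem_inter, Finset.mem_singleton]
        rintro x ⟨-, rfl⟩ ⟨-, h⟩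
        exact hab' h
    have hdis : Disjoint A B := Subgroup.disjoint_of_coprime_natCard (by
      rw [hS, hS]
      exact Nat.Coprime.pow _ _ ((Nat.coprime_primes a.2 b.2).mpr hab'))
    rw [← Nat.card_coe_set_eq, ← Nat.card_coe_set_eq]
    refine (le_of_eq hcT).trans ?_
    rw [← Nat.card_prod]
    exact Nat.card_le_card_of_injective
      (fun t : A × B => (⟨(t.1 : G) * t.2, Set.mul_mem_mul t.1.2 t.2.2⟩ :
        ((A : Set G) * (B : Set G) : Set G)))
      fun s t h => Subgroup.mul_injective_of_disjoint hdis (congr_arg Subtype.val h)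
  simp only [Sylow.coe_ofCard, ← Sylow.coe_coe]
  rw [key p q hpq, key q p (Ne.symm hpq), Finset.pair_comm]

end Cfsg.Agent.S0020
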