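import Cfsg.Statements.S0021
import Cfsg.Agent.S0006
import Cfsg.Agent.Lib.Solvable.Basic

set_option autoImplicit false
open Pointwise
open Cfsg

namespace Cfsg.Agent.S0021

open scoped Pointwise in
theorem coe_sup_of_comm {G : Type*} [Group G] (H K : Subgroup G)
    (h : (H : Set G) * K = (K : Set G) * H) : ((H ⊔ K : Subgroup G) : Set G) = (H : Set G) * K := by
  refine le_antisymm ?_ ?_
  · rw [← Subgroup.closure_eq H, ← Subgroup.closure_eq K, ← Subgroup.closure_union]
    simp only [Subgroup.closure_eq]
    let S : Subgroup G :=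
      { carrier := (H : Set G) * K
        one_mem' := ⟨1, one_mem H, 1, one_mem K, mul_one 1⟩
        mul_mem' := by
          rintro _ _ ⟨a, ha, b, hb, rfl⟩ ⟨c, hc, d, hd, rfl⟩
          have : b * c ∈ (H : Set G) * K := by rw [h]; exact Set.mul_mem_mul hb hc
          obtain ⟨c', hc', b', hb', hbc⟩ := this
          refine ⟨a * c', mul_mem ha hc', b' * d, mul_mem hb' hd, ?_⟩
          calc a * c' * (b' * d) = a * (c' * b') * d := by simp [mul_assoc]
            _ = a * b * (c * d) := by rw [show c' * b' = b * c from hbc]; simp [mul_assoc]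
        inv_mem' := by
          rintro _ ⟨a, ha, b, hb, rfl⟩
          rw [h, mul_inv_rev]
          exact Set.mul_mem_mul (inv_mem hb) (inv_mem ha) }
    exact (Subgroup.closure_le S).mpr (Set.union_subset
      (fun a ha => ⟨a, ha, 1, one_mem K, mul_one a⟩) (fun b hb => ⟨1, one_mem H, b, hb, one_mul b⟩))
  · rintro _ ⟨a, ha, b, hb, rfl⟩
    exact mul_mem (Subgroup.mem_sup_left ha) (Subgroup.mem_sup_right hb)


/-- A finite group with a family of pairwise permuting Sylow subgroups, one for each prime, is solvable (this direction rests on Burnside's two-prime Theorem). -/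
theorem result {G : Type*} [Group G] [Finite G]
    (S : (p : Nat.Primes) → Sylow (p : ℕ) G)
    (hS : ∀ p q : Nat.Primes, (S p : Set G) * (S q : Set G) = (S q : Set G) * (S p : Set G)) :
    Group.IsSolvable G := by
  classical
  refine Cfsg.Agent.S0006.result fun p hp => ?_
  have key : ∀ s : Finset Nat.Primes, ∃ L : Subgroup G,
      Nat.card L = ∏ q ∈ s, (q : ℕ) ^ (Nat.card G).factorization q ∧
      ∀ r : Nat.Primes, (L : Set G) * (S r : Set G) = (S r : Set G) * (L : Set G) := by
    intro s
    induction s using Finset.induction_on with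
    | empty =>
      refine ⟨⊥, by simp, fun r => ?_⟩
      rw [Subgroup.coe_bot, Set.singleton_mul, Set.mul_singleton]
      simp
    | insert q t hqt ih =>
      obtain ⟨L, hL, hLc⟩ := ih
      have : Fact (q : ℕ).Prime := ⟨q.2⟩
      have hcoe := coe_sup_of_comm L (S q : Subgroup G) (hLc q)
      refine ⟨L ⊔ (S q : Subgroup G), ?_, fun r => ?_⟩
      · have hdis : Disjoint L (S q : Subgroup G) := Subgroup.disjoint_of_coprime_natCard (by
          rw [hL, (S q).card_eq_multiplicity]
          refine Nat.Coprime.prod_left fun r hr => Nat.Coprime.pow _ _ ?_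
          exact (Nat.coprime_primes r.2 q.2).mpr fun h => hqt (Subtype.ext h ▸ hr))
        rw [Finset.prod_insert hqt, ← hL, ← (S q).card_eq_multiplicity, mul_comm, ← Nat.card_prod]
        symm
        refine Nat.card_eq_of_bijective
          (fun t : L × (S q : Subgroup G) => (⟨(t.1 : G) * t.2,
            mul_mem (Subgroup.mem_sup_left t.1.2) (Subgroup.mem_sup_right t.2.2)⟩ :
              (L ⊔ (S q : Subgroup G) : Subgroup G))) ⟨fun a b h => ?_, fun x => ?_⟩
        · exact Subgroup.mul_injective_of_disjoint hdis (congr_arg Subtype.val h)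
        · have hx : (x : G) ∈ (L : Set G) * ((S q : Subgroup G) : Set G) := hcoe ▸ x.2
          obtain ⟨a, ha, b, hb, hab⟩ := hx
          exact ⟨(⟨a, ha⟩, ⟨b, hb⟩), Subtype.ext hab⟩
      · rw [hcoe, Sylow.coe_coe, mul_assoc, hS q r, ← mul_assoc, hLc r, mul_assoc]
  set s := ((Nat.card G).primeFactors.subtype Nat.Prime).filter (fun q : Nat.Primes => (q : ℕ) ≠ p)
    with hs
  obtain ⟨L, hL, -⟩ := key s
  refine ⟨L, Nat.eq_of_mul_eq_mul_left (Nat.card_pos (α := L)) ?_⟩
  rw [Subgroup.card_mul_index, hL]
  have hprod : ∏ q ∈ (Nat.card G).primeFactors, q ^ (Nat.card G).factorization q = Nat.card G :=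
    (by rw [Finsupp.prod, Nat.support_factorization] :
      (Nat.card G).factorization.prod (fun q e => q ^ e) =
        ∏ q ∈ (Nat.card G).primeFactors, q ^ (Nat.card G).factorization q).symm.trans
      (Nat.factorization_prod_pow_eq_self Nat.card_pos.ne')
  have himage : ∏ q ∈ s, (q : ℕ) ^ (Nat.card G).factorization q =
      ∏ q ∈ (Nat.card G).primeFactors.erase p, q ^ (Nat.card G).factorization q := by
    refine Finset.prod_nbij (fun q : Nat.Primes => (q : ℕ)) ?_ ?_ ?_ (fun q _ => rfl)
    · intro q hq
      have hq := Finset.mem_filter.mp hq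
      exact Finset.mem_erase.mpr ⟨hq.2, Finset.mem_subtype.mp hq.1⟩
    · exact fun a _ b _ h => Subtype.ext h
    · intro q hq
      have hq := Finset.mem_erase.mp hq
      exact ⟨⟨q, Nat.prime_of_mem_primeFactors hq.2⟩,
        Finset.mem_filter.mpr ⟨Finset.mem_subtype.mpr hq.2, hq.1⟩, rfl⟩
  rw [himage]
  by_cases hpP : p ∈ (Nat.card G).primeFactors
  · rw [Finset.prod_erase_mul _ _ hpP, hprod]
  · rw [Finset.erase_eq_of_notMem hpP, hprod]
    rw [← Nat.support_factorization, Finsupp.notMem_support_iff] at hpP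
    rw [hpP, pow_zero, mul_one]

end Cfsg.Agent.S0021
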