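import Cfsg.Statements.S0031
import Cfsg.Agent.Lib.Solvable.Basic

set_option autoImplicit false
open Cfsg
open scoped Pointwise

namespace Cfsg.Agent.S0031

/-- A fixed-point-free automorphism of a finite group maps some Sylow p-subgroup to itself. -/
theorem result {G : Type*} [Group G] [Finite G] (φ : G ≃* G)
    (hφ : MonoidHom.FixedPointFree (φ : G →* G)) (p : ℕ) [Fact p.Prime] :
    ∃ P : Sylow p G, (P : Subgroup G).map (φ : G →* G) = P := by
  obtain ⟨P⟩ : Nonempty (Sylow p G) := inferInstance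
  have hP' : ∃ Q : Sylow p G, (Q : Subgroup G) = (P : Subgroup G).map (φ : G →* G) :=
    ⟨P.mapSurjective (f := (φ : G →* G)) φ.surjective, rfl⟩
  obtain ⟨Q, hQ⟩ := hP'
  obtain ⟨g, hg⟩ := MulAction.exists_smul_eq G P Q
  obtain ⟨h, hh⟩ := hφ.commutatorMap_surjective g⁻¹
  -- `h⁻¹` moves `P` to an invariant Sylow subgroup
  refine ⟨h⁻¹ • P, ?_⟩
  have e : φ h⁻¹ * g = h⁻¹ := by
    rw [MonoidHom.commutatorMap_apply] at hh
    rw [← inv_inv g, ← hh]
    simp [div_eq_mul_inv]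
  change (MulAut.conj h⁻¹ • (P : Subgroup G)).map (φ : G →* G) = MulAut.conj h⁻¹ • (P : Subgroup G)
  rw [CfsgLib.Solvable.map_conj_smul, ← hQ, ← hg]
  change MulAut.conj (φ h⁻¹) • MulAut.conj g • (P : Subgroup G) = _
  rw [CfsgLib.Solvable.conj_smul_conj_smul, e]

end Cfsg.Agent.S0031
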