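import Cfsg.Statements.S0032

set_option autoImplicit false
open Cfsg

namespace Cfsg.Agent.S0032

/-- If an automorphism of a finite group fixes only the identity and maps a normal subgroup N into itself, then the only cosets of N it fixes are those in N: a fixed coset xN forces x ∈ N. -/
theorem result {G : Type*} [Group G] [Finite G] (φ : G ≃* G)
    (hφ : MonoidHom.FixedPointFree (φ : G →* G)) (N : Subgroup G) [N.Normal] (hN : ∀ n ∈ N, φ n ∈ N)
    (x : G) (hx : (φ x)⁻¹ * x ∈ N) : x ∈ N := by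
  have hsurj : Function.Surjective fun n : N => (⟨(φ n)⁻¹ * n, mul_mem (inv_mem (hN n n.2)) n.2⟩ : N) := by
    refine Finite.surjective_of_injective fun a b h => ?_
    have h' : (φ a)⁻¹ * (a : G) = (φ b)⁻¹ * (b : G) := congr_arg Subtype.val h
    refine Subtype.ext (mul_inv_eq_one.mp (hφ _ ?_))
    change φ ((a : G) * (b : G)⁻¹) = _
    rw [map_mul, map_inv, mul_inv_eq_iff_eq_mul, mul_assoc,
      show (b : G)⁻¹ * φ b = ((φ b)⁻¹ * (b : G))⁻¹ by simp, ← h']
    simp
  obtain ⟨n, hn⟩ := hsurj ⟨_, hx⟩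
  have h' : (φ n)⁻¹ * (n : G) = (φ x)⁻¹ * x := congr_arg Subtype.val hn
  have : (n : G) * x⁻¹ = 1 := hφ _ (by
    change φ ((n : G) * x⁻¹) = _
    rw [map_mul, map_inv, mul_inv_eq_iff_eq_mul, mul_assoc,
      show x⁻¹ * φ x = ((φ x)⁻¹ * x)⁻¹ by simp, ← h']
    simp)
  rw [← mul_inv_eq_one.mp this]
  exact n.2

end Cfsg.Agent.S0032
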