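import Cfsg.Statements.S0034
import Cfsg.Agent.Lib.Frobenius.Basic
import Cfsg.Agent.Lib.Solvable.Basic

set_option autoImplicit false
open Cfsg
open scoped Pointwise

namespace Cfsg.Agent.S0034

/-- For a Frobenius complement H, the set of elements lying in no conjugate of H, together with 1, has exactly as many elements as the index of H, and that index is congruent to 1 modulo the order of H. -/
theorem result {G : Type*} [Group G] [Finite G] (H : Subgroup G) (hH : Cfsg.IsFrobeniusComplement H) :
    Nat.card (Cfsg.frobeniusKernel H) = H.index ∧ H.index % Nat.card H = 1 % Nat.card H := by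
  refine ⟨CfsgLib.Frobenius.card_kernel hH, ?_⟩
  have hsemi : ∀ (x : G ⧸ H), x ≠ ((1 : G) : G ⧸ H) → ∀ h : H, (h : G) • x = x → h = 1 := by
    intro x hx h hh
    obtain ⟨g, rfl⟩ := QuotientGroup.mk_surjective x
    have hg : g ∉ H := fun hg => hx (QuotientGroup.eq.mpr (by simpa using hg))
    have h1 : g⁻¹ * (h : G) * g ∈ H := by
      have := inv_mem (QuotientGroup.eq.mp (hh : ((h : G) * g : G ⧸ H) = g))
      simpa [mul_assoc] using this
    have h2 : (h : G) ∈ H ⊓ MulAut.conj g • H :=
      Subgroup.mem_inf.mpr ⟨h.2, CfsgLib.Solvable.mem_conj_smul.mpr h1⟩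
    rw [hH.2.2 g hg] at h2
    exact Subtype.ext (Subgroup.mem_bot.mp h2)
  have hfix : ∀ h : H, (h : G) • ((1 : G) : G ⧸ H) = ((1 : G) : G ⧸ H) := fun h =>
    QuotientGroup.eq.mpr (by simp)
  classical
  have : Fintype (G ⧸ H) := Fintype.ofFinite _
  have hdvd : Nat.card H ∣ H.index - 1 := by
    have hc : Nat.card {x : G ⧸ H // x ≠ ((1 : G) : G ⧸ H)} = H.index - 1 := by
      rw [Nat.card_eq_fintype_card, Fintype.card_subtype_compl, Fintype.card_subtype_eq,
        ← Nat.card_eq_fintype_card, Subgroup.index_eq_card]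
    rw [← hc]
    let _ : MulAction H {x : G ⧸ H // x ≠ ((1 : G) : G ⧸ H)} :=
      { smul := fun h x => ⟨(h : G) • (x : G ⧸ H), fun e => x.2 (by
          exact MulAction.injective (h : G) (e.trans (hfix h).symm))⟩
        one_smul := fun x => Subtype.ext (one_smul G (x : G ⧸ H))
        mul_smul := fun h k x => Subtype.ext (mul_smul (h : G) (k : G) (x : G ⧸ H)) }
    have : Fintype (MulAction.orbitRel.Quotient H {x : G ⧸ H // x ≠ ((1 : G) : G ⧸ H)}) :=
      Fintype.ofFinite _
    rw [Nat.card_congr (MulAction.selfEquivSigmaOrbits H {x : G ⧸ H // x ≠ ((1 : G) : G ⧸ H)}),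
      Nat.card_sigma]
    refine Finset.dvd_sum fun w _ => ?_
    have hst : MulAction.stabilizer H w.out = ⊥ := by
      rw [eq_bot_iff]
      intro h hh
      exact Subgroup.mem_bot.mpr (hsemi _ w.out.2 h (congr_arg Subtype.val hh))
    rw [Nat.card_coe_set_eq, ← MulAction.index_stabilizer, hst, Subgroup.index_bot]
  have hpos : 1 ≤ H.index := Nat.one_le_iff_ne_zero.mpr Subgroup.index_ne_zero_of_finite
  exact ((Nat.modEq_iff_dvd' hpos).mpr hdvd).symm

end Cfsg.Agent.S0034
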