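import Cfsg.Statements.S0047
import Mathlib.GroupTheory.Solvable
import Mathlib.GroupTheory.Commutator.Basic
import Mathlib.Tactic.Group
import Mathlib.Algebra.Group.Commute.Hom

set_option autoImplicit false
set_option linter.style.haveILetI false
open Cfsg
open scoped commutatorElement

namespace Cfsg.Agent.S0047

/-- A finite group which is the product AB of two abelian subgroups A and B is solvable. -/
theorem result {G : Type*} [Group G] [Finite G] (A B : Subgroup G)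
    [IsMulCommutative A] [IsMulCommutative B] (hAB : ∀ g : G, ∃ a ∈ A, ∃ b ∈ B, g = a * b) :
    Group.IsSolvable G := by
  have hBA : ∀ g : G, ∃ b ∈ B, ∃ a ∈ A, g = b * a := by
    intro g
    obtain ⟨a, ha, b, hb, h⟩ := hAB g⁻¹
    exact ⟨b⁻¹, B.inv_mem hb, a⁻¹, A.inv_mem ha, by rw [← inv_inv g, h, mul_inv_rev]⟩
  have cA : ∀ {x y : G}, x ∈ A → y ∈ A → x * y = y * x := fun hx hy => setLike_mul_comm hx hy
  have cB : ∀ {x y : G}, x ∈ B → y ∈ B → x * y = y * x := fun hx hy => setLike_mul_comm hx hy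
  -- commutators of elements of `A` and `B`
  have L1 : ∀ a ∈ A, ∀ a' ∈ A, ∀ b' : G, ⁅a, b' * a'⁆ = ⁅a, b'⁆ := by
    intro a ha a' ha' b'
    simp only [commutatorElement_def, mul_inv_rev]
    calc a * (b' * a') * a⁻¹ * (a'⁻¹ * b'⁻¹) = a * b' * (a' * a⁻¹) * a'⁻¹ * b'⁻¹ := by group
      _ = a * b' * (a⁻¹ * a') * a'⁻¹ * b'⁻¹ := by rw [cA ha' (A.inv_mem ha)]
      _ = a * b' * a⁻¹ * b'⁻¹ := by group
  have L2 : ∀ b' ∈ B, ∀ b ∈ B, ∀ a : G, ⁅a * b', b⁆ = ⁅a, b⁆ := by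
    intro b' hb' b hb a
    simp only [commutatorElement_def, mul_inv_rev]
    calc a * b' * b * (b'⁻¹ * a⁻¹) * b⁻¹ = a * (b' * b) * b'⁻¹ * a⁻¹ * b⁻¹ := by group
      _ = a * (b * b') * b'⁻¹ * a⁻¹ * b⁻¹ := by rw [cB hb' hb]
      _ = a * b * a⁻¹ * b⁻¹ := by group
  have hswap : ∀ a ∈ A, ∀ b ∈ B, ∀ c ∈ A, ∀ d ∈ B,
      c * (d * ⁅a, b⁆ * d⁻¹) * c⁻¹ = d * (c * ⁅a, b⁆ * c⁻¹) * d⁻¹ := by
    intro a ha b hb c hc d hd
    obtain ⟨b', hb', a', ha', hcb⟩ := hBA (c * b * c⁻¹)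
    obtain ⟨a'', ha'', b'', hb'', hda⟩ := hAB (d * a * d⁻¹)
    have conj2 : ∀ g x y : G, g * ⁅x, y⁆ * g⁻¹ = ⁅g * x * g⁻¹, g * y * g⁻¹⁆ := fun g x y => by
      simp only [commutatorElement_def]; group
    have hd1 : ∀ y ∈ B, d * y * d⁻¹ = y := fun y hy => by
      rw [cB hd hy, mul_inv_cancel_right]
    have hc1 : ∀ x ∈ A, c * x * c⁻¹ = x := fun x hx => by
      rw [cA hc hx, mul_inv_cancel_right]
    rw [conj2 d, hd1 b hb, hda, L2 b'' hb'' b hb, conj2 c, hc1 a'' ha'', hcb, L1 a'' ha'' a' ha',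
      conj2 c, hc1 a ha, hcb, L1 a ha a' ha', conj2 d, hd1 b' hb', hda, L2 b'' hb'' b' hb']
  -- `⁅A, B⁆` is abelian
  have hgen : ∀ a ∈ A, ∀ b ∈ B, ∀ c ∈ A, ∀ d ∈ B, Commute ⁅a, b⁆ ⁅c, d⁆ := by
    intro a ha b hb c hc d hd
    have h := hswap a ha b hb c⁻¹ (A.inv_mem hc) d⁻¹ (B.inv_mem hd)
    show ⁅a, b⁆ * ⁅c, d⁆ = ⁅c, d⁆ * ⁅a, b⁆
    generalize hx : ⁅a, b⁆ = x at h ⊢
    simp only [commutatorElement_def]
    calc x * (c * d * c⁻¹ * d⁻¹) = (c * d) * (d⁻¹ * (c⁻¹ * x * c⁻¹⁻¹) * d⁻¹⁻¹) * (c⁻¹ * d⁻¹) := by group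
      _ = (c * d) * (c⁻¹ * (d⁻¹ * x * d⁻¹⁻¹) * c⁻¹⁻¹) * (c⁻¹ * d⁻¹) := by rw [h]
      _ = (c * d * c⁻¹ * d⁻¹) * x := by group
  have habel : ⁅A, B⁆ ≤ Subgroup.centralizer ((⁅A, B⁆ : Subgroup G) : Set G) := by
    rw [Subgroup.commutator_le]
    intro a ha b hb
    rw [Subgroup.mem_centralizer_iff]
    intro y hy
    have hle : ⁅A, B⁆ ≤ Subgroup.centralizer ({⁅a, b⁆} : Set G) := by
      rw [Subgroup.commutator_le]
      exact fun c hc d hd => Subgroup.mem_centralizer_singleton_iff.2 (hgen a ha b hb c hc d hd).eq.symm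
    exact Subgroup.mem_centralizer_singleton_iff.1 (hle hy)
  have hnorm : (⁅A, B⁆ : Subgroup G).Normal := by
    refine ⟨fun n hn g => ?_⟩
    obtain ⟨a, ha, b, hb, rfl⟩ := hAB g
    have hA : A ≤ Subgroup.normalizer ((⁅A, B⁆ : Subgroup G) : Set G) :=
      Subgroup.normalizer_commutator_ge_left ..
    have hB : B ≤ Subgroup.normalizer ((⁅A, B⁆ : Subgroup G) : Set G) :=
      Subgroup.normalizer_commutator_ge_right ..
    have := (Subgroup.mem_normalizer_iff.1 (mul_mem (hA ha) (hB hb)) n).1 hn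
    exact this
  haveI := hnorm
  have hder : commutator G ≤ ⁅A, B⁆ := by
    rw [commutator_def, Subgroup.commutator_le]
    intro x _ y _
    refine (QuotientGroup.eq_one_iff _).1 ?_
    obtain ⟨a, ha, b, hb, rfl⟩ := hAB x
    obtain ⟨c, hc, d, hd, rfl⟩ := hAB y
    rw [← QuotientGroup.mk'_apply, map_commutatorElement, commutatorElement_eq_one_iff_commute]
    simp only [map_mul]
    have hm : ∀ u ∈ A, ∀ v ∈ B, Commute (QuotientGroup.mk' ⁅A, B⁆ u) (QuotientGroup.mk' ⁅A, B⁆ v) := by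
      intro u hu v hv
      rw [← commutatorElement_eq_one_iff_commute, ← map_commutatorElement]
      exact (QuotientGroup.eq_one_iff _).2 (Subgroup.commutator_mem_commutator hu hv)
    have hAA : ∀ {u v : G}, u ∈ A → v ∈ A → Commute (QuotientGroup.mk' ⁅A, B⁆ u) (QuotientGroup.mk' ⁅A, B⁆ v) :=
      fun hu hv => Commute.map (show Commute _ _ from cA hu hv) _
    have hBB : ∀ {u v : G}, u ∈ B → v ∈ B → Commute (QuotientGroup.mk' ⁅A, B⁆ u) (QuotientGroup.mk' ⁅A, B⁆ v) :=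
      fun hu hv => Commute.map (show Commute _ _ from cB hu hv) _
    exact ((hAA ha hc).mul_right (hm a ha d hd)).mul_left ((hm c hc b hb).symm.mul_right (hBB hb hd))
  refine (Group.isSolvable_def G).2 ⟨2, ?_⟩
  rw [derivedSeries_succ, derivedSeries_one, Subgroup.commutator_eq_bot_iff_le_centralizer]
  exact le_trans (le_trans hder habel) (Subgroup.centralizer_le hder)

end Cfsg.Agent.S0047
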