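import Cfsg.Statements.S0050
import Cfsg.Agent.Lib.Solvable.Hall

set_option autoImplicit false
open Cfsg
open scoped Pointwise

namespace Cfsg.Agent.S0050

/-- Frattini argument for Hall subgroups: if L is a solvable normal subgroup and H a subgroup of L of order coprime to its index in L, then L together with the normaliser of H generates the whole group. -/
theorem result {G : Type*} [Group G] [Finite G] (L : Subgroup G) [L.Normal] (hL : Group.IsSolvable L)
    (H : Subgroup G) (hHL : H ≤ L) (hHall : (Nat.card H).Coprime (H.relIndex L)) :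
    L ⊔ Subgroup.normalizer (H : Set G) = ⊤ := by
  haveI := hL
  have e1 : Nat.card (H.subgroupOf L) = Nat.card H :=
    Nat.card_congr (Subgroup.subgroupOfEquivOfLe hHL).toEquiv
  have hG : Nat.card L = Nat.card H * H.relIndex L := by
    rw [← e1, Subgroup.relIndex, Subgroup.card_mul_index]
  rw [eq_top_iff]
  intro g _
  have hconjle : MulAut.conj g • H ≤ L := by
    rw [CfsgLib.Solvable.conj_smul_le_iff]
    intro a ha
    exact Subgroup.Normal.conj_mem ‹L.Normal› a (hHL ha) g
  have h1 := CfsgLib.Solvable.isPiHall_of_card hG hHall e1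
  have h2 := CfsgLib.Solvable.isPiHall_of_card hG hHall
    (H := (MulAut.conj g • H).subgroupOf L) (by
      rw [Nat.card_congr (Subgroup.subgroupOfEquivOfLe hconjle).toEquiv,
        CfsgLib.Solvable.card_conj_smul])
  obtain ⟨l, hl⟩ := CfsgLib.Solvable.isPiHall_conj h1 h2
  have h3 := congrArg (Subgroup.map L.subtype) hl
  rw [CfsgLib.Solvable.map_conj_smul, Subgroup.map_subgroupOf_eq_of_le hHL,
    Subgroup.map_subgroupOf_eq_of_le hconjle] at h3
  have hn : (l : G)⁻¹ * g ∈ Subgroup.normalizer (H : Set G) := by
    apply CfsgLib.Solvable.conj_smul_eq_self_iff.1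
    rw [← CfsgLib.Solvable.conj_smul_conj_smul, ← h3, CfsgLib.Solvable.conj_smul_conj_smul]
    simp
  have := Subgroup.mul_mem_sup l.2 hn
  rwa [mul_inv_cancel_left] at this

end Cfsg.Agent.S0050
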