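import Cfsg.Statements.S0054
import Cfsg.Agent.Lib.Solvable.Core
import Mathlib.GroupTheory.GroupAction.MultipleTransitivity

set_option autoImplicit false
set_option linter.style.haveILetI false
open Cfsg

namespace Cfsg.Agent.S0054

/-- A regular normal subgroup of a finite 2-transitive group is elementary abelian: it is commutative and all its elements have order dividing one prime. -/
theorem result {G : Type*} [Group G] [Finite G]
    {X : Type*} [Nonempty X] [MulAction G X] (h2 : MulAction.IsMultiplyPretransitive G X 2)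
    (N : Subgroup G) [N.Normal] (htrans : MulAction.IsPretransitive N X) (hreg : ∀ x : X, MulAction.stabilizer N x = ⊥) :
    IsMulCommutative N ∧ ∃ p : ℕ, p.Prime ∧ ∀ n ∈ N, n ^ p = 1 := by
  rw [MulAction.is_two_pretransitive_iff] at h2
  obtain ⟨x⟩ := (inferInstance : Nonempty X)
  have hfree : ∀ n ∈ N, n • x = x → n = 1 := by
    intro n hn h
    have h' : (⟨n, hn⟩ : N) ∈ MulAction.stabilizer N x := h
    rw [hreg x, Subgroup.mem_bot] at h'
    exact congrArg Subtype.val h'
  have hconj : ∀ n ∈ N, n ≠ 1 → ∀ n' ∈ N, n' ≠ 1 → ∃ g : G, g * n * g⁻¹ = n' := by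
    intro n hn hn1 n' hn' hn'1
    obtain ⟨g, hg, hgn⟩ := h2 (a := x) (b := n • x) (c := x) (d := n' • x)
      (fun e => hn1 (hfree n hn e.symm)) (fun e => hn'1 (hfree n' hn' e.symm))
    refine ⟨g, ?_⟩
    have hm : g * n * g⁻¹ ∈ N := Subgroup.Normal.conj_mem ‹N.Normal› n hn g
    have he : (g * n * g⁻¹) • x = n' • x := by
      have hgi : g⁻¹ • x = x := inv_smul_eq_iff.2 hg.symm
      rw [mul_smul, mul_smul, hgi, hgn]
    have := hfree _ (N.mul_mem (N.inv_mem hn') hm) (by rw [mul_smul, he, inv_smul_smul])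
    exact (inv_mul_eq_one.1 this).symm
  by_cases hN : N = ⊥
  · subst hN
    exact ⟨inferInstance, 2, Nat.prime_two, fun n hn => by
      rw [Subgroup.mem_bot.1 hn, one_pow]⟩
  obtain ⟨q, hq, hqd⟩ := Nat.exists_prime_and_dvd (n := Nat.card N)
    (fun h => hN (Subgroup.card_eq_one.1 h))
  haveI : Fact q.Prime := ⟨hq⟩
  obtain ⟨y, hy⟩ := exists_prime_orderOf_dvd_card' (G := N) q hqd
  rw [← Subgroup.orderOf_coe] at hy
  have hy1 : (y : G) ≠ 1 := fun h => by rw [h, orderOf_one] at hy; exact hq.one_lt.ne hy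
  have hexp : ∀ n ∈ N, n ^ q = 1 := by
    intro n hn
    by_cases hn1 : n = 1
    · rw [hn1, one_pow]
    obtain ⟨g, rfl⟩ := hconj y y.2 hy1 n hn hn1
    rw [conj_pow, ← hy, pow_orderOf_eq_one, mul_one, mul_inv_cancel]
  refine ⟨?_, q, hq, hexp⟩
  have hp : IsPGroup q N := fun n => ⟨1, Subtype.ext (by
    rw [Subgroup.coe_pow, pow_one, hexp n n.2, Subgroup.coe_one])⟩
  haveI : Nontrivial N := (Subgroup.nontrivial_iff_ne_bot N).2 hN
  haveI := hp.center_nontrivial
  obtain ⟨z, hz⟩ := exists_ne (1 : Subgroup.center N)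
  haveI : ((Subgroup.center N).map N.subtype).Normal :=
    CfsgLib.Solvable.normal_map_subtype_of_characteristic N _
  have hz1 : ((z : N) : G) ≠ 1 := fun h => hz (Subtype.ext (Subtype.ext h))
  refine ⟨⟨fun a b => ?_⟩⟩
  by_cases hb : (b : G) = 1
  · rw [show b = 1 from Subtype.ext hb, mul_one, one_mul]
  obtain ⟨g, hg⟩ := hconj _ (z : N).2 hz1 b b.2 hb
  have hbm : (b : G) ∈ (Subgroup.center N).map N.subtype := by
    rw [← hg]
    exact Subgroup.Normal.conj_mem inferInstance _ (Subgroup.mem_map.2 ⟨(z : N), z.2, rfl⟩) g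
  obtain ⟨c, hc, hcb⟩ := Subgroup.mem_map.1 hbm
  rw [show b = c from (Subtype.ext hcb).symm]
  exact Subgroup.mem_center_iff.1 hc a

end Cfsg.Agent.S0054
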