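import Cfsg.Statements.S0059
import Cfsg.Agent.Lib.Solvable.CoprimeAction

set_option autoImplicit false
set_option linter.style.haveILetI false
open Cfsg

namespace Cfsg.Agent.S0059

/-- Let a finite group act on a set on which a normal subgroup K of coprime order and index is transitive, with K or the quotient solvable. Then any complement H of K has a fixed point, and any two H-fixed points are interchanged by an element of K centralising H. -/
theorem result {G : Type*} [Group G] [Finite G] {X : Type*} [Nonempty X] [MulAction G X]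
    (K H : Subgroup G) [K.Normal] (hc : Subgroup.IsComplement' K H) (hcop : (Nat.card K).Coprime K.index)
    (hsolv : Group.IsSolvable K ∨ Group.IsSolvable (G ⧸ K)) (htrans : MulAction.IsPretransitive K X) :
    (∃ x : X, ∀ h ∈ H, h • x = x) ∧
    ∀ x y : X, (∀ h ∈ H, h • x = x) → (∀ h ∈ H, h • y = y) → ∃ k ∈ K ⊓ Subgroup.centralizer (H : Set G), k • x = y := by
  have hHK : H ≤ Subgroup.normalizer (K : Set G) := by
    rw [Subgroup.normalizer_eq_top]; exact le_top
  have hidx : K.index = Nat.card H := hc.symm.index_eq_card
  have hcop' : (Nat.card H).Coprime (Nat.card K) := by rw [← hidx]; exact hcop.symm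
  have hsol : Group.IsSolvable H ∨ Group.IsSolvable K := by
    refine hsolv.symm.imp_left fun h => ?_
    haveI := h
    refine Group.isSolvable_of_isSolvable_injective (f := (QuotientGroup.mk' K).comp H.subtype) ?_
    rw [← MonoidHom.ker_eq_bot_iff, eq_bot_iff]
    intro x hx
    rw [MonoidHom.mem_ker] at hx
    exact Subtype.ext (Subgroup.disjoint_def.1 hc.disjoint ((QuotientGroup.eq_one_iff _).1 hx) x.2)
  refine ⟨?_, fun x y hx hy => ?_⟩
  · obtain ⟨w, -, hw⟩ := CfsgLib.Solvable.exists_fixed_point_of_transitive hHK hcop' hsol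
      (S := (Set.univ : Set X)) Set.univ_nonempty (fun _ _ _ _ => trivial) (fun _ _ _ _ => trivial)
      (fun v _ w _ => by obtain ⟨k, hk⟩ := htrans.exists_smul_eq v w; exact ⟨k, k.2, hk⟩)
    exact ⟨w, hw⟩
  · obtain ⟨k, hk⟩ := htrans.exists_smul_eq x y
    exact CfsgLib.Solvable.exists_centralizer_smul_eq_of_fixed hHK hcop' hsol hx hy k.2 hk

end Cfsg.Agent.S0059
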