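import Cfsg.Statements.S0063
import Mathlib.GroupTheory.Nilpotent
import Mathlib.GroupTheory.PGroup
import Mathlib.GroupTheory.Sylow
import Mathlib.GroupTheory.SpecificGroups.Cyclic

set_option autoImplicit false
set_option linter.style.haveILetI false
open Cfsg

namespace Cfsg.Agent.S0063

/-- A finite group of prime-power order p ^ m with m > 1 is nilpotent of class at most m - 1. -/
theorem result {G : Type*} [Group G] [Finite G] (p m : ℕ) [Fact p.Prime]
    (hG : Nat.card G = p ^ m) (hm : 1 < m) : Group.nilpotencyClass G ≤ m - 1 := by
  have key : ∀ (m : ℕ) (G : Type _) [Group G] [Finite G],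
      Nat.card G = p ^ m → Group.nilpotencyClass G ≤ max 1 (m - 1) := by
    intro m
    induction m using Nat.strong_induction_on with
    | _ m ih =>
      intro G _ _ hG
      haveI : Group.IsNilpotent G := (IsPGroup.of_card hG).isNilpotent
      rcases subsingleton_or_nontrivial G with hs | hs
      · exact le_trans (le_of_eq (Group.nilpotencyClass_zero_iff_subsingleton.2 hs)) (Nat.zero_le _)
      rw [Group.nilpotencyClass_eq_quotient_center_plus_one]
      obtain ⟨j, hj⟩ := IsPGroup.iff_card.1 ((IsPGroup.of_card hG).to_quotient (Subgroup.center G))
      have hjm : j < m := by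
        have h1 := (Subgroup.center G).card_eq_card_quotient_mul_card_subgroup
        haveI := (IsPGroup.of_card hG).center_nontrivial
        have h2 : 1 < Nat.card (Subgroup.center G) := Finite.one_lt_card
        have h3 : p ^ j < p ^ m := by
          rw [← hG, h1, hj]
          exact lt_mul_of_one_lt_right (pow_pos (Fact.out : p.Prime).pos j) h2
        exact (Nat.pow_lt_pow_iff_right (Fact.out : p.Prime).one_lt).1 h3
      by_cases hj1 : j ≤ 1
      · haveI : IsCyclic (G ⧸ Subgroup.center G) := by
          interval_cases j
          · haveI : Subsingleton (G ⧸ Subgroup.center G) :=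
              (Nat.card_eq_one_iff_unique.1 (by rw [hj, pow_zero])).1
            infer_instance
          · exact isCyclic_of_prime_card (p := p) (by rw [hj, pow_one])
        have hcomm := commutative_of_cyclic_center_quotient (QuotientGroup.mk' (Subgroup.center G))
          (by rw [QuotientGroup.ker_mk'])
        have hsub : Subsingleton (G ⧸ Subgroup.center G) := by
          refine ⟨fun a b => ?_⟩
          obtain ⟨x, rfl⟩ := QuotientGroup.mk_surjective a
          obtain ⟨y, rfl⟩ := QuotientGroup.mk_surjective b
          exact QuotientGroup.eq.2 (Subgroup.mem_center_iff.2 fun g => hcomm g _)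
        rw [Group.nilpotencyClass_zero_iff_subsingleton.2 hsub]
        exact le_max_left _ _
      · have h := ih j hjm _ hj
        omega
  have := key m G hG
  omega

end Cfsg.Agent.S0063
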