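import Cfsg.Statements.S0064
import Mathlib.GroupTheory.Nilpotent
import Mathlib.GroupTheory.IsSubnormal
import Mathlib.GroupTheory.Index

set_option autoImplicit false
set_option linter.style.haveILetI false
open Cfsg

namespace Cfsg.Agent.S0064

/-- A finite group is nilpotent exactly when each of its subgroups is subnormal. -/
theorem result {G : Type*} [Group G] [Finite G] :
    Group.IsNilpotent G ↔ ∀ H : Subgroup G, H.IsSubnormal := by
  constructor
  · intro hG H
    induction H using WellFoundedGT.induction with
    | _ H ih =>
      by_cases hH : H = ⊤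
      · subst hH; exact Subgroup.IsSubnormal.top
      · have hlt := normalizerCondition_of_isNilpotent (G := G) H (lt_top_iff_ne_top.2 hH)
        exact Subgroup.IsSubnormal.step H _ hlt.le (ih _ hlt) Subgroup.normal_in_normalizer
  · intro h
    have q := (Group.isNilpotent_of_finite_tfae (G := G)).out 0 1
    rw [q]
    intro H hH
    rcases Subgroup.IsSubnormal.iff_eq_top_or_exists.1 (h H) with h' | ⟨K, hHK, -, hn⟩
    · exact absurd h' hH.ne
    · exact lt_of_lt_of_le hHK ((Subgroup.normal_subgroupOf_iff_le_normalizer hHK.le).1 hn)

end Cfsg.Agent.S0064
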