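import Cfsg.Statements.S0065
import Mathlib.GroupTheory.Nilpotent

set_option autoImplicit false
set_option linter.style.haveILetI false
open Cfsg
open scoped commutatorElement

namespace Cfsg.Agent.S0065

/-- A nontrivial normal subgroup of a nilpotent group intersects the centre nontrivially. -/
theorem result {G : Type*} [Group G] [Finite G] [Group.IsNilpotent G]
    (N : Subgroup G) [N.Normal] (hN : N ≠ ⊥) : N ⊓ Subgroup.center G ≠ ⊥ := by
  obtain ⟨n, hn⟩ := Group.IsNilpotent.nilpotent G
  classical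
  have h : ∃ k, N ⊓ Subgroup.upperCentralSeries G k ≠ ⊥ := ⟨n, by rwa [hn, inf_top_eq]⟩
  have hk := Nat.find_spec h
  obtain ⟨k, hk'⟩ : ∃ k, Nat.find h = k + 1 := by
    refine ⟨Nat.find h - 1, (Nat.succ_pred_eq_of_ne_zero ?_).symm⟩
    intro h0
    rw [h0, Subgroup.upperCentralSeries_zero, inf_bot_eq] at hk
    exact hk rfl
  have hprev : N ⊓ Subgroup.upperCentralSeries G k = ⊥ :=
    not_not.1 (Nat.find_min h (show k < Nat.find h by omega))
  intro hbot
  apply hk
  rw [hk', eq_bot_iff]
  rintro x ⟨hxN, hxZ⟩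
  have hc : x ∈ N ⊓ Subgroup.center G := by
    refine ⟨hxN, Subgroup.mem_center_iff.2 fun y => ?_⟩
    have h1 : x * y * x⁻¹ * y⁻¹ ∈ N ⊓ Subgroup.upperCentralSeries G k := by
      refine ⟨?_, ?_⟩
      · have h2 := N.mul_mem hxN (Subgroup.Normal.conj_mem ‹N.Normal› _ (N.inv_mem hxN) y)
        simpa [mul_assoc] using h2
      · have h2 := Subgroup.mem_upperCentralSeries_succ_iff.1 hxZ y
        simpa [commutatorElement_def] using h2
    rw [hprev, Subgroup.mem_bot] at h1
    rw [← commutatorElement_def, commutatorElement_eq_one_iff_mul_comm] at h1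
    exact h1.symm
  rwa [hbot] at hc

end Cfsg.Agent.S0065
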