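import Cfsg.Statements.S0073
import Cfsg.Agent.Lib.Transfer.SmallSylow
import Mathlib.Tactic.IntervalCases
import Mathlib.Tactic.NormNum

set_option autoImplicit false
open Cfsg

namespace Cfsg.Agent.S0073

/-- For a finite non-abelian simple group, either the cube of the least prime divisor of the order divides the order, or 12 does. -/
theorem result {G : Type*} [Group G] [Finite G] [IsSimpleGroup G] (hG : ∃ x y : G, x * y ≠ y * x) : (Nat.card G).minFac ^ 3 ∣ Nat.card G ∨ 12 ∣ Nat.card G := by
  let p := (Nat.card G).minFac
  by_contra hne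
  rw [not_or] at hne
  have hcard : Nat.card G ≠ 1 := by
    intro h
    have := (Nat.card_eq_one_iff_unique.mp h).1
    obtain ⟨x, y, hxy⟩ := hG
    exact hxy (Subsingleton.elim _ _)
  have hp : Fact p.Prime := ⟨Nat.minFac_prime hcard⟩
  obtain ⟨P⟩ : Nonempty (Sylow p G) := inferInstance
  obtain ⟨n, hn⟩ := P.2.exists_card_eq
  have hn1 : 1 ≤ n := by
    by_contra h0
    have := P.dvd_card_of_dvd_card (Nat.minFac_dvd _)
    rw [hn, show n = 0 by omega, pow_zero, Nat.dvd_one] at this
    exact hp.out.ne_one this
  have hn2 : n ≤ 2 := by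
    by_contra h
    refine hne.1 ((pow_dvd_pow p (show 3 ≤ n by omega)).trans ?_)
    rw [← hn]
    exact Subgroup.card_subgroup_dvd_card _
  refine CfsgLib.Transfer.simple_not_hasNormalPComplement (Nat.minFac_dvd _) hG
    (CfsgLib.Transfer.hasNormalPComplement_of_small_sylow P hn ?_ ?_)
  · interval_cases n
    · exact Subgroup.le_centralizer_iff_isMulCommutative.mp (CfsgLib.Transfer.le_centralizer_of_prime_card hn)
    · exact IsPGroup.isMulCommutative_of_card_eq_prime_sq hn
  · intro q hq hqG hqp j hj1 hj2 hdvd
    have hqmin : p < q := lt_of_le_of_ne (Nat.minFac_le_of_dvd hq.two_le hqG) (Ne.symm hqp)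
    exact CfsgLib.Transfer.no_prime_dvd_small hp.out hq hqmin hj1 (hj2.trans hn2) hdvd fun h2 h3 => by
      subst h3
      refine hne.2 ?_
      have h4 : 4 ∣ Nat.card G := by
        have : n = 2 := by
          by_contra hn'
          have : j = 1 := by omega
          subst this
          have h2' : (Nat.card G).minFac = 2 := h2
          rw [h2'] at hdvd
          norm_num at hdvd
        have h5 := Subgroup.card_subgroup_dvd_card (P : Subgroup G)
        rw [hn, h2, this] at h5
        exact h5
      exact Nat.Coprime.mul_dvd_of_dvd_of_dvd (by norm_num : Nat.Coprime 4 3) h4 hqG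

end Cfsg.Agent.S0073
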