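import Cfsg.Statements.S0075
import Cfsg.Agent.Lib.Transfer.Tate

set_option autoImplicit false
open Cfsg

namespace Cfsg.Agent.S0075

/-- For an abelian Sylow p-subgroup T, its intersection with the subgroup generated by the elements of order prime to p is the commutator of T with its normalizer. -/
theorem result {G : Type*} [Group G] [Finite G] {p : ℕ} [Fact p.Prime] (T : Sylow p G) (hT : IsMulCommutative T) : (T : Subgroup G) ⊓ Cfsg.pResidual p G = ⁅(T : Subgroup G), Subgroup.normalizer (T : Set G)⁆ := by
  refine le_antisymm ?_ (le_inf ?_ ?_)
  · refine (CfsgLib.Transfer.sylow_inf_pResidual_le_focal T).trans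
      (CfsgLib.Transfer.focalSubgroup_le_of_controls fun x hx g hy => ?_)
    exact CfsgLib.Transfer.burnside_fusion_central T (T.1.le_centralizer hx) (T.1.le_centralizer hy)
      rfl
  · exact Subgroup.le_normalizer_iff_commutator_le_left.mp le_rfl
  · rw [Subgroup.commutator_le]
    intro t ht n hn
    refine CfsgLib.Transfer.commutator_le_pResidual T hT ?_
    exact Subgroup.commutator_mem_commutator (Subgroup.mem_top t) (Subgroup.mem_top n)

end Cfsg.Agent.S0075
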