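import Cfsg.Statements.S0078
import Cfsg.Agent.Lib.Transfer.Gruen

set_option autoImplicit false
open Cfsg

namespace Cfsg.Agent.S0078

/-- In a p-normal group, a Sylow p-subgroup P meets O^p(G) exactly where it meets O^p(V), for any subgroup V containing the normalizer of the centre of P. -/
theorem result {G : Type*} [Group G] [Finite G] {p : ℕ} [Fact p.Prime] (P : Sylow p G) (hn : ∀ Q : Sylow p G, (P : Subgroup G) ⊓ Subgroup.centralizer (P : Set G) ≤ (Q : Subgroup G) → (Q : Subgroup G) ⊓ Subgroup.centralizer (Q : Set G) = (P : Subgroup G) ⊓ Subgroup.centralizer (P : Set G)) (V : Subgroup G) (hV : Subgroup.normalizer (((P : Subgroup G) ⊓ Subgroup.centralizer (P : Set G) : Subgroup G) : Set G) ≤ V) : (P : Subgroup G) ⊓ Cfsg.pResidual p G = (P : Subgroup G) ⊓ (Cfsg.pResidual p V).map V.subtype := by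
  have hW : Cfsg.IsWeaklyClosed ((P : Subgroup G) ⊓ Subgroup.centralizer (P : Set G)) P :=
    ⟨inf_le_left, CfsgLib.Transfer.weaklyClosed_of_pNormal P hn⟩
  have hPV : (P : Subgroup G) ≤ V := (Subgroup.le_normalizer.trans
    (CfsgLib.Transfer.le_normalizer_of_isWeaklyClosed hW)).trans hV
  refine CfsgLib.Transfer.sylow_inf_pResidual_eq_of_commutator P V hPV ?_
  rw [Subgroup.commutator_inf_eq_focalSubgroup P]
  exact (CfsgLib.Transfer.focal_le_commutator_normalizer P inf_le_right hW).trans
    (Subgroup.commutator_mono hV hV)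

end Cfsg.Agent.S0078
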