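import Cfsg.Statements.S0080
import Cfsg.Agent.Lib.Transfer.Tate

set_option autoImplicit false
open Cfsg

namespace Cfsg.Agent.S0080

/-- When the index of H is prime to the order of H/H', the focal subgroup of H is G' ∩ H, and H/(G' ∩ H) has a normal complement. -/
theorem result {G : Type*} [Group G] [Finite G] (H : Subgroup G) (h : Nat.Coprime H.index (⁅H, H⁆.relIndex H)) : Subgroup.focalSubgroup H = commutator G ⊓ H ∧ ∃ N : Subgroup G, N.Normal ∧ N ⊓ H = commutator G ⊓ H ∧ N ⊔ H = ⊤ := by
  have hc := CfsgLib.Transfer.coprime_card_quotient_focal h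
  refine ⟨(CfsgLib.Transfer.commutator_inf_eq_focal_of_coprime hc).symm,
    H.transferFocal.ker, inferInstance, ?_, ?_⟩
  · rw [CfsgLib.Transfer.ker_transferFocal_inf_of_coprime hc,
      CfsgLib.Transfer.commutator_inf_eq_focal_of_coprime hc]
  · refine eq_top_iff.mpr fun g _ => ?_
    obtain ⟨y, hy⟩ := (powCoprime hc.symm).surjective (H.transferFocal g)
    obtain ⟨z, rfl⟩ := QuotientGroup.mk'_surjective _ y
    have e : g = (g * (z : G)⁻¹) * z := by simp
    rw [e]
    refine mul_mem (Subgroup.mem_sup_left ?_) (Subgroup.mem_sup_right z.2)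
    rw [MonoidHom.mem_ker, map_mul, map_inv, H.transferFocal_eq_pow, mul_inv_eq_one]
    exact hy.symm

end Cfsg.Agent.S0080
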