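import Cfsg.Statements.S0083
import Cfsg.Agent.Lib.Transfer.Tate

set_option autoImplicit false
open Cfsg

namespace Cfsg.Agent.S0083

/-- For an abelian Sylow p-subgroup P, a normal p-complement exists exactly when the normalizer of P is an internal direct product of P with some subgroup. -/
theorem result {G : Type*} [Group G] [Finite G] {p : ℕ} [Fact p.Prime] (P : Sylow p G) (hP : IsMulCommutative P) : Cfsg.HasNormalPComplement p G ↔ ∃ Q : Subgroup G, Q ≤ Subgroup.centralizer (P : Set G) ∧ Q ⊓ (P : Subgroup G) = ⊥ ∧ Q ⊔ (P : Subgroup G) = Subgroup.normalizer (P : Set G) := by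
  constructor
  · intro h
    let K := Cfsg.pResidual p G
    let N := Subgroup.normalizer (P : Set G)
    refine ⟨K ⊓ N, ?_, ?_, ?_⟩
    · intro q hq
      rw [Subgroup.mem_centralizer_iff]
      intro x hx
      exact Subgroup.mem_centralizer_iff.mp
        (CfsgLib.Transfer.HasNormalPComplement.mem_centralizer h P.2 hq.2
          ((CfsgLib.Transfer.mem_pResidual_iff_of_hasNormalPComplement h q).mp hq.1)) x hx
    · refine le_bot_iff.mp ((inf_le_inf_right _ inf_le_left).trans ?_)
      exact (CfsgLib.Transfer.HasNormalPComplement.isComplement' h P).disjoint.le_bot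
    · refine le_antisymm (sup_le inf_le_right Subgroup.le_normalizer) fun n hn => ?_
      obtain ⟨k, hk, x, hx, rfl⟩ := Subgroup.mem_sup_of_normal_left.mp
        (show n ∈ K ⊔ (P : Subgroup G) by simp [K, CfsgLib.Transfer.pResidual_sup_of_sylow])
      refine mul_mem (Subgroup.mem_sup_left ⟨hk, ?_⟩) (Subgroup.mem_sup_right hx)
      exact (Subgroup.mul_mem_cancel_right _ (Subgroup.le_normalizer hx)).mp hn
  · rintro ⟨Q, hQc, -, hQs⟩
    have hN : Subgroup.normalizer (P : Set G) ≤ Subgroup.centralizer (P : Set G) := by
      rw [← hQs]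
      exact sup_le hQc P.1.le_centralizer
    exact ⟨P, _, inferInstance, MonoidHom.ker_transferSylow_isComplement' P hN⟩

end Cfsg.Agent.S0083
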