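import Cfsg.Statements.S0085
import Cfsg.Agent.Lib.Transfer.SmallSylow
import Mathlib.Tactic.IntervalCases
import Mathlib.Tactic.NormNum

set_option autoImplicit false
open Cfsg

namespace Cfsg.Agent.S0085

/-- A group whose Sylow 2-subgroups are elementary abelian of order 8 and whose order is prime to 3 and to 7 has a normal 2-complement. -/
theorem result {G : Type*} [Group G] [Finite G] (T : Sylow 2 G) (h8 : Nat.card T = 8) (he : ∀ x : T, x * x = 1) (h3 : ¬ 3 ∣ Nat.card G) (h7 : ¬ 7 ∣ Nat.card G) : Cfsg.HasNormalPComplement 2 G := by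
  refine CfsgLib.Transfer.hasNormalPComplement_of_small_sylow T (n := 3) h8 ⟨⟨fun a b => ?_⟩⟩ ?_
  · have hab := he (a * b)
    have ha : a⁻¹ = a := inv_eq_of_mul_eq_one_right (he a)
    have hb : b⁻¹ = b := inv_eq_of_mul_eq_one_right (he b)
    rw [← inv_eq_of_mul_eq_one_right hab, mul_inv_rev, ha, hb]
  · intro q hq hqG _ j hj1 hj2 hdvd
    interval_cases j
    · exact hq.ne_one (Nat.dvd_one.mp hdvd)
    · exact h3 ((Nat.prime_dvd_prime_iff_eq hq Nat.prime_three).mp hdvd ▸ hqG)
    · have h := (Nat.prime_dvd_prime_iff_eq hq (by decide : Nat.Prime (2 ^ 3 - 1))).mp hdvd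
      rw [h] at hqG
      exact h7 hqG

end Cfsg.Agent.S0085
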