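import Cfsg.Statements.S0088
import Cfsg.Agent.Lib.Transfer.Tate

set_option autoImplicit false
open Cfsg

namespace Cfsg.Agent.S0088

/-- An abelian Hall subgroup meets G' ∩ Z(G) trivially. -/
theorem result {G : Type*} [Group G] [Finite G] (H : Subgroup G) (hc : IsMulCommutative H) (hHall : Nat.Coprime (Nat.card H) H.index) : H ⊓ commutator G ⊓ Subgroup.center G = ⊥ := by
  refine le_bot_iff.mp (le_trans (le_of_eq ?_) ((CfsgLib.Transfer.center_inf_commutator_inf_le
    (CfsgLib.Transfer.coprime_index_relIndex_of_coprime_card hHall)).trans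
      (le_of_eq (Subgroup.commutator_self_eq_bot_iff.mpr hc))))
  rw [inf_comm (H ⊓ commutator G), inf_comm H, ← inf_assoc]

end Cfsg.Agent.S0088
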