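import Cfsg.Statements.S0089
import Cfsg.Agent.Lib.Transfer.Tate

set_option autoImplicit false
open Cfsg

namespace Cfsg.Agent.S0089

/-- When all Sylow subgroups are abelian, the derived subgroup meets the centre trivially. -/
theorem result {G : Type*} [Group G] [Finite G] (h : ∀ p : ℕ, p.Prime → ∀ P : Sylow p G, IsMulCommutative P) : commutator G ⊓ Subgroup.center G = ⊥ := by
  rw [← Subgroup.card_eq_one]
  by_contra hne
  obtain ⟨p, hp, hpd⟩ := Nat.exists_prime_and_dvd hne
  have := Fact.mk hp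
  obtain ⟨x, hx⟩ := exists_prime_orderOf_dvd_card' p hpd
  obtain ⟨P, hP⟩ := (IsPGroup.of_card (p := p) (n := 1)
    (show Nat.card (Subgroup.zpowers (x : G)) = p ^ 1 by
      rw [Nat.card_zpowers, Subgroup.orderOf_coe, hx, pow_one])).exists_le_sylow
  have := h p hp P
  have h1 : (x : G) ∈ (P : Subgroup G) := hP (Subgroup.mem_zpowers _)
  have h2 := CfsgLib.Transfer.center_inf_commutator_inf_le
    (CfsgLib.Transfer.coprime_card_index_sylow P) ⟨⟨x.2.2, x.2.1⟩, h1⟩
  rw [Subgroup.commutator_self_eq_bot_iff.mpr this, Subgroup.mem_bot, OneMemClass.coe_eq_one] at h2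
  rw [h2, orderOf_one] at hx
  exact hp.ne_one hx.symm

end Cfsg.Agent.S0089
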