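import Cfsg.Statements.S0090
import Cfsg.Agent.Lib.Transfer.Tate

set_option autoImplicit false
open Cfsg

namespace Cfsg.Agent.S0090

/-- An abelian normal Hall subgroup A splits as the internal direct product of G' ∩ A and Z(G) ∩ A, and [A, G] = G' ∩ A. -/
theorem result {G : Type*} [Group G] [Finite G] (A : Subgroup G) [A.Normal] (hc : IsMulCommutative A) (hHall : Nat.Coprime (Nat.card A) A.index) : ⁅A, (⊤ : Subgroup G)⁆ = commutator G ⊓ A ∧ (commutator G ⊓ A) ⊓ (Subgroup.center G ⊓ A) = ⊥ ∧ (commutator G ⊓ A) ⊔ (Subgroup.center G ⊓ A) = A := by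
  have hco := CfsgLib.Transfer.coprime_index_relIndex_of_coprime_card hHall
  have hle : ⁅A, (⊤ : Subgroup G)⁆ ≤ commutator G ⊓ A :=
    le_inf ((Subgroup.commutator_mono le_top le_rfl).trans_eq (commutator_def G).symm)
      (Subgroup.commutator_le_left A ⊤)
  have hge : commutator G ⊓ A ≤ ⁅A, (⊤ : Subgroup G)⁆ := by
    rw [CfsgLib.Transfer.commutator_inf_eq_focal_of_coprime
      (CfsgLib.Transfer.coprime_card_quotient_focal hco)]
    exact CfsgLib.Transfer.focalSubgroup_le_of_controls fun x _ g _ =>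
      ⟨g, Subgroup.mem_top g, rfl⟩
  have heq := le_antisymm hle hge
  refine ⟨heq, ?_, ?_⟩
  · refine le_bot_iff.mp (le_trans ?_ ((CfsgLib.Transfer.center_inf_commutator_inf_le hco).trans
      (le_of_eq (Subgroup.commutator_self_eq_bot_iff.mpr hc))))
    exact fun x hx => ⟨⟨hx.2.1, hx.1.1⟩, hx.1.2⟩
  · refine le_antisymm (sup_le inf_le_right inf_le_right) ?_
    rw [← heq, inf_comm (Subgroup.center G)]
    exact CfsgLib.Transfer.abelian_normal_le_sup_center hHall

end Cfsg.Agent.S0090
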