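import Cfsg.Statements.S0094
import Cfsg.Agent.Lib.Transfer.ClassTwo

set_option autoImplicit false
open Cfsg

namespace Cfsg.Agent.S0094

/-- In a special p-group every central element has order dividing p. -/
theorem result {P : Type*} [Group P] [Finite P] {p : ℕ} [Fact p.Prime] (h : Cfsg.IsSpecial p P) (z : P) (hz : z ∈ Subgroup.center P) : z ^ p = 1 := by
  have hc : commutator P ≤ Subgroup.center P := h.2.2.le
  have := h.1.isNilpotent
  rw [← h.2.2, commutator_eq_closure] at hz
  induction hz using Subgroup.closure_induction with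
  | mem c hcm =>
    obtain ⟨x, y, rfl⟩ := hcm
    rw [← CfsgLib.Transfer.commutatorElement_pow_left hc, commutatorElement_eq_one_iff_mul_comm]
    exact (Subgroup.mem_center_iff.mp (h.2.1 ▸ CfsgLib.Transfer.pow_mem_frattini h.1 x) y).symm
  | one => exact one_pow p
  | mul a b ha _ iha ihb =>
    have ha' : a ∈ commutator P := by rw [commutator_eq_closure]; exact ha
    rw [Commute.mul_pow (Subgroup.mem_center_iff.mp (hc ha') b).symm, iha, ihb, one_mul]
  | inv a _ iha => rw [inv_pow, iha, inv_one]

end Cfsg.Agent.S0094
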