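import Cfsg.Statements.S0096
import Cfsg.Agent.Lib.Transfer.ClassTwo

set_option autoImplicit false
open Cfsg

namespace Cfsg.Agent.S0096

/-- For odd p, in a p-group of class at most two the elements of order dividing p generate a subgroup of exponent dividing p. -/
theorem result {P : Type*} [Group P] [Finite P] {p : ℕ} [Fact p.Prime] (hp : p ≠ 2) (hP : IsPGroup p P) (h2 : ⁅commutator P, (⊤ : Subgroup P)⁆ = ⊥) (g : P) (hg : g ∈ Subgroup.closure {x : P | x ^ p = 1}) : g ^ p = 1 := by
  have hc : commutator P ≤ Subgroup.center P := fun c hc => by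
    rw [Subgroup.mem_center_iff]
    intro x
    have := Subgroup.commutator_mem_commutator (H₂ := (⊤ : Subgroup P)) hc (Subgroup.mem_top x)
    rw [h2, Subgroup.mem_bot, commutatorElement_eq_one_iff_mul_comm] at this
    exact this.symm
  induction hg using Subgroup.closure_induction with
  | mem c hcm => exact hcm
  | one => exact one_pow p
  | mul a b _ _ iha ihb =>
    have := CfsgLib.Transfer.commutatorElement_mem_center_of_le hc b a
    exact CfsgLib.Transfer.mul_pow_prime_eq_one hp iha ihb (Subgroup.mem_center_iff.mp this a).symm
      (Subgroup.mem_center_iff.mp this b).symm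
  | inv a _ iha => rw [inv_pow, iha, inv_one]

end Cfsg.Agent.S0096
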