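import Cfsg.Statements.S0097
import Cfsg.Agent.Lib.Transfer.Extraspecial

set_option autoImplicit false
open Cfsg

namespace Cfsg.Agent.S0097

/-- For odd p and E extraspecial, the subgroup generated by the elements of order dividing p has exponent dividing p and index at most p. -/
theorem result {E : Type*} [Group E] [Finite E] {p : ℕ} [Fact p.Prime] (hp : p ≠ 2) (h : Cfsg.IsExtraspecial p E) : (Subgroup.closure {x : E | x ^ p = 1}).index ≤ p ∧ ∀ g ∈ Subgroup.closure {x : E | x ^ p = 1}, g ^ p = 1 := by
  have hd := CfsgLib.Transfer.centreOrderP_of_isExtraspecial h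
  let π : E →* Subgroup.center E := MonoidHom.mk' (fun g => ⟨g ^ p, hd.pow_mem_center g⟩) fun a b => by
    refine Subtype.ext ?_
    have hcc := CfsgLib.Transfer.commutatorElement_mem_center_of_le hd.class_two b a
    change (a * b) ^ p = a ^ p * b ^ p
    rw [CfsgLib.Transfer.mul_pow_of_commute_commutator (Subgroup.mem_center_iff.mp hcc a).symm
      (Subgroup.mem_center_iff.mp hcc b).symm]
    obtain ⟨k, hk⟩ := (Fact.out : p.Prime).dvd_choose_self two_ne_zero
      (lt_of_le_of_ne (Fact.out : p.Prime).two_le (Ne.symm hp))
    rw [hk, pow_mul, hd.pow_eq_one hcc, one_pow, mul_one]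
  have hker : Subgroup.closure {x : E | x ^ p = 1} = π.ker := by
    refine Subgroup.closure_eq_of_le π.ker (fun x hx => Subtype.ext hx) fun x hx => ?_
    exact Subgroup.subset_closure (congrArg Subtype.val hx)
  rw [hker]
  refine ⟨?_, fun g hg => congrArg Subtype.val hg⟩
  calc π.ker.index = Nat.card π.range := Subgroup.index_ker π
    _ ≤ Nat.card (Subgroup.center E) := Subgroup.card_le_card_group _
    _ = p := hd.card_center

end Cfsg.Agent.S0097
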