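import Cfsg.Statements.S0099
import Cfsg.Agent.Lib.Transfer.Extraspecial

set_option autoImplicit false
open Cfsg

namespace Cfsg.Agent.S0099

/-- Among three extraspecial 2-groups of equal order, some two are isomorphic. -/
theorem result {E₁ : Type*} {E₂ : Type*} {E₃ : Type*} [Group E₁] [Group E₂] [Group E₃] [Finite E₁] [Finite E₂] [Finite E₃] (h₁ : Cfsg.IsExtraspecial 2 E₁) (h₂ : Cfsg.IsExtraspecial 2 E₂) (h₃ : Cfsg.IsExtraspecial 2 E₃) (h12 : Nat.card E₁ = Nat.card E₂) (h23 : Nat.card E₂ = Nat.card E₃) : Nonempty (E₁ ≃* E₂) ∨ Nonempty (E₂ ≃* E₃) ∨ Nonempty (E₁ ≃* E₃) := by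
  have d₁ := CfsgLib.Transfer.centreOrderP_of_isExtraspecial h₁
  have d₂ := CfsgLib.Transfer.centreOrderP_of_isExtraspecial h₂
  have d₃ := CfsgLib.Transfer.centreOrderP_of_isExtraspecial h₃
  have : Fact (Nat.Prime 2) := ⟨Nat.prime_two⟩
  obtain ⟨z₁, a₁, b₁⟩ := d₁.exists_center_ne_one
  obtain ⟨z₂, a₂, b₂⟩ := d₂.exists_center_ne_one
  obtain ⟨z₃, a₃, b₃⟩ := d₃.exists_center_ne_one
  rcases CfsgLib.Transfer.CentreOrderP.exists_equiv_of_three d₁ d₂ d₃ h12 h23 a₁ b₁ a₂ b₂ a₃ b₃ with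
    ⟨ψ, -⟩ | ⟨ψ, -⟩ | ⟨ψ, -⟩
  · exact Or.inl ⟨ψ⟩
  · exact Or.inr (Or.inl ⟨ψ⟩)
  · exact Or.inr (Or.inr ⟨ψ⟩)

end Cfsg.Agent.S0099
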