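import Cfsg.Statements.S0100
import Cfsg.Agent.Lib.Transfer.ClassTwo
import Cfsg.Agent.Lib.PGroup.Basic
import Mathlib.Tactic.IntervalCases

set_option autoImplicit false
open Cfsg

namespace Cfsg.Agent.S0100

/-- For odd p, a p-group without normal elementary abelian subgroups of order p^3 has p-rank at most 2. -/
theorem result {P : Type*} [Group P] [Finite P] {p : ℕ} [Fact p.Prime] (hp : p ≠ 2) (hP : IsPGroup p P) (h : ∀ A : Subgroup P, A.Normal → IsMulCommutative A → (∀ a ∈ A, a ^ p = 1) → Nat.card A ≠ p ^ 3) (E : Subgroup P) (hE : IsMulCommutative E) (hEe : ∀ e ∈ E, e ^ p = 1) : Nat.card E ≤ p ^ 2 := by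
  have := hE
  obtain ⟨A, hA, hmax⟩ := (Set.toFinite {A : Subgroup P | A.Normal ∧ Cfsg.IsElementaryAbelian p A}).exists_maximal
    ⟨⊥, inferInstance, inferInstance, fun a ha => by rw [Subgroup.mem_bot.mp ha, one_pow]⟩
  obtain ⟨hAn, hAe⟩ := hA
  have hin : ∀ x ∈ Subgroup.centralizer (A : Set P), x ^ p = 1 → x ∈ A := fun x hx hxp =>
    CfsgLib.Transfer.mem_of_pow_eq_one_of_maximal_normal hP hp hAe
      (fun B hBn hBe hAB => le_antisymm (hmax ⟨hBn, hBe⟩ hAB) hAB) hx hxp
  obtain ⟨a, ha⟩ := (hP.to_subgroup A).exists_card_eq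
  have ha2 : a ≤ 2 := by
    by_contra h3
    obtain ⟨B, hBn, hBA, hB⟩ := CfsgLib.PGroup.exists_normal_card_le hP 3 a A ha (by omega)
    refine h B hBn ?_ (fun b hb => hAe.2 b (hBA hb)) hB
    have := hAe.1
    exact ⟨⟨fun u v => Subtype.ext (congrArg Subtype.val
      (mul_comm' (⟨(u : P), hBA u.2⟩ : A) ⟨(v : P), hBA v.2⟩) : (u : P) * v = v * u)⟩⟩
  let F := E ⊓ Subgroup.centralizer (A : Set P)
  have hFA : F ≤ A := fun x hx => hin x hx.2 (hEe x hx.1)
  have hcardA : Nat.card A ≤ p ^ 2 := ha ▸ Nat.pow_le_pow_right (Fact.out : p.Prime).pos ha2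
  by_cases hAF : A ≤ F
  · have hEC : E ≤ Subgroup.centralizer (A : Set P) := fun x hx =>
      Subgroup.centralizer_le (SetLike.coe_subset_coe.mpr (hAF.trans inf_le_left))
        (E.le_centralizer hx)
    exact le_trans (Subgroup.card_le_of_le (show E ≤ A from fun x hx => hin x (hEC hx) (hEe x hx))) hcardA
  · have hlt : Nat.card F < Nat.card A := by
      refine lt_of_le_of_ne (Subgroup.card_le_of_le hFA) fun heq => hAF ?_
      exact (Subgroup.eq_of_le_of_card_ge hFA heq.ge).ge
    obtain ⟨f, hf⟩ := (hP.to_subgroup F).exists_card_eq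
    rw [hf, ha, Nat.pow_lt_pow_iff_right (Fact.out : p.Prime).one_lt] at hlt
    have hidx := CfsgLib.PGroup.index_centralizer_le hP a A ha
    have hrel : F.relIndex E ≤ p := by
      calc F.relIndex E = (Subgroup.centralizer (A : Set P)).relIndex E := Subgroup.inf_relIndex_left ..
        _ ≤ (Subgroup.centralizer (A : Set P)).index := Nat.le_of_dvd
            (Nat.pos_of_ne_zero Subgroup.index_ne_zero_of_finite) (Subgroup.relIndex_dvd_index_of_normal _ _)
        _ ≤ p ^ (a * (a - 1) / 2) := hidx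
        _ ≤ p ^ 1 := Nat.pow_le_pow_right (Fact.out : p.Prime).pos (by interval_cases a <;> decide)
        _ = p := pow_one p
    calc Nat.card E = Nat.card F * F.relIndex E := by
          rw [← Subgroup.relIndex_bot_left, ← Subgroup.relIndex_bot_left (H := F),
            Subgroup.relIndex_mul_relIndex _ _ _ bot_le inf_le_left]
      _ ≤ p ^ f * p := by rw [hf]; exact Nat.mul_le_mul_left _ hrel
      _ = p ^ (f + 1) := by rw [pow_succ]
      _ ≤ p ^ 2 := Nat.pow_le_pow_right (Fact.out : p.Prime).pos (by omega)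

end Cfsg.Agent.S0100
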