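import Cfsg.Statements.S0102
import Cfsg.Agent.Lib.Transfer.Focal

set_option autoImplicit false
open Cfsg

namespace Cfsg.Agent.S0102

/-- A finite perfect group with cyclic Sylow p-subgroups has no perfect central extension whose kernel has order divisible by p. -/
theorem result {G : Type*} {H : Type*} [Group G] [Group H] [Finite G] [Finite H] (hG : commutator G = ⊤) {p : ℕ} [Fact p.Prime] (hcyc : ∀ P : Sylow p G, IsCyclic P) (σ : H →* G) (hσ : Function.Surjective σ) (hz : σ.ker ≤ Subgroup.center H) (hH : commutator H = ⊤) : ¬ p ∣ Nat.card σ.ker := by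
  have hzc : σ.ker ≤ Subgroup.center H := hz
  clear hz
  intro hp
  have hfin : Finite σ.ker := inferInstance
  obtain ⟨z, hz⟩ := exists_prime_orderOf_dvd_card' p hp
  obtain ⟨P, hP⟩ := (IsPGroup.of_card (p := p) (n := 1)
    (show Nat.card (Subgroup.zpowers (z : H)) = p ^ 1 by
      rw [Nat.card_zpowers, Subgroup.orderOf_coe, hz, pow_one])).exists_le_sylow
  have hzP : (z : H) ∈ (P : Subgroup H) := hP (Subgroup.mem_zpowers _)
  have := hcyc (P.mapSurjective hσ)
  let f : (P : Subgroup H) →* ((P.mapSurjective hσ : Sylow p G) : Subgroup G) :=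
    (σ.comp (P : Subgroup H).subtype).codRestrict _ fun x => ⟨x, x.2, rfl⟩
  have hker : f.ker ≤ Subgroup.center (P : Subgroup H) := fun x hx =>
    Subgroup.mem_center_iff.mpr fun y => Subtype.ext (Subgroup.mem_center_iff.mp
      (hzc (congrArg Subtype.val hx : σ x = 1)) y)
  have hcomm : IsMulCommutative (P : Subgroup H) :=
    ⟨⟨commutative_of_cyclic_center_quotient f hker⟩⟩
  have h1 := CfsgLib.Transfer.center_inf_commutator_inf_le
    (CfsgLib.Transfer.coprime_card_index_sylow P) ⟨⟨hzc z.2, hH ▸ Subgroup.mem_top _⟩, hzP⟩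
  rw [Subgroup.commutator_self_eq_bot_iff.mpr hcomm, Subgroup.mem_bot, OneMemClass.coe_eq_one] at h1
  rw [h1, orderOf_one] at hz
  exact (Fact.out : p.Prime).ne_one hz.symm

end Cfsg.Agent.S0102
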