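import Cfsg.Statements.S0104
import Cfsg.Agent.Lib.Transfer.Tate

set_option autoImplicit false
open Cfsg

namespace Cfsg.Agent.S0104

/-- A subgroup Z of a Sylow p-subgroup P that is normalized by N_G(P) is weakly closed in P exactly when it is normal in every Sylow p-subgroup containing it. -/
theorem result {G : Type*} [Group G] [Finite G] {p : ℕ} [Fact p.Prime] (P : Sylow p G) (Z : Subgroup G) (hZP : Z ≤ (P : Subgroup G)) (hZN : Subgroup.normalizer (P : Set G) ≤ Subgroup.normalizer (Z : Set G)) : Cfsg.IsWeaklyClosed Z P ↔ ∀ R : Sylow p G, Z ≤ (R : Subgroup G) → (R : Subgroup G) ≤ Subgroup.normalizer (Z : Set G) := by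
  constructor
  · intro h R hR
    obtain ⟨g, rfl⟩ := MulAction.exists_smul_eq G P R
    have h1 : Z.map (MulAut.conj g⁻¹).toMonoidHom ≤ (P : Subgroup G) := by
      rintro _ ⟨z, hz, rfl⟩
      have : g⁻¹ * z * g ∈ (P : Subgroup G) := (CfsgLib.Transfer.mem_sylow_smul_iff g P z).mp (hR hz)
      simpa using this
    have h2 : g ∈ Subgroup.normalizer (Z : Set G) :=
      inv_mem_iff.mp (Subgroup.mem_normalizer_iff_map_conj_eq.mpr (h.2 _ h1))
    intro r hr
    have h3 := hZN (Subgroup.le_normalizer ((CfsgLib.Transfer.mem_sylow_smul_iff g P r).mp hr))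
    have e : r = g * (g⁻¹ * r * g) * g⁻¹ := by simp [mul_assoc]
    rw [e]
    exact mul_mem (mul_mem h2 h3) (inv_mem h2)
  · intro h
    refine ⟨hZP, fun g hg => ?_⟩
    have hZR : Z ≤ ((g⁻¹ • P : Sylow p G) : Subgroup G) := fun z hz => by
      refine (CfsgLib.Transfer.mem_sylow_smul_iff g⁻¹ P z).mpr ?_
      rw [inv_inv]
      exact hg ⟨z, hz, rfl⟩
    obtain ⟨m, hm, hmn⟩ := CfsgLib.Transfer.exists_mul_mem_normalizer P
      (Subgroup.le_normalizer.trans hZN) (g := g⁻¹) (h _ hZR)
    refine Subgroup.mem_normalizer_iff_map_conj_eq.mp (inv_mem_iff.mp ?_)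
    have := mul_mem (inv_mem hm) (hZN hmn)
    simpa using this

end Cfsg.Agent.S0104
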