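import Cfsg.Statements.S0118
import Cfsg.Agent.Lib.Fusion.SL2Stable
import Cfsg.Agent.Lib.Fusion.ZJFusion

set_option autoImplicit false
open Cfsg

namespace Cfsg.Agent.S0118

/-- Glauberman's ZJ-Theorem, in the case of groups with no section isomorphic to SL(2,p), p odd: conjugation of subsets of a Sylow p-subgroup P inside P is always induced from the normalizer of Z(J(P)). -/
theorem result {G : Type*} [Group G] [Finite G] {p : ℕ} [Fact p.Prime] (hp : p ≠ 2) (hfree : ¬ ∃ (H K : Subgroup G) (hK : (K.subgroupOf H).Normal), Nonempty ((H ⧸ K.subgroupOf H) ≃* Matrix.SpecialLinearGroup (Fin 2) (ZMod p))) (P : Sylow p G) (A : Set G) (hA : A ⊆ (P : Set G)) (g : G) (hAg : (fun a => g⁻¹ * a * g) '' A ⊆ (P : Set G)) : ∃ n ∈ Subgroup.normalizer (Cfsg.centerThompsonOf p (P : Subgroup G) : Set G), ∀ a ∈ A, n⁻¹ * a * n = g⁻¹ * a * g := by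
  have hC : CfsgLib.ZJFusion.StableClass p (fun X [Group X] => CfsgLib.SL2Stable.SL2Free p X) :=
    { subgroup := fun X _ _ Y h => h.subgroup Y
      quotient := fun X _ _ N _ h => h.of_surjective (QuotientGroup.mk'_surjective N)
      stable := fun X _ _ W _ _ h φ hφ hW a ha =>
        CfsgLib.SL2Stable.quad_mem_pCore_of_free hp h φ hφ hW ha }
  have h := CfsgLib.ZJFusion.controls hp (e := p) (Or.inr rfl) hC
    (CfsgLib.SL2Stable.sl2Free_of_no_section (by
      rintro ⟨H, K, hK, he⟩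
      exact hfree ⟨H, K, hK, he⟩)) P
  obtain ⟨n, hn, hn'⟩ := CfsgLib.ZJFusion.controls_sets h hA hAg
  refine ⟨n, ?_, hn'⟩
  rw [Cfsg.centerThompsonOf, CfsgLib.PLoc.joinMaxAb_prime]
  exact hn

end Cfsg.Agent.S0118
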