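import Cfsg.Statements.S0119
import Cfsg.Agent.Lib.PGroup.PowerMap

set_option autoImplicit false
open Cfsg
open scoped commutatorElement

namespace Cfsg.Agent.S0119

/-- If a p'-group A of automorphisms of a p-group G satisfies G = [G, A] and acts trivially on every characteristic abelian subgroup, then G is special with centre equal to the fixed points of A. -/
theorem result {G : Type*} [Group G] [Finite G] {p : ℕ} [Fact p.Prime] (hG : IsPGroup p G) (A : Subgroup (MulAut G)) (hA : Nat.Coprime (Nat.card A) p) (hGA : Subgroup.closure {x : G | ∃ g : G, ∃ a ∈ A, x = g⁻¹ * a g} = ⊤) (hchar : ∀ H : Subgroup G, H.Characteristic → IsMulCommutative H → ∀ a ∈ A, ∀ h ∈ H, a h = h) : Cfsg.IsSpecial p G ∧ (∀ g : G, (g ∈ Subgroup.center G ↔ ∀ a ∈ A, a g = g)) := by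
  have hpp : p.Prime := Fact.out
  have hnil := hG.isNilpotent
  classical
  -- characteristic abelian subgroups are central
  have hcen : ∀ H : Subgroup G, H.Characteristic → IsMulCommutative H → H ≤ Subgroup.center G := by
    intro H hH hH'
    have hn : H.Normal := inferInstance
    have hfix := hchar H hH hH'
    have hle : Subgroup.closure {x : G | ∃ g : G, ∃ a ∈ A, x = g⁻¹ * a g} ≤
        Subgroup.centralizer (H : Set G) := by
      rw [Subgroup.closure_le]
      rintro _ ⟨g, a, ha, rfl⟩
      rw [SetLike.mem_coe, Subgroup.mem_centralizer_iff]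
      intro k hk
      have := hfix a ha _ (hn.conj_mem k hk g)
      rw [map_mul, map_mul, map_inv, hfix a ha k hk] at this
      calc k * (g⁻¹ * a g) = g⁻¹ * (g * k * g⁻¹) * a g := by group
        _ = g⁻¹ * (a g * k * (a g)⁻¹) * a g := by rw [this]
        _ = g⁻¹ * a g * k := by group
    rw [hGA, top_le_iff, Subgroup.centralizer_eq_top_iff_subset] at hle
    exact hle
  -- class two
  have hclass : commutator G ≤ Subgroup.center G := by
    set Z2 := Subgroup.upperCentralSeries G 2 with hZ2
    have hZ2c : ⁅Z2, (⊤ : Subgroup G)⁆ ≤ Subgroup.center G := by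
      rw [← Subgroup.upperCentralSeries_one]
      rw [Subgroup.commutator_le]
      intro x hx y _
      exact Subgroup.mem_upperCentralSeries_succ_iff.1 hx y
    have hzero : ∀ K : Subgroup G, K ≤ Subgroup.center G → ⁅K, (⊤ : Subgroup G)⁆ = ⊥ := fun K hK => by
      rw [Subgroup.commutator_eq_bot_iff_le_centralizer, Subgroup.coe_top, Subgroup.centralizer_univ]
      exact hK
    have h3 : ⁅commutator G, Z2⁆ = ⊥ := by
      rw [commutator_def]
      refine Subgroup.commutator_commutator_eq_bot_of_rotate ?_ ?_
      · rw [Subgroup.commutator_comm (⊤ : Subgroup G) Z2]; exact hzero _ hZ2c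
      · exact hzero _ hZ2c
    set W := commutator G ⊓ Z2 with hW
    have hWchar : W.Characteristic := by
      have h1 : (commutator G).Characteristic := inferInstance
      have h2 : Z2.Characteristic := inferInstance
      rw [Subgroup.characteristic_iff_map_le]
      intro φ
      exact (Subgroup.map_inf_le _ _ _).trans (inf_le_inf
        (Subgroup.characteristic_iff_map_le.1 h1 φ) (Subgroup.characteristic_iff_map_le.1 h2 φ))
    have hWc : IsMulCommutative W := by
      rw [← Subgroup.le_centralizer_iff_isMulCommutative, ← Subgroup.commutator_eq_bot_iff_le_centralizer,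
        eq_bot_iff, ← h3]
      exact Subgroup.commutator_mono inf_le_left inf_le_right
    have hWZ := hcen W hWchar hWc
    by_contra hnle
    have hlt : commutator G ⊓ Subgroup.center G < commutator G :=
      lt_of_le_of_ne inf_le_left fun h => hnle (inf_eq_left.1 h)
    obtain ⟨x, hx, hxn, -, hxc⟩ :=
      CfsgLib.PGroup.exists_step hG (commutator G ⊓ Subgroup.center G) (commutator G) hlt
    refine hxn ⟨hx, hWZ ⟨hx, ?_⟩⟩
    rw [hZ2]
    refine Subgroup.mem_upperCentralSeries_succ_iff.2 fun y => ?_
    rw [Subgroup.upperCentralSeries_one]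
    exact (hxc y).2
  have hZchar : (Subgroup.center G).Characteristic := inferInstance
  have hfixZ : ∀ a ∈ A, ∀ z ∈ Subgroup.center G, a z = z := hchar _ hZchar inferInstance
  -- fixed points lie in the derived subgroup
  have hfixed : ∀ g : G, (∀ a ∈ A, a g = g) → g ∈ commutator G := by
    intro g hg
    have : Fintype A := Fintype.ofFinite A
    let φ : G →* Abelianization G :=
      { toFun := fun x => ∏ a : A, Abelianization.of ((a : MulAut G) x)
        map_one' := by simp
        map_mul' := fun x y => by simp [Finset.prod_mul_distrib] }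
    have hφ : ∀ x : G, φ x = 1 := by
      intro x
      have hle : Subgroup.closure {x : G | ∃ g : G, ∃ a ∈ A, x = g⁻¹ * a g} ≤ φ.ker := by
        rw [Subgroup.closure_le]
        rintro _ ⟨y, b, hb, rfl⟩
        rw [SetLike.mem_coe, MonoidHom.mem_ker, map_mul, map_inv, inv_mul_eq_one]
        show ∏ a : A, Abelianization.of ((a : MulAut G) y) = ∏ a : A, Abelianization.of ((a : MulAut G) (b y))
        refine (Fintype.prod_equiv (Equiv.mulRight (⟨b, hb⟩ : A))
          (fun a : A => Abelianization.of ((a : MulAut G) (b y)))
          (fun a : A => Abelianization.of ((a : MulAut G) y)) fun a => ?_).symm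
        simp [MulAut.mul_apply]
      exact hle (hGA ▸ Subgroup.mem_top x)
    have h1 : φ g = Abelianization.of (g ^ Fintype.card A) := by
      show ∏ a : A, Abelianization.of ((a : MulAut G) g) = _
      rw [map_pow, ← Finset.card_univ, ← Finset.prod_const]
      exact Finset.prod_congr rfl fun a _ => by rw [hg a a.2]
    rw [hφ, eq_comm, ← MonoidHom.mem_ker, Abelianization.ker_of] at h1
    obtain ⟨j, hj⟩ := hG g
    have hco : Nat.Coprime (Fintype.card A) (orderOf g) := by
      refine Nat.Coprime.coprime_dvd_right (orderOf_dvd_of_pow_eq_one hj) (Nat.Coprime.pow_right j ?_)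
      rwa [← Nat.card_eq_fintype_card]
    obtain ⟨k, hk⟩ := exists_pow_eq_self_of_coprime hco
    rw [← hk]
    exact pow_mem h1 k
  have hZeq : commutator G = Subgroup.center G :=
    le_antisymm hclass fun z hz => hfixed z fun a ha => hfixZ a ha z hz
  -- the derived subgroup has exponent p
  have hpowc : ∀ x y : G, ∀ k : ℕ, ⁅x ^ k, y⁆ = ⁅x, y⁆ ^ k := fun x y k =>
    CfsgLib.PGroup.commutator_pow_left x y
      (Subgroup.mem_center_iff.1 (hclass (CfsgLib.PGroup.commutatorElement_mem_commutator' x y)) x) k
  have hexp : ∀ x y : G, ⁅x, y⁆ ^ p = 1 := by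
    have hall : ∀ e : ℕ, (∀ x y : G, ⁅x, y⁆ ^ p ^ e = 1) → ∀ x y : G, ⁅x, y⁆ ^ p = 1 := by
      intro e
      induction e with
      | zero =>
        intro h x y
        have h1 := h x y
        rw [pow_zero, pow_one] at h1
        rw [h1, one_pow]
      | succ e ih =>
        intro h
        rcases Nat.eq_zero_or_pos e with he | he
        · intro x y; simpa [he] using h x y
        refine ih fun x y => ?_
        let H := Subgroup.closure {w : G | ∃ u : G, w = u ^ p ^ e}
        have hHchar : H.Characteristic := by
          rw [Subgroup.characteristic_iff_map_le]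
          intro φ
          rw [MonoidHom.map_closure, Subgroup.closure_le]
          rintro _ ⟨_, ⟨u, rfl⟩, rfl⟩
          exact Subgroup.subset_closure ⟨φ u, map_pow φ u _⟩
        have hHc : IsMulCommutative H := by
          rw [← Subgroup.le_centralizer_iff_isMulCommutative]
          show Subgroup.closure _ ≤ _
          rw [Subgroup.closure_le]
          rintro _ ⟨u, rfl⟩
          rw [SetLike.mem_coe, Subgroup.centralizer_closure, Subgroup.mem_centralizer_iff]
          rintro _ ⟨w, rfl⟩
          rw [← commutatorElement_eq_one_iff_mul_comm, hpowc, ← inv_eq_one, ← inv_pow,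
            commutatorElement_inv, hpowc, ← pow_mul, ← pow_add]
          obtain ⟨d, hd⟩ : p ^ (e + 1) ∣ p ^ (e + e) := pow_dvd_pow p (by omega)
          rw [hd, pow_mul, h, one_pow]
        rw [← hpowc, commutatorElement_eq_one_iff_mul_comm]
        exact (Subgroup.mem_center_iff.1
          (hcen H hHchar hHc (Subgroup.subset_closure ⟨x, rfl⟩)) y).symm
    obtain ⟨n, hn⟩ := IsPGroup.iff_card.1 hG
    exact hall n fun x y => by rw [← hn]; exact pow_card_eq_one'
  have hphi : frattini G = Subgroup.center G := by
    refine le_antisymm ?_ (hZeq ▸ CfsgLib.PGroup.commutator_le_frattini hG)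
    refine CfsgLib.PGroup.frattini_le_of_elementary (p := p)
      (fun x y => hclass (CfsgLib.PGroup.commutatorElement_mem_commutator' x y)) fun x => ?_
    rw [Subgroup.mem_center_iff]
    intro y
    rw [eq_comm, ← commutatorElement_eq_one_iff_mul_comm, hpowc, hexp]
  refine ⟨⟨hG, hphi, hZeq⟩, fun g => ⟨fun hg a ha => hfixZ a ha g hg, fun hg => hclass (hfixed g hg)⟩⟩

end Cfsg.Agent.S0119
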