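import Cfsg.Statements.S0122
import Cfsg.Agent.Lib.PGroup.RankFourOdd

set_option autoImplicit false
open Cfsg

namespace Cfsg.Agent.S0122

/-- For odd p, a p-group containing an elementary abelian subgroup of order p^4 has a normal elementary abelian subgroup of order p^4. -/
theorem result {G : Type*} [Group G] [Finite G] {p : ℕ} [Fact p.Prime] (hp : p ≠ 2) (hG : IsPGroup p G) (E : Subgroup G) (hE : Cfsg.IsElementaryAbelian p E) (hE4 : Nat.card E = p ^ 4) : ∃ A : Subgroup G, A.Normal ∧ Cfsg.IsElementaryAbelian p A ∧ Nat.card A = p ^ 4 := by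
  classical
  have hpp : p.Prime := Fact.out
  obtain ⟨B, hB, hBe, i, hBc, hi⟩ : ∃ B : Subgroup G, B.Normal ∧ Cfsg.IsElementaryAbelian p B ∧
      ∃ i, Nat.card B = p ^ i ∧ 4 ≤ i := by
    have hr : ∀ k < 4, ¬ Cfsg.PRankLE p k G := fun k hk h => by
      have h1 := h E hE.1 hE.2
      rw [hE4, Nat.pow_le_pow_iff_right hpp.one_lt] at h1
      omega
    rcases Nat.lt_or_ge p 5 with h5 | h5
    · have hp3 : p = 3 := by
        have h4 : p ≠ 4 := fun h => by subst h; norm_num at hpp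
        have := hpp.two_le
        omega
      subst hp3
      obtain ⟨D, hD, hDe, hD81⟩ := CfsgLib.RankFourThree.exists_normal_elementary_four hG (hr 3 (by norm_num))
      obtain ⟨i, hi⟩ := (IsPGroup.iff_card.1 (hG.to_subgroup D))
      refine ⟨D, hD, hDe, i, hi, ?_⟩
      rw [hi, show 81 = 3 ^ 4 by norm_num] at hD81
      exact (Nat.pow_le_pow_iff_right (by norm_num)).1 hD81
    obtain ⟨F, hFn, hF, hF2⟩ := CfsgLib.OddOrder.exists_normal_elementary_two hp hG (hr 2 (by norm_num))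
    haveI := hFn
    obtain ⟨N₀, hN₀n, -, hN₀, hN₀c⟩ :=
      CfsgLib.OddOrder.exists_normal_elementary_three hp hG (hr 2 (by norm_num)) hF hF2
    obtain ⟨N, ⟨hNn, hN, hN₀N⟩, hmax⟩ :=
      (Set.toFinite {A : Subgroup G | A.Normal ∧ Cfsg.IsElementaryAbelian p A ∧ N₀ ≤ A}).exists_maximal
        ⟨N₀, hN₀n, hN₀, le_rfl⟩
    haveI := hNn
    obtain ⟨i, hi⟩ := (IsPGroup.iff_card.1 (hG.to_subgroup N))
    rcases Nat.lt_or_ge i 4 with h4 | h4
    · have hN3 : Nat.card N = p ^ 3 := by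
        have h1 := Subgroup.card_le_of_le hN₀N
        rw [hN₀c, hi, Nat.pow_le_pow_iff_right hpp.one_lt] at h1
        rw [hi, show i = 3 by omega]
      exact ⟨E, CfsgLib.RankFourOdd.exists_normal_of_rank_three h5 hG hE hE4 hN hN3
        (fun x hx hxp => CfsgLib.RankFourThree.omega_centralizer_le hp hG hN
          (fun A hA hAe hNA => hmax ⟨hA, hAe, hN₀N.trans hNA⟩ hNA) hx hxp), hE, 4, hE4, le_rfl⟩
    · exact ⟨N, hNn, hN, i, hi, h4⟩
  haveI := hB
  obtain ⟨A, hA, hAB, hAc⟩ := CfsgLib.PGroup.exists_normal_card_le hG 4 i B hBc hi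
  refine ⟨A, hA, ⟨?_, fun a ha => hBe.2 a (hAB ha)⟩, hAc⟩
  exact IsMulCommutative.of_setLike_mul_comm fun a ha b hb =>
    CfsgLib.RankFourThree.commute_of hBe (hAB ha) (hAB hb)

end Cfsg.Agent.S0122
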