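import Cfsg.Statements.S0123
import Cfsg.Agent.Lib.PGroup.PowerMap

set_option autoImplicit false
open Cfsg
open scoped commutatorElement

namespace Cfsg.Agent.S0123

/-- For a p-group of small class relative to p (class ≤ 2 with p odd, or class ≤ 3 with p > 3) whose derived subgroup is generated by elements of order dividing p, the p-th power map is multiplicative. -/
theorem result {R : Type*} [Group R] [Finite R] {p : ℕ} [Fact p.Prime] (hR : IsPGroup p R) (hcl : (p ≠ 2 ∧ ⁅commutator R, (⊤ : Subgroup R)⁆ = ⊥) ∨ (3 < p ∧ ⁅⁅commutator R, (⊤ : Subgroup R)⁆, (⊤ : Subgroup R)⁆ = ⊥)) (hder : commutator R ≤ Subgroup.closure {x : R | x ^ p = 1}) (x y : R) : (x * y) ^ p = x ^ p * y ^ p := by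
  have hpp : p.Prime := Fact.out
  have h3 : ∀ c ∈ commutator R, ∀ g : R, ⁅c, g⁆ ∈ Subgroup.center R := by
    intro c hc g
    rcases hcl with ⟨-, h⟩ | ⟨-, h⟩
    · have : ⁅c, g⁆ ∈ ⁅commutator R, (⊤ : Subgroup R)⁆ :=
        Subgroup.commutator_mem_commutator hc (Subgroup.mem_top g)
      rw [h, Subgroup.mem_bot] at this
      rw [this]; exact one_mem _
    · exact CfsgLib.PGroup.commutator_central_of_bot h
        (Subgroup.commutator_mem_commutator hc (Subgroup.mem_top g))
  have h : (p ≠ 2 ∧ commutator R ≤ Subgroup.center R) ∨ 3 < p :=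
    hcl.imp (fun h => ⟨h.1, CfsgLib.PGroup.commutator_central_of_bot h.2⟩) And.left
  have hG' : ∀ c ∈ commutator R, c ^ p = 1 := fun c hc =>
    CfsgLib.PGroup.pow_eq_one_of_mem_closure hpp h3 h (hder hc)
  have hc : ⁅y, x⁆ ∈ commutator R := CfsgLib.PGroup.commutatorElement_mem_commutator' y x
  have hmem : ∀ g : R, ⁅g, ⁅y, x⁆⁆ ∈ Subgroup.center R := fun g => by
    rw [← commutatorElement_inv]; exact inv_mem (h3 _ hc g)
  refine CfsgLib.PGroup.mul_pow_prime_eq hpp x y (hmem x) (hmem y) (hG' _ hc) ?_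
  rcases h with ⟨hp2, hz⟩ | hp3
  · exact Or.inl ⟨hp2, commutatorElement_eq_one_iff_mul_comm.2
      (Subgroup.mem_center_iff.1 (hz hc) x), commutatorElement_eq_one_iff_mul_comm.2
      (Subgroup.mem_center_iff.1 (hz hc) y)⟩
  · exact Or.inr ⟨hp3, hG' _ (CfsgLib.PGroup.commutatorElement_mem_commutator' _ _),
      hG' _ (CfsgLib.PGroup.commutatorElement_mem_commutator' _ _)⟩

end Cfsg.Agent.S0123
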