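import Cfsg.Statements.S0125
import Cfsg.Agent.Lib.PGroup.Basic
import Mathlib.GroupTheory.Transfer
import Mathlib.GroupTheory.Sylow

set_option autoImplicit false
open Cfsg

namespace Cfsg.Agent.S0125

/-- The centralizer of a self-centralizing normal subgroup A of a Sylow p-subgroup is the direct product of A with a normal p'-subgroup. -/
theorem result {G : Type*} [Group G] [Finite G] {p : ℕ} [Fact p.Prime] (R : Sylow p G) (A : Subgroup G) (hAR : A ≤ (R : Subgroup G)) (hAn : (R : Subgroup G) ≤ Subgroup.normalizer (A : Set G)) (hC : (R : Subgroup G) ⊓ Subgroup.centralizer (A : Set G) = A) : ∃ H : Subgroup G, H ≤ Subgroup.centralizer (A : Set G) ∧ Nat.Coprime (Nat.card H) p ∧ Subgroup.centralizer (A : Set G) ≤ Subgroup.normalizer (H : Set G) ∧ H ⊓ A = ⊥ ∧ H ⊔ A = Subgroup.centralizer (A : Set G) := by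
  set C := Subgroup.centralizer (A : Set G) with hCdef
  have hA : A ≤ C := by
    calc A = (R : Subgroup G) ⊓ C := hC.symm
      _ ≤ C := inf_le_right
  have hAcomm : A ≤ Subgroup.centralizer (C : Set G) := Subgroup.le_centralizer_iff.1 le_rfl
  have hconj : ∀ (u : G) (x : G), u ∈ Subgroup.normalizer (A : Set G) → x ∈ C → u * x * u⁻¹ ∈ C := by
    intro u x hu hx
    rw [hCdef, Subgroup.mem_centralizer_iff] at hx ⊢
    intro y hy
    have hy' : u⁻¹ * y * u ∈ A := by
      have := (Subgroup.mem_normalizer_iff.1 (inv_mem hu) y).1 hy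
      rwa [inv_inv] at this
    calc y * (u * x * u⁻¹) = u * ((u⁻¹ * y * u) * x) * u⁻¹ := by group
      _ = u * (x * (u⁻¹ * y * u)) * u⁻¹ := by rw [hx _ hy']
      _ = u * x * u⁻¹ * y := by group
  have hNC : Subgroup.normalizer (A : Set G) ≤ Subgroup.normalizer (C : Set G) := by
    intro g hg
    rw [Subgroup.mem_normalizer_iff]
    intro h
    refine ⟨hconj g h hg, fun hh => ?_⟩
    have := hconj g⁻¹ _ (inv_mem hg) hh
    simpa [mul_assoc] using this
  have hidx : ¬ p ∣ A.relIndex C := by
    set N := Subgroup.normalizer (A : Set G)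
    have hCN : C ≤ N := Subgroup.centralizer_le_normalizer _
    have hCn : (C.subgroupOf N).Normal :=
      (Subgroup.normal_subgroupOf_iff_le_normalizer hCN).2 hNC
    intro hp'
    apply R.not_dvd_index
    have h1 := CfsgLib.PGroup.relIndex_dvd_index_normal_right ((R : Subgroup G).subgroupOf N) (C.subgroupOf N)
    rw [Subgroup.relIndex_subgroupOf hCN] at h1
    refine (hp'.trans ?_).trans (Subgroup.relIndex_dvd_index_of_le hAn)
    rw [← hC, Subgroup.inf_relIndex_right]
    exact h1
  let A' : Subgroup C := A.subgroupOf C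
  have hA'p : IsPGroup p A' := (R.isPGroup'.to_le hAR).of_equiv (Subgroup.subgroupOfEquivOfLe hA).symm
  let S : Sylow p C := hA'p.toSylow hidx
  have hS : Subgroup.normalizer ((S : Subgroup C) : Set C) ≤ Subgroup.centralizer ((S : Subgroup C) : Set C) := by
    intro g _
    rw [Subgroup.mem_centralizer_iff]
    intro y hy
    apply Subtype.ext
    exact (hAcomm (show (y : G) ∈ A from hy) (g : G) g.2).symm
  have hcompl := MonoidHom.ker_transferSylow_isComplement' S hS
  have hnd := MonoidHom.not_dvd_card_ker_transferSylow S hS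
  let K := (MonoidHom.transferSylow S hS).ker
  refine ⟨K.map C.subtype, Subgroup.map_subtype_le K, ?_, ?_, ?_, ?_⟩
  · rw [Nat.card_congr (K.equivMapOfInjective _ C.subtype_injective).toEquiv.symm, Nat.coprime_comm]
    exact (Nat.Prime.coprime_iff_not_dvd Fact.out).2 hnd
  · have := Subgroup.le_normalizer_map (H := K) C.subtype
    rw [Subgroup.normalizer_eq_top K] at this
    rwa [← MonoidHom.range_eq_map, Subgroup.range_subtype] at this
  · rw [← Subgroup.map_subgroupOf_eq_of_le hA, ← Subgroup.map_inf _ _ _ C.subtype_injective,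
      Subgroup.map_eq_bot_iff_of_injective _ C.subtype_injective]
    exact hcompl.disjoint.eq_bot
  · rw [← Subgroup.map_subgroupOf_eq_of_le hA, ← Subgroup.map_sup]
    have : K ⊔ A.subgroupOf C = ⊤ := hcompl.sup_eq_top
    rw [this, ← MonoidHom.range_eq_map, Subgroup.range_subtype]

end Cfsg.Agent.S0125
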