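import Cfsg.Statements.S0132
import Cfsg.Agent.Lib.Fusion.FrobeniusCriterion
import Mathlib.GroupTheory.SpecificGroups.Cyclic

set_option autoImplicit false
open Cfsg
open scoped commutatorElement

namespace Cfsg.Agent.S0132

/-- A minimal non-p-nilpotent finite group is a minimal non-nilpotent group with a normal Sylow p-subgroup. -/
theorem result {G : Type*} [Group G] [Finite G] {p : ℕ} [Fact p.Prime] (h1 : ¬ Cfsg.HasNormalPComplement p G) (h2 : ∀ H : Subgroup G, H ≠ ⊤ → Cfsg.HasNormalPComplement p H) : (∀ H : Subgroup G, H ≠ ⊤ → Group.IsNilpotent H) ∧ ¬ Group.IsNilpotent G ∧ ∀ P : Sylow p G, (P : Subgroup G).Normal := by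
  have hpp : p.Prime := Fact.out
  obtain ⟨Q, hQ, g, hg, hco, hgC⟩ : ∃ Q : Subgroup G, IsPGroup p Q ∧
      ∃ g ∈ Subgroup.normalizer (Q : Set G), Nat.Coprime (orderOf g) p ∧
        g ∉ Subgroup.centralizer (Q : Set G) := by
    by_contra hcon
    push Not at hcon
    exact h1 (CfsgLib.NPC.frobenius_criterion hcon)
  -- `Q` and `g` generate `G`
  have htop : Q ⊔ Subgroup.zpowers g = ⊤ := by
    by_contra hne
    set H := Q ⊔ Subgroup.zpowers g with hH
    have hgH : g ∈ H := Subgroup.mem_sup_right (Subgroup.mem_zpowers g)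
    have hQH : Q ≤ H := le_sup_left
    have hNH : (⟨g, hgH⟩ : H) ∈ Subgroup.normalizer ((Q.subgroupOf H : Subgroup H) : Set H) := by
      rw [Subgroup.mem_normalizer_iff]
      intro k
      simpa [Subgroup.mem_subgroupOf] using Subgroup.mem_normalizer_iff.1 hg (k : G)
    have := CfsgLib.NPC.mem_centralizer_of_hasNormalPComplement
      (hQ.of_equiv (Subgroup.subgroupOfEquivOfLe hQH).symm)
      (CfsgLib.NPC.hasNormalPComplement_subgroup (h2 H hne) _) hNH
      (by rw [← Subgroup.orderOf_coe]; exact hco)
    apply hgC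
    rw [Subgroup.mem_centralizer_iff] at this ⊢
    exact fun q hq => congrArg Subtype.val (this ⟨q, hQH hq⟩ (Subgroup.mem_subgroupOf.2 hq))
  have hQn : Q.Normal := by
    rw [← Subgroup.normalizer_eq_top_iff, eq_top_iff, ← htop]
    exact sup_le Subgroup.le_normalizer (Subgroup.zpowers_le.2 hg)
  have hgen : Subgroup.zpowers (QuotientGroup.mk' Q g) = ⊤ := by
    rw [← MonoidHom.map_zpowers, eq_top_iff, ← MonoidHom.range_eq_top.2 (QuotientGroup.mk'_surjective Q),
      MonoidHom.range_eq_map, ← htop, Subgroup.map_sup,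
      (Subgroup.map_eq_bot_iff _).2 (QuotientGroup.ker_mk' Q).ge, bot_sup_eq]
  have hidx : ¬ p ∣ Q.index := by
    rw [Subgroup.index, ← Subgroup.card_top, ← hgen, Nat.card_zpowers]
    intro hd
    exact (Nat.Prime.coprime_iff_not_dvd hpp).1 hco.symm (hd.trans (orderOf_map_dvd _ g))
  refine ⟨fun H hH => ?_, ?_, ?_⟩
  · -- proper subgroups
    obtain ⟨K, hKn, hKco, k, hk⟩ := CfsgLib.NPC.hasNormalPComplement_iff.1 (h2 H hH)
    have hQHn : (Q.subgroupOf H).Normal := inferInstance
    have hdisj : Disjoint K (Q.subgroupOf H) := by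
      rw [Subgroup.disjoint_def]
      intro z hzK hzQ
      obtain ⟨j, hj⟩ := hQ ⟨(z : G), Subgroup.mem_subgroupOf.1 hzQ⟩
      rw [← orderOf_eq_one_iff]
      exact Nat.eq_one_of_dvd_coprimes (Nat.Coprime.pow_right j
        (hKco.coprime_dvd_left (Subgroup.orderOf_dvd_natCard _ hzK))) dvd_rfl
        (orderOf_dvd_of_pow_eq_one (Subtype.ext (by simpa using congrArg Subtype.val hj)))
    have hKc : K ≤ Subgroup.center H := by
      intro z hz
      rw [Subgroup.mem_center_iff]
      intro w
      rw [eq_comm, ← commutatorElement_eq_one_iff_mul_comm]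
      have hc1 : ⁅z, w⁆ ∈ K := by
        have := K.mul_mem hz (hKn.conj_mem _ (K.inv_mem hz) w)
        simpa [commutatorElement_def, mul_assoc] using this
      have hc2 : ⁅z, w⁆ ∈ Q.subgroupOf H := by
        rw [Subgroup.mem_subgroupOf]
        show ⁅(z : G), (w : G)⁆ ∈ Q
        rw [← QuotientGroup.eq_one_iff, ← QuotientGroup.mk'_apply (N := Q), map_commutatorElement,
          commutatorElement_eq_one_iff_mul_comm]
        obtain ⟨i, hi⟩ := Subgroup.mem_zpowers_iff.1 (hgen ▸ Subgroup.mem_top (QuotientGroup.mk' Q (z : G)))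
        obtain ⟨j, hj⟩ := Subgroup.mem_zpowers_iff.1 (hgen ▸ Subgroup.mem_top (QuotientGroup.mk' Q (w : G)))
        rw [← hi, ← hj]
        exact (Commute.zpow_zpow (Commute.refl _) i j).eq
      exact Subgroup.disjoint_def.1 hdisj hc1 hc2
    have hp' : IsPGroup p (H ⧸ K) := IsPGroup.of_card (n := k) (by rw [← hk]; rfl)
    have := hp'.isNilpotent
    exact Subgroup.isNilpotent_of_ker_le_center (QuotientGroup.mk' K)
      (by rw [QuotientGroup.ker_mk']; exact hKc)
  · -- `G` is not nilpotent
    intro hnil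
    apply hgC
    obtain ⟨n, hn⟩ := Subgroup.nilpotent_iff_lowerCentralSeries.1 hnil
    have key : ∀ j i, i + j = n → ∀ q ∈ Q, q ∈ (⊤ : Subgroup G).lowerCentralSeries i → g * q = q * g := by
      intro j
      induction j with
      | zero =>
        intro i hi q _ hq
        rw [show i = n by omega, hn, Subgroup.mem_bot] at hq
        simp [hq]
      | succ j ih =>
        intro i hi q hq hqL
        set d := g * q * g⁻¹ * q⁻¹ with hd
        have hdQ : d ∈ Q := Q.mul_mem (hQn.conj_mem q hq g) (Q.inv_mem hq)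
        have hdL : d ∈ (⊤ : Subgroup G).lowerCentralSeries (i + 1) := by
          rw [Subgroup.lowerCentralSeries_succ, hd, ← commutatorElement_def, ← commutatorElement_inv]
          exact Subgroup.inv_mem _ (Subgroup.commutator_mem_commutator hqL (Subgroup.mem_top g))
        have hdg := ih (i + 1) (by omega) d hdQ hdL
        have hk : ∀ k : ℕ, g ^ k * q * (g ^ k)⁻¹ = d ^ k * q := by
          intro k
          induction k with
          | zero => simp
          | succ k ihk =>
            calc g ^ (k + 1) * q * (g ^ (k + 1))⁻¹ = g * (g ^ k * q * (g ^ k)⁻¹) * g⁻¹ := by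
                  simp only [pow_succ', mul_inv_rev, mul_assoc]
              _ = (g * d ^ k * g⁻¹) * (g * q * g⁻¹) := by rw [ihk]; group
              _ = d ^ k * (d * q) := by
                  rw [((show Commute g d from hdg).pow_right k).eq, mul_inv_cancel_right]; congr 1; rw [hd]; group
              _ = d ^ (k + 1) * q := by rw [pow_succ]; exact (mul_assoc _ _ _).symm
        have h4 := hk (orderOf g)
        rw [pow_orderOf_eq_one, one_mul, inv_one, mul_one, right_eq_mul] at h4
        obtain ⟨e, he⟩ := hQ ⟨d, hdQ⟩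
        have hd1 : d = 1 := by
          rw [← orderOf_eq_one_iff]
          exact Nat.eq_one_of_dvd_coprimes (Nat.Coprime.pow_right e hco)
            (orderOf_dvd_of_pow_eq_one h4)
            (orderOf_dvd_of_pow_eq_one (by simpa using congrArg Subtype.val he))
        rwa [hd, mul_inv_eq_one, mul_inv_eq_iff_eq_mul] at hd1
    rw [Subgroup.mem_centralizer_iff]
    exact fun q hq => (key n 0 (by omega) q hq (by simp)).symm
  · intro P
    let S : Sylow p G := hQ.toSylow hidx
    have hSn : (S : Subgroup G).Normal := hQn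
    obtain ⟨x, hx⟩ := MulAction.exists_smul_eq G S P
    rw [← hx, Sylow.smul_eq_of_normal]
    exact hSn

end Cfsg.Agent.S0132
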