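import Cfsg.Statements.S0138
import Cfsg.Agent.Lib.Char.Basic

set_option autoImplicit false
open Cfsg

namespace Cfsg.Agent.S0138

/-- A character value has absolute value equal to the degree exactly when the group element acts by a scalar. -/
theorem result {G : Type*} [Group G] [Finite G] {V : Type*} [AddCommGroup V] [Module ℂ V] [FiniteDimensional ℂ V] (ρ : Representation ℂ G V) (g : G) : ‖ρ.character g‖ = (Module.finrank ℂ V : ℝ) ↔ ∃ ω : ℂ, ρ g = ω • (LinearMap.id : V →ₗ[ℂ] V) := by
  refine ⟨fun h => ?_, fun h => ?_⟩
  · by_cases hn : Module.finrank ℂ V = 0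
    · have : Subsingleton V := Module.finrank_zero_iff.mp hn
      exact ⟨1, Subsingleton.elim _ _⟩
    · have hc : (Module.finrank ℂ V : ℂ) ≠ 0 := by exact_mod_cast hn
      refine ⟨ρ.character g / Module.finrank ℂ V, CfsgLib.Char.eq_smul_id_of_character_eq ρ g _ ?_ ?_⟩
      · rw [norm_div, h]
        simp [hn]
      · rw [mul_div_cancel₀ _ hc]
  · obtain ⟨ω, hω⟩ := h
    rcases subsingleton_or_nontrivial V with hV | hV
    · have h0 : Module.finrank ℂ V = 0 := Module.finrank_zero_of_subsingleton
      have := CfsgLib.Char.norm_character_le ρ g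
      rw [h0] at this ⊢
      exact le_antisymm this (by simp)
    · have htr : ρ.character g = ω * Module.finrank ℂ V := by
        rw [Representation.character, hω, map_smul, LinearMap.trace_id, smul_eq_mul]
      obtain ⟨b, μ, hμ, hb⟩ := CfsgLib.Char.exists_eigenbasis ρ g
      let i : Fin (Module.finrank ℂ V) := ⟨0, Module.finrank_pos⟩
      have he : μ i = ω := by
        have h2 := hb i
        rw [hω] at h2
        exact (smul_left_injective ℂ (b.ne_zero i) (by simpa using h2)).symm
      rw [htr, ← he, norm_mul, Complex.norm_eq_one_of_pow_eq_one (hμ i) (orderOf_pos g).ne']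
      simp

end Cfsg.Agent.S0138
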