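import Cfsg.Statements.S0155
import Mathlib.RepresentationTheory.Character
import Mathlib.LinearAlgebra.Trace

set_option autoImplicit false
open Cfsg

namespace Cfsg.Agent.S0155

/-- The character of the left regular representation of a finite group takes the value |G| at the identity and 0 at every other element. -/
theorem result {G : Type*} [Group G] [Fintype G] [DecidableEq G] (g : G) : (Representation.leftRegular ℂ G).character g = if g = 1 then (Nat.card G : ℂ) else 0 := by
  have hb : ∀ a : G, Representation.leftRegular ℂ G g (MonoidAlgebra.single a 1) =
      MonoidAlgebra.single (g * a) 1 := fun a => by simp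
  let b : Module.Basis G ℂ (MonoidAlgebra ℂ G) := ⟨MonoidAlgebra.coeffLinearEquiv ℂ⟩
  have hbe : ∀ a, b a = MonoidAlgebra.single a 1 := fun a => rfl
  rw [Representation.character, LinearMap.trace_eq_matrix_trace ℂ b, Matrix.trace]
  simp only [Matrix.diag_apply, LinearMap.toMatrix_apply, hbe, hb]
  have hr : ∀ a c : G, b.repr (MonoidAlgebra.single c 1) a = if c = a then 1 else 0 := fun a c => by
    rw [← hbe, Module.Basis.repr_self, Finsupp.single_apply]
  simp only [hr, mul_eq_right]
  split_ifs with hg <;> simp

end Cfsg.Agent.S0155
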