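import Cfsg.Statements.S0162
import Cfsg.Agent.Lib.Char.Integral
import Cfsg.Agent.Lib.Char.RealOdd
import Mathlib.Algebra.BigOperators.Ring.Finset
import Mathlib.Data.ZMod.Basic

set_option autoImplicit false
open Cfsg

namespace Cfsg.Agent.S0162

/-- If a finite group has odd order, its order is congruent to its number of conjugacy classes modulo 16. -/
theorem result {G : Type*} [Group G] [Finite G] (hodd : Odd (Nat.card G)) : Nat.card G ≡ Nat.card (ConjClasses G) [MOD 16] := by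
  classical
  cases nonempty_fintype G
  have hdeg : ∀ χ : Cfsg.IrrCharacter G,
      ((CfsgLib.Char.degree (χ : G → ℂ) : ZMod 16) ^ 2 - 1) +
        ((CfsgLib.Char.degree (χ : G → ℂ) : ZMod 16) ^ 2 - 1) = 0 := by
    intro χ
    obtain ⟨n, ρ, hρ, he⟩ := χ.2
    have hodd' : Odd (CfsgLib.Char.degree (χ : G → ℂ)) := by
      rw [← he, CfsgLib.Char.degree_character]
      exact hodd.of_dvd_nat (CfsgLib.Char.finrank_dvd_card ρ)
    obtain ⟨k, hk⟩ := hodd'
    rw [hk]
    have : ∀ x : ZMod 16, ((2 * x + 1) ^ 2 - 1) + ((2 * x + 1) ^ 2 - 1) = 0 := by decide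
    exact_mod_cast this k
  let cj : Cfsg.IrrCharacter G → Cfsg.IrrCharacter G := fun χ =>
    ⟨_, CfsgLib.Char.IsIrrCharacter.conj_apply' χ.2⟩
  have hcj : ∀ χ, CfsgLib.Char.degree (cj χ : G → ℂ) = CfsgLib.Char.degree (χ : G → ℂ) := by
    intro χ
    simp [CfsgLib.Char.degree, cj]
  have hz : ∑ χ : Cfsg.IrrCharacter G, ((CfsgLib.Char.degree (χ : G → ℂ) : ZMod 16) ^ 2 - 1) = 0 := by
    refine Finset.sum_involution (fun χ _ => cj χ) (fun χ _ => by rw [hcj]; exact hdeg χ)
      (fun χ _ hne heq => hne ?_) (fun χ _ => Finset.mem_univ _)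
      (fun χ _ => Subtype.ext (funext fun g => by simp [cj]))
    have hreal : ∀ g, ((χ : G → ℂ) g).im = 0 := fun g =>
      Complex.conj_eq_iff_im.mp (congrFun (congrArg Subtype.val heq) g)
    simp [CfsgLib.Char.degree, CfsgLib.Char.eq_one_of_real_of_odd hodd χ hreal]
  rw [Finset.sum_sub_distrib, sub_eq_zero] at hz
  rw [← CfsgLib.Char.sum_degree_sq, ← CfsgLib.Char.card_irrCharacter,
    ← ZMod.natCast_eq_natCast_iff, Nat.card_eq_fintype_card]
  push_cast
  rw [hz]
  simp

end Cfsg.Agent.S0162
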