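import Cfsg.Statements.S0163
import Cfsg.Agent.Lib.Char.Brauer
import Cfsg.Agent.S0176

set_option autoImplicit false
open Cfsg

namespace Cfsg.Agent.S0163

theorem indFun_congr {K : Type*} [Group K] [Fintype K] (A B : Subgroup K) (hAB : A = B)
    (a : A → ℂ) (b : B → ℂ) (h : ∀ (x : K) (hA : x ∈ A) (hB : x ∈ B), a ⟨x, hA⟩ = b ⟨x, hB⟩) :
    Cfsg.indFun A a = Cfsg.indFun B b := by
  subst hAB
  congr 1
  funext x
  exact h x x.2 x.2

/-- Inducing in two steps through a subgroup given inside the intermediate group. -/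
theorem indFun_map_subtype {G : Type*} [Group G] [Fintype G] (E : Subgroup G) [Fintype E]
    (H : Subgroup E) (θ : H → ℂ) :
    Cfsg.indFun E (Cfsg.indFun H θ) = Cfsg.indFun (H.map E.subtype)
      (fun x => θ ((H.equivMapOfInjective E.subtype E.subtype_injective).symm x)) := by
  rw [← CfsgLib.Char.indFun_indFun (H.map E.subtype) E (Subgroup.map_subtype_le H)]
  congr 1
  refine indFun_congr _ _ (Subgroup.comap_map_eq_self_of_injective E.subtype_injective H).symm
    _ _ fun x hA hB => ?_
  refine congrArg θ ?_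
  apply (H.equivMapOfInjective E.subtype E.subtype_injective).injective
  rw [MulEquiv.apply_symm_apply]
  rfl

/-- Brauer's induction Theorem: every character of a finite group is a ℤ-linear combination of functions induced from linear characters (homomorphisms to ℂˣ) of elementary subgroups. -/
theorem result {G : Type*} [Group G] [Fintype G] (χ : G → ℂ) (hχ : Cfsg.IsCharacter G χ) : ∃ l : List ((E : Subgroup G) × ((E →* ℂˣ) × ℤ)), (∀ t ∈ l, ∃ p : ℕ, p.Prime ∧ Cfsg.IsElementary p t.1) ∧ χ = (l.map fun t => (t.2.2 : ℂ) • Cfsg.indFun t.1 (fun e => (t.2.1 e : ℂ))).sum := by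
  classical
  let Q : (G → ℂ) → Prop := fun f => ∃ l : List ((E : Subgroup G) × ((E →* ℂˣ) × ℤ)),
    (∀ t ∈ l, ∃ p : ℕ, p.Prime ∧ Cfsg.IsElementary p t.1) ∧
      f = (l.map fun t => (t.2.2 : ℂ) • Cfsg.indFun t.1 (fun e => (t.2.1 e : ℂ))).sum
  have hQ0 : Q 0 := ⟨[], by simp, by simp⟩
  have hQadd : ∀ a b, Q a → Q b → Q (a + b) := by
    rintro a b ⟨l, hl, rfl⟩ ⟨k, hk, rfl⟩
    exact ⟨l ++ k, fun t ht => (List.mem_append.mp ht).elim (hl t) (hk t),
      by rw [List.map_append, List.sum_append]⟩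
  have hQsmul : ∀ (c : ℤ) a, Q a → Q ((c : ℂ) • a) := by
    rintro c a ⟨l, hl, rfl⟩
    refine ⟨l.map fun t => ⟨t.1, t.2.1, c * t.2.2⟩, ?_, ?_⟩
    · intro t ht
      obtain ⟨s, hs, rfl⟩ := List.mem_map.mp ht
      exact hl s hs
    · clear hl
      induction l with
      | nil => simp
      | cons s k ih => simp [smul_add, ih, mul_smul]
  have hQlist : ∀ k : List (G → ℂ), (∀ f ∈ k, Q f) → Q k.sum := by
    intro k
    induction k with
    | nil => intro _; simpa using hQ0
    | cons a k ih =>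
      intro hk
      rw [List.sum_cons]
      exact hQadd _ _ (hk a List.mem_cons_self) (ih fun f hf => hk f (List.mem_cons_of_mem _ hf))
  -- a character of an elementary subgroup induces into `Q`
  have hkey : ∀ (E : Subgroup G) (p : ℕ), p.Prime → Cfsg.IsElementary p E → ∀ ψ : E → ℂ,
      Cfsg.IsCharacter E ψ → Q (Cfsg.indFun E ψ) := by
    intro E p hp hE ψ hψ
    have := CfsgLib.Char.isNilpotent_of_isElementary hp hE
    refine CfsgLib.Char.IsCharacter.induction (P := fun ψ => Q (Cfsg.indFun E ψ)) hψ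
      (by simpa [CfsgLib.Char.indFun_zero] using hQ0) ?_ ?_
    · intro φ hφ
      obtain ⟨H, lam, rfl⟩ := Cfsg.Agent.S0176.result φ hφ
      let e := H.equivMapOfInjective E.subtype E.subtype_injective
      refine ⟨[⟨H.map E.subtype, lam.comp e.symm.toMonoidHom, 1⟩], ?_, ?_⟩
      · intro t ht
        rw [List.mem_singleton] at ht
        subst ht
        exact ⟨p, hp, CfsgLib.Char.isElementary_of_mulEquiv e
          (CfsgLib.Char.isElementary_subgroup hp hE H)⟩
      · simp only [List.map_cons, List.map_nil, List.sum_cons, List.sum_nil, add_zero,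
          Int.cast_one, one_smul]
        exact indFun_map_subtype E H (fun h => (lam h : ℂ))
    · intro a b ha hb
      rw [CfsgLib.Char.indFun_add]
      exact hQadd _ _ ha hb
  obtain ⟨l, hl, heq⟩ := CfsgLib.Char.exists_eq_comb_res χ
    (CfsgLib.Char.IsCharacter.isClassFunction hχ)
  show Q χ
  rw [heq]
  refine hQlist _ fun f hf => ?_
  obtain ⟨t, ht, rfl⟩ := List.mem_map.mp hf
  obtain ⟨p, hp, hE, hch⟩ := hl t ht
  exact hQsmul _ _ (hkey t.1 p hp hE _ (CfsgLib.Char.IsCharacter.mul hch
    (CfsgLib.Char.IsCharacter.restrict hχ t.1)))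

end Cfsg.Agent.S0163
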