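import Cfsg.Statements.S0170
import Cfsg.Agent.Lib.Char.TISet
import Cfsg.Agent.Lib.Char.Exceptional

set_option autoImplicit false
open Cfsg

namespace Cfsg.Agent.S0170

/-- Exceptional characters. Let S be a subset of a finite group contained in its normalizer N and meeting its conjugates by elements outside N only in the identity. Given n ≥ 2 distinct irreducible characters of N of equal degree that vanish on N away from S, there exist a sign ε and n distinct irreducible characters θ_i of G such that inducing χ_i − χ_j to G gives ε (θ_i − θ_j) for all i, j. -/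
theorem result {G : Type*} [Group G] [Fintype G] (S : Set G) (hSN : S ⊆ Subgroup.normalizer S) (hTI : ∀ g : G, g ∉ Subgroup.normalizer S → ∀ s ∈ S, g * s * g⁻¹ ∈ S → s = 1) (n : ℕ) (hn : 2 ≤ n) (χ : Fin n → (Subgroup.normalizer S → ℂ)) (hirr : ∀ i, Cfsg.IsIrrCharacter (Subgroup.normalizer S) (χ i)) (hinj : Function.Injective χ) (hvan : ∀ i, ∀ x : Subgroup.normalizer S, (x : G) ∉ S → χ i x = 0) (hdeg : ∀ i j, χ i 1 = χ j 1) : ∃ ε : ℂ, (ε = 1 ∨ ε = -1) ∧ ∃ θ : Fin n → (G → ℂ), (∀ i, Cfsg.IsIrrCharacter G (θ i)) ∧ Function.Injective θ ∧ ∀ i j, Cfsg.indFun (Subgroup.normalizer S) (χ i) - Cfsg.indFun (Subgroup.normalizer S) (χ j) = ε • (θ i - θ j) := by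
  classical
  let i₀ : Fin n := ⟨0, by omega⟩
  let N := Subgroup.normalizer S
  let ψ : Fin n → N → ℂ := fun i => χ i - χ i₀
  have hcl : ∀ i, Cfsg.IsClassFunction N (ψ i) := fun i x y => by
    simp only [ψ, Pi.sub_apply, CfsgLib.Char.IsIrrCharacter.isClassFunction (hirr i) x y,
      CfsgLib.Char.IsIrrCharacter.isClassFunction (hirr i₀) x y]
  have hv : ∀ i, ∀ x : N, (x : G) ∉ S → ψ i x = 0 := fun i x hx => by
    simp [ψ, hvan i x hx, hvan i₀ x hx]
  have h1 : ∀ i, ψ i 1 = 0 := fun i => by simp [ψ, hdeg i i₀]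
  have hiso : ∀ i j, Cfsg.classInner (Cfsg.indFun N (ψ i)) (Cfsg.indFun N (ψ j)) =
      (if i = j then 1 else 0) - (if i = i₀ then 1 else 0) - (if j = i₀ then 1 else 0) + 1 := by
    intro i j
    rw [CfsgLib.Char.classInner_indFun_ti S hTI (ψ i) (ψ j) (hcl j) (hv i) (hv j) (h1 i)]
    simp only [ψ, CfsgLib.Char.classInner_sub_left, CfsgLib.Char.classInner_sub_right,
      CfsgLib.Char.classInner_irr (hirr _) (hirr _), hinj.eq_iff, eq_comm (a := i₀)]
    simp only [if_true]
    ring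
  obtain ⟨ε, hε, θ, hθ, hθinj, hθe⟩ := CfsgLib.CharExc.exists_base i₀
    (fun i => Cfsg.indFun N (ψ i))
    (by simp [ψ, CfsgLib.Char.indFun_zero])
    (fun i => CfsgLib.Char.IsGeneralizedCharacter.indFun N
      (CfsgLib.Char.IsGeneralizedCharacter.sub
        (CfsgLib.Char.IsIrrCharacter.isGeneralizedCharacter (hirr i))
        (CfsgLib.Char.IsIrrCharacter.isGeneralizedCharacter (hirr i₀))))
    (fun i => by simp [CfsgLib.Char.indFun_apply_one, h1])
    (fun i hi => by rw [hiso]; simp [hi]; norm_num)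
    (fun i j hi hj hij => by rw [hiso]; simp [hi, hj, hij])
  refine ⟨ε, hε, θ, hθ, hθinj, fun i j => ?_⟩
  have hi := hθe i
  have hj := hθe j
  simp only [ψ, CfsgLib.Char.indFun_sub] at hi hj
  rw [← sub_sub_sub_cancel_right _ _ (Cfsg.indFun N (χ i₀)), hi, hj, ← smul_sub,
    sub_sub_sub_cancel_right]

end Cfsg.Agent.S0170
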