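import Cfsg.Statements.S0172
import Mathlib.GroupTheory.GroupAction.CardCommute
import Mathlib.GroupTheory.GroupAction.ConjAct
import Mathlib.GroupTheory.Index
import Mathlib.GroupTheory.Coset.Card
import Mathlib.Tactic.Group
import Mathlib.Tactic.Ring
import Mathlib.Tactic.Linarith
import Mathlib.Algebra.BigOperators.Ring.Finset

set_option autoImplicit false
open Cfsg

namespace Cfsg.Agent.S0172

/-- Class number of a Frobenius group: if G = K H with K normal, K ⊓ H trivial and no non-identity element of H commuting with a non-identity element of K, then |H| * k(G) + 1 = |H| * k(H) + k(K), where k denotes the number of conjugacy classes. -/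
theorem result {G : Type*} [Group G] [Finite G] (K H : Subgroup G) [K.Normal] (hKH : K ⊓ H = ⊥) (hKH' : K ⊔ H = ⊤) (hfpf : ∀ h ∈ H, h ≠ 1 → ∀ k ∈ K, h * k = k * h → k = 1) : Nat.card H * Nat.card (ConjClasses G) + 1 = Nat.card H * Nat.card (ConjClasses H) + Nat.card (ConjClasses K) := by
  classical
  cases nonempty_fintype G
  have hdisj : ∀ x : G, x ∈ K → x ∈ H → x = 1 := fun x h1 h2 =>
    Subgroup.mem_bot.mp (hKH ▸ Subgroup.mem_inf.mpr ⟨h1, h2⟩)
  have hinj : Function.Injective (fun p : K × H => (p.1 : G) * p.2) := by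
    rintro ⟨⟨a, ha⟩, ⟨b, hb⟩⟩ ⟨⟨c, hc⟩, ⟨d, hd⟩⟩ h
    simp only at h
    have h1 : c⁻¹ * a = d * b⁻¹ := by
      rw [eq_mul_inv_iff_mul_eq, mul_assoc, h, inv_mul_cancel_left]
    have h2 : c⁻¹ * a = 1 :=
      hdisj _ (K.mul_mem (K.inv_mem hc) ha) (h1 ▸ H.mul_mem hd (H.inv_mem hb))
    have hac : a = c := (inv_mul_eq_one.mp h2).symm
    subst hac
    simp only [mul_right_inj] at h
    subst h
    rfl
  have hsurj : ∀ x : G, ∃ k ∈ K, ∃ h ∈ H, k * h = x := fun x => by
    have hx : x ∈ K ⊔ H := hKH' ▸ Subgroup.mem_top x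
    exact Subgroup.mem_sup_of_normal_left.mp hx
  let e : K × H ≃ G := Equiv.ofBijective _ ⟨hinj, fun x => by
    obtain ⟨k, hk, h, hh, rfl⟩ := hsurj x
    exact ⟨(⟨k, hk⟩, ⟨h, hh⟩), rfl⟩⟩
  have hconj : ∀ h ∈ H, h ≠ 1 → ∀ k ∈ K, ∃ u ∈ K, u * h * u⁻¹ = k * h := by
    intro h hh h1 k hk
    let f : K → K := fun u => ⟨(u : G) * (h * (u : G)⁻¹ * h⁻¹),
      K.mul_mem u.2 (Subgroup.Normal.conj_mem inferInstance _ (K.inv_mem u.2) h)⟩
    have hf : Function.Injective f := fun u v huv => by
      have h2 : (u : G) * h * (u : G)⁻¹ = (v : G) * h * (v : G)⁻¹ :=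
        mul_right_cancel (b := h⁻¹) (by simpa [f, mul_assoc] using congrArg Subtype.val huv)
      have h3 : h * ((v : G)⁻¹ * u) = ((v : G)⁻¹ * u) * h := by
        calc h * ((v : G)⁻¹ * u) = (v : G)⁻¹ * ((v : G) * h * (v : G)⁻¹) * u := by group
          _ = ((v : G)⁻¹ * u) * h := by rw [← h2]; group
      exact Subtype.ext (inv_mul_eq_one.mp
        (hfpf h hh h1 _ (K.mul_mem (K.inv_mem v.2) u.2) h3)).symm
    obtain ⟨u, hu⟩ := (Finite.injective_iff_surjective.mp hf) ⟨k, hk⟩
    refine ⟨u, u.2, ?_⟩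
    have hu2 : (u : G) * (h * (u : G)⁻¹ * h⁻¹) = k := congrArg Subtype.val hu
    rw [← hu2]; group
  -- centralizer of a nontrivial element of the complement
  have hcH : ∀ h ∈ H, h ≠ 1 → ∀ x : G, x * h = h * x → x ∈ H := by
    intro h hh h1 x hx
    obtain ⟨k, hk, h', hh', rfl⟩ := hsurj x
    have h2 : (h⁻¹ * k * h) * (h⁻¹ * h' * h) = k * h' := by
      calc h⁻¹ * k * h * (h⁻¹ * h' * h) = h⁻¹ * (k * h' * h) := by group
        _ = k * h' := by rw [hx]; group
    have h3 := @hinj (⟨h⁻¹ * k * h, by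
        simpa using (Subgroup.Normal.conj_mem inferInstance k hk h⁻¹)⟩,
      ⟨h⁻¹ * h' * h, H.mul_mem (H.mul_mem (H.inv_mem hh) hh') hh⟩) (⟨k, hk⟩, ⟨h', hh'⟩) h2
    have h4 : h⁻¹ * k * h = k := congrArg (fun p : K × H => (p.1 : G)) h3
    have h5 : k = 1 := hfpf h hh h1 k hk (by
      calc h * k = h * (h⁻¹ * k * h) := by rw [h4]
        _ = k * h := by group)
    simpa [h5] using hh'
  have hcK : ∀ k ∈ K, k ≠ 1 → ∀ x : G, x * k = k * x → x ∈ K := by
    intro k hk k1 x hx
    obtain ⟨a, ha, h, hh, rfl⟩ := hsurj x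
    by_contra hxK
    have h1 : h ≠ 1 := fun e => hxK (by simpa [e] using ha)
    obtain ⟨u, hu, hue⟩ := hconj h hh h1 a ha
    rw [← hue] at hx
    have h2 : h * (u⁻¹ * k * u) = (u⁻¹ * k * u) * h := by
      calc h * (u⁻¹ * k * u) = u⁻¹ * (u * h * u⁻¹ * k) * u := by group
        _ = (u⁻¹ * k * u) * h := by rw [hx]; group
    have h3 := hfpf h hh h1 _ (K.mul_mem (K.mul_mem (K.inv_mem hu) hk) hu) h2
    apply k1
    calc k = u * (u⁻¹ * k * u) * u⁻¹ := by group
      _ = 1 := by rw [h3]; group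
  let c : G → ℕ := fun g => Nat.card {x : G // x * g = g * x}
  have hcomm : ∀ (L : Type _) [Group L] [Fintype L],
      ∑ l : L, Nat.card {x : L // x * l = l * x} = Nat.card (ConjClasses L) * Nat.card L := by
    intro L _ _
    rw [← card_comm_eq_card_conjClasses_mul_card, ← Nat.card_sigma]
    exact Nat.card_congr
      { toFun := fun p => ⟨(p.2.1, p.1), p.2.2⟩
        invFun := fun p => ⟨p.1.2, p.1.1, p.2⟩
        left_inv := fun _ => rfl
        right_inv := fun _ => rfl }
  have hG := hcomm G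
  have hc1 : c 1 = Nat.card G := Nat.card_congr (Equiv.subtypeUnivEquiv fun x => by simp)
  have hKsum : ∀ k : K, c k = Nat.card {x : K // x * k = k * x} +
      if k = 1 then Nat.card G - Nat.card K else 0 := by
    intro k
    split_ifs with hk
    · subst hk
      rw [OneMemClass.coe_one, hc1, Nat.card_congr (Equiv.subtypeUnivEquiv (α := K) fun x => by simp)]
      have := Nat.card_le_card_of_injective (Subtype.val : K → G) Subtype.val_injective
      omega
    · rw [add_zero]
      exact Nat.card_congr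
        { toFun := fun x => ⟨⟨x.1, hcK k k.2 (fun e => hk (Subtype.ext e)) _ x.2⟩,
            Subtype.ext x.2⟩
          invFun := fun x => ⟨x.1.1, congrArg Subtype.val x.2⟩
          left_inv := fun _ => rfl
          right_inv := fun _ => rfl }
  have hout : ∀ h : H, h ≠ 1 → ∀ k : K, c ((k : G) * h) = Nat.card {x : H // x * h = h * x} := by
    intro h h1 k
    obtain ⟨u, hu, hue⟩ := hconj h h.2 (fun e => h1 (Subtype.ext e)) k k.2
    rw [← hue]
    refine Nat.card_congr
      { toFun := fun x => ⟨⟨u⁻¹ * x.1 * u, hcH h h.2 (fun e => h1 (Subtype.ext e)) _ ?_⟩, ?_⟩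
        invFun := fun x => ⟨u * x.1.1 * u⁻¹, ?_⟩
        left_inv := fun x => Subtype.ext (by simp [mul_assoc])
        right_inv := fun x => Subtype.ext (Subtype.ext (by simp [mul_assoc])) }
    · have hx := x.2
      calc u⁻¹ * x.1 * u * h = u⁻¹ * (x.1 * (u * h * u⁻¹)) * u := by group
        _ = h * (u⁻¹ * x.1 * u) := by rw [hx]; group
    · have hx := x.2
      apply Subtype.ext
      change u⁻¹ * x.1 * u * h = h * (u⁻¹ * x.1 * u)
      calc u⁻¹ * x.1 * u * h = u⁻¹ * (x.1 * (u * h * u⁻¹)) * u := by group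
        _ = h * (u⁻¹ * x.1 * u) := by rw [hx]; group
    · have hx : (x.1 : G) * h = h * x.1 := congrArg Subtype.val x.2
      calc u * x.1.1 * u⁻¹ * (u * h * u⁻¹) = u * (x.1.1 * h) * u⁻¹ := by group
        _ = u * h * u⁻¹ * (u * x.1.1 * u⁻¹) := by rw [hx]; group
  have hK := hcomm K
  have hH := hcomm H
  have hmul : Nat.card K * Nat.card H = Nat.card G := by
    rw [← Nat.card_prod]; exact Nat.card_congr e
  have hsplit : ∑ g : G, c g = ∑ h : H, ∑ k : K, c ((k : G) * h) := by
    rw [← Fintype.sum_prod_type_right (f := fun p : K × H => c ((p.1 : G) * p.2))]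
    exact (Equiv.sum_comp e c).symm
  have hK2 : ∑ k : K, c k = Nat.card (ConjClasses K) * Nat.card K + (Nat.card G - Nat.card K) := by
    rw [Finset.sum_congr rfl fun k _ => hKsum k, Finset.sum_add_distrib, hK,
      Finset.sum_ite_eq' Finset.univ (1 : K) (fun _ => Nat.card G - Nat.card K)]
    simp
  have hkey : Nat.card (ConjClasses G) * Nat.card G + Nat.card K * Nat.card H =
      Nat.card (ConjClasses K) * Nat.card K + (Nat.card G - Nat.card K) +
        Nat.card K * (Nat.card (ConjClasses H) * Nat.card H) := by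
    have hG2 : ∑ g : G, c g = Nat.card (ConjClasses G) * Nat.card G := hG
    rw [← hH, ← hG2, hsplit, ← Finset.add_sum_erase _ _ (Finset.mem_univ (1 : H)),
      ← Finset.add_sum_erase (Finset.univ : Finset H) (fun l => Nat.card {x : H // x * l = l * x})
        (Finset.mem_univ (1 : H))]
    simp only [OneMemClass.coe_one, mul_one, hK2]
    rw [Nat.card_congr (Equiv.subtypeUnivEquiv (α := H) fun x => by simp), mul_add, Finset.mul_sum,
      Finset.sum_congr rfl (g := fun h : H => Nat.card K * Nat.card {x : H // x * h = h * x})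
        (fun h hh => by
          rw [Finset.sum_congr rfl fun k _ => hout h (Finset.mem_erase.mp hh).1 k, Finset.sum_const,
            Finset.card_univ, ← Nat.card_eq_fintype_card, smul_eq_mul])]
    ring
  have hKpos : 0 < Nat.card K := Nat.card_pos
  refine Nat.eq_of_mul_eq_mul_left hKpos ?_
  have hsub : Nat.card G - Nat.card K + Nat.card K = Nat.card G :=
    Nat.sub_add_cancel (Nat.card_le_card_of_injective (Subtype.val : K → G) Subtype.val_injective)
  generalize Nat.card G - Nat.card K = d at hkey hsub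
  rw [← hmul] at hkey hsub
  linarith [hkey, hsub]

end Cfsg.Agent.S0172
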