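import Cfsg.Statements.S0175
import Cfsg.Agent.Lib.Char.Induced
import Cfsg.Agent.Lib.Char.Virtual
import Cfsg.Agent.Lib.Char.Linear

set_option autoImplicit false
open Cfsg

namespace Cfsg.Agent.S0175

/-- Taketa's Theorem on M-groups: if every irreducible complex character of a finite group is induced from a linear character (a homomorphism to ℂˣ) of some subgroup, the group is solvable. -/
theorem result {G : Type*} [Group G] [Fintype G] (hM : ∀ χ : G → ℂ, Cfsg.IsIrrCharacter G χ → ∃ (H : Subgroup G) (lam : H →* ℂˣ), χ = Cfsg.indFun H (fun h => (lam h : ℂ))) : Group.IsSolvable G := by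
  classical
  have hG : (Nat.card G : ℂ) ≠ 0 := Nat.cast_ne_zero.mpr Nat.card_pos.ne'
  have key : ∀ n : ℕ, ∀ χ : G → ℂ, Cfsg.IsIrrCharacter G χ → CfsgLib.Char.degree χ ≤ n →
      ∀ x ∈ derivedSeries G n, χ x = χ 1 := by
    intro n
    induction n with
    | zero =>
      intro χ hχ hd
      have := CfsgLib.Char.IsIrrCharacter.degree_pos hχ
      omega
    | succ n ih =>
      intro χ hχ hd x hx
      obtain ⟨H, lam, rfl⟩ := hM χ hχ
      have hidx : CfsgLib.Char.degree (Cfsg.indFun H (fun h => (lam h : ℂ))) = H.index := by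
        simp [CfsgLib.Char.degree, CfsgLib.Char.indFun_apply_one]
      rw [hidx] at hd
      have hsub : ∀ z ∈ derivedSeries G n, z ∈ H := by
        intro z hz
        let π := Cfsg.indFun H (fun _ : H => (1 : ℂ))
        have hπ : Cfsg.IsCharacter G π :=
          CfsgLib.Char.IsCharacter.indFun H CfsgLib.Char.isCharacter_one
        obtain ⟨m, hm⟩ := CfsgLib.Char.IsCharacter.exists_nat_combination hπ
        have hπ1 : π 1 = (H.index : ℂ) := by simp [π, CfsgLib.Char.indFun_apply_one]
        have hm1 : m CfsgLib.Char.principalIrr = 1 := by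
          have h1 := CfsgLib.Char.classInner_sum_smul_irr (G := G) (fun φ => (m φ : ℂ))
            CfsgLib.Char.principalIrr
          rw [← hm, CfsgLib.Char.classInner_indFun H (fun _ => (1 : ℂ))
            ((CfsgLib.Char.principalIrr : Cfsg.IrrCharacter G) : G → ℂ)
            (CfsgLib.Char.IsIrrCharacter.isClassFunction CfsgLib.Char.principalIrr.2)] at h1
          have h2 : (m CfsgLib.Char.principalIrr : ℂ) = 1 := by
            rw [← h1]
            exact CfsgLib.Char.classInner_irr_self CfsgLib.Char.isIrrCharacter_principal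
          exact_mod_cast h2
        have hsum : ∑ φ : Cfsg.IrrCharacter G, m φ * CfsgLib.Char.degree (φ : G → ℂ) = H.index := by
          have h1 := congrFun hm 1
          rw [hπ1] at h1
          simp only [Finset.sum_apply, Pi.smul_apply, smul_eq_mul, ← CfsgLib.Char.IsCharacter.degree_cast
            (CfsgLib.Char.IsIrrCharacter.isCharacter (Subtype.prop _))] at h1
          exact_mod_cast h1.symm
        have hker : ∀ φ : Cfsg.IrrCharacter G, m φ ≠ 0 → (φ : G → ℂ) z = (φ : G → ℂ) 1 := by
          intro φ hφ
          by_cases hp : φ = CfsgLib.Char.principalIrr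
          · simp [hp]
          · refine ih φ φ.2 ?_ z hz
            rw [← Finset.add_sum_erase _ _ (Finset.mem_univ CfsgLib.Char.principalIrr), hm1,
              one_mul] at hsum
            have h2 := Finset.single_le_sum
              (f := fun ψ : Cfsg.IrrCharacter G => m ψ * CfsgLib.Char.degree (ψ : G → ℂ))
              (fun _ _ => Nat.zero_le _)
              (Finset.mem_erase.mpr ⟨hp, Finset.mem_univ φ⟩)
            have h3 : CfsgLib.Char.degree (φ : G → ℂ) ≤ m φ * CfsgLib.Char.degree (φ : G → ℂ) :=
              Nat.le_mul_of_pos_left _ (Nat.pos_of_ne_zero hφ)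
            have h4 : CfsgLib.Char.degree
                ((CfsgLib.Char.principalIrr : Cfsg.IrrCharacter G) : G → ℂ) = 1 := by
              simp [CfsgLib.Char.degree]
            omega
        have hz1 : π z = π 1 := by
          rw [hm]
          simp only [Finset.sum_apply, Pi.smul_apply, smul_eq_mul]
          refine Finset.sum_congr rfl fun φ _ => ?_
          by_cases hφ : m φ = 0
          · simp [hφ]
          · rw [hker φ hφ]
        by_contra hzH
        have hcount : ∀ w : G, Cfsg.extendByZero H (fun _ : H => (1 : ℂ)) w =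
            ((if w ∈ H then 1 else 0 : ℕ) : ℂ) := by
          intro w
          split_ifs with hw
          · rw [CfsgLib.Char.extendByZero_apply_mem _ _ hw]; simp
          · rw [CfsgLib.Char.extendByZero_of_notMem _ _ hw]; simp
        have hH : (Nat.card H : ℂ)⁻¹ ≠ 0 := inv_ne_zero (Nat.cast_ne_zero.mpr Nat.card_pos.ne')
        have hz2 : ∑ y : G, (if y⁻¹ * z * y ∈ H then 1 else 0 : ℕ) = ∑ _y : G, (1 : ℕ) := by
          simp only [π, CfsgLib.Char.indFun_apply, mul_one, inv_mul_cancel, hcount,
            H.one_mem, if_true] at hz1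
          have := mul_left_cancel₀ hH hz1
          exact_mod_cast this
        have hlt : ∑ y : G, (if y⁻¹ * z * y ∈ H then 1 else 0 : ℕ) < ∑ _y : G, (1 : ℕ) :=
          Finset.sum_lt_sum (fun y _ => by split_ifs <;> omega)
            ⟨1, Finset.mem_univ _, by simp [hzH]⟩
        omega
      have hlam : derivedSeries G (n + 1) ≤ lam.ker.map H.subtype := by
        rw [derivedSeries_succ, Subgroup.commutator_le]
        intro a ha b hb
        refine ⟨(⟨a, hsub a ha⟩ : H) * ⟨b, hsub b hb⟩ * (⟨a, hsub a ha⟩ : H)⁻¹ *
          (⟨b, hsub b hb⟩ : H)⁻¹, ?_, ?_⟩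
        · rw [SetLike.mem_coe, MonoidHom.mem_ker, map_mul, map_mul, map_mul, map_inv, map_inv,
            mul_comm (lam _) (lam _), mul_inv_cancel_right, mul_inv_cancel]
        · simp [commutatorElement_def]
      rw [CfsgLib.Char.indFun_apply, CfsgLib.Char.indFun_apply]
      refine congrArg _ (Finset.sum_congr rfl fun y _ => ?_)
      obtain ⟨h, hh, he⟩ := hlam ((derivedSeries_normal G (n + 1)).conj_mem x hx y⁻¹)
      simp only [inv_inv, Subgroup.coe_subtype] at he
      rw [← he, CfsgLib.Char.extendByZero_coe, MonoidHom.mem_ker.mp hh, mul_one, inv_mul_cancel,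
        CfsgLib.Char.extendByZero_apply_mem _ _ H.one_mem]
      simp [show (⟨1, H.one_mem⟩ : H) = 1 from rfl]
  refine (Group.isSolvable_def G).mpr ⟨Nat.card G, ?_⟩
  rw [Subgroup.eq_bot_iff_forall]
  intro x hx
  refine isConj_one_left.mp (CfsgLib.Char.isConj_of_forall_eq fun χ hχ => key _ χ hχ ?_ x hx)
  have h1 := CfsgLib.Char.sum_degree_sq (G := G)
  have h2 := Finset.single_le_sum
    (f := fun φ : Cfsg.IrrCharacter G => CfsgLib.Char.degree (φ : G → ℂ) ^ 2)
    (fun _ _ => Nat.zero_le _) (Finset.mem_univ ⟨χ, hχ⟩)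
  simp only [h1] at h2
  exact (Nat.le_self_pow (by norm_num) _).trans h2

end Cfsg.Agent.S0175
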