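import Cfsg.Statements.S0177
import Cfsg.Agent.Lib.Char.PowerMap
import Mathlib.GroupTheory.SpecificGroups.Cyclic

set_option autoImplicit false
open Cfsg

namespace Cfsg.Agent.S0177

open Polynomial CfsgLib

universe u

variable {G : Type u} [Group G] [Fintype G]

/-- `|A|` on the generators of `A`, zero elsewhere. -/
noncomputable def theta (A : Subgroup G) (a : A) : ℂ :=
  open Classical in if Subgroup.zpowers (a : G) = A then (Nat.card A : ℂ) else 0

/-- `theta A * χ` is an integral combination of linear characters of a cyclic `A`. -/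
theorem exists_linear_comb (A : Subgroup G) (hA : IsCyclic A) (χ : G → ℂ)
    (hχ : Cfsg.IsCharacter G χ) :
    ∃ l : List ((A →* ℂˣ) × ℤ), ∀ a : A,
      theta A a * χ a = (l.map fun t => (t.2 : ℂ) * (t.1 a : ℂ)).sum := by
  classical
  obtain ⟨a₀, ha₀⟩ := hA.exists_generator
  set n := Nat.card A with hn
  have hn0 : 0 < n := Nat.card_pos
  have : NeZero n := ⟨hn0.ne'⟩
  have hord : orderOf a₀ = n := orderOf_eq_card_of_forall_mem_zpowers ha₀
  let ζ := Complex.exp (2 * Real.pi * Complex.I / n)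
  have hζ : IsPrimitiveRoot ζ n := Complex.isPrimitiveRoot_exp n hn0.ne'
  have hζu : orderOf (hζ.toRootsOfUnity : ℂˣ) ∣ orderOf a₀ := by
    rw [hord]
    refine orderOf_dvd_of_pow_eq_one (Units.ext ?_)
    simp [hζ.pow_eq_one]
  let lam : A →* ℂˣ := monoidHomOfForallMemZpowers ha₀ hζu
  have hlam : ∀ k : ℕ, (lam (a₀ ^ k) : ℂ) = ζ ^ k := by
    intro k
    simp [lam, map_pow]
  have hg : (a₀ : G) ^ n = 1 := by
    rw [← hord, ← Subgroup.orderOf_coe]
    exact pow_orderOf_eq_one _
  obtain ⟨P, hP⟩ := CharPower.exists_poly_of_isCharacter hχ (a₀ : G) hn0 hg hζ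
  choose c hc using fun j => CharPower.sum_primitiveRoots_pow n j
  -- value of the combination
  have hval : ∀ k : ℕ, theta A (a₀ ^ k) = ∑ j ∈ Finset.range n, (c j : ℂ) * ζ ^ (j * k) := by
    intro k
    have hprim : IsPrimitiveRoot (ζ ^ k) n ↔ Subgroup.zpowers ((a₀ ^ k : A) : G) = A := by
      rw [hζ.pow_iff_coprime hn0 k]
      have hc' : Nat.card (Subgroup.zpowers ((a₀ ^ k : A) : G)) = n / n.gcd k := by
        rw [Nat.card_zpowers, Subgroup.orderOf_coe, orderOf_pow, hord]
      constructor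
      · intro hk
        refine Subgroup.eq_of_le_of_card_ge ?_ (le_of_eq ?_)
        · exact (Subgroup.zpowers_le).mpr (a₀ ^ k : A).2
        · rw [hc', Nat.Coprime.gcd_eq_one hk.symm, Nat.div_one]
      · intro h
        rw [h, ← hn] at hc'
        have hdd := Nat.div_mul_cancel (Nat.gcd_dvd_left n k)
        rw [← hc'] at hdd
        have hgcd : n.gcd k = 1 := by
          nth_rw 3 [← mul_one n] at hdd
          exact Nat.eq_of_mul_eq_mul_left hn0 hdd
        rw [Nat.Coprime, Nat.gcd_comm]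
        exact hgcd
    have hswap : ∑ j ∈ Finset.range n, (c j : ℂ) * ζ ^ (j * k) =
        ∑ w ∈ primitiveRoots n ℂ, ∑ j ∈ Finset.range n, (w * ζ ^ k) ^ j := by
      rw [Finset.sum_comm]
      refine Finset.sum_congr rfl fun j _ => ?_
      rw [← hc j, Finset.sum_mul]
      refine Finset.sum_congr rfl fun w _ => ?_
      rw [mul_pow, ← pow_mul, mul_comm j k]
    rw [hswap]
    have hterm : ∀ w ∈ primitiveRoots n ℂ, ∑ j ∈ Finset.range n, (w * ζ ^ k) ^ j =
        if w = (ζ ^ k)⁻¹ then (n : ℂ) else 0 := by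
      intro w hw
      have hwn := ((mem_primitiveRoots hn0).mp hw).pow_eq_one
      have hk0 : ζ ^ k ≠ 0 := pow_ne_zero _ (hζ.ne_zero hn0.ne')
      by_cases h : w = (ζ ^ k)⁻¹
      · simp [h, hk0]
      · rw [if_neg h, geom_sum_eq (fun hh => h (eq_inv_of_mul_eq_one_left hh)), mul_pow, hwn,
          ← pow_mul, mul_comm k, pow_mul, hζ.pow_eq_one, one_pow, mul_one, sub_self, zero_div]
    rw [Finset.sum_congr rfl hterm, Finset.sum_ite_eq', theta, ← hn]
    by_cases h : IsPrimitiveRoot (ζ ^ k) n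
    · rw [if_pos (hprim.mp h), if_pos ((mem_primitiveRoots hn0).mpr h.inv)]
    · rw [if_neg (fun hh => h (hprim.mpr hh)),
        if_neg (fun hh => h (by simpa using ((mem_primitiveRoots hn0).mp hh).inv))]
  refine ⟨((Finset.range n) ×ˢ P.support).toList.map
    (fun x => (lam ^ (x.1 + x.2), c x.1 * P.coeff x.2)), fun a => ?_⟩
  obtain ⟨k, rfl⟩ := (mem_powers_iff_mem_zpowers).mpr (ha₀ a)
  rw [List.map_map, Finset.sum_map_toList, Finset.sum_product]
  show theta A (a₀ ^ k) * χ ((a₀ : G) ^ k) = _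
  rw [hval, hP, aeval_eq_sum_range' (Nat.lt_succ_self _), Finset.sum_mul]
  refine Finset.sum_congr rfl fun j _ => ?_
  rw [Finset.mul_sum]
  refine (Finset.sum_subset_zero_on_sdiff ?_ ?_ ?_).symm
  · intro i hi
    exact Finset.mem_range.mpr (Nat.lt_succ_of_le (le_natDegree_of_mem_supp i hi))
  · intro i hi
    simp only [Finset.mem_sdiff, mem_support_iff, not_not] at hi
    simp [hi.2]
  · intro i _
    simp only [Function.comp, MonoidHom.pow_apply, Units.val_pow_eq_pow_val, hlam, zsmul_eq_mul,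
      Int.cast_mul]
    ring

theorem result {G : Type*} [Group G] [Fintype G] (χ : G → ℂ) (hχ : Cfsg.IsCharacter G χ) : ∃ l : List ((A : Subgroup G) × ((A →* ℂˣ) × ℤ)), (∀ t ∈ l, IsCyclic t.1) ∧ (Nat.card G : ℂ) • χ = (l.map fun t => (t.2.2 : ℂ) • Cfsg.indFun t.1 (fun a => (t.2.1 a : ℂ))).sum := by
  classical
  have := Fintype.ofFinite (Subgroup G)
  choose l hl using fun A : {A : Subgroup G // IsCyclic A} => exists_linear_comb A.1 A.2 χ hχ
  refine ⟨(Finset.univ : Finset {A : Subgroup G // IsCyclic A}).toList.flatMap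
    (fun A => (l A).map (fun t => ⟨A.1, t⟩)), ?_, ?_⟩
  · intro t ht
    simp only [List.mem_flatMap, List.mem_map] at ht
    obtain ⟨A, -, s, -, rfl⟩ := ht
    exact A.2
  funext g
  rw [Pi.smul_apply, smul_eq_mul, Pi.list_sum_apply, List.map_map]
  simp only [List.map_flatMap, List.map_map]
  rw [List.flatMap_def, List.sum_flatten, List.map_map, Finset.sum_map_toList]
  have hA : ∀ A : {A : Subgroup G // IsCyclic A},
      ((List.sum ∘ fun A : {A : Subgroup G // IsCyclic A} => List.map (((fun f : G → ℂ => f g) ∘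
        fun t : ((A : Subgroup G) × ((A →* ℂˣ) × ℤ)) =>
          (t.2.2 : ℂ) • Cfsg.indFun t.1 (fun a => (t.2.1 a : ℂ))) ∘ fun t => ⟨A.1, t⟩) (l A)) A) =
      ∑ x : G, if Subgroup.zpowers (x⁻¹ * g * x) = A.1 then χ g else 0 := by
    intro A
    have key : ∀ L : List ((A.1 →* ℂˣ) × ℤ),
        (L.map fun t => (t.2 : ℂ) * Cfsg.indFun A.1 (fun a => (t.1 a : ℂ)) g).sum =
          Cfsg.indFun A.1 (fun a => (L.map fun t => (t.2 : ℂ) * (t.1 a : ℂ)).sum) g := by
      intro L
      induction L with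
      | nil =>
        have : ∀ y : G, Cfsg.extendByZero A.1 (fun _ => (0 : ℂ)) y = 0 := by
          intro y
          simp only [Cfsg.extendByZero, Function.extend_def]
          split_ifs <;> rfl
        simp [Cfsg.indFun, this]
      | cons t L ih =>
        have hsplit : ∀ y : G, Cfsg.extendByZero A.1
            (fun a => (t.2 : ℂ) * (t.1 a : ℂ) + (L.map fun t => (t.2 : ℂ) * (t.1 a : ℂ)).sum) y =
            (t.2 : ℂ) * Cfsg.extendByZero A.1 (fun a => (t.1 a : ℂ)) y +
              Cfsg.extendByZero A.1 (fun a => (L.map fun t => (t.2 : ℂ) * (t.1 a : ℂ)).sum) y := by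
          intro y
          simp only [Cfsg.extendByZero, Function.extend_def]
          split_ifs <;> simp
        simp only [List.map_cons, List.sum_cons]
        rw [ih]
        simp only [Cfsg.indFun, hsplit, Finset.sum_add_distrib, ← Finset.mul_sum]
        ring
    show (List.map (fun t => (t.2 : ℂ) * Cfsg.indFun A.1 (fun a => (t.1 a : ℂ)) g) (l A)).sum = _
    rw [key]
    simp only [← hl A, Cfsg.indFun, Finset.mul_sum]
    refine Finset.sum_congr rfl fun x _ => ?_
    by_cases hx : x⁻¹ * g * x ∈ A.1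
    · rw [show x⁻¹ * g * x = ((⟨_, hx⟩ : A.1) : G) from rfl, Cfsg.extendByZero,
        Subtype.val_injective.extend_apply, theta]
      have hχg : χ (x⁻¹ * g * x) = χ g := by
        simpa using Char.IsCharacter.isClassFunction hχ g x⁻¹
      have hne : (Nat.card A.1 : ℂ) ≠ 0 := Nat.cast_ne_zero.mpr Nat.card_pos.ne'
      simp only [hχg]
      split_ifs with h
      · rw [← mul_assoc, inv_mul_cancel₀ hne, one_mul]
      · simp
    · rw [if_neg (fun h : Subgroup.zpowers (x⁻¹ * g * x) = A.1 =>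
          hx (h ▸ Subgroup.mem_zpowers _)), Cfsg.extendByZero,
        Function.extend_apply' _ _ _ (fun ⟨a, ha⟩ => hx (ha ▸ a.2))]
      simp
  rw [Finset.sum_congr rfl (fun A _ => hA A), Finset.sum_comm,
    Finset.sum_congr rfl (g := fun _ => χ g) (fun x _ => ?_), Finset.sum_const, Finset.card_univ,
    ← Nat.card_eq_fintype_card, nsmul_eq_mul]
  rw [Finset.sum_eq_single (⟨Subgroup.zpowers (x⁻¹ * g * x),
    Subgroup.isCyclic_zpowers _⟩ : {A : Subgroup G // IsCyclic A})]
  · simp
  · intro A _ hA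
    rw [if_neg (fun h => hA (Subtype.ext h.symm))]
  · simp

end Cfsg.Agent.S0177
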