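import Cfsg.Statements.S0178
import Cfsg.Agent.Lib.Char.Kernel
import Mathlib.GroupTheory.Index

set_option autoImplicit false
open Cfsg

namespace Cfsg.Agent.S0178

open CfsgLib.CharKernel Module

theorem result {G : Type*} [Group G] [Finite G] {V : Type*} [AddCommGroup V] [Module ℂ V] [FiniteDimensional ℂ V] (ρ : Representation ℂ G V) [ρ.IsIrreducible] (A : Subgroup G) (hA : ∀ a ∈ A, ∀ b ∈ A, a * b = b * a) : Module.finrank ℂ V ≤ A.index := by
  classical
  have := nontrivial_of_irreducible ρ
  have : IsMulCommutative A := ⟨⟨fun a b => Subtype.ext (hA _ a.2 _ b.2)⟩⟩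
  obtain ⟨U, hU⟩ := exists_irreducible_sub (ρ.comp A.subtype : Representation ℂ A V)
  have h1 := Representation.IsIrreducible.finrank_eq_one_of_isMulCommutative U.toRepresentation
  obtain ⟨⟨v, hvU⟩, hv0, hspan⟩ := finrank_eq_one_iff'.mp h1
  have heig : ∀ a ∈ A, ∃ c : ℂ, ρ a v = c • v := by
    intro a ha
    obtain ⟨c, hc⟩ := hspan ⟨ρ a v, U.apply_mem_toSubmodule ⟨a, ha⟩ hvU⟩
    exact ⟨c, (congrArg Subtype.val hc).symm⟩
  let f : G ⧸ A → V := fun q => ρ q.out v
  have hmem : ∀ x : G, ρ x v ∈ Submodule.span ℂ (Set.range f) := by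
    intro x
    have hx : (QuotientGroup.mk x : G ⧸ A).out⁻¹ * x ∈ A :=
      QuotientGroup.eq.mp (QuotientGroup.out_eq' _)
    obtain ⟨c, hc⟩ := heig _ hx
    have : ρ x v = c • f (QuotientGroup.mk x) := by
      show _ = c • ρ _ v
      rw [← map_smul, ← hc, ← Module.End.mul_apply, ← map_mul, mul_inv_cancel_left]
    rw [this]
    exact Submodule.smul_mem _ _ (Submodule.subset_span ⟨_, rfl⟩)
  have hinv : ∀ g : G, ∀ w ∈ Submodule.span ℂ (Set.range f), ρ g w ∈ Submodule.span ℂ (Set.range f) := by
    intro g w hw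
    induction hw using Submodule.span_induction with
    | mem y hy =>
      obtain ⟨q, rfl⟩ := hy
      show ρ g (ρ q.out v) ∈ _
      rw [← Module.End.mul_apply, ← map_mul]
      exact hmem _
    | zero => rw [map_zero]; exact Submodule.zero_mem _
    | add a b _ _ ha hb => rw [map_add]; exact Submodule.add_mem _ ha hb
    | smul c a _ ha => rw [map_smul]; exact Submodule.smul_mem _ _ ha
  rcases eq_bot_or_eq_top ρ _ hinv with h | h
  · exfalso
    have := hmem 1
    rw [h, map_one, Submodule.mem_bot] at this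
    exact hv0 (Subtype.ext (by simpa using this))
  · have : Fintype (G ⧸ A) := Fintype.ofFinite _
    rw [Subgroup.index, Nat.card_eq_fintype_card, ← finrank_top ℂ V, ← h]
    exact finrank_range_le_card f

end Cfsg.Agent.S0178
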