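import Cfsg.Statements.S0180
import Cfsg.Agent.Lib.Char.PowerMap
import Cfsg.Agent.Lib.Char.Complete

set_option autoImplicit false
open Cfsg

namespace Cfsg.Agent.S0180

open CfsgLib

theorem result {G : Type*} [Group G] [Finite G] : (∀ χ : Cfsg.IrrCharacter G, ∀ g : G, ∃ q : ℚ, (χ : G → ℂ) g = (q : ℂ)) ↔ ∀ m : ℕ, m.Coprime (Nat.card G) → ∀ g : G, IsConj g (g ^ m) := by
  constructor
  · intro h m hm g
    refine Char.isConj_of_forall_eq fun χ hχ => ?_
    exact ((CharPower.exists_rat_iff (Char.IsIrrCharacter.isCharacter hχ) g Nat.card_pos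
      (pow_card_eq_one' (x := g))).mp (h ⟨χ, hχ⟩ g) m hm).symm
  · intro h χ g
    exact (CharPower.exists_rat_iff (Char.IsIrrCharacter.isCharacter χ.2) g Nat.card_pos
      (pow_card_eq_one' (x := g))).mpr fun m hm =>
        (Char.IsClassFunction.eq_of_isConj (Char.IsIrrCharacter.isClassFunction χ.2) (h m hm g)).symm

end Cfsg.Agent.S0180
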