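import Cfsg.Statements.S0181
import Cfsg.Agent.Lib.Char.Kernel

set_option autoImplicit false
open Cfsg

namespace Cfsg.Agent.S0181

theorem result {G : Type*} [Group G] [Finite G] {V : Type*} [AddCommGroup V] [Module ℂ V] [FiniteDimensional ℂ V] (ρ : Representation ℂ G V) [ρ.IsIrreducible] (H : Subgroup G) [H.Normal] (hker : ∃ h ∈ H, ρ h ≠ LinearMap.id) (g : G) (hg : ∀ h ∈ H, h * g = g * h → h = 1) : ρ.character g = 0 := by
  classical
  have := Fintype.ofFinite G
  have := Fintype.ofFinite H
  let f : H → H := fun h => ⟨g⁻¹ * (h : G) * g * (h : G)⁻¹, by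
    have h1 : g⁻¹ * (h : G) * g ∈ H := by
      simpa using (inferInstance : H.Normal).conj_mem _ h.2 g⁻¹
    exact H.mul_mem h1 (H.inv_mem h.2)⟩
  have hinj : Function.Injective f := by
    intro a b hab
    have h1 : g⁻¹ * (a : G) * g * (a : G)⁻¹ = g⁻¹ * (b : G) * g * (b : G)⁻¹ :=
      congrArg Subtype.val hab
    simp only [mul_assoc, mul_right_inj] at h1
    have h2 : ((b : G)⁻¹ * a) * g = g * ((b : G)⁻¹ * a) := by
      have := congrArg (fun x => (b : G)⁻¹ * x * (a : G)) h1
      simpa [mul_assoc] using this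
    have h3 := hg _ (H.mul_mem (H.inv_mem b.2) a.2) h2
    exact Subtype.ext (inv_mul_eq_one.mp h3).symm
  have hsurj : Function.Surjective f := (Finite.injective_iff_surjective).mp hinj
  have hconst : ∀ k : H, ρ.character (g * (k : G)) = ρ.character g := by
    intro k
    obtain ⟨h, rfl⟩ := hsurj k
    have : g * ((f h : H) : G) = (h : G) * g * (h : G)⁻¹ := by
      show g * (g⁻¹ * (h : G) * g * (h : G)⁻¹) = _
      simp [mul_assoc]
    rw [this, Representation.char_conj]
  have hfix := CfsgLib.CharKernel.fixedSpace_eq_bot ρ H hker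
  have hS : ∑ k : H, ρ (k : G) = 0 := by
    refine LinearMap.ext fun v => ?_
    have hv : (∑ k : H, ρ (k : G)) v ∈ CfsgLib.CharKernel.fixedSpace ρ H := by
      rw [CfsgLib.CharKernel.mem_fixedSpace]
      intro h hh
      simp only [LinearMap.sum_apply, map_sum, ← Module.End.mul_apply, ← map_mul]
      exact Fintype.sum_equiv (Equiv.mulLeft ⟨h, hh⟩) (fun k : H => ρ (h * (k : G)) v)
        (fun k : H => ρ (k : G) v) (fun k => rfl)
    rw [hfix, Submodule.mem_bot] at hv
    simpa using hv
  have hsum : (Fintype.card H : ℂ) * ρ.character g = 0 := by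
    have : ∑ k : H, ρ.character (g * (k : G)) = 0 := by
      simp only [Representation.character, map_mul, ← map_sum, ← Finset.mul_sum, hS, mul_zero,
        map_zero]
    simpa [hconst] using this
  exact (mul_eq_zero.mp hsum).resolve_left (Nat.cast_ne_zero.mpr Fintype.card_ne_zero)

end Cfsg.Agent.S0181
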