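import Cfsg.Statements.S0184
import Cfsg.Agent.Lib.Char.Kernel
import Mathlib.GroupTheory.PGroup
import Mathlib.GroupTheory.GroupAction.ConjAct
import Mathlib.LinearAlgebra.Eigenspace.Triangularizable
import Mathlib.RingTheory.IntegralDomain
import Mathlib.GroupTheory.SpecificGroups.Cyclic

set_option autoImplicit false
open Cfsg

namespace Cfsg.Agent.S0184

open CfsgLib.CharKernel Module

theorem result {G : Type*} [Group G] [Finite G] (p : ℕ) [Fact p.Prime] (hG : IsPGroup p G) : (∃ (n : ℕ) (ρ : Representation ℂ G (Fin n → ℂ)), ρ.IsIrreducible ∧ Function.Injective ρ) ↔ IsCyclic (Subgroup.center G) := by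
  classical
  constructor
  · rintro ⟨n, ρ, hρ, hinj⟩
    have := nontrivial_of_irreducible ρ
    obtain ⟨v, hv⟩ := exists_ne (0 : Fin n → ℂ)
    have hscal : ∀ z : Subgroup.center G, ∃ c : ℂ, ρ (z : G) = c • 1 := by
      intro z
      obtain ⟨c, hc⟩ := Module.End.exists_eigenvalue (ρ (z : G))
      refine ⟨c, LinearMap.ext fun w => ?_⟩
      rcases eq_bot_or_eq_top ρ (Module.End.eigenspace (ρ (z : G)) c) (fun g u hu => by
        rw [Module.End.mem_eigenspace_iff] at hu ⊢
        rw [← Module.End.mul_apply, ← map_mul, ← Subgroup.mem_center_iff.mp z.2 g, map_mul,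
          Module.End.mul_apply, hu, map_smul]) with h | h
      · exact absurd h hc
      · have : w ∈ Module.End.eigenspace (ρ (z : G)) c := h ▸ Submodule.mem_top
        simpa using Module.End.mem_eigenspace_iff.mp this
    choose c hc using hscal
    have hone : ∀ a b : ℂ, a • (1 : Module.End ℂ (Fin n → ℂ)) = b • 1 → a = b := by
      intro a b h
      have := LinearMap.congr_fun h v
      simpa using smul_left_injective ℂ hv this
    let f : Subgroup.center G →* ℂ :=
      { toFun := c
        map_one' := hone _ _ (by rw [← hc]; simp)
        map_mul' := fun a b => hone _ _ (by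
          rw [← hc, Subgroup.coe_mul, map_mul, hc, hc, smul_mul_smul_comm, mul_one]) }
    refine isCyclic_of_injective_ringHom f fun a b h => Subtype.ext (hinj ?_)
    have h' : c a = c b := h
    rw [hc a, hc b, h']
  · intro hc
    by_cases ht : Subsingleton G
    · refine ⟨1, 1, ?_, fun a b _ => Subsingleton.elim a b⟩
      refine isIrreducible_of_forall _ fun W _ => ?_
      have hl := Submodule.finrank_le W
      rw [finrank_fin_fun] at hl
      rcases Nat.eq_zero_or_pos (finrank ℂ W) with h | h
      · exact Or.inl (Submodule.finrank_eq_zero.mp h)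
      · exact Or.inr (Submodule.eq_top_of_finrank_eq (by rw [finrank_fin_fun]; omega))
    · rw [not_subsingleton_iff_nontrivial] at ht
      have hnt : Nontrivial (Subgroup.center G) := hG.center_nontrivial
      have hZ := hG.to_subgroup (Subgroup.center G)
      obtain ⟨k, hk⟩ := hZ.exists_card_eq
      have hdiv : p ∣ Nat.card (Subgroup.center G) := by
        rw [hk]
        refine dvd_pow_self p fun h0 => ?_
        have := Finite.one_lt_card (α := Subgroup.center G)
        rw [hk, h0] at this
        simp at this
      obtain ⟨z, hz⟩ := exists_prime_orderOf_dvd_card' p hdiv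
      have hz1 : (z : G) ≠ 1 := by
        intro h
        have : z = 1 := Subtype.ext h
        rw [this, orderOf_one] at hz
        exact (Fact.out : p.Prime).one_lt.ne hz
      obtain ⟨n, σ, hσ, hσz⟩ := exists_irreducible_apply_ne_one (z : G) hz1
      refine ⟨n, σ, hσ, ?_⟩
      have hker : (MonoidHom.ker (σ.asGroupHom)) = ⊥ := by
        by_contra hK
        have hnK : Nontrivial (MonoidHom.ker σ.asGroupHom) :=
          (Subgroup.nontrivial_iff_ne_bot _).mpr hK
        have hdK : p ∣ Nat.card (MonoidHom.ker σ.asGroupHom) := by
          obtain ⟨j, hj⟩ := (hG.to_subgroup (MonoidHom.ker σ.asGroupHom)).exists_card_eq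
          rw [hj]
          refine dvd_pow_self p fun h0 => ?_
          have := Finite.one_lt_card (α := MonoidHom.ker σ.asGroupHom)
          rw [hj, h0] at this
          simp at this
        have hone : (1 : MonoidHom.ker σ.asGroupHom) ∈
            MulAction.fixedPoints (ConjAct G) (MonoidHom.ker σ.asGroupHom) := by
          intro g
          exact Subtype.ext (by simp [ConjAct.Subgroup.val_conj_smul, ConjAct.smul_def])
        obtain ⟨y, hy, hy1⟩ := (hG.of_equiv ConjAct.toConjAct).exists_fixed_point_of_prime_dvd_card_of_fixed_point
          (MonoidHom.ker σ.asGroupHom) hdK hone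
        have hyZ : (y : G) ∈ Subgroup.center G := by
          rw [Subgroup.mem_center_iff]
          intro g
          have := congrArg Subtype.val (hy (ConjAct.toConjAct g))
          rw [ConjAct.Subgroup.val_conj_smul, ConjAct.toConjAct_smul] at this
          exact mul_inv_eq_iff_eq_mul.mp this
        have hmeet : Nontrivial ((MonoidHom.ker σ.asGroupHom) ⊓ Subgroup.center G : Subgroup G) :=
          (Subgroup.nontrivial_iff_ne_bot _).mpr fun hb => hy1 (Subtype.ext (by
            have hm : (y : G) ∈ ((MonoidHom.ker σ.asGroupHom) ⊓ Subgroup.center G : Subgroup G) :=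
              ⟨y.2, hyZ⟩
            rw [hb, Subgroup.mem_bot] at hm
            simpa using hm.symm))
        have hI := hG.to_subgroup ((MonoidHom.ker σ.asGroupHom) ⊓ Subgroup.center G)
        obtain ⟨m, hm⟩ := hI.exists_card_eq
        have hd : p ∣ Nat.card ((MonoidHom.ker σ.asGroupHom) ⊓ Subgroup.center G : Subgroup G) := by
          rw [hm]
          refine dvd_pow_self p fun h0 => ?_
          have := Finite.one_lt_card
            (α := ((MonoidHom.ker σ.asGroupHom) ⊓ Subgroup.center G : Subgroup G))
          rw [hm, h0] at this
          simp at this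
        obtain ⟨w, hw⟩ := exists_prime_orderOf_dvd_card' p hd
        obtain ⟨hwK, hwZ⟩ := w.2
        let w' : Subgroup.center G := ⟨w, hwZ⟩
        have hw' : orderOf w' = p := by
          rw [← Subgroup.orderOf_coe, ← hw, ← Subgroup.orderOf_coe w]
        have heq : Subgroup.zpowers w' = Subgroup.zpowers z := by
          have := Fintype.ofFinite (Subgroup.center G)
          have hcd : ∀ y : Subgroup.center G, orderOf y = p →
              ((Subgroup.zpowers y : Set (Subgroup.center G)).toFinset) =
                Finset.univ.filter (fun a => a ^ p = 1) := by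
            intro y hy
            refine Finset.eq_of_subset_of_card_le ?_ ?_
            · intro a ha
              simp only [Set.mem_toFinset, SetLike.mem_coe] at ha
              obtain ⟨i, rfl⟩ := ha
              simp only [Finset.mem_filter, Finset.mem_univ, true_and]
              rw [← zpow_natCast, ← zpow_mul, mul_comm, zpow_mul, zpow_natCast, ← hy,
                pow_orderOf_eq_one, one_zpow]
            · rw [Set.toFinset_card]
              refine le_trans (IsCyclic.card_pow_eq_one_le (Fact.out : p.Prime).pos) ?_
              have := Nat.card_zpowers y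
              rw [Nat.card_eq_fintype_card, hy] at this
              exact le_of_eq this.symm
          exact SetLike.coe_injective (Set.toFinset_inj.mp ((hcd _ hw').trans (hcd _ hz).symm))
        have hzmem : z ∈ Subgroup.zpowers w' := heq ▸ Subgroup.mem_zpowers z
        obtain ⟨i, hi⟩ := hzmem
        apply hσz
        have hzK : (z : G) ∈ MonoidHom.ker σ.asGroupHom := by
          rw [← hi]
          rw [SubgroupClass.coe_zpow]
          exact Subgroup.zpow_mem (MonoidHom.ker σ.asGroupHom) hwK i
        rw [MonoidHom.mem_ker] at hzK
        simpa [Representation.asGroupHom_apply] using congrArg Units.val hzK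
      intro a b hab
      exact (MonoidHom.ker_eq_bot_iff _).mp hker (Units.ext (by
        simpa [Representation.asGroupHom_apply] using hab))

end Cfsg.Agent.S0184
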