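import Cfsg.Statements.S0186
import Cfsg.Agent.S0185
import Cfsg.Agent.Lib.Char.Complete
import Cfsg.Agent.Lib.Char.Linear
import Mathlib.GroupTheory.PGroup

set_option autoImplicit false
open Cfsg

namespace Cfsg.Agent.S0186

open CfsgLib

theorem result {G : Type*} [Group G] [Finite G] [IsSimpleGroup G] (p : ℕ) [Fact p.Prime] (hp : p ∣ Nat.card G) (hmany : Nat.card G < p ^ 2 * Nat.card (ConjClasses G)) (P : Sylow p G) (a b : G) (ha : a ∈ P) (hb : b ∈ P) : a * b = b * a := by
  classical
  have hpp : p.Prime := Fact.out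
  by_cases hsmall : ∃ χ : Cfsg.IrrCharacter G, χ ≠ Char.principalIrr ∧ Char.degree (χ : G → ℂ) < p
  · obtain ⟨⟨χ, hχ⟩, hne, hdeg⟩ := hsmall
    obtain ⟨n, ρ, hρ, rfl⟩ := hχ
    rw [Char.degree_character] at hdeg
    have hfaith : MonoidHom.ker ρ = ⊥ := by
      rcases (MonoidHom.normal_ker ρ).eq_bot_or_eq_top with h | h
      · exact h
      · exfalso
        have htriv : ∀ g, ρ g = 1 := fun g => MonoidHom.mem_ker.mp (h ▸ Subgroup.mem_top g)
        have h1 := CharKernel.finrank_eq_one_of_trivial ρ htriv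
        exact hne (Subtype.ext (funext fun g => by
          rw [Char.principalIrr_apply]
          simp [Representation.character, htriv, LinearMap.trace_one, h1]))
    let σ : Representation ℂ (P : Subgroup G) (Fin n → ℂ) := ρ.comp (P : Subgroup G).subtype
    have hinj : Function.Injective σ := by
      intro x y hxy
      have : (x : G) * (y : G)⁻¹ ∈ MonoidHom.ker ρ := by
        rw [MonoidHom.mem_ker, map_mul, show ρ (x : G) = ρ (y : G) from hxy, ← map_mul,
          mul_inv_cancel, map_one]
      rw [hfaith, Subgroup.mem_bot] at this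
      exact Subtype.ext (mul_inv_eq_one.mp this)
    have key : ∀ q : ℕ, q.Prime → q ∣ Nat.card (P : Subgroup G) →
        Module.finrank ℂ (Fin n → ℂ) < q := by
      intro q hq hd
      obtain ⟨k, hk⟩ := (Sylow.isPGroup' P).exists_card_eq
      rw [hk] at hd
      rwa [(Nat.prime_dvd_prime_iff_eq hq hpp).mp (hq.dvd_of_dvd_pow hd)]
    exact congrArg Subtype.val
      (Cfsg.Agent.S0185.result σ hinj key (⟨a, ha⟩ : (P : Subgroup G)) ⟨b, hb⟩)
  · push Not at hsmall
    have hsum := Char.sum_degree_sq (G := G)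
    have hk := Char.card_irrCharacter (G := G)
    rw [Nat.card_eq_fintype_card] at hk
    rw [← Finset.add_sum_erase _ _ (Finset.mem_univ Char.principalIrr)] at hsum
    have hd1 : Char.degree ((Char.principalIrr : Cfsg.IrrCharacter G) : G → ℂ) = 1 := by
      simp [Char.degree, Char.principalIrr_apply]
    rw [hd1, one_pow] at hsum
    have hge : (Fintype.card (Cfsg.IrrCharacter G) - 1) * p ^ 2 ≤
        ∑ χ ∈ Finset.univ.erase (Char.principalIrr : Cfsg.IrrCharacter G),
          Char.degree (χ : G → ℂ) ^ 2 := by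
      refine le_trans (le_of_eq ?_) (Finset.card_nsmul_le_sum _ _ (p ^ 2) fun χ hχ =>
        Nat.pow_le_pow_left (hsmall χ (Finset.mem_erase.mp hχ).1) 2)
      rw [smul_eq_mul, Finset.card_erase_of_mem (Finset.mem_univ _), Finset.card_univ]
    set k := Fintype.card (Cfsg.IrrCharacter G)
    have hk1 : 0 < k := Fintype.card_pos_iff.mpr ⟨Char.principalIrr⟩
    rw [← hk] at hmany
    have hp2 : ¬ p ^ 2 ∣ Nat.card G := by
      rintro ⟨c, hc⟩
      have hlow : 1 + (k - 1) * p ^ 2 ≤ Nat.card G := by omega
      rw [hc] at hlow hmany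
      have h1 : c < k := Nat.lt_of_mul_lt_mul_left hmany
      have h2 : p ^ 2 * c ≤ p ^ 2 * (k - 1) := Nat.mul_le_mul_left _ (by omega)
      rw [mul_comm (k - 1)] at hlow
      omega
    obtain ⟨j, hj⟩ := (Sylow.isPGroup' P).exists_card_eq
    have hj1 : j ≤ 1 := by
      by_contra hcon
      exact hp2 ((pow_dvd_pow p (by omega : 2 ≤ j)).trans (hj ▸ Subgroup.card_subgroup_dvd_card _))
    have hcyc : IsCyclic (P : Subgroup G) := by
      interval_cases j
      · have : Subsingleton (P : Subgroup G) := by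
          rw [pow_zero] at hj
          exact (Nat.card_eq_one_iff_unique.mp hj).1
        exact isCyclic_of_subsingleton
      · rw [pow_one] at hj
        exact isCyclic_of_prime_card hj
    exact congrArg Subtype.val
      (IsCyclic.isMulCommutative.is_comm.comm (⟨a, ha⟩ : (P : Subgroup G)) ⟨b, hb⟩)

end Cfsg.Agent.S0186
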