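import Cfsg.Statements.S0187
import Cfsg.Agent.Lib.Char.Kernel

set_option autoImplicit false
open Cfsg

namespace Cfsg.Agent.S0187

theorem result {G : Type*} [Group G] [Finite G] : (∀ a b : G, a * b = b * a) ↔ ∀ χ : Cfsg.IrrCharacter G, (χ : G → ℂ) 1 = 1 := by
  constructor
  · intro hc χ
    obtain ⟨n, ρ, hρ, hρχ⟩ := χ.2
    have : IsMulCommutative G := ⟨⟨hc⟩⟩
    rw [← hρχ, Representation.char_one,
      Representation.IsIrreducible.finrank_eq_one_of_isMulCommutative ρ, Nat.cast_one]
  · intro h a b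
    by_contra hab
    have hne : a * b * (b * a)⁻¹ ≠ 1 := fun hh => hab (mul_inv_eq_one.mp hh)
    obtain ⟨n, σ, hσ, hσne⟩ := CfsgLib.CharKernel.exists_irreducible_apply_ne_one _ hne
    have h1 := h ⟨σ.character, n, σ, hσ, rfl⟩
    rw [show ((⟨σ.character, n, σ, hσ, rfl⟩ : Cfsg.IrrCharacter G) : G → ℂ) = σ.character from rfl,
      Representation.char_one, Module.finrank_fin_fun] at h1
    have hn : n = 1 := by exact_mod_cast h1
    subst hn
    have hcomm : ∀ f g : (Fin 1 → ℂ) →ₗ[ℂ] (Fin 1 → ℂ), f * g = g * f := by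
      intro f g
      have key : ∀ (f : (Fin 1 → ℂ) →ₗ[ℂ] (Fin 1 → ℂ)) (v : Fin 1 → ℂ),
          f v = (f (fun _ => 1) 0) • v := by
        intro f v
        have hv : v = v 0 • (fun _ => (1 : ℂ)) := by
          funext i; fin_cases i; simp
        funext i; fin_cases i
        conv_lhs => rw [hv, map_smul]
        simp [mul_comm]
      refine LinearMap.ext fun v => ?_
      simp only [Module.End.mul_apply]
      rw [key g v, map_smul, key f v, map_smul, key g v, smul_comm]
    refine hσne ?_
    rw [map_mul, map_mul, hcomm (σ a) (σ b), ← map_mul, ← map_mul, mul_inv_cancel, map_one]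

end Cfsg.Agent.S0187
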