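import Cfsg.Statements.S0188
import Cfsg.Agent.Lib.Char.Twist
import Cfsg.Agent.Lib.Char.Virtual

set_option autoImplicit false
open Cfsg

namespace Cfsg.Agent.S0188

open CfsgLib
open scoped ComplexConjugate

theorem result {G : Type*} [Group G] [Finite G] {H : Type*} [Group H] [Finite H] (θ : G × H → ℂ) : Cfsg.IsIrrCharacter (G × H) θ ↔ ∃ (φ : G → ℂ) (ψ : H → ℂ), Cfsg.IsIrrCharacter G φ ∧ Cfsg.IsIrrCharacter H ψ ∧ θ = fun x => φ x.1 * ψ x.2 := by
  classical
  cases nonempty_fintype G
  cases nonempty_fintype H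
  have hprod : ∀ (φ : G → ℂ) (ψ : H → ℂ), Cfsg.IsIrrCharacter G φ → Cfsg.IsIrrCharacter H ψ →
      Cfsg.IsIrrCharacter (G × H) (fun x => φ x.1 * ψ x.2) := by
    intro φ ψ hφ hψ
    refine Char.IsCharacter.isIrrCharacter_of_classInner_self
      (Char.IsCharacter.mul
        (CharTwist.isCharacter_comp (Char.IsIrrCharacter.isCharacter hφ) (MonoidHom.fst G H))
        (CharTwist.isCharacter_comp (Char.IsIrrCharacter.isCharacter hψ) (MonoidHom.snd G H))) ?_
    have e1 := Char.classInner_irr_self hφ
    have e2 := Char.classInner_irr_self hψ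
    have e : Cfsg.classInner (fun x : G × H => φ x.1 * ψ x.2) (fun x : G × H => φ x.1 * ψ x.2) =
        Cfsg.classInner φ φ * Cfsg.classInner ψ ψ := by
      simp only [Cfsg.classInner, Nat.card_prod, Nat.cast_mul, mul_inv, map_mul, Fintype.sum_prod_type,
        Finset.mul_sum, Finset.sum_mul]
      refine Finset.sum_comm.trans (Finset.sum_congr rfl fun h _ => Finset.sum_congr rfl fun g _ => ?_)
      ring
    rw [e1, e2, mul_one] at e
    exact e
  constructor
  · intro hθ
    by_contra hne
    push Not at hne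
    have horth : ∀ φ ψ, Cfsg.IsIrrCharacter G φ → Cfsg.IsIrrCharacter H ψ →
        ∑ g : G, (∑ h : H, θ (g, h) * conj (ψ h)) * conj (φ g) = 0 := by
      intro φ ψ hφ hψ
      have h := Char.classInner_irr_of_ne hθ (hprod φ ψ hφ hψ) (hne φ ψ hφ hψ)
      simp only [Cfsg.classInner, mul_eq_zero, inv_eq_zero, Nat.cast_eq_zero,
        Nat.card_pos.ne', false_or, Fintype.sum_prod_type, map_mul] at h
      rw [← h]
      refine Finset.sum_congr rfl fun g _ => ?_
      rw [Finset.sum_mul]
      exact Finset.sum_congr rfl fun h _ => by ring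
    have hcl := Char.IsIrrCharacter.isClassFunction hθ
    have hF : ∀ ψ, Cfsg.IsIrrCharacter H ψ →
        (fun g : G => ∑ h : H, θ (g, h) * conj (ψ h)) = 0 := by
      intro ψ hψ
      refine Char.eq_zero_of_forall_classInner_eq_zero ?_ fun φ hφ => ?_
      · intro g x
        refine Finset.sum_congr rfl fun h _ => ?_
        have := hcl (g, h) (x, 1)
        simp only [Prod.mk_mul_mk, Prod.inv_mk, inv_one, mul_one, one_mul] at this
        rw [this]
      · rw [Cfsg.classInner, horth φ ψ hφ hψ, mul_zero]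
    have hzero : θ = 0 := by
      funext ⟨g, h⟩
      have : (fun h : H => θ (g, h)) = 0 := by
        refine Char.eq_zero_of_forall_classInner_eq_zero ?_ fun ψ hψ => ?_
        · intro y x
          have := hcl (g, y) (1, x)
          simp only [Prod.mk_mul_mk, Prod.inv_mk, inv_one, mul_one, one_mul] at this
          exact this
        · rw [Cfsg.classInner, congrFun (hF ψ hψ) g, Pi.zero_apply, mul_zero]
      exact congrFun this h
    exact Char.IsIrrCharacter.apply_one_ne_zero hθ (congrFun hzero 1)
  · rintro ⟨φ, ψ, hφ, hψ, rfl⟩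
    exact hprod φ ψ hφ hψ

end Cfsg.Agent.S0188
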