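import Cfsg.Statements.S0191
import Cfsg.Agent.Lib.Char.PowerMap
import Mathlib.Analysis.SpecialFunctions.Log.Basic
import Mathlib.GroupTheory.OrderOfElement

set_option autoImplicit false
open Cfsg

namespace Cfsg.Agent.S0191

open Polynomial CfsgLib

theorem result {G : Type*} [Group G] [Finite G] {V : Type*} [AddCommGroup V] [Module ℂ V] [FiniteDimensional ℂ V] (ρ : Representation ℂ G V) [ρ.IsIrreducible] (hdeg : 1 < Module.finrank ℂ V) : ∃ g : G, ρ.character g = 0 := by
  classical
  have := Fintype.ofFinite G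
  by_contra hno
  push Not at hno
  set N := Nat.card G with hN
  have hN0 : 0 < N := Nat.card_pos
  let ζ := Complex.exp (2 * Real.pi * Complex.I / N)
  have hζ : IsPrimitiveRoot ζ N := Complex.isPrimitiveRoot_exp N hN0.ne'
  choose P hP using fun g : G => CharPower.exists_poly ρ g hN0 (pow_card_eq_one' (x := g)) hζ
  let Q : ℤ[X] := ∏ g ∈ Finset.univ.erase (1 : G), P g
  set x : ℂ := ∏ g ∈ Finset.univ.erase (1 : G), ρ.character g with hx
  have hQ : ∀ k : ℕ, aeval (ζ ^ k) Q = ∏ g ∈ Finset.univ.erase (1 : G), ρ.character (g ^ k) := by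
    intro k
    simp only [Q, map_prod]
    exact Finset.prod_congr rfl fun g _ => (hP g k).symm
  have hQ1 : aeval ζ Q = x := by
    have := hQ 1
    simpa using this
  have hinv : ∀ η : ℂ, IsPrimitiveRoot η N → aeval η Q = aeval ζ Q := by
    intro η hη
    have : NeZero N := ⟨hN0.ne'⟩
    obtain ⟨m, -, rfl⟩ := hζ.eq_pow_of_pow_eq_one hη.pow_eq_one
    have hm : m.Coprime N := (hζ.pow_iff_coprime hN0 m).mp hη
    rw [hQ1, hQ]
    refine Finset.prod_equiv (powCoprime (G := G) (n := m) hm.symm) (fun g => ?_) (fun g _ => rfl)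
    simp only [Finset.mem_erase, Finset.mem_univ, and_true, ne_eq, powCoprime_apply]
    exact (not_congr (CharPower.pow_eq_one_iff_of_coprime hm g)).symm
  obtain ⟨q, hq⟩ := CharPower.exists_rat_of_aeval_const hN0 hζ Q hinv
  rw [hQ1] at hq
  have hint : IsIntegral ℤ x := IsIntegral.prod _ fun g _ => Char.isIntegral_character ρ g
  obtain ⟨z, hz⟩ := Char.exists_int_of_isIntegral_ratCast (q := q) (hq ▸ hint)
  have hxz : x = (z : ℂ) := by rw [hq, ← hz]; simp
  have hx0 : x ≠ 0 := Finset.prod_ne_zero_iff.mpr fun g _ => hno g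
  have hz0 : z ≠ 0 := fun h => hx0 (by rw [hxz, h]; simp)
  have h1 : (1 : ℝ) ≤ ∏ g ∈ Finset.univ.erase (1 : G), ‖ρ.character g‖ ^ 2 := by
    rw [Finset.prod_pow, ← norm_prod, ← hx, hxz, Complex.norm_intCast]
    exact one_le_pow₀ (by exact_mod_cast Int.one_le_abs hz0)
  have h2 : 0 ≤ ∑ g ∈ Finset.univ.erase (1 : G), (‖ρ.character g‖ ^ 2 - 1) := by
    refine le_trans (Real.log_nonneg h1) ?_
    rw [Real.log_prod (fun g _ => pow_ne_zero 2 (norm_ne_zero_iff.mpr (hno g)))]
    exact Finset.sum_le_sum fun g _ =>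
      Real.log_le_sub_one_of_pos (pow_pos (norm_pos_iff.mpr (hno g)) 2)
  have h3 : ∑ g, ‖ρ.character g‖ ^ 2 = (N : ℝ) := by
    have h := Char.sum_char_mul_char_inv ρ
    have h' : ∑ g, ((‖ρ.character g‖ ^ 2 : ℝ) : ℂ) = (N : ℂ) := by
      rw [hN, ← h]
      refine Finset.sum_congr rfl fun g _ => ?_
      rw [Char.character_inv, Complex.conj_mul']
      push_cast
      rfl
    rw [← Complex.ofReal_sum] at h'
    exact_mod_cast h'
  rw [Finset.sum_sub_distrib, Finset.sum_erase_eq_sub (Finset.mem_univ _), h3, Finset.sum_const,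
    Finset.card_erase_of_mem (Finset.mem_univ _), Finset.card_univ, ← Nat.card_eq_fintype_card,
    ← hN, nsmul_eq_mul, mul_one, Nat.cast_sub hN0, Representation.char_one,
    Complex.norm_natCast] at h2
  have : (2 : ℝ) ≤ (Module.finrank ℂ V : ℝ) := by exact_mod_cast hdeg
  push_cast at h2
  nlinarith

end Cfsg.Agent.S0191
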