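import Cfsg.Statements.S0192
import Cfsg.Agent.Lib.Char.Kernel

set_option autoImplicit false
open Cfsg

namespace Cfsg.Agent.S0192

open CfsgLib.CharKernel Module

theorem result {G : Type*} [Group G] [Fintype G] [IsSimpleGroup G] (H₁ H₂ : Subgroup G) [Fintype H₁] [Fintype H₂] [Fintype ↥(H₁ ⊓ H₂)] (χ : G → ℂ) (hχ : Cfsg.IsIrrCharacter G χ) (hχ1 : χ ≠ fun _ => 1) (hlt : (Cfsg.classInner (fun x : ↥(H₁ ⊓ H₂) => χ x) (fun _ => 1)).re < (Cfsg.classInner (fun x : H₁ => χ x) (fun _ => 1)).re + (Cfsg.classInner (fun x : H₂ => χ x) (fun _ => 1)).re) : H₁ ⊔ H₂ ≠ ⊤ := by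
  obtain ⟨n, ρ, hρ, rfl⟩ := hχ
  intro htop
  have hdim : ∀ (H : Subgroup G) [Fintype H],
      (Cfsg.classInner (fun x : H => ρ.character x) (fun _ => 1)).re =
        (finrank ℂ (fixedSpace ρ H) : ℝ) := by
    intro H _
    have : Invertible (Nat.card H : ℂ) :=
      invertibleOfNonzero (Nat.cast_ne_zero.mpr Nat.card_pos.ne')
    have := Representation.card_inv_mul_sum_char_eq_finrank
      (ρ.comp H.subtype : Representation ℂ H (Fin n → ℂ))
    have h2 : Cfsg.classInner (fun x : H => ρ.character x) (fun _ => 1) =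
        ((finrank ℂ (fixedSpace ρ H) : ℕ) : ℂ) := by
      unfold Cfsg.classInner
      simp only [map_one, mul_one]
      exact this
    rw [h2, Complex.natCast_re]
  rw [hdim, hdim, hdim] at hlt
  have hinf : fixedSpace ρ H₁ ⊓ fixedSpace ρ H₂ = ⊥ := by
    have hinv : ∀ v ∈ fixedSpace ρ H₁ ⊓ fixedSpace ρ H₂, ∀ g : G, ρ g v = v := by
      rintro v ⟨h1, h2⟩
      simp only [SetLike.mem_coe, mem_fixedSpace] at h1 h2
      intro g
      have hg : g ∈ Subgroup.closure ((H₁ : Set G) ∪ H₂) := by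
        rw [Subgroup.closure_union, Subgroup.closure_eq, Subgroup.closure_eq, htop]; trivial
      induction hg using Subgroup.closure_induction with
      | mem x hx => exact hx.elim (h1 x) (h2 x)
      | one => simp
      | mul a b _ _ ha hb => rw [map_mul, Module.End.mul_apply, hb, ha]
      | inv a _ ha =>
        conv_lhs => rw [← ha]
        rw [← Module.End.mul_apply, ← map_mul]
        simp
    rcases eq_bot_or_eq_top ρ _ (fun g v hv => by rw [hinv v hv g]; exact hv) with h | h
    · exact h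
    · exfalso
      have htriv : ∀ g, ρ g = 1 := fun g => LinearMap.ext fun v => by
        simpa using hinv v (h ▸ Submodule.mem_top) g
      have h1 := finrank_eq_one_of_trivial ρ htriv
      refine hχ1 (funext fun g => ?_)
      simp [Representation.character, htriv, LinearMap.trace_one, h1]
  have hle : fixedSpace ρ H₁ ⊔ fixedSpace ρ H₂ ≤ fixedSpace ρ (H₁ ⊓ H₂) := by
    refine sup_le ?_ ?_ <;> intro v hv <;> rw [mem_fixedSpace] at hv ⊢ <;> intro h hh
    · exact hv h hh.1
    · exact hv h hh.2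
  have h := Submodule.finrank_sup_add_finrank_inf_eq (fixedSpace ρ H₁) (fixedSpace ρ H₂)
  rw [hinf, finrank_bot, add_zero] at h
  have h' := Submodule.finrank_mono hle
  have : (finrank ℂ (fixedSpace ρ H₁) : ℝ) + finrank ℂ (fixedSpace ρ H₂) ≤
      finrank ℂ (fixedSpace ρ (H₁ ⊓ H₂)) := by
    exact_mod_cast h ▸ h'
  exact absurd hlt (not_lt.mpr this)

end Cfsg.Agent.S0192
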