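import Cfsg.Statements.S0195

set_option autoImplicit false
open Cfsg

namespace Cfsg.Agent.S0195

theorem result {G : Type*} [Group G] [Finite G] (A : Subgroup G) (hA : ∀ x ∈ A, x ≠ 1 → Subgroup.centralizer ({x} : Set G) = A) (g : G) (hg : g ∉ Subgroup.normalizer (A : Set G)) (x : G) (hx : x ∈ A) (hgx : g * x * g⁻¹ ∈ A) : x = 1 := by
  by_contra hx1
  refine hg ?_
  rw [Subgroup.mem_normalizer_iff]
  intro a
  have hy : g * x * g⁻¹ ≠ 1 := fun h => hx1 (conj_eq_one_iff.mp h)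
  have h1 : a ∈ A ↔ a ∈ Subgroup.centralizer ({x} : Set G) := by rw [hA x hx hx1]
  have h2 : g * a * g⁻¹ ∈ A ↔ g * a * g⁻¹ ∈ Subgroup.centralizer ({g * x * g⁻¹} : Set G) := by
    rw [hA _ hgx hy]
  rw [h1, h2, Subgroup.mem_centralizer_singleton_iff, Subgroup.mem_centralizer_singleton_iff,
    conj_mul, conj_mul, mul_left_inj, mul_right_inj]

end Cfsg.Agent.S0195
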