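import Cfsg.Statements.S0196
import Mathlib.GroupTheory.GroupAction.Quotient
import Mathlib.GroupTheory.GroupAction.ConjAct
import Mathlib.SetTheory.Cardinal.Finite
import Mathlib.Algebra.BigOperators.Ring.Finset

set_option autoImplicit false
open Cfsg

namespace Cfsg.Agent.S0196

theorem result {G : Type*} [Group G] [Finite G] (A : Subgroup G) (hA : ∀ x ∈ A, x ≠ 1 → Subgroup.centralizer ({x} : Set G) = A) : (A.subgroupOf (Subgroup.normalizer (A : Set G))).index ∣ Nat.card A - 1 := by
  classical
  let N := Subgroup.normalizer (A : Set G)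
  let X := {x : G // x ∈ A ∧ x ≠ 1}
  let _act : MulAction N X :=
    { smul := fun n x => ⟨(n : G) * x.1 * (n : G)⁻¹,
        (Subgroup.mem_normalizer_iff.mp n.2 x.1).mp x.2.1,
        fun h => x.2.2 (conj_eq_one_iff.mp h)⟩
      one_smul := fun x => Subtype.ext (by show (1 : G) * x.1 * (1 : G)⁻¹ = x.1; simp)
      mul_smul := fun a b x => Subtype.ext (by
        show ((a : G) * b) * x.1 * ((a : G) * b)⁻¹ = (a : G) * ((b : G) * x.1 * (b : G)⁻¹) * (a : G)⁻¹
        simp [mul_assoc]) }
  have hstab : ∀ x : X, MulAction.stabilizer N x = A.subgroupOf N := by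
    intro x
    ext n
    rw [MulAction.mem_stabilizer_iff, Subgroup.mem_subgroupOf]
    constructor
    · intro h
      have h' : (n : G) * x.1 * (n : G)⁻¹ = x.1 := congrArg Subtype.val h
      rw [← hA x.1 x.2.1 x.2.2, Subgroup.mem_centralizer_singleton_iff]
      exact mul_inv_eq_iff_eq_mul.mp h'
    · intro h
      rw [← hA x.1 x.2.1 x.2.2, Subgroup.mem_centralizer_singleton_iff] at h
      exact Subtype.ext (mul_inv_eq_iff_eq_mul.mpr h)
  have hcard : Nat.card X = Nat.card A - 1 := by
    have e : {a : A // a ≠ 1} ≃ X :=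
      { toFun := fun a => ⟨a.1.1, a.1.2, fun h => a.2 (Subtype.ext h)⟩
        invFun := fun x => ⟨⟨x.1, x.2.1⟩, fun h => x.2.2 (congrArg Subtype.val h)⟩
        left_inv := fun a => rfl
        right_inv := fun x => rfl }
    have : Fintype A := Fintype.ofFinite A
    rw [← Nat.card_congr e, Nat.card_eq_fintype_card, Nat.card_eq_fintype_card,
      Fintype.card_subtype_compl, Fintype.card_subtype_eq]
  have hsum := Nat.card_congr (MulAction.selfEquivSigmaOrbitsQuotientStabilizer N X)
  have : Fintype (Quotient (MulAction.orbitRel N X)) := Fintype.ofFinite _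
  rw [Nat.card_sigma, hcard] at hsum
  rw [hsum]
  refine Finset.dvd_sum fun ω _ => ?_
  rw [← Subgroup.index, hstab]

end Cfsg.Agent.S0196
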