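import Cfsg.Statements.S0216
import Cfsg.Agent.Lib.Invol.Isolated

set_option autoImplicit false
open Cfsg

namespace Cfsg.Agent.S0216

/-- For an involution u in a Sylow 2-subgroup P of a finite group G, the following are equivalent: no G-conjugate of u other than u lies in P; every commutator of u with an element of G has odd order. -/
theorem result {G : Type*} [Group G] [Finite G] (P : Sylow 2 G) (u : G) (hu : orderOf u = 2) (huP : u ∈ P) : (∀ g : G, g * u * g⁻¹ ∈ P → g * u * g⁻¹ = u) ↔ (∀ g : G, Odd (orderOf (u * g * u⁻¹ * g⁻¹))) := by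
  have hform : ∀ g : G, u * g * u⁻¹ * g⁻¹ = u * (g * u * g⁻¹) := fun g => by
    rw [CfsgLib.Invol.inv_eq_self hu]; group
  constructor
  · intro hiso g
    have hI := CfsgLib.Invol.isIsolatedInvolution_of_sylow P hu hiso
    have h := CfsgLib.TwoFusion.Isolated.odd_orderOf_conj_mul hI g
    rw [← orderOf_inv, mul_inv_rev, mul_inv_rev, mul_inv_rev, inv_inv,
      CfsgLib.Invol.inv_eq_self hu, ← mul_assoc g u g⁻¹] at h
    rw [hform]
    exact h
  · intro hodd g hg
    have hmem : u * g * u⁻¹ * g⁻¹ ∈ P := hform g ▸ mul_mem huP hg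
    obtain ⟨k, hk⟩ := P.isPGroup' ⟨_, hmem⟩
    have hk' : (u * g * u⁻¹ * g⁻¹) ^ 2 ^ k = 1 := congrArg Subtype.val hk
    obtain ⟨i, -, hi⟩ := (Nat.dvd_prime_pow Nat.prime_two).1 (orderOf_dvd_of_pow_eq_one hk')
    have h0 : i = 0 := by
      rcases Nat.eq_zero_or_pos i with h | h
      · exact h
      · exfalso
        exact (Nat.not_even_iff_odd.2 (hodd g))
          (hi ▸ even_iff_two_dvd.2 (dvd_pow_self 2 h.ne'))
    rw [h0, pow_zero, orderOf_eq_one_iff, hform, mul_eq_one_iff_eq_inv] at hi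
    rw [eq_inv_iff_mul_eq_one, ← eq_inv_iff_mul_eq_one] at hi
    calc g * u * g⁻¹ = (g * u * g⁻¹)⁻¹⁻¹ := (inv_inv _).symm
      _ = u⁻¹ := by rw [← hi]
      _ = u := CfsgLib.Invol.inv_eq_self hu

end Cfsg.Agent.S0216
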