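import Cfsg.Statements.S0218
import Mathlib.GroupTheory.SpecificGroups.Quaternion
import Mathlib.SetTheory.Cardinal.Finite

set_option autoImplicit false
open Cfsg

namespace Cfsg.Agent.S0218

/-- The generalized quaternion group of order 2^(n+3) contains exactly one element of order 2. -/
theorem result (n : ℕ) : Nat.card {x : QuaternionGroup (2 ^ (n + 1)) // orderOf x = 2} = 1 := by
  set m := 2 ^ (n + 1) with hm
  have hm0 : 0 < m := Nat.two_pow_pos _
  have : NeZero m := ⟨hm0.ne'⟩
  have hval : ((m : ZMod (2 * m))).val = m := ZMod.val_natCast_of_lt (by omega)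
  rw [Nat.card_eq_one_iff_unique]
  refine ⟨⟨?_⟩, ⟨⟨QuaternionGroup.a (m : ZMod (2 * m)), ?_⟩⟩⟩
  · have key : ∀ x : QuaternionGroup m, orderOf x = 2 → x = QuaternionGroup.a (m : ZMod (2 * m)) := by
      rintro (i | i) hx
      · rw [QuaternionGroup.orderOf_a] at hx
        have hd := Nat.gcd_dvd_right (2 * m) i.val
        have hg : Nat.gcd (2 * m) i.val = m := by
          have := Nat.div_mul_cancel (Nat.gcd_dvd_left (2 * m) i.val)
          rw [hx] at this
          omega
        rw [hg] at hd
        have hlt := ZMod.val_lt i
        have hne : i.val ≠ 0 := fun h => by rw [h, Nat.gcd_zero_right] at hg; omega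
        obtain ⟨c, hc⟩ := hd
        have : c = 1 := by
          rcases c with _ | _ | c
          · exact absurd (hc.trans (Nat.mul_zero m)) hne
          · rfl
          · exfalso
            have := Nat.mul_le_mul_left m (show 2 ≤ c + 1 + 1 by omega)
            omega
        rw [this, mul_one] at hc
        congr 1
        rw [← ZMod.natCast_zmod_val i, hc]
      · rw [QuaternionGroup.orderOf_xa] at hx
        omega
    intro a b
    exact Subtype.ext ((key _ a.2).trans (key _ b.2).symm)
  · rw [QuaternionGroup.orderOf_a, hval, Nat.gcd_mul_left_left,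
      Nat.mul_div_cancel _ hm0]

end Cfsg.Agent.S0218
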