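import Cfsg.Statements.S0220
import Cfsg.Agent.S0219
import Cfsg.Agent.Lib.Invol.StronglyEmbedded
import Mathlib.GroupTheory.Nilpotent
import Mathlib.GroupTheory.SpecificGroups.Cyclic

set_option autoImplicit false
open Cfsg

namespace Cfsg.Agent.S0220

/-- If x is an involution of a finite group G and a Sylow 2-subgroup of the centralizer of x is cyclic, then G has a subgroup of index 2; in particular G is not simple unless it has order 2. -/
theorem result {G : Type*} [Group G] [Finite G] (x : G) (hx : orderOf x = 2) (S : Sylow 2 ↥(Subgroup.centralizer ({x} : Set G))) (hS : IsCyclic (S : Subgroup ↥(Subgroup.centralizer ({x} : Set G)))) : ∃ H : Subgroup G, H.index = 2 := by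
  classical
  have : Fact (Nat.Prime 2) := ⟨Nat.prime_two⟩
  revert S
  generalize hC : Subgroup.centralizer ({x} : Set G) = C
  intro S hS
  have hmC : ∀ a : G, a ∈ C ↔ a * x = x * a := fun a => by
    rw [← hC]; exact Subgroup.mem_centralizer_singleton_iff
  have hxC : x ∈ C := (hmC x).2 rfl
  have hnorm : (Subgroup.zpowers (⟨x, hxC⟩ : ↥C)).Normal := ⟨fun n hn g => by
    obtain ⟨i, rfl⟩ := Subgroup.mem_zpowers_iff.1 hn
    have hc : Commute g (⟨x, hxC⟩ : ↥C) := Subtype.ext ((hmC g).1 g.2)
    rw [(hc.zpow_right i).eq, mul_inv_cancel_right]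
    exact Subgroup.zpow_mem_zpowers _ _⟩
  have hxS : (⟨x, hxC⟩ : ↥C) ∈ S := by
    obtain ⟨Q, hQ⟩ := (IsPGroup.of_card (G := Subgroup.zpowers (⟨x, hxC⟩ : ↥C)) (p := 2) (n := 1)
      (by rw [Nat.card_zpowers, Subgroup.orderOf_mk, hx, pow_one])).exists_le_sylow
    obtain ⟨a, rfl⟩ := MulAction.exists_smul_eq ↥C S Q
    have h := hQ (hnorm.conj_mem _ (Subgroup.mem_zpowers _) a)
    exact (Subgroup.smul_mem_pointwise_smul_iff (a := MulAut.conj a) (x := (⟨x, hxC⟩ : ↥C))
      (S := (S : Subgroup ↥C))).1 h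
  set S' : Subgroup G := (S : Subgroup ↥C).map C.subtype with hS'
  obtain ⟨T, hT⟩ := (S.isPGroup'.map C.subtype).exists_le_sylow
  have huniq : ∀ y ∈ S', orderOf y = 2 → y = x := by
    rintro _ ⟨y, hy, rfl⟩ hy2
    by_contra hne
    have := Fintype.ofFinite (S : Subgroup ↥C)
    have hb := IsCyclic.card_pow_eq_one_le (α := (S : Subgroup ↥C)) (n := 2) (by norm_num)
    have hsub : ({1, ⟨y, hy⟩, ⟨_, hxS⟩} : Finset (S : Subgroup ↥C)) ⊆
        Finset.univ.filter fun a : (S : Subgroup ↥C) => a ^ 2 = 1 := by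
      intro a ha
      simp only [Finset.mem_insert, Finset.mem_singleton] at ha
      rw [Finset.mem_filter]
      refine ⟨Finset.mem_univ _, ?_⟩
      rcases ha with rfl | rfl | rfl
      · simp
      · have e : C.subtype y ^ 2 = 1 := by rw [pow_two]; exact CfsgLib.Invol.mul_self_eq_one hy2
        exact Subtype.ext (Subtype.ext e)
      · have e : x ^ 2 = 1 := by rw [pow_two]; exact CfsgLib.Invol.mul_self_eq_one hx
        exact Subtype.ext (Subtype.ext e)
    have h3 := (Finset.card_le_card hsub).trans hb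
    rw [Finset.card_insert_of_notMem, Finset.card_pair] at h3
    · omega
    · exact fun h => hne (congrArg (fun a : (S : Subgroup ↥C) => ((a : ↥C) : G)) h)
    · simp only [Finset.mem_insert, Finset.mem_singleton, not_or]
      exact ⟨fun h => CfsgLib.Invol.ne_one_of_invol hy2
          (congrArg (fun a : (S : Subgroup ↥C) => ((a : ↥C) : G)) h).symm,
        fun h => CfsgLib.Invol.ne_one_of_invol hx
          (congrArg (fun a : (S : Subgroup ↥C) => ((a : ↥C) : G)) h).symm⟩
  have heq : S' = (T : Subgroup G) := by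
    by_contra hne
    have hlt : S'.subgroupOf (T : Subgroup G) < ⊤ := by
      refine lt_top_iff_ne_top.2 fun h => hne (le_antisymm hT ?_)
      exact Subgroup.subgroupOf_eq_top.1 h
    have : Group.IsNilpotent (T : Subgroup G) := T.isPGroup'.isNilpotent
    obtain ⟨g, hgN, hgS⟩ := SetLike.exists_of_lt
      (Group.normalizerCondition_of_isNilpotent _ hlt)
    apply hgS
    have hgC : (g : G) ∈ C := by
      have h := (Subgroup.mem_normalizer_iff.1 hgN ⟨x, hT ⟨_, hxS, rfl⟩⟩).1
        (show x ∈ S' from ⟨_, hxS, rfl⟩)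
      have h' : (g : G) * x * (g : G)⁻¹ ∈ S' := h
      have := huniq _ h' (by rw [CfsgLib.Invol.orderOf_conj, hx])
      rw [mul_inv_eq_iff_eq_mul] at this
      exact (hmC _).2 this
    have hTC : IsPGroup 2 ((T : Subgroup G).comap C.subtype) :=
      T.isPGroup'.comap_of_injective _ C.subtype_injective
    have hmax := S.is_maximal' hTC (fun a ha => hT ⟨a, ha, rfl⟩)
    exact ⟨⟨g, hgC⟩, hmax ▸ g.2, rfl⟩
  have hcyc : IsCyclic (T : Subgroup G) := by
    have hcS' : IsCyclic S' := (Subgroup.equivMapOfInjective _ _ C.subtype_injective).isCyclic.1 hS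
    rwa [← heq]
  exact Cfsg.Agent.S0219.result
    (CfsgLib.Invol.even_card_of_orderOf_two_mem (K := ⊤) hx trivial |> fun h => by
      rwa [Subgroup.card_top] at h) T hcyc

end Cfsg.Agent.S0220
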