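import Cfsg.Statements.S0226
import Cfsg.Agent.Lib.Invol.Dihedral
import Mathlib.Algebra.BigOperators.Group.Finset.Basic
import Mathlib.Data.ZMod.Basic
import Mathlib.SetTheory.Cardinal.Finite

set_option autoImplicit false
open Cfsg

namespace Cfsg.Agent.S0226

/-- A finite group of even order has an odd number of involutions. -/
theorem result {G : Type*} [Group G] [Finite G] (heven : Even (Nat.card G)) : Odd (Nat.card {t : G // orderOf t = 2}) := by
  classical
  have : Fintype G := Fintype.ofFinite G
  rw [Nat.card_eq_fintype_card, Fintype.card_subtype]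
  rw [Nat.card_eq_fintype_card] at heven
  have h0 : ∑ _g ∈ Finset.univ.filter (fun g : G => g * g ≠ 1), (1 : ZMod 2) = 0 := by
    refine Finset.sum_involution (fun g _ => g⁻¹) (fun g _ => by decide) ?_ ?_ (fun g _ => inv_inv g)
    · intro g hg _ h
      simp only [Finset.mem_filter] at hg
      apply hg.2
      nth_rw 1 [← h]
      exact inv_mul_cancel g
    · intro g hg
      simp only [Finset.mem_filter, Finset.mem_univ, true_and] at hg ⊢
      intro h
      apply hg
      rw [← mul_inv_rev, inv_eq_one] at h
      exact h
  rw [Finset.sum_const, nsmul_one, ZMod.natCast_eq_zero_iff_even] at h0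
  have hsplit := Finset.card_filter_add_card_filter_not (s := (Finset.univ : Finset G))
    (fun g : G => g * g ≠ 1)
  have hins : Finset.univ.filter (fun g : G => ¬ g * g ≠ 1) =
      insert 1 (Finset.univ.filter fun g : G => orderOf g = 2) := by
    ext g
    simp only [Finset.mem_filter, Finset.mem_univ, true_and, Finset.mem_insert, not_not]
    constructor
    · intro h
      by_cases h1 : g = 1
      · exact Or.inl h1
      · exact Or.inr (CfsgLib.Invol.orderOf_eq_two h1 h)
    · rintro (rfl | h)
      · exact one_mul 1
      · exact CfsgLib.Invol.mul_self_eq_one h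
  rw [hins, Finset.card_insert_of_notMem (by simp), Finset.card_univ] at hsplit
  obtain ⟨a, ha⟩ := heven
  obtain ⟨b, hb⟩ := h0
  exact Nat.odd_iff.2 (by omega)

end Cfsg.Agent.S0226
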