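import Cfsg.Statements.S0228
import Cfsg.Agent.Lib.Invol.Dihedral
import Mathlib.GroupTheory.Sylow
import Mathlib.GroupTheory.SpecificGroups.Alternating
import Mathlib.Data.Fintype.Perm

set_option autoImplicit false
open Cfsg

namespace Cfsg.Agent.S0228

/-- A group of order 12 in which no involution is central is isomorphic to the alternating group on four letters. -/
theorem result {G : Type*} [Group G] [Finite G] (hG : Nat.card G = 12) (hz : ∀ z : G, orderOf z = 2 → z ∉ Subgroup.center G) : Nonempty (G ≃* alternatingGroup (Fin 4)) := by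
  classical
  have : Fact (Nat.Prime 3) := ⟨Nat.prime_three⟩
  have : Fact (Nat.Prime 2) := ⟨Nat.prime_two⟩
  obtain ⟨P⟩ : Nonempty (Sylow 3 G) := inferInstance
  have hPcard : Nat.card (P : Subgroup G) = 3 := by
    obtain ⟨k, hk⟩ := P.isPGroup'.exists_card_eq
    have h1 : Nat.card (P : Subgroup G) ∣ 12 := hG ▸ Subgroup.card_subgroup_dvd_card _
    have h3 : (3 : ℕ) ∣ Nat.card (P : Subgroup G) := P.dvd_card_of_dvd_card (by rw [hG]; norm_num)
    rw [hk] at h1 h3 ⊢
    rcases k with _ | _ | k
    · norm_num at h3
    · rfl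
    · exfalso
      have h9 : 9 ∣ 12 := (Dvd.intro_left (3 ^ k) (by ring)).trans h1
      norm_num at h9
  have hn : Nat.card (Sylow 3 G) = 1 ∨ Nat.card (Sylow 3 G) = 4 := by
    have hmod := card_sylow_modEq_one 3 G
    have hdvd := P.card_dvd_index
    have hi := Subgroup.card_mul_index (P : Subgroup G)
    rw [hPcard, hG] at hi
    rw [show (P : Subgroup G).index = 4 by omega] at hdvd
    have hle := Nat.le_of_dvd (by norm_num) hdvd
    unfold Nat.ModEq at hmod
    omega
  rcases hn with hn1 | hn4
  · exfalso
    have hsub : Subsingleton (Sylow 3 G) := (Nat.card_eq_one_iff_unique.1 hn1).1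
    have hPn : (P : Subgroup G).Normal := by
      refine ⟨fun a ha g => ?_⟩
      have h : g • P = P := Subsingleton.elim _ _
      have h2 : g * a * g⁻¹ ∈ g • P := (Subgroup.smul_mem_pointwise_smul_iff (a := MulAut.conj g)
        (x := a) (S := (P : Subgroup G))).2 ha
      rwa [h] at h2
    obtain ⟨u, hu⟩ := exists_prime_orderOf_dvd_card' 3 (G := (P : Subgroup G)) (by rw [hPcard])
    have hu' : orderOf (u : G) = 3 := by rw [Subgroup.orderOf_coe, hu]
    have hgen : ∀ a ∈ (P : Subgroup G), a = 1 ∨ a = u ∨ a = u * u := by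
      intro a ha
      have hz : Subgroup.zpowers (u : G) = P :=
        Subgroup.eq_of_le_of_card_ge (Subgroup.zpowers_le.2 u.2)
          (by rw [Nat.card_zpowers, hu', hPcard])
      rw [← hz] at ha
      obtain ⟨i, hi, rfl⟩ := Finset.mem_image.1 ((mem_zpowers_iff_mem_range_orderOf (x := (u : G))).1 ha)
      rw [Finset.mem_range, hu'] at hi
      interval_cases i
      · simp
      · simp
      · exact Or.inr (Or.inr (pow_two _))
    set C := Subgroup.centralizer ({(u : G)} : Set G)
    have hu1 : (u : G) ≠ 1 := fun h => by rw [h] at hu'; simp at hu'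
    have key : ∀ g : G, g * u * g⁻¹ = u ∨ g * u * g⁻¹ = u * u := by
      intro g
      rcases hgen _ (hPn.conj_mem _ u.2 g) with h | h | h
      · exfalso
        apply hu1
        rwa [mul_inv_eq_one, mul_eq_left] at h
      · exact Or.inl h
      · exact Or.inr h
    have hmem : ∀ g : G, g ∈ C ↔ g * u * g⁻¹ = u := fun g => by
      rw [Subgroup.mem_centralizer_singleton_iff, mul_inv_eq_iff_eq_mul]
    have hidx : C.index ≤ 2 := by
      have hinj : Function.Injective (fun c : G ⧸ C => Quotient.liftOn' c
          (fun g : G => decide (g * u * g⁻¹ = u)) (by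
            intro a b hab
            rw [QuotientGroup.leftRel_apply] at hab
            have h := (hmem _).1 hab
            have e : b * u * b⁻¹ = a * u * a⁻¹ := by
              calc b * u * b⁻¹ = a * (a⁻¹ * b * u * (a⁻¹ * b)⁻¹) * a⁻¹ := by group
                _ = a * u * a⁻¹ := by rw [h]
            simp only [e])) := by
        intro p q
        induction p using QuotientGroup.induction_on with
        | H a =>
          induction q using QuotientGroup.induction_on with
          | H b =>
            intro h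
            have h' : (a * u * a⁻¹ = u) ↔ (b * u * b⁻¹ = u) := decide_eq_decide.1 h
            have e : a * u * a⁻¹ = b * u * b⁻¹ := by
              rcases key a with ha | ha <;> rcases key b with hb | hb <;> rw [ha, hb]
              · exact (h'.1 ha).symm.trans hb
              · exact ha.symm.trans (h'.2 hb)
            rw [QuotientGroup.eq, hmem]
            calc a⁻¹ * b * u * (a⁻¹ * b)⁻¹ = a⁻¹ * (b * u * b⁻¹) * a := by group
              _ = a⁻¹ * (a * u * a⁻¹) * a := by rw [e]
              _ = u := by group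
      have := Nat.card_le_card_of_injective _ hinj
      simpa [Subgroup.index] using this
    have hCn : C.Normal := ⟨fun c hc g => (hmem _).2 (by
      have hconj : g⁻¹ * u * g = u ∨ g⁻¹ * u * g = u * u := by simpa using key g⁻¹
      rw [hmem] at hc
      have hcu : c * (g⁻¹ * u * g) * c⁻¹ = g⁻¹ * u * g := by
        rcases hconj with h | h <;> rw [h]
        · exact hc
        · rw [show c * (u * u : G) * c⁻¹ = c * u * c⁻¹ * (c * u * c⁻¹) by group, hc]
      calc g * c * g⁻¹ * u * (g * c * g⁻¹)⁻¹ = g * (c * (g⁻¹ * u * g) * c⁻¹) * g⁻¹ := by group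
        _ = g * (g⁻¹ * u * g) * g⁻¹ := by rw [hcu]
        _ = u := by group)⟩
    have hCdvd := Subgroup.card_mul_index C
    rw [hG] at hCdvd
    have hcases : Nat.card C = 6 ∨ Nat.card C = 12 := by
      rcases (by omega : C.index = 0 ∨ C.index = 1 ∨ C.index = 2) with h | h | h
      · simp [h] at hCdvd
      all_goals rw [h] at hCdvd; omega
    have heven : (2 : ℕ) ∣ Nat.card C := by rcases hcases with h | h <;> rw [h] <;> norm_num
    -- the elements of `C` fix `u`, so a Sylow 2-subgroup of `C` together with `u` gives `C`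
    obtain ⟨Q⟩ : Nonempty (Sylow 2 ↥C) := inferInstance
    have hQcard : Nat.card (Q : Subgroup ↥C) = 2 ∨ Nat.card (Q : Subgroup ↥C) = 4 := by
      obtain ⟨k, hk⟩ := Q.isPGroup'.exists_card_eq
      have h1 := Q.dvd_card_of_dvd_card heven
      have h2 : Nat.card (Q : Subgroup ↥C) ∣ 12 :=
        (Subgroup.card_subgroup_dvd_card _).trans (hCdvd ▸ dvd_mul_right _ _)
      rw [hk] at h1 h2 ⊢
      rcases k with _ | _ | _ | k
      · norm_num at h1
      · left; rfl
      · right; rfl
      · exfalso
        have h8 : 8 ∣ 12 := (Dvd.intro_left (2 ^ k) (by ring)).trans h2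
        norm_num at h8
    have hQcomm : ∀ a ∈ (Q : Subgroup ↥C), ∀ b ∈ (Q : Subgroup ↥C), a * b = b * a := by
      intro a ha b hb
      rcases hQcard with h | h
      · have : IsCyclic (Q : Subgroup ↥C) := isCyclic_of_prime_card (p := 2) h
        exact congrArg Subtype.val
          ((IsCyclic.commGroup (α := (Q : Subgroup ↥C))).mul_comm ⟨a, ha⟩ ⟨b, hb⟩)
      · exact congrArg Subtype.val
          ((IsPGroup.commGroupOfCardEqPrimeSq (p := 2) (G := (Q : Subgroup ↥C)) h).mul_comm
            ⟨a, ha⟩ ⟨b, hb⟩)
    have huC : (u : G) ∈ C := Subgroup.mem_centralizer_singleton_iff.2 rfl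
    let U : Subgroup ↥C := Subgroup.zpowers ⟨u, huC⟩
    have hUcard : Nat.card U = 3 := by rw [Nat.card_zpowers, Subgroup.orderOf_mk, hu']
    have hucent : ∀ c : ↥C, Commute (⟨u, huC⟩ : ↥C) c := fun c =>
      Subtype.ext (Subgroup.mem_centralizer_singleton_iff.1 c.2).symm
    have hUQ : U ⊔ (Q : Subgroup ↥C) = ⊤ := by
      apply Subgroup.eq_top_of_card_eq
      have h3 : 3 ∣ Nat.card ↥(U ⊔ (Q : Subgroup ↥C)) := hUcard ▸ Subgroup.card_dvd_of_le le_sup_left
      have h2 : Nat.card (Q : Subgroup ↥C) ∣ Nat.card ↥(U ⊔ (Q : Subgroup ↥C)) :=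
        Subgroup.card_dvd_of_le le_sup_right
      have hle := Subgroup.card_subgroup_dvd_card (U ⊔ (Q : Subgroup ↥C))
      have hpos : 0 < Nat.card ↥(U ⊔ (Q : Subgroup ↥C)) := Nat.card_pos
      have hQmax : Nat.card C = 12 → Nat.card (Q : Subgroup ↥C) = 4 := by
        intro h12
        have h4 : 2 ^ 2 ∣ Nat.card (Q : Subgroup ↥C) := Q.pow_dvd_card_of_pow_dvd_card (by rw [h12]; norm_num)
        rcases hQcard with h | h
        · rw [h] at h4; norm_num at h4
        · exact h
      have hle' := Nat.le_of_dvd Nat.card_pos hle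
      rcases hcases with hc | hc
      · have h6 : 6 ≤ Nat.card ↥(U ⊔ (Q : Subgroup ↥C)) := by
          rcases hQcard with h | h <;> rw [h] at h2 <;>
            obtain ⟨a, ha⟩ := h2 <;> obtain ⟨b, hb⟩ := h3 <;> omega
        omega
      · have h12 : 12 ≤ Nat.card ↥(U ⊔ (Q : Subgroup ↥C)) := by
          rw [hQmax hc] at h2
          obtain ⟨a, ha⟩ := h2
          obtain ⟨b, hb⟩ := h3
          omega
        omega
    obtain ⟨q, hq⟩ := exists_prime_orderOf_dvd_card' 2 (G := (Q : Subgroup ↥C))
      (by rcases hQcard with h | h <;> rw [h] <;> norm_num)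
    -- the involution `q` is central in `C` and is the only one there, or `C` is everything
    have hqC : ∀ c : ↥C, Commute (q : ↥C) c := by
      intro c
      have hc : c ∈ Subgroup.centralizer ({(q : ↥C)} : Set ↥C) := by
        have hle : U ⊔ (Q : Subgroup ↥C) ≤ Subgroup.centralizer ({(q : ↥C)} : Set ↥C) :=
          sup_le (Subgroup.zpowers_le.2 (Subgroup.mem_centralizer_singleton_iff.2
              (hucent q).eq))
            (fun a ha => Subgroup.mem_centralizer_singleton_iff.2 (hQcomm a ha q q.2))
        exact hle (hUQ ▸ Subgroup.mem_top c)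
      exact (Subgroup.mem_centralizer_singleton_iff.1 hc).symm
    have hq2 : orderOf ((q : ↥C) : G) = 2 := by
      rw [Subgroup.orderOf_coe, Subgroup.orderOf_coe, hq]
    apply hz _ hq2
    rw [Subgroup.mem_center_iff]
    intro g
    rcases hcases with hc | hc
    · -- `C` is cyclic of order six, so conjugation fixes its involution
      have hQ2 : Nat.card (Q : Subgroup ↥C) = 2 := by
        rcases hQcard with h | h
        · exact h
        · have := hc ▸ h ▸ Subgroup.card_subgroup_dvd_card (Q : Subgroup ↥C)
          norm_num at this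
      have hQn : (Q : Subgroup ↥C).Normal := by
        refine ⟨fun a ha b => ?_⟩
        have hab : a = 1 ∨ a = q := by
          have hsub := Subgroup.eq_of_le_of_card_ge (Subgroup.zpowers_le.2 q.2)
            (show Nat.card (Q : Subgroup ↥C) ≤ Nat.card (Subgroup.zpowers (q : ↥C)) by
              rw [hQ2, Nat.card_zpowers, Subgroup.orderOf_coe, hq])
          rw [← hsub] at ha
          obtain ⟨i, hi, rfl⟩ :=
            Finset.mem_image.1 ((mem_zpowers_iff_mem_range_orderOf (x := (q : ↥C))).1 ha)
          rw [Finset.mem_range, Subgroup.orderOf_coe, hq] at hi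
          interval_cases i <;> simp
        rcases hab with rfl | rfl
        · simp
        · rw [(hqC b).symm.eq, mul_inv_cancel_right]; exact q.2
      have hgq : g * ((q : ↥C) : G) * g⁻¹ ∈ C := hCn.conj_mem _ (q : ↥C).2 g
      have hgqQ : (⟨_, hgq⟩ : ↥C) ∈ Q := by
        obtain ⟨R, hR⟩ := (IsPGroup.of_card (G := Subgroup.zpowers (⟨_, hgq⟩ : ↥C)) (p := 2) (n := 1)
          (by rw [Nat.card_zpowers, Subgroup.orderOf_mk, CfsgLib.Invol.orderOf_conj, hq2,
            pow_one])).exists_le_sylow
        have hu := Q.unique_of_normal hQn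
        rw [Subsingleton.elim R Q] at hR
        exact hR (Subgroup.mem_zpowers _)
      have hsub := Subgroup.eq_of_le_of_card_ge (Subgroup.zpowers_le.2 q.2)
        (show Nat.card (Q : Subgroup ↥C) ≤ Nat.card (Subgroup.zpowers (q : ↥C)) by
          rw [hQ2, Nat.card_zpowers, Subgroup.orderOf_coe, hq])
      have hgqQ' : (⟨_, hgq⟩ : ↥C) ∈ (Q : Subgroup ↥C) := hgqQ
      have hgqZ := (SetLike.ext_iff.1 hsub _).2 hgqQ'
      obtain ⟨i, hi, hie⟩ :=
        Finset.mem_image.1 ((mem_zpowers_iff_mem_range_orderOf (x := (q : ↥C))).1 hgqZ)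
      rw [Finset.mem_range, Subgroup.orderOf_coe, hq] at hi
      have hie' : ((q : ↥C) : G) ^ i = g * ((q : ↥C) : G) * g⁻¹ := congrArg Subtype.val hie
      interval_cases i
      · rw [pow_zero, eq_comm, mul_inv_eq_one, mul_eq_left] at hie'
        rw [hie']; simp
      · rw [pow_one, eq_mul_inv_iff_mul_eq] at hie'
        exact hie'.symm
    · have hCtop : C = ⊤ := Subgroup.eq_top_of_card_eq _ (by rw [hc, hG])
      exact congrArg Subtype.val (hqC ⟨g, hCtop ▸ Subgroup.mem_top g⟩).symm.eq
  · -- four Sylow 3-subgroups: `G` acts faithfully on them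
    let f₀ : G →* Equiv.Perm (Sylow 3 G) := MulAction.toPermHom G (Sylow 3 G)
    have hker : f₀.ker = ⊥ := by
      have hle : ∀ Q : Sylow 3 G, f₀.ker ≤ Subgroup.normalizer ((Q : Subgroup G) : Set G) := by
        intro Q g hg
        have h : f₀ g = 1 := hg
        exact (Sylow.smul_eq_iff_mem_normalizer).1 (DFunLike.congr_fun h Q)
      have hcard3 : ∀ Q : Sylow 3 G,
          Nat.card (Subgroup.normalizer ((Q : Subgroup G) : Set G)) = 3 ∧
            Nat.card (Q : Subgroup G) = 3 := by
        intro Q
        have h1 : Nat.card (Sylow 3 G) = (Subgroup.normalizer ((Q : Subgroup G) : Set G)).index :=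
          Q.card_eq_index_normalizer
        have h2 := Subgroup.card_mul_index (Subgroup.normalizer ((Q : Subgroup G) : Set G))
        rw [← h1, hn4, hG] at h2
        obtain ⟨g, rfl⟩ := MulAction.exists_smul_eq G P Q
        exact ⟨by omega, (Nat.card_congr (Sylow.equiv P (g • P)).toEquiv).symm.trans hPcard⟩
      have heq : ∀ Q : Sylow 3 G, (Q : Subgroup G) = Subgroup.normalizer ((Q : Subgroup G) : Set G) :=
        fun Q => Subgroup.eq_of_le_of_card_ge Subgroup.le_normalizer
          (by rw [(hcard3 Q).1, (hcard3 Q).2])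
      by_contra hne
      have hnt : Nontrivial (Sylow 3 G) := by
        rw [← Finite.one_lt_card_iff_nontrivial, hn4]; norm_num
      obtain ⟨Q, hQ⟩ := exists_ne P
      apply hQ
      have h1 : ∀ R : Sylow 3 G, f₀.ker = (R : Subgroup G) := by
        intro R
        refine Subgroup.eq_of_le_of_card_ge ((hle R).trans (heq R).ge) ?_
        rw [(hcard3 R).2]
        have hd : Nat.card f₀.ker ∣ 3 := by
          have h := Subgroup.card_dvd_of_le ((hle R).trans (heq R).ge)
          rwa [(hcard3 R).2] at h
        rcases (Nat.dvd_prime Nat.prime_three).1 hd with h | h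
        · exact absurd (Subgroup.card_eq_one.1 h) hne
        · rw [h]
      exact Sylow.ext ((h1 Q).symm.trans (h1 P))
    let e : Sylow 3 G ≃ Fin 4 := (Finite.equivFin _).trans (finCongr hn4)
    let f : G →* Equiv.Perm (Fin 4) := e.permCongrHom.toMonoidHom.comp f₀
    have hf : Function.Injective f :=
      e.permCongrHom.injective.comp ((MonoidHom.ker_eq_bot_iff _).1 hker)
    have hR : Nat.card f.range = 12 :=
      (Nat.card_congr (MonoidHom.ofInjective hf).toEquiv.symm).trans hG
    have hA : f.range = alternatingGroup (Fin 4) := by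
      apply Equiv.Perm.eq_alternatingGroup_of_index_eq_two
      have h := Subgroup.card_mul_index f.range
      rw [hR, Nat.card_perm, Nat.card_fin, show Nat.factorial 4 = 24 from rfl] at h
      omega
    exact ⟨(MonoidHom.ofInjective hf).trans (MulEquiv.subgroupCongr hA)⟩

end Cfsg.Agent.S0228
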