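import Cfsg.Statements.S0230
import Cfsg.Agent.Lib.Invol.Counting

set_option autoImplicit false
open Cfsg

namespace Cfsg.Agent.S0230

/-- Let G be a finite group with two non-conjugate involutions, and let t be an involution whose centralizer has maximal order among centralizers of involutions. Then |G| < |C_G(t)|^3. -/
theorem result {G : Type*} [Group G] [Finite G] (s t : G) (hs : orderOf s = 2) (ht : orderOf t = 2) (hnc : ¬ IsConj s t) (hmax : ∀ u : G, orderOf u = 2 → Nat.card (Subgroup.centralizer ({u} : Set G)) ≤ Nat.card (Subgroup.centralizer ({t} : Set G))) : Nat.card G < Nat.card (Subgroup.centralizer ({t} : Set G)) ^ 3 := by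
  classical
  have : Fintype G := Fintype.ofFinite G
  set c := Nat.card (Subgroup.centralizer ({t} : Set G)) with hc
  let Inv : G → Finset G := fun z => Finset.univ.filter fun u => orderOf u = 2 ∧ Commute z u
  have hle : ∀ z : G, orderOf z = 2 → (Inv z).card + 1 ≤ c := by
    intro z hz
    refine le_trans ?_ (hmax z hz)
    rw [← SetLike.coe_sort_coe, Nat.card_coe_set_eq, Set.ncard_eq_toFinset_card',
      ← Finset.card_insert_of_notMem (a := (1 : G)) (s := Inv z) (by simp [Inv])]
    refine Finset.card_le_card fun u hu => ?_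
    simp only [Set.mem_toFinset, SetLike.mem_coe, Subgroup.mem_centralizer_singleton_iff]
    simp only [Inv, Finset.mem_insert, Finset.mem_filter, Finset.mem_univ, true_and] at hu
    rcases hu with rfl | ⟨-, hu⟩
    · simp
    · exact hu.eq.symm
  have hsub : (Finset.univ.filter fun u => IsConj t u) ⊆ (Inv s).biUnion Inv := by
    intro u hu
    simp only [Finset.mem_filter, Finset.mem_univ, true_and] at hu
    have hu2 := CfsgLib.Invol.orderOf_eq_two_of_isConj ht hu
    obtain ⟨-, h2, hcs, hcu⟩ := CfsgLib.Invol.exists_middle_of_not_isConj hs hu2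
      (fun h => hnc (h.trans hu.symm))
    simp only [Finset.mem_biUnion, Inv, Finset.mem_filter, Finset.mem_univ, true_and]
    exact ⟨_, ⟨h2, hcs.symm⟩, hu2, hcu⟩
  have hidx : (Subgroup.centralizer ({t} : Set G)).index ≤ (c - 1) * (c - 1) := by
    rw [← CfsgLib.Invol.card_isConj_eq_index, Nat.card_eq_fintype_card, Fintype.card_subtype]
    refine (Finset.card_le_card hsub).trans (Finset.card_biUnion_le.trans ?_)
    refine (Finset.sum_le_card_nsmul _ _ (c - 1) fun z hz => ?_).trans ?_
    · simp only [Inv, Finset.mem_filter] at hz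
      have := hle z hz.2.1
      omega
    · rw [smul_eq_mul]
      have := hle s hs
      exact Nat.mul_le_mul_right _ (by omega)
  have hcpos : 0 < c := Nat.card_pos
  rw [← Subgroup.card_mul_index (Subgroup.centralizer ({t} : Set G)), ← hc]
  calc c * (Subgroup.centralizer ({t} : Set G)).index ≤ c * ((c - 1) * (c - 1)) :=
        Nat.mul_le_mul_left _ hidx
    _ < c * (c * c) := Nat.mul_lt_mul_of_pos_left (Nat.mul_self_lt_mul_self (by omega)) hcpos
    _ = c ^ 3 := by ring

end Cfsg.Agent.S0230
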