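import Cfsg.Statements.S0231
import Cfsg.Agent.Lib.Invol.Isolated

set_option autoImplicit false
open scoped Pointwise
open Cfsg

namespace Cfsg.Agent.S0231

/-- Let T be a Sylow 2-subgroup of the finite group G which is not normal and which intersects every other Sylow 2-subgroup trivially. Then G has a single conjugacy class of involutions. -/
theorem result {G : Type*} [Group G] [Finite G] (T : Sylow 2 G) (hnn : ¬ (T : Subgroup G).Normal) (hTI : ∀ g : G, MulAut.conj g • (T : Subgroup G) ≠ T → MulAut.conj g • (T : Subgroup G) ⊓ T = ⊥) (s t : G) (hs : orderOf s = 2) (ht : orderOf t = 2) : IsConj s t := by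
  by_contra hnc
  apply hnn
  have : Fact (Nat.Prime 2) := ⟨Nat.prime_two⟩
  have hTI' : ∀ (A B : Sylow 2 G) (x : G), x ∈ A → x ∈ B → x ≠ 1 → A = B := by
    intro A B x hA hB hx
    obtain ⟨a, rfl⟩ := MulAction.exists_smul_eq G T A
    obtain ⟨b, rfl⟩ := MulAction.exists_smul_eq G T B
    by_contra hne
    have hne' : MulAut.conj (a⁻¹ * b) • (T : Subgroup G) ≠ T := by
      intro h
      apply hne
      have h' : (a⁻¹ * b) • T = T := Sylow.ext h
      conv_lhs => rw [← h']
      rw [← mul_smul, mul_inv_cancel_left]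
    have hA' : a⁻¹ * x * a ∈ (T : Subgroup G) := by
      have := Subgroup.mem_pointwise_smul_iff_inv_smul_mem.1 hA
      simpa [MulAut.smul_def] using this
    have hB' : b⁻¹ * x * b ∈ (T : Subgroup G) := by
      have := Subgroup.mem_pointwise_smul_iff_inv_smul_mem.1 hB
      simpa [MulAut.smul_def] using this
    have hmem : a⁻¹ * x * a ∈ MulAut.conj (a⁻¹ * b) • (T : Subgroup G) ⊓ (T : Subgroup G) := by
      refine ⟨?_, hA'⟩
      have := Subgroup.smul_mem_pointwise_smul _ (MulAut.conj (a⁻¹ * b)) _ hB'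
      rwa [MulAut.smul_def, MulAut.conj_apply,
        show a⁻¹ * b * (b⁻¹ * x * b) * (a⁻¹ * b)⁻¹ = a⁻¹ * x * a by group] at this
    rw [hTI _ hne', Subgroup.mem_bot] at hmem
    exact hx (by
      calc x = a * (a⁻¹ * x * a) * a⁻¹ := by group
        _ = 1 := by rw [hmem]; group)
  have hmeet : ∀ u v : G, orderOf u = 2 → orderOf v = 2 → ¬ IsConj u v →
      ∀ A B : Sylow 2 G, u ∈ A → v ∈ B → A = B := by
    intro u v hu hv huv A B hA hB
    obtain ⟨-, hz2, hzu, hzv⟩ := CfsgLib.Invol.exists_middle_of_not_isConj hu hv huv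
    obtain ⟨C, hCu, hCz⟩ := CfsgLib.Invol.exists_sylow_mem_of_commute hu hz2 hzu.symm
    obtain ⟨D, hDv, hDz⟩ := CfsgLib.Invol.exists_sylow_mem_of_commute hv hz2 hzv.symm
    rw [hTI' A C u hA hCu (CfsgLib.Invol.ne_one_of_invol hu),
      hTI' B D v hB hDv (CfsgLib.Invol.ne_one_of_invol hv)]
    exact hTI' C D _ hCz hDz (CfsgLib.Invol.ne_one_of_invol hz2)
  obtain ⟨A, hsA, -⟩ := CfsgLib.Invol.exists_sylow_mem_of_commute hs hs (Commute.refl s)
  obtain ⟨B, htB, -⟩ := CfsgLib.Invol.exists_sylow_mem_of_commute ht ht (Commute.refl t)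
  have hfix : ∀ g : G, g • A = A := by
    intro g
    have h1 : g * s * g⁻¹ ∈ g • A :=
      (Subgroup.smul_mem_pointwise_smul_iff (a := MulAut.conj g) (x := s)
        (S := (A : Subgroup G))).2 hsA
    rw [hmeet (g * s * g⁻¹) t (by rw [CfsgLib.Invol.orderOf_conj, hs]) ht
      (fun h => hnc ((isConj_iff.2 ⟨g, rfl⟩).trans h)) _ B h1 htB]
    exact (hmeet s t hs ht hnc A B hsA htB).symm
  obtain ⟨c, rfl⟩ := MulAction.exists_smul_eq G T A
  refine ⟨fun n hn g => ?_⟩
  have hgT : g • T = T := by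
    have h := hfix (c * g * c⁻¹)
    rw [← mul_smul, inv_mul_cancel_right, mul_smul, smul_left_cancel_iff] at h
    exact h
  have h2 : g * n * g⁻¹ ∈ g • T :=
    (Subgroup.smul_mem_pointwise_smul_iff (a := MulAut.conj g) (x := n)
      (S := (T : Subgroup G))).2 hn
  rwa [hgT] at h2

end Cfsg.Agent.S0231
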