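import Cfsg.Statements.S0239
import Cfsg.Agent.Lib.Invol.Dihedral
import Mathlib.GroupTheory.OrderOfElement

set_option autoImplicit false
open Cfsg

namespace Cfsg.Agent.S0239

/-- If some nontrivial element x of a finite group G is conjugate to x⁻¹, then |G| is even. -/
theorem result {G : Type*} [Group G] [Finite G] (x : G) (hx : x ≠ 1) (hreal : IsConj x x⁻¹) : Even (Nat.card G) := by
  by_contra hodd
  rw [Nat.not_even_iff_odd] at hodd
  obtain ⟨g, hg⟩ := isConj_iff.1 hreal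
  obtain ⟨k, hk⟩ := hodd
  have h2 : Commute (g ^ 2) x := by
    rw [Commute, SemiconjBy, ← mul_inv_eq_iff_eq_mul]
    calc g ^ 2 * x * (g ^ 2)⁻¹ = g * (g * x * g⁻¹) * g⁻¹ := by rw [pow_two]; group
      _ = g * x⁻¹ * g⁻¹ := by rw [hg]
      _ = (g * x * g⁻¹)⁻¹ := by group
      _ = x := by rw [hg, inv_inv]
  have hg2 : g = (g ^ 2) ^ (k + 1) := by
    rw [← pow_mul, show 2 * (k + 1) = Nat.card G + 1 by omega, pow_succ, pow_card_eq_one',
      one_mul]
  have hc : Commute g x := hg2 ▸ h2.pow_left (k + 1)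
  rw [hc.eq, mul_inv_cancel_right] at hg
  have hx2 : orderOf x = 2 :=
    CfsgLib.Invol.orderOf_eq_two hx (by nth_rw 2 [hg]; exact mul_inv_cancel x)
  obtain ⟨j, hj⟩ := hx2 ▸ orderOf_dvd_natCard x
  omega

end Cfsg.Agent.S0239
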