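import Cfsg.Statements.S0240
import Cfsg.Agent.Lib.Invol.Counting

set_option autoImplicit false
open Cfsg

namespace Cfsg.Agent.S0240

/-- Let G be a finite group with n involutions and H a subgroup with |H|·(n+1) > |G|. Then some nontrivial h ∈ H is strongly real in G: an involution t of G satisfies t h t⁻¹ = h⁻¹. -/
theorem result {G : Type*} [Group G] [Finite G] (H : Subgroup G) (hH : Nat.card G < Nat.card H * (Nat.card {t : G // orderOf t = 2} + 1)) : ∃ h : G, h ∈ H ∧ h ≠ 1 ∧ ∃ t : G, orderOf t = 2 ∧ t * h * t⁻¹ = h⁻¹ := by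
  classical
  have : Fintype G := Fintype.ofFinite G
  have : Fintype (G ⧸ H) := Fintype.ofFinite _
  set S : Finset G := insert 1 (Finset.univ.filter fun t => orderOf t = 2) with hS
  have hcard : (Finset.univ : Finset (G ⧸ H)).card < S.card := by
    rw [hS, Finset.card_insert_of_notMem (by simp), Finset.card_univ, ← Nat.card_eq_fintype_card,
      ← Fintype.card_subtype, ← Nat.card_eq_fintype_card]
    refine Nat.lt_of_mul_lt_mul_left (a := Nat.card H) (lt_of_eq_of_lt ?_ hH)
    exact Subgroup.card_mul_index H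
  obtain ⟨a, ha, b, hb, hab, he⟩ := Finset.exists_ne_map_eq_of_card_lt_of_maps_to hcard
    (f := fun t : G => (QuotientGroup.mk t : G ⧸ H)) (fun _ _ => Finset.mem_univ _)
  rw [QuotientGroup.eq] at he
  simp only [hS, Finset.mem_insert, Finset.mem_filter, Finset.mem_univ, true_and] at ha hb
  rcases ha with rfl | ha
  · have hb' : orderOf b = 2 := hb.resolve_left (fun h => hab h.symm)
    refine ⟨b, by simpa using he, CfsgLib.Invol.ne_one_of_invol hb', b, hb', ?_⟩
    rw [mul_inv_cancel_right, CfsgLib.Invol.inv_eq_self hb']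
  · rw [CfsgLib.Invol.inv_eq_self ha] at he
    refine ⟨a * b, he, fun h => hab ?_, a, ha, ?_⟩
    · rw [eq_inv_of_mul_eq_one_right h, CfsgLib.Invol.inv_eq_self ha]
    · rcases hb with rfl | hb
      · rw [mul_one, mul_inv_cancel_right, CfsgLib.Invol.inv_eq_self ha]
      · exact CfsgLib.Invol.inverts_of_pair ha hb rfl

end Cfsg.Agent.S0240
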