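import Cfsg.Statements.S0241
import Cfsg.Agent.Lib.Invol.Counting
import Mathlib.Data.Nat.Factorization.Basic

set_option autoImplicit false
open Cfsg

namespace Cfsg.Agent.S0241

/-- If x ≠ 1 is conjugate to x⁻¹ in a finite group G and |C_G(x)| is odd, then some involution t satisfies t x t⁻¹ = x⁻¹. -/
theorem result {G : Type*} [Group G] [Finite G] (x : G) (hx : x ≠ 1) (hreal : IsConj x x⁻¹) (hodd : Odd (Nat.card (Subgroup.centralizer ({x} : Set G)))) : ∃ t : G, orderOf t = 2 ∧ t * x * t⁻¹ = x⁻¹ := by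
  obtain ⟨g, hg⟩ := isConj_iff.1 hreal
  obtain ⟨k, m, hm, hgm⟩ := Nat.exists_eq_two_pow_mul_odd (orderOf_pos g).ne'
  obtain ⟨j, rfl⟩ := hm
  have h2 : ∀ a : G, a * x * a⁻¹ = x⁻¹ → Commute (a ^ 2) x := by
    intro a ha
    rw [Commute, SemiconjBy, ← mul_inv_eq_iff_eq_mul]
    calc a ^ 2 * x * (a ^ 2)⁻¹ = a * (a * x * a⁻¹) * a⁻¹ := by rw [pow_two]; group
      _ = a * x⁻¹ * a⁻¹ := by rw [ha]
      _ = (a * x * a⁻¹)⁻¹ := by group
      _ = x := by rw [ha, inv_inv]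
  have hinv : g ^ (2 * j + 1) * x * (g ^ (2 * j + 1))⁻¹ = x⁻¹ := by
    have hc : Commute ((g ^ 2) ^ j) x := (h2 g hg).pow_left j
    rw [show g ^ (2 * j + 1) = g * (g ^ 2) ^ j by rw [pow_succ', pow_mul]]
    calc g * (g ^ 2) ^ j * x * (g * (g ^ 2) ^ j)⁻¹
        = g * ((g ^ 2) ^ j * x * ((g ^ 2) ^ j)⁻¹) * g⁻¹ := by group
      _ = g * x * g⁻¹ := by rw [hc.eq, mul_inv_cancel_right]
      _ = x⁻¹ := hg
  set t := g ^ (2 * j + 1) with ht
  have hpow : (t ^ 2) ^ (2 ^ k) = 1 := by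
    rw [ht, ← pow_mul, ← pow_mul, show (2 * j + 1) * (2 * 2 ^ k) = orderOf g * 2 by rw [hgm]; ring,
      pow_mul, pow_orderOf_eq_one, one_pow]
  have hmem : t ^ 2 ∈ Subgroup.centralizer ({x} : Set G) :=
    Subgroup.mem_centralizer_singleton_iff.2 (h2 t hinv).eq
  have ht2 : t ^ 2 = 1 := by
    have h1 := orderOf_dvd_natCard (⟨t ^ 2, hmem⟩ : Subgroup.centralizer ({x} : Set G))
    rw [Subgroup.orderOf_mk] at h1
    obtain ⟨i, -, hi⟩ := (Nat.dvd_prime_pow Nat.prime_two).1 (orderOf_dvd_of_pow_eq_one hpow)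
    rcases Nat.eq_zero_or_pos i with rfl | hipos
    · exact orderOf_eq_one_iff.1 (by simpa using hi)
    · exfalso
      rw [hi] at h1
      exact (Nat.not_even_iff_odd.2 hodd)
        (even_iff_two_dvd.2 ((dvd_pow_self 2 hipos.ne').trans h1))
  refine ⟨t, CfsgLib.Invol.orderOf_eq_two ?_ (by rwa [← pow_two]), hinv⟩
  intro h1
  rw [h1, one_mul, inv_one, mul_one] at hinv
  have hx2 : orderOf x = 2 :=
    CfsgLib.Invol.orderOf_eq_two hx (by nth_rw 2 [hinv]; exact mul_inv_cancel x)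
  have h3 := orderOf_dvd_natCard (⟨x, Subgroup.mem_centralizer_singleton_iff.2 rfl⟩ :
    Subgroup.centralizer ({x} : Set G))
  rw [Subgroup.orderOf_mk, hx2] at h3
  exact (Nat.not_even_iff_odd.2 hodd) (even_iff_two_dvd.2 h3)

end Cfsg.Agent.S0241
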