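import Cfsg.Statements.S0250
import Cfsg.Agent.Lib.Linear.ProjLine

set_option autoImplicit false
open Cfsg

namespace Cfsg.Agent.S0250

/-- SL_2(2) is isomorphic to S_3. -/
theorem result {F : Type*} [Field F] [Fintype F] (hF : Fintype.card F = 2) : Nonempty (Matrix.SpecialLinearGroup (Fin 2) F ≃* Equiv.Perm (Fin 3)) := by
  obtain ⟨f, hf⟩ := CfsgLib.Linear.exists_injective_psl_two_perm (F := F) 3 (by omega)
  have hc : Subgroup.center (Matrix.SpecialLinearGroup (Fin 2) F) = ⊥ := by
    rw [← Subgroup.card_eq_one, CfsgLib.Linear.card_center_SL, hF]; rfl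
  have hinj : Function.Injective (f.comp (QuotientGroup.mk' (Subgroup.center (Matrix.SpecialLinearGroup (Fin 2) F)))) := by
    refine hf.comp ((MonoidHom.ker_eq_bot_iff _).1 ?_)
    rw [QuotientGroup.ker_mk', hc]
  exact ⟨MulEquiv.ofBijective _ ((Nat.bijective_iff_injective_and_card _).2 ⟨hinj, by
    rw [CfsgLib.Linear.card_SL_two, hF, Nat.card_perm, Nat.card_fin]; rfl⟩)⟩

end Cfsg.Agent.S0250
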