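import Cfsg.Statements.S0251
import Cfsg.Agent.Lib.Linear.ProjLine

set_option autoImplicit false
open Cfsg

namespace Cfsg.Agent.S0251

/-- PSL_2(3) is isomorphic to A_4. -/
theorem result {F : Type*} [Field F] [Fintype F] (hF : Fintype.card F = 3) : Nonempty (Matrix.ProjectiveSpecialLinearGroup (Fin 2) F ≃* alternatingGroup (Fin 4)) := by
  obtain ⟨f, hf⟩ := CfsgLib.Linear.exists_injective_psl_two_perm (F := F) 4 (by omega)
  refine CfsgLib.Linear.equiv_alternatingGroup_of_injective f hf ?_
  have h := CfsgLib.Linear.card_PSL_mul (n := Fin 2) (F := F)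
  rw [CfsgLib.Linear.card_SL_two, hF, Fintype.card_fin] at h
  norm_num [Nat.factorial] at h ⊢
  omega

end Cfsg.Agent.S0251
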