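import Cfsg.Statements.S0257
import Cfsg.Agent.Lib.Linear.SL2Quaternion
import Cfsg.Agent.Lib.Linear.LineModel

set_option autoImplicit false
open Cfsg

namespace Cfsg.Agent.S0257

/-- SL_2(3) has a normal subgroup of index 3 isomorphic to the quaternion group of order 8, and its centre has order 2. -/
theorem result {F : Type*} [Field F] [Fintype F] (hF : Fintype.card F = 3) : (∃ Q : Subgroup (Matrix.SpecialLinearGroup (Fin 2) F), Q.Normal ∧ Q.index = 3 ∧ Nonempty (Q ≃* QuaternionGroup 2)) ∧ Nat.card (Subgroup.center (Matrix.SpecialLinearGroup (Fin 2) F)) = 2 := by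
  refine ⟨?_, by rw [CfsgLib.Linear.card_center_SL, hF]; rfl⟩
  let e : Matrix.SpecialLinearGroup (Fin 2) (ZMod 3) ≃* Matrix.SpecialLinearGroup (Fin 2) F :=
    CfsgLib.Linear.slRingEquiv (ZMod.ringEquivOfPrime F Nat.prime_three hF)
  obtain ⟨P⟩ : Nonempty (Sylow 2 (Matrix.SpecialLinearGroup (Fin 2) F)) := inferInstance
  obtain ⟨k, hk, ⟨iso⟩⟩ := CfsgLib.Linear.sylow_two_SL2_quaternion (by rw [hF]; decide) P
  have hG : Nat.card (Matrix.SpecialLinearGroup (Fin 2) F) = 24 := by
    rw [CfsgLib.Linear.card_SL_two, hF]; rfl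
  have : NeZero (2 ^ k) := ⟨by positivity⟩
  have hcard : Nat.card P = 8 :=
    CfsgLib.Linear.card_sylow_of_card_eq (k := 3) (r := 3) (by rw [hG]; norm_num) (by norm_num) P
  have hk1 : k = 1 := by
    rw [Nat.card_congr iso.toEquiv, Nat.card_eq_fintype_card, QuaternionGroup.card] at hcard
    have : 2 ^ k = 2 ^ 1 := by omega
    exact Nat.pow_right_injective le_rfl this
  subst hk1
  have hS : ∀ g ∈ (P : Subgroup (Matrix.SpecialLinearGroup (Fin 2) F)), g ^ 4 = 1 := by
    intro g hg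
    have h := QuaternionGroup.exponent (n := 2)
    have h4 : (iso ⟨g, hg⟩) ^ 4 = 1 := by
      revert h
      generalize iso ⟨g, hg⟩ = z
      intro h
      revert z
      decide
    rw [← map_pow, EmbeddingLike.map_eq_one_iff] at h4
    exact congrArg Subtype.val h4
  have hcount : Fintype.card {g : Matrix.SpecialLinearGroup (Fin 2) (ZMod 3) // g ^ 4 = 1} = 8 := by
    decide +kernel
  have hset : ((P : Subgroup (Matrix.SpecialLinearGroup (Fin 2) F)) : Set (Matrix.SpecialLinearGroup (Fin 2) F)) = {g | g ^ 4 = 1} := by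
    refine Set.eq_of_subset_of_ncard_le (fun g hg => hS g hg) ?_ (Set.toFinite _)
    rw [← Nat.card_coe_set_eq, ← Nat.card_coe_set_eq]
    refine le_of_eq (Eq.trans ?_ hcard.symm)
    rw [← hcount, ← Nat.card_eq_fintype_card]
    refine (Nat.card_congr (e.toEquiv.subtypeEquiv fun g => ?_)).symm
    rw [Set.mem_setOf_eq, MulEquiv.toEquiv_eq_coe, MulEquiv.coe_toEquiv, ← map_pow,
      EmbeddingLike.map_eq_one_iff]
  refine ⟨(P : Subgroup (Matrix.SpecialLinearGroup (Fin 2) F)), ⟨fun g hg x => ?_⟩, ?_, ⟨iso⟩⟩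
  · have h : g ∈ {g : Matrix.SpecialLinearGroup (Fin 2) F | g ^ 4 = 1} := hset ▸ hg
    have h2 : x * g * x⁻¹ ∈ {g : Matrix.SpecialLinearGroup (Fin 2) F | g ^ 4 = 1} := by
      change (x * g * x⁻¹) ^ 4 = 1
      rw [← MulAut.conj_apply, ← map_pow, (h : g ^ 4 = 1), map_one]
    exact (Set.ext_iff.1 hset _).2 h2
  · have h := (P : Subgroup (Matrix.SpecialLinearGroup (Fin 2) F)).card_mul_index
    rw [hG, show Nat.card (P : Subgroup (Matrix.SpecialLinearGroup (Fin 2) F)) = 8 from hcard] at h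
    omega

end Cfsg.Agent.S0257
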