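import Cfsg.Statements.S0275
import Cfsg.Agent.Lib.Solvable.UniqueInvolution
import Cfsg.Agent.Lib.OddOrder.OddSL2
import Cfsg.Agent.Lib.Linear.SL2
-- import your own Cfsg.Agent.* helpers here

set_option autoImplicit false
open Cfsg

namespace Cfsg.Agent.S0275

/-- If p is odd and H is a subgroup of SL_2(q), q a power of p, with more than one Sylow p-subgroup, then the Sylow 2-subgroups of H are generalised quaternion. -/
theorem result {F : Type*} [Field F] [Fintype F] (p : ℕ) [Fact p.Prime] [CharP F p] (hp : p ≠ 2) (H : Subgroup (Matrix.SpecialLinearGroup (Fin 2) F)) (hH : 1 < Nat.card (Sylow p H)) (S : Sylow 2 H) : ∃ k : ℕ, 1 ≤ k ∧ Nonempty ((S : Subgroup H) ≃* QuaternionGroup (2 ^ k)) := by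
  classical
  have h2 : (2 : F) ≠ 0 := by
    intro h
    rw [show (2 : F) = ((2 : ℕ) : F) by norm_num, CharP.cast_eq_zero_iff F p] at h
    exact hp ((Nat.prime_dvd_prime_iff_eq Fact.out Nat.prime_two).mp h)
  have huniq : ∀ u v : (S : Subgroup H), u ^ 2 = 1 → u ≠ 1 → v ^ 2 = 1 → v ≠ 1 → u = v := by
    have key : ∀ u : (S : Subgroup H), u ^ 2 = 1 → u ≠ 1 →
        ((u : H) : Matrix.SpecialLinearGroup (Fin 2) F).1 = -1 := by
      intro u hu hu1
      refine (CfsgLib.Linear.SL2_eq_one_or_neg_one_of_sq_eq_one h2 _ ?_).resolve_left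
        fun h => hu1 (Subtype.ext (Subtype.ext (Subtype.ext h)))
      rw [sq] at hu
      exact congrArg Subtype.val (congrArg Subtype.val hu)
    intro u v hu hu1 hv hv1
    exact Subtype.ext (Subtype.ext (Subtype.ext ((key u hu hu1).trans (key v hv hv1).symm)))
  -- a subgroup of odd index two-complement type would give a normal Sylow `p`-subgroup
  have hodd : ∀ K : Subgroup H, Odd (Nat.card K) →
      (∀ P : Sylow p H, (P : Subgroup H) ≤ K) → False := by
    intro K hK hP
    have hinj := H.subtype_injective
    set K' := K.map H.subtype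
    let e : K ≃* K' := K.equivMapOfInjective _ hinj
    have hcard : Nat.card K' = Nat.card K := (Nat.card_congr e.toEquiv).symm
    have hn : ∀ P : Sylow p K, (P : Subgroup K).Normal := by
      intro P
      have h1 := CfsgLib.OddOrder.sylow_normal_SL2 hp K' (hcard ▸ hK)
        (P.comapOfInjective e.symm.toMonoidHom e.symm.injective (fun x _ => ⟨e x, e.symm_apply_apply x⟩))
      convert h1.comap e.toMonoidHom
      ext x
      simp
    haveI : Subsingleton (Sylow p K) :=
      haveI := Sylow.unique_of_normal (default : Sylow p K) (hn _)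
      inferInstance
    haveI : Subsingleton (Sylow p H) := ⟨fun P Q => Sylow.subtype_injective (N := K) (hP := hP P) (hQ := hP Q)
      (Subsingleton.elim _ _)⟩
    exact absurd hH (not_lt.2 (Finite.card_le_one_iff_subsingleton.2 this))
  have hncyc : ¬ IsCyclic (S : Subgroup H) := by
    intro hc
    rcases Nat.even_or_odd (Nat.card H) with he | ho
    · have hmin : (Nat.card H).minFac = 2 := (Nat.minFac_eq_two_iff _).2 he.two_dvd
      have hcompl := IsCyclic.isComplement' hmin hc
      set K := (MonoidHom.transferSylow S (IsCyclic.normalizer_le_centralizer hmin hc)).ker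
      haveI : K.Normal := MonoidHom.normal_ker _
      have hKi : K.index = Nat.card (S : Subgroup H) := hcompl.symm.index_eq_card
      refine hodd K ?_ fun P => ?_
      · rw [← hcompl.index_eq_card, Nat.odd_iff]
        have := S.not_dvd_index
        omega
      · obtain ⟨k, hk⟩ := S.2.exists_card_eq
        obtain ⟨l, hl⟩ := P.2.exists_card_eq
        intro x hx
        rw [← QuotientGroup.eq_one_iff, ← orderOf_eq_one_iff]
        refine Nat.dvd_one.1 ?_
        have hcop : Nat.Coprime (p ^ l) (2 ^ k) :=
          ((Nat.coprime_primes Fact.out Nat.prime_two).2 hp).pow l k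
        rw [← hcop.gcd_eq_one]
        refine Nat.dvd_gcd ((orderOf_map_dvd (QuotientGroup.mk' K) x).trans ?_) ?_
        · rw [← hl]; exact Subgroup.orderOf_dvd_natCard _ hx
        · rw [← hk, ← hKi, Subgroup.index_eq_card]; exact orderOf_dvd_natCard _
    · exact hodd ⊤ (by simpa using ho) fun P => le_top
  obtain hc | ⟨k, hk⟩ := CfsgLib.Solvable.isCyclic_or_quaternion_of_unique_involution S.2 huniq
  · exact absurd hc hncyc
  refine ⟨k, Nat.one_le_iff_ne_zero.2 fun hk0 => hncyc ?_, hk⟩
  subst hk0
  obtain ⟨e⟩ := hk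
  haveI : IsCyclic (QuaternionGroup (2 ^ 0)) := QuaternionGroup.quaternionGroup_one_isCyclic
  exact isCyclic_of_surjective e.symm.toMonoidHom e.symm.surjective

end Cfsg.Agent.S0275
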