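import Cfsg.Statements.S0276
import Cfsg.Agent.Lib.Linear.SL2
import Cfsg.Agent.Lib.Linear.Card
-- import your own Cfsg.Agent.* helpers here

set_option autoImplicit false
open Cfsg

namespace Cfsg.Agent.S0276

/-- For q = 3 or 5 mod 8 the Sylow 2-subgroups of PSL_2(q) are elementary abelian of order 4. -/
theorem result {F : Type*} [Field F] [Fintype F] {q : ℕ} (hF : Fintype.card F = q) (hq : q % 8 = 3 ∨ q % 8 = 5) (P : Sylow 2 (Matrix.ProjectiveSpecialLinearGroup (Fin 2) F)) : IsKleinFour (P : Subgroup (Matrix.ProjectiveSpecialLinearGroup (Fin 2) F)) := by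
  classical
  have hodd : Odd (Fintype.card F) := by rw [hF, Nat.odd_iff]; omega
  have h2 : (2 : F) ≠ 0 := CfsgLib.Linear.two_ne_zero_of_odd_card hodd
  have hsq2 : ¬ IsSquare (2 : F) := by
    rw [FiniteField.isSquare_two_iff, hF]; omega
  -- the order
  have hcard := CfsgLib.Linear.card_PSL_mul (F := F) (n := Fin 2)
  rw [Fintype.card_fin, CfsgLib.Linear.card_SL_two, hF,
    Nat.gcd_eq_left (show 2 ∣ q - 1 by omega)] at hcard
  obtain ⟨t, r, hr, rfl⟩ : ∃ t r, (r = 3 ∨ r = 5) ∧ q = 8 * t + r :=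
    ⟨q / 8, q % 8, hq, (Nat.div_add_mod q 8).symm⟩
  obtain ⟨j, hj, hj'⟩ : ∃ j, Odd j ∧ (8 * t + r) * ((8 * t + r) ^ 2 - 1) = 8 * j := by
    rcases hr with rfl | rfl
    · refine ⟨(8 * t + 3) * (8 * t ^ 2 + 6 * t + 1), ?_, ?_⟩
      · exact Nat.odd_mul.2 ⟨⟨4 * t + 1, by ring⟩, ⟨4 * t ^ 2 + 3 * t, by ring⟩⟩
      · rw [show (8 * t + 3) ^ 2 - 1 = 8 * (8 * t ^ 2 + 6 * t + 1) from
          Nat.sub_eq_of_eq_add (by ring)]
        ring
    · refine ⟨(8 * t + 5) * (8 * t ^ 2 + 10 * t + 3), ?_, ?_⟩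
      · exact Nat.odd_mul.2 ⟨⟨4 * t + 2, by ring⟩, ⟨4 * t ^ 2 + 5 * t + 1, by ring⟩⟩
      · rw [show (8 * t + 5) ^ 2 - 1 = 8 * (8 * t ^ 2 + 10 * t + 3) from
          Nat.sub_eq_of_eq_add (by ring)]
        ring
  have hfour : Nat.card (P : Subgroup (Matrix.ProjectiveSpecialLinearGroup (Fin 2) F)) = 4 := by
    rw [P.card_eq_multiplicity]
    have hc : Nat.card (Matrix.ProjectiveSpecialLinearGroup (Fin 2) F) = 2 ^ 2 * j := by omega
    have h : ¬ 2 ∣ j := by rw [Nat.odd_iff] at hj; omega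
    rw [hc, Nat.factorization_mul (by norm_num) (by rintro rfl; simp at hj), Finsupp.add_apply,
      Nat.factorization_pow, Finsupp.smul_apply, Nat.prime_two.factorization_self,
      Nat.factorization_eq_zero_of_not_dvd h]
    norm_num
  haveI : Nontrivial (P : Subgroup (Matrix.ProjectiveSpecialLinearGroup (Fin 2) F)) :=
    Finite.one_lt_card_iff_nontrivial.1 (by omega)
  refine ⟨hfour, (Monoid.exponent_eq_prime_iff Nat.prime_two).2 fun x hx => ?_⟩
  refine orderOf_eq_prime ?_ hx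
  have hx4 : (x : Matrix.ProjectiveSpecialLinearGroup (Fin 2) F) ^ 4 = 1 := by
    rw [← hfour, ← SubgroupClass.coe_pow, pow_card_eq_one', OneMemClass.coe_one]
  apply Subtype.ext
  rw [SubgroupClass.coe_pow, OneMemClass.coe_one]
  obtain ⟨g, hg⟩ := QuotientGroup.mk_surjective (x : Matrix.ProjectiveSpecialLinearGroup (Fin 2) F)
  rw [← hg, ← QuotientGroup.mk_pow, QuotientGroup.eq_one_iff] at hx4 ⊢
  -- central elements square to one
  haveI : Nonempty (Fin 2) := inferInstance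
  have hcc : Nat.card (Subgroup.center (Matrix.SpecialLinearGroup (Fin 2) F)) = 2 := by
    rw [CfsgLib.Linear.card_center_SL, Fintype.card_fin, hF, Nat.gcd_comm,
      Nat.gcd_eq_left (show 2 ∣ 8 * t + r - 1 by omega)]
  have hz : ∀ z ∈ Subgroup.center (Matrix.SpecialLinearGroup (Fin 2) F), z * z = 1 := by
    intro z hz
    have h : (⟨z, hz⟩ : Subgroup.center (Matrix.SpecialLinearGroup (Fin 2) F)) ^
        Nat.card (Subgroup.center (Matrix.SpecialLinearGroup (Fin 2) F)) = 1 := pow_card_eq_one'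
    rw [hcc] at h
    rw [sq] at h
    exact congrArg Subtype.val h
  have hpm : ∀ z : Matrix.SpecialLinearGroup (Fin 2) F, z.1 = 1 ∨ z.1 = -1 →
      z ∈ Subgroup.center (Matrix.SpecialLinearGroup (Fin 2) F) := by
    rintro z hz
    refine Subgroup.mem_center_iff.2 fun w => Subtype.ext ?_
    rw [Matrix.SpecialLinearGroup.coe_mul, Matrix.SpecialLinearGroup.coe_mul]
    rcases hz with hz | hz <;> simp [hz]
  have h8 : (g ^ 4) * (g ^ 4) = 1 := hz _ hx4
  rcases CfsgLib.Linear.SL2_eq_one_or_neg_one_of_sq_eq_one h2 _ h8 with h | h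
  · refine hpm _ (CfsgLib.Linear.SL2_eq_one_or_neg_one_of_sq_eq_one h2 _ ?_)
    rw [← pow_add]
    exact Subtype.ext h
  · exfalso
    -- a square root of a square root of `-1` gives a square root of two
    set k := g ^ 2 with hk
    have hkk : k.1 * k.1 = -1 := by
      rw [← Matrix.SpecialLinearGroup.coe_mul, hk, ← pow_add]; exact h
    have hdk := CfsgLib.Linear.SL2_det_eq k
    have hdg := CfsgLib.Linear.SL2_det_eq g
    have e00 := congrFun (congrFun hkk 0) 0
    have e01 := congrFun (congrFun hkk 0) 1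
    have e10 := congrFun (congrFun hkk 1) 0
    have e11 := congrFun (congrFun hkk 1) 1
    simp [Matrix.mul_apply, Fin.sum_univ_two] at e00 e01 e10 e11
    have htr : k.1 0 0 + k.1 1 1 = 0 := by
      linear_combination k.1 1 1 * e00 - k.1 1 0 * e01 - (k.1 0 0 + k.1 1 1 - k.1 1 1) * hdk + 0 * e10
    have g00 : k.1 0 0 = g.1 0 0 * g.1 0 0 + g.1 0 1 * g.1 1 0 := by
      rw [hk, sq, CfsgLib.Linear.SL2_mul_apply]
    have g11 : k.1 1 1 = g.1 1 0 * g.1 0 1 + g.1 1 1 * g.1 1 1 := by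
      rw [hk, sq, CfsgLib.Linear.SL2_mul_apply]
    refine hsq2 ⟨g.1 0 0 + g.1 1 1, ?_⟩
    linear_combination -htr - 2 * hdg + g00 + g11


end Cfsg.Agent.S0276
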