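import Cfsg.Statements.S0285
import Cfsg.Agent.Lib.Classical.Herm.Std
-- import your own Cfsg.Agent.* helpers here

set_option autoImplicit false
open Cfsg

namespace Cfsg.Agent.S0285

open CfsgLib.Classical

/-- The standard Hermitian form on F^n, |F| = q^2, has exactly (q^n - (-1)^n)(q^(n-1) + (-1)^n) non-zero isotropic vectors; counting the zero vector too: -/
theorem result {F : Type*} [Field F] [Fintype F] {q : ℕ} (hF : Fintype.card F = q ^ 2) (n : ℕ) : Nat.card {v : Fin n → F // Cfsg.hermForm n F q v v = 0} = (if Even n then (q ^ n - 1) * (q ^ (n - 1) + 1) else (q ^ n + 1) * (q ^ (n - 1) - 1)) + 1 := by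
  rcases n with _ | m
  · simp [Cfsg.hermForm]
  have hq := Herm.two_le_of_card hF
  have hc := Herm.levelCount_zero_formula hF (m + 1)
  rw [Herm.levelCount] at hc
  set N := Nat.card {v : Fin (m + 1) → F // Cfsg.hermForm (m + 1) F q v v = 0}
  have h1 : 1 ≤ q ^ (m + 1) := Nat.one_le_pow _ _ (by omega)
  have h2 : 1 ≤ q ^ m := Nat.one_le_pow _ _ (by omega)
  rw [show 2 * (m + 1) = (m + 1) + (m + 1) by ring, pow_add] at hc
  rw [Nat.add_sub_cancel]
  refine Int.natCast_inj.1 (mul_left_cancel₀ (show (q : ℤ) ≠ 0 by omega) ?_)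
  rw [hc]
  by_cases hm : Even (m + 1)
  · rw [if_pos hm, hm.neg_pow]
    push_cast [Nat.cast_sub h1]
    ring
  · rw [if_neg hm, (Nat.not_even_iff_odd.1 hm).neg_pow]
    push_cast [Nat.cast_sub h2]
    ring

end Cfsg.Agent.S0285
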