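import Cfsg.Statements.S0289
import Cfsg.Agent.Lib.Classical.Quad.Std

set_option autoImplicit false
open Cfsg

namespace Cfsg.Agent.S0289

/-- The hyperbolic quadratic form on F^(2m), m at least 1, has q^(2m-1) + q^m - q^(m-1) zeros (that is, (q^m - 1)(q^(m-1) + 1) non-zero isotropic vectors). -/
theorem result {F : Type*} [Field F] [Fintype F] {q : ℕ} (hF : Fintype.card F = q) (m : ℕ) (hm : 1 ≤ m) : Nat.card {v : Fin m ⊕ Fin m → F // Cfsg.quadFormPlus m F v = 0} = q ^ (2 * m - 1) + q ^ m - q ^ (m - 1) := by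
  have hq : Nat.card F = q := Nat.card_eq_fintype_card.trans hF
  subst hq
  obtain ⟨k, rfl⟩ : ∃ k, m = k + 1 := ⟨m - 1, by omega⟩
  rw [CfsgLib.Classical.Quad.card_level_model (CfsgLib.Classical.Quad.plusEquiv (k + 1) F)
      (CfsgLib.Classical.Quad.plusEquiv_spec (k + 1)), CfsgLib.Classical.Quad.card_level_hypForm,
    CfsgLib.Classical.Quad.card_zeros_zeroKernel, Nat.card_fun, Nat.card_fin, pow_zero, mul_one, mul_one,
    Nat.add_sub_cancel, show 2 * (k + 1) - 1 = k + 1 + k by omega, pow_add (Nat.card F) (k + 1) k, Nat.sub_mul, one_mul]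
  have h1 : Nat.card F ^ k ≤ Nat.card F ^ (k + 1) * Nat.card F ^ k :=
    Nat.le_mul_of_pos_left _ (Nat.pow_pos Nat.card_pos)
  omega

end Cfsg.Agent.S0289
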