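import Cfsg.Statements.S0290
import Cfsg.Agent.Lib.Classical.Quad.Std

set_option autoImplicit false
open Cfsg

namespace Cfsg.Agent.S0290

/-- The minus-type quadratic form on F^(2m), m at least 1, has q^(2m-1) + q^(m-1) - q^m zeros (that is, (q^m + 1)(q^(m-1) - 1) non-zero isotropic vectors). -/
theorem result {F : Type*} [Field F] [Fintype F] {q : ℕ} (hF : Fintype.card F = q) (m : ℕ) (hm : 1 ≤ m) (a b : F) (hab : ∀ z₁ z₂ : F, z₁ ^ 2 + a * z₁ * z₂ + b * z₂ ^ 2 = 0 → z₁ = 0 ∧ z₂ = 0) : Nat.card {v : (Fin (m - 1) ⊕ Fin (m - 1)) ⊕ Fin 2 → F // Cfsg.quadFormMinus (m - 1) F a b v = 0} = q ^ (2 * m - 1) + q ^ (m - 1) - q ^ m := by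
  have hq : Nat.card F = q := Nat.card_eq_fintype_card.trans hF
  subst hq
  obtain ⟨k, rfl⟩ : ∃ k, m = k + 1 := ⟨m - 1, by omega⟩
  show Nat.card {v : (Fin k ⊕ Fin k) ⊕ Fin 2 → F // Cfsg.quadFormMinus k F a b v = 0} =
    Nat.card F ^ (2 * (k + 1) - 1) + Nat.card F ^ k - Nat.card F ^ (k + 1)
  rw [CfsgLib.Classical.Quad.card_level_model (CfsgLib.Classical.Quad.minusEquiv k F)
      (CfsgLib.Classical.Quad.minusEquiv_spec k a b), CfsgLib.Classical.Quad.card_level_hypForm,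
    CfsgLib.Classical.Quad.card_zeros_binForm hab, Nat.card_fun, Nat.card_fin, mul_one,
    show 2 * (k + 1) - 1 = k + (k + 1) by omega, pow_add (Nat.card F) k (k + 1)]
  rcases k with _ | j
  · simp
  rw [Nat.add_sub_cancel, Nat.sub_mul, one_mul, Nat.sub_mul,
    show Nat.card F ^ (j + 1) * Nat.card F ^ j * Nat.card F ^ 2
      = Nat.card F ^ (j + 1) * Nat.card F ^ (j + 1 + 1) by ring,
    show Nat.card F ^ j * Nat.card F ^ 2 = Nat.card F ^ (j + 1 + 1) by ring]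
  have h1 : Nat.card F ^ (j + 1 + 1) ≤ Nat.card F ^ (j + 1) * Nat.card F ^ (j + 1 + 1) :=
    Nat.le_mul_of_pos_left _ (Nat.pow_pos Nat.card_pos)
  omega

end Cfsg.Agent.S0290
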