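import Cfsg.Statements.S0291
import Cfsg.Agent.Lib.Classical.Quad.Std

set_option autoImplicit false
open Cfsg

namespace Cfsg.Agent.S0291

/-- For q odd, the form x_0^2 + sum_{i<m} x_i y_i on F^(2m+1) has exactly q^(2m) zeros. -/
theorem result {F : Type*} [Field F] [Fintype F] {q : ℕ} (hF : Fintype.card F = q) (hodd : Odd q) (m : ℕ) : Nat.card {v : Unit ⊕ (Fin m ⊕ Fin m) → F // Cfsg.quadFormOdd m F v = 0} = q ^ (2 * m) := by
  have hq : Nat.card F = q := Nat.card_eq_fintype_card.trans hF
  subst hq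
  rw [CfsgLib.Classical.Quad.card_level_model (CfsgLib.Classical.Quad.oddEquiv m F)
      (CfsgLib.Classical.Quad.oddEquiv_spec m), CfsgLib.Classical.Quad.card_level_hypForm,
    CfsgLib.Classical.Quad.card_zeros_lineForm, Nat.card_fun, Nat.card_eq_fintype_card (α := Unit),
    Fintype.card_unit, pow_one, mul_one]
  rcases m with _ | j
  · simp
  rw [Nat.add_sub_cancel, mul_assoc, ← pow_succ, Nat.sub_mul, one_mul, ← pow_add, ← two_mul]
  exact Nat.sub_add_cancel (Nat.pow_le_pow_right Nat.card_pos (by omega))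

end Cfsg.Agent.S0291
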