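import Cfsg.Statements.S0295
import Cfsg.Agent.Lib.Classical.Quad.Std

set_option autoImplicit false
open Cfsg

namespace Cfsg.Agent.S0295

/-- PΩ_{2m+1}(q) is simple for q odd and m at least 3. -/
theorem result {F : Type*} [Field F] [Fintype F] (hodd : Odd (Fintype.card F)) (m : ℕ) (hm : 3 ≤ m) : IsSimpleGroup (Cfsg.POmega F (Cfsg.quadFormOdd m F)) := by
  have h2 : (2 : F) ≠ 0 :=
    CfsgLib.Classical.Quad.two_ne_zero_iff_odd.2 (by rwa [Nat.card_eq_fintype_card])
  exact CfsgLib.Classical.Quad.isSimpleGroup_pomega (CfsgLib.Classical.Quad.oddEquiv m F)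
    (CfsgLib.Classical.Quad.oddEquiv_spec m)
    (CfsgLib.Classical.Quad.ndPolar_hypForm (CfsgLib.Classical.Quad.ndPolar_lineForm h2) m)
    (CfsgLib.Classical.Quad.hypFrameKernel (by omega) 1
      (by simp [CfsgLib.Classical.Quad.lineForm_apply]))

end Cfsg.Agent.S0295
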