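import Cfsg.Statements.S0307
import Cfsg.Agent.Lib.Linear.Card
-- import your own Cfsg.Agent.* helpers here

set_option autoImplicit false
open Cfsg

namespace Cfsg.Agent.S0307

/-- PSL_n(q) is normal in PGL_n(q) with cyclic quotient of order gcd(n, q-1): the image of the natural map PSL_n → PGL_n is the kernel of a surjective homomorphism onto the cyclic group of that order. -/
theorem result {F : Type*} [Field F] [Fintype F] {q : ℕ} (hF : Fintype.card F = q) (n : ℕ) (hn : 1 ≤ n) : ∃ g : Matrix.ProjGenLinGroup (Fin n) F →* Multiplicative (ZMod (Nat.gcd n (q - 1))), Function.Surjective g ∧ g.ker = (Matrix.ProjectiveSpecialLinearGroup.toPGL : Matrix.ProjectiveSpecialLinearGroup (Fin n) F →* Matrix.ProjGenLinGroup (Fin n) F).range := by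
  classical
  haveI : Nonempty (Fin n) := ⟨⟨0, hn⟩⟩
  set R : Subgroup Fˣ := (powMonoidHom n : Fˣ →* Fˣ).range with hR
  have hcard : Nat.card (Fˣ ⧸ R) = Nat.gcd n (q - 1) := by
    rw [← Subgroup.index_eq_card, IsCyclic.index_powMonoidHom_range, Nat.card_units,
      Nat.card_eq_fintype_card, hF, Nat.gcd_comm]
  haveI : NeZero (Nat.gcd n (q - 1)) := ⟨(Nat.gcd_pos_of_pos_left _ (by omega)).ne'⟩
  haveI : IsCyclic (Fˣ ⧸ R) :=
    isCyclic_of_surjective (QuotientGroup.mk' R) (QuotientGroup.mk'_surjective R)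
  let ψ : Fˣ ⧸ R ≃* Multiplicative (ZMod (Nat.gcd n (q - 1))) :=
    mulEquivOfCyclicCardEq (by rw [hcard, Nat.card_congr Multiplicative.toAdd, Nat.card_zmod])
  let φ : GL (Fin n) F →* Multiplicative (ZMod (Nat.gcd n (q - 1))) :=
    ψ.toMonoidHom.comp ((QuotientGroup.mk' R).comp Matrix.GeneralLinearGroup.det)
  have hdet : ∀ μ : Fˣ, Matrix.GeneralLinearGroup.det (Matrix.GeneralLinearGroup.scalar (Fin n) μ)
      = μ ^ n := fun μ => Units.ext (by simp [Matrix.det_diagonal])
  have hmem : ∀ A : GL (Fin n) F, A ∈ φ.ker ↔ Matrix.GeneralLinearGroup.det A ∈ R := fun A => by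
    simp [φ, MonoidHom.mem_ker, QuotientGroup.eq_one_iff]
  have hker : Subgroup.center (GL (Fin n) F) ≤ φ.ker := by
    intro z hz
    rw [Matrix.GeneralLinearGroup.center_eq_range_scalar] at hz
    obtain ⟨μ, rfl⟩ := hz
    exact (hmem _).2 ⟨μ, (hdet μ).symm⟩
  refine ⟨QuotientGroup.lift _ φ hker, ?_, ?_⟩
  · intro y
    obtain ⟨d, rfl⟩ := (ψ.surjective.comp (QuotientGroup.mk'_surjective R)) y
    refine ⟨QuotientGroup.mk ⟨Matrix.diagonal (fun i => if i = (⟨0, hn⟩ : Fin n) then (d : F) else 1),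
      Matrix.diagonal (fun i => if i = (⟨0, hn⟩ : Fin n) then ((d⁻¹ : Fˣ) : F) else 1), ?_, ?_⟩, ?_⟩
    · rw [Matrix.diagonal_mul_diagonal, ← Matrix.diagonal_one]
      congr 1; funext i; split <;> simp
    · rw [Matrix.diagonal_mul_diagonal, ← Matrix.diagonal_one]
      congr 1; funext i; split <;> simp
    · refine congrArg (fun u => ψ (QuotientGroup.mk' R u)) (Units.ext ?_)
      simp [Matrix.det_diagonal]
  · ext x
    obtain ⟨A, rfl⟩ := Matrix.ProjGenLinGroup.mk_surjective x
    constructor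
    · intro hx
      obtain ⟨μ, hμ⟩ := (hmem A).1 hx
      have hd : Matrix.GeneralLinearGroup.det
          (A * (Matrix.GeneralLinearGroup.scalar (Fin n) μ)⁻¹) = 1 := by
        rw [map_mul, map_inv, hdet, show μ ^ n = Matrix.GeneralLinearGroup.det A from hμ,
          mul_inv_cancel]
      let S : Matrix.SpecialLinearGroup (Fin n) F :=
        ⟨((A * (Matrix.GeneralLinearGroup.scalar (Fin n) μ)⁻¹ : GL (Fin n) F) :
          Matrix (Fin n) (Fin n) F), by
            have h := congrArg Units.val hd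
            rwa [Matrix.GeneralLinearGroup.val_det_apply, Units.val_one] at h⟩
      refine ⟨QuotientGroup.mk S, ?_⟩
      refine (QuotientGroup.eq.2 ?_)
      rw [Matrix.GeneralLinearGroup.center_eq_range_scalar]
      refine ⟨μ, ?_⟩
      rw [eq_inv_mul_iff_mul_eq]
      calc _ = A * (Matrix.GeneralLinearGroup.scalar (Fin n) μ)⁻¹ *
            Matrix.GeneralLinearGroup.scalar (Fin n) μ := by
              congr 1; exact Units.ext rfl
        _ = A := inv_mul_cancel_right _ _
    · rintro ⟨y, hy⟩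
      obtain ⟨S, rfl⟩ := QuotientGroup.mk_surjective y
      rw [← hy, Matrix.ProjectiveSpecialLinearGroup.toPGL_mk]
      refine (hmem _).2 ⟨1, Units.ext ?_⟩
      simpa using (S.2).symm

end Cfsg.Agent.S0307
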