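import Cfsg.Statements.S0312
import Cfsg.Agent.Lib.BN.Basic

set_option autoImplicit false
open Cfsg

namespace Cfsg.Agent.S0312

/-- Every standard parabolic subgroup of a group with a (B,N)-pair equals its own normaliser. -/
theorem result {G : Type*} [Group G] (P : Cfsg.BNPair G) {J : Set G}
    (hJ : J ⊆ P.S) : Subgroup.normalizer (P.parabolic J : Set G) = P.parabolic J := by
  refine le_antisymm (fun g hg => ?_) Subgroup.le_normalizer
  obtain ⟨w, hw⟩ := CfsgLib.BN.exists_cell P g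
  obtain ⟨n, hn, rfl⟩ := CfsgLib.BN.exists_rep P w
  obtain ⟨b, hb, b', hb', rfl⟩ := (CfsgLib.BN.mem_cell_wk P hn).1 hw
  have hB := CfsgLib.BN.B_le_parabolic P J
  refine mul_mem (mul_mem (hB hb) ?_) (hB hb')
  refine CfsgLib.BN.mem_of_conj_le P hB hn fun c hc => ?_
  rw [Subgroup.mem_normalizer_iff] at hg
  have h1 := (hg (b'⁻¹ * c * b')).1 (hB (mul_mem (mul_mem (inv_mem hb') hc) hb'))
  have h2 := mul_mem (mul_mem (inv_mem (hB hb)) h1) (hB hb)
  simpa [mul_assoc] using h2

end Cfsg.Agent.S0312
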