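import Cfsg.Statements.S0313
import Cfsg.Agent.Lib.BN.Basic

set_option autoImplicit false
open Cfsg

namespace Cfsg.Agent.S0313

/-- Two standard parabolic subgroups of a group with a (B,N)-pair which are conjugate in `G` coincide. -/
theorem result {G : Type*} [Group G] (P : Cfsg.BNPair G) {J K : Set G}
    (hJ : J ⊆ P.S) (hK : K ⊆ P.S) (g : G)
    (h : (P.parabolic J).map (MulAut.conj g).toMonoidHom = P.parabolic K) :
    P.parabolic J = P.parabolic K := by
  obtain ⟨w, hw⟩ := CfsgLib.BN.exists_cell P g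
  obtain ⟨n, hn, rfl⟩ := CfsgLib.BN.exists_rep P w
  obtain ⟨b, hb, b', hb', rfl⟩ := (CfsgLib.BN.mem_cell_wk P hn).1 hw
  have hBJ := CfsgLib.BN.B_le_parabolic P J
  have hBK := CfsgLib.BN.B_le_parabolic P K
  have hiff : ∀ x, x ∈ P.parabolic J ↔ n * x * n⁻¹ ∈ P.parabolic K := by
    intro x
    constructor
    · intro hx
      have hx' : b'⁻¹ * x * b' ∈ P.parabolic J :=
        mul_mem (mul_mem (inv_mem (hBJ hb')) hx) (hBJ hb')
      have h1 : b * n * b' * (b'⁻¹ * x * b') * (b * n * b')⁻¹ ∈ P.parabolic K :=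
        h ▸ Subgroup.mem_map_of_mem _ hx'
      have h2 := mul_mem (mul_mem (inv_mem (hBK hb)) h1) (hBK hb)
      simpa [mul_assoc] using h2
    · intro hx
      have h1 : b * (n * x * n⁻¹) * b⁻¹ ∈
          (P.parabolic J).map (MulAut.conj (b * n * b')).toMonoidHom :=
        h.symm ▸ mul_mem (mul_mem (hBK hb) hx) (inv_mem (hBK hb))
      obtain ⟨y, hy, hyx⟩ := Subgroup.mem_map.1 h1
      have hy' : x = b' * y * b'⁻¹ := by
        simp only [MulEquiv.coe_toMonoidHom, MulAut.conj_apply] at hyx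
        calc x = n⁻¹ * b⁻¹ * (b * (n * x * n⁻¹) * b⁻¹) * b * n := by group
          _ = b' * y * b'⁻¹ := by rw [← hyx]; group
      rw [hy']
      exact mul_mem (mul_mem (hBJ hb') hy) (inv_mem (hBJ hb'))
  have hnK : n ∈ P.parabolic K :=
    CfsgLib.BN.mem_of_conj_le P hBK hn fun c hc => (hiff c).1 (hBJ hc)
  ext x
  rw [hiff]
  constructor
  · intro hx
    simpa [mul_assoc] using mul_mem (mul_mem (inv_mem hnK) hx) hnK
  · intro hx
    exact mul_mem (mul_mem hnK hx) (inv_mem hnK)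

end Cfsg.Agent.S0313
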