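import Cfsg.Statements.S0316
import Cfsg.Agent.Lib.BN.Basic

set_option autoImplicit false
open Cfsg

namespace Cfsg.Agent.S0316

/-- The map `J ↦ P_J` is a lattice isomorphism from the power set of the set of distinguished generators onto the
subgroups containing `B`. -/
theorem result {G : Type*} [Group G] (P : Cfsg.BNPair G) :
    ∃ e : Set P.S ≃o {M : Subgroup G // P.B ≤ M},
      ∀ J : Set P.S, ((e J : {M : Subgroup G // P.B ≤ M}) : Subgroup G) = P.parabolic (Subtype.val '' J) := by
  have hsub : ∀ J : Set P.S, Subtype.val '' J ⊆ P.S := fun J => by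
    rintro _ ⟨x, _, rfl⟩; exact x.2
  refine ⟨
    { toFun := fun J => ⟨P.parabolic (Subtype.val '' J), CfsgLib.BN.B_le_parabolic P _⟩
      invFun := fun M => {s | (s : G) ∈ M.1}
      left_inv := fun J => ?_
      right_inv := fun M => ?_
      map_rel_iff' := ?_ }, fun J => rfl⟩
  · ext s
    constructor
    · intro hs
      obtain ⟨x, hx, he⟩ := CfsgLib.BN.mem_parabolic_S P (hsub J) s.2 hs
      exact Subtype.ext he ▸ hx
    · intro hs
      exact CfsgLib.BN.subset_parabolic P ⟨s, hs, rfl⟩
  · apply Subtype.ext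
    have hset : Subtype.val '' {s : P.S | (s : G) ∈ M.1} = {s | s ∈ P.S ∧ s ∈ M.1} := by
      ext x
      constructor
      · rintro ⟨y, hy, rfl⟩; exact ⟨y.2, hy⟩
      · rintro ⟨h1, h2⟩; exact ⟨⟨x, h1⟩, h2, rfl⟩
    show P.parabolic (Subtype.val '' {s : P.S | (s : G) ∈ M.1}) = M.1
    rw [hset]
    exact (CfsgLib.BN.eq_parabolic P M.2).symm
  · intro J K
    exact (CfsgLib.BN.parabolic_le_iff P (hsub J) (hsub K)).trans
      (Set.image_subset_image_iff Subtype.val_injective)

end Cfsg.Agent.S0316
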