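import Cfsg.Statements.S0321
import Cfsg.Agent.Lib.BN.Basic

set_option autoImplicit false
open Cfsg

namespace Cfsg.Agent.S0321

/-- For `n ∈ N` not in `B`, the union `B ∪ B n B` is (the underlying set of) a subgroup exactly when `n` agrees
modulo `B ⊓ N` with one of the distinguished representatives; thus the distinguished involutions are
determined by `B` and `N`. -/
theorem result {G : Type*} [Group G] (P : Cfsg.BNPair G) {n : G}
    (hn : n ∈ P.N) (hnB : n ∉ P.B) :
    (∃ H : Subgroup G, (H : Set G) = (P.B : Set G) ∪ DoubleCoset.doubleCoset n (P.B : Set G) P.B) ↔ ∃ s ∈ P.S, s⁻¹ * n ∈ P.B := by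
  constructor
  · rintro ⟨H, hH⟩
    have hB : P.B ≤ H := fun x hx => by
      rw [← SetLike.mem_coe, hH]; exact Or.inl hx
    have hnH : n ∈ H := by
      rw [← SetLike.mem_coe, hH]; exact Or.inr (DoubleCoset.mem_doubleCoset_self _ _ _)
    obtain ⟨l, hl, hlp⟩ := CfsgLib.BN.conj_le P hB hn
      (fun b hb => mul_mem (mul_mem hnH (hB hb)) (inv_mem hnH))
    rcases l with _ | ⟨s, l⟩
    · exact absurd ((CfsgLib.BN.wk_eq_one_iff P hn).1 hlp.symm) hnB
    refine ⟨s, s.2, ?_⟩
    have hs : (s : G) ∈ (H : Set G) := hl s (by simp)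
    rw [hH] at hs
    rcases hs with hs | hs
    · exact absurd hs (CfsgLib.BN.S_not_mem_B P s.2)
    · rw [← CfsgLib.BN.cell_wk P hn] at hs
      exact (CfsgLib.BN.wk_eq_iff P (P.subset s.2) hn).1
        (CfsgLib.BN.eq_of_mem_cell P (CfsgLib.BN.sgen_mem_cell P s) hs)
  · rintro ⟨s, hs, hsn⟩
    have hcell : CfsgLib.BN.cell P (CfsgLib.BN.sgen P ⟨s, hs⟩) =
        DoubleCoset.doubleCoset n (P.B : Set G) P.B := by
      rw [← CfsgLib.BN.cell_wk P hn, ← (CfsgLib.BN.wk_eq_iff P (P.subset hs) hn).2 hsn]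
      rfl
    refine ⟨P.parabolic {s}, Set.Subset.antisymm (fun g hg => ?_) (fun g hg => ?_)⟩
    · obtain ⟨w, ⟨l, hl, rfl⟩, hgw⟩ :=
        (CfsgLib.BN.mem_parabolic P (Set.singleton_subset_iff.2 hs)).1 hg
      have key : (l.map (CfsgLib.BN.sgen P)).prod = 1 ∨
          (l.map (CfsgLib.BN.sgen P)).prod = CfsgLib.BN.sgen P ⟨s, hs⟩ := by
        clear hgw hg
        induction l with
        | nil => exact Or.inl rfl
        | cons a r ih =>
          have ha : a = ⟨s, hs⟩ := Subtype.ext (hl a (by simp))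
          subst ha
          rcases ih (fun i hi => hl i (List.mem_cons_of_mem _ hi)) with h | h
          · right; simp [h]
          · left; simp [h, CfsgLib.BN.sgen_sq]
      rcases key with h | h <;> rw [h] at hgw
      · exact Or.inl ((CfsgLib.BN.mem_cell_one P).1 hgw)
      · exact Or.inr (hcell ▸ hgw)
    · rcases hg with hg | hg
      · exact CfsgLib.BN.B_le_parabolic P _ hg
      · rw [← hcell] at hg
        exact (CfsgLib.BN.mem_parabolic P (Set.singleton_subset_iff.2 hs)).2
          ⟨_, ⟨[⟨s, hs⟩], by simp, by simp⟩, hg⟩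

end Cfsg.Agent.S0321
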