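import Cfsg.Statements.S0322
import Cfsg.Agent.Lib.BN.Basic

set_option autoImplicit false
open Cfsg

namespace Cfsg.Agent.S0322

/-- A group with a (B,N)-pair of rank one acts doubly transitively on the left cosets of `B`. -/
theorem result {G : Type*} [Group G] (P : Cfsg.BNPair G) (h : P.rank = 1) : MulAction.IsMultiplyPretransitive G (G ⧸ P.B) 2 := by
  obtain ⟨s, hs⟩ : ∃ s, P.S = {s} := Set.ncard_eq_one.1 h
  have hsS : s ∈ P.S := by rw [hs]; rfl
  have key : ∀ g : G, g ∈ P.B ∨ ∃ b ∈ P.B, ∃ b' ∈ P.B, g = b * s * b' := by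
    intro g
    obtain ⟨w, hw⟩ := CfsgLib.BN.exists_cell P g
    obtain ⟨l, rfl⟩ := CfsgLib.BN.sgen_gen P w
    have : (l.map (CfsgLib.BN.sgen P)).prod = 1 ∨
        (l.map (CfsgLib.BN.sgen P)).prod = CfsgLib.BN.sgen P ⟨s, hsS⟩ := by
      clear hw
      induction l with
      | nil => exact Or.inl rfl
      | cons a r ih =>
        obtain rfl : a = ⟨s, hsS⟩ := Subtype.ext (by have := a.2; simpa [hs] using this)
        rcases ih with h | h
        · right; simp [h]
        · left; simp [h, CfsgLib.BN.sgen_sq]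
    rcases this with h' | h' <;> rw [h'] at hw
    · exact Or.inl ((CfsgLib.BN.mem_cell_one P).1 hw)
    · exact Or.inr ((CfsgLib.BN.mem_cell_wk P _).1 hw)
  have one : ∀ a b : G ⧸ P.B, a ≠ b →
      ∃ g : G, g • a = ((1 : G) : G ⧸ P.B) ∧ g • b = (s : G ⧸ P.B) := by
    intro a b hab
    obtain ⟨x, rfl⟩ := QuotientGroup.mk_surjective a
    obtain ⟨y, rfl⟩ := QuotientGroup.mk_surjective b
    rcases key (x⁻¹ * y) with h' | ⟨c, hc, c', hc', he⟩
    · exact absurd (QuotientGroup.eq.2 h') hab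
    · refine ⟨c⁻¹ * x⁻¹, ?_, ?_⟩
      · rw [MulAction.Quotient.smul_coe, QuotientGroup.eq]
        simpa [mul_assoc] using hc
      · rw [MulAction.Quotient.smul_coe, QuotientGroup.eq]
        have : ((c⁻¹ * x⁻¹) • y)⁻¹ * s = c'⁻¹ := by
          rw [smul_eq_mul, mul_assoc, he]; group
        rw [this]
        exact inv_mem hc'
  rw [MulAction.is_two_pretransitive_iff]
  intro a b c d hab hcd
  obtain ⟨g, hga, hgb⟩ := one a b hab
  obtain ⟨k, hkc, hkd⟩ := one c d hcd
  exact ⟨k⁻¹ * g, by rw [mul_smul, hga, ← hkc, inv_smul_smul],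
    by rw [mul_smul, hgb, ← hkd, inv_smul_smul]⟩

end Cfsg.Agent.S0322
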