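import Cfsg.Statements.S0421
import Cfsg.Agent.Lib.M12Order.Shapes
import Cfsg.Agent.Lib.M12Order.Invol
import Cfsg.Agent.Lib.M12Order.Assembly
import Cfsg.Agent.Lib.Golay.Mathieu

set_option autoImplicit false
open scoped Pointwise
open Cfsg

namespace Cfsg.Agent.S0421

/-- Simple groups of order 95040 are all isomorphic to the concrete Mathieu group of degree 12. -/
theorem result {G : Type*} [Group G] [Finite G] (hG : Cfsg.IsM12 G) (d : Finset Cfsg.GolayPt) (hd : d ∈ Cfsg.dodecads) : Nonempty (G ≃* ↥(MulAction.stabilizer Cfsg.M24 d)) := by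
  haveI := hG.1
  haveI : Fintype G := Fintype.ofFinite G
  obtain ⟨K, hW, hL, h5⟩ := CfsgLib.M12Order.exists_census hG.2
  have h11 : ∀ z : G, orderOf z = 11 → Nat.card ↥(Subgroup.centralizer ({z} : Set G)) = 11 :=
    fun z hz => (CfsgLib.M12Order.eleven_data hG.2 hz).1
  obtain ⟨e⟩ := CfsgLib.M12Order.nonempty_equiv_of_census hG.2 h11 h5
    (fun y s hy hs hc => CfsgLib.M12Order.card_centralizer_invol hG.2 K hW hL h5 h11 hy hs hc)
    (CfsgLib.M12Order.card_involutions_le hG.2 K hW hL h5 h11)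
  obtain ⟨f⟩ := CfsgLib.Golay.nonempty_stab_dodecad hd
  exact ⟨e.trans f.symm⟩

end Cfsg.Agent.S0421
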