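import Cfsg.Statements.S0436
import Cfsg.Agent.Lib.ThreeTrans.Basic

set_option autoImplicit false
open Cfsg

namespace Cfsg.Agent.S0436

/-- For distinct commuting members a, b of a set of 3-transpositions E, a member e of E centralises the product a * b if and only if it centralises both a and b. -/
theorem result {G : Type*} [Group G] {E : Set G} (hE : Cfsg.IsThreeTranspositionSet E) {a b e : G} (ha : a ∈ E) (hb : b ∈ E) (he : e ∈ E) (hab : a ≠ b) (hcomm : Commute a b) : Commute e (a * b) ↔ (Commute e a ∧ Commute e b) := by
  refine ⟨fun h => ?_, fun h => h.1.mul_right h.2⟩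
  have ma := CfsgLib.ThreeTrans.mul_self hE ha
  have mb := CfsgLib.ThreeTrans.mul_self hE hb
  have me := CfsgLib.ThreeTrans.mul_self hE he
  by_cases hea : Commute e a
  · refine ⟨hea, ?_⟩
    have : Commute e (a * (a * b)) := hea.mul_right h
    rwa [← mul_assoc, ma, one_mul] at this
  by_cases heb : Commute e b
  · exfalso
    have : Commute e (a * b * b) := h.mul_right heb
    rw [mul_assoc, mb, mul_one] at this
    exact hea this
  exfalso
  have b1 : a * e * a = e * a * e := CfsgLib.ThreeTrans.braid hE ha he (fun c => hea c.symm)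
  have b2 : b * e * b = e * b * e := CfsgLib.ThreeTrans.braid hE hb he (fun c => heb c.symm)
  have e1 : (e * a * e) * (e * b * e) = a * b := by
    have hh : e * (a * b) * e = a * b := by
      rw [h.eq, mul_assoc, me, mul_one]
    simp only [mul_assoc] at hh ⊢
    rw [← mul_assoc e e, me, one_mul]
    exact hh
  rw [← b1, ← b2] at e1
  have e2 : e * a * (b * e) = 1 := by
    have := congrArg (fun w => a⁻¹ * w * b⁻¹) e1
    simpa [mul_assoc] using this
  apply hab
  have e3 := congrArg (fun w => e⁻¹ * w * e⁻¹) e2
  simp [mul_assoc] at e3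
  have hee : e⁻¹ = e := CfsgLib.ThreeTrans.inv_eq hE he
  rw [hee, me] at e3
  have e4 := congrArg (fun w => w * b) e3
  simpa [mul_assoc, mb] using e4

end Cfsg.Agent.S0436
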