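import Cfsg.Statements.S0437
import Cfsg.Agent.Lib.ThreeTrans.Basic
import Cfsg.Agent.S0436

set_option autoImplicit false
open Cfsg

namespace Cfsg.Agent.S0437

/-- For three distinct, pairwise commuting members a, b, c of a set of 3-transpositions E, a member e of E centralises a * b * c if and only if it centralises each of a, b and c. -/
theorem result {G : Type*} [Group G] {E : Set G} (hE : Cfsg.IsThreeTranspositionSet E) {a b c e : G} (ha : a ∈ E) (hb : b ∈ E) (hc : c ∈ E) (he : e ∈ E) (hab : a ≠ b) (hac : a ≠ c) (hbc : b ≠ c) (h₁ : Commute a b) (h₂ : Commute a c) (h₃ : Commute b c) : Commute e (a * b * c) ↔ (Commute e a ∧ Commute e b ∧ Commute e c) := by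
  refine ⟨fun h => ?_, fun h => (h.1.mul_right h.2.1).mul_right h.2.2⟩
  have ma := CfsgLib.ThreeTrans.mul_self hE ha
  have mb := CfsgLib.ThreeTrans.mul_self hE hb
  have mc := CfsgLib.ThreeTrans.mul_self hE hc
  have me := CfsgLib.ThreeTrans.mul_self hE he
  have key : ∀ u v : G, u ∈ E → v ∈ E → u ≠ v → Commute u v → Commute e (u * v) →
      Commute e u ∧ Commute e v := fun u v hu hv hne hc h' =>
    (Cfsg.Agent.S0436.result hE hu hv he hne hc).1 h'
  by_cases hea : Commute e a
  · refine ⟨hea, key b c hb hc hbc h₃ ?_⟩
    have : Commute e (a * (a * b * c)) := hea.mul_right h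
    rwa [← mul_assoc, ← mul_assoc, ma, one_mul] at this
  by_cases heb : Commute e b
  · exfalso
    apply hea
    have h' : Commute e (b * (a * b * c)) := heb.mul_right h
    rw [h₁.eq, ← mul_assoc, ← mul_assoc, mb, one_mul] at h'
    exact (key a c ha hc hac h₂ h').1
  by_cases hec : Commute e c
  · exfalso
    apply hea
    have h' : Commute e (a * b * c * c) := h.mul_right hec
    rw [mul_assoc, mc, mul_one] at h'
    exact (key a b ha hb hab h₁ h').1
  exfalso
  have b1 : a * e * a = e * a * e := CfsgLib.ThreeTrans.braid hE ha he (fun w => hea w.symm)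
  have b2 : b * e * b = e * b * e := CfsgLib.ThreeTrans.braid hE hb he (fun w => heb w.symm)
  have b3 : c * e * c = e * c * e := CfsgLib.ThreeTrans.braid hE hc he (fun w => hec w.symm)
  have e1 : (e * a * e) * (e * b * e) * (e * c * e) = a * b * c := by
    have hh : e * (a * b * c) * e = a * b * c := by
      rw [h.eq, mul_assoc, me, mul_one]
    simp only [mul_assoc] at hh ⊢
    rw [← mul_assoc e e, me, one_mul, ← mul_assoc e e, me, one_mul]
    exact hh
  rw [← b1, ← b2, ← b3] at e1
  -- cancel `a` on the left and `c` on the right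
  have e2 : e * (a * b) * e * (b * c) * e = b := by
    have := congrArg (fun w => a⁻¹ * w * c⁻¹) e1
    simpa [mul_assoc] using this
  have e3 : b * c * e = a * (e * (a * b * c)) := by
    rw [h.eq]
    simp only [← mul_assoc, ma, one_mul]
  rw [mul_assoc _ (b * c) e, e3] at e2
  have e4 : e * b * e * b * c = b := by
    have l : e * (a * b) * e * (a * (e * (a * b * c))) = e * (a * b) * (e * a * e) * (a * b * c) := by
      simp only [mul_assoc]
    rw [l, ← b1] at e2
    have r : e * (a * b) * (a * e * a) * (a * b * c) = e * (a * b * a) * e * (a * a) * b * c := by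
      simp only [mul_assoc]
    rw [r, ma, mul_one, h₁.eq, mul_assoc b a a, ma, mul_one] at e2
    exact e2
  -- hence `c = e` and so `e` commutes with `a`
  apply hea
  have e5 : e * b * e = b * e * b := b2.symm
  rw [e5] at e4
  have e6 : b * e * b * b * c = b := e4
  rw [mul_assoc _ b b, mb, mul_one, mul_assoc] at e6
  have e7 : e * c = 1 := by
    simpa using congrArg (fun w => b⁻¹ * w) e6
  have e8 : e = c := by
    rw [eq_inv_of_mul_eq_one_left e7, CfsgLib.ThreeTrans.inv_eq hE hc]
  rw [e8]
  exact h₂.symm

end Cfsg.Agent.S0437
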