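import Cfsg.Statements.S0439
import Mathlib

set_option autoImplicit false
open Cfsg

namespace Cfsg.Agent.S0439

/-- In the symmetric group of degree n ≥ 2, the set of transpositions is a conjugacy class of 3-transpositions which generates the group. -/
theorem result (n : ℕ) (hn : 2 ≤ n) : Cfsg.IsThreeTranspositionClass {σ : Equiv.Perm (Fin n) | σ.IsSwap} := by
  have key : ∀ x y z w : Fin n, x ≠ y → z ≠ w →
      (Equiv.swap x y * Equiv.swap z w) ^ 2 = 1 ∨ (Equiv.swap x y * Equiv.swap z w) ^ 3 = 1 := by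
    have case3 : ∀ x y w : Fin n, x ≠ y → x ≠ w →
        (Equiv.swap x y * Equiv.swap x w) ^ 2 = 1 ∨ (Equiv.swap x y * Equiv.swap x w) ^ 3 = 1 := by
      intro x y w hxy hxw
      rcases eq_or_ne y w with rfl | hyw
      · left; simp
      · right
        have := (Equiv.Perm.isThreeCycle_swap_mul_swap_same hxy hxw hyw).orderOf
        rw [← this]; exact pow_orderOf_eq_one _
    intro x y z w hxy hzw
    by_cases h1 : x = z
    · subst h1; exact case3 x y w hxy hzw
    by_cases h2 : x = w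
    · subst h2; rw [Equiv.swap_comm z x]; exact case3 x y z hxy (Ne.symm hzw)
    by_cases h3 : y = z
    · subst h3; rw [Equiv.swap_comm x y]; exact case3 y x w hxy.symm hzw
    by_cases h4 : y = w
    · subst h4; rw [Equiv.swap_comm x y, Equiv.swap_comm z y]
      exact case3 y x z hxy.symm (Ne.symm hzw)
    left
    have hc : Commute (Equiv.swap x y) (Equiv.swap z w) :=
      (Equiv.Perm.disjoint_iff_disjoint_support.2 (by
        rw [Equiv.Perm.support_swap hxy, Equiv.Perm.support_swap hzw]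
        simp [h1, h2, h3, h4, Ne.symm h1, Ne.symm h2, Ne.symm h3, Ne.symm h4])).commute
    rw [hc.mul_pow]; simp [pow_two]
  refine ⟨⟨fun d hd => ?_, fun d hd e he => ?_⟩, ?_, Equiv.Perm.closure_isSwap⟩
  · obtain ⟨x, y, hxy, rfl⟩ := hd
    exact orderOf_eq_prime (by simp [pow_two]) fun h => hxy (Equiv.swap_eq_one_iff.1 h)
  · obtain ⟨x, y, hxy, rfl⟩ := hd
    obtain ⟨z, w, hzw, rfl⟩ := he
    exact key x y z w hxy hzw
  · have h01 : (⟨0, by omega⟩ : Fin n) ≠ ⟨1, by omega⟩ := by simp [Fin.ext_iff]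
    refine ⟨_, ⟨_, _, h01, rfl⟩, Set.ext fun σ => ⟨fun hσ => ?_, fun hσ => ?_⟩⟩
    · obtain ⟨x, y, hxy, rfl⟩ := hσ
      show IsConj _ _
      exact Equiv.Perm.isConj_swap h01 hxy
    · obtain ⟨g, rfl⟩ := isConj_iff.1 (show IsConj _ σ from hσ)
      refine ⟨g ⟨0, by omega⟩, g ⟨1, by omega⟩, fun h => h01 (g.injective h), ?_⟩
      rw [Equiv.swap_apply_apply]

end Cfsg.Agent.S0439
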