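import Cfsg.Statements.S0440
import Cfsg.Agent.Lib.Linear.Symplectic

set_option autoImplicit false
open Cfsg

namespace Cfsg.Agent.S0440

open Matrix CfsgLib.Linear.Symp

theorem zmod_two_cases (a : ZMod 2) : a = 0 ∨ a = 1 := by revert a; decide

theorem rank_vecMulVec_eq_one {ι K : Type*} [Fintype ι] [DecidableEq ι] [Field K] {u w : ι → K}
    (hu : u ≠ 0) (hw : w ≠ 0) : (vecMulVec u w).rank = 1 := by
  refine le_antisymm (rank_vecMulVec_le u w) ?_
  rw [Nat.one_le_iff_ne_zero]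
  intro h
  rw [Matrix.rank, Submodule.finrank_eq_zero, LinearMap.range_eq_bot] at h
  obtain ⟨i, hi⟩ := Function.ne_iff.1 hu
  obtain ⟨j, hj⟩ := Function.ne_iff.1 hw
  have h2 := congrFun (LinearMap.congr_fun h (Pi.single j 1)) i
  simp [mulVec_single, vecMulVec] at h2
  exact h2.elim hi hj

theorem exists_eq_of_rank_one {n : ℕ} {F : Type*} [Field F] {g : Matrix.symplecticGroup (Fin n) F}
    (hg : ((g : Matrix (Fin n ⊕ Fin n) (Fin n ⊕ Fin n) F) - 1).rank = 1) :
    ∃ (a : Fin n ⊕ Fin n → F) (φ : (Fin n ⊕ Fin n → F) → F), a ≠ 0 ∧ φ ≠ 0 ∧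
      ∀ x, g • x = x + φ x • a := by
  set M := (g : Matrix (Fin n ⊕ Fin n) (Fin n ⊕ Fin n) F) - 1
  rw [Matrix.rank] at hg
  obtain ⟨⟨a, ha⟩, ha0, hspan⟩ := finrank_eq_one_iff'.1 hg
  have hex : ∀ x, ∃ c : F, c • a = M *ᵥ x := fun x => by
    obtain ⟨c, hc⟩ := hspan ⟨M *ᵥ x, ⟨x, rfl⟩⟩
    exact ⟨c, congrArg Subtype.val hc⟩
  choose φ hφ using hex
  obtain ⟨x0, hx0⟩ := ha
  have ha' : a ≠ 0 := fun h => ha0 (Subtype.ext h)
  refine ⟨a, φ, ha', fun h0 => ?_, fun x => ?_⟩
  · apply ha'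
    rw [← hx0]
    show M *ᵥ x0 = 0
    rw [← hφ x0, h0]; simp
  · rw [hφ x, sub_mulVec, one_mulVec, add_sub_cancel, smul_def]

/-- In the symplectic group in dimension 2n ≥ 2 over the field with two elements, the elements g for which g - 1 has rank one (the symplectic transvections) form a conjugacy class of 3-transpositions generating the group. -/
theorem result (n : ℕ) (hn : 1 ≤ n) : Cfsg.IsThreeTranspositionClass {g : Matrix.symplecticGroup (Fin n) (ZMod 2) | ((g : Matrix (Fin n ⊕ Fin n) (Fin n ⊕ Fin n) (ZMod 2)) - 1).rank = 1} := by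
  set D := {g : Matrix.symplecticGroup (Fin n) (ZMod 2) |
    ((g : Matrix (Fin n ⊕ Fin n) (Fin n ⊕ Fin n) (ZMod 2)) - 1).rank = 1}
  have hD : ∀ g, g ∈ D ↔ ∃ v, v ≠ 0 ∧ g = tv v 1 := by
    intro g
    constructor
    · intro hg
      obtain ⟨a, φ, ha, hφ, hga⟩ := exists_eq_of_rank_one hg
      obtain ⟨y, hy⟩ := exists_form_ne_zero ha
      have hy1 : sympForm n (ZMod 2) a y = 1 := ((zmod_two_cases (sympForm n (ZMod 2) a y))).resolve_left hy
      have hrel : ∀ x, φ x = φ y * sympForm n (ZMod 2) x a := by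
        intro x
        have h := form_smul_smul g x y
        rw [hga, hga] at h
        simp only [form_add_left, form_add_right, form_smul_left, form_smul_right, form_self,
          mul_zero, add_zero, hy1, mul_one] at h
        have h2 : φ x + φ y * sympForm n (ZMod 2) x a = 0 := by linear_combination h
        rwa [CharTwo.add_eq_zero] at h2
      have hy0 : φ y ≠ 0 := fun h0 => hφ (funext fun x => by rw [hrel x, h0, zero_mul]; rfl)
      refine ⟨a, ha, group_ext fun x => ?_⟩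
      rw [tv_smul, hga, hrel x, ((zmod_two_cases (φ y))).resolve_left hy0]
    · rintro ⟨v, hv, rfl⟩
      show ((sympTransvection n v 1) - 1).rank = 1
      rw [sympTransvection, add_sub_cancel_left, one_smul]
      exact rank_vecMulVec_eq_one hv fun h => hv
        (eq_zero_of_forall_form fun w => by
          rw [form_swap]
          show -(w ⬝ᵥ (Matrix.J (Fin n) (ZMod 2)) *ᵥ v) = 0
          rw [h, dotProduct_zero, neg_zero])
  have hcomm : ∀ u v : Fin n ⊕ Fin n → ZMod 2, sympForm n (ZMod 2) u v = 0 →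
      (tv u 1 * tv v 1) ^ 2 = 1 := by
    intro u v h
    have hc : Commute (tv u (1 : ZMod 2)) (tv v 1) := tv_commute h 1 1
    rw [hc.mul_pow, pow_two, pow_two, tv_add, tv_add,
      CharTwo.add_self_eq_zero, tv_zero, tv_zero, one_mul]
  refine ⟨⟨fun d hd => ?_, fun d hd e he => ?_⟩, ?_, ?_⟩
  · obtain ⟨v, hv, rfl⟩ := (hD d).1 hd
    exact orderOf_eq_prime (by rw [pow_two, tv_add, CharTwo.add_self_eq_zero, tv_zero])
      (tv_ne_one hv one_ne_zero)
  · obtain ⟨u, hu, rfl⟩ := (hD d).1 hd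
    obtain ⟨v, hv, rfl⟩ := (hD e).1 he
    by_cases h : sympForm n (ZMod 2) u v = 0
    · exact Or.inl (hcomm u v h)
    · right
      have h1 := (zmod_two_cases (sympForm n (ZMod 2) u v)).resolve_left h
      have h1' : sympForm n (ZMod 2) v u = 1 := by rw [form_swap, h1]; rfl
      have i1 : ∀ w : Fin n ⊕ Fin n → ZMod 2, (tv w 1)⁻¹ = tv w 1 := fun w => by
        rw [tv_inv]; congr 1
      have c1 := tv_conj (tv u 1) v 1
      have c2 := tv_conj (tv v 1) u 1
      rw [i1, tv_smul, h1'] at c1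
      rw [i1, tv_smul, h1] at c2
      have hb : tv u 1 * tv v 1 * tv u 1 = tv v 1 * tv u 1 * tv v 1 := by
        rw [c1, c2, mul_one, one_smul, one_smul, add_comm]
      have m2 : ∀ w : Fin n ⊕ Fin n → ZMod 2, tv w 1 * tv w 1 = 1 := fun w => by
        rw [tv_add, CharTwo.add_self_eq_zero, tv_zero]
      rw [pow_succ, pow_two]
      calc tv u 1 * tv v 1 * (tv u 1 * tv v 1) * (tv u 1 * tv v 1)
          = (tv u 1 * tv v 1 * tv u 1) * (tv v 1 * tv u 1 * tv v 1) := by simp only [mul_assoc]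
        _ = (tv v 1 * tv u 1 * tv v 1) * (tv v 1 * tv u 1 * tv v 1) := by rw [hb]
        _ = tv v 1 * (tv u 1 * ((tv v 1 * tv v 1) * (tv u 1 * tv v 1))) := by simp only [mul_assoc]
        _ = 1 := by rw [m2, one_mul, ← mul_assoc (tv u 1), m2, one_mul, m2]
  · let v0 : Fin n ⊕ Fin n → ZMod 2 := Pi.single (.inl ⟨0, hn⟩) 1
    have hv0 : v0 ≠ 0 := by simp [v0]
    refine ⟨tv v0 1, (hD _).2 ⟨v0, hv0, rfl⟩, Set.ext fun g => ⟨fun hg => ?_, fun hg => ?_⟩⟩
    · obtain ⟨v, hv, rfl⟩ := (hD g).1 hg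
      obtain ⟨k, hk⟩ := exists_smul_eq_of_ne_zero hv0 hv
      exact isConj_iff.2 ⟨k, by rw [tv_conj, hk]⟩
    · obtain ⟨k, rfl⟩ := isConj_iff.1 (show IsConj _ g from hg)
      rw [tv_conj]
      exact (hD _).2 ⟨_, (smul_ne_zero_iff_ne k).2 hv0, rfl⟩
  · rw [eq_top_iff, ← transvectionSubgroup_eq_top, transvectionSubgroup, Subgroup.closure_le]
    rintro A ⟨w, c, hA⟩
    have hA' : A = tv w c := Subtype.ext hA
    subst hA'
    by_cases hc : c = 0
    · subst hc; rw [tv_zero]; exact one_mem _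
    by_cases hw : w = 0
    · subst hw
      have : tv (0 : Fin n ⊕ Fin n → ZMod 2) c = 1 := group_ext fun x => by simp [tv_smul]
      rw [this]; exact one_mem _
    rw [(zmod_two_cases c).resolve_left hc]
    exact Subgroup.subset_closure ((hD _).2 ⟨w, hw, rfl⟩)

end Cfsg.Agent.S0440
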