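import Cfsg.Statements.S0441
import Cfsg.Agent.Lib.ThreeTrans.RankThree
import Cfsg.Agent.Lib.ThreeTransp.Primitive

set_option autoImplicit false
open Cfsg

namespace Cfsg.Agent.S0441

open scoped commutatorElement

/-- Fischer's rank-three property. Let a finite group be generated by a conjugacy class D of 3-transpositions, with non-abelian simple commutator subgroup. Then for a in D there are members of D other than a commuting with a and members not commuting with a, and the centraliser of a acts transitively on each of these two sets. -/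
theorem result {G : Type*} [Group G] [Finite G] {D : Set G} (hD : Cfsg.IsThreeTranspositionClass D) (hsimple : IsSimpleGroup (commutator G)) (hnonab : ∃ x y : commutator G, x * y ≠ y * x) {a : G} (ha : a ∈ D) : (∃ b ∈ D, b ≠ a ∧ Commute a b) ∧ (∃ c ∈ D, ¬ Commute a c) ∧ (∀ b ∈ D, ∀ b' ∈ D, b ≠ a → b' ≠ a → Commute a b → Commute a b' → ∃ g : G, Commute g a ∧ g * b * g⁻¹ = b') ∧ (∀ c ∈ D, ∀ c' ∈ D, ¬ Commute a c → ¬ Commute a c' → ∃ g : G, Commute g a ∧ g * c * g⁻¹ = c') := by
  obtain ⟨hset, hconj, hgen⟩ := CfsgLib.ThreeTransp.class_to_group hD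
  set L := commutator G with hLdef
  have hLn : L.Normal := inferInstance
  obtain ⟨x0, y0, hxy0⟩ := hnonab
  have hLne : L ≠ ⊥ := by
    intro h
    apply hxy0
    have h1 : ∀ w : L, w = 1 := fun w => Subtype.ext (Subgroup.mem_bot.1 (h ▸ w.2))
    rw [h1 x0, h1 y0]
  have hD2 : ∃ a ∈ D, ∃ b ∈ D, a ≠ b := by
    by_contra hcon
    push Not at hcon
    apply hLne
    rw [hLdef, commutator_def, Subgroup.commutator_eq_bot_iff_le_centralizer, ← hgen,
      Subgroup.closure_le]
    intro d hd
    rw [SetLike.mem_coe, Subgroup.mem_centralizer_iff]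
    intro w hw
    have : Subgroup.closure D ≤ Subgroup.centralizer ({d} : Set G) := by
      rw [Subgroup.closure_le]
      intro e he
      rw [hcon e he d hd]
      exact Subgroup.mem_centralizer_singleton_iff.2 rfl
    exact Subgroup.mem_centralizer_singleton_iff.1 (this hw)
  have hinter : ∀ N : Subgroup G, N.Normal → L ≤ N ∨ N ⊓ L = ⊥ := by
    intro N hN
    rcases (hN.subgroupOf L).eq_bot_or_eq_top with h | h
    · exact Or.inr (disjoint_iff.1 (Subgroup.subgroupOf_eq_bot.1 h))
    · exact Or.inl (Subgroup.subgroupOf_eq_top.1 h)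
  have hcore : ∀ p : ℕ, p.Prime → Cfsg.pCore p G ⊓ L = ⊥ := by
    intro p hp
    have : Fact p.Prime := ⟨hp⟩
    have hpn : (Cfsg.pCore p G).Normal := inferInstance
    rcases hinter _ hpn with h | h
    · exfalso
      have hPL : IsPGroup p L := IsPGroup.to_le (CfsgLib.LargeXS.pCore_isPGroup p G) h
      have : Nontrivial L := (Subgroup.nontrivial_iff_ne_bot L).2 hLne
      have hnt := hPL.center_nontrivial
      rcases Subgroup.Normal.eq_bot_or_eq_top (inferInstance : (Subgroup.center L).Normal) with hb | ht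
      · exact (Subgroup.nontrivial_iff_ne_bot _).1 hnt hb
      · exact hxy0 ((Subgroup.mem_center_iff.1 (by rw [ht]; exact Subgroup.mem_top y0)) x0)
    · exact h
  have hcenter : ∀ p : ℕ, p.Prime → Cfsg.pCore p G ≤ Subgroup.center G := by
    intro p hp g hg
    have hpn : (Cfsg.pCore p G).Normal := inferInstance
    refine Subgroup.mem_center_iff.2 fun k => ?_
    have h1 : k * g * k⁻¹ * g⁻¹ ∈ Cfsg.pCore p G ⊓ L :=
      Subgroup.mem_inf.2 ⟨Subgroup.mul_mem _ (hpn.conj_mem g hg k) (Subgroup.inv_mem _ hg),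
        by rw [hLdef, commutator_def]; exact Subgroup.commutator_mem_commutator (Subgroup.mem_top k) (Subgroup.mem_top g)⟩
    rw [hcore p hp, Subgroup.mem_bot, mul_inv_eq_one, mul_inv_eq_iff_eq_mul] at h1
    exact h1
  have h2 := hcenter 2 Nat.prime_two
  have h3 := hcenter 3 Nat.prime_three
  obtain ⟨hEn, hEq, hEF⟩ := CfsgLib.ThreeTransp.layer_component hD hD2 h2 h3
  have hEL : Cfsg.layer G ≤ L := by
    have hp : ⁅Cfsg.layer G, Cfsg.layer G⁆ = Cfsg.layer G := Subgroup.isPerfect_iff.1 hEq.1
    rw [← hp, hLdef, commutator_def]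
    exact Subgroup.commutator_mono le_top le_top
  have hEeq : Cfsg.layer G = L := by
    rcases hinter _ hEn with h | h
    · exact le_antisymm hEL h
    · exact absurd (by rwa [inf_eq_left.2 hEL] at h) (CfsgLib.ThreeTransp.layer_ne_bot hD hD2 h2 h3)
  -- all members of the class agree modulo the commutator subgroup
  have hdiff : ∀ u ∈ D, ∀ v ∈ D, u * v ∈ L := by
    intro u hu v hv
    obtain ⟨g, rfl⟩ := CfsgLib.ThreeTransp.class_conj hD hu hv
    have h1 : u * (g * u * g⁻¹) = ⁅u, g⁆ := by
      have hu2 := CfsgLib.ThreeTrans.inv_eq hD.1 hu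
      rw [commutatorElement_def, hu2]; group
    rw [h1, hLdef, commutator_def]
    exact Subgroup.commutator_mem_commutator (Subgroup.mem_top u) (Subgroup.mem_top g)
  have hidx : L.index ≤ 2 := by
    have hall : ∀ g : G, g ∈ L ∨ g * a ∈ L := by
      intro g
      have hg : g ∈ Subgroup.closure D := by rw [hgen]; exact Subgroup.mem_top g
      have haa := CfsgLib.ThreeTrans.mul_self hD.1 ha
      have hai := CfsgLib.ThreeTrans.inv_eq hD.1 ha
      have hswap : ∀ g : G, g ∈ L → a * g * a ∈ L := fun g hg => by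
        have := hLn.conj_mem g hg a
        rwa [hai] at this
      induction hg using Subgroup.closure_induction with
      | mem e he => exact Or.inr (hdiff e he a ha)
      | one => exact Or.inl (one_mem _)
      | mul u v _ _ hu hv =>
        rcases hu with hu | hu <;> rcases hv with hv | hv
        · exact Or.inl (mul_mem hu hv)
        · exact Or.inr (by rw [mul_assoc]; exact mul_mem hu hv)
        · right
          have : u * v * a = (u * a) * (a * v * a) := by
            calc u * v * a = u * (a * a) * v * a := by rw [haa, mul_one]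
              _ = _ := by simp only [mul_assoc]
          rw [this]; exact mul_mem hu (hswap v hv)
        · left
          have : u * v = (u * a) * (a * (v * a) * a) := by
            calc u * v = u * (a * a) * v * (a * a) := by rw [haa, mul_one, mul_one]
              _ = _ := by simp only [mul_assoc]
          rw [this]; exact mul_mem hu (hswap _ hv)
      | inv u _ hu =>
        rcases hu with hu | hu
        · exact Or.inl (inv_mem hu)
        · right
          have : u⁻¹ * a = a * (u * a)⁻¹ * a := by
            rw [mul_inv_rev, hai]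
            calc u⁻¹ * a = (a * a) * u⁻¹ * a := by rw [haa, one_mul]
              _ = _ := by simp only [mul_assoc]
          rw [this]; exact hswap _ (inv_mem hu)
    have hsurj : Function.Surjective (fun i : Fin 2 => if i = 0 then (1 : G ⧸ L) else QuotientGroup.mk a) := by
      intro q
      obtain ⟨g, rfl⟩ := QuotientGroup.mk_surjective q
      rcases hall g with h | h
      · exact ⟨0, ((QuotientGroup.eq_one_iff g).2 h).symm⟩
      · refine ⟨1, ?_⟩
        have haa := CfsgLib.ThreeTrans.mul_self hD.1 ha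
        show (QuotientGroup.mk a : G ⧸ L) = QuotientGroup.mk g
        rw [QuotientGroup.eq, CfsgLib.ThreeTrans.inv_eq hD.1 ha]
        have := hLn.conj_mem _ h a
        rwa [CfsgLib.ThreeTrans.inv_eq hD.1 ha, ← mul_assoc, mul_assoc (a * g), haa, mul_one] at this
    have := Nat.card_le_card_of_surjective _ hsurj
    rw [Nat.card_fin] at this
    exact this
  have hqL : Cfsg.IsQuasisimple L := hEeq ▸ hEq
  have hF : Cfsg.generalizedFittingSubgroup G = L ⊔ Subgroup.center G := hEeq ▸ hEF
  have hprim := CfsgLib.ThreeTransp.isPrimitive_of_index_le_two hD hD2 h2 h3 hqL hF hidx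
  have hone : ∀ p : ℕ, p.Prime → ∀ u ∈ D, ∀ v ∈ D, u * v ∈ Cfsg.pCore p G → u = v := by
    intro p hp u hu v hv h
    have h1 : u * v ∈ Cfsg.pCore p G ⊓ L := ⟨h, hdiff u hu v hv⟩
    rw [hcore p hp, Subgroup.mem_bot] at h1
    rw [eq_inv_of_mul_eq_one_left h1, CfsgLib.ThreeTrans.inv_eq hD.1 hv]
  have hsame : ∀ u ∈ D, ∀ v ∈ D, CfsgLib.ThreeTransp.SameComm D u v → u = v := fun u hu v hv h =>
    hone 2 Nat.prime_two u hu v hv (CfsgLib.ThreeTransp.mul_mem_of_sameComm hset hconj hu hv h)
  have hedge : ∃ u ∈ D, ∃ v ∈ D, u ≠ v ∧ Commute u v := by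
    by_contra hcon
    push Not at hcon
    obtain ⟨u, hu, v, hv, huv⟩ := hD2
    refine huv (hone 3 Nat.prime_three u hu v hv
      (CfsgLib.ThreeTransp.mul_mem_of_sameLink hset hconj hu hv fun y hy => ?_))
    exact ⟨fun h => absurd h.2 (hcon u hu y hy h.1.symm), fun h => absurd h.2 (hcon v hv y hy h.1.symm)⟩
  refine ⟨?_, CfsgLib.ThreeTransp.exists_not_commute hD hD2 ha, fun b hb b' hb' hne hne' hc hc' =>
    CfsgLib.ThreeTrans.rel_commuting hD hprim hedge hsame ha hb hb' hne hne' hc hc',
    fun c hc c' hc' h h' => CfsgLib.ThreeTrans.rel_noncommuting hD hprim hedge ha hc hc' h h'⟩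
  obtain ⟨u, hu, v, hv, huv, hc⟩ := hedge
  obtain ⟨g, hg⟩ := CfsgLib.ThreeTransp.class_conj hD hu ha
  refine ⟨g * v * g⁻¹, CfsgLib.ThreeTransp.class_conj_mem hD g hv, fun h => huv ?_, ?_⟩
  · exact (mul_left_cancel (mul_right_cancel (h.trans hg.symm))).symm
  · rw [← hg]; exact (CfsgLib.ThreeTrans.commute_conj_iff' g u v).2 hc

end Cfsg.Agent.S0441
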