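import Cfsg.Statements.S0442
import Mathlib

set_option autoImplicit false
open Cfsg

namespace Cfsg.Agent.S0442

/-- A standard trick for producing elements of an involution centraliser: for an involution a and an element g, let b be the conjugate g⁻¹ * a * g. If a * b has odd order 2m + 1 then g * (a * b) ^ m commutes with a; if a * b has even order 2m then (a * b) ^ m and (a * (g * a * g⁻¹)) ^ m commute with a. -/
theorem result {G : Type*} [Group G] (a g : G) (ha : orderOf a = 2) : (∀ m : ℕ, orderOf (a * (g⁻¹ * a * g)) = 2 * m + 1 → Commute (g * (a * (g⁻¹ * a * g)) ^ m) a) ∧ (∀ m : ℕ, orderOf (a * (g⁻¹ * a * g)) = 2 * m → Commute ((a * (g⁻¹ * a * g)) ^ m) a ∧ Commute ((a * (g * a * g⁻¹)) ^ m) a) := by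
  have ha2 : a * a = 1 := by
    have := pow_orderOf_eq_one a
    rwa [ha, pow_two] at this
  have hai : a⁻¹ = a := inv_eq_of_mul_eq_one_left ha2
  have flip : ∀ b : G, b * b = 1 → ∀ k : ℕ, a * (a * b) ^ k * a = ((a * b) ^ k)⁻¹ := by
    intro b hb k
    have h1 : ((a * b) ^ k)⁻¹ = (b * a) ^ k := by
      rw [← inv_pow, mul_inv_rev, hai, inv_eq_of_mul_eq_one_left hb]
    rw [h1]
    have h2 : a * (a * b) * a⁻¹ = b * a := by rw [hai, ← mul_assoc, ha2, one_mul]
    rw [← h2, conj_pow, hai]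
  have hb : (g⁻¹ * a * g) * (g⁻¹ * a * g) = 1 := by
    calc (g⁻¹ * a * g) * (g⁻¹ * a * g) = g⁻¹ * (a * a) * g := by group
      _ = 1 := by rw [ha2]; group
  have hb' : (g * a * g⁻¹) * (g * a * g⁻¹) = 1 := by
    calc (g * a * g⁻¹) * (g * a * g⁻¹) = g * (a * a) * g⁻¹ := by group
      _ = 1 := by rw [ha2]; group
  have even : ∀ b : G, b * b = 1 → ∀ m : ℕ, (a * b) ^ (2 * m) = 1 → Commute ((a * b) ^ m) a := by
    intro b hb m hm
    have h1 : ((a * b) ^ m)⁻¹ = (a * b) ^ m :=
      inv_eq_of_mul_eq_one_left (by rw [← pow_add, ← two_mul, hm])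
    have h2 := flip b hb m
    rw [h1] at h2
    have h3 := congrArg (fun w => a * w) h2
    simp only [← mul_assoc, ha2, one_mul] at h3
    exact h3
  refine ⟨fun m hm => ?_, fun m hm => ⟨even _ hb m (hm ▸ pow_orderOf_eq_one _), even _ hb' m ?_⟩⟩
  · generalize hbd : g⁻¹ * a * g = b at hm hb
    have hpow : (a * b) ^ (2 * m + 1) = 1 := hm ▸ pow_orderOf_eq_one _
    have h2 := flip b hb m
    have h3 : ((a * b) ^ m)⁻¹ = (a * b) ^ (m + 1) :=
      inv_eq_of_mul_eq_one_right (by rw [← pow_add, ← add_assoc, ← two_mul, hpow])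
    rw [h3] at h2
    -- conjugating `a` by `(a * b) ^ m` gives `b`
    have h4 : (a * b) ^ m * a = b * (a * b) ^ m := by
      have h5 := congrArg (fun w => a * w) h2
      simp only [← mul_assoc, ha2, one_mul] at h5
      rw [h5, pow_succ', ← mul_assoc, ← mul_assoc, ha2, one_mul]
    show g * (a * b) ^ m * a = a * (g * (a * b) ^ m)
    rw [mul_assoc, h4, ← mul_assoc, ← hbd]
    group
  · have hord : orderOf (a * (g * a * g⁻¹)) = 2 * m := by
      rw [← hm]
      have : a * (g * a * g⁻¹) = g * (a * (g⁻¹ * a * g))⁻¹ * g⁻¹ := by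
        simp only [mul_inv_rev, inv_inv, hai]; group
      rw [this]
      have h6 := (SemiconjBy.conj_mk g (a * (g⁻¹ * a * g))⁻¹).orderOf_eq
      rw [← h6, orderOf_inv]
    exact hord ▸ pow_orderOf_eq_one _

end Cfsg.Agent.S0442
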