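import Cfsg.Statements.S0445
import Mathlib

set_option autoImplicit false
open Cfsg

namespace Cfsg.Agent.S0445

open Matrix

/-- Parametrisation of the matrices commuting with the transvection. -/
def mkMat (A : Matrix (Fin 3) (Fin 3) (ZMod 2)) (a c : Fin 3 → ZMod 2) (b : ZMod 2) :
    Matrix (Fin 5) (Fin 5) (ZMod 2) :=
  !![1, b, a 0, a 1, a 2;
     0, 1, 0, 0, 0;
     0, c 0, A 0 0, A 0 1, A 0 2;
     0, c 1, A 1 0, A 1 1, A 1 2;
     0, c 2, A 2 0, A 2 1, A 2 2]

theorem det_mkMat (A : Matrix (Fin 3) (Fin 3) (ZMod 2)) (a c : Fin 3 → ZMod 2) (b : ZMod 2) :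
    (mkMat A a c b).det = A.det := by
  rw [Matrix.det_succ_column_zero, Matrix.det_fin_three A]
  simp [Fin.sum_univ_succ, mkMat, Matrix.det_succ_row_zero (n := 3), Matrix.det_fin_three,
    Fin.succAbove]

theorem mkMat_commute (A : Matrix (Fin 3) (Fin 3) (ZMod 2)) (a c : Fin 3 → ZMod 2) (b : ZMod 2) :
    mkMat A a c b * Matrix.transvection 0 1 1 = Matrix.transvection 0 1 1 * mkMat A a c b := by
  have hT : Matrix.transvection (0 : Fin 5) 1 (1 : ZMod 2) =
      !![1, 1, 0, 0, 0; 0, 1, 0, 0, 0; 0, 0, 1, 0, 0; 0, 0, 0, 1, 0; 0, 0, 0, 0, 1] := by decide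
  rw [hT, mkMat]
  ext i j
  fin_cases i <;> fin_cases j <;> simp [Matrix.mul_apply, Fin.sum_univ_succ] <;> ring

theorem zmod_two_one {a : ZMod 2} (h : a ≠ 0) : a = 1 := by revert a; decide


/-- The parametrisation, as an element of the special linear group. -/
def mkSL (A : Matrix (Fin 3) (Fin 3) (ZMod 2)) (a c : Fin 3 → ZMod 2) (b : ZMod 2)
    (h : A.det ≠ 0) : Matrix.SpecialLinearGroup (Fin 5) (ZMod 2) :=
  ⟨mkMat A a c b, by rw [det_mkMat]; exact zmod_two_one h⟩

theorem coe_mkSL (A : Matrix (Fin 3) (Fin 3) (ZMod 2)) (a c : Fin 3 → ZMod 2) (b : ZMod 2)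
    (h : A.det ≠ 0) : (mkSL A a c b h : Matrix (Fin 5) (Fin 5) (ZMod 2)) = mkMat A a c b := rfl

/-- In the special linear group of dimension 5 over the field with two elements, the centraliser of a transvection has order 21504 = 2 ^ 7 · 168 (it is an extension of an extraspecial group of order 2 ^ 7 by the simple group of order 168). -/
theorem result (s : Matrix.SpecialLinearGroup (Fin 5) (ZMod 2)) (hs : (s : Matrix (Fin 5) (Fin 5) (ZMod 2)) = Matrix.transvection 0 1 1) : Nat.card (Subgroup.centralizer ({s} : Set (Matrix.SpecialLinearGroup (Fin 5) (ZMod 2)))) = 21504 := by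
  let P := GL (Fin 3) (ZMod 2) × (Fin 3 → ZMod 2) × (Fin 3 → ZMod 2) × ZMod 2
  let f : P → Subgroup.centralizer ({s} : Set (Matrix.SpecialLinearGroup (Fin 5) (ZMod 2))) :=
    fun x => ⟨mkSL x.1.1 x.2.1 x.2.2.1 x.2.2.2 x.1.det_ne_zero, by
      rw [Subgroup.mem_centralizer_singleton_iff]
      ext i j
      simp only [Matrix.SpecialLinearGroup.coe_mul, coe_mkSL, hs]
      exact congrFun (congrFun (mkMat_commute _ _ _ _) i) j⟩
  have hbij : Function.Bijective f := by
    constructor
    · rintro ⟨A, a, c, b⟩ ⟨A', a', c', b'⟩ h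
      have h' : mkMat A.1 a c b = mkMat A'.1 a' c' b' :=
        congrArg (fun y => (y.1.1 : Matrix (Fin 5) (Fin 5) (ZMod 2))) h
      have e := fun i j => congrFun (congrFun h' i) j
      refine Prod.ext (Units.ext ?_) (Prod.ext ?_ (Prod.ext ?_ ?_))
      · ext i j
        fin_cases i <;> fin_cases j
        · simpa [mkMat] using e 2 2
        · simpa [mkMat] using e 2 3
        · simpa [mkMat] using e 2 4
        · simpa [mkMat] using e 3 2
        · simpa [mkMat] using e 3 3
        · simpa [mkMat] using e 3 4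
        · simpa [mkMat] using e 4 2
        · simpa [mkMat] using e 4 3
        · simpa [mkMat] using e 4 4
      · funext j
        fin_cases j
        · simpa [mkMat] using e 0 2
        · simpa [mkMat] using e 0 3
        · simpa [mkMat] using e 0 4
      · funext j
        fin_cases j
        · simpa [mkMat] using e 2 1
        · simpa [mkMat] using e 3 1
        · simpa [mkMat] using e 4 1
      · simpa [mkMat] using e 0 1
    · rintro ⟨S, hc⟩
      obtain ⟨M, hMS⟩ : ∃ M : Matrix (Fin 5) (Fin 5) (ZMod 2), (S : Matrix (Fin 5) (Fin 5) (ZMod 2)) = M :=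
        ⟨_, rfl⟩
      have hM : M.det = 1 := hMS ▸ S.prop
      have hc' : M * Matrix.transvection 0 1 1 = Matrix.transvection 0 1 1 * M := by
        rw [← hs, ← hMS]
        have := congrArg (fun x : Matrix.SpecialLinearGroup (Fin 5) (ZMod 2) =>
          (x : Matrix (Fin 5) (Fin 5) (ZMod 2))) (Subgroup.mem_centralizer_singleton_iff.1 hc)
        simpa only [Matrix.SpecialLinearGroup.coe_mul] using this
      have e := fun i j => congrFun (congrFun hc' i) j
      have z : ∀ i : Fin 5, i ≠ 0 → M i 0 = 0 := by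
        intro i hi
        have := e i 1
        rw [Matrix.mul_transvection_apply_same, Matrix.transvection_mul_apply_of_ne _ _ _ _ hi] at this
        simpa using this
      have w : ∀ j : Fin 5, j ≠ 1 → M 1 j = 0 := by
        intro j hj
        have := e 0 j
        rw [Matrix.mul_transvection_apply_of_ne _ _ _ _ hj, Matrix.transvection_mul_apply_same] at this
        simpa using this
      have hd : M 1 1 = M 0 0 := by
        have := e 0 1
        rw [Matrix.mul_transvection_apply_same, Matrix.transvection_mul_apply_same] at this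
        simpa using this.symm
      have h00 : M 0 0 = 1 := by
        apply zmod_two_one
        intro h0
        have : M.det = 0 := Matrix.det_eq_zero_of_column_eq_zero 0 fun i => by
          by_cases hi : i = 0
          · subst hi; exact h0
          · exact z i hi
        rw [this] at hM
        exact zero_ne_one hM
      let A : Matrix (Fin 3) (Fin 3) (ZMod 2) :=
        !![M 2 2, M 2 3, M 2 4; M 3 2, M 3 3, M 3 4; M 4 2, M 4 3, M 4 4]
      let a : Fin 3 → ZMod 2 := ![M 0 2, M 0 3, M 0 4]
      let c : Fin 3 → ZMod 2 := ![M 2 1, M 3 1, M 4 1]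
      have hMeq : mkMat A a c (M 0 1) = M := by
        ext i j
        fin_cases i <;> fin_cases j <;> simp [mkMat, A, a, c, z, w, hd, h00]
      have hA : A.det ≠ 0 := by
        rw [← det_mkMat A a c (M 0 1), hMeq, hM]; exact one_ne_zero
      refine ⟨(Matrix.GeneralLinearGroup.mkOfDetNeZero A hA, a, c, M 0 1), ?_⟩
      exact Subtype.ext (Subtype.ext (hMeq.trans hMS.symm))
  rw [← Nat.card_eq_of_bijective f hbij, Nat.card_prod, Nat.card_prod, Nat.card_prod,
    Matrix.card_GL_field]
  simp [Fin.prod_univ_succ]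

end Cfsg.Agent.S0445
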