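import Cfsg.Statements.S0447
import Cfsg.Agent.Lib.DoubleCover.Small
import Cfsg.Agent.Lib.DoubleCover.Eight

set_option autoImplicit false
open Cfsg

namespace Cfsg.Agent.S0447

/-- Involutions in double covers of alternating groups: for n ≤ 7, a finite non-split double cover of the alternating group of degree n has exactly one element of order 2 (the central one); for degree 8 there is a non-split double cover with two distinct involutions. -/
theorem result : (∀ (n : ℕ) (H : Type) (_ : Group H) (_ : Finite H), n ≤ 7 → Cfsg.IsNonsplitDoubleCover H (alternatingGroup (Fin n)) → ∀ x y : H, orderOf x = 2 → orderOf y = 2 → x = y) ∧ ∃ (H : Type) (_ : Group H) (_ : Finite H), Cfsg.IsNonsplitDoubleCover H (alternatingGroup (Fin 8)) ∧ ∃ x y : H, x ≠ y ∧ orderOf x = 2 ∧ orderOf y = 2 := by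
  refine ⟨fun n H i1 i2 hn hH x y hx hy => ?_, CfsgLib.DoubleCover.exists_double_cover_eight⟩
  have hxc := CfsgLib.DoubleCover.involution_mem_center hn hH hx
  have hyc := CfsgLib.DoubleCover.involution_mem_center hn hH hy
  obtain ⟨a, b, hab, hu⟩ := Nat.card_eq_two_iff.1 hH.1
  have h3 := fun w : Subgroup.center H => Set.eq_univ_iff_forall.1 hu w
  simp only [Set.mem_insert_iff, Set.mem_singleton_iff] at h3
  have hx1 : (⟨x, hxc⟩ : Subgroup.center H) ≠ 1 := fun h => by
    have : x = 1 := congrArg Subtype.val h
    simp [this] at hx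
  have hy1 : (⟨y, hyc⟩ : Subgroup.center H) ≠ 1 := fun h => by
    have : y = 1 := congrArg Subtype.val h
    simp [this] at hy
  have : (⟨x, hxc⟩ : Subgroup.center H) = ⟨y, hyc⟩ := by
    rcases h3 1 with h | h <;> rcases h3 ⟨x, hxc⟩ with h' | h' <;>
      rcases h3 ⟨y, hyc⟩ with h'' | h'' <;> simp_all
  exact congrArg Subtype.val this

end Cfsg.Agent.S0447
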