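import Cfsg.Prelude.Def_SporadicB
import Cfsg.Prelude.Def_Sporadic
import Cfsg.Prelude.Def_Exceptional
import Cfsg.Agent.Lib.RuAut.Simple

set_option autoImplicit false

namespace Cfsg.Agent.S0459

open Cfsg CfsgLib.RuAut CfsgLib.CosetEnum

/-- The Rudvalis group exists as a transitive permutation group of degree 4060: simple of order 145926144000, with point stabiliser of order 35942400 containing a simple subgroup of order 17971200 (the order of the Tits group). -/
theorem result : ∃ H : Subgroup (Equiv.Perm (Fin 4060)), Cfsg.IsRu H ∧ MulAction.IsPretransitive H (Fin 4060) ∧ Nat.card (MulAction.stabilizer H (0 : Fin 4060)) = 35942400 ∧ ∃ T : Subgroup (MulAction.stabilizer H (0 : Fin 4060)), Cfsg.IsTits T := by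
  have hker : piL.ker = Subgroup.center Cfsg.Spor.fourRu := by
    rw [center_eq]
    refine le_antisymm (fun z hz => piL_ker fun l => by rw [MonoidHom.mem_ker.1 hz]; rfl) ?_
    rw [scalars, Subgroup.zpowers_le, MonoidHom.mem_ker]
    refine Equiv.ext fun l => ?_
    rw [← lineOf_repOf l, piL_lineOf, piV_eI, lineOf_jI, Equiv.Perm.one_apply]
  let e : Cfsg.Spor.Ru ≃* piL.range :=
    (QuotientGroup.quotientMulEquivOfEq hker.symm).trans (QuotientGroup.quotientKerEquivRange piL)
  have hcard : Nat.card piL.range = 145926144000 := by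
    rw [← Nat.card_congr e.toEquiv]; exact card_Ru
  have h0 : (lineOf (bPt 0) : Fin 4060) = 0 := Fin.ext (by
    rw [val_lineOf, bPt_val.1]
    exact Nat.eq_of_beq_eq_true fixed_checks.2.2.2.2.1)
  have hpre : MulAction.IsPretransitive piL.range (Fin 4060) := ⟨fun x y => by
    obtain ⟨z, hz⟩ := piL_transitive y x
    exact ⟨⟨piL z, z, rfl⟩, hz⟩⟩
  have hstab : Nat.card (MulAction.stabilizer piL.range (0 : Fin 4060)) = 35942400 := by
    have h := Subgroup.card_mul_index (MulAction.stabilizer piL.range (0 : Fin 4060))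
    rw [MulAction.index_stabilizer_of_transitive piL.range (0 : Fin 4060), Nat.card_fin, hcard] at h
    exact Nat.eq_of_mul_eq_mul_right (by norm_num : 0 < 4060) (h.trans (by norm_num))
  refine ⟨piL.range, ⟨?_, hcard⟩, hpre, hstab, ?_⟩
  · have := isSimple_Ru
    exact e.isSimpleGroup_congr.1 this
  let φ : titsGrp →* MulAction.stabilizer piL.range (0 : Fin 4060) :=
    { toFun := fun z => ⟨⟨piL z, z, rfl⟩, by
        show piL (z : Cfsg.Spor.fourRu) 0 = 0
        rw [← h0]
        exact tits_le_lineStab z.2⟩
      map_one' := Subtype.ext (Subtype.ext (by simp))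
      map_mul' := fun a b => Subtype.ext (Subtype.ext (by simp)) }
  have hφ : Function.Injective φ := by
    have := isSimple_titsGrp
    refine (MonoidHom.ker_eq_bot_iff φ).1 ((MonoidHom.normal_ker φ).eq_bot_or_eq_top.resolve_right fun h => ?_)
    have ht : eT ∈ titsGrp := Subgroup.subset_closure (by simp)
    have h1 : φ ⟨eT, ht⟩ = 1 := MonoidHom.mem_ker.1 (h ▸ Subgroup.mem_top _)
    have h2 : piL eT = 1 := congrArg (fun w => ((w.1 : piL.range) : Equiv.Perm (Fin 4060))) h1
    have hs : eT ∈ scalars := piL_ker fun l => by rw [h2]; rfl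
    have h3 := Subgroup.orderOf_dvd_natCard scalars hs
    rw [← center_eq, card_center, orderOf_eT] at h3
    norm_num at h3
  refine ⟨φ.range, ?_, ?_⟩
  · have := isSimple_titsGrp
    exact (MonoidHom.ofInjective hφ).isSimpleGroup_congr.1 this
  · rw [← Nat.card_congr (MonoidHom.ofInjective hφ).toEquiv, card_titsGrp]

end Cfsg.Agent.S0459
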