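import Cfsg.Statements.S0460
import Cfsg.Agent.Lib.CosetEnum.ON.Sub.Main
import Cfsg.Agent.Lib.CosetEnum.ON.Simple
-- import your own Cfsg.Agent.* helpers here

set_option autoImplicit false
open Cfsg

namespace Cfsg.Agent.S0460

open CfsgLib.CosetEnum in
theorem exists_image (K : Subgroup Cfsg.Spor.ON) :
    ∃ K' : Subgroup ON.π.range, Nonempty (K ≃* K') :=
  ⟨K.map (ON.π.rangeRestrict), ⟨K.equivMapOfInjective _ (MonoidHom.rangeRestrict_injective_iff.mpr ON.injective)⟩⟩

open CfsgLib.CosetEnum in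
theorem transitive_range : MulAction.IsPretransitive ON.π.range (Fin 122760) := by
  refine ⟨fun x y => ?_⟩
  obtain ⟨u, hu⟩ := ON.transitive (by omega) x
  obtain ⟨v, hv⟩ := ON.transitive (by omega) y
  refine ⟨⟨ON.π (v * u⁻¹), _, rfl⟩, ?_⟩
  show ON.π (v * u⁻¹) x = y
  rw [map_mul, Equiv.Perm.mul_apply, ← hu, ← Equiv.Perm.mul_apply (ON.π u⁻¹), ← map_mul, inv_mul_cancel, map_one]
  exact hv

open CfsgLib.CosetEnum in
theorem card_stab : Nat.card (MulAction.stabilizer ON.π.range (0 : Fin 122760)) = 3753792 := by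
  have := transitive_range
  have : Finite Cfsg.Spor.ON := ON.finite
  have h1 := (MulAction.stabilizer ON.π.range (0 : Fin 122760)).card_mul_index
  rw [MulAction.index_stabilizer_of_transitive, Nat.card_fin,
    ← Nat.card_congr (MonoidHom.ofInjective ON.injective).toEquiv, ON.card_group] at h1
  exact Nat.eq_of_mul_eq_mul_right (show 0 < 122760 by norm_num) (h1.trans (by norm_num))

/-- The O'Nan group exists as a transitive permutation group of degree 122760: simple of order 460815505920, point stabiliser of order 3753792, and containing simple subgroups of orders 175560 and 7920. -/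
theorem result : ∃ H : Subgroup (Equiv.Perm (Fin 122760)), Cfsg.IsON H ∧ MulAction.IsPretransitive H (Fin 122760) ∧ Nat.card (MulAction.stabilizer H (0 : Fin 122760)) = 3753792 ∧ (∃ K : Subgroup H, Cfsg.IsJ1 K) ∧ (∃ K : Subgroup H, Cfsg.IsM11 K) := by
  refine ⟨CfsgLib.CosetEnum.ON.π.range, ?_, transitive_range, card_stab, ?_, ?_⟩
  · haveI := CfsgLib.CosetEnum.ON.Simple.isSimple
    have e := MonoidHom.ofInjective CfsgLib.CosetEnum.ON.injective
    exact ⟨(MulEquiv.isSimpleGroup_congr e).mp inferInstance,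
      (Nat.card_congr e.toEquiv).symm.trans CfsgLib.CosetEnum.ON.card_group⟩
  · obtain ⟨K, hs, hc⟩ := CfsgLib.CosetEnum.ON.Sub.exists_J1
    obtain ⟨K', ⟨e⟩⟩ := exists_image K
    exact ⟨K', (MulEquiv.isSimpleGroup_congr e).mp hs, (Nat.card_congr e.toEquiv).symm.trans hc⟩
  · obtain ⟨K, hs, hc⟩ := CfsgLib.CosetEnum.ON.Sub.exists_M11
    obtain ⟨K', ⟨e⟩⟩ := exists_image K
    exact ⟨K', (MulEquiv.isSimpleGroup_congr e).mp hs, (Nat.card_congr e.toEquiv).symm.trans hc⟩

end Cfsg.Agent.S0460
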