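import Cfsg.Statements.S0462
import Cfsg.Agent.Lib.CosetEnum.HeSp.Iso
import Cfsg.Agent.Lib.CosetEnum.He.Simple

set_option autoImplicit false
open Cfsg

namespace Cfsg.Agent.S0462

open CfsgLib.CosetEnum

/-- The presented group as a group of permutations. -/
noncomputable def eπ : Cfsg.Spor.He ≃* He.π.range := MonoidHom.ofInjective He.injective

theorem eπ_apply (z : Cfsg.Spor.He) (k : Fin 2058) : eπ z • k = He.π z k := rfl

theorem fix_iff (z : Cfsg.Spor.He) : He.π z (0 : Fin 2058) = 0 ↔ z ∈ He.H := by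
  have hn : 0 < 2058 := by omega
  constructor
  · intro hz
    have hbij := cosetPt_bijective hn He.π He.H He.covers (He.sub_fix hn) (He.transitive hn)
    have hz' : He.π z (⟨0, hn⟩ : Fin 2058) = ⟨0, hn⟩ := hz
    have h1 : (z : Cfsg.Spor.He ⧸ He.H) = ((1 : Cfsg.Spor.He) : Cfsg.Spor.He ⧸ He.H) :=
      hbij.1 (by rw [cosetPt_mk, cosetPt_mk, hz', map_one, Equiv.Perm.one_apply])
    simpa using QuotientGroup.eq.mp h1.symm
  · exact fun hz => He.sub_fix hn z hz

theorem stab_eq : MulAction.stabilizer He.π.range (0 : Fin 2058) = He.H.map eπ.toMonoidHom := by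
  ext x
  obtain ⟨z, rfl⟩ := eπ.surjective x
  rw [MulAction.mem_stabilizer_iff, eπ_apply, fix_iff, show eπ z = eπ.toMonoidHom z from rfl,
    Subgroup.mem_map_iff_mem (f := eπ.toMonoidHom) eπ.injective]

/-- A Held group acts on 2058 points with point stabiliser having a subgroup of index two isomorphic to Sp(4, 4). -/
theorem result : ∃ H : Subgroup (Equiv.Perm (Fin 2058)), Cfsg.IsHe H ∧ MulAction.IsPretransitive H (Fin 2058) ∧ ∃ (F : Type) (_ : Field F) (_ : Fintype F), Fintype.card F = 4 ∧ ∃ N : Subgroup (MulAction.stabilizer H (0 : Fin 2058)), N.index = 2 ∧ Nonempty (N ≃* Matrix.symplecticGroup (Fin 2) F) := by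
  have hn : 0 < 2058 := by omega
  obtain ⟨⟨e⟩, hidx⟩ := HeSp.exists_iso
  refine ⟨He.π.range, ⟨?_, ?_⟩, ⟨fun x y => ?_⟩, HeSp.F4, inferInstance, inferInstance, CfsgLib.Recog.GF4.card_K4, ?_⟩
  · haveI := He.Simple.isSimple
    exact eπ.symm.isSimpleGroup
  · rw [← Nat.card_congr eπ.toEquiv]
    exact He.card_group
  · obtain ⟨z₁, h1⟩ := He.transitive hn x
    obtain ⟨z₂, h2⟩ := He.transitive hn y
    refine ⟨eπ (z₂ * z₁⁻¹), ?_⟩
    rw [eπ_apply, map_mul, Equiv.Perm.mul_apply, map_inv, Equiv.Perm.inv_def, ← h1, Equiv.symm_apply_apply, h2]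
  · refine ⟨(HeSp.N.map eπ.toMonoidHom).subgroupOf _, ?_, ⟨?_⟩⟩
    · show (HeSp.N.map eπ.toMonoidHom).relIndex (MulAction.stabilizer He.π.range (0 : Fin 2058)) = 2
      rw [stab_eq, Subgroup.relIndex_map_map_of_injective _ _ (show Function.Injective eπ.toMonoidHom from eπ.injective)]
      exact hidx
    · exact ((Subgroup.subgroupOfEquivOfLe (stab_eq.symm ▸ Subgroup.map_mono HeSp.N_le)).trans
        (eπ.subgroupMap HeSp.N).symm).trans e

end Cfsg.Agent.S0462
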