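import Cfsg.Statements.S0471
import Cfsg.Agent.Lib.CosetEnum.Fi22U6.Cover

set_option autoImplicit false
open Cfsg

namespace Cfsg.Agent.S0471

open CfsgLib.CosetEnum

/-- Fi₂₂ realised by a class of 3510 three-transpositions with centralisers double covers of PSU(6, 2). -/
theorem result : ∃ (G : Type) (_ : Group G) (_ : Finite G), Cfsg.IsFi22 G ∧ ∃ D : Set G, Cfsg.IsThreeTranspositionClass D ∧ Nat.card D = 3510 ∧ ∀ d ∈ D, ∃ (F : Type) (_ : Field F) (_ : Fintype F), Fintype.card F = 4 ∧ Cfsg.IsNonsplitDoubleCover (Subgroup.centralizer ({d} : Set G)) (Cfsg.PSU 6 F 2) :=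
  ⟨Cfsg.Spor.Fi22, inferInstance, Fi22.finite, ⟨Fi22.Simple.isSimple, Fi22.card_group⟩, conjugatesOf Fi22U6.z,
    Fi22U6.threeClass, Fi22U6.card_class,
    fun d hd => ⟨Fi22U6.F4, inferInstance, inferInstance, CfsgLib.Recog.GF4.card_K4, Fi22U6.centralizer_conj d hd⟩⟩

end Cfsg.Agent.S0471
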