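import Cfsg.Statements.S0481
import Mathlib

set_option autoImplicit false
open Cfsg

namespace Cfsg.Agent.S0481

/-- Large extraspecial subgroups: let z be an involution of a finite group G whose centraliser C contains a normal 2-subgroup Q with centre of order 2 and all squares central, such that every element of G centralising Q lies in Q. Then C contains a Sylow 2-subgroup of G, and any involution of G whose centraliser contains a Sylow 2-subgroup of G is conjugate to z. -/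
theorem result {G : Type*} [Group G] [Finite G] (z : G) (hz : orderOf z = 2) (Q : Subgroup G) (hQC : Q ≤ Subgroup.centralizer ({z} : Set G)) (hQn : ∀ g ∈ Subgroup.centralizer ({z} : Set G), ∀ q ∈ Q, g * q * g⁻¹ ∈ Q) (hQ2 : IsPGroup 2 Q) (hZ : Nat.card (Subgroup.center Q) = 2) (hsq : ∀ x : Q, x ^ 2 ∈ Subgroup.center Q) (hlarge : Subgroup.centralizer (Q : Set G) ≤ Q) : (∃ P : Sylow 2 G, (P : Subgroup G) ≤ Subgroup.centralizer ({z} : Set G)) ∧ ∀ u : G, orderOf u = 2 → (∃ P : Sylow 2 G, (P : Subgroup G) ≤ Subgroup.centralizer ({u} : Set G)) → IsConj z u := by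
  -- the centre of `Q` is `{1, z}`
  have hzQ : z ∈ Q := hlarge (Subgroup.mem_centralizer_iff.2 fun x hx =>
    Subgroup.mem_centralizer_singleton_iff.1 (hQC hx))
  have hzc : (⟨z, hzQ⟩ : Q) ∈ Subgroup.center Q := Subgroup.mem_center_iff.2 fun x =>
    Subtype.ext (Subgroup.mem_centralizer_singleton_iff.1 (hQC x.2))
  have key : ∀ w : G, w ∈ Subgroup.centralizer (Q : Set G) → w ≠ 1 → w = z := by
    intro w hw hw1
    have hwc : (⟨w, hlarge hw⟩ : Q) ∈ Subgroup.center Q := Subgroup.mem_center_iff.2 fun x =>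
      Subtype.ext (Subgroup.mem_centralizer_iff.1 hw x x.2)
    obtain ⟨a, b, hab, hu⟩ := Nat.card_eq_two_iff.1 hZ
    have hz1 : (⟨⟨z, hzQ⟩, hzc⟩ : Subgroup.center Q) ≠ 1 := by
      intro hh
      have : z = 1 := congrArg (fun y : Subgroup.center Q => ((y : Q) : G)) hh
      simp [this] at hz
    have hw2 : (⟨⟨w, hlarge hw⟩, hwc⟩ : Subgroup.center Q) ≠ 1 := by
      intro hh
      exact hw1 (congrArg (fun y : Subgroup.center Q => ((y : Q) : G)) hh)
    have h3 := fun y : Subgroup.center Q => Set.eq_univ_iff_forall.1 hu y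
    simp only [Set.mem_insert_iff, Set.mem_singleton_iff] at h3
    have : (⟨⟨w, hlarge hw⟩, hwc⟩ : Subgroup.center Q) = ⟨⟨z, hzQ⟩, hzc⟩ := by
      rcases h3 1 with h | h <;> rcases h3 ⟨⟨z, hzQ⟩, hzc⟩ with h' | h' <;>
        rcases h3 ⟨⟨w, hlarge hw⟩, hwc⟩ with h'' | h'' <;> simp_all
    exact congrArg (fun y : Subgroup.center Q => ((y : Q) : G)) this
  -- any Sylow subgroup containing `Q` is centralized by `z`
  have main : ∀ S : Sylow 2 G, Q ≤ S → ∀ w : G, w ∈ S → (∀ x ∈ S, x * w = w * x) → w ≠ 1 →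
      w = z := fun S hQS w _ hwc hw1 =>
    key w (Subgroup.mem_centralizer_iff.2 fun x hx => hwc x (hQS hx)) hw1
  obtain ⟨S, hQS⟩ := hQ2.exists_le_sylow
  have hne : z ≠ 1 := by intro hh; simp [hh] at hz
  have hnt : Nontrivial S := ⟨⟨⟨z, hQS hzQ⟩, 1, fun hh => hne (congrArg Subtype.val hh)⟩⟩
  obtain ⟨⟨c, hcc⟩, hc1⟩ : ∃ c : Subgroup.center S, c ≠ 1 :=
    haveI := S.isPGroup'.center_nontrivial
    exists_ne 1
  have hcom : ∀ x ∈ S, x * (c : G) = (c : G) * x := fun x hx =>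
    congrArg Subtype.val (Subgroup.mem_center_iff.1 hcc ⟨x, hx⟩)
  have hcne : (c : G) ≠ 1 := fun hh => hc1 (Subtype.ext (Subtype.ext hh))
  have hSz : (S : Subgroup G) ≤ Subgroup.centralizer ({z} : Set G) := by
    intro x hx
    rw [Subgroup.mem_centralizer_singleton_iff, ← main S hQS c c.2 hcom hcne]
    exact hcom x hx
  refine ⟨⟨S, hSz⟩, fun u hu ⟨P, hP⟩ => ?_⟩
  obtain ⟨g, hg⟩ := MulAction.exists_smul_eq G P S
  have huc : ∀ x ∈ S, x * (g * u * g⁻¹) = (g * u * g⁻¹) * x := by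
    intro x hx
    have hx' : x ∈ ((g • P : Sylow 2 G) : Subgroup G) := by rw [hg]; exact hx
    rw [Sylow.coe_subgroup_smul, Subgroup.mem_pointwise_smul_iff_inv_smul_mem] at hx'
    have h1 := Subgroup.mem_centralizer_singleton_iff.1 (hP hx')
    simp only [MulAut.smul_def, MulAut.conj_inv_apply] at h1
    calc x * (g * u * g⁻¹) = g * ((g⁻¹ * x * g) * u) * g⁻¹ := by group
      _ = g * (u * (g⁻¹ * x * g)) * g⁻¹ := by rw [h1]
      _ = (g * u * g⁻¹) * x := by group
  have hu1 : g * u * g⁻¹ ≠ 1 := by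
    intro hh
    rw [conj_eq_one_iff] at hh
    simp [hh] at hu
  exact (isConj_iff.2 ⟨g, key (g * u * g⁻¹)
    (Subgroup.mem_centralizer_iff.2 fun x hx => huc x (hQS hx)) hu1⟩).symm

end Cfsg.Agent.S0481
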