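import Cfsg.Statements.S0499
import Cfsg.Agent.Lib.Case.AutomiserFusion
import Mathlib.GroupTheory.GroupAction.Basic
import Mathlib.Tactic.NormNum.Prime
import Mathlib.Tactic.IntervalCases

set_option autoImplicit false
open Cfsg

namespace Cfsg.Agent.S0499

/-- An odd prime dividing the automiser of a group of order at most 8 (a power of 2) is 3 or 7,
the latter only for order 8, the former only for order at least 4. -/
theorem prime_dvd_card_mulAut {R : Type*} [Group R] [Finite R] {j : ℕ} (hj : Nat.card R = 2 ^ j)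
    (hj3 : j ≤ 3) {r : ℕ} (hr : r.Prime) (hr2 : r ≠ 2) (hd : r ∣ Nat.card (MulAut R)) :
    (r = 3 ∧ 2 ≤ j) ∨ (r = 7 ∧ j = 3) := by
  haveI := Fact.mk hr
  haveI : Finite (MulAut R) :=
    Finite.of_injective (fun φ : MulAut R => (φ : R → R)) DFunLike.coe_injective
  obtain ⟨φ, hφ⟩ := exists_prime_orderOf_dvd_card' (G := MulAut R) r hd
  have hp : IsPGroup r (Subgroup.zpowers φ) := IsPGroup.of_card (n := 1) (by
    rw [Nat.card_zpowers, hφ, pow_one])
  obtain ⟨F, hF⟩ : ∃ F : Subgroup R, F = MonoidHom.eqLocus φ.toMonoidHom (MonoidHom.id R) :=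
    ⟨_, rfl⟩
  have hfix : MulAction.fixedPoints (Subgroup.zpowers φ) R = (F : Set R) := by
    ext x
    rw [hF]
    constructor
    · intro hx
      exact hx ⟨φ, Subgroup.mem_zpowers φ⟩
    · intro hx g
      have h1 : φ ∈ MulAction.stabilizer (MulAut R) x := hx
      exact (Subgroup.zpowers_le.2 h1 g.2)
  have hmod := hp.card_modEq_card_fixedPoints R
  rw [hfix, SetLike.coe_sort_coe, hj] at hmod
  obtain ⟨i, hi, hFi⟩ := (Nat.dvd_prime_pow Nat.prime_two).1 (hj ▸ F.card_subgroup_dvd_card)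
  rw [hFi] at hmod
  have hlt : i < j := by
    refine lt_of_le_of_ne hi ?_
    rintro rfl
    have htop : F = ⊤ := F.eq_top_of_card_eq (hFi.trans hj.symm)
    have hone : φ = 1 := MulEquiv.ext fun x => (by
      have hx : x ∈ F := htop ▸ Subgroup.mem_top x
      rw [hF] at hx
      exact hx)
    rw [hone, orderOf_one] at hφ
    exact hr.one_lt.ne hφ
  rw [Nat.ModEq.comm, Nat.modEq_iff_dvd' (Nat.pow_le_pow_right two_pos hlt.le)] at hmod
  have hle := Nat.le_of_dvd (Nat.sub_pos_of_lt (Nat.pow_lt_pow_right one_lt_two hlt)) hmod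
  have h2 := hr.two_le
  interval_cases j <;> interval_cases i <;> norm_num at hmod hle ⊢ <;>
    interval_cases r <;> norm_num at *

/-- A non-abelian finite simple group of even order has order divisible by 12, 16 or 56. -/
theorem result {G : Type*} [Group G] [Finite G] [IsSimpleGroup G]
    (hG : ¬ IsMulCommutative G) (h2 : Even (Nat.card G)) :
    12 ∣ Nat.card G ∨ 16 ∣ Nat.card G ∨ 56 ∣ Nat.card G := by
  haveI := Fact.mk Nat.prime_two
  by_contra hcon
  push Not at hcon
  obtain ⟨h12, h16, h56⟩ := hcon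
  obtain ⟨P⟩ := (inferInstance : Nonempty (Sylow 2 G))
  obtain ⟨k, hk⟩ := IsPGroup.iff_card.1 P.isPGroup'
  have hk3 : k ≤ 3 := by
    by_contra hk4
    exact h16 ((pow_dvd_pow 2 (show 4 ≤ k by omega)).trans
      (hk ▸ (P : Subgroup G).card_subgroup_dvd_card))
  have hperf : commutator G = ⊤ := by
    refine ((inferInstance : (commutator G).Normal) :
      (commutator G).Normal).eq_bot_or_eq_top.resolve_left fun hb => hG ⟨⟨fun a b => ?_⟩⟩
    have := Subgroup.commutator_mem_commutator (Subgroup.mem_top a) (Subgroup.mem_top b)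
    rw [← commutator_def, hb, Subgroup.mem_bot] at this
    exact commutatorElement_eq_one_iff_mul_comm.1 this
  refine P.ne_bot_of_dvd_card (even_iff_two_dvd.1 h2)
    (CfsgLib.Case.sylow_eq_bot_of_perfect P hperf ?_)
  intro R hR r hr hr2 hrG hrA
  obtain ⟨j, hj, hRj⟩ := (Nat.dvd_prime_pow Nat.prime_two).1 (hk ▸ Subgroup.card_dvd_of_le hR)
  have hdiv : 2 ^ j ∣ Nat.card G := hRj ▸ R.card_subgroup_dvd_card
  rcases prime_dvd_card_mulAut hRj (hj.trans hk3) hr hr2 hrA with ⟨rfl, h⟩ | ⟨rfl, h⟩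
  · exact h12 ((by norm_num : Nat.Coprime 4 3).mul_dvd_of_dvd_of_dvd
      ((pow_dvd_pow 2 h).trans hdiv) hrG)
  · subst h
    exact h56 ((by norm_num : Nat.Coprime (2 ^ 3) 7).mul_dvd_of_dvd_of_dvd hdiv hrG)

end Cfsg.Agent.S0499
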