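import Cfsg.Statements.S0502
import Cfsg.Agent.Lib.Case.FourGroups
import Mathlib.GroupTheory.GroupAction.ConjAct
import Mathlib.GroupTheory.QuotientGroup.Basic
import Mathlib.Tactic.Linarith

set_option autoImplicit false
open Cfsg

namespace Cfsg.Agent.S0502

theorem exists_central {P : Type*} [Group P] [Finite P] (hP : IsPGroup 2 P) (E : Subgroup P)
    [E.Normal] (hE : 1 < Nat.card E) : ∃ z ∈ E, z ≠ 1 ∧ z ∈ Subgroup.center P := by
  have hpE : IsPGroup 2 E := hP.to_subgroup E
  obtain ⟨k, hk⟩ := IsPGroup.iff_card.1 hpE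
  have hdvd : 2 ∣ Nat.card E := by
    rw [hk]; exact dvd_pow_self 2 (by rintro rfl; rw [pow_zero] at hk; omega)
  letI : MulAction (ConjAct P) E := inferInstance
  have hfix : (1 : E) ∈ MulAction.fixedPoints (ConjAct P) E := fun g => Subtype.ext (by simp)
  obtain ⟨z, hz, hz1⟩ := IsPGroup.exists_fixed_point_of_prime_dvd_card_of_fixed_point
    (p := 2) (G := ConjAct P) (show IsPGroup 2 (ConjAct P) from hP) E hdvd hfix
  refine ⟨z, z.2, fun h => hz1 (Subtype.ext h.symm), Subgroup.mem_center_iff.2 fun g => ?_⟩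
  have h := congrArg Subtype.val (hz (ConjAct.toConjAct g))
  rw [ConjAct.Subgroup.val_conj_smul, ConjAct.toConjAct_smul] at h
  exact mul_inv_eq_iff_eq_mul.1 h

theorem exists_fixed {P : Type*} [Group P] [Finite P] {E : Subgroup P} [E.Normal]
    (h2 : ∀ e ∈ E, e * e = 1) (hcE : ∀ e ∈ E, ∀ f ∈ E, e * f = f * e) (hE8 : 8 ≤ Nat.card E)
    (b : P) (hb : b * b = 1) (z : P) : ∃ e ∈ E, e ≠ 1 ∧ e ≠ z ∧ b * e = e * b := by
  have hbi : b⁻¹ = b := inv_eq_of_mul_eq_one_right hb
  have hnorm : ∀ e ∈ E, b * e * b ∈ E := fun e he => by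
    have := (inferInstance : E.Normal).conj_mem e he b
    rwa [hbi] at this
  let f : E →* E :=
    { toFun := fun e => ⟨e.1 * (b * e.1 * b), mul_mem e.2 (hnorm e.1 e.2)⟩
      map_one' := Subtype.ext (by simp [hb])
      map_mul' := fun e g => Subtype.ext (by
        show e.1 * g.1 * (b * (e.1 * g.1) * b) = e.1 * (b * e.1 * b) * (g.1 * (b * g.1 * b))
        have h1 : b * (e.1 * g.1) * b = b * e.1 * b * (b * g.1 * b) := by
          simp [mul_assoc, ← mul_assoc b b, hb]
        rw [h1]
        have h3 := hcE g.1 g.2 _ (hnorm e.1 e.2)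
        calc e.1 * g.1 * (b * e.1 * b * (b * g.1 * b)) = e.1 * (g.1 * (b * e.1 * b)) * (b * g.1 * b) := by
              simp only [mul_assoc]
          _ = e.1 * (b * e.1 * b * g.1) * (b * g.1 * b) := by rw [h3]
          _ = _ := by simp only [mul_assoc]) }
  have hfix : ∀ e : E, e ∈ f.ker ↔ b * e.1 = e.1 * b := by
    intro e
    have hei : e.1⁻¹ = e.1 := inv_eq_of_mul_eq_one_right (h2 e.1 e.2)
    rw [MonoidHom.mem_ker]
    constructor
    · intro h
      have h' : e.1 * (b * e.1 * b) = 1 := congrArg Subtype.val h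
      have h'' : b * e.1 * b = e.1 := by rw [← hei]; simpa [hei] using (eq_inv_of_mul_eq_one_right h')
      calc b * e.1 = b * e.1 * b * b := by rw [mul_assoc (b * e.1) b b, hb, mul_one]
        _ = e.1 * b := by rw [h'']
    · intro h
      apply Subtype.ext
      show e.1 * (b * e.1 * b) = 1
      rw [h, mul_assoc, hb, mul_one, h2 e.1 e.2]
  have hle : f.range ≤ f.ker := by
    rintro _ ⟨e, rfl⟩
    rw [hfix]
    show b * (e.1 * (b * e.1 * b)) = e.1 * (b * e.1 * b) * b
    calc b * (e.1 * (b * e.1 * b)) = b * e.1 * b * e.1 * b := by simp only [mul_assoc]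
      _ = e.1 * (b * e.1 * b) * b := by rw [← hcE e.1 e.2 _ (hnorm e.1 e.2)]
  have hker : 3 ≤ Nat.card f.ker := by
    have h := Subgroup.card_eq_card_quotient_mul_card_subgroup f.ker
    have h' : Nat.card (E ⧸ f.ker) = Nat.card f.range :=
      Nat.card_congr (QuotientGroup.quotientKerEquivRange f).toEquiv
    have := Subgroup.card_le_of_le hle
    nlinarith
  by_contra! hcon
  have hsub : (Subtype.val '' (f.ker : Set E)) ⊆ {1, z} := by
    rintro _ ⟨e, he, rfl⟩
    by_cases h1 : e.1 = 1
    · exact Or.inl h1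
    · by_cases hz : e.1 = z
      · exact Or.inr hz
      · exact absurd ((hfix e).1 he) (hcon e.1 e.2 h1 hz)
  have h1 := Set.ncard_le_ncard hsub
  rw [Set.ncard_image_of_injective _ Subtype.val_injective, ← Nat.card_coe_set_eq] at h1
  have h2 := Set.ncard_insert_le 1 ({z} : Set P)
  rw [Set.ncard_singleton] at h2
  simp only [SetLike.coe_sort_coe] at h1
  omega

/-- If a finite 2-group has a normal elementary abelian subgroup of order at least 8, then any two of its Klein
four-subgroups are joined by a chain of Klein four-subgroups with consecutive members commuting elementwise. -/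
theorem result {P : Type*} [Group P] [Finite P] (hP : IsPGroup 2 P)
    (E : Subgroup P) [E.Normal] (hE : IsMulCommutative E) (hE2 : ∀ e ∈ E, e ^ 2 = 1) (hE8 : 8 ≤ Nat.card E) :
    Cfsg.IsFourConnected P := by
  have h2 : ∀ e ∈ E, e * e = 1 := fun e he => by rw [← sq]; exact hE2 e he
  have hcE : ∀ e ∈ E, ∀ f ∈ E, e * f = f * e := fun e he f hf =>
    congrArg Subtype.val (hE.1.comm (⟨e, he⟩ : E) ⟨f, hf⟩)
  obtain ⟨z, hzE, hz1, hzc⟩ := exists_central hP E (by omega)
  have hz2 := h2 z hzE
  have hc : ∀ g, z * g = g * z := fun g => (Subgroup.mem_center_iff.1 hzc g).symm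
  -- every four-subgroup reaches a four-subgroup of E containing z
  have key : ∀ V : Subgroup P, IsKleinFour V → ∃ W : Subgroup P, IsKleinFour W ∧ W ≤ E ∧
      Relation.ReflTransGen CfsgLib.Case.FourAdj V W := by
    intro V hV
    obtain ⟨b, hbV, hb1, hbz⟩ := CfsgLib.Case.klein_exists_ne_ne hV z
    have hb2 := CfsgLib.Case.klein_mul_self hV hbV
    obtain ⟨e, heE, he1, hez, heb⟩ := exists_fixed h2 hcE hE8 b hb2 z
    have hY : IsKleinFour (CfsgLib.Case.fourSub z b hz2 hb2 (hc b)) :=
      CfsgLib.Case.isKleinFour_fourSub hz1 hb1 hbz.symm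
    have hW : IsKleinFour (CfsgLib.Case.fourSub z e hz2 (h2 e heE) (hc e)) :=
      CfsgLib.Case.isKleinFour_fourSub hz1 he1 hez.symm
    refine ⟨_, hW, CfsgLib.Case.fourSub_le hzE heE, ?_⟩
    refine (Relation.ReflTransGen.single (b := CfsgLib.Case.fourSub z b hz2 hb2 (hc b))
      ⟨hV, hY, ?_⟩).tail ⟨hY, hW, ?_⟩
    · intro y hy w hw
      have h1 : Commute y z := (hc y).symm
      have h3 : Commute y e := by
        rcases CfsgLib.Case.mem_fourSub.1 hy with h | h | h | h <;> rw [h]
        · exact Commute.one_left e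
        · exact hc e
        · exact heb
        · exact Commute.mul_left (hc e) heb
      rcases CfsgLib.Case.mem_fourSub.1 hw with h | h | h | h <;> rw [h]
      · exact Commute.one_right y
      · exact h1
      · exact h3
      · exact Commute.mul_right h1 h3
    · intro v hv y hy
      have hvb : v * b = b * v := CfsgLib.Case.klein_comm hV hv hbV
      rcases CfsgLib.Case.mem_fourSub.1 hy with h | h | h | h <;> rw [h]
      · rw [one_mul, mul_one]
      · exact (hc v).symm
      · exact hvb
      · exact Commute.mul_right (hc v).symm hvb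
  intro U V hU hV
  obtain ⟨W, hW, hWE, hUW⟩ := key U hU
  obtain ⟨W', hW', hWE', hVW'⟩ := key V hV
  exact (hUW.tail ⟨hW, hW', fun a ha b hb => hcE a (hWE ha) b (hWE' hb)⟩).trans
    (CfsgLib.Case.fourPath_symm hVW')

end Cfsg.Agent.S0502
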