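import Cfsg.Statements.S0505
import Cfsg.Agent.Lib.Case.CharTwo

set_option autoImplicit false
open Cfsg

namespace Cfsg.Agent.S0505

/-- Let G be a finite group of even order in which the centralizer of every involution is solvable and has trivial
core (no nontrivial normal subgroup of odd order). Then G is of characteristic 2 type. -/
theorem result {G : Type*} [Group G] [Finite G]
    (h2 : Even (Nat.card G))
    (hs : ∀ t : G, orderOf t = 2 → Group.IsSolvable (Subgroup.centralizer ({t} : Set G)))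
    (hc : ∀ t : G, orderOf t = 2 → Cfsg.oddCore (Subgroup.centralizer ({t} : Set G)) = ⊥) :
    Cfsg.IsCharacteristicTwoType G := by
  refine ⟨h2, fun T hT hT1 => ?_⟩
  haveI : Fact (Nat.Prime 2) := ⟨Nat.prime_two⟩
  obtain ⟨H, hH⟩ : ∃ H, H = Subgroup.normalizer (T : Set G) := ⟨_, rfl⟩
  rw [← hH]
  obtain ⟨W, hWdef⟩ : ∃ W, W = (Cfsg.pCore 2 H).map H.subtype := ⟨_, rfl⟩
  have hTW : T ≤ W := by
    intro x hx
    have hxH : x ∈ H := hH ▸ Subgroup.le_normalizer hx
    have hTn : (T.subgroupOf H).Normal := by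
      subst hH; exact Subgroup.normal_in_normalizer
    have hTp : IsPGroup 2 (T.subgroupOf H) := hT.comap_subtype
    rw [hWdef]
    exact ⟨⟨x, hxH⟩, CfsgLib.Solvable.le_pCore hTn hTp hx, rfl⟩
  have hWp : IsPGroup 2 W := hWdef ▸ (CfsgLib.Solvable.pCore_isPGroup 2 H).map _
  have hW1 : W ≠ ⊥ := fun h => hT1 (le_bot_iff.1 (h ▸ hTW))
  haveI : Nontrivial W := (Subgroup.nontrivial_iff_ne_bot W).2 hW1
  haveI := hWp.center_nontrivial
  obtain ⟨k, hk, hcard⟩ := (hWp.to_subgroup (Subgroup.center W)).exists_card_eq.elim fun k hk =>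
    (⟨k, by
      rintro rfl
      exact (Finite.one_lt_card (α := Subgroup.center W)).ne' (by simpa using hk), hk⟩ :
      ∃ k, k ≠ 0 ∧ Nat.card (Subgroup.center W) = 2 ^ k)
  obtain ⟨z, hz⟩ := exists_prime_orderOf_dvd_card' (G := Subgroup.center W) 2
    (hcard ▸ dvd_pow_self 2 hk)
  have ht : orderOf ((z : W) : G) = 2 := by
    rw [Subgroup.orderOf_coe, Subgroup.orderOf_coe]; exact hz
  haveI := hs _ ht
  have hWL : W ≤ Subgroup.centralizer ({((z : W) : G)} : Set G) := fun w hw =>
    Subgroup.mem_centralizer_singleton_iff.2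
      (congrArg Subtype.val (Subgroup.mem_center_iff.1 z.2 ⟨w, hw⟩))
  have hCL : Subgroup.centralizer (W : Set G) ≤ Subgroup.centralizer ({((z : W) : G)} : Set G) :=
    Subgroup.centralizer_le (by simp)
  have hCH : Subgroup.centralizer (W : Set G) ≤ H :=
    (Subgroup.centralizer_le hTW).trans (hH ▸ Subgroup.centralizer_le_normalizer (T : Set G))
  -- the centralizer of the 2-core inside H
  show Subgroup.centralizer (Cfsg.pCore 2 H : Set H) ≤ Cfsg.pCore 2 H
  haveI := CfsgLib.Solvable.pCore_normal 2 H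
  obtain ⟨CH, hCHdef⟩ : ∃ CH, CH = Subgroup.centralizer (Cfsg.pCore 2 H : Set H) := ⟨_, rfl⟩
  haveI : CH.Normal := hCHdef ▸ inferInstance
  have hmem : ∀ c : H, c ∈ CH ↔ (c : G) ∈ Subgroup.centralizer (W : Set G) := by
    intro c
    rw [hCHdef]
    constructor
    · intro hc w hw
      rw [hWdef] at hw
      obtain ⟨w', hw', rfl⟩ := hw
      exact congrArg Subtype.val (hc w' hw')
    · intro hc w hw
      exact Subtype.ext (hc w (hWdef ▸ ⟨w, hw, rfl⟩))
  let f : CH →* Subgroup.centralizer ({((z : W) : G)} : Set G) :=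
    (H.subtype.comp CH.subtype).codRestrict _ (fun c => hCL ((hmem c).1 c.2))
  have hf : Function.Injective f := fun a b h =>
    Subtype.ext (Subtype.ext (congrArg Subtype.val h :))
  haveI : Group.IsSolvable CH := Group.isSolvable_of_isSolvable_injective hf
  have hO : Cfsg.pPrimeCore 2 CH = ⊥ := by
    obtain ⟨D, hD⟩ : ∃ D, D = ((Cfsg.pPrimeCore 2 CH).map CH.subtype).map H.subtype := ⟨_, rfl⟩
    have hDbot : D = ⊥ := by
      refine CfsgLib.Case.eq_bot_of_centralizer_invariant (p := 2) _ W D (hc _ ht) hWp hWL hCL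
        ?_ ?_ ?_
      · rw [hD, Subgroup.card_map_of_injective H.subtype_injective,
          Subgroup.card_map_of_injective CH.subtype_injective]
        exact CfsgLib.Solvable.pPrimeCore_card_coprime 2 CH
      · rw [hD]
        rintro _ ⟨_, ⟨x, -, rfl⟩, rfl⟩
        exact (hmem x).1 x.2
      · intro c hc'
        have hcCH : (⟨c, hCH hc'⟩ : H) ∈ CH := (hmem _).2 hc'
        haveI := CfsgLib.Solvable.pPrimeCore_normal 2 CH
        have h1 : (⟨_, hcCH⟩ : CH) ∈
            Subgroup.normalizer ((Cfsg.pPrimeCore 2 CH : Subgroup CH) : Set CH) := by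
          rw [Subgroup.normalizer_eq_top]; exact Subgroup.mem_top _
        rw [hD]
        exact Subgroup.le_normalizer_map H.subtype (Subgroup.mem_map_of_mem H.subtype
          (Subgroup.le_normalizer_map CH.subtype (Subgroup.mem_map_of_mem CH.subtype h1)))
    rw [hD] at hDbot
    exact (Subgroup.map_eq_bot_iff_of_injective _ CH.subtype_injective).1
      ((Subgroup.map_eq_bot_iff_of_injective _ H.subtype_injective).1 hDbot)
  have hle := CfsgLib.Solvable.map_subtype_pCore_le (p := 2) CH
  have hcore := CfsgLib.Case.centralizer_pCore_le_of_solvable hO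
  rw [← hCHdef]
  intro c hc'
  refine hle ⟨⟨c, hc'⟩, hcore ?_, rfl⟩
  intro x hx
  apply Subtype.ext
  rw [hCHdef] at hc'
  exact hc' x.1 (hle ⟨x, hx, rfl⟩)

end Cfsg.Agent.S0505
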