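import Cfsg.Statements.S0518
import Cfsg.Agent.Lib.SmithN.Final
-- import your own Cfsg.Agent.* helpers here

set_option autoImplicit false
set_option linter.style.haveILetI false
open Cfsg

namespace Cfsg.Agent.S0518

open Subgroup CfsgLib.SmithN

/-- A four-group as in the data gives a maximal 2-local subgroup of `O²(G)`. -/
theorem maximal_local {G : Type*} [Group G] [Finite G] {S X W : Subgroup G} (f : FourData S X W) :
    Cfsg.IsMaximalTwoLocal ((X ⊓ Cfsg.pResidual 2 G).subgroupOf (Cfsg.pResidual 2 G)) := by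
  haveI := Fact.mk Nat.prime_two
  set H := Cfsg.pResidual 2 G with hH
  set U := X ⊓ H with hU
  have hWH : W ≤ H := f.le.trans inf_le_right
  have hW2 : IsPGroup 2 W := IsPGroup.of_card (n := 2) (by rw [f.card]; norm_num)
  have hW1 : W ≠ ⊥ := fun h => by
    have := f.card
    rw [h, Subgroup.card_bot] at this
    exact absurd this (by decide)
  have heq : normalizer ((W.subgroupOf H : Subgroup ↥H) : Set ↥H) = U.subgroupOf H := by
    ext x
    constructor
    · intro hx
      refine mem_subgroupOf.2 ⟨f.norm.le (mem_normalizer_fintype fun w hw => ?_), x.2⟩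
      exact (mem_normalizer_iff.1 hx ⟨w, hWH hw⟩).1 hw
    · intro hx
      have h1 : (x : G) ∈ normalizer (W : Set G) := f.norm.ge (mem_subgroupOf.1 hx).1
      exact mem_normalizer_fintype fun w hw => (mem_normalizer_iff.1 h1 (w : G)).1 hw
  refine ⟨⟨W.subgroupOf H, hW2.comap_of_injective H.subtype H.subtype_injective, fun h => hW1 ?_, heq.symm⟩,
    fun L hL hUL => ?_⟩
  · rw [← map_subgroupOf_eq_of_le hWH, h, Subgroup.map_bot]
  obtain ⟨R, hR2, hR1, rfl⟩ := hL
  set Rg := R.map H.subtype with hRg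
  have hRg2 : IsPGroup 2 Rg := hR2.map _
  have hUR : U ≤ normalizer (Rg : Set G) := fun x hx =>
    le_normalizer_map H.subtype ⟨⟨x, hx.2⟩, hUL (mem_subgroupOf.2 hx), rfl⟩
  have hWU : W ≤ U := le_inf (le_normalizer.trans f.norm.le) hWH
  have hUW : U ≤ normalizer (W : Set G) := inf_le_left.trans f.norm.ge
  set P := W ⊔ Rg with hP
  have hP2 : IsPGroup 2 P := hW2.to_sup_of_normal_right' hRg2 (hWU.trans hUR)
  have hPH : P ≤ H := sup_le hWH (map_subtype_le R)
  have hUP : U ≤ normalizer (P : Set G) := fun x hx => by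
    rw [mem_normalizer_iff_map_conj_eq]
    show P.map (MulAut.conj x).toMonoidHom = P
    rw [hP, Subgroup.map_sup, map_conj_of_mem (hUW hx), map_conj_of_mem (hUR hx)]
  have hPU : P ⊓ U ≤ W := f.core _ (hP2.to_le inf_le_left) inf_le_right
    ((le_inf hUP le_normalizer).trans inf_normalizer_le_normalizer_inf)
  have hPW : P = W := by
    by_contra hne
    obtain ⟨s, hsP, hsW, hsn⟩ := exists_normalizing' hP2 (lt_of_le_of_ne le_sup_left (Ne.symm hne))
    exact hsW (hPU ⟨hsP, f.norm.le hsn, hPH hsP⟩)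
  have hRW : Rg ≤ W := le_sup_right.trans hPW.le
  have hRg1 : Rg ≠ ⊥ := fun h => hR1 ((map_eq_bot_iff_of_injective _ H.subtype_injective).1 h)
  have hRgW : Rg = W := by
    obtain ⟨k, hk, hk'⟩ := (Nat.dvd_prime_pow Nat.prime_two).1
      (show Nat.card Rg ∣ 2 ^ 2 by rw [show (2 : ℕ) ^ 2 = 4 by norm_num, ← f.card]; exact card_dvd_of_le hRW)
    have hk0 : k ≠ 0 := fun h => hRg1 (Subgroup.card_eq_one.1 (by rw [hk', h, pow_zero]))
    rcases (show k = 1 ∨ k = 2 by omega) with rfl | rfl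
    · exfalso
      obtain ⟨e⟩ := f.iso
      haveI : Nontrivial Rg := (Subgroup.nontrivial_iff_ne_bot Rg).2 hRg1
      obtain ⟨r, hr⟩ := exists_ne (1 : Rg)
      have hrc : ∀ x ∈ U, x * (r : G) * x⁻¹ = r := by
        intro x hx
        have h2 : (⟨_, (mem_normalizer_iff.1 (hUR hx) (r : G)).1 r.2⟩ : Rg) ≠ 1 := fun h => hr (by
          have h' : x * (r : G) * x⁻¹ = 1 := congrArg Subtype.val h
          rw [mul_inv_eq_one, mul_eq_left] at h'
          exact Subtype.ext h')
        have hc : Nat.card Rg = 2 := by rw [hk', pow_one]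
        obtain ⟨u, hu, huniq⟩ := (Nat.card_eq_two_iff' (1 : Rg)).1 hc
        exact congrArg Subtype.val ((huniq _ h2).trans (huniq _ hr).symm)
      have hrU : (r : G) ∈ U := hWU (hRW r.2)
      have h3 : e ⟨r, hrU⟩ = 1 := S4_center _ fun g => by
        obtain ⟨x, rfl⟩ := e.surjective g
        rw [← map_mul, ← map_mul]
        exact congrArg e (Subtype.ext (mul_inv_eq_iff_eq_mul.1 (hrc x x.2)).symm)
      rw [map_eq_one_iff e e.injective] at h3
      exact hr (Subtype.ext (congrArg Subtype.val h3 :))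
    · exact eq_of_le_of_card_ge hRW (by rw [f.card, hk']; norm_num)
  have hReq : R = W.subgroupOf H := by
    rw [← hRgW]
    exact (comap_map_eq_self_of_injective H.subtype_injective R).symm
  rw [hReq, heq]


/-- Let G be a finite group of characteristic 2 type with trivial 2-core in which every 2-local subgroup is solvable
and, for every Sylow 2-subgroup S, the centralizer of the set of central involutions of S lies in the normalizer of S.
Then either G has a strongly embedded subgroup, or the subgroup generated by the elements of odd order has two distinct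
maximal 2-local subgroups, each isomorphic to the symmetric group of degree 4, whose intersection has order 8. -/
theorem result {G : Type*} [Group G] [Finite G]
    (hL : Cfsg.IsCharacteristicTwoType G) (hO : Cfsg.pCore 2 G = ⊥)
    (hN : ∀ N : Subgroup G, Cfsg.IsTwoLocal N → Group.IsSolvable N)
    (hZ : ∀ S : Sylow 2 G,
      Subgroup.centralizer {z : G | z ∈ (S : Subgroup G) ∧ z ^ 2 = 1 ∧ ∀ s ∈ (S : Subgroup G), s * z = z * s} ≤
        Subgroup.normalizer ((S : Subgroup G) : Set G))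
    (H : Subgroup G) (hH : H = Subgroup.closure {g : G | Odd (orderOf g)}) :
    (∃ K : Subgroup G, Cfsg.IsStronglyEmbedded K) ∨
      ∃ M₁ M₂ : Subgroup H, M₁ ≠ M₂ ∧ Cfsg.IsMaximalTwoLocal M₁ ∧ Cfsg.IsMaximalTwoLocal M₂ ∧
        Nonempty (M₁ ≃* Equiv.Perm (Fin 4)) ∧ Nonempty (M₂ ≃* Equiv.Perm (Fin 4)) ∧ Nat.card ↥(M₁ ⊓ M₂) = 8 := by
  haveI := Fact.mk Nat.prime_two
  have amb : Amb G := by
    refine ⟨fun N h1 h2 => (CfsgLib.Even.hasCharP_iff _).2 (hL.2 N h1 h2), fun N h1 h2 => hN _ ⟨N, h1, h2, rfl⟩,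
      fun S g hg => hZ S (mem_centralizer_iff.2 fun z hz => ?_), hO⟩
    exact mem_centralizer_iff.1 hg z (mem_Oz.2 ⟨hz.1, hz.2.2, by rw [← pow_two]; exact hz.2.1⟩)
  obtain ⟨S⟩ : Nonempty (Sylow 2 G) := inferInstance
  rcases global amb hL.1 S with ⟨M, hM, hNM, hcM⟩ | ⟨B, X, Y, hBS, hX, hY, hgX, hgY, hno⟩
  · exact Or.inl ⟨M, stronglyEmbedded_of hM hL.1 hNM hcM⟩
  right
  obtain ⟨WX, WY, fX, fY, hne, hcard⟩ := structure_four amb S hBS hX hY hgX hgY hno
  obtain rfl : H = Cfsg.pResidual 2 G := hH.trans pResidual_eq_closure_odd.symm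
  refine ⟨(X ⊓ Cfsg.pResidual 2 G).subgroupOf (Cfsg.pResidual 2 G),
    (Y ⊓ Cfsg.pResidual 2 G).subgroupOf (Cfsg.pResidual 2 G), fun e => hne ?_,
    maximal_local fX, maximal_local fY, ?_, ?_, ?_⟩
  · have h := congrArg (Subgroup.map (Cfsg.pResidual 2 G).subtype) e
    rwa [map_subgroupOf_eq_of_le inf_le_right, map_subgroupOf_eq_of_le inf_le_right] at h
  · obtain ⟨e⟩ := fX.iso
    exact ⟨(subgroupOfEquivOfLe inf_le_right).trans e⟩
  · obtain ⟨e⟩ := fY.iso
    exact ⟨(subgroupOfEquivOfLe inf_le_right).trans e⟩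
  · rw [show (X ⊓ Cfsg.pResidual 2 G).subgroupOf (Cfsg.pResidual 2 G) ⊓
        (Y ⊓ Cfsg.pResidual 2 G).subgroupOf (Cfsg.pResidual 2 G) =
        ((X ⊓ Cfsg.pResidual 2 G) ⊓ (Y ⊓ Cfsg.pResidual 2 G)).subgroupOf (Cfsg.pResidual 2 G) from
      (Subgroup.comap_inf _ _ _).symm, Nat.card_congr (subgroupOfEquivOfLe (inf_le_left.trans inf_le_right)).toEquiv,
      hcard]

end Cfsg.Agent.S0518
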