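import Cfsg.Statements.S0519
import Cfsg.Agent.Lib.Case.CyclicSelfCentralizing

set_option autoImplicit false
open Cfsg

namespace Cfsg.Agent.S0519

/-- Let P be a finite p-group in which every abelian normal subgroup is cyclic, but which has a non-cyclic abelian
subgroup. Then p = 2 and P is generalized quaternion, dihedral of order at least 16, or quasi-dihedral. -/
theorem result {P : Type*} [Group P] [Finite P] (p : ℕ) [Fact p.Prime]
    (hP : IsPGroup p P) (hn : ∀ A : Subgroup P, A.Normal → IsMulCommutative A → IsCyclic A)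
    (hm : ∃ B : Subgroup P, IsMulCommutative B ∧ ¬ IsCyclic B) :
    p = 2 ∧ ((∃ n : ℕ, Nonempty (P ≃* QuaternionGroup n)) ∨ (∃ n : ℕ, 8 ≤ n ∧ Nonempty (P ≃* DihedralGroup n)) ∨
      Cfsg.IsQuasiDihedral P) := by
  obtain ⟨a, hax⟩ := CfsgLib.Case.exists_axis hP hn
  have htop : Subgroup.zpowers a ≠ ⊤ := by
    intro ht
    obtain ⟨B, -, hB⟩ := hm
    haveI : IsCyclic P := (Subgroup.topEquiv (G := P)).isCyclic.1 (ht ▸ inferInstance)
    exact hB inferInstance
  have hp2 : p = 2 := by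
    by_contra hp2
    exact htop (CfsgLib.Case.eq_top_of_odd hP hp2 hn hax)
  subst hp2
  refine ⟨rfl, ?_⟩
  obtain ⟨m, hm'⟩ := IsPGroup.iff_orderOf.1 hP a
  obtain ⟨x, hx⟩ : ∃ x, x ∉ Subgroup.zpowers a :=
    not_forall.1 fun h => htop ((Subgroup.eq_top_iff' _).2 h)
  have hidx : (Subgroup.zpowers a).index = 2 := Subgroup.index_eq_two_iff.2 ⟨x, fun b => by
    by_cases hb : b ∈ Subgroup.zpowers a
    · exact Or.inr ⟨hb, fun h => hx (by simpa using mul_mem (inv_mem hb) h)⟩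
    · exact Or.inl ⟨CfsgLib.Case.mul_mem_axis hP hn hax hm' hb hx, hb⟩⟩
  have hcard : Nat.card P = 2 ^ (m + 1) := by
    rw [← (Subgroup.zpowers a).card_mul_index, hidx, Nat.card_zpowers, hm', pow_succ]
  have hx2 := CfsgLib.Case.sq_mem hP hn hax hm' x
  obtain ⟨r, hr⟩ := hax.exists_pow x
  obtain ⟨hm2, hd, h4⟩ := CfsgLib.Case.shape hn hax hm' hx hx2 hr
  obtain ⟨m, rfl⟩ : ∃ k, m = k + 2 := ⟨m - 2, by omega⟩
  obtain ⟨Q, hQ⟩ : ∃ Q : ℤ, Q = (2 : ℤ) ^ (m + 1) := ⟨_, rfl⟩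
  have hiff : ∀ {i j : ℤ}, a ^ i = a ^ j ↔ 2 * Q ∣ i - j := fun {i j} => by
    rw [CfsgLib.Case.zpow_eq_iff_two hm', hQ, ← pow_succ']
  have hQ0 : Q ≠ 0 := by rw [hQ]; positivity
  have hQev : (2 : ℤ) ∣ Q := hQ ▸ dvd_pow_self 2 (by omega)
  rw [show m + 2 - 1 = m + 1 by omega, ← hQ] at hd
  obtain ⟨k, hk⟩ := hd
  have hcov : ∀ g : P, ∃ i : ℤ, g = a ^ i ∨ g = x * a ^ i := by
    intro g
    by_cases hg : g ∈ Subgroup.zpowers a
    · obtain ⟨i, hi⟩ := Subgroup.mem_zpowers_iff.1 hg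
      exact ⟨i, Or.inl hi.symm⟩
    · have h1 : x⁻¹ * g ∈ Subgroup.zpowers a :=
        CfsgLib.Case.mul_mem_axis hP hn hax hm' (fun h => hx (by simpa using h)) hg
      obtain ⟨i, hi⟩ := Subgroup.mem_zpowers_iff.1 h1
      exact ⟨i, Or.inr (by rw [hi, mul_inv_cancel_left])⟩
  obtain ⟨j, hj⟩ := Subgroup.mem_zpowers_iff.1 hx2
  rw [sq] at hj
  have hjr : 2 * Q ∣ r * j - j := by
    rw [← hiff, ← CfsgLib.Case.conj_zpow_axis hr, hj]
    group
  have hsquare : (Q * k - 1) + 1 = Q * k := by ring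
  obtain rfl : r = Q * k - 1 := by linarith
  rcases Int.even_or_odd k with ⟨c, rfl⟩ | ⟨c, rfl⟩
  · -- inversion
    have hinv : x * a * x⁻¹ = a⁻¹ := by
      rw [hr, ← zpow_neg_one, hiff]; exact ⟨c, by ring⟩
    obtain ⟨l, rfl⟩ : Q ∣ j := by
      have h2 : 2 * Q ∣ 2 * j := by
        obtain ⟨d, hd⟩ := hjr
        exact ⟨c * j - d, by linear_combination -hd⟩
      exact (mul_dvd_mul_iff_left two_ne_zero).1 h2
    rcases Int.even_or_odd l with ⟨e, rfl⟩ | ⟨e, rfl⟩
    · -- dihedral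
      have hxx : x * x = 1 := by
        rw [← hj, ← zpow_zero a, hiff]; exact ⟨e, by ring⟩
      obtain ⟨e'⟩ := CfsgLib.TwoFusion.exists_dihedral_mulEquiv (by positivity) hm' hxx hinv hx ⊤
        (fun g => ⟨fun _ => hcov g, fun _ => Subgroup.mem_top g⟩)
      have hD : Nonempty (P ≃* DihedralGroup (2 ^ (m + 2))) :=
        ⟨(Subgroup.topEquiv (G := P)).symm.trans e'⟩
      rcases Nat.eq_zero_or_pos m with rfl | hpos
      · -- order eight has a normal four-group
        exfalso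
        norm_num at hQ
        subst hQ
        obtain ⟨z, hz⟩ : ∃ z, z = a ^ (2 : ℤ) := ⟨_, rfl⟩
        have hz2 : z * z = 1 := by rw [hz, ← zpow_add, ← zpow_zero a, hiff]; norm_num
        have hz1 : z ≠ 1 := by rw [hz, ← zpow_zero a, Ne, hiff]; norm_num
        have hzA : z ∈ Subgroup.zpowers a := hz ▸ Subgroup.zpow_mem_zpowers a _
        have hzx : z * x = x * z := by
          have h : x * z * x⁻¹ = z := by
            rw [hz, CfsgLib.Case.conj_zpow_axis hr, hiff]; exact ⟨2 * c - 1, by ring⟩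
          exact (mul_inv_eq_iff_eq_mul.1 h).symm
        have hK := CfsgLib.Case.isKleinFour_fourSub (ha := hz2) (hb := hxx) (hc := hzx) hz1
          (fun h => hx (h ▸ one_mem _)) (fun h => hx (h ▸ hzA))
        haveI : (CfsgLib.Case.fourSub z x hz2 hxx hzx).Normal := by
          refine Subgroup.normal_of_index_eq_two ?_
          have h1 := (CfsgLib.Case.fourSub z x hz2 hxx hzx).card_mul_index
          rw [hK.card_four, hcard] at h1
          norm_num at h1
          omega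
        haveI := hK
        exact IsKleinFour.not_isCyclic (hn (CfsgLib.Case.fourSub z x hz2 hxx hzx) inferInstance IsKleinFour.isMulCommutative)
      · exact Or.inr (Or.inl ⟨2 ^ (m + 2),
          le_trans (by norm_num : 8 ≤ 2 ^ 3) (Nat.pow_le_pow_right two_pos (by omega)), hD⟩)
    · -- generalized quaternion
      have hxx : x * x = a ^ (2 ^ (m + 1) : ℕ) := by
        rw [← hj, ← zpow_natCast, hiff]; push_cast; rw [← hQ]; exact ⟨e, by ring⟩
      obtain ⟨e'⟩ := CfsgLib.TwoFusion.exists_quaternion_mulEquiv (m := 2 ^ (m + 1)) (by positivity)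
        (by rw [hm', ← pow_succ']) hxx hinv hx ⊤ (fun g => ⟨fun _ => hcov g, fun _ => Subgroup.mem_top g⟩)
      exact Or.inl ⟨_, ⟨(Subgroup.topEquiv (G := P)).symm.trans e'⟩⟩
  · -- quasi-dihedral
    obtain ⟨R, hR⟩ := hQev
    obtain ⟨m', rfl⟩ : ∃ k, m = k + 1 := by
      refine ⟨m - 1, ?_⟩
      rcases Nat.eq_zero_or_pos m with rfl | hpos
      · exfalso
        norm_num at hQ
        subst hQ
        obtain ⟨d, hd⟩ := h4
        have : (4 : ℤ) ∣ 2 := ⟨d - c, by linarith⟩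
        norm_num at this
      · omega
    have hRev : (2 : ℤ) ∣ R := ⟨2 ^ m', mul_left_cancel₀ two_ne_zero ((hR.symm.trans hQ).trans (by ring))⟩
    obtain ⟨l, rfl⟩ : Q ∣ j := by
      obtain ⟨d, hd⟩ := hjr
      have h1 : Q ∣ j * (R * (2 * c + 1) - 1) := by
        refine ⟨d, mul_left_cancel₀ two_ne_zero ?_⟩
        rw [hR] at hd
        linear_combination hd + (-2 * d) * hR
      have hcop : IsCoprime Q (R * (2 * c + 1) - 1) := by
        obtain ⟨R', hR'⟩ := hRev
        have h1' : IsCoprime R (R * (2 * c + 1) - 1) := ⟨2 * c + 1, -1, by ring⟩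
        have h2' : IsCoprime (2 : ℤ) (R * (2 * c + 1) - 1) :=
          ⟨R' * (2 * c + 1), -1, by rw [hR']; ring⟩
        rw [hR]; exact h2'.mul_left h1'
      exact hcop.dvd_of_dvd_mul_right h1
    obtain ⟨y, hy⟩ : ∃ y, y = x * a ^ l := ⟨_, rfl⟩
    have hyA : y ∉ Subgroup.zpowers a := fun h => hx (by
      rw [hy] at h
      simpa using mul_mem h (inv_mem (Subgroup.zpow_mem_zpowers a l)))
    have hyy : y * y = 1 := by
      calc y * y = (x * a ^ l * x⁻¹) * (x * x) * a ^ l := by rw [hy]; group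
        _ = a ^ ((Q * (2 * c + 1) - 1) * l + Q * l + l) := by
            rw [CfsgLib.Case.conj_zpow_axis hr, ← hj, zpow_add, zpow_add]
        _ = a ^ (0 : ℤ) := by rw [hiff]; exact ⟨(c + 1) * l, by ring⟩
        _ = 1 := zpow_zero a
    refine Or.inr (Or.inr ⟨m' + 3, by omega, by rw [hcard], a, y, hm',
      orderOf_eq_prime (by rw [sq]; exact hyy) (fun h => hyA (h ▸ one_mem _)), ?_⟩)
    have hya : y * a * y⁻¹ = x * a * x⁻¹ := by rw [hy]; group
    rw [hya, hr, ← zpow_natCast, hiff]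
    have hpow : 1 ≤ 2 ^ (m' + 3 - 1) := Nat.one_le_two_pow
    rw [Nat.cast_sub hpow]
    push_cast
    rw [show m' + 2 = m' + 1 + 1 by omega, ← hQ]
    exact ⟨c, by ring⟩

end Cfsg.Agent.S0519
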