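import Cfsg.Statements.S0520
import Cfsg.Agent.Lib.Case.FourGroups
import Mathlib.GroupTheory.Nilpotent

set_option autoImplicit false
open Cfsg

namespace Cfsg.Agent.S0520

section
variable {G : Type*} [Group G]

/-- Conjugate subgroup. -/
abbrev cj (g : G) (H : Subgroup G) : Subgroup G := H.map (MulAut.conj g).toMonoidHom

theorem mem_cj {g : G} {H : Subgroup G} {x : G} : x ∈ cj g H ↔ g⁻¹ * x * g ∈ H := by
  constructor
  · rintro ⟨y, hy, rfl⟩
    simpa [mul_assoc] using hy
  · intro h
    exact ⟨_, h, by simp [mul_assoc]⟩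

theorem conj_mem_cj (g : G) {H : Subgroup G} {y : G} (hy : y ∈ H) : g * y * g⁻¹ ∈ cj g H :=
  ⟨y, hy, rfl⟩

theorem cj_mul (a b : G) (H : Subgroup G) : cj (a * b) H = cj a (cj b H) := by
  ext x
  simp [mem_cj, mul_assoc]

theorem cj_one (H : Subgroup G) : cj 1 H = H := by
  ext x
  simp [mem_cj]

theorem klein_map {H : Type*} [Group H] (f : G →* H) (hf : Function.Injective f) {V : Subgroup G}
    (hV : IsKleinFour V) : IsKleinFour (V.map f) :=
  ⟨(Nat.card_congr (V.equivMapOfInjective f hf).toEquiv).symm.trans hV.card_four,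
   (Monoid.exponent_eq_of_mulEquiv (V.equivMapOfInjective f hf)).symm.trans hV.exponent_two⟩

theorem klein_cj (g : G) {V : Subgroup G} (hV : IsKleinFour V) : IsKleinFour (cj g V) :=
  klein_map _ (MulAut.conj g).injective hV

theorem klein_subgroupOf {V S : Subgroup G} (hVS : V ≤ S) (hV : IsKleinFour V) :
    IsKleinFour (V.subgroupOf S) :=
  ⟨(Nat.card_congr (Subgroup.subgroupOfEquivOfLe hVS).toEquiv).trans hV.card_four,
   (Monoid.exponent_eq_of_mulEquiv (Subgroup.subgroupOfEquivOfLe hVS)).trans hV.exponent_two⟩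

theorem isPGroup_klein {V : Subgroup G} (hV : IsKleinFour V) : IsPGroup 2 V :=
  IsPGroup.of_card (n := 2) hV.card_four

theorem adj_map {H : Type*} [Group H] (f : G →* H) (hf : Function.Injective f) {A B : Subgroup G}
    (h : CfsgLib.Case.FourAdj A B) : CfsgLib.Case.FourAdj (A.map f) (B.map f) := by
  refine ⟨klein_map f hf h.1, klein_map f hf h.2.1, ?_⟩
  rintro _ ⟨a, ha, rfl⟩ _ ⟨b, hb, rfl⟩
  rw [← map_mul, ← map_mul, h.2.2 a ha b hb]

theorem path_map {H : Type*} [Group H] (f : G →* H) (hf : Function.Injective f) {A B : Subgroup G}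
    (h : Relation.ReflTransGen CfsgLib.Case.FourAdj A B) :
    Relation.ReflTransGen CfsgLib.Case.FourAdj (A.map f) (B.map f) :=
  Relation.ReflTransGen.lift (Subgroup.map f) (fun _ _ => adj_map f hf) _ _ h

theorem big_not_rank {Q V : Subgroup G} (hV : IsKleinFour V) (hVQ : V ≤ Q) :
    ¬ Cfsg.PRankLE 2 1 Q := by
  intro h
  have hK := klein_subgroupOf hVQ hV
  have := h (V.subgroupOf Q) (@IsKleinFour.isMulCommutative _ _ hK) fun a ha => by
    rw [sq]; exact CfsgLib.Case.klein_mul_self hK ha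
  rw [hK.card_four] at this
  omega

theorem exists_klein_in_of_not_rank [Finite G] {Q : Subgroup G} (h : ¬ Cfsg.PRankLE 2 1 Q) :
    ∃ V : Subgroup G, IsKleinFour V ∧ V ≤ Q := by
  obtain ⟨V, hV⟩ := CfsgLib.Case.exists_klein_of_not_rankLE h
  exact ⟨V.map Q.subtype, klein_map _ Subtype.val_injective hV, Subgroup.map_subtype_le V⟩

end

variable {G : Type*} [Group G] [Finite G] (S : Sylow 2 G)

/-- The 2-generated core. -/
def core2 : Subgroup G :=
  ⨆ Q : {Q : Subgroup G // Q ≤ (S : Subgroup G) ∧ ¬ Cfsg.PRankLE 2 1 Q},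
    Subgroup.normalizer ((Q : Subgroup G) : Set G)

theorem normalizer_le_core2 {Q V : Subgroup G} (hQ : Q ≤ (S : Subgroup G)) (hV : IsKleinFour V)
    (hVQ : V ≤ Q) : Subgroup.normalizer (Q : Set G) ≤ core2 S :=
  le_iSup (fun Q : {Q : Subgroup G // Q ≤ (S : Subgroup G) ∧ ¬ Cfsg.PRankLE 2 1 Q} =>
    Subgroup.normalizer ((Q : Subgroup G) : Set G)) ⟨Q, hQ, big_not_rank hV hVQ⟩

theorem exists_cj_le (h2 : ¬ Cfsg.PRankLE 2 1 G) :
    ∃ U : Subgroup G, IsKleinFour U ∧ U ≤ (S : Subgroup G) := by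
  obtain ⟨V, hV⟩ := CfsgLib.Case.exists_klein_of_not_rankLE h2
  obtain ⟨T, hT⟩ := (isPGroup_klein hV).exists_le_sylow
  obtain ⟨g, rfl⟩ := MulAction.exists_smul_eq G S T
  refine ⟨cj g⁻¹ V, klein_cj _ hV, ?_⟩
  intro x hx
  rw [mem_cj, inv_inv] at hx
  have h := hT hx
  rw [Sylow.coe_subgroup_smul] at h
  obtain ⟨y, hy, hyx⟩ := h
  have : y = x := by
    have hyx' : g * y * g⁻¹ = g * x * g⁻¹ := hyx
    exact mul_left_cancel (mul_right_cancel hyx')
  exact this ▸ hy

theorem conj_into (hSΓ : (S : Subgroup G) ≤ core2 S) {Q : Subgroup G} (hQ : IsPGroup 2 Q)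
    (hQΓ : Q ≤ core2 S) : ∃ k ∈ core2 S, cj k Q ≤ (S : Subgroup G) := by
  have hQ' : IsPGroup 2 (Q.subgroupOf (core2 S)) :=
    hQ.of_equiv (Subgroup.subgroupOfEquivOfLe hQΓ).symm
  obtain ⟨T, hT⟩ := hQ'.exists_le_sylow
  obtain ⟨k, hk⟩ := MulAction.exists_smul_eq (core2 S) T (S.subtype hSΓ)
  refine ⟨k, k.2, ?_⟩
  rintro _ ⟨y, hy, rfl⟩
  have h1 : (⟨y, hQΓ hy⟩ : core2 S) ∈ Q.subgroupOf (core2 S) := hy
  have h2 : k * ⟨y, hQΓ hy⟩ * k⁻¹ ∈ ((k • T : Sylow 2 (core2 S)) : Subgroup (core2 S)) := by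
    rw [Sylow.coe_subgroup_smul]
    exact ⟨⟨y, hQΓ hy⟩, hT h1, rfl⟩
  rw [hk] at h2
  exact h2

theorem normalizer_le_of_le (hSΓ : (S : Subgroup G) ≤ core2 S) {Q V : Subgroup G}
    (hQ : IsPGroup 2 Q) (hQΓ : Q ≤ core2 S) (hV : IsKleinFour V) (hVQ : V ≤ Q) :
    Subgroup.normalizer (Q : Set G) ≤ core2 S := by
  intro g hg
  obtain ⟨k, hk, hle⟩ := conj_into S hSΓ hQ hQΓ
  have h1 := normalizer_le_core2 S hle (klein_cj k hV) (Subgroup.map_mono hVQ)
    (Subgroup.le_normalizer_map _ (Subgroup.mem_map_of_mem _ hg))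
  have h2 : k * g * k⁻¹ ∈ core2 S := h1
  have := (core2 S).mul_mem ((core2 S).mul_mem ((core2 S).inv_mem hk) h2) hk
  simpa [mul_assoc] using this

/-- A Sylow subgroup meeting `S` in a subgroup containing a four-group lies in the core. -/
theorem sylow_le_core2 (hSΓ : (S : Subgroup G) ≤ core2 S) :
    ∀ (d : ℕ) (T : Sylow 2 G) (V : Subgroup G), IsKleinFour V →
      V ≤ (S : Subgroup G) ⊓ (T : Subgroup G) →
      Nat.card (S : Subgroup G) ≤ Nat.card ↥((S : Subgroup G) ⊓ (T : Subgroup G)) + d →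
      (T : Subgroup G) ≤ core2 S := by
  intro d
  induction d using Nat.strong_induction_on with
  | _ d ih =>
    intro T V hV hVR hcard
    by_cases hTS : (T : Subgroup G) ≤ (S : Subgroup G)
    · exact hTS.trans hSΓ
    have hlt : ((S : Subgroup G) ⊓ (T : Subgroup G)).subgroupOf (T : Subgroup G) < ⊤ := by
      rw [lt_top_iff_ne_top, Ne, Subgroup.subgroupOf_eq_top]
      exact fun h => hTS (h.trans inf_le_left)
    haveI := T.isPGroup'.isNilpotent
    have hlt' := Group.normalizerCondition_of_isNilpotent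
      (((S : Subgroup G) ⊓ (T : Subgroup G)).subgroupOf (T : Subgroup G)) hlt
    obtain ⟨R2', hR2⟩ : ∃ R2', R2' =
        Subgroup.normalizer ((((S : Subgroup G) ⊓ (T : Subgroup G)).subgroupOf (T : Subgroup G)) :
          Set ↥(T : Subgroup G)) := ⟨_, rfl⟩
    rw [← hR2] at hlt'
    have hltR : (S : Subgroup G) ⊓ (T : Subgroup G) < R2'.map (T : Subgroup G).subtype := by
      have h := (Subgroup.map_lt_map_iff_of_injective
        (T : Subgroup G).subtype_injective).2 hlt'
      rwa [Subgroup.subgroupOf_map_subtype, inf_eq_left.2 inf_le_right] at h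
    have hR2N : R2'.map (T : Subgroup G).subtype ≤
        Subgroup.normalizer (((S : Subgroup G) ⊓ (T : Subgroup G) : Subgroup G) : Set G) := by
      rw [hR2]
      refine (Subgroup.le_normalizer_map _).trans (le_of_eq ?_)
      rw [Subgroup.subgroupOf_map_subtype, inf_eq_left.2 inf_le_right]
    have hR2Γ : R2'.map (T : Subgroup G).subtype ≤ core2 S :=
      hR2N.trans (normalizer_le_core2 S inf_le_left hV hVR)
    obtain ⟨k, hk, hle⟩ := conj_into S hSΓ ((T.isPGroup'.to_subgroup R2').map _) hR2Γ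
    have hT' : ((k • T : Sylow 2 G) : Subgroup G) = cj k (T : Subgroup G) := Sylow.coe_subgroup_smul
    have hcl : cj k (R2'.map (T : Subgroup G).subtype) ≤
        (S : Subgroup G) ⊓ ((k • T : Sylow 2 G) : Subgroup G) :=
      le_inf hle (hT' ▸ Subgroup.map_mono (Subgroup.map_subtype_le R2'))
    have hc1 : Nat.card ↥((S : Subgroup G) ⊓ (T : Subgroup G)) <
        Nat.card ↥(R2'.map (T : Subgroup G).subtype) := by
      rcases lt_or_eq_of_le (Subgroup.card_le_of_le hltR.le) with h | h
      · exact h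
      · exact absurd (Subgroup.eq_of_le_of_card_ge hltR.le h.ge) hltR.ne
    have hc2 : Nat.card ↥(R2'.map (T : Subgroup G).subtype) ≤
        Nat.card ↥((S : Subgroup G) ⊓ ((k • T : Sylow 2 G) : Subgroup G)) := by
      refine le_trans (le_of_eq ?_) (Subgroup.card_le_of_le hcl)
      exact (Subgroup.card_map_of_injective (MulAut.conj k).injective).symm
    have hres := ih (d - 1) (by
        have := Subgroup.card_le_of_le
          (inf_le_left : (S : Subgroup G) ⊓ ((k • T : Sylow 2 G) : Subgroup G) ≤ _)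
        omega)
      (k • T) (cj k V) (klein_cj k hV)
      ((Subgroup.map_mono (hVR.trans hltR.le)).trans hcl) (by omega)
    intro x hx
    have h2 : k * x * k⁻¹ ∈ core2 S := hres (hT' ▸ conj_mem_cj k hx)
    have := (core2 S).mul_mem ((core2 S).mul_mem ((core2 S).inv_mem hk) h2) hk
    simpa [mul_assoc] using this

theorem smul_mem_core2 (hSΓ : (S : Subgroup G) ≤ core2 S) (hN :
    Subgroup.normalizer ((S : Subgroup G) : Set G) ≤ core2 S) (g : G) (U : Subgroup G)
    (hU : IsKleinFour U) (hUS : U ≤ (S : Subgroup G)) (hgU : cj g U ≤ (S : Subgroup G)) :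
    g ∈ core2 S := by
  have hT : ((g • S : Sylow 2 G) : Subgroup G) = cj g (S : Subgroup G) := Sylow.coe_subgroup_smul
  have h : ((g • S : Sylow 2 G) : Subgroup G) ≤ core2 S :=
    sylow_le_core2 S hSΓ (Nat.card (S : Subgroup G)) _ (cj g U) (klein_cj g hU)
      (le_inf hgU (hT ▸ Subgroup.map_mono hUS)) (by omega)
  obtain ⟨k, hk⟩ := MulAction.exists_smul_eq (core2 S) (S.subtype hSΓ) ((g • S).subtype h)
  rw [Sylow.smul_subtype hSΓ k] at hk
  have hk' := Sylow.subtype_injective hk
  have hkg : (k : G)⁻¹ * g ∈ Subgroup.normalizer ((S : Subgroup G) : Set G) := by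
    refine Sylow.smul_eq_iff_mem_normalizer.1 ?_
    rw [mul_smul, ← hk']
    exact inv_smul_smul _ _
  have := (core2 S).mul_mem k.2 (hN hkg)
  simpa using this

/-- The stabilizer of a connected component. -/
def compStab (U : Subgroup G) : Subgroup G where
  carrier := {g | Relation.ReflTransGen CfsgLib.Case.FourAdj U (cj g U)}
  one_mem' := by simp only [Set.mem_setOf_eq, cj_one]; exact Relation.ReflTransGen.refl
  mul_mem' := by
    intro a b ha hb
    simp only [Set.mem_setOf_eq] at ha hb ⊢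
    rw [cj_mul]
    exact ha.trans (path_map (MulAut.conj a).toMonoidHom (MulAut.conj a).injective hb)
  inv_mem' := by
    intro a ha
    simp only [Set.mem_setOf_eq] at ha ⊢
    have h := path_map (MulAut.conj a⁻¹).toMonoidHom (MulAut.conj a⁻¹).injective (CfsgLib.Case.fourPath_symm ha)
    change Relation.ReflTransGen _ (cj a⁻¹ (cj a U)) (cj a⁻¹ U) at h
    rwa [← cj_mul, inv_mul_cancel, cj_one] at h

/-- Let G be a finite group of 2-rank at least 2 and S a Sylow 2-subgroup whose commuting graph of Klein four-subgroups is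
connected. Then the commuting graph of Klein four-subgroups of G is disconnected if and only if the 2-generated core — the
subgroup generated by the normalizers N_G(Q) of the subgroups Q of S that contain a Klein four-group — is a proper
subgroup of G. -/
theorem result {G : Type*} [Group G] [Finite G] (h2 : ¬ Cfsg.PRankLE 2 1 G)
    (S : Sylow 2 G) (hS : Cfsg.IsFourConnected (S : Subgroup G)) :
    ¬ Cfsg.IsFourConnected G ↔
      (⨆ Q : {Q : Subgroup G // Q ≤ (S : Subgroup G) ∧ ¬ Cfsg.PRankLE 2 1 Q},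
          Subgroup.normalizer ((Q : Subgroup G) : Set G)) ≠ ⊤ := by
  show ¬ Cfsg.IsFourConnected G ↔ core2 S ≠ ⊤
  obtain ⟨U, hU, hUS⟩ := exists_cj_le S h2
  have hN := normalizer_le_core2 S le_rfl hU hUS
  have hSΓ : (S : Subgroup G) ≤ core2 S := Subgroup.le_normalizer.trans hN
  rw [not_iff_not]
  constructor
  · intro hconn
    have hall : ∀ V : Subgroup G, IsKleinFour V → V ≤ core2 S := by
      intro V hV
      have hp := hconn U V hU hV
      clear hV
      induction hp with
      | refl => exact hUS.trans hSΓ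
      | tail _ hadj ih =>
        obtain ⟨hA, hB, hc⟩ := hadj
        intro x hx
        refine normalizer_le_of_le S hSΓ (isPGroup_klein hA) ih hA le_rfl ?_
        rw [Subgroup.mem_normalizer_iff]
        intro a
        refine ⟨fun ha => ?_, fun ha => ?_⟩
        · rw [← hc a ha x hx, mul_assoc, mul_inv_cancel, mul_one]
          exact ha
        · have h := hc _ ha x hx
          have h' : x * a * x⁻¹ = a := by
            have h3 := congrArg (fun t => x⁻¹ * t) h
            simpa [mul_assoc] using h3.symm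
          rwa [h'] at ha
    refine eq_top_iff.2 fun g _ => ?_
    obtain ⟨k, hk, hle⟩ := conj_into S hSΓ (isPGroup_klein (klein_cj g hU)) (hall _ (klein_cj g hU))
    have := smul_mem_core2 S hSΓ hN (k * g) U hU hUS (by rw [cj_mul]; exact hle)
    simpa using (core2 S).mul_mem ((core2 S).inv_mem hk) this
  · intro htop
    have hSconn : ∀ A B : Subgroup G, IsKleinFour A → IsKleinFour B → A ≤ (S : Subgroup G) →
        B ≤ (S : Subgroup G) → Relation.ReflTransGen CfsgLib.Case.FourAdj A B := by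
      intro A B hA hB hAS hBS
      have h := path_map (S : Subgroup G).subtype Subtype.val_injective
        (hS _ _ (klein_subgroupOf hAS hA) (klein_subgroupOf hBS hB))
      rwa [Subgroup.subgroupOf_map_subtype, Subgroup.subgroupOf_map_subtype,
        inf_eq_left.2 hAS, inf_eq_left.2 hBS] at h
    have hstab : compStab U = ⊤ := by
      rw [eq_top_iff, ← htop]
      refine iSup_le fun Q g hg => ?_
      obtain ⟨V, hV, hVQ⟩ := exists_klein_in_of_not_rank Q.2.2
      show Relation.ReflTransGen CfsgLib.Case.FourAdj U (cj g U)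
      have hgV : cj g V ≤ (S : Subgroup G) := by
        rintro _ ⟨v, hv, rfl⟩
        exact Q.2.1 ((Subgroup.mem_normalizer_iff.1 hg v).1 (hVQ hv))
      exact (hSconn U _ hU (klein_cj g hV) hUS hgV).trans
        (path_map (MulAut.conj g).toMonoidHom (MulAut.conj g).injective (hSconn V U hV hU (hVQ.trans Q.2.1) hUS))
    have key : ∀ A : Subgroup G, IsKleinFour A → Relation.ReflTransGen CfsgLib.Case.FourAdj U A := by
      intro A hA
      obtain ⟨k, -, hle⟩ := conj_into S hSΓ (isPGroup_klein hA) (by rw [htop]; exact le_top)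
      have hm : k⁻¹ ∈ compStab U := hstab ▸ Subgroup.mem_top _
      have h := path_map (MulAut.conj k⁻¹).toMonoidHom (MulAut.conj k⁻¹).injective
        (hSconn U _ hU (klein_cj k hA) hUS hle)
      change Relation.ReflTransGen _ (cj k⁻¹ U) (cj k⁻¹ (cj k A)) at h
      rw [← cj_mul, inv_mul_cancel, cj_one] at h
      exact Relation.ReflTransGen.trans hm h
    intro A B hA hB
    exact (CfsgLib.Case.fourPath_symm (key A hA)).trans (key B hB)

end Cfsg.Agent.S0520
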