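import Cfsg.Statements.S0521
import Cfsg.Agent.Lib.Case.Transvections
import Cfsg.Agent.Lib.Case.CharTwo
import Cfsg.Agent.Lib.PGroup.Basic
import Mathlib.FieldTheory.Finite.Basic

set_option autoImplicit false
open Cfsg

namespace Cfsg.Agent.S0521

theorem fitting_not_dvd {Y : Type*} [Group Y] [Finite Y] {p : ℕ} [hp : Fact p.Prime]
    (hO : Cfsg.pCore p Y = ⊥) : ¬ p ∣ Nat.card (Cfsg.fittingSubgroup Y) := by
  intro hdvd
  haveI := CfsgLib.Solvable.fittingSubgroup_isNilpotent Y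
  haveI := CfsgLib.Solvable.fittingSubgroup_normal Y
  obtain ⟨P⟩ := (inferInstance : Nonempty (Sylow p (Cfsg.fittingSubgroup Y)))
  haveI hPn : (P : Subgroup (Cfsg.fittingSubgroup Y)).Normal := inferInstance
  have hne := P.ne_bot_of_dvd_card hdvd
  haveI := P.characteristic_of_normal hPn
  have hbot : (P : Subgroup (Cfsg.fittingSubgroup Y)).map (Cfsg.fittingSubgroup Y).subtype = ⊥ :=
    le_bot_iff.1 (hO ▸ CfsgLib.Solvable.le_pCore inferInstance (P.isPGroup'.map _))
  exact hne ((Subgroup.map_eq_bot_iff_of_injective _ (Cfsg.fittingSubgroup Y).subtype_injective).1 hbot)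

open scoped commutatorElement

section
variable {X : Type*} [Group X] [Finite X]

theorem odd_card_quotient (hX : Odd (Nat.card X)) (N : Subgroup X) [N.Normal] :
    Odd (Nat.card (X ⧸ N)) :=
  hX.of_dvd_nat (Subgroup.card_quotient_dvd_card N)

theorem cyclic_exp_prime {p : ℕ} [hp : Fact p.Prime] {L : Subgroup X} (hL : IsCyclic L)
    (hexp : ∀ x ∈ L, x ^ p = 1) : ∀ x ∈ L, x ≠ 1 → L ≤ Subgroup.zpowers x := by
  intro x hx hx1
  obtain ⟨g, hg⟩ := hL.exists_ofOrder_eq_natCard
  have hdvd : Nat.card L ∣ p := hg ▸ orderOf_dvd_of_pow_eq_one (Subtype.ext (hexp g g.2))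
  have hox : orderOf x = p := orderOf_eq_prime (hexp x hx) hx1
  have hle : Subgroup.zpowers x ≤ L := Subgroup.zpowers_le.2 hx
  refine (Subgroup.eq_of_le_of_card_ge hle ?_).ge
  rw [Nat.card_zpowers, hox]
  exact Nat.le_of_dvd hp.out.pos hdvd

/-- The reduced case: no normal p'-subgroup. -/
theorem core [Group.IsSolvable X] (hX : Odd (Nat.card X)) {p : ℕ} [hp : Fact p.Prime] (hp2 : p ≠ 2)
    (hO : Cfsg.pPrimeCore p X = ⊥) (P : Subgroup X) (hP : IsPGroup p P)
    (hVP : Cfsg.pCore p X ≤ P) (hcyc : IsCyclic (⁅P, P⁆ : Subgroup X)) : P ≤ Cfsg.pCore p X := by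
  obtain ⟨V, hV⟩ : ∃ V, V = Cfsg.pCore p X := ⟨_, rfl⟩
  haveI hVn : V.Normal := hV ▸ CfsgLib.Solvable.pCore_normal p X
  have hVp : IsPGroup p V := hV ▸ CfsgLib.Solvable.pCore_isPGroup p X
  have hVC : Subgroup.centralizer (V : Set X) ≤ V :=
    hV ▸ CfsgLib.Case.centralizer_pCore_le_of_solvable hO
  rw [← hV] at hVP ⊢
  obtain ⟨Φ, hΦ⟩ : ∃ Φ, Φ = (frattini V).map V.subtype := ⟨_, rfl⟩
  haveI : Φ.Normal := hΦ ▸ inferInstance
  have hΦV : Φ ≤ V := hΦ ▸ Subgroup.map_subtype_le _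
  obtain ⟨π, hπ⟩ : ∃ π, π = QuotientGroup.mk' Φ := ⟨_, rfl⟩
  have hπker : ∀ x, π x = 1 ↔ x ∈ Φ := fun x => by rw [hπ]; exact QuotientGroup.eq_one_iff x
  have hπs : Function.Surjective π := hπ ▸ QuotientGroup.mk'_surjective Φ
  obtain ⟨W, hW⟩ : ∃ W, W = V.map π := ⟨_, rfl⟩
  haveI : W.Normal := hW ▸ hVn.map π hπs
  have hWc : ∀ u ∈ W, ∀ v ∈ W, u * v = v * u := by
    intro u hu v hv
    rw [hW] at hu hv
    obtain ⟨u, hu', rfl⟩ := hu
    obtain ⟨v, hv', rfl⟩ := hv
    rw [← commutatorElement_eq_one_iff_mul_comm, ← map_commutatorElement, hπker, hΦ]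
    exact ⟨_, CfsgLib.PGroup.commutator_le_frattini hVp (Subgroup.commutator_mem_commutator
      (Subgroup.mem_top (⟨u, hu'⟩ : V)) (Subgroup.mem_top (⟨v, hv'⟩ : V))), rfl⟩
  have hWp : ∀ u ∈ W, u ^ p = 1 := by
    intro u hu
    rw [hW] at hu
    obtain ⟨u, hu', rfl⟩ := hu
    rw [← map_pow, hπker, hΦ]
    exact ⟨_, CfsgLib.PGroup.pow_mem_frattini hVp (⟨u, hu'⟩ : V), rfl⟩
  -- preimages of normal p-subgroups modulo V are in V
  have hmax : ∀ N : Subgroup X, N.Normal → IsPGroup p N → N ≤ V := fun N hn hp' =>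
    hV ▸ CfsgLib.Solvable.le_pCore hn hp'
  have hWC : Subgroup.centralizer (W : Set (X ⧸ Φ)) ≤ W := by
    obtain ⟨K, hK⟩ : ∃ K, K = (Subgroup.centralizer (W : Set (X ⧸ Φ))).comap π := ⟨_, rfl⟩
    haveI : K.Normal := hK ▸ inferInstance
    have hKp : IsPGroup p K := by
      intro x
      by_contra hcon
      push Not at hcon
      obtain ⟨n, hn⟩ : ∃ n, orderOf x = n := ⟨_, rfl⟩
      obtain ⟨e, m, hm, hnm⟩ := Nat.exists_eq_pow_mul_and_not_dvd
        (hn ▸ (orderOf_pos x).ne') p hp.out.ne_one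
      have hy : (x.1 ^ (p ^ e)) ^ m = 1 := by
        rw [← pow_mul, ← hnm, ← hn, ← Subgroup.coe_pow, pow_orderOf_eq_one, Subgroup.coe_one]
      have hA : Subgroup.zpowers (x.1 ^ (p ^ e)) ≤ Subgroup.centralizer (V : Set X) := by
        refine CfsgLib.Solvable.le_centralizer_of_trivial_on_frattini_quotient ?_ ?_
        · obtain ⟨k, hk⟩ := IsPGroup.iff_card.1 (hVp.to_subgroup (frattini V))
          rw [hk, Nat.card_zpowers]
          refine Nat.Coprime.pow_right k ?_
          exact (hp.out.coprime_iff_not_dvd.2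
            fun h => hm (h.trans (orderOf_dvd_of_pow_eq_one hy))).symm
        · intro a ha v hv
          obtain ⟨i, rfl⟩ := Subgroup.mem_zpowers_iff.1 ha
          rw [← hΦ, ← hπker]
          have hmem : (x.1 ^ (p ^ e)) ^ i ∈ K :=
            Subgroup.zpow_mem _ (Subgroup.pow_mem _ x.2 _) i
          have hmem' : π ((x.1 ^ (p ^ e)) ^ i) ∈ Subgroup.centralizer (W : Set (X ⧸ Φ)) := by
            exact Subgroup.mem_comap.1 (hK.le hmem)
          have hc : π v * π ((x.1 ^ (p ^ e)) ^ i) = π ((x.1 ^ (p ^ e)) ^ i) * π v :=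
            Subgroup.mem_centralizer_iff.1 hmem' (π v) (hW ▸ ⟨v, hv, rfl⟩)
          rw [map_mul, map_mul, map_mul, map_inv, map_inv, ← hc]
          group
      obtain ⟨k, hk⟩ := hVp ⟨x.1 ^ (p ^ e), hVC (hA (Subgroup.mem_zpowers _))⟩
      apply hcon (e + k)
      apply Subtype.ext
      have hk' := congrArg Subtype.val hk
      rw [Subgroup.coe_pow, ← pow_mul, ← pow_add] at hk'
      simpa using hk'
    intro y hy
    obtain ⟨x, rfl⟩ := hπs y
    rw [hW]
    exact ⟨x, hmax K inferInstance hKp (hK ▸ hy), rfl⟩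
  -- the quotient by V
  have hcomapW : W.comap π = V := by
    rw [hW, Subgroup.comap_map_eq, sup_eq_left]
    intro x hx
    exact hΦV ((hπker x).1 hx)
  have hOq : Cfsg.pCore p ((X ⧸ Φ) ⧸ W) = ⊥ := by
    obtain ⟨ρ, hρ⟩ : ∃ ρ, ρ = (QuotientGroup.mk' W).comp π := ⟨_, rfl⟩
    have hρs : Function.Surjective ρ := hρ ▸ (QuotientGroup.mk'_surjective W).comp hπs
    have hker : ρ.ker = V := by
      rw [hρ, ← MonoidHom.comap_ker, QuotientGroup.ker_mk', hcomapW]
    haveI := CfsgLib.Solvable.pCore_normal p ((X ⧸ Φ) ⧸ W)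
    have hN : (Cfsg.pCore p ((X ⧸ Φ) ⧸ W)).comap ρ ≤ V :=
      hmax _ inferInstance ((CfsgLib.Solvable.pCore_isPGroup p _).comap_of_ker_isPGroup ρ
        (hker ▸ hVp))
    rw [eq_bot_iff]
    intro z hz
    obtain ⟨x, rfl⟩ := hρs z
    exact MonoidHom.mem_ker.1 (hker ▸ hN hz)
  -- the centre of the shears
  obtain ⟨L, hL⟩ : ∃ L, L = W ⊓ (⁅P, P⁆ : Subgroup X).map π := ⟨_, rfl⟩
  have hLcyc : IsCyclic L := by
    haveI : IsCyclic ((⁅P, P⁆ : Subgroup X).map π) :=
      isCyclic_of_surjective _ (π.subgroupMap_surjective ⁅P, P⁆)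
    exact isCyclic_of_injective (Subgroup.inclusion (hL ▸ inf_le_right : L ≤ _))
      (Subgroup.inclusion_injective _)
  have hLzp := cyclic_exp_prime hLcyc (fun x hx => hWp x ((hL ▸ inf_le_left : L ≤ W) hx))
  have hshear : ∀ s ∈ P, CfsgLib.Case.IsShear W L (π s) := by
    intro s hs
    refine ⟨hL ▸ inf_le_left, ?_, ?_⟩
    · intro u hu
      rw [hW] at hu
      obtain ⟨v, hv, rfl⟩ := hu
      rw [← commutatorElement_def, ← map_commutatorElement, hL]
      refine ⟨?_, ⟨_, Subgroup.commutator_mem_commutator hs (hVP hv), rfl⟩⟩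
      rw [hW]
      exact ⟨_, mul_mem (hVn.conj_mem v hv s) (inv_mem hv), rfl⟩
    · intro l hl
      by_cases hl1 : l = 1
      · simp [hl1]
      -- a p-element normalising a subgroup of order p centralises it
      have hconj : ∀ y ∈ L, π s * y * (π s)⁻¹ ∈ L := by
        intro y hy
        rw [hL] at hy ⊢
        obtain ⟨hy1, x, hx, rfl⟩ := hy
        refine ⟨(inferInstance : W.Normal).conj_mem _ hy1 _, ⟨s * x * s⁻¹, ?_, by simp⟩⟩
        exact (Subgroup.mem_normalizer_iff.1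
          (CfsgLib.Solvable.le_normalizer_commutator_left P P hs) x).1 hx
      obtain ⟨t, ht⟩ : ∃ t : ℕ, l ^ t = π s * l * (π s)⁻¹ :=
        mem_powers_iff_mem_zpowers.2 (hLzp l hl hl1 (hconj l hl))
      obtain ⟨k, hk⟩ := hP ⟨s, hs⟩
      have hit : ∀ n : ℕ, π s ^ n * l * (π s ^ n)⁻¹ = l ^ (t ^ n) := by
        intro n
        induction n with
        | zero => simp
        | succ n ih =>
          calc π s ^ (n + 1) * l * (π s ^ (n + 1))⁻¹
              = π s * (π s ^ n * l * (π s ^ n)⁻¹) * (π s)⁻¹ := by rw [pow_succ']; group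
            _ = MulAut.conj (π s) (l ^ (t ^ n)) := by rw [ih, MulAut.conj_apply]
            _ = (l ^ t) ^ (t ^ n) := by rw [map_pow, MulAut.conj_apply, ← ht]
            _ = l ^ (t ^ (n + 1)) := by rw [← pow_mul, pow_succ, mul_comm]
      have h1 := hit (p ^ k)
      have hk' : s ^ (p ^ k) = 1 := congrArg Subtype.val hk
      rw [← map_pow, hk', map_one, one_mul, inv_one, mul_one] at h1
      have hlp : orderOf l = p :=
        orderOf_eq_prime (hWp l ((hL ▸ inf_le_left : L ≤ W) hl)) hl1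
      have h2 : t ^ (p ^ k) ≡ 1 [MOD p] := by
        rw [← hlp, ← pow_eq_pow_iff_modEq, pow_one]
        rw [hlp]
        exact h1.symm
      have h3 : t ≡ 1 [MOD p] := by
        rw [← ZMod.natCast_eq_natCast_iff] at h2 ⊢
        push_cast at h2 ⊢
        rwa [ZMod.pow_card_pow] at h2
      rw [← ht]
      conv_rhs => rw [← pow_one l]
      exact pow_eq_pow_iff_modEq.2 (hlp.symm ▸ h3)
  -- main argument
  intro s hs
  obtain ⟨k, hk⟩ := hP ⟨s, hs⟩
  have hkq : (π s) ^ (p ^ k) = 1 := by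
    rw [← map_pow, show s ^ (p ^ k) = 1 from congrArg Subtype.val hk, map_one]
  haveI : Group.IsSolvable ((X ⧸ Φ) ⧸ W) :=
    Group.isSolvable_of_surjective (f := (QuotientGroup.mk' W).comp π)
      ((QuotientGroup.mk'_surjective W).comp hπs)
  have hYodd : Odd (Nat.card (X ⧸ Φ)) := odd_card_quotient hX Φ
  have hsF : QuotientGroup.mk' W (π s) ∈
      Subgroup.centralizer (Cfsg.fittingSubgroup ((X ⧸ Φ) ⧸ W) : Set ((X ⧸ Φ) ⧸ W)) := by
    intro g hg
    obtain ⟨g, rfl⟩ := QuotientGroup.mk'_surjective W g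
    have hb : CfsgLib.Case.IsShear W (L.map (MulAut.conj g).toMonoidHom) (g * π s * g⁻¹) := by
      have hg' := hshear s hs
      refine ⟨?_, ?_, ?_⟩
      · rintro _ ⟨l, hl, rfl⟩
        exact (inferInstance : W.Normal).conj_mem l (hg'.le hl) g
      · intro u hu
        refine ⟨_, hg'.shift (g⁻¹ * u * g) ?_, ?_⟩
        · simpa using (inferInstance : W.Normal).conj_mem u hu g⁻¹
        · simp [mul_assoc]
      · rintro _ ⟨l, hl, rfl⟩
        simp only [MulEquiv.coe_toMonoidHom, MulAut.conj_apply]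
        calc g * π s * g⁻¹ * (g * l * g⁻¹) * (g * π s * g⁻¹)⁻¹
            = g * (π s * l * (π s)⁻¹) * g⁻¹ := by group
          _ = g * l * g⁻¹ := by rw [hg'.fix l hl]
    have hH := CfsgLib.Case.isPGroup_pair hYodd hp2 hWc hWp hWC hkq
      (b := g * π s * g⁻¹) (j := k)
      (by rw [conj_pow, hkq, mul_one, mul_inv_cancel]) (hshear s hs) hb hLzp
      (by
        rintro _ ⟨x, hx, rfl⟩ hx1
        rw [← MonoidHom.map_zpowers]
        exact Subgroup.map_mono (hLzp x hx (fun h => hx1 (by rw [h, map_one]))))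
    have hmem : QuotientGroup.mk' W (π s) * (QuotientGroup.mk' W (g * π s * g⁻¹))⁻¹ ∈
        Subgroup.closure ({QuotientGroup.mk' W (π s), QuotientGroup.mk' W (g * π s * g⁻¹)} : Set _) :=
      mul_mem (Subgroup.subset_closure (Set.mem_insert _ _))
        (inv_mem (Subgroup.subset_closure (Set.mem_insert_of_mem _ rfl)))
    have heq : QuotientGroup.mk' W (π s) * (QuotientGroup.mk' W (g * π s * g⁻¹))⁻¹ =
        ⁅QuotientGroup.mk' W (π s), QuotientGroup.mk' W g⁆ := by
      rw [map_mul, map_mul, map_inv, commutatorElement_def]; group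
    rw [heq] at hmem
    haveI := CfsgLib.Solvable.fittingSubgroup_normal ((X ⧸ Φ) ⧸ W)
    have hmemF : ⁅QuotientGroup.mk' W (π s), QuotientGroup.mk' W g⁆ ∈
        Cfsg.fittingSubgroup ((X ⧸ Φ) ⧸ W) :=
      mul_mem ((CfsgLib.Solvable.fittingSubgroup_normal _).conj_mem _ hg _) (inv_mem hg)
    obtain ⟨n, hn⟩ := hH ⟨_, hmem⟩
    obtain ⟨n', hn'⟩ := (Nat.dvd_prime_pow hp.out).1
      (orderOf_dvd_of_pow_eq_one (congrArg Subtype.val hn :))
    have hdvd : orderOf ⁅QuotientGroup.mk' W (π s), QuotientGroup.mk' W g⁆ = 1 := by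
      rw [hn'.2]
      rcases Nat.eq_zero_or_pos n' with h | h
      · simp [h]
      exfalso
      exact fitting_not_dvd hOq ((dvd_pow_self p h.ne').trans
        (hn'.2 ▸ Subgroup.orderOf_dvd_natCard _ hmemF))
    rw [orderOf_eq_one_iff, commutatorElement_eq_one_iff_mul_comm] at hdvd
    exact hdvd.symm
  have hsF' := CfsgLib.Solvable.centralizer_fittingSubgroup_le hsF
  have h1 : QuotientGroup.mk' W (π s) = 1 := by
    by_contra hne
    have hdvd : p ∣ orderOf (QuotientGroup.mk' W (π s)) := by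
      obtain ⟨n', -, hn'⟩ := (Nat.dvd_prime_pow hp.out).1 (orderOf_dvd_of_pow_eq_one
        (show (QuotientGroup.mk' W (π s)) ^ (p ^ k) = 1 by rw [← map_pow, hkq, map_one]))
      rcases Nat.eq_zero_or_pos n' with h | h
      · exact absurd (orderOf_eq_one_iff.1 (by rw [hn', h, pow_zero])) hne
      · rw [hn']; exact dvd_pow_self p h.ne'
    exact fitting_not_dvd hOq (hdvd.trans (Subgroup.orderOf_dvd_natCard _ hsF'))
  rw [← hcomapW]
  exact (QuotientGroup.eq_one_iff (π s)).1 h1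


end

/-- Let X be a finite solvable group of odd order, p a prime and S a Sylow p-subgroup of X whose commutator subgroup is
cyclic. Then the product of the largest normal subgroup of X of order prime to p with S is a normal subgroup of X. -/
theorem result {X : Type*} [Group X] [Finite X] [Group.IsSolvable X]
    (hX : Odd (Nat.card X)) (p : ℕ) [Fact p.Prime] (S : Sylow p X) (hS : IsCyclic (commutator (S : Subgroup X))) :
    (Cfsg.pPrimeCore p X ⊔ (S : Subgroup X)).Normal := by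
  haveI := CfsgLib.Solvable.pPrimeCore_normal p X
  by_cases hp2 : p = 2
  · subst hp2
    have hS1 : (S : Subgroup X) = ⊥ := by
      have hnd : ¬ 2 ∣ Nat.card X := fun h => (Nat.not_even_iff_odd.2 hX) (even_iff_two_dvd.2 h)
      rw [← Subgroup.card_eq_one, S.card_eq_multiplicity, Nat.factorization_eq_zero_of_not_dvd hnd,
        pow_zero]
    rw [hS1, sup_bot_eq]
    infer_instance
  obtain ⟨f, hf⟩ : ∃ f, f = QuotientGroup.mk' (Cfsg.pPrimeCore p X) := ⟨_, rfl⟩
  have hfs : Function.Surjective f := hf ▸ QuotientGroup.mk'_surjective _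
  have hcyc : IsCyclic (⁅(S : Subgroup X).map f, (S : Subgroup X).map f⁆ : Subgroup _) := by
    rw [← Subgroup.map_commutator, ← Subgroup.map_subtype_commutator, Subgroup.map_map]
    haveI := hS
    exact isCyclic_of_surjective _
      ((f.comp (S : Subgroup X).subtype).subgroupMap_surjective (commutator (S : Subgroup X)))
  have hle := core (odd_card_quotient hX _) hp2
    (CfsgLib.Solvable.pPrimeCore_quotient_eq_bot _ rfl) ((S : Subgroup X).map f) (S.isPGroup'.map f)
    ((CfsgLib.Solvable.pCore_le_sylow (S.mapSurjective hfs)).trans (le_of_eq rfl)) hcyc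
  have heq : (S : Subgroup X).map f = Cfsg.pCore p (X ⧸ Cfsg.pPrimeCore p X) :=
    le_antisymm hle (CfsgLib.Solvable.pCore_le_sylow (S.mapSurjective hfs))
  have hnorm : (((S : Subgroup X).map f).comap f).Normal := by
    rw [heq]
    haveI := CfsgLib.Solvable.pCore_normal p (X ⧸ Cfsg.pPrimeCore p X)
    infer_instance
  rwa [Subgroup.comap_map_eq, hf, QuotientGroup.ker_mk', sup_comm] at hnorm

end Cfsg.Agent.S0521
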