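import Cfsg.Statements.S0522
import Cfsg.Agent.Lib.Case.TransitivityGen

set_option autoImplicit false
open Cfsg

namespace Cfsg.Agent.S0522

/-- Transitivity Theorem (odd-order setting). Let X be a finite group of odd order in which the normalizer of every
nontrivial p-subgroup is solvable, P a Sylow p-subgroup, and B an abelian subgroup of P, normalized by P, with
C_P(B) = B and containing an elementary abelian subgroup of order p^3. Then for every prime q ≠ p, any two q-subgroups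
that are maximal among the q-subgroups normalized by B are conjugate by an element of the centralizer of B. -/
theorem result {X : Type*} [Group X] [Finite X] (hX : Odd (Nat.card X)) (p : ℕ)
    [Fact p.Prime] (hloc : ∀ T : Subgroup X, IsPGroup p T → T ≠ ⊥ → Group.IsSolvable (Subgroup.normalizer (T : Set X)))
    (P : Sylow p X) (B : Subgroup X) (hBP : B ≤ (P : Subgroup X))
    (hBn : ∀ x ∈ (P : Subgroup X), ∀ b ∈ B, x * b * x⁻¹ ∈ B) (hBa : IsMulCommutative B)
    (hBc : (P : Subgroup X) ⊓ Subgroup.centralizer (B : Set X) = B)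
    (hB3 : ∃ E : Subgroup X, E ≤ B ∧ (∀ e ∈ E, e ^ p = 1) ∧ p ^ 3 ≤ Nat.card E)
    (q : ℕ) [Fact q.Prime] (hqp : q ≠ p) (Q₁ Q₂ : Subgroup X)
    (h₁ : IsPGroup q Q₁ ∧ B ≤ Subgroup.normalizer (Q₁ : Set X) ∧
      ∀ R : Subgroup X, IsPGroup q R → B ≤ Subgroup.normalizer (R : Set X) → Q₁ ≤ R → R = Q₁)
    (h₂ : IsPGroup q Q₂ ∧ B ≤ Subgroup.normalizer (Q₂ : Set X) ∧
      ∀ R : Subgroup X, IsPGroup q R → B ≤ Subgroup.normalizer (R : Set X) → Q₂ ≤ R → R = Q₂) :
    ∃ c ∈ Subgroup.centralizer (B : Set X), Q₂ = Q₁.map (MulAut.conj c).toMonoidHom := by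
  obtain ⟨E0, hE0, hel, hcard⟩ := hB3
  have hBp : IsPGroup p B := P.2.to_le hBP
  have hp2 : p ≠ 2 := by
    rintro rfl
    have h1 : ∀ e ∈ E0, e = 1 := fun e he => orderOf_eq_one_iff.1 (Nat.eq_one_of_dvd_coprimes
      (Nat.coprime_two_left.2 hX) (orderOf_dvd_of_pow_eq_one (hel e he)) (orderOf_dvd_natCard e))
    rw [(Subgroup.eq_bot_iff_forall E0).2 h1, Subgroup.card_bot] at hcard
    omega
  have hfull : ∀ x ∈ Subgroup.centralizer (B : Set X), IsPGroup p (Subgroup.zpowers x) → x ∈ B := by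
    intro x hx hxp
    set N := Subgroup.normalizer (B : Set X) with hN
    have hPN : (P : Subgroup X) ≤ N := fun y hy => by
      refine Subgroup.mem_normalizer_fintype (fun b hb => ?_)
      exact hBn y hy b hb
    have hxN : x ∈ N := Subgroup.centralizer_le_normalizer _ hx
    obtain ⟨S, hS⟩ := ((hxp.comap_of_injective N.subtype N.subtype_injective)).exists_le_sylow
    obtain ⟨n, hn⟩ := MulAction.exists_smul_eq ↥N (P.subtype hPN) S
    have hxS : (⟨x, hxN⟩ : N) ∈ n • P.subtype hPN := hn ▸ hS (Subgroup.mem_zpowers x)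
    obtain ⟨y, hy, hyx⟩ := hxS
    have hxy : (n : X) * (y : X) * (n : X)⁻¹ = x := congrArg Subtype.val hyx
    have hy' : (y : X) = (n : X)⁻¹ * x * (n : X) := by rw [← hxy]; group
    have hyB : (y : X) ∈ (P : Subgroup X) ⊓ Subgroup.centralizer (B : Set X) := by
      refine ⟨hy, fun b hb => ?_⟩
      have h := hx _ ((Subgroup.mem_normalizer_iff.1 n.2 b).1 hb)
      rw [hy']
      calc b * ((n : X)⁻¹ * x * (n : X))
          = (n : X)⁻¹ * (((n : X) * b * (n : X)⁻¹) * x) * (n : X) := by group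
        _ = (n : X)⁻¹ * (x * ((n : X) * b * (n : X)⁻¹)) * (n : X) := by rw [h]
        _ = (n : X)⁻¹ * x * (n : X) * b := by group
    rw [hBc] at hyB
    exact hxy ▸ (Subgroup.mem_normalizer_iff.1 n.2 _).1 hyB
  have hmem : ∀ Q : Subgroup X, (IsPGroup q Q ∧ B ≤ Subgroup.normalizer (Q : Set X) ∧
      ∀ R : Subgroup X, IsPGroup q R → B ≤ Subgroup.normalizer (R : Set X) → Q ≤ R → R = Q) →
      Q ∈ Cfsg.maxInvSubgroups ⊤ B {q} := fun Q hQ =>
    ⟨⟨le_top, CfsgLib.OddOrder.isPiSubgroup_singleton.2 hQ.1, hQ.2.1⟩, fun R hR hle =>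
      hQ.2.2 R (CfsgLib.OddOrder.isPiSubgroup_singleton.1 hR.2.1) hR.2.2 hle⟩
  obtain ⟨k, hk, hQ⟩ := CfsgLib.Case.transitivity hqp hBp hE0 hel hcard
    (fun e he he1 K hKH hK hBK => by
      have hep : IsPGroup p (Subgroup.zpowers e) := hBp.to_le (Subgroup.zpowers_le.2 he)
      haveI := hloc _ hep (Subgroup.zpowers_ne_bot.2 he1)
      refine CfsgLib.Case.invariant_le_core_of_constrained
        (CfsgLib.Case.isPConstrained_of_solvable p) hBp hfull (fun h => absurd h hp2) ?_ hKH hK hBK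
      exact fun x hx => Subgroup.centralizer_le_normalizer _ (fun y hy => by
        obtain ⟨i, rfl⟩ := hy
        exact congr_arg Subtype.val (mul_comm' ((⟨e, he⟩ : B) ^ i) ⟨x, hx⟩)))
    Q₁ (hmem _ h₁) Q₂ (hmem _ h₂)
  exact ⟨k, CfsgLib.OddOrder.piCoreOf_le _ _ hk, hQ⟩

end Cfsg.Agent.S0522
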