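import Cfsg.Statements.S0535
import Cfsg.Agent.S0019
import Cfsg.Agent.Lib.Char.Burnside
import Cfsg.Agent.Lib.HallSystem.Basic
import Cfsg.Agent.Lib.Supersolvable.Basic

set_option autoImplicit false
open Cfsg

namespace Cfsg.Agent.S0535

/-- Suppose that for every nontrivial subgroup H of a finite group and every prime p dividing the order of H there is a proper subgroup of H whose index in H is a power of p. Then the group is solvable. -/
theorem result {G : Type*} [Group G] [Finite G] (h : ∀ H : Subgroup G, H ≠ ⊥ → ∀ p : ℕ, p.Prime → p ∣ Nat.card H → ∃ K : Subgroup H, K ≠ ⊤ ∧ ∃ k : ℕ, K.index = p ^ k) : Group.IsSolvable G := by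
  revert h
  refine CfsgLib.Supersolvable.groupInduction (P := fun G [Group G] [Finite G] =>
    (∀ H : Subgroup G, H ≠ ⊥ → ∀ p : ℕ, p.Prime → p ∣ Nat.card H →
      ∃ K : Subgroup H, K ≠ ⊤ ∧ ∃ k : ℕ, K.index = p ^ k) → Group.IsSolvable G) ?_ G
  intro G _ _ ih h
  -- proper subgroups are solvable
  have sub : ∀ L : Subgroup G, L ≠ ⊤ → Group.IsSolvable L := fun L hL => by
    refine ih L ?_ fun H hH p hp hdvd => ?_
    · refine lt_of_le_of_ne (Subgroup.card_le_card_group L) fun he => hL ?_
      exact Subgroup.eq_top_of_card_eq L he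
    · let e : H ≃* H.map L.subtype := H.equivMapOfInjective L.subtype L.subtype_injective
      obtain ⟨K, hK, k, hk⟩ := h (H.map L.subtype)
        (fun e' => hH (Subgroup.map_injective L.subtype_injective (e'.trans (Subgroup.map_bot _).symm))) p hp (Nat.card_congr e.toEquiv ▸ hdvd)
      refine ⟨K.comap e.toMonoidHom, fun e' => hK ?_, k, ?_⟩
      · rw [← Subgroup.map_comap_eq_self_of_surjective (f := e.toMonoidHom) e.surjective K, e']
        exact Subgroup.map_top_of_surjective _ e.surjective
      · rw [Subgroup.index_comap_of_surjective _ e.surjective, hk]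
  by_cases hcase : ∃ p q r : ℕ, p.Prime ∧ q.Prime ∧ r.Prime ∧ p ≠ q ∧ p ≠ r ∧ q ≠ r ∧
      p ∣ Nat.card G ∧ q ∣ Nat.card G ∧ r ∣ Nat.card G
  · obtain ⟨p, q, r, hp, hq, hr, hpq, hpr, hqr, hpd, hqd, hrd⟩ := hcase
    have htop : (⊤ : Subgroup G) ≠ ⊥ := fun e => by
      have : Nat.card (⊤ : Subgroup G) = 1 := by rw [e, Subgroup.card_bot]
      rw [Subgroup.card_top] at this
      exact hp.not_dvd_one (this ▸ hpd)
    have key : ∀ s : ℕ, s.Prime → s ∣ Nat.card G →
        ∃ K : Subgroup G, Group.IsSolvable K ∧ ∃ k, K.index = s ^ k := by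
      intro s hs hsd
      obtain ⟨K, hK, k, hk⟩ := h ⊤ htop s hs (by rwa [Subgroup.card_top])
      refine ⟨K.map (⊤ : Subgroup G).subtype, sub _ fun e => hK ?_, k, ?_⟩
      · apply Subgroup.map_injective (⊤ : Subgroup G).subtype_injective
        rw [e, ← MonoidHom.range_eq_map, Subgroup.range_subtype]
      · rw [Subgroup.index_map_subtype, hk, Subgroup.index_top, mul_one]
    obtain ⟨A, hA, a, ha⟩ := key p hp hpd
    obtain ⟨B, hB, b, hb⟩ := key q hq hqd
    obtain ⟨C, hC, c, hc⟩ := key r hr hrd
    exact S0019.result A B C hA hB hC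
      (CfsgLib.HallSystem.exists_mul_of_coprime_index
        (by rw [ha, hb]; exact Nat.coprime_pow_primes _ _ hp hq hpq))
      (CfsgLib.HallSystem.exists_mul_of_coprime_index
        (by rw [ha, hc]; exact Nat.coprime_pow_primes _ _ hp hr hpr))
      (by rw [hb, hc]; exact Nat.coprime_pow_primes _ _ hq hr hqr)
  · push Not at hcase
    by_cases h1 : ∃ p, p.Prime ∧ p ∣ Nat.card G
    · obtain ⟨p, hp, hpd⟩ := h1
      by_cases h2 : ∃ q, q.Prime ∧ q ≠ p ∧ q ∣ Nat.card G
      · obtain ⟨q, hq, hqp, hqd⟩ := h2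
        refine CfsgLib.Char.isSolvable_of_two_primes p q hp hq _ G rfl fun r hr hrd => ?_
        by_contra hne
        push Not at hne
        exact hcase p q r hp hq hr (Ne.symm hqp) (Ne.symm hne.1) (Ne.symm hne.2) hpd hqd hrd
      · refine CfsgLib.Char.isSolvable_of_two_primes p p hp hp _ G rfl fun r hr hrd => ?_
        by_contra hne
        push Not at hne h2
        exact h2 r hr hne.1 hrd
    · have h1' : Nat.card G = 1 := by
        by_contra hne
        exact h1 (Nat.exists_prime_and_dvd hne)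
      have : Subsingleton G := (Nat.card_eq_one_iff_unique.mp h1').1
      infer_instance

end Cfsg.Agent.S0535
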