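import Cfsg.Statements.S0547
import Cfsg.Agent.Lib.CoreFree.Basic

set_option autoImplicit false
open Cfsg

namespace Cfsg.Agent.S0547

/-- Let a finite solvable group G act faithfully and primitively on a set, and let M be a minimal normal subgroup of G. Then M is transitive with trivial point stabilizers, and the number of points equals the order of M, which is a prime power p ^ d with d ≥ 1. -/
theorem result {G : Type*} [Group G] [Finite G] [Group.IsSolvable G] {Ω : Type*} [Nonempty Ω] [MulAction G Ω] [FaithfulSMul G Ω] (hprim : MulAction.IsPreprimitive G Ω) (M : Subgroup G) [M.Normal] (hM : M ≠ ⊥) (hmin : ∀ K : Subgroup G, K.Normal → K ≤ M → K = ⊥ ∨ K = M) : MulAction.IsPretransitive M Ω ∧ (∀ ω : Ω, MulAction.stabilizer M ω = ⊥) ∧ ∃ p d : ℕ, p.Prime ∧ 0 < d ∧ Nat.card Ω = p ^ d ∧ Nat.card M = p ^ d := by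
  have ht := CfsgLib.Perm.isPretransitive_of_normal (α := Ω) M hM
  obtain ⟨hab, p, hp, hexp⟩ := CfsgLib.Solvable.minimal_normal_elementary_abelian M hM hmin
  have hs : ∀ ω : Ω, MulAction.stabilizer M ω = ⊥ := fun ω =>
    CfsgLib.Perm.stabilizer_eq_bot_of_commutative M hab ω
  refine ⟨ht, hs, ?_⟩
  have := Fact.mk hp
  have hMp : IsPGroup p M := fun x => ⟨1, Subtype.ext (by simpa using hexp x x.2)⟩
  obtain ⟨d, hd⟩ := IsPGroup.iff_card.mp hMp
  obtain ⟨ω⟩ := ‹Nonempty Ω›
  refine ⟨p, d, hp, Nat.pos_of_ne_zero fun h => hM ?_, ?_, hd⟩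
  · exact Subgroup.eq_bot_of_card_eq M (by rw [hd, h, pow_zero])
  · rw [← CfsgLib.Perm.card_eq_of_regular M ω ht (hs ω), hd]

end Cfsg.Agent.S0547
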