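import Cfsg.Statements.S0563
import Cfsg.Agent.Lib.Factor.Wielandt

set_option autoImplicit false
open Pointwise
open Cfsg

namespace Cfsg.Agent.S0563

/-- If a finite group G is the product AB of two nilpotent subgroups of coprime orders, then G is solvable, and for every Sylow p-subgroup P of A and Sylow q-subgroup Q of B the product set PQ is a subgroup. -/
theorem result {G : Type*} [Group G] [Finite G] (A B : Subgroup G) (hA : Group.IsNilpotent A) (hB : Group.IsNilpotent B) (hcop : (Nat.card A).Coprime (Nat.card B)) (hAB : ∀ g : G, ∃ a ∈ A, ∃ b ∈ B, g = a * b) : Group.IsSolvable G ∧ ∀ (p q : ℕ) [Fact p.Prime] [Fact q.Prime] (P : Sylow p A) (Q : Sylow q B), ∃ S : Subgroup G, (S : Set G) = (((P : Subgroup A).map A.subtype : Subgroup G) : Set G) * (((Q : Subgroup B).map B.subtype : Subgroup G) : Set G) := by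
  have hsol := CfsgLib.Factor.Wielandt.isSolvable_of_coprime hA hB hcop hAB
  refine ⟨hsol, fun p q _ _ P Q => ?_⟩
  have hcard : Nat.card G = Nat.card A * Nat.card B := by
    rw [CfsgLib.Factor.factor_card hAB,
      disjoint_iff.mp (Subgroup.disjoint_of_coprime_natCard hcop), Subgroup.card_bot, mul_one]
  have key : ∀ (X : Subgroup G) (Y : ℕ), Group.IsNilpotent X → (Nat.card X).Coprime Y →
      Nat.card G = Nat.card X * Y → ∀ (r : ℕ) [Fact r.Prime] (R : Sylow r X),
      X ≤ Subgroup.normalizer (((R : Subgroup X).map X.subtype : Subgroup G) : Set G) ∧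
      (Nat.card ((R : Subgroup X).map X.subtype : Subgroup G)).Coprime
        ((R : Subgroup X).map X.subtype : Subgroup G).index := by
    intro X Y hX hXY hc r _ R
    have := hX
    refine ⟨CfsgLib.Factor.Wielandt.le_normalizer_map_subtype _, ?_⟩
    have hi : X.index = Y := by
      have h1 := X.card_mul_index
      rw [hc] at h1
      exact Nat.eq_of_mul_eq_mul_left Nat.card_pos h1
    rw [Subgroup.index_map_subtype, hi, Subgroup.card_map_of_injective X.subtype_injective]
    exact Nat.Coprime.mul_right R.card_coprime_index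
      (hXY.coprime_dvd_left (Subgroup.card_subgroup_dvd_card _))
  obtain ⟨h1, h2⟩ := key A _ hA hcop hcard p P
  obtain ⟨h3, h4⟩ := key B _ hB hcop.symm (hcard.trans (mul_comm _ _)) q Q
  exact CfsgLib.Factor.exists_subgroup_mul hAB h1 h3 h2 h4

end Cfsg.Agent.S0563
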