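import Cfsg.Statements.S0567
import Mathlib.GroupTheory.Transfer
import Mathlib.GroupTheory.IsSubnormal
import Mathlib.GroupTheory.Abelianization.Defs
import Mathlib.Tactic
import Cfsg.Agent.Lib.Solvable.CoprimeAction
-- import your own Cfsg.Agent.* helpers here

set_option autoImplicit false
open Cfsg

open scoped commutatorElement

namespace Cfsg.Agent.S0567

/-- A subgroup H of a group G is subnormal exactly when, for some m, the subgroup obtained from G by taking the commutator with H m times in succession is contained in H. -/
theorem result {G : Type*} [Group G] (H : Subgroup G) : H.IsSubnormal ↔ ∃ m : ℕ, (fun K : Subgroup G => ⁅K, H⁆)^[m] ⊤ ≤ H := by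
  constructor
  · intro hs
    induction hs with
    | top => exact ⟨0, le_rfl⟩
    | step A K hle _ hn ih =>
      obtain ⟨m, hm⟩ := ih
      refine ⟨m + 1, ?_⟩
      rw [Function.iterate_succ_apply']
      have hmono : ∀ n : ℕ, (fun J : Subgroup G => ⁅J, A⁆)^[n] ⊤ ≤
          (fun J : Subgroup G => ⁅J, K⁆)^[n] ⊤ := by
        intro n
        induction n with
        | zero => exact le_rfl
        | succ n ihn =>
          rw [Function.iterate_succ_apply', Function.iterate_succ_apply']
          exact Subgroup.commutator_mono ihn hle
      refine le_trans (Subgroup.commutator_mono ((hmono m).trans hm) le_rfl) ?_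
      rw [Subgroup.commutator_le]
      intro k hk a ha
      have h1 := hn.conj_mem ⟨a, hle ha⟩ (Subgroup.mem_subgroupOf.2 ha) ⟨k, hk⟩
      rw [Subgroup.mem_subgroupOf] at h1
      rw [commutatorElement_def]
      exact mul_mem (by simpa using h1) (inv_mem ha)
  · rintro ⟨m, hm⟩
    set J : ℕ → Subgroup G := fun n => (fun K : Subgroup G => ⁅K, H⁆)^[n] ⊤ with hJ
    have hsucc : ∀ n, J (n + 1) = ⁅J n, H⁆ := fun n => Function.iterate_succ_apply' _ _ _
    have hHn : ∀ n, H ≤ Subgroup.normalizer (J n : Set G) := by
      intro n
      cases n with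
      | zero =>
        intro x _
        exact Subgroup.mem_normalizer_iff.2 fun u => by simp [hJ]
      | succ n =>
        rw [hsucc]
        exact CfsgLib.Solvable.le_normalizer_commutator_right _ _
    suffices ∀ n, (J n ⊔ H).IsSubnormal by
      have := this m
      rwa [sup_eq_right.2 hm] at this
    intro n
    induction n with
    | zero => simp [hJ, Subgroup.IsSubnormal.top]
    | succ n ih =>
      have hle : J (n + 1) ≤ J n := by
        rw [hsucc]
        exact CfsgLib.Solvable.commutator_le_of_normalizes (hHn n)
      refine Subgroup.IsSubnormal.step _ _ (sup_le_sup_right hle H) ih ?_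
      rw [Subgroup.normal_subgroupOf_iff_le_normalizer (sup_le_sup_right hle H)]
      have hJn : J n ≤ Subgroup.normalizer (J (n + 1) : Set G) := by
        rw [hsucc]
        exact CfsgLib.Solvable.le_normalizer_commutator_left _ _
      refine sup_le ?_ (le_trans le_sup_right Subgroup.le_normalizer)
      refine Subgroup.le_normalizer_iff.2 fun k hk x hx => ?_
      obtain ⟨u, hu, h, hh, rfl⟩ :=
        (CfsgLib.Solvable.mem_sup_of_le_normalizer (hHn (n + 1))).1 hx
      have e : k * (u * h) * k⁻¹ = (k * u * k⁻¹) * (⁅k, h⁆ * h) := by
        rw [commutatorElement_def]; group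
      rw [e]
      refine mul_mem (Subgroup.mem_sup_left (Subgroup.le_normalizer_iff.1 hJn k hk u hu))
        (mul_mem (Subgroup.mem_sup_left ?_) (Subgroup.mem_sup_right hh))
      rw [hsucc]
      exact Subgroup.commutator_mem_commutator hk hh

end Cfsg.Agent.S0567
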