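import Cfsg.Statements.S0569
import Cfsg.Agent.Lib.HallSystem.Carter
import Cfsg.Agent.Lib.Solvable.Hall
-- import your own Cfsg.Agent.* helpers here

set_option autoImplicit false
open Cfsg

open scoped Pointwise

namespace Cfsg.Agent.S0569

/-- A conjugate of a complement system and of its normalizer. -/
theorem conj_system {G : Type*} [Group G] [Finite G] {K : Nat.Primes → Subgroup G}
    (hK : Cfsg.IsComplementSystem K) (g : G) :
    Cfsg.IsComplementSystem (fun r => MulAut.conj g • K r) ∧
      Cfsg.systemNormalizer (fun r => MulAut.conj g • K r) ≤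
        MulAut.conj g • Cfsg.systemNormalizer K := by
  refine ⟨fun r => ?_, fun d hd => ?_⟩
  · show (MulAut.conj g • K r).index = _
    rw [← hK r, CfsgLib.Solvable.conj_smul_eq_map,
      Subgroup.index_map_of_bijective (MulAut.conj g).bijective]
  · rw [CfsgLib.Solvable.mem_conj_smul]
    simp only [Cfsg.systemNormalizer, Subgroup.mem_iInf, Subgroup.mem_normalizer_iff] at hd ⊢
    intro r z
    have := hd r (g * z * g⁻¹)
    rw [CfsgLib.Solvable.mem_conj_smul, CfsgLib.Solvable.mem_conj_smul] at this
    simpa [mul_assoc] using this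

/-- In a finite solvable group: each nilpotent self-normalizing subgroup contains the system normalizer of some Hall complement system, and the system normalizer of any Hall complement system lies in some nilpotent self-normalizing subgroup. -/
theorem result {G : Type*} [Group G] [Finite G] [Group.IsSolvable G] : (∀ C : Subgroup G, Cfsg.IsCarterSubgroup C → ∃ K : Nat.Primes → Subgroup G, Cfsg.IsComplementSystem K ∧ Cfsg.systemNormalizer K ≤ C) ∧ ∀ K : Nat.Primes → Subgroup G, Cfsg.IsComplementSystem K → ∃ C : Subgroup G, Cfsg.IsCarterSubgroup C ∧ Cfsg.systemNormalizer K ≤ C := by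
  have h2 : ∀ K : Nat.Primes → Subgroup G, Cfsg.IsComplementSystem K →
      ∃ C : Subgroup G, Cfsg.IsCarterSubgroup C ∧ Cfsg.systemNormalizer K ≤ C := fun K hK =>
    let ⟨C, hC, hD, _⟩ := CfsgLib.HallSystem.exists_carter_aux (Nat.card G) G le_rfl K hK
    ⟨C, hC, hD⟩
  refine ⟨fun C hC => ?_, h2⟩
  obtain ⟨K, hK⟩ := CfsgLib.HallSystem.exists_system (G := G)
  obtain ⟨C₀, hC₀, hD⟩ := h2 K hK
  obtain ⟨g, hg⟩ := (CfsgLib.Solvable.carterProperty G).2 C₀ C hC₀ hC
  refine ⟨_, (conj_system hK g).1, (conj_system hK g).2.trans ?_⟩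
  rw [← hg]
  exact Subgroup.pointwise_smul_le_pointwise_smul_iff.2 hD

end Cfsg.Agent.S0569
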