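import Cfsg.Statements.S0572
import Mathlib.GroupTheory.Transfer
import Mathlib.GroupTheory.IsSubnormal
import Mathlib.GroupTheory.Abelianization.Defs
import Mathlib.Tactic
-- import your own Cfsg.Agent.* helpers here

set_option autoImplicit false
open Cfsg

open scoped commutatorElement

namespace Cfsg.Agent.S0572

/-- Itô's Theorem: if a group G is the product AB of two abelian subgroups, then the commutator subgroup of G is abelian, i.e. the second term of the derived series is trivial. -/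
theorem result {G : Type*} [Group G] (A B : Subgroup G) [IsMulCommutative A] [IsMulCommutative B] (hAB : ∀ g : G, ∃ a ∈ A, ∃ b ∈ B, g = a * b) : derivedSeries G 2 = ⊥ := by
  have hA' : ∀ u ∈ A, ∀ v ∈ A, u * v = v * u := fun u hu v hv => setLike_mul_comm hu hv
  have hB' : ∀ u ∈ B, ∀ v ∈ B, u * v = v * u := fun u hu v hv => setLike_mul_comm hu hv
  -- conjugates of `⁅a, b⁆` by elements of `B` and of `A`
  have f1 : ∀ a, ∀ b ∈ B, ∀ b₁ ∈ B, ∀ a₂ b₂, b₂ ∈ B → b₁ * a = a₂ * b₂ →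
      b₁ * ⁅a, b⁆ * b₁⁻¹ = ⁅a₂, b⁆ := by
    intro a b hb b₁ hb₁ a₂ b₂ hb₂ e
    simp only [commutatorElement_def]
    calc b₁ * (a * b * a⁻¹ * b⁻¹) * b₁⁻¹ = (b₁ * a) * b * (b₁ * a)⁻¹ * (b₁ * b⁻¹ * b₁⁻¹) := by group
      _ = a₂ * (b₂ * b * b₂⁻¹) * a₂⁻¹ * b⁻¹ := by rw [e, hB' b₁ hb₁ b⁻¹ (inv_mem hb)]; group
      _ = _ := by rw [hB' b₂ hb₂ b hb]; group
  have f2 : ∀ a ∈ A, ∀ b, ∀ a₁ ∈ A, ∀ a₃ b₃, a₃ ∈ A → a₁ * b = b₃ * a₃ →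
      a₁ * ⁅a, b⁆ * a₁⁻¹ = ⁅a, b₃⁆ := by
    intro a ha b a₁ ha₁ a₃ b₃ ha₃ e
    simp only [commutatorElement_def]
    calc a₁ * (a * b * a⁻¹ * b⁻¹) * a₁⁻¹ = (a₁ * a) * b * a⁻¹ * (a₁ * b)⁻¹ := by group
      _ = a * (a₁ * b) * a⁻¹ * (a₁ * b)⁻¹ := by rw [hA' a₁ ha₁ a ha]; group
      _ = a * b₃ * (a₃ * a⁻¹) * a₃⁻¹ * b₃⁻¹ := by rw [e]; group
      _ = _ := by rw [hA' a₃ ha₃ a⁻¹ (inv_mem ha)]; group
  have hBA : ∀ g : G, ∃ b ∈ B, ∃ a ∈ A, g = b * a := by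
    intro g
    obtain ⟨a, ha, b, hb, e⟩ := hAB g⁻¹
    exact ⟨b⁻¹, inv_mem hb, a⁻¹, inv_mem ha, by rw [← mul_inv_rev, ← e, inv_inv]⟩
  have c1 : ∀ a ∈ A, ∀ b ∈ B, ∀ a₁ ∈ A, ∀ b₁ ∈ B,
      a₁ * (b₁ * ⁅a, b⁆ * b₁⁻¹) * a₁⁻¹ = b₁ * (a₁ * ⁅a, b⁆ * a₁⁻¹) * b₁⁻¹ := by
    intro a ha b hb a₁ ha₁ b₁ hb₁
    obtain ⟨a₂, ha₂, b₂, hb₂, e⟩ := hAB (b₁ * a)
    obtain ⟨b₃, hb₃, a₃, ha₃, e'⟩ := hBA (a₁ * b)
    rw [f1 a b hb b₁ hb₁ a₂ b₂ hb₂ e, f2 a ha b a₁ ha₁ a₃ b₃ ha₃ e',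
      f2 a₂ ha₂ b a₁ ha₁ a₃ b₃ ha₃ e', f1 a b₃ hb₃ b₁ hb₁ a₂ b₂ hb₂ e]
  set K : Set G := {x | ∃ a ∈ A, ∃ b ∈ B, x = ⁅a, b⁆}
  have hcomm : ∀ x ∈ K, ∀ y ∈ K, x * y = y * x := by
    rintro _ ⟨a, ha, b, hb, rfl⟩ _ ⟨a₁, ha₁, b₁, hb₁, rfl⟩
    have h := c1 a ha b hb a₁⁻¹ (inv_mem ha₁) b₁⁻¹ (inv_mem hb₁)
    rw [inv_inv, inv_inv] at h
    have h' : ⁅a₁, b₁⁆ * ⁅a, b⁆ * ⁅a₁, b₁⁆⁻¹ = ⁅a, b⁆ := by
      calc ⁅a₁, b₁⁆ * ⁅a, b⁆ * ⁅a₁, b₁⁆⁻¹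
          = a₁ * b₁ * (a₁⁻¹ * (b₁⁻¹ * ⁅a, b⁆ * b₁) * a₁) * b₁⁻¹ * a₁⁻¹ := by
            rw [commutatorElement_def a₁ b₁]; group
        _ = _ := by rw [h]; group
    exact (mul_inv_eq_iff_eq_mul.1 h').symm
  set H : Subgroup G := Subgroup.closure K
  have hnormal : H.Normal := by
    refine ⟨fun x hx g => ?_⟩
    obtain ⟨a₁, ha₁, b₁, hb₁, rfl⟩ := hAB g
    have hb : ∀ y ∈ H, b₁ * y * b₁⁻¹ ∈ H := by
      intro y hy
      refine (Subgroup.closure_le (K := H.comap (MulAut.conj b₁).toMonoidHom)).2 ?_ hy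
      rintro _ ⟨a, ha, b, hb, rfl⟩
      obtain ⟨a₂, ha₂, b₂, hb₂, e⟩ := hAB (b₁ * a)
      show b₁ * ⁅a, b⁆ * b₁⁻¹ ∈ H
      rw [f1 a b hb b₁ hb₁ a₂ b₂ hb₂ e]
      exact Subgroup.subset_closure ⟨a₂, ha₂, b, hb, rfl⟩
    have ha : ∀ y ∈ H, a₁ * y * a₁⁻¹ ∈ H := by
      intro y hy
      refine (Subgroup.closure_le (K := H.comap (MulAut.conj a₁).toMonoidHom)).2 ?_ hy
      rintro _ ⟨a, ha, b, hb, rfl⟩
      obtain ⟨b₃, hb₃, a₃, ha₃, e'⟩ := hBA (a₁ * b)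
      show a₁ * ⁅a, b⁆ * a₁⁻¹ ∈ H
      rw [f2 a ha b a₁ ha₁ a₃ b₃ ha₃ e']
      exact Subgroup.subset_closure ⟨a, ha, b₃, hb₃, rfl⟩
    have := ha _ (hb x hx)
    simpa [mul_assoc] using this
  have hle : derivedSeries G 1 ≤ H := by
    rw [derivedSeries_one, commutator_def, Subgroup.commutator_le]
    intro g _ g' _
    obtain ⟨a, ha, b, hb, rfl⟩ := hAB g
    obtain ⟨a', ha', b', hb', rfl⟩ := hAB g'
    rw [← QuotientGroup.eq_one_iff, ← QuotientGroup.mk'_apply, map_commutatorElement,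
      commutatorElement_eq_one_iff_commute, map_mul, map_mul]
    set π := QuotientGroup.mk' H
    have hab : ∀ u ∈ A, ∀ v ∈ B, Commute (π u) (π v) := by
      intro u hu v hv
      rw [← commutatorElement_eq_one_iff_commute, ← map_commutatorElement]
      exact (QuotientGroup.eq_one_iff _).2 (Subgroup.subset_closure ⟨u, hu, v, hv, rfl⟩)
    have haa : Commute (π a) (π a') := Commute.map (hA' a ha a' ha') π
    have hbb : Commute (π b) (π b') := Commute.map (hB' b hb b' hb') π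
    exact (haa.mul_right (hab a ha b' hb')).mul_left ((hab a' ha' b hb).symm.mul_right hbb)
  rw [show (2 : ℕ) = 1 + 1 from rfl, derivedSeries_succ, eq_bot_iff]
  refine le_trans (Subgroup.commutator_mono hle hle) (le_of_eq ?_)
  rw [Subgroup.commutator_eq_bot_iff_le_centralizer, Subgroup.closure_le]
  intro x hx
  show x ∈ Subgroup.centralizer (H : Set G)
  rw [Subgroup.centralizer_closure]
  exact fun y hy => hcomm y hy x hx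

end Cfsg.Agent.S0572
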