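import Cfsg.Statements.S0573
import Cfsg.Agent.S0572
import Mathlib.Tactic
import Mathlib.GroupTheory.Solvable
-- import your own Cfsg.Agent.* helpers here

set_option autoImplicit false
open Cfsg

open scoped commutatorElement

namespace Cfsg.Agent.S0573

universe u

/-- Abelian complements of an abelian subgroup on which they have no fixed point are conjugate. -/
theorem complements_conj {G : Type u} [Group G] [Finite G] : ∀ (n : ℕ) (K A B : Subgroup G),
    Nat.card K ≤ n →
    (∀ x ∈ K, ∀ y ∈ K, x * y = y * x) → (∀ x ∈ A, ∀ y ∈ A, x * y = y * x) →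
    (∀ x ∈ B, ∀ y ∈ B, x * y = y * x) →
    (∀ a ∈ A, ∀ k ∈ K, a * k * a⁻¹ ∈ K) →
    (∀ b ∈ B, ∃ k ∈ K, ∃ a ∈ A, b = k * a) → (∀ a ∈ A, ∃ k ∈ K, ∃ b ∈ B, a = k * b) →
    (∀ x ∈ A, x ∈ K → x = 1) → (∀ x ∈ B, x ∈ K → x = 1) →
    (∀ k ∈ K, (∀ a ∈ A, a * k = k * a) → k = 1) →
    ∃ k ∈ K, ∀ g, g ∈ B ↔ k⁻¹ * g * k ∈ A := by
  intro n
  induction n with
  | zero => intro K A B hn; exact absurd hn (by have := Nat.card_pos (α := K); omega)
  | succ n ih =>
    intro K A B hn hK hA hB hAK hBA hAB hiA hiB hfix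
    classical
    by_cases hK1 : K = ⊥
    · refine ⟨1, one_mem _, fun g => ?_⟩
      simp only [inv_one, one_mul, mul_one]
      constructor
      · intro hg
        obtain ⟨k, hk, a, ha, rfl⟩ := hBA g hg
        rw [hK1, Subgroup.mem_bot] at hk
        simpa [hk] using ha
      · intro hg
        obtain ⟨k, hk, b, hb, rfl⟩ := hAB g hg
        rw [hK1, Subgroup.mem_bot] at hk
        simpa [hk] using hb
    -- a maximal proper `A`-invariant subgroup `M` of `K`
    obtain ⟨M, ⟨hMK, hMA⟩, hMmax⟩ : ∃ M, Maximal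
        (fun M : Subgroup G => M < K ∧ ∀ a ∈ A, ∀ m ∈ M, a * m * a⁻¹ ∈ M) M := by
      obtain ⟨M, -, hM⟩ := (Set.toFinite {M : Subgroup G | M < K ∧ ∀ a ∈ A, ∀ m ∈ M,
        a * m * a⁻¹ ∈ M}).exists_le_maximal (a := ⊥)
        ⟨bot_lt_iff_ne_bot.2 hK1, fun a _ m hm => by
          rw [Subgroup.mem_bot] at hm ⊢; simp [hm]⟩
      exact ⟨M, hM⟩
    have hMle : M ≤ K := hMK.le
    have hMn : Nat.card M ≤ n := by
      have h1 : Nat.card M < Nat.card K := by
        refine lt_of_le_of_ne (Nat.le_of_dvd Nat.card_pos (Subgroup.card_dvd_of_le hMle)) ?_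
        exact fun e => hMK.ne (Subgroup.eq_of_le_of_card_ge hMle e.ge)
      omega
    have hMcomm : ∀ x ∈ M, ∀ y ∈ M, x * y = y * x := fun x hx y hy => hK x (hMle hx) y (hMle hy)
    have hmax : ∀ S : Subgroup G, M ≤ S → S ≤ K → (∀ a ∈ A, ∀ s ∈ S, a * s * a⁻¹ ∈ S) →
        S = M ∨ S = K := by
      intro S h1 h2 h3
      by_cases hSK : S = K
      · exact Or.inr hSK
      · exact Or.inl (le_antisymm (hMmax ⟨lt_of_le_of_ne h2 hSK, h3⟩ h1) h1)
    -- `A` fixes no nontrivial element of `K / M`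
    have hfixM : ∀ k ∈ K, (∀ a ∈ A, a * k * a⁻¹ * k⁻¹ ∈ M) → k ∈ M := by
      intro k hk hkM
      let A' : Subgroup G := A.map (MulAut.conj k).toMonoidHom
      have e1 : ∀ a ∈ A, k * a * k⁻¹ = (a * k * a⁻¹ * k⁻¹)⁻¹ * a := fun a _ => by group
      obtain ⟨m, hm, hmA⟩ := ih M A A' hMn hMcomm hA
        (by
          rintro _ ⟨x, hx, rfl⟩ _ ⟨y, hy, rfl⟩
          rw [← map_mul, ← map_mul, hA x hx y hy])
        hMA
        (by
          rintro _ ⟨a, ha, rfl⟩
          exact ⟨_, inv_mem (hkM a ha), a, ha, e1 a ha⟩)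
        (fun a ha => ⟨_, hkM a ha, k * a * k⁻¹, ⟨a, ha, rfl⟩, by group⟩)
        (fun x hx hxM => hiA x hx (hMle hxM))
        (by
          rintro _ ⟨a, ha, rfl⟩ hxM
          have hxK := hMle hxM
          have h1 : k * a * k⁻¹ ∈ K := hxK
          have h2 : a ∈ K := by
            have := K.mul_mem (K.mul_mem (K.inv_mem hk) h1) hk
            simpa [mul_assoc] using this
          simp [hiA a ha h2])
        (fun x hx h => hfix x (hMle hx) h)
      have hkm : m⁻¹ * k = 1 := by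
        refine hfix _ (K.mul_mem (K.inv_mem (hMle hm)) hk) fun a ha => ?_
        have h1 : m⁻¹ * (k * a * k⁻¹) * m ∈ A := (hmA _).1 ⟨a, ha, rfl⟩
        set u := m⁻¹ * k with hu
        have hu1 : u * a * u⁻¹ ∈ A := by
          rw [hu]; simpa [mul_assoc] using h1
        have huK : u ∈ K := K.mul_mem (K.inv_mem (hMle hm)) hk
        have h3 : a⁻¹ * (u * a * u⁻¹) ∈ K := by
          have := K.mul_mem (hAK _ (inv_mem ha) _ huK) (K.inv_mem huK)
          simpa [mul_assoc] using this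
        have h4 := hiA _ (A.mul_mem (A.inv_mem ha) hu1) h3
        rw [inv_mul_eq_one, eq_mul_inv_iff_mul_eq] at h4
        exact h4
      rw [inv_mul_eq_one] at hkm
      exact hkm ▸ hm
    -- an element of `A` without fixed points on `K / M`
    obtain ⟨a, ha, k₀, hk₀, hk₀M⟩ : ∃ a ∈ A, ∃ k ∈ K, a * k * a⁻¹ * k⁻¹ ∉ M := by
      obtain ⟨k, hk, hkM⟩ := Set.not_subset.1 (fun h : K ≤ M => hMK.not_ge h)
      by_contra hcon
      push Not at hcon
      exact hkM (hfixM k hk fun a ha => hcon a ha k hk)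
    have hconjhom : ∀ c x y : G, c * (x * y) * c⁻¹ = (c * x * c⁻¹) * (c * y * c⁻¹) :=
      fun c x y => by group
    have hS : ∀ k ∈ K, a * k * a⁻¹ * k⁻¹ ∈ M → k ∈ M := by
      let S : Subgroup G :=
        { carrier := {k | k ∈ K ∧ a * k * a⁻¹ * k⁻¹ ∈ M}
          one_mem' := ⟨one_mem _, by simp⟩
          mul_mem' := by
            rintro x y ⟨hx, hx'⟩ ⟨hy, hy'⟩
            refine ⟨mul_mem hx hy, ?_⟩
            have e : a * (x * y) * a⁻¹ * (x * y)⁻¹ =
                (a * x * a⁻¹ * x⁻¹) * (x * (a * y * a⁻¹ * y⁻¹) * x⁻¹) := by group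
            rw [e, hK x hx _ (hMle hy'), mul_inv_cancel_right]
            exact mul_mem hx' hy'
          inv_mem' := by
            rintro x ⟨hx, hx'⟩
            refine ⟨inv_mem hx, ?_⟩
            have e : a * x⁻¹ * a⁻¹ * x⁻¹⁻¹ = x⁻¹ * (a * x * a⁻¹ * x⁻¹)⁻¹ * x := by group
            rw [e, hK x⁻¹ (inv_mem hx) _ (inv_mem (hMle hx')), inv_mul_cancel_right]
            exact inv_mem hx' }
      have h := hmax S (fun m hm => ⟨hMle hm, mul_mem (hMA a ha m hm) (inv_mem hm)⟩)
        (fun k hk => hk.1) (by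
          rintro c hc s ⟨hs, hs'⟩
          refine ⟨hAK c hc s hs, ?_⟩
          have e : c * a = a * c := hA c hc a ha
          have := hMA c hc _ hs'
          have e2 : a * (c * s * c⁻¹) * a⁻¹ * (c * s * c⁻¹)⁻¹ = c * (a * s * a⁻¹ * s⁻¹) * c⁻¹ := by
            calc a * (c * s * c⁻¹) * a⁻¹ * (c * s * c⁻¹)⁻¹
                = (a * c) * s * (a * c)⁻¹ * c * s⁻¹ * c⁻¹ := by group
              _ = _ := by rw [← e]; group
          rwa [e2])
      rcases h with h | h
      · intro k hk hk'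
        rw [← h]; exact ⟨hk, hk'⟩
      · exact absurd ((h.symm ▸ hk₀ : k₀ ∈ S)).2 hk₀M
    -- commutation with `a` is onto modulo `M`
    have hT : ∀ x ∈ K, ∃ k ∈ K, ∃ m ∈ M, x = a * k * a⁻¹ * k⁻¹ * m := by
      let T : Subgroup G :=
        { carrier := {x | ∃ k ∈ K, ∃ m ∈ M, x = a * k * a⁻¹ * k⁻¹ * m}
          one_mem' := ⟨1, one_mem _, 1, one_mem _, by simp⟩
          mul_mem' := by
            rintro _ _ ⟨k, hk, m, hm, rfl⟩ ⟨k', hk', m', hm', rfl⟩
            refine ⟨k * k', mul_mem hk hk', m * m', mul_mem hm hm', ?_⟩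
            have hv : a * k' * a⁻¹ * k'⁻¹ ∈ K := mul_mem (hAK a ha k' hk') (inv_mem hk')
            have e : a * (k * k') * a⁻¹ * (k * k')⁻¹ =
                (a * k * a⁻¹ * k⁻¹) * (k * (a * k' * a⁻¹ * k'⁻¹) * k⁻¹) := by group
            rw [e, hK k hk _ hv, mul_inv_cancel_right]
            generalize a * k' * a⁻¹ * k'⁻¹ = v at hv ⊢
            calc a * k * a⁻¹ * k⁻¹ * m * (v * m') = a * k * a⁻¹ * k⁻¹ * (m * v) * m' := by group
              _ = _ := by rw [hK m (hMle hm) v hv]; group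
          inv_mem' := by
            rintro _ ⟨k, hk, m, hm, rfl⟩
            refine ⟨k⁻¹, inv_mem hk, m⁻¹, inv_mem hm, ?_⟩
            have hv : a * k * a⁻¹ * k⁻¹ ∈ K := mul_mem (hAK a ha k hk) (inv_mem hk)
            have e : a * k⁻¹ * a⁻¹ * k⁻¹⁻¹ = k⁻¹ * (a * k * a⁻¹ * k⁻¹)⁻¹ * k := by group
            rw [e, hK k⁻¹ (inv_mem hk) _ (inv_mem hv), inv_mul_cancel_right, mul_inv_rev,
              hK _ (inv_mem (hMle hm)) _ (inv_mem hv)] }
      have h := hmax T (fun m hm => ⟨1, one_mem _, m, hm, by simp⟩)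
        (by
          rintro _ ⟨k, hk, m, hm, rfl⟩
          exact mul_mem (mul_mem (hAK a ha k hk) (inv_mem hk)) (hMle hm))
        (by
          rintro c hc _ ⟨k, hk, m, hm, rfl⟩
          refine ⟨c * k * c⁻¹, hAK c hc k hk, c * m * c⁻¹, hMA c hc m hm, ?_⟩
          have e : c * a = a * c := hA c hc a ha
          calc c * (a * k * a⁻¹ * k⁻¹ * m) * c⁻¹
              = (c * a) * k * (c * a)⁻¹ * (c * k⁻¹ * m * c⁻¹) := by group
            _ = _ := by rw [e]; group)
      rcases h with h | h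
      · exact absurd (h ▸ (⟨k₀, hk₀, 1, one_mem _, (mul_one _).symm⟩ : _ ∈ T)) hk₀M
      · intro x hx
        exact (h.symm ▸ hx : x ∈ T)
    obtain ⟨w, hw, b₀, hb₀, hab⟩ := hAB a ha
    obtain ⟨k, hk, m₀, hm₀, hwk⟩ := hT w hw
    -- `a₁ = k a k⁻¹` agrees with `b₀` modulo `M`
    have ha₁ : ∃ m₁ ∈ M, k * a * k⁻¹ = m₁ * b₀ := by
      refine ⟨m₀, hm₀, ?_⟩
      have hv : a * k * a⁻¹ * k⁻¹ ∈ K := mul_mem (hAK a ha k hk) (inv_mem hk)
      have e : k * a * k⁻¹ = (a * k * a⁻¹ * k⁻¹)⁻¹ * a := by group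
      rw [e]
      calc (a * k * a⁻¹ * k⁻¹)⁻¹ * a = (a * k * a⁻¹ * k⁻¹)⁻¹ * (w * b₀) := by rw [← hab]
        _ = _ := by rw [hwk]; group
    obtain ⟨m₁, hm₁, ha₁e⟩ := ha₁
    let A' : Subgroup G := A.map (MulAut.conj k).toMonoidHom
    have hact : ∀ x ∈ K, ∀ c ∈ A, k * c * k⁻¹ * x * (k * c * k⁻¹)⁻¹ = c * x * c⁻¹ := by
      intro x hx c hc
      have h1 : k⁻¹ * x * k = x := by rw [hK k⁻¹ (inv_mem hk) x hx, inv_mul_cancel_right]
      calc k * c * k⁻¹ * x * (k * c * k⁻¹)⁻¹ = k * (c * (k⁻¹ * x * k) * c⁻¹) * k⁻¹ := by group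
        _ = _ := by rw [h1, hK k hk _ (hAK c hc x hx), mul_inv_cancel_right]
    have hBM : ∀ b ∈ B, ∃ m ∈ M, ∃ c ∈ A', b = m * c := by
      intro b hb
      obtain ⟨v, hv, c, hc, e⟩ := hBA b hb
      have hu : v * (c * k * c⁻¹ * k⁻¹) ∈ K := mul_mem hv (mul_mem (hAK c hc k hk) (inv_mem hk))
      refine ⟨v * (c * k * c⁻¹ * k⁻¹), hS _ hu ?_, k * c * k⁻¹, ⟨c, hc, rfl⟩, by rw [e]; group⟩
      set u := v * (c * k * c⁻¹ * k⁻¹) with hudef
      have hbu : b = u * (k * c * k⁻¹) := by rw [e, hudef]; group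
      have hcc : k * a * k⁻¹ * (k * c * k⁻¹) = k * c * k⁻¹ * (k * a * k⁻¹) := by
        calc k * a * k⁻¹ * (k * c * k⁻¹) = k * (a * c) * k⁻¹ := by group
          _ = _ := by rw [hA a ha c hc]; group
      rw [← hact u hu a ha]
      set a₁ := k * a * k⁻¹
      set c₁ := k * c * k⁻¹
      have hbm : b * m₁ * b⁻¹ ∈ M := by
        have h1 : c₁ * m₁ * c₁⁻¹ = c * m₁ * c⁻¹ := hact m₁ (hMle hm₁) c hc
        have h2 : b * m₁ * b⁻¹ = u * (c₁ * m₁ * c₁⁻¹) * u⁻¹ := by rw [hbu]; group
        rw [h2, h1, hK u hu _ (hAK c hc m₁ (hMle hm₁)), mul_inv_cancel_right]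
        exact hMA c hc m₁ hm₁
      have e1 : a₁ * u * a₁⁻¹ * u⁻¹ = m₁ * (b * m₁ * b⁻¹)⁻¹ := by
        have hu' : u = b * c₁⁻¹ := by rw [hbu]; group
        have hbb : b₀ * b = b * b₀ := hB b₀ hb₀ b hb
        calc a₁ * u * a₁⁻¹ * u⁻¹ = a₁ * b * (c₁⁻¹ * a₁⁻¹ * c₁) * b⁻¹ := by rw [hu']; group
          _ = a₁ * b * a₁⁻¹ * b⁻¹ := by
            rw [show c₁⁻¹ * a₁⁻¹ * c₁ = (c₁⁻¹ * (a₁ * c₁))⁻¹ by group, hcc]; group
          _ = m₁ * (b₀ * b) * b₀⁻¹ * m₁⁻¹ * b⁻¹ := by rw [ha₁e]; group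
          _ = _ := by rw [hbb]; group
      rw [e1]
      exact mul_mem hm₁ (inv_mem hbm)
    have hA'M : ∀ c ∈ A', ∃ m ∈ M, ∃ b ∈ B, c = m * b := by
      rintro _ ⟨c, hc, rfl⟩
      obtain ⟨v, hv, b, hb, e⟩ := hAB c hc
      obtain ⟨m, hm, _, ⟨c', hc', rfl⟩, e'⟩ := hBM b hb
      have e2 : b = m * (k * c' * k⁻¹) := e'
      have h1 : c * c'⁻¹ ∈ K := by
        have e3 : c * c'⁻¹ = v * m * (k * (c' * k⁻¹ * c'⁻¹)) := by
          rw [e, e2]; group
        rw [e3]
        exact mul_mem (mul_mem hv (hMle hm)) (mul_mem hk (hAK c' hc' _ (inv_mem hk)))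
      have hcc : c = c' := mul_inv_eq_one.1 (hiA _ (mul_mem hc (inv_mem hc')) h1)
      exact ⟨m⁻¹, inv_mem hm, b, hb, by
        show k * c * k⁻¹ = m⁻¹ * b
        rw [e2, hcc]; group⟩
    obtain ⟨m, hm, hmB⟩ := ih M A' B hMn hMcomm
      (by
        rintro _ ⟨x, hx, rfl⟩ _ ⟨y, hy, rfl⟩
        rw [← map_mul, ← map_mul, hA x hx y hy])
      hB
      (by
        rintro _ ⟨c, hc, rfl⟩ x hx
        show k * c * k⁻¹ * x * (k * c * k⁻¹)⁻¹ ∈ M
        rw [hact x (hMle hx) c hc]
        exact hMA c hc x hx)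
      hBM hA'M
      (by
        rintro _ ⟨c, hc, rfl⟩ hxM
        have h1 : k * c * k⁻¹ ∈ K := hMle hxM
        have h2 : c ∈ K := by
          have := K.mul_mem (K.mul_mem (K.inv_mem hk) h1) hk
          simpa [mul_assoc] using this
        simp [hiA c hc h2])
      (fun x hx hxM => hiB x hx (hMle hxM))
      (fun x hx h => hfix x (hMle hx) fun c hc => by
        rw [← mul_inv_eq_iff_eq_mul, ← hact x (hMle hx) c hc]
        rw [mul_inv_eq_iff_eq_mul]
        exact h _ ⟨c, hc, rfl⟩)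
    refine ⟨m * k, mul_mem (hMle hm) hk, fun g => (hmB g).trans ⟨?_, fun h => ?_⟩⟩
    · rintro ⟨c, hc, e⟩
      have e' : k * c * k⁻¹ = m⁻¹ * g * m := e
      have : (m * k)⁻¹ * g * (m * k) = c := by
        calc (m * k)⁻¹ * g * (m * k) = k⁻¹ * (m⁻¹ * g * m) * k := by group
          _ = _ := by rw [← e']; group
      rwa [this]
    · exact ⟨_, h, by show k * ((m * k)⁻¹ * g * (m * k)) * k⁻¹ = _; group⟩

theorem aux : ∀ (n : ℕ) (G : Type u) [Group G] [Finite G] [Nontrivial G], Nat.card G = n →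
    ∀ (A B : Subgroup G) [IsMulCommutative A] [IsMulCommutative B],
    (∀ g : G, ∃ a ∈ A, ∃ b ∈ B, g = a * b) →
    ∃ N : Subgroup G, N.Normal ∧ N ≠ ⊥ ∧ (N ≤ A ∨ N ≤ B) := by
  intro n
  induction n using Nat.strong_induction_on with
  | _ n ih =>
    intro G _ _ _ hn A B _ _ hAB
    have hA' : ∀ u ∈ A, ∀ v ∈ A, u * v = v * u := fun u hu v hv => setLike_mul_comm hu hv
    have hB' : ∀ u ∈ B, ∀ v ∈ B, u * v = v * u := fun u hu v hv => setLike_mul_comm hu hv
    have hBA : ∀ g : G, ∃ b ∈ B, ∃ a ∈ A, g = b * a := by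
      intro g
      obtain ⟨a, ha, b, hb, e⟩ := hAB g⁻¹
      exact ⟨b⁻¹, inv_mem hb, a⁻¹, inv_mem ha, by rw [← mul_inv_rev, ← e, inv_inv]⟩
    by_contra hcon
    push Not at hcon
    have hcon' : ∀ N : Subgroup G, N.Normal → (N ≤ A ∨ N ≤ B) → N = ⊥ := by
      intro N hN h
      by_contra hne
      exact h.elim (hcon N hN hne).1 (hcon N hN hne).2
    have hcenter : ∀ (C : Subgroup G), (C = A ∨ C = B) → ∀ x ∈ C, x ∈ Subgroup.center G → x = 1 := by
      intro C hC x hx hxz
      have hn : (Subgroup.zpowers x).Normal := ⟨fun y hy g => by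
        have : y ∈ Subgroup.center G := (Subgroup.zpowers_le.2 hxz) hy
        rw [(Subgroup.mem_center_iff.1 this g), mul_inv_cancel_right]
        exact hy⟩
      have := hcon' _ hn (hC.imp (fun e => by rw [← e]; exact Subgroup.zpowers_le.2 hx)
        (fun e => by rw [← e]; exact Subgroup.zpowers_le.2 hx))
      exact Subgroup.zpowers_eq_bot.1 this
    have hG' : ∀ x ∈ commutator G, ∀ y ∈ commutator G, x * y = y * x := by
      have h := Cfsg.Agent.S0572.result A B hAB
      rw [show (2 : ℕ) = 1 + 1 from rfl, derivedSeries_succ, derivedSeries_one,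
        Subgroup.commutator_eq_bot_iff_le_centralizer] at h
      exact fun x hx y hy => (Subgroup.mem_centralizer_iff.1 (h hx) y hy).symm
    -- the normal subgroup `A ⊔ G'` is the whole group
    have step : ∀ (A B : Subgroup G) [IsMulCommutative A] [IsMulCommutative B],
        (∀ g : G, ∃ a ∈ A, ∃ b ∈ B, g = a * b) →
        (∀ x ∈ B, x ∈ Subgroup.center G → x = 1) →
        (∀ N : Subgroup G, N.Normal → (N ≤ A ∨ N ≤ B) → N = ⊥) → A ⊔ commutator G = ⊤ := by
      intro A B _ _ hAB hBz hno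
      have hA' : ∀ u ∈ A, ∀ v ∈ A, u * v = v * u := fun u hu v hv => setLike_mul_comm hu hv
      have hB' : ∀ u ∈ B, ∀ v ∈ B, u * v = v * u := fun u hu v hv => setLike_mul_comm hu hv
      by_contra hX
      set X := A ⊔ commutator G with hXdef
      have hXn : X.Normal := ⟨fun x hx g => by
        have h1 : g * x * g⁻¹ * x⁻¹ ∈ X := Subgroup.mem_sup_right (by
          rw [commutator_def, ← commutatorElement_def]
          exact Subgroup.commutator_mem_commutator (Subgroup.mem_top _) (Subgroup.mem_top _))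
        simpa [mul_assoc] using mul_mem h1 hx⟩
      have hAX : A ≤ X := le_sup_left
      have hGX : commutator G ≤ X := le_sup_right
      have hA1 : A ≠ ⊥ := by
        intro hA
        have hB : B = ⊤ := eq_top_iff.2 fun g _ => by
          obtain ⟨a, ha, b, hb, rfl⟩ := hAB g
          rw [hA, Subgroup.mem_bot] at ha
          simpa [ha] using hb
        exact top_ne_bot (α := Subgroup G) (hno ⊤ inferInstance (Or.inr hB.ge))
      haveI : Nontrivial X := by
        rw [Subgroup.nontrivial_iff_ne_bot]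
        exact fun h => hA1 (eq_bot_iff.2 (h ▸ hAX))
      have hXcard : Nat.card X < n := by
        rw [← hn, ← Subgroup.card_top (G := G)]
        refine lt_of_le_of_ne (Nat.le_of_dvd Nat.card_pos (Subgroup.card_dvd_of_le le_top)) ?_
        exact fun e => hX (Subgroup.eq_of_le_of_card_ge le_top e.ge)
      have hcA : IsMulCommutative (A.subgroupOf X) :=
        ⟨⟨fun u v => Subtype.ext (Subtype.ext (hA' _ u.2 _ v.2))⟩⟩
      have hcB : IsMulCommutative (B.subgroupOf X) :=
        ⟨⟨fun u v => Subtype.ext (Subtype.ext (hB' _ u.2 _ v.2))⟩⟩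
      obtain ⟨N₁, hN₁, hN₁ne, hN₁le⟩ := ih _ hXcard X rfl (A.subgroupOf X) (B.subgroupOf X)
        (fun g => by
          obtain ⟨a, ha, b, hb, e⟩ := hAB g
          have hbX : b ∈ X := by
            have := X.mul_mem (X.inv_mem (hAX ha)) g.2
            simpa [e] using this
          exact ⟨⟨a, hAX ha⟩, ha, ⟨b, hbX⟩, hb, Subtype.ext e⟩)
      apply hN₁ne
      rw [← Subgroup.map_eq_bot_iff_of_injective _ X.subtype_injective]
      set N := N₁.map X.subtype with hNdef
      have hNX : ∀ x ∈ X, ∀ y ∈ N, x * y * x⁻¹ ∈ N := by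
        rintro x hx _ ⟨y, hy, rfl⟩
        exact ⟨_, hN₁.conj_mem y hy ⟨x, hx⟩, rfl⟩
      rcases hN₁le with hle | hle
      · have hNA : N ≤ A := by
          rintro _ ⟨y, hy, rfl⟩; exact hle hy
        set Z : Subgroup G := X ⊓ Subgroup.centralizer (X : Set G) with hZ
        have hZA : Z ≤ A := by
          rintro z ⟨hzX, hzc⟩
          obtain ⟨a, ha, b, hb, rfl⟩ := hAB z
          have hbc : b ∈ Subgroup.center G := by
            rw [Subgroup.mem_center_iff]
            intro g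
            obtain ⟨a', ha', b', hb', rfl⟩ := hAB g
            have h1 : a' * b = b * a' := by
              have h2 : a' * (a * b) = a * b * a' :=
                Subgroup.mem_centralizer_iff.1 hzc a' (hAX ha')
              rw [← mul_assoc, hA' a' ha' a ha, mul_assoc, mul_assoc] at h2
              exact mul_left_cancel h2
            rw [mul_assoc, hB' b' hb' b hb, ← mul_assoc, h1, mul_assoc]
          rw [hBz b hb hbc, mul_one]
          exact ha
        have hZn : Z.Normal := by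
          haveI := hXn
          exact Subgroup.Normal.mk fun z hz g => ⟨hXn.conj_mem z hz.1 g,
            (Subgroup.Normal.conj_mem (inferInstance : (Subgroup.centralizer (X : Set G)).Normal)
              z hz.2 g)⟩
        have hZ1 : Z = ⊥ := hno Z hZn (Or.inl hZA)
        rw [eq_bot_iff]
        intro y hy
        rw [← hZ1, hZ, Subgroup.mem_inf]
        refine ⟨hAX (hNA hy), ?_⟩
        have hG : ∀ x ∈ commutator G, x ∈ A → x = 1 := by
          intro x hx hxA
          have : x ∈ Z := by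
            refine ⟨hAX hxA, Subgroup.mem_centralizer_iff.2 fun u hu => ?_⟩
            have hle : X ≤ Subgroup.centralizer ({x} : Set G) := sup_le
              (fun v hv => Subgroup.mem_centralizer_singleton_iff.2 (hA' v hv x hxA))
              (fun v hv => Subgroup.mem_centralizer_singleton_iff.2 (hG' v hv x hx))
            exact Subgroup.mem_centralizer_singleton_iff.1 (hle hu)
          rwa [hZ1, Subgroup.mem_bot] at this
        refine Subgroup.mem_centralizer_iff.2 fun u hu => ?_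
        have hle : X ≤ Subgroup.centralizer ({y} : Set G) := sup_le
          (fun v hv => Subgroup.mem_centralizer_singleton_iff.2 (hA' v hv y (hNA hy)))
          (fun v hv => Subgroup.mem_centralizer_singleton_iff.2 (by
            have h1 : v * y * v⁻¹ * y⁻¹ ∈ A :=
              hNA (N.mul_mem (hNX v (hGX hv) y hy) (N.inv_mem hy))
            have h2 : v * y * v⁻¹ * y⁻¹ ∈ commutator G := by
              rw [commutator_def, ← commutatorElement_def]
              exact Subgroup.commutator_mem_commutator (Subgroup.mem_top _) (Subgroup.mem_top _)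
            exact mul_inv_eq_iff_eq_mul.1 (mul_inv_eq_one.1 (hG _ h2 h1))))
        exact Subgroup.mem_centralizer_singleton_iff.1 (hle hu)
      · have hNB : N ≤ B := by
          rintro _ ⟨y, hy, rfl⟩; exact hle hy
        refine hno N ⟨fun y hy g => ?_⟩ (Or.inr hNB)
        obtain ⟨a, ha, b, hb, rfl⟩ := hAB g
        have h1 : b * y * b⁻¹ = y := by rw [hB' b hb y (hNB hy), mul_inv_cancel_right]
        have h2 : a * b * y * (a * b)⁻¹ = a * (b * y * b⁻¹) * a⁻¹ := by group
        rw [h2, h1]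
        exact hNX a (hAX ha) y hy
    have hXA := step A B hAB (hcenter B (Or.inr rfl)) hcon'
    have hXB := step B A hBA (hcenter A (Or.inl rfl)) fun N hN h => hcon' N hN h.symm
    set K := commutator G
    have hcomm : ∀ C : Subgroup G, C ⊔ K = ⊤ → ∀ x, (∀ c ∈ C, c * x = x * c) →
        (∀ k ∈ K, k * x = x * k) → x ∈ Subgroup.center G := by
      intro C hC x h1 h2
      refine Subgroup.mem_center_iff.2 fun g => ?_
      have hle : C ⊔ K ≤ Subgroup.centralizer ({x} : Set G) := sup_le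
        (fun v hv => Subgroup.mem_centralizer_singleton_iff.2 (h1 v hv))
        (fun v hv => Subgroup.mem_centralizer_singleton_iff.2 (h2 v hv))
      exact Subgroup.mem_centralizer_singleton_iff.1 (hle (hC ▸ Subgroup.mem_top g))
    have hKn : K.Normal := inferInstance
    have hdec : ∀ C : Subgroup G, C ⊔ K = ⊤ → ∀ g : G, ∃ k ∈ K, ∃ c ∈ C, g = k * c := by
      intro C hC g
      have : g ∈ K ⊔ C := by rw [sup_comm, hC]; trivial
      obtain ⟨k, hk, c, hc, e⟩ := Subgroup.mem_sup_of_normal_left.1 this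
      exact ⟨k, hk, c, hc, e.symm⟩
    have hz : Subgroup.center G = ⊥ := by
      rw [eq_bot_iff]
      intro z hzc
      obtain ⟨a, ha, b, hb, rfl⟩ := hAB z
      have hbc : b ∈ Subgroup.center G := by
        refine Subgroup.mem_center_iff.2 fun g => ?_
        obtain ⟨a', ha', b', hb', rfl⟩ := hAB g
        have h2 : a' * (a * b) = a * b * a' := Subgroup.mem_center_iff.1 hzc a'
        rw [← mul_assoc, hA' a' ha' a ha, mul_assoc, mul_assoc] at h2
        have h1 := mul_left_cancel h2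
        rw [mul_assoc, hB' b' hb' b hb, ← mul_assoc, h1, mul_assoc]
      have hb1 := hcenter B (Or.inr rfl) b hb hbc
      rw [hb1, mul_one] at hzc ⊢
      exact Subgroup.mem_bot.2 (hcenter A (Or.inl rfl) a ha hzc)
    obtain ⟨k, hk, hconj⟩ := complements_conj _ K A B le_rfl hG' hA' hB'
      (fun a _ x hx => hKn.conj_mem x hx a) (fun b _ => hdec A hXA b) (fun a _ => hdec B hXB a)
      (fun x hx hxK => hcenter A (Or.inl rfl) x hx
        (hcomm A hXA x (fun c hc => hA' c hc x hx) (fun c hc => hG' c hc x hxK)))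
      (fun x hx hxK => hcenter B (Or.inr rfl) x hx
        (hcomm B hXB x (fun c hc => hB' c hc x hx) (fun c hc => hG' c hc x hxK)))
      (fun x hxK h => by
        have := hcomm A hXA x h (fun c hc => hG' c hc x hxK)
        rwa [hz, Subgroup.mem_bot] at this)
    obtain ⟨a, ha, b, hb, e⟩ := hAB k⁻¹
    have hb' := (hconj b).1 hb
    have hkA : k ∈ A := by
      have he : (k⁻¹ * b * k) * a = k⁻¹ * b * (k * a) := by group
      have e2 : k * a = b⁻¹ := by
        have : k * (a * b) = 1 := by rw [← e, mul_inv_cancel]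
        rw [← mul_assoc] at this
        exact eq_inv_of_mul_eq_one_left this
      rw [e2, mul_inv_cancel_right] at he
      have h5 : k⁻¹ ∈ A := he ▸ A.mul_mem hb' ha
      simpa using A.inv_mem h5
    have hAtop : A = ⊤ := eq_top_iff.2 fun g _ => by
      obtain ⟨a', ha', b', hb', rfl⟩ := hAB g
      refine A.mul_mem ha' ?_
      have := A.mul_mem (A.mul_mem hkA ((hconj b').1 hb')) (A.inv_mem hkA)
      simpa [mul_assoc] using this
    exact top_ne_bot (α := Subgroup G) (hcon' ⊤ inferInstance (Or.inl hAtop.ge))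

/-- If a nontrivial finite group G is the product AB of abelian subgroups A and B, then some nontrivial normal subgroup of G is contained in A or in B. -/
theorem result {G : Type*} [Group G] [Finite G] [Nontrivial G] (A B : Subgroup G) [IsMulCommutative A] [IsMulCommutative B] (hAB : ∀ g : G, ∃ a ∈ A, ∃ b ∈ B, g = a * b) : ∃ N : Subgroup G, N.Normal ∧ N ≠ ⊥ ∧ (N ≤ A ∨ N ≤ B) := by
  exact aux _ G rfl A B hAB

end Cfsg.Agent.S0573
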