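import Cfsg.Statements.S0571
import Cfsg.Agent.S0573
import Cfsg.Agent.Lib.Supersolvable.Basic
-- import your own Cfsg.Agent.* helpers here

set_option autoImplicit false
open Cfsg

namespace Cfsg.Agent.S0571

universe u

theorem aux (G : Type u) [Group G] [Finite G] : ∀ (A B : Subgroup G) [IsCyclic A] [IsCyclic B],
    (∀ g : G, ∃ a ∈ A, ∃ b ∈ B, g = a * b) → Cfsg.IsSupersolvable G := by
  refine CfsgLib.Supersolvable.groupInduction (P := fun G _ _ => ∀ (A B : Subgroup G) [IsCyclic A]
    [IsCyclic B], (∀ g : G, ∃ a ∈ A, ∃ b ∈ B, g = a * b) → Cfsg.IsSupersolvable G)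
    (fun G _ _ ih A B _ _ hAB => ?_) G
  rcases subsingleton_or_nontrivial G with h | h
  · exact CfsgLib.Supersolvable.of_subsingleton
  obtain ⟨N, hN, hNne, hle⟩ := Cfsg.Agent.S0573.result A B hAB
  haveI := hN
  haveI : IsCyclic N := hle.elim (fun h => Subgroup.isCyclic_of_le h) (fun h => Subgroup.isCyclic_of_le h)
  refine CfsgLib.Supersolvable.of_quotient_cyclic N ?_
  haveI : IsCyclic (A.map (QuotientGroup.mk' N)) :=
    isCyclic_of_surjective _ ((QuotientGroup.mk' N).subgroupMap_surjective A)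
  haveI : IsCyclic (B.map (QuotientGroup.mk' N)) :=
    isCyclic_of_surjective _ ((QuotientGroup.mk' N).subgroupMap_surjective B)
  refine ih _ (CfsgLib.Supersolvable.card_quotient_lt hNne) (A.map (QuotientGroup.mk' N))
    (B.map (QuotientGroup.mk' N)) fun g => ?_
  obtain ⟨g, rfl⟩ := QuotientGroup.mk'_surjective N g
  obtain ⟨a, ha, b, hb, rfl⟩ := hAB g
  exact ⟨_, ⟨a, ha, rfl⟩, _, ⟨b, hb, rfl⟩, map_mul _ _ _⟩

/-- If a finite group G is the product AB of two cyclic subgroups (every element is a product ab), then G is supersolvable. -/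
theorem result {G : Type*} [Group G] [Finite G] (A B : Subgroup G) [IsCyclic A] [IsCyclic B] (hAB : ∀ g : G, ∃ a ∈ A, ∃ b ∈ B, g = a * b) : Cfsg.IsSupersolvable G := by
  exact aux G A B hAB

end Cfsg.Agent.S0571
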