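import Cfsg.Statements.S0574
import Cfsg.Agent.S0564
import Cfsg.Agent.Lib.Factor.DerivedLength
-- import your own Cfsg.Agent.* helpers here

set_option autoImplicit false
open Cfsg

namespace Cfsg.Agent.S0574

/-- Let the finite group G be the product AB of an abelian subgroup A and a subgroup B of nilpotency class at most two, and let Ω be the number of prime factors, with multiplicity, of the order of the commutator subgroup of B. Then the term of index 2(1 + Ω) of the derived series of G is trivial. -/
theorem result {G : Type*} [Group G] [Finite G] (A B : Subgroup G) [IsMulCommutative A] (hB : commutator ↥B ≤ Subgroup.center ↥B) (hAB : ∀ g : G, ∃ a ∈ A, ∃ b ∈ B, g = a * b) : derivedSeries G (2 * (1 + (Nat.card ↥(commutator ↥B)).primeFactorsList.length)) = ⊥ := by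
  have hA : Group.IsNilpotent A := by
    letI : CommGroup A := { (inferInstance : Group A) with
      mul_comm := fun a b => Subtype.ext (setLike_mul_comm a.2 b.2) }
    infer_instance
  have hB' : Group.IsNilpotent B := by
    have : Group.IsNilpotent (↥B ⧸ commutator ↥B) := by
      letI : CommGroup (↥B ⧸ commutator ↥B) := Abelianization.commGroup B
      infer_instance
    exact Subgroup.isNilpotent_of_ker_le_center (QuotientGroup.mk' (commutator ↥B))
      (by rwa [QuotientGroup.ker_mk'])
  haveI := Cfsg.Agent.S0564.result A B hA hB' hAB
  exact CfsgLib.Factor.derivedSeries_eq_bot_of_class_two_aux _ G A B hB hAB rfl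

end Cfsg.Agent.S0574
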