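import Cfsg.Statements.S0577
import Cfsg.Agent.Lib.MinimalNonNilpotent.Basic
import Cfsg.Agent.Lib.Solvable.CoprimeAction
import Cfsg.Agent.Lib.Transfer.PGroup
import Mathlib.Tactic
-- import your own Cfsg.Agent.* helpers here

set_option autoImplicit false
open Cfsg

open scoped commutatorElement

namespace Cfsg.Agent.S0577

/-- Let G be a finite minimal non-nilpotent group and Q a normal Sylow q-subgroup of G, and let D be the commutator subgroup of Q regarded in G (a normal subgroup). Then G modulo D is non-abelian and all its proper subgroups are abelian. -/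
theorem result {G : Type*} [Group G] [Finite G] (hG : Cfsg.IsMinimalNonNilpotent G) (q : ℕ) [Fact q.Prime] (hq : q ∣ Nat.card G) (Q : Sylow q G) (hQ : (Q : Subgroup G).Normal) (D : Subgroup G) [D.Normal] (hD : D = (commutator ↥(Q : Subgroup G)).map (Q : Subgroup G).subtype) : ¬ IsMulCommutative (G ⧸ D) ∧ ∀ K : Subgroup (G ⧸ D), K ≠ ⊤ → IsMulCommutative K := by
  classical
  obtain ⟨p, q₀, hp, hq₀, hpq, P, Q₀, hPc, hQ₀, hsup⟩ := CfsgLib.MinNonNilp.structure_theorem hG
  haveI := Fact.mk hp
  haveI := Fact.mk hq₀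
  haveI := hQ₀
  have hcard : Nat.card G = Nat.card (Q₀ : Subgroup G) * Nat.card (P : Subgroup G) := by
    rw [← CfsgLib.Solvable.card_sup_of_disjoint
      (by rw [Subgroup.normalizer_eq_top (Q₀ : Subgroup G)]; exact le_top)
      (IsPGroup.disjoint_of_ne _ _ hpq.symm _ _ Q₀.isPGroup' P.isPGroup'), sup_comm, hsup,
      Subgroup.card_top]
  have hprimes : ∀ r : ℕ, r.Prime → r ∣ Nat.card G → r = p ∨ r = q₀ := by
    intro r hr hrd
    obtain ⟨i, hi⟩ := Q₀.isPGroup'.exists_card_eq
    obtain ⟨j, hj⟩ := P.isPGroup'.exists_card_eq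
    rw [hcard, hi, hj] at hrd
    rcases hr.dvd_mul.1 hrd with h | h
    · exact Or.inr ((Nat.prime_dvd_prime_iff_eq hr hq₀).1 (hr.dvd_of_dvd_pow h))
    · exact Or.inl ((Nat.prime_dvd_prime_iff_eq hr hp).1 (hr.dvd_of_dvd_pow h))
  have hPn : ¬ (P : Subgroup G).Normal := by
    intro hPn
    refine hG.1 ?_
    have e := (Group.isNilpotent_of_finite_tfae (G := G)).out 0 3
    rw [e]
    intro r hr R
    by_cases hrd : r ∣ Nat.card G
    · rcases hprimes r hr.out hrd with rfl | rfl
      · rw [← CfsgLib.MinNonNilp.sylow_eq_of_normal P R hPn]; exact hPn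
      · rw [← CfsgLib.MinNonNilp.sylow_eq_of_normal Q₀ R hQ₀]; exact hQ₀
    · have : (R : Subgroup G) = ⊥ := by
        apply Subgroup.eq_bot_of_card_eq
        rw [R.card_eq_multiplicity, Nat.factorization_eq_zero_of_not_dvd hrd, pow_zero]
      rw [this]
      infer_instance
  obtain rfl : q = q₀ := by
    rcases hprimes q Fact.out hq with rfl | h
    · exact absurd (CfsgLib.MinNonNilp.sylow_eq_of_normal Q P hQ ▸ hQ) hPn
    · exact h
  obtain rfl : Q₀ = Q := CfsgLib.MinNonNilp.sylow_eq_of_normal Q₀ Q hQ₀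
  set π := QuotientGroup.mk' D
  have hπ : Function.Surjective π := QuotientGroup.mk'_surjective D
  refine ⟨fun hcomm => hPn ?_, fun K hK => ?_⟩
  · have hPQ : (P : Subgroup G) ≤ Subgroup.centralizer ((Q₀ : Subgroup G) : Set G) := by
      refine CfsgLib.Solvable.le_centralizer_of_trivial_on_frattini_quotient ?_ fun a _ k _ => ?_
      · obtain ⟨j, hj⟩ := P.isPGroup'.exists_card_eq
        obtain ⟨i, hi⟩ := (Q₀.isPGroup'.to_subgroup (frattini (Q₀ : Subgroup G))).exists_card_eq
        rw [hj, hi]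
        exact ((Nat.coprime_primes hp Fact.out).2 hpq).pow j i
      · haveI : Group.IsNilpotent (Q₀ : Subgroup G) := Q₀.isPGroup'.isNilpotent
        refine Subgroup.map_mono CfsgLib.Transfer.commutator_le_frattini ?_
        rw [← hD]
        refine (QuotientGroup.eq_one_iff _).1 (show π (a * k * a⁻¹ * k⁻¹) = 1 from ?_)
        rw [map_mul, map_mul, map_mul, map_inv, map_inv, hcomm.is_comm.comm (π a) (π k)]
        group
    rw [← Subgroup.normalizer_eq_top_iff, eq_top_iff, ← hsup]
    exact sup_le Subgroup.le_normalizer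
      (le_trans (Subgroup.le_centralizer_iff.1 hPQ) (Subgroup.centralizer_le_normalizer _))
  · set H := K.comap π with hH
    have hHne : H ≠ ⊤ := by
      intro h
      apply hK
      rw [← Subgroup.map_comap_eq_self_of_surjective hπ K, ← hH, h,
        Subgroup.map_top_of_surjective _ hπ]
    haveI hHnil := hG.2 H hHne
    set U : Subgroup G := H ⊓ Q₀ with hU
    obtain ⟨T⟩ : Nonempty (Sylow p H) := inferInstance
    set T' : Subgroup G := (T : Subgroup H).map H.subtype with hT'
    have hT'H : T' ≤ H := Subgroup.map_subtype_le _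
    have hUH : U ≤ H := inf_le_left
    have hgen : U ⊔ T' = H := by
      refine le_antisymm (sup_le hUH hT'H) ?_
      have : (U ⊔ T').subgroupOf H = ⊤ := by
        refine CfsgLib.MinNonNilp.eq_top_of_forall_sylow fun r _ hrd => ?_
        rcases hprimes r Fact.out (hrd.trans (Subgroup.card_subgroup_dvd_card H)) with rfl | rfl
        · exact ⟨T, fun x hx => Subgroup.mem_sup_right (S := U) ⟨x, hx, rfl⟩⟩
        · obtain ⟨R⟩ : Nonempty (Sylow r H) := inferInstance
          refine ⟨R, fun x hx => Subgroup.mem_sup_left (T := T') ⟨x.2, ?_⟩⟩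
          obtain ⟨R', hR'⟩ := (R.isPGroup'.map H.subtype).exists_le_sylow
          rw [← CfsgLib.MinNonNilp.sylow_eq_of_normal Q₀ R' hQ₀] at hR'
          exact hR' ⟨x, hx, rfl⟩
      exact Subgroup.subgroupOf_eq_top.1 this
    -- images of `U` and `T'` are commutative and centralize each other
    obtain ⟨P', hP'⟩ := (T.isPGroup'.map H.subtype : IsPGroup p T').exists_le_sylow
    have hT'cyc : ∀ a ∈ T', ∀ b ∈ T', a * b = b * a := by
      obtain ⟨g, hg⟩ := MulAction.exists_smul_eq G P P'
      intro a ha b hb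
      haveI : IsCyclic (P' : Subgroup G) := by
        rw [← hg, Sylow.coe_subgroup_smul]
        exact isCyclic_of_surjective _ (Subgroup.equivSMul (MulAut.conj g) (P : Subgroup G)).surjective
      letI := IsCyclic.commGroup (α := (P' : Subgroup G))
      exact congrArg Subtype.val (mul_comm (⟨a, hP' ha⟩ : (P' : Subgroup G)) ⟨b, hP' hb⟩)
    have hQcomm : ∀ a ∈ U, ∀ b ∈ U, π a * π b = π b * π a := by
      intro a ha b hb
      rw [← map_mul, ← map_mul]
      refine (QuotientGroup.eq).2 ?_
      rw [hD]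
      refine ⟨⁅(⟨b, hb.2⟩ : (Q₀ : Subgroup G))⁻¹, (⟨a, ha.2⟩ : (Q₀ : Subgroup G))⁻¹⁆, ?_, ?_⟩
      · rw [commutator_def]
        exact Subgroup.commutator_mem_commutator (Subgroup.mem_top _) (Subgroup.mem_top _)
      · simp [commutatorElement_def, mul_assoc]
    have hUT : U ≤ Subgroup.centralizer (T' : Set G) :=
      CfsgLib.MinNonNilp.commute_of_le_nilpotent hHnil hpq.symm (IsPGroup.to_le Q₀.isPGroup' inf_le_right)
        (T.isPGroup'.map H.subtype) hUH hT'H
    have hle : H.map π ≤ Subgroup.centralizer ((H.map π : Subgroup (G ⧸ D)) : Set (G ⧸ D)) := by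
      rw [← hgen, Subgroup.map_sup]
      have h1 : U.map π ≤ Subgroup.centralizer ((U.map π : Subgroup (G ⧸ D)) : Set (G ⧸ D)) := by
        rintro _ ⟨a, ha, rfl⟩
        rw [Subgroup.mem_centralizer_iff]
        rintro _ ⟨b, hb, rfl⟩
        exact hQcomm b hb a ha
      have h2 : T'.map π ≤ Subgroup.centralizer ((T'.map π : Subgroup (G ⧸ D)) : Set (G ⧸ D)) := by
        rintro _ ⟨a, ha, rfl⟩
        rw [Subgroup.mem_centralizer_iff]
        rintro _ ⟨b, hb, rfl⟩
        rw [← map_mul, ← map_mul, hT'cyc b hb a ha]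
      have h3 : U.map π ≤ Subgroup.centralizer ((T'.map π : Subgroup (G ⧸ D)) : Set (G ⧸ D)) := by
        rintro _ ⟨a, ha, rfl⟩
        rw [Subgroup.mem_centralizer_iff]
        rintro _ ⟨b, hb, rfl⟩
        rw [← map_mul, ← map_mul, Subgroup.mem_centralizer_iff.1 (hUT ha) b hb]
      have h4 : U.map π ⊔ T'.map π ≤ Subgroup.centralizer ((U.map π : Subgroup (G ⧸ D)) : Set (G ⧸ D)) :=
        sup_le h1 (Subgroup.le_centralizer_iff.1 h3)
      have h5 : U.map π ⊔ T'.map π ≤ Subgroup.centralizer ((T'.map π : Subgroup (G ⧸ D)) : Set (G ⧸ D)) :=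
        sup_le h3 h2
      exact sup_le (Subgroup.le_centralizer_iff.1 h4) (Subgroup.le_centralizer_iff.1 h5) |> fun h => by
        exact h
    rw [Subgroup.map_comap_eq_self_of_surjective hπ K] at hle
    exact ⟨⟨fun a b => Subtype.ext ((Subgroup.mem_centralizer_iff.1 (hle a.2) b b.2).symm)⟩⟩

end Cfsg.Agent.S0577
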