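import Cfsg.Statements.S0578
import Mathlib.GroupTheory.Transfer
import Mathlib.GroupTheory.IsSubnormal
import Mathlib.GroupTheory.Abelianization.Defs
import Mathlib.Tactic
-- import your own Cfsg.Agent.* helpers here

set_option autoImplicit false
open Cfsg

open scoped commutatorElement

namespace Cfsg.Agent.S0578

/-- If in a finite group the normalizer of each abelian subgroup coincides with its centralizer, then the group is abelian. -/
theorem result {G : Type*} [Group G] [Finite G] (h : ∀ A : Subgroup G, IsMulCommutative A → Subgroup.normalizer (A : Set G) = Subgroup.centralizer (A : Set G)) : IsMulCommutative G := by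
  have hsyl : ∀ (p : ℕ) [Fact p.Prime] (P : Sylow p G), IsMulCommutative (P : Subgroup G) := by
    intro p _ P
    refine ⟨⟨fun a b => ?_⟩⟩
    by_contra hab
    set Z : Subgroup (P : Subgroup G) := Subgroup.center _ with hZ
    haveI hnt : Nontrivial ((P : Subgroup G) ⧸ Z) := by
      rw [QuotientGroup.nontrivial_iff]
      intro htop
      exact hab (Subgroup.mem_center_iff.1 (htop ▸ Subgroup.mem_top b : b ∈ Z) a)
    haveI := (P.isPGroup'.to_quotient Z).center_nontrivial
    obtain ⟨w, hw⟩ := exists_ne (1 : Subgroup.center ((P : Subgroup G) ⧸ Z))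
    obtain ⟨z, hz⟩ := QuotientGroup.mk_surjective (w : (P : Subgroup G) ⧸ Z)
    set A : Subgroup (P : Subgroup G) := Z ⊔ Subgroup.zpowers z with hA
    have hnorm : ∀ g : (P : Subgroup G), ∀ x ∈ A, g * x * g⁻¹ ∈ A := by
      intro g x hx
      have hc : ((g * x * g⁻¹ * x⁻¹ : (P : Subgroup G)) : (P : Subgroup G) ⧸ Z) = 1 := by
        have hle : A ≤ (Subgroup.center ((P : Subgroup G) ⧸ Z)).comap (QuotientGroup.mk' Z) := by
          refine sup_le (fun u hu => ?_) ?_
          · rw [Subgroup.mem_comap, QuotientGroup.mk'_apply, (QuotientGroup.eq_one_iff u).2 hu]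
            exact one_mem _
          · rw [Subgroup.zpowers_le, Subgroup.mem_comap, QuotientGroup.mk'_apply, hz]
            exact w.2
        have := Subgroup.mem_center_iff.1 (hle hx) (g : (P : Subgroup G) ⧸ Z)
        simp only [QuotientGroup.mk'_apply] at this
        simp [this]
      have h2 : g * x * g⁻¹ * x⁻¹ ∈ A := le_sup_left (α := Subgroup (P : Subgroup G))
        ((QuotientGroup.eq_one_iff _).1 hc)
      simpa [mul_assoc] using mul_mem h2 hx
    have hAc : A ≤ Subgroup.centralizer (A : Set (P : Subgroup G)) := by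
      refine sup_le (fun u hu v _ => Subgroup.mem_center_iff.1 hu v) ?_
      rw [Subgroup.zpowers_le]
      have : A ≤ Subgroup.centralizer ({z} : Set (P : Subgroup G)) := by
        refine sup_le (fun u hu => ?_) ?_
        · exact Subgroup.mem_centralizer_singleton_iff.2 (Subgroup.mem_center_iff.1 hu z).symm
        · rw [Subgroup.zpowers_le]; exact Subgroup.mem_centralizer_singleton_iff.2 rfl
      exact fun v hv => Subgroup.mem_centralizer_singleton_iff.1 (this hv)
    set A' : Subgroup G := A.map (P : Subgroup G).subtype with hA'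
    have hA'c : IsMulCommutative A' := by
      refine ⟨⟨fun u v => Subtype.ext ?_⟩⟩
      obtain ⟨u₁, hu₁, eu⟩ := u.2
      obtain ⟨v₁, hv₁, ev⟩ := v.2
      show (u : G) * v = v * u
      rw [← eu, ← ev, ← map_mul, ← map_mul, hAc hv₁ u₁ hu₁]
    have hzA : z ∈ A := Subgroup.mem_sup_right (Subgroup.mem_zpowers z)
    have hzc : z ∈ Z := by
      refine Subgroup.mem_center_iff.2 fun g => ?_
      have hgN : (g : G) ∈ Subgroup.normalizer (A' : Set G) := by
        refine Subgroup.mem_normalizer_iff.2 fun x => ⟨?_, fun hx => ?_⟩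
        · rintro ⟨u, hu, rfl⟩
          exact ⟨_, hnorm g u hu, by simp⟩
        · obtain ⟨u, hu, e⟩ := hx
          refine ⟨g⁻¹ * u * g, by simpa using hnorm g⁻¹ u hu, ?_⟩
          rw [map_mul, map_mul, map_inv, e]
          simp [mul_assoc]
      rw [h A' hA'c] at hgN
      exact Subtype.ext (Subgroup.mem_centralizer_iff.1 hgN _ ⟨z, hzA, rfl⟩).symm
    exact hw (Subtype.ext (by rw [← hz]; exact (QuotientGroup.eq_one_iff z).2 hzc))
  have hcop : ∀ p : ℕ, p.Prime → p ∣ Nat.card (commutator G) → False := by
    intro p hp hdvd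
    haveI : Fact p.Prime := ⟨hp⟩
    let P : Sylow p G := default
    have hPN : Subgroup.normalizer ((P : Subgroup G) : Set G) ≤
        Subgroup.centralizer ((P : Subgroup G) : Set G) := le_of_eq (h _ (hsyl p P))
    refine MonoidHom.not_dvd_card_ker_transferSylow P hPN (hdvd.trans (Subgroup.card_dvd_of_le ?_))
    rw [commutator_def, Subgroup.commutator_le]
    intro a _ b _
    rw [MonoidHom.mem_ker, map_commutatorElement, commutatorElement_eq_one_iff_mul_comm]
    exact (hsyl p P).is_comm.comm _ _
  have hbot : commutator G = ⊥ := Subgroup.card_eq_one.1 <| by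
    by_contra hne
    obtain ⟨p, hp, hdvd⟩ := Nat.exists_prime_and_dvd hne
    exact hcop p hp hdvd
  refine ⟨⟨fun a b => ?_⟩⟩
  rw [← commutatorElement_eq_one_iff_mul_comm, ← Subgroup.mem_bot, ← hbot, commutator_def]
  exact Subgroup.commutator_mem_commutator (Subgroup.mem_top a) (Subgroup.mem_top b)

end Cfsg.Agent.S0578
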