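import Cfsg.Statements.S0580
import Cfsg.Agent.Lib.Supersolvable.Basic
import Mathlib.GroupTheory.Solvable
import Mathlib.GroupTheory.Sylow
import Mathlib.Tactic
-- import your own Cfsg.Agent.* helpers here

set_option autoImplicit false
open Cfsg

namespace Cfsg.Agent.S0580

universe u

theorem exists_normal_sylow {G : Type u} [Group G] [Finite G] [Nontrivial G]
    (h : ∀ M : Subgroup G, IsCoatom M → M.index.Prime) :
    ∃ p : ℕ, p.Prime ∧ p ∣ Nat.card G ∧ (∀ q, q.Prime → q ∣ Nat.card G → q ≤ p) ∧
      ∀ P : Sylow p G, (P : Subgroup G).Normal := by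
  classical
  have hne : (Nat.card G).primeFactors.Nonempty :=
    Nat.nonempty_primeFactors.2 Finite.one_lt_card
  set p := (Nat.card G).primeFactors.max' hne with hp
  have hpm := Finset.max'_mem _ hne
  rw [← hp, Nat.mem_primeFactors] at hpm
  have hmax : ∀ q, q.Prime → q ∣ Nat.card G → q ≤ p := fun q hq hqd =>
    Finset.le_max' _ q (Nat.mem_primeFactors.2 ⟨hq, hqd, Nat.card_pos.ne'⟩)
  refine ⟨p, hpm.1, hpm.2.1, hmax, fun P => ?_⟩
  haveI : Fact p.Prime := ⟨hpm.1⟩
  rw [← Subgroup.normalizer_eq_top_iff]
  by_contra hne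
  obtain ⟨M, hM, hle⟩ := (eq_top_or_exists_le_coatom
    (Subgroup.normalizer ((P : Subgroup G) : Set G))).resolve_left hne
  have hq := h M hM
  have hPM : (P : Subgroup G) ≤ M := le_trans Subgroup.le_normalizer hle
  let PM : Sylow p M := P.subtype hPM
  have h1 : (Subgroup.normalizer ((P : Subgroup G) : Set G)).index ≡ 1 [MOD p] := by
    have := card_sylow_modEq_one p G
    rw [P.card_eq_index_normalizer] at this; exact this
  have h2 : (Subgroup.normalizer ((PM : Subgroup M) : Set M)).index ≡ 1 [MOD p] := by
    have := card_sylow_modEq_one p M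
    rw [PM.card_eq_index_normalizer] at this; exact this
  have h3 : Subgroup.normalizer ((PM : Subgroup M) : Set M) =
      (Subgroup.normalizer ((P : Subgroup G) : Set G)).subgroupOf M := by
    ext x
    simp only [Subgroup.mem_subgroupOf, Subgroup.mem_normalizer_iff]
    constructor
    · intro hx y
      constructor
      · intro hy
        have := (hx ⟨y, hPM hy⟩).1 hy
        exact this
      · intro hy
        have hyM : y ∈ M := by
          have := M.mul_mem (M.mul_mem (M.inv_mem x.2) (hPM hy)) x.2
          simpa [mul_assoc] using this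
        exact (hx ⟨y, hyM⟩).2 hy
    · intro hx y
      exact hx (y : G)
  rw [h3, ← Subgroup.relIndex] at h2
  rw [← Subgroup.relIndex_mul_index hle] at h1
  have h4 : 1 * M.index ≡ 1 [MOD p] := (Nat.ModEq.mul_right _ h2.symm).trans h1
  rw [one_mul] at h4
  have h5 := (Nat.modEq_iff_dvd' hq.one_lt.le).1 h4.symm
  have h6 := hmax _ hq M.index_dvd_card
  have h8 := hq.two_le
  have h7 := Nat.le_of_dvd (by have := hq.two_le; omega) h5
  omega

theorem solvable (G : Type u) [Group G] [Finite G] :
    (∀ M : Subgroup G, IsCoatom M → M.index.Prime) → Group.IsSolvable G := by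
  refine CfsgLib.Supersolvable.groupInduction
    (P := fun G _ _ => (∀ M : Subgroup G, IsCoatom M → M.index.Prime) → Group.IsSolvable G)
    (fun G _ _ ih h => ?_) G
  rcases subsingleton_or_nontrivial G with h' | h'
  · infer_instance
  obtain ⟨p, hp, hpd, -, hP⟩ := exists_normal_sylow h
  haveI : Fact p.Prime := ⟨hp⟩
  obtain ⟨P⟩ : Nonempty (Sylow p G) := inferInstance
  haveI := hP P
  haveI : Group.IsSolvable (P : Subgroup G) := by
    haveI := P.isPGroup'.isNilpotent
    infer_instance
  haveI : Group.IsSolvable (G ⧸ (P : Subgroup G)) := by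
    refine ih _ (CfsgLib.Supersolvable.card_quotient_lt (P.ne_bot_of_dvd_card hpd)) fun M hM => ?_
    rw [← Subgroup.index_comap_of_surjective M (QuotientGroup.mk'_surjective _)]
    exact h _ (Subgroup.isCoatom_comap_of_surjective (QuotientGroup.mk'_surjective _) hM)
  exact Group.isSolvable_of_ker_le_range (P : Subgroup G).subtype (QuotientGroup.mk' (P : Subgroup G))
    (by rw [QuotientGroup.ker_mk', Subgroup.range_subtype])

/-- If every maximal subgroup of a finite group has prime index, then the group is solvable. -/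
theorem result {G : Type*} [Group G] [Finite G] (h : ∀ M : Subgroup G, IsCoatom M → M.index.Prime) : Group.IsSolvable G := by
  exact solvable G h

end Cfsg.Agent.S0580
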