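import Cfsg.Statements.S0579
import Cfsg.Agent.S0580
import Cfsg.Agent.Lib.Supersolvable.Tower
import Cfsg.Agent.Lib.Solvable.Frattini
import Cfsg.Agent.Lib.Solvable.CoprimeAction
import Cfsg.Agent.Lib.Solvable.Gaschutz
import Mathlib.FieldTheory.Finite.Basic
import Mathlib.Tactic
-- import your own Cfsg.Agent.* helpers here

set_option autoImplicit false
open Cfsg

open scoped commutatorElement

namespace Cfsg.Agent.S0579

universe u

/-- In a supersolvable group the `(p-1)`-st power of a `p'`-element centralizes a normal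
`p`-subgroup. -/
theorem pow_commute (G : Type u) [Group G] [Finite G] : ∀ (p : ℕ) (P : Subgroup G), p.Prime →
    P.Normal → IsPGroup p P → Cfsg.IsSupersolvable G → ∀ h : G, (orderOf h).Coprime p →
    ∀ y ∈ P, h ^ (p - 1) * y = y * h ^ (p - 1) := by
  refine CfsgLib.Supersolvable.groupInduction (P := fun G _ _ => ∀ (p : ℕ) (P : Subgroup G),
    p.Prime → P.Normal → IsPGroup p P → Cfsg.IsSupersolvable G → ∀ h : G, (orderOf h).Coprime p →
    ∀ y ∈ P, h ^ (p - 1) * y = y * h ^ (p - 1)) (fun G _ _ ih p P hp hPn hPp hG h hh y hy => ?_) G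
  rcases subsingleton_or_nontrivial G with h' | h'
  · exact Subsingleton.elim _ _
  haveI := hPn
  haveI := Fact.mk hp
  obtain ⟨Z, hZ, hZp⟩ := CfsgLib.Supersolvable.exists_normal_prime hG
  haveI := hZ
  set x := h ^ (p - 1) with hx
  set π := QuotientGroup.mk' Z
  have hmod : x * y * x⁻¹ * y⁻¹ ∈ Z := by
    have h1 := ih (G ⧸ Z)
      (CfsgLib.Supersolvable.card_quotient_lt (CfsgLib.Supersolvable.prime_card_ne_bot hZp)) p
      (P.map π) hp (hPn.map π (QuotientGroup.mk'_surjective Z)) (hPp.map π)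
      (CfsgLib.Supersolvable.quotient hG Z) (π h)
      (Nat.Coprime.coprime_dvd_left (orderOf_map_dvd π h) hh) (π y) ⟨y, hy, rfl⟩
    refine (QuotientGroup.eq_one_iff _).1 (show π (x * y * x⁻¹ * y⁻¹) = 1 from ?_)
    rw [map_mul, map_mul, map_mul, map_inv, map_inv, hx, map_pow, h1]
    group
  have hmodP : x * y * x⁻¹ * y⁻¹ ∈ P := P.mul_mem (hPn.conj_mem y hy x) (P.inv_mem hy)
  set z := x * y * x⁻¹ * y⁻¹ with hz
  rw [← mul_inv_eq_iff_eq_mul, ← mul_inv_eq_one, ← hz]
  by_cases hZP : Z ≤ P
  swap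
  · have hinf : Z ⊓ P = ⊥ := by
      haveI := Fact.mk hZp
      exact ((Z ⊓ P).subgroupOf Z).eq_bot_or_eq_top_of_prime_card.elim
        (fun h => by rwa [Subgroup.subgroupOf_eq_bot, disjoint_iff, inf_assoc, inf_comm P Z,
          ← inf_assoc, inf_idem] at h)
        (fun h => absurd ((Subgroup.subgroupOf_eq_top.1 h).trans inf_le_right) hZP)
    have : z ∈ Z ⊓ P := ⟨hmod, hmodP⟩
    rwa [hinf, Subgroup.mem_bot] at this
  have hZcard : Nat.card Z = p := by
    obtain ⟨k, hk⟩ := (IsPGroup.of_injective hPp (Subgroup.inclusion hZP)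
      (Subgroup.inclusion_injective hZP)).exists_card_eq
    rw [hk] at hZp ⊢
    rw [Nat.Prime.pow_eq_iff hZp |>.1 rfl |>.2, pow_one]
  haveI : Fact (Nat.card Z).Prime := ⟨hZp⟩
  haveI : IsCyclic Z := isCyclic_of_prime_card rfl
  obtain ⟨⟨g, hgZ⟩, hgen⟩ := IsCyclic.exists_generator (α := Z)
  have hgen' : ∀ w ∈ Z, ∃ i : ℤ, g ^ i = w := fun w hw => by
    obtain ⟨i, hi⟩ := Subgroup.mem_zpowers_iff.1 (hgen ⟨w, hw⟩)
    exact ⟨i, congrArg Subtype.val hi⟩
  have hgp : g ^ p = 1 := by
    have := congrArg Subtype.val (pow_card_eq_one' (x := (⟨g, hgZ⟩ : Z)))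
    rwa [hZcard] at this
  obtain ⟨k, hk⟩ := hgen' _ (hZ.conj_mem g hgZ h)
  have hpow : ∀ n : ℕ, h ^ n * g * (h ^ n)⁻¹ = g ^ (k ^ n) := by
    intro n
    induction n with
    | zero => simp
    | succ n ihn =>
      calc h ^ (n + 1) * g * (h ^ (n + 1))⁻¹ = h * (h ^ n * g * (h ^ n)⁻¹) * h⁻¹ := by
            rw [pow_succ']; group
        _ = (h * g * h⁻¹) ^ (k ^ n) := by rw [ihn, conj_zpow]
        _ = _ := by rw [← hk, ← zpow_mul, pow_succ']
  have hxg : x * g = g * x := by
    rw [← mul_inv_eq_iff_eq_mul, hx, hpow]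
    by_cases hg1 : g = 1
    · simp [hg1]
    have hk0 : (k : ZMod p) ≠ 0 := by
      intro h0
      rw [ZMod.intCast_zmod_eq_zero_iff_dvd] at h0
      obtain ⟨j, rfl⟩ := h0
      rw [zpow_mul, zpow_natCast, hgp, one_zpow] at hk
      exact hg1 (by simpa using hk.symm)
    have h1 : ((k ^ (p - 1) : ℤ) : ZMod p) = ((1 : ℤ) : ZMod p) := by
      push_cast
      exact ZMod.pow_card_sub_one_eq_one hk0
    obtain ⟨j, hj⟩ := (ZMod.intCast_eq_intCast_iff_dvd_sub _ _ p).1 h1.symm
    rw [eq_add_of_sub_eq hj, zpow_add, zpow_mul, zpow_natCast, hgp, one_zpow, one_mul, zpow_one]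
  have hxZ : ∀ w ∈ Z, x * w = w * x := fun w hw => by
    obtain ⟨i, rfl⟩ := hgen' w hw
    exact (Commute.zpow_right hxg i).eq
  have hxy : x * y * x⁻¹ = z * y := by rw [hz]; group
  have hiter : ∀ n : ℕ, x ^ n * y * (x ^ n)⁻¹ = z ^ n * y := by
    intro n
    induction n with
    | zero => simp
    | succ n ihn =>
      calc x ^ (n + 1) * y * (x ^ (n + 1))⁻¹ = x * (x ^ n * y * (x ^ n)⁻¹) * x⁻¹ := by
            rw [pow_succ']; group
        _ = (x * z ^ n * x⁻¹) * (x * y * x⁻¹) := by rw [ihn]; group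
        _ = _ := by
          rw [hxZ _ (Z.pow_mem hmod n), mul_inv_cancel_right, hxy, ← mul_assoc, pow_succ]
  have h1 : z ^ orderOf h = 1 := by
    have e := hiter (orderOf h)
    have : x ^ orderOf h = 1 := by
      rw [hx, ← pow_mul, mul_comm, pow_mul, pow_orderOf_eq_one, one_pow]
    rw [this, one_mul, inv_one, mul_one] at e
    exact (right_eq_mul.1 e)
  have h2 : z ^ p = 1 := by
    have := congrArg Subtype.val (pow_card_eq_one' (x := (⟨z, hmod⟩ : Z)))
    rwa [hZcard] at this
  rw [← orderOf_eq_one_iff]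
  exact Nat.eq_one_of_dvd_coprimes hh (orderOf_dvd_of_pow_eq_one h1) (orderOf_dvd_of_pow_eq_one h2)

open Polynomial in
theorem exists_eigen_add {V : Type u} [AddCommGroup V] [Nontrivial V] {p : ℕ} [Fact p.Prime]
    [Module (ZMod p) V] (f : V →+ V) (hf : ∀ x, (f^[p]) x = f x) :
    ∃ v : V, v ≠ 0 ∧ ∃ c : ℕ, f v = c • v := by
  classical
  let F : Module.End (ZMod p) V := f.toZModLinearMap p
  have hF : F ^ p = F := by
    refine LinearMap.ext fun x => ?_
    rw [Module.End.pow_apply]
    exact hf x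
  by_contra hcon
  push Not at hcon
  have hinj : ∀ c : ZMod p, Function.Injective (aeval F (X - C c)) := by
    intro c
    rw [← LinearMap.ker_eq_bot, LinearMap.ker_eq_bot']
    intro x hx
    by_contra hx0
    refine hcon x hx0 c.val ?_
    rw [map_sub, aeval_X, aeval_C, LinearMap.sub_apply, sub_eq_zero,
      Module.algebraMap_end_apply, ← ZMod.natCast_zmod_val c, Nat.cast_smul_eq_nsmul] at hx
    exact hx
  have hprod : ∀ s : Finset (ZMod p), Function.Injective (aeval F (∏ c ∈ s, (X - C c))) := by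
    intro s
    induction s using Finset.induction_on with
    | empty =>
      rw [Finset.prod_empty, map_one]
      exact fun a b h => h
    | insert a s ha ihs =>
      rw [Finset.prod_insert ha, map_mul, Module.End.coe_mul]
      exact (hinj a).comp ihs
  have hpoly : (∏ c : ZMod p, (X - C c)) = X ^ p - X := by
    have hp := (Fact.out : p.Prime).one_lt
    have h1 : (X ^ p - X : (ZMod p)[X]).roots = (Finset.univ : Finset (ZMod p)).val := by
      have := FiniteField.roots_X_pow_card_sub_X (ZMod p)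
      rwa [ZMod.card] at this
    have h2 := prod_multiset_X_sub_C_of_monic_of_roots_card_eq
      (p := (X ^ p - X : (ZMod p)[X])) (monic_X_pow_sub (by rw [degree_X]; exact_mod_cast hp))
      (by rw [h1, FiniteField.X_pow_card_sub_X_natDegree_eq _ hp]; exact ZMod.card p)
    rw [h1] at h2
    exact h2
  have := hprod Finset.univ
  rw [hpoly, map_sub, map_pow, aeval_X, hF, sub_self] at this
  obtain ⟨n, hn⟩ := exists_ne (0 : V)
  exact hn (this (a₁ := n) (a₂ := 0) rfl)

/-- An automorphism with `(p-1)`-st power one of an elementary abelian `p`-group has an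
eigenvector. -/
theorem exists_eigen {N : Type u} [CommGroup N] [Nontrivial N] {p : ℕ} [Fact p.Prime]
    (hN : ∀ n : N, n ^ p = 1) (f : N →* N) (hf : ∀ n, (f^[p - 1]) n = n) :
    ∃ n : N, n ≠ 1 ∧ ∃ c : ℕ, f n = n ^ c := by
  have hp := (Fact.out : p.Prime).one_lt
  obtain ⟨v, hv, c, hc⟩ := @exists_eigen_add (Additive N) _ _ p _
    (AddCommGroup.zmodModule fun x => congrArg Additive.ofMul (hN x.toMul))
    (MonoidHom.toAdditive f) (fun x => by
      have e : ∀ m : ℕ, (MonoidHom.toAdditive f)^[m] x = Additive.ofMul (f^[m] x.toMul) := by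
        intro m
        induction m with
        | zero => rfl
        | succ m ihm => rw [Function.iterate_succ_apply', ihm, Function.iterate_succ_apply']; rfl
      rw [e, show p = 1 + (p - 1) by omega, Function.iterate_add_apply, hf]
      rfl)
  exact ⟨v.toMul, fun e => hv (congrArg Additive.ofMul e), c, congrArg Additive.toMul hc⟩

theorem supersolvable (G : Type u) [Group G] [Finite G] :
    (∀ M : Subgroup G, IsCoatom M → M.index.Prime) → Cfsg.IsSupersolvable G := by
  refine CfsgLib.Supersolvable.groupInduction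
    (P := fun G _ _ => (∀ M : Subgroup G, IsCoatom M → M.index.Prime) → Cfsg.IsSupersolvable G)
    (fun G _ _ ih h => ?_) G
  rcases subsingleton_or_nontrivial G with h' | h'
  · exact CfsgLib.Supersolvable.of_subsingleton
  haveI := Cfsg.Agent.S0580.solvable G h
  have hquot : ∀ (K : Subgroup G) [K.Normal], K ≠ ⊥ → Cfsg.IsSupersolvable (G ⧸ K) :=
    fun K _ hK => ih _ (CfsgLib.Supersolvable.card_quotient_lt hK) fun M hM => by
      rw [← Subgroup.index_comap_of_surjective M (QuotientGroup.mk'_surjective K)]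
      exact h _ (Subgroup.isCoatom_comap_of_surjective (QuotientGroup.mk'_surjective K) hM)
  obtain ⟨N, hN, hNne, -, hmin⟩ :=
    CfsgLib.Solvable.exists_minimal_normal_le (⊤ : Subgroup G) top_ne_bot
  haveI := hN
  obtain ⟨hNcomm, q, hq, hNq⟩ := CfsgLib.Solvable.minimal_normal_elementary_abelian N hNne hmin
  haveI := hNcomm
  by_cases hΦ : N ≤ frattini G
  swap
  · obtain ⟨M, hM, hNM⟩ : ∃ M : Subgroup G, IsCoatom M ∧ ¬ N ≤ M := by
      by_contra hcon
      push Not at hcon
      refine hΦ ?_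
      simp only [frattini, Order.radical, le_iInf_iff]
      exact hcon
    have := CfsgLib.Solvable.isComplement'_of_not_le N hmin hM hNM
    refine CfsgLib.Supersolvable.of_quotient_prime N ?_ (hquot N hNne)
    rw [← this.index_eq_card]
    exact h M hM
  -- `N` is in every nontrivial normal subgroup
  by_cases huniq : ∀ K : Subgroup G, K.Normal → K ≠ ⊥ → N ≤ K
  swap
  · push Not at huniq
    obtain ⟨K, hK, hKne, hNK⟩ := huniq
    haveI := hK
    refine CfsgLib.Supersolvable.of_subdirect N K ?_ (hquot N hNne) (hquot K hKne)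
    exact (hmin _ inferInstance inf_le_left).resolve_right fun e => hNK (inf_eq_left.1 e)
  obtain ⟨p, hp, hpd, -, hPn⟩ := Cfsg.Agent.S0580.exists_normal_sylow h
  haveI := Fact.mk hp
  obtain ⟨P⟩ : Nonempty (Sylow p G) := inferInstance
  haveI := hPn P
  have hNP : N ≤ P := huniq _ (hPn P) (P.ne_bot_of_dvd_card hpd)
  have hNp : IsPGroup p N := IsPGroup.to_le P.isPGroup' hNP
  have hNexp : ∀ n ∈ N, n ^ p = 1 := by
    intro n hn
    by_cases h1 : n = 1
    · simp [h1]
    haveI := Fact.mk hq
    have e1 : orderOf n = q := orderOf_eq_prime (hNq n hn) h1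
    obtain ⟨k, hk⟩ := (IsPGroup.iff_orderOf.1 hNp) ⟨n, hn⟩
    rw [Subgroup.orderOf_mk, e1] at hk
    rw [hk] at hq
    rw [(Nat.Prime.pow_eq_iff hq).1 rfl |>.2, pow_one] at hk
    rw [← hk]
    exact hNq n hn
  -- `N` is centralized by `P`
  have hNC : N ≤ Subgroup.centralizer ((P : Subgroup G) : Set G) := by
    have hne : N.subgroupOf (P : Subgroup G) ≠ ⊥ := by
      rw [Ne, Subgroup.subgroupOf_eq_bot, disjoint_iff, inf_eq_left.2 hNP]
      exact hNne
    obtain ⟨z, hz, hz1⟩ := CfsgLib.Solvable.exists_ne_one_mem_inf_center_of_normal P.isPGroup' hne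
    rcases hmin (N ⊓ Subgroup.centralizer ((P : Subgroup G) : Set G)) inferInstance inf_le_left
      with h2 | h2
    · exfalso
      refine hz1 (Subtype.ext ?_)
      have : (z : G) ∈ N ⊓ Subgroup.centralizer ((P : Subgroup G) : Set G) := ⟨hz.1,
        Subgroup.mem_centralizer_iff.2 fun l hl =>
          congrArg Subtype.val (Subgroup.mem_center_iff.1 hz.2 ⟨l, hl⟩)⟩
      rw [h2, Subgroup.mem_bot] at this
      simpa using this
    · exact inf_eq_left.1 h2
  -- nilpotent normal subgroups lie in `P`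
  have hnilP : ∀ K : Subgroup G, K.Normal → Group.IsNilpotent K → K ≤ P := by
    intro K hK hKn
    refine le_trans (CfsgLib.Solvable.le_iSup_pCore hK hKn) (iSup_le fun r => ?_)
    haveI := Fact.mk (Nat.mem_primeFactors.1 r.2).1
    by_cases hrp : (r : ℕ) = p
    · rw [hrp]; exact CfsgLib.Solvable.pCore_le_sylow P
    · have : Cfsg.pCore (r : ℕ) G = ⊥ := by
        by_contra hne
        have h2 := huniq _ (CfsgLib.Solvable.pCore_normal (p := (r : ℕ)) G) hne
        exact hNne (eq_bot_iff.2 fun n hn => disjoint_iff_inf_le.1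
          (IsPGroup.disjoint_of_ne (r : ℕ) p hrp _ _ (CfsgLib.Solvable.pCore_isPGroup (p := (r : ℕ)) G)
            hNp) ⟨h2 hn, hn⟩)
      rw [this]; exact bot_le
  have hCP : Subgroup.centralizer ((P : Subgroup G) : Set G) ≤ P := by
    have hF := hnilP _ (CfsgLib.Solvable.fittingSubgroup_normal G)
      (CfsgLib.Solvable.fittingSubgroup_isNilpotent G)
    exact le_trans (Subgroup.centralizer_le hF)
      (le_trans CfsgLib.Solvable.centralizer_fittingSubgroup_le hF)
  have hcommP : commutator G ≤ P := by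
    refine hnilP _ inferInstance (CfsgLib.Solvable.isNilpotent_of_map_mk'_isNilpotent _ N hΦ ?_)
    have e : (commutator G).map (QuotientGroup.mk' N) = commutator (G ⧸ N) := by
      rw [commutator_def, commutator_def, Subgroup.map_commutator,
        Subgroup.map_top_of_surjective _ (QuotientGroup.mk'_surjective N)]
    rw [e]
    exact CfsgLib.Supersolvable.commutator_nilpotent (hquot N hNne)
  -- the action of `G` on `N` is that of an abelian group
  have habel : ∀ a b : G, ∀ n ∈ N, a * (b * n * b⁻¹) * a⁻¹ = b * (a * n * a⁻¹) * b⁻¹ := by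
    intro a b n hn
    have hu : (b * a)⁻¹ * (a * b) ∈ (P : Subgroup G) := by
      refine hcommP ?_
      have : (b * a)⁻¹ * (a * b) = ⁅a⁻¹, b⁻¹⁆ := by rw [commutatorElement_def]; group
      rw [this, commutator_def]
      exact Subgroup.commutator_mem_commutator (Subgroup.mem_top _) (Subgroup.mem_top _)
    have h1 := Subgroup.mem_centralizer_iff.1 (hNC hn) _ hu
    calc a * (b * n * b⁻¹) * a⁻¹ = (b * a) * (((b * a)⁻¹ * (a * b)) * n) * (a * b)⁻¹ := by group
      _ = _ := by rw [h1]; group
  have hCfix : ∀ x : G, (N ⊓ Subgroup.centralizer ({x} : Set G)).Normal := by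
    intro x
    refine ⟨fun n hn g => ⟨hN.conj_mem n hn.1 g, Subgroup.mem_centralizer_singleton_iff.2 ?_⟩⟩
    have h1 : n * x = x * n := Subgroup.mem_centralizer_singleton_iff.1 hn.2
    have h2 : x * n * x⁻¹ = n := by rw [← h1, mul_inv_cancel_right]
    have h3 := habel x g n hn.1
    rw [h2, mul_inv_eq_iff_eq_mul] at h3
    exact h3.symm
  have hx1 : ∀ h₀ : G, (orderOf h₀).Coprime p → h₀ ^ (p - 1) = 1 := by
    intro h₀ hcop
    set x := h₀ ^ (p - 1)
    have hxcop : (orderOf x).Coprime p := Nat.Coprime.coprime_dvd_left (orderOf_pow_dvd _) hcop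
    set π := QuotientGroup.mk' N
    have hmodN : ∀ a ∈ Subgroup.zpowers x, ∀ y ∈ (P : Subgroup G), a * y * a⁻¹ * y⁻¹ ∈ N := by
      intro a ha y hy
      obtain ⟨i, rfl⟩ := Subgroup.mem_zpowers_iff.1 ha
      have hc : Commute (π x) (π y) := by
        rw [map_pow]
        exact pow_commute (G ⧸ N) p ((P : Subgroup G).map π) hp
          (Subgroup.Normal.map inferInstance π (QuotientGroup.mk'_surjective N))
          (P.isPGroup'.map π) (hquot N hNne) (π h₀)
          (Nat.Coprime.coprime_dvd_left (orderOf_map_dvd π h₀) hcop) (π y) ⟨y, hy, rfl⟩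
      refine (QuotientGroup.eq_one_iff _).1 (show π (x ^ i * y * (x ^ i)⁻¹ * y⁻¹) = 1 from ?_)
      rw [map_mul, map_mul, map_mul, map_inv, map_inv, map_zpow, (hc.zpow_left i).eq]
      group
    set C : Subgroup G := (P : Subgroup G) ⊓ Subgroup.centralizer (Subgroup.zpowers x : Set G)
    have hxcard : (Nat.card (Subgroup.zpowers x)).Coprime (Nat.card (P : Subgroup G)) := by
      rw [Nat.card_zpowers]
      obtain ⟨k, hk⟩ := P.isPGroup'.exists_card_eq
      rw [hk]
      exact hxcop.pow_right k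
    have hnormtop : ∀ (K : Subgroup G) [K.Normal] (S : Subgroup G),
        S ≤ Subgroup.normalizer (K : Set G) := fun K _ S => by
      rw [Subgroup.normalizer_eq_top K]; exact le_top
    have hPC : ∀ y ∈ (P : Subgroup G), ∃ n ∈ N, ∃ c ∈ C, y = n * c := by
      intro y hy
      obtain ⟨c, hc, hcn⟩ := CfsgLib.Solvable.exists_fixed_of_fixed_mod
        (hnormtop (P : Subgroup G) _) hxcard (Or.inr inferInstance) hNP (hnormtop N _)
        (hnormtop N _) hy fun a ha => hmodN a ha y hy
      refine ⟨y * (y⁻¹ * c)⁻¹ * y⁻¹, hN.conj_mem _ (inv_mem hcn) y, c, hc, by group⟩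
    rcases hmin _ (hCfix x) inf_le_left with h2 | h2
    · -- `C` complements `N` in `P`, so `N` is complemented in `G`
      exfalso
      have hCN : C ⊓ N = ⊥ := by
        rw [eq_bot_iff, ← h2]
        rintro n ⟨⟨-, hnc⟩, hnN⟩
        exact ⟨hnN, Subgroup.mem_centralizer_singleton_iff.2
          (Subgroup.mem_centralizer_iff.1 hnc x (Subgroup.mem_zpowers x)).symm⟩
      have hcop' : (Nat.card N).Coprime (P : Subgroup G).index := by
        obtain ⟨k, hk⟩ := hNp.exists_card_eq
        rw [hk]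
        exact ((Nat.Prime.coprime_iff_not_dvd hp).2 P.not_dvd_index).pow_left k
      obtain ⟨H, hH⟩ := CfsgLib.Solvable.exists_isComplement'_of_le (K := N) (A := C) hNP hcop'
        hCN (le_antisymm (sup_le hNP inf_le_left) fun y hy => by
          obtain ⟨n, hn, c, hc, rfl⟩ := hPC y hy
          exact Subgroup.mul_mem_sup hn hc)
      exact (CfsgLib.Solvable.complemented_iff_not_le_frattini N hNne hmin).1 ⟨H, hH⟩ hΦ
    · have hxC : x ∈ Subgroup.centralizer ((P : Subgroup G) : Set G) := by
        refine Subgroup.mem_centralizer_iff.2 fun y hy => ?_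
        obtain ⟨n, hn, c, hc, rfl⟩ := hPC y hy
        have e1 : n * x = x * n :=
          Subgroup.mem_centralizer_singleton_iff.1 ((inf_eq_left.1 h2) hn)
        have e2 : c * x = x * c :=
          (Subgroup.mem_centralizer_iff.1 hc.2 x (Subgroup.mem_zpowers x)).symm
        exact Commute.mul_left e1 e2
      rw [← orderOf_eq_one_iff]
      obtain ⟨k, hk⟩ := P.isPGroup'.exists_card_eq
      exact Nat.eq_one_of_dvd_coprimes (hxcop.pow_right k) dvd_rfl
        (hk ▸ Subgroup.orderOf_dvd_natCard (P : Subgroup G) (hCP hxC))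
  have hpow : ∀ g : G, g ^ (p - 1) ∈ (P : Subgroup G) := by
    intro g
    obtain ⟨a, m, hm, he⟩ := Nat.exists_eq_pow_mul_and_not_dvd (orderOf_pos g).ne' p hp.ne_one
    have h2 : (g ^ (p ^ a)) ^ (p - 1) = 1 := by
      refine hx1 _ ?_
      rw [orderOf_pow_of_dvd (pow_ne_zero _ hp.ne_zero) (he ▸ dvd_mul_right _ _), he,
        Nat.mul_div_cancel_left _ (pow_pos hp.pos a)]
      exact ((Nat.Prime.coprime_iff_not_dvd hp).2 hm).symm
    rw [← pow_mul, mul_comm, pow_mul] at h2
    have hz : IsPGroup p (Subgroup.zpowers (g ^ (p - 1))) := by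
      obtain ⟨j, hj, hje⟩ := (Nat.dvd_prime_pow hp).1 (orderOf_dvd_of_pow_eq_one h2)
      exact IsPGroup.of_card (n := j) (by rw [Nat.card_zpowers, hje])
    obtain ⟨Q, hQ⟩ := hz.exists_le_sylow
    haveI := Sylow.unique_of_normal P (hPn P)
    rw [Subsingleton.elim Q P] at hQ
    exact hQ (Subgroup.mem_zpowers _)
  have hscal : ∀ g : G, ∃ c : ℕ, ∀ n ∈ N, g * n * g⁻¹ = n ^ c := by
    intro g
    letI : CommGroup N :=
      { (inferInstance : Group N) with mul_comm := fun a b => Subtype.ext (setLike_mul_comm a.2 b.2) }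
    haveI : Nontrivial N := Subgroup.nontrivial_iff_ne_bot N |>.2 hNne
    let f : N →* N :=
      { toFun := fun n => ⟨g * n * g⁻¹, hN.conj_mem n n.2 g⟩
        map_one' := Subtype.ext (by simp)
        map_mul' := fun a b => Subtype.ext (by simp [mul_assoc]) }
    have hfi : ∀ (i : ℕ) (n : N), ((f^[i] n : N) : G) = g ^ i * n * (g ^ i)⁻¹ := by
      intro i
      induction i with
      | zero => intro n; simp
      | succ i ihi =>
        intro n
        rw [Function.iterate_succ_apply']
        show g * (f^[i] n : N) * g⁻¹ = _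
        rw [ihi, pow_succ']; group
    obtain ⟨n, hn1, c, hc⟩ := exists_eigen (p := p)
      (fun n => Subtype.ext (by simpa using hNexp n n.2)) f (fun n => Subtype.ext (by
        rw [hfi, Subgroup.mem_centralizer_iff.1 (hNC n.2) _ (hpow g), mul_inv_cancel_right]))
    refine ⟨c, ?_⟩
    let S : Subgroup G :=
      { carrier := {n | n ∈ N ∧ g * n * g⁻¹ = n ^ c}
        one_mem' := ⟨one_mem _, by simp⟩
        mul_mem' := fun {a b} ha hb => ⟨mul_mem ha.1 hb.1, by
          rw [(show Commute a b from setLike_mul_comm ha.1 hb.1).mul_pow, ← ha.2, ← hb.2]; group⟩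
        inv_mem' := fun {a} ha => ⟨inv_mem ha.1, by rw [inv_pow, ← ha.2]; group⟩ }
    have hS : S.Normal := ⟨fun y hy b => ⟨hN.conj_mem y hy.1 b, by
      rw [habel g b y hy.1, hy.2, conj_pow]⟩⟩
    have hSN : S = N := by
      refine (hmin S hS fun y hy => hy.1).resolve_left fun hb => hn1 (Subtype.ext ?_)
      have : (n : G) ∈ S := ⟨n.2, by simpa [f] using congrArg Subtype.val hc⟩
      rw [hb, Subgroup.mem_bot] at this
      simpa using this
    intro y hy
    rw [← hSN] at hy
    exact hy.2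
  obtain ⟨n, hn, hn1⟩ := (Subgroup.bot_or_exists_ne_one N).resolve_left hNne
  have hzn : (Subgroup.zpowers n).Normal := by
    refine ⟨fun y hy g => ?_⟩
    obtain ⟨c, hc⟩ := hscal g
    rw [hc y (Subgroup.zpowers_le.2 hn hy)]
    exact pow_mem hy c
  have hzN : Subgroup.zpowers n = N := (hmin _ hzn (Subgroup.zpowers_le.2 hn)).resolve_left
    fun e => hn1 (Subgroup.zpowers_eq_bot.1 e)
  refine CfsgLib.Supersolvable.of_quotient_prime N ?_ (hquot N hNne)
  rw [← hzN, Nat.card_zpowers, orderOf_eq_prime (hNexp n hn) hn1]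
  exact hp

/-- Huppert's supersolvability criterion: if every maximal subgroup of a finite group has prime index, then the group is supersolvable. -/
theorem result {G : Type*} [Group G] [Finite G] (h : ∀ M : Subgroup G, IsCoatom M → M.index.Prime) : Cfsg.IsSupersolvable G := by
  exact supersolvable G h

end Cfsg.Agent.S0579
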