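import Cfsg.Statements.S0581
import Cfsg.Agent.Lib.Fusion.FrobeniusCriterion
import Cfsg.Agent.Lib.Solvable.Basic
import Mathlib.Tactic
-- import your own Cfsg.Agent.* helpers here

set_option autoImplicit false
open Pointwise
open Cfsg

namespace Cfsg.Agent.S0581

universe u

variable {G : Type u} [Group G] [Finite G]

/-- `H` contains a Sylow subgroup of `G` for each prime dividing its order. -/
theorem exists_sylow_le (H : Subgroup G) (hHall : (Nat.card H).Coprime H.index) {r : ℕ}
    [Fact r.Prime] (hr : r ∣ Nat.card H) (S : Sylow r H) :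
    ¬ r ∣ ((S : Subgroup H).map H.subtype).index := by
  rw [Subgroup.index_map_subtype, Nat.Prime.dvd_mul (Fact.out : r.Prime)]
  rintro (h | h)
  · exact S.not_dvd_index h
  · exact (Fact.out : r.Prime).ne_one (Nat.eq_one_of_dvd_coprimes hHall hr h)

/-- In a nilpotent group, elements of order prime to `q` centralize `q`-subgroups. -/
theorem le_centralizer_of_nilpotent {H : Subgroup G} (hH : Group.IsNilpotent H) {q : ℕ}
    [Fact q.Prime] {Q : Subgroup G} (hQH : Q ≤ H) (hQ : IsPGroup q Q) {x : G} (hx : x ∈ H)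
    (hco : (orderOf x).Coprime q) : x ∈ Subgroup.centralizer (Q : Set G) := by
  haveI := hH
  set C : Subgroup H := Subgroup.centralizer ((Q.subgroupOf H : Subgroup H) : Set H) with hC
  have hQ' : IsPGroup q (Q.subgroupOf H) := hQ.comap_subtype
  obtain ⟨P, hP⟩ := hQ'.exists_le_sylow
  have hidx : ∀ r, r.Prime → r ∣ C.index → r = q := by
    intro r hr hrd
    by_contra hrq
    haveI := Fact.mk hr
    obtain ⟨S⟩ : Nonempty (Sylow r H) := inferInstance
    have hS : (S : Subgroup H) ≤ C := by
      intro s hs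
      rw [hC, Subgroup.mem_centralizer_iff]
      intro z hz
      exact (Subgroup.commute_of_normal_of_disjoint _ _ inferInstance inferInstance
        (IsPGroup.disjoint_of_ne q r (Ne.symm hrq) _ _ P.isPGroup' S.isPGroup') z s (hP hz) hs).eq
    exact S.not_dvd_index (hrd.trans (Subgroup.index_dvd_of_le hS))
  set y : H := ⟨x, hx⟩
  have hy : y ∈ (Subgroup.centralizer ((P : Subgroup H) : Set H)) := by
    set D : Subgroup H := Subgroup.centralizer ((P : Subgroup H) : Set H)
    have hDn : D.Normal := inferInstance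
    have hidx' : (orderOf y).Coprime D.index := by
      refine Nat.coprime_of_dvd fun r hr h1 h2 => ?_
      haveI := Fact.mk hr
      have hrq : r ≠ q := by
        rintro rfl
        rw [show y = ⟨x, hx⟩ from rfl, Subgroup.orderOf_mk] at h1
        exact hr.ne_one (Nat.eq_one_of_dvd_coprimes hco h1 dvd_rfl)
      obtain ⟨S⟩ : Nonempty (Sylow r H) := inferInstance
      have hS : (S : Subgroup H) ≤ D := by
        intro s hs
        rw [Subgroup.mem_centralizer_iff]
        intro z hz
        exact (Subgroup.commute_of_normal_of_disjoint _ _ inferInstance inferInstance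
          (IsPGroup.disjoint_of_ne q r (Ne.symm hrq) _ _ P.isPGroup' S.isPGroup') z s hz hs).eq
      exact S.not_dvd_index (h2.trans (Subgroup.index_dvd_of_le hS))
    obtain ⟨j, hj⟩ := exists_pow_eq_self_of_coprime hidx'.symm
    rw [← hj]
    exact D.pow_mem (D.pow_index_mem y) j
  rw [Subgroup.mem_centralizer_iff] at hy ⊢
  intro z hz
  exact congrArg Subtype.val (hy ⟨z, hQH hz⟩ (hP (Subgroup.mem_subgroupOf.2 hz)))

/-- An element normalizing `R` whose order is prime to the index of a subgroup centralizing `R`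
centralizes `R`. -/
theorem mem_centralizer_of_coprime {R : Subgroup G} {g : G}
    (hg : g ∈ Subgroup.normalizer (R : Set G))
    (h : ∀ r : ℕ, r.Prime → r ∣ orderOf g →
      ∃ D ≤ Subgroup.centralizer (R : Set G), ¬ r ∣ D.index) :
    g ∈ Subgroup.centralizer (R : Set G) := by
  set N := Subgroup.normalizer (R : Set G)
  set C : Subgroup N := (Subgroup.centralizer (R : Set G)).subgroupOf N with hCdef
  have hCn : C.Normal := by
    refine ⟨fun c hc n => ?_⟩
    rw [hCdef, Subgroup.mem_subgroupOf, Subgroup.mem_centralizer_iff] at hc ⊢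
    intro z hz
    have h1 : (n : G)⁻¹ * z * n ∈ R := by
      have := (Subgroup.mem_normalizer_iff.1 (N.inv_mem n.2) z).1 hz
      simpa using this
    have h2 := hc _ h1
    show z * ((n : G) * c * (n : G)⁻¹) = (n : G) * c * (n : G)⁻¹ * z
    calc z * ((n : G) * c * (n : G)⁻¹) = n * (((n : G)⁻¹ * z * n) * c) * (n : G)⁻¹ := by group
      _ = _ := by rw [h2]; group
  have hco : (orderOf (⟨g, hg⟩ : N)).Coprime C.index := by
    refine Nat.coprime_of_dvd fun r hr h1 h2 => ?_
    rw [Subgroup.orderOf_mk] at h1
    obtain ⟨D, hD, hrD⟩ := h r hr h1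
    refine hrD (h2.trans ?_)
    refine (Subgroup.relIndex_dvd_index_of_le ?_).trans (Subgroup.index_dvd_of_le hD)
    exact Subgroup.centralizer_le_normalizer _
  obtain ⟨j, hj⟩ := exists_pow_eq_self_of_coprime hco.symm
  have : (⟨g, hg⟩ : N) ∈ C := by rw [← hj]; exact C.pow_mem (C.pow_index_mem _) j
  exact this

/-- Wielandt: a nilpotent Hall subgroup contains a conjugate of every subgroup whose primes
divide its order. -/
theorem wielandt : ∀ (n : ℕ) (K : Subgroup G), Nat.card K = n → ∀ H : Subgroup G,
    Group.IsNilpotent H → (Nat.card H).Coprime H.index →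
    (∀ p : ℕ, p.Prime → p ∣ Nat.card K → p ∣ Nat.card H) →
    ∃ x : G, K ≤ MulAut.conj x • H := by
  intro n
  induction n using Nat.strong_induction_on with
  | _ n ih =>
    intro K hn H hH hHall hK
    by_cases hK1 : K = ⊥
    · exact ⟨1, hK1 ▸ bot_le⟩
    obtain ⟨q, hq, hqK⟩ := Nat.exists_prime_and_dvd (n := Nat.card K)
      (fun h => hK1 (Subgroup.card_eq_one.1 h))
    haveI := Fact.mk hq
    -- conjugates of `H`
    have hconj : ∀ g : G, Group.IsNilpotent (MulAut.conj g • H : Subgroup G) ∧
        Nat.card (MulAut.conj g • H : Subgroup G) = Nat.card H ∧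
        (Nat.card (MulAut.conj g • H : Subgroup G)).Coprime (MulAut.conj g • H : Subgroup G).index := by
      intro g
      have hc := CfsgLib.Solvable.card_conj_smul g H
      refine ⟨?_, hc, ?_⟩
      · haveI := hH
        exact Group.nilpotent_of_mulEquiv (Subgroup.equivSMul (MulAut.conj g) H)
      · have h1 := Subgroup.card_mul_index (MulAut.conj g • H : Subgroup G)
        rw [← Subgroup.card_mul_index H, hc] at h1
        rw [hc, Nat.eq_of_mul_eq_mul_left Nat.card_pos h1]
        exact hHall
    have hsylow : ∀ (r : ℕ) [Fact r.Prime] (Q : Subgroup G), r ∣ Nat.card H → IsPGroup r Q →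
        ∃ g : G, Q ≤ MulAut.conj g • H := by
      intro r _ Q hr hQ
      obtain ⟨S⟩ : Nonempty (Sylow r H) := inferInstance
      let T : Sylow r G := (S.isPGroup'.map H.subtype).toSylow (exists_sylow_le H hHall hr S)
      obtain ⟨T', hT'⟩ := hQ.exists_le_sylow
      obtain ⟨g, hg⟩ := MulAction.exists_smul_eq G T T'
      refine ⟨g, hT'.trans ?_⟩
      rw [← hg, Sylow.coe_subgroup_smul]
      refine Subgroup.pointwise_smul_le_pointwise_smul_iff.2 ?_
      exact (IsPGroup.toSylow_coe _ _).le.trans (Subgroup.map_subtype_le _)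
    -- `K` has a normal `q`-complement
    have hNPC : Cfsg.HasNormalPComplement q K := by
      refine CfsgLib.NPC.frobenius_criterion fun Q hQ g hg hco => ?_
      obtain ⟨x, hx⟩ := hsylow q (Q.map K.subtype) (hK q hq hqK) (hQ.map _)
      obtain ⟨hnil, hcard, hHall'⟩ := hconj x
      have hgc : (g : G) ∈ Subgroup.centralizer ((Q.map K.subtype : Subgroup G) : Set G) := by
        refine mem_centralizer_of_coprime
          (Subgroup.le_normalizer_map K.subtype (Subgroup.mem_map_of_mem _ hg)) fun r hr hrd => ?_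
        haveI := Fact.mk hr
        have hrq : r ≠ q := by
          rintro rfl
          rw [Subgroup.orderOf_coe] at hrd
          exact hr.ne_one (Nat.eq_one_of_dvd_coprimes hco hrd dvd_rfl)
        have hrH : r ∣ Nat.card (MulAut.conj x • H : Subgroup G) := by
          rw [hcard]
          exact hK r hr (hrd.trans (by rw [Subgroup.orderOf_coe]; exact orderOf_dvd_natCard g))
        obtain ⟨S⟩ : Nonempty (Sylow r (MulAut.conj x • H : Subgroup G)) := inferInstance
        refine ⟨_, ?_, exists_sylow_le _ hHall' hrH S⟩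
        rintro _ ⟨s, hs, rfl⟩
        refine le_centralizer_of_nilpotent hnil hx (hQ.map _) s.2 ?_
        obtain ⟨k, hk⟩ := (IsPGroup.iff_orderOf.1 S.isPGroup') ⟨s, hs⟩
        rw [Subgroup.orderOf_mk] at hk
        rw [Subgroup.coe_subtype, Subgroup.orderOf_coe, hk]
        exact ((Nat.coprime_primes hr hq).2 hrq).pow_left k
      rw [Subgroup.mem_centralizer_iff] at hgc ⊢
      exact fun z hz => Subtype.ext (hgc z ⟨z, hz, rfl⟩)
    obtain ⟨S, R₀, hR₀, hc⟩ := hNPC
    set R := R₀.map K.subtype with hRdef
    have hRcard : Nat.card R₀ = (S : Subgroup K).index := hc.index_eq_card.symm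
    have hRq : ¬ q ∣ Nat.card R := by
      rw [hRdef, Subgroup.card_subtype, hRcard]; exact S.not_dvd_index
    have hRK : R ≤ K := Subgroup.map_subtype_le _
    have hlt : Nat.card R < n := by
      rw [← hn]
      refine lt_of_le_of_ne (Nat.le_of_dvd Nat.card_pos (Subgroup.card_dvd_of_le hRK)) ?_
      exact fun e => hRq (e ▸ hqK)
    obtain ⟨x, hx⟩ := ih _ hlt R rfl H hH hHall
      fun p hp hpR => hK p hp (hpR.trans (Subgroup.card_dvd_of_le hRK))
    obtain ⟨hnil, hcard, hHall'⟩ := hconj x
    obtain ⟨A⟩ : Nonempty (Sylow q (MulAut.conj x • H : Subgroup G)) := inferInstance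
    set A' := (A : Subgroup (MulAut.conj x • H : Subgroup G)).map
      (MulAut.conj x • H : Subgroup G).subtype with hA'
    have hA'H : A' ≤ MulAut.conj x • H := Subgroup.map_subtype_le _
    have hAidx : ¬ q ∣ A'.index := exists_sylow_le _ hHall' (hcard ▸ hK q hq hqK) A
    have hAC : A' ≤ Subgroup.centralizer (R : Set G) := by
      rw [Subgroup.le_centralizer_iff]
      intro z hz
      exact le_centralizer_of_nilpotent hnil hA'H (A.isPGroup'.map _) (hx hz)
        (((Nat.Prime.coprime_iff_not_dvd hq).2 fun h =>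
          hRq (h.trans (Subgroup.orderOf_dvd_natCard R hz))).symm)
    set S' := (S : Subgroup K).map K.subtype with hS'
    have hS'C : S' ≤ Subgroup.centralizer (R : Set G) := by
      rintro _ ⟨s, hs, rfl⟩
      refine mem_centralizer_of_coprime (Subgroup.le_normalizer_map K.subtype
        (Subgroup.mem_map_of_mem _ (by rw [Subgroup.normalizer_eq_top R₀]; exact Subgroup.mem_top s)))
        fun r hr hrd => ⟨A', hAC, ?_⟩
      haveI := Fact.mk hr
      obtain ⟨k, hk⟩ := (IsPGroup.iff_orderOf.1 S.isPGroup') ⟨s, hs⟩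
      rw [Subgroup.orderOf_mk] at hk
      rw [Subgroup.coe_subtype, Subgroup.orderOf_coe, hk] at hrd
      have := (Nat.prime_dvd_prime_iff_eq hr hq).1 (hr.dvd_of_dvd_pow hrd)
      rw [this]
      exact hAidx
    set C := Subgroup.centralizer (R : Set G)
    have hApG : IsPGroup q (A'.subgroupOf C) := (A.isPGroup'.map _).comap_subtype
    let AC : Sylow q C := hApG.toSylow fun h => hAidx (h.trans (by
      exact Subgroup.relIndex_dvd_index_of_le hAC))
    obtain ⟨T, hT⟩ := IsPGroup.exists_le_sylow (p := q) (P := S'.subgroupOf C)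
      ((S.isPGroup'.map _).comap_subtype)
    obtain ⟨c, hc'⟩ := MulAction.exists_smul_eq C AC T
    refine ⟨(c : G) * x, ?_⟩
    rw [map_mul, mul_smul]
    intro k hk
    obtain ⟨⟨⟨r, hr⟩, ⟨s, hs⟩⟩, e⟩ := hc.2 (⟨k, hk⟩ : K)
    have ek : k = (r : G) * s := (congrArg Subtype.val e).symm
    rw [ek]
    refine Subgroup.mul_mem _ ?_ ?_
    · rw [CfsgLib.Solvable.mem_conj_smul]
      have : (c : G)⁻¹ * r * c = r := by
        rw [mul_assoc, Subgroup.mem_centralizer_iff.1 c.2 r ⟨r, hr, rfl⟩, inv_mul_cancel_left]
      rw [this]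
      exact hx ⟨r, hr, rfl⟩
    · rw [CfsgLib.Solvable.mem_conj_smul]
      have hsC : (s : G) ∈ C := hS'C ⟨s, hs, rfl⟩
      have h1 : (⟨(s : G), hsC⟩ : C) ∈ (T : Subgroup C) :=
        hT (Subgroup.mem_subgroupOf.2 ⟨s, hs, rfl⟩)
      rw [← hc', Sylow.coe_subgroup_smul, CfsgLib.Solvable.mem_conj_smul] at h1
      exact hA'H h1

/-- Let H be a nilpotent subgroup of a finite group G whose order is coprime to its index, and K a subgroup every prime divisor of whose order divides the order of H. Then K lies in some conjugate of H. -/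
theorem result {G : Type*} [Group G] [Finite G] (H K : Subgroup G) (hH : Group.IsNilpotent H) (hHall : (Nat.card H).Coprime H.index) (hK : ∀ p : ℕ, p.Prime → p ∣ Nat.card K → p ∣ Nat.card H) : ∃ x : G, K ≤ MulAut.conj x • H := by
  exact wielandt _ K rfl H hH hHall hK

end Cfsg.Agent.S0581
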