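import Cfsg.Statements.S0582
import Cfsg.Agent.Lib.Supersolvable.Tower
import Cfsg.Agent.Lib.Solvable.Basic
import Mathlib.Tactic
-- import your own Cfsg.Agent.* helpers here

set_option autoImplicit false
open Pointwise
open Cfsg

namespace Cfsg.Agent.S0582

universe u

theorem hall_conj (G : Type u) [Group G] [Finite G] : ∀ (H K : Subgroup G),
    Cfsg.IsSupersolvable H → Cfsg.IsSupersolvable K → Nat.card H = Nat.card K →
    (Nat.card H).Coprime H.index → ∃ x : G, MulAut.conj x • H = K := by
  refine CfsgLib.Supersolvable.groupInduction (P := fun G _ _ => ∀ (H K : Subgroup G),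
    Cfsg.IsSupersolvable H → Cfsg.IsSupersolvable K → Nat.card H = Nat.card K →
    (Nat.card H).Coprime H.index → ∃ x : G, MulAut.conj x • H = K)
    (fun G _ _ ih H K hH hK hcard hHall => ?_) G
  classical
  rcases subsingleton_or_nontrivial H with hH1 | hH1
  · refine ⟨1, ?_⟩
    have h1 : Nat.card H = 1 := Nat.card_eq_one_iff_unique.2 ⟨hH1, inferInstance⟩
    rw [(Subgroup.card_eq_one (H := H)).1 h1, (Subgroup.card_eq_one (H := K)).1 (hcard ▸ h1)]
    simp
  have hne : (Nat.card H).primeFactors.Nonempty := Nat.nonempty_primeFactors.2 Finite.one_lt_card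
  set p := (Nat.card H).primeFactors.max' hne with hp
  have hpm := Finset.max'_mem _ hne
  rw [← hp, Nat.mem_primeFactors] at hpm
  have hmax : ∀ q : ℕ, q.Prime → q ∣ Nat.card H → q ≤ p := fun q hq hqd =>
    Finset.le_max' _ q (Nat.mem_primeFactors.2 ⟨hq, hqd, Nat.card_pos.ne'⟩)
  haveI := Fact.mk hpm.1
  have hKidx : (Nat.card K).Coprime K.index := by
    have h1 := Subgroup.card_mul_index K
    rw [← Subgroup.card_mul_index H, ← hcard] at h1
    rw [← hcard, Nat.eq_of_mul_eq_mul_left Nat.card_pos h1]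
    exact hHall
  -- the normal Sylow subgroups of `H` and of `K` are Sylow subgroups of `G`
  have hsyl : ∀ L : Subgroup G, Cfsg.IsSupersolvable L → Nat.card L = Nat.card H →
      (Nat.card L).Coprime L.index → ∃ P : Sylow p G, (P : Subgroup G) ≤ L ∧
        L ≤ Subgroup.normalizer ((P : Subgroup G) : Set G) := by
    intro L hL hcL hLidx
    obtain ⟨S⟩ : Nonempty (Sylow p L) := inferInstance
    haveI := CfsgLib.Supersolvable.sylow_max_normal hL
      (fun q hq hqd => hmax q hq (hcL ▸ hqd)) S
    have hidx : ¬ p ∣ ((S : Subgroup L).map L.subtype).index := by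
      rw [Subgroup.index_map_subtype, Nat.Prime.dvd_mul hpm.1]
      rintro (h | h)
      · exact S.not_dvd_index h
      · exact hpm.1.ne_one (Nat.eq_one_of_dvd_coprimes hLidx (hcL ▸ hpm.2.1) h)
    refine ⟨(S.isPGroup'.map L.subtype).toSylow hidx, ?_, ?_⟩
    · rw [IsPGroup.toSylow_coe]; exact Subgroup.map_subtype_le _
    · rw [IsPGroup.toSylow_coe]
      refine le_trans ?_ (Subgroup.le_normalizer_map L.subtype)
      rw [Subgroup.normalizer_eq_top (S : Subgroup L), ← MonoidHom.range_eq_map, Subgroup.range_subtype]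
  obtain ⟨P, hPH, hHN⟩ := hsyl H hH rfl hHall
  obtain ⟨P', hP'K, hKN⟩ := hsyl K hK hcard.symm hKidx
  obtain ⟨g, hg⟩ := MulAction.exists_smul_eq G P' P
  set K' := MulAut.conj g • K with hK'
  have hPK' : (P : Subgroup G) ≤ K' := by
    rw [← hg, Sylow.coe_subgroup_smul]
    exact Subgroup.pointwise_smul_le_pointwise_smul_iff.2 hP'K
  have hK'N : K' ≤ Subgroup.normalizer ((P : Subgroup G) : Set G) := by
    intro y hy
    rw [hK', CfsgLib.Solvable.mem_conj_smul] at hy
    have h2 := hKN hy
    rw [Subgroup.mem_normalizer_iff] at h2 ⊢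
    intro z
    rw [← hg, Sylow.coe_subgroup_smul, CfsgLib.Solvable.mem_conj_smul, CfsgLib.Solvable.mem_conj_smul]
    convert h2 (g⁻¹ * z * g) using 2
    group
  have hcK' : Nat.card K' = Nat.card K := CfsgLib.Solvable.card_conj_smul g K
  have hK's : Cfsg.IsSupersolvable K' :=
    CfsgLib.Supersolvable.of_mulEquiv (Subgroup.equivSMul (MulAut.conj g) K) hK
  set N := Subgroup.normalizer ((P : Subgroup G) : Set G) with hNdef
  haveI : ((P : Subgroup G).subgroupOf N).Normal :=
    (Subgroup.normal_subgroupOf_iff_le_normalizer Subgroup.le_normalizer).2 le_rfl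
  set Q := (P : Subgroup G).subgroupOf N
  set π := QuotientGroup.mk' Q
  have hπ : Function.Surjective π := QuotientGroup.mk'_surjective Q
  have hlt : Nat.card (N ⧸ Q) < Nat.card G := by
    refine lt_of_lt_of_le (CfsgLib.Supersolvable.card_quotient_lt ?_) ?_
    · rw [Ne, Subgroup.subgroupOf_eq_bot, disjoint_iff, inf_eq_left.2 Subgroup.le_normalizer]
      exact P.ne_bot_of_dvd_card (hpm.2.1.trans (Subgroup.card_subgroup_dvd_card H))
    · exact Nat.le_of_dvd Nat.card_pos (Subgroup.card_subgroup_dvd_card N)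
  have himg : ∀ L : Subgroup G, Cfsg.IsSupersolvable L → (P : Subgroup G) ≤ L → L ≤ N →
      Cfsg.IsSupersolvable ((L.subgroupOf N).map π) ∧
      Nat.card ((L.subgroupOf N).map π) * Nat.card Q = Nat.card L ∧
      ((L.subgroupOf N).map π).comap π = L.subgroupOf N := by
    intro L hL hPL hLN
    have hcomap : ((L.subgroupOf N).map π).comap π = L.subgroupOf N := by
      rw [Subgroup.comap_map_eq_self]
      rw [QuotientGroup.ker_mk']
      exact fun x hx => hPL hx
    refine ⟨?_, ?_, hcomap⟩
    · refine CfsgLib.Supersolvable.of_surjective (π.subgroupMap (L.subgroupOf N))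
        (π.subgroupMap_surjective _) ?_
      exact CfsgLib.Supersolvable.of_mulEquiv (Subgroup.subgroupOfEquivOfLe hLN).symm hL
    · have h1 := Subgroup.card_mul_index (L.subgroupOf N)
      rw [← hcomap, Subgroup.index_comap_of_surjective _ hπ, hcomap] at h1
      have h2 := Subgroup.card_mul_index ((L.subgroupOf N).map π)
      have h3 := Subgroup.card_eq_card_quotient_mul_card_subgroup Q
      rw [Nat.card_congr (Subgroup.subgroupOfEquivOfLe hLN).toEquiv] at h1
      apply Nat.eq_of_mul_eq_mul_right (Nat.pos_of_ne_zero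
        (Subgroup.index_ne_zero_of_finite (H := (L.subgroupOf N).map π)))
      rw [h1, h3, ← h2]
      ring
  obtain ⟨hH', hHc, hHcomap⟩ := himg H hH hPH hHN
  obtain ⟨hK'', hK'c, hK'comap⟩ := himg K' hK's hPK' hK'N
  obtain ⟨x, hx⟩ := ih (N ⧸ Q) hlt _ _ hH' hK''
    (Nat.eq_of_mul_eq_mul_right Nat.card_pos (by rw [hHc, hK'c, hcK', hcard]))
    (by
      refine Nat.Coprime.coprime_dvd_left (Dvd.intro _ hHc) (hHall.coprime_dvd_right ?_)
      rw [← Subgroup.index_comap_of_surjective _ hπ, hHcomap]
      exact Subgroup.relIndex_dvd_index_of_le hHN)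
  obtain ⟨n, rfl⟩ := hπ x
  refine ⟨g⁻¹ * n, ?_⟩
  have hfin : MulAut.conj (n : G) • H = K' := by
    refine Subgroup.eq_of_le_of_card_ge ?_ (by
      rw [CfsgLib.Solvable.card_conj_smul, CfsgLib.Solvable.card_conj_smul, hcard])
    intro y hy
    rw [CfsgLib.Solvable.mem_conj_smul] at hy
    set u : N := ⟨(n : G)⁻¹ * y * n, hHN hy⟩
    have h1 : π (n * u * n⁻¹) ∈ MulAut.conj (π n) • (H.subgroupOf N).map π := by
      rw [CfsgLib.Solvable.mem_conj_smul]
      refine ⟨u, hy, ?_⟩
      simp only [map_mul, map_inv]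
      group
    rw [hx] at h1
    have h2 : n * u * n⁻¹ ∈ ((K'.subgroupOf N).map π).comap π := h1
    rw [hK'comap, Subgroup.mem_subgroupOf] at h2
    simpa [u, mul_assoc] using h2
  rw [map_mul, mul_smul, hfin, hK', map_inv, inv_smul_smul]

/-- Let H and K be supersolvable subgroups of a finite group G of the same order, that order being coprime to their index. Then H and K are conjugate in G. -/
theorem result {G : Type*} [Group G] [Finite G] (H K : Subgroup G) (hH : Cfsg.IsSupersolvable H) (hK : Cfsg.IsSupersolvable K) (hcard : Nat.card H = Nat.card K) (hHall : (Nat.card H).Coprime H.index) : ∃ x : G, MulAut.conj x • H = K := by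
  exact hall_conj G H K hH hK hcard hHall

end Cfsg.Agent.S0582
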