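import Cfsg.Statements.S0584
import Cfsg.Agent.Lib.FrattiniEmbed.Basic
import Cfsg.Agent.Lib.Solvable.Frattini

set_option autoImplicit false
open Cfsg

namespace Cfsg.Agent.S0584

/-- Let B ≤ A be normal subgroups of a finite group G with B contained in the Frattini subgroup of G. If A modulo B is nilpotent then A is nilpotent. -/
theorem result {G : Type*} [Group G] [Finite G] (A B : Subgroup G) [A.Normal] [B.Normal] (hBA : B ≤ A) (hB : B ≤ frattini G) (h : Group.IsNilpotent (↥A ⧸ B.subgroupOf A)) : Group.IsNilpotent A := by
  refine CfsgLib.Solvable.isNilpotent_of_map_mk'_isNilpotent A B hB ?_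
  let f : ↥A →* G ⧸ B := (QuotientGroup.mk' B).comp A.subtype
  have hker : f.ker = B.subgroupOf A := by
    ext x
    rw [MonoidHom.mem_ker, Subgroup.mem_subgroupOf]
    exact QuotientGroup.eq_one_iff _
  have hrange : f.range = A.map (QuotientGroup.mk' B) := by
    rw [MonoidHom.range_comp, Subgroup.range_subtype]
  rw [← hrange]
  exact (Group.isNilpotent_congr
    ((QuotientGroup.quotientMulEquivOfEq hker.symm).trans (QuotientGroup.quotientKerEquivRange f))).mp h

end Cfsg.Agent.S0584
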