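import Cfsg.Statements.S0587
import Cfsg.Agent.Lib.Solvable.Frattini
import Cfsg.Agent.Lib.Solvable.CoprimeAction
import Mathlib.Tactic
-- import your own Cfsg.Agent.* helpers here

set_option autoImplicit false
open Cfsg

namespace Cfsg.Agent.S0587

/-- Let G be a finite group whose largest normal p-subgroup L is nontrivial, and M a maximal subgroup of G with trivial normal core. Then L is elementary abelian, M is a complement to L, L is a minimal normal subgroup of G, the centralizer of L is L, and for every prime q such that the largest normal q-subgroup of M is nontrivial, the order of L is congruent to 1 modulo q and q ≠ p. -/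
theorem result {G : Type*} [Group G] [Finite G] (p : ℕ) [Fact p.Prime] (hL : Cfsg.pCore p G ≠ ⊥) (M : Subgroup G) (hM : IsCoatom M) (hcore : M.normalCore = ⊥) : Cfsg.IsElementaryAbelian p (Cfsg.pCore p G) ∧ Subgroup.IsComplement' (Cfsg.pCore p G) M ∧ (∀ K : Subgroup G, K.Normal → K ≤ Cfsg.pCore p G → K = ⊥ ∨ K = Cfsg.pCore p G) ∧ Subgroup.centralizer ((Cfsg.pCore p G : Subgroup G) : Set G) = Cfsg.pCore p G ∧ ∀ (q : ℕ) [Fact q.Prime], Cfsg.pCore q ↥M ≠ ⊥ → Nat.card (Cfsg.pCore p G) % q = 1 % q ∧ q ≠ p := by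
  classical
  have hp : p.Prime := Fact.out
  set L := Cfsg.pCore p G with hLdef
  have hLn : L.Normal := CfsgLib.Solvable.pCore_normal (p := p) G
  haveI := hLn
  have hLp : IsPGroup p L := CfsgLib.Solvable.pCore_isPGroup (p := p) G
  have hcore' : ∀ S : Subgroup G, S.Normal → S ≤ M → S = ⊥ := by
    intro S hS hSM
    haveI := hS
    rw [eq_bot_iff, ← hcore]
    exact Subgroup.normal_le_normalCore.2 hSM
  obtain ⟨N, hN, hNne, hNL, hmin⟩ := CfsgLib.Solvable.exists_minimal_normal_le L hL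
  haveI := hN
  have hNc : N ≤ Subgroup.centralizer (L : Set G) := by
    have hne : N.subgroupOf L ≠ ⊥ := by
      rw [Ne, Subgroup.subgroupOf_eq_bot, disjoint_iff, inf_eq_left.2 hNL]
      exact hNne
    obtain ⟨z, hz, hz1⟩ := CfsgLib.Solvable.exists_ne_one_mem_inf_center_of_normal hLp hne
    have hn : (N ⊓ Subgroup.centralizer (L : Set G)).Normal := inferInstance
    rcases hmin _ hn inf_le_left with h | h
    · exfalso
      refine hz1 (Subtype.ext ?_)
      rw [Subgroup.coe_one]
      have : (z : G) ∈ N ⊓ Subgroup.centralizer (L : Set G) := ⟨hz.1,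
        Subgroup.mem_centralizer_iff.2 fun l hl =>
          congrArg Subtype.val (Subgroup.mem_center_iff.1 hz.2 ⟨l, hl⟩)⟩
      rw [h, Subgroup.mem_bot] at this
      simpa using this
    · exact inf_eq_left.1 h
  haveI hNcomm : IsMulCommutative N :=
    ⟨⟨fun a b => Subtype.ext ((Subgroup.mem_centralizer_iff.1 (hNc a.2) _ (hNL b.2)).symm)⟩⟩
  have hNM : ¬ N ≤ M := fun h => hNne (hcore' N hN h)
  have hcompl := CfsgLib.Solvable.isComplement'_of_not_le N hmin hM hNM
  have hinf : N ⊓ M = ⊥ := disjoint_iff.1 hcompl.disjoint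
  have hdec : ∀ g : G, ∃ n ∈ N, ∃ m ∈ M, g = n * m := fun g => by
    obtain ⟨n, hn, m, hm, e⟩ := hcompl.mul_eq.symm ▸ (Set.mem_univ g)
    exact ⟨n, hn, m, hm, e.symm⟩
  have hCN : Subgroup.centralizer (N : Set G) = N := by
    refine le_antisymm (fun x hx => ?_) (Subgroup.le_centralizer N)
    obtain ⟨n, hn, m, hm, rfl⟩ := hdec x
    have hmC : m ∈ Subgroup.centralizer (N : Set G) := by
      have := mul_mem (inv_mem (Subgroup.le_centralizer N hn : n ∈ Subgroup.centralizer (N : Set G))) hx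
      simpa using this
    have hCM : (Subgroup.centralizer (N : Set G) ⊓ M).Normal := by
      refine ⟨fun y hy g => ?_⟩
      obtain ⟨n', hn', m', hm', rfl⟩ := hdec g
      have h1 : m' * y * m'⁻¹ ∈ Subgroup.centralizer (N : Set G) ⊓ M :=
        ⟨Subgroup.Normal.conj_mem inferInstance y hy.1 m',
          M.mul_mem (M.mul_mem hm' hy.2) (M.inv_mem hm')⟩
      have h2 : n' * m' * y * (n' * m')⁻¹ = n' * (m' * y * m'⁻¹) * n'⁻¹ := by group
      rw [h2, Subgroup.mem_centralizer_iff.1 h1.1 n' hn', mul_inv_cancel_right]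
      exact h1
    have : m ∈ Subgroup.centralizer (N : Set G) ⊓ M := ⟨hmC, hm⟩
    rw [hcore' _ hCM inf_le_right, Subgroup.mem_bot] at this
    rwa [this, mul_one]
  have hLN : L = N := by
    refine le_antisymm ?_ hNL
    conv_rhs => rw [← hCN]
    exact Subgroup.le_centralizer_iff.1 hNc
  rw [hLN]
  have hpdvd : ∃ k, Nat.card N = p ^ k ∧ k ≠ 0 := by
    rw [← hLN]
    obtain ⟨k, hk⟩ := hLp.exists_card_eq
    exact ⟨k, hk, fun h => hL (Subgroup.card_eq_one.1 (by rw [hk, h, pow_zero]))⟩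
  obtain ⟨k, hk, hk0⟩ := hpdvd
  refine ⟨⟨hNcomm, ?_⟩, hcompl, hmin, hCN, fun q _ hq => ?_⟩
  · let S : Subgroup G :=
      { carrier := {y | y ∈ N ∧ y ^ p = 1}
        one_mem' := ⟨one_mem _, one_pow _⟩
        mul_mem' := fun {a b} ha hb => ⟨mul_mem ha.1 hb.1, by
          rw [(show Commute a b from setLike_mul_comm ha.1 hb.1).mul_pow, ha.2, hb.2, one_mul]⟩
        inv_mem' := fun {a} ha => ⟨inv_mem ha.1, by rw [inv_pow, ha.2, inv_one]⟩ }
    have hS : S.Normal := ⟨fun y hy g => ⟨hN.conj_mem y hy.1 g, by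
      rw [conj_pow, hy.2, mul_one, mul_inv_cancel]⟩⟩
    obtain ⟨x, hx⟩ := exists_prime_orderOf_dvd_card' (G := N) p (hk ▸ dvd_pow_self p hk0)
    have hSN : S = N := by
      refine (hmin S hS fun y hy => hy.1).resolve_left fun hbot => ?_
      have hxS : (x : G) ∈ S := ⟨x.2, by
        rw [← Subgroup.coe_pow, ← hx, pow_orderOf_eq_one, Subgroup.coe_one]⟩
      rw [hbot, Subgroup.mem_bot] at hxS
      rw [orderOf_eq_one_iff.2 (Subtype.ext hxS)] at hx
      exact hp.one_lt.ne hx
    intro y hy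
    rw [← hSN] at hy
    exact hy.2
  · set Q : Subgroup M := Cfsg.pCore q M with hQdef
    haveI : Q.Normal := CfsgLib.Solvable.pCore_normal (p := q) M
    let F : Subgroup G := N ⊓ Subgroup.centralizer (Q.map M.subtype : Set G)
    have hF : F.Normal := by
      refine ⟨fun y hy g => ?_⟩
      obtain ⟨n, hn, m, hm, rfl⟩ := hdec g
      have h1 : m * y * m⁻¹ ∈ F := by
        refine ⟨hN.conj_mem y hy.1 m, Subgroup.mem_centralizer_iff.2 ?_⟩
        rintro _ ⟨z, hz, rfl⟩
        have hz' : (⟨m, hm⟩ : M)⁻¹ * z * ⟨m, hm⟩ ∈ Q := by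
          simpa using Subgroup.Normal.conj_mem ‹Q.Normal› z hz (⟨m, hm⟩ : M)⁻¹
        have h2 : (m⁻¹ * (z : G) * m) * y = y * (m⁻¹ * (z : G) * m) :=
          Subgroup.mem_centralizer_iff.1 hy.2 _ ⟨_, hz', rfl⟩
        show (z : G) * (m * y * m⁻¹) = m * y * m⁻¹ * z
        calc (z : G) * (m * y * m⁻¹) = m * ((m⁻¹ * z * m) * y) * m⁻¹ := by group
          _ = _ := by rw [h2]; group
      have h2 : n * m * y * (n * m)⁻¹ = n * (m * y * m⁻¹) * n⁻¹ := by group
      rw [h2, setLike_mul_comm hn h1.1, mul_inv_cancel_right]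
      exact h1
    have hFbot : F = ⊥ := by
      refine (hmin F hF inf_le_left).resolve_right fun h => hq ?_
      have h1 : Q.map M.subtype ≤ Subgroup.centralizer (N : Set G) :=
        Subgroup.le_centralizer_iff.1 (inf_eq_left.1 h)
      rw [hCN] at h1
      have h2 : Q.map M.subtype ≤ ⊥ := hinf ▸ le_inf h1 (Subgroup.map_subtype_le Q)
      exact (Subgroup.map_eq_bot_iff_of_injective _ M.subtype_injective).1 (eq_bot_iff.2 h2)
    letI : MulAction Q N := MulAction.compHom N
      ((MulAut.conjNormal (H := N)).comp (M.subtype.comp Q.subtype))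
    have hfix : ∀ x : N, x ∈ MulAction.fixedPoints Q N ↔ x = 1 := by
      intro x
      constructor
      · intro hx
        have : (x : G) ∈ F := by
          refine ⟨x.2, Subgroup.mem_centralizer_iff.2 ?_⟩
          rintro _ ⟨z, hz, rfl⟩
          have := congrArg Subtype.val (hx ⟨z, hz⟩)
          exact mul_inv_eq_iff_eq_mul.1 (show (z : G) * x * (z : G)⁻¹ = x from this)
        rw [hFbot, Subgroup.mem_bot] at this
        exact Subtype.ext this
      · rintro rfl z
        exact map_one (MulAut.conjNormal (H := N) ((z : M) : G))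
    have hmod := (CfsgLib.Solvable.pCore_isPGroup (p := q) M).card_modEq_card_fixedPoints N
    haveI : Subsingleton (MulAction.fixedPoints Q N) :=
      ⟨fun a b => Subtype.ext (((hfix _).1 a.2).trans ((hfix _).1 b.2).symm)⟩
    haveI : Nonempty (MulAction.fixedPoints Q N) := ⟨⟨1, (hfix 1).2 rfl⟩⟩
    rw [(Nat.card_eq_one_iff_unique (α := MulAction.fixedPoints Q N)).2 ⟨inferInstance, inferInstance⟩] at hmod
    refine ⟨hmod, ?_⟩
    rintro rfl
    rw [Nat.ModEq, hk, Nat.mod_eq_zero_of_dvd (dvd_pow_self q hk0),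
      Nat.one_mod_eq_one.2 hp.one_lt.ne'] at hmod
    exact zero_ne_one hmod

end Cfsg.Agent.S0587
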