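import Cfsg.Statements.S0588
import Mathlib.GroupTheory.Transfer
import Mathlib.GroupTheory.IsSubnormal
import Mathlib.GroupTheory.Abelianization.Defs
import Mathlib.Tactic
-- import your own Cfsg.Agent.* helpers here

set_option autoImplicit false
open Cfsg

namespace Cfsg.Agent.S0588

/-- If a subgroup H of a finite group G contains the centralizer of every non-identity element of H, then the order of H is coprime to its index. -/
theorem result {G : Type*} [Group G] [Finite G] (H : Subgroup G) (h : ∀ x ∈ H, x ≠ 1 → Subgroup.centralizer ({x} : Set G) ≤ H) : (Nat.card H).Coprime H.index := by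
  refine Nat.coprime_of_dvd fun p hp h1 h2 => ?_
  haveI : Fact p.Prime := ⟨hp⟩
  obtain ⟨P⟩ : Nonempty (Sylow p H) := inferInstance
  set P' : Subgroup G := (P : Subgroup H).map H.subtype with hP'
  have hP'p : IsPGroup p P' := P.isPGroup'.map _
  obtain ⟨S, hS⟩ := hP'p.exists_le_sylow
  have hP'ne : P' ≠ ⊥ := by
    rw [hP', Ne, Subgroup.map_eq_bot_iff_of_injective _ H.subtype_injective]
    exact P.ne_bot_of_dvd_card h1
  obtain ⟨x₀, hx₀⟩ := Subgroup.ne_bot_iff_exists_ne_one.1 hP'ne
  obtain ⟨x, hxP, hx1⟩ : ∃ x : G, x ∈ P' ∧ x ≠ 1 := ⟨x₀, x₀.2, fun e => hx₀ (Subtype.ext e)⟩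
  haveI : Nontrivial (S : Subgroup G) := ⟨⟨⟨_, hS hxP⟩, 1, fun e => hx1 (congrArg Subtype.val e)⟩⟩
  haveI := S.isPGroup'.center_nontrivial
  obtain ⟨z, hz⟩ := exists_ne (1 : Subgroup.center (S : Subgroup G))
  have hzc : ∀ s ∈ (S : Subgroup G), s * ((z : (S : Subgroup G)) : G) = (z : (S : Subgroup G)) * s :=
    fun s hs => congrArg Subtype.val (Subgroup.mem_center_iff.1 z.2 ⟨s, hs⟩)
  have hxH : (x : G) ∈ H := Subgroup.map_subtype_le _ hxP
  have hzH : ((z : (S : Subgroup G)) : G) ∈ H :=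
    h x hxH hx1 (Subgroup.mem_centralizer_singleton_iff.2 (hzc _ (hS hxP)).symm)
  have hz1 : ((z : (S : Subgroup G)) : G) ≠ 1 := fun e => hz (Subtype.ext (Subtype.ext e))
  have hSH : (S : Subgroup G) ≤ H := fun s hs =>
    h _ hzH hz1 (Subgroup.mem_centralizer_singleton_iff.2 (hzc s hs))
  have hdvd : Nat.card (S : Subgroup G) ∣ Nat.card H := Subgroup.card_dvd_of_le hSH
  have := S.not_dvd_index
  have hcard := Subgroup.card_mul_index H
  have hScard := Subgroup.card_mul_index (S : Subgroup G)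
  obtain ⟨k, hk⟩ := hdvd
  refine this ?_
  have : (S : Subgroup G).index = k * H.index := by
    have hpos : 0 < Nat.card (S : Subgroup G) := Nat.card_pos
    apply Nat.eq_of_mul_eq_mul_left hpos
    rw [hScard, ← hcard, hk, mul_assoc]
  rw [this]
  exact dvd_mul_of_dvd_right h2 _

end Cfsg.Agent.S0588
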