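import Cfsg.Statements.S0592
import Cfsg.Agent.Lib.PLocal.LinearTwo
import Mathlib.FieldTheory.Finite.Basic

set_option autoImplicit false
open Cfsg

namespace Cfsg.Agent.S0592

/-- Two quadratically acting generators of a linear group that is not a p-group, with the p'-part of the order of their product dividing q - 1, give a homomorphism onto a subgroup of SL(2, q) that is not a p-group. -/
theorem result {K : Type*} [Field K] [Fintype K] {p : ℕ} [Fact p.Prime] [CharP K p] {W : Type*} [AddCommGroup W] [Module K W] [FiniteDimensional K W] [Finite W] [Nontrivial W] (H : Subgroup (W ≃ₗ[K] W)) (a b : W ≃ₗ[K] W) (hH : H = Subgroup.closure {a, b}) (ha : ∀ w : W, a (a w - w) = a w - w) (hb : ∀ w : W, b (b w - w) = b w - w) (hnp : ¬ IsPGroup p H) (hk : ∃ e k : ℕ, orderOf (a * b) = p ^ e * k ∧ k ∣ Fintype.card K - 1) : ∃ φ : H →* Matrix.SpecialLinearGroup (Fin 2) K, ¬ IsPGroup p φ.range := by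
  have hgen : Subgroup.closure ({⟨a, hH ▸ Subgroup.subset_closure (by simp)⟩,
      ⟨b, hH ▸ Subgroup.subset_closure (by simp)⟩} : Set H) = ⊤ := by
    apply Subgroup.map_injective H.subtype_injective
    rw [MonoidHom.map_closure, ← MonoidHom.range_eq_map, Subgroup.range_subtype, Set.image_insert_eq,
      Set.image_singleton]
    exact hH.symm
  let ρ : H →* Module.End K W :=
    { toFun := fun h => ((h : W ≃ₗ[K] W) : W →ₗ[K] W)
      map_one' := LinearMap.ext fun _ => rfl
      map_mul' := fun _ _ => LinearMap.ext fun _ => rfl }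
  obtain ⟨e, k, hord, hdvd⟩ := hk
  have hf : ∃ f : Polynomial K, f.Splits ∧ f ≠ 0 ∧
      Polynomial.aeval (ρ (⟨a, hH ▸ Subgroup.subset_closure (by simp)⟩ *
        ⟨b, hH ▸ Subgroup.subset_closure (by simp)⟩)) f = 0 := by
    obtain ⟨d, hd⟩ := hdvd
    have hq : 1 < Fintype.card K := Fintype.one_lt_card
    refine ⟨(Polynomial.X ^ Fintype.card K - Polynomial.X) ^ p ^ e, ?_,
      pow_ne_zero _ (FiniteField.X_pow_card_sub_X_ne_zero K hq), ?_⟩
    · refine Polynomial.Splits.pow ?_ _
      rw [Polynomial.splits_iff_card_roots, FiniteField.roots_X_pow_card_sub_X,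
        FiniteField.X_pow_card_sub_X_natDegree_eq K hq]
      rfl
    · rw [map_pow, map_sub, map_pow, Polynomial.aeval_X]
      set T := ρ (⟨a, hH ▸ Subgroup.subset_closure (by simp)⟩ *
        ⟨b, hH ▸ Subgroup.subset_closure (by simp)⟩) with hT
      have h1 : T ^ (p ^ e * (Fintype.card K - 1)) = 1 := by
        have h2 : (a * b) ^ (p ^ e * (Fintype.card K - 1)) = 1 := by
          rw [hd, ← mul_assoc, pow_mul, ← hord, pow_orderOf_eq_one, one_pow]
        rw [hT, ← map_pow]
        refine LinearMap.ext fun w => ?_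
        exact congrArg (fun f : W ≃ₗ[K] W => f w) h2
      haveI : CharP (Module.End K W) p := charP_of_injective_algebraMap
        (FaithfulSMul.algebraMap_injective K (Module.End K W)) p
      rw [sub_pow_char_pow_of_commute _ _ ((Commute.refl T).pow_left _), sub_eq_zero, ← pow_mul,
        mul_comm, show Fintype.card K = Fintype.card K - 1 + 1 by omega, mul_add, mul_one, pow_add,
        h1, one_mul]
  haveI : CharP K p := inferInstance
  obtain ⟨φ, hφ, -, -⟩ := CfsgLib.PLocal.two_quadratic_to_SL2 (p := p) hgen _ W rfl ρ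
    (LinearMap.ext fun w => by
      show a (a w - w) - (a w - w) = 0
      rw [ha, sub_self])
    (LinearMap.ext fun w => by
      show b (b w - w) - (b w - w) = 0
      rw [hb, sub_self])
    hf
    (fun hall => hnp fun h => by
      obtain ⟨n, hn⟩ := hall h
      refine ⟨n, Subtype.ext (LinearEquiv.ext fun w => ?_)⟩
      rw [← map_pow] at hn
      exact LinearMap.congr_fun hn w)
  exact ⟨φ, hφ⟩

end Cfsg.Agent.S0592
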