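import Cfsg.Statements.S0593
import Cfsg.Agent.Lib.PLocal.QuadLinear

set_option autoImplicit false
open Cfsg

namespace Cfsg.Agent.S0593

/-- For odd p, a faithful group on an elementary abelian p-group generated by two quadratically acting elements is a p-group or has non-abelian Sylow 2-subgroups. -/
theorem result {G : Type*} [Group G] [Finite G] {p : ℕ} [Fact p.Prime] (hp : p ≠ 2) (V H : Subgroup G) (hV : Cfsg.IsElementaryAbelian p V) (hHV : H ≤ Subgroup.normalizer (V : Set G)) (hf : H ⊓ Subgroup.centralizer (V : Set G) = ⊥) (a b : G) (hab : H = Subgroup.closure {a, b}) (ha : ⁅⁅V, Subgroup.zpowers a⁆, Subgroup.zpowers a⁆ = ⊥) (hb : ⁅⁅V, Subgroup.zpowers b⁆, Subgroup.zpowers b⁆ = ⊥) (hnp : ¬ IsPGroup p H) (T : Sylow 2 H) : ¬ IsMulCommutative T := by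
  subst hab
  have hgen : Subgroup.closure ({⟨a, Subgroup.subset_closure (by simp)⟩,
      ⟨b, Subgroup.subset_closure (by simp)⟩} : Set ↥(Subgroup.closure ({a, b} : Set G))) = ⊤ := by
    apply Subgroup.map_injective (Subgroup.closure ({a, b} : Set G)).subtype_injective
    rw [MonoidHom.map_closure, ← MonoidHom.range_eq_map, Subgroup.range_subtype, Set.image_insert_eq,
      Set.image_singleton]
    rfl
  exact CfsgLib.PLocal.two_quad_sylow_two_not_comm hp hV hHV hf hgen
    (CfsgLib.PLocal.quadElt_of_bot ha) (CfsgLib.PLocal.quadElt_of_bot hb) hnp T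

end Cfsg.Agent.S0593
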