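import Cfsg.Statements.S0615
import Cfsg.Agent.Lib.PLocal.IrredPair

set_option autoImplicit false
open Cfsg

namespace Cfsg.Agent.S0615

/-- Two subnormal subgroups acting irreducibly on their incomparable commutator modules, in a faithful group with trivial largest normal p-subgroup, generate their direct product, and the commutator module splits accordingly. -/
theorem result {G : Type*} [Group G] [Finite G] {p : ℕ} [Fact p.Prime] (V E E₁ E₂ : Subgroup G) (hV : Cfsg.IsElementaryAbelian p V) (hEV : E ≤ Subgroup.normalizer (V : Set G)) (hf : E ⊓ Subgroup.centralizer (V : Set G) = ⊥) (hgen : E = E₁ ⊔ E₂) (hs₁ : (E₁.subgroupOf E).IsSubnormal) (hs₂ : (E₂.subgroupOf E).IsSubnormal) (hOp : Cfsg.pCore p ↥E = ⊥) (hirr₁ : (∀ U : Subgroup G, U ≤ ⁅V, E₁⁆ → E₁ ≤ Subgroup.normalizer (U : Set G) → U = ⊥ ∨ U = ⁅V, E₁⁆)) (hirr₂ : (∀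 U : Subgroup G, U ≤ ⁅V, E₂⁆ → E₂ ≤ Subgroup.normalizer (U : Set G) → U = ⊥ ∨ U = ⁅V, E₂⁆)) (h12 : ¬ ⁅V, E₁⁆ ≤ ⁅V, E₂⁆) (h21 : ¬ ⁅V, E₂⁆ ≤ ⁅V, E₁⁆) (hc₁ : 2 < Nat.card E₁) (hc₂ : 2 < Nat.card E₂) : ⁅E₁, E₂⁆ = ⊥ ∧ E₁ ⊓ E₂ = ⊥ ∧ ⁅V, E₁⁆ ⊓ ⁅V, E₂⁆ = ⊥ ∧ ⁅V, E⁆ = ⁅V, E₁⁆ ⊔ ⁅V, E₂⁆ := by
  have K : CfsgLib.PLocal.IrrCtx p V E := ⟨hV, hEV, hf, hOp⟩
  have h1E : E₁ ≤ E := hgen ▸ le_sup_left
  have h2E : E₂ ≤ E := hgen ▸ le_sup_right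
  have i1 : CfsgLib.PLocal.IrrSub V E E₁ := ⟨h1E, hs₁, hirr₁, hc₁⟩
  have i2 : CfsgLib.PLocal.IrrSub V E E₂ := ⟨h2E, hs₂, hirr₂, hc₂⟩
  have h := CfsgLib.PLocal.irr_pair_aux _ V E K E₁ E₂ le_rfl hgen i1 i2 h12 h21
  obtain ⟨hc, hd⟩ := K.split i1 i2 h12 h
  refine ⟨hc, ?_, hd, ?_⟩
  · rw [eq_bot_iff, ← hf]
    refine le_inf (inf_le_left.trans h1E) ?_
    rw [Subgroup.le_centralizer_iff, ← Subgroup.commutator_eq_bot_iff_le_centralizer, eq_bot_iff, ← hd]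
    exact le_inf (Subgroup.commutator_mono le_rfl inf_le_left) (Subgroup.commutator_mono le_rfl inf_le_right)
  · rw [hgen]
    exact CfsgLib.PLocal.commutator_sup_of_le_normalizer (h1E.trans hEV) (h2E.trans hEV)

end Cfsg.Agent.S0615
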