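import Cfsg.Statements.S0617
import Cfsg.Agent.Lib.PLocal.FFProduct

set_option autoImplicit false
open Cfsg

namespace Cfsg.Agent.S0617

/-- Structure Theorem for failure of factorization: a faithful group generated by best offenders, with self-centralizing p'-core, is a direct product of copies of SL(2, p) (p = 2 or 3), each acting on its own plane in V, which is the direct product of these planes and C_V(H). -/
theorem result {G : Type*} [Group G] [Finite G] {p : ℕ} [Fact p.Prime] (V H : Subgroup G) (hV : Cfsg.IsElementaryAbelian p V) (hHV : H ≤ Subgroup.normalizer (V : Set G)) (hf : H ⊓ Subgroup.centralizer (V : Set G) = ⊥) (hS1 : Subgroup.centralizer (Cfsg.pPrimeCore p ↥H : Set ↥H) ≤ Cfsg.pPrimeCore p ↥H) (hS3 : H = ⨆ A : {A : Subgroup G // A ≤ H ∧ Cfsg.IsBestOffenderOn p V A}, (A : Subgroup G)) (hH1 : H ≠ ⊥) : (p = 2 ∨ p = 3) ∧ (∀ E : {E : Subgroup G // ∃ A : Subgroup G, A ≤ H ∧ Cfsg.IsBestOffenderOn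 p V A ∧ ⁅V, A⁆ ≠ ⊥ ∧ (∀ B : Subgroup G, B ≤ A → Cfsg.IsBestOffenderOn p V B → ⁅V, B⁆ ≠ ⊥ → B = A) ∧ E = ⁅((Cfsg.pPrimeCore p ↥H).map H.subtype), A⁆ ⊔ A}, H ≤ Subgroup.normalizer ((E : Subgroup G) : Set G) ∧ Nonempty (↥(E : Subgroup G) ≃* Matrix.SpecialLinearGroup (Fin 2) (ZMod p)) ∧ Nat.card ↥(⁅V, (E : Subgroup G)⁆) = p ^ 2) ∧ iSupIndep (fun E : {E : Subgroup G // ∃ A : Subgroup G, A ≤ H ∧ Cfsg.IsBestOffenderOn p V A ∧ ⁅V, A⁆ ≠ ⊥ ∧ (∀ B : Subgroup G, B ≤ A → Cfsg.IsBestOffenderOn p V B → ⁅V, B⁆ ≠ ⊥ → B = A) ∧ E = ⁅((Cfsg.pPrimeCore p ↥H).map H.subtype), A⁆ ⊔ A} => (E : Subgroup G)) ∧ (⨆ E : {E : Subgroup G // ∃ A : Subgroup G, A ≤ H ∧ Cfsg.IsBestOffenderOn p V A ∧ ⁅V, A⁆ ≠ ⊥ ∧ (∀ B : Subgroup G, B ≤ A → Cfsg.IsBestOffenderOn p V B → ⁅V, B⁆ ≠ ⊥ → B = A) ∧ E = ⁅((Cfsg.pPrimeCore p ↥H).map H.subtype), A⁆ ⊔ A}, (E : Subgroup G)) = H ∧ iSupIndep (fun o : Option {E : Subgroup G // ∃ A : Subgroup G, A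 ≤ H ∧ Cfsg.IsBestOffenderOn p V A ∧ ⁅V, A⁆ ≠ ⊥ ∧ (∀ B : Subgroup G, B ≤ A → Cfsg.IsBestOffenderOn p V B → ⁅V, B⁆ ≠ ⊥ → B = A) ∧ E = ⁅((Cfsg.pPrimeCore p ↥H).map H.subtype), A⁆ ⊔ A} => o.elim (V ⊓ Subgroup.centralizer (H : Set G)) (fun E => ⁅V, (E : Subgroup G)⁆)) ∧ (V ⊓ Subgroup.centralizer (H : Set G)) ⊔ (⨆ E : {E : Subgroup G // ∃ A : Subgroup G, A ≤ H ∧ Cfsg.IsBestOffenderOn p V A ∧ ⁅V, A⁆ ≠ ⊥ ∧ (∀ B : Subgroup G, B ≤ A → Cfsg.IsBestOffenderOn p V B → ⁅V, B⁆ ≠ ⊥ → B = A) ∧ E = ⁅((Cfsg.pPrimeCore p ↥H).map H.subtype), A⁆ ⊔ A}, ⁅V, (E : Subgroup G)⁆) = V := by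
  classical
  have S := CfsgLib.PLocal.FFSetup.of_core hV hHV hf hS1
  set Q := (Cfsg.pPrimeCore p ↥H).map H.subtype
  let P : Subgroup G → Prop := fun E => ∃ A : Subgroup G, A ≤ H ∧ Cfsg.IsBestOffenderOn p V A ∧ ⁅V, A⁆ ≠ ⊥ ∧
    (∀ B : Subgroup G, B ≤ A → Cfsg.IsBestOffenderOn p V B → ⁅V, B⁆ ≠ ⊥ → B = A) ∧ E = ⁅Q, A⁆ ⊔ A
  have hP : ∀ E : {E : Subgroup G // P E}, ∃ A, CfsgLib.PLocal.IsTransv p V H A ∧ (E : Subgroup G) = ⁅Q, A⁆ ⊔ A := by
    rintro ⟨E, A, h1, h2, h3, h4, h5⟩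
    exact ⟨A, S.isTransv_of_minimal h1 h2 h3 h4, h5⟩
  have hmem : ∀ B, CfsgLib.PLocal.IsTransv p V H B → P (⁅Q, B⁆ ⊔ B) := fun B hB => by
    obtain ⟨h2, h3, h4⟩ := S.minimal_of_isTransv hB
    exact ⟨B, hB.le, h2, h3, h4, rfl⟩
  have hpair : ∀ E : {E : Subgroup G // P E}, ∃ A, CfsgLib.PLocal.SLPair p V H Q A (E : Subgroup G) ∧
      H ≤ Subgroup.normalizer ((E : Subgroup G) : Set G) := by
    intro E
    obtain ⟨A, hA, hE⟩ := hP E
    rw [hE]
    exact ⟨A, (S.transv_group hA).1, (S.factor hS3 hA).1⟩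
  have hdis : ∀ E F : {E : Subgroup G // P E}, F ≠ E →
      (F : Subgroup G) ≤ Subgroup.centralizer ((⁅V, (E : Subgroup G)⁆ : Subgroup G) : Set G) ∧
      ⁅V, (F : Subgroup G)⁆ ≤ Subgroup.centralizer ((E : Subgroup G) : Set G) := by
    intro E F hne
    obtain ⟨A, hA, hE⟩ := hP E
    obtain ⟨B, hB, hF⟩ := hP F
    rw [hE, hF]
    rcases S.transv_dichotomy hA hB with h | h
    · exact absurd (Subtype.ext (by rw [hE, hF, h])) hne
    · exact ⟨Subgroup.le_centralizer_iff.mp h.2.1, h.2.2⟩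
  have hsup : (⨆ E : {E : Subgroup G // P E}, (E : Subgroup G)) = H :=
    le_antisymm (iSup_le fun E => (hpair E).choose_spec.1.le)
      (S.le_of_transv_le hS3 fun B hB =>
        (le_sup_right : B ≤ ⁅Q, B⁆ ⊔ B).trans (le_iSup_of_le ⟨_, hmem B hB⟩ le_rfl))
  have hne : Nonempty {E : Subgroup G // P E} := by
    by_contra hno
    rw [not_nonempty_iff] at hno
    rw [iSup_of_empty] at hsup
    exact hH1 hsup.symm
  set CH := V ⊓ Subgroup.centralizer (H : Set G) with hCH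
  have hfixE : ∀ E : {E : Subgroup G // P E}, CH ≤ V ⊓ Subgroup.centralizer ((E : Subgroup G) : Set G) :=
    fun E => inf_le_inf_left _ (Subgroup.centralizer_le (hpair E).choose_spec.1.le)
  have hWV : ∀ E : {E : Subgroup G // P E}, ⁅V, (E : Subgroup G)⁆ ≤ V :=
    fun E => CfsgLib.PLocal.commutator_le_of_le_normalizer ((hpair E).choose_spec.1.le.trans hHV)
  have key : ∀ s : Finset {E : Subgroup G // P E},
      ((⨆ E ∈ s, ⁅V, (E : Subgroup G)⁆) ⊓ CH = ⊥) ∧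
      V ≤ (V ⊓ ⨅ E ∈ s, Subgroup.centralizer ((E : Subgroup G) : Set G)) ⊔ ⨆ E ∈ s, ⁅V, (E : Subgroup G)⁆ := by
    intro s
    induction s using Finset.induction_on with
    | empty => simp
    | @insert E s hEs ih =>
      obtain ⟨A, PE, -⟩ := hpair E
      rw [Finset.iSup_insert, Finset.iInf_insert]
      have hRV : (⨆ F ∈ s, ⁅V, (F : Subgroup G)⁆) ≤ V := iSup₂_le fun F _ => hWV F
      have hRE : (⨆ F ∈ s, ⁅V, (F : Subgroup G)⁆) ≤ Subgroup.centralizer ((E : Subgroup G) : Set G) :=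
        iSup₂_le fun F hF => (hdis E F (fun h => hEs (h ▸ hF))).2
      constructor
      · rw [eq_bot_iff]
        rintro x ⟨hx, hxC⟩
        obtain ⟨w, hw, r, hr, rfl⟩ := S.mem_sup_mul (hWV E) hRV hx
        have hwC : w ∈ ⁅V, (E : Subgroup G)⁆ ⊓ (V ⊓ Subgroup.centralizer ((E : Subgroup G) : Set G)) := by
          refine ⟨hw, hWV E hw, ?_⟩
          have h1 := Subgroup.mul_mem _ (hfixE E hxC).2 (Subgroup.inv_mem _ (hRE hr))
          rwa [mul_inv_cancel_right] at h1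
        rw [PE.inf, Subgroup.mem_bot] at hwC
        rw [hwC, one_mul] at hxC ⊢
        exact ih.1.le ⟨hr, hxC⟩
      · intro v hv
        obtain ⟨c, hc, r, hr, rfl⟩ := S.mem_sup_mul inf_le_left hRV (ih.2 hv)
        obtain ⟨w, hw, d, hd, rfl⟩ := S.mem_sup_mul (hWV E) inf_le_left (PE.sup.symm ▸ hc.1)
        have hd' : d ∈ V ⊓ (Subgroup.centralizer ((E : Subgroup G) : Set G) ⊓
            ⨅ F ∈ s, Subgroup.centralizer ((F : Subgroup G) : Set G)) := by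
          refine ⟨hd.1, hd.2, ?_⟩
          have hwC : w ∈ ⨅ F ∈ s, Subgroup.centralizer ((F : Subgroup G) : Set G) := by
            simp only [Subgroup.mem_iInf]
            exact fun F hF => (hdis F E (fun h => hEs (h ▸ hF))).2 hw
          have h1 := Subgroup.mul_mem _ (Subgroup.inv_mem _ hwC) hc.2
          rwa [inv_mul_cancel_left] at h1
        rw [mul_assoc, show w * (d * r) = d * (w * r) by
          rw [← mul_assoc, (CfsgLib.PLocal.commute_of_mem_comm hV.1 (hWV E hw) hd.1).eq, mul_assoc]]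
        exact Subgroup.mul_mem_sup hd' (Subgroup.mul_mem_sup hw hr)
  have hp23 : p = 2 ∨ p = 3 := (hpair hne.some).choose_spec.1.hp23
  haveI : Fintype {E : Subgroup G // P E} := Fintype.ofFinite _
  obtain ⟨hkey1, hkey2⟩ := key Finset.univ
  simp only [Finset.mem_univ, iSup_pos, iInf_pos] at hkey1 hkey2
  refine ⟨hp23, fun E => ?_, ?_, hsup, ?_, ?_⟩
  · obtain ⟨A, PE, hn⟩ := hpair E
    exact ⟨hn, PE.iso, PE.card⟩
  · intro E
    obtain ⟨A, PE, -⟩ := hpair E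
    rw [disjoint_iff, eq_bot_iff]
    refine le_trans ?_ PE.faithful.le
    refine inf_le_inf le_rfl (iSup₂_le fun F hF => ?_)
    exact (hdis E F hF).1
  · intro o
    rw [disjoint_iff, eq_bot_iff]
    cases o with
    | none =>
      refine le_trans ?_ hkey1.le
      rw [inf_comm]
      refine inf_le_inf (iSup₂_le fun j hj => ?_) le_rfl
      cases j with
      | none => exact absurd rfl hj
      | some F => exact le_iSup (fun E : {E : Subgroup G // P E} => ⁅V, (E : Subgroup G)⁆) F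
    | some E =>
      obtain ⟨A, PE, -⟩ := hpair E
      refine le_trans ?_ PE.inf.le
      refine inf_le_inf le_rfl (iSup₂_le fun j hj => ?_)
      cases j with
      | none => exact hfixE E
      | some F => exact le_inf (hWV F) (hdis E F (fun h => hj (by rw [h]))).2
  · refine le_antisymm (sup_le inf_le_left (iSup_le hWV)) (hkey2.trans (sup_le_sup_right (le_inf inf_le_left ?_) _))
    intro x hx h hh
    have hle : H ≤ Subgroup.centralizer ({x} : Set G) := by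
      refine hsup.ge.trans (iSup_le fun E e he => ?_)
      rw [Subgroup.mem_centralizer_singleton_iff]
      exact Subgroup.mem_iInf.mp hx.2 E e he
    exact Subgroup.mem_centralizer_singleton_iff.mp (hle hh)

end Cfsg.Agent.S0617
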