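import Cfsg.Statements.S0618
import Cfsg.Agent.Lib.PLocal.FFSemidirect
import Cfsg.Agent.Lib.PLocal.Factorization

set_option autoImplicit false
open Cfsg

namespace Cfsg.Agent.S0618

/-- A p-separable group with trivial p'-core in which the Thompson factorization fails has p = 2 or 3, and J(G) induces on the normal closure of Ω₁(Z(S)) a group containing a normal SL(2, p). -/
theorem result {G : Type*} [Group G] [Finite G] {p : ℕ} [Fact p.Prime] (hsep : Cfsg.IsPSolvable p G) (hO : Cfsg.pPrimeCore p G = ⊥) (hnf : ¬ Cfsg.IsThompsonFactorizable p G) : (p = 2 ∨ p = 3) ∧ ∃ E : Subgroup G, Subgroup.centralizer ((⨆ S : Sylow p G, Cfsg.omegaOne p ((S : Subgroup G) ⊓ Subgroup.centralizer ((S : Subgroup G) : Set G))) : Set G) ≤ E ∧ E ≤ Cfsg.thompsonSubgroup p G ⊔ Subgroup.centralizer ((⨆ S : Sylow p G, Cfsg.omegaOne p ((S : Subgroup G) ⊓ Subgroup.centralizer ((S : Subgroup G) : Set G))) : Set G) ∧ Cfsg.thompsonSubgroup p G ⊔ Subgroup.centralizer ((⨆ S : Sylow p G,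 Cfsg.omegaOne p ((S : Subgroup G) ⊓ Subgroup.centralizer ((S : Subgroup G) : Set G))) : Set G) ≤ Subgroup.normalizer (E : Set G) ∧ ∃ hn : ((Subgroup.centralizer ((⨆ S : Sylow p G, Cfsg.omegaOne p ((S : Subgroup G) ⊓ Subgroup.centralizer ((S : Subgroup G) : Set G))) : Set G)).subgroupOf E).Normal, Nonempty ((↥E ⧸ (Subgroup.centralizer ((⨆ S : Sylow p G, Cfsg.omegaOne p ((S : Subgroup G) ⊓ Subgroup.centralizer ((S : Subgroup G) : Set G))) : Set G)).subgroupOf E) ≃* Matrix.SpecialLinearGroup (Fin 2) (ZMod p)) := by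
  have hc := CfsgLib.PLoc.centralizer_pCore_le_self hsep hO
  haveI := CfsgLib.PLocal.omegaCenterClosure_normal (p := p) (G := G)
  set V := CfsgLib.PLocal.omegaCenterClosure p G with hVdef
  have hV : Cfsg.IsElementaryAbelian p V := CfsgLib.PLocal.omegaCenterClosure_isEA hc
  have hOq := CfsgLib.PLocal.pCore_quotient_centralizer_eq_bot V CfsgLib.PLocal.omegaCenterClosure_eq_fixed
  have hnle : ¬ Cfsg.thompsonSubgroup p G ≤ Subgroup.centralizer (V : Set G) :=
    fun h => hnf ((CfsgLib.PLocal.isThompsonFactorizable_iff hO).mpr h)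
  haveI := CfsgLib.PLocal.thompsonSubgroup_characteristic (G := G) (p := p)
  set J := Cfsg.thompsonSubgroup p G with hJ
  obtain ⟨m⟩ := CfsgLib.PLocal.exists_ffModel (p := p) V
  have S := m.setup hV J (CfsgLib.PLocal.isPSolvable_subgroup hsep J) hOq
  have hS3 := m.hS3 hV
  set C := Subgroup.centralizer (V : Set G) with hC
  set f := m.ι.comp (QuotientGroup.mk' C) with hf
  have hHne : m.img J ≠ ⊥ := by
    intro h
    apply hnle
    intro x hx
    have h1 : f x ∈ m.img J := by rw [m.img_eq]; exact Subgroup.mem_map_of_mem _ hx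
    rw [h, Subgroup.mem_bot] at h1
    exact (QuotientGroup.eq_one_iff x).mp (m.ι_inj (h1.trans (map_one _).symm))
  obtain ⟨B, hB⟩ : ∃ B, CfsgLib.PLocal.IsTransv p m.VG (m.img J) B := by
    by_contra hno
    push Not at hno
    exact hHne (le_bot_iff.mp (S.le_of_transv_le hS3 fun B hB => absurd hB (hno B)))
  obtain ⟨P, -, -, -⟩ := S.transv_group hB
  have hnorm := (S.factor hS3 hB).1
  set E' := ⁅(Cfsg.pPrimeCore p ↥(m.img J)).map (m.img J).subtype, B⁆ ⊔ B with hE'
  have hfC : ∀ x ∈ C, f x = 1 := fun x hx => by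
    show m.ι (QuotientGroup.mk x) = 1
    rw [(QuotientGroup.eq_one_iff x).mpr hx, map_one]
  have hker : ∀ x, f x = 1 → x ∈ C := fun x hx =>
    (QuotientGroup.eq_one_iff x).mp (m.ι_inj (hx.trans (map_one _).symm))
  have hCE : C ≤ E'.comap f := fun x hx => by rw [Subgroup.mem_comap, hfC x hx]; exact one_mem _
  have hCC : Subgroup.centralizer ((⨆ S : Sylow p G, (Cfsg.omegaOne p ((S : Subgroup G) ⊓
      Subgroup.centralizer ((S : Subgroup G) : Set G)) : Set G))) = C := by
    ext x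
    rw [hC, hVdef, CfsgLib.PLocal.omegaCenterClosure, CfsgLib.PLocal.centralizer_iSup_iff]
    constructor
    · intro h S w hw
      exact h w (Set.mem_iUnion.mpr ⟨S, hw⟩)
    · intro h w hw
      obtain ⟨S, hS⟩ := Set.mem_iUnion.mp hw
      exact h S w hS
  rw [hCC]
  refine ⟨P.hp23, E'.comap f, hCE, ?_, ?_, ?_⟩
  · intro x hx
    have h1 : f x ∈ J.map f := m.img_eq J ▸ P.le hx
    obtain ⟨y, hy, hyx⟩ := h1
    have h2 : y⁻¹ * x ∈ C := hker _ (by rw [map_mul, map_inv, hyx, inv_mul_cancel])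
    have h3 := Subgroup.mul_mem_sup hy h2
    rwa [mul_inv_cancel_left] at h3
  · refine sup_le ?_ (hCE.trans Subgroup.le_normalizer)
    intro y hy
    rw [Subgroup.mem_normalizer_iff]
    intro x
    rw [Subgroup.mem_comap, Subgroup.mem_comap, map_mul, map_mul, map_inv]
    exact Subgroup.mem_normalizer_iff.mp (hnorm (by rw [m.img_eq]; exact Subgroup.mem_map_of_mem _ hy)) _
  · obtain ⟨φ⟩ := P.iso
    let ψ : ↥(E'.comap f) →* ↥E' := (f.comp (E'.comap f).subtype).codRestrict E' fun x => x.2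
    have hψ : Function.Surjective ψ := by
      rintro ⟨y, hy⟩
      obtain ⟨x, -, rfl⟩ := (m.img_eq J ▸ P.le hy : y ∈ J.map f)
      exact ⟨⟨x, hy⟩, rfl⟩
    have hk : ψ.ker = C.subgroupOf (E'.comap f) := by
      ext x
      rw [MonoidHom.mem_ker, Subgroup.mem_subgroupOf]
      exact ⟨fun h => hker _ (congrArg Subtype.val h), fun h => Subtype.ext (hfC _ h)⟩
    have hn : (C.subgroupOf (E'.comap f)).Normal := hk ▸ MonoidHom.normal_ker ψ
    exact ⟨hn, ⟨((QuotientGroup.quotientMulEquivOfEq hk.symm).trans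
      (QuotientGroup.quotientKerEquivOfSurjective ψ hψ)).trans φ⟩⟩

end Cfsg.Agent.S0618
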