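import Cfsg.Statements.S0619
import Cfsg.Agent.Lib.PLocal.FFSemidirect

set_option autoImplicit false
open Cfsg
open scoped commutatorElement

namespace Cfsg.Agent.S0619

/-- For a p-separable group and a normal elementary abelian p-subgroup V with no nontrivial normal p-subgroup modulo its centralizer C, the Thompson subgroup J(G) moves Ω₁(Z(J(C))) only inside V. -/
theorem result {G : Type*} [Group G] [Finite G] {p : ℕ} [Fact p.Prime] (hsep : Cfsg.IsPSolvable p G) (V : Subgroup G) [V.Normal] (hV : Cfsg.IsElementaryAbelian p V) (hO : Cfsg.pCore p (G ⧸ Subgroup.centralizer (V : Set G)) = ⊥) : ⁅Cfsg.omegaOne p (Cfsg.centerThompsonOf p (Subgroup.centralizer (V : Set G))), Cfsg.thompsonSubgroup p G⁆ ≤ V := by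
  set C := Subgroup.centralizer (V : Set G) with hC
  haveI : C.Normal := inferInstance
  set Z := Cfsg.omegaOne p (Cfsg.centerThompsonOf p C) with hZ
  have hZC : Z ≤ C := (CfsgLib.PLocal.omegaOne_le _ _).trans (inf_le_left.trans (CfsgLib.PLocal.thompsonSubgroupOf_le p C))
  have hZJ : Z ≤ Subgroup.centralizer (Cfsg.thompsonSubgroupOf p C : Set G) :=
    (CfsgLib.PLocal.omegaOne_le _ _).trans inf_le_right
  have hZp : ∀ z ∈ Z, z ^ p = 1 :=
    (CfsgLib.PLocal.omegaCenter_isEA (p := p) (Cfsg.thompsonSubgroupOf p C)).2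
  have key : Cfsg.thompsonSubgroup p G ≤ (Subgroup.centralizer ((Z.map (QuotientGroup.mk' V)) : Set (G ⧸ V))).comap
      (QuotientGroup.mk' V) := by
    refine sSup_le fun A hA => ?_
    have heq := CfsgLib.PLocal.maxEA_offender_eq hsep V hV hO hA
    set Ac := A ⊓ C with hAc
    set As := Ac ⊔ V with hAs
    have hVC : V ≤ C := Subgroup.le_centralizer_iff_isMulCommutative.mpr hV.1
    have hAcV : Ac ≤ Subgroup.centralizer (V : Set G) := inf_le_right
    have hAsEA : Cfsg.IsElementaryAbelian p As :=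
      CfsgLib.PLocal.isEA_sup (CfsgLib.PLocal.isEA_mono hA.1 inf_le_left) hV hAcV
    have hAsC : As ≤ C := sup_le inf_le_right hVC
    have hinf : Ac ⊓ V ≤ V ⊓ Subgroup.centralizer (A : Set G) :=
      le_inf inf_le_right ((inf_le_left.trans inf_le_left).trans
        (Subgroup.le_centralizer_iff_isMulCommutative.mpr hA.1.1))
    have hcard : Nat.card A ≤ Nat.card As := by
      refine Nat.le_of_mul_le_mul_right (c := Nat.card ↥(V ⊓ Subgroup.centralizer (A : Set G))) ?_ Nat.card_pos
      rw [heq]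
      exact (CfsgLib.PLocal.card_mul_card_le_sup_inf Ac V).trans
        (Nat.mul_le_mul_left _ (Subgroup.card_le_of_le hinf))
    have hmax : As ∈ CfsgLib.PLocal.maxEAIn p C :=
      ⟨hAsC, hAsEA, fun B _ hB => (hA.2 B hB).trans hcard⟩
    intro a ha
    rw [Subgroup.mem_comap]
    rintro _ ⟨z, hz, rfl⟩
    have hzAs : z ∈ As := by
      refine CfsgLib.PLocal.mem_maxEAIn_of_centralizing hmax (hZC hz) ?_ (hZp z hz)
      refine Subgroup.centralizer_le (show As ≤ Cfsg.thompsonSubgroupOf p C from ?_) (hZJ hz)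
      rw [CfsgLib.PLocal.thompsonSubgroupOf_eq]
      exact le_sSup hmax
    have hzq : QuotientGroup.mk' V z ∈ (A.map (QuotientGroup.mk' V)) := by
      have h1 : QuotientGroup.mk' V z ∈ As.map (QuotientGroup.mk' V) := Subgroup.mem_map_of_mem _ hzAs
      rw [hAs, Subgroup.map_sup, show V.map (QuotientGroup.mk' V) = ⊥ from
        (Subgroup.map_eq_bot_iff _).mpr (by rw [QuotientGroup.ker_mk']), sup_bot_eq] at h1
      exact Subgroup.map_mono inf_le_left h1
    obtain ⟨b, hb, hbz⟩ := hzq
    rw [← hbz, ← map_mul, ← map_mul,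
      (CfsgLib.PLocal.commute_of_mem_comm hA.1.1 hb ha).eq]
  rw [Subgroup.commutator_le]
  intro z hz j hj
  rw [← QuotientGroup.eq_one_iff]
  show QuotientGroup.mk' V ⁅z, j⁆ = 1
  rw [map_commutatorElement, commutatorElement_eq_one_iff_mul_comm]
  exact key hj _ (Subgroup.mem_map_of_mem _ hz)

end Cfsg.Agent.S0619
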