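import Cfsg.Statements.S0627
import Cfsg.Agent.Lib.PLocal.WNormal
import Cfsg.Agent.Lib.PLocal.ActionStable
import Cfsg.Agent.Lib.PLocal.Factorization
import Cfsg.Agent.Lib.PLocal.HallHigman

set_option autoImplicit false
open Cfsg

namespace Cfsg.Agent.S0627

/-- In a p-separable group with p at least 5, the normalizer of W(S) supplements the largest normal subgroup of order prime to p. -/
theorem result {G : Type*} [Group G] [Finite G] {p : ℕ} [Fact p.Prime] (hp : 5 ≤ p) (hsep : Cfsg.IsPSolvable p G) (S : Sylow p G) : Cfsg.pPrimeCore p G ⊔ Subgroup.normalizer (((Cfsg.stableNormalClosure p ↥(S : Subgroup G)).map (S : Subgroup G).subtype) : Set G) = ⊤ := by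
  have hp2 : p ≠ 2 := by omega
  set N := Cfsg.pPrimeCore p G with hN
  have hNc : (Nat.card N).Coprime p := CfsgLib.Solvable.pPrimeCore_card_coprime p G
  have hπs : Function.Surjective (QuotientGroup.mk' N) := QuotientGroup.mk'_surjective N
  have hs' : Cfsg.IsPSolvable p (G ⧸ N) := CfsgLib.PLoc.isPSolvable_of_surjective hπs hsep
  have hO : Cfsg.pPrimeCore p (G ⧸ N) = ⊥ := CfsgLib.Solvable.pPrimeCore_quotient_eq_bot N hN
  have hc := CfsgLib.PLoc.centralizer_pCore_le_self hs' hO
  have hW' := CfsgLib.PLocal.stableNormalClosure_normal_of_stable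
    (CfsgLib.PLocal.isActionPStable_of_cond hp2 (Or.inr ⟨hp, hs'⟩)) hc (S.mapSurjective hπs)
  set S' : Sylow p (G ⧸ N) := S.mapSurjective hπs with hS'
  let φ : ↥(S : Subgroup G) →* ↥(S' : Subgroup (G ⧸ N)) :=
    ((QuotientGroup.mk' N).comp (S : Subgroup G).subtype).codRestrict _ fun x => by
      rw [hS', Sylow.coe_mapSurjective]
      exact Subgroup.mem_map_of_mem _ x.2
  have hφ : Function.Bijective φ := by
    constructor
    · rw [← MonoidHom.ker_eq_bot_iff, eq_bot_iff]
      intro x hx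
      have hxN : (x : G) ∈ N := by
        rw [← QuotientGroup.ker_mk' N, MonoidHom.mem_ker]
        exact congrArg Subtype.val hx
      obtain ⟨k, hk⟩ := IsPGroup.iff_card.mp S.2
      have hbot : N ⊓ (S : Subgroup G) = ⊥ :=
        Subgroup.inf_eq_bot_of_coprime (by rw [hk]; exact Nat.Coprime.pow_right k hNc)
      have hmem : (x : G) ∈ N ⊓ (S : Subgroup G) := ⟨hxN, x.2⟩
      rw [hbot, Subgroup.mem_bot] at hmem
      exact Subgroup.mem_bot.mpr (Subtype.ext hmem)
    · rintro ⟨y, hy⟩
      rw [hS', Sylow.coe_mapSurjective] at hy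
      obtain ⟨x, hx, rfl⟩ := hy
      exact ⟨⟨x, hx⟩, rfl⟩
  let e := MulEquiv.ofBijective φ hφ
  set W := (Cfsg.stableNormalClosure p ↥(S : Subgroup G)).map (S : Subgroup G).subtype with hW
  have hmap : W.map (QuotientGroup.mk' N) =
      (Cfsg.stableNormalClosure p ↥(S' : Subgroup (G ⧸ N))).map (S' : Subgroup (G ⧸ N)).subtype := by
    rw [← CfsgLib.PLocal.stableNormalClosure_map_equiv e, hW, Subgroup.map_map, Subgroup.map_map]
    rfl
  rw [eq_top_iff]
  intro g _
  obtain ⟨n, hn, hng⟩ := CfsgLib.PLocal.exists_mul_mem_normalizer_of_le_sup N hNc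
    (P := W) (g := g) (S.2.to_le (Subgroup.map_subtype_le _)) (by
      rintro _ ⟨x, hx, rfl⟩
      have h1 : QuotientGroup.mk' N (g * x * g⁻¹) ∈ W.map (QuotientGroup.mk' N) := by
        rw [hmap, map_mul, map_mul, map_inv]
        refine hW'.conj_mem _ ?_ _
        rw [← hmap]
        exact Subgroup.mem_map_of_mem _ hx
      rw [← Subgroup.mem_comap, Subgroup.comap_map_eq, QuotientGroup.ker_mk'] at h1
      rw [sup_comm]
      exact h1)
  have h2 := Subgroup.mul_mem_sup (N.inv_mem hn) hng
  rwa [inv_mul_cancel_left] at h2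

end Cfsg.Agent.S0627
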