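import Cfsg.Statements.S0629
import Cfsg.Agent.Lib.PLocal.HallHigman

set_option autoImplicit false
open Cfsg

namespace Cfsg.Agent.S0629

/-- A group in which the centralizer of a Sylow p-subgroup of O_{p',p}(G) is p-solvable is p-constrained. -/
theorem result {G : Type*} [Group G] [Finite G] {p : ℕ} [Fact p.Prime] (P : Sylow p ↥(Cfsg.pPrimePCore p G)) (hsol : Cfsg.IsPSolvable p ↥(Subgroup.centralizer (((P : Subgroup ↥(Cfsg.pPrimePCore p G)).map (Cfsg.pPrimePCore p G).subtype : Subgroup G) : Set G))) : Cfsg.IsPConstrained p G := by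
  rw [CfsgLib.PLoc.isPConstrained_iff]
  set π := QuotientGroup.mk' (Cfsg.pPrimeCore p G)
  have hcop : (Nat.card π.ker).Coprime p := by
    rw [QuotientGroup.ker_mk']; exact CfsgLib.PLoc.pPrimeCore_coprime p
  have hP := CfsgLib.PLoc.sylow_map_eq_pCore (f := π) (QuotientGroup.mk'_surjective _) (QuotientGroup.ker_mk' _) P
  have hC := CfsgLib.PLoc.centralizer_map_eq (f := π) (QuotientGroup.mk'_surjective _) hcop
    (P.isPGroup'.map (Cfsg.pPrimePCore p G).subtype)
  rw [hP] at hC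
  have hOX : Cfsg.pPrimeCore p (G ⧸ Cfsg.pPrimeCore p G) = ⊥ :=
    CfsgLib.PLoc.pPrimeCore_quotient_eq_bot (f := π) (QuotientGroup.mk'_surjective _) (QuotientGroup.ker_mk' _)
  set D := Subgroup.centralizer (Cfsg.pCore p (G ⧸ Cfsg.pPrimeCore p G) : Set (G ⧸ Cfsg.pPrimeCore p G))
  have hs : Cfsg.IsPSolvable p D := by
    rw [hC]
    exact CfsgLib.PLoc.isPSolvable_of_surjective (π.subgroupMap_surjective _) hsol
  haveI := Cfsg.pCore_normal p (G ⧸ Cfsg.pPrimeCore p G)
  haveI : D.Normal := inferInstance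
  have hO : Cfsg.pPrimeCore p D = ⊥ := by
    have h := CfsgLib.Solvable.map_subtype_pPrimeCore_le (p := p) D
    rw [hOX, le_bot_iff, Subgroup.map_eq_bot_iff_of_injective _ D.subtype_injective] at h
    exact h
  have h := CfsgLib.PLoc.centralizer_pCore_le_self hs hO
  intro x hx
  have hx' : (⟨x, hx⟩ : D) ∈ Cfsg.pCore p D := h fun y hy =>
    Subtype.ext (Subgroup.mem_centralizer_iff.mp hx (y : G ⧸ Cfsg.pPrimeCore p G)
      (CfsgLib.Solvable.map_subtype_pCore_le D ⟨y, hy, rfl⟩))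
  exact CfsgLib.Solvable.map_subtype_pCore_le D ⟨_, hx', rfl⟩

end Cfsg.Agent.S0629
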