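import Cfsg.Statements.S0633
import Cfsg.Agent.Lib.HallHigman.TheoremB
import Cfsg.Agent.Lib.PLocal.PSolvable
import Cfsg.Agent.Lib.Solvable.CoprimeAction

set_option autoImplicit false
open Cfsg

namespace Cfsg.Agent.S0633

open CfsgLib.HallHigman Polynomial

/-- A subgroup containing a Sylow subgroup of `O` for every prime contains `O`. -/
theorem le_of_sylows {G : Type*} [Group G] [Finite G] (O C : Subgroup G)
    (h : ∀ q : ℕ, q.Prime → ∃ P : Sylow q O, (P : Subgroup O).map O.subtype ≤ C) : O ≤ C := by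
  rw [← Subgroup.subgroupOf_eq_top]
  refine Subgroup.eq_of_le_of_card_ge le_top ?_
  rw [Subgroup.card_top]
  refine Nat.le_of_dvd Nat.card_pos ((Nat.dvd_iff_prime_pow_dvd_dvd _ _).2 fun q k hq hd => ?_)
  haveI := Fact.mk hq
  obtain ⟨P, hP⟩ := h q hq
  refine dvd_trans ?_ (Subgroup.card_dvd_of_le
    (show (P : Subgroup O) ≤ C.subgroupOf O from fun g hg => hP ⟨g, hg, rfl⟩))
  rw [P.card_eq_multiplicity]
  exact Nat.pow_dvd_pow q ((hq.pow_dvd_iff_le_factorization Nat.card_pos.ne').1 hd)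

/-- Theorem B of Hall and Higman on the minimal polynomial of a p-element of order p^n in a p-solvable linear group on a nonzero vector space in characteristic p with no nontrivial normal p-subgroup: its degree is p^n, except when some p^n₀ - 1 (n₀ ≤ n) is a power of a prime q for which the Sylow q-subgroups are non-abelian, in which case the degree is at least p^(n-n₀)(p^n₀ - 1). -/
theorem result {F : Type*} [Field F] {p : ℕ} [Fact p.Prime] [CharP F p] {V : Type*} [AddCommGroup V] [Module F V] [FiniteDimensional F V] [Nontrivial V] (H : Subgroup (V ≃ₗ[F] V)) [Finite H] (hsol : Cfsg.IsPSolvable p H) (hOp : Cfsg.pCore p H = ⊥) (x : V ≃ₗ[F] V) (hx : x ∈ H) (n : ℕ) (hn : orderOf x = p ^ n) (r : ℕ) (hr : minpoly F (x : Module.End F V) = (Polynomial.X - 1) ^ r) : r = p ^ n ∨ ∃ n₀ q m : ℕ, 1 ≤ n₀ ∧ n₀ ≤ n ∧ q.Prime ∧ 1 ≤ m ∧ p ^ n₀ - 1 = q ^ m ∧ (∀ Q : Sylow q H, ¬ IsMulCommutative Q) ∧ p ^ (n - n₀) * (p ^ n₀ - 1) ≤ r := by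
  classical
  have hp := (Fact.out : p.Prime)
  have hrX : minpoly F (x : Module.End F V) = (X - C 1) ^ r := by rw [hr, C_1]
  have hroot : ((x : Module.End F V) - 1) ^ r = 0 := by
    have := minpoly.aeval F (x : Module.End F V)
    rw [hr] at this
    simpa using this
  have hnil : ((x : Module.End F V) - 1) ^ p ^ n = 0 := by
    have hxp : x ^ p ^ n = 1 := by rw [← hn]; exact pow_orderOf_eq_one x
    rw [sub_one_pow_char (K := F), show (x : Module.End F V) ^ p ^ n = ((x ^ p ^ n : V ≃ₗ[F] V) : Module.End F V) from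
      (map_pow (LinearEquiv.automorphismGroup.toLinearMapMonoidHom (R := F) (M := V)) x (p ^ n)).symm, hxp]
    exact sub_self _
  have hrle : r ≤ p ^ n := by
    have h1 : minpoly F (x : Module.End F V) ∣ (X - C 1) ^ p ^ n := minpoly.dvd F _ (by simpa using hnil)
    rw [hrX] at h1
    have h2 := natDegree_le_of_dvd h1 (pow_ne_zero _ (X_sub_C_ne_zero 1))
    rwa [natDegree_pow, natDegree_pow, natDegree_X_sub_C, mul_one, mul_one] at h2
  have hr0 : r ≠ 0 := by
    intro h
    rw [h, pow_zero] at hroot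
    exact one_ne_zero hroot
  rcases Nat.eq_zero_or_pos n with hn0 | hn1
  · left; subst hn0; simp at hrle ⊢; omega
  set O := Cfsg.pPrimeCore p H with hO
  haveI : O.Normal := CfsgLib.Solvable.pPrimeCore_normal p H
  have hOcop : (Nat.card O).Coprime p := CfsgLib.Solvable.pPrimeCore_card_coprime p H
  set x' : H := ⟨x, hx⟩ with hx'
  have hordx : orderOf x' = p ^ n := by rw [← Subgroup.orderOf_coe]; exact hn
  set y : H := x' ^ p ^ (n - 1) with hy
  have hxP : x' ^ p ^ n = 1 := by rw [← hordx]; exact pow_orderOf_eq_one x'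
  have hyne : y ≠ 1 := by
    intro h
    have h1 := Nat.le_of_dvd (pow_pos hp.pos _) (orderOf_dvd_of_pow_eq_one h)
    rw [hordx] at h1
    have := Nat.pow_lt_pow_right hp.one_lt (show n - 1 < n by omega)
    omega
  have hyO : y ∉ O := by
    intro h
    have h1 : orderOf y ∣ Nat.card O := Subgroup.orderOf_coe (⟨y, h⟩ : O) ▸ orderOf_dvd_natCard _
    have h2 : orderOf y ∣ p ^ n := hordx ▸ orderOf_dvd_of_mem_zpowers (Subgroup.pow_mem _ (Subgroup.mem_zpowers x') _)
    exact hyne (orderOf_eq_one_iff.1 (Nat.eq_one_of_dvd_coprimes (Nat.Coprime.pow_right n hOcop) h1 h2))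
  have hAK : Subgroup.zpowers x' ≤ Subgroup.normalizer (O : Set H) := by
    rw [Subgroup.normalizer_eq_top]; exact le_top
  have hcop : (Nat.card (Subgroup.zpowers x')).Coprime (Nat.card O) := by
    rw [Nat.card_zpowers, hordx]; exact Nat.Coprime.pow_left n hOcop.symm
  obtain ⟨q, hq, P, hPinv, hPnc⟩ : ∃ (q : ℕ) (_ : q.Prime) (P : Sylow q O),
      Subgroup.zpowers x' ≤ Subgroup.normalizer ((P : Subgroup O).map O.subtype : Set H) ∧
      ∃ g ∈ (P : Subgroup O).map O.subtype, ¬ Commute g y := by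
    by_contra hcon
    push Not at hcon
    have hC : O ≤ Subgroup.centralizer ({y} : Set H) := by
      refine le_of_sylows O _ fun q hq => ?_
      haveI := Fact.mk hq
      obtain ⟨P, hP⟩ := CfsgLib.Solvable.exists_invariant_sylow hAK hcop
        (Or.inl inferInstance) q
      refine ⟨P, fun g hg => ?_⟩
      rw [Subgroup.mem_centralizer_singleton_iff]
      exact (hcon q hq P hP g hg).eq
    refine hyO (CfsgLib.PLocal.centralizer_pPrimeCore_le_self hsol hOp ?_)
    rw [Subgroup.mem_centralizer_iff]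
    intro g hg
    exact Subgroup.mem_centralizer_singleton_iff.1 (hC hg)
  haveI := Fact.mk hq
  set Q := (P : Subgroup O).map O.subtype with hQdef
  have hQ : IsPGroup q Q := P.2.map _
  obtain ⟨g₀, hg₀, hg₀y⟩ := hPnc
  have hpq : p ≠ q := by
    rintro rfl
    obtain ⟨g₁, hg₁, rfl⟩ := hg₀
    obtain ⟨e, he⟩ := P.2 ⟨g₁, hg₁⟩
    have h1 : g₁ ^ p ^ e = 1 := congrArg Subtype.val he
    have h2 : g₁ = 1 := orderOf_eq_one_iff.1 (Nat.eq_one_of_dvd_coprimes (Nat.Coprime.pow_right e hOcop)
      (orderOf_dvd_natCard g₁) (orderOf_dvd_of_pow_eq_one h1))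
    exact hg₀y (by rw [h2, map_one]; exact Commute.one_left _)
  have hxQ : ∀ g ∈ Q, x' * g * x'⁻¹ ∈ Q := fun g hg =>
    (Subgroup.mem_normalizer_iff.1 (hPinv (Subgroup.mem_zpowers x')) g).1 hg
  -- extension of the scalars
  let K := AlgebraicClosure F
  haveI : CharP K p := charP_of_injective_algebraMap (algebraMap F K).injective p
  let b := Module.finBasis F V
  let Φ : Module.End F V →+* Module.End K (Fin (Module.finrank F V) → K) :=
    (Matrix.toLinAlgEquiv' (R := K)).toAlgHom.toRingHom.comp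
      ((algebraMap F K).mapMatrix.comp (LinearMap.toMatrixAlgEquiv b).toAlgHom.toRingHom)
  have hΦ : Function.Injective Φ :=
    (Matrix.toLinAlgEquiv' (R := K)).injective.comp
      ((Matrix.map_injective (algebraMap F K).injective).comp (LinearMap.toMatrixAlgEquiv b).injective)
  let ρ : Representation K H (Fin (Module.finrank F V) → K) :=
    { toFun := fun h => Φ ((h : V ≃ₗ[F] V) : Module.End F V)
      map_one' := map_one Φ
      map_mul' := fun g h => map_mul Φ ((g : V ≃ₗ[F] V) : Module.End F V) ((h : V ≃ₗ[F] V) : Module.End F V) }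
  have hρ : Function.Injective ρ := fun g h hgh =>
    Subtype.ext (LinearEquiv.toLinearMap_injective (hΦ hgh))
  have hcomm : ∀ g h : H, Commute (ρ g) (ρ h) → Commute g h := fun g h hgh =>
    hρ (by rw [map_mul, map_mul]; exact hgh.eq)
  have hrK : (ρ x' - 1) ^ r = 0 := by
    show (Φ (x : Module.End F V) - 1) ^ r = 0
    rw [← map_one Φ, ← map_sub, ← map_pow, hroot, map_zero]
  rcases theoremB p q hpq ρ Q x' n r hQ hxQ hxP hn1 ⟨g₀, hg₀, fun h => hg₀y (hcomm _ _ h)⟩ hrK with
    h | ⟨n₀, m, h1, h2, h3, h4, -, h6, h7⟩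
  · exact Or.inl (le_antisymm hrle h)
  · refine Or.inr ⟨n₀, q, m, h1, h2, hq, h3, h4, fun R hR => h6 fun g hg k hk => ?_, h7⟩
    obtain ⟨S, hS⟩ := hQ.exists_le_sylow
    have e := (Sylow.equiv R S).symm
    have hgk := e.injective (show e (⟨g, hS hg⟩ * ⟨k, hS hk⟩) = e (⟨k, hS hk⟩ * ⟨g, hS hg⟩) by
      rw [map_mul, map_mul]; exact hR.is_comm.comm _ _)
    show ρ g * ρ k = ρ k * ρ g
    rw [← map_mul, ← map_mul]
    exact congrArg ρ (congrArg Subtype.val hgk)

end Cfsg.Agent.S0633
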