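import Cfsg.Statements.S0635
import Cfsg.Agent.Lib.PLocal.UpperSeries

set_option autoImplicit false
open Cfsg

namespace Cfsg.Agent.S0635

/-- The p-length of a p-soluble group is at most the nilpotency class of its Sylow p-subgroups. -/
theorem result {G : Type*} [Group G] [Finite G] {p : ℕ} [Fact p.Prime] (hsol : Cfsg.IsPSolvable p G) (S : Sylow p G) : Cfsg.PLengthLE p (Group.nilpotencyClass ↥(S : Subgroup G)) G := by
  have key : ∀ j, (Subgroup.upperCentralSeries ↥(S : Subgroup G) j).map (S : Subgroup G).subtype ≤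
      (Cfsg.upperPSeries p G (2 * j)).1 := by
    intro j
    induction j with
    | zero => simp [Subgroup.upperCentralSeries_zero]
    | succ j ih =>
      rw [show 2 * (j + 1) = 2 * j + 2 by ring, CfsgLib.PLoc.upperPSeries_even]
      rintro _ ⟨x, hx, rfl⟩
      apply CfsgLib.PLoc.centralizer_pCore_quotient_upper_odd hsol j
      intro z hz
      have hz' := CfsgLib.Solvable.pCore_le_sylow
        (S.mapSurjective (QuotientGroup.mk'_surjective (Cfsg.upperPSeries p G (2 * j + 1)).1)) hz
      rw [Sylow.coe_mapSurjective] at hz'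
      obtain ⟨y, hy, rfl⟩ := hz'
      have h := ih ⟨_, Subgroup.mem_upperCentralSeries_succ_iff.mp hx ⟨y, hy⟩, rfl⟩
      have h' := (QuotientGroup.eq_one_iff _).mpr (CfsgLib.PLoc.upperPSeries_le_succ_odd j h)
      rw [commutatorElement_def] at h'
      simp only [Subgroup.coe_subtype, Subgroup.coe_mul, Subgroup.coe_inv, QuotientGroup.mk_mul,
        QuotientGroup.mk_inv] at h'
      simp only [QuotientGroup.mk'_apply, Subgroup.coe_subtype]
      exact (commutatorElement_eq_one_iff_mul_comm.mp h').symm
  unfold Cfsg.PLengthLE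
  haveI := S.isPGroup'.isNilpotent
  have hS := key (Group.nilpotencyClass ↥(S : Subgroup G))
  rw [Subgroup.upperCentralSeries_nilpotencyClass, ← MonoidHom.range_eq_map, Subgroup.range_subtype] at hS
  rw [CfsgLib.PLoc.upperPSeries_odd, eq_top_iff]
  intro x _
  refine CfsgLib.PLoc.le_pPrimeCore_of (N := ⊤) inferInstance ?_ (Subgroup.mem_top _)
  rw [Subgroup.card_top, ← Subgroup.index_eq_card]
  exact Nat.Coprime.coprime_dvd_left (Subgroup.index_dvd_of_le hS)
    ((Nat.Prime.coprime_iff_not_dvd Fact.out).mpr S.not_dvd_index).symm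

end Cfsg.Agent.S0635
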