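import Cfsg.Statements.S0647
import Cfsg.Agent.Lib.PLocal.Families

set_option autoImplicit false
open Cfsg

namespace Cfsg.Agent.S0647

/-- For a nonempty family of maximal abelian subgroups of a finite group, the intersection of the family is the centre of the subgroup it generates, which is also the full centralizer of that subgroup. -/
theorem result {S : Type*} [Group S] [Finite S] (𝒜 : Set (Subgroup S)) (hne : 𝒜.Nonempty) (hab : ∀ A ∈ 𝒜, IsMulCommutative A) (hmax : ∀ A ∈ 𝒜, ∀ B : Subgroup S, IsMulCommutative B → A ≤ B → B = A) : sInf 𝒜 = sSup 𝒜 ⊓ Subgroup.centralizer ((sSup 𝒜 : Subgroup S) : Set S) ∧ sInf 𝒜 = Subgroup.centralizer ((sSup 𝒜 : Subgroup S) : Set S) := by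
  obtain ⟨A₀, hA₀⟩ := hne
  set J := sSup 𝒜
  have hcomm : ∀ x, x ∈ Subgroup.centralizer (J : Set S) ↔ x ∈ sInf 𝒜 := by
    intro x
    constructor
    · intro hx
      refine Subgroup.mem_sInf.mpr fun A hA => ?_
      haveI := hab A hA
      have hc : IsMulCommutative ↥(Subgroup.closure ({y : S | y ∈ A ∨ y = x})) := by
        refine Subgroup.isMulCommutative_closure ?_
        intro u hu v hv
        have hxa : ∀ a ∈ A, a * x = x * a := fun a ha => hx a (le_sSup hA ha)
        rcases hu with hu | hu <;> rcases hv with hv | hv
        · exact setLike_mul_comm hu hv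
        · rw [hv]; exact hxa u hu
        · rw [hu]; exact (hxa v hv).symm
        · rw [hu, hv]
      have := hmax A hA _ hc (fun a ha => Subgroup.subset_closure (Or.inl ha))
      rw [← this]
      exact Subgroup.subset_closure (Or.inr rfl)
    · intro hx
      have : J ≤ Subgroup.centralizer {x} := sSup_le fun A hA => by
        haveI := hab A hA
        intro a ha
        exact Subgroup.mem_centralizer_singleton_iff.mpr (setLike_mul_comm ha (Subgroup.mem_sInf.mp hx A hA))
      intro y hy
      exact Subgroup.mem_centralizer_singleton_iff.mp (this hy)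
  have h2 : sInf 𝒜 = Subgroup.centralizer (J : Set S) := by ext x; rw [hcomm]
  refine ⟨?_, h2⟩
  rw [← h2, eq_comm, inf_eq_right]
  exact (sInf_le hA₀).trans (le_sSup hA₀)

end Cfsg.Agent.S0647
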