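import Cfsg.Statements.S0655
import Cfsg.Agent.Lib.PLocal.Families

set_option autoImplicit false
open Cfsg

namespace Cfsg.Agent.S0655

/-- In a p-group the intersection of all elementary abelian subgroups of largest order is the subgroup generated by the elements of order dividing p in the centre (equivalently the centralizer) of the elementary-version Thompson subgroup. -/
theorem result {S : Type*} [Group S] [Finite S] {p : ℕ} [Fact p.Prime] (hS : IsPGroup p S) : sInf (Cfsg.maxElementaryAbelianSubgroups p S) = Cfsg.omegaCenterThompson p S ∧ Cfsg.omegaCenterThompson p S = Cfsg.omegaOne p (Subgroup.centralizer (Cfsg.thompsonSubgroup p S : Set S)) := by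
  have hmem : ∀ A : Subgroup S, A ∈ Cfsg.maxElementaryAbelianSubgroups p S → CfsgLib.PLoc.IsMaxAb p ⊤ A :=
    fun A hA => ⟨le_top, hA.1.1, hA.1.2, fun B _ hc he => hA.2 B ⟨hc, he⟩⟩
  have hmem' : ∀ A : Subgroup S, CfsgLib.PLoc.IsMaxAb p ⊤ A → A ∈ Cfsg.maxElementaryAbelianSubgroups p S :=
    fun A hA => ⟨⟨hA.comm, hA.exp⟩, fun B hB => hA.max B le_top hB.1 hB.2⟩
  have hset : Cfsg.maxElementaryAbelianSubgroups p S = {A | CfsgLib.PLoc.IsMaxAb p ⊤ A} :=
    Set.ext fun A => ⟨hmem A, hmem' A⟩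
  have hI : sInf (Cfsg.maxElementaryAbelianSubgroups p S) = CfsgLib.PLoc.interMaxAb p ⊤ := by
    rw [hset]; rfl
  have hJ : Cfsg.thompsonSubgroup p S = CfsgLib.PLoc.joinMaxAb p ⊤ := by
    rw [Cfsg.thompsonSubgroup, hset]; rfl
  rw [hI]
  unfold Cfsg.omegaCenterThompson Cfsg.omegaOne
  rw [hJ]
  have h2 : Subgroup.closure {x : S | x ∈ Subgroup.centralizer (CfsgLib.PLoc.joinMaxAb p (⊤ : Subgroup S) : Set S) ∧ x ^ p = 1}
      ≤ CfsgLib.PLoc.interMaxAb p ⊤ := (Subgroup.closure_le _).mpr fun x hx =>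
    Subgroup.mem_sInf.mpr fun A hA => CfsgLib.PLoc.mem_of_commute hA (Subgroup.mem_top x) hx.2
      fun a ha => hx.1 a (CfsgLib.PLoc.le_joinMaxAb hA ha)
  have h3 : CfsgLib.PLoc.interMaxAb p (⊤ : Subgroup S) ≤ Subgroup.closure
      {x : S | x ∈ CfsgLib.PLoc.joinMaxAb p (⊤ : Subgroup S) ⊓ Subgroup.centralizer (CfsgLib.PLoc.joinMaxAb p (⊤ : Subgroup S) : Set S) ∧ x ^ p = 1} :=
    fun x hx => by
      obtain ⟨a, b, c⟩ := CfsgLib.PLoc.mem_interMaxAb_iff.mp hx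
      exact Subgroup.subset_closure ⟨⟨a, b⟩, c⟩
  have h4 : Subgroup.closure
      {x : S | x ∈ CfsgLib.PLoc.joinMaxAb p (⊤ : Subgroup S) ⊓ Subgroup.centralizer (CfsgLib.PLoc.joinMaxAb p (⊤ : Subgroup S) : Set S) ∧ x ^ p = 1}
      ≤ Subgroup.closure {x : S | x ∈ Subgroup.centralizer (CfsgLib.PLoc.joinMaxAb p (⊤ : Subgroup S) : Set S) ∧ x ^ p = 1} :=
    Subgroup.closure_mono fun x hx => ⟨hx.1.2, hx.2⟩
  exact ⟨le_antisymm h3 (h4.trans h2), le_antisymm h4 (h2.trans h3)⟩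

end Cfsg.Agent.S0655
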