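import Cfsg.Statements.S0660
import Cfsg.Agent.Lib.PLocal.Families

set_option autoImplicit false
open Cfsg

namespace Cfsg.Agent.S0660

/-- Under a coprime action on an abelian group, an invariant subgroup that is complemented admits an invariant complement. -/
theorem result {G : Type*} [Group G] [Finite G] (V A U : Subgroup G) (hVab : IsMulCommutative V) (hAV : A ≤ Subgroup.normalizer (V : Set G)) (hcop : (Nat.card A).Coprime (Nat.card V)) (hUV : U ≤ V) (hAU : A ≤ Subgroup.normalizer (U : Set G)) (W : Subgroup G) (hWV : W ≤ V) (hUW : U ⊓ W = ⊥) (hUWV : U ⊔ W = V) : ∃ W' : Subgroup G, W' ≤ V ∧ A ≤ Subgroup.normalizer (W' : Set G) ∧ U ⊓ W' = ⊥ ∧ U ⊔ W' = V := by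
  classical
  haveI := Fintype.ofFinite A
  haveI := hVab
  letI : CommGroup V := { (inferInstance : Group V) with mul_comm := fun a b => Subtype.ext (setLike_mul_comm a.2 b.2) }
  have hdec : ∀ v : V, ∃ u : V, (u : G) ∈ U ∧ (u : G)⁻¹ * (v : G) ∈ W := by
    intro v
    have hv : (v : G) ∈ U ⊔ W := hUWV.symm ▸ v.2
    have hWU : W ≤ Subgroup.normalizer (U : Set G) := fun w hw => Subgroup.mem_normalizer_fintype fun u hu => by
      rw [setLike_mul_comm (hWV hw) (hUV hu), mul_inv_cancel_right]; exact hu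
    rw [← SetLike.mem_coe, Subgroup.coe_mul_of_right_le_normalizer_left U W hWU] at hv
    obtain ⟨u, hu, w, hw, h⟩ := hv
    exact ⟨⟨u, hUV hu⟩, hu, by rw [← h]; simpa using hw⟩
  choose pr hprU hprW using hdec
  have huniq : ∀ (v u : V), (u : G) ∈ U → (u : G)⁻¹ * (v : G) ∈ W → pr v = u := by
    intro v u hu hw
    have h : (u : G)⁻¹ * (pr v : G) ∈ U ⊓ W := by
      refine ⟨U.mul_mem (U.inv_mem hu) (hprU v), ?_⟩
      simpa [mul_assoc] using W.mul_mem hw (W.inv_mem (hprW v))
    rw [hUW, Subgroup.mem_bot, inv_mul_eq_one] at h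
    exact Subtype.ext h.symm
  have hmul : ∀ v w : V, pr (v * w) = pr v * pr w := by
    intro v w
    refine huniq _ _ (U.mul_mem (hprU v) (hprU w)) ?_
    have e : ((pr v * pr w : V) : G)⁻¹ * ((v * w : V) : G) = ((pr v : G)⁻¹ * (v : G)) * ((pr w : G)⁻¹ * (w : G)) := by
      have : ((pr v * pr w)⁻¹ * (v * w) : V) = ((pr v)⁻¹ * v) * ((pr w)⁻¹ * w) := by
        rw [mul_inv, mul_mul_mul_comm]
      simpa using congrArg Subtype.val this
    rw [e]
    exact W.mul_mem (hprW v) (hprW w)
  let act : A → (V →* V) := fun a =>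
    { toFun := fun v => ⟨(a : G) * (v : G) * (a : G)⁻¹, ((Subgroup.mem_normalizer_iff).mp (hAV a.2) v).mp v.2⟩
      map_one' := by apply Subtype.ext; simp
      map_mul' := fun v w => by apply Subtype.ext; simp [mul_assoc] }
  have hact : ∀ (a b : A) (v : V), act a (act b v) = act (a * b) v := fun a b v => by
    apply Subtype.ext; simp [act, mul_assoc]
  let f : V →* V :=
    { toFun := fun v => ∏ a : A, act a (pr (act a⁻¹ v))
      map_one' := by
        refine Finset.prod_eq_one fun a _ => ?_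
        rw [map_one, huniq 1 1 U.one_mem (by simp), map_one]
      map_mul' := fun v w => by
        simp only [map_mul, hmul, Finset.prod_mul_distrib] }
  have hfU : ∀ v, (f v : G) ∈ U := fun v => by
    show f v ∈ U.subgroupOf V
    exact Subgroup.prod_mem _ fun a _ => ((Subgroup.mem_normalizer_iff).mp (hAU a.2) _).mp (hprU _)
  have hfid : ∀ v : V, (v : G) ∈ U → f v = v ^ Fintype.card A := by
    intro v hv
    show ∏ a : A, act a (pr (act a⁻¹ v)) = _
    rw [← Finset.card_univ, ← Finset.prod_const]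
    refine Finset.prod_congr rfl fun a _ => ?_
    have hu : (act a⁻¹ v : G) ∈ U := ((Subgroup.mem_normalizer_iff).mp (hAU (a⁻¹).2) _).mp hv
    rw [huniq _ _ hu (by simp), hact, mul_inv_cancel]
    apply Subtype.ext; simp [act]
  have hequiv : ∀ (b : A) v, f (act b v) = act b (f v) := by
    intro b v
    show ∏ a : A, act a (pr (act a⁻¹ (act b v))) = act b (∏ a : A, act a (pr (act a⁻¹ v)))
    rw [map_prod]
    refine (Fintype.prod_equiv (Equiv.mulLeft b) _ _ fun a => ?_).symm
    simp [hact, mul_assoc]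
  have hcop' : (Nat.card V).Coprime (Fintype.card A) := Nat.card_eq_fintype_card (α := A) ▸ hcop.symm
  refine ⟨f.ker.map V.subtype, Subgroup.map_subtype_le _, ?_, ?_, ?_⟩
  · intro b hb
    refine Subgroup.mem_normalizer_fintype ?_
    rintro _ ⟨v, hv, rfl⟩
    refine ⟨act ⟨b, hb⟩ v, ?_, rfl⟩
    show f (act ⟨b, hb⟩ v) = 1
    rw [hequiv, show f v = 1 from hv, map_one]
  · rw [eq_bot_iff]
    rintro _ ⟨hu, v, hv, rfl⟩
    have : v = 1 := (powCoprime hcop').injective (by
      simp only [powCoprime_apply, one_pow]; rw [← hfid v hu]; exact hv)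
    simp [this]
  · refine le_antisymm (sup_le hUV (Subgroup.map_subtype_le _)) fun x hx => ?_
    obtain ⟨w, hw⟩ := (powCoprime hcop').surjective (f ⟨x, hx⟩)
    simp only [powCoprime_apply] at hw
    have hwU : (w : G) ∈ U := by
      have h1 : w ^ Fintype.card A ∈ U.subgroupOf V := by rw [hw]; exact hfU _
      have h2 : (powCoprime hcop').symm (f ⟨x, hx⟩) = w :=
        (Equiv.symm_apply_eq _).mpr (by simp [hw])
      obtain ⟨k, hk⟩ : ∃ k : ℕ, (w ^ Fintype.card A) ^ k = w := by
        have hord : (orderOf w).Coprime (Fintype.card A) := hcop'.coprime_dvd_left (orderOf_dvd_natCard w)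
        obtain ⟨k, hk⟩ := exists_pow_eq_self_of_coprime hord.symm
        exact ⟨k, hk⟩
      have h3 := Subgroup.pow_mem _ h1 k
      rw [hk] at h3
      exact h3
    have hker : w⁻¹ * ⟨x, hx⟩ ∈ f.ker := by
      rw [MonoidHom.mem_ker, map_mul, map_inv, hfid w hwU, hw, inv_mul_cancel]
    have e : x = (w : G) * ((w : G)⁻¹ * x) := by rw [mul_inv_cancel_left]
    rw [e]
    exact Subgroup.mul_mem_sup hwU ⟨_, hker, rfl⟩

end Cfsg.Agent.S0660
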