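import Cfsg.Statements.S0661
import Cfsg.Agent.Lib.PLocal.Locals

set_option autoImplicit false
open Cfsg

namespace Cfsg.Agent.S0661

/-- If, modulo the largest normal subgroup of order prime to p, the largest normal p-subgroup contains its centralizer, then for every p-subgroup P the p'-core of N_G(P) is just O_p'(G) ∩ N_G(P). -/
theorem result {G : Type*} [Group G] [Finite G] {p : ℕ} [Fact p.Prime] (hc : Subgroup.centralizer (Cfsg.pCore p (G ⧸ Cfsg.pPrimeCore p G) : Set (G ⧸ Cfsg.pPrimeCore p G)) ≤ Cfsg.pCore p (G ⧸ Cfsg.pPrimeCore p G)) (P : Subgroup G) (hP : IsPGroup p P) : (Cfsg.pPrimeCore p ↥(Subgroup.normalizer (P : Set G))).map (Subgroup.normalizer (P : Set G)).subtype = Cfsg.pPrimeCore p G ⊓ Subgroup.normalizer (P : Set G) := by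
  set π := QuotientGroup.mk' (Cfsg.pPrimeCore p G)
  have hker : π.ker = Cfsg.pPrimeCore p G := QuotientGroup.ker_mk' _
  have hcop : (Nat.card π.ker).Coprime p := by rw [hker]; exact CfsgLib.PLoc.pPrimeCore_coprime p
  set L := Subgroup.normalizer (P : Set G)
  have hLK : Nat.card (π.subgroupMap L).ker ∣ Nat.card π.ker := by
    rw [← Subgroup.card_map_of_injective L.subtype_injective]
    refine Subgroup.card_dvd_of_le ?_
    rintro _ ⟨x, hx, rfl⟩
    exact congrArg Subtype.val hx
  have hbot : Cfsg.pPrimeCore p ↥(L.map π) = ⊥ := by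
    rw [← CfsgLib.PLoc.normalizer_map_eq (QuotientGroup.mk'_surjective _) hcop hP]
    exact CfsgLib.PLoc.pPrimeCore_local_eq_bot hc (hP.map π) le_rfl
      (Subgroup.centralizer_le_normalizer _) (Or.inl Subgroup.le_normalizer)
  rw [CfsgLib.PLoc.pPrimeCore_eq_comap (π.subgroupMap_surjective L) (hcop.coprime_dvd_left hLK), hbot]
  ext x
  simp only [Subgroup.mem_map, Subgroup.mem_comap, Subgroup.mem_bot, Subgroup.mem_inf]
  constructor
  · rintro ⟨y, hy, rfl⟩
    exact ⟨hker ▸ (congrArg Subtype.val hy : π y = 1), y.2⟩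
  · rintro ⟨h1, h2⟩
    exact ⟨⟨x, h2⟩, Subtype.ext ((QuotientGroup.eq_one_iff x).mpr h1), rfl⟩

end Cfsg.Agent.S0661
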