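import Cfsg.Statements.S0663
import Cfsg.Agent.Lib.PLocal.Uniserial

set_option autoImplicit false
open Cfsg

namespace Cfsg.Agent.S0663

/-- A p-group acts uniserially on a p-group N of order p^n exactly when the iterated commutator chain from N has length n; in that case the chain terms are all the invariant subgroups of N and they are normal in N. -/
theorem result {L : Type*} [Group L] [Finite L] {p : ℕ} [Fact p.Prime] (N G : Subgroup L) (hN : IsPGroup p N) (hG : IsPGroup p G) (hGN : G ≤ Subgroup.normalizer (N : Set L)) (n : ℕ) (hn : Nat.card N = p ^ n) : ((∀ H : Subgroup L, H ≤ N → G ≤ Subgroup.normalizer (H : Set L) → H ≠ ⊥ → (⁅H, G⁆).relIndex H = p) ↔ Cfsg.iterCommutator N G (n - 1) ≠ ⊥ ∨ n = 0) ∧ ((∀ H : Subgroup L, H ≤ N → G ≤ Subgroup.normalizer (H : Set L) → H ≠ ⊥ → (⁅H, G⁆).relIndex H = p) → ∀ H : Subgroup L, H ≤ N → G ≤ Subgroup.normalizer (H : Set L) → (∃ i ≤ n, H = Cfsg.iterCommutator N G i) ∧ N ≤ Subgroup.normalizer (H : Set L)) := by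
  have key : (∀ H : Subgroup L, H ≤ N → G ≤ Subgroup.normalizer (H : Set L) → H ≠ ⊥ →
      (⁅H, G⁆).relIndex H = p) → Cfsg.iterCommutator N G (n - 1) ≠ ⊥ ∨ n = 0 := by
    intro hU
    rcases Nat.eq_zero_or_pos n with h0 | h0
    · exact Or.inr h0
    refine Or.inl ?_
    have hcard : ∀ i ≤ n, Nat.card (Cfsg.iterCommutator N G i) = p ^ (n - i) := by
      intro i
      induction i with
      | zero => intro _; rw [Nat.sub_zero, ← hn]; rfl
      | succ i ih =>
        intro hi
        have hi' := ih (by omega)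
        have hne : Cfsg.iterCommutator N G i ≠ ⊥ := by
          intro h
          rw [h, Subgroup.card_bot] at hi'
          exact (Nat.one_lt_pow (show n - i ≠ 0 by omega) (Fact.out : p.Prime).one_lt).ne hi'
        have h1 := hU _ (CfsgLib.PLoc.Uniserial.iter_le_normalizer hGN i).1
          (CfsgLib.PLoc.Uniserial.iter_le_normalizer hGN i).2 hne
        have hle : ⁅Cfsg.iterCommutator N G i, G⁆ ≤ Cfsg.iterCommutator N G i :=
          Subgroup.le_normalizer_iff_commutator_le_left.mp
            (CfsgLib.PLoc.Uniserial.iter_le_normalizer hGN i).2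
        have h2 : Nat.card ↥(⁅Cfsg.iterCommutator N G i, G⁆) * p = p ^ (n - i) := by
          have h3 := Subgroup.card_mul_index
            ((⁅Cfsg.iterCommutator N G i, G⁆ : Subgroup L).subgroupOf (Cfsg.iterCommutator N G i))
          rw [Nat.card_congr (Subgroup.subgroupOfEquivOfLe hle).toEquiv, hi'] at h3
          change Nat.card ↥(⁅Cfsg.iterCommutator N G i, G⁆) *
            (⁅Cfsg.iterCommutator N G i, G⁆).relIndex (Cfsg.iterCommutator N G i) = _ at h3
          rwa [h1] at h3
        refine Nat.eq_of_mul_eq_mul_right (Fact.out : p.Prime).pos ?_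
        rw [← pow_succ, show n - (i + 1) + 1 = n - i by omega]
        exact h2
    intro h
    have := hcard (n - 1) (by omega)
    rw [h, Subgroup.card_bot] at this
    exact (Nat.one_lt_pow (show n - (n - 1) ≠ 0 by omega) (Fact.out : p.Prime).one_lt).ne this
  refine ⟨⟨key, ?_⟩, ?_⟩
  · intro hc H hH hGH hH0
    obtain ⟨i, hi, rfl⟩ := CfsgLib.PLoc.Uniserial.eq_iter_of_invariant hN hG hGN hn hc hH hGH
    have hin : i < n := by
      refine lt_of_le_of_ne hi fun h => hH0 (Subgroup.eq_bot_of_card_le _ ?_)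
      rw [CfsgLib.PLoc.Uniserial.card_iter_eq hN hG hGN hn hc hi, h, Nat.sub_self, pow_zero]
    have h1 := CfsgLib.PLoc.Uniserial.card_iter_eq hN hG hGN hn hc (show i + 1 ≤ n by omega)
    have h2 := CfsgLib.PLoc.Uniserial.card_iter_eq hN hG hGN hn hc hi
    have hle : ⁅Cfsg.iterCommutator N G i, G⁆ ≤ Cfsg.iterCommutator N G i :=
      Subgroup.le_normalizer_iff_commutator_le_left.mp hGH
    have h3 : Nat.card ↥(⁅Cfsg.iterCommutator N G i, G⁆) *
        (⁅Cfsg.iterCommutator N G i, G⁆).relIndex (Cfsg.iterCommutator N G i) =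
        Nat.card ↥(Cfsg.iterCommutator N G i) := by
      rw [← Nat.card_congr (Subgroup.subgroupOfEquivOfLe hle).toEquiv]
      exact Subgroup.card_mul_index _
    rw [show Nat.card ↥(⁅Cfsg.iterCommutator N G i, G⁆) = p ^ (n - (i + 1)) from h1, h2] at h3
    refine Nat.eq_of_mul_eq_mul_left (Nat.pow_pos (n := n - (i + 1)) (Fact.out : p.Prime).pos) ?_
    rw [h3, ← pow_succ]
    congr 1
    omega
  · intro hU H hH hGH
    obtain ⟨i, hi, rfl⟩ :=
      CfsgLib.PLoc.Uniserial.eq_iter_of_invariant hN hG hGN hn (key hU) hH hGH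
    exact ⟨⟨i, hi, rfl⟩, CfsgLib.PLoc.Uniserial.le_normalizer_iter hN hG hGN hn (key hU) hi⟩

end Cfsg.Agent.S0663
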