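import Cfsg.Statements.S0666
import Cfsg.Agent.Lib.Frobenius.Theorem

set_option autoImplicit false
open Cfsg

set_option linter.style.haveILetI false

namespace Cfsg.Agent.S0666

open scoped Pointwise

/-- Norm argument: if neither the kernel nor the complement fixes a nontrivial element, then the
module is killed by the order of the kernel. -/
theorem pow_card_kernel_eq_one {F V : Type*} [Group F] [Finite F] [CommGroup V]
    (c : F → V →* V) (c_one : ∀ w, c 1 w = w) (c_mul : ∀ a b w, c (a * b) w = c a (c b w))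
    {H N : Subgroup F} (hH : Cfsg.IsFrobeniusComplement H) [N.Normal]
    (hc : Subgroup.IsComplement' N H)
    (hfixN : ∀ w, (∀ n ∈ N, c n w = w) → w = 1) (hfixH : ∀ w, (∀ h ∈ H, c h w = w) → w = 1)
    (v : V) : v ^ Nat.card N = 1 := by
  classical
  haveI : Fintype F := Fintype.ofFinite F
  have hnorm : ∀ S : Subgroup F, (∀ w, (∀ s ∈ S, c s w = w) → w = 1) → ∀ w, ∏ s : S, c s w = 1 :=
    fun S hS w => hS _ fun s hs => by
      rw [map_prod]
      exact Fintype.prod_equiv (Equiv.mulLeft (⟨s, hs⟩ : S)) _ _ fun x => by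
        simp [← c_mul]
  have hall : ∏ a : F, c a v = 1 := hfixN _ fun s _ => by
    rw [map_prod]
    exact Fintype.prod_equiv (Equiv.mulLeft s) _ _ fun x => by simp [← c_mul]
  have hdisj : ∀ g ∈ N, g ∈ H → g = 1 := fun g h1 h2 =>
    (Subgroup.disjoint_def.1 hc.disjoint) h1 h2
  let φ : N × H → F := fun x =>
    if (x.2 : F) = 1 then (x.1 : F) else (x.1 : F) * x.2 * (x.1 : F)⁻¹
  have hnotN : ∀ (k : N) (h : H), (h : F) ≠ 1 → (k : F) * h * (k : F)⁻¹ ∉ N := fun k h h1 hm => by
    refine h1 (hdisj _ ?_ h.2)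
    simpa [mul_assoc] using (inferInstance : N.Normal).conj_mem _ hm (k : F)⁻¹
  have hinj : Function.Injective φ := by
    rintro ⟨k, h⟩ ⟨k', h'⟩ he
    simp only [φ] at he
    by_cases h1 : (h : F) = 1 <;> by_cases h2 : (h' : F) = 1
    · rw [if_pos h1, if_pos h2] at he
      exact Prod.ext (Subtype.ext he) (Subtype.ext (h1.trans h2.symm))
    · rw [if_pos h1, if_neg h2] at he
      exact absurd (he ▸ k.2) (hnotN k' h' h2)
    · rw [if_neg h1, if_pos h2] at he
      exact absurd (he ▸ k'.2) (hnotN k h h1)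
    · rw [if_neg h1, if_neg h2] at he
      have hg : (k' : F)⁻¹ * k ∈ H := by
        by_contra hg
        refine h2 ?_
        have hm : (h' : F) ∈ MulAut.conj ((k' : F)⁻¹ * k) • H ⊓ H := by
          refine ⟨?_, h'.2⟩
          show (h' : F) ∈ MulAut.conj ((k' : F)⁻¹ * k) • H
          rw [Subgroup.mem_pointwise_smul_iff_inv_smul_mem]
          convert h.2 using 1
          simp only [MulAut.smul_def, MulAut.inv_apply, MulAut.conj_symm_apply, mul_inv_rev, inv_inv]
          calc (k : F)⁻¹ * k' * h' * ((k' : F)⁻¹ * k)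
              = (k : F)⁻¹ * ((k' : F) * h' * (k' : F)⁻¹) * k := by group
            _ = h := by rw [← he]; group
        rw [inf_comm, hH.2.2 _ hg] at hm
        exact hm
      have hk : k = k' := Subtype.ext (inv_mul_eq_one.1 (hdisj _ (N.mul_mem (N.inv_mem k'.2) k.2) hg)).symm
      subst hk
      simpa using he
  have hbij : Function.Bijective φ := (Fintype.bijective_iff_injective_and_card φ).2
    ⟨hinj, by rw [Fintype.card_prod, ← Nat.card_eq_fintype_card, ← Nat.card_eq_fintype_card,
      ← Nat.card_eq_fintype_card, hc.card_mul_card]⟩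
  rw [← hbij.prod_comp (fun a => c a v), Fintype.prod_prod_type] at hall
  have hrow : ∀ k : N, (∏ h : H, c (φ (k, h)) v) * v = c k v := by
    intro k
    have hS : ∏ h : H, c ((k : F) * h * (k : F)⁻¹) v = 1 := by
      simp only [c_mul]
      rw [← map_prod, hnorm H hfixH, map_one]
    rw [← Finset.mul_prod_erase _ _ (Finset.mem_univ (1 : H))] at hS ⊢
    simp only [Subgroup.coe_one, mul_one, mul_inv_cancel, c_one] at hS
    have he : ∀ h ∈ (Finset.univ : Finset H).erase 1,
        c (φ (k, h)) v = c ((k : F) * h * (k : F)⁻¹) v := fun h hh => by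
      simp [φ, (Finset.mem_erase.1 hh).1]
    rw [Finset.prod_congr rfl he, mul_assoc, mul_comm _ v, hS]
    simp [φ]
  have h2 := congrArg (fun f : N → V => ∏ k, f k) (funext hrow)
  simp only [Finset.prod_mul_distrib, hall, one_mul, Finset.prod_const, Finset.card_univ,
    hnorm N hfixN v] at h2
  rwa [← Nat.card_eq_fintype_card] at h2

/-- A Frobenius group acting on a nontrivial abelian group of order prime to that of its kernel, with the kernel acting without nontrivial fixed points, has a complement with a nontrivial fixed point. -/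
theorem result {G : Type*} [Group G] [Finite G] (V F : Subgroup G) (hVab : IsMulCommutative V) (hV1 : V ≠ ⊥) (hFV : F ≤ Subgroup.normalizer (V : Set G)) (H : Subgroup ↥F) (hH : Cfsg.IsFrobeniusComplement H) (hcop : (Nat.card V).Coprime (Nat.card (Cfsg.frobeniusKernel H))) (hCK : V ⊓ Subgroup.centralizer (Subtype.val '' Cfsg.frobeniusKernel H : Set G) = ⊥) : V ⊓ Subgroup.centralizer ((H.map F.subtype : Subgroup G) : Set G) ≠ ⊥ := by
  intro hbot
  haveI := hVab
  letI : CommGroup V :=
    { (inferInstance : Group V) with mul_comm := fun a b => Subtype.ext (setLike_mul_comm a.2 b.2) }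
  obtain ⟨N, hN, hNn, hNc⟩ := CfsgLib.Frobenius.exists_kernel_subgroup hH
  haveI := hNn
  let c : F → V →* V := fun a =>
    { toFun := fun w => ⟨(a : G) * w * (a : G)⁻¹, (Subgroup.mem_normalizer_iff.1 (hFV a.2) w).1 w.2⟩
      map_one' := Subtype.ext (by simp)
      map_mul' := fun w w' => Subtype.ext (by simp only [Subgroup.coe_mul]; group) }
  have hcard : Nat.card (Cfsg.frobeniusKernel H) = Nat.card N := by rw [← hN]; rfl
  refine hV1 (eq_bot_iff.2 fun x hx => ?_)
  have hpow := pow_card_kernel_eq_one c (fun w => Subtype.ext (by simp [c]))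
    (fun a b w => Subtype.ext (show ((a * b : F) : G) * w * ((a * b : F) : G)⁻¹
      = (a : G) * ((b : G) * w * (b : G)⁻¹) * (a : G)⁻¹ by rw [Subgroup.coe_mul]; group))
    hH hNc ?_ ?_ ⟨x, hx⟩
  · have h1 := congrArg Subtype.val (orderOf_eq_one_iff.1 (Nat.eq_one_of_dvd_coprimes hcop
      (orderOf_dvd_natCard (⟨x, hx⟩ : V)) (hcard ▸ orderOf_dvd_of_pow_eq_one hpow)))
    simpa using h1
  · intro w hw
    have : (w : G) ∈ V ⊓ Subgroup.centralizer (Subtype.val '' Cfsg.frobeniusKernel H : Set G) := by
      refine ⟨w.2, ?_⟩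
      rintro _ ⟨a, ha, rfl⟩
      exact mul_inv_eq_iff_eq_mul.1 (congrArg Subtype.val (hw a (by rwa [← SetLike.mem_coe, hN])))
    rw [hCK] at this
    exact Subtype.ext this
  · intro w hw
    have : (w : G) ∈ V ⊓ Subgroup.centralizer ((H.map F.subtype : Subgroup G) : Set G) := by
      refine ⟨w.2, ?_⟩
      rintro _ ⟨a, ha, rfl⟩
      exact mul_inv_eq_iff_eq_mul.1 (congrArg Subtype.val (hw a ha))
    rw [hbot] at this
    exact Subtype.ext this

end Cfsg.Agent.S0666
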