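import Cfsg.Statements.S0668
import Mathlib.LinearAlgebra.Matrix.ToLin
import Mathlib.LinearAlgebra.Dimension.Constructions

set_option autoImplicit false
open Cfsg

namespace Cfsg.Agent.S0668

theorem permRep_single {G : Type*} [Group G] {K : Type*} [Field K] {Ω : Type*} [DecidableEq Ω]
    [MulAction G Ω] (g : G) (x : Ω) :
    Cfsg.permRep K G Ω g (Pi.single x 1) = Pi.single (g • x) 1 := by
  funext y
  show (Pi.single x (1 : K) : Ω → K) (g⁻¹ • y) = (Pi.single (g • x) (1 : K) : Ω → K) y
  simp only [Pi.single_apply, inv_smul_eq_iff]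

open scoped Classical in
noncomputable def orbitEquiv {G : Type*} [Group G] {K : Type*} [Field K] (Ω₁ Ω₂ : Type*)
    [Fintype Ω₁] [Fintype Ω₂] [MulAction G Ω₁] [MulAction G Ω₂] :
    ((Cfsg.permRep K G Ω₁).linHom (Cfsg.permRep K G Ω₂)).invariants ≃ₗ[K]
      (MulAction.orbitRel.Quotient G (Ω₁ × Ω₂) → K) where
  toFun f := Quotient.lift (fun z : Ω₁ × Ω₂ => (f : (Ω₁ → K) →ₗ[K] (Ω₂ → K)) (Pi.single z.1 1) z.2) <| by
    rintro z w ⟨g, hg⟩
    dsimp only at hg ⊢
    rw [← hg]
    have h := congrArg (fun φ : (Ω₁ → K) →ₗ[K] (Ω₂ → K) => φ (Pi.single (g • w.1) 1) (g • w.2))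
      ((Representation.mem_invariants _ _).mp f.2 g)
    simp only [Representation.linHom_apply, LinearMap.comp_apply, permRep_single, inv_smul_smul] at h
    simp only [Prod.smul_fst, Prod.smul_snd]
    rw [← h]
    exact congrArg _ (inv_smul_smul g w.2)
  map_add' f₁ f₂ := by
    funext q
    induction q using Quotient.inductionOn' with
    | h z => rfl
  map_smul' c f := by
    funext q
    induction q using Quotient.inductionOn' with
    | h z => rfl
  invFun φ := ⟨Matrix.toLin' (Matrix.of fun y x => φ (Quotient.mk'' (x, y))), by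
    rw [Representation.mem_invariants]
    intro g
    apply LinearMap.pi_ext'
    intro x
    ext y
    simp only [Representation.linHom_apply, LinearMap.comp_apply, LinearMap.coe_single,
      permRep_single]
    show Matrix.toLin' _ (Pi.single (g⁻¹ • x) 1) (g⁻¹ • y) = _
    simp only [Matrix.toLin'_apply, Matrix.mulVec_single_one, Matrix.col_apply, Matrix.of_apply]
    exact congrArg φ (Quotient.sound' ⟨g⁻¹, rfl⟩)⟩
  left_inv f := by
    apply Subtype.ext
    apply LinearMap.pi_ext'
    intro x
    ext y
    simp [Matrix.mulVec_single_one]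
  right_inv φ := by
    funext q
    induction q using Quotient.inductionOn' with
    | h z => simp [Matrix.mulVec_single_one]

/-- The equivariant linear maps between the permutation modules of two finite `G`-sets form a space whose dimension is the number of `G`-orbits on the product of the two sets. -/
theorem result {G : Type*} [Group G] {K : Type*} [Field K] {Ω₁ Ω₂ : Type*} [Fintype Ω₁] [Fintype Ω₂] [MulAction G Ω₁] [MulAction G Ω₂] : Module.finrank K ((Cfsg.permRep K G Ω₁).linHom (Cfsg.permRep K G Ω₂)).invariants = Nat.card (MulAction.orbitRel.Quotient G (Ω₁ × Ω₂)) := by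
  rw [(orbitEquiv (G := G) (K := K) Ω₁ Ω₂).finrank_eq]
  classical
  haveI : Finite (MulAction.orbitRel.Quotient G (Ω₁ × Ω₂)) :=
    Finite.of_surjective _ Quotient.mk''_surjective
  letI := Fintype.ofFinite (MulAction.orbitRel.Quotient G (Ω₁ × Ω₂))
  rw [Module.finrank_pi, Nat.card_eq_fintype_card]

end Cfsg.Agent.S0668
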