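import Cfsg.Statements.S0669
import Mathlib.GroupTheory.GroupAction.Quotient

set_option autoImplicit false
open Cfsg

namespace Cfsg.Agent.S0669

/-- The rank of a transitive action: orbits on ordered pairs correspond to orbits of a point stabiliser. -/
theorem result {G : Type*} [Group G] {Ω : Type*} [Finite Ω] [MulAction G Ω] [MulAction.IsPretransitive G Ω] (a : Ω) : Nat.card (MulAction.orbitRel.Quotient G (Ω × Ω)) = Nat.card (MulAction.orbitRel.Quotient (MulAction.stabilizer G a) Ω) := by
  let f : MulAction.orbitRel.Quotient (MulAction.stabilizer G a) Ω →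
      MulAction.orbitRel.Quotient G (Ω × Ω) :=
    Quotient.map' (fun x => (a, x)) fun x y ⟨g, hg⟩ =>
      ⟨(g : G), Prod.ext (MulAction.mem_stabilizer_iff.mp g.2) hg⟩
  refine (Nat.card_congr (Equiv.ofBijective f ⟨fun p q => ?_, fun q => ?_⟩)).symm
  · induction p using Quotient.inductionOn' with
    | h x => induction q using Quotient.inductionOn' with
      | h y =>
        intro h
        obtain ⟨g, hg⟩ := Quotient.eq''.mp h
        obtain ⟨h1, h2⟩ := Prod.ext_iff.mp hg
        exact Quotient.sound' ⟨⟨g, h1⟩, h2⟩
  · induction q using Quotient.inductionOn' with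
    | h z =>
      obtain ⟨g, hg⟩ := MulAction.exists_smul_eq G z.1 a
      exact ⟨Quotient.mk'' (g • z.2), Quotient.sound' ⟨g, Prod.ext hg rfl⟩⟩

end Cfsg.Agent.S0669
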