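import Cfsg.Statements.S0677
import Cfsg.Agent.Lib.Perm.PrimeDegreeEven
import Cfsg.Agent.S0676
import Mathlib.GroupTheory.SpecificGroups.Cyclic
import Mathlib.LinearAlgebra.BilinearMap
import Mathlib.Tactic.LinearCombination
import Mathlib.Tactic.FieldSimp

set_option autoImplicit false
open Cfsg

namespace Cfsg.Agent.S0677

open MulAction

theorem solvable_case {α : Type*} [Fintype α] [DecidableEq α] {p : ℕ} [Fact p.Prime]
    (hα : Fintype.card α = p) (G : Subgroup (Equiv.Perm α)) [IsPretransitive G α]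
    (hG : Group.IsSolvable G) (H : Subgroup G) (hH : H.index = p) :
    ∃ a : α, H = stabilizer G a := by
  have hp : p.Prime := Fact.out
  haveI hne' : Nonempty α := Fintype.card_pos_iff.mp (hα ▸ hp.pos)
  obtain ⟨a₀⟩ := id hne'
  have hnα : Nat.card α = p := by rw [Nat.card_eq_fintype_card, hα]
  haveI : IsPreprimitive G α := IsPreprimitive.of_prime_card (hnα ▸ hp)
  have hidx : ∀ a : α, (stabilizer G a).index = p := fun a => by
    rw [index_stabilizer_of_transitive, hnα]
  -- an abelian nontrivial normal subgroup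
  haveI : Nontrivial G := by
    rw [← Finite.one_lt_card_iff_nontrivial]
    exact lt_of_lt_of_le (hH ▸ hp.one_lt) (Nat.le_of_dvd Nat.card_pos (Subgroup.index_dvd_card H))
  have hn := (Group.isSolvable_def G).mp hG
  classical
  set n := Nat.find hn with hn'
  have hn0 : n ≠ 0 := fun h => by
    have := Nat.find_spec hn
    rw [← hn', h, derivedSeries_zero] at this
    exact top_ne_bot this
  set A := derivedSeries G (n - 1) with hA
  have hAne : A ≠ ⊥ := Nat.find_min hn (by omega)
  haveI : A.Normal := derivedSeries_normal G (n - 1)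
  have hAab : ∀ u ∈ A, ∀ v ∈ A, u * v = v * u := by
    intro u hu v hv
    have h := Nat.find_spec hn
    rw [← hn', show n = n - 1 + 1 by omega, derivedSeries_succ, ← hA] at h
    have hm := Subgroup.commutator_mem_commutator hu hv
    rw [h, Subgroup.mem_bot] at hm
    exact commutatorElement_eq_one_iff_mul_comm.mp hm
  haveI : IsPretransitive A α := CfsgLib.Perm.isPretransitive_of_normal A hAne
  have hAr : ∀ a : α, stabilizer A a = ⊥ := fun a =>
    CfsgLib.Perm.stabilizer_eq_bot_of_commute A A hAab a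
  have hAc : Nat.card A = p := (CfsgLib.Perm.card_eq_of_regular A a₀ ‹_› (hAr a₀)).trans hnα
  -- an element of `H` commuting with `A` is trivial
  have hHA : ∀ h ∈ H, h ∈ A → h = 1 := by
    intro h hh hA'
    by_contra hne
    have hd : p ∣ Nat.card H := by
      have h1 : orderOf h ∣ p := hAc ▸ Subgroup.orderOf_dvd_natCard A hA'
      rcases (Nat.dvd_prime hp).mp h1 with h2 | h2
      · exact absurd (orderOf_eq_one_iff.mp h2) hne
      · exact h2 ▸ Subgroup.orderOf_dvd_natCard H hh
    refine CfsgLib.Perm.not_sq_dvd_card hα G ?_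
    rw [← Subgroup.card_mul_index H, hH, pow_two]
    exact Nat.mul_dvd_mul_right hd p
  haveI : IsCyclic A := isCyclic_of_prime_card hAc
  obtain ⟨y, hy⟩ := IsCyclic.exists_generator (α := A)
  have hact : ∀ g : G, ∃ m : ℕ, ∀ u ∈ A, g * u * g⁻¹ = u ^ m := by
    intro g
    obtain ⟨m, hm⟩ := mem_powers_iff_mem_zpowers.mpr
      (hy ⟨g * y * g⁻¹, ‹A.Normal›.conj_mem _ y.2 g⟩)
    refine ⟨m, fun u hu => ?_⟩
    obtain ⟨j, hj⟩ := hy ⟨u, hu⟩
    have hj' : (y : G) ^ j = u := congrArg Subtype.val hj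
    have hm' : (y : G) ^ m = g * y * g⁻¹ := congrArg Subtype.val hm
    rw [← hj', ← conj_zpow, ← hm', ← zpow_natCast, ← zpow_natCast, ← zpow_mul, ← zpow_mul,
      mul_comm]
  -- `H` is abelian
  have hHab : ∀ u ∈ H, ∀ v ∈ H, u * v = v * u := by
    intro u hu v hv
    set c := u * v * u⁻¹ * v⁻¹ with hc
    have hcH : c ∈ H := H.mul_mem (H.mul_mem (H.mul_mem hu hv) (H.inv_mem hu)) (H.inv_mem hv)
    have hcA : c ∈ A := by
      refine CfsgLib.Perm.mem_of_commute_of_transitive (α := α) (hc := fun w hw => ?_) A A hAab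
      obtain ⟨mu, hmu⟩ := hact u
      obtain ⟨mv, hmv⟩ := hact v
      have hcA' : ∀ z ∈ A, (v * u) * z * (v * u)⁻¹ = (u * v) * z * (u * v)⁻¹ := fun z hz => by
        have h1 : ∀ (g₁ g₂ : G) (m₁ m₂ : ℕ), (∀ z ∈ A, g₁ * z * g₁⁻¹ = z ^ m₁) →
            (∀ z ∈ A, g₂ * z * g₂⁻¹ = z ^ m₂) → (g₁ * g₂) * z * (g₁ * g₂)⁻¹ = z ^ (m₁ * m₂) := by
          intro g₁ g₂ m₁ m₂ h₁ h₂
          rw [show (g₁ * g₂) * z * (g₁ * g₂)⁻¹ = g₁ * (g₂ * z * g₂⁻¹) * g₁⁻¹ by group, h₂ z hz,
            h₁ _ (A.pow_mem hz _), ← pow_mul, mul_comm]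
        rw [h1 v u mv mu hmv hmu, h1 u v mu mv hmu hmv, mul_comm]
      have hw' : (v * u)⁻¹ * w * (v * u) ∈ A := by simpa using ‹A.Normal›.conj_mem w hw (v * u)⁻¹
      have h2 := hcA' _ hw'
      rw [show (v * u) * ((v * u)⁻¹ * w * (v * u)) * (v * u)⁻¹ = w by group,
        show (u * v) * ((v * u)⁻¹ * w * (v * u)) * (u * v)⁻¹ = c * w * c⁻¹ by
          rw [hc]; group] at h2
      exact eq_mul_inv_iff_mul_eq.mp h2
    have h1 := hHA c hcH hcA
    rw [hc, mul_inv_eq_one, mul_inv_eq_iff_eq_mul] at h1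
    exact h1
  have hkey : ∀ a : α, (∀ h ∈ H, h • a = a) → ∃ a : α, H = stabilizer G a := fun a ha => by
    refine ⟨a, Subgroup.eq_of_le_of_card_ge (fun h hh => ha h hh) ?_⟩
    have e1 := Subgroup.card_mul_index H
    have e2 := Subgroup.card_mul_index (stabilizer G a)
    rw [hH] at e1
    rw [hidx] at e2
    exact le_of_eq (Nat.eq_of_mul_eq_mul_right hp.pos (e2.trans e1.symm))
  by_cases htriv : ∀ h ∈ H, h = 1
  · exact hkey a₀ fun h hh => by rw [htriv h hh, one_smul]
  push Not at htriv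
  obtain ⟨h₀, hh₀, hne⟩ := htriv
  -- `h₀` fixes exactly one point
  have huniq : ∀ a b : α, h₀ • a = a → h₀ • b = b → a = b := by
    intro a b ha hb
    by_contra hab
    obtain ⟨u, hu⟩ := exists_smul_eq A a b
    have hu' : (u : G) • a = b := hu
    have hconj : (h₀ * u * h₀⁻¹) • a = (u : G) • a := by
      rw [← CfsgLib.Perm.smul_smul_of_fix ha, hu', hb]
    have huc : h₀ * u * h₀⁻¹ = u := congrArg Subtype.val
      (CfsgLib.Perm.smul_left_injective_of_stabilizer_eq_bot (hAr a)
        (a₁ := ⟨_, ‹A.Normal›.conj_mem _ u.2 h₀⟩) (a₂ := u) hconj)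
    have hu1 : u ≠ 1 := fun e => hab (by rw [← hu, e, one_smul])
    haveI : Fact (Nat.card A).Prime := ⟨hAc ▸ hp⟩
    apply hne
    refine hHA h₀ hh₀ (CfsgLib.Perm.mem_of_commute_of_transitive (α := α) A A hAab fun w hw => ?_)
    obtain ⟨j, hj⟩ := mem_zpowers_of_prime_card (g := u) (g' := ⟨w, hw⟩) rfl hu1
    rw [show w = (u : G) ^ j from (congrArg Subtype.val hj).symm]
    exact ((Commute.zpow_right (show Commute h₀ u from mul_inv_eq_iff_eq_mul.mp huc) j).eq).symm
  obtain ⟨a, ha⟩ : ∃ a : α, h₀ • a = a := by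
    by_contra hno
    push Not at hno
    -- otherwise `h₀` would be a translation
    obtain ⟨m, hm⟩ := hact h₀
    obtain ⟨e, he⟩ := CfsgLib.Perm.exists_coords (α := α) hα (g := ((y : G) : Equiv.Perm α))
      (congrArg (fun z : A => ((z : G) : Equiv.Perm α)) (show y ^ p = 1 by rw [← hAc, pow_card_eq_one']))
      (fun e1 => hAne (Subgroup.eq_bot_iff_forall A |>.mpr fun z hz => by
        obtain ⟨j, hj⟩ := hy ⟨z, hz⟩
        rw [show y = 1 from Subtype.ext (Subtype.ext e1)] at hj
        rw [← show ((1 : A) ^ j : A).val = z from congrArg Subtype.val hj, one_zpow]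
        rfl))
    obtain ⟨c, hc⟩ := e.surjective (h₀ • e 0)
    have hlin : ∀ i : ℕ, h₀ • e (i : ZMod p) = e (c + (m * i : ℕ)) := fun i => by
      have e1 : e (i : ZMod p) = ((y : G) ^ i) • e 0 := by
        show _ = (((y : G) : Equiv.Perm α) ^ i) (e 0)
        rw [CfsgLib.Perm.pow_apply_coords he, zero_add]
      rw [e1, smul_smul, show h₀ * (y : G) ^ i = (h₀ * (y : G) ^ i * h₀⁻¹) * h₀ by group, mul_smul,
        hm _ (A.pow_mem y.2 i), ← pow_mul, ← hc]
      show (((y : G) : Equiv.Perm α) ^ (i * m)) (e c) = _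
      rw [CfsgLib.Perm.pow_apply_coords he, mul_comm]
    by_cases hm1 : (m : ZMod p) = 1
    · have hfix : ∀ z, h₀ • z = ((y : G) ^ c.val) • z := fun z => by
        obtain ⟨i, rfl⟩ := e.surjective z
        have := hlin i.val
        rw [ZMod.natCast_zmod_val] at this
        rw [this]
        show _ = (((y : G) : Equiv.Perm α) ^ c.val) (e i)
        rw [CfsgLib.Perm.pow_apply_coords he, Nat.cast_mul, hm1, ZMod.natCast_zmod_val,
          ZMod.natCast_zmod_val, one_mul, add_comm]
      exact hne (hHA h₀ hh₀ ((FaithfulSMul.eq_of_smul_eq_smul hfix) ▸ A.pow_mem y.2 _))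
    · have h1 : (1 : ZMod p) - m ≠ 0 := sub_ne_zero.mpr (Ne.symm hm1)
      refine hno (e (c / (1 - m))) ?_
      have := hlin (c / (1 - (m : ZMod p))).val
      rw [ZMod.natCast_zmod_val] at this
      rw [this]
      congr 1
      rw [Nat.cast_mul, ZMod.natCast_zmod_val]
      field_simp
      ring
  refine hkey a fun h hh => huniq _ _ ?_ ha
  rw [smul_smul, ← hHab h hh h₀ hh₀, mul_smul, ha]

theorem bilinear_form {α K : Type*} [Fintype α] [DecidableEq α] [Field K]
    {G : Type*} [Group G] [MulAction G α] (h3 : IsMultiplyPretransitive G α 3) (a₀ a₁ a₂ : α)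
    (h01 : a₀ ≠ a₁) (h02 : a₀ ≠ a₂) (h12 : a₁ ≠ a₂)
    (B : (α → K) →ₗ[K] (α → K) →ₗ[K] (α → K))
    (hB : ∀ (g : G) f h, B (Cfsg.permRep K G α g f) (Cfsg.permRep K G α g h) =
      Cfsg.permRep K G α g (B f h))
    (hsymm : ∀ f h, B f h = B h f) :
    ∃ a b : K, ∀ f h : α → K, ∑ x, f x = 0 → ∑ x, h x = 0 →
      B f h = a • (f * h) + b • (fun _ => ∑ x, f x * h x) := by
  classical
  let C : α → α → α → K := fun x y z => B (Pi.single x 1) (Pi.single y 1) z
  have hC : ∀ (g : G) x y z, C (g • x) (g • y) (g • z) = C x y z := fun g x y z => by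
    have h := congrFun (hB g (Pi.single x 1) (Pi.single y 1)) (g • z)
    rw [CfsgLib.Perm.permRep_single_eq, CfsgLib.Perm.permRep_single_eq,
      CfsgLib.Perm.permRep_apply, inv_smul_smul] at h
    exact h
  have hmove : ∀ x y z : α, x ≠ y → x ≠ z → y ≠ z → ∃ g : G, g • a₀ = x ∧ g • a₁ = y ∧ g • a₂ = z := by
    intro x y z hxy hxz hyz
    have key : ∀ (u v w : α), u ≠ v → u ≠ w → v ≠ w → Function.Injective ![u, v, w] := by
      intro u v w huv huw hvw i j h
      fin_cases i <;> fin_cases j <;> first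
        | rfl
        | exact absurd h huv
        | exact absurd h huw
        | exact absurd h hvw
        | exact absurd h.symm huv
        | exact absurd h.symm huw
        | exact absurd h.symm hvw
    obtain ⟨g, hg⟩ := exists_smul_eq G (⟨_, key a₀ a₁ a₂ h01 h02 h12⟩ : Fin 3 ↪ α)
      ⟨_, key x y z hxy hxz hyz⟩
    exact ⟨g, congrArg (fun f : Fin 3 ↪ α => f 0) hg, congrArg (fun f : Fin 3 ↪ α => f 1) hg,
      congrArg (fun f : Fin 3 ↪ α => f 2) hg⟩
  have hmove2 : ∀ x y : α, x ≠ y → ∃ g : G, g • a₀ = x ∧ g • a₁ = y := by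
    intro x y hxy
    obtain ⟨z, hzx, hzy⟩ : ∃ z, z ≠ x ∧ z ≠ y := by
      by_contra h
      push Not at h
      rcases em (a₀ = x) with e0 | e0
      · have e1 := h a₁ (e0 ▸ h01.symm)
        exact h12 (e1.trans (h a₂ (e0 ▸ h02.symm)).symm)
      · have e0' := h a₀ e0
        rcases em (a₁ = x) with e1 | e1
        · exact h02 (e0'.trans (h a₂ (e1 ▸ h12.symm)).symm)
        · exact h01 (e0'.trans (h a₁ e1).symm)
    obtain ⟨g, p1, p2, -⟩ := hmove x y z hxy hzx.symm hzy.symm
    exact ⟨g, p1, p2⟩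
  set c₁ := C a₀ a₀ a₀
  set c₂ := C a₀ a₀ a₁
  set c₃ := C a₀ a₁ a₁
  set c₄ := C a₀ a₁ a₂
  have hval : ∀ x y z : α, C x y z = c₄ + (if x = y then c₂ - c₄ else 0) +
      (if x = z then c₃ - c₄ else 0) + (if y = z then c₃ - c₄ else 0) +
      (if x = y ∧ x = z then c₁ - c₂ - 2 * c₃ + 2 * c₄ else 0) := by
    intro x y z
    by_cases hxy : x = y
    · subst hxy
      by_cases hxz : x = z
      · subst hxz
        obtain ⟨w, hw⟩ : ∃ w, x ≠ w := by
          rcases em (x = a₀) with e | e
          · exact ⟨a₁, e ▸ h01⟩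
          · exact ⟨a₀, e⟩
        obtain ⟨g, rfl, -⟩ := hmove2 x w hw
        rw [hC]
        simp [c₁]
        ring
      · obtain ⟨g, rfl, rfl⟩ := hmove2 x z hxz
        rw [hC]
        simp [hxz, c₂, c₄]
    · by_cases hxz : x = z
      · subst hxz
        obtain ⟨g, rfl, rfl⟩ := hmove2 y x (Ne.symm hxy)
        rw [hC, show C a₁ a₀ a₁ = C a₀ a₁ a₁ from congrFun (hsymm _ _) a₁]
        simp [hxy, c₃, Ne.symm hxy]
      · by_cases hyz : y = z
        · subst hyz
          obtain ⟨g, rfl, rfl⟩ := hmove2 x y hxy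
          rw [hC]
          simp [hxy, c₃]
        · obtain ⟨g, rfl, rfl, rfl⟩ := hmove x y z hxy hxz hyz
          rw [hC]
          simp [hxy, hxz, hyz, c₄]
  refine ⟨c₁ - c₂ - 2 * c₃ + 2 * c₄, c₂ - c₄, fun f h hf hh => ?_⟩
  funext z
  have hexp : B f h z = ∑ x, ∑ y, f x * (h y * C x y z) := by
    conv_lhs => rw [pi_eq_sum_univ' f, pi_eq_sum_univ' h]
    simp only [map_sum, map_smul, LinearMap.sum_apply, LinearMap.smul_apply, Finset.sum_apply,
      Pi.smul_apply, smul_eq_mul, C, Finset.mul_sum]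
    rw [Finset.sum_comm]
    simp only [mul_left_comm]
  rw [hexp]
  simp only [hval, mul_add, mul_ite, mul_zero, Finset.sum_add_distrib, Finset.sum_ite_eq,
    Finset.sum_ite_eq', Finset.mem_univ, if_true, ite_and, Pi.add_apply, Pi.smul_apply,
    Pi.mul_apply, smul_eq_mul, Finset.sum_ite_irrel, Finset.sum_const_zero]
  simp only [← Finset.mul_sum, ← Finset.sum_mul, ← mul_assoc, hf, hh, zero_mul, mul_zero,
    Finset.sum_const_zero]
  ring

/-- In a transitive permutation group of prime degree `p` whose Sylow `p`-normaliser has even order, the point stabilisers are the only subgroups of index `p`. -/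
theorem result {α : Type*} [Fintype α] [DecidableEq α] {p : ℕ} [Fact p.Prime] (hα : Fintype.card α = p) (G : Subgroup (Equiv.Perm α)) [MulAction.IsPretransitive G α] (P : Sylow p G) (heven : Even (Nat.card (Subgroup.normalizer ((P : Subgroup G) : Set G)))) (H : Subgroup G) (hH : H.index = p) : ∃ a : α, H = MulAction.stabilizer G a := by
  classical
  by_cases hG : Group.IsSolvable G
  · exact solvable_case hα G hG H hH
  have hp : p.Prime := Fact.out
  have h5 : 5 ≤ p := CfsgLib.Perm.five_le_of_not_isSolvable (p := p)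
    (by rw [Nat.card_eq_fintype_card]; exact hα) G hG
  have hp2 : p ≠ 2 := by omega
  obtain ⟨x, t, hxp, hxne, hinv, -, -⟩ := CfsgLib.Perm.exists_inverting hα hp2 G P heven
  obtain ⟨e, he, het⟩ := CfsgLib.Perm.exists_coords_neg hα hp2
    (congrArg Subtype.val hxp) (fun h => hxne (Subtype.ext h)) (congrArg Subtype.val hinv)
  have hnα : Nat.card α = p := by rw [Nat.card_eq_fintype_card, hα]
  haveI : MulAction.IsPreprimitive G α := MulAction.IsPreprimitive.of_prime_card (hnα ▸ hp)
  -- the action on the cosets of `H`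
  have hfi : H.index ≠ 0 := hH ▸ hp.ne_zero
  haveI : Fintype (G ⧸ H) := Fintype.ofFinite _
  have hβ : Fintype.card (G ⧸ H) = p := by
    rw [← Nat.card_eq_fintype_card, ← Subgroup.index_eq_card, hH]
  set φ : G →* Equiv.Perm (G ⧸ H) := MulAction.toPermHom G (G ⧸ H) with hφ
  have hker : φ.ker = ⊥ := by
    by_contra hne
    haveI : MulAction.IsPretransitive φ.ker α := CfsgLib.Perm.isPretransitive_of_normal φ.ker hne
    have hle : φ.ker ≤ H := fun g hg => by
      have h0 : φ g = 1 := hg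
      have h1 := congrArg (fun σ : Equiv.Perm (G ⧸ H) => σ ((1 : G) : G ⧸ H)) h0
      change g • ((1 : G) : G ⧸ H) = ((1 : G) : G ⧸ H) at h1
      rwa [MulAction.Quotient.smul_coe, QuotientGroup.eq, smul_eq_mul, mul_one, mul_one,
        inv_mem_iff] at h1
    obtain ⟨a⟩ : Nonempty α := ⟨e 0⟩
    have hd : p ∣ Nat.card φ.ker := by
      rw [← hnα, ← MulAction.index_stabilizer_of_transitive φ.ker a]
      exact Subgroup.index_dvd_card _
    refine CfsgLib.Perm.not_sq_dvd_card hα G ?_
    rw [← Subgroup.card_mul_index H, hH, pow_two]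
    exact Nat.mul_dvd_mul_right (hd.trans (Subgroup.card_dvd_of_le hle)) p
  have hφinj : Function.Injective φ := (MonoidHom.ker_eq_bot_iff φ).mp hker
  set G' := φ.range with hG'
  haveI : MulAction.IsPretransitive G' (G ⧸ H) := ⟨fun u v => by
    obtain ⟨g, hg⟩ := MulAction.exists_smul_eq G u v
    exact ⟨⟨φ g, g, rfl⟩, hg⟩⟩
  have hG'ns : ¬ Group.IsSolvable G' := fun h =>
    hG (Group.isSolvable_of_isSolvable_injective (f := φ.rangeRestrict)
      (fun u v huv => hφinj (congrArg Subtype.val huv)))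
  obtain ⟨e', he', het'⟩ := CfsgLib.Perm.exists_coords_neg hβ hp2 (g := φ x) (t := φ t)
    (by rw [← map_pow, hxp, map_one]) (fun h => hxne (hφinj (h.trans (map_one φ).symm)))
    (by rw [← map_inv, ← map_mul, ← map_mul, hinv, map_inv])
  have hxα : ∀ j, x • e j = e (j + 1) := he
  have htα : ∀ j, t • e j = e (-j) := het
  have hxβ : ∀ j, x • e' j = e' (j + 1) := he'
  have htβ : ∀ j, t • e' j = e' (-j) := het'
  -- the incidence matrix of an orbit on pairs
  let R : α → G ⧸ H → Prop := fun a b => ∃ g : G, g • e 0 = a ∧ g • e' 0 = b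
  let χ : α → G ⧸ H → ZMod p := fun a b => if R a b then 1 else 0
  have hR : ∀ (g : G) a b, R (g • a) (g • b) ↔ R a b := fun g a b =>
    ⟨fun ⟨k, h1, h2⟩ => ⟨g⁻¹ * k, by rw [mul_smul, h1, inv_smul_smul], by rw [mul_smul, h2, inv_smul_smul]⟩,
     fun ⟨k, h1, h2⟩ => ⟨g * k, by rw [mul_smul, h1], by rw [mul_smul, h2]⟩⟩
  have hχ : ∀ (g : G) a b, χ (g • a) (g • b) = χ a b := fun g a b => by simp only [χ, hR]
  let D : ZMod p → ZMod p := fun d => χ (e 0) (e' d)
  have hD : ∀ (n : ℕ) d, χ (e (n : ZMod p)) (e' (d + n)) = D d := fun n => by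
    induction n with
    | zero => intro d; simp [D]
    | succ n ih =>
      intro d
      rw [Nat.cast_succ, ← add_assoc, ← hxα, ← hxβ, hχ, ih]
  have hD' : ∀ i j, χ (e i) (e' j) = D (j - i) := fun i j => by
    have := hD i.val (j - i)
    rwa [ZMod.natCast_zmod_val, sub_add_cancel] at this
  have hDneg : ∀ d, D (-d) = D d := fun d => by
    show χ (e 0) (e' (-d)) = χ (e 0) (e' d)
    rw [← hχ t (e 0) (e' d), htα, htβ, neg_zero]
  let ψ : (α → ZMod p) →ₗ[ZMod p] (G ⧸ H → ZMod p) := Matrix.toLin' (Matrix.of fun b a => χ a b)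
  have hψ : ∀ (g : G) f, ψ (Cfsg.permRep (ZMod p) G α g f) = Cfsg.permRep (ZMod p) G (G ⧸ H) g (ψ f) :=
    fun g f => by
      funext b
      show ∑ a, χ a b * f (g⁻¹ • a) = ∑ a, χ a (g⁻¹ • b) * f a
      exact Fintype.sum_equiv (MulAction.toPerm g⁻¹) _ _ fun a => by simp [hχ g⁻¹ a b]
  have hψapp : ∀ (F : ZMod p → ZMod p) (j : ZMod p),
      ψ (fun a => F (e.symm a)) (e' j) = ∑ d, D d * F (j - d) := fun F j => by
    show ∑ a, χ a (e' j) * F (e.symm a) = _
    rw [← Fintype.sum_equiv e (fun i => D (j - i) * F i) _ (fun i => by simp [hD'])]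
    exact Fintype.sum_equiv (Equiv.subLeft j) _ _ fun i => by simp
  set k := ∑ d, D d with hk
  have hs1 : ∑ d, D d * d = 0 := by
    have h : ∑ d, D d * d = - ∑ d, D d * d := by
      rw [← Finset.sum_neg_distrib]
      exact Fintype.sum_equiv (Equiv.neg (ZMod p)) _ _ fun d => by simp [hDneg]
    have h2 : ((2 : ℕ) : ZMod p) * ∑ d, D d * d = 0 := by push_cast; linear_combination h
    refine (mul_eq_zero.mp h2).resolve_left fun h2 => hp2 ?_
    rw [ZMod.natCast_eq_zero_iff] at h2
    exact (Nat.prime_dvd_prime_iff_eq hp Nat.prime_two).mp h2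
  set pw : ℕ → α → ZMod p := fun i a => e.symm a ^ i with hpw
  have hψ1 : ∀ j, ψ (pw 0) (e' j) = k := fun j => by
    rw [hpw, hψapp (fun i => i ^ 0) j]; simp [hk]
  have hψid : ∀ j, ψ (pw 1) (e' j) = k * j := fun j => by
    rw [hpw, hψapp (fun i => i ^ 1) j]
    simp only [pow_one, mul_sub, Finset.sum_sub_distrib, ← Finset.sum_mul, hs1, hk, sub_zero]
  have hkinv : ∀ g : G, ∀ v ∈ LinearMap.ker ψ, Cfsg.permRep (ZMod p) G α g v ∈ LinearMap.ker ψ :=
    fun g v hv => by
      rw [LinearMap.mem_ker] at hv ⊢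
      rw [hψ, hv, map_zero]
  have hR00 : R (e 0) (e' 0) := ⟨1, one_smul _ _, one_smul _ _⟩
  have hψne : ψ ≠ 0 := fun h => by
    have := congrFun (LinearMap.congr_fun h (Pi.single (e 0) 1)) (e' 0)
    simp [ψ, χ, if_pos hR00, Matrix.mulVec_single] at this
  have hker_le : LinearMap.ker ψ ≤ (Cfsg.permSumZero (ZMod p) G α).toSubmodule :=
    CfsgLib.Perm.le_sumZero (p := p) (f := 1) (by rw [pow_one]; exact hα) _ hkinv
      (fun h => hψne (LinearMap.ker_eq_top.mp h))
  have hk0 : k ≠ 0 := by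
    intro hk0
    have h1 : pw 1 ∈ LinearMap.ker ψ := LinearMap.mem_ker.mpr (funext fun b => by
      obtain ⟨j, rfl⟩ := e'.surjective b
      rw [hψid, hk0, zero_mul, Pi.zero_apply])
    have h0 : (Cfsg.permConstants (ZMod p) G α).toSubmodule ≤ LinearMap.ker ψ := by
      intro v hv
      obtain ⟨c, rfl⟩ := (CfsgLib.Perm.mem_permConstants_iff _).mp hv
      rw [LinearMap.mem_ker]
      funext b
      obtain ⟨j, rfl⟩ := e'.surjective b
      rw [hψapp (fun _ => c) j, ← Finset.sum_mul, ← hk, hk0, zero_mul, Pi.zero_apply]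
    rcases CfsgLib.Perm.heart_irreducible hα G hG _ hkinv h0 hker_le with h | h
    · rw [h] at h1
      obtain ⟨c, hc⟩ := (CfsgLib.Perm.mem_permConstants_iff _).mp h1
      have e0 := congrFun hc (e 0)
      have e1 := congrFun hc (e 1)
      simp [hpw] at e0 e1
      exact one_ne_zero (e1.trans e0.symm)
    · -- `χ` does not depend on the point: then `p` divides the order of a stabiliser
      have hconst : ∀ a, χ a (e' 0) = χ (e 0) (e' 0) := fun a => by
        have hmem : (Pi.single a 1 - Pi.single (e 0) 1 : α → ZMod p) ∈ LinearMap.ker ψ := by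
          rw [h, CfsgLib.Perm.mem_permSumZero_iff]
          simp [Finset.sum_sub_distrib]
        have := congrFun (LinearMap.mem_ker.mp hmem) (e' 0)
        simpa [ψ, Matrix.mulVec_single, sub_eq_zero, map_sub] using this
      set K := MulAction.stabilizer G (e' 0)
      haveI : MulAction.IsPretransitive K α := by
        refine (MulAction.isPretransitive_iff_base (e 0)).mpr fun a => ?_
        have := hconst a
        simp only [χ, if_pos hR00] at this
        obtain ⟨g, h1, h2⟩ : R a (e' 0) := by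
          by_contra hn
          rw [if_neg hn] at this
          exact zero_ne_one this
        exact ⟨⟨g, h2⟩, h1⟩
      have hd : p ∣ Nat.card K := by
        rw [← hnα, ← MulAction.index_stabilizer_of_transitive K (e 0)]
        exact Subgroup.index_dvd_card _
      refine CfsgLib.Perm.not_sq_dvd_card hα G ?_
      rw [← Subgroup.card_mul_index K, MulAction.index_stabilizer_of_transitive,
        Nat.card_eq_fintype_card (α := G ⧸ H), hβ, pow_two]
      exact Nat.mul_dvd_mul_right hd p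
  have hinj : Function.Injective ψ := by
    rw [← LinearMap.ker_eq_bot]
    by_contra hne
    have := CfsgLib.Perm.constants_le (p := p) (f := 1) (by rw [pow_one]; exact hα) _ hkinv hne
      ((CfsgLib.Perm.mem_permConstants_iff _).mpr ⟨1, rfl⟩)
    have h := congrFun (LinearMap.mem_ker.mp this) (e' 0)
    rw [hψapp (fun _ => 1) 0] at h
    simp only [mul_one, ← hk, Pi.zero_apply] at h
    exact hk0 h
  let Ψ : (α → ZMod p) ≃ₗ[ZMod p] (G ⧸ H → ZMod p) :=
    LinearMap.linearEquivOfInjective ψ hinj (by simp [Module.finrank_fintype_fun_eq_card, hα, hβ])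
  have hΨ : ∀ f, Ψ f = ψ f := fun f => rfl
  let B : (α → ZMod p) →ₗ[ZMod p] (α → ZMod p) →ₗ[ZMod p] (α → ZMod p) :=
    LinearMap.mk₂ (ZMod p) (fun f h => Ψ.symm (ψ f * ψ h))
      (fun f f' h => by simp [add_mul]) (fun c f h => by simp)
      (fun f h h' => by simp [mul_add]) (fun c f h => by simp)
  have hB : ∀ (g : G) f h, B (Cfsg.permRep (ZMod p) G α g f) (Cfsg.permRep (ZMod p) G α g h) =
      Cfsg.permRep (ZMod p) G α g (B f h) := fun g f h => by
    apply Ψ.injective
    show Ψ (Ψ.symm _) = Ψ (Cfsg.permRep (ZMod p) G α g (Ψ.symm _))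
    rw [Ψ.apply_symm_apply, hΨ, hψ g (Ψ.symm _), ← hΨ (Ψ.symm _), Ψ.apply_symm_apply, hψ, hψ]
    rfl
  have h3 : MulAction.IsMultiplyPretransitive G α 3 :=
    Cfsg.Agent.S0676.result hα G hG P heven
  have hne2 : ∀ i j : ℕ, i < p → j < p → i ≠ j → e (i : ZMod p) ≠ e (j : ZMod p) := fun i j hi hj hij h => by
    have := congrArg ZMod.val (e.injective h)
    rw [ZMod.val_natCast_of_lt hi, ZMod.val_natCast_of_lt hj] at this
    exact hij this
  obtain ⟨a, b, hab⟩ := bilinear_form h3 _ _ _
    (hne2 0 1 (by omega) (by omega) (by omega)) (hne2 0 2 (by omega) (by omega) (by omega))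
    (hne2 1 2 (by omega) (by omega) (by omega)) B hB
    (fun f h => by show Ψ.symm _ = Ψ.symm _; rw [mul_comm])
  have hsum : ∀ i, i < p - 1 → ∑ z, pw i z = 0 := fun i hi => by
    rw [← Fintype.sum_equiv e (fun j : ZMod p => j ^ i) (pw i) (fun j => by simp [hpw])]
    exact FiniteField.sum_pow_lt_card_sub_one (ZMod p) i (by rwa [ZMod.card])
  have hprod : ∀ i, 1 ≤ i → i + 1 < p - 1 → ∀ j, ψ (pw i) (e' j) * (k * j) = a * ψ (pw (i + 1)) (e' j) := by
    intro i hi1 hi2 j
    have h := hab (pw i) (pw 1) (hsum i (by omega)) (hsum 1 (by omega))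
    have hmul : pw i * pw 1 = pw (i + 1) := by funext z; simp [hpw, pow_succ]
    have hs : ∑ z, pw i z * pw 1 z = 0 := by
      rw [← hsum (i + 1) hi2, ← hmul]
      rfl
    rw [hmul, hs, show (fun _ : α => (0 : ZMod p)) = 0 from rfl, smul_zero, add_zero] at h
    have h' := congrArg (fun F => Ψ F (e' j)) h
    rw [← hψid]
    refine Eq.trans ?_ (h'.trans ?_)
    · show _ = Ψ (Ψ.symm _) _
      rw [Ψ.apply_symm_apply]; rfl
    · show Ψ (a • pw (i + 1)) (e' j) = _
      rw [map_smul, hΨ]; rfl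
  have ha : a ≠ 0 := fun ha => by
    have := hprod 1 le_rfl (by omega) 1
    rw [hψid, ha, zero_mul, mul_one] at this
    exact hk0 (mul_self_eq_zero.mp this)
  have hsq : ∀ j, ψ (pw 2) (e' j) = k * j ^ 2 + ∑ d, D d * d ^ 2 := fun j => by
    rw [hpw, hψapp (fun i => i ^ 2) j]
    calc ∑ d, D d * (j - d) ^ 2 = ∑ d, (D d * j ^ 2 - 2 * j * (D d * d) + D d * d ^ 2) :=
          Finset.sum_congr rfl fun d _ => by ring
      _ = k * j ^ 2 + ∑ d, D d * d ^ 2 := by
          rw [Finset.sum_add_distrib, Finset.sum_sub_distrib, ← Finset.mul_sum, hs1, mul_zero,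
            sub_zero, ← Finset.sum_mul]
  have hs2 : ∑ d, D d * d ^ 2 = 0 := by
    have := hprod 1 le_rfl (by omega) 0
    rw [hψid, hsq] at this
    simpa [ha] using this.symm
  have hak : a = k := by
    have := hprod 1 le_rfl (by omega) 1
    rw [hψid, hsq, hs2] at this
    simp only [mul_one, one_pow, add_zero] at this
    exact mul_right_cancel₀ hk0 this.symm
  have hall : ∀ i, 1 ≤ i → i < p - 1 → ∀ j, ψ (pw i) (e' j) = k * j ^ i := by
    intro i
    induction i with
    | zero => omega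
    | succ i ih =>
      intro _ hi j
      rcases Nat.eq_zero_or_pos i with rfl | hi0
      · rw [zero_add, hψid, pow_one]
      · have := hprod i hi0 hi j
        rw [ih hi0 (by omega), hak] at this
        apply mul_left_cancel₀ hk0
        rw [← this]
        ring
  have hmom : ∀ i, 1 ≤ i → i < p - 1 → ∑ d, D d * d ^ i = 0 := fun i hi1 hi2 => by
    have h := hall i hi1 hi2 0
    rw [hpw, hψapp (fun z => z ^ i) 0, zero_pow (by omega : i ≠ 0), mul_zero] at h
    rw [← h]
    exact Fintype.sum_equiv (Equiv.neg (ZMod p)) _ _ fun d => by simp [hDneg]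
  have hDc : ∀ u v : ZMod p, u ≠ 0 → v ≠ 0 → D u = D v := by
    intro u v hu hv
    set w : ZMod p → ZMod p := Pi.single u 1 - Pi.single v 1 with hw
    -- `w` is a polynomial of degree at most `p - 2` without constant term
    have hwmem : w ∈ CfsgLib.Perm.perp p (ZMod p) (CfsgLib.Perm.polyFun p (ZMod p) 1) := by
      intro z hz
      obtain ⟨Q, hQ, hQz⟩ := CfsgLib.Perm.mem_polyFun.mp hz
      have hQc : ∀ d, z d = Q.coeff 0 := fun d => by
        rw [hQz, Polynomial.eq_C_of_natDegree_eq_zero (p := Q) (by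
          by_cases hq : Q = 0
          · rw [hq, Polynomial.natDegree_zero]
          · exact Nat.lt_one_iff.mp ((Polynomial.natDegree_lt_iff_degree_lt hq).mpr hQ))]
        simp
      simp only [hQc, ← Finset.sum_mul, hw, Pi.sub_apply, Finset.sum_sub_distrib, Finset.sum_pi_single',
        Finset.mem_univ, if_true, sub_self, zero_mul]
    rw [CfsgLib.Perm.perp_polyFun le_rfl (by omega), CfsgLib.Perm.mem_polyFun] at hwmem
    obtain ⟨Q, hQ, hQw⟩ := hwmem
    have hQ0 : Q.coeff 0 = 0 := by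
      rw [Polynomial.coeff_zero_eq_eval_zero]
      have := hQw 0
      rw [map_zero] at this
      rw [← this, hw]
      simp [hu, hv, Ne.symm hu, Ne.symm hv]
    have h : ∑ d, D d * w d = 0 := by
      have hQn : Q = 0 ∨ Q.natDegree < p - 1 := or_iff_not_imp_left.mpr fun hq =>
        (Polynomial.natDegree_lt_iff_degree_lt hq).mpr hQ
      have hid : ∀ d : ZMod p, CfsgLib.Perm.primeCast (ZMod p) d = d := fun d => by
        rw [CfsgLib.Perm.primeCast, ZMod.castHom_self, RingHom.id_apply]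
      simp only [hQw, hid, Polynomial.eval_eq_sum, Polynomial.sum_def, Finset.mul_sum]
      rw [Finset.sum_comm]
      refine Finset.sum_eq_zero fun i hi => ?_
      simp only [mul_left_comm (D _), ← Finset.mul_sum]
      rcases Nat.eq_zero_or_pos i with rfl | hi0
      · rw [hQ0, zero_mul]
      · rcases hQn with rfl | hQn
        · simp at hi
        · rw [hmom i hi0 (lt_of_le_of_lt (Polynomial.le_natDegree_of_mem_supp i hi) hQn), mul_zero]
    simpa [hw, mul_sub, Finset.sum_sub_distrib, Pi.single_apply, sub_eq_zero] using h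
  have hD0 : ∀ d, d ≠ 0 → D d ≠ D 0 := fun d hd heq => by
    apply hk0
    rw [hk, Finset.sum_congr rfl (fun z _ => show D z = D 0 by
      by_cases hz : z = 0
      · rw [hz]
      · exact (hDc z d hz hd).trans heq)]
    simp
  have hfix : MulAction.stabilizer G (e 0) ≤ MulAction.stabilizer G (e' 0) := fun g hg => by
    obtain ⟨j, hj⟩ := e'.surjective (g • e' 0)
    have h := hχ g (e 0) (e' 0)
    rw [MulAction.mem_stabilizer_iff.mp hg, ← hj] at h
    have hj0 : j = 0 := by
      by_contra hne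
      exact hD0 j hne h
    rw [MulAction.mem_stabilizer_iff, ← hj, hj0]
  have heq : MulAction.stabilizer G (e 0) = MulAction.stabilizer G (e' 0) := by
    refine Subgroup.eq_of_le_of_card_ge hfix (le_of_eq ?_)
    have e1 := Subgroup.card_mul_index (MulAction.stabilizer G (e 0))
    have e2 := Subgroup.card_mul_index (MulAction.stabilizer G (e' 0))
    rw [MulAction.index_stabilizer_of_transitive, hnα] at e1
    rw [MulAction.index_stabilizer_of_transitive, Nat.card_eq_fintype_card (α := G ⧸ H), hβ] at e2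
    exact Nat.eq_of_mul_eq_mul_right hp.pos (e2.trans e1.symm)
  obtain ⟨g, hg⟩ := MulAction.exists_smul_eq G (e' 0) ((1 : G) : G ⧸ H)
  refine ⟨g • e 0, ?_⟩
  rw [← MulAction.stabilizer_quotient H, ← hg, MulAction.stabilizer_smul_eq_stabilizer_map_conj,
    MulAction.stabilizer_smul_eq_stabilizer_map_conj, heq]

end Cfsg.Agent.S0677
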