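import Cfsg.Statements.S0678
import Cfsg.Agent.Lib.Perm.SylowPrimeDegree
import Cfsg.Agent.Lib.Perm.Basic
import Cfsg.Agent.Lib.Char.Burnside
import Mathlib.GroupTheory.GroupAction.Jordan
import Mathlib.GroupTheory.Transfer
import Mathlib.GroupTheory.SpecificGroups.ZGroup
import Mathlib.Data.Nat.Squarefree
import Mathlib.Tactic

set_option autoImplicit false
open Cfsg

namespace Cfsg.Agent.S0678

open MulAction

theorem arith {n s : ℕ} (hd : n * s ∣ 120) (hn : n % 7 = 1) (hs : s ∣ 6) :
    n = 1 ∨ s = 1 ∨ (n = 15 ∧ s = 2) ∨ (n = 8 ∧ s = 3) := by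
  have key : ∀ n ∈ Finset.range 121, ∀ s ∈ ({1, 2, 3, 6} : Finset ℕ), n * s ∣ 120 → n % 7 = 1 →
      n = 1 ∨ s = 1 ∨ (n = 15 ∧ s = 2) ∨ (n = 8 ∧ s = 3) := by decide +kernel
  refine key n ?_ s ?_ hd hn
  · have := Nat.le_of_dvd (by norm_num) ((Dvd.intro s rfl).trans hd)
    exact Finset.mem_range.2 (by omega)
  · have h := Nat.mem_divisors.2 ⟨hs, (by norm_num : 6 ≠ 0)⟩
    rwa [show Nat.divisors 6 = {1, 2, 3, 6} by decide +kernel] at h

theorem sf : Squarefree (7 : ℕ) ∧ Squarefree (42 : ℕ) ∧ Squarefree (210 : ℕ) := by decide +kernel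

/-- A non-solvable transitive permutation group on 7 points that does not contain the alternating group is a simple group of order 168. -/
theorem result {α : Type*} [Fintype α] [DecidableEq α] (hα : Fintype.card α = 7) (G : Subgroup (Equiv.Perm α)) [MulAction.IsPretransitive G α] (hG : ¬ Group.IsSolvable G) (hA : ¬ alternatingGroup α ≤ G) : Nat.card G = 168 ∧ IsSimpleGroup G := by
  classical
  haveI : Fact (Nat.Prime 7) := ⟨by norm_num⟩
  haveI : Fact (Nat.Prime 2) := ⟨Nat.prime_two⟩
  haveI : Fact (Nat.Prime 3) := ⟨Nat.prime_three⟩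
  have hcα : Nat.card α = 7 := by rw [Nat.card_eq_fintype_card, hα]
  haveI : MulAction.IsPreprimitive G α := MulAction.IsPreprimitive.of_prime_card (by rw [hcα]; norm_num)
  have hperm : Nat.card (Equiv.Perm α) = 5040 := by rw [Nat.card_perm, hcα]; rfl
  have h16 : ¬ 2 ^ 4 ∣ Nat.card G := by
    intro h
    obtain ⟨a, b, hab⟩ := Fintype.exists_pair_of_one_lt_card (α := α) (by omega)
    have hfull : (Nat.card (Equiv.Perm α)).factorization 2 = 4 := by
      rw [hperm, show 5040 = 2 ^ 4 * 315 by norm_num, Nat.factorization_mul (by norm_num) (by norm_num),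
        Finsupp.add_apply, Nat.Prime.factorization_pow Nat.prime_two, Finsupp.single_eq_same,
        Nat.factorization_eq_zero_of_not_dvd (by norm_num : ¬ 2 ∣ 315)]
    obtain ⟨g, hg⟩ := CfsgLib.Perm.exists_conj_mem_of_full_part G h hfull (s := Equiv.swap a b) (j := 1)
      (by rw [pow_one, pow_two, Equiv.swap_mul_self])
    apply hA
    rw [Equiv.Perm.subgroup_eq_top_of_isPreprimitive_of_isSwap_mem inferInstance _
      (show (g * Equiv.swap a b * g⁻¹).IsSwap from ⟨g a, g b, g.injective.ne hab, (Equiv.swap_apply_apply g a b).symm⟩) hg]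
    exact le_top
  have h9 : ¬ 3 ^ 2 ∣ Nat.card G := by
    intro h
    have hfull : (Nat.card (Equiv.Perm α)).factorization 3 = 2 := by
      rw [hperm, show 5040 = 3 ^ 2 * 560 by norm_num, Nat.factorization_mul (by norm_num) (by norm_num),
        Finsupp.add_apply, Nat.Prime.factorization_pow Nat.prime_three, Finsupp.single_eq_same,
        Nat.factorization_eq_zero_of_not_dvd (by norm_num : ¬ 3 ∣ 560)]
    obtain ⟨a, b, c, hab, hac, hbc⟩ := Fintype.two_lt_card_iff.1 (show 2 < Fintype.card α by omega)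
    have hc3 : (Equiv.swap a b * Equiv.swap a c).IsThreeCycle :=
      Equiv.Perm.isThreeCycle_swap_mul_swap_same hab hac hbc
    obtain ⟨g, hg⟩ := CfsgLib.Perm.exists_conj_mem_of_full_part G h hfull
      (s := Equiv.swap a b * Equiv.swap a c) (j := 1)
      (by rw [pow_one, ← hc3.orderOf, pow_orderOf_eq_one])
    exact hA (Equiv.Perm.alternatingGroup_le_of_isPreprimitive_of_isThreeCycle_mem inferInstance
      (show (g * (Equiv.swap a b * Equiv.swap a c) * g⁻¹).IsThreeCycle by
        rw [Equiv.Perm.IsThreeCycle, Equiv.Perm.cycleType_conj]; exact hc3) hg)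
  have h840 : Nat.card G ∣ 840 := by
    have h := Subgroup.card_subgroup_dvd_card G
    rw [hperm] at h
    refine (Nat.dvd_iff_prime_pow_dvd_dvd _ _).2 fun q k hq hd => ?_
    have h5040 : q ^ k ∣ 5040 := hd.trans h
    rcases eq_or_ne q 2 with rfl | h2
    · have : k ≤ 3 := by
        by_contra hlt
        exact h16 ((pow_dvd_pow 2 (by omega)).trans hd)
      exact (pow_dvd_pow 2 this).trans (by norm_num)
    rcases eq_or_ne q 3 with rfl | h3
    · have : k ≤ 1 := by
        by_contra hlt
        exact h9 ((pow_dvd_pow 3 (by omega)).trans hd)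
      exact (pow_dvd_pow 3 this).trans (by norm_num)
    · have hco : (q ^ k).Coprime 6 := Nat.Coprime.pow_left _ ((hq.coprime_iff_not_dvd).2 fun h6 => by
        rcases hq.dvd_mul.1 (show q ∣ 2 * 3 from h6) with h | h
        · exact h2 ((Nat.prime_dvd_prime_iff_eq hq Nat.prime_two).1 h)
        · exact h3 ((Nat.prime_dvd_prime_iff_eq hq Nat.prime_three).1 h))
      exact hco.dvd_of_dvd_mul_right (show q ^ k ∣ 840 * 6 by exact h5040)
  obtain ⟨P⟩ : Nonempty (Sylow 7 G) := inferInstance
  have hcP := CfsgLib.Perm.card_sylow_eq hα G P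
  set NP := Subgroup.normalizer ((P : Subgroup G) : Set G)
  obtain ⟨s, hs⟩ : 7 ∣ Nat.card NP := hcP ▸ Subgroup.card_dvd_of_le Subgroup.le_normalizer
  have hs6 : s ∣ 6 := Nat.dvd_of_mul_dvd_mul_left (by norm_num : 0 < 7)
    (hs ▸ CfsgLib.Perm.card_normalizer_dvd hα G P)
  set n := Nat.card (Sylow 7 G) with hn
  have hGn : Nat.card G = 7 * (n * s) := by
    rw [show n = NP.index from hn.trans (Sylow.card_eq_index_normalizer P), ← NP.card_mul_index, hs]; ring
  have hn7 : n % 7 = 1 := by
    have := card_sylow_modEq_one 7 G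
    rw [← hn] at this
    exact this
  have hns : n * s ∣ 120 := Nat.dvd_of_mul_dvd_mul_left (by norm_num : 0 < 7) (hGn ▸ h840)
  have hsol : ∀ m : ℕ, Nat.card G = m → Squarefree m → False := fun m hm hsq => hG (by
    haveI : IsZGroup G := IsZGroup.of_squarefree (hm ▸ hsq)
    infer_instance)
  have hNnt : ∀ K : Subgroup G, K.Normal → K ≠ ⊥ → 7 ∣ Nat.card K := by
    intro K hK hne
    haveI := hK
    haveI := CfsgLib.Perm.isPretransitive_of_normal (α := α) K hne
    obtain ⟨a⟩ : Nonempty α := Fintype.card_pos_iff.1 (by omega)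
    rw [← hcα, ← MulAction.index_stabilizer_of_transitive K a]
    exact Subgroup.index_dvd_card _
  have hcard : Nat.card G = 168 := by
    have hs1 : s ≠ 1 := by
      rintro rfl
      haveI : IsCyclic (P : Subgroup G) := isCyclic_of_prime_card hcP
      have hNP : NP = (P : Subgroup G) :=
        (Subgroup.eq_of_le_of_card_ge Subgroup.le_normalizer (by rw [hs, hcP])).symm
      have hle : NP ≤ Subgroup.centralizer ((P : Subgroup G) : Set G) := by
        rw [hNP]
        haveI : IsMulCommutative (P : Subgroup G) := inferInstance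
        exact Subgroup.le_centralizer _
      set K := (MonoidHom.transferSylow P hle).ker
      have hKc := MonoidHom.ker_transferSylow_isComplement' P hle
      by_cases hK : K = ⊥
      · have h7 := hKc.card_mul
        rw [hcP] at h7
        rw [show Nat.card (MonoidHom.transferSylow P hle).ker = 1 by rw [show (MonoidHom.transferSylow P hle).ker = ⊥ from hK, Subgroup.card_bot], one_mul] at h7
        exact hsol 7 h7.symm sf.1
      · exact MonoidHom.not_dvd_card_ker_transferSylow P hle (hNnt K inferInstance hK)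
    rcases arith hns hn7 hs6 with h | h | ⟨h1, h2⟩ | ⟨h1, h2⟩
    · rw [h, one_mul] at hGn
      have hd : Nat.card G ∣ 42 := hGn ▸ mul_dvd_mul_left 7 hs6
      exact (hsol _ rfl (Squarefree.squarefree_of_dvd hd sf.2.1)).elim
    · exact absurd h hs1
    · exact (hsol 210 (by rw [hGn, h1, h2]) sf.2.2).elim
    · rw [hGn, h1, h2]
  refine ⟨hcard, ?_⟩
  haveI : Nontrivial G := Finite.one_lt_card_iff_nontrivial.1 (by omega)
  refine ⟨fun K hK => ?_⟩
  by_contra hne
  push Not at hne
  obtain ⟨hKb, hKt⟩ := hne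
  haveI := hK
  have h7K := hNnt K hK hKb
  obtain ⟨Q⟩ : Nonempty (Sylow 7 K) := inferInstance
  have hsup := Sylow.normalizer_sup_eq_top Q
  have hQcard : Nat.card ((Q : Subgroup K).map K.subtype) = 7 := by
    rw [Subgroup.card_map_of_injective K.subtype_injective, Q.card_eq_multiplicity]
    have h1 : 1 ≤ (Nat.card K).factorization 7 :=
      Nat.Prime.factorization_pos_of_dvd (by norm_num) Nat.card_pos.ne' h7K
    have h2 : ¬ 2 ≤ (Nat.card K).factorization 7 := fun h => by
      have := ((Nat.Prime.pow_dvd_iff_le_factorization (by norm_num : Nat.Prime 7) Nat.card_pos.ne').2 h).trans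
        (K.card_subgroup_dvd_card)
      rw [hcard] at this
      norm_num at this
    rw [show (Nat.card K).factorization 7 = 1 by omega, pow_one]
  obtain ⟨S, hS⟩ := (Q.2.map K.subtype).exists_le_sylow
  have hSeq : (Q : Subgroup K).map K.subtype = (S : Subgroup G) :=
    Subgroup.eq_of_le_of_card_ge hS (by rw [hQcard, CfsgLib.Perm.card_sylow_eq hα G S])
  rw [hSeq] at hsup
  have hSK : (S : Subgroup G) ≤ K := hSeq ▸ Subgroup.map_subtype_le _
  set NS := Subgroup.normalizer ((S : Subgroup G) : Set G)
  have hNS : Nat.card NS = 21 := by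
    have h1 := NS.card_mul_index
    rw [show NS.index = n from (hn.trans (Sylow.card_eq_index_normalizer S)).symm, hcard] at h1
    have hn8 : n = 8 := by
      rcases arith hns hn7 hs6 with h | h | ⟨h', h2⟩ | ⟨h', h2⟩
      · rw [h, one_mul] at hGn
        have := Nat.le_of_dvd (by norm_num) hs6
        omega
      · rw [h, mul_one] at hGn
        omega
      · rw [h', h2] at hGn; omega
      · exact h'
    rw [hn8] at h1
    omega
  have hidx : K.index ∣ 3 := by
    have h1 : K.index ∣ Nat.card NS := by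
      rw [Subgroup.index_eq_card]
      refine Subgroup.card_dvd_of_surjective ((QuotientGroup.mk' K).comp NS.subtype) ?_
      rw [← MonoidHom.range_eq_top, MonoidHom.range_comp, Subgroup.range_subtype, ← top_le_iff,
        ← MonoidHom.range_eq_top.2 (QuotientGroup.mk'_surjective K), MonoidHom.range_eq_map, ← hsup,
        Subgroup.map_sup]
      refine sup_le le_rfl ?_
      rw [(Subgroup.map_eq_bot_iff _).2 (QuotientGroup.ker_mk' K).ge]
      exact bot_le
    have h2 : ¬ 7 ∣ K.index := fun h => by
      have := mul_dvd_mul h7K h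
      rw [K.card_mul_index, hcard] at this
      norm_num at this
    rw [hNS] at h1
    exact ((Nat.Prime.coprime_iff_not_dvd (by norm_num)).2 h2).symm.dvd_of_dvd_mul_left h1
  rcases (Nat.dvd_prime Nat.prime_three).1 hidx with h | h
  · exact hKt (Subgroup.index_eq_one.1 h)
  have hK56 : Nat.card K = 2 ^ 3 * 7 ^ 1 := by
    have := K.card_mul_index
    rw [h, hcard] at this
    omega
  haveI : Group.IsSolvable K :=
    CfsgLib.Char.isSolvable_of_card_eq_prime_pow_mul Nat.prime_two (by norm_num : Nat.Prime 7) hK56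
  haveI : IsCyclic (G ⧸ K) := isCyclic_of_prime_card (p := 3) (by rw [← Subgroup.index_eq_card, h])
  exact hG ((Group.isSolvable_iff_subgroup_quotient K).2
    ⟨inferInstance, @Group.isSolvable_of_comm _ _ (fun a b => (IsCyclic.commGroup (α := G ⧸ K)).mul_comm a b)⟩)

end Cfsg.Agent.S0678
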