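import Cfsg.Statements.S0679
import Cfsg.Agent.Lib.Perm.DegreeElevenCore
import Cfsg.Agent.S0498

set_option autoImplicit false
open Cfsg

namespace Cfsg.Agent.S0679

open MulAction CfsgLib.Perm

/-- A non-solvable transitive permutation group on 11 points that does not contain the alternating group is either sharply 4-transitive (of order 7920) or isomorphic to the projective special linear group of degree 2 over the field with 11 elements. -/
theorem result {α : Type*} [Fintype α] [DecidableEq α] (hα : Fintype.card α = 11) (G : Subgroup (Equiv.Perm α)) [MulAction.IsPretransitive G α] (hG : ¬ Group.IsSolvable G) (hA : ¬ alternatingGroup α ≤ G) : (MulAction.IsMultiplyPretransitive G α 4 ∧ ∀ x : Fin 4 ↪ α, MulAction.stabilizer G x = ⊥) ∨ Nonempty (G ≃* Matrix.ProjectiveSpecialLinearGroup (Fin 2) (ZMod 11)) := by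
  haveI : Fact (Nat.Prime 11) := ⟨by norm_num⟩
  obtain ⟨x, hx, e, he⟩ := exists_transitive_element hα G
  set φ : Equiv.Perm α ≃* Equiv.Perm (ZMod 11) := e.symm.permCongrHom with hφ
  set G' := G.map φ.toMonoidHom with hG'
  have hφa : ∀ (g : Equiv.Perm α) (j : ZMod 11), φ g j = e.symm (g (e j)) := fun g j => rfl
  have ht : DegreeEleven.trn ∈ G' := ⟨x, hx, Equiv.ext fun j => by
    show φ x j = j + 1
    rw [hφa, he, Equiv.symm_apply_apply]⟩
  let ψ : G ≃* G' := G.equivMapOfInjective φ.toMonoidHom φ.injective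
  have hψ : ∀ (g : G) (j : ZMod 11), ((ψ g : G') : Equiv.Perm (ZMod 11)) j =
      e.symm ((g : Equiv.Perm α) (e j)) := fun g j => rfl
  have hns : ¬ Group.IsSolvable G' := fun h =>
    hG (Group.isSolvable_of_isSolvable_injective (f := ψ.toMonoidHom) ψ.injective)
  have hA' : ¬ alternatingGroup (ZMod 11) ≤ G' := fun h => hA fun g hg => by
    obtain ⟨y, hy, hyg⟩ := h (show φ g ∈ alternatingGroup (ZMod 11) from
      Equiv.Perm.mem_alternatingGroup.2 (by
        show Equiv.Perm.sign (e.symm.permCongr g) = 1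
        rw [Equiv.Perm.sign_permCongr]; exact Equiv.Perm.mem_alternatingGroup.1 hg))
    rwa [← φ.injective hyg]
  rcases DegreeEleven.classification ht hA' hns with ⟨h4, hfree⟩ | ⟨hsimple, hcard⟩
  · left
    refine ⟨⟨fun a b => ?_⟩, fun a => (Subgroup.eq_bot_iff_forall _).2 fun g hg => ψ.injective ?_⟩
    · obtain ⟨g', hg'⟩ := MulAction.exists_smul_eq (M := G')
        (a.trans e.symm.toEmbedding) (b.trans e.symm.toEmbedding)
      obtain ⟨g, rfl⟩ := ψ.surjective g'
      refine ⟨g, Function.Embedding.ext fun i => e.symm.injective ?_⟩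
      have h := congrArg (fun f : Fin 4 ↪ ZMod 11 => f i) hg'
      have h' : ((ψ g : G') : Equiv.Perm (ZMod 11)) (e.symm (a i)) = e.symm (b i) := h
      rw [hψ, Equiv.apply_symm_apply] at h'
      exact h'
    · rw [map_one]
      refine hfree (a.trans e.symm.toEmbedding) _ fun i => ?_
      have h : (g : Equiv.Perm α) (a i) = a i :=
        congrArg (fun f : Fin 4 ↪ α => f i) (MulAction.mem_stabilizer_iff.1 hg)
      show ((ψ g : G') : Equiv.Perm (ZMod 11)) (e.symm (a i)) = e.symm (a i)
      rw [hψ, Equiv.apply_symm_apply, h]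
  · right
    haveI := hsimple
    obtain ⟨f⟩ := Cfsg.Agent.S0498.result (G := G') 11 (Or.inl rfl) (by rw [hcard]; norm_num)
      (F := ZMod 11) (ZMod.card 11)
    exact ⟨ψ.trans f⟩

end Cfsg.Agent.S0679
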