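import Cfsg.Statements.S0680
import Cfsg.Agent.Lib.Perm.SharpTwo

set_option autoImplicit false
open Cfsg

namespace Cfsg.Agent.S0680

/-- A finite sharply doubly transitive permutation group has degree a prime power `p ^ j`; a Sylow `p`-subgroup is normal, elementary abelian and regular, and consists of the identity together with the elements without fixed points. (Frobenius' Theorem is not needed.) -/
theorem result {α : Type*} [Fintype α] [DecidableEq α] (G : Subgroup (Equiv.Perm α)) [MulAction.IsMultiplyPretransitive G α 2] (hsharp : ∀ x : Fin 2 ↪ α, MulAction.stabilizer G x = ⊥) (h2 : 2 ≤ Fintype.card α) : ∃ p j : ℕ, p.Prime ∧ 1 ≤ j ∧ Fintype.card α = p ^ j ∧ ∀ (hp : Fact p.Prime) (P : Sylow p G), (P : Subgroup G).Normal ∧ IsMulCommutative (P : Subgroup G) ∧ (∀ x ∈ (P : Subgroup G), x ^ p = 1) ∧ MulAction.IsPretransitive (P : Subgroup G) α ∧ (∀ a : α, MulAction.stabilizer (P : Subgroup G) a = ⊥) ∧ ∀ g : G, g ∈ (P : Subgroup G) ↔ g = 1 ∨ ∀ a : α, g • a ≠ a := by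
  obtain ⟨K, p, j, hKn, hp, hj, hcard, hG, hK, hcomm, hexp, htr, hreg, hchar⟩ :=
    CfsgLib.Perm.exists_regular_kernel (G := G) (α := α) hsharp h2
  refine ⟨p, j, hp, hj, hcard, fun hp' P => ?_⟩
  haveI := hKn
  have hcop : Nat.Coprime p (p ^ j - 1) := by
    rw [Nat.Prime.coprime_iff_not_dvd hp]
    intro h
    have hd : p ∣ p ^ j := dvd_pow_self p (by omega)
    have hpos : 0 < p ^ j := pow_pos hp.pos j
    have := Nat.dvd_sub hd h
    rw [show p ^ j - (p ^ j - 1) = 1 by omega] at this
    exact hp.not_dvd_one this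
  have hPK : (P : Subgroup G) = K := by
    have hKP : K ≤ P := IsPGroup.le_sylow_of_normal (IsPGroup.of_card hK) P
    refine le_antisymm ?_ hKP
    have hindex : ¬ p ∣ K.index := by
      rw [← hp.coprime_iff_not_dvd]
      have := Subgroup.card_mul_index K
      rw [hG, hK] at this
      rwa [Nat.eq_of_mul_eq_mul_left (pow_pos hp.pos j) this]
    exact le_of_eq (((IsPGroup.of_card hK).toSylow hindex).3 P.2 hKP)
  rw [hPK]
  exact ⟨hKn, hcomm, hexp, htr, hreg, hchar⟩

end Cfsg.Agent.S0680
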