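import Cfsg.Statements.S0681
import Mathlib.GroupTheory.GroupAction.MultipleTransitivity
import Mathlib.GroupTheory.Perm.Subgroup
import Mathlib.Algebra.Group.Basic

set_option autoImplicit false
open Cfsg

namespace Cfsg.Agent.S0681

theorem nf_zero_mul {F : Type*} [Cfsg.NearField F] (a : F) : (0 : F) * a = 0 := by
  have h := Cfsg.NearField.right_distrib (0 : F) 0 a
  rw [add_zero] at h
  exact left_eq_add.mp h

theorem nf_neg_mul {F : Type*} [Cfsg.NearField F] (x a : F) : (-x) * a = -(x * a) := by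
  refine eq_neg_of_add_eq_zero_left ?_
  rw [← Cfsg.NearField.right_distrib, neg_add_cancel, nf_zero_mul]

/-- The affine maps `x ↦ x * a + b`, `a ≠ 0`, of a near-field form a sharply doubly transitive permutation group. -/
theorem result {F : Type*} [Cfsg.NearField F] : ∃ H : Subgroup (Equiv.Perm F), (∀ σ : Equiv.Perm F, σ ∈ H ↔ ∃ a b : F, a ≠ 0 ∧ ∀ x : F, σ x = x * a + b) ∧ MulAction.IsMultiplyPretransitive H F 2 ∧ ∀ x : Fin 2 ↪ F, MulAction.stabilizer H x = ⊥ := by
  have hmul0 : ∀ a b : F, a ≠ 0 → b ≠ 0 → a * b ≠ 0 := fun a b ha hb h => by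
    obtain ⟨a', -, ha'⟩ := Cfsg.NearField.exists_inv a ha
    apply hb
    rw [← one_mul b, ← ha', mul_assoc, h, Cfsg.NearField.mul_zero]
  let H : Subgroup (Equiv.Perm F) :=
    { carrier := {σ | ∃ a b : F, a ≠ 0 ∧ ∀ x : F, σ x = x * a + b}
      one_mem' := ⟨1, 0, (Cfsg.NearField.zero_ne_one).symm, fun x => by
        rw [mul_one, add_zero]; rfl⟩
      mul_mem' := by
        rintro σ τ ⟨a, b, ha, hσ⟩ ⟨c, d, hc, hτ⟩
        refine ⟨c * a, d * a + b, hmul0 c a hc ha, fun x => ?_⟩
        rw [Equiv.Perm.mul_apply, hτ, hσ, Cfsg.NearField.right_distrib, mul_assoc, add_assoc]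
      inv_mem' := by
        rintro σ ⟨a, b, ha, hσ⟩
        obtain ⟨a', h1, h2⟩ := Cfsg.NearField.exists_inv a ha
        refine ⟨a', (-b) * a', fun h => ?_, fun x => ?_⟩
        · rw [h, Cfsg.NearField.mul_zero] at h1
          exact Cfsg.NearField.zero_ne_one h1
        · apply σ.injective
          rw [Equiv.Perm.inv_def, Equiv.apply_symm_apply, hσ, Cfsg.NearField.right_distrib,
            mul_assoc, mul_assoc, h2, mul_one, mul_one, add_assoc, neg_add_cancel, add_zero] }
  refine ⟨H, fun σ => Iff.rfl, ?_, fun e => ?_⟩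
  · rw [MulAction.is_two_pretransitive_iff]
    intro x₁ x₂ y₁ y₂ hx hy
    obtain ⟨u, hu, hu'⟩ := Cfsg.NearField.exists_inv (x₁ - x₂) (sub_ne_zero.mpr hx)
    set a := u * (y₁ - y₂) with ha
    have ha0 : a ≠ 0 := hmul0 _ _ (fun h => by
      rw [h, Cfsg.NearField.mul_zero] at hu
      exact Cfsg.NearField.zero_ne_one hu) (sub_ne_zero.mpr hy)
    obtain ⟨a', h1, h2⟩ := Cfsg.NearField.exists_inv a ha0
    set b := -(x₂ * a) + y₂ with hb
    have hl : ∀ y : F, ((y + -b) * a') * a + b = y := fun y => by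
      rw [mul_assoc, h2, mul_one, add_assoc, neg_add_cancel, add_zero]
    have hr : ∀ x : F, (x * a + b + -b) * a' = x := fun x => by
      rw [add_assoc, add_neg_cancel, add_zero, mul_assoc, h1, mul_one]
    refine ⟨⟨⟨fun x => x * a + b, fun y => (y + -b) * a', hr, hl⟩, a, b, ha0, fun x => rfl⟩,
      ?_, ?_⟩
    · show x₁ * a + b = y₁
      have : x₁ * a = (y₁ - y₂) + x₂ * a := by
        calc x₁ * a = ((x₁ - x₂) + x₂) * a := by rw [sub_add_cancel]
          _ = (y₁ - y₂) + x₂ * a := by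
            rw [Cfsg.NearField.right_distrib, ha, ← mul_assoc, hu, one_mul]
      rw [this, hb, add_assoc, add_neg_cancel_left, sub_add_cancel]
    · show x₂ * a + b = y₂
      rw [hb, add_neg_cancel_left]
  · rw [Subgroup.eq_bot_iff_forall]
    rintro ⟨σ, a, b, ha, hσ⟩ hstab
    have h : ∀ i : Fin 2, e i * a + b = e i := fun i => by
      have := congrArg (fun f : Fin 2 ↪ F => f i) (MulAction.mem_stabilizer_iff.mp hstab)
      rw [← hσ]
      exact this
    have he : e 0 ≠ e 1 := fun h => zero_ne_one (e.injective h)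
    have ha1 : a = 1 := by
      obtain ⟨u, -, hu⟩ := Cfsg.NearField.exists_inv (e 0 - e 1) (sub_ne_zero.mpr he)
      have hd : (e 0 - e 1) * a = e 0 - e 1 := by
        rw [sub_eq_add_neg, Cfsg.NearField.right_distrib, nf_neg_mul]
        calc e 0 * a + -(e 1 * a) = (e 0 * a + b) + -(e 1 * a + b) := by
              rw [neg_add_rev, add_assoc, add_neg_cancel_left]
          _ = e 0 + -e 1 := by rw [h, h]
      rw [← one_mul a, ← hu, mul_assoc, hd]
    have hb0 : b = 0 := by
      have := h 0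
      rw [ha1, mul_one] at this
      exact add_eq_left.mp this
    refine Subtype.ext (Equiv.ext fun x => ?_)
    show σ x = x
    rw [hσ, ha1, hb0, mul_one, add_zero]

end Cfsg.Agent.S0681
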