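import Cfsg.Statements.S0682
import Cfsg.Agent.Lib.Perm.Basic
import Mathlib.Algebra.Group.TypeTags.Hom
import Mathlib.Algebra.Group.TypeTags.Finite

set_option autoImplicit false
open Cfsg

namespace Cfsg.Agent.S0682

/-- A finite near-field has prime-power order; its additive group is commutative of prime exponent. -/
theorem result {F : Type*} [Cfsg.NearField F] [Finite F] : ∃ p j : ℕ, p.Prime ∧ 1 ≤ j ∧ Nat.card F = p ^ j ∧ (∀ x y : F, x + y = y + x) ∧ ∀ x : F, p • x = 0 := by
  have hinj : ∀ a : F, a ≠ 0 → Function.Injective (fun x : F => x * a) := by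
    intro a ha x y h
    obtain ⟨b, hb, -⟩ := Cfsg.NearField.exists_inv a ha
    simpa [mul_assoc, hb] using congrArg (· * b) h
  have htrans : ∀ x y : F, x ≠ 0 → y ≠ 0 → ∃ a : F, a ≠ 0 ∧ x * a = y := by
    intro x y hx hy
    obtain ⟨u, hu, -⟩ := Cfsg.NearField.exists_inv x hx
    refine ⟨u * y, fun h => hy ?_, by rw [← mul_assoc, hu, one_mul]⟩
    rw [← one_mul y, ← hu, mul_assoc, h, Cfsg.NearField.mul_zero]
  let φ : F → (F →+ F) := fun a => AddMonoidHom.mk' (· * a) fun x y => Cfsg.NearField.right_distrib x y a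
  haveI : Nontrivial (Multiplicative F) :=
    ⟨⟨Multiplicative.ofAdd 0, Multiplicative.ofAdd 1, fun h => Cfsg.NearField.zero_ne_one
      (Multiplicative.ofAdd.injective h)⟩⟩
  haveI : Finite (Multiplicative F) := ‹Finite F›
  have hord : ∀ x y : Multiplicative F, x ≠ 1 → y ≠ 1 → orderOf x = orderOf y := by
    intro x y hx hy
    obtain ⟨a, ha, hxy⟩ := htrans x.toAdd y.toAdd hx hy
    rw [← orderOf_injective (φ a).toMultiplicative (fun u v h =>
      Multiplicative.toAdd.injective (hinj a ha (congrArg Multiplicative.toAdd h))) x]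
    exact congrArg orderOf (congrArg Multiplicative.ofAdd hxy)
  obtain ⟨p, hp, hexp, hpg⟩ := CfsgLib.Perm.exists_prime_forall_pow_eq_one hord
  haveI : Fact p.Prime := ⟨hp⟩
  obtain ⟨j, hj⟩ := IsPGroup.iff_card.mp hpg
  have hcard : Nat.card F = p ^ j := hj
  refine ⟨p, j, hp, ?_, hcard, ?_, fun x => ?_⟩
  · rcases Nat.eq_zero_or_pos j with rfl | h
    · have : (1 : ℕ) < Nat.card F :=
        Finite.one_lt_card_iff_nontrivial.mpr ⟨⟨0, 1, Cfsg.NearField.zero_ne_one⟩⟩
      rw [hcard, pow_zero] at this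
      exact absurd this (lt_irrefl _)
    · exact h
  · haveI := hpg.center_nontrivial
    obtain ⟨⟨z, hzc⟩, hz⟩ := exists_ne (1 : Subgroup.center (Multiplicative F))
    have hz0 : z.toAdd ≠ 0 := fun h => hz (Subtype.ext h)
    have hzcomm : ∀ w : F, w + z.toAdd = z.toAdd + w := fun w =>
      congrArg Multiplicative.toAdd (Subgroup.mem_center_iff.mp hzc (Multiplicative.ofAdd w))
    intro x y
    by_cases hx : x = 0
    · rw [hx, zero_add, add_zero]
    obtain ⟨a, ha, rfl⟩ := htrans z.toAdd x hz0 hx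
    obtain ⟨a', -, ha'⟩ := Cfsg.NearField.exists_inv a ha
    have hy : y = (y * a') * a := by rw [mul_assoc, ha', mul_one]
    rw [hy, ← Cfsg.NearField.right_distrib, ← Cfsg.NearField.right_distrib, hzcomm]
  · exact congrArg Multiplicative.toAdd (hexp (Multiplicative.ofAdd x))

end Cfsg.Agent.S0682
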