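import Cfsg.Statements.S0683
import Cfsg.Agent.Lib.Perm.SharpTwo
import Mathlib.Algebra.Group.TransferInstance
import Mathlib.Algebra.Group.TypeTags.Basic

set_option autoImplicit false
open Cfsg

namespace Cfsg.Agent.S0683

/-- A finite sharply doubly transitive permutation group is the affine group of a near-field: the permuted set carries a near-field structure for which the group consists exactly of the maps `x ↦ x * a + b` with `a ≠ 0`. -/
theorem result {α : Type*} [Fintype α] [DecidableEq α] (H : Subgroup (Equiv.Perm α)) [MulAction.IsMultiplyPretransitive H α 2] (hsharp : ∀ x : Fin 2 ↪ α, MulAction.stabilizer H x = ⊥) (h2 : 2 ≤ Fintype.card α) : ∃ _ : Cfsg.NearField α, ∀ σ : Equiv.Perm α, σ ∈ H ↔ ∃ a b : α, a ≠ 0 ∧ ∀ x : α, σ x = x * a + b := by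
  obtain ⟨K, p, j, hKn, hp, hj, hcard, hG, hK, hcomm, hexp, htr, hreg, hchar⟩ :=
    CfsgLib.Perm.exists_regular_kernel (G := H) (α := α) hsharp h2
  classical
  haveI := hKn
  haveI := hcomm
  obtain ⟨z, o, hzo⟩ := Fintype.exists_pair_of_one_lt_card (show 1 < Fintype.card α by omega)
  let e : K ≃ α := CfsgLib.Perm.regularEquiv K z htr (hreg z)
  let e' : α ≃ Additive K := e.symm.trans Additive.ofMul
  letI : CommGroup K := { (inferInstance : Group K) with mul_comm := hcomm.is_comm.comm }
  letI iag : AddCommGroup α := e'.addCommGroup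
  have hadd : ∀ k l : K, e (k * l) = e k + e l := fun k l => by
    show _ = e'.symm (e' (e k) + e' (e l))
    simp [e']
  have hz0 : z = (0 : α) := by
    show z = e'.symm 0
    simp [e', e]
  have hsm : ∀ (k : K) (x : α), k • x = x + e k := fun k x => by
    obtain ⟨l, rfl⟩ := e.surjective x
    rw [← hadd, mul_comm l k]
    show k • l • z = (k * l) • z
    rw [mul_smul]
  have h2t : ∀ {a b c d : α}, a ≠ b → c ≠ d → ∃ g : H, g • a = c ∧ g • b = d :=
    (MulAction.is_two_pretransitive_iff (G := H) (α := α)).mp ‹_›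
  have hex : ∀ a : α, ∃ h : H, h • z = z ∧ (a ≠ z → h • o = a) := fun a => by
    by_cases ha : a = z
    · exact ⟨1, one_smul _ _, fun h => absurd ha h⟩
    · obtain ⟨h, h1, h3⟩ := h2t hzo (Ne.symm ha)
      exact ⟨h, h1, fun _ => h3⟩
  choose m hm1 hm2 using hex
  have huniq : ∀ (h : H) (a : α), h • z = z → h • o = a → h = m a := fun h a h1 h3 => by
    have ha : a ≠ z := fun e => hzo ((MulAction.injective h) ((h1.trans e.symm).trans h3.symm))
    have : (m a)⁻¹ * h = 1 := CfsgLib.Perm.eq_one_of_sharp hsharp hzo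
      (by rw [mul_smul, h1, inv_smul_eq_iff, hm1]) (by rw [mul_smul, h3, inv_smul_eq_iff, hm2 a ha])
    exact (inv_mul_eq_one.mp this).symm
  let mu : α → α → α := fun x a => if a = z then z else m a • x
  have hmu0 : ∀ x : α, mu x z = z := fun x => if_pos rfl
  have hmu : ∀ x a : α, a ≠ z → mu x a = m a • x := fun x a ha => if_neg ha
  have hzmu : ∀ a : α, mu z a = z := fun a => by
    by_cases ha : a = z
    · exact if_pos ha
    · rw [hmu _ _ ha, hm1]
  have hoz : o ≠ z := fun h => hzo h.symm
  have hmo : m o = 1 := (huniq 1 o (one_smul _ _) (one_smul _ _)).symm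
  have hne : ∀ (h : H) (x : α), h • z = z → x ≠ z → h • x ≠ z := fun h x h1 hx e =>
    hx (MulAction.injective h (e.trans h1.symm))
  letI : Cfsg.NearField α :=
    { iag.toAddGroup with
      mul := mu
      mul_assoc := fun a b c => by
        show mu (mu a b) c = mu a (mu b c)
        by_cases hc : c = z
        · rw [hc, hmu0, hmu0, hmu0]
        by_cases hb : b = z
        · rw [hb, hmu0, hzmu, hmu0]
        have hcb : m c • b ≠ z := hne _ _ (hm1 c) hb
        rw [hmu _ _ hc, hmu _ _ hc, hmu _ _ hb, hmu _ _ hcb, smul_smul]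
        congr 1
        exact huniq _ _ (by rw [mul_smul, hm1, hm1]) (by rw [mul_smul, hm2 b hb])
      one := o
      one_mul := fun a => by
        show mu o a = a
        by_cases ha : a = z
        · rw [ha, hmu0]
        · rw [hmu _ _ ha, hm2 a ha]
      mul_one := fun a => by
        show mu a o = a
        rw [hmu _ _ hoz, hmo, one_smul]
      right_distrib := fun a b c => by
        show mu (a + b) c = mu a c + mu b c
        by_cases hc : c = z
        · rw [hc, hmu0, hmu0, hmu0, hz0, add_zero]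
        rw [hmu _ _ hc, hmu _ _ hc, hmu _ _ hc]
        obtain ⟨k, rfl⟩ := e.surjective a
        obtain ⟨l, rfl⟩ := e.surjective b
        have hconj : ∀ k : K, m c • e k = e ⟨m c * k * (m c)⁻¹, hKn.conj_mem _ k.2 _⟩ := fun k =>
          CfsgLib.Perm.smul_smul_of_fix (hm1 c)
        rw [← hadd, hconj, hconj, hconj, ← hadd]
        congr 1
        exact Subtype.ext (show m c * ((k : H) * l) * (m c)⁻¹ =
          m c * k * (m c)⁻¹ * (m c * l * (m c)⁻¹) by group)
      mul_zero := fun a => by
        show mu a (0 : α) = 0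
        rw [← hz0, hmu0]
      zero_ne_one := fun h => hzo (hz0.trans h)
      exists_inv := fun a ha => by
        change a ≠ (0 : α) at ha
        rw [← hz0] at ha
        have h1 : (m a)⁻¹ • z = z := by rw [inv_smul_eq_iff, hm1]
        refine ⟨(m a)⁻¹ • o, ?_, ?_⟩
        · show mu a _ = o
          rw [hmu _ _ (hne _ _ h1 hoz), ← huniq _ _ h1 rfl, inv_smul_eq_iff, hm2 a ha]
        · show mu _ a = o
          rw [hmu _ _ ha, smul_inv_smul] }
  refine ⟨‹_›, fun σ => ⟨fun hσ => ?_, ?_⟩⟩
  · obtain ⟨k, hk⟩ := e.surjective (σ z)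
    set h : H := (k : H)⁻¹ * ⟨σ, hσ⟩ with hh
    have h1 : h • z = z := by
      rw [hh, mul_smul, inv_smul_eq_iff]
      exact hk.symm
    have ha : h • o ≠ z := hne _ _ h1 hoz
    refine ⟨h • o, σ z, fun e => ha (e.trans hz0.symm), fun x => ?_⟩
    show σ x = mu x (h • o) + σ z
    rw [hmu _ _ ha, ← huniq h _ h1 rfl, ← hk, ← hsm]
    show (⟨σ, hσ⟩ : H) • x = (k : H) • h • x
    rw [hh, mul_smul, smul_inv_smul]
  · rintro ⟨a, b, ha, hσ⟩
    change a ≠ (0 : α) at ha
    rw [← hz0] at ha
    obtain ⟨k, rfl⟩ := e.surjective b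
    have : σ = (((k : H) * m a : H) : Equiv.Perm α) := Equiv.ext fun x => by
      rw [hσ]
      show mu x a + e k = k • (m a • x)
      rw [hmu _ _ ha, hsm]
    rw [this]
    exact SetLike.coe_mem _

end Cfsg.Agent.S0683
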