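import Cfsg.Statements.S0685
import Cfsg.Agent.Lib.Perm.RegularLinearNormal

set_option autoImplicit false
open Cfsg

namespace Cfsg.Agent.S0685

/-- In a linear group over the prime field that is regular on non-zero vectors and has no irreducible cyclic normal subgroup, a maximal normal abelian subgroup is properly contained in its centraliser, which is non-abelian. -/
theorem result {p : ℕ} [Fact p.Prime] {V : Type*} [AddCommGroup V] [Module (ZMod p) V] [Finite V] (H : Subgroup (V ≃ₗ[ZMod p] V)) (hreg : ∀ v w : V, v ≠ 0 → w ≠ 0 → ∃! h : H, (h : V ≃ₗ[ZMod p] V) v = w) (hI : ∀ A : Subgroup H, A.Normal → IsCyclic A → ∃ W : Submodule (ZMod p) V, W ≠ ⊥ ∧ W ≠ ⊤ ∧ ∀ a ∈ A, ∀ v ∈ W, ((a : H) : V ≃ₗ[ZMod p] V) v ∈ W) (A : Subgroup H) (hAn : A.Normal) (hAc : IsMulCommutative A) (hAmax : ∀ B : Subgroup H, B.Normal → IsMulCommutative B → A ≤ B → B = A) : A < Subgroup.centralizer (A : Set H) ∧ ¬ IsMulCommutative (Subgroup.centralizer (A : Set H)) := by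
  haveI := CfsgLib.Perm.RegularLinear.finite hreg
  haveI := CfsgLib.Perm.RegularLinear.nontrivial_of_reducible hI
  haveI := hAn
  have hcyc : IsCyclic A := (CfsgLib.Perm.RegularLinear.hasFpf hreg).isCyclic_of_comm
    fun x hx y hy => setLike_mul_comm hx hy
  obtain ⟨k, l, hk, hl, hV, hdvd, hidx, -, -, hirr⟩ :=
    CfsgLib.Perm.RegularLinear.field_data hreg A hAc
  have hl2 : 2 ≤ l := by
    by_contra h
    obtain ⟨W, h0, h1, h2⟩ := hI A hAn hcyc
    rcases hirr (by omega) W h2 with h' | h'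
    · exact h0 h'
    · exact h1 h'
  have hle : A ≤ Subgroup.centralizer (A : Set H) := fun x hx =>
    Subgroup.mem_centralizer_iff.2 fun y hy => setLike_mul_comm hy hx
  have hne : Subgroup.centralizer (A : Set H) ≠ A := by
    intro he
    have hp : p.Prime := Fact.out
    have hH := Subgroup.card_mul_index (Subgroup.centralizer (A : Set H))
    rw [he] at hH hidx
    have hq : k < p ^ k := Nat.lt_pow_self hp.one_lt
    have h1 : Nat.card H ∣ (p ^ k - 1) * k := hH ▸ mul_dvd_mul hdvd hidx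
    have hcV := CfsgLib.Perm.RegularLinear.natCard_add_one hreg
    have h2 := Nat.le_of_dvd (Nat.mul_pos (by omega) hk) h1
    have h3 : (p ^ k) ^ 2 ≤ (p ^ k) ^ l := Nat.pow_le_pow_right (by omega) hl2
    rw [← hV, ← hcV] at h3
    have h4 : (p ^ k - 1) * k ≤ (p ^ k - 1) * p ^ k := Nat.mul_le_mul_left _ hq.le
    obtain ⟨q, hq'⟩ : ∃ q, p ^ k = q + 1 := ⟨p ^ k - 1, by omega⟩
    rw [hq'] at h3 h4 h2 hq
    rw [Nat.add_sub_cancel] at h4 h2
    nlinarith
  refine ⟨lt_of_le_of_ne hle (Ne.symm hne), fun hc => hne ?_⟩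
  exact hAmax _ inferInstance hc hle

end Cfsg.Agent.S0685
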