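import Cfsg.Statements.S0687
import Cfsg.Agent.Lib.Perm.RegularLinearNormal
import Cfsg.Agent.Lib.Perm.RegularArith
import Cfsg.Agent.Lib.Zassenhaus.Nonsolvable
import Cfsg.Agent.S3742

set_option autoImplicit false
open Cfsg

namespace Cfsg.Agent.S0687

/-- In a linear group over the prime field that is regular on non-zero vectors and has no irreducible cyclic normal subgroup, a normal subgroup `N` minimal among the non-abelian normal subgroups centralising a maximal normal abelian subgroup `A` is irreducible on `V`, and its centraliser is `A`. -/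
theorem result {p : ℕ} [Fact p.Prime] {V : Type*} [AddCommGroup V] [Module (ZMod p) V] [Finite V] (H : Subgroup (V ≃ₗ[ZMod p] V)) (hreg : ∀ v w : V, v ≠ 0 → w ≠ 0 → ∃! h : H, (h : V ≃ₗ[ZMod p] V) v = w) (hI : ∀ A : Subgroup H, A.Normal → IsCyclic A → ∃ W : Submodule (ZMod p) V, W ≠ ⊥ ∧ W ≠ ⊤ ∧ ∀ a ∈ A, ∀ v ∈ W, ((a : H) : V ≃ₗ[ZMod p] V) v ∈ W) (A : Subgroup H) (hAn : A.Normal) (hAc : IsMulCommutative A) (hAmax : ∀ B : Subgroup H, B.Normal → IsMulCommutative B → A ≤ B → B = A) (N : Subgroup H) (hNn : N.Normal) (hNle : N ≤ Subgroup.centralizer (A : Set H)) (hNna : ¬ IsMulCommutative N) (hNmin : ∀ M : Subgroup H, M.Normal → M ≤ N → ¬ IsMulCommutative M → M = N) : (∀ W : Submodule (ZMod p) V, (∀ n ∈ N, ∀ v ∈ W, ((n : H) : V ≃ₗ[ZMod p] V) v ∈ W) → W = ⊥ ∨ W = ⊤) ∧ Subgroup.centralizer (N : Set H) = A := by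
  classical
  haveI := CfsgLib.Perm.RegularLinear.finite hreg
  haveI := CfsgLib.Perm.RegularLinear.nontrivial_of_reducible hI
  haveI := hAn
  haveI := hNn
  haveI : Fact (Nat.Prime 2) := ⟨Nat.prime_two⟩
  have hp : p.Prime := Fact.out
  have hG := CfsgLib.Perm.RegularLinear.hasFpf hreg
  have hcases := CfsgLib.Perm.RegularLinear.minimal_normal hG hAc hAmax hNle hNna hNmin
  set CA := Subgroup.centralizer (A : Set H) with hCA
  set D := Subgroup.centralizer (N : Set H) with hD
  have hy : ∃ y : N, orderOf y = 4 := by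
    rcases hcases with h | ⟨-, ⟨e⟩⟩
    · exact CfsgLib.Perm.RegularLinear.exists_four h
    · exact CfsgLib.Zassenhaus.exists_orderOf_eq e (Or.inr (Or.inl rfl))
  have hz : ∀ y : N, y ∈ Subgroup.center N → y ^ 2 = 1 := by
    intro y hy'
    rcases hcases with ⟨⟨e⟩⟩ | ⟨-, ⟨e⟩⟩
    · have hq : ∀ a : QuaternionGroup 2, (∀ b, a * b = b * a) → a * a = 1 := by decide +kernel
      apply e.injective
      rw [map_pow, map_one, pow_two]
      refine hq _ fun b => ?_
      obtain ⟨z, rfl⟩ := e.surjective b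
      rw [← map_mul, ← map_mul, Subgroup.mem_center_iff.1 hy' z]
    · exact CfsgLib.Zassenhaus.sq_eq_one_of_central e hy'
  obtain ⟨y, hy4⟩ := hy
  -- the common centraliser
  have hsmall : CfsgLib.Zassenhaus.IsSmall (CA ⊓ D) := by
    intro P hP hP2
    have h2 : ∀ x ∈ P, x ^ 2 = 1 := by
      intro x hx
      obtain ⟨j, hj⟩ := IsPGroup.iff_orderOf.1 hP2 ⟨x, hx⟩
      rw [Subgroup.orderOf_mk] at hj
      by_contra hne
      have h4 : 4 ∣ orderOf x := by
        rw [hj]
        refine pow_dvd_pow 2 (show 2 ≤ j from by_contra fun h => hne ?_)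
        exact orderOf_dvd_iff_pow_eq_one.1 (hj ▸ (pow_dvd_pow 2 (show j ≤ 1 by omega)))
      have hc : Commute x (y : H) := (Subgroup.mem_centralizer_iff.1 (hP hx).2 y y.2).symm
      have hyx := hG.mem_zpowers_of_commute hc (by rw [Subgroup.orderOf_coe, hy4]; exact h4)
      have hyD : (y : H) ∈ D := Subgroup.zpowers_le.2 (hP hx).2 hyx
      have := Nat.le_of_dvd two_pos (orderOf_dvd_of_pow_eq_one (hz y (Subgroup.mem_center_iff.2
        fun z => Subtype.ext (Subgroup.mem_centralizer_iff.1 hyD z z.2))))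
      omega
    refine hG.isCyclic_of_comm fun a ha b hb => ?_
    have hinv : ∀ c ∈ P, c⁻¹ = c := fun c hc => inv_eq_of_mul_eq_one_right (pow_two c ▸ h2 c hc)
    rw [← hinv _ (P.mul_mem ha hb), mul_inv_rev, hinv a ha, hinv b hb]
  haveI := hG.isZGroup hsmall
  haveI : IsCyclic (commutator (CA ⊓ D : Subgroup H)) := IsZGroup.isCyclic_commutator _
  have hKc : IsMulCommutative (⁅CA ⊓ D, CA ⊓ D⁆ : Subgroup H) := by
    rw [← Subgroup.map_subtype_commutator]
    haveI : IsMulCommutative (commutator (CA ⊓ D : Subgroup H)) := inferInstance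
    exact Subgroup.map_isMulCommutative _ _
  have hKA : ⁅CA ⊓ D, CA ⊓ D⁆ ≤ A := CfsgLib.Perm.RegularLinear.eq_of_le_centralizer hAc hAmax hKc
    ((Subgroup.commutator_le_self _).trans inf_le_left)
  haveI : Group.IsNilpotent (CA ⊓ D : Subgroup H) := by
    refine Subgroup.isNilpotent_of_ker_le_center
      (Abelianization.of : (CA ⊓ D : Subgroup H) →* Abelianization (CA ⊓ D : Subgroup H)) ?_
    rw [Abelianization.ker_of]
    intro x hx
    refine Subgroup.mem_center_iff.2 fun z => Subtype.ext ?_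
    have hxA : (x : H) ∈ A := hKA (by rw [← Subgroup.map_subtype_commutator]; exact ⟨x, hx, rfl⟩)
    exact (Subgroup.mem_centralizer_iff.1 z.2.1 x hxA).symm
  haveI := CfsgLib.Perm.RegularLinear.isCyclic_of_isSmall_nilpotent hG hsmall
  have hAle : A ≤ CA ⊓ D := by
    refine le_inf (fun x hx => Subgroup.mem_centralizer_iff.2 fun z hz' => setLike_mul_comm hz' hx) ?_
    exact fun x hx => Subgroup.mem_centralizer_iff.2 fun n hn =>
      (Subgroup.mem_centralizer_iff.1 (hNle hn) x hx).symm
  have hB : CA ⊓ D = A := hAmax _ inferInstance inferInstance hAle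
  -- the field
  obtain ⟨k, l, hk, hl, hV, hdvd, hidx, hl1, -, -⟩ :=
    CfsgLib.Perm.RegularLinear.field_data hreg A hAc
  have hl2 : 2 ≤ l := by
    by_contra h
    exact hNna ⟨⟨fun a b => Subtype.ext (hl1 (by omega) a (hNle a.2) b (hNle b.2))⟩⟩
  have hcV := CfsgLib.Perm.RegularLinear.natCard_add_one hreg
  have hHV : Nat.card H = (p ^ k) ^ l - 1 := by omega
  have hbound : ∀ (T : Type) [Group T] [Finite T] (f : H →* T), f.ker = D →
      Nat.card H ∣ Nat.card T * k * (p ^ k - 1) := by
    intro T _ _ f hf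
    have hker : (f.comp CA.subtype).ker = A.subgroupOf CA := by
      ext x
      rw [MonoidHom.mem_ker, Subgroup.mem_subgroupOf, ← hB, Subgroup.mem_inf, ← hf, MonoidHom.mem_ker]
      exact ⟨fun h => ⟨x.2, h⟩, fun h => h.2⟩
    have h1 : Nat.card CA ∣ (p ^ k - 1) * Nat.card T := by
      rw [← Subgroup.card_mul_index (f.comp CA.subtype).ker, Subgroup.index_ker, hker,
        Nat.card_congr (Subgroup.subgroupOfEquivOfLe (hAle.trans inf_le_left)).toEquiv]
      exact mul_dvd_mul hdvd (Subgroup.card_subgroup_dvd_card _)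
    rw [← Subgroup.card_mul_index CA, show Nat.card T * k * (p ^ k - 1) = (p ^ k - 1) * Nat.card T * k by ring]
    exact mul_dvd_mul h1 hidx
  obtain ⟨rfl, rfl⟩ : k = 1 ∧ l = 2 := by
    have hnd := CfsgLib.Perm.RegularLinear.not_dvd_card hreg
    have hNdvd : Nat.card N ∣ Nat.card H := Subgroup.card_subgroup_dvd_card N
    rcases hcases with ⟨⟨e⟩⟩ | ⟨hperf, ⟨e⟩⟩
    · obtain ⟨e4⟩ := Cfsg.Agent.S3742.result
      have h8 : Nat.card N = 8 := by
        rw [Nat.card_congr e.toEquiv, Nat.card_eq_fintype_card, QuaternionGroup.card]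
      have h3 : 3 ≤ p := by
        have := hp.two_le
        by_contra h
        obtain rfl : p = 2 := by omega
        exact hnd (dvd_trans (by norm_num) (h8 ▸ hNdvd))
      let f : H →* Equiv.Perm (Fin 4) :=
        (e4.toMonoidHom.comp (MulAut.congr e).toMonoidHom).comp (MulAut.conjNormal : H →* MulAut N)
      have hf : f.ker = D := by
        ext g
        rw [MonoidHom.mem_ker, hD, Subgroup.mem_centralizer_iff]
        show e4 ((MulAut.congr e) (MulAut.conjNormal g)) = 1 ↔ _
        rw [map_eq_one_iff _ e4.injective, map_eq_one_iff _ (MulAut.congr e).injective]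
        constructor
        · intro h n hn
          have := congrArg (fun φ : MulAut N => ((φ ⟨n, hn⟩ : N) : H)) h
          exact (mul_inv_eq_iff_eq_mul.1 this).symm
        · intro h
          refine MulEquiv.ext fun n => Subtype.ext ?_
          show g * n * g⁻¹ = n
          rw [← h n n.2, mul_inv_cancel_right]
      have := hbound _ f hf
      rw [hHV, Nat.card_perm, Nat.card_eq_fintype_card, Fintype.card_fin] at this
      obtain ⟨h1, h2, -⟩ := CfsgLib.Perm.RegularLinear.arith_q8 hp h3 hk hl2 this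
      exact ⟨h1, h2⟩
    · have h120 : Nat.card N = 120 := (Nat.card_congr e.toEquiv).trans CfsgLib.Zassenhaus.card_SL25
      have h7 : 7 ≤ p := by
        have := hp.two_le
        have hno : ¬ p ∣ 120 := fun h => hnd (dvd_trans h (h120 ▸ hNdvd))
        by_contra h
        interval_cases p <;> first | exact hno (by norm_num) | exact absurd hp (by norm_num)
      obtain ⟨f, hf, -⟩ := CfsgLib.Zassenhaus.exists_action ⟨e⟩ hperf
      have := hbound _ f hf
      rw [hHV, Nat.card_perm, Nat.card_eq_fintype_card, Fintype.card_fin] at this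
      obtain ⟨h1, h2, -⟩ := CfsgLib.Perm.RegularLinear.arith_sl25 hp h7 hk hl2 this
      exact ⟨h1, h2⟩
  refine ⟨fun W hW => ?_, ?_⟩
  · by_contra hne
    push Not at hne
    obtain ⟨hbot, htop⟩ := hne
    haveI : Module.Finite (ZMod p) V := Module.Finite.of_finite
    have hfinV : Module.finrank (ZMod p) V = 2 := by
      have h := Module.natCard_eq_pow_finrank (K := ZMod p) (V := V)
      rw [hV, pow_one, Nat.card_zmod] at h
      exact (Nat.pow_right_injective hp.two_le h).symm
    have hW1 : Module.finrank (ZMod p) W = 1 := by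
      have h1 := Submodule.finrank_lt htop
      have h2 : Module.finrank (ZMod p) W ≠ 0 := fun h => hbot (Submodule.finrank_eq_zero.1 h)
      omega
    obtain ⟨w, hw, hw0⟩ := Submodule.exists_mem_ne_zero_of_ne_bot hbot
    have hscal : ∀ n ∈ N, ∃ c : ZMod p, c • w = ((n : H) : V ≃ₗ[ZMod p] V) w := fun n hn => by
      obtain ⟨c, hc⟩ := (finrank_eq_one_iff_of_nonzero' (⟨w, hw⟩ : W)
        (fun h => hw0 (congrArg Subtype.val h))).1 hW1 ⟨_, hW n hn w hw⟩
      exact ⟨c, congrArg Subtype.val hc⟩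
    refine hNna ⟨⟨fun a b => Subtype.ext ?_⟩⟩
    obtain ⟨ca, hca⟩ := hscal a a.2
    obtain ⟨cb, hcb⟩ := hscal b b.2
    have hkey : (((a : H) * b : H) : V ≃ₗ[ZMod p] V) w = (((b : H) * a : H) : V ≃ₗ[ZMod p] V) w := by
      show ((a : H) : V ≃ₗ[ZMod p] V) (((b : H) : V ≃ₗ[ZMod p] V) w) =
        ((b : H) : V ≃ₗ[ZMod p] V) (((a : H) : V ≃ₗ[ZMod p] V) w)
      rw [← hca, ← hcb, map_smul, map_smul, ← hca, ← hcb, smul_smul, smul_smul, mul_comm]
    exact (hreg w _ hw0 (fun h => hw0 ((LinearEquiv.map_eq_zero_iff _).1 h))).unique hkey rfl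
  · have hCAtop : CA = ⊤ := Subgroup.index_eq_one.1 (Nat.dvd_one.1 hidx)
    show D = A
    rw [← hB, hCAtop, top_inf_eq]

end Cfsg.Agent.S0687
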