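import Cfsg.Statements.S3361
import Cfsg.Agent.Lib.Semilinear.RegularSolvable
import Cfsg.Agent.Lib.Transfer.Quaternion

set_option autoImplicit false
open Cfsg
set_option linter.style.haveILetI false

namespace Cfsg.Agent.S3361

open CfsgLib.Semilinear

theorem exists_index_two_of_sign {G : Type*} [Group G] (t : G →* Equiv.Perm (Fin 3))
    (h : 2 ∣ Nat.card t.range) : ∃ N : Subgroup G, N.Normal ∧ N.index = 2 := by
  obtain ⟨⟨_, g, rfl⟩, hg⟩ := exists_prime_orderOf_dvd_card' (G := t.range) 2 h
  have h2 : ∀ p : Equiv.Perm (Fin 3), p * p = 1 → p ≠ 1 → Equiv.Perm.sign p = -1 := by decide +kernel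
  rw [← Subgroup.orderOf_coe] at hg
  have hs : Equiv.Perm.sign (t g) = -1 := h2 _ (by rw [← pow_two, ← hg]; exact pow_orderOf_eq_one _)
    fun h => by
      simp only [h, orderOf_one] at hg
      omega
  refine ⟨(Equiv.Perm.sign.comp t).ker, inferInstance, ?_⟩
  have hsurj : Function.Surjective (Equiv.Perm.sign.comp t) := fun u => by
    rcases Int.units_eq_one_or u with rfl | rfl
    · exact ⟨1, map_one _⟩
    · exact ⟨g, hs⟩
  rw [Subgroup.index_ker, MonoidHom.range_eq_top.2 hsurj, Subgroup.card_top,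
    Nat.card_eq_fintype_card, Fintype.card_units_int]

theorem exists_index_two_of_cyclic {G M : Type*} [Group G] [Group M] [Finite M] [IsCyclic M]
    (f : G →* M) (h : 2 ∣ Nat.card f.range) : ∃ N : Subgroup G, N.Normal ∧ N.index = 2 := by
  obtain ⟨g, hg⟩ := IsCyclic.exists_generator (α := f.range)
  have hord : orderOf g = Nat.card f.range := orderOf_eq_card_of_forall_mem_zpowers hg
  have hidx : (Subgroup.zpowers (g ^ 2)).index = 2 := by
    have hc := Subgroup.card_mul_index (Subgroup.zpowers (g ^ 2))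
    rw [Nat.card_zpowers, orderOf_pow_of_dvd two_ne_zero (hord.symm ▸ h), hord] at hc
    obtain ⟨c, hc'⟩ := h
    have hpos : 0 < Nat.card f.range := Nat.card_pos
    rw [hc'] at hc hpos
    rw [Nat.mul_div_cancel_left c two_pos, mul_comm 2 c] at hc
    exact Nat.eq_of_mul_eq_mul_left (by omega) hc
  refine ⟨(Subgroup.zpowers (g ^ 2)).comap f.rangeRestrict, ?_, ?_⟩
  · refine Subgroup.Normal.comap ?_ _
    exact Subgroup.normal_of_index_eq_two hidx
  · rw [Subgroup.index_comap_of_surjective _ f.rangeRestrict_surjective, hidx]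

theorem card_arith {q d m a c x : ℕ} (hq : q.Prime) (hodd : q ≠ 2) (hd : 1 ≤ d) (hm : 2 ≤ m)
    (hc : c ∣ 6 * d) (ha : a ∣ q ^ d - 1) (hN : (q ^ d) ^ m - 1 = x) (hx : x = c * (4 * a)) :
    m = 2 ∧ d = 1 ∧ (q = 3 ∨ q = 5 ∨ q = 7 ∨ q = 11 ∨ q = 23) := by
  have h3 : 3 ≤ q := by have := hq.two_le; omega
  have hdvd : (q ^ d) ^ m - 1 ∣ 24 * d * (q ^ d - 1) := by
    rw [hN, hx, show 24 * d * (q ^ d - 1) = 6 * d * (4 * (q ^ d - 1)) by ring]
    exact mul_dvd_mul hc (mul_dvd_mul_left 4 ha)
  have hQ3 : 3 ^ d ≤ q ^ d := Nat.pow_le_pow_left h3 d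
  have hQ : 3 ≤ q ^ d := le_trans h3 (Nat.le_self_pow (by omega) q)
  have hpos : 0 < 24 * d * (q ^ d - 1) := Nat.mul_pos (by omega) (by omega)
  have hgrow : ∀ k, 2 ≤ k → 24 * k < 3 ^ k * 3 ^ k := by
    intro k hk
    induction k, hk using Nat.le_induction with
    | base => norm_num
    | succ k hk ih => rw [pow_succ]; nlinarith
  have hm3 : m = 2 := by
    by_contra hne
    have hle : (q ^ d) ^ 3 - 1 ≤ 24 * d * (q ^ d - 1) :=
      le_trans (Nat.sub_le_sub_right (Nat.pow_le_pow_right (by omega) (by omega)) 1)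
        (Nat.le_of_dvd hpos hdvd)
    have hsq : q ^ d * q ^ d + q ^ d + 1 ≤ 24 * d := by
      refine Nat.le_of_mul_le_mul_right (le_trans (le_of_eq ?_) hle) (by omega : 0 < q ^ d - 1)
      obtain ⟨k, hk⟩ : ∃ k, q ^ d = k + 1 := ⟨q ^ d - 1, by omega⟩
      rw [hk, Nat.add_sub_cancel]
      symm
      rw [Nat.sub_eq_iff_eq_add (Nat.one_le_pow _ _ (by omega))]
      ring
    have hd1 : d = 1 := by
      by_contra h
      have := hgrow d (by omega)
      have := Nat.mul_le_mul hQ3 hQ3
      omega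
    subst hd1
    simp only [pow_one] at *
    have : q ≤ 4 := by nlinarith
    have hq3 : q = 3 := by
      interval_cases q
      · rfl
      · exact absurd hq (by norm_num)
    subst hq3
    norm_num at hdvd
    have h81 : m < 4 := by
      by_contra h
      have h1 := Nat.le_of_dvd (by norm_num) hdvd
      have h2 : 3 ^ 4 ≤ 3 ^ m := Nat.pow_le_pow_right (by norm_num) (by omega)
      omega
    obtain rfl : m = 3 := by omega
    norm_num at hdvd
  subst hm3
  have hdvd' : q ^ d + 1 ∣ 24 * d := by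
    obtain ⟨k, hk⟩ : ∃ k, q ^ d = k + 1 := ⟨q ^ d - 1, by omega⟩
    rw [hk, show (k + 1) ^ 2 - 1 = (k + 1 + 1) * k by
      rw [Nat.sub_eq_iff_eq_add (Nat.one_le_pow _ _ (by omega))]; ring, Nat.add_sub_cancel] at hdvd
    rw [hk]
    exact Nat.dvd_of_mul_dvd_mul_right (by omega) hdvd
  have hle := Nat.le_of_dvd (by omega) hdvd'
  have hd4 : d ≤ 4 := by
    by_contra h
    have : ∀ k, 5 ≤ k → 24 * k < 3 ^ k := by
      intro k hk
      induction k, hk using Nat.le_induction with
      | base => norm_num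
      | succ k hk ih => rw [pow_succ]; omega
    have := this d (by omega)
    omega
  refine ⟨rfl, ?_⟩
  interval_cases d
  · simp only [pow_one] at hdvd' hle
    have : q ≤ 23 := by omega
    interval_cases q <;> revert hdvd' hq <;> norm_num
  all_goals exfalso
  · have : q ≤ 6 := by nlinarith
    interval_cases q <;> revert hdvd' hq <;> norm_num
  · have : q ≤ 4 := by
      by_contra h
      have := Nat.pow_le_pow_left (show 5 ≤ q by omega) 3
      omega
    interval_cases q <;> revert hdvd' hq <;> norm_num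
  · have : q ≤ 3 := by
      by_contra h
      have := Nat.pow_le_pow_left (show 4 ≤ q by omega) 4
      omega
    interval_cases q <;> revert hdvd' hq <;> norm_num

theorem exceptional_arith {q a r : ℕ} (hq : q = 3 ∨ q = 5 ∨ q = 7 ∨ q = 11 ∨ q = 23)
    (h : q ^ 2 - 1 = 4 * a * r) (ha : a ∣ q - 1) (h2a : 2 ∣ a) (hr : r ∣ 6) :
    (q = 3 ∧ a = 2) ∨ 2 ∣ r ∨ (q = 5 ∧ a = 2 ∧ r = 3) ∨ (q = 11 ∧ a = 10 ∧ r = 3) := by
  have ha' : a ≤ 22 := by
    have := Nat.le_of_dvd (by omega) ha
    omega
  have key : ∀ q ∈ ({3, 5, 7, 11, 23} : Finset ℕ), ∀ a ∈ Finset.range 23, ∀ r ∈ ({1, 2, 3, 6} : Finset ℕ),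
      q ^ 2 - 1 = 4 * a * r → a ∣ q - 1 → 2 ∣ a →
      (q = 3 ∧ a = 2) ∨ 2 ∣ r ∨ (q = 5 ∧ a = 2 ∧ r = 3) ∨ (q = 11 ∧ a = 10 ∧ r = 3) := by
    decide +kernel
  have hr' : r ∈ ({1, 2, 3, 6} : Finset ℕ) := by
    rw [← show Nat.divisors 6 = {1, 2, 3, 6} by decide]
    exact Nat.mem_divisors.2 ⟨hr, by norm_num⟩
  exact key q (by simp only [Finset.mem_insert, Finset.mem_singleton]; exact hq) a (Finset.mem_range.2 (by omega)) r hr' h ha h2a

theorem exists_mulEquiv_sl {G : Type*} [Group G] [Finite G] (Q : Subgroup G) [Q.Normal]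
    (e : Q ≃* QuaternionGroup 2) (g : G) (hg : g ^ 3 = 1)
    (hgQ : g ∉ Subgroup.centralizer (Q : Set G)) :
    ∃ M : Subgroup G, Nat.card M = 24 ∧
      Nonempty (M ≃* Matrix.SpecialLinearGroup (Fin 2) (ZMod 3)) := by
  let σ : MulAut Q := MulAut.conjNormal g
  have hσ1 : σ ≠ 1 := fun h => hgQ (Subgroup.mem_centralizer_iff.2 fun q hq => by
    have h' := congrArg Subtype.val (DFunLike.congr_fun h ⟨q, hq⟩)
    rw [MulAut.conjNormal_apply] at h'
    exact (mul_inv_eq_iff_eq_mul.1 h').symm)
  have hσ3 : σ ^ 3 = 1 := by rw [← map_pow, hg, map_one]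
  obtain ⟨a, y, hay, hyy, ha4, hy2, hya, -, hcov, -⟩ :=
    CfsgLib.Transfer.quaternion_subgroup_config ⟨1, rfl⟩ e.toMonoidHom e.injective σ hσ3
      (by decide) hσ1
  let M : Subgroup G := Subgroup.closure {(a : G), g}
  have haM : (a : G) ∈ M := Subgroup.subset_closure (by simp)
  have hgM : g ∈ M := Subgroup.subset_closure (by simp)
  have hga : g * (a : G) * g⁻¹ = (y : G) :=
    (MulAut.conjNormal_apply g a).symm.trans (congrArg Subtype.val hay)
  have hgy : g * (y : G) * g⁻¹ = (a : G) * y :=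
    (MulAut.conjNormal_apply g y).symm.trans (congrArg Subtype.val hyy)
  have hyM : (y : G) ∈ M := hga ▸ mul_mem (mul_mem haM hgM |> fun _ => mul_mem hgM haM) (inv_mem hgM)
  have hQM : Q ≤ M := by
    intro q hq
    have hzp : ∀ u : Q, u ∈ Subgroup.zpowers a → (u : G) ∈ M := fun u hu => by
      obtain ⟨k, rfl⟩ := Subgroup.mem_zpowers_iff.1 hu
      rw [Subgroup.coe_zpow]
      exact zpow_mem haM k
    rcases hcov ⟨q, hq⟩ with h | h
    · exact hzp _ h
    · have := mul_mem (hzp _ h) hyM
      simpa using this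
  have ha4' : (a : G) ^ 4 = 1 := by rw [← ha4, ← Subgroup.orderOf_coe, pow_orderOf_eq_one]
  have h8 : 8 ∣ Nat.card M := by
    have := Subgroup.card_dvd_of_le hQM
    rwa [Nat.card_congr e.toEquiv, Nat.card_eq_fintype_card, QuaternionGroup.card] at this
  have hgo : orderOf g = 3 := orderOf_eq_prime hg fun h => hgQ (h ▸ one_mem _)
  have h3 : 3 ∣ Nat.card M := hgo ▸ Subgroup.orderOf_dvd_natCard M hgM
  have hcard : 24 ≤ Nat.card M :=
    Nat.le_of_dvd Nat.card_pos (Nat.Coprime.mul_dvd_of_dvd_of_dvd (by decide : Nat.Coprime 8 3) h8 h3)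
  obtain ⟨iso⟩ := CfsgLib.Transfer.nonempty_mulEquiv_sl_two_three (M := M) (a := ⟨a, haM⟩)
    (y := ⟨y, hyM⟩) (g := ⟨g, hgM⟩) (Subtype.ext ha4')
    (Subtype.ext (show (y : G) ^ 2 = (a : G) ^ 2 from congrArg Subtype.val hy2))
    (Subtype.ext (show (y : G) * a * (y : G)⁻¹ = (a : G)⁻¹ from congrArg Subtype.val hya))
    (Subtype.ext hga) (Subtype.ext hgy) (Subtype.ext hg)
    (by
      rw [eq_top_iff]
      rintro ⟨x, hx⟩ -
      induction hx using Subgroup.closure_induction with
      | mem x hx =>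
        refine Subgroup.subset_closure ?_
        rcases hx with rfl | rfl
        · exact Or.inl rfl
        · exact Or.inr rfl
      | one => exact one_mem _
      | mul x y _ _ hx hy => exact mul_mem hx hy
      | inv x _ hx => exact inv_mem hx) hcard
  refine ⟨M, ?_, ⟨iso⟩⟩
  rw [Nat.card_congr iso.toEquiv, Nat.card_eq_fintype_card,
    CfsgLib.Transfer.sl_two_three_facts.2.2.2.2.2.2.2]

/-- Let q be a prime and V a non-trivial finite vector space over the field with q elements, and let G be a finite solvable group acting faithfully and linearly on V and regularly on the non-zero vectors (transitively, with only the identity fixing a non-zero vector). Then either V can be identified with the additive group of a finite field F so that every element of G acts as x ↦ a·σ(x) (a ∈ F, σ a field automorphism), or V has 5^2, 7^2, 11^2 or 23^2 elements. Moreover, if q ≠ 2 then G has a normal subgroup of index 2, except that when V has 25 elements G may be isomorphic to SL(2,3) and when V has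 121 elements G may be isomorphic to SL(2,3) × C₅. -/
theorem result
    (q : ℕ) [Fact q.Prime] {V : Type*} [AddCommGroup V] [Module (ZMod q) V] [Finite V] [Nontrivial V]
    {G : Type*} [Group G] [Finite G] (hsol : Group.IsSolvable G)
    (ρ : G →* (V ≃ₗ[ZMod q] V)) (hρ : Function.Injective ρ)
    (htrans : ∀ v w : V, v ≠ 0 → w ≠ 0 → ∃ g : G, ρ g v = w)
    (hreg : ∀ v : V, v ≠ 0 → ∀ g : G, ρ g v = v → g = 1) :
    ((∃ (F : Type) (_ : Field F) (_ : Fintype F) (e : V ≃+ F),
        ∀ g : G, ∃ (a : F) (σ : F ≃+* F), ∀ v : V, e (ρ g v) = a * σ (e v)) ∨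
      Nat.card V ∈ ({25, 49, 121, 529} : Set ℕ)) ∧
    (q ≠ 2 → (∃ N : Subgroup G, N.Normal ∧ N.index = 2) ∨
      (Nat.card V = 25 ∧ Nonempty (G ≃* Matrix.SpecialLinearGroup (Fin 2) (ZMod 3))) ∨
      (Nat.card V = 121 ∧ Nonempty (G ≃* Matrix.SpecialLinearGroup (Fin 2) (ZMod 3) × Multiplicative (ZMod 5)))) := by
  classical
  haveI := hsol
  letI : DistribMulAction G V := DistribMulAction.compHom V ρ
  have hsm : ∀ (g : G) (v : V), g • v = ρ g v := fun _ _ => rfl
  have hfree : ∀ v : V, v ≠ 0 → ∀ g : G, g • v = v → g = 1 := hreg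
  have htr : ∀ v w : V, v ≠ 0 → w ≠ 0 → ∃ g : G, g • v = w := htrans
  have hq : q.Prime := Fact.out
  obtain ⟨v0, hv0⟩ := exists_ne (0 : V)
  haveI : Fintype V := Fintype.ofFinite V
  have hGcard : Nat.card G = Nat.card V - 1 := by
    have hb : Function.Bijective (fun g : G => (⟨g • v0, fun h => hv0 ((smul_eq_zero_iff_eq g).1 h)⟩ :
        {v : V // v ≠ 0})) := by
      constructor
      · intro g h hgh
        have : g • v0 = h • v0 := congrArg Subtype.val hgh
        refine inv_inv (g : G) ▸ ?_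
        exact (inv_eq_of_mul_eq_one_right (hfree v0 hv0 (g⁻¹ * h) (by rw [mul_smul, ← this, inv_smul_smul])))
      · rintro ⟨w, hw⟩
        obtain ⟨g, hg⟩ := htr v0 w hv0 hw
        exact ⟨g, Subtype.ext hg⟩
    rw [Nat.card_eq_of_bijective _ hb, Nat.card_eq_fintype_card, Nat.card_eq_fintype_card,
      Fintype.card_subtype_compl, Fintype.card_subtype_eq]
  obtain ⟨A, -, hAmax⟩ := exists_maximal_ge_of_wellFoundedGT
    (fun B : Subgroup G => B.Normal ∧ ∀ a ∈ B, ∀ b ∈ B, a * b = b * a) ⊥
    ⟨inferInstance, fun a ha b hb => by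
      rw [Subgroup.mem_bot.1 ha, Subgroup.mem_bot.1 hb]⟩
  obtain ⟨hAn, hAc⟩ := hAmax.prop
  haveI := hAn
  have hmax : ∀ B : Subgroup G, B.Normal → (∀ a ∈ B, ∀ b ∈ B, a * b = b * a) → A ≤ B → B = A :=
    fun B hB hBc hAB => le_antisymm (hAmax.2 ⟨hB, hBc⟩ hAB) hAB
  obtain ⟨F, iF, iFF, φ, σ, ι, hφ, hsemi, hι, hker⟩ :=
    exists_field_of_abelian_normal htr (faithful_of_free hfree) A hAc
  haveI : CharP F q := by
    have hq0 : (q : F) = 0 := by
      by_contra h
      refine hv0 (hφ (q : F) h ?_)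
      rw [map_natCast, map_zero]
      show q • v0 = 0
      rw [← Nat.cast_smul_eq_nsmul (ZMod q), ZMod.natCast_self, zero_smul]
    exact (CharP.charP_iff_prime_eq_zero hq).2 hq0
  obtain ⟨d', -, hFcard⟩ := FiniteField.card F q
  obtain ⟨d, rfl⟩ : ∃ d : ℕ+, d = d' := ⟨d', rfl⟩
  obtain ⟨hcyc, hAut⟩ := isCyclic_ringEquiv_and_card (q := q) (d := (d : ℕ)) hFcard
  letI : Module F V := Module.compHom V φ
  have hsmF : ∀ (f : F) (v : V), f • v = φ f v := fun _ _ => rfl
  obtain ⟨m, hm⟩ : ∃ m, Nat.card V = (q ^ (d : ℕ)) ^ m := by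
    refine ⟨Module.finrank F V, ?_⟩
    rw [Nat.card_eq_fintype_card, Module.card_eq_pow_finrank (K := F), hFcard]
  have hd : 1 ≤ (d : ℕ) := d.pos
  have hQ : 2 ≤ q ^ (d : ℕ) := le_trans hq.two_le (Nat.le_self_pow (by omega) q)
  have hm0 : 1 ≤ m := by
    rcases Nat.eq_zero_or_pos m with rfl | h
    · have := Finite.one_lt_card (α := V)
      rw [hm, pow_zero] at this
      omega
    · exact h
  -- the embedding of `A`
  have hιinj : Function.Injective ι := fun a b h => Subtype.ext (by
    have : ((b : G)⁻¹ * a) • v0 = v0 := by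
      rw [mul_smul, ← hι, h, hι, inv_smul_smul]
    exact (inv_mul_eq_one.1 (hfree v0 hv0 _ this)).symm)
  have hAdvd : Nat.card A ∣ q ^ (d : ℕ) - 1 := by
    have h := Subgroup.card_dvd_of_injective ι.toHomUnits fun a b h => hιinj (congrArg Units.val h)
    rwa [Nat.card_units, Nat.card_eq_fintype_card (α := F), hFcard] at h
  set C := Subgroup.centralizer (A : Set G) with hC
  have hAC : A ≤ C := fun a ha => Subgroup.mem_centralizer_iff.2 fun b hb => hAc b hb a ha
  have hGC : Nat.card G = Nat.card σ.range * Nat.card C := by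
    rw [Subgroup.card_eq_card_quotient_mul_card_subgroup σ.ker,
      Nat.card_congr (QuotientGroup.quotientKerEquivRange σ).toEquiv, hker]
  haveI : Finite (F ≃+* F) := Finite.of_injective _ DFunLike.coe_injective
  have hrange : Nat.card σ.range ∣ (d : ℕ) := hAut ▸ Subgroup.card_subgroup_dvd_card σ.range
  -- the semilinear case
  have hsl : m = 1 → ∃ (F : Type) (_ : Field F) (_ : Fintype F) (e : V ≃+ F),
      ∀ g : G, ∃ (a : F) (σ : F ≃+* F), ∀ v : V, e (ρ g v) = a * σ (e v) := by
    intro hm1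
    let f : F →+ V := ((smulAddHom F V).flip v0)
    have hfinj : Function.Injective f := by
      refine (injective_iff_map_eq_zero f).2 fun x hx => ?_
      by_contra hx0
      exact hv0 (hφ x hx0 (hx.trans (map_zero (φ x)).symm))
    have hfb : Function.Bijective f := (Nat.bijective_iff_injective_and_card _).2
      ⟨hfinj, by rw [hm, hm1, pow_one, Nat.card_eq_fintype_card, hFcard]⟩
    let e : V ≃+ F := (AddEquiv.ofBijective f hfb).symm
    refine ⟨F, iF, iFF, e, fun g => ⟨e (g • v0), σ g, fun v => ?_⟩⟩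
    have hv : ∀ w : V, φ (e w) v0 = w := fun w => (AddEquiv.ofBijective f hfb).apply_symm_apply w
    refine (AddEquiv.ofBijective f hfb).injective ?_
    show f (e (ρ g v)) = φ (e (g • v0) * σ g (e v)) v0
    rw [mul_comm, map_mul]
    show φ (e (ρ g v)) v0 = φ (σ g (e v)) (φ (e (g • v0)) v0)
    rw [hv, hv, ← hsemi, hv, hsm]
  by_cases hCA : C = A
  · have hm1 : m = 1 := by
      by_contra hne
      have hle : Nat.card G ≤ (d : ℕ) * (q ^ (d : ℕ) - 1) := by
        rw [hGC, hCA]
        exact Nat.mul_le_mul (Nat.le_of_dvd hd hrange) (Nat.le_of_dvd (by omega) hAdvd)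
      rw [hGcard, hm] at hle
      have h2 : (q ^ (d : ℕ)) ^ 2 ≤ (q ^ (d : ℕ)) ^ m :=
        Nat.pow_le_pow_right (by omega) (by omega)
      have hdlt : (d : ℕ) < q ^ (d : ℕ) := Nat.lt_pow_self hq.one_lt
      obtain ⟨k, hk⟩ : ∃ k, q ^ (d : ℕ) = k + 1 := ⟨_, (Nat.sub_add_cancel (by omega)).symm⟩
      rw [hk] at h2 hle hdlt hQ
      rw [Nat.add_sub_cancel] at hle
      have h3 : (k + 1) ^ 2 ≤ (d : ℕ) * k + 1 := by omega
      nlinarith
    refine ⟨Or.inl (hsl hm1), fun hq2 => Or.inl ?_⟩
    by_cases heven : 2 ∣ Nat.card σ.range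
    · exact exists_index_two_of_cyclic σ heven
    haveI : Fact (Nat.Prime 2) := ⟨Nat.prime_two⟩
    obtain ⟨P⟩ : Nonempty (Sylow 2 G) := inferInstance
    have hPA : (P : Subgroup G) ≤ A := by
      intro x hx
      rw [← hCA, ← hker, MonoidHom.mem_ker, ← orderOf_eq_one_iff]
      obtain ⟨k, hk⟩ := P.isPGroup' ⟨x, hx⟩
      have hk' : orderOf (σ x) ∣ 2 ^ k := orderOf_dvd_of_pow_eq_one (by
        rw [← map_pow]; exact (congrArg σ (congrArg Subtype.val hk)).trans (map_one σ))
      obtain ⟨j, -, hj⟩ := (Nat.dvd_prime_pow Nat.prime_two).1 hk'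
      rcases Nat.eq_zero_or_pos j with rfl | hjpos
      · exact hj
      · refine absurd (dvd_trans (hj ▸ dvd_pow_self 2 hjpos.ne') ?_) heven
        exact Subgroup.orderOf_dvd_natCard _ (MonoidHom.mem_range.2 ⟨x, rfl⟩)
    haveI : IsCyclic A := isCyclic_of_free hfree A hAc
    haveI hPc : IsCyclic (P : Subgroup G) :=
      isCyclic_of_injective (Subgroup.inclusion hPA) (Subgroup.inclusion_injective hPA)
    have hGeven : 2 ∣ Nat.card G := by
      rw [hGcard, hm, hm1, pow_one]
      have hodd : Odd (q ^ (d : ℕ)) := (hq.odd_of_ne_two hq2).pow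
      obtain ⟨k, hk⟩ := hodd
      exact ⟨k, by omega⟩
    have hmin : (Nat.card G).minFac = 2 := (Nat.minFac_eq_two_iff _).2 hGeven
    have hN := IsCyclic.normalizer_le_centralizer hmin hPc
    haveI : IsCyclic (P : Subgroup G) := hPc
    refine exists_index_two_of_cyclic (MonoidHom.transferSylow P hN) ?_
    have hc := MonoidHom.ker_transferSylow_isComplement' P hN
    have h1 := hc.symm.index_eq_card
    rw [Subgroup.index_ker] at h1
    rw [h1, Sylow.card_eq_multiplicity]
    exact dvd_pow_self 2 (Nat.Prime.factorization_pos_of_dvd Nat.prime_two Nat.card_pos.ne' hGeven).ne'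
  · -- the quaternion case
    obtain ⟨Q, t, hQn, ⟨eQ⟩, hQC, hCQ, h2A, hCcard⟩ := exists_perm_three hfree A hAc hmax hCA
    have hr6 : Nat.card (C.map t) ∣ 6 := by
      have h := Subgroup.card_subgroup_dvd_card (C.map t)
      rwa [Nat.card_perm, Nat.card_fin] at h
    have hqodd : q ≠ 2 := by
      intro h2
      have h4 : 2 ∣ Nat.card G := dvd_trans (dvd_trans h2A
        (Subgroup.card_dvd_of_le hAC)) (Subgroup.card_subgroup_dvd_card C)
      rw [hGcard, hm, h2] at h4
      have : 2 ∣ (2 ^ (d : ℕ)) ^ m := dvd_pow (dvd_pow_self 2 (by omega)) (by omega)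
      have := Nat.one_le_pow m (2 ^ (d : ℕ)) (Nat.two_pow_pos _)
      omega
    have hm2 : 2 ≤ m := by
      by_contra h
      have hm1 : m = 1 := by omega
      have hb : Function.Bijective (fun f : F => φ f v0) :=
        (Nat.bijective_iff_injective_and_card _).2 ⟨fun x y h => by
          by_contra hne
          refine hv0 (hφ (x - y) (sub_ne_zero.2 hne) ?_)
          rw [map_zero, map_sub]
          exact sub_eq_zero.2 h, by rw [hm, hm1, pow_one, Nat.card_eq_fintype_card, hFcard]⟩
      refine hCA (hmax C Subgroup.normal_centralizer (fun g hg h hh => ?_) hAC)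
      obtain ⟨fg, hfg⟩ := hb.2 (g • v0)
      obtain ⟨fh, hfh⟩ := hb.2 (h • v0)
      simp only at hfg hfh
      have hσ1 : ∀ x ∈ C, σ x = 1 := fun x hx => by rwa [← hker] at hx
      refine eq_of_mul_inv_eq_one (faithful_of_free hfree _ fun v => ?_)
      have key : (g * h) • v0 = (h * g) • v0 := by
        rw [mul_smul, mul_smul, ← hfh, hsemi, hσ1 g hg, show (1 : F ≃+* F) fh = fh from rfl, ← hfg, hsemi,
          hσ1 h hh, show (1 : F ≃+* F) fg = fg from rfl, ← hfh]
        show (φ fh * φ fg) v0 = (φ fg * φ fh) v0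
        rw [← map_mul, ← map_mul, mul_comm]
      have : g * h = h * g := by
        have := hfree v0 hv0 ((h * g)⁻¹ * (g * h)) (by rw [mul_smul, key, inv_smul_smul])
        exact (inv_mul_eq_one.1 this).symm
      rw [this, mul_inv_cancel, one_smul]
    have hN : (q ^ (d : ℕ)) ^ m - 1 =
        (Nat.card σ.range * Nat.card (C.map t)) * (4 * Nat.card A) := by
      rw [← hm, ← hGcard, hGC, hCcard]; ring
    obtain ⟨hm2', hd1, hq5⟩ := card_arith hq hqodd hd hm2
      (mul_comm (d : ℕ) 6 ▸ mul_dvd_mul hrange hr6) hAdvd hN rfl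
    have hVq : Nat.card V = q ^ 2 := by rw [hm, hd1, hm2', pow_one]
    have hrange1 : Nat.card σ.range = 1 := Nat.dvd_one.1 (hd1 ▸ hrange)
    have hCtop : C = ⊤ := Subgroup.eq_top_of_card_eq C (by rw [hGC, hrange1, one_mul])
    have hq2 : q ^ 2 - 1 = 4 * Nat.card A * Nat.card (C.map t) := by
      rw [← hVq, ← hGcard, hGC, hrange1, one_mul, hCcard]
    have hAq : Nat.card A ∣ q - 1 := by rwa [hd1, pow_one] at hAdvd
    have hno3 : q ≠ 3 := by
      rintro rfl
      have hA2 : Nat.card A = 2 :=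
        Nat.dvd_antisymm hAq h2A
      have hG8 : Nat.card G = 8 := by rw [hGcard, hVq]; norm_num
      have hQtop : Q = ⊤ := Subgroup.eq_top_of_card_eq Q (by
        rw [hG8, Nat.card_congr eQ.toEquiv, Nat.card_eq_fintype_card, QuaternionGroup.card])
      let x : G := (eQ.symm (QuaternionGroup.a 1) : G)
      let B : Subgroup G := A ⊔ Subgroup.zpowers x
      have hxC : x ∈ C := hQC (eQ.symm _).2
      have hBc : ∀ a ∈ B, ∀ b ∈ B, a * b = b * a := by
        have hle : B ≤ Subgroup.closure ((A : Set G) ∪ {x}) :=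
          sup_le (fun a ha => Subgroup.subset_closure (Or.inl ha))
            (by rw [Subgroup.zpowers_le]; exact Subgroup.subset_closure (Or.inr rfl))
        haveI : IsMulCommutative (Subgroup.closure ((A : Set G) ∪ {x})) :=
          Subgroup.isMulCommutative_closure (by
            rintro a (ha | rfl) b (hb | rfl)
            · exact hAc a ha b hb
            · exact Subgroup.mem_centralizer_iff.1 hxC a ha
            · exact (Subgroup.mem_centralizer_iff.1 hxC b hb).symm
            · rfl)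
        intro a ha b hb
        exact congrArg Subtype.val
          (mul_comm' (⟨a, hle ha⟩ : Subgroup.closure ((A : Set G) ∪ {x})) ⟨b, hle hb⟩)
      have hx4 : orderOf x = 4 := by
        rw [show x = ((eQ.symm (QuaternionGroup.a 1) : Q) : G) from rfl, Subgroup.orderOf_coe,
          MulEquiv.orderOf_eq, QuaternionGroup.orderOf_a_one]
      have h4B : 4 ∣ Nat.card B :=
        hx4 ▸ Subgroup.orderOf_dvd_natCard B (Subgroup.mem_sup_right (Subgroup.mem_zpowers x))
      by_cases hB : B.index = 2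
      · have := hmax B (Subgroup.normal_of_index_eq_two hB) hBc le_sup_left
        rw [this, hA2] at h4B
        omega
      · have hmul := Subgroup.card_mul_index B
        rw [hG8] at hmul
        have hidx : B.index = 1 := by
          obtain ⟨k, hk⟩ := h4B
          rw [hk] at hmul
          have : k * B.index = 2 := by linarith
          rcases (Nat.dvd_prime Nat.prime_two).1 (Dvd.intro_left k this) with h | h
          · exact h
          · exact absurd h hB
        have hBtop := Subgroup.index_eq_one.1 hidx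
        refine hCA (hmax C Subgroup.normal_centralizer (fun a _ b _ => ?_) hAC)
        exact hBc a (hBtop ▸ Subgroup.mem_top a) b (hBtop ▸ Subgroup.mem_top b)
    refine ⟨Or.inr ?_, fun _ => ?_⟩
    · rw [hVq]
      rcases hq5 with rfl | rfl | rfl | rfl | rfl
      · exact absurd rfl hno3
      all_goals norm_num
    rcases exceptional_arith hq5 hq2 hAq h2A hr6 with ⟨rfl, -⟩ | hev | hex
    · exact absurd rfl hno3
    · left
      refine exists_index_two_of_sign t ?_
      rwa [hCtop, ← MonoidHom.range_eq_map] at hev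
    · right
      have hAgt : ∀ x : G, orderOf x = 3 → x ∉ Subgroup.centralizer (Q : Set G) := by
        intro x hx hxQ
        have hxA : x ∈ A := by rw [← hCQ]; exact ⟨show x ∈ C by rw [hCtop]; exact Subgroup.mem_top x, hxQ⟩
        have h := Subgroup.orderOf_dvd_natCard A hxA
        rw [hx] at h
        rcases hex with ⟨-, ha, -⟩ | ⟨-, ha, -⟩ <;> rw [ha] at h <;> norm_num at h
      haveI : Fact (Nat.Prime 3) := ⟨Nat.prime_three⟩
      have hG : Nat.card G = 4 * Nat.card A * 3 := by
        rw [hGcard, hVq, hq2]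
        rcases hex with ⟨-, -, hr⟩ | ⟨-, -, hr⟩ <;> rw [hr]
      obtain ⟨g, hg⟩ := exists_prime_orderOf_dvd_card' (G := G) 3 (hG ▸ dvd_mul_left 3 _)
      haveI := hQn
      obtain ⟨M, hM, ⟨iso⟩⟩ := exists_mulEquiv_sl Q eQ g
        (by rw [← hg, pow_orderOf_eq_one]) (hAgt g hg)
      rcases hex with ⟨rfl, ha, -⟩ | ⟨rfl, ha, -⟩
      · left
        refine ⟨by rw [hVq]; norm_num, ⟨?_⟩⟩
        have hMtop : M = ⊤ := Subgroup.eq_top_of_card_eq M (by rw [hM, hG, ha])
        exact ((MulEquiv.subgroupCongr hMtop).trans Subgroup.topEquiv).symm.trans iso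
      · right
        haveI : Fact (Nat.Prime 5) := ⟨Nat.prime_five⟩
        obtain ⟨c, hc⟩ := exists_prime_orderOf_dvd_card' (G := A) 5 (by rw [ha]; norm_num)
        refine ⟨by rw [hVq]; norm_num, ⟨?_⟩⟩
        rw [← Subgroup.orderOf_coe] at hc
        have hcc : ∀ x : G, x * (c : G) = c * x := fun x =>
          (Subgroup.mem_centralizer_iff.1 (show x ∈ C by rw [hCtop]; exact Subgroup.mem_top x) c c.2).symm
        let P5 : Subgroup G := Subgroup.zpowers (c : G)
        have hP5 : Nat.card P5 = 5 := by rw [Nat.card_zpowers, hc]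
        let f : M × P5 →* G :=
          { toFun := fun x => (x.1 : G) * x.2
            map_one' := by simp
            map_mul' := fun x y => by
              obtain ⟨k, hk⟩ := Subgroup.mem_zpowers_iff.1 x.2.2
              have hcm : (y.1 : G) * x.2 = x.2 * y.1 := by
                rw [← hk]; exact (show Commute (y.1 : G) c from hcc _).zpow_right k
              simp only [Prod.fst_mul, Prod.snd_mul, Subgroup.coe_mul]
              rw [mul_assoc, ← mul_assoc (y.1 : G), hcm]
              group }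
        have hfi : Function.Injective f := by
          rw [injective_iff_map_eq_one]
          rintro ⟨u, w⟩ h
          have hco : Nat.Coprime (Nat.card M) (Nat.card P5) := by rw [hM, hP5]; decide
          have hinf := (Subgroup.disjoint_of_coprime_natCard hco).eq_bot
          have h' : (u : G) = ((w : G))⁻¹ := eq_inv_of_mul_eq_one_left h
          have hu1 : (u : G) ∈ M ⊓ P5 := ⟨u.2, (show (u : G) ∈ P5 by rw [h']; exact inv_mem w.2)⟩
          rw [hinf, Subgroup.mem_bot] at hu1
          rw [hu1] at h'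
          exact Prod.ext (Subtype.ext hu1) (Subtype.ext (inv_eq_one.1 h'.symm))
        have hfb : Function.Bijective f := (Nat.bijective_iff_injective_and_card _).2
          ⟨hfi, by rw [Nat.card_prod, hM, hP5, hG, ha]⟩
        refine (MulEquiv.ofBijective f hfb).symm.trans (MulEquiv.prodCongr iso ?_)
        haveI : IsCyclic P5 := isCyclic_of_prime_card hP5
        exact mulEquivOfPrimeCardEq (p := 5) hP5 (by simp [Nat.card_eq_fintype_card])

end Cfsg.Agent.S3361
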