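import Cfsg.Statements.S0688
import Cfsg.Agent.S3361
import Cfsg.Agent.Lib.Perm.RegularLinearNormal

set_option autoImplicit false
open Cfsg

namespace Cfsg.Agent.S0688

theorem sq_lt_two_pow : ∀ d : ℕ, (d - 1) * (d - 1) < 2 ^ d := by
  intro d
  rcases Nat.lt_or_ge d 4 with h | h
  · interval_cases d <;> norm_num
  induction d, h using Nat.le_induction with
  | base => norm_num
  | succ d hd ih =>
    obtain ⟨e, rfl⟩ : ∃ e, d = e + 1 := ⟨d - 1, by omega⟩
    simp only [Nat.add_sub_cancel] at ih ⊢
    rw [pow_succ]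
    nlinarith

theorem arith {Q s d : ℕ} (hQ : 2 ^ d ≤ Q) (hs : 2 ≤ s) (hsq : s * s ≤ Q)
    (h : Q - 1 ≤ d * (s - 1)) : False := by
  obtain ⟨u, rfl⟩ : ∃ u, s = u + 1 := ⟨s - 1, by omega⟩
  rw [Nat.add_sub_cancel] at h
  have h1 := sq_lt_two_pow d
  have h2 : u * (u + 2) ≤ u * d := by nlinarith [Nat.sub_add_cancel (show 1 ≤ Q by nlinarith)]
  have h3 : u + 2 ≤ d := Nat.le_of_mul_le_mul_left h2 (by omega)
  have hQ' := Nat.sub_add_cancel (show 1 ≤ Q by nlinarith)
  obtain ⟨e, rfl⟩ : ∃ e, d = e + 1 := ⟨d - 1, by omega⟩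
  rw [Nat.add_sub_cancel] at h1
  nlinarith

/-- Degrees of the soluble exceptional sharply doubly transitive groups: if a solvable linear group over the prime field is regular on the non-zero vectors of `V` and has no irreducible cyclic normal subgroup, then `V` has 25, 49, 121 or 529 elements. -/
theorem result {p : ℕ} [Fact p.Prime] {V : Type*} [AddCommGroup V] [Module (ZMod p) V] [Finite V] (H : Subgroup (V ≃ₗ[ZMod p] V)) (hreg : ∀ v w : V, v ≠ 0 → w ≠ 0 → ∃! h : H, (h : V ≃ₗ[ZMod p] V) v = w) (hI : ∀ A : Subgroup H, A.Normal → IsCyclic A → ∃ W : Submodule (ZMod p) V, W ≠ ⊥ ∧ W ≠ ⊤ ∧ ∀ a ∈ A, ∀ v ∈ W, ((a : H) : V ≃ₗ[ZMod p] V) v ∈ W) (hsolv : Group.IsSolvable H) : Nat.card V = 25 ∨ Nat.card V = 49 ∨ Nat.card V = 121 ∨ Nat.card V = 529 := by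
  classical
  haveI := CfsgLib.Perm.RegularLinear.finite hreg
  haveI := CfsgLib.Perm.RegularLinear.nontrivial_of_reducible hI
  have hp : p.Prime := Fact.out
  obtain ⟨h1, -⟩ := Cfsg.Agent.S3361.result p (G := H) hsolv H.subtype H.subtype_injective
    (fun v w hv hw => (hreg v w hv hw).exists)
    (fun v hv g hg => CfsgLib.Perm.RegularLinear.free hreg v hv g hg)
  rcases h1 with ⟨F, iF, iFF, e, hsl⟩ | h
  swap
  · simpa using h
  exfalso
  choose a σ haσ using hsl
  replace haσ : ∀ (g : H) (v : V), e ((g : V ≃ₗ[ZMod p] V) v) = a g * σ g (e v) := haσ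
  have ha : ∀ g, a g ≠ 0 := fun g h => by
    have h1 := haσ g (e.symm 1)
    rw [h, zero_mul, AddEquiv.map_eq_zero_iff, LinearEquiv.map_eq_zero_iff,
      AddEquiv.map_eq_zero_iff] at h1
    exact one_ne_zero h1
  have haeq : ∀ g : H, a g = e ((g : V ≃ₗ[ZMod p] V) (e.symm 1)) := fun g => by
    rw [haσ, AddEquiv.apply_symm_apply, map_one, mul_one]
  have hmul : ∀ g h : H, a (g * h) = a g * σ g (a h) := fun g h => by
    rw [haeq (g * h), haeq h]
    exact haσ g _
  have hσmul : ∀ g h : H, σ (g * h) = σ g * σ h := fun g h => by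
    refine RingEquiv.ext fun x => mul_left_cancel₀ (ha (g * h)) ?_
    have h1 : a (g * h) * σ (g * h) x = a g * σ g (a h * σ h x) := by
      rw [← e.apply_symm_apply x, ← haσ, ← haσ, ← haσ]
      rfl
    rw [h1, map_mul, hmul, mul_assoc]
    rfl
  let χ : H →* (F ≃+* F) := MonoidHom.mk' σ hσmul
  set K := χ.ker
  -- the scalars form a cyclic normal subgroup
  let μ : K →* F :=
    { toFun := fun g => a g.1
      map_one' := by rw [haeq]; simp
      map_mul' := fun g h => by
        show a (g.1 * h.1) = _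
        rw [hmul, show σ g.1 = 1 from g.2]
        rfl }
  have hμ : ∀ (g : K) (v : V), e (((g : H) : V ≃ₗ[ZMod p] V) v) = μ g * e v := fun g v => by
    rw [haσ, show σ g.1 = 1 from g.2]
    rfl
  have hinj : Function.Injective μ := fun g h hgh => Subtype.ext (Subtype.ext (LinearEquiv.ext fun v =>
    e.injective (by rw [hμ, hμ, hgh])))
  haveI : IsCyclic K := isCyclic_of_subgroup_isDomain μ hinj
  obtain ⟨W, hW0, hW1, hWinv⟩ := hI K inferInstance inferInstance
  let S : Subring F :=
    { carrier := {x | ∀ w ∈ W, e.symm (x * e w) ∈ W}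
      one_mem' := fun w hw => by rw [one_mul, AddEquiv.symm_apply_apply]; exact hw
      zero_mem' := fun w _ => by rw [zero_mul, map_zero]; exact zero_mem W
      add_mem' := fun hx hy w hw => by rw [add_mul, map_add]; exact add_mem (hx w hw) (hy w hw)
      neg_mem' := fun hx w hw => by rw [neg_mul, map_neg]; exact neg_mem (hx w hw)
      mul_mem' := fun {x y} hx hy w hw => by
        have := hx _ (hy w hw)
        rwa [AddEquiv.apply_symm_apply, ← mul_assoc] at this }
  haveI : IsDomain S := inferInstance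
  letI : Field S := (Finite.isDomain_to_isField S).toField
  haveI : Fintype S := Fintype.ofFinite S
  have hμS : ∀ g : K, μ g ∈ S := fun g w hw => by
    rw [← hμ, AddEquiv.symm_apply_apply]
    exact hWinv g.1 g.2 w hw
  have hKS : Nat.card K + 1 ≤ Nat.card S := by
    let f : Option K → S := fun o => o.elim 0 fun g => ⟨μ g, hμS g⟩
    have hf : Function.Injective f := by
      rintro (_ | g) (_ | h) hgh
      · rfl
      · exact absurd (congrArg Subtype.val hgh).symm (ha h.1)
      · exact absurd (congrArg Subtype.val hgh) (ha g.1)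
      · exact congrArg some (hinj (congrArg Subtype.val hgh))
    have := Nat.card_le_card_of_injective f hf
    rwa [Finite.card_option] at this
  have hSne : S ≠ ⊤ := by
    intro htop
    obtain ⟨w, hw, hw0⟩ := Submodule.exists_mem_ne_zero_of_ne_bot hW0
    refine hW1 (eq_top_iff.2 fun v _ => ?_)
    have he0 : e w ≠ 0 := fun h => hw0 (e.map_eq_zero_iff.1 h)
    have := (htop ▸ Subring.mem_top (e v / e w) : e v / e w ∈ S) w hw
    rwa [div_mul_cancel₀ _ he0, AddEquiv.symm_apply_apply] at this
  -- the sizes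
  obtain ⟨n, hn, hVn⟩ := CfsgLib.Perm.RegularLinear.exists_card_eq_pow hreg
  have hFn : Fintype.card F = p ^ n := by
    rw [← hVn, ← Nat.card_eq_fintype_card, Nat.card_congr e.toEquiv]
  haveI : CharP F p := charP_of_card_eq_prime_pow hFn
  have hAut : Nat.card (F ≃+* F) = n := (CfsgLib.Semilinear.isCyclic_ringEquiv_and_card hFn).2
  have hH : Nat.card H ≤ Nat.card K * n := by
    rw [← K.card_mul_index, show K.index = Nat.card χ.range from Subgroup.index_ker χ]
    exact Nat.mul_le_mul_left _ (hAut ▸ Nat.le_of_dvd (hAut ▸ hn) (Subgroup.card_subgroup_dvd_card χ.range))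
  have hS2 : Nat.card S * Nat.card S ≤ p ^ n := by
    rw [← hFn, ← Nat.card_eq_fintype_card, Module.natCard_eq_pow_finrank (K := S) (V := F), ← pow_two]
    refine Nat.pow_le_pow_right Nat.card_pos ?_
    by_contra hlt
    apply hSne
    haveI : Module.Finite S F := Module.Finite.of_finite
    have h1 : Module.finrank S F = 1 := by
      have := Module.finrank_pos (R := S) (M := F)
      omega
    refine eq_top_iff.2 fun x _ => ?_
    have hc : Nat.card F = Nat.card S := by
      rw [Module.natCard_eq_pow_finrank (K := S) (V := F), h1, pow_one]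
    have hb : Function.Bijective (Subtype.val : S → F) :=
      (Nat.bijective_iff_injective_and_card _).2 ⟨Subtype.val_injective, hc.symm⟩
    obtain ⟨y, rfl⟩ := hb.2 x
    exact y.2
  have hHV := CfsgLib.Perm.RegularLinear.natCard_add_one hreg
  refine arith (Q := p ^ n) (s := Nat.card S) (d := n) (Nat.pow_le_pow_left hp.two_le n)
    Finite.one_lt_card hS2 ?_
  calc p ^ n - 1 = Nat.card H := by omega
    _ ≤ Nat.card K * n := hH
    _ ≤ n * (Nat.card S - 1) := by rw [mul_comm]; exact Nat.mul_le_mul_left _ (by omega)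

end Cfsg.Agent.S0688
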