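import Cfsg.Statements.S0689
import Cfsg.Agent.Lib.Perm.RegularLinear
import Cfsg.Agent.Lib.Perm.RegularArith
import Cfsg.Agent.Lib.Zassenhaus.Nonsolvable

set_option autoImplicit false
open Cfsg

namespace Cfsg.Agent.S0689

open CfsgLib.Zassenhaus in
theorem center_part {G : Type*} [Group G] [Finite G] (hG : HasFpf G) {E M : Subgroup G}
    (D : NSData G E M) :
    ∃ A : Subgroup G, A.Normal ∧ IsMulCommutative A ∧ A ≤ Subgroup.centralizer (E : Set G) ∧
      Subgroup.centralizer (E : Set G) ⊓ Subgroup.centralizer (A : Set G) = A := by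
  haveI := D.normalE
  haveI : Fact (Nat.Prime 2) := ⟨Nat.prime_two⟩
  set C := Subgroup.centralizer (E : Set G)
  have hodd : ¬ 2 ∣ Nat.card M := fun h => by
    have := Nat.not_coprime_of_dvd_of_dvd one_lt_two h (show 2 ∣ 30 by norm_num)
    exact this D.coprime
  have hsmall : IsSmall C := by
    intro P hP hP2
    obtain ⟨k, hk⟩ := IsPGroup.iff_card.1 hP2
    have hd : Nat.card P ∣ 2 * Nat.card M := D.card_centralizer ▸ Subgroup.card_dvd_of_le hP
    rw [hk] at hd
    rcases k with _ | _ | k
    · rw [pow_zero] at hk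
      haveI : Subsingleton P := (Nat.card_eq_one_iff_unique.1 hk).1
      infer_instance
    · exact isCyclic_of_prime_card (p := 2) (by simpa using hk)
    · exfalso
      have h4 : 2 * 2 ∣ 2 * Nat.card M := dvd_trans ⟨2 ^ k, by ring⟩ hd
      exact hodd ((Nat.mul_dvd_mul_iff_left two_pos).1 h4)
  haveI := hG.isZGroup hsmall
  haveI : IsCyclic (commutator C) := IsZGroup.isCyclic_commutator C
  set K : Subgroup G := ⁅C, C⁆ with hK
  have hKC : K ≤ C := Subgroup.commutator_le_self C
  have hKmap : K = (commutator C).map C.subtype := by rw [Subgroup.map_subtype_commutator]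
  have hKcomm : ∀ x ∈ K, ∀ y ∈ K, y * x = x * y := by
    rw [hKmap]
    rintro _ ⟨x, hx, rfl⟩ _ ⟨y, hy, rfl⟩
    letI := IsCyclic.commGroup (α := commutator C)
    exact (congrArg (fun t : commutator C => ((t : C) : G)) (mul_comm (⟨x, hx⟩ : commutator C) ⟨y, hy⟩)).symm
  have hKA : K ≤ C ⊓ Subgroup.centralizer (K : Set G) :=
    le_inf hKC fun x hx => Subgroup.mem_centralizer_iff.2 fun y hy => hKcomm x hx y hy
  have hAc : IsMulCommutative (C ⊓ Subgroup.centralizer (K : Set G) : Subgroup G) := by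
    let f : (C ⊓ Subgroup.centralizer (K : Set G) : Subgroup G) →* Abelianization C :=
      Abelianization.of.comp (Subgroup.inclusion inf_le_left)
    refine ⟨⟨fun a b => commutative_of_cyclic_center_quotient f (fun x hx => ?_) a b⟩⟩
    rw [MonoidHom.mem_ker] at hx
    have hxK : (x : G) ∈ K := hKmap.ge ⟨Subgroup.inclusion inf_le_left x,
      by rw [← Abelianization.ker_of]; exact hx, rfl⟩
    refine Subgroup.mem_center_iff.2 fun y => Subtype.ext ?_
    exact (Subgroup.mem_centralizer_iff.1 y.2.2 x hxK).symm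
  refine ⟨C ⊓ Subgroup.centralizer (K : Set G), inferInstance, hAc, inf_le_left, le_antisymm ?_ ?_⟩
  · intro x hx
    exact ⟨hx.1, Subgroup.mem_centralizer_iff.2 fun y hy =>
      Subgroup.mem_centralizer_iff.1 hx.2 y (hKA hy)⟩
  · haveI := hAc
    exact le_inf inf_le_left fun x hx => Subgroup.mem_centralizer_iff.2 fun y hy => setLike_mul_comm hy hx

/-- The insoluble sharply doubly transitive groups: a non-solvable linear group over the prime field that is regular on the non-zero vectors of `V` occurs only for `|V| = 11², 29², 59²`, and is `SL(2,5) × C_m` with `m = 1, 7, 29` respectively. -/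
theorem result {p : ℕ} [Fact p.Prime] {V : Type*} [AddCommGroup V] [Module (ZMod p) V] [Finite V] (H : Subgroup (V ≃ₗ[ZMod p] V)) (hreg : ∀ v w : V, v ≠ 0 → w ≠ 0 → ∃! h : H, (h : V ≃ₗ[ZMod p] V) v = w) (hsolv : ¬ Group.IsSolvable H) : (Nat.card V = 121 ∧ Nonempty (H ≃* Matrix.SpecialLinearGroup (Fin 2) (ZMod 5))) ∨ (Nat.card V = 841 ∧ Nonempty (H ≃* Matrix.SpecialLinearGroup (Fin 2) (ZMod 5) × Multiplicative (ZMod 7))) ∨ (Nat.card V = 3481 ∧ Nonempty (H ≃* Matrix.SpecialLinearGroup (Fin 2) (ZMod 5) × Multiplicative (ZMod 29))) := by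
  haveI := CfsgLib.Perm.RegularLinear.finite hreg
  haveI : Nontrivial V := by
    by_contra hV
    rw [not_nontrivial_iff_subsingleton] at hV
    haveI : Subsingleton H := ⟨fun a b => Subtype.ext (LinearEquiv.ext fun v => Subsingleton.elim _ _)⟩
    exact hsolv inferInstance
  have hG := CfsgLib.Perm.RegularLinear.hasFpf hreg
  obtain ⟨E, M, D⟩ := hG.exists_nsData hsolv
  haveI := D.normalE
  haveI := D.normalM
  obtain ⟨A, hAn, hAc, hAC, hCA⟩ := center_part hG D
  haveI := hAn
  obtain ⟨k, l, hk, hl, hV, hAdvd, hidx, hl1, -, -⟩ :=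
    CfsgLib.Perm.RegularLinear.field_data hreg A hAc
  obtain ⟨e⟩ := D.equiv
  set C := Subgroup.centralizer (E : Set H) with hC
  set CA := Subgroup.centralizer (A : Set H) with hCA'
  have hEA : E ≤ CA := fun x hx => Subgroup.mem_centralizer_iff.2 fun y hy =>
    (Subgroup.mem_centralizer_iff.1 (hAC hy) x hx).symm
  have hE120 : Nat.card E = 120 := (Nat.card_congr e.toEquiv).trans CfsgLib.Zassenhaus.card_SL25
  have hl2 : 2 ≤ l := by
    by_contra h
    have hcomm := hl1 (by omega)
    have h1 : ⁅E, E⁆ = ⊥ := by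
      rw [Subgroup.commutator_eq_bot_iff_le_centralizer]
      exact fun x hx => Subgroup.mem_centralizer_iff.2 fun y hy => hcomm y (hEA hy) x (hEA hx)
    rw [D.perfect] at h1
    rw [h1, Subgroup.card_bot] at hE120
    omega
  obtain ⟨f, hker, hrange⟩ := D.action
  have hCidx : C.index = Nat.card f.range := by rw [hC, ← hker, Subgroup.index_ker]
  have h60 : 60 ∣ Nat.card f.range := by
    have := Subgroup.card_dvd_of_le hrange
    rwa [show Nat.card (alternatingGroup (Fin 5)) = 60 by
      rw [Nat.card_eq_fintype_card]; decide +kernel] at this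
  have h120 : Nat.card f.range ∣ 120 := by
    have := f.range.card_subgroup_dvd_card
    rwa [show Nat.card (Equiv.Perm (Fin 5)) = 120 by
      rw [Nat.card_perm, Nat.card_eq_fintype_card, Fintype.card_fin]; rfl] at this
  have hdvd : Nat.card H ∣ 120 * k * (p ^ k - 1) := by
    have h1 : Nat.card CA ∣ 120 * (p ^ k - 1) := by
      rw [← Subgroup.card_mul_index (A.subgroupOf CA), mul_comm 120,
        Nat.card_congr (Subgroup.subgroupOfEquivOfLe
          (fun x hx => (hCA.ge hx).2 : A ≤ CA)).toEquiv]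
      refine mul_dvd_mul hAdvd ?_
      show A.relIndex CA ∣ 120
      rw [← hCA, Subgroup.inf_relIndex_right]
      exact (Subgroup.relIndex_dvd_index_of_normal C CA).trans (hCidx ▸ h120)
    rw [← Subgroup.card_mul_index CA, show 120 * k * (p ^ k - 1) = 120 * (p ^ k - 1) * k by ring]
    exact mul_dvd_mul h1 hidx
  have hH : Nat.card H = Nat.card f.range * (2 * Nat.card M) := by
    rw [← D.card_centralizer, ← hC, ← hCidx, Subgroup.index_mul_card]
  have hp7 : 7 ≤ p := by
    have hp : p.Prime := Fact.out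
    have hnd : ¬ p ∣ 60 := fun h => CfsgLib.Perm.RegularLinear.not_dvd_card hreg
      (hH ▸ dvd_mul_of_dvd_left (h.trans h60) _)
    by_contra h
    have h2 := hp.two_le
    have : p < 7 := by omega
    interval_cases p <;> first | exact hnd (by norm_num) | exact absurd hp (by norm_num)
  have hcV := CfsgLib.Perm.RegularLinear.natCard_add_one hreg
  have hHV : Nat.card H = (p ^ k) ^ l - 1 := by omega
  rw [hHV] at hdvd
  obtain ⟨rfl, rfl, hp120⟩ := CfsgLib.Perm.RegularLinear.arith_sl25 Fact.out hp7 hk hl2 hdvd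
  rw [pow_one] at hV hHV
  have hcases : p = 7 ∨ p = 11 ∨ p = 19 ∨ p = 23 ∨ p = 29 ∨ p = 59 := by
    have hp : p.Prime := Fact.out
    have hmem : p + 1 ∈ Nat.divisors 120 := Nat.mem_divisors.2 ⟨hp120, by norm_num⟩
    rw [show Nat.divisors 120 = {1, 2, 3, 4, 5, 6, 8, 10, 12, 15, 20, 24, 30, 40, 60, 120} by
      decide +kernel] at hmem
    simp only [Finset.mem_insert, Finset.mem_singleton] at hmem
    rcases hmem with h | h | h | h | h | h | h | h | h | h | h | h | h | h | h | h <;>
      first | omega | (obtain rfl := Nat.eq_sub_of_add_eq h; norm_num at hp)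
  have hr : Nat.card f.range = 60 ∨ Nat.card f.range = 120 := by
    obtain ⟨j, hj⟩ := h60
    have h2 : j ∣ 2 := Nat.dvd_of_mul_dvd_mul_left (by norm_num : 0 < 60) (by rw [← hj]; exact h120)
    rcases (Nat.dvd_prime Nat.prime_two).1 h2 with rfl | rfl <;> omega
  have hm3 : Nat.card M ≠ 3 := fun h => by
    have := D.coprime
    rw [h] at this
    norm_num at this
  -- the direct product
  let g : E × M →* H := MonoidHom.noncommCoprod E.subtype M.subtype
    fun x y => Subgroup.mem_centralizer_iff.1 (D.le y.2) x x.2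
  have hginj : Function.Injective g := by
    rw [injective_iff_map_eq_one]
    rintro ⟨x, y⟩ h
    have h' : (x : H) * y = 1 := h
    have hx : (x : H) ∈ E ⊓ M := ⟨x.2, by rw [eq_inv_of_mul_eq_one_left h']; exact M.inv_mem y.2⟩
    rw [D.inf, Subgroup.mem_bot] at hx
    rw [hx, one_mul] at h'
    exact Prod.ext (Subtype.ext hx) (Subtype.ext h')
  have hiso : Nat.card f.range = 60 → Nonempty (E × M ≃* H) := fun h => ⟨MulEquiv.ofBijective g
    ((Nat.bijective_iff_injective_and_card _).2 ⟨hginj, by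
      rw [Nat.card_prod, hE120, hH, h]; ring⟩)⟩
  rcases hcases with rfl | rfl | rfl | rfl | rfl | rfl <;> norm_num at hV hHV <;>
    rw [hHV] at hH <;> rcases hr with hr | hr <;> rw [hr] at hH
  all_goals (try omega)
  · left
    obtain ⟨φ⟩ := hiso hr
    have hM1 : Nat.card M = 1 := by omega
    haveI : Subsingleton M := (Nat.card_eq_one_iff_unique.1 hM1).1
    haveI : Unique M := uniqueOfSubsingleton 1
    exact ⟨hV, ⟨φ.symm.trans (MulEquiv.prodUnique.trans e)⟩⟩
  · right; left
    obtain ⟨φ⟩ := hiso hr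
    haveI : Fact (Nat.Prime 7) := ⟨by norm_num⟩
    exact ⟨hV, ⟨φ.symm.trans (MulEquiv.prodCongr e
      (mulEquivOfPrimeCardEq (p := 7) (by omega) (by simp [Nat.card_eq_fintype_card])))⟩⟩
  · right; right
    obtain ⟨φ⟩ := hiso hr
    haveI : Fact (Nat.Prime 29) := ⟨by norm_num⟩
    exact ⟨hV, ⟨φ.symm.trans (MulEquiv.prodCongr e
      (mulEquivOfPrimeCardEq (p := 29) (by omega) (by simp [Nat.card_eq_fintype_card])))⟩⟩

end Cfsg.Agent.S0689
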