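import Cfsg.Statements.S0691
import Cfsg.Agent.Lib.Perm.MatrixClosure

set_option autoImplicit false
open Cfsg

namespace Cfsg.Agent.S0691

/-- Parent pointers. -/
def cert : List (ℕ × ℕ) :=
  [(0, 0), (1, 0), (2, 0), (0, 1), (1, 1), (2, 1), (0, 2), (2, 2), (1, 3), (2, 3), (0, 4), (1, 4), (2, 4), (1, 6), (2, 6), (2, 7), (2, 8), (0, 9), (2, 9), (2, 13), (2, 14), (2, 16), (2, 18)]

theorem certified : CfsgLib.Perm.MatrixClosure.check 5 [(2, 0, 0, 3), (0, 4, 1, 0), (1, 2, 1, 3)]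
    (CfsgLib.Perm.MatrixClosure.build 5 [(2, 0, 0, 3), (0, 4, 1, 0), (1, 2, 1, 3)] cert [CfsgLib.Perm.MatrixClosure.one])
    1 1 = true := by decide +kernel

/-- An exceptional sharply doubly transitive group of degree 5^2: the listed matrices generate a subgroup of GL(2,5) of order 24 acting regularly on the non-zero vectors. -/
theorem result (A : Matrix.GeneralLinearGroup (Fin 2) (ZMod 5)) (B : Matrix.GeneralLinearGroup (Fin 2) (ZMod 5)) (C : Matrix.GeneralLinearGroup (Fin 2) (ZMod 5)) (hA : (A : Matrix (Fin 2) (Fin 2) (ZMod 5)) = !![2, 0; 0, -2]) (hB : (B : Matrix (Fin 2) (Fin 2) (ZMod 5)) = !![0, -1; 1, 0]) (hC : (C : Matrix (Fin 2) (Fin 2) (ZMod 5)) = !![1, 2; 1, -2]) : Nat.card (Subgroup.closure ({A, B, C} : Set (Matrix.GeneralLinearGroup (Fin 2) (ZMod 5)))) = 24 ∧ ∀ v w : Fin 2 → ZMod 5, v ≠ 0 → w ≠ 0 → ∃! h : Subgroup.closure ({A, B, C} : Set (Matrix.GeneralLinearGroup (Fin 2) (ZMod 5))), Matrix.mulVec ((h : Matrix.GeneralLinearGroup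 (Fin 2) (ZMod 5)) : Matrix (Fin 2) (Fin 2) (ZMod 5)) v = w := by
  haveI : Fact (Nat.Prime 5) := ⟨by norm_num⟩
  obtain ⟨hcard, hreg⟩ := CfsgLib.Perm.MatrixClosure.regular_closure [A, B, C] (1 : Matrix.GeneralLinearGroup (Fin 2) (ZMod 5)) 1 1
    (by rw [Units.val_one, Nat.cast_one, one_smul]) cert _
    (by simp only [List.map, hA, hB, hC]; rfl) (by exact certified)
  have hset : Subgroup.closure ({g | g ∈ [A, B, C]} ∪ {1} : Set (Matrix.GeneralLinearGroup (Fin 2) (ZMod 5))) = Subgroup.closure {A, B, C} := by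
    rw [Subgroup.closure_union, Subgroup.closure_singleton_one, sup_bot_eq]
    congr 1
    ext g
    simp
  rw [hset] at hcard hreg
  exact ⟨hcard, hreg⟩

end Cfsg.Agent.S0691
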