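import Cfsg.Statements.S0694
import Mathlib.NumberTheory.Multiplicity
import Mathlib.NumberTheory.Padics.PadicVal.Basic
import Mathlib.Data.Nat.Totient
import Mathlib.FieldTheory.Finite.Basic
import Mathlib.Tactic

set_option autoImplicit false
open Cfsg

namespace Cfsg.Agent.S0694

/-- The geometric sum. -/
def gs (q i : ℕ) : ℕ := ∑ j ∈ Finset.range i, q ^ j

theorem gs_mul (q i : ℕ) (hq : 1 ≤ q) : gs q i * (q - 1) = q ^ i - 1 := by
  have h := geom_sum_mul_add (q - 1) i
  rw [Nat.sub_add_cancel hq] at h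
  rw [gs]
  omega

theorem modEq_iff {q n i : ℕ} (hq : 2 ≤ q) : q ^ i ≡ 1 [MOD n * (q - 1)] ↔ n ∣ gs q i := by
  rw [Nat.ModEq.comm, Nat.modEq_iff_dvd' (Nat.one_le_pow _ _ (by omega)), ← gs_mul q i (by omega)]
  exact Nat.mul_dvd_mul_iff_right (by omega)

theorem gs_mul_index (q a s : ℕ) : gs q (a * s) = gs q a * gs (q ^ a) s := by
  induction s with
  | zero => simp [gs]
  | succ s ih =>
    have hadd : gs q (a * s + a) = gs q (a * s) + q ^ (a * s) * gs q a := by
      simp only [gs, Finset.mul_sum, ← pow_add, Finset.sum_range_add]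
    rw [Nat.mul_succ, hadd, ih, show gs (q ^ a) (s + 1) = gs (q ^ a) s + (q ^ a) ^ s from
      Finset.sum_range_succ _ _, ← pow_mul]
    ring

theorem gs_dvd_of_dvd (q : ℕ) {a b : ℕ} (h : a ∣ b) : gs q a ∣ gs q b := by
  obtain ⟨c, rfl⟩ := h
  exact ⟨_, gs_mul_index q a c⟩

theorem gs_modEq {q s : ℕ} (h : q ≡ 1 [MOD s]) (i : ℕ) : gs q i ≡ i [MOD s] := by
  induction i with
  | zero => simp [gs]; rfl
  | succ i ih =>
    rw [show gs q (i + 1) = gs q i + q ^ i from Finset.sum_range_succ _ _]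
    exact ih.add (by simpa using h.pow i)

theorem good_dvd {q s : ℕ} (hq : 2 ≤ q) (hs : s ∣ q - 1) (f : ℕ) : s ^ f ∣ gs q (s ^ f) := by
  induction f with
  | zero => simp
  | succ f ih =>
    rw [pow_succ, gs_mul_index]
    refine mul_dvd_mul ih ((Nat.modEq_zero_iff_dvd).1 ?_)
    have h1 : q ≡ 1 [MOD s] := ((Nat.modEq_iff_dvd' (by omega)).2 hs).symm
    have h2 : q ^ s ^ f ≡ 1 [MOD s] := by simpa using h1.pow (s ^ f)
    exact (gs_modEq h2 s).trans ((Nat.modEq_zero_iff_dvd).2 dvd_rfl)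

theorem two_bad {q : ℕ} (hq : 2 ≤ q) (h2 : 2 ∣ q - 1) (h4 : ¬ 4 ∣ q - 1) (j : ℕ) :
    2 ^ (j + 2) ∣ gs q (2 ^ (j + 1)) := by
  induction j with
  | zero =>
    simp only [gs, zero_add, pow_one, Finset.sum_range_succ, Finset.sum_range_zero, pow_zero]
    omega
  | succ j ih =>
    rw [pow_succ 2 (j + 2), pow_succ 2 (j + 1), gs_mul_index]
    refine mul_dvd_mul ih ((Nat.modEq_zero_iff_dvd).1 ?_)
    have h1 : q ≡ 1 [MOD 2] := ((Nat.modEq_iff_dvd' (by omega)).2 h2).symm
    have h3 : q ^ 2 ^ (j + 1) ≡ 1 [MOD 2] := by simpa using h1.pow (2 ^ (j + 1))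
    exact (gs_modEq h3 2).trans ((Nat.modEq_zero_iff_dvd).2 dvd_rfl)

theorem bad_dvd {q s f : ℕ} (hq : 2 ≤ q) (hs : s.Prime) (hs1 : ¬ s ∣ q - 1) (hco : q.Coprime s) :
    s ^ f ∣ gs q (Nat.totient (s ^ f)) := by
  have h := Nat.ModEq.pow_totient (hco.pow_right f)
  rw [Nat.ModEq.comm, Nat.modEq_iff_dvd' (Nat.one_le_pow _ _ (by omega)), ← gs_mul q _ (by omega)] at h
  exact (Nat.Coprime.pow_left f ((hs.coprime_iff_not_dvd).2 hs1)).dvd_of_dvd_mul_right h

/-- A smaller exponent works as soon as every prime power has one avoiding `r`. -/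
theorem reduce {q n r : ℕ} (hq : 2 ≤ q) (hn : 1 < n) (hr : r.Prime) (hrn : r ∣ n)
    (h1 : n ∣ gs q n) (hmin : ∀ i, 0 < i → i < n → ¬ n ∣ gs q i)
    (K : ℕ → ℕ) (hK : ∀ s, s.Prime → s ∣ n → s ^ n.factorization s ∣ gs q (K s) ∧
      ¬ r ^ n.factorization r ∣ K s) : False := by
  have hn0 : n ≠ 0 := by omega
  refine hmin (n / r) (Nat.div_pos (Nat.le_of_dvd (by omega) hrn) hr.pos) (Nat.div_lt_self (by omega) hr.one_lt) ?_
  refine Nat.dvd_iff_prime_pow_dvd_dvd _ _ |>.2 fun s k hs hk => ?_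
  rcases Nat.eq_zero_or_pos k with rfl | hk0
  · simp
  have hsn : s ∣ n := (dvd_pow_self s hk0.ne').trans hk
  obtain ⟨hK1, hK2⟩ := hK s hs hsn
  refine (pow_dvd_pow s ((hs.pow_dvd_iff_le_factorization hn0).1 hk)).trans ?_
  have hd : Nat.gcd (K s) n ∣ n / r := by
    obtain ⟨c, hc⟩ := Nat.gcd_dvd_right (K s) n
    have hrc : r ∣ c := by
      by_contra hrc
      have hco : (r ^ n.factorization r).Coprime c :=
        Nat.Coprime.pow_left _ ((hr.coprime_iff_not_dvd).2 hrc)
      have hfull : r ^ n.factorization r ∣ n := Nat.ordProj_dvd n r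
      have hfull' : r ^ n.factorization r ∣ Nat.gcd (K s) n * c := dvd_trans hfull hc.dvd
      exact hK2 ((hco.dvd_of_dvd_mul_right hfull').trans (Nat.gcd_dvd_left _ _))
    obtain ⟨d, rfl⟩ := hrc
    exact ⟨d, Nat.div_eq_of_eq_mul_left hr.pos (hc.trans (by ring))⟩
  refine dvd_trans ?_ (gs_dvd_of_dvd q hd)
  have hM : ∀ m, s ^ n.factorization s ∣ gs q m ↔ q ^ m ≡ 1 [MOD s ^ n.factorization s * (q - 1)] :=
    fun m => (modEq_iff hq).symm
  rw [hM]
  have ha := (ZMod.natCast_eq_natCast_iff _ _ _).2 ((hM _).1 hK1)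
  have hb := (ZMod.natCast_eq_natCast_iff _ _ _).2 ((hM _).1 ((Nat.ordProj_dvd n s).trans h1))
  rw [← ZMod.natCast_eq_natCast_iff]
  push_cast at ha hb ⊢
  exact pow_gcd_eq_one.2 ⟨ha, hb⟩

/-- The Dickson pair condition: for a prime power `q` and `n > 1`, (every prime factor of `n` divides `q - 1`, and `4 ∣ n → 4 ∣ q - 1`) holds exactly when `q ^ n ≡ 1` modulo `n * (q - 1)` but `q ^ i` is not, for `0 < i < n`. -/
theorem result (q n : ℕ) (hq : IsPrimePow q) (hn : 1 < n) : ((∀ r : ℕ, r.Prime → r ∣ n → r ∣ q - 1) ∧ (4 ∣ n → 4 ∣ q - 1)) ↔ (q ^ n ≡ 1 [MOD n * (q - 1)] ∧ ∀ i : ℕ, 0 < i → i < n → ¬ q ^ i ≡ 1 [MOD n * (q - 1)]) := by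
  have hq2 : 2 ≤ q := hq.two_le
  have hn0 : n ≠ 0 := by omega
  simp only [modEq_iff hq2]
  constructor
  · rintro ⟨hgood, h4⟩
    refine ⟨Nat.dvd_iff_prime_pow_dvd_dvd _ _ |>.2 fun s k hs hk => ?_, fun i hi0 hin hdiv => ?_⟩
    · rcases Nat.eq_zero_or_pos k with rfl | hk0
      · simp
      · exact (good_dvd hq2 (hgood s hs ((dvd_pow_self s hk0.ne').trans hk)) k).trans
          (gs_dvd_of_dvd q hk)
    have hdvd : n ∣ i := Nat.dvd_iff_prime_pow_dvd_dvd _ _ |>.2 fun s k hs hk => by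
      rcases Nat.eq_zero_or_pos k with rfl | hk0
      · simp
      have hsn : s ∣ n := (dvd_pow_self s hk0.ne').trans hk
      haveI : Fact s.Prime := ⟨hs⟩
      have hs1 := hgood s hs hsn
      have hsq : ¬ s ∣ q := fun h => hs.not_dvd_one (by
        have := Nat.dvd_sub h hs1
        rwa [show q - (q - 1) = 1 by omega] at this)
      have hsgs : s ^ k ∣ gs q i := hk.trans hdiv
      have hgpos : gs q i ≠ 0 := (Finset.sum_pos (fun j _ => pow_pos (by omega) j)
        ⟨0, Finset.mem_range.2 hi0⟩).ne'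
      have hval : k ≤ padicValNat s (gs q i) := (padicValNat_dvd_iff_le hgpos).1 hsgs
      have hsum : padicValNat s (q ^ i - 1) = padicValNat s (gs q i) + padicValNat s (q - 1) := by
        rw [← gs_mul q i (by omega), padicValNat.mul hgpos (by omega)]
      rw [padicValNat_dvd_iff_le (by omega : i ≠ 0)]
      rcases hs.eq_two_or_odd' with rfl | hodd
      · have hi2 : 2 ∣ i := Nat.modEq_zero_iff_dvd.1
          ((gs_modEq ((Nat.modEq_iff_dvd' (by omega)).2 hs1).symm i).symm.trans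
            (Nat.modEq_zero_iff_dvd.2 ((dvd_pow_self 2 hk0.ne').trans hsgs)))
        rcases Nat.lt_or_ge k 2 with hk1 | hk2
        · exact le_trans (by omega) (one_le_padicValNat_of_dvd (by omega) hi2)
        have h4' : 4 ∣ q - 1 := h4 ((pow_dvd_pow 2 hk2).trans hk)
        have hv1 : padicValNat 2 (q + 1) = 1 := by
          obtain ⟨c, hc⟩ := h4'
          rw [show q + 1 = 2 * (2 * c + 1) by omega, padicValNat.mul two_ne_zero (by omega),
            padicValNat.self one_lt_two, padicValNat.eq_zero_of_not_dvd (by omega)]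
        have := padicValNat.pow_two_sub_one (x := q) (n := i) (by omega) hsq (by omega)
          (even_iff_two_dvd.2 hi2)
        omega
      · have h := padicValNat.pow_sub_pow (p := s) hodd (x := q) (y := 1) (n := i) (by omega) hs1 hsq (by omega)
        rw [one_pow] at h
        omega
    have := Nat.le_of_dvd hi0 hdvd
    omega
  · rintro ⟨h1, hmin⟩
    have hcop : ∀ s, s.Prime → s ∣ n → q.Coprime s := fun s hs hsn => by
      refine ((hs.coprime_iff_not_dvd).2 fun hsq => hs.not_dvd_one ?_).symm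
      have h' : gs q n ≡ 1 [MOD s] := by
        obtain ⟨m, rfl⟩ : ∃ m, n = m + 1 := ⟨n - 1, by omega⟩
        rw [show gs q (m + 1) = (∑ j ∈ Finset.range m, q ^ (j + 1)) + 1 from Finset.sum_range_succ' _ _]
        nth_rewrite 2 [show (1 : ℕ) = 0 + 1 from rfl]
        refine Nat.ModEq.add_right 1 (Nat.modEq_zero_iff_dvd.2 (Finset.dvd_sum fun j _ => ?_))
        exact hsq.trans (dvd_pow_self q j.succ_ne_zero)
      exact Nat.modEq_zero_iff_dvd.1 (h'.symm.trans (Nat.modEq_zero_iff_dvd.2 (hsn.trans h1)))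
    have hgood : ∀ r : ℕ, r.Prime → r ∣ n → r ∣ q - 1 := by
      by_contra hne
      push Not at hne
      set B := n.primeFactors.filter fun r => ¬ r ∣ q - 1 with hB
      have hBne : B.Nonempty := by
        obtain ⟨r, hr, hrn, hrq⟩ := hne
        exact ⟨r, Finset.mem_filter.2 ⟨Nat.mem_primeFactors.2 ⟨hr, hrn, hn0⟩, hrq⟩⟩
      obtain ⟨r, hrB, hrmax⟩ := B.exists_max_image id hBne
      obtain ⟨hr', hrq⟩ := Finset.mem_filter.1 hrB
      obtain ⟨hr, hrn, -⟩ := Nat.mem_primeFactors.1 hr'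
      have hre : 0 < n.factorization r := hr.factorization_pos_of_dvd hn0 hrn
      refine reduce hq2 hn hr hrn h1 hmin
        (fun s => if s ∣ q - 1 then s ^ n.factorization s else Nat.totient (s ^ n.factorization s))
        fun s hs hsn => ?_
      by_cases hsq : s ∣ q - 1
      · simp only [if_pos hsq]
        refine ⟨good_dvd hq2 hsq _, fun h => hrq ?_⟩
        rwa [(Nat.prime_dvd_prime_iff_eq hr hs).1 (hr.dvd_of_dvd_pow ((dvd_pow_self r hre.ne').trans h))]
      · simp only [if_neg hsq]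
        refine ⟨bad_dvd hq2 hs hsq (hcop s hs hsn), fun h => ?_⟩
        have hse : 0 < n.factorization s := hs.factorization_pos_of_dvd hn0 hsn
        rw [Nat.totient_prime_pow hs hse] at h
        have hsr : s ≤ r := hrmax s (Finset.mem_filter.2 ⟨Nat.mem_primeFactors.2 ⟨hs, hsn, hn0⟩, hsq⟩)
        have h2 := hs.two_le
        have hco : (r ^ n.factorization r).Coprime (s - 1) := Nat.Coprime.pow_left _
          ((hr.coprime_iff_not_dvd).2 fun h' => by have := Nat.le_of_dvd (by omega) h'; omega)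
        have h' := hco.dvd_of_dvd_mul_right h
        have hrs := (Nat.prime_dvd_prime_iff_eq hr hs).1 (hr.dvd_of_dvd_pow ((dvd_pow_self r hre.ne').trans h'))
        subst hrs
        have := (Nat.pow_dvd_pow_iff_le_right hr.one_lt).1 h'
        omega
    refine ⟨hgood, fun h4 => ?_⟩
    by_contra hq4
    have h2n : 2 ∣ n := (show 2 ∣ 4 by norm_num).trans h4
    have h2q : 2 ∣ q - 1 := hgood 2 Nat.prime_two h2n
    have he : 2 ≤ n.factorization 2 := (Nat.prime_two.pow_dvd_iff_le_factorization hn0).1 (by simpa using h4)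
    refine reduce hq2 hn Nat.prime_two h2n h1 hmin
      (fun s => if s = 2 then 2 ^ (n.factorization 2 - 1) else s ^ n.factorization s) fun s hs hsn => ?_
    by_cases hs2 : s = 2
    · subst hs2
      simp only [if_true]
      obtain ⟨j, hj⟩ : ∃ j, n.factorization 2 = j + 2 := ⟨n.factorization 2 - 2, by omega⟩
      rw [hj]
      refine ⟨two_bad hq2 h2q hq4 j, fun h => ?_⟩
      have := (Nat.pow_dvd_pow_iff_le_right one_lt_two).1 h
      omega
    · simp only [if_neg hs2]
      refine ⟨good_dvd hq2 (hgood s hs hsn) _, fun h => hs2 ?_⟩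
      exact ((Nat.prime_dvd_prime_iff_eq Nat.prime_two hs).1
        (Nat.prime_two.dvd_of_dvd_pow ((dvd_pow_self 2 (by omega : n.factorization 2 ≠ 0)).trans h))).symm

end Cfsg.Agent.S0694
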