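import Cfsg.Statements.S0699
import Cfsg.Agent.Lib.Perm.NormalSubgroups
import Mathlib.GroupTheory.GroupAction.Blocks
import Mathlib.Algebra.Group.Pointwise.Set.Card
import Mathlib.GroupTheory.Perm.Cycle.Type

set_option autoImplicit false
open Cfsg

open scoped Pointwise

namespace Cfsg.Agent.S0699

/-- Orbits of a normal subgroup in an odd transitive action have odd length, and a permutation of
order two on the orbits that commutes with the action fixes each orbit. -/
theorem orbits_fixed {A : Type*} [Group A] {X : Type*} [MulAction A X] [Finite X]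
    [MulAction.IsPretransitive A X] (hX : Odd (Nat.card X)) (B : Subgroup A) [B.Normal]
    (t : X → X) (hBt : ∀ (b : B) (x : X), t (b • x) ∈ MulAction.orbit B (t x))
    (ht2 : ∀ x, t (t x) ∈ MulAction.orbit B x)
    (htA : ∀ (a : A) (x : X), t (a • x) ∈ MulAction.orbit B (a • t x)) (x : X) :
    t x ∈ MulAction.orbit B x ∧ Odd (Nat.card (MulAction.orbit B x)) := by
  classical
  have hblock : ∀ y : X, Odd (Nat.card (MulAction.orbit B y)) := fun y => by
    have h := (MulAction.IsBlock.orbit_of_normal (G := A) (N := B) y).ncard_dvd_card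
      ⟨y, MulAction.mem_orbit_self y⟩
    exact hX.of_dvd_nat h
  refine ⟨?_, hblock x⟩
  let mk : X → MulAction.orbitRel.Quotient B X := Quotient.mk''
  have hmk : ∀ {u v : X}, mk u = mk v ↔ u ∈ MulAction.orbit B v := fun {u v} => Quotient.eq''
  have hQ : Odd (Nat.card (MulAction.orbitRel.Quotient B X)) := by
    have he := Nat.card_congr (MulAction.selfEquivSigmaOrbits B X)
    haveI : Fintype (MulAction.orbitRel.Quotient B X) := Fintype.ofFinite _
    rw [Nat.card_sigma] at he
    have heq : ∀ q : MulAction.orbitRel.Quotient B X,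
        Nat.card (MulAction.orbit B q.out) = Nat.card (MulAction.orbit B x) := fun q => by
      obtain ⟨g, hg⟩ := MulAction.exists_smul_eq A x q.out
      rw [← hg, ← MulAction.smul_orbit_eq_orbit_smul]
      exact Set.ncard_smul_set g _
    rw [Finset.sum_congr rfl (fun q _ => heq q), Finset.sum_const, smul_eq_mul, Finset.card_univ,
      ← Nat.card_eq_fintype_card] at he
    rw [he] at hX
    exact (Nat.odd_mul.mp hX).1
  let T : MulAction.orbitRel.Quotient B X → MulAction.orbitRel.Quotient B X :=
    Quotient.lift (fun y => mk (t y)) fun u v (h : u ∈ MulAction.orbit B v) => by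
      obtain ⟨b, rfl⟩ := h
      exact hmk.mpr (hBt b v)
  have hT : Function.Involutive T := fun q => by
    induction q using Quotient.inductionOn' with
    | h y => exact hmk.mpr (ht2 y)
  obtain ⟨q, hq⟩ : ∃ q, T q = q := by
    haveI : Fintype (MulAction.orbitRel.Quotient B X) := Fintype.ofFinite _
    haveI : Fact (Nat.Prime 2) := ⟨Nat.prime_two⟩
    obtain ⟨q, hq⟩ := Equiv.Perm.exists_fixed_point_of_prime (p := 2) (n := 1)
      (α := MulAction.orbitRel.Quotient B X) (by
        rw [← Nat.card_eq_fintype_card]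
        exact hQ.not_two_dvd_nat)
      (σ := hT.toPerm T) (by ext q; simp [pow_two, hT q])
    exact ⟨q, hq⟩
  induction q using Quotient.inductionOn' with
  | h y =>
    have hy : t y ∈ MulAction.orbit B y := hmk.mp hq
    obtain ⟨a, rfl⟩ := MulAction.exists_smul_eq A y x
    have h1 := htA a y
    have h2 : a • t y ∈ MulAction.orbit B (a • y) := by
      rw [← MulAction.smul_orbit_eq_orbit_smul]
      exact Set.smul_mem_smul_set hy
    rwa [← MulAction.orbit_eq_iff.mpr h2]

theorem odd_three_transitive {α : Type*} [Fintype α] [DecidableEq α] (G : Subgroup (Equiv.Perm α))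
    (hodd : Odd (Fintype.card α)) [MulAction.IsMultiplyPretransitive G α 3]
    (N : Subgroup G) [N.Normal] [MulAction.IsMultiplyPretransitive N α 2] :
    MulAction.IsMultiplyPretransitive N α 3 := by
  classical
  have h2 : ∀ {a b c d : α}, a ≠ b → c ≠ d → ∃ g : N, g • a = c ∧ g • b = d :=
    (MulAction.is_two_pretransitive_iff (G := N) (α := α)).mp ‹_›
  -- it suffices that pair stabilisers are transitive on the other points
  suffices key : ∀ a b c d : α, a ≠ b → c ≠ a → c ≠ b → d ≠ a → d ≠ b →
      ∃ g : N, g • a = a ∧ g • b = b ∧ g • c = d by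
    refine ⟨fun x y => ?_⟩
    obtain ⟨g, hg0, hg1⟩ := h2 (a := x 0) (b := x 1) (c := y 0) (d := y 1)
      (fun e => absurd (x.injective e) (by decide)) (fun e => absurd (y.injective e) (by decide))
    obtain ⟨g', h0, h1, h3⟩ := key (y 0) (y 1) (g • x 2) (y 2)
      (fun e => absurd (y.injective e) (by decide))
      (by rw [← hg0]; exact fun e => absurd (x.injective (MulAction.injective g e)) (by decide))
      (by rw [← hg1]; exact fun e => absurd (x.injective (MulAction.injective g e)) (by decide))
      (fun e => absurd (y.injective e) (by decide)) (fun e => absurd (y.injective e) (by decide))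
    refine ⟨g' * g, Function.Embedding.ext fun i => ?_⟩
    show (g' * g) • x i = y i
    fin_cases i
    · exact (mul_smul _ _ _).trans ((congrArg (g' • ·) hg0).trans h0)
    · exact (mul_smul _ _ _).trans ((congrArg (g' • ·) hg1).trans h1)
    · exact (mul_smul _ _ _).trans h3
  intro a b c d hab hca hcb hda hdb
  by_contra hcon
  set A : Subgroup G := fixingSubgroup G ({a, b} : Set α) with hA
  set B : Subgroup A := N.subgroupOf A with hB
  let X := SubMulAction.ofFixingSubgroup G ({a, b} : Set α)
  haveI : MulAction.IsPretransitive A X := by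
    rw [← MulAction.is_one_pretransitive_iff]
    exact SubMulAction.ofFixingSubgroup.isMultiplyPretransitive (n := 3) G _
      (by rw [Set.ncard_pair hab])
  have hXodd : Odd (Nat.card X) := by
    have h : Nat.card X + 2 = Fintype.card α := by
      rw [← Nat.card_eq_fintype_card, ← Set.ncard_univ α, ← Set.union_compl_self ({a, b} : Set α),
        Set.ncard_union_eq disjoint_compl_right (Set.toFinite _) (Set.toFinite _),
        Set.ncard_pair hab, add_comm]
      rfl
    rw [← h] at hodd
    exact (Nat.odd_add.mp hodd).mpr even_two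
  obtain ⟨t, hta, htb⟩ := h2 hab hab.symm
  have ht : ∀ x : α, x ∈ ({a, b} : Set α) → t • x ∈ ({a, b} : Set α) := by
    rintro x (rfl | rfl)
    · exact Or.inr hta
    · exact Or.inl htb
  have htX : ∀ x : X, t • (x : α) ∈ X := fun x hx => x.2 (by
    have h : t • t • (x : α) ∈ ({a, b} : Set α) := ht _ hx
    rcases hx with hx | hx
    · exact Or.inr (MulAction.injective t (hx.trans htb.symm))
    · exact Or.inl (MulAction.injective t ((Set.mem_singleton_iff.mp hx).trans hta.symm)))
  have hB_mem : ∀ g : G, g ∈ N → g • a = a → g • b = b → ∃ z : B, ((z : A) : G) = g :=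
    fun g hg ha hb => ⟨⟨⟨g, fun z => by
      rcases z.2 with h | h
      · show g • (z : α) = z; rw [h]; exact ha
      · show g • (z : α) = z; rw [Set.mem_singleton_iff.mp h]; exact hb⟩, hg⟩, rfl⟩
  have hBfix : ∀ z : B, ((z : A) : G) • a = a ∧ ((z : A) : G) • b = b := fun z =>
    ⟨(z : A).2 ⟨a, Or.inl rfl⟩, (z : A).2 ⟨b, Or.inr rfl⟩⟩
  have hta' : (t : G)⁻¹ • a = b := inv_smul_eq_iff.mpr htb.symm
  have htb' : (t : G)⁻¹ • b = a := inv_smul_eq_iff.mpr hta.symm
  have htA' : (t : G) • a = b := hta
  have htB' : (t : G) • b = a := htb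
  have horb := fun x : X => orbits_fixed (A := A) hXodd B (fun y => ⟨t • (y : α), htX y⟩)
    (fun z y => by
      obtain ⟨z', hz'⟩ := hB_mem ((t : G) * ((z : A) : G) * (t : G)⁻¹)
        (‹N.Normal›.conj_mem _ z.2 _)
        (by rw [mul_smul, mul_smul, hta', (hBfix z).2, htB'])
        (by rw [mul_smul, mul_smul, htb', (hBfix z).1, htA'])
      refine ⟨z', Subtype.ext ?_⟩
      show ((z' : A) : G) • (t : G) • (y : α) = (t : G) • ((z : A) : G) • (y : α)
      rw [hz', mul_smul, mul_smul, inv_smul_smul])
    (fun y => by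
      obtain ⟨z', hz'⟩ := hB_mem ((t : G) * (t : G)) (N.mul_mem t.2 t.2)
        (by rw [mul_smul, htA', htB']) (by rw [mul_smul, htB', htA'])
      refine ⟨z', Subtype.ext ?_⟩
      show ((z' : A) : G) • (y : α) = (t : G) • (t : G) • (y : α)
      rw [hz', mul_smul])
    (fun g y => by
      have hga : (g : G) • a = a := g.2 ⟨a, Or.inl rfl⟩
      have hgb : (g : G) • b = b := g.2 ⟨b, Or.inr rfl⟩
      have hga' : (g : G)⁻¹ • a = a := inv_smul_eq_iff.mpr hga.symm
      have hgb' : (g : G)⁻¹ • b = b := inv_smul_eq_iff.mpr hgb.symm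
      have hmem : (t : G) * (g : G) * (t : G)⁻¹ * (g : G)⁻¹ ∈ N := by
        rw [mul_assoc, mul_assoc, ← mul_assoc (g : G)]
        exact N.mul_mem t.2 (‹N.Normal›.conj_mem _ (N.inv_mem t.2) _)
      obtain ⟨z', hz'⟩ := hB_mem _ hmem
        (by simp only [mul_smul, hga', hta', hgb, htB'])
        (by simp only [mul_smul, hgb', htb', hga, htA'])
      refine ⟨z', Subtype.ext ?_⟩
      show ((z' : A) : G) • (g : G) • (t : G) • (y : α) = (t : G) • (g : G) • (y : α)
      rw [hz']
      simp only [mul_smul, inv_smul_smul]) x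
  -- a Sylow 2-subgroup of the setwise stabiliser of the pair
  let W : Subgroup N := MulAction.stabilizer N ({a, b} : Set α)
  have hW : ∀ g : N, g ∈ W ↔ (g • a = a ∧ g • b = b) ∨ (g • a = b ∧ g • b = a) := fun g => by
    show g • ({a, b} : Set α) = {a, b} ↔ _
    rw [Set.smul_set_insert, Set.smul_set_singleton, Set.pair_eq_pair_iff]
  let P : Subgroup N := fixingSubgroup N ({a, b} : Set α)
  have hP : ∀ g : N, g ∈ P ↔ g • a = a ∧ g • b = b := fun g => by
    rw [mem_fixingSubgroup_iff]
    simp
  have hPW : P ≤ W := fun g hg => (hW g).mpr (Or.inl ((hP g).mp hg))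
  have hindex : (P.subgroupOf W).index = 2 := by
    rw [Subgroup.index_eq_two_iff]
    refine ⟨⟨t, (hW t).mpr (Or.inr ⟨hta, htb⟩)⟩, fun w => ?_⟩
    simp only [Subgroup.mem_subgroupOf, Subgroup.coe_mul, hP, mul_smul, hta, htb]
    rcases (hW w).mp w.2 with ⟨h1, h3⟩ | ⟨h1, h3⟩
    · exact Or.inr ⟨⟨h1, h3⟩, fun h => hab (h.1.symm.trans h3)⟩
    · exact Or.inl ⟨⟨h3, h1⟩, fun h => hab (h.1.symm.trans h1)⟩
  have hWcard : Nat.card W = 2 * Nat.card P := by
    rw [← Subgroup.card_mul_index (P.subgroupOf W), hindex,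
      Nat.card_congr (Subgroup.subgroupOfEquivOfLe hPW).toEquiv, mul_comm]
  haveI : Fact (Nat.Prime 2) := ⟨Nat.prime_two⟩
  obtain ⟨Q⟩ := (Sylow.nonempty : Nonempty (Sylow 2 W))
  have hfix : ∀ x : X, ∃ y : X, y ∈ MulAction.orbit B x ∧ ∀ q : (Q : Subgroup W),
      ((q : W) : N) • (y : α) = y := by
    intro x
    have hPorb : ∀ g : N, g ∈ P → ∀ y : X, y ∈ MulAction.orbit B x →
        ∀ h : g • (y : α) ∈ X, (⟨g • (y : α), h⟩ : X) ∈ MulAction.orbit B x := by
      intro g hg y hy h
      obtain ⟨z, hz⟩ := hB_mem g g.2 ((hP g).mp hg).1 ((hP g).mp hg).2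
      have h' : z • y ∈ MulAction.orbit B x := MulAction.mem_orbit_of_mem_orbit z hy
      convert h' using 1
      exact Subtype.ext (show g • (y : α) = ((z : A) : G) • (y : α) by rw [hz]; rfl)
    have hinv : ∀ w : W, ∀ y : X, y ∈ MulAction.orbit B x →
        ∃ h : (w : N) • (y : α) ∈ X,
          (⟨(w : N) • (y : α), h⟩ : X) ∈ MulAction.orbit B x := by
      intro w y hy
      by_cases hwP : (w : N) ∈ P
      · have hwX : (w : N) • (y : α) ∈ X := by
          intro hm
          obtain ⟨h1, h3⟩ := (hP _).mp hwP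
          apply y.2
          rcases hm with hm | hm
          · exact Or.inl (MulAction.injective _ (hm.trans h1.symm))
          · exact Or.inr (MulAction.injective _ ((Set.mem_singleton_iff.mp hm).trans h3.symm))
        exact ⟨hwX, hPorb _ hwP y hy hwX⟩
      · obtain ⟨h1, h3⟩ := ((hW w).mp w.2).resolve_left (fun h => hwP ((hP _).mpr h))
        have hs : (w : N) * t⁻¹ ∈ P := (hP _).mpr
          ⟨by rw [mul_smul, inv_smul_eq_iff.mpr htb.symm]; exact h3,
           by rw [mul_smul, inv_smul_eq_iff.mpr hta.symm]; exact h1⟩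
        have hty : (⟨t • (y : α), htX y⟩ : X) ∈ MulAction.orbit B x := by
          have := (horb y).1
          rw [MulAction.orbit_eq_iff.mpr hy] at this
          exact this
        have hsX : ((w : N) * t⁻¹) • t • (y : α) ∈ X := by
          intro hm
          obtain ⟨h1', h3'⟩ := (hP _).mp hs
          apply htX y
          rcases hm with hm | hm
          · exact Or.inl (MulAction.injective _ (hm.trans h1'.symm))
          · exact Or.inr (MulAction.injective _ ((Set.mem_singleton_iff.mp hm).trans h3'.symm))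
        have hmain := hPorb _ hs ⟨t • (y : α), htX y⟩ hty hsX
        simp only [mul_smul, inv_smul_smul] at hsX hmain
        exact ⟨hsX, hmain⟩
    let S : SubMulAction (Q : Subgroup W) α :=
      { carrier := Subtype.val '' (MulAction.orbit B x)
        smul_mem' := by
          rintro q _ ⟨y, hy, rfl⟩
          obtain ⟨h, hm⟩ := hinv (q : W) y hy
          exact ⟨_, hm, rfl⟩ }
    haveI : Finite S := Subtype.finite
    have hS : Nat.card S = Nat.card (MulAction.orbit B x) :=
      Nat.card_image_of_injective Subtype.val_injective _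
    obtain ⟨⟨_, y, hy, rfl⟩, hyQ⟩ := Q.isPGroup'.nonempty_fixed_point_of_prime_not_dvd_card S
      (by rw [hS]; exact (horb x).2.not_two_dvd_nat)
    exact ⟨y, hy, fun q => congrArg Subtype.val (hyQ q)⟩
  have hcX : c ∈ X := fun h => h.elim hca hcb
  have hdX : d ∈ X := fun h => h.elim hda hdb
  obtain ⟨c', hc', hQc⟩ := hfix ⟨c, hcX⟩
  obtain ⟨d', hd', hQd⟩ := hfix ⟨d, hdX⟩
  have hcd : (c' : α) ≠ d' := fun e => hcon (by
    rw [Subtype.ext e] at hc'
    have h3 : (⟨d, hdX⟩ : X) ∈ MulAction.orbit B ⟨c, hcX⟩ := by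
      rw [← MulAction.orbit_eq_iff.mpr hc', MulAction.orbit_eq_iff.mpr hd']
      exact MulAction.mem_orbit_self _
    obtain ⟨z, hz⟩ := h3
    exact ⟨⟨((z : A) : G), z.2⟩, (hBfix z).1, (hBfix z).2, congrArg Subtype.val hz⟩)
  have hcardP : Nat.card (fixingSubgroup N ({(c' : α), (d' : α)} : Set α)) = Nat.card P := by
    obtain ⟨g, hgc, hgd⟩ := h2 hab hcd
    refine (Nat.card_congr (SubMulAction.fixingSubgroupEquivFixingSubgroup (g := g) ?_).toEquiv).symm
    rw [Set.smul_set_insert, Set.smul_set_singleton, hgc, hgd]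
  let j : (Q : Subgroup W) →* N := W.subtype.comp (Q : Subgroup W).subtype
  have hj : Function.Injective j := Subtype.val_injective.comp Subtype.val_injective
  have hjle : j.range ≤ fixingSubgroup N ({(c' : α), (d' : α)} : Set α) := by
    rintro _ ⟨q, rfl⟩
    rw [mem_fixingSubgroup_iff]
    rintro y (rfl | rfl)
    · exact hQc q
    · exact hQd q
  have hdvd : Nat.card (Q : Subgroup W) ∣ Nat.card P := by
    rw [← hcardP, Nat.card_congr (MonoidHom.ofInjective hj).toEquiv]
    exact Subgroup.card_dvd_of_le hjle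
  rw [Sylow.card_eq_multiplicity, hWcard, Nat.factorization_mul two_ne_zero Nat.card_pos.ne',
    Finsupp.add_apply, Nat.prime_two.factorization_self,
    Nat.prime_two.pow_dvd_iff_le_factorization Nat.card_pos.ne'] at hdvd
  omega

/-- Wagner's Theorem: a non-trivial normal subgroup of a triply transitive permutation group of odd degree at least 5 is triply transitive. -/
theorem result {α : Type*} [Fintype α] [DecidableEq α] (G : Subgroup (Equiv.Perm α)) (hodd : Odd (Fintype.card α)) (h5 : 5 ≤ Fintype.card α) (hG : MulAction.IsMultiplyPretransitive G α 3) (N : Subgroup G) [N.Normal] (hN : N ≠ ⊥) : MulAction.IsMultiplyPretransitive N α 3 := by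
  haveI := hG
  have hn : Nat.card α = Fintype.card α := Nat.card_eq_fintype_card
  rcases CfsgLib.Perm.jordan_normal G (k := 3) (by omega) (by omega) N hN with h | ⟨-, hc, hexp⟩
  · haveI := h
    exact odd_three_transitive G hodd N
  · exfalso
    haveI : Fact (Nat.Prime 2) := ⟨Nat.prime_two⟩
    haveI : MulAction.IsMultiplyPretransitive G α 2 :=
      MulAction.isMultiplyPretransitive_of_le (n := 3) (by omega) (by omega)
    haveI : MulAction.IsPreprimitive G α := MulAction.isPreprimitive_of_is_two_pretransitive ‹_›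
    haveI : MulAction.IsPretransitive N α := CfsgLib.Perm.isPretransitive_of_normal N hN
    obtain ⟨a⟩ : Nonempty α := Fintype.card_pos_iff.mp (by omega)
    have hcard := CfsgLib.Perm.card_eq_of_regular N a ‹_›
      (CfsgLib.Perm.stabilizer_eq_bot_of_commutative N hc a)
    obtain ⟨m, hm⟩ := IsPGroup.iff_card.mp (show IsPGroup 2 N from fun x =>
      ⟨1, Subtype.ext (by simpa using hexp x x.2)⟩)
    rw [hcard, hn] at hm
    rw [hm] at hodd h5
    have := (Nat.odd_pow_iff (show m ≠ 0 by rintro rfl; simp at h5)).mp hodd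
    exact absurd this (by decide)

end Cfsg.Agent.S0699
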