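import Cfsg.Statements.S0700
import Cfsg.Agent.Lib.Perm.Basic
import Cfsg.Agent.Lib.Frobenius.Theorem
import Mathlib.GroupTheory.GroupAction.Blocks
import Mathlib.GroupTheory.Complement

set_option autoImplicit false
open Cfsg

open scoped Pointwise

namespace Cfsg.Agent.S0700

section
variable {G : Type*} [Group G] {α : Type*} [MulAction G α] (N : Subgroup G) [N.Normal]

/-- The smallest block of `N` through two points. -/
def line (x y : α) : Set α :=
  ⋂ B : {B : Set α // MulAction.IsBlock N B ∧ x ∈ B ∧ y ∈ B}, (B : Set α)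

omit [N.Normal] in
theorem isBlock_line (x y : α) : MulAction.IsBlock N (line N x y) :=
  MulAction.IsBlock.iInter fun B => B.2.1

omit [N.Normal] in
theorem mem_line (x y : α) : x ∈ line N x y ∧ y ∈ line N x y :=
  ⟨Set.mem_iInter.mpr fun B => B.2.2.1, Set.mem_iInter.mpr fun B => B.2.2.2⟩

omit [N.Normal] in
theorem line_subset {x y : α} {B : Set α} (hB : MulAction.IsBlock N B) (hx : x ∈ B) (hy : y ∈ B) :
    line N x y ⊆ B :=
  Set.iInter_subset (fun B : {B : Set α // MulAction.IsBlock N B ∧ x ∈ B ∧ y ∈ B} => (B : Set α))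
    ⟨B, hB, hx, hy⟩

theorem isBlock_smul {B : Set α} (hB : MulAction.IsBlock N B) (g : G) :
    MulAction.IsBlock N (g • B) := by
  rw [MulAction.isBlock_iff_smul_eq_of_mem]
  intro n a ha hna
  obtain ⟨b, hb, rfl⟩ := ha
  let m : N := ⟨g⁻¹ * n * g, by simpa using ‹N.Normal›.conj_mem _ n.2 g⁻¹⟩
  have hm : ∀ z : α, n • g • z = g • m • z := fun z => by
    show (n : G) • g • z = g • (g⁻¹ * n * g) • z
    rw [smul_smul, smul_smul]; congr 1; group
  have h1 : m • b ∈ B := by
    have h : g • m • b ∈ g • B := hm b ▸ hna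
    exact Set.smul_mem_smul_set_iff.mp h
  have h2 := hB.smul_eq_of_mem hb h1
  ext z
  constructor
  · rintro ⟨_, ⟨w, hw, rfl⟩, rfl⟩
    refine ⟨m • w, ?_, (hm w).symm⟩
    rw [← h2]; exact Set.smul_mem_smul_set hw
  · rintro ⟨w, hw, rfl⟩
    rw [← h2] at hw
    obtain ⟨v, hv, rfl⟩ := hw
    exact ⟨g • v, Set.smul_mem_smul_set hv, hm v⟩

theorem line_smul_subset (g : G) (x y : α) : line N (g • x) (g • y) ⊆ g • line N x y :=
  line_subset N (isBlock_smul N (isBlock_line N x y) g) (Set.smul_mem_smul_set (mem_line N x y).1)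
    (Set.smul_mem_smul_set (mem_line N x y).2)

/-- An imprimitive normal subgroup of a 2-transitive group is semiregular or Frobenius. -/
theorem eq_one_of_fix_two [FaithfulSMul G α] [Finite α]
    [MulAction.IsMultiplyPretransitive G α 2] [MulAction.IsPretransitive N α]
    (hnp : ¬ MulAction.IsPreprimitive N α) {x y : α} (hxy : x ≠ y) {n : N}
    (hx : n • x = x) (hy : n • y = y) : n = 1 := by
  obtain ⟨B, hB, hBt⟩ : ∃ B : Set α, MulAction.IsBlock N B ∧ ¬ MulAction.IsTrivialBlock B := by
    by_contra h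
    push Not at h
    exact hnp { isTrivialBlock_of_isBlock := fun {B} hB => h B hB }
  rw [MulAction.IsTrivialBlock, not_or, Set.not_subsingleton_iff] at hBt
  obtain ⟨⟨u, hu, v, hv, huv⟩, hBu⟩ := hBt
  have h2 : ∀ {a b c d : α}, a ≠ b → c ≠ d → ∃ g : G, g • a = c ∧ g • b = d :=
    (MulAction.is_two_pretransitive_iff (G := G) (α := α)).mp ‹_›
  have hcard : ∀ {a b c d : α}, a ≠ b → c ≠ d →
      (line N a b).ncard ≤ (line N c d).ncard := by
    intro a b c d hab hcd
    obtain ⟨g, hg1, hg2⟩ := h2 hcd hab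
    rw [← hg1, ← hg2]
    exact (Set.ncard_le_ncard (line_smul_subset N g c d) (Set.toFinite _)).trans
      (le_of_eq (Set.ncard_smul_set g _))
  have hproper : ∀ {a b : α}, a ≠ b → line N a b ≠ Set.univ := fun {a b} hab h => hBu <| by
    refine Set.eq_of_subset_of_ncard_le (Set.subset_univ _) ?_ (Set.toFinite _)
    rw [← h]
    exact (hcard hab huv).trans (Set.ncard_le_ncard (line_subset N hB hu hv) (Set.toFinite _))
  have huniq : ∀ {a b z : α}, a ≠ b → a ≠ z → z ∈ line N a b → line N a z = line N a b :=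
    fun {a b z} hab haz hz => Set.eq_of_subset_of_ncard_le
      (line_subset N (isBlock_line N a b) (mem_line N a b).1 hz) (hcard hab haz) (Set.toFinite _)
  have hcomm : ∀ {a b : α}, line N a b = line N b a := fun {a b} =>
    Set.Subset.antisymm (line_subset N (isBlock_line N b a) (mem_line N b a).2 (mem_line N b a).1)
      (line_subset N (isBlock_line N a b) (mem_line N a b).2 (mem_line N a b).1)
  have hfix : ∀ {m : N} {a b : α}, m • a = a → m • b ∈ line N a b := fun {m a b} hm => by
    have h := (isBlock_line N a b).smul_eq_of_mem (g := m) (mem_line N a b).1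
      (hm.symm ▸ (mem_line N a b).1)
    rw [← h]; exact Set.smul_mem_smul_set (mem_line N a b).2
  -- points off the line through two fixed points are fixed
  have hoff : ∀ {a b : α}, a ≠ b → n • a = a → n • b = b → ∀ z, z ∉ line N a b → n • z = z := by
    intro a b hab ha hb z hz
    by_contra hne
    have haz : a ≠ z := fun e => hz (e ▸ (mem_line N a b).1)
    have hbz : b ≠ z := fun e => hz (e ▸ (mem_line N a b).2)
    have e1 : line N z (n • z) = line N a z := by
      rw [huniq (b := a) (Ne.symm haz) (Ne.symm hne) (hcomm ▸ hfix ha), hcomm]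
    have e2 : line N z (n • z) = line N b z := by
      rw [huniq (b := b) (Ne.symm hbz) (Ne.symm hne) (hcomm ▸ hfix hb), hcomm]
    have hb' : b ∈ line N a z := by
      rw [← e1, e2]; exact (mem_line N b z).1
    exact hz (huniq haz hab hb' ▸ (mem_line N a z).2)
  obtain ⟨w, hw⟩ := (Set.ne_univ_iff_exists_notMem _).mp (hproper hxy)
  have hwf := hoff hxy hx hy w hw
  have hxw : x ≠ w := fun e => hw (e ▸ (mem_line N x y).1)
  refine Subtype.ext (FaithfulSMul.eq_of_smul_eq_smul (α := α) fun z => ?_)
  show n • z = (1 : G) • z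
  rw [one_smul]
  by_cases hz : z ∈ line N x y
  · by_cases hzx : z = x
    · rw [hzx, hx]
    · refine hoff hxw hx hwf z fun hz' => hw ?_
      rw [← huniq hxy (Ne.symm hzx) hz, huniq hxw (Ne.symm hzx) hz']
      exact (mem_line N x w).2
  · exact hoff hxy hx hy z hz

omit [N.Normal] in
/-- A nonidentity element of the kernel has no fixed point. -/
theorem mem_frobeniusKernel_iff [MulAction.IsPretransitive N α] (a : α) (m : N) :
    m ∈ Cfsg.frobeniusKernel (MulAction.stabilizer N a) ↔ m = 1 ∨ ∀ b : α, m • b ≠ b := by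
  refine or_congr Iff.rfl ⟨fun h b hb => ?_, fun h g hg => ?_⟩
  · obtain ⟨g, rfl⟩ := MulAction.exists_smul_eq N a b
    refine h g ?_
    rw [Subgroup.mem_pointwise_smul_iff_inv_smul_mem, MulAction.mem_stabilizer_iff,
      MulAut.smul_def, ← map_inv, MulAut.conj_apply, inv_inv, mul_smul, mul_smul, hb,
      inv_smul_smul]
  · rw [Subgroup.mem_pointwise_smul_iff_inv_smul_mem, MulAction.mem_stabilizer_iff,
      MulAut.smul_def, ← map_inv, MulAut.conj_apply, inv_inv, mul_smul, mul_smul,
      inv_smul_eq_iff] at hg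
    exact h _ hg

end

theorem exists_minimal_normal {H : Type*} [Group H] [Finite H] {L : Subgroup H} (hL : L.Normal)
    (hne : L ≠ ⊥) : ∃ M : Subgroup H, M ≤ L ∧ M.Normal ∧ M ≠ ⊥ ∧
      ∀ K : Subgroup H, K.Normal → K ≤ M → K = ⊥ ∨ K = M := by
  obtain ⟨M, hM⟩ := ({K : Subgroup H | K ≤ L ∧ K.Normal ∧ K ≠ ⊥}).toFinite.exists_minimal
    ⟨L, le_rfl, hL, hne⟩
  refine ⟨M, hM.1.1, hM.1.2.1, hM.1.2.2, fun K hK hKM => or_iff_not_imp_left.mpr fun hK0 => ?_⟩
  exact le_antisymm hKM (hM.2 ⟨hKM.trans hM.1.1, hK, hK0⟩ hKM)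

theorem simple_of_primitive {α : Type*} [Finite α] (G : Subgroup (Equiv.Perm α))
    [MulAction.IsMultiplyPretransitive G α 2] (N : Subgroup G) [N.Normal] (hN : N ≠ ⊥)
    (hmin : ∀ M : Subgroup G, M.Normal → M ≤ N → M = ⊥ ∨ M = N)
    [MulAction.IsPreprimitive N α] : IsSimpleGroup N := by
  haveI : Nontrivial N := (Subgroup.nontrivial_iff_ne_bot N).mpr hN
  refine ⟨fun L hL => or_iff_not_imp_left.mpr fun hL0 => ?_⟩
  obtain ⟨M, hML, hMn, hM0, hMmin⟩ := exists_minimal_normal hL hL0
  by_contra hLtop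
  have hMtop : M ≠ ⊤ := fun h => hLtop (top_le_iff.mp (h ▸ hML))
  have himg : ¬ (M.map N.subtype).Normal := fun h => by
    rcases hmin _ h (Subgroup.map_subtype_le M) with e | e
    · exact hM0 ((Subgroup.map_eq_bot_iff_of_injective _ Subtype.val_injective).mp e)
    · refine hMtop (eq_top_iff.mpr fun x _ => ?_)
      have hx : (x : G) ∈ M.map N.subtype := e.symm ▸ x.2
      exact (Subgroup.mem_map_iff_mem Subtype.val_injective).mp hx
  -- a conjugate different from `M`
  obtain ⟨g, hg⟩ : ∃ g : G, M.map (MulAut.conjNormal g : MulAut N).toMonoidHom ≠ M := by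
    by_contra h
    push Not at h
    apply himg
    refine ⟨fun x hx g => ?_⟩
    obtain ⟨m, hm, rfl⟩ := hx
    refine ⟨MulAut.conjNormal g m, ?_, MulAut.conjNormal_apply g m⟩
    exact h g ▸ Subgroup.mem_map_of_mem (f := (MulAut.conjNormal g : MulAut N).toMonoidHom) hm
  set φ : ∀ g : G, N →* N := fun g => (MulAut.conjNormal g : MulAut N).toMonoidHom with hφ
  have hφinj : ∀ g : G, Function.Injective (φ g) := fun g => (MulAut.conjNormal g : MulAut N).injective
  have hφsurj : ∀ g : G, Function.Surjective (φ g) := fun g =>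
    (MulAut.conjNormal g : MulAut N).surjective
  have hnormal : ∀ g : G, (M.map (φ g)).Normal := fun g => hMn.map _ (hφsurj g)
  have hne' : ∀ g : G, M.map (φ g) ≠ ⊥ := fun g h =>
    hM0 ((Subgroup.map_eq_bot_iff_of_injective _ (hφinj g)).mp h)
  have hminimal : ∀ g : G, ∀ K : Subgroup N, K.Normal → K ≤ M.map (φ g) → K = ⊥ ∨ K = M.map (φ g) := by
    intro g K hK hKle
    have hle : K.comap (φ g) ≤ M := fun x hx =>
      (Subgroup.mem_map_iff_mem (hφinj g)).mp (hKle hx)
    have hmc := Subgroup.map_comap_eq_self_of_surjective (hφsurj g) K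
    rcases hMmin _ (hK.comap _) hle with e | e
    · left; rw [← hmc, e, Subgroup.map_bot]
    · right; rw [← hmc, e]
  set M' := M.map (φ g) with hM'
  haveI := hMn
  haveI := hnormal g
  haveI : MulAction.IsPretransitive M α := CfsgLib.Perm.isPretransitive_of_normal M hM0
  haveI : MulAction.IsPretransitive M' α := CfsgLib.Perm.isPretransitive_of_normal M' (hne' g)
  have hnle : ¬ M ≤ M' := fun h => (hminimal g M hMn h).elim hM0 (fun e => hg e.symm)
  have hcomm := CfsgLib.Perm.commute_of_minimal_normal hMmin hnle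
  obtain ⟨a⟩ : Nonempty α := by
    by_contra h
    haveI : IsEmpty α := not_nonempty_iff.mp h
    exact hN ((Subgroup.eq_bot_iff_forall N).mpr fun m _ =>
      Subtype.ext (Equiv.ext fun x => isEmptyElim x))
  haveI : Nonempty α := ⟨a⟩
  have hreg : ∀ b : α, MulAction.stabilizer M b = ⊥ := fun b =>
    CfsgLib.Perm.stabilizer_eq_bot_of_commute M' M (fun m hm x hx => (hcomm x hx m hm).symm) b
  have hreg' : ∀ b : α, MulAction.stabilizer M' b = ⊥ := fun b =>
    CfsgLib.Perm.stabilizer_eq_bot_of_commute M M' hcomm b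
  -- all minimal normal subgroups are `M` and `M'`
  have hconj : ∀ k : G, M.map (φ k) = M ∨ M.map (φ k) = M' := by
    intro k
    by_contra h
    rw [not_or] at h
    haveI := hnormal k
    have hk1 : ¬ M.map (φ k) ≤ M := fun e => (hMmin _ (hnormal k) e).elim (hne' k) h.1
    have hc1 := CfsgLib.Perm.commute_of_minimal_normal (hminimal k) hk1
    exact (hminimal g _ (hnormal k) fun l hl =>
      CfsgLib.Perm.mem_of_commute_of_transitive (α := α) M M' hcomm
        (fun m hm => (hc1 l hl m hm).symm)).elim (hne' k) h.2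
  -- the two representatives of a point have the same order
  have hord : ∀ m : N, m ∈ M → ∀ m' : N, m' ∈ M' → m • a = m' • a → orderOf m' = orderOf m := by
    intro m hm m' hm' he
    have hpow : ∀ j : ℕ, m' ^ j • a = m ^ j • a := by
      intro j
      induction j with
      | zero => simp
      | succ j ih =>
        rw [pow_succ, mul_smul, ← he, smul_smul,
          ← hcomm m hm _ (M'.pow_mem hm' j), mul_smul, ih, smul_smul, ← pow_succ']
    refine orderOf_eq_orderOf_iff.mpr fun j => ⟨fun h => ?_, fun h => ?_⟩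
    · have h2 := hpow j
      rw [h, one_smul] at h2
      have h3 : (⟨m ^ j, M.pow_mem hm j⟩ : M) ∈ MulAction.stabilizer M a := h2.symm
      rw [hreg, Subgroup.mem_bot] at h3
      exact congrArg Subtype.val h3
    · have h2 := hpow j
      rw [h, one_smul] at h2
      have h3 : (⟨m' ^ j, M'.pow_mem hm' j⟩ : M') ∈ MulAction.stabilizer M' a := h2
      rw [hreg', Subgroup.mem_bot] at h3
      exact congrArg Subtype.val h3
  have hsame : ∀ x y : M, x ≠ 1 → y ≠ 1 → orderOf x = orderOf y := by
    intro x y hx hy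
    have hxa : a ≠ x • a := fun e => hx (by
      have h : x ∈ MulAction.stabilizer M a := e.symm
      rwa [hreg, Subgroup.mem_bot] at h)
    have hya : a ≠ y • a := fun e => hy (by
      have h : y ∈ MulAction.stabilizer M a := e.symm
      rwa [hreg, Subgroup.mem_bot] at h)
    obtain ⟨k, hka, hkx⟩ := (MulAction.is_two_pretransitive_iff (G := G) (α := α)).mp ‹_› hxa hya
    have hz : φ k (x : N) • a = y • a := by
      rw [← hkx]
      show ((MulAut.conjNormal k (x : N) : N) : G) • a = k • ((x : N) : G) • a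
      rw [MulAut.conjNormal_apply, ← CfsgLib.Perm.smul_smul_of_fix hka]
    rw [← Subgroup.orderOf_coe x, ← Subgroup.orderOf_coe y, ← orderOf_injective (φ k) (hφinj k)]
    have hzm : φ k (x : N) ∈ M.map (φ k) := Subgroup.mem_map_of_mem _ x.2
    rcases hconj k with e | e
    · rw [e] at hzm
      exact congrArg orderOf (congrArg Subtype.val
        (CfsgLib.Perm.smul_left_injective_of_stabilizer_eq_bot (hreg a)
          (a₁ := (⟨_, hzm⟩ : M)) (a₂ := y) hz))
    · rw [e] at hzm
      exact hord y y.2 _ hzm hz.symm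
  haveI : Nontrivial M := (Subgroup.nontrivial_iff_ne_bot M).mpr hM0
  obtain ⟨p, hp, -, hpg⟩ := CfsgLib.Perm.exists_prime_forall_pow_eq_one hsame
  haveI : Fact p.Prime := ⟨hp⟩
  haveI := hpg.center_nontrivial
  have hZn : ((Subgroup.center M).map M.subtype).Normal := inferInstance
  rcases hMmin _ hZn (Subgroup.map_subtype_le _) with e | e
  · exact (Subgroup.nontrivial_iff_ne_bot _).mp ‹Nontrivial (Subgroup.center M)›
      ((Subgroup.map_eq_bot_iff_of_injective _ Subtype.val_injective).mp e)
  · apply hnle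
    intro m hm
    refine CfsgLib.Perm.mem_of_commute_of_transitive (α := α) M M' hcomm fun x hx => ?_
    rw [← e] at hm
    obtain ⟨z, hz, rfl⟩ := hm
    exact congrArg Subtype.val (Subgroup.mem_center_iff.mp hz ⟨x, hx⟩)

/-- Burnside's Theorem on doubly transitive groups: a minimal normal subgroup of a finite doubly transitive permutation group is elementary abelian and regular, or simple and primitive. -/
theorem result {α : Type*} [Fintype α] [DecidableEq α] (G : Subgroup (Equiv.Perm α)) (hG : MulAction.IsMultiplyPretransitive G α 2) (N : Subgroup G) [N.Normal] (hN : N ≠ ⊥) (hmin : ∀ M : Subgroup G, M.Normal → M ≤ N → M = ⊥ ∨ M = N) : (IsMulCommutative N ∧ (∃ p : ℕ, p.Prime ∧ ∀ n ∈ N, n ^ p = 1) ∧ ∀ a : α, MulAction.stabilizer N a = ⊥) ∨ (IsSimpleGroup N ∧ MulAction.IsPreprimitive N α) := by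
  classical
  haveI := hG
  have hcard : 2 ≤ Nat.card α := by
    by_contra h
    haveI : Subsingleton α := Finite.card_le_one_iff_subsingleton.mp (by omega)
    exact hN ((Subgroup.eq_bot_iff_forall N).mpr fun m _ =>
      Subtype.ext (Equiv.ext fun x => Subsingleton.elim _ _))
  haveI : Nontrivial α := Finite.one_lt_card_iff_nontrivial.mp (by omega)
  haveI : MulAction.IsPreprimitive G α := MulAction.isPreprimitive_of_is_two_pretransitive hG
  haveI : MulAction.IsPretransitive N α := CfsgLib.Perm.isPretransitive_of_normal N hN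
  by_cases hreg : ∀ a : α, MulAction.stabilizer N a = ⊥
  · obtain ⟨h1, h2⟩ := CfsgLib.Perm.regular_normal_elementary_abelian N hN hreg
    exact Or.inl ⟨h1, h2, hreg⟩
  right
  suffices hprim : MulAction.IsPreprimitive N α from
    ⟨@simple_of_primitive _ _ G _ N _ hN hmin hprim, hprim⟩
  by_contra hnp
  push Not at hreg
  obtain ⟨a, ha⟩ := hreg
  set H := MulAction.stabilizer N a with hH
  have hFC : Cfsg.IsFrobeniusComplement H := by
    refine ⟨ha, fun h => ?_, fun g hg => ?_⟩
    · obtain ⟨b, hb⟩ := exists_ne a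
      obtain ⟨m, hm⟩ := MulAction.exists_smul_eq N a b
      have : m ∈ H := h ▸ Subgroup.mem_top m
      exact hb (hm ▸ this)
    · rw [eq_bot_iff]
      rintro x ⟨hx1, hx2⟩
      rw [Subgroup.mem_bot]
      replace hx2 : x ∈ MulAut.conj g • H := hx2
      rw [Subgroup.mem_pointwise_smul_iff_inv_smul_mem, MulAut.smul_def,
        ← map_inv, MulAut.conj_apply, inv_inv, hH, MulAction.mem_stabilizer_iff, mul_smul, mul_smul,
        inv_smul_eq_iff] at hx2
      exact eq_one_of_fix_two N hnp (x := a) (y := g • a) (fun e => hg e.symm) hx1 hx2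
  obtain ⟨K, hK, -, hKH⟩ := CfsgLib.Frobenius.exists_kernel_subgroup hFC
  have hmem : ∀ m : N, m ∈ K ↔ m = 1 ∨ ∀ b : α, m • b ≠ b := fun m => by
    rw [← mem_frobeniusKernel_iff N a m, ← hK]; rfl
  have hKn : (K.map N.subtype).Normal := ⟨fun x hx g => by
    obtain ⟨m, hm, rfl⟩ := hx
    refine ⟨MulAut.conjNormal g m, (hmem _).mpr ?_, MulAut.conjNormal_apply g m⟩
    rcases (hmem m).mp hm with rfl | h
    · left; simp
    · right
      intro b hb
      refine h (g⁻¹ • b) ?_
      have hb' : ((MulAut.conjNormal g m : N) : G) • b = b := hb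
      rw [MulAut.conjNormal_apply, mul_smul, mul_smul] at hb'
      exact eq_inv_smul_iff.mpr hb'⟩
  rcases hmin _ hKn (Subgroup.map_subtype_le K) with e | e
  · rw [Subgroup.map_eq_bot_iff_of_injective _ Subtype.val_injective] at e
    subst e
    exact hFC.2.1 (Subgroup.isComplement'_bot_left.mp hKH)
  · have hKtop : K = ⊤ := eq_top_iff.mpr fun x _ => by
      have hx : (x : G) ∈ K.map N.subtype := e.symm ▸ x.2
      exact (Subgroup.mem_map_iff_mem Subtype.val_injective).mp hx
    subst hKtop
    exact ha (Subgroup.isComplement'_top_left.mp hKH)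

end Cfsg.Agent.S0700
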