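import Cfsg.Statements.S0701
import Cfsg.Agent.Lib.Perm.Basic

set_option autoImplicit false
open Cfsg

namespace Cfsg.Agent.S0701

/-- The centraliser in the full symmetric group of a transitive permutation group `G` is semiregular, and it is transitive if and only if `G` is regular. -/
theorem result {α : Type*} (G : Subgroup (Equiv.Perm α)) [MulAction.IsPretransitive G α] : (∀ c ∈ Subgroup.centralizer (G : Set (Equiv.Perm α)), ∀ a : α, c a = a → c = 1) ∧ (MulAction.IsPretransitive (Subgroup.centralizer (G : Set (Equiv.Perm α))) α ↔ ∀ a : α, MulAction.stabilizer G a = ⊥) := by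
  refine ⟨fun c hc a ha => ?_, ⟨fun ht a => ?_, fun hreg => ⟨fun a b => ?_⟩⟩⟩
  · exact CfsgLib.Perm.eq_one_of_commute_transitive G
      (fun m hm => (Subgroup.mem_centralizer_iff.mp hc m hm)) ha
  · rw [eq_bot_iff]
    intro g hg
    rw [Subgroup.mem_bot]
    exact Subtype.ext (CfsgLib.Perm.eq_one_of_commute_transitive
      (Subgroup.centralizer (G : Set (Equiv.Perm α)))
      (fun m hm => ((Subgroup.mem_centralizer_iff.mp hm) g g.2).symm) (a := a) hg)
  · let e : ∀ x : α, G ≃ α := fun x => CfsgLib.Perm.regularEquiv G x ‹_› (hreg x)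
    let c : Equiv.Perm α := (e a).symm.trans (e b)
    have hc : ∀ (g : G), c (g • a) = g • b := fun g => by
      show e b ((e a).symm (g • a)) = g • b
      rw [show g • a = e a g from rfl, Equiv.symm_apply_apply]
      rfl
    refine ⟨⟨c, ?_⟩, ?_⟩
    · rw [Subgroup.mem_centralizer_iff]
      intro g hg
      ext x
      obtain ⟨h, rfl⟩ := MulAction.exists_smul_eq G a x
      have h1 := hc (⟨g, hg⟩ * h)
      rw [mul_smul, mul_smul] at h1
      rw [Equiv.Perm.mul_apply, Equiv.Perm.mul_apply, hc]
      exact h1.symm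
    · show c a = b
      simpa using hc 1

end Cfsg.Agent.S0701
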