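import Cfsg.Statements.S0702
import Mathlib.GroupTheory.QuotientGroup.Basic
import Mathlib.GroupTheory.GroupAction.Quotient
import Mathlib.GroupTheory.Perm.Subgroup
import Mathlib.Algebra.Group.Subgroup.Finite

set_option autoImplicit false
open Cfsg

namespace Cfsg.Agent.S0702

noncomputable def sect {G : Type*} [Group G] {α : Type*} [MulAction G α]
    [MulAction.IsPretransitive G α] (a x : α) : G :=
  (MulAction.exists_smul_eq G a x).choose

theorem sect_smul {G : Type*} [Group G] {α : Type*} [MulAction G α]
    [MulAction.IsPretransitive G α] (a x : α) : sect (G := G) a x • a = x :=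
  (MulAction.exists_smul_eq G a x).choose_spec

/-- the map sending `g • a` to `g • n⁻¹ • a` -/
noncomputable def cmap {G : Type*} [Group G] {α : Type*} [MulAction G α]
    [MulAction.IsPretransitive G α] (a : α) (n : G) (x : α) : α :=
  sect (G := G) a x • n⁻¹ • a

theorem cmap_smul {G : Type*} [Group G] {α : Type*} [MulAction G α]
    [MulAction.IsPretransitive G α] (a : α) {n : G}
    (hn : n ∈ Subgroup.normalizer ((MulAction.stabilizer G a : Subgroup G) : Set G)) (g : G) :
    cmap a n (g • a) = g • n⁻¹ • a := by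
  unfold cmap
  have h := sect_smul (G := G) a (g • a)
  set s := sect (G := G) a (g • a)
  have hh : g⁻¹ * s ∈ MulAction.stabilizer G a := by
    rw [MulAction.mem_stabilizer_iff, mul_smul, h, inv_smul_smul]
  have := (Subgroup.mem_normalizer_iff.mp hn (g⁻¹ * s)).mp hh
  rw [MulAction.mem_stabilizer_iff] at this
  simp only [mul_smul] at this
  rw [← eq_inv_smul_iff] at this
  rwa [inv_smul_eq_iff] at this

theorem mem_normalizer_of_fix {G : Type*} [Group G] {α : Type*} [MulAction G α] [Finite G]
    (a : α) (k : G) (hk : ∀ h ∈ MulAction.stabilizer G a, h • k • a = k • a) :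
    k⁻¹ ∈ Subgroup.normalizer ((MulAction.stabilizer G a : Subgroup G) : Set G) := by
  set H := MulAction.stabilizer G a
  refine Subgroup.mem_normalizer_fintype (S := (H : Set G)) fun h hh => ?_
  rw [inv_inv, SetLike.mem_coe, MulAction.mem_stabilizer_iff, mul_smul, mul_smul, hk h hh,
    inv_smul_smul]

/-- For a transitive permutation group `G` on a finite set, the centraliser of `G` in the symmetric group is isomorphic to `N_G(G_ω)/G_ω`, and its orbit of `ω` is the set of fixed points of `G_ω`. -/
theorem result {α : Type*} [Finite α] (G : Subgroup (Equiv.Perm α)) [MulAction.IsPretransitive G α] (a : α) : Nonempty (Subgroup.centralizer (G : Set (Equiv.Perm α)) ≃* Subgroup.normalizer ((MulAction.stabilizer G a : Subgroup G) : Set G) ⧸ (MulAction.stabilizer G a).subgroupOf (Subgroup.normalizer ((MulAction.stabilizer G a : Subgroup G) : Set G))) ∧ MulAction.orbit (Subgroup.centralizer (G : Set (Equiv.Perm α))) a = MulAction.fixedPoints (MulAction.stabilizer G a) α := by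
  classical
  set H := MulAction.stabilizer G a with hH
  set N := Subgroup.normalizer (H : Set G) with hN
  have hwd : ∀ (n : N) (g : G), cmap a (n : G) (g • a) = g • (n : G)⁻¹ • a :=
    fun n g => cmap_smul a n.2 g
  have hinv : ∀ (n : N) (x : α), cmap a ((n⁻¹ : N) : G) (cmap a (n : G) x) = x := fun n x => by
    obtain ⟨g, rfl⟩ := MulAction.exists_smul_eq G a x
    rw [hwd, smul_smul, hwd, Subgroup.coe_inv, inv_inv, smul_smul, inv_mul_cancel_right]
  let f : N →* Subgroup.centralizer (G : Set (Equiv.Perm α)) :=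
  { toFun := fun n => ⟨⟨cmap a (n : G), cmap a ((n⁻¹ : N) : G), hinv n, fun x => by
        simpa using hinv n⁻¹ x⟩, by
      rw [Subgroup.mem_centralizer_iff]
      intro u hu
      ext x
      obtain ⟨g, rfl⟩ := MulAction.exists_smul_eq G a x
      show u (cmap a (n : G) (g • a)) = cmap a (n : G) (u (g • a))
      have h1 : u (g • a) = ((⟨u, hu⟩ : G) * g) • a := by rw [mul_smul]; rfl
      rw [h1, hwd, hwd, mul_smul]
      rfl⟩
    map_one' := by
      apply Subtype.ext
      ext x
      obtain ⟨g, rfl⟩ := MulAction.exists_smul_eq G a x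
      show cmap a ((1 : N) : G) (g • a) = g • a
      rw [hwd, Subgroup.coe_one, inv_one, one_smul]
    map_mul' := fun m n => by
      apply Subtype.ext
      ext x
      obtain ⟨g, rfl⟩ := MulAction.exists_smul_eq G a x
      show cmap a ((m * n : N) : G) (g • a) = cmap a (m : G) (cmap a (n : G) (g • a))
      rw [hwd, hwd, smul_smul g, smul_smul g, hwd, Subgroup.coe_mul, mul_inv_rev, smul_smul,
        mul_assoc] }
  have hfa : ∀ n : N, (f n : Equiv.Perm α) a = (n : G)⁻¹ • a := fun n => by
    show cmap a (n : G) a = _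
    simpa using hwd n 1
  have hker : f.ker = H.subgroupOf N := by
    ext n
    rw [MonoidHom.mem_ker, Subgroup.mem_subgroupOf, hH, MulAction.mem_stabilizer_iff]
    constructor
    · intro h
      have h2 := hfa n
      rw [h] at h2
      rw [show ((1 : Subgroup.centralizer (G : Set (Equiv.Perm α))) : Equiv.Perm α) a = a from rfl,
        eq_inv_smul_iff] at h2
      exact h2
    · intro h
      apply Subtype.ext
      ext x
      obtain ⟨g, rfl⟩ := MulAction.exists_smul_eq G a x
      show cmap a (n : G) (g • a) = g • a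
      rw [hwd, inv_smul_eq_iff.mpr h.symm]
  have hcomm : ∀ (c : Subgroup.centralizer (G : Set (Equiv.Perm α))) (g : G) (x : α),
      g • (c : Equiv.Perm α) x = (c : Equiv.Perm α) (g • x) := fun c g x =>
    congrArg (fun σ : Equiv.Perm α => σ x) (Subgroup.mem_centralizer_iff.mp c.2 g g.2)
  have hfix : ∀ k : G, (∀ h ∈ H, h • k • a = k • a) → ∃ n : N, (f n : Equiv.Perm α) a = k • a :=
    fun k hk => ⟨⟨k⁻¹, mem_normalizer_of_fix a k hk⟩, by rw [hfa, inv_inv]⟩
  have hsurj : Function.Surjective f := by
    intro c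
    obtain ⟨k, hk⟩ := MulAction.exists_smul_eq G a ((c : Equiv.Perm α) a)
    obtain ⟨n, hn⟩ := hfix k fun h hh => by
      rw [hk, hcomm, MulAction.mem_stabilizer_iff.mp hh]
    refine ⟨n, Subtype.ext (Equiv.ext fun x => ?_)⟩
    obtain ⟨g, rfl⟩ := MulAction.exists_smul_eq G a x
    rw [← hcomm, ← hcomm, hn, hk]
  refine ⟨⟨((QuotientGroup.quotientMulEquivOfEq hker.symm).trans
    (QuotientGroup.quotientKerEquivOfSurjective f hsurj)).symm⟩, Set.ext fun b => ⟨?_, ?_⟩⟩
  · rintro ⟨c, rfl⟩ h
    show (h : G) • (c : Equiv.Perm α) a = (c : Equiv.Perm α) a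
    rw [hcomm, MulAction.mem_stabilizer_iff.mp h.2]
  · intro hb
    obtain ⟨k, rfl⟩ := MulAction.exists_smul_eq G a b
    obtain ⟨n, hn⟩ := hfix k fun h hh => hb ⟨h, hh⟩
    exact ⟨f n, hn⟩

end Cfsg.Agent.S0702
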