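import Cfsg.Statements.S0703
import Cfsg.Agent.Lib.Perm.Basic

set_option autoImplicit false
open Cfsg

namespace Cfsg.Agent.S0703

/-- An abelian transitive minimal normal subgroup `M` of a permutation group on a finite set is self-centralising in the symmetric group, regular, elementary abelian, and is the unique minimal normal subgroup. -/
theorem result {α : Type*} [Finite α] (G : Subgroup (Equiv.Perm α)) (M : Subgroup G) [M.Normal] (hM : M ≠ ⊥) (hmin : ∀ L : Subgroup G, L.Normal → L ≤ M → L = ⊥ ∨ L = M) (hab : IsMulCommutative M) (htrans : MulAction.IsPretransitive M α) : Subgroup.centralizer ((M.map G.subtype : Subgroup (Equiv.Perm α)) : Set (Equiv.Perm α)) = M.map G.subtype ∧ (∀ a : α, MulAction.stabilizer M a = ⊥) ∧ (∃ p : ℕ, p.Prime ∧ ∀ m ∈ M, m ^ p = 1) ∧ ∀ L : Subgroup G, L.Normal → L ≠ ⊥ → (∀ L' : Subgroup G, L'.Normal → L' ≤ L → L' = ⊥ ∨ L' = L) → L = M := by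
  haveI : (IsMulCommutative M) := hab
  haveI := htrans
  haveI := CfsgLib.Perm.isPretransitive_map_subtype (α := α) M
  set M' : Subgroup (Equiv.Perm α) := M.map G.subtype with hM'
  have hne : Nonempty α := by
    by_contra h
    haveI : IsEmpty α := not_nonempty_iff.mp h
    exact hM (Subgroup.eq_bot_iff_forall _ |>.mpr fun m _ => Subtype.ext (Equiv.ext fun x => isEmptyElim x))
  have hcomm : ∀ m ∈ M', ∀ n ∈ M', m * n = n * m := by
    rintro _ ⟨m, hm, rfl⟩ _ ⟨n, hn, rfl⟩
    rw [← map_mul, ← map_mul]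
    exact congrArg _ (congrArg Subtype.val (hab.is_comm.comm ⟨m, hm⟩ ⟨n, hn⟩))
  have hC : Subgroup.centralizer (M' : Set (Equiv.Perm α)) = M' := by
    refine le_antisymm (fun c hc => ?_) fun c hc => ?_
    · exact CfsgLib.Perm.mem_of_commute_of_transitive (α := α) M' M' hcomm
        fun m hm => Subgroup.mem_centralizer_iff.mp hc m hm
    · exact Subgroup.mem_centralizer_iff.mpr fun m hm => hcomm m hm c hc
  refine ⟨hC, fun a => CfsgLib.Perm.stabilizer_eq_bot_of_commutative M hab a,
    CfsgLib.Perm.exists_prime_exponent_of_minimal hM hmin hab, fun L hL hLne hLmin => ?_⟩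
  by_contra hne'
  have hnle : ¬ L ≤ M := fun h => (hmin L hL h).elim hLne hne'
  have hc := @CfsgLib.Perm.commute_of_minimal_normal G _ L M hL _ hLmin hnle
  apply hnle
  intro l hl
  have : (l : Equiv.Perm α) ∈ Subgroup.centralizer (M' : Set (Equiv.Perm α)) := by
    rw [Subgroup.mem_centralizer_iff]
    rintro _ ⟨m, hm, rfl⟩
    exact (congrArg Subtype.val (hc l hl m hm)).symm
  rw [hC] at this
  obtain ⟨m, hm, hml⟩ := this
  rwa [show l = m from Subtype.ext hml.symm]

end Cfsg.Agent.S0703
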