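import Cfsg.Statements.S0704
import Cfsg.Agent.Lib.Perm.Basic

set_option autoImplicit false
open Cfsg

namespace Cfsg.Agent.S0704

theorem centralizer_map_eq {α : Type*} (G : Subgroup (Equiv.Perm α)) (M N : Subgroup G)
    [Nonempty α] (hMt : MulAction.IsPretransitive M α) (hNt : MulAction.IsPretransitive N α)
    (h : ∀ m ∈ M, ∀ n ∈ N, m * n = n * m) :
    Subgroup.centralizer ((M.map G.subtype : Subgroup (Equiv.Perm α)) : Set (Equiv.Perm α))
      = N.map G.subtype := by
  haveI := hMt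
  haveI := hNt
  haveI := CfsgLib.Perm.isPretransitive_map_subtype (α := α) M
  haveI := CfsgLib.Perm.isPretransitive_map_subtype (α := α) N
  have h' : ∀ m ∈ M.map G.subtype, ∀ n ∈ N.map G.subtype, m * n = n * m := by
    rintro _ ⟨m, hm, rfl⟩ _ ⟨n, hn, rfl⟩
    rw [← map_mul, ← map_mul, h m hm n hn]
  refine le_antisymm (fun c hc => ?_) fun c hc => ?_
  · exact CfsgLib.Perm.mem_of_commute_of_transitive (α := α) (M.map G.subtype) (N.map G.subtype) h'
      fun m hm => Subgroup.mem_centralizer_iff.mp hc m hm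
  · exact Subgroup.mem_centralizer_iff.mpr fun m hm => h' m hm c hc

theorem nonempty_mulEquiv_of_commute {α : Type*} (G : Subgroup (Equiv.Perm α)) (M N : Subgroup G)
    (a : α) (hMt : MulAction.IsPretransitive M α) (hNt : MulAction.IsPretransitive N α)
    (hMr : MulAction.stabilizer M a = ⊥) (hNr : MulAction.stabilizer N a = ⊥)
    (h : ∀ m ∈ M, ∀ n ∈ N, m * n = n * m) : Nonempty (M ≃* N) := by
  let em := CfsgLib.Perm.regularEquiv M a hMt hMr
  let en := CfsgLib.Perm.regularEquiv N a hNt hNr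
  -- `φ m` sends `a` to `m⁻¹ • a`
  let e : M ≃ N := (Equiv.inv M).trans (em.trans en.symm)
  have he : ∀ m : M, e m • a = m⁻¹ • a := fun m => by
    show en (en.symm (em m⁻¹)) = m⁻¹ • a
    rw [Equiv.apply_symm_apply]
    rfl
  refine ⟨MulEquiv.mk' e fun x y => ?_⟩
  apply CfsgLib.Perm.smul_left_injective_of_stabilizer_eq_bot hNr
  show e (x * y) • a = (e x * e y) • a
  have hxy : ∀ (m : M) (n : N) (b : α), m • n • b = n • m • b := fun m n b => by
    show (m : G) • (n : G) • b = (n : G) • (m : G) • b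
    rw [smul_smul, smul_smul, h m m.2 n n.2]
  rw [mul_smul, he, he y, ← hxy, he x, smul_smul, mul_inv_rev]

/-- Two distinct transitive minimal normal subgroups `M`, `N` of a permutation group are regular, non-abelian, isomorphic, each other's centraliser in the symmetric group, and the only minimal normal subgroups. -/
theorem result {α : Type*} (G : Subgroup (Equiv.Perm α)) (M N : Subgroup G) [M.Normal] [N.Normal] (hM : M ≠ ⊥) (hN : N ≠ ⊥) (hMmin : ∀ L : Subgroup G, L.Normal → L ≤ M → L = ⊥ ∨ L = M) (hNmin : ∀ L : Subgroup G, L.Normal → L ≤ N → L = ⊥ ∨ L = N) (hMN : M ≠ N) (hMt : MulAction.IsPretransitive M α) (hNt : MulAction.IsPretransitive N α) : (∀ a : α, MulAction.stabilizer M a = ⊥) ∧ (∀ a : α, MulAction.stabilizer N a = ⊥) ∧ ¬ IsMulCommutative M ∧ Nonempty (M ≃* N) ∧ Subgroup.centralizer ((M.map G.subtype : Subgroup (Equiv.Perm α)) : Set (Equiv.Perm α)) = N.map G.subtype ∧ Subgroup.centralizer ((N.map G.subtype : Subgroup (Equiv.Perm α)) : Set (Equiv.Perm α)) =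 M.map G.subtype ∧ ∀ L : Subgroup G, L.Normal → L ≠ ⊥ → (∀ L' : Subgroup G, L'.Normal → L' ≤ L → L' = ⊥ ∨ L' = L) → L = M ∨ L = N := by
  have hne : Nonempty α := by
    by_contra h
    haveI : IsEmpty α := not_nonempty_iff.mp h
    exact hM (Subgroup.eq_bot_iff_forall _ |>.mpr fun m _ => Subtype.ext (Equiv.ext fun x => isEmptyElim x))
  have hnle : ¬ M ≤ N := fun h => (hNmin M inferInstance h).elim hM hMN
  have hc := CfsgLib.Perm.commute_of_minimal_normal hMmin hnle
  have hc' : ∀ n ∈ N, ∀ m ∈ M, n * m = m * n := fun n hn m hm => (hc m hm n hn).symm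
  have hMr : ∀ a : α, MulAction.stabilizer M a = ⊥ := fun a =>
    @CfsgLib.Perm.stabilizer_eq_bot_of_commute G _ α _ _ N M hNt hc' a
  have hNr : ∀ a : α, MulAction.stabilizer N a = ⊥ := fun a =>
    @CfsgLib.Perm.stabilizer_eq_bot_of_commute G _ α _ _ M N hMt hc a
  refine ⟨hMr, hNr, fun hab => ?_, ?_, centralizer_map_eq G M N hMt hNt hc,
    centralizer_map_eq G N M hNt hMt hc', fun L hL hLne hLmin => ?_⟩
  · apply hnle
    intro m hm
    refine @CfsgLib.Perm.mem_of_commute_of_transitive G _ α _ _ _ M N hMt hNt hc m fun x hx => ?_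
    exact congrArg Subtype.val (hab.is_comm.comm ⟨x, hx⟩ ⟨m, hm⟩)
  · obtain ⟨a⟩ := hne
    exact nonempty_mulEquiv_of_commute G M N a hMt hNt (hMr a) (hNr a) hc
  · by_contra hcon
    rw [not_or] at hcon
    have hLM : ¬ L ≤ M := fun h => (hMmin L hL h).elim hLne hcon.1
    have hcl := @CfsgLib.Perm.commute_of_minimal_normal G _ L M hL _ hLmin hLM
    have hLN : L ≤ N := fun l hl =>
      @CfsgLib.Perm.mem_of_commute_of_transitive G _ α _ _ _ M N hMt hNt hc l
        fun m hm => (hcl l hl m hm).symm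
    exact (hNmin L hL hLN).elim hLne hcon.2

end Cfsg.Agent.S0704
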