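import Cfsg.Statements.S0705
import Mathlib.GroupTheory.Perm.Basic
import Mathlib.GroupTheory.GroupAction.MultipleTransitivity
import Mathlib.Data.Finset.Card

set_option autoImplicit false
open scoped Pointwise
open Cfsg

namespace Cfsg.Agent.S0705

theorem exists_perm_on {α : Type*} [Fintype α] [DecidableEq α] (G : Subgroup (Equiv.Perm α))
    {k : ℕ} (hk : k < Fintype.card α)
    (hgen : ∀ s : Finset α, s.card = k + 1 → ∀ σ : Equiv.Perm ↥s, ∃ g ∈ G, ∀ x : ↥s, g (x : α) = σ x)
    (T : Finset α) (hT : T.card ≤ k + 1) (σ : Equiv.Perm α) (hσ : ∀ x, x ∉ T → σ x = x) :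
    ∃ g ∈ G, ∀ x ∈ T, g x = σ x := by
  obtain ⟨s, hTs, hs⟩ := Finset.exists_superset_card_eq hT (by omega)
  have hmem : ∀ x, σ x ∈ s ↔ x ∈ s := fun x => by
    by_cases hx : x ∈ T
    · refine ⟨fun _ => hTs hx, fun _ => hTs ?_⟩
      by_contra h
      exact h ((σ.injective (hσ _ h)).symm ▸ hx)
    · rw [hσ x hx]
  obtain ⟨g, hg, hgx⟩ := hgen s hs (σ.subtypePerm hmem)
  exact ⟨g, hg, fun x hx => hgx ⟨x, hTs hx⟩⟩

theorem exists_move {α : Type*} [Fintype α] [DecidableEq α] (G : Subgroup (Equiv.Perm α))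
    {k : ℕ} (hk : k < Fintype.card α)
    (hgen : ∀ s : Finset α, s.card = k + 1 → ∀ σ : Equiv.Perm ↥s, ∃ g ∈ G, ∀ x : ↥s, g (x : α) = σ x)
    (y : Fin k ↪ α) : ∀ (m : ℕ) (x : Fin k ↪ α),
    (Finset.univ.filter fun i => x i ≠ y i).card ≤ m → ∃ g : G, g • x = y := by
  intro m
  induction m with
  | zero =>
    intro x hx
    refine ⟨1, ?_⟩
    ext i
    show (1 : G) • x i = y i
    rw [one_smul]
    by_contra h
    have : i ∈ Finset.univ.filter fun i => x i ≠ y i := by simp [h]
    rw [Finset.card_eq_zero.mp (Nat.le_zero.mp hx)] at this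
    exact absurd this (Finset.notMem_empty i)
  | succ m ih =>
    intro x hx
    by_cases h : ∃ i, x i ≠ y i
    · obtain ⟨i, hi⟩ := h
      set T := insert (y i) (Finset.univ.image x) with hT
      have hTc : T.card ≤ k + 1 := by
        refine (Finset.card_insert_le _ _).trans ?_
        rw [Finset.card_image_of_injective _ x.injective, Finset.card_univ, Fintype.card_fin]
      obtain ⟨g, hg, hgT⟩ := exists_perm_on G hk hgen T hTc (Equiv.swap (x i) (y i)) fun z hz => by
        apply Equiv.swap_apply_of_ne_of_ne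
        · rintro rfl; exact hz (Finset.mem_insert_of_mem (Finset.mem_image_of_mem _ (Finset.mem_univ _)))
        · rintro rfl; exact hz (Finset.mem_insert_self _ _)
      have hgx : ∀ j, g (x j) = Equiv.swap (x i) (y i) (x j) := fun j =>
        hgT _ (Finset.mem_insert_of_mem (Finset.mem_image_of_mem _ (Finset.mem_univ _)))
      obtain ⟨g', hg'⟩ := ih ((⟨g, hg⟩ : G) • x) (by
        have hsub : (Finset.univ.filter fun j => ((⟨g, hg⟩ : G) • x) j ≠ y j) ⊆
            (Finset.univ.filter fun j => x j ≠ y j).erase i := by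
          intro j hj
          simp only [Finset.mem_filter, Finset.mem_univ, true_and] at hj
          have hj' : g (x j) ≠ y j := hj
          simp only [Finset.mem_erase, Finset.mem_filter, Finset.mem_univ, true_and]
          constructor
          · rintro rfl
            exact hj' (by rw [hgx, Equiv.swap_apply_left])
          · intro hxy
            apply hj'
            rw [hgx, Equiv.swap_apply_of_ne_of_ne, hxy]
            · intro e; exact hi (x.injective e ▸ hxy)
            · intro e; exact hi (y.injective (hxy.symm.trans e) ▸ hxy)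
        have := Finset.card_le_card hsub
        rw [Finset.card_erase_of_mem (by simp [hi])] at this
        omega)
      exact ⟨g' * ⟨g, hg⟩, hg' ▸ Function.Embedding.ext fun j => mul_smul g' (⟨g, hg⟩ : G) (x j)⟩
    · push Not at h
      exact ⟨1, Function.Embedding.ext fun j => (one_smul G (x j)).trans (h j)⟩

theorem setwise_pointwise {α : Type*} [Fintype α] [DecidableEq α] (G : Subgroup (Equiv.Perm α))
    {k : ℕ} (hk : k < Fintype.card α)
    (hgen : ∀ s : Finset α, s.card = k + 1 → ∀ σ : Equiv.Perm ↥s, ∃ g ∈ G, ∀ x : ↥s, g (x : α) = σ x)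
    (s : Finset α) (hs : s.card ≤ k) (a b : α) (ha : a ∉ s) (g : Equiv.Perm α) (hg : g ∈ G)
    (hgs : ∀ x, g x ∈ s ↔ x ∈ s) (hgab : g a = b) :
    ∃ h ∈ G, (∀ x ∈ s, h x = x) ∧ h a = b := by
  have hinv : ∀ x, g⁻¹ x ∈ s ↔ x ∈ s := fun x => by
    rw [← hgs, Equiv.Perm.inv_def, Equiv.apply_symm_apply]
  let σ : Equiv.Perm α := Equiv.Perm.ofSubtype (g⁻¹.subtypePerm hinv)
  have hσs : ∀ x ∈ s, σ x = g⁻¹ x := fun x hx => by
    simp only [σ]
    rw [Equiv.Perm.ofSubtype_apply_of_mem _ hx, Equiv.Perm.subtypePerm_apply]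
  have hσo : ∀ x, x ∉ s → σ x = x := fun x hx => Equiv.Perm.ofSubtype_apply_of_not_mem _ hx
  obtain ⟨h, hh, hhT⟩ := exists_perm_on G hk hgen (insert a s)
    (by rw [Finset.card_insert_of_notMem ha]; omega) σ
    (fun x hx => hσo x (fun h => hx (Finset.mem_insert_of_mem h)))
  refine ⟨g * h, G.mul_mem hg hh, fun x hx => ?_, ?_⟩
  · rw [Equiv.Perm.mul_apply, hhT x (Finset.mem_insert_of_mem hx), hσs x hx,
      Equiv.Perm.inv_def, Equiv.apply_symm_apply]
  · rw [Equiv.Perm.mul_apply, hhT a (Finset.mem_insert_self _ _), hσo a ha, hgab]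

/-- A generously `k`-transitive permutation group (every `(k+1)`-subset has its full symmetric group induced by the setwise stabiliser) of degree greater than `k` is `k`-transitive, and for a `k`-subset the setwise and pointwise stabilisers have the same orbits outside it. -/
theorem result {α : Type*} [Fintype α] [DecidableEq α] (G : Subgroup (Equiv.Perm α)) {k : ℕ} (hk : k < Fintype.card α) (hgen : ∀ s : Finset α, s.card = k + 1 → ∀ σ : Equiv.Perm ↥s, ∃ g ∈ G, ∀ x : ↥s, g (x : α) = σ x) : MulAction.IsMultiplyPretransitive G α k ∧ ∀ s : Finset α, s.card = k → ∀ a b : α, a ∉ s → b ∉ s → (∃ g ∈ G, g • s = s ∧ g a = b) → ∃ g ∈ G, (∀ x ∈ s, g x = x) ∧ g a = b := by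
  refine ⟨⟨fun x y => exists_move G hk hgen y k x
    (le_trans (Finset.card_filter_le _ _) (by simp))⟩, fun s hs a b ha _ => ?_⟩
  rintro ⟨g, hg, hgs, hgab⟩
  refine setwise_pointwise G hk hgen s hs.le a b ha g hg (fun x => ?_) hgab
  constructor
  · intro h
    rw [← hgs, Finset.mem_smul_finset] at h
    obtain ⟨y, hy, hyx⟩ := h
    exact g.injective (show g y = g x from hyx) ▸ hy
  · intro h
    rw [← hgs]
    exact Finset.mem_smul_finset.mpr ⟨x, h, rfl⟩

end Cfsg.Agent.S0705
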