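import Cfsg.Statements.S0706
import Cfsg.Agent.S0705
import Mathlib.GroupTheory.Sylow
import Mathlib.GroupTheory.Perm.Fin
import Mathlib.GroupTheory.GroupAction.SubMulAction.OfFixingSubgroup
import Mathlib.Tactic.Push
import Mathlib.Algebra.Group.Action.Pointwise.Set.Basic
import Mathlib.Algebra.Group.Pointwise.Set.Card

set_option autoImplicit false
open Cfsg

namespace Cfsg.Agent.S0706

open scoped Pointwise

/-- In a generously `k`-transitive permutation group, for a prime `p ≤ k` and a `k`-set `Γ`, there are no `p` points outside `Γ` lying in distinct orbits of the pointwise stabiliser of `Γ` all of length prime to `p` (at most `p - 1` such orbits). -/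
theorem result {α : Type*} [Fintype α] [DecidableEq α] (G : Subgroup (Equiv.Perm α)) {k : ℕ} (hk : k < Fintype.card α) (hgen : ∀ s : Finset α, s.card = k + 1 → ∀ σ : Equiv.Perm ↥s, ∃ g ∈ G, ∀ x : ↥s, g (x : α) = σ x) {p : ℕ} (hp : p.Prime) (hpk : p ≤ k) (Γ : Finset α) (hΓ : Γ.card = k) (f : Fin p → α) (hf : ∀ i, f i ∉ Γ) (hdist : ∀ i j, i ≠ j → f j ∉ MulAction.orbit (fixingSubgroup G (Γ : Set α)) (f i)) : ∃ i, p ∣ Nat.card (MulAction.orbit (fixingSubgroup G (Γ : Set α)) (f i)) := by
  classical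
  haveI : Fact p.Prime := ⟨hp⟩
  obtain ⟨hkt, -⟩ := Cfsg.Agent.S0705.result G hk hgen
  set H : Subgroup G := fixingSubgroup G (Γ : Set α) with hH
  -- the stabiliser of `Γ` and its action on `Γ`
  set W : Subgroup G := MulAction.stabilizer G (Γ : Set α)
  let r : W →* Equiv.Perm (Γ : Set α) := MulAction.toPermHom W (Γ : Set α)
  have hWmem : ∀ g : W, ∀ x, ((g : G) : Equiv.Perm α) x ∈ Γ ↔ x ∈ Γ := fun g x => by
    have h : (g : G) • (Γ : Set α) = (Γ : Set α) := g.2
    constructor
    · intro hx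
      rw [← Finset.mem_coe, ← h, Set.mem_smul_set] at hx
      obtain ⟨y, hy, hyx⟩ := hx
      exact ((g : G) : Equiv.Perm α).injective hyx ▸ hy
    · intro hx
      rw [← Finset.mem_coe, ← h, Set.mem_smul_set]
      exact ⟨x, hx, rfl⟩
  obtain ⟨e⟩ : Nonempty (Fin p ↪ ↥Γ) := Function.Embedding.nonempty_of_card_le (by simpa [hΓ] using hpk)
  -- the cycle
  let σ : Equiv.Perm ↥Γ := Equiv.Perm.extendDomain (finRotate p) (Equiv.ofInjective e e.injective)
  have hσ_in : ∀ i, σ (e i) = e (finRotate p i) := fun i =>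
    Equiv.Perm.extendDomain_apply_image _ _ i
  have hσ_out : ∀ x, x ∉ Set.range e → σ x = x := fun x hx =>
    Equiv.Perm.extendDomain_apply_not_subtype _ _ hx
  have hσne : σ ≠ 1 := fun h => by
    have h1 := hσ_in ⟨0, hp.pos⟩
    rw [h] at h1
    have h2 := e.injective h1
    rw [Fin.ext_iff] at h2
    obtain ⟨q, rfl⟩ : ∃ q, p = q + 1 := ⟨p - 1, by have := hp.pos; omega⟩
    rw [show (⟨0, hp.pos⟩ : Fin (q + 1)) = 0 from rfl, finRotate_succ_apply, zero_add,
      Fin.val_one', Nat.mod_eq_of_lt hp.one_lt] at h2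
    simp at h2
  have hσp : orderOf σ = p := by
    refine orderOf_eq_prime ?_ hσne
    have h : ∀ m : ℕ, σ ^ m = Equiv.Perm.extendDomain (finRotate p ^ m) (Equiv.ofInjective e e.injective) :=
      fun m => (Equiv.Perm.extendDomainHom (Equiv.ofInjective e e.injective)).map_pow (finRotate p) m ▸ rfl
    rw [h, ← Equiv.Perm.extendDomain_one (Equiv.ofInjective e e.injective)]
    congr 1
    obtain ⟨q, rfl⟩ : ∃ q, p = q + 1 := ⟨p - 1, by have := hp.pos; omega⟩
    rw [← orderOf_dvd_iff_pow_eq_one]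
    rcases Nat.lt_or_ge 1 (q + 1) with h1 | h1
    · obtain ⟨q', rfl⟩ : ∃ q', q = q' + 1 := ⟨q - 1, by omega⟩
      rw [(isCycle_finRotate).orderOf, support_finRotate, Finset.card_univ, Fintype.card_fin]
    · exact absurd h1 (not_le.mpr hp.one_lt)
  -- lift the cycle to an element of the stabiliser
  obtain ⟨g₀, hg₀, hg₀Γ⟩ := Cfsg.Agent.S0705.exists_perm_on G hk hgen Γ (by omega)
    (Equiv.Perm.ofSubtype σ) (fun x hx => Equiv.Perm.ofSubtype_apply_of_not_mem _ hx)
  have hg₀W : (⟨g₀, hg₀⟩ : G) ∈ W := by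
    show (⟨g₀, hg₀⟩ : G) • (Γ : Set α) = (Γ : Set α)
    refine Set.eq_of_subset_of_ncard_le ?_ (by rw [Set.ncard_smul_set]) (Set.toFinite _)
    rintro _ ⟨x, hx, rfl⟩
    show g₀ x ∈ (Γ : Set α)
    rw [hg₀Γ x hx, Equiv.Perm.ofSubtype_apply_of_mem _ hx]
    exact (σ ⟨x, hx⟩).2
  have hr₀ : r ⟨_, hg₀W⟩ = σ := by
    ext x
    show g₀ (x : α) = (σ x : α)
    rw [hg₀Γ x x.2, Equiv.Perm.ofSubtype_apply_coe]
  let L : Subgroup W := (Subgroup.zpowers σ).comap r
  have hLcard : Nat.card L = p * Nat.card H := by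
    let φ : L →* Subgroup.zpowers σ := (r.comp L.subtype).codRestrict _ fun x => x.2
    have hφ : Function.Surjective φ := by
      rintro ⟨y, hy⟩
      obtain ⟨m, rfl⟩ := Subgroup.mem_zpowers_iff.mp hy
      have hm : r (⟨_, hg₀W⟩ ^ m) = σ ^ m := (map_zpow r _ m).trans (congrArg (· ^ m) hr₀)
      have hmL : (⟨_, hg₀W⟩ : W) ^ m ∈ L := Subgroup.mem_comap.mpr (hm.symm ▸ hy)
      exact ⟨⟨_, hmL⟩, Subtype.ext hm⟩
    have hker : Nat.card φ.ker = Nat.card H := by
      refine Nat.card_congr
        { toFun := fun x => ⟨((x : L) : W), fun a => ?_⟩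
          invFun := fun x => ⟨⟨⟨(x : G), ?_⟩, ?_⟩, ?_⟩
          left_inv := fun x => rfl
          right_inv := fun x => rfl }
      · exact congrArg Subtype.val (DFunLike.congr_fun (congrArg Subtype.val x.2) a)
      · show (x : G) • (Γ : Set α) = (Γ : Set α)
        refine Set.eq_of_subset_of_ncard_le ?_ (by rw [Set.ncard_smul_set]) (Set.toFinite _)
        rintro _ ⟨y, hy, rfl⟩
        show (x : G) • y ∈ _
        rw [show (x : G) • y = y from x.2 ⟨y, hy⟩]
        exact hy
      · rw [Subgroup.mem_comap, show r ⟨(x : G), _⟩ = 1 from Equiv.ext fun y => Subtype.ext (x.2 y)]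
        exact one_mem _
      · exact Subtype.ext (Equiv.ext fun y => Subtype.ext (x.2 y))
    rw [Subgroup.card_eq_card_quotient_mul_card_subgroup φ.ker, hker,
      Nat.card_congr (QuotientGroup.quotientKerEquivOfSurjective φ hφ).toEquiv,
      Nat.card_zpowers, hσp]
  by_contra hcon
  push Not at hcon
  -- a Sylow subgroup of `L` fixes a point in each orbit
  obtain ⟨Q⟩ := (Sylow.nonempty : Nonempty (Sylow p L))
  have hQfix : ∀ i, ∃ x ∈ MulAction.orbit H (f i), ∀ q : (Q : Subgroup L),
      ((((q : L) : W) : G) : Equiv.Perm α) x = x := by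
    intro i
    set O := MulAction.orbit H (f i) with hO
    have hinv : ∀ (w : W) (x : α), x ∈ O → (w : G) • x ∈ O := fun w x hx => by
      have hxΓ : x ∉ Γ := by
        obtain ⟨h, rfl⟩ := hx
        intro hm
        have hfix : (h : G) • ((h : G) • f i) = (h : G) • f i := h.2 ⟨_, hm⟩
        exact hf i (MulAction.injective (h : G) hfix ▸ hm)
      obtain ⟨u, hu, huΓ, hux⟩ := Cfsg.Agent.S0705.setwise_pointwise G hk hgen Γ hΓ.le x _ hxΓ
        ((w : G) : Equiv.Perm α) (w : G).2 (hWmem w) rfl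
      have huH : (⟨u, hu⟩ : G) ∈ H := fun y => huΓ y y.2
      have : (⟨⟨u, hu⟩, huH⟩ : H) • x ∈ O := MulAction.mem_orbit_of_mem_orbit _ hx
      convert this using 1
      exact hux.symm
    let S : SubMulAction (Q : Subgroup L) α :=
      { carrier := O
        smul_mem' := fun q x hx => hinv ((q : L) : W) x hx }
    haveI : Finite S := Subtype.finite
    obtain ⟨x, hx⟩ := Q.isPGroup'.nonempty_fixed_point_of_prime_not_dvd_card S
      (fun h => hcon i h)
    exact ⟨x, x.2, fun q => congrArg Subtype.val (hx q)⟩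
  choose x hx hxfix using hQfix
  have hxinj : Function.Injective x := fun i j h => by
    by_contra hij
    apply hdist i j hij
    rw [← MulAction.orbit_eq_iff.mpr (hx i), h, MulAction.orbit_eq_iff.mpr (hx j)]
    exact MulAction.mem_orbit_self _
  have hxΓ : ∀ i, x i ∉ Γ := fun i hm => by
    obtain ⟨h, hh⟩ := hx i
    have hfix : (h : G) • ((h : G) • f i) = (h : G) • f i := by
      have h2 : (h : G) • (x i) = x i := h.2 ⟨_, hm⟩
      rwa [← hh] at h2
    apply hf i
    rw [← MulAction.injective (h : G) hfix]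
    exact (show (h : G) • f i ∈ Γ by
      have : (h : G) • f i = x i := hh
      rw [this]; exact hm)
  let Δ : Finset α := (Γ \ Finset.univ.image fun i => (e i : α)) ∪ Finset.univ.image x
  have hcardimg : (Finset.univ.image fun i => (e i : α)).card = (Finset.univ : Finset (Fin p)).card :=
    Finset.card_image_of_injective _ (Subtype.val_injective.comp e.injective)
  have hΔ : Δ.card = k := by
    rw [Finset.card_union_of_disjoint, Finset.card_sdiff_of_subset,
      Finset.card_image_of_injective _ hxinj,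
      hcardimg,
      Finset.card_univ, Fintype.card_fin, hΓ]
    · omega
    · intro y hy
      obtain ⟨i, -, rfl⟩ := Finset.mem_image.mp hy
      exact (e i).2
    · rw [Finset.disjoint_left]
      intro y hy hy'
      obtain ⟨i, -, rfl⟩ := Finset.mem_image.mp hy'
      exact hxΓ i (Finset.mem_sdiff.mp hy).1
  have hcardfix : Nat.card (fixingSubgroup G (Δ : Set α)) = Nat.card H := by
    haveI h1 : MulAction.IsMultiplyPretransitive G α ((Δ : Set α).ncard) := by
      rw [Set.ncard_coe_finset, hΔ]; exact hkt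
    haveI h2 : MulAction.IsMultiplyPretransitive G α ((Γ : Set α).ncard) := by
      rw [Set.ncard_coe_finset, hΓ]; exact hkt
    have e1 := MulAction.IsMultiplyPretransitive.index_of_fixingSubgroup_eq (Δ : Set α) h1
    have e2 := MulAction.IsMultiplyPretransitive.index_of_fixingSubgroup_eq (Γ : Set α) h2
    rw [Set.ncard_coe_finset, hΔ] at e1
    rw [Set.ncard_coe_finset, hΓ] at e2
    have := (Subgroup.card_mul_index (fixingSubgroup G (Δ : Set α))).trans
      (Subgroup.card_mul_index H).symm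
    rw [e1, hH, e2] at this
    rcases Nat.eq_zero_or_pos ((Nat.card α).choose k * k.factorial) with h | h
    · exact absurd h (Nat.mul_ne_zero (Nat.choose_pos (by rw [Nat.card_eq_fintype_card]; omega)).ne'
        (Nat.factorial_ne_zero k))
    · exact Nat.eq_of_mul_eq_mul_right h this
  -- `Q` fixes `Δ` pointwise
  let j : (Q : Subgroup L) →* G := W.subtype.comp (L.subtype.comp (Q : Subgroup L).subtype)
  have hj : Function.Injective j :=
    Subtype.val_injective.comp (Subtype.val_injective.comp Subtype.val_injective)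
  have hjle : j.range ≤ fixingSubgroup G (Δ : Set α) := by
    rintro _ ⟨q, rfl⟩ ⟨y, hy⟩
    rcases Finset.mem_union.mp hy with h | h
    · obtain ⟨hyΓ, hye⟩ := Finset.mem_sdiff.mp h
      have hyσ : σ ⟨y, hyΓ⟩ = ⟨y, hyΓ⟩ := hσ_out _ (by
        rintro ⟨i, hi⟩
        exact hye (Finset.mem_image.mpr ⟨i, Finset.mem_univ _, congrArg Subtype.val hi⟩))
      obtain ⟨m, hm⟩ := Subgroup.mem_zpowers_iff.mp (q : L).2
      have := congrArg (fun τ : Equiv.Perm ↥Γ => ((τ ⟨y, hyΓ⟩ : ↥Γ) : α)) hm
      simp only [Equiv.Perm.zpow_apply_eq_self_of_apply_eq_self hyσ] at this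
      exact this.symm
    · obtain ⟨i, -, rfl⟩ := Finset.mem_image.mp h
      exact hxfix i q
  have hdvd : Nat.card (Q : Subgroup L) ∣ Nat.card H := by
    rw [← hcardfix, Nat.card_congr (MonoidHom.ofInjective hj).toEquiv]
    exact Subgroup.card_dvd_of_le hjle
  rw [Sylow.card_eq_multiplicity, hLcard, Nat.factorization_mul hp.ne_zero Nat.card_pos.ne',
    Finsupp.add_apply, hp.factorization_self,
    hp.pow_dvd_iff_le_factorization Nat.card_pos.ne'] at hdvd
  omega

end Cfsg.Agent.S0706
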