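import Cfsg.Statements.S0707
import Mathlib.GroupTheory.GroupAction.Primitive
import Mathlib.GroupTheory.SpecificGroups.Cyclic
import Mathlib.Tactic.Group
import Mathlib.GroupTheory.Index

set_option autoImplicit false
open Cfsg

namespace Cfsg.Agent.S0707

/-- In a primitive permutation group, distinct points have distinct stabilisers unless the group is regular of prime degree. -/
theorem result {α : Type*} (G : Subgroup (Equiv.Perm α)) [MulAction.IsPreprimitive G α] (h : ¬ (Nat.card α).Prime ∨ ∃ a : α, MulAction.stabilizer G a ≠ ⊥) {a b : α} (hab : a ≠ b) : MulAction.stabilizer G a ≠ MulAction.stabilizer G b := by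
  intro heq
  haveI : Nontrivial α := ⟨⟨a, b, hab⟩⟩
  set H := MulAction.stabilizer G a with hH
  have hco : IsCoatom H := MulAction.IsPreprimitive.isCoatom_stabilizer_of_isPreprimitive G a
  obtain ⟨g, hg⟩ := MulAction.exists_smul_eq G a b
  have hgH : g ∉ H := fun h => hab (by rw [← hg]; exact (MulAction.mem_stabilizer_iff.mp h).symm)
  have hnorm : g ∈ Subgroup.normalizer (H : Set G) := by
    rw [Subgroup.mem_normalizer_iff]
    intro h
    have hb : H = MulAction.stabilizer G b := heq
    constructor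
    · intro hh
      rw [hb, MulAction.mem_stabilizer_iff, ← hg, mul_smul, mul_smul, inv_smul_smul,
        MulAction.mem_stabilizer_iff.mp hh]
    · intro hh
      rw [hb, MulAction.mem_stabilizer_iff, ← hg, mul_smul, mul_smul, inv_smul_smul] at hh
      exact MulAction.mem_stabilizer_iff.mpr (MulAction.injective g hh)
  have hlt : H < Subgroup.normalizer (H : Set G) :=
    lt_of_le_of_ne Subgroup.le_normalizer fun e => hgH (e ▸ hnorm)
  haveI : H.Normal := Subgroup.normalizer_eq_top_iff.mp (hco.2 _ hlt)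
  have hbot : H = ⊥ := by
    rw [Subgroup.eq_bot_iff_forall]
    intro h hh
    refine FaithfulSMul.eq_of_smul_eq_smul (α := α) fun x => ?_
    obtain ⟨k, rfl⟩ := MulAction.exists_smul_eq G a x
    have : k⁻¹ * h * k ∈ H := by simpa using ‹H.Normal›.conj_mem h hh k⁻¹
    rw [MulAction.mem_stabilizer_iff, mul_smul, mul_smul, inv_smul_eq_iff] at this
    rw [one_smul, this]
  rcases h with h | ⟨c, hc⟩
  · rw [hbot] at hco
    have hgen : ∀ x : G, x ≠ 1 → Subgroup.zpowers x = ⊤ := fun x hx =>
      hco.2 _ (bot_lt_iff_ne_bot.mpr (by rwa [Ne, Subgroup.zpowers_eq_bot]))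
    have hg1 : g ≠ 1 := fun e => hgH (e ▸ H.one_mem)
    haveI : IsCyclic G := ⟨⟨g, fun x => Subgroup.mem_zpowers_iff.mp (hgen g hg1 ▸ Subgroup.mem_top x)⟩⟩
    letI : CommGroup G := IsCyclic.commGroup
    haveI : Nontrivial G := ⟨⟨g, 1, hg1⟩⟩
    haveI : IsSimpleGroup G := ⟨fun N _ => by
      rcases eq_or_ne N ⊥ with h' | h'
      · exact Or.inl h'
      · exact Or.inr (hco.2 _ (bot_lt_iff_ne_bot.mpr h'))⟩
    apply h
    have e := MulAction.index_stabilizer_of_transitive G a
    rw [← hH, hbot, Subgroup.index_bot] at e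
    exact e ▸ IsSimpleGroup.prime_card (α := G)
  · apply hc
    obtain ⟨k, rfl⟩ := MulAction.exists_smul_eq G a c
    rw [Subgroup.eq_bot_iff_forall]
    intro x hx
    have : k⁻¹ * x * k ∈ H := by
      rw [MulAction.mem_stabilizer_iff, mul_smul, mul_smul, MulAction.mem_stabilizer_iff.mp hx,
        inv_smul_smul]
    rw [hbot, Subgroup.mem_bot] at this
    rw [show x = k * (k⁻¹ * x * k) * k⁻¹ by group, this, mul_one, mul_inv_cancel]

end Cfsg.Agent.S0707
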