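import Cfsg.Statements.S0708
import Mathlib.GroupTheory.Perm.Cycle.Type
import Mathlib.GroupTheory.GroupAction.MultipleTransitivity
import Mathlib.Algebra.Ring.Parity
import Mathlib.Data.Fin.Tuple.Embedding

set_option autoImplicit false
open Cfsg

namespace Cfsg.Agent.S0708

open MulAction

section
variable {G : Type*} [Group G] {Ω : Type*} [MulAction G Ω]

def quad (a b c d : Ω) (h1 : a ≠ b) (h2 : a ≠ c) (h3 : a ≠ d) (h4 : b ≠ c) (h5 : b ≠ d) (h6 : c ≠ d) : Fin 4 ↪ Ω :=
  ⟨![a, b, c, d], by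
    intro i j h
    fin_cases i <;> fin_cases j <;> simp_all⟩

theorem eq_of_four (hs : ∀ x : Fin 4 ↪ Ω, stabilizer G x = ⊥) {g h : G} {a b c d : Ω}
    (h1 : a ≠ b) (h2 : a ≠ c) (h3 : a ≠ d) (h4 : b ≠ c) (h5 : b ≠ d) (h6 : c ≠ d)
    (ha : g • a = h • a) (hb : g • b = h • b) (hc : g • c = h • c) (hd : g • d = h • d) : g = h := by
  have : h⁻¹ * g ∈ stabilizer G (quad a b c d h1 h2 h3 h4 h5 h6) := by
    rw [mem_stabilizer_iff]
    ext i
    have e : ∀ z : Ω, g • z = h • z → (h⁻¹ * g) • z = z := fun z hz => by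
      rw [mul_smul, hz, inv_smul_smul]
    rw [Function.Embedding.smul_apply]
    apply e
    fin_cases i
    exacts [ha, hb, hc, hd]
  rw [hs, Subgroup.mem_bot, inv_mul_eq_one] at this
  exact this.symm

theorem exists_four (h4 : IsMultiplyPretransitive G Ω 4) {a b c d a' b' c' d' : Ω}
    (h1 : a ≠ b) (h2 : a ≠ c) (h3 : a ≠ d) (h4' : b ≠ c) (h5 : b ≠ d) (h6 : c ≠ d)
    (h1' : a' ≠ b') (h2' : a' ≠ c') (h3' : a' ≠ d') (h4'' : b' ≠ c') (h5' : b' ≠ d') (h6' : c' ≠ d') :
    ∃ g : G, g • a = a' ∧ g • b = b' ∧ g • c = c' ∧ g • d = d' := by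
  haveI := h4
  obtain ⟨g, hg⟩ := exists_smul_eq G (quad a b c d h1 h2 h3 h4' h5 h6)
    (quad a' b' c' d' h1' h2' h3' h4'' h5' h6')
  exact ⟨g, congrArg (fun e : Fin 4 ↪ Ω => e 0) hg, congrArg (fun e : Fin 4 ↪ Ω => e 1) hg,
    congrArg (fun e : Fin 4 ↪ Ω => e 2) hg, congrArg (fun e : Fin 4 ↪ Ω => e 3) hg⟩

theorem three_fix {β : Type*} (f : β → β) {a b c : β} (hab : a ≠ b) (hac : a ≠ c) (hbc : b ≠ c)
    (inv : ∀ z, f (f z) = z) (ha : f a = a ∨ f a = b ∨ f a = c) (hb : f b = a ∨ f b = b ∨ f b = c)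
    (hc : f c = a ∨ f c = b ∨ f c = c) : f a = a ∨ f b = b ∨ f c = c := by
  grind

end


/-- Tits' argument: a sharply 4-transitive group (no finiteness assumed) has finite degree at most 11, and at most 6 when the degree is even. -/
theorem result {G : Type*} [Group G] {Ω : Type*} [MulAction G Ω] (h4 : MulAction.IsMultiplyPretransitive G Ω 4) (hsharp : ∀ x : Fin 4 ↪ Ω, MulAction.stabilizer G x = ⊥) (hne : Nonempty (Fin 4 ↪ Ω)) : Finite Ω ∧ Nat.card Ω ≤ 11 ∧ (Even (Nat.card Ω) → Nat.card Ω ≤ 6) := by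
  classical
  obtain ⟨e⟩ := hne
  have ne : ∀ {i j : Fin 4}, i ≠ j → e i ≠ e j := fun h h' => h (e.injective h')
  generalize hp1 : e 0 = p1, hp2 : e 1 = p2, hp3 : e 2 = p3, hp4 : e 3 = p4
  have n12 : p1 ≠ p2 := hp1 ▸ hp2 ▸ ne (by decide)
  have n13 : p1 ≠ p3 := hp1 ▸ hp3 ▸ ne (by decide)
  have n14 : p1 ≠ p4 := hp1 ▸ hp4 ▸ ne (by decide)
  have n23 : p2 ≠ p3 := hp2 ▸ hp3 ▸ ne (by decide)
  have n24 : p2 ≠ p4 := hp2 ▸ hp4 ▸ ne (by decide)
  have n34 : p3 ≠ p4 := hp3 ▸ hp4 ▸ ne (by decide)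
  obtain ⟨x, x1, x2, x3, x4⟩ := exists_four h4 n12 n13 n14 n23 n24 n34 n12.symm n23 n24 n13 n14 n34
  have hx2 : x * x = 1 := eq_of_four hsharp n12 n13 n14 n23 n24 n34
    (by simp [mul_smul, x1, x2]) (by simp [mul_smul, x1, x2]) (by simp [mul_smul, x3]) (by simp [mul_smul, x4])
  have xx : ∀ z : Ω, x • x • z = z := fun z => by rw [← mul_smul, hx2, one_smul]
  have xfix : ∀ z1 z2 : Ω, x • z1 = z1 → x • z2 = z2 → z1 ≠ p3 → z1 ≠ p4 → z2 ≠ p3 → z2 ≠ p4 → z1 = z2 := by
    intro z1 z2 h1 h2 a1 a2 a3 a4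
    by_contra hne
    have : x = 1 := eq_of_four hsharp n34 a1.symm a3.symm a2.symm a4.symm hne
      (by simp [x3]) (by simp [x4]) (by simp [h1]) (by simp [h2])
    rw [this, one_smul] at x1
    exact n12 x1
  let S : Set Ω := {a | a ≠ p1 ∧ a ≠ p2 ∧ x • a ≠ a}
  have hw : ∀ a ∈ S, ∃ w : G, w • p1 = p1 ∧ w • p2 = p2 ∧ w • a = x • a ∧ w • x • a = a ∧
      w * x = x * w ∧ w * w = 1 ∧ w ≠ 1 := by
    rintro a ⟨a1, a2, a3⟩
    have b1 : x • a ≠ p1 := fun h => a2 (by rw [← xx a, h, x1])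
    have b2 : x • a ≠ p2 := fun h => a1 (by rw [← xx a, h, x2])
    obtain ⟨w, w1, w2, w3, w4⟩ := exists_four h4 n12 a1.symm b1.symm a2.symm b2.symm a3.symm n12 b1.symm a1.symm b2.symm a2.symm a3
    refine ⟨w, w1, w2, w3, w4, ?_, ?_, ?_⟩
    · exact eq_of_four hsharp n12 a1.symm b1.symm a2.symm b2.symm a3.symm
        (by simp [mul_smul, x1, w1, w2]) (by simp [mul_smul, x2, w1, w2])
        (by simp [mul_smul, w3, w4, xx]) (by simp [mul_smul, w4, xx, w3])
    · exact eq_of_four hsharp n12 a1.symm b1.symm a2.symm b2.symm a3.symm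
        (by simp [mul_smul, w1]) (by simp [mul_smul, w2])
        (by simp [mul_smul, w3, w4]) (by simp [mul_smul, w3, w4])
    · intro h
      rw [h, one_smul] at w3
      exact a3 w3.symm
  choose! w w1 w2 w3 w4 wx ww wne using hw
  have wF : ∀ a ∈ S, ∀ z : Ω, x • z = z → x • (w a • z) = w a • z := by
    intro a ha z hz
    rw [← mul_smul, ← wx a ha, mul_smul, hz]
  have wfix : ∀ a ∈ S, ∀ z1 z2 : Ω, x • z1 = z1 → x • z2 = z2 → w a • z1 = z1 → w a • z2 = z2 → z1 = z2 := by
    intro a ha z1 z2 h1 h2 k1 k2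
    by_contra hne
    have o : ∀ z : Ω, x • z = z → p1 ≠ z ∧ p2 ≠ z := fun z hz =>
      ⟨fun h => n12 (by rw [← h, x1] at hz; exact hz.symm), fun h => n12 (by rw [← h, x2] at hz; exact hz)⟩
    exact wne a ha (eq_of_four hsharp n12 (o z1 h1).1 (o z2 h2).1 (o z1 h1).2 (o z2 h2).2 hne
      (by simp [w1 a ha]) (by simp [w2 a ha]) (by simp [k1]) (by simp [k2]))
  have wsame : ∀ a ∈ S, ∀ b ∈ S, w a = w b → b = a ∨ b = x • a := by
    intro a ha b hb h
    by_contra hcon
    push Not at hcon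
    obtain ⟨c1, c2⟩ := hcon
    have hfix : x * w a = 1 := eq_of_four hsharp ha.2.2.symm c1.symm
      (fun e : a = x • b => c2 (by rw [e, xx])) c2.symm
      (fun e : x • a = x • b => c1 ((MulAction.injective x e).symm)) hb.2.2.symm
      (by simp [mul_smul, w3 a ha, xx]) (by simp [mul_smul, w4 a ha])
      (by simp [mul_smul, h, w3 b hb, xx]) (by simp [mul_smul, h, w4 b hb])
    have := congrArg (· • p1) hfix
    simp [mul_smul, w1 a ha, x1] at this
    exact n12 this.symm
  -- a covering of `Ω`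
  have cover : ∀ (F T : Finset Ω) (f : Ω → Ω), (∀ z, x • z = z → z ∈ F) → (∀ a ∈ S, f a ∈ T) →
      (∀ a ∈ S, ∀ b ∈ S, f a = f b → b = a ∨ b = x • a) →
      ∃ U : Finset Ω, (∀ z, z ∈ U) ∧ U.card ≤ 2 + F.card + 2 * T.card := by
    intro F T f hF hfT hinj
    let r : Ω → Ω := fun t => if h : ∃ a ∈ S, f a = t then h.choose else t
    refine ⟨(({p1, p2} : Finset Ω) ∪ F) ∪ (T.image r ∪ (T.image r).image (fun z : Ω => x • z)), fun z => ?_, ?_⟩
    · simp only [Finset.mem_union, Finset.mem_insert, Finset.mem_singleton]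
      by_cases h1 : z = p1
      · exact Or.inl (Or.inl (Or.inl h1))
      by_cases h2 : z = p2
      · exact Or.inl (Or.inl (Or.inr h2))
      by_cases h3 : x • z = z
      · exact Or.inl (Or.inr (hF z h3))
      have hz : z ∈ S := ⟨h1, h2, h3⟩
      have hex : ∃ a ∈ S, f a = f z := ⟨z, hz, rfl⟩
      have hr : r (f z) = hex.choose := by simp only [r]; rw [dif_pos hex]
      obtain ⟨hcS, hcf⟩ := hex.choose_spec
      have hm : r (f z) ∈ T.image r := Finset.mem_image_of_mem _ (hfT z hz)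
      rcases hinj _ hcS z hz hcf with h | h
      · exact Or.inr (Or.inl (by rw [h, ← hr]; exact hm))
      · exact Or.inr (Or.inr (by rw [h, ← hr]; exact Finset.mem_image_of_mem _ hm))
    · have e1 := Finset.card_union_le (({p1, p2} : Finset Ω) ∪ F) (T.image r ∪ (T.image r).image (fun z : Ω => x • z))
      have e2 := Finset.card_union_le ({p1, p2} : Finset Ω) F
      have e3 := Finset.card_union_le (T.image r) ((T.image r).image (fun z : Ω => x • z))
      have e4 : (T.image r).card ≤ T.card := Finset.card_image_le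
      have e5 : ((T.image r).image (fun z : Ω => x • z)).card ≤ (T.image r).card := Finset.card_image_le
      have e6 : ({p1, p2} : Finset Ω).card ≤ 2 := Finset.card_le_two
      omega
  by_cases h3 : ∃ p5, x • p5 = p5 ∧ p5 ≠ p3 ∧ p5 ≠ p4
  · obtain ⟨p5, x5, n53, n54⟩ := h3
    have hFix : ∀ z, x • z = z → z = p3 ∨ z = p4 ∨ z = p5 := by
      intro z hz
      by_contra h
      push Not at h
      exact h.2.2 (xfix z p5 hz x5 h.1 h.2.1 n53 n54)
    have hwf : ∀ a ∈ S, ∃ z, z ∈ ({p3, p4, p5} : Finset Ω) ∧ w a • z = z := by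
      intro a ha
      by_contra h
      push Not at h
      have inv : ∀ z : Ω, w a • w a • z = z := fun z => by rw [← mul_smul, ww a ha, one_smul]
      have m3 := hFix _ (wF a ha p3 x3)
      have m4 := hFix _ (wF a ha p4 x4)
      have m5 := hFix _ (wF a ha p5 x5)
      have q3 := h p3 (by simp)
      have q4 := h p4 (by simp)
      have q5 := h p5 (by simp)
      rcases three_fix (w a • ·) n34 n53.symm n54.symm inv m3 m4 m5 with h | h | h
      exacts [q3 h, q4 h, q5 h]
    choose! f hf hfw using hwf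
    obtain ⟨U, hU, hUc⟩ := cover {p3, p4, p5} {p3, p4, p5} f
      (fun z hz => by simpa using hFix z hz) hf (by
      intro a ha b hb hab
      apply wsame a ha b hb
      have hfx : x • f a = f a := by
        have := hf a ha
        simp only [Finset.mem_insert, Finset.mem_singleton] at this
        rcases this with h | h | h <;> rw [h] <;> assumption
      -- both move the two other fixed points of `x` alike
      have key : ∀ c, c ∈ S → f c = f a → ∀ z z', x • z = z → x • z' = z' → z ≠ f a → z' ≠ f a → z ≠ z' →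
          w c • z = z' := by
        intro c hc hca z z' hz hz' hzf hzf' hzz
        have k1 : w c • z ≠ z := fun h => hzf (wfix c hc z (f a) hz hfx h (hca ▸ hfw c hc))
        have k2 : w c • z ≠ f a := fun h => hzf (by
          have h' : w c • f a = f a := hca ▸ hfw c hc
          exact MulAction.injective (w c) (h.trans h'.symm))
        have := hFix _ (wF c hc z hz)
        have := hFix z hz
        have := hFix z' hz'
        have := hFix (f a) hfx
        grind
      have o : ∀ z : Ω, x • z = z → p1 ≠ z ∧ p2 ≠ z := fun z hz =>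
        ⟨fun h => n12 (by rw [← h, x1] at hz; exact hz.symm), fun h => n12 (by rw [← h, x2] at hz; exact hz)⟩
      refine eq_of_four hsharp n12 n13 n14 n23 n24 n34 (by rw [w1 a ha, w1 b hb]) (by rw [w2 a ha, w2 b hb]) ?_ ?_
      · by_cases hq : p3 = f a
        · rw [hq, hfw a ha, hab, hfw b hb]
        · rcases eq_or_ne p4 (f a) with hq' | hq'
          · rw [key a ha rfl p3 p5 x3 x5 hq (hq' ▸ n54) n53.symm, key b hb hab.symm p3 p5 x3 x5 hq (hq' ▸ n54) n53.symm]
          · rw [key a ha rfl p3 p4 x3 x4 hq hq' n34, key b hb hab.symm p3 p4 x3 x4 hq hq' n34]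
      · by_cases hq : p4 = f a
        · rw [hq, hfw a ha, hab, hfw b hb]
        · rcases eq_or_ne p3 (f a) with hq' | hq'
          · rw [key a ha rfl p4 p5 x4 x5 hq (hq' ▸ n53) n54.symm, key b hb hab.symm p4 p5 x4 x5 hq (hq' ▸ n53) n54.symm]
          · rw [key a ha rfl p4 p3 x4 x3 hq hq' n34.symm, key b hb hab.symm p4 p3 x4 x3 hq hq' n34.symm])
    letI : Fintype Ω := ⟨U, hU⟩
    have hcard : Nat.card Ω = U.card := by rw [Nat.card_eq_fintype_card]; rfl
    have h3c : ({p3, p4, p5} : Finset Ω).card = 3 := by simp [n34, n53.symm, n54.symm]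
    refine ⟨inferInstance, by omega, fun hev => ?_⟩
    exfalso
    haveI : Fact (Nat.Prime 2) := ⟨Nat.prime_two⟩
    have hm := Equiv.Perm.card_compl_support_modEq (p := 2) (n := 1) (σ := (MulAction.toPerm x : Equiv.Perm Ω))
      (Equiv.ext fun z => by simp [pow_two, Equiv.Perm.mul_apply, xx])
    have hs : (MulAction.toPerm x : Equiv.Perm Ω).supportᶜ = ({p3, p4, p5} : Finset Ω) := by
      ext z
      simp only [Finset.mem_compl, Equiv.Perm.mem_support, MulAction.toPerm_apply, not_not,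
        Finset.mem_insert, Finset.mem_singleton]
      exact ⟨hFix z, fun h => by rcases h with h | h | h <;> rw [h] <;> assumption⟩
    rw [hs, h3c, ← Nat.card_eq_fintype_card, Nat.ModEq] at hm
    rw [Nat.even_iff] at hev
    omega
  · push Not at h3
    have hFix : ∀ z, x • z = z → z = p3 ∨ z = p4 := fun z hz => by
      by_cases h : z = p3
      · exact Or.inl h
      · exact Or.inr (h3 z hz h)
    obtain ⟨U, hU, hUc⟩ := cover {p3, p4} {p3} (fun _ => p3) (fun z hz => by simpa using hFix z hz)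
      (fun a _ => by simp) (by
      intro a ha b hb _
      apply wsame a ha b hb
      have key : ∀ c ∈ S, w c • p3 = p4 ∧ w c • p4 = p3 := by
        intro c hc
        have q := fun h3 h4 => n34 (wfix c hc p3 p4 x3 x4 h3 h4)
        have m3 := hFix _ (wF c hc p3 x3)
        have m4 := hFix _ (wF c hc p4 x4)
        have : w c • p3 ≠ w c • p4 := fun h => n34 (MulAction.injective (w c) h)
        grind
      exact eq_of_four hsharp n12 n13 n14 n23 n24 n34 (by rw [w1 a ha, w1 b hb]) (by rw [w2 a ha, w2 b hb])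
        (by rw [(key a ha).1, (key b hb).1]) (by rw [(key a ha).2, (key b hb).2]))
    letI : Fintype Ω := ⟨U, hU⟩
    have hcard : Nat.card Ω = U.card := by rw [Nat.card_eq_fintype_card]; rfl
    have h2c : ({p3, p4} : Finset Ω).card ≤ 2 := Finset.card_le_two
    have h1c : ({p3} : Finset Ω).card = 1 := rfl
    exact ⟨inferInstance, by omega, fun _ => by omega⟩

end Cfsg.Agent.S0708
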