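import Cfsg.Statements.S0709
import Mathlib.GroupTheory.GroupAction.MultipleTransitivity
import Mathlib.GroupTheory.OrderOfElement

set_option autoImplicit false
open Cfsg

namespace Cfsg.Agent.S0709

open MulAction

theorem union_step {P : Type*} [Group P] [Finite P] (K : Subgroup P) (s : P)
    (hs2 : s * s ∈ K) (hcl : ∀ h ∈ K, s * h * s ∈ K ∨ ∃ a ∈ K, ∃ b ∈ K, s * h * s = a * s * b) :
    ∀ g ∈ K ⊔ Subgroup.zpowers s, g ∈ K ∨ ∃ a ∈ K, ∃ b ∈ K, g = a * s * b := by
  intro g hg
  have hU : ∀ u, (u ∈ K ∨ ∃ a ∈ K, ∃ b ∈ K, u = a * s * b) →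
      ∀ y, (y ∈ K ∨ y = s) → (u * y ∈ K ∨ ∃ a ∈ K, ∃ b ∈ K, u * y = a * s * b) := by
    rintro u hu y hy
    rcases hu with hu | ⟨a, ha, b, hb, rfl⟩
    · rcases hy with hy | rfl
      · exact Or.inl (K.mul_mem hu hy)
      · exact Or.inr ⟨u, hu, 1, K.one_mem, by rw [mul_one]⟩
    · rcases hy with hy | rfl
      · exact Or.inr ⟨a, ha, b * y, K.mul_mem hb hy, by simp only [mul_assoc]⟩
      · rcases hcl b hb with h | ⟨c, hc, d, hd, h⟩
        · left
          rw [show a * y * b * y = a * (y * b * y) by simp only [mul_assoc]]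
          exact K.mul_mem ha h
        · right
          refine ⟨a * c, K.mul_mem ha hc, d, hd, ?_⟩
          rw [show a * y * b * y = a * (y * b * y) by simp only [mul_assoc], h]
          simp only [mul_assoc]
  have hgen : K ⊔ Subgroup.zpowers s = Subgroup.closure ((K : Set P) ∪ {s}) := by
    rw [Subgroup.closure_union, Subgroup.closure_eq, Subgroup.zpowers_eq_closure]
  rw [hgen] at hg
  have hg' : g ∈ Submonoid.closure ((K : Set P) ∪ {s}) := by
    rw [← Subgroup.closure_toSubmonoid_of_finite]; exact hg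
  refine Submonoid.closure_induction_right (motive := fun u _ => u ∈ K ∨ ∃ a ∈ K, ∃ b ∈ K, u = a * s * b)
    (Or.inl K.one_mem) (fun u _ y hy ih => hU u ih y (by simpa [or_comm] using hy)) hg'


/-- Witt's Lemma for constructing transitive extensions. Points `q 1, …, q t` (`t ≥ 2`) of a finite set are given; `G` fixes `q i` for `i ≥ 3` and is doubly transitive on the remaining points; `s 1 ∈ G` swaps `q 1, q 2`; for `2 ≤ i ≤ t-1`, `s i` swaps `q i, q (i+1)` and fixes the other `q j`; with `H` the stabiliser of `q 1, q 2` in `G`: `s i ^ 2 ∈ H`, `(s i * s (i+1)) ^ 3 ∈ H`, `(s i * s j) ^ 2 ∈ H` for `j ≥ i + 2`, and `s i` (`i ≥ 2`) normalises the stabiliser of `q 2` in `G`. Then `G` and the `s i` generate a `t`-transitive group whose pointwise stabiliser of the `q`'s is `H`. -/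
theorem result {α : Type*} [Fintype α] [DecidableEq α] (t : ℕ) (ht : 2 ≤ t) (q : ℕ → α) (hq : ∀ i j : ℕ, 1 ≤ i → i ≤ t → 1 ≤ j → j ≤ t → q i = q j → i = j) (G : Subgroup (Equiv.Perm α)) (hfix : ∀ g ∈ G, ∀ i : ℕ, 3 ≤ i → i ≤ t → g (q i) = q i) (h2 : ∀ a b c d : α, (∀ i, 3 ≤ i → i ≤ t → a ≠ q i ∧ b ≠ q i ∧ c ≠ q i ∧ d ≠ q i) → a ≠ b → c ≠ d → ∃ g ∈ G, g a = c ∧ g b = d) (s : ℕ → Equiv.Perm α) (hs1 : s 1 ∈ G) (hs1q : s 1 (q 1) = q 2 ∧ s 1 (q 2) = q 1) (hsq : ∀ i : ℕ, 2 ≤ i → i + 1 ≤ t → s i (q i) = q (i + 1) ∧ s i (q (i + 1)) = q i ∧ ∀ j : ℕ, 1 ≤ j → j ≤ t → j ≠ i → j ≠ i + 1 → s i (q j) = q j) (H : Subgroup (Equiv.Perm α)) (hH : H = G ⊓ MulAction.stabilizer (Equiv.Perm α) (q 1) ⊓ MulAction.stabilizer (Equiv.Perm α) (q 2)) (hsq2 : ∀ i : ℕ, 1 ≤ i → i + 1 ≤ t → s i ^ 2 ∈ H) (hbraid : ∀ i : ℕ, 1 ≤ i → i + 2 ≤ t → (s i * s (i + 1)) ^ 3 ∈ H) (hcomm : ∀ i j : ℕ, 1 ≤ i → i + 2 ≤ j → j + 1 ≤ t → (s i * s j) ^ 2 ∈ H ∧ (s j * s i) ^ 2 ∈ H) (hnorm : ∀ i : ℕ, 2 ≤ i → i + 1 ≤ t → ∀ g ∈ G ⊓ MulAction.stabilizer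 (Equiv.Perm α) (q 2), s i * g * (s i)⁻¹ ∈ G ⊓ MulAction.stabilizer (Equiv.Perm α) (q 2)) : MulAction.IsMultiplyPretransitive ↥(Subgroup.closure ((G : Set (Equiv.Perm α)) ∪ {x | ∃ i : ℕ, 2 ≤ i ∧ i + 1 ≤ t ∧ x = s i})) α t ∧ Subgroup.closure ((G : Set (Equiv.Perm α)) ∪ {x | ∃ i : ℕ, 2 ≤ i ∧ i + 1 ≤ t ∧ x = s i}) ⊓ fixingSubgroup (Equiv.Perm α) {x | ∃ i : ℕ, 1 ≤ i ∧ i ≤ t ∧ x = q i} = H := by
  classical
  let A : Subgroup (Equiv.Perm α) := G ⊓ stabilizer (Equiv.Perm α) (q 2)
  let K : ℕ → Subgroup (Equiv.Perm α) := fun k => Nat.rec (motive := fun _ => Subgroup (Equiv.Perm α)) A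
    (fun i Ki => if i = 0 then A else if i = 1 then G else Ki ⊔ Subgroup.zpowers (s i)) k
  have K1 : K 1 = A := rfl
  have K2 : K 2 = G := rfl
  have K11 : K (1 + 1) = G := rfl
  have Ksucc : ∀ k, 2 ≤ k → K (k + 1) = K k ⊔ Subgroup.zpowers (s k) := fun k hk => by
    show (if k = 0 then A else if k = 1 then G else K k ⊔ Subgroup.zpowers (s k)) = _
    rw [if_neg (by omega), if_neg (by omega)]
  have Kstep : ∀ k, 1 ≤ k → K k ≤ K (k + 1) := fun k hk => by
    rcases hk.eq_or_lt with rfl | h
    · rw [K1, K11]; exact inf_le_left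
    · rw [Ksucc k h]; exact le_sup_left
  have AK : ∀ k, 1 ≤ k → A ≤ K k := fun k hk => by
    induction k, hk using Nat.le_induction with
    | base => exact K1.ge
    | succ k hk ih => exact ih.trans (Kstep k hk)
  have sK : ∀ k, 1 ≤ k → s k ∈ K (k + 1) := fun k hk => by
    rcases hk.eq_or_lt with rfl | h
    · rw [K11]; exact hs1
    · rw [Ksucc k h]; exact Subgroup.mem_sup_right (Subgroup.mem_zpowers _)
  have HA : H ≤ A := fun g hg => by rw [hH] at hg; exact ⟨hg.1.1, hg.2⟩
  have sconj : ∀ k i, i + 2 ≤ k → 1 ≤ i → k + 1 ≤ t → ∀ j, i + 1 ≤ j → s k * s i * (s k)⁻¹ ∈ K j := by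
    intro k i hik hi hk j hij
    have hH' : (s k * s i) ^ 2 ∈ H := (hcomm i k hi hik hk).2
    have e : s k * s i * (s k)⁻¹ = (s k * s i) ^ 2 * ((s i)⁻¹ * (s k ^ 2)⁻¹) := by
      simp only [pow_two, mul_inv_rev, mul_assoc, mul_inv_cancel_left, inv_mul_cancel_left]
    have hK : s i ∈ K j := by
      induction j, hij using Nat.le_induction with
      | base => exact sK i hi
      | succ j hj ih => exact Kstep j (by omega) ih
    rw [e]
    exact (K j).mul_mem (AK j (by omega) (HA hH'))
      ((K j).mul_mem ((K j).inv_mem hK) ((K j).inv_mem (AK j (by omega) (HA (hsq2 k (by omega) hk)))))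
  have dec : ∀ k, 1 ≤ k → k + 1 ≤ t → ∀ g ∈ K (k + 1), g ∈ K k ∨ ∃ a ∈ K k, ∃ b ∈ K k, g = a * s k * b := by
    intro k hk
    induction k, hk using Nat.le_induction with
    | base =>
      intro _ g hg
      rw [K11] at hg
      rw [K1]
      have hoff : ∀ i, 1 ≤ i → i ≤ 2 → ∀ j, 3 ≤ j → j ≤ t → q i ≠ q j := fun i h1 h2 j h3 h4 e => by
        have := hq i j h1 (by omega) (by omega) h4 e
        omega
      by_cases hx : g (q 2) = q 2
      · exact Or.inl ⟨hg, hx⟩
      right
      have hgoff : ∀ j, 3 ≤ j → j ≤ t → g (q 2) ≠ q j := fun j h3 h4 e => by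
        rw [← hfix g hg j h3 h4] at e
        exact hoff 2 (by omega) le_rfl j h3 h4 (g.injective e)
      obtain ⟨a, ha, a1, a2⟩ := h2 (q 2) (q 1) (q 2) (g (q 2))
        (fun j h3 h4 => ⟨hoff 2 (by omega) le_rfl j h3 h4, hoff 1 le_rfl (by omega) j h3 h4,
          hoff 2 (by omega) le_rfl j h3 h4, hgoff j h3 h4⟩)
        (fun e => by have := hq 2 1 (by omega) ht le_rfl (by omega) e; omega) (Ne.symm hx)
      refine ⟨a, ⟨ha, a1⟩, (a * s 1)⁻¹ * g, ⟨G.mul_mem (G.inv_mem (G.mul_mem ha hs1)) hg, ?_⟩, ?_⟩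
      · show ((a * s 1)⁻¹ * g) (q 2) = q 2
        rw [Equiv.Perm.mul_apply, Equiv.Perm.inv_eq_iff_eq, Equiv.Perm.mul_apply, hs1q.2, a2]
      · rw [mul_inv_cancel_left]
    | succ k hk ih =>
      intro hkt g hg
      rw [Ksucc (k + 1) (by omega)] at hg
      have hs2' : s (k + 1) * s (k + 1) ∈ K (k + 1) := by
        rw [← pow_two]; exact AK (k + 1) (by omega) (HA (hsq2 _ (by omega) hkt))
      -- the last generator normalises the previous group
      have hn : ∀ x ∈ K k, s (k + 1) * x * (s (k + 1))⁻¹ ∈ K k := by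
        have hA : ∀ x ∈ A, s (k + 1) * x * (s (k + 1))⁻¹ ∈ A := fun x hx => hnorm (k + 1) (by omega) hkt x hx
        suffices ∀ j, 1 ≤ j → j ≤ k → ∀ x ∈ K j, s (k + 1) * x * (s (k + 1))⁻¹ ∈ K j from this k hk le_rfl
        intro j hj
        induction j, hj using Nat.le_induction with
        | base => intro _ x hx; rw [K1] at hx ⊢; exact hA x hx
        | succ j hj ih2 =>
          intro hjk x hx
          have hsj := sconj (k + 1) j (by omega) hj hkt (j + 1) le_rfl
          rcases hj.eq_or_lt with rfl | hj2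
          · rw [K11] at hx hsj ⊢
            by_cases hx2 : x (q 2) = q 2
            · exact (hA x ⟨hx, hx2⟩).1
            · have hoff : ∀ i, 1 ≤ i → i ≤ 2 → ∀ l, 3 ≤ l → l ≤ t → q i ≠ q l := fun i h1 h2 l h3 h4 e => by
                have := hq i l h1 (by omega) (by omega) h4 e
                omega
              obtain ⟨a, ha, a1, a2⟩ := h2 (q 2) (q 1) (q 2) (x (q 2))
                (fun l h3 h4 => ⟨hoff 2 (by omega) le_rfl l h3 h4, hoff 1 le_rfl (by omega) l h3 h4,
                  hoff 2 (by omega) le_rfl l h3 h4, fun e => by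
                    rw [← hfix x hx l h3 h4] at e
                    exact hoff 2 (by omega) le_rfl l h3 h4 (x.injective e)⟩)
                (fun e => by have := hq 2 1 (by omega) ht le_rfl (by omega) e; omega) (Ne.symm hx2)
              have hb : (a * s 1)⁻¹ * x ∈ A := ⟨G.mul_mem (G.inv_mem (G.mul_mem ha hs1)) hx, by
                show ((a * s 1)⁻¹ * x) (q 2) = q 2
                rw [Equiv.Perm.mul_apply, Equiv.Perm.inv_eq_iff_eq, Equiv.Perm.mul_apply, hs1q.2, a2]⟩
              have e : s (1 + 1 + (k - 1)) = s (k + 1) := by rw [show 1 + 1 + (k - 1) = k + 1 by omega]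
              rw [show s (k + 1) * x * (s (k + 1))⁻¹ = (s (k + 1) * a * (s (k + 1))⁻¹) *
                (s (k + 1) * s 1 * (s (k + 1))⁻¹) * (s (k + 1) * ((a * s 1)⁻¹ * x) * (s (k + 1))⁻¹) by
                simp only [mul_inv_rev, mul_assoc, inv_mul_cancel_left, mul_inv_cancel_left]]
              exact G.mul_mem (G.mul_mem (hA a ⟨ha, a1⟩).1 hsj) (hA _ hb).1
          · rw [Ksucc j hj2] at hx hsj ⊢
            have hle : K j ⊔ Subgroup.zpowers (s j) ≤
                (K j ⊔ Subgroup.zpowers (s j)).comap (MulAut.conj (s (k + 1))).toMonoidHom := by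
              refine sup_le (fun y hy => ?_) ?_
              · exact Subgroup.mem_sup_left (ih2 (by omega) y hy)
              · rw [Subgroup.zpowers_le]
                exact hsj
            exact hle hx
      refine union_step (K (k + 1)) (s (k + 1)) hs2' (fun h hh => ?_) g hg
      have conj2 : ∀ x ∈ K k, s (k + 1) * x * s (k + 1) ∈ K (k + 1) := fun x hx => by
        rw [show s (k + 1) * x * s (k + 1) = (s (k + 1) * x * (s (k + 1))⁻¹) * (s (k + 1) * s (k + 1)) by
          simp only [mul_assoc, inv_mul_cancel_left]]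
        exact (K (k + 1)).mul_mem (Kstep k hk (hn x hx)) hs2'
      rcases ih (by omega) h hh with hh' | ⟨a, ha, b, hb, rfl⟩
      · exact Or.inl (conj2 h hh')
      right
      have hb3 := hbraid k hk hkt
      set u := s k
      set v := s (k + 1)
      have hu : u ∈ K (k + 1) := sK k hk
      refine ⟨(v * a * v⁻¹) * u⁻¹ * ((u * v) ^ 3) * (v * v)⁻¹, ?_, u⁻¹ * (v⁻¹ * (b * 1) * v), ?_, ?_⟩
      · exact (K (k + 1)).mul_mem ((K (k + 1)).mul_mem ((K (k + 1)).mul_mem (Kstep k hk (hn a ha)) ((K (k + 1)).inv_mem hu))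
          (AK (k + 1) (by omega) (HA hb3))) ((K (k + 1)).inv_mem hs2')
      · refine (K (k + 1)).mul_mem ((K (k + 1)).inv_mem hu) ?_
        rw [mul_one, show v⁻¹ * b * v = (v * v)⁻¹ * (v * b * v⁻¹) * (v * v) by
          simp only [mul_inv_rev, mul_assoc, inv_mul_cancel_left]]
        exact (K (k + 1)).mul_mem ((K (k + 1)).mul_mem ((K (k + 1)).inv_mem hs2') (Kstep k hk (hn b hb))) hs2'
      · simp only [pow_succ, pow_zero, one_mul, mul_one, mul_inv_rev, mul_assoc, inv_mul_cancel_left,
          mul_inv_cancel_left, mul_inv_cancel]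
  -- the points beyond `k` are fixed by `K k`
  have fixK : ∀ k, 1 ≤ k → ∀ g ∈ K k, ∀ j, k < j → j ≤ t → g (q j) = q j := by
    intro k hk
    induction k, hk using Nat.le_induction with
    | base =>
      intro g hg j hj hjt
      rw [K1] at hg
      rcases (show 2 ≤ j by omega).eq_or_lt with rfl | h
      · exact hg.2
      · exact hfix g hg.1 j h hjt
    | succ k hk ih =>
      intro g hg j hj hjt
      rcases hk.eq_or_lt with rfl | hk2
      · exact hfix g (K2 ▸ hg) j (by omega) hjt
      rw [Ksucc k hk2] at hg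
      have hle : K k ⊔ Subgroup.zpowers (s k) ≤ stabilizer (Equiv.Perm α) (q j) := by
        refine sup_le (fun y hy => ih y hy j (by omega) hjt) ?_
        rw [Subgroup.zpowers_le]
        exact (hsq k hk2 (by omega)).2.2 j (by omega) hjt (by omega) (by omega)
      exact hle hg
  have down : ∀ k, 1 ≤ k → k + 1 ≤ t → ∀ g ∈ K (k + 1), g (q (k + 1)) = q (k + 1) → g ∈ K k := by
    intro k hk hkt g hg hgq
    rcases dec k hk hkt g hg with h | ⟨a, ha, b, hb, rfl⟩
    · exact h
    exfalso
    have hs : s k (q (k + 1)) = q k := by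
      rcases hk.eq_or_lt with rfl | h
      · exact hs1q.2
      · exact (hsq k h hkt).2.1
    rw [Equiv.Perm.mul_apply, Equiv.Perm.mul_apply, fixK k hk b hb (k + 1) (by omega) hkt, hs] at hgq
    rw [← fixK k hk a ha (k + 1) (by omega) hkt] at hgq
    have := hq k (k + 1) hk (by omega) (by omega) hkt (a.injective hgq)
    omega
  have hL : Subgroup.closure ((G : Set (Equiv.Perm α)) ∪ {x | ∃ i : ℕ, 2 ≤ i ∧ i + 1 ≤ t ∧ x = s i}) = K t := by
    apply le_antisymm
    · rw [Subgroup.closure_le]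
      rintro x (hx | ⟨i, hi, hit, rfl⟩)
      · have : ∀ k, 2 ≤ k → G ≤ K k := fun k hk => by
          induction k, hk using Nat.le_induction with
          | base => exact K2.ge
          | succ k hk ih => exact ih.trans (Kstep k (by omega))
        exact this t ht hx
      · have : ∀ k, i + 1 ≤ k → s i ∈ K k := fun k hk => by
          induction k, hk using Nat.le_induction with
          | base => exact sK i (by omega)
          | succ k hk ih => exact Kstep k (by omega) ih
        exact this t hit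
    · have : ∀ k, 2 ≤ k → k ≤ t →
          K k ≤ Subgroup.closure ((G : Set (Equiv.Perm α)) ∪ {x | ∃ i : ℕ, 2 ≤ i ∧ i + 1 ≤ t ∧ x = s i}) := fun k hk => by
        induction k, hk using Nat.le_induction with
        | base => intro _; rw [K2]; exact fun g hg => Subgroup.subset_closure (Or.inl hg)
        | succ k hk ih =>
          intro hkt
          rw [Ksucc k hk]
          refine sup_le (ih (by omega)) ?_
          rw [Subgroup.zpowers_le]
          exact Subgroup.subset_closure (Or.inr ⟨k, hk, hkt, rfl⟩)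
      exact this t ht le_rfl
  rw [hL]
  constructor
  · -- transitivity
    have tr : ∀ k, 2 ≤ k → k ≤ t → ∀ x : ℕ → α, (∀ i j, 1 ≤ i → i ≤ k → 1 ≤ j → j ≤ k → x i = x j → i = j) →
        (∀ i, 1 ≤ i → i ≤ k → ∀ j, k < j → j ≤ t → x i ≠ q j) →
        ∃ g ∈ K k, ∀ i, 1 ≤ i → i ≤ k → g (q i) = x i := by
      intro k hk
      induction k, hk using Nat.le_induction with
      | base =>
        intro _ x hx hxo
        have hoff : ∀ i, 1 ≤ i → i ≤ 2 → ∀ l, 3 ≤ l → l ≤ t → q i ≠ q l := fun i h1 h2 l h3 h4 e => by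
          have := hq i l h1 (by omega) (by omega) h4 e
          omega
        obtain ⟨g, hg, g1, g2⟩ := h2 (q 1) (q 2) (x 1) (x 2)
          (fun l h3 h4 => ⟨hoff 1 le_rfl (by omega) l h3 h4, hoff 2 (by omega) le_rfl l h3 h4,
            hxo 1 le_rfl (by omega) l (by omega) h4, hxo 2 (by omega) le_rfl l (by omega) h4⟩)
          (fun e => by have := hq 1 2 le_rfl (by omega) (by omega) ht e; omega)
          (fun e => by have := hx 1 2 le_rfl (by omega) (by omega) le_rfl e; omega)
        refine ⟨g, K2 ▸ hg, fun i h1 h2 => ?_⟩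
        interval_cases i
        exacts [g1, g2]
      | succ k hk ih =>
        intro hkt x hx hxo
        -- move `x (k + 1)` home
        obtain ⟨f, hf, hf1⟩ : ∃ f ∈ K (k + 1), f (q (k + 1)) = x (k + 1) := by
          by_cases e : x (k + 1) = q (k + 1)
          · exact ⟨1, (K (k + 1)).one_mem, e.symm⟩
          let y : ℕ → α := fun i => if i = k then x (k + 1) else
            if q i = x (k + 1) then q k else q i
          have y1 : ∀ i j, 1 ≤ i → i ≤ k → 1 ≤ j → j ≤ k → y i = y j → i = j := by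
            intro i j i1 i2 j1 j2 hij
            simp only [y] at hij
            split_ifs at hij <;> grind
          have y2 : ∀ i, 1 ≤ i → i ≤ k → ∀ j, k < j → j ≤ t → y i ≠ q j := by
            intro i i1 i2 j hj hjt
            simp only [y]
            split_ifs
            · intro h
              rcases (show k + 1 ≤ j by omega).eq_or_lt with rfl | hj'
              · exact e h
              · exact hxo (k + 1) (by omega) le_rfl j hj' hjt h
            · intro h
              have := hq k j (by omega) (by omega) (by omega) hjt h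
              omega
            · intro h
              have := hq i j i1 (by omega) (by omega) hjt h
              omega
          obtain ⟨f, hf, hfy⟩ := ih (by omega) y y1 y2
          refine ⟨f * s k, (K (k + 1)).mul_mem (Kstep k (by omega) hf) (sK k (by omega)), ?_⟩
          rw [Equiv.Perm.mul_apply, (hsq k hk hkt).2.1, hfy k (by omega) le_rfl]
          simp [y]
        obtain ⟨g, hg, hgx⟩ := ih (by omega) (fun i => f⁻¹ (x i))
          (fun i j i1 i2 j1 j2 h => hx i j i1 (by omega) j1 (by omega) (f⁻¹.injective h))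
          (fun i i1 i2 j hj hjt h => by
            rw [Equiv.Perm.inv_eq_iff_eq] at h
            rcases (show k + 1 ≤ j by omega).eq_or_lt with rfl | hj'
            · rw [hf1] at h
              have := hx i (k + 1) i1 (by omega) (by omega) le_rfl h
              omega
            · rw [fixK (k + 1) (by omega) f hf j hj' hjt] at h
              exact hxo i i1 (by omega) j hj' hjt h)
        refine ⟨f * g, (K (k + 1)).mul_mem hf (Kstep k (by omega) hg), fun i i1 i2 => ?_⟩
        rw [Equiv.Perm.mul_apply]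
        rcases i2.eq_or_lt with rfl | i3
        · rw [fixK k (by omega) g hg (k + 1) (by omega) hkt, hf1]
        · rw [hgx i i1 (by omega)]
          exact f.apply_symm_apply _
    let Q : Fin t ↪ α := ⟨fun i => q (i + 1), fun i j h => by
      have hij : (i : ℕ) + 1 = (j : ℕ) + 1 :=
        hq (i + 1) (j + 1) (by omega) (by omega) (by omega) (by omega) h
      exact Fin.ext (by omega)⟩
    rw [isMultiplyPretransitive_iff]
    intro x y
    have tov : ∀ z : Fin t ↪ α, ∃ g : K t, g • Q = z := by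
      intro z
      obtain ⟨g, hg, hgz⟩ := tr t ht le_rfl (fun i => if h : i - 1 < t then z ⟨i - 1, h⟩ else q i)
        (fun i j i1 i2 j1 j2 h => by
          simp only [dif_pos (show i - 1 < t by omega), dif_pos (show j - 1 < t by omega)] at h
          have := congrArg Fin.val (z.injective h)
          simp at this
          omega)
        (fun i _ _ j hj hjt => by omega)
      refine ⟨⟨g, hg⟩, DFunLike.ext _ _ fun i => ?_⟩
      have := hgz ((i : ℕ) + 1) (by omega) (by omega)
      rw [dif_pos (show (i : ℕ) + 1 - 1 < t by omega)] at this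
      exact this.trans (congrArg z (Fin.ext (by simp)))
    obtain ⟨gx, hx⟩ := tov x
    obtain ⟨gy, hy⟩ := tov y
    refine ⟨gy * gx⁻¹, DFunLike.ext _ _ fun i => ?_⟩
    show ((gy : Equiv.Perm α) * (gx : Equiv.Perm α)⁻¹) (x i) = y i
    rw [← hx, ← hy]
    show ((gy : Equiv.Perm α) * (gx : Equiv.Perm α)⁻¹) ((gx : Equiv.Perm α) (Q i)) = (gy : Equiv.Perm α) (Q i)
    rw [← Equiv.Perm.mul_apply, inv_mul_cancel_right]
  · ext g
    simp only [Subgroup.mem_inf, mem_fixingSubgroup_iff, Set.mem_setOf_eq]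
    constructor
    · rintro ⟨hg, hgf⟩
      have hgq : ∀ i, 1 ≤ i → i ≤ t → g (q i) = q i := fun i h1 h2 => hgf (q i) ⟨i, h1, h2, rfl⟩
      have : ∀ j, j ≤ t - 1 → g ∈ K (t - j) := by
        intro j
        induction j with
        | zero => intro _; exact hg
        | succ j ih =>
          intro hj
          apply down (t - (j + 1)) (by omega) (by omega)
          · rw [show t - (j + 1) + 1 = t - j by omega]; exact ih (by omega)
          · exact hgq _ (by omega) (by omega)
      have h1 := this (t - 1) le_rfl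
      rw [show t - (t - 1) = 1 by omega, K1] at h1
      rw [hH]
      exact ⟨⟨h1.1, hgq 1 le_rfl (by omega)⟩, h1.2⟩
    · intro hg
      refine ⟨AK t (by omega) (HA hg), ?_⟩
      rintro _ ⟨i, i1, i2, rfl⟩
      rw [hH] at hg
      show g (q i) = q i
      rcases (show i = 1 ∨ i = 2 ∨ 3 ≤ i by omega) with rfl | rfl | h3
      · exact hg.1.2
      · exact hg.2
      · exact hfix g hg.1.1 i h3 i2

end Cfsg.Agent.S0709
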