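import Cfsg.Statements.S0710
import Mathlib.GroupTheory.Sylow
import Mathlib.GroupTheory.Perm.Centralizer
import Mathlib.GroupTheory.Perm.Cycle.Concrete
import Mathlib.GroupTheory.SpecificGroups.Cyclic
import Mathlib.GroupTheory.Index
import Mathlib.Tactic.NormNum.Prime

set_option autoImplicit false
open Cfsg

namespace Cfsg.Agent.S0710

open MulAction


/-- No transitive permutation group on 13 points has order `13 * 12 * 11 * 10 * 9 * 8`. -/
theorem result {α : Type*} [Fintype α] [DecidableEq α] (hα : Fintype.card α = 13) (G : Subgroup (Equiv.Perm α)) [MulAction.IsPretransitive G α] : Nat.card G ≠ 13 * 12 * 11 * 10 * 9 * 8 := by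
  classical
  intro hG
  haveI : Fact (Nat.Prime 13) := ⟨by norm_num⟩
  obtain ⟨P⟩ : Nonempty (Sylow 13 G) := inferInstance
  have hPc : Nat.card P = 13 := by
    rw [Sylow.card_eq_multiplicity, hG]
    have : (13 * 12 * 11 * 10 * 9 * 8 : ℕ).factorization 13 = 1 := by
      rw [Nat.factorization_def _ (Fact.out : Nat.Prime 13)]
      rw [show (13 * 12 * 11 * 10 * 9 * 8 : ℕ) = 13 * (12 * 11 * 10 * 9 * 8) by norm_num]
      rw [← Nat.factorization_def _ (Fact.out : Nat.Prime 13), Nat.factorization_mul (by norm_num) (by norm_num),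
        Finsupp.add_apply, (Fact.out : Nat.Prime 13).factorization_self,
        Nat.factorization_eq_zero_of_not_dvd (by norm_num)]
    rw [this, pow_one]
  haveI : IsCyclic P := isCyclic_of_prime_card hPc
  obtain ⟨x, hx⟩ := IsCyclic.exists_generator (α := P)
  have hox : orderOf x = 13 := by rw [orderOf_eq_card_of_forall_mem_zpowers hx, hPc]
  let σ : Equiv.Perm α := ((x : G) : Equiv.Perm α)
  have hoσ : orderOf σ = 13 := by
    simp only [σ, Subgroup.orderOf_coe, hox]
  have hσc : σ.IsCycle := Equiv.Perm.isCycle_of_prime_order'' (by rw [hα]; norm_num) (by rw [hoσ, hα])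
  have hσct : σ.cycleType = {13} := by rw [hσc.cycleType, ← hσc.orderOf, hoσ]
  have hcσ : Nat.card (Subgroup.centralizer ({σ} : Set (Equiv.Perm α))) = 13 := by
    rw [Equiv.Perm.nat_card_centralizer, hσct, hα]
    simp
  let N := Subgroup.normalizer ((P : Subgroup G) : Set G)
  let φ := (P : Subgroup G).normalizerMonoidHom
  have hker : φ.ker = (Subgroup.centralizer ((P : Subgroup G) : Set G)).subgroupOf N :=
    (P : Subgroup G).normalizerMonoidHom_ker
  have hkle : Nat.card φ.ker ≤ 13 := by
    refine le_of_le_of_eq ?_ hcσ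
    refine Nat.card_le_card_of_injective (fun c : φ.ker => (⟨(((c : N) : G) : Equiv.Perm α), ?_⟩ :
      Subgroup.centralizer ({σ} : Set (Equiv.Perm α)))) ?_
    · rintro s rfl
      have hc : (c : N) ∈ (Subgroup.centralizer ((P : Subgroup G) : Set G)).subgroupOf N := hker ▸ c.2
      exact congrArg G.subtype (hc (x : G) x.2)
    · intro c d h
      exact Subtype.ext (Subtype.ext (Subtype.ext (congrArg (fun z : Subgroup.centralizer ({σ} : Set (Equiv.Perm α)) => (z : Equiv.Perm α)) h)))
  have hk13 : 13 ∣ Nat.card φ.ker := by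
    refine dvd_trans (dvd_of_eq hPc.symm) ?_
    rw [hker, ← Nat.card_congr (Subgroup.subgroupOfEquivOfLe
      (Subgroup.le_normalizer (H := (P : Subgroup G)))).toEquiv]
    refine Subgroup.card_dvd_of_le fun y hy => ?_
    intro z hz
    obtain ⟨i, hi⟩ := hx ⟨_, hy⟩
    obtain ⟨j, hj⟩ := hx ⟨z, hz⟩
    have hi' : (x : G) ^ i = ((y : N) : G) := congrArg Subtype.val hi
    have hj' : (x : G) ^ j = z := congrArg Subtype.val hj
    show z * ((y : N) : G) = ((y : N) : G) * z
    rw [← hi', ← hj', ← zpow_add, ← zpow_add, add_comm]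
  have hk : Nat.card φ.ker = 13 := le_antisymm hkle (Nat.le_of_dvd Nat.card_pos hk13)
  have hidx : φ.ker.index ∣ 12 := by
    rw [Subgroup.index_ker]
    refine dvd_trans (Subgroup.card_subgroup_dvd_card _) ?_
    rw [IsCyclic.card_mulAut, hPc, Nat.totient_prime (by norm_num)]
  have hNc : φ.ker.index * 13 = Nat.card N := by rw [← φ.ker.index_mul_card, hk]
  have hmod : Nat.card (Sylow 13 G) % 13 = 1 := by
    have := card_sylow_modEq_one 13 G
    simpa [Nat.ModEq] using this
  have hidxN : Nat.card (Sylow 13 G) * Nat.card N = 13 * 12 * 11 * 10 * 9 * 8 := by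
    rw [P.card_eq_index_normalizer, ← hG]
    exact N.index_mul_card
  rw [← hNc] at hidxN
  have hle := Nat.le_of_dvd (by norm_num) hidx
  generalize Nat.card (Sylow 13 G) = s at hmod hidxN
  generalize φ.ker.index = d at hidx hle hidxN
  have hd : d = 1 ∨ d = 2 ∨ d = 3 ∨ d = 4 ∨ d = 6 ∨ d = 12 := by
    interval_cases d <;> simp_all
  rcases hd with rfl | rfl | rfl | rfl | rfl | rfl <;> norm_num at hidxN <;> omega

end Cfsg.Agent.S0710
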