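import Cfsg.Statements.S0712
import Mathlib.GroupTheory.GroupAction.Jordan

set_option autoImplicit false
open Cfsg

namespace Cfsg.Agent.S0712

open MulAction


/-- Jordan: a primitive group in which the pointwise stabiliser of a set `s` is doubly transitive on the complement of `s` (which has at least 2 points) is `(|s| + 2)`-transitive. -/
theorem result {α : Type*} [Fintype α] [DecidableEq α] (G : Subgroup (Equiv.Perm α)) (hG : MulAction.IsPreprimitive G α) (s : Set α) {m : ℕ} (hsm : s.ncard = m) (hm : m + 2 ≤ Fintype.card α) (h2 : MulAction.IsMultiplyPretransitive (fixingSubgroup G s) (SubMulAction.ofFixingSubgroup G s) 2) : MulAction.IsMultiplyPretransitive G α (m + 2) := by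
  classical
  haveI := h2
  rcases Nat.eq_zero_or_pos m with rfl | hm0
  · have hs : s = ∅ := (Set.ncard_eq_zero (Set.toFinite s)).1 hsm
    subst hs
    refine is_two_pretransitive_iff.2 fun {a b c d} hab hcd => ?_
    have hx : ∀ x : α, x ∈ SubMulAction.ofFixingSubgroup G (∅ : Set α) := fun x => Set.notMem_empty x
    obtain ⟨g, g1, g2⟩ := (is_two_pretransitive_iff.1 h2)
      (show (⟨a, hx a⟩ : SubMulAction.ofFixingSubgroup G (∅ : Set α)) ≠ ⟨b, hx b⟩ from fun e => hab (congrArg Subtype.val e))
      (show (⟨c, hx c⟩ : SubMulAction.ofFixingSubgroup G (∅ : Set α)) ≠ ⟨d, hx d⟩ from fun e => hcd (congrArg Subtype.val e))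
    exact ⟨g, congrArg Subtype.val g1, congrArg Subtype.val g2⟩
  have hmp : IsMultiplyPretransitive G α m := by
    obtain ⟨n, rfl⟩ := Nat.exists_eq_add_of_le' hm0
    have h := IsPreprimitive.isMultiplyPreprimitive hG hsm (by rw [Nat.card_eq_fintype_card]; omega)
      (isPreprimitive_of_is_two_pretransitive h2)
    haveI := h.isMultiplyPretransitive
    exact isMultiplyPretransitive_of_le (n := n + 2) (by omega) (by rw [Nat.card_eq_fintype_card]; omega)
  haveI := hmp
  rw [isMultiplyPretransitive_iff]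
  intro x y
  obtain ⟨e⟩ : Nonempty (Fin m ≃ s) := Finite.card_eq.mp (by rw [Nat.card_fin, Nat.card_coe_set_eq, hsm])
  let sE : Fin m ↪ α := e.toEmbedding.trans (Function.Embedding.subtype _)
  have norm : ∀ z : Fin (m + 2) ↪ α, ∃ g : G, (∀ i : Fin m, g • z (Fin.castAdd 2 i) = sE i) ∧
      ∀ j : Fin 2, g • z (Fin.natAdd m j) ∈ SubMulAction.ofFixingSubgroup G s := by
    intro z
    obtain ⟨g, hg⟩ := exists_smul_eq G ((Fin.castAddEmb 2).trans z) sE
    have hg' : ∀ i : Fin m, g • z (Fin.castAdd 2 i) = sE i := fun i => congrArg (fun f : Fin m ↪ α => f i) hg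
    refine ⟨g, hg', fun j hj => ?_⟩
    have : g • z (Fin.castAdd 2 (e.symm ⟨_, hj⟩)) = g • z (Fin.natAdd m j) := by
      rw [hg']; simp [sE]
    have := congrArg Fin.val (z.injective (MulAction.injective g this))
    simp at this
    omega
  obtain ⟨gx, x1, x2⟩ := norm x
  obtain ⟨gy, y1, y2⟩ := norm y
  have ne01 : ∀ (g : G) (z : Fin (m + 2) ↪ α), g • z (Fin.natAdd m 0) ≠ g • z (Fin.natAdd m 1) := by
    intro g z h
    have := congrArg Fin.val (z.injective (MulAction.injective g h))
    simp at this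
  obtain ⟨f, f0, f1⟩ := (is_two_pretransitive_iff.1 h2)
    (show (⟨_, x2 0⟩ : SubMulAction.ofFixingSubgroup G s) ≠ ⟨_, x2 1⟩ from fun h => ne01 gx x (congrArg Subtype.val h))
    (show (⟨_, y2 0⟩ : SubMulAction.ofFixingSubgroup G s) ≠ ⟨_, y2 1⟩ from fun h => ne01 gy y (congrArg Subtype.val h))
  refine ⟨gy⁻¹ * (f : G) * gx, DFunLike.ext _ _ fun i => ?_⟩
  rw [Function.Embedding.smul_apply, mul_smul, mul_smul, inv_smul_eq_iff]
  induction i using Fin.addCases with
  | left i =>
    rw [x1, y1]
    exact (mem_fixingSubgroup_iff G).1 f.2 _ (e i).2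
  | right j =>
    fin_cases j
    · exact congrArg Subtype.val f0
    · exact congrArg Subtype.val f1

end Cfsg.Agent.S0712
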