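import Cfsg.Statements.S0714
import Mathlib.GroupTheory.GroupAction.MultipleTransitivity
import Mathlib.LinearAlgebra.Span.Basic
import Mathlib.Algebra.BigOperators.Pi

set_option autoImplicit false
open Cfsg

namespace Cfsg.Agent.S0714

open MulAction Equiv


/-- Over any field, the permutation module of the alternating group of degree at least 5 has exactly four invariant subspaces: zero, the constant functions, the functions with coordinate sum zero, and everything. -/
theorem result {α : Type*} [Fintype α] [DecidableEq α] (hα : 5 ≤ Fintype.card α) {K : Type*} [Field K] (W : Subrepresentation (Cfsg.permRep K (alternatingGroup α) α)) : W.toSubmodule = ⊥ ∨ W = Cfsg.permConstants K (alternatingGroup α) α ∨ W = Cfsg.permSumZero K (alternatingGroup α) α ∨ W.toSubmodule = ⊤ := by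
  classical
  have sign2 : ∀ a b c d : α, a ≠ b → c ≠ d → Equiv.swap a b * Equiv.swap c d ∈ alternatingGroup α := by
    intro a b c d hab hcd
    rw [Equiv.Perm.mem_alternatingGroup, map_mul, Equiv.Perm.sign_swap hab, Equiv.Perm.sign_swap hcd]
    rfl
  have hinv : ∀ σ : Equiv.Perm α, σ ∈ alternatingGroup α → ∀ f ∈ W.toSubmodule, (fun x => f (σ x)) ∈ W.toSubmodule := by
    intro σ hσ f hf
    have := W.apply_mem_toSubmodule (⟨σ⁻¹, inv_mem hσ⟩ : alternatingGroup α) hf
    have e : (Cfsg.permRep K (alternatingGroup α) α) ⟨σ⁻¹, inv_mem hσ⟩ f = fun x => f (σ x) := by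
      funext x
      show f ((⟨σ⁻¹, inv_mem hσ⟩ : alternatingGroup α)⁻¹ • x) = f (σ x)
      simp [Subgroup.smul_def, Equiv.Perm.smul_def]
    rwa [e] at this
  by_cases hc : ∀ f ∈ W.toSubmodule, ∀ a b : α, f a = f b
  · by_cases hz : W.toSubmodule = ⊥
    · exact Or.inl hz
    refine Or.inr (Or.inl ?_)
    obtain ⟨f, hf, hf0⟩ := Submodule.exists_mem_ne_zero_of_ne_bot hz
    obtain ⟨a, ha⟩ := Function.ne_iff.1 hf0
    simp only [Pi.zero_apply] at ha
    apply SetLike.ext
    intro g
    show g ∈ W.toSubmodule ↔ g ∈ Submodule.span K {fun _ => (1 : K)}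
    rw [Submodule.mem_span_singleton]
    constructor
    · intro hg
      exact ⟨g a, funext fun x => by simp [hc g hg a x]⟩
    · rintro ⟨c, rfl⟩
      have : c • (fun _ : α => (1 : K)) = (c * (f a)⁻¹) • f := by
        funext x
        simp [hc f hf x a, ha]
      rw [this]
      exact W.toSubmodule.smul_mem _ hf
  push Not at hc
  obtain ⟨f, hf, a, b, hfab⟩ := hc
  have hab : a ≠ b := fun e => hfab (e ▸ rfl)
  obtain ⟨r, hr, hrc⟩ := Finset.exists_subset_card_eq (s := (Finset.univ.erase a).erase b) (n := 3) (by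
    rw [Finset.card_erase_of_mem (by simp [hab.symm]), Finset.card_erase_of_mem (Finset.mem_univ a),
      Finset.card_univ]
    omega)
  obtain ⟨c, d, e, hcd, hce, hde, rfl⟩ := Finset.card_eq_three.1 hrc
  have hc' := hr (show c ∈ ({c, d, e} : Finset α) by simp)
  have hd' := hr (show d ∈ ({c, d, e} : Finset α) by simp)
  have he' := hr (show e ∈ ({c, d, e} : Finset α) by simp)
  simp only [Finset.mem_erase, Finset.mem_univ, and_true] at hc' hd' he'
  obtain ⟨⟨hcb, hca⟩, ⟨hdb, hda⟩, ⟨heb, hea⟩⟩ := And.intro hc' (And.intro hd' he')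
  have hsub : ∀ g ∈ W.toSubmodule, ∀ σ : Equiv.Perm α, σ ∈ alternatingGroup α →
      (fun x => g x - g (σ x)) ∈ W.toSubmodule :=
    fun g hg σ hσ => W.toSubmodule.sub_mem hg (hinv σ hσ g hg)
  let v : α → K := fun x => f x - f ((Equiv.swap a b * Equiv.swap c d) x)
  have hv : v ∈ W.toSubmodule := hsub f hf _ (sign2 a b c d hab hcd)
  let δ : α → α → α → K := fun p q => (Pi.single p 1 : α → K) - Pi.single q 1
  have hva : v a = f a - f b := by simp [v, Equiv.swap_apply_of_ne_of_ne hca.symm hda.symm]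
  have hvb : v b = f b - f a := by simp [v, Equiv.swap_apply_of_ne_of_ne hcb.symm hdb.symm]
  have hvc : v c = f c - f d := by simp [v, Equiv.swap_apply_of_ne_of_ne hda hdb]
  have hvd : v d = f d - f c := by simp [v, Equiv.swap_apply_of_ne_of_ne hca hcb]
  have hvo : ∀ x, x ≠ a → x ≠ b → x ≠ c → x ≠ d → v x = 0 := fun x h1 h2 h3 h4 => by
    simp [v, Equiv.swap_apply_of_ne_of_ne h3 h4, Equiv.swap_apply_of_ne_of_ne h1 h2]
  obtain ⟨p, q, z, hpq, hz, hmem⟩ : ∃ (p q : α) (z : K), p ≠ q ∧ z ≠ 0 ∧ z • δ p q ∈ W.toSubmodule := by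
    by_cases hy : f c = f d
    · refine ⟨a, b, f a - f b, hab, sub_ne_zero.2 hfab, ?_⟩
      convert hv using 1
      funext x
      simp only [δ, Pi.smul_apply, Pi.sub_apply, smul_eq_mul]
      rcases eq_or_ne x a with rfl | h1
      · simp [hva, hab]
      rcases eq_or_ne x b with rfl | h2
      · simp [hvb, hab.symm]
      rcases eq_or_ne x c with rfl | h3
      · simp [hvc, h1, h2, hy]
      rcases eq_or_ne x d with rfl | h4
      · simp [hvd, h1, h2, hy]
      simp [hvo x h1 h2 h3 h4, h1, h2]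
    · let w : α → K := fun x => v x - v ((Equiv.swap c d * Equiv.swap d e) x)
      have hw : w ∈ W.toSubmodule := hsub v hv _ (sign2 c d d e hcd hde)
      let u : α → K := fun x => w x - w ((Equiv.swap e a * Equiv.swap a b) x)
      have hu : u ∈ W.toSubmodule := hsub w hw _ (sign2 e a a b hea hab)
      have hwo : ∀ x, x ≠ c → x ≠ d → x ≠ e → w x = 0 := fun x h3 h4 h5 => by
        simp [w, Equiv.swap_apply_of_ne_of_ne h4 h5, Equiv.swap_apply_of_ne_of_ne h3 h4]
      have hwe : w e = f d - f c := by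
        simp [w, hvo e hea heb hce.symm hde.symm, hvc]
      refine ⟨e, b, f d - f c, heb, sub_ne_zero.2 (Ne.symm hy), ?_⟩
      convert hu using 1
      funext x
      simp only [δ, Pi.smul_apply, Pi.sub_apply, smul_eq_mul]
      rcases eq_or_ne x e with rfl | h1
      · simp [u, Equiv.swap_apply_of_ne_of_ne hea heb, hwe, hwo a hca.symm hda.symm hea.symm, heb]
      rcases eq_or_ne x b with rfl | h2
      · simp [u, hwe, hwo x hcb.symm hdb.symm h1, h1]
      rcases eq_or_ne x a with rfl | h3
      · simp [u, hwo x hca.symm hda.symm h1, hwo b hcb.symm hdb.symm heb.symm,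
          Equiv.swap_apply_of_ne_of_ne heb.symm hab.symm, h1, h2]
      simp [u, Equiv.swap_apply_of_ne_of_ne h3 h2, Equiv.swap_apply_of_ne_of_ne h1 h3, h1, h2]
  have hδ : δ p q ∈ W.toSubmodule := by
    have := W.toSubmodule.smul_mem z⁻¹ hmem
    rwa [inv_smul_smul₀ hz] at this
  have h2t : IsMultiplyPretransitive (alternatingGroup α) α 2 := by
    haveI := alternatingGroup.isMultiplyPretransitive α
    exact isMultiplyPretransitive_of_le (n := Nat.card α - 2) (by rw [Nat.card_eq_fintype_card]; omega)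
      (Nat.sub_le _ _)
  have hall : ∀ p' q' : α, δ p' q' ∈ W.toSubmodule := by
    intro p' q'
    rcases eq_or_ne p' q' with rfl | hne
    · simp [δ]
    obtain ⟨g, g1, g2⟩ := (is_two_pretransitive_iff.1 h2t) hpq hne
    have h := hinv (g : Equiv.Perm α)⁻¹ (inv_mem g.2) _ hδ
    convert h using 1
    funext x
    have g1' : (g : Equiv.Perm α) p = p' := g1
    have g2' : (g : Equiv.Perm α) q = q' := g2
    simp only [δ, Pi.sub_apply, Pi.single_apply, Equiv.Perm.inv_eq_iff_eq, g1', g2']
  have hsum : ∀ g : α → K, ∑ x, g x = 0 → g ∈ W.toSubmodule := by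
    intro g hg
    have : g = ∑ x, g x • δ x a := by
      funext y
      simp [δ, mul_sub, Finset.sum_sub_distrib, ← Finset.sum_mul, hg, Finset.sum_apply, Pi.single_apply]
    rw [this]
    exact Submodule.sum_mem _ fun x _ => W.toSubmodule.smul_mem _ (hall x a)
  by_cases hall0 : ∀ g ∈ W.toSubmodule, ∑ x, g x = 0
  · refine Or.inr (Or.inr (Or.inl ?_))
    apply SetLike.ext
    intro g
    exact ⟨fun hg => hall0 g hg, fun hg => hsum g hg⟩
  · refine Or.inr (Or.inr (Or.inr ?_))
    push Not at hall0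
    obtain ⟨g, hg, hg0⟩ := hall0
    rw [eq_top_iff]
    intro y _
    have := W.toSubmodule.add_mem (hsum (y - ((∑ x, y x) * (∑ x, g x)⁻¹) • g) (by
      simp [Finset.sum_sub_distrib, ← Finset.mul_sum, hg0]))
      (W.toSubmodule.smul_mem ((∑ x, y x) * (∑ x, g x)⁻¹) hg)
    simpa using this

end Cfsg.Agent.S0714
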