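import Cfsg.Statements.S0715
import Cfsg.Agent.Lib.PermChar.Degrees

set_option autoImplicit false
open Cfsg

namespace Cfsg.Agent.S0715

/-- If a natural number `f` divides the degree of every non-principal irreducible constituent of the permutation character of a transitive group, then `f` divides every non-trivial subdegree. -/
theorem result {G : Type*} [Group G] [Fintype G] {Ω : Type*} [Fintype Ω] [MulAction G Ω] [MulAction.IsPretransitive G Ω] (f : ℕ) (hf : ∀ χ : G → ℂ, Cfsg.IsIrrCharacter G χ → χ ≠ (fun _ => 1) → Cfsg.classInner (fun g : G => (Nat.card (MulAction.fixedBy Ω g) : ℂ)) χ ≠ 0 → ∃ m : ℕ, χ 1 = (f : ℂ) * m) (a b : Ω) (hab : b ≠ a) : f ∣ Nat.card (MulAction.orbit (MulAction.stabilizer G a) b) := by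
  refine CfsgLib.PermChar.dvd_subdegree (G := G) (fun χ h1 h2 => ?_) hab
  obtain ⟨m, hm⟩ := hf χ.1 χ.2 (fun e => h1 (Subtype.ext (e.trans (funext fun g =>
    (CfsgLib.Char.principalIrr_apply g).symm)))) ((CfsgLib.PermChar.classInner_ne_zero_iff χ.2).2 h2)
  refine ⟨m, ?_⟩
  rw [← CfsgLib.Char.IsCharacter.degree_cast (CfsgLib.Char.IsIrrCharacter.isCharacter χ.2)] at hm
  exact_mod_cast hm

end Cfsg.Agent.S0715
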