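import Cfsg.Statements.S0716
import Cfsg.Agent.Lib.PermChar.Degrees

set_option autoImplicit false
open Cfsg

namespace Cfsg.Agent.S0716

/-- (a) If all non-principal irreducible constituents of the permutation character of a transitive group have the same degree `f`, the character is multiplicity-free and all non-trivial subdegrees equal `f`. (b) A transitive group of rank at most 5 has multiplicity-free permutation character. -/
theorem result {G : Type*} [Group G] [Fintype G] {Ω : Type*} [Fintype Ω] [MulAction G Ω] [MulAction.IsPretransitive G Ω] (a : Ω) : ((f : ℕ) → (∀ χ : G → ℂ, Cfsg.IsIrrCharacter G χ → χ ≠ (fun _ => 1) → Cfsg.classInner (fun g : G => (Nat.card (MulAction.fixedBy Ω g) : ℂ)) χ ≠ 0 → χ 1 = f) → (∀ χ : G → ℂ, Cfsg.IsIrrCharacter G χ → Cfsg.classInner (fun g : G => (Nat.card (MulAction.fixedBy Ω g) : ℂ)) χ = 0 ∨ Cfsg.classInner (fun g : G => (Nat.card (MulAction.fixedBy Ω g) : ℂ)) χ = 1) ∧ ∀ b : Ω, b ≠ a → Nat.card (MulAction.orbit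 (MulAction.stabilizer G a) b) = f) ∧ (Nat.card (MulAction.orbitRel.Quotient (MulAction.stabilizer G a) Ω) ≤ 5 → ∀ χ : G → ℂ, Cfsg.IsIrrCharacter G χ → Cfsg.classInner (fun g : G => (Nat.card (MulAction.fixedBy Ω g) : ℂ)) χ = 0 ∨ Cfsg.classInner (fun g : G => (Nat.card (MulAction.fixedBy Ω g) : ℂ)) χ = 1) := by
  have key : ∀ χ : G → ℂ, ∀ hχ : Cfsg.IsIrrCharacter G χ,
      CfsgLib.PermChar.mult Ω (⟨χ, hχ⟩ : Cfsg.IrrCharacter G).1 ≤ 1 →
      Cfsg.classInner (fun g : G => (Nat.card (MulAction.fixedBy Ω g) : ℂ)) χ = 0 ∨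
        Cfsg.classInner (fun g : G => (Nat.card (MulAction.fixedBy Ω g) : ℂ)) χ = 1 := by
    intro χ hχ h
    have e := CfsgLib.PermChar.cast_mult (Ω := Ω) hχ
    rcases Nat.le_one_iff_eq_zero_or_eq_one.1 h with h0 | h0
    · left; rw [h0, Nat.cast_zero] at e; exact e.symm
    · right; rw [h0, Nat.cast_one] at e; exact e.symm
  refine ⟨fun f hf => ?_, fun hr χ hχ => key χ hχ (CfsgLib.PermChar.mult_le_one_of_rank a hr ⟨χ, hχ⟩)⟩
  have hs := CfsgLib.PermChar.same_degree (G := G) a (f := f) fun χ h1 h2 => by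
    have h := hf χ.1 χ.2 (fun e => h1 (Subtype.ext (e.trans (funext fun g =>
      (CfsgLib.Char.principalIrr_apply g).symm)))) ((CfsgLib.PermChar.classInner_ne_zero_iff χ.2).2 h2)
    rw [← CfsgLib.Char.IsCharacter.degree_cast (CfsgLib.Char.IsIrrCharacter.isCharacter χ.2)] at h
    exact_mod_cast h
  exact ⟨fun χ hχ => key χ hχ (hs.1 ⟨χ, hχ⟩), hs.2⟩

end Cfsg.Agent.S0716
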