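import Cfsg.Statements.S0717
import Cfsg.Agent.Lib.PermChar.SelfPaired

set_option autoImplicit false
open Cfsg

namespace Cfsg.Agent.S0717

/-- All suborbits of a transitive group are self-paired (every pair of points is interchanged by some group element) if and only if the permutation character is multiplicity-free and each of its irreducible constituents is real-valued. -/
theorem result {G : Type*} [Group G] [Fintype G] {Ω : Type*} [Fintype Ω] [MulAction G Ω] [MulAction.IsPretransitive G Ω] : (∀ a b : Ω, ∃ g : G, g • a = b ∧ g • b = a) ↔ ∀ χ : G → ℂ, Cfsg.IsIrrCharacter G χ → Cfsg.classInner (fun g : G => (Nat.card (MulAction.fixedBy Ω g) : ℂ)) χ ≠ 0 → Cfsg.classInner (fun g : G => (Nat.card (MulAction.fixedBy Ω g) : ℂ)) χ = 1 ∧ ∀ g : G, (starRingEnd ℂ) (χ g) = χ g := by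
  refine ⟨fun hsp χ hχ hm => ⟨?_, CfsgLib.PermChar.real_of_selfPaired hsp hχ hm⟩, fun h =>
    CfsgLib.PermChar.selfPaired_of_mf_real (fun χ => ?_) (fun χ hm => (h χ.1 χ.2 hm).2)⟩
  · have hmf := (CfsgLib.PermChar.commCentralizer_iff_mf _).1
      (CfsgLib.PermChar.commCentralizer_of_selfPaired hsp) ⟨χ, hχ⟩
    rw [← CfsgLib.PermChar.piFun_eq_character] at hmf
    exact hmf.resolve_left hm
  · rw [← CfsgLib.PermChar.piFun_eq_character]
    exact or_iff_not_imp_left.2 fun hm => (h χ.1 χ.2 hm).1

end Cfsg.Agent.S0717
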