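import Cfsg.Statements.S0718
import Cfsg.Agent.Lib.PermChar.Commutant

set_option autoImplicit false
open Cfsg

namespace Cfsg.Agent.S0718

/-- Multiplicity-freeness of the permutation character is equivalent to commutativity of the centraliser ring, i.e. of the algebra of `G`-equivariant endomorphisms of the complex permutation module. -/
theorem result {G : Type*} [Group G] [Fintype G] {Ω : Type*} [Fintype Ω] [MulAction G Ω] : (∀ χ : G → ℂ, Cfsg.IsIrrCharacter G χ → Cfsg.classInner (fun g : G => (Nat.card (MulAction.fixedBy Ω g) : ℂ)) χ = 0 ∨ Cfsg.classInner (fun g : G => (Nat.card (MulAction.fixedBy Ω g) : ℂ)) χ = 1) ↔ ∀ S T : (Ω → ℂ) →ₗ[ℂ] (Ω → ℂ), S ∈ ((Cfsg.permRep ℂ G Ω).linHom (Cfsg.permRep ℂ G Ω)).invariants → T ∈ ((Cfsg.permRep ℂ G Ω).linHom (Cfsg.permRep ℂ G Ω)).invariants → S ∘ₗ T = T ∘ₗ S := by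
  have hinv : ∀ S : (Ω → ℂ) →ₗ[ℂ] (Ω → ℂ),
      S ∈ ((Cfsg.permRep ℂ G Ω).linHom (Cfsg.permRep ℂ G Ω)).invariants ↔
        ∀ g : G, S * Cfsg.permRep ℂ G Ω g = Cfsg.permRep ℂ G Ω g * S := by
    intro S
    rw [Representation.mem_invariants]
    refine forall_congr' fun g => ?_
    rw [Representation.linHom_apply]
    have e : Cfsg.permRep ℂ G Ω g⁻¹ * Cfsg.permRep ℂ G Ω g = 1 := by rw [← map_mul, inv_mul_cancel, map_one]
    have e' : Cfsg.permRep ℂ G Ω g * Cfsg.permRep ℂ G Ω g⁻¹ = 1 := by rw [← map_mul, mul_inv_cancel, map_one]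
    show Cfsg.permRep ℂ G Ω g * (S * Cfsg.permRep ℂ G Ω g⁻¹) = S ↔ _
    constructor
    · intro h
      conv_lhs => rw [← h]
      rw [mul_assoc, mul_assoc, e, mul_one]
    · intro h
      rw [← mul_assoc, ← h, mul_assoc, e', mul_one]
  constructor
  · intro h S T hS hT
    refine (CfsgLib.PermChar.commCentralizer_iff_mf _).2 (fun χ => ?_) S T ((hinv S).1 hS) ((hinv T).1 hT)
    rw [← CfsgLib.PermChar.piFun_eq_character]
    exact h χ.1 χ.2
  · intro h χ hχ
    have hmf := (CfsgLib.PermChar.commCentralizer_iff_mf (Cfsg.permRep ℂ G Ω)).1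
      (fun S T hS hT => h S T ((hinv S).2 hS) ((hinv T).2 hT)) ⟨χ, hχ⟩
    rw [← CfsgLib.PermChar.piFun_eq_character] at hmf
    exact hmf

end Cfsg.Agent.S0718
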