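import Cfsg.Statements.S0722
import Mathlib.GroupTheory.GroupAction.Primitive
import Mathlib.Algebra.Group.Subgroup.Pointwise

set_option autoImplicit false
open Cfsg

namespace Cfsg.Agent.S0722

open MulAction Pointwise


/-- In a primitive group `H`, with `N` a minimal normal subgroup and `K` a point stabiliser, `K ⊓ N` is maximal among proper `K`-invariant subgroups of `N`. -/
theorem result {α : Type*} [Finite α] (H : Subgroup (Equiv.Perm α)) [MulAction.IsPreprimitive H α] (N : Subgroup H) [N.Normal] (hN : N ≠ ⊥) (hmin : ∀ M : Subgroup H, M.Normal → M ≤ N → M = ⊥ ∨ M = N) (a : α) (X : Subgroup H) (hX : X ≤ N) (hKX : MulAction.stabilizer H a ⊓ N ≤ X) (hinv : MulAction.stabilizer H a ≤ Subgroup.normalizer (X : Set H)) : X = MulAction.stabilizer H a ⊓ N ∨ X = N := by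
  have hNtr : IsPretransitive N α := by
    apply IsQuasiPreprimitive.isPretransitive_of_normal
    intro hfix
    apply hN
    rw [eq_bot_iff]
    intro n hn
    rw [Subgroup.mem_bot]
    apply Subtype.ext
    apply Equiv.ext
    intro x
    have hx : x ∈ fixedPoints N α := hfix ▸ Set.mem_univ x
    exact hx ⟨n, hn⟩
  rcases subsingleton_or_nontrivial α with hsub | hnt
  · left
    refine le_antisymm (le_inf ?_ hX) hKX
    intro h _
    exact Subsingleton.elim _ _
  have hmax : IsCoatom (stabilizer H a) := (isCoatom_stabilizer_iff_preprimitive H a).2 inferInstance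
  by_cases hle : X ≤ stabilizer H a
  · left
    exact le_antisymm (le_inf hle hX) hKX
  · right
    have htop : stabilizer H a ⊔ X = ⊤ := hmax.2 _ (lt_of_le_of_ne le_sup_left fun h => hle (h ▸ le_sup_right))
    refine le_antisymm hX fun n hn => ?_
    have hn' : n ∈ ((stabilizer H a ⊔ X : Subgroup H) : Set H) := htop ▸ Subgroup.mem_top n
    rw [Subgroup.coe_mul_of_left_le_normalizer_right (stabilizer H a) X hinv] at hn'
    obtain ⟨k, hk, x, hx, rfl⟩ := hn'
    have hkN : k ∈ N := by
      have := N.mul_mem hn (N.inv_mem (hX hx))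
      simpa using this
    exact X.mul_mem (hKX ⟨hk, hkN⟩) hx

end Cfsg.Agent.S0722
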