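import Cfsg.Statements.S0723
import Cfsg.Agent.S0721
import Cfsg.Agent.S0722
import Mathlib.GroupTheory.QuotientGroup.Basic
import Mathlib.GroupTheory.Subgroup.Simple

set_option autoImplicit false
open Cfsg

namespace Cfsg.Agent.S0723

open MulAction

variable {T : Type*} [Group T] [IsSimpleGroup T] {m : ℕ}

theorem exists_noncomm (hT : ¬ IsMulCommutative T) {x : T} (hx : x ≠ 1) : ∃ t : T, t * x ≠ x * t := by
  by_contra h
  push Not at h
  have hc : x ∈ Subgroup.center T := Subgroup.mem_center_iff.2 h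
  rcases (Subgroup.instNormalCenter (G := T)).eq_bot_or_eq_top with hb | ht
  · rw [hb, Subgroup.mem_bot] at hc
    exact hx hc
  · exact hT ⟨⟨fun a b => Subgroup.mem_center_iff.1 (ht ▸ Subgroup.mem_top b) a⟩⟩

theorem commute_single_elim (hT : ¬ IsMulCommutative T) (y : Fin m → T) (i : Fin m)
    (h : ∀ t : T, y * Pi.mulSingle i t = Pi.mulSingle i t * y) : y i = 1 := by
  by_contra hy
  obtain ⟨t, ht⟩ := exists_noncomm hT hy
  exact ht (by simpa using (congrFun (h t) i).symm)

theorem single_mem_of_normal (hT : ¬ IsMulCommutative T) (M : Subgroup (Fin m → T)) [M.Normal]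
    {x : Fin m → T} (hx : x ∈ M) {i : Fin m} (hi : x i ≠ 1) (s : T) : Pi.mulSingle i s ∈ M := by
  classical
  obtain ⟨t, ht⟩ := exists_noncomm hT hi
  let L : Subgroup T := M.comap (MonoidHom.mulSingle (fun _ => T) i)
  haveI hL : L.Normal := Subgroup.Normal.comap inferInstance _
  have hc : t * x i * t⁻¹ * (x i)⁻¹ ∈ L := by
    show Pi.mulSingle i (t * x i * t⁻¹ * (x i)⁻¹) ∈ M
    have h1 : Pi.mulSingle i t * x * (Pi.mulSingle i t)⁻¹ * x⁻¹ ∈ M :=
      M.mul_mem (Subgroup.Normal.conj_mem inferInstance x hx _) (M.inv_mem hx)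
    convert h1 using 1
    funext j
    rcases eq_or_ne j i with rfl | hj
    · simp
    · simp [Pi.mulSingle_eq_of_ne hj]
  rcases hL.eq_bot_or_eq_top with hb | htop
  · rw [hb, Subgroup.mem_bot, mul_inv_eq_one, mul_inv_eq_iff_eq_mul] at hc
    exact absurd hc ht
  · exact (htop ▸ Subgroup.mem_top s : s ∈ L)

/-- An automorphism of a power of a non-abelian simple group permutes the coordinates. -/
theorem exists_perm (hT : ¬ IsMulCommutative T) (φ : (Fin m → T) ≃* (Fin m → T)) :
    ∃ (σ : Equiv.Perm (Fin m)) (ψ : Fin m → (T ≃* T)), ∀ f i, φ f (σ i) = ψ i (f i) := by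
  classical
  haveI : Nontrivial T := IsSimpleGroup.toNontrivial
  have key : ∀ i : Fin m, ∃ j : Fin m, ∀ f : Fin m → T,
      (∀ l, l ≠ j → f l = 1) ↔ ∀ l, l ≠ i → φ.symm f l = 1 := by
    intro i
    let M : Subgroup (Fin m → T) :=
      { carrier := {f | ∀ l, l ≠ i → φ.symm f l = 1}
        one_mem' := fun l _ => by simp
        mul_mem' := fun ha hb l hl => by simp [ha l hl, hb l hl]
        inv_mem' := fun ha l hl => by simp [ha l hl] }
    haveI hM : M.Normal := ⟨fun x hx g l hl => by simp [hx l hl]⟩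
    obtain ⟨t, ht⟩ := exists_ne (1 : T)
    have hx : φ (Pi.mulSingle i t) ∈ M := fun l hl => by simp [Pi.mulSingle_eq_of_ne hl]
    obtain ⟨j, hj⟩ : ∃ j, φ (Pi.mulSingle i t) j ≠ 1 := by
      by_contra h
      push Not at h
      have h0 : φ (Pi.mulSingle i t) = 1 := funext h
      rw [φ.map_eq_one_iff, Pi.mulSingle_eq_one_iff] at h0
      exact ht h0
    have hsM : ∀ s, Pi.mulSingle j s ∈ M := fun s => single_mem_of_normal hT M hx hj s
    refine ⟨j, fun f => ⟨fun hf => ?_, fun hf => ?_⟩⟩
    · have e : f = Pi.mulSingle j (f j) := funext fun l => by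
        rcases eq_or_ne l j with rfl | hl
        · simp
        · rw [Pi.mulSingle_eq_of_ne hl, hf l hl]
      rw [e]
      exact hsM _
    · intro l hl
      by_contra hfl
      have h2 : ∀ s, Pi.mulSingle l s ∈ M := fun s => single_mem_of_normal hT M hf hfl s
      obtain ⟨a, ha⟩ := exists_noncomm hT ht
      -- `M` is isomorphic to `T`, so two coordinates cannot both lie in it
      have e1 : φ.symm (Pi.mulSingle j t) = Pi.mulSingle i (φ.symm (Pi.mulSingle j t) i) := funext fun l' => by
        rcases eq_or_ne l' i with rfl | h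
        · simp
        · rw [Pi.mulSingle_eq_of_ne h, hsM t l' h]
      have hall : ∀ s, ∃ g : Fin m → T, g ∈ M ∧ φ.symm g i = s := fun s =>
        ⟨φ (Pi.mulSingle i s), fun l' hl' => by simp [Pi.mulSingle_eq_of_ne hl'], by simp⟩
      apply ht
      -- the image of the `l`-th coordinate commutes with the image of the `j`-th one
      have hcomm : ∀ s, φ.symm (Pi.mulSingle l s) i * φ.symm (Pi.mulSingle j t) i =
          φ.symm (Pi.mulSingle j t) i * φ.symm (Pi.mulSingle l s) i := fun s => by
        have h : (Pi.mulSingle l s : Fin m → T) * Pi.mulSingle j t = Pi.mulSingle j t * Pi.mulSingle l s :=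
          Pi.mulSingle_commute (f := fun _ => T) hl s t
        simpa using congrFun (congrArg φ.symm h) i
      let g : T →* T := ((Pi.evalMonoidHom (fun _ => T) i).comp φ.symm.toMonoidHom).comp
        (MonoidHom.mulSingle (fun _ => T) l)
      have gsurj : Function.Surjective g := by
        have ginj : Function.Injective g := by
          intro a b hab
          have : φ.symm (Pi.mulSingle l a) = φ.symm (Pi.mulSingle l b) := funext fun l' => by
            rcases eq_or_ne l' i with rfl | h
            · exact hab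
            · rw [h2 a l' h, h2 b l' h]
          exact Pi.mulSingle_injective (M := fun _ => T) l (φ.symm.injective this)
        have grange : (MonoidHom.range g).Normal := by
          constructor
          rintro _ ⟨a, rfl⟩ s
          obtain ⟨w, -, hw⟩ := hall s
          refine ⟨w l * a * (w l)⁻¹, ?_⟩
          rw [← hw]
          have e : Pi.mulSingle l (w l * a * (w l)⁻¹) = w * Pi.mulSingle l a * w⁻¹ := funext fun l' => by
            rcases eq_or_ne l' l with rfl | h
            · simp
            · simp [Pi.mulSingle_eq_of_ne h]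
          show φ.symm (Pi.mulSingle l (w l * a * (w l)⁻¹)) i = _
          rw [e]
          simp [g]
        rcases grange.eq_bot_or_eq_top with hb | htop
        · rw [MonoidHom.range_eq_bot_iff] at hb
          exact absurd (ginj ((DFunLike.congr_fun hb t).trans (map_one g).symm)) ht
        · exact MonoidHom.range_eq_top.1 htop
      by_contra
      have hne : φ.symm (Pi.mulSingle j t) i ≠ 1 := fun h => by
        rw [h, Pi.mulSingle_one] at e1
        rw [φ.symm.map_eq_one_iff, Pi.mulSingle_eq_one_iff] at e1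
        exact ht e1
      obtain ⟨u, hu⟩ := exists_noncomm hT hne
      obtain ⟨s, rfl⟩ := gsurj u
      exact hu (hcomm s)
  choose σ0 hσ0 using key
  have hinj : Function.Injective σ0 := by
    intro a b hab
    by_contra hne
    obtain ⟨t, ht⟩ := exists_ne (1 : T)
    have h1 : ∀ l, l ≠ σ0 a → φ (Pi.mulSingle a t) l = 1 :=
      (hσ0 a _).2 fun l hl => by simp [Pi.mulSingle_eq_of_ne hl]
    rw [hab] at h1
    have h2 := (hσ0 b _).1 h1 a hne
    simp at h2
    exact ht h2
  let σ : Equiv.Perm (Fin m) := Equiv.ofBijective σ0 (Finite.injective_iff_bijective.1 hinj)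
  have coord : ∀ f i, φ f (σ0 i) = φ (Pi.mulSingle i (f i)) (σ0 i) := by
    intro f i
    have hr : φ ((Pi.mulSingle i (f i))⁻¹ * f) (σ0 i) = 1 := by
      refine commute_single_elim hT _ _ fun t => ?_
      have hy : ∀ l, l ≠ i → φ.symm (Pi.mulSingle (σ0 i) t) l = 1 :=
        (hσ0 i _).1 fun l hl => Pi.mulSingle_eq_of_ne hl _
      apply φ.symm.injective
      rw [φ.symm.map_mul, φ.symm.map_mul, φ.symm_apply_apply]
      funext l
      rcases eq_or_ne l i with rfl | hl
      · simp
      · simp [hy l hl, Pi.mulSingle_eq_of_ne hl]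
    rw [map_mul, map_inv, Pi.mul_apply, Pi.inv_apply, inv_mul_eq_one] at hr
    exact hr.symm
  let g : Fin m → (T →* T) := fun i => ((Pi.evalMonoidHom (fun _ => T) (σ0 i)).comp φ.toMonoidHom).comp
    (MonoidHom.mulSingle (fun _ => T) i)
  have gbij : ∀ i, Function.Bijective (g i) := by
    intro i
    refine ⟨fun a b hab => ?_, fun s => ⟨φ.symm (Pi.mulSingle (σ0 i) s) i, ?_⟩⟩
    · have : φ (Pi.mulSingle i a) = φ (Pi.mulSingle i b) := funext fun l => by
        rcases eq_or_ne l (σ0 i) with rfl | h
        · exact hab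
        · rw [(hσ0 i (φ (Pi.mulSingle i a))).2 (fun l' hl' => by simp [Pi.mulSingle_eq_of_ne hl']) l h,
            (hσ0 i (φ (Pi.mulSingle i b))).2 (fun l' hl' => by simp [Pi.mulSingle_eq_of_ne hl']) l h]
      exact Pi.mulSingle_injective (M := fun _ => T) i (φ.injective this)
    · show φ (Pi.mulSingle i (φ.symm (Pi.mulSingle (σ0 i) s) i)) (σ0 i) = s
      rw [← coord, φ.apply_symm_apply, Pi.mulSingle_eq_same]
  exact ⟨σ, fun i => MulEquiv.ofBijective (g i) (gbij i), fun f i => coord f i⟩

/-- If two normal subgroups of a group mapping onto a non-abelian simple group meet inside the kernel,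
one of them is inside it. -/
theorem le_or_le_of_inf_le {D : Type*} [Group D] (hT : ¬ IsMulCommutative T) (π : D →* T)
    (hπ : Function.Surjective π) (A B : Subgroup D) [A.Normal] [B.Normal] (h : A ⊓ B ≤ π.ker) :
    A ≤ π.ker ∨ B ≤ π.ker := by
  by_contra hc
  push Not at hc
  have hA : A.map π = ⊤ := by
    rcases (Subgroup.Normal.map (inferInstance : A.Normal) π hπ).eq_bot_or_eq_top with hb | ht
    · exact absurd ((Subgroup.map_eq_bot_iff _).1 hb) hc.1
    · exact ht
  have hB : B.map π = ⊤ := by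
    rcases (Subgroup.Normal.map (inferInstance : B.Normal) π hπ).eq_bot_or_eq_top with hb | ht
    · exact absurd ((Subgroup.map_eq_bot_iff _).1 hb) hc.2
    · exact ht
  refine hT ⟨⟨fun x y => ?_⟩⟩
  obtain ⟨a, ha, rfl⟩ := (hA ▸ Subgroup.mem_top x : x ∈ A.map π)
  obtain ⟨b, hb, rfl⟩ := (hB ▸ Subgroup.mem_top y : y ∈ B.map π)
  have h1 : a * b * a⁻¹ * b⁻¹ ∈ A ⊓ B := by
    refine ⟨?_, B.mul_mem (Subgroup.Normal.conj_mem inferInstance b hb a) (B.inv_mem hb)⟩
    rw [show a * b * a⁻¹ * b⁻¹ = a * (b * a⁻¹ * b⁻¹) by simp only [mul_assoc]]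
    exact A.mul_mem ha (Subgroup.Normal.conj_mem inferInstance _ (A.inv_mem ha) b)
  have h2 := h h1
  simp only [MonoidHom.mem_ker, map_mul, map_inv] at h2
  rwa [mul_inv_eq_one, mul_inv_eq_iff_eq_mul] at h2


/-- The core of the O'Nan–Scott Theorem. Let `H` be a primitive permutation group on a finite set whose unique minimal normal subgroup `N` is non-abelian, and `K` a point stabiliser. Then there are a non-abelian simple group `T` and an isomorphism `N ≃* T^m` (`m ≥ 1`) under which `K ⊓ N` becomes either a product `∏ K_i` of proper subgroups `K_i < T`, or the set of functions constant on each block of a partition of the index set into blocks of one common size `k ≥ 2`. -/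
theorem result {α : Type*} [Finite α] (H : Subgroup (Equiv.Perm α)) [MulAction.IsPreprimitive H α] (N : Subgroup H) [N.Normal] (hN : N ≠ ⊥) (hmin : ∀ M : Subgroup H, M.Normal → M ≤ N → M = ⊥ ∨ M = N) (huniq : ∀ L : Subgroup H, L.Normal → L ≠ ⊥ → (∀ M : Subgroup H, M.Normal → M ≤ L → M = ⊥ ∨ M = L) → L = N) (hnab : ¬ IsMulCommutative N) (a : α) : ∃ (T : Type) (_ : Group T) (m : ℕ) (e : N ≃* (Fin m → T)), IsSimpleGroup T ∧ ¬ IsMulCommutative T ∧ 0 < m ∧ ((∃ K : Fin m → Subgroup T, (∀ i, K i ≠ ⊤) ∧ ∀ n : N, (n : H) ∈ MulAction.stabilizer H a ↔ ∀ i, e n i ∈ K i) ∨ (∃ (k : ℕ) (c : Fin m → Fin m), 2 ≤ k ∧ (∀ j : Fin m, Nat.card {i : Fin m // c i = j} = k ∨ Nat.card {i : Fin m // c i = j} = 0) ∧ ∀ n : N, (n : H) ∈ MulAction.stabilizer H a ↔ ∀ i j : Fin m, c i = c j → e n i = e n j)) := by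
  classical
  obtain ⟨T, iT, m, hT, hm, ⟨e⟩⟩ := Cfsg.Agent.S0721.result N hN hmin
  haveI := hT
  haveI : Nontrivial T := IsSimpleGroup.toNontrivial
  haveI : Finite T := Finite.of_injective (fun t => e.symm (Pi.mulSingle ⟨0, hm⟩ t))
    (fun a b h => Pi.mulSingle_injective (M := fun _ => T) ⟨0, hm⟩ (e.symm.injective h))
  have hTnc : ¬ IsMulCommutative T := fun hc => hnab ⟨⟨fun a b => e.injective (by
    funext i; rw [map_mul, map_mul]; exact hc.is_comm.comm _ _)⟩⟩
  set K := stabilizer H a with hK
  let D : Subgroup N := K.subgroupOf N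
  -- conjugation
  let φ : H → ((Fin m → T) ≃* (Fin m → T)) := fun h => (e.symm.trans (MulAut.conjNormal h)).trans e
  have hφ : ∀ h (n : N), φ h (e n) = e (MulAut.conjNormal h n) := fun h n => by simp [φ]
  choose σ ψ hσ using fun h => exists_perm hTnc (φ h)
  have hDK : ∀ k ∈ K, ∀ n ∈ D, MulAut.conjNormal k n ∈ D := fun k hk n hn => by
    show (MulAut.conjNormal k n : H) ∈ K
    rw [MulAut.conjNormal_apply]
    exact K.mul_mem (K.mul_mem hk hn) (K.inv_mem hk)
  have hntr : ∀ x : α, ∃ n : N, n • a = x := by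
    have : IsPretransitive N α := by
      apply IsQuasiPreprimitive.isPretransitive_of_normal
      intro hfix
      apply hN
      rw [eq_bot_iff]
      intro n hn
      rw [Subgroup.mem_bot]
      refine Subtype.ext (Equiv.ext fun x => ?_)
      exact (hfix ▸ Set.mem_univ x : x ∈ fixedPoints N α) ⟨n, hn⟩
    exact fun x => this.exists_smul_eq a x
  have hKN : ∀ h : H, ∃ (n : N) (k : H), k ∈ K ∧ h = (n : H) * k := fun h => by
    obtain ⟨n, hn⟩ := hntr (h • a)
    refine ⟨n, (n : H)⁻¹ * h, ?_, (mul_inv_cancel_left _ _).symm⟩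
    rw [hK, mem_stabilizer_iff, mul_smul, inv_smul_eq_iff]
    exact hn.symm
  have htop : D ≠ ⊤ := by
    intro hD
    have hsub : Subsingleton α := ⟨fun x y => by
      obtain ⟨n, rfl⟩ := hntr x
      obtain ⟨n', rfl⟩ := hntr y
      have h1 : (n : H) • a = a := (hD ▸ Subgroup.mem_top n : n ∈ D)
      have h2 : (n' : H) • a = a := (hD ▸ Subgroup.mem_top n' : n' ∈ D)
      exact h1.trans h2.symm⟩
    exact hN ((Subgroup.eq_bot_iff_forall _).2 fun n _ => Subtype.ext (Equiv.ext fun x => Subsingleton.elim _ _))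
  have htrans : ∀ i j : Fin m, ∃ k ∈ K, σ k i = j := by
    have hnf : ∀ (n : N) (i : Fin m), σ (n : H) i = i := by
      intro n i
      obtain ⟨t, ht⟩ := exists_ne (1 : T)
      by_contra hne
      have h1 := hσ (n : H) (Pi.mulSingle i t) i
      have h2 : φ (n : H) (Pi.mulSingle i t) = e n * Pi.mulSingle i t * (e n)⁻¹ := by
        rw [← e.apply_symm_apply (Pi.mulSingle i t), hφ]
        rw [← map_mul, ← map_inv, ← map_mul]
        exact congrArg e (Subtype.ext (by simp))
      rw [h2, Pi.mul_apply, Pi.mul_apply, Pi.mulSingle_eq_of_ne hne, Pi.mulSingle_eq_same, mul_one, Pi.inv_apply,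
        mul_inv_cancel] at h1
      exact ht ((ψ (n : H) i).map_eq_one_iff.1 h1.symm)
    have σmul : ∀ h h' i, σ (h * h') i = σ h (σ h' i) := by
      intro h h' i
      obtain ⟨t, ht⟩ := exists_ne (1 : T)
      by_contra hne
      have hmul : ∀ f, φ (h * h') f = φ h (φ h' f) := fun f => by simp [φ, MulAut.mul_apply]
      have h1 := hσ (h * h') (Pi.mulSingle i t) i
      rw [hmul] at h1
      obtain ⟨j, hj⟩ := (σ h).surjective (σ (h * h') i)
      rw [← hj, hσ h] at h1
      obtain ⟨l, hl⟩ := (σ h').surjective j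
      rw [← hl, hσ h'] at h1
      have hli : l ≠ i := fun e0 => hne (by rw [← hj, ← hl, e0])
      rw [Pi.mulSingle_eq_of_ne hli, map_one, map_one, Pi.mulSingle_eq_same] at h1
      exact ht ((ψ (h * h') i).map_eq_one_iff.1 h1.symm)
    intro i j
    let M : Subgroup N := Subgroup.comap e.toMonoidHom
      { carrier := {f | ∀ l, (¬ ∃ h : H, σ h i = l) → f l = 1}
        one_mem' := fun l _ => rfl
        mul_mem' := fun hu hv l hl => by simp [hu l hl, hv l hl]
        inv_mem' := fun hu l hl => by simp [hu l hl] }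
    haveI hMn : (M.map N.subtype).Normal := by
      constructor
      rintro _ ⟨n, hn, rfl⟩ g
      refine ⟨MulAut.conjNormal g n, fun l hl => ?_, by simp⟩
      show e (MulAut.conjNormal g n) l = 1
      obtain ⟨q, rfl⟩ := (σ g).surjective l
      rw [← hφ, hσ]
      have : e n q = 1 := hn q fun ⟨h, hh⟩ => hl ⟨g * h, by rw [σmul, hh]⟩
      rw [this, map_one]
    obtain ⟨h, hh⟩ : ∃ h : H, σ h i = j := by
      by_contra hj
      rcases hmin _ hMn (Subgroup.map_subtype_le M) with hb | htop'
      · obtain ⟨t, ht⟩ := exists_ne (1 : T)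
        have : e.symm (Pi.mulSingle i t) ∈ M := fun l hl => by
          show e (e.symm (Pi.mulSingle i t)) l = 1
          rw [e.apply_symm_apply]
          exact Pi.mulSingle_eq_of_ne (fun e0 => hl ⟨1, by
            rw [e0]
            exact hnf 1 i⟩) _
        rw [(Subgroup.map_eq_bot_iff_of_injective _ N.subtype_injective).1 hb, Subgroup.mem_bot,
          MulEquiv.map_eq_one_iff, Pi.mulSingle_eq_one_iff] at this
        exact ht this
      · obtain ⟨t, ht⟩ := exists_ne (1 : T)
        have hm1 : ((e.symm (Pi.mulSingle j t) : N) : H) ∈ M.map N.subtype := htop'.symm ▸ Subtype.coe_prop _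
        obtain ⟨w, hw, hwe⟩ := hm1
        rw [Subtype.ext (hwe : (w : H) = _)] at hw
        have := hw j hj
        simp at this
        exact ht this
    obtain ⟨n, k, hk, rfl⟩ := hKN h
    exact ⟨k, hk, by rwa [σmul, hnf] at hh⟩
  let π : Fin m → (D →* T) := fun i => ((Pi.evalMonoidHom (fun _ => T) i).comp e.toMonoidHom).comp D.subtype
  have hπ : ∀ i (d : D), π i d = e (d : N) i := fun _ _ => rfl
  by_cases hfull : ∀ i, Function.Surjective (π i)
  · -- diagonal type
    have hker : ∀ i j, (π i).ker ≤ (π j).ker → (π i).ker = (π j).ker := fun i j hle => by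
      refine Subgroup.eq_of_le_of_card_ge hle (le_of_eq ?_)
      have h1 : ∀ l, (π l).ker.index = Nat.card T := fun l => by
        rw [Subgroup.index_ker, MonoidHom.range_eq_top.2 (hfull l), Subgroup.card_top]
      have h2 := (π i).ker.index_mul_card
      rw [h1, ← (π j).ker.index_mul_card, h1] at h2
      exact (Nat.eq_of_mul_eq_mul_left Nat.card_pos h2).symm
    -- each class can be separated from the others
    have sep : ∀ (i : Fin m) (S : Finset (Fin m)), (∀ j ∈ S, (π j).ker ≠ (π i).ker) →
        ∃ A : Subgroup D, A.Normal ∧ (∀ j ∈ S, A ≤ (π j).ker) ∧ ¬ A ≤ (π i).ker := by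
      intro i S
      induction S using Finset.induction with
      | empty =>
        intro _
        refine ⟨⊤, inferInstance, by simp, fun h => ?_⟩
        obtain ⟨t, ht⟩ := exists_ne (1 : T)
        obtain ⟨d, rfl⟩ := hfull i t
        exact ht (h (Subgroup.mem_top d))
      | insert j S _ ih =>
        intro h
        obtain ⟨A, hA, h1, h2⟩ := ih fun l hl => h l (Finset.mem_insert_of_mem hl)
        refine ⟨A ⊓ (π j).ker, Subgroup.normal_inf_normal A _, ?_, fun hle => ?_⟩
        · intro l hl
          rcases Finset.mem_insert.1 hl with rfl | hl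
          · exact inf_le_right
          · exact inf_le_left.trans (h1 l hl)
        · rcases le_or_le_of_inf_le hTnc (π i) (hfull i) A (π j).ker hle with h' | h'
          · exact h2 h'
          · exact h j (Finset.mem_insert_self j S) (hker j i h')
    have proj : ∀ (i : Fin m) (t : T), ∃ d : D, π i d = t ∧ ∀ j, (π j).ker ≠ (π i).ker → π j d = 1 := by
      intro i t
      obtain ⟨A, hA, h1, h2⟩ := sep i (Finset.univ.filter fun j => (π j).ker ≠ (π i).ker) (fun j hj => (Finset.mem_filter.1 hj).2)
      rcases (Subgroup.Normal.map hA (π i) (hfull i)).eq_bot_or_eq_top with hb | ht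
      · exact absurd ((Subgroup.map_eq_bot_iff _).1 hb) h2
      · obtain ⟨d, hd, rfl⟩ := (ht ▸ Subgroup.mem_top t : t ∈ A.map (π i))
        exact ⟨d, rfl, fun j hj => h1 j (Finset.mem_filter.2 ⟨Finset.mem_univ j, hj⟩) hd⟩
    -- representatives
    let c : Fin m → Fin m := fun i =>
      (Finset.univ.filter fun j => (π j).ker = (π i).ker).min' ⟨i, by simp⟩
    have hc : ∀ i, (π (c i)).ker = (π i).ker := fun i =>
      (Finset.mem_filter.1 (Finset.min'_mem (Finset.univ.filter fun j => (π j).ker = (π i).ker) ⟨i, by simp⟩)).2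
    have hcc : ∀ i j, c i = c j ↔ (π i).ker = (π j).ker := fun i j => by
      constructor
      · intro h; rw [← hc i, h, hc j]
      · intro h; simp only [c, h]
    have hidem : ∀ i, c (c i) = c i := fun i => (hcc _ _).2 (hc i)
    -- comparison automorphisms
    have hcmp : ∀ i, ∃ θ : T ≃* T, ∀ d : D, π i d = θ (π (c i) d) := by
      intro i
      let θ : T ≃* T := ((QuotientGroup.quotientKerEquivOfSurjective (π (c i)) (hfull _)).symm.trans
        (QuotientGroup.quotientMulEquivOfEq (hc i))).trans (QuotientGroup.quotientKerEquivOfSurjective (π i) (hfull i))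
      refine ⟨θ, fun d => ?_⟩
      have e1 : (QuotientGroup.quotientKerEquivOfSurjective (π (c i)) (hfull _)).symm (π (c i) d) = (d : D ⧸ (π (c i)).ker) := by
        rw [MulEquiv.symm_apply_eq]; rfl
      simp only [θ, MulEquiv.trans_apply, e1]
      rfl
    choose θ hθ using hcmp
    let e' : N ≃* (Fin m → T) := e.trans (MulEquiv.piCongrRight fun i => (θ i).symm)
    have he' : ∀ n i, e' n i = (θ i).symm (e n i) := fun n i => rfl
    have hiff : ∀ n : N, (n : H) ∈ K ↔ ∀ i j, c i = c j → e' n i = e' n j := by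
      intro n
      constructor
      · intro hn i j hij
        have hv : ∀ l, e' n l = π (c l) ⟨n, hn⟩ := fun l => by
          rw [he', ← hπ l ⟨n, hn⟩, hθ l, MulEquiv.symm_apply_apply]
        rw [hv i, hv j, hij]
      · intro h
        have build : ∀ S : Finset (Fin m), (∀ r ∈ S, c r = r) →
            ∃ d : D, ∀ l, π l d = if c l ∈ S then θ l (e' n (c l)) else 1 := by
          intro S
          induction S using Finset.induction with
          | empty => exact fun _ => ⟨1, fun l => by simp⟩
          | insert r S hr ih =>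
            intro hS
            obtain ⟨d, hd⟩ := ih fun l hl => hS l (Finset.mem_insert_of_mem hl)
            obtain ⟨d', hd1, hd2⟩ := proj r (e' n r)
            have hrr := hS r (Finset.mem_insert_self r S)
            refine ⟨d * d', fun l => ?_⟩
            rw [map_mul, hd l]
            rcases eq_or_ne (c l) r with hl | hl
            · rw [if_neg (hl ▸ hr), one_mul, if_pos (hl ▸ Finset.mem_insert_self r S), hθ l d', hl, hd1]
            · have hne : (π l).ker ≠ (π r).ker := fun e0 => hl (by rw [(hcc l r).2 e0, hrr])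
              rw [hd2 l hne, mul_one]
              simp [Finset.mem_insert, hl]
        obtain ⟨d, hd⟩ := build (Finset.univ.filter fun r => c r = r) (fun r hr => (Finset.mem_filter.1 hr).2)
        have : (d : N) = n := e.injective (funext fun l => by
          rw [← hπ l d, hd l, if_pos (by simp [hidem]), ← h l (c l) (hidem l).symm, he', MulEquiv.apply_symm_apply])
        rw [← this]
        exact d.2
    -- the blocks
    have hblock : ∀ k ∈ K, ∀ i j, (π i).ker = (π j).ker → (π (σ k i)).ker = (π (σ k j)).ker := by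
      intro k hk i j hij
      have tr : ∀ (l : Fin m) (d : D), π (σ k l) ⟨MulAut.conjNormal k (d : N), hDK k hk _ d.2⟩ = ψ k l (π l d) := fun l d => by
        rw [hπ, ← hφ, hσ, hπ]
      have hsurj : ∀ d : D, ∃ d0 : D, (⟨MulAut.conjNormal k (d0 : N), hDK k hk _ d0.2⟩ : D) = d := fun d =>
        ⟨⟨MulAut.conjNormal k⁻¹ (d : N), hDK _ (K.inv_mem hk) _ d.2⟩, Subtype.ext (by
          show MulAut.conjNormal k (MulAut.conjNormal k⁻¹ (d : N)) = d
          rw [← MulAut.mul_apply, ← map_mul, mul_inv_cancel, map_one, MulAut.one_apply])⟩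
      ext d
      obtain ⟨d0, rfl⟩ := hsurj d
      simp only [MonoidHom.mem_ker, tr, MulEquiv.map_eq_one_iff]
      rw [← MonoidHom.mem_ker, hij, MonoidHom.mem_ker]
    have hsize : ∀ r s, c r = r → c s = s → Nat.card {i // c i = r} ≤ Nat.card {i // c i = s} := by
      intro r s hr hs
      obtain ⟨k, hk, hks⟩ := htrans r s
      refine Nat.card_le_card_of_injective (fun i : {i // c i = r} => (⟨σ k i.1, ?_⟩ : {i // c i = s})) fun x y h =>
        Subtype.ext ((σ k).injective (congrArg Subtype.val h))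
      rw [← hs, ← hks, hcc]
      exact hblock k hk _ _ ((hcc _ _).1 (i.2.trans hr.symm))
    let i0 : Fin m := ⟨0, hm⟩
    refine ⟨T, iT, m, e', hT, hTnc, hm, Or.inr ⟨Nat.card {i // c i = c i0}, c, ?_, fun j => ?_, fun n => hiff n⟩⟩
    · by_contra hlt
      push Not at hlt
      apply htop
      rw [eq_top_iff]
      intro n _
      refine (hiff n).2 fun i j hij => ?_
      have h1 : Nat.card {l // c l = c i} ≤ 1 := (hsize _ _ (hidem i) (hidem i0)).trans (by omega)
      have : (⟨i, rfl⟩ : {l // c l = c i}) = ⟨j, hij.symm⟩ := (Finite.card_le_one_iff_subsingleton.1 h1).elim _ _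
      have e0 : i = j := congrArg Subtype.val this
      rw [e0]
    · by_cases hj : ∃ i, c i = j
      · obtain ⟨i, rfl⟩ := hj
        exact Or.inl (le_antisymm (hsize _ _ (hidem i) (hidem i0)) (hsize _ _ (hidem i0) (hidem i)))
      · push Not at hj
        haveI : IsEmpty {i // c i = j} := ⟨fun i => hj i.1 i.2⟩
        exact Or.inr Nat.card_of_isEmpty
  · -- product type
    push Not at hfull
    obtain ⟨i0, hi0⟩ := hfull
    have hproper : ∀ i, (π i).range ≠ ⊤ := by
      intro i hi
      obtain ⟨k, hk, hki⟩ := htrans i i0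
      apply hi0
      intro t
      obtain ⟨s, rfl⟩ := (ψ k i).surjective t
      obtain ⟨d, rfl⟩ := MonoidHom.range_eq_top.1 hi s
      refine ⟨⟨MulAut.conjNormal k (d : N), hDK k hk _ d.2⟩, ?_⟩
      rw [hπ, ← hki, ← hφ, hσ, hπ]
    refine ⟨T, iT, m, e, hT, hTnc, hm, Or.inl ⟨fun i => (π i).range, hproper, fun n => ⟨fun hn i => ⟨⟨n, hn⟩, rfl⟩, fun hn => ?_⟩⟩⟩
    let X0 : Subgroup N := Subgroup.comap e.toMonoidHom (Subgroup.pi Set.univ fun i => (π i).range)
    let X : Subgroup H := X0.map N.subtype
    have hX0 : ∀ x : N, x ∈ X0 ↔ ∀ i, e x i ∈ (π i).range := fun x => by simp [X0, Subgroup.mem_pi]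
    have hXK : K ⊓ N ≤ X := fun x hx => ⟨⟨x, hx.2⟩, (hX0 _).2 fun i => ⟨⟨⟨x, hx.2⟩, hx.1⟩, rfl⟩, rfl⟩
    have hstab : ∀ k ∈ K, ∀ x : N, x ∈ X0 → MulAut.conjNormal k x ∈ X0 := by
      intro k hk x hx
      rw [hX0] at hx ⊢
      intro l
      obtain ⟨i, rfl⟩ := (σ k).surjective l
      obtain ⟨d, hd⟩ := hx i
      refine ⟨⟨MulAut.conjNormal k (d : N), hDK k hk _ d.2⟩, ?_⟩
      rw [hπ, ← hφ, hσ, ← hφ, hσ, ← hπ i d, hd]
    have hinv : K ≤ Subgroup.normalizer (X : Set H) := by
      intro k hk
      rw [Subgroup.mem_normalizer_iff]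
      intro x
      constructor
      · rintro ⟨y, hy, rfl⟩
        exact ⟨_, hstab k hk y hy, by simp⟩
      · rintro ⟨y, hy, hyx⟩
        refine ⟨_, hstab k⁻¹ (K.inv_mem hk) y hy, ?_⟩
        simp only [Subgroup.coe_subtype, MulAut.conjNormal_apply, inv_inv] at hyx ⊢
        rw [hyx]
        simp [mul_assoc]
    have hn' : (n : H) ∈ X := ⟨n, (hX0 n).2 hn, rfl⟩
    rcases Cfsg.Agent.S0722.result H N hN hmin a X (Subgroup.map_subtype_le X0) hXK hinv with h | h
    · rw [h] at hn'
      exact hn'.1
    · exfalso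
      obtain ⟨t, ht⟩ : ∃ t, t ∉ (π i0).range := by
        by_contra hh
        push Not at hh
        exact hproper i0 (eq_top_iff.2 fun t _ => hh t)
      have hm1 : ((e.symm (Pi.mulSingle i0 t) : N) : H) ∈ X := h.symm ▸ Subtype.coe_prop _
      obtain ⟨w, hw, hwe⟩ := hm1
      rw [Subtype.ext (hwe : (w : H) = _), SetLike.mem_coe, hX0] at hw
      have := hw i0
      rw [e.apply_symm_apply, Pi.mulSingle_eq_same] at this
      exact ht this

end Cfsg.Agent.S0723
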