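import Cfsg.Statements.S0724
import Mathlib.GroupTheory.GroupAction.Quotient
import Mathlib.Algebra.Polynomial.Eval.Coeff
import Mathlib.Algebra.Polynomial.BigOperators
import Mathlib.Algebra.BigOperators.Pi
import Mathlib.Data.Fintype.Pi
import Mathlib.SetTheory.Cardinal.Finite

set_option autoImplicit false
open Cfsg

namespace Cfsg.Agent.S0724

open MulAction Polynomial

theorem dvd_sum_pow {α : Type*} [Fintype α] [DecidableEq α] (G : Subgroup (Equiv.Perm α)) [Fintype G] (j : ℕ) :
    (Nat.card G : ℤ) ∣ ∑ g : G, (Nat.card (fixedBy α g) : ℤ) ^ j := by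
  classical
  have key := MulAction.sum_card_fixedBy_eq_card_orbits_mul_card_group G (Fin j → α)
  have h : ∀ g : G, Fintype.card (fixedBy (Fin j → α) g) = Nat.card (fixedBy α g) ^ j := by
    intro g
    have e : fixedBy (Fin j → α) g ≃ (Fin j → fixedBy α g) :=
      { toFun := fun f i => ⟨f.1 i, congrFun f.2 i⟩
        invFun := fun f => ⟨fun i => (f i).1, funext fun i => (f i).2⟩
        left_inv := fun f => rfl
        right_inv := fun f => rfl }
    rw [Fintype.card_congr e, Fintype.card_fun, Fintype.card_fin, Nat.card_eq_fintype_card]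
  simp only [h] at key
  refine ⟨(Fintype.card (Quotient (orbitRel G (Fin j → α))) : ℤ), ?_⟩
  rw [Nat.card_eq_fintype_card (α := G), mul_comm]
  exact_mod_cast key


/-- Blichfeldt's Theorem: if a finite set `L` of natural numbers contains the number of fixed points of every non-identity element of a permutation group `G` of degree `n`, then the order of `G` divides `∏ (n - l)` over `l ∈ L`. -/
theorem result {α : Type*} [Fintype α] [DecidableEq α] (G : Subgroup (Equiv.Perm α)) (L : Finset ℕ) (hL : ∀ g ∈ G, g ≠ 1 → Nat.card (MulAction.fixedBy α g) ∈ L) : Nat.card G ∣ ∏ l ∈ L, (Fintype.card α - l) := by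
  classical
  haveI := Fintype.ofFinite G
  by_cases hbig : ∃ l ∈ L, Fintype.card α ≤ l
  · obtain ⟨l, hl, hle⟩ := hbig
    exact Dvd.dvd.trans (dvd_zero _) (dvd_of_eq (Finset.prod_eq_zero hl (Nat.sub_eq_zero_of_le hle)).symm)
  push_neg at hbig
  let P : ℤ[X] := ∏ l ∈ L, (X - C (l : ℤ))
  have h1 : (Nat.card G : ℤ) ∣ ∑ g : G, P.eval (Nat.card (fixedBy α g) : ℤ) := by
    simp only [eval_eq_sum_range]
    rw [Finset.sum_comm]
    refine Finset.dvd_sum fun j _ => ?_
    rw [← Finset.mul_sum]
    exact Dvd.dvd.mul_left (dvd_sum_pow G j) _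
  rw [Finset.sum_eq_single (1 : G)] at h1
  · have h2 : P.eval (Nat.card (fixedBy α (1 : G)) : ℤ) = ((∏ l ∈ L, (Fintype.card α - l) : ℕ) : ℤ) := by
      simp only [P, eval_prod, eval_sub, eval_X, eval_C, Nat.cast_prod]
      refine Finset.prod_congr rfl fun l hl => ?_
      have : Nat.card (fixedBy α (1 : G)) = Fintype.card α := by
        rw [fixedBy_one_eq_univ, Nat.card_univ, Nat.card_eq_fintype_card]
      rw [this, Nat.cast_sub (hbig l hl).le]
    rw [h2] at h1
    exact Int.natCast_dvd_natCast.1 h1
  · intro g _ hg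
    have hm := hL (g : Equiv.Perm α) g.2 (fun h => hg (Subtype.ext h))
    simp only [P, eval_prod, eval_sub, eval_X, eval_C]
    refine Finset.prod_eq_zero hm ?_
    exact sub_eq_zero.2 rfl
  · simp

end Cfsg.Agent.S0724
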