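import Cfsg.Statements.S0726
import Mathlib.GroupTheory.GroupAction.Basic
import Mathlib.Algebra.Group.Action.Opposite

set_option autoImplicit false
open Cfsg

namespace Cfsg.Agent.S0726

open MulAction


/-- The left and right regular permutation representations of a group are each other's centralisers in the symmetric group: the centraliser of the left regular image is the right regular image, and a transitive subgroup centralising the left regular image is the whole right regular image. -/
theorem result {G : Type*} [Group G] : Subgroup.centralizer ((MulAction.toPermHom G G).range : Set (Equiv.Perm G)) = (MulAction.toPermHom Gᵐᵒᵖ G).range ∧ ∀ H : Subgroup (Equiv.Perm G), H ≤ Subgroup.centralizer ((MulAction.toPermHom G G).range : Set (Equiv.Perm G)) → MulAction.IsPretransitive H G → H = (MulAction.toPermHom Gᵐᵒᵖ G).range := by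
  have h1 : ∀ σ : Equiv.Perm G, σ ∈ Subgroup.centralizer ((toPermHom G G).range : Set (Equiv.Perm G)) →
      ∀ x, σ x = x * σ 1 := by
    intro σ hσ x
    have := hσ (toPermHom G G x) ⟨x, rfl⟩
    have := congrArg (fun f : Equiv.Perm G => f 1) this
    simpa [Equiv.Perm.mul_apply] using this.symm
  have hmem : ∀ σ : Equiv.Perm G, σ ∈ Subgroup.centralizer ((toPermHom G G).range : Set (Equiv.Perm G)) →
      σ ∈ (toPermHom Gᵐᵒᵖ G).range := by
    intro σ hσ
    refine ⟨MulOpposite.op (σ 1), Equiv.ext fun x => ?_⟩
    simp [h1 σ hσ x]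
  constructor
  · refine le_antisymm (fun σ hσ => hmem σ hσ) ?_
    rintro _ ⟨c, rfl⟩ _ ⟨b, rfl⟩
    apply Equiv.ext
    intro x
    simp [Equiv.Perm.mul_apply, mul_assoc]
  · intro H hH htr
    refine le_antisymm (fun σ hσ => hmem σ (hH hσ)) ?_
    rintro _ ⟨c, rfl⟩
    obtain ⟨h, hh⟩ := exists_smul_eq H (1 : G) c.unop
    have : (h : Equiv.Perm G) = toPermHom Gᵐᵒᵖ G c := by
      apply Equiv.ext
      intro x
      rw [h1 _ (hH h.2) x]
      have h2 : (h : Equiv.Perm G) 1 = c.unop := hh
      simp [h2, MulOpposite.smul_eq_mul_unop]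
    rw [← this]
    exact h.2

end Cfsg.Agent.S0726
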