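import Cfsg.Statements.S0728
import Cfsg.Agent.Lib.SharpThree.Basic
import Mathlib.GroupTheory.SpecificGroups.Cyclic

set_option autoImplicit false
open Cfsg

namespace Cfsg.Agent.S0728

open MulAction CfsgLib.SharpThree


/-- In a sharply triply transitive group of even degree at least 6 (degree `q + 1`, `q` odd), a two-point stabiliser has at most one subgroup of order 3. -/
theorem result {α : Type*} [Fintype α] [DecidableEq α] (heven : Even (Fintype.card α)) (h6 : 6 ≤ Fintype.card α) (G : Subgroup (Equiv.Perm α)) (h3 : MulAction.IsMultiplyPretransitive G α 3) (hsharp : ∀ x : Fin 3 ↪ α, MulAction.stabilizer G x = ⊥) {a b : α} (hab : a ≠ b) (A B : Subgroup G) (hA : A ≤ MulAction.stabilizer G a ⊓ MulAction.stabilizer G b) (hB : B ≤ MulAction.stabilizer G a ⊓ MulAction.stabilizer G b) (hA3 : Nat.card A = 3) (hB3 : Nat.card B = 3) : A = B := by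
  classical
  haveI : Fact (Nat.Prime 3) := ⟨Nat.prime_three⟩
  haveI := Fintype.ofFinite G
  have h : IsS3 G α := ⟨h3, hsharp⟩
  obtain ⟨x, hx⟩ := exists_prime_orderOf_dvd_card' (G := A) 3 (dvd_of_eq hA3.symm)
  obtain ⟨y, hy⟩ := exists_prime_orderOf_dvd_card' (G := B) 3 (dvd_of_eq hB3.symm)
  have hx3 : orderOf (x : G) = 3 := by rw [Subgroup.orderOf_coe, hx]
  have hy3 : orderOf (y : G) = 3 := by rw [Subgroup.orderOf_coe, hy]
  have hcard := h.order_three_card (by omega) hab hx3 (hA x.2).1 (hA x.2).2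
  have hgen : ∀ (C : Subgroup G) (z : G), z ∈ C → Nat.card C = 3 → orderOf z = 3 → C = Subgroup.zpowers z := by
    intro C z hz hC hz3
    refine (Subgroup.eq_of_le_of_card_ge (Subgroup.zpowers_le.2 hz) ?_).symm
    rw [Nat.card_zpowers, hz3, hC]
  rw [hgen A x x.2 hA3 hx3, hgen B y y.2 hB3 hy3]
  have hinv : (x : G)⁻¹ ≠ (x : G) := by
    intro e
    have h2 : (x : G) ^ 2 = 1 := by
      rw [pow_two]
      nth_rewrite 1 [← e]
      exact inv_mul_cancel _
    have := orderOf_dvd_of_pow_eq_one h2
    rw [hx3] at this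
    norm_num at this
  have hset : (Finset.univ.filter fun t : G => orderOf t = 3 ∧ t • a = a ∧ t • b = b) =
      {(x : G), (x : G)⁻¹} := by
    refine (Finset.eq_of_subset_of_card_le ?_ ?_).symm
    · intro t ht
      simp only [Finset.mem_insert, Finset.mem_singleton] at ht
      simp only [Finset.mem_filter, Finset.mem_univ, true_and]
      rcases ht with rfl | rfl
      · exact ⟨hx3, (hA x.2).1, (hA x.2).2⟩
      · exact ⟨by rw [orderOf_inv, hx3], (hA (A.inv_mem x.2)).1, (hA (A.inv_mem x.2)).2⟩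
    · rw [hcard, Finset.card_pair (Ne.symm hinv)]
  have hym : (y : G) ∈ ({(x : G), (x : G)⁻¹} : Finset G) := by
    rw [← hset]
    simp only [Finset.mem_filter, Finset.mem_univ, true_and]
    exact ⟨hy3, (hB y.2).1, (hB y.2).2⟩
  simp only [Finset.mem_insert, Finset.mem_singleton] at hym
  rcases hym with h | h
  · rw [h]
  · rw [h, Subgroup.zpowers_inv]

end Cfsg.Agent.S0728
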