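import Cfsg.Statements.S0733
import Mathlib.GroupTheory.GroupAction.Primitive
import Mathlib.Algebra.Module.ZMod

set_option autoImplicit false
open Cfsg

namespace Cfsg.Agent.S0733

open MulAction
open scoped Pointwise


/-- A permutation group of affine type — generated by the translations of a finite vector space `V` over `ZMod p` together with a group `G₀` of linear automorphisms — is primitive on `V` if and only if `G₀` is irreducible on `V`. -/
theorem result {p : ℕ} [Fact p.Prime] {V : Type*} [AddCommGroup V] [Module (ZMod p) V] [Finite V] [Nontrivial V] (G₀ : Subgroup (V ≃ₗ[ZMod p] V)) (G : Subgroup (Equiv.Perm V)) (hG : ∀ σ : Equiv.Perm V, σ ∈ G ↔ ∃ g ∈ G₀, ∃ b : V, ∀ x : V, σ x = (g : V ≃ₗ[ZMod p] V) x + b) : MulAction.IsPreprimitive G V ↔ ∀ W : Submodule (ZMod p) V, (∀ g ∈ G₀, ∀ v ∈ W, (g : V ≃ₗ[ZMod p] V) v ∈ W) → W = ⊥ ∨ W = ⊤ := by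
  classical
  have htrans : ∀ b : V, ∃ σ : G, ∀ x, (σ : Equiv.Perm V) x = x + b := by
    intro b
    exact ⟨⟨Equiv.addRight b, (hG _).2 ⟨1, G₀.one_mem, b, fun x => rfl⟩⟩, fun x => rfl⟩
  haveI : IsPretransitive G V := ⟨fun x y => by
    obtain ⟨σ, hσ⟩ := htrans (y - x)
    exact ⟨σ, by show (σ : Equiv.Perm V) x = y; rw [hσ]; abel⟩⟩
  constructor
  · intro hprim W hW
    have hblock : IsBlock G (W : Set V) := by
      rw [isBlock_iff_smul_eq_or_disjoint]
      intro σ
      obtain ⟨g, hg, b, hb⟩ := (hG _).1 σ.2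
      by_cases hbW : b ∈ W
      · left
        ext x
        constructor
        · rintro ⟨w, hw, rfl⟩
          show (σ : Equiv.Perm V) w ∈ W
          rw [hb]
          exact W.add_mem (hW g hg w hw) hbW
        · intro hx
          refine ⟨g⁻¹ (x - b), hW g⁻¹ (G₀.inv_mem hg) _ (W.sub_mem hx hbW), ?_⟩
          show (σ : Equiv.Perm V) _ = x
          rw [hb]
          show g (g.symm (x - b)) + b = x
          rw [LinearEquiv.apply_symm_apply, sub_add_cancel]
      · right
        rw [Set.disjoint_left]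
        rintro _ ⟨w, hw, rfl⟩ hx
        apply hbW
        have hx' : g w + b ∈ W := hb w ▸ hx
        simpa using W.sub_mem hx' (hW g hg w hw)
    rcases hprim.isTrivialBlock_of_isBlock hblock with h | h
    · left
      rw [Submodule.eq_bot_iff]
      exact fun x hx => h hx W.zero_mem
    · right
      rw [eq_top_iff]
      intro x _
      exact (h.symm ▸ Set.mem_univ x : x ∈ (W : Set V))
  · intro h
    refine IsPreprimitive.of_isTrivialBlock_base (0 : V) fun {B} h0 hB => ?_
    have tmem : ∀ b : V, b ∈ B → ∀ x : V, x ∈ B → x + b ∈ B := by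
      intro b hb x hx
      obtain ⟨σ, hσ⟩ := htrans b
      have he : σ • B = B := hB.smul_eq_of_nonempty ⟨b, ⟨0, h0, by show (σ : Equiv.Perm V) 0 = b; rw [hσ, zero_add]⟩, hb⟩
      rw [← he]
      exact ⟨x, hx, hσ x⟩
    let A : AddSubmonoid V := { carrier := B, zero_mem' := h0, add_mem' := fun {x y} hx hy => tmem y hy x hx }
    have hneg : ∀ x ∈ B, -x ∈ B := by
      intro x hx
      have hs : ((p - 1) • x) ∈ A := A.nsmul_mem hx _
      have hp : (p : ZMod p) = 0 := ZMod.natCast_self p
      have h1 : (p - 1) • x = -x := by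
        rw [← Nat.cast_smul_eq_nsmul (ZMod p), Nat.cast_sub (Fact.out : p.Prime).one_le, hp, zero_sub,
          Nat.cast_one, neg_one_smul]
      exact h1 ▸ hs
    let A' : AddSubgroup V := { A with neg_mem' := fun {x} hx => hneg x hx }
    let W : Submodule (ZMod p) V := AddSubgroup.toZModSubmodule p A'
    have hW : ∀ g ∈ G₀, ∀ v ∈ W, g v ∈ W := by
      intro g hg v hv
      let σ : G := ⟨g.toEquiv, (hG _).2 ⟨g, hg, 0, fun x => (add_zero _).symm⟩⟩
      have he : σ • B = B := hB.smul_eq_of_nonempty ⟨0, ⟨0, h0, map_zero g⟩, h0⟩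
      show g v ∈ B
      rw [← he]
      exact ⟨v, hv, rfl⟩
    rcases h W hW with hb | hb
    · left
      intro x hx y hy
      have hx' : x ∈ W := hx
      have hy' : y ∈ W := hy
      rw [hb, Submodule.mem_bot] at hx' hy'
      rw [hx', hy']
    · right
      exact Set.eq_univ_of_forall fun x => (show x ∈ W from hb ▸ Submodule.mem_top)

end Cfsg.Agent.S0733
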