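import Cfsg.Statements.S0734
import Mathlib.GroupTheory.GroupAction.Primitive
import Mathlib.Combinatorics.SimpleGraph.Connectivity.Connected

set_option autoImplicit false
open Cfsg

namespace Cfsg.Agent.S0734

open MulAction
open scoped Pointwise


/-- Higman's criterion for primitivity: a transitive action on a finite set is primitive if and only if every non-trivial orbital graph (edges = images of a fixed pair of distinct points) is connected. -/
theorem result {G : Type*} [Group G] {Ω : Type*} [Finite Ω] [MulAction G Ω] [MulAction.IsPretransitive G Ω] [Nontrivial Ω] : MulAction.IsPreprimitive G Ω ↔ ∀ a b : Ω, a ≠ b → (SimpleGraph.fromRel fun x y : Ω => ∃ g : G, g • a = x ∧ g • b = y).Connected := by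
  classical
  constructor
  · intro hprim a b hab
    set Γ := SimpleGraph.fromRel fun x y : Ω => ∃ g : G, g • a = x ∧ g • b = y with hΓ
    let φ : G → Γ →g Γ := fun g => ⟨fun x => g • x, fun {x y} h => by
      simp only [hΓ, SimpleGraph.fromRel_adj] at h ⊢
      refine ⟨fun e => h.1 (MulAction.injective g e), ?_⟩
      rcases h.2 with ⟨f, f1, f2⟩ | ⟨f, f1, f2⟩
      · exact Or.inl ⟨g * f, by rw [mul_smul, f1], by rw [mul_smul, f2]⟩
      · exact Or.inr ⟨g * f, by rw [mul_smul, f1], by rw [mul_smul, f2]⟩⟩
    have hC : IsBlock G {x | Γ.Reachable a x} := by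
      rw [isBlock_iff_smul_eq_or_disjoint]
      intro g
      by_cases hd : Disjoint (g • {x | Γ.Reachable a x}) {x | Γ.Reachable a x}
      · exact Or.inr hd
      left
      obtain ⟨z, ⟨w, hw, hwz⟩, hz⟩ := Set.not_disjoint_iff.1 hd
      have hga : Γ.Reachable a (g • a) := by
        have h1 : Γ.Reachable (g • a) z := hwz ▸ SimpleGraph.Reachable.map (φ g) hw
        exact hz.trans h1.symm
      ext x
      constructor
      · rintro ⟨y, hy, rfl⟩
        exact hga.trans (SimpleGraph.Reachable.map (φ g) hy)
      · intro hx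
        refine ⟨g⁻¹ • x, ?_, smul_inv_smul g x⟩
        have h1 := SimpleGraph.Reachable.map (φ g⁻¹) (hga.symm.trans hx)
        simpa [φ] using h1
    rcases hprim.isTrivialBlock_of_isBlock hC with h | h
    · refine absurd (h (SimpleGraph.Reachable.refl (G := Γ) a) ?_) hab
      exact SimpleGraph.Adj.reachable (by
        simp only [hΓ, SimpleGraph.fromRel_adj]
        exact ⟨hab, Or.inl ⟨1, one_smul _ _, one_smul _ _⟩⟩)
    · rw [SimpleGraph.connected_iff_exists_forall_reachable]
      exact ⟨a, fun x => (Set.eq_univ_iff_forall.1 h x : Γ.Reachable a x)⟩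
  · intro h
    refine ⟨fun {B} hB => ?_⟩
    by_cases hs : B.Subsingleton
    · exact Or.inl hs
    right
    obtain ⟨a, ha, b, hb, hab⟩ := Set.not_subsingleton_iff.1 hs
    set Γ := SimpleGraph.fromRel fun x y : Ω => ∃ g : G, g • a = x ∧ g • b = y with hΓ
    have step : ∀ x y, Γ.Adj x y → x ∈ B → y ∈ B := by
      intro x y hadj hx
      simp only [hΓ, SimpleGraph.fromRel_adj] at hadj
      rcases hadj.2 with ⟨g, g1, g2⟩ | ⟨g, g1, g2⟩
      · have he : g • B = B := hB.smul_eq_of_nonempty ⟨x, ⟨a, ha, g1⟩, hx⟩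
        rw [← he]
        exact ⟨b, hb, g2⟩
      · have he : g • B = B := hB.smul_eq_of_nonempty ⟨x, ⟨b, hb, g2⟩, hx⟩
        rw [← he]
        exact ⟨a, ha, g1⟩
    refine Set.eq_univ_of_forall fun x => ?_
    obtain ⟨w⟩ := (h a b hab).preconnected a x
    exact SimpleGraph.Walk.rec (motive := fun u v _ => u ∈ B → v ∈ B) (fun hu => hu)
      (fun h _ ih hu => ih (step _ _ h hu)) w ha

end Cfsg.Agent.S0734
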