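import Cfsg.Statements.S0735
import Mathlib.GroupTheory.GroupAction.MultipleTransitivity
import Mathlib.GroupTheory.Perm.Cycle.Type

set_option autoImplicit false
open Cfsg

namespace Cfsg.Agent.S0735

open MulAction
open scoped Pointwise


/-- A 2-homogeneous permutation group (transitive on 2-subsets) of even order is doubly transitive; a non-trivial 2-homogeneous group is primitive. -/
theorem result {α : Type*} [Fintype α] [DecidableEq α] (G : Subgroup (Equiv.Perm α)) (h2 : MulAction.IsPretransitive G (Set.powersetCard α 2)) (hα : 3 ≤ Fintype.card α) : (Even (Nat.card G) → MulAction.IsMultiplyPretransitive G α 2) ∧ (G ≠ ⊥ → MulAction.IsPreprimitive G α) := by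
  classical
  have key : ∀ a b c d : α, a ≠ b → c ≠ d → ∃ g ∈ G, (g a = c ∧ g b = d) ∨ (g a = d ∧ g b = c) := by
    intro a b c d hab hcd
    obtain ⟨g, hg⟩ := h2.exists_smul_eq ⟨{a, b}, Finset.card_pair hab⟩ ⟨{c, d}, Finset.card_pair hcd⟩
    have h : g • ({a, b} : Finset α) = {c, d} := congrArg Subtype.val hg
    have e : ∀ x : α, x = a ∨ x = b → (g : Equiv.Perm α) x = c ∨ (g : Equiv.Perm α) x = d := by
      intro x hx
      have hm : g • x ∈ g • ({a, b} : Finset α) := Finset.smul_mem_smul_finset (by simpa using hx)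
      rw [h] at hm
      simp only [Finset.mem_insert, Finset.mem_singleton] at hm
      exact hm
    refine ⟨g, g.2, ?_⟩
    rcases e a (Or.inl rfl) with h1 | h1 <;> rcases e b (Or.inr rfl) with h2 | h2
    · exact absurd ((g : Equiv.Perm α).injective (h1.trans h2.symm)) hab
    · exact Or.inl ⟨h1, h2⟩
    · exact Or.inr ⟨h1, h2⟩
    · exact absurd ((g : Equiv.Perm α).injective (h1.trans h2.symm)) hab
  have third : ∀ u v : α, ∃ w, w ≠ u ∧ w ≠ v := by
    intro u v
    by_contra h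
    push Not at h
    have := Finset.card_le_card (show (Finset.univ : Finset α) ⊆ {u, v} from fun z _ => by
      by_cases hz : z = u
      · simp [hz]
      · simp [h z hz])
    have := this.trans Finset.card_le_two
    rw [Finset.card_univ] at this
    omega
  have htr : IsPretransitive G α := by
    refine ⟨fun u v => ?_⟩
    rcases eq_or_ne u v with rfl | huv
    · exact ⟨1, one_smul _ _⟩
    obtain ⟨w, hwu, hwv⟩ := third u v
    obtain ⟨g, hg, h⟩ := key u w u v hwu.symm huv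
    rcases h with ⟨-, g2⟩ | ⟨g1, -⟩
    · obtain ⟨f, hf, h⟩ := key u w w v hwu.symm hwv
      rcases h with ⟨f1, -⟩ | ⟨f1, -⟩
      · exact ⟨⟨g, hg⟩ * ⟨f, hf⟩, by show g (f u) = v; rw [f1, g2]⟩
      · exact ⟨⟨f, hf⟩, f1⟩
    · exact ⟨⟨g, hg⟩, g1⟩
  refine ⟨fun he => is_two_pretransitive_iff.2 fun {a b c d} hab hcd => ?_, fun _ => ?_⟩
  · haveI : Fact (Nat.Prime 2) := ⟨Nat.prime_two⟩
    obtain ⟨t, ht⟩ := exists_prime_orderOf_dvd_card' 2 he.two_dvd
    have htt : ∀ x, (t : Equiv.Perm α) ((t : Equiv.Perm α) x) = x := by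
      intro x
      have h2' : t * t = 1 := by rw [← pow_two, ← ht, pow_orderOf_eq_one]
      exact congrArg (fun g : G => (g : Equiv.Perm α) x) h2'
    obtain ⟨x, hx⟩ : ∃ x, (t : Equiv.Perm α) x ≠ x := by
      by_contra h
      push Not at h
      have : t = 1 := Subtype.ext (Equiv.ext h)
      rw [this, orderOf_one] at ht
      omega
    obtain ⟨f, hf, hfc⟩ := key x ((t : Equiv.Perm α) x) a b (Ne.symm hx) hab
    obtain ⟨g, hg, hgc⟩ := key a b c d hab hcd
    rcases hgc with ⟨g1, g2⟩ | ⟨g1, g2⟩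
    · exact ⟨⟨g, hg⟩, g1, g2⟩
    · refine ⟨⟨g, hg⟩ * ⟨f, hf⟩ * t * ⟨f, hf⟩⁻¹, ?_, ?_⟩
      · show g (f ((t : Equiv.Perm α) (f⁻¹ a))) = c
        rcases hfc with ⟨f1, f2⟩ | ⟨f1, f2⟩
        · rw [show f⁻¹ a = x by rw [Equiv.Perm.inv_eq_iff_eq, f1], f2, g2]
        · rw [show f⁻¹ a = (t : Equiv.Perm α) x by rw [Equiv.Perm.inv_eq_iff_eq, f2], htt, f1, g2]
      · show g (f ((t : Equiv.Perm α) (f⁻¹ b))) = d
        rcases hfc with ⟨f1, f2⟩ | ⟨f1, f2⟩
        · rw [show f⁻¹ b = (t : Equiv.Perm α) x by rw [Equiv.Perm.inv_eq_iff_eq, f2], htt, f1, g1]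
        · rw [show f⁻¹ b = x by rw [Equiv.Perm.inv_eq_iff_eq, f1], f2, g1]
  · haveI := htr
    refine ⟨fun {B} hB => ?_⟩
    by_contra h
    simp only [IsTrivialBlock, not_or] at h
    obtain ⟨hns, hnu⟩ := h
    obtain ⟨x, hx, y, hy, hxy⟩ := Set.not_subsingleton_iff.1 hns
    obtain ⟨z, hz⟩ := (Set.ne_univ_iff_exists_notMem B).1 hnu
    obtain ⟨g, hg, hgc⟩ := key x y x z hxy (fun e => hz (e ▸ hx))
    have hm : ∀ w ∈ B, g w = x → ∀ v ∈ B, g v ∈ B := by
      intro w hw hwx v hv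
      have he : (⟨g, hg⟩ : G) • B = B := by
        refine hB.smul_eq_of_nonempty ⟨x, ⟨w, hw, hwx⟩, hx⟩
      rw [← he]
      exact ⟨v, hv, rfl⟩
    rcases hgc with ⟨g1, g2⟩ | ⟨g1, g2⟩
    · exact hz (g2 ▸ hm x hx g1 y hy)
    · exact hz (g1 ▸ hm y hy g2 x hx)

end Cfsg.Agent.S0735
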