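import Cfsg.Statements.S0740
import Mathlib.GroupTheory.Perm.Cycle.Type
import Cfsg.Agent.Lib.CharDeep.Zassenhaus

set_option autoImplicit false
open Cfsg

namespace Cfsg.Agent.S0740

open MulAction CfsgLib.CharDeep

variable {G Ω : Type*} [Group G] [MulAction G Ω]

/-- An involution fixing two points can be moved to one exchanging two given points. -/
theorem swap_of_fix [Fintype Ω] (hZ : Cfsg.IsZassenhausGroup G Ω) {a b : Ω} (hab : a ≠ b) {t : G}
    (ht : orderOf t = 2) (hfix : Nat.card (fixedBy Ω t) = 2) :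
    ∃ s : G, orderOf s = 2 ∧ s • a = b ∧ s • b = a ∧ Nat.card (fixedBy Ω s) = 2 := by
  haveI := hZ.1
  have h3 := Zas.three_le_card hZ
  obtain ⟨c, hc⟩ : ∃ c : Ω, t • c ≠ c := by
    by_contra h
    push Not at h
    have : t = 1 := eq_of_smul_eq_smul (α := Ω) fun x => by rw [h x, one_smul]
    rw [this, orderOf_one] at ht
    omega
  obtain ⟨g, g1, g2⟩ := Zas.two_trans hZ (Ne.symm hc) hab
  have tt : t * t = 1 := by rw [← pow_two, ← ht, pow_orderOf_eq_one]
  refine ⟨g * t * g⁻¹, ?_, ?_, ?_, ?_⟩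
  · rw [← ht]
    exact orderOf_injective (MulAut.conj g).toMonoidHom (MulAut.conj g).injective t
  · rw [← g1, mul_smul, mul_smul, inv_smul_smul, g2]
  · rw [← g2, mul_smul, mul_smul, inv_smul_smul, ← mul_smul t, tt, one_smul, g1]
  · rw [← hfix]
    refine (Nat.card_congr ((MulAction.toPerm g).subtypeEquiv fun x => ?_)).symm
    show t • x = x ↔ (g * t * g⁻¹) • g • x = g • x
    rw [mul_smul, mul_smul, inv_smul_smul, smul_left_cancel_iff]

theorem fix_le_two [Fintype Ω] (hZ : Cfsg.IsZassenhausGroup G Ω) {s : G} (hs : s ≠ 1) :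
    Nat.card (fixedBy Ω s) ≤ 2 := by
  classical
  by_contra h
  push Not at h
  rw [Nat.card_eq_fintype_card] at h
  obtain ⟨x, y, z, hxy, hxz, hyz⟩ := Fintype.two_lt_card_iff.1 h
  have n1 : (x : Ω) ≠ y := fun e => hxy (Subtype.ext e)
  rcases Zas.three_fix hZ n1 hs x.2 y.2 z.2 with e | e
  · exact hxz (Subtype.ext e.symm)
  · exact hyz (Subtype.ext e.symm)

theorem parity [Fintype Ω] {s : G} (hs : orderOf s = 2) :
    Nat.card (fixedBy Ω s) % 2 = Fintype.card Ω % 2 := by
  classical
  haveI : Fact (Nat.Prime 2) := ⟨Nat.prime_two⟩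
  have ss : s * s = 1 := by rw [← pow_two, ← hs, pow_orderOf_eq_one]
  have hm := Equiv.Perm.card_compl_support_modEq (p := 2) (n := 1)
    (σ := (MulAction.toPerm s : Equiv.Perm Ω)) (Equiv.ext fun z => by
      simp [pow_two, ← mul_smul, ss])
  rw [Nat.card_eq_fintype_card, Fintype.card_of_subtype (MulAction.toPerm s : Equiv.Perm Ω).supportᶜ]
  · exact hm
  · intro x
    simp [Equiv.Perm.mem_support]


/-- In a finite Zassenhaus group any two points `a ≠ b` are swapped by an involution; every such involution has exactly one fixed point when the degree is odd and 0 or 2 fixed points when the degree is even; and if the two-point stabiliser has even order, some such involution has exactly 2 fixed points. -/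
theorem result {G Ω : Type*} [Group G] [Finite G] [MulAction G Ω] [Fintype Ω] (hZ : Cfsg.IsZassenhausGroup G Ω) {a b : Ω} (hab : a ≠ b) : (∃ s : G, orderOf s = 2 ∧ s • a = b ∧ s • b = a) ∧ (∀ s : G, orderOf s = 2 → s • a = b → s • b = a → (Odd (Fintype.card Ω) → Nat.card (MulAction.fixedBy Ω s) = 1) ∧ (Even (Fintype.card Ω) → Nat.card (MulAction.fixedBy Ω s) = 0 ∨ Nat.card (MulAction.fixedBy Ω s) = 2)) ∧ (Even (Fintype.card Ω) → Even (Nat.card ↥(MulAction.stabilizer G a ⊓ MulAction.stabilizer G b)) → ∃ s : G, orderOf s = 2 ∧ s • a = b ∧ s • b = a ∧ Nat.card (MulAction.fixedBy Ω s) = 2) := by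
  classical
  haveI := hZ.1
  haveI : Fact (Nat.Prime 2) := ⟨Nat.prime_two⟩
  have hfix2 : Even (Nat.card ↥(stabilizer G a ⊓ stabilizer G b)) →
      ∃ t : G, orderOf t = 2 ∧ Nat.card (fixedBy Ω t) = 2 := by
    intro he
    obtain ⟨t, ht⟩ := exists_prime_orderOf_dvd_card' 2 he.two_dvd
    have h2 : orderOf (t : G) = 2 := by rw [Subgroup.orderOf_coe, ht]
    refine ⟨t, h2, le_antisymm (fix_le_two hZ fun h => ?_) ?_⟩
    · rw [h, orderOf_one] at h2; omega
    · rw [← Finset.card_pair hab, Nat.card_eq_fintype_card]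
      rw [Fintype.card_of_subtype (Finset.univ.filter (fun x => (t : G) • x = x)) (by simp)]
      refine Finset.card_le_card ?_
      intro x hx
      simp only [Finset.mem_insert, Finset.mem_singleton] at hx
      simp only [Finset.mem_filter, Finset.mem_univ, true_and]
      rcases hx with rfl | rfl
      · exact t.2.1
      · exact t.2.2
  refine ⟨?_, fun s hs _ _ => ?_, fun _ he => ?_⟩
  · rcases Nat.even_or_odd (Nat.card ↥(stabilizer G a ⊓ stabilizer G b)) with he | ho
    · obtain ⟨t, ht, htf⟩ := hfix2 he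
      obtain ⟨s, h1, h2, h3, -⟩ := swap_of_fix hZ hab ht htf
      exact ⟨s, h1, h2, h3⟩
    · obtain ⟨g, g1, g2⟩ := Zas.two_trans hZ hab hab.symm
      obtain ⟨c, hc⟩ := ho
      have hgg : g * g ∈ stabilizer G a ⊓ stabilizer G b :=
        ⟨by simp [mul_smul, g1, g2], by simp [mul_smul, g1, g2]⟩
      set d := Nat.card ↥(stabilizer G a ⊓ stabilizer G b) with hd
      have hpow : (g * g) ^ d = 1 := by
        have := pow_card_eq_one' (x := (⟨_, hgg⟩ : ↥(stabilizer G a ⊓ stabilizer G b)))
        exact congrArg Subtype.val this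
      have hsw : g ^ d • a = b ∧ g ^ d • b = a := by
        have fx : ((g * g) ^ c) ∈ stabilizer G a ⊓ stabilizer G b := Subgroup.pow_mem _ hgg c
        rw [hc, pow_succ', pow_mul, pow_two]
        exact ⟨by rw [mul_smul, fx.1, g1], by rw [mul_smul, fx.2, g2]⟩
      refine ⟨g ^ d, orderOf_eq_prime ?_ ?_, hsw.1, hsw.2⟩
      · rw [← pow_mul, mul_comm, pow_mul, pow_two, hpow]
      · intro h
        rw [h, one_smul] at hsw
        exact hab hsw.1
  · have h1 : s ≠ 1 := fun h => by rw [h, orderOf_one] at hs; omega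
    have := fix_le_two hZ h1
    have := parity (Ω := Ω) hs
    exact ⟨fun ho => by rw [Nat.odd_iff] at ho; omega, fun he => by rw [Nat.even_iff] at he; omega⟩
  · obtain ⟨t, ht, htf⟩ := hfix2 he
    exact swap_of_fix hZ hab ht htf

end Cfsg.Agent.S0740
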