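import Cfsg.Statements.S0747
import Cfsg.Agent.Lib.Homog.AltSet

set_option autoImplicit false
open scoped Pointwise
open Cfsg

namespace Cfsg.Agent.S0747

/-- In a `k`-transitive permutation group with `4 ≤ k < n`, some `(k+1)`-subset `Δ` has the property that every even permutation of `Δ` is induced by an element of the group stabilising `Δ`. -/
theorem result {α : Type*} [Fintype α] [DecidableEq α] (G : Subgroup (Equiv.Perm α)) {k : ℕ} (hk : 4 ≤ k) (hkn : k < Fintype.card α) (hG : MulAction.IsMultiplyPretransitive G α k) : ∃ Δ : Finset α, Δ.card = k + 1 ∧ ∀ σ : Equiv.Perm ↥Δ, σ ∈ alternatingGroup ↥Δ → ∃ g ∈ G, ∀ x : ↥Δ, g (x : α) = σ x := by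
  obtain ⟨e, he⟩ :=
    Cfsg.Agent.Lib.Homog.hasAltSet_of_multiplyPretransitive hk (Fintype.card α) G rfl hkn hG
  refine ⟨Finset.univ.map e, by simp, fun σ hσ => ?_⟩
  let q : Fin (k + 1) ≃ ↥(Finset.univ.map e) :=
    Equiv.ofBijective (fun i => ⟨e i, Finset.mem_map_of_mem e (Finset.mem_univ i)⟩)
      ⟨fun i j h => e.injective (congrArg Subtype.val h), fun y => by
        obtain ⟨i, -, hi⟩ := Finset.mem_map.1 y.2
        exact ⟨i, Subtype.ext hi⟩⟩
  have hτ : q.symm.permCongr σ ∈ alternatingGroup (Fin (k + 1)) := by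
    rw [Equiv.Perm.mem_alternatingGroup] at hσ ⊢
    rwa [Equiv.Perm.sign_permCongr]
  obtain ⟨g, hg⟩ := he hτ
  refine ⟨g, g.2, fun x => ?_⟩
  have h := hg (q.symm x)
  have h1 : ∀ i, (q i : α) = e i := fun _ => rfl
  rw [← h1, ← h1, Equiv.permCongr_apply] at h
  simpa [Subgroup.smul_def] using h

end Cfsg.Agent.S0747
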