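import Cfsg.Statements.S0754

set_option autoImplicit false
open Cfsg

namespace Cfsg.Agent.S0754

/-- In a field F with q^2 elements, every non-zero μ with μ^q = μ (that is, μ in the subfield of order q) has exactly q + 1 solutions λ of λ^(q+1) = μ. -/
theorem result {F : Type*} [Field F] [Fintype F] {q : ℕ} (hF : Fintype.card F = q ^ 2) (μ : F) (hμ : μ ≠ 0) (hμq : μ ^ q = μ) : Nat.card {x : F // x ^ (q + 1) = μ} = q + 1 := by
  classical
  have hq : 2 ≤ q := by
    have h1 : 1 < q ^ 2 := hF ▸ Fintype.one_lt_card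
    rcases Nat.lt_or_ge q 2 with h | h
    · interval_cases q <;> simp at h1
    · exact h
  obtain ⟨r, rfl⟩ : ∃ r, q = r + 2 := ⟨q - 2, by omega⟩
  have hcard : Nat.card Fˣ = (r + 1) * (r + 3) := by
    rw [Nat.card_eq_fintype_card, Fintype.card_units, hF,
      show (r + 2) ^ 2 = (r + 1) * (r + 3) + 1 by ring]
    simp
  set f : Fˣ →* Fˣ := powMonoidHom (r + 3) with hf
  set g : Fˣ →* Fˣ := powMonoidHom (r + 1) with hg
  have hker : Nat.card f.ker = r + 3 := by
    rw [hf, IsCyclic.card_powMonoidHom_ker, hcard, Nat.gcd_mul_left_left]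
  have hkerg : Nat.card g.ker = r + 1 := by
    rw [hg, IsCyclic.card_powMonoidHom_ker, hcard, Nat.gcd_mul_right_left]
  have hle : f.range ≤ g.ker := by
    rintro _ ⟨x, rfl⟩
    have : x ^ Nat.card Fˣ = 1 := pow_card_eq_one'
    rw [hcard] at this
    simpa [hf, hg, ← pow_mul, mul_comm] using this
  have hrange : f.range = g.ker := by
    refine SetLike.coe_injective (Set.eq_of_subset_of_ncard_le hle ?_ (Set.toFinite _))
    have h1 := f.ker.card_mul_index
    rw [Subgroup.index_ker, hker, hcard, mul_comm (r + 1) (r + 3)] at h1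
    rw [← Nat.card_coe_set_eq, ← Nat.card_coe_set_eq]
    exact le_of_eq (hkerg.trans (Nat.eq_of_mul_eq_mul_left (by omega) h1).symm)
  have hmem : Units.mk0 μ hμ ∈ f.range := by
    rw [hrange, hg, MonoidHom.mem_ker, powMonoidHom_apply]
    ext
    have : μ * μ ^ (r + 1) = μ * 1 := by rw [← pow_succ', mul_one]; exact hμq
    simpa using mul_left_cancel₀ hμ this
  obtain ⟨x₀, hx₀⟩ := hmem
  have hx₀' : (x₀ : F) ^ (r + 3) = μ := by
    simpa [hf] using congrArg Units.val hx₀
  suffices h : Nat.card {x : F // x ^ (r + 2 + 1) = μ} = Nat.card f.ker from h.trans hker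
  refine (Nat.card_eq_of_bijective (fun y : f.ker => (⟨(x₀ : F) * ((y : Fˣ) : F), ?_⟩ :
    {x : F // x ^ (r + 2 + 1) = μ})) ⟨?_, ?_⟩).symm
  · have : (((y : Fˣ) : F)) ^ (r + 3) = 1 := by
      simpa [hf] using congrArg Units.val (MonoidHom.mem_ker.mp y.2)
    rw [show r + 2 + 1 = r + 3 by ring, mul_pow, this, hx₀', mul_one]
  · intro y z h
    exact Subtype.ext (Units.ext (mul_left_cancel₀ x₀.ne_zero (congrArg Subtype.val h)))
  · rintro ⟨x, hx⟩
    have hx0 : x ≠ 0 := by
      rintro rfl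
      exact hμ (by simpa using hx.symm)
    refine ⟨⟨x₀⁻¹ * Units.mk0 x hx0, ?_⟩, ?_⟩
    · rw [hf, MonoidHom.mem_ker, powMonoidHom_apply]
      ext
      simp only [Units.val_pow_eq_pow_val, Units.val_mul, Units.val_inv_eq_inv_val, Units.val_mk0,
        Units.val_one, mul_pow, inv_pow, hx₀']
      rw [show r + 3 = r + 2 + 1 by ring, hx, inv_mul_cancel₀ hμ]
    · simp

end Cfsg.Agent.S0754
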