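import Cfsg.Statements.S0757

set_option autoImplicit false
open Cfsg

namespace Cfsg.Agent.S0757

/-- The two diagonal forms Σ x_i^2 and Σ_(i<n) x_i^2 + α x_n^2 on F^(n+1), with α a non-square and 2 ≠ 0 in F, are inequivalent quadratic forms (so over a finite field of odd order there are exactly two classes of non-singular symmetric bilinear forms in each dimension). -/
theorem result {F : Type*} [Field F] (h2 : (2 : F) ≠ 0) (n : ℕ) (α : F) (hα : ¬ IsSquare α) : ¬ (QuadraticMap.weightedSumSquares F (fun _ : Fin (n + 1) => (1 : F))).Equivalent (QuadraticMap.weightedSumSquares F (fun i : Fin (n + 1) => if i = Fin.last n then α else (1 : F))) := by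
  rintro ⟨e⟩
  let w : Fin (n + 1) → F := fun i => if i = Fin.last n then α else (1 : F)
  have hq : ∀ x : Fin (n + 1) → F, ∑ i, w i * (e x i * e x i) = ∑ i, x i * x i := fun x => by
    have h := e.map_app x
    rw [QuadraticMap.weightedSumSquares_apply, QuadraticMap.weightedSumSquares_apply] at h
    simp only [smul_eq_mul, one_mul] at h
    exact h
  have hb : ∀ x y : Fin (n + 1) → F, ∑ i, w i * (e x i * e y i) = ∑ i, x i * y i := fun x y => by
    have h := hq (x + y)
    simp only [map_add, Pi.add_apply, mul_add, add_mul, Finset.sum_add_distrib] at h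
    rw [hq x, hq y, Finset.sum_congr rfl (fun i _ => congrArg (w i * ·) (mul_comm (e y i) (e x i))),
      Finset.sum_congr rfl (fun i _ => mul_comm (y i) (x i))] at h
    apply mul_left_cancel₀ h2
    linear_combination h
  let M := LinearMap.toMatrix' (e.toLinearEquiv : (Fin (n + 1) → F) →ₗ[F] (Fin (n + 1) → F))
  have hM : M.transpose * Matrix.diagonal w * M = 1 := by
    ext i j
    have h := hb (Pi.single i 1) (Pi.single j 1)
    simp only [Pi.single_apply, mul_ite, mul_one, mul_zero, Finset.sum_ite_eq',
      Finset.mem_univ, if_true] at h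
    rw [Matrix.mul_apply]
    simp only [Matrix.mul_diagonal, Matrix.transpose_apply, M, LinearMap.toMatrix'_apply,
      Matrix.one_apply]
    calc ∑ k, e (Pi.single i 1) k * w k * e (Pi.single j 1) k
        = ∑ k, w k * (e (Pi.single i 1) k * e (Pi.single j 1) k) :=
          Finset.sum_congr rfl (fun k _ => by ring)
      _ = _ := by rw [h]; simp [eq_comm]
  have hdet := congrArg Matrix.det hM
  rw [Matrix.det_mul, Matrix.det_mul, Matrix.det_transpose, Matrix.det_diagonal, Matrix.det_one,
    Finset.prod_eq_single (Fin.last n) (fun i _ hi => by simp [w, hi]) (by simp)] at hdet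
  simp only [w, if_true] at hdet
  have hM0 : M.det ≠ 0 := fun h => by simp [h] at hdet
  exact hα ⟨1 / M.det, by field_simp; linear_combination hdet⟩

end Cfsg.Agent.S0757
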