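import Cfsg.Statements.S0758

set_option autoImplicit false
open Cfsg

namespace Cfsg.Agent.S0758

/-- For a finite field F of odd order q and a non-square α: the form x² + y² is isotropic iff q ≡ 1 mod 4, and the form x² + α y² is isotropic iff q ≡ 3 mod 4. -/
theorem result {F : Type*} [Field F] [Fintype F] (h2 : (2 : F) ≠ 0) (α : F) (hα : ¬ IsSquare α) : ((∃ x y : F, (x ≠ 0 ∨ y ≠ 0) ∧ x ^ 2 + y ^ 2 = 0) ↔ Fintype.card F % 4 = 1) ∧ ((∃ x y : F, (x ≠ 0 ∨ y ≠ 0) ∧ x ^ 2 + α * y ^ 2 = 0) ↔ Fintype.card F % 4 = 3) := by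
  have hch : ringChar F ≠ 2 := fun h => h2 (by
    haveI : CharP F 2 := ringChar.of_eq h
    exact CharTwo.two_eq_zero)
  have hodd : Fintype.card F % 2 = 1 := FiniteField.odd_card_of_char_ne_two hch
  have hneg : IsSquare (-1 : F) ↔ Fintype.card F % 4 ≠ 3 := FiniteField.isSquare_neg_one_iff
  have key : ∀ c : F, (∃ x y : F, (x ≠ 0 ∨ y ≠ 0) ∧ x ^ 2 + c * y ^ 2 = 0) ↔ IsSquare (-c) := by
    intro c
    constructor
    · rintro ⟨x, y, hxy, h⟩
      have hy : y ≠ 0 := by rintro rfl; simp_all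
      exact ⟨x / y, by field_simp; linear_combination -h⟩
    · rintro ⟨s, hs⟩
      exact ⟨s, 1, Or.inr one_ne_zero, by linear_combination -hs⟩
  classical
  have hα0 : α ≠ 0 := fun h => hα (h ▸ IsSquare.zero)
  have hprod : IsSquare (-α) ↔ ¬ IsSquare (-1 : F) := by
    have hmul : quadraticChar F (-α) = quadraticChar F (-1) * quadraticChar F α := by
      rw [← map_mul]; simp
    have hn : quadraticChar F α = -1 := quadraticChar_neg_one_iff_not_isSquare.mpr hα
    rw [← quadraticChar_one_iff_isSquare (neg_ne_zero.mpr hα0),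
      ← quadraticChar_one_iff_isSquare (neg_ne_zero.mpr one_ne_zero), hmul, hn]
    rcases quadraticChar_dichotomy (F := F) (neg_ne_zero.mpr one_ne_zero) with h | h <;> simp [h]
  refine ⟨?_, ?_⟩
  · have h1 := key 1
    simp only [one_mul] at h1
    rw [h1, hneg]; omega
  · rw [key, hprod, hneg]; omega

end Cfsg.Agent.S0758
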