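import Cfsg.Statements.S0759

set_option autoImplicit false
open Cfsg

namespace Cfsg.Agent.S0759

/-- Type of the orthonormal form: over a finite field of odd order q and for m ≥ 1, the quadratic form Σ_(i<2m) x_i² on F^(2m) admits an m-dimensional subspace on which it vanishes identically if and only if it is not the case that q ≡ 3 (mod 4) and m is odd. -/
theorem result {F : Type*} [Field F] [Fintype F] (h2 : (2 : F) ≠ 0) (m : ℕ) (hm : 1 ≤ m) : (∃ W : Submodule F (Fin (2 * m) → F), Module.finrank F W = m ∧ ∀ w ∈ W, ∑ i, w i ^ 2 = 0) ↔ ¬ (Fintype.card F % 4 = 3 ∧ Odd m) := by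
  classical
  have hch : ringChar F ≠ 2 := fun h => h2 (by
    haveI : CharP F 2 := ringChar.of_eq h
    exact CharTwo.two_eq_zero)
  have hneg : IsSquare (-1 : F) ↔ Fintype.card F % 4 ≠ 3 := FiniteField.isSquare_neg_one_iff
  let e : Fin m ⊕ Fin m ≃ Fin (2 * m) := finSumFinEquiv.trans (finCongr (two_mul m).symm)
  constructor
  · rintro ⟨W, hWm, hW⟩ ⟨h3, hodd⟩
    -- a totally singular half forces `(-1) ^ m` to be a square
    obtain ⟨U, hU⟩ := Submodule.exists_isCompl W
    have hUdim : Module.finrank F U = m := by
      have := Submodule.finrank_add_eq_of_isCompl hU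
      rw [hWm, Module.finrank_fin_fun] at this
      omega
    let bW := Module.finBasisOfFinrankEq F W hWm
    let bU := Module.finBasisOfFinrankEq F U hUdim
    let b : Module.Basis (Fin m ⊕ Fin m) F (Fin (2 * m) → F) :=
      (bW.prod bU).map (Submodule.prodEquivOfIsCompl W U hU)
    let M : Matrix (Fin m ⊕ Fin m) (Fin m ⊕ Fin m) F := Matrix.of fun i j => b j (e i)
    have hbW : ∀ j, b (Sum.inl j) ∈ W := fun j => by simp [b]
    have hdot : ∀ x ∈ W, ∀ y ∈ W, ∑ i, x i * y i = 0 := fun x hx y hy => by
      have h := hW (x + y) (W.add_mem hx hy)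
      simp only [Pi.add_apply, add_sq, Finset.sum_add_distrib] at h
      rw [hW x hx, hW y hy, zero_add, add_zero, Finset.sum_congr rfl fun i _ => mul_assoc 2 (x i) (y i),
        ← Finset.mul_sum] at h
      exact (mul_eq_zero.mp h).resolve_left h2
    have hG₁₁ : (M.transpose * M).toBlocks₁₁ = 0 := by
      ext i j
      show ∑ l, M.transpose (Sum.inl i) l * M l (Sum.inl j) = 0
      rw [← hdot _ (hbW i) _ (hbW j), ← Equiv.sum_comp e]
      rfl
    set A := (M.transpose * M).toBlocks₁₂ with hA
    set A' := (M.transpose * M).toBlocks₂₁ with hA'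
    set C := (M.transpose * M).toBlocks₂₂ with hC
    have hA'A : A' = A.transpose := by
      ext i j
      show (M.transpose * M) (Sum.inr i) (Sum.inl j) = (M.transpose * M) (Sum.inl j) (Sum.inr i)
      simp only [Matrix.mul_apply, Matrix.transpose_apply]
      exact Finset.sum_congr rfl fun l _ => mul_comm _ _
    have hG : M.transpose * M = Matrix.fromBlocks 0 A A.transpose C := by
      rw [← hA'A, ← hG₁₁]
      exact (Matrix.fromBlocks_toBlocks _).symm
    let J : Matrix (Fin m ⊕ Fin m) (Fin m ⊕ Fin m) F := Matrix.fromBlocks 0 (-1) 1 0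
    have hJ : J.det = 1 := by
      have : J = Matrix.fromBlocks 1 (-1) 0 1 * Matrix.fromBlocks 1 0 1 1 *
          Matrix.fromBlocks 1 (-1) 0 1 := by
        simp [J, Matrix.fromBlocks_multiply]
      rw [this, Matrix.det_mul, Matrix.det_mul, Matrix.det_fromBlocks_zero₂₁,
        Matrix.det_fromBlocks_zero₁₂]
      simp
    have hdet := congrArg (fun X => (X * J).det) hG
    simp only [J, Matrix.fromBlocks_multiply, Matrix.mul_zero, Matrix.mul_one, Matrix.mul_neg,
      Matrix.zero_mul, zero_add, add_zero, neg_zero, Matrix.det_fromBlocks_zero₁₂] at hdet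
    rw [Matrix.det_mul, hJ, mul_one, Matrix.det_mul, Matrix.det_transpose, Matrix.det_neg,
      Matrix.det_transpose, Fintype.card_fin, hodd.neg_one_pow] at hdet
    have hM0 : M.det ≠ 0 := by
      have hM : M = ((Pi.basisFun F (Fin (2 * m))).toMatrix ⇑b).submatrix e id := by
        ext i j
        simp [M, Module.Basis.toMatrix_apply]
      intro h0
      have hinv := Module.Basis.toMatrix_mul_toMatrix_flip b (Pi.basisFun F (Fin (2 * m)))
      have hmul : (b.toMatrix ⇑(Pi.basisFun F (Fin (2 * m)))).submatrix id e * M = 1 := by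
        rw [hM, Matrix.submatrix_mul_equiv, hinv, Matrix.submatrix_id_id]
      have := congrArg Matrix.det hmul
      rw [Matrix.det_mul, h0, mul_zero, Matrix.det_one] at this
      exact zero_ne_one this
    have hA0 : A.det ≠ 0 := fun h0 => hM0 (by
      rw [h0] at hdet
      simpa using hdet)
    exact hneg.mp ⟨M.det / A.det, by field_simp; linear_combination -hdet⟩ h3
  · intro h
    -- a square root of `-1` as a matrix
    obtain ⟨S, hS⟩ : ∃ S : Matrix (Fin m) (Fin m) F, S.transpose * S = -1 := by
      by_cases h3 : Fintype.card F % 4 = 3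
      · obtain ⟨j, rfl⟩ : Even m := Nat.not_odd_iff_even.mp fun ho => h ⟨h3, ho⟩
        obtain ⟨a, b, hab⟩ : ∃ a b : F, a * a + b * b = -1 := by
          have hp : ∀ c : F, (Polynomial.C (1 : F) * Polynomial.X ^ 2 + Polynomial.C (0 : F) * Polynomial.X
              + Polynomial.C c).degree = 2 := fun c => Polynomial.degree_quadratic one_ne_zero
          obtain ⟨a, b, hab⟩ := FiniteField.exists_root_sum_quadratic (hp 1) (hp 0) (by omega)
          simp at hab
          exact ⟨a, b, by linear_combination hab⟩
        refine ⟨(Matrix.fromBlocks (a • 1) (-b • 1) (b • 1) (a • (1 : Matrix (Fin j) (Fin j) F))).submatrix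
          finSumFinEquiv.symm finSumFinEquiv.symm, ?_⟩
        rw [Matrix.transpose_submatrix, Matrix.submatrix_mul_equiv, Matrix.fromBlocks_transpose,
          Matrix.fromBlocks_multiply]
        rw [show (-1 : Matrix (Fin (j + j)) (Fin (j + j)) F) =
          (-1 : Matrix (Fin j ⊕ Fin j) (Fin j ⊕ Fin j) F).submatrix finSumFinEquiv.symm finSumFinEquiv.symm from by
            simp [Matrix.submatrix_neg]]
        congr 1
        ext i l
        rcases i with i | i <;> rcases l with l | l <;>
          simp [Matrix.one_apply] <;> (try split_ifs) <;> (try ring) <;> linear_combination hab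
      · obtain ⟨s, hs⟩ := hneg.mpr h3
        refine ⟨s • 1, ?_⟩
        simp [smul_smul, ← hs]
    let L : (Fin m → F) →ₗ[F] (Fin (2 * m) → F) :=
      { toFun := fun x => Sum.elim x (S.mulVec x) ∘ e.symm
        map_add' := fun x y => by
          funext i
          rcases he : e.symm i with l | l <;> simp [he, Matrix.mulVec_add]
        map_smul' := fun c x => by
          funext i
          rcases he : e.symm i with l | l <;> simp [he, Matrix.mulVec_smul] }
    have hL : Function.Injective L := fun x y hxy => funext fun i => by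
      simpa [L] using congrFun hxy (e (Sum.inl i))
    refine ⟨LinearMap.range L, by rw [LinearMap.finrank_range_of_inj hL, Module.finrank_fin_fun], ?_⟩
    rintro _ ⟨x, rfl⟩
    rw [← Equiv.sum_comp e, Fintype.sum_sum_type]
    have hsq : ∀ v : Fin m → F, ∑ i, v i ^ 2 = v ⬝ᵥ v := fun v => by simp [dotProduct, sq]
    simp only [L, LinearMap.coe_mk, AddHom.coe_mk, Function.comp_apply, Equiv.symm_apply_apply,
      Sum.elim_inl, Sum.elim_inr, hsq]
    rw [Matrix.dotProduct_mulVec, ← Matrix.mulVec_transpose, Matrix.mulVec_mulVec, hS,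
      Matrix.neg_mulVec, Matrix.one_mulVec, neg_dotProduct, add_neg_cancel]

end Cfsg.Agent.S0759
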