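import Cfsg.Statements.S0760
import Cfsg.Agent.Lib.Forms.Witt

set_option autoImplicit false
open Cfsg

namespace Cfsg.Agent.S0760

/-- Witt index is well defined: if Q is a quadratic form on a finite-dimensional space V over a finite field with non-degenerate polar form, and W₁, W₂ are subspaces on which Q vanishes that are maximal with this property, then W₁ and W₂ have the same dimension, and twice this dimension is at most dim V. -/
theorem result {F V : Type*} [Field F] [Finite F] [AddCommGroup V] [Module F V] [FiniteDimensional F V] (Q : QuadraticForm F V) (hQ : (QuadraticMap.polarBilin Q).Nondegenerate) (W₁ W₂ : Submodule F V) (h₁ : ∀ w ∈ W₁, Q w = 0) (h₂ : ∀ w ∈ W₂, Q w = 0) (hmax₁ : ∀ W : Submodule F V, W₁ ≤ W → (∀ w ∈ W, Q w = 0) → W = W₁) (hmax₂ : ∀ W : Submodule F V, W₂ ≤ W → (∀ w ∈ W, Q w = 0) → W = W₂) : Module.finrank F W₁ = Module.finrank F W₂ ∧ 2 * Module.finrank F W₁ ≤ Module.finrank F V := by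
  have key : ∀ U W : Submodule F V, (∀ u ∈ U, Q u = 0) → (∀ w ∈ W, Q w = 0) →
      (∀ U' : Submodule F V, U ≤ U' → (∀ u ∈ U', Q u = 0) → U' = U) →
      Module.finrank F W ≤ Module.finrank F U := by
    intro U W hU hW hmax
    by_contra hlt
    push Not at hlt
    let bU := Module.finBasis F U
    let bW := Module.finBasis F W
    let φ : U →ₗ[F] V := bU.constr F fun i => (bW (Fin.castLE hlt.le i) : V)
    have hli : LinearIndependent F fun i => (bW (Fin.castLE hlt.le i) : V) :=
      (bW.linearIndependent.map' W.subtype (Submodule.ker_subtype W)).comp _ (Fin.castLE_injective _)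
    have hφinj : Function.Injective φ := by
      rw [← LinearMap.ker_eq_bot, LinearMap.ker_eq_bot']
      intro x hx
      rw [Module.Basis.constr_apply_fintype] at hx
      apply bU.ext_elem
      intro i
      simpa using Fintype.linearIndependent_iff.mp hli _ hx i
    have hφW : ∀ u : U, φ u ∈ W := fun u => by
      have : LinearMap.range φ ≤ W := by
        rw [Module.Basis.constr_range, Submodule.span_le]
        rintro _ ⟨i, rfl⟩
        exact (bW _).2
      exact this ⟨u, rfl⟩
    obtain ⟨f, hf⟩ := LinearMap.exists_extend φ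
    have hf' : ∀ x : U, f x = φ x := fun x => LinearMap.congr_fun hf x
    obtain ⟨g, hg, hgU⟩ := CfsgLib.Forms.witt_quadratic Q hQ U f
      (fun x hx => by rw [hf' ⟨x, hx⟩, hW _ (hφW _), hU x hx])
      (fun x hx h0 => congrArg Subtype.val (hφinj (a₁ := (⟨x, hx⟩ : U)) (a₂ := 0)
        (by rw [map_zero, ← hf' ⟨x, hx⟩]; exact h0)))
    have h := hmax (W.comap (g : V →ₗ[F] V)) (fun x hx => by
      show g x ∈ W
      rw [hgU x hx, hf' ⟨x, hx⟩]
      exact hφW _) (fun x hx => by rw [← hg x]; exact hW _ hx)
    have hdim : Module.finrank F ↥(W.comap (g : V →ₗ[F] V)) = Module.finrank F W := by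
      rw [Submodule.comap_equiv_eq_map_symm]
      exact LinearEquiv.finrank_map_eq _ _
    rw [h] at hdim
    omega
  refine ⟨le_antisymm (key W₂ W₁ h₂ h₁ hmax₂) (key W₁ W₂ h₁ h₂ hmax₁), ?_⟩
  have hle : W₁ ≤ LinearMap.BilinForm.orthogonal (QuadraticMap.polarBilin Q) W₁ := by
    intro x hx y hy
    show QuadraticMap.polar Q y x = 0
    rw [QuadraticMap.polar, h₁ _ (add_mem hy hx), h₁ _ hx, h₁ _ hy, sub_zero, sub_zero]
  have h3 := Submodule.finrank_mono hle
  rw [LinearMap.BilinForm.finrank_orthogonal hQ] at h3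
  have := Submodule.finrank_le W₁
  omega

end Cfsg.Agent.S0760
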