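import Cfsg.Statements.S0761
import Cfsg.Agent.Lib.Forms.Witt

set_option autoImplicit false
open Cfsg

namespace Cfsg.Agent.S0761

/-- Hyperbolic partners: let B be a non-degenerate bilinear form on a finite-dimensional space, either alternating, or symmetric with 2 ≠ 0. If Z is a subspace on which B vanishes, x ∉ Z is isotropic and orthogonal to Z, then there is an isotropic y with B x y = 1 which is orthogonal to Z. -/
theorem result {F V : Type*} [Field F] [AddCommGroup V] [Module F V] [FiniteDimensional F V] (B : LinearMap.BilinForm F V) (hB : B.Nondegenerate) (hform : B.IsAlt ∨ (B.IsSymm ∧ (2 : F) ≠ 0)) (x : V) (Z : Submodule F V) (hxZ : x ∉ Z) (hx : B x x = 0) (hxz : ∀ z ∈ Z, B x z = 0) (hZ : ∀ z ∈ Z, ∀ z' ∈ Z, B z z' = 0) : ∃ y : V, B y y = 0 ∧ B x y = 1 ∧ ∀ z ∈ Z, B z y = 0 := by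
  have hzx : ∀ z ∈ Z, B z x = 0 := fun z hz => by
    rcases hform with hA | ⟨hS, _⟩
    · rw [← LinearMap.IsAlt.neg hA x z, hxz z hz, neg_zero]
    · rw [hS.eq z x]; exact hxz z hz
  obtain ⟨l, hl, hlx⟩ := CfsgLib.Forms.exists_dual_eq Z hxZ (1 : F)
  obtain ⟨a, ha⟩ := CfsgLib.Forms.bilin_represent B hB l
  rcases hform with hA | ⟨hS, h2⟩
  · refine ⟨-a, hA _, ?_, fun z hz => ?_⟩
    · rw [map_neg, ← LinearMap.IsAlt.neg hA a x, ha, hlx, neg_neg]
    · rw [map_neg, ← LinearMap.IsAlt.neg hA a z, ha, hl z hz, neg_neg]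
  · have hax : B a x = 1 := by rw [ha, hlx]
    have hxa : B x a = 1 := by rw [hS.eq x a]; exact hax
    refine ⟨a - (B a a / 2) • x, ?_, ?_, fun z hz => ?_⟩
    · simp [hax, hxa, hx]; field_simp; ring
    · simp [hxa, hx]
    · simp [hzx z hz]; rw [hS.eq z a, ha]; exact hl z hz

end Cfsg.Agent.S0761
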