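import Cfsg.Statements.S0762

set_option autoImplicit false
open Cfsg

namespace Cfsg.Agent.S0762

/-- In characteristic two over a finite field, a quadratic form on a space of dimension at least 3 vanishes on some non-zero vector. -/
theorem result {F V : Type*} [Field F] [Finite F] [CharP F 2] [AddCommGroup V] [Module F V] [FiniteDimensional F V] (Q : QuadraticForm F V) (h3 : 3 ≤ Module.finrank F V) : ∃ v : V, v ≠ 0 ∧ Q v = 0 := by
  haveI : Nontrivial V := Module.nontrivial_of_finrank_pos (R := F) (by omega)
  obtain ⟨v, hv⟩ := exists_ne (0 : V)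
  by_cases hQv : Q v = 0
  · exact ⟨v, hv, hQv⟩
  obtain ⟨w, hw, hwv⟩ : ∃ w, QuadraticMap.polar Q v w = 0 ∧ w ∉ (F ∙ v) := by
    by_contra! hcon
    have h1 : LinearMap.ker (QuadraticMap.polarBilin Q v) ≤ (F ∙ v) := fun w hw => hcon w hw
    have h2 := LinearMap.finrank_range_add_finrank_ker (QuadraticMap.polarBilin Q v)
    have h3 := Submodule.finrank_mono h1
    rw [finrank_span_singleton hv] at h3
    have h4 := Submodule.finrank_le (LinearMap.range (QuadraticMap.polarBilin Q v))
    rw [Module.finrank_self] at h4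
    omega
  obtain ⟨s, hs⟩ := FiniteField.isSquare_of_char_two (ringChar.eq F 2) (Q w / Q v)
  refine ⟨w + s • v, fun h0 => hwv ?_, ?_⟩
  · rw [eq_neg_of_add_eq_zero_left h0]
    exact Submodule.neg_mem _ (Submodule.smul_mem _ _ (Submodule.mem_span_singleton_self v))
  · rw [QuadraticMap.map_add (⇑Q), QuadraticMap.map_smul, QuadraticMap.polar_smul_right,
      QuadraticMap.polar_comm, hw, smul_zero, add_zero, ← hs, smul_eq_mul, div_mul_cancel₀ _ hQv,
      CharTwo.add_self_eq_zero]

end Cfsg.Agent.S0762
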