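import Cfsg.Statements.S0763

set_option autoImplicit false
open Cfsg

namespace Cfsg.Agent.S0763

/-- Binary quadratic forms in characteristic two over a finite field: if Q is a quadratic form on a 2-dimensional space whose polar form is non-degenerate, then either there are vectors v, w with Q v = Q w = 0 and polar value 1 (Q is xy in these coordinates), or there are v, w and μ with Q v = 1, Q w = μ, polar value 1 and x² + x + μ without roots in F (Q is x² + xy + μy²). -/
theorem result {F V : Type*} [Field F] [Finite F] [CharP F 2] [AddCommGroup V] [Module F V] (Q : QuadraticForm F V) (h2 : Module.finrank F V = 2) (hQ : (QuadraticMap.polarBilin Q).Nondegenerate) : (∃ v w : V, LinearIndependent F ![v, w] ∧ Q v = 0 ∧ Q w = 0 ∧ QuadraticMap.polar Q v w = 1) ∨ (∃ (v w : V) (μ : F), LinearIndependent F ![v, w] ∧ (∀ x : F, x ^ 2 + x + μ ≠ 0) ∧ Q v = 1 ∧ Q w = μ ∧ QuadraticMap.polar Q v w = 1) := by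
  haveI : FiniteDimensional F V := Module.finite_of_finrank_pos (by omega)
  have h20 : (2 : F) = 0 := CharTwo.two_eq_zero
  have hself : ∀ x : V, QuadraticMap.polar Q x x = 0 := fun x => by
    rw [QuadraticMap.polar_self]; simp [h20]
  have partner : ∀ v : V, v ≠ 0 → ∃ w, QuadraticMap.polar Q v w = 1 := fun v hv => by
    obtain ⟨u, hu⟩ : ∃ u, QuadraticMap.polar Q v u ≠ 0 := by
      by_contra! h
      exact hv (hQ.1 v fun u => h u)
    exact ⟨(QuadraticMap.polar Q v u)⁻¹ • u, by
      rw [QuadraticMap.polar_smul_right, smul_eq_mul, inv_mul_cancel₀ hu]⟩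
  have indep : ∀ v w : V, QuadraticMap.polar Q v w = 1 → LinearIndependent F ![v, w] := by
    intro v w h
    rw [LinearIndependent.pair_iff]
    intro s t hst
    have e1 := congrArg (fun z => QuadraticMap.polar Q z w) hst
    have e2 := congrArg (fun z => QuadraticMap.polar Q v z) hst
    simp only [QuadraticMap.polar_add_left, QuadraticMap.polar_add_right,
      QuadraticMap.polar_smul_left, QuadraticMap.polar_smul_right, hself, h,
      QuadraticMap.polar_zero_left, QuadraticMap.polar_zero_right, smul_eq_mul] at e1 e2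
    exact ⟨by simpa using e1, by simpa using e2⟩
  by_cases hsing : ∃ v : V, v ≠ 0 ∧ Q v = 0
  · obtain ⟨v, hv, hQv⟩ := hsing
    obtain ⟨w, hw⟩ := partner v hv
    have hw' : QuadraticMap.polar Q v (w + Q w • v) = 1 := by
      rw [QuadraticMap.polar_add_right, QuadraticMap.polar_smul_right, hself, smul_zero, add_zero,
        hw]
    refine Or.inl ⟨v, w + Q w • v, indep _ _ hw', hQv, ?_, hw'⟩
    rw [QuadraticMap.map_add (⇑Q), QuadraticMap.map_smul, hQv, QuadraticMap.polar_smul_right,
      QuadraticMap.polar_comm, hw, smul_zero, add_zero, smul_eq_mul, mul_one,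
      CharTwo.add_self_eq_zero]
  · push Not at hsing
    haveI : Nontrivial V := Module.nontrivial_of_finrank_pos (R := F) (by omega)
    obtain ⟨v₀, hv₀⟩ := exists_ne (0 : V)
    obtain ⟨s, hs⟩ := FiniteField.isSquare_of_char_two (ringChar.eq F 2) (Q v₀)
    have hs0 : s ≠ 0 := fun h => hsing v₀ hv₀ (by simpa [h] using hs)
    set v := s⁻¹ • v₀ with hv
    have hQv : Q v = 1 := by
      rw [hv, QuadraticMap.map_smul, hs, smul_eq_mul]; field_simp
    have hvne : v ≠ 0 := fun h => by simp [h] at hQv
    obtain ⟨w, hw⟩ := partner v hvne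
    refine Or.inr ⟨v, w, Q w, indep v w hw, fun x hx => ?_, hQv, rfl, hw⟩
    have hne : x • v + w ≠ 0 := fun h0 =>
      one_ne_zero ((LinearIndependent.pair_iff.mp (indep v w hw)) x 1 (by rwa [one_smul])).2
    apply hsing _ hne
    rw [QuadraticMap.map_add (⇑Q), QuadraticMap.map_smul, QuadraticMap.polar_smul_left, hQv, hw]
    simp only [smul_eq_mul]
    linear_combination hx

end Cfsg.Agent.S0763
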