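import Cfsg.Statements.S0768
import Cfsg.Agent.Lib.Linear.SympSimple

set_option autoImplicit false
open scoped LinearAlgebra.Projectivization
open Cfsg

namespace Cfsg.Agent.S0768

/-- Primitivity: for m ≥ 1 and F finite, the symplectic group of the form sympForm (as a subgroup of the general linear group) acts primitively on the projective space of F^(2m). -/
theorem result {F : Type*} [Field F] [Finite F] (m : ℕ) (hm : 1 ≤ m) : MulAction.IsPreprimitive ↥(Cfsg.spGL m F) (ℙ F (Fin m ⊕ Fin m → F)) := by
  classical
  have := CfsgLib.Linear.Symp.isPreprimitive_proj (F := F) (m := m)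
  let φ : Matrix.symplecticGroup (Fin m) F → Cfsg.spGL m F := fun g =>
    ⟨⟨g.1, (g⁻¹).1, by rw [← Submonoid.coe_mul, mul_inv_cancel, Submonoid.coe_one],
      by rw [← Submonoid.coe_mul, inv_mul_cancel, Submonoid.coe_one]⟩,
      fun u v => CfsgLib.Linear.Symp.form_mulVec g.2 u v⟩
  let f : Projectivization F (Fin m ⊕ Fin m → F) →ₑ[φ] Projectivization F (Fin m ⊕ Fin m → F) :=
    { toFun := id
      map_smul' := fun g p => by
        induction p using Projectivization.ind with | _ v hv => rfl }
  exact MulAction.IsPreprimitive.of_surjective (f := f) Function.surjective_id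

end Cfsg.Agent.S0768
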