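import Cfsg.Statements.S0769
import Cfsg.Agent.Lib.GLFlags.Index

set_option autoImplicit false
open Cfsg

namespace Cfsg.Agent.S0769

/-- Order of the Borel subgroup of GL_n(q): the invertible lower-triangular n × n matrices over a field with q elements number q^(n(n-1)/2) (q-1)^n (unitriangular part times the diagonal torus). -/
theorem result {F : Type*} [Field F] [Fintype F] {q : ℕ} (hF : Fintype.card F = q) (n : ℕ) : Nat.card {g : Matrix.GeneralLinearGroup (Fin n) F // ∀ i j : Fin n, i < j → (g : Matrix (Fin n) (Fin n) F) i j = 0} = q ^ (n * (n - 1) / 2) * (q - 1) ^ n := by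
  classical
  let b : Fin n → Fin n := Fin.rev
  have e1 : {g : Matrix.GeneralLinearGroup (Fin n) F //
      ∀ i j : Fin n, i < j → (g : Matrix (Fin n) (Fin n) F) i j = 0} ≃
      {g : GL (Fin n) F // (g : Matrix (Fin n) (Fin n) F).BlockTriangular b} :=
    Equiv.subtypeEquivRight fun g => by
      constructor
      · intro h i j hij
        exact h i j (Fin.rev_lt_rev.mp hij)
      · intro h i j hij
        exact h (Fin.rev_lt_rev.mpr hij)
  rw [Nat.card_congr (e1.trans (CfsgLib.GLFlags.blockEquiv b)), Nat.card_prod, Nat.card_pi,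
    Nat.card_fun]
  have h1 : ∀ k : Fin n, Nat.card (GL {i // b i = k} F) = q - 1 := fun k => by
    have hc : Fintype.card {i // b i = k} = 1 := Fintype.card_eq_one_iff.mpr
      ⟨⟨Fin.rev k, Fin.rev_rev k⟩, fun x => Subtype.ext (Fin.rev_injective (by
        rw [Fin.rev_rev]; exact x.2))⟩
    rw [CfsgLib.GLFlags.card_gl' 1 hc, hF]
    simp [CfsgLib.GLFlags.qFact]
  have h2 : Nat.card {p : Fin n × Fin n // b p.1 < b p.2} = n * (n - 1) / 2 := by
    have e2 : {p : Fin n × Fin n // b p.1 < b p.2} ≃ Σ i : Fin n, Fin i :=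
      { toFun := fun p => ⟨p.1.1, ⟨p.1.2, Fin.rev_lt_rev.mp p.2⟩⟩
        invFun := fun s => ⟨(s.1, ⟨s.2, lt_trans s.2.2 s.1.2⟩), Fin.rev_lt_rev.mpr s.2.2⟩
        left_inv := fun p => rfl
        right_inv := fun s => rfl }
    rw [Nat.card_congr e2, Nat.card_eq_fintype_card, Fintype.card_sigma]
    simp only [Fintype.card_fin]
    rw [Fin.sum_univ_eq_sum_range (fun i => i) n, Finset.sum_range_id]
  rw [Finset.prod_congr rfl (fun k _ => h1 k), Finset.prod_const, Finset.card_univ, Fintype.card_fin,
    h2, Nat.card_eq_fintype_card, hF, mul_comm]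

end Cfsg.Agent.S0769
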