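import Cfsg.Statements.S0770

set_option autoImplicit false
open Cfsg

namespace Cfsg.Agent.S0770

/-- For a field with at least 3 elements, an invertible matrix normalises the subgroup of invertible diagonal matrices of GL_n if and only if it is monomial (exactly one non-zero entry in each row). -/
theorem result {F : Type*} [Field F] (hF : ∃ a : F, a ≠ 0 ∧ a ≠ 1) (n : ℕ) (g : Matrix.GeneralLinearGroup (Fin n) F) : g ∈ Subgroup.normalizer ((Units.map (Matrix.diagonalRingHom (Fin n) F).toMonoidHom).range : Subgroup (Matrix.GeneralLinearGroup (Fin n) F)) ↔ ∀ i : Fin n, ∃! j : Fin n, (g : Matrix (Fin n) (Fin n) F) i j ≠ 0 := by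
  classical
  set D : Subgroup (GL (Fin n) F) :=
    (Units.map (Matrix.diagonalRingHom (Fin n) F).toMonoidHom).range with hD
  have hmemD : ∀ h : GL (Fin n) F, h ∈ D ↔ ∀ i j, i ≠ j → (h : Matrix (Fin n) (Fin n) F) i j = 0 := by
    intro h
    constructor
    · rintro ⟨d, rfl⟩ i j hij
      simp [hij]
    · intro hoff
      have hdiag : (h : Matrix (Fin n) (Fin n) F) = Matrix.diagonal (fun i => h.1 i i) := by
        ext i j
        by_cases hij : i = j
        · subst hij; simp
        · simp [hij, hoff i j hij]
      have hne : ∀ i, h.1 i i ≠ 0 := fun i h0 => by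
        have := (Matrix.GeneralLinearGroup.det h).ne_zero
        apply this
        rw [Matrix.GeneralLinearGroup.val_det_apply, hdiag, Matrix.det_diagonal]
        exact Finset.prod_eq_zero (Finset.mem_univ i) h0
      refine ⟨MulEquiv.piUnits.symm (fun i => Units.mk0 _ (hne i)), Units.ext ?_⟩
      conv_rhs => rw [hdiag]
      simp
  obtain ⟨a, ha0, ha1⟩ := hF
  constructor
  · intro hg i
    have hex : ∃ j, g.1 i j ≠ 0 := by
      by_contra h
      push Not at h
      exact (Matrix.GeneralLinearGroup.det g).ne_zero (Matrix.det_eq_zero_of_row_eq_zero i h)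
    obtain ⟨j, hj⟩ := hex
    refine ⟨j, hj, fun l hl => ?_⟩
    by_contra hlj
    -- conjugate a diagonal matrix which separates the columns `j` and `l`
    let d : (Fin n → F)ˣ := MulEquiv.piUnits.symm
      fun r => if r = j then Units.mk0 a ha0 else 1
    let t : GL (Fin n) F := Units.map (Matrix.diagonalRingHom (Fin n) F).toMonoidHom d
    have ht : g * t * g⁻¹ ∈ D := (Subgroup.mem_normalizer_iff.mp hg t).mp ⟨d, rfl⟩
    have heq : (g * t * g⁻¹ : GL (Fin n) F).1 * g.1 = g.1 * t.1 := by
      rw [← Units.val_mul, ← Units.val_mul, inv_mul_cancel_right]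
    have hval : ∀ r, g.1 i r * (if r = j then a else 1) = (g * t * g⁻¹ : GL (Fin n) F).1 i i * g.1 i r := by
      intro r
      have h := congrFun (congrFun heq i) r
      rw [Matrix.mul_apply, Finset.sum_eq_single i (fun b _ hb => by
        rw [(hmemD _).mp ht i b (Ne.symm hb), zero_mul]) (by simp)] at h
      rw [h]
      simp [t, d, Matrix.mul_diagonal]
      split_ifs <;> simp
    have h1 := hval j
    have h2 := hval l
    rw [if_pos rfl] at h1
    rw [if_neg hlj] at h2
    have e1 : (g * t * g⁻¹ : GL (Fin n) F).1 i i = a := by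
      apply mul_right_cancel₀ hj
      linear_combination -h1
    rw [e1] at h2
    exact ha1 (mul_right_cancel₀ hl (by linear_combination -h2))
  · intro hmono
    choose p hp hpu using hmono
    have hzero : ∀ i r, r ≠ p i → g.1 i r = 0 := fun i r hr => by_contra fun h => hr (hpu i r h)
    have hpinj : Function.Injective p := by
      intro i i' hii
      by_contra hne
      apply (Matrix.GeneralLinearGroup.det g).ne_zero
      rw [Matrix.GeneralLinearGroup.val_det_apply]
      -- a row operation makes the row `i` vanish
      rw [← Matrix.det_updateRow_add_smul_self _ hne (-(g.1 i (p i) / g.1 i' (p i')))]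
      refine Matrix.det_eq_zero_of_row_eq_zero i fun r => ?_
      simp only [Matrix.updateRow_self, Pi.add_apply, Pi.smul_apply, smul_eq_mul]
      by_cases hr : r = p i
      · subst hr
        rw [hii]
        field_simp [hp i']
        ring
      · rw [hzero i r hr, hzero i' r (hii ▸ hr)]
        ring
    rw [Subgroup.mem_normalizer_iff]
    intro h
    have key : ∀ t : GL (Fin n) F, ∀ i k, (g * t * g⁻¹ : GL (Fin n) F).1 i k =
        g.1 i (p i) * ∑ r, t.1 (p i) r * (g⁻¹ : GL (Fin n) F).1 r k := by
      intro t i k
      rw [mul_assoc, Units.val_mul, Units.val_mul, Matrix.mul_apply,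
        Finset.sum_eq_single (p i) (fun b _ hb => by rw [hzero i b hb, zero_mul]) (by simp),
        Matrix.mul_apply]
    have hinv : ∀ i k, i ≠ k → (g⁻¹ : GL (Fin n) F).1 (p i) k = 0 := by
      intro i k hik
      have h1 : (g.1 * (g⁻¹ : GL (Fin n) F).1) i k = 0 := by
        rw [← Units.val_mul, mul_inv_cancel, Units.val_one, Matrix.one_apply_ne hik]
      rw [Matrix.mul_apply,
        Finset.sum_eq_single (p i) (fun b _ hb => by rw [hzero i b hb, zero_mul]) (by simp)] at h1
      exact (mul_eq_zero.mp h1).resolve_left (hp i)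
    have hinvself : ∀ i, (g⁻¹ : GL (Fin n) F).1 (p i) i ≠ 0 := by
      intro i h0
      apply (Matrix.GeneralLinearGroup.det g⁻¹).ne_zero
      refine Matrix.det_eq_zero_of_row_eq_zero (p i) fun k => ?_
      by_cases hik : i = k
      · subst hik; exact h0
      · exact hinv i k hik
    constructor
    · intro hh
      rw [hmemD] at hh ⊢
      intro i k hik
      rw [key, Finset.sum_eq_single (p i) (fun r _ hr => by rw [hh _ _ (Ne.symm hr), zero_mul])
        (by simp), hinv i k hik]
      ring
    · intro hh
      rw [hmemD] at hh ⊢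
      intro r s hrs
      obtain ⟨i, rfl⟩ := Finite.injective_iff_surjective.mp hpinj r
      obtain ⟨k, rfl⟩ := Finite.injective_iff_surjective.mp hpinj s
      have h1 := hh i k (fun e => hrs (by rw [e]))
      rw [key, Finset.sum_eq_single (p k) (fun r _ hr => by
        obtain ⟨l, rfl⟩ := Finite.injective_iff_surjective.mp hpinj r
        rw [hinv l k (fun e => hr (by rw [e])), mul_zero]) (by simp)] at h1
      exact (mul_eq_zero.mp ((mul_eq_zero.mp h1).resolve_left (hp i))).resolve_right (hinvself k)

end Cfsg.Agent.S0770
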