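import Cfsg.Statements.S0772
import Cfsg.Agent.Lib.CoordSub.Basic
import Cfsg.Agent.Lib.Linear.Transvection

set_option autoImplicit false
open Cfsg

namespace Cfsg.Agent.S0772

/-- Maximal parabolics are maximal: over a finite field, for 0 < k < n the stabiliser in GL_n of the span of the first k coordinate vectors is a maximal proper subgroup. -/
theorem result {F : Type*} [Field F] [Finite F] (n k : ℕ) (hk0 : 0 < k) (hkn : k < n) : IsCoatom (Cfsg.stabilizing (Cfsg.glToMat (Fin n) F) {v : Fin n → F | ∀ i : Fin n, k ≤ (i : ℕ) → v i = 0}) := by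
  classical
  set P := Cfsg.stabilizing (Cfsg.glToMat (Fin n) F)
    {v : Fin n → F | ∀ i : Fin n, k ≤ (i : ℕ) → v i = 0} with hP
  let i₀ : Fin n := ⟨0, by omega⟩
  let il : Fin n := ⟨k, hkn⟩
  constructor
  · intro htop
    have h : CfsgLib.CoordSub.tv (Pi.single il (1 : F)) (Pi.single i₀ 1)
        (by
          have hne : i₀ ≠ il := fun e => by simp [i₀, il, Fin.ext_iff] at e; omega
          simp [hne, hne.symm]) ∈ P := by rw [htop]; trivial
    rw [hP, CfsgLib.CoordSub.mem_stab_iff] at h
    have h' := h il i₀ le_rfl (by simpa [i₀] using hk0)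
    rw [CfsgLib.CoordSub.tv_entry _ _ _ (by simp [i₀, il, Fin.ext_iff]; omega)] at h'
    simp at h'
  intro H hlt
  obtain ⟨g, hgH, hgP⟩ := SetLike.exists_of_lt hlt
  -- a vector `x` of the moved subspace outside the subspace, all transvections at `x` lie in `H`
  obtain ⟨i, j, hi, hj, hij⟩ : ∃ i j : Fin n, k ≤ (i : ℕ) ∧ (j : ℕ) < k ∧
      (g : Matrix (Fin n) (Fin n) F) i j ≠ 0 := by
    rw [hP, CfsgLib.CoordSub.mem_stab_iff] at hgP
    push Not at hgP
    exact hgP
  set x : Fin n → F := (g : Matrix (Fin n) (Fin n) F).mulVec (Pi.single j 1) with hx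
  have hxi : x i ≠ 0 := by simpa [hx] using hij
  have hsub : ∀ (φ : Fin n → F) (h : φ ⬝ᵥ x = 0), CfsgLib.CoordSub.tv x φ h ∈ H := by
    intro φ h
    have hψ : Matrix.vecMul φ (g : Matrix (Fin n) (Fin n) F) ⬝ᵥ Pi.single j 1 = 0 := by
      rw [← Matrix.dotProduct_mulVec]; exact h
    have hmem := hlt.le (CfsgLib.CoordSub.tv_mem_stab k (Pi.single j 1) _ hψ (Or.inl fun l hl => by
      have : l ≠ j := fun e => by subst e; omega
      simp [this]))
    have heq : g * CfsgLib.CoordSub.tv (Pi.single j 1) _ hψ * g⁻¹ = CfsgLib.CoordSub.tv x φ h := by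
      apply Units.ext
      rw [CfsgLib.CoordSub.conj_tv, Matrix.vecMul_vecMul, ← Units.val_mul, mul_inv_cancel,
        Units.val_one, Matrix.vecMul_one]
      rfl
    rw [← heq]
    exact mul_mem (mul_mem hgH hmem) (inv_mem hgH)
  -- so every elementary transvection lies in `H`
  have helem : ∀ (a b : Fin n) (hab : a ≠ b) (c : F),
      CfsgLib.CoordSub.tv (c • Pi.single a 1) (Pi.single b 1) (by simp [hab.symm]) ∈ H := by
    intro a b hab c
    by_cases ha : (a : ℕ) < k
    · refine hlt.le (CfsgLib.CoordSub.tv_mem_stab k _ _ _ (Or.inl fun l hl => ?_))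
      have : l ≠ a := fun e => by subst e; omega
      simp [this]
    by_cases hb : k ≤ (b : ℕ)
    · refine hlt.le (CfsgLib.CoordSub.tv_mem_stab k _ _ _ (Or.inr fun l hl => ?_))
      have : l ≠ b := fun e => by subst e; omega
      simp [this]
    push Not at ha hb
    -- an element of the stabiliser moving `x` to the basis vector at `a`
    set e : Fin n → F := Pi.single a 1 with he
    obtain ⟨p, hp, hpx⟩ : ∃ p ∈ H, (p : Matrix (Fin n) (Fin n) F).mulVec x = e := by
      -- first make the coordinate at `a` non-zero, then clear the others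
      obtain ⟨p₁, hp₁, hpa⟩ : ∃ p ∈ H, (p : Matrix (Fin n) (Fin n) F).mulVec x a ≠ 0 := by
        by_cases hxa : x a = 0
        · have hai : a ≠ i := fun h => hxi (h ▸ hxa)
          refine ⟨CfsgLib.CoordSub.tv (Pi.single a 1) (Pi.single i 1) (by simp [hai.symm]),
            hlt.le (CfsgLib.CoordSub.tv_mem_stab k _ _ _ (Or.inr fun l hl => ?_)), ?_⟩
          · have : l ≠ i := fun e => by subst e; omega
            simp [this]
          · rw [CfsgLib.CoordSub.tv_mulVec]; simp [hxa, hxi]
        · exact ⟨1, one_mem H, by simpa using hxa⟩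
      set y := (p₁ : Matrix (Fin n) (Fin n) F).mulVec x with hy
      -- remove the part away from `a`
      set w := y - y a • e with hw
      have hwa : Pi.single a (-(y a)⁻¹) ⬝ᵥ w = 0 := by
        simp [hw, he]
        ring
      have hstep := CfsgLib.CoordSub.tv_mem_stab k w (Pi.single a (-(y a)⁻¹)) hwa (Or.inr fun l hl => by
        have : l ≠ a := fun e => by subst e; omega
        simp [this])
      -- scale
      let d : GL (Fin n) F := Matrix.GeneralLinearGroup.mkOfDetNeZero
        (Matrix.diagonal fun l => if l = a then (y a)⁻¹ else 1) (by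
          rw [Matrix.det_diagonal]
          exact Finset.prod_ne_zero_iff.mpr fun l _ => by split_ifs <;> simp [hpa])
      have hd : d ∈ P := by
        rw [hP, CfsgLib.CoordSub.mem_stab_iff]
        intro r s hr hs
        have : r ≠ s := fun e => by subst e; omega
        show Matrix.diagonal (fun l => if l = a then (y a)⁻¹ else 1) r s = 0
        simp [this]
      refine ⟨d * CfsgLib.CoordSub.tv w _ hwa * p₁, mul_mem (mul_mem (hlt.le hd) (hlt.le hstep)) hp₁, ?_⟩
      rw [Units.val_mul, Units.val_mul, ← Matrix.mulVec_mulVec, ← Matrix.mulVec_mulVec, ← hy,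
        CfsgLib.CoordSub.tv_mulVec]
      funext l
      rw [Matrix.mulVec]
      show (Matrix.diagonal (fun l => if l = a then (y a)⁻¹ else 1) l) ⬝ᵥ _ = e l
      rw [diagonal_dotProduct]
      by_cases hla : l = a
      · subst hla; simp [hw, he, hpa]
      · simp [hla, hw, he, hpa]
    have hφ : Matrix.vecMul (c • Pi.single b 1) (p : Matrix (Fin n) (Fin n) F) ⬝ᵥ x = 0 := by
      rw [← Matrix.dotProduct_mulVec, hpx, he]; simp [hab.symm]
    have heq : p * CfsgLib.CoordSub.tv x _ hφ * p⁻¹ =
        CfsgLib.CoordSub.tv (c • Pi.single a 1) (Pi.single b 1) (by simp [hab.symm]) := by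
      apply Units.ext
      rw [CfsgLib.CoordSub.conj_tv, hpx, Matrix.vecMul_vecMul, ← Units.val_mul, mul_inv_cancel,
        Units.val_one, Matrix.vecMul_one]
      show 1 + Matrix.vecMulVec _ _ = 1 + Matrix.vecMulVec _ _
      rw [he, Matrix.vecMulVec_smul, Matrix.smul_vecMulVec]
    rw [← heq]
    exact mul_mem (mul_mem hp (hsub _ hφ)) (inv_mem hp)
  have hSL : ∀ A : Matrix.SpecialLinearGroup (Fin n) F, Matrix.SpecialLinearGroup.toGL A ∈ H := by
    intro A
    have hK := CfsgLib.Linear.SL_eq_top_of_transvection_mem (H.comap Matrix.SpecialLinearGroup.toGL)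
      (fun a b hab c => by
        rw [Subgroup.mem_comap]
        convert helem a b hab c using 1
        apply Units.ext
        show Matrix.transvection a b c = 1 + Matrix.vecMulVec (c • Pi.single a 1) (Pi.single b 1)
        ext r s
        rw [Matrix.transvection, Matrix.add_apply, Matrix.add_apply, Matrix.vecMulVec_apply]
        congr 1
        by_cases hr : r = a
        · subst hr
          by_cases hs : s = b
          · subst hs; simp [Matrix.single]
          · simp [Matrix.single, hs, Ne.symm hs]
        · simp [Matrix.single, hr, Ne.symm hr])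
    exact (hK ▸ Subgroup.mem_top A : A ∈ H.comap Matrix.SpecialLinearGroup.toGL)
  rw [eq_top_iff]
  intro z _
  let δ : Fin n → F := fun l => if l = i₀ then (z : Matrix (Fin n) (Fin n) F).det else 1
  have hδ : (Matrix.diagonal δ).det = (z : Matrix (Fin n) (Fin n) F).det := by
    rw [Matrix.det_diagonal, Finset.prod_eq_single i₀ (fun l _ hl => by simp [δ, hl]) (by simp)]
    simp [δ]
  let d : GL (Fin n) F := Matrix.GeneralLinearGroup.mkOfDetNeZero (Matrix.diagonal δ) (by
    rw [hδ]; exact (Matrix.GeneralLinearGroup.det z).ne_zero)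
  have hd : d ∈ P := by
    rw [hP, CfsgLib.CoordSub.mem_stab_iff]
    intro r s hr hs
    have : r ≠ s := fun e => by subst e; omega
    show Matrix.diagonal δ r s = 0
    simp [this]
  have hA : ((z * d⁻¹ : GL (Fin n) F) : Matrix (Fin n) (Fin n) F).det = 1 := by
    have h1 : Matrix.GeneralLinearGroup.det d = Matrix.GeneralLinearGroup.det z := Units.ext hδ
    have h2 : Matrix.GeneralLinearGroup.det (z * d⁻¹) = 1 := by
      rw [map_mul, map_inv, h1, mul_inv_cancel]
    simpa using congrArg Units.val h2
  have hmem := mul_mem (hSL ⟨_, hA⟩) (hlt.le hd)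
  convert hmem using 1
  rw [show Matrix.SpecialLinearGroup.toGL (⟨_, hA⟩ : Matrix.SpecialLinearGroup (Fin n) F) = z * d⁻¹
    from Units.ext rfl]
  group

end Cfsg.Agent.S0772
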