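import Cfsg.Statements.S0773
import Cfsg.Agent.Lib.CoordSub.Basic

set_option autoImplicit false
open Cfsg

namespace Cfsg.Agent.S0773

/-- The stabilisers in GL_n(F), F finite, of the coordinate subspaces of dimensions k and n − k are isomorphic groups, but when 2k ≠ n (and 0 < k < n) no element of GL_n conjugates one onto the other. -/
theorem result {F : Type*} [Field F] [Finite F] (n k : ℕ) (hk0 : 0 < k) (hkn : k < n) (h2 : 2 * k ≠ n) : Nonempty (↥(Cfsg.stabilizing (Cfsg.glToMat (Fin n) F) {v : Fin n → F | ∀ i : Fin n, k ≤ (i : ℕ) → v i = 0}) ≃* ↥(Cfsg.stabilizing (Cfsg.glToMat (Fin n) F) {v : Fin n → F | ∀ i : Fin n, n - k ≤ (i : ℕ) → v i = 0})) ∧ ∀ g : Matrix.GeneralLinearGroup (Fin n) F, (Cfsg.stabilizing (Cfsg.glToMat (Fin n) F) {v : Fin n → F | ∀ i : Fin n, k ≤ (i : ℕ) → v i = 0}).map (MulAut.conj g).toMonoidHom ≠ Cfsg.stabilizing (Cfsg.glToMat (Fin n) F) {v : Fin n → F | ∀ i : Fin n, n - k ≤ (i : ℕ) → v i = 0} := by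
  classical
  have hrev : ∀ (A : Matrix (Fin n) (Fin n) F) (i j : Fin n),
      A.transpose.submatrix Fin.rev Fin.rev i j = A (Fin.rev j) (Fin.rev i) := fun A i j => rfl
  refine ⟨?_, ?_⟩
  · -- inverse transpose composed with reversal of the coordinates
    let θ : GL (Fin n) F ≃* GL (Fin n) F :=
      { toFun := fun g => ⟨(g⁻¹ : GL (Fin n) F).1.transpose.submatrix Fin.rev Fin.rev,
          g.1.transpose.submatrix Fin.rev Fin.rev, by
            rw [← Matrix.submatrix_mul _ _ _ _ _ Fin.rev_bijective, ← Matrix.transpose_mul,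
              ← Units.val_mul, mul_inv_cancel]
            simp [Matrix.submatrix_one _ Fin.rev_injective], by
            rw [← Matrix.submatrix_mul _ _ _ _ _ Fin.rev_bijective, ← Matrix.transpose_mul,
              ← Units.val_mul, inv_mul_cancel]
            simp [Matrix.submatrix_one _ Fin.rev_injective]⟩
        invFun := fun g => ⟨(g⁻¹ : GL (Fin n) F).1.transpose.submatrix Fin.rev Fin.rev,
          g.1.transpose.submatrix Fin.rev Fin.rev, by
            rw [← Matrix.submatrix_mul _ _ _ _ _ Fin.rev_bijective, ← Matrix.transpose_mul,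
              ← Units.val_mul, mul_inv_cancel]
            simp [Matrix.submatrix_one _ Fin.rev_injective], by
            rw [← Matrix.submatrix_mul _ _ _ _ _ Fin.rev_bijective, ← Matrix.transpose_mul,
              ← Units.val_mul, inv_mul_cancel]
            simp [Matrix.submatrix_one _ Fin.rev_injective]⟩
        left_inv := fun g => Units.ext (by ext i j; simp)
        right_inv := fun g => Units.ext (by ext i j; simp)
        map_mul' := fun g h => Units.ext (by
          show ((g * h)⁻¹ : GL (Fin n) F).1.transpose.submatrix Fin.rev Fin.rev = _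
          rw [mul_inv_rev, Units.val_mul, Matrix.transpose_mul,
            Matrix.submatrix_mul _ _ _ _ _ Fin.rev_bijective]
          rfl) }
    have hmap : (Cfsg.stabilizing (Cfsg.glToMat (Fin n) F)
          {v : Fin n → F | ∀ i : Fin n, k ≤ (i : ℕ) → v i = 0}).map θ.toMonoidHom =
        Cfsg.stabilizing (Cfsg.glToMat (Fin n) F)
          {v : Fin n → F | ∀ i : Fin n, n - k ≤ (i : ℕ) → v i = 0} := by
      have hθ : ∀ g, θ g ∈ Cfsg.stabilizing (Cfsg.glToMat (Fin n) F)
          {v : Fin n → F | ∀ i : Fin n, n - k ≤ (i : ℕ) → v i = 0} ↔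
          g ∈ Cfsg.stabilizing (Cfsg.glToMat (Fin n) F)
          {v : Fin n → F | ∀ i : Fin n, k ≤ (i : ℕ) → v i = 0} := by
        intro g
        rw [CfsgLib.CoordSub.mem_stab_iff, ← inv_mem_iff (x := g), CfsgLib.CoordSub.mem_stab_iff]
        constructor
        · intro h i j hi hj
          have := h (Fin.rev j) (Fin.rev i) (by rw [Fin.val_rev]; omega) (by rw [Fin.val_rev]; omega)
          simpa [θ] using this
        · intro h i j hi hj
          have := h (Fin.rev j) (Fin.rev i) (by rw [Fin.val_rev]; omega) (by rw [Fin.val_rev]; omega)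
          simpa [θ] using this
      ext g
      constructor
      · rintro ⟨x, hx, rfl⟩
        exact (hθ x).mpr hx
      · intro hg
        exact ⟨θ.symm g, (hθ _).mp (by simpa using hg), by simp⟩
    exact ⟨(Subgroup.equivMapOfInjective _ θ.toMonoidHom θ.injective).trans
      (MulEquiv.subgroupCongr hmap)⟩
  · intro g hg
    set U : Submodule F (Fin n → F) :=
      (CfsgLib.CoordSub.coordSub F n k).map (Matrix.toLin' g.1) with hU
    have hinj : Function.Injective (Matrix.toLin' g.1) :=
      Function.LeftInverse.injective (g := Matrix.toLin' (g⁻¹ : GL (Fin n) F).1) fun v => by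
        simp [Matrix.mulVec_mulVec]
    have hdim : ∀ l, l ≤ n → Module.finrank F (CfsgLib.CoordSub.coordSub F n l) = l := by
      intro l hl
      let e : (Fin l → F) ≃ₗ[F] CfsgLib.CoordSub.coordSub F n l :=
        { toFun := fun x => ⟨fun i => if h : (i : ℕ) < l then x ⟨i, h⟩ else 0,
            fun i hi => by simp [not_lt.mpr hi]⟩
          invFun := fun v i => v.1 (Fin.castLE hl i)
          map_add' := fun x y => Subtype.ext (funext fun i => by
            by_cases h : (i : ℕ) < l <;> simp [h])
          map_smul' := fun c x => Subtype.ext (funext fun i => by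
            by_cases h : (i : ℕ) < l <;> simp [h])
          left_inv := fun x => funext fun i => by simp
          right_inv := fun v => Subtype.ext (funext fun i => by
            by_cases h : (i : ℕ) < l
            · simp [h]
            · simp [h, v.2 i (not_lt.mp h)]) }
      rw [← e.finrank_eq, Module.finrank_fin_fun]
    have hUdim : Module.finrank F U = k := by
      rw [hU]
      exact (Submodule.equivMapOfInjective _ hinj _).finrank_eq.symm.trans (hdim k hkn.le)
    have hinv := CfsgLib.CoordSub.invariant_subspace (n - k) U (fun h hh v hv => by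
      rw [← hg] at hh
      obtain ⟨h₀, hh₀, rfl⟩ := hh
      obtain ⟨w, hw, rfl⟩ := hv
      refine ⟨h₀.1.mulVec w, (hh₀ w).mp hw, ?_⟩
      simp [Matrix.mulVec_mulVec, mul_assoc])
    rcases hinv with h | h | h
    · rw [h, finrank_bot] at hUdim; omega
    · rw [h, hdim (n - k) (by omega)] at hUdim; omega
    · rw [h, finrank_top, Module.finrank_fin_fun] at hUdim; omega

end Cfsg.Agent.S0773
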