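import Cfsg.Statements.S0774
import Cfsg.Agent.Lib.SympGeom.Basic

set_option autoImplicit false
open Cfsg

namespace Cfsg.Agent.S0774

/-- Borel subgroup of the symplectic group: the elements of Sp_2m(q) stabilising each of the totally isotropic coordinate subspaces ⟨e_0, ..., e_k⟩ (k < m) form a subgroup of order q^(m²) (q − 1)^m. -/
theorem result {F : Type*} [Field F] [Fintype F] {q : ℕ} (hF : Fintype.card F = q) (m : ℕ) : Nat.card ↥(⨅ k : Fin m, Cfsg.stabilizing (Cfsg.spToMat m F) {v : Fin m ⊕ Fin m → F | (∀ i : Fin m, (k : ℕ) < (i : ℕ) → v (Sum.inl i) = 0) ∧ ∀ i : Fin m, v (Sum.inr i) = 0}) = q ^ (m ^ 2) * (q - 1) ^ m := by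
  classical
  let S : Fin m → Submodule F (Fin m ⊕ Fin m → F) := fun k =>
    { carrier := {v | (∀ i : Fin m, (k : ℕ) < (i : ℕ) → v (Sum.inl i) = 0) ∧ ∀ i : Fin m, v (Sum.inr i) = 0}
      zero_mem' := by simp
      add_mem' := fun {a b} ha hb =>
        ⟨fun i hi => by simp [ha.1 i hi, hb.1 i hi], fun i => by simp [ha.2 i, hb.2 i]⟩
      smul_mem' := fun c v hv => ⟨fun i hi => by simp [hv.1 i hi], fun i => by simp [hv.2 i]⟩ }
  show Nat.card ↥(⨅ k : Fin m, Cfsg.stabilizing (Cfsg.spToMat m F) (S k : Set (Fin m ⊕ Fin m → F))) = _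
  set H := ⨅ k : Fin m, Cfsg.stabilizing (Cfsg.spToMat m F) (S k : Set (Fin m ⊕ Fin m → F)) with hH
  let t : CfsgLib.SympGeom.IsoTuple m F m := CfsgLib.SympGeom.stdTuple le_rfl
  have ht : ∀ i, t.1 i = Pi.single (Sum.inl i) 1 := fun i => rfl
  have htS : ∀ i k : Fin m, (i : ℕ) ≤ (k : ℕ) → t.1 i ∈ S k := fun i k hik => by
    refine ⟨fun l hl => ?_, fun l => ?_⟩
    · have : l ≠ i := fun e => by subst e; omega
      simp [ht, this]
    · simp [ht]
  have hexp : ∀ k (v : Fin m ⊕ Fin m → F), v ∈ S k → v = ∑ i, v (Sum.inl i) • t.1 i := by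
    intro k v hv
    funext x
    rcases x with x | x
    · simp [ht, Pi.single_apply]
    · simp [ht, hv.2 x]
  have hlin : ∀ (g : Matrix.symplecticGroup (Fin m) F) k (v : Fin m ⊕ Fin m → F), v ∈ S k →
      g.1.mulVec v = ∑ i, v (Sum.inl i) • g.1.mulVec (t.1 i) := by
    intro g k v hv
    conv_lhs => rw [hexp k v hv]
    simp [Matrix.mulVec_sum, Matrix.mulVec_smul]
  have hmemH : ∀ g : Matrix.symplecticGroup (Fin m) F, g ∈ H ↔ ∀ j, g.1.mulVec (t.1 j) ∈ S j := by
    intro g
    constructor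
    · intro hg j
      exact ((Subgroup.mem_iInf.mp hg j) (t.1 j)).mp (htS j j le_rfl)
    · intro h
      refine Subgroup.mem_iInf.mpr fun k => CfsgLib.SympGeom.stab_image_self (S k) fun v hv => ?_
      rw [hlin g k v hv]
      refine Submodule.sum_mem _ fun i _ => ?_
      by_cases hik : (k : ℕ) < (i : ℕ)
      · simp [hv.1 i hik]
      · exact Submodule.smul_mem _ _
          ⟨fun l hl => (h i).1 l (by omega), (h i).2⟩
  have hle : CfsgLib.SympGeom.tupleFixer t.1 ≤ H := fun g hg => (hmemH g).mpr fun j => by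
    rw [CfsgLib.SympGeom.mem_tupleFixer.mp hg j]; exact htS j j le_rfl
  rw [CfsgLib.SympGeom.card_of_fixer_le t.1 H hle, CfsgLib.SympGeom.card_tupleFixer le_rfl t]
  -- the orbit
  have horbit : Nat.card (MulAction.orbit H t.1) = Nat.card (∀ j : Fin m, Fˣ × (Fin (j : ℕ) → F)) := by
    have hin : ∀ x : MulAction.orbit H t.1, ∀ j, x.1 j ∈ S j ∧ x.1 j (Sum.inl j) ≠ 0 := by
      rintro ⟨x, g, rfl⟩ j
      refine ⟨(hmemH g.1).mp g.2 j, fun h0 => ?_⟩
      have hinv := (hmemH g.1⁻¹).mp (inv_mem g.2)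
      have hx : (g.1 : Matrix.symplecticGroup (Fin m) F).1.mulVec (t.1 j) ∈ S j := (hmemH g.1).mp g.2 j
      have h1 := hlin g.1⁻¹ j _ hx
      rw [Matrix.mulVec_mulVec, ← Submonoid.coe_mul, inv_mul_cancel, OneMemClass.coe_one,
        Matrix.one_mulVec] at h1
      have h2 := congrFun h1 (Sum.inl j)
      rw [Finset.sum_apply, Finset.sum_eq_zero (fun i _ => ?_), ht] at h2
      · simp at h2
      · rcases lt_trichotomy (i : ℕ) (j : ℕ) with hl | hl | hl
        · simp [(hinv i).1 j hl]
        · rw [Fin.val_injective hl]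
          have h0' : (g.1 : Matrix.symplecticGroup (Fin m) F).1.mulVec (t.1 j) (Sum.inl j) = 0 := h0
          simp [h0']
        · simp [hx.1 i hl]
    let φ : MulAction.orbit H t.1 → ∀ j : Fin m, Fˣ × (Fin (j : ℕ) → F) := fun x j =>
      (Units.mk0 _ (hin x j).2, fun i => x.1 j (Sum.inl ⟨i, by omega⟩))
    refine Nat.card_congr (Equiv.ofBijective φ ⟨fun x y hxy => Subtype.ext (funext fun j => ?_), fun c => ?_⟩)
    · have h := congrFun hxy j
      have h1 : x.1 j (Sum.inl j) = y.1 j (Sum.inl j) := congrArg (fun p => ((p.1 : Fˣ) : F)) h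
      have h2 := congrArg Prod.snd h
      funext z
      rcases z with l | l
      · rcases lt_trichotomy (l : ℕ) (j : ℕ) with hl | hl | hl
        · exact congrFun h2 ⟨l, hl⟩
        · rw [Fin.val_injective hl]; exact h1
        · rw [(hin x j).1.1 l hl, (hin y j).1.1 l hl]
      · rw [(hin x j).1.2 l, (hin y j).1.2 l]
    · let u : Fin m → (Fin m ⊕ Fin m → F) := fun j => Sum.elim
        (fun i => if h : (i : ℕ) < (j : ℕ) then (c j).2 ⟨i, h⟩ else if i = j then ((c j).1 : F) else 0) 0
      have huS : ∀ j, u j ∈ S j := fun j => by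
        refine ⟨fun i hi => ?_, fun i => rfl⟩
        have h1 : ¬ (i : ℕ) < (j : ℕ) := by omega
        have h2 : i ≠ j := fun e => by subst e; omega
        simp only [u, Sum.elim_inl, dif_neg h1, if_neg h2]
      have hli : LinearIndependent F u := by
        let M : Matrix (Fin m) (Fin m) F := Matrix.of fun j i => u j (Sum.inl i)
        have htri : M.BlockTriangular OrderDual.toDual := fun j i hij => by
          have h1 : (j : ℕ) < (i : ℕ) := hij
          exact (huS j).1 i h1
        have hdet : M.det ≠ 0 := by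
          rw [Matrix.det_of_lowerTriangular M htri]
          exact Finset.prod_ne_zero_iff.mpr fun j _ => by simp [M, u]
        have hrow := Matrix.linearIndependent_rows_of_det_ne_zero hdet
        exact LinearIndependent.of_comp
          (LinearMap.funLeft F F (Sum.inl : Fin m → Fin m ⊕ Fin m)) hrow
      have hsupp : ∀ i k, sympForm m F (u i) (u k) = 0 := fun i k => by
        rw [CfsgLib.Linear.Symp.sympForm_eq_sum]
        simp [u]
      obtain ⟨A, hA⟩ := CfsgLib.SympGeom.exists_map_isoTuple t ⟨u, hli, hsupp⟩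
      have hAH : A ∈ H := (hmemH A).mpr fun j => by rw [hA j]; exact huS j
      refine ⟨⟨u, ⟨A, hAH⟩, funext hA⟩, funext fun j => Prod.ext (Units.ext ?_) (funext fun i => ?_)⟩
      · simp [φ, u]
      · simp only [φ, u, Sum.elim_inl]
        exact dif_pos i.2
  rw [horbit, Nat.card_pi]
  simp only [Nat.card_prod, Nat.card_units, Nat.card_fun, Nat.card_fin, Nat.card_eq_fintype_card, hF, Fintype.card_prod, Fintype.card_fun, Fintype.card_units, Fintype.card_fin,
    Nat.sub_self, Finset.range_zero, Finset.prod_empty, mul_zero, add_zero, mul_one]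
  rw [Finset.prod_mul_distrib, Finset.prod_const, Finset.card_univ, Fintype.card_fin,
    Finset.prod_pow_eq_pow_sum, Fin.sum_univ_eq_sum_range (fun i => i) m]
  have hexp2 : (∑ j ∈ Finset.range m, j) + m * (m + 1) / 2 = m ^ 2 := by
    have hA := Finset.sum_range_id_mul_two m
    have hB : m * (m + 1) / 2 * 2 = m * (m + 1) := Nat.div_mul_cancel (Nat.even_mul_succ_self m).two_dvd
    have hC : m * (m - 1) + m = m * m := by
      rcases m with _ | k
      · simp
      · simp [mul_add, add_mul]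
    nlinarith
  rw [← hexp2, pow_add]
  simp [mul_comm, mul_left_comm]

end Cfsg.Agent.S0774
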