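import Cfsg.Statements.S0776
import Cfsg.Agent.Lib.SympGeom.Basic

set_option autoImplicit false
open Cfsg

namespace Cfsg.Agent.S0776

/-- If W ≤ F^(2m) is a 2k-dimensional subspace on which the symplectic form is non-degenerate, then the stabiliser of W in Sp_2m(F) is isomorphic to Sp_2k(F) × Sp_(2m−2k)(F). -/
theorem result {F : Type*} [Field F] (m k : ℕ) (hk : k ≤ m) (W : Submodule F (Fin m ⊕ Fin m → F)) (hWk : Module.finrank F W = 2 * k) (hW : ∀ u ∈ W, (∀ v ∈ W, Cfsg.sympForm m F u v = 0) → u = 0) : Nonempty (↥(Cfsg.stabilizing (Cfsg.spToMat m F) (W : Set (Fin m ⊕ Fin m → F))) ≃* Matrix.symplecticGroup (Fin k) F × Matrix.symplecticGroup (Fin (m - k)) F) := by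
  classical
  obtain ⟨l, rfl⟩ : ∃ l, m = k + l := ⟨m - k, by omega⟩
  rw [Nat.add_sub_cancel_left]
  let e : (Fin k ⊕ Fin k) ⊕ (Fin l ⊕ Fin l) ≃ Fin (k + l) ⊕ Fin (k + l) :=
    (Equiv.sumSumSumComm _ _ _ _).trans (Equiv.sumCongr finSumFinEquiv finSumFinEquiv)
  -- the form splits
  have hsplit : ∀ u v : Fin (k + l) ⊕ Fin (k + l) → F, sympForm (k + l) F u v =
      sympForm k F (fun i => u (e (Sum.inl i))) (fun i => v (e (Sum.inl i))) +
        sympForm l F (fun i => u (e (Sum.inr i))) (fun i => v (e (Sum.inr i))) := by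
    intro u v
    rw [CfsgLib.Linear.Symp.sympForm_eq_sum, CfsgLib.Linear.Symp.sympForm_eq_sum,
      CfsgLib.Linear.Symp.sympForm_eq_sum, ← finSumFinEquiv.sum_comp, Fintype.sum_sum_type]
    rfl
  let W₀ : Submodule F (Fin (k + l) ⊕ Fin (k + l) → F) :=
    { carrier := {v | ∀ i : Fin l ⊕ Fin l, v (e (Sum.inr i)) = 0}
      zero_mem' := by simp
      add_mem' := fun {a b} ha hb i => by simp [ha i, hb i]
      smul_mem' := fun c v hv i => by simp [hv i] }
  -- step 1: `W` is a translate of `W₀`
  obtain ⟨A, hA⟩ : ∃ A : Matrix.symplecticGroup (Fin (k + l)) F,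
      (fun v => A.1.mulVec v) '' (W₀ : Set _) = (W : Set _) := by
    obtain ⟨m', k', b, hmk, hspan, h1, h2, h3, h4⟩ :=
      CfsgLib.Forms.exists_symplectic_family (CfsgLib.SympGeom.sympBilin (k + l) F)
        CfsgLib.SympGeom.sympBilin_alt (2 * k) W hWk
    have hbW : ∀ i, b i ∈ W := fun i => hspan ▸ Submodule.subset_span ⟨i, rfl⟩
    have hli : LinearIndependent F b := by
      rw [linearIndependent_iff_card_eq_finrank_span, Set.finrank, hspan, hWk]
      simp [← hmk]
    obtain rfl : k' = 0 := by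
      by_contra hk'
      exact hli.ne_zero (Sum.inr ⟨0, Nat.pos_of_ne_zero hk'⟩) (hW _ (hbW _) fun v hv => h4 _ v hv)
    obtain rfl : m' = k := by omega
    let π : (Fin (m' + l) ⊕ Fin (m' + l) → F) →ₗ[F] (Fin (m' + l) ⊕ Fin (m' + l) → F) :=
      { toFun := fun v => ∑ i, (v (e (Sum.inl (Sum.inr i))) • b (Sum.inl (Sum.inl i))
          + v (e (Sum.inl (Sum.inl i))) • b (Sum.inl (Sum.inr i)))
        map_add' := fun u v => by
          rw [← Finset.sum_add_distrib]
          exact Finset.sum_congr rfl fun i _ => by simp [add_smul]; abel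
        map_smul' := fun c v => by
          simp [Finset.smul_sum, smul_smul] }
    have hcoef : ∀ v j, sympForm (m' + l) F (π v) (b (Sum.inl (Sum.inr j))) = v (e (Sum.inl (Sum.inr j))) ∧
        sympForm (m' + l) F (b (Sum.inl (Sum.inl j))) (π v) = v (e (Sum.inl (Sum.inl j))) := by
      intro v j
      constructor
      · rw [← CfsgLib.SympGeom.sympBilin_apply]
        simp [π, map_sum, LinearMap.sum_apply, -CfsgLib.SympGeom.sympBilin_apply, h1, h3]
      · rw [← CfsgLib.SympGeom.sympBilin_apply]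
        simp [π, map_sum, -CfsgLib.SympGeom.sympBilin_apply, h1, h2]
    have hform : ∀ u v, sympForm (m' + l) F (π u) (π v) =
        sympForm m' F (fun i => u (e (Sum.inl i))) (fun i => v (e (Sum.inl i))) := by
      intro u v
      have h21 : ∀ i j, CfsgLib.SympGeom.sympBilin (m' + l) F (b (Sum.inl (Sum.inr i))) (b (Sum.inl (Sum.inl j))) =
          - (if i = j then 1 else 0) := fun i j => by
        rw [← LinearMap.IsAlt.neg (CfsgLib.SympGeom.sympBilin_alt (F := F) (m := m' + l)), h1]; simp [eq_comm]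
      rw [← CfsgLib.SympGeom.sympBilin_apply, CfsgLib.Linear.Symp.sympForm_eq_sum]
      simp only [π, LinearMap.coe_mk, AddHom.coe_mk, map_sum, map_add, map_smul, LinearMap.sum_apply,
        LinearMap.add_apply, LinearMap.smul_apply, smul_eq_mul, h1, h2, h3, h21]
      simp [Finset.sum_add_distrib, Finset.sum_sub_distrib, Finset.sum_ite_eq', mul_comm]
      ring
    obtain ⟨A, hA⟩ := CfsgLib.SympGeom.exists_extend W₀ π
      (fun x hx y hy => by
        rw [hform, hsplit x y, show (fun i => x (e (Sum.inr i))) = 0 from funext hx,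
          CfsgLib.Linear.Symp.form_zero_left, add_zero])
      (fun x hx h0 => by
        funext z
        obtain ⟨(( i | i) | i), rfl⟩ := e.surjective z
        · rw [← (hcoef x i).2, h0, CfsgLib.Linear.Symp.form_zero_right]; rfl
        · rw [← (hcoef x i).1, h0, CfsgLib.Linear.Symp.form_zero_left]; rfl
        · exact hx i)
    refine ⟨A, Set.Subset.antisymm ?_ ?_⟩
    · rintro _ ⟨v, hv, rfl⟩
      show A.1.mulVec v ∈ W
      rw [hA v hv]
      simp only [π, LinearMap.coe_mk, AddHom.coe_mk]
      exact Submodule.sum_mem _ fun i _ =>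
        Submodule.add_mem _ (Submodule.smul_mem _ _ (hbW _)) (Submodule.smul_mem _ _ (hbW _))
    · intro w hw
      have hw' := hw
      rw [← hspan, SetLike.mem_coe, Submodule.mem_span_range_iff_exists_fun] at hw'
      obtain ⟨c, rfl⟩ := hw'
      refine ⟨fun z => Sum.elim (Sum.elim (fun i => c (Sum.inl (Sum.inr i))) (fun i => c (Sum.inl (Sum.inl i))))
        (fun _ => 0) (e.symm z), fun i => by simp, ?_⟩
      show A.1.mulVec _ = _
      rw [hA _ (fun i => by simp)]
      simp [π, Fintype.sum_sum_type, Finset.sum_add_distrib]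
  rw [← hA, CfsgLib.SympGeom.stabilizing_image]
  -- step 2: the stabiliser of `W₀`
  set S := Cfsg.stabilizing (Cfsg.spToMat (k + l) F) (W₀ : Set (Fin (k + l) ⊕ Fin (k + l) → F)) with hS
  refine ⟨(Subgroup.equivMapOfInjective S _ (MulEquiv.injective _)).symm.trans ?_⟩
  have happ : ∀ (g : Matrix.symplecticGroup (Fin (k + l)) F) x z, g.1.mulVec x (e z) =
      (g.1.submatrix e e).mulVec (fun i => x (e i)) z := fun g x z => by
    rw [Matrix.submatrix_mulVec_equiv]
    simp [Function.comp_def]
  -- vanishing blocks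
  have h21 : ∀ g : S, (g.1.1.submatrix e e).toBlocks₂₁ = 0 := by
    intro g
    ext i j
    have h := (g.2 (Pi.single (e (Sum.inl j)) 1)).mp (fun i => by
      simp [e.injective.ne (Sum.inr_ne_inl (a := j) (b := i))]) i
    simpa [Matrix.toBlocks₂₁] using h
  have h12 : ∀ g : S, (g.1.1.submatrix e e).toBlocks₁₂ = 0 := by
    intro g
    ext i j
    -- the image of a vector orthogonal to `W₀` is orthogonal to `W₀`
    set v : Fin (k + l) ⊕ Fin (k + l) → F := Pi.single (e (Sum.inr j)) 1 with hv
    have hperp : ∀ w ∈ W₀, sympForm (k + l) F w (g.1.1.mulVec v) = 0 := by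
      intro w hw
      have hw₀ : g.1⁻¹.1.mulVec w ∈ W₀ := ((inv_mem g.2) w).mp hw
      have h := CfsgLib.Linear.Symp.form_mulVec g.1.2 (g.1⁻¹.1.mulVec w) v
      rw [Matrix.mulVec_mulVec, ← Submonoid.coe_mul, mul_inv_cancel, OneMemClass.coe_one,
        Matrix.one_mulVec] at h
      rw [h, hsplit, show (fun i => g.1⁻¹.1.mulVec w (e (Sum.inr i))) = 0 from funext hw₀,
        show (fun i => v (e (Sum.inl i))) = 0 from funext fun i => by
          simp [hv, e.injective.ne (Sum.inl_ne_inr (a := i) (b := j))],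
        CfsgLib.Linear.Symp.form_zero_left, CfsgLib.Linear.Symp.form_zero_right, add_zero]
    have hzero : (fun i => g.1.1.mulVec v (e (Sum.inl i))) = 0 := by
      apply CfsgLib.Linear.Symp.eq_zero_of_forall_form
      intro x
      rw [CfsgLib.Linear.Symp.form_swap]
      have h := hperp (fun z => Sum.elim x 0 (e.symm z)) (fun i => by simp)
      rw [hsplit] at h
      simp only [Equiv.symm_apply_apply, Sum.elim_inl, Sum.elim_inr] at h
      rw [show (fun i => (0 : Fin l ⊕ Fin l → F) i) = 0 from rfl, CfsgLib.Linear.Symp.form_zero_left,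
        add_zero] at h
      rw [h, neg_zero]
    simpa [Matrix.toBlocks₁₂, hv] using congrFun hzero i
  have hblock : ∀ g : S, g.1.1.submatrix e e = Matrix.fromBlocks (g.1.1.submatrix e e).toBlocks₁₁ 0 0
      (g.1.1.submatrix e e).toBlocks₂₂ := fun g => by
    conv_lhs => rw [← Matrix.fromBlocks_toBlocks (g.1.1.submatrix e e), h21 g, h12 g]
  have hmemB : ∀ g : S, (g.1.1.submatrix e e).toBlocks₁₁ ∈ Matrix.symplecticGroup (Fin k) F ∧
      (g.1.1.submatrix e e).toBlocks₂₂ ∈ Matrix.symplecticGroup (Fin l) F := by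
    intro g
    constructor <;> refine CfsgLib.Linear.Symp.mem_of_form_mulVec fun x y => ?_
    · have h := CfsgLib.Linear.Symp.form_mulVec g.1.2 (fun z => Sum.elim x 0 (e.symm z))
        (fun z => Sum.elim y 0 (e.symm z))
      rw [hsplit, hsplit] at h
      simp only [happ, Equiv.symm_apply_apply] at h
      rw [hblock g] at h
      simpa [Matrix.fromBlocks_mulVec, Function.comp_def, ← Pi.zero_def, CfsgLib.Linear.Symp.form_zero_left] using h
    · have h := CfsgLib.Linear.Symp.form_mulVec g.1.2 (fun z => Sum.elim 0 x (e.symm z))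
        (fun z => Sum.elim 0 y (e.symm z))
      rw [hsplit, hsplit] at h
      simp only [happ, Equiv.symm_apply_apply] at h
      rw [hblock g] at h
      simpa [Matrix.fromBlocks_mulVec, Function.comp_def, ← Pi.zero_def, CfsgLib.Linear.Symp.form_zero_left] using h
  let back : Matrix.symplecticGroup (Fin k) F × Matrix.symplecticGroup (Fin l) F →
      Matrix (Fin (k + l) ⊕ Fin (k + l)) (Fin (k + l) ⊕ Fin (k + l)) F :=
    fun p => (Matrix.fromBlocks p.1.1 0 0 p.2.1).submatrix e.symm e.symm
  have hback : ∀ p x z, (back p).mulVec x (e z) =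
      (Matrix.fromBlocks p.1.1 0 0 p.2.1).mulVec (fun i => x (e i)) z := fun p x z => by
    simp only [back, Matrix.submatrix_mulVec_equiv]
    simp [Function.comp_def]
  have hbackmem : ∀ p, back p ∈ Matrix.symplecticGroup (Fin (k + l)) F := fun p => by
    refine CfsgLib.Linear.Symp.mem_of_form_mulVec fun x y => ?_
    rw [hsplit, hsplit x y]
    simp only [hback, Matrix.fromBlocks_mulVec, Matrix.zero_mulVec, add_zero, zero_add, Sum.elim_inl,
      Sum.elim_inr]
    rw [← CfsgLib.Linear.Symp.form_mulVec p.1.2 (fun i => x (e (Sum.inl i))),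
      ← CfsgLib.Linear.Symp.form_mulVec p.2.2 (fun i => x (e (Sum.inr i)))]
    rfl
  refine
    { toFun := fun g => (⟨_, (hmemB g).1⟩, ⟨_, (hmemB g).2⟩)
      invFun := fun p => ⟨⟨back p, hbackmem p⟩, CfsgLib.SympGeom.stab_image_self W₀ fun v hv i => ?_⟩
      left_inv := fun g => ?_
      right_inv := fun p => ?_
      map_mul' := fun g g' => ?_ }
  · simp only [hback, Matrix.fromBlocks_mulVec, Sum.elim_inr, Matrix.zero_mulVec, zero_add]
    rw [show (fun i => v (e i)) ∘ Sum.inr = 0 from funext hv, Matrix.mulVec_zero]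
    rfl
  · refine Subtype.ext (Subtype.ext ?_)
    show (Matrix.fromBlocks _ 0 0 _).submatrix e.symm e.symm = _
    rw [← hblock g, Matrix.submatrix_submatrix]
    simp
  · refine Prod.ext (Subtype.ext ?_) (Subtype.ext ?_) <;>
      simp [back, Matrix.submatrix_submatrix]
  · have hmul : (g * g').1.1.submatrix e e = Matrix.fromBlocks
        ((g.1.1.submatrix e e).toBlocks₁₁ * (g'.1.1.submatrix e e).toBlocks₁₁) 0 0
        ((g.1.1.submatrix e e).toBlocks₂₂ * (g'.1.1.submatrix e e).toBlocks₂₂) := by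
      show (g.1.1 * g'.1.1).submatrix e e = _
      rw [← Matrix.submatrix_mul_equiv g.1.1 g'.1.1 e e e]
      conv_lhs => rw [hblock g, hblock g']
      simp [Matrix.fromBlocks_multiply]
    refine Prod.ext (Subtype.ext ?_) (Subtype.ext ?_)
    · show (((g * g').1.1).submatrix e e).toBlocks₁₁ = _
      rw [hmul, Matrix.toBlocks_fromBlocks₁₁]; rfl
    · show (((g * g').1.1).submatrix e e).toBlocks₂₂ = _
      rw [hmul, Matrix.toBlocks_fromBlocks₂₂]; rfl

end Cfsg.Agent.S0776
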