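import Cfsg.Statements.S0777
import Cfsg.Agent.Lib.SympGeom.Basic

set_option autoImplicit false
open Cfsg

namespace Cfsg.Agent.S0777

/-- Weyl group of type C_m: for q ≥ 4 the diagonal matrices of Sp_2m(q) form a torus T ≅ (C_(q−1))^m (the elements stabilising every coordinate axis), and the normaliser of T in Sp_2m(q) has order 2^m · m! · (q − 1)^m. -/
theorem result {F : Type*} [Field F] [Fintype F] {q : ℕ} (hF : Fintype.card F = q) (hq : 4 ≤ q) (m : ℕ) : Nat.card ↥(Subgroup.normalizer (⨅ i : Fin m ⊕ Fin m, Cfsg.stabilizing (Cfsg.spToMat m F) ((Submodule.span F {(Pi.single i (1 : F) : Fin m ⊕ Fin m → F)} : Submodule F (Fin m ⊕ Fin m → F)) : Set (Fin m ⊕ Fin m → F)) : Set (Matrix.symplecticGroup (Fin m) F))) = 2 ^ m * Nat.factorial m * (q - 1) ^ m := by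
  classical
  -- a scalar separating `a` and `a⁻¹`
  obtain ⟨w, hw0, hw1, hw2⟩ : ∃ w : F, w ≠ 0 ∧ w ≠ 1 ∧ w * w ≠ 1 := by
    by_contra! h
    have hsub : (Finset.univ : Finset F) ⊆ {0, 1, -1} := by
      intro x _
      by_cases h0 : x = 0
      · simp [h0]
      by_cases h1 : x = 1
      · simp [h1]
      rcases mul_self_eq_one_iff.mp (h x h0 h1) with h' | h' <;> simp [h']
    have := (Finset.card_le_card hsub).trans Finset.card_le_three
    rw [Finset.card_univ, hF] at this
    omega
  have hJ : ∀ a b : Fin m ⊕ Fin m, sympForm m F (Pi.single a 1) (Pi.single b 1) =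
      (if b = a.swap then (if a.isLeft then -1 else 1) else 0) := by
    intro a b
    rcases b with b | b
    · rw [CfsgLib.Linear.Symp.form_single_inl]
      rcases a with a | a <;> simp [Pi.single_apply, eq_comm]
    · rw [CfsgLib.Linear.Symp.form_single_inr]
      rcases a with a | a <;> simp [Pi.single_apply, eq_comm, apply_ite (fun x : F => -x)]
  set T : Subgroup (Matrix.symplecticGroup (Fin m) F) :=
    ⨅ i : Fin m ⊕ Fin m, Cfsg.stabilizing (Cfsg.spToMat m F) ((Submodule.span F {(Pi.single i (1 : F) : Fin m ⊕ Fin m → F)} : Submodule F (Fin m ⊕ Fin m → F)) : Set (Fin m ⊕ Fin m → F)) with hT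
  have hmemT : ∀ g, g ∈ T ↔ ∀ a b, a ≠ b → g.1 a b = 0 := by
    intro g
    rw [hT, Subgroup.mem_iInf]
    constructor
    · intro h a b hab
      have h' := (h b (Pi.single b 1)).mp (Submodule.mem_span_singleton_self _)
      rw [SetLike.mem_coe, Submodule.mem_span_singleton] at h'
      obtain ⟨c, hc⟩ := h'
      simpa [hab] using (congrFun hc a).symm
    · intro h i
      refine CfsgLib.SympGeom.stab_image_self _ fun v hv => ?_
      rw [Submodule.mem_span_singleton] at hv ⊢
      obtain ⟨c, rfl⟩ := hv
      refine ⟨c * g.1 i i, ?_⟩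
      funext a
      by_cases ha : a = i
      · subst ha; simp [Matrix.mulVec_smul]
      · simp [Matrix.mulVec_smul, h a i ha, ha]
  -- monomial matrices
  let mono : Equiv.Perm (Fin m ⊕ Fin m) → (Fin m ⊕ Fin m → F) →
      Matrix (Fin m ⊕ Fin m) (Fin m ⊕ Fin m) F := fun π c => Matrix.of fun a b => if b = π a then c a else 0
  have hmono : ∀ π c x a, (mono π c).mulVec x a = c a * x (π a) := fun π c x a => by
    simp [mono, Matrix.mulVec, dotProduct]
  let perm : Equiv.Perm (Fin m) × (Fin m → Bool) → Equiv.Perm (Fin m ⊕ Fin m) := fun p =>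
    { toFun := fun a => Sum.elim (fun i => bif p.2 i then Sum.inr (p.1 i) else Sum.inl (p.1 i))
        (fun i => bif p.2 i then Sum.inl (p.1 i) else Sum.inr (p.1 i)) a
      invFun := fun a => Sum.elim
        (fun j => bif p.2 (p.1.symm j) then Sum.inr (p.1.symm j) else Sum.inl (p.1.symm j))
        (fun j => bif p.2 (p.1.symm j) then Sum.inl (p.1.symm j) else Sum.inr (p.1.symm j)) a
      left_inv := fun a => by rcases a with i | i <;> cases hb : p.2 i <;> simp [hb]
      right_inv := fun a => by
        rcases a with j | j <;> cases hb : p.2 (p.1.symm j) <;> simp [hb] }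
  let coef : (Fin m → Bool) × (Fin m → Fˣ) → (Fin m ⊕ Fin m → F) := fun p => Sum.elim
    (fun i => (p.2 i : F)) (fun i => bif p.1 i then -((p.2 i : F))⁻¹ else ((p.2 i : F))⁻¹)
  let build : (Equiv.Perm (Fin m) × (Fin m → Bool)) × (Fin m → Fˣ) →
      Matrix (Fin m ⊕ Fin m) (Fin m ⊕ Fin m) F := fun p => mono (perm p.1) (coef (p.1.2, p.2))
  have hbuild : ∀ p, build p ∈ Matrix.symplecticGroup (Fin m) F := by
    intro p
    refine CfsgLib.Linear.Symp.mem_of_form_mulVec fun x y => ?_
    rw [CfsgLib.Linear.Symp.sympForm_eq_sum, CfsgLib.Linear.Symp.sympForm_eq_sum,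
      ← Equiv.sum_comp p.1.1 (fun i => x (Sum.inr i) * y (Sum.inl i) - x (Sum.inl i) * y (Sum.inr i))]
    refine Finset.sum_congr rfl fun i _ => ?_
    have hne : ((p.2 i : F)) ≠ 0 := (p.2 i).ne_zero
    simp only [build, hmono, coef, Sum.elim_inl, Sum.elim_inr]
    cases hb : p.1.2 i <;> simp [perm, hb] <;> field_simp <;> ring
  -- they normalise `T`, and every element of the normaliser is one of them
  have hnorm : ∀ g : Matrix.symplecticGroup (Fin m) F, g ∈ Subgroup.normalizer (T : Set (Matrix.symplecticGroup (Fin m) F)) ↔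
      ∃ π c, g.1 = mono π c := by
    intro g
    constructor
    · intro hg
      -- each row has a single non-zero entry
      have hrow : ∀ a b b', g.1 a b ≠ 0 → g.1 a b' ≠ 0 → b = b' := by
        intro a b b' hb hb'
        by_contra hne
        obtain ⟨t, ht, hsep⟩ : ∃ t : Matrix.symplecticGroup (Fin m) F, t ∈ T ∧ t.1 b b ≠ t.1 b' b' := by
          let i₀ : Fin m := Sum.elim id id b
          let p : (Equiv.Perm (Fin m) × (Fin m → Bool)) × (Fin m → Fˣ) :=
            ((1, fun _ => false), Function.update 1 i₀ (Units.mk0 w hw0))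
          refine ⟨⟨build p, hbuild p⟩, (hmemT _).mpr fun a c hac => ?_, ?_⟩
          · rcases a with a | a <;> simp [build, mono, p, perm, Ne.symm hac]
          · have hwi : w ≠ w⁻¹ := fun h => hw2 (by
              nth_rewrite 1 [h]
              exact inv_mul_cancel₀ hw0)
            have hwi1 : w⁻¹ ≠ 1 := fun h => hw1 (inv_eq_one.mp h)
            rcases b with i | i <;> rcases b' with j | j <;> by_cases hji : j = i <;>
              first
              | (subst hji; exact absurd rfl hne)
              | simp [build, mono, p, perm, coef, i₀, Function.update_apply, hji, hwi, hwi.symm, hwi1, hwi1.symm, hw1, Ne.symm hw1]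
        have hd := (Subgroup.mem_normalizer_iff.mp hg t).mp ht
        rw [hmemT] at hd
        have heq : (g * t * g⁻¹).1 * g.1 = g.1 * t.1 := by
          rw [← Submonoid.coe_mul, ← Submonoid.coe_mul, inv_mul_cancel_right]
        have hval : ∀ r, g.1 a r * t.1 r r = (g * t * g⁻¹).1 a a * g.1 a r := by
          intro r
          have h := congrFun (congrFun heq a) r
          rw [Matrix.mul_apply, Matrix.mul_apply,
            Finset.sum_eq_single a (fun z _ hz => by rw [hd a z (Ne.symm hz), zero_mul]) (by simp),
            Finset.sum_eq_single r (fun z _ hz => by rw [(hmemT t).mp ht z r hz, mul_zero]) (by simp)] at h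
          exact h.symm
        apply hsep
        rw [show t.1 b b = (g * t * g⁻¹).1 a a from mul_left_cancel₀ hb (by linear_combination hval b),
          show t.1 b' b' = (g * t * g⁻¹).1 a a from mul_left_cancel₀ hb' (by linear_combination hval b')]
      have hex : ∀ a, ∃ b, g.1 a b ≠ 0 := by
        intro a
        by_contra! h
        have h1 : ((g * g⁻¹ : Matrix.symplecticGroup (Fin m) F)).1 a a = 0 := by
          rw [Submonoid.coe_mul, Matrix.mul_apply]
          simp [h]
        simp at h1
      choose π hπ using hex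
      have hzero : ∀ a b, b ≠ π a → g.1 a b = 0 := fun a b hb =>
        by_contra fun h => hb (hrow a b (π a) h (hπ a))
      have hinj : Function.Injective π := by
        intro a a' h
        by_contra hne
        have h1 : ∀ z, (g * g⁻¹ : Matrix.symplecticGroup (Fin m) F).1 z a =
            g.1 z (π z) * g⁻¹.1 (π z) a := fun z => by
          rw [Submonoid.coe_mul, Matrix.mul_apply,
            Finset.sum_eq_single (π z) (fun r _ hr => by rw [hzero z r hr, zero_mul]) (by simp)]
        have ha := h1 a
        have ha' := h1 a'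
        rw [mul_inv_cancel, OneMemClass.coe_one, Matrix.one_apply_eq] at ha
        rw [mul_inv_cancel, OneMemClass.coe_one, Matrix.one_apply_ne (Ne.symm hne), ← h] at ha'
        rw [(mul_eq_zero.mp ha'.symm).resolve_left (h ▸ hπ a'), mul_zero] at ha
        exact one_ne_zero ha
      refine ⟨Equiv.ofBijective π (Finite.injective_iff_bijective.mp hinj), fun a => g.1 a (π a), ?_⟩
      ext a b
      by_cases hb : b = π a
      · simp [mono, hb]
      · simp [mono, hb, hzero a b hb]
    · rintro ⟨π, c, hg⟩
      have hc : ∀ a, c a ≠ 0 := fun a hca => by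
        have h1 : ((g * g⁻¹ : Matrix.symplecticGroup (Fin m) F)).1 a a = 0 := by
          rw [Submonoid.coe_mul, Matrix.mul_apply, hg]
          simp [mono, hca]
        simp at h1
      have hconj : ∀ (t : Matrix.symplecticGroup (Fin m) F) a b,
          g.1 a (π a) * t.1 (π a) (π b) = (g * t * g⁻¹).1 a b * c b := by
        intro t a b
        have heq : (g * t * g⁻¹).1 * g.1 = g.1 * t.1 := by
          rw [← Submonoid.coe_mul, ← Submonoid.coe_mul, inv_mul_cancel_right]
        have h := congrFun (congrFun heq a) (π b)
        rw [Matrix.mul_apply, Matrix.mul_apply,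
          Finset.sum_eq_single b (fun z _ hz => by simp [hg, mono, hz, Ne.symm hz]) (by simp),
          Finset.sum_eq_single (π a) (fun z _ hz => by simp [hg, mono, hz]) (by simp)] at h
        rw [← h, hg]
        simp [mono]
      rw [Subgroup.mem_normalizer_iff]
      intro t
      rw [hmemT, hmemT]
      constructor
      · intro h a b hab
        have h1 := hconj t a b
        rw [h _ _ (π.injective.ne hab), mul_zero] at h1
        exact (mul_eq_zero.mp h1.symm).resolve_right (hc b)
      · intro h r s hrs
        obtain ⟨a, rfl⟩ := π.surjective r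
        obtain ⟨b, rfl⟩ := π.surjective s
        have h1 := hconj t a b
        rw [h a b (fun e => hrs (by rw [e])), zero_mul] at h1
        exact (mul_eq_zero.mp h1).resolve_left (by simpa [hg, mono] using hc a)
  -- the bijection
  have hmem : ∀ p, (⟨build p, hbuild p⟩ : Matrix.symplecticGroup (Fin m) F) ∈
      Subgroup.normalizer (T : Set (Matrix.symplecticGroup (Fin m) F)) := fun p => (hnorm _).mpr ⟨_, _, rfl⟩
  simp only [Set.iInf_eq_iInter, ← Subgroup.coe_iInf, ← hT]
  rw [← Nat.card_eq_of_bijective (fun p => (⟨⟨build p, hbuild p⟩, hmem p⟩ :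
    Subgroup.normalizer (T : Set (Matrix.symplecticGroup (Fin m) F)))) ⟨?_, ?_⟩]
  · rw [Nat.card_prod, Nat.card_prod, Nat.card_perm, Nat.card_fun, Nat.card_fun, Nat.card_fin,
      Nat.card_units, Nat.card_eq_fintype_card (α := Bool), Fintype.card_bool,
      Nat.card_eq_fintype_card (α := F), hF]
    ring
  · rintro ⟨⟨σ, ε⟩, c⟩ ⟨⟨σ', ε'⟩, c'⟩ h
    have hM : build ((σ, ε), c) = build ((σ', ε'), c') := congrArg (fun g => g.1.1) h
    have key : ∀ a, perm (σ, ε) a = perm (σ', ε') a ∧ coef (ε, c) a = coef (ε', c') a := by
      intro a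
      have h1 := congrFun (congrFun hM a) (perm (σ, ε) a)
      have hc0 : coef (ε, c) a ≠ 0 := by
        rcases a with i | i
        · simp [coef]
        · cases hb : ε i <;> simp [coef, hb]
      by_cases hp : perm (σ, ε) a = perm (σ', ε') a
      · exact ⟨hp, by simpa [build, mono, hp] using h1⟩
      · exact absurd (by simpa [build, mono, hp] using h1) hc0
    have hσ : ∀ i, σ i = σ' i ∧ ε i = ε' i := fun i => by
      have h1 := (key (Sum.inl i)).1
      cases hb : ε i <;> cases hb' : ε' i <;> simp [perm, hb, hb'] at h1 ⊢ <;> exact h1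
    obtain rfl : σ = σ' := Equiv.ext fun i => (hσ i).1
    obtain rfl : ε = ε' := funext fun i => (hσ i).2
    obtain rfl : c = c' := funext fun i => Units.ext (by simpa [coef] using (key (Sum.inl i)).2)
    rfl
  · rintro ⟨g, hg⟩
    obtain ⟨π, c, hgm⟩ := (hnorm g).mp hg
    have hcne : ∀ a, c a ≠ 0 := fun a hca => by
      have h1 : ((g * g⁻¹ : Matrix.symplecticGroup (Fin m) F)).1 a a = 0 := by
        rw [Submonoid.coe_mul, Matrix.mul_apply, hgm]
        simp [mono, hca]
      simp at h1
    have hrel : ∀ a b, c a * c b * sympForm m F (Pi.single (π a) 1) (Pi.single (π b) 1) =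
        sympForm m F (Pi.single a 1) (Pi.single b 1) := by
      intro a b
      have hc : ∀ a, g.1.mulVec (Pi.single (π a) 1) = c a • Pi.single a 1 := by
        intro a
        funext r
        rw [hgm, hmono]
        by_cases hr : r = a
        · subst hr; simp
        · simp [hr, π.injective.ne hr]
      have h := CfsgLib.Linear.Symp.form_mulVec g.2 (Pi.single (π a) 1) (Pi.single (π b) 1)
      rw [hc, hc, CfsgLib.Linear.Symp.form_smul_left, CfsgLib.Linear.Symp.form_smul_right] at h
      rw [← h]
      have ha2 : ∀ a b, sympForm m F (Pi.single a 1) (Pi.single b 1) * (sympForm m F (Pi.single a 1) (Pi.single b 1) *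
          sympForm m F (Pi.single a 1) (Pi.single b 1)) = sympForm m F (Pi.single a 1) (Pi.single b 1) :=
        fun a b => by rw [hJ]; split_ifs <;> simp
      by_cases hs : b = a.swap
      · have hne : sympForm m F (Pi.single a 1) (Pi.single b 1) ≠ 0 := by rw [hJ, if_pos hs]; split_ifs <;> simp
        have hsq : sympForm m F (Pi.single a 1) (Pi.single b 1) * sympForm m F (Pi.single a 1) (Pi.single b 1) = 1 :=
          mul_left_cancel₀ hne (by rw [ha2, mul_one])
        have hcc : c a * c b ≠ 0 := mul_ne_zero (hcne a) (hcne b)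
        have hcc2 : (c a * c b) * (c a * c b) = 1 := by
          have h2 : (c a * c b * sympForm m F (Pi.single a 1) (Pi.single b 1)) *
              (c a * c b * sympForm m F (Pi.single a 1) (Pi.single b 1)) = 1 := by
            rw [show c a * c b * sympForm m F (Pi.single a 1) (Pi.single b 1) =
              sympForm m F (Pi.single (π a) 1) (Pi.single (π b) 1) by linear_combination h]
            have hn' : sympForm m F (Pi.single (π a) 1) (Pi.single (π b) 1) ≠ 0 := by
              rw [← h]; exact mul_ne_zero (left_ne_zero_of_mul hcc) (mul_ne_zero (right_ne_zero_of_mul hcc) hne)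
            exact mul_left_cancel₀ hn' (by rw [ha2, mul_one])
          linear_combination h2 - (c a * c b) * (c a * c b) * hsq
        linear_combination (sympForm m F (Pi.single a 1) (Pi.single b 1)) * hcc2
      · rw [hJ a b, if_neg hs]; ring
    have hpair : ∀ i, π (Sum.inr i) = (π (Sum.inl i)).swap := fun i => by
      by_contra hne
      have h := hrel (Sum.inl i) (Sum.inr i)
      rw [hJ, hJ, if_neg hne] at h
      simp at h
    let σ₀ : Fin m → Fin m := fun i => Sum.elim id id (π (Sum.inl i))
    have hσ₀ : Function.Injective σ₀ := by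
      intro i j h
      rcases hi : π (Sum.inl i) with a | a <;> rcases hj : π (Sum.inl j) with b | b <;>
        simp [σ₀, hi, hj] at h <;> subst h
      · exact Sum.inl_injective (π.injective (hi.trans hj.symm))
      · exact absurd (π.injective ((hpair i).trans (by rw [hi, hj]; rfl)) : Sum.inr i = Sum.inl j) (by simp)
      · exact absurd (π.injective ((hpair i).trans (by rw [hi, hj]; rfl)) : Sum.inr i = Sum.inl j) (by simp)
      · exact Sum.inl_injective (π.injective (hi.trans hj.symm))
    have hc0 : ∀ i, c (Sum.inl i) ≠ 0 := fun i h0 => by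
      have h := hrel (Sum.inl i) (Sum.inr i)
      simp [hJ, h0] at h
    refine ⟨((Equiv.ofBijective σ₀ (Finite.injective_iff_bijective.mp hσ₀), fun i => (π (Sum.inl i)).isRight),
      fun i => Units.mk0 _ (hc0 i)), Subtype.ext (Subtype.ext ?_)⟩
    show build _ = g.1
    rw [hgm]
    have hπ : perm (Equiv.ofBijective σ₀ (Finite.injective_iff_bijective.mp hσ₀),
        fun i => (π (Sum.inl i)).isRight) = π := by
      refine Equiv.ext fun a => ?_
      rcases a with i | i
      · rcases hi : π (Sum.inl i) with a | a <;> simp [perm, σ₀, hi]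
      · rcases hi : π (Sum.inl i) with a | a <;> simp [perm, σ₀, hi, hpair i]
    have hcoef : coef (fun i => (π (Sum.inl i)).isRight, fun i => Units.mk0 _ (hc0 i)) = c := by
      funext a
      rcases a with i | i
      · simp [coef]
      · have h := hrel (Sum.inl i) (Sum.inr i)
        rw [hJ, hJ, hpair i] at h
        have hne := hc0 i
        rcases hi : π (Sum.inl i) with a | a <;> simp [coef, hi] at h ⊢ <;> field_simp <;>
          first
          | linear_combination h
          | linear_combination -h
    simp only [build, hπ, hcoef]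

end Cfsg.Agent.S0777
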