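import Cfsg.Statements.S0778

set_option autoImplicit false
open Cfsg

namespace Cfsg.Agent.S0778

/-- The elements of Sp_2m(F) stabilising both W = ⟨e_1..e_m⟩ and U = ⟨f_1..f_m⟩ form a subgroup isomorphic to GL_m(F) (block-diagonal matrices diag(X, X^(−ᵀ)) up to the sign convention of J), for m ≥ 1 or m = 0 alike. -/
theorem result {F : Type*} [Field F] (m : ℕ) : Nonempty (↥(Cfsg.stabilizing (Cfsg.spToMat m F) {v : Fin m ⊕ Fin m → F | ∀ i : Fin m, v (Sum.inr i) = 0} ⊓ Cfsg.stabilizing (Cfsg.spToMat m F) {v : Fin m ⊕ Fin m → F | ∀ i : Fin m, v (Sum.inl i) = 0}) ≃* Matrix.GeneralLinearGroup (Fin m) F) := by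
  classical
  set H := Cfsg.stabilizing (Cfsg.spToMat m F) {v : Fin m ⊕ Fin m → F | ∀ i : Fin m, v (Sum.inr i) = 0} ⊓
    Cfsg.stabilizing (Cfsg.spToMat m F) {v : Fin m ⊕ Fin m → F | ∀ i : Fin m, v (Sum.inl i) = 0} with hH
  have hblocks : ∀ g : H, (g.1 : Matrix.symplecticGroup (Fin m) F).1.toBlocks₂₁ = 0 ∧
      (g.1 : Matrix.symplecticGroup (Fin m) F).1.toBlocks₁₂ = 0 := by
    intro g
    obtain ⟨h1, h2⟩ := Subgroup.mem_inf.mp g.2
    refine ⟨?_, ?_⟩
    · ext i j
      have := (h1 (Pi.single (Sum.inl j) 1)).mp (fun l => by simp) i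
      simpa [Matrix.toBlocks₂₁] using this
    · ext i j
      have := (h2 (Pi.single (Sum.inr j) 1)).mp (fun l => by simp) i
      simpa [Matrix.toBlocks₁₂] using this
  have hrel : ∀ g : H, g.1.1.toBlocks₁₁ * g.1.1.toBlocks₂₂.transpose = 1 := by
    intro g
    have h := SymplecticGroup.mem_iff.mp g.1.2
    rw [← Matrix.fromBlocks_toBlocks g.1.1, (hblocks g).1, (hblocks g).2] at h
    simp [Matrix.J, Matrix.fromBlocks_transpose, Matrix.fromBlocks_multiply] at h
    exact h.1
  let φ : H →* Matrix.GeneralLinearGroup (Fin m) F :=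
    { toFun := fun g => ⟨g.1.1.toBlocks₁₁, g.1.1.toBlocks₂₂.transpose, hrel g,
        mul_eq_one_comm.mp (hrel g)⟩
      map_one' := Units.ext (by
        show (1 : Matrix (Fin m ⊕ Fin m) (Fin m ⊕ Fin m) F).toBlocks₁₁ = 1
        rw [← Matrix.fromBlocks_one, Matrix.toBlocks_fromBlocks₁₁])
      map_mul' := fun g h => Units.ext (by
        show (g.1.1 * h.1.1).toBlocks₁₁ = g.1.1.toBlocks₁₁ * h.1.1.toBlocks₁₁
        conv_lhs => rw [← Matrix.fromBlocks_toBlocks g.1.1, ← Matrix.fromBlocks_toBlocks h.1.1,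
          (hblocks g).1, (hblocks g).2, (hblocks h).1, (hblocks h).2]
        simp [Matrix.fromBlocks_multiply]) }
  refine ⟨MulEquiv.ofBijective φ ⟨fun g h hgh => ?_, fun X => ?_⟩⟩
  · have h1 : g.1.1.toBlocks₁₁ = h.1.1.toBlocks₁₁ := congrArg Units.val hgh
    have h2 : g.1.1.toBlocks₂₂.transpose = h.1.1.toBlocks₂₂.transpose :=
      congrArg (fun u : Matrix.GeneralLinearGroup (Fin m) F => u.inv) hgh
    apply Subtype.ext
    apply Subtype.ext
    rw [← Matrix.fromBlocks_toBlocks g.1.1, ← Matrix.fromBlocks_toBlocks h.1.1, (hblocks g).1,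
      (hblocks g).2, (hblocks h).1, (hblocks h).2, h1, Matrix.transpose_inj.mp h2]
  · let M : Matrix (Fin m ⊕ Fin m) (Fin m ⊕ Fin m) F :=
      Matrix.fromBlocks X.1 0 0 (X⁻¹ : Matrix.GeneralLinearGroup (Fin m) F).1.transpose
    have hM : M ∈ Matrix.symplecticGroup (Fin m) F := by
      rw [SymplecticGroup.mem_iff]
      simp only [M, Matrix.J, Matrix.fromBlocks_transpose, Matrix.fromBlocks_multiply,
        Matrix.transpose_transpose, Matrix.transpose_zero, Matrix.mul_zero, Matrix.zero_mul, zero_add,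
        add_zero, Matrix.mul_neg, Matrix.mul_one, Matrix.neg_mul, ← Matrix.transpose_mul,
        Units.mul_inv, Matrix.transpose_one, neg_zero]
    have hstab : (⟨M, hM⟩ : Matrix.symplecticGroup (Fin m) F) ∈ H := by
      refine Subgroup.mem_inf.mpr ⟨?_, ?_⟩
      · intro v
        show (∀ i, v (Sum.inr i) = 0) ↔ ∀ i, M.mulVec v (Sum.inr i) = 0
        have : ∀ i, M.mulVec v (Sum.inr i) =
            (X⁻¹ : Matrix.GeneralLinearGroup (Fin m) F).1.transpose.mulVec (v ∘ Sum.inr) i := fun i => by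
          simp [M, Matrix.fromBlocks_mulVec]
        simp only [this]
        constructor
        · intro h i
          simp [Matrix.mulVec, dotProduct, h]
        · intro h
          have h' : X.1.transpose.mulVec ((X⁻¹ : Matrix.GeneralLinearGroup (Fin m) F).1.transpose.mulVec
              (v ∘ Sum.inr)) = 0 := by rw [show _ = (0 : Fin m → F) from funext h]; simp
          rw [Matrix.mulVec_mulVec, ← Matrix.transpose_mul, Units.inv_mul, Matrix.transpose_one,
            Matrix.one_mulVec] at h'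
          exact fun i => congrFun h' i
      · intro v
        show (∀ i, v (Sum.inl i) = 0) ↔ ∀ i, M.mulVec v (Sum.inl i) = 0
        have : ∀ i, M.mulVec v (Sum.inl i) = X.1.mulVec (v ∘ Sum.inl) i := fun i => by
          simp [M, Matrix.fromBlocks_mulVec]
        simp only [this]
        constructor
        · intro h i
          simp [Matrix.mulVec, dotProduct, h]
        · intro h
          have h' : (X⁻¹ : Matrix.GeneralLinearGroup (Fin m) F).1.mulVec (X.1.mulVec (v ∘ Sum.inl)) = 0 := by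
            rw [show _ = (0 : Fin m → F) from funext h]; simp
          rw [Matrix.mulVec_mulVec, Units.inv_mul, Matrix.one_mulVec] at h'
          exact fun i => congrFun h' i
    exact ⟨⟨⟨M, hM⟩, hstab⟩, Units.ext (Matrix.toBlocks_fromBlocks₁₁ _ _ _ _)⟩

end Cfsg.Agent.S0778
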