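import Cfsg.Statements.S0783
import Cfsg.Agent.Lib.Classical.Herm.Field

set_option autoImplicit false
open Cfsg

namespace Cfsg.Agent.S0783

/-- PGU_n(q)/PSU_n(q) is cyclic of order (n, q+1): for n ≥ 2 and |F| = q² there is a surjective homomorphism from GU_n(q) onto the cyclic group of order gcd(n, q + 1) whose kernel is generated by the determinant-one elements together with the centre. -/
theorem result {F : Type*} [Field F] [Fintype F] {q : ℕ} (hF : Fintype.card F = q ^ 2) (n : ℕ) (hn : 2 ≤ n) : ∃ φ : ↥(Cfsg.GU n F q) →* Multiplicative (ZMod (Nat.gcd n (q + 1))), Function.Surjective φ ∧ φ.ker = (Matrix.GeneralLinearGroup.det : Matrix.GeneralLinearGroup (Fin n) F →* Fˣ).ker.subgroupOf (Cfsg.GU n F q) ⊔ Subgroup.center ↥(Cfsg.GU n F q) := by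
  classical
  set N := q + 1 with hN
  set d := Nat.gcd n N with hd
  have hq : 2 ≤ q := CfsgLib.Classical.Herm.two_le_of_card hF
  have hq0 : q ≠ 0 := by omega
  set μ := (powMonoidHom N : Fˣ →* Fˣ).ker with hμ
  have hμcard : Nat.card μ = N := CfsgLib.Classical.Herm.card_normOne_units hF
  have hμmem : ∀ u : Fˣ, u ∈ μ ↔ (u : F) * (u : F) ^ q = 1 := fun u => by
    rw [hμ, MonoidHom.mem_ker, powMonoidHom_apply, Units.ext_iff, Units.val_pow_eq_pow_val,
      Units.val_one, hN, pow_succ']
  -- diagonal elements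
  have hdiag : ∀ u : Fin n → Fˣ, (∀ i, u i ∈ μ) →
      Units.map (Matrix.diagonalRingHom (Fin n) F).toMonoidHom (MulEquiv.piUnits.symm u) ∈ Cfsg.GU n F q := by
    intro u hu x y
    show Cfsg.hermForm n F q (Matrix.mulVec (Matrix.diagonal fun i => (u i : F)) x)
      (Matrix.mulVec (Matrix.diagonal fun i => (u i : F)) y) = _
    simp only [Cfsg.hermForm, Matrix.mulVec_diagonal]
    refine Finset.sum_congr rfl fun i _ => ?_
    rw [mul_pow]
    linear_combination (x i * y i ^ q) * (hμmem _).mp (hu i)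
  -- determinants of isometries have norm one
  have hdet : ∀ g : ↥(Cfsg.GU n F q), Matrix.GeneralLinearGroup.det g.1 ∈ μ := by
    intro g
    rw [hμmem]
    let σ := CfsgLib.Classical.Herm.qPow hF
    have hent : g.1.1.transpose * g.1.1.map σ = 1 := by
      ext i j
      have h := g.2 (Pi.single i 1) (Pi.single j 1)
      simp only [Cfsg.hermForm, Units.coeHom_apply, Matrix.mulVec_single_one, Matrix.col_apply] at h
      rw [Matrix.mul_apply]
      simp only [Matrix.transpose_apply, Matrix.map_apply, σ, CfsgLib.Classical.Herm.qPow_apply]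
      rw [h]
      by_cases hij : i = j
      · subst hij
        rw [Finset.sum_eq_single i (fun l _ hl => by simp [hl]) (by simp)]
        simp
      · rw [Matrix.one_apply_ne hij]
        refine Finset.sum_eq_zero fun l _ => ?_
        by_cases hli : l = i
        · subst hli; simp [hij, zero_pow hq0]
        · simp [hli]
    have h := congrArg Matrix.det hent
    rw [Matrix.det_mul, Matrix.det_transpose, Matrix.det_one,
      show (g.1.1.map σ).det = σ g.1.1.det from (σ.map_det g.1.1).symm,
      CfsgLib.Classical.Herm.qPow_apply] at h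
    exact h
  -- permutation matrices
  have hperm : ∀ π : Equiv.Perm (Fin n), ∃ p : ↥(Cfsg.GU n F q),
      ∀ (x : Fin n → F), p.1.1.mulVec x = x ∘ π := by
    intro π
    refine ⟨⟨⟨π.toPEquiv.toMatrix, π.symm.toPEquiv.toMatrix, ?_, ?_⟩, ?_⟩, fun x => ?_⟩
    · rw [← PEquiv.toMatrix_trans, ← Equiv.toPEquiv_trans]; simp [PEquiv.toMatrix_refl]
    · rw [← PEquiv.toMatrix_trans, ← Equiv.toPEquiv_trans]; simp [PEquiv.toMatrix_refl]
    · intro x y
      show Cfsg.hermForm n F q (Matrix.mulVec π.toPEquiv.toMatrix x)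
        (Matrix.mulVec π.toPEquiv.toMatrix y) = _
      simp only [Cfsg.hermForm, PEquiv.toMatrix_toPEquiv_mulVec, Function.comp_apply]
      exact Equiv.sum_comp π (fun i => x i * y i ^ q)
    · exact PEquiv.toMatrix_toPEquiv_mulVec π x
  -- the centre consists of norm-one scalars
  have hcenter : ∀ z : ↥(Cfsg.GU n F q), z ∈ Subgroup.center ↥(Cfsg.GU n F q) →
      ∃ c : Fˣ, c ∈ μ ∧ Matrix.GeneralLinearGroup.det z.1 = c ^ n := by
    intro z hz
    obtain ⟨ζ, hζ, hζ1⟩ : ∃ ζ : Fˣ, ζ ∈ μ ∧ ζ ≠ 1 := by
      by_contra h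
      push Not at h
      have : Subsingleton μ := ⟨fun a b => Subtype.ext ((h _ a.2).trans (h _ b.2).symm)⟩
      have := Finite.card_le_one_iff_subsingleton.mpr this
      omega
    have hoff : ∀ i j, i ≠ j → z.1.1 i j = 0 := by
      intro i j hij
      let u : Fin n → Fˣ := Pi.mulSingle i ζ
      let D : ↥(Cfsg.GU n F q) := ⟨_, hdiag u (fun l => by
        by_cases hl : l = i
        · subst hl; simpa [u] using hζ
        · simp [u, hl])⟩
      have h := congrArg (fun g : ↥(Cfsg.GU n F q) => g.1.1 i j) (Subgroup.mem_center_iff.mp hz D)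
      have hD : D.1.1 = Matrix.diagonal fun l => (u l : F) := rfl
      simp only [Subgroup.coe_mul, Units.val_mul, hD, Matrix.diagonal_mul, Matrix.mul_diagonal] at h
      have h2 : (((ζ : F)) - 1) * z.1.1 i j = 0 := by
        simp [u, hij.symm] at h
        linear_combination h
      exact (mul_eq_zero.mp h2).resolve_left (sub_ne_zero.mpr fun e => hζ1 (Units.ext e))
    have i₀ : Fin n := ⟨0, by omega⟩
    have hsame : ∀ i, z.1.1 i i = z.1.1 i₀ i₀ := by
      intro i
      obtain ⟨p, hp⟩ := hperm (Equiv.swap i₀ i)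
      have h := congrArg (fun g : ↥(Cfsg.GU n F q) => g.1.1.mulVec (Pi.single i₀ 1) i)
        (Subgroup.mem_center_iff.mp hz p)
      simp only [Subgroup.coe_mul, Units.val_mul, ← Matrix.mulVec_mulVec, hp, Function.comp_apply,
        Equiv.swap_apply_right] at h
      have hsingle : (Pi.single i₀ (1 : F) : Fin n → F) ∘ Equiv.swap i₀ i = Pi.single i 1 := by
        funext l
        by_cases hl : l = i
        · subst hl; simp
        · simp only [Function.comp_apply, Pi.single_apply, hl, if_false]
          rw [if_neg]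
          intro e
          apply hl
          have h' := congrArg (Equiv.swap i₀ i) e
          rwa [Equiv.swap_apply_self, Equiv.swap_apply_left] at h'
      rw [hsingle] at h
      simpa using h.symm
    have hc0 : z.1.1 i₀ i₀ ≠ 0 := fun h0 => by
      apply (Matrix.GeneralLinearGroup.det z.1).ne_zero
      refine Matrix.det_eq_zero_of_row_eq_zero i₀ fun j => ?_
      by_cases hj : i₀ = j
      · subst hj; exact h0
      · exact hoff _ _ hj
    have hzdiag : z.1.1 = Matrix.diagonal fun _ => z.1.1 i₀ i₀ := by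
      ext i j
      by_cases hij : i = j
      · subst hij; simp [hsame i]
      · simp [hij, hoff i j hij]
    refine ⟨Units.mk0 _ hc0, ?_, Units.ext ?_⟩
    · rw [hμmem, Units.val_mk0]
      have h := z.2 (Pi.single i₀ 1) (Pi.single i₀ 1)
      simp only [Cfsg.hermForm, Units.coeHom_apply, Matrix.mulVec_single_one, Matrix.col_apply] at h
      rw [Finset.sum_eq_single i₀ (fun l _ hl => by simp [hoff l i₀ hl, zero_pow hq0]) (by simp),
        Finset.sum_eq_single i₀ (fun l _ hl => by simp [hl]) (by simp)] at h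
      simpa using h
    · show z.1.1.det = _
      conv_lhs => rw [hzdiag]
      simp
  -- the homomorphism
  haveI : IsCyclic μ := inferInstance
  let ε : μ ≃* Multiplicative (ZMod N) :=
    (zmodCyclicMulEquiv (G := μ) inferInstance).symm.trans
      ((ZMod.ringEquivCongr hμcard).toAddEquiv.toMultiplicative)
  have hdN : d ∣ N := Nat.gcd_dvd_right n N
  let φ₀ : μ →* Multiplicative (ZMod d) :=
    (AddMonoidHom.toMultiplicative (ZMod.castHom hdN (ZMod d)).toAddMonoidHom).comp ε.toMonoidHom
  let δ : ↥(Cfsg.GU n F q) →* μ :=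
    (Matrix.GeneralLinearGroup.det.comp (Cfsg.GU n F q).subtype).codRestrict μ hdet
  haveI : NeZero N := ⟨by omega⟩
  have hφ₀ : ∀ a : μ, φ₀ a = 1 → ∃ c : μ, a = c ^ n := by
    intro a ha
    have hx : (ZMod.castHom hdN (ZMod d)) (Multiplicative.toAdd (ε a)) = 0 := ha
    obtain ⟨y, hy⟩ : ∃ y : ℕ, d * y = (Multiplicative.toAdd (ε a)).val := by
      rw [← ZMod.natCast_zmod_val (Multiplicative.toAdd (ε a)), map_natCast,
        ZMod.natCast_eq_zero_iff] at hx
      exact ⟨_, Nat.mul_div_cancel' hx⟩
    refine ⟨ε.symm (Multiplicative.ofAdd ((Nat.gcdA n N : ZMod N) * (y : ZMod N))), ?_⟩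
    apply ε.injective
    rw [map_pow, MulEquiv.apply_symm_apply, ← ofAdd_nsmul, nsmul_eq_mul]
    apply Multiplicative.toAdd.injective
    rw [toAdd_ofAdd, ← ZMod.natCast_zmod_val (Multiplicative.toAdd (ε a)), ← hy, Nat.cast_mul]
    have hb : ((d : ℤ) : ZMod N) = ((n * Nat.gcdA n N + N * Nat.gcdB n N : ℤ) : ZMod N) := by
      rw [hd, Nat.gcd_eq_gcd_ab]
    push_cast at hb
    rw [hb, ZMod.natCast_self]
    ring
  have hpow : ∀ c : μ, φ₀ (c ^ n) = 1 := by
    intro c
    show Multiplicative.ofAdd ((ZMod.castHom hdN (ZMod d)) (Multiplicative.toAdd (ε (c ^ n)))) = 1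
    rw [map_pow, toAdd_pow, map_nsmul, nsmul_eq_mul,
      (ZMod.natCast_eq_zero_iff n d).mpr (Nat.gcd_dvd_left n N), zero_mul, ofAdd_zero]
  refine ⟨φ₀.comp δ, ?_, ?_⟩
  · have h₀ : Function.Surjective φ₀ := by
      intro a
      obtain ⟨b, hb⟩ := ZMod.castHom_surjective hdN (Multiplicative.toAdd a)
      refine ⟨ε.symm (Multiplicative.ofAdd b), ?_⟩
      show Multiplicative.ofAdd ((ZMod.castHom hdN (ZMod d))
        (Multiplicative.toAdd (ε (ε.symm (Multiplicative.ofAdd b))))) = a
      rw [MulEquiv.apply_symm_apply, toAdd_ofAdd, hb, ofAdd_toAdd]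
    have hδ : Function.Surjective δ := by
      intro u
      let i₀ : Fin n := ⟨0, by omega⟩
      refine ⟨⟨_, hdiag (Pi.mulSingle i₀ u.1) (fun l => by
        by_cases hl : l = i₀
        · subst hl; simp
        · simp [hl])⟩, Subtype.ext (Units.ext ?_)⟩
      show (Matrix.diagonal fun l => ((Pi.mulSingle i₀ u.1 : Fin n → Fˣ) l : F)).det = _
      rw [Matrix.det_diagonal, Finset.prod_eq_single i₀ (fun l _ hl => by simp [hl]) (by simp)]
      simp
    exact h₀.comp hδ
  · apply le_antisymm
    · intro g hg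
      obtain ⟨c, hc⟩ := hφ₀ (δ g) hg
      let C : ↥(Cfsg.GU n F q) := ⟨_, hdiag (fun _ => c.1) (fun _ => c.2)⟩
      have hC : C.1.1 = Matrix.scalar (Fin n) (c.1 : F) := rfl
      have hCc : C ∈ Subgroup.center ↥(Cfsg.GU n F q) := by
        rw [Subgroup.mem_center_iff]
        intro h
        refine Subtype.ext (Units.ext ?_)
        show h.1.1 * C.1.1 = C.1.1 * h.1.1
        rw [hC]
        exact ((Matrix.scalar_commute _ (fun r => Commute.all _ r) _).eq).symm
      have : g = g * C⁻¹ * C := by group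
      rw [this]
      refine Subgroup.mul_mem_sup ?_ hCc
      rw [Subgroup.mem_subgroupOf, MonoidHom.mem_ker]
      show Matrix.GeneralLinearGroup.det (g.1 * C.1⁻¹) = 1
      rw [map_mul, map_inv, mul_inv_eq_one]
      have h1 : Matrix.GeneralLinearGroup.det g.1 = c.1 ^ n := congrArg Subtype.val hc
      rw [h1]
      apply Units.ext
      show _ = C.1.1.det
      rw [hC]
      simp
    · rw [sup_le_iff]
      constructor
      · intro g hg
        rw [Subgroup.mem_subgroupOf, MonoidHom.mem_ker] at hg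
        have : δ g = 1 := Subtype.ext hg
        show φ₀ (δ g) = 1
        rw [this, map_one]
      · intro z hz
        obtain ⟨c, hc, hzc⟩ := hcenter z hz
        show φ₀ (δ z) = 1
        rw [show δ z = (⟨c, hc⟩ : μ) ^ n from Subtype.ext hzc]
        exact hpow _

end Cfsg.Agent.S0783
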