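import Cfsg.Statements.S0785
import Cfsg.Agent.Lib.Orth.Reflection

set_option autoImplicit false
open Cfsg

namespace Cfsg.Agent.S0785

/-- det(I) = {±1}: for a quadratic form on F^n whose polar form is non-degenerate, every element of the isometry group has determinant 1 or −1, and as soon as Q takes a non-zero value some isometry has determinant −1. -/
theorem result {F : Type*} [Field F] {n : ℕ} (Q : QuadraticForm F (Fin n → F)) (hQ : (QuadraticMap.polarBilin Q).Nondegenerate) : (∀ g : ↥(Cfsg.isometryGroup F ⇑Q), ((g : Matrix.GeneralLinearGroup (Fin n) F) : Matrix (Fin n) (Fin n) F).det = 1 ∨ ((g : Matrix.GeneralLinearGroup (Fin n) F) : Matrix (Fin n) (Fin n) F).det = -1) ∧ ((∃ v, Q v ≠ 0) → ∃ g : ↥(Cfsg.isometryGroup F ⇑Q), ((g : Matrix.GeneralLinearGroup (Fin n) F) : Matrix (Fin n) (Fin n) F).det = -1) := by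
  have hnd := CfsgLib.Orth.ndPolar_iff.mpr hQ
  refine ⟨fun g => ?_, ?_⟩
  · by_cases hF : ∃ t : F, t ≠ 0 ∧ t ≠ 1
    · have hgen := CfsgLib.Orth.closure_reflectionMatrix Q hnd (Or.inl hF)
      have hg := hgen.ge (Subgroup.mem_top g)
      induction hg using Subgroup.closure_induction with
      | one => exact Or.inl (by simp)
      | mem x hx =>
        obtain ⟨v, hv, hx⟩ := hx
        rw [hx]
        exact Or.inr (CfsgLib.Orth.det_reflectionMatrix Q hv)
      | mul x y _ _ hx hy =>
        simp only [Subgroup.coe_mul, Units.val_mul, Matrix.det_mul]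
        rcases hx with hx | hx <;> rcases hy with hy | hy <;> simp [hx, hy]
      | inv x _ hx =>
        have h : (x.1⁻¹.1).det * x.1.1.det = 1 := by
          rw [← Matrix.det_mul, Units.inv_mul, Matrix.det_one]
        simp only [Subgroup.coe_inv]
        rcases hx with hx | hx <;> rw [hx] at h
        · exact Or.inl (by linear_combination h)
        · exact Or.inr (by linear_combination -h)
    · push Not at hF
      exact Or.inl (hF _ (g.1.isUnit.map Matrix.detMonoidHom).ne_zero)
  · rintro ⟨v, hv⟩
    refine ⟨(CfsgLib.Classical.Quad.isometryGroupEquiv Q fun _ => rfl).symm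
      (CfsgLib.Classical.Quad.refl Q v), ?_⟩
    rw [(CfsgLib.Orth.isometryGroupEquiv_refl Q _ v).mpr (MulEquiv.apply_symm_apply _ _)]
    exact CfsgLib.Orth.det_reflectionMatrix Q hv

end Cfsg.Agent.S0785
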