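import Cfsg.Statements.S0787
import Cfsg.Agent.Lib.Orth.NegOne

set_option autoImplicit false
open Cfsg

namespace Cfsg.Agent.S0787

/-- Existence and uniqueness of Ω: if F is finite, n ≥ 2, Q is a quadratic form on F^n with non-degenerate polar form and (|F|, n) ≠ (2, 4), then the group of isometries of determinant one has a unique subgroup of index 2. -/
theorem result {F : Type*} [Field F] [Fintype F] {n : ℕ} (hn : 2 ≤ n) (Q : QuadraticForm F (Fin n → F)) (hQ : (QuadraticMap.polarBilin Q).Nondegenerate) (h : Fintype.card F ≠ 2 ∨ n ≠ 4) : ∃! H : Subgroup ↥(Cfsg.specialIsometryGroup F ⇑Q), H.index = 2 := by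
  classical
  by_cases h2 : (2 : F) = 0
  · haveI : CharP F 2 := CharTwo.of_one_ne_zero_of_two_eq_zero one_ne_zero h2
    have hnd := CfsgLib.Orth.ndPolar_iff.mpr hQ
    have hF : (∃ t : F, t ≠ 0 ∧ t ≠ 1) ∨ Fintype.card (Fin n) ≠ 4 := by
      rcases h with h | h
      · exact Or.inl (CfsgLib.Orth.exists_ne_zero_ne_one_of_card h)
      · exact Or.inr (by simpa using h)
    have hgen := CfsgLib.Orth.closure_reflectionMatrix Q hnd hF
    have hSO : Cfsg.specialIsometryGroup F ⇑Q = ⊤ := by
      rw [eq_top_iff, ← hgen, Subgroup.closure_le]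
      rintro g ⟨v, hv, hg⟩
      show Matrix.GeneralLinearGroup.det g.1 = 1
      ext
      simp [hg, CfsgLib.Orth.det_reflectionMatrix Q hv, CharTwo.neg_eq]
    have hne : ∃ v, Q v ≠ 0 := by
      by_contra! hcon
      have h1 := hnd (Pi.single ⟨0, by omega⟩ 1) fun y => by simp [QuadraticMap.polar, hcon]
      simpa using congrFun h1 ⟨0, by omega⟩
    have hidx := CfsgLib.Orth.index_Omega_char_two Q hnd hF hne
    have huniq : ∀ H : Subgroup ↥(Cfsg.isometryGroup F ⇑Q), H.index = 2 → H = Cfsg.Omega F ⇑Q := by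
      intro H hH
      let χ : ↥(Cfsg.isometryGroup F ⇑Q) →* ℤˣ := MonoidHom.mk' (fun g => if g ∈ H then 1 else -1)
        (by
          intro g k
          have := Subgroup.mul_mem_iff_of_index_two hH (a := g) (b := k)
          by_cases hg : g ∈ H <;> by_cases hk : k ∈ H <;> simp_all)
      have hle : Cfsg.Omega F ⇑Q ≤ H := fun g hg => by
        have h1 := MonoidHom.mem_ker.mp (Abelianization.commutator_subset_ker χ hg)
        by_contra hgH
        simp [χ, hgH] at h1
      have h3 := Subgroup.relIndex_mul_index hle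
      rw [hH, hidx] at h3
      exact le_antisymm (Subgroup.relIndex_eq_one.mp (by omega)) hle
    have hsub : Function.Surjective (Cfsg.specialIsometryGroup F ⇑Q).subtype := fun g =>
      ⟨⟨g, by rw [hSO]; trivial⟩, rfl⟩
    refine ⟨(Cfsg.Omega F ⇑Q).comap (Cfsg.specialIsometryGroup F ⇑Q).subtype, ?_, fun H hH => ?_⟩
    · show ((Cfsg.Omega F ⇑Q).comap _).index = 2
      rw [Subgroup.index_comap_of_surjective _ hsub, hidx]
    · have hb : Function.Bijective (Cfsg.specialIsometryGroup F ⇑Q).subtype :=
        ⟨Subtype.val_injective, hsub⟩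
      rw [← huniq (H.map (Cfsg.specialIsometryGroup F ⇑Q).subtype)
        (by rw [Subgroup.index_map_of_bijective hb]; exact hH),
        Subgroup.comap_map_eq_self_of_injective hb.1]
  · exact CfsgLib.OrthNegOne.unique_index_two_SO h2 hn Q hQ

end Cfsg.Agent.S0787
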