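import Cfsg.Statements.S0796
import Mathlib

set_option autoImplicit false
open Cfsg

namespace Cfsg.Agent.S0796

/-- If G is finite and acts faithfully and primitively on X, H is the stabiliser of a point, A is a normal subgroup of H whose normal closure in G is G, then for every non-trivial normal subgroup K of G the quotient G ⧸ K is isomorphic to A ⧸ B for some normal subgroup B of A. -/
theorem result {G X : Type*} [Group G] [Finite G] [MulAction G X] [FaithfulSMul G X] (hprim : MulAction.IsPreprimitive G X) (x : X) (A : Subgroup G) (hA : A ≤ MulAction.stabilizer G x) (hAn : (A.subgroupOf (MulAction.stabilizer G x)).Normal) (hgen : Subgroup.normalClosure (A : Set G) = ⊤) (K : Subgroup G) [K.Normal] (hK : K ≠ ⊥) : ∃ (B : Subgroup A) (_ : B.Normal), Nonempty (G ⧸ K ≃* A ⧸ B) := by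
  obtain ⟨a, ha, ha1⟩ : ∃ a ∈ K, a ≠ 1 := (K.ne_bot_iff_exists_ne_one).mp hK |>.elim
    (fun a ha => ⟨a, a.2, fun h => ha (Subtype.ext h)⟩)
  obtain ⟨x', hx'⟩ : ∃ x' : X, a • x' ≠ x' := by
    by_contra h
    simp only [not_exists, not_not] at h
    exact ha1 (FaithfulSMul.eq_of_smul_eq_smul (α := X) (fun z => by rw [h z, one_smul]))
  haveI : MulAction.IsPretransitive K X :=
    MulAction.IsQuasiPreprimitive.isPretransitive_of_normal (fun h => by
      have h1 : x' ∈ MulAction.fixedPoints K X := h ▸ Set.mem_univ x'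
      exact hx' (h1 ⟨a, ha⟩))
  have htop : A ⊔ K = ⊤ := by
    have hn : (A ⊔ K).Normal := by
      refine ⟨fun n hn g => ?_⟩
      obtain ⟨k, hk⟩ := MulAction.exists_smul_eq K (g • x) x
      have hstab : (k : G) * g ∈ MulAction.stabilizer G x := by
        rw [MulAction.mem_stabilizer_iff, mul_smul]
        exact hk
      rw [← SetLike.mem_coe, Subgroup.mul_normal] at hn
      obtain ⟨b, hb, c, hc, rfl⟩ := Set.mem_mul.mp hn
      have hb' : (k : G) * g * b * ((k : G) * g)⁻¹ ∈ A := by
        have := hAn.conj_mem ⟨b, hA hb⟩ (by simpa [Subgroup.mem_subgroupOf] using hb) ⟨_, hstab⟩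
        simpa [Subgroup.mem_subgroupOf] using this
      have hbA : g * b * g⁻¹ ∈ A ⊔ K := by
        have e : g * b * g⁻¹ = (k : G)⁻¹ * ((k : G) * g * b * ((k : G) * g)⁻¹) * (k : G) := by group
        rw [e]
        exact mul_mem (mul_mem (Subgroup.mem_sup_right (inv_mem k.2)) (Subgroup.mem_sup_left hb'))
          (Subgroup.mem_sup_right k.2)
      rw [show g * (b * c) * g⁻¹ = (g * b * g⁻¹) * (g * c * g⁻¹) by group]
      exact mul_mem hbA (Subgroup.mem_sup_right ((inferInstance : K.Normal).conj_mem c hc g))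
    exact top_unique (hgen ▸ Subgroup.normalClosure_le_normal (fun z hz => Subgroup.mem_sup_left hz))
  let φ : A →* G ⧸ K := (QuotientGroup.mk' K).comp A.subtype
  have hsurj : Function.Surjective φ := by
    intro z
    obtain ⟨g, rfl⟩ := QuotientGroup.mk'_surjective K z
    have hg : g ∈ A ⊔ K := htop ▸ Subgroup.mem_top g
    rw [← SetLike.mem_coe, Subgroup.mul_normal] at hg
    obtain ⟨b, hb, c, hc, rfl⟩ := Set.mem_mul.mp hg
    refine ⟨⟨b, hb⟩, ?_⟩
    simp [φ, (QuotientGroup.eq_one_iff c).mpr hc]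
  exact ⟨φ.ker, inferInstance, ⟨(QuotientGroup.quotientKerEquivOfSurjective φ hsurj).symm⟩⟩

end Cfsg.Agent.S0796
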