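import Cfsg.Statements.S0799
import Cfsg.Agent.Lib.PSL2Sub.PSL
-- import your own Cfsg.Agent.* helpers here

set_option autoImplicit false
open Cfsg

namespace Cfsg.Agent.S0799

/-- Dickson's classification of the subgroups of PSL_2(q), q a power of the prime p, d = gcd(2, q − 1): every subgroup H is (a) cyclic or dihedral with k dividing (q+1)/d or (q−1)/d (cyclic of order k, or dihedral of order 2k), (b) isomorphic to a subgroup of the normaliser of a Sylow p-subgroup, (c) isomorphic to A_4, S_4 or A_5, or (d) isomorphic to PSL_2(K) or PGL_2(K) for a finite field K with |K|^m = q. -/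
theorem result {F : Type*} [Field F] [Fintype F] {q : ℕ} (hF : Fintype.card F = q) (p : ℕ) [Fact p.Prime] [CharP F p] (H : Subgroup (Matrix.ProjectiveSpecialLinearGroup (Fin 2) F)) : (∃ k : ℕ, (k ∣ (q + 1) / Nat.gcd 2 (q - 1) ∨ k ∣ (q - 1) / Nat.gcd 2 (q - 1)) ∧ ((IsCyclic H ∧ Nat.card H = k) ∨ Nonempty (H ≃* DihedralGroup k))) ∨ (∃ (P : Sylow p (Matrix.ProjectiveSpecialLinearGroup (Fin 2) F)) (K : Subgroup (Matrix.ProjectiveSpecialLinearGroup (Fin 2) F)), K ≤ Subgroup.normalizer ((P : Subgroup (Matrix.ProjectiveSpecialLinearGroup (Fin 2) F)) : Set (Matrix.ProjectiveSpecialLinearGroup (Fin 2) F)) ∧ Nonempty (H ≃* K)) ∨ Nonempty (H ≃* alternatingGroup (Fin 4)) ∨ Nonempty (H ≃* Equiv.Perm (Fin 4)) ∨ Nonempty (H ≃* alternatingGroup (Fin 5)) ∨ (∃ (K : Type) (_ : Field K) (_ : Fintype K) (m : ℕ), Fintype.card K ^ m = q ∧ (Nonempty (H ≃* Matrix.ProjectiveSpecialLinearGroup (Fin 2) K) ∨ Nonempty (H ≃* Matrix.ProjGenLinGroup (Fin 2) K))) := by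
  classical
  subst hF
  rcases CfsgLib.PSL2Sub.classify_psl p H with h | ⟨k, -, -, hk, hd⟩ | h | h | h | h | ⟨E, hE⟩
  · exact Or.inl ⟨_, h.2.2, Or.inl ⟨h.1, rfl⟩⟩
  · exact Or.inl ⟨k, hk, Or.inr hd⟩
  · obtain ⟨hdvd, y, hy⟩ := h
    obtain ⟨u, hu⟩ := exists_prime_orderOf_dvd_card' p hdvd
    rw [← Subgroup.orderOf_coe] at hu
    obtain ⟨P, hP⟩ := CfsgLib.PSL2Sub.exists_sylow_normalized p (u := u.1)
      (fun e => by rw [e, orderOf_one] at hu; exact (Fact.out : p.Prime).one_lt.ne hu)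
      (by rw [← hu, pow_orderOf_eq_one]) (hy u.1 u.2)
    exact Or.inr (Or.inl ⟨P, H, fun g hg => hP g (hy g hg), ⟨MulEquiv.refl H⟩⟩)
  · exact Or.inr (Or.inr (Or.inl h.2))
  · exact Or.inr (Or.inr (Or.inr (Or.inl h.2)))
  · exact Or.inr (Or.inr (Or.inr (Or.inr (Or.inl h.2))))
  · refine Or.inr (Or.inr (Or.inr (Or.inr (Or.inr ?_))))
    obtain ⟨m, -, hm⟩ := CfsgLib.PSL2Sub.card_subfield_pow E
    haveI : CharP E p := (RingHom.charP_iff E.subtype Subtype.coe_injective p).mpr inferInstance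
    letI := Fintype.ofFinite E
    obtain ⟨n, -, hn⟩ := FiniteField.card E p
    letI := Fintype.ofFinite (GaloisField p (n : ℕ))
    have hcard : Fintype.card (GaloisField p (n : ℕ)) = Fintype.card E := by
      rw [← Nat.card_eq_fintype_card, GaloisField.card p n n.ne_zero, hn]
    let e : E ≃+* GaloisField p (n : ℕ) := FiniteField.ringEquivOfCardEq hcard.symm
    refine ⟨GaloisField p (n : ℕ), inferInstance, inferInstance, m, ?_, ?_⟩
    · rw [hcard, ← Nat.card_eq_fintype_card, hm]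
    · rcases hE with h | ⟨-, h⟩
      · exact Or.inr (h.map fun d => d.trans (CfsgLib.PSL2Sub.nonempty_pgEquiv e).some)
      · exact Or.inl (h.map fun d => d.trans (CfsgLib.PSL2Sub.nonempty_pslEquiv e).some)

end Cfsg.Agent.S0799
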