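import Cfsg.Statements.S0800
import Cfsg.Agent.Lib.SL2Trace.Orders
-- import your own Cfsg.Agent.* helpers here

set_option autoImplicit false
open Cfsg

namespace Cfsg.Agent.S0800

/-- Tori of SL_2(q): if g ∈ SL_2(q) has order coprime to the characteristic p, then the order of g divides q − 1 or q + 1. -/
theorem result {F : Type*} [Field F] [Fintype F] {q : ℕ} (hF : Fintype.card F = q) (p : ℕ) [Fact p.Prime] [CharP F p] (g : Matrix.SpecialLinearGroup (Fin 2) F) (hg : Nat.Coprime (orderOf g) p) : orderOf g ∣ q - 1 ∨ orderOf g ∣ q + 1 := by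
  subst hF
  by_cases h : (g : Matrix (Fin 2) (Fin 2) F).trace ^ 2 = 4
  · left
    have hc := CfsgLib.SL2Trace.pow_char_mem_center p g h
    have h2 := CfsgLib.SL2Trace.mul_self_eq_one_of_mem_center hc
    rw [← pow_two, ← pow_mul] at h2
    have hd : orderOf g ∣ 2 := (Nat.Coprime.dvd_of_dvd_mul_left hg (orderOf_dvd_of_pow_eq_one h2))
    rcases (Nat.dvd_prime Nat.prime_two).mp hd with h1 | h1
    · rw [h1]; exact one_dvd _
    · rw [h1] at hg ⊢
      obtain ⟨n, -, hn⟩ := FiniteField.card F p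
      have hp2 : p ≠ 2 := fun e => by rw [e] at hg; exact absurd hg (by decide)
      have : Odd (Fintype.card F) := hn ▸ ((Fact.out : p.Prime).odd_of_ne_two hp2).pow
      obtain ⟨m, hm⟩ := this
      exact ⟨m, by omega⟩
  · obtain ⟨h1, h2⟩ := CfsgLib.SL2Trace.pow_eq_one_of_regular g h
    by_cases hu : ∃ u : F, u ^ 2 - (g : Matrix (Fin 2) (Fin 2) F).trace * u + 1 = 0
    · exact Or.inl (orderOf_dvd_of_pow_eq_one (h1 hu))
    · exact Or.inr (orderOf_dvd_of_pow_eq_one (h2 hu))

end Cfsg.Agent.S0800
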