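import Cfsg.Statements.S0817
import Cfsg.Agent.Lib.AutPOmega.PlusResults

set_option autoImplicit false
open Cfsg

namespace Cfsg.Agent.S0817

/-- |Aut(PΩ⁺_2m(q))| for q = p^f, m ≥ 4: |PΩ⁺_2m(q)| times f, times 3 when m = 4, times 2 if p = 2, and times 8 or 4 if p is odd according as m(q−1)/2 is even or odd. -/
theorem result {F : Type*} [Field F] [Fintype F] (p f : ℕ) [Fact p.Prime] (hf : 1 ≤ f) (hF : Fintype.card F = p ^ f) (m : ℕ) (hm : 4 ≤ m) : Nat.card (MulAut (Cfsg.POmega F (Cfsg.quadFormPlus m F))) = (if m = 4 then 3 else 1) * (if p = 2 then 2 else (if Even (m * (p ^ f - 1) / 2) then 8 else 4)) * f * Nat.card (Cfsg.POmega F (Cfsg.quadFormPlus m F)) := by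
  haveI : CharP F p := charP_of_card_eq_prime_pow hF
  rw [CfsgLib.AutPOmega.card_aut_plus p f hF m hm]
  have key : 2 * Nat.gcd 4 (Nat.card F ^ m - 1) =
      (if p = 2 then 2 else (if Even (m * (p ^ f - 1) / 2) then 8 else 4)) := by
    rw [Nat.card_eq_fintype_card, hF]
    split_ifs with h2 he
    · subst h2
      have ho : Odd ((2 ^ f) ^ m - 1) := Nat.Even.sub_odd (Nat.one_le_pow _ _ (by positivity))
        ((Even.pow_of_ne_zero (by decide : Even 2) (by omega)).pow_of_ne_zero (by omega)) odd_one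
      rw [show Nat.gcd 4 ((2 ^ f) ^ m - 1) = 1 from
        Nat.Coprime.pow_left 2 (Nat.coprime_two_left.2 ho)]
    all_goals
      obtain ⟨t, ht⟩ := ((Fact.out : p.Prime).odd_of_ne_two h2).pow (n := f)
      rw [ht, show m * (2 * t + 1 - 1) / 2 = m * t by
        rw [Nat.add_sub_cancel, Nat.mul_left_comm, Nat.mul_div_cancel_left _ two_pos]] at he
      rw [CfsgLib.AutPOmega.gcd_plus_odd t m ht]
    · rw [if_pos he]
    · rw [if_neg he]
  rw [key, ← mul_assoc]

end Cfsg.Agent.S0817
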