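import Cfsg.Statements.S0818
import Cfsg.Agent.Lib.AutPOmega.Lifts


set_option autoImplicit false
open Cfsg

namespace Cfsg.Agent.S0818

theorem gcd_eq (p f : ℕ) (hp : p.Prime) (hf : 1 ≤ f) (m : ℕ) {q : ℕ} (hq : q = p ^ f) (hm : 1 ≤ m) :
    2 * Nat.gcd 4 (q ^ m + 1) =
      if p = 2 then 2 else (if Even (m * (p ^ f - 1) / 2) then 4 else 8) := by
  subst hq
  split_ifs with h2 he
  · subst h2
    have ho : Odd ((2 ^ f) ^ m + 1) :=
      ((Even.pow_of_ne_zero (by decide : Even 2) (by omega)).pow_of_ne_zero (by omega)).add_one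
    rw [show Nat.gcd 4 ((2 ^ f) ^ m + 1) = 1 from
      Nat.Coprime.pow_left 2 (Nat.coprime_two_left.2 ho)]
  all_goals
    have hpo : Odd p := hp.odd_of_ne_two h2
    obtain ⟨t, ht⟩ := hpo.pow (n := f)
    rw [ht] at he ⊢
    rw [show m * (2 * t + 1 - 1) / 2 = m * t by
      rw [Nat.add_sub_cancel, Nat.mul_left_comm, Nat.mul_div_cancel_left _ two_pos]] at he
    have hmod : ((2 * t + 1) ^ m + 1) % 4 = if Even (m * t) then 2 else 0 := by
      rcases Nat.even_or_odd t with hte | hto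
      · rw [if_pos (hte.mul_left m)]
        obtain ⟨u, hu⟩ := hte
        rw [Nat.add_mod, Nat.pow_mod, show (2 * t + 1) % 4 = 1 by omega, one_pow]
        rfl
      · obtain ⟨u, hu⟩ := hto
        rw [Nat.add_mod, Nat.pow_mod, show (2 * t + 1) % 4 = 3 by omega]
        rcases Nat.even_or_odd m with hme | hmo
        · rw [if_pos (hme.mul_right t)]
          obtain ⟨v, rfl⟩ := hme
          rw [← two_mul, pow_mul, Nat.pow_mod]
          simp
        · rw [if_neg (Nat.not_even_iff_odd.2 (hmo.mul ⟨u, hu⟩))]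
          obtain ⟨v, rfl⟩ := hmo
          rw [pow_succ, pow_mul, Nat.mul_mod, Nat.pow_mod]
          simp
  · rw [if_pos he] at hmod
    rw [Nat.gcd_rec, hmod]
    rfl
  · rw [if_neg he] at hmod
    rw [Nat.gcd_rec, hmod]
    rfl

/-- |Aut(PΩ⁻_2m(q))| for q = p^f, m ≥ 4 (form quadFormMinus (m−1) with anisotropic binary part): |PΩ⁻_2m(q)| times f, times 2 if p = 2, and times 4 or 8 if p is odd according as m(q−1)/2 is even or odd. -/
theorem result {F : Type*} [Field F] [Fintype F] (p f : ℕ) [Fact p.Prime] (hf : 1 ≤ f) (hF : Fintype.card F = p ^ f) (m : ℕ) (hm : 4 ≤ m) (a b : F) (hab : ∀ z₁ z₂ : F, z₁ ^ 2 + a * z₁ * z₂ + b * z₂ ^ 2 = 0 → z₁ = 0 ∧ z₂ = 0) : Nat.card (MulAut (Cfsg.POmega F (Cfsg.quadFormMinus (m - 1) F a b))) = (if p = 2 then 2 else (if Even (m * (p ^ f - 1) / 2) then 4 else 8)) * f * Nat.card (Cfsg.POmega F (Cfsg.quadFormMinus (m - 1) F a b)) := by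
  haveI : CharP F p := charP_of_card_eq_prime_pow hF
  obtain ⟨k, rfl⟩ : ∃ k, m = k + 1 := ⟨m - 1, by omega⟩
  rw [Nat.add_sub_cancel, CfsgLib.AutPOmega.card_aut_minus p f hF hab k (by omega),
    gcd_eq p f (Fact.out : p.Prime) hf (k + 1) (by rw [Nat.card_eq_fintype_card, hF]) (by omega)]

end Cfsg.Agent.S0818
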