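import Mathlib.LinearAlgebra.Matrix.ProjectiveSpecialLinearGroup
import Mathlib.LinearAlgebra.Matrix.ToLin
import Mathlib.LinearAlgebra.Matrix.NonsingularInverse
import Mathlib.FieldTheory.Finite.Basic
import Mathlib.LinearAlgebra.FiniteDimensional.Lemmas
import Cfsg.Statements.S0820

/-!
Involutions of `PSL₃` in characteristic 2 form one class.
-/

set_option autoImplicit false
open Cfsg

namespace Cfsg.Agent.S0820

open Matrix

variable {F : Type*} [Field F]

/-- The reference involution `1 + E₀₂`. -/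
def t₀ : Matrix.SpecialLinearGroup (Fin 3) F :=
  Matrix.SpecialLinearGroup.transvection (by decide : (0 : Fin 3) ≠ 2) (1 : F)

theorem exists_conj_t₀ [CharP F 2] (t : Matrix.SpecialLinearGroup (Fin 3) F) (h2 : t * t = 1)
    (h1 : t ≠ 1) : ∃ g : Matrix.SpecialLinearGroup (Fin 3) F, t * g = g * t₀ := by
  classical
  let f : (Fin 3 → F) →ₗ[F] (Fin 3 → F) :=
    Matrix.toLin' ((t : Matrix (Fin 3) (Fin 3) F) - 1)
  have hf : ∀ x, f x = (t : Matrix (Fin 3) (Fin 3) F) *ᵥ x - x := fun x => by
    simp [f, Matrix.toLin'_apply, Matrix.sub_mulVec]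
  have htt : ∀ x, (t : Matrix (Fin 3) (Fin 3) F) *ᵥ ((t : Matrix (Fin 3) (Fin 3) F) *ᵥ x) = x :=
    fun x => by
      rw [Matrix.mulVec_mulVec, ← Matrix.SpecialLinearGroup.coe_mul, h2,
        Matrix.SpecialLinearGroup.coe_one, Matrix.one_mulVec]
  have hneg : ∀ v : Fin 3 → F, -v = v := fun v => funext fun i => CharTwo.neg_eq _
  have hff : ∀ x, f (f x) = 0 := fun x => by
    rw [hf (f x), hf, Matrix.mulVec_sub, htt, sub_eq_zero, ← neg_sub, hneg]
  obtain ⟨x, hx⟩ : ∃ x, f x ≠ 0 := by
    by_contra hc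
    push Not at hc
    apply h1
    apply Subtype.ext
    apply Matrix.toLin'.injective
    refine LinearMap.ext fun v => ?_
    rw [Matrix.toLin'_apply, Matrix.toLin'_apply, Matrix.SpecialLinearGroup.coe_one,
      Matrix.one_mulVec]
    have := hc v
    rwa [hf, sub_eq_zero] at this
  have hw : f x ≠ 0 := hx
  -- the range is a line
  have hle : LinearMap.range f ≤ LinearMap.ker f := by
    rintro _ ⟨v, rfl⟩; exact hff v
  have hrk := LinearMap.finrank_range_add_finrank_ker f
  rw [Module.finrank_fintype_fun_eq_card, Fintype.card_fin] at hrk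
  have hr1 : Module.finrank F (LinearMap.range f) ≤ 1 := by
    have := Submodule.finrank_mono hle
    omega
  have hline : ∀ v, ∃ c : F, c • f x = f v := fun v => by
    have heq : Submodule.span F {f x} = LinearMap.range f := by
      refine Submodule.eq_of_le_of_finrank_le ?_ ?_
      · rw [Submodule.span_singleton_le_iff_mem]; exact ⟨x, rfl⟩
      · rw [finrank_span_singleton hw]; exact hr1
    have : f v ∈ Submodule.span F {f x} := heq.symm ▸ ⟨v, rfl⟩
    exact Submodule.mem_span_singleton.mp this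
  -- a third vector
  have hli : LinearIndependent F ![f x, x] := by
    rw [LinearIndependent.pair_iff]
    intro a b hab
    have hb : b = 0 := by
      have := congrArg f hab
      rw [map_add, map_smul, map_smul, hff, smul_zero, zero_add, map_zero] at this
      exact (smul_eq_zero.mp this).resolve_right hw
    rw [hb, zero_smul, add_zero] at hab
    exact ⟨(smul_eq_zero.mp hab).resolve_right hw, hb⟩
  obtain ⟨y, hy⟩ : ∃ y, y ∉ Submodule.span F (Set.range ![f x, x]) := by
    by_contra hc
    push Not at hc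
    have htop : Submodule.span F (Set.range ![f x, x]) = ⊤ :=
      eq_top_iff.mpr fun v _ => hc v
    have h2' := finrank_span_eq_card hli
    rw [htop, finrank_top, Module.finrank_fintype_fun_eq_card] at h2'
    simp at h2'
  obtain ⟨c, hc⟩ := hline y
  set v := y - c • x with hv
  have hfv : f v = 0 := by rw [hv, map_sub, map_smul, hc, sub_self]
  have hvn : v ∉ Submodule.span F (Set.range ![f x, x]) := fun hmem => hy (by
    have hxm : c • x ∈ Submodule.span F (Set.range ![f x, x]) :=
      Submodule.smul_mem _ _ (Submodule.subset_span ⟨1, rfl⟩)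
    simpa [hv] using Submodule.add_mem _ hmem hxm)
  have hli3 : LinearIndependent F ![v, f x, x] := linearIndependent_finCons.mpr ⟨hli, hvn⟩
  let A : Matrix (Fin 3) (Fin 3) F := Matrix.of fun i j => ![v, f x, x] j i
  have hA : A.det ≠ 0 := by
    intro h0
    have : LinearIndependent F A.col := hli3
    rw [Matrix.linearIndependent_cols_iff_isUnit, Matrix.isUnit_iff_isUnit_det, h0] at this
    exact not_isUnit_zero this
  let G : Matrix (Fin 3) (Fin 3) F := Matrix.of fun i j => ![f x, A.det⁻¹ • v, x] j i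
  have hG : G.det = 1 := by
    have : G.det = -(A.det⁻¹ * A.det) := by
      simp only [Matrix.det_fin_three, G, A, Matrix.of_apply, Matrix.cons_val, Pi.smul_apply,
        smul_eq_mul]
      ring
    rw [this, inv_mul_cancel₀ hA, CharTwo.neg_eq]
  let g : Matrix.SpecialLinearGroup (Fin 3) F := ⟨G, hG⟩
  refine ⟨g, Subtype.ext ?_⟩
  rw [Matrix.SpecialLinearGroup.coe_mul, Matrix.SpecialLinearGroup.coe_mul]
  show (t : Matrix (Fin 3) (Fin 3) F) * G = G * (t₀ : Matrix.SpecialLinearGroup (Fin 3) F).1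
  rw [t₀, Matrix.SpecialLinearGroup.transvection_coe]
  have hcol : ∀ u, (t : Matrix (Fin 3) (Fin 3) F) *ᵥ u = u + f u := fun u => by rw [hf]; abel
  have key : ∀ j, (t : Matrix (Fin 3) (Fin 3) F) *ᵥ (![f x, A.det⁻¹ • v, x] j) =
      (![f x, A.det⁻¹ • v, x] j) + (if j = 2 then f x else 0) := fun j => by
    rw [hcol]
    fin_cases j
    · simp [hff]
    · simp [hfv]
    · simp
  ext i j
  have hl : ((t : Matrix (Fin 3) (Fin 3) F) * G) i j =
      ((t : Matrix (Fin 3) (Fin 3) F) *ᵥ (![f x, A.det⁻¹ • v, x] j)) i := by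
    simp [Matrix.mul_apply, Matrix.mulVec, dotProduct, G]
  rw [hl, key, Matrix.mul_apply, Fin.sum_univ_three]
  fin_cases j <;> simp [G, add_comm]

/-- Any two elements of order 2 of PSL_3(4) are conjugate. -/
theorem result {F : Type*} [Field F] [Fintype F] (hF : Fintype.card F = 4) (x y : Matrix.ProjectiveSpecialLinearGroup (Fin 3) F) (hx : orderOf x = 2) (hy : orderOf y = 2) : IsConj x y := by
  obtain ⟨n, hp, hn⟩ := FiniteField.card F (ringChar F)
  have h2 : ringChar F = 2 := by
    have hd : ringChar F ∣ 2 ^ 2 := by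
      rw [show (2 : ℕ) ^ 2 = 4 from rfl, ← hF, hn]; exact dvd_pow_self _ n.2.ne'
    exact (Nat.prime_dvd_prime_iff_eq hp Nat.prime_two).mp (hp.dvd_of_dvd_pow hd)
  have : CharP F 2 := h2 ▸ ringChar.charP F
  suffices H : ∀ z : Matrix.ProjectiveSpecialLinearGroup (Fin 3) F, orderOf z = 2 →
      IsConj (QuotientGroup.mk t₀ : Matrix.ProjectiveSpecialLinearGroup (Fin 3) F) z from
    (H x hx).symm.trans (H y hy)
  intro z hz
  obtain ⟨h, rfl⟩ := QuotientGroup.mk_surjective z
  have hm : h ^ 2 ∈ Subgroup.center (Matrix.SpecialLinearGroup (Fin 3) F) := by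
    rw [← QuotientGroup.eq_one_iff, QuotientGroup.mk_pow, ← hz, pow_orderOf_eq_one]
  obtain ⟨r, hr, hr'⟩ := Matrix.SpecialLinearGroup.mem_center_iff.mp hm
  rw [Fintype.card_fin] at hr
  let t : Matrix.SpecialLinearGroup (Fin 3) F :=
    ⟨r • (h : Matrix (Fin 3) (Fin 3) F), by
      rw [Matrix.det_smul, h.2, Fintype.card_fin, hr, one_mul]⟩
  have ht : (t : Matrix (Fin 3) (Fin 3) F) = r • (h : Matrix (Fin 3) (Fin 3) F) := rfl
  have htq : (QuotientGroup.mk t : Matrix.ProjectiveSpecialLinearGroup (Fin 3) F) =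
      QuotientGroup.mk h := by
    symm
    rw [QuotientGroup.eq]
    refine Matrix.SpecialLinearGroup.mem_center_iff.mpr ⟨r, by rwa [Fintype.card_fin], ?_⟩
    rw [Matrix.SpecialLinearGroup.coe_mul, ht, mul_smul_comm,
      ← Matrix.SpecialLinearGroup.coe_mul, inv_mul_cancel, Matrix.SpecialLinearGroup.coe_one]
    ext i j
    simp [Matrix.scalar, Matrix.diagonal_apply, Matrix.one_apply]
  have ht2 : t * t = 1 := by
    apply Subtype.ext
    rw [Matrix.SpecialLinearGroup.coe_mul, ht, smul_mul_smul_comm,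
      ← Matrix.SpecialLinearGroup.coe_mul, ← pow_two h, ← hr']
    ext i j
    rcases eq_or_ne i j with rfl | hij
    · simp [Matrix.scalar]; linear_combination hr
    · simp [Matrix.scalar, hij]
  have ht1 : t ≠ 1 := fun h1 => by
    rw [h1, QuotientGroup.mk_one] at htq
    rw [← htq, orderOf_one] at hz
    norm_num at hz
  obtain ⟨g, hg⟩ := exists_conj_t₀ t ht2 ht1
  rw [← htq, isConj_iff]
  refine ⟨QuotientGroup.mk g, ?_⟩
  rw [← QuotientGroup.mk_inv, ← QuotientGroup.mk_mul, ← QuotientGroup.mk_mul, ← hg,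
    mul_inv_cancel_right]

end Cfsg.Agent.S0820
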