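import Mathlib
import Cfsg.Agent.Lib.TwoRank.Basic
import Cfsg.Agent.Lib.TwoRank.Projective
import Cfsg.Agent.Lib.Orth.SignSubgroup
import Cfsg.Agent.Lib.OrthCrit.Forms
import Cfsg.Agent.Lib.Classical.Quad.Std
import Cfsg.Agent.Lib.Linear.Symplectic
import Cfsg.Statements.S0821

/-!
`PSp_2m(q) ≇ PΩ_(2m+1)(q)`: the 2-rank of the orthogonal group is at least `2m`.
-/

set_option autoImplicit false
open Cfsg

namespace Cfsg.Agent.S0821

open Matrix CfsgLib.Linear.Symp

variable {F : Type*} [Field F]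

/-- The symplectic form as a bilinear form. -/
def symBilin (m : ℕ) : LinearMap.BilinForm F (Fin m ⊕ Fin m → F) :=
  LinearMap.mk₂ F (sympForm m F) form_add_left (fun a u v => form_smul_left a u v) form_add_right
    (fun a u v => form_smul_right a u v)

theorem card_elementary_le {m : ℕ} [Finite F] (h2 : (2 : F) ≠ 0)
    (S : Subgroup (symplecticGroup (Fin m) F)) (hc : ∀ a ∈ S, ∀ b ∈ S, a * b = b * a)
    (he : ∀ a ∈ S, a * a = 1) : Nat.card S ≤ 2 ^ m := by
  letI : CommGroup S :=
    { (inferInstance : Group S) with mul_comm := fun a b => Subtype.ext (hc _ a.2 _ b.2) }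
  let ρ : S →* Module.End F (Fin m ⊕ Fin m → F) :=
    ((Matrix.toLinAlgEquiv' : Matrix (Fin m ⊕ Fin m) (Fin m ⊕ Fin m) F ≃ₐ[F] _).toAlgHom
      : Matrix (Fin m ⊕ Fin m) (Fin m ⊕ Fin m) F →* _).comp
      ((symplecticGroup (Fin m) F).subtype.comp S.subtype)
  have hinj : Function.Injective ρ :=
    (Matrix.toLinAlgEquiv'.injective).comp (Subtype.val_injective.comp Subtype.val_injective)
  have h := CfsgLib.TwoRank.sq_card_le_aux (m + m) h2
    (fun e : S => Subtype.ext (he _ e.2)) ρ hinj (symBilin m) (fun x => form_self x)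
    (fun x hx => eq_zero_of_forall_form hx)
    (fun e x y => form_smul_smul e.1 x y) (by simp)
  rw [pow_add] at h
  exact Nat.mul_self_le_mul_self_iff.mp h

theorem two_pow_le {m : ℕ} [Finite F] (h2 : (2 : F) ≠ 0) (hm : 1 ≤ m)
    (E : Subgroup (Cfsg.PSp m F)) (hE : ∀ a ∈ E, a * a = 1) (hcard : Nat.card E = 2 ^ (2 * m)) :
    2 ^ (2 * m) ≤ (m + m) * (m + m) := by
  classical
  let π := QuotientGroup.mk' (Subgroup.center (symplecticGroup (Fin m) F))
  let P : Subgroup (symplecticGroup (Fin m) F) := E.comap π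
  have hneg : (-1 : Matrix (Fin m ⊕ Fin m) (Fin m ⊕ Fin m) F) ∈ symplecticGroup (Fin m) F :=
    SymplecticGroup.neg_mem (Submonoid.one_mem _)
  let z0 : symplecticGroup (Fin m) F := ⟨-1, hneg⟩
  have hz0 : ∀ g : symplecticGroup (Fin m) F,
      g ∈ Subgroup.center (symplecticGroup (Fin m) F) ↔ g = 1 ∨ g = z0 := by
    intro g
    rw [mem_center_iff]
    constructor
    · rintro ⟨a, ha, hg⟩
      have ha' : a * a = 1 := by rw [← pow_two, ha]
      rcases mul_self_eq_one_iff.mp ha' with rfl | rfl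
      · exact Or.inl (group_ext fun x => by rw [hg, one_smul, one_smul])
      · refine Or.inr (group_ext fun x => ?_)
        rw [hg, smul_def]
        show _ = (-1 : Matrix _ _ F) *ᵥ x
        rw [neg_mulVec, one_mulVec, neg_one_smul]
    · rintro (rfl | rfl)
      · exact ⟨1, one_pow 2, fun x => by rw [one_smul, one_smul]⟩
      · refine ⟨-1, by ring, fun x => ?_⟩
        rw [smul_def]
        show (-1 : Matrix _ _ F) *ᵥ x = _
        rw [neg_mulVec, one_mulVec, neg_one_smul]
  have hzP : z0 ∈ P := by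
    show π z0 ∈ E
    rw [show π z0 = 1 from (QuotientGroup.eq_one_iff _).mpr ((hz0 _).mpr (Or.inr rfl))]
    exact E.one_mem
  have hne : z0 ≠ 1 := fun h => by
    have h' : (-1 : Matrix (Fin m ⊕ Fin m) (Fin m ⊕ Fin m) F) = 1 := congrArg Subtype.val h
    have := congrFun (congrFun h' (.inl ⟨0, hm⟩)) (.inl ⟨0, hm⟩)
    simp at this
    exact h2 (by linear_combination -this)
  have hsq : ∀ x : P, x * x = 1 ∨ x * x = ⟨z0, hzP⟩ := by
    intro x
    have h1 : (x.1 * x.1) ∈ Subgroup.center (symplecticGroup (Fin m) F) := by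
      rw [← QuotientGroup.eq_one_iff]
      exact hE _ x.2
    exact ((hz0 _).mp h1).imp (fun h => Subtype.ext h) (fun h => Subtype.ext h)
  have hcP : Nat.card P = 2 ^ (2 * m + 1) := by
    have hker : P = E.comap π := rfl
    have hc2 : Nat.card (Subgroup.center (symplecticGroup (Fin m) F)) = 2 := by
      have hset : (Subgroup.center (symplecticGroup (Fin m) F) : Set _) = {1, z0} :=
        Set.ext fun g => hz0 g
      have : Nat.card (Subgroup.center (symplecticGroup (Fin m) F)) =
          ({1, z0} : Set (symplecticGroup (Fin m) F)).ncard := by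
        rw [← hset]; rfl
      rw [this, Set.ncard_pair hne.symm]
    have h1 := P.card_mul_index
    rw [hker, Subgroup.index_comap_of_surjective E (QuotientGroup.mk'_surjective _)] at h1
    have h3 := (Subgroup.center (symplecticGroup (Fin m) F)).card_eq_card_quotient_mul_card_subgroup
    have h4 := E.card_mul_index
    rw [hcard] at h4
    rw [hc2, ← h4] at h3
    rw [h3] at h1
    refine Nat.eq_of_mul_eq_mul_right (Nat.pos_of_ne_zero (Subgroup.index_ne_zero_of_finite (H := E))) ?_
    rw [show P = E.comap π from rfl, h1, pow_succ]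
    ring
  have hS : ∀ S : Subgroup P, (∀ a ∈ S, ∀ b ∈ S, a * b = b * a) → (∀ a ∈ S, a * a = 1) →
      Nat.card S ≤ 2 ^ m := by
    intro S hc he
    rw [Nat.card_congr (S.equivMapOfInjective P.subtype Subtype.val_injective).toEquiv]
    refine card_elementary_le h2 _ ?_ ?_
    · rintro _ ⟨a, ha, rfl⟩ _ ⟨b, hb, rfl⟩
      exact congrArg Subtype.val (hc a ha b hb)
    · rintro _ ⟨a, ha, rfl⟩
      exact congrArg Subtype.val (he a ha)
  have := CfsgLib.TwoRank.two_pow_le_sq (P := P) (z := ⟨z0, hzP⟩) h2 m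
    ((symplecticGroup (Fin m) F).subtype.comp P.subtype)
    (Subtype.val_injective.comp Subtype.val_injective) rfl
    (fun h => hne (congrArg Subtype.val h)) hsq hS hcP
  simpa using this

theorem center_omega_odd (hodd : Odd (Nat.card F)) [Fintype F] {m : ℕ} (hm : 2 ≤ m) :
    Subgroup.center (Cfsg.Omega F (Cfsg.quadFormOdd m F)) = ⊥ := by
  open CfsgLib.Classical.Quad in
  have h2 := two_ne_zero_iff_odd.2 hodd
  open CfsgLib.Classical.Quad in
  have hr := ringChar_ne_two_of_odd hodd
  open CfsgLib.Classical.Quad in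
  have hnd := ndPolar_hypForm (ndPolar_lineForm h2) m
  open CfsgLib.Classical.Quad in
  let P := hypFrameKernel (R := lineForm F) hm 1 (by simp [lineForm_apply])
  open CfsgLib.Classical.Quad in
  have hz : Nat.card (Subgroup.center (siegelGroup (hypForm m (lineForm F)))) = 1 := by
    refine card_center_eq_one hnd P fun h => ?_
    have h1 := ((siegel_index_odd hnd P hr one_ne_zero).2 _).1 h
    have h3 := congrArg Units.val h1.1
    rw [detHom_negOne, Units.val_one] at h3
    have hfr : Module.finrank F (((Fin m → F) × (Fin m → F)) × (Unit → F)) = 2 * m + 1 := by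
      simp [Module.finrank_prod, two_mul]
    rw [hfr, Odd.neg_one_pow ⟨m, rfl⟩] at h3
    exact absurd (by linear_combination -h3 : (2 : F) = 0) h2
  open CfsgLib.Classical.Quad in
  let e := (commutatorEquiv (isometryEquivModel (oddEquiv m F) (oddEquiv_spec m))).trans
    (MulEquiv.subgroupCongr (commutator_orth_eq hnd P))
  open CfsgLib.Classical.Quad in
  rw [← Subgroup.card_eq_one, ← hz, ← map_center_mulEquiv e]
  exact Nat.card_congr (Subgroup.equivMapOfInjective _ _ e.injective).toEquiv

/-- PSp_2m(q) ≇ PΩ_(2m+1)(q) for q odd and m ≥ 3 (they have the same order). -/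
theorem result {F : Type*} [Field F] [Fintype F] (hodd : Odd (Fintype.card F)) (m : ℕ) (hm : 3 ≤ m) : IsEmpty (Cfsg.PSp m F ≃* Cfsg.POmega F (Cfsg.quadFormOdd m F)) := by
  refine ⟨fun e => ?_⟩
  have h2 := CfsgLib.TwoRank.two_ne_zero_of_odd_card hodd
  have hcard : Fintype.card (Unit ⊕ (Fin m ⊕ Fin m)) = 2 * m + 1 := by simp; ring
  obtain ⟨E, hE, hE2⟩ := CfsgLib.OrthSpinor.exists_elementary_subgroup
    (Q := CfsgLib.OrthCrit.oddForm m F) h2
    (CfsgLib.Orth.ndPolar_iff.mp (CfsgLib.OrthCrit.ndPolar_oddForm h2 m))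
    (by rw [hcard]; exact ⟨m, rfl⟩) (by omega)
  rw [hcard, Nat.add_sub_cancel] at hE
  let f : Cfsg.Omega F (Cfsg.quadFormOdd m F) →* Cfsg.PSp m F :=
    e.symm.toMonoidHom.comp (QuotientGroup.mk' _)
  have hf : Function.Injective f := by
    refine e.symm.injective.comp ((MonoidHom.ker_eq_bot_iff
      (QuotientGroup.mk' (Subgroup.center (Cfsg.Omega F (Cfsg.quadFormOdd m F))))).mp ?_)
    rw [QuotientGroup.ker_mk']
    exact center_omega_odd (by rwa [Nat.card_eq_fintype_card]) (by omega)
  have hle := two_pow_le h2 (by omega) (E.map f) (by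
      rintro _ ⟨a, ha, rfl⟩
      exact (map_mul f a a).symm.trans ((congrArg f (hE2 a ha)).trans (map_one f)))
    (by rw [← hE]; exact (Nat.card_congr (E.equivMapOfInjective f hf).toEquiv).symm)
  have hgrow : ∀ k, 2 * (k + 3) < 2 ^ (k + 3) := by
    intro k
    induction k with
    | zero => norm_num
    | succ k ih => rw [show k + 1 + 3 = (k + 3) + 1 from rfl, pow_succ]; omega
  obtain ⟨k, rfl⟩ : ∃ k, m = k + 3 := ⟨m - 3, by omega⟩
  rw [two_mul, pow_add] at hle
  have := Nat.mul_self_le_mul_self_iff.mp hle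
  have := hgrow k
  omega

end Cfsg.Agent.S0821
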