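import Mathlib
import Cfsg.Agent.Lib.PSU42.Tables
import Cfsg.Agent.Lib.Classical.Herm.Apps
import Cfsg.Agent.Lib.Linear.SympSimple
import Cfsg.Agent.Lib.Linear.SympCard
import Cfsg.Statements.S0822

/-!
`PSU₄(2) ≅ PSp₄(3)`: both groups as the same group of permutations of 40 points.
-/

set_option autoImplicit false
open Cfsg

namespace Cfsg.Agent.S0822

open Matrix CfsgLib.PSU42

section PointPerm

variable {G K V : Type*} [Group G] [Field K] [AddCommGroup V] [Module K V]

/-- The permutations of finitely many projective points given by representatives. -/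
def pointPerm (act : G → V → V) (h1 : ∀ x, act 1 x = x)
    (hmul : ∀ g h x, act (g * h) x = act g (act h x))
    (hsmul : ∀ g (c : K) x, act g (c • x) = c • act g x) {n : ℕ} (rep : Fin n → V)
    (good : V → Prop) (hgood : ∀ g x, good x → good (act g x)) (hrep : ∀ i, good (rep i))
    (idx : V → Fin n) (hid : ∀ i, idx (rep i) = i)
    (hinv : ∀ (c : K) x, c ≠ 0 → idx (c • x) = idx x)
    (hspec : ∀ x, good x → ∃ c : K, c ≠ 0 ∧ c • x = rep (idx x)) :
    G →* Equiv.Perm (Fin n) :=
  have key : ∀ g h i, idx (act g (rep (idx (act h (rep i))))) = idx (act (g * h) (rep i)) := by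
    intro g h i
    obtain ⟨c, hc, hx⟩ := hspec _ (hgood h _ (hrep i))
    rw [← hx, hsmul, hinv c _ hc, hmul]
  MonoidHom.mk'
    (fun g =>
      { toFun := fun i => idx (act g (rep i))
        invFun := fun i => idx (act g⁻¹ (rep i))
        left_inv := fun i => by
          show idx (act g⁻¹ (rep (idx (act g (rep i))))) = i
          rw [key, inv_mul_cancel, h1, hid]
        right_inv := fun i => by
          show idx (act g (rep (idx (act g⁻¹ (rep i))))) = i
          rw [key, mul_inv_cancel, h1, hid] })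
    (fun g h => Equiv.ext fun i => (key g h i).symm)

end PointPerm

/-- PSU_4(2) ≅ PSp_4(3): with |F| = 4 and |K| = 3, the projective special unitary group of the standard Hermitian form on F^4 is isomorphic to PSp_4(K). -/
theorem result {F K : Type*} [Field F] [Fintype F] [Field K] [Fintype K] (hF : Fintype.card F = 4) (hK : Fintype.card K = 3) : Nonempty (Cfsg.PSU 4 F 2 ≃* Cfsg.PSp 2 K) := by
  classical
  -- the fields
  obtain ⟨n, hp, hn⟩ := FiniteField.card F (ringChar F)
  have h2 : ringChar F = 2 := by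
    have hd : ringChar F ∣ 2 ^ 2 := by
      rw [show (2 : ℕ) ^ 2 = 4 from rfl, ← hF, hn]; exact dvd_pow_self _ n.2.ne'
    exact (Nat.prime_dvd_prime_iff_eq hp Nat.prime_two).mp (hp.dvd_of_dvd_pow hd)
  have : CharP F 2 := h2 ▸ ringChar.charP F
  obtain ⟨w, hw0, hw1⟩ : ∃ w : F, w ≠ 0 ∧ w ≠ 1 := by
    by_contra hc
    have : (Finset.univ : Finset F) ⊆ {0, 1} := fun x _ => by
      rcases eq_or_ne x 0 with h0 | h0
      · simp [h0]
      rcases eq_or_ne x 1 with h1 | h1
      · simp [h1]
      exact absurd ⟨x, h0, h1⟩ hc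
    have h4 := (Finset.card_le_card this).trans (Finset.card_insert_le _ _)
    simp [hF] at h4
  have hw : w ^ 2 = w + 1 := by
    have h3 : w ^ 3 = 1 := by
      have := FiniteField.pow_card_sub_one_eq_one w hw0
      rwa [hF] at this
    have : (w - 1) * (w ^ 2 + w + 1) = 0 := by linear_combination h3
    rcases mul_eq_zero.mp this with h' | h'
    · exact absurd (sub_eq_zero.mp h') hw1
    · have h2' : (2 : F) = 0 := CharTwo.two_eq_zero
      linear_combination h' - (w + 1) * h2'
  let ψ : ZMod 2 →+* F := ZMod.castHom (dvd_refl 2) F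
  let e : B → F := fun b => ψ b.1 + ψ b.2 * w
  have he_add : ∀ x y, e (x + y) = e x + e y := fun x y => by
    simp only [e, Prod.fst_add, Prod.snd_add, map_add]; ring
  have he_mul : ∀ x y, e (mulB x y) = e x * e y := fun x y => by
    simp only [e, mulB, map_add, map_mul]
    linear_combination -(ψ x.2 * ψ y.2) * hw
  have he0 : e 0 = 0 := by simp [e]
  have he_ne : ∀ b : B, e b = 0 → b = 0 := by
    intro b hb
    obtain ⟨b1, b2⟩ := b
    have hz : ∀ a : ZMod 2, a = 0 ∨ a = 1 := by decide
    rcases hz b1 with rfl | rfl <;> rcases hz b2 with rfl | rfl <;> simp only [e, map_zero,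
      map_one, zero_mul, one_mul, zero_add, add_zero] at hb
    · rfl
    · exact absurd hb hw0
    · exact absurd hb one_ne_zero
    · exact absurd (CharTwo.add_eq_zero.mp hb).symm hw1
  have hinj : Function.Injective e := fun x y hxy => by
    have : e (x + y) = 0 := by rw [he_add, hxy, CharTwo.add_self_eq_zero]
    have hxy' : ∀ x y : B, x + y = 0 → x = y := by decide
    exact hxy' x y (he_ne _ this)
  let eE : B ≃ F := Equiv.ofBijective e
    ((Fintype.bijective_iff_injective_and_card _).mpr ⟨hinj, by rw [hF]; rfl⟩)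
  haveI : Fact (Nat.Prime 3) := ⟨Nat.prime_three⟩
  have : CharP K 3 := by
    obtain ⟨n, hp, hn⟩ := FiniteField.card K (ringChar K)
    have h3 : ringChar K = 3 := (Nat.prime_dvd_prime_iff_eq hp Nat.prime_three).mp (by
      rw [← hK, hn]; exact dvd_pow_self _ n.2.ne')
    exact h3 ▸ ringChar.charP K
  let φ : ZMod 3 →+* K := ZMod.castHom (dvd_refl 3) K
  let cE : ZMod 3 ≃ K := Equiv.ofBijective φ
    ((Fintype.bijective_iff_injective_and_card _).mpr ⟨φ.injective, by rw [hK]; rfl⟩)
  -- coordinates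
  let toV : U → (Fin 4 → F) := fun x => ![e x.1, e x.2.1, e x.2.2.1, e x.2.2.2]
  let ofV : (Fin 4 → F) → U := fun v => (eE.symm (v 0), eE.symm (v 1), eE.symm (v 2), eE.symm (v 3))
  have hoV : ∀ x, ofV (toV x) = x := fun x => by
    show (eE.symm (eE x.1), eE.symm (eE x.2.1), eE.symm (eE x.2.2.1), eE.symm (eE x.2.2.2)) = x
    simp only [Equiv.symm_apply_apply]
  have htV : ∀ v, toV (ofV v) = v := fun v => by
    funext i
    fin_cases i
    exacts [eE.apply_symm_apply _, eE.apply_symm_apply _, eE.apply_symm_apply _,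
      eE.apply_symm_apply _]
  have hV_smul : ∀ c x, toV (smulU c x) = e c • toV x := fun c x => by
    funext i; fin_cases i <;> simp [toV, smulU, he_mul]
  have hV_herm : ∀ x v, Cfsg.hermForm 4 F 2 (toV x) (toV v) = e (hC x v) := fun x v => by
    simp [Cfsg.hermForm, Fin.sum_univ_four, toV, hC, he_add, he_mul, pow_two]
  have hV_trans : ∀ v x, toV (transU v x) =
      toV x + ((1 : F) * Cfsg.hermForm 4 F 2 (toV x) (toV v)) • toV v := fun v x => by
    rw [one_mul, hV_herm, ← hV_smul]
    funext i; fin_cases i <;> simp [toV, transU, he_add]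
  have hV0 : toV 0 = 0 := by funext i; fin_cases i <;> simp [toV, he0]
  let toW : W → (Fin 2 ⊕ Fin 2 → K) := fun x =>
    Sum.elim ![φ x.1, φ x.2.1] ![φ x.2.2.1, φ x.2.2.2]
  let ofW : (Fin 2 ⊕ Fin 2 → K) → W := fun v =>
    (cE.symm (v (.inl 0)), cE.symm (v (.inl 1)), cE.symm (v (.inr 0)), cE.symm (v (.inr 1)))
  have hoW : ∀ x, ofW (toW x) = x := fun x => by
    show (cE.symm (cE x.1), cE.symm (cE x.2.1), cE.symm (cE x.2.2.1), cE.symm (cE x.2.2.2)) = x
    simp only [Equiv.symm_apply_apply]
  have htW : ∀ v, toW (ofW v) = v := fun v => by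
    funext i
    rcases i with i | i <;> fin_cases i
    exacts [cE.apply_symm_apply _, cE.apply_symm_apply _, cE.apply_symm_apply _,
      cE.apply_symm_apply _]
  have hW_smul : ∀ c x, toW (smulW c x) = φ c • toW x := fun c x => by
    funext i; rcases i with i | i <;> fin_cases i <;> simp [toW, smulW]
  have hW0 : toW 0 = 0 := by funext i; rcases i with i | i <;> fin_cases i <;> simp [toW]
  -- the two actions
  let actU : Cfsg.SU 4 F 2 → (Fin 4 → F) → (Fin 4 → F) := fun g x =>
    ((g : Matrix.SpecialLinearGroup (Fin 4) F) : Matrix (Fin 4) (Fin 4) F) *ᵥ x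
  let fU : Cfsg.SU 4 F 2 →* Equiv.Perm (Fin 40) := pointPerm actU
    (fun x => one_mulVec x) (fun g h x => by simp [actU, mulVec_mulVec])
    (fun g (c : F) x => mulVec_smul _ c x) (fun i => toV (repU i))
    (fun v => Cfsg.hermForm 4 F 2 v v ≠ 0)
    (fun g x hx => by rw [show Cfsg.hermForm 4 F 2 (actU g x) (actU g x) =
      Cfsg.hermForm 4 F 2 x x from g.2 x x]; exact hx)
    (fun i h => repU_good i (he_ne _ ((hV_herm _ _).symm.trans h)))
    (fun v => idxU (ofV v)) (fun i => by rw [hoV, idxU_rep])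
    (fun c v hc => by
      obtain ⟨b, rfl⟩ : ∃ b, e b = c := ⟨eE.symm c, eE.apply_symm_apply c⟩
      rw [← htV v, ← hV_smul, hoV, hoV, idxU_smul _ _ (fun h => hc (by rw [h, he0]))])
    (fun v hv => by
      obtain ⟨c, hc, hc'⟩ := idxU_spec (ofV v) (fun h => hv (by
        rw [← htV v, hV_herm, h, he0]))
      exact ⟨e c, fun h => hc (he_ne _ h), by rw [← hc', hV_smul, htV]⟩)
  let actS : Matrix.symplecticGroup (Fin 2) K → (Fin 2 ⊕ Fin 2 → K) → (Fin 2 ⊕ Fin 2 → K) :=
    fun g x => g • x
  let fS : Matrix.symplecticGroup (Fin 2) K →* Equiv.Perm (Fin 40) := pointPerm actS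
    (fun x => one_smul _ x) (fun g h x => mul_smul g h x)
    (fun g (c : K) x => mulVec_smul g.1 c x) (fun i => toW (repW i)) (fun v => v ≠ 0)
    (fun g x hx h => hx ((smul_eq_zero_iff_eq g).mp h))
    (fun i h => repW_good i (by rw [← hoW (repW i), h, ← hW0, hoW]))
    (fun v => idxW (ofW v)) (fun i => by rw [hoW, idxW_rep])
    (fun c v hc => by
      obtain ⟨b, rfl⟩ : ∃ b, φ b = c := ⟨cE.symm c, cE.apply_symm_apply c⟩
      rw [← htW v, ← hW_smul, hoW, hoW, idxW_smul _ _ (fun h => hc (by rw [h, map_zero]))])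
    (fun v hv => by
      obtain ⟨c, hc, hc'⟩ := idxW_spec (ofW v) (fun h => hv (by rw [← htW v, h, hW0]))
      exact ⟨φ c, fun h => hc (φ.injective (h.trans (map_zero φ).symm)), by
        rw [← hc', hW_smul, htW]⟩)
  -- transvection images
  have hFq : Fintype.card F = 2 ^ 2 := by rw [hF]; rfl
  have key : ∀ (A : Cfsg.SU 4 F 2) (v : U), hC v v = 0 →
      ((A : Matrix.SpecialLinearGroup (Fin 4) F) : Matrix (Fin 4) (Fin 4) F) =
        Cfsg.unitaryTransvection 4 2 (toV v) 1 → ∀ i, fU A i = idxU (transU v (repU i)) := by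
    intro A v _ hA i
    show idxU (ofV (actU A (toV (repU i)))) = _
    simp only [actU]
    rw [hA, CfsgLib.Classical.Herm.unitaryTransvection_mulVec, ← hV_trans, hoV]
  have hmat : ∀ M ∈ mats, (toMat M).map φ ∈ Matrix.symplecticGroup (Fin 2) K := by
    intro M hM
    rw [SymplecticGroup.mem_iff']
    have h := congrArg (φ.mapMatrix) (mats_symp M hM)
    simp only [map_mul, RingHom.mapMatrix_apply] at h
    have hJ : (Matrix.J (Fin 2) (ZMod 3)).map φ = Matrix.J (Fin 2) K := by
      ext i j
      rcases i with i | i <;> rcases j with j | j <;> by_cases h : i = j <;>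
        simp [Matrix.J, h]
    rw [transpose_map, hJ] at h
    exact h
  have happ : ∀ (M : M4) (x : W), (toMat M).map φ *ᵥ toW x = toW (applyW M x) := by
    intro M x
    funext i
    rcases i with i | i <;> fin_cases i <;>
      simp [Matrix.mulVec, dotProduct, toMat, toW, applyW, dotW, Fintype.sum_sum_type,
        Fin.sum_univ_two] <;> ring
  have hle : fU.range ≤ fS.range := by
    rw [MonoidHom.range_eq_map, ← CfsgLib.Classical.Herm.su_generated_transvections hFq
      (by norm_num : 3 ≤ 4) (by norm_num), MonoidHom.map_closure, Subgroup.closure_le]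
    rintro _ ⟨A, ⟨v, c, hv, hA⟩, rfl⟩
    obtain ⟨v, rfl⟩ : ∃ u, toV u = v := ⟨ofV v, htV v⟩
    have hA1 : ((A : Matrix.SpecialLinearGroup (Fin 4) F) : Matrix (Fin 4) (Fin 4) F) = 1 →
        A = 1 := fun h => Subtype.ext (Subtype.ext h)
    by_cases hc : c = 0
    · refine ⟨1, ?_⟩
      rw [map_one, hA1 (by rw [hA, hc, Cfsg.unitaryTransvection, zero_smul, add_zero]), map_one]
    by_cases hv0 : v = 0
    · refine ⟨1, ?_⟩
      rw [map_one, hA1 (by rw [hA, hv0, hV0, Cfsg.unitaryTransvection]; simp), map_one]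
    have hvne : toV v ≠ 0 := fun h => hv0 (by rw [← hoV v, h, ← hV0, hoV])
    have hc2 : c + c ^ 2 = 0 :=
      (CfsgLib.Classical.Herm.shear_isometry_iff hFq hvne hv c).mp fun x y => by
        rw [← hA]; exact A.2 x y
    have hc1 : c = 1 := by
      have : c * (1 + c) = 0 := by linear_combination hc2
      exact ((CharTwo.add_eq_zero.mp ((mul_eq_zero.mp this).resolve_left hc))).symm
    subst hc1
    have hvC : hC v v = 0 := he_ne _ ((hV_herm v v).symm.trans hv)
    obtain ⟨M, hM, hMi⟩ := trans_mem v hvC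
    refine ⟨⟨_, hmat M hM⟩, Equiv.ext fun i => ?_⟩
    show idxW (ofW ((toMat M).map φ *ᵥ toW (repW i))) = fU A i
    rw [happ, hoW, key A v hvC hA, hMi]
  -- a moving transvection
  have hne : fU.ker ≠ ⊤ := by
    obtain ⟨v, hv, hv0, i, hi⟩ := trans_moves
    have hvne : toV v ≠ 0 := fun h => hv0 (by rw [← hoV v, h, ← hV0, hoV])
    have hvv : Cfsg.hermForm 4 F 2 (toV v) (toV v) = 0 := by rw [hV_herm, hv, he0]
    have hdet : (Cfsg.unitaryTransvection 4 2 (toV v) (1 : F)).det = 1 := by
      rw [Cfsg.unitaryTransvection, one_smul, Matrix.vecMulVec_eq Unit,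
        Matrix.det_one_add_replicateCol_mul_replicateRow]
      have : (fun j => toV v j ^ 2) ⬝ᵥ toV v = 0 := by
        rw [← hvv, Cfsg.hermForm, dotProduct]
        exact Finset.sum_congr rfl fun j _ => mul_comm _ _
      rw [this, add_zero]
    let A : Cfsg.SU 4 F 2 := ⟨⟨_, hdet⟩, (CfsgLib.Classical.Herm.shear_isometry_iff hFq hvne hvv 1).mpr
      (by rw [one_pow, CharTwo.add_self_eq_zero])⟩
    intro htop
    have hA : A ∈ fU.ker := htop ▸ Subgroup.mem_top A
    refine hi ?_
    rw [← key A v hv rfl i, MonoidHom.mem_ker.mp hA]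
    rfl
  -- orders
  have hcU : Nat.card (Cfsg.SU 4 F 2) = 25920 ∧ Subgroup.center (Cfsg.SU 4 F 2) = ⊥ := by
    have hz : Nat.card (Subgroup.center (Cfsg.SU 4 F 2)) = 1 := by
      rw [CfsgLib.Classical.Herm.card_center_su hFq (by norm_num : 3 ≤ 4)]; rfl
    refine ⟨?_, Subgroup.card_eq_one.mp hz⟩
    have h := CfsgLib.Classical.Herm.card_psu hFq (n := 4) (by norm_num)
    have h' := (Subgroup.center (Cfsg.SU 4 F 2)).card_eq_card_quotient_mul_card_subgroup
    rw [hz, mul_one] at h'
    rw [h']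
    norm_num [Finset.prod_range_succ, Nat.even_iff] at h
    show Nat.card (Cfsg.PSU 4 F 2) = _
    rw [Nat.card_eq_fintype_card]
    omega
  haveI := CfsgLib.Classical.Herm.isSimpleGroup_psu hFq (n := 4) (by norm_num) (by norm_num)
  haveI := CfsgLib.Linear.Symp.isSimpleGroup_PSp (F := K) (m := 2) (by norm_num)
    (Or.inr (Or.inl ⟨rfl, by omega⟩))
  haveI : Finite (Matrix.symplecticGroup (Fin 2) K) := inferInstance
  have hfUinj : Function.Injective fU := by
    let q : Cfsg.SU 4 F 2 →* Cfsg.PSU 4 F 2 := QuotientGroup.mk' _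
    have hqi : Function.Injective q := by
      rw [← MonoidHom.ker_eq_bot_iff, QuotientGroup.ker_mk']; exact hcU.2
    let qe : Cfsg.SU 4 F 2 ≃* Cfsg.PSU 4 F 2 :=
      MulEquiv.ofBijective q ⟨hqi, QuotientGroup.mk'_surjective _⟩
    haveI : IsSimpleGroup (Cfsg.SU 4 F 2) := qe.isSimpleGroup
    rw [← MonoidHom.ker_eq_bot_iff]
    exact (IsSimpleGroup.eq_bot_or_eq_top_of_normal fU.ker inferInstance).resolve_right hne
  have hcS : Nat.card (Matrix.symplecticGroup (Fin 2) K) = 51840 ∧
      Nat.card (Subgroup.center (Matrix.symplecticGroup (Fin 2) K)) = 2 := by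
    refine ⟨?_, ?_⟩
    · rw [CfsgLib.Linear.Symp.card_symplectic, hK]; norm_num [Finset.prod_range_succ]
    · rw [CfsgLib.Linear.Symp.card_center (by norm_num), hK]; rfl
  have hcP : Nat.card (Cfsg.PSp 2 K) = 25920 := by
    have h' := (Subgroup.center (Matrix.symplecticGroup (Fin 2) K)).card_eq_card_quotient_mul_card_subgroup
    rw [hcS.1, hcS.2] at h'
    show Nat.card (_ ⧸ _) = _
    omega
  have hkerS : Subgroup.center (Matrix.symplecticGroup (Fin 2) K) ≤ fS.ker := by
    intro z hz
    obtain ⟨a, ha, hza⟩ := CfsgLib.Linear.Symp.mem_center_iff.mp hz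
    refine MonoidHom.mem_ker.mpr (Equiv.ext fun i => ?_)
    show idxW (ofW (z • toW (repW i))) = i
    obtain ⟨b, rfl⟩ : ∃ b, φ b = a := ⟨cE.symm a, cE.apply_symm_apply a⟩
    rw [hza, ← hW_smul, hoW, idxW_smul _ _ (fun h => by rw [h, map_zero] at ha; norm_num at ha),
      idxW_rep]
  let gS : Cfsg.PSp 2 K →* Equiv.Perm (Fin 40) := QuotientGroup.lift _ fS hkerS
  have hgrange : gS.range = fS.range := by
    ext x
    constructor
    · rintro ⟨y, rfl⟩
      obtain ⟨z, rfl⟩ := QuotientGroup.mk_surjective y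
      exact ⟨z, rfl⟩
    · rintro ⟨y, rfl⟩
      exact ⟨y, rfl⟩
  have hcardU : Nat.card fU.range = 25920 := by
    rw [← hcU.1]; exact (Nat.card_congr (MonoidHom.ofInjective hfUinj).toEquiv).symm
  have hgSinj : Function.Injective gS := by
    rw [← MonoidHom.ker_eq_bot_iff]
    refine (IsSimpleGroup.eq_bot_or_eq_top_of_normal gS.ker inferInstance).resolve_right fun h => ?_
    have h1 : gS.range = ⊥ := by
      rw [← Subgroup.card_eq_one, ← Subgroup.index_ker, h, Subgroup.index_top]
    have := hle.trans (hgrange ▸ h1).le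
    rw [le_bot_iff] at this
    rw [this] at hcardU
    simp at hcardU
  have hcardS : Nat.card gS.range = 25920 := by
    rw [← hcP]; exact (Nat.card_congr (MonoidHom.ofInjective hgSinj).toEquiv).symm
  have heq : fU.range = gS.range :=
    Subgroup.eq_of_le_of_card_ge (hgrange ▸ hle) (by rw [hcardS, hcardU])
  exact ⟨(QuotientGroup.quotientMulEquivOfEq hcU.2).trans (QuotientGroup.quotientBot.trans
    ((MonoidHom.ofInjective hfUinj).trans ((MulEquiv.subgroupCongr heq).trans
      (MonoidHom.ofInjective hgSinj).symm)))⟩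

end Cfsg.Agent.S0822
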