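import Cfsg.Statements.S0831
import Cfsg.Agent.Lib.OrthGeom.MaxSingFamilies

set_option autoImplicit false
open Cfsg

namespace Cfsg.Agent.S0831

/-- The two families of maximal totally singular subspaces of the hyperbolic quadric: for the form Σ x_i y_i on F^(2m), m ≥ 1, and m-dimensional subspaces U, W, X on which it vanishes, the parities of m − dim(U ∩ W), m − dim(W ∩ X) and m − dim(U ∩ X) sum to an even number (so 'even codimension of the intersection' is an equivalence relation), and there exist two such subspaces meeting in codimension 1 (so there are exactly two classes). -/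
theorem result {F : Type*} [Field F] (m : ℕ) (hm : 1 ≤ m) : (∀ U W X : Submodule F (Fin m ⊕ Fin m → F), (Module.finrank F U = m ∧ ∀ w ∈ U, Cfsg.quadFormPlus m F w = 0) → (Module.finrank F W = m ∧ ∀ w ∈ W, Cfsg.quadFormPlus m F w = 0) → (Module.finrank F X = m ∧ ∀ w ∈ X, Cfsg.quadFormPlus m F w = 0) → Even ((m - Module.finrank F ↥(U ⊓ W)) + (m - Module.finrank F ↥(W ⊓ X)) + (m - Module.finrank F ↥(U ⊓ X)))) ∧ ∃ U W : Submodule F (Fin m ⊕ Fin m → F), (Module.finrank F U = m ∧ ∀ w ∈ U, Cfsg.quadFormPlus m F w = 0) ∧ (Module.finrank F W = m ∧ ∀ w ∈ W, Cfsg.quadFormPlus m F w = 0) ∧ Module.finrank F ↥(U ⊓ W) + 1 = m := by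
  classical
  constructor
  · intro U W X hU hW hX
    have hpar := CfsgLib.OrthGeom.parity_triple (CfsgLib.OrthCrit.ndPolar_plusForm m)
      CfsgLib.OrthGeom.finrank_plus_space ((CfsgLib.OrthGeom.isMaxSing_plus_iff W).mpr hW)
      ((CfsgLib.OrthGeom.isMaxSing_plus_iff X).mpr hX)
      ((CfsgLib.OrthGeom.isMaxSing_plus_iff U).mpr hU)
    have hUW : Module.finrank F ↥(U ⊓ W) ≤ m := (Submodule.finrank_mono inf_le_left).trans hU.1.le
    have hWX : Module.finrank F ↥(W ⊓ X) ≤ m := (Submodule.finrank_mono inf_le_left).trans hW.1.le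
    have hUX : Module.finrank F ↥(U ⊓ X) ≤ m := (Submodule.finrank_mono inf_le_left).trans hU.1.le
    rw [← ZMod.natCast_eq_zero_iff_even]
    push_cast [Nat.cast_sub hUW, Nat.cast_sub hWX, Nat.cast_sub hUX]
    linear_combination -hpar + 2 * (m : ZMod 2) * CharTwo.two_eq_zero (R := ZMod 2)
  · have hH : CfsgLib.OrthCrit.IsMaxSing _ _ := CfsgLib.OrthGeom.isMaxSing_halfSpace (K := F) (m := m)
    obtain ⟨w, hw, hwH⟩ : ∃ w, CfsgLib.OrthCrit.plusForm m F w = 0 ∧
        w ∉ CfsgLib.OrthCrit.halfSpace F m := by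
      refine ⟨Pi.single (Sum.inr ⟨0, hm⟩) 1, by simp [Cfsg.quadFormPlus], fun h => ?_⟩
      simpa using congrFun (LinearMap.mem_ker.mp h) ⟨0, hm⟩
    obtain ⟨U', hU', hadj, -, -⟩ := CfsgLib.OrthGeom.exists_adjacent
      (CfsgLib.OrthCrit.ndPolar_plusForm m) CfsgLib.OrthGeom.finrank_plus_space hH hw hwH
    exact ⟨_, U', (CfsgLib.OrthGeom.isMaxSing_plus_iff _).mp hH,
      (CfsgLib.OrthGeom.isMaxSing_plus_iff U').mp hU', hadj⟩

end Cfsg.Agent.S0831
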