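import Cfsg.Statements.S0832
import Cfsg.Agent.Lib.OrthGeom.MaxSingFamilies

set_option autoImplicit false
open Cfsg

namespace Cfsg.Agent.S0832

/-- For the form Σ x_i y_i on F^(2m) over a finite field, m ≥ 1: an (m−1)-dimensional subspace on which the form vanishes is contained in exactly two m-dimensional subspaces on which it vanishes. -/
theorem result {F : Type*} [Field F] [Finite F] (m : ℕ) (hm : 1 ≤ m) (U : Submodule F (Fin m ⊕ Fin m → F)) (hU : Module.finrank F U + 1 = m ∧ ∀ u ∈ U, Cfsg.quadFormPlus m F u = 0) : Nat.card {W : Submodule F (Fin m ⊕ Fin m → F) // Module.finrank F W = m ∧ (∀ w ∈ W, Cfsg.quadFormPlus m F w = 0) ∧ U ≤ W} = 2 := by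
  classical
  obtain ⟨U₁, U₂, hne, h1, h2, hU1, hU2, honly⟩ := CfsgLib.OrthGeom.exists_two_over
    (CfsgLib.OrthCrit.ndPolar_plusForm m) CfsgLib.OrthGeom.finrank_plus_space
    CfsgLib.OrthGeom.isMaxSing_halfSpace hU.1 hU.2
  rw [Nat.card_eq_two_iff]
  have h1' := (CfsgLib.OrthGeom.isMaxSing_plus_iff U₁).mp h1
  have h2' := (CfsgLib.OrthGeom.isMaxSing_plus_iff U₂).mp h2
  refine ⟨⟨U₁, h1'.1, h1'.2, hU1⟩, ⟨U₂, h2'.1, h2'.2, hU2⟩, fun h => hne (congrArg Subtype.val h), ?_⟩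
  rw [Set.eq_univ_iff_forall]
  rintro ⟨X, hX1, hX2, hX3⟩
  rcases honly X ((CfsgLib.OrthGeom.isMaxSing_plus_iff X).mpr ⟨hX1, hX2⟩) hX3 with rfl | rfl <;> simp

end Cfsg.Agent.S0832
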