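import Cfsg.Statements.S0835
import Cfsg.Agent.Lib.TensorForms.Basic

set_option autoImplicit false
open Cfsg

namespace Cfsg.Agent.S0835

/-- Over a finite field with 2 ≠ 0: if B₁ on U (dim 2k, k ≥ 1) is non-degenerate symmetric of minus type (no totally isotropic k-subspace) and B₂ on W (dim 2l + 1) is non-degenerate symmetric, then B₁ ⊗ B₂ (dimension 2k(2l+1)) admits no totally isotropic subspace of dimension k(2l+1) (minus type). -/
theorem result {F U W : Type*} [Field F] [Fintype F] [AddCommGroup U] [Module F U] [FiniteDimensional F U] [AddCommGroup W] [Module F W] [FiniteDimensional F W] (h2 : (2 : F) ≠ 0) (B₁ : LinearMap.BilinForm F U) (B₂ : LinearMap.BilinForm F W) (h₁ : B₁.Nondegenerate) (h₂ : B₂.Nondegenerate) (hS₁ : B₁.IsSymm) (hS₂ : B₂.IsSymm) (k l : ℕ) (hk : 1 ≤ k) (hU : Module.finrank F U = 2 * k) (hW : Module.finrank F W = 2 * l + 1) (hm₁ : ¬ (∃ X : Submodule F (U), Module.finrank F X = k ∧ ∀ x ∈ X, ∀ y ∈ X, (B₁) x y = 0)) : ¬ (∃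 X : Submodule F (TensorProduct F U W), Module.finrank F X = k * (2 * l + 1) ∧ ∀ x ∈ X, ∀ y ∈ X, (B₁.tmul B₂) x y = 0) := by
  classical
  rintro ⟨X, hXk, hX⟩
  let b := Module.finBasisOfFinrankEq F U hU
  let c := Module.finBasisOfFinrankEq F W hW
  have hT : Module.finrank F (TensorProduct F U W) = 2 * (k * (2 * l + 1)) := by
    rw [Module.finrank_tensorProduct, hU, hW]; ring
  obtain ⟨s, hs⟩ := CfsgLib.TensorForms.isSquare_of_isotropic (B₁.tmul B₂) (CfsgLib.TensorForms.isSymm_of_symm B₁ B₂ hS₁ hS₂) hT X hXk hX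
    (b.tensorProduct c)
  rw [CfsgLib.TensorForms.det_tmul, Fintype.card_fin, Fintype.card_fin] at hs
  have hd₁ : (LinearMap.BilinForm.toMatrix b B₁).det ≠ 0 :=
    (LinearMap.BilinForm.nondegenerate_iff_det_ne_zero b).mp h₁
  have hd₂ : (LinearMap.BilinForm.toMatrix c B₂).det ≠ 0 :=
    (LinearMap.BilinForm.nondegenerate_iff_det_ne_zero c).mp h₂
  rw [show ((-1 : F) ^ (k * (2 * l + 1))) = (-1) ^ k by
    rw [show k * (2 * l + 1) = 2 * (k * l) + k by ring, pow_add, pow_mul, neg_one_sq, one_pow, one_mul]] at hs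
  refine hm₁ (CfsgLib.TensorForms.exists_isotropic_of_isSquare h2 B₁ h₁ hS₁ hU b
    ⟨s / ((LinearMap.BilinForm.toMatrix b B₁).det ^ l *
      (LinearMap.BilinForm.toMatrix c B₂).det ^ k), ?_⟩)
  field_simp
  linear_combination hs

end Cfsg.Agent.S0835
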