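import Cfsg.Statements.S0838
import Cfsg.Agent.Lib.FormsDisc.Basic

set_option autoImplicit false
open Cfsg

namespace Cfsg.Agent.S0838

/-- Over a finite field with 2 ≠ 0 and n odd: two quadratic forms Q₁, Q₂ on F^n with non-degenerate polar forms are similar — there are an invertible linear map g and a scalar c ≠ 0 with Q₂ (g v) = c · Q₁ v for all v. -/
theorem result {F : Type*} [Field F] [Fintype F] (h2 : (2 : F) ≠ 0) {n : ℕ} (hn : Odd n) (Q₁ Q₂ : QuadraticForm F (Fin n → F)) (h₁ : (QuadraticMap.polarBilin Q₁).Nondegenerate) (h₂ : (QuadraticMap.polarBilin Q₂).Nondegenerate) : ∃ (g : (Fin n → F) ≃ₗ[F] (Fin n → F)) (c : F), c ≠ 0 ∧ ∀ v, Q₂ (g v) = c * Q₁ v := by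
  classical
  let G : QuadraticForm F (Fin n → F) → Matrix (Fin n) (Fin n) F := fun Q =>
    Matrix.of fun i j => QuadraticMap.polar ⇑Q (Pi.single i 1) (Pi.single j 1)
  have hG : ∀ Q : QuadraticForm F (Fin n → F), (QuadraticMap.polarBilin Q).Nondegenerate → (G Q).det ≠ 0 := by
    intro Q hQ
    have h : G Q = LinearMap.BilinForm.toMatrix' (QuadraticMap.polarBilin Q) := by
      ext i j; simp [G, LinearMap.BilinForm.toMatrix'_apply]
    rw [h]
    exact (LinearMap.BilinForm.nondegenerate_iff_det_ne_zero (Pi.basisFun F (Fin n))).mp hQ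
  set c := (G Q₁).det * (G Q₂).det with hc
  have hc0 : c ≠ 0 := mul_ne_zero (hG Q₁ h₁) (hG Q₂ h₂)
  have hnd : (QuadraticMap.polarBilin (c • Q₁)).Nondegenerate := by
    have hpc : ∀ x y, QuadraticMap.polarBilin (c • Q₁) x y = c * QuadraticMap.polarBilin Q₁ x y := fun x y => by
      simp only [QuadraticMap.polarBilin_apply_apply, QuadraticMap.polar, smul_apply, smul_eq_mul, QuadraticMap.smul_apply]; ring
    exact ⟨fun x hx => h₁.1 x fun y => by simpa [hpc, hc0] using hx y,
      fun x hx => h₁.2 x fun y => by simpa [hpc, hc0] using hx y⟩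
  obtain ⟨e⟩ := CfsgLib.FormsDisc.equivalent_of_disc h2 (c • Q₁) Q₂ hnd h₂ (by
    have : (Matrix.of fun i j : Fin n => QuadraticMap.polar ⇑(c • Q₁) (Pi.single i 1) (Pi.single j 1)) = c • G Q₁ := by
      ext i j; simp [G, QuadraticMap.polar_smul]
    rw [this, Matrix.det_smul, Fintype.card_fin]
    obtain ⟨k, rfl⟩ := hn
    refine ⟨c ^ (k + 1), ?_⟩
    rw [mul_assoc, show (Matrix.of fun i j : Fin (2 * k + 1) => QuadraticMap.polar ⇑Q₂ (Pi.single i 1) (Pi.single j 1)) = G Q₂ from rfl,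
      ← hc]
    ring)
  exact ⟨e.toLinearEquiv, c, hc0, fun v => by simpa using e.map_app v⟩

end Cfsg.Agent.S0838
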