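import Cfsg.Statements.S0839

set_option autoImplicit false
open Cfsg Matrix

namespace Cfsg.Agent.S0839

/-- Every transvection t ∈ SL_(n+2)(F) (rank(t − 1) = 1, (t − 1)² = 0) is conjugate in SL_(n+2)(F) to 1 + v·e_0ᵀ for some column vector v with v_0 = 0 (the group A of matrices that are the identity except in the first column below the diagonal); the dimension is written n + 2 ≥ 2. -/
theorem result {F : Type*} [Field F] (n : ℕ) (t : Matrix.SpecialLinearGroup (Fin (n + 2)) F) (ht : Cfsg.IsTransvection (t : Matrix (Fin (n + 2)) (Fin (n + 2)) F)) : ∃ (g : Matrix.SpecialLinearGroup (Fin (n + 2)) F) (v : Fin (n + 2) → F), v 0 = 0 ∧ ((g⁻¹ * t * g : Matrix.SpecialLinearGroup (Fin (n + 2)) F) : Matrix (Fin (n + 2)) (Fin (n + 2)) F) = 1 + Matrix.vecMulVec v (Pi.single 0 1) := by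
  classical
  set T := (t : Matrix (Fin (n + 2)) (Fin (n + 2)) F) with hT
  obtain ⟨hr, hsq⟩ := ht
  obtain ⟨⟨a, haR⟩, ha0, hsp⟩ := finrank_eq_one_iff'.mp (hr : Module.finrank F (LinearMap.range (T - 1).mulVecLin) = 1)
  have hcol : ∀ j, ∃ c : F, (T - 1).mulVec (Pi.single j 1) = c • a := fun j => by
    obtain ⟨c, hc⟩ := hsp ⟨(T - 1).mulVec (Pi.single j 1), ⟨_, rfl⟩⟩
    exact ⟨c, (congrArg Subtype.val hc).symm⟩
  choose φ hφ using hcol
  have hN : T - 1 = Matrix.vecMulVec a φ := by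
    ext i j
    have h := congrFun (hφ j) i
    simp [Matrix.mulVec_single_one] at h
    rw [Matrix.vecMulVec_apply, mul_comm]
    simpa using h
  have ha : a ≠ 0 := fun h => ha0 (Subtype.ext h)
  have hφ0 : φ ≠ 0 := fun h => by
    rw [h, Matrix.vecMulVec_zero] at hN
    rw [hN, Matrix.rank_zero] at hr
    exact zero_ne_one hr
  obtain ⟨j, hj⟩ := Function.ne_iff.mp hφ0
  -- an invertible matrix of determinant one with first row `φ`
  obtain ⟨h₁, hh₁, hd₁⟩ : ∃ M : Matrix (Fin (n + 2)) (Fin (n + 2)) F, M 0 = φ ∧ M.det ≠ 0 := by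
    let M₀ := (1 : Matrix (Fin (n + 2)) (Fin (n + 2)) F).updateRow j φ
    have hd : M₀.det = φ j := by
      have h := Matrix.det_updateRow_sum (1 : Matrix (Fin (n + 2)) (Fin (n + 2)) F) j φ
      rw [show (∑ k, φ k • (1 : Matrix (Fin (n + 2)) (Fin (n + 2)) F) k) = φ from by
        funext l; simp [Matrix.one_apply]] at h
      simpa [M₀] using h
    refine ⟨M₀.submatrix (Equiv.swap 0 j) id, ?_, ?_⟩
    · funext l; simp [M₀, Matrix.updateRow_apply]
    · rw [Matrix.det_permute, hd]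
      refine mul_ne_zero ?_ hj
      rcases Int.units_eq_one_or (Equiv.Perm.sign (Equiv.swap (0 : Fin (n + 2)) j)) with h | h <;> simp [h]
  let h₂ := h₁.updateRow 1 (h₁.det⁻¹ • h₁ 1)
  have hd₂ : h₂.det = 1 := by
    show (h₁.updateRow 1 (h₁.det⁻¹ • h₁ 1)).det = 1
    rw [Matrix.det_updateRow_smul, Matrix.updateRow_eq_self, inv_mul_cancel₀ hd₁]
  have hrow : h₂ 0 = φ := by
    show (h₁.updateRow 1 (h₁.det⁻¹ • h₁ 1)) 0 = φ
    rw [Matrix.updateRow_ne (by simp), hh₁]
  let H : Matrix.SpecialLinearGroup (Fin (n + 2)) F := ⟨h₂, hd₂⟩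
  refine ⟨H⁻¹, h₂.mulVec a, ?_, ?_⟩
  · have hφa : φ ⬝ᵥ a = 0 := by
      rw [hN, Matrix.vecMulVec_mul_vecMulVec] at hsq
      by_contra hne
      obtain ⟨i, hi⟩ := Function.ne_iff.mp ha
      have := congrFun (congrFun hsq i) j
      simp [Matrix.vecMulVec_apply] at this
      tauto
    show h₂ 0 ⬝ᵥ a = 0
    rw [hrow, hφa]
  · rw [inv_inv, Matrix.SpecialLinearGroup.coe_mul, Matrix.SpecialLinearGroup.coe_mul]
    have hHH : h₂ * ((H⁻¹ : Matrix.SpecialLinearGroup (Fin (n + 2)) F) : Matrix (Fin (n + 2)) (Fin (n + 2)) F) = 1 := by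
      have := congrArg Subtype.val (mul_inv_cancel H)
      exact this
    show h₂ * T * _ = _
    rw [show T = 1 + Matrix.vecMulVec a φ from by rw [← hN]; abel, mul_add, add_mul, mul_one, hHH]
    congr 1
    rw [Matrix.mul_vecMulVec, Matrix.vecMulVec_mul]
    congr 1
    funext l
    rw [← hrow]
    show (h₂ * ((H⁻¹ : Matrix.SpecialLinearGroup (Fin (n + 2)) F) : Matrix (Fin (n + 2)) (Fin (n + 2)) F) : Matrix (Fin (n + 2)) (Fin (n + 2)) F) 0 l = _
    rw [hHH]
    simp [Matrix.one_apply, Pi.single_apply, eq_comm]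

end Cfsg.Agent.S0839
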