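import Cfsg.Statements.S0841
import Mathlib

set_option autoImplicit false
open Cfsg

namespace Cfsg.Agent.S0841

/-- If the commutator subgroup of G lies in the centre, then for all x, y in G and every natural number n one has (x * y) ^ n = x ^ n * y ^ n * c ^ (n * (n - 1) / 2) with c = y⁻¹ * x⁻¹ * y * x. -/
theorem result {G : Type*} [Group G] (hG : commutator G ≤ Subgroup.center G) (x y : G) (n : ℕ) : (x * y) ^ n = x ^ n * y ^ n * (y⁻¹ * x⁻¹ * y * x) ^ (n * (n - 1) / 2) := by
  set c := y⁻¹ * x⁻¹ * y * x with hc
  have hcen : ∀ g : G, c * g = g * c := by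
    intro g
    have hm : c ∈ commutator G := by
      rw [commutator_def]
      have := Subgroup.commutator_mem_commutator (Subgroup.mem_top y⁻¹) (Subgroup.mem_top x⁻¹)
      simpa [commutatorElement_def, hc] using this
    exact (Subgroup.mem_center_iff.1 (hG hm) g).symm
  have hyx : y * x = x * y * c := by simp [hc, mul_assoc]
  have hpow : ∀ m : ℕ, y ^ m * x = x * y ^ m * c ^ m := by
    intro m
    induction m with
    | zero => simp
    | succ m ih =>
      have hcm : Commute (c ^ m) y := (show Commute c y from hcen y).pow_left m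
      calc y ^ (m + 1) * x = y * (y ^ m * x) := by rw [pow_succ', mul_assoc]
        _ = (y * x) * (y ^ m * c ^ m) := by rw [ih]; simp [mul_assoc]
        _ = x * y * c * (y ^ m * c ^ m) := by rw [hyx]
        _ = x * (y * y ^ m) * (c * c ^ m) := by
          have hcy : c * y ^ m = y ^ m * c := hcen _
          simp only [mul_assoc]
          rw [← mul_assoc c, hcy, mul_assoc]
        _ = x * y ^ (m + 1) * c ^ (m + 1) := by rw [← pow_succ', ← pow_succ']
  have htri : ∀ m : ℕ, (m + 1) * (m + 1 - 1) / 2 = m * (m - 1) / 2 + m := by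
    intro m
    rw [← Nat.choose_two_right, ← Nat.choose_two_right, show (2:ℕ) = 1 + 1 from rfl, Nat.choose_succ_succ', Nat.choose_one_right]
    omega
  induction n with
  | zero => simp
  | succ m ih =>
    rw [htri, pow_succ, ih, pow_add c]
    have h1 : c ^ (m * (m - 1) / 2) * (x * y) = (x * y) * c ^ (m * (m - 1) / 2) :=
      ((show Commute c (x * y) from hcen _).pow_left _).eq
    have h2 : c ^ m * y = y * c ^ m := ((show Commute c y from hcen _).pow_left _).eq
    calc x ^ m * y ^ m * c ^ (m * (m - 1) / 2) * (x * y)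
        = x ^ m * (y ^ m * x) * y * c ^ (m * (m - 1) / 2) := by
          rw [mul_assoc (x ^ m * y ^ m), h1]; simp [mul_assoc]
      _ = x ^ m * x * (y ^ m * y) * (c ^ (m * (m - 1) / 2) * c ^ m) := by
          rw [hpow, (Commute.pow_pow_self c (m * (m - 1) / 2) m).eq]
          simp only [mul_assoc]
          rw [← mul_assoc (c ^ m) y, h2, mul_assoc]
      _ = _ := by rw [← pow_succ x, ← pow_succ y]

end Cfsg.Agent.S0841
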