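import Cfsg.Statements.S0842
import Cfsg.Agent.Lib.CharDeep.QuatTI

set_option autoImplicit false
open Cfsg

namespace Cfsg.Agent.S0842

/-- Suppose a Sylow 2-subgroup S of the finite group G is generalized quaternion of order at least 16, and let D be the commutator subgroup of S, C its centralizer and N its normalizer in G. Then there is a subgroup K of odd order, contained in C and normalized by N, with K ⊔ S = N and K ⊔ (S ⊓ C) = C, and C has index 2 in N. -/
theorem result {G : Type*} [Group G] [Finite G] (S : Sylow 2 G) (n : ℕ) (e : (S : Subgroup G) ≃* QuaternionGroup (2 ^ (n + 2))) (D : Subgroup G) (hD : D = ⁅(S : Subgroup G), (S : Subgroup G)⁆) : ∃ K : Subgroup G, Odd (Nat.card K) ∧ K ≤ Subgroup.centralizer (D : Set G) ∧ Subgroup.normalizer (D : Set G) ≤ Subgroup.normalizer (K : Set G) ∧ K ⊔ (S : Subgroup G) = Subgroup.normalizer (D : Set G) ∧ K ⊔ ((S : Subgroup G) ⊓ Subgroup.centralizer (D : Set G)) = Subgroup.centralizer (D : Set G) ∧ ((Subgroup.centralizer (D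 : Set G)).subgroupOf (Subgroup.normalizer (D : Set G))).index = 2 := by
  obtain rfl : D = CfsgLib.CharDeep.Quat.der S n e := hD.trans (CfsgLib.CharDeep.Quat.commutator_eq_der S n e)
  obtain ⟨K, hK, hodd, hdec⟩ := CfsgLib.CharDeep.Quat.exists_kernel S n e
  have hC : K ⊔ ((S : Subgroup G) ⊓ CfsgLib.CharDeep.Quat.cent S n e) = CfsgLib.CharDeep.Quat.cent S n e := by
    refine le_antisymm (sup_le (fun g hg => ((hK g).1 hg).1) inf_le_right) fun c hc => ?_
    obtain ⟨k, hk, u, hu, rfl⟩ := hdec c hc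
    rw [← CfsgLib.CharDeep.Quat.inf_cent S n e] at hu
    exact Subgroup.mul_mem_sup hk hu
  have hconj : ∀ g ∈ CfsgLib.CharDeep.Quat.nor S n e, ∀ k ∈ K, g * k * g⁻¹ ∈ K := by
    intro g hg k hk
    rw [hK] at hk ⊢
    refine ⟨CfsgLib.CharDeep.Quat.conj_mem_cent S n e hg hk.1, ?_⟩
    rw [show g * k * g⁻¹ = MulAut.conj g k from rfl, MulEquiv.orderOf_eq]
    exact hk.2
  refine ⟨K, hodd, fun g hg => ((hK g).1 hg).1, ?_, ?_, hC, (CfsgLib.CharDeep.Quat.cent_index S n e).1⟩
  · intro g hg
    rw [Subgroup.mem_normalizer_iff]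
    refine fun k => ⟨hconj g hg k, fun hk => ?_⟩
    have := hconj g⁻¹ ((Subgroup.normalizer _).inv_mem hg) _ hk
    simpa [mul_assoc] using this
  · refine le_antisymm (sup_le (fun g hg => CfsgLib.CharDeep.Quat.cent_le_nor S n e ((hK g).1 hg).1)
      (CfsgLib.CharDeep.Quat.le_nor S n e)) ?_
    show CfsgLib.CharDeep.Quat.nor S n e ≤ _
    rw [← (CfsgLib.CharDeep.Quat.cent_index S n e).2, ← hC]
    exact sup_le (sup_le le_sup_left (inf_le_left.trans le_sup_right)) le_sup_right

end Cfsg.Agent.S0842
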