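import Cfsg.Statements.S0845
import Cfsg.Agent.Lib.Invol.BrauerSuzukiLarge
import Cfsg.Agent.Lib.Char.Kernel

set_option autoImplicit false
open Cfsg
open scoped commutatorElement

namespace Cfsg.Agent.S0845

/-- Suppose a Sylow 2-subgroup S of the finite group G is generalized quaternion of order at least 16. Then G has a normal subgroup M of even order such that G / M is non-abelian, that is, M does not contain the commutator subgroup of G. -/
theorem result {G : Type*} [Group G] [Finite G] (S : Sylow 2 G) (n : ℕ) (e : (S : Subgroup G) ≃* QuaternionGroup (2 ^ (n + 2))) : ∃ M : Subgroup G, M.Normal ∧ Even (Nat.card M) ∧ ¬ commutator G ≤ M := by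
  classical
  have : Fact (Nat.Prime 2) := ⟨Nat.prime_two⟩
  cases nonempty_fintype G
  obtain ⟨χ₁, χ₂, h1, h2, hd, -, hinv⟩ := CfsgLib.Invol.BSLarge.exists_pair S n e
  obtain ⟨⟨z, -, hz⟩, -⟩ := CfsgLib.Invol.QuatSylow.exists_unique_of_quaternion S e
  obtain ⟨d, ρ, hρ, hχρ⟩ := χ₁.2
  have hρz : ρ z = 1 := by
    have h := CfsgLib.Char.eq_smul_id_of_character_eq ρ z 1 (by simp) (by
      rw [hχρ, (hinv z hz).1, ← hχρ, Representation.char_one, mul_one])
    rw [h, one_smul]
    rfl
  refine ⟨MonoidHom.ker ρ, MonoidHom.normal_ker _, ?_, fun hle => ?_⟩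
  · rw [even_iff_two_dvd, ← hz, ← Subgroup.orderOf_mk z (MonoidHom.mem_ker.2 hρz)]
    exact orderOf_dvd_natCard _
  have hcomm : ∀ g h : G, ρ g * ρ h = ρ h * ρ g := by
    intro g h
    have hk : ⁅g, h⁆ ∈ MonoidHom.ker ρ :=
      hle (Subgroup.commutator_mem_commutator (Subgroup.mem_top g) (Subgroup.mem_top h))
    rw [MonoidHom.mem_ker] at hk
    have he : g * h = ⁅g, h⁆ * (h * g) := by rw [commutatorElement_def]; group
    rw [← map_mul, he, map_mul, hk, one_mul, map_mul]
  have hfin : Module.finrank ℂ (Fin d → ℂ) = 1 := by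
    have := CfsgLib.CharKernel.nontrivial_of_irreducible ρ
    obtain ⟨v, hv⟩ := exists_ne (0 : Fin d → ℂ)
    rcases CfsgLib.CharKernel.eq_bot_or_eq_top ρ (ℂ ∙ v) (fun g w hw => by
      obtain ⟨c, hc⟩ := CfsgLib.Char.exists_scalar_of_commute ρ (ρ g) (fun x => hcomm g x)
      rw [hc]
      exact Submodule.smul_mem _ c hw) with h | h
    · exact absurd ((Submodule.span_singleton_eq_bot).1 h) hv
    · rw [← finrank_top ℂ (Fin d → ℂ), ← h, finrank_span_singleton hv]
  obtain ⟨d₂, hd₂, hd₂'⟩ := CfsgLib.Char.IsIrrCharacter.exists_degree χ₂.2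
  rw [← hχρ, Representation.char_one, hfin, hd₂'] at hd
  have h3 : (1 : ℕ) = d₂ + 1 := by exact_mod_cast hd
  omega

end Cfsg.Agent.S0845
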