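import Cfsg.Statements.S0850
import Cfsg.Agent.Lib.Char.Induced
import Mathlib
import Cfsg.Agent.Lib.Transfer.PGroup

set_option autoImplicit false
open Cfsg

namespace Cfsg.Agent.S0850

/-- Let K be a subgroup of the finite group G that meets each conjugate by an element outside its normalizer N trivially, is properly contained in N, and contains the centralizer of each of its non-identity elements (a T.I. subgroup with Frobenius normalizer). Then no element of N outside K is conjugate in G to an element of K, and for every class function ϑ of N that vanishes on N away from K and at the identity, the function induced from ϑ to G agrees with ϑ on all of N. -/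
theorem result {G : Type*} [Group G] [Fintype G] (K : Subgroup G) (hTI : ∀ g : G, g ∉ Subgroup.normalizer (K : Set G) → ∀ k ∈ K, g * k * g⁻¹ ∈ K → k = 1) (hlt : K < Subgroup.normalizer (K : Set G)) (hC : ∀ k ∈ K, k ≠ 1 → Subgroup.centralizer ({k} : Set G) ≤ K) : (∀ x ∈ Subgroup.normalizer (K : Set G), x ∉ K → ∀ g : G, g * x * g⁻¹ ∉ K) ∧ ∀ (ϑ : Subgroup.normalizer (K : Set G) → ℂ), Cfsg.IsClassFunction (Subgroup.normalizer (K : Set G)) ϑ → (∀ x : Subgroup.normalizer (K : Set G), (x : G) ∉ K → ϑ x = 0) → ϑ 1 = 0 → ∀ x : Subgroup.normalizer (K : Set G), Cfsg.indFun (Subgroup.normalizer (K : Set G)) ϑ x = ϑ x := by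
  classical
  set N := Subgroup.normalizer (K : Set G)
  have hcop : Nat.Coprime (Nat.card K) (K.subgroupOf N).index := by
    refine Nat.coprime_of_dvd fun q hq hqK hqI => ?_
    haveI : Fact q.Prime := ⟨hq⟩
    haveI : (K.subgroupOf N).Normal := Subgroup.normal_subgroupOf_iff_le_normalizer hlt.le |>.2 le_rfl
    have hcard : Nat.card (K.subgroupOf N) = Nat.card K :=
      Nat.card_congr (Subgroup.subgroupOfEquivOfLe hlt.le).toEquiv
    obtain ⟨T⟩ : Nonempty (Sylow q (K.subgroupOf N)) := inferInstance
    have hTne : (T : Subgroup (K.subgroupOf N)) ≠ ⊥ := T.ne_bot_of_dvd_card (hcard.symm ▸ hqK)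
    obtain ⟨Q', hQ'⟩ := (T.isPGroup'.map (K.subgroupOf N).subtype).exists_le_sylow
    have hQ'K : ¬ (Q' : Subgroup N) ≤ K.subgroupOf N := fun hle =>
      Q'.not_dvd_index (hqI.trans (Subgroup.index_dvd_of_le hle))
    let L : Subgroup (Q' : Subgroup N) := (K.subgroupOf N).subgroupOf Q'
    have hLne : L ≠ ⊥ := by
      intro h
      apply hTne
      rw [← Subgroup.map_eq_bot_iff_of_injective _ (K.subgroupOf N).subtype_injective, eq_bot_iff]
      intro t ht
      have h1 : (⟨t, hQ' ht⟩ : (Q' : Subgroup N)) ∈ L := by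
        obtain ⟨s, _, rfl⟩ := ht
        exact s.2
      rw [h, Subgroup.mem_bot] at h1
      exact congrArg Subtype.val h1
    obtain ⟨z, hz, hz1⟩ : ∃ z ∈ L ⊓ Subgroup.center _, z ≠ 1 := by
      haveI : Group.IsNilpotent (Q' : Subgroup N) := Q'.isPGroup'.isNilpotent
      have h := CfsgLib.Transfer.inf_center_ne_bot (N := L) hLne
      by_contra hcon
      push Not at hcon
      exact h (eq_bot_iff.2 fun z hz => hcon z hz)
    apply hQ'K
    intro y hy
    have hzK : ((z : N) : G) ∈ K := hz.1
    refine hC _ hzK (fun h => hz1 (Subtype.ext (Subtype.ext h))) ?_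
    rw [Subgroup.mem_centralizer_singleton_iff]
    have := Subgroup.mem_center_iff.1 hz.2 ⟨y, hy⟩
    exact congrArg (fun w : (Q' : Subgroup N) => ((w : N) : G)) this
  have h1 : ∀ x ∈ N, x ∉ K → ∀ g : G, g * x * g⁻¹ ∉ K := by
    intro x hx hxK g hg
    apply hxK
    haveI : (K.subgroupOf N).Normal := Subgroup.normal_subgroupOf_iff_le_normalizer hlt.le |>.2 le_rfl
    have ho : orderOf x ∣ Nat.card K := by
      rw [← MulEquiv.orderOf_eq (MulAut.conj g) x]
      have := Subgroup.orderOf_coe (⟨MulAut.conj g x, hg⟩ : K)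
      rw [this]
      exact orderOf_dvd_natCard _
    have h2 : orderOf (QuotientGroup.mk' (K.subgroupOf N) ⟨x, hx⟩) = 1 :=
      Nat.eq_one_of_dvd_coprimes hcop
        (((orderOf_map_dvd _ _).trans (by rw [Subgroup.orderOf_mk])).trans ho)
        (orderOf_dvd_natCard _)
    rw [orderOf_eq_one_iff, QuotientGroup.mk'_apply, QuotientGroup.eq_one_iff] at h2
    exact h2
  refine ⟨h1, fun ϑ hcl hsupp h0 x => ?_⟩
  by_cases hx1 : x = 1
  · subst hx1
    rw [Subgroup.coe_one, CfsgLib.Char.indFun_apply_one, h0, mul_zero]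
  rw [CfsgLib.Char.indFun_apply]
  have hx1' : (x : G) ≠ 1 := fun h => hx1 (Subtype.ext h)
  have hterm : ∀ g : G, Cfsg.extendByZero N ϑ (g⁻¹ * x * g) = if g ∈ N then ϑ x else 0 := by
    intro g
    split_ifs with hg
    · have h := CfsgLib.Char.extendByZero_conj N ϑ hcl (⟨g, hg⟩⁻¹) x
      simp only [InvMemClass.coe_inv, inv_inv] at h
      rw [h, CfsgLib.Char.extendByZero_coe]
    · by_cases hm : g⁻¹ * x * g ∈ N
      · rw [CfsgLib.Char.extendByZero_apply_mem N ϑ hm]
        refine hsupp _ fun hk => ?_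
        by_cases hxK : (x : G) ∈ K
        · refine hx1' (hTI g⁻¹ ?_ x hxK ?_)
          · intro h; exact hg (by simpa using N.inv_mem h)
          · simpa using hk
        · exact h1 x x.2 hxK g⁻¹ (by simpa using hk)
      · exact CfsgLib.Char.extendByZero_of_notMem N ϑ hm
  simp only [hterm, Finset.sum_ite, Finset.sum_const_zero, add_zero, Finset.sum_const, nsmul_eq_mul]
  rw [show (Finset.univ.filter fun g : G => g ∈ N).card = Nat.card N by
    rw [Nat.card_eq_fintype_card, Fintype.card_subtype],
    ← mul_assoc, inv_mul_cancel₀ (Nat.cast_ne_zero.2 Nat.card_pos.ne'), one_mul]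

end Cfsg.Agent.S0850
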