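import Cfsg.Statements.S0852
import Cfsg.Agent.Lib.CharDeep.TIFrobenius

set_option autoImplicit false
open Cfsg

namespace Cfsg.Agent.S0852

/-- Let K be a subgroup of the finite group G that meets each conjugate by an element outside its normalizer N trivially, is properly contained in N, and contains the centralizer of each of its non-identity elements (a T.I. subgroup with Frobenius normalizer). Let S be the set of irreducible characters of N taking at some element of K a value different from their degree, suppose S has at least two members, and let star be a linear isometry on the integer span of S into the generalized characters of G that agrees with induction on the members vanishing at the identity (so S is coherent, with star as the extending isometry). Then an irreducible character ψ of G is of the form star χ or -star χ for some χ in S if and only if ψ is not constant on the non-identity elements of K. -/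
theorem result {G : Type*} [Group G] [Fintype G] (K : Subgroup G) (hTI : ∀ g : G, g ∉ Subgroup.normalizer (K : Set G) → ∀ k ∈ K, g * k * g⁻¹ ∈ K → k = 1) (hlt : K < Subgroup.normalizer (K : Set G)) (hC : ∀ k ∈ K, k ≠ 1 → Subgroup.centralizer ({k} : Set G) ≤ K) [Fintype ↥(Subgroup.normalizer (K : Set G))] (S : Set (↥(Subgroup.normalizer (K : Set G)) → ℂ)) (hS : S = {χ : ↥(Subgroup.normalizer (K : Set G)) → ℂ | Cfsg.IsIrrCharacter ↥(Subgroup.normalizer (K : Set G)) χ ∧ ∃ k : ↥(Subgroup.normalizer (K : Set G)), (k : G) ∈ K ∧ χ k ≠ χ 1}) (htwo : ∃ χ ∈ S, ∃ ξ ∈ S, χ ≠ ξ) (star : (↥(Subgroup.normalizer (K : Set G)) → ℂ) → (G → ℂ)) (hstar : Cfsg.IsLinearIsometryOn (Cfsg.zspan S) star) (hext : ∀ α ∈ Cfsg.zspanOn S ({1}ᶜ : Set ↥(Subgroup.normalizer (K : Set G))), star α = Cfsg.indFun (Subgroup.normalizer (K : Set G)) α) (ψ : G → ℂ) (hψ : Cfsg.IsIrrCharacter G ψ) : (∃ χ ∈ S, ψ = star χ ∨ ψ = -star χ) ↔ ∃ a ∈ K, ∃ b ∈ K, a ≠ 1 ∧ b ≠ 1 ∧ ψ a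 ≠ ψ b := by
  classical
  have hmemS : ∀ {χ}, χ ∈ S ↔ Cfsg.IsIrrCharacter ↥(Subgroup.normalizer (K : Set G)) χ ∧
      CfsgLib.CharDeep.TIF.Rel (K.subgroupOf (Subgroup.normalizer (K : Set G))) χ := by
    intro χ; rw [hS]; rfl
  haveI := CfsgLib.CharDeep.TIF.normal_subgroupOf_normalizer K
  have hfpf := CfsgLib.CharDeep.TIF.fpf K hC
  have := Fintype.ofFinite (K.subgroupOf (Subgroup.normalizer (K : Set G)))
  have hψcl := CfsgLib.Char.IsIrrCharacter.isClassFunction hψ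
  let F : ↥(Subgroup.normalizer (K : Set G)) → ℂ := fun x => ψ x
  have hF : Cfsg.IsClassFunction ↥(Subgroup.normalizer (K : Set G)) F := fun x y => hψcl x y
  -- the coefficient identity
  have key : ∀ {χ ξ : ↥(Subgroup.normalizer (K : Set G)) → ℂ} {dχ dξ : ℕ}, Cfsg.IsIrrCharacter ↥(Subgroup.normalizer (K : Set G)) χ →
      CfsgLib.CharDeep.TIF.Rel (K.subgroupOf (Subgroup.normalizer (K : Set G))) χ → χ 1 = dχ → Cfsg.IsIrrCharacter ↥(Subgroup.normalizer (K : Set G)) ξ →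
      CfsgLib.CharDeep.TIF.Rel (K.subgroupOf (Subgroup.normalizer (K : Set G))) ξ → ξ 1 = dξ →
      (dξ : ℂ) * Cfsg.classInner χ F - (dχ : ℂ) * Cfsg.classInner ξ F =
        (dξ : ℂ) * Cfsg.classInner (star χ) ψ - (dχ : ℂ) * Cfsg.classInner (star ξ) ψ := by
    intro χ ξ dχ dξ hχ hχS hχ1 hξ hξS hξ1
    obtain ⟨h1, -, -⟩ := CfsgLib.CharDeep.TIF.comb_props K hC hχ hχS hχ1 hξ hξS hξ1
    have h := CfsgLib.Char.classInner_indFun (Subgroup.normalizer (K : Set G)) (CfsgLib.CharDeep.TIF.comb K dχ dξ χ ξ) ψ hψcl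
    rw [CfsgLib.CharDeep.TIF.star_comb K hstar hext (hmemS.2 ⟨hχ, hχS⟩) (hmemS.2 ⟨hξ, hξS⟩) h1] at h
    rw [show (fun g => (dξ : ℂ) * star χ g - (dχ : ℂ) * star ξ g) =
        (dξ : ℂ) • star χ - (dχ : ℂ) • star ξ from rfl,
      show CfsgLib.CharDeep.TIF.comb K dχ dξ χ ξ = (dξ : ℂ) • χ - (dχ : ℂ) • ξ from
        funext fun x => CfsgLib.CharDeep.TIF.comb_apply K dχ dξ χ ξ x] at h
    simp only [CfsgLib.Char.classInner_sub_left, CfsgLib.Char.classInner_smul_left] at h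
    exact h.symm
  constructor
  · rintro ⟨χ, hχm, hψχ⟩
    obtain ⟨hχ, hχS⟩ := hmemS.1 hχm
    by_contra hcon
    push Not at hcon
    -- otherwise `ψ` is constant on `K`
    obtain ⟨k₀, hk₀, hk₀1⟩ := id hχS
    have hk₀1' : (k₀ : G) ≠ 1 := fun h => hk₀1 (by rw [show k₀ = 1 from Subtype.ext h])
    have hconst : ∀ k ∈ K.subgroupOf (Subgroup.normalizer (K : Set G)), k ≠ 1 → F k = F k₀ := fun k hk hk1 =>
      hcon k hk k₀ hk₀ (fun h => hk1 (Subtype.ext h)) hk₀1'
    obtain ⟨ξ, ⟨hξ, hξS⟩, hne⟩ : ∃ ξ, (Cfsg.IsIrrCharacter ↥(Subgroup.normalizer (K : Set G)) ξ ∧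
        CfsgLib.CharDeep.TIF.Rel (K.subgroupOf (Subgroup.normalizer (K : Set G))) ξ) ∧ ξ ≠ χ := by
      obtain ⟨a, ha, b, hb, hab⟩ := htwo
      by_cases h : a = χ
      · exact ⟨b, hmemS.1 hb, fun e => hab (h.trans e.symm)⟩
      · exact ⟨a, hmemS.1 ha, h⟩
    obtain ⟨dχ, hdχ, hχ1⟩ := CfsgLib.Char.IsIrrCharacter.exists_degree hχ
    obtain ⟨dξ, hdξ, hξ1⟩ := CfsgLib.Char.IsIrrCharacter.exists_degree hξ
    have h := key hχ hχS hχ1 hξ hξS hξ1
    rw [CfsgLib.CharDeep.TIF.classInner_eq_of_const _ hfpf _ hconst hχ hχS,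
      CfsgLib.CharDeep.TIF.classInner_eq_of_const _ hfpf _ hconst hξ hξS, hχ1, hξ1] at h
    obtain ⟨-, -, hinner, -⟩ := hstar
    have hm : ∀ {θ}, θ ∈ S → θ ∈ Cfsg.zspan S := fun h => Submodule.subset_span h
    have e1 := hinner χ (hm (hmemS.2 ⟨hχ, hχS⟩)) χ (hm (hmemS.2 ⟨hχ, hχS⟩))
    have e2 := hinner ξ (hm (hmemS.2 ⟨hξ, hξS⟩)) χ (hm (hmemS.2 ⟨hχ, hχS⟩))
    rw [CfsgLib.Char.classInner_irr_self hχ] at e1
    rw [CfsgLib.Char.classInner_irr_of_ne hξ hχ hne] at e2
    have h0 : (dξ : ℂ) ≠ 0 := Nat.cast_ne_zero.2 hdξ.ne'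
    rcases hψχ with rfl | rfl
    · rw [e1, e2] at h
      exact h0 (by linear_combination -h)
    · rw [CfsgLib.Char.classInner_neg_right, CfsgLib.Char.classInner_neg_right, e1, e2] at h
      exact h0 (by linear_combination h)
  · rintro ⟨a, ha, b, hb, ha1, hb1, hab⟩
    by_contra hcon
    push Not at hcon
    have hzero : ∀ χ : ↥(Subgroup.normalizer (K : Set G)) → ℂ, Cfsg.IsIrrCharacter ↥(Subgroup.normalizer (K : Set G)) χ → CfsgLib.CharDeep.TIF.Rel (K.subgroupOf (Subgroup.normalizer (K : Set G))) χ →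
        Cfsg.classInner (star χ) ψ = 0 := by
      intro χ hχ hχS
      obtain ⟨h1, h2⟩ := hcon χ (hmemS.2 ⟨hχ, hχS⟩)
      rcases CfsgLib.CharDeep.TIF.star_irr K hstar
        (hmemS.2 ⟨hχ, hχS⟩) hχ with h | h
      · exact CfsgLib.Char.classInner_irr_of_ne h hψ (Ne.symm h1)
      · have := CfsgLib.Char.classInner_irr_of_ne h hψ (Ne.symm h2)
        rw [CfsgLib.Char.classInner_neg_left] at this
        exact neg_eq_zero.1 this
    refine hab (CfsgLib.CharDeep.TIF.const_of_classInner (K.subgroupOf (Subgroup.normalizer (K : Set G))) hF ?_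
      (k := ⟨a, Subgroup.le_normalizer ha⟩) (k' := ⟨b, Subgroup.le_normalizer hb⟩)
      ha (fun h => ha1 (congrArg Subtype.val h)) hb (fun h => hb1 (congrArg Subtype.val h)))
    intro χ ξ hχ hχS hξ hξS
    obtain ⟨dχ, -, hχ1⟩ := CfsgLib.Char.IsIrrCharacter.exists_degree hχ
    obtain ⟨dξ, -, hξ1⟩ := CfsgLib.Char.IsIrrCharacter.exists_degree hξ
    have h := key hχ hχS hχ1 hξ hξS hξ1
    rw [hzero χ hχ hχS, hzero ξ hξ hξS] at h
    rw [hχ1, hξ1]
    linear_combination h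

end Cfsg.Agent.S0852
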