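import Cfsg.Statements.S0853
import Cfsg.Agent.Lib.CharDeep.TIFrobenius

set_option autoImplicit false
open Cfsg

namespace Cfsg.Agent.S0853

/-- Let K be a subgroup of the finite group G that meets each conjugate by an element outside its normalizer N trivially, is properly contained in N, and contains the centralizer of each of its non-identity elements (a T.I. subgroup with Frobenius normalizer). Let S be the set of irreducible characters of N taking at some element of K a value different from their degree, suppose S has at least two members, and let star be a linear isometry on the integer span of S into the generalized characters of G that agrees with induction on the members vanishing at the identity (so S is coherent, with star as the extending isometry). Then there is a single integer m such that star χ k - χ k = m * χ 1 / e for every χ in S and every non-identity element k of K, where e is the index of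 K in N. -/
theorem result {G : Type*} [Group G] [Fintype G] (K : Subgroup G) (hTI : ∀ g : G, g ∉ Subgroup.normalizer (K : Set G) → ∀ k ∈ K, g * k * g⁻¹ ∈ K → k = 1) (hlt : K < Subgroup.normalizer (K : Set G)) (hC : ∀ k ∈ K, k ≠ 1 → Subgroup.centralizer ({k} : Set G) ≤ K) [Fintype ↥(Subgroup.normalizer (K : Set G))] (S : Set (↥(Subgroup.normalizer (K : Set G)) → ℂ)) (hS : S = {χ : ↥(Subgroup.normalizer (K : Set G)) → ℂ | Cfsg.IsIrrCharacter ↥(Subgroup.normalizer (K : Set G)) χ ∧ ∃ k : ↥(Subgroup.normalizer (K : Set G)), (k : G) ∈ K ∧ χ k ≠ χ 1}) (htwo : ∃ χ ∈ S, ∃ ξ ∈ S, χ ≠ ξ) (star : (↥(Subgroup.normalizer (K : Set G)) → ℂ) → (G → ℂ)) (hstar : Cfsg.IsLinearIsometryOn (Cfsg.zspan S) star) (hext : ∀ α ∈ Cfsg.zspanOn S ({1}ᶜ : Set ↥(Subgroup.normalizer (K : Set G))), star α = Cfsg.indFun (Subgroup.normalizer (K : Set G)) α) : ∃ m : ℤ, ∀ χ ∈ S, ∀ k : ↥(Subgroup.normalizer (K : Set G)), (k : G) ∈ K → k ≠ 1 → star χ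 k - χ k = (m : ℂ) * χ 1 / ((K.subgroupOf (Subgroup.normalizer (K : Set G))).index : ℂ) := by
  classical
  have hmemS : ∀ {χ}, χ ∈ S ↔ Cfsg.IsIrrCharacter ↥(Subgroup.normalizer (K : Set G)) χ ∧
      CfsgLib.CharDeep.TIF.Rel (K.subgroupOf (Subgroup.normalizer (K : Set G))) χ := by
    intro χ; rw [hS]; rfl
  haveI := CfsgLib.CharDeep.TIF.normal_subgroupOf_normalizer K
  have hfpf := CfsgLib.CharDeep.TIF.fpf K hC
  let KN := K.subgroupOf (Subgroup.normalizer (K : Set G))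
  have := Fintype.ofFinite KN
  have hm : ∀ {θ}, θ ∈ S → θ ∈ Cfsg.zspan S := fun h => Submodule.subset_span h
  have hgen : ∀ χ, Cfsg.IsIrrCharacter ↥(Subgroup.normalizer (K : Set G)) χ → CfsgLib.CharDeep.TIF.Rel KN χ →
      Cfsg.IsGeneralizedCharacter ↥(Subgroup.normalizer (K : Set G)) (fun n : ↥(Subgroup.normalizer (K : Set G)) => star χ n - χ n) := fun χ hχ hχS =>
    CfsgLib.Char.IsGeneralizedCharacter.sub
      (CfsgLib.Char.IsGeneralizedCharacter.restrict (hstar.2.2.2 χ (hm (hmemS.2 ⟨hχ, hχS⟩))) (Subgroup.normalizer (K : Set G)))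
      (CfsgLib.Char.IsIrrCharacter.isGeneralizedCharacter hχ)
  -- values of the differences scale with the degree
  have hscale : ∀ {χ ξ : ↥(Subgroup.normalizer (K : Set G)) → ℂ} {dχ dξ : ℕ}, Cfsg.IsIrrCharacter ↥(Subgroup.normalizer (K : Set G)) χ → CfsgLib.CharDeep.TIF.Rel KN χ →
      χ 1 = dχ → Cfsg.IsIrrCharacter ↥(Subgroup.normalizer (K : Set G)) ξ → CfsgLib.CharDeep.TIF.Rel KN ξ → ξ 1 = dξ →
      ∀ k ∈ KN, k ≠ 1 → (dξ : ℂ) * (star χ k - χ k) = (dχ : ℂ) * (star ξ k - ξ k) := by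
    intro χ ξ dχ dξ hχ hχS hχ1 hξ hξS hξ1 k hk hk1
    obtain ⟨h1, hoff, hcl⟩ := CfsgLib.CharDeep.TIF.comb_props K hC hχ hχS hχ1 hξ hξS hξ1
    have h := CfsgLib.Char.indFun_ti_apply (K : Set G) hTI (CfsgLib.CharDeep.TIF.comb K dχ dξ χ ξ) hcl
      hoff k hk hk1
    rw [CfsgLib.CharDeep.TIF.star_comb K hstar hext (hmemS.2 ⟨hχ, hχS⟩) (hmemS.2 ⟨hξ, hξS⟩) h1,
      CfsgLib.CharDeep.TIF.comb_apply] at h
    linear_combination h
  -- the differences are constant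
  have hconst : ∀ χ, Cfsg.IsIrrCharacter ↥(Subgroup.normalizer (K : Set G)) χ → CfsgLib.CharDeep.TIF.Rel KN χ →
      ∀ k ∈ KN, k ≠ 1 → ∀ k' ∈ KN, k' ≠ 1 → star χ k - χ k = star χ k' - χ k' := by
    intro χ hχ hχS k hk hk1 k' hk' hk'1
    refine CfsgLib.CharDeep.TIF.const_of_classInner KN (F := fun n : ↥(Subgroup.normalizer (K : Set G)) => star χ n - χ n)
      (CfsgLib.Char.IsGeneralizedCharacter.isClassFunction (hgen χ hχ hχS)) ?_ hk hk1 hk' hk'1
    intro η ζ hη hηS hζ hζS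
    obtain ⟨dη, -, hη1⟩ := CfsgLib.Char.IsIrrCharacter.exists_degree hη
    obtain ⟨dζ, -, hζ1⟩ := CfsgLib.Char.IsIrrCharacter.exists_degree hζ
    obtain ⟨h1, -, -⟩ := CfsgLib.CharDeep.TIF.comb_props K hC hη hηS hη1 hζ hζS hζ1
    have hstχ := hstar.2.2.2 χ (hm (hmemS.2 ⟨hχ, hχS⟩))
    have h := CfsgLib.Char.classInner_indFun (Subgroup.normalizer (K : Set G)) (CfsgLib.CharDeep.TIF.comb K dη dζ η ζ) (star χ)
      (CfsgLib.Char.IsGeneralizedCharacter.isClassFunction hstχ)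
    rw [CfsgLib.CharDeep.TIF.star_comb K hstar hext (hmemS.2 ⟨hη, hηS⟩) (hmemS.2 ⟨hζ, hζS⟩) h1] at h
    rw [show (fun g => (dζ : ℂ) * star η g - (dη : ℂ) * star ζ g) =
        (dζ : ℂ) • star η - (dη : ℂ) • star ζ from rfl,
      show CfsgLib.CharDeep.TIF.comb K dη dζ η ζ = (dζ : ℂ) • η - (dη : ℂ) • ζ from
        funext fun x => CfsgLib.CharDeep.TIF.comb_apply K dη dζ η ζ x] at h
    simp only [CfsgLib.Char.classInner_sub_left, CfsgLib.Char.classInner_smul_left] at h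
    rw [hstar.2.2.1 η (hm (hmemS.2 ⟨hη, hηS⟩)) χ (hm (hmemS.2 ⟨hχ, hχS⟩)),
      hstar.2.2.1 ζ (hm (hmemS.2 ⟨hζ, hζS⟩)) χ (hm (hmemS.2 ⟨hχ, hχS⟩))] at h
    rw [show (fun n : ↥(Subgroup.normalizer (K : Set G)) => star χ n - χ n) = (fun n : ↥(Subgroup.normalizer (K : Set G)) => star χ n) - χ from rfl,
      CfsgLib.Char.classInner_sub_right, CfsgLib.Char.classInner_sub_right, hη1, hζ1]
    linear_combination -h
  obtain ⟨χ₀, hχ₀m, -⟩ := htwo
  obtain ⟨hχ₀, hχ₀S⟩ := hmemS.1 hχ₀m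
  obtain ⟨k₀, hk₀, hk₀ne⟩ := id hχ₀S
  have hk₀1 : k₀ ≠ 1 := fun h => hk₀ne (by rw [h])
  have hk₀' : k₀ ∈ KN := hk₀
  have hKpos : 1 < Nat.card KN := by
    rw [Finite.one_lt_card_iff_nontrivial]
    exact ⟨⟨⟨k₀, hk₀'⟩, 1, fun h => hk₀1 (congrArg Subtype.val h)⟩⟩
  -- the constant is an integer
  have hint : ∀ χ, Cfsg.IsIrrCharacter ↥(Subgroup.normalizer (K : Set G)) χ → CfsgLib.CharDeep.TIF.Rel KN χ →
      ∃ z : ℤ, star χ k₀ - χ k₀ = z := by
    intro χ hχ hχS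
    set F := fun n : ↥(Subgroup.normalizer (K : Set G)) => star χ n - χ n with hF
    have hg := hgen χ hχ hχS
    obtain ⟨a, ha⟩ := CfsgLib.CharExc.exists_int_classInner
      (CfsgLib.Char.IsGeneralizedCharacter.restrict hg KN) CfsgLib.Char.isIrrCharacter_principal
    obtain ⟨b, hb⟩ := CfsgLib.Char.IsGeneralizedCharacter.exists_int_apply_one hg
    have hsum : ∑ k : KN, F k = F 1 + ((Nat.card KN : ℂ) - 1) * F k₀ := by
      have h : ∀ k : KN, F k = F k₀ + if k = 1 then F k - F k₀ else 0 := by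
        intro k
        split_ifs with hk
        · ring
        · rw [add_zero]
          exact hconst χ hχ hχS k k.2 (fun e => hk (Subtype.ext e)) k₀ hk₀' hk₀1
      rw [Finset.sum_congr rfl fun k _ => h k, Finset.sum_add_distrib, Finset.sum_const, Finset.card_univ,
        Finset.sum_ite_eq' Finset.univ (1 : KN), if_pos (Finset.mem_univ _), Subgroup.coe_one,
        nsmul_eq_mul, Nat.card_eq_fintype_card]
      ring
    unfold Cfsg.classInner at ha
    simp only [map_one, mul_one] at ha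
    rw [hsum, inv_mul_eq_iff_eq_mul₀ (Nat.cast_ne_zero.2 Nat.card_pos.ne'), show F 1 = (b : ℂ) from hb] at ha
    have hne : (Nat.card KN : ℂ) - 1 ≠ 0 := by
      intro h
      have : Nat.card KN = 1 := by exact_mod_cast sub_eq_zero.1 h
      omega
    have hq : F k₀ = (((((Nat.card KN : ℤ) * a - b : ℤ) : ℚ) / (((Nat.card KN : ℤ) - 1 : ℤ) : ℚ) : ℚ) : ℂ) := by
      push_cast
      rw [eq_div_iff hne]
      linear_combination ha
    have hI : IsIntegral ℤ (F k₀) := CfsgLib.Char.IsGeneralizedCharacter.isIntegral_apply hg k₀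
    rw [hq] at hI
    obtain ⟨z, hz⟩ := CfsgLib.Char.exists_int_of_isIntegral_ratCast hI
    exact ⟨z, by rw [show star χ k₀ - χ k₀ = F k₀ from rfl, hq, ← hz, Rat.cast_intCast]⟩
  obtain ⟨d₀, hd₀, hχ₀1⟩ := CfsgLib.Char.IsIrrCharacter.exists_degree hχ₀
  set e := KN.index
  have hepos : 0 < e := Nat.pos_of_ne_zero Subgroup.index_ne_zero_of_finite
  obtain ⟨z₀, hz₀⟩ := hint χ₀ hχ₀ hχ₀S
  set q : ℂ := (z₀ : ℂ) * (e : ℂ) / (d₀ : ℂ) with hq
  have hd₀' : (d₀ : ℂ) ≠ 0 := Nat.cast_ne_zero.2 hd₀.ne'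
  have he' : (e : ℂ) ≠ 0 := Nat.cast_ne_zero.2 hepos.ne'
  have hval : ∀ χ, Cfsg.IsIrrCharacter ↥(Subgroup.normalizer (K : Set G)) χ → CfsgLib.CharDeep.TIF.Rel KN χ →
      ∀ k ∈ KN, k ≠ 1 → star χ k - χ k = q * χ 1 / e := by
    intro χ hχ hχS k hk hk1
    obtain ⟨dχ, -, hχ1⟩ := CfsgLib.Char.IsIrrCharacter.exists_degree hχ
    have h := hscale hχ hχS hχ1 hχ₀ hχ₀S hχ₀1 k₀ hk₀' hk₀1
    rw [hz₀] at h
    rw [hconst χ hχ hχS k hk hk1 k₀ hk₀' hk₀1, hχ1, hq]
    field_simp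
    linear_combination h
  -- integrality through the degrees of the characters of `K`
  have hτ : ∀ τ : Cfsg.IrrCharacter KN, ∃ d : ℕ, (τ : KN → ℂ) 1 = d ∧ d ∣ Nat.card KN ∧
      ((τ : KN → ℂ) ≠ (fun _ => 1) → ∃ z : ℤ, q * d = z) := by
    rintro ⟨_, d, ρ, hρ, rfl⟩
    refine ⟨d, by simp, ?_, fun hne => ?_⟩
    · have := CfsgLib.Char.finrank_dvd_card ρ
      rwa [Module.finrank_fin_fun] at this
    · have hirr := CfsgLib.CharDeep.TIF.indFun_irr KN hfpf ⟨d, ρ, hρ, rfl⟩ hne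
      have hrel := CfsgLib.CharDeep.TIF.rel_indFun KN hfpf ⟨d, ρ, hρ, rfl⟩ hne
      obtain ⟨z, hz⟩ := hint _ hirr hrel
      refine ⟨z, ?_⟩
      rw [← hz, hval _ hirr hrel k₀ hk₀' hk₀1, CfsgLib.Char.indFun_apply_one, ρ.char_one,
        Module.finrank_fin_fun]
      field_simp
      rfl
  choose d hd hdvd hz using hτ
  obtain ⟨τ₀, hτ₀⟩ : ∃ τ : Cfsg.IrrCharacter KN, (τ : KN → ℂ) ≠ fun _ => 1 := by
    obtain ⟨τ, hτirr, hτne, -⟩ := CfsgLib.CharDeep.TIF.exists_eq_indFun KN hfpf hχ₀ hχ₀S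
    exact ⟨⟨τ, hτirr⟩, hτne⟩
  obtain ⟨z₁, hz₁⟩ := hz τ₀ hτ₀
  obtain ⟨c, hc⟩ := hdvd τ₀
  have hA : q * (Nat.card KN : ℂ) = ((z₁ * c : ℤ) : ℂ) := by
    rw [hc]; push_cast; rw [← hz₁]; ring
  let P : Cfsg.IrrCharacter KN := CfsgLib.Char.principalIrr
  have hB : ∃ z : ℤ, q * ((Nat.card KN : ℂ) - 1) = z := by
    have h1 := CfsgLib.Char.sum_apply_one_sq (G := KN)
    rw [← Finset.add_sum_erase _ _ (Finset.mem_univ P), CfsgLib.Char.principalIrr_apply, one_pow] at h1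
    choose w hw using fun τ : {τ // τ ∈ (Finset.univ : Finset (Cfsg.IrrCharacter KN)).erase P} =>
      hz τ.1 (fun h => (Finset.mem_erase.1 τ.2).1 (Subtype.ext h))
    refine ⟨∑ τ, w τ * d τ.1, ?_⟩
    rw [show (Nat.card KN : ℂ) - 1 = ∑ τ ∈ (Finset.univ : Finset (Cfsg.IrrCharacter KN)).erase P,
        (τ : KN → ℂ) 1 ^ 2 by linear_combination -h1,
      ← Finset.sum_coe_sort ((Finset.univ : Finset (Cfsg.IrrCharacter KN)).erase P), Finset.mul_sum]
    push_cast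
    refine Finset.sum_congr rfl fun τ _ => ?_
    rw [hd, ← hw τ]
    ring
  obtain ⟨z₂, hz₂⟩ := hB
  refine ⟨z₁ * c - z₂, fun χ hχ k hk hk1 => ?_⟩
  rw [hval χ (hmemS.1 hχ).1 (hmemS.1 hχ).2 k hk hk1]
  congr 2
  push_cast at hA ⊢
  linear_combination hA - hz₂

end Cfsg.Agent.S0853
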