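import Cfsg.Statements.S0860
import Cfsg.Agent.Lib.Char.Complete
import Mathlib

set_option autoImplicit false
open Cfsg

namespace Cfsg.Agent.S0860

/-- Let a group A act on the set of irreducible characters and on the set of conjugacy classes of a finite group G in such a way that (a • χ) evaluated on the class a • C equals χ evaluated on C, for all a, χ and C. Then every element of A fixes exactly as many irreducible characters as it fixes conjugacy classes. -/
theorem result {G : Type*} [Group G] [Finite G] {A : Type*} [Group A] [MulAction A (Cfsg.IrrCharacter G)] [MulAction A (ConjClasses G)] (hcompat : ∀ (a : A) (χ : Cfsg.IrrCharacter G) (g g' : G), ConjClasses.mk g' = a • ConjClasses.mk g → ((a • χ : Cfsg.IrrCharacter G) : G → ℂ) g' = (χ : G → ℂ) g) (a : A) : Nat.card {χ : Cfsg.IrrCharacter G // a • χ = χ} = Nat.card {C : ConjClasses G // a • C = C} := by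
  classical
  cases nonempty_fintype G
  have : Finite (ConjClasses G) := Finite.of_surjective ConjClasses.mk Quotient.mk_surjective
  have := Fintype.ofFinite (ConjClasses G)
  have hG : (Nat.card G : ℂ) ≠ 0 := Nat.cast_ne_zero.2 Nat.card_pos.ne'
  set r : G → G := fun g => (a⁻¹ • ConjClasses.mk g).out
  have hr : ∀ g, ConjClasses.mk g = a • ConjClasses.mk (r g) := fun g => by
    have h : ConjClasses.mk ((a⁻¹ • ConjClasses.mk g).out) = a⁻¹ • ConjClasses.mk g := Quotient.out_eq _
    rw [show r g = (a⁻¹ • ConjClasses.mk g).out from rfl, h, smul_inv_smul]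
  have hfix : ∀ g, IsConj (r g) g ↔ a • ConjClasses.mk g = ConjClasses.mk g := fun g => by
    rw [← ConjClasses.mk_eq_mk_iff_isConj]
    constructor
    · intro h
      conv_lhs => rw [← h]
      exact (hr g).symm
    · intro h
      conv_rhs at h => rw [hr g]
      exact ((smul_left_cancel a) h).symm
  have key : (Nat.card {χ : Cfsg.IrrCharacter G // a • χ = χ} : ℂ) * Nat.card G =
      (Nat.card {C : ConjClasses G // a • C = C} : ℂ) * Nat.card G := by
    have h1 : (Nat.card {χ : Cfsg.IrrCharacter G // a • χ = χ} : ℂ) =
        ∑ χ : Cfsg.IrrCharacter G, Cfsg.classInner ((a • χ : Cfsg.IrrCharacter G) : G → ℂ) χ := by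
      simp only [CfsgLib.Char.classInner_irrCharacter, Finset.sum_boole]
      rw [Nat.card_eq_fintype_card, Fintype.card_subtype]
    have h2 : ∀ C : ConjClasses G, ∑ g ∈ Finset.univ.filter (fun g : G => ConjClasses.mk g = C),
        (Nat.card (Subgroup.centralizer ({g} : Set G)) : ℂ) = Nat.card G := by
      intro C
      obtain ⟨c, rfl⟩ := ConjClasses.mk_surjective C
      rw [Finset.sum_congr rfl (g := fun _ => (Nat.card (Subgroup.centralizer ({c} : Set G)) : ℂ))
        (fun g hg => by
          have e : Nat.card {z : G // IsConj c z} = Nat.card {z : G // IsConj g z} :=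
            Nat.card_congr (Equiv.subtypeEquivRight fun z => by
              have h := ConjClasses.mk_eq_mk_iff_isConj.1 (Finset.mem_filter.1 hg).2
              exact ⟨fun e => h.trans e, fun e => h.symm.trans e⟩)
          have h1 := CfsgLib.Char.card_isConj_mul_card_centralizer c
          rw [← CfsgLib.Char.card_isConj_mul_card_centralizer g, e] at h1
          have hpos : 0 < Nat.card {z : G // IsConj g z} := by
            have : Nonempty {z : G // IsConj g z} := ⟨⟨_, IsConj.refl _⟩⟩
            exact Nat.card_pos
          rw [Nat.eq_of_mul_eq_mul_left hpos h1.symm]), Finset.sum_const, nsmul_eq_mul,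
        ← CfsgLib.Char.card_isConj_mul_card_centralizer c, Nat.cast_mul]
      congr 1
      rw [Nat.card_eq_fintype_card, Fintype.card_subtype]
      congr 2
      ext g
      simp only [Finset.mem_filter, Finset.mem_univ, true_and]
      exact ⟨fun e => (ConjClasses.mk_eq_mk_iff_isConj.1 e).symm,
        fun e => ConjClasses.mk_eq_mk_iff_isConj.2 e.symm⟩
    rw [h1]
    simp only [Cfsg.classInner, Finset.sum_mul, ← Finset.mul_sum]
    rw [Finset.sum_comm, mul_comm, ← mul_assoc, mul_inv_cancel₀ hG, one_mul]
    calc ∑ g : G, ∑ χ : Cfsg.IrrCharacter G,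
          ((a • χ : Cfsg.IrrCharacter G) : G → ℂ) g * (starRingEnd ℂ) ((χ : G → ℂ) g)
        = ∑ g : G, if IsConj (r g) g then
            (Nat.card (Subgroup.centralizer ({g} : Set G)) : ℂ) else 0 := by
          refine Finset.sum_congr rfl fun g _ => ?_
          simp only [fun χ => hcompat a χ (r g) g (hr g)]
          rw [CfsgLib.Char.sum_mul_conj]
          by_cases h : IsConj (r g) g
          · rw [if_pos h, if_pos h]
            have h' := CfsgLib.Char.sum_mul_conj (r g) (r g)
            have h'' := CfsgLib.Char.sum_mul_conj g g
            simp only [fun χ : Cfsg.IrrCharacter G => CfsgLib.Char.IsClassFunction.eq_of_isConj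
              (CfsgLib.Char.IsIrrCharacter.isClassFunction χ.2) h, IsConj.refl, if_true] at h' h''
            rw [← h', ← h'']
          · rw [if_neg h, if_neg h]
      _ = ∑ C : ConjClasses G, ∑ g ∈ Finset.univ.filter (fun g : G => ConjClasses.mk g = C),
            if a • C = C then (Nat.card (Subgroup.centralizer ({g} : Set G)) : ℂ) else 0 := by
          rw [← Finset.sum_fiberwise Finset.univ ConjClasses.mk]
          refine Finset.sum_congr rfl fun C _ => Finset.sum_congr rfl fun g hg => ?_
          rw [← (Finset.mem_filter.1 hg).2]
          exact if_congr (hfix g) rfl rfl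
      _ = _ := by
          rw [Nat.card_eq_fintype_card, Fintype.card_subtype, ← nsmul_eq_mul, ← Finset.sum_const,
            Finset.sum_filter]
          refine Finset.sum_congr rfl fun C _ => ?_
          split_ifs with h
          · exact h2 C
          · exact Finset.sum_const_zero
  exact_mod_cast mul_right_cancel₀ hG key

end Cfsg.Agent.S0860
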