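import Cfsg.Statements.S0861
import Cfsg.Agent.Lib.KGV.GaloisMean
import Cfsg.Agent.Lib.KGV.PElementValue
import Cfsg.Agent.Lib.CharDeep.PrimePowerDegrees
import Cfsg.Agent.Lib.Char.Twist
import Mathlib

set_option autoImplicit false
open Cfsg

namespace Cfsg.Agent.S0861

/-- Let P be a normal abelian Sylow p-subgroup of the finite group G and suppose some element g of P has centralizer exactly P. Then the number of irreducible characters of G is at most the order of P, and if equality holds then G / P is abelian (the commutator subgroup lies in P). -/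
theorem result {G : Type*} [Group G] [Finite G] (p : ℕ) [Fact p.Prime] (P : Sylow p G) [(P : Subgroup G).Normal] (hab : ∀ a ∈ P, ∀ b ∈ P, a * b = b * a) (g : G) (hg : g ∈ P) (hC : Subgroup.centralizer ({g} : Set G) = P) : Nat.card (Cfsg.IrrCharacter G) ≤ Nat.card P ∧ (Nat.card (Cfsg.IrrCharacter G) = Nat.card P → commutator G ≤ P) := by
  classical
  cases nonempty_fintype G
  have hcent : Nat.card (Subgroup.centralizer ({g} : Set G)) = Nat.card P := by rw [hC]
  have hne : ∀ χ : Cfsg.IrrCharacter G, (χ : G → ℂ) g ≠ 0 := by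
    intro χ
    obtain ⟨d, ρ, hρ, hχ⟩ := χ.2
    rw [← hχ]
    obtain ⟨k, hk⟩ := P.isPGroup' ⟨g, hg⟩
    refine CfsgLib.KGV.character_apply_ne_zero ρ (p := p) (k := k) (congrArg Subtype.val hk) ?_
    intro hdvd
    exact P.not_dvd_index (hdvd.trans
      (CfsgLib.Char.finrank_dvd_index_of_abelian_normal ρ (P : Subgroup G) hab))
  have hsum : ∀ m : ℕ, m.Coprime (Nat.card G) →
      ∑ χ : Cfsg.IrrCharacter G, ‖(χ : G → ℂ) (g ^ m)‖ ^ 2 = (Nat.card P : ℝ) := by
    intro m hm
    have hz : Subgroup.zpowers (g ^ m) = Subgroup.zpowers g := by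
      refine le_antisymm (Subgroup.zpowers_le.2 (Subgroup.npow_mem_zpowers g m)) (Subgroup.zpowers_le.2 ?_)
      obtain ⟨j, hj⟩ := exists_pow_eq_self_of_coprime (hm.coprime_dvd_right (orderOf_dvd_natCard g))
      exact ⟨(j : ℤ), by simpa using hj⟩
    have hc' : Subgroup.centralizer ({g ^ m} : Set G) = Subgroup.centralizer ({g} : Set G) := by
      ext x
      simp only [Subgroup.mem_centralizer_singleton_iff]
      refine ⟨fun h => ?_, fun h => ?_⟩
      · obtain ⟨i, hi⟩ := Subgroup.mem_zpowers_iff.1 (show g ∈ Subgroup.zpowers (g ^ m) by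
          rw [hz]; exact Subgroup.mem_zpowers g)
        rw [← hi]
        exact ((show Commute x (g ^ m) from h).zpow_right i)
      · exact ((show Commute x g from h).pow_right m)
    have h := CfsgLib.Char.sum_mul_conj (g ^ m) (g ^ m)
    rw [if_pos (IsConj.refl _), hc', hcent] at h
    have h2 : ((∑ χ : Cfsg.IrrCharacter G, ‖(χ : G → ℂ) (g ^ m)‖ ^ 2 : ℝ) : ℂ) =
        ((Nat.card P : ℝ) : ℂ) := by
      push_cast
      rw [← h]
      exact Finset.sum_congr rfl fun χ _ => (Complex.mul_conj' _).symm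
    exact_mod_cast h2
  have h1 : ∑ χ : Cfsg.IrrCharacter G, ‖(χ : G → ℂ) g‖ ^ 2 = (Nat.card P : ℝ) := by
    simpa using hsum 1 (Nat.coprime_one_left _)
  have hle : (Nat.card (Cfsg.IrrCharacter G) : ℝ) ≤ Nat.card P := by
    rw [Nat.card_eq_fintype_card, ← h1]
    refine CfsgLib.KGV.card_le_sum_norm Finset.univ (fun χ : Cfsg.IrrCharacter G => (χ : G → ℂ))
      (fun _ => g) 2 (Or.inr rfl) (fun χ _ => CfsgLib.Char.IsIrrCharacter.isCharacter χ.2)
      (fun χ _ => hne χ) fun m hm => ?_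
    rw [hsum m hm, h1]
  refine ⟨by exact_mod_cast hle, fun heq => ?_⟩
  -- characters trivial on `P` are linear
  have hlin : ∀ ψ : Cfsg.IrrCharacter (G ⧸ (P : Subgroup G)), (ψ : G ⧸ (P : Subgroup G) → ℂ) 1 = 1 := by
    intro ψ
    obtain ⟨d, hd0, hd⟩ := CfsgLib.Char.IsIrrCharacter.exists_degree ψ.2
    let χ₀ : Cfsg.IrrCharacter G := ⟨_, CfsgLib.CharTwist.isIrrCharacter_comp ψ.2
      (QuotientGroup.mk' (P : Subgroup G)) (QuotientGroup.mk'_surjective _)⟩
    have hval : ∀ m : ℕ, (χ₀ : G → ℂ) (g ^ m) = d := by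
      intro m
      show (ψ : G ⧸ (P : Subgroup G) → ℂ) _ = _
      rw [← hd]
      exact congrArg _ ((QuotientGroup.eq_one_iff _).2 ((P : Subgroup G).pow_mem hg m))
    have hsplit : ∀ m : ℕ, m.Coprime (Nat.card G) →
        ∑ χ ∈ Finset.univ.erase χ₀, ‖(χ : G → ℂ) (g ^ m)‖ ^ 2 = (Nat.card P : ℝ) - (d : ℝ) ^ 2 := by
      intro m hm
      rw [← hsum m hm, ← Finset.add_sum_erase _ _ (Finset.mem_univ χ₀), hval, Complex.norm_natCast]
      ring
    have h2 := hsplit 1 (Nat.coprime_one_left _)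
    simp only [pow_one] at h2
    have hle' := CfsgLib.KGV.card_le_sum_norm (Finset.univ.erase χ₀)
      (fun χ : Cfsg.IrrCharacter G => (χ : G → ℂ))
      (fun _ => g) 2 (Or.inr rfl) (fun χ _ => CfsgLib.Char.IsIrrCharacter.isCharacter χ.2)
      (fun χ _ => hne χ) (fun m hm => by rw [hsplit m hm, h2])
    rw [h2, Finset.card_erase_of_mem (Finset.mem_univ _), Finset.card_univ, ← Nat.card_eq_fintype_card,
      heq, Nat.cast_sub Nat.card_pos, Nat.cast_one] at hle'
    have h3 : (d : ℝ) ^ 2 ≤ 1 := by linarith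
    have h4 : d ^ 2 ≤ 1 := by exact_mod_cast h3
    have h5 : d = 1 := by nlinarith
    rw [hd, h5, Nat.cast_one]
  rw [commutator_def, Subgroup.commutator_le]
  intro a _ b _
  refine (QuotientGroup.eq_one_iff _).1 ?_
  rw [commutatorElement_def]
  simp only [QuotientGroup.mk_mul, QuotientGroup.mk_inv]
  rw [CfsgLib.CharDeep.PPowDeg.comm_of_linear hlin (a : G ⧸ (P : Subgroup G)) b]
  group

end Cfsg.Agent.S0861
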