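import Cfsg.Statements.S0866
import Cfsg.Agent.Lib.CharDeep.Extend

set_option autoImplicit false
open Cfsg

namespace Cfsg.Agent.S0866

/-- Let N be a normal subgroup of the finite group G and ϑ an irreducible character of N, invariant under conjugation by G, of degree d coprime to the index of N. Then ϑ is the restriction of an irreducible character of G if and only if the determinantal character of ϑ is the restriction of a character of G of degree 1. -/
theorem result {G : Type*} [Group G] [Finite G] (N : Subgroup G) [hN : N.Normal] (ϑ : N → ℂ) (hϑ : Cfsg.IsIrrCharacter N ϑ) (hinv : ∀ (g : G) (n : N), ϑ ⟨g * n * g⁻¹, hN.conj_mem (n : G) n.2 g⟩ = ϑ n) (d : ℕ) (hd : ϑ 1 = d) (hcop : Nat.Coprime N.index d) : (∃ χ : G → ℂ, Cfsg.IsIrrCharacter G χ ∧ (∀ n : N, χ n = ϑ n)) ↔ ∃ μ : G → ℂ, Cfsg.IsCharacter G μ ∧ μ 1 = 1 ∧ ∀ n : N, μ n = Cfsg.detChar ϑ n := by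
  constructor
  · rintro ⟨χ, hχ, hn⟩
    obtain ⟨m, ρ, hρ, hc⟩ := hχ
    subst hc
    let δ : G →* ℂˣ := MonoidHom.toHomUnits ((LinearMap.det).comp ρ)
    obtain ⟨h1, h2⟩ := CfsgLib.CharDeep.Lin.isCharacter_hom δ
    obtain ⟨k, τ, hτ, hτc⟩ := hϑ
    subst hτc
    refine ⟨fun g => (δ g : ℂ), h1, h2, fun n => ?_⟩
    have hkm : k = m := by
      have := hn 1
      simpa using this.symm
    subst hkm
    cases nonempty_fintype G
    have := Fintype.ofFinite N
    have hchar : Cfsg.IsCharacter N (Representation.character (ρ.comp N.subtype)) := ⟨k, _, rfl⟩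
    have hirr := CfsgLib.Char.IsCharacter.isIrrCharacter_of_classInner_self hchar (by
      rw [show Representation.character (ρ.comp N.subtype) = τ.character from funext hn]
      exact CfsgLib.Char.classInner_irr_self (CfsgLib.Char.isIrrCharacter_character τ))
    let σ : Representation ℂ N (Fin k → ℂ) := ρ.comp N.subtype
    have hf : Module.finrank ℂ (Representation.IntertwiningMap τ σ) = 1 := by
      have h3 : Cfsg.classInner σ.character τ.character = 1 := by
        rw [show σ.character = τ.character from funext hn]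
        exact CfsgLib.Char.classInner_irr_self (CfsgLib.Char.isIrrCharacter_character τ)
      rw [CfsgLib.Char.classInner_character] at h3
      exact_mod_cast h3
    have : Nontrivial (Representation.IntertwiningMap τ σ) :=
      Module.nontrivial_of_finrank_pos (R := ℂ) (by omega)
    obtain ⟨f, hfne⟩ := exists_ne (0 : Representation.IntertwiningMap τ σ)
    have hinj := (Representation.IsIrreducible.injective_or_eq_zero f).resolve_right hfne
    have : σ.IsIrreducible := CfsgLib.Char.isIrreducible_of_equiv (f.ofBijective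
      ⟨hinj, (LinearMap.injective_iff_surjective (f := f.toLinearMap)).1 hinj⟩)
    rw [show τ.character = σ.character from (funext hn).symm, CfsgLib.CharDeep.Cover.detChar_eq]
    rfl
  · rintro ⟨μ, hμ, hμ1, hμn⟩
    obtain ⟨f, hf⟩ := CfsgLib.CharDeep.Lin.exists_hom_of_deg_one hμ hμ1
    exact CfsgLib.CharDeep.Extend.extends_of_det N ϑ hϑ hinv d hd hcop f (fun n => by rw [← hf]; exact hμn n)

end Cfsg.Agent.S0866
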