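import Cfsg.Statements.S0865
import Cfsg.Agent.Lib.CharDeep.LinearExt

set_option autoImplicit false
open Cfsg

namespace Cfsg.Agent.S0865

/-- Let N be a normal subgroup of the finite group G and λ a character of N of degree 1, invariant under conjugation by G, whose order (under pointwise multiplication) is coprime to the index of N. Then there is a character μ of G of degree 1 restricting to λ with the same order as λ, and μ is the only degree-1 character of G restricting to λ whose order is coprime to the index of N. -/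
theorem result {G : Type*} [Group G] [Finite G] (N : Subgroup G) [hN : N.Normal] (lam : N → ℂ) (hlam : Cfsg.IsCharacter N lam ∧ lam 1 = 1) (hinv : ∀ (g : G) (n : N), lam ⟨g * n * g⁻¹, hN.conj_mem (n : G) n.2 g⟩ = lam n) (hcop : Nat.Coprime N.index (orderOf lam)) : ∃ μ : G → ℂ, (Cfsg.IsCharacter G μ ∧ μ 1 = 1 ∧ (∀ n : N, μ n = lam n) ∧ orderOf μ = orderOf lam) ∧ ∀ μ' : G → ℂ, Cfsg.IsCharacter G μ' ∧ μ' 1 = 1 → (∀ n : N, μ' n = lam n) → Nat.Coprime N.index (orderOf μ') → μ' = μ := by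
  obtain ⟨lm, hlm⟩ := CfsgLib.CharDeep.Lin.exists_hom_of_deg_one hlam.1 hlam.2
  have hlamf : lam = fun n => (lm n : ℂ) := funext hlm
  have hinv' : ∀ (g : G) (n : N), lm ⟨g * n * g⁻¹, hN.conj_mem (n : G) n.2 g⟩ = lm n :=
    fun g n => Units.ext (by rw [← hlm, ← hlm]; exact hinv g n)
  rw [hlamf, CfsgLib.CharDeep.Lin.orderOf_coe] at hcop
  obtain ⟨F, hF, ho, huniq⟩ := CfsgLib.CharDeep.Lin.exists_ext_coprime lm hinv' hcop
  obtain ⟨h1, h2⟩ := CfsgLib.CharDeep.Lin.isCharacter_hom F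
  refine ⟨_, ⟨h1, h2, fun n => by rw [hF n, hlm], ?_⟩, ?_⟩
  · rw [hlamf, CfsgLib.CharDeep.Lin.orderOf_coe, CfsgLib.CharDeep.Lin.orderOf_coe, ho]
  · rintro μ' ⟨hc, hc1⟩ hn hord
    obtain ⟨F', hF'⟩ := CfsgLib.CharDeep.Lin.exists_hom_of_deg_one hc hc1
    rw [show μ' = fun g => (F' g : ℂ) from funext hF'] at hord ⊢
    rw [CfsgLib.CharDeep.Lin.orderOf_coe] at hord
    rw [huniq F' (fun n => Units.ext (by rw [← hF', ← hlm]; exact hn n)) hord]

end Cfsg.Agent.S0865
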