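import Cfsg.Statements.S0868
import Cfsg.Agent.Lib.CharDeep.Gallagher

set_option autoImplicit false
open scoped ComplexConjugate
open Cfsg

namespace Cfsg.Agent.S0868

/-- Let N be a normal subgroup of the finite group G, χ an irreducible character of G whose restriction ϑ to N is irreducible, and ψ an irreducible character of G. Define η on G by η g = (1 / order of N) * Σ over n in N of ψ (n * g) * conj (χ (n * g)). Then: if the restriction of ψ to N has nonzero inner product with ϑ, η is an irreducible character of G; if that inner product is zero, η vanishes identically; and if ψ = χ then η is identically 1. -/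
theorem result {G : Type*} [Group G] [Fintype G] (N : Subgroup G) [N.Normal] [Fintype N] (χ : G → ℂ) (hχ : Cfsg.IsIrrCharacter G χ) (hχN : Cfsg.IsIrrCharacter N (fun n : N => χ n)) (ψ : G → ℂ) (hψ : Cfsg.IsIrrCharacter G ψ) (η : G → ℂ) (hη : η = fun g => (Nat.card N : ℂ)⁻¹ * ∑ n : N, ψ ((n : G) * g) * conj (χ ((n : G) * g))) : (Cfsg.classInner (fun n : N => ψ n) (fun n : N => χ n) ≠ 0 → Cfsg.IsIrrCharacter G η) ∧ (Cfsg.classInner (fun n : N => ψ n) (fun n : N => χ n) = 0 → η = 0) ∧ (ψ = χ → η = fun _ => 1) := by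
  classical
  have := Fintype.ofFinite (G ⧸ N)
  obtain ⟨h1, h2, h3⟩ := CfsgLib.CharDeep.Gal.quotient_bijection N hχ hχN
  let F : G → ℂ := fun x => ψ x * conj (χ x)
  have hF : Cfsg.IsClassFunction G F := fun g h => by
    simp only [F, CfsgLib.Char.IsIrrCharacter.isClassFunction hψ g h,
      CfsgLib.Char.IsIrrCharacter.isClassFunction hχ g h]
  let avg := CfsgLib.CharDeep.Gal.cosetAvg N F
  have hη' : ∀ g, η g = avg g := fun g => by
    rw [hη]; exact (CfsgLib.CharDeep.Gal.cosetAvg_mk N F g).symm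
  have hcoef : ∀ β : Cfsg.IrrCharacter (G ⧸ N), Cfsg.classInner avg (β : G ⧸ N → ℂ) =
      Cfsg.classInner ψ (((β : G ⧸ N → ℂ) ∘ QuotientGroup.mk' N) * χ) := by
    intro β
    rw [CfsgLib.CharDeep.Gal.classInner_cosetAvg]
    unfold Cfsg.classInner
    congr 1
    refine Finset.sum_congr rfl fun x _ => ?_
    simp only [F, Pi.mul_apply, map_mul]
    ring
  have hexp := CfsgLib.Char.IsClassFunction.eq_sum_classInner
    (CfsgLib.CharDeep.Gal.isClassFunction_cosetAvg N hF)
  have hmain : ∀ (β : G ⧸ N → ℂ), Cfsg.IsIrrCharacter (G ⧸ N) β →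
      (β ∘ QuotientGroup.mk' N) * χ = ψ → η = β ∘ QuotientGroup.mk' N := by
    intro β hβ he
    funext g
    rw [hη']
    show avg g = β (g : G ⧸ N)
    refine congrFun (hexp.trans ?_) _
    rw [Finset.sum_eq_single (⟨β, hβ⟩ : Cfsg.IrrCharacter (G ⧸ N))]
    · rw [hcoef ⟨β, hβ⟩]
      simp only [he, CfsgLib.Char.classInner_irr_self hψ, one_smul]
    · intro b _ hb
      rw [hcoef b, CfsgLib.Char.classInner_irr_of_ne hψ (h1 b b.2).1, zero_smul]
      intro hh
      exact hb (Subtype.ext (h2 _ _ b.2 hβ (hh.symm.trans he.symm)))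
    · simp
  refine ⟨fun hne => ?_, fun h0 => ?_, fun he => ?_⟩
  · obtain ⟨β, hβ, he⟩ := h3 ψ hψ hne
    rw [hmain β hβ he]
    exact CfsgLib.CharTwist.isIrrCharacter_comp hβ _ (QuotientGroup.mk'_surjective N)
  · funext g
    rw [hη']
    refine (congrFun hexp _).trans ?_
    rw [Finset.sum_apply]
    refine Finset.sum_eq_zero fun b _ => ?_
    have : Cfsg.classInner avg (b : G ⧸ N → ℂ) = 0 := by
      rw [hcoef b]
      refine CfsgLib.Char.classInner_irr_of_ne hψ (h1 b b.2).1 ?_
      intro hh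
      exact (h1 b b.2).2 (hh ▸ h0)
    simp only [avg] at this
    rw [this, zero_smul]
    rfl
  · refine hmain (fun _ => 1) CfsgLib.Char.isIrrCharacter_principal ?_
    rw [he]
    funext g
    simp

end Cfsg.Agent.S0868
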