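import Cfsg.Statements.S0873
import Cfsg.Agent.Lib.CharDeep.LinearExt

set_option autoImplicit false
open Cfsg

namespace Cfsg.Agent.S0873

/-- Let C be a normal subgroup of the finite group G of order prime to p and P a p-subgroup with C ⊔ P = G. Let λ be a character of C of degree 1 invariant under conjugation by G and equal to 1 at every element of C centralized by P. Then λ is identically 1. -/
theorem result {G : Type*} [Group G] [Finite G] (p : ℕ) [Fact p.Prime] (C P : Subgroup G) [hC : C.Normal] (hP : IsPGroup p P) (hcop : Nat.Coprime (Nat.card C) p) (hCP : C ⊔ P = ⊤) (lam : C → ℂ) (hlam : Cfsg.IsCharacter C lam ∧ lam 1 = 1) (hinv : ∀ (g : G) (c : C), lam ⟨g * c * g⁻¹, hC.conj_mem (c : G) c.2 g⟩ = lam c) (hker : ∀ c : C, (c : G) ∈ Subgroup.centralizer (P : Set G) → lam c = 1) : lam = fun _ => 1 := by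
  obtain ⟨lm, hlm⟩ := CfsgLib.CharDeep.Lin.exists_hom_of_deg_one hlam.1 hlam.2
  funext c
  let X : Set G := {x | ∃ d : C, (d : G) = x ∧ lm d = lm c}
  have hstab : ∀ (g : G), ∀ x ∈ X, g * x * g⁻¹ ∈ X := by
    rintro g x ⟨d, rfl, hd⟩
    refine ⟨⟨g * d * g⁻¹, hC.conj_mem (d : G) d.2 g⟩, rfl, ?_⟩
    rw [← hd]
    exact Units.ext (by rw [← hlm, ← hlm]; exact hinv g d)
  letI act : MulAction P X :=
    { smul := fun g x => ⟨(g : G) * x * (g : G)⁻¹, hstab g x x.2⟩
      one_smul := fun x => Subtype.ext (by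
        show ((1 : P) : G) * x * ((1 : P) : G)⁻¹ = x
        simp)
      mul_smul := fun g h x => Subtype.ext (by
        show ((g * h : P) : G) * x * ((g * h : P) : G)⁻¹ = (g : G) * ((h : G) * x * (h : G)⁻¹) * (g : G)⁻¹
        simp [mul_assoc]) }
  have hcard : Nat.card X = Nat.card lm.ker := by
    refine Nat.card_congr ((Equiv.ofBijective (fun k : lm.ker =>
      (⟨((c * k : C) : G), c * k, rfl, by rw [map_mul, k.2, mul_one]⟩ : X)) ⟨?_, ?_⟩).symm)
    · intro a b h
      simpa using h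
    · rintro ⟨x, d, rfl, hd⟩
      exact ⟨⟨c⁻¹ * d, by rw [MonoidHom.mem_ker, map_mul, map_inv, hd, inv_mul_cancel]⟩,
        Subtype.ext (by simp)⟩
  have hnd : ¬ p ∣ Nat.card X := by
    intro h
    apply (Fact.out : p.Prime).not_dvd_one
    rw [← hcop]
    exact Nat.dvd_gcd ((hcard ▸ h).trans lm.ker.card_subgroup_dvd_card) dvd_rfl
  obtain ⟨x, hx⟩ := hP.nonempty_fixed_point_of_prime_not_dvd_card X hnd
  obtain ⟨d, hd, hdc⟩ := x.2
  have hdcent : (d : G) ∈ Subgroup.centralizer (P : Set G) := by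
    rw [Subgroup.mem_centralizer_iff]
    intro g hg
    have := congrArg Subtype.val (hx ⟨g, hg⟩)
    rw [hd]
    exact mul_inv_eq_iff_eq_mul.1 this
  rw [hlm c, ← hdc, ← hlm d]
  exact hker d hdcent

end Cfsg.Agent.S0873
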