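import Cfsg.Statements.S0875
import Cfsg.Agent.Lib.CharDeep.PiSection

set_option autoImplicit false
open Cfsg

namespace Cfsg.Agent.S0875

/-- Let G be a finite group of order m * n with m and n coprime, and g an element whose order is coprime to m. Every x in G factors uniquely as x = u * v with u, v commuting, the order of u coprime to n and the order of v coprime to m; let ϑ be the function on G equal to n at those x whose factor v is conjugate to g and equal to 0 elsewhere. Then ϑ is a linear combination of the irreducible characters of G with algebraic-integer coefficients. -/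
theorem result {G : Type*} [Group G] [Fintype G] (m n : ℕ) (hmn : Nat.card G = m * n) (hcop : Nat.Coprime m n) (g : G) (hg : Nat.Coprime (orderOf g) m) (ϑ : G → ℂ) (hϑ1 : ∀ x : G, (∃ v : G, IsConj v g ∧ (∃ u : G, x = u * v ∧ Commute u v ∧ Nat.Coprime (orderOf u) n ∧ Nat.Coprime (orderOf v) m)) → ϑ x = n) (hϑ0 : ∀ x : G, (¬ ∃ v : G, IsConj v g ∧ (∃ u : G, x = u * v ∧ Commute u v ∧ Nat.Coprime (orderOf u) n ∧ Nat.Coprime (orderOf v) m)) → ϑ x = 0) : ∃ c : Cfsg.IrrCharacter G → ℂ, (∀ χ, c χ ∈ Cfsg.AlgInt) ∧ ϑ = ∑ᶠ χ : Cfsg.IrrCharacter G, c χ • (χ : G → ℂ) := by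
  classical
  have hall : ∀ y : G, orderOf y ∣ m * n := fun y => hmn ▸ orderOf_dvd_natCard y
  have hθ : ϑ = fun x => if IsConj (x ^ CfsgLib.CharDeep.PiSection.expo hcop) g then (n : ℂ) else 0 := by
    funext x
    have h := CfsgLib.CharDeep.PiSection.exists_decomp_iff hcop g x (hall x) hall
    split_ifs with hx
    · exact hϑ1 x (h.2 hx)
    · exact hϑ0 x (fun e => hx (h.1 e))
  have hcl : Cfsg.IsClassFunction G ϑ := by
    rw [hθ]
    intro x h
    refine if_congr ?_ rfl rfl
    rw [conj_pow]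
    exact ⟨fun e => (isConj_iff.2 ⟨h, rfl⟩ : IsConj (x ^ _) _).trans e,
      fun e => (isConj_iff.2 ⟨h, rfl⟩ : IsConj (x ^ _) _).symm.trans e⟩
  refine ⟨fun χ => Cfsg.classInner ϑ (χ : G → ℂ), fun χ => ?_, ?_⟩
  · rw [hθ]
    exact CfsgLib.CharDeep.PiSection.isIntegral_section hmn hcop g χ
  · rw [finsum_eq_sum_of_fintype]
    exact CfsgLib.Char.IsClassFunction.eq_sum_classInner hcl

end Cfsg.Agent.S0875
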