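import Cfsg.Statements.S0876
import Cfsg.Agent.Lib.BlockReg.Integral
import Mathlib

set_option autoImplicit false
open Cfsg

namespace Cfsg.Agent.S0876

open CfsgLib.BlockReg in
theorem reduce {G : Type*} [Group G] [Finite G] {p : ℕ} {M : Ideal Cfsg.AlgInt}
    (hM : Cfsg.IsPModular p M) {x a : G} (ha : Cfsg.IsPPart p x a) :
    ¬ p ∣ orderOf (a⁻¹ * x) ∧ ∀ χ : Cfsg.IrrCharacter G,
      Cfsg.MemLocalIdeal M ((χ : G → ℂ) x - (χ : G → ℂ) (a⁻¹ * x)) := by
  obtain ⟨y, rfl, hcomm, ⟨j, hj⟩, hy⟩ := ha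
  rw [inv_mul_cancel_left]
  refine ⟨hy, fun χ => ?_⟩
  have hcop : Nat.Coprime (p ^ j) (orderOf y) :=
    Nat.Coprime.pow_left _ ((hM.1.coprime_iff_not_dvd).2 hy)
  obtain ⟨k₀, hk1, hk2⟩ := Nat.chineseRemainder hcop 0 1
  set k := k₀ + p ^ j * orderOf y with hkdef
  have hkp : 0 < k := Nat.add_pos_right _ (Nat.mul_pos (pow_pos hM.1.pos _) (orderOf_pos y))
  have ha' : a ^ k = 1 := by
    refine orderOf_dvd_iff_pow_eq_one.1 (hj ▸ ?_)
    exact Dvd.dvd.add (Nat.modEq_zero_iff_dvd.1 hk1) (dvd_mul_right _ _)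
  have hy' : y ^ k = y := by
    conv_rhs => rw [← pow_one y]
    rw [pow_eq_pow_iff_modEq, hkdef]
    exact (Nat.ModEq.add hk2 (Nat.modEq_zero_iff_dvd.2 (dvd_mul_left _ _))).trans (by rw [Nat.add_zero])
  have hxk : (a * y) ^ k = y := by rw [hcomm.mul_pow, ha', one_mul, hy']
  have h0 : (a * y) ^ ((k - 1) * p ^ j) = 1 := by
    rw [hcomm.mul_pow, pow_mul, pow_mul]
    have e1 : (a ^ (k - 1)) ^ p ^ j = 1 := by
      rw [← pow_mul, mul_comm, pow_mul, ← hj, pow_orderOf_eq_one, one_pow]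
    have e2 : y ^ (k - 1) = 1 := by
      refine mul_right_cancel (b := y) ?_
      rw [← pow_succ, Nat.sub_add_cancel hkp, hy', one_mul]
    rw [e1, e2, one_pow, mul_one]
  have h := char_sub_mem_radical hM χ (a * y) hkp h0
  have hle : (Ideal.span ({(p : localSubring hM)} : Set (localSubring hM))).radical ≤ localIdeal hM := by
    rw [(isPrime_localIdeal hM).radical_le_iff, Ideal.span_singleton_le_iff_mem]
    show Cfsg.MemLocalIdeal M ((p : localSubring hM) : ℂ)
    push_cast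
    exact (memIdeal_natCast_iff hM p).2 dvd_rfl
  have h' : Cfsg.MemLocalIdeal M ((χ : G → ℂ) (a * y) - (χ : G → ℂ) ((a * y) ^ k)) := hle h
  rw [hxk] at h'
  exact h'


/-- Let G be a finite group, p a prime and M a maximal ideal of the ring of algebraic integers containing p. Let x, y be elements with p-parts a and b (so a⁻¹ * x and b⁻¹ * y are their p-regular parts). Then a⁻¹ * x and b⁻¹ * y are conjugate in G if and only if, for every irreducible character χ, the difference χ x - χ y lies in the local ideal at M. -/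
theorem result {G : Type*} [Group G] [Finite G] (p : ℕ) (M : Ideal Cfsg.AlgInt) (hM : Cfsg.IsPModular p M) (x y a b : G) (ha : Cfsg.IsPPart p x a) (hb : Cfsg.IsPPart p y b) : IsConj (a⁻¹ * x) (b⁻¹ * y) ↔ ∀ χ : Cfsg.IrrCharacter G, Cfsg.MemLocalIdeal M ((χ : G → ℂ) x - (χ : G → ℂ) y) := by
  classical
  obtain ⟨hrx, hx⟩ := reduce hM ha
  obtain ⟨hry, hy⟩ := reduce hM hb
  constructor
  · intro hc χ
    have h := CfsgLib.BlockReg.memIdeal_sub hM (hx χ) (hy χ)
    rw [CfsgLib.BlockReg.char_conj_invariant χ _ _ hc] at h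
    simpa using h
  · intro h
    by_contra hne
    have : Fact p.Prime := ⟨hM.1⟩
    obtain ⟨c, hc, hcx⟩ := CfsgLib.BlockReg.exists_indicator hM (a⁻¹ * x) hrx
    have h1 := (hcx _ hrx).1 (IsConj.refl _)
    have h2 := (hcx _ hry).2 (fun e => hne e.symm)
    have hd : ∀ χ : Cfsg.IrrCharacter G,
        Cfsg.MemLocalIdeal M ((χ : G → ℂ) (a⁻¹ * x) - (χ : G → ℂ) (b⁻¹ * y)) := by
      intro χ
      have := CfsgLib.BlockReg.memIdeal_sub hM (CfsgLib.BlockReg.memIdeal_add hM (h χ) (hy χ)) (hx χ)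
      convert this using 1
      ring
    have hsum : Cfsg.MemLocalIdeal M (∑ χ : Cfsg.IrrCharacter G,
        c χ * ((χ : G → ℂ) (a⁻¹ * x) - (χ : G → ℂ) (b⁻¹ * y))) :=
      CfsgLib.BlockReg.memIdeal_sum hM _ fun χ _ => CfsgLib.BlockReg.memIdeal_mul_left hM (hc χ) (hd χ)
    rw [finsum_eq_sum_of_fintype] at h1 h2
    simp only [mul_sub, Finset.sum_sub_distrib, h1, h2, sub_zero] at hsum
    exact CfsgLib.BlockReg.not_memIdeal_one hM hsum

end Cfsg.Agent.S0876
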