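import Cfsg.Statements.S0879
import Cfsg.Agent.Lib.CharDeep.Zassenhaus

set_option autoImplicit false
open Cfsg

namespace Cfsg.Agent.S0879

/-- Let G be a Zassenhaus group on the finite set Ω and E the stabilizer of two distinct points a, b. Then an element outside the normalizer of E conjugates no non-identity element of E into E, and E has index 2 in its normalizer. -/
theorem result {G Ω : Type*} [Group G] [Finite G] [MulAction G Ω] [Fintype Ω] (hZ : Cfsg.IsZassenhausGroup G Ω) {a b : Ω} (hab : a ≠ b) : (∀ g : G, g ∉ Subgroup.normalizer ((MulAction.stabilizer G a ⊓ MulAction.stabilizer G b : Subgroup G) : Set G) → ∀ x ∈ (MulAction.stabilizer G a ⊓ MulAction.stabilizer G b : Subgroup G), g * x * g⁻¹ ∈ (MulAction.stabilizer G a ⊓ MulAction.stabilizer G b : Subgroup G) → x = 1) ∧ ((MulAction.stabilizer G a ⊓ MulAction.stabilizer G b : Subgroup G).subgroupOf (Subgroup.normalizer ((MulAction.stabilizer G a ⊓ MulAction.stabilizer G b : Subgroup G) : Set G))).index = 2 := by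
  constructor
  · intro g hg x hx hgx
    by_contra h1
    apply hg
    rw [CfsgLib.CharDeep.Zas.normalizer_pair hZ hab]
    simp only [Subgroup.mem_inf, MulAction.mem_stabilizer_iff] at hx hgx
    have h2 : g * x * g⁻¹ ≠ 1 := by simpa [mul_inv_eq_one] using h1
    have fa : (g * x * g⁻¹) • (g • a) = g • a := by rw [mul_smul, mul_smul, inv_smul_smul, hx.1]
    have fb : (g * x * g⁻¹) • (g • b) = g • b := by rw [mul_smul, mul_smul, inv_smul_smul, hx.2]
    have hne : g • a ≠ g • b := fun h => hab (MulAction.injective g h)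
    rcases CfsgLib.CharDeep.Zas.three_fix hZ hab h2 hgx.1 hgx.2 fa with ha | ha <;>
      rcases CfsgLib.CharDeep.Zas.three_fix hZ hab h2 hgx.1 hgx.2 fb with hb | hb
    · exact absurd (ha.trans hb.symm) hne
    · exact Or.inl ⟨ha, hb⟩
    · exact Or.inr ⟨ha, hb⟩
    · exact absurd (ha.trans hb.symm) hne
  · obtain ⟨s, hs1, hs2⟩ := CfsgLib.CharDeep.Zas.two_trans hZ hab hab.symm
    rw [Subgroup.index_eq_two_iff]
    refine ⟨⟨s, (CfsgLib.CharDeep.Zas.normalizer_pair hZ hab s).2 (Or.inr ⟨hs1, hs2⟩)⟩, ?_⟩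
    rintro ⟨g, hg⟩
    simp only [Subgroup.mem_subgroupOf, Subgroup.coe_mul, Subgroup.mem_inf,
      MulAction.mem_stabilizer_iff, mul_smul, hs1, hs2]
    rcases (CfsgLib.CharDeep.Zas.normalizer_pair hZ hab g).1 hg with ⟨h1, h2⟩ | ⟨h1, h2⟩
    · simp [Xor, h1, h2, hab, hab.symm]
    · simp [Xor, h1, h2, hab, hab.symm]

end Cfsg.Agent.S0879
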