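import Cfsg.Statements.S0900
import Cfsg.Agent.Lib.CharDeep.Clifford

set_option autoImplicit false
open Cfsg

namespace Cfsg.Agent.S0900

/-- Let N be a normal subgroup of the finite group G, χ an irreducible character of G and ϑ an irreducible character of N having nonzero inner product with the restriction of χ. Consider: (a) the restriction of χ to N is e • ϑ for a natural number e with e ^ 2 equal to the index of N; (b) χ vanishes outside N and ϑ is invariant under conjugation by G; (c) ϑ is invariant and every irreducible character of G having nonzero inner product with the function induced from ϑ equals χ. Then (a) ↔ (b) and (a) ↔ (c). -/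
theorem result {G : Type*} [Group G] [Fintype G] (N : Subgroup G) [hN : N.Normal] [Fintype N] (χ : G → ℂ) (hχ : Cfsg.IsIrrCharacter G χ) (ϑ : N → ℂ) (hϑ : Cfsg.IsIrrCharacter N ϑ) (hcon : Cfsg.classInner (fun n : N => χ n) ϑ ≠ 0) : ((∃ e : ℕ, (fun n : N => χ n) = (e : ℂ) • ϑ ∧ e ^ 2 = N.index) ↔ ((∀ g : G, g ∉ N → χ g = 0) ∧ ∀ (g : G) (n : N), ϑ ⟨g * n * g⁻¹, hN.conj_mem (n : G) n.2 g⟩ = ϑ n)) ∧ ((∃ e : ℕ, (fun n : N => χ n) = (e : ℂ) • ϑ ∧ e ^ 2 = N.index) ↔ (∀ (g : G) (n : N), ϑ ⟨g * n * g⁻¹, hN.conj_mem (n : G) n.2 g⟩ = ϑ n ∧ ∀ ψ : G → ℂ, Cfsg.IsIrrCharacter G ψ → Cfsg.classInner (Cfsg.indFun N ϑ) ψ ≠ 0 → ψ = χ)) := by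
  classical
  have hclχ := CfsgLib.Char.IsIrrCharacter.isClassFunction hχ
  have hchN := CfsgLib.Char.IsCharacter.restrict (CfsgLib.Char.IsIrrCharacter.isCharacter hχ) N
  have hidx : (Nat.card N : ℝ) * (N.index : ℝ) = (Nat.card G : ℝ) := by
    exact_mod_cast N.card_mul_index
  have hNpos : (0 : ℝ) < Nat.card N := by exact_mod_cast Nat.card_pos
  have hinvA : (∃ e : ℕ, (fun n : N => χ n) = (e : ℂ) • ϑ ∧ e ^ 2 = N.index) →
      ∀ g, CfsgLib.CharTwist.conjFun N ϑ g = ϑ := by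
    rintro ⟨e, he, he2⟩ g
    funext n
    have h1 := congrFun (CfsgLib.CharDeep.Cliff.conjFun_res N hclχ g) n
    simp only [CfsgLib.CharTwist.conjFun] at h1
    rw [congrFun he n, show χ _ = _ from congrFun he ⟨g * n * g⁻¹, hN.conj_mem n n.2 g⟩] at h1
    refine mul_left_cancel₀ ?_ h1
    intro h0
    rw [Nat.cast_eq_zero] at h0
    subst h0
    exact Subgroup.index_ne_zero_of_finite (H := N) he2.symm
  have hAB : (∃ e : ℕ, (fun n : N => χ n) = (e : ℂ) • ϑ ∧ e ^ 2 = N.index) ↔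
      ((∀ g : G, g ∉ N → χ g = 0) ∧
        ∀ (g : G) (n : N), ϑ ⟨g * n * g⁻¹, hN.conj_mem (n : G) n.2 g⟩ = ϑ n) := by
    constructor
    · intro h
      refine ⟨?_, fun g n => congrFun (hinvA h g) n⟩
      obtain ⟨e, he, he2⟩ := h
      have hs := CfsgLib.CharDeep.Cliff.card_eq_sum_split N hχ e hϑ he
      have he2' : (e : ℝ) ^ 2 = (N.index : ℝ) := by exact_mod_cast he2
      rw [he2', hidx, left_eq_add, Finset.sum_eq_zero_iff_of_nonneg (fun g _ => sq_nonneg _)] at hs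
      intro g hg
      simpa using hs g (Finset.mem_filter.2 ⟨Finset.mem_univ _, hg⟩)
    · rintro ⟨h0, hinv⟩
      obtain ⟨e, -, he⟩ := CfsgLib.CharDeep.Cliff.res_eq_smul N hχ hϑ (fun g => funext (hinv g)) hcon
      refine ⟨e, he, ?_⟩
      have hs := CfsgLib.CharDeep.Cliff.card_eq_sum_split N hχ e hϑ he
      rw [Finset.sum_eq_zero (fun g hg => by simp [h0 g (Finset.mem_filter.1 hg).2]), add_zero,
        ← hidx] at hs
      exact_mod_cast (mul_left_cancel₀ hNpos.ne' hs).symm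
  refine ⟨hAB, ?_⟩
  have hI : Cfsg.IsCharacter G (Cfsg.indFun N ϑ) :=
    CfsgLib.Char.IsCharacter.indFun N (CfsgLib.Char.IsIrrCharacter.isCharacter hϑ)
  obtain ⟨m, hm⟩ := CfsgLib.Char.IsCharacter.exists_nat_combination hI
  have hcoef : ∀ ψ : Cfsg.IrrCharacter G,
      Cfsg.classInner (Cfsg.indFun N ϑ) (ψ : G → ℂ) = (m ψ : ℂ) := fun ψ => by
    rw [hm]; exact CfsgLib.Char.classInner_sum_smul_irr (fun b => (m b : ℂ)) ψ
  have hnorm : (∀ g, CfsgLib.CharTwist.conjFun N ϑ g = ϑ) →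
      ∑ ψ : Cfsg.IrrCharacter G, m ψ ^ 2 = N.index := by
    intro hinv
    have h := CfsgLib.CharDeep.Cliff.classInner_indFun_self N hϑ hinv
    rw [hm, CfsgLib.Char.classInner_sum_smul_sum_smul] at h
    simp only [map_natCast, ← Nat.cast_mul, ← Nat.cast_sum, Nat.cast_inj] at h
    simpa [sq] using h
  have hval : ∀ e : ℕ, (fun n : N => χ n) = (e : ℂ) • ϑ → m ⟨χ, hχ⟩ = e := by
    intro e he
    have h := hcoef ⟨χ, hχ⟩
    simp only [CfsgLib.Char.classInner_indFun N ϑ χ hclχ] at h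
    rw [he, CfsgLib.Char.classInner_smul_right, CfsgLib.Char.classInner_irr_self hϑ, map_natCast,
      mul_one] at h
    exact_mod_cast h.symm
  constructor
  · intro h
    have hinv := hinvA h
    obtain ⟨e, he, he2⟩ := h
    intro g n
    refine ⟨congrFun (hinv g) n, fun ψ hψ hne => ?_⟩
    by_contra hne'
    have h1 := hnorm hinv
    rw [← Finset.add_sum_erase _ _ (Finset.mem_univ (⟨χ, hχ⟩ : Cfsg.IrrCharacter G)), hval e he,
      he2, Nat.add_eq_left] at h1
    have h2 := (Finset.sum_eq_zero_iff.1 h1) ⟨ψ, hψ⟩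
      (Finset.mem_erase.2 ⟨fun h => hne' (congrArg Subtype.val h), Finset.mem_univ _⟩)
    apply hne
    rw [hcoef ⟨ψ, hψ⟩, (pow_eq_zero_iff two_ne_zero).1 h2, Nat.cast_zero]
  · intro h
    have hinv : ∀ g, CfsgLib.CharTwist.conjFun N ϑ g = ϑ := fun g => funext fun n => (h g n).1
    have huniq := (h 1 1).2
    obtain ⟨e, -, he⟩ := CfsgLib.CharDeep.Cliff.res_eq_smul N hχ hϑ hinv hcon
    refine ⟨e, he, ?_⟩
    rw [← hval e he, ← hnorm hinv]
    refine (Finset.sum_eq_single (f := fun ψ : Cfsg.IrrCharacter G => m ψ ^ 2) ⟨χ, hχ⟩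
      (fun ψ _ hne => ?_) (by simp)).symm
    by_contra h0
    apply hne
    refine Subtype.ext (huniq ψ ψ.2 ?_)
    rw [hcoef ψ]
    exact Nat.cast_ne_zero.2 (fun h1 => h0 (by rw [h1]; rfl))

end Cfsg.Agent.S0900
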