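import Cfsg.Statements.S0901
import Cfsg.Agent.Lib.Blocks.Local
import Mathlib.FieldTheory.Finite.Basic
import Mathlib.FieldTheory.IntermediateField.Adjoin.Basic
import Mathlib.RingTheory.Polynomial.Cyclotomic.Basic
import Mathlib.RingTheory.RootsOfUnity.Complex
import Mathlib.Algebra.Algebra.ZMod

set_option autoImplicit false
open Cfsg

namespace Cfsg.Agent.S0901

open Polynomial CfsgLib.Blocks

theorem eq_one_of_sub_one_mem (p : ℕ) [Fact p.Prime] (M : Ideal AlgInt) (hM : IsPModular p M)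
    (ζ : AlgInt) (m : ℕ) (hm : ¬ p ∣ m) (h : ζ ^ m = 1) (hmem : ζ - 1 ∈ M) : ζ = 1 := by
  haveI := hM.2.1
  haveI := charP_resField (Fact.out : p.Prime) hM.2.2
  by_contra hne
  have hsum : ∑ i ∈ Finset.range m, ζ ^ i = 0 := by
    have h2 := geom_sum_mul ζ m
    rw [h, sub_self] at h2
    exact (mul_eq_zero.1 h2).resolve_right (sub_ne_zero.2 hne)
  have h1 : Ideal.Quotient.mk M ζ = 1 := by
    rw [← map_one (Ideal.Quotient.mk M)]
    exact Ideal.Quotient.eq.2 hmem
  have : (m : ResField M) = 0 := by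
    have h3 := congrArg (Ideal.Quotient.mk M) hsum
    simpa [map_sum, map_pow, h1] using h3
  exact hm ((CharP.cast_eq_zero_iff (ResField M) p m).1 this)

theorem exists_pow_eq_one (p : ℕ) [Fact p.Prime] (M : Ideal AlgInt) (hM : IsPModular p M)
    (x : ResField M) (hx : x ≠ 0) : ∃ m : ℕ, ¬ p ∣ m ∧ x ^ m = 1 := by
  haveI := hM.2.1
  haveI := charP_resField (Fact.out : p.Prime) hM.2.2
  letI : Algebra (ZMod p) (ResField M) := ZMod.algebra _ p
  obtain ⟨a, rfl⟩ := Ideal.Quotient.mk_surjective x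
  have haZ : IsIntegral ℤ a := by
    rw [← isIntegral_algebraMap_iff (FaithfulSMul.algebraMap_injective AlgInt ℂ)]
    exact a.2
  have h1 : IsIntegral ℤ (Ideal.Quotient.mk M a) :=
    haZ.map ((Ideal.Quotient.mk M).toIntAlgHom)
  have h2 : IsIntegral (ZMod p) (Ideal.Quotient.mk M a) := by
    obtain ⟨q, hq, hq0⟩ := h1
    refine ⟨q.map (Int.castRingHom (ZMod p)), hq.map _, ?_⟩
    rw [Polynomial.eval₂_map]
    rw [show (algebraMap (ZMod p) (ResField M)).comp (Int.castRingHom (ZMod p))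
      = algebraMap ℤ (ResField M) from RingHom.ext_int _ _]
    exact hq0
  haveI := IntermediateField.adjoin.finiteDimensional h2
  let K := IntermediateField.adjoin (ZMod p) {Ideal.Quotient.mk M a}
  haveI : Finite K := Module.finite_of_finite (ZMod p)
  haveI := Fintype.ofFinite K
  refine ⟨Fintype.card K - 1, ?_, ?_⟩
  · haveI : CharP K p := charP_of_injective_algebraMap (algebraMap (ZMod p) K).injective p
    obtain ⟨n, -, hn⟩ := FiniteField.card K p
    have hp := (Fact.out : p.Prime)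
    intro hdvd
    have hdvd' : p ∣ Fintype.card K := hn ▸ dvd_pow_self p n.2.ne'
    have h3 := Nat.dvd_sub hdvd' hdvd
    rw [Nat.sub_sub_self Fintype.card_pos] at h3
    exact hp.not_dvd_one h3
  · have h4 := FiniteField.pow_card_sub_one_eq_one
      (⟨Ideal.Quotient.mk M a, IntermediateField.mem_adjoin_simple_self _ _⟩ : K)
      (fun h => hx (congrArg Subtype.val h))
    simpa using congrArg Subtype.val h4

/-- Let M be a maximal ideal of the ring of algebraic integers containing the prime p, and let U be the set of complex roots of unity of order prime to p. Then reduction modulo M is injective on U, and every algebraic integer not in M is congruent modulo M to an element of U (so U maps bijectively onto the nonzero residues). -/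
theorem result (p : ℕ) [Fact p.Prime] (M : Ideal Cfsg.AlgInt) (hM : Cfsg.IsPModular p M) : (∀ ε₁ ε₂ : Cfsg.AlgInt, (∃ m : ℕ, ¬ p ∣ m ∧ (ε₁ : ℂ) ^ m = 1) → (∃ m : ℕ, ¬ p ∣ m ∧ (ε₂ : ℂ) ^ m = 1) → ε₁ - ε₂ ∈ M → ε₁ = ε₂) ∧ (∀ a : Cfsg.AlgInt, a ∉ M → ∃ ε : Cfsg.AlgInt, (∃ m : ℕ, ¬ p ∣ m ∧ (ε : ℂ) ^ m = 1) ∧ a - ε ∈ M) := by
  haveI := hM.2.1
  have hp := (Fact.out : p.Prime)
  refine ⟨?_, ?_⟩
  · rintro e₁ e₂ ⟨m₁, hm₁, h₁⟩ ⟨m₂, hm₂, h₂⟩ hmem
    have h₁' : e₁ ^ m₁ = 1 := Subtype.ext (by simpa using h₁)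
    have h₂' : e₂ ^ m₂ = 1 := Subtype.ext (by simpa using h₂)
    have hm : ¬ p ∣ m₁ * m₂ := fun h => (hp.dvd_mul.1 h).elim hm₁ hm₂
    have hm20 : m₂ ≠ 0 := fun h => hm₂ (h ▸ dvd_zero p)
    have hinv : e₂ * e₂ ^ (m₂ - 1) = 1 := by
      rw [← pow_succ', Nat.sub_add_cancel (Nat.one_le_iff_ne_zero.2 hm20), h₂']
    have hζ := eq_one_of_sub_one_mem p M hM (e₁ * e₂ ^ (m₂ - 1)) (m₁ * m₂) hm
      (by rw [mul_pow, pow_mul, h₁', one_pow, one_mul, ← pow_mul, mul_comm m₁ m₂,
            mul_left_comm, pow_mul, h₂', one_pow])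
      (by rw [← hinv, ← sub_mul]; exact M.mul_mem_right _ hmem)
    calc e₁ = e₁ * (e₂ * e₂ ^ (m₂ - 1)) := by rw [hinv, mul_one]
      _ = e₂ := by rw [mul_left_comm, hζ, mul_one]
  · intro a ha
    obtain ⟨m, hm, hpow⟩ := exists_pow_eq_one p M hM (Ideal.Quotient.mk M a) (mk_ne_zero ha)
    have hm0 : m ≠ 0 := fun h => hm (h ▸ dvd_zero p)
    have hζ := Complex.isPrimitiveRoot_exp m hm0
    let ζ : AlgInt := ⟨_, IsIntegral.of_pow (Nat.pos_of_ne_zero hm0) (by rw [hζ.pow_eq_one]; exact isIntegral_one)⟩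
    have hζ' : IsPrimitiveRoot ζ m :=
      IsPrimitiveRoot.of_map_of_injective (f := algebraMap AlgInt ℂ) (by exact hζ)
        (FaithfulSMul.algebraMap_injective AlgInt ℂ)
    have hprod := congrArg (fun q : AlgInt[X] => (q.map (Ideal.Quotient.mk M)).eval
      (Ideal.Quotient.mk M a)) (X_pow_sub_one_eq_prod (Nat.pos_of_ne_zero hm0) hζ')
    simp only [Polynomial.map_sub, Polynomial.map_pow, map_X, Polynomial.map_one,
      Polynomial.map_prod, map_C, eval_sub, eval_pow, eval_X, eval_one, eval_prod, eval_C,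
      hpow, sub_self] at hprod
    obtain ⟨e, he, he0⟩ := Finset.prod_eq_zero_iff.1 hprod.symm
    refine ⟨e, ⟨m, hm, ?_⟩, Ideal.Quotient.eq.1 (sub_eq_zero.1 he0)⟩
    have := (mem_nthRootsFinset (Nat.pos_of_ne_zero hm0) (1 : AlgInt)).1 he
    simpa using congrArg Subtype.val this

end Cfsg.Agent.S0901
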