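import Cfsg.Statements.S0902
import Cfsg.Agent.Lib.Blocks.Osima
import Cfsg.Agent.Lib.BlockReg.Height

set_option autoImplicit false
open Cfsg

namespace Cfsg.Agent.S0902

open scoped ComplexConjugate in
theorem blockCoeff_mem_of_block {G : Type*} [Group G] [Finite G] (p : ℕ) [Fact p.Prime]
    (M : Ideal AlgInt) (hM : IsPModular p M) {B : Set (IrrCharacter G)} (hB : IsPBlock M B)
    (M' : Ideal AlgInt) (hM' : IsPModular p M') (x : G) : MemLocalRing M' (blockCoeff B x) := by
  classical
  letI := Fintype.ofFinite G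
  by_cases hx : p ∣ orderOf x
  · rw [CfsgLib.BlockReg.blockCoeff_singular hM hB x hx]
    exact CfsgLib.BlockReg.memRing_zero hM'
  · obtain ⟨P⟩ : Nonempty (Sylow p G) := inferInstance
    let θ : G → ℂ := fun u => ∑ χ ∈ B.toFinset, conj ((χ : G → ℂ) x) * (χ : G → ℂ) u
    have hvan : ∀ u : (P : Subgroup G), u ≠ 1 → θ u = 0 := by
      intro u hu
      have hpu : p ∣ orderOf (u : G) := by
        obtain ⟨k, hk⟩ := (IsPGroup.iff_orderOf.1 P.isPGroup') u
        rw [Subgroup.orderOf_coe, hk]
        refine dvd_pow_self p fun h0 => hu ?_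
        rw [← orderOf_eq_one_iff, hk, h0, pow_zero]
      have h := CfsgLib.BlockReg.block_orth_swap hM hB x u hx hpu
      rw [finsum_mem_eq_toFinset_sum] at h
      rw [← h]
      exact Finset.sum_congr rfl fun χ _ => mul_comm _ _
    have hsum : ∑ u : (P : Subgroup G), θ u = θ 1 := by
      rw [Finset.sum_eq_single 1 (fun u _ hu => hvan u hu) (by simp)]
      simp
    have hint : IsIntegral ℤ ((Nat.card (P : Subgroup G) : ℂ)⁻¹ * θ 1) := by
      rw [← hsum, Finset.mul_sum]
      simp only [θ, Finset.mul_sum]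
      rw [Finset.sum_comm]
      refine IsIntegral.sum _ fun χ _ => ?_
      have h2 := CfsgLib.BlockReg.isIntegral_avg_trace (P : Subgroup G) 1
        (fun u _ => Commute.one_left u) χ
      have h3 : IsIntegral ℤ (conj ((χ : G → ℂ) x)) := by
        rw [← CfsgLib.BlockReg.char_inv]; exact CfsgLib.BlockReg.isIntegral_char χ _
      convert h3.mul h2 using 1
      rw [Finset.mul_sum, Finset.mul_sum]
      exact Finset.sum_congr rfl fun u _ => by rw [one_mul]; ring
    have key : blockCoeff B x = CfsgLib.BlockReg.pUnit p G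
        * ((Nat.card (P : Subgroup G) : ℂ)⁻¹ * θ 1) := by
      have hP0 : (Nat.card (P : Subgroup G) : ℂ) ≠ 0 := by exact_mod_cast Nat.card_pos.ne'
      have e : Nat.card (P : Subgroup G) = p ^ (Nat.card G).factorization p := P.card_eq_multiplicity
      rw [CfsgLib.BlockReg.pUnit, ← e, blockCoeff, finsum_mem_eq_toFinset_sum]
      field_simp
      exact Finset.sum_congr rfl fun χ _ => mul_comm _ _
    rw [key]
    exact CfsgLib.BlockReg.memRing_mul hM' (CfsgLib.BlockReg.pUnit_spec hM').1
      (CfsgLib.BlockReg.memRing_algInt hM' hint)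

/-- If two irreducible characters of a finite group lie in the same block relative to one maximal ideal M of the algebraic integers containing the prime p, then at every element the difference of their central characters is an algebraic integer lying in every maximal ideal containing p; in particular they lie in the same block relative to any such ideal. -/
theorem result {G : Type*} [Group G] [Finite G] (p : ℕ) [Fact p.Prime] (M : Ideal Cfsg.AlgInt) (hM : Cfsg.IsPModular p M) (χ ψ : Cfsg.IrrCharacter G) (h : Cfsg.SameBlock M (χ : G → ℂ) (ψ : G → ℂ)) (M' : Ideal Cfsg.AlgInt) (hM' : Cfsg.IsPModular p M') (g : G) : ∃ r : Cfsg.AlgInt, r ∈ M' ∧ (r : ℂ) = Cfsg.centralChar (χ : G → ℂ) g - Cfsg.centralChar (ψ : G → ℂ) g := by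
  haveI := hM.2.1
  haveI := hM'.2.1
  have hB := CfsgLib.Blocks.isPBlock_blockOf (M := M) χ
  have hsub := CfsgLib.Blocks.blockOf_subset_of_memLocalRing (M := M')
    (fun x => blockCoeff_mem_of_block p M hM hB M' hM' x) (CfsgLib.Blocks.mem_blockOf_self (M := M) χ)
  have hψ : ψ ∈ blockOf M' (χ : G → ℂ) := by
    have hB' := CfsgLib.Blocks.isPBlock_blockOf (M := M') χ
    have hsub' := CfsgLib.Blocks.blockOf_subset_of_memLocalRing (M := M)
      (fun x => blockCoeff_mem_of_block p M' hM' hB' M hM x)
      (CfsgLib.Blocks.mem_blockOf_self (M := M') χ)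
    exact hsub' h
  have key := hψ g
  have hint : IsIntegral ℤ (centralChar (χ : G → ℂ) g - centralChar (ψ : G → ℂ) g) :=
    (CfsgLib.Blocks.centralChar_isIntegral χ g).sub (CfsgLib.Blocks.centralChar_isIntegral ψ g)
  exact ⟨⟨_, hint⟩, (CfsgLib.Blocks.memLocalIdeal_algInt_iff _).1 key, rfl⟩

end Cfsg.Agent.S0902
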