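import Cfsg.Statements.S0903
import Cfsg.Agent.Lib.Blocks.BrauerMap
import Mathlib.Algebra.Field.ZMod

set_option autoImplicit false
open Cfsg

namespace Cfsg.Agent.S0903

/-- Let P be a p-subgroup of the finite group G, let c centralize P and let g, h ∈ G. The number of pairs (x, y) with x conjugate to g, y conjugate to h and x * y = c is congruent modulo p to the number of such pairs in which x and y both centralize P. (This is why the Brauer map on class sums is multiplicative.) -/
theorem result {G : Type*} [Group G] [Finite G] (p : ℕ) [Fact p.Prime] (P : Subgroup G) (hP : IsPGroup p P) (c : G) (hc : c ∈ Subgroup.centralizer (P : Set G)) (g h : G) : Nat.card {xy : G × G // IsConj g xy.1 ∧ IsConj h xy.2 ∧ xy.1 * xy.2 = c} ≡ Nat.card {xy : G × G // IsConj g xy.1 ∧ IsConj h xy.2 ∧ xy.1 * xy.2 = c ∧ xy.1 ∈ Subgroup.centralizer (P : Set G) ∧ xy.2 ∈ Subgroup.centralizer (P : Set G)} [MOD p] := by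
  open CfsgLib.Blocks in
  classical
  haveI := Fintype.ofFinite G
  rw [← ZMod.natCast_eq_natCast_iff]
  have e1 : Nat.card {xy : G × G // IsConj g xy.1 ∧ IsConj h xy.2 ∧ xy.1 * xy.2 = c}
      = Nat.card {x : G // IsConj g x ∧ IsConj h (x⁻¹ * c)} :=
    Nat.card_congr
      { toFun := fun z => ⟨z.1.1, z.2.1, by
          rw [← eq_inv_mul_of_mul_eq z.2.2.2]; exact z.2.2.1⟩
        invFun := fun x => ⟨(x.1, x.1⁻¹ * c), x.2.1, x.2.2, mul_inv_cancel_left _ _⟩
        left_inv := by
          rintro ⟨⟨a, b⟩, ha, hb, hab⟩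
          apply Subtype.ext
          simp [← hab]
        right_inv := fun x => rfl }
  have e2 : Nat.card {xy : G × G // IsConj g xy.1 ∧ IsConj h xy.2 ∧ xy.1 * xy.2 = c ∧
        xy.1 ∈ Subgroup.centralizer (P : Set G) ∧ xy.2 ∈ Subgroup.centralizer (P : Set G)}
      = Nat.card {x : G // IsConj g x ∧ IsConj h (x⁻¹ * c) ∧
          x ∈ Subgroup.centralizer (P : Set G)} :=
    Nat.card_congr
      { toFun := fun z => ⟨z.1.1, z.2.1, by
          rw [← eq_inv_mul_of_mul_eq z.2.2.2.1]; exact z.2.2.1, z.2.2.2.2.1⟩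
        invFun := fun x => ⟨(x.1, x.1⁻¹ * c), x.2.1, x.2.2.1, mul_inv_cancel_left _ _,
          x.2.2.2, mul_mem (inv_mem x.2.2.2) hc⟩
        left_inv := by
          rintro ⟨⟨a, b⟩, ha, hb, hab, -, -⟩
          apply Subtype.ext
          simp [← hab]
        right_inv := fun x => rfl }
  rw [e1, e2, ← coeff_classSum_mul (R := ZMod p),
    coeff_mul_eq_sum_centralizer hP (conjFixed_of_mem_center (classSum_mem_center g))
      (conjFixed_of_mem_center (classSum_mem_center h)) hc,
    Nat.card_eq_fintype_card, Fintype.card_subtype, Finset.natCast_card_filter,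
    Finset.sum_filter]
  refine Finset.sum_congr rfl fun x _ => ?_
  simp only [coeff_classSum]
  by_cases h1 : IsConj g x <;> by_cases h2 : IsConj h (x⁻¹ * c) <;>
    by_cases h3 : x ∈ Subgroup.centralizer (P : Set G) <;> simp [h1, h2, h3, -isConj_iff]

end Cfsg.Agent.S0903
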