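import Cfsg.Statements.S0904
import Cfsg.Agent.Lib.Blocks.PrincipalPPower
import Cfsg.Agent.Lib.BlockReg.Foundation
import Cfsg.Agent.Lib.BlockReg.Integral
import Cfsg.Agent.Lib.Char.DefectZero

set_option autoImplicit false
open Cfsg

namespace Cfsg.Agent.S0904

open CfsgLib.Char in
/-- No element of order `p` commutes with one of order `r` in a simple group of order
`p ^ a * q ^ b * r`. -/
theorem not_commute.{u} {G : Type u} [Group G] [Finite G] [IsSimpleGroup G] (p q r a b : ℕ)
    [Fact p.Prime] (hq : q.Prime) (hr : r.Prime) (hpq : p ≠ q) (hpr : p ≠ r) (hqr : q ≠ r)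
    (hcard : Nat.card G = p ^ a * q ^ b * r) (y s : G) (hy : orderOf y = p) (hs : orderOf s = r)
    (hys : Commute y s) : False := by
  have hp : p.Prime := Fact.out
  have hu : orderOf (y * s) = p * r := by
    rw [hys.orderOf_mul_eq_mul_orderOf_of_coprime
      (by rw [hy, hs]; exact (Nat.coprime_primes hp hr).2 hpr), hy, hs]
  have hna : ∃ x z : G, x * z ≠ z * x := by
    by_contra hcom
    push Not at hcom
    letI : CommGroup G := { ‹Group G› with mul_comm := hcom }
    have hprime : (Nat.card G).Prime := IsSimpleGroup.prime_card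
    have h1 : p = Nat.card G :=
      (Nat.prime_dvd_prime_iff_eq hp hprime).1 (hy ▸ orderOf_dvd_natCard y)
    have h2 : r = Nat.card G :=
      (Nat.prime_dvd_prime_iff_eq hr hprime).1 (hs ▸ orderOf_dvd_natCard s)
    exact hpr (h1.trans h2.symm)
  obtain ⟨M, hM⟩ := CfsgLib.BlockReg.exists_isPModular hp
  haveI : M.IsMaximal := hM.2.1
  have horth := CfsgLib.BlockReg.block_orthogonality hM (CfsgLib.Blocks.isPBlock_principalBlock)
    (1 : G) (y * s) (by rw [orderOf_one]; exact hp.not_dvd_one) (by rw [hu]; exact dvd_mul_right p r)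
  classical
  rw [finsum_mem_eq_toFinset_sum,
    ← Finset.add_sum_erase _ _ (Set.mem_toFinset.2 CfsgLib.Blocks.principalIrr_mem_principalBlock)]
    at horth
  simp only [principalIrr_apply, map_one, mul_one] at horth
  have hterm : ∀ χ ∈ (principalBlock M G).toFinset.erase principalIrr, ∃ w : ℂ, IsIntegral ℤ w ∧
      (χ : G → ℂ) 1 * starRingEnd ℂ ((χ : G → ℂ) (y * s)) = (q : ℂ) * w := by
    intro χ hχ
    rw [Finset.mem_erase, Set.mem_toFinset] at hχ
    set d := charDegree (χ : G → ℂ) with hd
    have hdd : d ∣ p ^ a * q ^ b * r := hcard ▸ CfsgLib.BlockReg.deg_dvd_card χ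
    by_cases hrd : r ∣ d
    · refine ⟨0, isIntegral_zero, ?_⟩
      obtain ⟨n, ρ, hρ, hρχ⟩ := χ.2
      have hn : d = Module.finrank ℂ (Fin n → ℂ) := by rw [hd, ← hρχ]; simp [charDegree]
      have h0 : ρ.character (y * s) = 0 := by
        refine character_eq_zero_of_defect_zero ρ hr (n := 1) ?_ ?_ ?_ (y * s)
          (by rw [hu]; exact dvd_mul_left r p)
        · rw [pow_one, hcard]; exact dvd_mul_left r _
        · rw [hcard, sq]
          intro h
          have h' := Nat.dvd_of_mul_dvd_mul_right hr.pos h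
          rcases hr.dvd_mul.1 h' with h' | h'
          · exact hpr ((Nat.prime_dvd_prime_iff_eq hr hp).1 (hr.dvd_of_dvd_pow h')).symm
          · exact hqr ((Nat.prime_dvd_prime_iff_eq hr hq).1 (hr.dvd_of_dvd_pow h')).symm
        · rw [pow_one, ← hn]; exact hrd
      rw [← hρχ, h0, map_zero, mul_zero, mul_zero]
    · have hd1 : d ∣ p ^ a * q ^ b :=
        Nat.Coprime.dvd_of_dvd_mul_right ((hr.coprime_iff_not_dvd.2 hrd).symm) hdd
      by_cases hqd : q ∣ d
      · obtain ⟨k, hk⟩ := hqd
        refine ⟨(k : ℂ) * starRingEnd ℂ ((χ : G → ℂ) (y * s)), ?_, ?_⟩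
        · refine IsIntegral.mul (isIntegral_algebraMap (R := ℤ) (x := (k : ℤ))) ?_
          rw [← CfsgLib.BlockReg.char_inv χ]
          exact CfsgLib.BlockReg.isIntegral_char χ _
        · rw [← CfsgLib.BlockReg.deg_cast χ, ← hd, hk, Nat.cast_mul, mul_assoc]
      · exfalso
        obtain ⟨k, -, hk⟩ := (Nat.dvd_prime_pow hp).1
          (Nat.Coprime.dvd_of_dvd_mul_right (((hq.coprime_iff_not_dvd.2 hqd).symm).pow_right b) hd1)
        apply hχ.1
        apply Subtype.ext
        rw [CfsgLib.Blocks.eq_one_of_pow_degree hM hna χ hχ.2 k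
          (by rw [← CfsgLib.BlockReg.deg_cast χ, ← hd, hk, Nat.cast_pow])]
        rfl
  choose w hw hwe using hterm
  rw [← Finset.sum_attach, Finset.sum_congr rfl fun χ _ => hwe χ.1 χ.2, ← Finset.mul_sum] at horth
  have hint : IsIntegral ℤ (-∑ χ ∈ ((principalBlock M G).toFinset.erase principalIrr).attach,
      w χ.1 χ.2) := (IsIntegral.sum _ fun χ _ => hw χ.1 χ.2).neg
  have hq0 : (q : ℂ) ≠ 0 := by exact_mod_cast hq.ne_zero
  have hval : ((1 : ℕ) : ℂ) / (q : ℂ) = -∑ χ ∈ ((principalBlock M G).toFinset.erase principalIrr).attach,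
      w χ.1 χ.2 := by
    rw [Nat.cast_one, div_eq_iff hq0]
    linear_combination horth
  exact hq.not_dvd_one (dvd_of_isIntegral_natCast_div hq.ne_zero (hval ▸ hint))

/-- Let G be a finite simple group of order p ^ a * q ^ b * r with p, q, r distinct primes. Then every Sylow r-subgroup S of G satisfies C_G(S) = S. -/
theorem result {G : Type*} [Group G] [Finite G] [IsSimpleGroup G] (p q r a b : ℕ) (hp : p.Prime) (hq : q.Prime) [Fact r.Prime] (hpq : p ≠ q) (hpr : p ≠ r) (hqr : q ≠ r) (hcard : Nat.card G = p ^ a * q ^ b * r) (S : Sylow r G) : Subgroup.centralizer (S : Set G) = (S : Subgroup G) := by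
  have hr : r.Prime := Fact.out
  have hrc : Nat.card S = r ^ 1 := by
    rw [Sylow.card_eq_multiplicity, hcard]
    congr 1
    have h1 : ¬ r ∣ p ^ a * q ^ b := by
      intro h
      rcases hr.dvd_mul.1 h with h | h
      · exact hpr ((Nat.prime_dvd_prime_iff_eq hr hp).1 (hr.dvd_of_dvd_pow h)).symm
      · exact hqr ((Nat.prime_dvd_prime_iff_eq hr hq).1 (hr.dvd_of_dvd_pow h)).symm
    have h0 : p ^ a * q ^ b ≠ 0 :=
      mul_ne_zero (pow_ne_zero _ hp.ne_zero) (pow_ne_zero _ hq.ne_zero)
    rw [Nat.factorization_mul h0 hr.ne_zero, Finsupp.add_apply,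
      Nat.factorization_eq_zero_of_not_dvd h1, hr.factorization_self]
  rw [pow_one] at hrc
  haveI : IsCyclic (S : Subgroup G) := isCyclic_of_prime_card hrc
  refine le_antisymm (fun c hc => ?_) ?_
  · set C := Subgroup.centralizer (S : Set G) with hC
    have hSC : (S : Subgroup G) ≤ C := by
      intro x hx
      rw [hC, Subgroup.mem_centralizer_iff]
      intro y hy
      have := IsMulCommutative.is_comm.comm (⟨y, hy⟩ : (S : Subgroup G)) ⟨x, hx⟩
      exact congrArg Subtype.val this
    obtain ⟨s, hs⟩ := IsCyclic.exists_generator (α := (S : Subgroup G))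
    have hsord : orderOf (s : G) = r := by
      rw [Subgroup.orderOf_coe, orderOf_eq_card_of_forall_mem_zpowers hs, hrc]
    have hdC : Nat.card C ∣ r := by
      have hd : Nat.card C ∣ p ^ a * q ^ b * r := hcard ▸ Subgroup.card_subgroup_dvd_card C
      have key : ∀ l : ℕ, l.Prime → l ∣ Nat.card C → l = r := by
        intro l hl hlC
        by_contra hlr
        haveI := Fact.mk hl
        obtain ⟨y, hy⟩ := exists_prime_orderOf_dvd_card' (G := C) l hlC
        have hys : Commute (y : G) (s : G) :=
          (Subgroup.mem_centralizer_iff.1 y.2 (s : G) s.2).symm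
        have hyo : orderOf (y : G) = l := by rw [Subgroup.orderOf_coe, hy]
        have hlpq : l = p ∨ l = q := by
          rcases hl.dvd_mul.1 (hlC.trans hd) with h | h
          · rcases hl.dvd_mul.1 h with h | h
            · exact Or.inl ((Nat.prime_dvd_prime_iff_eq hl hp).1 (hl.dvd_of_dvd_pow h))
            · exact Or.inr ((Nat.prime_dvd_prime_iff_eq hl hq).1 (hl.dvd_of_dvd_pow h))
          · exact absurd ((Nat.prime_dvd_prime_iff_eq hl hr).1 h) hlr
        rcases hlpq with rfl | rfl
        · exact not_commute l q r a b hq hr hpq hpr hqr hcard (y : G) (s : G) hyo hsord hys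
        · exact not_commute l p r b a hp hr hpq.symm hqr hpr (by rw [hcard]; ring) (y : G) (s : G)
            hyo hsord hys
      have hfac : Nat.card C = r ^ (Nat.card C).primeFactorsList.length :=
        Nat.eq_prime_pow_of_unique_prime_dvd Nat.card_pos.ne' fun {d} hd hdC => key d hd hdC
      have hle : (Nat.card C).primeFactorsList.length ≤ 1 := by
        have h2 : r ^ (Nat.card C).primeFactorsList.length ∣ p ^ a * q ^ b * r := hfac ▸ hd
        have hcop : Nat.Coprime r (p ^ a * q ^ b) :=
          Nat.Coprime.mul_right (((Nat.coprime_primes hr hp).2 hpr.symm).pow_right a)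
            (((Nat.coprime_primes hr hq).2 hqr.symm).pow_right b)
        have h3 := Nat.Coprime.dvd_of_dvd_mul_left (hcop.pow_left _) h2
        have h4 := Nat.le_of_dvd hr.pos h3
        by_contra hlt
        have h5 : r ^ 2 ≤ r ^ (Nat.card C).primeFactorsList.length :=
          Nat.pow_le_pow_right hr.pos (by omega)
        have h6 : r < r ^ 2 := by
          rw [sq]
          exact lt_mul_self hr.one_lt
        omega
      rw [hfac]
      exact (pow_dvd_pow r hle).trans (by rw [pow_one])
    have heq : (S : Subgroup G) = C :=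
      Subgroup.eq_of_le_of_card_ge hSC (by rw [hrc]; exact Nat.le_of_dvd hr.pos hdC)
    rw [heq]
    exact hc
  · intro x hx
    rw [Subgroup.mem_centralizer_iff]
    intro y hy
    have := IsMulCommutative.is_comm.comm (⟨y, hy⟩ : (S : Subgroup G)) ⟨x, hx⟩
    exact congrArg Subtype.val this

end Cfsg.Agent.S0904
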