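import Cfsg.Statements.S0905
import Cfsg.Agent.Lib.Blocks.NormalPKernel
import Cfsg.Agent.Lib.Solvable.Core

set_option autoImplicit false
open Cfsg

namespace Cfsg.Agent.S0905

/-- Let F be a field of characteristic p and let g be an element of the finite group G no conjugate of which centralizes O_p(G). Then the class sum of g is a nilpotent element of the group algebra F[G]. -/
theorem result {G : Type*} [Group G] [Finite G] (p : ℕ) [Fact p.Prime] (F : Type*) [Field F] [CharP F p] (g : G) (hg : ∀ x : G, IsConj g x → x ∉ Subgroup.centralizer (Cfsg.pCore p G : Set G)) : IsNilpotent (∑ᶠ x ∈ ConjClasses.carrier (ConjClasses.mk g), MonoidAlgebra.single x (1 : F) : MonoidAlgebra F G) := by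
  open CfsgLib.Blocks in
  classical
  haveI := Fintype.ofFinite G
  have hz : (∑ᶠ x ∈ ConjClasses.carrier (ConjClasses.mk g), MonoidAlgebra.single x (1 : F) :
      MonoidAlgebra F G) = classSum F g := by
    rw [finsum_mem_eq_finite_toFinset_sum _ (Set.toFinite _)]
    ext c
    rw [MonoidAlgebra.coeff_sum, Finsupp.finsetSum_apply]
    simp only [MonoidAlgebra.coeff_single, Finsupp.single_apply, coeff_classSum]
    rw [Finset.sum_ite_eq']
    convert if_congr ?_ rfl rfl using 2
    rw [Set.Finite.mem_toFinset, ConjClasses.mem_carrier_iff_mk_eq, ConjClasses.mk_eq_mk_iff_isConj]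
    exact ⟨fun h => h.symm, fun h => h.symm⟩
  rw [hz]
  haveI := CfsgLib.Solvable.pCore_normal p G
  have hQ : IsPGroup p (Cfsg.pCore p G) := CfsgLib.Solvable.pCore_isPGroup p G
  refine isNilpotent_of_cosetSum hQ (classSum_mem_center g) fun y => ?_
  refine cosetSum_eq_zero_of_centralizer (p := p) hQ (conjFixed_of_mem_center (classSum_mem_center g))
    (fun x hx => ?_) y
  rw [coeff_classSum, if_neg]
  exact fun hgx => hg x hgx hx

end Cfsg.Agent.S0905
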