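import Cfsg.Statements.S4487
import Cfsg.Agent.Lib.BlockReg.Regular
import Cfsg.Agent.Lib.Blocks.Defect

set_option autoImplicit false
open Cfsg

namespace Cfsg.Agent.S4487
open CfsgLib.BlockReg
open scoped ComplexConjugate

/-- Let G be a finite group and p a prime such that G has no non-trivial normal subgroup of order prime to p and C_G(O_p(G)) ≤ O_p(G). Then G has a single p-block: any two irreducible characters lie in the same block relative to every maximal ideal M of the algebraic integers containing p. -/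
theorem result {G : Type*} [Group G] [Finite G] (p : ℕ) [Fact p.Prime] (M : Ideal Cfsg.AlgInt) (hM : Cfsg.IsPModular p M) (hcore : Cfsg.pPrimeCore p G = ⊥) (hconstr : Subgroup.centralizer ((Cfsg.pCore p G) : Set G) ≤ Cfsg.pCore p G) (χ ψ : Cfsg.IrrCharacter G) : Cfsg.SameBlock M (χ : G → ℂ) (ψ : G → ℂ) := by
  classical
  haveI := Fintype.ofFinite G
  haveI := Fintype.ofFinite (ConjClasses G)
  haveI := hM.2.1
  have hpr : p.Prime := Fact.out
  by_contra hnot
  set B := Cfsg.blockOf M (χ : G → ℂ) with hBdef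
  have hB : Cfsg.IsPBlock M B := ⟨χ, rfl⟩
  have hB' : Cfsg.IsPBlock M (Cfsg.blockOf M (ψ : G → ℂ)) := ⟨ψ, rfl⟩
  have hψB : ψ ∉ B := hnot
  have hP : IsPGroup p (Cfsg.pCore p G) := CfsgLib.Solvable.pCore_isPGroup p G
  have key : ∀ (B' : Set (Cfsg.IrrCharacter G)), Cfsg.IsPBlock M B' → ∀ ξ ∈ B', ∀ g : G,
      ¬ p ∣ orderOf g → ¬ Cfsg.MemLocalIdeal M (Cfsg.centralChar (ξ : G → ℂ) g) → g = 1 := by
    intro B' hB' ξ hξ g hg hω
    obtain ⟨D, hD⟩ := CfsgLib.Blocks.exists_defectGroup hM hB'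
    have hle := CfsgLib.Blocks.pCore_le_defectGroup hM hB' hD
    obtain ⟨c, hgc, hc⟩ := CfsgLib.Blocks.exists_isConj_centralizer_defectGroup hM hB' hD hξ hω
    have hcP : c ∈ Cfsg.pCore p G := hconstr (Subgroup.centralizer_le hle hc)
    obtain ⟨k, hk⟩ := hP ⟨c, hcP⟩
    have hk' : c ^ p ^ k = 1 := congrArg Subtype.val hk
    obtain ⟨j, -, hj⟩ := (Nat.dvd_prime_pow hpr).1 (orderOf_dvd_of_pow_eq_one hk')
    obtain ⟨d, hd⟩ := isConj_iff.1 hgc
    have horder : orderOf c = orderOf g := by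
      rw [← hd]; exact MulEquiv.orderOf_eq (MulAut.conj d) g
    rcases Nat.eq_zero_or_pos j with rfl | hjpos
    · rw [pow_zero, horder] at hj
      exact orderOf_eq_one_iff.1 hj
    · exact absurd (horder ▸ hj ▸ dvd_pow_self p hjpos.ne') hg
  have hout : ∀ C : ConjClasses G, ∀ ξ ∈ Cfsg.blockOf M (ψ : G → ℂ), C ≠ ConjClasses.mk 1 →
      Cfsg.MemLocalIdeal M (Cfsg.blockCoeff B C.out * Cfsg.centralChar (ξ : G → ℂ) C.out) := by
    intro C ξ hξ hC
    by_cases hs : p ∣ orderOf C.out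
    · rw [blockCoeff_singular hM hB _ hs, zero_mul]; exact memIdeal_zero hM
    · refine memIdeal_mul_left hM (memRing_blockCoeff hM hB _) ?_
      by_contra hω
      exact hC (by rw [← key _ hB' ξ hξ _ hs hω]; exact (Quotient.out_eq C).symm)
  have hψmem : ψ ∈ Cfsg.blockOf M (ψ : G → ℂ) := sameBlock_refl hM _
  have h0 := (sum_blockCoeff_mul_char B ψ).2 hψB
  rw [sum_mul_char_div ψ _ (fun g h hgh => blockCoeff_congr B hgh),
    ← Finset.add_sum_erase _ _ (Finset.mem_univ (ConjClasses.mk (1 : G)))] at h0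
  have hone : IsConj (ConjClasses.mk (1 : G)).out 1 :=
    ConjClasses.mk_eq_mk_iff_isConj.1 (Quotient.out_eq _)
  rw [blockCoeff_congr B hone, centralChar_congr_isConj ψ hone, centralChar_one, mul_one] at h0
  obtain ⟨g, hg, hdef⟩ := exists_defect_class hM hB
  have hg1 : g = 1 := key B hB χ (sameBlock_refl hM _) g hg (hdef.2.2 χ (sameBlock_refl hM _))
  apply hdef.2.1
  rw [hg1, eq_neg_of_add_eq_zero_left h0]
  refine memIdeal_neg (memIdeal_sum hM _ fun C hC => hout C ψ hψmem (Finset.ne_of_mem_erase hC))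

end Cfsg.Agent.S4487
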