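import Cfsg.Statements.S0921
import Cfsg.Agent.Lib.Blocks.Osima
import Cfsg.Agent.Lib.Char.Clifford
import Cfsg.Agent.Lib.Solvable.Core
import Cfsg.Agent.Lib.BlockReg.Basic

set_option autoImplicit false
open Cfsg

namespace Cfsg.Agent.S0921

open CfsgLib.Blocks CfsgLib.Char in
open scoped ComplexConjugate Classical in
theorem classInner_ne_zero_of_sameBlock {G : Type*} [Group G] [Fintype G] (p : ℕ)
    (M : Ideal AlgInt) (hM : IsPModular p M) (N : Subgroup G) [N.Normal] [Fintype N]
    (hN : (Nat.card N).Coprime p) (χ φ : IrrCharacter G)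
    (h : SameBlock M (χ : G → ℂ) (φ : G → ℂ)) (θ : IrrCharacter N)
    (hθ : classInner (fun n : N => (χ : G → ℂ) n) (θ : N → ℂ) ≠ 0) :
    classInner (fun n : N => (φ : G → ℂ) n) (θ : N → ℂ) ≠ 0 := by
  haveI := hM.2.1
  let T : Set (IrrCharacter N) :=
    {ψ | classInner (fun n : N => (χ : G → ℂ) n) (ψ : N → ℂ) ≠ 0}
  have hN0 : (Nat.card N : ℂ) ≠ 0 := by exact_mod_cast Nat.card_pos.ne'
  -- coefficients
  have hmemN : ∀ n : N, blockCoeff T n ∈ locRing M := by
    intro n
    rw [blockCoeff_eq_sum]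
    refine mul_mem ?_ (sum_mem fun ψ _ => ?_)
    · have := CfsgLib.BlockReg.natCast_div_memRing (n := 1) (m := Nat.card N) hM
        Nat.card_pos.ne' (Or.inr ?_)
      · simpa [mem_locRing_iff] using this
      · rw [Nat.factorization_one, Finsupp.zero_apply, Nat.factorization_eq_zero_of_not_dvd]
        exact hM.1.coprime_iff_not_dvd.1 hN.symm
    · refine mul_mem ?_ (mul_mem ?_ ?_)
      · unfold blockInd; split_ifs
        · exact one_mem _
        · exact zero_mem _
      · exact isIntegral_mem_locRing (CfsgLib.BlockReg.isIntegral_char ψ 1)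
      · rw [← CfsgLib.BlockReg.char_inv]
        exact isIntegral_mem_locRing (CfsgLib.BlockReg.isIntegral_char ψ _)
  let f : G → ℂ := fun x => if hx : x ∈ N then blockCoeff T ⟨x, hx⟩ else 0
  have hfmem : ∀ x, f x ∈ locRing M := by
    intro x
    simp only [f]
    split_ifs
    · exact hmemN _
    · exact zero_mem _
  have hinv : ∀ (g : G) (n : N),
      blockCoeff T ⟨g * n * g⁻¹, Subgroup.Normal.conj_mem ‹N.Normal› n n.2 g⟩ = blockCoeff T n := by
    intro g n
    rw [blockCoeff_eq_sum, blockCoeff_eq_sum]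
    congr 1
    let e : IrrCharacter N ≃ IrrCharacter N :=
      { toFun := fun ψ => ⟨_, CfsgLib.CharTwist.isIrrCharacter_conjFun N ψ.2 g⟩
        invFun := fun ψ => ⟨_, CfsgLib.CharTwist.isIrrCharacter_conjFun N ψ.2 g⁻¹⟩
        left_inv := fun ψ => Subtype.ext (by
          show CfsgLib.CharTwist.conjFun N (CfsgLib.CharTwist.conjFun N (ψ : N → ℂ) g) g⁻¹ = _
          rw [← CfsgLib.CharTwist.conjFun_mul, mul_inv_cancel, CfsgLib.CharTwist.conjFun_one])
        right_inv := fun ψ => Subtype.ext (by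
          show CfsgLib.CharTwist.conjFun N (CfsgLib.CharTwist.conjFun N (ψ : N → ℂ) g⁻¹) g = _
          rw [← CfsgLib.CharTwist.conjFun_mul, inv_mul_cancel, CfsgLib.CharTwist.conjFun_one]) }
    refine Fintype.sum_equiv e _ _ fun ψ => ?_
    have he1 : CfsgLib.CharTwist.conjFun N (ψ : N → ℂ) g 1 = (ψ : N → ℂ) 1 :=
      congrArg (ψ : N → ℂ) (Subtype.ext (by simp))
    have hT : e ψ ∈ T ↔ ψ ∈ T := by
      show classInner _ (CfsgLib.CharTwist.conjFun N (ψ : N → ℂ) g) ≠ 0 ↔ _
      rw [CfsgLib.Clifford.classInner_res_conjFun N (IsIrrCharacter.isClassFunction χ.2)]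
      rfl
    simp only [blockInd, hT]
    show _ = _ * (CfsgLib.CharTwist.conjFun N (ψ : N → ℂ) g 1 * conj (CfsgLib.CharTwist.conjFun N (ψ : N → ℂ) g n))
    rw [he1]
    congr 1
    exact ite_congr rfl (fun _ => rfl) (fun _ => rfl)
  have hfconj : ∀ u x : G, f (u * x * u⁻¹) = f x := by
    intro u x
    simp only [f]
    by_cases hx : x ∈ N
    · rw [dif_pos hx, dif_pos (Subgroup.Normal.conj_mem ‹N.Normal› x hx u)]
      exact hinv u ⟨x, hx⟩
    · rw [dif_neg hx, dif_neg]
      intro hc
      exact hx (by simpa [mul_assoc] using Subgroup.Normal.conj_mem ‹N.Normal› _ hc u⁻¹)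
  let a : Subalgebra.center (locRing M) (MonoidAlgebra (locRing M) G) :=
    ⟨ofFun fun x => ⟨f x, hfmem x⟩, ofFun_mem_center fun u x => Subtype.ext (hfconj u x)⟩
  have hval : ∀ η : IrrCharacter G, ((lamR M η a : locRing M) : ℂ)
      = (∑ ψ : IrrCharacter N, blockInd T ψ * (ψ : N → ℂ) 1 *
          classInner (fun n : N => (η : G → ℂ) n) (ψ : N → ℂ)) / (η : G → ℂ) 1 := by
    intro η
    rw [coe_lamR, omega_eq_sum]
    congr 1
    simp only [coe_mapCenter, coeff_map, a, coeff_ofFun, Subring.coe_subtype]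
    calc ∑ x : G, f x * (η : G → ℂ) x = ∑ n : N, blockCoeff T n * (η : G → ℂ) n := by
          symm
          refine Finset.sum_bij_ne_zero (fun (t : N) _ _ => (t : G)) (fun _ _ _ => Finset.mem_univ _)
            (fun _ _ _ _ _ _ hst => Subtype.ext hst) ?_ ?_
          · intro x _ hne
            have hx : x ∈ N := by
              by_contra hx
              exact hne (by simp [f, hx])
            exact ⟨⟨x, hx⟩, Finset.mem_univ _, by simpa [f, hx] using hne, rfl⟩
          · intro t _ _
            simp [f]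
      _ = _ := by
          simp only [blockCoeff_eq_sum, classInner, Finset.mul_sum, Finset.sum_mul]
          rw [Finset.sum_comm]
          refine Finset.sum_congr rfl fun ψ _ => Finset.sum_congr rfl fun n _ => ?_
          ring
  have h1 : lamR M χ a = 1 := by
    apply Subtype.ext
    rw [hval, OneMemClass.coe_one, div_eq_one_iff_eq (IsIrrCharacter.apply_one_ne_zero χ.2)]
    have hres := congrFun (IsCharacter.eq_sum_classInner
      (CfsgLib.Clifford.isCharacter_res (IsIrrCharacter.isCharacter χ.2) N)) 1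
    simp only [OneMemClass.coe_one, Finset.sum_apply, Pi.smul_apply, smul_eq_mul] at hres
    refine Eq.trans ?_ hres.symm
    refine Finset.sum_congr rfl fun ψ _ => ?_
    by_cases hψ : ψ ∈ T
    · rw [blockInd, if_pos hψ]; ring
    · rw [blockInd, if_neg hψ, show classInner (fun n : N => (χ : G → ℂ) n) (ψ : N → ℂ) = 0 by
        simpa [T] using hψ]
      ring
  have h2 : red M (lamR M φ a) = 1 := by
    rw [← lam_mapCenter, ← sameBlock_iff_lam.1 h, lam_mapCenter, h1, map_one]
  obtain ⟨ψ, hψT, hψ⟩ : ∃ ψ ∈ T, classInner (fun n : N => (φ : G → ℂ) n) (ψ : N → ℂ) ≠ 0 := by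
    by_contra hcon
    push Not at hcon
    have h0 : lamR M φ a = 0 := by
      apply Subtype.ext
      rw [hval, ZeroMemClass.coe_zero, Finset.sum_eq_zero, zero_div]
      intro ψ _
      by_cases hψ : ψ ∈ T
      · rw [hcon ψ hψ, mul_zero]
      · simp [blockInd, hψ]
    rw [h0, map_zero] at h2
    exact zero_ne_one h2
  obtain ⟨g, hg⟩ := CfsgLib.Clifford.exists_conjFun_eq N χ.2 ψ.2 θ.2 hψT hθ
  rwa [← hg, CfsgLib.Clifford.classInner_res_conjFun N (IsIrrCharacter.isClassFunction φ.2)]

/-- Let N = O_p'(G) be the largest normal subgroup of the finite group G of order prime to p, and fix a maximal ideal M of the algebraic integers containing p. If two irreducible characters χ, ψ of G lie in the same block relative to M, then an irreducible character of N occurs in the restriction of χ exactly when it occurs in the restriction of ψ. -/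
theorem result {G : Type*} [Group G] [Finite G] (p : ℕ) [Fact p.Prime] (M : Ideal Cfsg.AlgInt) (hM : Cfsg.IsPModular p M) [Fintype G] (χ ψ : Cfsg.IrrCharacter G) (h : Cfsg.SameBlock M (χ : G → ℂ) (ψ : G → ℂ)) (θ : Cfsg.IrrCharacter (Cfsg.pPrimeCore p G)) [Fintype (Cfsg.pPrimeCore p G)] : Cfsg.classInner (fun n : Cfsg.pPrimeCore p G => (χ : G → ℂ) n) (θ : Cfsg.pPrimeCore p G → ℂ) ≠ 0 ↔ Cfsg.classInner (fun n : Cfsg.pPrimeCore p G => (ψ : G → ℂ) n) (θ : Cfsg.pPrimeCore p G → ℂ) ≠ 0 := by
  haveI := hM.2.1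
  haveI := CfsgLib.Solvable.pPrimeCore_normal p G
  have hcop := CfsgLib.Solvable.pPrimeCore_card_coprime p G
  constructor
  · exact classInner_ne_zero_of_sameBlock p M hM (Cfsg.pPrimeCore p G) hcop χ ψ h θ
  · exact classInner_ne_zero_of_sameBlock p M hM (Cfsg.pPrimeCore p G) hcop ψ χ
      (CfsgLib.Blocks.SameBlock.symm' h) θ

end Cfsg.Agent.S0921
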