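import Cfsg.Statements.S0925
import Cfsg.Agent.Lib.Blocks.Section

set_option autoImplicit false
open Cfsg

namespace Cfsg.Agent.S0925

/-- (i) Let ϑ be a class function on the finite group G and x a p-element, and suppose ϑ vanishes at every element whose p-part is conjugate to x. Then for every block B (relative to a maximal ideal M of the algebraic integers containing p) the B-part of ϑ — the sum over χ ∈ B of the inner product of ϑ with χ, times χ — also vanishes at every such element. (ii) Block orthogonality, its corollary: if the p-parts of g and h are not conjugate, then the sum over χ ∈ B of χ g * χ h⁻¹ is zero for every block B. -/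
theorem result {G : Type*} [Group G] [Finite G] (p : ℕ) [Fact p.Prime] (M : Ideal Cfsg.AlgInt) (hM : Cfsg.IsPModular p M) : (∀ (ϑ : G → ℂ), Cfsg.IsClassFunction G ϑ → ∀ x : G, (∃ k : ℕ, orderOf x = p ^ k) → (∀ u z : G, Cfsg.IsPPart p u z → IsConj x z → ϑ u = 0) → ∀ B : Set (Cfsg.IrrCharacter G), Cfsg.IsPBlock M B → ∀ u z : G, Cfsg.IsPPart p u z → IsConj x z → Cfsg.blockPart B ϑ u = 0) ∧ (∀ g h x y : G, Cfsg.IsPPart p g x → Cfsg.IsPPart p h y → ¬ IsConj x y → ∀ B : Set (Cfsg.IrrCharacter G), Cfsg.IsPBlock M B → ∑ᶠ χ ∈ B, (χ : G → ℂ) g * (χ : G → ℂ) h⁻¹ = 0) := by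
  haveI := hM.2.1
  have hp := (Fact.out : p.Prime)
  have orth := fun (g h x y : G) (hg : IsPPart p g x) (hh : IsPPart p h y) (hxy : ¬ IsConj x y)
      (B : Set (IrrCharacter G)) (hB : IsPBlock M B) =>
    CfsgLib.Blocks.block_orthogonality_section hp hM.2.2 hB hg hh hxy
  refine ⟨?_, orth⟩
  intro th hth x _hx hvan B hB u z hu hxz
  classical
  letI := Fintype.ofFinite G
  show ∑ᶠ χ ∈ B, classInner th (χ : G → ℂ) * (χ : G → ℂ) u = 0
  rw [finsum_mem_def, finsum_eq_sum_of_fintype]
  have h1 : ∀ χ : IrrCharacter G,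
      Set.indicator B (fun χ => classInner th (χ : G → ℂ) * (χ : G → ℂ) u) χ
        = (Nat.card G : ℂ)⁻¹ * ∑ g : G, th g *
          Set.indicator B (fun χ => (χ : G → ℂ) u * (χ : G → ℂ) g⁻¹) χ := by
    intro χ
    by_cases hχ : χ ∈ B
    · simp only [Set.indicator_of_mem hχ, classInner, Finset.mul_sum, Finset.sum_mul]
      refine Finset.sum_congr rfl fun g _ => ?_
      rw [CfsgLib.Char.IsIrrCharacter.apply_inv χ.2]
      ring
    · simp [hχ]
  simp only [h1]
  rw [← Finset.mul_sum, Finset.sum_comm]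
  simp only [← Finset.mul_sum]
  refine mul_eq_zero_of_right _ (Finset.sum_eq_zero fun g _ => ?_)
  obtain ⟨w, hw⟩ := CfsgLib.Blocks.exists_isPPart hp g
  by_cases hzw : IsConj z w
  · rw [hvan g w hw (hxz.trans hzw), zero_mul]
  · refine mul_eq_zero_of_right _ ?_
    have := orth u g z w hu hw hzw B hB
    rwa [finsum_mem_def, finsum_eq_sum_of_fintype] at this

end Cfsg.Agent.S0925
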