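import Cfsg.Statements.S0926
import Cfsg.Agent.Lib.Blocks.HeightZero

set_option autoImplicit false
open Cfsg

namespace Cfsg.Agent.S0926

/-- Let B be a block of the finite group G with defect group D (relative to a maximal ideal M of the algebraic integers containing p), let χ ∈ B have height zero, and let x be a p-element. Then some conjugate of x lies in D if and only if χ does not vanish on the whole p-section of x (the elements whose p-part is conjugate to x). -/
theorem result {G : Type*} [Group G] [Finite G] (p : ℕ) [Fact p.Prime] (M : Ideal Cfsg.AlgInt) (hM : Cfsg.IsPModular p M) (B : Set (Cfsg.IrrCharacter G)) (hB : Cfsg.IsPBlock M B) (D : Subgroup G) (hD : Cfsg.IsDefectGroup p M B D) (χ : Cfsg.IrrCharacter G) (hχ : χ ∈ B) (h0 : Cfsg.blockHeight p B (χ : G → ℂ) = 0) (x : G) (hx : ∃ k : ℕ, orderOf x = p ^ k) : (∃ g : G, g * x * g⁻¹ ∈ D) ↔ ∃ u : G, (∃ z : G, Cfsg.IsPPart p u z ∧ IsConj x z) ∧ (χ : G → ℂ) u ≠ 0 := by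
  haveI := hM.2.1
  have hp := (Fact.out : p.Prime)
  obtain ⟨k, hk⟩ := hx
  obtain ⟨y, hy, P, rfl⟩ := hD
  constructor
  · rintro ⟨g, hg⟩
    have hc : g * x * g⁻¹ ∈ Subgroup.centralizer ({y} : Set G) := Subgroup.map_subtype_le _ hg
    have hcy : Commute (g * x * g⁻¹) y := Subgroup.mem_centralizer_singleton_iff.1 hc
    have hord : orderOf (g * x * g⁻¹) = p ^ k := by
      rw [← hk]; exact MulEquiv.orderOf_eq (MulAut.conj g) x
    have hreg := CfsgLib.Blocks.IsDefectClass.regular hM hB hy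
    refine ⟨g * x * g⁻¹ * y, ⟨g * x * g⁻¹, CfsgLib.Blocks.isPPart_of_commute hcy hord hreg,
      isConj_iff.2 ⟨g, rfl⟩⟩, fun h0' => ?_⟩
    have h1 := CfsgLib.Blocks.not_memLocalIdeal_char_defectClass hM hB hχ h0 hy
    rw [← CfsgLib.Blocks.memLocalIdeal_char_mul_iff hp hM.2.2 χ hcy hord hreg, h0'] at h1
    exact h1 (CfsgLib.BlockReg.memIdeal_zero hM)
  · rintro ⟨u, ⟨z, hz, hxz⟩, hu⟩
    obtain ⟨g', hg', hcomm⟩ : ∃ g', IsConj y g' ∧ Commute g' z := by
      by_contra hcon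
      push Not at hcon
      exact hu (CfsgLib.Blocks.char_eq_zero_of_forall_not_commute hp hM.2.2 hB hχ hy hz hcon)
    obtain ⟨v, rfl⟩ := isConj_iff.1 hg'
    obtain ⟨a, rfl⟩ := isConj_iff.1 hxz
    have hcomm' : Commute y ((v⁻¹ * a) * x * (v⁻¹ * a)⁻¹) := by
      have h1 := hcomm.map (MulAut.conj v⁻¹)
      simp only [MulAut.conj_apply, inv_inv] at h1
      convert h1 using 1 <;> group
    have hord : orderOf ((v⁻¹ * a) * x * (v⁻¹ * a)⁻¹) = p ^ k := by
      rw [← hk]; exact MulEquiv.orderOf_eq (MulAut.conj (v⁻¹ * a)) x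
    obtain ⟨S, ⟨w, hwS, hw⟩⟩ := CfsgLib.Blocks.exists_mem_sylow_centralizer hord hcomm'
    obtain ⟨c, hc⟩ := MulAction.exists_smul_eq (Subgroup.centralizer ({y} : Set G)) S P
    refine ⟨(c : G) * (v⁻¹ * a), ⟨c * w * c⁻¹, ?_, ?_⟩⟩
    · rw [← hc]
      exact Subgroup.mem_map_of_mem (MulAut.conj c).toMonoidHom hwS
    · simp only [Subgroup.subtype_apply] at hw ⊢
      rw [Subgroup.coe_mul, Subgroup.coe_mul, hw, InvMemClass.coe_inv]
      group

end Cfsg.Agent.S0926
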