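import Cfsg.Statements.S0927
import Cfsg.Agent.Lib.Blocks.DefectCentre

set_option autoImplicit false
open Cfsg

namespace Cfsg.Agent.S0927

/-- Let B be a block of the finite group G relative to a maximal ideal M of the algebraic integers containing p, let y represent a defect class of B and let P be a Sylow p-subgroup of the centralizer of y. (a) If x ∈ P and χ ∈ B has height zero, then χ (x * y) is not in the local ideal at M. (b) If x lies in the centre of P, then for every χ ∈ B the central character of χ at x * y is not in the local ideal at M. -/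
theorem result {G : Type*} [Group G] [Finite G] (p : ℕ) [Fact p.Prime] (M : Ideal Cfsg.AlgInt) (hM : Cfsg.IsPModular p M) (B : Set (Cfsg.IrrCharacter G)) (hB : Cfsg.IsPBlock M B) (y : G) (hy : Cfsg.IsDefectClass M B y) (P : Sylow p (Subgroup.centralizer ({y} : Set G))) (x : Subgroup.centralizer ({y} : Set G)) (hx : x ∈ (P : Subgroup (Subgroup.centralizer ({y} : Set G)))) : (∀ χ ∈ B, Cfsg.blockHeight p B (χ : G → ℂ) = 0 → ¬ Cfsg.MemLocalIdeal M ((χ : G → ℂ) ((x : G) * y))) ∧ ((∀ w ∈ (P : Subgroup (Subgroup.centralizer ({y} : Set G))), x * w = w * x) → ∀ χ ∈ B, ¬ Cfsg.MemLocalIdeal M (Cfsg.centralChar (χ : G → ℂ) ((x : G) * y))) := by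
  open CfsgLib.Blocks in
  haveI := hM.2.1
  set D := (P : Subgroup (Subgroup.centralizer ({y} : Set G))).map
    (Subgroup.centralizer ({y} : Set G)).subtype with hDdef
  have hD : IsCentSylow p y D := ⟨P, rfl⟩
  have hxD : (x : G) ∈ D := ⟨x, hx, rfl⟩
  refine ⟨fun χ hχ h0 => ?_, fun hcen χ hχ => ?_⟩
  · obtain ⟨k, hk⟩ : ∃ k, orderOf (x : G) = p ^ k := by
      obtain ⟨l, hl⟩ := P.2 ⟨x, hx⟩
      have hl' : (x : G) ^ p ^ l = 1 := by simpa using congrArg (fun u => ((u : Subgroup.centralizer ({y} : Set G)) : G)) (congrArg Subtype.val hl)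
      obtain ⟨k, -, hk⟩ := (Nat.dvd_prime_pow Fact.out).1 (orderOf_dvd_of_pow_eq_one hl')
      exact ⟨k, hk⟩
    rw [memLocalIdeal_char_mul_iff hM.1 hM.2.2 χ
      (Subgroup.mem_centralizer_singleton_iff.1 x.2) hk (IsDefectClass.regular hM hB hy)]
    exact not_memLocalIdeal_char_defectClass hM hB hχ h0 hy
  · refine not_memLocalIdeal_centralChar_mul hM hB hy hD hxD ?_ hχ
    rintro _ ⟨w, hw, rfl⟩
    exact congrArg Subtype.val (hcen w hw)

end Cfsg.Agent.S0927
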