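import Cfsg.Statements.S0937
import Cfsg.Agent.Lib.Blocks.Restrict
import Cfsg.Agent.Lib.BlockReg.Height
import Cfsg.Agent.Lib.Char.Clifford

set_option autoImplicit false
set_option maxHeartbeats 1000000
set_option synthInstance.maxHeartbeats 400000
open Cfsg

namespace Cfsg.Agent.S0937

/-- Let H be a subgroup of the finite group G and fix a maximal ideal M of the algebraic integers containing the prime p. If the block b of H induces the block B of G and χ ∈ B has height zero, then there is ξ ∈ b of height zero whose multiplicity in the restriction of χ to H is a natural number not divisible by p. -/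
theorem result {G : Type*} [Group G] [Fintype G] (p : ℕ) [Fact p.Prime] (M : Ideal Cfsg.AlgInt) (hM : Cfsg.IsPModular p M) (H : Subgroup G) [Fintype H] (b : Set (Cfsg.IrrCharacter H)) (B : Set (Cfsg.IrrCharacter G)) (hind : Cfsg.IsInducedBlock M H b B) (χ : Cfsg.IrrCharacter G) (hχ : χ ∈ B) (h0 : Cfsg.blockHeight p B (χ : G → ℂ) = 0) : ∃ ξ ∈ b, Cfsg.blockHeight p b (ξ : H → ℂ) = 0 ∧ ∃ n : ℕ, Cfsg.classInner (fun h : H => (χ : G → ℂ) h) (ξ : H → ℂ) = (n : ℂ) ∧ ¬ p ∣ n := by
  classical
  haveI := hM.2.1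
  haveI : Fintype (ConjClasses G) := Fintype.ofFinite _
  obtain ⟨hb, hB, hcong⟩ := hind
  obtain ⟨η, hη⟩ := CfsgLib.BlockReg.block_nonempty hM hb
  obtain ⟨ψ, hψ⟩ := CfsgLib.BlockReg.block_nonempty hM hB
  set f : H → ℂ := fun h => (χ : G → ℂ) h with hf
  have hfc : IsCharacter H f :=
    CfsgLib.Clifford.isCharacter_res (CfsgLib.Char.IsIrrCharacter.isCharacter χ.2) H
  choose n hn using fun ξ : IrrCharacter H =>
    CfsgLib.Char.IsCharacter.exists_nat_classInner hfc ξ.2
  have hexp : ∀ h : H, f h = ∑ ξ : IrrCharacter H, (n ξ : ℂ) * (ξ : H → ℂ) h := by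
    intro h
    conv_lhs => rw [CfsgLib.Char.IsClassFunction.eq_sum_classInner
      (CfsgLib.Char.IsCharacter.isClassFunction hfc)]
    simp [Finset.sum_apply, hn]
  have hlin : CfsgLib.BlockReg.rInner p f (η : H → ℂ) =
      ∑ ξ : IrrCharacter H, (n ξ : ℂ) * CfsgLib.BlockReg.rInner p (ξ : H → ℂ) (η : H → ℂ) := by
    simp only [CfsgLib.BlockReg.rInner, classInner, mul_div_assoc', ← Finset.sum_div]
    congr 1
    rw [Finset.sum_congr rfl fun ξ _ => (mul_left_comm _ _ _), ← Finset.mul_sum,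
      Finset.sum_congr rfl fun ξ _ => Finset.mul_sum _ _ _, Finset.sum_comm]
    congr 1
    refine Finset.sum_congr rfl fun h _ => ?_
    simp only [CfsgLib.BlockReg.tilde, hexp h, ← mul_assoc, ← Finset.sum_mul]
    congr 1
    split_ifs with hp
    · simp
    · rw [Finset.mul_sum]
      exact Finset.sum_congr rfl fun ξ _ => mul_left_comm _ _ _
  have hu0 : CfsgLib.BlockReg.rInner p f (η : H → ℂ) = CfsgLib.BlockReg.pUnit p H *
      ∑ C : ConjClasses G, (if p ∣ orderOf C.out then 0 else
        (χ : G → ℂ) C.out * inducedCentralChar H (η : H → ℂ) C.out⁻¹) := by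
    rw [CfsgLib.BlockReg.rInner, classInner, CfsgLib.BlockReg.pUnit,
      ← Finset.sum_fiberwise Finset.univ (fun h : H => ConjClasses.mk (h : G)),
      mul_div_assoc, Finset.sum_div, Finset.mul_sum, Finset.mul_sum]
    refine Finset.sum_congr rfl fun C _ => ?_
    have hC : ∀ h : H, ConjClasses.mk (h : G) = C ↔ IsConj C.out (h : G) := by
      intro h
      conv_lhs => rw [← Quotient.out_eq C]
      exact ⟨fun e => (ConjClasses.mk_eq_mk_iff_isConj.1 e).symm,
        fun e => ConjClasses.mk_eq_mk_iff_isConj.2 e.symm⟩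
    have hord : ∀ h : H, IsConj C.out (h : G) → orderOf h = orderOf C.out := by
      intro h hh
      obtain ⟨c, hc⟩ := isConj_iff.1 hh
      rw [← Subgroup.orderOf_coe, ← hc]
      exact MulEquiv.orderOf_eq (MulAut.conj c) C.out
    have hval : ∀ h : H, IsConj C.out (h : G) → f h = (χ : G → ℂ) C.out := by
      intro h hh
      obtain ⟨c, hc⟩ := isConj_iff.1 hh
      show (χ : G → ℂ) h = _
      rw [← hc, CfsgLib.Char.IsIrrCharacter.isClassFunction χ.2]
    have hind' : inducedCentralChar H (η : H → ℂ) C.out⁻¹ =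
        ∑ h ∈ Finset.univ.filter (fun h : H => ConjClasses.mk (h : G) = C),
          (η : H → ℂ) h⁻¹ / (η : H → ℂ) 1 := by
      rw [inducedCentralChar, finsum_mem_eq_toFinset_sum]
      refine (Finset.sum_equiv (Equiv.inv H) (fun h => ?_) fun h _ => rfl).symm
      simp only [Finset.mem_filter, Finset.mem_univ, true_and, Set.mem_toFinset, Set.mem_setOf_eq,
        hC, Equiv.inv_apply, InvMemClass.coe_inv]
      constructor
      · intro hh
        obtain ⟨c, hc⟩ := isConj_iff.1 hh
        exact isConj_iff.2 ⟨c, by rw [← hc]; group⟩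
      · intro hh
        obtain ⟨c, hc⟩ := isConj_iff.1 hh
        exact isConj_iff.2 ⟨c, by rw [← inv_inj, ← hc]; group⟩
    by_cases hs : p ∣ orderOf C.out
    · rw [if_pos hs, mul_zero, Finset.sum_eq_zero fun h hh => ?_]
      · simp
      · have h' := (hC h).1 (Finset.mem_filter.1 hh).2
        simp [CfsgLib.BlockReg.tilde, hord h h', hs]
    · rw [if_neg hs, hind', Finset.mul_sum, Finset.mul_sum, Finset.sum_div, Finset.mul_sum]
      refine Finset.sum_congr rfl fun h hh => ?_
      have h' := (hC h).1 (Finset.mem_filter.1 hh).2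
      rw [CfsgLib.BlockReg.char_inv]
      simp only [CfsgLib.BlockReg.tilde, hord h h', hval h h', hs, if_false]
      ring
  have hmχ : (charDegree (χ : G → ℂ)).factorization p = CfsgLib.BlockReg.minExp p B := by
    have h1 := CfsgLib.BlockReg.minExp_le (p := p) hχ
    rw [CfsgLib.BlockReg.blockHeight_eq] at h0
    omega
  have hG := CfsgLib.BlockReg.rInner_not_memIdeal hM hB hχ hψ hmχ
  rw [CfsgLib.BlockReg.rInner_eq_sum] at hG
  have hunit : ¬ MemLocalIdeal M (CfsgLib.BlockReg.rInner p f (η : H → ℂ)) := by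
    rw [hu0]
    have hsum : ¬ MemLocalIdeal M (∑ C : ConjClasses G,
        CfsgLib.BlockReg.rTerm p (χ : G → ℂ) (ψ : G → ℂ) C.out) := fun h =>
      hG (CfsgLib.BlockReg.memIdeal_mul_left hM (CfsgLib.BlockReg.pUnit_spec hM).1 h)
    have hdiff : MemLocalIdeal M ((∑ C : ConjClasses G, (if p ∣ orderOf C.out then 0 else
        (χ : G → ℂ) C.out * inducedCentralChar H (η : H → ℂ) C.out⁻¹)) -
        ∑ C : ConjClasses G, CfsgLib.BlockReg.rTerm p (χ : G → ℂ) (ψ : G → ℂ) C.out) := by
      rw [← Finset.sum_sub_distrib]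
      refine CfsgLib.BlockReg.memIdeal_sum hM _ fun C _ => ?_
      unfold CfsgLib.BlockReg.rTerm
      split_ifs
      · rw [sub_self]; exact CfsgLib.BlockReg.memIdeal_zero hM
      · rw [← mul_sub]
        exact CfsgLib.BlockReg.memIdeal_mul_left hM (CfsgLib.BlockReg.memRing_char hM χ _)
          (hcong η hη ψ hψ _)
    have hmem : MemLocalRing M (∑ C : ConjClasses G, (if p ∣ orderOf C.out then 0 else
        (χ : G → ℂ) C.out * inducedCentralChar H (η : H → ℂ) C.out⁻¹)) := by
      refine CfsgLib.BlockReg.memRing_sum hM _ fun C _ => ?_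
      split_ifs
      · exact CfsgLib.BlockReg.memRing_zero hM
      · exact CfsgLib.BlockReg.memRing_mul hM (CfsgLib.BlockReg.memRing_char hM χ _)
          (CfsgLib.Blocks.inducedCentralChar_mem H η _)
    refine CfsgLib.BlockReg.not_memIdeal_mul hM (CfsgLib.BlockReg.pUnit_spec hM).1 hmem
      (CfsgLib.BlockReg.pUnit_spec hM).2 ?_
    rwa [CfsgLib.BlockReg.memIdeal_iff_of_sub hM hdiff]
  rw [hlin] at hunit
  by_contra hcon
  apply hunit
  refine CfsgLib.BlockReg.memIdeal_sum hM _ fun ξ _ => ?_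
  by_cases hξ : ξ ∈ b
  · by_cases hh : blockHeight p b (ξ : H → ℂ) = 0
    · refine CfsgLib.BlockReg.memIdeal_mul_right hM
        ((CfsgLib.BlockReg.memIdeal_natCast_iff hM _).2 ?_)
        (CfsgLib.BlockReg.rInner_memRing hM ξ η)
      by_contra hp
      exact hcon ⟨ξ, hξ, hh, n ξ, hn ξ, hp⟩
    · refine CfsgLib.BlockReg.memIdeal_mul_left hM (CfsgLib.BlockReg.memRing_natCast hM _)
        (CfsgLib.BlockReg.rInner_memIdeal hM hb hη ?_)
      rw [CfsgLib.BlockReg.blockHeight_eq] at hh
      omega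
  · have hz : CfsgLib.BlockReg.rInner p (ξ : H → ℂ) (η : H → ℂ) = 0 := by
      have h1 := CfsgLib.BlockReg.classInner_tilde_eq_zero hM hb hη (ψ := ξ) hξ
      have h2 := CfsgLib.BlockReg.classInner_tilde_conj p (η : H → ℂ) (ξ : H → ℂ)
      rw [h1, map_zero] at h2
      rw [CfsgLib.BlockReg.rInner, h2, zero_div]
    rw [hz, mul_zero]
    exact CfsgLib.BlockReg.memIdeal_zero hM

end Cfsg.Agent.S0937
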