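import Cfsg.Statements.S0938
import Cfsg.Agent.Lib.Blocks.Quotient

set_option autoImplicit false
set_option maxHeartbeats 1000000
open Cfsg

namespace Cfsg.Agent.S0938

/-- Let B be a block of the finite group G relative to a maximal ideal M of the algebraic integers containing the prime p, and let χ ∈ B. Then the kernel of B (the set of g with ψ g = ψ 1 for all ψ ∈ B) is a normal subgroup of order prime to p contained in the kernel of χ, and it contains every normal subgroup of order prime to p on which χ takes the value χ(1); that is, it is O_p' of the kernel of χ. -/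
theorem result {G : Type*} [Group G] [Finite G] (p : ℕ) [Fact p.Prime] (M : Ideal Cfsg.AlgInt) (hM : Cfsg.IsPModular p M) (B : Set (Cfsg.IrrCharacter G)) (hB : Cfsg.IsPBlock M B) (χ : Cfsg.IrrCharacter G) (hχ : χ ∈ B) : ∃ K : Subgroup G, K.Normal ∧ (K : Set G) = Cfsg.blockKer B ∧ ¬ p ∣ Nat.card K ∧ (∀ g ∈ K, (χ : G → ℂ) g = (χ : G → ℂ) 1) ∧ ∀ N : Subgroup G, N.Normal → ¬ p ∣ Nat.card N → (∀ g ∈ N, (χ : G → ℂ) g = (χ : G → ℂ) 1) → N ≤ K := by
  classical
  haveI := hM.2.1
  haveI := Fintype.ofFinite G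
  have hker : ∀ θ : IrrCharacter G, ∃ H : Subgroup G, H.Normal ∧
      ∀ g, g ∈ H ↔ (θ : G → ℂ) g = (θ : G → ℂ) 1 := by
    intro θ
    obtain ⟨n, ρ, -, hρ⟩ := θ.2
    refine ⟨MonoidHom.ker ρ, MonoidHom.normal_ker ρ, fun g => ?_⟩
    rw [MonoidHom.mem_ker, ← hρ, Representation.char_one, CfsgLib.Char.character_eq_degree_iff]
    rfl
  choose H hHn hH using hker
  have hK : ∀ g, g ∈ (⨅ θ ∈ B, H θ) ↔ g ∈ blockKer B := by
    intro g
    simp only [Subgroup.mem_iInf, hH]
    rfl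
  refine ⟨⨅ θ ∈ B, H θ, ?_, Set.ext hK, ?_, fun g hg => (hK g).1 hg χ hχ, ?_⟩
  · exact Subgroup.normal_iInf_normal fun θ => Subgroup.normal_iInf_normal fun _ => hHn θ
  · intro hdvd
    obtain ⟨u, hu⟩ := exists_prime_orderOf_dvd_card' p hdvd
    rw [← Subgroup.orderOf_coe] at hu
    have h0 := CfsgLib.BlockReg.blockCoeff_singular hM hB (u : G) (by rw [hu])
    rw [blockCoeff, mul_eq_zero, or_iff_right (inv_ne_zero (Nat.cast_ne_zero.2 Nat.card_pos.ne')),
      finsum_mem_eq_toFinset_sum] at h0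
    have hval : ∀ θ ∈ B.toFinset, (θ : G → ℂ) 1 * (starRingEnd ℂ) ((θ : G → ℂ) (u : G)) =
        ((charDegree (θ : G → ℂ) ^ 2 : ℕ) : ℂ) := by
      intro θ hθ
      rw [(hK u).1 u.2 θ (Set.mem_toFinset.1 hθ), ← CfsgLib.BlockReg.deg_cast]
      push_cast
      rw [map_natCast]
      ring
    rw [Finset.sum_congr rfl hval, ← Nat.cast_sum, Nat.cast_eq_zero, Finset.sum_eq_zero_iff] at h0
    exact pow_ne_zero 2 (CfsgLib.BlockReg.deg_pos χ).ne' (h0 χ (Set.mem_toFinset.2 hχ))
  · intro N hN hcard hχN g hg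
    haveI := hN
    refine (hK g).2 fun θ hθ => ?_
    exact CfsgLib.Blocks.trivialOn_of_sameBlock N hM hcard hχN
      (CfsgLib.BlockReg.block_congr hM hB hχ hθ) g hg

end Cfsg.Agent.S0938
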