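import Cfsg.Statements.S0954
import Cfsg.Agent.Lib.Blocks.Cover
import Cfsg.Agent.S0914

set_option autoImplicit false
set_option maxHeartbeats 1000000
open Cfsg

namespace Cfsg.Agent.S0954

/-- Let N be a normal subgroup of the finite group G of order prime to p and of p-power index (a normal p-complement), and fix a maximal ideal M of the algebraic integers containing p. Then two irreducible characters χ, ψ of G lie in the same block if and only if some irreducible character of N has nonzero inner product with both the restriction of χ and the restriction of ψ. -/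
theorem result {G : Type*} [Group G] [Fintype G] (p : ℕ) [Fact p.Prime] (M : Ideal Cfsg.AlgInt) (hM : Cfsg.IsPModular p M) (N : Subgroup G) [N.Normal] [Fintype N] (hN : ¬ p ∣ Nat.card N) (hidx : ∃ k : ℕ, N.index = p ^ k) (χ ψ : Cfsg.IrrCharacter G) : Cfsg.SameBlock M (χ : G → ℂ) (ψ : G → ℂ) ↔ ∃ θ : Cfsg.IrrCharacter N, Cfsg.classInner (fun n : N => (χ : G → ℂ) n) (θ : N → ℂ) ≠ 0 ∧ Cfsg.classInner (fun n : N => (ψ : G → ℂ) n) (θ : N → ℂ) ≠ 0 := by
  classical
  haveI := hM.2.1
  obtain ⟨k, hk⟩ := hidx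
  constructor
  · intro h
    obtain ⟨θ₀, hθ₀, hc⟩ := CfsgLib.Clifford.exists_constituent_res N χ.2
    obtain ⟨ψ₀, hψ₀, hc'⟩ := CfsgLib.Clifford.exists_constituent_res N ψ.2
    set θ : IrrCharacter N := ⟨θ₀, hθ₀⟩
    have hsing : blockOf M (θ : N → ℂ) = {θ} := by
      refine (Cfsg.Agent.S0914.result p M hM θ).1 fun hdvd => hN (hdvd.trans ?_)
      obtain ⟨m, hm⟩ := CfsgLib.BlockReg.deg_dvd_card θ
      exact Nat.div_dvd_of_dvd ⟨m, hm⟩
    have hmem := CfsgLib.Blocks.constituent_mem_conjClosure (M := M) N (θ := θ) (ψ := ⟨ψ₀, hψ₀⟩)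
      (CfsgLib.Blocks.isPBlock_blockOf (M := M) θ) h (CfsgLib.Blocks.mem_blockOf_self θ) hc hc'
    obtain ⟨g, hg⟩ := hmem
    rw [hsing, Set.mem_singleton_iff] at hg
    refine ⟨θ, hc, ?_⟩
    rw [← hg, CfsgLib.Blocks.coe_conjIrr,
      CfsgLib.Clifford.classInner_res_conjFun N (CfsgLib.Char.IsIrrCharacter.isClassFunction ψ.2)]
    exact hc'
  · rintro ⟨θ, hc, hc'⟩
    exact CfsgLib.Blocks.sameBlock_of_constituent_sameBlock N hM
      (CfsgLib.Blocks.mem_of_regular_of_index N hM.1 hk)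
      (CfsgLib.Blocks.sameBlock_refl θ) hc hc'

end Cfsg.Agent.S0954
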