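import Cfsg.Statements.S0939
import Cfsg.Agent.S0954
import Cfsg.Agent.Lib.Solvable.Core

set_option autoImplicit false
set_option maxHeartbeats 1000000
open Cfsg

namespace Cfsg.Agent.S0939

/-- Let G be a finite group with a normal p-complement (the largest normal subgroup O_p'(G) of order prime to p has p-power index). Then, relative to any maximal ideal M of the algebraic integers containing p, the principal block of G is the set of irreducible characters χ with χ n = χ 1 for every n ∈ O_p'(G). -/
theorem result {G : Type*} [Group G] [Finite G] (p : ℕ) [Fact p.Prime] (M : Ideal Cfsg.AlgInt) (hM : Cfsg.IsPModular p M) (hnc : ∃ k : ℕ, (Cfsg.pPrimeCore p G).index = p ^ k) : Cfsg.principalBlock M G = {χ : Cfsg.IrrCharacter G | ∀ n ∈ Cfsg.pPrimeCore p G, (χ : G → ℂ) n = (χ : G → ℂ) 1} := by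
  classical
  haveI := Fintype.ofFinite G
  haveI := CfsgLib.Solvable.pPrimeCore_normal p G
  haveI := hM.2.1
  set N := pPrimeCore p G with hNdef
  haveI := Fintype.ofFinite N
  have hN : ¬ p ∣ Nat.card N := fun h => by
    have h1 := Nat.dvd_gcd h (dvd_refl p)
    rw [Nat.Coprime.gcd_eq_one (CfsgLib.Solvable.pPrimeCore_card_coprime p G)] at h1
    exact hM.1.ne_one (Nat.dvd_one.1 h1)
  have hiff : ∀ χ : IrrCharacter G,
      classInner (fun n : N => (χ : G → ℂ) n) (fun _ : N => (1 : ℂ)) ≠ 0 ↔
        ∀ n ∈ N, (χ : G → ℂ) n = (χ : G → ℂ) 1 := by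
    intro χ
    constructor
    · intro hc n hn
      have h := CfsgLib.Clifford.res_eq N χ.2 (θ := fun _ : N => (1 : ℂ))
        CfsgLib.Char.principalIrr.2 hc
      have horb : ∀ ψ ∈ CfsgLib.Clifford.orbit N (fun _ : N => (1 : ℂ)), ψ = fun _ => 1 := by
        intro ψ hψ
        obtain ⟨g, rfl⟩ := (CfsgLib.Clifford.mem_orbit N).1 hψ
        rfl
      rw [Finset.sum_congr rfl horb] at h
      have h1 := congrFun h ⟨n, hn⟩
      have h2 := congrFun h 1
      simp only [OneMemClass.coe_one, Pi.smul_apply, Finset.sum_apply] at h1 h2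
      rw [h1, h2]
    · intro h
      have e : (fun n : N => (χ : G → ℂ) n) = ((χ : G → ℂ) 1) • (fun _ : N => (1 : ℂ)) := by
        funext n
        simp [h n n.2]
      rw [e, CfsgLib.Char.classInner_smul_left]
      refine mul_ne_zero (CfsgLib.Char.IsIrrCharacter.apply_one_ne_zero χ.2) ?_
      simp [classInner, Nat.card_eq_fintype_card]
  ext χ
  show SameBlock M ((CfsgLib.Char.principalIrr : IrrCharacter G) : G → ℂ) (χ : G → ℂ) ↔ _
  rw [Cfsg.Agent.S0954.result p M hM N hN hnc, Set.mem_setOf_eq, ← hiff]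
  constructor
  · rintro ⟨θ, h1, h2⟩
    have e : (θ : N → ℂ) = fun _ => 1 := by
      by_contra hne
      refine h1 ?_
      exact CfsgLib.Char.classInner_irr_of_ne CfsgLib.Char.principalIrr.2 θ.2 (Ne.symm hne)
    rwa [e] at h2
  · intro h
    exact ⟨CfsgLib.Char.principalIrr, by simp [classInner, Nat.card_eq_fintype_card, CfsgLib.Char.principalIrr], h⟩

end Cfsg.Agent.S0939
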