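import Cfsg.Statements.S0946
import Cfsg.Agent.Lib.Blocks.Homocyclic
import Mathlib.GroupTheory.Transfer

set_option autoImplicit false
open Cfsg

namespace Cfsg.Agent.S0946

/-- Let P be a Sylow 2-subgroup of the finite group G isomorphic to Z/2^m × Z/2^m with m ≥ 1. Then either P has a normal complement in G, or all involutions of G are conjugate. -/
theorem result {G : Type*} [Group G] [Finite G] (P : Sylow 2 G) (m : ℕ) (hm : 1 ≤ m) (e : (P : Subgroup G) ≃* Multiplicative (ZMod (2 ^ m) × ZMod (2 ^ m))) : (∃ N : Subgroup G, N.Normal ∧ Subgroup.IsComplement' N (P : Subgroup G)) ∨ ∀ s t : G, orderOf s = 2 → orderOf t = 2 → IsConj s t := by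
  obtain ⟨k, rfl⟩ : ∃ k, m = k + 1 := ⟨m - 1, by omega⟩
  obtain ⟨-, h2⟩ := CfsgLib.Blocks.Homocyclic.automizer_facts P k e
  by_cases h1 : (Subgroup.centralizer ((P : Subgroup G) : Set G)).relIndex
      (Subgroup.normalizer ((P : Subgroup G) : Set G)) = 1
  · left
    have hle : Subgroup.normalizer ((P : Subgroup G) : Set G) ≤
        Subgroup.centralizer ((P : Subgroup G) : Set G) := Subgroup.relIndex_eq_one.1 h1
    exact ⟨(MonoidHom.transferSylow P hle).ker, inferInstance,
      MonoidHom.ker_transferSylow_isComplement' P hle⟩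
  · right
    intro s t hs ht
    have key : ∀ s : G, orderOf s = 2 → ∃ s', s' ∈ (P : Subgroup G) ∧ orderOf s' = 2 ∧ IsConj s s' := by
      intro s hs
      obtain ⟨Q, hQ⟩ := (IsPGroup.of_card (p := 2) (n := 1)
        (show Nat.card (Subgroup.zpowers s) = 2 ^ 1 by rw [Nat.card_zpowers, hs, pow_one])).exists_le_sylow
      obtain ⟨g, hg⟩ := MulAction.exists_smul_eq G Q P
      refine ⟨g * s * g⁻¹, ?_, ?_, isConj_iff.2 ⟨g, rfl⟩⟩
      · rw [← hg]
        exact ⟨s, hQ (Subgroup.mem_zpowers s), rfl⟩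
      · rw [← hs]; exact (MulAut.conj g).orderOf_eq s
    obtain ⟨s', hsP, hs2, hss⟩ := key s hs
    obtain ⟨t', htP, ht2, htt⟩ := key t ht
    obtain ⟨n, hn⟩ := (h2 h1).2 ⟨s', hsP, hs2⟩ ⟨t', htP, ht2⟩
    refine hss.trans (IsConj.trans (isConj_iff.2 ⟨n, ?_⟩) htt.symm)
    exact congrArg Subtype.val hn

end Cfsg.Agent.S0946
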