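import Cfsg.Statements.S0947
import Cfsg.Agent.Lib.Invol.BlockColumns

set_option autoImplicit false
open Cfsg

namespace Cfsg.Agent.S0947

/-- Let z ≠ 1 be a p-element of the finite group G with centralizer H, and fix a maximal ideal M of the algebraic integers containing p. (i) For every y ∈ H of order prime to p, the sum over ζ in the principal block of G of |ζ (z * y)|² equals the sum over χ in the principal block of H of |χ y|². (ii) If moreover H has a normal p-complement (its largest normal subgroup of order prime to p has p-power index), that common value is the largest power of p dividing the order of H. -/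
theorem result {G : Type*} [Group G] [Finite G] (p : ℕ) [Fact p.Prime] (M : Ideal Cfsg.AlgInt) (hM : Cfsg.IsPModular p M) (z : G) (hz : ∃ k : ℕ, orderOf z = p ^ k) (hz1 : z ≠ 1) (y : Subgroup.centralizer ({z} : Set G)) (hy : ¬ p ∣ orderOf y) : (∑ᶠ ζ ∈ Cfsg.principalBlock M G, ‖(ζ : G → ℂ) (z * (y : G))‖ ^ 2 = ∑ᶠ χ ∈ Cfsg.principalBlock M (Subgroup.centralizer ({z} : Set G)), ‖(χ : Subgroup.centralizer ({z} : Set G) → ℂ) y‖ ^ 2) ∧ ((∃ k : ℕ, (Cfsg.pPrimeCore p (Subgroup.centralizer ({z} : Set G))).index = p ^ k) → ∑ᶠ ζ ∈ Cfsg.principalBlock M G, ‖(ζ : G → ℂ) (z * (y : G))‖ ^ 2 = ((p ^ (Nat.card (Subgroup.centralizer ({z} : Set G))).factorization p : ℕ) : ℝ)) := by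
  classical
  have hp : p.Prime := Fact.out
  have hnorm : ∀ w : ℂ, ((‖w‖ ^ 2 : ℝ) : ℂ) = w * starRingEnd ℂ w := fun w => by
    rw [Complex.mul_conj']; push_cast; rfl
  have h1 : ∑ᶠ ζ ∈ Cfsg.principalBlock M G, ‖(ζ : G → ℂ) (z * (y : G))‖ ^ 2 =
      ∑ᶠ χ ∈ Cfsg.principalBlock M (Subgroup.centralizer ({z} : Set G)),
        ‖(χ : Subgroup.centralizer ({z} : Set G) → ℂ) y‖ ^ 2 := by
    rw [CfsgLib.Invol.BlockCol.finsum_principal, CfsgLib.Invol.BlockCol.finsum_principal]
    apply Complex.ofReal_injective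
    rw [Complex.ofReal_sum, Complex.ofReal_sum]
    simp only [hnorm]
    exact CfsgLib.Invol.BlockCol.sum_section hM hz y y hy hy
  refine ⟨h1, fun ⟨k, hk⟩ => ?_⟩
  set K := Cfsg.pPrimeCore p (Subgroup.centralizer ({z} : Set G))
  have hKn : K.Normal := CfsgLib.Solvable.pPrimeCore_normal p _
  have hK : ¬ p ∣ Nat.card K :=
    hp.coprime_iff_not_dvd.1 (CfsgLib.Solvable.pPrimeCore_card_coprime p _).symm
  have hfac : (Nat.card (Subgroup.centralizer ({z} : Set G))).factorization p = k := by
    rw [← K.card_mul_index, hk, Nat.factorization_mul Nat.card_pos.ne' (pow_ne_zero _ hp.ne_zero),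
      Finsupp.add_apply, Nat.factorization_eq_zero_of_not_dvd hK, hp.factorization_pow,
      Finsupp.single_eq_same, zero_add]
  rw [hfac, ← hk, CfsgLib.Invol.BlockCol.finsum_principal]
  apply Complex.ofReal_injective
  rw [Complex.ofReal_sum]
  simp only [hnorm, Complex.ofReal_natCast]
  rw [← CfsgLib.Invol.BlockCol.sum_sq_of_complement hM hz K hK hk]
  have hy' : y ∈ K := (CfsgLib.Invol.BlockCol.regular_iff_mem K hK hk y).1 hy
  refine Finset.sum_congr rfl fun χ hχ => ?_
  rw [CfsgLib.Invol.BlockCol.apply_mul_complement hM hz K hK hχ hy']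

end Cfsg.Agent.S0947
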