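import Cfsg.Statements.S0952
import Cfsg.Agent.Lib.BlockReg.Height

set_option autoImplicit false
open scoped ComplexConjugate
open Cfsg

namespace Cfsg.Agent.S0952

/-- Let χ and ψ be irreducible characters of the finite group G lying in different blocks relative to a maximal ideal M of the algebraic integers containing the prime p. Then the sum of χ x * conj (ψ x) over the elements x of order prime to p is zero. -/
theorem result {G : Type*} [Group G] [Finite G] (p : ℕ) [Fact p.Prime] (M : Ideal Cfsg.AlgInt) (hM : Cfsg.IsPModular p M) (χ ψ : Cfsg.IrrCharacter G) (h : ¬ Cfsg.SameBlock M (χ : G → ℂ) (ψ : G → ℂ)) : ∑ᶠ x ∈ {x : G | ¬ p ∣ orderOf x}, (χ : G → ℂ) x * conj ((ψ : G → ℂ) x) = 0 := by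
  classical
  haveI := Fintype.ofFinite G
  have h0 := CfsgLib.BlockReg.classInner_tilde_eq_zero hM
    (CfsgLib.BlockReg.isPBlock_blockOf (M := M) χ) (CfsgLib.BlockReg.sameBlock_refl hM _) (ψ := ψ) h
  simp only [classInner, CfsgLib.BlockReg.tilde] at h0
  have hp : ((p ^ (Nat.card G).factorization p : ℕ) : ℂ) ≠ 0 :=
    Nat.cast_ne_zero.2 (pow_ne_zero _ hM.1.ne_zero)
  have hG : (Nat.card G : ℂ) ≠ 0 := Nat.cast_ne_zero.2 Nat.card_pos.ne'
  rw [finsum_mem_eq_toFinset_sum, Set.toFinset_setOf, Finset.sum_filter]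
  rw [mul_eq_zero, or_iff_right (inv_ne_zero hG)] at h0
  refine (mul_eq_zero.1 (Eq.trans ?_ h0)).resolve_left hp
  rw [Finset.mul_sum]
  refine Finset.sum_congr rfl fun x _ => ?_
  split_ifs <;> ring

end Cfsg.Agent.S0952
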