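import Cfsg.Statements.S0957
import Cfsg.Agent.Lib.Blocks.CentSylow
import Mathlib.GroupTheory.GroupAction.ConjAct
import Mathlib.GroupTheory.GroupAction.Quotient

set_option autoImplicit false
open Cfsg

namespace Cfsg.Agent.S0957

/-- Let P be a Sylow p-subgroup of the finite group G, let g, h ∈ G and let p ^ d be the order of a Sylow p-subgroup of the centralizer of g. Then the number of pairs (y, z) with y conjugate to g, z conjugate to h and z * y⁻¹ ∈ P is divisible by the order of P divided by p ^ d. -/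
theorem result {G : Type*} [Group G] [Finite G] (p : ℕ) [Fact p.Prime] (P : Sylow p G) (g h : G) (S : Sylow p (Subgroup.centralizer ({g} : Set G))) : Nat.card P / Nat.card S ∣ Nat.card {yz : G × G // IsConj g yz.1 ∧ IsConj h yz.2 ∧ yz.2 * yz.1⁻¹ ∈ (P : Subgroup G)} := by
  open CfsgLib.Blocks in
  classical
  let α := {yz : G × G // IsConj g yz.1 ∧ IsConj h yz.2 ∧ yz.2 * yz.1⁻¹ ∈ (P : Subgroup G)}
  letI : MulAction (P : Subgroup G) α :=
    { smul := fun u z => ⟨((u : G) * z.1.1 * (u : G)⁻¹, (u : G) * z.1.2 * (u : G)⁻¹),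
        z.2.1.trans (isConj_iff.2 ⟨u, rfl⟩), z.2.2.1.trans (isConj_iff.2 ⟨u, rfl⟩), by
          have e : (u : G) * z.1.2 * (u : G)⁻¹ * ((u : G) * z.1.1 * (u : G)⁻¹)⁻¹
              = (u : G) * (z.1.2 * z.1.1⁻¹) * (u : G)⁻¹ := by group
          rw [e]
          exact mul_mem (mul_mem u.2 z.2.2.2) (inv_mem u.2)⟩
      one_smul := fun z => Subtype.ext (Prod.ext
        (show ((1 : (P : Subgroup G)) : G) * z.1.1 * ((1 : (P : Subgroup G)) : G)⁻¹ = z.1.1 by simp)
        (show ((1 : (P : Subgroup G)) : G) * z.1.2 * ((1 : (P : Subgroup G)) : G)⁻¹ = z.1.2 by simp))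
      mul_smul := fun u v z => Subtype.ext (Prod.ext
        (show ((u * v : (P : Subgroup G)) : G) * z.1.1 * ((u * v : (P : Subgroup G)) : G)⁻¹
            = (u : G) * ((v : G) * z.1.1 * (v : G)⁻¹) * (u : G)⁻¹ by simp [mul_assoc])
        (show ((u * v : (P : Subgroup G)) : G) * z.1.2 * ((u * v : (P : Subgroup G)) : G)⁻¹
            = (u : G) * ((v : G) * z.1.2 * (v : G)⁻¹) * (u : G)⁻¹ by simp [mul_assoc])) }
  show _ ∣ Nat.card α
  haveI := Fintype.ofFinite (MulAction.orbitRel.Quotient (P : Subgroup G) α)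
  rw [Nat.card_congr (MulAction.selfEquivSigmaOrbits (P : Subgroup G) α), Nat.card_sigma]
  refine Finset.dvd_sum fun o _ => ?_
  generalize o.out = z
  rw [Nat.card_congr (MulAction.orbitEquivQuotientStabilizer (P : Subgroup G) z)]
  show _ ∣ (MulAction.stabilizer (P : Subgroup G) z).index
  have hstab : (MulAction.stabilizer (P : Subgroup G) z).map (P : Subgroup G).subtype
      ≤ Subgroup.centralizer ({z.1.1} : Set G) := by
    rintro _ ⟨u, hu, rfl⟩
    have h1 : (u : G) * z.1.1 * (u : G)⁻¹ = z.1.1 :=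
      congrArg (fun w : α => w.1.1) (MulAction.mem_stabilizer_iff.1 hu)
    rw [Subgroup.mem_centralizer_singleton_iff]
    calc (u : G) * z.1.1 = (u : G) * z.1.1 * (u : G)⁻¹ * u := by group
      _ = z.1.1 * u := by rw [h1]
  obtain ⟨D, hD, hle⟩ := exists_centSylow_ge (P.2.to_subgroup _ |>.map _) hstab
  have hcard : Nat.card (MulAction.stabilizer (P : Subgroup G) z) ∣ Nat.card S := by
    have h1 := Subgroup.card_dvd_of_le hle
    rw [Subgroup.card_map_of_injective (Subgroup.subtype_injective _), hD.card,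
      ← card_centralizer_eq_of_isConj z.2.1] at h1
    rwa [S.card_eq_multiplicity]
  have hpow : Nat.card S ≠ 0 := Nat.card_pos.ne'
  obtain ⟨k, hk⟩ := hcard
  have hPc : Nat.card (P : Subgroup G) = Nat.card (MulAction.stabilizer (P : Subgroup G) z) *
      (MulAction.stabilizer (P : Subgroup G) z).index := (Subgroup.card_mul_index _).symm
  have hSdvd : Nat.card S ∣ Nat.card (P : Subgroup G) := by
    rw [P.card_eq_multiplicity, S.card_eq_multiplicity]
    exact Nat.pow_dvd_pow p ((Nat.factorization_le_iff_dvd Nat.card_pos.ne' Nat.card_pos.ne').2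
      (Subgroup.card_subgroup_dvd_card _) p)
  obtain ⟨m, hm⟩ := hSdvd
  show Nat.card (P : Subgroup G) / Nat.card S ∣ _
  rw [hm, Nat.mul_div_cancel_left _ Nat.card_pos]
  refine ⟨k, ?_⟩
  rw [hm, hk] at hPc
  apply Nat.eq_of_mul_eq_mul_left (Nat.card_pos (α := MulAction.stabilizer (P : Subgroup G) z))
  rw [← hPc]; ring

end Cfsg.Agent.S0957
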