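import Cfsg.Statements.S0966
import Cfsg.Agent.Lib.Blocks.Cover

set_option autoImplicit false
set_option maxHeartbeats 1000000
open Cfsg

namespace Cfsg.Agent.S0966

/-- Let N be a normal subgroup of p-power index in the finite group G and b a block of N relative to a maximal ideal M of the algebraic integers containing p. Then there is exactly one block B of G containing a character whose restriction to N has a constituent in b. -/
theorem result {G : Type*} [Group G] [Fintype G] (p : ℕ) [Fact p.Prime] (M : Ideal Cfsg.AlgInt) (hM : Cfsg.IsPModular p M) (N : Subgroup G) [N.Normal] [Fintype N] (hidx : ∃ k : ℕ, N.index = p ^ k) (b : Set (Cfsg.IrrCharacter N)) (hb : Cfsg.IsPBlock M b) : ∃! B : Set (Cfsg.IrrCharacter G), Cfsg.IsPBlock M B ∧ ∃ χ ∈ B, ∃ θ ∈ b, Cfsg.classInner (fun n : N => (χ : G → ℂ) n) (θ : N → ℂ) ≠ 0 := by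
  classical
  haveI := hM.2.1
  obtain ⟨θ, hθ⟩ := CfsgLib.BlockReg.block_nonempty hM hb
  obtain ⟨k, hk⟩ := hidx
  have hind : IsCharacter G (indFun N (θ : N → ℂ)) :=
    CfsgLib.Char.IsCharacter.indFun N (CfsgLib.Char.IsIrrCharacter.isCharacter θ.2)
  obtain ⟨χf, hχf, hc⟩ := CfsgLib.Clifford.exists_constituent hind (by
    rw [CfsgLib.Char.indFun_apply_one]
    exact mul_ne_zero (Nat.cast_ne_zero.2 Subgroup.index_ne_zero_of_finite)
      (CfsgLib.Char.IsIrrCharacter.apply_one_ne_zero θ.2))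
  rw [CfsgLib.Char.classInner_indFun N _ _ (CfsgLib.Char.IsIrrCharacter.isClassFunction hχf),
    ← CfsgLib.Char.classInner_conj_symm] at hc
  have hc' : classInner (fun n : N => χf n) (θ : N → ℂ) ≠ 0 :=
    fun h => hc (by rw [h, map_zero])
  refine ⟨blockOf M χf, ⟨⟨⟨χf, hχf⟩, rfl⟩, ⟨χf, hχf⟩, CfsgLib.BlockReg.sameBlock_refl hM _,
    θ, hθ, hc'⟩, ?_⟩
  rintro B' ⟨hB', χ', hχ', θ', hθ', hc''⟩
  rw [CfsgLib.BlockReg.block_eq_blockOf hM hB' hχ']
  show blockOf M (χ' : G → ℂ) = blockOf M ((⟨χf, hχf⟩ : IrrCharacter G) : G → ℂ)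
  rw [CfsgLib.Blocks.blockOf_eq_iff, ← CfsgLib.Blocks.sameBlock_iff_lam]
  exact CfsgLib.Blocks.sameBlock_of_constituent_sameBlock (χ' := ⟨χf, hχf⟩) N hM
    (CfsgLib.Blocks.mem_of_regular_of_index N hM.1 hk)
    (CfsgLib.BlockReg.block_congr hM hb hθ' hθ) hc'' hc'

end Cfsg.Agent.S0966
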