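import Cfsg.Statements.S0969
import Cfsg.Agent.Lib.Blocks.CentralDefect

set_option autoImplicit false
set_option maxHeartbeats 1000000
open Cfsg

namespace Cfsg.Agent.S0969

/-- Let D be a central p-subgroup of the finite group G and χ an irreducible character with the exponent of p in χ(1) equal to the exponent of p in the index of D; fix a maximal ideal M of the algebraic integers containing p. Then D is a defect group of the block of χ, and χ g = 0 whenever the p-part of g does not lie in D. -/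
theorem result {G : Type*} [Group G] [Finite G] (p : ℕ) [Fact p.Prime] (M : Ideal Cfsg.AlgInt) (hM : Cfsg.IsPModular p M) (D : Subgroup G) (hD : IsPGroup p D) (hDZ : D ≤ Subgroup.center G) (χ : Cfsg.IrrCharacter G) (hdeg : (Cfsg.charDegree (χ : G → ℂ)).factorization p = D.index.factorization p) : Cfsg.IsDefectGroup p M (Cfsg.blockOf M (χ : G → ℂ)) D ∧ ∀ g x : G, Cfsg.IsPPart p g x → x ∉ D → (χ : G → ℂ) g = 0 := by
  classical
  haveI := hM.2.1
  haveI := Fintype.ofFinite G
  refine ⟨CfsgLib.Blocks.isDefectGroup_central hDZ χ hM hD hdeg, fun g x hgx hxD => ?_⟩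
  refine (CfsgLib.Blocks.central_defect_sums hDZ χ hM hD hdeg).1 g fun y z hy hz hyz => ?_
  obtain ⟨y₀, hxy, hcomm, ⟨k, hk⟩, hy₀⟩ := hgx
  obtain ⟨j, hj⟩ := hD ⟨z, hz⟩
  have hzpow : z ^ p ^ j = 1 := congrArg Subtype.val hj
  have hcz : ∀ a : G, a * z⁻¹ = z⁻¹ * a := fun a =>
    Subgroup.mem_center_iff.1 (hDZ (inv_mem hz)) a
  have hcu : Commute y₀ (x * z⁻¹) := Commute.mul_right hcomm.symm (hcz y₀)
  have hy_eq : y₀ * (x * z⁻¹) = y := by
    rw [← mul_assoc, ← hcomm.eq, hxy, ← hyz, mul_inv_cancel_right]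
  have hu : (x * z⁻¹) ^ p ^ (k + j) = 1 := by
    rw [Commute.mul_pow (hcz x), pow_add, pow_mul, ← hk, pow_orderOf_eq_one, one_pow, one_mul,
      inv_pow, mul_comm, pow_mul, hzpow, one_pow, inv_one]
  have h1 := CfsgLib.BlockReg.eq_one_of_regular_mul (p := p) hcu hy₀ hu (by rwa [hy_eq])
  exact hxD (by rwa [mul_inv_eq_one.1 h1])

end Cfsg.Agent.S0969
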