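import Cfsg.Statements.S0971
import Cfsg.Agent.Lib.Blocks.CoverInduced

set_option autoImplicit false
set_option maxHeartbeats 1000000
set_option synthInstance.maxHeartbeats 400000
open Cfsg

namespace Cfsg.Agent.S0971

/-- Let Q be a normal p-subgroup of the finite group G, let N = Q ⊔ C_G(Q) (a normal subgroup) and let b be a block of N relative to a maximal ideal M of the algebraic integers containing p. Then b induces some block of G, and every block B of G containing a character whose restriction to N has a constituent in b is induced by b. -/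
theorem result {G : Type*} [Group G] [Fintype G] (p : ℕ) [Fact p.Prime] (M : Ideal Cfsg.AlgInt) (hM : Cfsg.IsPModular p M) (Q : Subgroup G) [Q.Normal] (hQ : IsPGroup p Q) [Fintype ↥(Q ⊔ Subgroup.centralizer (Q : Set G))] (b : Set (Cfsg.IrrCharacter ↥(Q ⊔ Subgroup.centralizer (Q : Set G)))) (hb : Cfsg.IsPBlock M b) : Cfsg.InducedBlockDefined M (Q ⊔ Subgroup.centralizer (Q : Set G)) b ∧ ∀ B : Set (Cfsg.IrrCharacter G), Cfsg.IsPBlock M B → (∃ χ ∈ B, ∃ θ ∈ b, Cfsg.classInner (fun n : ↥(Q ⊔ Subgroup.centralizer (Q : Set G)) => (χ : G → ℂ) n) (θ : ↥(Q ⊔ Subgroup.centralizer (Q : Set G)) → ℂ) ≠ 0) → Cfsg.IsInducedBlock M (Q ⊔ Subgroup.centralizer (Q : Set G)) b B := by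
  classical
  haveI := hM.2.1
  haveI : (Subgroup.centralizer (Q : Set G)).Normal := Subgroup.normal_centralizer
  have hCN : Subgroup.centralizer (Q : Set G) ≤ Q ⊔ Subgroup.centralizer (Q : Set G) := le_sup_right
  have key : ∀ (χ : IrrCharacter G) (θ : IrrCharacter ↥(Q ⊔ Subgroup.centralizer (Q : Set G))),
      θ ∈ b → classInner (fun n : ↥(Q ⊔ Subgroup.centralizer (Q : Set G)) => (χ : G → ℂ) n)
        (θ : ↥(Q ⊔ Subgroup.centralizer (Q : Set G)) → ℂ) ≠ 0 →
      IsInducedBlock M (Q ⊔ Subgroup.centralizer (Q : Set G)) b (blockOf M (χ : G → ℂ)) := by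
    intro χ θ hθ hc
    have h := CfsgLib.Blocks.isInducedBlock_of_covers (M := M) _ hM hQ hCN hc
    rwa [← CfsgLib.Blocks.IsPBlock.eq_blockOf hb hθ] at h
  refine ⟨?_, fun B hB ⟨χ, hχ, θ, hθ, hc⟩ => ?_⟩
  · obtain ⟨θ, hθ⟩ := CfsgLib.Blocks.IsPBlock.nonempty hb
    obtain ⟨χ, hc⟩ := CfsgLib.Blocks.exists_over_constituent
      (Q ⊔ Subgroup.centralizer (Q : Set G)) θ
    exact ⟨_, key χ θ hθ hc⟩
  · rw [CfsgLib.Blocks.IsPBlock.eq_blockOf hB hχ]
    exact key χ θ hθ hc

end Cfsg.Agent.S0971
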