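import Cfsg.Statements.S0973
import Cfsg.Agent.Lib.Blocks.CoverInduced

set_option autoImplicit false
set_option maxHeartbeats 1000000
set_option synthInstance.maxHeartbeats 400000
open Cfsg

namespace Cfsg.Agent.S0973

/-- Let B be a block of the finite group G with defect group P (relative to a maximal ideal M of the algebraic integers containing p), and let L = P ⊔ C_G(P). Then (i) some block b of L with defect group P (viewed in L) induces B, and (ii) if b and b' are blocks of L both inducing B, there is n ∈ N_G(P) carrying b to b': for every θ ∈ b there is θ' ∈ b' with θ' x = θ (n x n⁻¹) for all x ∈ L. -/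
theorem result {G : Type*} [Group G] [Finite G] (p : ℕ) [Fact p.Prime] (M : Ideal Cfsg.AlgInt) (hM : Cfsg.IsPModular p M) (B : Set (Cfsg.IrrCharacter G)) (hB : Cfsg.IsPBlock M B) (P : Subgroup G) (hP : Cfsg.IsDefectGroup p M B P) : (∃ b : Set (Cfsg.IrrCharacter ↥(P ⊔ Subgroup.centralizer (P : Set G))), Cfsg.IsDefectGroup p M b (P.subgroupOf (P ⊔ Subgroup.centralizer (P : Set G))) ∧ Cfsg.IsInducedBlock M (P ⊔ Subgroup.centralizer (P : Set G)) b B) ∧ ∀ b b' : Set (Cfsg.IrrCharacter ↥(P ⊔ Subgroup.centralizer (P : Set G))), Cfsg.IsInducedBlock M (P ⊔ Subgroup.centralizer (P : Set G)) b B → Cfsg.IsInducedBlock M (P ⊔ Subgroup.centralizer (P : Set G)) b' B → ∃ n ∈ Subgroup.normalizer (P : Set G), ∀ θ ∈ b, ∃ θ' ∈ b', ∀ x : ↥(P ⊔ Subgroup.centralizer (P : Set G)), ∀ hx : n * (x : G) * n⁻¹ ∈ P ⊔ Subgroup.centralizer (P : Set G), (θ' : ↥(P ⊔ Subgroup.centralizer (P : Set G)) → ℂ) x = (θ : ↥(P ⊔ Subgroup.centralizer (P : Set G)) → ℂ) ⟨n * (x : G) * n⁻¹, hx⟩ := by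
  classical
  haveI := hM.2.1
  have hPp : IsPGroup p P := CfsgLib.Blocks.isPGroup_defectGroup hP
  set C := Subgroup.centralizer (P : Set G) with hCdef
  set L := P ⊔ C with hLdef
  set N := Subgroup.normalizer (P : Set G) with hNdef
  have hPL : P ≤ L := le_sup_left
  have hCL : C ≤ L := le_sup_right
  have hLN : L ≤ N := sup_le Subgroup.le_normalizer (Subgroup.centralizer_le_normalizer _)
  constructor
  · have hne := (CfsgLib.Blocks.brTo_blockIdem_ne_zero_iff hM hB hP hPp (H := L) hCL).2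
      ⟨1, by rintro _ ⟨u, hu, rfl⟩; simpa using hu⟩
    obtain ⟨b, hind⟩ := CfsgLib.Blocks.exists_inducing_block hM hPp hPL hCL hLN hB hne
    refine ⟨b, ?_, hind⟩
    obtain ⟨D', hD'⟩ := CfsgLib.Blocks.exists_defectGroup hM hind.1
    haveI : (P.subgroupOf L).Normal := (Subgroup.normal_subgroupOf_iff hPL).2
      fun u n hu hn => (Subgroup.mem_normalizer_iff.1 (hLN hn) u).1 hu
    have hle := CfsgLib.Blocks.le_defectGroup_of_normal hM hind.1 hD' (Q := P.subgroupOf L)
      (hPp.of_equiv (Subgroup.subgroupOfEquivOfLe hPL).symm)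
    obtain ⟨E, hE, hDE⟩ := CfsgLib.Blocks.exists_defectGroup_ge hM hind hD'
    obtain ⟨x, hx⟩ := CfsgLib.Blocks.defectGroup_conj hM hB hE hP
    have hcard : Nat.card D' ≤ Nat.card (P.subgroupOf L) := by
      rw [Nat.card_congr (Subgroup.subgroupOfEquivOfLe hPL).toEquiv]
      calc Nat.card D' = Nat.card (D'.map L.subtype) :=
            (Subgroup.card_map_of_injective (Subgroup.subtype_injective _)).symm
        _ ≤ Nat.card E := Subgroup.card_le_of_le hDE
        _ = Nat.card P := by rw [← hx, CfsgLib.Blocks.card_map_conj]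
    rw [Subgroup.eq_of_le_of_card_ge hle hcard]
    exact hD'
  · intro b b' hb hb'
    haveI : (P.subgroupOf N).Normal := (Subgroup.normal_subgroupOf_iff Subgroup.le_normalizer).2
      fun u n hu hn => (Subgroup.mem_normalizer_iff.1 hn u).1 hu
    have hconjC : ∀ n ∈ N, ∀ c ∈ C, n * c * n⁻¹ ∈ C := fun n hn c hc =>
      (CfsgLib.Blocks.conj_mem_centralizer_iff hn c).2 hc
    haveI hLn : (L.subgroupOf N).Normal := by
      refine (Subgroup.normal_subgroupOf_iff hLN).2 fun l n hl hn => ?_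
      have hmap : L.map (MulAut.conj n).toMonoidHom ≤ L := by
        rw [hLdef, Subgroup.map_sup, sup_le_iff]
        constructor
        · rintro _ ⟨u, hu, rfl⟩
          exact hPL ((Subgroup.mem_normalizer_iff.1 hn u).1 hu)
        · rintro _ ⟨u, hu, rfl⟩
          exact hCL (hconjC n hn u hu)
      exact hmap ⟨l, hl, rfl⟩
    set Q := P.subgroupOf N with hQdef
    set K := L.subgroupOf N with hKdef
    have hQ : IsPGroup p Q :=
      hPp.of_equiv (Subgroup.subgroupOfEquivOfLe Subgroup.le_normalizer).symm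
    have hCK : Subgroup.centralizer (Q : Set N) ≤ K := by
      intro x hx
      refine Subgroup.mem_subgroupOf.2 (hCL (Subgroup.mem_centralizer_iff.2 fun u hu => ?_))
      exact congrArg Subtype.val
        (Subgroup.mem_centralizer_iff.1 hx ⟨u, Subgroup.le_normalizer hu⟩ hu)
    let φ := Subgroup.subgroupOfEquivOfLe hLN
    have hφ : ∀ k, ((φ k : L) : G) = ((k : N) : G) := fun k => rfl
    haveI := Fintype.ofFinite K
    have step : ∀ c : Set (IrrCharacter L), IsInducedBlock M L c B →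
        ∃ β, IsInducedBlock M N β B ∧
          IsDefectGroup p M β (P.subgroupOf N) ∧
          ∃ χ ∈ β, ∃ θ : IrrCharacter K, CfsgLib.Blocks.Pairs.pull φ.symm θ ∈ c ∧
            classInner (fun k : K => (χ : N → ℂ) k) (θ : K → ℂ) ≠ 0 := by
      intro c hc
      obtain ⟨ξ, hξ⟩ := CfsgLib.Blocks.IsPBlock.nonempty hc.1
      obtain ⟨χ, hχ⟩ := CfsgLib.Blocks.exists_over_constituent K (CfsgLib.Blocks.Pairs.pull φ ξ)
      have hi := CfsgLib.Blocks.isInducedBlock_of_covers (M := M) K hM hQ hCK hχ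
      obtain ⟨χB, hχB⟩ := CfsgLib.Blocks.IsPBlock.nonempty hc.2.1
      have hi2 : IsInducedBlock M N (blockOf M (χ : N → ℂ)) B := by
        rw [CfsgLib.Blocks.IsPBlock.eq_blockOf hc.2.1 hχB]
        refine CfsgLib.Blocks.isInducedBlock_of_lam_resCenter_eq χ χB fun a => ?_
        rw [← CfsgLib.Blocks.IsInducedBlock.lam_resCenter_eq hi
            (CfsgLib.Blocks.mem_blockOf_self _) (CfsgLib.Blocks.mem_blockOf_self χ),
          CfsgLib.Blocks.lam_resCenter_trans N φ hφ,
          CfsgLib.Blocks.IsInducedBlock.lam_resCenter_eq hc hξ hχB]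
      refine ⟨_, hi2, CfsgLib.Blocks.isDefectGroup_of_induced hM hPp hi2 hP, χ,
        CfsgLib.Blocks.mem_blockOf_self χ, _, ?_, hχ⟩
      rw [CfsgLib.Blocks.Pairs.pull_symm_pull]
      exact hξ
    obtain ⟨β, hβ, hβD, χ, hχ, θ, hθ, hθc⟩ := step b hb
    obtain ⟨β', hβ', hβD', χ', hχ', θ', hθ', hθc'⟩ := step b' hb'
    have hββ := CfsgLib.Blocks.firstMain_unique hM hPp hβD hβD' hβ hβ'
    subst hββ
    have hsame := CfsgLib.BlockReg.block_congr hM hβ.1 hχ hχ'
    obtain ⟨g, hg⟩ := CfsgLib.Blocks.constituent_mem_conjClosure (M := M) K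
      (CfsgLib.Blocks.isPBlock_blockOf (M := M) θ) hsame (CfsgLib.Blocks.mem_blockOf_self θ)
      hθc hθc'
    refine ⟨((g⁻¹ : N) : G), (g⁻¹ : N).2, fun η hη => ?_⟩
    have hη1 : SameBlock M (θ : K → ℂ) (CfsgLib.Blocks.Pairs.pull φ η : K → ℂ) := by
      have h := (CfsgLib.Blocks.Pairs.sameBlock_pull_iff M φ _ η).2
        (CfsgLib.BlockReg.block_congr hM hb.1 hθ hη)
      rwa [CfsgLib.Blocks.Pairs.pull_pull_symm] at h
    have hη2 : SameBlock M (θ' : K → ℂ)
        (CfsgLib.Blocks.conjIrr K (CfsgLib.Blocks.Pairs.pull φ η) g⁻¹ : K → ℂ) := by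
      have h := CfsgLib.Blocks.sameBlock_conjIrr K
        (CfsgLib.BlockReg.sameBlock_trans hM
          (CfsgLib.BlockReg.sameBlock_symm (show SameBlock M (θ : K → ℂ) _ from hg)) hη1) g⁻¹
      rwa [← CfsgLib.Blocks.conjIrr_mul, mul_inv_cancel, CfsgLib.Blocks.conjIrr_one] at h
    refine ⟨CfsgLib.Blocks.Pairs.pull φ.symm
      (CfsgLib.Blocks.conjIrr K (CfsgLib.Blocks.Pairs.pull φ η) g⁻¹),
      CfsgLib.BlockReg.mem_of_sameBlock hM hb'.1 hθ'
        ((CfsgLib.Blocks.Pairs.sameBlock_pull_iff M φ.symm _ _).2 hη2), fun x hx => ?_⟩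
    rw [CfsgLib.Blocks.Pairs.pull_apply, CfsgLib.Blocks.coe_conjIrr]
    exact congrArg (η : L → ℂ) (Subtype.ext rfl)

end Cfsg.Agent.S0973
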