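import Cfsg.Statements.S0978
import Cfsg.Agent.Lib.SmallOrder.Options

set_option autoImplicit false
open Cfsg CfsgLib.SmallOrder Subgroup

namespace Cfsg.Agent.S0978

/-- A subgroup of odd order normalising `S` centralises it when the normaliser has index two over the
centraliser. -/
theorem commute_of_odd {G : Type*} [Group G] [Finite G] {S : Subgroup G} {a : ℕ}
    (hC : Nat.card ↥(centralizer (S : Set G)) = a) (hN : Nat.card ↥(normalizer (S : Set G)) = a * 2)
    {g : G} (hg : g ∈ normalizer (S : Set G)) (ho : Odd (orderOf g)) : g ∈ centralizer (S : Set G) := by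
  have ha : 0 < a := hC ▸ Nat.card_pos
  have hidx : ((centralizer (S : Set G)).subgroupOf (normalizer (S : Set G))).index = 2 := by
    have h := ((centralizer (S : Set G)).subgroupOf (normalizer (S : Set G))).card_mul_index
    rw [Nat.card_congr (subgroupOfEquivOfLe (centralizer_le_normalizer _)).toEquiv, hC, hN] at h
    exact Nat.eq_of_mul_eq_mul_left ha h
  have h2 : g * g ∈ centralizer (S : Set G) := mul_self_mem_of_index_two hidx ⟨g, hg⟩
  obtain ⟨k, hk⟩ := ho
  have : g = (g * g) ^ (k + 1) := by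
    rw [← pow_two, ← pow_mul, show 2 * (k + 1) = orderOf g + 1 by omega, pow_succ, pow_orderOf_eq_one,
      one_mul]
  rw [this]
  exact pow_mem h2 _

/-- an element of order `5` is not normalised by `P` when `5` does not divide the order of `C(P)` -/
theorem not_le_normalizer {G : Type*} [Group G] [Finite G] {P S : Subgroup G} (hP : Nat.card P = 7)
    (hS : Nat.card S = 5) (hC : ¬ 5 ∣ Nat.card ↥(centralizer (P : Set G)))
    (hle : P ≤ normalizer (S : Set G)) : False := by
  have : Fact (Nat.Prime 5) := ⟨by norm_num⟩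
  obtain ⟨⟨s, hs⟩, hso⟩ := exists_prime_orderOf_dvd_card' (G := S) 5 (by rw [hS])
  rw [orderOf_mk] at hso
  have hSz : zpowers s = S :=
    eq_of_le_of_card_ge (zpowers_le.2 hs) (by rw [Nat.card_zpowers, hso, hS])
  have hpow : ∀ x ∈ S, ∃ j, j < 5 ∧ s ^ j = x := by
    intro x hx
    rw [← hSz] at hx
    obtain ⟨j, rfl⟩ := mem_powers_iff_mem_zpowers.2 hx
    exact ⟨j % 5, Nat.mod_lt _ (by norm_num), by rw [← hso, pow_mod_orderOf]⟩
  apply hC
  rw [← hso]
  refine orderOf_dvd_natCard _ (mem_centralizer_iff.2 fun y hy => ?_)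
  obtain ⟨j, hj, hjs⟩ := hpow _ ((mem_normalizer_iff.1 (hle hy) s).1 hs)
  have hit : ∀ k : ℕ, y ^ k * s * (y ^ k)⁻¹ = s ^ j ^ k := by
    intro k
    induction k with
    | zero => simp
    | succ k ih =>
      rw [pow_succ', show y * y ^ k * s * (y * y ^ k)⁻¹ = y * (y ^ k * s * (y ^ k)⁻¹) * y⁻¹ by group, ih,
        ← conj_pow, ← hjs, ← pow_mul, pow_succ']
  have hy7 : y ^ 7 = 1 := orderOf_dvd_iff_pow_eq_one.1 (hP ▸ orderOf_dvd_natCard _ hy)
  have h7 := hit 7
  rw [hy7, one_mul, inv_one, mul_one] at h7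
  conv_lhs at h7 => rw [← pow_one s]
  rw [pow_eq_pow_iff_modEq, hso] at h7
  have hj1 : j = 1 := (by decide : ∀ j, j < 5 → 1 % 5 = j ^ 7 % 5 → j = 1) j hj h7
  rw [hj1, pow_one] at hjs
  exact mul_inv_eq_iff_eq_mul.1 hjs.symm

/-- `36` Sylow `7`-subgroups with centralisers of order `70` are impossible. -/
theorem no_thirtysix {G : Type*} [Group G] [Finite G] [IsSimpleGroup G] (hG : ¬ IsMulCommutative G)
    [Fact (Nat.Prime 7)] (P : Sylow 7 G) (hP : Nat.card ↥(P : Subgroup G) = 7)
    (hn : Nat.card (Sylow 7 G) = 36)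
    (hC : Nat.card ↥(centralizer ((P : Subgroup G) : Set G)) = 70) : False := by
  classical
  have : Fact (Nat.Prime 2) := ⟨Nat.prime_two⟩
  set C := centralizer ((P : Subgroup G) : Set G) with hCdef
  set N := normalizer ((P : Subgroup G) : Set G) with hNdef
  have hCN : C ≤ N := centralizer_le_normalizer _
  have hidx : N.index = 36 := P.card_eq_index_normalizer.symm.trans hn
  have hNtop : N ≠ ⊤ := fun h => by rw [h, index_top] at hidx; omega
  -- an involution centralising `P` fixes exactly eight points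
  have hfix : ∀ g ∈ C, orderOf g = 2 → Nat.card (MulAction.fixedBy (G ⧸ N) g) = 8 := by
    intro g hg hgo
    have hg2 : g ^ 2 = 1 := hgo ▸ pow_orderOf_eq_one g
    have h4 := fixedBy_involution_mod_four hG N hg2
    rw [hidx] at h4
    have hle : Nat.card (MulAction.fixedBy (G ⧸ N) g) < 36 := by
      rw [← hidx]
      refine lt_of_le_of_ne (Finite.card_subtype_le _) fun he => ?_
      have hall : ∀ c : G ⧸ N, g • c = c := by
        intro c
        have hF : MulAction.fixedBy (G ⧸ N) g = Set.univ := by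
          refine Set.eq_of_subset_of_ncard_le (Set.subset_univ _) ?_ Set.finite_univ
          rw [Set.ncard_univ, ← Nat.card_coe_set_eq, he]
          rfl
        exact (hF ▸ Set.mem_univ c : c ∈ MulAction.fixedBy (G ⧸ N) g)
      have h1 : g = 1 := toPermHom_injective hNtop (a₁ := g) (a₂ := 1) (by
        rw [map_one]; exact Equiv.ext hall)
      rw [h1, orderOf_one] at hgo
      omega
    let F := {c : G ⧸ N // g • c = c}
    have hcomm : ∀ u ∈ (P : Subgroup G), u * g = g * u := fun u hu => mem_centralizer_iff.1 hg u hu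
    let _ : MulAction ↥(P : Subgroup G) F :=
      { smul := fun u c => ⟨(u : G) • c.1, by rw [← mul_smul, ← hcomm u u.2, mul_smul, c.2]⟩
        one_smul := fun c => Subtype.ext (one_smul G c.1)
        mul_smul := fun u v c => Subtype.ext (mul_smul (u : G) v c.1) }
    have hbase : g • (QuotientGroup.mk (1 : G) : G ⧸ N) = QuotientGroup.mk (1 : G) := by
      rw [MulAction.Quotient.smul_mk, QuotientGroup.eq, smul_eq_mul, mul_one, mul_one]
      exact inv_mem (hCN hg)
    have hfp : MulAction.fixedPoints ↥(P : Subgroup G) F = {⟨QuotientGroup.mk (1 : G), hbase⟩} := by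
      ext c
      rw [MulAction.mem_fixedPoints, Set.mem_singleton_iff]
      constructor
      · intro h
        by_contra hne
        obtain ⟨⟨u, hu⟩, huo⟩ := exists_prime_orderOf_dvd_card' (G := ↥(P : Subgroup G)) 7 (by rw [hP])
        rw [orderOf_mk] at huo
        have h1 := orbit_injective P hP (fun e => hne (Subtype.ext e)) hu (congrArg Subtype.val (h ⟨u, hu⟩))
        rw [h1, orderOf_one] at huo
        omega
      · rintro rfl ⟨u, hu⟩
        refine Subtype.ext ?_
        change (QuotientGroup.mk (u * 1) : G ⧸ N) = QuotientGroup.mk (1 : G)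
        rw [QuotientGroup.eq, mul_one, mul_one]
        exact inv_mem (le_normalizer hu)
    have h7 := P.2.card_modEq_card_fixedPoints F
    rw [hfp, Nat.card_coe_set_eq, Set.ncard_singleton] at h7
    change Nat.card (MulAction.fixedBy (G ⧸ N) g) ≡ 1 [MOD 7] at h7
    unfold Nat.ModEq at h7
    omega
  have horb := card_orbits P hP
  rw [hn, ← hNdef] at horb
  obtain ⟨⟨t, ht⟩, hto⟩ := exists_prime_orderOf_dvd_card' (G := C) 2 (by rw [hC]; norm_num)
  rw [orderOf_mk] at hto
  have hf := hfix t ht hto
  have hcount := card_fixedBy_mul_card_class N t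
  rw [hf, hidx] at hcount
  -- the class of `t` meets `N` in the involutions of `C`
  have hmem : ∀ g : G, IsConj t g ∧ g ∈ N ↔ g ∈ C ∧ orderOf g = 2 := by
    intro g
    constructor
    · rintro ⟨hconj, hgN⟩
      obtain ⟨a, rfl⟩ := isConj_iff.1 hconj
      refine ⟨?_, ?_⟩
      · by_contra hgC
        have h1 := fixedBy_le_orbits P hP hgN hgC
        rw [← hNdef] at h1
        have h2 := card_fixedBy_mul_card_class N (a * t * a⁻¹)
        simp only [show ∀ x, IsConj (a * t * a⁻¹) x ↔ IsConj t x from
          fun x => ⟨hconj.trans, hconj.symm.trans⟩, hidx] at h2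
        rw [← hcount] at h2
        have : Nonempty {x : G // IsConj t x} := ⟨⟨t, IsConj.refl t⟩⟩
        have h3 := Nat.eq_of_mul_eq_mul_right Nat.card_pos h2
        omega
      · rw [show a * t * a⁻¹ = MulAut.conj a t by simp, MulEquiv.orderOf_eq, hto]
    · rintro ⟨hgC, hgo⟩
      refine ⟨?_, hCN hgC⟩
      have hc2 : ∀ x : C, orderOf x = 2 → ∃ Q : Sylow 2 C, (Q : Subgroup C) = zpowers x := fun x hx =>
        exists_sylow_eq (p := 2) (m := 35) (by rw [hC]) (by norm_num) (by rw [Nat.card_zpowers, hx])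
      obtain ⟨Q, hQ⟩ := hc2 ⟨t, ht⟩ (by rw [orderOf_mk, hto])
      obtain ⟨R, hR⟩ := hc2 ⟨g, hgC⟩ (by rw [orderOf_mk, hgo])
      obtain ⟨a, ha⟩ := MulAction.exists_smul_eq C Q R
      have h1 : a * ⟨t, ht⟩ * a⁻¹ ∈ (R : Subgroup C) := by
        rw [← ha]
        exact Subgroup.smul_mem_pointwise_smul _ (MulAut.conj a) _ (hQ ▸ mem_zpowers _)
      rw [hR, mem_zpowers_iff] at h1
      obtain ⟨k, hk⟩ := h1
      rcases Int.even_or_odd k with ⟨l, rfl⟩ | ⟨l, rfl⟩
      · exfalso
        rw [← two_mul, zpow_mul, zpow_two, show (⟨g, hgC⟩ : C) * ⟨g, hgC⟩ = 1 from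
          Subtype.ext (by rw [coe_mul, ← pow_two, ← hgo, pow_orderOf_eq_one, coe_one]), one_zpow] at hk
        have hk' := conj_eq_one_iff.1 hk.symm
        have : t = 1 := congrArg Subtype.val hk'
        rw [this, orderOf_one] at hto
        omega
      · rw [zpow_add, zpow_mul, zpow_two, show (⟨g, hgC⟩ : C) * ⟨g, hgC⟩ = 1 from
          Subtype.ext (by rw [coe_mul, ← pow_two, ← hgo, pow_orderOf_eq_one, coe_one]), one_zpow, one_mul,
          zpow_one] at hk
        exact isConj_iff.2 ⟨a, (congrArg Subtype.val hk).symm⟩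
  -- their number is the number of Sylow `2`-subgroups of `C`
  have hsyl : ∀ x : {x : C // orderOf x = 2}, ∃ Q : Sylow 2 C, (Q : Subgroup C) = zpowers x.1 := fun x =>
    exists_sylow_eq (p := 2) (m := 35) (by rw [hC]) (by norm_num) (by rw [Nat.card_zpowers, x.2])
  choose Φ hΦ using hsyl
  have hbij : Function.Bijective Φ := by
    refine ⟨fun x y hxy => ?_, fun Q => ?_⟩
    · have h1 : x.1 ∈ zpowers y.1 := by rw [← hΦ, ← hxy, hΦ]; exact mem_zpowers _
      obtain ⟨k, hk⟩ := mem_powers_iff_mem_zpowers.2 h1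
      change y.1 ^ k = x.1 at hk
      rw [← pow_mod_orderOf, y.2] at hk
      rcases Nat.mod_two_eq_zero_or_one k with h | h <;> rw [h] at hk
      · have := x.2; rw [← hk, pow_zero, orderOf_one] at this; omega
      · exact Subtype.ext (by rw [← hk, pow_one])
    · have hQ : Nat.card ↥(Q : Subgroup C) = 2 := by
        simpa using card_sylow_eq (e := 1) (m := 35) (by rw [hC]; norm_num) (by norm_num) Q
      obtain ⟨⟨x, hx⟩, hxo⟩ := exists_prime_orderOf_dvd_card' (G := ↥(Q : Subgroup C)) 2 (by rw [hQ])
      rw [orderOf_mk] at hxo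
      refine ⟨⟨x, hxo⟩, Sylow.ext ((hΦ _).trans (eq_of_le_of_card_ge (zpowers_le.2 hx) ?_))⟩
      rw [hQ, Nat.card_zpowers, hxo]
  have hm : Nat.card {g : G // IsConj t g ∧ g ∈ N} = Nat.card (Sylow 2 C) := by
    rw [← Nat.card_eq_of_bijective Φ hbij]
    refine Nat.card_congr ((Equiv.subtypeEquivRight hmem).trans ?_)
    exact
      { toFun := fun g => ⟨⟨g.1, g.2.1⟩, by rw [orderOf_mk]; exact g.2.2⟩
        invFun := fun x => ⟨x.1.1, x.1.2, by rw [orderOf_coe]; exact x.2⟩
        left_inv := fun _ => rfl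
        right_inv := fun _ => rfl }
  have hodd := card_sylow_modEq_one 2 C
  rw [hm] at hcount
  unfold Nat.ModEq at hodd
  omega

/-- A subgroup of order `315` containing the Sylow `7`-subgroup leads to a contradiction. -/
theorem no_315 {G : Type*} [Group G] [Finite G] [IsSimpleGroup G] (hN : Nat.card G = 5040)
    [Fact (Nat.Prime 7)] (P : Sylow 7 G) (hP : Nat.card ↥(P : Subgroup G) = 7)
    (hC : Nat.card ↥(centralizer ((P : Subgroup G) : Set G)) = 21)
    (hNP : Nat.card ↥(normalizer ((P : Subgroup G) : Set G)) = 21 * 2)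
    (K : Subgroup G) (hK : Nat.card K = 315) (hPK : (P : Subgroup G) ≤ K) : False := by
  have : Fact (Nat.Prime 5) := ⟨by norm_num⟩
  set P' : Sylow 7 K := P.subtype hPK with hP'def
  have hP' : Nat.card ↥(P' : Subgroup K) = 7 :=
    (Nat.card_congr (subgroupOfEquivOfLe hPK).toEquiv).trans hP
  have hle : normalizer ((P' : Subgroup K) : Set K) ≤ centralizer ((P' : Subgroup K) : Set K) := by
    intro g hg
    have hg' : (g : G) ∈ normalizer ((P : Subgroup G) : Set G) := by
      have h := le_normalizer_map K.subtype (mem_map_of_mem K.subtype hg)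
      rwa [show (P' : Subgroup K).map K.subtype = P from map_subgroupOf_eq_of_le hPK] at h
    have ho : Odd (orderOf (g : G)) := by
      refine Odd.of_dvd_nat (by rw [hK]; decide : Odd (Nat.card K)) ?_
      rw [Subgroup.orderOf_coe]
      exact orderOf_dvd_natCard g
    have h1 := commute_of_odd hC hNP hg' ho
    refine mem_centralizer_iff.2 fun y hy => Subtype.ext ?_
    exact mem_centralizer_iff.1 h1 _ (mem_subgroupOf.1 hy)
  have hcomp := MonoidHom.ker_transferSylow_isComplement' P' hle
  set L := (MonoidHom.transferSylow P' hle).ker with hLdef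
  have hL : Nat.card L = 45 := by
    have h := hcomp.card_mul_card
    rw [hP', hK] at h
    omega
  have hLi : L.index = 7 := by
    have h := L.card_mul_index
    rw [hL, hK] at h
    omega
  obtain ⟨S⟩ := (inferInstance : Nonempty (Sylow 5 K))
  have hS : Nat.card ↥(S : Subgroup K) = 5 := by
    simpa using card_sylow_eq (e := 1) (m := 63) (by rw [hK]; norm_num) (by norm_num) S
  have hSL : (S : Subgroup K) ≤ L := by
    intro s hs
    rw [← QuotientGroup.eq_one_iff, ← orderOf_eq_one_iff]
    refine Nat.eq_one_of_dvd_coprimes (show Nat.Coprime 5 7 by norm_num) ?_ ?_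
    · exact (orderOf_map_dvd (QuotientGroup.mk' L) s).trans ((orderOf_dvd_natCard _ hs).trans hS.dvd)
    · exact (_root_.orderOf_dvd_natCard _).trans hLi.dvd
  set S' : Sylow 5 L := S.subtype hSL with hS'def
  have hS' : Nat.card ↥(S' : Subgroup L) = 5 :=
    (Nat.card_congr (subgroupOfEquivOfLe hSL).toEquiv).trans hS
  have hn1 : Nat.card (Sylow 5 L) = 1 := by
    have h1 := card_sylow_modEq_one 5 L
    have h2 : Nat.card (Sylow 5 L) ∣ 9 := by
      have h3 := (S' : Subgroup L).card_mul_index
      rw [hS', hL] at h3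
      rw [show 9 = (S' : Subgroup L).index by omega]
      exact S'.card_dvd_index
    exact (by decide : ∀ n ∈ Nat.divisors 9, n % 5 = 1 → n = 1) _ (Nat.mem_divisors.2 ⟨h2, by norm_num⟩) h1
  have hLN : L ≤ normalizer ((S : Subgroup K) : Set K) := by
    have : Subsingleton (Sylow 5 L) := (Nat.card_eq_one_iff_unique.1 hn1).1
    have hnorm : (S' : Subgroup L).Normal := S'.normal_of_subsingleton
    intro l hl
    refine mem_normalizer_iff.2 fun s => ?_
    constructor
    · intro hs
      exact hnorm.conj_mem ⟨s, hSL hs⟩ (mem_subgroupOf.2 hs) ⟨l, hl⟩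
    · intro hs
      have h := hnorm.conj_mem ⟨l * s * l⁻¹, hSL hs⟩ (mem_subgroupOf.2 hs) ⟨l⁻¹, inv_mem hl⟩
      have h' : l⁻¹ * (l * s * l⁻¹) * l⁻¹⁻¹ ∈ (S : Subgroup K) := h
      rwa [show l⁻¹ * (l * s * l⁻¹) * l⁻¹⁻¹ = s by group] at h'
  have hn5 : Nat.card (Sylow 5 K) = 1 := by
    have h1 := card_sylow_modEq_one 5 K
    have h2 : Nat.card (Sylow 5 K) ∣ 7 := by
      rw [S.card_eq_index_normalizer]
      exact hLi ▸ index_dvd_of_le hLN
    exact (by decide : ∀ n ∈ Nat.divisors 7, n % 5 = 1 → n = 1) _ (Nat.mem_divisors.2 ⟨h2, by norm_num⟩) h1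
  have htop : normalizer ((S : Subgroup K) : Set K) = ⊤ := by
    exact index_eq_one.1 (S.card_eq_index_normalizer.symm.trans hn5)
  refine not_le_normalizer (S := (S : Subgroup K).map K.subtype) hP ?_ (by rw [hC]; norm_num) ?_
  · rw [card_map_of_injective K.subtype_injective, hS]
  · have h := le_normalizer_map (H := (S : Subgroup K)) K.subtype
    rw [htop, ← MonoidHom.range_eq_map, K.range_subtype] at h
    exact hPK.trans h

/-- No finite simple group has order 5040 = 2^4 * 3^2 * 5 * 7. -/
theorem result {G : Type*} [Group G] [Finite G] [IsSimpleGroup G] : Nat.card G ≠ 5040 := by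
  intro hN
  have hG : ¬ IsMulCommutative G := not_comm_of_not_prime (by rw [hN]; norm_num)
  have : Fact (Nat.Prime 7) := ⟨by norm_num⟩
  have : Fact (Nat.Prime 5) := ⟨by norm_num⟩
  have : Fact (Nat.Prime 3) := ⟨by norm_num⟩
  obtain ⟨P⟩ := (inferInstance : Nonempty (Sylow 7 G))
  have hP : Nat.card ↥(P : Subgroup G) = 7 := by
    simpa using card_sylow_eq (e := 1) (m := 720) (by rw [hN]; norm_num) (by norm_num) P
  obtain ⟨n, c, e, hmem, hn, hC, hNP⟩ := exists_option hN 720 (isq 5040) [(36, 10, 2), (120, 3, 2)]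
    (by norm_num) (by norm_num) (by norm_num) (by decide +kernel) P
  simp only [List.mem_cons, List.not_mem_nil, or_false, Prod.mk.injEq] at hmem
  rcases hmem with ⟨rfl, rfl, rfl⟩ | ⟨rfl, rfl, rfl⟩
  · exact no_thirtysix hG P hP hn hC
  · -- the centraliser of an element of order `3` centralising `P`
    obtain ⟨⟨x, hx⟩, hxo⟩ := exists_prime_orderOf_dvd_card' (G := ↥(centralizer ((P : Subgroup G) : Set G))) 3
      (by rw [hC]; norm_num)
    rw [orderOf_mk] at hxo
    set H := centralizer ((zpowers x : Subgroup G) : Set G) with hHdef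
    have hPH : (P : Subgroup G) ≤ H := by
      intro u hu
      refine mem_centralizer_iff.2 fun w hw => ?_
      obtain ⟨k, rfl⟩ := mem_zpowers_iff.1 hw
      exact ((show Commute x u from (mem_centralizer_iff.1 hx u hu).symm).zpow_left k).eq
    have hxne : zpowers x ≠ ⊥ := by
      rw [Ne, zpowers_eq_bot]; rintro rfl; rw [orderOf_one] at hxo; omega
    have hHtop : H ≠ ⊤ := centralizer_ne_top hG hxne
    obtain ⟨T, hxT⟩ := (IsPGroup.of_card (p := 3) (n := 1) (G := zpowers x) (by rw [Nat.card_zpowers, hxo, pow_one])).exists_le_sylow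
    have hT : Nat.card ↥(T : Subgroup G) = 9 := by
      simpa using card_sylow_eq (e := 2) (m := 560) (by rw [hN]; norm_num) (by norm_num) T
    have hTc := isMulCommutative_of_card_eq_prime_or_sq T (Or.inr hT)
    have hTH : (T : Subgroup G) ≤ H := fun t ht => mem_centralizer_iff.2 fun w hw =>
      congrArg Subtype.val (hTc.is_comm.comm ⟨w, hxT hw⟩ ⟨t, ht⟩)
    have h63 : 63 ∣ Nat.card H := by
      have := Nat.Coprime.mul_dvd_of_dvd_of_dvd (show Nat.Coprime 7 9 by norm_num)
        (hP ▸ card_dvd_of_le hPH) (hT ▸ card_dvd_of_le hTH)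
      simpa using this
    have hfact := two_mul_card_dvd_factorial hG hHtop
    have hidx : H.index * Nat.card H = 5040 := by rw [mul_comm, card_mul_index, hN]
    set P' : Sylow 7 H := P.subtype hPH with hP'def
    set NH := normalizer ((P' : Subgroup H) : Set H) with hNHdef
    have hN21 : 21 ∣ Nat.card NH := by
      have hle : (P : Subgroup G).subgroupOf H ≤ NH := le_normalizer
      have h7 : 7 ∣ Nat.card NH := by
        have := card_dvd_of_le hle
        rwa [Nat.card_congr (subgroupOfEquivOfLe hPH).toEquiv, hP] at this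
      have hxH : x ∈ H := hTH (hxT (mem_zpowers x))
      have h3 : 3 ∣ Nat.card NH := by
        have hmem : (⟨x, hxH⟩ : H) ∈ NH := by
          refine centralizer_le_normalizer _ (mem_centralizer_iff.2 fun y hy => Subtype.ext ?_)
          exact mem_centralizer_iff.1 hx _ (mem_subgroupOf.1 hy)
        have := orderOf_dvd_natCard NH hmem
        rwa [orderOf_mk, hxo] at this
      exact Nat.Coprime.mul_dvd_of_dvd_of_dvd (show Nat.Coprime 7 3 by norm_num) h7 h3
    have hN42 : Nat.card NH ∣ 42 := by
      have h := le_normalizer_map (H := (P' : Subgroup H)) H.subtype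
      rw [show (P' : Subgroup H).map H.subtype = P from map_subgroupOf_eq_of_le hPH] at h
      have := card_dvd_of_le h
      rw [card_map_of_injective H.subtype_injective, hNP] at this
      exact this
    have hn := card_normalizer_mul P'
    have hn1 := card_sylow_modEq_one 7 H
    rw [← hNHdef] at hn
    have hcases : Nat.card H = 315 ∨ Nat.card H = 630 := by
      rw [hN] at hfact
      obtain ⟨r, hr⟩ := h63
      have hr80 : r * H.index = 80 := by
        have : 63 * (r * H.index) = 63 * 80 := by rw [← mul_assoc, ← hr, mul_comm, hidx]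
        omega
      have key : ∀ r ∈ Nat.divisors 80, (2 * 5040) ∣ (80 / r).factorial ∨ 80 / r > 7 →
          ∀ a ∈ [21, 42], 63 * r % a = 0 → (63 * r / a) % 7 = 1 → r = 5 ∨ r = 10 := by decide
      have ha : Nat.card NH ∈ [21, 42] := by
        rcases hN21 with ⟨b, hb⟩
        have hb2 : b ∣ 2 := by
          rw [hb] at hN42
          exact Nat.dvd_of_mul_dvd_mul_left (by norm_num) (hN42.trans (by norm_num : 42 ∣ 21 * 2))
        rcases (Nat.dvd_prime Nat.prime_two).1 hb2 with h | h <;> simp [hb, h]
      have h7 : 7 < 80 / r := by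
        rw [← hr80, Nat.mul_div_cancel_left _ (by rcases Nat.eq_zero_or_pos r with h | h <;> simp_all)]
        by_contra hle
        have := Nat.le_of_dvd (Nat.factorial_pos _) hfact
        have := Nat.factorial_le (Nat.not_lt.1 hle)
        norm_num [Nat.factorial] at this
        omega
      rcases key r (Nat.mem_divisors.2 ⟨⟨_, hr80.symm⟩, by norm_num⟩) (Or.inr h7) _ ha
          (by rw [← hr, ← hn]; exact Nat.mul_mod_right _ _)
          (by rw [← hr, ← hn, Nat.mul_div_cancel_left _ Nat.card_pos]; exact hn1) with h | h <;>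
        subst h <;> omega
    have hNP' : Nat.card ↥(normalizer ((P : Subgroup G) : Set G)) = 21 * 2 := by rw [hNP]
    rcases hcases with hH | hH
    · exact no_315 hN P hP hC hNP' H hH hPH
    · -- the subgroup of index two
      have : Fact (Nat.Prime 2) := ⟨Nat.prime_two⟩
      obtain ⟨Q⟩ := (inferInstance : Nonempty (Sylow 2 H))
      have hQ : Nat.card ↥(Q : Subgroup H) = 2 := by
        simpa using card_sylow_eq (e := 1) (m := 315) (by rw [hH]; norm_num) (by norm_num) Q
      have hQc : IsCyclic ↥(Q : Subgroup H) := isCyclic_of_prime_card hQ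
      have hmin : (Nat.card H).minFac = 2 := by rw [hH, Nat.minFac_eq_two_iff]; norm_num
      have hcomp := IsCyclic.isComplement' hmin (P := Q) hQc
      set K0 := (MonoidHom.transferSylow Q (hQc.normalizer_le_centralizer hmin)).ker with hK0
      have hK0c : Nat.card K0 = 315 := by
        have h := hcomp.card_mul_card
        rw [hQ, hH] at h
        omega
      have hK0i : K0.index = 2 := by
        have h := K0.card_mul_index
        rw [hK0c, hH] at h
        omega
      refine no_315 hN P hP hC hNP' (K0.map H.subtype) (by rw [card_map_of_injective H.subtype_injective, hK0c]) ?_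
      intro u hu
      refine ⟨⟨u, hPH hu⟩, ?_, rfl⟩
      have h2 := mul_self_mem_of_index_two hK0i (⟨u, hPH hu⟩ : H)
      have h7 : (⟨u, hPH hu⟩ : H) ^ 7 = 1 := Subtype.ext (by
        rw [SubmonoidClass.coe_pow, OneMemClass.coe_one]
        exact orderOf_dvd_iff_pow_eq_one.1 (hP ▸ orderOf_dvd_natCard _ hu))
      have : (⟨u, hPH hu⟩ : H) = ((⟨u, hPH hu⟩ : H) * ⟨u, hPH hu⟩) ^ 4 := by
        rw [← pow_two, ← pow_mul, show 2 * 4 = 7 + 1 from rfl, pow_succ, h7, one_mul]
      rw [this]
      exact pow_mem h2 _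

end Cfsg.Agent.S0978
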