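import Cfsg.Statements.S0982
import Cfsg.Agent.Lib.SmallOrder.PSL2Recog

set_option autoImplicit false
set_option synthInstance.maxSize 2000
open Cfsg CfsgLib.SmallOrder Subgroup

namespace Cfsg.Agent.S0982

/-- A simple group of order 6072 is isomorphic to the projective special linear group of dimension 2 over the field with 23 elements. -/
theorem result {G : Type*} [Group G] [Finite G] [IsSimpleGroup G] (h : Nat.card G = 6072) {F : Type*} [Field F] [Fintype F] (hF : Fintype.card F = 23) : Nonempty (G ≃* Matrix.ProjectiveSpecialLinearGroup (Fin 2) F) := by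
  have : Fact (Nat.Prime 23) := ⟨by norm_num⟩
  obtain ⟨h1, h2, h3, -⟩ := card_sylow_facts (G := G) (p := 23) (e := 1) (m := 264) (by rw [h]; norm_num)
    (by norm_num) one_pos (by norm_num)
  have hn : Nat.card (Sylow 23 G) = 24 :=
    (by decide : ∀ n ∈ Nat.divisors 264, n % 23 = 1 → 1 < n → n = 24) _
      (Nat.mem_divisors.2 ⟨h1, by norm_num⟩) h2 h3
  refine nonempty_mulEquiv_psl (d := 11) (by norm_num) (by norm_num) h hn (fun M g D => ?_) hF
  exact D.conclusion_primePow (r := 11) (a := 1) (b := 552) (by norm_num) one_pos (by norm_num)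
    (by rw [h]; norm_num) (by norm_num) (by norm_num) (by decide) (by norm_num)

end Cfsg.Agent.S0982
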