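import Cfsg.Statements.S0983
import Cfsg.Agent.S0978
import Cfsg.Agent.Lib.SmallOrder.Order5400
import Cfsg.Agent.Lib.SmallOrder.Range3641A
import Cfsg.Agent.Lib.SmallOrder.Range3641B
import Cfsg.Agent.Lib.SmallOrder.Range3641C
import Cfsg.Agent.Lib.SmallOrder.Range3641D

set_option autoImplicit false
open Cfsg CfsgLib.SmallOrder

namespace Cfsg.Agent.S0983

/-- A non-abelian finite simple group of order greater than 3640 and at most 6232 has order 4080, 5616, 6048 or 6072. -/
theorem result {G : Type*} [Group G] [Finite G] [IsSimpleGroup G] (hG : ¬ IsMulCommutative G) (h1 : 3640 < Nat.card G) (h2 : Nat.card G ≤ 6232) : Nat.card G = 4080 ∨ Nat.card G = 5616 ∨ Nat.card G = 6048 ∨ Nat.card G = 6072 := by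
  have : Fact (Nat.Prime 5) := ⟨by norm_num⟩
  have hmem : Nat.card G ∈ [4080, 5040, 5400, 5616, 6048, 6072] := by
    by_cases h3641 : Nat.card G < 3857
    · exact card_mem_of_rangeExcluded hG rangeExcluded_3641 (by omega) h3641
    by_cases h3857 : Nat.card G < 4073
    · exact card_mem_of_rangeExcluded hG rangeExcluded_3857 (by omega) h3857
    by_cases h4073 : Nat.card G < 4289
    · exact card_mem_of_rangeExcluded hG rangeExcluded_4073 (by omega) h4073
    by_cases h4289 : Nat.card G < 4505
    · exact card_mem_of_rangeExcluded hG rangeExcluded_4289 (by omega) h4289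
    by_cases h4505 : Nat.card G < 4721
    · exact card_mem_of_rangeExcluded hG rangeExcluded_4505 (by omega) h4505
    by_cases h4721 : Nat.card G < 4937
    · exact card_mem_of_rangeExcluded hG rangeExcluded_4721 (by omega) h4721
    by_cases h4937 : Nat.card G < 5153
    · exact card_mem_of_rangeExcluded hG rangeExcluded_4937 (by omega) h4937
    by_cases h5153 : Nat.card G < 5369
    · exact card_mem_of_rangeExcluded hG rangeExcluded_5153 (by omega) h5153
    by_cases h5369 : Nat.card G < 5585
    · exact card_mem_of_rangeExcluded hG rangeExcluded_5369 (by omega) h5369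
    by_cases h5585 : Nat.card G < 5801
    · exact card_mem_of_rangeExcluded hG rangeExcluded_5585 (by omega) h5585
    by_cases h5801 : Nat.card G < 6017
    · exact card_mem_of_rangeExcluded hG rangeExcluded_5801 (by omega) h5801
    exact card_mem_of_rangeExcluded hG rangeExcluded_6017 (by omega) (by omega)
  simp only [List.mem_cons, List.not_mem_nil, or_false] at hmem
  rcases hmem with h | h | h | h | h | h
  · exact Or.inl h
  · exact absurd h Cfsg.Agent.S0978.result
  · exact absurd h Order5400.card_ne
  · exact Or.inr (Or.inl h)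
  · exact Or.inr (Or.inr (Or.inl h))
  · exact Or.inr (Or.inr (Or.inr h))

end Cfsg.Agent.S0983
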