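import Cfsg.Statements.S0986
import Mathlib.GroupTheory.Sylow
import Mathlib.GroupTheory.Nilpotent
import Mathlib.Tactic

set_option autoImplicit false
open Cfsg

namespace Cfsg.Agent.S0986

open Subgroup in
/-- A proper `p`-subgroup is proper in its normaliser inside a bigger `p`-subgroup. -/
theorem lt_inf_normalizer {G : Type*} [Group G] [Finite G] {p : ℕ} [Fact p.Prime] (P : Sylow p G)
    {D : Subgroup G} (hD : D ≤ (P : Subgroup G)) (hne : D ≠ P) :
    D < (P : Subgroup G) ⊓ normalizer (D : Set G) := by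
  have : Group.IsNilpotent ↥(P : Subgroup G) := P.2.isNilpotent
  have hlt : D.subgroupOf P < ⊤ := lt_top_iff_ne_top.2 fun h =>
    hne (le_antisymm hD (Subgroup.subgroupOf_eq_top.1 h))
  have h := normalizerCondition_of_isNilpotent _ hlt
  obtain ⟨x, hx, hxD⟩ := SetLike.exists_of_lt h
  refine lt_of_le_not_ge (le_inf hD le_normalizer) fun h' => hxD (h' ⟨x.2, ?_⟩)
  show (x : G) ∈ normalizer (D : Set G)
  rw [Subgroup.mem_normalizer_iff] at hx ⊢
  intro d
  constructor
  · intro hd
    exact (hx ⟨d, hD hd⟩).1 hd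
  · intro hd
    have hdP : d ∈ (P : Subgroup G) := by
      have := mul_mem (mul_mem (inv_mem x.2) (hD hd)) x.2
      simpa [mul_assoc] using this
    exact (hx ⟨d, hdP⟩).2 hd


/-- Let P and Q be distinct Sylow p-subgroups of a finite group G chosen so that the order of P ∩ Q is as large as possible among intersections of two distinct Sylow p-subgroups, and let N be the normalizer of P ∩ Q. Then N has more than one Sylow p-subgroup, any two distinct Sylow p-subgroups of N intersect exactly in P ∩ Q, and each Sylow p-subgroup of N lies in exactly one Sylow p-subgroup of G. -/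
theorem result {G : Type*} [Group G] [Finite G] (p : ℕ) [Fact p.Prime] (P Q : Sylow p G) (hPQ : P ≠ Q) (hmax : ∀ P' Q' : Sylow p G, P' ≠ Q' → Nat.card ↥((P' : Subgroup G) ⊓ (Q' : Subgroup G)) ≤ Nat.card ↥((P : Subgroup G) ⊓ (Q : Subgroup G))) : 1 < Nat.card (Sylow p ↥(Subgroup.normalizer (((P : Subgroup G) ⊓ (Q : Subgroup G) : Subgroup G) : Set G))) ∧ (∀ S T : Sylow p ↥(Subgroup.normalizer (((P : Subgroup G) ⊓ (Q : Subgroup G) : Subgroup G) : Set G)), S ≠ T → (S : Subgroup _) ⊓ (T : Subgroup _) = ((P : Subgroup G) ⊓ (Q : Subgroup G)).subgroupOf (Subgroup.normalizer (((P : Subgroup G) ⊓ (Q : Subgroup G) : Subgroup G) : Set G))) ∧ ∀ S : Sylow p ↥(Subgroup.normalizer (((P : Subgroup G) ⊓ (Q : Subgroup G) : Subgroup G) : Set G)), ∃! T : Sylow p G, (S : Subgroup _).map (Subgroup.normalizer (((P : Subgroup G) ⊓ (Q : Subgroup G) : Subgroup G) : Set G)).subtype ≤ (T : Subgroup G) := by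
  set D : Subgroup G := (P : Subgroup G) ⊓ (Q : Subgroup G) with hDdef
  set N := Subgroup.normalizer (D : Set G)
  have hDN : D ≤ N := Subgroup.le_normalizer
  have hDp : IsPGroup p ↥D := P.2.to_le inf_le_left
  have hnorm : (D.subgroupOf N).Normal := Subgroup.normal_subgroupOf_iff_le_normalizer hDN |>.2 le_rfl
  have hDp' : IsPGroup p ↥(D.subgroupOf N) := hDp.comap_subtype
  have hDS : ∀ S : Sylow p N, D.subgroupOf N ≤ (S : Subgroup N) := fun S => by
    obtain ⟨S', hS'⟩ := hDp'.exists_le_sylow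
    obtain ⟨n, hn⟩ := MulAction.exists_smul_eq N S' S
    intro x hx
    rw [← hn, Sylow.coe_subgroup_smul, Subgroup.mem_pointwise_smul_iff_inv_smul_mem]
    exact hS' (hnorm.conj_mem' x hx n |> fun h => by simpa [MulAut.smul_def, mul_assoc] using h)
  have hDmapS : ∀ S : Sylow p N, D ≤ (S : Subgroup N).map N.subtype := fun S x hx =>
    ⟨⟨x, hDN hx⟩, hDS S hx, rfl⟩
  have hsmall : ∀ (R R' : Sylow p G) (X : Subgroup G), R ≠ R' → D ≤ X → X ≤ R → X ≤ R' → X = D := by
    intro R R' X hne hDX h1 h2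
    exact (Subgroup.eq_of_le_of_card_ge hDX
      ((Subgroup.card_le_of_le (le_inf h1 h2)).trans (hmax R R' hne))).symm
  have hPD : (P : Subgroup G) ≠ D := fun h => hPQ (Sylow.ext (Subgroup.eq_of_le_of_card_ge
    (h ▸ inf_le_right) (le_of_eq (by rw [P.card_eq_multiplicity, Q.card_eq_multiplicity]))))
  have hQD : (Q : Subgroup G) ≠ D := fun h => hPQ (Sylow.ext (Subgroup.eq_of_le_of_card_ge
    (h ▸ inf_le_left) (le_of_eq (by rw [P.card_eq_multiplicity, Q.card_eq_multiplicity])))).symm
  have hPX := lt_inf_normalizer P (inf_le_left : D ≤ _) hPD.symm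
  have hQX := lt_inf_normalizer Q (inf_le_right : D ≤ _) hQD.symm
  have hin : ∀ R : Sylow p G, ∃ S : Sylow p N, (R : Subgroup G).subgroupOf N ≤ (S : Subgroup N) :=
    fun R => R.2.comap_subtype.exists_le_sylow
  have hmapS : ∀ (R : Sylow p G) (S : Sylow p N), (R : Subgroup G).subgroupOf N ≤ (S : Subgroup N) →
      (R : Subgroup G) ⊓ N ≤ (S : Subgroup N).map N.subtype := fun R S h x hx =>
    ⟨⟨x, hx.2⟩, h hx.1, rfl⟩
  have habove : ∀ S : Sylow p N, ∃ R : Sylow p G, (S : Subgroup N).map N.subtype ≤ R :=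
    fun S => (S.2.map N.subtype).exists_le_sylow
  obtain ⟨SP, hSP⟩ := hin P
  obtain ⟨SQ, hSQ⟩ := hin Q
  have hne' : SP ≠ SQ := by
    rintro rfl
    obtain ⟨R, hR⟩ := habove SP
    have hRP : R = P := by
      by_contra hne
      exact hPX.ne' (hsmall R P _ hne hPX.le ((hmapS P SP hSP).trans hR) inf_le_left)
    have hRQ : R = Q := by
      by_contra hne
      exact hQX.ne' (hsmall R Q _ hne hQX.le ((hmapS Q SP hSQ).trans hR) inf_le_left)
    exact hPQ (hRP.symm.trans hRQ)
  have : Nontrivial (Sylow p N) := ⟨⟨SP, SQ, hne'⟩⟩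
  refine ⟨Finite.one_lt_card, fun S T hST => ?_, fun S => ?_⟩
  · obtain ⟨R, hR⟩ := habove S
    obtain ⟨R', hR'⟩ := habove T
    have hne : R ≠ R' := by
      rintro rfl
      apply hST
      have hcomap : IsPGroup p ↥((R : Subgroup G).subgroupOf N) := R.2.comap_subtype
      exact Sylow.ext ((S.3 hcomap (fun x hx => hR ⟨x, hx, rfl⟩)).symm.trans
        (T.3 hcomap (fun x hx => hR' ⟨x, hx, rfl⟩)))
    have h := hsmall R R' (((S : Subgroup N) ⊓ (T : Subgroup N)).map N.subtype) hne
      (fun x hx => ⟨⟨x, hDN hx⟩, ⟨hDS S hx, hDS T hx⟩, rfl⟩)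
      ((Subgroup.map_mono inf_le_left).trans hR) ((Subgroup.map_mono inf_le_right).trans hR')
    rw [← h, Subgroup.subgroupOf, Subgroup.comap_map_eq_self_of_injective N.subtype_injective]
  · obtain ⟨R, hR⟩ := habove S
    refine ⟨R, hR, fun R' hR' => ?_⟩
    by_contra hne
    have h := hsmall R' R _ hne (hDmapS S) hR' hR
    have h1 := Subgroup.card_le_of_le (hmapS P SP hSP)
    have h2 : Nat.card ↥((SP : Subgroup N).map N.subtype) = Nat.card ↥((S : Subgroup N).map N.subtype) := by
      rw [Subgroup.card_map_of_injective N.subtype_injective, Subgroup.card_map_of_injective N.subtype_injective,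
        SP.card_eq_multiplicity, S.card_eq_multiplicity]
    rw [h2, h] at h1
    exact hPX.ne (Subgroup.eq_of_le_of_card_ge hPX.le h1)

end Cfsg.Agent.S0986
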