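import Cfsg.Statements.S0987
import Cfsg.Agent.Lib.SmallOrder.Basic
import Mathlib.Tactic.Ring
import Mathlib.GroupTheory.QuotientGroup.Basic

set_option autoImplicit false
open Cfsg

namespace Cfsg.Agent.S0987

/-- If a finite group has order pqr for primes p < q < r, then its Sylow r-subgroups are normal. -/
theorem result {G : Type*} [Group G] [Finite G] (p q r : ℕ) (hp : p.Prime) (hq : q.Prime) [Fact r.Prime] (hpq : p < q) (hqr : q < r) (hG : Nat.card G = p * q * r) (R : Sylow r G) : (R : Subgroup G).Normal := by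
  have hr : r.Prime := Fact.out
  have : Fact p.Prime := ⟨hp⟩
  have hpr : p < r := hpq.trans hqr
  have hmin : (Nat.card G).minFac = p := by
    rw [hG]
    refine le_antisymm (Nat.minFac_le_of_dvd hp.two_le (Dvd.intro (q * r) (by ring))) ?_
    have hd := Nat.minFac_dvd (p * q * r)
    have hpr' : (p * q * r).minFac.Prime := Nat.minFac_prime (by
      intro h
      have := Nat.eq_one_of_mul_eq_one_left h
      exact hr.one_lt.ne' this)
    rcases (Nat.Prime.dvd_mul hpr').1 hd with h | h
    · rcases (Nat.Prime.dvd_mul hpr').1 h with h | h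
      · exact ((Nat.prime_dvd_prime_iff_eq hpr' hp).1 h).ge
      · rw [(Nat.prime_dvd_prime_iff_eq hpr' hq).1 h]; omega
    · rw [(Nat.prime_dvd_prime_iff_eq hpr' hr).1 h]; omega
  obtain ⟨P⟩ := (inferInstance : Nonempty (Sylow p G))
  have hpndvd : ¬ p ∣ q * r := fun h => by
    rcases (Nat.Prime.dvd_mul hp).1 h with h | h
    · exact hpq.ne ((Nat.prime_dvd_prime_iff_eq hp hq).1 h)
    · exact hpr.ne ((Nat.prime_dvd_prime_iff_eq hp hr).1 h)
  have hP : Nat.card ↥(P : Subgroup G) = p := by
    simpa using CfsgLib.SmallOrder.card_sylow_eq (e := 1) (m := q * r)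
      (by rw [hG, pow_one, mul_assoc]) hpndvd P
  have hcyc : IsCyclic ↥(P : Subgroup G) := isCyclic_of_prime_card hP
  have hN := MonoidHom.ker_transferSylow_isComplement' P
    (IsCyclic.normalizer_le_centralizer (P := P) hmin hcyc)
  set K := (MonoidHom.transferSylow P (IsCyclic.normalizer_le_centralizer (P := P) hmin hcyc)).ker
  have hK : Nat.card K = q * r := by
    have := hN.card_mul
    rw [hP, hG, mul_comm _ p, mul_assoc] at this
    exact Nat.eq_of_mul_eq_mul_left hp.pos this
  have hKn : K.Normal := MonoidHom.normal_ker _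
  have hR : Nat.card ↥(R : Subgroup G) = r := by
    have hnd : ¬ r ∣ p * q := fun h => by
      rcases (Nat.Prime.dvd_mul hr).1 h with h | h
      · exact hpr.ne' ((Nat.prime_dvd_prime_iff_eq hr hp).1 h)
      · exact hqr.ne' ((Nat.prime_dvd_prime_iff_eq hr hq).1 h)
    simpa using CfsgLib.SmallOrder.card_sylow_eq (e := 1) (m := p * q) (by rw [hG]; ring) hnd R
  have hRK : (R : Subgroup G) ≤ K := by
    have hidx : K.index = p := by
      have := K.card_mul_index
      rw [hK, hG, mul_assoc p, mul_comm p] at this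
      exact Nat.eq_of_mul_eq_mul_left (Nat.mul_pos hq.pos hr.pos) this
    intro x hx
    have hx' : orderOf ((x : G) : G ⧸ K) ∣ r ∧ orderOf ((x : G) : G ⧸ K) ∣ p := by
      refine ⟨(orderOf_map_dvd (QuotientGroup.mk' K) x).trans (hR ▸ Subgroup.orderOf_dvd_natCard _ hx), ?_⟩
      rw [← hidx]
      exact orderOf_dvd_natCard _
    have := Nat.eq_one_of_dvd_coprimes ((Nat.coprime_primes hr hp).2 hpr.ne') hx'.1 hx'.2
    rwa [orderOf_eq_one_iff, QuotientGroup.eq_one_iff] at this
  have hone : Nat.card (Sylow r K) = 1 := by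
    have h1 : Nat.card (Sylow r K) ∣ q := by
      have hidx : ((R.subtype hRK : Sylow r K) : Subgroup K).index = q := by
        have := ((R.subtype hRK : Sylow r K) : Subgroup K).card_mul_index
        rw [hK, mul_comm q] at this
        have hc : Nat.card ↥((R.subtype hRK : Sylow r K) : Subgroup K) = r :=
          (Nat.card_congr (Subgroup.subgroupOfEquivOfLe hRK).toEquiv).trans hR
        rw [hc] at this
        exact Nat.eq_of_mul_eq_mul_left hr.pos this
      exact hidx ▸ Sylow.card_dvd_index _
    have h2 := card_sylow_modEq_one r K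
    rcases (Nat.dvd_prime hq).1 h1 with h | h
    · exact h
    · rw [h] at h2
      rw [Nat.ModEq, Nat.mod_eq_of_lt hqr, Nat.one_mod_eq_one.2 hr.one_lt.ne'] at h2
      exact absurd h2 hq.one_lt.ne'
  refine ⟨fun x hx g => ?_⟩
  have hg : g • R = R := by
    have hle : ((g • R : Sylow r G) : Subgroup G) ≤ K := by
      rw [Sylow.coe_subgroup_smul]
      rintro _ ⟨y, hy, rfl⟩
      exact hKn.conj_mem _ (hRK hy) g
    have hsub : Subsingleton (Sylow r K) := (Nat.card_eq_one_iff_unique.1 hone).1
    exact Sylow.subtype_injective (hP := hle) (hQ := hRK) (Subsingleton.elim _ _)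
  have hgN := Sylow.smul_eq_iff_mem_normalizer.1 hg
  exact (Subgroup.mem_normalizer_iff.1 hgN x).1 hx

end Cfsg.Agent.S0987
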