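import Cfsg.Statements.S0988
import Cfsg.Agent.Lib.SmallOrder.Auto
import Mathlib.Tactic

set_option autoImplicit false
open Cfsg

namespace Cfsg.Agent.S0988

open Subgroup in
/-- With a Sylow subgroup of order `p ^ 2`, some prime outside `p` divides `(p-1)(p+1)`; with one of
prime order `p`, some prime divides `p - 1`. -/
theorem exists_aut_prime {G : Type*} [Group G] [Finite G] [IsSimpleGroup G] {p e m : ℕ} [Fact p.Prime]
    (hG : Nat.card G = p ^ e * m) (hm : ¬ p ∣ m) (hm1 : 1 < m) (he : e = 1 ∨ e = 2) :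
    ∃ s, s.Prime ∧ s ∣ m ∧ s ∣ (p - 1) * (p + 1) ∧ (e = 1 → s ∣ p - 1) := by
  have hp : p.Prime := Fact.out
  obtain ⟨P⟩ := (inferInstance : Nonempty (Sylow p G))
  have hP := CfsgLib.SmallOrder.card_sylow_eq hG hm P
  have hpe : 1 < p ^ e := Nat.one_lt_pow (by omega) hp.one_lt
  have hne : (P : Subgroup G) ≠ ⊤ := by
    intro h
    rw [h, Subgroup.card_top, hG] at hP
    have hlt : p ^ e * 1 < p ^ e * m := Nat.mul_lt_mul_of_pos_left hm1 (by omega)
    omega
  set N := normalizer ((P : Subgroup G) : Set G)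
  set k := ((P : Subgroup G).subgroupOf N).index
  have hk : Nat.card ↥N = Nat.card ↥(P : Subgroup G) * k := by
    rw [← Subgroup.card_mul_index ((P : Subgroup G).subgroupOf N),
      Nat.card_congr (Subgroup.subgroupOfEquivOfLe Subgroup.le_normalizer).toEquiv]
  have hkm : k ∣ m := by
    have h1 : Nat.card ↥(P : Subgroup G) * k ∣ Nat.card G := hk ▸ Subgroup.card_subgroup_dvd_card N
    rw [hP, hG] at h1
    exact Nat.dvd_of_mul_dvd_mul_left (by omega) h1
  have hdvd : p ∣ Nat.card G := hG ▸ Dvd.dvd.mul_right (dvd_pow_self p (by omega)) m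
  have hab := CfsgLib.SmallOrder.isMulCommutative_of_card_eq_prime_or_sq P
    (by rw [hP]; rcases he with rfl | rfl <;> simp)
  obtain ⟨s, hs, h1, h2⟩ := Nat.Prime.not_coprime_iff_dvd.1
    (CfsgLib.SmallOrder.not_coprime_aut hdvd P hne hab hk)
  have hsm := h1.trans hkm
  have hsp : s ≠ p := fun h => hm (h ▸ hsm)
  refine ⟨s, hs, hsm, ?_⟩
  rcases he with rfl | rfl
  · have : IsCyclic ↥(P : Subgroup G) := isCyclic_of_prime_card (by simpa using hP)
    rw [IsCyclic.card_mulAut, hP, pow_one, Nat.totient_prime hp] at h2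
    exact ⟨h2.trans (dvd_mul_right _ _), fun _ => h2⟩
  · refine ⟨?_, fun h => absurd h (by norm_num)⟩
    rcases hs.dvd_mul.1 (CfsgLib.SmallOrder.prime_dvd_card_mulAut hp hs hP h2) with h | h
    · exact absurd ((Nat.prime_dvd_prime_iff_eq hs hp).1 h) hsp
    · exact h

/-- The order `12 * r`. -/
theorem twelve_mul {G : Type*} [Group G] [Finite G] [IsSimpleGroup G] {r : ℕ} [Fact r.Prime]
    (hr : 5 ≤ r) (hG : Nat.card G = r * 12) : Nat.card G = 60 := by
  have hnd : ¬ r ∣ 12 := fun h => by
    have := Nat.le_of_dvd (by norm_num) h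
    have hr' : r.Prime := Fact.out
    interval_cases r <;> first | (revert h; decide) | (revert hr'; norm_num)
  obtain ⟨h1, h2, h3, -⟩ := CfsgLib.SmallOrder.card_sylow_facts (p := r) (e := 1) (by simpa using hG) hnd
    one_pos (by norm_num)
  generalize Nat.card (Sylow r G) = n at h1 h2 h3
  have hn : r + 1 ≤ n := by
    have := Nat.div_add_mod n r
    have : 1 ≤ n / r := by
      rcases Nat.eq_zero_or_pos (n / r) with h0 | h0
      · rw [h0, mul_zero] at this; omega
      · exact h0
    nlinarith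
  have hn12 : n ∈ Nat.divisors 12 := Nat.mem_divisors.2 ⟨h1, by norm_num⟩
  have hnle := Nat.le_of_dvd (by norm_num) h1
  have hr' : r.Prime := Fact.out
  have hr12 : r = 5 ∨ r = 11 := by
    have hr12' : r < 12 := by omega
    interval_cases r <;> (first | omega | (exfalso; revert hr'; norm_num; done) | (interval_cases n <;> omega))
  rcases hr12 with rfl | rfl
  · exact hG
  · exfalso
    exact CfsgLib.SmallOrder.card_ne_of_orderExcluded (CfsgLib.SmallOrder.not_comm_of_not_prime
      (by rw [hG]; norm_num)) (by decide +kernel : CfsgLib.SmallOrder.orderExcluded (11 * 12) = true) hG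


/-- If a finite simple group has order p^2 * q * r with p, q and r prime, then its order is 60. -/
theorem result {G : Type*} [Group G] [Finite G] [IsSimpleGroup G] (p q r : ℕ) (hp : p.Prime) (hq : q.Prime) (hr : r.Prime) (hG : Nat.card G = p ^ 2 * q * r) : Nat.card G = 60 := by
  have hnc : ¬ IsMulCommutative G := CfsgLib.SmallOrder.not_comm_of_not_prime (by
    rw [hG, mul_assoc]
    exact Nat.not_prime_mul (Nat.one_lt_pow (by norm_num) hp.one_lt).ne'
      (by have := hq.two_le; have := hr.two_le; nlinarith))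
  have hsolv : ¬ Group.IsSolvable G := fun h => hnc ⟨⟨IsSimpleGroup.comm_iff_isSolvable.2 h⟩⟩
  have two : ∀ a b c d : ℕ, a.Prime → c.Prime → Nat.card G = a ^ b * c ^ d → False := fun a b c d ha hc h =>
    hsolv (CfsgLib.Char.isSolvable_of_card_eq_prime_pow_mul ha hc h)
  have hpq : p ≠ q := fun h => two p 3 r 1 hp hr (by rw [hG, ← h]; ring)
  have hpr : p ≠ r := fun h => two p 3 q 1 hp hq (by rw [hG, ← h]; ring)
  have hqr : q ≠ r := fun h => two p 2 q 2 hp hq (by rw [hG, ← h]; ring)
  -- order the two single primes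
  wlog hlt : q < r generalizing q r
  · exact this r q hr hq (by rw [hG]; ring) hpr hpq hqr.symm (by omega)
  have ndvd : ∀ {a b : ℕ}, a.Prime → b.Prime → a ≠ b → ¬ a ∣ b := fun ha hb h hd =>
    h ((Nat.prime_dvd_prime_iff_eq ha hb).1 hd)
  have : Fact p.Prime := ⟨hp⟩
  have : Fact q.Prime := ⟨hq⟩
  have : Fact r.Prime := ⟨hr⟩
  have one_lt_qr : 1 < q * r := by have := hq.two_le; have := hr.two_le; nlinarith
  have one_lt_pr : ∀ x : ℕ, x.Prime → 1 < p ^ 2 * x := fun x hx => by
    have := hp.two_le; have := hx.two_le; nlinarith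
  -- the prime q has a smaller prime below it
  obtain ⟨s, hs, hsm, -, hs1⟩ := exists_aut_prime (G := G) (p := q) (e := 1) (m := p ^ 2 * r)
    (by rw [hG]; ring) (fun h => (hq.dvd_mul.1 h).elim
      (fun h => ndvd hq hp hpq.symm (hq.dvd_of_dvd_pow h)) (ndvd hq hr hqr)) (one_lt_pr r hr) (Or.inl rfl)
  have hsq : s < q := by
    have h2 := hq.two_le
    have := Nat.le_of_dvd (by omega) (hs1 rfl)
    omega
  have hsp : s = p := (hs.dvd_mul.1 hsm).elim (fun h => (Nat.prime_dvd_prime_iff_eq hs hp).1 (hs.dvd_of_dvd_pow h))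
    (fun h => by have := (Nat.prime_dvd_prime_iff_eq hs hr).1 h; omega)
  subst hsp
  -- s is the smallest prime
  obtain ⟨t, ht, htm, ht2, -⟩ := exists_aut_prime (G := G) (p := s) (e := 2) (m := q * r) (by rw [hG]; ring)
    (fun h => (hs.dvd_mul.1 h).elim (ndvd hs hq hpq) (ndvd hs hr hpr)) one_lt_qr (Or.inr rfl)
  have hts : s < t := (hs.two_le.trans_lt' (by norm_num : (1 : ℕ) < 2)).trans_le le_rfl |> fun _ => by
    rcases ht.dvd_mul.1 htm with h | h <;> rw [(Nat.prime_dvd_prime_iff_eq ht (by assumption)).1 h] <;> omega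
  rcases ht.dvd_mul.1 ht2 with h | h
  · have := Nat.le_of_dvd (by have := hs.two_le; omega) h
    omega
  have ht3 : t = s + 1 := by
    have := Nat.le_of_dvd (by omega) h
    omega
  have hs2 : s = 2 := by
    rcases hs.eq_two_or_odd with h2 | h2
    · exact h2
    · have := hs.two_le
      rcases ht.eq_two_or_odd with h3 | h3 <;> omega
  subst hs2
  have hq3 : q = 3 := by
    rcases ht.dvd_mul.1 htm with h' | h'
    · have := (Nat.prime_dvd_prime_iff_eq ht hq).1 h'; omega
    · have := (Nat.prime_dvd_prime_iff_eq ht hr).1 h'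
      have := hq.two_le; omega
  subst hq3
  have hr5 : 5 ≤ r := by
    rcases hr.eq_two_or_odd with h' | h' <;> omega
  exact twelve_mul hr5 (by rw [hG]; ring)

end Cfsg.Agent.S0988
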