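import Cfsg.Statements.S0989
import Mathlib.GroupTheory.Perm.Centralizer
import Mathlib.GroupTheory.Sylow
import Mathlib.Data.Finite.Perm
import Mathlib.Tactic
import Mathlib.Data.Nat.Prime.Factorial

set_option autoImplicit false
open Cfsg

namespace Cfsg.Agent.S0989

/-- Permutations of order `p` on `p` or `p + 1` letters are the `p`-cycles. -/
theorem cycleType_iff {α : Type*} [Fintype α] [DecidableEq α] {p : ℕ} [Fact p.Prime]
    (hα : Fintype.card α = p ∨ Fintype.card α = p + 1) (σ : Equiv.Perm α) :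
    σ.cycleType = {p} ↔ orderOf σ = p := by
  have hp : p.Prime := Fact.out
  constructor
  · intro h
    rw [← Equiv.Perm.lcm_cycleType, h, Multiset.lcm_singleton, normalize_eq]
  · intro h
    obtain ⟨n, hn⟩ := Equiv.Perm.cycleType_prime_order (by rwa [h] : (orderOf σ).Prime)
    rw [h] at hn
    have h1 := Equiv.Perm.sum_cycleType_le σ
    rw [hn, Multiset.sum_replicate, smul_eq_mul] at h1
    have := hp.two_le
    have : n = 0 := by
      by_contra hne
      have : 2 * p ≤ (n + 1) * p := Nat.mul_le_mul_right _ (by omega)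
      omega
    rw [hn, this]; rfl


/-- In the symmetric group on p or p + 1 letters, p a prime, the normalizer of a Sylow p-subgroup has order p * (p - 1). -/
theorem result {α : Type*} [Fintype α] [DecidableEq α] (p : ℕ) [Fact p.Prime] (hα : Fintype.card α = p ∨ Fintype.card α = p + 1) (P : Sylow p (Equiv.Perm α)) : Nat.card ↥(Subgroup.normalizer ((P : Subgroup (Equiv.Perm α)) : Set (Equiv.Perm α))) = p * (p - 1) := by
  classical
  have hp : p.Prime := Fact.out
  set c := Fintype.card α
  have hc2 : c ≤ p + 1 ∧ p ≤ c := by omega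
  have hPcard : Nat.card ↥(P : Subgroup (Equiv.Perm α)) = p := by
    obtain ⟨n, hn⟩ := IsPGroup.iff_card.1 P.2
    have hd := Subgroup.card_subgroup_dvd_card (P : Subgroup (Equiv.Perm α))
    rw [Nat.card_perm, Nat.card_eq_fintype_card (α := α), hn] at hd
    have h1 : 1 ≤ n := by
      by_contra h
      have hn0 : n = 0 := by omega
      have := P.ne_bot_of_dvd_card (by rw [Nat.card_perm, Nat.card_eq_fintype_card (α := α)]; exact hp.dvd_factorial.2 hc2.2)
      exact this (Subgroup.card_eq_one.1 (by rw [hn, hn0, pow_zero]))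
    have h2 : n < 2 := by
      by_contra h
      have hdd : p * p ∣ c.factorial := (by rw [← pow_two]; exact pow_dvd_pow p (by omega) : p * p ∣ p ^ n).trans hd
      have := hp.two_le
      rcases hα with e | e
      · rw [e, ← Nat.mul_factorial_pred hp.ne_zero] at hdd
        have := hp.dvd_factorial.1 (Nat.dvd_of_mul_dvd_mul_left hp.pos hdd)
        omega
      · rw [e, Nat.factorial_succ, ← Nat.mul_factorial_pred hp.ne_zero, mul_left_comm] at hdd
        rcases hp.dvd_mul.1 (Nat.dvd_of_mul_dvd_mul_left hp.pos hdd) with h' | h'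
        · exact hp.not_dvd_one ((Nat.dvd_add_right (dvd_refl p)).1 h')
        · have := hp.dvd_factorial.1 h'; omega
    rw [hn, show n = 1 by omega, pow_one]
  -- the elements of order p are counted by the Sylow subgroups
  have hsyl : ∀ Q : Sylow p (Equiv.Perm α), Nat.card ↥(Q : Subgroup (Equiv.Perm α)) = p := fun Q => by
    rw [Q.card_eq_multiplicity, ← P.card_eq_multiplicity, hPcard]
  have hmem : ∀ σ : Equiv.Perm α, orderOf σ = p → ∃ Q : Sylow p (Equiv.Perm α), σ ∈ (Q : Subgroup (Equiv.Perm α)) := by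
    intro σ hσ
    obtain ⟨Q, hQ⟩ := (IsPGroup.of_card (n := 1) (by rw [Nat.card_zpowers, hσ, pow_one]) :
      IsPGroup p ↥(Subgroup.zpowers σ)).exists_le_sylow
    exact ⟨Q, hQ (Subgroup.mem_zpowers σ)⟩
  have hord : ∀ (Q : Sylow p (Equiv.Perm α)) (x : ↥(Q : Subgroup (Equiv.Perm α))), x ≠ 1 → orderOf (x : Equiv.Perm α) = p := by
    intro Q x hx
    have hd : orderOf x ∣ p := (orderOf_dvd_natCard x).trans (hsyl Q).dvd
    rw [Subgroup.orderOf_coe]
    exact ((hp.eq_one_or_self_of_dvd _ hd).resolve_left (by simpa using hx))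
  let φ : (Σ Q : Sylow p (Equiv.Perm α), {x : ↥(Q : Subgroup (Equiv.Perm α)) // x ≠ 1}) →
      {σ : Equiv.Perm α // orderOf σ = p} := fun z => ⟨_, hord z.1 z.2.1 z.2.2⟩
  have hφ : Function.Bijective φ := by
    refine ⟨fun ⟨Q, x, hx⟩ ⟨Q', x', hx'⟩ h => ?_, fun ⟨σ, hσ⟩ => ?_⟩
    · have h' : (x : Equiv.Perm α) = x' := congrArg Subtype.val h
      have e : ∀ (R : Sylow p (Equiv.Perm α)) (y : ↥(R : Subgroup (Equiv.Perm α))), y ≠ 1 →
          Subgroup.zpowers (y : Equiv.Perm α) = R := fun R y hy =>
        Subgroup.eq_of_le_of_card_ge (Subgroup.zpowers_le.2 y.2) (by rw [Nat.card_zpowers, hord R y hy, hsyl R])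
      obtain rfl : Q = Q' := Sylow.ext (by rw [← e Q x hx, ← e Q' x' hx', h'])
      obtain rfl : x = x' := Subtype.ext h'
      rfl
    · obtain ⟨Q, hQ⟩ := hmem σ hσ
      refine ⟨⟨Q, ⟨σ, hQ⟩, fun h => ?_⟩, rfl⟩
      have : σ = 1 := congrArg Subtype.val h
      rw [this, orderOf_one] at hσ
      exact hp.one_lt.ne hσ
  have hcount : Nat.card (Sylow p (Equiv.Perm α)) * (p - 1) = Nat.card {σ : Equiv.Perm α // orderOf σ = p} := by
    rw [← Nat.card_congr (Equiv.ofBijective φ hφ)]
    have := Fintype.ofFinite (Sylow p (Equiv.Perm α))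
    rw [Nat.card_sigma, Finset.sum_congr rfl (g := fun _ => p - 1) fun Q _ => ?_, Finset.sum_const,
      Finset.card_univ, Nat.card_eq_fintype_card, smul_eq_mul]
    rw [Nat.card_eq_fintype_card, Fintype.card_subtype_compl, ← Nat.card_eq_fintype_card, hsyl Q,
      Fintype.card_subtype_eq]
  have hcyc : Nat.card {σ : Equiv.Perm α // orderOf σ = p} * p = c.factorial := by
    rw [Nat.card_eq_fintype_card, Fintype.card_subtype, ← Finset.filter_congr (fun σ _ => cycleType_iff hα σ),
      Equiv.Perm.card_of_cycleType_singleton hp.two_le hc2.2]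
    rw [mul_comm ((p - 1).factorial), mul_assoc, mul_comm _ p, Nat.mul_factorial_pred hp.ne_zero]
    rcases hα with e | e <;> simp only [show Fintype.card α = _ from e, show c = _ from e]
    · simp
    · rw [Nat.choose_succ_self_right, Nat.factorial_succ]
  have hmul := P.card_eq_index_normalizer ▸ Subgroup.card_mul_index (Subgroup.normalizer ((P : Subgroup (Equiv.Perm α)) : Set (Equiv.Perm α)))
  rw [Nat.card_perm, Nat.card_eq_fintype_card (α := α), ← hcyc, ← hcount] at hmul
  exact Nat.eq_of_mul_eq_mul_right (Nat.card_pos (α := Sylow p (Equiv.Perm α))) (by rw [hmul]; ring)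

end Cfsg.Agent.S0989
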