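import Cfsg.Statements.S0990
import Mathlib.GroupTheory.SpecificGroups.Alternating
import Mathlib.GroupTheory.Sylow
import Mathlib.Tactic

set_option autoImplicit false
open Cfsg

namespace Cfsg.Agent.S0990

/-- Let p be an odd prime and P a Sylow p-subgroup of the symmetric group on a finite set with at least two elements. Then P is contained in the alternating group, and twice the order of the normalizer of P inside the alternating group equals the order of the normalizer of P in the symmetric group. -/
theorem result {α : Type*} [Fintype α] [DecidableEq α] (hα : 2 ≤ Fintype.card α) (p : ℕ) [Fact p.Prime] (hp : p ≠ 2) (P : Sylow p (Equiv.Perm α)) : (P : Subgroup (Equiv.Perm α)) ≤ alternatingGroup α ∧ 2 * Nat.card ↥(Subgroup.normalizer ((((P : Subgroup (Equiv.Perm α)).subgroupOf (alternatingGroup α) : Subgroup ↥(alternatingGroup α)) : Set ↥(alternatingGroup α)))) = Nat.card ↥(Subgroup.normalizer ((P : Subgroup (Equiv.Perm α)) : Set (Equiv.Perm α))) := by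
  classical
  have : Nontrivial α := Fintype.one_lt_card_iff_nontrivial.1 hα
  set S := Equiv.Perm α
  set A := alternatingGroup α
  have hle : (P : Subgroup S) ≤ A := by
    intro x hx
    rw [Equiv.Perm.mem_alternatingGroup]
    obtain ⟨k, hk⟩ := P.2 ⟨x, hx⟩
    have hk' : x ^ p ^ k = 1 := congrArg Subtype.val hk
    have hodd : Odd (p ^ k) := ((Fact.out : p.Prime).odd_of_ne_two hp).pow
    rcases Int.units_eq_one_or (Equiv.Perm.sign x) with h | h
    · exact h
    · have h1 : (Equiv.Perm.sign x) ^ p ^ k = 1 := by rw [← map_pow, hk', map_one]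
      rw [h, hodd.neg_one_pow] at h1
      exact absurd h1 (by decide)
  refine ⟨hle, ?_⟩
  set N := Subgroup.normalizer ((P : Subgroup S) : Set S)
  have hfr : N ⊔ A = ⊤ := Sylow.normalizer_sup_eq_top' P hle
  have hrel : A.relIndex N = 2 := by
    have h := alternatingGroup.index_eq_two (α := α)
    rw [← Subgroup.relIndex_top_right, ← hfr, Subgroup.relIndex_sup_right] at h
    exact h
  have e : Subgroup.normalizer ((((P : Subgroup S).subgroupOf A : Subgroup A)) : Set A) = N.subgroupOf A := by
    rw [← Subgroup.subgroupOf_normalizer_eq hle]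
  rw [e]
  have h1 : Nat.card ↥(N.subgroupOf A) = Nat.card ↥(A.subgroupOf N) := by
    rw [← Subgroup.card_map_of_injective A.subtype_injective, ← Subgroup.card_map_of_injective (H := S) (K := A.subgroupOf N) N.subtype_injective,
      Subgroup.subgroupOf_map_subtype, Subgroup.subgroupOf_map_subtype, inf_comm]
  rw [h1, mul_comm, show 2 = (A.subgroupOf N).index from hrel.symm, Subgroup.card_mul_index]

end Cfsg.Agent.S0990
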