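import Cfsg.Statements.S0992
import Cfsg.Agent.Lib.SmallOrder.Basic
import Mathlib.GroupTheory.SpecificGroups.KleinFour
import Mathlib.Tactic

set_option autoImplicit false
open Cfsg

namespace Cfsg.Agent.S0992

/-- The automorphisms of a group of order four inject into the permutations of three points. -/
theorem card_mulAut_dvd_six {A : Type*} [Group A] [Finite A] (hA : Nat.card A = 4) :
    Nat.card (MulAut A) ∣ 6 := by
  classical
  let f : MulAut A →* Equiv.Perm {a : A // a ≠ 1} :=
    { toFun := fun φ => Equiv.Perm.subtypePerm φ.toEquiv (fun a => by simp)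
      map_one' := by ext; rfl
      map_mul' := fun φ ψ => by ext; rfl }
  have hf : Function.Injective f := fun φ ψ h => by
    ext a
    by_cases ha : a = 1
    · rw [ha, map_one, map_one]
    · exact congrArg Subtype.val (Equiv.Perm.ext_iff.1 h ⟨a, ha⟩)
  have := Subgroup.card_dvd_of_injective f hf
  have h3 : Nat.card {a : A // a ≠ 1} = 3 := by
    have := Fintype.ofFinite A
    rw [Nat.card_eq_fintype_card, Fintype.card_subtype_compl, Fintype.card_subtype_eq,
      ← Nat.card_eq_fintype_card, hA]
  rwa [Nat.card_perm, h3] at this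


/-- Let G be a non-abelian finite simple group of even order not divisible by 8, and T a Sylow 2-subgroup. Then T is a Klein four-group and the centralizer of T has index 3 in the normalizer of T. -/
theorem result {G : Type*} [Group G] [Finite G] [IsSimpleGroup G] (hG : ¬ IsMulCommutative G) (h2 : Even (Nat.card G)) (h8 : ¬ 8 ∣ Nat.card G) (T : Sylow 2 G) : IsKleinFour ↥(T : Subgroup G) ∧ (Subgroup.centralizer ((T : Subgroup G) : Set G)).relIndex (Subgroup.normalizer ((T : Subgroup G) : Set G)) = 3 := by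
  classical
  have : Fact (Nat.Prime 2) := ⟨Nat.prime_two⟩
  have h2' : 2 ∣ Nat.card G := h2.two_dvd
  set N := Subgroup.normalizer ((T : Subgroup G) : Set G)
  set C := Subgroup.centralizer ((T : Subgroup G) : Set G)
  obtain ⟨n, hn⟩ := IsPGroup.iff_card.1 T.2
  have hn3 : n < 3 := by
    by_contra h
    exact h8 ((pow_dvd_pow 2 (by omega) : 2 ^ 3 ∣ 2 ^ n).trans (hn ▸ Subgroup.card_subgroup_dvd_card _))
  have hn0 : n ≠ 0 := fun h => T.ne_bot_of_dvd_card h2' (Subgroup.card_eq_one.1 (by rw [hn, h, pow_zero]))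
  have hne : (T : Subgroup G) ≠ ⊤ := by
    intro h
    apply hG
    have hc := CfsgLib.SmallOrder.isMulCommutative_of_card_eq_prime_or_sq T
      (by rw [hn]; rcases (show n = 1 ∨ n = 2 by omega) with h | h <;> simp [h])
    exact ⟨⟨fun a b => congrArg Subtype.val (hc.is_comm.comm ⟨a, h ▸ Subgroup.mem_top a⟩ ⟨b, h ▸ Subgroup.mem_top b⟩)⟩⟩
  have hab := CfsgLib.SmallOrder.isMulCommutative_of_card_eq_prime_or_sq T
    (by rw [hn]; rcases (show n = 1 ∨ n = 2 by omega) with h | h <;> simp [h])
  set m := ((T : Subgroup G).subgroupOf N).index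
  have hm : Nat.card ↥N = Nat.card ↥(T : Subgroup G) * m := by
    rw [← Subgroup.card_mul_index ((T : Subgroup G).subgroupOf N),
      Nat.card_congr (Subgroup.subgroupOfEquivOfLe Subgroup.le_normalizer).toEquiv]
  have hodd : ¬ 2 ∣ m := by
    intro h
    apply T.not_dvd_index
    exact h.trans (Subgroup.relIndex_dvd_index_of_le (Subgroup.le_normalizer : (T : Subgroup G) ≤ N))
  have hnc := CfsgLib.SmallOrder.not_coprime_aut h2' T hne hab hm
  have hcop2 : Nat.Coprime m 2 := (Nat.prime_two.coprime_iff_not_dvd.2 hodd).symm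
  have hn2 : n = 2 := by
    by_contra h
    obtain rfl : n = 1 := by omega
    have : IsCyclic ↥(T : Subgroup G) := isCyclic_of_prime_card (by simpa using hn)
    rw [IsCyclic.card_mulAut, hn] at hnc
    exact hnc (by norm_num [show Nat.totient 2 = 1 from rfl])
  subst hn2
  have hcard : Nat.card ↥(T : Subgroup G) = 4 := hn
  have hncyc : ¬ IsCyclic ↥(T : Subgroup G) := by
    intro hc
    rw [IsCyclic.card_mulAut, hcard, show Nat.totient 4 = 2 from rfl] at hnc
    exact hnc hcop2
  refine ⟨⟨hcard, (not_isCyclic_iff_exponent_eq_prime (p := 2) Nat.prime_two hcard).1 hncyc⟩, ?_⟩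
  have h1 : C.relIndex N ∣ Nat.card (MulAut ↥(T : Subgroup G)) := by
    have h := Subgroup.index_ker (Subgroup.normalizerMonoidHom (T : Subgroup G))
    rw [Subgroup.normalizerMonoidHom_ker] at h
    rw [show C.relIndex N = _ from h]
    exact Subgroup.card_subgroup_dvd_card _
  have h6 := h1.trans (card_mulAut_dvd_six hcard)
  have hTC : (T : Subgroup G) ≤ C := fun x hx => Subgroup.mem_centralizer_iff.2 fun y hy =>
    congrArg Subtype.val (hab.is_comm.comm ⟨y, hy⟩ ⟨x, hx⟩)
  have hr2 : ¬ 2 ∣ C.relIndex N := fun h => hodd (h.trans (Subgroup.relIndex_dvd_of_le_left N hTC))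
  have hr1 : C.relIndex N ≠ 1 := fun h => CfsgLib.SmallOrder.not_normalizer_le_centralizer h2' T hne
    (Subgroup.relIndex_eq_one.1 h)
  have : C.relIndex N ∈ Nat.divisors 6 := Nat.mem_divisors.2 ⟨h6, by norm_num⟩
  generalize C.relIndex N = r at this hr2 hr1
  revert hr2 hr1; revert this r
  decide

end Cfsg.Agent.S0992
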