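import Cfsg.Statements.S0994
import Cfsg.Agent.Lib.SmallOrder.Basic
import Mathlib.NumberTheory.Divisors
import Mathlib.Tactic.NormNum.Prime

set_option autoImplicit false
open Cfsg

namespace Cfsg.Agent.S0994

/-- No finite simple group has order 1188 = 2^2 * 3^3 * 11. -/
theorem result {G : Type*} [Group G] [Finite G] [IsSimpleGroup G] : Nat.card G ≠ 1188 := by
  intro hN
  have : Fact (Nat.Prime 11) := ⟨by norm_num⟩
  obtain ⟨h1, h2, h3, h4⟩ := CfsgLib.SmallOrder.card_sylow_facts (p := 11) (e := 1) (m := 108)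
    (by omega) (by norm_num) (by norm_num) (by norm_num)
  have hm : Nat.card (Sylow 11 G) ∈ Nat.divisors 108 := Nat.mem_divisors.2 ⟨h1, by norm_num⟩
  have hn : Nat.card (Sylow 11 G) = 12 := by
    generalize Nat.card (Sylow 11 G) = n at hm h2 h3
    revert h2 h3
    revert hm n
    decide
  exact CfsgLib.SmallOrder.not_coprime_of_prime_order (p := 11) (m := 108) (by omega) (by norm_num)
    (by norm_num) (k := 9) (by rw [hn]) (by norm_num)

end Cfsg.Agent.S0994
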