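import Cfsg.Statements.S0995
import Cfsg.Agent.Lib.SmallOrder.Basic
import Mathlib.Tactic.Ring
import Mathlib.GroupTheory.GroupAction.ConjAct
import Mathlib.Algebra.Group.ConjFinite
import Mathlib.GroupTheory.PGroup

set_option autoImplicit false
open Cfsg

namespace Cfsg.Agent.S0995

/-- Let G be a finite perfect group containing an element z of prime order p whose centralizer is the cyclic group it generates. Let t be the number of conjugacy classes of elements of order p. Then t divides p - 1, the number of Sylow p-subgroups has the form 1 + n * p, and |G| * t = (p - 1) * p * (1 + n * p). -/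
theorem result {G : Type*} [Group G] [Finite G] (hperf : commutator G = ⊤) (p : ℕ) [Fact p.Prime] (z : G) (hz : orderOf z = p) (hC : Subgroup.centralizer ({z} : Set G) = Subgroup.zpowers z) : ∃ n t : ℕ, t = Nat.card {c : ConjClasses G // ∃ g : G, ConjClasses.mk g = c ∧ orderOf g = p} ∧ t ∣ p - 1 ∧ Nat.card (Sylow p G) = 1 + n * p ∧ Nat.card G * t = (p - 1) * p * (1 + n * p) := by
  classical
  have hp : p.Prime := Fact.out
  have hzc : Nat.card (Subgroup.zpowers z) = p := by rw [Nat.card_zpowers, hz]
  have hzp : IsPGroup p (Subgroup.zpowers z) :=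
    IsPGroup.of_card (n := 1) (by rw [pow_one]; exact hzc)
  obtain ⟨P, hzP⟩ := hzp.exists_le_sylow
  have hPz : (P : Subgroup G) = Subgroup.zpowers z := by
    refine le_antisymm ?_ hzP
    have : Nontrivial ↥(P : Subgroup G) := (Subgroup.nontrivial_iff_ne_bot _).2
      (P.ne_bot_of_dvd_card (hz ▸ orderOf_dvd_natCard z))
    have hnt := P.2.center_nontrivial
    obtain ⟨⟨c, hc⟩, hcne⟩ := exists_ne (1 : Subgroup.center ↥(P : Subgroup G))
    have hcz : (c : G) ∈ Subgroup.zpowers z := by
      rw [← hC, Subgroup.mem_centralizer_singleton_iff]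
      exact (congrArg Subtype.val (Subgroup.mem_center_iff.1 hc ⟨z, hzP (Subgroup.mem_zpowers z)⟩)).symm
    have hc1 : (c : G) ≠ 1 := fun h => hcne (by ext; exact h)
    have hgen : z ∈ Subgroup.zpowers (c : G) := by
      have heq : Subgroup.zpowers (c : G) = Subgroup.zpowers z := by
        refine Subgroup.eq_of_le_of_card_ge (Subgroup.zpowers_le.2 hcz) ?_
        rw [hzc, Nat.card_zpowers]
        have hd := Subgroup.orderOf_dvd_natCard _ hcz
        rw [hzc] at hd
        exact (((Nat.dvd_prime hp).1 hd).resolve_left (fun h => hc1 (orderOf_eq_one_iff.1 h))).ge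
      exact heq ▸ Subgroup.mem_zpowers z
    intro y hy
    rw [← hC, Subgroup.mem_centralizer_singleton_iff]
    obtain ⟨i, rfl⟩ := hgen
    have hyc : Commute y (c : G) := congrArg Subtype.val (Subgroup.mem_center_iff.1 hc ⟨y, hy⟩)
    exact (hyc.zpow_right i).eq
  have hP : Nat.card ↥(P : Subgroup G) = p := by rw [hPz, hzc]
  -- elements of order p
  have hgenQ : ∀ (Q : Sylow p G) (y : G), orderOf y = p →
      (y ∈ (Q : Subgroup G) ↔ (Q : Subgroup G) = Subgroup.zpowers y) := by
    intro Q y hy
    refine ⟨fun h => (Subgroup.eq_of_le_of_card_ge (Subgroup.zpowers_le.2 h) ?_).symm,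
      fun h => h ▸ Subgroup.mem_zpowers y⟩
    rw [Nat.card_zpowers, hy, Q.card_eq_multiplicity, ← P.card_eq_multiplicity, hP]
  have hQcard : ∀ Q : Sylow p G, Nat.card ↥(Q : Subgroup G) = p := fun Q => by
    rw [Q.card_eq_multiplicity, ← P.card_eq_multiplicity, hP]
  let S := {g : G // orderOf g = p}
  have hS1 : Nat.card S = Nat.card (Sylow p G) * (p - 1) := by
    have h : ∀ Q : Sylow p G, Nat.card {u : ↥(Q : Subgroup G) // u ≠ 1} = p - 1 := by
      intro Q
      have := Fintype.ofFinite ↥(Q : Subgroup G)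
      rw [Nat.card_eq_fintype_card, Fintype.card_subtype_compl, Fintype.card_subtype_eq,
        ← Nat.card_eq_fintype_card, hQcard Q]
    have hord : ∀ (Q : Sylow p G) (u : ↥(Q : Subgroup G)), u ≠ 1 → orderOf (u : G) = p := fun Q u hu =>
      by
        have hd := Subgroup.orderOf_dvd_natCard _ u.2
        rw [hQcard Q] at hd
        exact ((Nat.dvd_prime hp).1 hd).resolve_left
          (fun h1 => hu (Subtype.ext (orderOf_eq_one_iff.1 h1)))
    let e : (Σ Q : Sylow p G, {u : ↥(Q : Subgroup G) // u ≠ 1}) → S :=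
      fun s => ⟨(s.2.1 : G), hord s.1 s.2.1 s.2.2⟩
    have he : Function.Bijective e := by
      constructor
      · rintro ⟨Q, ⟨⟨u, hu⟩, hu1⟩⟩ ⟨R, ⟨⟨v, hv⟩, hv1⟩⟩ huv
        have huv' : u = v := congrArg Subtype.val huv
        subst huv'
        obtain rfl : Q = R := Sylow.ext
          (((hgenQ Q u (hord Q ⟨u, hu⟩ hu1)).1 hu).trans ((hgenQ R u (hord Q ⟨u, hu⟩ hu1)).1 hv).symm)
        rfl
      · rintro ⟨y, hy⟩
        obtain ⟨Q, hQ⟩ := (IsPGroup.of_card (p := p) (n := 1)
          (by rw [Nat.card_zpowers, hy, pow_one] :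
            Nat.card (Subgroup.zpowers y) = p ^ 1)).exists_le_sylow
        refine ⟨⟨Q, ⟨⟨y, hQ (Subgroup.mem_zpowers y)⟩, fun h1 => ?_⟩⟩, rfl⟩
        have : y = 1 := congrArg Subtype.val h1
        rw [this, orderOf_one] at hy
        exact hp.one_lt.ne hy
    have := Fintype.ofFinite (Sylow p G)
    rw [← Nat.card_eq_of_bijective e he, Nat.card_sigma, Finset.sum_congr rfl (fun Q _ => h Q)]
    simp [Nat.card_eq_fintype_card]
  -- centralisers of elements of order p
  have hCy : ∀ y : G, orderOf y = p → Nat.card (Subgroup.centralizer ({y} : Set G)) = p := by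
    intro y hy
    obtain ⟨Q, hQ⟩ := (IsPGroup.of_card (p := p) (n := 1)
      (by rw [Nat.card_zpowers, hy, pow_one] : Nat.card (Subgroup.zpowers y) = p ^ 1)).exists_le_sylow
    obtain ⟨g, hg⟩ := MulAction.exists_smul_eq G P Q
    have hz' : MulAut.conj g z ∈ (Q : Subgroup G) := by
      rw [← hg, Sylow.coe_subgroup_smul]
      exact ⟨z, hzP (Subgroup.mem_zpowers z), rfl⟩
    have hz'o : orderOf (MulAut.conj g z) = p := by
      rw [MulEquiv.orderOf_eq, hz]
    have h1 := (hgenQ Q _ hz'o).1 hz'
    have h2 := (hgenQ Q y hy).1 (hQ (Subgroup.mem_zpowers y))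
    have h3 : Subgroup.centralizer ({y} : Set G) =
        (Subgroup.centralizer ({z} : Set G)).map (MulAut.conj g).toMonoidHom := by
      rw [← Subgroup.centralizer_closure, ← Subgroup.zpowers_eq_closure, ← h2, h1,
        Subgroup.zpowers_eq_closure, Subgroup.centralizer_closure]
      ext w
      simp only [Subgroup.mem_centralizer_singleton_iff, Subgroup.mem_map]
      constructor
      · intro hw
        refine ⟨(MulAut.conj g).symm w, ?_, (MulAut.conj g).apply_symm_apply w⟩
        apply (MulAut.conj g).injective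
        rw [map_mul, map_mul, MulEquiv.apply_symm_apply]
        exact hw
      · rintro ⟨v, hv, rfl⟩
        simp only [MulEquiv.coe_toMonoidHom, ← map_mul, hv]
    rw [h3, Nat.card_congr (Subgroup.equivMapOfInjective _ (MulAut.conj g).toMonoidHom
      (MulAut.conj g).injective).toEquiv.symm, hC, hzc]
  let T := {c : ConjClasses G // ∃ g : G, ConjClasses.mk g = c ∧ orderOf g = p}
  have hS2 : p * Nat.card S = Nat.card T * Nat.card G := by
    let k : S → T := fun s => ⟨ConjClasses.mk s.1, s.1, rfl, s.2⟩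
    have := Fintype.ofFinite T
    rw [← Nat.card_congr (Equiv.sigmaFiberEquiv k), Nat.card_sigma, Finset.mul_sum]
    have : ∀ c : T, p * Nat.card {s : S // k s = c} = Nat.card G := by
      rintro ⟨c, g, rfl, hg⟩
      rw [← (Subgroup.centralizer ({g} : Set G)).card_mul_index, hCy g hg]
      congr 1
      have e : {s : S // k s = ⟨ConjClasses.mk g, g, rfl, hg⟩} ≃ MulAction.orbit (ConjAct G) g :=
        ⟨fun s => ⟨s.1.1, ConjAct.mem_orbit_conjAct.2 (ConjClasses.mk_eq_mk_iff_isConj.1
            (congrArg Subtype.val s.2))⟩,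
          fun y => ⟨⟨y.1, by
            obtain ⟨a, ha⟩ := y.2
            rw [← ha]
            change orderOf (ConjAct.ofConjAct a * g * (ConjAct.ofConjAct a)⁻¹) = p
            rw [show ConjAct.ofConjAct a * g * (ConjAct.ofConjAct a)⁻¹ =
              MulAut.conj (ConjAct.ofConjAct a) g from rfl, MulEquiv.orderOf_eq, hg]⟩,
            Subtype.ext (ConjClasses.mk_eq_mk_iff_isConj.2 (ConjAct.mem_orbit_conjAct.1 y.2))⟩,
          fun _ => rfl, fun _ => rfl⟩
      rw [Nat.card_congr e, Nat.card_coe_set_eq, ← MulAction.index_stabilizer,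
        ConjAct.stabilizer_eq_centralizer]
      rfl
    rw [Finset.sum_congr rfl (fun c _ => this c)]
    simp [Nat.card_eq_fintype_card]
  have hNm := CfsgLib.SmallOrder.card_normalizer_mul P
  obtain ⟨e, he⟩ : p ∣ Nat.card ↥(Subgroup.normalizer ((P : Subgroup G) : Set G)) := by
    have := Subgroup.card_dvd_of_le (Subgroup.le_normalizer : (P : Subgroup G) ≤ _)
    rwa [hP] at this
  refine ⟨(Nat.card (Sylow p G) - 1) / p, Nat.card T, rfl, ?_, ?_, ?_⟩
  · refine ⟨e, Nat.eq_of_mul_eq_mul_left (Nat.mul_pos hp.pos (Nat.card_pos (α := Sylow p G))) ?_⟩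
    calc p * Nat.card (Sylow p G) * (p - 1) = p * Nat.card S := by rw [hS1, mul_assoc]
      _ = Nat.card T * Nat.card G := hS2
      _ = p * Nat.card (Sylow p G) * (Nat.card T * e) := by rw [← hNm, he]; ring
  · have h1 := card_sylow_modEq_one p G
    have h2 : p ∣ Nat.card (Sylow p G) - 1 := (Nat.modEq_iff_dvd' Nat.card_pos).1 h1.symm
    rw [Nat.div_mul_cancel h2]
    have := Nat.card_pos (α := Sylow p G)
    omega
  · have h1 := card_sylow_modEq_one p G
    have h2 : p ∣ Nat.card (Sylow p G) - 1 := (Nat.modEq_iff_dvd' Nat.card_pos).1 h1.symm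
    rw [Nat.div_mul_cancel h2, show 1 + (Nat.card (Sylow p G) - 1) = Nat.card (Sylow p G) by
      have := Nat.card_pos (α := Sylow p G); omega]
    calc Nat.card G * Nat.card T = p * Nat.card S := by rw [hS2, mul_comm]
      _ = (p - 1) * p * Nat.card (Sylow p G) := by rw [hS1]; ring

end Cfsg.Agent.S0995
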