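import Cfsg.Statements.S0997
import Cfsg.Agent.Lib.BrauerTuan.Minus.Main
import Cfsg.Agent.Lib.BrauerRey.Main

set_option autoImplicit false
open Cfsg

namespace Cfsg.Agent.S0997

/-- Let G be a non-cyclic finite simple group of order p * q^b * g₀, where p and q are distinct primes and g₀ < p - 1. Then either p has the form 2^m + 1 or 2^m - 1 and G is isomorphic to the projective special linear group of dimension 2 over the field with p elements, or p = 2^m + 1 > 3 and G is isomorphic to that group over the field with 2^m elements. -/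
theorem result {G : Type*} [Group G] [Finite G] [IsSimpleGroup G] (hG : ¬ IsCyclic G) (p q b g₀ : ℕ) (hp : p.Prime) (hq : q.Prime) (hpq : p ≠ q) (hG' : Nat.card G = p * q ^ b * g₀) (hg : g₀ < p - 1) : (∃ (m : ℕ) (F : Type) (_ : Field F) (_ : Fintype F), Fintype.card F = p ∧ (p = 2 ^ m + 1 ∨ p = 2 ^ m - 1) ∧ Nonempty (G ≃* Matrix.ProjectiveSpecialLinearGroup (Fin 2) F)) ∨ (∃ (m : ℕ) (F : Type) (_ : Field F) (_ : Fintype F), Fintype.card F = 2 ^ m ∧ p = 2 ^ m + 1 ∧ 3 < p ∧ Nonempty (G ≃* Matrix.ProjectiveSpecialLinearGroup (Fin 2) F)) := by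
  haveI := Fact.mk hp
  have hna : ¬ IsMulCommutative G := fun h => hG (by
    letI : CommGroup G := { (inferInstance : Group G) with mul_comm := h.is_comm.comm }
    exact IsSimpleGroup.isCyclic)
  obtain ⟨z, y, e, t, n, X, Y, σ, δ, f₀, T⟩ :=
    CfsgLib.BrauerTuan.exists_tuan hna hq hpq hG' (by omega)
  have key : (∃ m, p = 2 ^ m + 1) → 2 * Nat.card (Sylow p G) < (p + 1) * (p + 2) →
      (∃ (m : ℕ) (F : Type) (_ : Field F) (_ : Fintype F), Fintype.card F = p ∧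
        (p = 2 ^ m + 1 ∨ p = 2 ^ m - 1) ∧
        Nonempty (G ≃* Matrix.ProjectiveSpecialLinearGroup (Fin 2) F)) ∨
      (∃ (m : ℕ) (F : Type) (_ : Field F) (_ : Fintype F), Fintype.card F = 2 ^ m ∧ p = 2 ^ m + 1 ∧
        3 < p ∧ Nonempty (G ≃* Matrix.ProjectiveSpecialLinearGroup (Fin 2) F)) := by
    rintro ⟨m₀, hm₀⟩ hn
    rcases T.num.ctx.classification hn with
      ⟨F, iF, iFF, hF, -, hiso⟩ | ⟨m, F, iF, iFF, hF, hpm, h3, hiso⟩
    · exact Or.inl ⟨m₀, F, iF, iFF, hF, Or.inl hm₀, hiso⟩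
    · exact Or.inr ⟨m, F, iF, iFF, hF, hpm, h3, hiso⟩
  rcases T.cases with ⟨hδ, hf⟩ | ⟨hδ, -⟩
  · obtain ⟨h2e, ⟨φ⟩⟩ := T.psl_of_plus hna hδ
    have hp3 : 3 < p := by have := T.num.he; omega
    have hcard : 2 * (q ^ b * g₀) + 1 = p ^ 2 := by
      have h1 := CfsgLib.BrauerTuan.card_psl_prime (p := p) hp3
      rw [← Nat.card_congr φ.toEquiv, hG'] at h1
      have h2 : 1 ≤ p ^ 2 := Nat.one_le_pow _ _ hp.pos
      have h3 : 2 * (q ^ b * g₀) = p ^ 2 - 1 :=
        Nat.eq_of_mul_eq_mul_left hp.pos (by rw [← h1]; ring)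
      omega
    obtain ⟨-, m, hm⟩ := CfsgLib.BrauerTuan.prime_form hp hp3 hq (by omega) hcard
    exact Or.inl ⟨m, ZMod p, inferInstance, inferInstance, ZMod.card p, hm, ⟨φ⟩⟩
  · obtain ⟨hq2, -, -, -, -, c, hc, hc1⟩ := T.minus_facts hδ
    rcases Nat.lt_or_ge c 2 with hc2 | hc2
    · obtain ⟨hpb, hn⟩ := T.two_case (by rw [hc, show c = 1 by omega, pow_one]) hδ
      exact key ⟨b, hpb⟩ hn
    · obtain ⟨m, hm, hn⟩ := T.minus_case hna hδ (by
        rw [hc]
        exact le_of_eq_of_le (show 4 = 2 ^ 2 by norm_num) (Nat.pow_le_pow_right two_pos hc2))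
      exact key ⟨m, hm⟩ hn

end Cfsg.Agent.S0997
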