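import Cfsg.Statements.S0998
import Cfsg.Agent.Lib.BrauerTuan.Main
import Cfsg.Agent.S0992
import Cfsg.Agent.S0252
import Cfsg.Agent.S0253

set_option autoImplicit false
open Cfsg

namespace Cfsg.Agent.S0998

/-- A non-cyclic finite simple group whose order has the form p * r * q^b for distinct primes p, q, r is isomorphic to the projective special linear group of dimension 2 over the field with 5 or with 7 elements. -/
theorem result {G : Type*} [Group G] [Finite G] [IsSimpleGroup G] (hG : ¬ IsCyclic G) (p q r b : ℕ) (hp : p.Prime) (hq : q.Prime) (hr : r.Prime) (hpq : p ≠ q) (hpr : p ≠ r) (hqr : q ≠ r) (hG' : Nat.card G = p * r * q ^ b) : (∃ (F : Type) (_ : Field F) (_ : Fintype F), Fintype.card F = 5 ∧ Nonempty (G ≃* Matrix.ProjectiveSpecialLinearGroup (Fin 2) F)) ∨ (∃ (F : Type) (_ : Field F) (_ : Fintype F), Fintype.card F = 7 ∧ Nonempty (G ≃* Matrix.ProjectiveSpecialLinearGroup (Fin 2) F)) := by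
  have hna : ¬ IsMulCommutative G := fun hc => hG (by
    letI : CommGroup G := { (inferInstance : Group G) with mul_comm := hc.is_comm.comm }
    exact IsSimpleGroup.isCyclic)
  rcases CfsgLib.BrauerTuan.three_primes hna hp hq hr hpq hpr hqr hG' (fun he h8 => by
      haveI : Fact (Nat.Prime 2) := ⟨Nat.prime_two⟩
      let T : Sylow 2 G := Classical.arbitrary _
      have h4 := (Cfsg.Agent.S0992.result hna he h8 T).1.card_four
      exact h4 ▸ Subgroup.card_subgroup_dvd_card _) with
    ⟨F, iF, iFF, hF, ⟨φ⟩⟩ | h7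
  · refine Or.inl ?_
    rcases hF with hF | hF
    · haveI : Fact (Nat.Prime 5) := ⟨by norm_num⟩
      exact ⟨ZMod 5, inferInstance, inferInstance, ZMod.card 5,
        ⟨(φ.trans (Cfsg.Agent.S0252.result hF).some).trans
          (Cfsg.Agent.S0253.result (F := ZMod 5) (ZMod.card 5)).some.symm⟩⟩
    · exact ⟨F, iF, iFF, hF, ⟨φ⟩⟩
  · exact Or.inr h7

end Cfsg.Agent.S0998
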