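import Cfsg.Statements.S1008
import Cfsg.Agent.Lib.SmallOrder.Order168Subgroups

set_option autoImplicit false
open Cfsg

namespace Cfsg.Agent.S1008

open Subgroup CfsgLib.Order168 in
/-- A maximal subgroup has order 21 or 24. -/
theorem card_maximal {G : Type*} [Group G] [Finite G] [IsSimpleGroup G] (h : Nat.card G = 168)
    {M : Subgroup G} (hM : IsCoatom M) : Nat.card M = 21 ∨ Nat.card M = 24 := by
  classical
  have : Fact (Nat.Prime 3) := ⟨Nat.prime_three⟩
  have : Fact (Nat.Prime 7) := ⟨by norm_num⟩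
  have hle := card_le_of_ne_top h hM.1
  have hd : Nat.card M ∣ 168 := h ▸ card_subgroup_dvd_card M
  have big : ∀ K : Subgroup G, M ≤ K → K ≠ ⊤ → Nat.card M = Nat.card K := fun K h1 h2 => by
    rcases hM.le_iff.1 h1 with h3 | h3
    · exact absurd h3 h2
    · rw [h3]
  have proper : ∀ K : Subgroup G, Nat.card K < 168 → K ≠ ⊤ := fun K hK ht => by
    rw [ht, card_top, h] at hK; omega
  have hNseven : ∀ P : Sylow 7 G, Nat.card ↥(normalizer ((P : Subgroup G) : Set G)) = 21 := card_normalizer_seven h
  by_cases h7 : 7 ∣ Nat.card M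
  · left
    -- a Sylow 7 of G inside M is normal in M
    obtain ⟨⟨x, hxM⟩, hx⟩ := exists_prime_orderOf_dvd_card' 7 h7
    rw [orderOf_mk] at hx
    obtain ⟨P, hP⟩ := (IsPGroup.of_card (n := 1) (by rw [Nat.card_zpowers, hx, pow_one]) :
      IsPGroup 7 ↥(zpowers x)).exists_le_sylow
    have he := eq_of_le_of_card_ge hP (by rw [card_seven h P, Nat.card_zpowers, hx])
    have hPM : (P : Subgroup G) ≤ M := he ▸ zpowers_le.2 hxM
    have hMN : M ≤ normalizer ((P : Subgroup G) : Set G) := by
      intro m hm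
      rw [Sylow.coe_coe, ← Sylow.smul_eq_iff_mem_normalizer]
      by_contra hne
      have hmP : ((m • P : Sylow 7 G) : Subgroup G) ≤ M := by
        intro y hy
        rw [Sylow.coe_subgroup_smul, Subgroup.mem_pointwise_smul_iff_inv_smul_mem] at hy
        have h1 : m⁻¹ * y * m ∈ M := hPM (by simpa [MulAut.smul_def] using hy)
        simpa [mul_assoc] using mul_mem (mul_mem hm h1) (inv_mem hm)
      obtain ⟨n, hn7, hn1, hdvd⟩ := CfsgLib.SmallOrder.dvd_card_of_two_sylow (m • P) P hne hmP hPM
      rw [card_seven h] at hdvd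
      have := Nat.le_of_dvd Nat.card_pos hdvd
      have : 8 ≤ n := by omega
      omega
    rw [big _ hMN (proper _ (by rw [hNseven P]; norm_num)), hNseven P]
  right
  -- every other subgroup lies in a subgroup of order 24
  suffices hK : ∃ K : Subgroup G, M ≤ K ∧ Nat.card K = 24 by
    obtain ⟨K, h1, h2⟩ := hK
    rw [big K h1 (proper _ (by omega)), h2]
  obtain ⟨T⟩ := (inferInstance : Nonempty (Sylow 2 G))
  obtain ⟨U₁, -, -, hle₁, -, hk₁, -, -⟩ := klein_in_sylow h T
  set L := normalizer (U₁ : Set G)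
  have hL : Nat.card L = 24 := card_normalizer_klein h hk₁
  have conj : ∀ {X : Subgroup G} {g : G}, X.map (MulAut.conj g).toMonoidHom ≤ L →
      ∃ K : Subgroup G, X ≤ K ∧ Nat.card K = 24 := fun {X g} hX => by
    refine ⟨L.map (MulAut.conj g⁻¹).toMonoidHom, fun x hx => ?_, by rw [card_map_conj, hL]⟩
    rw [mem_map_conj, inv_inv]
    exact hX (mem_map_conj.2 (by simpa [mul_assoc] using hx))
  by_cases h3 : 3 ∣ Nat.card M
  · by_cases h24 : Nat.card M = 24
    · exact ⟨M, le_rfl, h24⟩
    by_cases h12 : Nat.card M = 12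
    · -- its Sylow 2-subgroup is a normal Klein four-group
      obtain ⟨hn, hP⟩ := four_sylow_three h (L := M) (Or.inr h12)
      obtain ⟨S⟩ := (inferInstance : Nonempty (Sylow 2 M))
      have hS : Nat.card ↥(S : Subgroup M) = 4 := by
        simpa using CfsgLib.SmallOrder.card_sylow_eq (p := 2) (e := 2) (m := 3) (by rw [h12]; norm_num) (by norm_num) S
      have hc3 : Nat.card {x : M // orderOf x = 3} = 8 := by
        rw [card_of_unique_sylow (p := 3) _ 2 (fun x hx => ?_) (fun x hx P P' h1 h2 => ?_) (fun P => ?_), hn]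
        · obtain ⟨Q, hQ⟩ := (IsPGroup.of_card (n := 1) (by rw [Nat.card_zpowers, hx, pow_one]) :
            IsPGroup 3 ↥(zpowers x)).exists_le_sylow
          exact ⟨Q, hQ (mem_zpowers x)⟩
        · apply Sylow.ext
          rw [← eq_of_le_of_card_ge (zpowers_le.2 h1) (by rw [Nat.card_zpowers, hx, hP]),
            ← eq_of_le_of_card_ge (zpowers_le.2 h2) (by rw [Nat.card_zpowers, hx, hP])]
        · have := Fintype.ofFinite ↥(P : Subgroup M)
          rw [Nat.card_congr (Equiv.subtypeEquivRight (q := fun x : ↥(P : Subgroup M) => x ≠ 1) fun x => ?_),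
            Nat.card_eq_fintype_card, Fintype.card_subtype_compl, ← Nat.card_eq_fintype_card, hP P,
            Fintype.card_subtype_eq]
          rw [orderOf_coe]
          constructor
          · rintro hx rfl
            simp at hx
          · intro hx
            exact ((Nat.dvd_prime Nat.prime_three).1 ((orderOf_dvd_natCard x).trans (hP P).dvd)).resolve_left
              (by simpa using hx)
      have hrest : Nat.card {x : M // orderOf x ≠ 3} = 4 := by
        have := Fintype.ofFinite M
        rw [Nat.card_eq_fintype_card, Fintype.card_subtype_compl, ← Nat.card_eq_fintype_card,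
          ← Nat.card_eq_fintype_card (α := {x : M // orderOf x = 3}), hc3, h12]
      have hin : ∀ x : M, x ∈ (S : Subgroup M) ↔ orderOf x ≠ 3 := by
        have h1 : ∀ x ∈ (S : Subgroup M), orderOf x ≠ 3 := fun x hx h3 => by
          have := Subgroup.orderOf_dvd_natCard _ hx
          rw [hS, h3] at this
          norm_num at this
        let ι : ↥(S : Subgroup M) → {x : M // orderOf x ≠ 3} := fun x => ⟨x, h1 x x.2⟩
        have hb : Function.Bijective ι := (Nat.bijective_iff_injective_and_card ι).2
          ⟨fun a b hab => Subtype.ext (congrArg (fun w : {x : M // orderOf x ≠ 3} => (w : M)) hab), by rw [hS, hrest]⟩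
        refine fun x => ⟨h1 x, fun hx => ?_⟩
        obtain ⟨y, hy⟩ := hb.2 ⟨x, hx⟩
        have : (y : M) = x := congrArg (fun w : {x : M // orderOf x ≠ 3} => (w : M)) hy
        exact this ▸ y.2
      set U := (S : Subgroup M).map M.subtype
      have hnorm : ∀ m : M, ∀ x ∈ (S : Subgroup M), m * x * m⁻¹ ∈ (S : Subgroup M) := fun m x hx => by
        rw [hin, show m * x * m⁻¹ = MulAut.conj m x from rfl, MulEquiv.orderOf_eq]
        exact (hin x).1 hx
      have hU : IsKleinFour U := by
        refine isKleinFour_of_card (by rw [card_map_of_injective M.subtype_injective, hS]) ?_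
        rintro _ ⟨s, hs, rfl⟩
        by_contra hne
        -- s has order 4 and its square is centralised by an element of order 3
        have ho : orderOf s = 4 := by
          have hd4 : orderOf s ∣ 2 ^ 2 := (Subgroup.orderOf_dvd_natCard _ hs).trans hS.dvd
          obtain ⟨i, hi, he⟩ := (Nat.dvd_prime_pow Nat.prime_two).1 hd4
          have hd2 : ¬ orderOf s ∣ 2 := fun hh => hne (by rw [← map_pow, orderOf_dvd_iff_pow_eq_one.1 hh, map_one])
          interval_cases i <;> simp_all
        obtain ⟨⟨y, hy⟩⟩ : Nonempty {x : M // orderOf x = 3} := (Nat.card_pos_iff.1 (by rw [hc3]; norm_num)).1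
        have hgen : zpowers s = (S : Subgroup M) :=
          eq_of_le_of_card_ge (zpowers_le.2 hs) (by rw [hS, Nat.card_zpowers, ho])
        obtain ⟨k, hk4, hk⟩ : ∃ k < 4, s ^ k = y * s * y⁻¹ := by
          simpa [ho] using (mem_zpowers_iff_mem_range_orderOf (x := s)).1 (hgen ▸ hnorm y s hs)
        have hsq : y * s ^ 2 * y⁻¹ = s ^ 2 := by
          have ho' : orderOf (s ^ k) = 4 := by
            rw [hk, show y * s * y⁻¹ = MulAut.conj y s from rfl, MulEquiv.orderOf_eq, ho]
          have h4 : s ^ 4 = 1 := ho ▸ pow_orderOf_eq_one s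
          rw [← conj_pow, ← hk]
          interval_cases k
          · simp at ho'
          · rw [pow_one]
          · exfalso
            have := orderOf_dvd_of_pow_eq_one (show (s ^ 2) ^ 2 = 1 by rw [← pow_mul]; exact h4)
            rw [ho'] at this
            norm_num at this
          · rw [← pow_mul, show 3 * 2 = 4 + 2 from rfl, pow_add, h4, one_mul]
        have hs2 : ((s ^ 2 : M) : G) ≠ 1 := fun h1 => hne (by rw [← map_pow]; exact h1)
        refine not_commute_two h (x := (y : G)) (g := ((s ^ 2 : M) : G)) (k := 1) (Or.inl (by rw [orderOf_coe, hy])) ?_ hs2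
          (congrArg (fun w : M => (w : G)) (mul_inv_eq_iff_eq_mul.1 hsq).symm)
        have h4 : (s ^ 2 : M) ^ 2 = 1 := by rw [← pow_mul, show 2 * 2 = orderOf s from ho.symm, pow_orderOf_eq_one]
        simpa using congrArg (fun w : M => (w : G)) h4
      refine ⟨normalizer (U : Set G), fun m hm => ?_, card_normalizer_klein h hU⟩
      rw [mem_normalizer_iff]
      intro x
      constructor
      · rintro ⟨s, hs, rfl⟩
        exact ⟨_, hnorm ⟨m, hm⟩ s hs, rfl⟩
      · rintro ⟨s, hs, hsx⟩
        refine ⟨⟨m, hm⟩⁻¹ * s * ⟨m, hm⟩, show _ ∈ (S : Subgroup M) by simpa using hnorm ⟨m, hm⟩⁻¹ s hs, ?_⟩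
        simp only [map_mul, map_inv, hsx, subtype_apply]
        group
    -- order 3 or 6: inside the normaliser of its Sylow 3-subgroup
    obtain ⟨⟨x, hxM⟩, hx⟩ := exists_prime_orderOf_dvd_card' 3 h3
    rw [orderOf_mk] at hx
    obtain ⟨P, hP⟩ := (IsPGroup.of_card (n := 1) (by rw [Nat.card_zpowers, hx, pow_one]) :
      IsPGroup 3 ↥(zpowers x)).exists_le_sylow
    have he := eq_of_le_of_card_ge hP (by rw [card_three h P, Nat.card_zpowers, hx])
    have hM36 : Nat.card M = 3 ∨ Nat.card M = 6 := by
      have hmem : Nat.card M ∈ Nat.divisors 168 := Nat.mem_divisors.2 ⟨hd, by norm_num⟩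
      have key : ∀ c ∈ Nat.divisors 168, c ≤ 24 → ¬ 7 ∣ c → 3 ∣ c → c ≠ 12 → c ≠ 24 → c = 3 ∨ c = 6 := by decide +kernel
      exact key _ hmem hle h7 h3 h12 h24
    have hMN : M ≤ normalizer ((P : Subgroup G) : Set G) := by
      intro m hm
      rw [Sylow.coe_coe, ← Sylow.smul_eq_iff_mem_normalizer]
      by_contra hne
      have hPM : (P : Subgroup G) ≤ M := he ▸ zpowers_le.2 hxM
      have hmP : ((m • P : Sylow 3 G) : Subgroup G) ≤ M := by
        intro y hy
        rw [Sylow.coe_subgroup_smul, Subgroup.mem_pointwise_smul_iff_inv_smul_mem] at hy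
        have h1 : m⁻¹ * y * m ∈ M := hPM (by simpa [MulAut.smul_def] using hy)
        simpa [mul_assoc] using mul_mem (mul_mem hm h1) (inv_mem hm)
      obtain ⟨n, hn3, hn1, hdvd⟩ := CfsgLib.SmallOrder.dvd_card_of_two_sylow (m • P) P hne hmP hPM
      rw [card_three h] at hdvd
      have := Nat.le_of_dvd Nat.card_pos hdvd
      omega
    -- some Sylow 3-subgroup has its normaliser inside L
    obtain ⟨hn, hP3⟩ := four_sylow_three h (L := L) (Or.inl hL)
    obtain ⟨R⟩ := (inferInstance : Nonempty (Sylow 3 L))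
    obtain ⟨R', hR'⟩ := (R.2.map L.subtype).exists_le_sylow
    have hR : (R : Subgroup L).map L.subtype = R' := eq_of_le_of_card_ge hR' (by
      rw [card_three h, card_map_of_injective L.subtype_injective, hP3])
    have hNR : Nat.card ↥(normalizer ((R : Subgroup L) : Set L)) = 6 := by
      have := CfsgLib.SmallOrder.card_normalizer_mul R
      rw [hn, hL] at this
      omega
    have hle' : (normalizer ((R : Subgroup L) : Set L)).map L.subtype ≤ normalizer ((R' : Subgroup G) : Set G) :=
      hR ▸ le_normalizer_map L.subtype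
    have hNL : normalizer ((R' : Subgroup G) : Set G) ≤ L := by
      rw [← eq_of_le_of_card_ge hle' (by rw [card_normalizer_three h, card_map_of_injective L.subtype_injective, hNR])]
      exact map_subtype_le _
    obtain ⟨g, hg⟩ := MulAction.exists_smul_eq G P R'
    refine conj (X := M) (g := g) ?_
    rintro _ ⟨m, hm, rfl⟩
    apply hNL
    rw [Sylow.coe_coe, ← Sylow.smul_eq_iff_mem_normalizer, ← hg]
    show (g * m * g⁻¹) • g • P = g • P
    rw [smul_smul, show g * m * g⁻¹ * g = g * m by group, mul_smul, Sylow.smul_eq_iff_mem_normalizer.2 (hMN hm)]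
  -- a 2-group
  have hM2 : IsPGroup 2 ↥M := by
    have hmem : Nat.card M ∈ Nat.divisors 168 := Nat.mem_divisors.2 ⟨hd, by norm_num⟩
    have key : ∀ c ∈ Nat.divisors 168, ¬ 7 ∣ c → ¬ 3 ∣ c → c = 2 ^ 0 ∨ c = 2 ^ 1 ∨ c = 2 ^ 2 ∨ c = 2 ^ 3 := by decide +kernel
    rcases key _ hmem h7 h3 with e | e | e | e <;> exact IsPGroup.of_card e
  obtain ⟨T', hT'⟩ := hM2.exists_le_sylow
  obtain ⟨g, hg⟩ := MulAction.exists_smul_eq G T' T
  refine conj (X := M) (g := g) ?_
  rintro _ ⟨m, hm, rfl⟩
  apply sylow_le_normalizer_klein h hk₁ hle₁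
  rw [← hg, Sylow.coe_subgroup_smul, Subgroup.mem_pointwise_smul_iff_inv_smul_mem]
  simpa [MulAut.smul_def, mul_assoc] using hT' hm


/-- In a simple group of order 168 every maximal subgroup is either isomorphic to the symmetric group of degree 4 or non-abelian of order 21; the maximal subgroups of order 21 form one conjugacy class and those isomorphic to the symmetric group of degree 4 form exactly two conjugacy classes. -/
theorem result {G : Type*} [Group G] [Finite G] [IsSimpleGroup G] (h : Nat.card G = 168) : (∀ M : Subgroup G, IsCoatom M → Nonempty (↥M ≃* Equiv.Perm (Fin 4)) ∨ (Nat.card ↥M = 21 ∧ ¬ IsMulCommutative ↥M)) ∧ (∀ M M' : Subgroup G, IsCoatom M → IsCoatom M' → Nat.card ↥M = 21 → Nat.card ↥M' = 21 → ∃ g : G, M' = M.map (MulAut.conj g).toMonoidHom) ∧ ∃ M₁ M₂ : Subgroup G, IsCoatom M₁ ∧ IsCoatom M₂ ∧ Nonempty (↥M₁ ≃* Equiv.Perm (Fin 4)) ∧ Nonempty (↥M₂ ≃* Equiv.Perm (Fin 4)) ∧ (∀ g : G, M₂ ≠ M₁.map (MulAut.conj g).toMonoidHom) ∧ ∀ M : Subgroup G, IsCoatom M → Nonempty (↥M ≃* Equiv.Perm (Fin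 4)) → ∃ g : G, M = M₁.map (MulAut.conj g).toMonoidHom ∨ M = M₂.map (MulAut.conj g).toMonoidHom := by
  classical
  have : Fact (Nat.Prime 7) := ⟨by norm_num⟩
  obtain ⟨T⟩ := (inferInstance : Nonempty (Sylow 2 G))
  obtain ⟨U₁, U₂, hne, hle₁, hle₂, hk₁, hk₂, hall⟩ := CfsgLib.Order168.klein_in_sylow h T
  have hN7 : ∀ M : Subgroup G, Nat.card M = 21 → ∃ P : Sylow 7 G, M = Subgroup.normalizer ((P : Subgroup G) : Set G) ∧
      ¬ IsMulCommutative M := by
    intro M hM
    obtain ⟨⟨x, hxM⟩, hx⟩ := exists_prime_orderOf_dvd_card' 7 (G := M) (by rw [hM]; norm_num)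
    rw [Subgroup.orderOf_mk] at hx
    obtain ⟨P, hP⟩ := (IsPGroup.of_card (n := 1) (by rw [Nat.card_zpowers, hx, pow_one]) :
      IsPGroup 7 ↥(Subgroup.zpowers x)).exists_le_sylow
    have he := Subgroup.eq_of_le_of_card_ge hP (by rw [CfsgLib.Order168.card_seven h P, Nat.card_zpowers, hx])
    have hPM : (P : Subgroup G) ≤ M := he ▸ Subgroup.zpowers_le.2 hxM
    refine ⟨P, Subgroup.eq_of_le_of_card_ge (fun m hm => ?_) (by rw [CfsgLib.Order168.card_normalizer_seven h P, hM]), fun hc => ?_⟩
    · rw [Sylow.coe_coe, ← Sylow.smul_eq_iff_mem_normalizer]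
      by_contra hne
      have hmP : ((m • P : Sylow 7 G) : Subgroup G) ≤ M := by
        intro y hy
        rw [Sylow.coe_subgroup_smul, Subgroup.mem_pointwise_smul_iff_inv_smul_mem] at hy
        have h1 : m⁻¹ * y * m ∈ M := hPM (by simpa [MulAut.smul_def] using hy)
        simpa [mul_assoc] using mul_mem (mul_mem hm h1) (inv_mem hm)
      obtain ⟨n, hn7, hn1, hdvd⟩ := CfsgLib.SmallOrder.dvd_card_of_two_sylow (m • P) P hne hmP hPM
      rw [CfsgLib.Order168.card_seven h, hM] at hdvd
      have := Nat.le_of_dvd (by norm_num) hdvd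
      omega
    · have hle : M ≤ Subgroup.centralizer ((P : Subgroup G) : Set G) := fun m hm =>
        Subgroup.mem_centralizer_iff.2 fun y hy => congrArg Subtype.val (hc.is_comm.comm ⟨y, hPM hy⟩ ⟨m, hm⟩)
      have := Subgroup.card_le_of_le hle
      rw [CfsgLib.Order168.centralizer_seven h P, CfsgLib.Order168.card_seven h P, hM] at this
      omega
  have hL : ∀ {U : Subgroup G}, IsKleinFour U → IsCoatom (Subgroup.normalizer (U : Set G)) := fun {U} hU => by
    have hc := CfsgLib.Order168.card_normalizer_klein h hU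
    refine ⟨fun ht => by rw [ht, Subgroup.card_top, h] at hc; omega, fun K hK => ?_⟩
    by_contra hne
    have h1 := CfsgLib.Order168.card_le_of_ne_top h hne
    have h2 : Nat.card (Subgroup.normalizer (U : Set G)) < Nat.card K := by
      refine lt_of_le_of_ne (Subgroup.card_le_of_le hK.le) fun he => hK.ne (Subgroup.eq_of_le_of_card_ge hK.le he.ge)
    omega
  have hiso : ∀ M : Subgroup G, Nonempty (↥M ≃* Equiv.Perm (Fin 4)) → Nat.card M = 24 := fun M ⟨e⟩ => by
    rw [Nat.card_congr e.toEquiv, Nat.card_perm, Nat.card_fin]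
    rfl
  refine ⟨fun M hM => ?_, fun M M' _ _ hM hM' => ?_, Subgroup.normalizer (U₁ : Set G), Subgroup.normalizer (U₂ : Set G),
    hL hk₁, hL hk₂, CfsgLib.Order168.iso_perm h (CfsgLib.Order168.card_normalizer_klein h hk₁),
    CfsgLib.Order168.iso_perm h (CfsgLib.Order168.card_normalizer_klein h hk₂), fun g hg => ?_, fun M _ hM => ?_⟩
  · rcases card_maximal h hM with h21 | h24
    · exact Or.inr ⟨h21, (hN7 M h21).choose_spec.2⟩
    · exact Or.inl (CfsgLib.Order168.iso_perm h h24)
  · obtain ⟨P, rfl, -⟩ := hN7 M hM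
    obtain ⟨P', rfl, -⟩ := hN7 M' hM'
    obtain ⟨g, hg⟩ := MulAction.exists_smul_eq G P P'
    refine ⟨g, ?_⟩
    ext x
    rw [CfsgLib.Order168.mem_map_conj, Sylow.coe_coe, Sylow.coe_coe, ← Sylow.smul_eq_iff_mem_normalizer, ← Sylow.smul_eq_iff_mem_normalizer, ← hg]
    constructor
    · intro hx
      have := congrArg (fun Q => g⁻¹ • Q) hx
      simpa [smul_smul, mul_assoc] using this
    · intro hx
      have := congrArg (fun Q => g • Q) hx
      simpa [smul_smul, mul_assoc] using this
  · -- the two normalisers are not conjugate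
    set W := U₁.map (MulAut.conj g).toMonoidHom
    have hW : IsKleinFour W := CfsgLib.Order168.isKleinFour_map_conj hk₁ g
    have hWN : Subgroup.normalizer (W : Set G) = Subgroup.normalizer (U₂ : Set G) := by
      refine (Subgroup.eq_of_le_of_card_ge (fun x hx => ?_) (by
        rw [CfsgLib.Order168.card_normalizer_klein h hW, CfsgLib.Order168.card_normalizer_klein h hk₂])).symm
      rw [hg, CfsgLib.Order168.mem_map_conj] at hx
      exact CfsgLib.Order168.mem_normalizer_map_conj hx
    -- both are normal in the same group of order 24, hence in two Sylow 2-subgroups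
    obtain ⟨T', hT'⟩ := CfsgLib.Order168.exists_sylow_ge_klein h hW
    have hT'N := CfsgLib.Order168.sylow_le_normalizer_klein h hW hT'
    have hpN : ∀ (X : Subgroup G) (S : Sylow 2 G), IsKleinFour X → Subgroup.normalizer (X : Set G) = Subgroup.normalizer (U₂ : Set G) →
        (S : Subgroup G) ≤ Subgroup.normalizer (U₂ : Set G) → X ≤ S := by
      intro X S hX hXN hS
      have hp : IsPGroup 2 ↥X := IsPGroup.of_card (n := 2) (by rw [hX.card_four]; norm_num)
      have hsup : IsPGroup 2 ↥((S : Subgroup G) ⊔ X) :=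
        S.2.to_sup_of_normal_right' hp (hXN ▸ hS)
      exact (S.3 hsup le_sup_left) ▸ le_sup_right
    have hWT : W ≤ (T : Subgroup G) := hpN W T hW hWN (CfsgLib.Order168.sylow_le_normalizer_klein h hk₂ hle₂)
    exact hne (CfsgLib.Order168.klein_conj_eq h hle₁ hle₂ hk₁ hk₂ (g := g) (by
      rcases hall W hWT hW with e | e
      · exfalso
        have h24 := CfsgLib.Order168.card_normalizer_klein h hk₂
        have hee : Subgroup.normalizer (U₁ : Set G) = Subgroup.normalizer (U₂ : Set G) := e ▸ hWN
        -- two Sylow subgroups in the common normaliser both contain U₁ and U₂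
        obtain ⟨⟨x, hxN⟩, hx⟩ := exists_prime_orderOf_dvd_card' 3 (G := Subgroup.normalizer (U₂ : Set G)) (by rw [h24]; norm_num)
        rw [Subgroup.orderOf_mk] at hx
        have hxT : x • T ≠ T := fun hxe => by
          have := Sylow.smul_eq_iff_mem_normalizer.1 hxe
          rw [← Sylow.coe_coe, CfsgLib.Order168.normalizer_two h T] at this
          have := Subgroup.orderOf_dvd_natCard _ this
          rw [CfsgLib.Order168.card_two h, hx] at this
          norm_num at this
        have hxle : ((x • T : Sylow 2 G) : Subgroup G) ≤ Subgroup.normalizer (U₂ : Set G) := by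
          intro y hy
          rw [Sylow.coe_subgroup_smul, Subgroup.mem_pointwise_smul_iff_inv_smul_mem] at hy
          have h1 : x⁻¹ * y * x ∈ Subgroup.normalizer (U₂ : Set G) :=
            CfsgLib.Order168.sylow_le_normalizer_klein h hk₂ hle₂ (by simpa [MulAut.smul_def] using hy)
          simpa [mul_assoc] using mul_mem (mul_mem hxN h1) (inv_mem hxN)
        have a1 : U₁ ≤ ((x • T : Sylow 2 G) : Subgroup G) ⊓ T := le_inf (hpN _ _ hk₁ hee hxle) hle₁
        have a2 : U₂ ≤ ((x • T : Sylow 2 G) : Subgroup G) ⊓ T := le_inf (hpN _ _ hk₂ rfl hxle) hle₂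
        have hc : Nat.card ↥(((x • T : Sylow 2 G) : Subgroup G) ⊓ T) ≤ 4 := by
          have h1 := Subgroup.card_dvd_of_le (inf_le_right : ((x • T : Sylow 2 G) : Subgroup G) ⊓ T ≤ T)
          have h2 : Nat.card ↥(((x • T : Sylow 2 G) : Subgroup G) ⊓ T) ≠ 8 := fun h8 => hxT (Sylow.ext (by
            have e1 := Subgroup.eq_of_le_of_card_ge (inf_le_left : _ ≤ ((x • T : Sylow 2 G) : Subgroup G)) (by rw [CfsgLib.Order168.card_two h, h8])
            have e2 := Subgroup.eq_of_le_of_card_ge (inf_le_right : _ ≤ (T : Subgroup G)) (by rw [CfsgLib.Order168.card_two h, h8])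
            exact e1.symm.trans e2))
          rw [CfsgLib.Order168.card_two h] at h1
          have := Nat.le_of_dvd (by norm_num) h1
          generalize Nat.card ↥(((x • T : Sylow 2 G) : Subgroup G) ⊓ T) = c at h1 h2 this
          interval_cases c <;> omega
        exact hne ((Subgroup.eq_of_le_of_card_ge a1 (by rw [hk₁.card_four]; exact hc)).trans
          (Subgroup.eq_of_le_of_card_ge a2 (by rw [hk₂.card_four]; exact hc)).symm)
      · exact e))
  · obtain ⟨U, hU, rfl⟩ := CfsgLib.Order168.exists_klein_of_card h (hiso M hM)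
    obtain ⟨T', hT'⟩ := CfsgLib.Order168.exists_sylow_ge_klein h hU
    obtain ⟨g, hg⟩ := MulAction.exists_smul_eq G T T'
    have hUg : U.map (MulAut.conj g⁻¹).toMonoidHom ≤ (T : Subgroup G) := by
      intro x hx
      rw [CfsgLib.Order168.mem_map_conj, inv_inv] at hx
      have h1 := hT' hx
      rw [← hg, Sylow.coe_subgroup_smul, Subgroup.mem_pointwise_smul_iff_inv_smul_mem] at h1
      simpa [MulAut.smul_def, mul_assoc] using h1
    have hback : ∀ V : Subgroup G, U.map (MulAut.conj g⁻¹).toMonoidHom = V →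
        Subgroup.normalizer (U : Set G) = (Subgroup.normalizer (V : Set G)).map (MulAut.conj g).toMonoidHom := by
      intro V hV
      refine Subgroup.eq_of_le_of_card_ge (fun x hx => ?_) (by
        rw [CfsgLib.Order168.card_map_conj, CfsgLib.Order168.card_normalizer_klein h hU,
          CfsgLib.Order168.card_normalizer_klein h (hV ▸ CfsgLib.Order168.isKleinFour_map_conj hU _)])
      rw [CfsgLib.Order168.mem_map_conj, ← hV]
      exact CfsgLib.Order168.mem_normalizer_map_conj (by simpa [mul_assoc] using hx)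
    refine ⟨g, ?_⟩
    rcases hall _ hUg (CfsgLib.Order168.isKleinFour_map_conj hU _) with e | e
    · exact Or.inl (hback U₁ e)
    · exact Or.inr (hback U₂ e)

end Cfsg.Agent.S1008
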