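import Cfsg.Statements.S1009
import Mathlib.GroupTheory.Sylow
import Mathlib.Data.Fintype.Lattice
import Mathlib.Tactic.Group

set_option autoImplicit false
open Cfsg

namespace Cfsg.Agent.S1009

/-- Brodkey's Theorem: if a finite group has abelian Sylow p-subgroups, then there are two Sylow p-subgroups whose intersection equals the intersection of all Sylow p-subgroups. -/
theorem result {G : Type*} [Group G] [Finite G] (p : ℕ) [Fact p.Prime] (hab : ∀ P : Sylow p G, IsMulCommutative ↥(P : Subgroup G)) : ∃ P Q : Sylow p G, (P : Subgroup G) ⊓ (Q : Subgroup G) = ⨅ R : Sylow p G, (R : Subgroup G) := by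
  classical
  obtain ⟨P₀⟩ := (inferInstance : Nonempty (Sylow p G))
  obtain ⟨⟨P, Q⟩, hmin⟩ := Finite.exists_min
    (fun PQ : Sylow p G × Sylow p G => Nat.card ↥((PQ.1 : Subgroup G) ⊓ (PQ.2 : Subgroup G)))
  refine ⟨P, Q, le_antisymm (le_iInf fun R => ?_) (le_inf (iInf_le _ P) (iInf_le _ Q))⟩
  set D := (P : Subgroup G) ⊓ (Q : Subgroup G) with hD
  set H := Subgroup.centralizer (D : Set G)
  have hle : ∀ S : Sylow p G, D ≤ S → (S : Subgroup G) ≤ H := fun S hS x hx =>
    Subgroup.mem_centralizer_iff.2 fun y hy =>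
      congrArg Subtype.val ((hab S).is_comm.comm ⟨y, hS hy⟩ ⟨x, hx⟩)
  have hPH := hle P inf_le_left
  have hQH := hle Q inf_le_right
  obtain ⟨S, hS⟩ := (R.2.comap_subtype : IsPGroup p ↥((R : Subgroup G).subgroupOf H)).exists_le_sylow
  obtain ⟨h, hh⟩ := MulAction.exists_smul_eq H (P.subtype hPH) S
  have hPh : (R : Subgroup G) ⊓ H ≤ ((h : G) • P : Sylow p G) := by
    intro x hx
    have h1 : (⟨x, hx.2⟩ : H) ∈ (S : Subgroup H) := hS hx.1
    rw [← hh, Sylow.coe_subgroup_smul, Subgroup.mem_pointwise_smul_iff_inv_smul_mem] at h1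
    rw [Sylow.coe_subgroup_smul, Subgroup.mem_pointwise_smul_iff_inv_smul_mem]
    simpa [MulAut.smul_def, Sylow.coe_subtype, Subgroup.mem_subgroupOf] using h1
  have hcentral : ∀ x, ((h : G) * x * (h : G)⁻¹ ∈ D ↔ x ∈ D) ∧ (x ∈ D → (h : G) * x * (h : G)⁻¹ = x) := by
    have key : ∀ x, x ∈ D → (h : G) * x * (h : G)⁻¹ = x := fun x hx => by
      rw [← Subgroup.mem_centralizer_iff.1 h.2 x hx, mul_inv_cancel_right]
    refine fun x => ⟨⟨fun hx => ?_, fun hx => by rw [key x hx]; exact hx⟩, key x⟩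
    have := key _ hx
    have : x = (h : G) * x * (h : G)⁻¹ := by simpa [mul_assoc] using mul_left_cancel (mul_right_cancel this.symm)
    rwa [this]
  set Q' : Sylow p G := (h : G) • Q
  have hQ'H : (Q' : Subgroup G) ≤ H := by
    intro x hx
    rw [Sylow.coe_subgroup_smul, Subgroup.mem_pointwise_smul_iff_inv_smul_mem] at hx
    have h2 : (h : G)⁻¹ * x * (h : G) ∈ H := hQH (by simpa [MulAut.smul_def] using hx)
    simpa [mul_assoc] using mul_mem (mul_mem h.2 h2) (inv_mem h.2)
  have hsub : (R : Subgroup G) ⊓ (Q' : Subgroup G) ≤ D := by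
    intro x hx
    have h1 : x ∈ (((h : G) • P : Sylow p G) : Subgroup G) := hPh ⟨hx.1, hQ'H hx.2⟩
    have h2 : x ∈ (((h : G) • Q : Sylow p G) : Subgroup G) := hx.2
    rw [Sylow.coe_subgroup_smul, Subgroup.mem_pointwise_smul_iff_inv_smul_mem] at h1 h2
    have h3 : (h : G)⁻¹ * x * (h : G) ∈ D := by
      rw [hD, Subgroup.mem_inf]
      exact ⟨by simpa [MulAut.smul_def] using h1, by simpa [MulAut.smul_def] using h2⟩
    have := (hcentral _).2 h3
    rw [show (h : G) * ((h : G)⁻¹ * x * (h : G)) * (h : G)⁻¹ = x by group] at this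
    rwa [← this] at h3
  rw [← Subgroup.eq_of_le_of_card_ge hsub (hmin (R, Q'))]
  exact inf_le_left

end Cfsg.Agent.S1009
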