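import Cfsg.Statements.S1013
import Mathlib.GroupTheory.Transfer
import Mathlib.GroupTheory.Sylow
import Mathlib.Tactic
import Mathlib.Data.Finite.Perm
import Mathlib.Data.Nat.Prime.Factorial
import Mathlib.GroupTheory.GroupAction.Blocks

set_option autoImplicit false
open Cfsg

namespace Cfsg.Agent.S1013

open Subgroup in
/-- A nontrivial normal subgroup of a transitive group of prime degree has order divisible by `p`. -/
theorem prime_dvd_card_normal {α : Type*} [Fintype α] [DecidableEq α] {p : ℕ} [Fact p.Prime]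
    (hα : Fintype.card α = p) (G : Subgroup (Equiv.Perm α)) [MulAction.IsPretransitive ↥G α]
    (K : Subgroup ↥G) [K.Normal] (hK : K ≠ ⊥) : p ∣ Nat.card K := by
  classical
  have hp : p.Prime := Fact.out
  obtain ⟨k, hk, hk1⟩ := (Subgroup.ne_bot_iff_exists_ne_one.1 hK |> fun ⟨x, hx⟩ => ⟨(x : G), x.2, fun h => hx (Subtype.ext h)⟩ :
    ∃ k : G, k ∈ K ∧ k ≠ 1)
  obtain ⟨a, ha⟩ : ∃ a : α, (k : Equiv.Perm α) a ≠ a := by
    by_contra h
    push Not at h
    exact hk1 (Subtype.ext (Equiv.ext h))
  have hb := MulAction.IsBlock.orbit_of_normal (G := G) (N := K) a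
  have hd := hb.ncard_dvd_card ⟨a, MulAction.mem_orbit_self a⟩
  rw [Nat.card_eq_fintype_card, hα] at hd
  have h1 : Set.ncard (MulAction.orbit K a) ≠ 1 := by
    intro h
    obtain ⟨b, hb⟩ := Set.ncard_eq_one.1 h
    have h2 : a ∈ MulAction.orbit K a := MulAction.mem_orbit_self a
    have h3 : (k : Equiv.Perm α) a ∈ MulAction.orbit K a := ⟨⟨k, hk⟩, rfl⟩
    rw [hb, Set.mem_singleton_iff] at h2 h3
    exact ha (h3.trans h2.symm)
  have h4 := ((Nat.dvd_prime hp).1 hd).resolve_left h1
  rw [← h4, ← MulAction.index_stabilizer]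
  exact Subgroup.index_dvd_card _


/-- Let G be a transitive permutation group of prime degree p having more than one Sylow p-subgroup, and suppose a Sylow p-subgroup P has prime index in its normalizer. Then G is simple. -/
theorem result {α : Type*} [Fintype α] [DecidableEq α] {p : ℕ} [Fact p.Prime] (hα : Fintype.card α = p) (G : Subgroup (Equiv.Perm α)) [MulAction.IsPretransitive ↥G α] (P : Sylow p ↥G) (hn : 1 < Nat.card (Sylow p ↥G)) (ht : (((P : Subgroup ↥G).subgroupOf (Subgroup.normalizer ((P : Subgroup ↥G) : Set ↥G))).index).Prime) : IsSimpleGroup ↥G := by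
  classical
  have hp : p.Prime := Fact.out
  have hsub : (P : Subgroup G) ≤ Subgroup.normalizer ((P : Subgroup G) : Set G) := Subgroup.le_normalizer
  have hPcard : Nat.card ↥(P : Subgroup G) = p := by
    obtain ⟨n, hn⟩ := IsPGroup.iff_card.1 P.2
    have hd : p ^ n ∣ p.factorial := by
      have := (Subgroup.card_subgroup_dvd_card (P : Subgroup G)).trans (Subgroup.card_subgroup_dvd_card G)
      rwa [hn, Nat.card_perm, Nat.card_eq_fintype_card, hα] at this
    have hn1 : n ≤ 1 := by
      by_contra h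
      have hdd : p * p ∣ p.factorial := (by rw [← pow_two]; exact pow_dvd_pow p (by omega) : p * p ∣ p ^ n).trans hd
      rw [← Nat.mul_factorial_pred hp.ne_zero] at hdd
      have := hp.dvd_factorial.1 (Nat.dvd_of_mul_dvd_mul_left hp.pos hdd)
      have := hp.two_le
      omega
    have hn0 : n ≠ 0 := by
      rintro rfl
      have hb : (P : Subgroup G) = ⊥ := Subgroup.card_eq_one.1 (by simpa using hn)
      have hnorm : (P : Subgroup G).Normal := hb ▸ inferInstance
      have : Nat.card (Sylow p G) = 1 := by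
        rw [P.card_eq_index_normalizer, ← Sylow.coe_coe, show Subgroup.normalizer ((P : Subgroup G) : Set G) = ⊤ from Subgroup.normalizer_eq_top_iff.2 hnorm, Subgroup.index_top]
      omega
    rw [hn, show n = 1 by omega, pow_one]
  have hgt : Nontrivial ↥G := by
    obtain ⟨a, b, hab⟩ := Finite.one_lt_card_iff_nontrivial.1 hn |>.exists_pair_ne
    by_contra h
    rw [not_nontrivial_iff_subsingleton] at h
    exact hab (Sylow.ext (Subsingleton.elim _ _))
  refine { eq_bot_or_eq_top_of_normal := fun K hK => or_iff_not_imp_left.2 fun hKb => ?_ }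
  have hpK := prime_dvd_card_normal hα G K hKb
  -- every Sylow subgroup lies in K
  have hPK : (P : Subgroup G) ≤ K := by
    obtain ⟨Q⟩ := (inferInstance : Nonempty (Sylow p K))
    obtain ⟨Q', hQ'⟩ := (Q.2.map K.subtype).exists_le_sylow
    have heq : (Q : Subgroup K).map K.subtype = Q' := Subgroup.eq_of_le_of_card_ge hQ' (by
      rw [Q'.card_eq_multiplicity, ← P.card_eq_multiplicity, hPcard,
        Subgroup.card_map_of_injective K.subtype_injective]
      exact Nat.le_of_dvd Nat.card_pos (Q.dvd_card_of_dvd_card hpK))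
    obtain ⟨g, hg⟩ := MulAction.exists_smul_eq G Q' P
    intro x hx
    rw [← hg, Sylow.coe_subgroup_smul, Subgroup.mem_pointwise_smul_iff_inv_smul_mem, ← heq] at hx
    obtain ⟨y, -, hy⟩ := hx
    have : g * (y : G) * g⁻¹ ∈ K := hK.conj_mem _ y.2 g
    rw [show ((y : K) : G) = g⁻¹ * x * g by simpa [MulAut.smul_def] using hy] at this
    simpa [mul_assoc] using this
  set N := Subgroup.normalizer ((P : Subgroup G) : Set G)
  have hfr : N ⊔ K = ⊤ := Sylow.normalizer_sup_eq_top' P hPK
  have hdiv : (K ⊓ N).relIndex N ∣ (P : Subgroup G).relIndex N :=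
    Subgroup.relIndex_dvd_of_le_left N (le_inf hPK hsub)
  rcases (Nat.dvd_prime ht).1 hdiv with h | h
  · rw [Subgroup.inf_relIndex_right, Subgroup.relIndex_eq_one] at h
    rw [eq_top_iff, ← hfr]
    exact sup_le h le_rfl
  exfalso
  have hKN : K ⊓ N = P := by
    refine (Subgroup.eq_of_le_of_card_ge (le_inf hPK hsub) ?_).symm
    have e : ∀ X : Subgroup G, X ≤ N → Nat.card ↥X * X.relIndex N = Nat.card ↥N := fun X hX => by
      rw [← Subgroup.card_mul_index (X.subgroupOf N), Nat.card_congr (Subgroup.subgroupOfEquivOfLe hX).toEquiv]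
      rfl
    refine le_of_eq (Nat.eq_of_mul_eq_mul_right (m := (K ⊓ N).relIndex N) ?_ ((e _ inf_le_right).trans ?_))
    · rw [h]; exact ht.pos
    · rw [h]; exact (e _ hsub).symm
  set PK : Sylow p K := P.subtype hPK
  have hcycK : IsCyclic ↥(P : Subgroup G) := isCyclic_of_prime_card hPcard
  have hcomm : Subgroup.normalizer ((PK : Subgroup K) : Set K) ≤ Subgroup.centralizer ((PK : Subgroup K) : Set K) := by
    intro x hx
    have hxN : (x : G) ∈ K ⊓ N := by
      refine ⟨x.2, ?_⟩
      show (x : G) ∈ Subgroup.normalizer ((P : Subgroup G) : Set G)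
      rw [Subgroup.mem_normalizer_iff] at hx ⊢
      intro y
      constructor
      · intro hy; exact (hx ⟨y, hPK hy⟩).1 hy
      · intro hy
        have hyK : y ∈ K := by
          have := mul_mem (mul_mem (inv_mem x.2) (hPK hy)) x.2
          simpa [mul_assoc] using this
        exact (hx ⟨y, hyK⟩).2 hy
    rw [hKN] at hxN
    rw [Subgroup.mem_centralizer_iff]
    intro y hy
    apply Subtype.ext
    show (y : G) * (x : G) = (x : G) * (y : G)
    exact congrArg Subtype.val ((IsCyclic.commGroup (α := ↥(P : Subgroup G))).mul_comm ⟨_, hy⟩ ⟨_, hxN⟩)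
  set τ := MonoidHom.transferSylow PK hcomm
  have hc := MonoidHom.ker_transferSylow_isComplement' PK hcomm
  set M := τ.ker.map K.subtype
  have hMmem : ∀ x : K, x ∈ τ.ker ↔ ¬ p ∣ orderOf x := by
    intro x
    have hcop : Nat.card τ.ker = (PK : Subgroup K).index :=
      hc.index_eq_card.symm
    constructor
    · intro hx hd
      exact PK.not_dvd_index (hcop ▸ hd.trans (Subgroup.orderOf_dvd_natCard _ hx))
    · intro hx
      have h1 : orderOf (τ x) ∣ orderOf x := orderOf_map_dvd τ x
      have h2 : orderOf (τ x) ∣ p := by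
        have hh : Nat.card ↥(PK : Subgroup K) = p :=
          (Nat.card_congr (Subgroup.subgroupOfEquivOfLe hPK).toEquiv).trans hPcard
        exact (orderOf_dvd_natCard _).trans hh.dvd
      rcases (Nat.dvd_prime hp).1 h2 with h3 | h3
      · exact orderOf_eq_one_iff.1 h3
      · exact absurd (h3 ▸ h1) hx
  have hMn : M.Normal := by
    refine ⟨fun m hm g => ?_⟩
    obtain ⟨x, hx, rfl⟩ := hm
    refine ⟨⟨g * (x : G) * g⁻¹, hK.conj_mem _ x.2 g⟩, (hMmem _).2 ?_, rfl⟩
    rw [← Subgroup.orderOf_coe]
    show ¬ p ∣ orderOf (g * (x : G) * g⁻¹)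
    rw [show g * (x : G) * g⁻¹ = MulAut.conj g x from rfl, MulEquiv.orderOf_eq, Subgroup.orderOf_coe]
    exact (hMmem x).1 hx
  have hMb : M = ⊥ := by
    by_contra hM
    have := prime_dvd_card_normal hα G M hM
    rw [Subgroup.card_map_of_injective K.subtype_injective] at this
    obtain ⟨x, hx⟩ := exists_prime_orderOf_dvd_card' p this
    exact (hMmem _).1 x.2 (by rw [Subgroup.orderOf_coe, hx])
  rw [Subgroup.map_eq_bot_iff_of_injective _ K.subtype_injective] at hMb
  rw [hMb, Subgroup.isComplement'_bot_left] at hc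
  have hPeq : (P : Subgroup G) = K := le_antisymm hPK (Subgroup.subgroupOf_eq_top.1 hc)
  have hnorm : (P : Subgroup G).Normal := hPeq ▸ hK
  have : Nat.card (Sylow p G) = 1 := by
    rw [P.card_eq_index_normalizer, ← Sylow.coe_coe, show Subgroup.normalizer ((P : Subgroup G) : Set G) = ⊤ from Subgroup.normalizer_eq_top_iff.2 hnorm, Subgroup.index_top]
  omega

end Cfsg.Agent.S1013
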