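import Cfsg.Statements.S1014
import Cfsg.Agent.Lib.SmallOrder.PrimeSylow
import Mathlib.NumberTheory.Divisors
import Mathlib.Tactic.NormNum.Prime

set_option autoImplicit false
open Cfsg

namespace Cfsg.Agent.S1014

/-- No finite simple group has order 1104 = 2^4 * 3 * 23. -/
theorem result {G : Type*} [Group G] [Finite G] [IsSimpleGroup G] : Nat.card G ≠ 1104 := by
  intro hN
  have : Fact (Nat.Prime 23) := ⟨by norm_num⟩
  obtain ⟨h1, h2, h3, h4⟩ := CfsgLib.SmallOrder.card_sylow_facts (p := 23) (e := 1) (m := 48)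
    (by omega) (by norm_num) (by norm_num) (by norm_num)
  have hG : ¬ IsMulCommutative G :=
    CfsgLib.SmallOrder.not_comm_of_not_prime (by rw [hN]; norm_num)
  have hm : Nat.card (Sylow 23 G) ∈ Nat.divisors 48 := Nat.mem_divisors.2 ⟨h1, by norm_num⟩
  have hn : Nat.card (Sylow 23 G) = 24 := by
    generalize Nat.card (Sylow 23 G) = n at hm h2 h3
    revert h2 h3
    revert hm n
    decide
  obtain ⟨P⟩ := (inferInstance : Nonempty (Sylow 23 G))
  have hP : Nat.card ↥(P : Subgroup G) = 23 := by
    simpa using CfsgLib.SmallOrder.card_sylow_eq (e := 1) (m := 48) (by omega) (by norm_num) P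
  have hNP : Nat.card ↥(Subgroup.normalizer ((P : Subgroup G) : Set G)) = 46 := by
    have := CfsgLib.SmallOrder.card_normalizer_mul P
    rw [hn, hN] at this
    omega
  have hPT : (P : Subgroup G) ≠ ⊤ := by
    intro h
    rw [h, Subgroup.card_top, hN] at hP
    omega
  have hNC := CfsgLib.SmallOrder.not_normalizer_le_centralizer (by rw [hN]; norm_num) P hPT
  have hC : Nat.card ↥(Subgroup.centralizer ((P : Subgroup G) : Set G)) ∣ 23 ^ 2 := by
    have hle : Subgroup.centralizer ((P : Subgroup G) : Set G) ≤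
        Subgroup.normalizer ((P : Subgroup G) : Set G) := Subgroup.centralizer_le_normalizer _
    have hd := Subgroup.card_dvd_of_le hle
    rw [hNP] at hd
    have hmem : Nat.card ↥(Subgroup.centralizer ((P : Subgroup G) : Set G)) ∈ Nat.divisors 46 :=
      Nat.mem_divisors.2 ⟨hd, by norm_num⟩
    have hne : Nat.card ↥(Subgroup.centralizer ((P : Subgroup G) : Set G)) ≠ 46 := fun h =>
      hNC (Subgroup.eq_of_le_of_card_ge hle (by rw [h, hNP])).ge
    have hge : 23 ∣ Nat.card ↥(Subgroup.centralizer ((P : Subgroup G) : Set G)) := by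
      have := isCyclic_of_prime_card hP
      have hab := CfsgLib.SmallOrder.isMulCommutative_of_card_eq_prime_or_sq P (Or.inl hP)
      conv_lhs => rw [← hP]
      exact Subgroup.card_dvd_of_le fun a ha => Subgroup.mem_centralizer_iff.2 fun b hb =>
        congrArg Subtype.val (hab.is_comm.comm ⟨b, hb⟩ ⟨a, ha⟩)
    generalize Nat.card ↥(Subgroup.centralizer ((P : Subgroup G) : Set G)) = c at hmem hne hge
    revert hne hge
    revert hmem c
    decide
  obtain ⟨x, hxN, hxC, hx2⟩ :=
    CfsgLib.SmallOrder.exists_involution_of_two_mul P hP hPT (by norm_num) (by rw [hNP]; norm_num) hC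
  obtain ⟨k, hk1, hk4, hkb⟩ := CfsgLib.SmallOrder.involution_fixedBy hG P hP hxN hxC hx2
  rw [hn] at hk4 hkb
  omega

end Cfsg.Agent.S1014
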