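import Cfsg.Statements.S1015
import Cfsg.Agent.Lib.SmallOrder.Basic
import Mathlib.NumberTheory.Divisors
import Mathlib.Tactic.NormNum.Prime
import Mathlib.Tactic.IntervalCases

open CfsgLib.SmallOrder

set_option autoImplicit false
open Cfsg

namespace Cfsg.Agent.S1015

/-- No finite simple group has order 1200 = 2^4 * 3 * 5^2. -/
theorem result {G : Type*} [Group G] [Finite G] [IsSimpleGroup G] : Nat.card G ≠ 1200 := by
  intro hN
  have : Fact (Nat.Prime 5) := ⟨by norm_num⟩
  have hG : ¬ IsMulCommutative G := not_comm_of_not_prime (by rw [hN]; norm_num)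
  obtain ⟨h1, h2, h3, h4⟩ := card_sylow_facts (p := 5) (e := 2) (m := 48)
    (by omega) (by norm_num) (by norm_num) (by norm_num)
  have hm : Nat.card (Sylow 5 G) ∈ Nat.divisors 48 := Nat.mem_divisors.2 ⟨h1, by norm_num⟩
  have hn : Nat.card (Sylow 5 G) = 6 ∨ Nat.card (Sylow 5 G) = 16 := by
    generalize Nat.card (Sylow 5 G) = n at hm h2 h3
    revert h2 h3
    revert hm n
    decide
  rw [hN] at h4
  rcases hn with hn | hn
  · rw [hn] at h4
    revert h4
    decide
  have hP : ∀ P : Sylow 5 G, Nat.card ↥(P : Subgroup G) = 5 ^ 2 :=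
    card_sylow_eq (m := 48) (by omega) (by norm_num)
  obtain ⟨D, P, hDP, hD, n, hn5, hn1, hdvd⟩ := exists_inter_centralizer (p := 5) 2
    (fun P => isMulCommutative_of_card_eq_prime_or_sq P (Or.inr (hP P)))
    (by rw [hn]; decide)
  rw [hP P] at hD hdvd
  have hDne : D ≠ ⊥ := by
    rintro rfl
    simp at hD
  have hC := two_mul_card_dvd_factorial hG (centralizer_ne_top hG hDne)
  have hmul := (Subgroup.centralizer (D : Set G)).card_mul_index
  rw [hN] at hC hmul
  generalize (Subgroup.centralizer (D : Set G)).index = i at hC hmul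
  generalize Nat.card ↥(Subgroup.centralizer (D : Set G)) = c at hdvd hmul
  have hc0 : 0 < c := Nat.pos_of_ne_zero (by rintro rfl; simp at hmul)
  have hc : 150 ≤ c := le_trans (by omega : 150 ≤ 5 ^ 2 * n) (Nat.le_of_dvd hc0 hdvd)
  have hi : i ≤ 8 := by
    by_contra hi
    have : 150 * 9 ≤ c * i := Nat.mul_le_mul hc (by omega)
    omega
  interval_cases i <;> revert hC <;> decide

end Cfsg.Agent.S1015
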