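import Cfsg.Statements.S1022
import Cfsg.Agent.Lib.SmallOrder.Refined

set_option autoImplicit false
open Cfsg

namespace Cfsg.Agent.S1022

open Subgroup CfsgLib CfsgLib.SmallOrder
open scoped ComplexConjugate

/-- `noDegree` restricted to admissible degrees -/
def noDegreeOk (N p e t R : ℕ) (ok : ℕ → Bool) : Bool :=
  Nat.blt N ((R + 1) * (R + 1)) &&
  [(1 : ℤ), -1].all fun ε => (intBox (e + 1)).all fun k =>
    let S : ℤ := (e : ℤ) - 1 - (t : ℤ) * (k * k) - 2 * ε * k
    decide (S < 0) || ((degFs N e R).filter ok).all fun f0 =>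
      !(decide (((f0 : ℤ) - ((e : ℤ) * ε - k)) % (p : ℤ) = 0) && Nat.ble (1 + t * (f0 * f0)) N &&
        degSearch ((degCands N p e R).filter fun x => ok x.2) S.toNat (1 - ((t : ℤ) * k + ε) * f0)
          (N - (1 + t * (f0 * f0))))

theorem no_solution_of_ok {N p e t R : ℕ} {ok : ℕ → Bool} (ht : 1 ≤ t) (he : 2 ≤ e)
    (h : noDegreeOk N p e t R ok = true) (s : DegreeSolution N p e t) (hok0 : ok s.f0 = true)
    (hok : ∀ x ∈ s.l, ok x.2 = true) : False := by
  simp only [noDegreeOk, Bool.and_eq_true, Nat.blt_eq] at h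
  obtain ⟨hR, hall⟩ := h
  have hn2 : (((s.l.map fun x => x.1.natAbs * x.1.natAbs).sum : ℕ) : ℤ) =
      (s.l.map fun x => x.1 ^ 2).sum := by
    induction s.l with
    | nil => simp
    | cons a l ih =>
      simp only [List.map_cons, List.sum_cons, Nat.cast_add, ih, Nat.cast_mul]
      rw [← sq, Int.natAbs_sq]
  have hnorm := s.norm
  have hsq := s.squares
  have hw2 : ∀ x ∈ s.l, (x.1 * x.1 : ℤ) ≤ (s.l.map fun x => x.1 ^ 2).sum := by
    intro x hx
    rw [← pow_two]
    exact List.single_le_sum (fun y hy => by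
      obtain ⟨z, _, rfl⟩ := List.mem_map.1 hy; exact sq_nonneg _) _ (List.mem_map.2 ⟨x, hx, rfl⟩)
  have hf2 : ∀ x ∈ s.l, x.2 * x.2 ≤ (s.l.map fun x => x.2 ^ 2).sum := by
    intro x hx
    rw [← pow_two]
    exact List.single_le_sum (fun y _ => Nat.zero_le y) _ (List.mem_map.2 ⟨x, hx, rfl⟩)
  have hsum0 : 0 ≤ (s.l.map fun x => x.1 ^ 2).sum :=
    List.sum_nonneg fun y hy => by obtain ⟨z, _, rfl⟩ := List.mem_map.1 hy; exact sq_nonneg _
  have ht' : s.k ^ 2 ≤ (t : ℤ) * s.k ^ 2 :=
    le_mul_of_one_le_left (sq_nonneg _) (by exact_mod_cast ht)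
  have hke : -((e + 1 : ℕ) : ℤ) ≤ s.k ∧ s.k ≤ ((e + 1 : ℕ) : ℤ) := by
    have he' : (2 : ℤ) ≤ e := by exact_mod_cast he
    rcases s.hε with hε | hε <;> rw [hε] at hnorm <;> constructor <;> push_cast <;>
      nlinarith [sq_nonneg (s.k - 1), sq_nonneg (s.k + 1)]
  have hmem : s.ε ∈ [(1 : ℤ), -1] := by rcases s.hε with h | h <;> simp [h]
  have hk := List.all_eq_true.1 (List.all_eq_true.1 hall s.ε hmem)
    s.k (mem_intBox hke.1 hke.2)
  simp only [Bool.or_eq_true, decide_eq_true_eq] at hk
  rcases hk with hk | hk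
  · nlinarith
  have hfs : s.f0 ∈ (degFs N e R).filter ok := by
    refine List.mem_filter.2 ⟨mem_degFs s.f0_le s.f0_dvd ?_, hok0⟩
    have : 1 * (s.f0 * s.f0) ≤ t * s.f0 ^ 2 := by
      rw [pow_two]; exact Nat.mul_le_mul_right _ ht
    omega
  have h0 := List.all_eq_true.1 hk s.f0 hfs
  have hc : ∀ x ∈ s.l, x ∈ (degCands N p e R).filter (fun x => ok x.2) ∧ x.1 ≠ 0 := by
    intro x hx
    obtain ⟨h0, h1, h2, h3⟩ := s.others x hx
    refine ⟨List.mem_filter.2 ⟨List.mem_flatMap.2 ⟨x.2, mem_degFs h1 h2 (by have := hf2 x hx; omega),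
      List.mem_map.2 ⟨x.1, List.mem_filter.2 ⟨?_, ?_⟩, rfl⟩⟩, hok x hx⟩, h0⟩
    · have := hw2 x hx
      have hb : x.1 * x.1 ≤ (e : ℤ) := by
        rcases s.hε with hε | hε <;> rw [hε] at hnorm <;> nlinarith
      have h1le : |x.1| ≤ (e : ℤ) := by
        have := abs_mul_abs_self x.1
        have := Int.one_le_abs h0
        nlinarith
      exact mem_intBox (abs_le.1 h1le).1 (abs_le.1 h1le).2
    · have hb : x.1 * x.1 ≤ (e : ℤ) := by
        have := hw2 x hx
        rcases s.hε with hε | hε <;> rw [hε] at hnorm <;> nlinarith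
      simp [h0, hb, Int.emod_eq_zero_of_dvd h3]
  have hsearch := degSearch_spec ((degCands N p e R).filter fun x => ok x.2) s.l
    ((e : ℤ) - 1 - (t : ℤ) * (s.k * s.k) - 2 * s.ε * s.k).toNat
    (1 - ((t : ℤ) * s.k + s.ε) * s.f0) (N - (1 + t * (s.f0 * s.f0))) hc ?_ ?_ ?_
  · have hle : 1 + t * (s.f0 * s.f0) ≤ N := by rw [← pow_two]; omega
    have hb : Nat.ble (1 + t * (s.f0 * s.f0)) N = true := Nat.ble_eq.mpr hle
    simp [Int.emod_eq_zero_of_dvd s.f0_congr, hb, hsearch] at h0
  · have : (e : ℤ) - 1 - (t : ℤ) * (s.k * s.k) - 2 * s.ε * s.k =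
        (((s.l.map fun x => x.1.natAbs * x.1.natAbs).sum : ℕ) : ℤ) := by
      rw [hn2, ← hnorm]; ring
    rw [this, Int.toNat_natCast]
  · have := s.degEq
    linarith
  · have e1 : (s.l.map fun x => x.2 ^ 2) = s.l.map fun x => x.2 * x.2 :=
      List.map_congr_left fun x _ => pow_two _
    rw [e1, pow_two] at hsq
    omega


/-- degrees admitting a value at an involution of the centraliser -/
def okDeg (f : ℕ) : Bool :=
  (bVals f).any fun b => decide ((b - (f : ℤ)) % 19 = 0) && decide (b * b ≤ 456)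

universe u

variable {G : Type u} [Group G]

theorem le_centralizer {p : ℕ} [Fact p.Prime] [Finite G] {P : Sylow p G} (S : CSplit p P)
    (h4 : Nat.card S.V = 4) {v : G} (hv : v ∈ S.V) :
    centralizer ((P : Subgroup G) : Set G) ≤ centralizer ({v} : Set G) := by
  intro g hg
  obtain ⟨i, w, hw, rfl⟩ := S.hC g hg
  have : Fact (Nat.Prime 2) := ⟨Nat.prime_two⟩
  have hab := IsPGroup.commutative_of_card_eq_prime_sq (p := 2) (G := S.V) (by rw [h4]; norm_num)
  rw [mem_centralizer_singleton_iff]
  have h1 : Commute (zpw S.z i) v := S.commute i hv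
  have h2 : Commute w v := congrArg Subtype.val (hab ⟨w, hw⟩ ⟨v, hv⟩)
  exact (h1.mul_left h2).eq

theorem card_centralizer_le [Finite G] [IsSimpleGroup G] (hN : Nat.card G = 459648)
    [Fact (Nat.Prime 19)] {P : Sylow 19 G} (S : CSplit 19 P) (h4 : Nat.card S.V = 4)
    (hNP : Nat.card ↥(normalizer ((P : Subgroup G) : Set G)) = 456)
    {v : G} (hv : v ∈ S.V) (hv1 : v ≠ 1) : Nat.card ↥(centralizer ({v} : Set G)) ≤ 456 := by
  classical
  have hG : ¬ IsMulCommutative G := not_comm_of_not_prime (by rw [hN]; norm_num)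
  set C := centralizer ({v} : Set G) with hC
  have hPcard : Nat.card ↥(P : Subgroup G) = 19 := by
    simpa using card_sylow_eq (e := 1) (m := 24192) (by rw [hN]; norm_num) (by norm_num) P
  have hCP := le_centralizer S h4 hv
  have hcomm : IsMulCommutative ↥(P : Subgroup G) :=
    isMulCommutative_of_card_eq_prime_or_sq P (Or.inl hPcard)
  have hPC : (P : Subgroup G) ≤ C := le_trans (fun x hx =>
    mem_centralizer_iff.2 fun y hy => congrArg Subtype.val (hcomm.is_comm.comm ⟨y, hy⟩ ⟨x, hx⟩)) hCP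
  have h76 : 76 ∣ Nat.card C := by
    have := Subgroup.card_dvd_of_le hCP
    rwa [S.card_centralizer, h4] at this
  obtain ⟨x, hx⟩ := h76
  have hmul := C.card_mul_index
  rw [hN, hx] at hmul
  have hmx : x * C.index = 6048 := Nat.eq_of_mul_eq_mul_left (show 0 < 76 by norm_num)
    (by rw [← mul_assoc, hmul])
  have hCtop : C ≠ ⊤ := by
    intro h
    have hvz : v ∈ Subgroup.center G := Subgroup.mem_center_iff.2 fun g =>
      mem_centralizer_singleton_iff.1 (hC ▸ h ▸ Subgroup.mem_top g)
    rw [center_eq_bot_of_not_comm hG, Subgroup.mem_bot] at hvz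
    exact hv1 hvz
  have hfact := two_mul_card_dvd_factorial hG hCtop
  rw [hN] at hfact
  -- fixed points of `P` on the conjugates of `v`
  have hfix : C.index % 19 ≤ 4 := by
    have hPp : IsPGroup 19 ↥(P : Subgroup G) := P.2
    have hmod := hPp.card_modEq_card_fixedPoints (G ⧸ C)
    let f : MulAction.fixedPoints ↥(P : Subgroup G) (G ⧸ C) → S.V := fun q =>
      ⟨q.1.out * v * q.1.out⁻¹, by
        rw [S.mem_V_iff]
        refine ⟨mem_centralizer_iff.2 fun y hy => ?_, ?_⟩
        · have h := q.2 ⟨y, hy⟩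
          change y • q.1 = q.1 at h
          nth_rewrite 1 [← q.1.out_eq'] at h
          nth_rewrite 2 [← q.1.out_eq'] at h
          rw [MulAction.Quotient.smul_mk, smul_eq_mul, QuotientGroup.eq] at h
          have h2 : ((y * q.1.out)⁻¹ * q.1.out) * v = v * ((y * q.1.out)⁻¹ * q.1.out) :=
            mem_centralizer_singleton_iff.1 h
          have h3' : (q.1.out⁻¹ * y⁻¹ * q.1.out) * v = v * (q.1.out⁻¹ * y⁻¹ * q.1.out) := by
            simpa [mul_assoc] using h2
          have h3 : Commute (q.1.out⁻¹ * y⁻¹ * q.1.out) v := h3'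
          have h4 := ((Commute.conj_iff q.1.out).2 h3).inv_left
          simpa [mul_assoc] using h4.eq
        · rw [conj_pow, (S.mem_V_iff.1 hv).2]; group⟩
    have hf : Function.Injective f := by
      intro q r h
      have h' : q.1.out * v * q.1.out⁻¹ = r.1.out * v * r.1.out⁻¹ := congrArg Subtype.val h
      apply Subtype.ext
      rw [← q.1.out_eq', ← r.1.out_eq', QuotientGroup.eq]
      refine mem_centralizer_singleton_iff.2 ?_
      rw [mul_inv_eq_iff_eq_mul] at h'
      rw [mul_assoc, inv_mul_eq_iff_eq_mul]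
      calc r.1.out * v = r.1.out * v * r.1.out⁻¹ * r.1.out := by group
        _ = _ := by rw [← mul_inv_eq_iff_eq_mul.2 h']; group
    have hle := Nat.card_le_card_of_injective f hf
    rw [h4] at hle
    change C.index ≡ _ [MOD 19] at hmod
    rw [Nat.ModEq] at hmod
    rw [hmod]
    exact (Nat.mod_le _ _).trans hle
  -- the normaliser of `P` inside `C`
  obtain ⟨n, k, hnk, hn, hk76, hk456⟩ : ∃ n k, n * k = Nat.card C ∧ n % 19 = 1 ∧ 76 ∣ k ∧ k ∣ 456 := by
    let Q : Sylow 19 C := P.subtype hPC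
    refine ⟨Nat.card (Sylow 19 C), Nat.card ↥(normalizer ((Q : Subgroup C) : Set C)),
      by rw [mul_comm]; exact card_normalizer_mul Q, ?_, ?_, ?_⟩
    · have := card_sylow_modEq_one 19 C
      rwa [Nat.ModEq, Nat.one_mod_eq_one.2 (by norm_num)] at this
    all_goals
      have hQ : normalizer ((Q : Subgroup C) : Set C) =
          (normalizer ((P : Subgroup G) : Set G)).subgroupOf C :=
        (subgroupOf_normalizer_eq hPC).symm
      rw [hQ, ← inf_subgroupOf_right, Nat.card_congr (subgroupOfEquivOfLe inf_le_right).toEquiv]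
    · have := Subgroup.card_dvd_of_le (le_inf (centralizer_le_normalizer _) hCP)
      rwa [S.card_centralizer, h4] at this
    · rw [← hNP]
      exact Subgroup.card_dvd_of_le inf_le_left
  rw [hx] at hnk ⊢
  by_contra hlt
  push Not at hlt
  have hdiv : C.index ∈ Nat.divisors 6048 :=
    Nat.mem_divisors.2 ⟨⟨x, by rw [mul_comm]; exact hmx.symm⟩, by norm_num⟩
  have hidx : C.index < 1008 := by
    by_contra hge
    have : x * 1008 ≤ x * C.index := Nat.mul_le_mul_left x (by omega)
    omega
  have hlist : C.index ∈ [1, 2, 3, 4, 21, 42, 96, 288] := by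
    have key : ∀ m ∈ Nat.divisors 6048, m < 1008 → m % 19 ≤ 4 →
        m ∈ [1, 2, 3, 4, 21, 42, 96, 288] := by decide +kernel
    exact key _ hdiv hidx hfix
  simp only [List.mem_cons, List.not_mem_nil, or_false] at hlist
  obtain ⟨l, rfl⟩ := hk76
  have hl : l ∣ 6 := Nat.dvd_of_mul_dvd_mul_left (show 0 < 76 by norm_num) hk456
  have hl6 : l ≤ 6 := Nat.le_of_dvd (by norm_num) hl
  have hnl : n * l = x := Nat.eq_of_mul_eq_mul_left (show 0 < 76 by norm_num)
    (by rw [← hnk]; ring)
  have hl0 : l ∈ Nat.divisors 6 := Nat.mem_divisors.2 ⟨hl, by norm_num⟩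
  rcases hlist with h | h | h | h | h | h | h | h
  case inr.inr.inr.inr.inl =>
    -- index `21`
    rw [h] at hmx
    have hx288 : x = 288 := by omega
    let x₀ : G ⧸ C := QuotientGroup.mk (1 : G)
    have hbase : ∀ c : C, c • x₀ = x₀ := fun c => by
      change (QuotientGroup.mk ((c : G) * 1) : G ⧸ C) = QuotientGroup.mk (1 : G)
      rw [QuotientGroup.eq, mul_one, mul_one]
      exact inv_mem c.2
    obtain ⟨q, y, hy, hq⟩ : ∃ (q : G ⧸ C) (y : G), y ∈ (P : Subgroup G) ∧ y • q ≠ q := by
      by_contra hcon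
      push Not at hcon
      have hP1 : (P : Subgroup G) = ⊥ := (Subgroup.eq_bot_iff_forall _).2 fun y hy => by
        apply toPermHom_injective hCtop
        rw [map_one]
        exact Equiv.ext fun q => hcon q y hy
      rw [hP1, Subgroup.card_bot] at hPcard
      omega
    have h19 : 19 ≤ Nat.card (MulAction.orbit C q) := by
      obtain ⟨j, hj⟩ := P.2.card_orbit q
      have hsub : MulAction.orbit ↥(P : Subgroup G) q ⊆ MulAction.orbit C q := by
        rintro _ ⟨u, rfl⟩
        exact ⟨⟨u, hPC u.2⟩, rfl⟩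
      have hj0 : j ≠ 0 := by
        rintro rfl
        rw [pow_zero] at hj
        obtain ⟨hsub', -⟩ := Nat.card_eq_one_iff_unique.1 hj
        exact hq (congrArg Subtype.val (hsub'.elim ⟨y • q, ⟨⟨y, hy⟩, rfl⟩⟩
          ⟨q, MulAction.mem_orbit_self q⟩))
      calc 19 ≤ 19 ^ j := Nat.le_self_pow hj0 19
        _ = Nat.card (MulAction.orbit ↥(P : Subgroup G) q) := hj.symm
        _ ≤ _ := Nat.card_le_card_of_injective _ (Set.inclusion_injective hsub)
    have hx0 : x₀ ∉ MulAction.orbit C q := by
      intro hm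
      obtain ⟨c, hc⟩ := hm
      have : q = x₀ := MulAction.injective c (hc.trans (hbase c).symm)
      exact hq (this ▸ hbase ⟨y, hPC hy⟩)
    have h20 : Nat.card (MulAction.orbit C q) < 21 := by
      rw [← h, Subgroup.index, Nat.card_coe_set_eq, ← Set.ncard_univ]
      exact Set.ncard_lt_ncard ⟨Set.subset_univ _, fun hs => hx0 (hs (Set.mem_univ _))⟩
    have hdvd : Nat.card (MulAction.orbit C q) ∣ 21888 := by
      refine ⟨Nat.card (MulAction.stabilizer C q), ?_⟩
      rw [← Nat.card_prod, Nat.card_congr (MulAction.orbitProdStabilizerEquivGroup C q), hx, hx288]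
    have h19' : Nat.card (MulAction.orbit C q) = 19 :=
      (by decide : ∀ o < 21, 19 ≤ o → o ∣ 21888 → o = 19) _ h20 h19 hdvd
    -- the remaining point
    set O := MulAction.orbit C q with hO
    have hcompl : (Oᶜ).ncard = 2 := by
      have hadd := Set.ncard_add_ncard_compl O
      rw [← Nat.card_coe_set_eq O, h19', show Nat.card (G ⧸ C) = 21 from h] at hadd
      omega
    obtain ⟨a, b, hab, hOc⟩ := Set.ncard_eq_two.1 hcompl
    obtain ⟨r, hr0, hrfix⟩ : ∃ r : G ⧸ C, r ≠ x₀ ∧ ∀ c : C, c • r = r := by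
      have hx0' : x₀ ∈ ({a, b} : Set (G ⧸ C)) := hOc ▸ hx0
      have hstay : ∀ c : C, ∀ r ∈ ({a, b} : Set (G ⧸ C)), c • r ∈ ({a, b} : Set (G ⧸ C)) := by
        intro c r hr
        rw [← hOc] at hr ⊢
        intro hm
        apply hr
        have hmem := MulAction.mem_orbit_of_mem_orbit c⁻¹ hm
        rwa [inv_smul_smul] at hmem
      rcases hx0' with e | e
      · refine ⟨b, fun e' => hab (e.symm.trans e'.symm), fun c => ?_⟩
        rcases hstay c b (Or.inr rfl) with h' | h'
        · exact absurd (MulAction.injective c (h'.trans (e.symm.trans (hbase c).symm) ))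
            (fun e' => hab (e.symm.trans e'.symm))
        · exact h'
      · rw [Set.mem_singleton_iff] at e
        refine ⟨a, fun e' => hab (e'.trans e), fun c => ?_⟩
        rcases hstay c a (Or.inl rfl) with h' | h'
        · exact h'
        · exact absurd (MulAction.injective c ((Set.mem_singleton_iff.1 h').trans
            (e.symm.trans (hbase c).symm))) (fun e' => hab (e'.trans e))
    obtain ⟨g, rfl⟩ := QuotientGroup.mk_surjective r
    have hgN : g ∈ normalizer (C : Set G) := by
      have hle : C ≤ C.map (MulAut.conj g).toMonoidHom := by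
        intro c hc
        have h' := hrfix ⟨c, hc⟩
        change (QuotientGroup.mk (c * g) : G ⧸ C) = QuotientGroup.mk g at h'
        rw [QuotientGroup.eq] at h'
        refine ⟨g⁻¹ * c * g, ?_, by simp [mul_assoc]⟩
        simpa [mul_assoc] using inv_mem h'
      have heq := Subgroup.eq_of_le_of_card_ge hle (le_of_eq
        (Nat.card_congr (C.equivMapOfInjective _ (MulAut.conj g).injective).toEquiv).symm)
      rw [mem_normalizer_iff]
      intro c
      constructor
      · intro hc
        rw [heq]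
        exact ⟨c, hc, rfl⟩
      · intro hc
        rw [heq] at hc
        obtain ⟨d, hd, hde⟩ := hc
        have hde' : g * d * g⁻¹ = g * c * g⁻¹ := hde
        exact mul_left_cancel (mul_right_cancel hde') ▸ hd
    have hgC : g ∉ C := fun hg => hr0 (by
      rw [QuotientGroup.eq, mul_one]; exact inv_mem hg)
    have hNC : C.relIndex (normalizer (C : Set G)) * (normalizer (C : Set G)).index = 21 := by
      rw [Subgroup.relIndex_mul_index le_normalizer, h]
    have hNtop : normalizer (C : Set G) ≠ ⊤ := by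
      intro e
      have hnor : C.Normal := normalizer_eq_top_iff.1 e
      rcases hnor.eq_bot_or_eq_top with e' | e'
      · rw [e', Subgroup.card_bot] at hx; omega
      · exact hCtop e'
    have hrel : C.relIndex (normalizer (C : Set G)) ≠ 1 := fun e =>
      hgC (Subgroup.relIndex_eq_one.1 e hgN)
    have hfact' := two_mul_card_dvd_factorial hG hNtop
    rw [hN] at hfact'
    have hlt21 : (normalizer (C : Set G)).index ≤ 7 := by
      have hdvd : (normalizer (C : Set G)).index ∣ 21 := Dvd.intro_left _ hNC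
      have hne : (normalizer (C : Set G)).index ≠ 21 := fun e => by
        rw [e] at hNC
        exact hrel (by omega)
      have hle := Nat.le_of_dvd (by norm_num) hdvd
      generalize (normalizer (C : Set G)).index = j at hdvd hne hle
      revert hdvd hne
      interval_cases j <;> decide
    have := hfact'.trans (Nat.factorial_dvd_factorial hlt21)
    norm_num [Nat.factorial] at this
  all_goals
    rw [h] at hmx hfact
    first
      | (norm_num [Nat.factorial] at hfact; done)
      | (rcases (show l = 1 ∨ l = 2 ∨ l = 3 ∨ l = 6 by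
            revert hl0; generalize l = m; intro hm
            simpa using (show m ∈ [1, 2, 3, 6] from (by decide :
              ∀ m ∈ Nat.divisors 6, m ∈ [1, 2, 3, 6]) m hm)) with rfl | rfl | rfl | rfl <;> omega)

set_option maxHeartbeats 1000000 in
theorem not_card [Finite G] [IsSimpleGroup G] : Nat.card G ≠ 459648 := by
  classical
  intro hN
  cases nonempty_fintype G
  have : Fact (Nat.Prime 19) := ⟨by norm_num⟩
  have hG : ¬ IsMulCommutative G := not_comm_of_not_prime (by rw [hN]; norm_num)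
  obtain ⟨P⟩ := (inferInstance : Nonempty (Sylow 19 G))
  have hP : Nat.card ↥(P : Subgroup G) = 19 := by
    simpa using card_sylow_eq (e := 1) (m := 24192) (by rw [hN]; norm_num) (by norm_num) P
  obtain ⟨h1, h2, h3, -⟩ := card_sylow_facts (G := G) (p := 19) (e := 1) (m := 24192)
    (by rw [hN]; norm_num) (by norm_num) one_pos (by norm_num)
  obtain ⟨S⟩ := exists_csplit P hP
  obtain ⟨c₀, e₀, t₀, hC₀, hN₀, -, he₀, het₀, -⟩ := exists_degreeSolution hG P hP
  have hc₀ : Nat.card S.V = c₀ := by
    have := S.card_centralizer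
    rw [hC₀] at this
    exact (Nat.eq_of_mul_eq_mul_left (by norm_num) this).symm
  subst hc₀
  have he₁ : Nat.card S.act.range = e₀ := by
    have := S.card_normalizer
    rw [hN₀] at this
    exact (Nat.eq_of_mul_eq_mul_left (Nat.mul_pos (by norm_num) Nat.card_pos) this).symm
  subst he₁
  have hNtop : normalizer ((P : Subgroup G) : Set G) ≠ ⊤ := by
    intro e
    have := card_normalizer_mul P
    rw [e, Subgroup.card_top] at this
    have h1' : Nat.card (Sylow 19 G) = 1 := Nat.eq_of_mul_eq_mul_left (Nat.card_pos (α := G))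
      (by rw [mul_one]; exact this)
    omega
  have horb := S.card_dvd_factorial_orbits hP hNtop
  have hmul := card_normalizer_mul P
  rw [hN₀, hN, mul_assoc, mul_assoc] at hmul
  have hk : Nat.card S.V * (Nat.card S.act.range * Nat.card (Sylow 19 G)) = 24192 :=
    Nat.eq_of_mul_eq_mul_left (show 0 < 19 by norm_num) (by rw [hmul])
  have hn : Nat.card (Sylow 19 G) ∈ [96, 1008] :=
    (by decide +kernel : ∀ n ∈ Nat.divisors 24192, n % 19 = 1 → 1 < n → n ∈ [96, 1008]) _
      (Nat.mem_divisors.2 ⟨h1, by norm_num⟩) h2 h3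
  have he18 : Nat.card S.act.range ∈ Nat.divisors 18 :=
    Nat.mem_divisors.2 ⟨Dvd.intro _ het₀, by norm_num⟩
  obtain ⟨B⟩ := S.exists_blockSolution het₀ he₀
  set c := Nat.card S.V with hc
  set e := Nat.card S.act.range with he
  set n := Nat.card (Sylow 19 G) with hn'
  have hcases : (c = 4 ∧ e = 6 ∧ n = 1008) ∨ (c = 8 ∧ e = 3) ∨ (c = 12 ∧ e = 2) := by
    simp only [List.mem_cons, List.not_mem_nil, or_false] at hn
    have he' : e = 2 ∨ e = 3 ∨ e = 6 ∨ e = 9 ∨ e = 18 := by
      have := (by decide : ∀ m ∈ Nat.divisors 18, m ∈ [1, 2, 3, 6, 9, 18]) _ he18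
      simp only [List.mem_cons, List.not_mem_nil, or_false] at this
      omega
    rcases hn with hn | hn <;> rw [hn] at hk horb <;>
      rcases he' with h | h | h | h | h <;> rw [h] at hk ⊢
    all_goals first
      | omega
      | (exfalso
         have hce : c = 126 ∨ c = 84 ∨ c = 42 ∨ c = 28 ∨ c = 14 := by omega
         rcases hce with h' | h' | h' | h' | h' <;> rw [h'] at horb <;>
           norm_num [Nat.factorial] at horb)
  have het : e * t₀ = 18 := het₀
  have hNe : ∀ {e' t' R : ℕ}, e = e' → t₀ = t' → noDegree 459648 19 e' t' R = true → 1 ≤ t' → False := by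
    intro e' t' R h h' hd ht
    have s := B.sol
    rw [hN] at s
    change DegreeSolution 459648 19 e t₀ at s
    rw [h, h'] at s
    exact (isEmpty_degreeSolution ht (by omega) hd).false s
  rcases hcases with ⟨hc4, he6, hn8⟩ | ⟨-, he3⟩ | ⟨-, he2⟩
  rotate_left
  · exact hNe (R := 678) he3 (show t₀ = 6 by rw [he3] at het; omega) (by decide +kernel) (by norm_num)
  · exact hNe (R := 678) he2 (show t₀ = 9 by rw [he2] at het; omega) (by decide +kernel) (by norm_num)
  obtain ⟨v, hv⟩ := exists_prime_orderOf_dvd_card' (G := S.V) 2 (by rw [← hc, hc4]; norm_num)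
  have hv2 : (v : G) ^ 2 = 1 := by
    rw [← Subgroup.coe_pow, ← hv, pow_orderOf_eq_one, OneMemClass.coe_one]
  have hv1 : (v : G) ≠ 1 := fun e' => by
    have : v = 1 := Subtype.ext e'
    rw [this, orderOf_one] at hv
    omega
  have hcent := card_centralizer_le hN S hc4 (by rw [hN₀, hc4, he6]) v.2 hv1
  obtain ⟨M, hM⟩ := Char.exists_pModular (p := 19) (Fact.out)
  have hokχ : ∀ χ : Cfsg.IrrCharacter G, χ ≠ Char.principalIrr → ¬ 19 ∣ S.tmult χ →
      okDeg (Char.degree χ.1) = true := by
    intro χ hχ hT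
    obtain ⟨m, hme, hm0, hmlt, hval⟩ := exists_involution_value hG hχ hv1 hv2
    set b : ℤ := (Char.degree χ.1 : ℤ) - 2 * m with hb
    have hmax := Blocks.isMaximal_of_isPModular hM
    have hchar : CharP (Blocks.ResField M) 19 :=
      Blocks.charP_resField Fact.out (Blocks.natCast_mem_of_isPModular hM)
    have hr := S.red_value χ hT hM v.2 ((b : ℤ) : Cfsg.AlgInt) (by rw [hval]; simp)
    rw [map_intCast] at hr
    have hd1 : (19 : ℤ) ∣ b - (S.tmult χ : ℤ) := by
      refine (CharP.intCast_eq_zero_iff (Blocks.ResField M) 19 _).1 ?_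
      rw [Int.cast_sub, Int.cast_natCast, sub_eq_zero]
      exact hr
    have hd2 : (19 : ℤ) ∣ (Char.degree χ.1 : ℤ) - (S.tmult χ : ℤ) := by
      refine (ZMod.intCast_zmod_eq_zero_iff_dvd _ 19).1 ?_
      rw [Int.cast_sub, Int.cast_natCast, Int.cast_natCast, sub_eq_zero]
      exact S.degree_modEq χ hT
    have hbb : b * b ≤ 456 := by
      have hsum := Char.sum_mul_conj (G := G) (v : G) (v : G)
      rw [if_pos (IsConj.refl _)] at hsum
      simp only [Complex.mul_conj, ← Complex.ofReal_sum] at hsum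
      have hsum' := congrArg Complex.re hsum
      rw [Complex.ofReal_re, Complex.natCast_re] at hsum'
      have hle := Finset.single_le_sum (f := fun φ : Cfsg.IrrCharacter G => Complex.normSq (φ.1 (v : G)))
        (fun φ _ => Complex.normSq_nonneg _) (Finset.mem_univ χ)
      rw [hsum'] at hle
      rw [show χ.1 (v : G) = ((b : ℤ) : ℂ) from hval] at hle
      rw [show ((b : ℤ) : ℂ) = ((b : ℝ) : ℂ) by simp, Complex.normSq_ofReal] at hle
      have h456 : (b : ℝ) * b ≤ 456 := hle.trans (by exact_mod_cast hcent)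
      exact_mod_cast h456
    have hd3 : (19 : ℤ) ∣ b - (Char.degree χ.1 : ℤ) :=
      (sub_sub_sub_cancel_right b (Char.degree χ.1 : ℤ) (S.tmult χ : ℤ)) ▸ hd1.sub hd2
    have hmem := mem_bVals hme hm0 hmlt
    clear_value b
    generalize Char.degree χ.1 = f at hd3 hmem hb ⊢
    exact List.any_eq_true.2 ⟨b, hb ▸ hmem, Bool.and_eq_true_iff.2
      ⟨decide_eq_true (Int.emod_eq_zero_of_dvd hd3), decide_eq_true hbb⟩⟩
  have ht3 : t₀ = 3 := by rw [he6] at het; omega
  subst ht3
  refine no_solution_of_ok (R := 678) (ok := okDeg) (by norm_num) (by omega) ?_ B.sol ?_ ?_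
  · rw [hN]
    change noDegreeOk 459648 19 e 3 678 okDeg = true
    rw [he6]
    decide +kernel
  · rw [B.hf0]
    exact hokχ _ (B.good _ (Or.inl rfl)).1 (B.good _ (Or.inl rfl)).2
  · intro x hx
    rw [B.hl, List.mem_map] at hx
    obtain ⟨y, hy, rfl⟩ := hx
    have hg := B.good y.2 (Or.inr (List.mem_map.2 ⟨y, hy, rfl⟩))
    exact hokχ _ hg.1 hg.2

/-- No finite simple group has order 459648 = 2^7 * 3^3 * 7 * 19. -/
theorem result {G : Type*} [Group G] [Finite G] [IsSimpleGroup G] : Nat.card G ≠ 459648 := by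
  exact not_card

end Cfsg.Agent.S1022
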