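import Cfsg.Statements.S1026
import Cfsg.Agent.Lib.Chev.UWord
-- import your own Cfsg.Agent.* helpers here

set_option autoImplicit false
open Cfsg

namespace Cfsg.Agent.S1026

/-- Every element of `U` has a unique expression `∏_{r ∈ Φ⁺} x_r(t_r)`, the product over the positive roots in increasing index order (the coefficient family `t`, supported on the positive roots, exists and is unique); and conversely every such ordered product is the matrix of an element of `U`. -/
theorem result {F : Type*} [Field F] (D : Cfsg.Lie.ChevalleyDatum) (hD : D ∈ [Cfsg.Lie.chevG2, Cfsg.Lie.chevB2, Cfsg.Lie.chevD4, Cfsg.Lie.chevF4, Cfsg.Lie.chevE6, Cfsg.Lie.chevE7, Cfsg.Lie.chevE8]) :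
    (∀ g : GL D.Idx F, g ∈ D.posUnipotent F →
      ∃! t : ℕ → F, (∀ r, ¬ D.IsPosRoot r → t r = 0) ∧
        (g : Matrix D.Idx D.Idx F) = D.wordMat F (D.posRoots.map fun r => (r, t r))) ∧
    (∀ t : ℕ → F, ∃ g : GL D.Idx F, g ∈ D.posUnipotent F ∧
      (g : Matrix D.Idx D.Idx F) = D.wordMat F (D.posRoots.map fun r => (r, t r))) := by
  obtain ⟨T, hC, hK⟩ := CfsgLib.Chev.exists_checked' hD
  classical
  constructor
  · intro g hg
    rw [CfsgLib.Chev.posUnipotent_eq hC] at hg
    obtain ⟨t, rfl⟩ := CfsgLib.Chev.uGen_exists hC hK (CfsgLib.Chev.closedPos_pos hC) hg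
    refine ⟨fun r => if D.IsPosRoot r then t r else 0, ⟨fun r hr => if_neg hr, ?_⟩, ?_⟩
    · rw [CfsgLib.Chev.wordMat_posRoots hC]
      refine congrArg Units.val (CfsgLib.Chev.uProd_congr fun r hr => ?_)
      obtain ⟨-, h1, h2⟩ := CfsgLib.Chev.mem_rootsFrom.1 hr
      exact (if_pos ((CfsgLib.Chev.isPosRoot_iff hC).2 ⟨h1, h2⟩)).symm
    · rintro t' ⟨h0, he⟩
      rw [CfsgLib.Chev.wordMat_posRoots hC] at he
      have e := CfsgLib.Chev.uProd_inj hC (fun r _ h => h) 0 (Units.ext he)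
      funext r
      by_cases hr : D.IsPosRoot r
      · simp only [if_pos hr]
        have hr' := (CfsgLib.Chev.isPosRoot_iff hC).1 hr
        exact (e r (CfsgLib.Chev.mem_rootsFrom.2 ⟨Nat.zero_le _, hr'.1, hr'.2⟩)).symm
      · simp only [if_neg hr]; exact h0 r hr
  · intro t
    refine ⟨CfsgLib.Chev.uProd D F (CfsgLib.Chev.rootsFrom D (fun r => D.nroots / 2 ≤ r) 0) t, ?_,
      (CfsgLib.Chev.wordMat_posRoots hC t).symm⟩
    rw [CfsgLib.Chev.posUnipotent_eq hC]
    exact CfsgLib.Chev.mem_uGen_of_uProd hC t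

end Cfsg.Agent.S1026
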