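import Cfsg.Statements.S1034
import Cfsg.Agent.Lib.Chev.UWord
-- import your own Cfsg.Agent.* helpers here

set_option autoImplicit false
open Cfsg

namespace Cfsg.Agent.S1034

/-- Every element of `H` is a product `h_{p_1}(c_1) ⋯ h_{p_l}(c_l)` over the fundamental roots, with non-zero `c_i`. -/
theorem result {F : Type*} [Field F] (D : Cfsg.Lie.ChevalleyDatum) (hD : D ∈ [Cfsg.Lie.chevG2, Cfsg.Lie.chevB2, Cfsg.Lie.chevD4, Cfsg.Lie.chevF4, Cfsg.Lie.chevE6, Cfsg.Lie.chevE7, Cfsg.Lie.chevE8]) (g : GL D.Idx F) (hg : g ∈ D.diagonalSubgroup F) :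
    ∃ c : ℕ → F, (∀ i < D.rank, c i ≠ 0) ∧
      (g : Matrix D.Idx D.Idx F) = D.wordMat F ((List.range D.rank).flatMap fun i => D.hWord (D.simple i) (c i)) := by
  obtain ⟨T, hC⟩ := CfsgLib.Chev.exists_checked hD
  obtain ⟨c, rfl⟩ := (CfsgLib.Chev.mem_diagonal hC).1 hg
  refine ⟨fun i => if h : i < D.rank then (c ⟨i, h⟩ : F) else 1, fun i hi => ?_, ?_⟩
  · simp only [dif_pos hi]; exact Units.ne_zero _
  rw [CfsgLib.Chev.hPar_eq_corChar hC, List.flatMap, ← CfsgLib.Chev.coe_wordGL hC]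
  · congr 1
    rw [CfsgLib.Chev.wordGL, List.map_flatten, List.prod_flatten, List.map_map, List.map_map]
    rw [← List.map_coe_finRange_eq_range, List.map_map, Fin.prod_univ_def, map_list_prod, List.map_map]
    congr 1
    refine List.map_congr_left fun i _ => ?_
    simp only [Function.comp_apply, dif_pos i.2]
    rw [← CfsgLib.Chev.elH_eq_torus hC (CfsgLib.Chev.simple_lt hC i.2)]
    simp [Cfsg.Lie.ChevalleyDatum.hWord, Cfsg.Lie.ChevalleyDatum.nWord, CfsgLib.Chev.elH, CfsgLib.Chev.elN, mul_assoc]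
  · intro p hp
    rw [List.mem_flatten] at hp
    obtain ⟨l, hl, hp⟩ := hp
    obtain ⟨i, hi, rfl⟩ := List.mem_map.1 hl
    have hs := CfsgLib.Chev.simple_lt hC (List.mem_range.1 hi)
    simp [Cfsg.Lie.ChevalleyDatum.hWord, Cfsg.Lie.ChevalleyDatum.nWord] at hp
    rcases hp with rfl | rfl | rfl | rfl | rfl | rfl <;> first | exact hs | exact CfsgLib.Chev.neg_lt hC hs

end Cfsg.Agent.S1034
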