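import Cfsg.Statements.S1039
import Cfsg.Agent.Lib.ChevWeyl.Quot
import Cfsg.Agent.Lib.Chev.All
import Cfsg.Agent.Lib.Weyl.G2
import Cfsg.Agent.Lib.Weyl.B2
import Cfsg.Agent.Lib.Weyl.D4
import Cfsg.Agent.Lib.Weyl.F4
import Cfsg.Agent.Lib.Weyl.E6
import Cfsg.Agent.Lib.Weyl.E7
import Cfsg.Agent.Lib.Weyl.E8


set_option autoImplicit false
open Cfsg

namespace Cfsg.Agent.S1039

/-- `N/H ≅ W`: there is a surjective homomorphism from `N` onto the Coxeter group of the type (Mathlib's Coxeter matrix G₂, B₂, F₄, E₆, E₇, E₈, nodes numbered as the fundamental roots) with kernel `H`, mapping each `n_{p_i}` to the `i`-th simple reflection. -/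
theorem result {F : Type*} [Field F]
    (p : Cfsg.Lie.ChevalleyDatum × (Σ n : ℕ, CoxeterMatrix (Fin n)))
    (hp : p ∈ [(Cfsg.Lie.chevG2, ⟨2, CoxeterMatrix.G₂⟩), (Cfsg.Lie.chevB2, ⟨2, CoxeterMatrix.B 2⟩), (Cfsg.Lie.chevD4, ⟨4, Cfsg.Lie.coxeterD4⟩), (Cfsg.Lie.chevF4, ⟨4, CoxeterMatrix.F₄⟩),
      (Cfsg.Lie.chevE6, ⟨6, CoxeterMatrix.E₆⟩), (Cfsg.Lie.chevE7, ⟨7, CoxeterMatrix.E₇⟩), (Cfsg.Lie.chevE8, ⟨8, CoxeterMatrix.E₈⟩)]) :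
    ∃ φ : ↥(p.1.monomialSubgroup F) →* p.2.2.Group, Function.Surjective φ ∧
      φ.ker = (p.1.diagonalSubgroup F).subgroupOf (p.1.monomialSubgroup F) ∧
      ∀ (i : Fin p.2.1) (g : ↥(p.1.monomialSubgroup F)),
        ((g : GL p.1.Idx F) : Matrix p.1.Idx p.1.Idx F) = p.1.nMat F (p.1.simple i) 1 → φ g = p.2.2.simple i := by
  obtain ⟨T, hT⟩ := CfsgLib.Chev.exists_checked (D := p.1) (by
    simp only [List.mem_cons, List.not_mem_nil, or_false] at hp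
    rcases hp with rfl | rfl | rfl | rfl | rfl | rfl | rfl <;> simp)
  simp only [List.mem_cons, List.not_mem_nil, or_false] at hp
  rcases hp with rfl | rfl | rfl | rfl | rfl | rfl | rfl
  · exact CfsgLib.ChevWeyl.exists_weyl_hom hT (C := CfsgLib.Weyl.G2.cartan) (B := [[2, 1], [3, 2]]) (d := 1) (s := [1, 1]) (t := [1, 1]) (c := 1)
      (by decide +kernel) CfsgLib.Weyl.G2.cartan_repTest CfsgLib.Weyl.G2.card_and_faithful.2.2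
  · exact CfsgLib.ChevWeyl.exists_weyl_hom hT (C := CfsgLib.Weyl.B2.cartan) (B := [[2, 1], [2, 2]]) (d := 2) (s := [1, 1]) (t := [1, 1]) (c := 1)
      (by decide +kernel) CfsgLib.Weyl.B2.cartan_repTest CfsgLib.Weyl.B2.card_and_faithful.2.2
  · exact CfsgLib.ChevWeyl.exists_weyl_hom hT (C := CfsgLib.Weyl.D4.cartan) (B := [[4, 4, 2, 2], [4, 8, 4, 4], [2, 4, 4, 2], [2, 4, 2, 4]]) (d := 4) (s := [1, 1, 1, 1]) (t := [1, 1, 1, 1]) (c := 1)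
      (by decide +kernel) CfsgLib.Weyl.D4.cartan_repTest CfsgLib.Weyl.D4.card_and_faithful.2.2
  · exact CfsgLib.ChevWeyl.exists_weyl_hom hT (C := CfsgLib.Weyl.F4.cartan) (B := [[2, 3, 4, 2], [3, 6, 8, 4], [2, 4, 6, 3], [1, 2, 3, 2]]) (d := 1) (s := [1, 1, 2, 2]) (t := [2, 2, 1, 1]) (c := 2)
      (by decide +kernel) CfsgLib.Weyl.F4.cartan_repTest CfsgLib.Weyl.F4.card_and_faithful.2.2
  · exact CfsgLib.ChevWeyl.exists_weyl_hom hT (C := CfsgLib.Weyl.E6.cartan) (B := [[4, 3, 5, 6, 4, 2], [3, 6, 6, 9, 6, 3], [5, 6, 10, 12, 8, 4], [6, 9, 12, 18, 12, 6], [4, 6, 8, 12, 10, 5], [2, 3, 4, 6, 5, 4]]) (d := 3) (s := [1, 1, 1, 1, 1, 1]) (t := [1, 1, 1, 1, 1, 1]) (c := 1)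
      (by decide +kernel) CfsgLib.Weyl.E6.cartan_repTest CfsgLib.Weyl.E6.card_and_faithful.2.2
  · exact CfsgLib.ChevWeyl.exists_weyl_hom hT (C := CfsgLib.Weyl.E7.cartan) (B := [[4, 4, 6, 8, 6, 4, 2], [4, 7, 8, 12, 9, 6, 3], [6, 8, 12, 16, 12, 8, 4], [8, 12, 16, 24, 18, 12, 6], [6, 9, 12, 18, 15, 10, 5], [4, 6, 8, 12, 10, 8, 4], [2, 3, 4, 6, 5, 4, 3]]) (d := 2) (s := [1, 1, 1, 1, 1, 1, 1]) (t := [1, 1, 1, 1, 1, 1, 1]) (c := 1)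
      (by decide +kernel) CfsgLib.Weyl.E7.cartan_repTest CfsgLib.Weyl.E7.card_and_faithful.2.2
  · exact CfsgLib.ChevWeyl.exists_weyl_hom hT (C := CfsgLib.Weyl.E8.cartan) (B := [[4, 5, 7, 10, 8, 6, 4, 2], [5, 8, 10, 15, 12, 9, 6, 3], [7, 10, 14, 20, 16, 12, 8, 4], [10, 15, 20, 30, 24, 18, 12, 6], [8, 12, 16, 24, 20, 15, 10, 5], [6, 9, 12, 18, 15, 12, 8, 4], [4, 6, 8, 12, 10, 8, 6, 3], [2, 3, 4, 6, 5, 4, 3, 2]]) (d := 1) (s := [1, 1, 1, 1, 1, 1, 1, 1]) (t := [1, 1, 1, 1, 1, 1, 1, 1]) (c := 1)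
      (by decide +kernel) CfsgLib.Weyl.E8.cartan_repTest CfsgLib.Weyl.E8.card_and_faithful.2.2

end Cfsg.Agent.S1039
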