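import Cfsg.Statements.S1041
import Cfsg.Agent.Lib.Chev.UWord
-- import your own Cfsg.Agent.* helpers here

set_option autoImplicit false
open Cfsg

namespace Cfsg.Agent.S1041

/-- `U` and `V` generate the whole Chevalley group. -/
theorem result {F : Type*} [Field F] (D : Cfsg.Lie.ChevalleyDatum) (hD : D ∈ [Cfsg.Lie.chevG2, Cfsg.Lie.chevB2, Cfsg.Lie.chevD4, Cfsg.Lie.chevF4, Cfsg.Lie.chevE6, Cfsg.Lie.chevE7, Cfsg.Lie.chevE8]) : D.posUnipotent F ⊔ D.negUnipotent F = D.group F := by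
  obtain ⟨T, hC⟩ := CfsgLib.Chev.exists_checked hD
  rw [CfsgLib.Chev.posUnipotent_eq hC, CfsgLib.Chev.negUnipotent_eq hC, CfsgLib.Chev.group_eq hC]
  refine le_antisymm (sup_le (CfsgLib.Chev.uGen_mono fun _ _ _ => trivial) (CfsgLib.Chev.uGen_mono fun _ _ _ => trivial)) ?_
  rw [CfsgLib.Chev.uGen_le_iff]
  intro r hr _ t
  rcases Nat.lt_or_ge r (D.nroots / 2) with h | h
  · exact Subgroup.mem_sup_right (CfsgLib.Chev.elX_mem_uGen hr (P := fun r => r < D.nroots / 2) h t)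
  · exact Subgroup.mem_sup_left (CfsgLib.Chev.elX_mem_uGen hr (P := fun r => D.nroots / 2 ≤ r) h t)

end Cfsg.Agent.S1041
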