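import Cfsg.Statements.S1045
import Cfsg.Agent.Lib.Chev.UWord
-- import your own Cfsg.Agent.* helpers here

set_option autoImplicit false
open Cfsg

namespace Cfsg.Agent.S1045

/-- For a fundamental root `p`, the subgroup `U_p` generated by the `X_s`, `s` positive and `s ≠ p`, is normalised by `X_p` and `X_{-p}`, and `U = U_p ⊔ X_p`. -/
theorem result {F : Type*} [Field F] (D : Cfsg.Lie.ChevalleyDatum) (hD : D ∈ [Cfsg.Lie.chevG2, Cfsg.Lie.chevB2, Cfsg.Lie.chevD4, Cfsg.Lie.chevF4, Cfsg.Lie.chevE6, Cfsg.Lie.chevE7, Cfsg.Lie.chevE8]) (i : ℕ) (hi : i < D.rank) :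
    D.rootSubgroup F (D.simple i) ⊔ D.rootSubgroup F (D.neg (D.simple i)) ≤
        Subgroup.normalizer (Subgroup.closure {g : GL D.Idx F | ∃ (s : ℕ) (t : F), D.IsPosRoot s ∧ s ≠ D.simple i ∧
          (g : Matrix D.Idx D.Idx F) = D.x F s t} : Set (GL D.Idx F)) ∧
      Subgroup.closure {g : GL D.Idx F | ∃ (s : ℕ) (t : F), D.IsPosRoot s ∧ s ≠ D.simple i ∧
          (g : Matrix D.Idx D.Idx F) = D.x F s t} ⊔ D.rootSubgroup F (D.simple i) = D.posUnipotent F := by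
  obtain ⟨T, hC, hK⟩ := CfsgLib.Chev.exists_checked' hD
  have hp := CfsgLib.Chev.simple_lt hC hi
  have hset : Subgroup.closure {g : GL D.Idx F | ∃ (s : ℕ) (t : F), D.IsPosRoot s ∧ s ≠ D.simple i ∧
      (g : Matrix D.Idx D.Idx F) = D.x F s t} = CfsgLib.Chev.uGen D F (CfsgLib.Chev.CompRoot D ⟨i, hi⟩) := by
    rw [CfsgLib.Chev.uGen_congr (P := CfsgLib.Chev.CompRoot D ⟨i, hi⟩) (Q := fun s => D.IsPosRoot s ∧ s ≠ D.simple i)
      (fun r hr => by simp [CfsgLib.Chev.CompRoot, CfsgLib.Chev.isPosRoot_iff hC, hr]),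
      ← CfsgLib.Chev.rootGen_eq hC _ (fun r h => h.1.1)]
    congr 1
    ext g
    simp only [Set.mem_setOf_eq, and_assoc]
  rw [hset, CfsgLib.Chev.rootSubgroup_eq hC hp, CfsgLib.Chev.rootSubgroup_eq hC (CfsgLib.Chev.neg_lt hC hp),
    CfsgLib.Chev.posUnipotent_eq hC]
  constructor
  · refine sup_le ?_ ?_ <;> rw [CfsgLib.Chev.uGen_le_iff] <;> intro r hr e t
    · exact CfsgLib.Chev.pm_simple_normalizer hC hK ⟨i, hi⟩ (Or.inl e) t
    · exact CfsgLib.Chev.pm_simple_normalizer hC hK ⟨i, hi⟩ (Or.inr e) t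
  · refine le_antisymm (sup_le (CfsgLib.Chev.uGen_mono fun _ _ h => h.1)
      (CfsgLib.Chev.uGen_mono fun r _ e => by rw [e]; exact CfsgLib.Chev.half_le_simple hC hi)) ?_
    intro g hg
    obtain ⟨a, ha, t, rfl⟩ := CfsgLib.Chev.pos_split_simple hC hK ⟨i, hi⟩ hg
    exact mul_mem (Subgroup.mem_sup_left ha) (Subgroup.mem_sup_right (CfsgLib.Chev.elX_mem_uGen (P := fun s => s = D.simple i) hp rfl t))

end Cfsg.Agent.S1045
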