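import Cfsg.Statements.S1046
import Cfsg.Agent.Lib.Chev.Bruhat

set_option autoImplicit false
open Cfsg

namespace Cfsg.Agent.S1046

/-- Two elements of `H` conjugate in the Chevalley group are conjugate by an element of `N`. -/
theorem result {F : Type*} [Field F] (D : Cfsg.Lie.ChevalleyDatum) (hD : D ∈ [Cfsg.Lie.chevG2, Cfsg.Lie.chevB2, Cfsg.Lie.chevD4, Cfsg.Lie.chevF4, Cfsg.Lie.chevE6, Cfsg.Lie.chevE7, Cfsg.Lie.chevE8]) (h₁ h₂ g : GL D.Idx F) (h1 : h₁ ∈ D.diagonalSubgroup F) (h2 : h₂ ∈ D.diagonalSubgroup F)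
    (hg : g ∈ D.group F) (hc : g * h₁ * g⁻¹ = h₂) :
    ∃ n ∈ D.monomialSubgroup F, n * h₁ * n⁻¹ = h₂ := by
  open CfsgLib.Chev in
  obtain ⟨T, hT, hcomm⟩ := exists_checked' (D := D) hD
  open CfsgLib.Chev in
  obtain ⟨u, hu, h, hh, L, v, hv, rfl⟩ := exists_bruhat hT hcomm hg
  open CfsgLib.Chev in
  have e : (h₂ * u * h₂⁻¹) * ((h₂ * h) * nProd D F L) * v =
      u * ((h * (nProd D F L * h₁ * (nProd D F L)⁻¹)) * nProd D F L) * (h₁⁻¹ * v * h₁) := by
    calc _ = h₂ * (u * (h * nProd D F L) * v) := by group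
      _ = (u * (h * nProd D F L) * v) * h₁ := by rw [← hc]; group
      _ = _ := by group
  open CfsgLib.Chev in
  obtain ⟨-, -, -, e'⟩ := bruhat_unique hT (mul_mem h2 hh) (mul_mem hh (nProd_conj_diagonal hT L h1))
    (diag_conj_mem hT _ h2 hu) hu hv (diag_conj_mem' hT _ h1 hv) e
  open CfsgLib.Chev in
  refine ⟨h * nProd D F L, mul_mem (diagonal_le_monomial hT hh) (nProd_mem_monomial hT L), ?_⟩
  rw [mul_inv_eq_iff_eq_mul, ← mul_assoc h₂ h]
  rw [e']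
  group

end Cfsg.Agent.S1046
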