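import Cfsg.Statements.S1075
import Cfsg.Agent.Lib.ReeG2.ReeThree
import Cfsg.Agent.S1011

set_option autoImplicit false
open Cfsg

namespace Cfsg.Agent.S1075

/-- The derived subgroup of ²G₂(3) (θ = identity over the field with three elements) has order 504 = 1512/3 and is isomorphic to PSL₂ over the field with eight elements. -/
theorem result {L : Type*} [Field L] [Fintype L] (hL : Fintype.card L = 8) :
    Nat.card ↥(commutator ↥(Cfsg.Lie.twistedG2 (ZMod 3) 1)) = 504 ∧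
      Nonempty (↥(commutator ↥(Cfsg.Lie.twistedG2 (ZMod 3) 1)) ≃* Matrix.ProjectiveSpecialLinearGroup (Fin 2) L) := by
  haveI : Fact (Nat.Prime 3) := ⟨Nat.prime_three⟩
  have key : ∀ G : Subgroup (GL Cfsg.Lie.chevG2.Idx (ZMod 3)), G = Cfsg.Lie.twistedG2 (ZMod 3) 1 →
      Nat.card ↥(commutator ↥G) = 504 ∧
        Nonempty (↥(commutator ↥G) ≃* Matrix.ProjectiveSpecialLinearGroup (Fin 2) L) := by
    intro G hG
    have hθ : CfsgLib.ReeG2.IsRee (RingEquiv.refl (ZMod 3)) := fun x => ZMod.pow_card x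
    rw [CfsgLib.ReeG2.model (θ := RingEquiv.refl (ZMod 3)) (e := 1) hθ (fun x => (pow_one x).symm)] at hG
    subst hG
    have hq3 : Fintype.card (ZMod 3) = 3 := ZMod.card 3
    rw [CfsgLib.ReeG2.commutator_eq_M3 hθ (fun _ => rfl) hq3]
    haveI := CfsgLib.ReeG2.M3_simple hθ (fun _ => rfl) hq3
    exact ⟨CfsgLib.ReeG2.card_M3 hθ (fun _ => rfl) hq3,
      Cfsg.Agent.S1011.result (CfsgLib.ReeG2.card_M3 hθ (fun _ => rfl) hq3) hL⟩
  exact key _ rfl
end Cfsg.Agent.S1075
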