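import Cfsg.Statements.S2397
import Cfsg.Agent.Lib.Steinberg.Present
import Cfsg.Agent.Lib.Steinberg.Torus

set_option autoImplicit false
open Cfsg

namespace Cfsg.Agent.S2397

/-- Over a finite field the relators (R3) h̄_r(t₁) h̄_r(t₂) = h̄_r(t₁ t₂) are consequences of (R1) and (R2): for each of the types G₂, B₂, D₄, F₄, E₆, E₇, E₈ (for types B₂ and G₂ the field must have more than two elements — the cases where the Chevalley group is not simple are set aside) the group presented by (R1), (R2) is canonically isomorphic to the one presented by (R1)–(R3), by an isomorphism matching the generators x̄_r(t). -/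
theorem result {K : Type*} [Field K] [Finite K] (D : Cfsg.Lie.ChevalleyDatum) (hD : D ∈ [Cfsg.Lie.chevG2, Cfsg.Lie.chevB2, Cfsg.Lie.chevD4, Cfsg.Lie.chevF4, Cfsg.Lie.chevE6, Cfsg.Lie.chevE7, Cfsg.Lie.chevE8]) (hK : D ∈ [Cfsg.Lie.chevB2, Cfsg.Lie.chevG2] → ∃ x : K, x ≠ 0 ∧ x ≠ 1) :
    ∃ e : D.SteinbergCover K ≃* D.SteinbergGroup K, ∀ (r : ℕ) (t : K), e (D.scGen K r t) = D.stGen K r t := by
  obtain ⟨T, S⟩ := CfsgLib.Steinberg.exists_setup hD
  have C := CfsgLib.Steinberg.coverSys K S
  -- the relators (R3) hold in the group presented by (R1), (R2)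
  have h3 : ∀ g ∈ D.steinbergRels K, PresentedGroup.mk (D.steinbergRelsAB K) g = 1 := by
    rintro g (hg | ⟨r, t₁, t₂, hr, h1, h2, rfl⟩)
    · exact PresentedGroup.one_of_mem hg
    · have e := C.hE_mul (CfsgLib.Steinberg.cover_top K) hr (Units.mk0 t₁ h1) (Units.mk0 t₂ h2)
      rw [Units.val_mul, Units.val_mk0, Units.val_mk0] at e
      rw [map_mul, map_mul, map_inv, (CfsgLib.Steinberg.stH_eq K r _).2, (CfsgLib.Steinberg.stH_eq K r _).2,
        (CfsgLib.Steinberg.stH_eq K r _).2, e, mul_inv_cancel]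
  have l1 : ∀ g ∈ D.steinbergRels K,
      FreeGroup.lift (fun p => (PresentedGroup.of p : D.SteinbergCover K)) g = 1 := fun g hg => by
    have e : FreeGroup.lift (fun p => (PresentedGroup.of p : D.SteinbergCover K)) =
        PresentedGroup.mk (D.steinbergRelsAB K) := by ext p; simp [PresentedGroup.of]
    rw [e]; exact h3 g hg
  have l2 : ∀ g ∈ D.steinbergRelsAB K,
      FreeGroup.lift (fun p => (PresentedGroup.of p : D.SteinbergGroup K)) g = 1 := fun g hg => by
    have e : FreeGroup.lift (fun p => (PresentedGroup.of p : D.SteinbergGroup K)) =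
        PresentedGroup.mk (D.steinbergRels K) := by ext p; simp [PresentedGroup.of]
    rw [e]; exact PresentedGroup.one_of_mem (Or.inl hg)
  refine ⟨MonoidHom.toMulEquiv (PresentedGroup.toGroup l2) (PresentedGroup.toGroup l1)
    (PresentedGroup.ext fun p => by simp) (PresentedGroup.ext fun p => by simp), fun r t => ?_⟩
  show PresentedGroup.toGroup l2 (D.scGen K r t) = D.stGen K r t
  rw [Cfsg.Lie.ChevalleyDatum.scGen, Cfsg.Lie.ChevalleyDatum.stGen, Cfsg.Lie.ChevalleyDatum.stX]
  split
  · exact PresentedGroup.toGroup.of l2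
  · rw [map_one, map_one, map_one]

end Cfsg.Agent.S2397
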