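import Cfsg.Statements.S1079
import Cfsg.Agent.Lib.Steinberg.Embed
import Cfsg.Agent.Lib.ChevPerfect.Main
import Cfsg.Agent.Lib.Chev.Simple
import Cfsg.Agent.S2397
-- import your own Cfsg.Agent.* helpers here

set_option autoImplicit false
open Cfsg

namespace Cfsg.Agent.S1079

open CfsgLib.Chev in
/-- the centre of the group presented by (R1)-(R3) is the kernel of the projection from the cover -/
theorem card_center_eq {K : Type*} [Field K] [Fintype K] {D : Cfsg.Lie.ChevalleyDatum}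
    (hD : D ∈ [Cfsg.Lie.chevE6, Cfsg.Lie.chevE7]) {T : CfsgLib.Chev.Tabs} (S : CfsgLib.Steinberg.Setup D T) {m : ℕ}
    (hker : ∀ θ : D.SteinbergCover K →* ↥(D.group K),
      (∀ g, ((θ g : ↥(D.group K)) : GL D.Idx K) = CfsgLib.Steinberg.coverHom K S g) →
      Nonempty (θ.ker ≃* Multiplicative (ZMod m))) :
    Nat.card (Subgroup.center (D.SteinbergGroup K)) = m := by
  have hD7 : D ∈ [Cfsg.Lie.chevG2, Cfsg.Lie.chevB2, Cfsg.Lie.chevD4, Cfsg.Lie.chevF4, Cfsg.Lie.chevE6,
      Cfsg.Lie.chevE7, Cfsg.Lie.chevE8] := by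
    simp only [List.mem_cons, List.not_mem_nil, or_false] at hD ⊢; tauto
  have hperf : commutator ↥(D.group K) = ⊤ := by
    obtain ⟨U, hU, hcomm⟩ := exists_checked' hD7
    simp only [List.mem_cons, List.not_mem_nil, or_false] at hD
    rcases hD with rfl | rfl
    · exact CfsgLib.ChevPerfect.perfect_of_unitTest hU hcomm CfsgLib.ChevPerfect.unit_E6
    · exact CfsgLib.ChevPerfect.perfect_of_unitTest hU hcomm CfsgLib.ChevPerfect.unit_E7
  obtain ⟨hsimple, hnc⟩ := isSimple_group_of_perfect hD7 hperf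
  have hz : Subgroup.center ↥(D.group K) = ⊥ := by
    rcases hsimple.eq_bot_or_eq_top_of_normal (Subgroup.center ↥(D.group K)) inferInstance with e | e
    · exact e
    · exact absurd ⟨⟨fun a b => (Subgroup.mem_center_iff.1 (e ▸ Subgroup.mem_top b) a)⟩⟩ hnc
  obtain ⟨θ, hs, hc, hθ⟩ := (CfsgLib.Steinberg.coverSys K S).exists_toGroup (CfsgLib.Steinberg.cover_top K)
  have hcz : Subgroup.center (D.SteinbergCover K) = θ.ker := by
    refine le_antisymm (fun z hz' => ?_) hc
    rw [MonoidHom.mem_ker, ← Subgroup.mem_bot, ← hz, Subgroup.mem_center_iff]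
    intro g
    obtain ⟨a, rfl⟩ := hs g
    rw [← map_mul, ← map_mul, Subgroup.mem_center_iff.1 hz' a]
  obtain ⟨e, -⟩ := Cfsg.Agent.S2397.result (K := K) D hD7 (fun h => by
    simp only [List.mem_cons, List.not_mem_nil, or_false] at hD h
    rcases hD with rfl | rfl <;> rcases h with h | h <;>
      exact absurd (congrArg Cfsg.Lie.ChevalleyDatum.rank h) (by decide +kernel))
  obtain ⟨f⟩ := hker θ hθ
  rw [← Nat.card_congr (Subgroup.centerCongr e).toEquiv, hcz, Nat.card_congr (f.toEquiv.trans Multiplicative.toAdd),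
    Nat.card_zmod]

/-- `|Z(Ḡ)| = gcd(3, q-1)` for E₆ and `gcd(2, q-1)` for E₇ over a field with `q` elements (the centre is dual to the weight lattice modulo the root lattice). -/
theorem result {K : Type*} [Field K] [Fintype K] {q : ℕ} (hq : Fintype.card K = q)
    (p : Cfsg.Lie.ChevalleyDatum × ℕ) (hp : p ∈ [(Cfsg.Lie.chevE6, 3), (Cfsg.Lie.chevE7, 2)]) :
    Nat.card (Subgroup.center (p.1.SteinbergGroup K)) = Nat.gcd p.2 (q - 1) := by
  subst hq
  simp only [List.mem_cons, List.not_mem_nil, or_false] at hp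
  rcases hp with rfl | rfl
  · obtain ⟨T, S⟩ := CfsgLib.Steinberg.exists_setup (D := Cfsg.Lie.chevE6) (by simp)
    obtain ⟨T', S'⟩ := CfsgLib.Steinberg.exists_setup (D := Cfsg.Lie.chevE7) (by simp)
    exact card_center_eq (by simp) S fun θ hθ =>
      CfsgLib.Steinberg.nonempty_ker_equiv (j := ⟨6, by decide +kernel⟩) S S' CfsgLib.Steinberg.shortE6
        CfsgLib.Steinberg.shortE7 CfsgLib.Steinberg.embOkE6 CfsgLib.Steinberg.centerOkE6 Nat.prime_three
        CfsgLib.Steinberg.embSumE6 θ hθ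
  · obtain ⟨T, S⟩ := CfsgLib.Steinberg.exists_setup (D := Cfsg.Lie.chevE7) (by simp)
    obtain ⟨T', S'⟩ := CfsgLib.Steinberg.exists_setup (D := Cfsg.Lie.chevE8) (by simp)
    exact card_center_eq (by simp) S fun θ hθ =>
      CfsgLib.Steinberg.nonempty_ker_equiv (j := ⟨7, by decide +kernel⟩) S S' CfsgLib.Steinberg.shortE7
        CfsgLib.Steinberg.shortE8 CfsgLib.Steinberg.embOkE7 CfsgLib.Steinberg.centerOkE7 Nat.prime_two
        CfsgLib.Steinberg.embSumE7 θ hθ

end Cfsg.Agent.S1079
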