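import Cfsg.Statements.S1095
import Cfsg.Agent.Lib.Chev.Torus
import Cfsg.Agent.Lib.Chev.All

set_option autoImplicit false
open Cfsg

namespace Cfsg.Agent.S1095

open CfsgLib.Chev in
theorem exists_checked_sign {D : Cfsg.Lie.ChevalleyDatum}
    (hD : D ∈ [Cfsg.Lie.chevG2, Cfsg.Lie.chevB2, Cfsg.Lie.chevD4, Cfsg.Lie.chevF4, Cfsg.Lie.chevE6,
      Cfsg.Lie.chevE7, Cfsg.Lie.chevE8]) :
    ∃ T, Checked D T ∧ ∀ i < D.rank, eta D T i (D.simple i) = -1 := by
  simp only [List.mem_cons, List.not_mem_nil, or_false] at hD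
  rcases hD with rfl | rfl | rfl | rfl | rfl | rfl | rfl
  · exact ⟨_, G2.checked, by decide +kernel⟩
  · exact ⟨_, B2.checked, by decide +kernel⟩
  · exact ⟨_, D4.checked, by decide +kernel⟩
  · exact ⟨_, F4.checked, by decide +kernel⟩
  · exact ⟨_, E6.checked, by decide +kernel⟩
  · exact ⟨_, E7.checked, by decide +kernel⟩
  · exact ⟨_, E8.checked, by decide +kernel⟩

open CfsgLib.Chev in
theorem eta_mul_eta {D : Cfsg.Lie.ChevalleyDatum} {T : Tabs} (hc : Checked D T) (i : Fin D.rank)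
    {s : ℕ} (hs : s < D.nroots) :
    eta D T i s * eta D T i (sig D T i s) = (-1) ^ (D.cartan i s).natAbs := by
  have hp := simple_lt hc i.2
  have h : elN D ℚ (D.simple i) 1 * elN D ℚ (D.simple i) 1 =
      torus D T ℚ (corChar D T (D.simple i) (-1)) := by
    have e := elN_mul_inv hc (F := ℚ) hp 1 (-1)
    rw [Units.val_one, Units.val_neg, Units.val_one, elN_inv hc hp, neg_neg] at e
    rw [e]
    congr 2
    rw [div_eq_mul_inv, inv_neg, inv_one, one_mul]
  have h' := congrArg (fun g : GL D.Idx ℚ => (g : Matrix D.Idx D.Idx ℚ) (Sum.inr ⟨s, hs⟩)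
    (Sum.inr ⟨s, hs⟩)) h
  simp only [Units.val_mul, coe_torus, Matrix.diagonal_apply_eq, coe_elN_simple_one hc i,
    ← Matrix.map_mul, Matrix.map_apply] at h'
  have hsq : (nZ D T (D.simple i) * nZ D T (D.simple i)) (Sum.inr ⟨s, hs⟩) (Sum.inr ⟨s, hs⟩) =
      eta D T i s * eta D T i (sig D T i s) := by
    rw [← Matrix.col_apply (nZ D T (D.simple i) * nZ D T (D.simple i)), ← Matrix.mulVec_single_one,
      ← Matrix.mulVec_mulVec, ← eVec_eq ⟨s, hs⟩, (eta_spec hc i hs).2, Matrix.mulVec_smul,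
      (eta_spec hc i (sig_lt hc i hs)).2, sig_sig hc i hs]
    simp [eVec]
  rw [hsq, wI_inr, chi_corChar_simple hc i hs] at h'
  have hpow : (((-1 : ℚˣ) ^ D.cartan i s : ℚˣ) : ℚ) = (((-1 : ℤ) ^ (D.cartan i s).natAbs : ℤ) : ℚ) := by
    rcases Int.natAbs_eq (D.cartan i s) with e | e <;>
      generalize (D.cartan i s).natAbs = k at e ⊢ <;> rw [e]
    · simp
    · simp [← inv_pow]
  rw [hpow, eq_intCast, Int.cast_inj] at h'
  exact h'

/-- `n_p` (p = p_{i+1} fundamental) is the signed monomial matrix `h_{p_j} ↦ h_{p_j} - A_{p_j,p} h_p`, `e_s ↦ η_s e_{w_p(s)}`, with `η_s = ±1`, `η_p = η_{-p} = -1`, `η_s η_{w_p(s)} = (-1)^{A_{p,s}}`, `η_s η_{-s} = 1`. -/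
theorem result {F : Type*} [Field F] (D : Cfsg.Lie.ChevalleyDatum) (hD : D ∈ [Cfsg.Lie.chevG2, Cfsg.Lie.chevB2, Cfsg.Lie.chevD4, Cfsg.Lie.chevF4, Cfsg.Lie.chevE6, Cfsg.Lie.chevE7, Cfsg.Lie.chevE8]) (i : ℕ) (hi : i < D.rank) :
    ∃ η : ℕ → ℤ, (∀ s < D.nroots, η s = 1 ∨ η s = -1) ∧ η (D.simple i) = -1 ∧ η (D.neg (D.simple i)) = -1 ∧
      (∀ s < D.nroots, η s * η (D.reflectRoot i s) = (-1) ^ (D.cartan i s).natAbs ∧ η s * η (D.neg s) = 1) ∧
      D.nMat F (D.simple i) 1 = Matrix.of (fun (row col : D.Idx) =>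
        Sum.elim
          (fun j' : Fin D.rank => Sum.elim
            (fun j : Fin D.rank => (if j' = j then (1 : F) else 0) - (if (j' : ℕ) = i then ((D.cartan j (D.simple i) : ℤ) : F) else 0))
            (fun _ => (0 : F)) col)
          (fun s' : Fin D.nroots => Sum.elim
            (fun _ => (0 : F))
            (fun s : Fin D.nroots => if (s' : ℕ) = D.reflectRoot i s then ((η s : ℤ) : F) else 0) col)
          row) := by
  obtain ⟨T, hc, hsign⟩ := exists_checked_sign hD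
  have hp := CfsgLib.Chev.simple_lt hc hi
  refine ⟨fun s => CfsgLib.Chev.eta D T i s,
    fun s hs => (CfsgLib.Chev.eta_spec hc ⟨i, hi⟩ hs).1, hsign i hi, ?_, fun s hs => ⟨?_, ?_⟩, ?_⟩
  · exact (CfsgLib.Chev.eta_neg hc ⟨i, hi⟩ hp).trans (hsign i hi)
  · rw [CfsgLib.Chev.reflectRoot_eq hc ⟨i, hi⟩ hs]
    exact eta_mul_eta hc ⟨i, hi⟩ hs
  · beta_reduce
    rw [CfsgLib.Chev.eta_neg hc ⟨i, hi⟩ hs]
    rcases (CfsgLib.Chev.eta_spec hc ⟨i, hi⟩ hs).1 with h | h <;> rw [h] <;> norm_num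
  · rw [← CfsgLib.Chev.coe_elN hc hp, CfsgLib.Chev.coe_elN_simple_one hc ⟨i, hi⟩]
    ext row col
    rw [Matrix.map_apply, ← Matrix.col_apply (CfsgLib.Chev.nZ D T (D.simple i)) col row,
      ← Matrix.mulVec_single_one]
    rcases col with j | s
    · rw [CfsgLib.Chev.nZ_coroot_col hc ⟨i, hi⟩ j]
      rcases row with j' | s'
      · simp only [Matrix.of_apply, Sum.elim_inl, CfsgLib.Chev.cm, Pi.sub_apply, Pi.smul_apply,
          Pi.single_apply, Sum.inl.injEq, smul_eq_mul, Fin.ext_iff, eq_comm]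
        split_ifs <;> simp
      · simp
    · rw [← CfsgLib.Chev.eVec_eq, (CfsgLib.Chev.eta_spec hc ⟨i, hi⟩ s.2).2,
        CfsgLib.Chev.reflectRoot_eq hc ⟨i, hi⟩ s.2 |>.symm]
      rcases row with j' | s'
      · have := CfsgLib.Chev.sig_lt hc ⟨i, hi⟩ s.2
        rw [← CfsgLib.Chev.reflectRoot_eq hc ⟨i, hi⟩ s.2] at this
        simp only [Matrix.of_apply, Sum.elim_inl, Sum.elim_inr, CfsgLib.Chev.eVec, Pi.smul_apply,
          smul_eq_mul]
        rw [if_neg (by rw [CfsgLib.Chev.cd_inl]; dsimp only at this; omega)]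
        simp
      · simp only [Matrix.of_apply, Sum.elim_inr, CfsgLib.Chev.eVec, Pi.smul_apply,
          smul_eq_mul]
        by_cases h : (s' : ℕ) = D.reflectRoot i s
        · rw [if_pos (show CfsgLib.Chev.cd D (Sum.inr s') = _ from h), if_pos h]
          simp
        · rw [if_neg (show ¬ CfsgLib.Chev.cd D (Sum.inr s') = _ from h), if_neg h]
          simp

end Cfsg.Agent.S1095
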