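import Cfsg.Statements.S1096
import Cfsg.Agent.Lib.Chev.Torus
import Cfsg.Agent.Lib.Chev.All

set_option autoImplicit false
open Cfsg

namespace Cfsg.Agent.S1096

/-- `n_p h_{p_j}(t) n_p⁻¹ = h_{w_p(p_j)}(t)` for fundamental `p`, `p_j` and `t ≠ 0`, stated as `n_p h_{p_j}(t) = h_{w_p(p_j)}(t) n_p`. -/
theorem result {F : Type*} [Field F] (D : Cfsg.Lie.ChevalleyDatum) (hD : D ∈ [Cfsg.Lie.chevG2, Cfsg.Lie.chevB2, Cfsg.Lie.chevD4, Cfsg.Lie.chevF4, Cfsg.Lie.chevE6, Cfsg.Lie.chevE7, Cfsg.Lie.chevE8]) (i j : ℕ) (hi : i < D.rank) (hj : j < D.rank) (t : F) (ht : t ≠ 0) :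
    D.nMat F (D.simple i) 1 * D.hMat F (D.simple j) t = D.hMat F (D.reflectRoot i (D.simple j)) t * D.nMat F (D.simple i) 1 := by
  obtain ⟨T, hc⟩ := CfsgLib.Chev.exists_checked hD
  have hp := CfsgLib.Chev.simple_lt hc hi
  have hs := CfsgLib.Chev.simple_lt hc hj
  rw [CfsgLib.Chev.reflectRoot_eq hc ⟨i, hi⟩ hs]
  have hu := CfsgLib.Chev.sig_lt hc ⟨i, hi⟩ hs
  rw [← CfsgLib.Chev.coe_elN hc hp, ← CfsgLib.Chev.coe_elH hc hs, ← CfsgLib.Chev.coe_elH hc hu,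
    ← Units.val_mul, ← Units.val_mul]
  congr 1
  obtain ⟨u, rfl⟩ : ∃ u : Fˣ, (u : F) = t := ⟨Units.mk0 t ht, rfl⟩
  obtain ⟨e, he⟩ : ∃ e : Fˣ,
      (e : F) = (CfsgLib.Chev.eta D T (⟨i, hi⟩ : Fin D.rank) (D.simple j) : F) := by
    rcases CfsgLib.Chev.eta_cast hc (F := F) ⟨i, hi⟩ hs with h | h
    · exact ⟨1, by rw [h]; simp⟩
    · exact ⟨-1, by rw [h]; simp⟩
  rw [← mul_inv_eq_iff_eq_mul, CfsgLib.Chev.elH, ← conj_mul,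
    CfsgLib.Chev.nOne_conj_elN hc ⟨i, hi⟩ hs, CfsgLib.Chev.nOne_conj_elN hc ⟨i, hi⟩ hs, ← he,
    mul_neg_one, ← CfsgLib.Chev.elN_inv hc hu, ← Units.val_mul,
    CfsgLib.Chev.elN_mul_inv hc hu, CfsgLib.Chev.elH_eq_torus hc hu, mul_div_cancel_left]

end Cfsg.Agent.S1096
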