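import Cfsg.Statements.S1098
import Cfsg.Agent.Lib.ChevIsog.Auto

set_option autoImplicit false
open Cfsg

namespace Cfsg.Agent.S1098

/-- Graph automorphisms in characteristic 2 (K perfect): for B₂ (a short, b long) `x_a(t) ↦ x_b(t²)`, `x_b(t) ↦ x_a(t)`, and for F₄ (p₁, p₂ short, p₃, p₄ long) `x_{p₁}(t) ↦ x_{p₄}(t²)`, `x_{p₂}(t) ↦ x_{p₃}(t²)`, `x_{p₃}(t) ↦ x_{p₂}(t)`, `x_{p₄}(t) ↦ x_{p₁}(t)`, likewise on the negatives, extend to an automorphism of the group. -/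
theorem result {K : Type*} [Field K] [CharP K 2] (hperf : ∀ x : K, ∃ y : K, y ^ 2 = x)
    (p : Cfsg.Lie.ChevalleyDatum × List (ℕ × ℕ))
    (hp : p ∈ [(Cfsg.Lie.chevB2, [(1, 2), (0, 1)]), (Cfsg.Lie.chevF4, [(3, 2), (2, 2), (1, 1), (0, 1)])]) :
    ∃ α : ↥(p.1.group K) ≃* ↥(p.1.group K), ∀ (g : ↥(p.1.group K)) (i : ℕ) (t : K), i < p.1.rank →
      (((g : GL p.1.Idx K) : Matrix p.1.Idx p.1.Idx K) = p.1.x K (p.1.simple i) t →
        ((α g : GL p.1.Idx K) : Matrix p.1.Idx p.1.Idx K) = p.1.x K (p.1.simple (p.2.getD i (0, 1)).1) (t ^ (p.2.getD i (0, 1)).2)) ∧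
      (((g : GL p.1.Idx K) : Matrix p.1.Idx p.1.Idx K) = p.1.x K (p.1.neg (p.1.simple i)) t →
        ((α g : GL p.1.Idx K) : Matrix p.1.Idx p.1.Idx K) = p.1.x K (p.1.neg (p.1.simple (p.2.getD i (0, 1)).1)) (t ^ (p.2.getD i (0, 1)).2)) := by
  open CfsgLib CfsgLib.Chev CfsgLib.ChevIsog in
  have key : ∀ (D : Cfsg.Lie.ChevalleyDatum) (L : List (ℕ × ℕ)) (T : Tabs), Checked D T → CommOne D T →
      ∀ (E : IsoData) (π : Equiv.Perm (Fin D.rank)), IsoOK D T E π → E.p = 2 →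
      (∀ i : Fin D.rank, (L.getD i.val (0, 1)).1 = (π i).val ∧
        (L.getD i.val (0, 1)).2 = expo E (D.simple i.val) ∧
        expo E (D.neg (D.simple i.val)) = expo E (D.simple i.val)) →
      ∃ α : ↥(D.group K) ≃* ↥(D.group K), ∀ (g : ↥(D.group K)) (i : ℕ) (t : K), i < D.rank →
        (((g : GL D.Idx K) : Matrix D.Idx D.Idx K) = D.x K (D.simple i) t →
          ((α g : GL D.Idx K) : Matrix D.Idx D.Idx K) =
            D.x K (D.simple (L.getD i (0, 1)).1) (t ^ (L.getD i (0, 1)).2)) ∧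
        (((g : GL D.Idx K) : Matrix D.Idx D.Idx K) = D.x K (D.neg (D.simple i)) t →
          ((α g : GL D.Idx K) : Matrix D.Idx D.Idx K) =
            D.x K (D.neg (D.simple (L.getD i (0, 1)).1)) (t ^ (L.getD i (0, 1)).2)) := by
    intro D L T hc hcomm E π hI hE hL
    haveI : CharP K E.p := by rw [hE]; infer_instance
    obtain ⟨α, hα⟩ := exists_isogeny (F := K) hc hcomm hI (by rw [hE]; exact hperf)
    refine ⟨α, fun g i t hi => ⟨fun hg => ?_, fun hg => ?_⟩⟩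
    · obtain rfl : g = ChevGraph.gX hc (simple_lt hc hi) t := ChevGraph.gX_eq hc _ hg
      obtain ⟨l1, l2, -⟩ := hL ⟨i, hi⟩
      rw [hα _ ⟨⟨i, hi⟩, Or.inl rfl⟩ t, ChevGraph.coe_gX, l1, l2, (hI.node ⟨i, hi⟩).1]
    · obtain rfl : g = ChevGraph.gX hc (neg_lt hc (simple_lt hc hi)) t := ChevGraph.gX_eq hc _ hg
      obtain ⟨l1, l2, l3⟩ := hL ⟨i, hi⟩
      rw [hα _ ⟨⟨i, hi⟩, Or.inr rfl⟩ t, ChevGraph.coe_gX, l1, l2, l3, (hI.node ⟨i, hi⟩).2.1]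
  simp only [List.mem_cons, List.not_mem_nil, or_false] at hp
  rcases hp with rfl | rfl
  · exact key _ _ _ CfsgLib.ChevIsog.b2_tabs.1 CfsgLib.ChevIsog.b2_tabs.2 _ _ CfsgLib.ChevIsog.b2_ok rfl
      (by decide +kernel)
  · exact key _ _ _ CfsgLib.ChevIsog.f4_tabs.1 CfsgLib.ChevIsog.f4_tabs.2 _ _ CfsgLib.ChevIsog.f4_ok rfl
      (by decide +kernel)

end Cfsg.Agent.S1098
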