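import Cfsg.Statements.S1099
import Cfsg.Agent.Lib.ChevIsog.Auto

set_option autoImplicit false
open Cfsg

namespace Cfsg.Agent.S1099

/-- Graph automorphism of G₂ in characteristic 3 (K perfect): `x_a(t) ↦ x_b(t³)`, `x_b(t) ↦ x_a(t)`, `x_{-a}(t) ↦ x_{-b}(t³)`, `x_{-b}(t) ↦ x_{-a}(t)` extend to an automorphism of the group. -/
theorem result {K : Type*} [Field K] [CharP K 3] (hperf : ∀ x : K, ∃ y : K, y ^ 3 = x) :
    ∃ α : ↥(Cfsg.Lie.chevG2.group K) ≃* ↥(Cfsg.Lie.chevG2.group K), ∀ (g : ↥(Cfsg.Lie.chevG2.group K)) (t : K),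
      (((g : GL Cfsg.Lie.chevG2.Idx K) : Matrix _ _ K) = Cfsg.Lie.chevG2.x K Cfsg.Lie.g2a t →
        ((α g : GL Cfsg.Lie.chevG2.Idx K) : Matrix _ _ K) = Cfsg.Lie.chevG2.x K Cfsg.Lie.g2b (t ^ 3)) ∧
      (((g : GL Cfsg.Lie.chevG2.Idx K) : Matrix _ _ K) = Cfsg.Lie.chevG2.x K Cfsg.Lie.g2b t →
        ((α g : GL Cfsg.Lie.chevG2.Idx K) : Matrix _ _ K) = Cfsg.Lie.chevG2.x K Cfsg.Lie.g2a t) ∧
      (((g : GL Cfsg.Lie.chevG2.Idx K) : Matrix _ _ K) = Cfsg.Lie.chevG2.x K Cfsg.Lie.g2ma t →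
        ((α g : GL Cfsg.Lie.chevG2.Idx K) : Matrix _ _ K) = Cfsg.Lie.chevG2.x K Cfsg.Lie.g2mb (t ^ 3)) ∧
      (((g : GL Cfsg.Lie.chevG2.Idx K) : Matrix _ _ K) = Cfsg.Lie.chevG2.x K Cfsg.Lie.g2mb t →
        ((α g : GL Cfsg.Lie.chevG2.Idx K) : Matrix _ _ K) = Cfsg.Lie.chevG2.x K Cfsg.Lie.g2ma t) := by
  haveI : CharP K CfsgLib.ChevIsog.g2Data.p := (inferInstance : CharP K 3)
  have hI := CfsgLib.ChevIsog.g2_ok
  have hc := CfsgLib.ChevIsog.g2_tabs.1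
  obtain ⟨α, hα⟩ := CfsgLib.ChevIsog.exists_isogeny (F := K) hc CfsgLib.ChevIsog.g2_tabs.2 hI hperf
  refine ⟨α, ?_⟩
  have key : ∀ (r s e : ℕ) (hr : CfsgLib.ChevIsog.GenRoot Cfsg.Lie.chevG2 r),
      CfsgLib.ChevIsog.bC CfsgLib.ChevIsog.g2Data r = s → CfsgLib.ChevIsog.expo CfsgLib.ChevIsog.g2Data r = e →
      ∀ (g : ↥(Cfsg.Lie.chevG2.group K)) (t : K),
        ((g : GL Cfsg.Lie.chevG2.Idx K) : Matrix _ _ K) = Cfsg.Lie.chevG2.x K r t →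
        ((α g : GL Cfsg.Lie.chevG2.Idx K) : Matrix _ _ K) = Cfsg.Lie.chevG2.x K s (t ^ e) := by
    intro r s e hr hs he g t hg
    obtain rfl : g = CfsgLib.ChevGraph.gX hc (hr.lt hc) t := CfsgLib.ChevGraph.gX_eq hc _ hg
    rw [hα r hr t, CfsgLib.ChevGraph.coe_gX, hs, he]
  have one : (⟨1, by decide⟩ : Fin Cfsg.Lie.chevG2.rank).val = 1 := rfl
  intro g t
  refine ⟨key Cfsg.Lie.g2a Cfsg.Lie.g2b 3 ⟨⟨0, by decide⟩, Or.inl (by decide +kernel)⟩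
      (by decide +kernel) (by decide +kernel) g t, fun hg => ?_,
    key Cfsg.Lie.g2ma Cfsg.Lie.g2mb 3 ⟨⟨0, by decide⟩, Or.inr (by decide +kernel)⟩
      (by decide +kernel) (by decide +kernel) g t, fun hg => ?_⟩
  · have := key Cfsg.Lie.g2b Cfsg.Lie.g2a 1 ⟨⟨1, by decide⟩, Or.inl (by decide +kernel)⟩
      (by decide +kernel) (by decide +kernel) g t hg
    rwa [pow_one] at this
  · have := key Cfsg.Lie.g2mb Cfsg.Lie.g2ma 1 ⟨⟨1, by decide⟩, Or.inr (by decide +kernel)⟩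
      (by decide +kernel) (by decide +kernel) g t hg
    rwa [pow_one] at this

end Cfsg.Agent.S1099
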