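import Cfsg.Statements.S1115
import Cfsg.Agent.Lib.ReeG2.Sylow

set_option autoImplicit false
open Cfsg

namespace Cfsg.Agent.S1115

/-- `N¹/H¹ ≅ W¹`: a surjective homomorphism from `N¹ = G¹ ∩ N` onto the group of order 2 with kernel `H¹`. -/
theorem result {K : Type*} [Field K] [Fintype K] {m : ℕ} (hK : Fintype.card K = 3 ^ (2 * m + 1)) :
    ∃ φ : ↥(Cfsg.Lie.chevG2.monomialSubgroup K ⊓ Cfsg.Lie.twistedG2 K (3 ^ m)) →* Multiplicative (ZMod 2), Function.Surjective φ ∧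
      φ.ker = (Cfsg.Lie.chevG2.diagonalSubgroup K ⊓ Cfsg.Lie.twistedG2 K (3 ^ m)).subgroupOf (Cfsg.Lie.chevG2.monomialSubgroup K ⊓ Cfsg.Lie.twistedG2 K (3 ^ m)) := by
  classical
  obtain ⟨_, θ, hθ, he⟩ := CfsgLib.ReeG2.exists_theta hK
  rw [CfsgLib.ReeG2.model hθ he]
  set N := Cfsg.Lie.chevG2.monomialSubgroup K ⊓ CfsgLib.ReeG2.fixG θ
  have hcase : ∀ n : ↥N, ∃ a, (n : GL Cfsg.Lie.chevG2.Idx K) = CfsgLib.ReeG2.hh θ a ∨
      (n : GL Cfsg.Lie.chevG2.Idx K) = CfsgLib.ReeG2.hh θ a * CfsgLib.ReeG2.n0 K :=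
    fun n => (CfsgLib.ReeG2.mem_monomial_fix hθ).1 n.2
  have hiff : ∀ n : ↥N, (n : GL Cfsg.Lie.chevG2.Idx K) ∈ Cfsg.Lie.chevG2.diagonalSubgroup K ↔
      ∃ a, (n : GL Cfsg.Lie.chevG2.Idx K) = CfsgLib.ReeG2.hh θ a := by
    intro n
    refine ⟨fun h => ?_, fun ⟨a, ha⟩ => ha ▸ CfsgLib.ReeG2.hh_mem_diag a⟩
    obtain ⟨a, ha | ha⟩ := hcase n
    · exact ⟨a, ha⟩
    · exfalso
      rw [ha, Subgroup.mul_mem_cancel_left _ (CfsgLib.ReeG2.hh_mem_diag a)] at h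
      exact CfsgLib.ReeG2.n0_not_mem_borel (K := K) (Subgroup.mem_sup_right h)
  let f : ↥N → Multiplicative (ZMod 2) := fun n =>
    if (n : GL Cfsg.Lie.chevG2.Idx K) ∈ Cfsg.Lie.chevG2.diagonalSubgroup K then 1 else Multiplicative.ofAdd 1
  have h11 : (Multiplicative.ofAdd (1 : ZMod 2)) * Multiplicative.ofAdd 1 = 1 := by decide
  have hmul : ∀ x y : ↥N, f (x * y) = f x * f y := by
    intro x y
    by_cases hx : (x : GL Cfsg.Lie.chevG2.Idx K) ∈ Cfsg.Lie.chevG2.diagonalSubgroup K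
    · simp only [f, Subgroup.coe_mul, if_pos hx, one_mul, Subgroup.mul_mem_cancel_left _ hx]
    · by_cases hy : (y : GL Cfsg.Lie.chevG2.Idx K) ∈ Cfsg.Lie.chevG2.diagonalSubgroup K
      · simp only [f, Subgroup.coe_mul, if_pos hy, mul_one, Subgroup.mul_mem_cancel_right _ hy]
      · have hxy : ((x * y : ↥N) : GL Cfsg.Lie.chevG2.Idx K) ∈ Cfsg.Lie.chevG2.diagonalSubgroup K := by
          obtain ⟨a, ha | ha⟩ := hcase x
          · exact absurd ((hiff x).2 ⟨a, ha⟩) hx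
          obtain ⟨b, hb | hb⟩ := hcase y
          · exact absurd ((hiff y).2 ⟨b, hb⟩) hy
          rw [Subgroup.coe_mul, ha, hb, show CfsgLib.ReeG2.hh θ a * CfsgLib.ReeG2.n0 K *
            (CfsgLib.ReeG2.hh θ b * CfsgLib.ReeG2.n0 K) = CfsgLib.ReeG2.hh θ a *
            (CfsgLib.ReeG2.n0 K * CfsgLib.ReeG2.hh θ b) * CfsgLib.ReeG2.n0 K by group,
            CfsgLib.ReeG2.n0_mul_hh, ← mul_assoc, mul_assoc _ (CfsgLib.ReeG2.n0 K), CfsgLib.ReeG2.n0_sq, mul_one]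
          exact mul_mem (CfsgLib.ReeG2.hh_mem_diag _) (CfsgLib.ReeG2.hh_mem_diag _)
        simp only [f, if_neg hx, if_neg hy, if_pos hxy, h11]
  refine ⟨MonoidHom.mk' f hmul, ?_, ?_⟩
  · intro z
    have hz : z = 1 ∨ z = Multiplicative.ofAdd 1 := by revert z; decide
    rcases hz with rfl | rfl
    · exact ⟨1, map_one _⟩
    · refine ⟨⟨CfsgLib.ReeG2.n0 K, CfsgLib.ReeG2.n0_mem_monomial, CfsgLib.ReeG2.n0_mem_fixG hθ⟩, ?_⟩
      exact if_neg fun h => CfsgLib.ReeG2.n0_not_mem_borel (K := K) (Subgroup.mem_sup_right h)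
  · ext n
    rw [MonoidHom.mem_ker, Subgroup.mem_subgroupOf, Subgroup.mem_inf]
    show f n = 1 ↔ _
    simp only [f]
    by_cases hn : (n : GL Cfsg.Lie.chevG2.Idx K) ∈ Cfsg.Lie.chevG2.diagonalSubgroup K
    · rw [if_pos hn]; exact iff_of_true rfl ⟨hn, n.2.2⟩
    · rw [if_neg hn]; exact iff_of_false (by decide) fun h => hn h.1
end Cfsg.Agent.S1115
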