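import Cfsg.Statements.S1118
import Cfsg.Agent.Lib.RankOne.FixedPoints

set_option autoImplicit false
open Cfsg

namespace Cfsg.Agent.S1118

/-- In the rank-one set-up (`G` finite and doubly transitive on `Ω`, `t` an involution moving `a`, `Q` normal in `G_a` with `G_a = Q D`, `Q ⊓ D = 1` for the two-point stabiliser `D = G_a ⊓ G_{t • a}`, `|Q|` even, `|D|` odd), the normaliser of a subset of `Q` containing a non-identity element lies in `G_a`; consequently `N_G(Q) = N_G(G_a) = G_a`. -/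
theorem result {G Ω : Type*} [Group G] [Finite G] [MulAction G Ω] {a : Ω} {t : G} {Q : Subgroup G}
    (hS : Cfsg.IsRankOneSetup G Ω a t Q) :
    (∀ X : Set G, X ⊆ (Q : Set G) → (∃ x ∈ X, x ≠ 1) → Subgroup.normalizer X ≤ MulAction.stabilizer G a) ∧
      Subgroup.normalizer (Q : Set G) = MulAction.stabilizer G a ∧
      Subgroup.normalizer (MulAction.stabilizer G a : Set G) = MulAction.stabilizer G a := by
  obtain ⟨s, hs, hs1, hs2⟩ := CfsgLib.RankOne.exists_involution hS
  have key : ∀ X : Set G, X ⊆ (Q : Set G) → (∃ x ∈ X, x ≠ 1) →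
      Subgroup.normalizer X ≤ MulAction.stabilizer G a := by
    rintro X hX ⟨x, hx, hx1⟩ g hg
    have h := (Subgroup.normalizer X).inv_mem hg
    have hmem : g⁻¹ * x * g⁻¹⁻¹ ∈ X := (h x).1 hx
    rw [inv_inv] at hmem
    exact CfsgLib.RankOne.mem_stab_of_conj hS (hX hx) hx1 (hS.le (hX hmem))
  refine ⟨key, le_antisymm (key _ le_rfl ⟨s, hs, hs1⟩) ?_, le_antisymm ?_ ?_⟩
  · intro g hg n
    refine ⟨fun h => hS.conj_mem g hg n h, fun h => ?_⟩
    have := hS.conj_mem g⁻¹ ((MulAction.stabilizer G a).inv_mem hg) _ h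
    simpa [mul_assoc] using this
  · intro g hg
    have h := (Subgroup.normalizer _).inv_mem hg
    have hmem : g⁻¹ * s * g⁻¹⁻¹ ∈ MulAction.stabilizer G a := (h s).1 (hS.le hs)
    rw [inv_inv] at hmem
    exact CfsgLib.RankOne.mem_stab_of_conj hS hs hs1 hmem
  · exact Subgroup.le_normalizer
end Cfsg.Agent.S1118
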