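import Cfsg.Statements.S1119
import Cfsg.Agent.Lib.RankOne.FixedPoints

set_option autoImplicit false
open Cfsg

namespace Cfsg.Agent.S1119

/-- In the rank-one set-up (`G` finite and doubly transitive on `Ω`, `t` an involution moving `a`, `Q` normal in `G_a` with `G_a = Q D`, `Q ⊓ D = 1` for the two-point stabiliser `D = G_a ⊓ G_{t • a}`, `|Q|` even, `|D|` odd): `Q` acts regularly on `Ω` minus `a`; hence `|Ω| = |Q| + 1`, `|G| = |Q| |D| (|Q| + 1)`, some Sylow 2-subgroup of `G` lies in `Q`, and each `g ∉ G_a` is uniquely `x t y` with `x ∈ G_a`, `y ∈ Q` (canonical form). -/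
theorem result {G Ω : Type*} [Group G] [Finite G] [MulAction G Ω] {a : Ω} {t : G} {Q : Subgroup G}
    (hS : Cfsg.IsRankOneSetup G Ω a t Q) :
    (∀ b c : Ω, b ≠ a → c ≠ a → ∃! x : Q, (x : G) • b = c) ∧
      Nat.card Ω = Nat.card Q + 1 ∧
      Nat.card G = Nat.card Q * Nat.card ↥(MulAction.stabilizer G a ⊓ MulAction.stabilizer G (t • a)) * (Nat.card Q + 1) ∧
      (∃ P : Sylow 2 G, (P : Subgroup G) ≤ Q) ∧
      ∀ g : G, g ∉ MulAction.stabilizer G a → ∃! p : G × G, p.1 ∈ MulAction.stabilizer G a ∧ p.2 ∈ Q ∧ g = p.1 * t * p.2 := by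
  refine ⟨fun b c hb hc => ?_, CfsgLib.RankOne.card_omega hS, CfsgLib.RankOne.card_G hS, ?_, fun g hg => ?_⟩
  · obtain ⟨q, hq, hqb⟩ := CfsgLib.RankOne.Q_exists hS hb hc
    exact ⟨⟨q, hq⟩, hqb, fun r hr =>
      Subtype.ext (CfsgLib.RankOne.Q_unique hS r.2 hq hb (hr.trans hqb.symm))⟩
  · haveI : Fact (Nat.Prime 2) := ⟨Nat.prime_two⟩
    obtain ⟨S⟩ : Nonempty (Sylow 2 Q) := inferInstance
    obtain ⟨P, hP⟩ := (S.isPGroup'.map Q.subtype).exists_le_sylow
    refine ⟨P, le_of_eq_of_le ?_ (Subgroup.map_subtype_le (S : Subgroup Q))⟩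
    refine (Subgroup.eq_of_le_of_card_ge hP ?_).symm
    rw [Subgroup.card_subtype, P.card_eq_multiplicity, S.card_eq_multiplicity,
      CfsgLib.RankOne.card_G hS]
    refine Nat.pow_le_pow_right (by norm_num) (le_of_eq ?_)
    have hodd : ∀ n : ℕ, Odd n → n.factorization 2 = 0 := fun n hn =>
      Nat.factorization_eq_zero_of_not_dvd hn.not_two_dvd_nat
    rw [Nat.factorization_mul (Nat.mul_ne_zero Nat.card_pos.ne' Nat.card_pos.ne') (Nat.add_one_ne_zero _),
      Nat.factorization_mul Nat.card_pos.ne' Nat.card_pos.ne', Finsupp.add_apply, Finsupp.add_apply,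
      hodd _ hS.odd_card, hodd _ hS.even_card.add_one, add_zero, add_zero]
  · have hne : g⁻¹ • a ≠ a := fun h => hg (inv_smul_eq_iff.1 h).symm
    obtain ⟨y, hy, hye⟩ := CfsgLib.RankOne.Q_exists hS hne (CfsgLib.RankOne.t_smul_ne hS)
    refine ⟨(g * y⁻¹ * t, y), ⟨?_, hy, ?_⟩, ?_⟩
    · show (g * y⁻¹ * t) • a = a
      rw [mul_smul, mul_smul, ← hye, inv_smul_smul, smul_inv_smul]
    · show g = g * y⁻¹ * t * t * y
      rw [mul_assoc (g * y⁻¹) t t, hS.mul_self]; group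
    · rintro ⟨x, z⟩ ⟨hx : x • a = a, hz : z ∈ Q, he : g = x * t * z⟩
      have hzy : z = y := by
        refine CfsgLib.RankOne.Q_unique hS hz hy hne ?_
        rw [hye, he, ← mul_smul]
        have : z * (x * t * z)⁻¹ = t * x⁻¹ := by
          rw [mul_inv_rev, mul_inv_rev, CfsgLib.RankOne.t_inv hS]; group
        rw [this, mul_smul, inv_smul_eq_iff.2 hx.symm]
      subst hzy
      refine Prod.ext ?_ rfl
      show x = g * z⁻¹ * t
      rw [he, mul_assoc x t z, mul_assoc, mul_assoc, mul_assoc, ← mul_assoc z, mul_inv_cancel, one_mul,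
        hS.mul_self, mul_one]
end Cfsg.Agent.S1119
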