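import Cfsg.Statements.S1120
import Cfsg.Agent.Lib.RankOne.Setup
import Cfsg.Agent.Lib.Solvable.Core

set_option autoImplicit false
open Cfsg

namespace Cfsg.Agent.S1120

/-- In the rank-one set-up (`G` finite and doubly transitive on `Ω`, `t` an involution moving `a`, `Q` normal in `G_a` with `G_a = Q D`, `Q ⊓ D = 1` for the two-point stabiliser `D = G_a ⊓ G_{t • a}`, `|Q|` even, `|D|` odd), if `G` has 2-rank at least 2 then `O_{2'}(G)` equals the normal core of `G_a`. -/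
theorem result {G Ω : Type*} [Group G] [Finite G] [MulAction G Ω] {a : Ω} {t : G} {Q : Subgroup G}
    (hS : Cfsg.IsRankOneSetup G Ω a t Q)
    (h2 : ∃ x y : G, x ≠ 1 ∧ y ≠ 1 ∧ x ≠ y ∧ x * x = 1 ∧ y * y = 1 ∧ x * y = y * x) :
    Cfsg.pPrimeCore 2 G = (MulAction.stabilizer G a).normalCore := by
  have hN := CfsgLib.Solvable.pPrimeCore_normal 2 G
  have hodd : Odd (Nat.card (Cfsg.pPrimeCore 2 G)) :=
    Nat.coprime_two_right.1 (CfsgLib.Solvable.pPrimeCore_card_coprime 2 G)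
  refine le_antisymm (Subgroup.normal_le_normalCore.2 ?_)
    (CfsgLib.Solvable.le_pPrimeCore (Subgroup.normalCore_normal _) ?_)
  · obtain ⟨x, y, hx1, hy1, hxy, hx2, hy2, hc⟩ := h2
    obtain ⟨c, hc'⟩ := CfsgLib.RankOne.involution_fixed_point hS hx2
    have := CfsgLib.RankOne.pretransitive hS
    obtain ⟨g, hg⟩ := MulAction.exists_smul_eq G c a
    have hyc : y • c = c := by
      refine CfsgLib.RankOne.involution_fix_unique hS hx1 hx2 ?_ hc'
      rw [← mul_smul, hc, mul_smul, hc']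
    have key : ∀ z : G, z ≠ 1 → z * z = 1 → z • c = c →
        g * z * g⁻¹ ∈ Q ∧ g * z * g⁻¹ ≠ 1 ∧ (g * z * g⁻¹) * (g * z * g⁻¹) = 1 := by
      intro z hz1 hz2 hzc
      have h2' : (g * z * g⁻¹) * (g * z * g⁻¹) = 1 := by
        calc (g * z * g⁻¹) * (g * z * g⁻¹) = g * (z * z) * g⁻¹ := by group
          _ = 1 := by rw [hz2]; group
      refine ⟨CfsgLib.RankOne.involution_mem_Q hS ?_ h2', fun h => hz1 (by
        simpa [mul_assoc] using congrArg (fun w => g⁻¹ * w * g) h), h2'⟩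
      show (g * z * g⁻¹) • a = a
      rw [← hg, mul_smul, inv_smul_smul, mul_smul, hzc]
    obtain ⟨he1Q, he11, he12⟩ := key x hx1 hx2 hc'
    obtain ⟨he2Q, he21, he22⟩ := key y hy1 hy2 hyc
    set e₁ := g * x * g⁻¹ with he1
    set e₂ := g * y * g⁻¹ with he2
    have hne : e₁ * e₂ ≠ 1 := by
      intro h
      apply hxy
      have h' : g * (x * y) * g⁻¹ = 1 := by rw [← h, he1, he2]; group
      have h'' : x * y = 1 := by simpa [mul_assoc] using congrArg (fun w => g⁻¹ * w * g) h'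
      rw [← mul_right_inj x, hx2, h'']
    clear_value e₁ e₂
    set O := Cfsg.pPrimeCore 2 G with hO
    have ho : ∀ {e : G}, e * e = 1 → ∀ w ∈ O, e * w * e ∈ O := fun {e} he w hw => by
      have := hN.conj_mem w hw e
      rwa [CfsgLib.RankOne.inv_of_mul_self he] at this
    intro w hw
    obtain ⟨c₀, z, hc₀, hc₀e, hz, rfl⟩ := CfsgLib.RankOne.exists_factor hodd he12 (ho he12) hw
    refine (MulAction.stabilizer G a).mul_mem (CfsgLib.RankOne.mem_stab_of_commute hS he1Q he11 hc₀e) ?_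
    obtain ⟨hzO, hz1⟩ := (CfsgLib.RankOne.mem_invertedBy he12).1 hz
    obtain ⟨y₀, w₀, hy₀O, hy₀e, hw₀, rfl⟩ := CfsgLib.RankOne.exists_factor hodd he22 (ho he22) hzO
    obtain ⟨hw₀O, hw₀2⟩ := (CfsgLib.RankOne.mem_invertedBy he22).1 hw₀
    have hcom : Commute e₁ e₂ := by
      show e₁ * e₂ = e₂ * e₁
      calc e₁ * e₂ = g * (x * y) * g⁻¹ := by rw [he1, he2]; group
        _ = g * (y * x) * g⁻¹ := by rw [hc]
        _ = _ := by rw [he1, he2]; group
    have h11 : ∀ v : G, e₁ * (e₁ * v) = v := fun v => by rw [← mul_assoc, he12, one_mul]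
    have h22 : ∀ v : G, e₂ * (e₂ * v) = v := fun v => by rw [← mul_assoc, he22, one_mul]
    -- apply `e₁` to the factorisation with respect to `e₂`
    have hy' : Commute (e₁ * y₀ * e₁) e₂ := (hcom.mul_left hy₀e).mul_left hcom
    have hw' : e₁ * w₀ * e₁ ∈ Cfsg.invertedBy O e₂ := by
      refine (CfsgLib.RankOne.mem_invertedBy he22).2 ⟨ho he12 _ hw₀O, ?_⟩
      calc e₂ * (e₁ * w₀ * e₁) * e₂ = (e₂ * e₁) * w₀ * (e₁ * e₂) := by group
        _ = e₁ * (e₂ * w₀ * e₂) * e₁ := by rw [← hcom.eq]; nth_rw 2 [hcom.eq]; group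
        _ = _ := by
          rw [hw₀2, mul_inv_rev, mul_inv_rev, CfsgLib.RankOne.inv_of_mul_self he12, mul_assoc]
    have hw'' : y₀ * w₀⁻¹ * y₀⁻¹ ∈ Cfsg.invertedBy O e₂ :=
      CfsgLib.RankOne.conj_mem_invertedBy hy₀e hy₀O (CfsgLib.RankOne.invertedBy_inv_mem hw₀)
    obtain ⟨f1, f2⟩ := CfsgLib.RankOne.factor_unique hodd he22 hy' hw' (x := (y₀ * w₀)⁻¹)
      (by rw [← hz1]; simp only [mul_assoc, h11]) hy₀e.inv_left hw'' (by group)
    set u := CfsgLib.RankOne.oroot O y₀ with hu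
    have huu : u * u = y₀ := CfsgLib.RankOne.oroot_sq hodd hy₀O
    have huO : u ∈ O := CfsgLib.RankOne.oroot_mem hy₀O
    have hue : Commute u e₂ := hy₀e.pow_left _
    have hu1 : e₁ * u * e₁ = u⁻¹ := by
      have hy₀I : y₀ ∈ Cfsg.invertedBy O e₁ :=
        (CfsgLib.RankOne.mem_invertedBy he12).2 ⟨hy₀O, f1⟩
      exact ((CfsgLib.RankOne.mem_invertedBy he12).1 (CfsgLib.RankOne.invertedBy_oroot_mem hy₀I)).2
    set w₁ := u * w₀ * u⁻¹ with hw1
    have h1e : e₁ * w₁ * e₁ = w₁⁻¹ := by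
      calc e₁ * w₁ * e₁ = (e₁ * u * e₁) * (e₁ * w₀ * e₁) * (e₁ * u * e₁)⁻¹ := by
            rw [hw1]; simp only [mul_inv_rev, CfsgLib.RankOne.inv_of_mul_self he12, mul_assoc, h11]
        _ = u⁻¹ * (y₀ * w₀⁻¹ * y₀⁻¹) * u := by rw [hu1, f2, inv_inv]
        _ = w₁⁻¹ := by rw [← huu, hw1]; group
    have h2e : e₂ * w₁ * e₂ = w₁⁻¹ := by
      calc e₂ * w₁ * e₂ = (e₂ * u) * w₀ * (u⁻¹ * e₂) := by rw [hw1]; group
        _ = u * (e₂ * w₀ * e₂) * u⁻¹ := by rw [← hue.eq, hue.inv_left.eq]; group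
        _ = w₁⁻¹ := by rw [hw₀2, hw1]; group
    have h3e : Commute w₁ (e₁ * e₂) := by
      have h : e₁ * e₂ * w₁ * (e₁ * e₂) = w₁ := by
        calc e₁ * e₂ * w₁ * (e₁ * e₂) = e₁ * e₂ * w₁ * (e₂ * e₁) := by rw [hcom.eq]
          _ = e₁ * (e₂ * w₁ * e₂) * e₁ := by group
          _ = w₁ := by
            rw [h2e]
            have := congrArg Inv.inv h1e
            simpa [CfsgLib.RankOne.inv_of_mul_self he12, mul_assoc] using this
      have hinv : (e₁ * e₂) * (e₁ * e₂) = 1 := by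
        calc (e₁ * e₂) * (e₁ * e₂) = e₁ * (e₂ * e₁) * e₂ := by group
          _ = 1 := by rw [← hcom.eq, h11, he22]
      show w₁ * (e₁ * e₂) = (e₁ * e₂) * w₁
      calc w₁ * (e₁ * e₂) = (e₁ * e₂ * w₁ * (e₁ * e₂)) * (e₁ * e₂) := by rw [h]
        _ = _ := by rw [mul_assoc _ (e₁ * e₂) (e₁ * e₂), hinv, mul_one]
    have hz' : y₀ * w₀ = u * w₁ * u := by rw [← huu, hw1]; group
    rw [hz']
    have hua := CfsgLib.RankOne.mem_stab_of_commute hS he2Q he21 hue
    exact (MulAction.stabilizer G a).mul_mem ((MulAction.stabilizer G a).mul_mem hua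
      (CfsgLib.RankOne.mem_stab_of_commute hS (Q.mul_mem he1Q he2Q) hne h3e)) hua
  · rw [Nat.coprime_two_right]
    refine Odd.of_dvd_nat hS.odd_card (Subgroup.card_dvd_of_le fun n hn => ?_)
    obtain ⟨g, hg⟩ := (CfsgLib.RankOne.pretransitive hS).exists_smul_eq a (t • a)
    refine (CfsgLib.RankOne.mem_twoPt hS).2 ⟨Subgroup.normalCore_le _ hn, ?_⟩
    have h := Subgroup.normalCore_le _ ((Subgroup.normalCore_normal _).conj_mem n hn g⁻¹)
    rw [inv_inv] at h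
    rw [← hg]
    exact CfsgLib.RankOne.conj_smul_fix.1 h
end Cfsg.Agent.S1120
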