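import Cfsg.Statements.S1124
import Cfsg.Agent.Lib.RankOne.OddInvert

set_option autoImplicit false
open scoped Pointwise
open Cfsg

namespace Cfsg.Agent.S1124

/-- Let `t` be an element of order 2 of a finite group normalising a subgroup `X` of odd order, `Y = C_X(t)` and `Z` the set of elements of `X` inverted by `t`. Then `(y, z) ↦ y z` is a bijection `Y × Z → X`, so `|X| = |Y| |Z|`, and the subgroup generated by `Z` is normal in `X`. -/
theorem result {M : Type*} [Group M] [Finite M]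
    (t : M) (ht : orderOf t = 2) (X : Subgroup M) (hodd : Odd (Nat.card X))
    (hnorm : ∀ x ∈ X, t * x * t⁻¹ ∈ X) :
    (∀ x ∈ X, ∃! p : M × M, p.1 ∈ X ⊓ Subgroup.centralizer {t} ∧ p.2 ∈ Cfsg.invertedBy X t ∧ x = p.1 * p.2) ∧
      Nat.card X = Nat.card ↥(X ⊓ Subgroup.centralizer {t}) * Nat.card (Cfsg.invertedBy X t) ∧
      ∀ x ∈ X, MulAut.conj x • Subgroup.closure (Cfsg.invertedBy X t) = Subgroup.closure (Cfsg.invertedBy X t) := by
  have h2 : t * t = 1 := by
    rw [← sq, ← ht]; exact pow_orderOf_eq_one t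
  have hn : ∀ x ∈ X, t * x * t ∈ X := fun x hx => by
    have := hnorm x hx
    rwa [CfsgLib.RankOne.inv_of_mul_self h2] at this
  refine ⟨fun x hx => ?_, CfsgLib.RankOne.card_eq_mul hodd h2 hn, fun x hx => ?_⟩
  · obtain ⟨y, z, hyX, hy, hz, he⟩ := CfsgLib.RankOne.exists_factor hodd h2 hn hx
    refine ⟨(y, z), ⟨Subgroup.mem_inf.2 ⟨hyX, Subgroup.mem_centralizer_singleton_iff.2 hy⟩, hz, he⟩, ?_⟩
    rintro ⟨y', z'⟩ ⟨hy', hz', he'⟩
    obtain ⟨e1, e2⟩ := CfsgLib.RankOne.factor_unique hodd h2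
      (Subgroup.mem_centralizer_singleton_iff.1 (Subgroup.mem_inf.1 hy').2) hz' he' hy hz he
    exact Prod.ext e1 e2
  · ext c
    rw [Subgroup.mem_pointwise_smul_iff_inv_smul_mem, ← map_inv, MulAut.smul_def, MulAut.conj_apply]
    constructor
    · intro h
      have := CfsgLib.RankOne.conj_mem_closure_invertedBy hodd h2 hn hx h
      simpa [mul_assoc] using this
    · intro h
      exact CfsgLib.RankOne.conj_mem_closure_invertedBy hodd h2 hn (X.inv_mem hx) h
end Cfsg.Agent.S1124
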