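import Cfsg.Statements.S1128
import Cfsg.Agent.Lib.RankOne.FixedPoints

set_option autoImplicit false
open Cfsg

namespace Cfsg.Agent.S1128

/-- In the rank-one set-up (`G` finite and doubly transitive on `Ω`, `t` an involution moving `a`, `Q` normal in `G_a` with `G_a = Q D`, `Q ⊓ D = 1` for the two-point stabiliser `D = G_a ⊓ G_{t • a}`, `|Q|` even, `|D|` odd), with the action faithful and `G` containing two distinct commuting involutions: every non-identity element of `D` inverted by `t` acts fixed-point-freely on `Q`. -/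
theorem result {G Ω : Type*} [Group G] [Finite G] [MulAction G Ω] [FaithfulSMul G Ω] {a : Ω} {t : G} {Q : Subgroup G}
    (hS : Cfsg.IsRankOneSetup G Ω a t Q)
    (h2 : ∃ x y : G, x ≠ 1 ∧ y ≠ 1 ∧ x ≠ y ∧ x * x = 1 ∧ y * y = 1 ∧ x * y = y * x)
    (x : G) (hx : x ∈ Cfsg.invertedBy (MulAction.stabilizer G a ⊓ MulAction.stabilizer G (t • a)) t) (hx1 : x ≠ 1) :
    Q ⊓ Subgroup.centralizer {x} = ⊥ := by
  rw [eq_bot_iff]
  intro q hq
  obtain ⟨hqQ, hqx⟩ := Subgroup.mem_inf.1 hq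
  rw [Subgroup.mem_bot]
  by_contra hq1
  have hxD : x ∈ CfsgLib.RankOne.twoPt G a t := hx.1
  obtain ⟨hxa, hxb⟩ := (CfsgLib.RankOne.mem_twoPt hS).1 hxD
  have hc : Commute q x := Subgroup.mem_centralizer_singleton_iff.1 hqx
  have hqa := CfsgLib.RankOne.Q_fix hS hqQ
  have hne := CfsgLib.RankOne.t_smul_ne hS
  have h3 : ∃ b c d : Ω, b ≠ c ∧ b ≠ d ∧ c ≠ d ∧
      ∀ y ∈ ({x} : Set G), y • b = b ∧ y • c = c ∧ y • d = d := by
    refine ⟨a, t • a, q • (t • a), hne.symm, fun h => hne ?_, fun h => hq1 ?_, ?_⟩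
    · exact smul_left_cancel q (h.symm.trans hqa.symm)
    · exact CfsgLib.RankOne.Q_eq_one hS hqQ hne h.symm
    · rintro _ rfl
      exact ⟨hxa, hxb, by rw [← mul_smul, ← hc.eq, mul_smul, hxb]⟩
  obtain ⟨u, hu, hu2, -, hua⟩ := CfsgLib.RankOne.exists_swap_centralizing hS
    (Set.singleton_subset_iff.2 hxD) h3
  have hk := CfsgLib.RankOne.mem_K_of_swap hS hu2 hua
  have hux : Commute x u := Subgroup.mem_centralizer_iff.1 hu x rfl
  have hxt : t * x * t = x⁻¹ := ((CfsgLib.RankOne.mem_K hS).1 hx).2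
  have hxt' : t * x⁻¹ * t = x := by
    have := congrArg Inv.inv hxt
    simpa [CfsgLib.RankOne.t_inv hS, mul_assoc] using this
  have hinv : (u * t) * x * (u * t)⁻¹ = x⁻¹ := by
    rw [mul_inv_rev, CfsgLib.RankOne.t_inv hS]
    calc u * t * x * (t * u⁻¹) = u * (t * x * t) * u⁻¹ := by group
      _ = x⁻¹ := by rw [hxt, ← hux.inv_left.eq, mul_inv_cancel_right]
  exact hx1 (CfsgLib.RankOne.eq_one_of_sq hS.odd_card hxD
    (CfsgLib.RankOne.sq_eq_one_of_conj_inv hS.odd_card hk.1 hinv))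
end Cfsg.Agent.S1128
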