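import Cfsg.Statements.S1132
import Cfsg.Agent.Lib.RankOne.InvertedCyclic

set_option autoImplicit false
open Cfsg

namespace Cfsg.Agent.S1132

/-- In the rank-one set-up (`G` finite and doubly transitive on `Ω`, `t` an involution moving `a`, `Q` normal in `G_a` with `G_a = Q D`, `Q ⊓ D = 1` for the two-point stabiliser `D = G_a ⊓ G_{t • a}`, `|Q|` even, `|D|` odd), with the action faithful and `G` containing two distinct commuting involutions: a Sylow 2-subgroup of `Q` is abelian or a Suzuki 2-group. -/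
theorem result {G Ω : Type*} [Group G] [Finite G] [MulAction G Ω] [FaithfulSMul G Ω] {a : Ω} {t : G} {Q : Subgroup G}
    (hS : Cfsg.IsRankOneSetup G Ω a t Q)
    (h2 : ∃ x y : G, x ≠ 1 ∧ y ≠ 1 ∧ x ≠ y ∧ x * x = 1 ∧ y * y = 1 ∧ x * y = y * x)
    (S : Sylow 2 ↥Q) : IsMulCommutative (S : Subgroup ↥Q) ∨ Cfsg.IsSuzukiTwoGroup ↥(S : Subgroup ↥Q) := by
  classical
  have : Fact (Nat.Prime 2) := ⟨Nat.prime_two⟩
  refine (em (IsMulCommutative (S : Subgroup ↥Q))).imp_right fun hnab => ?_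
  have hQ : Group.IsNilpotent Q := Cfsg.Agent.S1129.result hS h2
  have hiff := (Group.isNilpotent_of_finite_tfae (G := Q)).out 0 3
  have hSn : (S : Subgroup Q).Normal := hiff.1 hQ 2 inferInstance S
  have hSc : (S : Subgroup Q).Characteristic := S.characteristic_of_normal hSn
  have hmem : ∀ x ∈ Cfsg.involutionsIn (MulAction.stabilizer G a : Set G), ∃ y : (S : Subgroup Q), ((y : Q) : G) = x := by
    intro x hx
    let y : Q := ⟨x, CfsgLib.RankOne.involution_mem_Q hS hx.1 hx.2.2⟩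
    have hy : IsPGroup 2 (Subgroup.zpowers y) := IsPGroup.of_card (n := 1) (by
      rw [Nat.card_zpowers, pow_one]
      exact orderOf_eq_prime (Subtype.ext (by rw [sq]; exact hx.2.2)) (fun h => hx.2.1 (congrArg Subtype.val h)))
    obtain ⟨P, hP⟩ := hy.exists_le_sylow
    have := Sylow.unique_of_normal S hSn
    rw [Subsingleton.elim P S] at hP
    exact ⟨⟨y, hP (Subgroup.mem_zpowers y)⟩, rfl⟩
  have hinvol : ∀ x : (S : Subgroup Q), x ≠ 1 → x * x = 1 →
      ((x : Q) : G) ∈ Cfsg.involutionsIn (MulAction.stabilizer G a : Set G) := fun x hx1 hx2 =>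
    ⟨hS.le (x : Q).2, fun h => hx1 (Subtype.ext (Subtype.ext h)),
      congrArg (fun z : (S : Subgroup Q) => ((z : Q) : G)) hx2⟩
  obtain ⟨s, hs, s', hs', hne⟩ := CfsgLib.RankOne.exists_two_involutions hS h2
  obtain ⟨ys, hys⟩ := hmem s hs
  obtain ⟨ys', hys'⟩ := hmem s' hs'
  refine ⟨inferInstance, S.2, ?_, ⟨ys, ys', fun h => hne (by rw [← hys, ← hys', h]), fun h => hs.2.1 (by rw [← hys, h]; rfl), Subtype.ext (Subtype.ext (show ((ys : Q) : G) * (ys : Q) = 1 by rw [hys]; exact hs.2.2)), fun h => hs'.2.1 (by rw [← hys', h]; rfl), Subtype.ext (Subtype.ext (show ((ys' : Q) : G) * (ys' : Q) = 1 by rw [hys']; exact hs'.2.2))⟩, ?_⟩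
  · by_contra h
    push Not at h
    exact hnab ⟨⟨h⟩⟩
  obtain ⟨g, hg, hset, -⟩ := CfsgLib.RankOne.exists_generator_invertedBy hS h2
  have hle : Subgroup.zpowers g ≤ Subgroup.normalizer (Q : Set G) := fun k hk => by
    have hka : k ∈ MulAction.stabilizer G a := (Subgroup.mem_inf.1 ((Set.ext_iff.1 hset k).1 hk).1).1
    rw [Subgroup.mem_normalizer_iff]
    refine fun x => ⟨hS.conj_mem k hka x, fun hx => ?_⟩
    simpa [mul_assoc] using hS.conj_mem k⁻¹ ((MulAction.stabilizer G a).inv_mem hka) _ hx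
  let ψ : Subgroup.zpowers g →* MulAut (S : Subgroup Q) :=
    { toFun := fun k => (((Q.normalizerMonoidHom).comp (Subgroup.inclusion hle)) k).subgroupMap (S : Subgroup Q) |>.trans
        (MulEquiv.subgroupCongr (Subgroup.characteristic_iff_map_eq.1 hSc _))
      map_one' := MulEquiv.ext fun x => Subtype.ext (Subtype.ext (show (1 : G) * ((x : Q) : G) * (1 : G)⁻¹ = _ by simp))
      map_mul' := fun k l => MulEquiv.ext fun x => Subtype.ext (Subtype.ext (show ((k * l : Subgroup.zpowers g) : G) * ((x : Q) : G) * ((k * l : Subgroup.zpowers g) : G)⁻¹ = (k : G) * ((l : G) * ((x : Q) : G) * (l : G)⁻¹) * (k : G)⁻¹ by push_cast; group)) }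
  refine ⟨ψ.range, isCyclic_of_surjective ψ.rangeRestrict ψ.rangeRestrict_surjective, fun x y hx1 hx2 hy1 hy2 => ?_⟩
  obtain ⟨k, ⟨hk, hkx⟩, huniq⟩ := CfsgLib.RankOne.exists_K_conj hS (hinvol x hx1 hx2) (hinvol y hy1 hy2)
  have hk' : k⁻¹ ∈ Subgroup.zpowers g := Subgroup.inv_mem _ ((Set.ext_iff.1 hset k).2 hk)
  refine ⟨⟨ψ ⟨k⁻¹, hk'⟩, ⟨_, rfl⟩⟩, Subtype.ext (Subtype.ext ?_), ?_⟩
  · show k⁻¹ * ((x : Q) : G) * k⁻¹⁻¹ = _
    rw [inv_inv, hkx]
  · rintro ⟨_, l, rfl⟩ hl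
    have h1 : (l : G) * ((x : Q) : G) * (l : G)⁻¹ = ((y : Q) : G) :=
      congrArg (fun z : (S : Subgroup Q) => ((z : Q) : G)) hl
    have h3 := huniq (l : G)⁻¹ ⟨(Set.ext_iff.1 hset _).1 (Subgroup.inv_mem _ l.2), by rw [inv_inv]; exact h1⟩
    exact Subtype.ext (congrArg ψ (Subtype.ext (inv_eq_iff_eq_inv.1 h3)))

end Cfsg.Agent.S1132
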