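import Cfsg.Statements.S1134
import Cfsg.Agent.Lib.RankOne.FixedPoints

set_option autoImplicit false
open Cfsg

namespace Cfsg.Agent.S1134

/-- In the rank-one set-up (`G` finite and doubly transitive on `Ω`, `t` an involution moving `a`, `Q` normal in `G_a` with `G_a = Q D`, `Q ⊓ D = 1` for the two-point stabiliser `D = G_a ⊓ G_{t • a}`, `|Q|` even, `|D|` odd), with the action faithful and `G` containing two distinct commuting involutions, with `V = C_D(t)`: subsets of `V` conjugate in `G` are conjugate in `V`. -/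
theorem result {G Ω : Type*} [Group G] [Finite G] [MulAction G Ω] [FaithfulSMul G Ω] {a : Ω} {t : G} {Q : Subgroup G}
    (hS : Cfsg.IsRankOneSetup G Ω a t Q)
    (h2 : ∃ x y : G, x ≠ 1 ∧ y ≠ 1 ∧ x ≠ y ∧ x * x = 1 ∧ y * y = 1 ∧ x * y = y * x)
    (X : Set G) (hX : X ⊆ (((MulAction.stabilizer G a ⊓ MulAction.stabilizer G (t • a)) ⊓ Subgroup.centralizer {t} : Subgroup G) : Set G)) (g : G)
    (hY : (fun x => g * x * g⁻¹) '' X ⊆ (((MulAction.stabilizer G a ⊓ MulAction.stabilizer G (t • a)) ⊓ Subgroup.centralizer {t} : Subgroup G) : Set G)) :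
    ∃ v ∈ (MulAction.stabilizer G a ⊓ MulAction.stabilizer G (t • a)) ⊓ Subgroup.centralizer {t}, (fun x => v * x * v⁻¹) '' X = (fun x => g * x * g⁻¹) '' X := by
  have h3 := CfsgLib.RankOne.fix_three_of_mem_V hS hY
  have hXD : ∀ x ∈ X, x • a = a ∧ x • (t • a) = t • a := fun x hx =>
    (CfsgLib.RankOne.mem_twoPt hS).1 (Subgroup.mem_inf.1 (hX hx)).1
  have hfix : ∀ {c : Ω}, (∀ x ∈ X, x • c = c) →
      ∀ y ∈ (fun x => g * x * g⁻¹) '' X, y • (g • c) = g • c := by
    rintro c hc _ ⟨x, hx, rfl⟩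
    simp only [mul_smul, inv_smul_smul, hc x hx]
  have hYD : ∀ y ∈ (fun x => g * x * g⁻¹) '' X, y • a = a ∧ y • (t • a) = t • a := fun y hy =>
    (CfsgLib.RankOne.mem_twoPt hS).1 (Subgroup.mem_inf.1 (hY hy)).1
  obtain ⟨h, hh, hha, hhb⟩ := CfsgLib.RankOne.centralizer_two_transitive hS h3
    (b₁ := g • a) (b₂ := g • (t • a)) (c₁ := a) (c₂ := t • a)
    (hfix fun x hx => (hXD x hx).1) (hfix fun x hx => (hXD x hx).2)
    (fun y hy => (hYD y hy).1) (fun y hy => (hYD y hy).2)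
    (fun h => CfsgLib.RankOne.t_smul_ne hS (smul_left_cancel g h).symm)
    (CfsgLib.RankOne.t_smul_ne hS).symm
  have hd : h * g ∈ CfsgLib.RankOne.twoPt G a t := by
    rw [CfsgLib.RankOne.mem_twoPt hS, mul_smul, mul_smul]; exact ⟨hha, hhb⟩
  have hconj : ∀ x ∈ X, (h * g) * x * (h * g)⁻¹ = g * x * g⁻¹ := by
    intro x hx
    have hc := Subgroup.mem_centralizer_iff.1 hh _ ⟨x, hx, rfl⟩
    calc (h * g) * x * (h * g)⁻¹ = (h * (g * x * g⁻¹)) * h⁻¹ := by group
      _ = _ := by rw [← hc, mul_inv_cancel_right]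
  obtain ⟨v, k, hvD, hvt, hk, hvk⟩ := CfsgLib.RankOne.exists_factor hS.odd_card hS.mul_self
    (fun x hx => CfsgLib.RankOne.t_conj_mem hS hx) hd
  refine ⟨v, Subgroup.mem_inf.2 ⟨hvD, Subgroup.mem_centralizer_singleton_iff.2 hvt⟩, ?_⟩
  refine Set.image_congr fun x hx => ?_
  have hy := hY ⟨x, hx, rfl⟩
  have hxt : Commute x t := Subgroup.mem_centralizer_singleton_iff.1 (Subgroup.mem_inf.1 (hX hx)).2
  have hyt : Commute (g * x * g⁻¹) t := Subgroup.mem_centralizer_singleton_iff.1 (Subgroup.mem_inf.1 hy).2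
  set z := k * x * k⁻¹ with hz
  have hzt : Commute z t := by
    have : z = v⁻¹ * (g * x * g⁻¹) * v := by rw [← hconj x hx, hvk, hz]; group
    rw [this]; exact (hvt.inv_left.mul_left hyt).mul_left hvt
  have hkt := CfsgLib.RankOne.K_conj hS hk
  have hk' : t * k = k⁻¹ * t := by
    calc t * k = t * k * (t * t) := by rw [hS.mul_self, mul_one]
      _ = k⁻¹ * t := by rw [← mul_assoc (t * k) t t, ((CfsgLib.RankOne.mem_K hS).1 hk).2]
  have h1 : k⁻¹ * x * k = z := by
    calc k⁻¹ * x * k = k⁻¹ * (x * (t * t)) * k := by rw [hS.mul_self, mul_one]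
      _ = (k⁻¹ * t) * x * (t * k) := by rw [← mul_assoc x t t, hxt.eq]; group
      _ = (t * k) * x * (k⁻¹ * t) := by rw [← hk']
      _ = t * z * t := by rw [hz]; group
      _ = z := by rw [mul_assoc, hzt.eq, ← mul_assoc, hS.mul_self, one_mul]
  have h2 : Commute (k * k) x := by
    calc k * k * x = k * (k * x * k⁻¹) * k := by group
      _ = k * (k⁻¹ * x * k) * k := by rw [h1, hz]
      _ = x * (k * k) := by group
  have h3 := CfsgLib.RankOne.commute_of_sq_commute hS.odd_card hk.1 h2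
  rw [← hconj x hx, hvk]
  calc v * x * v⁻¹ = v * (x * k) * k⁻¹ * v⁻¹ := by group
    _ = v * (k * x) * k⁻¹ * v⁻¹ := by rw [h3.eq]
    _ = (v * k) * x * (v * k)⁻¹ := by group
end Cfsg.Agent.S1134
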