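import Cfsg.Statements.S1138
import Cfsg.Agent.Lib.SuzukiTwo.Higman
import Cfsg.Agent.Lib.SuzukiTwo.Anisotropic

set_option autoImplicit false
open Cfsg
open scoped commutatorElement

namespace Cfsg.Agent.S1138

open CfsgLib.SuzukiTwo in
/-- Let `P` be a Suzuki 2-group with `|Z(P)| = q`. Then every square lies in `Z(P)` and `P/Z(P)` is abelian (so elementary abelian), `|P| = q²` or `|P| = q³`, and `P` has exponent 4. -/
theorem result {P : Type*} [Group P] (hP : Cfsg.IsSuzukiTwoGroup P) :
    (∀ x : P, x * x ∈ Subgroup.center P) ∧ (∀ x y : P, x⁻¹ * y⁻¹ * x * y ∈ Subgroup.center P) ∧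
      (Nat.card P = Nat.card (Subgroup.center P) ^ 2 ∨ Nat.card P = Nat.card (Subgroup.center P) ^ 3) ∧
      Monoid.exponent P = 4 := by
  classical
  obtain ⟨hfin, hp, hna, h2, K, hcyc, hreg⟩ := hP
  have hR : RegularInv K := ⟨hfin, hp, h2, hcyc, hreg⟩
  haveI : Fact (Nat.Prime 2) := ⟨Nat.prime_two⟩
  have hW : Subgroup.center P = omegaCenter P :=
    le_antisymm (fun z hz => ⟨hz, center_sq_eq_one hR hna hz⟩) fun z hz => hz.1
  have hcm : ∀ g h : P, ⁅g, h⁆ ∈ omegaCenter P := commutator_mem_omega hR hna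
  have hsq : ∀ g : P, g * g ∈ omegaCenter P := by
    intro g
    rw [← hW]
    refine Subgroup.mem_center_iff.2 fun h => (commutatorElement_eq_one_iff_mul_comm.1 ?_).symm
    calc ⁅g * g, h⁆ = (g * ⁅g, h⁆ * g⁻¹) * ⁅g, h⁆ := by simp only [commutatorElement_def]; group
      _ = 1 := by rw [omega_conj (hcm g h)]; exact (hcm g h).2
  refine ⟨fun x => (hsq x).1, fun x y => ?_, ?_, ?_⟩
  · have h := (hcm x⁻¹ y⁻¹).1
    rw [commutatorElement_def, inv_inv, inv_inv] at h
    exact h
  swap
  · have h4 : Monoid.exponent P ∣ 4 := Monoid.exponent_dvd_of_forall_pow_eq_one fun g => by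
      rw [show (4 : ℕ) = 2 * 2 from rfl, pow_mul, sq g, sq]
      exact (hsq g).2
    obtain ⟨i, hi, he⟩ := (Nat.dvd_prime_pow Nat.prime_two).1 (h4.trans (dvd_of_eq (by norm_num : 4 = 2 ^ 2)))
    interval_cases i
    · exfalso
      obtain ⟨x, -, -, hx, -⟩ := h2
      exact hx (by rw [← pow_one x, ← (show Monoid.exponent P = 1 by simpa using he), Monoid.pow_exponent_eq_one])
    · exfalso
      obtain ⟨x, y, hxy⟩ := hna
      have hx : x * x = 1 := by
        rw [← sq, ← (show Monoid.exponent P = 2 by simpa using he), Monoid.pow_exponent_eq_one]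
      exact hxy (Subgroup.mem_center_iff.1 (mem_omega_of_sq hR hx).1 y).symm
    · simpa using he
  -- the order
  rw [hW]
  set W := omegaCenter P with hWdef
  haveI hWn : W.Normal := hW ▸ inferInstance
  haveI : Finite P := hfin
  obtain ⟨n, hn⟩ := IsPGroup.iff_card.1 (hp.to_subgroup W)
  obtain ⟨d, hd⟩ := IsPGroup.iff_card.1 (hp.to_quotient W)
  have hqc : ∀ u v : P ⧸ W, u * v = v * u := fun u v => by
    induction u using QuotientGroup.induction_on with | _ g => ?_
    induction v using QuotientGroup.induction_on with | _ h => ?_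
    rw [← commutatorElement_eq_one_iff_mul_comm]
    show ⁅QuotientGroup.mk' W g, QuotientGroup.mk' W h⁆ = 1
    rw [← map_commutatorElement]
    exact (QuotientGroup.eq_one_iff _).2 (hcm g h)
  letI : CommGroup (P ⧸ W) := { (inferInstance : Group (P ⧸ W)) with mul_comm := hqc }
  letI : CommGroup W := { (inferInstance : Group W) with mul_comm := omegaCenter_comm }
  haveI : Fintype (P ⧸ W) := Fintype.ofFinite _
  -- coordinates on the centre
  letI : Module (ZMod 2) (Additive W) := AddCommGroup.zmodModule fun x => by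
    rw [two_nsmul]
    exact congrArg Additive.ofMul (Subtype.ext (Additive.toMul x).2.2 :
      Additive.toMul x * Additive.toMul x = 1)
  have hdim : Module.finrank (ZMod 2) (Additive W) = n := by
    have h := Module.natCard_eq_pow_finrank (K := ZMod 2) (V := Additive W)
    rw [Nat.card_zmod, show Nat.card (Additive W) = 2 ^ n from hn] at h
    exact (Nat.pow_right_injective le_rfl h).symm
  let coord : Additive W ≃ₗ[ZMod 2] (Fin n → ZMod 2) :=
    (Module.finBasisOfFinrankEq (ZMod 2) (Additive W) hdim).equivFun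
  let σ : P ⧸ W → W := fun u => Quotient.liftOn' u (fun g => (⟨g * g, hsq g⟩ : W)) fun g g' h => by
    obtain ⟨w, hw, rfl⟩ : ∃ w ∈ W, g' = g * w := ⟨_, QuotientGroup.leftRel_apply.1 h, by group⟩
    refine Subtype.ext ?_
    show g * g = g * w * (g * w)
    calc g * g = g * g * (w * w) := by rw [hw.2, mul_one]
      _ = g * (g * w) * w := by group
      _ = g * (w * g) * w := by rw [Subgroup.mem_center_iff.1 hw.1 g]
      _ = _ := by group
  have hσ3 : ∀ u v w : P ⧸ W, σ (u * v * w) * σ (u * v) * σ (u * w) * σ (v * w) * σ u * σ v * σ w = 1 := by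
    intro u v w
    induction u using QuotientGroup.induction_on with | _ a => ?_
    induction v using QuotientGroup.induction_on with | _ b => ?_
    induction w using QuotientGroup.induction_on with | _ c => ?_
    have hpol : ∀ x y : P, (⟨x * y * (x * y), hsq _⟩ : W) =
        ⟨⁅y, x⁆, hcm y x⟩ * (⟨x * x, hsq x⟩ * ⟨y * y, hsq y⟩) := fun x y => Subtype.ext (by
      show x * y * (x * y) = ⁅y, x⁆ * (x * x * (y * y))
      calc x * y * (x * y) = (x * ⁅y, x⁆ * x⁻¹) * (x * x * (y * y)) := by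
            simp only [commutatorElement_def]; group
        _ = _ := by rw [omega_conj (hcm y x)])
    have hbil : (⟨⁅c, a * b⁆, hcm _ _⟩ : W) = ⟨⁅c, a⁆, hcm _ _⟩ * ⟨⁅c, b⁆, hcm _ _⟩ := Subtype.ext (by
      show ⁅c, a * b⁆ = ⁅c, a⁆ * ⁅c, b⁆
      calc ⁅c, a * b⁆ = ⁅c, a⁆ * (a * ⁅c, b⁆ * a⁻¹) := by simp only [commutatorElement_def]; group
        _ = _ := by rw [omega_conj (hcm c b)])
    show (⟨a * b * c * (a * b * c), hsq _⟩ : W) * ⟨a * b * (a * b), hsq _⟩ * ⟨a * c * (a * c), hsq _⟩ *
      ⟨b * c * (b * c), hsq _⟩ * ⟨a * a, hsq _⟩ * ⟨b * b, hsq _⟩ * ⟨c * c, hsq _⟩ = 1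
    rw [hpol (a * b) c, hpol a b, hpol a c, hpol b c, hbil]
    have hself : ∀ x : W, x * x = 1 := fun x => Subtype.ext x.2.2
    generalize (⟨⁅c, a⁆, hcm c a⟩ : W) = p₁
    generalize (⟨⁅c, b⁆, hcm c b⟩ : W) = p₂
    generalize (⟨⁅b, a⁆, hcm b a⟩ : W) = p₃
    generalize (⟨a * a, hsq a⟩ : W) = s₁
    generalize (⟨b * b, hsq b⟩ : W) = s₂
    generalize (⟨c * c, hsq c⟩ : W) = s₃
    calc _ = (p₁ * p₁) * (p₂ * p₂) * (p₃ * p₃) * ((s₁ * s₁) * (s₁ * s₁)) *
          ((s₂ * s₂) * (s₂ * s₂)) * ((s₃ * s₃) * (s₃ * s₃)) := by ac_rfl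
      _ = 1 := by simp [hself]
  have hσ0 : ∀ u : P ⧸ W, σ u = 1 ↔ u = 1 := fun u => by
    induction u using QuotientGroup.induction_on with | _ g => ?_
    refine ⟨fun h => (QuotientGroup.eq_one_iff _).2 (mem_omega_of_sq hR (congrArg Subtype.val h)),
      fun h => Subtype.ext ?_⟩
    exact ((QuotientGroup.eq_one_iff _).1 h).2
  haveI : Fintype (Additive (P ⧸ W)) := Fintype.ofFinite _
  have hle : d ≤ 2 * n := card_le_of_anisotropic (V := Additive (P ⧸ W))
    (by rw [← Nat.card_eq_fintype_card]; exact hd)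
    (fun v => coord (Additive.ofMul (σ (Additive.toMul v))))
    (fun v => by
      rw [LinearEquiv.map_eq_zero_iff, ofMul_eq_zero, hσ0]
      exact toMul_eq_one)
    (fun u v w => by
      simp only [← map_add, ← ofMul_mul, toMul_add, hσ3, ofMul_one, map_zero])
  -- `n ∣ d`
  have hdpos : 0 < d := by
    refine Nat.pos_of_ne_zero fun h => ?_
    obtain ⟨x, y, hxy⟩ := hna
    rw [h, pow_zero, Nat.card_eq_one_iff_unique] at hd
    obtain ⟨hs, -⟩ := hd
    have hx : x ∈ W := (QuotientGroup.eq_one_iff _).1 (Subsingleton.elim (QuotientGroup.mk x : P ⧸ W) 1)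
    exact hxy (Subgroup.mem_center_iff.1 hx.1 y).symm
  let act : MulAction K {u : P ⧸ W // u ≠ 1} :=
    { smul := fun k u => ⟨QuotientGroup.map W W (k : MulAut P).toMonoidHom
          (fun x hx => kInv_omegaCenter _ k.2 x hx) u, by
        obtain ⟨u, hu⟩ := u
        induction u using QuotientGroup.induction_on with | _ g => ?_
        intro h
        refine hu ((QuotientGroup.eq_one_iff g).2 ?_)
        have h' := kInv_omegaCenter _ (k⁻¹).2 _ ((QuotientGroup.eq_one_iff _).1 h)
        simpa using h'⟩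
      one_smul := fun ⟨u, hu⟩ => Subtype.ext (by
        induction u using QuotientGroup.induction_on with | _ g => ?_
        rfl)
      mul_smul := fun k l ⟨u, hu⟩ => Subtype.ext (by
        induction u using QuotientGroup.induction_on with | _ g => ?_
        rfl) }
  have hfree : ∀ u : {u : P ⧸ W // u ≠ 1}, MulAction.stabilizer K u = ⊥ := fun ⟨u, hu⟩ => by
    refine (Subgroup.eq_bot_iff_forall _).2 fun k hk => ?_
    induction u using QuotientGroup.induction_on with | _ g => ?_
    by_contra hk1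
    refine hu ((QuotientGroup.eq_one_iff g).2 ?_)
    have h : (QuotientGroup.mk ((k : MulAut P) g) : P ⧸ W) = QuotientGroup.mk g :=
      congrArg Subtype.val hk
    exact mem_of_coset_fixed hR kInv_omegaCenter k.2 (fun h' => hk1 (Subtype.ext h'))
      (QuotientGroup.eq.1 h.symm)
  have hdvd : 2 ^ n - 1 ∣ 2 ^ d - 1 := by
    have h := Nat.card_congr (MulAction.selfEquivOrbitsQuotientProd hfree)
    rw [Nat.card_prod] at h
    have hu : Nat.card {u : P ⧸ W // u ≠ 1} = 2 ^ d - 1 := by
      rw [Nat.card_eq_fintype_card, Fintype.card_subtype_compl, Fintype.card_subtype_eq,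
        ← Nat.card_eq_fintype_card, hd]
    have hk : Nat.card K = 2 ^ n - 1 := by have := card_K hR; rw [hn] at this; omega
    rw [hu, hk] at h
    exact Dvd.intro_left _ h.symm
  have hn2 : 2 ≤ n := by
    by_contra hlt
    obtain ⟨x, y, hxy, hx1, hx2, hy1, hy2⟩ := h2
    have hWle : Nat.card W ≤ 2 := by
      rw [hn]
      exact (Nat.pow_le_pow_right two_pos (show n ≤ 1 by omega)).trans (by norm_num)
    have h3 : ({⟨1, W.one_mem⟩, ⟨x, mem_omega_of_sq hR hx2⟩, ⟨y, mem_omega_of_sq hR hy2⟩} :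
        Finset W).card = 3 := by
      rw [Finset.card_eq_three]
      exact ⟨_, _, _, fun h => hx1 (congrArg Subtype.val h).symm,
        fun h => hy1 (congrArg Subtype.val h).symm, fun h => hxy (congrArg Subtype.val h), rfl⟩
    haveI : Fintype W := Fintype.ofFinite _
    rw [Nat.card_eq_fintype_card] at hWle
    have := Finset.card_le_univ ({⟨1, W.one_mem⟩, ⟨x, mem_omega_of_sq hR hx2⟩,
      ⟨y, mem_omega_of_sq hR hy2⟩} : Finset W)
    omega
  have hmod : d % n = 0 := by
    have h := Nat.pow_sub_one_mod_pow_sub_one 2 n d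
    rw [Nat.mod_eq_zero_of_dvd hdvd] at h
    by_contra hne
    have : 2 ≤ 2 ^ (d % n) := Nat.le_self_pow hne 2
    omega
  have hcard := Subgroup.card_eq_card_quotient_mul_card_subgroup W
  rw [hd, hn, ← pow_add] at hcard
  rw [hcard, hn, ← pow_mul, ← pow_mul]
  obtain ⟨l, rfl⟩ := Nat.dvd_of_mod_eq_zero hmod
  have hl : l ≤ 2 := by
    by_contra hlt
    have : n * 3 ≤ n * l := Nat.mul_le_mul_left n (by omega)
    omega
  have hl1 : 1 ≤ l := by
    rcases Nat.eq_zero_or_pos l with h | h
    · subst h; omega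
    · exact h
  interval_cases l
  · left; congr 1
  · right; congr 1

end Cfsg.Agent.S1138
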