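import Cfsg.Statements.S1141
import Cfsg.Agent.Lib.Classical.Herm.Apps
import Cfsg.Agent.Lib.SuzukiTwo.Unitary

set_option autoImplicit false
open Cfsg

namespace Cfsg.Agent.S1141

/-- Let `q = 2^n ≥ 4` and `|F| = q²`. A Sylow 2-subgroup `S` of `PSU₃(q)` has order `q³`, its centre has order `q`, and `S` is a Suzuki 2-group. -/
theorem result {F : Type*} [Field F] [Fintype F] {n : ℕ} (hn : 2 ≤ n)
    (hF : Fintype.card F = (2 ^ n) ^ 2) (S : Sylow 2 (Cfsg.PSU 3 F (2 ^ n))) :
    Nat.card S = (2 ^ n) ^ 3 ∧ Nat.card (Subgroup.center ↥(S : Subgroup (Cfsg.PSU 3 F (2 ^ n)))) = 2 ^ n ∧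
      Cfsg.IsSuzukiTwoGroup ↥(S : Subgroup (Cfsg.PSU 3 F (2 ^ n))) := by
  classical
  haveI : Fact (Nat.Prime 2) := ⟨Nat.prime_two⟩
  haveI : CharP F 2 := by
    obtain ⟨p, hp⟩ := CharP.exists F
    obtain ⟨r, hpr, hcard⟩ := FiniteField.card F p
    rw [hF, ← pow_mul] at hcard
    have h2p : 2 = p :=
      (Nat.prime_dvd_prime_iff_eq Nat.prime_two hpr).1 (Nat.prime_two.dvd_of_dvd_pow (n := r)
        (hcard ▸ dvd_pow_self 2 (by omega)))
    subst h2p
    exact hp
  obtain ⟨q, hq⟩ : ∃ q, q = 2 ^ n := ⟨_, rfl⟩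
  revert S
  rw [← hq] at hF ⊢
  intro S
  have hq4 : 4 ≤ q := by
    rw [hq]; exact le_trans (by norm_num : 4 ≤ 2 ^ 2) (Nat.pow_le_pow_right two_pos hn)
  let H := CfsgLib.Classical.Herm.stdHerm hF 3
  have hB := CfsgLib.Classical.Herm.big_std hF (n := 3) le_rfl
  obtain ⟨e, f, p⟩ := CfsgLib.Classical.Herm.exists_pair_std hF (n := 3) le_rfl
  obtain ⟨y, hye, hyf, hyy⟩ := CfsgLib.Classical.Herm.exists_unit_orth hB p
  have hfix : Nat.card {a : F // H.conj a = a} = q := by
    rw [← CfsgLib.Classical.Herm.card_fixedField hF]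
    exact Nat.card_congr (Equiv.subtypeEquivRight fun a => CfsgLib.Classical.Herm.mem_fixedField.symm)
  let U := CfsgLib.SuzukiTwo.UnitaryPair H.conj H.conj_conj
  have cond : ∀ u : U, CfsgLib.Classical.Herm.RootCond H e (u.fst • y) u.snd := fun u =>
    ⟨p.1, by rw [H.smul_left, hye, mul_zero], by
      rw [H.smul_left, H.smul_right, hyy, mul_one]; exact u.cond⟩
  let r : U →* (CfsgLib.Classical.Herm.detHom H).ker :=
    MonoidHom.mk' (fun u => ⟨CfsgLib.Classical.Herm.root H e (u.fst • y) u.snd (cond u),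
        MonoidHom.mem_ker.2 (CfsgLib.Classical.Herm.detHom_root _)⟩)
      (fun u v => Subtype.ext (by
        show _ = CfsgLib.Classical.Herm.root H e _ _ (cond u) * CfsgLib.Classical.Herm.root H e _ _ (cond v)
        rw [CfsgLib.Classical.Herm.root_mul]
        refine CfsgLib.Classical.Herm.root_congr (cond _) _ rfl (add_smul _ _ _) ?_
        rw [CfsgLib.SuzukiTwo.UnitaryPair.mul_snd, H.smul_left, H.smul_right, hyy, mul_one]))
  have hrinj : Function.Injective r := by
    rw [injective_iff_map_eq_one]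
    intro u hu
    have h1 : (CfsgLib.Classical.Herm.root H e (u.fst • y) u.snd (cond u)).1 f = f :=
      congrArg (fun g : (CfsgLib.Classical.Herm.detHom H).ker => g.1.1 f) hu
    rw [CfsgLib.Classical.Herm.root_apply, p.2.2, one_smul, H.smul_right, H.h_comm_zero hyf, mul_zero,
      neg_zero, zero_add, mul_one, add_assoc] at h1
    have h2 : u.fst • y + u.snd • e = 0 := add_eq_left.1 h1
    have h3 := congrArg (fun v => H.h v y) h2
    simp only [H.add_left, H.smul_left, H.h_comm_zero hye, show H.h y y = 1 from hyy, H.zero_left,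
      mul_one, mul_zero, add_zero] at h3
    rw [h3, zero_smul, zero_add, smul_eq_zero] at h2
    exact CfsgLib.SuzukiTwo.UnitaryPair.ext h3 (h2.resolve_right p.left_ne_zero)
  have hUcard := CfsgLib.SuzukiTwo.UnitaryPair.card_unitaryPair H.conj H.conj_conj hF hfix
  have hqne : q ^ 3 ≠ 0 := by positivity
  haveI : Finite U := Nat.finite_of_card_ne_zero (by rw [hUcard]; exact hqne)
  let ψ : U →* Cfsg.PSU 3 F q := (QuotientGroup.mk' _).comp
    ((CfsgLib.Classical.Herm.suEquiv hF 3).symm.toMonoidHom.comp r)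
  have hqeven : Even q := hq ▸ (Nat.even_pow' (by omega)).2 even_two
  have hψ : Function.Injective ψ := by
    rw [injective_iff_map_eq_one]
    intro u hu
    have hmem : (CfsgLib.Classical.Herm.suEquiv hF 3).symm (r u) ∈ Subgroup.center (Cfsg.SU 3 F q) :=
      (QuotientGroup.eq_one_iff _).1 hu
    apply hrinj
    rw [map_one]
    refine (CfsgLib.Classical.Herm.suEquiv hF 3).symm.injective ?_
    rw [map_one, ← orderOf_eq_one_iff]
    have hd1 : orderOf ((CfsgLib.Classical.Herm.suEquiv hF 3).symm (r u)) ∣ q ^ 3 := by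
      rw [← hUcard]
      exact (orderOf_map_dvd ((CfsgLib.Classical.Herm.suEquiv hF 3).symm.toMonoidHom.comp r) u).trans
        (orderOf_dvd_natCard u)
    have hd2 : orderOf ((CfsgLib.Classical.Herm.suEquiv hF 3).symm (r u)) ∣ Nat.gcd 3 (q + 1) := by
      rw [← CfsgLib.Classical.Herm.card_center_su' hF (n := 3) (by omega)]
      exact Subgroup.orderOf_dvd_natCard _ hmem
    refine Nat.eq_one_of_dvd_coprimes ?_ hd1 (hd2.trans (Nat.gcd_dvd_right 3 (q + 1)))
    exact Nat.Coprime.pow_left _ (Nat.coprime_self_add_right.2 (Nat.coprime_one_right q))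
  have hψcard : Nat.card ψ.range = 2 ^ (Nat.card (Cfsg.PSU 3 F q)).factorization 2 := by
    rw [Nat.card_congr (MonoidHom.ofInjective hψ).symm.toEquiv, hUcard, hq, ← pow_mul]
    congr 1
    have h := CfsgLib.Classical.Herm.card_psu hF (n := 3) (by omega)
    simp only [Finset.prod_range_succ, Finset.prod_range_zero, one_mul] at h
    norm_num [-Nat.card_eq_fintype_card] at h
    have hne : ∀ k : ℕ, Odd k → k ≠ 0 := by rintro k hk rfl; simp at hk
    have hodd : ∀ k : ℕ, Odd k → k.factorization 2 = 0 := fun k hk =>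
      Nat.factorization_eq_zero_of_not_dvd hk.not_two_dvd_nat
    have h1 : Odd (Nat.gcd 3 (q + 1)) := Odd.of_dvd_nat (by decide) (Nat.gcd_dvd_left _ _)
    have h2 : Odd (q + 1) := hqeven.add_one
    have h3 : Odd (q ^ 2 - 1) :=
      Nat.Even.sub_odd (Nat.one_le_pow _ _ (by omega)) (hqeven.pow_of_ne_zero two_ne_zero) odd_one
    have h4 : Odd (q ^ 3 + 1) := (hqeven.pow_of_ne_zero (by norm_num)).add_one
    have hP : Nat.card (Cfsg.PSU 3 F q) ≠ 0 := Nat.card_pos.ne'
    have h' := congrArg (fun k : ℕ => k.factorization 2) h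
    beta_reduce at h'
    rw [Nat.factorization_mul (hne _ h1) (mul_ne_zero (hne _ h2) hP),
      Nat.factorization_mul (hne _ h2) hP,
      Nat.factorization_mul hqne (mul_ne_zero (mul_ne_zero (hne _ h2) (hne _ h3)) (hne _ h4)),
      Nat.factorization_mul (mul_ne_zero (hne _ h2) (hne _ h3)) (hne _ h4),
      Nat.factorization_mul (hne _ h2) (hne _ h3)] at h'
    simp only [Finsupp.add_apply, hodd _ h1, hodd _ h2, hodd _ h3, hodd _ h4, zero_add, add_zero] at h'
    rw [hq, ← pow_mul, Nat.Prime.factorization_pow Nat.prime_two, Finsupp.single_eq_same] at h'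
    omega
  let S₀ : Sylow 2 (Cfsg.PSU 3 F q) := Sylow.ofCard ψ.range hψcard
  let E : U ≃* ↥(S : Subgroup (Cfsg.PSU 3 F q)) :=
    (MonoidHom.ofInjective hψ).trans (S₀.equiv S)
  refine ⟨(Nat.card_congr E.toEquiv).symm.trans hUcard, ?_, ?_⟩
  · exact (Nat.card_congr (Subgroup.centerCongr E).toEquiv).symm.trans
      (CfsgLib.SuzukiTwo.UnitaryPair.card_center H.conj H.conj_conj hF hfix H.conj_ne)
  · exact CfsgLib.SuzukiTwo.isSuzukiTwoGroup_of_mulEquiv E
      (CfsgLib.SuzukiTwo.UnitaryPair.isSuzukiTwoGroup H.conj H.conj_conj hF hfix H.conj_ne hn hq)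
end Cfsg.Agent.S1141
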