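import Cfsg.Statements.S1142
import Cfsg.Agent.Lib.FeitHigman.Odd
import Cfsg.Agent.Lib.FeitHigman.Rational
import Cfsg.Agent.Lib.FeitHigman.Hecke

set_option autoImplicit false
open Cfsg

namespace Cfsg.Agent.S1142

/-- Feit–Higman: if a finite group has a (B,N)-pair of rank 2, its Weyl group `N/(B ⊓ N)` has order 4, 6, 8, 12 or 16. -/
theorem result {G : Type*} [Group G] [Finite G] (P : Cfsg.BNPair G)
    (h2 : P.rank = 2) :
    ((P.B ⊓ P.N).subgroupOf P.N).index ∈ ({4, 6, 8, 12, 16} : Set ℕ) := by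
  classical
  haveI : Fintype (G ⧸ P.B) := Fintype.ofFinite _
  haveI : DecidableEq (CfsgLib.BN.Weyl P) := Classical.decEq _
  -- the two generators
  obtain ⟨i, j, hij, huniv⟩ := Nat.card_eq_two_iff.1 (show Nat.card P.S = 2 from h2)
  have hS : ∀ x : P.S, x = i ∨ x = j := fun x => by
    have hx : x ∈ ({i, j} : Set P.S) := huniv ▸ Set.mem_univ x
    simpa using hx
  have hidx : ((P.B ⊓ P.N).subgroupOf P.N).index =
      2 * orderOf (CfsgLib.BN.sgen P i * CfsgLib.BN.sgen P j) :=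
    CfsgLib.FeitHigman.card_weyl P hij hS
  rw [hidx]
  set n := orderOf (CfsgLib.BN.sgen P i * CfsgLib.BN.sgen P j) with hn
  set A := CfsgLib.FeitHigman.T P (CfsgLib.BN.sgen P i) with hA
  set B := CfsgLib.FeitHigman.T P (CfsgLib.BN.sgen P j) with hB
  set q := CfsgLib.FeitHigman.param P i with hqdef
  set r := CfsgLib.FeitHigman.param P j with hrdef
  let S : CfsgLib.FeitHigman.Quad (Matrix (G ⧸ P.B) (G ⧸ P.B) ℝ) :=
    ⟨A, B, q, r, CfsgLib.FeitHigman.T_sq P i, CfsgLib.FeitHigman.T_sq P j⟩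
  have hq := CfsgLib.FeitHigman.two_le_param P i
  have hr := CfsgLib.FeitHigman.two_le_param P j
  have hAT : A.transpose = A := by
    rw [hA, CfsgLib.FeitHigman.T_transpose, CfsgLib.BN.sgen_inv]
  have hBT : B.transpose = B := by
    rw [hB, CfsgLib.FeitHigman.T_transpose, CfsgLib.BN.sgen_inv]
  have hn' : orderOf (CfsgLib.BN.sgen P j * CfsgLib.BN.sgen P i) = n :=
    CfsgLib.FeitHigman.orderOf_mul_comm' (CfsgLib.BN.sgen_sq P i) (CfsgLib.BN.sgen_sq P j)
  have htA : ∀ k, 1 ≤ k → k ≤ n → (CfsgLib.FeitHigman.alt A B k).trace = 0 :=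
    fun k h1 h2 => CfsgLib.FeitHigman.trace_alt_T P hij hS h1 h2
  have htB : ∀ k, 1 ≤ k → k ≤ n → (CfsgLib.FeitHigman.alt B A k).trace = 0 :=
    fun k h1 h2 => CfsgLib.FeitHigman.trace_alt_T P hij.symm (fun x => (hS x).symm) h1
      (h2.trans hn'.ge)
  have hbr : CfsgLib.FeitHigman.alt A B n = CfsgLib.FeitHigman.alt B A n :=
    CfsgLib.FeitHigman.braid_T P hij hS
  have hN : 0 < Fintype.card (G ⧸ P.B) := Fintype.card_pos
  have hnpos : 0 < n := orderOf_pos _
  have hn1 : n ≠ 1 := by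
    intro h
    have e := orderOf_eq_one_iff.1 (hn ▸ h)
    refine hij (CfsgLib.BN.sgen_inj P ?_)
    rw [mul_eq_one_iff_eq_inv.1 e, CfsgLib.BN.sgen_inv]
  have hq1 : (1 : ℝ) < S.q := by show (1 : ℝ) < (q : ℕ); exact_mod_cast hq
  rcases Nat.even_or_odd' n with ⟨d, hd | hd⟩
  · obtain ⟨m, rfl⟩ : ∃ m, d = m + 1 := ⟨d - 1, by omega⟩
    have hbr' : (A * B) ^ (m + 1) = (B * A) ^ (m + 1) := by
      rw [← CfsgLib.FeitHigman.alt_two_mul, ← CfsgLib.FeitHigman.alt_two_mul, ← hd, hbr]
    have hres := CfsgLib.FeitHigman.even_restrict (q := q) (r := r) hq hr hN (m := m)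
      fun k h1 h2 => CfsgLib.FeitHigman.even_formula S hAT hBT hq1
        (show (1 : ℝ) < (r : ℕ) by exact_mod_cast hr) hbr'
        (fun k h1 h2 => htA k h1 (h2.trans hd.ge)) (fun k h1 h2 => htB k h1 (h2.trans hd.ge)) h1 h2
    simp only [Set.mem_insert_iff, Set.mem_singleton_iff] at hres ⊢
    omega
  · obtain ⟨h₀, rfl⟩ : ∃ h₀, d = h₀ + 1 := ⟨d - 1, by omega⟩
    -- the two parameters agree
    set M := CfsgLib.FeitHigman.alt A B n with hM
    have hM1 : M = A * (B * A) ^ (h₀ + 1) := by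
      rw [hM, hd, CfsgLib.FeitHigman.alt_two_mul_succ]
    have hM2 : M = B * (A * B) ^ (h₀ + 1) := by
      rw [hbr, hd, CfsgLib.FeitHigman.alt_two_mul_succ]
    have hMA : M * A = B * M := by
      conv_lhs => rw [hM2]
      conv_rhs => rw [hM1]
      have e : ∀ k : ℕ, (A * B) ^ k * A = A * (B * A) ^ k := by
        intro k
        induction k with
        | zero => simp
        | succ k ih => rw [pow_succ', mul_assoc, ih, pow_succ']; simp only [mul_assoc]
      rw [mul_assoc, e]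
    have hA2 : A * A = ((q : ℝ) - 1) • A + (q : ℝ) • 1 := CfsgLib.FeitHigman.T_sq P i
    have hB2 : B * B = ((r : ℝ) - 1) • B + (r : ℝ) • 1 := CfsgLib.FeitHigman.T_sq P j
    have hBB : B * B * M = (((q : ℝ) - 1) • B + (q : ℝ) • 1) * M := by
      rw [mul_assoc, ← hMA, ← mul_assoc, ← hMA, mul_assoc, hA2]
      simp only [mul_add, add_mul, mul_smul_comm, smul_mul_assoc, mul_one, one_mul, hMA]
    rw [hB2] at hBB
    have hcancel : ∀ (k : ℕ) (C D X : Matrix (G ⧸ P.B) (G ⧸ P.B) ℝ),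
        (∀ Z, Z * C = 0 → Z = 0) → (∀ Z, Z * D = 0 → Z = 0) →
        X * CfsgLib.FeitHigman.alt C D k = 0 → X = 0 := by
      intro k
      induction k with
      | zero => intro C D X _ _ h; simpa [CfsgLib.FeitHigman.alt] using h
      | succ k ih =>
        intro C D X hC hD h
        refine hC X (ih D C (X * C) hD hC ?_)
        rw [mul_assoc]
        exact h
    have inj : ∀ (C : Matrix (G ⧸ P.B) (G ⧸ P.B) ℝ) (c : ℝ), c ≠ 0 →
        C * C = (c - 1) • C + c • 1 → ∀ Z, Z * C = 0 → Z = 0 := by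
      intro C c hc hC Z hZ
      have h1 : Z * (C * C) = 0 := by rw [← mul_assoc, hZ, zero_mul]
      rw [hC, mul_add, mul_smul_comm, hZ, smul_zero, zero_add, mul_smul_comm, mul_one] at h1
      exact (smul_eq_zero.1 h1).resolve_left hc
    have hqr : (r : ℝ) = q := by
      have h0 : (((r : ℝ) - q) • B + ((r : ℝ) - q) • (1 : Matrix (G ⧸ P.B) (G ⧸ P.B) ℝ)) = 0 := by
        apply hcancel n A B _ (inj A q (by positivity) hA2) (inj B r (by positivity) hB2)
        rw [← hM]
        rw [← sub_eq_zero, ← sub_mul] at hBB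
        rw [← hBB]
        congr 1
        module
      have ht := congrArg Matrix.trace h0
      have hBt : B.trace = 0 := by
        have := htB 1 le_rfl hnpos
        simpa [CfsgLib.FeitHigman.alt] using this
      rw [Matrix.trace_add, Matrix.trace_smul, Matrix.trace_smul, hBt, smul_zero, zero_add,
        Matrix.trace_one, Matrix.trace_zero, smul_eq_mul] at ht
      rcases mul_eq_zero.1 ht with h | h
      · linarith
      · exact absurd h (by exact_mod_cast hN.ne')
    have hres := CfsgLib.FeitHigman.odd_restrict (q := q) hq hN (h₀ := h₀)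
      (CfsgLib.FeitHigman.odd_formula S hAT hBT hq1 hqr (hd ▸ hbr)
        (fun k h1 h2 => htA k h1 (h2.trans hd.ge)) (fun k h1 h2 => htB k h1 (h2.trans hd.ge))
        le_rfl (Nat.le_add_left 1 h₀))
    simp only [Set.mem_insert_iff, Set.mem_singleton_iff]
    omega
end Cfsg.Agent.S1142
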