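import Cfsg.Statements.S1151
import Cfsg.Agent.Lib.ReeG2.Sylow

set_option autoImplicit false
open Cfsg

namespace Cfsg.Agent.S1151

/-- In the small Ree group ²G₂(q), q = 3^(2m+1), realised as G¹ inside the Chevalley group G₂ over the field with q elements (θ the 3^m-th power map), with H¹ = G¹ ∩ H and U¹ = G¹ ∩ U the intersections with the ambient diagonal and positive unipotent subgroups: `H¹` has exactly `(q - 1)/2` elements of odd order, and each non-identity one centralises no non-identity element of `U¹`. -/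
theorem result {K : Type*} [Field K] [Fintype K] {m : ℕ} (hK : Fintype.card K = 3 ^ (2 * m + 1)) :
    2 * Nat.card {h : ↥(Cfsg.Lie.chevG2.diagonalSubgroup K ⊓ Cfsg.Lie.twistedG2 K (3 ^ m)) // Odd (orderOf h)} = 3 ^ (2 * m + 1) - 1 ∧
      ∀ h ∈ (Cfsg.Lie.chevG2.diagonalSubgroup K ⊓ Cfsg.Lie.twistedG2 K (3 ^ m)), h ≠ 1 → Odd (orderOf h) →
        (Cfsg.Lie.chevG2.posUnipotent K ⊓ Cfsg.Lie.twistedG2 K (3 ^ m)) ⊓ Subgroup.centralizer {h} = ⊥ := by
  obtain ⟨_, θ, hθ, he⟩ := CfsgLib.ReeG2.exists_theta hK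
  rw [CfsgLib.ReeG2.model hθ he]
  obtain ⟨k, hk, hodd⟩ : ∃ k, 3 ^ (2 * m + 1) - 1 = 2 * k ∧ Odd k := by
    have h4 : 3 ^ (2 * m + 1) % 4 = 3 := by
      rw [pow_succ, pow_mul, Nat.mul_mod, Nat.pow_mod]; norm_num
    exact ⟨(3 ^ (2 * m + 1) - 1) / 2, by omega, Nat.odd_iff.2 (by omega)⟩
  refine ⟨by rw [← hK]; exact CfsgLib.ReeG2.card_odd_order hθ (hK ▸ hk) hodd, fun h hh h1 hodd' => ?_⟩
  rw [CfsgLib.ReeG2.diag_inf_fix hθ] at hh
  obtain ⟨a, rfl⟩ := hh
  refine CfsgLib.ReeG2.centralizer_hh hθ (fun e => h1 (by rw [e, map_one])) fun e => ?_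
  rw [orderOf_injective _ CfsgLib.ReeG2.hHom_injective, e] at hodd'
  have h2 : (-1 : Kˣ) ^ 2 = 1 := neg_one_sq
  have : orderOf (-1 : Kˣ) = 1 := by
    rcases (Nat.dvd_prime Nat.prime_two).1 (orderOf_dvd_of_pow_eq_one h2) with g | g
    · exact g
    · rw [g] at hodd'; exact absurd hodd' (by decide)
  rw [orderOf_eq_one_iff] at this
  exact h1 (by rw [e, this, map_one])
end Cfsg.Agent.S1151
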