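import Cfsg.Statements.S1157
import Cfsg.Agent.Lib.ReeG2.Invol

set_option autoImplicit false
open Cfsg

namespace Cfsg.Agent.S1157

/-- In the small Ree group ²G₂(q), q = 3^(2m+1) with m ≥ 1, realised as G¹ inside the Chevalley group G₂ over the field with q elements (θ the 3^m-th power map): a Sylow 2-subgroup `S` of `G¹` satisfies `C(S) = S` and `|N(S)| = 168`. -/
theorem result {K : Type*} [Field K] [Fintype K] {m : ℕ} (hm : 1 ≤ m) (hK : Fintype.card K = 3 ^ (2 * m + 1))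
    (S : Sylow 2 ↥(Cfsg.Lie.twistedG2 K (3 ^ m))) :
    Subgroup.centralizer ((S : Subgroup ↥(Cfsg.Lie.twistedG2 K (3 ^ m))) : Set ↥(Cfsg.Lie.twistedG2 K (3 ^ m))) = S ∧
      Nat.card (Subgroup.normalizer ((S : Subgroup ↥(Cfsg.Lie.twistedG2 K (3 ^ m))) : Set ↥(Cfsg.Lie.twistedG2 K (3 ^ m)))) = 168 := by
  have key : ∀ G : Subgroup (GL Cfsg.Lie.chevG2.Idx K), G = Cfsg.Lie.twistedG2 K (3 ^ m) →
      ∀ S : Sylow 2 ↥G, Subgroup.centralizer ((S : Subgroup ↥G) : Set ↥G) = S ∧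
        Nat.card (Subgroup.normalizer ((S : Subgroup ↥G) : Set ↥G)) = 168 := by
    intro G hG
    obtain ⟨_, θ, hθ, he⟩ := CfsgLib.ReeG2.exists_theta hK
    rw [CfsgLib.ReeG2.model hθ he] at hG
    subst hG
    have hq8 : Fintype.card K % 8 = 3 := by
      rw [hK, pow_succ, pow_mul, Nat.mul_mod, Nat.pow_mod]; norm_num
    exact fun S => ⟨CfsgLib.ReeG2.sylow_two_cent hθ hq8 S, CfsgLib.ReeG2.sylow_two_normalizer hθ hq8 S⟩
  exact key _ rfl S
end Cfsg.Agent.S1157
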