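import Cfsg.Statements.S1158
import Cfsg.Agent.Lib.ReeG2.Singer

set_option autoImplicit false
open Cfsg

namespace Cfsg.Agent.S1158

/-- In the small Ree group ²G₂(q), q = 3^(2m+1) with m ≥ 1, realised as G¹ inside the Chevalley group G₂ over the field with q elements (θ the 3^m-th power map), with `r = 3^(m+1)` (so `r² = 3q`): for each `k ∈ {(q-1)/2, (q+1)/4, q - r + 1, q + r + 1}` there is a cyclic subgroup `A` of order `k` whose normaliser has order `2(q-1)`, `6(q+1)`, `6(q-r+1)`, `6(q+r+1)` respectively, and `N(A₀) = N(A)` for every non-trivial `A₀ ≤ A`. -/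
theorem result {K : Type*} [Field K] [Fintype K] {m : ℕ} (hm : 1 ≤ m) (hK : Fintype.card K = 3 ^ (2 * m + 1)) :
    ∀ kn ∈ ({((3 ^ (2 * m + 1) - 1) / 2, 2 * (3 ^ (2 * m + 1) - 1)), ((3 ^ (2 * m + 1) + 1) / 4, 6 * (3 ^ (2 * m + 1) + 1)),
        (3 ^ (2 * m + 1) - 3 ^ (m + 1) + 1, 6 * (3 ^ (2 * m + 1) - 3 ^ (m + 1) + 1)),
        (3 ^ (2 * m + 1) + 3 ^ (m + 1) + 1, 6 * (3 ^ (2 * m + 1) + 3 ^ (m + 1) + 1))} : Set (ℕ × ℕ)),
      ∃ A : Subgroup ↥(Cfsg.Lie.twistedG2 K (3 ^ m)), IsCyclic A ∧ Nat.card A = kn.1 ∧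
        Nat.card (Subgroup.normalizer (A : Set ↥(Cfsg.Lie.twistedG2 K (3 ^ m)))) = kn.2 ∧
        ∀ A₀ : Subgroup ↥(Cfsg.Lie.twistedG2 K (3 ^ m)), A₀ ≤ A → A₀ ≠ ⊥ →
          Subgroup.normalizer (A₀ : Set ↥(Cfsg.Lie.twistedG2 K (3 ^ m))) = Subgroup.normalizer (A : Set ↥(Cfsg.Lie.twistedG2 K (3 ^ m))) := by
  have key : ∀ G : Subgroup (GL Cfsg.Lie.chevG2.Idx K), G = Cfsg.Lie.twistedG2 K (3 ^ m) →
      ∀ kn ∈ ({((3 ^ (2 * m + 1) - 1) / 2, 2 * (3 ^ (2 * m + 1) - 1)), ((3 ^ (2 * m + 1) + 1) / 4, 6 * (3 ^ (2 * m + 1) + 1)),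
          (3 ^ (2 * m + 1) - 3 ^ (m + 1) + 1, 6 * (3 ^ (2 * m + 1) - 3 ^ (m + 1) + 1)),
          (3 ^ (2 * m + 1) + 3 ^ (m + 1) + 1, 6 * (3 ^ (2 * m + 1) + 3 ^ (m + 1) + 1))} : Set (ℕ × ℕ)),
        ∃ A : Subgroup ↥G, IsCyclic A ∧ Nat.card A = kn.1 ∧
          Nat.card (Subgroup.normalizer (A : Set ↥G)) = kn.2 ∧
          ∀ A₀ : Subgroup ↥G, A₀ ≤ A → A₀ ≠ ⊥ →
            Subgroup.normalizer (A₀ : Set ↥G) = Subgroup.normalizer (A : Set ↥G) := by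
    intro G hG
    obtain ⟨_, θ, hθ, he⟩ := CfsgLib.ReeG2.exists_theta hK
    rw [CfsgLib.ReeG2.model hθ he] at hG
    subst hG
    have hq8 : Fintype.card K % 8 = 3 := by
      rw [hK, pow_succ, pow_mul, Nat.mul_mod, Nat.pow_mod]; norm_num
    have hq : 3 < Fintype.card K := by
      rw [hK]
      calc 3 < 3 ^ 3 := by norm_num
        _ ≤ 3 ^ (2 * m + 1) := Nat.pow_le_pow_right (by norm_num) (by omega)
    have hr : (3 ^ (m + 1)) * (3 ^ (m + 1)) = 3 * Fintype.card K := by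
      rw [hK, ← pow_add, ← pow_succ']; congr 1; omega
    obtain ⟨A, B, hA, hB, hcA, hcB, hNA, hNB, -⟩ := CfsgLib.ReeG2.singer_tori_r hθ hq8 hq hr
    intro kn hkn
    rw [← hK] at hkn
    simp only [Set.mem_insert_iff, Set.mem_singleton_iff] at hkn
    rcases hkn with rfl | rfl | rfl | rfl
    · exact CfsgLib.ReeG2.split_torus hθ hq8 hq
    · exact CfsgLib.ReeG2.circle_torus hθ hq8 hq
    · exact ⟨A, (hA.comm hθ hq8).1, hcA, by rw [hNA, hcA], fun A₀ => hA.normalizer_sub hθ hq8⟩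
    · exact ⟨B, (hB.comm hθ hq8).1, hcB, by rw [hNB, hcB], fun A₀ => hB.normalizer_sub hθ hq8⟩
  exact key _ rfl
end Cfsg.Agent.S1158
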