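import Cfsg.Statements.S1167
import Cfsg.Agent.Lib.ZassAbelian.Bound
import Cfsg.Agent.Lib.ZassAbelian.Main

set_option autoImplicit false
open Cfsg

namespace Cfsg.Agent.S1167

/-- Let `G` be a finite simple Zassenhaus group on `Ω`, `U` a normal subgroup of `G_a` regular on `Ω` minus `a` which is an abelian 2-group, and `v` an involution with `v • a ≠ a`. Then there is a unique `u₀ ∈ U`, `u₀ ≠ 1`, with `v u₀ v = u₀ v u₀`. -/
theorem result {G Ω : Type*} [Group G] [Finite G] [MulAction G Ω] [Finite Ω]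
    (hZ : Cfsg.IsZassenhausGroup G Ω) [IsSimpleGroup G] {a : Ω}
    (U : Subgroup G) (hUle : U ≤ MulAction.stabilizer G a)
    (hUn : ∀ h ∈ MulAction.stabilizer G a, ∀ u ∈ U, h * u * h⁻¹ ∈ U)
    (hreg : ∀ c d : Ω, c ≠ a → d ≠ a → ∃! u : U, (u : G) • c = d)
    (hU2 : IsPGroup 2 U) (hUab : ∀ u ∈ U, ∀ u' ∈ U, u * u' = u' * u)
    (v : G) (hv1 : v ≠ 1) (hv2 : v * v = 1) (hva : v • a ≠ a) :
    ∃! u₀ : G, u₀ ∈ U ∧ u₀ ≠ 1 ∧ v * u₀ * v = u₀ * v * u₀ := by
  classical
  have hP := CfsgLib.Zass.Pre.of hZ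
  haveI := hP.faithful
  haveI := Fintype.ofFinite Ω
  haveI := hP.finite_group
  set b := v • a with hb
  have hab : a ≠ b := hva.symm
  have vb : v • b = a := by rw [hb, ← mul_smul, hv2, one_smul]
  have hUfix : ∀ k ∈ U, k • a = a := fun k hk => hUle hk
  have hUfree : ∀ k ∈ U, k ≠ 1 → ∀ c : Ω, k • c = c → c = a := by
    intro k hk hk1 c hc
    by_contra hca
    obtain ⟨w, -, huniq⟩ := hreg c c hca hca
    exact hk1 (congrArg Subtype.val ((huniq ⟨k, hk⟩ hc).trans (huniq 1 (one_smul G c)).symm))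
  -- the given subgroup is the kernel
  have hK : CfsgLib.Zass.Pre.IsKernel a U := by
    refine ⟨hUfix, fun g hg k hk => hUn g hg k hk, hUfree, fun y z hy hz => ?_, fun g hg hfix => ?_⟩
    · obtain ⟨w, hw, -⟩ := hreg y z hy hz
      exact ⟨w, w.2, hw⟩
    · obtain ⟨K, hK⟩ := hP.exists_kernel a
      have hgK : g ∈ K := hK.mem g hg hfix
      obtain ⟨w, hw, -⟩ := hreg b (g • b) hab.symm fun h => hab.symm (MulAction.injective g (h.trans hg.symm))
      have hwK : (w : G) ∈ K := by
        by_cases h1 : (w : G) = 1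
        · rw [h1]; exact K.one_mem
        · exact hK.mem _ (hUfix _ w.2) fun c hc => hUfree _ w.2 h1 c hc
      rw [← hK.inj hab.symm hwK hgK hw]
      exact w.2
  haveI : Fact (Nat.Prime 2) := ⟨Nat.prime_two⟩
  have hcard := hK.card hP
  have hUne : U ≠ ⊥ := by
    intro h
    obtain ⟨c, hca, hcb⟩ := hP.exists_third hab
    obtain ⟨k, hk, hkb⟩ := hK.regular b c hab.symm hca
    rw [h, Subgroup.mem_bot] at hk
    exact hcb (by rw [← hkb, hk, one_smul])
  obtain ⟨m, hm⟩ := IsPGroup.iff_card.1 hU2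
  have hm0 : m ≠ 0 := fun h0 => hUne (Subgroup.card_eq_one.1 (by rw [hm, h0, pow_zero]))
  have hodd : Odd (Fintype.card Ω) := by
    rw [← hcard, hm]
    exact (Nat.even_pow.2 ⟨even_two, hm0⟩).add_one
  -- the two point stabiliser has odd order and is sharply transitive
  set H := MulAction.stabilizer G a ⊓ MulAction.stabilizer G b with hH
  have hHodd : Odd (Nat.card H) := by
    rw [← Nat.not_even_iff_odd, even_iff_two_dvd]
    intro h2
    obtain ⟨g, hg⟩ := exists_prime_orderOf_dvd_card' (G := H) 2 h2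
    have hg1 : (g : G) ≠ 1 := fun h => by
      rw [show g = 1 from Subtype.ext h, orderOf_one] at hg
      omega
    have hgg : (g : G) * g = 1 := by
      have := pow_orderOf_eq_one g
      rw [hg, pow_two] at this
      exact congrArg Subtype.val this
    obtain ⟨c, -, hc⟩ := hP.exists_unique_fix hodd hgg hg1
    exact hab ((hc a g.2.1).trans (hc b g.2.2).symm)
  have hHcard : Nat.card H = Fintype.card Ω - 2 := by
    have h1 := CfsgLib.ZassAbelian.card_sub_two_le hZ hab hK hUab hHodd
    obtain ⟨k, hk⟩ := hP.card_dvd_sub_two hab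
    have h3 := hP.three_le_card
    change Fintype.card Ω - 2 ≤ 2 * Nat.card H at h1
    change Fintype.card Ω - 2 = Nat.card H * k at hk
    obtain ⟨j, hj⟩ := hodd
    obtain ⟨i, hi⟩ := hHodd
    have hk2 : k ≤ 2 := by
      refine Nat.le_of_mul_le_mul_left ?_ (show 0 < Nat.card H from Nat.card_pos)
      rw [← hk, mul_comm]; exact h1
    interval_cases k <;> omega
  -- all non-identity elements of the kernel are involutions
  have hUinv : ∀ k ∈ U, k * k = 1 := by
    intro k hk
    by_cases hk1 : k = 1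
    · rw [hk1, one_mul]
    obtain ⟨i, hi⟩ : ∃ i : U, orderOf i = 2 := exists_prime_orderOf_dvd_card' (G := U) 2 (by
      rw [hm]; exact dvd_pow_self 2 hm0)
    have hi1 : (i : G) ≠ 1 := fun h => by
      rw [show i = 1 from Subtype.ext h, orderOf_one] at hi
      omega
    have hne : ∀ x ∈ U, x ≠ 1 → x • b ≠ a ∧ x • b ≠ b := fun x hx hx1 =>
      ⟨fun h => hab.symm (MulAction.injective x (h.trans (hUfix x hx).symm)),
        fun h => hab.symm (hUfree x hx hx1 b h)⟩
    let f : H → {z : Ω // z ≠ a ∧ z ≠ b} := fun h => ⟨(h : G) • ((i : G) • b),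
      fun e => (hne i i.2 hi1).1 (MulAction.injective (h : G) (e.trans h.2.1.symm)),
      fun e => (hne i i.2 hi1).2 (MulAction.injective (h : G) (e.trans h.2.2.symm))⟩
    have hf : Function.Injective f := by
      intro h h' e
      have e' : (h : G) • ((i : G) • b) = (h' : G) • ((i : G) • b) := congrArg Subtype.val e
      refine Subtype.ext (inv_mul_eq_one.1 (hP.three _ a b ((i : G) • b) hab (hne i i.2 hi1).2.symm
        (hne i i.2 hi1).1.symm ?_ ?_ ?_)).symm
      · rw [mul_smul, show (h : G) • a = a from h.2.1, inv_smul_eq_iff, show (h' : G) • a = a from h'.2.1]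
      · rw [mul_smul, show (h : G) • b = b from h.2.2, inv_smul_eq_iff, show (h' : G) • b = b from h'.2.2]
      · rw [mul_smul, e', inv_smul_smul]
    have hsurj : Function.Surjective f := by
      refine ((Nat.bijective_iff_injective_and_card f).2 ⟨hf, ?_⟩).2
      rw [hHcard, Nat.card_eq_fintype_card, Fintype.card_subtype,
        show (Finset.univ.filter fun z : Ω => z ≠ a ∧ z ≠ b) = Finset.univ \ {a, b} by ext z; simp,
        Finset.card_univ_sdiff, Finset.card_pair hab]
    obtain ⟨h, hh⟩ := hsurj ⟨k • b, hne k hk hk1⟩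
    have hh' : (h : G) • ((i : G) • b) = k • b := congrArg Subtype.val hh
    have hkeq : (h : G) * i * (h : G)⁻¹ = k := by
      refine hK.inj hab.symm (hK.conj_mem _ h.2.1 _ i.2) hk ?_
      rw [mul_smul, mul_smul, show (h : G)⁻¹ • b = b by rw [inv_smul_eq_iff]; exact h.2.2.symm, hh']
    have hii : (i : G) * i = 1 := by
      have := pow_orderOf_eq_one i
      rw [hi, pow_two] at this
      exact congrArg Subtype.val this
    rw [← hkeq, show (h : G) * i * (h : G)⁻¹ * ((h : G) * i * (h : G)⁻¹) = (h : G) * ((i : G) * i) * (h : G)⁻¹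
      by group, hii, mul_one, mul_inv_cancel]
  -- the fixed point of the involution
  obtain ⟨c, hvc, hcuniq⟩ := hP.exists_unique_fix hodd hv2 hv1
  have hca : c ≠ a := fun h => hab (by rw [h, ← hb] at hvc; exact hvc.symm)
  have hcb : c ≠ b := fun h => hab (by rw [h, vb] at hvc; exact hvc)
  obtain ⟨u, hu, hub⟩ := hK.regular b c hab.symm hca
  have hu1 : u ≠ 1 := fun h => hcb (by rw [← hub, h, one_smul])
  have huu := hUinv u hu
  have huinv : u⁻¹ = u := inv_eq_of_mul_eq_one_right huu
  have hvinv : v⁻¹ = v := inv_eq_of_mul_eq_one_right hv2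
  have huc : u • c = b := by rw [← hub, ← mul_smul, huu, one_smul]
  obtain ⟨K', hK'⟩ := hP.exists_kernel b
  have hmemK' : ∀ x : G, x * x = 1 → x • b = b → x ∈ K' := by
    intro x hx hxb
    by_cases hx1 : x = 1
    · rw [hx1]; exact K'.one_mem
    · obtain ⟨d, -, hd⟩ := hP.exists_unique_fix hodd hx hx1
      exact hK'.mem x hxb fun e he => (hd e he).trans (hd b hxb).symm
  refine ⟨u, ⟨hu, hu1, hK'.inj (y := a) hab (hmemK' _ ?_ ?_) (hmemK' _ ?_ ?_) ?_⟩, ?_⟩
  · rw [show v * u * v * (v * u * v) = v * u * (v * v) * u * v by group, hv2, mul_one, mul_assoc v u u,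
      huu, mul_one, hv2]
  · rw [mul_smul, mul_smul, vb, hUfix u hu, ← hb]
  · rw [show u * v * u * (u * v * u) = u * v * (u * u) * v * u by group, huu, mul_one, mul_assoc u v v,
      hv2, mul_one, huu]
  · rw [mul_smul, mul_smul, hub, hvc, huc]
  · rw [mul_smul, mul_smul, ← hb, hub, hvc, mul_smul, mul_smul, hUfix u hu, ← hb, hub]
  · rintro w ⟨hw, hw1, heq⟩
    have h1 : (v * w * v) • a = (w * v * w) • a := by rw [heq]
    rw [mul_smul, mul_smul, ← hb, mul_smul, mul_smul, hUfix w hw, ← hb] at h1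
    exact hK.inj hab.symm hw hu ((hcuniq _ h1).trans hub.symm)

end Cfsg.Agent.S1167
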