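import Cfsg.Statements.S1172
import Cfsg.Agent.Lib.ProdFusion.Closed

set_option autoImplicit false
open Cfsg

namespace Cfsg.Agent.S1172

theorem le_closure_involutions {G : Type*} [Group G] {m : ℕ} (T : Subgroup G)
    (e : T ≃* DihedralGroup m) : T ≤ Subgroup.closure {x : G | x ∈ T ∧ x * x = 1} := by
  intro x hx
  have hsr : ∀ i : ZMod m, ((e.symm (DihedralGroup.sr i) : T) : G) ∈
      Subgroup.closure {x : G | x ∈ T ∧ x * x = 1} := fun i => Subgroup.subset_closure
    ⟨SetLike.coe_mem _, by rw [← Subgroup.coe_mul, ← map_mul, DihedralGroup.sr_mul_self, map_one,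
      Subgroup.coe_one]⟩
  obtain ⟨d, hd⟩ := e.symm.surjective ⟨x, hx⟩
  have hx' : x = ((e.symm d : T) : G) := by rw [hd]
  rw [hx']
  cases d with
  | r i =>
    rw [show DihedralGroup.r i = DihedralGroup.sr 0 * DihedralGroup.sr i by simp, map_mul,
      Subgroup.coe_mul]
    exact mul_mem (hsr 0) (hsr i)
  | sr i => exact hsr i

/-- Let G be a finite group with no nontrivial normal subgroup of odd order and no proper normal subgroup of odd index, whose Sylow 2-subgroup S is not commutative and is the internal direct product of two subgroups each isomorphic to a dihedral group of order at least 4 and each strongly closed in S with respect to G (product fusion). Then G is the internal direct product of two normal subgroups G₁, G₂, and S is the internal direct product of dihedral subgroups R₁ ≤ G₁ and R₂ ≤ G₂ of odd index in G₁ and G₂ respectively (so R_i is a Sylow 2-subgroup of G_i). -/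
theorem result {G : Type*} [Group G] [Finite G] (hO : Cfsg.oddCore G = ⊥) (hO' : ∀ N : Subgroup G, N.Normal → Odd N.index → N = ⊤) (S : Sylow 2 G) (hS : ¬ IsMulCommutative (S : Subgroup G)) (S₁ S₂ : Subgroup G) (hprod : Cfsg.IsInternalDirectProduct S₁ S₂ (S : Subgroup G)) (m₁ m₂ : ℕ) (hm₁ : 2 ≤ m₁) (hm₂ : 2 ≤ m₂) (e₁ : S₁ ≃* DihedralGroup m₁) (e₂ : S₂ ≃* DihedralGroup m₂) (hcl₁ : Cfsg.IsStronglyClosed S₁ (S : Subgroup G)) (hcl₂ : Cfsg.IsStronglyClosed S₂ (S : Subgroup G)) : ∃ G₁ G₂ : Subgroup G, G₁.Normal ∧ G₂.Normal ∧ Cfsg.IsInternalDirectProduct G₁ G₂ ⊤ ∧ ∃ R₁ R₂ : Subgroup G, Cfsg.IsInternalDirectProduct R₁ R₂ (S : Subgroup G) ∧ (∃ n₁, 2 ≤ n₁ ∧ Nonempty (R₁ ≃* DihedralGroup n₁)) ∧ (∃ n₂, 2 ≤ n₂ ∧ Nonempty (R₂ ≃* DihedralGroup n₂)) ∧ R₁ ≤ G₁ ∧ R₂ ≤ G₂ ∧ Odd (R₁.relIndex G₁) ∧ Odd (R₂.relIndex G₂) := by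
  obtain ⟨hdp, h₁, h₂⟩ := CfsgLib.ProdFusion.direct_product hO hcl₁ hcl₂ hprod
    (le_closure_involutions S₁ e₁) (le_closure_involutions S₂ e₂) hO'
  refine ⟨_, _, Subgroup.normalClosure_normal, Subgroup.normalClosure_normal, hdp, S₁, S₂, hprod,
    ⟨m₁, hm₁, ⟨e₁⟩⟩, ⟨m₂, hm₂, ⟨e₂⟩⟩, fun x hx => Subgroup.subset_normalClosure hx,
    fun x hx => Subgroup.subset_normalClosure hx, ?_, ?_⟩
  · have h := CfsgLib.TwoFusion.FusionTools.odd_relIndex_inf (S : Subgroup G)
      (Subgroup.normalClosure (S₁ : Set G)) (CfsgLib.TwoFusion.FusionTools.sylow_index_odd S)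
    rwa [h₁] at h
  · have h := CfsgLib.TwoFusion.FusionTools.odd_relIndex_inf (S : Subgroup G)
      (Subgroup.normalClosure (S₂ : Set G)) (CfsgLib.TwoFusion.FusionTools.sylow_index_odd S)
    rwa [h₂] at h

end Cfsg.Agent.S1172
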