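import Cfsg.Statements.S1176
import Mathlib.GroupTheory.Commutator.Basic
import Cfsg.Agent.Lib.TwoFusion.Isolated

set_option autoImplicit false
open Cfsg
open scoped commutatorElement

namespace Cfsg.Agent.S1176

/-- Let x₀ be an involution of the finite group G and D its conjugacy class. Assume (a) for each x ∈ D the subgroup W(x) generated by the members of D commuting with x is a 2-group of nilpotency class at most 2, and (b) the product of two distinct commuting members of D again lies in D. Then for all x, y ∈ D, if xy has even order greater than 2, its order is 4. -/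
theorem result {G : Type*} [Group G] [Finite G] (x₀ : G) (hx₀ : orderOf x₀ = 2) (ha : ∀ x : G, IsConj x₀ x → IsPGroup 2 ↥(Subgroup.closure {y : G | IsConj x₀ y ∧ Commute y x}) ∧ ⁅⁅Subgroup.closure {y : G | IsConj x₀ y ∧ Commute y x}, Subgroup.closure {y : G | IsConj x₀ y ∧ Commute y x}⁆, Subgroup.closure {y : G | IsConj x₀ y ∧ Commute y x}⁆ = ⊥) (hb : ∀ x y : G, IsConj x₀ x → IsConj x₀ y → x ≠ y → Commute x y → IsConj x₀ (x * y)) (x y : G) (hx : IsConj x₀ x) (hy : IsConj x₀ y) (heven : Even (orderOf (x * y))) (hgt : 2 < orderOf (x * y)) : orderOf (x * y) = 4 := by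
  have hconj2 : ∀ w : G, IsConj x₀ w → orderOf w = 2 := by
    intro w hw
    obtain ⟨c, hc⟩ := isConj_iff.mp hw
    rw [← hc, CfsgLib.TwoFusion.orderOf_conj_eq, hx₀]
  obtain ⟨m, hm⟩ := heven
  have hm' : orderOf (x * y) = m + m := hm
  have hsx := hconj2 x hx
  have hsy := hconj2 y hy
  set z := (x * y) ^ m with hz
  have hzinv : z⁻¹ = z := by
    apply inv_eq_of_mul_eq_one_right
    rw [hz, ← pow_add, ← hm', pow_orderOf_eq_one]
  have hz1 : z ≠ 1 := fun h => by
    have := Nat.le_of_dvd (by omega) (orderOf_dvd_of_pow_eq_one h)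
    omega
  have hcy : Commute y z :=
    mul_inv_eq_iff_eq_mul.mp ((CfsgLib.TwoFusion.inverted_pow
      (CfsgLib.TwoFusion.right_inverts_mul hsy hsx) m).trans hzinv)
  have hcx : Commute x z :=
    mul_inv_eq_iff_eq_mul.mp ((CfsgLib.TwoFusion.inverted_pow
      (CfsgLib.TwoFusion.left_inverts_mul hsy hsx) m).trans hzinv)
  obtain ⟨r, -, hr⟩ := CfsgLib.TwoFusion.exists_conj_pow_mul_eq hsy hsx m
  have hzy : IsConj x₀ (z * y) := by
    rcases hr with hr | hr
    · exact hy.trans (isConj_iff.mpr ⟨r, hr⟩)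
    · exact hx.trans (isConj_iff.mpr ⟨r, hr⟩)
  have hzD : IsConj x₀ z := by
    have hne : z * y ≠ y := fun h => hz1 (mul_eq_right.mp h)
    have h := hb (z * y) y hzy hy hne (Commute.mul_left hcy.symm (Commute.refl y))
    rwa [mul_assoc, CfsgLib.TwoFusion.mul_self_of_orderOf_eq_two hsy, mul_one] at h
  obtain ⟨hp, hcl⟩ := ha z hzD
  set W := Subgroup.closure {w : G | IsConj x₀ w ∧ Commute w z}
  have hxW : x ∈ W := Subgroup.subset_closure ⟨hx, hcx⟩
  have hyW : y ∈ W := Subgroup.subset_closure ⟨hy, hcy⟩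
  have h1 : ⁅⁅x, y⁆, x⁆ = 1 := by
    have := Subgroup.commutator_mem_commutator (Subgroup.commutator_mem_commutator hxW hyW) hxW
    rwa [hcl, Subgroup.mem_bot] at this
  have hc : ⁅x, y⁆ = (x * y) ^ 2 := by
    rw [commutatorElement_def, CfsgLib.TwoFusion.inv_eq_self_of_orderOf_eq_two hsx,
      CfsgLib.TwoFusion.inv_eq_self_of_orderOf_eq_two hsy, pow_two]
    group
  have hinv := CfsgLib.TwoFusion.inverted_pow
    (CfsgLib.TwoFusion.left_inverts_mul hsy hsx) 2
  have h4 : (x * y) ^ 4 = 1 := by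
    rw [commutatorElement_eq_one_iff_mul_comm, hc] at h1
    have h2 : ((x * y) ^ 2)⁻¹ = (x * y) ^ 2 := by
      rw [← hinv, ← h1, mul_inv_cancel_right]
    have h3 : (x * y) ^ 2 * (x * y) ^ 2 = 1 := by
      nth_rewrite 1 [← h2]
      exact inv_mul_cancel _
    rwa [← pow_add] at h3
  have hdvd := orderOf_dvd_of_pow_eq_one h4
  have hle := Nat.le_of_dvd (by norm_num) hdvd
  omega

end Cfsg.Agent.S1176
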