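import Cfsg.Statements.S1177
import Mathlib.Tactic.Group
import Mathlib.Algebra.Group.Subgroup.Finite

set_option autoImplicit false
open Cfsg

namespace Cfsg.Agent.S1177

/-- Let A be a nontrivial elementary abelian 2-subgroup of a finite group G which is a T.I. set (each conjugate of A meets A trivially or equals A) and which does not commute elementwise with any conjugate of A other than A itself. Then for every a ∈ A, a ≠ 1, every conjugate of A contained in C_G(a) is equal to A (A is weakly closed in C_G(a)). -/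
theorem result {G : Type*} [Group G] [Finite G] (A : Subgroup G) (hA : Cfsg.IsElementaryAbelian 2 A) (hA1 : A ≠ ⊥) (hTI : ∀ g : G, A.map (MulAut.conj g).toMonoidHom ⊓ A = ⊥ ∨ A.map (MulAut.conj g).toMonoidHom = A) (hb : ∀ g : G, (∀ a ∈ A, ∀ b ∈ A.map (MulAut.conj g).toMonoidHom, a * b = b * a) → A.map (MulAut.conj g).toMonoidHom = A) (a : G) (ha : a ∈ A) (ha1 : a ≠ 1) (g : G) (hg : A.map (MulAut.conj g).toMonoidHom ≤ Subgroup.centralizer ({a} : Set G)) : A.map (MulAut.conj g).toMonoidHom = A := by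
  classical
  by_contra hne
  set B := A.map (MulAut.conj g).toMonoidHom with hB
  have hAB : B ⊓ A = ⊥ := (hTI g).resolve_right hne
  have hBcomm : ∀ x ∈ B, ∀ y ∈ B, x * y = y * x := by
    rintro _ ⟨x, hx, rfl⟩ _ ⟨y, hy, rfl⟩
    rw [← map_mul, ← map_mul]
    exact congrArg _ (hA.1.is_comm.comm (⟨x, hx⟩ : A) ⟨y, hy⟩ |> congrArg Subtype.val)
  have hAcomm : ∀ x ∈ A, ∀ y ∈ A, x * y = y * x := fun x hx y hy =>
    congrArg Subtype.val (hA.1.is_comm.comm (⟨x, hx⟩ : A) ⟨y, hy⟩)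
  have hBA : ∀ b ∈ B, ∀ x ∈ A, b * x * b⁻¹ ∈ A := by
    intro b hb' x hx
    have hab : b * a = a * b := Subgroup.mem_centralizer_singleton_iff.mp (hg hb')
    have ha2 : a ∈ A.map (MulAut.conj b).toMonoidHom :=
      ⟨a, ha, by simp [hab]⟩
    rcases hTI b with h | h
    · exact absurd (Subgroup.mem_bot.mp (h ▸ ⟨ha2, ha⟩ : a ∈ (⊥ : Subgroup G))) ha1
    · rw [← h]; exact ⟨x, hx, rfl⟩
  have fix : ∀ b ∈ B, b ≠ 1 → ∀ x ∈ A, b * x = x * b → ∀ b' ∈ B, b' * x = x * b' := by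
    intro b hb' hb1 x hx hbx b' hb''
    have hx1 : x * b' * x⁻¹ ∈ B := by
      have hbg : g⁻¹ * b * g ∈ A := by
        obtain ⟨a₀, ha₀, rfl⟩ := hb'
        simpa [mul_assoc] using ha₀
      have hne1 : g⁻¹ * b * g ≠ 1 := fun h => hb1 (by
        calc b = g * (g⁻¹ * b * g) * g⁻¹ := by group
          _ = 1 := by rw [h]; group)
      rcases hTI (g⁻¹ * x * g) with h | h
      · refine absurd ?_ hne1
        rw [← Subgroup.mem_bot, ← h]
        refine ⟨⟨g⁻¹ * b * g, hbg, ?_⟩, hbg⟩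
        calc _ = g⁻¹ * (x * b * x⁻¹) * g := by simp [mul_assoc]
          _ = _ := by rw [← hbx]; group
      · obtain ⟨a', ha', rfl⟩ := hb''
        refine ⟨(g⁻¹ * x * g) * a' * (g⁻¹ * x * g)⁻¹, ?_, by simp [mul_assoc]⟩
        rw [← h]; exact ⟨a', ha', by simp; group⟩
    have hmem : x * b' * x⁻¹ * b'⁻¹ ∈ B ⊓ A := by
      refine ⟨B.mul_mem hx1 (B.inv_mem hb''), ?_⟩
      have : x * b' * x⁻¹ * b'⁻¹ = x * (b' * x⁻¹ * b'⁻¹) := by group
      rw [this]
      exact A.mul_mem hx (hBA b' hb'' _ (A.inv_mem hx))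
    rw [hAB, Subgroup.mem_bot, mul_inv_eq_one, mul_inv_eq_iff_eq_mul] at hmem
    exact hmem.symm
  -- an element of `A` not centralized by `B`
  obtain ⟨x, hx, b₀, hb₀, hbx⟩ : ∃ x ∈ A, ∃ b₀ ∈ B, b₀ * x ≠ x * b₀ := by
    by_contra h
    push Not at h
    exact hne (hb g fun p hp q hq => (h p hp q hq).symm)
  have hsq : ∀ y ∈ B, y * y = 1 := by
    rintro _ ⟨y, hy, rfl⟩
    rw [← map_mul, ← pow_two, hA.2 y hy, map_one]
  let C : Subgroup G := A ⊓ Subgroup.centralizer (B : Set G)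
  have hCmem : ∀ b ∈ B, b * x * b⁻¹ * x⁻¹ ∈ C := by
    intro b hb'
    have hmA : b * x * b⁻¹ * x⁻¹ ∈ A := A.mul_mem (hBA b hb' x hx) (A.inv_mem hx)
    refine ⟨hmA, Subgroup.mem_centralizer_iff.mpr fun b' hb'' => ?_⟩
    by_cases hb1 : b = 1
    · subst hb1; simp
    refine fix b hb' hb1 _ hmA ?_ b' hb''
    have hbi : b⁻¹ = b := inv_eq_of_mul_eq_one_right (hsq b hb')
    have hxi : x⁻¹ = x := inv_eq_of_mul_eq_one_right (by rw [← pow_two, hA.2 x hx])
    calc b * (b * x * b⁻¹ * x⁻¹) = x * (b⁻¹ * x⁻¹) := by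
          rw [← mul_assoc, ← mul_assoc, ← mul_assoc, hsq b hb', one_mul, mul_assoc]
      _ = x * (b * x * b⁻¹) * b := by rw [hxi, hbi, ← mul_assoc, ← mul_assoc, ← mul_assoc,
            mul_assoc _ b b, hsq b hb', mul_one]
      _ = b * x * b⁻¹ * x⁻¹ * b := by rw [hAcomm x hx _ (hBA b hb' x hx), hxi]
  have hinj : Function.Injective (fun b : B => (⟨(b : G) * x * (b : G)⁻¹ * x⁻¹,
      hCmem b b.2⟩ : C)) := by
    rintro ⟨p, hp⟩ ⟨q, hq⟩ h
    have h' : p * x * p⁻¹ = q * x * q⁻¹ := mul_right_cancel (congrArg Subtype.val h)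
    by_contra hpq
    have h2 : q⁻¹ * p * x = x * (q⁻¹ * p) :=
      calc q⁻¹ * p * x = q⁻¹ * (p * x * p⁻¹) * p := by group
        _ = x * (q⁻¹ * p) := by rw [h']; group
    have h3 : q⁻¹ * p ≠ 1 := fun h4 => hpq (Subtype.ext (inv_mul_eq_one.mp h4).symm)
    exact hbx (fix _ (B.mul_mem (B.inv_mem hq) hp) h3 x hx h2 b₀ hb₀)
  have hlt : C < A := lt_of_le_of_ne inf_le_left fun h => hbx <| by
    have hxC : x ∈ C := h ▸ hx
    exact Subgroup.mem_centralizer_iff.mp hxC.2 b₀ hb₀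
  have hcard : Nat.card B = Nat.card A := Subgroup.card_map_of_injective (MulAut.conj g).injective
  have h1 := Nat.card_le_card_of_injective _ hinj
  rw [hcard] at h1
  have h2 : Nat.card C < Nat.card A := lt_of_le_of_ne (Subgroup.card_le_of_le hlt.le)
    fun h => hlt.ne (Subgroup.eq_of_le_of_card_ge hlt.le h.ge)
  omega

end Cfsg.Agent.S1177
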