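import Cfsg.Statements.S1178
import Mathlib.Tactic.Group

set_option autoImplicit false
open Cfsg

namespace Cfsg.Agent.S1178

/-- Let A be a subgroup of a Sylow 2-subgroup S of the finite group G which is weakly closed in S. If a conjugate g A g⁻¹ commutes elementwise with A, then g A g⁻¹ = A. -/
theorem result {G : Type*} [Group G] [Finite G] (S : Sylow 2 G) (A : Subgroup G) (hW : Cfsg.IsWeaklyClosed A (S : Subgroup G)) (g : G) (hc : ∀ a ∈ A, ∀ b ∈ A.map (MulAut.conj g).toMonoidHom, a * b = b * a) : A.map (MulAut.conj g).toMonoidHom = A := by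
  classical
  set B := A.map (MulAut.conj g).toMonoidHom with hB
  have hA2 : IsPGroup 2 A := S.isPGroup'.to_le hW.1
  have hB2 : IsPGroup 2 B := hA2.map _
  have hle : B ≤ Subgroup.normalizer (A : Set G) := by
    intro b hbB
    rw [Subgroup.mem_normalizer_iff]
    intro a
    constructor
    · intro ha
      rwa [← hc a ha b hbB, mul_inv_cancel_right]
    · intro ha
      have h := hc _ ha b⁻¹ (B.inv_mem hbB)
      have h' : a = b * a * b⁻¹ :=
        calc a = b⁻¹ * (b * a * b⁻¹) * b := by group
          _ = _ := by rw [← h, inv_mul_cancel_right]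
      rwa [h']
  have hsup : IsPGroup 2 (B ⊔ A : Subgroup G) := hB2.to_sup_of_normal_right' hA2 hle
  obtain ⟨T, hT⟩ := hsup.exists_le_sylow
  obtain ⟨h, hh⟩ := MulAction.exists_smul_eq G T S
  have key : ∀ k : G, A.map (MulAut.conj k).toMonoidHom ≤ (T : Subgroup G) →
      (A.map (MulAut.conj k).toMonoidHom).map (MulAut.conj h).toMonoidHom = A := by
    intro k hk
    have e : (A.map (MulAut.conj k).toMonoidHom).map (MulAut.conj h).toMonoidHom
        = A.map (MulAut.conj (h * k)).toMonoidHom := by
      rw [Subgroup.map_map]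
      congr 1
      ext x
      simp [mul_assoc]
    rw [e]
    apply hW.2
    rw [← e, ← hh]
    exact Subgroup.map_mono hk
  have h1 : A.map (MulAut.conj (1 : G)).toMonoidHom = A := by ext x; simp
  have hA' := key 1 (h1.symm ▸ le_trans le_sup_right hT)
  have hB' := key g (le_trans le_sup_left hT)
  rw [h1] at hA'
  exact Subgroup.map_injective (MulAut.conj h).injective (hB'.trans hA'.symm)

end Cfsg.Agent.S1178
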