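import Cfsg.Statements.S1183
import Cfsg.Agent.Lib.TwoFusion.IsolatedTransfer

set_option autoImplicit false
open Cfsg

namespace Cfsg.Agent.S1183

/-- Let z be an isolated involution of the finite group G and C = C_G(z). Then the subgroup of G generated by its elements of odd order is all of G if and only if the subgroup of C generated by its elements of odd order is all of C. -/
theorem result {G : Type*} [Group G] [Finite G] (z : G) (hz : Cfsg.IsIsolatedInvolution z) : Cfsg.pResidual 2 G = ⊤ ↔ Cfsg.pResidual 2 ↥(Subgroup.centralizer ({z} : Set G)) = ⊤ := by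
  classical
  have hCmem : ∀ c : G, c ∈ Subgroup.centralizer ({z} : Set G) ↔ Commute c z := fun c => by
    rw [Subgroup.mem_centralizer_singleton_iff]; rfl
  constructor
  · intro hG
    by_contra hne
    set C := Subgroup.centralizer ({z} : Set G) with hC
    set R := Cfsg.pResidual 2 ↥C with hR
    haveI : R.Normal := by
      refine ⟨fun n hn g => ?_⟩
      have hle : R.map (MulAut.conj g).toMonoidHom ≤ R := by
        rw [hR, Cfsg.pResidual, MonoidHom.map_closure, Subgroup.closure_le]
        rintro _ ⟨x, hx, rfl⟩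
        refine Subgroup.subset_closure ?_
        show Nat.Coprime (orderOf (g * x * g⁻¹)) 2
        rw [CfsgLib.TwoFusion.orderOf_conj_eq]
        exact hx
      exact hle ⟨n, hn, rfl⟩
    -- the quotient is a 2-group
    have hQ : IsPGroup 2 (C ⧸ R) := by
      intro q
      obtain ⟨x, rfl⟩ := QuotientGroup.mk_surjective q
      refine ⟨(orderOf x).factorization 2, ?_⟩
      rw [← QuotientGroup.mk_pow, QuotientGroup.eq_one_iff]
      refine Subgroup.subset_closure ?_
      show Nat.Coprime (orderOf (x ^ _)) 2
      rw [orderOf_pow_of_dvd (by positivity) (Nat.ordProj_dvd (orderOf x) 2)]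
      exact (Nat.coprime_ordCompl Nat.prime_two (orderOf_pos x).ne').symm
    haveI : Nontrivial (C ⧸ R) := by
      rwa [QuotientGroup.nontrivial_iff]
    haveI : Group.IsNilpotent (C ⧸ R) := hQ.isNilpotent
    have hlt : commutator (C ⧸ R) < ⊤ :=
      Group.IsSolvable.commutator_lt_top_of_nontrivial (C ⧸ R)
    let φ : C →* Abelianization (C ⧸ R) := Abelianization.of.comp (QuotientGroup.mk' R)
    have hA : IsPGroup 2 (Abelianization (C ⧸ R)) :=
      hQ.of_surjective Abelianization.of (QuotientGroup.mk'_surjective _)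
    have hV : φ.transfer = 1 := by
      rw [← MonoidHom.ker_eq_top_iff, eq_top_iff, ← hG, Cfsg.pResidual, Subgroup.closure_le]
      intro x hx
      obtain ⟨k, hk⟩ := hA (φ.transfer x)
      have h1 : orderOf (φ.transfer x) ∣ 2 ^ k := orderOf_dvd_of_pow_eq_one hk
      have h2 : orderOf (φ.transfer x) ∣ orderOf x := orderOf_map_dvd _ _
      have h3 : (orderOf x).Coprime (2 ^ k) := Nat.Coprime.pow_right k hx
      rw [SetLike.mem_coe, MonoidHom.mem_ker, ← orderOf_eq_one_iff]
      exact Nat.eq_one_of_dvd_coprimes h3 h2 h1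
    have hall : ∀ c : C, φ c = 1 := by
      intro c
      have h := CfsgLib.TwoFusion.Isolated.transfer_restrict hz φ c
      rw [hV, MonoidHom.one_apply] at h
      obtain ⟨k, hk⟩ := hA (φ c)
      have h3 : (C.index).Coprime (2 ^ k) := Nat.Coprime.pow_right k
        (Nat.coprime_two_right.mpr (CfsgLib.TwoFusion.Isolated.odd_index_centralizer hz))
      rw [← orderOf_eq_one_iff]
      exact Nat.eq_one_of_dvd_coprimes h3 (orderOf_dvd_of_pow_eq_one h.symm)
        (orderOf_dvd_of_pow_eq_one hk)
    refine hlt.ne (eq_top_iff.mpr fun q _ => ?_)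
    obtain ⟨c, rfl⟩ := QuotientGroup.mk_surjective q
    exact (QuotientGroup.eq_one_iff _).mp (hall c)
  · intro hC
    rw [eq_top_iff]
    intro g _
    have hCle : ∀ c : G, Commute c z → c ∈ Cfsg.pResidual 2 G := by
      intro c hc
      have h : (⟨c, (hCmem c).mpr hc⟩ : Subgroup.centralizer ({z} : Set G)) ∈
          (Cfsg.pResidual 2 G).comap (Subgroup.centralizer ({z} : Set G)).subtype := by
        have hle : Cfsg.pResidual 2 ↥(Subgroup.centralizer ({z} : Set G)) ≤
            (Cfsg.pResidual 2 G).comap (Subgroup.centralizer ({z} : Set G)).subtype := by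
          rw [Cfsg.pResidual, Subgroup.closure_le]
          intro x hx
          refine Subgroup.subset_closure ?_
          show Nat.Coprime (orderOf (x : G)) 2
          rw [Subgroup.orderOf_coe]
          exact hx
        exact hle (by rw [hC]; exact Subgroup.mem_top _)
      exact h
    set k := CfsgLib.TwoFusion.oddSqrt (g * z * g⁻¹ * z) with hk
    have hkR : k ∈ Cfsg.pResidual 2 G := Subgroup.subset_closure
      (Nat.coprime_two_right.mpr (CfsgLib.TwoFusion.oddSqrt_odd
        (CfsgLib.TwoFusion.Isolated.odd_orderOf_conj_mul hz g)))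
    have hc : Commute (k⁻¹ * g) z := by
      rw [CfsgLib.TwoFusion.Isolated.commute_iff_conj_eq]
      calc k⁻¹ * g * z * (k⁻¹ * g)⁻¹ = k⁻¹ * (g * z * g⁻¹) * k := by group
        _ = z := by rw [← CfsgLib.TwoFusion.Isolated.sqrt_conj hz g, ← hk]; group
    have := Subgroup.mul_mem _ hkR (hCle _ hc)
    rwa [mul_inv_cancel_left] at this

end Cfsg.Agent.S1183
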