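import Cfsg.Statements.S1184
import Cfsg.Agent.Lib.TwoFusion.Isolated

set_option autoImplicit false
open Cfsg

namespace Cfsg.Agent.S1184

/-- Let z be an isolated involution of the finite group G. If s and t are distinct conjugates of z, then st does not commute with z. -/
theorem result {G : Type*} [Group G] [Finite G] (z : G) (hz : Cfsg.IsIsolatedInvolution z) (g h : G) (hne : g * z * g⁻¹ ≠ h * z * h⁻¹) : ¬ Commute (g * z * g⁻¹ * (h * z * h⁻¹)) z := by
  intro hc
  set s := g * z * g⁻¹ with hs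
  set t := h * z * h⁻¹ with ht
  have hso : orderOf s = 2 := CfsgLib.TwoFusion.Isolated.orderOf_conj hz g
  have hto : orderOf t = 2 := CfsgLib.TwoFusion.Isolated.orderOf_conj hz h
  have hinv : s * (s * t) * s⁻¹ = (s * t)⁻¹ := CfsgLib.TwoFusion.left_inverts_mul hto hso
  have hodd : Odd (orderOf (s * t)) := by
    have e : h⁻¹ * (s * t) * h⁻¹⁻¹ = h⁻¹ * g * z * (h⁻¹ * g)⁻¹ * z := by rw [hs, ht]; group
    rw [← CfsgLib.TwoFusion.orderOf_conj_eq h⁻¹, e]
    exact CfsgLib.TwoFusion.Isolated.odd_orderOf_conj_mul hz _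
  set u := s * t with hu
  -- the set of elements centralizing or inverting `u`
  have hzu : z * u * z⁻¹ = u := CfsgLib.TwoFusion.Isolated.commute_iff_conj_eq.mp hc.symm
  have hdd : ∀ n : ℕ, (s * z) ^ n * u * ((s * z) ^ n)⁻¹ = u ∨
      (s * z) ^ n * u * ((s * z) ^ n)⁻¹ = u⁻¹ := by
    intro n
    induction n with
    | zero => left; simp
    | succ n ih =>
      have e : (s * z) ^ (n + 1) * u * ((s * z) ^ (n + 1))⁻¹ =
          (s * z) ^ n * (s * (z * u * z⁻¹) * s⁻¹) * ((s * z) ^ n)⁻¹ := by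
        rw [pow_succ]; group
      rw [e, hzu, hinv]
      rcases ih with ih | ih
      · right; rw [← conj_inv, ih]
      · left; rw [← conj_inv, ih, inv_inv]
  have hk := CfsgLib.TwoFusion.Isolated.sqrt_conj hz g
  rw [← hs] at hk
  set k := CfsgLib.TwoFusion.oddSqrt (s * z) with hkdef
  have hk1 : k * u * k⁻¹ = u ∨ k * u * k⁻¹ = u⁻¹ := hdd _
  -- hence `s` centralizes `u`
  have hsu : s * u * s⁻¹ = u := by
    have hz' : z * u⁻¹ * z⁻¹ = u⁻¹ := by rw [← conj_inv, hzu]
    have hk2 : k⁻¹ * u * k = u ∨ k⁻¹ * u * k = u⁻¹ := by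
      rcases hk1 with e | e
      · left
        calc k⁻¹ * u * k = k⁻¹ * (k * u * k⁻¹) * k := by rw [e]
          _ = u := by group
      · right
        calc k⁻¹ * u * k = (k⁻¹ * (k * u * k⁻¹) * k)⁻¹ := by rw [e]; group
          _ = u⁻¹ := by group
    calc s * u * s⁻¹ = k * z * k⁻¹ * u * (k * z * k⁻¹)⁻¹ := by rw [hk]
      _ = k * (z * (k⁻¹ * u * k) * z⁻¹) * k⁻¹ := by group
      _ = k * (k⁻¹ * u * k) * k⁻¹ := by
          rcases hk2 with e | e <;> rw [e]
          · rw [hzu]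
          · rw [hz']
      _ = u := by group
  have h1 : u * u = 1 := by
    rw [hinv] at hsu
    nth_rewrite 1 [← hsu]
    exact inv_mul_cancel u
  have h2 : u = 1 := CfsgLib.TwoFusion.sq_injective_of_odd hodd (by simp) (by rw [h1, one_mul])
  exact hne (by rw [mul_eq_one_iff_eq_inv, CfsgLib.TwoFusion.inv_eq_self_of_orderOf_eq_two hto] at h2; exact h2)

end Cfsg.Agent.S1184
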