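import Cfsg.Statements.S1185
import Cfsg.Agent.Lib.TwoFusion.Isolated

set_option autoImplicit false
open Cfsg

namespace Cfsg.Agent.S1185

/-- Let z be an isolated involution of the finite group G with centralizer C. Then for every g ∈ G there is exactly one element k in the coset gC that has odd order and is inverted by z. -/
theorem result {G : Type*} [Group G] [Finite G] (z : G) (hz : Cfsg.IsIsolatedInvolution z) (g : G) : ∃! k : G, (Odd (orderOf k) ∧ z * k * z⁻¹ = k⁻¹) ∧ g⁻¹ * k ∈ Subgroup.centralizer ({z} : Set G) := by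
  have hC : ∀ c : G, c ∈ Subgroup.centralizer ({z} : Set G) ↔ c * z * c⁻¹ = z := fun c => by
    rw [Subgroup.mem_centralizer_singleton_iff, mul_inv_eq_iff_eq_mul]
  have hsq : ∀ k : G, z * k * z⁻¹ = k⁻¹ → g⁻¹ * k ∈ Subgroup.centralizer ({z} : Set G) →
      k * k = g * z * g⁻¹ * z := by
    intro k hk hgk
    rw [hC] at hgk
    calc k * k = k * k * z * z := by
          rw [mul_assoc _ z z, CfsgLib.TwoFusion.Isolated.sq_eq hz, mul_one]
      _ = g * (g⁻¹ * k * z * (g⁻¹ * k)⁻¹) * g⁻¹ * z := by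
          rw [← CfsgLib.TwoFusion.conj_of_inverted hk]; group
      _ = g * z * g⁻¹ * z := by rw [hgk]
  refine ⟨CfsgLib.TwoFusion.oddSqrt (g * z * g⁻¹ * z), ⟨⟨CfsgLib.TwoFusion.oddSqrt_odd
    (CfsgLib.TwoFusion.Isolated.odd_orderOf_conj_mul hz g),
    CfsgLib.TwoFusion.Isolated.sqrt_inverted hz g⟩, ?_⟩, ?_⟩
  · rw [hC]
    have h := CfsgLib.TwoFusion.Isolated.sqrt_conj hz g
    set k := CfsgLib.TwoFusion.oddSqrt (g * z * g⁻¹ * z)
    calc g⁻¹ * k * z * (g⁻¹ * k)⁻¹ = g⁻¹ * (k * z * k⁻¹) * g := by group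
      _ = z := by rw [h]; group
  · rintro k ⟨⟨ho, hi⟩, hgk⟩
    exact CfsgLib.TwoFusion.oddSqrt_unique ho (hsq k hi hgk)

end Cfsg.Agent.S1185
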