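import Cfsg.Statements.S1186
import Cfsg.Agent.Lib.TwoFusion.Isolated
import Mathlib.SetTheory.Cardinal.Finite

set_option autoImplicit false
open Cfsg

namespace Cfsg.Agent.S1186

/-- Let z be an isolated involution of the finite group G, C = C_G(z), K the set of elements of odd order inverted by z, and s an involution of C. Then |G| = |C| · |C_K(sz)| · |C_K(s)|. -/
theorem result {G : Type*} [Group G] [Finite G] (z : G) (hz : Cfsg.IsIsolatedInvolution z) (s : G) (hs : orderOf s = 2) (hsz : Commute s z) : Nat.card G = Nat.card (Subgroup.centralizer ({z} : Set G)) * Nat.card {k : G // Odd (orderOf k) ∧ z * k * z⁻¹ = k⁻¹ ∧ Commute k (s * z)} * Nat.card {k : G // Odd (orderOf k) ∧ z * k * z⁻¹ = k⁻¹ ∧ Commute k s} := by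
  classical
  rw [CfsgLib.TwoFusion.Isolated.card_eq_centralizer_mul_inverted hz, mul_assoc]
  congr 1
  rw [← Nat.card_prod]
  have hs2 := CfsgLib.TwoFusion.mul_self_of_orderOf_eq_two hs
  have hsi := CfsgLib.TwoFusion.inv_eq_self_of_orderOf_eq_two hs
  -- `s` acts on the set of odd elements inverted by `z`
  have hσ : ∀ k : G, (Odd (orderOf k) ∧ z * k * z⁻¹ = k⁻¹) →
      Odd (orderOf (s * k * s⁻¹)) ∧ z * (s * k * s⁻¹) * z⁻¹ = (s * k * s⁻¹)⁻¹ := by
    intro k hk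
    refine ⟨by rw [CfsgLib.TwoFusion.orderOf_conj_eq]; exact hk.1, ?_⟩
    calc z * (s * k * s⁻¹) * z⁻¹ = (z * s) * k * (z * s)⁻¹ := by group
      _ = s * (z * k * z⁻¹) * s⁻¹ := by rw [← hsz.eq]; group
      _ = (s * k * s⁻¹)⁻¹ := by rw [hk.2]; group
  have hB : ∀ k : G, z * k * z⁻¹ = k⁻¹ → (Commute k (s * z) ↔ s * k * s⁻¹ = k⁻¹) := by
    intro k hk
    rw [Commute.symm_iff, CfsgLib.TwoFusion.Isolated.commute_iff_conj_eq]
    rw [show s * z * k * (s * z)⁻¹ = s * (z * k * z⁻¹) * s⁻¹ by group, hk, ← conj_inv,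
      inv_eq_iff_eq_inv]
  have hA : ∀ k : G, (Commute k s ↔ s * k * s⁻¹ = k) := fun k => by
    rw [Commute.symm_iff, CfsgLib.TwoFusion.Isolated.commute_iff_conj_eq]
  -- uniqueness of solutions of `X q X = k`
  have huniq : ∀ q x k : G, (Odd (orderOf q) ∧ z * q * z⁻¹ = q⁻¹) →
      (Odd (orderOf x) ∧ z * x * z⁻¹ = x⁻¹) → x * q * x = k →
      CfsgLib.TwoFusion.oddSqrt q * x * CfsgLib.TwoFusion.oddSqrt q =
        CfsgLib.TwoFusion.oddSqrt (CfsgLib.TwoFusion.oddSqrt q * k *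
          CfsgLib.TwoFusion.oddSqrt q) := by
    intro q x k hq hx hk
    have hr := CfsgLib.TwoFusion.oddSqrt_sq hq.1
    refine CfsgLib.TwoFusion.oddSqrt_unique
      (CfsgLib.TwoFusion.Isolated.inverted_odd_mul hz
        (CfsgLib.TwoFusion.Isolated.inverted_odd_sqrt hq) hx).1 ?_
    set r := CfsgLib.TwoFusion.oddSqrt q
    rw [← hk, ← hr]
    group
  let T := {k : G // Odd (orderOf k) ∧ z * k * z⁻¹ = k⁻¹}
  let P := {k : G // Odd (orderOf k) ∧ z * k * z⁻¹ = k⁻¹ ∧ Commute k (s * z)} ×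
    {k : G // Odd (orderOf k) ∧ z * k * z⁻¹ = k⁻¹ ∧ Commute k s}
  let f : P → T := fun p => ⟨(p.1 : G) * p.2 * p.1,
    CfsgLib.TwoFusion.Isolated.inverted_odd_mul hz ⟨p.1.2.1, p.1.2.2.1⟩ ⟨p.2.2.1, p.2.2.2.1⟩⟩
  symm
  refine Nat.card_eq_of_bijective f ⟨?_, ?_⟩
  · rintro ⟨⟨b, hbo, hbi, hbc⟩, ⟨a, hao, hai, hac⟩⟩ ⟨⟨b', hbo', hbi', hbc'⟩, ⟨a', hao', hai', hac'⟩⟩ h
    have h' : b * a * b = b' * a' * b' := congrArg Subtype.val h
    rw [hA] at hac hac'
    rw [hB _ hbi] at hbc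
    rw [hB _ hbi'] at hbc'
    have hm := CfsgLib.TwoFusion.Isolated.inverted_odd_mul hz ⟨hbo, hbi⟩ ⟨hao, hai⟩
    have hq := hσ _ hm
    have hx2 : ∀ c d : G, Odd (orderOf c) → z * c * z⁻¹ = c⁻¹ → s * c * s⁻¹ = c⁻¹ →
        s * d * s⁻¹ = d → (c * c) * (s * (c * d * c) * s⁻¹) * (c * c) = c * d * c := by
      intro c d _ _ hc hd
      rw [show s * (c * d * c) * s⁻¹ = (s * c * s⁻¹) * (s * d * s⁻¹) * (s * c * s⁻¹) by group,
        hc, hd]
      group
    have hb2 : ∀ c : G, Odd (orderOf c) → z * c * z⁻¹ = c⁻¹ →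
        Odd (orderOf (c * c)) ∧ z * (c * c) * z⁻¹ = (c * c)⁻¹ := fun c ho hi =>
      ⟨by rw [CfsgLib.TwoFusion.orderOf_sq_of_odd ho]; exact ho, by
        rw [← pow_two]; exact CfsgLib.TwoFusion.inverted_pow hi 2⟩
    have e1 := huniq _ _ _ hq (hb2 b hbo hbi) (hx2 b a hbo hbi hbc hac)
    have e2 := huniq _ _ (b * a * b) hq (hb2 b' hbo' hbi') (by
      rw [h']; exact hx2 b' a' hbo' hbi' hbc' hac')
    have hbb : b = b' := CfsgLib.TwoFusion.sq_injective_of_odd hbo hbo'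
      (mul_left_cancel (mul_right_cancel (e1.trans e2.symm)))
    subst hbb
    have haa : a = a' := mul_left_cancel (mul_right_cancel h')
    subst haa
    rfl
  · rintro ⟨k, hk⟩
    have hq := hσ k hk
    set q := s * k * s⁻¹ with hqdef
    set r := CfsgLib.TwoFusion.oddSqrt q with hrdef
    have hr := CfsgLib.TwoFusion.Isolated.inverted_odd_sqrt hq
    rw [← hrdef] at hr
    have hy := CfsgLib.TwoFusion.Isolated.inverted_odd_sqrt
      (CfsgLib.TwoFusion.Isolated.inverted_odd_mul hz hr hk)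
    have hy2 := CfsgLib.TwoFusion.oddSqrt_sq
      (CfsgLib.TwoFusion.Isolated.inverted_odd_mul hz hr hk).1
    set y := CfsgLib.TwoFusion.oddSqrt (r * k * r) with hydef
    have hx := CfsgLib.TwoFusion.Isolated.inverted_odd_mul hz
      (CfsgLib.TwoFusion.Isolated.inverted_odd_inv hr) hy
    set x := r⁻¹ * y * r⁻¹ with hxdef
    have hxq : x * q * x = k := by
      have hr2 : r * r = q := CfsgLib.TwoFusion.oddSqrt_sq hq.1
      calc x * q * x = r⁻¹ * (y * y) * r⁻¹ := by rw [hxdef, ← hr2]; group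
        _ = k := by rw [hy2]; group
    -- `x` is inverted by `s`
    have hss : s * q * s⁻¹ = k := by
      calc s * q * s⁻¹ = (s * s) * k * (s * s)⁻¹ := by rw [hqdef]; group
        _ = k := by rw [hs2]; group
    have hx' : s * x * s⁻¹ = x⁻¹ := by
      have h1 : (s * x * s⁻¹)⁻¹ * q * (s * x * s⁻¹)⁻¹ = k := by
        have h2 : (s * x * s⁻¹) * k * (s * x * s⁻¹) = q := by
          calc (s * x * s⁻¹) * k * (s * x * s⁻¹)
              = (s * x * s⁻¹) * (s * q * s⁻¹) * (s * x * s⁻¹) := by rw [hss]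
            _ = s * (x * q * x) * s⁻¹ := by group
            _ = q := by rw [hxq]
        rw [← h2]; group
      have e1 := huniq q x k hq hx hxq
      have e2 := huniq q _ k hq (CfsgLib.TwoFusion.Isolated.inverted_odd_inv (hσ x hx)) h1
      have e3 := mul_left_cancel (mul_right_cancel (e2.trans e1.symm))
      exact inv_eq_iff_eq_inv.mp e3
    have hb := CfsgLib.TwoFusion.Isolated.inverted_odd_sqrt hx
    have hbs : s * CfsgLib.TwoFusion.oddSqrt x * s⁻¹ = (CfsgLib.TwoFusion.oddSqrt x)⁻¹ := by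
      rw [CfsgLib.TwoFusion.conj_oddSqrt, hx', CfsgLib.TwoFusion.inv_oddSqrt]
    have hb2 := CfsgLib.TwoFusion.oddSqrt_sq hx.1
    set b := CfsgLib.TwoFusion.oddSqrt x
    have ha := CfsgLib.TwoFusion.Isolated.inverted_odd_mul hz
      (CfsgLib.TwoFusion.Isolated.inverted_odd_inv hb) hk
    have has : s * (b⁻¹ * k * b⁻¹) * s⁻¹ = b⁻¹ * k * b⁻¹ := by
      calc s * (b⁻¹ * k * b⁻¹) * s⁻¹
          = (s * b * s⁻¹)⁻¹ * q * (s * b * s⁻¹)⁻¹ := by rw [hqdef]; group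
        _ = b * q * b := by rw [hbs, inv_inv]
        _ = b⁻¹ * (x * q * x) * b⁻¹ := by rw [← hb2]; group
        _ = b⁻¹ * k * b⁻¹ := by rw [hxq]
    refine ⟨(⟨b, hb.1, hb.2, (hB b hb.2).mpr hbs⟩, ⟨b⁻¹ * k * b⁻¹, ha.1, ha.2, (hA _).mpr has⟩), ?_⟩
    apply Subtype.ext
    show b * (b⁻¹ * k * b⁻¹) * b = k
    group

end Cfsg.Agent.S1186
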