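import Cfsg.Statements.S1189
import Cfsg.Agent.Lib.TwoFusion.QuasiDihedralElements
import Mathlib.SetTheory.Cardinal.Finite

set_option autoImplicit false
open Cfsg

namespace Cfsg.Agent.S1189

/-- A quasi-dihedral 2-group has exactly two conjugacy classes of elements of order 2 and exactly two conjugacy classes of elements of order 4. -/
theorem result {S : Type*} [Group S] [Finite S] (hS : Cfsg.IsQuasiDihedral S) : Nat.card {C : ConjClasses S // ∃ t : S, orderOf t = 2 ∧ ConjClasses.mk t = C} = 2 ∧ Nat.card {C : ConjClasses S // ∃ t : S, orderOf t = 4 ∧ ConjClasses.mk t = C} = 2 := by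
  obtain ⟨D⟩ := CfsgLib.TwoFusion.exists_qdGens hS
  constructor
  · rw [Nat.card_eq_two_iff]
    refine ⟨⟨ConjClasses.mk D.c, D.c, D.orderOf_c, rfl⟩,
      ⟨ConjClasses.mk (D.x ^ (0 : ℤ) * D.y), _, D.orderOf_zy_even (dvd_zero 2), rfl⟩, ?_, ?_⟩
    · intro h
      obtain ⟨u, hu⟩ := isConj_iff.mp (ConjClasses.mk_eq_mk_iff_isConj.mp (Subtype.ext_iff.mp h))
      rw [← D.c_comm, mul_inv_cancel_right] at hu
      exact D.zpow_ne_zpow_mul_y _ 0 hu
    · rw [Set.eq_univ_iff_forall]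
      rintro ⟨C, t, ht, rfl⟩
      rcases D.orderOf_eq_two_cases ht with rfl | ⟨i, hi, rfl⟩
      · exact Or.inl rfl
      · refine Or.inr (Subtype.ext (ConjClasses.mk_eq_mk_iff_isConj.mpr ?_))
        obtain ⟨u, hu⟩ := D.exists_conj_zy (i := i) (k := 0) (by simpa using hi)
        exact (isConj_iff.mpr ⟨u, hu⟩).symm
  · rw [Nat.card_eq_two_iff]
    refine ⟨⟨ConjClasses.mk D.q, D.q, D.orderOf_q, rfl⟩,
      ⟨ConjClasses.mk (D.x ^ (1 : ℤ) * D.y), _, D.orderOf_zy_odd (by omega), rfl⟩, ?_, ?_⟩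
    · intro h
      obtain ⟨u, hu⟩ := isConj_iff.mp (ConjClasses.mk_eq_mk_iff_isConj.mp (Subtype.ext_iff.mp h))
      obtain ⟨j, rfl | rfl⟩ := D.normalForm u
      · rw [← zpow_add, ← zpow_neg, ← zpow_add] at hu
        exact D.zpow_ne_zpow_mul_y _ _ hu
      · rw [D.zy_conj_q, ← zpow_neg] at hu
        exact D.zpow_ne_zpow_mul_y _ _ hu
    · rw [Set.eq_univ_iff_forall]
      rintro ⟨C, t, ht, rfl⟩
      rcases D.orderOf_eq_four_cases ht with rfl | rfl | ⟨i, hi, rfl⟩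
      · exact Or.inl rfl
      · refine Or.inl (Subtype.ext (ConjClasses.mk_eq_mk_iff_isConj.mpr ?_))
        exact (isConj_iff.mpr ⟨D.y, D.y_conj_q⟩).symm
      · refine Or.inr (Subtype.ext (ConjClasses.mk_eq_mk_iff_isConj.mpr ?_))
        obtain ⟨u, hu⟩ := D.exists_conj_zy (i := i) (k := 1) (by omega)
        exact (isConj_iff.mpr ⟨u, hu⟩).symm

end Cfsg.Agent.S1189
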