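import Cfsg.Statements.S1190
import Cfsg.Agent.Lib.TwoFusion.QuasiDihedralSubgroups

set_option autoImplicit false
open Cfsg

namespace Cfsg.Agent.S1190

/-- In a quasi-dihedral 2-group S, any two Klein four-subgroups are conjugate, and every Klein four-subgroup T satisfies C_S(T) = T and |N_S(T) : T| = 2. -/
theorem result {S : Type*} [Group S] [Finite S] (hS : Cfsg.IsQuasiDihedral S) : (∀ T₁ T₂ : Subgroup S, IsKleinFour T₁ → IsKleinFour T₂ → ∃ s : S, T₁.map (MulAut.conj s).toMonoidHom = T₂) ∧ (∀ T : Subgroup S, IsKleinFour T → Subgroup.centralizer (T : Set S) = T ∧ T.relIndex (Subgroup.normalizer (T : Set S)) = 2) := by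
  obtain ⟨D⟩ := CfsgLib.TwoFusion.exists_qdGens hS
  have hcmem : ∀ (T : Subgroup S) (i : ℤ), D.x ^ i * D.y ∈ T → (∀ g, g ∈ T ↔
      (g = 1 ∨ g = D.c ∨ g * (D.x ^ i * D.y) = 1 ∨ g * (D.x ^ i * D.y) = D.c)) → D.c ∈ T :=
    fun T i _ h => (h _).mpr (Or.inr (Or.inl rfl))
  refine ⟨fun T₁ T₂ h₁ h₂ => ?_, fun T hT => ?_⟩
  · obtain ⟨i, hi, hiT, hm₁⟩ := D.mem_klein_iff h₁
    obtain ⟨k, hk, hkT, hm₂⟩ := D.mem_klein_iff h₂
    obtain ⟨s, hs⟩ := D.exists_conj_zy (i := k) (k := i) (dvd_sub hk hi)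
    refine ⟨s, ?_⟩
    ext g
    rw [hm₂, Subgroup.mem_map_equiv, MulAut.conj_symm_apply, hm₁]
    have e1 : s⁻¹ * g * s * (D.x ^ i * D.y) = s⁻¹ * (g * (D.x ^ k * D.y)) * s := by
      rw [← hs]; group
    have e2 : ∀ a : S, s⁻¹ * a * s = 1 ↔ a = 1 := fun a => by
      rw [← MulAut.conj_symm_apply, map_eq_one_iff _ (MulEquiv.injective _)]
    have e3 : ∀ a : S, s⁻¹ * a * s = D.c ↔ a = D.c := fun a => by
      rw [mul_assoc, inv_mul_eq_iff_eq_mul, ← D.c_comm, mul_left_inj]
    rw [e1, e2, e3, e2, e3]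
  · obtain ⟨i, hi, hiT, hm⟩ := D.mem_klein_iff hT
    have hcent : ∀ g, g * (D.x ^ i * D.y) = (D.x ^ i * D.y) * g → g ∈ T :=
      fun g hg => (hm g).mpr (D.commute_zy_cases hg)
    constructor
    · apply le_antisymm
      · intro g hg
        exact hcent g (Subgroup.mem_centralizer_iff.mp hg _ hiT).symm
      · intro g hg
        rw [Subgroup.mem_centralizer_iff]
        intro h hh
        exact congrArg Subtype.val
          ((IsKleinFour.isMulCommutative (G := T)).is_comm.comm ⟨h, hh⟩ ⟨g, hg⟩)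
    · set v := D.x ^ i * D.y with hv
      have hqv : D.q * v * D.q⁻¹ = D.c * v := by
        calc D.q * v * D.q⁻¹ = D.q * (v * D.q⁻¹ * v⁻¹) * v := by group
          _ = D.c * v := by
            rw [← conj_inv, D.zy_conj_q, inv_inv, D.q_sq]
      have hqN : D.q ∈ Subgroup.normalizer (T : Set S) := by
        rw [Subgroup.mem_normalizer_iff]
        intro g
        rw [hm, hm]
        have e1 : D.q * g * D.q⁻¹ * v = D.q * (g * v) * D.q⁻¹ * D.c := by
          have hcg : v * D.q⁻¹ * D.c = D.q⁻¹ * v := by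
            rw [← D.q_sq]
            calc v * D.q⁻¹ * (D.q * D.q) = D.q⁻¹ * (D.q * v * D.q⁻¹) * (D.q * D.q) := by group
              _ = D.q⁻¹ * v * (D.c * (D.q * D.q)) := by rw [hqv, D.c_comm v]; group
              _ = D.q⁻¹ * v := by rw [D.q_sq, D.c_mul_c, mul_one]
          rw [mul_assoc (D.q * g), ← hcg]; group
        have e2 : ∀ a : S, D.q * a * D.q⁻¹ = 1 ↔ a = 1 := fun a => conj_eq_one_iff
        have e3 : ∀ a : S, D.q * a * D.q⁻¹ = D.c ↔ a = D.c := fun a => by
          rw [mul_inv_eq_iff_eq_mul, D.c_comm, mul_right_inj]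
        have hci : D.c⁻¹ = D.c := inv_eq_of_mul_eq_one_right D.c_mul_c
        rw [e1, e2, e3, mul_eq_one_iff_eq_inv (b := D.c), mul_eq_right, e2, hci, e3]
        tauto
      rw [Subgroup.relIndex, Subgroup.index_eq_two_iff]
      refine ⟨⟨D.q, hqN⟩, fun b => ?_⟩
      simp only [Subgroup.mem_subgroupOf, Subgroup.coe_mul]
      have hb : (b : S) * v * (b : S)⁻¹ ∈ T :=
        (Subgroup.mem_normalizer_iff.mp b.2 v).mp hiT
      have hq : D.q ∉ T := fun h => by
        have h2 := congrArg Subtype.val (IsKleinFour.mul_self (⟨D.q, h⟩ : T))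
        exact D.c_ne_one (D.q_sq.symm.trans h2)
      rcases (hm _).mp hb with h | h | h | h
      · exact absurd (conj_eq_one_iff.mp h) (fun h1 => D.zpow_ne_zpow_mul_y 0 i (by rw [zpow_zero]; exact h1.symm))
      · exfalso
        rw [mul_inv_eq_iff_eq_mul, D.c_comm, mul_right_inj] at h
        exact D.zpow_ne_zpow_mul_y _ i h.symm
      · -- `b` centralizes `v`
        have hbT : (b : S) ∈ T := hcent _ (by
          have hv2 : v * v = 1 := by rw [← pow_two]; exact D.sq_zy_eq_one_iff.mpr hi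
          rw [← mul_inv_eq_iff_eq_mul, mul_eq_one_iff_eq_inv.mp h]
          exact inv_eq_of_mul_eq_one_right hv2)
        exact Or.inr ⟨hbT, fun hh => hq ((Subgroup.mul_mem_cancel_left _ hbT).mp hh)⟩
      · have hbq : (b : S) * D.q ∈ T := hcent _ (by
          have hv2 : v * v = 1 := by rw [← pow_two]; exact D.sq_zy_eq_one_iff.mpr hi
          have hbv : (b : S) * v * (b : S)⁻¹ = D.c * v := by
            rw [eq_mul_inv_of_mul_eq h, inv_eq_of_mul_eq_one_right hv2]
          rw [← mul_inv_eq_iff_eq_mul]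
          calc (b : S) * D.q * v * ((b : S) * D.q)⁻¹ = (b : S) * (D.q * v * D.q⁻¹) * (b : S)⁻¹ := by group
            _ = D.c * ((b : S) * v * (b : S)⁻¹) := by rw [hqv, ← mul_assoc (b : S), ← D.c_comm]; group
            _ = v := by rw [hbv, ← mul_assoc, D.c_mul_c, one_mul])
        exact Or.inl ⟨hbq, fun hh => hq ((Subgroup.mul_mem_cancel_left _ hh).mp hbq)⟩

end Cfsg.Agent.S1190
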