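import Cfsg.Statements.S1191
import Cfsg.Agent.Lib.TwoFusion.QuasiDihedralSubgroups

set_option autoImplicit false
open Cfsg

namespace Cfsg.Agent.S1191

/-- In a quasi-dihedral 2-group S, any two subgroups isomorphic to the quaternion group of order 8 are conjugate, and each such subgroup Q satisfies C_S(Q) = Z(Q) and |N_S(Q) : Q| = 2. -/
theorem result {S : Type*} [Group S] [Finite S] (hS : Cfsg.IsQuasiDihedral S) : (∀ Q₁ Q₂ : Subgroup S, Nonempty (Q₁ ≃* QuaternionGroup 2) → Nonempty (Q₂ ≃* QuaternionGroup 2) → ∃ s : S, Q₁.map (MulAut.conj s).toMonoidHom = Q₂) ∧ (∀ Q : Subgroup S, Nonempty (Q ≃* QuaternionGroup 2) → Subgroup.centralizer (Q : Set S) = (Subgroup.center Q).map Q.subtype ∧ Q.relIndex (Subgroup.normalizer (Q : Set S)) = 2) := by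
  obtain ⟨D⟩ := CfsgLib.TwoFusion.exists_qdGens hS
  refine ⟨fun Q₁ Q₂ h₁ h₂ => ?_, fun Q hQ => ?_⟩
  · obtain ⟨e₁⟩ := h₁
    obtain ⟨e₂⟩ := h₂
    obtain ⟨i, hi, rfl⟩ := D.eq_quatSub e₁
    obtain ⟨k, hk, rfl⟩ := D.eq_quatSub e₂
    obtain ⟨s, hs⟩ := D.exists_conj_zy (i := k) (k := i) (by omega)
    refine ⟨s, Subgroup.eq_of_le_of_card_ge ?_ ?_⟩
    · have hsq : s * D.q * s⁻¹ = D.q ∨ s * D.q * s⁻¹ = D.q⁻¹ := by
        obtain ⟨j, rfl | rfl⟩ := D.normalForm s
        · exact Or.inl (by rw [← zpow_add, ← zpow_neg, ← zpow_add]; congr 1; ring)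
        · exact Or.inr (D.zy_conj_q j)
      rintro _ ⟨g, hg, rfl⟩
      show s * g * s⁻¹ ∈ D.quatSub k hk
      have hqq : s * D.q * s⁻¹ ∈ D.quatSub k hk := by
        rcases hsq with h | h <;> rw [h]
        · exact D.q_mem_quatSub hk
        · exact inv_mem (D.q_mem_quatSub hk)
      rcases (D.mem_quatSub hi g).mp hg with ⟨j, rfl | rfl⟩
      · rw [← conj_zpow]; exact zpow_mem hqq j
      · rw [show s * (D.x ^ i * D.y * D.q ^ j) * s⁻¹ =
          (s * (D.x ^ i * D.y) * s⁻¹) * (s * D.q ^ j * s⁻¹) by group, hs, ← conj_zpow]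
        exact mul_mem (D.zy_mem_quatSub hk) (zpow_mem hqq j)
    · rw [Subgroup.card_map_of_injective (MulAut.conj s).injective, Nat.card_congr e₁.toEquiv,
        Nat.card_congr e₂.toEquiv]
  · obtain ⟨e⟩ := hQ
    obtain ⟨i, hi, rfl⟩ := D.eq_quatSub e
    set v := D.x ^ i * D.y with hv
    have hC : Subgroup.centralizer (D.quatSub i hi : Set S) ≤ D.quatSub i hi := by
      intro g hg
      rw [Subgroup.mem_centralizer_iff] at hg
      rcases D.commute_zy_cases (hg _ (D.zy_mem_quatSub hi)).symm with h | h | h | h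
      · rw [h]; exact one_mem _
      · rw [h]; exact D.c_mem_quatSub hi
      · rw [mul_eq_one_iff_eq_inv.mp h]; exact inv_mem (D.zy_mem_quatSub hi)
      · rw [eq_mul_inv_of_mul_eq h]
        exact mul_mem (D.c_mem_quatSub hi) (inv_mem (D.zy_mem_quatSub hi))
    constructor
    · apply le_antisymm
      · intro g hg
        refine ⟨⟨g, hC hg⟩, ?_, rfl⟩
        rw [SetLike.mem_coe, Subgroup.mem_center_iff]
        intro h
        exact Subtype.ext (Subgroup.mem_centralizer_iff.mp hg h h.2)
      · rintro _ ⟨g, hg, rfl⟩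
        rw [Subgroup.mem_centralizer_iff]
        intro h hh
        exact congrArg Subtype.val (Subgroup.mem_center_iff.mp hg ⟨h, hh⟩)
    · have hPodd : ∀ j : ℤ, D.x ^ (D.P * j) ∈ D.quatSub i hi ↔ 2 ∣ j := by
        intro j
        constructor
        · intro h
          rcases (D.mem_quatSub hi _).mp h with ⟨k, h | h⟩
          · rw [← zpow_mul, D.zpow_eq_iff] at h
            obtain ⟨c, hc⟩ := h
            exact ⟨4 * c + k, mul_left_cancel₀ D.P_pos.ne' (by linear_combination hc)⟩
          · rw [← zpow_mul, D.zy_mul] at h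
            exact absurd h (D.zpow_ne_zpow_mul_y _ _)
        · rintro ⟨k, rfl⟩
          exact (D.mem_quatSub hi _).mpr ⟨k, Or.inl (by rw [← zpow_mul]; congr 1; ring)⟩
      have haN : D.x ^ D.P ∈ Subgroup.normalizer (D.quatSub i hi : Set S) := by
        rw [Subgroup.mem_normalizer_iff]
        have hle : (D.quatSub i hi).map (MulAut.conj (D.x ^ D.P)).toMonoidHom = D.quatSub i hi := by
          refine Subgroup.eq_of_le_of_card_ge ?_
            (Subgroup.card_map_of_injective (MulAut.conj _).injective).ge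
          rintro _ ⟨g, hg, rfl⟩
          show D.x ^ D.P * g * (D.x ^ D.P)⁻¹ ∈ D.quatSub i hi
          rcases (D.mem_quatSub hi g).mp hg with ⟨j, rfl | rfl⟩
          · rw [← zpow_mul, ← zpow_add, ← zpow_neg, ← zpow_add,
              show D.P + 2 * D.P * j + -D.P = D.P * (2 * j) by ring]
            exact (hPodd _).mpr (dvd_mul_right 2 j)
          · have e : D.x ^ D.P * (v * D.q ^ j) * (D.x ^ D.P)⁻¹ =
                (D.x ^ D.P * v * (D.x ^ D.P)⁻¹) * D.q ^ j := by
              calc _ = D.x ^ D.P * v * (D.q ^ j * (D.x ^ D.P)⁻¹) := by group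
                _ = D.x ^ D.P * v * ((D.x ^ D.P)⁻¹ * D.q ^ j) := by
                    rw [← zpow_neg, ← zpow_mul, ← zpow_add, ← zpow_add, add_comm]
                _ = _ := by group
            rw [e]
            refine mul_mem ?_ (zpow_mem (D.q_mem_quatSub hi) j)
            rw [D.conj_zy, add_comm, zpow_add, mul_assoc,
              show (2 - 4 * D.P) * D.P = D.P * (2 * (1 - 2 * D.P)) by ring]
            exact mul_mem ((hPodd _).mpr (dvd_mul_right 2 _)) (D.zy_mem_quatSub hi)
        intro g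
        constructor
        · intro hg
          rw [← hle]
          exact ⟨g, hg, rfl⟩
        · intro hg
          rw [← hle] at hg
          obtain ⟨g', hg', h⟩ := hg
          have h : (MulAut.conj (D.x ^ D.P)) g' = (MulAut.conj (D.x ^ D.P)) g := h
          rwa [← (MulAut.conj (D.x ^ D.P)).injective h]
      rw [Subgroup.relIndex, Subgroup.index_eq_two_iff]
      refine ⟨⟨_, haN⟩, fun b => ?_⟩
      simp only [Subgroup.mem_subgroupOf, Subgroup.coe_mul]
      -- reduce to powers of `x`
      have key : ∀ (j : ℤ), D.x ^ j * v * (D.x ^ j)⁻¹ ∈ D.quatSub i hi → D.P ∣ j := by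
        intro j h
        rw [D.conj_zy, add_comm, zpow_add, mul_assoc,
          Subgroup.mul_mem_cancel_right _ (D.zy_mem_quatSub hi)] at h
        rcases (D.mem_quatSub hi _).mp h with ⟨k, h | h⟩
        · rw [← zpow_mul, D.zpow_eq_iff] at h
          obtain ⟨c, hc⟩ := h
          obtain ⟨a, b, hab⟩ := D.odd_coprime (t := 1 - 2 * D.P) (by omega)
          have h4 : (1 - 2 * D.P) * j = D.P * (4 * c + k) :=
            mul_left_cancel₀ (two_ne_zero' ℤ) (by linear_combination hc)
          exact ⟨8 * a * j + b * (4 * c + k), by linear_combination (-j) * hab + b * h4⟩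
        · rw [← zpow_mul, D.zy_mul] at h
          exact absurd h (D.zpow_ne_zpow_mul_y _ _)
      have hbv : (b : S) * v * (b : S)⁻¹ ∈ D.quatSub i hi :=
        (Subgroup.mem_normalizer_iff.mp b.2 v).mp (D.zy_mem_quatSub hi)
      obtain ⟨m, hm⟩ : ∃ m : ℤ, (b : S) = D.x ^ (D.P * m) ∨ (b : S) = D.x ^ (D.P * m) * v := by
        obtain ⟨j, h | h⟩ := D.normalForm (b : S)
        · rw [h] at hbv
          obtain ⟨m, rfl⟩ := key j hbv
          exact ⟨m, Or.inl h⟩
        · have h' : (b : S) = D.x ^ (j - i) * v := by rw [h, D.mul_zy, sub_add_cancel]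
          rw [h', show D.x ^ (j - i) * v * v * (D.x ^ (j - i) * v)⁻¹ =
            D.x ^ (j - i) * v * (D.x ^ (j - i))⁻¹ by group] at hbv
          obtain ⟨m, hm⟩ := key _ hbv
          exact ⟨m, Or.inr (by rw [h', hm])⟩
      rcases hm with hm | hm
      · rw [hm, ← zpow_add, show D.P * m + D.P = D.P * (m + 1) by ring, hPodd, hPodd]
        show _ ∧ _ ∨ _ ∧ _
        omega
      · have e : D.x ^ (D.P * m) * v * D.x ^ D.P =
            D.x ^ (D.P * (m + (4 * D.P - 1))) * v := by
          rw [mul_assoc, D.zy_mul, D.mul_zy, D.mul_zy]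
          congr 2
          ring
        rw [hm, e, Subgroup.mul_mem_cancel_right _ (D.zy_mem_quatSub hi),
          Subgroup.mul_mem_cancel_right _ (D.zy_mem_quatSub hi), hPodd, hPodd]
        show _ ∧ _ ∨ _ ∧ _
        omega

end Cfsg.Agent.S1191
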