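import Cfsg.Statements.S1192
import Cfsg.Agent.Lib.TwoFusion.QuasiDihedralMax

set_option autoImplicit false
open Cfsg

namespace Cfsg.Agent.S1192

/-- A quasi-dihedral group S of order 2^(n+1) has exactly three maximal subgroups; one is cyclic, one is isomorphic to the generalized quaternion group of order 2^n and one to the dihedral group of order 2^n. -/
theorem result {S : Type*} [Group S] [Finite S] (hS : Cfsg.IsQuasiDihedral S) (n : ℕ) (hn : Nat.card S = 2 ^ (n + 1)) : ∃ M₁ M₂ M₃ : Subgroup S, IsCoatom M₁ ∧ IsCoatom M₂ ∧ IsCoatom M₃ ∧ M₁ ≠ M₂ ∧ M₁ ≠ M₃ ∧ M₂ ≠ M₃ ∧ (∀ M : Subgroup S, IsCoatom M → M = M₁ ∨ M = M₂ ∨ M = M₃) ∧ IsCyclic M₁ ∧ Nonempty (M₂ ≃* QuaternionGroup (2 ^ (n - 2))) ∧ Nonempty (M₃ ≃* DihedralGroup (2 ^ (n - 1))) := by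
  obtain ⟨D⟩ := CfsgLib.TwoFusion.exists_qdGens hS
  have hp : n = D.p + 3 := by
    have := Nat.pow_right_injective le_rfl (hn.symm.trans D.hcard)
    omega
  subst hp
  refine ⟨Subgroup.zpowers D.x, D.quatMax, D.dihMax,
    CfsgLib.TwoFusion.isCoatom_of_index_two (D.index_of_card D.card_zpowers_x),
    CfsgLib.TwoFusion.isCoatom_of_index_two (D.index_of_card D.card_quatMax),
    CfsgLib.TwoFusion.isCoatom_of_index_two (D.index_of_card D.card_dihMax),
    D.x_ne_quat, D.x_ne_dih, D.quat_ne_dih, fun M hM => D.coatom_cases hM, inferInstance, ?_, ?_⟩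
  · rw [show D.p + 3 - 2 = D.p + 1 by omega]; exact D.quatMax_mulEquiv
  · rw [show D.p + 3 - 1 = D.p + 2 by omega]; exact D.dihMax_mulEquiv

end Cfsg.Agent.S1192
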