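import Cfsg.Statements.S1193
import Cfsg.Agent.Lib.TwoFusion.QuasiDihedralMax

set_option autoImplicit false
open Cfsg

namespace Cfsg.Agent.S1193

/-- Let S be quasi-dihedral of order 2^(n+1). Then S' = Φ(S) is cyclic of order 2^(n-1), the centre of S has order 2, and the subgroup generated by the involutions of S is dihedral of order 2^n. -/
theorem result {S : Type*} [Group S] [Finite S] (hS : Cfsg.IsQuasiDihedral S) (n : ℕ) (hn : Nat.card S = 2 ^ (n + 1)) : commutator S = frattini S ∧ IsCyclic (commutator S) ∧ Nat.card (commutator S) = 2 ^ (n - 1) ∧ Nat.card (Subgroup.center S) = 2 ∧ Nonempty (↥(Subgroup.closure {x : S | orderOf x = 2}) ≃* DihedralGroup (2 ^ (n - 1))) := by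
  obtain ⟨D⟩ := CfsgLib.TwoFusion.exists_qdGens hS
  have hp : n = D.p + 3 := by
    have := Nat.pow_right_injective le_rfl (hn.symm.trans D.hcard)
    omega
  subst hp
  rw [D.commutator_eq, D.frattini_eq, D.center_eq]
  refine ⟨rfl, inferInstance, ?_, ?_, ?_⟩
  · rw [Nat.card_zpowers, D.orderOf_x_two, show D.p + 3 - 1 = D.p + 2 by omega]
  · rw [Nat.card_zpowers, D.orderOf_c]
  · rw [show D.p + 3 - 1 = D.p + 2 by omega]
    have e : Subgroup.closure {x : S | orderOf x = 2} = D.dihMax := by
      apply le_antisymm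
      · rw [Subgroup.closure_le]
        intro s hs
        rcases D.orderOf_eq_two_cases hs with rfl | ⟨i, ⟨k, rfl⟩, rfl⟩
        · refine (CfsgLib.TwoFusion.mem_cyclicByInverter _ _ _).mpr ⟨2 * D.P, Or.inl ?_⟩
          show D.x ^ (4 * D.P) = _
          rw [← zpow_mul]; congr 1; ring
        · refine mul_mem ?_ D.y_mem_dihMax
          rw [zpow_mul]; exact zpow_mem D.sq_mem_dihMax k
      · have hy : D.y ∈ Subgroup.closure {x : S | orderOf x = 2} := Subgroup.subset_closure D.hy
        refine D.dihMax_le ?_ hy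
        have h2 : D.x ^ (2 : ℤ) * D.y ∈ Subgroup.closure {x : S | orderOf x = 2} :=
          Subgroup.subset_closure (D.orderOf_zy_even dvd_rfl)
        exact (Subgroup.mul_mem_cancel_right _ hy).mp h2
    rw [e]
    exact D.dihMax_mulEquiv

end Cfsg.Agent.S1193
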