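import Cfsg.Statements.S1194
import Cfsg.Agent.Lib.TwoFusion.QuasiDihedralMax

set_option autoImplicit false
open Cfsg

namespace Cfsg.Agent.S1194

/-- In a quasi-dihedral 2-group S, every proper normal subgroup is either a maximal subgroup or a cyclic subgroup contained in the derived subgroup S'. -/
theorem result {S : Type*} [Group S] [Finite S] (hS : Cfsg.IsQuasiDihedral S) (N : Subgroup S) [N.Normal] (hN : N ≠ ⊤) : IsCoatom N ∨ (IsCyclic N ∧ N ≤ commutator S) := by
  obtain ⟨D⟩ := CfsgLib.TwoFusion.exists_qdGens hS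
  have coat : ∀ M : Subgroup S, Nat.card M = 2 ^ (D.p + 3) → M ≤ N → IsCoatom N := by
    intro M hM hle
    have hc := CfsgLib.TwoFusion.isCoatom_of_index_two (D.index_of_card hM)
    rcases hle.eq_or_lt with h | h
    · exact h ▸ hc
    · exact absurd (hc.2 _ h) hN
  by_cases hy : ∃ i : ℤ, D.x ^ i * D.y ∈ N
  · left
    obtain ⟨i, hi⟩ := hy
    have hall : ∀ k : ℤ, 2 ∣ k - i → D.x ^ k * D.y ∈ N := fun k hk => by
      obtain ⟨s, hs⟩ := D.exists_conj_zy hk
      rw [← hs]
      exact Subgroup.Normal.conj_mem inferInstance _ hi s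
    have h2 : D.x ^ (2 : ℤ) ∈ N := by
      have := mul_mem (hall (i + 2) (by omega)) (inv_mem hi)
      rwa [mul_inv_rev, mul_assoc, mul_inv_cancel_left, ← zpow_neg, ← zpow_add,
        show i + 2 + -i = 2 by ring] at this
    by_cases he : 2 ∣ i
    · refine coat _ D.card_dihMax (D.dihMax_le h2 ?_)
      have := hall 0 (by omega)
      rwa [zpow_zero, one_mul] at this
    · exact coat _ D.card_quatMax (D.quatMax_le h2 (hall 1 (by omega)))
  · push Not at hy
    have hle : N ≤ Subgroup.zpowers D.x := fun g hg => by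
      obtain ⟨j, rfl | rfl⟩ := D.normalForm g
      · exact zpow_mem (Subgroup.mem_zpowers _) j
      · exact absurd hg (hy j)
    by_cases hodd : ∃ i : ℤ, ¬ 2 ∣ i ∧ D.x ^ i ∈ N
    · left
      obtain ⟨i, hi, hiN⟩ := hodd
      refine coat _ D.card_zpowers_x (Subgroup.zpowers_le.mpr ?_)
      obtain ⟨a, b, hab⟩ := D.odd_coprime hi
      have h := zpow_mem hiN b
      rw [← zpow_mul] at h
      have e : D.x ^ (i * b) = D.x ^ (1 : ℤ) :=
        D.zpow_eq_iff.mpr ⟨-a, by linear_combination hab⟩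
      rwa [e, zpow_one] at h
    · right
      push Not at hodd
      refine ⟨Subgroup.isCyclic_of_le hle, fun g hg => ?_⟩
      rw [D.commutator_eq]
      obtain ⟨i, rfl⟩ := hle hg
      have hi : (2 : ℤ) ∣ i := by
        by_contra h
        exact hodd i h hg
      obtain ⟨k, rfl⟩ := hi
      exact ⟨k, by show (D.x ^ (2 : ℤ)) ^ k = D.x ^ (2 * k); rw [zpow_mul]⟩

end Cfsg.Agent.S1194
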