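import Cfsg.Statements.S1195
import Cfsg.Agent.Lib.TwoFusion.WreathedSubgroups

set_option autoImplicit false
open Cfsg

namespace Cfsg.Agent.S1195

/-- A wreathed 2-group has exactly three conjugacy classes of elements of order 2. -/
theorem result {S : Type*} [Group S] [Finite S] (hS : Cfsg.IsWreathed S) : Nat.card {C : ConjClasses S // ∃ t : S, orderOf t = 2 ∧ ConjClasses.mk t = C} = 3 := by
  obtain ⟨D⟩ := CfsgLib.TwoFusion.exists_wrGens hS
  classical
  haveI : Fintype S := Fintype.ofFinite S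
  let C₁ := ConjClasses.mk D.c
  let C₂ := ConjClasses.mk (D.u (2 * D.Q) 0)
  let C₃ := ConjClasses.mk (D.u 0 (-0) * D.z)
  have hset : {C : ConjClasses S | ∃ t : S, orderOf t = 2 ∧ ConjClasses.mk t = C} = {C₁, C₂, C₃} := by
    ext C
    constructor
    · rintro ⟨t, ht, rfl⟩
      have h2 : t ^ 2 = 1 := ht ▸ pow_orderOf_eq_one t
      rcases D.sq_eq_one_cases h2 with rfl | rfl | rfl | rfl | ⟨a, rfl⟩
      · rw [orderOf_one] at ht; omega
      · exact Or.inl rfl
      · exact Or.inr (Or.inl rfl)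
      · refine Or.inr (Or.inl (ConjClasses.mk_eq_mk_iff_isConj.mpr (isConj_iff.mpr ⟨D.z, ?_⟩)))
        rw [D.z_mul_u, mul_inv_cancel_right]
      · refine Or.inr (Or.inr (ConjClasses.mk_eq_mk_iff_isConj.mpr ?_))
        obtain ⟨s, hs⟩ := D.exists_conj_uz (a := a) (b := -a) (a' := 0) (b' := -0) (by simp)
        exact (isConj_iff.mpr ⟨s, hs⟩).symm
    · rintro (rfl | rfl | rfl)
      · exact ⟨_, D.orderOf_c, rfl⟩
      · exact ⟨_, D.orderOf_left, rfl⟩
      · exact ⟨_, D.orderOf_uz_antidiag 0, rfl⟩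
  have hbase : D.base.Normal := Subgroup.normal_of_index_eq_two D.index_base
  have h12 : C₁ ≠ C₂ := fun h => by
    obtain ⟨s, hs⟩ := isConj_iff.mp (ConjClasses.mk_eq_mk_iff_isConj.mp h)
    rw [← D.c_comm, mul_inv_cancel_right] at hs
    exact D.not_dvd_two_Q (by simpa using (D.u_eq_iff.mp hs).2)
  have h13 : C₁ ≠ C₃ := fun h => by
    obtain ⟨s, hs⟩ := isConj_iff.mp (ConjClasses.mk_eq_mk_iff_isConj.mp h)
    rw [← D.c_comm, mul_inv_cancel_right] at hs
    exact D.u_ne_uz _ _ _ _ hs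
  have h23 : C₂ ≠ C₃ := fun h => by
    obtain ⟨s, hs⟩ := isConj_iff.mp (ConjClasses.mk_eq_mk_iff_isConj.mp h)
    exact D.uz_not_mem_base _ _ (hs ▸ hbase.conj_mem _ (D.u_mem_base _ _) s)
  rw [show Nat.card {C : ConjClasses S // ∃ t : S, orderOf t = 2 ∧ ConjClasses.mk t = C}
    = Set.ncard {C : ConjClasses S | ∃ t : S, orderOf t = 2 ∧ ConjClasses.mk t = C} from rfl, hset,
    Set.ncard_insert_of_notMem (by simp [h12, h13]) (Set.toFinite _), Set.ncard_pair h23]

end Cfsg.Agent.S1195
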