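import Cfsg.Statements.S1197
import Cfsg.Agent.Lib.TwoFusion.WreathedQuaternion

set_option autoImplicit false
open Cfsg

namespace Cfsg.Agent.S1197

/-- Let S be a wreathed 2-group of order 2^(2n+1). Then Z(S) is cyclic of order 2^n, the derived subgroup S' is cyclic of order 2^n, and S/Z(S) is isomorphic to the dihedral group of order 2^(n+1). -/
theorem result {S : Type*} [Group S] [Finite S] (hS : Cfsg.IsWreathed S) (n : ℕ) (hn : Nat.card S = 2 ^ (2 * n + 1)) : IsCyclic (Subgroup.center S) ∧ Nat.card (Subgroup.center S) = 2 ^ n ∧ IsCyclic (commutator S) ∧ Nat.card (commutator S) = 2 ^ n ∧ Nonempty (S ⧸ Subgroup.center S ≃* DihedralGroup (2 ^ n)) := by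
  obtain ⟨D⟩ := CfsgLib.TwoFusion.exists_wrGens hS
  obtain rfl := D.n_eq hn
  refine ⟨?_, D.card_center, ?_, ?_, D.quotient_center_mulEquiv⟩
  · rw [D.center_eq]; infer_instance
  · rw [D.commutator_eq]; infer_instance
  · rw [D.commutator_eq, Nat.card_zpowers, D.orderOf_antidiag]

end Cfsg.Agent.S1197
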