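import Cfsg.Statements.S1198
import Cfsg.Agent.Lib.TwoFusion.WreathedSubgroups

set_option autoImplicit false
open Cfsg

namespace Cfsg.Agent.S1198

/-- A wreathed 2-group S has a normal Klein four-subgroup T such that every Klein four-subgroup of S other than T is conjugate in S to any other such subgroup; in particular S has exactly two conjugacy classes of Klein four-subgroups. -/
theorem result {S : Type*} [Group S] [Finite S] (hS : Cfsg.IsWreathed S) : ∃ T : Subgroup S, IsKleinFour T ∧ T.Normal ∧ (∃ T₀ : Subgroup S, IsKleinFour T₀ ∧ T₀ ≠ T) ∧ ∀ T₁ T₂ : Subgroup S, IsKleinFour T₁ → IsKleinFour T₂ → T₁ ≠ T → T₂ ≠ T → ∃ s : S, T₁.map (MulAut.conj s).toMonoidHom = T₂ := by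
  obtain ⟨D⟩ := CfsgLib.TwoFusion.exists_wrGens hS
  have hbase : D.base.Normal := Subgroup.normal_of_index_eq_two D.index_base
  refine ⟨D.baseOmega, D.isKleinFour_baseOmega, ⟨fun g hg s => ?_⟩, ?_, ?_⟩
  · refine ⟨hbase.conj_mem g hg.1 s, ?_⟩
    calc s * g * s⁻¹ * (s * g * s⁻¹) = s * (g * g) * s⁻¹ := by group
      _ = 1 := by rw [hg.2]; group
  · -- another four-group
    classical
    set v := D.u 0 (-0) * D.z with hv
    have hvv : v * v = 1 := by rw [← pow_two, D.uz_sq, add_neg_cancel, D.u_zero]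
    have hcv := D.c_comm v
    have hcc := D.c_mul_c
    have hvi : v⁻¹ = v := inv_eq_of_mul_eq_one_right hvv
    have hci : D.c⁻¹ = D.c := inv_eq_of_mul_eq_one_right hcc
    let T₀ : Subgroup S :=
      { carrier := {1, D.c, v, D.c * v}
        one_mem' := Or.inl rfl
        mul_mem' := by
          rintro _ _ (rfl | rfl | rfl | rfl) (rfl | rfl | rfl | rfl) <;>
            simp [hvv, hcc, ← hcv, mul_assoc, ← mul_assoc D.c D.c] <;>
            simp [← mul_assoc, hcc, hvv, ← hcv] <;>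
            simp [mul_assoc, hvv, hcc]
        inv_mem' := by
          rintro _ (rfl | rfl | rfl | rfl) <;> simp [mul_inv_rev, hvi, hci, ← hcv] }
    have hvo : v ≠ 1 := fun h => D.u_ne_uz 0 0 0 (-0) (by rw [D.u_zero]; exact h.symm)
    have hcvne : D.c ≠ v := fun h => D.u_ne_uz _ _ _ _ h
    refine ⟨T₀, ⟨?_, ?_⟩, fun h => D.uz_not_mem_base 0 (-0)
      ((h ▸ (Or.inr (Or.inr (Or.inl rfl)) : v ∈ T₀) : v ∈ D.baseOmega).1)⟩
    · show ({1, D.c, v, D.c * v} : Set S).ncard = 4
      have h1 : (1 : S) ≠ D.c * v := fun h => hcvne (by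
        calc D.c = D.c * (v * v) := by rw [hvv, mul_one]
          _ = v := by rw [← mul_assoc, ← h, one_mul])
      have h2 : D.c ≠ D.c * v := fun h => hvo (mul_eq_left.mp h.symm)
      have h3 : v ≠ D.c * v := fun h => D.c_ne_one (mul_eq_right.mp h.symm)
      rw [Set.ncard_insert_of_notMem (by simp [D.c_ne_one.symm, hvo.symm, h1]) (Set.toFinite _),
        Set.ncard_insert_of_notMem (by simp [hcvne, h2]) (Set.toFinite _),
        Set.ncard_pair h3]
    · haveI : Nontrivial T₀ :=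
        ⟨⟨⟨D.c, Or.inr (Or.inl rfl)⟩, 1, fun h => D.c_ne_one (congrArg Subtype.val h)⟩⟩
      refine (Monoid.exponent_eq_prime_iff Nat.prime_two).mpr ?_
      rintro ⟨g, rfl | rfl | rfl | rfl⟩ hg <;> refine orderOf_eq_prime (Subtype.ext ?_) hg <;>
        simp only [SubgroupClass.coe_pow, pow_two, OneMemClass.coe_one]
      · exact mul_one 1
      · exact hcc
      · exact hvv
      · show D.c * v * (D.c * v) = 1
        rw [mul_assoc, ← mul_assoc v, ← hcv, mul_assoc D.c, hvv, mul_one, hcc]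
  · intro T₁ T₂ h₁ h₂ hne₁ hne₂
    obtain ⟨a, haT, hm₁⟩ := D.mem_klein_iff h₁ hne₁
    obtain ⟨b, hbT, hm₂⟩ := D.mem_klein_iff h₂ hne₂
    obtain ⟨s, hs⟩ := D.exists_conj_uz (a := b) (b := -b) (a' := a) (b' := -a) (by simp)
    refine ⟨s, ?_⟩
    ext g
    rw [hm₂, Subgroup.mem_map_equiv, MulAut.conj_symm_apply, hm₁]
    have e1 : s⁻¹ * g * s * (D.u a (-a) * D.z) = s⁻¹ * (g * (D.u b (-b) * D.z)) * s := by
      rw [← hs]; group
    have e2 : ∀ a : S, s⁻¹ * a * s = 1 ↔ a = 1 := fun a => by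
      rw [← MulAut.conj_symm_apply, map_eq_one_iff _ (MulEquiv.injective _)]
    have e3 : ∀ a : S, s⁻¹ * a * s = D.c ↔ a = D.c := fun a => by
      rw [mul_assoc, inv_mul_eq_iff_eq_mul, ← D.c_comm, mul_left_inj]
    rw [e1, e2, e3, e2, e3]

end Cfsg.Agent.S1198
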