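import Cfsg.Statements.S1199
import Cfsg.Agent.Lib.TwoFusion.WreathedQuaternion

set_option autoImplicit false
open Cfsg

namespace Cfsg.Agent.S1199

/-- A wreathed 2-group S of order 2^(2n+1) has exactly one subgroup of order 2^(n+1) isomorphic to a generalized quaternion group, and that subgroup is normal in S. -/
theorem result {S : Type*} [Group S] [Finite S] (hS : Cfsg.IsWreathed S) (n : ℕ) (hn : Nat.card S = 2 ^ (2 * n + 1)) : (∃! Y : Subgroup S, Nat.card Y = 2 ^ (n + 1) ∧ Nonempty (Y ≃* QuaternionGroup (2 ^ (n - 1)))) ∧ ∀ Y : Subgroup S, Nat.card Y = 2 ^ (n + 1) → Nonempty (Y ≃* QuaternionGroup (2 ^ (n - 1))) → Y.Normal := by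
  obtain ⟨D⟩ := CfsgLib.TwoFusion.exists_wrGens hS
  obtain rfl := D.n_eq hn
  rw [show D.k + 2 - 1 = D.k + 1 by omega]
  refine ⟨⟨D.quatSub, ⟨D.card_quatSub, D.quatSub_mulEquiv⟩,
    fun Y hY => D.quaternion_subgroup_eq hY.2.some⟩, fun Y _ hY => ⟨fun g hg s => ?_⟩⟩
  obtain ⟨e⟩ := hY
  have h := D.quaternion_subgroup_eq
    ((Subgroup.equivMapOfInjective Y (MulAut.conj s).toMonoidHom (MulAut.conj s).injective).symm.trans e)
  rw [← D.quaternion_subgroup_eq e] at h
  rw [← h]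
  exact ⟨g, hg, rfl⟩

end Cfsg.Agent.S1199
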