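import Cfsg.Statements.S1200
import Cfsg.Agent.Lib.TwoFusion.WreathedQuaternion

set_option autoImplicit false
open Cfsg

namespace Cfsg.Agent.S1200

/-- Let S be a wreathed 2-group of order 2^(2n+1) and Ω the subgroup generated by its involutions. Then Ω has order 2^(n+2) and S/Ω is cyclic: some s ∈ S together with Ω generates S. -/
theorem result {S : Type*} [Group S] [Finite S] (hS : Cfsg.IsWreathed S) (n : ℕ) (hn : Nat.card S = 2 ^ (2 * n + 1)) : Nat.card (Subgroup.closure {x : S | orderOf x = 2}) = 2 ^ (n + 2) ∧ ∃ s : S, Subgroup.closure {x : S | orderOf x = 2} ⊔ Subgroup.zpowers s = ⊤ := by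
  obtain ⟨D⟩ := CfsgLib.TwoFusion.exists_wrGens hS
  obtain rfl := D.n_eq hn
  rw [D.omega_eq_closure]
  refine ⟨D.card_omega, D.u 1 0, (Subgroup.eq_top_iff' _).mpr fun s => ?_⟩
  set K := D.omega ⊔ Subgroup.zpowers (D.u 1 0)
  have hx : D.u 1 0 ∈ K := Subgroup.mem_sup_right (Subgroup.mem_zpowers _)
  have hz : D.z ∈ K := Subgroup.mem_sup_left
    (D.mem_omega.mpr ⟨0, 0, ⟨0, by ring⟩, Or.inr (by rw [D.u_zero, one_mul])⟩)
  have hu : ∀ a b : ℤ, D.u a b ∈ K := by
    intro a b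
    have h : D.u 1 0 ^ a * (D.z * D.u 1 0 * D.z⁻¹) ^ b ∈ K :=
      mul_mem (zpow_mem hx a) (zpow_mem (mul_mem (mul_mem hz hx) (inv_mem hz)) b)
    rw [D.z_mul_u, mul_inv_cancel_right, D.u_zpow, D.u_zpow, D.u_mul] at h
    simpa using h
  obtain ⟨a, b, rfl | rfl⟩ := D.normalForm s
  · exact hu a b
  · exact mul_mem (hu a b) hz

end Cfsg.Agent.S1200
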