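import Cfsg.Statements.S1202
import Cfsg.Agent.Lib.TwoFusion.WreathedCentric

set_option autoImplicit false
open Cfsg

namespace Cfsg.Agent.S1202

/-- Let S be a wreathed 2-group of order 2^(2n+1) and X a subgroup with C_S(X) ≤ X such that Aut(X) is not a 2-group. Then |N_S(X) : X| = 2, and either X is the commutative subgroup of order 2^(2n), or X = Q·Z(S) for some subgroup Q ≅ Q₈; in the latter case any two such subgroups are conjugate in S. -/
theorem result {S : Type*} [Group S] [Finite S] (hS : Cfsg.IsWreathed S) (n : ℕ) (hn : Nat.card S = 2 ^ (2 * n + 1)) (X : Subgroup S) (hC : Subgroup.centralizer (X : Set S) ≤ X) (hA : ¬ IsPGroup 2 (MulAut X)) : X.relIndex (Subgroup.normalizer (X : Set S)) = 2 ∧ ((IsMulCommutative X ∧ Nat.card X = 2 ^ (2 * n)) ∨ ∃ Q : Subgroup S, Nonempty (Q ≃* QuaternionGroup 2) ∧ X = Q ⊔ Subgroup.center S) ∧ ∀ X' : Subgroup S, Subgroup.centralizer (X' : Set S) ≤ X' → ¬ IsPGroup 2 (MulAut X') → ¬ IsMulCommutative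 X → ¬ IsMulCommutative X' → ∃ s : S, X.map (MulAut.conj s).toMonoidHom = X' := by
  obtain ⟨D⟩ := CfsgLib.TwoFusion.exists_wrGens hS
  obtain rfl := D.n_eq hn
  obtain ⟨φ, j, hodd, hj, hφ⟩ := CfsgLib.TwoFusion.OddAut.exists_ne_one_odd hA
  have habel : ∀ Y : Subgroup S, Y ≤ D.base → IsMulCommutative Y := fun Y h =>
    ⟨⟨fun p q => Subtype.ext (congrArg (fun t : D.base => (t : S))
      (D.base_comm.is_comm.comm ⟨_, h p.2⟩ ⟨_, h q.2⟩))⟩⟩
  by_cases hXb : X ≤ D.base
  · have hle : D.base ≤ X := fun g hg => hC (Subgroup.mem_centralizer_iff.mpr fun h hh =>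
      congrArg Subtype.val (D.base_comm.is_comm.comm ⟨h, hXb hh⟩ ⟨g, hg⟩))
    obtain rfl : X = D.base := le_antisymm hXb hle
    haveI : D.base.Normal := Subgroup.normal_of_index_eq_two D.index_base
    refine ⟨?_, Or.inl ⟨D.base_comm, D.card_base⟩, fun _ _ _ h => absurd D.base_comm h⟩
    rw [Subgroup.normalizer_eq_top D.base, Subgroup.relIndex_top_right, D.index_base]
  obtain ⟨δ, hδ, hmem⟩ := D.exists_isQZ hC hXb hodd hj hφ
  obtain ⟨e, he⟩ := hδ
  have hQ := D.Q_pos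
  have hwX : D.u δ 0 * D.z ∈ X := (hmem δ 0).2.mpr ⟨0, by ring⟩
  have hN : ∀ t s : ℤ, D.u t s ∈ Subgroup.normalizer (X : Set S) ↔ D.Q ∣ t - s := by
    intro t s
    constructor
    · intro h
      have h1 := (Subgroup.mem_normalizer_iff.mp h _).mp hwX
      rw [D.conj_uz] at h1
      obtain ⟨m, hm⟩ := (hmem _ _).2.mp h1
      exact ⟨m, mul_left_cancel₀ (two_ne_zero' ℤ) (by linear_combination hm)⟩
    · rintro ⟨m, hm⟩
      rw [Subgroup.mem_normalizer_iff]
      intro g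
      obtain ⟨a, b, rfl | rfl⟩ := D.normalForm g
      · rw [D.u_mul, D.u_inv, D.u_mul, (hmem _ _).1, (hmem _ _).1,
          show t + a + -t - (s + b + -s) = a - b by ring]
      · rw [D.conj_uz, (hmem _ _).2, (hmem _ _).2,
          show a + (t - s) - (b - (t - s)) - δ = a - b - δ + 2 * D.Q * m by linear_combination 2 * hm]
        exact (dvd_add_left (dvd_mul_right _ _)).symm
  refine ⟨?_, Or.inr ?_, ?_⟩
  · rw [Subgroup.relIndex, Subgroup.index_eq_two_iff]
    refine ⟨⟨D.u D.Q 0, (hN _ _).mpr ⟨1, by ring⟩⟩, fun b => ?_⟩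
    simp only [Subgroup.mem_subgroupOf, Subgroup.coe_mul]
    have hpar : ∀ m : ℤ, 2 * D.Q ∣ D.Q * m ↔ 2 ∣ m := fun m => by
      rw [mul_comm 2 D.Q, mul_dvd_mul_iff_left hQ.ne']
    obtain ⟨a, c, h | h⟩ := D.normalForm (b : S)
    · obtain ⟨m, hm⟩ := (hN a c).mp (h ▸ b.2)
      rw [h, D.u_mul, (hmem _ _).1, (hmem _ _).1,
        show a + D.Q - (c + 0) = D.Q * (m + 1) by linear_combination hm, hm, hpar, hpar]
      show _ ∧ _ ∨ _ ∧ _
      omega
    · have h1 : D.u a c * D.z * (D.u δ 0 * D.z)⁻¹ ∈ Subgroup.normalizer (X : Set S) :=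
        mul_mem (h ▸ b.2) (inv_mem (Subgroup.le_normalizer hwX))
      rw [D.uz_inv, D.uz_mul_uz, hN] at h1
      obtain ⟨m, hm⟩ := h1
      rw [h, D.uz_mul_u, (hmem _ _).2, (hmem _ _).2,
        show a + 0 - (c + D.Q) - δ = D.Q * (m - 1) by linear_combination hm,
        show a - c - δ = D.Q * m by linear_combination hm, hpar, hpar]
      show _ ∧ _ ∨ _ ∧ _
      omega
  · -- the quaternion subgroup
    set qq := D.u D.Q (-D.Q) with hqq
    set v := D.u (D.Q + e) (D.Q - e) * D.z with hv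
    have hord : orderOf qq = 2 * 2 := by
      refine orderOf_eq_prime_pow (p := 2) (n := 1) ?_ ?_
      · rw [hqq, D.u_pow, D.u_eq_one_iff]
        rintro ⟨h1, -⟩
        exact D.not_dvd_two_Q (by rw [mul_comm 2 D.Q]; exact_mod_cast h1)
      · rw [hqq, D.u_pow, D.u_eq_one_iff]
        exact ⟨⟨1, by push_cast; ring⟩, ⟨-1, by push_cast; ring⟩⟩
    have hinv : v * qq * v⁻¹ = qq⁻¹ := by rw [hv, hqq, D.uz_conj_u, D.u_inv, neg_neg]
    have hsq : v * v = qq ^ 2 := by
      rw [hv, hqq, D.uz_mul_uz, D.u_pow, D.u_eq_iff]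
      exact ⟨⟨0, by push_cast; ring⟩, ⟨1, by push_cast; ring⟩⟩
    have hmem0 : v * v ∈ Subgroup.zpowers qq := by rw [hsq]; exact Subgroup.npow_mem_zpowers _ _
    let Q0 := CfsgLib.TwoFusion.cyclicByInverter qq v hinv hmem0
    have hQ0 : Nonempty (Q0 ≃* QuaternionGroup 2) :=
      CfsgLib.TwoFusion.exists_quaternion_mulEquiv (by norm_num) hord hsq hinv
        (by
          rintro ⟨i, hi⟩
          have hi : qq ^ i = v := hi
          rw [hqq, D.u_zpow] at hi
          exact D.u_ne_uz _ _ _ _ hi) _ (fun _ => Iff.rfl)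
    have hqX : qq ∈ X := (hmem _ _).1.mpr ⟨1, by ring⟩
    have hvX : v ∈ X := (hmem _ _).2.mpr ⟨0, by linear_combination -he⟩
    refine ⟨Q0, hQ0, le_antisymm ?_ (sup_le ?_ ?_)⟩
    · intro g hg
      have hz : ∀ t : ℤ, D.u t t ∈ Q0 ⊔ Subgroup.center S := fun t =>
        Subgroup.mem_sup_right (D.mem_center_iff_diag.mpr (by rw [sub_self]; exact dvd_zero _))
      have hq' : qq ∈ Q0 ⊔ Subgroup.center S :=
        Subgroup.mem_sup_left ((CfsgLib.TwoFusion.mem_cyclicByInverter _ _ _).mpr ⟨1, Or.inl (zpow_one _).symm⟩)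
      have hv' : v ∈ Q0 ⊔ Subgroup.center S :=
        Subgroup.mem_sup_left ((CfsgLib.TwoFusion.mem_cyclicByInverter _ _ _).mpr ⟨0, Or.inr (by simp)⟩)
      have hbase : ∀ a b : ℤ, 2 * D.Q ∣ a - b → D.u a b ∈ Q0 ⊔ Subgroup.center S := by
        rintro a b ⟨m, hm⟩
        have := mul_mem (zpow_mem hq' m) (hz (a - D.Q * m))
        rw [hqq, D.u_zpow, D.u_mul] at this
        convert this using 2
        · ring
        · linear_combination -hm
      obtain ⟨a, b, rfl | rfl⟩ := D.normalForm g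
      · exact hbase a b ((hmem a b).1.mp hg)
      · have e1 : D.u a b * D.z = D.u (a - (D.Q + e)) (b - (D.Q - e)) * v := by
          rw [hv, D.u_mul_uz, sub_add_cancel, sub_add_cancel]
        rw [e1]
        refine mul_mem (hbase _ _ ?_) hv'
        obtain ⟨m, hm⟩ := (hmem a b).2.mp hg
        exact ⟨m, by linear_combination hm + he⟩
    · intro g hg
      obtain ⟨i, rfl | rfl⟩ := (CfsgLib.TwoFusion.mem_cyclicByInverter _ _ _).mp hg
      · exact zpow_mem hqX i
      · exact mul_mem hvX (zpow_mem hqX i)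
    · intro g hg
      exact hC (Subgroup.mem_centralizer_iff.mpr fun h _ => Subgroup.mem_center_iff.mp hg h)
  · intro X' hC' hA' _ hX'
    obtain ⟨φ', j', hodd', hj', hφ'⟩ := CfsgLib.TwoFusion.OddAut.exists_ne_one_odd hA'
    obtain ⟨δ', ⟨e', he'⟩, hmem'⟩ := D.exists_isQZ hC' (fun h => hX' (habel X' h)) hodd' hj' hφ'
    refine ⟨D.u (e' - e) 0, ?_⟩
    ext g
    rw [Subgroup.mem_map_equiv, MulAut.conj_symm_apply]
    rw [D.u_inv]
    obtain ⟨a, b, rfl | rfl⟩ := D.normalForm g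
    · rw [D.u_mul, D.u_mul, (hmem _ _).1, (hmem' _ _).1,
        show -(e' - e) + a + (e' - e) - (-0 + b + 0) = a - b by ring]
    · rw [D.u_mul_uz, D.uz_mul_u, (hmem _ _).2, (hmem' _ _).2,
        show -(e' - e) + a + 0 - (-0 + b + (e' - e)) - δ = a - b - δ' by linear_combination he' - he]

end Cfsg.Agent.S1202
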