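import Cfsg.Statements.S1227
import Cfsg.Agent.Lib.SEmb.Zassenhaus


set_option autoImplicit false
open Cfsg

namespace Cfsg.Agent.S1227

/-- Let G be a finite group with a Sylow 2-subgroup T that is neither cyclic nor normal, such that the centralizer of every involution is an elementary abelian 2-group; put H = N_G(T), let u be an involution outside H and D = H ∩ uHu⁻¹. Then u inverts every element of D, |H| = |T|·(|T| − 1), and D is a complement to T in H. -/
theorem result {G : Type*} [Group G] [Finite G] (T : Sylow 2 G) (hnc : ¬ IsCyclic (T : Subgroup G)) (hnn : ¬ (T : Subgroup G).Normal) (hC : ∀ t : G, orderOf t = 2 → IsMulCommutative (Subgroup.centralizer ({t} : Set G)) ∧ ∀ c ∈ Subgroup.centralizer ({t} : Set G), c ^ 2 = 1) (u : G) (hu : orderOf u = 2) (huH : u ∉ Subgroup.normalizer ((T : Subgroup G) : Set G)) : (∀ d ∈ Subgroup.normalizer ((T : Subgroup G) : Set G) ⊓ (Subgroup.normalizer ((T : Subgroup G) : Set G)).map (MulAut.conj u).toMonoidHom, u * d * u⁻¹ = d⁻¹) ∧ Nat.card (Subgroup.normalizer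 ((T : Subgroup G) : Set G)) = Nat.card T * (Nat.card T - 1) ∧ Subgroup.IsComplement' ((Subgroup.normalizer ((T : Subgroup G) : Set G) ⊓ (Subgroup.normalizer ((T : Subgroup G) : Set G)).map (MulAut.conj u).toMonoidHom).subgroupOf (Subgroup.normalizer ((T : Subgroup G) : Set G))) ((T : Subgroup G).subgroupOf (Subgroup.normalizer ((T : Subgroup G) : Set G))) := by
  have h : CfsgLib.SEmb.ElemCent T := ⟨hnc, hnn, hC⟩
  have hne := h.base_ne huH
  have hmem := fun d : G =>
    CfsgLib.SEmb.mem_inter_iff (H := Subgroup.normalizer ((T : Subgroup G) : Set G)) u d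
  set D : Subgroup G := Subgroup.normalizer ((T : Subgroup G) : Set G) ⊓
    (Subgroup.normalizer ((T : Subgroup G) : Set G)).map (MulAut.conj u).toMonoidHom with hD
  have hDeq : D = MulAction.stabilizer G (QuotientGroup.mk 1 : G ⧸ Subgroup.normalizer ((T : Subgroup G) : Set G))
      ⊓ MulAction.stabilizer G (QuotientGroup.mk u : G ⧸ Subgroup.normalizer ((T : Subgroup G) : Set G)) := by
    ext d; exact hmem d
  have hcompl : Subgroup.IsComplement' (D.subgroupOf (Subgroup.normalizer ((T : Subgroup G) : Set G)))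
      ((T : Subgroup G).subgroupOf (Subgroup.normalizer ((T : Subgroup G) : Set G))) := by
    refine Subgroup.isComplement'_of_disjoint_and_mul_eq_univ ?_ ?_
    · rw [disjoint_iff, eq_bot_iff]
      rintro ⟨d, _⟩ ⟨hdD, hdT⟩
      exact Subgroup.mem_bot.mpr (Subtype.ext (h.eq_one_of_two_fix (h.sq_T hdT) hne
        ((hmem d).mp hdD).1 ((hmem d).mp hdD).2))
    · refine Set.eq_univ_of_forall fun g => ?_
      obtain ⟨d, k, hg, hd, hk, hko⟩ :=
        h.exists_factor hne ((CfsgLib.SEmb.smul_one_eq_iff (g : G)).mpr g.2)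
      have hkT : k ∈ (T : Subgroup G) := by
        rcases eq_or_ne k 1 with rfl | hk1
        · exact Subgroup.one_mem _
        · exact (h.invol_fix_base (CfsgLib.Invol.orderOf_eq_two hk1 hk)).mp hko
      exact ⟨⟨d, (CfsgLib.SEmb.smul_one_eq_iff d).mp hd.1⟩, (hmem d).mpr hd,
        ⟨k, Subgroup.le_normalizer hkT⟩, hkT, Subtype.ext hg.symm⟩
  refine ⟨fun d hd => h.inverts hne hu h.swap_base ((hmem d).mp hd).1 ((hmem d).mp hd).2, ?_, hcompl⟩
  rw [← hcompl.card_mul, Nat.card_congr (Subgroup.subgroupOfEquivOfLe Subgroup.le_normalizer).toEquiv,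
    Nat.card_congr (Subgroup.subgroupOfEquivOfLe (inf_le_left : D ≤ _)).toEquiv, ← hD, hDeq,
    h.card_stab hne, mul_comm]

end Cfsg.Agent.S1227
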