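import Cfsg.Statements.S1228
import Cfsg.Agent.Lib.SEmb.Zassenhaus
import Cfsg.Agent.Lib.TwoFusion.ConjUtil


set_option autoImplicit false
open Cfsg

namespace Cfsg.Agent.S1228

/-- Let G be a finite group with a Sylow 2-subgroup T that is neither cyclic nor normal, such that the centralizer of every involution is an elementary abelian 2-group; put H = N_G(T), let u be an involution outside H and D = H ∩ uHu⁻¹. Then N_G(D) = D ⊔ ⟨u⟩, and a coset gH is fixed by every element of D exactly when gH = H or gH = uH. -/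
theorem result {G : Type*} [Group G] [Finite G] (T : Sylow 2 G) (hnc : ¬ IsCyclic (T : Subgroup G)) (hnn : ¬ (T : Subgroup G).Normal) (hC : ∀ t : G, orderOf t = 2 → IsMulCommutative (Subgroup.centralizer ({t} : Set G)) ∧ ∀ c ∈ Subgroup.centralizer ({t} : Set G), c ^ 2 = 1) (u : G) (hu : orderOf u = 2) (huH : u ∉ Subgroup.normalizer ((T : Subgroup G) : Set G)) : Subgroup.normalizer ((Subgroup.normalizer ((T : Subgroup G) : Set G) ⊓ (Subgroup.normalizer ((T : Subgroup G) : Set G)).map (MulAut.conj u).toMonoidHom : Subgroup G) : Set G) = (Subgroup.normalizer ((T : Subgroup G) : Set G) ⊓ (Subgroup.normalizer ((T : Subgroup G) : Set G)).map (MulAut.conj u).toMonoidHom) ⊔ Subgroup.zpowers u ∧ ∀ g : G, ((∀ d ∈ Subgroup.normalizer ((T : Subgroup G) : Set G) ⊓ (Subgroup.normalizer ((T : Subgroup G) : Set G)).map (MulAut.conj u).toMonoidHom, d • (QuotientGroup.mk g : G ⧸ Subgroup.normalizer ((T : Subgroup G) : Set G)) = QuotientGroup.mk g) ↔ (QuotientGroup.mk g : G ⧸ Subgroup.normalizer ((T : Subgroup G) : Set G))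 = QuotientGroup.mk 1 ∨ (QuotientGroup.mk g : G ⧸ Subgroup.normalizer ((T : Subgroup G) : Set G)) = QuotientGroup.mk u) := by
  have h : CfsgLib.SEmb.ElemCent T := ⟨hnc, hnn, hC⟩
  have hne := h.base_ne huH
  have hsw := h.swap_base (u := u)
  have hback := (CfsgLib.SEmb.smul_invol_eq_iff hu _ _).mp hsw
  have hmem := fun d : G =>
    CfsgLib.SEmb.mem_inter_iff (H := Subgroup.normalizer ((T : Subgroup G) : Set G)) u d
  have hfix : ∀ z : G ⧸ Subgroup.normalizer ((T : Subgroup G) : Set G),
      (∀ d ∈ Subgroup.normalizer ((T : Subgroup G) : Set G) ⊓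
          (Subgroup.normalizer ((T : Subgroup G) : Set G)).map (MulAut.conj u).toMonoidHom,
        d • z = z) ↔ z = QuotientGroup.mk 1 ∨ z = QuotientGroup.mk u := by
    intro z
    refine ⟨fun hz => h.fixed_points hne fun d h1 h2 => hz d ((hmem d).mpr ⟨h1, h2⟩), ?_⟩
    rintro (rfl | rfl) d hd
    exacts [((hmem d).mp hd).1, ((hmem d).mp hd).2]
  refine ⟨le_antisymm ?_ (sup_le Subgroup.le_normalizer ?_), fun g => hfix _⟩
  · intro g hg
    have key : ∀ g' : G,
        g' ∈ Subgroup.normalizer ((Subgroup.normalizer ((T : Subgroup G) : Set G) ⊓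
          (Subgroup.normalizer ((T : Subgroup G) : Set G)).map (MulAut.conj u).toMonoidHom :
            Subgroup G) : Set G) →
        g' • (QuotientGroup.mk 1 : G ⧸ Subgroup.normalizer ((T : Subgroup G) : Set G)) =
          QuotientGroup.mk 1 →
        g' ∈ Subgroup.normalizer ((T : Subgroup G) : Set G) ⊓
          (Subgroup.normalizer ((T : Subgroup G) : Set G)).map (MulAut.conj u).toMonoidHom := by
      intro g' hg' h1
      refine (hmem g').mpr ⟨h1, h.stab_self_normalizing hne h1 fun d hd1 hd2 => ?_⟩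
      exact ((hmem _).mp ((Subgroup.mem_normalizer_iff''.mp hg' d).mp
        ((hmem d).mpr ⟨hd1, hd2⟩))).2
    have hu' : u ∈ Subgroup.normalizer ((Subgroup.normalizer ((T : Subgroup G) : Set G) ⊓
          (Subgroup.normalizer ((T : Subgroup G) : Set G)).map (MulAut.conj u).toMonoidHom :
            Subgroup G) : Set G) := by
      refine CfsgLib.TwoFusion.ConjUtil.mem_normalizer_of_conj_mem u fun d hd => ?_
      rw [h.inverts hne hu hsw ((hmem d).mp hd).1 ((hmem d).mp hd).2]
      exact Subgroup.inv_mem _ hd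
    have hz : g • (QuotientGroup.mk 1 : G ⧸ Subgroup.normalizer ((T : Subgroup G) : Set G)) =
          QuotientGroup.mk 1 ∨
        g • (QuotientGroup.mk 1 : G ⧸ Subgroup.normalizer ((T : Subgroup G) : Set G)) =
          QuotientGroup.mk u := by
      refine (hfix _).mp fun d hd => ?_
      have h2 := congrArg (g • ·) ((hmem _).mp ((Subgroup.mem_normalizer_iff''.mp hg d).mp hd)).1
      simp only [smul_smul] at h2
      rw [smul_smul, show d * g = g * (g⁻¹ * d * g) by simp [mul_assoc]]
      exact h2
    rcases hz with hz | hz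
    · exact Subgroup.mem_sup_left (key g hg hz)
    · have h2 := key (u * g) (Subgroup.mul_mem _ hu' hg) (by rw [← smul_smul, hz, hback])
      rw [show g = u * (u * g) by rw [← mul_assoc, CfsgLib.Invol.mul_self_eq_one hu, one_mul]]
      exact Subgroup.mul_mem _ (Subgroup.mem_sup_right (Subgroup.mem_zpowers u))
        (Subgroup.mem_sup_left h2)
  · rw [Subgroup.zpowers_le]
    refine CfsgLib.TwoFusion.ConjUtil.mem_normalizer_of_conj_mem u fun d hd => ?_
    rw [h.inverts hne hu hsw ((hmem d).mp hd).1 ((hmem d).mp hd).2]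
    exact Subgroup.inv_mem _ hd

end Cfsg.Agent.S1228
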