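import Cfsg.Statements.S1231
import Cfsg.Agent.Lib.TwoFusion.PRank


set_option autoImplicit false
open Cfsg

namespace Cfsg.Agent.S1231

/-- Let H be a subgroup of the finite group G, p a prime, k ≥ 1, and P a Sylow p-subgroup of H whose p-rank is at least k. Then N_G(X) ≤ H for every subgroup X of P of p-rank at least k if and only if H ∩ gHg⁻¹ has p-rank less than k for every g ∉ H. -/
theorem result {G : Type*} [Group G] [Finite G] {p : ℕ} [Fact p.Prime] (k : ℕ) (hk : 1 ≤ k) (H : Subgroup G) (P : Sylow p ↥H) (hP : ¬ Cfsg.PRankLE p (k - 1) ↥(P : Subgroup ↥H)) : (∀ X : Subgroup G, X ≤ (P : Subgroup ↥H).map H.subtype → ¬ Cfsg.PRankLE p (k - 1) ↥X → Subgroup.normalizer (X : Set G) ≤ H) ↔ (∀ g : G, g ∉ H → Cfsg.PRankLE p (k - 1) ↥(H ⊓ H.map (MulAut.conj g).toMonoidHom)) := by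
  have hP' : ¬ Cfsg.PRankLE p (k - 1) ↥((P : Subgroup ↥H).map H.subtype) := fun h => hP <|
    CfsgLib.TwoFusion.PRank.pRankLE_of_injective
      ((P : Subgroup ↥H).equivMapOfInjective _ H.subtype_injective).toMonoidHom
      ((P : Subgroup ↥H).equivMapOfInjective _ H.subtype_injective).injective h
  refine ⟨fun hN g hg => ?_, fun h X hX hXr y hy => ?_⟩
  · by_contra hr
    obtain ⟨A, hA, hAp, hAr⟩ := CfsgLib.TwoFusion.PRank.exists_pSubgroup_of_not_pRankLE hr
    exact hg (CfsgLib.TwoFusion.PRank.mem_of_rank_intersection H P hP' hN hAp hAr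
      (hA.trans inf_le_left) (hA.trans inf_le_right))
  · by_contra hyH
    refine hXr (CfsgLib.TwoFusion.PRank.pRankLE_mono ?_ (h y hyH))
    have hXH : X ≤ H := hX.trans (Subgroup.map_subtype_le _)
    refine le_inf hXH ?_
    rw [← (CfsgLib.TwoFusion.ConjUtil.mem_normalizer_iff_conjMap y X).mp hy]
    exact Subgroup.map_mono hXH

end Cfsg.Agent.S1231
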