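import Cfsg.Statements.S1234
import Cfsg.Agent.Lib.SelfCentEight.Eight

set_option autoImplicit false
open Cfsg

namespace Cfsg.Agent.S1234

/-- Let S be a finite 2-group and Q ≤ S a subgroup of order 32 having an elementary abelian subgroup E of order 16 and an involution s ∉ E whose centralizer in E has order 4 (so Q ≅ (Z₂ × Z₂) ≀ Z₂). If C_S(Z(Q)) = Q, then every section of S has 2-rank at most 4. -/
theorem result {S : Type*} [Group S] [Finite S] (hS : IsPGroup 2 S) (Q E : Subgroup S) (hEQ : E ≤ Q) (hE : Cfsg.IsElementaryAbelian 2 E) (hE16 : Nat.card E = 16) (hQ32 : Nat.card Q = 32) (s : S) (hsQ : s ∈ Q) (hsE : s ∉ E) (hs : orderOf s = 2) (hfix : Nat.card ↥(E ⊓ Subgroup.centralizer ({s} : Set S)) = 4) (hC : Subgroup.centralizer (((Subgroup.center Q).map Q.subtype : Subgroup S) : Set S) = Q) : Cfsg.SectionalPRankLE 2 4 S := by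
  obtain ⟨hEc, hE2⟩ := hE
  have hEcomm : ∀ x ∈ E, ∀ y ∈ E, Commute x y := fun x hx y hy =>
    congrArg Subtype.val (hEc.is_comm.comm (⟨x, hx⟩ : E) ⟨y, hy⟩)
  have hsq : ∀ x ∈ E, x * x = 1 := fun x hx => by rw [← pow_two]; exact hE2 x hx
  have hs2 : s * s = 1 := by rw [← pow_two, ← hs, pow_orderOf_eq_one]
  set D := E ⊓ Subgroup.centralizer ({s} : Set S) with hD
  have hDs : ∀ d ∈ D, Commute d s := fun d hd => Subgroup.mem_centralizer_singleton_iff.mp hd.2
  -- outside `E` the group `Q` is the coset `E s`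
  have hcoset : ∀ x ∈ Q, x ∉ E → x * s ∈ E := by
    intro x hx hxE
    have hidx : (E.subgroupOf Q).index = 2 := by
      have := (E.subgroupOf Q).card_mul_index
      rw [Nat.card_congr (Subgroup.subgroupOfEquivOfLe hEQ).toEquiv, hE16, hQ32] at this
      omega
    exact (Subgroup.mul_mem_iff_of_index_two hidx (a := ⟨x, hx⟩) (b := ⟨s, hsQ⟩)).mpr
      (iff_of_false hxE hsE)
  have hZ : ∀ x ∈ ((Subgroup.center Q).map Q.subtype : Subgroup S), x ∈ D := by
    rintro _ ⟨x, hx, rfl⟩
    have hcx : ∀ q ∈ Q, Commute q (x : S) := fun q hq =>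
      congrArg Subtype.val (Subgroup.mem_center_iff.mp hx ⟨q, hq⟩)
    show (x : S) ∈ D
    by_cases hxE : (x : S) ∈ E
    · exact ⟨hxE, Subgroup.mem_centralizer_singleton_iff.mpr (hcx s hsQ).eq.symm⟩
    · exfalso
      have hall : E ≤ D := fun e he => ⟨he, Subgroup.mem_centralizer_singleton_iff.mpr (by
        have h1 : Commute e ((x : S) * s) := hEcomm e he _ (hcoset x x.2 hxE)
        have h2 := (hcx e (hEQ he)).inv_right.mul_right h1
        rw [inv_mul_cancel_left] at h2
        exact h2.eq)⟩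
      have := Subgroup.card_le_of_le hall
      omega
  let A : Subgroup S :=
    { carrier := {x | x ∈ Q ∧ (x ∈ D ∨ x * s ∈ D)}
      one_mem' := ⟨Q.one_mem, Or.inl D.one_mem⟩
      mul_mem' := fun {x y} hx hy => ⟨Q.mul_mem hx.1 hy.1, by
        rcases hx.2 with h1 | h1 <;> rcases hy.2 with h2 | h2
        · exact Or.inl (D.mul_mem h1 h2)
        · exact Or.inr (by rw [mul_assoc]; exact D.mul_mem h1 h2)
        · refine Or.inr ?_
          rw [mul_assoc, (hDs y h2).eq, ← mul_assoc]
          exact D.mul_mem h1 h2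
        · refine Or.inl ?_
          have : x * y = x * s * (y * s) := by
            rw [mul_assoc x s, ← mul_assoc s y, show s * y = y * s from by
              have := hDs _ h2
              calc s * y = s * (y * s) * s := by
                    rw [mul_assoc s, mul_assoc y, hs2, mul_one]
                _ = y * s * s * s := by rw [← this.eq]
                _ = y * s := by rw [mul_assoc _ s s, hs2, mul_one],
              mul_assoc y, hs2, mul_one]
          rw [this]
          exact D.mul_mem h1 h2⟩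
      inv_mem' := fun {x} hx => ⟨Q.inv_mem hx.1, by
        rcases hx.2 with h1 | h1
        · exact Or.inl (D.inv_mem h1)
        · refine Or.inr ?_
          have e : x⁻¹ * s = s * (x * s)⁻¹ * s := by
            rw [mul_inv_rev, ← mul_assoc, mul_inv_cancel, one_mul]
          rw [e, ← ((hDs _ h1).inv_left).eq, mul_assoc, hs2, mul_one]
          exact D.inv_mem h1⟩ }
  have hAel : ∀ a ∈ A, a * a = 1 := by
    rintro a ⟨-, h1 | h1⟩
    · exact hsq a h1.1
    · have e : a = a * s * s := by rw [mul_assoc, hs2, mul_one]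
      rw [e, (hDs _ h1).symm.mul_mul_mul_comm, hsq _ h1.1, hs2, one_mul]
  have hAcomm : ∀ a ∈ A, ∀ b ∈ A, a * b = b * a := fun a ha b hb => by
    calc a * b = (a * b)⁻¹ := (inv_eq_of_mul_eq_one_left (hAel _ (A.mul_mem ha hb))).symm
      _ = b * a := by
          rw [mul_inv_rev, inv_eq_of_mul_eq_one_left (hAel a ha),
            inv_eq_of_mul_eq_one_left (hAel b hb)]
  have hDA : ∀ d ∈ D, d ∈ A := fun d hd => ⟨hEQ hd.1, Or.inl hd⟩
  have hsA : s ∈ A := ⟨hsQ, Or.inr (by rw [hs2]; exact D.one_mem)⟩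
  have hA8 : Nat.card A = 8 := by
    have hidx : (D.subgroupOf A).index = 2 := by
      rw [Subgroup.index_eq_two_iff]
      refine ⟨⟨s, hsA⟩, fun b => ?_⟩
      rcases b.2.2 with h1 | h1
      · exact Or.inr ⟨h1, fun h2 => hsE (((inv_mul_cancel_left (b : S) s).symm ▸
          D.mul_mem (D.inv_mem h1) h2 : s ∈ D)).1⟩
      · exact Or.inl ⟨h1, fun h2 => hsE (((inv_mul_cancel_left (b : S) s).symm ▸
          D.mul_mem (D.inv_mem h2) h1 : s ∈ D)).1⟩
    have := (D.subgroupOf A).card_mul_index
    rw [Nat.card_congr (Subgroup.subgroupOfEquivOfLe hDA).toEquiv, hfix, hidx] at this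
    exact this.symm
  refine CfsgLib.SelfCentEight.sectional_eight hS A hAel hAcomm hA8 (le_antisymm (fun x hx => ?_)
    fun a ha => Subgroup.mem_centralizer_iff.mpr fun b hb => hAcomm b hb a ha)
  have hxQ : x ∈ Q := by
    rw [← hC, Subgroup.mem_centralizer_iff]
    exact fun z hz => Subgroup.mem_centralizer_iff.mp hx z (hDA z (hZ z hz))
  have hxs : Commute s x := Subgroup.mem_centralizer_iff.mp hx s hsA
  refine ⟨hxQ, ?_⟩
  by_cases hxE : x ∈ E
  · exact Or.inl ⟨hxE, Subgroup.mem_centralizer_singleton_iff.mpr hxs.eq.symm⟩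
  · exact Or.inr ⟨hcoset x hxQ hxE,
      Subgroup.mem_centralizer_singleton_iff.mpr (hxs.symm.mul_left (Commute.refl s)).eq⟩

end Cfsg.Agent.S1234
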