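import Cfsg.Statements.S1235
import Cfsg.Agent.Lib.HaradaDB.Final

set_option autoImplicit false
open Cfsg CfsgLib.HaradaDB

namespace Cfsg.Agent.S1235

/-- Let G be a finite group, x an involution and T ≤ G a Sylow 2-subgroup of C_G(x) (T ≤ C_G(x) with |C_G(x) : T| odd) which is the internal direct product of a subgroup D that is dihedral (of order ≥ 4) or quasi-dihedral and a Klein four-subgroup B. Suppose that for every involution b ∈ B, T ≤ C_G(b) with |C_G(b) : T| odd. Then every section of G has 2-rank at most 4. -/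
theorem result {G : Type*} [Group G] [Finite G] (x : G) (hx : orderOf x = 2) (T D B : Subgroup G) (hT : IsPGroup 2 T) (hTx : T ≤ Subgroup.centralizer ({x} : Set G)) (hTxi : Odd (T.relIndex (Subgroup.centralizer ({x} : Set G)))) (hprod : Cfsg.IsInternalDirectProduct D B T) (hD : (∃ m : ℕ, 2 ≤ m ∧ Nonempty (D ≃* DihedralGroup m)) ∨ Cfsg.IsQuasiDihedral D) (hB : IsKleinFour B) (hTb : ∀ b ∈ B, orderOf b = 2 → T ≤ Subgroup.centralizer ({b} : Set G) ∧ Odd (T.relIndex (Subgroup.centralizer ({b} : Set G)))) : Cfsg.SectionalPRankLE 2 4 G := by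
  haveI : Fact (Nat.Prime 2) := ⟨Nat.prime_two⟩
  obtain ⟨hDT, hBT, hcomm, hinf, hsup⟩ := hprod
  obtain ⟨S, hTS⟩ := hT.exists_le_sylow
  refine sectional_of_secLE S ?_
  have hB2 : ∀ b ∈ B, b * b = 1 := fun b hb => congrArg Subtype.val (IsKleinFour.mul_self (⟨b, hb⟩ : B))
  have hBc : ∀ b ∈ B, ∀ t ∈ T, t * b = b * t := by
    intro b hb t ht
    by_cases hb1 : b = 1
    · simp [hb1]
    · exact Subgroup.mem_centralizer_singleton_iff.1
        ((hTb b hb (orderOf_eq_prime (by rw [sq]; exact hB2 b hb) hb1)).1 ht)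
  -- `T` is the centralizer in `S` of each involution of `B`
  have hcent : ∀ b ∈ B, b ≠ 1 → ∀ s ∈ (S : Subgroup G), s * b = b * s → s ∈ T := by
    intro b hb hb1 s hs hsb
    obtain ⟨hTC, hodd⟩ := hTb b hb (orderOf_eq_prime (by rw [sq]; exact hB2 b hb) hb1)
    have hle : T ≤ (S : Subgroup G) ⊓ Subgroup.centralizer ({b} : Set G) := le_inf hTS hTC
    obtain ⟨k, hk⟩ :=
      (S.isPGroup'.to_le (inf_le_left : (S : Subgroup G) ⊓ Subgroup.centralizer {b} ≤ S)).index
        (T.subgroupOf _)
    have hdvd : 2 ^ k ∣ T.relIndex (Subgroup.centralizer ({b} : Set G)) :=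
      hk ▸ ⟨_, (Subgroup.relIndex_mul_relIndex _ _ _ hle inf_le_right).symm⟩
    have hk0 : k = 0 := by
      by_contra hk0
      exact (Nat.not_even_iff_odd.2 hodd) (even_iff_two_dvd.2
        ((dvd_pow_self 2 hk0).trans hdvd))
    have heq : ((S : Subgroup G) ⊓ Subgroup.centralizer ({b} : Set G)) ≤ T :=
      Subgroup.relIndex_eq_one.1 (by rw [← pow_zero 2, ← hk0]; exact hk)
    exact heq (Subgroup.mem_inf.2 ⟨hs, Subgroup.mem_centralizer_singleton_iff.2 hsb⟩)
  have hB4 : Nat.card B = 4 := hB.card_four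
  -- either `D` is cyclic-by-two and non-abelian, or a four-group
  have hmain : (∃ c ∈ D, ∃ y ∈ D, (∀ d ∈ D, d ∈ Subgroup.zpowers c ∨ y⁻¹ * d ∈ Subgroup.zpowers c) ∧
      ¬ IsMulCommutative D) ∨ (Nat.card D = 4 ∧ (∀ a ∈ D, ∀ b ∈ D, a * b = b * a) ∧ ∀ a ∈ D, a * a = 1) := by
    rcases hD with ⟨m, hm, ⟨e⟩⟩ | ⟨n, hn, hcard, u, v, hu, -, huv⟩
    · rcases Nat.lt_or_ge 2 m with hm3 | hm2
      · left
        refine ⟨_, (e.symm (DihedralGroup.r 1)).2, _, (e.symm (DihedralGroup.sr 0)).2, fun d hd => ?_,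
          fun h => ?_⟩
        · have key : ∀ i : ZMod m, (e.symm (DihedralGroup.r i) : G) ∈
              Subgroup.zpowers ((e.symm (DihedralGroup.r 1) : D) : G) := by
            intro i
            obtain ⟨j, rfl⟩ := ZMod.intCast_surjective i
            refine ⟨j, ?_⟩
            simp only []
            rw [← Subgroup.coe_zpow, ← map_zpow, DihedralGroup.r_one_zpow]
          obtain ⟨x, hx⟩ : ∃ x, e.symm x = ⟨d, hd⟩ := ⟨e ⟨d, hd⟩, e.symm_apply_apply _⟩
          have hd' : d = (e.symm x : G) := by rw [hx]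
          subst hd'
          cases x with
          | r i => exact .inl (key i)
          | sr i =>
            refine .inr ?_
            rw [← Subgroup.coe_inv, ← Subgroup.coe_mul, ← map_inv, ← map_mul,
              DihedralGroup.inv_sr, DihedralGroup.sr_mul_sr, sub_zero]
            exact key i
        · have h1 := congrArg e (h.is_comm.comm (e.symm (DihedralGroup.r 1)) (e.symm (DihedralGroup.sr 0)))
          rw [map_mul, map_mul, e.apply_symm_apply, e.apply_symm_apply, DihedralGroup.r_mul_sr,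
            DihedralGroup.sr_mul_r, DihedralGroup.sr.injEq, zero_sub, zero_add] at h1
          haveI : Fact (2 < m) := ⟨hm3⟩
          exact ZMod.neg_one_ne_one h1
      · right
        obtain rfl : m = 2 := by omega
        refine ⟨by rw [Nat.card_congr e.toEquiv, DihedralGroup.nat_card], fun a ha b hb => ?_,
          fun a ha => ?_⟩
        · refine congrArg Subtype.val (e.injective (a₁ := ⟨a, ha⟩ * ⟨b, hb⟩) (a₂ := ⟨b, hb⟩ * ⟨a, ha⟩) ?_)
          rw [map_mul, map_mul]
          revert a b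
          intro a ha b hb
          generalize e ⟨a, ha⟩ = x, e ⟨b, hb⟩ = y
          revert x y
          decide
        · refine congrArg Subtype.val (e.injective (a₁ := ⟨a, ha⟩ * ⟨a, ha⟩) (a₂ := 1) ?_)
          rw [map_mul, map_one]
          generalize e ⟨a, ha⟩ = x
          revert x
          decide
    · left
      have hzc : (Subgroup.zpowers u).index = 2 := by
        have h := Subgroup.card_mul_index (Subgroup.zpowers u)
        rw [Nat.card_zpowers, hu, hcard, pow_succ] at h
        exact Nat.eq_of_mul_eq_mul_left (by positivity) h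
      have hdvd : ¬ 2 ^ n ∣ 2 ^ (n - 1) - 2 := by
        have h4 : 2 ^ 2 ≤ 2 ^ (n - 1) := Nat.pow_le_pow_right two_pos (by omega)
        have h5 : 2 ^ n = 2 * 2 ^ (n - 1) := by rw [← pow_succ', Nat.sub_add_cancel (by omega)]
        intro h
        have := Nat.le_of_dvd (by omega) h
        omega
      have hnc : ¬ IsMulCommutative D := by
        intro h
        apply hdvd
        rw [← hu, orderOf_dvd_iff_pow_eq_one]
        have h4 : 2 ^ 2 ≤ 2 ^ (n - 1) := Nat.pow_le_pow_right two_pos (by omega)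
        have h6 : u ^ (2 ^ (n - 1) - 2 + 1) = u := by
          rw [show 2 ^ (n - 1) - 2 + 1 = 2 ^ (n - 1) - 1 by omega, ← huv, h.is_comm.comm v u,
            mul_inv_cancel_right]
        rwa [pow_succ, mul_eq_right] at h6
      have hv : v ∉ Subgroup.zpowers u := by
        intro hv
        obtain ⟨i, rfl⟩ := hv
        apply hdvd
        rw [← hu, orderOf_dvd_iff_pow_eq_one]
        have h4 : 2 ^ 2 ≤ 2 ^ (n - 1) := Nat.pow_le_pow_right two_pos (by omega)
        have h6 : u ^ (2 ^ (n - 1) - 2 + 1) = u := by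
          rw [show 2 ^ (n - 1) - 2 + 1 = 2 ^ (n - 1) - 1 by omega, ← huv,
            (Commute.zpow_self u i).eq, mul_inv_cancel_right]
        rwa [pow_succ, mul_eq_right] at h6
      refine ⟨u, u.2, v, v.2, fun d hd => ?_, hnc⟩
      have key : ∀ w : D, w ∈ Subgroup.zpowers u → (w : G) ∈ Subgroup.zpowers (u : G) := by
        rintro _ ⟨i, rfl⟩
        exact ⟨i, by simp⟩
      by_cases hd' : (⟨d, hd⟩ : D) ∈ Subgroup.zpowers u
      · exact .inl (key _ hd')
      · have := (Subgroup.mul_mem_iff_of_index_two hzc (a := v⁻¹) (b := ⟨d, hd⟩)).2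
          (iff_of_false (fun h => hv (inv_mem_iff.1 h)) hd')
        exact .inr (key _ this)
  rcases hmain with ⟨c, hc, y, hy, hcy, hna⟩ | ⟨hD4, hDcomm, hD2⟩
  · have hTeq := eq_of_small_center S.isPGroup' hTS hcomm hsup hB4 hB2 hBc
      (fun d hd e he h1 h2 h3 h4 h5 h6 => central_involution_unique hcy hna hc hd he h1 h2 h3 h4 h5 h6)
      hcent
    rw [← hTeq]
    exact secLE_prod hcomm hsup hB4 hc hy hcy
  · have hTcomm : ∀ a ∈ T, ∀ b ∈ T, a * b = b * a := by
      intro a ha b hb
      obtain ⟨d, hd, u, hu, rfl⟩ := exists_mul_of_sup hcomm hsup ha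
      obtain ⟨d', hd', u', hu', rfl⟩ := exists_mul_of_sup hcomm hsup hb
      have h1 : Commute d d' := hDcomm d hd d' hd'
      have h2 : Commute d u' := hcomm d hd u' hu'
      have h3 : Commute u d' := (hcomm d' hd' u hu).symm
      have h4 : Commute u u' := hBc u' hu' u (hBT hu)
      exact ((h1.mul_right h2).mul_left (h3.mul_right h4)).eq
    have hTsq : ∀ a ∈ T, a * a = 1 := by
      intro a ha
      obtain ⟨d, hd, u, hu, rfl⟩ := exists_mul_of_sup hcomm hsup ha
      rw [mul_assoc, ← mul_assoc u, ← hcomm d hd u hu, mul_assoc d u u, hB2 u hu, mul_one, hD2 d hd]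
    by_cases hT16 : Nat.card T = 16
    · exact Ctx.secLE ⟨S.isPGroup', hTS, hT16, hTcomm, hTsq, hBT, hB4, hcent⟩
    · exfalso
      apply hT16
      have hDB : D ⊓ B = ⊥ := hinf
      refine le_antisymm (le_trans (Nat.card_le_card_of_surjective
        (fun w : D × B => (⟨w.1 * w.2, T.mul_mem (hDT w.1.2) (hBT w.2.2)⟩ : T)) fun t => ?_)
        (by rw [Nat.card_prod, hD4, hB4])) ?_
      · obtain ⟨d, hd, b, hb, h⟩ := exists_mul_of_sup hcomm hsup t.2
        exact ⟨(⟨d, hd⟩, ⟨b, hb⟩), Subtype.ext h.symm⟩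
      · have := card_mul_le hDT hBT hDB
        rwa [hD4, hB4] at this

end Cfsg.Agent.S1235
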