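import Cfsg.Statements.S1236
import Cfsg.Agent.Lib.TwoFusion.FourSelfCent


set_option autoImplicit false
open Cfsg

namespace Cfsg.Agent.S1236

/-- Let R be a finite group, t a central involution of R such that R ⧸ ⟨t⟩ is dihedral (of order ≥ 4) or quasi-dihedral, and A ≤ R an elementary abelian subgroup of order 8 containing t. Then C_R(A) = A. -/
theorem result {R : Type*} [Group R] [Finite R] (t : R) (ht : orderOf t = 2) (htz : t ∈ Subgroup.center R) [(Subgroup.zpowers t).Normal] (hq : (∃ m : ℕ, 2 ≤ m ∧ Nonempty (R ⧸ Subgroup.zpowers t ≃* DihedralGroup m)) ∨ Cfsg.IsQuasiDihedral (R ⧸ Subgroup.zpowers t)) (A : Subgroup R) (hA : Cfsg.IsElementaryAbelian 2 A) (hA8 : Nat.card A = 8) (htA : t ∈ A) : Subgroup.centralizer (A : Set R) = A := by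
  have hcomm := hA.1
  set N := Subgroup.zpowers t with hN
  have hNA : N ≤ A := by rw [hN, Subgroup.zpowers_le]; exact htA
  have hker : (QuotientGroup.mk' N).ker = N := QuotientGroup.ker_mk' N
  have hV : Nat.card (A.map (QuotientGroup.mk' N)) = 4 := by
    have h1 := Subgroup.card_mul_index (N.subgroupOf A)
    have h2 : Nat.card (A.map (QuotientGroup.mk' N)) = (N.subgroupOf A).index := by
      rw [← Subgroup.relIndex_ker A (QuotientGroup.mk' N), hker]
      rfl
    rw [Nat.card_congr (Subgroup.subgroupOfEquivOfLe hNA).toEquiv, hA8, Nat.card_zpowers, ht] at h1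
    omega
  have hV2 : ∀ v ∈ A.map (QuotientGroup.mk' N), v ^ 2 = 1 := by
    rintro v ⟨a, ha, rfl⟩
    rw [← map_pow, hA.2 a ha, map_one]
  have hC : Subgroup.centralizer ((A.map (QuotientGroup.mk' N) : Subgroup (R ⧸ N)) : Set (R ⧸ N))
      ≤ A.map (QuotientGroup.mk' N) := by
    rcases hq with ⟨m, hm, ⟨e⟩⟩ | hqd
    · exact CfsgLib.TwoFusion.FourSelfCent.dihedral_four_self_centralizing (by omega) e _ hV hV2
    · exact CfsgLib.TwoFusion.FourSelfCent.quasiDihedral_four_self_centralizing hqd _ hV hV2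
  refine le_antisymm (fun c hc => ?_) (Subgroup.le_centralizer A)
  have h1 : QuotientGroup.mk' N c ∈ A.map (QuotientGroup.mk' N) := hC (by
    rw [Subgroup.mem_centralizer_iff]
    rintro _ ⟨a, ha, rfl⟩
    rw [← map_mul, ← map_mul, Subgroup.mem_centralizer_iff.mp hc a ha])
  have h2 : c ∈ (A.map (QuotientGroup.mk' N)).comap (QuotientGroup.mk' N) := h1
  rwa [Subgroup.comap_map_eq, hker, sup_eq_left.mpr hNA] at h2

end Cfsg.Agent.S1236
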