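import Cfsg.Statements.S1241
import Cfsg.Agent.Lib.TwoFusion.TransferPow


set_option autoImplicit false
open Cfsg

namespace Cfsg.Agent.S1241

/-- Let G be a finite group, p a prime, H a subgroup of index prime to p, K a subgroup of H normal in H with H/K commutative, and g ∈ H ∖ K an element of p-power order such that for all integers m and all a ∈ G with a g^m a⁻¹ ∈ H one has a g^m a⁻¹ ∈ g^m K. Then g ∉ G'. -/
theorem result {G : Type*} [Group G] [Finite G] {p : ℕ} [Fact p.Prime] (H K : Subgroup G) (hHK : K ≤ H) (hKn : (K.subgroupOf H).Normal) (hab : ∀ x ∈ H, ∀ y ∈ H, x * y * x⁻¹ * y⁻¹ ∈ K) (hidx : Nat.Coprime p H.index) (g : G) (hgH : g ∈ H) (hgK : g ∉ K) (hgp : ∃ k : ℕ, orderOf g = p ^ k) (hctrl : ∀ (m : ℤ) (a : G), a * g ^ m * a⁻¹ ∈ H → (a * g ^ m * a⁻¹) * (g ^ m)⁻¹ ∈ K) : g ∉ commutator G := by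
  have : (K.subgroupOf H).Normal := hKn
  have hcomm : commutator ↥H ≤ K.subgroupOf H := by
    rw [commutator_def, Subgroup.commutator_le]
    intro x _ y _
    exact hab x x.2 y y.2
  let _ : CommGroup (↥H ⧸ K.subgroupOf H) :=
    CfsgLib.TwoFusion.TransferPow.commGroupQuotient _ hcomm
  let ϕ : ↥H →* ↥H ⧸ K.subgroupOf H := QuotientGroup.mk' (K.subgroupOf H)
  obtain ⟨a, ha⟩ := hgp
  have hne : ϕ ⟨g, hgH⟩ ≠ 1 := fun h =>
    hgK (Subgroup.mem_subgroupOf.mp ((QuotientGroup.eq_one_iff _).mp h))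
  intro hg
  refine CfsgLib.TwoFusion.TransferPow.not_mem_commutator_of_controlled ϕ hidx hgH
    (a := a) (by rw [← ha]; exact pow_orderOf_eq_one g) hne (fun k g₀ hk => ?_)
    (CfsgLib.TwoFusion.TransferPow.transfer_eq_one_of_commutator ϕ hg)
  have hK : g₀⁻¹ * g ^ k * g₀ * (g ^ k)⁻¹ ∈ K := by
    have h := hctrl k g₀⁻¹ (by simpa using hk)
    simpa using h
  rw [← map_pow]
  change (QuotientGroup.mk' (K.subgroupOf H)) _ = (QuotientGroup.mk' (K.subgroupOf H)) _
  rw [← mul_inv_eq_one, ← map_inv, ← map_mul, QuotientGroup.mk'_apply, QuotientGroup.eq_one_iff,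
    Subgroup.mem_subgroupOf]
  simpa using hK

end Cfsg.Agent.S1241
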