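import Cfsg.Statements.S1242
import Cfsg.Agent.Lib.TwoFusion.TransferPow


set_option autoImplicit false
open Cfsg
open scoped commutatorElement

namespace Cfsg.Agent.S1242

/-- Let G be a finite group, p a prime and H a subgroup of index prime to p such that any two elements of H of p-power order that are conjugate in G are conjugate in H. Then (O^p(G)·G') ∩ H = O^p(H)·H', where O^p denotes the subgroup generated by the elements of order prime to p. -/
theorem result {G : Type*} [Group G] [Finite G] {p : ℕ} [Fact p.Prime] (H : Subgroup G) (hidx : Nat.Coprime p H.index) (hfus : ∀ g ∈ H, (∃ k : ℕ, orderOf g = p ^ k) → ∀ a : G, a * g * a⁻¹ ∈ H → ∃ h ∈ H, h * g * h⁻¹ = a * g * a⁻¹) : (Cfsg.pResidual p G ⊔ commutator G) ⊓ H = (Cfsg.pResidual p ↥H ⊔ commutator ↥H).map H.subtype := by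
  set K : Subgroup ↥H := Cfsg.pResidual p ↥H ⊔ commutator ↥H with hK
  have hcomm : commutator ↥H ≤ K := le_sup_right
  have hKn : K.Normal := ⟨fun n hn g => by
    have h1 : ⁅g, n⁆ ∈ K :=
      hcomm (Subgroup.commutator_mem_commutator (Subgroup.mem_top g) (Subgroup.mem_top n))
    have h2 := K.mul_mem h1 hn
    simpa [commutatorElement_def, mul_assoc] using h2⟩
  let _ : CommGroup (↥H ⧸ K) := CfsgLib.TwoFusion.TransferPow.commGroupQuotient K hcomm
  let ϕ : ↥H →* ↥H ⧸ K := QuotientGroup.mk' K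
  have hp := Fact.out (p := p.Prime)
  have hpA : ∀ y : ↥H ⧸ K, ∃ b : ℕ, y ^ p ^ b = 1 := by
    intro y
    obtain ⟨z, rfl⟩ := QuotientGroup.mk'_surjective K y
    refine ⟨(orderOf z).factorization p, ?_⟩
    rw [← map_pow, QuotientGroup.mk'_apply, QuotientGroup.eq_one_iff]
    refine Subgroup.mem_sup_left (Subgroup.subset_closure ?_)
    show Nat.Coprime (orderOf (z ^ p ^ (orderOf z).factorization p)) p
    rw [orderOf_pow_of_dvd (pow_ne_zero _ hp.ne_zero) (Nat.ordProj_dvd _ _)]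
    exact ((Nat.coprime_ordCompl hp (orderOf_pos z).ne').symm)
  have hker : ∀ x ∈ Cfsg.pResidual p G ⊔ commutator G, MonoidHom.transfer ϕ x = 1 := by
    intro x hx
    suffices Cfsg.pResidual p G ⊔ commutator G ≤ (MonoidHom.transfer ϕ).ker from this hx
    refine sup_le ((Subgroup.closure_le _).mpr fun g hg => ?_)
      (Abelianization.commutator_subset_ker _)
    obtain ⟨b, hb⟩ := hpA (MonoidHom.transfer ϕ g)
    refine MonoidHom.mem_ker.mpr (CfsgLib.TwoFusion.TransferPow.eq_one_of_coprime_pow (k := b)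
      hb (n := orderOf g) ?_ (Nat.Coprime.symm hg))
    rw [← map_pow, pow_orderOf_eq_one, map_one]
  refine le_antisymm ?_ (le_inf ?_ (Subgroup.map_subtype_le K))
  · rintro x ⟨hxM, hxH⟩
    set q := p ^ (orderOf x).factorization p with hq
    set m := orderOf x / q with hm
    have hqm : q * m = orderOf x := Nat.mul_div_cancel' (Nat.ordProj_dvd _ _)
    have hgM : x ^ m ∈ Cfsg.pResidual p G ⊔ commutator G := Subgroup.pow_mem _ hxM m
    have hgH : x ^ m ∈ H := H.pow_mem hxH m
    have hgq : (x ^ m) ^ q = 1 := by rw [← pow_mul, mul_comm, hqm, pow_orderOf_eq_one]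
    have h1 : ϕ ⟨x ^ m, hgH⟩ = 1 := by
      by_contra hne
      refine CfsgLib.TwoFusion.TransferPow.not_mem_commutator_of_controlled ϕ hidx hgH
        (a := (orderOf x).factorization p) hgq hne (fun k g₀ hk => ?_) (hker _ hgM)
      obtain ⟨j, -, hj⟩ : ∃ j ≤ (orderOf x).factorization p,
          orderOf ((x ^ m) ^ k) = p ^ j := by
        refine (Nat.dvd_prime_pow hp).mp ((orderOf_pow_dvd k).trans ?_)
        exact orderOf_dvd_of_pow_eq_one hgq
      obtain ⟨h, hh, he⟩ := hfus ((x ^ m) ^ k) (H.pow_mem hgH k) ⟨j, hj⟩ g₀⁻¹ (by simpa using hk)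
      rw [inv_inv] at he
      have e : (⟨g₀⁻¹ * (x ^ m) ^ k * g₀, hk⟩ : ↥H) =
          ⟨h, hh⟩ * ⟨x ^ m, hgH⟩ ^ k * ⟨h, hh⟩⁻¹ := Subtype.ext (by simpa using he.symm)
      rw [e, map_mul, map_mul, map_inv, mul_comm (ϕ ⟨h, hh⟩), mul_inv_cancel_right, map_pow]
    obtain ⟨b, hb⟩ := hpA (ϕ ⟨x, hxH⟩)
    have h2 : ϕ ⟨x, hxH⟩ = 1 :=
      CfsgLib.TwoFusion.TransferPow.eq_one_of_coprime_pow (k := b) hb (n := m)
        (by rw [← map_pow]; exact h1) (Nat.coprime_ordCompl hp (orderOf_pos x).ne')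
    exact ⟨⟨x, hxH⟩, (QuotientGroup.eq_one_iff _).mp h2, rfl⟩
  · rw [hK, Subgroup.map_sup]
    refine sup_le_sup ?_ ?_
    · rw [Cfsg.pResidual, MonoidHom.map_closure]
      refine Subgroup.closure_mono ?_
      rintro _ ⟨z, hz, rfl⟩
      simpa using hz
    · rw [commutator_def, Subgroup.map_commutator]
      exact Subgroup.commutator_mono le_top le_top

end Cfsg.Agent.S1242
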