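import Cfsg.Statements.S1243
import Cfsg.Agent.Lib.TwoFusion.ConjUtil


set_option autoImplicit false
open Cfsg

namespace Cfsg.Agent.S1243

open CfsgLib.TwoFusion.ConjUtil

/-- Let T be a Sylow p-subgroup of the finite group G and W ≤ T a subgroup weakly closed in T. If d and g d g⁻¹ both centralize W, then g d g⁻¹ = h d h⁻¹ for some h ∈ N_G(W). -/
theorem result {G : Type*} [Group G] [Finite G] {p : ℕ} [Fact p.Prime] (T : Sylow p G) (W : Subgroup G) (hW : Cfsg.IsWeaklyClosed W (T : Subgroup G)) (d g : G) (hd : d ∈ Subgroup.centralizer (W : Set G)) (hgd : g * d * g⁻¹ ∈ Subgroup.centralizer (W : Set G)) : ∃ h ∈ Subgroup.normalizer (W : Set G), h * d * h⁻¹ = g * d * g⁻¹ := by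
  have key : ∀ (T' : Sylow p G) (c : G), W ≤ (T' : Subgroup G) →
      W.map (MulAut.conj c).toMonoidHom ≤ (T' : Subgroup G) →
      W.map (MulAut.conj c).toMonoidHom = W := by
    intro T' c h1 h2
    obtain ⟨x, hx⟩ := sylow_eq_conjMap T' T
    have e1 := hW.2 x (hx ▸ conjMap_mono x h1)
    have e2 := hW.2 (x * c) (by rw [← conjMap_conjMap]; exact hx ▸ conjMap_mono x h2)
    rw [← conjMap_conjMap] at e2
    refine Subgroup.map_injective (f := (MulAut.conj x).toMonoidHom) (MulAut.conj x).injective ?_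
    exact e2.trans e1.symm
  have hWC : W ≤ Subgroup.centralizer ({d} : Set G) := fun w hw =>
    Subgroup.mem_centralizer_singleton_iff.mpr (Subgroup.mem_centralizer_iff.mp hd w hw)
  have hW'C : W.map (MulAut.conj g⁻¹).toMonoidHom ≤ Subgroup.centralizer ({d} : Set G) := by
    rintro _ ⟨w, hw, rfl⟩
    rw [Subgroup.mem_centralizer_singleton_iff]
    have h := Subgroup.mem_centralizer_iff.mp hgd w hw
    have h' : g⁻¹ * (w * (g * d * g⁻¹)) * g = g⁻¹ * (g * d * g⁻¹ * w) * g := by rw [h]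
    simpa [mul_assoc] using h'
  have hWp : IsPGroup p W := T.isPGroup'.to_le hW.1
  have hW'p : IsPGroup p (W.map (MulAut.conj g⁻¹).toMonoidHom) := hWp.map _
  obtain ⟨P, hP⟩ := exists_sylow_le hWp hWC
  obtain ⟨⟨c, hc⟩, hcP⟩ :=
    exists_conjMap_le P (hW'p.of_equiv (Subgroup.subgroupOfEquivOfLe hW'C).symm)
  obtain ⟨T', hT'⟩ :=
    (P.isPGroup'.map (Subgroup.centralizer ({d} : Set G)).subtype).exists_le_sylow
  have h2 : W.map (MulAut.conj (c * g⁻¹)).toMonoidHom ≤ (T' : Subgroup G) := by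
    rw [← conjMap_conjMap]
    rintro _ ⟨y, hy, rfl⟩
    refine hT' ⟨_, hcP ⟨⟨y, hW'C hy⟩, hy, rfl⟩, ?_⟩
    simp
  have hn : c * g⁻¹ ∈ Subgroup.normalizer (W : Set G) :=
    (mem_normalizer_iff_conjMap _ _).mpr (key T' _ (hP.trans hT') h2)
  refine ⟨(c * g⁻¹)⁻¹, Subgroup.inv_mem _ hn, ?_⟩
  have hcd : c * d = d * c := Subgroup.mem_centralizer_singleton_iff.mp hc
  have : c⁻¹ * d * c = d := by rw [mul_assoc, ← hcd, ← mul_assoc, inv_mul_cancel, one_mul]
  calc (c * g⁻¹)⁻¹ * d * ((c * g⁻¹)⁻¹)⁻¹ = g * (c⁻¹ * d * c) * g⁻¹ := by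
        simp [mul_assoc]
    _ = g * d * g⁻¹ := by rw [this]

end Cfsg.Agent.S1243
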