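import Cfsg.Statements.S1244
import Cfsg.Agent.Lib.TwoFusion.TransferPow


set_option autoImplicit false
open Cfsg

namespace Cfsg.Agent.S1244

open scoped IsMulCommutative in
theorem prod_mem_iff_even {V : Type*} [Group V] [IsMulCommutative V] (W : Subgroup V)
    (hW : W.index = 2) {ι : Type*} (f : ι → V) (hf : ∀ i, f i ∉ W) (s : Finset ι) :
    (∏ i ∈ s, f i) ∈ W ↔ Even s.card := by
  classical
  induction s using Finset.induction with
  | empty => simp
  | insert a s ha ih =>
    rw [Finset.prod_insert ha, Subgroup.mul_mem_iff_of_index_two hW, ih,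
      Finset.card_insert_of_notMem ha, Nat.even_add_one]
    simp [hf a]

/-- With abelian Sylow `2` and no index two subgroup, `N(S)` fixes no nontrivial element of `S`. -/
theorem fixed_eq_one {G : Type*} [Group G] [Finite G] (hG : ∀ H : Subgroup G, H.index ≠ 2)
    (S : Sylow 2 G) (hS : IsMulCommutative (S : Subgroup G)) (x : G) (hx : x ∈ (S : Subgroup G))
    (hfix : ∀ n ∈ Subgroup.normalizer ((S : Subgroup G) : Set G), n * x * n⁻¹ = x) : x = 1 := by
  by_contra hne
  let _ : CommGroup (S : Subgroup G) :=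
    { (inferInstance : Group (S : Subgroup G)) with mul_comm := hS.is_comm.comm }
  let ϕ := MonoidHom.id (S : Subgroup G)
  have hidx : Nat.Coprime 2 (S : Subgroup G).index := Nat.prime_two.coprime_iff_not_dvd.mpr S.not_dvd_index
  obtain ⟨a, ha⟩ := S.isPGroup' ⟨x, hx⟩
  have hτ := CfsgLib.TwoFusion.TransferPow.not_mem_commutator_of_controlled ϕ hidx hx (a := a)
    (by simpa using congrArg Subtype.val ha)
    (fun h => hne (congrArg Subtype.val (show (⟨x, hx⟩ : (S : Subgroup G)) = 1 from h))) (fun k g₀ hk => by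
      have := hS
      obtain ⟨n, hn, he⟩ := S.conj_eq_normalizer_conj_of_mem (x ^ k) g₀ (Subgroup.pow_mem _ hx k) hk
      refine Subtype.ext ?_
      show g₀⁻¹ * x ^ k * g₀ = ((⟨x, hx⟩ : (S : Subgroup G)) ^ k : (S : Subgroup G))
      rw [Subgroup.coe_pow, he]
      show n⁻¹ * x ^ k * n = x ^ k
      have h2 := hfix n⁻¹ (Subgroup.inv_mem _ hn)
      rw [inv_inv] at h2
      conv_rhs => rw [← h2]
      simpa using (conj_pow (i := k) (a := n⁻¹) (b := x)).symm)
  set τ := MonoidHom.transfer ϕ with hτdef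
  have hR : IsPGroup 2 τ.range := S.isPGroup'.to_subgroup _
  obtain ⟨b, hb⟩ := IsPGroup.iff_card.mp hR
  have hb1 : 1 ≤ b := by
    by_contra hb0
    rw [show b = 0 by omega, pow_zero] at hb
    have : τ x ∈ τ.range := ⟨x, rfl⟩
    rw [Subgroup.card_eq_one.mp hb, Subgroup.mem_bot] at this
    exact hτ this
  obtain ⟨M, hM⟩ := Sylow.exists_subgroup_card_pow_prime (G := τ.range) 2 (n := b - 1)
    (by rw [hb]; exact pow_dvd_pow 2 (by omega))
  refine hG (M.comap τ.rangeRestrict) ?_
  rw [Subgroup.index_comap_of_surjective _ τ.rangeRestrict_surjective]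
  have h := Subgroup.card_mul_index M
  rw [hM, hb, show b = (b - 1) + 1 by omega, pow_succ, Nat.add_sub_cancel] at h
  exact Nat.eq_of_mul_eq_mul_left (by positivity) h


/-- Let G be a finite group with no subgroup of index 2 whose Sylow 2-subgroup S is commutative, and let R ≤ S be a subgroup whose 2-rank is exactly one less than the 2-rank r of S. Then every involution of S is conjugate, by an element of N_G(S), to an element of R. -/
theorem result {G : Type*} [Group G] [Finite G] (hG : ∀ H : Subgroup G, H.index ≠ 2) (S : Sylow 2 G) (hS : IsMulCommutative (S : Subgroup G)) (r : ℕ) (hr1 : 1 ≤ r) (hSr : Cfsg.PRankLE 2 r (S : Subgroup G) ∧ ¬ Cfsg.PRankLE 2 (r - 1) (S : Subgroup G)) (R : Subgroup G) (hRS : R ≤ S) (hRr : Cfsg.PRankLE 2 (r - 1) R ∧ (r = 1 ∨ ¬ Cfsg.PRankLE 2 (r - 2) R)) (t : G) (ht : orderOf t = 2) (htS : t ∈ S) : ∃ n ∈ Subgroup.normalizer ((S : Subgroup G) : Set G), n * t * n⁻¹ ∈ R := by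
  classical
  open scoped IsMulCommutative in
  have hcS : IsMulCommutative (S : Subgroup G) := hS
  set N := Subgroup.normalizer ((S : Subgroup G) : Set G) with hN
  have hcom : ∀ a ∈ (S : Subgroup G), ∀ b ∈ (S : Subgroup G), a * b = b * a :=
    fun a ha b hb => congrArg Subtype.val (hS.is_comm.comm ⟨a, ha⟩ ⟨b, hb⟩)
  have hfix := fixed_eq_one hG S hS
  have hodd : ∀ X : Subgroup G, (S : Subgroup G) ≤ X → Odd X.index ∧
      Odd ((S : Subgroup G).relIndex X) := by
    intro X hX
    have h := S.not_dvd_index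
    rw [← Subgroup.relIndex_mul_index hX] at h
    simp only [← Nat.not_even_iff_odd, even_iff_two_dvd]
    exact ⟨fun hd => h (Dvd.dvd.mul_left hd _), fun hd => h (Dvd.dvd.mul_right hd _)⟩
  let V : Subgroup G :=
    { carrier := {x | x ∈ (S : Subgroup G) ∧ x ^ 2 = 1}
      one_mem' := ⟨Subgroup.one_mem _, one_pow 2⟩
      mul_mem' := fun {a b} ha hb => ⟨Subgroup.mul_mem _ ha.1 hb.1,
        by rw [(Commute.mul_pow (hcom a ha.1 b hb.1) 2), ha.2, hb.2, one_mul]⟩
      inv_mem' := fun {a} ha => ⟨Subgroup.inv_mem _ ha.1, by rw [inv_pow, ha.2, inv_one]⟩ }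
  have hVc : IsMulCommutative V :=
    ⟨⟨fun a b => Subtype.ext (hcom a a.2.1 b b.2.1)⟩⟩
  have hcard : ∀ (Y : Subgroup G) (k : ℕ), Y ≤ (S : Subgroup G) →
      (Cfsg.PRankLE 2 k ↥Y ↔ Nat.card ↥(V ⊓ Y) ≤ 2 ^ k) := by
    intro Y k hY
    have e : Nat.card ↥((V ⊓ Y).subgroupOf Y) = Nat.card ↥(V ⊓ Y) :=
      Nat.card_congr (Subgroup.subgroupOfEquivOfLe inf_le_right).toEquiv
    constructor
    · intro h
      rw [← e]
      refine h _ ⟨⟨fun a b => Subtype.ext (Subtype.ext ?_)⟩⟩ fun a ha => Subtype.ext ?_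
      · exact hcom _ (hY a.1.2) _ (hY b.1.2)
      · exact (ha : (a : G) ∈ V ⊓ Y).1.2
    · intro h A _ hA2
      refine le_trans ?_ h
      rw [← Subgroup.card_map_of_injective (K := A) Y.subtype_injective]
      refine Subgroup.card_le_of_le (le_inf ?_ (Subgroup.map_subtype_le A))
      rintro _ ⟨a, ha, rfl⟩
      exact ⟨hY a.2, by simpa using congrArg Subtype.val (hA2 a ha)⟩
  have hpow : ∀ Y : Subgroup G, ∃ k, Nat.card ↥(V ⊓ Y) = 2 ^ k := fun Y =>
    IsPGroup.iff_card.mp (S.isPGroup'.to_le fun x hx => hx.1.1)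
  have hVS : Nat.card ↥(V ⊓ (S : Subgroup G)) = 2 ^ r := by
    obtain ⟨a, ha⟩ := hpow (S : Subgroup G)
    have h1 := (hcard (S : Subgroup G) r le_rfl).mp hSr.1
    have h2 : ¬ _ := fun h => hSr.2 ((hcard (S : Subgroup G) (r - 1) le_rfl).mpr h)
    rw [ha] at h1 h2 ⊢
    rw [Nat.pow_le_pow_iff_right (le_refl 2)] at h1 h2
    congr 1; omega
  have hVR : Nat.card ↥(V ⊓ R) = 2 ^ (r - 1) := by
    obtain ⟨a, ha⟩ := hpow R
    have h1 := (hcard R (r - 1) hRS).mp hRr.1
    rw [ha, Nat.pow_le_pow_iff_right (le_refl 2)] at h1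
    rw [ha]; congr 1
    rcases hRr.2 with rfl | h2
    · omega
    · have h3 : ¬ _ := fun h => h2 ((hcard R (r - 2) hRS).mpr h)
      rw [ha, Nat.pow_le_pow_iff_right (le_refl 2)] at h3
      omega
  have hVSeq : V ⊓ (S : Subgroup G) = V := inf_eq_left.mpr fun x hx => hx.1
  rw [hVSeq] at hVS
  let W : Subgroup V := (V ⊓ R).subgroupOf V
  have hW : W.index = 2 := by
    have h := Subgroup.card_mul_index W
    rw [Nat.card_congr (Subgroup.subgroupOfEquivOfLe (inf_le_left : V ⊓ R ≤ V)).toEquiv, hVR, hVS,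
      show r = (r - 1) + 1 by omega, pow_succ, Nat.add_sub_cancel] at h
    exact Nat.eq_of_mul_eq_mul_left (by positivity) h
  by_contra hno
  push Not at hno
  have htV : ∀ n : N, (n : G) * t * (n : G)⁻¹ ∈ V := fun n =>
    ⟨(Subgroup.mem_normalizer_iff.mp n.2 t).mp htS, by
      rw [conj_pow, ← ht, pow_orderOf_eq_one]; simp⟩
  let f : N ⧸ (S : Subgroup G).subgroupOf N → V := Quotient.lift (fun n : N => ⟨_, htV n⟩) (by
    intro a b hab
    have h : ((a⁻¹ * b : N) : G) ∈ (S : Subgroup G) :=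
      (QuotientGroup.leftRel_apply (s := (S : Subgroup G).subgroupOf N)).mp hab
    refine Subtype.ext ?_
    have h2 := hcom _ h t htS
    simp only [Subgroup.coe_mul, InvMemClass.coe_inv] at h2
    have h3 := congrArg (fun z => (a : G) * z * (b : G)⁻¹) h2
    simpa [mul_assoc] using h3.symm)
  have : Fintype (N ⧸ (S : Subgroup G).subgroupOf N) := Fintype.ofFinite _
  open scoped IsMulCommutative in
  let u : V := ∏ q, f q
  have hnW : ∀ q, f q ∉ W := by
    intro q
    induction q using Quotient.inductionOn with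
    | h n => exact fun h => hno (n : G) n.2 h.2
  have huW : u ∉ W := by
    rw [prod_mem_iff_even W hW f hnW Finset.univ, Finset.card_univ, ← Nat.card_eq_fintype_card]
    exact Nat.not_even_iff_odd.mpr ((hodd N Subgroup.le_normalizer).2)
  apply huW
  suffices u = 1 by rw [this]; exact W.one_mem
  refine Subtype.ext (hfix u u.2.1 fun n hn => ?_)
  let c : V →* G := ((MulAut.conj n).toMonoidHom).comp V.subtype
  show c u = V.subtype u
  open scoped IsMulCommutative in
  let c' : V →* V := c.codRestrict V fun v => ⟨(Subgroup.mem_normalizer_iff.mp hn _).mp v.2.1, by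
    rw [← map_pow, show (v : V) ^ 2 = 1 from Subtype.ext (by simpa using v.2.2), map_one]⟩
  open scoped IsMulCommutative in
  have : c' u = u := by
    simp only [u, map_prod]
    refine Fintype.prod_equiv (MulAction.toPerm (⟨n, hn⟩ : N)) _ _ fun q => ?_
    induction q using Quotient.inductionOn with
    | h m =>
      refine Subtype.ext ?_
      show n * ((m : G) * t * (m : G)⁻¹) * n⁻¹ = ((⟨n, hn⟩ * m : N) : G) * t * ((⟨n, hn⟩ * m : N) : G)⁻¹
      simp [mul_assoc]
  exact congrArg Subtype.val this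

end Cfsg.Agent.S1244
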