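import Cfsg.Statements.S1246
import Cfsg.Agent.Lib.CharP.Locals
import Cfsg.Agent.Lib.Components.GenFitting


set_option autoImplicit false
open Cfsg

namespace Cfsg.Agent.S1246

/-- Let V ≤ U be p-subgroups of the finite group G. If the generalized Fitting subgroup of C_G(V) is a p-group, then so is that of C_G(U). -/
theorem result {G : Type*} [Group G] [Finite G] {p : ℕ} [Fact p.Prime] (U V : Subgroup G) (hVU : V ≤ U) (hU : IsPGroup p U) (hV : IsPGroup p ↥(Cfsg.generalizedFittingSubgroup ↥(Subgroup.centralizer (V : Set G)))) : IsPGroup p ↥(Cfsg.generalizedFittingSubgroup ↥(Subgroup.centralizer (U : Set G))) := by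
  classical
  have hp : p.Prime := Fact.out
  have key : ∀ {H : Type _} [Group H] [Finite H], IsPGroup p (Cfsg.generalizedFittingSubgroup H) ↔
      Subgroup.centralizer (Cfsg.pCore p H : Set H) ≤ Cfsg.pCore p H := by
    intro H _ _
    rw [← CfsgLib.Components.genFitting_eq_pCore_iff]
    constructor
    · intro h
      refine le_antisymm (CfsgLib.CharP.le_pCore' (G := H) inferInstance h) ?_
      exact (CfsgLib.Components.pCore_le_fitting p).trans CfsgLib.Components.fitting_le_genFitting
    · intro h
      rw [h]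
      exact CfsgLib.CharP.pCore_isPGroup'
  rw [key] at hV ⊢
  obtain ⟨W, hVW, hW⟩ := Set.Finite.exists_le_maximal
    (Set.toFinite {W : Subgroup G | V ≤ W ∧ W ≤ U ∧
      Subgroup.centralizer (Cfsg.pCore p ↥(Subgroup.centralizer (W : Set G)) :
        Set ↥(Subgroup.centralizer (W : Set G))) ≤ Cfsg.pCore p ↥(Subgroup.centralizer (W : Set G))})
    (a := V) ⟨le_rfl, hVU, hV⟩
  obtain ⟨-, hWU, hWc⟩ := hW.prop
  by_cases hUW : U ≤ W
  · rwa [le_antisymm hUW hWU]
  · exfalso
    have hWp : IsPGroup p W := hU.to_le hWU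
    set W' := U ⊓ Subgroup.normalizer (W : Set G) with hW'def
    have hWW' : W ≤ W' := le_inf hWU Subgroup.le_normalizer
    have hW'p : IsPGroup p W' := hU.to_le inf_le_left
    have h2 := CfsgLib.CharP.charP_normalizer_of_normal hW'p hWW' inf_le_right
      (CfsgLib.CharP.charP_normalizer_of_centralizer hWp hWc)
    have hmax : W' ≤ W := hW.le_of_ge ⟨hVW.trans hWW', inf_le_left, h2.2⟩ hWW'
    haveI := hU.isNilpotent
    have hlt : W.subgroupOf U < ⊤ := by
      rw [lt_top_iff_ne_top, Ne, Subgroup.subgroupOf_eq_top]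
      exact hUW
    have hlt2 := normalizerCondition_of_isNilpotent (G := U) _ hlt
    obtain ⟨x, hxN, hxW⟩ := SetLike.exists_of_lt hlt2
    apply hxW
    rw [Subgroup.mem_subgroupOf]
    apply hmax
    refine ⟨x.2, ?_⟩
    rw [SetLike.mem_coe, Subgroup.mem_normalizer_iff] at *
    intro n
    constructor
    · intro hn
      have := (hxN ⟨n, hWU hn⟩).mp hn
      exact this
    · intro hn
      have hnU : n ∈ U := by
        have := U.mul_mem (U.mul_mem (U.inv_mem x.2) (hWU hn)) x.2
        simpa [mul_assoc] using this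
      exact (hxN ⟨n, hnU⟩).mpr hn

end Cfsg.Agent.S1246
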