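import Cfsg.Statements.S1247
import Cfsg.Agent.Lib.TwoFusion.BenderMaximal


set_option autoImplicit false
open Cfsg

namespace Cfsg.Agent.S1247

open Subgroup CfsgLib.Components CfsgLib.TwoFusion


/-- Let G be a non-abelian finite simple group, A a maximal subgroup, F = F*(A) its generalized Fitting subgroup (viewed in G), and S ≤ F a subgroup subnormal in F with C_F(S) ≤ S. Let B be any subgroup of G containing S. Then (a) for every prime q not dividing |F(A)|, O_q(B) ∩ A = 1; and (b) for every prime p dividing |F(A)|, O_p(B) commutes elementwise with the subgroup of F generated by its elements of order prime to p. -/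
theorem result {G : Type*} [Group G] [Finite G] [IsSimpleGroup G] (hna : ¬ IsMulCommutative G) (A : Subgroup G) (hA : IsCoatom A) (S : Subgroup G) (hSF : S ≤ (Cfsg.generalizedFittingSubgroup ↥A).map A.subtype) (hSsn : (S.subgroupOf ((Cfsg.generalizedFittingSubgroup ↥A).map A.subtype)).IsSubnormal) (hSC : (Cfsg.generalizedFittingSubgroup ↥A).map A.subtype ⊓ Subgroup.centralizer (S : Set G) ≤ S) (B : Subgroup G) (hSB : S ≤ B) : (∀ q : ℕ, q.Prime → ¬ q ∣ Nat.card (Cfsg.fittingSubgroup ↥A) → (Cfsg.pCore q ↥B).map B.subtype ⊓ A = ⊥) ∧ (∀ p : ℕ, p.Prime → p ∣ Nat.card (Cfsg.fittingSubgroup ↥A) → ∀ x ∈ (Cfsg.pCore p ↥B).map B.subtype, ∀ y ∈ (Cfsg.pResidual p ↥(Cfsg.generalizedFittingSubgroup ↥A)).map ((Cfsg.generalizedFittingSubgroup ↥A).subtype) , x * (A.subtype y) = (A.subtype y) * x) := by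
  classical
  set F := Cfsg.generalizedFittingSubgroup ↥A with hF
  set S' : Subgroup ↥A := S.subgroupOf A with hS'
  have hSA : S ≤ A := hSF.trans (map_subtype_le _)
  have hS'F : S' ≤ F := by
    intro s hs
    obtain ⟨f, hf, hfe⟩ := hSF hs
    rwa [← Subtype.ext hfe]
  have hS'sn : S'.IsSubnormal := by
    refine IsSubnormal.trans hS'F ?_ (Normal.isSubnormal inferInstance)
    have h := hSsn.comap (A.subtype.subgroupMap F)
    convert h using 1
    ext x
    rfl
  have hS'C : F ⊓ centralizer (S' : Set ↥A) ≤ S' := fun x hx =>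
    hSC ⟨⟨x, hx.1, rfl⟩, fun s hs => congrArg Subtype.val (hx.2 ⟨s, hSA hs⟩ hs)⟩
  -- a nontrivial normal subgroup of `A` has its centralizer inside `A`
  have hmax : ∀ R : Subgroup ↥A, R.Normal → R ≠ ⊥ →
      ∀ g : G, (∀ r ∈ R, g * (r : G) = (r : G) * g) → g ∈ A := by
    intro R hR hR0 g hg
    set Z : Subgroup G := R.map A.subtype with hZ
    have hAZ : A ≤ normalizer (Z : Set G) := by
      haveI := hR
      have h1 := le_normalizer_map (H := R) A.subtype
      rwa [normalizer_eq_top, ← MonoidHom.range_eq_map, range_subtype] at h1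
    have hgZ : g ∈ normalizer (Z : Set G) := centralizer_le_normalizer _ (by
      rintro _ ⟨r, hr, rfl⟩
      exact (hg r hr).symm)
    rcases eq_or_lt_of_le hAZ with h | h
    · rwa [← h] at hgZ
    · exfalso
      have htop := hA.2 _ h
      rcases (normalizer_eq_top_iff.mp htop).eq_bot_or_eq_top with h1 | h1
      · exact hR0 ((map_eq_bot_iff_of_injective _ A.subtype_injective).mp h1)
      · exact hA.1 (top_le_iff.mp (h1.symm.trans_le (map_subtype_le R)))
  -- `q`-cores of `B` met with `A`
  have hP : ∀ (q : ℕ) [Fact q.Prime], ∀ y : ↥A, (y : G) ∈ (Cfsg.pCore q ↥B).map B.subtype →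
      (∀ e ∈ Cfsg.layer ↥A, Commute y e) ∧
        ∀ t ∈ Cfsg.fittingSubgroup ↥A ⊓ Cfsg.pPrimeCore q ↥A, Commute y t := by
    intro q _ y hy
    refine BenderMax.pgroup_commute hS'sn hS'F hS'C
      (P := ((Cfsg.pCore q ↥B).map B.subtype).subgroupOf A) ?_ ?_ (mem_subgroupOf.mpr hy)
    · exact ((isPGroup_pCore q).map _).comap_of_injective A.subtype A.subtype_injective
    · intro s hs
      rw [mem_normalizer_iff]
      intro n
      exact mem_normalizer_iff.mp (CfsgLib.CharP.le_normalizer_pCore_map B (hSB hs)) (n : G)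
  refine ⟨fun q hq hndvd => ?_, fun p hp hpdvd => ?_⟩
  · -- part (a)
    haveI := Fact.mk hq
    rw [eq_bot_iff]
    rintro g ⟨hgX, hgA⟩
    obtain ⟨he, ht⟩ := hP q ⟨g, hgA⟩ hgX
    have hT : ∀ f ∈ Cfsg.fittingSubgroup ↥A,
        f ∈ Cfsg.fittingSubgroup ↥A ⊓ Cfsg.pPrimeCore q ↥A := fun f hf =>
      BenderMax.mem_part_of_coprime hf (Nat.Coprime.coprime_dvd_left
        (Subgroup.orderOf_dvd_natCard _ hf) ((hq.coprime_iff_not_dvd.mpr hndvd).symm))
    have hcF : (⟨g, hgA⟩ : ↥A) ∈ centralizer (F : Set ↥A) := by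
      have hle : F ≤ centralizer ({⟨g, hgA⟩} : Set ↥A) :=
        sup_le (fun e h => mem_centralizer_singleton_iff.mpr (he e h).symm.eq)
          (fun f h => mem_centralizer_singleton_iff.mpr (ht f (hT f h)).symm.eq)
      exact fun f hf => mem_centralizer_singleton_iff.mp (hle hf)
    have hgF : (⟨g, hgA⟩ : ↥A) ∈ Cfsg.fittingSubgroup ↥A := by
      rw [← CfsgLib.GenFittingSub.genFitting_inf_centralizer_layer]
      exact ⟨centralizer_genFitting_le hcF, fun e h => (he e h).symm.eq⟩
    have h1 : orderOf (⟨g, hgA⟩ : ↥A) ∣ Nat.card (Cfsg.fittingSubgroup ↥A) :=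
      Subgroup.orderOf_dvd_natCard _ hgF
    rw [orderOf_mk] at h1
    exact CfsgLib.CharP.eq_one_of_mem_pgroup ((isPGroup_pCore q).map _) hgX
      (Nat.Coprime.coprime_dvd_left h1 ((hq.coprime_iff_not_dvd.mpr hndvd).symm))
  · -- part (b)
    haveI := Fact.mk hp
    intro x hx
    set X := (Cfsg.pCore p ↥B).map B.subtype with hX
    set T := Cfsg.fittingSubgroup ↥A ⊓ Cfsg.pPrimeCore p ↥A with hT
    set P0 := Cfsg.pCore p ↥A with hP0
    have hXp : IsPGroup p X := (isPGroup_pCore p).map _
    haveI : P0.Normal := hP0 ▸ inferInstance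
    haveI : T.Normal := hT ▸ inferInstance
    -- elements of `X` centralising `S ⊓ O_p(A)` lie in `A`
    have hXA : ∀ u ∈ X, (∀ s ∈ S' ⊓ P0, (s : G) * u = u * (s : G)) → u ∈ A := by
      intro u _ hu
      have hPne : P0 ≠ ⊥ := by
        obtain ⟨z, hz⟩ := exists_prime_orderOf_dvd_card' p hpdvd
        intro hbot
        have hzP : (z : ↥A) ∈ P0 :=
          BenderMax.mem_pCore_of_pow (k := 1) z.2 (by rw [Subgroup.orderOf_coe, hz, pow_one])
        rw [hbot, mem_bot] at hzP
        rw [← Subgroup.orderOf_coe, hzP, orderOf_one] at hz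
        exact hp.ne_one hz.symm
      haveI : Nontrivial P0 := (nontrivial_iff_ne_bot _).mpr hPne
      haveI : Nontrivial (center P0) := (isPGroup_pCore (G := ↥A) p).center_nontrivial
      obtain ⟨⟨z, hzc⟩, hz1⟩ := exists_ne (1 : ↥(center P0))
      refine hmax (P0 ⊓ centralizer (P0 : Set ↥A)) inferInstance ?_ u fun r hr => ?_
      · intro h
        have hzm : (z : ↥A) ∈ P0 ⊓ centralizer (P0 : Set ↥A) :=
          ⟨z.2, fun a ha => congrArg Subtype.val (mem_center_iff.mp hzc ⟨a, ha⟩)⟩
        rw [h, mem_bot] at hzm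
        exact hz1 (Subtype.ext (Subtype.ext hzm))
      · refine (hu r ⟨?_, hr.1⟩).symm
        have hrF : r ∈ Cfsg.fittingSubgroup ↥A := pCore_le_fitting p hr.1
        refine BenderMax.mem_of_commute hS'sn hS'F hS'C (fitting_le_genFitting hrF)
          (fun e he => BenderMax.commute_layer_fit he hrF) fun f hf hfS => ?_
        exact (BenderMax.commute_fit_of_parts (p := p) (K := S')
          (fun a ha _ => (hr.2 a ha).symm)
          (fun b hb _ => BenderMax.commute_pCore_part hr.1 hb) hf hfS).symm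
    -- `p'`-elements of `S` commuting with `O_p(A)`
    have hpxq : ∀ c ∈ S', (orderOf c).Coprime p → (∀ a ∈ P0, Commute a c) →
        (∀ y : ↥A, (y : G) ∈ X → Commute y c) → ∀ u ∈ X, u * (c : G) = (c : G) * u := by
      intro c hc hcop hcP hcY
      refine CfsgLib.CharP.pxq (B := (S' ⊓ P0).map A.subtype) (U := X) ?_ hXp ?_
        (by rw [Subgroup.orderOf_coe]; exact hcop)
        (CfsgLib.CharP.le_normalizer_pCore_map B (hSB hc)) ?_ ?_
      · exact ((isPGroup_pCore p).to_le inf_le_right).map _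
      · rintro _ ⟨s, hs, rfl⟩
        exact CfsgLib.CharP.le_normalizer_pCore_map B (hSB hs.1)
      · rintro _ ⟨s, hs, rfl⟩
        exact congrArg Subtype.val (hcP s hs.2).eq
      · intro v hv hvc
        have hvA : v ∈ A := hXA v hv fun s hs => hvc _ ⟨s, hs, rfl⟩
        exact congrArg Subtype.val (hcY ⟨v, hvA⟩ hv).eq
    have hES : Cfsg.layer ↥A ≤ S' := BenderMax.layer_le hS'sn hS'C
    set Cx : Subgroup ↥A := (centralizer ({x} : Set G)).comap A.subtype with hCx
    have memCx : ∀ {c : ↥A}, c ∈ Cx ↔ (c : G) * x = x * (c : G) := by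
      intro c
      exact mem_centralizer_singleton_iff
    have hxE : Cfsg.layer ↥A ≤ Cx :=
      BenderMax.layer_le_of_coprime fun e he hcop => memCx.mpr
        (hpxq e (hES he) hcop
          (fun a ha => (BenderMax.commute_layer_fit he (pCore_le_fitting p ha)).symm)
          (fun y hy => (hP p y hy).1 e he) x hx).symm
    have hTcop : ∀ t ∈ T, (orderOf t).Coprime p := fun t ht =>
      Nat.Coprime.coprime_dvd_left (Subgroup.orderOf_dvd_natCard _ ht.2)
        (coprime_card_pPrimeCore p)
    have hxST : S' ⊓ T ≤ Cx := fun t ht => memCx.mpr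
      (hpxq t ht.1 (hTcop t ht.2) (fun a ha => BenderMax.commute_pCore_part ha ht.2)
        (fun y hy => (hP p y hy).2 t ht.2) x hx).symm
    have hxT : T ≤ Cx := by
      by_cases hT0 : T = ⊥
      · rw [hT0]; exact bot_le
      have hxA : x ∈ A := by
        haveI : Nontrivial T := (nontrivial_iff_ne_bot _).mpr hT0
        haveI := CfsgLib.Solvable.fittingSubgroup_isNilpotent ↥A
        haveI : Group.IsNilpotent T :=
          Subgroup.isNilpotent_of_ker_le_center
            (inclusion (inf_le_left : T ≤ Cfsg.fittingSubgroup ↥A))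
            (le_trans (le_of_eq ((MonoidHom.ker_eq_bot_iff _).mpr (inclusion_injective _))) bot_le)
        haveI : Nontrivial (center T) :=
          (nontrivial_iff_ne_bot _).mpr (Group.IsNilpotent.center_ne_bot ↥T)
        obtain ⟨⟨z, hzc⟩, hz1⟩ := exists_ne (1 : ↥(center T))
        refine hmax (T ⊓ centralizer (T : Set ↥A)) inferInstance ?_ x fun r hr => ?_
        · intro h
          have hzm : (z : ↥A) ∈ T ⊓ centralizer (T : Set ↥A) :=
            ⟨z.2, fun a ha => congrArg Subtype.val (mem_center_iff.mp hzc ⟨a, ha⟩)⟩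
          rw [h, mem_bot] at hzm
          exact hz1 (Subtype.ext (Subtype.ext hzm))
        · refine (memCx.mp (hxST ⟨?_, hr.1⟩)).symm
          have hrF : r ∈ Cfsg.fittingSubgroup ↥A := hr.1.1
          refine BenderMax.mem_of_commute hS'sn hS'F hS'C (fitting_le_genFitting hrF)
            (fun e he => BenderMax.commute_layer_fit he hrF) fun f hf hfS => ?_
          exact (BenderMax.commute_fit_of_parts (p := p) (K := S')
            (fun a ha _ => (BenderMax.commute_pCore_part ha hr.1).symm)
            (fun b hb _ => (hr.2 b hb).symm) hf hfS).symm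
      intro t ht
      exact memCx.mpr (congrArg Subtype.val ((hP p ⟨x, hxA⟩ hx).2 t ht).eq).symm
    have hres : Cfsg.pResidual p ↥F ≤ Cx.comap F.subtype := by
      rw [Cfsg.pResidual, closure_le]
      intro w hw
      exact sup_le hxE hxT (BenderMax.mem_layer_sup_part w.2 (Nat.Coprime.coprime_dvd_left (orderOf_map_dvd F.subtype w) hw))
    rintro _ ⟨w, hw, rfl⟩
    exact (memCx.mp (hres hw)).symm

end Cfsg.Agent.S1247
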