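import Cfsg.Statements.S1249
import Cfsg.Agent.Lib.TwoFusion.ConjUtil


set_option autoImplicit false
open Cfsg

namespace Cfsg.Agent.S1249

/-- Let P and Q be Sylow p-subgroups of the finite group G both containing the subgroup A. If A is strongly closed in P, then A is strongly closed in Q. -/
theorem result {G : Type*} [Group G] [Finite G] {p : ℕ} [Fact p.Prime] (P Q : Sylow p G) (A : Subgroup G) (hAQ : A ≤ Q) (hA : Cfsg.IsStronglyClosed A (P : Subgroup G)) : Cfsg.IsStronglyClosed A (Q : Subgroup G) := by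
  refine ⟨hAQ, fun x hx g hg => ?_⟩
  obtain ⟨k, hk⟩ := CfsgLib.TwoFusion.ConjUtil.sylow_eq_conjMap P Q
  have key : ∀ y : G, y ∈ (Q : Subgroup G) → k⁻¹ * y * k ∈ (P : Subgroup G) := fun y hy => by
    rw [hk] at hy
    exact (CfsgLib.TwoFusion.ConjUtil.mem_conjMap_iff k y _).mp hy
  have hkn : k⁻¹ ∈ Subgroup.normalizer (A : Set G) := by
    refine CfsgLib.TwoFusion.ConjUtil.mem_normalizer_of_conj_mem k⁻¹ fun a ha => ?_
    refine hA.2 a ha k⁻¹ ?_
    simpa using key a (hAQ ha)
  have h : k⁻¹ * (g * x * g⁻¹) * k ∈ A := by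
    have := hA.2 x hx (k⁻¹ * g) (by simpa [mul_assoc] using key _ hg)
    simpa [mul_assoc] using this
  exact (Subgroup.mem_normalizer_iff.mp hkn _).mpr (by simpa using h)

end Cfsg.Agent.S1249
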