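import Cfsg.Statements.S1250
import Cfsg.Agent.Lib.TwoFusion.ConjUtil


set_option autoImplicit false
open Cfsg

namespace Cfsg.Agent.S1250

/-- Let S be a Sylow p-subgroup of the finite group G, A ≤ S strongly closed in S, and N a normal subgroup. Then the image of A in G ⧸ N is strongly closed in the image of S (which is a Sylow p-subgroup of G ⧸ N). -/
theorem result {G : Type*} [Group G] [Finite G] {p : ℕ} [Fact p.Prime] (S : Sylow p G) (A : Subgroup G) (hA : Cfsg.IsStronglyClosed A (S : Subgroup G)) (N : Subgroup G) [N.Normal] : Cfsg.IsStronglyClosed (A.map (QuotientGroup.mk' N)) ((S : Subgroup G).map (QuotientGroup.mk' N)) := by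
  refine ⟨Subgroup.map_mono hA.1, ?_⟩
  rintro xbar ⟨x, hx, rfl⟩ gbar hg
  obtain ⟨g, rfl⟩ := QuotientGroup.mk'_surjective N gbar
  have hg' : g * x * g⁻¹ ∈ (S : Subgroup G) ⊔ N := by
    rw [sup_comm, ← QuotientGroup.comap_map_mk' N (S : Subgroup G), Subgroup.mem_comap, map_mul, map_mul, map_inv]
    exact hg
  obtain ⟨k, hk⟩ := IsPGroup.iff_orderOf.mp S.isPGroup' ⟨x, hA.1 hx⟩
  rw [Subgroup.orderOf_mk] at hk
  have hord : orderOf (⟨g * x * g⁻¹, hg'⟩ : ↥((S : Subgroup G) ⊔ N)) = p ^ k := by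
    rw [Subgroup.orderOf_mk, ← hk]
    exact (MulAut.conj g).orderOf_eq x
  obtain ⟨⟨c, hc⟩, hcy⟩ :=
    CfsgLib.TwoFusion.ConjUtil.exists_conj_mem (S.subtype le_sup_left) hord
  obtain ⟨s, hs, n, hn, rfl⟩ := Subgroup.mem_sup_of_normal_right.mp hc
  have hnS : n * (g * x * g⁻¹) * n⁻¹ ∈ (S : Subgroup G) := by
    have h1 : s * n * (g * x * g⁻¹) * (s * n)⁻¹ ∈ (S : Subgroup G) := hcy
    have h2 := (S : Subgroup G).mul_mem ((S : Subgroup G).mul_mem ((S : Subgroup G).inv_mem hs) h1) hs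
    simpa [mul_assoc] using h2
  have hnA := hA.2 x hx (n * g) (by simp only [mul_inv_rev, mul_assoc] at hnS ⊢; exact hnS)
  refine ⟨_, hnA, ?_⟩
  have hn1 : QuotientGroup.mk' N n = 1 := (QuotientGroup.eq_one_iff n).mpr hn
  simp only [map_mul, map_inv, hn1, mul_inv_rev, inv_one, one_mul, mul_one]

end Cfsg.Agent.S1250
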