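import Cfsg.Statements.S1253
import Cfsg.Agent.S1187
import Cfsg.Agent.Lib.TwoFusion.ConjUtil


set_option autoImplicit false
open Cfsg

namespace Cfsg.Agent.S1253

open CfsgLib.TwoFusion

/-- Let z be an isolated involution of the finite group G with centralizer C, p an odd prime and P a Sylow p-subgroup of G normalized by z. Then P ∩ C has p-power-free index in C (it is a Sylow p-subgroup of C), and |P : C_P(z)| equals the number of elements x ∈ P with z x z⁻¹ = x⁻¹. -/
theorem result {G : Type*} [Group G] [Finite G] (z : G) (hz : Cfsg.IsIsolatedInvolution z) {p : ℕ} [Fact p.Prime] (hp : p ≠ 2) (P : Sylow p G) (hzP : z ∈ Subgroup.normalizer ((P : Subgroup G) : Set G)) : ¬ p ∣ ((P : Subgroup G) ⊓ Subgroup.centralizer ({z} : Set G)).relIndex (Subgroup.centralizer ({z} : Set G)) ∧ ((P : Subgroup G) ⊓ Subgroup.centralizer ({z} : Set G)).relIndex (P : Subgroup G) = Nat.card {x : G // x ∈ P ∧ z * x * z⁻¹ = x⁻¹} := by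
  set C := Subgroup.centralizer ({z} : Set G) with hC
  have hmemC : ∀ c : G, c ∈ C ↔ c * z * c⁻¹ = z := fun c => by
    rw [hC, Subgroup.mem_centralizer_singleton_iff, mul_inv_eq_iff_eq_mul]
  have hodd : ∀ x ∈ (P : Subgroup G), Odd (orderOf x) := fun x hx => by
    obtain ⟨r, hr⟩ := IsPGroup.iff_orderOf.mp P.isPGroup' ⟨x, hx⟩
    rw [Subgroup.orderOf_mk] at hr
    rw [hr]
    exact ((Fact.out : p.Prime).odd_of_ne_two hp).pow
  refine ⟨?_, ?_⟩
  · -- every invariant Sylow subgroup is `C`-conjugate to `P`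
    intro hdvd
    obtain ⟨R, hR⟩ :=
      ((P.isPGroup'.to_le inf_le_left).of_equiv
        (Subgroup.subgroupOfEquivOfLe (inf_le_right : (P : Subgroup G) ⊓ C ≤ C)).symm).exists_le_sylow
    set R' : Subgroup G := (R : Subgroup C).map C.subtype with hR'
    have hR'C : R' ≤ C := Subgroup.map_subtype_le _
    obtain ⟨Q, hRQ, hQmax⟩ := (Set.toFinite
      {Q : Subgroup G | IsPGroup p Q ∧ z ∈ Subgroup.normalizer (Q : Set G)}).exists_le_maximal
      (a := R') ⟨R.isPGroup'.map _, by
        refine ConjUtil.mem_normalizer_of_conj_mem z fun x hx => ?_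
        have h1 := (hmemC x).mp (hR'C hx)
        have h2 : z * x * z⁻¹ = x := by
          rw [mul_inv_eq_iff_eq_mul] at h1 ⊢
          exact h1.symm
        rwa [h2]⟩
    obtain ⟨hQp, hzQ⟩ := hQmax.prop
    obtain ⟨P', hP'⟩ := Cfsg.Agent.S1187.result z hz Q hQp hzQ
      fun T hT hzT hle => le_antisymm (hQmax.2 ⟨hT, hzT⟩ hle) hle
    obtain ⟨g, hg⟩ := ConjUtil.sylow_eq_conjMap P P'
    -- replace `g` by an element of `C`
    have hgz : g⁻¹ * z * g ∈ Subgroup.normalizer ((P : Subgroup G) : Set G) := by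
      have h1 := (ConjUtil.mem_normalizer_iff_conjMap _ _).mp hzQ
      rw [ConjUtil.mem_normalizer_iff_conjMap, ← ConjUtil.conjMap_conjMap, ← hg, hP',
        ← ConjUtil.conjMap_conjMap, h1, ← hP', hg, ConjUtil.conjMap_conjMap, inv_mul_cancel,
        ConjUtil.conjMap_one]
    set o := g⁻¹ * z * g * z with ho
    have hoN : o ∈ Subgroup.normalizer ((P : Subgroup G) : Set G) := Subgroup.mul_mem _ hgz hzP
    have hoodd : Odd (orderOf o) := by simpa [ho] using Isolated.odd_orderOf_conj_mul hz g⁻¹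
    have hoinv : z * o * z⁻¹ = o⁻¹ := by simpa [ho] using Isolated.inverts_conj_mul hz g⁻¹
    set r := oddSqrt o with hr
    have hrz : r * z * r⁻¹ = g⁻¹ * z * g := by
      have h : z * r * z⁻¹ = r⁻¹ := inverted_pow hoinv _
      rw [conj_of_inverted h, hr, oddSqrt_sq hoodd, ho, mul_assoc, mul_self_of_orderOf_eq_two hz.1,
        mul_one]
    set c := g * r with hc
    have hcC : c ∈ C := by
      rw [hmemC, hc, show g * r * z * (g * r)⁻¹ = g * (r * z * r⁻¹) * g⁻¹ by simp [mul_assoc], hrz]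
      simp [mul_assoc]
    have hcP : (P : Subgroup G).map (MulAut.conj c).toMonoidHom = Q := by
      rw [hc, ← ConjUtil.conjMap_conjMap,
        (ConjUtil.mem_normalizer_iff_conjMap _ _).mp (oddSqrt_mem hoN), ← hg, hP']
    have hle : R' ≤ ((P : Subgroup G) ⊓ C).map (MulAut.conj c).toMonoidHom := by
      intro x hx
      obtain ⟨w, hw, rfl⟩ := hcP.symm ▸ hRQ hx
      refine ⟨w, ⟨hw, ?_⟩, rfl⟩
      have h1 : c * w * c⁻¹ ∈ C := hR'C hx
      simpa [mul_assoc] using C.mul_mem (C.mul_mem (C.inv_mem hcC) h1) hcC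
    have hcard : Nat.card R' ≤ Nat.card ↥((P : Subgroup G) ⊓ C) :=
      (Subgroup.card_le_of_le hle).trans (ConjUtil.card_conjMap _ _).le
    rw [hR', Subgroup.card_map_of_injective C.subtype_injective,
      ← Nat.card_congr (Subgroup.subgroupOfEquivOfLe (inf_le_right : (P : Subgroup G) ⊓ C ≤ C)).toEquiv] at hcard
    have heq := Subgroup.eq_of_le_of_card_ge hR hcard
    rw [Subgroup.relIndex, heq] at hdvd
    exact R.not_dvd_index hdvd
  · let f : (P : Subgroup G) ⧸ ((P : Subgroup G) ⊓ C).subgroupOf (P : Subgroup G) →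
        {x : G // x ∈ P ∧ z * x * z⁻¹ = x⁻¹} :=
      Quotient.lift (fun a => ⟨(a : G) * z * (a : G)⁻¹ * z, by
          have h1 : z * (a : G)⁻¹ * z⁻¹ ∈ (P : Subgroup G) :=
            (Subgroup.mem_normalizer_iff.mp hzP _).mp ((P : Subgroup G).inv_mem a.2)
          rw [Isolated.inv_eq hz] at h1
          show (a : G) * z * (a : G)⁻¹ * z ∈ (P : Subgroup G)
          simpa [mul_assoc] using (P : Subgroup G).mul_mem a.2 h1,
          Isolated.inverts_conj_mul hz _⟩)
        (fun a b h => by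
          have h1 := (hmemC _).mp (QuotientGroup.leftRel_apply.mp h).2
          apply Subtype.ext
          simp only [Subgroup.coe_mul, Subgroup.coe_inv, Subgroup.coe_subtype] at h1 ⊢
          have h2 : (b : G) * z * (b : G)⁻¹ = (a : G) * z * (a : G)⁻¹ := by
            calc (b : G) * z * (b : G)⁻¹
                = (a : G) * ((a : G)⁻¹ * b * z * ((a : G)⁻¹ * b)⁻¹) * (a : G)⁻¹ := by simp [mul_assoc]
              _ = _ := by rw [h1]
          rw [h2])
    refine Nat.card_eq_of_bijective f ⟨?_, ?_⟩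
    · rintro ⟨a⟩ ⟨b⟩ h
      refine Quotient.sound (QuotientGroup.leftRel_apply.mpr ⟨(a⁻¹ * b).2, (hmemC _).mpr ?_⟩)
      have h2 : (a : G) * z * (a : G)⁻¹ = (b : G) * z * (b : G)⁻¹ :=
        mul_right_cancel (congrArg Subtype.val h)
      show (a : G)⁻¹ * b * z * ((a : G)⁻¹ * b)⁻¹ = z
      calc (a : G)⁻¹ * b * z * ((a : G)⁻¹ * b)⁻¹ = (a : G)⁻¹ * (b * z * (b : G)⁻¹) * a := by
            simp [mul_assoc]
        _ = z := by rw [← h2]; simp [mul_assoc]
    · rintro ⟨y, hy, hyi⟩
      refine ⟨QuotientGroup.mk ⟨oddSqrt y, oddSqrt_mem (H := (P : Subgroup G)) hy⟩, Subtype.ext ?_⟩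
      show oddSqrt y * z * (oddSqrt y)⁻¹ * z = y
      have h : z * oddSqrt y * z⁻¹ = (oddSqrt y)⁻¹ := inverted_pow hyi _
      rw [conj_of_inverted h,
        oddSqrt_sq (hodd y hy), mul_assoc, mul_self_of_orderOf_eq_two hz.1, mul_one]

end Cfsg.Agent.S1253
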