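import Cfsg.Statements.S1255
import Cfsg.Agent.Lib.TwoFusion.DihedralFusionMain


set_option autoImplicit false
open Cfsg

namespace Cfsg.Agent.S1255

open CfsgLib.TwoFusion CfsgLib.TwoFusion.DihedralFusion

/-- Let X be a finite group whose Sylow 2-subgroup S is dihedral of order 2m ≥ 4. Then X has no subgroup of index 2 and no isolated involution if and only if either all involutions of X are conjugate, or for every Klein four-subgroup U ≤ S the index |N_X(U) : C_X(U)| equals 3 when |S| = 4 and equals 6 when |S| > 4. -/
theorem result {X : Type*} [Group X] [Finite X] (S : Sylow 2 X) (m : ℕ) (hm : 2 ≤ m) (eS : (S : Subgroup X) ≃* DihedralGroup m) : ((∀ H : Subgroup X, H.index ≠ 2) ∧ (∀ z : X, ¬ Cfsg.IsIsolatedInvolution z)) ↔ ((∀ a b : X, orderOf a = 2 → orderOf b = 2 → IsConj a b) ∨ (∀ U : Subgroup X, U ≤ S → IsKleinFour U → (Subgroup.centralizer (U : Set X)).relIndex (Subgroup.normalizer (U : Set X)) = (if Nat.card S = 4 then 3 else 6))) := by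
  obtain ⟨D⟩ := exists_dihGens S.isPGroup' hm eS
  constructor
  · intro h
    exact Or.inl fun a b ha hb =>
      one_class_of_isConj D (isConj_z_of_no_index_two D h.1) ha hb
  · intro h
    have h1 : ∀ a b : X, orderOf a = 2 → orderOf b = 2 → IsConj a b := by
      rcases h with h | h
      · exact h
      refine fun a b ha hb => one_class_of_isConj D (fun i => ?_) ha hb
      have hi := h (D.four i) (D.four_le i) (D.four_isKleinFour i)
      refine isConj_of_three_dvd (D.four_isKleinFour i) ?_ (D.refl_mem_four i) (D.refl_ne_one i)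
        (D.z_mem_four i) D.z_ne_one
      rw [hi]
      split_ifs <;> norm_num
    exact ⟨no_index_two_of_one_class D h1, no_isolated_of_one_class D h1⟩

end Cfsg.Agent.S1255
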