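import Cfsg.Statements.S1256
import Cfsg.Agent.Lib.TwoFusion.DihedralFusionMain


set_option autoImplicit false
open Cfsg

namespace Cfsg.Agent.S1256

open CfsgLib.TwoFusion CfsgLib.TwoFusion.DihedralFusion

/-- Let X be a finite group whose Sylow 2-subgroup S is dihedral of order 2m ≥ 4. If |S| = 4, any two Klein four-subgroups of X are conjugate; if |S| > 4, there are Klein four-subgroups U₁, U₂ of X that are not conjugate, and every Klein four-subgroup of X is conjugate to U₁ or to U₂. -/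
theorem result {X : Type*} [Group X] [Finite X] (S : Sylow 2 X) (m : ℕ) (hm : 2 ≤ m) (eS : (S : Subgroup X) ≃* DihedralGroup m) : (Nat.card S = 4 → ∀ U V : Subgroup X, IsKleinFour U → IsKleinFour V → (∃ x : X, U.map (MulAut.conj x).toMonoidHom = V)) ∧ (4 < Nat.card S → ∃ U₁ U₂ : Subgroup X, IsKleinFour U₁ ∧ IsKleinFour U₂ ∧ ¬ (∃ x : X, U₁.map (MulAut.conj x).toMonoidHom = U₂) ∧ ∀ V : Subgroup X, IsKleinFour V → (∃ x : X, V.map (MulAut.conj x).toMonoidHom = U₁) ∨ (∃ x : X, V.map (MulAut.conj x).toMonoidHom = U₂)) := by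
  obtain ⟨D⟩ := CfsgLib.TwoFusion.DihedralFusion.exists_dihGens S.isPGroup' hm eS

  refine ⟨fun h4 U V hU hV => ?_, fun h4 => ?_⟩
  · have hk := (k_zero_iff D).mpr h4
    obtain ⟨i, x, hx⟩ := klein_conj D hU
    obtain ⟨j, y, hy⟩ := klein_conj D hV
    refine ⟨y⁻¹ * x, ?_⟩
    rw [← ConjUtil.conjMap_conjMap, hx, ← eq_four_of_k_zero D hk i, eq_four_of_k_zero D hk j, ← hy,
      ConjUtil.conjMap_conjMap, inv_mul_cancel, ConjUtil.conjMap_one]
  · have hk := k_pos_of_card_lt D h4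
    refine ⟨D.four 0, D.four 1, D.four_isKleinFour 0, D.four_isKleinFour 1, ?_, fun V hV => ?_⟩
    · rintro ⟨x, hx⟩
      exact absurd (four_fusion D hk hx) (by decide)
    · obtain ⟨i, x, hx⟩ := klein_conj D hV
      rcases Int.even_or_odd i with he | ho
      · obtain ⟨s, -, hs⟩ := D.isConj_four (i := i) (j := 0) (by simpa using he)
        exact Or.inl ⟨s * x, by rw [← ConjUtil.conjMap_conjMap, hx, hs]⟩
      · obtain ⟨s, -, hs⟩ := D.isConj_four (i := i) (j := 1) (ho.sub_odd odd_one)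
        exact Or.inr ⟨s * x, by rw [← ConjUtil.conjMap_conjMap, hx, hs]⟩

end Cfsg.Agent.S1256
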