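import Cfsg.Statements.S1271
import Cfsg.Agent.Lib.Components.AutQuotient
import Cfsg.Agent.Lib.Balance.Local

set_option autoImplicit false
set_option linter.style.haveILetI false
open Cfsg

namespace Cfsg.Agent.S1271

open Subgroup CfsgLib.Components CfsgLib.Balance in
theorem pPrimeCore_inducedAut_eq_bot {G : Type*} [Group G] [Finite G] {p : ℕ} [hp : Fact p.Prime]
    (hO : Cfsg.pPrimeCore p G = ⊥) {L : Subgroup G} (hL : Cfsg.IsComponent L) (A D : Subgroup G) :
    Cfsg.pPrimeCore p ↥(inducedAut L A D) = ⊥ := by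
  haveI : Group.IsPerfect ↥L := hL.2.1
  set M := inducedAut L A D
  set N := Cfsg.pPrimeCore p ↥M
  let c : ↥L →* ↥M := (MulAut.conj : ↥L →* MulAut ↥L).codRestrict M fun l => inn_le_inducedAut L A D ⟨l, rfl⟩
  have hc : ∀ (m : ↥M) (l : ↥L), m * c l * m⁻¹ = c ((m : MulAut ↥L) l) := by
    intro m l
    apply Subtype.ext
    apply MulEquiv.ext
    intro y
    simp [c]
  have hinn : c.range.Normal := ⟨by
    rintro _ ⟨l, rfl⟩ m
    exact ⟨(m : MulAut ↥L) l, (hc m l).symm⟩⟩
  have hinf : c.range ⊓ N = ⊥ := by
    -- the preimage of `N` in `L` is normal, hence central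
    have hcen : N.comap c ≤ center ↥L := by
      refine (quasisimple_normal_top_or_central hL.2 inferInstance).resolve_left fun htop => ?_
      -- otherwise every `p`-element of `L` is central
      have hle : pElements p (⊤ : Subgroup ↥L) ≤ center ↥L := by
        refine pElements_le_iff.mpr fun a _ k hk => ?_
        have h1 : c a ∈ N := by
          have : a ∈ N.comap c := htop ▸ mem_top a
          exact this
        have h2 : orderOf (c a) = 1 := Nat.eq_one_of_dvd_coprimes
          ((coprime_card_pPrimeCore (G := ↥M) p).pow_right k) (orderOf_dvd_natCard _ h1)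
          (orderOf_dvd_of_pow_eq_one (by rw [← map_pow, hk, map_one]))
        rw [orderOf_eq_one_iff] at h2
        have h3 : MulAut.conj a = 1 := congrArg Subtype.val h2
        refine mem_center_iff.mpr fun g => ?_
        have h4 : MulAut.conj a g = g := by rw [h3]; rfl
        rw [MulAut.conj_apply, mul_inv_eq_iff_eq_mul] at h4
        exact h4.symm
      rw [pElements_top_of_quasisimple hL.2 (dvd_card_of_component_of_core_eq_bot hO hL)] at hle
      haveI := quasisimple_nontrivial hL.2
      exact center_ne_top (top_le_iff.mp hle)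
    rw [eq_bot_iff]
    rintro _ ⟨⟨l, rfl⟩, hl⟩
    rw [mem_bot]
    apply Subtype.ext
    apply MulEquiv.ext
    intro y
    show MulAut.conj l y = y
    rw [MulAut.conj_apply, ← mem_center_iff.mp (hcen hl) y, mul_inv_cancel_right]
  rw [eq_bot_iff]
  intro m hm
  rw [mem_bot]
  apply Subtype.ext
  apply descend_injective
  rw [OneMemClass.coe_one, map_one]
  have hcomm : ∀ l : ↥L, m * c l * m⁻¹ = c l := fun l => by
    have h1 := le_centralizer_of_commutator_eq_bot
      (commutator_eq_bot_of_disjoint (disjoint_iff.mpr hinf)) ⟨l, rfl⟩ m hm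
    rw [h1, mul_inv_cancel_right]
  apply MulEquiv.ext
  intro q
  obtain ⟨l, rfl⟩ := QuotientGroup.mk'_surjective (center ↥L) q
  show QuotientGroup.mk ((m : MulAut ↥L) l) = (QuotientGroup.mk l : ↥L ⧸ center ↥L)
  rw [QuotientGroup.eq]
  refine mem_center_iff.mpr fun y => ?_
  have h2 := congrArg (fun f : ↥M => (f : MulAut ↥L) y) ((hc m l).symm.trans (hcomm l))
  simp only [c, MonoidHom.codRestrict_apply, MulAut.conj_apply] at h2
  calc y * (((m : MulAut ↥L) l)⁻¹ * l)
      = ((m : MulAut ↥L) l)⁻¹ * ((m : MulAut ↥L) l * y * ((m : MulAut ↥L) l)⁻¹) * l := by group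
    _ = ((m : MulAut ↥L) l)⁻¹ * (l * y * l⁻¹) * l := by rw [h2]
    _ = ((m : MulAut ↥L) l)⁻¹ * l * y := by group

open Subgroup CfsgLib.Components CfsgLib.Balance in
theorem main {G : Type*} [Group G] [Finite G] {p : ℕ} [hp : Fact p.Prime]
    (hO : Cfsg.pPrimeCore p G = ⊥)
    (h : ∀ L : Subgroup G, Cfsg.IsComponent L → ∀ H : Subgroup G, L ≤ H → (L.subgroupOf H).Normal →
      ∀ [((centralizer (L : Set G)).subgroupOf H).Normal],
        Cfsg.IsBalancedFor p (↥H ⧸ (centralizer (L : Set G)).subgroupOf H)) :
    Cfsg.IsBalancedFor p G := by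
  intro x hx
  rw [hO]
  have hD : Cfsg.centralizerPPrimeCore p x ≤ coreP p (centralizer ({x} : Set G)) := le_rfl
  refine le_of_eq (eq_bot_of_centralizes hO ?_ ?_ fun L hL => ?_)
  · exact coreP_coprime p (centralizer ({x} : Set G))
  · refine hD.trans ?_
    rw [← centralizer_zpowers]
    exact coreP_centralizer_le_centralizer_pCore
      (IsPGroup.of_card (n := 1) (by rw [Nat.card_zpowers, hx, pow_one]))
  obtain ⟨hDO, hDL, hDc⟩ := component_facts hO hx hD hL
  by_cases hgood : x ∉ normalizer (L : Set G) ∨ x ∈ centralizer (L : Set G)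
  · exact hDc hgood
  push Not at hgood
  obtain ⟨hxL, hxc⟩ := hgood
  set A := zpowers x with hA
  set D := Cfsg.centralizerPPrimeCore p x with hDdef
  have hAL : A ≤ normalizer (L : Set G) := zpowers_le.mpr hxL
  set H := L ⊔ (A ⊔ D) with hH
  have hHN : H ≤ normalizer (L : Set G) := sup_le le_normalizer (sup_le hAL hDL)
  haveI hCn : ((centralizer (L : Set G)).subgroupOf H).Normal :=
    (inferInstance : (((centralizer (L : Set G)).subgroupOf (normalizer (L : Set G)))).Normal).comap (inclusion hHN)
  set f := L.normalizerMonoidHom.comp (inclusion hHN) with hf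
  have hker : f.ker = (centralizer (L : Set G)).subgroupOf H := by
    rw [hf, ← MonoidHom.comap_ker, normalizerMonoidHom_ker]
    rfl
  have hrange : f.range = inducedAut L A D := by
    rw [hf, MonoidHom.range_comp, inclusion_range]
    rfl
  have hbal := isBalancedFor_map_equiv ((QuotientGroup.quotientMulEquivOfEq hker.symm).trans
    ((QuotientGroup.quotientKerEquivRange f).trans (MulEquiv.subgroupCongr hrange)))
    (h L hL H le_sup_left ((normal_subgroupOf_iff_le_normalizer le_sup_left).mpr hHN))
  intro d hd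
  have himg := image_mem_centralizerPPrimeCore hO hL (A := A) (D := D) (le_centralizer A) hAL hDL
    (hAD := ?_) ((coreP_coprime p (centralizer ({x} : Set G)))) hDO (mem_zpowers x) hD
    (d := ⟨d, hDL hd⟩) hd
  · have hb := hbal _ ?_ himg
    · rw [pPrimeCore_inducedAut_eq_bot hO hL A D, mem_bot] at hb
      exact (normalizerMonoidHom_eq_one_iff ⟨d, hDL hd⟩).1 (congrArg Subtype.val hb)
    · refine orderOf_eq_prime (Subtype.ext ?_) fun h1 => hxc ?_
      · show L.normalizerMonoidHom ⟨x, hxL⟩ ^ p = 1
        rw [← map_pow, show (⟨x, hxL⟩ : ↥(normalizer (L : Set G))) ^ p = 1 from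
          Subtype.ext (show x ^ p = 1 by rw [← hx, pow_orderOf_eq_one]), map_one]
      · exact (normalizerMonoidHom_eq_one_iff ⟨x, hxL⟩).1 (congrArg Subtype.val h1)
  · rw [hA, zpowers_le]
    refine le_normalizer_coreP p (centralizer ({x} : Set G)) ?_
    rw [mem_centralizer_singleton_iff]

/-- Let G be finite with O_{p'}(G) = 1. Suppose that for every component L of G and every subgroup H ≥ L in which L is normal, the quotient H / C_H(L) is balanced for the prime p. Then G is balanced for p. -/
theorem result {G : Type*} [Group G] [Finite G] (p : ℕ) [Fact p.Prime] (hO : Cfsg.pPrimeCore p G = ⊥) (h : ∀ L : Subgroup G, Cfsg.IsComponent L → ∀ H : Subgroup G, L ≤ H → (L.subgroupOf H).Normal → ∀ [((Subgroup.centralizer (L : Set G)).subgroupOf H).Normal], Cfsg.IsBalancedFor p (↥H ⧸ (Subgroup.centralizer (L : Set G)).subgroupOf H)) : Cfsg.IsBalancedFor p G := by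
  exact Cfsg.Agent.S1271.main hO h

end Cfsg.Agent.S1271
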