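import Cfsg.Statements.S1273
import Cfsg.Agent.Lib.Components.PLayer

set_option autoImplicit false
open Cfsg

namespace Cfsg.Agent.S1273

/-- Let K be a p-component of the finite group X and N a normal subgroup of K whose index in K is prime to p. Then N = K. -/
theorem result {X : Type*} [Group X] [Finite X] (p : ℕ) [Fact p.Prime] (K : Subgroup X) (hK : Cfsg.IsPComponent p K) (N : Subgroup ↥K) [N.Normal] (hidx : (N.index).Coprime p) : N = ⊤ := by
  have hN : N.Normal := inferInstance
  have h := CfsgLib.Components.pComponent_le_of_subnormal_coprime_index hK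
    (hN.isSubnormal.trans' hK.1) (by
      rwa [Subgroup.relIndex, Subgroup.subgroupOf, Subgroup.comap_map_eq_self_of_injective K.subtype_injective])
  rw [eq_top_iff]
  intro x _
  obtain ⟨m, hm, he⟩ := h x.2
  rwa [← Subtype.ext he]

end Cfsg.Agent.S1273
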