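import Cfsg.Statements.S1277
import Cfsg.Agent.Lib.Components.PLayer

set_option autoImplicit false
open Cfsg

namespace Cfsg.Agent.S1277

/-- For a finite group X with core O(X): the image of E(X) in X / O(X) is all of E(X / O(X)) if and only if every 2-component of X is a component, i.e. L_{2'}(X) ≤ E(X). -/
theorem result {X : Type*} [Group X] [Finite X] : (Cfsg.layer X).map (QuotientGroup.mk' (Cfsg.oddCore X)) = Cfsg.layer (X ⧸ Cfsg.oddCore X) ↔ Cfsg.pLayer 2 X ≤ Cfsg.layer X := by
  haveI : Fact (Nat.Prime 2) := ⟨Nat.prime_two⟩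
  constructor
  · intro h
    refine sSup_le fun K hK => ?_
    by_contra hn
    have hmem := CfsgLib.Components.component_mem_of_le_sSup hK.2.1
      (S := {Kb | Cfsg.IsComponent Kb ∧ ∃ L : Subgroup X, Cfsg.IsComponent L ∧
        L.map (QuotientGroup.mk' (Cfsg.oddCore X)) = Kb}) (fun _ hb => hb.1) ?_
    · obtain ⟨-, L, hL, he⟩ := hmem
      have hLp : Cfsg.IsPComponent 2 L := CfsgLib.Components.component_isPComponent hL fun hle =>
        CfsgLib.Components.component_ne_bot hK.2.1
          (he.symm.trans ((Subgroup.map_eq_bot_iff L).mpr (hle.trans (QuotientGroup.ker_mk' _).ge)))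
      exact hn (CfsgLib.Components.pComponent_eq_of_map_eq hK hLp he.symm ▸
        CfsgLib.Components.component_le_layer hL)
    · refine (CfsgLib.Components.component_le_layer hK.2.1).trans (h.symm.trans_le ?_)
      rw [Cfsg.layer, Subgroup.map_le_iff_le_comap]
      refine sSup_le fun L hL => ?_
      rw [← Subgroup.map_le_iff_le_comap]
      by_cases hb : L.map (QuotientGroup.mk' (Cfsg.oddCore X)) = ⊥
      · rw [hb]; exact bot_le
      · exact le_sSup ⟨CfsgLib.Components.component_map_of_surjective
          (QuotientGroup.mk'_surjective _) hL hb, L, hL, rfl⟩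
  · intro h
    refine le_antisymm ?_ ?_
    · rw [Cfsg.layer, Subgroup.map_le_iff_le_comap]
      refine sSup_le fun L hL => ?_
      rw [← Subgroup.map_le_iff_le_comap]
      by_cases hb : L.map (QuotientGroup.mk' (Cfsg.oddCore X)) = ⊥
      · rw [hb]; exact bot_le
      · exact CfsgLib.Components.component_le_layer (CfsgLib.Components.component_map_of_surjective
          (QuotientGroup.mk'_surjective _) hL hb)
    · rw [← CfsgLib.Components.pLayer_map_mk]
      exact Subgroup.map_mono h

end Cfsg.Agent.S1277
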