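import Cfsg.Statements.S1286
-- import your own Cfsg.Agent.* helpers here

set_option autoImplicit false
open Cfsg

namespace Cfsg.Agent.S1286

local notation "S5" => Equiv.Perm (Fin 5)

def t1 : S5 := Equiv.swap 0 1
def t2 : S5 := Equiv.swap 2 3
def ea : S5 := Equiv.swap 2 3 * Equiv.swap 3 4
def eb : S5 := Equiv.swap 0 1 * Equiv.swap 1 4

def InA (x : S5) : Prop := x = 1 ∨ x = t1 ∨ x = t2 ∨ x = t1 * t2
def InA1 (x : S5) : Prop := x = 1 ∨ x = ea ∨ x = ea * ea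
def InA2 (x : S5) : Prop := x = 1 ∨ x = eb ∨ x = eb * eb
def InT (t x : S5) : Prop :=
  x = 1 ∨ (t = t1 ∧ (x = ea ∨ x = ea * ea)) ∨ (t = t2 ∧ (x = eb ∨ x = eb * eb))

instance : DecidablePred InA := fun _ => inferInstanceAs (Decidable (_ ∨ _))
instance : DecidablePred InA1 := fun _ => inferInstanceAs (Decidable (_ ∨ _))
instance : DecidablePred InA2 := fun _ => inferInstanceAs (Decidable (_ ∨ _))
instance (t : S5) : DecidablePred (InT t) := fun _ => inferInstanceAs (Decidable (_ ∨ _))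

def subOf (P : S5 → Prop) (h1 : P 1) (hm : ∀ a, P a → ∀ b, P b → P (a * b))
    (hi : ∀ a, P a → P a⁻¹) : Subgroup S5 where
  carrier := {x | P x}
  one_mem' := h1
  mul_mem' := fun {a b} ha hb => hm a ha b hb
  inv_mem' := fun {a} ha => hi a ha

theorem inA_facts : InA 1 ∧ (∀ a, InA a → ∀ b, InA b → InA (a * b)) ∧ (∀ a, InA a → InA a⁻¹) ∧
    (∀ a, InA a → ∀ b, InA b → a * b = b * a) ∧ (∀ a, InA a → a ^ 2 = 1) ∧
    Fintype.card {x : S5 // InA x} = 4 := by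
  decide +kernel

theorem inA1_facts : InA1 1 ∧ (∀ a, InA1 a → ∀ b, InA1 b → InA1 (a * b)) ∧ (∀ a, InA1 a → InA1 a⁻¹) := by
  decide +kernel

theorem inA2_facts : InA2 1 ∧ (∀ a, InA2 a → ∀ b, InA2 b → InA2 (a * b)) ∧ (∀ a, InA2 a → InA2 a⁻¹) := by
  decide +kernel

def AA : Subgroup S5 := subOf InA inA_facts.1 inA_facts.2.1 inA_facts.2.2.1

def th (t : S5) : Subgroup S5 :=
  if t = t1 then subOf InA1 inA1_facts.1 inA1_facts.2.1 inA1_facts.2.2
  else if t = t2 then subOf InA2 inA2_facts.1 inA2_facts.2.1 inA2_facts.2.2 else ⊥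

theorem mem_th (t x : S5) : x ∈ th t ↔ InT t x := by
  have h12 : t1 ≠ t2 := by decide +kernel
  unfold th InT
  split_ifs with h1 h2
  · subst h1; exact ⟨fun h => h.imp_right fun h => Or.inl ⟨rfl, h⟩,
      fun h => h.imp_right fun h => h.elim (fun h => h.2) (fun h => absurd h.1 h12)⟩
  · subst h2; exact ⟨fun h => h.imp_right fun h => Or.inr ⟨rfl, h⟩,
      fun h => h.imp_right fun h => h.elim (fun h => absurd h.1 h1) (fun h => h.2)⟩
  · rw [Subgroup.mem_bot]; exact ⟨Or.inl, fun h => h.elim id fun h => h.elim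
      (fun h => absurd h.1 h1) (fun h => absurd h.1 h2)⟩

theorem f1 :
    (∀ t, InA t → t ≠ 1 → ∀ x, InT t x → x * t = t * x) := by
  decide +kernel

theorem f2 :
    (∀ t, InA t → t ≠ 1 → ∀ s, InA s → ∀ x, InT t x → InT t (s * x * s⁻¹)) := by
  decide +kernel

set_option synthInstance.maxSize 2000 in
theorem f3 :
    (∀ t, InA t → t ≠ 1 → ∀ s, InA s → s ≠ 1 → ∀ x, InT t x → x * s = s * x → InT s x) := by
  decide +kernel

theorem f4 :
    (∀ t, InA t → t ≠ 1 → ∀ x, InT t x → ∀ y, InT t y → x * y = y * x) := by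
  decide +kernel

theorem f5 :
    (∀ t, InA t → t ≠ 1 → ¬ 2 ∣ Fintype.card {x : S5 // InT t x}) := by
  decide +kernel

theorem f6 :
    (InA t1 ∧ t1 ≠ 1 ∧ InT t1 ea) ∧ (InA t2 ∧ t2 ≠ 1 ∧ InT t2 eb) := by
  decide +kernel

theorem f7 :
    (ea * ea * eb * ea * eb) ^ 2 = 1 ∧ ea * ea * eb * ea * eb ≠ 1 := by
  decide +kernel

theorem facts :
    (∀ t, InA t → t ≠ 1 → ∀ x, InT t x → x * t = t * x) ∧
    (∀ t, InA t → t ≠ 1 → ∀ s, InA s → ∀ x, InT t x → InT t (s * x * s⁻¹)) ∧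
    (∀ t, InA t → t ≠ 1 → ∀ s, InA s → s ≠ 1 → ∀ x, InT t x → x * s = s * x → InT s x) ∧
    (∀ t, InA t → t ≠ 1 → ∀ x, InT t x → ∀ y, InT t y → x * y = y * x) ∧
    (∀ t, InA t → t ≠ 1 → ¬ 2 ∣ Fintype.card {x : S5 // InT t x}) ∧
    (InA t1 ∧ t1 ≠ 1 ∧ InT t1 ea) ∧ (InA t2 ∧ t2 ≠ 1 ∧ InT t2 eb) ∧
    (ea * ea * eb * ea * eb) ^ 2 = 1 ∧ ea * ea * eb * ea * eb ≠ 1 :=
  ⟨f1, f2, f3, f4, f5, f6.1, f6.2, f7.1, f7.2⟩

/-- There exist a finite group X, an elementary abelian subgroup A of order 4 and a solvable A-signalizer functor θ on X for the prime 2 which is not complete. -/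
theorem result : ∃ (X : Type) (_ : Group X) (_ : Finite X) (A : Subgroup X) (θ : X → Subgroup X), Cfsg.IsElementaryAbelian 2 A ∧ Nat.card ↥A = 4 ∧ Cfsg.IsSolvableSignalizerFunctor 2 A θ ∧ ¬ Cfsg.IsCompleteSignalizerFunctor 2 A θ := by
  obtain ⟨hc, hn, hb, hab, hodd, ⟨h1, h1', ha1⟩, ⟨h2, h2', hb2⟩, hw, hw'⟩ := facts
  refine ⟨Equiv.Perm (Fin 5), inferInstance, inferInstance, AA, th,
    ⟨⟨⟨fun x y => Subtype.ext (inA_facts.2.2.2.1 x x.2 y y.2)⟩⟩, fun x hx => inA_facts.2.2.2.2.1 x hx⟩,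
    ?_, ?_, ?_⟩
  · exact (Nat.card_eq_fintype_card (α := {x : Equiv.Perm (Fin 5) // InA x})).trans inA_facts.2.2.2.2.2
  · refine ⟨⟨fun t ht ht1 x hx => Subgroup.mem_centralizer_singleton_iff.mpr (hc t ht ht1 x ((mem_th t x).mp hx)),
      fun t ht ht1 hd => hodd t ht ht1 ?_,
      fun t ht ht1 s hs x hx => (mem_th t _).mpr (hn t ht ht1 s hs x ((mem_th t x).mp hx)),
      fun t ht ht1 s hs hs1 x hx => (mem_th s x).mpr (hb t ht ht1 s hs hs1 x ((mem_th t x).mp hx.1)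
        (Subgroup.mem_centralizer_singleton_iff.mp hx.2))⟩, fun t ht ht1 => ?_⟩
    · rwa [← Nat.card_eq_fintype_card, ← Nat.card_congr (Equiv.subtypeEquivRight (mem_th t))]
    · exact Group.isSolvable_of_comm fun x y => Subtype.ext
        (hab t ht ht1 x ((mem_th t x).mp x.2) y ((mem_th t y).mp y.2))
  · rintro ⟨-, X, -, hodd', hX⟩
    have ha : ea ∈ X := ((hX t1 h1 h1').ge ((mem_th t1 ea).mpr ha1)).1
    have hb' : eb ∈ X := ((hX t2 h2 h2').ge ((mem_th t2 eb).mpr hb2)).1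
    refine hodd' ?_
    have hwX : ea * ea * eb * ea * eb ∈ X :=
      X.mul_mem (X.mul_mem (X.mul_mem (X.mul_mem ha ha) hb') ha) hb'
    rw [← orderOf_eq_prime hw hw']
    exact Subgroup.orderOf_dvd_natCard X hwX

end Cfsg.Agent.S1286
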