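import Cfsg.Statements.S1289
import Cfsg.Agent.Lib.Components.PLayer

set_option autoImplicit false
open Cfsg

namespace Cfsg.Agent.S1289

/-- A p-component K of the finite group X is subnormal, perfect, of order divisible by p, and minimal among the subnormal perfect subgroups of X of order divisible by p. -/
theorem result {X : Type*} [Group X] [Finite X] (p : ℕ) [Fact p.Prime] (K : Subgroup X) (hK : Cfsg.IsPComponent p K) : K.IsSubnormal ∧ ⁅K, K⁆ = K ∧ p ∣ Nat.card ↥K ∧ ∀ H : Subgroup X, H ≤ K → H.IsSubnormal → ⁅H, H⁆ = H → p ∣ Nat.card ↥H → H = K := by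
  open Subgroup CfsgLib.Components in
  haveI : Fact p.Prime := inferInstance
  refine ⟨hK.1, pComponent_commutator_self hK, pComponent_dvd_card hK, fun H hle hH hHH hdvd => ?_⟩
  rcases quasisimple_subnormal_top_or_central hK.2.1.2
    ((hH.map (QuotientGroup.mk'_surjective (Cfsg.pPrimeCore p X))).subgroupOf
      (K := K.map (QuotientGroup.mk' (Cfsg.pPrimeCore p X)))) with h | h
  · exact hK.2.2 H hH hle (le_antisymm (map_mono hle) (subgroupOf_eq_top.mp h))
  · exfalso
    have hb : H.map (QuotientGroup.mk' (Cfsg.pPrimeCore p X)) = ⊥ := by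
      conv_lhs => rw [← hHH, map_commutator]
      rw [commutator_eq_bot_iff_le_centralizer]
      intro x hx y hy
      exact congrArg Subtype.val
        (mem_center_iff.mp (h (show (⟨x, map_mono hle hx⟩ : K.map (QuotientGroup.mk' (Cfsg.pPrimeCore p X))) ∈
          (H.map (QuotientGroup.mk' (Cfsg.pPrimeCore p X))).subgroupOf _ from hx)) ⟨y, map_mono hle hy⟩)
    have hle' : H ≤ Cfsg.pPrimeCore p X :=
      ((Subgroup.map_eq_bot_iff H).mp hb).trans (QuotientGroup.ker_mk' _).le
    exact ((Fact.out : p.Prime).coprime_iff_not_dvd.mp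
      (Nat.Coprime.coprime_dvd_left (card_dvd_of_le hle') (coprime_card_pPrimeCore p)).symm) hdvd

end Cfsg.Agent.S1289
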