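import Cfsg.Statements.S1292
import Cfsg.Agent.Lib.Components.Local

set_option autoImplicit false
open Cfsg

namespace Cfsg.Agent.S1292

/-- Let G be a finite group such that F*(C_G(t)) = O_2(C_G(t)) for every involution t. Then F*(N_G(T)) = O_2(N_G(T)) for every nontrivial 2-subgroup T of G. -/
theorem result {G : Type*} [Group G] [Finite G] (h : ∀ t : G, orderOf t = 2 → Cfsg.generalizedFittingSubgroup ↥(Subgroup.centralizer ({t} : Set G)) = Cfsg.pCore 2 ↥(Subgroup.centralizer ({t} : Set G))) (T : Subgroup G) (hT : IsPGroup 2 ↥T) (hT1 : T ≠ ⊥) : Cfsg.generalizedFittingSubgroup ↥(Subgroup.normalizer (T : Set G)) = Cfsg.pCore 2 ↥(Subgroup.normalizer (T : Set G)) := by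
  open Subgroup CfsgLib.Components in
  haveI : Fact (Nat.Prime 2) := ⟨Nat.prime_two⟩
  haveI : Nontrivial ↥T := (nontrivial_iff_ne_bot T).mpr hT1
  haveI := hT.center_nontrivial
  obtain ⟨z, hz⟩ : ∃ z : ↥(center ↥T), orderOf z = 2 := by
    apply exists_prime_orderOf_dvd_card'
    obtain ⟨n, hn⟩ := (hT.to_subgroup (center ↥T)).exists_card_eq
    rw [hn]
    refine dvd_pow_self _ fun h0 => ?_
    rw [h0, pow_zero] at hn
    exact absurd hn (Finite.one_lt_card (α := ↥(center ↥T))).ne'
  set t : G := ((z : ↥T) : G) with ht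
  have ht2 : orderOf t = 2 := by rw [ht, orderOf_coe, orderOf_coe, hz]
  set C := centralizer ({t} : Set G) with hC
  set N := normalizer (T : Set G) with hN
  have hTC : centralizer (T : Set G) ≤ C := centralizer_le (by
    intro y hy; rw [Set.mem_singleton_iff] at hy; subst hy; exact (z : ↥T).2)
  have hTC' : T ≤ C := by
    intro x hx y hy
    rw [Set.mem_singleton_iff] at hy; subst hy
    exact (congrArg Subtype.val (mem_center_iff.mp z.2 ⟨x, hx⟩)).symm
  have hCN : centralizer (T : Set G) ≤ N := centralizer_le_normalizer _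
  set M := N.subgroupOf C with hM
  have hM1 : T.subgroupOf C ≤ M := fun x hx => le_normalizer (show (x : G) ∈ T from hx)
  have hM2 : centralizer (T.subgroupOf C : Set ↥C) ≤ M := fun x hx =>
    hCN (fun y hy => congrArg Subtype.val (hx ⟨y, hTC' hy⟩ hy))
  have hM3 : M ≤ normalizer (T.subgroupOf C : Set ↥C) := le_normalizer_comap _
  have hMF := genFitting_local_eq_pCore (h t ht2) (isPGroup_subgroupOf hT) hM1 hM2 hM3
  rw [genFitting_eq_pCore_iff_criterion] at hMF ⊢
  let φ : ↥M →* ↥N := { toFun := fun m => ⟨((m : ↥C) : G), m.2⟩, map_one' := rfl, map_mul' := fun _ _ => rfl }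
  have hφ : Function.Injective φ := fun a b e => Subtype.ext (Subtype.ext (congrArg (fun n : ↥N => (n : G)) e))
  have hTn : ((T.subgroupOf N)).Normal := inferInstance
  have hrange : ∀ H : Subgroup ↥N, H ≤ centralizer (T.subgroupOf N : Set ↥N) → H ≤ φ.range := by
    intro H hH x hx
    have hxC : (x : G) ∈ C := hTC fun y hy => congrArg Subtype.val (hH hx ⟨y, le_normalizer hy⟩ hy)
    exact ⟨⟨⟨x, hxC⟩, x.2⟩, rfl⟩
  have hTn2 : T.subgroupOf N ≤ Cfsg.pCore 2 ↥N := subgroupOf_le_pCore hT le_normalizer le_rfl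
  refine ⟨layer_eq_bot_iff.mpr fun L hL => ?_, fun q hq hne => ?_⟩
  · have hLr := hrange L ((component_le_layer hL).trans
      ((layer_le_centralizer_pCore 2).trans (centralizer_le hTn2)))
    have hLe : (L.comap φ).map φ = L := map_comap_eq_self hLr
    refine layer_eq_bot_iff.mp hMF.1 (L.comap φ) ⟨hL.1.comap φ, ?_⟩
    exact (quasisimple_congr (((L.comap φ).equivMapOfInjective φ hφ).trans (MulEquiv.subgroupCongr hLe))).mpr hL.2
  · haveI := Fact.mk hq
    have hQr := hrange (Cfsg.pCore q ↥N) ((le_centralizer_pCore_of_ne hne).trans (centralizer_le hTn2))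
    have hQp : IsPGroup q ↥((Cfsg.pCore q ↥N).comap φ) := (isPGroup_pCore q).comap_of_injective φ hφ
    have hle := le_pCore_of_normal (inferInstance : ((Cfsg.pCore q ↥N).comap φ).Normal) hQp
    rw [hMF.2 q hq hne, le_bot_iff] at hle
    rw [← map_comap_eq_self hQr, hle, Subgroup.map_bot]

end Cfsg.Agent.S1292
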