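import Cfsg.Statements.S1303
import Cfsg.Agent.Lib.PLocal.Constrained

set_option autoImplicit false
open Cfsg

namespace Cfsg.Agent.S1303

local notation "G3" => Matrix.SpecialLinearGroup (Fin 2) (ZMod 3)

/-- Membership in the quaternion subgroup: trace zero, or scalar. -/
def InQ (g : G3) : Prop := g.1 0 0 + g.1 1 1 = 0 ∨ (g.1 0 1 = 0 ∧ g.1 1 0 = 0)

instance inQDecidable : DecidablePred InQ := fun g => inferInstanceAs (Decidable (_ ∨ _))

theorem inQ_mul : ∀ a b : G3, InQ a → InQ b → InQ (a * b) := by decide +kernel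

theorem inQ_inv : ∀ a : G3, InQ a → InQ a⁻¹ := by decide +kernel

theorem inQ_one : InQ (1 : G3) := by decide +kernel

/-- The quaternion subgroup. -/
def QSub : Subgroup G3 where
  carrier := {g | InQ g}
  one_mem' := inQ_one
  mul_mem' := fun {a b} ha hb => inQ_mul a b ha hb
  inv_mem' := fun {a} ha => inQ_inv a ha

instance memQDecidable : DecidablePred (fun g : G3 => g ∈ QSub) := fun g =>
  inferInstanceAs (Decidable (InQ g))

theorem card_QSub : Nat.card QSub = 8 := by
  rw [Nat.card_eq_fintype_card]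
  exact (by decide +kernel : Fintype.card {g : G3 // InQ g} = 8)

theorem inQ_conj : ∀ g a : G3, InQ a → InQ (g * a * g⁻¹) := by decide +kernel

theorem inQ_of_commute : ∀ g : G3, (∀ a : G3, InQ a → a * g = g * a) → InQ g := by decide +kernel

theorem involution_central : ∀ t : G3, t * t = 1 → ∀ g : G3, g * t = t * g := by decide +kernel

/-- An element of order three. -/
def three : G3 := ⟨!![1, 1; 0, 1], by decide +kernel⟩

theorem three_pow : three ^ 3 = 1 := by decide +kernel

theorem three_ne : three ≠ 1 := by decide +kernel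

theorem centralizer_QSub : Subgroup.centralizer (QSub : Set G3) ≤ QSub := fun g hg =>
  inQ_of_commute g fun a ha => hg a ha

theorem QSub_normal : QSub.Normal := ⟨fun a ha g => inQ_conj g a ha⟩

theorem core_eq_bot : Cfsg.pPrimeCore 2 G3 = ⊥ := by
  haveI := QSub_normal
  haveI : (Cfsg.pPrimeCore 2 G3).Normal := Cfsg.pPrimeCore_normal 2 G3
  have hd : QSub ⊓ Cfsg.pPrimeCore 2 G3 = ⊥ := by
    refine Subgroup.inf_eq_bot_of_coprime ?_
    rw [card_QSub]
    exact ((CfsgLib.PLoc.pPrimeCore_coprime (G := G3) 2).pow_right 3).symm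
  have hle : Cfsg.pPrimeCore 2 G3 ≤ Subgroup.centralizer (QSub : Set G3) := fun x hx q hq =>
    (Subgroup.commute_of_normal_of_disjoint QSub (Cfsg.pPrimeCore 2 G3) inferInstance inferInstance
      (disjoint_iff.mpr hd) q x hq hx).eq
  refine le_bot_iff.mp ?_
  rw [← hd]
  exact le_inf (hle.trans centralizer_QSub) le_rfl

/-- The group X = SL(2, 3): it is 2-constrained, O_{2'}(X) = 1, its centre A = Z(X) contains every involution of X = C_X(A), and X has a subgroup of order 3 (normalized by A) not contained in O_{2'}(X). -/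
theorem result : Cfsg.IsPConstrained 2 (Matrix.SpecialLinearGroup (Fin 2) (ZMod 3)) ∧ Cfsg.pPrimeCore 2 (Matrix.SpecialLinearGroup (Fin 2) (ZMod 3)) = ⊥ ∧ (∀ t : Matrix.SpecialLinearGroup (Fin 2) (ZMod 3), orderOf t = 2 → t ∈ Subgroup.center (Matrix.SpecialLinearGroup (Fin 2) (ZMod 3))) ∧ ∃ Q : Subgroup (Matrix.SpecialLinearGroup (Fin 2) (ZMod 3)), Nat.card ↥Q = 3 ∧ ¬ (Q ≤ Cfsg.pPrimeCore 2 (Matrix.SpecialLinearGroup (Fin 2) (ZMod 3))) := by
  haveI : Fact (Nat.Prime 2) := ⟨Nat.prime_two⟩
  refine ⟨?_, core_eq_bot, fun t ht => ?_, ?_⟩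
  · refine (CfsgLib.PLoc.isPConstrained_iff_of_surjective
      (f := MonoidHom.id (Matrix.SpecialLinearGroup (Fin 2) (ZMod 3))) Function.surjective_id
      (by rw [core_eq_bot, MonoidHom.ker_id])).mpr ?_
    have hQ : QSub ≤ Cfsg.pCore 2 (Matrix.SpecialLinearGroup (Fin 2) (ZMod 3)) :=
      CfsgLib.PLoc.le_pCore_of QSub_normal (IsPGroup.iff_card.mpr ⟨3, card_QSub⟩)
    exact ((Subgroup.centralizer_le hQ).trans centralizer_QSub).trans hQ
  · rw [Subgroup.mem_center_iff]
    refine involution_central t ?_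
    rw [← pow_two]
    exact (congrArg (t ^ ·) ht.symm).trans (pow_orderOf_eq_one t)
  · refine ⟨Subgroup.zpowers three, ?_, fun h => three_ne ?_⟩
    · rw [Nat.card_zpowers]
      exact orderOf_eq_prime three_pow three_ne
    · rw [core_eq_bot] at h
      exact Subgroup.mem_bot.mp (h (Subgroup.mem_zpowers three))

end Cfsg.Agent.S1303
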