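import Cfsg.Statements.S1305
import Cfsg.Agent.Lib.Components.InvolComponent

set_option autoImplicit false
set_option linter.style.haveILetI false
set_option linter.unusedVariables false
open Cfsg

namespace Cfsg.Agent.S1305

/-- Let G be a finite group of component type with the B-property and no nontrivial normal subgroup of odd order. Let a be an involution and K a component of C_G(a) such that (a) |K| is maximal among the orders of components of centralizers of involutions of G, (b) subject to (a) the 2-rank of the centralizer of K in C_G(a) is as large as possible, and (c) K has 2-rank at least 2. If B is an elementary abelian 2-subgroup of that centralizer of the largest possible order, then K is a component of C_G(b) for every non-identity b ∈ B. -/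
theorem result {G : Type*} [Group G] [Finite G] (hO : Cfsg.oddCore G = ⊥) (hB : Cfsg.HasBProperty G) (hct : Cfsg.IsComponentType G) (a : G) (ha : orderOf a = 2) (K : Subgroup G) (hKa : K ≤ Subgroup.centralizer ({a} : Set G)) (hK : Cfsg.IsComponent (K.subgroupOf (Subgroup.centralizer ({a} : Set G)))) (hmax : ∀ y : G, orderOf y = 2 → ∀ K' : Subgroup G, K' ≤ Subgroup.centralizer ({y} : Set G) → Cfsg.IsComponent (K'.subgroupOf (Subgroup.centralizer ({y} : Set G))) → Nat.card ↥K' ≤ Nat.card ↥K ∧ (Nat.card ↥K' = Nat.card ↥K → ∀ k : ℕ, Cfsg.PRankLE 2 k ↥(Subgroup.centralizer ({a} : Set G) ⊓ Subgroup.centralizer (K : Set G)) → Cfsg.PRankLE 2 k ↥(Subgroup.centralizer ({y} : Set G) ⊓ Subgroup.centralizer (K' : Set G)))) (hrk : ¬ Cfsg.PRankLE 2 1 ↥K) (B : Subgroup G) (hBle : B ≤ Subgroup.centralizer ({a} : Set G) ⊓ Subgroup.centralizer (K : Set G)) (hBel : Cfsg.IsElementaryAbelian 2 B) (hBmax : ∀ B' : Subgroup G, B' ≤ Subgroup.centralizer ({a} : Set G) ⊓ Subgroup.centralizer (K : Set G) → Cfsg.IsElementaryAbelian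 2 B' → Nat.card ↥B' ≤ Nat.card ↥B) (b : G) (hb : b ∈ B) (hb1 : b ≠ 1) : K ≤ Subgroup.centralizer ({b} : Set G) ∧ Cfsg.IsComponent (K.subgroupOf (Subgroup.centralizer ({b} : Set G))) := by
  haveI : Fact (Nat.Prime 2) := ⟨Nat.prime_two⟩
  have hob : orderOf b = 2 := orderOf_eq_prime (hBel.2 b hb) hb1
  have hBa : ∀ x ∈ B, x * a = a * x := fun x hx =>
    Subgroup.mem_centralizer_singleton_iff.mp (hBle hx).1
  have hBK : B ≤ Subgroup.centralizer (K : Set G) := fun x hx => (hBle hx).2
  have hKb : K ≤ Subgroup.centralizer ({b} : Set G) := fun k hk =>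
    Subgroup.mem_centralizer_singleton_iff.mpr (Subgroup.mem_centralizer_iff.mp (hBK hb) k hk)
  refine ⟨hKb, ?_⟩
  have haC : a ∈ Subgroup.centralizer ({a} : Set G) ⊓ Subgroup.centralizer (K : Set G) :=
    ⟨Subgroup.mem_centralizer_singleton_iff.mpr rfl, Subgroup.mem_centralizer_iff.mpr fun k hk =>
      Subgroup.mem_centralizer_singleton_iff.mp (hKa hk)⟩
  have haa : a ^ 2 = 1 := orderOf_dvd_iff_pow_eq_one.mp ha.dvd
  -- `a` lies in `B`
  have haB : a ∈ B := by
    set B1 := B ⊔ Subgroup.zpowers a with hB1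
    have hB1e : Cfsg.IsElementaryAbelian 2 B1 := by
      have hcomm : ∀ x ∈ B1, ∀ y ∈ B1, x * y = y * x := by
        have h1 : B1 ≤ Subgroup.centralizer (B : Set G) := sup_le
          (fun x hx => Subgroup.mem_centralizer_iff.mpr fun y hy =>
            CfsgLib.Signalizer.elementary_commute hBel hy hx)
          ((Subgroup.zpowers_le).mpr (Subgroup.mem_centralizer_iff.mpr fun y hy => hBa y hy))
        intro x hx y hy
        have h3 : B1 ≤ Subgroup.centralizer {x} := by
          refine sup_le (fun u hu => Subgroup.mem_centralizer_singleton_iff.mpr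
            (Subgroup.mem_centralizer_iff.mp (h1 hx) u hu)) ((Subgroup.zpowers_le).mpr ?_)
          have h4 : B1 ≤ Subgroup.centralizer {a} := sup_le (fun u hu => (hBle hu).1)
            ((Subgroup.zpowers_le).mpr (Subgroup.mem_centralizer_singleton_iff.mpr rfl))
          exact Subgroup.mem_centralizer_singleton_iff.mpr
            (Subgroup.mem_centralizer_singleton_iff.mp (h4 hx)).symm
        exact (Subgroup.mem_centralizer_singleton_iff.mp (h3 hy)).symm
      refine ⟨⟨⟨fun x y => Subtype.ext (hcomm x x.2 y y.2)⟩⟩, fun x hx => ?_⟩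
      let Q : Subgroup G :=
        { carrier := {x | x ∈ B1 ∧ x ^ 2 = 1}
          one_mem' := ⟨one_mem _, one_pow 2⟩
          mul_mem' := fun {u v} hu hv => ⟨mul_mem hu.1 hv.1, by
            rw [Commute.mul_pow (hcomm u hu.1 v hv.1), hu.2, hv.2, one_mul]⟩
          inv_mem' := fun {u} hu => ⟨inv_mem hu.1, by rw [inv_pow, hu.2, inv_one]⟩ }
      have hle : B1 ≤ Q := sup_le (fun u hu => ⟨Subgroup.mem_sup_left hu, hBel.2 u hu⟩)
        ((Subgroup.zpowers_le).mpr ⟨Subgroup.mem_sup_right (Subgroup.mem_zpowers a), haa⟩)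
      exact (hle hx).2
    have hle : B1 ≤ Subgroup.centralizer ({a} : Set G) ⊓ Subgroup.centralizer (K : Set G) :=
      sup_le hBle ((Subgroup.zpowers_le).mpr haC)
    have heq : B = B1 := Subgroup.eq_of_le_of_card_ge le_sup_left (hBmax B1 hle hB1e)
    rw [heq]
    exact Subgroup.mem_sup_right (Subgroup.mem_zpowers a)
  have hBb : B ≤ Subgroup.centralizer ({b} : Set G) := fun x hx =>
    Subgroup.mem_centralizer_singleton_iff.mpr (CfsgLib.Signalizer.elementary_commute hBel hx hb)
  set Cb := Subgroup.centralizer ({b} : Set G) with hCb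
  set a' : ↥Cb := ⟨a, hBb haB⟩ with ha'
  have ha'o : orderOf a' = 2 := by rw [← Subgroup.orderOf_coe]; exact ha
  -- the 2-layer of `C(b)` centralizes its core
  have hX : ⁅Cfsg.pLayer 2 ↥Cb, Cfsg.pPrimeCore 2 ↥Cb⁆ = ⊥ := by
    have h := hB b hob
    rw [hO, le_bot_iff, Subgroup.map_eq_bot_iff_of_injective _ Cb.subtype_injective] at h
    exact h
  set K' := K.subgroupOf Cb with hK'
  have hK'a : K' ≤ Subgroup.centralizer ({a'} : Set ↥Cb) := fun k hk =>
    Subgroup.mem_centralizer_singleton_iff.mpr (Subtype.ext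
      (Subgroup.mem_centralizer_singleton_iff.mp (hKa hk)))
  have hK'c : Cfsg.IsComponent (K'.subgroupOf (Subgroup.centralizer ({a'} : Set ↥Cb))) := by
    let f : ↥(Subgroup.centralizer ({a'} : Set ↥Cb)) →* ↥(Subgroup.centralizer ({a} : Set G)) :=
      { toFun := fun x => ⟨((x : ↥Cb) : G), Subgroup.mem_centralizer_singleton_iff.mpr
          (congrArg Subtype.val (Subgroup.mem_centralizer_singleton_iff.mp x.2))⟩
        map_one' := rfl
        map_mul' := fun _ _ => rfl }
    have heq : K'.subgroupOf (Subgroup.centralizer ({a'} : Set ↥Cb)) =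
        (K.subgroupOf (Subgroup.centralizer ({a} : Set G))).comap f := rfl
    refine ⟨heq ▸ hK.1.comap f, ?_⟩
    refine (CfsgLib.Components.quasisimple_congr ((Subgroup.subgroupOfEquivOfLe hK'a).trans
      (Subgroup.subgroupOfEquivOfLe hKb))).mpr ?_
    exact (CfsgLib.Components.quasisimple_congr (Subgroup.subgroupOfEquivOfLe hKa)).mp hK.2
  -- transport back
  have hback : ∀ D : Subgroup ↥Cb, Cfsg.IsComponent D →
      D.map Cb.subtype ≤ Cb ∧ Cfsg.IsComponent ((D.map Cb.subtype).subgroupOf Cb) := fun D hD =>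
    ⟨Subgroup.map_subtype_le D, by
      rwa [Subgroup.subgroupOf, Subgroup.comap_map_eq_self_of_injective Cb.subtype_injective]⟩
  have hKcard : Nat.card K' = Nat.card K := Nat.card_congr (Subgroup.subgroupOfEquivOfLe hKb).toEquiv
  have hBcard : Nat.card (B.subgroupOf Cb) = Nat.card B :=
    Nat.card_congr (Subgroup.subgroupOfEquivOfLe hBb).toEquiv
  -- the four-subgroup of `K`
  obtain ⟨A, hAc, hA2, hA4⟩ : ∃ A : Subgroup ↥K, IsMulCommutative A ∧ (∀ x ∈ A, x ^ 2 = 1) ∧
      2 < Nat.card A := by
    unfold Cfsg.PRankLE at hrk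
    push Not at hrk
    simpa using hrk
  have hVe : Cfsg.IsElementaryAbelian 2 (A.map K.subtype) := by
    haveI := hAc
    refine ⟨inferInstance, ?_⟩
    rintro _ ⟨x, hx, rfl⟩
    rw [← map_pow, hA2 x hx, map_one]
  have hVK : A.map K.subtype ≤ K := Subgroup.map_subtype_le A
  have hV4 : 4 ≤ Nat.card (A.map K.subtype) := by
    obtain ⟨j, hj⟩ := (CfsgLib.Signalizer.elementary_isPGroup hVe).exists_card_eq
    rw [Subgroup.card_map_of_injective K.subtype_injective] at hj ⊢
    rw [hj] at hA4 ⊢
    rcases j with _ | _ | j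
    · omega
    · omega
    · rw [pow_succ, pow_succ]
      have := Nat.one_le_two_pow (n := j)
      omega
  refine CfsgLib.InvolComponent.isComponent_of_max hX ha'o hK'a hK'c (B := B.subgroupOf Cb)
    (show a' ∈ B.subgroupOf Cb from haB) ?_ (fun x hx => Subgroup.mem_centralizer_iff.mpr fun k hk =>
      Subtype.ext (Subgroup.mem_centralizer_iff.mp (hBK hx) (k : G) hk))
    (V := (A.map K.subtype).subgroupOf Cb) (fun x hx => hVK hx) ?_ ?_ ?_ ?_
  · haveI := hBel.1
    exact ⟨inferInstance, fun x hx => Subtype.ext (hBel.2 x hx)⟩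
  · haveI := hVe.1
    exact ⟨inferInstance, fun x hx => Subtype.ext (hVe.2 x hx)⟩
  · rwa [Nat.card_congr (Subgroup.subgroupOfEquivOfLe (hVK.trans hKb)).toEquiv]
  · intro D hD
    rw [hKcard, ← Subgroup.card_map_of_injective Cb.subtype_injective]
    exact (hmax b hob _ (hback D hD).1 (hback D hD).2).1
  · intro D hD hDK B'' hB''D hB''e
    obtain ⟨k, hk⟩ := (CfsgLib.Signalizer.elementary_isPGroup hBel).exists_card_eq
    have hra : Cfsg.PRankLE 2 k
        ↥(Subgroup.centralizer ({a} : Set G) ⊓ Subgroup.centralizer (K : Set G)) := by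
      intro A' hA'c hA'2
      rw [← hk, ← Subgroup.card_map_of_injective (Subgroup.subtype_injective _)]
      refine hBmax _ (Subgroup.map_subtype_le A') ?_
      haveI := hA'c
      refine ⟨inferInstance, ?_⟩
      rintro _ ⟨x, hx, rfl⟩
      rw [← map_pow, hA'2 x hx, map_one]
    have hDcard : Nat.card (D.map Cb.subtype) = Nat.card K := by
      rw [Subgroup.card_map_of_injective Cb.subtype_injective, hDK, hKcard]
    have hrb := (hmax b hob _ (hback D hD).1 (hback D hD).2).2 hDcard k hra
    have hle : B''.map Cb.subtype ≤ Subgroup.centralizer ({b} : Set G) ⊓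
        Subgroup.centralizer ((D.map Cb.subtype : Subgroup G) : Set G) := by
      rintro _ ⟨x, hx, rfl⟩
      refine ⟨x.2, Subgroup.mem_centralizer_iff.mpr ?_⟩
      rintro _ ⟨d, hd, rfl⟩
      exact congrArg Subtype.val (Subgroup.mem_centralizer_iff.mp (hB''D hx) d hd)
    haveI := hB''e.1
    have hrk' := hrb ((B''.map Cb.subtype).subgroupOf _) inferInstance fun x hx => Subtype.ext (by
      obtain ⟨y, hy, hyx⟩ := Subgroup.mem_subgroupOf.mp hx
      rw [Subgroup.coe_pow, ← hyx, ← map_pow, hB''e.2 y hy, map_one, Subgroup.coe_one])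
    rw [Nat.card_congr (Subgroup.subgroupOfEquivOfLe hle).toEquiv,
      Subgroup.card_map_of_injective Cb.subtype_injective] at hrk'
    rw [hBcard, hk]
    exact hrk'

end Cfsg.Agent.S1305
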