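import Cfsg.Statements.S1306
import Cfsg.Agent.Lib.Components.GenFittingSub

set_option autoImplicit false
open Cfsg

namespace Cfsg.Agent.S1306

/-- Let G be finite, x an involution and L ≤ C_G(x) a component of C_G(x). Suppose L is a component of C_G(y) for every involution y ∈ C_G(L), and ⁅L, g L g⁻¹⁆ ≠ 1 whenever g L g⁻¹ ≠ L. Then L is a standard subgroup of G. -/
theorem result {G : Type*} [Group G] [Finite G] (x : G) (hx : orderOf x = 2) (L : Subgroup G) (hLx : L ≤ Subgroup.centralizer ({x} : Set G)) (hL : Cfsg.IsComponent (L.subgroupOf (Subgroup.centralizer ({x} : Set G)))) (hne : ∀ y : G, orderOf y = 2 → y ∈ Subgroup.centralizer (L : Set G) → L ≤ Subgroup.centralizer ({y} : Set G) ∧ Cfsg.IsComponent (L.subgroupOf (Subgroup.centralizer ({y} : Set G)))) (hnc : ∀ g : G, L.map (MulAut.conj g).toMonoidHom ≠ L → ⁅L, L.map (MulAut.conj g).toMonoidHom⁆ ≠ ⊥) : Cfsg.IsStandardSubgroup L := by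
  classical
  have hq : Cfsg.IsQuasisimple ↥L :=
    (CfsgLib.Components.quasisimple_congr (Subgroup.subgroupOfEquivOfLe hLx)).mp hL.2
  have hcx : x ∈ Subgroup.centralizer (L : Set G) :=
    Subgroup.mem_centralizer_iff.mpr fun l hl => Subgroup.mem_centralizer_singleton_iff.mp (hLx hl)
  have hne1 : ∀ g : G, L.map (MulAut.conj g).toMonoidHom ≠ L →
      ∀ y : G, orderOf y = 2 → y ∈ Subgroup.centralizer (L : Set G) →
        g⁻¹ * y * g ∈ Subgroup.centralizer (L : Set G) → False := by
    intro g hg y hy hyC hyg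
    obtain ⟨h1, h1c⟩ := hne y hy hyC
    have hyo : orderOf (g⁻¹ * y * g) = 2 := by
      rw [← hy]
      rw [show g⁻¹ * y * g = MulAut.conj g⁻¹ y by simp [MulAut.conj_apply]]
      exact (MulAut.conj g⁻¹).orderOf_eq y
    obtain ⟨-, h2c⟩ := hne _ hyo hyg
    have h3 := CfsgLib.GenFittingSub.component_subgroupOf_conj g h2c
    rw [CfsgLib.GenFittingSub.map_conj_centralizer, Set.image_singleton] at h3
    rw [show (MulAut.conj g) (g⁻¹ * y * g) = y by simp [MulAut.conj_apply, mul_assoc]] at h3
    have h2 : L.map (MulAut.conj g).toMonoidHom ≤ Subgroup.centralizer ({y} : Set G) := by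
      rintro _ ⟨l, hl, rfl⟩
      rw [Subgroup.mem_centralizer_singleton_iff]
      have h4 : l * (g⁻¹ * y * g) = g⁻¹ * y * g * l := Subgroup.mem_centralizer_iff.mp hyg l hl
      show g * l * g⁻¹ * y = y * (g * l * g⁻¹)
      calc g * l * g⁻¹ * y = g * (l * (g⁻¹ * y * g)) * g⁻¹ := by
            simp only [mul_assoc, mul_inv_cancel, mul_one]
        _ = y * (g * l * g⁻¹) := by rw [h4]; simp only [mul_assoc, mul_inv_cancel_left]
    rcases CfsgLib.Components.component_eq_or_commutator h1c h3 with he | he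
    · have := congrArg (Subgroup.map (Subgroup.centralizer ({y} : Set G)).subtype) he
      rw [Subgroup.map_subgroupOf_eq_of_le h1, Subgroup.map_subgroupOf_eq_of_le h2] at this
      exact hg this.symm
    · exact hnc g hg ((CfsgLib.Components.commutator_subgroupOf_eq_bot_iff h1 h2).mp he)
  have hNle : Subgroup.normalizer (L : Set G) ≤
      Subgroup.normalizer (Subgroup.centralizer (L : Set G) : Set G) := by
    intro g hg
    rw [Subgroup.mem_normalizer_iff_map_conj_eq] at hg ⊢
    change L.map (MulAut.conj g).toMonoidHom = L at hg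
    show (Subgroup.centralizer (L : Set G)).map (MulAut.conj g).toMonoidHom = _
    rw [CfsgLib.GenFittingSub.map_conj_centralizer]
    conv_rhs => rw [← hg, Subgroup.coe_map]
    rfl
  refine ⟨hq, ⟨?_, ?_⟩, hnc, le_antisymm hNle ?_⟩
  · rw [even_iff_two_dvd, ← hx]
    exact Subgroup.orderOf_dvd_natCard _ hcx
  · intro g hg
    by_contra hev
    rw [Nat.not_odd_iff_even, even_iff_two_dvd] at hev
    haveI : Fact (Nat.Prime 2) := ⟨Nat.prime_two⟩
    obtain ⟨y, hy⟩ := exists_prime_orderOf_dvd_card' 2 hev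
    obtain ⟨hy1, hy2⟩ := Subgroup.mem_inf.mp y.2
    refine hne1 g (fun h => hg (hNle (Subgroup.mem_normalizer_iff_map_conj_eq.mpr h))) (y : G)
      (by rw [Subgroup.orderOf_coe]; exact hy) hy1 (CfsgLib.Components.mem_map_conj.mp hy2)
  · intro g hg
    rw [Subgroup.mem_normalizer_iff_map_conj_eq] at hg ⊢
    by_contra hgL
    refine hne1 g hgL x hx hcx (CfsgLib.Components.mem_map_conj.mp ?_)
    exact ((le_of_eq hg.symm) hcx)

end Cfsg.Agent.S1306
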