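import Cfsg.Statements.S1307
import Cfsg.Agent.S0201
import Cfsg.Agent.Lib.Solvable.UniqueInvolution
import Cfsg.Agent.Lib.Components.PLayer
import Cfsg.Agent.Lib.PLocal.Constrained

set_option autoImplicit false
open Cfsg

namespace Cfsg.Agent.S1307

set_option maxHeartbeats 800000 in
set_option linter.unusedSimpArgs false in
/-- Let G be finite, x an involution and L ≤ C_G(x) a component of C_G(x) of even order and 2-rank 1, such that L is a component of C_G(y) for every involution y ∈ C_G(L). Then some involution of L is a classical involution of G. -/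
theorem result {G : Type*} [Group G] [Finite G] (x : G) (hx : orderOf x = 2) (L : Subgroup G) (hLx : L ≤ Subgroup.centralizer ({x} : Set G)) (hL : Cfsg.IsComponent (L.subgroupOf (Subgroup.centralizer ({x} : Set G)))) (heven : Even (Nat.card ↥L)) (hrk : Cfsg.PRankLE 2 1 ↥L) (hne : ∀ y : G, orderOf y = 2 → y ∈ Subgroup.centralizer (L : Set G) → L ≤ Subgroup.centralizer ({y} : Set G) ∧ Cfsg.IsComponent (L.subgroupOf (Subgroup.centralizer ({y} : Set G)))) : ∃ t ∈ L, Cfsg.IsClassicalInvolution t := by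
  classical
  haveI : Fact (Nat.Prime 2) := ⟨Nat.prime_two⟩
  have hq : Cfsg.IsQuasisimple ↥L :=
    (CfsgLib.Components.quasisimple_congr (Subgroup.subgroupOfEquivOfLe hLx)).mp hL.2
  haveI := hq.1
  haveI := CfsgLib.Components.quasisimple_nontrivial hq
  haveI := CfsgLib.Solvable.pPrimeCore_normal 2 ↥L
  obtain ⟨P⟩ : Nonempty (Sylow 2 ↥L) := inferInstance
  -- unique involution in `P`
  have hone : ∀ u v : ↥(P : Subgroup ↥L), u ^ 2 = 1 → u ≠ 1 → v ^ 2 = 1 → v ≠ 1 → u * v = v * u →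
      u = v := by
    intro u v hu hu1 hv hv1 hc
    by_contra hne
    let A : Subgroup ↥L :=
      { carrier := {1, (u : ↥L), (v : ↥L), (u : ↥L) * v}
        one_mem' := Or.inl rfl
        mul_mem' := ?_
        inv_mem' := ?_ }
    rotate_left
    · have hu' : (u : ↥L) * u = 1 := by rw [← sq]; exact congrArg Subtype.val hu
      have hv' : (v : ↥L) * v = 1 := by rw [← sq]; exact congrArg Subtype.val hv
      have hc' : (u : ↥L) * v = v * u := congrArg Subtype.val hc
      have e1 : ∀ z : ↥L, (u : ↥L) * (u * z) = z := fun z => by rw [← mul_assoc, hu', one_mul]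
      have e2 : ∀ z : ↥L, (v : ↥L) * (v * z) = z := fun z => by rw [← mul_assoc, hv', one_mul]
      have e3 : ∀ z : ↥L, (v : ↥L) * (u * z) = u * (v * z) := fun z => by
        rw [← mul_assoc, ← hc', mul_assoc]
      intro a b ha hb
      simp only [Set.mem_insert_iff, Set.mem_singleton_iff] at ha hb ⊢
      rcases ha with rfl | rfl | rfl | rfl <;> rcases hb with rfl | rfl | rfl | rfl <;>
        simp [mul_assoc, hu', hv', hc'.symm, e1, e2, e3]
    · intro a ha
      simp only [Set.mem_insert_iff, Set.mem_singleton_iff] at ha ⊢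
      have hu' : (u : ↥L)⁻¹ = u := inv_eq_of_mul_eq_one_right (by rw [← sq]; exact congrArg Subtype.val hu)
      have hv' : (v : ↥L)⁻¹ = v := inv_eq_of_mul_eq_one_right (by rw [← sq]; exact congrArg Subtype.val hv)
      have hc' : (u : ↥L) * v = v * u := congrArg Subtype.val hc
      rcases ha with rfl | rfl | rfl | rfl <;> simp [hu', hv', hc'.symm]
    have hu' : (u : ↥L) * u = 1 := by rw [← sq]; exact congrArg Subtype.val hu
    have hv' : (v : ↥L) * v = 1 := by rw [← sq]; exact congrArg Subtype.val hv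
    have hc' : (u : ↥L) * v = v * u := congrArg Subtype.val hc
    have hsq : ∀ a ∈ A, a ^ 2 = 1 := by
      intro a ha
      have ha' : a = 1 ∨ a = (u : ↥L) ∨ a = (v : ↥L) ∨ a = (u : ↥L) * v := ha
      rcases ha' with rfl | rfl | rfl | rfl
      · exact one_pow 2
      · rw [sq, hu']
      · rw [sq, hv']
      · rw [(show Commute (u : ↥L) v from hc').mul_pow, sq, sq, hu', hv', one_mul]
    have hAc : IsMulCommutative ↥A := ⟨⟨fun a b => Subtype.ext (by
      have ha := hsq a a.2
      have hb := hsq b b.2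
      have hab := hsq _ (mul_mem a.2 b.2)
      rw [sq] at ha hb hab
      have ia : (a : ↥L)⁻¹ = a := inv_eq_of_mul_eq_one_right ha
      have ib : (b : ↥L)⁻¹ = b := inv_eq_of_mul_eq_one_right hb
      have iab : ((a : ↥L) * b)⁻¹ = a * b := inv_eq_of_mul_eq_one_right hab
      show (a : ↥L) * b = b * a
      rw [← iab, mul_inv_rev, ia, ib])⟩⟩
    have hA := hrk A hAc hsq
    let u' : ↥A := ⟨u, Or.inr (Or.inl rfl)⟩
    let v' : ↥A := ⟨v, Or.inr (Or.inr (Or.inl rfl))⟩
    have hu'1 : u' ≠ 1 := fun e => hu1 (Subtype.ext (congrArg (fun z : ↥A => (z : ↥L)) e))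
    have hv'1 : v' ≠ 1 := fun e => hv1 (Subtype.ext (congrArg (fun z : ↥A => (z : ↥L)) e))
    haveI : Nontrivial ↥A := ⟨⟨u', 1, hu'1⟩⟩
    have h2 : Nat.card ↥A = 2 := by
      have := Finite.one_lt_card (α := ↥A)
      rw [pow_one] at hA
      omega
    obtain ⟨y, -, hy⟩ := (Nat.card_eq_two_iff' (1 : ↥A)).mp h2
    exact hne (Subtype.ext (congrArg (fun z : ↥A => (z : ↥L)) ((hy u' hu'1).trans (hy v' hv'1).symm)))
  have hPne : (P : Subgroup ↥L) ≠ ⊥ := P.ne_bot_of_dvd_card (even_iff_two_dvd.mp heven)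
  have huniq : ∀ u v : ↥(P : Subgroup ↥L), u ^ 2 = 1 → u ≠ 1 → v ^ 2 = 1 → v ≠ 1 → u = v := by
    intro u v hu hu1 hv hv1
    haveI : Nontrivial ↥(P : Subgroup ↥L) := (Subgroup.nontrivial_iff_ne_bot _).mpr hPne
    obtain ⟨z, -, hzc, hzo⟩ := CfsgLib.PGroup.exists_central_orderOf_eq P.isPGroup'
      (⊤ : Subgroup ↥(P : Subgroup ↥L)) top_ne_bot
    have hz : z ^ 2 = 1 := orderOf_dvd_iff_pow_eq_one.mp hzo.dvd
    have hz1 : z ≠ 1 := fun e => by rw [e, orderOf_one] at hzo; omega
    exact (hone u z hu hu1 hz hz1 (Subgroup.mem_center_iff.mp hzc u)).trans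
      (hone v z hv hv1 hz hz1 (Subgroup.mem_center_iff.mp hzc v)).symm
  have hncyc : ¬ IsCyclic ↥(P : Subgroup ↥L) := by
    intro hcyc
    have hmin : (Nat.card ↥L).minFac = 2 :=
      (Nat.minFac_eq_two_iff _).mpr (even_iff_two_dvd.mp heven)
    have hN := IsCyclic.normalizer_le_centralizer hmin (P := P) hcyc
    have hker : (MonoidHom.transferSylow P hN).ker = ⊤ := by
      rw [eq_top_iff, ← Group.IsPerfect.commutator_eq_top (G := ↥L), _root_.commutator_def,
        Subgroup.commutator_le]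
      intro a _ b _
      rw [MonoidHom.mem_ker, map_commutatorElement]
      exact commutatorElement_eq_one_iff_mul_comm.mpr
        (hcyc.isMulCommutative.is_comm.comm _ _)
    have h := (MonoidHom.ker_transferSylow_isComplement' P hN).disjoint
    rw [hker] at h
    exact hPne (top_disjoint.mp h)
  obtain ⟨k, ⟨e⟩⟩ : ∃ k : ℕ, Nonempty (↥(P : Subgroup ↥L) ≃* QuaternionGroup (2 ^ (k + 1))) := by
    rcases CfsgLib.Solvable.isCyclic_or_quaternion_of_unique_involution P.isPGroup' huniq with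
      h | ⟨k, ⟨e⟩⟩
    · exact absurd h hncyc
    · rcases k with _ | k
      · exfalso
        apply hncyc
        haveI : IsCyclic (QuaternionGroup (2 ^ 0)) := by
          rw [pow_zero]
          exact QuaternionGroup.quaternionGroup_one_isCyclic
        exact isCyclic_of_surjective e.symm.toMonoidHom e.symm.surjective
      · exact ⟨k, ⟨e⟩⟩
  -- an involution of the centre
  set f := QuotientGroup.mk' (Cfsg.pPrimeCore 2 ↥L) with hf
  have hfs : Function.Surjective f := QuotientGroup.mk'_surjective _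
  set P' : Sylow 2 (↥L ⧸ Cfsg.pPrimeCore 2 ↥L) := P.mapSurjective hfs with hP'
  have hinj : Function.Injective (f.comp (P : Subgroup ↥L).subtype) := by
    rw [← MonoidHom.ker_eq_bot_iff, eq_bot_iff]
    intro x hx
    have hx' : (x : ↥L) ∈ Cfsg.pPrimeCore 2 ↥L := (QuotientGroup.eq_one_iff _).mp hx
    have h1 := CfsgLib.PLoc.disjoint_of_pgroup_coprime P.isPGroup'
      (CfsgLib.Solvable.pPrimeCore_card_coprime 2 ↥L)
    have h2 : (x : ↥L) ∈ (P : Subgroup ↥L) ⊓ Cfsg.pPrimeCore 2 ↥L := ⟨x.2, hx'⟩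
    rw [h1, Subgroup.mem_bot] at h2
    exact Subtype.ext h2
  have e' : ↥(P' : Subgroup (↥L ⧸ Cfsg.pPrimeCore 2 ↥L)) ≃* QuaternionGroup (2 ^ (k + 1)) :=
    ((MulEquiv.subgroupCongr (by rw [hP', Sylow.coe_mapSurjective, MonoidHom.range_comp,
      Subgroup.range_subtype])).trans (MonoidHom.ofInjective hinj).symm).trans e
  have hZ : Nat.card (Subgroup.center (↥L ⧸ Cfsg.pPrimeCore 2 ↥L)) = 2 := by
    refine Cfsg.Agent.S0201.result P' k e' fun N hN hNodd => le_bot_iff.mp ?_
    rw [← CfsgLib.Components.pPrimeCore_quotient_self (G := ↥L) (p := 2)]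
    exact CfsgLib.Solvable.le_pPrimeCore hN (Nat.coprime_two_right.mpr hNodd)
  set Z := (Subgroup.center (↥L ⧸ Cfsg.pPrimeCore 2 ↥L)).comap f with hZdef
  have hZc : Z ≤ Subgroup.center ↥L := by
    refine (CfsgLib.Components.quasisimple_normal_top_or_central hq
      (Subgroup.Normal.comap inferInstance f)).resolve_left fun htop => ?_
    haveI : Group.IsPerfect (↥L ⧸ Cfsg.pPrimeCore 2 ↥L) := Group.IsPerfect.ofSurjective hfs
    haveI : Nontrivial (↥L ⧸ Cfsg.pPrimeCore 2 ↥L) := by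
      rw [← Finite.one_lt_card_iff_nontrivial]
      exact lt_of_lt_of_le (by omega : 1 < Nat.card (Subgroup.center (↥L ⧸ Cfsg.pPrimeCore 2 ↥L)))
        (Subgroup.card_le_card_group _)
    refine CfsgLib.Components.center_ne_top (G := ↥L ⧸ Cfsg.pPrimeCore 2 ↥L) ?_
    rw [← Subgroup.map_comap_eq_self_of_surjective hfs (Subgroup.center _)]
    show Z.map f = ⊤
    rw [show Z = ⊤ from htop, Subgroup.map_top_of_surjective _ hfs]
  have hZ2 : 2 ∣ Nat.card ↥Z := by
    rw [hZdef, CfsgLib.PLoc.card_comap_of_surjective hfs, hZ]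
    exact dvd_mul_left 2 _
  obtain ⟨t, ht⟩ := exists_prime_orderOf_dvd_card' 2 hZ2
  have hto : orderOf (((t : ↥Z) : ↥L) : G) = 2 := by
    rw [Subgroup.orderOf_coe, Subgroup.orderOf_coe, ht]
  have htC : (((t : ↥Z) : ↥L) : G) ∈ Subgroup.centralizer (L : Set G) := by
    rw [Subgroup.mem_centralizer_iff]
    intro l hl
    exact congrArg Subtype.val (Subgroup.mem_center_iff.mp (hZc t.2) ⟨l, hl⟩)
  obtain ⟨h1, h2⟩ := hne _ hto htC
  exact ⟨_, ((t : ↥Z) : ↥L).2, hto, L, h1, ((t : ↥Z) : ↥L).2, h2.1, P, k, ⟨e⟩⟩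

end Cfsg.Agent.S1307
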