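import Cfsg.Statements.S1312
import Cfsg.Agent.Lib.Components.GenFittingSub
import Cfsg.Agent.Lib.Components.Local

set_option autoImplicit false
open Cfsg

namespace Cfsg.Agent.S1312

open Subgroup CfsgLib.Components

variable {G : Type*} [Group G]

/-- `O_q(H)` as a subgroup of `G`. -/
def F (q : ℕ) (H : Subgroup G) : Subgroup G := (Cfsg.pCore q ↥H).map H.subtype

theorem F_le (q : ℕ) (H : Subgroup G) : F q H ≤ H := map_subtype_le _

theorem F_pgroup (q : ℕ) (H : Subgroup G) : IsPGroup q ↥(F q H) :=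
  (CfsgLib.Solvable.pCore_isPGroup q ↥H).map _

theorem F_conj [Finite G] (q : ℕ) (H : Subgroup G) (g : G) :
    (F q H).map (MulAut.conj g).toMonoidHom = F q (H.map (MulAut.conj g).toMonoidHom) := by
  have he := pCore_map_equiv q (H.equivMapOfInjective (MulAut.conj g).toMonoidHom (MulAut.conj g).injective)
  rw [F, F, ← he, Subgroup.map_map, Subgroup.map_map]
  rfl

theorem normalizer_le_normalizer_F [Finite G] (q : ℕ) (H : Subgroup G) :
    normalizer (H : Set G) ≤ normalizer (F q H : Set G) := by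
  intro g hg
  refine mem_normalizer_fintype fun x hx => ?_
  have h := F_conj q H g
  rw [map_conj_eq_of_mem_normalizer hg] at h
  exact h.le ⟨x, hx, rfl⟩

theorem le_normalizer_F [Finite G] (q : ℕ) (H : Subgroup G) : H ≤ normalizer (F q H : Set G) :=
  le_normalizer.trans (normalizer_le_normalizer_F q H)

theorem le_F [Finite G] {q : ℕ} [Fact q.Prime] {X H : Subgroup G} (hX : IsPGroup q ↥X) (hle : X ≤ H)
    (hn : H ≤ normalizer (X : Set G)) : X ≤ F q H := by
  rw [← map_subgroupOf_eq_of_le hle]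
  exact map_mono (subgroupOf_le_pCore hX hle hn)

theorem F_mono_fitting [Finite G] {q : ℕ} (hq : q.Prime) (H : Subgroup G) :
    F q H ≤ (Cfsg.generalizedFittingSubgroup ↥H).map H.subtype := by
  haveI := Fact.mk hq
  exact map_mono ((pCore_le_fitting q).trans fitting_le_genFitting)

theorem commute_of_pgroups {q r : ℕ} [Fact q.Prime] [Fact r.Prime] (hne : q ≠ r) {X Y D : Subgroup G}
    (hX : IsPGroup q ↥X) (hY : IsPGroup r ↥Y) (hXD : X ≤ D) (hYD : Y ≤ D)
    (hnX : D ≤ normalizer (X : Set G)) (hnY : D ≤ normalizer (Y : Set G)) :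
    X ≤ centralizer (Y : Set G) := by
  refine commutator_eq_bot_iff_le_centralizer.mp (le_bot_iff.mp ?_)
  refine le_trans ?_ (IsPGroup.disjoint_of_ne q r hne _ _ hX hY).le_bot
  rw [commutator_le]
  intro x hx y hy
  refine mem_inf.mpr ⟨?_, mul_mem ((mem_normalizer_iff.mp (hnY (hXD hx)) y).mp hy) (inv_mem hy)⟩
  show x * y * x⁻¹ * y⁻¹ ∈ X
  rw [show x * y * x⁻¹ * y⁻¹ = x * (y * x⁻¹ * y⁻¹) by group]
  exact mul_mem hx ((mem_normalizer_iff.mp (hnX (hYD hy)) x⁻¹).mp (inv_mem hx))

theorem normalizer_le [IsSimpleGroup G] {M X : Subgroup G} (hM : IsCoatom M) (hX : X ≤ M)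
    (hn : M ≤ normalizer (X : Set G)) (hne : X ≠ ⊥) : normalizer (X : Set G) ≤ M := by
  rcases lt_or_eq_of_le hn with hlt | heq
  · exfalso
    have hXn : X.Normal := normalizer_eq_top_iff.mp (hM.2 _ hlt)
    rcases hXn.eq_bot_or_eq_top with h | h
    · exact hne h
    · exact hM.1 (top_le_iff.mp (h ▸ hX))
  · exact heq.ge

theorem centralizer_all_le [Finite G] {M : Subgroup G} (hE : Cfsg.layer ↥M = ⊥) {x : G} (hxM : x ∈ M)
    (h : ∀ p : ℕ, p.Prime → ∀ y ∈ F p M, y * x = x * y) :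
    (⟨x, hxM⟩ : ↥M) ∈ Cfsg.fittingSubgroup ↥M := by
  refine centralizer_fitting_le_iff.mpr hE ?_
  have hle : Cfsg.fittingSubgroup ↥M ≤ centralizer {(⟨x, hxM⟩ : ↥M)} :=
    fitting_le_of_pCore_le fun p hp y hy =>
      mem_centralizer_singleton_iff.mpr (Subtype.ext (h p hp (y : G) ⟨y, hy, rfl⟩))
  rw [mem_centralizer_iff]
  exact fun y hy => mem_centralizer_singleton_iff.mp (hle hy)

theorem exists_pow_mem [Finite G] {q : ℕ} [Fact q.Prime] (M : Subgroup G) :
    ∃ m : ℕ, m.Coprime q ∧ ∀ f : ↥M, f ∈ Cfsg.fittingSubgroup ↥M → (f : G) ^ m ∈ F q M := by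
  haveI := CfsgLib.Solvable.fittingSubgroup_isNilpotent ↥M
  obtain ⟨P⟩ : Nonempty (Sylow q ↥(Cfsg.fittingSubgroup ↥M)) := inferInstance
  haveI hPn : (P : Subgroup ↥(Cfsg.fittingSubgroup ↥M)).Normal := inferInstance
  haveI := CfsgLib.Solvable.fittingSubgroup_normal ↥M
  refine ⟨(P : Subgroup ↥(Cfsg.fittingSubgroup ↥M)).index,
    ((Fact.out : q.Prime).coprime_iff_not_dvd.mpr P.not_dvd_index).symm, fun f hf => ?_⟩
  refine ⟨f ^ _, ?_, rfl⟩
  refine CfsgLib.Solvable.map_subtype_pCore_le (Cfsg.fittingSubgroup ↥M)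
    ⟨(⟨f, hf⟩ : ↥(Cfsg.fittingSubgroup ↥M)) ^ _, ?_, rfl⟩
  exact CfsgLib.Solvable.le_pCore hPn P.isPGroup' (Subgroup.pow_index_mem _ _)

theorem eq_one_of_pow {H : Type*} [Group H] {q m k : ℕ} (hm : m.Coprime q) {y : H}
    (h1 : y ^ q ^ k = 1) (h2 : y ^ m = 1) : y = 1 := by
  rw [← orderOf_eq_one_iff]
  exact Nat.eq_one_of_dvd_coprimes (hm.pow_right k) (orderOf_dvd_of_pow_eq_one h2)
    (orderOf_dvd_of_pow_eq_one h1)

theorem F_eq_bot [Finite G] {M N : Subgroup G} (hE : Cfsg.layer ↥M = ⊥)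
    (hNM : ∀ q : ℕ, q.Prime → F q N ≤ M)
    (hMN : ∀ q : ℕ, q.Prime → F q M ≤ N) {q : ℕ} (hq : q.Prime)
    (h : F q M = ⊥) : F q N = ⊥ := by
  haveI := Fact.mk hq
  rw [eq_bot_iff]
  intro x hx
  have hxM := hNM q hq hx
  have hfit : (⟨x, hxM⟩ : ↥M) ∈ Cfsg.fittingSubgroup ↥M := by
    refine centralizer_all_le hE hxM fun p hp y hy => ?_
    haveI := Fact.mk hp
    rcases eq_or_ne q p with rfl | hne
    · rw [h, mem_bot] at hy
      rw [hy, one_mul, mul_one]
    · exact mem_centralizer_iff.mp (commute_of_pgroups (D := M ⊓ N) hne (F_pgroup q N) (F_pgroup p M)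
        (le_inf (hNM q hq) (F_le q N)) (le_inf (F_le p M) (hMN p Fact.out))
        (inf_le_right.trans (le_normalizer_F q N)) (inf_le_left.trans (le_normalizer_F p M)) hx) y hy
  obtain ⟨m, hm, hpow⟩ := exists_pow_mem (q := q) M
  have h2 := hpow _ hfit
  rw [h, mem_bot] at h2
  obtain ⟨k, hk⟩ := F_pgroup q N ⟨x, hx⟩
  exact mem_bot.mpr (eq_one_of_pow hm (congrArg Subtype.val hk) h2)

theorem core_eq [Finite G] [IsSimpleGroup G] {M N : Subgroup G} (hM : IsCoatom M) (hN : IsCoatom N)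
    (hE : Cfsg.layer ↥M = ⊥) (hgfM : (Cfsg.generalizedFittingSubgroup ↥M).map M.subtype ≤ N)
    (hMN : ∀ q : ℕ, q.Prime → F q M ≤ N) (hNM : ∀ q : ℕ, q.Prime → F q N ≤ M) {q r : ℕ} [Fact q.Prime] [Fact r.Prime]
    (hne : q ≠ r) (hqM : F q M ≠ ⊥) (hqN : F q N ≠ ⊥) (hrM : F r M ≠ ⊥) :
    F r (M ⊓ N) = F r M := by
  set D := M ⊓ N with hD
  have hFMD : ∀ p : ℕ, p.Prime → F p M ≤ F p D := fun p hp => by
    haveI := Fact.mk hp
    exact le_F (F_pgroup p M) (le_inf (F_le p M) (hMN p hp)) (inf_le_left.trans (le_normalizer_F p M))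
  have hFND : ∀ p : ℕ, p.Prime → F p N ≤ F p D := fun p hp => by
    haveI := Fact.mk hp
    exact le_F (F_pgroup p N) (le_inf (hNM p hp) (F_le p N)) (inf_le_right.trans (le_normalizer_F p N))
  have hcomm : ∀ a b : ℕ, a.Prime → b.Prime → a ≠ b → F a D ≤ centralizer (F b D : Set G) :=
    fun a b ha hb hab => by
      haveI := Fact.mk ha
      haveI := Fact.mk hb
      exact commute_of_pgroups hab (F_pgroup a D) (F_pgroup b D) (F_le a D) (F_le b D)
        (le_normalizer_F a D) (le_normalizer_F b D)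
  have hCD : centralizer (F q D : Set G) ≤ D := le_inf
    (((centralizer_le (hFMD q Fact.out)).trans (centralizer_le_normalizer _)).trans
      (normalizer_le hM (F_le q M) (le_normalizer_F q M) hqM))
    (((centralizer_le (hFND q Fact.out)).trans (centralizer_le_normalizer _)).trans
      (normalizer_le hN (F_le q N) (le_normalizer_F q N) hqN))
  have hQr : F r D = F r (centralizer (F q D : Set G)) := by
    refine le_antisymm (le_F (F_pgroup r D) (hcomm r q Fact.out Fact.out hne.symm)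
      (hCD.trans (le_normalizer_F r D))) (le_F (F_pgroup r _) ((F_le r _).trans hCD) ?_)
    refine le_trans ?_ (normalizer_le_normalizer_F r _)
    intro g hg
    refine mem_normalizer_fintype fun x hx => ?_
    rw [SetLike.mem_coe, mem_centralizer_iff] at hx ⊢
    intro y hy
    have hy' : g⁻¹ * y * g ∈ F q D := by
      have := (mem_normalizer_iff.mp (le_normalizer_F q D (inv_mem hg)) y).mp hy
      rwa [inv_inv] at this
    calc y * (g * x * g⁻¹) = g * ((g⁻¹ * y * g) * x) * g⁻¹ := by group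
      _ = g * (x * (g⁻¹ * y * g)) * g⁻¹ := by rw [hx _ hy']
      _ = g * x * g⁻¹ * y := by group
  set T := M ⊓ centralizer (F q M : Set G) with hT
  have hTn : T ≤ normalizer (F r D : Set G) := by
    have hTq : T ≤ normalizer (F q D : Set G) := by
      intro t ht
      refine mem_normalizer_fintype fun x hx => ?_
      have hxM : x ∈ M := (F_le q D hx).1
      set z := t * x * t⁻¹ * x⁻¹ with hz
      have hzM : z ∈ M := mul_mem (mul_mem (mul_mem ht.1 hxM) (inv_mem ht.1)) (inv_mem hxM)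
      have hzfit : (⟨z, hzM⟩ : ↥M) ∈ Cfsg.fittingSubgroup ↥M := by
        refine centralizer_all_le hE hzM fun p hp y hy => ?_
        rcases eq_or_ne p q with rfl | hpq
        · have hnx := le_normalizer_F p M hxM
          have h1 : x * t⁻¹ * x⁻¹ ∈ centralizer (F p M : Set G) := by
            rw [mem_centralizer_iff]
            intro v hv
            have hv' : x⁻¹ * v * x ∈ F p M := by
              have := (mem_normalizer_iff.mp (inv_mem hnx) v).mp hv
              rwa [inv_inv] at this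
            calc v * (x * t⁻¹ * x⁻¹) = x * ((x⁻¹ * v * x) * t⁻¹) * x⁻¹ := by group
              _ = x * (t⁻¹ * (x⁻¹ * v * x)) * x⁻¹ := by
                rw [mem_centralizer_iff.mp (inv_mem ht.2) _ hv']
              _ = x * t⁻¹ * x⁻¹ * v := by group
          have h2 : z ∈ centralizer (F p M : Set G) := by
            rw [hz, show t * x * t⁻¹ * x⁻¹ = t * (x * t⁻¹ * x⁻¹) by group]
            exact mul_mem ht.2 h1
          exact mem_centralizer_iff.mp h2 y hy
        · have hxc : x ∈ centralizer (F p M : Set G) :=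
            (hcomm q p Fact.out hp (Ne.symm hpq)).trans (centralizer_le (hFMD p hp)) hx
          have hnt := le_normalizer_F p M ht.1
          have h1 : t * x * t⁻¹ ∈ centralizer (F p M : Set G) := by
            rw [mem_centralizer_iff]
            intro v hv
            have hv' : t⁻¹ * v * t ∈ F p M := by
              have := (mem_normalizer_iff.mp (inv_mem hnt) v).mp hv
              rwa [inv_inv] at this
            calc v * (t * x * t⁻¹) = t * ((t⁻¹ * v * t) * x) * t⁻¹ := by group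
              _ = t * (x * (t⁻¹ * v * t)) * t⁻¹ := by rw [mem_centralizer_iff.mp hxc _ hv']
              _ = t * x * t⁻¹ * v := by group
          exact mem_centralizer_iff.mp (mul_mem h1 (inv_mem hxc)) y hy
      have hzD : z ∈ D := ⟨hzM, hgfM ⟨_, fitting_le_genFitting hzfit, rfl⟩⟩
      have hyD : t * x * t⁻¹ ∈ D := by
        have := mul_mem hzD (F_le q D hx)
        rwa [hz, inv_mul_cancel_right] at this
      obtain ⟨m, hm, hpow⟩ := exists_pow_mem (q := q) M
      obtain ⟨k, hk⟩ := F_pgroup q D ⟨x, hx⟩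
      haveI := CfsgLib.Solvable.pCore_normal q ↥D
      set π := QuotientGroup.mk' (Cfsg.pCore q ↥D)
      have hker : ∀ (v : G) (hv : v ∈ D), v ∈ F q D → π ⟨v, hv⟩ = 1 := by
        intro v hv hvF
        obtain ⟨w, hw, hwv⟩ := hvF
        refine (QuotientGroup.eq_one_iff _).mpr ?_
        rwa [show (⟨v, hv⟩ : ↥D) = w from Subtype.ext hwv.symm]
      have hpi : π ⟨t * x * t⁻¹, hyD⟩ = π ⟨z, hzD⟩ := by
        rw [show (⟨t * x * t⁻¹, hyD⟩ : ↥D) = ⟨z, hzD⟩ * ⟨x, F_le q D hx⟩ from
          Subtype.ext (by show t * x * t⁻¹ = z * x; rw [hz, inv_mul_cancel_right]),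
          map_mul, hker x _ hx, mul_one]
      have h1 : (π ⟨t * x * t⁻¹, hyD⟩) ^ q ^ k = 1 := by
        rw [← map_pow, show (⟨t * x * t⁻¹, hyD⟩ : ↥D) ^ q ^ k = 1 from Subtype.ext (by
          show (t * x * t⁻¹) ^ q ^ k = 1
          rw [← MulAut.conj_apply, ← map_pow,
            show x ^ q ^ k = 1 from congrArg Subtype.val hk, map_one]), map_one]
      have h2 : (π ⟨t * x * t⁻¹, hyD⟩) ^ m = 1 := by
        rw [hpi, ← map_pow]
        exact hker (z ^ m) (pow_mem hzD m) (hFMD q Fact.out (hpow _ hzfit))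
      exact ⟨⟨t * x * t⁻¹, hyD⟩, (QuotientGroup.eq_one_iff _).mp (eq_one_of_pow hm h1 h2), rfl⟩
    rw [hQr]
    refine le_trans (fun t ht => ?_) (normalizer_le_normalizer_F r _)
    refine mem_normalizer_fintype fun x hx => ?_
    rw [SetLike.mem_coe, mem_centralizer_iff] at hx ⊢
    intro y hy
    have hy' : t⁻¹ * y * t ∈ F q D := by
      have := (mem_normalizer_iff.mp (hTq (inv_mem ht)) y).mp hy
      rwa [inv_inv] at this
    calc y * (t * x * t⁻¹) = t * ((t⁻¹ * y * t) * x) * t⁻¹ := by group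
      _ = t * (x * (t⁻¹ * y * t)) * t⁻¹ := by rw [hx _ hy']
      _ = t * x * t⁻¹ * y := by group
  have hrT : F r D ≤ T := le_inf ((F_le r D).trans inf_le_left)
    ((hcomm r q Fact.out Fact.out hne.symm).trans (centralizer_le (hFMD q Fact.out)))
  refine le_antisymm ?_ (hFMD r Fact.out)
  haveI hTN : (T.subgroupOf M).Normal := by
    refine (normal_subgroupOf_iff_le_normalizer inf_le_left).mpr fun g hg => ?_
    refine mem_normalizer_fintype fun x hx => mem_inf.mpr ⟨mul_mem (mul_mem hg hx.1) (inv_mem hg), ?_⟩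
    rw [mem_centralizer_iff]
    intro y hy
    have hy' : g⁻¹ * y * g ∈ F q M := by
      have := (mem_normalizer_iff.mp (le_normalizer_F q M (inv_mem hg)) y).mp hy
      rwa [inv_inv] at this
    calc y * (g * x * g⁻¹) = g * ((g⁻¹ * y * g) * x) * g⁻¹ := by group
      _ = g * (x * (g⁻¹ * y * g)) * g⁻¹ := by rw [mem_centralizer_iff.mp hx.2 _ hy']
      _ = g * x * g⁻¹ * y := by group
  have h4 : (F r D).subgroupOf M ≤ Cfsg.pCore r ↥M := by
    have hle' : (F r D).subgroupOf M ≤ T.subgroupOf M := comap_mono hrT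
    refine le_trans ?_ (CfsgLib.Solvable.map_subtype_pCore_le (T.subgroupOf M))
    rw [← map_subgroupOf_eq_of_le hle']
    refine map_mono (subgroupOf_le_pCore ((F_pgroup r D).comap_subtype) hle' ?_)
    intro t ht
    refine mem_normalizer_fintype fun x hx => ?_
    exact (mem_normalizer_iff.mp (hTn ht) _).mp hx
  intro x hx
  exact ⟨⟨x, (F_le r D hx).1⟩, h4 hx, rfl⟩

theorem genFitting_isPGroup [Finite G] {M : Subgroup G} {p : ℕ} (hp : p.Prime)
    (hE : Cfsg.layer ↥M = ⊥) (h : ∀ q : ℕ, q.Prime → q ≠ p → F q M = ⊥) :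
    IsPGroup p ↥(Cfsg.generalizedFittingSubgroup ↥M) := by
  haveI := Fact.mk hp
  refine (CfsgLib.Solvable.pCore_isPGroup p ↥M).to_le ?_
  rw [genFitting_eq_fitting_of_layer_eq_bot hE]
  refine fitting_le_of_pCore_le fun q hq => ?_
  by_cases hqp : q = p
  · rw [hqp]
  · exact le_trans (le_of_eq ((map_eq_bot_iff_of_injective _ M.subtype_injective).mp (h q hq hqp))) bot_le

theorem component_transfer [Finite G] {M N : Subgroup G}
    (hgM : (Cfsg.generalizedFittingSubgroup ↥M).map M.subtype ≤ N)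
    (hgN : (Cfsg.generalizedFittingSubgroup ↥N).map N.subtype ≤ M) :
    (Cfsg.layer ↥M).map M.subtype ≤ (Cfsg.layer ↥N).map N.subtype := by
  rw [map_le_iff_le_comap]
  refine sSup_le fun L hL => ?_
  rw [← map_le_iff_le_comap]
  set L' := L.map M.subtype with hL'
  have hL'M : L' ≤ M := map_subtype_le L
  have hL'N : L' ≤ N := (map_mono (component_le_genFitting hL)).trans hgM
  have hL'D : L' ≤ M ⊓ N := le_inf hL'M hL'N
  have hq : Cfsg.IsQuasisimple ↥L' :=
    (quasisimple_congr (L.equivMapOfInjective M.subtype M.subtype_injective)).mp hL.2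
  have hLD : Cfsg.IsComponent (L'.subgroupOf (M ⊓ N)) := by
    refine ⟨?_, (quasisimple_congr (subgroupOfEquivOfLe hL'D)).mpr hq⟩
    have : L'.subgroupOf (M ⊓ N) = L.comap (inclusion (inf_le_left : M ⊓ N ≤ M)) := by
      ext ⟨d, hd⟩
      constructor
      · rintro ⟨l, hl, hld⟩
        rw [Subgroup.mem_comap, show inclusion (inf_le_left : M ⊓ N ≤ M) ⟨d, hd⟩ = l from
          Subtype.ext (show d = (l : G) from hld.symm)]
        exact hl
      · intro hd'
        exact ⟨_, hd', rfl⟩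
    rw [this]
    exact hL.1.comap _
  set K := (Cfsg.generalizedFittingSubgroup ↥N) with hK
  haveI hKn : K.Normal := genFitting_normal_inst
  set KD := (K.map N.subtype).subgroupOf (M ⊓ N) with hKD
  haveI hKDn : KD.Normal := by
    refine ⟨fun x hx g => ?_⟩
    obtain ⟨k, hk, hkx⟩ := hx
    exact ⟨⟨(g : G), g.2.2⟩ * k * (⟨(g : G), g.2.2⟩ : ↥N)⁻¹, hKn.conj_mem k hk _, by
      show (g : G) * (k : G) * (g : G)⁻¹ = (g : G) * (x : G) * (g : G)⁻¹
      rw [show (k : G) = (x : G) from hkx]⟩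
  have hle : L'.subgroupOf N ≤ K := by
    rcases component_le_or_commutator hLD (Normal.isSubnormal hKDn) with h | h
    · intro x hx
      obtain ⟨k, hk, hkx⟩ := h (show (⟨(x : G), hL'D hx⟩ : ↥(M ⊓ N)) ∈ L'.subgroupOf (M ⊓ N) from hx)
      rwa [← show k = x from Subtype.ext hkx]
    · intro x hx
      refine centralizer_genFitting_le ?_
      rw [mem_centralizer_iff]
      intro k hk
      have hkD : (k : G) ∈ M ⊓ N := ⟨hgN ⟨k, hk, rfl⟩, k.2⟩
      exact Subtype.ext (congrArg (fun z : ↥(M ⊓ N) => (z : G)) (mem_centralizer_iff.mp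
        (le_centralizer_of_commutator_eq_bot h
          (show (⟨(x : G), hL'D hx⟩ : ↥(M ⊓ N)) ∈ L'.subgroupOf (M ⊓ N) from hx))
        ⟨k, hkD⟩ ⟨k, hk, rfl⟩))
  have hcomp : Cfsg.IsComponent (L'.subgroupOf N) := by
    refine ⟨?_, (quasisimple_congr (subgroupOfEquivOfLe hL'N)).mpr hq⟩
    have hsub : ((L'.subgroupOf N).subgroupOf K).IsSubnormal := by
      have hKD' : ∀ k : ↥K, ((k : ↥N) : G) ∈ M ⊓ N := fun k => ⟨hgN ⟨k, k.2, rfl⟩, (k : ↥N).2⟩
      let ι : ↥K →* ↥(M ⊓ N) :=
        { toFun := fun k => ⟨((k : ↥N) : G), hKD' k⟩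
          map_one' := rfl
          map_mul' := fun _ _ => rfl }
      exact hLD.1.comap ι
    have := hsub.trans' (Normal.isSubnormal hKn)
    rwa [map_subgroupOf_eq_of_le hle] at this
  rw [← map_subgroupOf_eq_of_le hL'N]
  exact map_mono (component_le_layer hcomp)

theorem layer_eq_bot_both [Finite G] [IsSimpleGroup G] {M N : Subgroup G} (hM : IsCoatom M)
    (hN : IsCoatom N) (hMN : M ≠ N)
    (hgM : (Cfsg.generalizedFittingSubgroup ↥M).map M.subtype ≤ N)
    (hgN : (Cfsg.generalizedFittingSubgroup ↥N).map N.subtype ≤ M) :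
    Cfsg.layer ↥M = ⊥ ∧ Cfsg.layer ↥N = ⊥ := by
  have heq := le_antisymm (component_transfer hgM hgN) (component_transfer hgN hgM)
  have hnorm : ∀ H : Subgroup G, H ≤ normalizer ((Cfsg.layer ↥H).map H.subtype : Set G) := by
    intro H g hg
    refine mem_normalizer_fintype fun x hx => ?_
    obtain ⟨y, hy, rfl⟩ := hx
    exact ⟨⟨g, hg⟩ * y * (⟨g, hg⟩ : ↥H)⁻¹,
      (normal_of_characteristic' (Cfsg.layer ↥H)).conj_mem y hy _, rfl⟩
  have hbot : (Cfsg.layer ↥M).map M.subtype = ⊥ := by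
    by_contra hne
    refine hMN (((lt_or_eq_of_le ?_).resolve_left fun hlt => hM.1 (hN.2 M hlt)).symm)
    exact (heq ▸ hnorm N).trans (normalizer_le hM (map_subtype_le _) (hnorm M) hne)
  exact ⟨(map_eq_bot_iff_of_injective _ M.subtype_injective).mp hbot,
    (map_eq_bot_iff_of_injective _ N.subtype_injective).mp (heq ▸ hbot)⟩
where
  normal_of_characteristic' {H : Subgroup G} (K : Subgroup ↥H) [K.Characteristic] : K.Normal :=
    inferInstance

/-- Let G be a non-abelian finite simple group and M ≠ N maximal subgroups of G with F*(M) ≤ N and F*(N) ≤ M. Then there is a prime p such that F*(M) and F*(N) are both p-groups. -/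
theorem result {G : Type*} [Group G] [Finite G] [IsSimpleGroup G] (hna : ¬ IsMulCommutative G) (M N : Subgroup G) (hM : IsCoatom M) (hN : IsCoatom N) (hMN : M ≠ N) (h1 : (Cfsg.generalizedFittingSubgroup ↥M).map M.subtype ≤ N) (h2 : (Cfsg.generalizedFittingSubgroup ↥N).map N.subtype ≤ M) : ∃ p : ℕ, p.Prime ∧ IsPGroup p ↥(Cfsg.generalizedFittingSubgroup ↥M) ∧ IsPGroup p ↥(Cfsg.generalizedFittingSubgroup ↥N) := by
  classical
  have hlay := layer_eq_bot_both hM hN hMN h1 h2
  have hFN : ∀ q : ℕ, q.Prime → F q N ≤ M := fun q hq => (F_mono_fitting hq N).trans h2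
  have hFM : ∀ q : ℕ, q.Prime → F q M ≤ N := fun q hq => (F_mono_fitting hq M).trans h1
  have hex : ∀ q r : ℕ, q.Prime → r.Prime → F q M ≠ ⊥ → F r M ≠ ⊥ → q = r := by
    intro q r hq hr hqM hrM
    by_contra hne
    haveI := Fact.mk hq
    haveI := Fact.mk hr
    have hqN : F q N ≠ ⊥ := fun e => hqM (F_eq_bot hlay.2 hFM hFN hq e)
    have hrN : F r N ≠ ⊥ := fun e => hrM (F_eq_bot hlay.2 hFM hFN hr e)
    have e1 := core_eq hM hN hlay.1 h1 hFM hFN hne hqM hqN hrM
    have e2 := core_eq hN hM hlay.2 h2 hFN hFM hne hqN hqM hrN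
    rw [inf_comm] at e2
    have h3 : F r M = F r N := e1.symm.trans e2
    refine hMN ?_
    have hle : N ≤ M := (h3 ▸ le_normalizer_F r N : N ≤ Subgroup.normalizer (F r M : Set G)).trans
      (normalizer_le hM (F_le r M) (le_normalizer_F r M) hrM)
    exact ((lt_or_eq_of_le hle).resolve_left fun hlt => hM.1 (hN.2 M hlt)).symm
  by_cases hp : ∃ q : ℕ, q.Prime ∧ F q M ≠ ⊥
  · obtain ⟨p, hpp, hpM⟩ := hp
    refine ⟨p, hpp, genFitting_isPGroup hpp hlay.1 fun q hq hqp => ?_,
      genFitting_isPGroup hpp hlay.2 fun q hq hqp => ?_⟩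
    · by_contra hqM
      exact hqp (hex q p hq hpp hqM hpM)
    · refine F_eq_bot hlay.1 hFN hFM hq ?_
      by_contra hqM
      exact hqp (hex q p hq hpp hqM hpM)
  · push Not at hp
    exact ⟨2, Nat.prime_two, genFitting_isPGroup Nat.prime_two hlay.1 fun q hq _ => hp q hq,
      genFitting_isPGroup Nat.prime_two hlay.2 fun q hq _ => F_eq_bot hlay.1 hFN hFM hq (hp q hq)⟩

end Cfsg.Agent.S1312
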