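import Cfsg.Statements.S1313
import Cfsg.Agent.Lib.Components.GenFittingSub

set_option autoImplicit false
open Cfsg

namespace Cfsg.Agent.S1313

/-- For a finite group H, |H| ≤ |F*(H)|!. -/
theorem result {H : Type*} [Group H] [Finite H] : Nat.card H ≤ Nat.factorial (Nat.card ↥(Cfsg.generalizedFittingSubgroup H)) := by
  classical
  set F := Cfsg.generalizedFittingSubgroup H with hF
  haveI : F.Normal := CfsgLib.Components.genFitting_normal_inst
  let f : H →* MulAut ↥F := MulAut.conjNormal
  have hker : f.ker ≤ F := by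
    intro x hx
    refine CfsgLib.Components.centralizer_genFitting_le ?_
    rw [Subgroup.mem_centralizer_iff]
    intro h hh
    have h1 : f x ⟨h, hh⟩ = ⟨h, hh⟩ := by rw [MonoidHom.mem_ker.mp hx]; rfl
    have h2 : x * h * x⁻¹ = h := by
      have := congrArg Subtype.val h1
      simpa [f] using this
    exact (mul_inv_eq_iff_eq_mul.mp h2).symm
  let r : MulAut ↥F → Equiv.Perm {u : ↥F // u ≠ 1} := fun e =>
    Equiv.Perm.subtypePerm e.toEquiv (fun u => by simp)
  have hr : Function.Injective r := by
    intro e1 e2 he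
    apply MulEquiv.ext
    intro u
    by_cases hu : u = 1
    · simp [hu]
    · have := congrArg (fun q : Equiv.Perm {u : ↥F // u ≠ 1} => ((q ⟨u, hu⟩) : ↥F)) he
      simpa [r] using this
  have hcard : Nat.card {u : ↥F // u ≠ 1} + 1 = Nat.card ↥F := by
    haveI := Fintype.ofFinite ↥F
    rw [Nat.card_eq_fintype_card, Nat.card_eq_fintype_card, Fintype.card_subtype_compl]
    simp only [Fintype.card_subtype_eq]
    have : 1 ≤ Fintype.card ↥F := Fintype.card_pos
    omega
  have h1 : Nat.card ↥f.range ≤ Nat.factorial (Nat.card {u : ↥F // u ≠ 1}) := by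
    rw [← Nat.card_perm]
    exact Nat.card_le_card_of_injective (fun e => r (e : MulAut ↥F))
      (fun a b hab => Subtype.ext (hr hab))
  have h2 : Nat.card ↥f.ker ≤ Nat.card ↥F := Subgroup.card_le_of_le hker
  calc Nat.card H = Nat.card ↥f.ker * Nat.card ↥f.range := by
        rw [← Subgroup.index_ker, Subgroup.card_mul_index]
    _ ≤ Nat.card ↥F * Nat.factorial (Nat.card {u : ↥F // u ≠ 1}) := Nat.mul_le_mul h2 h1
    _ = Nat.factorial (Nat.card ↥F) := by rw [← hcard, Nat.factorial_succ]

end Cfsg.Agent.S1313
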