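import Cfsg.Statements.S1314

set_option autoImplicit false
open Cfsg
open scoped commutatorElement

namespace Cfsg.Agent.S1314

/-- Let x be an involution of a group G and L a perfect subgroup with ⁅L, x L x⁻¹⁆ = 1. Then l ↦ l (x l x⁻¹) is a group homomorphism π from L to G whose kernel is central in L and whose image lies in C_G(x); and the commutator subgroup of C_{L ⊔ xLx⁻¹}(x) equals the image of π. -/
theorem result {G : Type*} [Group G] [Finite G] (x : G) (hx : orderOf x = 2) (L : Subgroup G) (hperf : ⁅L, L⁆ = L) (hcomm : ⁅L, L.map (MulAut.conj x).toMonoidHom⁆ = ⊥) : ∃ π : ↥L →* G, (∀ l : ↥L, π l = (l : G) * (x * (l : G) * x⁻¹)) ∧ π.ker ≤ Subgroup.center ↥L ∧ π.range ≤ Subgroup.centralizer ({x} : Set G) ∧ ⁅(L ⊔ L.map (MulAut.conj x).toMonoidHom) ⊓ Subgroup.centralizer ({x} : Set G), (L ⊔ L.map (MulAut.conj x).toMonoidHom) ⊓ Subgroup.centralizer ({x} : Set G)⁆ = π.range := by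
  set K : Subgroup G := L.map (MulAut.conj x).toMonoidHom with hK
  have hxx : x * x = 1 := by
    have h := pow_orderOf_eq_one x
    rwa [hx, pow_two] at h
  have hxi : x⁻¹ = x := inv_eq_of_mul_eq_one_right hxx
  have hKmem : ∀ l ∈ L, x * l * x⁻¹ ∈ K := fun l hl => ⟨l, hl, rfl⟩
  have hcom : ∀ a ∈ L, ∀ b ∈ K, a * b = b * a := fun a ha b hb =>
    commutatorElement_eq_one_iff_mul_comm.mp (Subgroup.mem_bot.mp
      (hcomm ▸ Subgroup.commutator_mem_commutator ha hb))
  let π : ↥L →* G := MonoidHom.mk' (fun l => (l : G) * (x * (l : G) * x⁻¹)) (by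
    intro a b
    show (a : G) * (b : G) * (x * ((a : G) * (b : G)) * x⁻¹) = _
    rw [← show (x * (a : G) * x⁻¹) * (x * (b : G) * x⁻¹) = x * ((a : G) * (b : G)) * x⁻¹ by
      simp only [mul_assoc, inv_mul_cancel_left]]
    have h := hcom b b.2 _ (hKmem a a.2)
    calc (a : G) * b * (x * a * x⁻¹ * (x * b * x⁻¹))
        = a * ((b : G) * (x * a * x⁻¹)) * (x * b * x⁻¹) := by simp only [mul_assoc]
      _ = a * ((x * a * x⁻¹) * (b : G)) * (x * b * x⁻¹) := by rw [h]
      _ = _ := by simp only [mul_assoc])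
  have hπ : ∀ l : ↥L, π l = (l : G) * (x * (l : G) * x⁻¹) := fun l => rfl
  have hrangeC : π.range ≤ Subgroup.centralizer ({x} : Set G) := by
    rintro _ ⟨l, rfl⟩
    rw [Subgroup.mem_centralizer_singleton_iff]
    calc π l * x = ((l : G) * (x * l * x⁻¹)) * x := by rw [hπ]
      _ = ((x * l * x⁻¹) * (l : G)) * x := by rw [hcom l l.2 _ (hKmem l l.2)]
      _ = x * ((l : G) * (x * l * x⁻¹)) := by rw [hxi]; simp only [mul_assoc]
      _ = x * π l := by rw [hπ]
  have hrM : π.range ≤ L ⊔ K := by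
    rintro _ ⟨l, rfl⟩
    rw [hπ]
    exact Subgroup.mul_mem_sup l.2 (hKmem l l.2)
  refine ⟨π, hπ, ?_, hrangeC, ?_⟩
  · intro l hl
    rw [MonoidHom.mem_ker, hπ] at hl
    rw [Subgroup.mem_center_iff]
    intro g
    have h1 : (l : G) = (x * (l : G) * x⁻¹)⁻¹ := eq_inv_of_mul_eq_one_left hl
    have h2 : (l : G) ∈ K := by rw [h1]; exact inv_mem (hKmem l l.2)
    exact Subtype.ext (hcom g g.2 l h2)
  · apply le_antisymm
    · have hsub : ∀ g ∈ (L ⊔ K) ⊓ Subgroup.centralizer ({x} : Set G),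
          ∃ r ∈ π.range, ∃ z, (∀ m ∈ L ⊔ K, m * z = z * m) ∧ z ∈ L ⊔ K ∧ g = r * z := by
        intro g hg
        obtain ⟨hgM, hgC⟩ := Subgroup.mem_inf.mp hg
        rw [Subgroup.mem_centralizer_singleton_iff] at hgC
        have hr := MonoidHom.noncommCoprod_range L.subtype K.subtype
          (fun a b => hcom a a.2 b b.2)
        rw [Subgroup.range_subtype, Subgroup.range_subtype] at hr
        rw [← hr] at hgM
        obtain ⟨⟨⟨a, ha⟩, ⟨b, hb⟩⟩, rfl⟩ := hgM
        obtain ⟨b', hb', rfl⟩ := hb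
        change (a * (x * b' * x⁻¹)) * x = x * (a * (x * b' * x⁻¹)) at hgC
        show ∃ r ∈ π.range, ∃ z, (∀ m ∈ L ⊔ K, m * z = z * m) ∧ z ∈ L ⊔ K ∧
          a * (x * b' * x⁻¹) = r * z
        have h1 : a * (x * b' * x⁻¹) = (x * a * x⁻¹) * b' := by
          calc a * (x * b' * x⁻¹) = a * (x * b' * x⁻¹) * x * x⁻¹ := by
                simp only [mul_assoc, mul_inv_cancel, mul_one]
            _ = x * (a * (x * b' * x⁻¹)) * x⁻¹ := by rw [hgC]
            _ = (x * a * x⁻¹) * b' := by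
              rw [hxi]
              simp only [mul_assoc, hxx, mul_one]
        have hzK : (x * a * x⁻¹)⁻¹ * (x * b' * x⁻¹) ∈ K :=
          mul_mem (inv_mem (hKmem a ha)) (hKmem b' hb')
        have hzL : (x * a * x⁻¹)⁻¹ * (x * b' * x⁻¹) ∈ L := by
          have h3 : (x * a * x⁻¹)⁻¹ * (x * b' * x⁻¹) = a⁻¹ * b' := by
            calc (x * a * x⁻¹)⁻¹ * (x * b' * x⁻¹)
                = (x * a * x⁻¹)⁻¹ * (a⁻¹ * (a * (x * b' * x⁻¹))) := by rw [inv_mul_cancel_left]
              _ = (x * a * x⁻¹)⁻¹ * ((a⁻¹ * (x * a * x⁻¹)) * b') := by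
                  rw [h1]; simp only [mul_assoc]
              _ = (x * a * x⁻¹)⁻¹ * (((x * a * x⁻¹) * a⁻¹) * b') := by
                  rw [hcom a⁻¹ (inv_mem ha) _ (hKmem a ha)]
              _ = a⁻¹ * b' := by rw [mul_assoc (x * a * x⁻¹), inv_mul_cancel_left]
          rw [h3]
          exact mul_mem (inv_mem ha) hb'
        refine ⟨π ⟨a, ha⟩, ⟨_, rfl⟩, _, ?_, Subgroup.mem_sup_left hzL, ?_⟩
        · have hle : L ⊔ K ≤ Subgroup.centralizer ({(x * a * x⁻¹)⁻¹ * (x * b' * x⁻¹)} : Set G) := by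
            refine sup_le (fun m hm => ?_) (fun m hm => ?_)
            · rw [Subgroup.mem_centralizer_singleton_iff]; exact hcom m hm _ hzK
            · rw [Subgroup.mem_centralizer_singleton_iff]; exact (hcom _ hzL m hm).symm
          exact fun m hm => Subgroup.mem_centralizer_singleton_iff.mp (hle hm)
        · rw [hπ]; simp only [mul_assoc, mul_inv_cancel_left]
      rw [Subgroup.commutator_le]
      intro g hg h hh
      obtain ⟨r, hr, z, hz, hzM, rfl⟩ := hsub g hg
      obtain ⟨s, hs, w, hw, hwM, rfl⟩ := hsub h hh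
      have : ⁅r * z, s * w⁆ = ⁅r, s⁆ := by
        have e1 : (s * w) * z = z * (s * w) := hz _ (mul_mem (hrM hs) hwM)
        have e2 : r⁻¹ * w = w * r⁻¹ := hw _ (inv_mem (hrM hr))
        rw [commutatorElement_def, commutatorElement_def, mul_inv_rev, mul_inv_rev]
        calc r * z * (s * w) * (z⁻¹ * r⁻¹) * (w⁻¹ * s⁻¹)
            = r * (z * (s * w)) * (z⁻¹ * r⁻¹) * (w⁻¹ * s⁻¹) := by simp only [mul_assoc]
          _ = r * s * (w * r⁻¹) * (w⁻¹ * s⁻¹) := by
            rw [← e1]; simp only [mul_assoc, mul_inv_cancel_left]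
          _ = r * s * r⁻¹ * s⁻¹ := by
            rw [← e2]; simp only [mul_assoc, mul_inv_cancel_left]
      rw [this]
      exact mul_mem (mul_mem (mul_mem hr hs) (inv_mem hr)) (inv_mem hs)
    · calc π.range = (⊤ : Subgroup ↥L).map π := MonoidHom.range_eq_map π
        _ = (⁅(⊤ : Subgroup ↥L), (⊤ : Subgroup ↥L)⁆ : Subgroup ↥L).map π := by
          congr 1
          apply Subgroup.map_injective L.subtype_injective
          rw [Subgroup.map_commutator]
          simp only [← MonoidHom.range_eq_map, Subgroup.range_subtype]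
          exact hperf.symm
        _ = ⁅π.range, π.range⁆ := by rw [Subgroup.map_commutator, ← MonoidHom.range_eq_map]
        _ ≤ _ := Subgroup.commutator_mono (le_inf hrM hrangeC) (le_inf hrM hrangeC)

end Cfsg.Agent.S1314
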