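import Cfsg.Statements.S1316
import Cfsg.Agent.Lib.Components.GenFittingSub

set_option autoImplicit false
open Cfsg

namespace Cfsg.Agent.S1316

/-- For a finite group X, E(X) equals the intersection of the derived series of F*(X) (its last term). -/
theorem result {X : Type*} [Group X] [Finite X] : (⨅ n : ℕ, (derivedSeries ↥(Cfsg.generalizedFittingSubgroup X) n).map (Cfsg.generalizedFittingSubgroup X).subtype) = Cfsg.layer X := by
  set F := Cfsg.generalizedFittingSubgroup X with hF
  apply le_antisymm
  · haveI : Group.IsSolvable ↥(Cfsg.fittingSubgroup X) := CfsgLib.Components.isSolvable_fitting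
    let mk := QuotientGroup.mk' (Cfsg.layer X)
    let f : ↥F →* X ⧸ Cfsg.layer X := mk.comp F.subtype
    let g : ↥(Cfsg.fittingSubgroup X) →* X ⧸ Cfsg.layer X :=
      mk.comp (Cfsg.fittingSubgroup X).subtype
    have hle : f.range ≤ g.range := by
      simp only [f, g, MonoidHom.range_comp, Subgroup.range_subtype]
      rw [hF, Cfsg.generalizedFittingSubgroup, Subgroup.map_sup, QuotientGroup.map_mk'_self,
        bot_sup_eq]
    haveI : Group.IsSolvable ↥g.range :=
      Group.isSolvable_of_surjective g.rangeRestrict_surjective
    obtain ⟨n, hn⟩ := (Group.isSolvable_def _).mp (inferInstance : Group.IsSolvable ↥g.range)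
    refine (iInf_le _ n).trans ?_
    rintro _ ⟨u, hu, rfl⟩
    let f' : ↥F →* ↥g.range := f.codRestrict g.range (fun z => hle ⟨z, rfl⟩)
    have h1 : f' u ∈ derivedSeries ↥g.range n :=
      map_derivedSeries_le_derivedSeries f' n (Subgroup.mem_map_of_mem f' hu)
    rw [hn, Subgroup.mem_bot] at h1
    exact (QuotientGroup.eq_one_iff (u : X)).mp (congrArg Subtype.val h1)
  · refine le_iInf fun n => ?_
    induction n with
    | zero =>
      rw [derivedSeries_zero, ← MonoidHom.range_eq_map, Subgroup.range_subtype]
      exact CfsgLib.Components.layer_le_genFitting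
    | succ n ih =>
      rw [derivedSeries_succ, Subgroup.map_commutator]
      exact CfsgLib.Components.layer_commutator_self.symm.trans_le (Subgroup.commutator_mono ih ih)

end Cfsg.Agent.S1316
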