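import Cfsg.Statements.S1317
import Cfsg.Agent.Lib.Components.GenFittingSub

set_option autoImplicit false
open Cfsg

namespace Cfsg.Agent.S1317

/-- For a finite group X, the centre of the layer E(X) is F(X) ∩ E(X). -/
theorem result {X : Type*} [Group X] [Finite X] : (Subgroup.center ↥(Cfsg.layer X)).map (Cfsg.layer X).subtype = Cfsg.fittingSubgroup X ⊓ Cfsg.layer X := by
  rw [show (Subgroup.center ↥(Cfsg.layer X)).map (Cfsg.layer X).subtype =
      Cfsg.layer X ⊓ Subgroup.centralizer (Cfsg.layer X : Set X) from ?_]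
  · refine le_antisymm (le_inf CfsgLib.GenFittingSub.layer_inf_centralizer_le_fitting inf_le_left) ?_
    refine le_inf inf_le_right (inf_le_left.trans ?_)
    exact CfsgLib.Components.le_centralizer_of_commutator_eq_bot
      (by rw [Subgroup.commutator_comm]; exact CfsgLib.Components.layer_commutator_fitting)
  · ext x
    constructor
    · rintro ⟨⟨y, hy⟩, hc, rfl⟩
      refine ⟨hy, Subgroup.mem_centralizer_iff.mpr fun z hz => ?_⟩
      exact congrArg Subtype.val (Subgroup.mem_center_iff.mp hc ⟨z, hz⟩)
    · rintro ⟨hx, hc⟩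
      exact ⟨⟨x, hx⟩, Subgroup.mem_center_iff.mpr fun z =>
        Subtype.ext (Subgroup.mem_centralizer_iff.mp hc z z.2), rfl⟩

end Cfsg.Agent.S1317
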