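import Cfsg.Statements.S1319
import Cfsg.Agent.Lib.Components.GenFittingSub

set_option autoImplicit false
open Cfsg

namespace Cfsg.Agent.S1319

/-- Let A be a subnormal subgroup of the finite group X with E(A) = A. Then A ≤ E(X) and A is normal in E(X). -/
theorem result {X : Type*} [Group X] [Finite X] (A : Subgroup X) (hsn : A.IsSubnormal) (hA : Cfsg.layer ↥A = ⊤) : A ≤ Cfsg.layer X ∧ (A.subgroupOf (Cfsg.layer X)).Normal := by
  have h : A = sSup {K : Subgroup X | Cfsg.IsComponent K ∧ K ≤ A} := by
    rw [← CfsgLib.Components.layer_subnormal_eq hsn, hA, ← MonoidHom.range_eq_map,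
      Subgroup.range_subtype]
  have hle : A ≤ Cfsg.layer X := by
    rw [h]; exact sSup_le fun K hK => CfsgLib.Components.component_le_layer hK.1
  refine ⟨hle, (Subgroup.normal_subgroupOf_iff_le_normalizer hle).mpr (sSup_le fun L hL => ?_)⟩
  rcases CfsgLib.Components.component_le_or_commutator hL hsn with h1 | h1
  · exact h1.trans Subgroup.le_normalizer
  · exact CfsgLib.Components.le_normalizer_of_commutator_eq_bot h1

end Cfsg.Agent.S1319
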