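import Cfsg.Statements.S1321
import Cfsg.Agent.Lib.Components.GenFittingSub
import Cfsg.Agent.Lib.Solvable.CoprimeAction

set_option autoImplicit false
open Cfsg

namespace Cfsg.Agent.S1321

/-- Let X be finite and U ≤ X. Then E(X) is generated by C_{E(X)}(U) together with ⁅E(X), U⁆ (indeed it is their product, ⁅E(X), U⁆ being normal in E(X)). -/
theorem result {X : Type*} [Group X] [Finite X] (U : Subgroup X) : Cfsg.layer X = (Cfsg.layer X ⊓ Subgroup.centralizer (U : Set X)) ⊔ ⁅Cfsg.layer X, U⁆ ∧ ⁅Cfsg.layer X, U⁆ ≤ Cfsg.layer X := by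
  have h2 : ⁅Cfsg.layer X, U⁆ ≤ Cfsg.layer X :=
    haveI : (Cfsg.layer X).Normal := CfsgLib.Components.layer_normal_inst
    Subgroup.commutator_le_left _ _
  refine ⟨le_antisymm (sSup_le fun K hK => ?_) (sup_le inf_le_left h2), h2⟩
  have hsn : (⁅Cfsg.layer X, U⁆).IsSubnormal :=
    CfsgLib.Components.isSubnormal_of_le_normalizer h2
      (CfsgLib.Solvable.le_normalizer_commutator_left _ _)
      (Subgroup.Normal.isSubnormal CfsgLib.Components.layer_normal_inst)
  rcases CfsgLib.Components.component_le_or_commutator hK hsn with h | h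
  · exact h.trans le_sup_right
  · refine le_trans (le_inf (CfsgLib.Components.component_le_layer hK) ?_) le_sup_left
    refine CfsgLib.Components.le_centralizer_of_commutator_eq_bot
      (CfsgLib.Components.commutator_eq_bot_of_perfect
        (CfsgLib.Components.component_commutator_self hK) ?_)
    rw [eq_bot_iff, ← h, Subgroup.commutator_comm K ⁅Cfsg.layer X, U⁆]
    exact Subgroup.commutator_mono
      (Subgroup.commutator_mono (CfsgLib.Components.component_le_layer hK) le_rfl) le_rfl

end Cfsg.Agent.S1321
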