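import Cfsg.Statements.S1323
import Cfsg.Agent.Lib.Components.Quasisimple
import Mathlib.GroupTheory.SpecificGroups.Alternating.Simple

set_option autoImplicit false
open Cfsg

namespace Cfsg.Agent.S1323

set_option maxHeartbeats 800000 in
set_option linter.style.haveILetI false in
/-- For n ≥ 9, the subgroup of the alternating group on Fin n fixing each of the points 0, 1, 2, 3 is a standard subgroup. -/
theorem result (n : ℕ) (h4 : 4 ≤ n) (hn : 9 ≤ n) : Cfsg.IsStandardSubgroup (⨅ i : Fin 4, MulAction.stabilizer ↥(alternatingGroup (Fin n)) (Fin.castLE h4 i : Fin n)) := by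
  classical
  set L := (⨅ i : Fin 4, MulAction.stabilizer ↥(alternatingGroup (Fin n))
    (Fin.castLE h4 i : Fin n)) with hLdef
  haveI : NeZero n := ⟨by omega⟩
  -- membership in `L`
  have memL : ∀ σ : ↥(alternatingGroup (Fin n)),
      σ ∈ L ↔ ∀ x : Fin n, x.val < 4 → (σ : Equiv.Perm (Fin n)) x = x := by
    intro σ
    simp only [hLdef, Subgroup.mem_iInf, MulAction.mem_stabilizer_iff]
    constructor
    · intro h x hx
      exact h ⟨x.val, hx⟩
    · intro h i
      exact h _ i.2
  -- a 3-cycle
  have cyc : ∀ a b c : Fin n, a ≠ b → a ≠ c →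
      ∃ σ : ↥(alternatingGroup (Fin n)),
        (σ : Equiv.Perm (Fin n)) = Equiv.swap a b * Equiv.swap a c := by
    intro a b c hab hac
    exact ⟨⟨Equiv.swap a b * Equiv.swap a c, by
      rw [Equiv.Perm.mem_alternatingGroup, map_mul, Equiv.Perm.sign_swap hab,
        Equiv.Perm.sign_swap hac]; rfl⟩, rfl⟩
  -- points outside the four fixed ones
  have pick : ∀ s : Finset (Fin n), s.card ≤ 4 → ∃ x : Fin n, 4 ≤ x.val ∧ x ∉ s := by
    intro s hs
    by_contra h
    push Not at h
    have hsub : (Finset.univ : Finset (Fin n)) ⊆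
        s ∪ (Finset.univ : Finset (Fin 4)).image (fun i => (Fin.castLE h4 i : Fin n)) := by
      intro x _
      rw [Finset.mem_union]
      rcases lt_or_ge x.val 4 with hx | hx
      · exact Or.inr (Finset.mem_image.mpr ⟨⟨x.val, hx⟩, Finset.mem_univ _, Fin.ext rfl⟩)
      · exact Or.inl (h x hx)
    have h1 := (Finset.card_le_card hsub).trans (Finset.card_union_le _ _)
    have h2 : ((Finset.univ : Finset (Fin 4)).image
        (fun i => (Fin.castLE h4 i : Fin n))).card ≤ 4 :=
      Finset.card_image_le.trans (by simp)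
    rw [Finset.card_univ, Fintype.card_fin] at h1
    omega
  -- every point outside is moved by an element of `L`
  have move : ∀ x y : Fin n, 4 ≤ x.val → y ≠ x → ∃ σ : ↥(alternatingGroup (Fin n)),
      σ ∈ L ∧ (σ : Equiv.Perm (Fin n)) x ≠ x ∧ (σ : Equiv.Perm (Fin n)) y = y := by
    intro x y hx hyx
    obtain ⟨a, ha, ha'⟩ := pick {x, y} ((Finset.card_insert_le _ _).trans (by simp))
    simp only [Finset.mem_insert, Finset.mem_singleton, not_or] at ha'
    obtain ⟨b, hb, hb'⟩ := pick {x, y, a}
      ((Finset.card_insert_le _ _).trans (by have := Finset.card_le_two (a := y) (b := a); omega))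
    simp only [Finset.mem_insert, Finset.mem_singleton, not_or] at hb'
    obtain ⟨σ, hσ⟩ := cyc x a b (Ne.symm ha'.1) (Ne.symm hb'.1)
    refine ⟨σ, (memL σ).mpr fun z hz => ?_, ?_, ?_⟩
    · have h1 : z ≠ x := fun e => by subst e; omega
      have h2 : z ≠ a := fun e => by subst e; omega
      have h3 : z ≠ b := fun e => by subst e; omega
      rw [hσ, Equiv.Perm.mul_apply, Equiv.swap_apply_of_ne_of_ne h1 h3,
        Equiv.swap_apply_of_ne_of_ne h1 h2]
    · rw [hσ, Equiv.Perm.mul_apply, Equiv.swap_apply_left,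
        Equiv.swap_apply_of_ne_of_ne hb'.1 hb'.2.2]
      exact hb'.1
    · rw [hσ, Equiv.Perm.mul_apply, Equiv.swap_apply_of_ne_of_ne hyx (Ne.symm hb'.2.1),
        Equiv.swap_apply_of_ne_of_ne hyx (Ne.symm ha'.2)]
  -- the centralizer
  have memC : ∀ σ : ↥(alternatingGroup (Fin n)), σ ∈ Subgroup.centralizer (L : Set _) ↔
      ∀ x : Fin n, 4 ≤ x.val → (σ : Equiv.Perm (Fin n)) x = x := by
    intro σ
    constructor
    · intro h x hx
      by_contra hne
      obtain ⟨c, hc, hcx, hcy⟩ := move x _ hx hne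
      have h1 : (c : Equiv.Perm (Fin n)) * (σ : Equiv.Perm (Fin n)) =
          (σ : Equiv.Perm (Fin n)) * (c : Equiv.Perm (Fin n)) :=
        congrArg Subtype.val (Subgroup.mem_centralizer_iff.mp h c hc)
      have h2 := Equiv.Perm.ext_iff.mp h1 x
      rw [Equiv.Perm.mul_apply, Equiv.Perm.mul_apply, hcy] at h2
      exact hcx ((σ : Equiv.Perm (Fin n)).injective h2).symm
    · intro h
      rw [Subgroup.mem_centralizer_iff]
      intro c hc
      refine Subtype.ext (Equiv.Perm.ext fun x => ?_)
      show (c : Equiv.Perm (Fin n)) ((σ : Equiv.Perm (Fin n)) x) =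
        (σ : Equiv.Perm (Fin n)) ((c : Equiv.Perm (Fin n)) x)
      have hc' := (memL c).mp hc
      rcases lt_or_ge x.val 4 with hx | hx
      · have hx' : ((σ : Equiv.Perm (Fin n)) x).val < 4 := by
          by_contra hge
          push Not at hge
          have := (σ : Equiv.Perm (Fin n)).injective (h _ hge)
          rw [this] at hge
          omega
        rw [hc' x hx, hc' _ hx']
      · have hx' : 4 ≤ ((c : Equiv.Perm (Fin n)) x).val := by
          by_contra hlt
          push Not at hlt
          have := (c : Equiv.Perm (Fin n)).injective (hc' _ hlt)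
          rw [this] at hlt
          omega
        rw [h x hx, h _ hx']
  -- `g` normalizes the centralizer iff it fixes the four points as a set
  have normC : ∀ g : ↥(alternatingGroup (Fin n)),
      g ∈ Subgroup.normalizer (Subgroup.centralizer (L : Set ↥(alternatingGroup (Fin n))) : Set _) →
      ∀ x : Fin n, ((g : Equiv.Perm (Fin n)) x).val < 4 ↔ x.val < 4 := by
    intro g hg
    have hfin : ∀ (h : ↥(alternatingGroup (Fin n))),
        h ∈ Subgroup.normalizer (Subgroup.centralizer (L : Set ↥(alternatingGroup (Fin n))) : Set _) →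
        ∀ x : Fin n, x.val < 4 → ((h : Equiv.Perm (Fin n)) x).val < 4 := by
      intro h hh x hx
      by_contra hge
      push Not at hge
      have h0 : ∀ i : Fin 4, (⟨(i : ℕ), by omega⟩ : Fin n).val < 4 := fun i => i.2
      obtain ⟨a, b, hax, hbx, hab, ha, hb⟩ : ∃ a b : Fin n, a ≠ x ∧ b ≠ x ∧ a ≠ b ∧
          a.val < 4 ∧ b.val < 4 := by
        rcases Nat.eq_zero_or_pos x.val with h0 | h0
        · exact ⟨⟨1, by omega⟩, ⟨2, by omega⟩, by simp [Fin.ext_iff]; omega,
            by simp [Fin.ext_iff]; omega, by simp [Fin.ext_iff], by simp, by simp⟩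
        · by_cases h1 : x.val = 1
          · exact ⟨⟨0, by omega⟩, ⟨2, by omega⟩, by simp [Fin.ext_iff]; omega,
              by simp [Fin.ext_iff]; omega, by simp [Fin.ext_iff], by simp, by simp⟩
          · exact ⟨⟨0, by omega⟩, ⟨1, by omega⟩, by simp [Fin.ext_iff]; omega,
              by simp [Fin.ext_iff]; omega, by simp [Fin.ext_iff], by simp, by simp⟩
      obtain ⟨σ, hσ⟩ := cyc x a b (Ne.symm hax) (Ne.symm hbx)
      have hσC : σ ∈ Subgroup.centralizer (L : Set _) := (memC σ).mpr fun z hz => by
        have h1 : z ≠ x := fun e => by subst e; omega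
        have h2 : z ≠ a := fun e => by subst e; omega
        have h3 : z ≠ b := fun e => by subst e; omega
        rw [hσ, Equiv.Perm.mul_apply, Equiv.swap_apply_of_ne_of_ne h1 h3,
          Equiv.swap_apply_of_ne_of_ne h1 h2]
      have h4 := (memC _).mp ((Subgroup.mem_normalizer_iff.mp hh σ).mp hσC) _ hge
      simp only [Subgroup.coe_mul, Subgroup.coe_inv, Equiv.Perm.mul_apply, Equiv.Perm.coe_inv, Equiv.symm_apply_apply,
        EmbeddingLike.apply_eq_iff_eq] at h4
      rw [hσ, Equiv.Perm.mul_apply, Equiv.swap_apply_left,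
        Equiv.swap_apply_of_ne_of_ne hbx hab.symm] at h4
      exact hbx h4
    intro x
    refine ⟨fun hx => ?_, hfin g hg x⟩
    have := hfin g⁻¹ (inv_mem hg) _ hx
    simpa using this
  refine ⟨?_, ⟨?_, ?_⟩, ?_, ?_⟩
  · -- quasisimple
    let P : Fin n → Prop := fun x => 4 ≤ x.val
    let φ : ↥(alternatingGroup {x : Fin n // P x}) →* ↥(alternatingGroup (Fin n)) :=
      ((Equiv.Perm.ofSubtype).comp (alternatingGroup {x : Fin n // P x}).subtype).codRestrict _
        (fun σ => Equiv.Perm.mem_alternatingGroup.mpr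
          ((Equiv.Perm.sign_ofSubtype _).trans (Equiv.Perm.mem_alternatingGroup.mp σ.2)))
    have hinj : Function.Injective φ := fun σ τ h =>
      Subtype.ext (Equiv.Perm.ofSubtype_injective (congrArg Subtype.val h))
    have hrange : φ.range = L := by
      refine le_antisymm ?_ fun σ hσ => ?_
      · rintro _ ⟨τ, rfl⟩
        refine (memL _).mpr fun x hx => ?_
        exact Equiv.Perm.ofSubtype_apply_of_not_mem _ (by show ¬ 4 ≤ x.val; omega)
      · have h1 : ∀ x, P ((σ : Equiv.Perm (Fin n)) x) ↔ P x := by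
          intro x
          show 4 ≤ _ ↔ 4 ≤ _
          rcases lt_or_ge x.val 4 with hx | hx
          · rw [(memL σ).mp hσ x hx]
          · refine iff_of_true ?_ hx
            by_contra hlt
            push Not at hlt
            have := (σ : Equiv.Perm (Fin n)).injective ((memL σ).mp hσ _ hlt)
            rw [this] at hlt
            omega
        have h2 : ∀ x, (σ : Equiv.Perm (Fin n)) x ≠ x → P x := fun x hx => by
          show 4 ≤ x.val
          by_contra hlt
          exact hx ((memL σ).mp hσ x (by omega))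
        refine ⟨⟨Equiv.Perm.subtypePerm (σ : Equiv.Perm (Fin n)) h1, ?_⟩,
          Subtype.ext (Equiv.Perm.ofSubtype_subtypePerm h1 h2)⟩
        rw [Equiv.Perm.mem_alternatingGroup, ← Equiv.Perm.sign_ofSubtype,
          Equiv.Perm.ofSubtype_subtypePerm h1 h2]
        exact Equiv.Perm.mem_alternatingGroup.mp σ.2
    have hcard : 5 ≤ Nat.card {x : Fin n // P x} := by
      have h := Fintype.card_subtype_compl (fun x : Fin n => x.val < 4)
      have h' : Fintype.card {x : Fin n // x.val < 4} ≤ 4 :=
        (Fintype.card_le_of_injective (fun x => (⟨x.1.val, x.2⟩ : Fin 4))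
          fun x y e => Subtype.ext (Fin.ext (by simpa using e))).trans (by simp)
      rw [Nat.card_eq_fintype_card, Fintype.card_congr (Equiv.subtypeEquivRight
        (fun x : Fin n => (show P x ↔ ¬ x.val < 4 from not_lt.symm))), h, Fintype.card_fin]
      omega
    haveI := alternatingGroup.isSimpleGroup hcard
    rw [← hrange]
    refine (CfsgLib.Components.quasisimple_congr (MonoidHom.ofInjective hinj).symm).mpr
      (CfsgLib.Components.isQuasisimple_of_isSimpleGroup fun hcomm => ?_)
    have htop : Subgroup.center ↥(alternatingGroup {x : Fin n // P x}) = ⊤ := by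
      rw [eq_top_iff]
      exact fun a _ => Subgroup.mem_center_iff.mpr fun b => hcomm.is_comm.comm b a
    rw [alternatingGroup.center_eq_bot (le_trans (by omega : 4 ≤ 5) hcard)] at htop
    exact bot_ne_top htop
  · -- even order
    rw [even_iff_two_dvd]
    haveI : Fact (Nat.Prime 2) := ⟨Nat.prime_two⟩
    obtain ⟨p0, p1, p2, p3, h01, h23, h02, h03, h12, h13, q0, q1, q2, q3⟩ :
        ∃ a b c d : Fin n, a ≠ b ∧ c ≠ d ∧ a ≠ c ∧ a ≠ d ∧ b ≠ c ∧ b ≠ d ∧
          a.val = 0 ∧ b.val = 1 ∧ c.val = 2 ∧ d.val = 3 :=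
      ⟨⟨0, by omega⟩, ⟨1, by omega⟩, ⟨2, by omega⟩, ⟨3, by omega⟩, by simp [Fin.ext_iff],
        by simp [Fin.ext_iff], by simp [Fin.ext_iff], by simp [Fin.ext_iff],
        by simp [Fin.ext_iff], by simp [Fin.ext_iff], rfl, rfl, rfl, rfl⟩
    let t : ↥(alternatingGroup (Fin n)) := ⟨Equiv.swap p0 p1 * Equiv.swap p2 p3, by
      rw [Equiv.Perm.mem_alternatingGroup, map_mul, Equiv.Perm.sign_swap h01,
        Equiv.Perm.sign_swap h23]; rfl⟩
    have htC : t ∈ Subgroup.centralizer (L : Set _) := (memC t).mpr fun z hz => by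
      have e : ∀ a : Fin n, a.val < 4 → z ≠ a := fun a ha e => by subst e; omega
      show (Equiv.swap p0 p1 * Equiv.swap p2 p3) z = z
      rw [Equiv.Perm.mul_apply, Equiv.swap_apply_of_ne_of_ne (e p2 (by omega)) (e p3 (by omega)),
        Equiv.swap_apply_of_ne_of_ne (e p0 (by omega)) (e p1 (by omega))]
    have hto : orderOf (⟨t, htC⟩ : ↥(Subgroup.centralizer (L : Set ↥(alternatingGroup (Fin n))))) = 2 := by
      refine orderOf_eq_prime (Subtype.ext (Subtype.ext ?_)) fun e => ?_
      · show (Equiv.swap p0 p1 * Equiv.swap p2 p3) ^ 2 = 1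
        have e2 : ∀ u v : Fin n, Equiv.swap u v * Equiv.swap u v = 1 := Equiv.swap_mul_self
        have hd : Equiv.Perm.Disjoint (Equiv.swap p0 p1) (Equiv.swap p2 p3) := by
          intro z
          by_cases hz0 : z = p0
          · exact Or.inr (hz0 ▸ Equiv.swap_apply_of_ne_of_ne h02 h03)
          · by_cases hz1 : z = p1
            · exact Or.inr (hz1 ▸ Equiv.swap_apply_of_ne_of_ne h12 h13)
            · exact Or.inl (Equiv.swap_apply_of_ne_of_ne hz0 hz1)
        rw [hd.commute.mul_pow, pow_two, pow_two, e2, e2, one_mul]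
      · have := Equiv.Perm.ext_iff.mp (congrArg Subtype.val (congrArg Subtype.val e)) p0
        change (Equiv.swap p0 p1 * Equiv.swap p2 p3) p0 = p0 at this
        rw [Equiv.Perm.mul_apply, Equiv.swap_apply_of_ne_of_ne h02 h03,
          Equiv.swap_apply_left] at this
        exact h01 this.symm
    exact hto ▸ orderOf_dvd_natCard _
  · -- tight embedding
    intro g hg
    rw [← Nat.not_even_iff_odd, even_iff_two_dvd]
    intro h2
    haveI : Fact (Nat.Prime 2) := ⟨Nat.prime_two⟩
    obtain ⟨⟨σ, hσ1, hσ2⟩, hord⟩ := exists_prime_orderOf_dvd_card' 2 h2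
    rw [← Subgroup.orderOf_coe] at hord
    obtain ⟨τ, hτ, hτσ⟩ := hσ2
    -- a point among the four which every such element fixes
    obtain ⟨x, hx, hgx⟩ : ∃ x : Fin n, x.val < 4 ∧ 4 ≤ (((g⁻¹ : ↥(alternatingGroup (Fin n))) :
        Equiv.Perm (Fin n)) x).val := by
      by_contra hall
      push Not at hall
      apply hg
      have hiff : ∀ x : Fin n, (((g⁻¹ : ↥(alternatingGroup (Fin n))) : Equiv.Perm (Fin n)) x).val < 4
          → x.val < 4 := by
        intro x hx
        have hsurj := Finite.injective_iff_surjective.mp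
          (show Function.Injective (fun z : {z : Fin n // z.val < 4} =>
            (⟨((g⁻¹ : ↥(alternatingGroup (Fin n))) : Equiv.Perm (Fin n)) z.1, hall z.1 z.2⟩ :
              {z : Fin n // z.val < 4})) from fun a b e =>
              Subtype.ext (Equiv.injective _ (congrArg Subtype.val e)))
        obtain ⟨z, hz⟩ := hsurj ⟨_, hx⟩
        exact (Equiv.injective _ (congrArg Subtype.val hz)) ▸ z.2
      refine Subgroup.mem_normalizer_fintype fun c hc => (memC _).mpr fun z hz => ?_
      have hz' : 4 ≤ (((g⁻¹ : ↥(alternatingGroup (Fin n))) : Equiv.Perm (Fin n)) z).val := by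
        by_contra hlt
        push Not at hlt
        have := hiff z hlt
        omega
      show (g : Equiv.Perm (Fin n)) ((c : Equiv.Perm (Fin n))
        (((g⁻¹ : ↥(alternatingGroup (Fin n))) : Equiv.Perm (Fin n)) z)) = z
      rw [(memC c).mp hc _ hz', Subgroup.coe_inv, Equiv.Perm.coe_inv, Equiv.apply_symm_apply]
    have hσx : (σ : Equiv.Perm (Fin n)) x = x := by
      rw [← hτσ]
      show (g : Equiv.Perm (Fin n)) ((τ : Equiv.Perm (Fin n))
        (((g⁻¹ : ↥(alternatingGroup (Fin n))) : Equiv.Perm (Fin n)) x)) = x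
      rw [(memC τ).mp hτ _ hgx, Subgroup.coe_inv, Equiv.Perm.coe_inv, Equiv.apply_symm_apply]
    have hsupp : (σ : Equiv.Perm (Fin n)).support ⊆
        ((Finset.univ : Finset (Fin 4)).image (fun i => (Fin.castLE h4 i : Fin n))).erase x := by
      intro z hz
      rw [Equiv.Perm.mem_support] at hz
      refine Finset.mem_erase.mpr ⟨fun e => hz (e ▸ hσx), ?_⟩
      rcases lt_or_ge z.val 4 with hz' | hz'
      · exact Finset.mem_image.mpr ⟨⟨z.val, hz'⟩, Finset.mem_univ _, Fin.ext rfl⟩
      · exact absurd ((memC σ).mp hσ1 z hz') hz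
    have hcard : (σ : Equiv.Perm (Fin n)).support.card ≤ 3 := by
      refine (Finset.card_le_card hsupp).trans ?_
      have hxmem : x ∈ (Finset.univ : Finset (Fin 4)).image (fun i => (Fin.castLE h4 i : Fin n)) :=
        Finset.mem_image.mpr ⟨⟨x.val, hx⟩, Finset.mem_univ _, Fin.ext rfl⟩
      rw [Finset.card_erase_of_mem hxmem]
      have : ((Finset.univ : Finset (Fin 4)).image
          (fun i => (Fin.castLE h4 i : Fin n))).card ≤ 4 := Finset.card_image_le.trans (by simp)
      omega
    have hne : (σ : Equiv.Perm (Fin n)) ≠ 1 := fun e => by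
      have h1 : orderOf σ = 1 := orderOf_eq_one_iff.mpr (Subtype.ext e)
      change orderOf σ = 2 at hord
      omega
    have h2le : 2 ≤ (σ : Equiv.Perm (Fin n)).support.card :=
      Equiv.Perm.two_le_card_support_of_ne_one hne
    rcases (show (σ : Equiv.Perm (Fin n)).support.card = 2 ∨
        (σ : Equiv.Perm (Fin n)).support.card = 3 by omega) with h | h
    · have hs := (Equiv.Perm.card_support_eq_two.mp h).sign_eq
      rw [Equiv.Perm.mem_alternatingGroup.mp σ.2] at hs
      exact absurd hs (by decide)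
    · have ho := (card_support_eq_three_iff.mp h).orderOf
      rw [Subgroup.orderOf_coe, hord] at ho
      omega
  · -- no conjugate commutes with `L`
    intro g _ hcomm
    rw [Subgroup.commutator_eq_bot_iff_le_centralizer] at hcomm
    obtain ⟨a, ha, ha'⟩ := pick ((Finset.univ : Finset (Fin 4)).image
      (fun i => ((g⁻¹ : ↥(alternatingGroup (Fin n))) : Equiv.Perm (Fin n)) (Fin.castLE h4 i)))
      (Finset.card_image_le.trans (by simp))
    obtain ⟨y, hy, hya⟩ := pick {a} (by simp)
    obtain ⟨c, hc, hca, -⟩ := move a y ha (by simpa using hya)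
    have hga : 4 ≤ ((g : Equiv.Perm (Fin n)) a).val := by
      by_contra hlt
      push Not at hlt
      refine ha' (Finset.mem_image.mpr ⟨⟨((g : Equiv.Perm (Fin n)) a).val, hlt⟩,
        Finset.mem_univ _, ?_⟩)
      rw [Subgroup.coe_inv]
      exact (Equiv.Perm.coe_inv _ ▸ Equiv.symm_apply_apply _ a)
    have hc' : g * c * g⁻¹ ∈ Subgroup.centralizer (L : Set _) := by
      rw [Subgroup.mem_centralizer_iff]
      intro l hl
      exact ((Subgroup.mem_centralizer_iff.mp (hcomm hl)) _ ⟨c, hc, rfl⟩).symm
    have h := (memC _).mp hc' _ hga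
    simp only [Subgroup.coe_mul, Subgroup.coe_inv, Equiv.Perm.mul_apply, Equiv.Perm.coe_inv, Equiv.symm_apply_apply,
      EmbeddingLike.apply_eq_iff_eq] at h
    exact hca h
  · -- equal normalizers
    refine le_antisymm (fun g hg => ?_) fun g hg => ?_
    · refine Subgroup.mem_normalizer_fintype fun c hc => ?_
      rw [SetLike.mem_coe, Subgroup.mem_centralizer_iff] at hc ⊢
      intro l hl
      have hl' : g⁻¹ * l * g ∈ L := by
        have := (Subgroup.mem_normalizer_iff.mp (inv_mem hg) l).mp hl
        rwa [inv_inv] at this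
      calc l * (g * c * g⁻¹) = g * ((g⁻¹ * l * g) * c) * g⁻¹ := by group
        _ = g * (c * (g⁻¹ * l * g)) * g⁻¹ := by rw [hc _ hl']
        _ = g * c * g⁻¹ * l := by group
    · refine Subgroup.mem_normalizer_fintype fun c hc => ?_
      rw [SetLike.mem_coe, memL] at hc ⊢
      intro z hz
      have hz' : (((g⁻¹ : ↥(alternatingGroup (Fin n))) : Equiv.Perm (Fin n)) z).val < 4 :=
        (normC g⁻¹ (inv_mem hg) z).mpr hz
      show (g : Equiv.Perm (Fin n)) ((c : Equiv.Perm (Fin n))
        (((g⁻¹ : ↥(alternatingGroup (Fin n))) : Equiv.Perm (Fin n)) z)) = z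
      rw [hc _ hz', Subgroup.coe_inv, Equiv.Perm.coe_inv, Equiv.apply_symm_apply]

end Cfsg.Agent.S1323
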