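import Cfsg.Statements.S1328
import Cfsg.Agent.Lib.Components.GenFittingSub
import Cfsg.Agent.Lib.Solvable.CoprimeAction
import Cfsg.Agent.S1314
import Mathlib.GroupTheory.SchurZassenhaus
import Mathlib.Tactic.Ring

set_option autoImplicit false
open Cfsg

namespace Cfsg.Agent.S1328

open Subgroup CfsgLib.Components
open scoped commutatorElement

variable {G : Type*} [Group G] [Finite G]

/-- A perfect group with odd central quotient has odd order. -/
theorem odd_card_of_perfect {K : Type*} [Group K] [Finite K] (hperf : Group.IsPerfect K)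
    (hodd : Odd (center K).index) : Odd (Nat.card K) := by
  haveI := hperf
  haveI : Fact (Nat.Prime 2) := ⟨Nat.prime_two⟩
  obtain ⟨P⟩ : Nonempty (Sylow 2 K) := inferInstance
  have hP : (P : Subgroup K) ≤ center K := by
    intro x hx
    obtain ⟨k, hk⟩ := P.2 ⟨x, hx⟩
    have h1 : orderOf (QuotientGroup.mk' (center K) x) ∣ 2 ^ k :=
      (orderOf_map_dvd _ x).trans (orderOf_dvd_of_pow_eq_one (congrArg Subtype.val hk))
    obtain ⟨j, -, hj⟩ := (Nat.dvd_prime_pow Nat.prime_two).mp h1
    have h2 : Odd (orderOf (QuotientGroup.mk' (center K) x)) :=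
      hodd.of_dvd_nat (Subgroup.index_eq_card (center K) ▸ orderOf_dvd_natCard _)
    rw [hj] at h2
    rcases Nat.eq_zero_or_pos j with rfl | hj0
    · rw [pow_zero] at hj
      exact (QuotientGroup.eq_one_iff x).mp (orderOf_eq_one_iff.mp hj)
    · exact absurd h2 (Nat.not_odd_iff_even.mpr ((Nat.even_pow).mpr ⟨even_two, hj0.ne'⟩))
  haveI hPn : (P : Subgroup K).Normal :=
    ⟨fun x hx g => by rw [mem_center_iff.mp (hP hx) g, mul_inv_cancel_right]; exact hx⟩
  obtain ⟨N, hN⟩ := exists_right_complement'_of_coprime (N := (P : Subgroup K))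
    P.card_coprime_index
  have hsup : (P : Subgroup K) ⊔ N = ⊤ := hN.sup_eq_top
  have hNn : N.Normal := normalizer_eq_top_iff.mp (top_le_iff.mp (by
    rw [← hsup]
    exact sup_le (hP.trans ((center_le_centralizer _).trans (centralizer_le_normalizer _)))
      le_normalizer))
  have hNtop : N = ⊤ := eq_top_of_sup_center_eq_top hNn (top_le_iff.mp (by
    rw [← hsup]; exact sup_le (hP.trans le_sup_right) le_sup_left))
  have hPbot : (P : Subgroup K) = ⊥ := by
    have := hN.disjoint
    rw [hNtop, disjoint_top] at this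
    exact this
  rw [← Nat.not_even_iff_odd, even_iff_two_dvd]
  intro h2
  exact P.ne_bot_of_dvd_card h2 hPbot

/-- `A` is a component of `H`, as subgroups of `G`. -/
def IsCompOf (A H : Subgroup G) : Prop := A ≤ H ∧ Cfsg.IsComponent (A.subgroupOf H)

omit [Finite G] in
theorem comp_perfect {A H : Subgroup G} (h : IsCompOf A H) : ⁅A, A⁆ = A := by
  have h1 := congrArg (Subgroup.map H.subtype) (component_commutator_self h.2)
  rwa [Subgroup.map_commutator, map_subgroupOf_eq_of_le h.1] at h1

omit [Finite G] in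
theorem comp_eq_or {A B H : Subgroup G} (hA : IsCompOf A H) (hB : IsCompOf B H) :
    A = B ∨ ⁅A, B⁆ = ⊥ := by
  rcases component_eq_or_commutator hA.2 hB.2 with h | h
  · left
    have := congrArg (Subgroup.map H.subtype) h
    rwa [map_subgroupOf_eq_of_le hA.1, map_subgroupOf_eq_of_le hB.1] at this
  · exact Or.inr ((commutator_subgroupOf_eq_bot_iff hA.1 hB.1).mp h)

omit [Finite G] in
theorem comp_commute {A B H : Subgroup G} (hA : IsCompOf A H) (hB : IsCompOf B H) (h : A ≠ B)
    {a b : G} (ha : a ∈ A) (hb : b ∈ B) : Commute a b :=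
  (mem_centralizer_iff.mp
    (commutator_eq_bot_iff_le_centralizer.mp ((comp_eq_or hA hB).resolve_left h) ha) b hb).symm

omit [Finite G] in
theorem comp_conj {A H : Subgroup G} (hA : IsCompOf A H) {g : G}
    (hg : g ∈ normalizer (H : Set G)) : IsCompOf (A.map (MulAut.conj g).toMonoidHom) H := by
  have hH : H.map (MulAut.conj g).toMonoidHom = H := map_conj_eq_of_mem_normalizer hg
  refine ⟨(map_mono hA.1).trans hH.le, ?_⟩
  have := CfsgLib.GenFittingSub.component_subgroupOf_conj g hA.2
  rwa [hH] at this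

omit [Finite G] in
theorem map_conj_conj (g h : G) (A : Subgroup G) :
    (A.map (MulAut.conj h).toMonoidHom).map (MulAut.conj g).toMonoidHom =
      A.map (MulAut.conj (g * h)).toMonoidHom := by
  rw [map_map]; congr 1; ext x; simp [MulAut.conj_apply, mul_assoc]

omit [Finite G] in
theorem map_conj_one (A : Subgroup G) : A.map (MulAut.conj (1 : G)).toMonoidHom = A :=
  map_conj_eq_of_mem_normalizer (one_mem _)

omit [Finite G] in
theorem pow_conj_mem {A : Subgroup G} {y : G} (h : A.map (MulAut.conj (y * y)).toMonoidHom = A)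
    (k : ℕ) : A.map (MulAut.conj (y ^ (2 * k))).toMonoidHom = A := by
  induction k with
  | zero => rw [mul_zero, pow_zero]; exact map_conj_one A
  | succ k ih =>
    rw [show 2 * (k + 1) = 2 * k + 2 by ring, pow_add, pow_two, ← map_conj_conj, h, ih]

theorem eq_self_of_sq {A : Subgroup G} {y : G} (hy : Odd (orderOf y))
    (h : A.map (MulAut.conj (y * y)).toMonoidHom = A) :
    A.map (MulAut.conj y).toMonoidHom = A := by
  obtain ⟨m, hm⟩ := hy
  have h1 := pow_conj_mem h (m + 1)
  rwa [show 2 * (m + 1) = orderOf y + 1 by omega, pow_succ, pow_orderOf_eq_one, one_mul] at h1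

/-- A component of `H` has even order when `O(H) = 1`. -/
theorem comp_not_odd {A H : Subgroup G} (hO : Cfsg.oddCore ↥H = ⊥) (hA : IsCompOf A H) :
    ¬ Odd (Nat.card ↥A) := by
  intro hodd
  have h1 : A.subgroupOf H ≤ Cfsg.oddCore ↥H := le_pPrimeCore_of_isSubnormal hA.2.1 (by
    rw [Nat.card_congr (subgroupOfEquivOfLe hA.1).toEquiv]
    exact Nat.coprime_two_right.mpr hodd)
  rw [hO, le_bot_iff] at h1
  exact component_ne_bot hA.2 h1

/-- The subgroup of fixed points of a subnormal subgroup is subnormal among the fixed points. -/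
theorem subnormal_inf {A H C : Subgroup G} (hA : IsCompOf A H) (hC : C ≤ H) :
    ((A ⊓ C).subgroupOf C).IsSubnormal := by
  have h1 : ((A.subgroupOf H).subgroupOf (C.subgroupOf H)).IsSubnormal := hA.2.1.subgroupOf
  have h2 := h1.map (f := (subgroupOfEquivOfLe hC).toMonoidHom) (subgroupOfEquivOfLe hC).surjective
  convert h2 using 1
  ext x
  constructor
  · intro hx
    exact ⟨(subgroupOfEquivOfLe hC).symm x,
      mem_subgroupOf.mpr (mem_subgroupOf.mpr (mem_subgroupOf.mp hx).1),
      (subgroupOfEquivOfLe hC).apply_symm_apply x⟩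
  · rintro ⟨z, hz, rfl⟩
    exact mem_subgroupOf.mpr ⟨mem_subgroupOf.mp (mem_subgroupOf.mp hz), SetLike.coe_mem _⟩

/-- Let G be finite, H ≤ G with O(H) = 1, t an involution of G normalizing H, and Y a nontrivial subgroup of O(C_H(t)). Then some component E of H is normalized by t and by Y and centralized by neither t nor Y. -/
theorem result {G : Type*} [Group G] [Finite G] (H : Subgroup G) (hO : Cfsg.oddCore ↥H = ⊥) (t : G) (ht : orderOf t = 2) (htH : t ∈ Subgroup.normalizer (H : Set G)) (Y : Subgroup G) (hY1 : Y ≠ ⊥) (hY : Y ≤ (Cfsg.oddCore ↥(H ⊓ Subgroup.centralizer ({t} : Set G))).map (H ⊓ Subgroup.centralizer ({t} : Set G)).subtype) : ∃ E : Subgroup ↥H, Cfsg.IsComponent E ∧ (E.map H.subtype).map (MulAut.conj t).toMonoidHom = E.map H.subtype ∧ Y ≤ Subgroup.normalizer ((E.map H.subtype : Subgroup G) : Set G) ∧ ¬ (t ∈ Subgroup.centralizer ((E.map H.subtype : Subgroup G) : Set G)) ∧ ¬ (Y ≤ Subgroup.centralizer ((E.map H.subtype : Subgroup G) : Set G)) := by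
  classical
  haveI : Fact (Nat.Prime 2) := ⟨Nat.prime_two⟩
  set C := H ⊓ Subgroup.centralizer ({t} : Set G) with hC
  set O : Subgroup G := (Cfsg.oddCore ↥C).map C.subtype with hOdef
  have hCH : C ≤ H := inf_le_left
  have hOC : O ≤ C := map_subtype_le _
  have hYH : Y ≤ H := (hY.trans hOC).trans hCH
  have hCO : C ≤ normalizer (O : Set G) := by
    refine le_trans ?_ (le_normalizer_map C.subtype)
    intro c hc
    exact ⟨⟨c, hc⟩, by rw [normalizer_eq_top]; trivial, rfl⟩
  have hOcard : Odd (Nat.card ↥O) := by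
    rw [hOdef, Subgroup.card_subtype]
    exact Nat.coprime_two_right.mp (coprime_card_pPrimeCore 2)
  have hodd : ∀ y ∈ O, Odd (orderOf y) := fun y hy =>
    hOcard.of_dvd_nat (Subgroup.orderOf_dvd_natCard _ hy)
  have hpow : ∀ {y : G}, Odd (orderOf y) → ∀ (n : ℕ), y ^ (2 ^ n) = 1 → y = 1 := by
    intro y hy n hn
    obtain ⟨j, -, hj⟩ := (Nat.dvd_prime_pow Nat.prime_two).mp (orderOf_dvd_of_pow_eq_one hn)
    rw [hj] at hy
    rcases Nat.eq_zero_or_pos j with rfl | h0
    · exact orderOf_eq_one_iff.mp (by rw [hj, pow_zero])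
    · exact absurd hy (Nat.not_odd_iff_even.mpr (Nat.even_pow.mpr ⟨even_two, h0.ne'⟩))
  have htt : t * t = 1 := by rw [← pow_two, ← ht, pow_orderOf_eq_one]
  have hti : t⁻¹ = t := inv_eq_of_mul_eq_one_right htt
  have htY : ∀ y ∈ Y, Commute t y := fun y hy =>
    (mem_centralizer_singleton_iff.mp (hOC (hY hy)).2).symm
  have hYN : ∀ y ∈ Y, y ∈ normalizer (H : Set G) := fun y hy => le_normalizer (hYH hy)
  have hconjt : ∀ A : Subgroup G, (A.map (MulAut.conj t).toMonoidHom).map (MulAut.conj t).toMonoidHom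
      = A := fun A => by rw [map_conj_conj, htt, map_conj_one]
  have hcommY : ∀ y ∈ Y, ∀ A : Subgroup G,
      (A.map (MulAut.conj y).toMonoidHom).map (MulAut.conj t).toMonoidHom =
      (A.map (MulAut.conj t).toMonoidHom).map (MulAut.conj y).toMonoidHom := fun y hy A => by
    rw [map_conj_conj, map_conj_conj, (htY y hy).eq]
  -- `Y` centralizes `U = O_2(H)`
  set U : Subgroup G := (Cfsg.pCore 2 ↥H).map H.subtype with hUdef
  have hUp : IsPGroup 2 ↥U := (isPGroup_pCore (G := ↥H) 2).map _
  have hNU : normalizer (H : Set G) ≤ normalizer (U : Set G) := by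
    intro g hg
    rw [Subgroup.mem_normalizer_iff_map_conj_eq]
    have hH : H.map (MulAut.conj g).toMonoidHom = H := map_conj_eq_of_mem_normalizer hg
    let e : ↥H ≃* ↥H := (H.equivMapOfInjective _ (MulAut.conj g).injective).trans
      (MulEquiv.subgroupCongr hH)
    show U.map (MulAut.conj g).toMonoidHom = U
    conv_rhs => rw [hUdef, ← pCore_map_equiv 2 e, map_map]
    rw [hUdef, map_map]
    rfl
  have hYU : Y ≤ centralizer (U : Set G) := by
    refine CfsgLib.Solvable.thompson_pxq (P := Subgroup.zpowers t) ?_ ?_ hUp ?_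
      (zpowers_le.mpr (hNU htH)) (fun y hy => hNU (hYN y hy)) ?_
    · exact IsPGroup.of_card (n := 1) (by rw [Nat.card_zpowers, ht, pow_one])
    · exact Nat.coprime_two_right.mpr (hOcard.of_dvd_nat (card_dvd_of_le hY))
    · exact zpowers_le.mpr (mem_centralizer_iff.mpr fun y hy => (htY y hy).symm.eq)
    · intro u hu
      apply mem_centralizer_iff.mpr
      intro y hy
      have hucC : u ∈ C := by
        refine ⟨(map_subtype_le _ : U ≤ H) hu.1, ?_⟩
        refine mem_centralizer_singleton_iff.mpr ?_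
        exact (mem_centralizer_iff.mp hu.2 t (mem_zpowers t)).symm
      have hu1 : y * u * y⁻¹ * u⁻¹ ∈ U :=
        mul_mem ((mem_normalizer_iff.mp (hNU (hYN y hy)) u).mp hu.1) (inv_mem hu.1)
      have hu2 : y * u * y⁻¹ * u⁻¹ ∈ O := by
        have h1 := (mem_normalizer_iff.mp (hCO hucC) _).mp (inv_mem (hY hy))
        simpa [mul_assoc] using mul_mem (hY hy) h1
      obtain ⟨n, hn⟩ := hUp ⟨_, hu1⟩
      have := hpow (hodd _ hu2) n (congrArg Subtype.val hn)
      exact mul_inv_eq_iff_eq_mul.mp (mul_inv_eq_one.mp this)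
  have hYUc : ∀ y ∈ Y, ∀ u ∈ U, Commute y u := fun y hy u hu =>
    (mem_centralizer_iff.mp (hYU hy) u hu).symm
  -- centres of components lie in `U`
  have hF : Cfsg.fittingSubgroup ↥H ≤ Cfsg.pCore 2 ↥H := by
    refine fitting_le_of_pCore_le fun q hq => ?_
    rcases eq_or_ne q 2 with rfl | hne
    · exact le_rfl
    · haveI := Fact.mk hq
      refine le_trans ?_ (bot_le : (⊥ : Subgroup ↥H) ≤ _)
      rw [← hO]
      refine le_pPrimeCore_of_normal inferInstance ?_
      obtain ⟨n, hn⟩ := (isPGroup_pCore (G := ↥H) q).exists_card_eq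
      rw [hn]
      exact Nat.Coprime.pow_left n ((Nat.coprime_primes hq Nat.prime_two).mpr hne)
  have hZU : ∀ A, IsCompOf A H → A ⊓ centralizer (A : Set G) ≤ U := by
    rintro A hA z ⟨hz, hzc⟩
    have h1 : (Subgroup.center ↥(A.subgroupOf H)).map (A.subgroupOf H).subtype ≤
        Cfsg.fittingSubgroup ↥H := by
      refine le_fitting_of_isSubnormal
        ((Subgroup.Normal.isSubnormal (H := center ↥(A.subgroupOf H)) inferInstance).trans' hA.2.1) ?_
      haveI : Group.IsNilpotent ↥(center ↥(A.subgroupOf H)) :=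
        CfsgLib.Solvable.isNilpotent_of_comm fun a b => Subtype.ext (mem_center_iff.mp b.2 a)
      exact Group.nilpotent_of_mulEquiv
        ((center ↥(A.subgroupOf H)).equivMapOfInjective _ (A.subgroupOf H).subtype_injective)
    refine ⟨⟨z, hA.1 hz⟩, hF (h1 ⟨⟨⟨z, hA.1 hz⟩, mem_subgroupOf.mpr hz⟩, ?_, rfl⟩), rfl⟩
    rw [SetLike.mem_coe, mem_center_iff]
    intro w
    exact Subtype.ext (Subtype.ext (mem_centralizer_iff.mp hzc _ (mem_subgroupOf.mp w.2)))
  -- a component centralizing `t`
  have hfix : ∀ A, IsCompOf A H → t ∈ centralizer (A : Set G) → Y ≤ centralizer (A : Set G) := by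
    intro A hA htA
    have hAC : A ≤ C := le_inf hA.1 fun a ha =>
      mem_centralizer_singleton_iff.mpr (mem_centralizer_iff.mp htA a ha)
    have hAc : Cfsg.IsComponent (A.subgroupOf C) := by
      refine ⟨?_, (quasisimple_congr ((subgroupOfEquivOfLe hA.1).trans
        (subgroupOfEquivOfLe hAC).symm)).mp hA.2.2⟩
      have := subnormal_inf hA hCH
      rwa [inf_of_le_left hAC] at this
    rcases component_le_or_commutator_normal hAc
        (inferInstance : (Cfsg.oddCore ↥C).Normal) with h | h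
    · exfalso
      apply comp_not_odd hO hA
      have h2 := hOcard.of_dvd_nat (card_dvd_of_le (map_mono (f := C.subtype) h))
      rwa [map_subgroupOf_eq_of_le hAC] at h2
    · have h1 := congrArg (Subgroup.map C.subtype) h
      rw [Subgroup.map_bot, Subgroup.map_commutator, map_subgroupOf_eq_of_le hAC,
        ← hOdef, Subgroup.commutator_comm] at h1
      exact hY.trans (le_centralizer_of_commutator_eq_bot h1)
  -- a component moved by `t`
  have hmove : ∀ A, IsCompOf A H → A.map (MulAut.conj t).toMonoidHom ≠ A →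
      Y ≤ centralizer (A : Set G) := by
    intro A hA htA
    set B := A.map (MulAut.conj t).toMonoidHom with hB
    have hBc : IsCompOf B H := comp_conj hA htH
    have hAB : ⁅A, B⁆ = ⊥ := (comp_eq_or hA hBc).resolve_left (Ne.symm htA)
    obtain ⟨π, hπ, hker, hrange, hcomm⟩ :=
      Cfsg.Agent.S1314.result t ht A (comp_perfect hA) hAB
    have hqA : Cfsg.IsQuasisimple ↥A := (quasisimple_congr (subgroupOfEquivOfLe hA.1)).mp hA.2.2
    have hnotker : π.ker ≠ ⊤ := by
      intro h
      rw [h, top_le_iff] at hker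
      haveI := hqA.1
      haveI := quasisimple_nontrivial hqA
      exact center_ne_top hker
    have hLC : π.range ≤ C := by
      refine le_inf ?_ hrange
      rintro _ ⟨l, rfl⟩
      rw [hπ]
      exact mul_mem (hA.1 l.2) (hBc.1 ⟨l, l.2, rfl⟩)
    set M := (A ⊔ B) ⊓ C with hM
    have hMC : M ≤ C := inf_le_right
    have hMeq : (A ⊔ B) ⊓ Subgroup.centralizer ({t} : Set G) = M := by
      rw [hM, hC, ← inf_assoc, inf_of_le_left (sup_le hA.1 hBc.1)]
    rw [hMeq] at hcomm
    have hLM : π.range ≤ M := hcomm ▸ Subgroup.commutator_le_self M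
    have hMsn : (M.subgroupOf C).IsSubnormal := by
      have hAB' : ((A ⊔ B).subgroupOf H).IsSubnormal := by
        rw [subgroupOf_sup hA.1 hBc.1]
        exact isSubnormal_of_le_normalizer (sup_le (component_le_layer hA.2) (component_le_layer hBc.2))
          ((le_inf (layer_le_normalizer_component hA.2) (layer_le_normalizer_component hBc.2)).trans
            (normalizer_inf_normalizer_le_normalizer_sup _ _))
          (Subgroup.Normal.isSubnormal layer_normal_inst)
      have h1 : (((A ⊔ B).subgroupOf H).subgroupOf (C.subgroupOf H)).IsSubnormal := hAB'.subgroupOf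
      have h2 := h1.map (f := (subgroupOfEquivOfLe hCH).toMonoidHom)
        (subgroupOfEquivOfLe hCH).surjective
      convert h2 using 1
      ext x
      constructor
      · intro hx
        exact ⟨(subgroupOfEquivOfLe hCH).symm x,
          mem_subgroupOf.mpr (mem_subgroupOf.mpr (mem_subgroupOf.mp hx).1),
          (subgroupOfEquivOfLe hCH).apply_symm_apply x⟩
      · rintro ⟨z, hz, rfl⟩
        exact mem_subgroupOf.mpr ⟨mem_subgroupOf.mp (mem_subgroupOf.mp hz), SetLike.coe_mem _⟩
    have hLsn : (π.range.subgroupOf C).IsSubnormal := by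
      refine isSubnormal_of_le_normalizer (fun x hx => mem_subgroupOf.mpr (hLM (mem_subgroupOf.mp hx)))
        ?_ hMsn
      intro x hx
      have h1 : (x : G) ∈ normalizer (π.range : Set G) := by
        rw [← hcomm]
        exact CfsgLib.Solvable.le_normalizer_commutator_left _ _ (mem_subgroupOf.mp hx)
      rw [mem_normalizer_iff]
      intro z
      rw [mem_subgroupOf, mem_subgroupOf]
      exact mem_normalizer_iff.mp h1 z
    haveI : Nontrivial ↥π.range := by
      rw [nontrivial_iff_ne_bot, Ne, MonoidHom.range_eq_bot_iff, ← MonoidHom.ker_eq_top_iff]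
      exact hnotker
    have hLc : Cfsg.IsComponent (π.range.subgroupOf C) :=
      ⟨hLsn, (quasisimple_congr (subgroupOfEquivOfLe hLC)).mpr
        (quasisimple_of_surjective hqA π.rangeRestrict_surjective)⟩
    rcases component_le_or_commutator_normal hLc
        (inferInstance : (Cfsg.oddCore ↥C).Normal) with h | h
    · exfalso
      apply comp_not_odd hO hA
      have h2 := hOcard.of_dvd_nat (card_dvd_of_le (map_mono (f := C.subtype) h))
      rw [map_subgroupOf_eq_of_le hLC, ← Subgroup.index_ker] at h2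
      exact odd_card_of_perfect hqA.1 (h2.of_dvd_nat (Subgroup.index_dvd_of_le hker))
    · have h1 := congrArg (Subgroup.map C.subtype) h
      rw [Subgroup.map_bot, Subgroup.map_commutator, map_subgroupOf_eq_of_le hLC, ← hOdef,
        Subgroup.commutator_comm] at h1
      have hcy : ∀ y ∈ Y, ∀ a ∈ A, y * a * y⁻¹ * (y * (t * a * t⁻¹) * y⁻¹) = a * (t * a * t⁻¹) := by
        intro y hy a ha
        have h2 := mem_centralizer_iff.mp (le_centralizer_of_commutator_eq_bot h1 (hY hy))
          (π ⟨a, ha⟩) ⟨_, rfl⟩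
        rw [hπ] at h2
        calc y * a * y⁻¹ * (y * (t * a * t⁻¹) * y⁻¹) = y * (a * (t * a * t⁻¹)) * y⁻¹ := by
              simp only [mul_assoc, inv_mul_cancel_left]
          _ = (a * (t * a * t⁻¹)) * y * y⁻¹ := by rw [h2]
          _ = a * (t * a * t⁻¹) := mul_inv_cancel_right _ _
      have hnorm : ∀ y ∈ Y, A.map (MulAut.conj y).toMonoidHom = A := by
        intro y hy
        set A' := A.map (MulAut.conj y).toMonoidHom with hA'
        set B' := B.map (MulAut.conj y).toMonoidHom with hB'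
        have hA'c : IsCompOf A' H := comp_conj hA (hYN y hy)
        have hB'c : IsCompOf B' H := comp_conj hBc (hYN y hy)
        by_contra hne
        have hsw : B' ≠ A := by
          intro hBA
          have h2 : B = A' := by
            rw [hB, ← hBA, hB', hcommY y hy, hconjt]
          have hsq : A.map (MulAut.conj (y * y)).toMonoidHom = A := by
            rw [← map_conj_conj, ← hA', ← h2, ← hB', hBA]
          exact hne (eq_self_of_sq (hodd y (hY hy)) hsq)
        have habel : ∀ a ∈ A, ∀ f ∈ A, a * f = f * a := by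
          intro a ha f hf
          have hc2 : Commute (y * a * y⁻¹ * (y * (t * a * t⁻¹) * y⁻¹)) f :=
            (comp_commute hA'c hA hne ⟨a, ha, rfl⟩ hf).mul_left
              (comp_commute hB'c hA hsw ⟨_, ⟨a, ha, rfl⟩, rfl⟩ hf)
          rw [hcy y hy a ha] at hc2
          have hc4 : Commute (t * a * t⁻¹) f := comp_commute hBc hA htA ⟨a, ha, rfl⟩ hf
          calc a * f = (a * (t * a * t⁻¹)) * f * (t * a * t⁻¹)⁻¹ := by
                rw [mul_assoc a, hc4.eq]; simp only [mul_assoc, mul_inv_cancel, mul_one]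
            _ = f * (a * (t * a * t⁻¹)) * (t * a * t⁻¹)⁻¹ := by rw [hc2.eq]
            _ = f * a := by simp only [mul_assoc, mul_inv_cancel, mul_one]
        apply component_commutator_self_ne_bot hA.2
        refine (commutator_subgroupOf_eq_bot_iff hA.1 hA.1).mpr ?_
        rw [commutator_eq_bot_iff_le_centralizer]
        exact fun a ha => mem_centralizer_iff.mpr fun f hf => habel f hf a ha
      rw [le_centralizer_iff]
      refine le_centralizer_of_commutator_eq_bot (commutator_eq_bot_of_perfect (comp_perfect hA) ?_)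
      rw [eq_bot_iff]
      refine le_trans (commutator_mono ?_ le_rfl) (le_of_eq (show ⁅B, A⁆ = ⊥ by
        rw [commutator_comm]; exact hAB))
      rw [commutator_le]
      intro a ha y hy
      have hb : y * (t * a * t⁻¹) * y⁻¹ ∈ B := by
        have h3 : B.map (MulAut.conj y).toMonoidHom = B := by
          rw [hB, ← hcommY y hy, hnorm y hy]
        exact h3.le ⟨_, ⟨a, ha, rfl⟩, rfl⟩
      have : ⁅a, y⁆ = (y * (t * a * t⁻¹) * y⁻¹) * (t * a * t⁻¹)⁻¹ := by
        rw [commutatorElement_def, eq_mul_inv_iff_mul_eq]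
        have h4 := hcy y hy a ha
        have hca : Commute (y * a * y⁻¹) (y * (t * a * t⁻¹) * y⁻¹) :=
          comp_commute (comp_conj hA (hYN y hy)) (comp_conj hBc (hYN y hy))
            (fun h5 => htA (map_injective (MulAut.conj y).injective h5.symm))
            ⟨a, ha, rfl⟩ ⟨_, ⟨a, ha, rfl⟩, rfl⟩
        rw [hca.eq] at h4
        calc a * y * a⁻¹ * y⁻¹ * (t * a * t⁻¹)
            = (y * a⁻¹ * y⁻¹) * a * (t * a * t⁻¹) := by
              have h6 : a * (y * a⁻¹ * y⁻¹) = (y * a⁻¹ * y⁻¹) * a := by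
                have h7 : y * a⁻¹ * y⁻¹ ∈ A := (hnorm y hy).le ⟨a⁻¹, inv_mem ha, rfl⟩
                have h8 : a⁻¹ * (y * a * y⁻¹) = (y * a * y⁻¹) * a⁻¹ := by
                  have h9 : y * a * y⁻¹ = a * ((t * a * t⁻¹) * (y * (t * a * t⁻¹) * y⁻¹)⁻¹) := by
                    rw [← mul_assoc, ← hcy y hy a ha, mul_inv_cancel_right]
                  have h10 : Commute a ((t * a * t⁻¹) * (y * (t * a * t⁻¹) * y⁻¹)⁻¹) :=
                    (comp_commute hA hBc (Ne.symm htA) ha ⟨a, ha, rfl⟩).mul_right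
                      (comp_commute hA hBc (Ne.symm htA) ha hb).inv_right
                  rw [h9, inv_mul_cancel_left, h10.eq, mul_inv_cancel_right]
                have h11 : Commute a⁻¹ (y * a * y⁻¹) := h8
                rw [show y * a⁻¹ * y⁻¹ = (y * a * y⁻¹)⁻¹ by simp [mul_assoc]]
                exact (h11.inv_inv.eq.trans (by rw [inv_inv])).trans rfl |> fun e => by
                  simpa using e
              rw [← h6]; simp only [mul_assoc]
          _ = (y * a⁻¹ * y⁻¹) * (a * (t * a * t⁻¹)) := mul_assoc _ _ _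
          _ = (y * a⁻¹ * y⁻¹) * ((y * (t * a * t⁻¹) * y⁻¹) * (y * a * y⁻¹)) := by rw [h4]
          _ = y * (t * a * t⁻¹) * y⁻¹ := by
              rw [← mul_assoc, show y * a⁻¹ * y⁻¹ = (y * a * y⁻¹)⁻¹ by simp [mul_assoc],
                ← hca.inv_left.eq.symm, inv_mul_cancel_right]
      rw [this]
      exact mul_mem hb (inv_mem ⟨a, ha, rfl⟩)
  -- `Y` normalizes the components fixed by `t`
  have hnormal : ∀ A, IsCompOf A H → A.map (MulAut.conj t).toMonoidHom = A →
      ∀ y ∈ Y, A.map (MulAut.conj y).toMonoidHom = A := by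
    intro A hA htA y hy
    by_contra hne
    set A' := A.map (MulAut.conj y).toMonoidHom with hA'
    set A'' := A'.map (MulAut.conj y).toMonoidHom with hA''
    have hA'c : IsCompOf A' H := comp_conj hA (hYN y hy)
    have hA''c : IsCompOf A'' H := comp_conj hA'c (hYN y hy)
    have hne2 : A'' ≠ A := fun h => hne (eq_self_of_sq (hodd y (hY hy))
      (by rw [← map_conj_conj, ← hA', ← hA'', h]))
    have htA' : A'.map (MulAut.conj t).toMonoidHom = A' := by rw [hA', hcommY y hy, htA]
    have hconjA : ∀ a ∈ A, t * a * t⁻¹ ∈ A := fun a ha => htA.le ⟨a, ha, rfl⟩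
    set Z := A ⊓ centralizer (A : Set G) with hZ
    -- a 2-element fixed by `t` modulo the centre
    obtain ⟨x, hxA, hxZ, ⟨n, hxn⟩, hxt⟩ : ∃ x ∈ A, x ∉ Z ∧ (∃ n : ℕ, x ^ (2 ^ n) = 1) ∧
        x⁻¹ * (t * x * t⁻¹) ∈ Z := by
      set R := A ⊔ Subgroup.zpowers t with hR
      have htR : t ∈ R := mem_sup_right (mem_zpowers t)
      have hRA : R ≤ normalizer (A : Set G) :=
        sup_le le_normalizer (zpowers_le.mpr (Subgroup.mem_normalizer_iff_map_conj_eq.mpr htA))
      obtain ⟨Q⟩ : Nonempty (Sylow 2 ↥A) := inferInstance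
      set Q' : Subgroup G := (Q : Subgroup ↥A).map A.subtype with hQ'
      have hQ'A : Q' ≤ A := map_subtype_le _
      obtain ⟨P, hP⟩ := ((Q.2.map A.subtype).comap_subtype : IsPGroup 2 ↥(Q'.subgroupOf R)).exists_le_sylow
      obtain ⟨T, hT⟩ := (IsPGroup.of_card (G := ↥((Subgroup.zpowers t).subgroupOf R)) (p := 2) (n := 1)
        (by rw [Nat.card_congr (subgroupOfEquivOfLe (zpowers_le.mpr htR)).toEquiv, Nat.card_zpowers,
          ht, pow_one])).exists_le_sylow
      obtain ⟨r, hr⟩ := MulAction.exists_smul_eq ↥R P T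
      set S := (T : Subgroup ↥R).map R.subtype ⊓ A with hS
      have hSp : IsPGroup 2 ↥S := (T.2.map R.subtype).to_le inf_le_left
      have hSnot : ¬ S ≤ Z := by
        intro hle
        apply comp_not_odd hO hA
        apply odd_card_of_perfect ((Subgroup.isPerfect_iff).mpr (comp_perfect hA))
        set Qr := Q'.map (MulAut.conj (r : G)).toMonoidHom with hQr
        have hrA : A.map (MulAut.conj (r : G)).toMonoidHom = A :=
          map_conj_eq_of_mem_normalizer (hRA r.2)
        have hQrS : Qr ≤ S := by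
          refine le_inf ?_ ((map_mono hQ'A).trans hrA.le)
          rintro _ ⟨q, hq, rfl⟩
          have hqR : q ∈ R := mem_sup_left (hQ'A hq)
          have h1 : r * ⟨q, hqR⟩ * r⁻¹ ∈ (T : Subgroup ↥R) := by
            rw [← hr, Sylow.coe_subgroup_smul]
            exact Subgroup.smul_mem_pointwise_smul _ (MulAut.conj r) _
              (hP (mem_subgroupOf.mpr hq))
          exact ⟨_, h1, rfl⟩
        have h1 : Q'.relIndex A = Qr.relIndex A := by
          conv_rhs => rw [hQr, ← hrA, relIndex_map_map_of_injective _ _ (MulAut.conj (r : G)).injective]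
        have h2 : Q'.relIndex A = (Q : Subgroup ↥A).index := by
          rw [hQ', relIndex, subgroupOf, comap_map_eq_self_of_injective A.subtype_injective]
        have h3 : Odd (Qr.relIndex A) := by
          rw [← h1, h2, ← Nat.not_even_iff_odd, even_iff_two_dvd]
          exact Q.not_dvd_index
        have h4 : Z.subgroupOf A ≤ center ↥A := fun z hz =>
          mem_center_iff.mpr fun w => Subtype.ext (mem_centralizer_iff.mp (mem_subgroupOf.mp hz).2 w w.2)
        exact h3.of_dvd_nat ((index_dvd_of_le h4).trans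
          (index_dvd_of_le (fun q hq => mem_subgroupOf.mpr (hle (hQrS (mem_subgroupOf.mp hq))))))
      obtain ⟨x0, hx0S, hx0Z⟩ := SetLike.not_le_iff_exists.mp hSnot
      have htS : ∀ s ∈ S, t * s * t⁻¹ ∈ S := by
        rintro s ⟨⟨s', hs', rfl⟩, hsA⟩
        have h1 : (⟨t, htR⟩ : ↥R) ∈ (T : Subgroup ↥R) := hT (mem_subgroupOf.mpr (mem_zpowers t))
        exact ⟨⟨_, mul_mem (mul_mem h1 hs') (inv_mem h1), rfl⟩, hconjA _ hsA⟩
      have hp2 : ∀ s ∈ S, ∃ n : ℕ, s ^ (2 ^ n) = 1 := fun s hs => by
        obtain ⟨k, hk⟩ := hSp ⟨s, hs⟩; exact ⟨k, congrArg Subtype.val hk⟩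
      set x1 := x0⁻¹ * (t * x0 * t⁻¹) with hx1
      have hx1S : x1 ∈ S := mul_mem (inv_mem hx0S) (htS _ hx0S)
      by_cases hx1Z : x1 ∈ Z
      · exact ⟨x0, hx0S.2, hx0Z, hp2 _ hx0S, hx1Z⟩
      · have hex : ∃ m, x1 ^ (2 ^ m) ∈ Z := by
          obtain ⟨k, hk⟩ := hp2 _ hx1S; exact ⟨k, by rw [hk]; exact one_mem _⟩
        obtain ⟨m, hm⟩ : ∃ m, Nat.find hex = m + 1 :=
          ⟨Nat.find hex - 1, (Nat.succ_pred_eq_of_pos ((Nat.find_pos hex).mpr (by simpa using hx1Z))).symm⟩
        refine ⟨x1 ^ (2 ^ m), pow_mem hx1S.2 _, Nat.find_min hex (by omega),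
          hp2 _ (pow_mem hx1S _), ?_⟩
        have h1 : t * x1 * t⁻¹ = x1⁻¹ := by
          rw [hx1, hti]; simp only [mul_inv_rev, inv_inv, mul_assoc, hti]
          simp only [← mul_assoc t t, htt, one_mul, mul_one]
        rw [← conj_pow, h1, inv_pow, ← mul_inv_rev, ← pow_add, ← two_mul, ← pow_succ', ← hm]
        exact inv_mem (Nat.find_spec hex)
    set z := x⁻¹ * (t * x * t⁻¹) with hz
    have hzU : z ∈ U := hZU A hA hxt
    have hzy : y * z * y⁻¹ = z := by rw [(hYUc y hy z hzU).eq, mul_inv_cancel_right]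
    set x' := y * x * y⁻¹ with hx'
    set x'' := y * x' * y⁻¹ with hx''
    have hx'A : x' ∈ A' := ⟨x, hxA, rfl⟩
    have hx''A : x'' ∈ A'' := ⟨x', hx'A, rfl⟩
    have hc1 : Commute x' x := comp_commute hA'c hA hne hx'A hxA
    have hc2 : Commute x'' x := comp_commute hA''c hA hne2 hx''A hxA
    have hc3 : Commute x'' x' := comp_commute hA''c hA'c
      (fun h => hne (map_injective (MulAut.conj y).injective h)) hx''A hx'A
    have hzA : ∀ w ∈ A, Commute z w := fun w hw => (mem_centralizer_iff.mp hxt.2 w hw).symm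
    have hzA' : ∀ w ∈ A', Commute z w := by
      rintro _ ⟨w, hw, rfl⟩
      show z * (y * w * y⁻¹) = y * w * y⁻¹ * z
      calc z * (y * w * y⁻¹) = (y * z * y⁻¹) * (y * w * y⁻¹) := by rw [hzy]
        _ = y * (z * w) * y⁻¹ := by simp only [mul_assoc, inv_mul_cancel_left]
        _ = y * (w * z) * y⁻¹ := by rw [(hzA w hw).eq]
        _ = (y * w * y⁻¹) * (y * z * y⁻¹) := by simp only [mul_assoc, inv_mul_cancel_left]
        _ = y * w * y⁻¹ * z := by rw [hzy]
    set c := x⁻¹ * x' with hc
    have htx : t * x * t⁻¹ = x * z := by rw [hz, mul_inv_cancel_left]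
    have htx' : t * x' * t⁻¹ = x' * z := by
      calc t * x' * t⁻¹ = (t * y) * x * (t * y)⁻¹ := by rw [hx']; simp only [mul_inv_rev, mul_assoc]
        _ = y * (t * x * t⁻¹) * y⁻¹ := by
          rw [(htY y hy).eq]; simp only [mul_inv_rev, mul_assoc]
        _ = x' * (y * z * y⁻¹) := by rw [htx, hx']; simp only [mul_assoc, inv_mul_cancel_left]
        _ = x' * z := by rw [hzy]
    have hct : t * c * t⁻¹ = c := by
      calc t * c * t⁻¹ = (t * x * t⁻¹)⁻¹ * (t * x' * t⁻¹) := by
            rw [hc]; simp only [mul_inv_rev, inv_inv, mul_assoc, inv_mul_cancel_left]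
        _ = z⁻¹ * (x⁻¹ * x') * z := by rw [htx, htx']; simp only [mul_inv_rev, mul_assoc]
        _ = c := by
          have h2 : Commute z (x⁻¹ * x') :=
            ((hzA x hxA).inv_right).mul_right (hzA' x' hx'A)
          rw [mul_assoc, ← h2.eq, inv_mul_cancel_left]
    have hcC : c ∈ C := ⟨(mul_mem (inv_mem (hA.1 hxA)) (hA'c.1 hx'A) : x⁻¹ * x' ∈ H),
      mem_centralizer_singleton_iff.mpr (mul_inv_eq_iff_eq_mul.mp hct).symm⟩
    have hdO : y * c * y⁻¹ * c⁻¹ ∈ O := by
      have h1 := (mem_normalizer_iff.mp (hCO hcC) _).mp (inv_mem (hY hy))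
      simpa [mul_assoc] using mul_mem (hY hy) h1
    have hd : y * c * y⁻¹ * c⁻¹ = (x'⁻¹ * x'') * (x'⁻¹ * x) := by
      rw [hc, hx'', hx']
      simp only [mul_inv_rev, inv_inv, mul_assoc, inv_mul_cancel_left]
    have hpw : ∀ w : G, w ^ (2 ^ n) = 1 → (y * w * y⁻¹) ^ (2 ^ n) = 1 := fun w hw => by
      rw [conj_pow, hw, mul_one, mul_inv_cancel]
    have hx'n : x' ^ (2 ^ n) = 1 := hpw x hxn
    have hd1 : (x'⁻¹ * x'') * (x'⁻¹ * x) = 1 := by
      refine hpow (hd ▸ hodd _ hdO) n ?_
      have hd2 : Commute (x'⁻¹ * x'') (x'⁻¹ * x) :=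
        (((Commute.refl x').inv_left.inv_right).mul_right hc1.inv_left).mul_left
          (hc3.inv_right.mul_right hc2)
      rw [hd2.mul_pow, hc3.symm.inv_left.mul_pow, hc1.inv_left.mul_pow, inv_pow, hx'n,
        hpw x' hx'n, hxn]
      simp
    have hxeq : x = x' * (x''⁻¹ * x') := by
      calc x = x' * (x''⁻¹ * x') * ((x'⁻¹ * x'') * (x'⁻¹ * x)) := by
            simp only [mul_assoc, mul_inv_cancel_left, inv_mul_cancel_left]
        _ = _ := by rw [hd1, mul_one]
    refine hxZ ⟨hxA, mem_centralizer_iff.mpr fun w hw => ?_⟩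
    have h2 : Commute w (x' * (x''⁻¹ * x')) :=
      (comp_commute hA hA'c (Ne.symm hne) hw hx'A).mul_right
        ((comp_commute hA hA''c (Ne.symm hne2) hw hx''A).inv_right.mul_right
          (comp_commute hA hA'c (Ne.symm hne) hw hx'A))
    rw [← hxeq] at h2
    exact h2.eq
  -- conclusion
  obtain ⟨E, hE, hEY⟩ : ∃ E : Subgroup ↥H, Cfsg.IsComponent E ∧
      ¬ Y ≤ centralizer ((E.map H.subtype : Subgroup G) : Set G) := by
    by_contra hno
    push Not at hno
    apply hY1
    rw [eq_bot_iff]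
    intro y hy
    rw [Subgroup.mem_bot]
    have hyF : (⟨y, hYH hy⟩ : ↥H) ∈
        Cfsg.generalizedFittingSubgroup ↥H ⊓ centralizer (Cfsg.layer ↥H : Set ↥H) := by
      have hcl : Cfsg.layer ↥H ≤ centralizer ({⟨y, hYH hy⟩} : Set ↥H) :=
        sSup_le fun E hE e he => mem_centralizer_singleton_iff.mpr
          (Subtype.ext (mem_centralizer_iff.mp (hno E hE hy) (e : G) ⟨e, he, rfl⟩))
      have hcF : Cfsg.fittingSubgroup ↥H ≤ centralizer ({⟨y, hYH hy⟩} : Set ↥H) :=
        hF.trans fun u hu => mem_centralizer_singleton_iff.mpr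
          (Subtype.ext ((hYUc y hy (u : G) ⟨u, hu, rfl⟩).symm.eq))
      have hsc : ∀ {K : Subgroup ↥H}, K ≤ centralizer ({⟨y, hYH hy⟩} : Set ↥H) →
          (⟨y, hYH hy⟩ : ↥H) ∈ centralizer (K : Set ↥H) := fun {K} hK =>
        mem_centralizer_iff.mpr fun k hk => mem_centralizer_singleton_iff.mp (hK hk)
      exact ⟨centralizer_genFitting_le (hsc (sup_le hcl hcF)), hsc hcl⟩
    rw [CfsgLib.GenFittingSub.genFitting_inf_centralizer_layer] at hyF
    obtain ⟨k, hk⟩ := (isPGroup_pCore (G := ↥H) 2) ⟨_, hF hyF⟩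
    exact hpow (hodd y (hY hy)) k
      (congrArg (fun w : ↥(Cfsg.pCore 2 ↥H) => ((w : ↥H) : G)) hk)
  have hEc : IsCompOf (E.map H.subtype) H := by
    refine ⟨map_subtype_le _, ?_⟩
    rwa [subgroupOf, comap_map_eq_self_of_injective H.subtype_injective]
  have htfix : (E.map H.subtype).map (MulAut.conj t).toMonoidHom = E.map H.subtype := by
    by_contra h
    exact hEY (hmove _ hEc h)
  exact ⟨E, hE, htfix, fun y hy => Subgroup.mem_normalizer_iff_map_conj_eq.mpr (hnormal _ hEc htfix y hy),
    fun h => hEY (hfix _ hEc h), hEY⟩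

end Cfsg.Agent.S1328
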