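import Cfsg.Statements.S1331
import Cfsg.Agent.S1324
import Mathlib.Tactic.Linarith

set_option autoImplicit false
open Cfsg

namespace Cfsg.Agent.S1331

/-- Let θ be a solvable A-signalizer functor on the finite group G for the prime p, A elementary abelian of rank at least 3, X a member of the family of θ, and B ≤ A with |B| ≥ p². Then X is generated by the subgroups X ∩ ⋂_{d ∈ D, d ≠ 1} θ d, D ranging over the subgroups of index p in B. -/
theorem result {G : Type*} [Group G] [Finite G] (p : ℕ) [Fact p.Prime] (A : Subgroup G) (hA : Cfsg.IsElementaryAbelian p A) (hA3 : p ^ 3 ≤ Nat.card ↥A) (θ : G → Subgroup G) (hθ : Cfsg.IsSolvableSignalizerFunctor p A θ) (X : Subgroup G) (hX : X ∈ Cfsg.signalizerFamily p A θ) (B : Subgroup G) (hB : B ≤ A) (hB2 : p ^ 2 ≤ Nat.card ↥B) : X = ⨆ D : {D : Subgroup G // D ≤ B ∧ D.relIndex B = p}, X ⊓ Cfsg.signalizerInf (D : Subgroup G) θ := by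
  obtain ⟨-, hX2, hX3, hX4⟩ := hX
  have hp := (Fact.out : p.Prime)
  haveI := hA.1
  have hBel : Cfsg.IsElementaryAbelian p B :=
    ⟨⟨⟨fun x y => Subtype.ext (show (x : G) * y = y * x from
      congrArg (fun z : ↥A => (z : G)) (mul_comm' (⟨x, hB x.2⟩ : ↥A) ⟨y, hB y.2⟩))⟩⟩,
      fun b hb => hA.2 b (hB hb)⟩
  have hBX : B ≤ Subgroup.normalizer (X : Set G) := by
    intro b hb
    rw [Subgroup.mem_normalizer_iff]
    refine fun x => ⟨fun hx => hX3 b (hB hb) x hx, fun hx => ?_⟩
    have := hX3 b⁻¹ (inv_mem (hB hb)) _ hx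
    simpa [mul_assoc] using this
  have hgen := Cfsg.Agent.S1324.result p B X hBel hB2 hX2 hBX
  have hBp : IsPGroup p ↥B := fun a => ⟨1, Subtype.ext (by simpa using hBel.2 a a.2)⟩
  obtain ⟨k, hk⟩ := hBp.exists_card_eq
  have hk1 : 1 ≤ k := by
    by_contra h
    rw [hk, show k = 0 by omega, pow_zero] at hB2
    have : 2 ≤ p ^ 2 := le_trans hp.two_le (Nat.le_self_pow two_ne_zero p)
    omega
  have hex : ∀ C : Subgroup G, C ≤ B → C.relIndex B ≤ p →
      ∃ D : Subgroup G, D ≤ C ∧ D ≤ B ∧ D.relIndex B = p := by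
    intro C hC hi
    have hd : C.relIndex B ∣ p ^ k := hk ▸ Subgroup.relIndex_dvd_card C B
    obtain ⟨j, -, hj⟩ := (Nat.dvd_prime_pow hp).mp hd
    rw [hj] at hi
    rcases Nat.lt_or_ge 1 j with h2 | h2
    · exfalso
      have : p ^ 2 ≤ p ^ j := Nat.pow_le_pow_right hp.pos h2
      nlinarith [hp.two_le]
    · rcases Nat.eq_or_lt_of_le h2 with h3 | h3
      · exact ⟨C, le_rfl, hC, by rw [hj, h3, pow_one]⟩
      · obtain ⟨D, hD⟩ := Sylow.exists_subgroup_card_pow_prime (G := ↥B) p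
          (show p ^ (k - 1) ∣ Nat.card ↥B by rw [hk]; exact pow_dvd_pow p (by omega))
        have hCB : B ≤ C := Subgroup.relIndex_eq_one.mp (by rw [hj, show j = 0 by omega, pow_zero])
        refine ⟨D.map B.subtype, (Subgroup.map_subtype_le _).trans hCB, Subgroup.map_subtype_le _, ?_⟩
        have h1 := Subgroup.relIndex_mul_relIndex ⊥ (D.map B.subtype) B bot_le
          (Subgroup.map_subtype_le _)
        rw [Subgroup.relIndex_bot_left, Subgroup.relIndex_bot_left, Subgroup.card_subtype, hD, hk,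
          show k = k - 1 + 1 by omega, pow_succ, show k - 1 + 1 - 1 = k - 1 by omega] at h1
        exact Nat.eq_of_mul_eq_mul_left (pow_pos hp.pos _) h1
  refine le_antisymm (hgen.le.trans (iSup_le fun C => ?_)) (iSup_le fun D => inf_le_left)
  obtain ⟨D, hDC, hDB, hDi⟩ := hex C.1 C.2.1 C.2.2
  refine le_iSup_of_le (⟨D, hDB, hDi⟩ : {D : Subgroup G // D ≤ B ∧ D.relIndex B = p}) ?_
  refine le_inf inf_le_left (le_iInf fun d => ?_)
  refine le_trans ?_ (hX4 d.1 (hB (hDB d.2.1)) d.2.2)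
  exact le_inf inf_le_left (inf_le_right.trans (Subgroup.centralizer_le
    (Set.singleton_subset_iff.mpr (hDC d.2.1))))

end Cfsg.Agent.S1331
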