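import Cfsg.Statements.S1335

set_option autoImplicit false
open Cfsg

namespace Cfsg.Agent.S1335

/-- Let H be a subgroup of the finite group G, p a prime, k ≥ 1, P a Sylow p-subgroup of H of p-rank at least k, and suppose N_G(X) ≤ H for every subgroup X ≤ P of p-rank at least k. Then P is a Sylow p-subgroup of G. -/
theorem result {G : Type*} [Group G] [Finite G] {p : ℕ} [Fact p.Prime] (k : ℕ) (hk : 1 ≤ k) (H : Subgroup G) (P : Sylow p ↥H) (hP : ¬ Cfsg.PRankLE p (k - 1) ↥(P : Subgroup ↥H)) (hΓ : (∀ X : Subgroup G, X ≤ (P : Subgroup ↥H).map H.subtype → ¬ Cfsg.PRankLE p (k - 1) ↥X → Subgroup.normalizer (X : Set G) ≤ H)) : ∃ Q : Sylow p G, (Q : Subgroup G) = (P : Subgroup ↥H).map H.subtype := by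
  classical
  set P' : Subgroup G := (P : Subgroup ↥H).map H.subtype with hP'
  have hPle : P' ≤ H := Subgroup.map_subtype_le _
  have e : ↥(P : Subgroup ↥H) ≃* ↥P' :=
    (P : Subgroup ↥H).equivMapOfInjective H.subtype Subtype.coe_injective
  have hPp : IsPGroup p ↥P' := P.2.of_equiv e
  have hrank : ¬ Cfsg.PRankLE p (k - 1) ↥P' := by
    intro hr
    apply hP
    intro A hA hexp
    have h1 := hr (A.map e.toMonoidHom) inferInstance (by
      rintro a ⟨b, hb, rfl⟩
      rw [← map_pow, hexp b hb, map_one])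
    rwa [Subgroup.card_map_of_injective e.injective] at h1
  have hN : Subgroup.normalizer (P' : Set G) ≤ H := hΓ P' le_rfl hrank
  obtain ⟨Q, hQ⟩ := hPp.exists_le_sylow
  refine ⟨Q, ?_⟩
  by_contra hne
  have hlt : P' < (Q : Subgroup G) := lt_of_le_of_ne hQ (Ne.symm hne)
  haveI : Group.IsNilpotent ↥(Q : Subgroup G) := Q.2.isNilpotent
  have hnc := (Group.normalizerCondition_of_isNilpotent : NormalizerCondition ↥(Q : Subgroup G))
  have hlt' : P'.subgroupOf (Q : Subgroup G) < ⊤ := by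
    rw [lt_top_iff_ne_top, Ne, Subgroup.subgroupOf_eq_top]
    exact not_le_of_gt hlt
  obtain ⟨x, hxN, hxP⟩ := SetLike.exists_of_lt (hnc _ hlt')
  rw [Subgroup.mem_subgroupOf] at hxP
  have hxn : (x : G) ∈ Subgroup.normalizer (P' : Set G) := by
    rw [Subgroup.mem_normalizer_iff] at hxN ⊢
    intro g
    constructor
    · intro hg
      exact Subgroup.mem_subgroupOf.mp ((hxN ⟨g, hlt.le hg⟩).mp (Subgroup.mem_subgroupOf.mpr hg))
    · intro hg
      have hgQ : g ∈ (Q : Subgroup G) := by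
        have h2 := mul_mem (mul_mem (inv_mem x.2) (hlt.le hg)) x.2
        simpa [mul_assoc] using h2
      exact Subgroup.mem_subgroupOf.mp ((hxN ⟨g, hgQ⟩).mpr (Subgroup.mem_subgroupOf.mpr hg))
  have hR : IsPGroup p ↥((Q : Subgroup G).subgroupOf H) :=
    Q.2.comap_subtype
  have hle : (P : Subgroup ↥H) ≤ (Q : Subgroup G).subgroupOf H := by
    intro y hy
    exact Subgroup.mem_subgroupOf.mpr (hQ ⟨y, hy, rfl⟩)
  have heq := P.3 hR hle
  have hxH : (x : G) ∈ H := hN hxn
  have hxm : (⟨(x : G), hxH⟩ : ↥H) ∈ (P : Subgroup ↥H) := by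
    rw [← heq]
    exact Subgroup.mem_subgroupOf.mpr x.2
  exact hxP ⟨⟨(x : G), hxH⟩, hxm, rfl⟩

end Cfsg.Agent.S1335
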