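import Cfsg.Statements.S1336

set_option autoImplicit false
open Cfsg

namespace Cfsg.Agent.S1336

variable {G : Type*} [Group G]

/-- Edge of the commuting graph on nontrivial elementary abelian `p`-subgroups. -/
def Edge (p : ℕ) (A B : Subgroup G) : Prop :=
  Cfsg.IsElementaryAbelian p A ∧ p ^ 1 ≤ Nat.card ↥A ∧ Cfsg.IsElementaryAbelian p B ∧
    p ^ 1 ≤ Nat.card ↥B ∧ ∀ a ∈ A, ∀ b ∈ B, a * b = b * a

/-- Connectedness in that graph. -/
def Conn (p : ℕ) (A B : Subgroup G) : Prop := Relation.ReflTransGen (Edge p) A B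

theorem vertex_map {p : ℕ} (g : G) {A : Subgroup G} (hA : Cfsg.IsElementaryAbelian p A) :
    Cfsg.IsElementaryAbelian p (A.map (MulAut.conj g).toMonoidHom) := by
  haveI := hA.1
  refine ⟨inferInstance, ?_⟩
  rintro _ ⟨a, ha, rfl⟩
  rw [← map_pow, hA.2 a ha, map_one]

theorem vertex_zpowers {p : ℕ} {z : G} (hz : orderOf z = p) :
    Cfsg.IsElementaryAbelian p (Subgroup.zpowers z) ∧ p ^ 1 ≤ Nat.card ↥(Subgroup.zpowers z) := by
  refine ⟨⟨inferInstance, ?_⟩, by rw [Nat.card_zpowers, hz, pow_one]⟩
  rintro a ⟨n, rfl⟩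
  show (z ^ n) ^ p = 1
  rw [← zpow_natCast, ← zpow_mul, mul_comm, zpow_mul, zpow_natCast, ← hz, pow_orderOf_eq_one, one_zpow]

theorem exists_ne_one {p : ℕ} {A : Subgroup G} (h : p ^ 1 ≤ Nat.card ↥A) (hp : p.Prime) :
    ∃ a ∈ A, a ≠ 1 := by
  suffices hne : A ≠ ⊥ by
    obtain ⟨a, ha⟩ := Subgroup.ne_bot_iff_exists_ne_one.mp hne
    exact ⟨(a : G), a.2, fun hh => ha (Subtype.ext hh)⟩
  rintro rfl
  rw [pow_one, Subgroup.card_bot] at h
  exact absurd h (not_le.mpr hp.one_lt)

/-- Let G be finite and p prime. Then G has a proper subgroup H with p ∣ |H| and p ∤ |H ∩ gHg⁻¹| for every g ∉ H (a strongly p-embedded subgroup) if and only if G is not 1-connected for p. -/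
theorem result {G : Type*} [Group G] [Finite G] (p : ℕ) [Fact p.Prime] : (∃ H : Subgroup G, H ≠ ⊤ ∧ p ∣ Nat.card ↥H ∧ ∀ g : G, g ∉ H → ¬ p ∣ Nat.card ↥(H ⊓ H.map (MulAut.conj g).toMonoidHom)) ↔ ¬ Cfsg.IsKConnected p 1 G := by
  classical
  have hsymm : ∀ {A B : Subgroup G}, Edge p A B → Edge p B A := fun h =>
    ⟨h.2.2.1, h.2.2.2.1, h.1, h.2.1, fun a ha b hb => (h.2.2.2.2 b hb a ha).symm⟩
  have csymm : ∀ {A B : Subgroup G}, Conn p A B → Conn p B A := fun h => by
    induction h with
    | refl => exact Relation.ReflTransGen.refl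
    | tail _ h2 ih => exact Relation.ReflTransGen.head (hsymm h2) ih
  have hedge : ∀ (g : G) {A B : Subgroup G}, Edge p A B →
      Edge p (A.map (MulAut.conj g).toMonoidHom) (B.map (MulAut.conj g).toMonoidHom) := by
    intro g A B h
    refine ⟨vertex_map g h.1, ?_, vertex_map g h.2.2.1, ?_, ?_⟩
    · rw [Subgroup.card_map_of_injective (MulAut.conj g).injective]; exact h.2.1
    · rw [Subgroup.card_map_of_injective (MulAut.conj g).injective]; exact h.2.2.2.1
    · rintro _ ⟨a, ha, rfl⟩ _ ⟨b, hb, rfl⟩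
      rw [← map_mul, h.2.2.2.2 a ha b hb, map_mul]
  have cconj : ∀ (g : G) {A B : Subgroup G}, Conn p A B →
      Conn p (A.map (MulAut.conj g).toMonoidHom) (B.map (MulAut.conj g).toMonoidHom) :=
    fun g {A B} h => by
      induction h with
      | refl => exact Relation.ReflTransGen.refl
      | tail _ h2 ih => exact Relation.ReflTransGen.tail ih (hedge g h2)
  have hp := (Fact.out : p.Prime)
  constructor
  · rintro ⟨H, hHtop, hpH, hH⟩ hconn
    obtain ⟨x, hx⟩ := exists_prime_orderOf_dvd_card' p hpH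
    have hxG : orderOf (x : G) = p := by rw [Subgroup.orderOf_coe]; exact hx
    obtain ⟨g, -, hg⟩ := SetLike.exists_of_lt (lt_top_iff_ne_top.mpr hHtop)
    have hstep : ∀ A : Subgroup G, IsElementaryAbelian p A → p ^ 1 ≤ Nat.card ↥A → A ≤ H →
        ∀ b : G, (∀ a ∈ A, a * b = b * a) → b ∈ H := by
      intro A hA hAc hAH b hb
      by_contra hbH
      apply hH b hbH
      have hle : A ≤ H ⊓ H.map (MulAut.conj b).toMonoidHom := by
        refine le_inf hAH (fun a ha => ⟨a, hAH ha, ?_⟩)
        show b * a * b⁻¹ = a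
        rw [← hb a ha, mul_inv_cancel_right]
      refine Dvd.dvd.trans ?_ (Subgroup.card_dvd_of_le hle)
      obtain ⟨a, ha, ha1⟩ := exists_ne_one hAc hp
      have ho : orderOf a = p := orderOf_eq_prime (hA.2 a ha) ha1
      rw [← ho]
      exact Subgroup.orderOf_dvd_natCard _ ha
    have hclos : ∀ A, Conn p (Subgroup.zpowers (x : G)) A → A ≤ H := by
      intro A h
      induction h with
      | refl => exact (Subgroup.zpowers_le).mpr x.2
      | tail _ h2 ih => exact fun b hb => hstep _ h2.1 h2.2.1 ih b (fun a ha => h2.2.2.2.2 a ha b hb)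
    obtain ⟨hxe, hxc⟩ := vertex_zpowers hxG
    have hxc' : p ^ 1 ≤ Nat.card ↥((Subgroup.zpowers (x : G)).map (MulAut.conj g).toMonoidHom) := by
      rw [Subgroup.card_map_of_injective (MulAut.conj g).injective]; exact hxc
    have hle : (Subgroup.zpowers (x : G)).map (MulAut.conj g).toMonoidHom ≤ H :=
      hclos _ (hconn _ _ hxe hxc (vertex_map g hxe) hxc')
    apply hH g hg
    have hmem : g * (x : G) * g⁻¹ ∈ H ⊓ H.map (MulAut.conj g).toMonoidHom :=
      ⟨hle ⟨x, Subgroup.mem_zpowers _, rfl⟩, ⟨x, x.2, rfl⟩⟩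
    have ho : orderOf (g * (x : G) * g⁻¹) = p := by
      rw [show g * (x : G) * g⁻¹ = MulAut.conj g (x : G) from rfl, MulEquiv.orderOf_eq, hxG]
    rw [← ho]
    exact Subgroup.orderOf_dvd_natCard _ hmem
  · intro hnc
    have hpG : p ∣ Nat.card G := by
      by_contra hpn
      apply hnc
      intro E E' hE hEc _ _
      obtain ⟨a, ha, ha1⟩ := exists_ne_one hEc hp
      refine absurd ?_ hpn
      rw [← orderOf_eq_prime (hE.2 a ha) ha1]
      exact orderOf_dvd_natCard a
    obtain ⟨P⟩ : Nonempty (Sylow p G) := inferInstance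
    haveI : Nontrivial ↥(P : Subgroup G) :=
      (Subgroup.nontrivial_iff_ne_bot _).mpr (P.ne_bot_of_dvd_card hpG)
    haveI : Nontrivial ↥(Subgroup.center ↥(P : Subgroup G)) := P.2.center_nontrivial
    have hpZ : p ∣ Nat.card ↥(Subgroup.center ↥(P : Subgroup G)) := by
      obtain ⟨n, hn⟩ := (P.2.to_subgroup (Subgroup.center _)).exists_card_eq
      rw [hn]
      have hn0 : n ≠ 0 := by
        rintro rfl
        rw [pow_zero] at hn
        exact absurd hn Finite.one_lt_card.ne'
      exact dvd_pow_self p hn0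
    obtain ⟨zc, hzc⟩ := exists_prime_orderOf_dvd_card' p hpZ
    set z : G := ((zc : ↥(P : Subgroup G)) : G) with hzdef
    have hz : orderOf z = p := by rw [hzdef, Subgroup.orderOf_coe, Subgroup.orderOf_coe]; exact hzc
    have hzP : ∀ a ∈ (P : Subgroup G), a * z = z * a := fun a ha =>
      congrArg Subtype.val (Subgroup.mem_center_iff.mp zc.2 ⟨a, ha⟩)
    set Z := Subgroup.zpowers z with hZ
    obtain ⟨hZe, hZc⟩ := vertex_zpowers hz
    have hcover : ∀ E : Subgroup G, IsElementaryAbelian p E → p ^ 1 ≤ Nat.card ↥E → ∀ R : Sylow p G,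
        E ≤ (R : Subgroup G) → ∀ g : G, g • P = R → Conn p E (Z.map (MulAut.conj g).toMonoidHom) := by
      intro E hE hEc R hER g hgR
      refine Relation.ReflTransGen.single ⟨hE, hEc, vertex_map g hZe, ?_, ?_⟩
      · rw [Subgroup.card_map_of_injective (MulAut.conj g).injective]; exact hZc
      · rintro a ha _ ⟨b, hb, rfl⟩
        have haR : a ∈ ((g • P : Sylow p G) : Subgroup G) := hgR ▸ hER ha
        rw [Sylow.coe_subgroup_smul] at haR
        obtain ⟨c, hc, rfl⟩ := Subgroup.mem_pointwise_smul_iff_inv_smul_mem.mp haR |>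
          fun h => (⟨_, h, (MulAut.conj g).apply_symm_apply a⟩ :
            ∃ c ∈ (P : Subgroup G), MulAut.conj g c = a)
        have : c * b = b * c := by
          obtain ⟨n, rfl⟩ := hb
          exact (Commute.zpow_right (hzP c hc) n)
        show MulAut.conj g c * MulAut.conj g b = MulAut.conj g b * MulAut.conj g c
        rw [← map_mul, this, map_mul]
    have hH1 : ∀ a ∈ (P : Subgroup G), Z.map (MulAut.conj a).toMonoidHom = Z := by
      intro a ha
      rw [hZ, MonoidHom.map_zpowers]
      congr 1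
      show a * z * a⁻¹ = z
      rw [hzP a ha, mul_inv_cancel_right]
    have hmap_mul : ∀ (a b : G) (A : Subgroup G),
        A.map (MulAut.conj (a * b)).toMonoidHom =
          (A.map (MulAut.conj b).toMonoidHom).map (MulAut.conj a).toMonoidHom := by
      intro a b A
      rw [Subgroup.map_map]
      congr 1
      ext u
      simp [MulAut.conj_apply, mul_assoc]
    let H : Subgroup G :=
      { carrier := {g | Conn p Z (Z.map (MulAut.conj g).toMonoidHom)}
        one_mem' := by
          show Conn p Z _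
          rw [hH1 1 (one_mem _)]
          exact Relation.ReflTransGen.refl
        mul_mem' := by
          intro a b ha hb
          show Conn p Z _
          rw [hmap_mul]
          exact Relation.ReflTransGen.trans ha (cconj a hb)
        inv_mem' := by
          intro a ha
          show Conn p Z _
          have := cconj a⁻¹ (csymm ha)
          rwa [← hmap_mul, inv_mul_cancel, hH1 1 (one_mem _)] at this }
    have hPH : (P : Subgroup G) ≤ H := by
      intro a ha
      show Conn p Z _
      rw [hH1 a ha]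
      exact Relation.ReflTransGen.refl
    refine ⟨H, ?_, ?_, ?_⟩
    · intro htop
      apply hnc
      have hall : ∀ E : Subgroup G, IsElementaryAbelian p E → p ^ 1 ≤ Nat.card ↥E → Conn p E Z := by
        intro E hE hEc
        obtain ⟨R, hR⟩ := (show IsPGroup p ↥E from fun a => ⟨1, Subtype.ext (by
          simpa using hE.2 a a.2)⟩).exists_le_sylow
        obtain ⟨g, hg⟩ := MulAction.exists_smul_eq G P R
        exact Relation.ReflTransGen.trans (hcover E hE hEc R hR g hg)
          (csymm (show g ∈ H by rw [htop]; trivial))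
      intro E E' hE hEc hE' hEc'
      exact Relation.ReflTransGen.trans (hall E hE hEc) (csymm (hall E' hE' hEc'))
    · refine Dvd.dvd.trans ?_ (Subgroup.card_dvd_of_le hPH)
      have hd := Subgroup.orderOf_dvd_natCard _ (show z ∈ (P : Subgroup G) from (zc : ↥(P : Subgroup G)).2)
      rwa [hz] at hd
    · intro g hg hdvd
      obtain ⟨x, hx⟩ := exists_prime_orderOf_dvd_card' p hdvd
      have hxo : orderOf (x : G) = p := by rw [Subgroup.orderOf_coe]; exact hx
      obtain ⟨hxe, hxc⟩ := vertex_zpowers hxo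
      have key : ∀ y : G, y ∈ H → orderOf y = p → Conn p (Subgroup.zpowers y) Z := by
        intro y hy hyo
        obtain ⟨hye, hyc⟩ := vertex_zpowers hyo
        obtain ⟨R, hR⟩ := (show IsPGroup p ↥((Subgroup.zpowers y).subgroupOf H) from fun a =>
          ⟨1, Subtype.ext (Subtype.ext (by simpa using hye.2 _ (Subgroup.mem_subgroupOf.mp a.2)))⟩).exists_le_sylow
        let P₀ : Sylow p ↥H := P.subtype hPH
        obtain ⟨h, hh⟩ := MulAction.exists_smul_eq ↥H P₀ R
        have hy' : (⟨y, hy⟩ : ↥H) ∈ (R : Subgroup ↥H) :=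
          hR (Subgroup.mem_subgroupOf.mpr (Subgroup.mem_zpowers y))
        rw [← hh, Sylow.coe_subgroup_smul, Subgroup.mem_pointwise_smul_iff_inv_smul_mem] at hy'
        have hy'' : (h : G)⁻¹ * y * (h : G) ∈ (P : Subgroup G) := by
          simpa [MulAut.smul_def, P₀, Sylow.coe_subtype, Subgroup.mem_subgroupOf] using hy'
        obtain ⟨R', hR'⟩ : ∃ R' : Sylow p G, R' = (h : G) • P := ⟨_, rfl⟩
        refine Relation.ReflTransGen.trans (hcover _ hye hyc R' ?_ _ hR'.symm) (csymm h.2)
        rw [Subgroup.zpowers_le, hR', Sylow.coe_subgroup_smul,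
          Subgroup.mem_pointwise_smul_iff_inv_smul_mem]
        simpa [MulAut.smul_def] using hy''
      obtain ⟨hxH, y, hyH, hyx⟩ := Subgroup.mem_inf.mp x.2
      have hyo : orderOf y = p := by
        rw [← hxo, ← hyx]
        exact (MulEquiv.orderOf_eq _ y).symm
      have h1 : Conn p ((Subgroup.zpowers y).map (MulAut.conj g).toMonoidHom)
          (Z.map (MulAut.conj g).toMonoidHom) := cconj g (key y hyH hyo)
      rw [MonoidHom.map_zpowers, hyx] at h1
      exact hg (Relation.ReflTransGen.trans (csymm (key _ hxH hxo)) h1)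

end Cfsg.Agent.S1336
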