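import Cfsg.Statements.S1338
import Cfsg.Agent.Lib.PGroup.RankFourThree

set_option autoImplicit false
open Cfsg

namespace Cfsg.Agent.S1338

/-- A finite 3-group of 3-rank at least 4 is 2-connected for the prime 3: its commuting graph on elementary abelian subgroups of order ≥ 9 is connected. -/
theorem result {P : Type*} [Group P] [Finite P] (hP : IsPGroup 3 P) (hrk : ¬ Cfsg.PRankLE 3 3 P) : Cfsg.IsKConnected 3 2 P := by
  classical
  have hp : Fact (Nat.Prime 3) := ⟨Nat.prime_three⟩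
  obtain ⟨D, hDn, hD, hD81⟩ := CfsgLib.RankFourThree.exists_normal_elementary_four hP hrk
  haveI := hDn
  have hDne : D ≠ ⊥ := fun e => by rw [e, Subgroup.card_bot] at hD81; omega
  obtain ⟨z, hzD, hzc, hzo⟩ := CfsgLib.PGroup.exists_central_orderOf_eq hP D hDne
  have hz3 : z ^ 3 = 1 := orderOf_dvd_iff_pow_eq_one.mp hzo.dvd
  let R : Subgroup P → Subgroup P → Prop := fun A B => Cfsg.IsElementaryAbelian 3 A ∧
    3 ^ 2 ≤ Nat.card ↥A ∧ Cfsg.IsElementaryAbelian 3 B ∧ 3 ^ 2 ≤ Nat.card ↥B ∧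
    ∀ a ∈ A, ∀ b ∈ B, a * b = b * a
  have hsymm : ∀ A B, R A B → R B A := fun A B h =>
    ⟨h.2.2.1, h.2.2.2.1, h.1, h.2.1, fun a ha b hb => (h.2.2.2.2 b hb a ha).symm⟩
  -- elementary abelian subgroups generated by pointwise commuting ones
  have hsupEA : ∀ A B : Subgroup P, Cfsg.IsElementaryAbelian 3 A → Cfsg.IsElementaryAbelian 3 B →
      (∀ a ∈ A, ∀ b ∈ B, a * b = b * a) → Cfsg.IsElementaryAbelian 3 (A ⊔ B) := by
    intro A B hA hB hc
    have hcom : ∀ x ∈ A ⊔ B, ∀ y ∈ A ⊔ B, x * y = y * x := by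
      have h1 : A ⊔ B ≤ Subgroup.centralizer (A : Set P) :=
        sup_le (fun a ha => Subgroup.mem_centralizer_iff.mpr fun a' ha' =>
            CfsgLib.RankFourThree.commute_of hA ha' ha)
          (fun b hb => Subgroup.mem_centralizer_iff.mpr fun a ha => hc a ha b hb)
      have h2 : A ⊔ B ≤ Subgroup.centralizer (B : Set P) :=
        sup_le (fun a ha => Subgroup.mem_centralizer_iff.mpr fun b hb => (hc a ha b hb).symm)
          (fun b hb => Subgroup.mem_centralizer_iff.mpr fun b' hb' =>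
            CfsgLib.RankFourThree.commute_of hB hb' hb)
      intro x hx y hy
      have h3 : A ⊔ B ≤ Subgroup.centralizer {x} :=
        sup_le (fun a ha => Subgroup.mem_centralizer_singleton_iff.mpr
            (Subgroup.mem_centralizer_iff.mp (h1 hx) a ha))
          (fun b hb => Subgroup.mem_centralizer_singleton_iff.mpr
            (Subgroup.mem_centralizer_iff.mp (h2 hx) b hb))
      exact (Subgroup.mem_centralizer_singleton_iff.mp (h3 hy)).symm
    refine ⟨⟨⟨fun a b => Subtype.ext (hcom a a.2 b b.2)⟩⟩, fun x hx => ?_⟩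
    let K : Subgroup P :=
      { carrier := {x | x ∈ A ⊔ B ∧ x ^ 3 = 1}
        one_mem' := ⟨one_mem _, one_pow 3⟩
        mul_mem' := fun {a b} ha hb =>
          ⟨mul_mem ha.1 hb.1, by rw [Commute.mul_pow (hcom a ha.1 b hb.1), ha.2, hb.2, one_mul]⟩
        inv_mem' := fun {a} ha => ⟨inv_mem ha.1, by rw [inv_pow, ha.2, inv_one]⟩ }
    have hle : A ⊔ B ≤ K := sup_le (fun a ha => ⟨Subgroup.mem_sup_left ha, hA.2 a ha⟩)
      (fun b hb => ⟨Subgroup.mem_sup_right hb, hB.2 b hb⟩)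
    exact (hle hx).2
  have hcyc : ∀ w : P, w ^ 3 = 1 → Cfsg.IsElementaryAbelian 3 (Subgroup.zpowers w) := by
    intro w hw
    refine ⟨inferInstance, ?_⟩
    rintro a ⟨k, rfl⟩
    show (w ^ k) ^ 3 = 1
    rw [← zpow_natCast, ← zpow_mul, mul_comm, zpow_mul, zpow_natCast, hw, one_zpow]
  have hcard : ∀ A : Subgroup P, ∀ w, w ∈ A → w ∉ Subgroup.zpowers z → z ∈ A →
      3 ^ 2 ≤ Nat.card ↥A := by
    intro A w hwA hwz hzA
    have h1 : Nat.card ↥(Subgroup.zpowers z) < Nat.card ↥A :=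
      lt_of_le_of_ne (Subgroup.card_le_of_le ((Subgroup.zpowers_le).mpr hzA)) fun e =>
        hwz ((Subgroup.eq_of_le_of_card_ge ((Subgroup.zpowers_le).mpr hzA) e.ge).ge hwA)
    obtain ⟨k, hk⟩ := (hP.to_subgroup A).exists_card_eq
    rw [Nat.card_zpowers, hzo, hk] at h1
    rw [hk]
    exact Nat.pow_le_pow_right (by norm_num)
      ((Nat.pow_lt_pow_iff_right (by norm_num)).mp (show 3 ^ 1 < 3 ^ k by simpa using h1))
  -- every vertex is joined to `D`
  have key : ∀ X : Subgroup P, Cfsg.IsElementaryAbelian 3 X → 3 ^ 2 ≤ Nat.card ↥X →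
      Relation.ReflTransGen R X D := by
    intro X hX hXc
    obtain ⟨x, hxX, hxz⟩ : ∃ x ∈ X, x ∉ Subgroup.zpowers z := by
      by_contra h
      push Not at h
      have := Subgroup.card_le_of_le (show X ≤ Subgroup.zpowers z from h)
      rw [Nat.card_zpowers, hzo] at this
      omega
    have hx3 := hX.2 x hxX
    set X1 := X ⊔ Subgroup.zpowers z with hX1def
    set C := D ⊓ Subgroup.centralizer ({x} : Set P) with hCdef
    set C1 := C ⊔ Subgroup.zpowers x with hC1def
    set X2 := Subgroup.zpowers x ⊔ Subgroup.zpowers z with hX2def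
    have hzC : ∀ (w : P) (a : P), a ∈ Subgroup.zpowers z → w * a = a * w := by
      rintro w a ⟨k, rfl⟩
      exact Subgroup.mem_center_iff.mp (zpow_mem hzc k) w
    have hX1 : Cfsg.IsElementaryAbelian 3 X1 :=
      hsupEA _ _ hX (hcyc z hz3) fun a _ b hb => hzC a b hb
    have hC : Cfsg.IsElementaryAbelian 3 C :=
      ⟨⟨⟨fun a b => Subtype.ext (CfsgLib.RankFourThree.commute_of hD a.2.1 b.2.1)⟩⟩,
        fun a ha => hD.2 a ha.1⟩
    have hC1 : Cfsg.IsElementaryAbelian 3 C1 := hsupEA _ _ hC (hcyc x hx3) (by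
      rintro a ha b ⟨k, rfl⟩
      exact ((show Commute a x from Subgroup.mem_centralizer_singleton_iff.mp ha.2).zpow_right k).eq)
    have hX2 : Cfsg.IsElementaryAbelian 3 X2 :=
      hsupEA _ _ (hcyc x hx3) (hcyc z hz3) fun a _ b hb => hzC a b hb
    have hzC' : z ∈ C := ⟨hzD,
      Subgroup.mem_centralizer_singleton_iff.mpr (Subgroup.mem_center_iff.mp hzc x).symm⟩
    have hC1c : 3 ^ 2 ≤ Nat.card ↥C1 := hcard C1 x
      (Subgroup.mem_sup_right (Subgroup.mem_zpowers x)) hxz (Subgroup.mem_sup_left hzC')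
    have hX1c : 3 ^ 2 ≤ Nat.card ↥X1 := hcard X1 x (Subgroup.mem_sup_left hxX) hxz
      (Subgroup.mem_sup_right (Subgroup.mem_zpowers z))
    have hX2c : 3 ^ 2 ≤ Nat.card ↥X2 := hcard X2 x (Subgroup.mem_sup_left (Subgroup.mem_zpowers x))
      hxz (Subgroup.mem_sup_right (Subgroup.mem_zpowers z))
    have hCc : 3 ^ 2 ≤ Nat.card ↥C :=
      CfsgLib.RankFourThree.nine_le_fixed hP hD hD81 hx3
    have c := @CfsgLib.RankFourThree.commute_of P _ _
    have e1 : R X X1 := ⟨hX, hXc, hX1, hX1c, fun a ha b hb =>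
      c hX1 (Subgroup.mem_sup_left ha) hb⟩
    have e2 : R X1 X2 := ⟨hX1, hX1c, hX2, hX2c, fun a ha b hb => c hX1 ha
      ((sup_le_sup_right ((Subgroup.zpowers_le).mpr hxX) _ : X2 ≤ X1) hb)⟩
    have e3 : R X2 C1 := ⟨hX2, hX2c, hC1, hC1c, fun a ha b hb => c hC1
      ((sup_le le_sup_right (le_sup_of_le_left ((Subgroup.zpowers_le).mpr hzC')) : X2 ≤ C1) ha) hb⟩
    have e4 : R C1 C := ⟨hC1, hC1c, hC, hCc, fun a ha b hb => c hC1 ha (Subgroup.mem_sup_left hb)⟩
    have hDc : 3 ^ 2 ≤ Nat.card ↥D := le_trans (by norm_num) hD81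
    have e5 : R C D := ⟨hC, hCc, hD, hDc, fun a ha b hb => c hD ha.1 hb⟩
    exact ((((Relation.ReflTransGen.single e1).tail e2).tail e3).tail e4).tail e5
  intro E E' hE hEc hE' hE'c
  have rsymm : ∀ A B, Relation.ReflTransGen R A B → Relation.ReflTransGen R B A := by
    intro A B h
    induction h with
    | refl => exact Relation.ReflTransGen.refl
    | tail _ h2 ih => exact Relation.ReflTransGen.head (hsymm _ _ h2) ih
  exact (key E hE hEc).trans (rsymm _ _ (key E' hE' hE'c))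

end Cfsg.Agent.S1338
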