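import Cfsg.Statements.S1339
import Cfsg.Agent.Lib.Components.GenFitting
import Cfsg.Agent.Lib.Solvable.Core

set_option autoImplicit false
open Cfsg

namespace Cfsg.Agent.S1339

/-- Let F be a field with 2 elements, n ≥ 3, and t ∈ SL(n, F) a transvection (t = 1 + E_{ij}, i ≠ j). Then the generalized Fitting subgroup of C(t) is O_2(C(t)). -/
theorem result {F : Type*} [Field F] [Fintype F] [DecidableEq F] (hF : Fintype.card F = 2) (n : ℕ) (hn : 3 ≤ n) (i j : Fin n) (hij : i ≠ j) (t : Matrix.SpecialLinearGroup (Fin n) F) (ht : (t : Matrix (Fin n) (Fin n) F) = Matrix.transvection i j 1) : Cfsg.generalizedFittingSubgroup ↥(Subgroup.centralizer ({t} : Set (Matrix.SpecialLinearGroup (Fin n) F))) = Cfsg.pCore 2 ↥(Subgroup.centralizer ({t} : Set (Matrix.SpecialLinearGroup (Fin n) F))) := by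
  classical
  haveI : Fact (Nat.Prime 2) := ⟨Nat.prime_two⟩
  have h11 : (1 : F) + 1 = 0 := by
    haveI := Fintype.ofFinite Fˣ
    have h2 : ((Fintype.card F : ℕ) : F) = 0 := Nat.cast_card_eq_zero F
    rw [hF] at h2
    rw [← h2]
    norm_num
  have hone : ∀ x : F, x ≠ 0 → x = 1 := by
    intro x hx
    by_contra h1
    have h3 : ({0, 1, x} : Finset F).card = 3 := by
      rw [Finset.card_insert_of_notMem, Finset.card_insert_of_notMem, Finset.card_singleton]
      · simpa using Ne.symm h1
      · simpa using Ne.symm hx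
    have := Finset.card_le_univ ({0, 1, x} : Finset F)
    omega
  set C := Subgroup.centralizer ({t} : Set (Matrix.SpecialLinearGroup (Fin n) F)) with hC
  -- what commuting with the transvection says
  have hmem : ∀ g ∈ C, (∀ a, a ≠ i → (g : Matrix (Fin n) (Fin n) F) a i = 0) ∧
      (∀ b, b ≠ j → (g : Matrix (Fin n) (Fin n) F) j b = 0) ∧
      (g : Matrix (Fin n) (Fin n) F) i i = (g : Matrix (Fin n) (Fin n) F) j j := by
    intro g hg
    have h := congrArg (fun m : Matrix.SpecialLinearGroup (Fin n) F => (m : Matrix (Fin n) (Fin n) F))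
      (Subgroup.mem_centralizer_singleton_iff.mp hg)
    simp only [Matrix.SpecialLinearGroup.coe_mul, ht, Matrix.transvection, mul_add, add_mul, mul_one,
      one_mul, add_right_inj] at h
    refine ⟨fun a ha => ?_, fun b hb => ?_, ?_⟩
    · have := congrFun (congrFun h a) j
      simpa [Matrix.mul_apply, Matrix.single, ha.symm] using this
    · have := congrFun (congrFun h i) b
      simpa [Matrix.mul_apply, Matrix.single, hb.symm, eq_comm] using this
    · have := congrFun (congrFun h i) j
      simpa [Matrix.mul_apply, Matrix.single] using this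
  let P : Fin n → Prop := fun a => a ≠ i ∧ a ≠ j
  let π : ↥C →* Matrix {a // P a} {a // P a} F :=
    { toFun := fun g => Matrix.of fun a b =>
        ((g : Matrix.SpecialLinearGroup (Fin n) F) : Matrix (Fin n) (Fin n) F) a.1 b.1
      map_one' := by
        ext a b
        simp [Matrix.one_apply, Subtype.ext_iff]
      map_mul' := fun g h => by
        ext a b
        simp only [Matrix.of_apply, Subgroup.coe_mul, Matrix.SpecialLinearGroup.coe_mul,
          Matrix.mul_apply]
        rw [← Fintype.sum_subtype_add_sum_subtype P]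
        rw [add_eq_left]
        refine Finset.sum_eq_zero fun c _ => ?_
        obtain ⟨c, hc⟩ := c
        dsimp only
        rcases not_and_or.mp hc with hc | hc
        · rw [not_ne_iff.mp hc, (hmem g g.2).1 a.1 a.2.1, zero_mul]
        · rw [not_ne_iff.mp hc, (hmem h h.2).2.1 b.1 b.2.2, mul_zero] }
  have hdiag : ∀ g ∈ C, (g : Matrix (Fin n) (Fin n) F) i i = 1 ∧
      (g : Matrix (Fin n) (Fin n) F) j j = 1 := by
    intro g hg
    obtain ⟨h1, -, h3⟩ := hmem g hg
    have hne : (g : Matrix (Fin n) (Fin n) F) i i ≠ 0 := by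
      intro h0
      have hdet : (g : Matrix (Fin n) (Fin n) F).det = 0 :=
        Matrix.det_eq_zero_of_column_eq_zero i fun a => by
          by_cases ha : a = i
          · rw [ha, h0]
          · exact h1 a ha
      rw [Matrix.SpecialLinearGroup.det_coe] at hdet
      exact one_ne_zero hdet
    exact ⟨hone _ hne, h3 ▸ hone _ hne⟩
  -- the kernel is a 2-group
  have hker : IsPGroup 2 ↥π.ker := by
    rintro ⟨g, hg⟩
    refine ⟨2, Subtype.ext (Subtype.ext (Subtype.ext ?_))⟩
    set N : Matrix (Fin n) (Fin n) F :=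
      ((g : Matrix.SpecialLinearGroup (Fin n) F) : Matrix (Fin n) (Fin n) F) - 1 with hN
    obtain ⟨h1, h2, -⟩ := hmem _ g.2
    obtain ⟨h4, h5⟩ := hdiag _ g.2
    have hN0 : ∀ a b, a ≠ i → b ≠ j → N a b = 0 := by
      intro a b ha hb
      rw [hN, Matrix.sub_apply]
      by_cases hbi : b = i
      · rw [hbi, h1 a ha, Matrix.one_apply_ne ha, sub_zero]
      by_cases haj : a = j
      · rw [haj, h2 b hb, Matrix.one_apply_ne (Ne.symm hb), sub_zero]
      have h0 : π g = 1 := MonoidHom.mem_ker.mp hg
      have := congrArg (fun m : Matrix {a // P a} {a // P a} F => m ⟨a, ha, haj⟩ ⟨b, hbi, hb⟩) h0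
      simp only [π, MonoidHom.coe_mk, OneHom.coe_mk, Matrix.of_apply] at this
      rw [this, Matrix.one_apply, Matrix.one_apply]
      simp only [Subtype.mk.injEq]
      exact sub_self _
    have hNii : N i i = 0 := by rw [hN, Matrix.sub_apply, h4, Matrix.one_apply_eq, sub_self]
    have hNjj : N j j = 0 := by rw [hN, Matrix.sub_apply, h5, Matrix.one_apply_eq, sub_self]
    have hNN : ∀ a b, (a ≠ i ∨ b ≠ j) → (N * N) a b = 0 := by
      intro a b hab
      rw [Matrix.mul_apply]
      refine Finset.sum_eq_zero fun c _ => ?_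
      rcases hab with ha | hb
      · by_cases hc : c = j
        · subst hc
          by_cases hb : b = c
          · subst hb
            rw [hNjj, mul_zero]
          · rw [hN0 c b hij.symm hb, mul_zero]
        · rw [hN0 a c ha hc, zero_mul]
      · by_cases hc : c = i
        · subst hc
          by_cases ha : a = c
          · subst ha
            rw [hNii, zero_mul]
          · rw [hN0 a c ha hij, zero_mul]
        · rw [hN0 c b hc hb, mul_zero]
    have hN4 : N * N * (N * N) = 0 := by
      ext a b
      rw [Matrix.mul_apply, Matrix.zero_apply]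
      refine Finset.sum_eq_zero fun c _ => ?_
      by_cases hc : c = j
      · rw [hNN c b (Or.inl (hc ▸ hij.symm)), mul_zero]
      · rw [hNN a c (Or.inr hc), zero_mul]
    have hadd : ∀ X : Matrix (Fin n) (Fin n) F, X + X = 0 := fun X => by
      ext a b
      rw [Matrix.add_apply, ← one_mul (X a b), ← add_mul, h11, zero_mul, Matrix.zero_apply]
    have hsq : ∀ X : Matrix (Fin n) (Fin n) F, (1 + X) * (1 + X) = 1 + X * X := fun X => by
      rw [mul_add, mul_one, add_mul, one_mul, add_assoc, ← add_assoc X X, hadd, zero_add]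
    show ((((g ^ 2 ^ 2 : ↥C) : Matrix.SpecialLinearGroup (Fin n) F)) : Matrix (Fin n) (Fin n) F) = _
    rw [SubgroupClass.coe_pow, Matrix.SpecialLinearGroup.coe_pow, show (2 ^ 2 : ℕ) = 2 + 2 from rfl,
      pow_add, pow_two,
      show ((g : Matrix.SpecialLinearGroup (Fin n) F) : Matrix (Fin n) (Fin n) F) = 1 + N by
        rw [hN, add_sub_cancel],
      hsq, hsq, hN4, add_zero]
    rfl
  -- its centralizer is inside it
  have hcent : Subgroup.centralizer (π.ker : Set ↥C) ≤ π.ker := by
    intro g hg
    rw [MonoidHom.mem_ker]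
    ext a b
    obtain ⟨a, ha⟩ := a
    obtain ⟨b, hb⟩ := b
    let u : Matrix.SpecialLinearGroup (Fin n) F :=
      ⟨Matrix.transvection i a 1, Matrix.det_transvection_of_ne i a (Ne.symm ha.1) 1⟩
    have huC : u ∈ C := by
      rw [hC, Subgroup.mem_centralizer_singleton_iff]
      apply Subtype.ext
      show Matrix.transvection i a 1 * (t : Matrix (Fin n) (Fin n) F) =
        (t : Matrix (Fin n) (Fin n) F) * Matrix.transvection i a 1
      rw [ht]
      simp [Matrix.transvection, mul_add, add_mul, Matrix.single_mul_single_of_ne, ha.1, ha.2,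
        hij.symm, add_assoc, add_comm, add_left_comm]
    have huk : (⟨u, huC⟩ : ↥C) ∈ π.ker := by
      rw [MonoidHom.mem_ker]
      ext c d
      show Matrix.transvection i a 1 c.1 d.1 = (1 : Matrix {a // P a} {a // P a} F) c d
      simp [Matrix.transvection, Matrix.one_apply, Matrix.single, Subtype.ext_iff, Ne.symm c.2.1]
    have h := congrArg (fun m : ↥C =>
      (((m : Matrix.SpecialLinearGroup (Fin n) F)) : Matrix (Fin n) (Fin n) F) i b)
      (Subgroup.mem_centralizer_iff.mp hg ⟨u, huC⟩ huk)
    obtain ⟨h1, h2, -⟩ := hmem _ g.2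
    obtain ⟨h4, -⟩ := hdiag _ g.2
    change (Matrix.transvection i a 1 * (g : Matrix.SpecialLinearGroup (Fin n) F).1 :
        Matrix (Fin n) (Fin n) F) i b =
      ((g : Matrix.SpecialLinearGroup (Fin n) F).1 * Matrix.transvection i a 1 :
        Matrix (Fin n) (Fin n) F) i b at h
    show ((g : Matrix.SpecialLinearGroup (Fin n) F) : Matrix (Fin n) (Fin n) F) a b =
      (1 : Matrix {a // P a} {a // P a} F) ⟨a, ha⟩ ⟨b, hb⟩
    rw [Matrix.one_apply]
    simp only [Subtype.mk.injEq]
    simp only [Matrix.transvection, mul_add, add_mul, mul_one, one_mul, Matrix.add_apply,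
      add_right_inj] at h
    by_cases hab : a = b
    · subst hab
      rw [if_pos rfl]
      simpa [Matrix.mul_apply, Matrix.single, h4] using h
    · rw [if_neg hab]
      simpa [Matrix.mul_apply, Matrix.single, hab, Ne.symm hab] using h
  refine (CfsgLib.Components.genFitting_eq_pCore_iff 2).mpr ?_
  have hle : π.ker ≤ Cfsg.pCore 2 ↥C := CfsgLib.Solvable.le_pCore inferInstance hker
  exact ((Subgroup.centralizer_le hle).trans hcent).trans hle

end Cfsg.Agent.S1339
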