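import Cfsg.Statements.S1340
import Cfsg.Agent.Lib.Linear.Simple
import Cfsg.Agent.Lib.Components.Quasisimple
import Cfsg.Agent.Lib.Solvable.Core

set_option autoImplicit false
open Cfsg

namespace Cfsg.Agent.S1340

/-- Let F be a finite field of odd order and n ≥ 3 with (n, |F|) ≠ (3, 3). Then GL(n, F) has a non-central involution t such that C(t) / O(C(t)) has a component. -/
theorem result {F : Type*} [Field F] [Fintype F] [DecidableEq F] (hF : Odd (Fintype.card F)) (n : ℕ) (hn : 3 ≤ n) (h33 : ¬ (n = 3 ∧ Fintype.card F = 3)) : ∃ t : Matrix.GeneralLinearGroup (Fin n) F, orderOf t = 2 ∧ t ∉ Subgroup.center (Matrix.GeneralLinearGroup (Fin n) F) ∧ Cfsg.HasComponent (↥(Subgroup.centralizer ({t} : Set (Matrix.GeneralLinearGroup (Fin n) F))) ⧸ Cfsg.oddCore ↥(Subgroup.centralizer ({t} : Set (Matrix.GeneralLinearGroup (Fin n) F)))) := by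
  classical
  have h2 : (2 : F) ≠ 0 := by
    intro h
    have hring : ringChar F = 2 := by
      have hc : CharP F 2 := CharTwo.of_one_ne_zero_of_two_eq_zero one_ne_zero h
      exact ringChar.eq F 2
    exact Nat.not_even_iff_odd.mpr hF (Nat.even_iff.mpr (FiniteField.even_card_of_char_two hring))
  have hneg : (-1 : F) ≠ 1 := fun h => h2 (by linear_combination -h)
  let p : Fin n → Prop := fun a => (a : ℕ) + 1 ≠ n
  let e : {a // p a} ⊕ {a // ¬ p a} ≃ Fin n := Equiv.sumCompl p
  let f := Matrix.reindexAlgEquiv F F e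
  let d : Fin n → F := fun a => if p a then -1 else 1
  have hd : ∀ a, d a * d a = 1 := fun a => by by_cases h : p a <;> simp [d, h]
  let tM : Matrix (Fin n) (Fin n) F := Matrix.diagonal d
  have htM : tM * tM = 1 := by
    rw [Matrix.diagonal_mul_diagonal, ← Matrix.diagonal_one]
    exact congrArg Matrix.diagonal (funext hd)
  let t : Matrix.GeneralLinearGroup (Fin n) F := ⟨tM, tM, htM, htM⟩
  have a0 : Fin n := ⟨0, by omega⟩
  obtain ⟨x, hx, y, hy, hxy, z, hz⟩ : ∃ x, p x ∧ ∃ y, p y ∧ x ≠ y ∧ ∃ z, ¬ p z :=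
    ⟨⟨0, by omega⟩, by simp [p]; omega, ⟨1, by omega⟩, by simp [p]; omega,
      by simp [Fin.ext_iff], ⟨n - 1, by omega⟩, by simp [p]; omega⟩
  have ht1 : t ≠ 1 := fun h => by
    have h0 := congrArg (fun g : Matrix.GeneralLinearGroup (Fin n) F =>
      (g : Matrix (Fin n) (Fin n) F) x x) h
    simp only [t, tM, d, Matrix.diagonal_apply_eq, if_pos hx, Units.val_one,
      Matrix.one_apply_eq] at h0
    exact hneg h0
  have hto : orderOf t = 2 := orderOf_eq_prime (by rw [sq]; exact Units.ext htM) ht1
  have htc : t ∉ Subgroup.center (Matrix.GeneralLinearGroup (Fin n) F) := by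
    intro hc
    have hne : x ≠ z := fun e => hz (e ▸ hx)
    let uM : Matrix (Fin n) (Fin n) F := Matrix.transvection x z 1
    let u : Matrix.GeneralLinearGroup (Fin n) F := ⟨uM, Matrix.transvection x z (-1),
      by rw [Matrix.transvection_mul_transvection_same x z hne, add_neg_cancel,
        Matrix.transvection_zero],
      by rw [Matrix.transvection_mul_transvection_same x z hne, neg_add_cancel,
        Matrix.transvection_zero]⟩
    have := congrArg (fun g : Matrix.GeneralLinearGroup (Fin n) F =>
      (g : Matrix (Fin n) (Fin n) F) x z) (Subgroup.mem_center_iff.mp hc u)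
    simp only [Units.val_mul, t, tM, u, uM, Matrix.mul_diagonal, Matrix.diagonal_mul,
      Matrix.transvection, Matrix.add_apply, Matrix.one_apply_ne hne, Matrix.single_apply_same,
      zero_add, one_mul, mul_one, d, if_pos hx, if_neg hz] at this
    exact hneg this.symm
  refine ⟨t, hto, htc, ?_⟩
  set C := Subgroup.centralizer ({t} : Set (Matrix.GeneralLinearGroup (Fin n) F)) with hC
  have hblock : ∀ g ∈ C, ∀ a b, (p a ∧ ¬ p b ∨ ¬ p a ∧ p b) →
      (g : Matrix (Fin n) (Fin n) F) a b = 0 := by
    intro g hg a b hab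
    have := congrArg (fun m : Matrix.GeneralLinearGroup (Fin n) F =>
      (m : Matrix (Fin n) (Fin n) F) a b) (Subgroup.mem_centralizer_singleton_iff.mp hg)
    simp only [Units.val_mul, t, tM, Matrix.mul_diagonal, Matrix.diagonal_mul, d] at this
    have h2' : (g : Matrix (Fin n) (Fin n) F) a b * 2 = 0 := by
      rcases hab with ⟨ha, hb⟩ | ⟨ha, hb⟩
      · rw [if_pos ha, if_neg hb] at this
        first
          | linear_combination this
          | linear_combination -this
      · rw [if_neg ha, if_pos hb] at this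
        first
          | linear_combination this
          | linear_combination -this
    exact (mul_eq_zero.mp h2').resolve_right h2
  -- the block embedding
  have hmulB : ∀ A B : Matrix {a // p a} {a // p a} F,
      f (Matrix.fromBlocks A 0 0 1) * f (Matrix.fromBlocks B 0 0 1) =
        f (Matrix.fromBlocks (A * B) 0 0 1) := by
    intro A B
    rw [← map_mul, Matrix.fromBlocks_multiply]
    simp
  let φ0 : Matrix.SpecialLinearGroup {a // p a} F →* Matrix (Fin n) (Fin n) F :=
    { toFun := fun A => f (Matrix.fromBlocks (A : Matrix {a // p a} {a // p a} F) 0 0 1)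
      map_one' := by rw [Matrix.SpecialLinearGroup.coe_one, Matrix.fromBlocks_one, map_one]
      map_mul' := fun A B => by rw [Matrix.SpecialLinearGroup.coe_mul, hmulB] }
  let φ1 : Matrix.SpecialLinearGroup {a // p a} F →* Matrix.GeneralLinearGroup (Fin n) F :=
    φ0.toHomUnits
  have hφC : ∀ A, φ1 A ∈ C := by
    intro A
    rw [hC, Subgroup.mem_centralizer_singleton_iff]
    apply Units.ext
    show φ0 A * tM = tM * φ0 A
    have htf : tM = f (Matrix.fromBlocks (-1) 0 0 1) := by
      apply (Matrix.reindexAlgEquiv F F e).symm.injective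
      rw [AlgEquiv.symm_apply_apply]
      ext (i | i) (j | j) <;>
        simp [tM, d, e, Matrix.one_apply, Matrix.diagonal_apply, i.2, j.2, Subtype.ext_iff]
      · split_ifs <;> simp
      · exact fun h => absurd (h ▸ i.2) j.2
      · exact fun h => absurd (h ▸ j.2) i.2
    show f (Matrix.fromBlocks (A : Matrix {a // p a} {a // p a} F) 0 0 1) * tM = tM * f _
    rw [htf, ← map_mul, ← map_mul, Matrix.fromBlocks_multiply, Matrix.fromBlocks_multiply]
    simp
  let φ : Matrix.SpecialLinearGroup {a // p a} F →* ↥C := φ1.codRestrict C hφC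
  have hφinj : Function.Injective φ := by
    intro A B h
    have h' : f (Matrix.fromBlocks (A : Matrix {a // p a} {a // p a} F) 0 0 1) =
        f (Matrix.fromBlocks (B : Matrix {a // p a} {a // p a} F) 0 0 1) :=
      congrArg (fun g : ↥C => ((g : Matrix.GeneralLinearGroup (Fin n) F) :
        Matrix (Fin n) (Fin n) F)) h
    exact Subtype.ext (Matrix.fromBlocks_inj.mp (f.injective h')).1
  let η : ↥C →* Matrix {a // ¬ p a} {a // ¬ p a} F :=
    { toFun := fun g => Matrix.of fun a b =>
        ((g : Matrix.GeneralLinearGroup (Fin n) F) : Matrix (Fin n) (Fin n) F) a.1 b.1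
      map_one' := by
        ext a b
        simp [Matrix.one_apply, Subtype.ext_iff]
      map_mul' := fun g h => by
        ext a b
        simp only [Matrix.of_apply, Subgroup.coe_mul, Units.val_mul, Matrix.mul_apply]
        rw [← Fintype.sum_subtype_add_sum_subtype p, add_eq_right]
        refine Finset.sum_eq_zero fun c _ => ?_
        rw [hblock g g.2 _ _ (Or.inr ⟨a.2, c.2⟩), zero_mul] }
  let δ : ↥C →* F :=
    { toFun := fun g => ((g : Matrix.GeneralLinearGroup (Fin n) F) :
        Matrix (Fin n) (Fin n) F).det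
      map_one' := by simp
      map_mul' := fun g h => by simp }
  have hrange : φ.range = η.ker ⊓ δ.ker := by
    refine le_antisymm ?_ ?_
    · rintro _ ⟨A, rfl⟩
      refine Subgroup.mem_inf.mpr ⟨MonoidHom.mem_ker.mpr ?_, MonoidHom.mem_ker.mpr ?_⟩
      · ext a b
        show f (Matrix.fromBlocks (A : Matrix {a // p a} {a // p a} F) 0 0 1) a.1 b.1 = _
        simp [f, e, Equiv.sumCompl_symm_apply_of_neg a.2, Equiv.sumCompl_symm_apply_of_neg b.2]
      · show (f (Matrix.fromBlocks (A : Matrix {a // p a} {a // p a} F) 0 0 1)).det = 1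
        simp [f, Matrix.det_reindex_self, Matrix.det_fromBlocks_zero₂₁]
    · rintro g hg
      obtain ⟨h1, h3⟩ := Subgroup.mem_inf.mp hg
      set M := ((g : Matrix.GeneralLinearGroup (Fin n) F) : Matrix (Fin n) (Fin n) F) with hM
      set A : Matrix {a // p a} {a // p a} F := Matrix.of fun a b => M a.1 b.1 with hA
      have hMA : M = f (Matrix.fromBlocks A 0 0 1) := by
        apply (Matrix.reindexAlgEquiv F F e).symm.injective
        rw [AlgEquiv.symm_apply_apply]
        ext (i | i) (j | j)
        · simp [e, hA]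
        · simp [e, hM, hblock _ g.2 _ _ (Or.inl ⟨i.2, j.2⟩)]
        · simp [e, hM, hblock _ g.2 _ _ (Or.inr ⟨i.2, j.2⟩)]
        · have h0 := congrArg (fun m : Matrix {a // ¬ p a} {a // ¬ p a} F => m i j)
            (MonoidHom.mem_ker.mp h1)
          simpa [e, η] using h0
      have hdet : A.det = 1 := by
        have h0 : M.det = 1 := MonoidHom.mem_ker.mp h3
        rw [hMA] at h0
        simpa [f, Matrix.det_reindex_self, Matrix.det_fromBlocks_zero₂₁] using h0
      exact ⟨⟨A, hdet⟩, Subtype.ext (Units.ext hMA.symm)⟩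
  haveI : φ.range.Normal := by rw [hrange]; infer_instance
  haveI : Nontrivial {a // p a} := ⟨⟨x, hx⟩, ⟨y, hy⟩, fun e => hxy (congrArg Subtype.val e)⟩
  have hcond : 3 ≤ Fintype.card {a // p a} ∨ ∃ a : F, a ≠ 0 ∧ a ^ 2 ≠ 1 := by
    rcases eq_or_lt_of_le hn with h | h
    · right
      refine CfsgLib.Linear.exists_sq_ne_one_of_four_le_card ?_
      rw [Nat.card_eq_fintype_card]
      have h1 : 1 < Fintype.card F := Fintype.one_lt_card
      have h3 : Fintype.card F ≠ 3 := fun e => h33 ⟨h.symm, e⟩
      rcases hF with ⟨k, hk⟩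
      omega
    · left
      have hcard : Fintype.card {a // ¬ p a} ≤ 1 := Fintype.card_le_one_iff.mpr fun a b =>
        Subtype.ext (Fin.ext (by have := a.2; have := b.2; simp only [p, ne_eq, not_not] at *; omega))
      have := Fintype.card_subtype_compl p
      rw [Fintype.card_fin] at this
      have hle : Fintype.card {a // p a} ≤ n := by
        simpa using Fintype.card_subtype_le p
      omega
  -- an involution of the block
  let dA : {a // p a} → F := fun a => if a = ⟨x, hx⟩ ∨ a = ⟨y, hy⟩ then -1 else 1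
  have hdA : (Matrix.diagonal dA).det = 1 := by
    rw [Matrix.det_diagonal,
      ← Finset.prod_subset (Finset.subset_univ ({⟨x, hx⟩, ⟨y, hy⟩} : Finset {a // p a}))
        (fun a _ ha => by
          simp only [Finset.mem_insert, Finset.mem_singleton] at ha
          simp [dA, ha]),
      Finset.prod_pair (fun e => hxy (congrArg Subtype.val e))]
    simp [dA]
  let w : Matrix.SpecialLinearGroup {a // p a} F := ⟨Matrix.diagonal dA, hdA⟩
  have hwo : orderOf w = 2 := by
    refine orderOf_eq_prime (Subtype.ext ?_) fun h => ?_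
    · show ((w ^ 2 : Matrix.SpecialLinearGroup {a // p a} F) :
        Matrix {a // p a} {a // p a} F) = 1
      rw [Matrix.SpecialLinearGroup.coe_pow, sq]
      show Matrix.diagonal dA * Matrix.diagonal dA = 1
      rw [Matrix.diagonal_mul_diagonal, ← Matrix.diagonal_one]
      exact congrArg Matrix.diagonal (funext fun a => by simp only [dA]; split_ifs <;> simp)
    · have h' := congrArg (fun g : Matrix.SpecialLinearGroup {a // p a} F =>
        (g : Matrix {a // p a} {a // p a} F) ⟨x, hx⟩ ⟨x, hx⟩) h
      simp [w, dA] at h'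
      exact hneg h'
  haveI : Nontrivial (Matrix.SpecialLinearGroup {a // p a} F) :=
    ⟨w, 1, fun h => by rw [h, orderOf_one] at hwo; omega⟩
  have hqs : Cfsg.IsQuasisimple (Matrix.SpecialLinearGroup {a // p a} F) :=
    CfsgLib.Components.isQuasisimple_of ⟨CfsgLib.Linear.commutator_SL_eq_top hcond⟩ inferInstance
      fun N hN => (CfsgLib.Linear.SL_normal_le_center_or_eq_top hcond N).symm
  haveI := CfsgLib.Solvable.pPrimeCore_normal 2 ↥C
  set π := QuotientGroup.mk' (Cfsg.oddCore ↥C) with hπ
  haveI hn2 : (φ.range.map π).Normal :=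
    Subgroup.Normal.map inferInstance π (QuotientGroup.mk'_surjective _)
  haveI : Nontrivial ↥(φ.range.map π) := by
    rw [Subgroup.nontrivial_iff_ne_bot]
    intro hbot
    have hw : π (φ w) ∈ φ.range.map π := ⟨φ w, ⟨w, rfl⟩, rfl⟩
    rw [hbot, Subgroup.mem_bot] at hw
    have hwO : φ w ∈ Cfsg.oddCore ↥C := (QuotientGroup.eq_one_iff _).mp hw
    have hord : orderOf (φ w) = 2 := (orderOf_injective φ hφinj w).trans hwo
    have hdvd : 2 ∣ Nat.card ↥(Cfsg.oddCore ↥C) := by
      rw [← hord, ← Nat.card_zpowers]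
      exact Subgroup.card_dvd_of_le ((Subgroup.zpowers_le).mpr hwO)
    exact (Nat.Prime.coprime_iff_not_dvd Nat.prime_two).mp
      (CfsgLib.Solvable.pPrimeCore_card_coprime 2 ↥C).symm hdvd
  refine ⟨φ.range.map π, Subgroup.Normal.isSubnormal hn2, ?_⟩
  refine CfsgLib.Components.quasisimple_of_surjective hqs
    (f := ((π.comp φ).codRestrict (φ.range.map π)
      (fun A => ⟨φ A, ⟨A, rfl⟩, rfl⟩))) ?_
  rintro ⟨_, _, ⟨A, rfl⟩, rfl⟩
  exact ⟨A, rfl⟩

end Cfsg.Agent.S1340
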