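import Cfsg.Statements.S1346
import Cfsg.Agent.Lib.Components.CoreBalanceTwo

set_option autoImplicit false
open Cfsg

namespace Cfsg.Agent.S1346

/-- Let G be a finite group all of whose 2-local subgroups have known non-abelian composition factors, and x, y commuting involutions. Then the extended 2-layer of L*_{2'}(C_G(x)) ∩ C_G(y) (as a group) is contained in L*_{2'}(C_G(y)). -/
theorem result {G : Type*} [Group G] [Finite G] (hK : ∀ T : Subgroup G, IsPGroup 2 ↥T → T ≠ ⊥ → Cfsg.IsCompositionKGroup ↥(Subgroup.normalizer (T : Set G))) (x y : G) (hx : orderOf x = 2) (hy : orderOf y = 2) (hxy : x * y = y * x) : (Cfsg.extendedTwoLayer ↥((Cfsg.extendedTwoLayer ↥(Subgroup.centralizer ({x} : Set G))).map (Subgroup.centralizer ({x} : Set G)).subtype ⊓ Subgroup.centralizer ({y} : Set G))).map ((Cfsg.extendedTwoLayer ↥(Subgroup.centralizer ({x} : Set G))).map (Subgroup.centralizer ({x} : Set G)).subtype ⊓ Subgroup.centralizer ({y} : Set G)).subtype ≤ (Cfsg.extendedTwoLayer ↥(Subgroup.centralizer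 ({y} : Set G))).map (Subgroup.centralizer ({y} : Set G)).subtype := by
  haveI : Fact (Nat.Prime 2) := ⟨Nat.prime_two⟩
  haveI hLn := CfsgLib.ExtTwoLayer.extendedTwoLayer_normal (X := ↥(Subgroup.centralizer ({x} : Set G)))
  set Cx := Subgroup.centralizer ({x} : Set G) with hCx
  set Cy := Subgroup.centralizer ({y} : Set G) with hCy
  set L := (Cfsg.extendedTwoLayer ↥Cx).map Cx.subtype with hL
  have hLx : L ≤ Cx := Subgroup.map_subtype_le _
  have hCxL : Cx ≤ Subgroup.normalizer (L : Set G) := by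
    intro g hg
    rw [Subgroup.mem_normalizer_iff]
    intro z
    constructor
    · rintro ⟨a, ha, rfl⟩
      exact ⟨⟨g, hg⟩ * a * ⟨g, hg⟩⁻¹, hLn.conj_mem a ha _, rfl⟩
    · rintro ⟨a, ha, hz⟩
      refine ⟨⟨g, hg⟩⁻¹ * a * ⟨g, hg⟩, by simpa using hLn.conj_mem a ha ⟨g, hg⟩⁻¹, ?_⟩
      simp only [map_mul, map_inv, Subgroup.coe_subtype] at hz ⊢
      rw [hz]
      group
  have hxCy : x ∈ Cy := Subgroup.mem_centralizer_singleton_iff.mpr hxy
  set R : Subgroup ↥Cy := Subgroup.zpowers ⟨x, hxCy⟩ with hR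
  have hRp : IsPGroup 2 ↥R := by
    refine IsPGroup.of_card (n := 1) ?_
    rw [Nat.card_zpowers, pow_one]
    rwa [Subgroup.orderOf_mk]
  have h := CfsgLib.CoreBalance.map_extendedTwoLayer_le
    (Subgroup.inclusion (inf_le_right : L ⊓ Cy ≤ Cy)) (Subgroup.inclusion_injective _) hRp ?_ ?_
  · have h2 := Subgroup.map_mono (f := Cy.subtype) h
    rw [Subgroup.map_map, Subgroup.subtype_comp_inclusion] at h2
    exact h2
  · rw [Subgroup.inclusion_range]
    intro z hz
    rw [hR, Subgroup.zpowers_eq_closure, Subgroup.centralizer_closure,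
      Subgroup.mem_centralizer_singleton_iff]
    exact Subtype.ext (Subgroup.mem_centralizer_singleton_iff.mp (hLx (Subgroup.mem_subgroupOf.mp hz).1))
  · rw [Subgroup.inclusion_range, hR, Subgroup.zpowers_eq_closure, Subgroup.centralizer_closure]
    intro g hg
    rw [Subgroup.mem_centralizer_singleton_iff] at hg
    have hgx : (g : G) ∈ Cx := Subgroup.mem_centralizer_singleton_iff.mpr (congrArg Subtype.val hg)
    rw [Subgroup.mem_normalizer_iff]
    intro z
    simp only [Subgroup.mem_subgroupOf, Subgroup.mem_inf, Subgroup.coe_mul, Subgroup.coe_inv]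
    exact and_congr (Subgroup.mem_normalizer_iff.mp (hCxL hgx) _)
      ⟨fun _ => (g * z * g⁻¹).2, fun _ => z.2⟩

end Cfsg.Agent.S1346
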