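import Cfsg.Statements.S1348
import Cfsg.Agent.Lib.Linear.Simple
import Cfsg.Agent.Lib.Components.Layer

set_option autoImplicit false
open Cfsg

namespace Cfsg.Agent.S1348

set_option maxHeartbeats 1600000 in
/-- Let F be a finite field of odd order, n ≥ 7 odd, and t ∈ SL(n, F) the diagonal matrix with entries −1, …, −1, 1. Then E(C(t)) is a standard subgroup of SL(n, F). -/
theorem result {F : Type*} [Field F] [Fintype F] [DecidableEq F] (hF : Odd (Fintype.card F)) (n : ℕ) (hn : 7 ≤ n) (hodd : Odd n) (t : Matrix.SpecialLinearGroup (Fin n) F) (ht : (t : Matrix (Fin n) (Fin n) F) = Matrix.diagonal (fun i : Fin n => if (i : ℕ) + 1 = n then (1 : F) else -1)) : Cfsg.IsStandardSubgroup ((Cfsg.layer ↥(Subgroup.centralizer ({t} : Set (Matrix.SpecialLinearGroup (Fin n) F)))).map (Subgroup.centralizer ({t} : Set (Matrix.SpecialLinearGroup (Fin n) F))).subtype) := by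
  classical
  haveI : Finite (Matrix.SpecialLinearGroup (Fin n) F) := inferInstance
  have h2 : (2 : F) ≠ 0 := by
    intro h
    have hc : CharP F 2 := CharTwo.of_one_ne_zero_of_two_eq_zero one_ne_zero h
    exact Nat.not_even_iff_odd.mpr hF (Nat.even_iff.mpr
      (FiniteField.even_card_of_char_two (ringChar.eq F 2)))
  have hneg : (-1 : F) ≠ 1 := fun h => h2 (by linear_combination -h)
  let p : Fin n → Prop := fun a => (a : ℕ) + 1 ≠ n
  let e : {a // p a} ⊕ {a // ¬ p a} ≃ Fin n := Equiv.sumCompl p
  let f := Matrix.reindexAlgEquiv F F e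
  have hzu : ∀ a b, ¬ p a → ¬ p b → a = b := fun a b ha hb => Fin.ext (by
    simp only [p, ne_eq, not_not] at ha hb; omega)
  have hpair : ∀ a, p a → ∃ b, p b ∧ a ≠ b := by
    intro a ha
    by_cases h : (a : ℕ) = 0
    · exact ⟨⟨1, by omega⟩, by simp [p]; omega, fun e => by rw [e] at h; simp at h⟩
    · exact ⟨⟨0, by omega⟩, by simp [p]; omega, fun e => h (congrArg Fin.val e)⟩
  have hx0 : p ⟨0, by omega⟩ := by simp [p]; omega
  have hcardp : Fintype.card {a // p a} = n - 1 := by
    have hz : ¬ p ⟨n - 1, by omega⟩ := by simp [p]; omega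
    have h1 : Fintype.card {a // ¬ p a} = 1 :=
      Fintype.card_eq_one_iff.mpr ⟨⟨_, hz⟩, fun b => Subtype.ext (hzu _ _ b.2 hz)⟩
    have h3 := Fintype.card_subtype_compl p
    rw [Fintype.card_fin, h1] at h3
    have hle : Fintype.card {a // p a} ≤ n := by simpa using Fintype.card_subtype_le p
    omega
  set C := Subgroup.centralizer ({t} : Set (Matrix.SpecialLinearGroup (Fin n) F)) with hC
  have htd : (t : Matrix (Fin n) (Fin n) F) = Matrix.diagonal fun a => if p a then -1 else 1 := by
    rw [ht]
    refine congrArg Matrix.diagonal (funext fun a => ?_)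
    by_cases h : (a : ℕ) + 1 = n <;> simp [p, h]
  have hblock : ∀ g ∈ C, ∀ a b, (p a ∧ ¬ p b ∨ ¬ p a ∧ p b) →
      (g : Matrix (Fin n) (Fin n) F) a b = 0 := by
    intro g hg a b hab
    have := congrArg (fun m : (Matrix.SpecialLinearGroup (Fin n) F) => (m : Matrix (Fin n) (Fin n) F) a b)
      (Subgroup.mem_centralizer_singleton_iff.mp hg)
    simp only [Matrix.SpecialLinearGroup.coe_mul, htd, Matrix.mul_diagonal,
      Matrix.diagonal_mul] at this
    have h2' : (g : Matrix (Fin n) (Fin n) F) a b * 2 = 0 := by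
      rcases hab with ⟨ha, hb⟩ | ⟨ha, hb⟩
      · rw [if_pos ha, if_neg hb] at this
        first
          | linear_combination this
          | linear_combination -this
      · rw [if_neg ha, if_pos hb] at this
        first
          | linear_combination this
          | linear_combination -this
    exact (mul_eq_zero.mp h2').resolve_right h2
  let φ1 : Matrix.SpecialLinearGroup {a // p a} F →* (Matrix.SpecialLinearGroup (Fin n) F) :=
    { toFun := fun A => ⟨f (Matrix.fromBlocks (A : Matrix {a // p a} {a // p a} F) 0 0 1), by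
        simp [f, Matrix.det_reindex_self, Matrix.det_fromBlocks_zero₂₁]⟩
      map_one' := Subtype.ext (by simp [Matrix.fromBlocks_one])
      map_mul' := fun A B => Subtype.ext (by
        show f _ = f _ * f _
        rw [← map_mul, Matrix.fromBlocks_multiply]
        simp) }
  have hφC : ∀ A, φ1 A ∈ C := by
    intro A
    rw [hC, Subgroup.mem_centralizer_singleton_iff]
    apply Subtype.ext
    have htf : (t : Matrix (Fin n) (Fin n) F) = f (Matrix.fromBlocks (-1) 0 0 1) := by
      apply (Matrix.reindexAlgEquiv F F e).symm.injective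
      rw [AlgEquiv.symm_apply_apply, htd]
      ext (i | i) (j | j) <;>
        simp [e, Matrix.one_apply, Matrix.diagonal_apply, i.2, j.2, Subtype.ext_iff]
      · split_ifs <;> simp
      · exact fun h => absurd (h ▸ i.2) j.2
      · exact fun h => absurd (h ▸ j.2) i.2
    show f (Matrix.fromBlocks (A : Matrix {a // p a} {a // p a} F) 0 0 1) * t.1 = t.1 * f _
    rw [htf, ← map_mul, ← map_mul, Matrix.fromBlocks_multiply, Matrix.fromBlocks_multiply]
    simp
  have hφinj : Function.Injective φ1 := by
    intro A B h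
    have h' : f (Matrix.fromBlocks (A : Matrix {a // p a} {a // p a} F) 0 0 1) =
        f (Matrix.fromBlocks (B : Matrix {a // p a} {a // p a} F) 0 0 1) :=
      congrArg (fun g : (Matrix.SpecialLinearGroup (Fin n) F) => (g : Matrix (Fin n) (Fin n) F)) h
    exact Subtype.ext (Matrix.fromBlocks_inj.mp (f.injective h')).1
  set S := φ1.range with hS
  have hSC : S ≤ C := by rintro _ ⟨A, rfl⟩; exact hφC A
  have hSmem : ∀ g : (Matrix.SpecialLinearGroup (Fin n) F), g ∈ S ↔ g ∈ C ∧
      ∀ a, ¬ p a → (g : Matrix (Fin n) (Fin n) F) a a = 1 := by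
    intro g
    constructor
    · rintro ⟨A, rfl⟩
      refine ⟨hφC A, fun a ha => ?_⟩
      show f (Matrix.fromBlocks (A : Matrix {a // p a} {a // p a} F) 0 0 1) a a = 1
      simp [f, e, Equiv.sumCompl_symm_apply_of_neg ha]
    · rintro ⟨hg, h1⟩
      set M := (g : Matrix (Fin n) (Fin n) F) with hM
      set A : Matrix {a // p a} {a // p a} F := Matrix.of fun a b => M a.1 b.1 with hA
      have hMA : M = f (Matrix.fromBlocks A 0 0 1) := by
        apply (Matrix.reindexAlgEquiv F F e).symm.injective
        rw [AlgEquiv.symm_apply_apply]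
        ext (i | i) (j | j)
        · simp [e, hA]
        · simp [e, hM, hblock _ hg _ _ (Or.inl ⟨i.2, j.2⟩)]
        · simp [e, hM, hblock _ hg _ _ (Or.inr ⟨i.2, j.2⟩)]
        · obtain rfl : i = j := Subtype.ext (hzu _ _ i.2 j.2)
          simpa [e] using h1 i i.2
      have hdet : A.det = 1 := by
        have h0 : M.det = 1 := g.2
        rw [hMA] at h0
        simpa [f, Matrix.det_reindex_self, Matrix.det_fromBlocks_zero₂₁] using h0
      exact ⟨⟨A, hdet⟩, Subtype.ext hMA.symm⟩
  -- the block is normalized by the centralizer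
  have hCS : C ≤ Subgroup.normalizer (S : Set (Matrix.SpecialLinearGroup (Fin n) F)) := by
    intro g hg
    refine Subgroup.mem_normalizer_fintype fun s hs => ?_
    obtain ⟨hsC, hs1⟩ := (hSmem s).mp hs
    refine (hSmem _).mpr ⟨mul_mem (mul_mem hg hsC) (inv_mem hg), fun a ha => ?_⟩
    have hmul : ∀ g h : (Matrix.SpecialLinearGroup (Fin n) F), g ∈ C → h ∈ C → ((g * h : (Matrix.SpecialLinearGroup (Fin n) F)) : Matrix (Fin n) (Fin n) F) a a =
        (g : Matrix (Fin n) (Fin n) F) a a * (h : Matrix (Fin n) (Fin n) F) a a := by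
      intro g h hg hh
      simp only [Matrix.SpecialLinearGroup.coe_mul, Matrix.mul_apply]
      refine Finset.sum_eq_single a (fun c _ hc => ?_) (fun h => absurd (Finset.mem_univ a) h)
      rw [hblock g hg a c (Or.inr ⟨ha, by_contra fun hpc => hc (hzu c a hpc ha)⟩), zero_mul]
    rw [hmul _ _ (mul_mem hg hsC) (inv_mem hg), hmul _ _ hg hsC, hs1 a ha, mul_one,
      ← hmul _ _ hg (inv_mem hg), mul_inv_cancel]
    simp
  -- the centralizer of the block
  have hZ : ∀ g ∈ Subgroup.centralizer (S : Set (Matrix.SpecialLinearGroup (Fin n) F)), ∃ c d : F,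
      (g : Matrix (Fin n) (Fin n) F) = Matrix.diagonal fun a => if p a then c else d := by
    intro g hg
    have key : ∀ a b, p a → p b → a ≠ b → (∀ r, r ≠ a → (g : Matrix (Fin n) (Fin n) F) r a = 0) ∧
        (∀ r, r ≠ b → (g : Matrix (Fin n) (Fin n) F) b r = 0) ∧
        (g : Matrix (Fin n) (Fin n) F) a a = (g : Matrix (Fin n) (Fin n) F) b b := by
      intro a b ha hb hab
      let u : (Matrix.SpecialLinearGroup (Fin n) F) := ⟨Matrix.transvection a b 1, Matrix.det_transvection_of_ne a b hab 1⟩
      have huS : u ∈ S := by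
        refine (hSmem u).mpr ⟨?_, fun c hc => ?_⟩
        · rw [hC, Subgroup.mem_centralizer_singleton_iff]
          apply Subtype.ext
          show Matrix.transvection a b 1 * t.1 = t.1 * Matrix.transvection a b 1
          rw [htd]
          ext r c
          simp only [Matrix.mul_diagonal, Matrix.diagonal_mul, Matrix.transvection, Matrix.add_apply]
          by_cases hrc : r = c
          · subst hrc; ring
          · by_cases h : r = a ∧ c = b
            · rw [h.1, h.2, if_pos ha, if_pos hb]; ring
            · have h0 : Matrix.single a b (1 : F) r c = 0 := by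
                rw [Matrix.single, Matrix.of_apply, if_neg (fun hh => h ⟨hh.1.symm, hh.2.symm⟩)]
              rw [Matrix.one_apply_ne hrc, h0]; ring
        · show Matrix.transvection a b (1 : F) c c = 1
          have hca : ¬ a = c := fun h => hc (h ▸ ha)
          simp [Matrix.transvection, Matrix.single, hca]
      have h : Matrix.transvection a b 1 * g.1 = g.1 * Matrix.transvection a b 1 :=
        congrArg (fun m : (Matrix.SpecialLinearGroup (Fin n) F) => (m : Matrix (Fin n) (Fin n) F))
          (Subgroup.mem_centralizer_iff.mp hg u huS)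
      simp only [Matrix.transvection, mul_add, add_mul, mul_one, one_mul, add_right_inj] at h
      refine ⟨fun r hr => ?_, fun r hr => ?_, ?_⟩
      · have := congrFun (congrFun h r) b
        simpa [Matrix.mul_apply, Matrix.single, hr.symm, eq_comm] using this
      · have := congrFun (congrFun h a) r
        simpa [Matrix.mul_apply, Matrix.single, hr.symm] using this
      · have := congrFun (congrFun h a) b
        simpa [Matrix.mul_apply, Matrix.single, eq_comm] using this
    have hoff : ∀ a b, a ≠ b → (g : Matrix (Fin n) (Fin n) F) a b = 0 := by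
      intro a b hab
      by_cases hb : p b
      · obtain ⟨c, hc, hbc⟩ := hpair b hb
        exact (key b c hb hc hbc).1 a hab
      · have ha : p a := by_contra fun ha => hab (hzu a b ha hb)
        obtain ⟨c, hc, hac⟩ := hpair a ha
        exact (key c a hc ha hac.symm).2.1 b hab.symm
    refine ⟨(g : Matrix (Fin n) (Fin n) F) ⟨0, by omega⟩ ⟨0, by omega⟩,
      (g : Matrix (Fin n) (Fin n) F) ⟨n - 1, by omega⟩ ⟨n - 1, by omega⟩, ?_⟩
    ext a b
    by_cases hab : a = b
    · subst hab
      rw [Matrix.diagonal_apply_eq]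
      by_cases ha : p a
      · rw [if_pos ha]
        by_cases h0 : a = ⟨0, by omega⟩
        · rw [← h0]
        · exact (key a _ ha hx0 h0).2.2
      · rw [if_neg ha, show a = ⟨n - 1, by omega⟩ from hzu _ _ ha (by simp [p]; omega)]
    · rw [Matrix.diagonal_apply_ne _ hab, hoff a b hab]
  have hZcomm : ∀ g ∈ Subgroup.centralizer (S : Set (Matrix.SpecialLinearGroup (Fin n) F)), ∀ h ∈ Subgroup.centralizer (S : Set (Matrix.SpecialLinearGroup (Fin n) F)),
      g * h = h * g := by
    intro g hg h hh
    obtain ⟨c, d, h1⟩ := hZ g hg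
    obtain ⟨c', d', h3⟩ := hZ h hh
    apply Subtype.ext
    show g.1 * h.1 = h.1 * g.1
    rw [h1, h3, Matrix.diagonal_mul_diagonal, Matrix.diagonal_mul_diagonal]
    exact congrArg Matrix.diagonal (funext fun a => mul_comm _ _)
  have hinv : ∀ g ∈ Subgroup.centralizer (S : Set (Matrix.SpecialLinearGroup (Fin n) F)), orderOf g = 2 → g = t := by
    intro g hg ho
    obtain ⟨c, d, h1⟩ := hZ g hg
    have hsq : g.1 * g.1 = 1 := by
      have h0 : g ^ 2 = 1 := orderOf_dvd_iff_pow_eq_one.mp ho.dvd
      rw [sq] at h0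
      exact congrArg (fun m : (Matrix.SpecialLinearGroup (Fin n) F) => (m : Matrix (Fin n) (Fin n) F)) h0
    rw [h1, Matrix.diagonal_mul_diagonal, ← Matrix.diagonal_one] at hsq
    have hd := congrFun (Matrix.diagonal_injective hsq)
    have hc1 : c * c = 1 := by simpa [if_pos hx0] using hd ⟨0, by omega⟩
    have hz : ¬ p ⟨n - 1, by omega⟩ := by simp [p]; omega
    have hd1 : d * d = 1 := by simpa [if_neg hz] using hd ⟨n - 1, by omega⟩
    have hdet : c ^ (n - 1) * d = 1 := by
      have h0 : g.1.det = 1 := g.2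
      rw [h1, Matrix.det_diagonal, ← Equiv.prod_comp e, Fintype.prod_sum_type] at h0
      have hu : ∀ a : {a // ¬ p a}, a = ⟨_, hz⟩ := fun a => Subtype.ext (hzu _ _ a.2 hz)
      have hcard1 : Fintype.card {a // ¬ p a} = 1 := Fintype.card_eq_one_iff.mpr ⟨_, hu⟩
      have e1 : (∏ a : {a // p a}, if p (e (Sum.inl a)) then c else d) = c ^ (n - 1) := by
        rw [Fintype.prod_congr _ (fun _ => c) (fun a => if_pos (by simpa [e] using a.2)),
          Finset.prod_const, Finset.card_univ, hcardp]
      have e2 : (∏ a : {a // ¬ p a}, if p (e (Sum.inr a)) then c else d) = d := by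
        rw [Fintype.prod_congr _ (fun _ => d) (fun a => if_neg (by simpa [e] using a.2)),
          Finset.prod_const, Finset.card_univ, hcard1, pow_one]
      rwa [e1, e2] at h0
    have hev : c ^ (n - 1) = 1 := by
      obtain ⟨k, hk⟩ := hodd
      rw [show n - 1 = 2 * k by omega, pow_mul, sq, hc1, one_pow]
    rw [hev, one_mul] at hdet
    have hcne : c ≠ 1 := by
      intro hc
      have : g = 1 := Subtype.ext (by
        rw [h1, hc, hdet]; simp)
      rw [this, orderOf_one] at ho; omega
    have hcneg : c = -1 := by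
      rcases mul_self_eq_one_iff.mp hc1 with h | h
      · exact absurd h hcne
      · exact h
    exact Subtype.ext (by rw [h1, htd, hcneg, hdet])
  have htS : t ∈ Subgroup.centralizer (S : Set (Matrix.SpecialLinearGroup (Fin n) F)) := by
    rw [Subgroup.mem_centralizer_iff]
    intro s hs
    exact Subgroup.mem_centralizer_singleton_iff.mp (hSC hs)
  have hto : orderOf t = 2 := by
    refine orderOf_eq_prime (Subtype.ext ?_) fun h => ?_
    · show ((t ^ 2 : (Matrix.SpecialLinearGroup (Fin n) F)) : Matrix (Fin n) (Fin n) F) = 1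
      rw [Matrix.SpecialLinearGroup.coe_pow, htd, sq, Matrix.diagonal_mul_diagonal,
        ← Matrix.diagonal_one]
      exact congrArg Matrix.diagonal (funext fun a => by split_ifs <;> simp)
    · have h0 := congrArg (fun m : (Matrix.SpecialLinearGroup (Fin n) F) => (m : Matrix (Fin n) (Fin n) F) ⟨0, by omega⟩ ⟨0, by omega⟩) h
      simp [htd, if_pos hx0] at h0
      exact hneg h0
  haveI : Nontrivial {a // p a} := Fintype.one_lt_card_iff_nontrivial.mp (by omega)
  have hcond : 3 ≤ Fintype.card {a // p a} ∨ ∃ a : F, a ≠ 0 ∧ a ^ 2 ≠ 1 := Or.inl (by omega)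
  have hqs0 : Cfsg.IsQuasisimple (Matrix.SpecialLinearGroup {a // p a} F) := by
    obtain ⟨a, b, hab⟩ := exists_pair_ne {a // p a}
    haveI : Nontrivial (Matrix.SpecialLinearGroup {a // p a} F) :=
      ⟨⟨Matrix.transvection a b 1, Matrix.det_transvection_of_ne a b hab 1⟩, 1, fun h => by
        have h0 := congrArg (fun m : Matrix.SpecialLinearGroup {a // p a} F =>
          (m : Matrix {a // p a} {a // p a} F) a b) h
        simp [Matrix.transvection, hab] at h0⟩
    exact CfsgLib.Components.isQuasisimple_of ⟨CfsgLib.Linear.commutator_SL_eq_top hcond⟩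
      inferInstance fun N hN => (CfsgLib.Linear.SL_normal_le_center_or_eq_top hcond N).symm
  have hqS : Cfsg.IsQuasisimple ↥S :=
    (CfsgLib.Components.quasisimple_congr (MonoidHom.ofInjective hφinj)).mp hqs0
  have hnab : ¬ ∀ a ∈ S, ∀ b ∈ S, a * b = b * a := fun h =>
    CfsgLib.Components.quasisimple_not_isMulCommutative hqS
      ⟨⟨fun a b => Subtype.ext (h a a.2 b b.2)⟩⟩
  have hcompS : Cfsg.IsComponent (S.subgroupOf C) :=
    ⟨Subgroup.Normal.isSubnormal ((Subgroup.normal_subgroupOf_iff_le_normalizer hSC).mpr hCS),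
      (CfsgLib.Components.quasisimple_congr (Subgroup.subgroupOfEquivOfLe hSC)).mpr hqS⟩
  have hlay : (Cfsg.layer ↥C).map C.subtype = S := by
    have h0 : Cfsg.layer ↥C = S.subgroupOf C := by
      refine le_antisymm (sSup_le fun K hK => ?_) (CfsgLib.Components.component_le_layer hcompS)
      rcases CfsgLib.Components.component_eq_or_commutator hK hcompS with h | h
      · exact h.le
      · exfalso
        have hle := CfsgLib.Components.le_centralizer_of_commutator_eq_bot h
        refine CfsgLib.Components.quasisimple_not_isMulCommutative hK.2 ⟨⟨fun a b => ?_⟩⟩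
        refine Subtype.ext (Subtype.ext ?_)
        have hmem : ∀ x : ↥K, ((x : ↥C) : (Matrix.SpecialLinearGroup (Fin n) F)) ∈ Subgroup.centralizer (S : Set (Matrix.SpecialLinearGroup (Fin n) F)) := fun x => by
          rw [Subgroup.mem_centralizer_iff]
          intro s hs
          exact congrArg (fun z : ↥C => (z : (Matrix.SpecialLinearGroup (Fin n) F)))
            (Subgroup.mem_centralizer_iff.mp (hle x.2) ⟨s, hSC hs⟩ hs)
        exact hZcomm _ (hmem a) _ (hmem b)
    rw [h0, Subgroup.map_subgroupOf_eq_of_le hSC]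
  rw [hlay]
  have hNS : Subgroup.normalizer (S : Set (Matrix.SpecialLinearGroup (Fin n) F)) ≤
      Subgroup.normalizer (Subgroup.centralizer (S : Set (Matrix.SpecialLinearGroup (Fin n) F)) : Set (Matrix.SpecialLinearGroup (Fin n) F)) := by
    intro g hg
    refine Subgroup.mem_normalizer_fintype fun c hc => ?_
    rw [SetLike.mem_coe, Subgroup.mem_centralizer_iff] at hc ⊢
    intro l hl
    have hl' : g⁻¹ * l * g ∈ S := by
      have := (Subgroup.mem_normalizer_iff.mp (inv_mem hg) l).mp hl
      rwa [inv_inv] at this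
    calc l * (g * c * g⁻¹) = g * ((g⁻¹ * l * g) * c) * g⁻¹ := by group
      _ = g * (c * (g⁻¹ * l * g)) * g⁻¹ := by rw [hc _ hl']
      _ = g * c * g⁻¹ * l := by group
  refine ⟨hqS, ⟨?_, fun g hg => ?_⟩, fun g hg hcomm => ?_, le_antisymm hNS fun g hg => ?_⟩
  · rw [even_iff_two_dvd, ← hto, ← Nat.card_zpowers]
    exact Subgroup.card_dvd_of_le ((Subgroup.zpowers_le).mpr htS)
  · rw [← Nat.not_even_iff_odd, even_iff_two_dvd]
    intro hdvd
    haveI : Fact (Nat.Prime 2) := ⟨Nat.prime_two⟩
    obtain ⟨⟨w, hw1, hw2⟩, hwo⟩ := exists_prime_orderOf_dvd_card' 2 hdvd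
    rw [← Subgroup.orderOf_coe] at hwo
    obtain ⟨v, hv, hvw⟩ := hw2
    have hvo : orderOf v = 2 := by
      rw [← hwo, ← orderOf_injective (MulAut.conj g).toMonoidHom (MulAut.conj g).injective v]
      exact congrArg orderOf hvw
    have hgt : g * t * g⁻¹ = t := by
      have e1 : (MulAut.conj g).toMonoidHom v = w := hvw
      rw [hinv v hv hvo, hinv w hw1 hwo] at e1
      exact e1
    exact hg (hNS (hCS (Subgroup.mem_centralizer_singleton_iff.mpr (mul_inv_eq_iff_eq_mul.mp hgt))))
  · rw [Subgroup.commutator_eq_bot_iff_le_centralizer] at hcomm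
    refine hnab fun a ha b hb => ?_
    have hle : ∀ x ∈ S, g * x * g⁻¹ ∈ Subgroup.centralizer (S : Set (Matrix.SpecialLinearGroup (Fin n) F)) := by
      intro x hx
      rw [Subgroup.mem_centralizer_iff]
      intro s hs
      exact ((Subgroup.mem_centralizer_iff.mp (hcomm hs)) _ ⟨x, hx, rfl⟩).symm
    have h0 := hZcomm _ (hle a ha) _ (hle b hb)
    rwa [show g * a * g⁻¹ * (g * b * g⁻¹) = g * (a * b) * g⁻¹ by group,
      show g * b * g⁻¹ * (g * a * g⁻¹) = g * (b * a) * g⁻¹ by group,
      mul_left_inj, mul_right_inj] at h0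
  · have htg : g * t * g⁻¹ ∈ Subgroup.centralizer (S : Set (Matrix.SpecialLinearGroup (Fin n) F)) :=
      (Subgroup.mem_normalizer_iff.mp hg t).mp htS
    have hgt := hinv _ htg (by rw [← MulAut.conj_apply, MulEquiv.orderOf_eq, hto])
    exact hCS (Subgroup.mem_centralizer_singleton_iff.mpr (mul_inv_eq_iff_eq_mul.mp hgt))

end Cfsg.Agent.S1348
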