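import Cfsg.Statements.S1358
import Cfsg.Agent.S1417
import Cfsg.Agent.Lib.OddOrder.KappaBasic

set_option autoImplicit false
open Cfsg

namespace Cfsg.Agent.S1358

theorem result {G : Type*} [Group G] [Finite G] (hG : Cfsg.IsMinSimpleOddOrder G)
    (M : Subgroup G) (hM : IsCoatom M) (K U : Subgroup G) (hKU : Cfsg.IsSigmaDecomposition M K U) :
    ∀ (p : ℕ), p.Prime → ∀ P : Sylow p U, IsMulCommutative (P : Subgroup U) ∧ Cfsg.PRankLE p 2 (P : Subgroup U) := by
  intro p hp P
  haveI := Fact.mk hp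
  have hUM : U ≤ M := (CfsgLib.OddOrder.decomposition_le hKU).2
  by_cases hd : p ∣ Nat.card U
  · have hps := (CfsgLib.OddOrder.decomposition_U_primes hG hM hKU hp hd).1
    have hle : (P : Subgroup U).map U.subtype ≤ M := (Subgroup.map_subtype_le _).trans hUM
    haveI := CfsgLib.OddOrder.isMulCommutative_sigma'_pgroup hG hM (p := p) (fun ht S => by
      obtain ⟨A, hAM, hAe, hA⟩ := CfsgLib.OddOrder.exists_elementary_of_not_pRankLE ht.2.2.2
      rw [pow_one] at hA
      obtain ⟨A₀, hA₀, hA₀e, hA₀c⟩ := CfsgLib.OddOrder.exists_elementary_sq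
        (CfsgLib.OddOrder.prime_ne_two_of_dvd_card hG (hd.trans (Subgroup.card_dvd_of_le hUM)))
        (CfsgLib.OddOrder.isPGroup_of_exp hAe.2)
        (CfsgLib.OddOrder.elementary_not_isCyclic hAe hA)
      exact ((Cfsg.Agent.S1417.result hG M hM p ht A₀ ⟨hA₀.trans hAM, hA₀e, hA₀c⟩).2.1 S).1)
      hps (P.2.map U.subtype) hle
    constructor
    · refine ⟨⟨fun a b => Subtype.ext (Subtype.ext ?_)⟩⟩
      exact setLike_mul_comm (s := (P : Subgroup U).map U.subtype)
        (Subgroup.mem_map_of_mem _ a.2) (Subgroup.mem_map_of_mem _ b.2)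
    · exact CfsgLib.TwoFusion.PRank.pRankLE_of_injective
        ((Subgroup.inclusion hUM).comp (P : Subgroup U).subtype)
        ((Subgroup.inclusion_injective hUM).comp Subtype.val_injective)
        (CfsgLib.OddOrder.pRankLE_two_of_not_sigma hG hM hp hps)
  · have hP : (P : Subgroup U) = ⊥ := by
      obtain ⟨k, hk⟩ := P.2.exists_card_eq
      rcases k with _ | k
      · exact Subgroup.card_eq_one.1 (hk.trans (pow_zero p))
      · exact absurd ((hk ▸ dvd_pow_self p k.succ_ne_zero).trans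
          (Subgroup.card_subgroup_dvd_card _)) hd
    have hsub : ∀ x : (P : Subgroup U), x = 1 := fun x =>
      Subtype.ext (Subgroup.mem_bot.1 (hP.le x.2))
    refine ⟨⟨⟨fun a b => by rw [hsub a, hsub b]⟩⟩, fun A _ _ => ?_⟩
    haveI : Subsingleton (P : Subgroup U) := ⟨fun a b => by rw [hsub a, hsub b]⟩
    rw [Nat.card_of_subsingleton (1 : A)]
    exact Nat.one_le_pow _ _ hp.pos

end Cfsg.Agent.S1358
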