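import Cfsg.Statements.S1380
import Cfsg.Agent.Lib.OddOrder.TypeOneFrobenius
import Cfsg.Agent.Lib.FT.Supported

set_option autoImplicit false
open Cfsg

namespace Cfsg.Agent.S1380

/-- Let G be a minimal simple group of odd order and M a maximal subgroup with standard factorisation M = K U M_σ. Then M is of Type I if and only if K = 1 and U ≠ 1. -/
theorem result {G : Type*} [Group G] [Finite G] (hG : Cfsg.IsMinSimpleOddOrder G)
    (M : Subgroup G) (hM : IsCoatom M) (K U : Subgroup G) (hKU : Cfsg.IsSigmaDecomposition M K U) :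
    Cfsg.IsOfTypeI M ↔ (K = ⊥ ∧ U ≠ ⊥) := by
  refine CfsgLib.OddOrder.isOfTypeI_iff_of_frob hG hM hKU fun hK _ =>
    CfsgLib.FT.isFrob_of_isFType hG ⟨hM, Set.eq_empty_iff_forall_notMem.2 fun p hp => ?_⟩
  exact hKU.hall.2.2 p hp.1 hp (by rw [hK, Subgroup.relIndex_bot_left]; exact hp.2.1)

end Cfsg.Agent.S1380
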