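import Cfsg.Statements.S1385
import Cfsg.Agent.S1351
import Cfsg.Agent.S1366
import Cfsg.Agent.S1368
import Cfsg.Agent.S1369
import Cfsg.Agent.S1370
import Cfsg.Agent.S1380
import Cfsg.Agent.S1381
import Cfsg.Agent.S1382
import Cfsg.Agent.S1383
import Cfsg.Agent.S1352
import Cfsg.Agent.S1353
import Cfsg.Agent.S1354
import Cfsg.Agent.S1365
import Cfsg.Agent.Lib.OddOrder.KappaDerived
import Cfsg.Agent.Lib.OddOrder.FHall

set_option autoImplicit false
set_option linter.style.haveILetI false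
open Cfsg Subgroup CfsgLib CfsgLib.OddOrder

namespace Cfsg.Agent.S1385

/-- Let G be a minimal simple group of odd order. Then either every maximal subgroup of G is of Type I, or there are nontrivial subgroups W₁, W₂ generating a cyclic group W that is the normalizer of every nonempty subset of W outside W₁ ∪ W₂, and maximal subgroups S, T with W₁ a complement to S' in S, W₂ a complement to T' in T, S ∩ T = W, S or T of Type II, each of S, T of Type II, III, IV or V, and every maximal subgroup of G of Type I or conjugate to S or to T. -/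
theorem result {G : Type*} [Group G] [Finite G] (hG : Cfsg.IsMinSimpleOddOrder G) :
    (∀ M : Subgroup G, IsCoatom M → Cfsg.IsOfTypeI M) ∨
      ∃ W₁ W₂ S T : Subgroup G, Cfsg.IsSelfNormalizingCyclic W₁ W₂ ∧ IsCoatom S ∧ IsCoatom T ∧
        Cfsg.IsComplIn ⁅S, S⁆ W₁ S ∧ Cfsg.IsComplIn ⁅T, T⁆ W₂ T ∧ S ⊓ T = W₁ ⊔ W₂ ∧
        (Cfsg.IsOfTypeII S ∨ Cfsg.IsOfTypeII T) ∧
        (Cfsg.IsOfTypeII S ∨ Cfsg.IsOfTypeIII S ∨ Cfsg.IsOfTypeIV S ∨ Cfsg.IsOfTypeV S) ∧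
        (Cfsg.IsOfTypeII T ∨ Cfsg.IsOfTypeIII T ∨ Cfsg.IsOfTypeIV T ∨ Cfsg.IsOfTypeV T) ∧
        ∀ M : Subgroup G, IsCoatom M → Cfsg.IsOfTypeI M ∨ ∃ g : G, M = S.map (MulAut.conj g).toMonoidHom ∨ M = T.map (MulAut.conj g).toMonoidHom := by
  classical
  have hdec : ∀ M : Subgroup G, IsCoatom M →
      ∃ K U : Subgroup G, Cfsg.IsSigmaDecomposition M K U := fun M hM => by
    obtain ⟨⟨K, hK⟩, hc⟩ := Cfsg.Agent.S1351.result hG M hM
    exact ⟨K, (Cfsg.Agent.S1352.result hG M hM K (hc K hK) hK).1⟩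
  -- maximal subgroups with `κ = ∅` are of Type I
  have hI : ∀ M : Subgroup G, IsCoatom M → ∀ K U : Subgroup G, Cfsg.IsSigmaDecomposition M K U →
      K = ⊥ → Cfsg.IsOfTypeI M := by
    intro M hM K U hKU hK
    refine (Cfsg.Agent.S1380.result hG M hM K U hKU).2 ⟨hK, fun hU => ?_⟩
    refine (commutator_lt hG hM).not_ge fun m hm => ?_
    obtain ⟨u, hu, b, hb, rfl⟩ := hKU.compl.2.2.2 m hm
    rw [hU, mem_bot] at hu
    rw [hK, bot_sup_eq] at hb
    rw [hu, one_mul]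
    exact sigmaCore_le_commutator hG hM hb
  -- the remaining types
  have hP : ∀ M : Subgroup G, IsCoatom M → ∀ K U : Subgroup G, Cfsg.IsSigmaDecomposition M K U →
      K ≠ ⊥ → (Cfsg.IsOfTypeII M ∨ Cfsg.IsOfTypeIII M ∨ Cfsg.IsOfTypeIV M ∨ Cfsg.IsOfTypeV M) ∧
        (U ≠ ⊥ → Cfsg.IsOfTypeII M) ∧ Cfsg.IsComplIn ⁅M, M⁆ K M := by
    intro M hM K U hKU hK
    obtain ⟨hKM, hUM⟩ := decomposition_le hKU
    refine ⟨?_, fun hU => (Cfsg.Agent.S1381.result hG M hM K U hKU).2 ⟨hK, hU⟩, ?_⟩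
    · by_cases hU : U = ⊥
      · by_cases hF : Cfsg.fittingHallOf M = Cfsg.sigmaCore M
        · exact Or.inr (Or.inr (Or.inr ((Cfsg.Agent.S1383.result hG M hM K U hKU).2 ⟨hK, hU, hF⟩)))
        · rcases (Cfsg.Agent.S1382.result hG M hM K U hKU).2 ⟨hK, hU, hF⟩ with h | h
          · exact Or.inr (Or.inl h)
          · exact Or.inr (Or.inr (Or.inl h))
      · exact Or.inl ((Cfsg.Agent.S1381.result hG M hM K U hKU).2 ⟨hK, hU⟩)
    · obtain ⟨hd, -⟩ := Cfsg.Agent.S1365.result hG M hM K U hKU hK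
      have hn : U ≤ normalizer ((Cfsg.sigmaCore M : Subgroup G) : Set G) :=
        hUM.trans (le_normalizer_piCoreOf (Cfsg.sigma M) M)
      rw [hd]
      refine ⟨sup_le hUM (piCoreOf_le _ _), hKM, disjoint_iff.1
        (disjoint_of_coprime_natCard (decomposition_coprime hG hM hKU).symm), fun m hm => ?_⟩
      obtain ⟨u, hu, b, hb, rfl⟩ := hKU.compl.2.2.2 m hm
      rw [sup_comm K] at hb
      obtain ⟨s, hs, k, hk, rfl⟩ := (Solvable.mem_sup_of_le_normalizer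
        (hKM.trans (le_normalizer_piCoreOf (Cfsg.sigma M) M) :
          K ≤ normalizer ((Cfsg.sigmaCore M : Subgroup G) : Set G))).1 hb
      exact ⟨u * s, mul_mem (mem_sup_left hu) (mem_sup_right hs), k, hk, (mul_assoc _ _ _).symm⟩
  by_cases hall : ∀ M : Subgroup G, IsCoatom M → Cfsg.kappa M = ∅
  · refine Or.inl fun M hM => ?_
    obtain ⟨K, U, hKU⟩ := hdec M hM
    refine hI M hM K U hKU (card_eq_one.1 (Nat.eq_one_iff_not_exists_prime_dvd.2 fun p hp hd => ?_))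
    have := hKU.hall.2.1 p hp hd
    rw [hall M hM] at this
    exact this
  push Not at hall
  obtain ⟨M, hM, ⟨p, hpκ⟩⟩ := hall
  obtain ⟨K, U, hKU⟩ := hdec M hM
  have hK1 : K ≠ ⊥ := fun h => hKU.hall.2.2 p hpκ.1 hpκ (by rw [h, relIndex_bot_left]; exact hpκ.2.1)
  obtain ⟨Ms, ⟨hMs, hKeq, hKsH⟩, -⟩ := Cfsg.Agent.S1366.result hG M hM K U hKU hK1
  set Ks := Cfsg.sigmaCore M ⊓ centralizer (K : Set G) with hKs
  obtain ⟨hZ, hZc⟩ := Cfsg.Agent.S1368.result hG M hM K U hKU hK1 Ms hMs hKeq hKsH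
  obtain ⟨hTI, hNZ⟩ := Cfsg.Agent.S1370.result hG M hM K U hKU hK1
  obtain ⟨hU2, hconj⟩ := Cfsg.Agent.S1369.result hG M hM K U hKU hK1 Ms hMs hKeq hKsH
  have hKs1 : Ks ≠ ⊥ := (Cfsg.Agent.S1354.result hG M hM K hKU.cyclic hKU.hall).1
  have hKsc : IsCyclic Ks := by
    haveI := hZc
    exact isCyclic_of_le (le_sup_right : Ks ≤ K ⊔ Ks)
  obtain ⟨U', hKU'⟩ := (Cfsg.Agent.S1352.result hG Ms hMs Ks hKsc hKsH).1
  obtain ⟨hS, hS2, hSc⟩ := hP M hM K U hKU hK1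
  obtain ⟨hT, hT2, hTc⟩ := hP Ms hMs Ks U' hKU' hKs1
  refine Or.inr ⟨K, Ks, M, Ms, ⟨hK1, hKs1, ?_, fun a ha b hb => ?_, hZc, fun X hX hXne => ?_⟩,
    hM, hMs, hSc, hTc, hZ, ?_, hS, hT, fun H hH => ?_⟩
  · rw [← le_bot_iff, ← decomposition_K_inf_sigmaCore hKU]
    exact inf_le_inf_left _ inf_le_left
  · exact mem_centralizer_iff.1 hb.2 a ha
  · refine le_antisymm (fun g hg => ?_) fun z hz => ?_
    · obtain ⟨x, hx⟩ := hXne
      refine hNZ.le ?_
      by_contra h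
      have h1 := hTI g h x (hX hx) (hX ((hg x).1 hx))
      exact (hX hx).2 (Or.inl (h1 ▸ one_mem K))
    · intro n
      letI : CommGroup ↥(K ⊔ Ks) := by haveI := hZc; exact IsCyclic.commGroup
      have hfix : ∀ n ∈ X, z * n * z⁻¹ = n := fun n hn => by
        rw [show z * n = n * z from congrArg Subtype.val
          (mul_comm (⟨z, hz⟩ : ↥(K ⊔ Ks)) ⟨n, (hX hn).1⟩), mul_inv_cancel_right]
      refine ⟨fun hn => (hfix n hn).symm ▸ hn, fun hn => ?_⟩
      have h : z * (z * n * z⁻¹) * z⁻¹ = z * n * z⁻¹ := hfix _ hn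
      have e : z * n * z⁻¹ = n := mul_left_cancel (mul_right_cancel h)
      exact e ▸ hn
  · rcases hU2 with h | h
    · exact Or.inl (hS2 h)
    · exact Or.inr (hT2 (h U' hKU'))
  · by_cases hH' : (Cfsg.kappa H).Nonempty
    · obtain ⟨g, hg⟩ := hconj H hH hH'
      exact Or.inr ⟨g, hg⟩
    · obtain ⟨K₁, U₁, hKU₁⟩ := hdec H hH
      refine Or.inl (hI H hH K₁ U₁ hKU₁
        (card_eq_one.1 (Nat.eq_one_iff_not_exists_prime_dvd.2 fun q hq hd => ?_)))
      exact hH' ⟨q, hKU₁.hall.2.1 q hq hd⟩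


end Cfsg.Agent.S1385
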