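import Cfsg.Statements.S1386
import Mathlib.GroupTheory.SpecificGroups.Cyclic
import Mathlib.Algebra.Group.Subgroup.Finite
import Mathlib.GroupTheory.OrderOfElement
-- import your own Cfsg.Agent.* helpers here

set_option autoImplicit false
open Cfsg

namespace Cfsg.Agent.S1386

/-- In a finite cyclic subgroup, the elements killed by the order of a subgroup lie in it. -/
theorem mem_of_pow_card_eq_one {G : Type*} [Group G] [Finite G] {W A : Subgroup G} (hW : IsCyclic W)
    (hA : A ≤ W) {y : G} (hy : y ∈ W) (h : y ^ Nat.card A = 1) : y ∈ A := by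
  classical
  haveI := hW
  haveI : Fintype W := Fintype.ofFinite _
  have hle := IsCyclic.card_pow_eq_one_le (α := W) (Nat.card_pos : 0 < Nat.card A)
  set T := (Finset.univ.filter fun a : W => a ^ Nat.card A = 1) with hT
  set B := (Finset.univ.filter fun a : W => (a : G) ∈ A) with hB
  have hsub : B ⊆ T := by
    intro a ha
    simp only [hB, hT, Finset.mem_filter, Finset.mem_univ, true_and] at ha ⊢
    apply Subtype.ext
    show ((a ^ Nat.card A : W) : G) = 1
    rw [SubmonoidClass.coe_pow]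
    exact congrArg (fun z : A => (z : G)) (pow_card_eq_one' (x := (⟨(a : G), ha⟩ : A)))
  have hcard : B.card = Nat.card A := by
    rw [hB, ← Fintype.card_subtype, ← Nat.card_eq_fintype_card]
    exact Nat.card_congr ⟨fun a => ⟨a.1.1, a.2⟩, fun a => ⟨⟨a.1, hA a.2⟩, a.2⟩,
      fun _ => rfl, fun _ => rfl⟩
  have := Finset.eq_of_subset_of_card_le hsub (by omega)
  have hm : (⟨y, hy⟩ : W) ∈ T := by
    simp only [hT, Finset.mem_filter, Finset.mem_univ, true_and]
    exact Subtype.ext (by simpa using h)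
  rw [← this] at hm
  simpa [hB] using hm

/-- Comparing two disjoint factors inside a cyclic group. -/
theorem le_of_disjoint_factor {G : Type*} [Group G] [Finite G] {W₁ A B : Subgroup G}
    (hW : IsCyclic ↥(W₁ ⊔ B)) (hd : W₁ ⊓ A = ⊥) (hAW : A ≤ W₁ ⊔ B)
    (hc : ∀ a ∈ W₁, ∀ b ∈ B, a * b = b * a) : A ≤ B := by
  intro a ha
  have hnorm : W₁ ≤ Subgroup.normalizer (B : Set G) := by
    rw [Subgroup.le_normalizer_iff]
    intro w hw b hb
    rw [hc w hw b hb]; simpa using hb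
  have hm := hAW ha
  rw [← SetLike.mem_coe, Subgroup.coe_mul_of_left_le_normalizer_right W₁ B hnorm] at hm
  obtain ⟨w, hw, b, hb, rfl⟩ := Set.mem_mul.1 hm
  apply mem_of_pow_card_eq_one hW le_sup_right (hAW ha)
  have hb1 : b ^ Nat.card B = 1 := by
    exact congrArg (fun z : B => (z : G)) (pow_card_eq_one' (x := (⟨b, hb⟩ : B)))
  have hp : (w * b) ^ Nat.card B = w ^ Nat.card B := by
    rw [(show Commute w b from hc w hw b hb).mul_pow, hb1, mul_one]
  have : w ^ Nat.card B ∈ W₁ ⊓ A := ⟨pow_mem hw _, hp ▸ pow_mem ha _⟩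
  rw [hd, Subgroup.mem_bot] at this
  rw [hp, this]


/-- Let G be a finite group, W₁, W₂ subgroups forming a self-normalizing cyclic pair, S a subgroup with W₂ ≤ S and W₁ a complement to S' in S, and (W₁, U, W₂') type-P data for S. Then W₂' = W₂ (that is, C_{S'}(W₁) = W₂). -/
theorem result {G : Type*} [Group G] [Finite G] (W₁ W₂ S U W₂' : Subgroup G) (hW : Cfsg.IsSelfNormalizingCyclic W₁ W₂)
    (hSW : Cfsg.IsComplIn ⁅S, S⁆ W₁ S) (hW₂S : W₂ ≤ S) (hP : Cfsg.IsTypePWith S W₁ U W₂') :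
    W₂' = W₂ := by
  obtain ⟨h1, h2, hd, hc, hcy, hN⟩ := hW
  obtain ⟨h1', h2', hd', hc', hcy', hN'⟩ := hP.selfNormalizing
  obtain ⟨x, hx, hx1⟩ := W₁.bot_or_exists_ne_one.resolve_left h1
  haveI := hP.W₁_cyclic
  letI := IsCyclic.commGroup (α := W₁)
  have hle : W₂ ≤ W₁ ⊔ W₂' := by
    intro w hw
    obtain ⟨a, ha, b, hb, rfl⟩ := hSW.2.2.2 w (hW₂S hw)
    have hxb : b * x = x * b := congrArg Subtype.val (mul_comm (⟨b, hb⟩ : W₁) ⟨x, hx⟩)
    have h := hc x hx (a * b) hw
    have ha' : a ∈ W₂' := by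
      rw [← hP.W₂_centralizer x hx hx1]
      refine ⟨ha, Subgroup.mem_centralizer_singleton_iff.2 ?_⟩
      have h' : (a * x) * b = (x * a) * b := by
        rw [mul_assoc, ← hxb, ← mul_assoc, ← h, mul_assoc]
      exact mul_right_cancel h'
    exact mul_mem (Subgroup.mem_sup_right ha') (Subgroup.mem_sup_left hb)
  have hsub : W₁ ⊔ W₂ ≤ W₁ ⊔ W₂' := sup_le le_sup_left hle
  have heq : W₁ ⊔ W₂ = W₁ ⊔ W₂' := by
    refine le_antisymm hsub ?_
    obtain ⟨y, hy, hy1⟩ := W₂.bot_or_exists_ne_one.resolve_left h2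
    have hz : x * y ∈ (↑(W₁ ⊔ W₂) : Set G) \ (↑W₁ ∪ ↑W₂) := by
      refine ⟨mul_mem (Subgroup.mem_sup_left hx) (Subgroup.mem_sup_right hy), ?_⟩
      rintro (h | h)
      · have : y ∈ W₁ ⊓ W₂ := ⟨(W₁.mul_mem_cancel_left hx).1 h, hy⟩
        rw [hd] at this
        exact hy1 this
      · have : x ∈ W₁ ⊓ W₂ := ⟨hx, (W₂.mul_mem_cancel_right hy).1 h⟩
        rw [hd] at this
        exact hx1 this
    rw [← hN {x * y} (Set.singleton_subset_iff.2 hz) (Set.singleton_nonempty _)]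
    intro g hg
    haveI := hcy'
    letI := IsCyclic.commGroup (α := ↥(W₁ ⊔ W₂'))
    have hcomm : g * (x * y) = (x * y) * g :=
      congrArg Subtype.val (mul_comm (⟨g, hg⟩ : ↥(W₁ ⊔ W₂')) ⟨x * y, hsub hz.1⟩)
    rw [Subgroup.mem_normalizer_iff_conj_image_eq]
    simp [hcomm]
  exact le_antisymm (le_of_disjoint_factor hcy hd' (heq ▸ le_sup_right) hc)
    (le_of_disjoint_factor hcy' hd hle hc')

end Cfsg.Agent.S1386
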