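import Cfsg.Statements.S1390
import Cfsg.Agent.S1420
import Cfsg.Agent.Lib.OddOrder.Section16TypeCore
import Cfsg.Agent.Lib.OddOrder.Section16Cases
import Cfsg.Agent.Lib.OddOrder.DecompositionFixed
import Cfsg.Agent.Lib.OddOrder.Section15Centralizer

set_option autoImplicit false
open Cfsg

open Subgroup CfsgLib CfsgLib.OddOrder
open scoped Pointwise

namespace Cfsg.Agent.S1390

section

variable {G : Type*} [Group G] [Finite G] (hG : Cfsg.IsMinSimpleOddOrder G) {M U : Subgroup G}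
  (hM : IsCoatom M)
include hG hM

/-- The data behind types I and II. -/
theorem exists_data
    (hU : (Cfsg.IsOfTypeI M ∧ Cfsg.IsComplIn (Cfsg.fittingHallOf M) U M) ∨
      (Cfsg.IsOfTypeII M ∧ Cfsg.IsComplIn (Cfsg.fittingHallOf M) U ⁅M, M⁆)) :
    ∃ (N K₀ U₀ : Subgroup G), Cfsg.IsSigmaDecomposition M K₀ U₀ ∧ N ≤ M ∧
      M ≤ normalizer (N : Set G) ∧ U ≤ N ∧ Cfsg.sigmaCore M ≤ N ∧
      Cfsg.fittingHallOf M = Cfsg.sigmaCore M ∧ Nat.card U = Nat.card U₀ ∧
      Nat.card N = Nat.card (Cfsg.sigmaCore M) * Nat.card U ∧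
      Cfsg.typeA M = {a | a ∈ N ∧ a ≠ 1 ∧ ∃ x ∈ Cfsg.sigmaCore M, x ≠ 1 ∧ a * x = x * a} := by
  classical
  obtain ⟨K₀, U₀, hKU⟩ := exists_sigmaDecomposition hG hM
  have hSM : Cfsg.sigmaCore M ≤ M := piCoreOf_le _ _
  have hcard : ∀ {A B X : Subgroup G}, Cfsg.IsComplIn A B X →
      Nat.card X = Nat.card A * Nat.card B := fun {A B X} h => by
    rw [← (A.subgroupOf X).card_mul_index, Nat.card_congr (subgroupOfEquivOfLe h.1).toEquiv,
      card_eq_relIndex_of_isComplIn (isComplIn_swap h)]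
    rfl
  rcases hU with ⟨hI, hc⟩ | ⟨hII, hc⟩
  · have hK : K₀ = ⊥ ∧ U₀ ≠ ⊥ := by
      rcases type_cases hG hM hKU with h | h | h | h
      · exact h
      · exact (TypeP.not_one_and_two hI (isOfTypeII_of_U_ne hG hM hKU h.1 h.2)).elim
      · exact (TypeP.not_one_and_three_four hI
          (isOfTypeIII_or_IV_of_ne hG hM hKU h.1 h.2.2)).elim
      · exact (TypeP.not_one_and_five hI (isOfTypeV_of_eq hG hM hKU h.1 h.2.1 h.2.2)).elim
    have hHS := fittingHallOf_eq_of_U_ne hG hM hKU hK.2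
    rw [hHS] at hc
    have hd : Cfsg.IsComplIn U₀ (Cfsg.sigmaCore M) M := by
      have := hKU.compl
      rwa [hK.1, bot_sup_eq] at this
    refine ⟨M, K₀, U₀, hKU, le_rfl, le_normalizer, hc.2.1, hSM, hHS, ?_, hcard hc, ?_⟩
    · rw [card_eq_relIndex_of_isComplIn (isComplIn_swap hc), card_eq_relIndex_of_isComplIn hd]
    · rw [Cfsg.typeA, if_pos hI, hHS]
  · obtain ⟨hK, hU0⟩ := (isOfTypeII_iff hG hM hKU).1 hII
    have hHS := fittingHallOf_eq_of_U_ne hG hM hKU hU0
    rw [hHS] at hc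
    obtain ⟨hder, -⟩ := Cfsg.Agent.S1365.result hG M hM K₀ U₀ hKU hK
    have hUn : U₀ ≤ normalizer (Cfsg.sigmaCore M : Set G) :=
      hKU.compl.1.trans (le_normalizer_piCoreOf _ _)
    have hd : Cfsg.IsComplIn U₀ (Cfsg.sigmaCore M) ⁅M, M⁆ := by
      refine ⟨hder ▸ le_sup_left, hder ▸ le_sup_right, decomposition_U_inf_sigmaCore hKU,
        fun m hm => ?_⟩
      rw [hder, sup_comm] at hm
      obtain ⟨s, hs, u, hu, rfl⟩ := (Solvable.mem_sup_of_le_normalizer hUn).1 hm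
      exact ⟨u, hu, u⁻¹ * s * u, (mem_normalizer_iff''.1 (hUn hu) s).1 hs, by group⟩
    refine ⟨⁅M, M⁆, K₀, U₀, hKU, commutator_le_self M,
      Solvable.le_normalizer_commutator_left M M, hc.2.1, hc.1, hHS, ?_, hcard hc, ?_⟩
    · rw [card_eq_relIndex_of_isComplIn (isComplIn_swap hc), card_eq_relIndex_of_isComplIn hd]
    · rw [Cfsg.typeA, if_neg fun h => TypeP.not_one_and_two h hII,
        typeCore_eq_sigmaCore hG hM]

omit [Finite G] in
/-- The uniqueness property passes to conjugates inside `M`. -/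
theorem unique_of_conj {m : G} (hm : m ∈ M) {S : Set G} {Y : Subgroup G}
    (hY : ∀ c, c ∈ centralizer S → m * c * m⁻¹ ∈ centralizer (Y : Set G))
    (hY' : ∀ c, c ∈ centralizer (Y : Set G) → m⁻¹ * c * m ∈ centralizer S)
    (h : centralizer (Y : Set G) ≤ M ∧
      ∀ L : Subgroup G, IsCoatom L → centralizer (Y : Set G) ≤ L → L = M) :
    centralizer S ≤ M ∧ ∀ L : Subgroup G, IsCoatom L → centralizer S ≤ L → L = M := by
  refine ⟨fun c hc => ?_, fun L hL hCL => ?_⟩
  · have := mul_mem (mul_mem (inv_mem hm) (h.1 (hY c hc))) hm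
    simpa [mul_assoc] using this
  · have h1 := h.2 _ (isCoatom_conj hL m) fun c hc => ⟨m⁻¹ * c * m, hCL (hY' c hc), by
      simp [mul_assoc]⟩
    have hm' := le_normalizer (H := M) (inv_mem hm)
    rw [mem_normalizer_iff_map_conj_eq] at hm'
    have h2 := congrArg (Subgroup.map (MulAut.conj m⁻¹).toMonoidHom) h1
    rw [map_conj_map_conj, inv_mul_cancel, map_conj_one] at h2
    rw [h2]
    exact hm'

end

/-- Let G be a minimal simple group of odd order, M a maximal subgroup and H = M_F; suppose M is of Type I and U is a complement to H in M, or M is of Type II and U is a complement to H in M'. Then every Sylow subgroup of U is abelian with no elementary abelian subgroup of order p ^ 3; for every nonempty set X of non-identity elements of U centralizing a non-identity element of H, C_G(X) ≤ M and M is the unique maximal subgroup containing C_G(X); and A(M) with A₁(M) removed is a TI-subset of G. -/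
theorem result {G : Type*} [Group G] [Finite G] (hG : Cfsg.IsMinSimpleOddOrder G)
    (M : Subgroup G) (hM : IsCoatom M) (U : Subgroup G)
    (hU : (Cfsg.IsOfTypeI M ∧ Cfsg.IsComplIn (Cfsg.fittingHallOf M) U M) ∨ (Cfsg.IsOfTypeII M ∧ Cfsg.IsComplIn (Cfsg.fittingHallOf M) U ⁅M, M⁆)) :
    (∀ (p : ℕ), p.Prime → ∀ P : Sylow p U, IsMulCommutative (P : Subgroup U) ∧ Cfsg.PRankLE p 2 (P : Subgroup U)) ∧
      (∀ X : Set G, X ⊆ (U : Set G) \ {1} → X.Nonempty → Cfsg.fittingHallOf M ⊓ Subgroup.centralizer X ≠ ⊥ →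
        Subgroup.centralizer X ≤ M ∧ ∀ L : Subgroup G, IsCoatom L → Subgroup.centralizer X ≤ L → L = M) ∧
      Cfsg.IsTISubset (Cfsg.typeA M \ Cfsg.typeA1 M) := by
  obtain ⟨N, K₀, U₀, hKU, hNM, hMN, hUN, hSN, hHS, hcU, hcN, hA⟩ := exists_data hG hM hU
  have hUM : U ≤ M := hUN.trans hNM
  have hUp : ∀ q : ℕ, q.Prime → q ∣ Nat.card U → q ∉ Cfsg.sigma M ∧ q ∉ Cfsg.kappa M :=
    fun q hq hd => decomposition_U_primes hG hM hKU hq (hcU ▸ hd)
  -- (b) for sets
  have hB : ∀ (V : Subgroup G) (X : Set G), V ≤ M →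
      (∀ q : ℕ, q.Prime → q ∣ Nat.card V → q ∉ Cfsg.sigma M ∧ q ∉ Cfsg.kappa M) →
      X ⊆ (V : Set G) → (∃ x ∈ X, x ≠ 1) → Cfsg.sigmaCore M ⊓ centralizer X ≠ ⊥ →
      centralizer X ≤ M ∧ ∀ L : Subgroup G, IsCoatom L → centralizer X ≤ L → L = M := by
    intro V X hVM hVp hXV ⟨x₀, hx₀, hx₀1⟩ hfix
    obtain ⟨m, hm, hmU⟩ := exists_conj_le_U hG hM hKU hVM hVp
    rw [Solvable.conj_smul_eq_map] at hmU
    set Y := closure ((fun x => m * x * m⁻¹) '' X) with hYdef
    have hY : ∀ c, c ∈ centralizer X → m * c * m⁻¹ ∈ centralizer (Y : Set G) := fun c hc => by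
      rw [hYdef, centralizer_closure]
      rintro _ ⟨x, hx, rfl⟩
      calc m * x * m⁻¹ * (m * c * m⁻¹) = m * (x * c) * m⁻¹ := by group
        _ = m * (c * x) * m⁻¹ := by rw [hc x hx]
        _ = m * c * m⁻¹ * (m * x * m⁻¹) := by group
    have hY' : ∀ c, c ∈ centralizer (Y : Set G) → m⁻¹ * c * m ∈ centralizer X := fun c hc => by
      intro x hx
      have h := hc (m * x * m⁻¹) (subset_closure ⟨x, hx, rfl⟩)
      calc x * (m⁻¹ * c * m) = m⁻¹ * (m * x * m⁻¹ * c) * m := by group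
        _ = m⁻¹ * (c * (m * x * m⁻¹)) * m := by rw [h]
        _ = m⁻¹ * c * m * x := by group
    refine unique_of_conj hG hM hm hY hY'
      (decomposition_centralizer_unique hG hM hKU ((closure_le _).2 ?_) ?_ ?_)
    · rintro _ ⟨x, hx, rfl⟩
      exact hmU ⟨x, hXV hx, rfl⟩
    · intro hb
      have h : m * x₀ * m⁻¹ ∈ Y := subset_closure ⟨x₀, hx₀, rfl⟩
      rw [hb, mem_bot] at h
      exact hx₀1 (conj_eq_one_iff.1 h)
    · intro hb
      obtain ⟨s, hs, hs1⟩ := (Cfsg.sigmaCore M ⊓ centralizer X).bot_or_exists_ne_one.resolve_left hfix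
      have h : m * s * m⁻¹ ∈ Cfsg.sigmaCore M ⊓ centralizer (Y : Set G) :=
        ⟨(mem_normalizer_iff.1 (le_normalizer_piCoreOf (Cfsg.sigma M) M hm) s).1 hs.1, hY s hs.2⟩
      rw [hb, mem_bot] at h
      exact hs1 (conj_eq_one_iff.1 h)
  refine ⟨fun p hp P => ?_, fun X hXU hXne hfix => ?_, ?_⟩
  · haveI := Fact.mk hp
    set Q := (P : Subgroup U).map U.subtype with hQ
    have hQM : Q ≤ M := (map_subtype_le _).trans hUM
    have hQσ : ∀ q : ℕ, q.Prime → q ∣ Nat.card Q → q ∉ Cfsg.sigma M := fun q hq hd =>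
      (hUp q hq (hd.trans (card_dvd_of_le (map_subtype_le _)))).1
    have hc : IsMulCommutative Q := Cfsg.Agent.S1420.isMulCommutative_of_nilpotent hG hM hQM
      (P.2.map U.subtype).isNilpotent hQσ
    refine ⟨⟨⟨fun a b => Subtype.ext (Subtype.ext (setLike_mul_comm (s := Q)
      (mem_map_of_mem _ a.2) (mem_map_of_mem _ b.2)))⟩⟩, ?_⟩
    by_cases hpU : p ∣ Nat.card U
    · exact TwoFusion.PRank.pRankLE_of_injective ((inclusion hUM).comp (P : Subgroup U).subtype)
        ((inclusion_injective hUM).comp Subtype.val_injective)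
        (pRankLE_two_of_not_sigma hG hM hp (hUp p hp hpU).1)
    · intro A hA hAp
      have : Nat.card A ∣ Nat.card U :=
        (card_subgroup_dvd_card A).trans (card_subgroup_dvd_card _)
      obtain ⟨i, hi⟩ := (P.2.to_subgroup A).exists_card_eq
      rw [hi] at this ⊢
      rcases Nat.eq_zero_or_pos i with rfl | h
      · rw [pow_zero]; exact Nat.one_le_pow _ _ hp.pos
      · exact absurd ((dvd_pow_self p h.ne').trans this) hpU
  · obtain ⟨x, hx⟩ := hXne
    rw [hHS] at hfix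
    exact hB U X hUM hUp (fun y hy => (hXU hy).1) ⟨x, hx, (hXU hx).2⟩ hfix
  -- (c)
  set S := Cfsg.sigmaCore M with hS
  set T := Cfsg.typeA M \ Cfsg.typeA1 M with hT
  have hTmem : ∀ a, a ∈ T ↔ a ∈ N ∧ a ∉ S ∧ ∃ x ∈ S, x ≠ 1 ∧ a * x = x * a := by
    intro a
    rw [hT, hA, Cfsg.typeA1, typeCore_eq_sigmaCore hG hM]
    simp only [Set.mem_sdiff, Set.mem_setOf_eq, SetLike.mem_coe, Set.mem_singleton_iff]
    constructor
    · rintro ⟨⟨h1, h2, h3⟩, h4⟩
      exact ⟨h1, fun h => h4 ⟨h, h2⟩, h3⟩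
    · rintro ⟨h1, h2, h3⟩
      exact ⟨⟨h1, fun h => h2 (h ▸ one_mem _), h3⟩, fun h => h2 h.1⟩
  have hSn : M ≤ normalizer (S : Set G) := le_normalizer_piCoreOf _ _
  have hTinv : ∀ m ∈ M, ∀ a ∈ T, m * a * m⁻¹ ∈ T := by
    intro m hm a ha
    obtain ⟨h1, h2, x, hx, hx1, he⟩ := (hTmem a).1 ha
    refine (hTmem _).2 ⟨(mem_normalizer_iff.1 (hMN hm) a).1 h1,
      fun h => h2 ((mem_normalizer_iff.1 (hSn hm) a).2 h), m * x * m⁻¹,
      (mem_normalizer_iff.1 (hSn hm) x).1 hx, fun h => hx1 (conj_eq_one_iff.1 h), ?_⟩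
    calc m * a * m⁻¹ * (m * x * m⁻¹) = m * (a * x) * m⁻¹ := by group
      _ = m * (x * a) * m⁻¹ := by rw [he]
      _ = m * x * m⁻¹ * (m * a * m⁻¹) := by group
  have hMT : ∀ g : G, g ∈ M → g ∈ normalizer T := fun g hg => mem_set_normalizer_iff.2 fun a => by
    refine ⟨fun ha => hTinv g hg a ha, fun ha => ?_⟩
    have := hTinv g⁻¹ (inv_mem hg) _ ha
    rwa [show g⁻¹ * (g * a * g⁻¹) * g⁻¹⁻¹ = a by group] at this
  -- the `σ'`-part of an element of `T`
  have hkey : ∀ a ∈ T, centralizer ({a ^ Nat.card S} : Set G) ≤ M ∧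
      ∀ L : Subgroup G, IsCoatom L → centralizer ({a ^ Nat.card S} : Set G) ≤ L → L = M := by
    intro a ha
    obtain ⟨h1, h2, x, hx, hx1, he⟩ := (hTmem a).1 ha
    have hne : a ^ Nat.card S ≠ 1 := fun h => h2 (mem_of_orderOf_coprime_relIndex hSn (hNM h1)
      (Nat.Coprime.coprime_dvd_left (orderOf_dvd_of_pow_eq_one h) (Nat.coprime_of_dvd
        fun q hq hq1 hq2 => (hall_of_subset hG hM (π := Cfsg.sigma M) subset_rfl
          fun p _ T hp => sylow_le_sigmaCore hG hM hp T).1.2.2 q hq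
            (sigma_of_dvd_sigmaCore hq hq1) hq2)))
    refine hB (zpowers (a ^ Nat.card S)) _ (zpowers_le.2 (pow_mem (hNM h1) _))
      (fun q hq hd => hUp q hq ?_) (Set.singleton_subset_iff.2 (mem_zpowers _))
      ⟨_, rfl, hne⟩ fun hb => ?_
    · rw [Nat.card_zpowers] at hd
      refine hd.trans (orderOf_dvd_of_pow_eq_one ?_)
      rw [← pow_mul, ← hcN]
      exact orderOf_dvd_iff_pow_eq_one.1 (orderOf_dvd_card_of_mem h1)
    · have h : x ∈ S ⊓ centralizer ({a ^ Nat.card S} : Set G) :=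
        ⟨hx, mem_centralizer_singleton_iff.2 ((show Commute a x from he).pow_left _).symm.eq⟩
      rw [hb, mem_bot] at h
      exact hx1 h
  intro g hg a ha hga
  exfalso
  refine hg (hMT g ?_)
  have ha' := hkey a ha
  have hb' := hkey _ hga
  refine mem_of_map_conj_eq hG hM (hb'.2 _ (isCoatom_conj hM g) ?_)
  rw [conj_pow, centralizer_singleton_conj]
  exact map_mono ha'.1

end Cfsg.Agent.S1390
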