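import Cfsg.Statements.S1405
import Cfsg.Agent.Lib.OddOrder.Sigma

set_option autoImplicit false
open Cfsg

namespace Cfsg.Agent.S1405

/-- Let G be a minimal simple group of odd order and M a maximal subgroup, α(M) the set of primes p with M of p-rank at least 3, and M_α = O_{α(M)}(M). Then M_α is a Hall α(M)-subgroup of M and of G, M_α ≤ M_σ, the quotient M/M_α has no elementary abelian subgroup of order p ^ 3 for any prime p, and the image of M' in M/M_α is nilpotent. -/
theorem result {G : Type*} [Group G] [Finite G] (hG : Cfsg.IsMinSimpleOddOrder G)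
    (M : Subgroup G) (hM : IsCoatom M) :
    Cfsg.IsPiHallOf (Cfsg.alpha M) (Cfsg.alphaCore M) M ∧ Cfsg.IsPiHall (Cfsg.alpha M) (Cfsg.alphaCore M) ∧
      Cfsg.alphaCore M ≤ Cfsg.sigmaCore M ∧ Cfsg.RankLE 2 (↥M ⧸ Cfsg.piCore (Cfsg.alpha M) ↥M) ∧
      Group.IsNilpotent ↥((commutator ↥M).map (QuotientGroup.mk' (Cfsg.piCore (Cfsg.alpha M) ↥M))) := by
  obtain ⟨h1, h2⟩ := CfsgLib.OddOrder.hall_of_subset hG hM (π := Cfsg.alpha M)
    (fun p hp => CfsgLib.OddOrder.alpha_subset_sigma hG hM hp)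
    fun p _ S hp => CfsgLib.OddOrder.sylow_le_alphaCore hG hM hp S
  refine ⟨h1, h2, ?_, CfsgLib.OddOrder.rankLE_two_quotient_alphaCore hG hM, ?_⟩
  · exact CfsgLib.OddOrder.le_piCoreOf (CfsgLib.OddOrder.piCoreOf_le _ _)
      (CfsgLib.OddOrder.le_normalizer_piCoreOf _ _) (CfsgLib.OddOrder.IsPiSubgroup.mono
        (CfsgLib.OddOrder.piCoreOf_isPiSubgroup _ _)
        fun p hp => CfsgLib.OddOrder.alpha_subset_sigma hG hM hp)
  · haveI := CfsgLib.Solvable.fittingSubgroup_isNilpotent (↥M ⧸ Cfsg.piCore (Cfsg.alpha M) ↥M)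
    refine CfsgLib.OddOrder.isNilpotent_of_subgroup_le inferInstance (le_trans ?_
      (CfsgLib.OddOrder.commutator_quotient_le_fitting hG hM))
    rw [commutator_def, Subgroup.map_commutator, commutator_def]
    exact Subgroup.commutator_mono le_top le_top

end Cfsg.Agent.S1405
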