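import Cfsg.Statements.S1413
import Cfsg.Agent.Lib.OddOrder.PLengthOne

set_option autoImplicit false
open Cfsg

namespace Cfsg.Agent.S1413

/-- Let G be a minimal simple group of odd order, p a prime and P a Sylow p-subgroup. (c) If Q ≤ P and xQx⁻¹ ≤ P then xQx⁻¹ = yQy⁻¹ for some y ∈ N_G(P). (d) For every Q ≤ P, p does not divide the index of N_P(Q) in N_G(Q). (e) If R is a p-subgroup and Q ≤ P ∩ R is normal in N_G(P), then Q is normal in N_G(R). -/
theorem result {G : Type*} [Group G] [Finite G] (hG : Cfsg.IsMinSimpleOddOrder G) (p : ℕ) [Fact p.Prime] (P : Sylow p G) :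
    (∀ (Q : Subgroup G) (x : G), Q ≤ (P : Subgroup G) → Q.map (MulAut.conj x).toMonoidHom ≤ (P : Subgroup G) →
        ∃ y ∈ Subgroup.normalizer ((P : Subgroup G) : Set G), Q.map (MulAut.conj x).toMonoidHom = Q.map (MulAut.conj y).toMonoidHom) ∧
      (∀ Q : Subgroup G, Q ≤ (P : Subgroup G) →
        ¬ p ∣ ((P : Subgroup G) ⊓ Subgroup.normalizer (Q : Set G)).relIndex (Subgroup.normalizer (Q : Set G))) ∧
      (∀ (R Q : Subgroup G), IsPGroup p R → Q ≤ (P : Subgroup G) ⊓ R →
        Subgroup.normalizer ((P : Subgroup G) : Set G) ≤ Subgroup.normalizer (Q : Set G) →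
        Subgroup.normalizer (R : Set G) ≤ Subgroup.normalizer (Q : Set G)) := by
  have hc : ∀ (Q : Subgroup G) (x : G), Q ≤ (P : Subgroup G) →
      Q.map (MulAut.conj x).toMonoidHom ≤ (P : Subgroup G) →
      ∃ y ∈ Subgroup.normalizer ((P : Subgroup G) : Set G),
        Q.map (MulAut.conj x).toMonoidHom = Q.map (MulAut.conj y).toMonoidHom :=
    fun Q x h1 h2 => CfsgLib.OddOrder.exists_normalizer_conj_eq hG P h1 h2
  have hconj : ∀ (A : Subgroup G) (a b : G), (A.map (MulAut.conj a).toMonoidHom).map (MulAut.conj b).toMonoidHom =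
      A.map (MulAut.conj (b * a)).toMonoidHom := by
    intro A a b
    rw [Subgroup.map_map]
    congr 1
    ext t
    simp [mul_assoc]
  have hfix : ∀ (A : Subgroup G) (a : G), a ∈ Subgroup.normalizer (A : Set G) →
      A.map (MulAut.conj a).toMonoidHom = A := fun A a ha => Subgroup.mem_normalizer_iff_map_conj_eq.1 ha
  have hsylow : ∀ R : Subgroup G, IsPGroup p R → ∃ x : G, R.map (MulAut.conj x).toMonoidHom ≤ (P : Subgroup G) := by
    intro R hR
    obtain ⟨S, hS⟩ := hR.exists_le_sylow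
    obtain ⟨x, hx⟩ := MulAction.exists_smul_eq G S P
    refine ⟨x, fun t ht => ?_⟩
    rw [← hx]
    exact (Subgroup.map_mono hS) ht
  refine ⟨hc, fun Q hQ => ?_, fun R Q hR hQ hN g hg => ?_⟩
  · set N := Subgroup.normalizer (Q : Set G) with hNdef
    obtain ⟨S, hS⟩ := ((P.isPGroup'.to_le hQ).of_equiv
      (Subgroup.subgroupOfEquivOfLe (Subgroup.le_normalizer (H := Q))).symm).exists_le_sylow
    set R := (S : Subgroup N).map N.subtype with hRdef
    have hQR : Q ≤ R := fun t ht => ⟨⟨t, Subgroup.le_normalizer ht⟩, hS ht, rfl⟩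
    obtain ⟨x, hx⟩ := hsylow R (S.isPGroup'.map _)
    obtain ⟨y, hy, hye⟩ := hc Q x hQ ((Subgroup.map_mono hQR).trans hx)
    have hyx : y⁻¹ * x ∈ N := by
      rw [hNdef, Subgroup.mem_normalizer_iff_map_conj_eq]
      show Q.map (MulAut.conj (y⁻¹ * x)).toMonoidHom = Q
      rw [← hconj, hye, hconj, inv_mul_cancel]
      ext t
      simp
    have hR' : R.map (MulAut.conj (y⁻¹ * x)).toMonoidHom ≤ (P : Subgroup G) ⊓ N := by
      refine le_inf ?_ ?_
      · rw [← hconj]
        refine (Subgroup.map_mono hx).trans ?_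
        rw [hfix _ _ (inv_mem hy)]
      · refine (Subgroup.map_mono (Subgroup.map_subtype_le _)).trans ?_
        rw [hfix N _ (Subgroup.le_normalizer hyx)]
    intro hd
    have hidx : R.relIndex N = (S : Subgroup N).index := by
      rw [Subgroup.relIndex, Subgroup.subgroupOf,
        Subgroup.comap_map_eq_self_of_injective N.subtype_injective]
    refine S.not_dvd_index (hidx ▸ hd.trans ?_)
    have h1 := Subgroup.card_dvd_of_le hR'
    rw [← Nat.card_congr (Subgroup.equivMapOfInjective R _ (MulAut.conj (y⁻¹ * x)).injective).toEquiv] at h1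
    obtain ⟨k, hk⟩ := h1
    have h2 := Subgroup.relIndex_mul_relIndex ⊥ R N bot_le (Subgroup.map_subtype_le _)
    have h3 := Subgroup.relIndex_mul_relIndex ⊥ ((P : Subgroup G) ⊓ N) N bot_le inf_le_right
    rw [Subgroup.relIndex_bot_left, Subgroup.relIndex_bot_left] at h2 h3
    rw [← h2, hk, mul_assoc] at h3
    refine ⟨k, ?_⟩
    rw [← Nat.eq_of_mul_eq_mul_left Nat.card_pos h3, mul_comm]
  · obtain ⟨x, hx⟩ := hsylow R hR
    have hQR : Q ≤ R := hQ.trans inf_le_right
    have hQP : Q ≤ (P : Subgroup G) := hQ.trans inf_le_left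
    obtain ⟨y, hy, hye⟩ := hc Q x hQP ((Subgroup.map_mono hQR).trans hx)
    rw [hfix Q y (hN hy)] at hye
    obtain ⟨z, hz, hze⟩ := hc Q (x * g) hQP (by
      rw [← hconj]
      refine (Subgroup.map_mono ?_).trans hx
      rw [← hfix R g hg]
      exact Subgroup.map_mono hQR)
    rw [hfix Q z (hN hz), ← hconj] at hze
    refine Subgroup.mem_normalizer_iff_map_conj_eq.2 ?_
    refine Subgroup.map_injective (f := (MulAut.conj x).toMonoidHom) (MulAut.conj x).injective ?_
    show (Q.map (MulAut.conj g).toMonoidHom).map (MulAut.conj x).toMonoidHom = _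
    rw [hze, hye]

end Cfsg.Agent.S1413
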