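import Cfsg.Statements.S1427
import Cfsg.Agent.Lib.OddOrder.SemiPrime
import Cfsg.Agent.Lib.OddOrder.TauTwo

set_option autoImplicit false
open Cfsg

namespace Cfsg.Agent.S1427

/-- Let G be a minimal simple group of odd order, M a maximal subgroup, E a complement to M_σ in M, and S a nontrivial cyclic Sylow subgroup of E (for some prime). Then M_σ ∩ C_G(x) = M_σ ∩ C_G(S) for every non-identity x ∈ S. -/
theorem result {G : Type*} [Group G] [Finite G] (hG : Cfsg.IsMinSimpleOddOrder G)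
    (M : Subgroup G) (hM : IsCoatom M) (E : Subgroup G) (hE : Cfsg.IsComplIn E (Cfsg.sigmaCore M) M) (p : ℕ) [Fact p.Prime] (S : Sylow p E) (hS1 : (S : Subgroup E) ≠ ⊥) (hSc : IsCyclic (S : Subgroup E)) :
    ∀ x ∈ (S : Subgroup E).map E.subtype, x ≠ 1 →
        Cfsg.sigmaCore M ⊓ Subgroup.centralizer ({x} : Set G) = Cfsg.sigmaCore M ⊓ Subgroup.centralizer (((S : Subgroup E).map E.subtype : Subgroup G) : Set G) := by
  intro x hx hx1
  set S' := (S : Subgroup E).map E.subtype with hS'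
  haveI := hSc
  haveI : IsCyclic S' := isCyclic_of_surjective _
    ((S : Subgroup E).equivMapOfInjective _ E.subtype_injective).surjective
  refine le_antisymm ?_ (inf_le_inf_left _ (Subgroup.centralizer_le (Set.singleton_subset_iff.2 hx)))
  have hpE : p ∣ Nat.card E := (CfsgLib.OddOrder.dvd_card_of_isPGroup S.2 hS1).trans
    (Subgroup.card_subgroup_dvd_card _)
  have hpσ := CfsgLib.OddOrder.complement_prime_not_sigma hG hM hE (Fact.out : p.Prime) hpE
  have hmax := CfsgLib.OddOrder.isMaxPIn_complement hG hM hE hpσ S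
  have hr : Cfsg.PRankLE p 1 M := CfsgLib.OddOrder.pRankLE_of_isMaxPIn hmax fun B hB hBe => by
    obtain ⟨b, hb⟩ := IsCyclic.exists_generator (α := B)
    rw [← orderOf_eq_card_of_forall_mem_zpowers hb, pow_one]
    exact Nat.le_of_dvd (Fact.out : p.Prime).pos
      (orderOf_dvd_of_pow_eq_one (Subtype.ext (hBe b b.2)))
  obtain ⟨⟨v, hv⟩, hgen⟩ := IsCyclic.exists_generator (α := S')
  have hxp : IsPGroup p (Subgroup.zpowers x) := hmax.pgroup.to_le (Subgroup.zpowers_le.2 hx)
  obtain ⟨P, hPx, hP⟩ := CfsgLib.OddOrder.exists_le_card_prime hxp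
    (fun h => hx1 (Subgroup.zpowers_eq_bot.1 h))
  have hS'v : S' ≤ Subgroup.zpowers v := fun y hy => by
    obtain ⟨k, hk⟩ := Subgroup.mem_zpowers_iff.1 (hgen ⟨y, hy⟩)
    exact ⟨k, congrArg Subtype.val hk⟩
  intro c hc
  obtain ⟨hcσ, hcx⟩ := hc
  have hcv := CfsgLib.OddOrder.semiprime hG hM hpσ hr (hmax.le hv)
    (hmax.pgroup.to_le (Subgroup.zpowers_le.2 hv)) hP
    (hPx.trans (Subgroup.zpowers_le.2 (hS'v hx))) (show c ∈ _ from ⟨hcσ, fun y hy => by
      obtain ⟨k, rfl⟩ := Subgroup.mem_zpowers_iff.1 (hPx hy)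
      exact ((show Commute x c from (Subgroup.mem_centralizer_singleton_iff.1 hcx).symm).zpow_left k).eq⟩)
  refine ⟨hcσ, fun y hy => ?_⟩
  obtain ⟨k, rfl⟩ := Subgroup.mem_zpowers_iff.1 (hS'v hy)
  exact ((show Commute v c from (Subgroup.mem_centralizer_singleton_iff.1 hcv).symm).zpow_left k).eq

end Cfsg.Agent.S1427
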