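import Cfsg.Agent.S1431
import Cfsg.Statements.S1434
import Cfsg.Agent.Lib.OddOrder.KappaMain

set_option autoImplicit false
open Cfsg

namespace Cfsg.Agent.S1434

open CfsgLib.OddOrder Subgroup

/-- Let G be a minimal simple group of odd order, M a maximal subgroup with standard factorisation M = K U M_σ, K ≠ 1, K* = M_σ ∩ C_G(K), and M* a maximal subgroup with K = M*_σ ∩ C_G(K*) and K* a Hall κ(M*)-subgroup of M*. Then κ(M) = τ₁(M); K* is a Hall σ(M)-subgroup of M*; for non-identity x ∈ K and y ∈ K*, C_M(x), C_{M*}(y) and C_G(xy) all equal K K*; the set Ẑ of elements of K K* outside K ∪ K* meets no gMg⁻¹ with g ∉ M; and with k = #K, k* = #K*, the union of the conjugates of Ẑ has k·k*·(number of elements) = (k k* − k − k* + 1)·#G and more than #G / 2 elements. -/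
theorem result {G : Type*} [Group G] [Finite G] (hG : Cfsg.IsMinSimpleOddOrder G)
    (M : Subgroup G) (hM : IsCoatom M) (K U : Subgroup G) (hKU : Cfsg.IsSigmaDecomposition M K U) (hK1 : K ≠ ⊥) (Mstar : Subgroup G) (hMstar : IsCoatom Mstar)
    (hKst : K = Cfsg.sigmaCore Mstar ⊓ Subgroup.centralizer ((Cfsg.sigmaCore M ⊓ Subgroup.centralizer (K : Set G)) : Set G))
    (hKstH : Cfsg.IsPiHallOf (Cfsg.kappa Mstar) (Cfsg.sigmaCore M ⊓ Subgroup.centralizer (K : Set G)) Mstar) :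
    Cfsg.kappa M = Cfsg.tau1 M ∧ Cfsg.IsPiHallOf (Cfsg.sigma M) (Cfsg.sigmaCore M ⊓ Subgroup.centralizer (K : Set G)) Mstar ∧
      (∀ x ∈ K, x ≠ 1 → ∀ y ∈ (Cfsg.sigmaCore M ⊓ Subgroup.centralizer (K : Set G)), y ≠ 1 →
        M ⊓ Subgroup.centralizer ({x} : Set G) = K ⊔ (Cfsg.sigmaCore M ⊓ Subgroup.centralizer (K : Set G)) ∧ Mstar ⊓ Subgroup.centralizer ({y} : Set G) = K ⊔ (Cfsg.sigmaCore M ⊓ Subgroup.centralizer (K : Set G)) ∧
        Subgroup.centralizer ({x * y} : Set G) = K ⊔ (Cfsg.sigmaCore M ⊓ Subgroup.centralizer (K : Set G))) ∧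
      (∀ g : G, g ∉ M → ∀ z ∈ ((↑(K ⊔ (Cfsg.sigmaCore M ⊓ Subgroup.centralizer (K : Set G))) : Set G) \ ((K : Set G) ∪ ↑(Cfsg.sigmaCore M ⊓ Subgroup.centralizer (K : Set G)))), z ∉ M.map (MulAut.conj g).toMonoidHom) ∧
      Nat.card K * Nat.card ↥(Cfsg.sigmaCore M ⊓ Subgroup.centralizer (K : Set G)) * Set.ncard {a : G | ∃ g : G, ∃ z ∈ ((↑(K ⊔ (Cfsg.sigmaCore M ⊓ Subgroup.centralizer (K : Set G))) : Set G) \ ((K : Set G) ∪ ↑(Cfsg.sigmaCore M ⊓ Subgroup.centralizer (K : Set G)))), a = g * z * g⁻¹} =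
        (Nat.card K * Nat.card ↥(Cfsg.sigmaCore M ⊓ Subgroup.centralizer (K : Set G)) - Nat.card K - Nat.card ↥(Cfsg.sigmaCore M ⊓ Subgroup.centralizer (K : Set G)) + 1) * Nat.card G ∧
      Nat.card G < 2 * Set.ncard {a : G | ∃ g : G, ∃ z ∈ ((↑(K ⊔ (Cfsg.sigmaCore M ⊓ Subgroup.centralizer (K : Set G))) : Set G) \ ((K : Set G) ∪ ↑(Cfsg.sigmaCore M ⊓ Subgroup.centralizer (K : Set G)))), a = g * z * g⁻¹} := by
  obtain ⟨h', he, -⟩ := (isKappaPair_of_decomposition hM hKU hK1).dual_spec hG hMstar hKst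
  have h := isKappaPair_of_decomposition hM hKU hK1
  have hreg := h.kappaReg_eq hG h' he
  rw [← hreg]
  refine ⟨h.kappa_eq_tau1 hG, h.hall_sigma hG h' he, fun x hx hx1 y hy hy1 => ?_, ?_, ?_,
    h.card_lt_two_mul_conjUnion hG h' he⟩
  · refine ⟨h.inf_centralizer hG hx hx1,
      (h'.inf_centralizer hG hy hy1).trans (IsKappaPair.zsub_dual he),
      h.centralizer_kappaReg hG ?_⟩
    rw [hreg]
    refine ⟨mul_mem (mem_sup_left hx) (mem_sup_right hy), ?_⟩
    rintro (hc | hc)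
    · exact hy1 (mem_bot.1 (h.inf_eq_bot ▸
        (⟨by simpa using K.mul_mem (K.inv_mem hx) hc, hy⟩ : y ∈ K ⊓ kappaStar M K)))
    · exact hx1 (mem_bot.1 (h.inf_eq_bot ▸
        (⟨hx, by simpa using (kappaStar M K).mul_mem hc ((kappaStar M K).inv_mem hy)⟩ :
          x ∈ K ⊓ kappaStar M K)))
  · intro g hg z hz hzg
    set w := z ^ Nat.card K
    have hzZ : z ∈ K ⊔ kappaStar M K := hz.1
    obtain ⟨a, ha, b, hb, rfl⟩ := (CfsgLib.Solvable.mem_sup_of_le_normalizer
      ((inf_le_right : kappaStar M K ≤ _).trans (centralizer_le_normalizer _))).1 hzZ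
    have hw : w = b ^ Nat.card K := by
      show (a * b) ^ Nat.card K = _
      rw [(h.commute hG (mem_sup_left ha) (mem_sup_right hb)).mul_pow,
        show a ^ Nat.card K = 1 from
          congrArg Subtype.val (pow_card_eq_one' (x := (⟨a, ha⟩ : K))), one_mul]
    have hb1 : b = 1 := by
      have h1 : w ∈ kappaStar M K ⊓ M.map (MulAut.conj g).toMonoidHom :=
        ⟨hw ▸ pow_mem hb _, pow_mem hzg _⟩
      rw [(Cfsg.Agent.S1431.result hG M hM K hKU.hall hK1).1 g hg, mem_bot, hw] at h1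
      refine mem_bot.1 (mem_of_pow_mem_of_coprime (n := Nat.card K) ?_ (mem_bot.2 h1))
      exact h.coprime_card.coprime_dvd_right (orderOf_dvd_card_of_mem hb)
    rw [hreg] at hz
    exact hz.2 (Or.inl (by simpa [hb1] using ha))
  · have hC := h.ncard_conjUnion hG (T := kappaReg M K) le_rfl
    have hT := h.ncard_kappaReg hG h' he
    rw [h.card_zsub] at hC
    rw [mul_comm (_ * _), show {a : G | ∃ g : G, ∃ z ∈ kappaReg M K, a = g * z * g⁻¹} =
      conjUnion (kappaReg M K) from rfl, hC, mul_comm (_ - _ - _ + _)]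
    congr 1
    have h1 : 1 ≤ Nat.card K := Nat.card_pos
    have h2 : 1 ≤ Nat.card ↥(kappaStar M K) := Nat.card_pos
    have h3 : Nat.card K + Nat.card ↥(kappaStar M K) ≤
        Nat.card K * Nat.card ↥(kappaStar M K) + 1 := by nlinarith
    have h4 : Set.ncard (kappaReg M K) ≠ 0 := fun h0 => by
      rw [h0, mul_zero] at hC
      have h5 := h.card_lt_two_mul_conjUnion hG h' he
      rcases mul_eq_zero.1 hC with h6 | h6
      · omega
      · exact (Nat.mul_pos h1 h2).ne' h6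
    show _ = Nat.card K * Nat.card ↥(kappaStar M K) - Nat.card K - Nat.card ↥(kappaStar M K) + 1
    omega

end Cfsg.Agent.S1434
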