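import Cfsg.Statements.S1438
import Cfsg.Agent.Lib.OddOrder.Section15Centralizer

set_option autoImplicit false
open Cfsg

namespace Cfsg.Agent.S1438

/-- Let G be a minimal simple group of odd order, M a maximal subgroup and H a nontrivial subgroup of M_σ whose order is coprime to its index in M_σ. Then M ∩ C_G(H) is generated by M_σ ∩ C_G(H) together with a cyclic subgroup X all of whose prime divisors lie in τ₂(M); and if x ∈ H and gxg⁻¹ ∈ H then nxn⁻¹ = gxg⁻¹ for some n ∈ M ∩ N_G(H). -/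
theorem result {G : Type*} [Group G] [Finite G] (hG : Cfsg.IsMinSimpleOddOrder G)
    (M : Subgroup G) (hM : IsCoatom M) (H : Subgroup G) (hH : H ≤ Cfsg.sigmaCore M) (hH1 : H ≠ ⊥)
    (hHall : (Nat.card H).Coprime (H.relIndex (Cfsg.sigmaCore M))) :
    (∃ X : Subgroup G, IsCyclic X ∧ (∀ p : ℕ, p.Prime → p ∣ Nat.card X → p ∈ Cfsg.tau2 M) ∧
        M ⊓ Subgroup.centralizer (H : Set G) = (Cfsg.sigmaCore M ⊓ Subgroup.centralizer (H : Set G)) ⊔ X) ∧
      ∀ x ∈ H, ∀ g : G, g * x * g⁻¹ ∈ H → ∃ n ∈ M ⊓ Subgroup.normalizer (H : Set G), n * x * n⁻¹ = g * x * g⁻¹ := by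
  refine ⟨CfsgLib.OddOrder.centralizer_hall_split hG hM hH hH1 hHall, fun x hx g hgx => ?_⟩
  rcases eq_or_ne x 1 with rfl | hx1
  · exact ⟨1, Subgroup.one_mem _, by simp⟩
  have hSM : Cfsg.sigmaCore M ≤ M := CfsgLib.OddOrder.piCoreOf_le _ M
  obtain ⟨m, hm, hmx⟩ :=
    CfsgLib.OddOrder.exists_conj_in_maximal hG hM (hH hx) hx1 (hSM (hH hgx))
  obtain ⟨Q, D, -, hQn, hQD, hD, hco, hone⟩ := CfsgLib.OddOrder.exists_sigmaCore_split hG hM
  have hSn : Group.IsSolvable (Cfsg.sigmaCore M) :=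
    CfsgLib.OddOrder.isSolvable_of_ne_top hG fun h => hM.1 (top_le_iff.1 (h ▸ hSM))
  obtain ⟨n, hn, hnx⟩ := CfsgLib.OddOrder.exists_normalizer_conj_of_hall hSn hSM
    (CfsgLib.OddOrder.le_normalizer_piCoreOf _ M) hQn hQD hD hco
    (CfsgLib.OddOrder.isPiHallOf_of_coprime_relIndex hH hHall) (by
      by_cases hq : ∃ q : ℕ, q.Prime ∧ q ∣ Nat.card Q ∧ q ∣ Nat.card H
      · obtain ⟨q, hq, hqQ, hqH⟩ := hq
        exact Or.inl fun r hr hd => ⟨hr, by rw [hone r q hr hq hd hqQ]; exact hqH⟩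
      · exact Or.inr fun r hr hd h => hq ⟨r, hr, hd, h.2⟩) hx hm (hmx ▸ hgx)
  exact ⟨n, hn, hnx.trans hmx⟩

end Cfsg.Agent.S1438
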