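import Cfsg.Statements.S1440
import Cfsg.Agent.Lib.OddOrder.FittingTIDichotomy
import Cfsg.Agent.Lib.OddOrder.Section16Cases
import Cfsg.Agent.Lib.FT.Supported

set_option autoImplicit false
open Cfsg

namespace Cfsg.Agent.S1440

/-- Let G be a minimal simple group of odd order, M a maximal subgroup with standard factorisation M = K U M_σ, H = M_F, and g ∉ M such that X = F(M) ∩ gF(M)g⁻¹ is nontrivial. Then X ≤ H and X is cyclic; M' = F(M), which is generated by M_σ and O_{σ(M)'}(F(M)); and one of: (1) K = 1 and H is abelian of rank exactly 2; (2) p = #X is a prime in σ(M) but not in β(M), O_p(H) is nonabelian, O_{p'}(H) is cyclic, and the exponent of M/H divides q − 1 for every prime q dividing #H; (3) p = #X is a prime in σ(M) but not β(M), O_{p'}(H) is cyclic, O_p(H) is nonabelian of order p ^ 3, K ≠ 1, U = 1, and the index of H in M divides p + 1. -/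
theorem result {G : Type*} [Group G] [Finite G] (hG : Cfsg.IsMinSimpleOddOrder G)
    (M : Subgroup G) (hM : IsCoatom M) (K U : Subgroup G) (hKU : Cfsg.IsSigmaDecomposition M K U) (g : G) (hg : g ∉ M) (hX : Cfsg.fittingOf M ⊓ (Cfsg.fittingOf M).map (MulAut.conj g).toMonoidHom ≠ ⊥) :
    (Cfsg.fittingOf M ⊓ (Cfsg.fittingOf M).map (MulAut.conj g).toMonoidHom ≤ Cfsg.fittingHallOf M ∧ IsCyclic ↥(Cfsg.fittingOf M ⊓ (Cfsg.fittingOf M).map (MulAut.conj g).toMonoidHom)) ∧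
      (⁅M, M⁆ = Cfsg.fittingOf M ∧ Cfsg.fittingOf M = Cfsg.sigmaCore M ⊔ Cfsg.piCoreOf {q | q.Prime ∧ q ∉ Cfsg.sigma M} (Cfsg.fittingOf M)) ∧
      ((K = ⊥ ∧ IsMulCommutative (Cfsg.fittingHallOf M) ∧ Cfsg.RankLE 2 (Cfsg.fittingHallOf M) ∧ ¬ Cfsg.RankLE 1 (Cfsg.fittingHallOf M)) ∨
       (∃ p : ℕ, p.Prime ∧ Nat.card ↥(Cfsg.fittingOf M ⊓ (Cfsg.fittingOf M).map (MulAut.conj g).toMonoidHom) = p ∧ p ∈ Cfsg.sigma M ∧ p ∉ Cfsg.beta M ∧
          ¬ IsMulCommutative (Cfsg.pCore p ↥(Cfsg.fittingHallOf M)) ∧ IsCyclic (Cfsg.pPrimeCore p ↥(Cfsg.fittingHallOf M)) ∧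
          ∀ q : ℕ, q.Prime → q ∣ Nat.card (Cfsg.fittingHallOf M) → Monoid.exponent (↥M ⧸ Cfsg.fittingHall ↥M) ∣ q - 1) ∨
       (∃ p : ℕ, p.Prime ∧ Nat.card ↥(Cfsg.fittingOf M ⊓ (Cfsg.fittingOf M).map (MulAut.conj g).toMonoidHom) = p ∧ p ∈ Cfsg.sigma M ∧ p ∉ Cfsg.beta M ∧
          IsCyclic (Cfsg.pPrimeCore p ↥(Cfsg.fittingHallOf M)) ∧ Nat.card (Cfsg.pCore p ↥(Cfsg.fittingHallOf M)) = p ^ 3 ∧
          ¬ IsMulCommutative (Cfsg.pCore p ↥(Cfsg.fittingHallOf M)) ∧ K ≠ ⊥ ∧ U = ⊥ ∧ (Cfsg.fittingHallOf M).relIndex M ∣ p + 1)) := by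
  obtain ⟨h1, hMF, h3⟩ := CfsgLib.OddOrder.fitting_not_ti_structure hG hM hKU g hg hX
  have hFM : Cfsg.fittingOf M ≤ ⁅M, M⁆ := by
    obtain ⟨-, hF, hκ⟩ := Cfsg.Agent.S1356.result hG M hM
    by_cases hne : (Cfsg.kappa M).Nonempty
    · exact hκ hne
    rw [Set.not_nonempty_iff_eq_empty] at hne
    have hK : K = ⊥ := by
      by_contra h
      obtain ⟨p, hp, hpd⟩ := Nat.exists_prime_and_dvd (n := Nat.card K)
        fun e => h (Subgroup.card_eq_one.1 e)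
      exact Set.notMem_empty p (hne ▸ hKU.hall.2.1 p hp hpd)
    have hU : U ≠ ⊥ := by
      rcases CfsgLib.OddOrder.type_cases hG hM hKU with h | h | h | h
      · exact h.2
      · exact absurd hK h.1
      · exact absurd hK h.1
      · exact absurd hK h.1
    have hHS := CfsgLib.OddOrder.fittingHallOf_eq_of_U_ne hG hM hKU hU
    obtain ⟨⟨z, hz⟩, hz1⟩ :=
      Subgroup.ne_bot_iff_exists_ne_one.1 (CfsgLib.OddOrder.sigmaCore_ne_bot hG hM)
    rw [hF]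
    refine (sup_le ?_ hHS.le).trans (CfsgLib.OddOrder.sigmaCore_le_commutator hG hM)
    refine le_trans ?_ (CfsgLib.FT.isFrob_of_isFType hG ⟨hM, hne⟩ z hz fun e => hz1 (Subtype.ext e))
    exact inf_le_inf_left M
      (Subgroup.centralizer_le (Set.singleton_subset_iff.2 (SetLike.mem_coe.2 (hHS ▸ hz))))
  have heq : ⁅M, M⁆ = Cfsg.fittingOf M := le_antisymm hMF hFM
  refine ⟨h1, ⟨heq, le_antisymm (fun x hx => ?_) (sup_le ?_ (CfsgLib.OddOrder.piCoreOf_le _ _))⟩, h3⟩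
  · refine CfsgLib.CN.mem_of_pElem_pow fun s m hs hsm => ?_
    haveI := Fact.mk hs
    by_cases hσ : s ∈ Cfsg.sigma M
    · refine Subgroup.mem_sup_left (CfsgLib.OddOrder.le_sigmaCore_of_piSubgroup hG hM
        (fun r hr hd => ?_) (Subgroup.zpowers_le.2 (CfsgLib.OddOrder.fittingOf_le M (pow_mem hx m)))
        (Subgroup.mem_zpowers _))
      rw [Nat.card_zpowers] at hd
      exact (hsm.orderOf_dvd hr hd) ▸ hσ
    · refine Subgroup.mem_sup_right (CfsgLib.OddOrder.mem_piCoreOf_of_nilpotent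
        (CfsgLib.OddOrder.fittingOf_isNilpotent M) (pow_mem hx m) fun r hr hd => ?_)
      exact ⟨hr, (hsm.orderOf_dvd hr hd) ▸ hσ⟩
  · exact heq ▸ CfsgLib.OddOrder.sigmaCore_le_commutator hG hM

end Cfsg.Agent.S1440
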