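import Cfsg.Statements.S1443
import Cfsg.Agent.Lib.OddOrder.ChainStab

set_option autoImplicit false
open Cfsg

namespace Cfsg.Agent.S1443

/-- Let G be a finite group, p an odd prime, H a p-subgroup, E an elementary abelian subgroup of H, and A a subgroup of order coprime to p normalizing H. If A centralizes every element of order p in H ∩ C_G(E), then A centralizes H. -/
theorem result {G : Type*} [Group G] [Finite G] (p : ℕ) [Fact p.Prime] (hp : p ≠ 2) (H E A : Subgroup G) (hH : IsPGroup p H) (hE : E ≤ H) (hEe : Cfsg.IsElementaryAbelian p E)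
    (hA : (A ≤ Subgroup.normalizer (H : Set G))) (hcop : (Nat.card A).Coprime p)
    (hfix : ∀ x ∈ (H ⊓ Subgroup.centralizer (E : Set G)), orderOf x = p → A ≤ Subgroup.centralizer ({x} : Set G)) :
    A ≤ Subgroup.centralizer (H : Set G) := by
  set D := H ⊓ Subgroup.centralizer (E : Set G) with hD
  obtain ⟨hEc, hEp⟩ := hEe
  have hED : E ≤ D := le_inf hE (fun x hx => Subgroup.mem_centralizer_iff.mpr fun y hy => by
    simpa using congrArg Subtype.val (hEc.is_comm.comm (⟨y, hy⟩ : E) ⟨x, hx⟩))
  have hfix' : ∀ x ∈ D, x ^ p = 1 → ∀ a ∈ A, Commute a x := by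
    intro x hx hxp a ha
    rcases eq_or_ne x 1 with rfl | hx1
    · exact Commute.one_right a
    have := Subgroup.mem_centralizer_iff.mp
      (hfix x hx (orderOf_eq_prime hxp hx1) ha) x rfl
    exact this.symm
  have hAE : A ≤ Subgroup.centralizer (E : Set G) := by
    intro a ha
    rw [Subgroup.mem_centralizer_iff]
    intro x hx
    exact (hfix' x (hED hx) (hEp x hx) a ha).eq.symm
  have hAD : ∀ a ∈ A, ∀ x ∈ D, Commute a x := by
    intro a ha
    have hcopa : (orderOf a).Coprime p :=
      hcop.coprime_dvd_left (Subgroup.orderOf_dvd_natCard A ha)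
    refine CfsgLib.OddOrder.commute_of_fix_pow_eq_one hp D (hH.to_le inf_le_left) ?_ hcopa
      (fun x hx hxp => hfix' x hx hxp a ha)
    rw [Subgroup.mem_normalizer_iff]
    intro g
    have h2 : a ∈ Subgroup.centralizer (E : Set G) := hAE ha
    simp only [hD, SetLike.mem_coe, Subgroup.mem_inf]
    refine and_congr (Subgroup.mem_normalizer_iff.mp (hA ha) g) ?_
    constructor
    · exact fun h => mul_mem (mul_mem h2 h) (inv_mem h2)
    · intro h
      have h3 := mul_mem (mul_mem (inv_mem h2) h) h2
      simpa [mul_assoc] using h3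
  haveI := hH.isNilpotent
  obtain ⟨k, hk⟩ := IsPGroup.iff_card.mp hH
  refine CfsgLib.OddOrder.le_centralizer_of_self_centralizing_fixed H A inferInstance hA
    (hk ▸ hcop.pow_right k) ?_
  intro x hx
  have hxD : x ∈ D := by
    refine Subgroup.mem_inf.mpr ⟨hx.1, ?_⟩
    rw [Subgroup.mem_centralizer_iff]
    intro y hy
    exact Subgroup.mem_centralizer_iff.mp hx.2 y
      ⟨hE hy, Subgroup.le_centralizer_iff.mp hAE hy⟩
  refine Subgroup.mem_inf.mpr ⟨hx.1, ?_⟩
  rw [Subgroup.mem_centralizer_iff]
  exact fun a ha => (hAD a ha x hxD).eq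

end Cfsg.Agent.S1443
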