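import Cfsg.Statements.S1445
import Cfsg.Agent.Lib.Solvable.Basic
import Cfsg.Agent.Lib.Solvable.PrimeActionCore
import Cfsg.Agent.Lib.OddOrder.Fitting
import Cfsg.Agent.Lib.Solvable.Core
import Cfsg.Agent.Lib.Solvable.CoprimeAction

set_option autoImplicit false
set_option linter.style.haveILetI false
open Cfsg

namespace Cfsg.Agent.S1445


open Subgroup
open scoped commutatorElement

variable {G : Type*} [Group G] [Finite G]

/-- A subgroup of a nilpotent group containing all its prime power elements is everything. -/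
theorem le_of_forall_prime_power {E C : Subgroup G}
    (h : ∀ q : ℕ, q.Prime → ∀ x ∈ E, (∃ k, orderOf x = q ^ k) → x ∈ C) : E ≤ C := by
  intro x hx
  refine CfsgLib.OddOrder.mem_of_forall_exists_pow_mem (orderOf_pos x) fun s hs hsd => ?_
  refine ⟨orderOf x / s ^ (orderOf x).factorization s, Nat.not_dvd_ordCompl hs (orderOf_pos x).ne', ?_⟩
  exact h s hs _ (pow_mem hx _) ⟨_, orderOf_pow_orderOf_div (orderOf_pos x).ne' (Nat.ordProj_dvd _ s)⟩

/-- The key step: `[P, R] ≤ F(K)` for the preimage `P` of `O_q(K / F(K))`. -/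
theorem key [Group.IsSolvable G] (hodd : Odd (Nat.card G)) (K R : Subgroup G) [K.Normal]
    (hcop : (Nat.card K).Coprime (Nat.card R))
    (hprime : ∀ x ∈ R, x ≠ 1 → K ⊓ centralizer ({x} : Set G) = (K ⊓ centralizer (R : Set G)))
    (hFn : (Cfsg.fittingOf K).Normal)
    (hF : Cfsg.fittingOf K ⊓ centralizer (R : Set G) = ⊥) (q : ℕ) [hq : Fact q.Prime]
    (P : Subgroup G) [P.Normal] (hPK : P ≤ K) (hFP : Cfsg.fittingOf K ≤ P)
    (hPq : ∀ u ∈ P, ∃ k : ℕ, u ^ q ^ k ∈ Cfsg.fittingOf K) :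
    ⁅P, R⁆ ≤ Cfsg.fittingOf K := by
  classical
  set F := Cfsg.fittingOf K with hFdef
  have hFK : F ≤ K := CfsgLib.OddOrder.fittingOf_le K
  have hFnil := CfsgLib.OddOrder.fittingOf_isNilpotent K
  set M := Cfsg.piCoreOf {s | s.Prime ∧ s ∉ ({q} : Set ℕ)} F with hMdef
  set S := Cfsg.piCoreOf {q} F with hSdef
  have hMF : M ≤ F := CfsgLib.OddOrder.piCoreOf_le _ _
  have hGM : ∀ g : G, g ∈ normalizer (M : Set G) := fun g =>
    CfsgLib.OddOrder.normalizer_le_normalizer_piCoreOf _ F (by rw [normalizer_eq_top]; exact mem_top g)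
  have hMnil : Group.IsNilpotent M :=
    Group.nilpotent_of_mulEquiv (G := M.subgroupOf F) (subgroupOfEquivOfLe hMF)
  by_cases hqK : q ∣ Nat.card K
  swap
  · -- nothing to do: `P = F`
    have hPF : P ≤ F := by
      intro u hu
      obtain ⟨k, hk⟩ := hPq u hu
      have hc : (orderOf (⟨u, hPK hu⟩ : K)).Coprime (q ^ k) :=
        Nat.Coprime.pow_right _ (Nat.Coprime.coprime_dvd_left (orderOf_dvd_natCard _)
          ((Nat.Prime.coprime_iff_not_dvd hq.out).2 hqK).symm)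
      rw [Subgroup.orderOf_mk] at hc
      obtain ⟨m, hm⟩ := exists_pow_eq_self_of_coprime hc.symm
      rw [← hm]
      exact pow_mem hk _
    refine le_trans (commutator_mono hPF le_rfl) ?_
    haveI := hFn
    exact commutator_le_left _ _
  have hq2 : q ≠ 2 := fun h => by
    have h2 : 2 ∣ Nat.card G := h ▸ hqK.trans (card_subgroup_dvd_card K)
    exact (Nat.not_even_iff_odd.2 hodd) (even_iff_two_dvd.2 h2)
  have hMq : (Nat.card M).Coprime q := by
    refine ((Nat.Prime.coprime_iff_not_dvd hq.out).2 fun h => ?_).symm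
    exact (CfsgLib.OddOrder.piCoreOf_isPiSubgroup _ F q hq.out h).2 rfl
  have hRP : R ≤ normalizer (P : Set G) := by rw [normalizer_eq_top]; exact le_top
  have hcopP : (Nat.card R).Coprime (Nat.card P) := (hcop.coprime_dvd_left (card_dvd_of_le hPK)).symm
  obtain ⟨T, hT⟩ := CfsgLib.Solvable.exists_invariant_sylow hRP hcopP (Or.inl inferInstance) q
  set Q := (T : Subgroup P).map P.subtype with hQdef
  have hQP : Q ≤ P := map_subtype_le _
  have hQ : IsPGroup q Q := T.isPGroup'.map P.subtype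
  have hQM : Q ≤ normalizer (M : Set G) := fun g _ => hGM g
  -- `Q ∩ C(M) ≤ F`
  have hU : P ⊓ centralizer (M : Set G) ≤ F := by
    set U := P ⊓ centralizer (M : Set G) with hUdef
    haveI : M.Normal := normalizer_eq_top_iff.1 (eq_top_iff.2 fun g _ => hGM g)
    haveI : (centralizer (M : Set G)).Normal := inferInstance
    haveI : U.Normal := inferInstance
    refine CfsgLib.OddOrder.le_fittingOf (inf_le_left.trans hPK) (by rw [normalizer_eq_top]; exact le_top) ?_
    have hcen : (M.subgroupOf U) ≤ center U := fun m hm => mem_center_iff.2 fun u =>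
      Subtype.ext ((mem_centralizer_iff.1 u.2.2 (m : G) hm).symm)
    haveI : (M.subgroupOf U).Normal := inferInstance
    have hpg : IsPGroup q (U ⧸ M.subgroupOf U) := by
      intro z
      obtain ⟨u, rfl⟩ := QuotientGroup.mk_surjective z
      obtain ⟨k, hk⟩ := hPq u u.2.1
      have hSM := CfsgLib.OddOrder.le_sup_piCoreOf_of_nilpotent hFnil {q} hk
      obtain ⟨a, ha, b, hb, hab⟩ := (mem_sup_of_normal_right (t := M)).1 hSM
      obtain ⟨j, hj⟩ := CfsgLib.OddOrder.piCoreOf_singleton_isPGroup q F ⟨a, ha⟩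
      have hj' : a ^ q ^ j = 1 := congrArg Subtype.val hj
      refine ⟨k + j, ?_⟩
      rw [← QuotientGroup.mk_pow, QuotientGroup.eq_one_iff, mem_subgroupOf, SubgroupClass.coe_pow, pow_add,
        pow_mul, ← hab]
      have h1 : (QuotientGroup.mk' M) ((a * b) ^ q ^ j) = 1 := by
        rw [map_pow, map_mul, show QuotientGroup.mk' M b = 1 from (QuotientGroup.eq_one_iff b).2 hb,
          mul_one, ← map_pow, hj', map_one]
      exact (QuotientGroup.eq_one_iff _).1 h1
    haveI : Group.IsNilpotent (U ⧸ M.subgroupOf U) := hpg.isNilpotent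
    exact Subgroup.isNilpotent_of_ker_le_center (QuotientGroup.mk' (M.subgroupOf U))
      (by rw [QuotientGroup.ker_mk']; exact hcen)
  -- `[Q, R] ≤ F`
  have hQR : ∀ g ∈ Q, ∀ x ∈ R, g⁻¹ * (x * g * x⁻¹) ∈ F := by
    by_cases hR : R = ⊥
    · intro g _ x hx
      rw [hR, mem_bot] at hx
      subst hx
      simp [F.one_mem]
    have hR1 : Nat.card R ≠ 1 := fun h => hR (Subgroup.card_eq_one.1 h)
    obtain ⟨r, hr, hrR⟩ := Nat.exists_prime_and_dvd hR1
    haveI := Fact.mk hr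
    obtain ⟨x₀, hx₀⟩ := exists_prime_orderOf_dvd_card' r hrR
    have hx₀' : (x₀ : G) ^ r = 1 := by
      have := pow_orderOf_eq_one x₀
      rw [hx₀] at this
      exact congrArg Subtype.val this
    have hne : (x₀ : G) ≠ 1 := fun h => hr.ne_one (by
      rw [← hx₀, show x₀ = 1 from Subtype.ext h, orderOf_one])
    have hrK : ¬ r ∣ Nat.card K := fun h => hr.not_dvd_one (hcop ▸ Nat.dvd_gcd h hrR)
    have hqr : q ≠ r := fun h => hrK (h ▸ hqK)
    have hMr : (Nat.card M).Coprime r := ((Nat.Prime.coprime_iff_not_dvd hr).2 fun h =>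
      hrK (h.trans (card_dvd_of_le (hMF.trans hFK)))).symm
    have hconj : ∀ x ∈ R, ∀ g ∈ Q, x * g * x⁻¹ ∈ Q := fun x hx g hg =>
      (mem_normalizer_iff.1 (hT hx) g).1 hg
    have hfix : M ⊓ centralizer ({(x₀ : G)} : Set G) = ⊥ := by
      rw [eq_bot_iff, ← hF]
      rintro m ⟨hm, hmx⟩
      have : m ∈ K ⊓ centralizer ({(x₀ : G)} : Set G) := ⟨hFK (hMF hm), hmx⟩
      rw [hprime _ x₀.2 hne] at this
      exact ⟨hMF hm, this.2⟩
    have hb := CfsgLib.Solvable.PrimeAction.commute_of_fpf_nilpotent (r := r) hq2 hqr hMnil hMq hMr hQ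
      (hconj _ x₀.2) hx₀' hQM (hGM _) hfix
    have hQK : Q ≤ K := hQP.trans hPK
    have hcQ : (Nat.card (zpowers (x₀ : G))).Coprime (Nat.card Q) :=
      Nat.Coprime.coprime_dvd_left (card_dvd_of_le (zpowers_le.2 x₀.2)) (hcopP.coprime_dvd_right (card_dvd_of_le hQP))
    have hAQ : zpowers (x₀ : G) ≤ normalizer (Q : Set G) := zpowers_le.2 (hT x₀.2)
    have hsup := CfsgLib.Solvable.commutator_sup_centralizer hAQ hcQ (Or.inl inferInstance)
    set N := Q ⊓ centralizer (M : Set G) with hNdef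
    haveI : M.Normal := normalizer_eq_top_iff.1 (eq_top_iff.2 fun g _ => hGM g)
    have hCn : (centralizer (M : Set G)).Normal := inferInstance
    have hconjN : ∀ h ∈ normalizer (Q : Set G), ∀ n ∈ N, h * n * h⁻¹ ∈ N := fun h hh n hn =>
      ⟨(mem_normalizer_iff.1 hh n).1 hn.1, hCn.conj_mem n hn.2 h⟩
    have hcommN : ⁅Q, zpowers (x₀ : G)⁆ ≤ N := by
      let C : Subgroup G :=
        { carrier := {a | a ∈ normalizer (Q : Set G) ∧ ∀ g ∈ Q, g⁻¹ * (a * g * a⁻¹) ∈ N}
          one_mem' := ⟨one_mem _, fun g _ => by simp [N.one_mem]⟩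
          mul_mem' := fun {a b} ha hb => ⟨mul_mem ha.1 hb.1, fun g hg => by
            have h1 := hb.2 g hg
            have h2 := ha.2 _ ((mem_normalizer_iff.1 hb.1 g).1 hg)
            rw [show g⁻¹ * (a * b * g * (a * b)⁻¹) =
              (g⁻¹ * (b * g * b⁻¹)) * ((b * g * b⁻¹)⁻¹ * (a * (b * g * b⁻¹) * a⁻¹)) by group]
            exact N.mul_mem h1 h2⟩
          inv_mem' := fun {a} ha => ⟨inv_mem ha.1, fun g hg => by
            have hg' : a⁻¹ * g * a⁻¹⁻¹ ∈ Q := (mem_normalizer_iff.1 (inv_mem ha.1) g).1 hg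
            have h2 := N.inv_mem (ha.2 _ hg')
            rwa [show ((a⁻¹ * g * a⁻¹⁻¹)⁻¹ * (a * (a⁻¹ * g * a⁻¹⁻¹) * a⁻¹))⁻¹ = g⁻¹ * (a⁻¹ * g * a⁻¹⁻¹) by group] at h2⟩ }
      rw [commutator_le]
      intro g hg a ha
      have hC : a ∈ C := (zpowers_le.2 (show (x₀ : G) ∈ C from ⟨hT x₀.2, fun g hg =>
        ⟨Q.mul_mem (Q.inv_mem hg) (hconj _ x₀.2 g hg), hb g hg⟩⟩)) ha
      have h3 := hconjN g (le_normalizer hg) _ (hC.2 _ (Q.inv_mem hg))
      rw [commutatorElement_def]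
      have h4 : g * (g⁻¹⁻¹ * (a * g⁻¹ * a⁻¹)) * g⁻¹ = g * (g * a * g⁻¹ * a⁻¹) * g⁻¹ := by group
      rw [h4] at h3
      have := hconjN g⁻¹ (inv_mem (le_normalizer hg)) _ h3
      rwa [show g⁻¹ * (g * (g * a * g⁻¹ * a⁻¹) * g⁻¹) * g⁻¹⁻¹ = g * a * g⁻¹ * a⁻¹ by group] at this
    intro g hg x hx
    have hg' := hsup.ge hg
    obtain ⟨n, hn, c, hc, rfl⟩ := (CfsgLib.Solvable.mem_sup_of_le_normalizer
      (inf_le_left.trans (CfsgLib.Solvable.le_normalizer_commutator_left Q _))).1 hg'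
    have hcR : c ∈ K ⊓ centralizer (R : Set G) := by
      rw [← hprime _ x₀.2 hne]
      exact ⟨hQK hc.1, mem_centralizer_singleton_iff.2 (hc.2 _ (mem_zpowers _)).symm⟩
    have hcx : x * c * x⁻¹ = c := mul_inv_eq_iff_eq_mul.2 (hcR.2 x hx)
    have hnN := hcommN hn
    have h1 : n⁻¹ * (x * n * x⁻¹) ∈ N := N.mul_mem (N.inv_mem hnN) (hconjN x (hT hx) n hnN)
    have h2 := hconjN c⁻¹ (inv_mem (le_normalizer hc.1)) _ h1
    have e : (n * c)⁻¹ * (x * (n * c) * x⁻¹) = c⁻¹ * (n⁻¹ * (x * n * x⁻¹)) * c⁻¹⁻¹ := by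
      rw [show x * (n * c) * x⁻¹ = (x * n * x⁻¹) * (x * c * x⁻¹) by group, hcx]; group
    rw [e]
    exact hU ⟨hQP h2.1, h2.2⟩
  -- `P = Q F`
  haveI := hFn
  have hPQ : ∀ u ∈ P, ∃ g ∈ Q, u * g⁻¹ ∈ F ∨ g⁻¹ * u ∈ F := by
    intro u hu
    have hpg : IsPGroup q (P.map (QuotientGroup.mk' F)) := by
      rintro ⟨_, p, hp, rfl⟩
      obtain ⟨k, hk⟩ := hPq p hp
      exact ⟨k, Subtype.ext (by
        rw [SubgroupClass.coe_pow, OneMemClass.coe_one, ← map_pow]
        exact (QuotientGroup.eq_one_iff _).2 hk)⟩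
    let φ : P →* P.map (QuotientGroup.mk' F) := (QuotientGroup.mk' F).subgroupMap P
    have hφ : Function.Surjective φ := (QuotientGroup.mk' F).subgroupMap_surjective P
    have htop : (⊤ : Subgroup (P.map (QuotientGroup.mk' F))) = (T : Subgroup P).map φ :=
      (T.mapSurjective hφ).is_maximal' (hpg.to_subgroup ⊤) le_top
    obtain ⟨t, ht, hte⟩ := htop.le (mem_top (φ ⟨u, hu⟩))
    exact ⟨t, mem_map_of_mem P.subtype ht, Or.inr ((QuotientGroup.eq).1 (congrArg Subtype.val hte))⟩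
  rw [commutator_le]
  intro u hu x hx
  obtain ⟨g, hg, hgu⟩ := hPQ u hu
  have hf : g⁻¹ * u ∈ F := hgu.elim (fun h => by
    have := hFn.conj_mem _ h g⁻¹
    simpa [mul_assoc] using this) id
  have h1 : g * (g⁻¹ * (x * g * x⁻¹))⁻¹ * g⁻¹ ∈ F :=
    hFn.conj_mem _ (F.inv_mem (hQR g hg x hx)) g
  have h2 : x * (g⁻¹ * u)⁻¹ * x⁻¹ ∈ F := hFn.conj_mem _ (F.inv_mem hf) x
  have e : ⁅u, x⁆ = (g * (g⁻¹ * u) * (x * (g⁻¹ * u)⁻¹ * x⁻¹) * g⁻¹) *
      (g * (g⁻¹ * (x * g * x⁻¹))⁻¹ * g⁻¹) := by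
    rw [commutatorElement_def]; group
  rw [e]
  refine F.mul_mem ?_ h1
  have := hFn.conj_mem _ (F.mul_mem hf h2) g
  simpa only [mul_assoc] using this


/-- Let G be a solvable group of odd order, K a normal subgroup and R a subgroup with G = KR and the orders of K and R coprime. Suppose K ∩ C_G(x) = K ∩ C_G(R) for every non-identity x ∈ R, and F(K) ∩ C_G(R) = 1. Then [K, R] is contained in the Fitting subgroup of K. -/
theorem result {G : Type*} [Group G] [Finite G] [Group.IsSolvable G] (hodd : Odd (Nat.card G)) (K R : Subgroup G) [K.Normal] (hKR : K ⊔ R = ⊤) (hcop : (Nat.card K).Coprime (Nat.card R))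
    (hprime : ∀ x ∈ R, x ≠ 1 → K ⊓ Subgroup.centralizer ({x} : Set G) = (K ⊓ Subgroup.centralizer (R : Set G)))
    (hF : Cfsg.fittingOf K ⊓ Subgroup.centralizer (R : Set G) = ⊥) :
    ⁅K, R⁆ ≤ Cfsg.fittingOf K := by
  haveI hFn : (Cfsg.fittingOf K).Normal := by
    refine normalizer_eq_top_iff.1 (eq_top_iff.2 fun g _ => ?_)
    haveI := CfsgLib.Solvable.fittingSubgroup_characteristic (↥K)
    exact CfsgLib.Solvable.PrimeAction.le_normalizer_map_char K (Cfsg.fittingSubgroup K)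
      (by rw [normalizer_eq_top]; exact mem_top g)
  set f := QuotientGroup.mk' (Cfsg.fittingOf K) with hfdef
  set Kb := K.map f with hKb
  set Rb := R.map f with hRb
  haveI : Kb.Normal := Subgroup.Normal.map inferInstance f (QuotientGroup.mk'_surjective _)
  have hsolKb : Group.IsSolvable Kb := inferInstance
  set E := Cfsg.fittingOf Kb with hEdef
  have hER : E ≤ centralizer (Rb : Set (G ⧸ Cfsg.fittingOf K)) := by
    refine le_of_forall_prime_power fun q hq e he hk => ?_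
    haveI := Fact.mk hq
    obtain ⟨k, hk⟩ := hk
    have heO : e ∈ Cfsg.piCoreOf {q} Kb := by
      rw [← CfsgLib.OddOrder.piCoreOf_singleton_fittingOf]
      refine CfsgLib.OddOrder.mem_piCoreOf_of_nilpotent (CfsgLib.OddOrder.fittingOf_isNilpotent Kb) he ?_
      intro s hs hd
      rw [hk] at hd
      exact (Nat.prime_dvd_prime_iff_eq hs hq).1 (hs.dvd_of_dvd_pow hd)
    set P := (Cfsg.piCoreOf {q} Kb).comap f with hP
    haveI : (Cfsg.piCoreOf {q} Kb).Normal := by
      refine normalizer_eq_top_iff.1 (eq_top_iff.2 fun g _ => ?_)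
      exact CfsgLib.OddOrder.normalizer_le_normalizer_piCoreOf _ Kb (by rw [normalizer_eq_top]; exact mem_top g)
    haveI : P.Normal := inferInstance
    have hFP : Cfsg.fittingOf K ≤ P := fun x hx => by
      show f x ∈ Cfsg.piCoreOf {q} Kb
      rw [show f x = 1 from (QuotientGroup.eq_one_iff x).2 hx]; exact one_mem _
    have hPK : P ≤ K := by
      intro x hx
      obtain ⟨y, hy, hye⟩ := CfsgLib.OddOrder.piCoreOf_le {q} Kb hx
      have h1 : y⁻¹ * x ∈ Cfsg.fittingOf K := QuotientGroup.eq.1 hye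
      simpa using mul_mem hy (CfsgLib.OddOrder.fittingOf_le K h1)
    have hPq : ∀ u ∈ P, ∃ j : ℕ, u ^ q ^ j ∈ Cfsg.fittingOf K := by
      intro u hu
      obtain ⟨j, hj⟩ := CfsgLib.OddOrder.piCoreOf_singleton_isPGroup q Kb ⟨f u, hu⟩
      refine ⟨j, (QuotientGroup.eq_one_iff _).1 ?_⟩
      show f (u ^ q ^ j) = 1
      rw [map_pow]
      exact congrArg Subtype.val hj
    have hkey := key hodd K R hcop hprime hFn hF q P hPK hFP hPq
    obtain ⟨u, rfl⟩ := QuotientGroup.mk'_surjective _ e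
    rintro _ ⟨x, hx, rfl⟩
    have h1 : f ⁅u, x⁆ = 1 := (QuotientGroup.eq_one_iff _).2 (hkey (commutator_mem_commutator heO hx))
    rw [map_commutatorElement, commutatorElement_eq_one_iff_mul_comm] at h1
    exact h1.symm
  have hKE : E ≤ Kb := CfsgLib.OddOrder.fittingOf_le Kb
  have hEn : Kb ≤ normalizer (E : Set (G ⧸ Cfsg.fittingOf K)) := CfsgLib.OddOrder.le_normalizer_fittingOf Kb
  have hEK : ⁅E, Kb⁆ ≤ E := by
    rw [commutator_le]
    intro a ha b hb
    rw [commutatorElement_def, show a * b * a⁻¹ * b⁻¹ = a * (b * a⁻¹ * b⁻¹) by group]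
    exact mul_mem ha ((mem_normalizer_iff.1 (hEn hb) _).1 (inv_mem ha))
  have hER0 : ⁅E, Rb⁆ = ⊥ := commutator_eq_bot_iff_le_centralizer.2 hER
  have h1 : ⁅⁅Rb, E⁆, Kb⁆ = ⊥ := by rw [commutator_comm Rb E, hER0, commutator_bot_left]
  have h2 : ⁅⁅E, Kb⁆, Rb⁆ = ⊥ := eq_bot_iff.2 ((commutator_mono hEK le_rfl).trans hER0.le)
  have h3 : ⁅⁅Kb, Rb⁆, E⁆ = ⊥ := commutator_commutator_eq_bot_of_rotate h1 h2
  have hKR' : ⁅Kb, Rb⁆ ≤ E := by
    refine le_trans (le_inf ?_ (commutator_eq_bot_iff_le_centralizer.1 h3))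
      (CfsgLib.OddOrder.inf_centralizer_fittingOf_le hsolKb)
    exact commutator_le_left _ _
  have hcop' : (Nat.card Rb).Coprime (Nat.card Kb) :=
    Nat.Coprime.of_dvd (card_map_dvd _ _) (card_map_dvd _ _) hcop.symm
  have h4 : ⁅Kb, Rb⁆ = ⊥ := by
    rw [← CfsgLib.Solvable.commutator_commutator_eq (A := Rb) (K := Kb) (by rw [normalizer_eq_top]; exact le_top)
      hcop' (Or.inr hsolKb)]
    exact eq_bot_iff.2 ((commutator_mono hKR' le_rfl).trans hER0.le)
  intro x hx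
  refine (QuotientGroup.eq_one_iff x).1 ?_
  have : f x ∈ ⁅K, R⁆.map f := mem_map_of_mem f hx
  rwa [map_commutator, ← hKb, ← hRb, h4, mem_bot] at this

end Cfsg.Agent.S1445
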