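import Cfsg.Statements.S1450
import Cfsg.Agent.Lib.OddOrder.RankTwo

set_option autoImplicit false
open Cfsg

namespace Cfsg.Agent.S1450

/-- Let G be a solvable group of odd order, p a prime dividing its order with G having no elementary abelian subgroup of order p ^ 3. Then every prime dividing the index of O_{p'}(G) is at most p; if p = 3 or p is the smallest prime divisor of #G then G has a normal p-complement; the derived subgroup G' has a normal p-complement; every subgroup of G' of order coprime to p lies in O_{p'}(G'); and G/O_{p',p}(G) is abelian of order coprime to p. -/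
theorem result {G : Type*} [Group G] [Finite G] [Group.IsSolvable G] (hodd : Odd (Nat.card G)) (p : ℕ) [Fact p.Prime] (hpG : p ∣ Nat.card G) (hr : Cfsg.PRankLE p 2 G) :
    (∀ q : ℕ, q.Prime → q ∣ (Cfsg.pPrimeCore p G).index → q ≤ p) ∧
      ((p = 3 ∨ ∀ q : ℕ, q.Prime → q ∣ Nat.card G → p ≤ q) → Cfsg.HasNormalPComplement p G) ∧
      Cfsg.HasNormalPComplement p ↥(commutator G) ∧
      (∀ L : Subgroup ↥(commutator G), (Nat.card L).Coprime p → L ≤ Cfsg.pPrimeCore p ↥(commutator G)) ∧
      commutator G ≤ Cfsg.pPrimePCore p G ∧ ((Cfsg.pPrimePCore p G).index).Coprime p := by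
  have hp2 : p ≠ 2 := by
    intro h
    subst h
    exact (Nat.not_even_iff_odd.2 hodd) (even_iff_two_dvd.2 hpG)
  obtain ⟨hc, hidx, hq⟩ := CfsgLib.OddOrder.rank_two_structure hodd hp2 hr
  set O := Cfsg.pPrimeCore p G with hO
  have hOn : O.Normal := CfsgLib.Solvable.pPrimeCore_normal p G
  have hOc : (Nat.card O).Coprime p := CfsgLib.Solvable.pPrimeCore_card_coprime p G
  set K := O.subgroupOf (commutator G) with hK
  have hKn : K.Normal := inferInstance
  have hKc : (Nat.card K).Coprime p :=
    hOc.coprime_dvd_left (Subgroup.card_comap_dvd_of_injective _ _ (commutator G).subtype_injective)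
  have hKi : IsPGroup p ((commutator G) ⧸ K) := by
    intro x
    obtain ⟨g, rfl⟩ := QuotientGroup.mk'_surjective K x
    have hg := hc g.2
    rw [CfsgLib.OddOrder.pPrimePCore_eq_comap_barHom, Subgroup.mem_comap] at hg
    obtain ⟨k, hk⟩ := CfsgLib.Solvable.pCore_isPGroup p _ ⟨_, hg⟩
    refine ⟨k, ?_⟩
    rw [← map_pow]
    refine (QuotientGroup.eq_one_iff _).2 (Subgroup.mem_subgroupOf.2 ?_)
    refine CfsgLib.OddOrder.mem_pPrimeCore_of_barHom_eq_one ?_
    have := congrArg Subtype.val hk
    simpa using this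
  obtain ⟨k, hk⟩ := hKi.exists_card_eq
  rw [← Subgroup.index_eq_card] at hk
  refine ⟨hq, fun h => ?_, CfsgLib.OddOrder.hasNormalPComplement_of_index hKc hk, ?_, hc, hidx⟩
  · have hpow : ∃ n, O.index = p ^ n := by
      refine ⟨_, Nat.eq_prime_pow_of_unique_prime_dvd O.index_ne_zero_of_finite ?_⟩
      intro q hqp hqd
      have hqG : q ∣ Nat.card G := hqd.trans (Subgroup.index_dvd_card O)
      have hle := hq q hqp hqd
      rcases h with rfl | h
      · have h2 : q ≠ 2 := by
          rintro rfl
          exact (Nat.not_even_iff_odd.2 hodd) (even_iff_two_dvd.2 hqG)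
        have := hqp.two_le
        omega
      · exact le_antisymm hle (h q hqp hqG)
    obtain ⟨n, hn⟩ := hpow
    exact CfsgLib.OddOrder.hasNormalPComplement_of_index hOc hn
  · intro L hL
    have hLK : L ≤ K := by
      intro x hx
      rw [← QuotientGroup.eq_one_iff (N := K), ← orderOf_eq_one_iff]
      obtain ⟨i, hi⟩ := IsPGroup.iff_orderOf.mp hKi (x : (commutator G) ⧸ K)
      refine Nat.eq_one_of_dvd_coprimes (hL.pow_right i) ?_ (dvd_of_eq hi)
      exact (orderOf_map_dvd (QuotientGroup.mk' K) x).trans
        (L.orderOf_dvd_natCard hx)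
    exact hLK.trans (CfsgLib.Solvable.le_pPrimeCore hKn hKc)

end Cfsg.Agent.S1450
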