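import Cfsg.Statements.S1454
import Cfsg.Agent.Lib.OddOrder.NarrowAction
import Cfsg.Agent.Lib.Solvable.Core
import Cfsg.Agent.S1449

set_option autoImplicit false
open Cfsg

namespace Cfsg.Agent.S1454

open CfsgLib.OddOrder.Operator
open scoped commutatorElement

theorem isPGroup_commutator {Γ Q : Type*} [Group Γ] [Finite Γ] [Group Q] [Finite Q] {p : ℕ}
    [hp : Fact p.Prime] (hp2 : p ≠ 2) (hQ : IsPGroup p Q) (hn : Cfsg.IsNarrow p Q)
    (hr : ¬ Cfsg.PRankLE p 2 Q) {φ : Γ →* MulAut Q} (hφ : Function.Injective φ) :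
    IsPGroup p (commutator Γ) := by
  rintro ⟨g, hg⟩
  obtain ⟨k, m, hm, hkm⟩ :=
    Nat.exists_eq_pow_mul_and_not_dvd (orderOf_pos g).ne' p hp.out.ne_one
  refine ⟨k, Subtype.ext ?_⟩
  show g ^ p ^ k = 1
  have ho : orderOf (g ^ p ^ k) = m := by
    rw [orderOf_pow' _ (pow_ne_zero _ hp.out.ne_zero), hkm, Nat.gcd_eq_right ⟨m, rfl⟩,
      Nat.mul_div_cancel_left _ (pow_pos hp.out.pos _)]
  refine hφ ((trivial_of_narrow hp2 hQ hn hr (g ^ p ^ k) ?_ (Or.inl (pow_mem hg _))).trans
    (map_one φ).symm)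
  rw [orderOf_injective φ hφ, ho]
  exact (hp.out.coprime_iff_not_dvd.2 hm).symm

theorem prime_action {Γ Q : Type*} [Group Γ] [Finite Γ] [Group Q] [Finite Q] {p : ℕ}
    [hp : Fact p.Prime] (hp2 : p ≠ 2) (hQ : IsPGroup p Q) (hr : Cfsg.PRankLE p 2 Q)
    {φ : Γ →* MulAut Q} (hφ : Function.Injective φ) (hodd : Odd (Nat.card Γ))
    (hq : (Nat.card Γ).Prime) (hqd : ¬ Nat.card Γ ∣ p * (p - 1)) :
    2 * Nat.card Γ ∣ p + 1 ∧
      (NoTrivialQuotient φ → ¬ IsMulCommutative Q → Nat.card Q = p ^ 3) := by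
  haveI := Fact.mk hq
  have hqp : Nat.card Γ ≠ p := fun h => hqd (h ▸ Dvd.intro _ rfl)
  have hcop : (Nat.card Γ).Coprime p := (Nat.coprime_primes hq hp.out).2 hqp
  have hpow : ∀ a : Γ, φ a ^ Nat.card Γ = 1 := fun a => by
    rw [← map_pow, pow_card_eq_one', map_one]
  have hcopa : ∀ a : Γ, (orderOf (φ a)).Coprime p := fun a =>
    hcop.coprime_dvd_left (orderOf_dvd_of_pow_eq_one (hpow a))
  have hq2 : Nat.card Γ ∣ p ^ 2 - 1 := by
    by_contra hq2
    obtain ⟨a, ha⟩ : ∃ a : Γ, a ≠ 1 := by
      haveI : Nontrivial Γ := Finite.one_lt_card_iff_nontrivial.1 hq.one_lt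
      exact exists_ne 1
    obtain ⟨D, hDc, hDs, hD⟩ := CfsgLib.Fusion.SmallFix.exists_small_characteristic hQ
    haveI := hDc
    have hexp : ∀ x ∈ D, x ^ p = 1 := fun x hx => (hDs x hx).resolve_right fun h => hp2 h.1
    refine ha (hφ ((hD _ (hcopa a) ?_).trans (map_one φ).symm))
    rcases eq_or_ne D ⊥ with hD0 | hD0
    · intro x hx
      rw [hD0, Subgroup.mem_bot] at hx
      rw [hx, map_one]
    set S := D ⊓ Subgroup.centralizer (D : Set Q) with hS
    have hSinv : Inv φ S := (inv_of_characteristic φ D).inf (inv_of_characteristic φ D).centralizer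
    have hfixS : ∀ x ∈ S, φ a x = x := fixed_of_card_le (hpow a) hQ hqp hq2 S (hSinv a)
      (hr S ⟨⟨fun u w => Subtype.ext (w.2.2 u u.2.1)⟩⟩ fun u hu => hexp u hu.1)
    obtain ⟨z, hzD, hzc, hzo⟩ := CfsgLib.PGroup.exists_central_orderOf_eq hQ D hD0
    have hpS : p ≤ Nat.card S := by
      rw [← hzo, ← Nat.card_zpowers]
      exact Subgroup.card_le_of_le (Subgroup.zpowers_le.2
        ⟨hzD, fun u _ => Subgroup.mem_center_iff.1 hzc u⟩)
    have hcard := Cfsg.Agent.S3771.result (hQ.to_subgroup D) (rankLE_subgroup hr D)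
      fun x => Subtype.ext (by simpa using hexp x x.2)
    have himg : Nat.card (D.map (QuotientGroup.mk' S)) ≤ p ^ 2 := by
      have h1 : Nat.card (D.map (QuotientGroup.mk' S)) * Nat.card S = Nat.card D := by
        rw [← Subgroup.relIndex_bot_left S, ← Subgroup.relIndex_bot_left D,
          ← Subgroup.relIndex_mul_relIndex ⊥ S D bot_le inf_le_left, mul_comm]
        congr 1
        rw [← Subgroup.relIndex_bot_left, ← Subgroup.relIndex_comap, MonoidHom.comap_bot,
          QuotientGroup.ker_mk']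
      refine Nat.le_of_mul_le_mul_right ?_ hp.out.pos
      calc Nat.card (D.map (QuotientGroup.mk' S)) * p
          ≤ Nat.card (D.map (QuotientGroup.mk' S)) * Nat.card S := Nat.mul_le_mul_left _ hpS
        _ ≤ p ^ 2 * p := by rw [h1, ← pow_succ]; exact hcard
    intro x hx
    refine fix_of_fix_quot hQ (hcopa a) hfixS ((QuotientGroup.eq_one_iff _).1 ?_)
    have h2 := fixed_of_card_le (b := quot φ S hSinv a)
      (by rw [← map_pow, pow_card_eq_one', map_one]) (hQ.to_quotient S) hqp hq2
      (D.map (QuotientGroup.mk' S)) (inv_map_quot hSinv (inv_of_characteristic φ D) a) himg _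
      (Subgroup.mem_map_of_mem _ hx)
    rw [quot_mk] at h2
    show QuotientGroup.mk' S (x⁻¹ * φ a x) = 1
    rw [map_mul, map_inv, h2, inv_mul_cancel]
  refine ⟨?_, fun hnt hna => ?_⟩
  · have h1 : Nat.card Γ ∣ p + 1 := by
      rw [show p ^ 2 - 1 = (p + 1) * (p - 1) by rw [← Nat.sq_sub_sq, one_pow]] at hq2
      exact (hq.dvd_mul.1 hq2).resolve_right fun h => hqd (h.mul_left p)
    refine Nat.Coprime.mul_dvd_of_dvd_of_dvd ?_ ?_ h1
    · exact (Nat.prime_two.coprime_iff_not_dvd).2 hodd.not_two_dvd_nat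
    · exact even_iff_two_dvd.1 (Odd.add_one (hp.out.odd_of_ne_two hp2))
  · haveI : Nontrivial Q := by
      by_contra h
      rw [not_nontrivial_iff_subsingleton] at h
      exact hna ⟨⟨fun x y => Subsingleton.elim _ _⟩⟩
    have hp3 := three_lt hp2 hQ hr hodd hcop hnt
    rcases expBound_or_exists_cube hp3 hQ hr hnt with hb | ⟨E, hEn, hEinv, hexp, hE⟩
    · exact absurd (isMulCommutative_of_expBound hp3 hQ hb hnt hcop) hna
    obtain ⟨-, C, hsup, hcomm, hC, -⟩ := structure_of_cube hp2 hQ hr hodd hnt hEinv hexp hE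
    have hCz : C ≤ Subgroup.center Q := by
      intro c hc
      rw [Subgroup.mem_center_iff]
      have hle : E ⊔ C ≤ Subgroup.centralizer {c} := sup_le
        (fun e he => Subgroup.mem_centralizer_singleton_iff.2 (hcomm e he c hc))
        (fun d hd => Subgroup.mem_centralizer_singleton_iff.2 (setLike_mul_comm (s := C) hd hc))
      exact fun g => Subgroup.mem_centralizer_singleton_iff.1 (hle (hsup ▸ Subgroup.mem_top g))
    haveI hZc : IsCyclic (Subgroup.center Q) := by
      by_contra hZ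
      obtain ⟨B, hB, hBn, ⟨hBc, hBp⟩, hB2⟩ :=
        CfsgLib.PGroup.exists_normal_elementary_sq hp2 hQ (Subgroup.center Q) hZ
      obtain ⟨e, heE, heB⟩ : ∃ e ∈ E, e ∉ B := by
        by_contra h
        push Not at h
        have := Subgroup.card_le_of_le (show E ≤ B from h)
        rw [hE, hB2, Nat.pow_le_pow_iff_right hp.out.one_lt] at this
        omega
      exact heB (mem_of_rank hr hB2 hBp (fun u hu w hw => setLike_mul_comm hu hw)
        (fun u hu => (Subgroup.mem_center_iff.1 (hB hu) e).symm) (hexp e heE))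
    have hfix : ∀ (a : Γ), ∀ x ∈ Subgroup.center Q, φ a x = x := by
      intro a x hx
      let θ := restrict φ (Subgroup.center Q) (inv_of_characteristic φ _)
      haveI : Finite (MulAut (Subgroup.center Q)) := Finite.of_injective _ DFunLike.coe_injective
      have h1 : orderOf (θ a) ∣ Nat.card Γ :=
        orderOf_dvd_of_pow_eq_one (by rw [← map_pow, pow_card_eq_one', map_one])
      obtain ⟨n, hn⟩ := (hQ.to_subgroup (Subgroup.center Q)).exists_card_eq
      have h2 : orderOf (θ a) ∣ Nat.totient (p ^ n) := by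
        rw [← hn, ← IsCyclic.card_mulAut]; exact orderOf_dvd_natCard _
      have h3 : θ a = 1 := by
        rw [← orderOf_eq_one_iff]
        rcases (Nat.dvd_prime hq).1 h1 with h | h
        · exact h
        exfalso
        rw [h] at h2
        rcases n with _ | n
        · rw [pow_zero, Nat.totient_one] at h2
          exact hq.not_dvd_one h2
        · rw [Nat.totient_prime_pow_succ hp.out] at h2
          rcases hq.dvd_mul.1 h2 with h | h
          · exact hqp ((Nat.prime_dvd_prime_iff_eq hq hp.out).1 (hq.dvd_of_dvd_pow h))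
          · exact hqd (h.mul_left p)
      have := congrArg (fun u : MulAut (Subgroup.center Q) =>
        ((u ⟨x, hx⟩ : Subgroup.center Q) : Q)) h3
      simpa [θ, restrict_apply] using this
    have htop := hnt E hEn hEinv fun a r => by
      obtain ⟨e, he, c, hc, rfl⟩ :=
        Subgroup.mem_sup_of_normal_left.1 (hsup.symm ▸ Subgroup.mem_top r : r ∈ E ⊔ C)
      rw [map_mul, hfix a c (hCz hc),
        show φ a e * c * (e * c)⁻¹ = φ a e * e⁻¹ by group]
      exact mul_mem (hEinv a e he) (inv_mem he)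
    rw [← hE, htop, Subgroup.card_top]


/-- Let G be a finite group, p an odd prime, R a narrow p-subgroup and A a solvable subgroup of odd order normalizing R with A ∩ C_G(R) = 1. Then [A, A] ≤ O_p(A) and the index of O_p(A) in A is coprime to p; if R has an elementary abelian subgroup of order p ^ 3 then the order of every element of A of order coprime to p divides p − 1; and if the order of A is a prime not dividing p(p − 1), then 2·#A divides p + 1, and if in addition [R, A] = R and R is non-abelian then #R = p ^ 3. -/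
theorem result {G : Type*} [Group G] [Finite G] (p : ℕ) [Fact p.Prime] (hp : p ≠ 2) (R A : Subgroup G) (hR : IsPGroup p R) (hRn : Cfsg.IsNarrow p R)
    (hA : (A ≤ Subgroup.normalizer (R : Set G))) (hAs : Group.IsSolvable A) (hAodd : Odd (Nat.card A)) (hfaith : A ⊓ Subgroup.centralizer (R : Set G) = ⊥) :
    (commutator ↥A ≤ Cfsg.pCore p ↥A ∧ ((Cfsg.pCore p ↥A).index).Coprime p) ∧
      (¬ Cfsg.PRankLE p 2 R → ∀ a ∈ A, (orderOf a).Coprime p → orderOf a ∣ p - 1) ∧
      ((Nat.card A).Prime → ¬ Nat.card A ∣ p * (p - 1) →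
        2 * Nat.card A ∣ p + 1 ∧ (⁅R, A⁆ = R → ¬ IsMulCommutative R → Nat.card R = p ^ 3)) := by
  let φ : A →* MulAut R := R.normalizerMonoidHom.comp (Subgroup.inclusion hA)
  have hφc : ∀ (a : A) (x : R), ((φ a x : R) : G) = a * x * (a : G)⁻¹ := fun _ _ => rfl
  have hφ : Function.Injective φ := by
    rw [← MonoidHom.ker_eq_bot_iff, eq_bot_iff]
    intro a ha
    have h : (a : G) ∈ A ⊓ Subgroup.centralizer (R : Set G) := ⟨a.2, fun x hx => by
      have := congrArg (fun u : MulAut R => ((u ⟨x, hx⟩ : R) : G)) (MonoidHom.mem_ker.1 ha)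
      simp only [hφc, MulAut.one_apply] at this
      exact (mul_inv_eq_iff_eq_mul.1 this).symm⟩
    rw [hfaith, Subgroup.mem_bot] at h
    exact Subgroup.mem_bot.2 (Subtype.ext h)
  have hcomm : IsPGroup p (commutator A) := by
    by_cases hr : Cfsg.PRankLE p 2 R
    · have h := Cfsg.Agent.S1449.result p hp R A hR hr hA hAs hAodd hfaith
      rw [← Subgroup.map_subtype_commutator] at h
      exact h.of_equiv ((commutator A).equivMapOfInjective A.subtype A.subtype_injective).symm
    · exact isPGroup_commutator hp hR hRn hr hφ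
  have hle : commutator A ≤ Cfsg.pCore p A := CfsgLib.Solvable.le_pCore inferInstance hcomm
  have hb : ¬ Cfsg.PRankLE p 2 R → ∀ a ∈ A, (orderOf a).Coprime p → orderOf a ∣ p - 1 := by
    intro hr a ha hcop
    have hco : orderOf (⟨a, ha⟩ : A) = orderOf a := Subgroup.orderOf_mk a ha
    have h1 : φ (⟨a, ha⟩ ^ (p - 1)) = 1 := by
      refine trivial_of_narrow hp hR hRn hr _ (hcop.coprime_dvd_left ?_) (Or.inr ⟨_, rfl⟩)
      exact ((orderOf_map_dvd φ _).trans (orderOf_pow_dvd _)).trans (dvd_of_eq hco)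
    rw [← hco]
    exact orderOf_dvd_of_pow_eq_one (hφ (h1.trans (map_one φ).symm))
  refine ⟨⟨hle, ?_⟩, hb, fun hq hqd => ?_⟩
  · haveI hOn : (Cfsg.pCore p A).Normal := CfsgLib.Solvable.pCore_normal p A
    refine (((Fact.out : p.Prime).coprime_iff_not_dvd).2 fun hdvd => ?_).symm
    rw [Subgroup.index_eq_card] at hdvd
    obtain ⟨y, hy⟩ := exists_prime_orderOf_dvd_card' p hdvd
    obtain ⟨y, rfl⟩ := QuotientGroup.mk'_surjective (Cfsg.pCore p A) y
    set N := Cfsg.pCore p A ⊔ Subgroup.zpowers y with hN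
    have hNn : N.Normal := ⟨fun n hn g => by
      rw [show g * n * g⁻¹ = ⁅g, n⁆ * n by rw [commutatorElement_def]; group]
      exact mul_mem (Subgroup.mem_sup_left (hle
        (Subgroup.commutator_mem_commutator (Subgroup.mem_top g) (Subgroup.mem_top n)))) hn⟩
    have hyO : y ∉ Cfsg.pCore p A := fun h => by
      rw [show QuotientGroup.mk' (Cfsg.pCore p A) y = 1 from (QuotientGroup.eq_one_iff y).2 h,
        orderOf_one] at hy
      exact (Fact.out : p.Prime).one_lt.ne hy
    have hyp : y ^ p ∈ Cfsg.pCore p A := (QuotientGroup.eq_one_iff _).1 (by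
      show QuotientGroup.mk' (Cfsg.pCore p A) (y ^ p) = 1
      have := pow_orderOf_eq_one (QuotientGroup.mk' (Cfsg.pCore p A) y)
      rwa [hy, ← map_pow] at this)
    have hNp : IsPGroup p N := by
      obtain ⟨k, hk⟩ := (CfsgLib.Solvable.pCore_isPGroup p A).exists_card_eq
      exact IsPGroup.of_card (n := k + 1)
        (by rw [hN, CfsgLib.PGroup.card_sup_zpowers hyO hyp, hk, pow_succ'])
    exact hyO (CfsgLib.Solvable.le_pCore hNn hNp (Subgroup.mem_sup_right (Subgroup.mem_zpowers y)))
  · have hr : Cfsg.PRankLE p 2 R := by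
      by_contra hr
      haveI : Nontrivial A := Finite.one_lt_card_iff_nontrivial.1 hq.one_lt
      obtain ⟨a, ha⟩ := exists_ne (1 : A)
      have ho : orderOf (a : G) = Nat.card A := by
        rw [Subgroup.orderOf_coe]
        exact ((Nat.dvd_prime hq).1 (orderOf_dvd_natCard a)).resolve_left
          fun h => ha (orderOf_eq_one_iff.1 h)
      have hqp : Nat.card A ≠ p := fun h => hqd (h ▸ Dvd.intro _ rfl)
      have := hb hr a a.2 (ho ▸ (Nat.coprime_primes hq Fact.out).2 hqp)
      rw [ho] at this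
      exact hqd (this.mul_left p)
    obtain ⟨h1, h2⟩ := prime_action hp hR hr hφ hAodd hq hqd
    refine ⟨h1, fun hRA hna => h2 ?_ hna⟩
    intro D _ _ hdisp
    have hle : ⁅R, A⁆ ≤ D.map R.subtype := by
      rw [Subgroup.commutator_le]
      intro r hr' a ha
      refine ⟨_, inv_mem (hdisp ⟨a, ha⟩ ⟨r, hr'⟩), ?_⟩
      simp only [map_inv, map_mul, Subgroup.coe_subtype, hφc, commutatorElement_def]
      group
    rw [hRA] at hle
    refine eq_top_iff.2 fun x _ => ?_
    obtain ⟨y, hy, he⟩ := hle x.2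
    exact (R.subtype_injective he) ▸ hy

end Cfsg.Agent.S1454
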