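import Cfsg.Statements.S1456
import Cfsg.Agent.Lib.OddOrder.FittingNarrow

set_option autoImplicit false
open Cfsg

namespace Cfsg.Agent.S1456

open CfsgLib.OddOrder Subgroup

open scoped commutatorElement

/-- Let G be a solvable group of odd order, p a prime, and E an elementary abelian p-subgroup of the Fitting subgroup F(G) such that F(G) ∩ C_G(E) has no elementary abelian subgroup of order q ^ 3 for any prime q. Then the derived subgroup of G is contained in F(G). -/
theorem result {G : Type*} [Group G] [Finite G] [Group.IsSolvable G] (hodd : Odd (Nat.card G)) (p : ℕ) [Fact p.Prime] (E : Subgroup G) (hE : E ≤ Cfsg.fittingSubgroup G) (hEe : Cfsg.IsElementaryAbelian p E)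
    (hr : Cfsg.RankLE 2 ↥(Cfsg.fittingSubgroup G ⊓ Subgroup.centralizer (E : Set G))) :
    commutator G ≤ Cfsg.fittingSubgroup G := by
  set F := Cfsg.fittingSubgroup G with hFdef
  haveI : F.Normal := CfsgLib.Solvable.fittingSubgroup_normal G
  have hFn : Group.IsNilpotent F := CfsgLib.Solvable.fittingSubgroup_isNilpotent G
  have htop : ∀ N : Subgroup G, (⊤ : Subgroup G) ≤ normalizer (N : Set G) → N.Normal := fun N h =>
    normalizer_eq_top_iff.1 (top_le_iff.1 h)
  have hF : Cfsg.fittingOf (⊤ : Subgroup G) ≤ F :=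
    CfsgLib.Solvable.le_fittingSubgroup (htop _ (le_normalizer_fittingOf ⊤)) (fittingOf_isNilpotent ⊤)
  haveI : Group.IsSolvable (⊤ : Subgroup G) :=
    Group.isSolvable_of_isSolvable_injective (subtype_injective ⊤)
  have hoddT : Odd (Nat.card (⊤ : Subgroup G)) := by rwa [Subgroup.card_top]
  refine le_trans ?_ hF
  rw [_root_.commutator_def]
  refine commutator_le_fittingOf_of_key fun t ht g hg hgo => ?_
  haveI := Fact.mk ht
  set O := Cfsg.piCoreOf {t} (⊤ : Subgroup G) with hO
  have hOp : IsPGroup t O := piCoreOf_singleton_isPGroup t ⊤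
  have hOF : O ≤ F :=
    (le_fittingOf (piCoreOf_le _ _) (le_normalizer_piCoreOf _ _) hOp.isNilpotent).trans hF
  by_cases hO1 : O = ⊥
  · rw [hO1]
    intro y hy
    rw [Subgroup.coe_bot, Set.mem_singleton_iff] at hy
    rw [hy, one_mul, mul_one]
  have ht2 : t ≠ 2 := by
    rintro rfl
    obtain ⟨n, hn⟩ := hOp.exists_card_eq
    rcases n with _ | n
    · exact hO1 (Subgroup.card_eq_one.1 (hn.trans (pow_zero 2)))
    · exact (Nat.not_even_iff_odd.2 hodd) (even_iff_two_dvd.2
        ((hn ▸ dvd_pow_self 2 n.succ_ne_zero : 2 ∣ Nat.card O).trans O.card_subgroup_dvd_card))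
  refine mem_centralizer_of_narrow ht2 hoddT le_top (le_normalizer_piCoreOf _ _) hOp ?_ hg hgo
  by_cases htp : t = p
  · subst htp
    have hEO : E ≤ O := by
      intro x hx
      have h1 : x ∈ Cfsg.piCoreOf {t} F := mem_piCoreOf_of_nilpotent hFn (hE hx) fun q hq hd => by
        have h2 := hd.trans (orderOf_dvd_of_pow_eq_one (hEe.2 x hx))
        exact (Nat.prime_dvd_prime_iff_eq hq ht).1 h2
      refine le_piCoreOf le_top ?_ (piCoreOf_isPiSubgroup _ F) h1
      exact (normalizer_eq_top F).ge.trans (normalizer_le_normalizer_piCoreOf _ _)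
    refine isNarrow_of_rank_centralizer ht2 hOp (E.subgroupOf O) ?_ ?_
    · haveI := hEe.1
      exact ⟨⟨⟨fun a b => Subtype.ext (Subtype.ext
        (setLike_mul_comm (mem_subgroupOf.1 a.2) (mem_subgroupOf.1 b.2)))⟩⟩,
        fun a ha => Subtype.ext (hEe.2 _ (mem_subgroupOf.1 ha))⟩
    · set C := centralizer (E.subgroupOf O : Set O)
      intro A hA hAt
      haveI := hA
      by_contra hlt
      set A' := (A.map C.subtype).map O.subtype
      have hA' : Cfsg.IsElementaryAbelian t A' := by
        haveI := map_isMulCommutative A C.subtype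
        refine ⟨map_isMulCommutative _ O.subtype, ?_⟩
        rintro _ ⟨_, ⟨a, ha, rfl⟩, rfl⟩
        rw [← map_pow, ← map_pow, hAt a ha, map_one, map_one]
      refine not_pRankLE_of_elementary (X := F ⊓ centralizer (E : Set G)) (le_inf ?_ ?_) hA' ?_
        (hr t ht)
      · exact (map_subtype_le _).trans hOF
      · rintro _ ⟨_, ⟨a, ha, rfl⟩, rfl⟩ e he
        exact congrArg Subtype.val (mem_centralizer_iff.1 a.2 ⟨e, hEO he⟩ (mem_subgroupOf.2 he))
      · rw [card_map_of_injective O.subtype_injective, card_map_of_injective C.subtype_injective]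
        exact not_le.1 hlt
  · refine Or.inl (CfsgLib.TwoFusion.PRank.pRankLE_mono (le_inf hOF ?_) (hr t ht))
    intro x hx e he
    haveI : O.Normal := htop O (le_normalizer_piCoreOf _ _)
    have hP : (Cfsg.piCoreOf {p} F).Normal :=
      htop _ ((normalizer_eq_top F).ge.trans (normalizer_le_normalizer_piCoreOf _ _))
    have heP : e ∈ Cfsg.piCoreOf {p} F := mem_piCoreOf_of_nilpotent hFn (hE he) fun q hq hd => by
      have h2 := hd.trans (orderOf_dvd_of_pow_eq_one (hEe.2 e he))
      exact (Nat.prime_dvd_prime_iff_eq hq Fact.out).1 h2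
    refine (Subgroup.commute_of_normal_of_disjoint _ _ hP inferInstance ?_ e x heP hx).eq
    exact disjoint_iff.2 (Subgroup.inf_eq_bot_of_coprime
      (IsPGroup.coprime_card_of_ne p t (Ne.symm htp) _ _ (piCoreOf_singleton_isPGroup p F) hOp))

end Cfsg.Agent.S1456
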