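import Cfsg.Statements.S1462
import Cfsg.Agent.Lib.OddOrder.PPrime

set_option autoImplicit false
open Cfsg

namespace Cfsg.Agent.S1462

/-- Let G be a finite solvable group, p an odd prime with G = O_{p',p,p'}(G), E an elementary abelian p-subgroup contained in no larger elementary abelian p-subgroup of G, and L a subgroup of order coprime to p normalized by E. Then L ≤ O_{p'}(G). -/
theorem result {G : Type*} [Group G] [Finite G] [Group.IsSolvable G] (p : ℕ) [Fact p.Prime] (hp : p ≠ 2) (hpl : Cfsg.PLengthLE p 1 G) (E L : Subgroup G) (hE : Cfsg.IsElementaryAbelian p E)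
    (hEmax : ∀ B : Subgroup G, Cfsg.IsElementaryAbelian p B → E ≤ B → B = E) (hL : (Nat.card L).Coprime p) (hEL : E ≤ Subgroup.normalizer (L : Set G)) :
    L ≤ Cfsg.pPrimeCore p G := by
  refine CfsgLib.OddOrder.inv_le_pPrimeCore_of_elementary hp hpl ?_ hE.1 (fun x hx hxp => ?_) hL hEL
  · intro e
    exact ⟨1, Subtype.ext (by simpa using hE.2 e e.2)⟩
  · have hc : ∀ y ∈ E, y * x = x * y := Subgroup.mem_centralizer_iff.1 hx
    have hB : Cfsg.IsElementaryAbelian p (Subgroup.closure ((E : Set G) ∪ {x})) := by
      have hcomm : ∀ u ∈ (E : Set G) ∪ {x}, ∀ v ∈ (E : Set G) ∪ {x}, u * v = v * u := by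
        rintro u (hu | rfl) v (hv | rfl)
        · exact congrArg Subtype.val (hE.1.is_comm.comm (⟨u, hu⟩ : E) ⟨v, hv⟩)
        · exact hc u hu
        · exact (hc v hv).symm
        · rfl
      refine ⟨Subgroup.isMulCommutative_closure hcomm, fun a ha => ?_⟩
      haveI := Subgroup.isMulCommutative_closure hcomm
      induction ha using Subgroup.closure_induction with
      | mem u hu =>
        rcases hu with hu | rfl
        exacts [hE.2 u hu, hxp]
      | one => exact one_pow p
      | mul u v hu hv hu' hv' =>
        rw [Commute.mul_pow (show Commute u v from Subgroup.mul_comm_of_mem_isMulCommutative _ hu hv), hu', hv', one_mul]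
      | inv u _ hu' => rw [inv_pow, hu', inv_one]
    rw [← hEmax _ hB fun y hy => Subgroup.subset_closure (Or.inl hy)]
    exact Subgroup.subset_closure (Or.inr rfl)

end Cfsg.Agent.S1462
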