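import Cfsg.Statements.S1477
import Cfsg.Agent.Lib.CN.Maximal

set_option autoImplicit false
open Cfsg

namespace Cfsg.Agent.S1477

/-- Let G be a finite group in which every non-identity element has nilpotent centralizer, and H a nilpotent subgroup not properly contained in any nilpotent subgroup. Then the order of H is coprime to its index; if the order of H is not a prime power then H ∩ gHg⁻¹ = 1 whenever gHg⁻¹ ≠ H; and if H ∩ gHg⁻¹ = 1 whenever gHg⁻¹ ≠ H, then C_G(x) ≤ H for every non-identity x ∈ H. -/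
theorem result {G : Type*} [Group G] [Finite G] (hCN : Cfsg.IsCNGroup G) (H : Subgroup G) (hH : Group.IsNilpotent H)
    (hmax : ∀ L : Subgroup G, Group.IsNilpotent L → H ≤ L → L = H) :
    (Nat.card H).Coprime H.index ∧
      (¬ IsPrimePow (Nat.card H) → Nat.card H ≠ 1 → ∀ g : G, H.map (MulAut.conj g).toMonoidHom ≠ H → H ⊓ H.map (MulAut.conj g).toMonoidHom = ⊥) ∧
      ((∀ g : G, H.map (MulAut.conj g).toMonoidHom ≠ H → H ⊓ H.map (MulAut.conj g).toMonoidHom = ⊥) → ∀ x ∈ H, x ≠ 1 → Subgroup.centralizer ({x} : Set G) ≤ H) := by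
  have hM : CfsgLib.CN.IsMaxNil H := ⟨hH, hmax⟩
  refine ⟨hM.coprime hCN, fun hpp h1 g hne => ?_, fun hti x hx hx1 => ?_⟩
  · rw [Subgroup.eq_bot_iff_forall]
    rintro x ⟨hxH, hxK⟩
    by_contra hx1
    refine hne (hM.eq_of_mem_mem hCN (hM.map_conj g) (fun y hy hy1 => ?_) hxH hxK hx1).symm
    refine (hM.map_conj g).centralizer_le_of_two_primes hCN ?_ hy hy1
    rw [Subgroup.card_map_of_injective (MulAut.conj g).injective]
    exact CfsgLib.CN.two_primes_of_not_isPrimePow h1 Nat.card_pos.ne' hpp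
  · by_cases hpp : IsPrimePow (Nat.card H)
    · obtain ⟨p, k, hp, -, hk⟩ := (isPrimePow_nat_iff _).mp hpp
      haveI := Fact.mk hp
      have hHp : IsPGroup p H := IsPGroup.of_card hk.symm
      obtain ⟨P, hP⟩ := hHp.exists_le_sylow
      obtain rfl : (P : Subgroup G) = H := hmax P P.2.isNilpotent hP
      obtain ⟨Q, hQ⟩ := (hM.isPGroup_centralizer hCN hHp hx hx1).exists_le_sylow
      obtain ⟨g, hg⟩ := MulAction.exists_smul_eq G P Q
      have hQe : (Q : Subgroup G) = (P : Subgroup G).map (MulAut.conj g).toMonoidHom := by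
        rw [← hg]
        rfl
      by_cases he : (P : Subgroup G).map (MulAut.conj g).toMonoidHom = P
      · exact hQ.trans (hQe.trans he).le
      · have hmem : x ∈ (P : Subgroup G) ⊓ (P : Subgroup G).map (MulAut.conj g).toMonoidHom :=
          ⟨hx, hQe ▸ hQ (Subgroup.mem_centralizer_singleton_iff.mpr rfl)⟩
        rw [hti g he] at hmem
        exact absurd (Subgroup.mem_bot.mp hmem) hx1
    · refine hM.centralizer_le_of_two_primes hCN
        (CfsgLib.CN.two_primes_of_not_isPrimePow ?_ Nat.card_pos.ne' hpp) hx hx1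
      rw [Ne, Subgroup.card_eq_one]
      exact fun h => hx1 (Subgroup.mem_bot.mp (h ▸ hx))

end Cfsg.Agent.S1477
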