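import Cfsg.Statements.S1478
import Cfsg.Agent.Lib.CN.Final

set_option autoImplicit false
open Cfsg

namespace Cfsg.Agent.S1478

/-- Let G be a minimal simple group of odd order in which every non-identity element has nilpotent centralizer. Then no subgroup of G is a three-step group with respect to any prime. -/
theorem result {G : Type*} [Group G] [Finite G] (hG : Cfsg.IsMinSimpleOddOrder G) (hCN : Cfsg.IsCNGroup G) :
    ∀ (H : Subgroup G) (p : ℕ), ¬ Cfsg.IsThreeStepGroup p ↥H := by
  exfalso
  obtain ⟨hodd, hsimple, hnc, -⟩ := hG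
  haveI := hsimple
  haveI : Group.IsSolvable G := CfsgLib.CN.isSolvable_of_cn hodd hCN
  refine hnc ⟨⟨fun a b => ?_⟩⟩
  have h : commutator G = ⊥ :=
    ((inferInstance : (commutator G).Normal).eq_bot_or_eq_top).resolve_right
      (Group.IsSolvable.commutator_lt_top_of_nontrivial G).ne
  exact ((commutator_eq_bot_iff G).mp h).is_comm.comm a b

end Cfsg.Agent.S1478
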