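import Cfsg.Statements.S1480
import Cfsg.Agent.Lib.Case.TransitivityGen

set_option autoImplicit false
open Cfsg
open scoped commutatorElement

namespace Cfsg.Agent.S1480

/-- Let G be a finite group and p a prime such that the normalizer of every nontrivial p-subgroup of G is p-constrained; if p = 2 assume also that the Sylow 2-subgroups of G have nilpotency class at most 2. Let E be an abelian p-subgroup containing an elementary abelian subgroup of order p ^ 3 and containing every element of p-power order of C_G(E). Then for every prime q ≠ p, any two maximal E-invariant q-subgroups of G are conjugate by an element of O_{p'}(C_G(E)). -/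
theorem result {G : Type*} [Group G] [Finite G] (p : ℕ) [Fact p.Prime]
    (hloc : ∀ T : Subgroup G, IsPGroup p T → T ≠ ⊥ → Cfsg.IsPConstrained p ↥(Subgroup.normalizer (T : Set G)))
    (h2 : p = 2 → ∀ S : Sylow p G, Group.IsNilpotent (S : Subgroup G) ∧ Group.nilpotencyClass (S : Subgroup G) ≤ 2)
    (E : Subgroup G) (hEp : IsPGroup p E) (hEc : IsMulCommutative E) (hE3 : ¬ Cfsg.PRankLE p 2 E)
    (hEfull : ∀ x ∈ Subgroup.centralizer (E : Set G), IsPGroup p (Subgroup.zpowers x) → x ∈ E)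
    (q : ℕ) [Fact q.Prime] (hqp : q ≠ p) :
    ∀ Q₁ ∈ Cfsg.maxInvSubgroups ⊤ E {q}, ∀ Q₂ ∈ Cfsg.maxInvSubgroups ⊤ E {q},
        ∃ k ∈ Cfsg.piCoreOf (Cfsg.primesNotDvd p) (Subgroup.centralizer (E : Set G)), Q₂ = Q₁.map (MulAut.conj k).toMonoidHom := by
  obtain ⟨E0, hE0, hel, hcard⟩ : ∃ E0 ≤ E, (∀ e ∈ E0, e ^ p = 1) ∧ p ^ 3 ≤ Nat.card E0 := by
    simp only [Cfsg.PRankLE] at hE3
    push Not at hE3
    obtain ⟨A, -, hA, hlt⟩ := hE3
    refine ⟨A.map E.subtype, Subgroup.map_subtype_le _, ?_, ?_⟩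
    · rintro _ ⟨a, ha, rfl⟩
      rw [← map_pow, hA a ha, map_one]
    · rw [Subgroup.card_subtype]
      obtain ⟨i, hi⟩ := (hEp.to_subgroup A).exists_card_eq
      rw [hi] at hlt ⊢
      exact Nat.pow_le_pow_right (Fact.out (p := p.Prime)).pos
        ((Nat.pow_lt_pow_iff_right (Fact.out (p := p.Prime)).one_lt).1 hlt)
  have hcl : p = 2 → ∀ S : Subgroup G, IsPGroup p S →
      ∀ a ∈ S, ∀ b ∈ S, ∀ c ∈ S, Commute ⁅a, b⁆ c := by
    intro hp S hS a ha b hb c hc
    obtain ⟨T, hT⟩ := hS.exists_le_sylow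
    haveI := (h2 hp T).1
    have h := Subgroup.lowerCentralSeries_eq_bot_of_nilpotencyClass_le (h2 hp T).2
    rw [Subgroup.lowerCentralSeries_succ, Subgroup.lowerCentralSeries_succ,
      Subgroup.lowerCentralSeries_zero, Subgroup.commutator_eq_bot_iff_le_centralizer] at h
    exact (h (Subgroup.commutator_mem_commutator (hT ha) (hT hb)) c (hT hc)).symm
  refine CfsgLib.Case.transitivity hqp hEp hE0 hel hcard fun e he he1 K hKH hK hEK => ?_
  refine CfsgLib.Case.invariant_le_core_of_constrained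
    (hloc _ (hEp.to_le (Subgroup.zpowers_le.2 he)) (Subgroup.zpowers_ne_bot.2 he1)) hEp hEfull
    hcl ?_ hKH hK hEK
  exact fun x hx => Subgroup.centralizer_le_normalizer _ (fun y hy => by
    obtain ⟨i, rfl⟩ := hy
    exact congr_arg Subtype.val (mul_comm' ((⟨e, he⟩ : E) ^ i) ⟨x, hx⟩))

end Cfsg.Agent.S1480
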