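import Cfsg.Statements.S1481
import Cfsg.Agent.Lib.OddOrder.BenderInvariant

set_option autoImplicit false
open Cfsg

namespace Cfsg.Agent.S1481

/-- Let G be a finite group and H a local subgroup (the normalizer of a nontrivial subgroup of prime-power order) not properly contained in any local subgroup; let F = F(H), suppose at least two primes divide #F, put X = H ∩ C_G(F), let M ≤ F with F ∩ C_G(M) ≤ M, and let R be a solvable subgroup normalized by M and by X. Then for every prime q not dividing #F there is exactly one maximal M-invariant q-subgroup of R, and it is a Sylow q-subgroup of the largest normal subgroup of R of order coprime to #F. -/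
theorem result {G : Type*} [Group G] [Finite G] (H : Subgroup G) (hH : Cfsg.IsLocalSubgroup H) (hHmax : ∀ L : Subgroup G, Cfsg.IsLocalSubgroup L → H ≤ L → L = H)
    (hF2 : 2 ≤ (Nat.card (Cfsg.fittingOf H)).primeFactors.card)
    (M : Subgroup G) (hM : M ≤ Cfsg.fittingOf H) (hCM : Cfsg.fittingOf H ⊓ Subgroup.centralizer (M : Set G) ≤ M)
    (R : Subgroup G) (hR : Group.IsSolvable R) (hMR : M ≤ Subgroup.normalizer (R : Set G))
    (hXR : H ⊓ Subgroup.centralizer (Cfsg.fittingOf H : Set G) ≤ Subgroup.normalizer (R : Set G))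
    (q : ℕ) [Fact q.Prime] (hq : ¬ q ∣ Nat.card (Cfsg.fittingOf H)) :
    ∃! Q : Subgroup G, Q ∈ Cfsg.maxInvSubgroups R M {q} ∧
      (∀ Q' : Subgroup G, Q' ∈ Cfsg.maxInvSubgroups R M {q} →
        Q' ≤ Cfsg.piCoreOf (Cfsg.primesNotDvd (Nat.card (Cfsg.fittingOf H))) R ∧
        ¬ q ∣ Q'.relIndex (Cfsg.piCoreOf (Cfsg.primesNotDvd (Nat.card (Cfsg.fittingOf H))) R)) := by
  obtain ⟨hbot, hle⟩ := CfsgLib.OddOrder.inv_le_piCoreOf_of_bender hH hHmax hF2 hM hCM hR hMR hXR
  set π' := Cfsg.primesNotDvd (Nat.card (Cfsg.fittingOf H)) with hπ'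
  set K := Cfsg.piCoreOf π' R with hK
  have hKR : K ≤ R := CfsgLib.OddOrder.piCoreOf_le π' R
  have hKπ : Cfsg.IsPiSubgroup π' K := CfsgLib.OddOrder.piCoreOf_isPiSubgroup π' R
  have hMK : M ≤ Subgroup.normalizer (K : Set G) :=
    hMR.trans (CfsgLib.OddOrder.normalizer_le_normalizer_piCoreOf π' R)
  have hcop : (Nat.card M).Coprime (Nat.card K) :=
    CfsgLib.OddOrder.coprime_of_piSubgroup_primesNotDvd
      (fun t _ htM => htM.trans (Subgroup.card_dvd_of_le hM)) hKπ
  have hsol : Group.IsSolvable M ∨ Group.IsSolvable K := Or.inr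
    (@Group.isSolvable_of_isSolvable_injective _ _ _ _ _ (Subgroup.inclusion_injective hKR) hR)
  have hone : ∀ P₁ P₂ : Sylow q K,
      M ≤ Subgroup.normalizer ((P₁ : Subgroup K).map K.subtype : Set G) →
      M ≤ Subgroup.normalizer ((P₂ : Subgroup K).map K.subtype : Set G) → P₁ = P₂ := by
    intro P₁ P₂ h1 h2
    obtain ⟨c, hc, hcP⟩ :=
      CfsgLib.Solvable.exists_invariant_sylow_conj hMK hcop hsol P₁ P₂ h1 h2
    obtain ⟨p, hp, hpd, -⟩ := CfsgLib.OddOrder.exists_other_prime hF2 0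
    haveI := Fact.mk hp
    have hAM : CfsgLib.OddOrder.fitCenterPart H p ≤ M := (CfsgLib.OddOrder.piCoreOf_le _ _).trans
      (le_trans (inf_le_inf_left _ (Subgroup.centralizer_le hM)) hCM)
    have hWH : K ⊓ Subgroup.centralizer (M : Set G) ≤ H :=
      inf_le_right.trans ((Subgroup.centralizer_le hAM).trans
        ((Subgroup.centralizer_le_normalizer _).trans
          (CfsgLib.OddOrder.normalizer_fitCenterPart_of_maximal_local hH hHmax hpd).le))
    have hW := hbot (K ⊓ Subgroup.centralizer (M : Set G)) ⟨inf_le_left.trans hKR,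
      CfsgLib.OddOrder.IsPiSubgroup.anti hKπ inf_le_left, fun m hm =>
        Subgroup.inf_normalizer_le_normalizer_inf (Subgroup.mem_inf.2 ⟨hMK hm,
          CfsgLib.OddOrder.le_normalizer_centralizer_of_le Subgroup.le_normalizer hm⟩)⟩ hWH
    have hc1 : c = 1 := Subtype.ext (Subgroup.mem_bot.1 (hW ▸ Subgroup.mem_inf.2 ⟨c.2, hc⟩))
    rw [hc1, map_one, one_smul] at hcP
    exact hcP
  obtain ⟨P, -, hPM⟩ := CfsgLib.Solvable.exists_invariant_sylow_ge hMK hcop hsol q
    (bot_le : (⊥ : Subgroup G) ≤ K) IsPGroup.of_bot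
    (by rw [Subgroup.normalizer_eq_top]; exact le_top)
  set Q := (P : Subgroup K).map K.subtype with hQ
  have hQmem : ∀ P' : Sylow q K,
      M ≤ Subgroup.normalizer ((P' : Subgroup K).map K.subtype : Set G) →
      (P' : Subgroup K).map K.subtype ∈ Cfsg.invSubgroups R M {q} := fun P' h =>
    ⟨(Subgroup.map_subtype_le _).trans hKR,
      CfsgLib.OddOrder.isPiSubgroup_singleton.2 (P'.2.map _), h⟩
  have hall : ∀ Y ∈ Cfsg.invSubgroups R M {q}, Y ≤ Q := by
    intro Y hY
    obtain ⟨P', hYP, hP'⟩ := CfsgLib.Solvable.exists_invariant_sylow_ge hMK hcop hsol q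
      (hle (Fact.out) hq Y hY) (CfsgLib.OddOrder.isPiSubgroup_singleton.1 hY.2.1) hY.2.2
    rw [hQ, ← hone P' P hP' hPM]
    exact hYP
  have huniq : ∀ Q' ∈ Cfsg.maxInvSubgroups R M {q}, Q' = Q := fun Q' hQ' =>
    (hQ'.2 Q (hQmem P hPM) (hall Q' hQ'.1)).symm
  refine ⟨Q, ⟨⟨hQmem P hPM, fun S hS hQS => le_antisymm (hall S hS) hQS⟩, fun Q' hQ' => ?_⟩,
    fun Q' hQ' => huniq Q' hQ'.1⟩
  rw [huniq Q' hQ']
  refine ⟨Subgroup.map_subtype_le _, ?_⟩
  rw [Subgroup.relIndex, hQ, Subgroup.subgroupOf,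
    Subgroup.comap_map_eq_self_of_injective K.subtype_injective]
  exact P.not_dvd_index

end Cfsg.Agent.S1481
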