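import Cfsg.Statements.S1482
import Cfsg.Agent.Lib.OddOrder.Bender
-- import your own Cfsg.Agent.* helpers here

set_option autoImplicit false
open Cfsg

namespace Cfsg.Agent.S1482

/-- Let G be a minimal simple group of odd order, H a maximal subgroup whose Fitting subgroup F has at least two prime divisors, and M a subgroup of F containing the centre of F such that the only M-invariant subgroup of G of order coprime to #F is the trivial one. Then H is the only maximal subgroup of G containing M. -/
theorem result {G : Type*} [Group G] [Finite G] (hG : Cfsg.IsMinSimpleOddOrder G) (H : Subgroup G) (hH : IsCoatom H) (hF2 : 2 ≤ (Nat.card (Cfsg.fittingOf H)).primeFactors.card)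
    (M : Subgroup G) (hM : M ≤ Cfsg.fittingOf H) (hZM : Cfsg.fittingOf H ⊓ Subgroup.centralizer (Cfsg.fittingOf H : Set G) ≤ M)
    (hinv : ∀ Y ∈ Cfsg.invSubgroups ⊤ M (Cfsg.primesNotDvd (Nat.card (Cfsg.fittingOf H))), Y = ⊥) :
    ∀ L : Subgroup G, IsCoatom L → M ≤ L → L = H := by
  intro L hL hML
  refine CfsgLib.OddOrder.eq_of_fitCenter_le hG hH hL hF2 (hZM.trans hML) fun s hs hsd => ?_
  by_contra hns
  haveI := Fact.mk hs
  have hY : Cfsg.piCoreOf {s} L ∈ Cfsg.invSubgroups ⊤ M
      (Cfsg.primesNotDvd (Nat.card (Cfsg.fittingOf H))) :=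
    ⟨le_top, CfsgLib.OddOrder.IsPiSubgroup.mono (CfsgLib.OddOrder.piCoreOf_isPiSubgroup _ _)
      (Set.singleton_subset_iff.2 ⟨hs, hns⟩),
      hML.trans (CfsgLib.OddOrder.le_normalizer_piCoreOf _ _)⟩
  have h := CfsgLib.OddOrder.normalizer_piCoreOf_singleton hG hL (s := s) hsd
  rw [hinv _ hY, Subgroup.normalizer_eq_top] at h
  exact hL.1 h.symm

end Cfsg.Agent.S1482
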