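import Cfsg.Statements.S1485
import Cfsg.Agent.Lib.Char.Induced

set_option autoImplicit false
open Cfsg

namespace Cfsg.Agent.S1485

/-- Let H be a normal subgroup of the finite group G and θ an irreducible character of H. On H, the function induced from θ equals r times the sum of the distinct G-conjugates of θ, where r is the number of elements of G fixing θ under conjugation divided by the order of H (the index of H in the inertia group). -/
theorem result {G : Type*} [Group G] [Fintype G] (H : Subgroup G) [hN : H.Normal] (θ : H → ℂ) (hθ : Cfsg.IsIrrCharacter H θ) : (fun h : H => Cfsg.indFun H θ h) = ((Nat.card {g : G // ∀ h : H, θ ⟨g * h * g⁻¹, hN.conj_mem h h.2 g⟩ = θ h} : ℂ) / (Nat.card H : ℂ)) • ∑ᶠ ψ ∈ {ψ : H → ℂ | ∃ g : G, ψ = fun h : H => θ ⟨g * h * g⁻¹, hN.conj_mem h h.2 g⟩}, ψ := by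
  classical
  let Φ : G → (H → ℂ) := fun g h => θ ⟨g * h * g⁻¹, hN.conj_mem h h.2 g⟩
  set S := Nat.card {g : G // ∀ h : H, θ ⟨g * h * g⁻¹, hN.conj_mem h h.2 g⟩ = θ h} with hS
  have hset : {ψ : H → ℂ | ∃ g : G, ψ = fun h : H => θ ⟨g * h * g⁻¹, hN.conj_mem h h.2 g⟩} =
      ((Finset.univ.image Φ : Finset (H → ℂ)) : Set (H → ℂ)) := by
    ext ψ
    simp [Φ, eq_comm]
  rw [hset, finsum_mem_coe_finset]
  have hΦ : ∀ x x₀ : G, Φ x = Φ x₀ ↔
      ∀ h : H, θ ⟨x * x₀⁻¹ * h * (x * x₀⁻¹)⁻¹, hN.conj_mem h h.2 _⟩ = θ h := by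
    intro x x₀
    constructor
    · intro e h
      have := congrFun e ⟨x₀⁻¹ * h * x₀, by simpa using hN.conj_mem h h.2 x₀⁻¹⟩
      simpa [Φ, mul_assoc] using this
    · intro e
      funext h
      have := e ⟨x₀ * h * x₀⁻¹, hN.conj_mem h h.2 x₀⟩
      simpa [Φ, mul_assoc] using this
  have hfib : ∀ x₀ : G, (Finset.univ.filter fun x => Φ x = Φ x₀).card = S := by
    intro x₀
    rw [← Fintype.card_subtype, ← Nat.card_eq_fintype_card]
    exact Nat.card_congr ((Equiv.mulRight x₀⁻¹).subtypeEquiv (fun x => hΦ x x₀))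
  funext h
  have hsum : ∑ x : G, Φ x h = (S : ℂ) * ∑ ψ ∈ Finset.univ.image Φ, ψ h := by
    rw [Finset.sum_comp (fun ψ : H → ℂ => ψ h) Φ, Finset.mul_sum]
    refine Finset.sum_congr rfl fun ψ hψ => ?_
    obtain ⟨x₀, _, rfl⟩ := Finset.mem_image.1 hψ
    rw [hfib x₀, nsmul_eq_mul]
  simp only [Pi.smul_apply, smul_eq_mul, Finset.sum_apply]
  rw [CfsgLib.Char.indFun_apply, div_mul_eq_mul_div, ← hsum, div_eq_inv_mul]
  congr 1
  refine Fintype.sum_equiv (Equiv.inv G) _ _ fun x => ?_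
  show _ = Φ x⁻¹ h
  rw [CfsgLib.Char.extendByZero_apply_mem H θ (by simpa using hN.conj_mem h h.2 x⁻¹)]
  simp [Φ]

end Cfsg.Agent.S1485
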