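import Cfsg.Statements.S1486
import Cfsg.Agent.Lib.Char.Orth
import Cfsg.Agent.Lib.Char.Induced
import Cfsg.Agent.Lib.Char.Virtual

set_option autoImplicit false
open Cfsg

namespace Cfsg.Agent.S1486

/-- Let H be a normal subgroup of the finite group G and θ, φ irreducible characters of H. If φ is a G-conjugate of θ then the functions induced from θ and φ coincide; if φ is not a G-conjugate of θ then the induced functions are orthogonal. -/
theorem result {G : Type*} [Group G] [Fintype G] (H : Subgroup G) [hN : H.Normal] (θ φ : H → ℂ) (hθ : Cfsg.IsIrrCharacter H θ) (hφ : Cfsg.IsIrrCharacter H φ) : ((∃ g : G, φ = fun h : H => θ ⟨g * h * g⁻¹, hN.conj_mem h h.2 g⟩) → Cfsg.indFun H φ = Cfsg.indFun H θ) ∧ ((¬ ∃ g : G, φ = fun h : H => θ ⟨g * h * g⁻¹, hN.conj_mem h h.2 g⟩) → Cfsg.classInner (Cfsg.indFun H φ) (Cfsg.indFun H θ) = 0) := by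
  classical
  let c : G → (H →* H) := fun g => (MulAut.conjNormal g : MulAut H).toMonoidHom
  have hc : ∀ (g : G) (h : H), c g h = ⟨g * h * g⁻¹, hN.conj_mem h h.2 g⟩ :=
    fun g h => Subtype.ext (MulAut.conjNormal_apply g h)
  have hconj : ∀ g : G, Cfsg.IsIrrCharacter H (fun h : H => θ (c g h)) := by
    intro g
    refine CfsgLib.Char.IsCharacter.isIrrCharacter_of_classInner_self
      (CfsgLib.Char.IsCharacter.comp (CfsgLib.Char.IsIrrCharacter.isCharacter hθ) (c g)) ?_
    rw [← CfsgLib.Char.classInner_irr_self hθ, Cfsg.classInner, Cfsg.classInner]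
    congr 1
    exact Fintype.sum_equiv (MulAut.conjNormal g : MulAut H).toEquiv _ _ (fun h => rfl)
  constructor
  · rintro ⟨g, rfl⟩
    funext z
    rw [CfsgLib.Char.indFun_apply, CfsgLib.Char.indFun_apply]
    congr 1
    refine Fintype.sum_equiv (Equiv.mulRight g⁻¹) _ _ fun x => ?_
    have e : (x * g⁻¹)⁻¹ * z * (x * g⁻¹) = g * (x⁻¹ * z * x) * g⁻¹ := by simp [mul_assoc]
    show _ = Cfsg.extendByZero H θ ((x * g⁻¹)⁻¹ * z * (x * g⁻¹))
    rw [e]
    by_cases h : x⁻¹ * z * x ∈ H
    · rw [CfsgLib.Char.extendByZero_apply_mem H _ h,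
        CfsgLib.Char.extendByZero_apply_mem H θ (hN.conj_mem _ h g)]
    · rw [CfsgLib.Char.extendByZero_of_notMem H _ h,
        CfsgLib.Char.extendByZero_of_notMem H θ]
      intro h'
      exact h (by simpa [mul_assoc] using hN.conj_mem _ h' g⁻¹)
  · intro hno
    haveI : Fintype H := Fintype.ofFinite H
    rw [CfsgLib.Char.classInner_indFun _ _ _ (CfsgLib.Char.isClassFunction_indFun _ _)]
    have : (fun h : H => Cfsg.indFun H θ h) =
        (Nat.card H : ℂ)⁻¹ • ∑ x : G, (fun h : H => θ (c x⁻¹ h)) := by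
      funext h
      rw [CfsgLib.Char.indFun_apply, Pi.smul_apply, Finset.sum_apply, smul_eq_mul]
      congr 1
      refine Finset.sum_congr rfl fun x _ => ?_
      rw [CfsgLib.Char.extendByZero_apply_mem H θ (by simpa using hN.conj_mem h h.2 x⁻¹), hc]
      simp
    rw [this, CfsgLib.Char.classInner_smul_right, CfsgLib.Char.classInner_sum_right,
      Finset.sum_eq_zero, mul_zero]
    intro x _
    apply CfsgLib.Char.classInner_irr_of_ne hφ (hconj x⁻¹)
    intro e
    exact hno ⟨x⁻¹, e.trans (funext fun h => by rw [hc])⟩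

end Cfsg.Agent.S1486
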