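import Cfsg.Statements.S1488
import Cfsg.Agent.Lib.Char.Induced

set_option autoImplicit false
open Cfsg

namespace Cfsg.Agent.S1488

/-- Let A be a normal subgroup of the finite group G contained in the subgroup H, let θ be a function on H and θ₁ a function on the image of H in G ⧸ A whose composite with the projection is θ. Then the function induced from θ₁ to G ⧸ A, composed with the projection G → G ⧸ A, equals the function induced from θ to G. -/
theorem result {G : Type*} [Group G] [Fintype G] (A H : Subgroup G) [A.Normal] (hAH : A ≤ H) [Fintype (G ⧸ A)] [Fintype ↥(H.map (QuotientGroup.mk' A))] (θ : H → ℂ) (θ₁ : ↥(H.map (QuotientGroup.mk' A)) → ℂ) (hθ : ∀ x : H, θ₁ ⟨QuotientGroup.mk' A x, Subgroup.mem_map_of_mem _ x.2⟩ = θ x) (g : G) : Cfsg.indFun (H.map (QuotientGroup.mk' A)) θ₁ (QuotientGroup.mk' A g) = Cfsg.indFun H θ g := by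
  classical
  have hmem : ∀ y : G, QuotientGroup.mk' A y ∈ (H.map (QuotientGroup.mk' A)) ↔ y ∈ H := by
    intro y
    refine ⟨fun hy => ?_, Subgroup.mem_map_of_mem _⟩
    obtain ⟨z, hz, e⟩ := Subgroup.mem_map.1 hy
    have := QuotientGroup.eq.1 e
    simpa using H.mul_mem hz (hAH this)
  have hext : ∀ y : G, Cfsg.extendByZero (H.map (QuotientGroup.mk' A)) θ₁ (QuotientGroup.mk' A y) = Cfsg.extendByZero H θ y := by
    intro y
    by_cases hy : y ∈ H
    · rw [CfsgLib.Char.extendByZero_apply_mem H θ hy,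
        CfsgLib.Char.extendByZero_apply_mem (H.map (QuotientGroup.mk' A)) θ₁ ((hmem y).2 hy)]
      exact hθ ⟨y, hy⟩
    · rw [CfsgLib.Char.extendByZero_of_notMem H θ hy,
        CfsgLib.Char.extendByZero_of_notMem (H.map (QuotientGroup.mk' A)) θ₁ (fun h => hy ((hmem y).1 h))]
  have hsum : ∀ F : G ⧸ A → ℂ, ∑ x : G, F (QuotientGroup.mk' A x) = (Nat.card A : ℂ) * ∑ q, F q := by
    intro F
    rw [← Finset.sum_fiberwise (g := fun x : G => QuotientGroup.mk' A x), Finset.mul_sum]
    refine Finset.sum_congr rfl fun q _ => ?_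
    rw [Finset.sum_congr rfl (fun x hx => by rw [(Finset.mem_filter.1 hx).2]), Finset.sum_const,
      nsmul_eq_mul]
    congr 2
    obtain ⟨x₀, rfl⟩ := QuotientGroup.mk'_surjective A q
    rw [← Fintype.card_subtype, ← Nat.card_eq_fintype_card]
    exact Nat.card_congr
      { toFun := fun x => ⟨x₀⁻¹ * x.1, QuotientGroup.eq.1 x.2.symm⟩
        invFun := fun a => ⟨x₀ * a, (QuotientGroup.eq.2 (by simp)).symm⟩
        left_inv := fun x => Subtype.ext (by simp)
        right_inv := fun a => Subtype.ext (by simp) }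
  have hcard : (Nat.card H : ℂ) = (Nat.card A : ℂ) * (Nat.card (H.map (QuotientGroup.mk' A)) : ℂ) := by
    have h1 := hsum (fun q => if q ∈ (H.map (QuotientGroup.mk' A)) then (1 : ℂ) else 0)
    simp only [hmem, Finset.sum_boole, ← Fintype.card_subtype] at h1
    simpa [Nat.card_eq_fintype_card] using h1
  have hA0 : (Nat.card A : ℂ) ≠ 0 := Nat.cast_ne_zero.2 Nat.card_pos.ne'
  rw [Cfsg.indFun, Cfsg.indFun, hcard]
  have h2 := hsum (fun q => Cfsg.extendByZero (H.map (QuotientGroup.mk' A)) θ₁ (q⁻¹ * QuotientGroup.mk' A g * q))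
  simp only [← map_inv, ← map_mul, hext] at h2
  rw [h2, mul_inv, mul_comm (Nat.card A : ℂ)⁻¹, mul_assoc, inv_mul_cancel_left₀ hA0]

end Cfsg.Agent.S1488
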