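import Cfsg.Statements.S1490
import Cfsg.Agent.Lib.OddChar.AbelInertia

set_option autoImplicit false
open Cfsg

namespace Cfsg.Agent.S1490

/-- Let H be a normal subgroup of the finite group G, θ an irreducible character of H with inertia group T, and suppose the commutator of any two elements of T lies in H (T/H abelian). Then there are a positive integer e and a finite set C of irreducible characters of G with e ^ 2 * |C| * |H| = |T|, such that the function induced from θ is e times the sum of the members of C and every member of C has degree [G:T] * e * θ(1). -/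
theorem result {G : Type*} [Group G] [Fintype G] (H T : Subgroup G) [hN : H.Normal] (θ : H → ℂ) (hθ : Cfsg.IsIrrCharacter H θ) (hT : ∀ g : G, g ∈ T ↔ ∀ h : H, θ ⟨g * h * g⁻¹, hN.conj_mem h h.2 g⟩ = θ h) (hab : ∀ x ∈ T, ∀ y ∈ T, x * y * x⁻¹ * y⁻¹ ∈ H) : ∃ (e : ℕ) (C : Finset (G → ℂ)), 0 < e ∧ (∀ χ ∈ C, Cfsg.IsIrrCharacter G χ) ∧ e ^ 2 * C.card * Nat.card H = Nat.card T ∧ Cfsg.indFun H θ = (e : ℂ) • ∑ χ ∈ C, χ ∧ ∀ χ ∈ C, χ 1 = (T.index : ℂ) * e * θ 1 := by
  classical
  haveI : Fintype H := Fintype.ofFinite H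
  haveI : Fintype T := Fintype.ofFinite T
  have hHT : H ≤ T := fun x hx => (hT x).2 fun h =>
    CfsgLib.Char.IsIrrCharacter.isClassFunction hθ h ⟨x, hx⟩
  haveI : Fintype (H.subgroupOf T) := Fintype.ofFinite _
  haveI : (H.subgroupOf T).Normal := inferInstance
  set θ' : H.subgroupOf T → ℂ := fun x => θ ⟨(x : T), Subgroup.mem_subgroupOf.mp x.2⟩
  have hθ' : Cfsg.IsIrrCharacter (H.subgroupOf T) θ' :=
    CfsgLib.OddChar.AbelInertia.isIrr_transport H T hHT hθ
  have hinv : ∀ g, CfsgLib.CharTwist.conjFun (H.subgroupOf T) θ' g = θ' := fun g =>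
    funext fun x => (hT g).1 g.2 ⟨(x : T), Subgroup.mem_subgroupOf.mp x.2⟩
  have hab' : ∀ x y : T, x * y * x⁻¹ * y⁻¹ ∈ H.subgroupOf T := fun x y =>
    Subgroup.mem_subgroupOf.2 (hab x x.2 y y.2)
  obtain ⟨ψ, hψ, hcon⟩ := CfsgLib.Clifford.exists_constituent
    (CfsgLib.Char.IsCharacter.indFun _ (CfsgLib.Char.IsIrrCharacter.isCharacter hθ'))
    (by
      rw [CfsgLib.Char.indFun_apply_one]
      exact mul_ne_zero (Nat.cast_ne_zero.2 Subgroup.index_ne_zero_of_finite)
        (CfsgLib.Char.IsIrrCharacter.apply_one_ne_zero hθ'))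
  rw [CfsgLib.Char.classInner_indFun _ _ _ (CfsgLib.Char.IsIrrCharacter.isClassFunction hψ)]
    at hcon
  have hcon' : Cfsg.classInner (fun n : H.subgroupOf T => ψ n) θ' ≠ 0 := fun h => hcon (by
    rw [← CfsgLib.Char.classInner_conj_symm, h, map_zero])
  obtain ⟨e, he, hres⟩ := CfsgLib.CharDeep.Cliff.res_eq_smul (H.subgroupOf T) hψ hθ' hinv hcon'
  obtain ⟨C, hC, hcard, hdec, hdeg, hne⟩ := CfsgLib.OddChar.AbelInertia.invariant_decomp
    (H.subgroupOf T) hab' hθ' hinv hψ he (fun h => congrFun hres h)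
  obtain ⟨D, hD, hDc, hDd, hD1⟩ := CfsgLib.OddChar.AbelInertia.induce_up H T hθ hT hHT e C hC hdec
    hne hdeg
  refine ⟨e, D, he, hD, ?_, hDd, hD1⟩
  rw [hDc, hcard, mul_comm, ← Nat.card_congr (Subgroup.subgroupOfEquivOfLe hHT).toEquiv]
  exact (H.subgroupOf T).card_mul_index

end Cfsg.Agent.S1490
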