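import Cfsg.Statements.S1494
import Cfsg.Agent.Lib.Char.Orth
import Mathlib.RingTheory.RootsOfUnity.Minpoly
import Cfsg.Agent.Lib.Char.Virtual
import Cfsg.Agent.Lib.Char.Integral

set_option autoImplicit false
open Cfsg

namespace Cfsg.Agent.S1494

/-- Let χ be a generalized character of the finite group G, p a prime, x an element of order p and y an element commuting with x. Then χ(x * y) − χ(y) = (1 − ε) * ω for some algebraic integer ω, where ε = exp(2πi/p). -/
theorem result {G : Type*} [Group G] [Finite G] (χ : G → ℂ) (hχ : Cfsg.IsGeneralizedCharacter G χ) (p : ℕ) (hp : p.Prime) (x y : G) (hx : orderOf x = p) (hxy : x * y = y * x) : ∃ ω : ℂ, IsIntegral ℤ ω ∧ χ (x * y) - χ y = (1 - Complex.exp (2 * Real.pi * Complex.I / p)) * ω := by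
  classical
  have hcar : ∀ φ : G → ℂ, Cfsg.IsCharacter G φ → ∃ ω : ℂ, IsIntegral ℤ ω ∧
      φ (x * y) - φ y = (1 - Complex.exp (2 * Real.pi * Complex.I / p)) * ω := by
    intro φ hφ
    have hε : IsPrimitiveRoot (Complex.exp (2 * Real.pi * Complex.I / p)) p :=
      Complex.isPrimitiveRoot_exp p hp.ne_zero
    set ε := Complex.exp (2 * Real.pi * Complex.I / p)
    set C := Subgroup.centralizer ({x} : Set G) with hC
    have : Fintype C := Fintype.ofFinite C
    have hxC : x ∈ C := Subgroup.mem_centralizer_singleton_iff.2 rfl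
    have hyC : y ∈ C := Subgroup.mem_centralizer_singleton_iff.2 hxy.symm
    have hmain : ∀ f : C → ℂ, Cfsg.IsCharacter C f → ∃ ω : ℂ, IsIntegral ℤ ω ∧
        f (⟨x, hxC⟩ * ⟨y, hyC⟩) - f ⟨y, hyC⟩ = (1 - ε) * ω := by
      intro f hf
      refine CfsgLib.Char.IsCharacter.induction (P := fun f : C → ℂ => ∃ ω : ℂ, IsIntegral ℤ ω ∧
        f (⟨x, hxC⟩ * ⟨y, hyC⟩) - f ⟨y, hyC⟩ = (1 - ε) * ω) hf ?_ ?_ ?_
      · exact ⟨0, isIntegral_zero, by simp⟩
      · rintro _ ⟨n, ρ, hρ, rfl⟩
        haveI := hρ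
        obtain ⟨c, hc⟩ := CfsgLib.Char.exists_scalar_of_commute ρ (ρ ⟨x, hxC⟩) (fun g => by
          rw [← map_mul, ← map_mul]
          congr 1
          exact Subtype.ext (Subgroup.mem_centralizer_singleton_iff.1 g.2).symm)
        have hcp : c ^ p = 1 := by
          have h1 : ρ (⟨x, hxC⟩ ^ p) = 1 := by
            rw [show (⟨x, hxC⟩ : C) ^ p = 1 from Subtype.ext (by
              simp [← hx, pow_orderOf_eq_one]), map_one]
          rw [map_pow, hc, smul_pow, one_pow] at h1
          have hn := CfsgLib.Char.finrank_pos_of_irreducible ρ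
          have := congrArg (LinearMap.trace ℂ (Fin n → ℂ)) h1
          rw [map_smul, LinearMap.trace_one, smul_eq_mul] at this
          exact (mul_eq_right₀ (Nat.cast_ne_zero.2 hn.ne')).1 this
        haveI : NeZero p := ⟨hp.ne_zero⟩
        obtain ⟨i, _, hi⟩ := hε.eq_pow_of_pow_eq_one hcp
        refine ⟨-(∑ k ∈ Finset.range i, ε ^ k) * ρ.character ⟨y, hyC⟩, ?_, ?_⟩
        · exact ((IsIntegral.sum _ fun k _ => ((hε.isIntegral hp.pos).pow k)).neg).mul
            (CfsgLib.Char.isIntegral_character ρ _)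
        · have h2 : ρ.character (⟨x, hxC⟩ * ⟨y, hyC⟩) = c * ρ.character ⟨y, hyC⟩ := by
            simp only [Representation.character, map_mul, hc, smul_mul_assoc, one_mul, map_smul,
              smul_eq_mul]
          rw [h2, ← hi]
          linear_combination (ρ.character ⟨y, hyC⟩) * geom_sum_mul_neg ε i
      · rintro a b ⟨ω₁, h₁, e₁⟩ ⟨ω₂, h₂, e₂⟩
        exact ⟨ω₁ + ω₂, h₁.add h₂, by simp only [Pi.add_apply]; linear_combination e₁ + e₂⟩
    exact hmain _ (CfsgLib.Char.IsCharacter.restrict hφ C)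
  obtain ⟨a, b, ha, hb, rfl⟩ := hχ
  obtain ⟨ω₁, h₁, e₁⟩ := hcar a ha
  obtain ⟨ω₂, h₂, e₂⟩ := hcar b hb
  exact ⟨ω₁ - ω₂, h₁.sub h₂, by simp only [Pi.sub_apply]; linear_combination e₁ - e₂⟩

end Cfsg.Agent.S1494
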