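import Cfsg.Statements.S1495
import Cfsg.Agent.Lib.Char.Integral
import Mathlib.RingTheory.RootsOfUnity.Complex
import Mathlib.RingTheory.RootsOfUnity.Lemmas
import Mathlib.RingTheory.RootsOfUnity.Minpoly

set_option autoImplicit false
open Cfsg

namespace Cfsg.Agent.S1495

/-- Let p be a prime, ε = exp(2πi/p), and n an integer such that n = (1 − ε) * ω for some algebraic integer ω. Then p divides n. -/
theorem result (p : ℕ) (hp : p.Prime) (n : ℤ) (ω : ℂ) (hω : IsIntegral ℤ ω) (h : (n : ℂ) = (1 - Complex.exp (2 * Real.pi * Complex.I / p)) * ω) : (p : ℤ) ∣ n := by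
  classical
  have hε : IsPrimitiveRoot (Complex.exp (2 * Real.pi * Complex.I / p)) p :=
    Complex.isPrimitiveRoot_exp p hp.ne_zero
  set ε := Complex.exp (2 * Real.pi * Complex.I / p)
  haveI : NeZero p := ⟨hp.ne_zero⟩
  obtain ⟨m, hm⟩ : ∃ m, p = m + 1 := ⟨p - 1, (Nat.succ_pred_eq_of_pos hp.pos).symm⟩
  have hprod : ∏ k ∈ Finset.range m, (1 - ε ^ (k + 1)) = (p : ℂ) := by
    subst hm
    simpa using hε.prod_one_sub_pow_eq_order
  have hs : ∀ k ∈ Finset.range m, ∃ s : ℂ, IsIntegral ℤ s ∧ (n : ℂ) = (1 - ε ^ (k + 1)) * s := by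
    intro k hk
    rw [Finset.mem_range] at hk
    have hk1 : IsPrimitiveRoot (ε ^ (k + 1)) p :=
      hε.pow_of_coprime _ ((hp.coprime_iff_not_dvd.2 (fun h => by
        have := Nat.le_of_dvd (by omega) h
        omega)).symm)
    obtain ⟨j, _, hj⟩ := hk1.eq_pow_of_pow_eq_one hε.pow_eq_one
    refine ⟨(∑ i ∈ Finset.range j, (ε ^ (k + 1)) ^ i) * ω,
      (IsIntegral.sum _ fun i _ => ((hk1.isIntegral hp.pos).pow i)).mul hω, ?_⟩
    rw [← mul_assoc, mul_comm (1 - ε ^ (k + 1)), geom_sum_mul_neg, hj, h]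
  choose s hsi hse using hs
  have hpn : (n : ℂ) ^ m = (p : ℂ) * ∏ k ∈ (Finset.range m).attach, s k.1 k.2 := by
    rw [← hprod, ← Finset.prod_attach (Finset.range m) (fun k => 1 - ε ^ (k + 1)),
      ← Finset.prod_mul_distrib]
    conv_lhs => rw [← Finset.card_range m, ← Finset.card_attach, ← Finset.prod_const]
    exact Finset.prod_congr rfl fun k _ => hse k.1 k.2
  have hint : IsIntegral ℤ (((((n : ℚ) ^ m / p) : ℚ)) : ℂ) := by
    have : (((((n : ℚ) ^ m / p) : ℚ)) : ℂ) = ∏ k ∈ (Finset.range m).attach, s k.1 k.2 := by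
      push_cast
      rw [hpn, mul_div_cancel_left₀ _ (Nat.cast_ne_zero.2 hp.ne_zero)]
    rw [this]
    exact IsIntegral.prod _ fun k _ => hsi k.1 k.2
  obtain ⟨z, hz⟩ := CfsgLib.Char.exists_int_of_isIntegral_ratCast hint
  rw [eq_div_iff (Nat.cast_ne_zero.2 hp.ne_zero)] at hz
  refine (Nat.prime_iff_prime_int.1 hp).dvd_of_dvd_pow (n := m) ⟨z, ?_⟩
  have : ((z * (p : ℤ) : ℤ) : ℚ) = (((n ^ m : ℤ)) : ℚ) := by push_cast; exact hz
  rw [mul_comm]
  exact (Int.cast_injective this).symm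

end Cfsg.Agent.S1495
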