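import Cfsg.Statements.S1497
import Cfsg.Agent.Lib.OddChar.Dade
import Cfsg.Prelude.Def_OddOrderLocal

set_option autoImplicit false
open Cfsg

namespace Cfsg.Agent.S1497

/-- Let A be a nonempty subset of the finite group G not containing 1 and L a subgroup. Then A is a TI-subset whose normaliser is L if and only if the Dade hypothesis holds for A, L and the constant choice H(a) = ⊥. -/
theorem result {G : Type*} [Group G] [Finite G] (A : Set G) (hA : A.Nonempty) (h1 : (1 : G) ∉ A) (L : Subgroup G) : (Cfsg.IsTISubset A ∧ Subgroup.normalizer A = L) ↔ Cfsg.DadeHypothesis A L (fun _ => ⊥) := by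
  constructor
  · rintro ⟨hTI, hN⟩
    have hfix : ∀ a ∈ A, ∀ g : G, g * a * g⁻¹ ∈ A → g ∈ L := by
      intro a ha g hg
      by_contra hgL
      exact h1 ((hTI g (hN ▸ hgL) a ha hg) ▸ ha)
    have hcent : ∀ a ∈ A, Subgroup.centralizer ({a} : Set G) ≤ L := by
      intro a ha c hc
      apply hfix a ha c
      rw [Subgroup.mem_centralizer_singleton_iff.1 hc]
      simpa using ha
    refine ⟨h1, fun a ha => hfix a ha a (by simpa using ha), ?_, ?_, fun a _ => bot_le, ?_, ?_, ?_, ?_⟩
    · intro x hx a ha
      rw [← hN] at hx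
      exact (Subgroup.mem_set_normalizer_iff.1 hx a).1 ha
    · exact fun a ha g hg => ⟨g, hfix a ha g hg, rfl⟩
    · intro a _ c _ u hu
      rw [Subgroup.mem_bot] at hu ⊢
      rw [hu]; group
    · exact fun a _ => bot_inf_eq _
    · intro a ha
      rw [bot_sup_eq, inf_eq_right.2 (hcent a ha)]
    · intro a _ b _
      rw [Subgroup.card_bot]
      exact Nat.coprime_one_left _
  · intro hD
    have hLN : L ≤ Subgroup.normalizer A := by
      intro x hx
      rw [Subgroup.mem_set_normalizer_iff]
      refine fun a => ⟨hD.conj_mem x hx a, fun h => ?_⟩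
      simpa [mul_assoc] using hD.conj_mem x⁻¹ (inv_mem hx) _ h
    have hfix : ∀ a ∈ A, ∀ g : G, g * a * g⁻¹ ∈ A → g ∈ L := by
      intro a ha g hg
      obtain ⟨x, hx, e⟩ := hD.fusion a ha g hg
      have hc : x⁻¹ * g ∈ Subgroup.centralizer ({a} : Set G) := by
        rw [Subgroup.mem_centralizer_singleton_iff]
        calc x⁻¹ * g * a = x⁻¹ * (g * a * g⁻¹) * g := by group
          _ = _ := by rw [← e]; group
      rw [← hD.sup_eq a ha, bot_sup_eq] at hc
      simpa using mul_mem hx hc.1
    refine ⟨fun g hg a ha hga => (hg (hLN (hfix a ha g hga))).elim, le_antisymm ?_ hLN⟩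
    intro g hg
    obtain ⟨a, ha⟩ := hA
    exact hfix a ha g ((Subgroup.mem_set_normalizer_iff.1 hg a).1 ha)

end Cfsg.Agent.S1497
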