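import Cfsg.Statements.S1499
import Cfsg.Agent.Lib.OddChar.Dade

set_option autoImplicit false
open Cfsg

namespace Cfsg.Agent.S1499

/-- Under the Dade hypothesis for (A, L, H), let a, b ∈ A. If an element of the coset a·H(a) is conjugate in G to an element of b·H(b), then a and b are conjugate by an element of L. Moreover the set normaliser of the coset a·H(a) is the centraliser of a. -/
theorem result {G : Type*} [Group G] [Finite G] (A : Set G) (L : Subgroup G) (H : G → Subgroup G) (hD : Cfsg.DadeHypothesis A L H) (a b : G) (ha : a ∈ A) (hb : b ∈ A) : ((∃ u ∈ H a, ∃ v ∈ H b, ∃ g : G, g * (a * u) * g⁻¹ = b * v) → ∃ x ∈ L, x * a * x⁻¹ = b) ∧ Subgroup.normalizer ((fun u : G => a * u) '' (H a : Set G)) = Subgroup.centralizer ({a} : Set G) := by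
  constructor
  · rintro ⟨u, hu, v, hv, g, e⟩
    have h := CfsgLib.OddChar.dade_coset_conj hD ha hb hu hv e
    obtain ⟨x, hx, e'⟩ := hD.fusion a ha g (h.symm ▸ hb)
    exact ⟨x, hx, e'.trans h⟩
  · ext g
    rw [Subgroup.mem_set_normalizer_iff, Subgroup.mem_centralizer_singleton_iff]
    constructor
    · intro hg
      obtain ⟨u, hu, e⟩ := (hg a).1 ⟨1, one_mem _, mul_one a⟩
      have h := CfsgLib.OddChar.dade_coset_conj (g := g) hD ha ha (one_mem _) hu
        (by rw [mul_one]; exact e.symm)
      calc g * a = g * a * g⁻¹ * g := by group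
        _ = a * g := by rw [h]
    · intro hg
      have fwd : ∀ c : G, c * a = a * c → ∀ z, z ∈ (fun u : G => a * u) '' (H a : Set G) →
          c * z * c⁻¹ ∈ (fun u : G => a * u) '' (H a : Set G) := by
        rintro c hc _ ⟨u, hu, rfl⟩
        refine ⟨c * u * c⁻¹,
          hD.conj_mem_H a ha c (Subgroup.mem_centralizer_singleton_iff.2 hc) u hu, ?_⟩
        show a * (c * u * c⁻¹) = c * (a * u) * c⁻¹
        simp only [← mul_assoc, hc]
      refine fun z => ⟨fwd g hg z, fun h => ?_⟩
      have hg' : g⁻¹ * a = a * g⁻¹ := (Commute.inv_left (show Commute g a from hg)).eq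
      simpa [mul_assoc] using fwd g⁻¹ hg' _ h

end Cfsg.Agent.S1499
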