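import Cfsg.Statements.S1504
import Cfsg.Agent.Lib.OddChar.CyclicTI

set_option autoImplicit false
open Cfsg

namespace Cfsg.Agent.S1504

/-- Let W₁, W₂ be subgroups of a finite group with W₁ ⊓ W₂ = ⊥ whose elements commute, and W = W₁ ⊔ W₂. For linear characters φ, ψ of W with φ trivial on W₂ and ψ trivial on W₁, the function (1 − φ)(1 − ψ) vanishes on W₁ ∪ W₂; and the family of these functions, indexed by pairs (φ, ψ) with φ ≠ 1 ≠ ψ, is linearly independent over ℂ. -/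
theorem result {G : Type*} [Group G] [Finite G] (W₁ W₂ : Subgroup G) (hdisj : W₁ ⊓ W₂ = ⊥) (hcomm : ∀ a ∈ W₁, ∀ b ∈ W₂, a * b = b * a) : (∀ φ ψ : ↥(W₁ ⊔ W₂) →* ℂˣ, (∀ w : ↥(W₁ ⊔ W₂), (w : G) ∈ W₂ → φ w = 1) → (∀ w : ↥(W₁ ⊔ W₂), (w : G) ∈ W₁ → ψ w = 1) → ∀ w : ↥(W₁ ⊔ W₂), ((w : G) ∈ W₁ ∨ (w : G) ∈ W₂) → (1 - (φ w : ℂ) - (ψ w : ℂ) + (φ w : ℂ) * (ψ w : ℂ)) = 0) ∧ LinearIndependent ℂ (fun p : {p : (↥(W₁ ⊔ W₂) →* ℂˣ) × (↥(W₁ ⊔ W₂) →* ℂˣ) // p.1 ≠ 1 ∧ p.2 ≠ 1 ∧ (∀ w : ↥(W₁ ⊔ W₂), (w : G) ∈ W₂ → p.1 w = 1) ∧ (∀ w : ↥(W₁ ⊔ W₂), (w : G) ∈ W₁ → p.2 w = 1)} => fun w : ↥(W₁ ⊔ W₂) => 1 - (p.1.1 w : ℂ) - (p.1.2 w : ℂ) + (p.1.1 w : ℂ) * (p.1.2 w : ℂ)) := by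
  classical
  haveI : Fintype ↥(W₁ ⊔ W₂) := Fintype.ofFinite _
  refine ⟨fun φ ψ hφ hψ w hw => CfsgLib.OddChar.tiAlpha_eq_zero hφ hψ hw, ?_⟩
  rw [linearIndependent_iff']
  intro s g hs i hi
  have h := congrArg (fun f : ↥(W₁ ⊔ W₂) → ℂ => Cfsg.classInner f (fun w => ((i.1.1 * i.1.2) w : ℂ))) hs
  simp only [CfsgLib.Char.classInner_sum_left, CfsgLib.Char.classInner_smul_left,
    CfsgLib.Char.classInner_zero_left] at h
  rw [Finset.sum_eq_single i] at h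
  · rw [show (fun w => 1 - (i.1.1 w : ℂ) - (i.1.2 w : ℂ) + (i.1.1 w : ℂ) * (i.1.2 w : ℂ)) =
      CfsgLib.OddChar.tiAlpha i.1.1 i.1.2 from rfl, CfsgLib.OddChar.tiAlpha_eq_sum,
      CfsgLib.Char.classInner_add_left, CfsgLib.Char.classInner_sub_left,
      CfsgLib.Char.classInner_sub_left, CfsgLib.OddChar.classInner_linearChar,
      CfsgLib.OddChar.classInner_linearChar, CfsgLib.OddChar.classInner_linearChar,
      CfsgLib.OddChar.classInner_linearChar] at h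
    obtain ⟨⟨φ, ψ⟩, hφ1, hψ1, hφ, hψ⟩ := i
    have a1 : (1 : ↥(W₁ ⊔ W₂) →* ℂˣ) ≠ φ * ψ := fun e => hφ1 (CfsgLib.OddChar.sup_hom_ext
      (fun w hw => by simpa [hψ w hw] using (DFunLike.congr_fun e w).symm)
      (fun w hw => by rw [hφ w hw]; rfl))
    have a2 : φ ≠ φ * ψ := fun e => hψ1 (CfsgLib.OddChar.sup_hom_ext
      (fun w hw => by rw [hψ w hw]; rfl)
      (fun w hw => by simpa [hφ w hw] using (DFunLike.congr_fun e w).symm))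
    have a3 : ψ ≠ φ * ψ := fun e => hφ1 (CfsgLib.OddChar.sup_hom_ext
      (fun w hw => by simpa [hψ w hw] using (DFunLike.congr_fun e w).symm)
      (fun w hw => by rw [hφ w hw]; rfl))
    simpa [a1, a2, a3] using h
  · intro j _ hji
    rw [show (fun w => 1 - (j.1.1 w : ℂ) - (j.1.2 w : ℂ) + (j.1.1 w : ℂ) * (j.1.2 w : ℂ)) =
      CfsgLib.OddChar.tiAlpha j.1.1 j.1.2 from rfl, CfsgLib.OddChar.tiAlpha_eq_sum,
      CfsgLib.Char.classInner_add_left, CfsgLib.Char.classInner_sub_left,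
      CfsgLib.Char.classInner_sub_left, CfsgLib.OddChar.classInner_linearChar,
      CfsgLib.OddChar.classInner_linearChar, CfsgLib.OddChar.classInner_linearChar,
      CfsgLib.OddChar.classInner_linearChar]
    obtain ⟨⟨φ, ψ⟩, hφ1, hψ1, hφ, hψ⟩ := i
    obtain ⟨⟨φ', ψ'⟩, hφ1', hψ1', hφ', hψ'⟩ := j
    have a1 : (1 : ↥(W₁ ⊔ W₂) →* ℂˣ) ≠ φ * ψ := fun e => hφ1 (CfsgLib.OddChar.sup_hom_ext
      (fun w hw => by simpa [hψ w hw] using (DFunLike.congr_fun e w).symm)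
      (fun w hw => by rw [hφ w hw]; rfl))
    have a2 : φ' ≠ φ * ψ := fun e => hψ1 (CfsgLib.OddChar.sup_hom_ext
      (fun w hw => by rw [hψ w hw]; rfl)
      (fun w hw => by simpa [hφ w hw, hφ' w hw] using (DFunLike.congr_fun e w).symm))
    have a3 : ψ' ≠ φ * ψ := fun e => hφ1 (CfsgLib.OddChar.sup_hom_ext
      (fun w hw => by simpa [hψ w hw, hψ' w hw] using (DFunLike.congr_fun e w).symm)
      (fun w hw => by rw [hφ w hw]; rfl))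
    have a4 : φ' * ψ' ≠ φ * ψ := fun e => hji (Subtype.ext (Prod.ext
      (CfsgLib.OddChar.sup_hom_ext
        (fun w hw => by simpa [hψ w hw, hψ' w hw] using DFunLike.congr_fun e w)
        (fun w hw => by rw [hφ' w hw, hφ w hw]))
      (CfsgLib.OddChar.sup_hom_ext
        (fun w hw => by rw [hψ' w hw, hψ w hw])
        (fun w hw => by simpa [hφ w hw, hφ' w hw] using DFunLike.congr_fun e w))))
    simp [a1, a2, a3, a4]
  · exact fun h => absurd hi h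

end Cfsg.Agent.S1504
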