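import Cfsg.Statements.S1507
import Cfsg.Agent.S1506
import Cfsg.Agent.Lib.OddChar.CyclicDual

set_option autoImplicit false
open Cfsg

namespace Cfsg.Agent.S1507

open Classical in
/-- Let W₁, W₂ ≤ G form a self-normalising cyclic subgroup W = W₁ ⊔ W₂ of odd order with Nat.card W₁ < Nat.card W₂, and χ an orthonormal family of irreducible characters of G up to sign, indexed by the linear characters ω of W, with χ_1 = 1, χ_ω = ω on W outside W₁ ∪ W₂, and the induction identity for (1 − φ)(1 − ψ). Let θ be a class function of G vanishing on W outside W₁ ∪ W₂, and suppose fewer than 2 · Nat.card W₁ linear characters ω of W have ⟨θ, χ ω⟩ ≠ 0. Then one of: all ⟨θ, χ ω⟩ vanish; or there are ψ₀ and a with ⟨θ, χ ω⟩ = a when ω ψ₀⁻¹ is trivial on W₂ and 0 otherwise; or there are φ₀ and a with ⟨θ, χ ω⟩ = a when ω φ₀⁻¹ is trivial on W₁ and 0 otherwise. -/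
theorem result {G : Type*} [Group G] [Fintype G] (W₁ W₂ : Subgroup G) (hW : Cfsg.IsSelfNormalizingCyclic W₁ W₂) (hodd : Odd (Nat.card ↥(W₁ ⊔ W₂))) (χ : (↥(W₁ ⊔ W₂) →* ℂˣ) → (G → ℂ)) (hχ : Cfsg.IsCyclicTIFamily W₁ W₂ χ) (hlt : Nat.card W₁ < Nat.card W₂) (θ : G → ℂ) (hθ : Cfsg.IsClassFunction G θ) (hθV : ∀ w : ↥(W₁ ⊔ W₂), (w : G) ∉ W₁ → (w : G) ∉ W₂ → θ w = 0) (hfew : Nat.card {ω : ↥(W₁ ⊔ W₂) →* ℂˣ // Cfsg.classInner θ (χ ω) ≠ 0} < 2 * Nat.card W₁) : (∀ ω, Cfsg.classInner θ (χ ω) = 0) ∨ (∃ (ψ₀ : ↥(W₁ ⊔ W₂) →* ℂˣ) (a : ℂ), ∀ ω, Cfsg.classInner θ (χ ω) = if (∀ w : ↥(W₁ ⊔ W₂), (w : G) ∈ W₂ → (ω * ψ₀⁻¹) w = 1) then a else 0) ∨ (∃ (φ₀ : ↥(W₁ ⊔ W₂) →* ℂˣ) (a : ℂ), ∀ ω, Cfsg.classInner θ (χ ω) = if (∀ w : ↥(W₁ ⊔ W₂), (w : G) ∈ W₁ → (ω * φ₀⁻¹) w = 1) then a else 0) := by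
  classical
  obtain ⟨hne1, hne2, hdisj, hcomm, hc, hN⟩ := hW
  haveI := hc
  haveI : IsCyclic W₁ := isCyclic_of_injective (Subgroup.inclusion (le_sup_left (b := W₂)))
    (Subgroup.inclusion_injective _)
  haveI : IsCyclic W₂ := isCyclic_of_injective (Subgroup.inclusion (le_sup_right (a := W₁)))
    (Subgroup.inclusion_injective _)
  haveI : Finite (W₁ →* ℂˣ) := CfsgLib.OddChar.finite_linearChar _
  haveI : Finite (W₂ →* ℂˣ) := CfsgLib.OddChar.finite_linearChar _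
  letI := Fintype.ofFinite (W₁ →* ℂˣ)
  letI := Fintype.ofFinite (W₂ →* ℂˣ)
  obtain ⟨i, j, hi, hj, hbij⟩ := CfsgLib.OddChar.exists_dual hdisj hcomm
  let E := Equiv.ofBijective _ hbij
  let f₀ : W₁ →* ℂˣ := 1
  let g₀ : W₂ →* ℂˣ := 1
  set a : (↥(W₁ ⊔ W₂) →* ℂˣ) → ℂ := fun ω => Cfsg.classInner θ (χ ω) with ha
  let x : (W₁ →* ℂˣ) → ℂ := fun f => a (i f * j g₀) - a (i f₀ * j g₀)
  let y : (W₂ →* ℂˣ) → ℂ := fun g => a (i f₀ * j g)
  have hrect : ∀ f g, a (i f * j g) = x f + y g := fun f g => by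
    have := Cfsg.Agent.S1506.result W₁ W₂ ⟨hne1, hne2, hdisj, hcomm, hc, hN⟩ χ hχ θ hθ hθV
      (i f) (i f₀) (j g) (j g₀) (fun w h => ⟨hi _ w h, hi _ w h⟩) (fun w h => ⟨hj _ w h, hj _ w h⟩)
    simp only [x, y]
    linear_combination this
  have hodd1 : Odd (Nat.card W₁) :=
    hodd.of_dvd_nat (Subgroup.card_dvd_of_le le_sup_left)
  have hodd2 : Odd (Nat.card W₂) :=
    hodd.of_dvd_nat (Subgroup.card_dvd_of_le le_sup_right)
  have hI : Nat.card W₁ = Fintype.card (W₁ →* ℂˣ) := by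
    rw [← Nat.card_eq_fintype_card, CfsgLib.OddChar.card_dual]
  have hJ : Nat.card W₂ = Fintype.card (W₂ →* ℂˣ) := by
    rw [← Nat.card_eq_fintype_card, CfsgLib.OddChar.card_dual]
  have hgap : Nat.card W₁ + 2 ≤ Fintype.card (W₂ →* ℂˣ) := by
    rw [← hJ]
    obtain ⟨s, hs⟩ := hodd1
    obtain ⟨t, ht⟩ := hodd2
    omega
  have hfew' : Fintype.card {p : (W₁ →* ℂˣ) × (W₂ →* ℂˣ) // x p.1 + y p.2 ≠ 0} <
      2 * Nat.card W₁ := by
    refine lt_of_eq_of_lt ?_ hfew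
    rw [← Nat.card_eq_fintype_card]
    exact Nat.card_congr (E.subtypeEquiv fun p => by rw [← hrect]; rfl)
  rcases CfsgLib.OddChar.grid_few x y hI hgap hfew' with ⟨g₁, c, hc'⟩ | ⟨f₁, c, hc'⟩
  · refine Or.inr (Or.inl ⟨i f₀ * j g₁, c, fun ω => ?_⟩)
    obtain ⟨⟨f, g⟩, rfl⟩ := hbij.2 ω
    show a (i f * j g) = _
    rw [hrect, hc']
    refine if_congr ⟨fun h w hw => ?_, fun h => ?_⟩ rfl rfl
    · simp [h, hi _ w hw]
    · refine congrArg Prod.snd (hbij.1 (a₁ := (f₀, g)) (a₂ := (f₀, g₁))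
        (CfsgLib.OddChar.sup_hom_ext (fun w hw => ?_) (fun w hw => ?_)))
      · simp [hj _ w hw]
      · have := h w hw
        simp only [MonoidHom.mul_apply, MonoidHom.inv_apply, hi _ w hw, one_mul,
          mul_inv_eq_one] at this
        simp [hi _ w hw, this]
  · refine Or.inr (Or.inr ⟨i f₁ * j g₀, c, fun ω => ?_⟩)
    obtain ⟨⟨f, g⟩, rfl⟩ := hbij.2 ω
    show a (i f * j g) = _
    rw [hrect, hc']
    refine if_congr ⟨fun h w hw => ?_, fun h => ?_⟩ rfl rfl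
    · simp [h, hj _ w hw]
    · refine congrArg Prod.fst (hbij.1 (a₁ := (f, g₀)) (a₂ := (f₁, g₀))
        (CfsgLib.OddChar.sup_hom_ext (fun w hw => ?_) (fun w hw => ?_)))
      · have := h w hw
        simp only [MonoidHom.mul_apply, MonoidHom.inv_apply, hj _ w hw, mul_one,
          mul_inv_eq_one] at this
        simp [hj _ w hw, this]
      · simp [hi _ w hw]

end Cfsg.Agent.S1507
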