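import Cfsg.Statements.S1509
import Cfsg.Agent.Lib.Char.Orth
import Cfsg.Agent.Lib.Char.Basic

set_option autoImplicit false
open Cfsg

namespace Cfsg.Agent.S1509

/-- Let α, β, γ, δ be functions on a finite group X each of which is an irreducible character or the negative of one, and u, v nonzero real numbers. Suppose ⟨α, β⟩ = ⟨γ, δ⟩ = 0, ⟨α − β, uγ − vδ⟩ = 0, α 1 = β 1 and u γ 1 = v δ 1. Then also ⟨α, γ⟩ = ⟨α, δ⟩ = ⟨β, γ⟩ = ⟨β, δ⟩ = 0. -/
theorem result {X : Type*} [Group X] [Fintype X] (α β γ δ : X → ℂ) (hα : Cfsg.IsIrrCharacter X α ∨ Cfsg.IsIrrCharacter X (-α)) (hβ : Cfsg.IsIrrCharacter X β ∨ Cfsg.IsIrrCharacter X (-β)) (hγ : Cfsg.IsIrrCharacter X γ ∨ Cfsg.IsIrrCharacter X (-γ)) (hδ : Cfsg.IsIrrCharacter X δ ∨ Cfsg.IsIrrCharacter X (-δ)) (u v : ℝ) (hu : u ≠ 0) (hv : v ≠ 0) (hab : Cfsg.classInner α β = 0) (hcd : Cfsg.classInner γ δ = 0) (hmix : Cfsg.classInner (α - β) ((u : ℂ) • γ - (v : ℂ) • δ) = 0) (h1 : α 1 = β 1) (h2 : (u : ℂ) * γ 1 =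 (v : ℂ) * δ 1) : Cfsg.classInner α γ = 0 ∧ Cfsg.classInner α δ = 0 ∧ Cfsg.classInner β γ = 0 ∧ Cfsg.classInner β δ = 0 := by
  classical
  have ne0 : ∀ x : X → ℂ, (Cfsg.IsIrrCharacter X x ∨ Cfsg.IsIrrCharacter X (-x)) →
      x 1 ≠ 0 := by
    rintro x (h | h)
    · exact CfsgLib.Char.IsIrrCharacter.apply_one_ne_zero h
    · simpa using CfsgLib.Char.IsIrrCharacter.apply_one_ne_zero h
  have dich : ∀ x y : X → ℂ, (Cfsg.IsIrrCharacter X x ∨ Cfsg.IsIrrCharacter X (-x)) →
      (Cfsg.IsIrrCharacter X y ∨ Cfsg.IsIrrCharacter X (-y)) → Cfsg.classInner x y ≠ 0 →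
      ∃ s : ℝ, (s = 1 ∨ s = -1) ∧ y = (s : ℂ) • x ∧ Cfsg.classInner x x = 1 := by
    intro x y hx hy hne
    have hxx : Cfsg.classInner x x = 1 := by
      rcases hx with h | h
      · exact CfsgLib.Char.classInner_irr_self h
      · simpa [CfsgLib.Char.classInner_neg_left, CfsgLib.Char.classInner_neg_right] using
          CfsgLib.Char.classInner_irr_self h
    rcases hx with hx | hx <;> rcases hy with hy | hy
    · exact ⟨1, Or.inl rfl, by simp [CfsgLib.Char.eq_of_classInner_ne_zero hx hy hne], hxx⟩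
    · refine ⟨-1, Or.inr rfl, ?_, hxx⟩
      have := CfsgLib.Char.eq_of_classInner_ne_zero hx hy
        (by simpa [CfsgLib.Char.classInner_neg_right] using hne)
      simp [this]
    · refine ⟨-1, Or.inr rfl, ?_, hxx⟩
      have := CfsgLib.Char.eq_of_classInner_ne_zero hx hy
        (by simpa [CfsgLib.Char.classInner_neg_left] using hne)
      simp [← this]
    · refine ⟨1, Or.inl rfl, ?_, hxx⟩
      have := CfsgLib.Char.eq_of_classInner_ne_zero hx hy
        (by simpa [CfsgLib.Char.classInner_neg_left, CfsgLib.Char.classInner_neg_right] using hne)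
      simp [neg_inj.1 this]
  have core : ∀ a b c d : X → ℂ, ∀ p q : ℝ,
      (Cfsg.IsIrrCharacter X a ∨ Cfsg.IsIrrCharacter X (-a)) →
      (Cfsg.IsIrrCharacter X b ∨ Cfsg.IsIrrCharacter X (-b)) →
      (Cfsg.IsIrrCharacter X c ∨ Cfsg.IsIrrCharacter X (-c)) →
      (Cfsg.IsIrrCharacter X d ∨ Cfsg.IsIrrCharacter X (-d)) →
      p ≠ 0 → Cfsg.classInner a b = 0 → Cfsg.classInner c d = 0 →
      Cfsg.classInner (a - b) ((p : ℂ) • c - (q : ℂ) • d) = 0 →
      a 1 = b 1 → (p : ℂ) * c 1 = (q : ℂ) * d 1 → Cfsg.classInner a c = 0 := by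
    intro a b c d p q ha hb hc hd hp hab hcd hm h1 h2
    by_contra hne
    obtain ⟨s, hs, rfl, haa⟩ := dich a c ha hc hne
    have hbc : Cfsg.classInner b a = 0 := by
      rw [← CfsgLib.Char.classInner_conj_symm, hab, map_zero]
    have had : Cfsg.classInner a d = 0 := by
      rw [CfsgLib.Char.classInner_smul_left] at hcd
      exact (mul_eq_zero.1 hcd).resolve_left (by rcases hs with rfl | rfl <;> simp)
    simp only [CfsgLib.Char.classInner_sub_left, CfsgLib.Char.classInner_sub_right,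
      CfsgLib.Char.classInner_smul_right, hbc, had, haa, Complex.conj_ofReal, mul_one, mul_zero,
      sub_zero, zero_sub, sub_neg_eq_add] at hm
    by_cases hbd : Cfsg.classInner b d = 0
    · simp only [hbd, neg_zero, mul_zero, sub_zero, add_zero] at hm
      simp [hp] at hm
      rcases hs with rfl | rfl <;> simp at hm
    · obtain ⟨t, ht, rfl, hbb⟩ := dich b d hb hd hbd
      rw [CfsgLib.Char.classInner_smul_right, hbb, Complex.conj_ofReal, mul_one] at hm
      simp only [Pi.smul_apply, smul_eq_mul, ← h1] at h2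
      have h3 : ((p : ℂ) * s - q * t) * a 1 = 0 := by linear_combination h2
      have h4 := (mul_eq_zero.1 h3).resolve_right (ne0 a ha)
      have h5 : (p : ℂ) * s = 0 := by linear_combination (h4 + hm) / 2
      simp [hp] at h5
      rcases hs with rfl | rfl <;> simp at h5
  have hba : Cfsg.classInner β α = 0 := by rw [← CfsgLib.Char.classInner_conj_symm, hab, map_zero]
  have hdc : Cfsg.classInner δ γ = 0 := by rw [← CfsgLib.Char.classInner_conj_symm, hcd, map_zero]
  have e1 : Cfsg.classInner (α - β) ((v : ℂ) • δ - (u : ℂ) • γ) = 0 := by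
    rw [show (v : ℂ) • δ - (u : ℂ) • γ = -((u : ℂ) • γ - (v : ℂ) • δ) by abel,
      CfsgLib.Char.classInner_neg_right, hmix, neg_zero]
  refine ⟨core α β γ δ u v hα hβ hγ hδ hu hab hcd hmix h1 h2,
    core α β δ γ v u hα hβ hδ hγ hv hab hdc e1 h1 h2.symm,
    core β α γ δ u v hβ hα hγ hδ hu hba hcd ?_ h1.symm h2,
    core β α δ γ v u hβ hα hδ hγ hv hba hdc ?_ h1.symm h2.symm⟩
  · rw [show β - α = -(α - β) by abel, CfsgLib.Char.classInner_neg_left, hmix, neg_zero]
  · rw [show β - α = -(α - β) by abel, CfsgLib.Char.classInner_neg_left, e1, neg_zero]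

end Cfsg.Agent.S1509
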