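import Cfsg.Statements.S1512
import Cfsg.Agent.Lib.OddChar.Coprime

set_option autoImplicit false
open Cfsg

namespace Cfsg.Agent.S1512

/-- Let K be a normal subgroup of the finite group L and x a non-identity element whose order is coprime to the order of K, such that K ⊓ C_L(y) = W₂ for every non-identity element y of the cyclic group generated by x. Then the number of conjugacy classes of K mapped to themselves by conjugation by x is at most Nat.card W₂. -/
theorem result {L : Type*} [Group L] [Finite L] (K W₂ : Subgroup L) [hK : K.Normal] (x : L) (hx1 : x ≠ 1) (hx : Nat.Coprime (orderOf x) (Nat.card K)) (hC : ∀ y ∈ Subgroup.zpowers x, y ≠ 1 → K ⊓ Subgroup.centralizer ({y} : Set L) = W₂) : Nat.card {C : ConjClasses K // ConjClasses.map (MulEquiv.toMonoidHom ((MulAut.conjNormal x : MulAut K))) C = C} ≤ Nat.card W₂ := by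
  classical
  have hxx : Subgroup.zpowers x ≤ Subgroup.normalizer (K : Set L) := by
    intro y _
    exact Subgroup.mem_normalizer_iff.2 fun z =>
      ⟨fun hz => hK.conj_mem z hz y, fun hz => by
        simpa [mul_assoc] using hK.conj_mem _ hz y⁻¹⟩
  have hW : K ⊓ Subgroup.centralizer ({x} : Set L) = W₂ :=
    hC x (Subgroup.mem_zpowers x) hx1
  have hW₂K : W₂ ≤ K := hW ▸ inf_le_left
  refine Nat.card_le_card_of_surjective
    (f := fun w : W₂ => (⟨ConjClasses.mk (⟨w, hW₂K w.2⟩ : K), ?_⟩ :
      {C : ConjClasses K // ConjClasses.map (MulEquiv.toMonoidHom ((MulAut.conjNormal x : MulAut K))) C = C})) ?_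
  · show ConjClasses.mk _ = _
    congr 1
    apply Subtype.ext
    have hwc : (w : L) * x = x * w := by
      have : (w : L) ∈ K ⊓ Subgroup.centralizer ({x} : Set L) := hW.symm ▸ w.2
      exact Subgroup.mem_centralizer_singleton_iff.1 this.2
    simp only [MulEquiv.coe_toMonoidHom, MulAut.conjNormal_apply]
    rw [← hwc]; group
  · rintro ⟨C, hCfix⟩
    obtain ⟨k, rfl⟩ := C.exists_rep
    have h0 : IsConj ((MulAut.conjNormal x : MulAut K) k) k := by
      have := hCfix
      exact ConjClasses.mk_eq_mk_iff_isConj.1 this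
    obtain ⟨c, hc⟩ := isConj_iff.1 h0
    have hc' : (c : L) * (x * k * x⁻¹) * (c : L)⁻¹ = k := by
      simpa using congrArg Subtype.val hc
    have hcop : Nat.Coprime (orderOf x) (Nat.card K) := hx
    obtain ⟨y, hy, d, hd, hdx, hyd⟩ :=
      CfsgLib.OddChar.exists_conj_centralizer_coset K x (hxx (Subgroup.mem_zpowers x)) hcop c c.2
    obtain ⟨m, hm⟩ := CfsgLib.OddChar.exists_pow_split (G := L) hcop
    have hdxm : (d * x) ^ m = x := by
      rw [hdx]
      exact hm x d hdx.symm (pow_orderOf_eq_one x) (CfsgLib.OddChar.pow_card_mem hd)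
    have h1 : Commute ((c : L) * x) k := by
      show (c : L) * x * k = k * ((c : L) * x)
      conv_rhs => rw [← hc']
      group
    have h2 : Commute (d * x) (y * k * y⁻¹) := by
      rw [← hyd]
      show y * ((c : L) * x) * y⁻¹ * (y * k * y⁻¹) = y * k * y⁻¹ * (y * ((c : L) * x) * y⁻¹)
      calc _ = y * ((c : L) * x * k) * y⁻¹ := by group
        _ = y * ((k : L) * ((c : L) * x)) * y⁻¹ := by rw [h1.eq]
        _ = _ := by group
    have h3 : y * k * y⁻¹ ∈ W₂ := by
      rw [← hW]
      refine ⟨K.mul_mem (K.mul_mem hy k.2) (K.inv_mem hy), ?_⟩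
      apply Subgroup.mem_centralizer_singleton_iff.2
      have := (h2.pow_left m).eq
      rw [hdxm] at this
      exact this.symm
    refine ⟨⟨_, h3⟩, Subtype.ext ?_⟩
    exact ConjClasses.mk_eq_mk_iff_isConj.2 (isConj_iff.2
      ⟨⟨y⁻¹, inv_mem hy⟩, Subtype.ext (by simp [mul_assoc])⟩)

end Cfsg.Agent.S1512
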