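import Cfsg.Statements.S1514
import Cfsg.Agent.Lib.OddChar.Virt
import Cfsg.Agent.S1509

set_option autoImplicit false
open Cfsg

namespace Cfsg.Agent.S1514

/-- Let S be a nonempty set of irreducible characters of the finite group L, closed under complex conjugation and containing no real-valued member, and τ a linear isometry on the integer combinations of S vanishing at 1, with values virtual characters of G vanishing at 1. Then there is a choice R making (S, τ, R) a coherence system. -/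
theorem result {L : Type*} [Group L] [Fintype L] {G : Type*} [Group G] [Fintype G] (S : Set (L → ℂ)) (hS : S.Nonempty) (hirr : ∀ χ ∈ S, Cfsg.IsIrrCharacter L χ) (hconj : ∀ χ ∈ S, Cfsg.conjFun χ ∈ S ∧ Cfsg.conjFun χ ≠ χ) (τ : (L → ℂ) → (G → ℂ)) (hτ : Cfsg.IsLinearIsometryOn (Cfsg.zspanOn S {1}ᶜ) τ) (hτ1 : ∀ α ∈ Cfsg.zspanOn S {1}ᶜ, τ α 1 = 0) : ∃ R : (L → ℂ) → Finset (G → ℂ), Cfsg.IsCoherenceSystem S τ R := by
  classical
  have hex : ∀ χ ∈ S, ∃ a b : G → ℂ, Cfsg.IsIrrCharacter G a ∧ Cfsg.IsIrrCharacter G b ∧ a ≠ b ∧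
      τ (χ - Cfsg.conjFun χ) = a - b ∧ a 1 = b 1 := by
    intro χ hχ
    have hm := CfsgLib.OddChar.sub_conjFun_mem_zspanOn
      (fun φ hφ => CfsgLib.Char.IsIrrCharacter.isCharacter (hirr φ hφ)) hχ (hconj χ hχ).1
    have h2 : Cfsg.classInner (χ - Cfsg.conjFun χ) (χ - Cfsg.conjFun χ) = 2 := by
      have hc := hirr _ (hconj χ hχ).1
      rw [CfsgLib.Char.classInner_sub_left, CfsgLib.Char.classInner_sub_right,
        CfsgLib.Char.classInner_sub_right, CfsgLib.Char.classInner_irr_self (hirr χ hχ),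
        CfsgLib.Char.classInner_irr_self hc,
        CfsgLib.Char.classInner_irr_of_ne hc (hirr χ hχ) (hconj χ hχ).2,
        CfsgLib.Char.classInner_irr_of_ne (hirr χ hχ) hc (Ne.symm (hconj χ hχ).2)]
      norm_num
    obtain ⟨a, b, ha, hb, hab, he⟩ := CfsgLib.CharExc.exists_sub_of_norm_two (hτ.2.2.2 _ hm)
      (hτ1 _ hm) (by rw [hτ.2.2.1 _ hm _ hm, h2])
    refine ⟨a, b, ha, hb, hab, he, ?_⟩
    have := hτ1 _ hm
    rw [he] at this
    exact sub_eq_zero.1 this
  choose! a b ha hb hab he h1 using hex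
  have hne : ∀ χ ∈ S, a χ ≠ -b χ := by
    intro χ hχ h
    have := congrArg (fun f => Cfsg.classInner f (a χ)) h
    simp only [CfsgLib.Char.classInner_neg_left, CfsgLib.Char.classInner_irr_self (ha χ hχ),
      CfsgLib.Char.classInner_irr_of_ne (hb χ hχ) (ha χ hχ) (hab χ hχ).symm, neg_zero] at this
    exact one_ne_zero this
  refine ⟨fun χ => {a χ, -b χ}, ⟨hS, fun χ hχ => CfsgLib.Char.IsIrrCharacter.isCharacter (hirr χ hχ),
    fun χ hχ => (hconj χ hχ).1, fun χ hχ => (hconj χ hχ).2, hτ, hτ1,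
    fun χ hχ φ hφ hne => CfsgLib.Char.classInner_irr_of_ne (hirr χ hχ) (hirr φ hφ) hne, ?_, ?_, ?_, ?_⟩⟩
  · intro χ hχ x hx y hy
    simp only [Finset.mem_insert, Finset.mem_singleton] at hx hy
    rcases hx with rfl | rfl <;> rcases hy with rfl | rfl
    · rw [if_pos rfl, CfsgLib.Char.classInner_irr_self (ha χ hχ)]
    · rw [if_neg (hne χ hχ), CfsgLib.Char.classInner_neg_right,
        CfsgLib.Char.classInner_irr_of_ne (ha χ hχ) (hb χ hχ) (hab χ hχ), neg_zero]
    · rw [if_neg (hne χ hχ).symm, CfsgLib.Char.classInner_neg_left,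
        CfsgLib.Char.classInner_irr_of_ne (hb χ hχ) (ha χ hχ) (hab χ hχ).symm, neg_zero]
    · rw [if_pos rfl, CfsgLib.Char.classInner_neg_left, CfsgLib.Char.classInner_neg_right, neg_neg,
        CfsgLib.Char.classInner_irr_self (hb χ hχ)]
  · intro χ hχ x hx
    simp only [Finset.mem_insert, Finset.mem_singleton] at hx
    rcases hx with rfl | rfl
    · exact CfsgLib.Char.IsIrrCharacter.isGeneralizedCharacter (ha χ hχ)
    · exact CfsgLib.Char.IsGeneralizedCharacter.neg (CfsgLib.Char.IsIrrCharacter.isGeneralizedCharacter (hb χ hχ))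
  · intro χ hχ
    rw [Finset.sum_pair (hne χ hχ), he χ hχ, sub_eq_add_neg]
  · intro χ hχ φ hφ o1 o2
    have hχc := (hconj χ hχ).1
    have hφc := (hconj φ hφ).1
    have n1 : φ ≠ χ := fun e => one_ne_zero (by rw [← o1, e, CfsgLib.Char.classInner_irr_self (hirr χ hχ)] : (1 : ℂ) = 0)
    have n2 : φ ≠ Cfsg.conjFun χ := fun e => one_ne_zero (by rw [← o2, e, CfsgLib.Char.classInner_irr_self (hirr _ hχc)] : (1 : ℂ) = 0)
    have n3 : Cfsg.conjFun φ ≠ χ := fun e => n2 (by rw [← e, CfsgLib.OddChar.conjFun_conjFun])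
    have n4 : Cfsg.conjFun φ ≠ Cfsg.conjFun χ := fun e => n1 (by
      rw [← CfsgLib.OddChar.conjFun_conjFun φ, e, CfsgLib.OddChar.conjFun_conjFun])
    have hmix : Cfsg.classInner (a φ - b φ) (((1 : ℝ) : ℂ) • a χ - ((1 : ℝ) : ℂ) • b χ) = 0 := by
      have hm1 := CfsgLib.OddChar.sub_conjFun_mem_zspanOn
        (fun f hf => CfsgLib.Char.IsIrrCharacter.isCharacter (hirr f hf)) hφ hφc
      have hm2 := CfsgLib.OddChar.sub_conjFun_mem_zspanOn
        (fun f hf => CfsgLib.Char.IsIrrCharacter.isCharacter (hirr f hf)) hχ hχc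
      rw [Complex.ofReal_one, one_smul, one_smul, ← he φ hφ, ← he χ hχ, hτ.2.2.1 _ hm1 _ hm2,
        CfsgLib.Char.classInner_sub_left, CfsgLib.Char.classInner_sub_right,
        CfsgLib.Char.classInner_sub_right, o1, o2,
        CfsgLib.Char.classInner_irr_of_ne (hirr _ hφc) (hirr χ hχ) n3,
        CfsgLib.Char.classInner_irr_of_ne (hirr _ hφc) (hirr _ hχc) n4]
      norm_num
    obtain ⟨r1, r2, r3, r4⟩ := Cfsg.Agent.S1509.result (a φ) (b φ) (a χ) (b χ) (Or.inl (ha φ hφ))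
      (Or.inl (hb φ hφ)) (Or.inl (ha χ hχ)) (Or.inl (hb χ hχ)) 1 1 one_ne_zero one_ne_zero
      (CfsgLib.Char.classInner_irr_of_ne (ha φ hφ) (hb φ hφ) (hab φ hφ))
      (CfsgLib.Char.classInner_irr_of_ne (ha χ hχ) (hb χ hχ) (hab χ hχ)) hmix (h1 φ hφ)
      (by rw [h1 χ hχ])
    intro x hx y hy
    simp only [Finset.mem_insert, Finset.mem_singleton] at hx hy
    rcases hx with rfl | rfl <;> rcases hy with rfl | rfl <;>
      simp [CfsgLib.Char.classInner_neg_left, CfsgLib.Char.classInner_neg_right, r1, r2, r3, r4]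

end Cfsg.Agent.S1514
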