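import Cfsg.Statements.S1515
import Cfsg.Agent.Lib.OddChar.Virt

set_option autoImplicit false
open Cfsg

namespace Cfsg.Agent.S1515

/-- Let (S, τ, R) be a coherence system from L to G, χ ∈ S, and ψ an integer combination of S with ⟨χ, ψ⟩ = ⟨conj χ, ψ⟩ = 0. Let τ₁ be a linear isometry on the integer combinations of χ − ψ and χ − conj χ, with virtual-character values, agreeing with τ on integer multiples of χ − conj χ. Then the sum over α ∈ R χ of the squared absolute values of ⟨τ₁(χ − ψ), α⟩ is at least ⟨χ, χ⟩; and if ⟨τ₁(χ − ψ), τ₁(χ − ψ)⟩ minus that sum is at least ⟨ψ, ψ⟩, then the sum equals ⟨χ, χ⟩ and every ⟨τ₁(χ − ψ), α⟩ with α ∈ R χ is 0 or 1. -/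
theorem result {L : Type*} [Group L] [Fintype L] {G : Type*} [Group G] [Fintype G] (S : Set (L → ℂ)) (τ : (L → ℂ) → (G → ℂ)) (R : (L → ℂ) → Finset (G → ℂ)) (hS : Cfsg.IsCoherenceSystem S τ R) (χ : L → ℂ) (hχ : χ ∈ S) (ψ : L → ℂ) (hψ : ψ ∈ Cfsg.zspan S) (h1 : Cfsg.classInner χ ψ = 0) (h2 : Cfsg.classInner (Cfsg.conjFun χ) ψ = 0) (τ₁ : (L → ℂ) → (G → ℂ)) (hτ₁ : Cfsg.IsLinearIsometryOn (Cfsg.zspan {χ - ψ, χ - Cfsg.conjFun χ}) τ₁) (hagree : ∀ n : ℤ, τ₁ (n • (χ - Cfsg.conjFun χ)) = τ (n • (χ - Cfsg.conjFun χ))) : (Cfsg.classInner χ χ).re ≤ ∑ α ∈ R χ, ‖Cfsg.classInner (τ₁ (χ - ψ)) α‖ ^ 2 ∧ ((Cfsg.classInner ψ ψ).re ≤ (Cfsg.classInner (τ₁ (χ - ψ)) (τ₁ (χ - ψ))).re - ∑ α ∈ R χ, ‖Cfsg.classInner (τ₁ (χ - ψ)) α‖ ^ 2 → (∑ α ∈ R χ, ‖Cfsg.classInner (τ₁ (χ - ψ)) α‖ ^ 2 = (Cfsg.classInner χ χ).re ∧ ∀ α ∈ R χ, Cfsg.classInner (τ₁ (χ - ψ)) α = 0 ∨ Cfsg.classInner (τ₁ (χ - ψ))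 α = 1)) := by
  classical
  set x := τ₁ (χ - ψ)
  have m1 : χ - ψ ∈ Cfsg.zspan ({χ - ψ, χ - Cfsg.conjFun χ} : Set (L → ℂ)) :=
    CfsgLib.OddChar.mem_zspan_self (by simp)
  have m2 : χ - Cfsg.conjFun χ ∈ Cfsg.zspan ({χ - ψ, χ - Cfsg.conjFun χ} : Set (L → ℂ)) :=
    CfsgLib.OddChar.mem_zspan_self (by simp)
  have hag : τ₁ (χ - Cfsg.conjFun χ) = ∑ α ∈ R χ, α := by
    have := hagree 1
    rw [one_smul] at this
    rw [this, hS.sum_eq χ hχ]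
  choose! a ha using fun α (hα : α ∈ R χ) =>
    (show ∃ z : ℤ, Cfsg.classInner x α = z by
      obtain ⟨z, e, hz, -⟩ := CfsgLib.OddChar.exists_int_coeff (hτ₁.2.2.2 _ m1)
      obtain ⟨w, e', hw, -⟩ := CfsgLib.OddChar.exists_int_coeff (hS.virtual χ hχ α hα)
      refine ⟨∑ φ, z φ * w φ, ?_⟩
      rw [show x = ∑ φ, (z φ : ℂ) • (φ : G → ℂ) from e, e', CfsgLib.Char.classInner_sum_smul_sum_smul]
      push_cast
      simp)
  obtain ⟨n, hn⟩ := CfsgLib.Char.IsCharacter.exists_nat_classInner' (hS.isCharacter χ hχ) (hS.isCharacter χ hχ)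
  have hψχ : Cfsg.classInner ψ χ = 0 := by rw [← CfsgLib.Char.classInner_conj_symm, h1, map_zero]
  have hψc : Cfsg.classInner ψ (Cfsg.conjFun χ) = 0 := by rw [← CfsgLib.Char.classInner_conj_symm, h2, map_zero]
  have hsum : ∑ α ∈ R χ, a α = n := by
    have h3 : Cfsg.classInner x (∑ α ∈ R χ, α) = n := by
      rw [← hag, hτ₁.2.2.1 _ m1 _ m2, CfsgLib.Char.classInner_sub_left,
        CfsgLib.Char.classInner_sub_right, CfsgLib.Char.classInner_sub_right, hψχ, hψc,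
        hS.orthogonal χ hχ _ (hS.conj_mem χ hχ) (hS.conj_ne χ hχ).symm, hn]
      simp
    rw [CfsgLib.Char.classInner_sum_right, Finset.sum_congr rfl ha] at h3
    exact_mod_cast h3
  have hsq : ∑ α ∈ R χ, ‖Cfsg.classInner x α‖ ^ 2 = ((∑ α ∈ R χ, a α ^ 2 : ℤ) : ℝ) := by
    push_cast
    refine Finset.sum_congr rfl fun α hα => ?_
    rw [ha α hα, Complex.norm_intCast, sq_abs]
  have hnre : (Cfsg.classInner χ χ).re = (n : ℝ) := by rw [hn, Complex.natCast_re]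
  have hle1 : ∀ α ∈ R χ, a α ≤ a α ^ 2 := fun α _ => Int.le_self_sq (a α)
  have hge : (n : ℤ) ≤ ∑ α ∈ R χ, a α ^ 2 := hsum ▸ Finset.sum_le_sum hle1
  refine ⟨by rw [hnre, hsq]; exact_mod_cast hge, fun hle => ?_⟩
  have hxx : (Cfsg.classInner x x).re = (n : ℝ) + (Cfsg.classInner ψ ψ).re := by
    rw [show Cfsg.classInner x x = Cfsg.classInner (χ - ψ) (χ - ψ) from hτ₁.2.2.1 _ m1 _ m1,
      CfsgLib.Char.classInner_sub_left, CfsgLib.Char.classInner_sub_right,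
      CfsgLib.Char.classInner_sub_right, h1, hψχ, hn]
    simp
  rw [hxx, hsq] at hle
  have hle' : ∑ α ∈ R χ, a α ^ 2 ≤ (n : ℤ) := by
    have : ((∑ α ∈ R χ, a α ^ 2 : ℤ) : ℝ) ≤ ((n : ℤ) : ℝ) := by push_cast at hle ⊢; linarith
    exact_mod_cast this
  have heq : ∑ α ∈ R χ, a α ^ 2 = (n : ℤ) := le_antisymm hle' hge
  refine ⟨by rw [hsq, hnre, heq]; push_cast; rfl, fun α hα => ?_⟩
  have := (Finset.sum_eq_sum_iff_of_le hle1).1 (hsum.trans heq.symm) α hα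
  have h4 : a α * (a α - 1) = 0 := by linear_combination -this
  rw [ha α hα]
  rcases mul_eq_zero.1 h4 with h | h
  · left; simp [h]
  · right; simp [sub_eq_zero.1 h]

end Cfsg.Agent.S1515
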