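import Cfsg.Statements.S1522
import Cfsg.Agent.Lib.OddChar.CentralGen
import Cfsg.Agent.S1521

set_option autoImplicit false
open Cfsg

namespace Cfsg.Agent.S1522

/-- Let K be a nilpotent normal subgroup of the finite group L of odd order with [K,K] < K < L and L/[K,K] a Frobenius group with kernel K/[K,K] (elements of K outside [K,K] are centralised modulo [K,K] only from inside K); let (S, τ, R) be a coherence system from L to G with S the functions induced from non-principal irreducible characters of K. Let Z be a nontrivial normal subgroup of L contained in the centre of K, and suppose every member of S outside S(Z) is an irreducible character of L. Then S minus S(Z) is the set of irreducible characters χ of L with χ z ≠ χ 1 for some z ∈ Z, and it is coherent. -/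
theorem result {L : Type*} [Group L] [Fintype L] {G : Type*} [Group G] [Fintype G] (K : Subgroup L) [hK : K.Normal] (hsolv : Group.IsSolvable K) (τ : (L → ℂ) → (G → ℂ)) (R : (L → ℂ) → Finset (G → ℂ)) (hS : Cfsg.IsCoherenceSystem (Cfsg.inducedIrrAbove K ⊥) τ R) (hodd : Odd (Nat.card L)) (hnil : Group.IsNilpotent K) (hH₁K : ⁅K, K⁆ < K) (hKL : K < ⊤) (hfrob : ∀ k ∈ K, k ∉ ⁅K, K⁆ → ∀ x : L, x * k * x⁻¹ * k⁻¹ ∈ ⁅K, K⁆ → x ∈ K) (Z : Subgroup L) [Z.Normal] (hZ1 : Z ≠ ⊥) (hZK : Z ≤ K) (hZc : ∀ z ∈ Z, ∀ k ∈ K, z * k = k * z) (hirr : ∀ χ ∈ Cfsg.inducedIrrAbove K ⊥ \ Cfsg.inducedIrrAbove K Z, Cfsg.IsIrrCharacter L χ) : Cfsg.inducedIrrAbove K ⊥ \ Cfsg.inducedIrrAbove K Z = {χ | Cfsg.IsIrrCharacter L χ ∧ ∃ z ∈ Z, χ z ≠ χ 1} ∧ Cfsg.IsCoherent (Cfsg.inducedIrrAbove K ⊥ \ Cfsg.inducedIrrAbove K Z) {1}ᶜ τ := by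
  classical
  set S := Cfsg.inducedIrrAbove K ⊥ with hSdef
  set SZ := Cfsg.inducedIrrAbove K Z with hSZdef
  have hsub : S \ SZ ⊆ S := Set.sdiff_subset
  obtain ⟨X, hX, hXset, hXsum⟩ := CfsgLib.OddChar.CentralGen.exists_central_data' K Z hZK hirr
  have hne : (S \ SZ).Nonempty := by
    by_contra hc
    rw [Set.not_nonempty_iff_eq_empty] at hc
    rw [← hSdef, ← hSZdef, hc, Finset.coe_eq_empty] at hXset
    rw [hXset, Finset.sum_empty] at hXsum
    have h1 : 1 < Nat.card Z := (Subgroup.one_lt_card_iff_ne_bot Z).2 hZ1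
    rcases Nat.mul_eq_zero.1 hXsum.symm with h | h
    · exact Subgroup.index_ne_zero_of_finite h
    rcases Nat.mul_eq_zero.1 h with h | h
    · exact Subgroup.index_ne_zero_of_finite (H := Z.subgroupOf K) h
    · omega
  have hconj : ∀ χ ∈ S \ SZ, Cfsg.conjFun χ ∈ S \ SZ := fun χ hχ =>
    ⟨hS.conj_mem χ hχ.1, fun h => hχ.2 (by
      have := CfsgLib.OddChar.Above.above_conj K Z h
      simpa [CfsgLib.OddChar.conjFun_conjFun] using this)⟩
  by_cases hpp : ∃ p m : ℕ, p.Prime ∧ Nat.card K = p ^ m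
  · obtain ⟨p, m, hp, hm⟩ := hpp
    have hm0 : m ≠ 0 := fun h => hH₁K.ne_bot (Subgroup.card_eq_one.1 (by rw [hm, h, pow_zero]))
    have hp2 : p ≠ 2 := fun h => (Nat.not_even_iff_odd.2
      (hodd.of_dvd_nat ((dvd_pow_self p hm0).trans (hm ▸ K.card_subgroup_dvd_card))))
      (h ▸ even_two)
    haveI : (⁅K, K⁆ : Subgroup L).Normal := Subgroup.commutator_normal K K
    have hcope : Nat.Coprime p K.index := by
      have h1 := CfsgLib.OddChar.FrobSection.index_dvd_relIndex_sub_one K ⁅K, K⁆ K hH₁K.le le_rfl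
        (fun x hx y hy => CfsgLib.OddChar.FrobCoh.commutator_mem K x y hx hy) hfrob
      have h2 : (⁅K, K⁆ : Subgroup L).relIndex K ∣ p ^ m := hm ▸ Subgroup.index_dvd_card _
      obtain ⟨r, -, hr⟩ := (Nat.dvd_prime_pow hp).1 h2
      have hr0 : r ≠ 0 := fun h => hH₁K.not_ge (Subgroup.relIndex_eq_one.1 (by rw [hr, h, pow_zero]))
      rw [hr] at h1
      refine (Nat.Prime.coprime_iff_not_dvd hp).2 fun hd => ?_
      have h3 := hd.trans h1
      have h4 : p ∣ p ^ r - (p ^ r - 1) := Nat.dvd_sub (dvd_pow_self p hr0) h3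
      rw [Nat.sub_sub_self (Nat.one_le_pow _ _ hp.pos)] at h4
      exact hp.not_dvd_one h4
    exact CfsgLib.OddChar.CentralGen.central_part_coherent' K hp hp2 ⟨m, hm⟩
      (hodd.of_dvd_nat K.index_dvd_card) hcope Z hZ1 hZK hZc hirr
      (CfsgLib.OddChar.Irr.isometry_mono hS.isometry hsub)
      fun α hα => hS.map_one α (CfsgLib.OddChar.Coh.zspanOn_mono hsub hα)
  · refine ⟨by rw [← hXset]; exact Set.ext fun χ => by simp [hX χ], ?_⟩
    haveI : ((⊥ : Subgroup L).subgroupOf K).Normal := by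
      rw [Subgroup.bot_subgroupOf]; infer_instance
    have hall := Cfsg.Agent.S1521.result K hsolv τ R hS hodd ⊥ bot_le
      (Group.nilpotent_of_surjective (QuotientGroup.mk' _) (QuotientGroup.mk'_surjective _))
      ⁅K, K⁆ (sup_bot_eq _).symm hH₁K hKL hfrob
      (Or.inr (Or.inr (Or.inl (by rwa [Subgroup.relIndex_bot_left]))))
    exact CfsgLib.OddChar.Above.coherent_mono hS subset_rfl hall hsub hne hconj

end Cfsg.Agent.S1522
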