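import Cfsg.Statements.S1524
import Cfsg.Agent.Lib.OddChar.FeitSibley
import Cfsg.Agent.Lib.Frobenius.Fpf

set_option autoImplicit false
open Cfsg

namespace Cfsg.Agent.S1524

/-- Let G be a finite group and H ≤ L subgroups with L of odd order, H ≠ ⊥ nilpotent and normal in L with a nontrivial complement W₁ in L (H ⊓ W₁ = ⊥, H ⊔ W₁ = L) acting on H without non-identity fixed points (L is a Frobenius group with kernel H), and suppose the underlying set of H is a TI-subset of G whose normaliser is L. Let S be the set of functions on L induced from the non-principal irreducible characters of H. Then (S, L minus 1, induction to G) is coherent. -/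
theorem result {G : Type*} [Group G] [Fintype G] (H L W₁ : Subgroup G) [Fintype L] (hodd : Odd (Nat.card L)) (hHL : H ≤ L) (hW₁L : W₁ ≤ L) (hH1 : H ≠ ⊥) (hW1 : W₁ ≠ ⊥) (hnil : Group.IsNilpotent H) (hHn : ∀ x ∈ L, ∀ h ∈ H, x * h * x⁻¹ ∈ H) (hinf : H ⊓ W₁ = ⊥) (hsup : H ⊔ W₁ = L) (hfpf : ∀ w ∈ W₁, w ≠ 1 → ∀ h ∈ H, w * h = h * w → h = 1) (hTI : Cfsg.IsTISubset (H : Set G)) (hN : Subgroup.normalizer (H : Set G) = L) : Cfsg.IsCoherent (Cfsg.inducedIrrAbove (H.subgroupOf L) ⊥) {1}ᶜ (fun α : L → ℂ => Cfsg.indFun L α) := by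
  classical
  have hfpf' : ∀ w ∈ W₁, w ≠ 1 → H ⊓ Subgroup.centralizer ({w} : Set G) = ⊥ := by
    intro w hw hw1
    rw [Subgroup.eq_bot_iff_forall]
    intro h hh
    exact hfpf w hw hw1 h hh.1 (Subgroup.mem_centralizer_singleton_iff.1 hh.2).symm
  have hWn : W₁ ≤ Subgroup.normalizer (H : Set G) := hN.symm ▸ hW₁L
  have hcop := CfsgLib.Frobenius.coprime_card_of_fpf hWn hfpf'
  have hdec : ∀ x ∈ L, ∃ h ∈ H, ∃ w ∈ W₁, x = h * w := by
    intro x hx
    rw [← hsup, ← SetLike.mem_coe, Subgroup.coe_mul_of_right_le_normalizer_left H W₁ hWn] at hx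
    obtain ⟨h, hh, w, hw, e⟩ := hx
    exact ⟨h, hh, w, hw, e.symm⟩
  have hC : ∀ k ∈ H, k ≠ 1 → Subgroup.centralizer ({k} : Set G) ≤ H := by
    intro k hk hk1 x hx
    have hxk := Subgroup.mem_centralizer_singleton_iff.1 hx
    have hxL : x ∈ L := by
      rw [← hN]
      by_contra hxn
      refine hk1 (hTI x hxn k hk ?_)
      rw [hxk, mul_inv_cancel_right]; exact hk
    obtain ⟨h, hh, w, hw, rfl⟩ := hdec x hxL
    by_cases hw1 : w = 1
    · rw [hw1, mul_one]; exact hh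
    exfalso
    obtain ⟨u, hu, c, hc, hcw, he⟩ := CfsgLib.OddChar.exists_conj_centralizer_coset H w (hWn hw)
      (hcop.coprime_dvd_left (by
        have := orderOf_dvd_natCard (⟨w, hw⟩ : W₁)
        rwa [Subgroup.orderOf_mk] at this)) h hh
    have hc1 : c = 1 := hfpf w hw hw1 c hc hcw.symm
    rw [hc1, one_mul] at he
    have h1 : w * (u * k * u⁻¹) = u * k * u⁻¹ * w := by
      calc w * (u * k * u⁻¹) = u * (h * w) * u⁻¹ * (u * k * u⁻¹) := by rw [he]
        _ = u * (h * w * k) * u⁻¹ := by group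
        _ = u * (k * (h * w)) * u⁻¹ := by rw [hxk]
        _ = u * k * u⁻¹ * (u * (h * w) * u⁻¹) := by group
        _ = u * k * u⁻¹ * w := by rw [he]
    exact hk1 (conj_eq_one_iff.1 (hfpf w hw hw1 _
      (H.mul_mem (H.mul_mem hu hk) (H.inv_mem hu)) h1))
  have hlt : H < L := lt_of_le_of_ne hHL fun h => hW1 (by
    rw [← hinf, inf_eq_right.2 (hW₁L.trans h.ge)])
  have hn : (H.subgroupOf L).Normal := ⟨fun h hh g => hHn g g.2 h hh⟩
  rw [← CfsgLib.OddChar.Sibley.setOf_irr_eq_above' H L hn hC]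
  have hHodd : Odd (Nat.card H) := hodd.of_dvd_nat (Subgroup.card_dvd_of_le hHL)
  rcases CfsgLib.OddChar.Sibley.feit_sibley H L hN.symm hH1 hTI hlt hC with
    ⟨-, h2, -⟩ | ⟨h2, -⟩ | h
  · exfalso
    have hio : Odd (H.subgroupOf L).index := hodd.of_dvd_nat (Subgroup.index_dvd_card _)
    rw [h2] at hHodd
    exact Nat.not_even_iff_odd.2 hHodd (hio.add_odd odd_one)
  · exfalso
    rw [h2] at hHodd
    rcases Nat.eq_zero_or_pos ((Nat.card G).factorization 2) with h0 | h0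
    · exact hH1 (Subgroup.card_eq_one.1 (by rw [h2, h0, pow_zero]))
    · exact Nat.not_even_iff_odd.2 hHodd ((Nat.even_pow).2 ⟨even_two, h0.ne'⟩)
  · exact h

end Cfsg.Agent.S1524
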