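import Cfsg.Statements.S1529
import Cfsg.Agent.Lib.OddChar.Virt

set_option autoImplicit false
open Cfsg

namespace Cfsg.Agent.S1529

/-- Let N be a subgroup of the finite group G, S a set of irreducible characters of N with at least two members, and τ₁ a linear isometry on the integer combinations of S with virtual-character values such that τ₁ α vanishes at 1 whenever α ∈ ℤ[S] does. Then there is ε ∈ {1, −1} such that ε • τ₁ χ is an irreducible character of G for every χ ∈ S, and distinct members of S give distinct characters. -/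
theorem result {G : Type*} [Group G] [Fintype G] (N : Subgroup G) [Fintype N] (S : Set (N → ℂ)) (hirr : ∀ χ ∈ S, Cfsg.IsIrrCharacter N χ) (htwo : ∃ χ ∈ S, ∃ ψ ∈ S, χ ≠ ψ) (τ₁ : (N → ℂ) → (G → ℂ)) (hτ₁ : Cfsg.IsLinearIsometryOn (Cfsg.zspan S) τ₁) (h0 : ∀ α ∈ Cfsg.zspan S, α 1 = 0 → τ₁ α 1 = 0) : ∃ ε : ℂ, (ε = 1 ∨ ε = -1) ∧ (∀ χ ∈ S, Cfsg.IsIrrCharacter G (ε • τ₁ χ)) ∧ (∀ χ ∈ S, ∀ ψ ∈ S, τ₁ χ = τ₁ ψ → χ = ψ) := by
  classical
  have hsign : ∀ χ ∈ S, ∃ ε : ℤ, (ε = 1 ∨ ε = -1) ∧ Cfsg.IsIrrCharacter G ((ε : ℂ) • τ₁ χ) := by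
    intro χ hχ
    have hm := CfsgLib.OddChar.mem_zspan_self hχ
    rcases CfsgLib.OddChar.irr_or_neg_of_norm_one (hτ₁.2.2.2 _ hm)
      (by rw [hτ₁.2.2.1 _ hm _ hm, CfsgLib.Char.classInner_irr_self (hirr χ hχ)]) with h | h
    · exact ⟨1, Or.inl rfl, by simpa using h⟩
    · exact ⟨-1, Or.inr rfl, by simpa using h⟩
  choose! ε hε1 hε using hsign
  have hsame : ∀ χ ∈ S, ∀ ψ ∈ S, ε χ = ε ψ := by
    intro χ hχ ψ hψ
    obtain ⟨c, hc0, hc⟩ := CfsgLib.Char.IsIrrCharacter.exists_degree (hirr χ hχ)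
    obtain ⟨e, he0, he⟩ := CfsgLib.Char.IsIrrCharacter.exists_degree (hirr ψ hψ)
    obtain ⟨C, hC0, hC⟩ := CfsgLib.Char.IsIrrCharacter.exists_degree (hε χ hχ)
    obtain ⟨E, hE0, hE⟩ := CfsgLib.Char.IsIrrCharacter.exists_degree (hε ψ hψ)
    have m1 : (e : ℤ) • χ ∈ Cfsg.zspan S := Submodule.smul_mem _ _ (CfsgLib.OddChar.mem_zspan_self hχ)
    have m2 : (-(c : ℤ)) • ψ ∈ Cfsg.zspan S := Submodule.smul_mem _ _ (CfsgLib.OddChar.mem_zspan_self hψ)
    have h := h0 ((e : ℤ) • χ + (-(c : ℤ)) • ψ) (Submodule.add_mem _ m1 m2) (by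
      simp [hc, he]; ring)
    rw [hτ₁.1 _ m1 _ m2, hτ₁.2.1 _ (CfsgLib.OddChar.mem_zspan_self hχ),
      hτ₁.2.1 _ (CfsgLib.OddChar.mem_zspan_self hψ)] at h
    simp only [Pi.add_apply, Pi.smul_apply, smul_eq_mul, zsmul_eq_mul, Pi.mul_apply, Pi.neg_apply,
      Pi.natCast_apply, Pi.intCast_apply, Int.cast_neg, Int.cast_natCast] at h hC hE
    rcases hε1 χ hχ with a | a <;> rcases hε1 ψ hψ with b | b <;> rw [a, b]
    · exfalso
      rw [a] at hC; rw [b] at hE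
      simp only [Int.cast_one, one_mul, Int.cast_neg, neg_mul] at hC hE
      have : ((e * C + c * E : ℕ) : ℂ) = 0 := by push_cast; linear_combination h - (e : ℂ) * hC - (c : ℂ) * hE
      have h5 : e * C + c * E = 0 := by exact_mod_cast this
      have := Nat.mul_pos he0 hC0
      omega
    · exfalso
      rw [a] at hC; rw [b] at hE
      simp only [Int.cast_one, one_mul, Int.cast_neg, neg_mul] at hC hE
      have : ((e * C + c * E : ℕ) : ℂ) = 0 := by push_cast; linear_combination -h - (e : ℂ) * hC - (c : ℂ) * hE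
      have h5 : e * C + c * E = 0 := by exact_mod_cast this
      have := Nat.mul_pos he0 hC0
      omega
  obtain ⟨χ₀, hχ₀, -⟩ := htwo
  refine ⟨(ε χ₀ : ℂ), ?_, fun χ hχ => hsame χ hχ χ₀ hχ₀ ▸ hε χ hχ, fun χ hχ ψ hψ h => ?_⟩
  · rcases hε1 χ₀ hχ₀ with h | h <;> simp [h]
  · by_contra hne
    have hm := CfsgLib.OddChar.mem_zspan_self hχ
    have hm' := CfsgLib.OddChar.mem_zspan_self hψ
    have e1 := hτ₁.2.2.1 _ hm _ hm'
    rw [← h, hτ₁.2.2.1 _ hm _ hm, CfsgLib.Char.classInner_irr_self (hirr χ hχ),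
      CfsgLib.Char.classInner_irr_of_ne (hirr χ hχ) (hirr ψ hψ) hne] at e1
    exact one_ne_zero e1

end Cfsg.Agent.S1529
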