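import Cfsg.Statements.S1532
import Cfsg.Agent.Lib.OddChar.FeitSibley

set_option autoImplicit false
open Cfsg

namespace Cfsg.Agent.S1532

/-- Let G be a finite group, p an odd prime and P a Sylow p-subgroup that is non-abelian, whose underlying set is a TI-subset of G, with P properly contained in its set normaliser N and C_G(x) ≤ P for every non-identity x ∈ P. Let Z be a nontrivial subgroup of the centre of P normalised by N. Then the set of irreducible characters χ of N with χ z ≠ χ 1 for some z ∈ Z is coherent for the map induced by induction from N to G. -/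
theorem result {G : Type*} [Group G] [Fintype G] (p : ℕ) [Fact p.Prime] (hp : p ≠ 2) (P : Sylow p G) (hna : ¬ IsMulCommutative (P : Subgroup G)) (hTI : Cfsg.IsTISubset ((P : Subgroup G) : Set G)) (hlt : (P : Subgroup G) < Subgroup.normalizer ((P : Subgroup G) : Set G)) (hC : ∀ k ∈ (P : Subgroup G), k ≠ 1 → Subgroup.centralizer ({k} : Set G) ≤ (P : Subgroup G)) [Fintype ↥(Subgroup.normalizer ((P : Subgroup G) : Set G))] (Z : Subgroup G) (hZ1 : Z ≠ ⊥) (hZP : ∀ z ∈ Z, z ∈ (P : Subgroup G) ∧ ∀ y ∈ (P : Subgroup G), z * y = y * z) (hZn : ∀ x ∈ Subgroup.normalizer ((P : Subgroup G) : Set G), ∀ z ∈ Z, x * z * x⁻¹ ∈ Z) : Cfsg.IsCoherent {χ : ↥(Subgroup.normalizer ((P : Subgroup G) : Set G)) → ℂ | Cfsg.IsIrrCharacter ↥(Subgroup.normalizer ((P : Subgroup G) : Set G)) χ ∧ ∃ z : ↥(Subgroup.normalizer ((P : Subgroup G) : Set G)), (z : G) ∈ Z ∧ χ z ≠ χ 1} {1}ᶜ (fun α => Cfsg.indFun (Subgroup.normalizer ((P : Subgroup G) : Set G)) α) := by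
  classical
  haveI hn : ((P : Subgroup G).subgroupOf (Subgroup.normalizer ((P : Subgroup G) : Set G))).Normal := Subgroup.normal_in_normalizer
  have hCN := CfsgLib.OddChar.Sibley.centralizer_le_of_subgroupOf (L := Subgroup.normalizer ((P : Subgroup G) : Set G)) hC
  have hPL : (P : Subgroup G) ≤ (Subgroup.normalizer ((P : Subgroup G) : Set G)) := Subgroup.le_normalizer
  have hZL : Z ≤ (Subgroup.normalizer ((P : Subgroup G) : Set G)) := fun z hz => hPL (hZP z hz).1
  haveI hZ'n : (Z.subgroupOf (Subgroup.normalizer ((P : Subgroup G) : Set G))).Normal := ⟨fun z hz g => hZn g g.2 z hz⟩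
  have hcard : Nat.card ((P : Subgroup G).subgroupOf (Subgroup.normalizer ((P : Subgroup G) : Set G))) = Nat.card (P : Subgroup G) :=
    Nat.card_congr (Subgroup.subgroupOfEquivOfLe hPL).toEquiv
  obtain ⟨m, hm⟩ := IsPGroup.iff_card.1 P.isPGroup'
  have hnaH : ¬ IsMulCommutative ((P : Subgroup G).subgroupOf (Subgroup.normalizer ((P : Subgroup G) : Set G))) := fun h => hna ⟨⟨fun a b => by
    have := h.is_comm.comm ⟨⟨a, hPL a.2⟩, a.2⟩ ⟨⟨b, hPL b.2⟩, b.2⟩
    exact Subtype.ext (congrArg (fun x : (P : Subgroup G).subgroupOf (Subgroup.normalizer ((P : Subgroup G) : Set G)) => ((x : (Subgroup.normalizer ((P : Subgroup G) : Set G))) : G)) this)⟩⟩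
  have hodd : Odd ((P : Subgroup G).subgroupOf (Subgroup.normalizer ((P : Subgroup G) : Set G))).index :=
    CfsgLib.OddChar.Sibley.odd_index _ hCN
      (by rw [hcard, hm]; exact ((Fact.out : p.Prime).odd_of_ne_two hp).pow) hnaH
  obtain ⟨hτ, hτ1⟩ := CfsgLib.OddChar.Sibley.ind_isometry (P : Subgroup G) _ rfl hTI
  exact CfsgLib.OddChar.CentralPart.central_part_coherent ((P : Subgroup G).subgroupOf (Subgroup.normalizer ((P : Subgroup G) : Set G)))
    (Fact.out : p.Prime) hp ⟨m, by rw [hcard, hm]⟩ hodd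
    (fun h => hlt.not_ge (Subgroup.subgroupOf_eq_top.1 h)) hCN (Z.subgroupOf (Subgroup.normalizer ((P : Subgroup G) : Set G)))
    (fun h => hZ1 (by
      rw [Subgroup.subgroupOf_eq_bot, disjoint_iff, inf_eq_left.2 hZL] at h; exact h))
    (fun z hz => (hZP z hz).1) (fun z hz y hy => Subtype.ext ((hZP z hz).2 y hy)) hτ hτ1

end Cfsg.Agent.S1532
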