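import Cfsg.Statements.S1537
import Cfsg.Agent.Lib.OddChar.MaxDade
import Cfsg.Agent.Lib.OddChar.TameEmbedding
import Cfsg.Agent.S1355

set_option autoImplicit false
open Cfsg

namespace Cfsg.Agent.S1537

/-- Let G be a minimal simple group of odd order and M a maximal subgroup. For A equal to A₁(M), A(M) or A₀(M): the set normaliser of A is M, and the Dade hypothesis holds for A, M and the function a ↦ R(a). -/
theorem result {G : Type*} [Group G] [Finite G] (hG : Cfsg.IsMinSimpleOddOrder G) (M : Subgroup G) (hM : IsCoatom M) (A : Set G) (hA : A = Cfsg.typeA1 M ∨ A = Cfsg.typeA M ∨ A = Cfsg.typeA0 M) : Subgroup.normalizer A = M ∧ Cfsg.DadeHypothesis A M (Cfsg.supportR M) := by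
  obtain ⟨hne, hFσ, hσM, -, -⟩ := Cfsg.Agent.S1355.result hG M hM
  have hle := hFσ.trans hσM
  obtain ⟨K, U, hKU⟩ := CfsgLib.OddChar.MaxTypes.exists_decomposition hG hM
  have hS := CfsgLib.OddChar.MaxTypes.supportData hG hM hKU
  have h10 : Cfsg.typeA1 M ⊆ Cfsg.typeA0 M :=
    (CfsgLib.OddChar.MaxTypes.typeA1_subset_typeA hle).trans
      CfsgLib.OddChar.MaxTypes.typeA_subset_typeA0
  have hsub : A ⊆ Cfsg.typeA0 M := by
    rcases hA with rfl | rfl | rfl
    · exact h10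
    · exact CfsgLib.OddChar.MaxTypes.typeA_subset_typeA0
    · exact subset_rfl
  have hM' : A ⊆ (M : Set G) := hsub.trans CfsgLib.OddChar.MaxTypes.typeA0_subset_M
  have h1 : (1 : G) ∉ A := fun h => CfsgLib.OddChar.MaxTypes.one_notMem_typeA0 (hsub h)
  have hinv : ∀ x ∈ M, ∀ a ∈ A, x * a * x⁻¹ ∈ A := by
    rcases hA with rfl | rfl | rfl
    · exact fun x hx a ha => CfsgLib.OddChar.MaxTypes.typeA1_conj hx ha
    · exact fun x hx a ha => CfsgLib.OddChar.MaxTypes.typeA_conj hx ha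
    · exact fun x hx a ha => CfsgLib.OddChar.MaxTypes.typeA0_conj hx ha
  have hne' : A.Nonempty := by
    obtain ⟨a, ha⟩ := CfsgLib.OddChar.MaxTypes.typeA1_nonempty hne hle
    rcases hA with rfl | rfl | rfl
    · exact ⟨a, ha⟩
    · exact ⟨a, CfsgLib.OddChar.MaxTypes.typeA1_subset_typeA hle ha⟩
    · exact ⟨a, h10 ha⟩
  exact ⟨CfsgLib.OddChar.MaxTypes.normalizer_eq hG hM hM' h1 hne' hinv,
    CfsgLib.OddChar.MaxTypes.dadeHypothesis hsub hM' h1 hinv hS⟩

end Cfsg.Agent.S1537
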