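import Cfsg.Statements.S1542
import Cfsg.Agent.Lib.FT.Probe
import Cfsg.Agent.Lib.OddChar.TypeSigma
-- import your own Cfsg.Agent.* helpers here

set_option autoImplicit false
open Cfsg

namespace Cfsg.Agent.S1542

/-- Let G be a minimal simple group of odd order and L a maximal subgroup of Type I in which every non-identity element of H = L_F has its centraliser within L inside H. Let S be the set of functions on L induced from non-principal irreducible characters of H. Then every member of S is an irreducible character of L, and (S, L minus 1, τ) is coherent for τ the Dade map relative to A(L), L and a ↦ R(a). -/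
theorem result {G : Type*} [Group G] [Fintype G] (hG : Cfsg.IsMinSimpleOddOrder G) (L : Subgroup G) [Fintype L] (hL : IsCoatom L) (hI : Cfsg.IsOfTypeI L) (hfrob : ∀ x ∈ Cfsg.fittingHallOf L, x ≠ 1 → L ⊓ Subgroup.centralizer ({x} : Set G) ≤ Cfsg.fittingHallOf L) : (∀ χ ∈ Cfsg.inducedIrrAbove (Cfsg.fittingHall L) ⊥, Cfsg.IsIrrCharacter L χ) ∧ Cfsg.IsCoherent (Cfsg.inducedIrrAbove (Cfsg.fittingHall L) ⊥) {1}ᶜ (Cfsg.dadeIsometry (Cfsg.typeA L) L (Cfsg.supportR L)) := by
  obtain ⟨K, U, hKU⟩ := CfsgLib.OddChar.MaxTypes.exists_decomposition hG hL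
  have hK := CfsgLib.OddChar.MaxTypes.K_eq_bot_of_typeI hG hL hKU hI
  have hM : CfsgLib.FT.IsFType L := ⟨hL, Set.eq_empty_iff_forall_notMem.2 fun p hp =>
    hKU.hall.2.2 p hp.1 hp (by rw [hK, Subgroup.relIndex_bot_left]; exact hp.2.1)⟩
  obtain ⟨-, -, -, hFH⟩ := CfsgLib.FT.core_facts hG hM
  have hfr : CfsgLib.FT.IsFrob L := fun x hx hx1 => by
    rw [← hFH] at hx ⊢
    exact hfrob x hx hx1
  have hsub : Cfsg.fittingHall L = (Cfsg.sigmaCore L).subgroupOf L := by
    rw [← hFH, Cfsg.fittingHallOf, Subgroup.subgroupOf,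
      Subgroup.comap_map_eq_self_of_injective L.subtype_injective]
  have hA : Cfsg.typeA L = CfsgLib.FT.supFull L := by
    ext a
    rw [CfsgLib.OddChar.MaxTypes.mem_typeA_iff hG hL hKU (Or.inl hI), Cfsg.sigmaA,
      CfsgLib.OddChar.MaxTypes.sup_eq_M_of_K_eq_bot hKU hK]
    exact ⟨fun h => ⟨h.1.1, h.2⟩, fun h => ⟨⟨h.1, h.1.1⟩, h.2⟩⟩
  rw [hsub, hA]
  exact CfsgLib.FT.coherent hG hM hfr

end Cfsg.Agent.S1542
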