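import Cfsg.Statements.S1546
import Mathlib

set_option autoImplicit false
open Cfsg

namespace Cfsg.Agent.S1546

/-- Let p and q be odd primes and N = (p ^ q − 1) / (p − 1) = 1 + p + ⋯ + p^(q−1). Then N is odd; if p ≡ 1 (mod q) then q ∣ N; and if p is not ≡ 1 (mod q) then N is coprime to p − 1 and every divisor of N is ≡ 1 (mod q). -/
theorem result (p q : ℕ) (hp : p.Prime) (hq : q.Prime) (hp2 : p ≠ 2) (hq2 : q ≠ 2) : Odd ((p ^ q - 1) / (p - 1)) ∧ (p % q = 1 → q ∣ (p ^ q - 1) / (p - 1)) ∧ (p % q ≠ 1 → Nat.Coprime ((p ^ q - 1) / (p - 1)) (p - 1) ∧ ∀ x : ℕ, x ∣ (p ^ q - 1) / (p - 1) → x % q = 1) := by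
  have hp1 : 2 ≤ p := hp.two_le
  have hN : (p ^ q - 1) / (p - 1) = ∑ i ∈ Finset.range q, p ^ i := (Nat.geomSum_eq hp1 q).symm
  rw [hN]
  haveI : Fact q.Prime := ⟨hq⟩
  have hcast : ∀ r : ℕ, (p : ZMod r) = 1 → ((∑ i ∈ Finset.range q, p ^ i : ℕ) : ZMod r) = (q : ZMod r) := by
    intro r hr
    push_cast
    simp [hr]
  have hmod : ∀ a : ℕ, a % q = 1 ↔ (a : ZMod q) = 1 := by
    intro a
    have := ZMod.natCast_eq_natCast_iff' a 1 q
    rw [Nat.cast_one, Nat.mod_eq_of_lt hq.one_lt] at this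
    exact this.symm
  refine ⟨?_, ?_, ?_⟩
  · have hpo := hp.odd_of_ne_two hp2
    rw [Finset.odd_sum_iff_odd_card_odd]
    simpa [hpo.pow] using hq.odd_of_ne_two hq2
  · intro h
    rw [← ZMod.natCast_eq_zero_iff]
    exact (hcast q ((hmod p).1 h)).trans (ZMod.natCast_self q)
  · intro h
    have hprime : ∀ r : ℕ, r.Prime → r ∣ ∑ i ∈ Finset.range q, p ^ i → ¬ r ∣ p - 1 := by
      intro r hr h1 h2
      have h3 : (p : ZMod r) = 1 := by
        have := (ZMod.natCast_eq_zero_iff _ _).2 h2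
        rw [Nat.cast_sub (by omega), Nat.cast_one, sub_eq_zero] at this
        exact this
      have h4 := (ZMod.natCast_eq_zero_iff _ _).2 h1
      rw [hcast r h3, ZMod.natCast_eq_zero_iff, Nat.prime_dvd_prime_iff_eq hr hq] at h4
      subst h4
      exact h ((hmod p).2 h3)
    refine ⟨Nat.coprime_of_dvd fun r hr h1 h2 => hprime r hr h1 h2, fun x => ?_⟩
    induction x using Nat.recOnMul with
    | zero =>
      intro hx
      rw [zero_dvd_iff] at hx
      exact absurd hx (Finset.sum_pos (fun i _ => pow_pos hp.pos i)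
        (Finset.nonempty_range_iff.2 hq.ne_zero)).ne'
    | one => intro _; exact Nat.mod_eq_of_lt hq.one_lt
    | prime r hr =>
      intro hx
      haveI : Fact r.Prime := ⟨hr⟩
      have hpr : (p : ZMod r) ^ q = 1 := by
        have h0 : ((∑ i ∈ Finset.range q, p ^ i : ℕ) : ZMod r) = 0 :=
          (ZMod.natCast_eq_zero_iff _ _).2 hx
        push_cast at h0
        have := geom_sum_mul (p : ZMod r) q
        rw [h0, zero_mul] at this
        exact (sub_eq_zero.1 this.symm)
      have hne : (p : ZMod r) ≠ 1 := by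
        intro h3
        apply hprime r hr hx
        rw [← ZMod.natCast_eq_zero_iff, Nat.cast_sub (by omega), h3, Nat.cast_one, sub_self]
      have hne0 : (p : ZMod r) ≠ 0 := by
        intro h3
        rw [h3, zero_pow hq.ne_zero] at hpr
        exact zero_ne_one hpr
      have hord : orderOf (p : ZMod r) = q := orderOf_eq_prime hpr hne
      have hd : q ∣ r - 1 := hord ▸ ZMod.orderOf_dvd_card_sub_one hne0
      obtain ⟨c, hc⟩ := hd
      have := hr.two_le
      rw [show r = q * c + 1 by omega, Nat.mul_add_mod, Nat.mod_eq_of_lt hq.one_lt]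
    | mul a b ha hb =>
      intro hx
      rw [Nat.mul_mod, ha ((dvd_mul_right a b).trans hx), hb ((dvd_mul_left b a).trans hx),
        mul_one, Nat.mod_eq_of_lt hq.one_lt]

end Cfsg.Agent.S1546
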