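import Cfsg.Statements.S1567
import Cfsg.Agent.Lib.Leech.Gens

set_option autoImplicit false
open Cfsg

namespace Cfsg.Agent.S1567

/-- The rank-24 lattice is the additive subgroup generated by its 196560 minimal vectors. -/
theorem result : AddSubgroup.closure {x : Cfsg.GolayPt → ℤ | x ∈ Cfsg.leechLattice ∧ Cfsg.sqNorm x = 32} = Cfsg.leechLattice := by
  refine le_antisymm ((AddSubgroup.closure_le _).2 fun x hx => hx.1) ?_
  conv_lhs => rw [← CfsgLib.Leech.genSub_eq]
  refine (AddSubgroup.closure_le _).2 ?_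
  rintro x ⟨k, hk, rfl⟩
  have h : ((List.range 59).all fun k => sqNorm (CfsgLib.Leech.leechGen k) == 32) = true := by
    decide +kernel
  refine AddSubgroup.subset_closure ⟨CfsgLib.Leech.leechGen_mem hk, ?_⟩
  exact beq_iff_eq.1 (List.all_eq_true.1 h k (List.mem_range.2 hk))

end Cfsg.Agent.S1567
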