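import Cfsg.Statements.S1571
import Cfsg.Agent.Lib.Leech.Order

set_option autoImplicit false
open scoped Pointwise
open Cfsg

namespace Cfsg.Agent.S1571

/-- The stabiliser of the standard cross in the automorphism group of the lattice is the monomial group of the code: each of its elements acts as a signed permutation with permutation part in the code's group and sign set a codeword, and it has order 4096 · 244823040. -/
theorem result : (∀ g : ↥Cfsg.Co0, (∀ v : ↥Cfsg.leechLattice, (v : Cfsg.GolayPt → ℤ) ∈ Cfsg.stdCross → ((g • v : ↥Cfsg.leechLattice) : Cfsg.GolayPt → ℤ) ∈ Cfsg.stdCross) → ∃ f ∈ Cfsg.golayMonomialMaps, ∀ v : ↥Cfsg.leechLattice, ((g • v : ↥Cfsg.leechLattice) : Cfsg.GolayPt → ℤ) = f (v : Cfsg.GolayPt → ℤ)) ∧ Nat.card {g : ↥Cfsg.Co0 // (∀ v : ↥Cfsg.leechLattice, (v : Cfsg.GolayPt → ℤ) ∈ Cfsg.stdCross → ((g • v : ↥Cfsg.leechLattice) : Cfsg.GolayPt → ℤ) ∈ Cfsg.stdCross)} = 4096 * 244823040 := by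
  refine ⟨fun g hg => ?_, CfsgLib.Leech.card_stdStab⟩
  obtain ⟨τ, hτ, c, hc, rfl⟩ := CfsgLib.Leech.exists_mono_of_stdStab (g := g) hg
  refine ⟨_, ⟨τ⁻¹, inv_mem hτ, support₂ c, Set.mem_image_of_mem _ hc, rfl⟩, fun v => ?_⟩
  rw [CfsgLib.Leech.coe_monoEl_smul]
  funext i
  simp only [CfsgLib.Leech.monoFun, signedPerm, support₂, Finset.mem_filter, Finset.mem_univ, true_and]
  have h : c i = 1 ↔ c i ≠ 0 := by
    rcases CfsgLib.Leech.zmod_two_cases (c i) with h | h <;> simp [h]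
  simp only [h]
  rfl

end Cfsg.Agent.S1571
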