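import Cfsg.Statements.S1577
import Cfsg.Agent.Lib.Leech.Triangle.U6
import Cfsg.Agent.Lib.Leech.Triangle.FieldTransfer

set_option autoImplicit false
open Cfsg

namespace Cfsg.Agent.S1577

/-- The joint stabiliser of two minimal vectors of customary inner product −2 is isomorphic to PSU(6, 2). -/
theorem result (v w : ↥Cfsg.leechLattice) (hv : Cfsg.sqNorm (v : Cfsg.GolayPt → ℤ) = 32) (hw : Cfsg.sqNorm (w : Cfsg.GolayPt → ℤ) = 32) (hd : Cfsg.dotInt (v : Cfsg.GolayPt → ℤ) (w : Cfsg.GolayPt → ℤ) = -16) (F : Type) [Field F] [Fintype F] (hF : Fintype.card F = 4) : Nonempty (↥(MulAction.stabilizer ↥Cfsg.Co0 v ⊓ MulAction.stabilizer ↥Cfsg.Co0 w) ≃* Cfsg.PSU 6 F 2) := by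
  obtain ⟨hP, hW, hPW⟩ := CfsgLib.Leech.Triangle.U6.base_facts
  obtain ⟨g, hg⟩ := CfsgLib.Leech.Orbits.transitive32 v CfsgLib.Leech.Triangle.U6.vP hv hP
  obtain ⟨k, hk, hkw⟩ := CfsgLib.Leech.Stab.transitive_dot_sixteen hP (w := g • w)
    ((CfsgLib.Leech.sqNorm_smul g w).trans hw) hW (by rw [← hg, CfsgLib.Leech.dotInt_smul]; exact hd) hPW
  obtain ⟨e₁⟩ := CfsgLib.Leech.nonempty_pairStab_equiv (g := k * g) (v := v) (w := w)
    (by rw [mul_smul, hg, hk]) (by rw [mul_smul, hkw])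
  obtain ⟨e₂⟩ := CfsgLib.Leech.Triangle.U6.nonempty_equiv
  let e : CfsgLib.CosetEnum.Fi22U6.F4 ≃+* F :=
    FiniteField.ringEquivOfCardEq (CfsgLib.Recog.GF4.card_K4.trans hF.symm)
  exact ⟨(e₁.trans e₂).trans (CfsgLib.Leech.Triangle.psuEquivRing e)⟩

end Cfsg.Agent.S1577
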