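import Cfsg.Statements.S1582
import Cfsg.Agent.Lib.Leech.Triangle.U43
import Cfsg.Agent.Lib.Leech.Triangle.FieldTransfer

set_option autoImplicit false
open Cfsg

namespace Cfsg.Agent.S1582

/-- The point stabiliser in the rank-3 action of the McLaughlin group on 275 points is isomorphic to PSU(4, 3). -/
theorem result (u v x : ↥Cfsg.leechLattice) (hu : Cfsg.sqNorm (u : Cfsg.GolayPt → ℤ) = 48) (hv : Cfsg.sqNorm (v : Cfsg.GolayPt → ℤ) = 32 ∧ Cfsg.sqNorm ((u - v) : Cfsg.GolayPt → ℤ) = 32) (hx : x ∈ {x : ↥Cfsg.leechLattice | Cfsg.sqNorm (x : Cfsg.GolayPt → ℤ) = 32 ∧ Cfsg.sqNorm ((u - x) : Cfsg.GolayPt → ℤ) = 32 ∧ Cfsg.dotInt (v : Cfsg.GolayPt → ℤ) (x : Cfsg.GolayPt → ℤ) = 16}) (F : Type) [Field F] [Fintype F] (hF : Fintype.card F = 9) : Nonempty (↥(MulAction.stabilizer ↥Cfsg.Co0 u ⊓ MulAction.stabilizer ↥Cfsg.Co0 v ⊓ MulAction.stabilizer ↥Cfsg.Co0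 x) ≃* Cfsg.PSU 4 F 3) := by
  obtain ⟨hv1, hv2⟩ := hv
  obtain ⟨hx1, hx2, hxv⟩ := hx
  obtain ⟨g, hgu, hgv, hgx⟩ := CfsgLib.Leech.Stab.normal_mcl hu hv1
    ((CfsgLib.Leech.Stab.norm_sub_iff hu hv1).1 hv2) hx1
    ((CfsgLib.Leech.Stab.norm_sub_iff hu hx1).1 hx2) ((CfsgLib.Leech.Stab.dot_comm _ _).trans hxv)
  obtain ⟨e1⟩ := CfsgLib.Leech.Triangle.U43.nonempty_triStab_equiv hgu hgv hgx
  obtain ⟨e2⟩ := CfsgLib.Leech.Triangle.U43.nonempty_equiv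
  exact ⟨(e1.trans e2).trans (CfsgLib.Leech.Triangle.psuEquivRing
    (FiniteField.ringEquivOfCardEq (CfsgLib.Leech.Triangle.K9.card_K9.trans hF.symm)))⟩

end Cfsg.Agent.S1582
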