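import Cfsg.Statements.S1595
import Cfsg.Agent.Lib.GolayDesign.Triangle

set_option autoImplicit false
open Cfsg

namespace Cfsg.Agent.S1595

/-- Leech triangle of S(5, 6, 12): blocks meet in 0, 2, 3 or 4 points, and a block is met exactly in a given 2-, 3- or 4-subset by 3, 2, 3 blocks respectively. -/
theorem result {α : Type*} [Fintype α] [DecidableEq α] (hα : Fintype.card α = 12) {B : Set (Finset α)} (hB : Cfsg.IsSteinerSystem 5 6 B) (b : Finset α) (hb : b ∈ B) : (∀ c ∈ B, c ≠ b → (b ∩ c).card = 0 ∨ (b ∩ c).card = 2 ∨ (b ∩ c).card = 3 ∨ (b ∩ c).card = 4) ∧ ∀ s ⊆ b, (s.card = 2 → {c : Finset α | c ∈ B ∧ b ∩ c = s}.ncard = 3) ∧ (s.card = 3 → {c : Finset α | c ∈ B ∧ b ∩ c = s}.ncard = 2) ∧ (s.card = 4 → {c : Finset α | c ∈ B ∧ b ∩ c = s}.ncard = 3) := by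
  classical
  obtain ⟨hsize, huniq⟩ := hB
  have hfin : B.Finite := Set.toFinite B
  have H := CfsgLib.GolayDesign.steiner_designOn hfin hsize huniq
  have hU : (Finset.univ : Finset α).card = 12 := by rw [Finset.card_univ]; exact hα
  have hb' := hfin.mem_toFinset.2 hb
  refine ⟨fun c hc hcb => ?_, fun s hs => ?_⟩
  · have hm := H.meets_small hU hb' (Finset.inter_subset_left : b ∩ c ⊆ b)
    have hpos : 0 < CfsgLib.GolayDesign.meets hfin.toFinset b (b ∩ c) :=
      Finset.card_pos.2 ⟨c, by simp [hc, hcb]⟩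
    have hle : (b ∩ c).card ≤ 6 := (hsize b hb) ▸ Finset.card_le_card Finset.inter_subset_left
    rw [hm] at hpos
    generalize (b ∩ c).card = n at hle hpos ⊢
    interval_cases n <;> simp [CfsgLib.GolayDesign.eSmall] at hpos ⊢
  · have key : s.card < 6 → {c : Finset α | c ∈ B ∧ b ∩ c = s}.ncard
        = CfsgLib.GolayDesign.eSmall s.card := fun h6 => by
      rw [← H.meets_small hU hb' hs, CfsgLib.GolayDesign.meets, ← Set.ncard_coe_finset]
      congr 1
      ext c
      simp only [Finset.coe_filter, Finset.mem_erase, Set.Finite.mem_toFinset, Set.mem_ofPred_eq]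
      refine ⟨fun h => ⟨⟨?_, h.1⟩, h.2⟩, fun h => ⟨h.1.2, h.2⟩⟩
      rintro rfl
      rw [← h.2, Finset.inter_self, hsize c hb] at h6
      omega
    refine ⟨fun h => ?_, fun h => ?_, fun h => ?_⟩ <;> rw [key (by omega), h] <;> rfl

end Cfsg.Agent.S1595
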