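import Cfsg.Statements.S1598
import Cfsg.Agent.Lib.M24Cert.QuartetStab

set_option autoImplicit false
open scoped Pointwise
open Cfsg CfsgLib.Golay CfsgLib.M24Cert

namespace Cfsg.Agent.S1598

/-- A quartet stabiliser inside the dodecad stabiliser has order 432, a normal subgroup of order 9 with quotient GL(2, 3), and is transitive on the dodecad. -/
theorem result (d : Finset Cfsg.GolayPt) (hd : d ∈ Cfsg.dodecads) (Q : Finset (Finset Cfsg.GolayPt)) (hQ : Q ∈ Cfsg.quartets d) : Nat.card ↥(MulAction.stabilizer Cfsg.M24 d ⊓ MulAction.stabilizer Cfsg.M24 Q) = 432 ∧ (∃ (N : Subgroup ↥(MulAction.stabilizer Cfsg.M24 d ⊓ MulAction.stabilizer Cfsg.M24 Q)) (_ : N.Normal), Nat.card N = 9 ∧ Nonempty (↥(MulAction.stabilizer Cfsg.M24 d ⊓ MulAction.stabilizer Cfsg.M24 Q) ⧸ N ≃* GL (Fin 2) (ZMod 3))) ∧ ∀ p ∈ d, ∀ q ∈ d, ∃ g ∈ (MulAction.stabilizer Cfsg.M24 d ⊓ MulAction.stabilizer Cfsg.M24 Q), ((g : ↥Cfsg.M24) : Equiv.Perm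 Cfsg.GolayPt) p = q := by
  obtain ⟨g, hg, hgd, hgQ⟩ := exists_std hd hQ
  obtain rfl : (⟨g, hg⟩ : M24) • dod12 = d := hgd
  obtain rfl : (⟨g, hg⟩ : M24) • qrt0 = Q := hgQ
  let e := conjEquiv ⟨g, hg⟩ dod12 qrt0
  refine ⟨card_qStab hd hQ, ?_, fun p hp q hq => ?_⟩
  · have := qKer_normal
    have hn : (qKer.map e.toMonoidHom).Normal := qKer_normal.map _ e.surjective
    obtain ⟨ψ⟩ := nonempty_quotient
    refine ⟨qKer.map e.toMonoidHom, hn, ?_, ⟨(QuotientGroup.congr qKer (qKer.map e.toMonoidHom) e rfl).symm.trans ψ⟩⟩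
    rw [Subgroup.card_map_of_injective (show Function.Injective e.toMonoidHom from e.injective),
      card_qKer]
  · obtain ⟨h, hh⟩ := exists_move (Finset.inv_smul_mem_iff.2 hp) (Finset.inv_smul_mem_iff.2 hq)
    refine ⟨(e h : M24), (e h).2, ?_⟩
    show (g * ((h : M24) : Equiv.Perm GolayPt) * g⁻¹) p = q
    rw [Equiv.Perm.mul_apply, Equiv.Perm.mul_apply]
    exact (congrArg g hh).trans (perm_apply_inv g q)

end Cfsg.Agent.S1598
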