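import Cfsg.Statements.S1599
import Cfsg.Agent.Lib.M24Cert.QuartetOrbits

set_option autoImplicit false
open scoped Pointwise
open Cfsg CfsgLib.Golay CfsgLib.M24Cert

namespace Cfsg.Agent.S1599

/-- A quartet stabiliser has five orbits on the quartets of its dodecad, of sizes 1, 12, 27, 72, 108. -/
theorem result (d : Finset Cfsg.GolayPt) (hd : d ∈ Cfsg.dodecads) (Q : Finset (Finset Cfsg.GolayPt)) (hQ : Q ∈ Cfsg.quartets d) : ∃ X₁ ∈ Cfsg.quartets d, ∃ X₂ ∈ Cfsg.quartets d, ∃ X₃ ∈ Cfsg.quartets d, ∃ X₄ ∈ Cfsg.quartets d, (MulAction.orbit ↥(MulAction.stabilizer Cfsg.M24 d ⊓ MulAction.stabilizer Cfsg.M24 Q) X₁).ncard = 12 ∧ (MulAction.orbit ↥(MulAction.stabilizer Cfsg.M24 d ⊓ MulAction.stabilizer Cfsg.M24 Q) X₂).ncard = 27 ∧ (MulAction.orbit ↥(MulAction.stabilizer Cfsg.M24 d ⊓ MulAction.stabilizer Cfsg.M24 Q) X₃).ncard = 72 ∧ (MulAction.orbit ↥(MulAction.stabilizer Cfsg.M24 d ⊓ MulAction.stabilizer Cfsg.M24 Q) X₄).ncard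 = 108 ∧ Cfsg.quartets d = {Q} ∪ MulAction.orbit ↥(MulAction.stabilizer Cfsg.M24 d ⊓ MulAction.stabilizer Cfsg.M24 Q) X₁ ∪ MulAction.orbit ↥(MulAction.stabilizer Cfsg.M24 d ⊓ MulAction.stabilizer Cfsg.M24 Q) X₂ ∪ MulAction.orbit ↥(MulAction.stabilizer Cfsg.M24 d ⊓ MulAction.stabilizer Cfsg.M24 Q) X₃ ∪ MulAction.orbit ↥(MulAction.stabilizer Cfsg.M24 d ⊓ MulAction.stabilizer Cfsg.M24 Q) X₄ := by
  obtain ⟨g, hg, hgd, hgQ⟩ := exists_std hd hQ
  obtain ⟨X₁, h1, X₂, h2, X₃, h3, X₄, h4, c1, c2, c3, c4, hU⟩ := std_orbits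
  obtain rfl : (⟨g, hg⟩ : M24) • dod12 = d := hgd
  obtain rfl : (⟨g, hg⟩ : M24) • qrt0 = Q := hgQ
  have hq : quartets (g • dod12) = (fun X => g • X) '' quartets dod12 := by
    refine Set.eq_of_subset_of_subset (fun X hX => ⟨g⁻¹ • X, ?_, smul_inv_smul g X⟩) ?_
    · have := smul_mem_quartets (inv_mem hg) hX
      rwa [inv_smul_smul] at this
    · rintro _ ⟨X, hX, rfl⟩
      exact smul_mem_quartets hg hX
  have horb : ∀ X : Finset (Finset GolayPt),
      MulAction.orbit (qStab ((⟨g, hg⟩ : M24) • dod12) ((⟨g, hg⟩ : M24) • qrt0)) (g • X) =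
        (fun Y => g • Y) '' MulAction.orbit (qStab dod12 qrt0) X := by
    intro X
    let e := conjEquiv ⟨g, hg⟩ dod12 qrt0
    ext Y
    constructor
    · rintro ⟨a, rfl⟩
      obtain ⟨b, rfl⟩ := e.surjective a
      refine ⟨b • X, MulAction.mem_orbit _ _, ?_⟩
      show g • ((b : M24) : Equiv.Perm GolayPt) • X =
        (g * ((b : M24) : Equiv.Perm GolayPt) * g⁻¹) • g • X
      rw [mul_smul, mul_smul, inv_smul_smul]
    · rintro ⟨_, ⟨b, rfl⟩, rfl⟩
      refine ⟨e b, ?_⟩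
      show (g * ((b : M24) : Equiv.Perm GolayPt) * g⁻¹) • g • X =
        g • ((b : M24) : Equiv.Perm GolayPt) • X
      rw [mul_smul, mul_smul, inv_smul_smul]
  have hinj : Function.Injective (fun X : Finset (Finset GolayPt) => g • X) := MulAction.injective g
  refine ⟨g • X₁, smul_mem_quartets hg h1, g • X₂, smul_mem_quartets hg h2, g • X₃,
    smul_mem_quartets hg h3, g • X₄, smul_mem_quartets hg h4, ?_, ?_, ?_, ?_, ?_⟩
  · rw [horb, Set.ncard_image_of_injective _ hinj, c1]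
  · rw [horb, Set.ncard_image_of_injective _ hinj, c2]
  · rw [horb, Set.ncard_image_of_injective _ hinj, c3]
  · rw [horb, Set.ncard_image_of_injective _ hinj, c4]
  · rw [horb, horb, horb, horb]
    refine hq.trans ?_
    rw [hU, Set.image_union, Set.image_union, Set.image_union, Set.image_union, Set.image_singleton]
    rfl

end Cfsg.Agent.S1599
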