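import Cfsg.Statements.S1600
import Cfsg.Agent.Lib.M24Cert.M12Sub
import Cfsg.Agent.Lib.M24Cert.Basic

set_option autoImplicit false
open scoped Pointwise
open Cfsg CfsgLib.Golay CfsgLib.M24Cert

namespace Cfsg.Agent.S1600

theorem outer_orbit :
    orbitCheck [340831, 1, 2, 4] fixThreeGens 8388608 fixThreeForest = true := by
  decide +kernel

theorem outer_cover : pointCover (fun j => !(340831 : ℕ).testBit j)
    (targets 8388608 fixThreeForest) = true := by
  decide +kernel

/-- The pointwise stabiliser of three points of a dodecad inside the dodecad stabiliser (order 72) is transitive on the complementary dodecad. -/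
theorem result (d : Finset Cfsg.GolayPt) (hd : d ∈ Cfsg.dodecads) (p q r : Cfsg.GolayPt) (hp : p ∈ d) (hq : q ∈ d) (hr : r ∈ d) (hpq : p ≠ q) (hpr : p ≠ r) (hqr : q ≠ r) : Nat.card ↥(MulAction.stabilizer Cfsg.M24 d ⊓ MulAction.stabilizer Cfsg.M24 p ⊓ MulAction.stabilizer Cfsg.M24 q ⊓ MulAction.stabilizer Cfsg.M24 r) = 72 ∧ ∀ x ∉ d, ∀ y ∉ d, ∃ g ∈ (MulAction.stabilizer Cfsg.M24 d ⊓ MulAction.stabilizer Cfsg.M24 p ⊓ MulAction.stabilizer Cfsg.M24 q ⊓ MulAction.stabilizer Cfsg.M24 r), ((g : ↥Cfsg.M24) : Equiv.Perm Cfsg.GolayPt) x = y := by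
  obtain ⟨g, hg, hgd, hgm⟩ := exists_std_points hd [p, q, r] (by simp [hpq, hpr, hqr]) (by simp)
    (by simp [hp, hq, hr])
  simp [base12] at hgm
  have hl : [(some 2 : GolayPt), some 1, some 0].map g = [r, q, p] := by simp [hgm]
  have hL : ∀ h : M24, h ∈ MulAction.stabilizer M24 d ⊓ MulAction.stabilizer M24 p ⊓
      MulAction.stabilizer M24 q ⊓ MulAction.stabilizer M24 r ↔
      (h : Equiv.Perm GolayPt) ∈ fixPts (dodStab d) [r, q, p] := by
    intro h
    simp [mem_fixPts, MulAction.mem_stabilizer_iff, Subgroup.smul_def]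
    tauto
  refine ⟨?_, fun x hx y hy => ?_⟩
  · rw [Nat.card_congr (subgroupEquiv (dodStab_le d _) hL).toEquiv,
      ← Nat.card_congr (dodEquiv hg hgd hl).toEquiv, card_fix12_three]
  · have hout : ∀ z ∉ d, (!(340831 : ℕ).testBit (bit (g⁻¹ z))) = true := by
      intro z hz
      have : g⁻¹ z ∉ Spor.squareDodecad := fun h => hz (hgd ▸ Finset.inv_smul_mem_iff.1 h)
      rw [squareDodecad_eq, mem_toSet] at this
      simpa using this
    obtain ⟨h, hh, hxy⟩ := exists_map_point outer_orbit outer_cover (hout x hx) (hout y hy)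
    have hh12 : h ∈ fixPts Spor.M12 [some 2, some 1, some 0] := by
      refine ⟨mem_M12.2 ⟨hh.1, ?_⟩, ?_⟩
      · rw [squareDodecad_eq]; exact hh.2 _ (by simp)
      · simp only [List.forall_mem_cons, List.not_mem_nil, IsEmpty.forall_iff, implies_true, and_true]
        exact ⟨apply_eq_of_fix hh (by decide), apply_eq_of_fix hh (by decide),
          apply_eq_of_fix hh (by decide)⟩
    have hmem := (conj_fix12 hg hgd hl h).2 hh12
    refine ⟨⟨_, dodStab_le d _ hmem⟩, (hL _).2 hmem, ?_⟩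
    show (g * h * g⁻¹) x = y
    rw [Equiv.Perm.mul_apply, Equiv.Perm.mul_apply, hxy]
    exact perm_apply_inv g y

end Cfsg.Agent.S1600
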