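import Cfsg.Statements.S1601
import Cfsg.Agent.Lib.M24Cert.PSLEleven

set_option autoImplicit false
open scoped Pointwise
open Cfsg CfsgLib.Golay CfsgLib.M24Cert

namespace Cfsg.Agent.S1601


/-- In the 3-transitive action of the smallest Mathieu group on the complementary dodecad, a point stabiliser is isomorphic to PSL(2, 11). -/
theorem result (d : Finset Cfsg.GolayPt) (hd : d ∈ Cfsg.dodecads) (p q : Cfsg.GolayPt) (hp : p ∈ d) (hq : q ∉ d) : Nonempty (↥(MulAction.stabilizer Cfsg.M24 d ⊓ MulAction.stabilizer Cfsg.M24 p ⊓ MulAction.stabilizer Cfsg.M24 q) ≃* Matrix.ProjectiveSpecialLinearGroup (Fin 2) (ZMod 11)) := by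
  obtain ⟨g, hg, hgd, hgp, hgm⟩ := exists_std_outside hd hp [q] (by simp) (by simp) (by simp [hq])
  simp at hgm
  have hl : [(none : GolayPt), some 0].map g = [q, p] := by simp [hgm, hgp]
  exact ⟨(subgroupEquiv (dodStab_le d [q, p]) fun h => by
      simp [mem_fixPts, MulAction.mem_stabilizer_iff, Subgroup.smul_def]; tauto).trans
    ((dodEquiv hg hgd hl).symm.trans nonempty_pslEleven.some)⟩

end Cfsg.Agent.S1601
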