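import Cfsg.Statements.S1602
import Cfsg.Agent.Lib.M24Cert.SymFiveM11

set_option autoImplicit false
open scoped Pointwise
open Cfsg CfsgLib.Golay CfsgLib.M24Cert

namespace Cfsg.Agent.S1602


/-- In the 12-point action of the smallest Mathieu group the setwise stabiliser of a pair is isomorphic to the symmetric group of degree 5. -/
theorem result (d : Finset Cfsg.GolayPt) (hd : d ∈ Cfsg.dodecads) (p q q' : Cfsg.GolayPt) (hp : p ∈ d) (hq : q ∉ d) (hq' : q' ∉ d) (hqq' : q ≠ q') : Nonempty (↥(MulAction.stabilizer Cfsg.M24 d ⊓ MulAction.stabilizer Cfsg.M24 p ⊓ MulAction.stabilizer Cfsg.M24 ({q, q'} : Finset Cfsg.GolayPt)) ≃* Equiv.Perm (Fin 5)) := by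
  obtain ⟨g, hg, hgd, hgp, hgm⟩ := exists_std_outside hd hp [q, q'] (by simp [hqq']) (by simp)
    (by simp [hq, hq'])
  simp at hgm
  have hl : [(some 0 : GolayPt)].map g = [p] := by simp [hgp]
  have hpair : g • ({none, some 5} : Finset GolayPt) = {q, q'} := by
    simp [Finset.smul_finset_insert, hgm]
  let L : Subgroup (Equiv.Perm GolayPt) :=
    fixPts (dodStab d) [p] ⊓ MulAction.stabilizer (Equiv.Perm GolayPt) ({q, q'} : Finset GolayPt)
  have hmap : ∀ x : Equiv.Perm GolayPt, g * x * g⁻¹ ∈ L ↔ x ∈ pairStab := by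
    intro x
    simp only [L, pairStab, Subgroup.mem_inf, conj_fix12 hg hgd hl, MulAction.mem_stabilizer_iff]
    rw [← hpair, mul_smul, inv_smul_smul, mul_smul, smul_left_cancel_iff]
  exact ⟨(subgroupEquiv (L := L) (inf_le_left.trans (dodStab_le d _)) fun h => by
      simp [L, mem_fixPts, MulAction.mem_stabilizer_iff, Subgroup.smul_def]).trans
    (((MulEquiv.subgroupMap (MulAut.conj g) pairStab).trans
      (MulEquiv.subgroupCongr (map_conj_eq hmap))).symm.trans nonempty_symFive.some)⟩

end Cfsg.Agent.S1602
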