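import Cfsg.Statements.S1603
import Cfsg.Agent.Lib.M24Cert.GLThreeM11

set_option autoImplicit false
open scoped Pointwise
open Cfsg CfsgLib.Golay CfsgLib.M24Cert

namespace Cfsg.Agent.S1603


/-- Involution centralisers in the smallest Mathieu group are isomorphic to GL(2, 3). -/
theorem result (d : Finset Cfsg.GolayPt) (hd : d ∈ Cfsg.dodecads) (p : Cfsg.GolayPt) (hp : p ∈ d) (x : ↥(MulAction.stabilizer Cfsg.M24 d ⊓ MulAction.stabilizer Cfsg.M24 p)) (hx : orderOf x = 2) : Nonempty (↥(Subgroup.centralizer ({x} : Set ↥(MulAction.stabilizer Cfsg.M24 d ⊓ MulAction.stabilizer Cfsg.M24 p))) ≃* GL (Fin 2) (ZMod 3)) := by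
  obtain ⟨g, hg, hgd, hgp⟩ := exists_smul_dodecad_point hd hp
  have hl : [(some 0 : GolayPt)].map g = [p] := by simp [hgp]
  let e : ↥(MulAction.stabilizer M24 d ⊓ MulAction.stabilizer M24 p) ≃* fixPts Spor.M12 [some 0] :=
    (subgroupEquiv (dodStab_le d [p]) fun h => by
      simp [mem_fixPts, MulAction.mem_stabilizer_iff, Subgroup.smul_def]).trans (dodEquiv hg hgd hl).symm
  have hey : orderOf ((e x : fixPts Spor.M12 [some 0]) : Equiv.Perm GolayPt) = 2 := by
    rw [Subgroup.orderOf_coe, MulEquiv.orderOf_eq, hx]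
  obtain ⟨hsq, hne⟩ := orderOf_eq_prime_iff.1 hey
  obtain ⟨h, hh, hconj⟩ := exists_conj_x0 (e x).2 (by rw [← pow_two]; exact hsq) hne
  let f := e.trans (MulAut.conj (⟨h, hh⟩ : fixPts Spor.M12 [some 0]))
  have hfx : ((f x : fixPts Spor.M12 [some 0]) : Equiv.Perm GolayPt) = x0 := hconj
  have hmap : (Subgroup.centralizer ({x} : Set _)).map f.toMonoidHom =
      triStab.subgroupOf (fixPts Spor.M12 [some 0]) := by
    ext z
    obtain ⟨w, rfl⟩ := f.surjective z
    rw [Subgroup.mem_subgroupOf, ← commute_iff (f w).2, ← hfx]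
    constructor
    · rintro ⟨w', hw', he⟩
      obtain rfl := f.injective he
      exact congrArg Subtype.val (congrArg f (Subgroup.mem_centralizer_singleton_iff.1 hw') |>
        fun q => by simpa [map_mul] using q)
    · intro hc
      refine ⟨w, Subgroup.mem_centralizer_singleton_iff.2 (f.injective ?_), rfl⟩
      rw [map_mul, map_mul]
      exact Subtype.ext hc
  exact ⟨((f.subgroupMap _).trans (MulEquiv.subgroupCongr hmap)).trans
    ((Subgroup.subgroupOfEquivOfLe (show triStab ≤ fixPts Spor.M12 [some 0] from inf_le_left)).trans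
      nonempty_glThree.some)⟩

end Cfsg.Agent.S1603
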