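import Cfsg.Statements.S1604
import Cfsg.Agent.Lib.M24Cert.Standard
import Cfsg.Agent.Lib.M24Cert.DataM22

set_option autoImplicit false
open scoped Pointwise
open Cfsg CfsgLib.Golay CfsgLib.M24Cert

namespace Cfsg.Agent.S1604

theorem q_iff {k : ℕ} (n : ℕ) : qHex k n = true ↔ (none : GolayPt) ∈ toSet n ∧
    (some 0 : GolayPt) ∈ toSet n ∧ (octad0 ∩ toSet n).card = k := by
  rw [qHex, Bool.and_eq_true, Bool.and_eq_true, Nat.beq_eq, pc24_eq, ← card_octad0_inter,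
    mem_toSet_none, mem_toSet_zero, and_assoc]

theorem counts :
    countR (fun x => let c := comb x; Nat.beq (pc24 c) 8 && qHex 2 c) 12 0 = 16 ∧
    countR (fun x => let c := comb x; Nat.beq (pc24 c) 8 && qHex 4 c) 12 0 = 60 := by
  decide +kernel

/-- A hexad stabiliser in the two-point stabiliser has orbits of sizes 1, 16, 60 on the 77 hexads: the 16 hexads disjoint from it and the 60 meeting it in two points. -/
theorem result (p q : Cfsg.GolayPt) (hpq : p ≠ q) (o o' o'' : Finset Cfsg.GolayPt) (ho : o ∈ Cfsg.octads) (ho' : o' ∈ Cfsg.octads) (ho'' : o'' ∈ Cfsg.octads) (hp : p ∈ o ∧ p ∈ o' ∧ p ∈ o'') (hq : q ∈ o ∧ q ∈ o' ∧ q ∈ o'') (h : (o ∩ o').card = (o ∩ o'').card) : {x : Finset Cfsg.GolayPt | x ∈ Cfsg.octads ∧ p ∈ x ∧ q ∈ x ∧ (o ∩ x).card = 2}.ncard = 16 ∧ {x : Finset Cfsg.GolayPt | x ∈ Cfsg.octads ∧ p ∈ x ∧ q ∈ x ∧ (o ∩ x).card = 4}.ncard = 60 ∧ ∃ g : Equiv.Perm Cfsg.GolayPt, g ∈ Cfsg.M24 ∧ g p = p ∧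 g q = q ∧ g • o = o ∧ g • o' = o'' := by
  obtain ⟨g, hg, hgo, hgp, hgq⟩ := exists_std_in_in ho hpq hp.1 hq.1
  have hcount : ∀ k, {x : Finset GolayPt | x ∈ octads ∧ p ∈ x ∧ q ∈ x ∧ (o ∩ x).card = k}.ncard =
      countR (fun i => let c := comb i; Nat.beq (pc24 c) 8 && qHex k c) 12 0 := by
    intro k
    refine (ncard_transport hg (P' := fun s => (none : GolayPt) ∈ s ∧ (some 0 : GolayPt) ∈ s ∧
      (octad0 ∩ s).card = k) fun s => ?_).trans (ncard_filter_weight 8 (qHex k) _ fun n _ => q_iff n)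
    rw [← hgp, ← hgq, apply_mem_smul, apply_mem_smul, ← hgo, card_smul_inter]
  refine ⟨(hcount 2).trans counts.1, (hcount 4).trans counts.2, ?_⟩
  have key : ∀ {k K : ℕ} {gens : List (ℕ × ℕ)} {root : ℕ} {forest : List (ℕ × ℕ × ℕ)},
      orbitCheck [8536111, 8388608, 1] gens root forest = true →
      coverCheck (fun n => Nat.beq (pc24 n) 8 && qHex k n) (targets root forest) K = true →
      (o ∩ o').card = k → ∃ h : Equiv.Perm GolayPt, h ∈ M24 ∧ h p = p ∧ h q = q ∧ h • o = o ∧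
        h • o' = o'' := by
    intro k K gens root forest hc hcov hk
    obtain ⟨c, hc', h1, h2, hfix⟩ := orbit_conj hc hcov
      (P := fun s => (none : GolayPt) ∈ s ∧ (some 0 : GolayPt) ∈ s ∧ (octad0 ∩ s).card = k)
      (fun n _ => (q_iff n).2) hg (m := 8536111) (by simp) hgo ho' ho''
      ⟨(inv_apply_mem hgp).2 hp.2.1, (inv_apply_mem hgq).2 hq.2.1, (inter_pull hgo).trans hk⟩
      ⟨(inv_apply_mem hgp).2 hp.2.2, (inv_apply_mem hgq).2 hq.2.2, (inter_pull hgo).trans (h ▸ hk)⟩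
    exact ⟨c, hc', hgp ▸ hfix _ (by rw [bit_none]; simp),
      hgq ▸ hfix _ (by rw [bit_some_zero]; simp), h1, h2⟩
  rcases inter_cases ho ho' with h' | h' | h' | h'
  · exact absurd h' (inter_ne_zero hp.1 hp.2.1)
  · exact key m22hex2_orbit m22hex2_cover h'
  · exact key m22hex4_orbit m22hex4_cover h'
  · exact ⟨1, one_mem _, rfl, rfl, one_smul _ _,
      by rw [one_smul, ← eq_of_card_inter_eight ho ho' h', eq_of_card_inter_eight ho ho'' (h ▸ h')]⟩

end Cfsg.Agent.S1604
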