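import Cfsg.Statements.S1605
import Cfsg.Agent.Lib.M24Cert.Standard
import Cfsg.Agent.Lib.M24Cert.DataM22

set_option autoImplicit false
open scoped Pointwise
open Cfsg CfsgLib.Golay CfsgLib.M24Cert

namespace Cfsg.Agent.S1605

theorem q_iff {k : ℕ} (n : ℕ) : qHept k n = true ↔ (none : GolayPt) ∈ toSet n ∧
    (some 4 : GolayPt) ∉ toSet n ∧ (octad0 ∩ toSet n).card = k := by
  rw [qHept, Bool.and_eq_true, Bool.and_eq_true, Nat.beq_eq, pc24_eq, ← card_octad0_inter,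
    mem_toSet_none, mem_toSet_four, and_assoc]
  simp

theorem counts :
    countR (fun x => let c := comb x; Nat.beq (pc24 c) 8 && qHept 2 c) 12 0 = 70 ∧
    countR (fun x => let c := comb x; Nat.beq (pc24 c) 8 && qHept 4 c) 12 0 = 105 ∧
    countR (fun x => let c := comb x; Nat.beq (pc24 c) 8 && (c.testBit 23 && !c.testBit 4)) 12 0
      = 176 := by
  decide +kernel

/-- The two-point stabiliser acts on the 176 octads through the first point avoiding the second with rank 3 and subdegrees 1, 70, 105 (intersections 8, 2, 4). -/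
theorem result (p q : Cfsg.GolayPt) (hpq : p ≠ q) : {x : Finset Cfsg.GolayPt | (x ∈ Cfsg.octads ∧ p ∈ x ∧ q ∉ x)}.ncard = 176 ∧ (∀ o o' : Finset Cfsg.GolayPt, (o ∈ Cfsg.octads ∧ p ∈ o ∧ q ∉ o) → (o' ∈ Cfsg.octads ∧ p ∈ o' ∧ q ∉ o') → ∃ g : Equiv.Perm Cfsg.GolayPt, g ∈ Cfsg.M24 ∧ g p = p ∧ g q = q ∧ g • o = o') ∧ ∀ o : Finset Cfsg.GolayPt, (o ∈ Cfsg.octads ∧ p ∈ o ∧ q ∉ o) → {x : Finset Cfsg.GolayPt | (x ∈ Cfsg.octads ∧ p ∈ x ∧ q ∉ x) ∧ (o ∩ x).card = 2}.ncard = 70 ∧ {x : Finset Cfsg.GolayPt | (x ∈ Cfsg.octads ∧ p ∈ x ∧ q ∉ x) ∧ (o ∩ x).card = 4}.ncard = 105 ∧ ∀ o' o'' : Finset Cfsg.GolayPt, (o' ∈ Cfsg.octads ∧ p ∈ o' ∧ q ∉ o') → (o'' ∈ Cfsg.octads ∧ p ∈ o'' ∧ q ∉ o'') → (o ∩ o').card = (o ∩ o'').card → ∃ g : Equiv.Perm Cfsg.GolayPt, g ∈ Cfsg.M24 ∧ g p = p ∧ g q = q ∧ g • o = o ∧ g • o' = o'' := by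
  refine ⟨?_, fun o o' h h' => ?_, fun o h => ?_⟩
  · obtain ⟨g, hg, hgm⟩ := exists_map_M24 (xs := [none, some 4]) (ys := [p, q]) (by decide)
      (by simp [hpq]) rfl (by simp)
    simp at hgm
    refine (ncard_transport hg (P' := fun s => (none : GolayPt) ∈ s ∧ (some 4 : GolayPt) ∉ s)
      fun s => ?_).trans ((ncard_filter_weight 8 (fun c => c.testBit 23 && !c.testBit 4) _
        fun n _ => ?_).trans counts.2.2)
    · rw [← hgm.1, ← hgm.2, apply_mem_smul, apply_mem_smul]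
    · rw [mem_toSet_none, mem_toSet_four]; simp
  · obtain ⟨g, hg, hgo, hgp, hgq⟩ := exists_std_in_out h.1 h.2.1 h.2.2
    obtain ⟨f, hf, hfo, hfp, hfq⟩ := exists_std_in_out h'.1 h'.2.1 h'.2.2
    refine ⟨f * g⁻¹, mul_mem hf (inv_mem hg), ?_, ?_, ?_⟩
    · simp [Equiv.Perm.mul_apply, show g⁻¹ p = none by simp [← hgp], hfp]
    · simp [Equiv.Perm.mul_apply, show g⁻¹ q = some 4 by simp [← hgq], hfq]
    · rw [mul_smul, ← hgo, inv_smul_smul, hfo]
  · obtain ⟨g, hg, hgo, hgp, hgq⟩ := exists_std_in_out h.1 h.2.1 h.2.2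
    have hcount : ∀ k, {x : Finset GolayPt | (x ∈ octads ∧ p ∈ x ∧ q ∉ x) ∧ (o ∩ x).card = k}.ncard =
        countR (fun i => let c := comb i; Nat.beq (pc24 c) 8 && qHept k c) 12 0 := by
      intro k
      simp only [and_assoc]
      refine (ncard_transport hg (P' := fun s => (none : GolayPt) ∈ s ∧ (some 4 : GolayPt) ∉ s ∧
        (octad0 ∩ s).card = k) fun s => ?_).trans
          (ncard_filter_weight 8 (qHept k) _ fun n _ => q_iff n)
      rw [← hgp, ← hgq, apply_mem_smul, apply_mem_smul, ← hgo, card_smul_inter]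
    refine ⟨(hcount 2).trans counts.1, (hcount 4).trans counts.2.1, fun o' o'' h' h'' he => ?_⟩
    have key : ∀ {k K : ℕ} {gens : List (ℕ × ℕ)} {root : ℕ} {forest : List (ℕ × ℕ × ℕ)},
        orbitCheck [8536111, 8388608, 16] gens root forest = true →
        coverCheck (fun n => Nat.beq (pc24 n) 8 && qHept k n) (targets root forest) K = true →
        (o ∩ o').card = k → ∃ h : Equiv.Perm GolayPt, h ∈ M24 ∧ h p = p ∧ h q = q ∧ h • o = o ∧
          h • o' = o'' := by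
      intro k K gens root forest hc hcov hk
      obtain ⟨c, hc', h1, h2, hfix⟩ := orbit_conj hc hcov
        (P := fun s => (none : GolayPt) ∈ s ∧ (some 4 : GolayPt) ∉ s ∧ (octad0 ∩ s).card = k)
        (fun n _ => (q_iff n).2) hg (m := 8536111) (by simp) hgo h'.1 h''.1
        ⟨(inv_apply_mem hgp).2 h'.2.1, fun hm => h'.2.2 ((inv_apply_mem hgq).1 hm),
          (inter_pull hgo).trans hk⟩
        ⟨(inv_apply_mem hgp).2 h''.2.1, fun hm => h''.2.2 ((inv_apply_mem hgq).1 hm),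
          (inter_pull hgo).trans (he ▸ hk)⟩
      exact ⟨c, hc', hgp ▸ hfix _ (by rw [bit_none]; simp),
        hgq ▸ hfix _ (by rw [bit_some_four]; simp), h1, h2⟩
    rcases inter_cases h.1 h'.1 with h0 | h0 | h0 | h0
    · exact absurd h0 (inter_ne_zero h.2.1 h'.2.1)
    · exact key m22hept2_orbit m22hept2_cover h0
    · exact key m22hept4_orbit m22hept4_cover h0
    · exact ⟨1, one_mem _, rfl, rfl, one_smul _ _, by
        rw [one_smul, ← eq_of_card_inter_eight h.1 h'.1 h0,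
          eq_of_card_inter_eight h.1 h''.1 (he ▸ h0)]⟩

end Cfsg.Agent.S1605
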