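import Cfsg.Statements.S1606
import Cfsg.Agent.Lib.M24Cert.M22Index

set_option autoImplicit false
open scoped Pointwise
open Cfsg CfsgLib.Golay CfsgLib.M24Cert

namespace Cfsg.Agent.S1606

/-- The stabiliser of two points in the group of the length-24 code has no subgroups of index 56 or 210. -/
theorem result (p q : Cfsg.GolayPt) (hpq : p ≠ q) (H : Subgroup ↥(MulAction.stabilizer Cfsg.M24 p ⊓ MulAction.stabilizer Cfsg.M24 q)) : H.index ≠ 56 ∧ H.index ≠ 210 := by
  obtain ⟨e⟩ := nonempty_stab_two hpq
  let K : Subgroup (Equiv.Perm GolayPt) := (H.map e.toMonoidHom).map (fixPts M24 [some 0, none]).subtype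
  have hK : K ≤ G22 := Subgroup.map_subtype_le _
  have hcard : Nat.card K = Nat.card H := by
    rw [Subgroup.card_map_of_injective (Subgroup.subtype_injective _),
      Subgroup.card_map_of_injective (show Function.Injective e.toMonoidHom from e.injective)]
  have h := H.card_mul_index
  rw [card_stab_two hpq, ← hcard] at h
  constructor <;> intro hi <;> rw [hi] at h
  · exact card_ne_7920 hK (by omega)
  · exact card_ne_2112 hK (by omega)

end Cfsg.Agent.S1606
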