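import Cfsg.Statements.S1607
import Cfsg.Agent.Lib.M24Cert.Standard
import Cfsg.Agent.Lib.M24Cert.DataM23In

set_option autoImplicit false
open scoped Pointwise
open Cfsg CfsgLib.Golay CfsgLib.M24Cert

namespace Cfsg.Agent.S1607

theorem q_spec {k : ℕ} (n : ℕ) (h : (none : GolayPt) ∈ toSet n ∧ (octad0 ∩ toSet n).card = k) :
    qIn k n = true := by
  have h1 := mem_toSet.1 h.1
  rw [bit_none] at h1
  rw [qIn, h1, pc24_eq, ← card_octad0_inter, h.2]
  simp

theorem q_iff {k : ℕ} (n : ℕ) :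
    qIn k n = true ↔ (none : GolayPt) ∈ toSet n ∧ (octad0 ∩ toSet n).card = k := by
  refine ⟨fun h => ?_, q_spec n⟩
  rw [qIn, Bool.and_eq_true, Nat.beq_eq, pc24_eq, ← card_octad0_inter] at h
  exact ⟨by rw [mem_toSet, bit_none]; exact h.1, h.2⟩

theorem counts :
    countR (fun x => let c := comb x; Nat.beq (pc24 c) 8 && qIn 2 c) 12 0 = 112 ∧
    countR (fun x => let c := comb x; Nat.beq (pc24 c) 8 && qIn 4 c) 12 0 = 140 := by
  decide +kernel

/-- The point stabiliser acts on the 253 heptads of its S(4, 7, 23) with rank 3 and subdegrees 1, 112, 140 (intersections 8, 2, 4). -/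
theorem result (x : Cfsg.GolayPt) (o : Finset Cfsg.GolayPt) (ho : o ∈ Cfsg.octads) (hx : x ∈ o) : {o' : Finset Cfsg.GolayPt | o' ∈ Cfsg.octads ∧ x ∈ o' ∧ (o ∩ o').card = 2}.ncard = 112 ∧ {o' : Finset Cfsg.GolayPt | o' ∈ Cfsg.octads ∧ x ∈ o' ∧ (o ∩ o').card = 4}.ncard = 140 ∧ ∀ o' o'' : Finset Cfsg.GolayPt, o' ∈ Cfsg.octads → o'' ∈ Cfsg.octads → x ∈ o' → x ∈ o'' → (o ∩ o').card = (o ∩ o'').card → ∃ g : Equiv.Perm Cfsg.GolayPt, g ∈ Cfsg.M24 ∧ g x = x ∧ g • o = o ∧ g • o' = o'' := by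
  obtain ⟨g, hg, hgo, hgx⟩ := exists_std_in ho hx
  have hcount : ∀ k, {o' : Finset GolayPt | o' ∈ octads ∧ x ∈ o' ∧ (o ∩ o').card = k}.ncard =
      countR (fun i => let c := comb i; Nat.beq (pc24 c) 8 && qIn k c) 12 0 := by
    intro k
    refine (ncard_transport hg (P' := fun s => (none : GolayPt) ∈ s ∧ (octad0 ∩ s).card = k)
      fun s => ?_).trans (ncard_filter_weight 8 (qIn k) _ fun n _ => q_iff n)
    rw [← hgx, apply_mem_smul, ← hgo, card_smul_inter]
  refine ⟨(hcount 2).trans counts.1, (hcount 4).trans counts.2, fun o' o'' ho' ho'' hx' hx'' he => ?_⟩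
  have go : ∀ {k K : ℕ} {gens : List (ℕ × ℕ)} {root : ℕ} {forest : List (ℕ × ℕ × ℕ)},
      orbitCheck [8536111, 8388608] gens root forest = true →
      coverCheck (fun n => Nat.beq (pc24 n) 8 && qIn k n) (targets root forest) K = true →
      (o ∩ o').card = k → ∃ h : Equiv.Perm GolayPt, h ∈ M24 ∧ h x = x ∧ h • o = o ∧ h • o' = o'' := by
    intro k K gens root forest hc hcov hk
    obtain ⟨h, hh, hhs⟩ := orbit_words hc hcov
      (P := fun s => (none : GolayPt) ∈ s ∧ (octad0 ∩ s).card = k) (fun n _ => q_spec n)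
      ((smul_mem_wordsOfWeight (inv_mem hg)).2 ho') ((smul_mem_wordsOfWeight (inv_mem hg)).2 ho'')
      ⟨(inv_apply_mem hgx).2 hx', (inter_pull hgo).trans hk⟩
      ⟨(inv_apply_mem hgx).2 hx'', (inter_pull hgo).trans (he ▸ hk)⟩
    obtain ⟨c1, c2⟩ := conj_props hgo (hh.2 _ (by simp)) hhs
    exact ⟨g * h * g⁻¹, mul_mem (mul_mem hg hh.1) (inv_mem hg),
      conj_apply hgx (apply_eq_of_fix hh (by rw [bit_none]; simp)), c1, c2⟩
  rcases inter_cases ho ho' with h | h | h | h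
  · exact absurd h (inter_ne_zero hx hx')
  · exact go m23in2_orbit m23in2_cover h
  · exact go m23in4_orbit m23in4_cover h
  · exact ⟨1, one_mem _, rfl, one_smul _ _,
      by rw [one_smul, ← eq_of_card_inter_eight ho ho' h, eq_of_card_inter_eight ho ho'' (he ▸ h)]⟩

end Cfsg.Agent.S1607
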