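import Cfsg.Statements.S1608
import Cfsg.Agent.Lib.M24Cert.Standard
import Cfsg.Agent.Lib.M24Cert.DataM23Out

set_option autoImplicit false
open scoped Pointwise
open Cfsg CfsgLib.Golay CfsgLib.M24Cert

namespace Cfsg.Agent.S1608

theorem q_iff {k : ℕ} (n : ℕ) :
    qOut k n = true ↔ (some 4 : GolayPt) ∉ toSet n ∧ (octad0 ∩ toSet n).card = k := by
  rw [qOut, Bool.and_eq_true, Nat.beq_eq, pc24_eq, ← card_octad0_inter, mem_toSet_four]
  simp

theorem counts :
    countR (fun x => let c := comb x; Nat.beq (pc24 c) 8 && qOut 0 c) 12 0 = 15 ∧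
    countR (fun x => let c := comb x; Nat.beq (pc24 c) 8 && qOut 4 c) 12 0 = 210 ∧
    countR (fun x => let c := comb x; Nat.beq (pc24 c) 8 && qOut 2 c) 12 0 = 280 := by
  decide +kernel

/-- The point stabiliser acts on the 506 octads avoiding the point with rank 4 and subdegrees 1, 15, 210, 280, the suborbits being given by intersection size with the fixed octad. -/
theorem result (x : Cfsg.GolayPt) (o : Finset Cfsg.GolayPt) (ho : o ∈ Cfsg.octads) (hx : x ∉ o) : {o' : Finset Cfsg.GolayPt | o' ∈ Cfsg.octads ∧ x ∉ o' ∧ (o ∩ o').card = 0}.ncard = 15 ∧ {o' : Finset Cfsg.GolayPt | o' ∈ Cfsg.octads ∧ x ∉ o' ∧ (o ∩ o').card = 4}.ncard = 210 ∧ {o' : Finset Cfsg.GolayPt | o' ∈ Cfsg.octads ∧ x ∉ o' ∧ (o ∩ o').card = 2}.ncard = 280 ∧ ∀ o' o'' : Finset Cfsg.GolayPt, o' ∈ Cfsg.octads → o'' ∈ Cfsg.octads → x ∉ o' → x ∉ o'' → (o ∩ o').card = (o ∩ o'').card → ∃ g : Equiv.Perm Cfsg.GolayPt, g ∈ Cfsg.M24 ∧ g x = x ∧ g • o = o ∧ g • o' = o'' := by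
  obtain ⟨g, hg, hgo, hgx⟩ := exists_std_out ho hx
  have hcount : ∀ k, {o' : Finset GolayPt | o' ∈ octads ∧ x ∉ o' ∧ (o ∩ o').card = k}.ncard =
      countR (fun i => let c := comb i; Nat.beq (pc24 c) 8 && qOut k c) 12 0 := by
    intro k
    refine (ncard_transport hg (P' := fun s => (some 4 : GolayPt) ∉ s ∧ (octad0 ∩ s).card = k)
      fun s => ?_).trans (ncard_filter_weight 8 (qOut k) _ fun n _ => q_iff n)
    rw [← hgx, apply_mem_smul, ← hgo, card_smul_inter]
  refine ⟨(hcount 0).trans counts.1, (hcount 4).trans counts.2.1, (hcount 2).trans counts.2.2,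
    fun o' o'' ho' ho'' hx' hx'' he => ?_⟩
  have key : ∀ {k K : ℕ} {gens : List (ℕ × ℕ)} {root : ℕ} {forest : List (ℕ × ℕ × ℕ)},
      orbitCheck [8536111, 16] gens root forest = true →
      coverCheck (fun n => Nat.beq (pc24 n) 8 && qOut k n) (targets root forest) K = true →
      (o ∩ o').card = k → ∃ h : Equiv.Perm GolayPt, h ∈ M24 ∧ h x = x ∧ h • o = o ∧ h • o' = o'' := by
    intro k K gens root forest hc hcov hk
    obtain ⟨h, hh, h1, h2, hfix⟩ := orbit_conj hc hcov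
      (P := fun s => (some 4 : GolayPt) ∉ s ∧ (octad0 ∩ s).card = k) (fun n _ => (q_iff n).2)
      hg (m := 8536111) (by simp) hgo ho' ho''
      ⟨fun hm => hx' ((inv_apply_mem hgx).1 hm), (inter_pull hgo).trans hk⟩
      ⟨fun hm => hx'' ((inv_apply_mem hgx).1 hm), (inter_pull hgo).trans (he ▸ hk)⟩
    exact ⟨h, hh, hgx ▸ hfix _ (by rw [bit_some_four]; simp), h1, h2⟩
  rcases inter_cases ho ho' with h | h | h | h
  · exact key m23out0_orbit m23out0_cover h
  · exact key m23out2_orbit m23out2_cover h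
  · exact key m23out4_orbit m23out4_cover h
  · exact ⟨1, one_mem _, rfl, one_smul _ _,
      by rw [one_smul, ← eq_of_card_inter_eight ho ho' h, eq_of_card_inter_eight ho ho'' (he ▸ h)]⟩

end Cfsg.Agent.S1608
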