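import Cfsg.Statements.S1609
import Cfsg.Agent.Lib.M24Cert.M23Index

set_option autoImplicit false
open scoped Pointwise
open Cfsg CfsgLib.Golay CfsgLib.M24Cert

namespace Cfsg.Agent.S1609

/-- Subgroups of index 253 in the Mathieu group of degree 23 are exactly the duad stabilisers and the heptad stabilisers. -/
theorem result (x : Cfsg.GolayPt) (H : Subgroup ↥(MulAction.stabilizer Cfsg.M24 x)) (hH : H.index = 253) : (∃ s : Finset Cfsg.GolayPt, s.card = 2 ∧ x ∉ s ∧ H = (MulAction.stabilizer Cfsg.M24 s).subgroupOf (MulAction.stabilizer Cfsg.M24 x)) ∨ ∃ o ∈ Cfsg.octads, x ∈ o ∧ H = (MulAction.stabilizer Cfsg.M24 o).subgroupOf (MulAction.stabilizer Cfsg.M24 x) := by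
  obtain ⟨g, hg, hgm⟩ := exists_map_M24 (xs := [(none : GolayPt)]) (ys := [x]) (by simp) (by simp)
    rfl (by simp)
  simp at hgm
  let H₀ : Subgroup (Equiv.Perm GolayPt) :=
    H.map (M24.subtype.comp (MulAction.stabilizer M24 x).subtype)
  have hinj : Function.Injective (M24.subtype.comp (MulAction.stabilizer M24 x).subtype) :=
    M24.subtype_injective.comp (Subgroup.subtype_injective _)
  let H₁ : Subgroup (Equiv.Perm GolayPt) := H₀.map (MulAut.conj g⁻¹).toMonoidHom
  have hH₁ : H₁ ≤ G23 := by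
    rintro _ ⟨_, ⟨h, -, rfl⟩, rfl⟩
    refine ⟨mul_mem (mul_mem (inv_mem hg) h.1.2) (inv_mem (inv_mem hg)), fun p hp => ?_⟩
    rw [List.mem_singleton] at hp
    subst hp
    show (g⁻¹ * ((h.1 : M24) : Equiv.Perm GolayPt) * g⁻¹⁻¹) none = none
    have hx : ((h.1 : M24) : Equiv.Perm GolayPt) x = x := h.2
    rw [inv_inv, Equiv.Perm.mul_apply, Equiv.Perm.mul_apply, hgm, hx, ← hgm, perm_inv_apply]
  have hcard : Nat.card H₁ = 40320 := by
    rw [Subgroup.card_map_of_injective (MulAut.conj g⁻¹).injective, Subgroup.card_map_of_injective hinj]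
    have h := H.card_mul_index
    rw [hH, card_stab_point] at h
    omega
  obtain ⟨c, hc, hS⟩ := exists_conj_syl23 hH₁ hcard
  let K := H₁.map (MulAut.conj c).toMonoidHom
  have hK : K ≤ G23 := by
    rintro _ ⟨u, hu, rfl⟩
    exact mul_mem (mul_mem hc (hH₁ hu)) (inv_mem hc)
  have hKc : Nat.card K = 40320 := by
    rw [Subgroup.card_map_of_injective (MulAut.conj c).injective, hcard]
  set w := g * c⁻¹ with hw
  have hwM : w ∈ M24 := mul_mem hg (inv_mem hc.1)
  have hwx : w none = x := by
    have : c⁻¹ none = none := (inv_mem hc : c⁻¹ ∈ G23).2 none (by simp)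
    rw [hw, Equiv.Perm.mul_apply, this, hgm]
  have key : ∀ T : Finset GolayPt, K = setStab23 T →
      H = (MulAction.stabilizer M24 (w • T)).subgroupOf (MulAction.stabilizer M24 x) := by
    intro T hT
    ext h
    have hconj : (((h.1 : M24) : Equiv.Perm GolayPt) • (w • T) = w • T) ↔
        (w⁻¹ * ((h.1 : M24) : Equiv.Perm GolayPt) * w) • T = T := by
      exact (show ∀ a b : Equiv.Perm GolayPt, a • (b • T) = b • T ↔ (b⁻¹ * a * b) • T = T from
        fun a b => by rw [mul_smul, mul_smul, inv_smul_eq_iff]) _ _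
    have hmem : h ∈ H ↔ w⁻¹ * ((h.1 : M24) : Equiv.Perm GolayPt) * w ∈ K := by
      have e : w⁻¹ * ((h.1 : M24) : Equiv.Perm GolayPt) * w =
          MulAut.conj c (MulAut.conj g⁻¹ ((M24.subtype.comp (MulAction.stabilizer M24 x).subtype) h)) := by
        simp [hw, MulAut.conj_apply, mul_assoc]
      rw [e]
      simp only [K, H₁, H₀]
      exact ((Subgroup.mem_map_iff_mem (f := (MulAut.conj c).toMonoidHom) (MulAut.conj c).injective).trans
        ((Subgroup.mem_map_iff_mem (f := (MulAut.conj g⁻¹).toMonoidHom) (MulAut.conj g⁻¹).injective).trans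
          (Subgroup.mem_map_iff_mem hinj))).symm
    rw [hmem, hT, Subgroup.mem_subgroupOf]
    show _ ↔ ((h.1 : M24) : Equiv.Perm GolayPt) • (w • T) = w • T
    rw [hconj]
    refine ⟨fun hh => hh.2, fun hh => ⟨⟨mul_mem (mul_mem (inv_mem hwM) h.1.2) hwM, fun p hp => ?_⟩, hh⟩⟩
    rw [List.mem_singleton] at hp
    subst hp
    have hx : ((h.1 : M24) : Equiv.Perm GolayPt) x = x := h.2
    rw [Equiv.Perm.mul_apply, Equiv.Perm.mul_apply, hwx, hx, ← hwx, perm_inv_apply]
  rcases eq_setStab23 hS hK hKc with h | h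
  · refine Or.inl ⟨w • toSet 4194305, ?_, ?_, key _ h⟩
    · rw [Finset.card_smul_finset]; decide +kernel
    · rw [← hwx, ← Equiv.Perm.smul_def, Finset.smul_mem_smul_finset_iff]; decide +kernel
  · have hset : w • toSet 4673537 ∪ {x} = w • toSet 13062145 := by
      rw [← hwx, show toSet 13062145 = toSet 4673537 ∪ {none} by decide +kernel,
        Finset.smul_finset_union, Finset.smul_finset_singleton]
      rfl
    refine Or.inr ⟨w • toSet 13062145, (M24_smul_mem_octads hwM).2 ?_, ?_, ?_⟩
    · exact mem_wordsOfWeight_iff.2 ⟨1, by norm_num, by decide +kernel, by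
        rw [show comb 1 = 13062145 by decide +kernel]⟩
    · rw [← hset]; simp
    · rw [key _ h]
      have hxnot : x ∉ w • toSet 4673537 := by
        rw [← hwx, ← Equiv.Perm.smul_def, Finset.smul_mem_smul_finset_iff]; decide +kernel
      ext u
      rw [Subgroup.mem_subgroupOf, Subgroup.mem_subgroupOf]
      rw [MulAction.mem_stabilizer_iff, MulAction.mem_stabilizer_iff, Subgroup.smul_def,
        Subgroup.smul_def]
      have hx : ((u.1 : M24) : Equiv.Perm GolayPt) x = x := u.2
      rw [← hset, Finset.smul_finset_union, Finset.smul_finset_singleton, Equiv.Perm.smul_def, hx]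
      refine ⟨fun e => by rw [e], fun e => ?_⟩
      have e' := congrArg (fun s => s.erase x) e
      have hxnot' : x ∉ ((u.1 : M24) : Equiv.Perm GolayPt) • (w • toSet 4673537) := by
        intro hm
        have hm' : ((u.1 : M24) : Equiv.Perm GolayPt) • x ∈
            ((u.1 : M24) : Equiv.Perm GolayPt) • (w • toSet 4673537) :=
          (congrArg (fun z : GolayPt => z ∈ ((u.1 : M24) : Equiv.Perm GolayPt) • (w • toSet 4673537)) hx).mpr hm
        exact hxnot ((Finset.smul_mem_smul_finset_iff _).1 hm')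
      simpa [Finset.union_comm, ← Finset.insert_eq, hxnot, hxnot'] using e'

end Cfsg.Agent.S1609
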