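import Cfsg.Statements.S1610
import Cfsg.Agent.Lib.Hexacode.Basic

set_option autoImplicit false
open scoped Pointwise
open Cfsg CfsgLib.Hexacode

namespace Cfsg.Agent.S1610

theorem weights : ∀ a b c : Fin 4, (a, b, c) ≠ (0, 0, 0) →
    wt4 (word4 (a, b, c)) = 4 ∨ wt4 (word4 (a, b, c)) = 6 := by decide

theorem count4 : ((Finset.univ : Finset (Fin 4 × Fin 4 × Fin 4)).filter
    fun a => wt4 (word4 a) = 4).card = 45 := by decide +kernel

theorem count6 : ((Finset.univ : Finset (Fin 4 × Fin 4 × Fin 4)).filter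
    fun a => wt4 (word4 a) = 6).card = 18 := by decide +kernel

/-- The hexacode has 64 words, minimum weight 4, and weight distribution 0^1 4^45 6^18. -/
theorem result (F : Type*) [Field F] [Fintype F] [DecidableEq F] (hF : Fintype.card F = 4) (ω : F) (hω : ω ^ 2 + ω + 1 = 0) : Nat.card ↥(Cfsg.hexacode F ω) = 64 ∧ (∀ x ∈ Cfsg.hexacode F ω, x ≠ 0 → (Finset.univ.filter fun i => x i ≠ 0).card = 4 ∨ (Finset.univ.filter fun i => x i ≠ 0).card = 6) ∧ {x : Fin 6 → F | x ∈ Cfsg.hexacode F ω ∧ (Finset.univ.filter fun i => x i ≠ 0).card = 4}.ncard = 45 ∧ {x : Fin 6 → F | x ∈ Cfsg.hexacode F ω ∧ (Finset.univ.filter fun i => x i ≠ 0).card = 6}.ncard = 18 := by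
  have hinj : Function.Injective (fun a => toF ω ∘ word4 a) :=
    ((toF_injective hF hω).comp_left (α := Fin 6)).comp word4_injective
  have hcount : ∀ k, {x : Fin 6 → F | x ∈ Cfsg.hexacode F ω ∧
      (Finset.univ.filter fun i => x i ≠ 0).card = k}.ncard =
      ((Finset.univ : Finset (Fin 4 × Fin 4 × Fin 4)).filter fun a => wt4 (word4 a) = k).card := by
    intro k
    rw [← Set.ncard_coe_finset, ← Set.ncard_image_of_injective _ hinj]
    congr 1
    ext x
    simp only [Set.mem_setOf_eq, Set.mem_image, Finset.coe_filter, Finset.mem_univ, true_and,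
      mem_hexacode_iff hF hω]
    constructor
    · rintro ⟨⟨a, rfl⟩, h⟩
      exact ⟨a, by rwa [weight_eq hF hω] at h, rfl⟩
    · rintro ⟨a, h, rfl⟩
      exact ⟨⟨a, rfl⟩, by rw [weight_eq hF hω]; exact h⟩
  refine ⟨?_, ?_, ?_, ?_⟩
  · have : (Cfsg.hexacode F ω : Set (Fin 6 → F)) = Set.range (fun a => toF ω ∘ word4 a) := by
      ext x; simp [mem_hexacode_iff hF hω]
    rw [← SetLike.coe_sort_coe, this, Nat.card_range_of_injective hinj]
    simp
  · intro x hx hne
    obtain ⟨⟨a, b, c⟩, rfl⟩ := (mem_hexacode_iff hF hω x).1 hx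
    rw [weight_eq hF hω]
    apply weights
    intro h
    apply hne
    rw [h]
    funext i
    have h0 : ∀ i, word4 (0, 0, 0) i = 0 := by decide
    simp [h0 i, toF]
  · rw [hcount]; exact count4
  · rw [hcount]; exact count6

end Cfsg.Agent.S1610
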