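import Cfsg.Statements.S1611
import Cfsg.Agent.Lib.Hexacode.Basic

set_option autoImplicit false
open scoped Pointwise
open Cfsg CfsgLib.Hexacode

namespace Cfsg.Agent.S1611

def certs : List (Fin 6 → Fin 4) :=
  [![1, 1, 1, 1, 1, 1], ![1, 1, 1, 1, 2, 3], ![1, 1, 1, 1, 3, 2], ![1, 1, 2, 3, 1, 1],
   ![1, 1, 3, 2, 1, 1], ![1, 2, 3, 3, 3, 3], ![1, 3, 2, 2, 2, 2]]

theorem even_certs : ∀ a b : Fin 6, a < b →
    ∃ c ∈ certs, (∀ i, c i ≠ 0) ∧ pres4 (Equiv.swap a b * Equiv.swap 0 1) c := by decide +kernel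

theorem no_odd : ∀ a b c d e f : Fin 3,
    ¬ pres4 (Equiv.swap 0 1) ![a.succ, b.succ, c.succ, d.succ, e.succ, f.succ] := by decide +kernel

theorem diag_scalar : ∀ a b c d e f : Fin 3,
    pres4 1 ![a.succ, b.succ, c.succ, d.succ, e.succ, f.succ] →
      a = b ∧ a = c ∧ a = d ∧ a = e ∧ a = f := by decide +kernel

variable {F : Type*} [Field F] [Fintype F] {ω : F}

/-- The pair `(σ, c)` preserves the hexacode. -/
def Pres (F : Type*) [Field F] (ω : F) (σ : Equiv.Perm (Fin 6)) (c : Fin 6 → Fˣ) : Prop :=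
  ∀ x ∈ Cfsg.hexacode F ω, Cfsg.monomialMap σ c x ∈ Cfsg.hexacode F ω

theorem pres_iff (hF : Fintype.card F = 4) (hω : ω ^ 2 + ω + 1 = 0) (σ : Equiv.Perm (Fin 6))
    (c : Fin 6 → Fˣ) (c4 : Fin 6 → Fin 4) (hc : ∀ i, toF ω (c4 i) = c i) :
    Pres F ω σ c ↔ pres4 σ c4 := by
  have hmon : ∀ x : Fin 6 → Fin 4,
      Cfsg.monomialMap σ c (toF ω ∘ x) = toF ω ∘ mon4 σ c4 x := by
    intro x; funext i
    simp [Cfsg.monomialMap, mon4, toF_mul hF hω, hc]
  constructor
  · intro h j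
    rw [← toF_comp_mem_iff hF hω, ← hmon]
    apply h
    rw [toF_comp_mem_iff hF hω]
    exact (by decide : ∀ j, isWord (gen4 j)) j
  · intro h x hx
    rw [hexacode_eq_span] at hx ⊢
    induction hx using Submodule.span_induction with
    | mem y hy =>
      rw [← hexacode_eq_span]
      rcases hy with rfl | rfl | rfl
      all_goals rw [hmon, toF_comp_mem_iff hF hω]; apply h
    | zero =>
      have : Cfsg.monomialMap σ c 0 = (0 : Fin 6 → F) := by
        funext i; simp [Cfsg.monomialMap, Equiv.Perm.one_def]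
      rw [this]; exact zero_mem _
    | add y z _ _ hy hz =>
      have : Cfsg.monomialMap σ c (y + z) = Cfsg.monomialMap σ c y + Cfsg.monomialMap σ c z := by
        funext i; simp [Cfsg.monomialMap, mul_add]
      rw [this]; exact add_mem hy hz
    | smul a y _ hy =>
      have : Cfsg.monomialMap σ c (a • y) = a • Cfsg.monomialMap σ c y := by
        funext i; simp [Cfsg.monomialMap, mul_left_comm]
      rw [this]; exact Submodule.smul_mem _ a hy

theorem pres_mul {σ τ : Equiv.Perm (Fin 6)} {c d : Fin 6 → Fˣ} (h : Pres F ω σ c)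
    (h' : Pres F ω τ d) : Pres F ω (σ * τ) (fun i => c i * d (σ.symm i)) := by
  intro x hx
  have : Cfsg.monomialMap (σ * τ) (fun i => c i * d (σ.symm i)) x
      = Cfsg.monomialMap σ c (Cfsg.monomialMap τ d x) := by
    funext i
    simp [Cfsg.monomialMap, Equiv.Perm.mul_def, mul_assoc]
  rw [this]
  exact h _ (h' _ hx)

theorem pres_scalar (u : Fˣ) : Pres F ω 1 (fun _ => u) := by
  intro x hx
  have : Cfsg.monomialMap 1 (fun _ => u) x = (u : F) • x := by
    funext i; simp [Cfsg.monomialMap, Equiv.Perm.one_def]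
  rw [this]
  exact Submodule.smul_mem _ _ hx

/-- The permutation parts of monomial automorphisms. -/
def permPart (F : Type*) [Field F] [Fintype F] (ω : F) : Submonoid (Equiv.Perm (Fin 6)) where
  carrier := {σ | ∃ c, Pres F ω σ c}
  one_mem' := ⟨_, pres_scalar 1⟩
  mul_mem' := by
    rintro σ τ ⟨c, hc⟩ ⟨d, hd⟩
    exact ⟨_, pres_mul hc hd⟩

theorem inv_mem_permPart {σ : Equiv.Perm (Fin 6)} (h : σ ∈ permPart F ω) :
    σ⁻¹ ∈ permPart F ω := by
  obtain ⟨n, _, hn⟩ : ∃ n : ℕ, 0 < n ∧ σ ^ n = 1 :=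
    ⟨orderOf σ, (isOfFinOrder_of_finite σ).orderOf_pos, pow_orderOf_eq_one σ⟩
  have : σ⁻¹ = σ ^ (n - 1) := by
    apply inv_eq_of_mul_eq_one_right
    rw [← pow_succ', Nat.sub_add_cancel (by omega), hn]
  rw [this]
  exact pow_mem h _

theorem exists_model (hF : Fintype.card F = 4) (hω : ω ^ 2 + ω + 1 = 0) (c : Fin 6 → Fˣ) :
    ∃ e : Fin 6 → Fin 3, ∀ i, toF ω ((e i).succ) = c i := by
  choose k hk using fun i => (toF_bijective hF hω).2 (c i : F)
  have hne : ∀ i, k i ≠ 0 := by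
    intro i h
    apply (c i).ne_zero
    rw [← hk i, h]; rfl
  exact ⟨fun i => (k i).pred (hne i), fun i => by rw [Fin.succ_pred]; exact hk i⟩

theorem vec_succ (e : Fin 6 → Fin 3) :
    (fun i => (e i).succ) = ![(e 0).succ, (e 1).succ, (e 2).succ, (e 3).succ, (e 4).succ, (e 5).succ] := by
  funext i; fin_cases i <;> rfl

theorem diag (hF : Fintype.card F = 4) (hω : ω ^ 2 + ω + 1 = 0) (c : Fin 6 → Fˣ)
    (h : Pres F ω 1 c) : ∀ i j, c i = c j := by
  obtain ⟨e, he⟩ := exists_model hF hω c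
  rw [pres_iff hF hω 1 c _ he, vec_succ] at h
  obtain ⟨h1, h2, h3, h4, h5⟩ := diag_scalar _ _ _ _ _ _ h
  have : ∀ i, e i = e 0 := by
    intro i; fin_cases i
    exacts [rfl, h1.symm, h2.symm, h3.symm, h4.symm, h5.symm]
  intro i j
  apply Units.ext
  rw [← he i, ← he j, this i, this j]

theorem swap01_not_mem (hF : Fintype.card F = 4) (hω : ω ^ 2 + ω + 1 = 0) :
    Equiv.swap (0 : Fin 6) 1 ∉ permPart F ω := by
  rintro ⟨c, hc⟩
  obtain ⟨e, he⟩ := exists_model hF hω c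
  rw [pres_iff hF hω _ c _ he, vec_succ] at hc
  exact no_odd _ _ _ _ _ _ hc

theorem swap_mul_mem (hF : Fintype.card F = 4) (hω : ω ^ 2 + ω + 1 = 0) (a b : Fin 6) (hab : a ≠ b) :
    Equiv.swap a b * Equiv.swap 0 1 ∈ permPart F ω := by
  wlog hlt : a < b generalizing a b
  · rw [Equiv.swap_comm]
    exact this b a hab.symm (lt_of_le_of_ne (not_lt.1 hlt) hab.symm)
  obtain ⟨c, -, hne, hc⟩ := even_certs a b hlt
  exact ⟨fun i => Units.mk0 (toF ω (c i)) (toF_ne_zero hω (hne i)),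
    (pres_iff hF hω _ _ c fun i => rfl).2 hc⟩

theorem mem_permPart_iff (hF : Fintype.card F = 4) (hω : ω ^ 2 + ω + 1 = 0)
    (σ : Equiv.Perm (Fin 6)) : σ ∈ permPart F ω ↔ Equiv.Perm.sign σ = 1 := by
  have s01 : Equiv.Perm.sign (Equiv.swap (0 : Fin 6) 1) = -1 := Equiv.Perm.sign_swap (by decide)
  have main : ∀ σ : Equiv.Perm (Fin 6), (Equiv.Perm.sign σ = 1 → σ ∈ permPart F ω) ∧
      (Equiv.Perm.sign σ = -1 → Equiv.swap 0 1 * σ ∈ permPart F ω) := by
    intro σ
    induction σ using Equiv.Perm.swap_induction_on with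
    | one => exact ⟨fun _ => one_mem _, by simp⟩
    | swap_mul f x y hxy ih =>
      have hs : Equiv.Perm.sign (Equiv.swap x y * f) = -Equiv.Perm.sign f := by
        simp [Equiv.Perm.sign_swap hxy]
      have hmem := swap_mul_mem hF hω x y hxy
      rcases Int.units_eq_one_or (Equiv.Perm.sign f) with hf | hf
      · refine ⟨fun h => by simp [hs, hf] at h, fun _ => ?_⟩
        have := mul_mem (inv_mem_permPart hmem) (ih.1 hf)
        simpa [mul_assoc] using this
      · refine ⟨fun _ => ?_, fun h => by simp [hs, hf] at h⟩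
        have := mul_mem hmem (ih.2 hf)
        simpa [mul_assoc] using this
  refine ⟨fun h => ?_, (main σ).1⟩
  rcases Int.units_eq_one_or (Equiv.Perm.sign σ) with hs | hs
  · exact hs
  · refine absurd ?_ (swap01_not_mem hF hω)
    have := mul_mem ((main σ).2 hs) (inv_mem_permPart h)
    simpa using this

/-- The monomial automorphism group of the hexacode has order 1080: its diagonal part is the scalars and its permutation parts form the alternating group of degree 6. -/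
theorem result (F : Type*) [Field F] [Fintype F] [DecidableEq F] (hF : Fintype.card F = 4) (ω : F) (hω : ω ^ 2 + ω + 1 = 0) : Nat.card {f : Equiv.Perm (Fin 6) × (Fin 6 → Fˣ) // (∀ x ∈ Cfsg.hexacode F ω, Cfsg.monomialMap f.1 f.2 x ∈ Cfsg.hexacode F ω)} = 1080 ∧ (∀ c : Fin 6 → Fˣ, (∀ x ∈ Cfsg.hexacode F ω, Cfsg.monomialMap 1 c x ∈ Cfsg.hexacode F ω) → ∀ i j, c i = c j) ∧ {σ : Equiv.Perm (Fin 6) | ∃ c : Fin 6 → Fˣ, (∀ x ∈ Cfsg.hexacode F ω, Cfsg.monomialMap σ c x ∈ Cfsg.hexacode F ω)} = (alternatingGroup (Fin 6) : Set (Equiv.Perm (Fin 6))) := by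
  have hset : ∀ σ, σ ∈ permPart F ω ↔ σ ∈ alternatingGroup (Fin 6) := fun σ => by
    rw [mem_permPart_iff hF hω, Equiv.Perm.mem_alternatingGroup]
  refine ⟨?_, diag hF hω, Set.ext hset⟩
  have hex : ∀ σ : alternatingGroup (Fin 6), ∃ c, Pres F ω (σ : Equiv.Perm (Fin 6)) c :=
    fun σ => (hset σ).2 σ.2
  choose c0 hc0 using hex
  have hmk : ∀ (σ : alternatingGroup (Fin 6)) (u : Fˣ),
      Pres F ω (σ : Equiv.Perm (Fin 6)) (fun i => u * c0 σ i) := by
    intro σ u
    have := pres_mul (pres_scalar (ω := ω) u) (hc0 σ)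
    rw [one_mul] at this
    exact this
  have hbij : Function.Bijective (fun p : alternatingGroup (Fin 6) × Fˣ =>
      (⟨((p.1 : Equiv.Perm (Fin 6)), fun i => p.2 * c0 p.1 i), hmk p.1 p.2⟩ :
        {f : Equiv.Perm (Fin 6) × (Fin 6 → Fˣ) // Pres F ω f.1 f.2})) := by
    constructor
    · rintro ⟨σ, u⟩ ⟨σ', u'⟩ h
      have h1 := congrArg (fun z => z.1.1) h
      obtain rfl : σ = σ' := Subtype.ext h1
      have h2 := congrFun (congrArg (fun z => z.1.2) h) 0
      simpa using h2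
    · rintro ⟨⟨σ, c⟩, h⟩
      have hs : σ ∈ alternatingGroup (Fin 6) := (hset σ).1 ⟨c, h⟩
      obtain ⟨d, hd⟩ := inv_mem_permPart (show σ ∈ permPart F ω from ⟨c, h⟩)
      have e1 := pres_mul h hd
      have e2 := pres_mul (hc0 ⟨σ, hs⟩) hd
      rw [mul_inv_cancel] at e1
      rw [show ((⟨σ, hs⟩ : alternatingGroup (Fin 6)) : Equiv.Perm (Fin 6)) = σ from rfl,
        mul_inv_cancel] at e2
      refine ⟨(⟨σ, hs⟩, c 0 / c0 ⟨σ, hs⟩ 0), ?_⟩
      apply Subtype.ext
      apply Prod.ext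
      · rfl
      funext i
      have a1 := diag hF hω _ e1 i 0
      have a2 := diag hF hω _ e2 i 0
      simp only at a1 a2 ⊢
      have a3 : c i / c0 ⟨σ, hs⟩ i = c 0 / c0 ⟨σ, hs⟩ 0 := by
        have := congrArg₂ (· / ·) a1 a2
        simpa [mul_div_mul_right_eq_div] using this
      rw [← a3, div_mul_cancel]
  refine Eq.trans (Nat.card_eq_of_bijective _ hbij).symm ?_
  rw [Nat.card_prod, Nat.card_eq_fintype_card (α := Fˣ), Fintype.card_units, hF,
    nat_card_alternatingGroup]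
  simp [Nat.factorial]

end Cfsg.Agent.S1611
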