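import Cfsg.Statements.S1615
import Cfsg.Agent.Lib.ThreeTrans.TriangleFree
import Cfsg.Agent.Lib.Char.Burnside
-- import your own Cfsg.Agent.* helpers here

set_option autoImplicit false
open Cfsg

namespace Cfsg.Agent.S1615

/-- If O(⟨D_x⟩) is not central in ⟨D_x⟩ for some transposition x, the 3-transposition group is the symmetric group of degree 5. -/
theorem result {G : Type*} [Group G] [Finite G] (hsol : ∀ N : Subgroup G, N.Normal → Group.IsSolvable ↥N → N = ⊥) (hperf : ⁅commutator G, commutator G⁆ = commutator G) {D : Set G} (hD : Cfsg.IsThreeTranspositionClass D) (x : G) (hx : x ∈ D) (h : ¬ Cfsg.oddCore ↥(Subgroup.closure {y : G | y ∈ D ∧ y ≠ x ∧ Commute x y}) ≤ Subgroup.center ↥(Subgroup.closure {y : G | y ∈ D ∧ y ≠ x ∧ Commute x y})) : Nonempty (G ≃* Equiv.Perm (Fin 5)) := by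
  obtain ⟨hset, hconj, -⟩ := CfsgLib.ThreeTransp.class_to_group hD
  obtain ⟨y, z, hT⟩ := CfsgLib.ThreeTrans.exists_twin_of_oddCore hD (x := x) h
  have hprim := CfsgLib.ThreeTrans.isPrimitive_of_fischer hsol hperf hD
  have hsame := CfsgLib.ThreeTrans.eq_of_sameComm hsol hD
  have hlink : ∀ u ∈ D, ∀ v ∈ D, CfsgLib.ThreeTransp.SameLink D u v → u = v := fun u hu v hv huv => by
    have h1 := CfsgLib.ThreeTransp.mul_mem_of_sameLink hset hconj hu hv huv
    rw [CfsgLib.ThreeTrans.pCore_eq_bot hsol Nat.prime_three, Subgroup.mem_bot] at h1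
    exact (eq_inv_of_mul_eq_one_left h1).trans (CfsgLib.ThreeTrans.inv_eq hD.1 hv)
  have hedge : ∃ u ∈ D, ∃ v ∈ D, u ≠ v ∧ Commute u v :=
    ⟨x, hx, y, hT.1.1, hT.1.2.1.symm, hT.1.2.2⟩
  have htwin : ∀ a ∈ D, ∀ b ∈ CfsgLib.ThreeTrans.link D a, ∃ c, CfsgLib.ThreeTrans.Twin D a b c := by
    intro a ha b hb
    obtain ⟨g, hga, hgb⟩ :=
      CfsgLib.ThreeTrans.exists_conj_pair hD hprim hedge hsame hx hT.1 ha hb
    have h2 := CfsgLib.ThreeTrans.twin_conj hD g hT
    rw [hga, hgb] at h2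
    exact ⟨_, h2⟩
  have htri : ∀ a ∈ D, ∀ b ∈ CfsgLib.ThreeTrans.link D a, ∀ u ∈ CfsgLib.ThreeTrans.link D a,
      u ≠ b → ¬ Commute b u := fun a ha b hb u hu hne =>
    CfsgLib.ThreeTrans.not_triangle hD hlink htwin ha hb hu hne
  obtain ⟨hloc, hcard⟩ := CfsgLib.ThreeTrans.local_of_triangleFree hD hprim hlink htri hx hT.1 hT.2.1
    hT.2.2.1 (CfsgLib.ThreeTrans.center_eq_bot hsol)
  rcases hloc.main hcard ⟨x, hx⟩ with hS | hS
  · obtain ⟨e⟩ := hS
    exact ⟨((MulEquiv.subgroupCongr hD.2.2).trans Subgroup.topEquiv).symm.trans e⟩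
  · exfalso
    obtain ⟨e⟩ := hS
    have h3 : Group.IsSolvable (Equiv.Perm (Fin 3)) :=
      CfsgLib.Char.isSolvable_of_card_eq_prime_pow_mul Nat.prime_two Nat.prime_three (a := 1) (b := 1)
        (by rw [Nat.card_eq_fintype_card, Fintype.card_perm]; rfl)
    have h4 : Group.IsSolvable ↥(Subgroup.closure D) :=
      Group.isSolvable_of_isSolvable_injective (f := e.toMonoidHom) e.injective
    rw [hD.2.2] at h4
    have h5 := hsol ⊤ inferInstance h4
    exact CfsgLib.ThreeTrans.ne_one hD.1 hx (Subgroup.mem_bot.1 (h5 ▸ Subgroup.mem_top x))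

end Cfsg.Agent.S1615
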