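import Cfsg.Statements.S1614
import Cfsg.Agent.Lib.FischerPolar.Solvable
import Cfsg.Agent.Lib.Linear.Sp4Two
import Cfsg.Agent.S1615

set_option autoImplicit false
open Cfsg

namespace Cfsg.Agent.S1614

/-- If the commuting transpositions of one transposition generate a solvable group, a Fischer 3-transposition group is S5, S6, PSU(4, 2) or PSU(5, 2). -/
theorem result {G : Type*} [Group G] [Finite G] (hsol : ∀ N : Subgroup G, N.Normal → Group.IsSolvable ↥N → N = ⊥) (hperf : ⁅commutator G, commutator G⁆ = commutator G) {D : Set G} (hD : Cfsg.IsThreeTranspositionClass D) (x : G) (hx : x ∈ D) (hs : Group.IsSolvable ↥(Subgroup.closure {y : G | y ∈ D ∧ y ≠ x ∧ Commute x y})) : Nonempty (G ≃* Equiv.Perm (Fin 5)) ∨ Nonempty (G ≃* Equiv.Perm (Fin 6)) ∨ ∃ (F : Type) (_ : Field F) (_ : Fintype F), Fintype.card F = 4 ∧ (Nonempty (G ≃* Cfsg.PSU 4 F 2) ∨ Nonempty (G ≃* Cfsg.PSU 5 F 2)) := by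
  by_cases h2 : Cfsg.pCore 2 ↥(Subgroup.closure (CfsgLib.ThreeTrans.link D x)) ≤
      Subgroup.center ↥(Subgroup.closure (CfsgLib.ThreeTrans.link D x))
  · by_cases ho : Cfsg.oddCore ↥(Subgroup.closure (CfsgLib.ThreeTrans.link D x)) ≤
        Subgroup.center ↥(Subgroup.closure (CfsgLib.ThreeTrans.link D x))
    · exact (CfsgLib.FischerPolar.false_of_clique hsol hperf hD hx
        (CfsgLib.FischerPolar.commute_of_central_cores hs h2 ho)).elim
    · exact Or.inl (Cfsg.Agent.S1615.result hsol hperf hD x hx ho)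
  · have hS := CfsgLib.FischerPolar.setting_of_twoCore hsol hperf hD hx h2
    rcases CfsgLib.FischerPolar.classification hS with hSp | ⟨n, Ψ, hM, e⟩
    · obtain ⟨e⟩ := CfsgLib.FischerPolar.symplectic_two hSp hx hs
      obtain ⟨f⟩ := CfsgLib.Linear.Sp4Two.equiv_S6
      exact Or.inr (Or.inl ⟨e.trans f⟩)
    · have h5 := CfsgLib.FischerPolar.unitary_le_five hD hM hx hs
      have h4 := hM.four
      refine Or.inr (Or.inr ⟨CfsgLib.FischerPolar.F4, inferInstance, inferInstance,
        CfsgLib.FischerPolar.card_F4.trans (by norm_num), ?_⟩)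
      rcases (show n = 4 ∨ n = 5 by omega) with rfl | rfl
      · exact Or.inl e
      · exact Or.inr e

end Cfsg.Agent.S1614
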