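import Cfsg.Statements.S1618
import Cfsg.Agent.Lib.Invol.GlaubermanZStar

set_option autoImplicit false
open Cfsg

namespace Cfsg.Agent.S1618

theorem commutator_le_of_sup {G : Type*} [Group G] {K : Subgroup G} [K.Normal] {d : G}
    (h : K ⊔ Subgroup.zpowers d = ⊤) : commutator G ≤ K := by
  have hz : ∀ x : G ⧸ K, x ∈ Subgroup.zpowers (QuotientGroup.mk' K d) := by
    intro x
    rw [← MonoidHom.map_zpowers]
    have h' : (Subgroup.zpowers d).map (QuotientGroup.mk' K) = ⊤ := by
      rw [← Subgroup.map_top_of_surjective _ (QuotientGroup.mk'_surjective K), ← h,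
        Subgroup.map_sup, QuotientGroup.map_mk'_self, bot_sup_eq]
    rw [h']; trivial
  rw [commutator_def, Subgroup.commutator_le]
  intro a _ b _
  rw [← QuotientGroup.eq_one_iff, ← QuotientGroup.mk'_apply, map_commutatorElement,
    commutatorElement_eq_one_iff_mul_comm]
  obtain ⟨i, hi⟩ := Subgroup.mem_zpowers_iff.1 (hz (QuotientGroup.mk' K a))
  obtain ⟨j, hj⟩ := Subgroup.mem_zpowers_iff.1 (hz (QuotientGroup.mk' K b))
  rw [← hi, ← hj, ← zpow_add, ← zpow_add, add_comm]

theorem ncard_image {H : Type*} [Group H] [Finite H] {β : Type*} (f : H → β) (C : Subgroup H)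
    (hf : ∀ a b, f a = f b ↔ a⁻¹ * b ∈ C) : (Set.range f).ncard = C.index := by
  rw [← Nat.card_coe_set_eq, Subgroup.index]
  refine (Nat.card_congr (Equiv.ofBijective (fun q : H ⧸ C => Quotient.liftOn' q
    (fun a => (⟨f a, Set.mem_range_self a⟩ : Set.range f)) fun a b h =>
      Subtype.ext ((hf a b).2 (QuotientGroup.leftRel_apply.1 h))) ⟨?_, ?_⟩)).symm
  · intro q r
    induction q using QuotientGroup.induction_on
    induction r using QuotientGroup.induction_on
    intro h
    exact QuotientGroup.eq.2 ((hf _ _).1 (congrArg Subtype.val h))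
  · rintro ⟨_, a, rfl⟩
    exact ⟨(a : H ⧸ C), rfl⟩

/-- An involution normalises some Sylow subgroup of an odd normal subgroup. -/
theorem exists_invariant_sylow {G : Type*} [Group G] [Finite G] (N : Subgroup G) [N.Normal]
    (hN : Odd (Nat.card N)) {d : G} (hd : orderOf d = 2) (q : ℕ) [Fact q.Prime] :
    ∃ Q : Sylow q N, ∀ x : N, x ∈ Q → MulAut.conjNormal d x ∈ Q := by
  have : Fact (Nat.Prime 2) := ⟨Nat.prime_two⟩
  let φ : Subgroup.zpowers d →* MulAut N :=
    MulAut.conjNormal.comp (Subgroup.zpowers d).subtype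
  let _ := MulAction.compHom (Sylow q N) φ
  have hp : IsPGroup 2 (Subgroup.zpowers d) :=
    IsPGroup.of_card (n := 1) (by rw [Nat.card_zpowers, hd, pow_one])
  have hnd : ¬ 2 ∣ Nat.card (Sylow q N) := by
    intro h
    obtain ⟨Q⟩ := (inferInstance : Nonempty (Sylow q N))
    exact Nat.not_even_iff_odd.2 hN
      (even_iff_two_dvd.2 ((h.trans (Q.card_dvd_index)).trans (Subgroup.index_dvd_card _)))
  obtain ⟨Q, hQ⟩ := hp.nonempty_fixed_point_of_prime_not_dvd_card (α := Sylow q N) hnd
  refine ⟨Q, fun x hx => ?_⟩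
  have h := hQ ⟨d, Subgroup.mem_zpowers d⟩
  have h' : MulAut.conjNormal (H := N) d • Q = Q := by
    exact h
  rw [← h']
  exact Subgroup.smul_mem_pointwise_smul x (MulAut.conjNormal d) (Q : Subgroup N) hx

/-- A group generated by a class of involutions whose pairwise products (of distinct members) have p-power order for a fixed odd prime p has nilpotent derived subgroup. -/
theorem result {G : Type*} [Group G] [Finite G] (p : ℕ) (hp : p.Prime) (hodd : p ≠ 2) {D : Set G} (hinv : ∀ d ∈ D, orderOf d = 2) (hconj : ∃ d ∈ D, D = conjugatesOf d) (hgen : Subgroup.closure D = ⊤) (hprod : ∀ x ∈ D, ∀ y ∈ D, x ≠ y → ∃ k : ℕ, orderOf (x * y) = p ^ k) : Group.IsNilpotent ↥(commutator G) := by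
  classical
  have : Fact p.Prime := ⟨hp⟩
  obtain ⟨d, hd, hD⟩ := hconj
  have hd2 : orderOf d = 2 := hinv d hd
  have hdd : d * d = 1 := by rw [← sq, ← hd2, pow_orderOf_eq_one]
  have hdi : d⁻¹ = d := inv_eq_of_mul_eq_one_right hdd
  have hDg : ∀ g : G, g * d * g⁻¹ ∈ D := fun g => by
    rw [hD, conjugatesOf, Set.mem_setOf_eq]; exact isConj_iff.2 ⟨g, rfl⟩
  let φ : G → G := fun g => g * d * g⁻¹ * d
  have hφp : ∀ g, ∃ k : ℕ, orderOf (φ g) = p ^ k := fun g => by
    by_cases h : g * d * g⁻¹ = d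
    · exact ⟨0, by rw [show φ g = 1 by simp only [φ, h, hdd], orderOf_one, pow_zero]⟩
    · exact hprod _ (hDg g) _ hd h
  have hiso : Cfsg.IsIsolatedInvolution d := ⟨hd2, fun g hc => by
    obtain ⟨k, hk⟩ := hφp g
    have h2 : orderOf (φ g) ∣ 2 := orderOf_dvd_of_pow_eq_one (by
      rw [sq]
      show g * d * g⁻¹ * d * (g * d * g⁻¹ * d) = 1
      rw [← mul_assoc, mul_assoc (g * d * g⁻¹) d (g * d * g⁻¹), hc.eq]
      calc g * d * g⁻¹ * (g * d * g⁻¹ * d) * d
          = g * (d * d) * g⁻¹ * (d * d) := by group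
        _ = 1 := by rw [hdd]; group)
    rw [hk] at h2
    have hk0 : k = 0 := by
      rcases Nat.eq_zero_or_pos k with h | h
      · exact h
      · exact absurd ((Nat.prime_dvd_prime_iff_eq hp Nat.prime_two).1
          ((dvd_pow_self p h.ne').trans h2)) hodd
    rw [hk0, pow_zero, orderOf_eq_one_iff] at hk
    calc g * d * g⁻¹ = φ g * d⁻¹ := by simp only [φ, mul_inv_cancel_right]
      _ = d := by rw [hk, one_mul, hdi]⟩
  set N : Subgroup G := Cfsg.pPrimeCore 2 G with hNdef
  have hNn : N.Normal := CfsgLib.Solvable.pPrimeCore_normal 2 G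
  have hNodd : Odd (Nat.card N) :=
    Nat.coprime_two_right.1 (CfsgLib.Solvable.pPrimeCore_card_coprime 2 G)
  have hφN : ∀ g, φ g ∈ N := fun g => by
    have h := N.inv_mem (CfsgLib.Invol.zStar hiso g)
    simpa [φ, mul_inv_rev, hdi, mul_assoc] using h
  let C : Subgroup N := (Subgroup.centralizer ({d} : Set G)).subgroupOf N
  let f : N → G := fun a => φ a
  have hf : ∀ a b : N, f a = f b ↔ a⁻¹ * b ∈ C := fun a b => by
    simp only [f, φ, C, Subgroup.mem_subgroupOf, Subgroup.mem_centralizer_singleton_iff,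
      Subgroup.coe_mul, Subgroup.coe_inv, mul_left_inj]
    constructor <;> intro h
    · calc (a : G)⁻¹ * b * d = (a : G)⁻¹ * ((b : G) * d * (b : G)⁻¹) * b := by group
        _ = d * ((a : G)⁻¹ * b) := by rw [← h]; group
    · calc (a : G) * d * (a : G)⁻¹ = a * (d * ((a : G)⁻¹ * b)) * (b : G)⁻¹ := by group
        _ = (b : G) * d * (b : G)⁻¹ := by rw [← h]; group
  have hconjval : ∀ x : N, (MulAut.conjNormal d x : G) = d * x * d := fun x => by
    rw [MulAut.conjNormal_apply, hdi]
  have hcop : ∀ q : ℕ, q.Prime → q ≠ p → ¬ q ∣ C.index := fun q hq hqp => by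
    have : Fact q.Prime := ⟨hq⟩
    obtain ⟨Q, hQ⟩ := exists_invariant_sylow N hNodd hd2 q
    have hle : (Q : Subgroup N) ≤ C := fun x hx => by
      let y : N := x * MulAut.conjNormal d x⁻¹
      have hy : y ∈ (Q : Subgroup N) := mul_mem hx (hQ _ (inv_mem hx))
      have hyφ : (y : G) = φ x := by
        simp only [y, φ, Subgroup.coe_mul, hconjval, Subgroup.coe_inv, mul_assoc]
      obtain ⟨k, hk⟩ := hφp (x : G)
      obtain ⟨j, hj⟩ := IsPGroup.iff_orderOf.1 Q.2 ⟨y, hy⟩
      rw [Subgroup.orderOf_mk, ← Subgroup.orderOf_coe, hyφ, hk] at hj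
      have hk0 : k = 0 := by
        rcases Nat.eq_zero_or_pos k with h | h
        · exact h
        · exact absurd ((Nat.prime_dvd_prime_iff_eq hp hq).1
            (hp.dvd_of_dvd_pow (hj ▸ dvd_pow_self p h.ne'))).symm hqp
      rw [hk0, pow_zero, orderOf_eq_one_iff] at hk
      have h1 := (hf 1 x).1 (by
        simp only [f, hk]
        simp [φ, hdd])
      simpa using h1
    exact fun h => Q.not_dvd_index (h.trans (Subgroup.index_dvd_of_le hle))
  obtain ⟨P, hP⟩ := exists_invariant_sylow N hNodd hd2 p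
  obtain ⟨a, ha⟩ : ∃ a, C.index = p ^ a := by
    refine ⟨_, Nat.eq_prime_pow_of_unique_prime_dvd Subgroup.index_ne_zero_of_finite ?_⟩
    intro q hq hqd
    by_contra hqp
    exact hcop q hq hqp hqd
  have hle : C.index ≤ C.relIndex P := by
    obtain ⟨b, hb⟩ := IsPGroup.iff_card.1 (P.2.to_le (inf_le_right : C ⊓ (P : Subgroup N) ≤ P))
    have hmul : C.relIndex P * p ^ b = Nat.card P := by
      rw [← hb, ← Subgroup.inf_relIndex_right]
      rw [Subgroup.relIndex, ← Nat.card_congr (Subgroup.subgroupOfEquivOfLe (inf_le_right : C ⊓ (P : Subgroup N) ≤ P)).toEquiv]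
      exact Subgroup.index_mul_card _
    obtain ⟨n, hn⟩ := IsPGroup.iff_card.1 P.2
    have hdvd : p ^ (a + b) ∣ p ^ n := by
      rw [← hn, P.card_eq_multiplicity, ← hp.pow_dvd_iff_dvd_ordProj Nat.card_pos.ne',
        pow_add, ← ha, ← hb, ← C.index_mul_card]
      exact mul_dvd_mul_left _ (Subgroup.card_dvd_of_le inf_le_left)
    rw [hn] at hmul
    have : p ^ a * p ^ b ≤ C.relIndex P * p ^ b := by
      rw [hmul, ← pow_add]; exact Nat.le_of_dvd (pow_pos hp.pos _) hdvd
    rw [ha]; exact Nat.le_of_mul_le_mul_right this (pow_pos hp.pos _)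
  have hmem : Set.range f ⊆ (((P : Subgroup N).map N.subtype : Subgroup G) : Set G) := by
    let g : ↥(P : Subgroup N) → G := fun x => f x
    have hsub : Set.range g ⊆ Set.range f := by rintro _ ⟨x, rfl⟩; exact ⟨x, rfl⟩
    have heq : Set.range g = Set.range f := Set.eq_of_subset_of_ncard_le hsub (by
      rw [ncard_image f C hf, ncard_image g (C.subgroupOf P) fun x y => by
        rw [Subgroup.mem_subgroupOf]; exact hf x y]
      exact hle) (Set.toFinite _)
    rw [← heq]
    rintro _ ⟨x, rfl⟩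
    refine ⟨x * MulAut.conjNormal d (x : N)⁻¹, mul_mem x.2 (hP _ (inv_mem x.2)), ?_⟩
    simp only [g, f, φ, Subgroup.subtype_apply, Subgroup.coe_mul, hconjval, Subgroup.coe_inv,
      mul_assoc]
  set K : Subgroup G := Subgroup.closure (Set.range f) with hK
  have hKp : IsPGroup p K := (P.2.map N.subtype).to_le ((Subgroup.closure_le _).2 hmem)
  have hNd : N ⊔ Subgroup.zpowers d = ⊤ := by
    rw [eq_top_iff, ← hgen, Subgroup.closure_le]
    intro y hy
    rw [hD, conjugatesOf, Set.mem_setOf_eq, isConj_iff] at hy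
    obtain ⟨g, rfl⟩ := hy
    have h1 : g * d * g⁻¹ = φ g * d⁻¹ := by simp only [φ, mul_inv_cancel_right]
    rw [h1]
    exact mul_mem (Subgroup.mem_sup_left (hφN g))
      (Subgroup.mem_sup_right (inv_mem (Subgroup.mem_zpowers d)))
  have hall : ∀ g, φ g ∈ Set.range f := fun g => by
    obtain ⟨n, hn, z, hz, rfl⟩ := Subgroup.mem_sup_of_normal_left.1
      (hNd ▸ Subgroup.mem_top g : g ∈ N ⊔ Subgroup.zpowers d)
    obtain ⟨i, rfl⟩ := Subgroup.mem_zpowers_iff.1 hz
    refine ⟨⟨n, hn⟩, ?_⟩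
    simp only [f, φ, mul_inv_rev]
    congr 1
    calc n * d * n⁻¹ = n * (d ^ i * d * (d ^ i)⁻¹) * n⁻¹ := by
          rw [(Commute.refl d).zpow_left i, mul_inv_cancel_right]
      _ = _ := by group
  have hKn : K.Normal := by
    refine ⟨fun x hx h => ?_⟩
    induction hx using Subgroup.closure_induction with
    | mem x hx =>
      obtain ⟨a, rfl⟩ := hx
      have : h * f a * h⁻¹ = φ (h * a) * (φ h)⁻¹ := by
        simp only [f, φ, mul_inv_rev, hdi]
        calc h * (a * d * (a : G)⁻¹ * d) * h⁻¹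
            = h * a * d * ((a : G)⁻¹ * h⁻¹) * (h * d * h⁻¹) := by group
          _ = h * a * d * ((a : G)⁻¹ * h⁻¹) * (d * d) * (h * d * h⁻¹) := by
            rw [hdd, mul_one]
          _ = _ := by group
      rw [this]
      exact mul_mem (Subgroup.subset_closure (hall _)) (inv_mem (Subgroup.subset_closure (hall _)))
    | one => simp
    | mul x y _ _ hx hy =>
      rw [show h * (x * y) * h⁻¹ = h * x * h⁻¹ * (h * y * h⁻¹) by group]
      exact mul_mem hx hy
    | inv x _ hx =>
      rw [show h * x⁻¹ * h⁻¹ = (h * x * h⁻¹)⁻¹ by group]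
      exact inv_mem hx
  have htop : K ⊔ Subgroup.zpowers d = ⊤ := by
    rw [eq_top_iff, ← hgen, Subgroup.closure_le]
    intro y hy
    rw [hD, conjugatesOf, Set.mem_setOf_eq, isConj_iff] at hy
    obtain ⟨g, rfl⟩ := hy
    have h1 : g * d * g⁻¹ = φ g * d⁻¹ := by simp only [φ, mul_inv_cancel_right]
    rw [h1]
    exact mul_mem (Subgroup.mem_sup_left (Subgroup.subset_closure (hall g)))
      (Subgroup.mem_sup_right (inv_mem (Subgroup.mem_zpowers d)))
  exact (hKp.to_le (commutator_le_of_sup htop)).isNilpotent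

end Cfsg.Agent.S1618
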