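import Cfsg.Statements.S1620
import Cfsg.Agent.Lib.Ico.Bridge

set_option autoImplicit false
open Quaternion
open Cfsg

namespace Cfsg.Agent.S1620

/-- The Hall–Janko group is simple and non-abelian. -/
theorem result : IsSimpleGroup Cfsg.Spor.J2 ∧ ∃ a b : Cfsg.Spor.J2, a * b ≠ b * a := by
  have hS : IsSimpleGroup CfsgLib.J2Perm.J2sub := CfsgLib.J2Perm.isJ2.1
  refine ⟨MulEquiv.isSimpleGroup CfsgLib.Ico.bridge, ?_⟩
  by_contra h
  push Not at h
  letI : CommGroup Cfsg.Spor.J2 := { (inferInstance : Group Cfsg.Spor.J2) with mul_comm := h }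
  have hp := CfsgLib.Ico.card_J2
  haveI hs : IsSimpleGroup Cfsg.Spor.J2 := MulEquiv.isSimpleGroup CfsgLib.Ico.bridge
  have hprime : (Nat.card Cfsg.Spor.J2).Prime := IsSimpleGroup.prime_card
  rw [hp] at hprime
  norm_num at hprime

end Cfsg.Agent.S1620
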