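import Cfsg.Statements.S1623
import Cfsg.Agent.Lib.Ico.Cent
import Cfsg.Agent.Lib.LargeXS.Congr
-- import your own Cfsg.Agent.* helpers here

set_option autoImplicit false
open Quaternion
open Cfsg

namespace Cfsg.Agent.S1623

open CfsgLib.Ico CfsgLib.Comp

/-- The Hall–Janko group as permutations of 100 points. -/
noncomputable def phi : Cfsg.Spor.J2 →* Equiv.Perm (Fin 100) :=
  CfsgLib.J2Perm.J2sub.subtype.comp bridge.toMonoidHom

theorem phi_injective : Function.Injective phi :=
  CfsgLib.J2Perm.J2sub.subtype_injective.comp bridge.injective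

theorem map_centralizer : (Subgroup.centralizer {reflJ 0}).map phi = Cent.cent := by
  have h0 : phi (reflJ 0) = PermCode.val 100 Cent.centCode := Cent.bridge_reflJ
  have : Finite Cfsg.Spor.J2 := Nat.finite_of_card_ne_zero (by rw [card_J2]; norm_num)
  refine (Subgroup.eq_of_le_of_card_ge (fun g hg => ?_) ?_).symm
  · obtain ⟨a, rfl⟩ : ∃ a, phi a = g := ⟨bridge.symm ⟨g, Cent.cent_le hg⟩, by simp [phi]⟩
    refine ⟨a, ?_, rfl⟩
    intro y hy
    apply phi_injective
    rw [map_mul, map_mul, Set.mem_singleton_iff.1 hy, h0]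
    exact Cent.cent_comm hg _ rfl
  · rw [Subgroup.card_map_of_injective phi_injective, card_centralizer_reflJ]
    exact Cent.cent_card.ge

theorem of_equiv {X : Type} [Group X] (e : X ≃* Cent.cent) :
    ∃ (Q : Subgroup X) (_ : Q.Normal), Nat.card Q = 32 ∧ Cfsg.IsExtraspecial 2 Q ∧
      Nonempty (X ⧸ Q ≃* alternatingGroup (Fin 5)) := by
  let k : X →* Equiv.Perm (Fin 5) := Cent.blockHom.comp e.toMonoidHom
  have : Finite X := Finite.of_equiv _ e.symm.toEquiv
  let eQ : k.ker ≃* Cent.blockHom.ker :=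
    { toFun := fun x => ⟨e x.1, x.2⟩
      invFun := fun y => ⟨e.symm y.1, by
        show Cent.blockHom (e (e.symm y.1)) = 1
        rw [e.apply_symm_apply]; exact y.2⟩
      left_inv := fun x => Subtype.ext (e.symm_apply_apply _)
      right_inv := fun y => Subtype.ext (e.apply_symm_apply _)
      map_mul' := fun x y => Subtype.ext (map_mul e x.1 y.1) }
  refine ⟨k.ker, inferInstance, (Nat.card_congr eQ.toEquiv).trans Cent.card_ker,
    CfsgLib.LargeXS.isExtraspecial_congr eQ.symm Cent.isExtraspecial_ker, ?_⟩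
  have hr : k.range = alternatingGroup (Fin 5) := by
    rw [← Cent.top_eq_alternating, ← Cent.range_eq_top]
    ext s
    constructor
    · rintro ⟨x, rfl⟩; exact ⟨e x, rfl⟩
    · rintro ⟨y, rfl⟩
      exact ⟨e.symm y, by show Cent.blockHom (e (e.symm y)) = _; rw [e.apply_symm_apply]⟩
  exact ⟨(QuotientGroup.quotientKerEquivRange k).trans (MulEquiv.subgroupCongr hr)⟩

/-- A reflection centraliser in the Hall–Janko group is an extension of an extraspecial group of order 32 by the alternating group of degree 5. -/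
theorem result (f : Equiv.Perm ↥Cfsg.Spor.icoLeech) (hf : Cfsg.Spor.IsIcoReflection f) (hfm : f ∈ Cfsg.Spor.twoJ2) : ∃ (Q : Subgroup ↥(Subgroup.centralizer {(QuotientGroup.mk ⟨f, hfm⟩ : Cfsg.Spor.J2)})) (_ : Q.Normal), Nat.card Q = 32 ∧ Cfsg.IsExtraspecial 2 Q ∧ Nonempty (↥(Subgroup.centralizer {(QuotientGroup.mk ⟨f, hfm⟩ : Cfsg.Spor.J2)}) ⧸ Q ≃* alternatingGroup (Fin 5)) := by
  obtain ⟨x, hx⟩ := exists_conj_reflJ f hf hfm
  refine of_equiv ?_
  refine MulEquiv.trans (MulEquiv.subgroupCongr ?_)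
    ((((Subgroup.centralizer {reflJ 0}).equivMapOfInjective (MulAut.conj x).toMonoidHom (MulAut.conj x).injective).symm).trans
      (((Subgroup.centralizer {reflJ 0}).equivMapOfInjective phi phi_injective).trans
        (MulEquiv.subgroupCongr map_centralizer)))
  rw [← hx]
  ext y
  simp only [Subgroup.mem_map, Subgroup.mem_centralizer_singleton_iff]
  constructor
  · intro hy
    refine ⟨x⁻¹ * y * x, ?_, by simp [MulAut.conj_apply, mul_assoc]⟩
    calc _ = x⁻¹ * (y * (x * reflJ 0 * x⁻¹)) * x := by group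
      _ = x⁻¹ * ((x * reflJ 0 * x⁻¹) * y) * x := by rw [hy]
      _ = _ := by group
  · rintro ⟨c, hc, rfl⟩
    show x * c * x⁻¹ * (x * reflJ 0 * x⁻¹) = x * reflJ 0 * x⁻¹ * (x * c * x⁻¹)
    calc _ = x * (c * reflJ 0) * x⁻¹ := by group
      _ = x * (reflJ 0 * c) * x⁻¹ := by rw [hc]
      _ = _ := by group

end Cfsg.Agent.S1623
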