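import Cfsg.Statements.S1624
import Cfsg.Agent.Lib.Ico.U33
import Mathlib.FieldTheory.Finite.GaloisField
-- import your own Cfsg.Agent.* helpers here

set_option autoImplicit false
open Quaternion
open Cfsg

namespace Cfsg.Agent.S1624

open CfsgLib.Ico CfsgLib.Comp

/-- The Hall–Janko group as permutations of 100 points. -/
noncomputable def phi : Cfsg.Spor.J2 →* Equiv.Perm (Fin 100) :=
  CfsgLib.J2Perm.J2sub.subtype.comp bridge.toMonoidHom

theorem phi_injective : Function.Injective phi :=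
  CfsgLib.J2Perm.J2sub.subtype_injective.comp bridge.injective

noncomputable instance act : MulAction Cfsg.Spor.J2 (Fin 100) := MulAction.compHom _ phi

theorem smul_def (g : Cfsg.Spor.J2) (x : Fin 100) : g • x = phi g x := rfl

theorem exists_preimage {g : Equiv.Perm (Fin 100)} (hg : g ∈ CfsgLib.J2Perm.J2sub) :
    ∃ a, phi a = g := ⟨bridge.symm ⟨g, hg⟩, by simp [phi]⟩

theorem pretransitive : MulAction.IsPretransitive Cfsg.Spor.J2 (Fin 100) := by
  have hT : MulAction.IsPretransitive CfsgLib.J2Perm.J2sub (Fin 100) :=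
    PermCode.isPretransitive CfsgLib.J2Perm.j2_check (by decide) (by decide +kernel)
  refine ⟨fun x y => ?_⟩
  obtain ⟨g, rfl⟩ := hT.exists_smul_eq x y
  obtain ⟨a, ha⟩ := exists_preimage g.2
  exact ⟨a, by rw [smul_def, ha]; rfl⟩

/-- The point stabiliser. -/
noncomputable def H : Subgroup Cfsg.Spor.J2 := MulAction.stabilizer Cfsg.Spor.J2 (0 : Fin 100)

theorem index_H : H.index = 100 := by
  have := pretransitive
  rw [H, MulAction.index_stabilizer_of_transitive, Nat.card_fin]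

theorem map_H : H.map phi = U33.stab := by
  have : Finite Cfsg.Spor.J2 := Nat.finite_of_card_ne_zero (by rw [card_J2]; norm_num)
  have hc : Nat.card H = 6048 := by
    have h := H.card_mul_index
    rw [index_H, card_J2] at h
    omega
  refine (Subgroup.eq_of_le_of_card_ge (fun g hg => ?_) ?_).symm
  · obtain ⟨a, rfl⟩ := exists_preimage (U33.stab_le hg)
    exact ⟨a, (U33.keeps_of_mem hg).1, rfl⟩
  · rw [Subgroup.card_map_of_injective phi_injective, hc, U33.card_stab]

theorem keeps {a : Cfsg.Spor.J2} (ha : a ∈ H) : U33.Keeps (phi a) :=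
  U33.keeps_of_mem (map_H ▸ Subgroup.mem_map_of_mem phi ha)

theorem root_reach (x : Fin 100) (hx : (x : ℕ) ≠ 0) :
    ∃ a ∈ H, ∀ r : Fin 100, (r : ℕ) = CfsgLib.J2Perm.root x → phi a r = x := by
  obtain ⟨s, r, hr, e⟩ := CfsgLib.J2Perm.exists_stab_map x hx
  obtain ⟨a, ha⟩ := exists_preimage (s : CfsgLib.J2Perm.J2sub).2
  refine ⟨a, ?_, fun r' hr' => ?_⟩
  · show phi a 0 = 0
    rw [ha]
    exact s.2
  · rw [ha, Fin.ext (hr'.trans hr.symm)]
    exact e

theorem orbit_one : (MulAction.orbit H (1 : Fin 100)).ncard = 36 := by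
  have e : MulAction.orbit H (1 : Fin 100) =
      ↑(Finset.univ.filter fun x : Fin 100 => 1 ≤ (x : ℕ) ∧ (x : ℕ) < 37) := by
    ext x
    simp only [Finset.coe_filter, Finset.mem_univ, true_and, Set.mem_ofPred_eq]
    refine ⟨?_, fun hx => ?_⟩
    · rintro ⟨⟨a, ha⟩, rfl⟩
      show 1 ≤ (phi a 1 : ℕ) ∧ (phi a 1 : ℕ) < 37
      have k := keeps ha
      refine ⟨Nat.one_le_iff_ne_zero.2 fun h => ?_, ?_⟩
      · exact absurd ((phi a).injective ((Fin.ext h : phi a 1 = 0).trans k.1.symm)) (by decide)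
      · by_contra h
        exact absurd ((k.2 1).2 (not_lt.1 h)) (by decide)
    · obtain ⟨a, ha, h⟩ := root_reach x (by omega)
      refine ⟨⟨a, ha⟩, h 1 ?_⟩
      simp [CfsgLib.J2Perm.root, show Nat.blt (x : ℕ) 37 = true from Nat.blt_eq.symm ▸ hx.2]
  rw [e, Set.ncard_coe_finset]
  decide +kernel

theorem orbit_far : (MulAction.orbit H (37 : Fin 100)).ncard = 63 := by
  have e : MulAction.orbit H (37 : Fin 100) = ↑(Finset.univ.filter fun x : Fin 100 => 37 ≤ (x : ℕ)) := by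
    ext x
    simp only [Finset.coe_filter, Finset.mem_univ, true_and, Set.mem_ofPred_eq]
    refine ⟨?_, fun hx => ?_⟩
    · rintro ⟨⟨a, ha⟩, rfl⟩
      exact ((keeps ha).2 37).1 (by decide)
    · obtain ⟨a, ha, h⟩ := root_reach x (by omega)
      refine ⟨⟨a, ha⟩, h 37 ?_⟩
      have : Nat.blt (x : ℕ) 37 = false := Bool.eq_false_iff.2 fun h => by rw [Nat.blt_eq] at h; omega
      simp [CfsgLib.J2Perm.root, this]
  rw [e, Set.ncard_coe_finset]
  decide +kernel

theorem exists_coset (x : Fin 100) :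
    ∃ c : Cfsg.Spor.J2 ⧸ H, (MulAction.orbit H c).ncard = (MulAction.orbit H x).ncard := by
  have := pretransitive
  obtain ⟨b, rfl⟩ := MulAction.exists_smul_eq Cfsg.Spor.J2 (0 : Fin 100) x
  refine ⟨QuotientGroup.mk b, ?_⟩
  let f : Cfsg.Spor.J2 ⧸ H → Fin 100 := MulAction.ofQuotientStabilizer Cfsg.Spor.J2 (0 : Fin 100)
  have hf : Function.Injective f := MulAction.injective_ofQuotientStabilizer Cfsg.Spor.J2 (0 : Fin 100)
  rw [← Set.ncard_image_of_injective _ hf]
  congr 1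
  have key : ∀ h : H, f (h • (QuotientGroup.mk b : Cfsg.Spor.J2 ⧸ H)) = h • b • (0 : Fin 100) := fun h =>
    MulAction.ofQuotientStabilizer_smul Cfsg.Spor.J2 (0 : Fin 100) (h : Cfsg.Spor.J2) (QuotientGroup.mk b)
  ext y
  constructor
  · rintro ⟨_, ⟨h, rfl⟩, rfl⟩
    exact ⟨h, (key h).symm⟩
  · rintro ⟨h, rfl⟩
    exact ⟨h • QuotientGroup.mk b, ⟨h, rfl⟩, key h⟩

/-- The Hall–Janko group contains PSU(3, 3) with index 100 and acts on the 100 cosets with rank 3 and subdegrees 1, 36, 63. -/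
theorem result : ∃ H : Subgroup Cfsg.Spor.J2, H.index = 100 ∧ (∃ (F : Type) (_ : Field F) (_ : Fintype F), Fintype.card F = 9 ∧ Nonempty (↥H ≃* Cfsg.PSU 3 F 3)) ∧ ∃ c₁ c₂ : Cfsg.Spor.J2 ⧸ H, (MulAction.orbit ↥H c₁).ncard = 36 ∧ (MulAction.orbit ↥H c₂).ncard = 63 := by
  have : Fact (Nat.Prime 3) := ⟨by norm_num⟩
  have : Fintype (GaloisField 3 2) := Fintype.ofFinite _
  have hF : Fintype.card (GaloisField 3 2) = 9 := by
    rw [Fintype.card_eq_nat_card, GaloisField.card 3 2 (by norm_num)]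
    norm_num
  obtain ⟨D⟩ := CfsgLib.UThree.exists_nine hF
  obtain ⟨c1, h1⟩ := exists_coset 1
  obtain ⟨c2, h2⟩ := exists_coset 37
  refine ⟨H, index_H, ⟨GaloisField 3 2, inferInstance, inferInstance, hF, ?_⟩, c1, c2, ?_, ?_⟩
  · obtain ⟨e1⟩ := U33.nonempty_stab_equiv
    obtain ⟨e2⟩ := U33.nonempty_equiv_PSU D
    exact ⟨((H.equivMapOfInjective phi phi_injective).trans (MulEquiv.subgroupCongr map_H)).trans
      (e1.trans e2.symm)⟩
  · rw [h1]; exact orbit_one
  · rw [h2]; exact orbit_far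

end Cfsg.Agent.S1624
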