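import Cfsg.Statements.S1628
import Cfsg.Agent.Lib.RuLat.MinNorm

set_option autoImplicit false
open Cfsg

namespace Cfsg.Agent.S1628

/-- The Rudvalis lattice is even and has no vectors of norm two. -/
theorem result : (∀ x ∈ Cfsg.Spor.ruLattice, (8 : ℤ) ∣ Cfsg.Spor.ruNorm x) ∧ (∀ x ∈ Cfsg.Spor.ruLattice, Cfsg.Spor.ruNorm x ≠ 8) ∧ (∀ x ∈ Cfsg.Spor.ruLattice, x ≠ 0 → 16 ≤ Cfsg.Spor.ruNorm x) ∧ ∃ x ∈ Cfsg.Spor.ruLattice, Cfsg.Spor.ruNorm x = 16 := by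
  open CfsgLib.RuLat in
  refine ⟨fun x hx => ?_, fun x hx => ?_, fun x hx h0 => ?_, ⟨Cfsg.Spor.ruTable.getD 0 0, ?_, ?_⟩⟩
  · rw [CfsgLib.RuLat.ruNorm_eq_dot]
    exact Int.dvd_of_emod_eq_zero (CfsgLib.RuLat.dot_self_emod (CfsgLib.RuLat.ruLattice_le hx))
  · rw [CfsgLib.RuLat.ruNorm_eq_dot]
    exact CfsgLib.RuLat.dot_self_ne_eight (CfsgLib.RuLat.ruLattice_le hx)
  · rw [CfsgLib.RuLat.ruNorm_eq_dot]
    exact CfsgLib.RuLat.min_norm (CfsgLib.RuLat.ruLattice_le hx) h0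
  · refine AddSubgroup.mem_sInf.2 fun L hL => hL.1 _ ?_
    exact List.mem_cons_self ..
  · rw [CfsgLib.RuLat.ruNorm_eq_dot]
    decide +kernel

end Cfsg.Agent.S1628
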