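import Cfsg.Statements.S1629
import Cfsg.Agent.Lib.OrthTransv.Basic
import Cfsg.Agent.Lib.Classical.Quad.Std

set_option autoImplicit false
open scoped Matrix MatrixGroups
open Cfsg CfsgLib.Classical.Quad CfsgLib.OrthTransv

namespace Cfsg.Agent.S1629

/-- The orthogonal transvections of the plus-type orthogonal group in dimension 2m ≥ 6 over the field with two elements form a generating conjugacy class of 3-transpositions. -/
theorem result (m : ℕ) (hm : 3 ≤ m) : Cfsg.IsThreeTranspositionClass {g : ↥(Cfsg.isometryGroup (ZMod 2) (Cfsg.quadFormPlus m (ZMod 2))) | (((g : GL (Fin m ⊕ Fin m) (ZMod 2)) : Matrix (Fin m ⊕ Fin m) (Fin m ⊕ Fin m) (ZMod 2)) - 1).rank = 1} := by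
  set e : (Fin m ⊕ Fin m → ZMod 2) ≃ₗ[ZMod 2]
    ((Fin m → ZMod 2) × (Fin m → ZMod 2)) × (Fin 0 → ZMod 2) := plusEquiv m (ZMod 2) with he
  set Q : QuadraticForm (ZMod 2) (Fin m ⊕ Fin m → ZMod 2) :=
    (hypForm m (zeroKernel (ZMod 2))).comp e.toLinearMap with hQdef
  have hQ : ∀ v, Q v = Cfsg.quadFormPlus m (ZMod 2) v := fun v => by
    rw [hQdef, QuadraticMap.comp_apply, LinearEquiv.coe_toLinearMap, he, plusEquiv_spec]
  have hnd : NDPolar Q := ndPolar_comp (ndPolar_hypForm ndPolar_zeroKernel m) e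
  have hcard : Fintype.card (Fin m ⊕ Fin m) ≠ 4 := by simp; omega
  have hex : ∃ v, Q v = 1 := by
    refine ⟨Sum.elim (Pi.single ⟨0, by omega⟩ 1) (Pi.single ⟨0, by omega⟩ 1), ?_⟩
    rw [hQ]
    simp [Cfsg.quadFormPlus, Pi.single_apply]
  exact isThreeTranspositionClass_rank_one Q hQ hnd hcard hex

end Cfsg.Agent.S1629
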