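import Cfsg.Statements.S1630
import Cfsg.Agent.Lib.OrthTransv.Basic
import Cfsg.Agent.Lib.Classical.Quad.Std

set_option autoImplicit false
open scoped Matrix MatrixGroups
open Cfsg CfsgLib.Classical.Quad CfsgLib.OrthTransv

namespace Cfsg.Agent.S1630

/-- The orthogonal transvections of the minus-type orthogonal group in dimension ≥ 6 over the field with two elements form a generating conjugacy class of 3-transpositions. -/
theorem result (m : ℕ) (hm : 2 ≤ m) : Cfsg.IsThreeTranspositionClass {g : ↥(Cfsg.isometryGroup (ZMod 2) (Cfsg.quadFormMinus m (ZMod 2) 1 1)) | (((g : GL ((Fin m ⊕ Fin m) ⊕ Fin 2) (ZMod 2)) : Matrix ((Fin m ⊕ Fin m) ⊕ Fin 2) ((Fin m ⊕ Fin m) ⊕ Fin 2) (ZMod 2)) - 1).rank = 1} := by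
  have hab : IsAniso (1 : ZMod 2) 1 := by
    intro a b
    revert a b
    decide
  set e : ((Fin m ⊕ Fin m) ⊕ Fin 2 → ZMod 2) ≃ₗ[ZMod 2]
    ((Fin m → ZMod 2) × (Fin m → ZMod 2)) × (Fin 2 → ZMod 2) := minusEquiv m (ZMod 2) with he
  set Q : QuadraticForm (ZMod 2) ((Fin m ⊕ Fin m) ⊕ Fin 2 → ZMod 2) :=
    (hypForm m (binForm (1 : ZMod 2) 1)).comp e.toLinearMap with hQdef
  have hQ : ∀ v, Q v = Cfsg.quadFormMinus m (ZMod 2) 1 1 v := fun v => by
    rw [hQdef, QuadraticMap.comp_apply, LinearEquiv.coe_toLinearMap, he, minusEquiv_spec]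
  have hnd : NDPolar Q := ndPolar_comp (ndPolar_hypForm (ndPolar_binForm hab) m) e
  have hcard : Fintype.card ((Fin m ⊕ Fin m) ⊕ Fin 2) ≠ 4 := by simp; omega
  have hex : ∃ v, Q v = 1 := by
    refine ⟨Sum.elim 0 (Pi.single 0 1), ?_⟩
    rw [hQ]
    simp [Cfsg.quadFormMinus]
  exact isThreeTranspositionClass_rank_one Q hQ hnd hcard hex

end Cfsg.Agent.S1630
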