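import Cfsg.Statements.S1632
import Cfsg.Agent.Lib.Theta.Modular

set_option autoImplicit false
open CfsgLib.Theta Matrix

namespace Cfsg.Agent.S1632

theorem qform_cast (B : Matrix (Fin 24) (Fin 24) ℤ) (m : Fin 24 → ℤ) :
    iv m ⬝ᵥ (B.map (Int.cast : ℤ → ℝ) *ᵥ iv m) = ((m ⬝ᵥ (B *ᵥ m) : ℤ) : ℝ) := by
  simp [dotProduct, Matrix.mulVec, iv]

theorem real_posSemidef (B : Matrix (Fin 24) (Fin 24) ℤ) (hsymm : B.IsSymm)
    (hpos : ∀ x : Fin 24 → ℤ, x ≠ 0 → 0 < x ⬝ᵥ (B *ᵥ x)) :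
    (B.map (Int.cast : ℤ → ℝ)).PosSemidef := by
  refine Matrix.PosSemidef.of_dotProduct_mulVec_nonneg ?_ fun x => ?_
  · rw [Matrix.IsHermitian, Matrix.conjTranspose_eq_transpose_of_trivial]
    exact (hsymm.map _)
  · simp only [star_trivial]
    set f : (Fin 24 → ℝ) → ℝ := fun x => x ⬝ᵥ (B.map (Int.cast : ℤ → ℝ) *ᵥ x) with hf
    have hc : Continuous f := by
      simp only [hf, dotProduct, Matrix.mulVec]
      fun_prop
    have hd : DenseRange (fun q : Fin 24 → ℚ => fun i => (q i : ℝ)) :=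
      DenseRange.piMap fun _ => Rat.denseRange_cast
    refine hd.induction_on (p := fun x => 0 ≤ f x) x (isClosed_le continuous_const hc) fun q => ?_
    obtain ⟨N, hN, m, hm⟩ : ∃ N : ℕ, 0 < N ∧ ∃ m : Fin 24 → ℤ, ∀ i, (m i : ℝ) = N * (q i : ℝ) := by
      refine ⟨∏ i, (q i).den, Finset.prod_pos fun i _ => (q i).den_pos,
        fun i => (q i).num * ∏ j ∈ Finset.univ.erase i, ((q j).den : ℤ), fun i => ?_⟩
      rw [← Finset.mul_prod_erase Finset.univ (fun i => (q i).den) (Finset.mem_univ i)]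
      push_cast
      have hd0 : ((q i).den : ℝ) ≠ 0 := by exact_mod_cast (q i).den_ne_zero
      rw [Rat.cast_def (q i)]
      field_simp
    have hiv : iv m = (N : ℝ) • (fun i => (q i : ℝ)) := funext hm
    have h0 : (0 : ℝ) ≤ f (iv m) := by
      simp only [hf, qform_cast]
      rcases eq_or_ne m 0 with rfl | h
      · simp
      · exact_mod_cast (hpos m h).le
    rw [hiv] at h0
    simp only [hf, Matrix.mulVec_smul, dotProduct_smul, smul_dotProduct, smul_eq_mul] at h0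
    have hN' : (0 : ℝ) < (N : ℝ) := by exact_mod_cast hN
    exact nonneg_of_mul_nonneg_right (nonneg_of_mul_nonneg_right h0 hN') hN'

theorem exists_data (B : Matrix (Fin 24) (Fin 24) ℤ) (hsymm : B.IsSymm)
    (hpos : ∀ x : Fin 24 → ℤ, x ≠ 0 → 0 < x ⬝ᵥ (B *ᵥ x))
    (heven : ∀ x : Fin 24 → ℤ, (2 : ℤ) ∣ x ⬝ᵥ (B *ᵥ x)) (hdet : B.det = 1) :
    ∃ E : EvenUnimodular24, ∀ m, m ⬝ᵥ (B *ᵥ m) = 2 * (E.N m : ℤ) := by
  open scoped MatrixOrder in
  obtain ⟨A, hA⟩ := CStarAlgebra.nonneg_iff_eq_star_mul_self.mp (real_posSemidef B hsymm hpos).nonneg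
  rw [Matrix.star_eq_conjTranspose, Matrix.conjTranspose_eq_transpose_of_trivial] at hA
  have hq : ∀ u v : Fin 24 → ℝ, u ⬝ᵥ (B.map (Int.cast : ℤ → ℝ) *ᵥ v) = ∑ i, (A *ᵥ u) i * (A *ᵥ v) i := by
    intro u v
    rw [hA, ← Matrix.mulVec_mulVec, Matrix.dotProduct_mulVec, Matrix.vecMul_transpose]
    rfl
  have hdetA : |A.det| = 1 := by
    have h := congrArg Matrix.det hA
    rw [Matrix.det_mul, Matrix.det_transpose] at h
    have h2 : (B.map (Int.cast : ℤ → ℝ)).det = 1 := by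
      have := RingHom.map_det (Int.castRingHom ℝ) B
      rw [hdet, map_one] at this
      exact this.symm
    rw [h2] at h
    have : |A.det| * |A.det| = 1 := by rw [abs_mul_abs_self]; exact h.symm
    nlinarith [abs_nonneg A.det]
  have hu : IsUnit B.det := by simp [hdet]
  have hnn : ∀ m, 0 ≤ m ⬝ᵥ (B *ᵥ m) := by
    intro m
    rcases eq_or_ne m 0 with rfl | h
    · simp
    · exact (hpos m h).le
  have hN : ∀ m, m ⬝ᵥ (B *ᵥ m) = 2 * (((m ⬝ᵥ (B *ᵥ m)) / 2).toNat : ℤ) := by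
    intro m
    have := hnn m
    obtain ⟨k, hk⟩ := heven m
    rw [hk] at this ⊢
    omega
  refine ⟨⟨A, fun m => ((m ⬝ᵥ (B *ᵥ m)) / 2).toNat,
    { toFun := fun l => B *ᵥ l
      invFun := fun l => B⁻¹ *ᵥ l
      left_inv := fun l => by simp [Matrix.mulVec_mulVec, Matrix.nonsing_inv_mul B hu]
      right_inv := fun l => by simp [Matrix.mulVec_mulVec, Matrix.mul_nonsing_inv B hu] },
    hdetA, fun m => ?_, fun l x => ?_⟩, hN⟩
  · rw [sqA]
    have h := hq (iv m) (iv m)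
    rw [qform_cast, hN m] at h
    simp only [pow_two]
    push_cast at h
    exact h.symm
  · rw [← hq]
    have : iv (B *ᵥ l) = B.map (Int.cast : ℤ → ℝ) *ᵥ iv l := by
      funext i; simp [iv, Matrix.mulVec, dotProduct]
    show iv (B *ᵥ l) ⬝ᵥ x = _
    rw [this, Matrix.dotProduct_mulVec, ← Matrix.mulVec_transpose]
    congr 1
    rw [show (B.map (Int.cast : ℤ → ℝ))ᵀ = B.map (Int.cast : ℤ → ℝ) from (hsymm.map _)]

/-- An even unimodular lattice of rank 24 without roots has 196560, 16773120 and 398034000 vectors of norms 4, 6 and 8. -/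
theorem result (B : Matrix (Fin 24) (Fin 24) ℤ) (hsymm : B.IsSymm) (hpos : ∀ x : Fin 24 → ℤ, x ≠ 0 → 0 < x ⬝ᵥ (B *ᵥ x)) (heven : ∀ x : Fin 24 → ℤ, (2 : ℤ) ∣ x ⬝ᵥ (B *ᵥ x)) (hdet : B.det = 1) (h2 : ∀ x : Fin 24 → ℤ, x ⬝ᵥ (B *ᵥ x) ≠ 2) : {x : Fin 24 → ℤ | x ⬝ᵥ (B *ᵥ x) = 4}.ncard = 196560 ∧ {x : Fin 24 → ℤ | x ⬝ᵥ (B *ᵥ x) = 6}.ncard = 16773120 ∧ {x : Fin 24 → ℤ | x ⬝ᵥ (B *ᵥ x) = 8}.ncard = 398034000 := by
  obtain ⟨E, hE⟩ := exists_data B hsymm hpos heven hdet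
  obtain ⟨k2, k3, k4⟩ := ncard_fibres E
    (fun m hm => by
      by_contra h
      have := hpos m h
      rw [hE m, hm] at this
      simp at this)
    (fun m hm => h2 m (by rw [hE m, hm]; rfl))
  have hset : ∀ k : ℕ, {x : Fin 24 → ℤ | x ⬝ᵥ (B *ᵥ x) = 2 * (k : ℤ)} = {m | E.N m = k} := by
    intro k
    ext m
    simp [hE m]
  exact ⟨(hset 2).symm ▸ k2, (hset 3).symm ▸ k3, (hset 4).symm ▸ k4⟩

end Cfsg.Agent.S1632
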