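import Cfsg.Statements.S1636
import Cfsg.Agent.Lib.GolayCoset.Basic

set_option autoImplicit false
open Cfsg CfsgLib.Golay CfsgLib.GolayCoset

namespace Cfsg.Agent.S1636

theorem counts :
    countR (fun x => Nat.beq (pc 23 (comb x)) 7) 12 0 = 253 ∧
    countR (fun x => Nat.beq (pc 23 (comb x)) 8) 12 0 = 506 ∧
    countR (fun x => Nat.beq (pc 23 (comb x)) 11) 12 0 = 1288 ∧
    countR (fun x => Nat.beq (pc 23 (comb x)) 12) 12 0 = 1288 ∧
    countR (fun x => Nat.beq (pc 23 (comb x)) 15) 12 0 = 506 ∧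
    countR (fun x => Nat.beq (pc 23 (comb x)) 16) 12 0 = 253 := by
  decide +kernel

/-- The punctured length-23 code has weight distribution 0^1 7^253 8^506 11^1288 12^1288 15^506 16^253 23^1. -/
theorem result : {u : ZMod 23 → ZMod 2 | ∃ w ∈ Cfsg.golayCode, ∀ x : ZMod 23, u x = w (some x)}.ncard = 4096 ∧ {u : ZMod 23 → ZMod 2 | u ∈ {u : ZMod 23 → ZMod 2 | ∃ w ∈ Cfsg.golayCode, ∀ x : ZMod 23, u x = w (some x)} ∧ hammingNorm u = 7}.ncard = 253 ∧ {u : ZMod 23 → ZMod 2 | u ∈ {u : ZMod 23 → ZMod 2 | ∃ w ∈ Cfsg.golayCode, ∀ x : ZMod 23, u x = w (some x)} ∧ hammingNorm u = 8}.ncard = 506 ∧ {u : ZMod 23 → ZMod 2 | u ∈ {u : ZMod 23 → ZMod 2 | ∃ w ∈ Cfsg.golayCode, ∀ x : ZMod 23, u x = w (some x)} ∧ hammingNorm u = 11}.ncard = 1288 ∧ {u : ZMod 23 → ZMod 2 | u ∈ {u : ZMod 23 → ZMod 2 | ∃ w ∈ Cfsg.golayCode, ∀ x : ZMod 23, u x = w (some x)} ∧ hammingNorm u = 12}.ncard = 1288 ∧ {u : ZMod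 23 → ZMod 2 | u ∈ {u : ZMod 23 → ZMod 2 | ∃ w ∈ Cfsg.golayCode, ∀ x : ZMod 23, u x = w (some x)} ∧ hammingNorm u = 15}.ncard = 506 ∧ {u : ZMod 23 → ZMod 2 | u ∈ {u : ZMod 23 → ZMod 2 | ∃ w ∈ Cfsg.golayCode, ∀ x : ZMod 23, u x = w (some x)} ∧ hammingNorm u = 16}.ncard = 253 ∧ ∀ u ∈ {u : ZMod 23 → ZMod 2 | ∃ w ∈ Cfsg.golayCode, ∀ x : ZMod 23, u x = w (some x)}, u ≠ 0 → 7 ≤ hammingNorm u := by
  obtain ⟨c7, c8, c11, c12, c15, c16⟩ := counts
  refine ⟨?_, (ncard_punctured_weight 7).trans c7, (ncard_punctured_weight 8).trans c8,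
    (ncard_punctured_weight 11).trans c11, (ncard_punctured_weight 12).trans c12,
    (ncard_punctured_weight 15).trans c15, (ncard_punctured_weight 16).trans c16, ?_⟩
  · rw [punctured_eq, res_injOn.ncard_image]
    generalize hN : 2 ^ 12 = N
    rw [show {x : ℕ | x < N} = Set.Iio N from rfl, ← Finset.coe_Iio, Set.ncard_coe_finset, Nat.card_Iio]
    omega
  · rw [punctured_eq]
    rintro _ ⟨x, hx, rfl⟩ hne
    refine res_min hx ?_
    rintro rfl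
    apply hne
    funext i
    simp [comb_zero, res, toWord]

end Cfsg.Agent.S1636
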