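import Cfsg.Statements.S1637
import Cfsg.Agent.Lib.GolayCoset.Basic

set_option autoImplicit false
open Cfsg CfsgLib.Golay CfsgLib.GolayCoset

namespace Cfsg.Agent.S1637

/-- The punctured length-23 code is a perfect 3-error-correcting code: each word of length 23 is within distance 3 of exactly one codeword. -/
theorem result (u : ZMod 23 → ZMod 2) : ∃! c : ZMod 23 → ZMod 2, c ∈ {u : ZMod 23 → ZMod 2 | ∃ w ∈ Cfsg.golayCode, ∀ x : ZMod 23, u x = w (some x)} ∧ hammingDist u c ≤ 3 := by
  apply existsUnique_of_exists_of_unique
  · set w : GolayPt → ZMod 2 := fun p => p.elim 0 u with hw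
    have key : ∀ t : Finset GolayPt, Cong (support₂ w) t → (t.erase none).card ≤ 3 →
        ∃ c, c ∈ {u : ZMod 23 → ZMod 2 | ∃ w ∈ Cfsg.golayCode, ∀ x : ZMod 23, u x = w (some x)} ∧
          hammingDist u c ≤ 3 := by
      intro t ht h3
      set v : GolayPt → ZMod 2 := fun p => if p ∈ t then (1 : ZMod 2) else 0 with hv
      refine ⟨fun x => (w - v) (some x), ⟨w - v, ?_, fun x => rfl⟩, ?_⟩
      · rw [sub_mem_iff, hv, support₂_indicator]; exact ht
      · refine le_trans ?_ h3
        show (Finset.univ.filter fun x => u x ≠ (w - v) (some x)).card ≤ _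
        refine Finset.card_le_card_of_injOn some (fun x hx => ?_) (Option.some_injective _).injOn
        simp only [Finset.coe_filter, Finset.mem_univ, true_and, Set.mem_setOf_eq, hw, hv,
          Pi.sub_apply, Option.elim] at hx
        simp only [Finset.mem_coe, Finset.mem_erase, ne_eq, reduceCtorEq, not_false_eq_true, true_and]
        by_contra hn
        rw [if_neg hn, sub_zero] at hx
        exact hx rfl
    obtain ⟨t, ht, h4⟩ := exists_cong_card_le_four (support₂ w)
    rcases Nat.lt_or_ge t.card 4 with h | h
    · exact key t ht (le_trans (Finset.card_erase_le) (by omega))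
    · obtain ⟨t', ht', h4', hp⟩ := exists_tetrad_through (le_antisymm h4 h) none
      exact key t' (ht.trans ht') (by rw [Finset.card_erase_of_mem hp]; omega)
  · intro a b ha hb
    rw [punctured_eq] at ha hb
    obtain ⟨⟨x, hx, rfl⟩, hxd⟩ := ha
    obtain ⟨⟨y, hy, rfl⟩, hyd⟩ := hb
    by_contra hne
    have h7 := res_min (Nat.xor_lt_two_pow hx hy)
      (fun h0 => hne (congrArg (fun z => res (comb z)) (Nat.xor_eq_zero_iff.1 h0)))
    rw [res_comb_xor] at h7
    dsimp only at hxd hyd hne
    generalize res (comb x) = c at *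
    generalize res (comb y) = c' at *
    have hneg : -c = c := CharTwo.neg_eq c
    rw [← hneg, ← hammingDist_eq_hammingNorm] at h7
    have := hammingDist_triangle c u c'
    rw [hammingDist_comm c u] at this
    omega

end Cfsg.Agent.S1637
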