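import Cfsg.Statements.S1638
import Cfsg.Agent.Lib.M24Cert.Standard
import Cfsg.Agent.Lib.M24Cert.DataDuads

set_option autoImplicit false
open scoped Pointwise
open Cfsg CfsgLib.Golay CfsgLib.M24Cert

namespace Cfsg.Agent.S1638

/-- The five blocks through the four standard points. -/
def five : List ℕ := [12656663, 8536111, 11010247, 9471495, 8657159]

/-- Containment in one of the five blocks. -/
noncomputable def inFive (n : ℕ) : Bool := five.any fun o => Nat.beq (o &&& n) n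

theorem five_complete : allR (fun x => let c := comb x;
    !(Nat.beq (pc24 c) 8 && Nat.beq (c &&& 8388615) 8388615) || five.any (Nat.beq c)) 12 0 = true := by
  decide +kernel

theorem five_ok : ∀ o ∈ five,
    o < 2 ^ 24 ∧ memb o = true ∧ pc24 o = 8 ∧ o &&& 8388615 = 8388615 := by
  decide +kernel

theorem toSet_subset {m n : ℕ} (hn : n < 2 ^ 24) : toSet n ⊆ toSet m ↔ m &&& n = n := by
  rw [← Finset.inter_eq_right, ← toSet_and]
  exact ⟨fun h => toSet_inj (lt_of_le_of_lt Nat.and_le_right hn) hn h, fun h => by rw [h]⟩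

theorem mask_sets : toSet 8388615 = {none, some 0} ∪ toSet 6 := by decide +kernel

theorem inFive_iff {n : ℕ} (hn : n < 2 ^ 24) :
    inFive n = true ↔ ∃ o ∈ octads, (none : GolayPt) ∈ o ∧ (some 0 : GolayPt) ∈ o ∧
      toSet 6 ∪ toSet n ⊆ o := by
  constructor
  · intro h
    obtain ⟨o, ho, hon⟩ := List.any_eq_true.1 h
    obtain ⟨hlt, hm, hp, hmask⟩ := five_ok o ho
    have hsub := (toSet_subset (by norm_num)).2 hmask
    rw [mask_sets] at hsub
    refine ⟨toSet o, ⟨(toSet_mem_supports hlt).2 hm, by rw [card_toSet, ← pc24_eq, hp]⟩,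
      hsub (by simp), hsub (by simp), Finset.union_subset
        (Finset.union_subset_iff.1 hsub).2 ((toSet_subset hn).2 (Nat.eq_of_beq_eq_true hon))⟩
  · rintro ⟨o, ho, h1, h2, h3⟩
    obtain ⟨x, hx, hk, rfl⟩ := mem_wordsOfWeight_iff.1 ho
    have hmask : comb x &&& 8388615 = 8388615 := by
      rw [← toSet_subset (by norm_num), mask_sets]
      exact Finset.union_subset (Finset.insert_subset h1 (Finset.singleton_subset_iff.2 h2))
        (Finset.union_subset_iff.1 h3).1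
    have := allR_spec five_complete x (Nat.zero_le _) (by simpa using hx)
    simp only [pc24_eq, hk, hmask, beq_self_eq_true, Nat.beq_refl, Bool.and_self, Bool.not_true,
      Bool.false_or, List.any_eq_true, Nat.beq_eq] at this
    obtain ⟨c, hc, he⟩ := this
    exact List.any_eq_true.2 ⟨c, hc, Nat.beq_eq.mpr (he ▸ (toSet_subset hn).1
      (Finset.union_subset_iff.1 h3).2)⟩

/-- The class of an unordered pair, given as a mask. -/
noncomputable def classify (n : ℕ) : Bool :=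
  Nat.beq n 6 || ((targets duadOneRoot duadOneForest).any (Nat.beq n) ||
    ((targets duadInRoot duadInForest).any (Nat.beq n) ||
      (targets duadOutRoot duadOutForest).any (Nat.beq n)))

theorem pairs_covered : allLt 24 (fun i => allLt i fun j =>
    Nat.beq i 23 || (Nat.beq j 0 || classify (Nat.lor (Nat.pow 2 i) (Nat.pow 2 j)))) = true := by
  decide +kernel

theorem targets_ok :
    (∀ n ∈ targets duadOneRoot duadOneForest,
      n < 2 ^ 24 ∧ pc24 n = 2 ∧ n &&& 8388609 = 0 ∧ pc24 (n &&& 6) = 1) ∧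
    (∀ n ∈ targets duadInRoot duadInForest,
      n < 2 ^ 24 ∧ pc24 n = 2 ∧ n &&& 8388609 = 0 ∧ pc24 (n &&& 6) = 0 ∧ inFive n = true) ∧
    ∀ n ∈ targets duadOutRoot duadOutForest,
      n < 2 ^ 24 ∧ pc24 n = 2 ∧ n &&& 8388609 = 0 ∧ pc24 (n &&& 6) = 0 ∧ inFive n = false := by
  decide +kernel

theorem targets_count :
    ((targets duadInRoot duadInForest).Nodup ∧ (targets duadInRoot duadInForest).length = 30) ∧
    ((targets duadOutRoot duadOutForest).Nodup ∧ (targets duadOutRoot duadOutForest).length = 160) := by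
  decide +kernel

/-- The standard pairs. -/
def StdPair (t : Finset GolayPt) : Prop :=
  t.card = 2 ∧ (none : GolayPt) ∉ t ∧ (some 0 : GolayPt) ∉ t

/-- The block property at the standard configuration. -/
def InBlock (t : Finset GolayPt) : Prop :=
  ∃ o ∈ octads, (none : GolayPt) ∈ o ∧ (some 0 : GolayPt) ∈ o ∧ toSet 6 ∪ t ⊆ o

theorem avoid_iff (n : ℕ) :
    n &&& 8388609 = 0 → (none : GolayPt) ∉ toSet n ∧ (some 0 : GolayPt) ∉ toSet n := by
  intro h
  have : toSet n ∩ toSet 8388609 = ∅ := by rw [← toSet_and, h]; simp [toSet]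
  have hm : toSet 8388609 = {none, some 0} := by decide +kernel
  constructor <;> intro hmem
  · have := this ▸ Finset.mem_inter.2 ⟨hmem, hm ▸ (by simp : none ∈ ({none, some 0} : Finset GolayPt))⟩
    simp at this
  · have := this ▸ Finset.mem_inter.2 ⟨hmem, hm ▸ (by simp : (some 0 : GolayPt) ∈ ({none, some 0} : Finset GolayPt))⟩
    simp at this

theorem inter_six (n : ℕ) : (toSet 6 ∩ toSet n).card = pc24 (n &&& 6) := by
  rw [← toSet_and, card_toSet, pc24_eq, Nat.and_comm]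

theorem pair_cases {t : Finset GolayPt} (h : StdPair t) :
    ∃ n < 2 ^ 24, toSet n = t ∧ (n = 6 ∨
      (n ∈ targets duadOneRoot duadOneForest ∧ (toSet 6 ∩ t).card = 1) ∨
      (n ∈ targets duadInRoot duadInForest ∧ (toSet 6 ∩ t).card = 0 ∧ InBlock t) ∨
      (n ∈ targets duadOutRoot duadOutForest ∧ (toSet 6 ∩ t).card = 0 ∧ ¬ InBlock t)) := by
  obtain ⟨hc, hn, h0⟩ := h
  obtain ⟨a, b, hab, rfl⟩ := Finset.card_eq_two.1 hc
  wlog hlt : bit b < bit a generalizing a b
  · rw [Finset.pair_comm] at hn h0 hc ⊢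
    exact this b a hab.symm hc hn h0 (lt_of_le_of_ne (not_lt.1 hlt) fun e => hab (bit_injective e))
  have hn' : bit a ≠ 23 := fun e => hn (by simp [bit_injective (e.trans bit_none.symm)])
  have h0' : bit b ≠ 0 := fun e => h0 (by simp [bit_injective (e.trans bit_some_zero.symm)])
  have hset : toSet (2 ^ bit a ||| 2 ^ bit b) = {a, b} := by
    rw [toSet_or, toSet_two_pow_bit, toSet_two_pow_bit]; rfl
  have hp := allLt_spec (allLt_spec pairs_covered _ (bit_lt a)) _ hlt
  simp only [Bool.or_eq_true, Nat.beq_eq, hn', h0', false_or] at hp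
  obtain ⟨n, hset, hcl⟩ : ∃ n, toSet n = {a, b} ∧ classify n = true :=
    ⟨Nat.lor (Nat.pow 2 (bit a)) (Nat.pow 2 (bit b)), hset, hp⟩
  simp only [classify, Bool.or_eq_true, Nat.beq_eq, List.any_eq_true] at hcl
  obtain ⟨t1, t2, t3⟩ := targets_ok
  rcases hcl with h | ⟨u, hu, rfl⟩ | ⟨u, hu, rfl⟩ | ⟨u, hu, rfl⟩
  · exact ⟨n, by omega, hset, .inl h⟩
  · exact ⟨n, (t1 n hu).1, hset, .inr (.inl ⟨hu, by rw [← hset, inter_six, (t1 n hu).2.2.2]⟩)⟩
  · refine ⟨n, (t2 n hu).1, hset, .inr (.inr (.inl ⟨hu, by rw [← hset, inter_six, (t2 n hu).2.2.2.1],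
      ?_⟩))⟩
    rw [← hset]; exact (inFive_iff (t2 n hu).1).1 (t2 n hu).2.2.2.2
  · refine ⟨n, (t3 n hu).1, hset, .inr (.inr (.inr ⟨hu, by rw [← hset, inter_six, (t3 n hu).2.2.2.1],
      ?_⟩))⟩
    rw [← hset]
    exact fun hb => Bool.false_ne_true ((t3 n hu).2.2.2.2.symm.trans ((inFive_iff (t3 n hu).1).2 hb))

theorem six_card : (toSet 6 ∩ toSet 6).card = 2 := by decide +kernel

theorem count_class {l : List ℕ} (hl : l.Nodup) (hlt : ∀ n ∈ l, n < 2 ^ 24)
    {P : Finset GolayPt → Prop} (h1 : ∀ n ∈ l, P (toSet n)) (h2 : ∀ t, P t → ∃ n ∈ l, toSet n = t) :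
    {t | P t}.ncard = l.length := by
  have : {t | P t} = ↑(l.toFinset.image toSet) := by
    ext t
    simp only [Finset.coe_image, List.coe_toFinset, Set.mem_image, Set.mem_setOf_eq]
    exact ⟨fun h => h2 t h, by rintro ⟨n, hn, rfl⟩; exact h1 n hn⟩
  rw [this, Set.ncard_coe_finset, Finset.card_image_of_injOn, List.toFinset_card_of_nodup hl]
  intro a ha b hb hab
  rw [List.coe_toFinset] at ha hb
  exact toSet_inj (hlt a ha) (hlt b hb) hab

theorem std_counts :
    {t | StdPair t ∧ Disjoint (toSet 6) t ∧ InBlock t}.ncard = 30 ∧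
    {t | StdPair t ∧ Disjoint (toSet 6) t ∧ ¬ InBlock t}.ncard = 160 := by
  obtain ⟨-, t2, t3⟩ := targets_ok
  obtain ⟨⟨nI, lI⟩, nO, lO⟩ := targets_count
  refine ⟨(count_class nI (fun n hn => (t2 n hn).1) (fun n hn => ?_) fun t ht => ?_).trans lI,
    (count_class nO (fun n hn => (t3 n hn).1) (fun n hn => ?_) fun t ht => ?_).trans lO⟩
  · obtain ⟨hlt, hp, ha, h6, hf⟩ := t2 n hn
    exact ⟨⟨by rw [card_toSet, ← pc24_eq, hp], avoid_iff n ha⟩,
      Finset.disjoint_iff_inter_eq_empty.2 (Finset.card_eq_zero.1 (by rw [inter_six, h6])),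
      (inFive_iff hlt).1 hf⟩
  · obtain ⟨n, -, rfl, h | h | h | h⟩ := pair_cases ht.1
    · exact absurd (Finset.card_eq_zero.2 (Finset.disjoint_iff_inter_eq_empty.1 ht.2.1))
        (by rw [h, six_card]; norm_num)
    · exact absurd (Finset.card_eq_zero.2 (Finset.disjoint_iff_inter_eq_empty.1 ht.2.1))
        (by rw [h.2]; norm_num)
    · exact ⟨n, h.1, rfl⟩
    · exact absurd ht.2.2 h.2.2
  · obtain ⟨hlt, hp, ha, h6, hf⟩ := t3 n hn
    exact ⟨⟨by rw [card_toSet, ← pc24_eq, hp], avoid_iff n ha⟩,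
      Finset.disjoint_iff_inter_eq_empty.2 (Finset.card_eq_zero.1 (by rw [inter_six, h6])),
      fun hb => Bool.false_ne_true (hf.symm.trans ((inFive_iff hlt).2 hb))⟩
  · obtain ⟨n, -, rfl, h | h | h | h⟩ := pair_cases ht.1
    · exact absurd (Finset.card_eq_zero.2 (Finset.disjoint_iff_inter_eq_empty.1 ht.2.1))
        (by rw [h, six_card]; norm_num)
    · exact absurd (Finset.card_eq_zero.2 (Finset.disjoint_iff_inter_eq_empty.1 ht.2.1))
        (by rw [h.2]; norm_num)
    · exact absurd h.2.2 ht.2.2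
    · exact ⟨n, h.1, rfl⟩

/-- Fix two points p ≠ q and a pair s of two further points. Among the pairs avoiding p, q and disjoint from s, exactly 30 lie in an octad together with p, q and s and exactly 160 do not; and any two pairs other than s that meet s in equally many points and agree on that octad property are carried to one another by an element of the group of the length-24 code fixing p, q and s. -/
theorem result (p q : Cfsg.GolayPt) (hpq : p ≠ q) (s : Finset Cfsg.GolayPt) (hs : (s.card = 2 ∧ p ∉ s ∧ q ∉ s)) : {t : Finset Cfsg.GolayPt | (t.card = 2 ∧ p ∉ t ∧ q ∉ t) ∧ Disjoint s t ∧ (∃ o ∈ Cfsg.octads, p ∈ o ∧ q ∈ o ∧ s ∪ t ⊆ o)}.ncard = 30 ∧ {t : Finset Cfsg.GolayPt | (t.card = 2 ∧ p ∉ t ∧ q ∉ t) ∧ Disjoint s t ∧ ¬ (∃ o ∈ Cfsg.octads, p ∈ o ∧ q ∈ o ∧ s ∪ t ⊆ o)}.ncard = 160 ∧ ∀ t t' : Finset Cfsg.GolayPt, (t.card = 2 ∧ p ∉ t ∧ q ∉ t) → (t'.card = 2 ∧ p ∉ t' ∧ q ∉ t') → t ≠ s → t' ≠ s → (s ∩ t).card = (s ∩ t').card → ((∃ o ∈ Cfsg.octads,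 p ∈ o ∧ q ∈ o ∧ s ∪ t ⊆ o) ↔ (∃ o ∈ Cfsg.octads, p ∈ o ∧ q ∈ o ∧ s ∪ t' ⊆ o)) → ∃ g : Equiv.Perm Cfsg.GolayPt, g ∈ Cfsg.M24 ∧ g p = p ∧ g q = q ∧ g • s = s ∧ g • t = t' := by
  obtain ⟨a, b, hab, rfl⟩ := Finset.card_eq_two.1 hs.1
  obtain ⟨hs2, hps, hqs⟩ := hs
  simp only [Finset.mem_insert, Finset.mem_singleton, not_or] at hps hqs
  obtain ⟨g, hg, hgm⟩ := exists_map_M24 (xs := [none, some 0, some 1, some 2]) (ys := [p, q, a, b])
    (by decide) (by simp [hpq, hps, hqs, hab]) rfl (by simp)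
  simp at hgm
  obtain ⟨hgp, hgq, hga, hgb⟩ := hgm
  have hgs : g • toSet 6 = {a, b} := by
    rw [show toSet 6 = {some 1, some 2} by decide +kernel, Finset.smul_finset_insert,
      Finset.smul_finset_singleton, Equiv.Perm.smul_def, Equiv.Perm.smul_def, hga, hgb]
  have hP : ∀ t, ((g • t).card = 2 ∧ p ∉ g • t ∧ q ∉ g • t) ↔ StdPair t := fun t => by
    rw [StdPair, Finset.card_smul_finset, ← hgp, ← hgq, apply_mem_smul, apply_mem_smul]
  have hB : ∀ t, (∃ o ∈ octads, p ∈ o ∧ q ∈ o ∧ {a, b} ∪ g • t ⊆ o) ↔ InBlock t := by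
    intro t
    constructor
    · rintro ⟨o, ho, h1, h2, h3⟩
      refine ⟨g⁻¹ • o, (M24_smul_mem_octads (inv_mem hg)).2 ho, (inv_apply_mem hgp).2 h1,
        (inv_apply_mem hgq).2 h2, ?_⟩
      rw [← Finset.smul_finset_subset_smul_finset_iff (a := g), Finset.smul_finset_union, hgs,
        smul_inv_smul]
      exact h3
    · rintro ⟨o, ho, h1, h2, h3⟩
      refine ⟨g • o, (M24_smul_mem_octads hg).2 ho, hgp ▸ apply_mem_smul.2 h1,
        hgq ▸ apply_mem_smul.2 h2, ?_⟩
      rw [← hgs, ← Finset.smul_finset_union, Finset.smul_finset_subset_smul_finset_iff]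
      exact h3
  have hD : ∀ t, Disjoint {a, b} (g • t) ↔ Disjoint (toSet 6) t := fun t => by
    rw [Finset.disjoint_iff_inter_eq_empty, Finset.disjoint_iff_inter_eq_empty, ← hgs,
      ← Finset.smul_finset_inter, Finset.smul_finset_eq_empty]
  have htrans : ∀ {P Q : Finset GolayPt → Prop}, (∀ t, P (g • t) ↔ Q t) →
      {t | P t}.ncard = {t | Q t}.ncard := fun {P Q} h => by
    rw [← Set.ncard_image_of_injective {t | Q t} (MulAction.injective g)]
    congr 1
    ext t
    exact ⟨fun ht => ⟨g⁻¹ • t, (h _).1 (by rw [smul_inv_smul]; exact ht), smul_inv_smul g t⟩,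
      by rintro ⟨u, hu, rfl⟩; exact (h u).2 hu⟩
  refine ⟨(htrans fun t => ?_).trans std_counts.1, (htrans fun t => ?_).trans std_counts.2,
    fun t t' ht ht' hts hts' he hiff => ?_⟩
  · exact and_congr (hP t) (and_congr (hD t) (hB t))
  · exact and_congr (hP t) (and_congr (hD t) (not_congr (hB t)))
  obtain ⟨u, rfl⟩ : ∃ u, g • u = t := ⟨g⁻¹ • t, smul_inv_smul _ _⟩
  obtain ⟨u', rfl⟩ : ∃ u, g • u = t' := ⟨g⁻¹ • t', smul_inv_smul _ _⟩
  rw [hP] at ht ht'
  rw [hB, hB] at hiff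
  rw [← hgs, card_smul_inter, card_smul_inter] at he
  have key : ∀ {gens : List (ℕ × ℕ)} {root : ℕ} {forest : List (ℕ × ℕ × ℕ)} {n n' : ℕ},
      orbitCheck [8388608, 1, 6] gens root forest = true → toSet n = u → toSet n' = u' →
      n ∈ targets root forest → n' ∈ targets root forest →
      ∃ c : Equiv.Perm GolayPt, c ∈ M24 ∧ c p = p ∧ c q = q ∧ c • ({a, b} : Finset GolayPt) = {a, b} ∧
        c • g • u = g • u' := by
    intro gens root forest n n' hc e e' hn hn'
    obtain ⟨h, hh, hhn⟩ := exists_map_of_orbitCheck hc hn hn'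
    refine ⟨g * h * g⁻¹, mul_mem (mul_mem hg hh.1) (inv_mem hg),
      conj_apply hgp (apply_eq_of_fix hh (by rw [bit_none]; simp)),
      conj_apply hgq (apply_eq_of_fix hh (by rw [bit_some_zero]; simp)), ?_, ?_⟩
    · rw [← hgs, mul_smul, mul_smul, inv_smul_smul, hh.2 6 (by simp)]
    · rw [mul_smul, mul_smul, inv_smul_smul, ← e, hhn, e']
  have hne : ∀ {n : ℕ} {v : Finset GolayPt}, toSet n = v → g • v ≠ {a, b} → n ≠ 6 :=
    fun e hv h6 => hv (by rw [← e, h6, hgs])
  obtain ⟨n, -, e, h | h | h | h⟩ := pair_cases ht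
  · exact absurd h (hne e hts)
  all_goals obtain ⟨n', -, e', h' | h' | h' | h'⟩ := pair_cases ht'
  · exact absurd h' (hne e' hts')
  · exact key duadOne_orbit e e' h.1 h'.1
  · omega
  · omega
  · exact absurd h' (hne e' hts')
  · omega
  · exact key duadIn_orbit e e' h.1 h'.1
  · exact absurd (hiff.1 h.2.2) h'.2.2
  · exact absurd h' (hne e' hts')
  · omega
  · exact absurd (hiff.2 h'.2.2) h.2.2
  · exact key duadOut_orbit e e' h.1 h'.1

end Cfsg.Agent.S1638
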