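import Cfsg.Statements.S1639
import Cfsg.Agent.Lib.M24Cert.Standard
import Cfsg.Agent.Lib.M24Cert.DataDodecad
import Cfsg.Agent.Lib.M24Cert.DataPoints

set_option autoImplicit false
open scoped Pointwise
open Cfsg CfsgLib.Golay CfsgLib.M24Cert

namespace Cfsg.Agent.S1639

theorem q_iff {k : ℕ} (n : ℕ) :
    qDod k n = true ↔ (none : GolayPt) ∈ toSet n ∧ (dodecad0 ∩ toSet n).card = k := by
  rw [qDod, Bool.and_eq_true, Nat.beq_eq, pc24_eq, mem_toSet_none, dodecad0, ← toSet_and,
    card_toSet, Nat.and_comm]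

theorem counts :
    countR (fun x => let c := comb x; Nat.beq (pc24 c) 12 && qDod 4 c) 12 0 = 165 ∧
    countR (fun x => let c := comb x; Nat.beq (pc24 c) 12 && qDod 8 c) 12 0 = 330 ∧
    countR (fun x => let c := comb x; Nat.beq (pc24 c) 12 && qDod 6 c) 12 0 = 792 := by
  decide +kernel

theorem dod0In_cover :
    pointCover (fun j => (10260655 : ℕ).testBit j) (targets dod0InRoot dod0InForest) = true := by
  decide +kernel

theorem none_mem : (10260655 : ℕ).testBit (bit (none : GolayPt)) = true := by decide +kernel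

theorem meets : allR (fun x => let c := comb x; !(Nat.beq (pc24 c) 12 && c.testBit 23) ||
    (Nat.beq c 10260655 || (qDod 4 c || (qDod 6 c || qDod 8 c)))) 12 0 = true := by
  decide +kernel

theorem cases_of {s : Finset GolayPt} (hs : s ∈ dodecads) (hn : none ∈ s) :
    s = dodecad0 ∨ (dodecad0 ∩ s).card = 4 ∨ (dodecad0 ∩ s).card = 6 ∨
      (dodecad0 ∩ s).card = 8 := by
  obtain ⟨x, hx, hk, rfl⟩ := mem_wordsOfWeight_iff.1 hs
  have h := allR_spec meets x (Nat.zero_le _) (by simpa using hx)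
  simp only [Bool.or_eq_true, Bool.not_eq_true', Bool.and_eq_false_iff, Nat.beq_eq, pc24_eq,
    q_iff] at h
  rw [mem_toSet_none] at hn
  rcases h with (h | h) | h | h | h | h
  · simp [hk] at h
  · rw [hn] at h; simp at h
  · exact .inl (by rw [dodecad0, h])
  · exact .inr (.inl h.2)
  · exact .inr (.inr (.inl h.2))
  · exact .inr (.inr (.inr h.2))

/-- The point stabiliser acts on the 1288 dodecads through the point with rank 4 and subdegrees 1, 165, 330, 792, distinguished by intersection 4, 8, 6 with the fixed dodecad. -/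
theorem result (x : Cfsg.GolayPt) (d : Finset Cfsg.GolayPt) (hd : d ∈ Cfsg.dodecads) (hx : x ∈ d) : {d' : Finset Cfsg.GolayPt | d' ∈ Cfsg.dodecads ∧ x ∈ d' ∧ (d ∩ d').card = 4}.ncard = 165 ∧ {d' : Finset Cfsg.GolayPt | d' ∈ Cfsg.dodecads ∧ x ∈ d' ∧ (d ∩ d').card = 8}.ncard = 330 ∧ {d' : Finset Cfsg.GolayPt | d' ∈ Cfsg.dodecads ∧ x ∈ d' ∧ (d ∩ d').card = 6}.ncard = 792 ∧ ∀ d' d'' : Finset Cfsg.GolayPt, d' ∈ Cfsg.dodecads → d'' ∈ Cfsg.dodecads → x ∈ d' → x ∈ d'' → (d ∩ d').card = (d ∩ d'').card → ∃ g : Equiv.Perm Cfsg.GolayPt, g ∈ Cfsg.M24 ∧ g x = x ∧ g • d = d ∧ g • d' = d'' := by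
  obtain ⟨g, hg, hgd, hgx⟩ : ∃ g ∈ M24, g • dodecad0 = d ∧ g none = x := by
    obtain ⟨g, hg, hgd⟩ := exists_smul_dodecad0 hd
    have hx' : g⁻¹ x ∈ dodecad0 := by
      rw [← hgd, ← Finset.inv_smul_mem_iff] at hx
      exact hx
    rw [dodecad0, mem_toSet] at hx'
    obtain ⟨h, hh, hhx⟩ := exists_map_point dod0In_orbit dod0In_cover none_mem hx'
    refine ⟨g * h, mul_mem hg hh.1, ?_, ?_⟩
    · rw [mul_smul, show h • dodecad0 = dodecad0 from hh.2 _ (by simp), hgd]
    · rw [Equiv.Perm.mul_apply, hhx]; simp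
  have hcount : ∀ k, {d' : Finset GolayPt | d' ∈ dodecads ∧ x ∈ d' ∧ (d ∩ d').card = k}.ncard =
      countR (fun i => let c := comb i; Nat.beq (pc24 c) 12 && qDod k c) 12 0 := by
    intro k
    refine (ncard_transport hg (P' := fun s => (none : GolayPt) ∈ s ∧ (dodecad0 ∩ s).card = k)
      fun s => ?_).trans (ncard_filter_weight 12 (qDod k) _ fun n _ => q_iff n)
    rw [← hgx, apply_mem_smul, ← hgd, card_smul_inter]
  have pull : ∀ s : Finset GolayPt, (dodecad0 ∩ g⁻¹ • s).card = (d ∩ s).card := fun s => by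
    rw [← card_smul_inter g, hgd, smul_inv_smul]
  refine ⟨(hcount 4).trans counts.1, (hcount 8).trans counts.2.1, (hcount 6).trans counts.2.2,
    fun d' d'' hd' hd'' hx' hx'' he => ?_⟩
  have key : ∀ {k K : ℕ} {gens : List (ℕ × ℕ)} {root : ℕ} {forest : List (ℕ × ℕ × ℕ)},
      orbitCheck [10260655, 8388608] gens root forest = true →
      coverCheck (fun n => Nat.beq (pc24 n) 12 && qDod k n) (targets root forest) K = true →
      (d ∩ d').card = k → ∃ h : Equiv.Perm GolayPt, h ∈ M24 ∧ h x = x ∧ h • d = d ∧ h • d' = d'' := by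
    intro k K gens root forest hc hcov hk
    obtain ⟨h, hh, h1, h2, hfix⟩ := orbit_conj hc hcov
      (P := fun s => (none : GolayPt) ∈ s ∧ (dodecad0 ∩ s).card = k) (fun n _ => (q_iff n).2)
      hg (m := 10260655) (by simp) hgd hd' hd''
      ⟨(inv_apply_mem hgx).2 hx', (pull _).trans hk⟩
      ⟨(inv_apply_mem hgx).2 hx'', (pull _).trans (he ▸ hk)⟩
    exact ⟨h, hh, hgx ▸ hfix _ (by rw [bit_none]; simp), h1, h2⟩
  rcases cases_of ((smul_mem_wordsOfWeight (inv_mem hg)).2 hd') ((inv_apply_mem hgx).2 hx')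
    with h | h | h | h
  · rw [inv_smul_eq_iff, hgd] at h
    subst h
    refine ⟨1, one_mem _, rfl, one_smul _ _, ?_⟩
    rw [one_smul]
    rw [Finset.inter_self] at he
    exact Finset.eq_of_subset_of_card_le (Finset.inter_eq_left.1
      (Finset.eq_of_subset_of_card_le Finset.inter_subset_left he.le)) (by rw [hd.2, hd''.2])
  · exact key m23dod4_orbit m23dod4_cover ((pull _).symm.trans h)
  · exact key m23dod6_orbit m23dod6_cover ((pull _).symm.trans h)
  · exact key m23dod8_orbit m23dod8_cover ((pull _).symm.trans h)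

end Cfsg.Agent.S1639
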