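import Cfsg.Statements.S1643
import Cfsg.Agent.Lib.M24Cert.PSLTwentyThree

set_option autoImplicit false
open scoped Pointwise
open Cfsg CfsgLib.Golay CfsgLib.M24Cert

namespace Cfsg.Agent.S1643

/-- PSL(2, 23) = ⟨t ↦ t+1, t ↦ u t (u square), t ↦ −1/t⟩ is maximal of order 6072 in the group of the length-24 code, and its point stabiliser 23:11 (order 253) is maximal in the Mathieu group of degree 23. -/
theorem result : (Subgroup.closure ({Equiv.optionCongr (Equiv.addRight (1 : ZMod 23)), Cfsg.projInv} ∪ {g : Equiv.Perm Cfsg.GolayPt | ∃ u : (ZMod 23)ˣ, IsSquare u ∧ g = Equiv.optionCongr (Units.mulLeft u)}) ≤ Cfsg.M24 ∧ Nat.card ↥(Subgroup.closure ({Equiv.optionCongr (Equiv.addRight (1 : ZMod 23)), Cfsg.projInv} ∪ {g : Equiv.Perm Cfsg.GolayPt | ∃ u : (ZMod 23)ˣ, IsSquare u ∧ g = Equiv.optionCongr (Units.mulLeft u)})) = 6072 ∧ IsCoatom ((Subgroup.closure ({Equiv.optionCongr (Equiv.addRight (1 : ZMod 23)), Cfsg.projInv} ∪ {g : Equiv.Perm Cfsg.GolayPt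 | ∃ u : (ZMod 23)ˣ, IsSquare u ∧ g = Equiv.optionCongr (Units.mulLeft u)})).subgroupOf Cfsg.M24)) ∧ (Subgroup.closure ({Equiv.optionCongr (Equiv.addRight (1 : ZMod 23))} ∪ {g : Equiv.Perm Cfsg.GolayPt | ∃ u : (ZMod 23)ˣ, IsSquare u ∧ g = Equiv.optionCongr (Units.mulLeft u)}) ≤ Cfsg.M24 ⊓ MulAction.stabilizer (Equiv.Perm Cfsg.GolayPt) (none : Cfsg.GolayPt) ∧ Nat.card ↥(Subgroup.closure ({Equiv.optionCongr (Equiv.addRight (1 : ZMod 23))} ∪ {g : Equiv.Perm Cfsg.GolayPt | ∃ u : (ZMod 23)ˣ, IsSquare u ∧ g = Equiv.optionCongr (Units.mulLeft u)})) = 253 ∧ IsCoatom (((Subgroup.closure ({Equiv.optionCongr (Equiv.addRight (1 : ZMod 23))} ∪ {g : Equiv.Perm Cfsg.GolayPt | ∃ u : (ZMod 23)ˣ, IsSquare u ∧ g = Equiv.optionCongr (Units.mulLeft u)})).subgroupOf Cfsg.M24).subgroupOf (MulAction.stabilizer Cfsg.M24 (none : Cfsg.GolayPt)))) := by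
  refine ⟨⟨pslSub_le, card_pslSub, ?_⟩, ?_, aff_eq_norm23.2, ?_⟩
  · refine isCoatom_comap (φ := M24.subtype) (F := pslSub) M24.subtype_injective
      (by rw [Subgroup.range_subtype]; exact pslSub_le) (fun e => ?_) fun K h1 h2 => ?_
    · have h := congrArg (fun H : Subgroup (Equiv.Perm GolayPt) => Nat.card H) e
      simp only [Subgroup.range_subtype] at h
      exact absurd ((card_pslSub.symm.trans h).trans card_M24) (by norm_num)
    · rw [Subgroup.range_subtype] at h2 ⊢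
      exact eq_or_eq_M24 h1 h2
  · exact fun g hg => ⟨(aff_le_G23 hg).1, (aff_le_G23 hg).2 none (by simp)⟩
  · have hr : (M24.subtype.comp (MulAction.stabilizer M24 (none : GolayPt)).subtype).range = G23 := by
      ext g
      constructor
      · rintro ⟨⟨⟨x, hx⟩, hxs⟩, rfl⟩
        exact ⟨hx, fun p hp => by rw [List.mem_singleton] at hp; subst hp; exact hxs⟩
      · rintro ⟨hg, hfix⟩
        exact ⟨⟨⟨g, hg⟩, hfix none (by simp)⟩, rfl⟩
    refine isCoatom_comap (φ := M24.subtype.comp (MulAction.stabilizer M24 (none : GolayPt)).subtype) (F := affSub)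
      (M24.subtype_injective.comp (Subgroup.subtype_injective _))
      (by rw [hr]; exact aff_le_G23) (fun e => ?_) fun K h1 h2 => ?_
    · have h := congrArg (fun H : Subgroup (Equiv.Perm GolayPt) => Nat.card H) e
      simp only [hr] at h
      exact absurd ((aff_eq_norm23.2.symm.trans h).trans card_fix1) (by norm_num)
    · rw [hr] at h2 ⊢
      exact eq_or_eq_G23 h1 h2

end Cfsg.Agent.S1643
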