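import Cfsg.Statements.S1679
import Cfsg.Agent.Lib.Sporadic.SuzG2

set_option autoImplicit false
open Cfsg

namespace Cfsg.Agent.S1679

open CfsgLib.CosetEnum

theorem sub_eq : (Subgroup.closure ({Cfsg.Spor.Suz.a, Cfsg.Spor.Suz.b, Cfsg.Spor.Suz.c, Cfsg.Spor.Suz.d, Cfsg.Spor.Suz.e, Cfsg.Spor.Suz.f} :
      Set (FreeGroup Cfsg.Spor.Suz.Gen))).map
      (PresentedGroup.mk (Cfsg.Spor.coxRelators Cfsg.Spor.Suz.edges ∪ {r | r ∈ Cfsg.Spor.Suz.extra})) = Suz.H := by
  rw [MonoidHom.map_closure, Suz.H, WordSub]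
  congr 1
  ext z
  simp only [Set.mem_ofPred_eq, Suz.subWords, List.mem_cons, List.not_mem_nil, or_false, Set.mem_image,
    Set.mem_insert_iff, Set.mem_singleton_iff, exists_eq_or_imp, exists_eq_left, List.map_cons, List.map_nil,
    List.prod_cons, List.prod_nil, mul_one]
  simp only [Suz.g, gen, Suz.gF, eq_comm]

/-- In the presented sporadic Suzuki group (generators a, …, g), the subgroup generated by the images of a, …, f is isomorphic to the adjoint Chevalley group of type G₂ over a field with four elements. -/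
theorem result : ∃ (K : Type) (_ : Field K) (_ : Fintype K), Fintype.card K = 4 ∧ Nonempty ((((Subgroup.closure ({Cfsg.Spor.Suz.a, Cfsg.Spor.Suz.b, Cfsg.Spor.Suz.c, Cfsg.Spor.Suz.d, Cfsg.Spor.Suz.e, Cfsg.Spor.Suz.f} : Set (FreeGroup Cfsg.Spor.Suz.Gen))).map (PresentedGroup.mk (Cfsg.Spor.coxRelators Cfsg.Spor.Suz.edges ∪ {r | r ∈ Cfsg.Spor.Suz.extra})))) ≃* Cfsg.Lie.chevG2.group K) := by
  refine ⟨CfsgLib.Recog.GF4.K4, inferInstance, inferInstance, CfsgLib.Recog.GF4.card_K4, ?_⟩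
  rw [sub_eq]
  exact CfsgLib.SuzG2.equiv_G2

end Cfsg.Agent.S1679
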