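import Cfsg.Statements.S1681
import Cfsg.Agent.Lib.CosetEnum.Suz.Exact
import Cfsg.Agent.Lib.CosetEnum.Suz.VBound

set_option autoImplicit false
open Cfsg

namespace Cfsg.Agent.S1681

open CfsgLib.CosetEnum

theorem sub_eq : (Subgroup.closure ({Cfsg.Spor.Suz.a, Cfsg.Spor.Suz.b, Cfsg.Spor.Suz.c, Cfsg.Spor.Suz.d,
      Cfsg.Spor.Suz.f, Cfsg.Spor.Suz.g} : Set (FreeGroup Cfsg.Spor.Suz.Gen))).map
      (PresentedGroup.mk (Cfsg.Spor.coxRelators Cfsg.Spor.Suz.edges ∪ {r | r ∈ Cfsg.Spor.Suz.extra})) =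
      Level Suz.g [0, 1, 2, 3, 5, 6] := by
  rw [MonoidHom.map_closure, Level]
  congr 1
  ext z
  simp only [Set.mem_ofPred_eq, List.mem_cons, List.not_mem_nil, or_false, Set.mem_image, Set.mem_insert_iff,
    Set.mem_singleton_iff, exists_eq_or_imp, exists_eq_left]
  simp only [Suz.g, gen, Suz.gF, eq_comm]

/-- In the presented sporadic Suzuki group (generators a, …, g), the subgroup generated by the images of a, b, c, d, f, g has index 22880. -/
theorem result : (((Subgroup.closure ({Cfsg.Spor.Suz.a, Cfsg.Spor.Suz.b, Cfsg.Spor.Suz.c, Cfsg.Spor.Suz.d, Cfsg.Spor.Suz.f, Cfsg.Spor.Suz.g} : Set (FreeGroup Cfsg.Spor.Suz.Gen))).map (PresentedGroup.mk (Cfsg.Spor.coxRelators Cfsg.Spor.Suz.edges ∪ {r | r ∈ Cfsg.Spor.Suz.extra})))).index = 22880 := by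
  rw [sub_eq]
  haveI : Finite Cfsg.Spor.Suz := Suz.finite
  exact index_eq_of_bounds (by omega) Suz.VTop.covers Suz.VBound.bound0 (by rw [Suz.card_group])

end Cfsg.Agent.S1681
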