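import Cfsg.Statements.S1682
import Cfsg.Agent.Lib.CosetEnum.HeSp.Iso

set_option autoImplicit false
open Cfsg

namespace Cfsg.Agent.S1682

open CfsgLib.CosetEnum

theorem sub_eq : (Subgroup.closure ({Cfsg.Spor.He.a, Cfsg.Spor.He.c, Cfsg.Spor.He.d, Cfsg.Spor.He.e, Cfsg.Spor.He.f,
      (Cfsg.Spor.He.a * Cfsg.Spor.He.b) ^ 2,
      (Cfsg.Spor.He.b * Cfsg.Spor.He.c * Cfsg.Spor.He.d * Cfsg.Spor.He.e) ^ 7} : Set (FreeGroup Cfsg.Spor.He.Gen))).map
      (PresentedGroup.mk (Cfsg.Spor.coxRelators Cfsg.Spor.He.edges ∪ {r | r ∈ Cfsg.Spor.He.extra})) = He.H := by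
  rw [MonoidHom.map_closure]
  set S : Subgroup Cfsg.Spor.He := He.H with hS
  have hrev : ((He.subWords.getD 7 []).map He.g).prod = (((He.subWords.getD 6 []).map He.g).prod)⁻¹ := by
    rw [← prod_invWord He.hinv _ (by decide +kernel)]
    congr 2
  apply le_antisymm
  · refine (Subgroup.closure_le _).mpr ?_
    rintro _ ⟨x, hx, rfl⟩
    simp only [Set.mem_insert_iff, Set.mem_singleton_iff] at hx
    have key : ∀ l ∈ He.subWords, (l.map He.g).prod ∈ S := fun l hl => Subgroup.subset_closure ⟨l, hl, rfl⟩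
    rcases hx with rfl | rfl | rfl | rfl | rfl | rfl | rfl
    · simpa [He.g, gen, He.gF] using key [0] (by decide)
    · simpa [He.g, gen, He.gF] using key [2] (by decide)
    · simpa [He.g, gen, He.gF] using key [3] (by decide)
    · simpa [He.g, gen, He.gF] using key [4] (by decide)
    · simpa [He.g, gen, He.gF] using key [5] (by decide)
    · simpa [He.g, gen, He.gF, pow_succ, mul_assoc] using key [0, 1, 0, 1] (by decide)
    · simpa [He.g, gen, He.gF, pow_succ, mul_assoc] using key [1, 2, 3, 4, 1, 2, 3, 4, 1, 2, 3, 4, 1, 2, 3, 4, 1, 2, 3, 4, 1, 2, 3, 4, 1, 2, 3, 4] (by decide +kernel)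
  · refine (Subgroup.closure_le _).mpr ?_
    rintro _ ⟨l, hl, rfl⟩
    simp only [He.subWords, List.mem_cons, List.not_mem_nil, or_false] at hl
    rcases hl with rfl | rfl | rfl | rfl | rfl | rfl | rfl | rfl
    · exact Subgroup.subset_closure ⟨Cfsg.Spor.He.a, by simp, by simp [He.g, gen, He.gF]⟩
    · exact Subgroup.subset_closure ⟨Cfsg.Spor.He.c, by simp, by simp [He.g, gen, He.gF]⟩
    · exact Subgroup.subset_closure ⟨Cfsg.Spor.He.d, by simp, by simp [He.g, gen, He.gF]⟩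
    · exact Subgroup.subset_closure ⟨Cfsg.Spor.He.e, by simp, by simp [He.g, gen, He.gF]⟩
    · exact Subgroup.subset_closure ⟨Cfsg.Spor.He.f, by simp, by simp [He.g, gen, He.gF]⟩
    · exact Subgroup.subset_closure ⟨(Cfsg.Spor.He.a * Cfsg.Spor.He.b) ^ 2, by simp,
        by simp [He.g, gen, He.gF, pow_succ, mul_assoc]⟩
    · exact Subgroup.subset_closure ⟨(Cfsg.Spor.He.b * Cfsg.Spor.He.c * Cfsg.Spor.He.d * Cfsg.Spor.He.e) ^ 7,
        by simp, by simp [He.g, gen, He.gF, pow_succ, mul_assoc]⟩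
    · refine (show _ ∈ _ from hrev.symm ▸ Subgroup.inv_mem _ (Subgroup.subset_closure
        ⟨(Cfsg.Spor.He.b * Cfsg.Spor.He.c * Cfsg.Spor.He.d * Cfsg.Spor.He.e) ^ 7,
          by simp, by simp [He.subWords, He.g, gen, He.gF, pow_succ, mul_assoc]⟩))

theorem core : ∀ H : Subgroup Cfsg.Spor.He, H = He.H →
    ∃ (N : Subgroup H) (K : Type) (_ : Field K) (_ : Fintype K),
      N.Normal ∧ N.index = 2 ∧ Fintype.card K = 4 ∧ Nonempty (N ≃* Matrix.symplecticGroup (Fin 2) K) := by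
  rintro _ rfl
  obtain ⟨⟨e⟩, hidx⟩ := HeSp.exists_iso
  exact ⟨HeSp.N.subgroupOf He.H, HeSp.F4, inferInstance, inferInstance, Subgroup.normal_of_index_eq_two hidx, hidx,
    CfsgLib.Recog.GF4.card_K4, ⟨(Subgroup.subgroupOfEquivOfLe HeSp.N_le).trans e⟩⟩

/-- In the presented Held group, the subgroup generated by the images of a, c, d, e, f, (ab)², (bcde)⁷ has a normal subgroup of index 2 isomorphic to Sp(4, K) for a field K of order 4. -/
theorem result : ∃ (N : Subgroup (((Subgroup.closure ({Cfsg.Spor.He.a, Cfsg.Spor.He.c, Cfsg.Spor.He.d, Cfsg.Spor.He.e, Cfsg.Spor.He.f, (Cfsg.Spor.He.a * Cfsg.Spor.He.b) ^ 2, (Cfsg.Spor.He.b * Cfsg.Spor.He.c * Cfsg.Spor.He.d * Cfsg.Spor.He.e) ^ 7} : Set (FreeGroup Cfsg.Spor.He.Gen))).map (PresentedGroup.mk (Cfsg.Spor.coxRelators Cfsg.Spor.He.edges ∪ {r | r ∈ Cfsg.Spor.He.extra}))))) (K : Type) (_ : Field K) (_ : Fintype K), N.Normal ∧ N.index = 2 ∧ Fintype.card K = 4 ∧ Nonempty (N ≃*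 Matrix.symplecticGroup (Fin 2) K) :=
  core _ sub_eq

end Cfsg.Agent.S1682
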