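import Cfsg.Statements.S1683
import Cfsg.Agent.Lib.CosetEnum.He.Orbits

set_option autoImplicit false
open Cfsg

namespace Cfsg.Agent.S1683

open CfsgLib.CosetEnum

theorem sub_eq : (Subgroup.closure ({Cfsg.Spor.He.a, Cfsg.Spor.He.c, Cfsg.Spor.He.d, Cfsg.Spor.He.e, Cfsg.Spor.He.f,
      (Cfsg.Spor.He.a * Cfsg.Spor.He.b) ^ 2,
      (Cfsg.Spor.He.b * Cfsg.Spor.He.c * Cfsg.Spor.He.d * Cfsg.Spor.He.e) ^ 7} : Set (FreeGroup Cfsg.Spor.He.Gen))).map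
      (PresentedGroup.mk (Cfsg.Spor.coxRelators Cfsg.Spor.He.edges ∪ {r | r ∈ Cfsg.Spor.He.extra})) = He.H := by
  set φ := PresentedGroup.mk (Cfsg.Spor.coxRelators Cfsg.Spor.He.edges ∪ {r | r ∈ Cfsg.Spor.He.extra}) with hφ
  set v := (Cfsg.Spor.He.a * Cfsg.Spor.He.b) ^ 2 with hv
  set w := (Cfsg.Spor.He.b * Cfsg.Spor.He.c * Cfsg.Spor.He.d * Cfsg.Spor.He.e) ^ 7 with hw
  have hp1 : φ v = (([0, 1, 0, 1] : List ℕ).map He.g).prod := by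
    simp [hv, hφ, He.g, gen, He.gF, pow_succ, mul_assoc]
  have hp : φ w = (([1, 2, 3, 4, 1, 2, 3, 4, 1, 2, 3, 4, 1, 2, 3, 4, 1, 2, 3, 4, 1, 2, 3, 4, 1, 2, 3, 4] : List ℕ).map He.g).prod := by
    simp [hw, hφ, He.g, gen, He.gF, pow_succ, mul_assoc]
  have hi : ((φ w))⁻¹ = (([4, 3, 2, 1, 4, 3, 2, 1, 4, 3, 2, 1, 4, 3, 2, 1, 4, 3, 2, 1, 4, 3, 2, 1, 4, 3, 2, 1] : List ℕ).map He.g).prod := by
    rw [hp]
    refine (prod_invWord He.hinv _ (by decide)).symm.trans ?_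
    rw [show invWord _ ([1, 2, 3, 4, 1, 2, 3, 4, 1, 2, 3, 4, 1, 2, 3, 4, 1, 2, 3, 4, 1, 2, 3, 4, 1, 2, 3, 4] : List ℕ) = [4, 3, 2, 1, 4, 3, 2, 1, 4, 3, 2, 1, 4, 3, 2, 1, 4, 3, 2, 1, 4, 3, 2, 1, 4, 3, 2, 1] by decide +kernel]
  rw [MonoidHom.map_closure, He.H, WordSub]
  refine le_antisymm ((Subgroup.closure_le _).mpr ?_) ((Subgroup.closure_le _).mpr ?_)
  · rintro _ ⟨x, hx, rfl⟩
    simp only [Set.mem_insert_iff, Set.mem_singleton_iff] at hx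
    rcases hx with rfl | rfl | rfl | rfl | rfl | rfl | rfl
    · exact Subgroup.subset_closure ⟨[0], by decide, by simp [hφ, He.g, gen, He.gF]⟩
    · exact Subgroup.subset_closure ⟨[2], by decide, by simp [hφ, He.g, gen, He.gF]⟩
    · exact Subgroup.subset_closure ⟨[3], by decide, by simp [hφ, He.g, gen, He.gF]⟩
    · exact Subgroup.subset_closure ⟨[4], by decide, by simp [hφ, He.g, gen, He.gF]⟩
    · exact Subgroup.subset_closure ⟨[5], by decide, by simp [hφ, He.g, gen, He.gF]⟩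
    · exact Subgroup.subset_closure ⟨_, by decide, hp1⟩
    · exact Subgroup.subset_closure ⟨_, by decide, hp⟩
  · rintro _ ⟨l, hl, rfl⟩
    simp only [He.subWords, List.mem_cons, List.not_mem_nil, or_false] at hl
    rcases hl with rfl | rfl | rfl | rfl | rfl | rfl | rfl | rfl
    · exact Subgroup.subset_closure ⟨Cfsg.Spor.He.a, by simp, by simp [hφ, He.g, gen, He.gF]⟩
    · exact Subgroup.subset_closure ⟨Cfsg.Spor.He.c, by simp, by simp [hφ, He.g, gen, He.gF]⟩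
    · exact Subgroup.subset_closure ⟨Cfsg.Spor.He.d, by simp, by simp [hφ, He.g, gen, He.gF]⟩
    · exact Subgroup.subset_closure ⟨Cfsg.Spor.He.e, by simp, by simp [hφ, He.g, gen, He.gF]⟩
    · exact Subgroup.subset_closure ⟨Cfsg.Spor.He.f, by simp, by simp [hφ, He.g, gen, He.gF]⟩
    · exact hp1 ▸ Subgroup.subset_closure ⟨v, by simp [hv], rfl⟩
    · exact hp ▸ Subgroup.subset_closure ⟨w, by simp [hw], rfl⟩
    · exact hi ▸ Subgroup.inv_mem _ (Subgroup.subset_closure ⟨w, by simp [hw], rfl⟩)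

theorem orbit_data (r : Fin 2058) (c N : ℕ) (h1 : Nat.beq (He.lab.get 20 r) c = true)
    (h2 : Nat.beq (He.root.get 20 c) r = true) (h3 : Nat.beq (countLab He.lab c 2058) N = true) :
    ∃ q : Cfsg.Spor.He ⧸ He.H, (MulAction.orbit He.H q).ncard = N ∧
      ∀ q' ∈ MulAction.orbit He.H q,
        He.lab.get 20 (cosetPt (n := 2058) (by omega) He.π He.H (He.sub_fix (by omega)) q' : Fin 2058) = c := by
  have hn : 0 < 2058 := by omega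
  obtain ⟨q, hq⟩ := (cosetPt_bijective hn He.π He.H He.covers (He.sub_fix hn) (He.transitive hn)).2 r
  refine ⟨q, ?_, ?_⟩
  · rw [orbit_ncard_eq hn He.π He.H He.covers (He.sub_fix hn) (He.transitive hn), hq]
    exact orbit_class_ncard He.π He.H He.subTable He.sub_spec.1 He.sub_spec.2 He.lab He.orbPar He.root He.orbit_ok
      r c h1 h2 N h3
  · rintro _ ⟨h, rfl⟩
    have key : cosetPt hn He.π He.H (He.sub_fix hn) (h • q) =
        He.π (h : Cfsg.Spor.He) (cosetPt hn He.π He.H (He.sub_fix hn) q) := by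
      induction q using QuotientGroup.induction_on with
      | H z => show He.π ((h : Cfsg.Spor.He) * z) _ = He.π h (He.π z _); rw [map_mul, Equiv.Perm.mul_apply]
    rw [key, hq, label_invariant He.π He.H He.subTable He.sub_spec.2 He.lab He.orbPar He.root He.orbit_ok _ h.2]
    exact Nat.eq_of_beq_eq_true h1

/-- In the presented Held group, let H be the subgroup generated by the images of a, c, d, e, f, (ab)^2 and (bcde)^7. Then H has index 2058, there are four distinct H-orbits on the cosets of H other than H itself, of sizes 136, 136, 425 and 1360. -/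
theorem result : (((Subgroup.closure ({Cfsg.Spor.He.a, Cfsg.Spor.He.c, Cfsg.Spor.He.d, Cfsg.Spor.He.e, Cfsg.Spor.He.f, (Cfsg.Spor.He.a * Cfsg.Spor.He.b) ^ 2, (Cfsg.Spor.He.b * Cfsg.Spor.He.c * Cfsg.Spor.He.d * Cfsg.Spor.He.e) ^ 7} : Set (FreeGroup Cfsg.Spor.He.Gen))).map (PresentedGroup.mk (Cfsg.Spor.coxRelators Cfsg.Spor.He.edges ∪ {r | r ∈ Cfsg.Spor.He.extra})))).index = 2058 ∧ ∃ q₁ q₂ q₃ q₄ : Cfsg.Spor.He ⧸ (((Subgroup.closure ({Cfsg.Spor.He.a, Cfsg.Spor.He.c, Cfsg.Spor.He.d, Cfsg.Spor.He.e, Cfsg.Spor.He.f, (Cfsg.Spor.He.a * Cfsg.Spor.He.b) ^ 2, (Cfsg.Spor.He.b * Cfsg.Spor.He.c * Cfsg.Spor.He.d * Cfsg.Spor.He.e) ^ 7} : Set (FreeGroup Cfsg.Spor.He.Gen))).map (PresentedGroup.mk (Cfsg.Spor.coxRelators Cfsg.Spor.He.edges ∪ {r | r ∈ Cfsg.Spor.He.extra})))), MulAction.orbit (((Subgroup.closure ({Cfsg.Spor.He.a, Cfsg.Spor.He.c, Cfsg.Spor.He.d, Cfsg.Spor.He.e,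 Cfsg.Spor.He.f, (Cfsg.Spor.He.a * Cfsg.Spor.He.b) ^ 2, (Cfsg.Spor.He.b * Cfsg.Spor.He.c * Cfsg.Spor.He.d * Cfsg.Spor.He.e) ^ 7} : Set (FreeGroup Cfsg.Spor.He.Gen))).map (PresentedGroup.mk (Cfsg.Spor.coxRelators Cfsg.Spor.He.edges ∪ {r | r ∈ Cfsg.Spor.He.extra})))) q₁ ≠ MulAction.orbit (((Subgroup.closure ({Cfsg.Spor.He.a, Cfsg.Spor.He.c, Cfsg.Spor.He.d, Cfsg.Spor.He.e, Cfsg.Spor.He.f, (Cfsg.Spor.He.a * Cfsg.Spor.He.b) ^ 2, (Cfsg.Spor.He.b * Cfsg.Spor.He.c * Cfsg.Spor.He.d * Cfsg.Spor.He.e) ^ 7} : Set (FreeGroup Cfsg.Spor.He.Gen))).map (PresentedGroup.mk (Cfsg.Spor.coxRelators Cfsg.Spor.He.edges ∪ {r | r ∈ Cfsg.Spor.He.extra})))) q₂ ∧ (MulAction.orbit (((Subgroup.closure ({Cfsg.Spor.He.a, Cfsg.Spor.He.c, Cfsg.Spor.He.d, Cfsg.Spor.He.e, Cfsg.Spor.He.f, (Cfsg.Spor.He.a * Cfsg.Spor.He.b) ^ 2, (Cfsg.Spor.He.b * Cfsg.Spor.He.c * Cfsg.Spor.He.d * Cfsg.Spor.He.e)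 ^ 7} : Set (FreeGroup Cfsg.Spor.He.Gen))).map (PresentedGroup.mk (Cfsg.Spor.coxRelators Cfsg.Spor.He.edges ∪ {r | r ∈ Cfsg.Spor.He.extra})))) q₁).ncard = 136 ∧ (MulAction.orbit (((Subgroup.closure ({Cfsg.Spor.He.a, Cfsg.Spor.He.c, Cfsg.Spor.He.d, Cfsg.Spor.He.e, Cfsg.Spor.He.f, (Cfsg.Spor.He.a * Cfsg.Spor.He.b) ^ 2, (Cfsg.Spor.He.b * Cfsg.Spor.He.c * Cfsg.Spor.He.d * Cfsg.Spor.He.e) ^ 7} : Set (FreeGroup Cfsg.Spor.He.Gen))).map (PresentedGroup.mk (Cfsg.Spor.coxRelators Cfsg.Spor.He.edges ∪ {r | r ∈ Cfsg.Spor.He.extra})))) q₂).ncard = 136 ∧ (MulAction.orbit (((Subgroup.closure ({Cfsg.Spor.He.a, Cfsg.Spor.He.c, Cfsg.Spor.He.d, Cfsg.Spor.He.e, Cfsg.Spor.He.f, (Cfsg.Spor.He.a * Cfsg.Spor.He.b) ^ 2, (Cfsg.Spor.He.b * Cfsg.Spor.He.c * Cfsg.Spor.He.d * Cfsg.Spor.He.e) ^ 7} : Set (FreeGroup Cfsg.Spor.He.Gen))).map (PresentedGroup.mk (Cfsg.Spor.coxRelators Cfsg.Spor.He.edges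 ∪ {r | r ∈ Cfsg.Spor.He.extra})))) q₃).ncard = 425 ∧ (MulAction.orbit (((Subgroup.closure ({Cfsg.Spor.He.a, Cfsg.Spor.He.c, Cfsg.Spor.He.d, Cfsg.Spor.He.e, Cfsg.Spor.He.f, (Cfsg.Spor.He.a * Cfsg.Spor.He.b) ^ 2, (Cfsg.Spor.He.b * Cfsg.Spor.He.c * Cfsg.Spor.He.d * Cfsg.Spor.He.e) ^ 7} : Set (FreeGroup Cfsg.Spor.He.Gen))).map (PresentedGroup.mk (Cfsg.Spor.coxRelators Cfsg.Spor.He.edges ∪ {r | r ∈ Cfsg.Spor.He.extra})))) q₄).ncard = 1360 := by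
  rw [sub_eq]
  refine ⟨He.index_H, ?_⟩
  obtain ⟨q₁, h₁, e₁⟩ := orbit_data (46 : Fin 2058) 3 136 (by decide +kernel) (by decide +kernel) (by decide +kernel)
  obtain ⟨q₂, h₂, e₂⟩ := orbit_data (65 : Fin 2058) 4 136 (by decide +kernel) (by decide +kernel) (by decide +kernel)
  obtain ⟨q₃, h₃, -⟩ := orbit_data (2 : Fin 2058) 2 425 (by decide +kernel) (by decide +kernel) (by decide +kernel)
  obtain ⟨q₄, h₄, -⟩ := orbit_data (1 : Fin 2058) 1 1360 (by decide +kernel) (by decide +kernel) (by decide +kernel)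
  refine ⟨q₁, q₂, q₃, q₄, fun h => ?_, h₁, h₂, h₃, h₄⟩
  have h5 := e₁ q₁ (MulAction.mem_orbit_self q₁)
  have h6 := e₂ q₁ (h ▸ MulAction.mem_orbit_self q₁)
  omega

end Cfsg.Agent.S1683
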