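import Cfsg.Statements.S1684
import Cfsg.Agent.Lib.CosetEnum.Fi22U6.Cover

set_option autoImplicit false
open Cfsg

namespace Cfsg.Agent.S1684

open CfsgLib.CosetEnum

theorem sub_eq : (Subgroup.closure ({Cfsg.Spor.Fi22.a, Cfsg.Spor.Fi22.c, Cfsg.Spor.Fi22.d, Cfsg.Spor.Fi22.e,
      Cfsg.Spor.Fi22.f, Cfsg.Spor.Fi22.g, Cfsg.Spor.Fi22.h, Cfsg.Spor.Fi22.i,
      (Cfsg.Spor.Fi22.a * Cfsg.Spor.Fi22.b * Cfsg.Spor.Fi22.c * Cfsg.Spor.Fi22.d * Cfsg.Spor.Fi22.e * Cfsg.Spor.Fi22.h) ^ 5} :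
      Set (FreeGroup Cfsg.Spor.Fi22.Gen))).map
      (PresentedGroup.mk (Cfsg.Spor.coxRelators Cfsg.Spor.Fi22.edges ∪ {r | r ∈ Cfsg.Spor.Fi22.extra})) = Fi22.H := by
  set φ := PresentedGroup.mk (Cfsg.Spor.coxRelators Cfsg.Spor.Fi22.edges ∪ {r | r ∈ Cfsg.Spor.Fi22.extra}) with hφ
  set w := (Cfsg.Spor.Fi22.a * Cfsg.Spor.Fi22.b * Cfsg.Spor.Fi22.c * Cfsg.Spor.Fi22.d * Cfsg.Spor.Fi22.e *
    Cfsg.Spor.Fi22.h) ^ 5 with hw
  have hp : φ w = (([0, 1, 2, 3, 4, 7, 0, 1, 2, 3, 4, 7, 0, 1, 2, 3, 4, 7, 0, 1, 2, 3, 4, 7, 0, 1, 2, 3, 4, 7] :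
      List ℕ).map Fi22.g).prod := by
    simp [hw, hφ, Fi22.g, gen, Fi22.gF, pow_succ, mul_assoc]
  have hi : ((φ w))⁻¹ = (([7, 4, 3, 2, 1, 0, 7, 4, 3, 2, 1, 0, 7, 4, 3, 2, 1, 0, 7, 4, 3, 2, 1, 0, 7, 4, 3, 2, 1, 0] :
      List ℕ).map Fi22.g).prod := by
    rw [hp]
    exact Fi22U6.word_inv _ (by decide)
  rw [MonoidHom.map_closure, Fi22.H, WordSub]
  refine le_antisymm ((Subgroup.closure_le _).mpr ?_) ((Subgroup.closure_le _).mpr ?_)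
  · rintro _ ⟨x, hx, rfl⟩
    simp only [Set.mem_insert_iff, Set.mem_singleton_iff] at hx
    rcases hx with rfl | rfl | rfl | rfl | rfl | rfl | rfl | rfl | rfl
    · exact Subgroup.subset_closure ⟨[0], by decide, by simp [hφ, Fi22.g, gen, Fi22.gF]⟩
    · exact Subgroup.subset_closure ⟨[2], by decide, by simp [hφ, Fi22.g, gen, Fi22.gF]⟩
    · exact Subgroup.subset_closure ⟨[3], by decide, by simp [hφ, Fi22.g, gen, Fi22.gF]⟩
    · exact Subgroup.subset_closure ⟨[4], by decide, by simp [hφ, Fi22.g, gen, Fi22.gF]⟩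
    · exact Subgroup.subset_closure ⟨[5], by decide, by simp [hφ, Fi22.g, gen, Fi22.gF]⟩
    · exact Subgroup.subset_closure ⟨[6], by decide, by simp [hφ, Fi22.g, gen, Fi22.gF]⟩
    · exact Subgroup.subset_closure ⟨[7], by decide, by simp [hφ, Fi22.g, gen, Fi22.gF]⟩
    · exact Subgroup.subset_closure ⟨[8], by decide, by simp [hφ, Fi22.g, gen, Fi22.gF]⟩
    · exact Subgroup.subset_closure ⟨_, by decide, hp⟩
  · rintro _ ⟨l, hl, rfl⟩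
    simp only [Fi22.subWords, List.mem_cons, List.not_mem_nil, or_false] at hl
    rcases hl with rfl | rfl | rfl | rfl | rfl | rfl | rfl | rfl | rfl | rfl
    · exact Subgroup.subset_closure ⟨Cfsg.Spor.Fi22.a, by simp, by simp [hφ, Fi22.g, gen, Fi22.gF]⟩
    · exact Subgroup.subset_closure ⟨Cfsg.Spor.Fi22.c, by simp, by simp [hφ, Fi22.g, gen, Fi22.gF]⟩
    · exact Subgroup.subset_closure ⟨Cfsg.Spor.Fi22.d, by simp, by simp [hφ, Fi22.g, gen, Fi22.gF]⟩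
    · exact Subgroup.subset_closure ⟨Cfsg.Spor.Fi22.e, by simp, by simp [hφ, Fi22.g, gen, Fi22.gF]⟩
    · exact Subgroup.subset_closure ⟨Cfsg.Spor.Fi22.f, by simp, by simp [hφ, Fi22.g, gen, Fi22.gF]⟩
    · exact Subgroup.subset_closure ⟨Cfsg.Spor.Fi22.g, by simp, by simp [hφ, Fi22.g, gen, Fi22.gF]⟩
    · exact Subgroup.subset_closure ⟨Cfsg.Spor.Fi22.h, by simp, by simp [hφ, Fi22.g, gen, Fi22.gF]⟩
    · exact Subgroup.subset_closure ⟨Cfsg.Spor.Fi22.i, by simp, by simp [hφ, Fi22.g, gen, Fi22.gF]⟩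
    · exact hp ▸ Subgroup.subset_closure ⟨w, by simp [hw], rfl⟩
    · exact hi ▸ Subgroup.inv_mem _ (Subgroup.subset_closure ⟨w, by simp [hw], rfl⟩)

theorem core : ∀ H : Subgroup Cfsg.Spor.Fi22, H = Fi22.H → ∃ (K : Type) (_ : Field K) (_ : Fintype K),
    Fintype.card K = 4 ∧ Cfsg.IsNonsplitDoubleCover H (Cfsg.PSU 6 K 2) := by
  rintro _ rfl
  exact ⟨Fi22U6.F4, inferInstance, inferInstance, CfsgLib.Recog.GF4.card_K4, Fi22U6.doubleCover⟩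

/-- In the presented Fischer group Fi₂₂, the subgroup generated by the images of a, c, d, e, f, g, h, i and (abcdeh)⁵ is a non-split double cover of PSU(6, 2). -/
theorem result : ∃ (K : Type) (_ : Field K) (_ : Fintype K), Fintype.card K = 4 ∧ Cfsg.IsNonsplitDoubleCover (((Subgroup.closure ({Cfsg.Spor.Fi22.a, Cfsg.Spor.Fi22.c, Cfsg.Spor.Fi22.d, Cfsg.Spor.Fi22.e, Cfsg.Spor.Fi22.f, Cfsg.Spor.Fi22.g, Cfsg.Spor.Fi22.h, Cfsg.Spor.Fi22.i, (Cfsg.Spor.Fi22.a * Cfsg.Spor.Fi22.b * Cfsg.Spor.Fi22.c * Cfsg.Spor.Fi22.d * Cfsg.Spor.Fi22.e * Cfsg.Spor.Fi22.h) ^ 5} : Set (FreeGroup Cfsg.Spor.Fi22.Gen))).map (PresentedGroup.mk (Cfsg.Spor.coxRelators Cfsg.Spor.Fi22.edges ∪ {r | r ∈ Cfsg.Spor.Fi22.extra})))) (Cfsg.PSU 6 K 2) :=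
  core _ sub_eq

end Cfsg.Agent.S1684
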