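import Cfsg.Statements.S1685
import Cfsg.Agent.Lib.CosetEnum.Fi22.Exact

set_option autoImplicit false
open Cfsg

namespace Cfsg.Agent.S1685

open CfsgLib.CosetEnum

theorem sub_eq : (Subgroup.closure ({Cfsg.Spor.Fi22.b, Cfsg.Spor.Fi22.c, Cfsg.Spor.Fi22.d, Cfsg.Spor.Fi22.e,
      Cfsg.Spor.Fi22.f, Cfsg.Spor.Fi22.g, Cfsg.Spor.Fi22.h, Cfsg.Spor.Fi22.i} : Set (FreeGroup Cfsg.Spor.Fi22.Gen))).map
      (PresentedGroup.mk (Cfsg.Spor.coxRelators Cfsg.Spor.Fi22.edges ∪ {r | r ∈ Cfsg.Spor.Fi22.extra})) =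
      Level Fi22.g [1, 2, 3, 4, 5, 6, 7, 8] := by
  rw [MonoidHom.map_closure, Level]
  congr 1
  ext z
  simp only [Set.mem_ofPred_eq, List.mem_cons, List.not_mem_nil, or_false, Set.mem_image, Set.mem_insert_iff,
    Set.mem_singleton_iff, exists_eq_or_imp, exists_eq_left]
  simp only [Fi22.g, gen, Fi22.gF, eq_comm]

/-- In the presented Fischer group Fi₂₂ (generators a, …, i), the subgroup generated by the images of b, c, d, e, f, g, h, i has index 14080. -/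
theorem result : (((Subgroup.closure ({Cfsg.Spor.Fi22.b, Cfsg.Spor.Fi22.c, Cfsg.Spor.Fi22.d, Cfsg.Spor.Fi22.e, Cfsg.Spor.Fi22.f, Cfsg.Spor.Fi22.g, Cfsg.Spor.Fi22.h, Cfsg.Spor.Fi22.i} : Set (FreeGroup Cfsg.Spor.Fi22.Gen))).map (PresentedGroup.mk (Cfsg.Spor.coxRelators Cfsg.Spor.Fi22.edges ∪ {r | r ∈ Cfsg.Spor.Fi22.extra})))).index = 14080 := by
  rw [sub_eq]
  haveI : Finite Cfsg.Spor.Fi22 := Fi22.finite
  exact index_eq_of_bounds (by omega) Fi22.UTop.covers Fi22.UBound.bound0 (by rw [Fi22.card_group])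

end Cfsg.Agent.S1685
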