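import Cfsg.Statements.S1686
import Cfsg.Agent.Lib.CosetEnum.O7.Iso

set_option autoImplicit false
open Cfsg

namespace Cfsg.Agent.S1686

theorem sub_eq : (Subgroup.closure ({Cfsg.Spor.Fi22.b, Cfsg.Spor.Fi22.c, Cfsg.Spor.Fi22.d, Cfsg.Spor.Fi22.e,
      Cfsg.Spor.Fi22.f, Cfsg.Spor.Fi22.g, Cfsg.Spor.Fi22.h, Cfsg.Spor.Fi22.i} : Set (FreeGroup Cfsg.Spor.Fi22.Gen))).map
      (PresentedGroup.mk (Cfsg.Spor.coxRelators Cfsg.Spor.Fi22.edges ∪ {r | r ∈ Cfsg.Spor.Fi22.extra})) =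
      CfsgLib.CosetEnum.Level CfsgLib.CosetEnum.Fi22.g [1, 2, 3, 4, 5, 6, 7, 8] := by
  rw [MonoidHom.map_closure, CfsgLib.CosetEnum.Level]
  congr 1
  ext z
  simp only [Set.mem_ofPred_eq, List.mem_cons, List.not_mem_nil, or_false, Set.mem_image, Set.mem_insert_iff,
    Set.mem_singleton_iff, exists_eq_or_imp, exists_eq_left]
  simp only [CfsgLib.CosetEnum.Fi22.g, CfsgLib.CosetEnum.gen, CfsgLib.CosetEnum.Fi22.gF, eq_comm]


/-- In the presented Fischer group Fi₂₂, the subgroup generated by the images of b, …, i is isomorphic to PΩ(7, 3), the commutator subgroup of the isometry group of the quadratic form x₀² + x₁y₁ + x₂y₂ + x₃y₃ over the integers mod 3, modulo its centre. -/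
theorem result : Nonempty ((((Subgroup.closure ({Cfsg.Spor.Fi22.b, Cfsg.Spor.Fi22.c, Cfsg.Spor.Fi22.d, Cfsg.Spor.Fi22.e, Cfsg.Spor.Fi22.f, Cfsg.Spor.Fi22.g, Cfsg.Spor.Fi22.h, Cfsg.Spor.Fi22.i} : Set (FreeGroup Cfsg.Spor.Fi22.Gen))).map (PresentedGroup.mk (Cfsg.Spor.coxRelators Cfsg.Spor.Fi22.edges ∪ {r | r ∈ Cfsg.Spor.Fi22.extra})))) ≃* Cfsg.POmega (ZMod 3) (Cfsg.quadFormOdd 3 (ZMod 3))) := by
  rw [sub_eq]
  refine CfsgLib.CosetEnum.O7.iso ?_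
  haveI : Finite Cfsg.Spor.Fi22 := CfsgLib.CosetEnum.Fi22.finite
  have hidx : (CfsgLib.CosetEnum.Level CfsgLib.CosetEnum.Fi22.g [1, 2, 3, 4, 5, 6, 7, 8]).index = 14080 :=
    CfsgLib.CosetEnum.index_eq_of_bounds (by omega) CfsgLib.CosetEnum.Fi22.UTop.covers CfsgLib.CosetEnum.Fi22.UBound.bound0
      (by rw [CfsgLib.CosetEnum.Fi22.card_group])
  have h := (CfsgLib.CosetEnum.Level CfsgLib.CosetEnum.Fi22.g [1, 2, 3, 4, 5, 6, 7, 8]).index_mul_card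
  rw [hidx, CfsgLib.CosetEnum.Fi22.card_group] at h
  omega

end Cfsg.Agent.S1686
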