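import Cfsg.Statements.S1687
import Cfsg.Agent.Lib.CosetEnum.Fi22.Orbits

set_option autoImplicit false
open Cfsg

namespace Cfsg.Agent.S1687

open CfsgLib.CosetEnum

theorem sub_eq : (Subgroup.closure ({Cfsg.Spor.Fi22.a, Cfsg.Spor.Fi22.c, Cfsg.Spor.Fi22.d, Cfsg.Spor.Fi22.e,
      Cfsg.Spor.Fi22.f, Cfsg.Spor.Fi22.g, Cfsg.Spor.Fi22.h, Cfsg.Spor.Fi22.i,
      (Cfsg.Spor.Fi22.a * Cfsg.Spor.Fi22.b * Cfsg.Spor.Fi22.c * Cfsg.Spor.Fi22.d * Cfsg.Spor.Fi22.e * Cfsg.Spor.Fi22.h) ^ 5} :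
      Set (FreeGroup Cfsg.Spor.Fi22.Gen))).map
      (PresentedGroup.mk (Cfsg.Spor.coxRelators Cfsg.Spor.Fi22.edges ∪ {r | r ∈ Cfsg.Spor.Fi22.extra})) = Fi22.H := by
  set φ := PresentedGroup.mk (Cfsg.Spor.coxRelators Cfsg.Spor.Fi22.edges ∪ {r | r ∈ Cfsg.Spor.Fi22.extra}) with hφ
  set w := (Cfsg.Spor.Fi22.a * Cfsg.Spor.Fi22.b * Cfsg.Spor.Fi22.c * Cfsg.Spor.Fi22.d * Cfsg.Spor.Fi22.e *
    Cfsg.Spor.Fi22.h) ^ 5 with hw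
  have hp : φ w = (([0, 1, 2, 3, 4, 7, 0, 1, 2, 3, 4, 7, 0, 1, 2, 3, 4, 7, 0, 1, 2, 3, 4, 7, 0, 1, 2, 3, 4, 7] :
      List ℕ).map Fi22.g).prod := by
    simp [hw, hφ, Fi22.g, gen, Fi22.gF, pow_succ, mul_assoc]
  have hi : ((φ w))⁻¹ = (([7, 4, 3, 2, 1, 0, 7, 4, 3, 2, 1, 0, 7, 4, 3, 2, 1, 0, 7, 4, 3, 2, 1, 0, 7, 4, 3, 2, 1, 0] :
      List ℕ).map Fi22.g).prod := by
    rw [hp]
    refine (prod_invWord Fi22.hinv _ (by decide)).symm.trans ?_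
    rw [show invWord _ ([0, 1, 2, 3, 4, 7, 0, 1, 2, 3, 4, 7, 0, 1, 2, 3, 4, 7, 0, 1, 2, 3, 4, 7, 0, 1, 2, 3, 4, 7] :
      List ℕ) = [7, 4, 3, 2, 1, 0, 7, 4, 3, 2, 1, 0, 7, 4, 3, 2, 1, 0, 7, 4, 3, 2, 1, 0, 7, 4, 3, 2, 1, 0] by decide +kernel]
  rw [MonoidHom.map_closure, Fi22.H, WordSub]
  refine le_antisymm ((Subgroup.closure_le _).mpr ?_) ((Subgroup.closure_le _).mpr ?_)
  · rintro _ ⟨x, hx, rfl⟩
    simp only [Set.mem_insert_iff, Set.mem_singleton_iff] at hx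
    rcases hx with rfl | rfl | rfl | rfl | rfl | rfl | rfl | rfl | rfl
    · exact Subgroup.subset_closure ⟨[0], by decide, by simp [hφ, Fi22.g, gen, Fi22.gF]⟩
    · exact Subgroup.subset_closure ⟨[2], by decide, by simp [hφ, Fi22.g, gen, Fi22.gF]⟩
    · exact Subgroup.subset_closure ⟨[3], by decide, by simp [hφ, Fi22.g, gen, Fi22.gF]⟩
    · exact Subgroup.subset_closure ⟨[4], by decide, by simp [hφ, Fi22.g, gen, Fi22.gF]⟩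
    · exact Subgroup.subset_closure ⟨[5], by decide, by simp [hφ, Fi22.g, gen, Fi22.gF]⟩
    · exact Subgroup.subset_closure ⟨[6], by decide, by simp [hφ, Fi22.g, gen, Fi22.gF]⟩
    · exact Subgroup.subset_closure ⟨[7], by decide, by simp [hφ, Fi22.g, gen, Fi22.gF]⟩
    · exact Subgroup.subset_closure ⟨[8], by decide, by simp [hφ, Fi22.g, gen, Fi22.gF]⟩
    · exact Subgroup.subset_closure ⟨_, by decide, hp⟩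
  · rintro _ ⟨l, hl, rfl⟩
    simp only [Fi22.subWords, List.mem_cons, List.not_mem_nil, or_false] at hl
    rcases hl with rfl | rfl | rfl | rfl | rfl | rfl | rfl | rfl | rfl | rfl
    · exact Subgroup.subset_closure ⟨Cfsg.Spor.Fi22.a, by simp, by simp [hφ, Fi22.g, gen, Fi22.gF]⟩
    · exact Subgroup.subset_closure ⟨Cfsg.Spor.Fi22.c, by simp, by simp [hφ, Fi22.g, gen, Fi22.gF]⟩
    · exact Subgroup.subset_closure ⟨Cfsg.Spor.Fi22.d, by simp, by simp [hφ, Fi22.g, gen, Fi22.gF]⟩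
    · exact Subgroup.subset_closure ⟨Cfsg.Spor.Fi22.e, by simp, by simp [hφ, Fi22.g, gen, Fi22.gF]⟩
    · exact Subgroup.subset_closure ⟨Cfsg.Spor.Fi22.f, by simp, by simp [hφ, Fi22.g, gen, Fi22.gF]⟩
    · exact Subgroup.subset_closure ⟨Cfsg.Spor.Fi22.g, by simp, by simp [hφ, Fi22.g, gen, Fi22.gF]⟩
    · exact Subgroup.subset_closure ⟨Cfsg.Spor.Fi22.h, by simp, by simp [hφ, Fi22.g, gen, Fi22.gF]⟩
    · exact Subgroup.subset_closure ⟨Cfsg.Spor.Fi22.i, by simp, by simp [hφ, Fi22.g, gen, Fi22.gF]⟩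
    · exact hp ▸ Subgroup.subset_closure ⟨w, by simp [hw], rfl⟩
    · exact hi ▸ Subgroup.inv_mem _ (Subgroup.subset_closure ⟨w, by simp [hw], rfl⟩)

/-- In the presented Fischer group Fi₂₂, let H be the subgroup generated by the images of a, c, d, e, f, g, h, i and (abcdeh)^5. Then H has index 3510, H has orbits of sizes 693 and 2816 on the cosets of H other than H itself. -/
theorem result : (((Subgroup.closure ({Cfsg.Spor.Fi22.a, Cfsg.Spor.Fi22.c, Cfsg.Spor.Fi22.d, Cfsg.Spor.Fi22.e, Cfsg.Spor.Fi22.f, Cfsg.Spor.Fi22.g, Cfsg.Spor.Fi22.h, Cfsg.Spor.Fi22.i, (Cfsg.Spor.Fi22.a * Cfsg.Spor.Fi22.b * Cfsg.Spor.Fi22.c * Cfsg.Spor.Fi22.d * Cfsg.Spor.Fi22.e * Cfsg.Spor.Fi22.h) ^ 5} : Set (FreeGroup Cfsg.Spor.Fi22.Gen))).map (PresentedGroup.mk (Cfsg.Spor.coxRelators Cfsg.Spor.Fi22.edges ∪ {r | r ∈ Cfsg.Spor.Fi22.extra})))).index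 = 3510 ∧ ∃ q₁ q₂ : Cfsg.Spor.Fi22 ⧸ (((Subgroup.closure ({Cfsg.Spor.Fi22.a, Cfsg.Spor.Fi22.c, Cfsg.Spor.Fi22.d, Cfsg.Spor.Fi22.e, Cfsg.Spor.Fi22.f, Cfsg.Spor.Fi22.g, Cfsg.Spor.Fi22.h, Cfsg.Spor.Fi22.i, (Cfsg.Spor.Fi22.a * Cfsg.Spor.Fi22.b * Cfsg.Spor.Fi22.c * Cfsg.Spor.Fi22.d * Cfsg.Spor.Fi22.e * Cfsg.Spor.Fi22.h) ^ 5} : Set (FreeGroup Cfsg.Spor.Fi22.Gen))).map (PresentedGroup.mk (Cfsg.Spor.coxRelators Cfsg.Spor.Fi22.edges ∪ {r | r ∈ Cfsg.Spor.Fi22.extra})))), (MulAction.orbit (((Subgroup.closure ({Cfsg.Spor.Fi22.a, Cfsg.Spor.Fi22.c, Cfsg.Spor.Fi22.d, Cfsg.Spor.Fi22.e, Cfsg.Spor.Fi22.f, Cfsg.Spor.Fi22.g, Cfsg.Spor.Fi22.h, Cfsg.Spor.Fi22.i, (Cfsg.Spor.Fi22.a * Cfsg.Spor.Fi22.b * Cfsg.Spor.Fi22.c * Cfsg.Spor.Fi22.d * Cfsg.Spor.Fi22.e * Cfsg.Spor.Fi22.h) ^ 5} : Set (FreeGroup Cfsg.Spor.Fi22.Gen))).map (PresentedGroup.mk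 (Cfsg.Spor.coxRelators Cfsg.Spor.Fi22.edges ∪ {r | r ∈ Cfsg.Spor.Fi22.extra})))) q₁).ncard = 693 ∧ (MulAction.orbit (((Subgroup.closure ({Cfsg.Spor.Fi22.a, Cfsg.Spor.Fi22.c, Cfsg.Spor.Fi22.d, Cfsg.Spor.Fi22.e, Cfsg.Spor.Fi22.f, Cfsg.Spor.Fi22.g, Cfsg.Spor.Fi22.h, Cfsg.Spor.Fi22.i, (Cfsg.Spor.Fi22.a * Cfsg.Spor.Fi22.b * Cfsg.Spor.Fi22.c * Cfsg.Spor.Fi22.d * Cfsg.Spor.Fi22.e * Cfsg.Spor.Fi22.h) ^ 5} : Set (FreeGroup Cfsg.Spor.Fi22.Gen))).map (PresentedGroup.mk (Cfsg.Spor.coxRelators Cfsg.Spor.Fi22.edges ∪ {r | r ∈ Cfsg.Spor.Fi22.extra})))) q₂).ncard = 2816 := by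
  rw [sub_eq]
  refine ⟨Fi22.index_H, ?_⟩
  obtain ⟨q₁, h₁⟩ := Fi22.exists_orbit (6 : Fin 3510) 2 693 (by decide +kernel) (by decide +kernel) (by decide +kernel)
  obtain ⟨q₂, h₂⟩ := Fi22.exists_orbit (1 : Fin 3510) 1 2816 (by decide +kernel) (by decide +kernel) (by decide +kernel)
  exact ⟨q₁, q₂, h₁, h₂⟩

end Cfsg.Agent.S1687
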