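import Cfsg.Statements.S1688
import Cfsg.Agent.Lib.CosetEnum.Fi23.Cover


set_option autoImplicit false
open Cfsg

namespace Cfsg.Agent.S1688

theorem sub_eq : (Subgroup.closure ({Cfsg.Spor.Fi23.a, Cfsg.Spor.Fi23.b, Cfsg.Spor.Fi23.c, Cfsg.Spor.Fi23.d, Cfsg.Spor.Fi23.e, Cfsg.Spor.Fi23.f, Cfsg.Spor.Fi23.g, Cfsg.Spor.Fi23.h, Cfsg.Spor.Fi23.i} : Set (FreeGroup Cfsg.Spor.Fi23.Gen))).map
      (PresentedGroup.mk (Cfsg.Spor.coxRelators Cfsg.Spor.Fi23.edges ∪ {r | r ∈ Cfsg.Spor.Fi23.extra})) = CfsgLib.CosetEnum.Fi23.H := by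
  rw [MonoidHom.map_closure, CfsgLib.CosetEnum.Fi23.H, CfsgLib.CosetEnum.WordSub]
  congr 1
  ext z
  simp only [Set.mem_ofPred_eq, CfsgLib.CosetEnum.Fi23.subWords, List.mem_cons, List.not_mem_nil, or_false, Set.mem_image,
    Set.mem_insert_iff, Set.mem_singleton_iff, exists_eq_or_imp, exists_eq_left, List.map_cons, List.map_nil,
    List.prod_cons, List.prod_nil, mul_one]
  simp only [CfsgLib.CosetEnum.Fi23.g, CfsgLib.CosetEnum.gen, CfsgLib.CosetEnum.Fi23.gF, eq_comm]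


/-- In the presented Fischer group Fi₂₃, the subgroup generated by the images of a, …, i is a non-split double cover of the presented Fischer group Fi₂₂. -/
theorem result : Cfsg.IsNonsplitDoubleCover (((Subgroup.closure ({Cfsg.Spor.Fi23.a, Cfsg.Spor.Fi23.b, Cfsg.Spor.Fi23.c, Cfsg.Spor.Fi23.d, Cfsg.Spor.Fi23.e, Cfsg.Spor.Fi23.f, Cfsg.Spor.Fi23.g, Cfsg.Spor.Fi23.h, Cfsg.Spor.Fi23.i} : Set (FreeGroup Cfsg.Spor.Fi23.Gen))).map (PresentedGroup.mk (Cfsg.Spor.coxRelators Cfsg.Spor.Fi23.edges ∪ {r | r ∈ Cfsg.Spor.Fi23.extra})))) Cfsg.Spor.Fi22 := by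
  rw [sub_eq]
  exact CfsgLib.CosetEnum.Fi23.doubleCover

end Cfsg.Agent.S1688
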