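import Cfsg.Statements.S1691

set_option autoImplicit false
open Cfsg

namespace Cfsg.Agent.S1691

open Cfsg.Spor

private abbrev rels : Set (FreeGroup Fi24.Gen) := coxRelators Fi24.edges ∪ {r | r ∈ Fi24.extra}

theorem label_even : ∀ x ∈ coxNodes Fi24.edges, ∀ y ∈ coxNodes Fi24.edges,
    (Multiplicative.ofAdd (1 : ZMod 2) * Multiplicative.ofAdd (1 : ZMod 2)) ^ coxLabel Fi24.edges x y = 1 := by
  intro x _ y _
  rw [show Multiplicative.ofAdd (1 : ZMod 2) * Multiplicative.ofAdd (1 : ZMod 2) = 1 by decide, one_pow]

theorem sgn_relators : ∀ r ∈ rels, FreeGroup.lift (fun _ : Fi24.Gen => Multiplicative.ofAdd (1 : ZMod 2)) r = 1 := by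
  rintro r (⟨x, hx, y, hy, rfl⟩ | hr)
  · simpa using label_even x hx y hy
  · simp only [Set.mem_ofPred_eq, Fi24.extra, List.mem_cons, List.not_mem_nil, or_false] at hr
    rcases hr with rfl | rfl <;> simp <;> decide

/-- The parity homomorphism. -/
def sgn : Fi24 →* Multiplicative (ZMod 2) := PresentedGroup.toGroup sgn_relators

theorem sgn_of (x : Fi24.Gen) : sgn (PresentedGroup.of x) = Multiplicative.ofAdd 1 :=
  PresentedGroup.toGroup.of sgn_relators

theorem rel_node {x y : Fi24.Gen} (hx : x ∈ coxNodes Fi24.edges) (hy : y ∈ coxNodes Fi24.edges) :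
    ((PresentedGroup.of x : Fi24) * PresentedGroup.of y) ^ coxLabel Fi24.edges x y = 1 := by
  have := PresentedGroup.one_of_mem (rels := rels) (Or.inl ⟨x, hx, y, hy, rfl⟩)
  rw [map_pow, map_mul] at this
  exact this

theorem all_eq (x : Fi24.Gen) :
    Abelianization.of (PresentedGroup.of x : Fi24) = Abelianization.of (PresentedGroup.of Fi24.Gen.l : Fi24) := by
  have sq : ∀ v : Fi24.Gen, v ∈ coxNodes Fi24.edges →
      Abelianization.of (PresentedGroup.of v : Fi24) * Abelianization.of (PresentedGroup.of v : Fi24) = 1 := by
    intro v hv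
    have := rel_node hv hv
    simp only [coxLabel, if_true, pow_one] at this
    rw [← map_mul, this, map_one]
  have step : ∀ u v : Fi24.Gen, u ∈ coxNodes Fi24.edges → v ∈ coxNodes Fi24.edges →
      coxLabel Fi24.edges u v = 3 →
      Abelianization.of (PresentedGroup.of v : Fi24) = Abelianization.of (PresentedGroup.of u : Fi24) := by
    intro u v hu hv h
    have h3 := congrArg (Abelianization.of : Fi24 →* _) (rel_node hu hv)
    rw [h, map_pow, map_mul, map_one] at h3
    generalize hA : Abelianization.of (PresentedGroup.of u : Fi24) = A at h3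
    generalize hB : Abelianization.of (PresentedGroup.of v : Fi24) = B at h3
    have hA2 : A * A = 1 := hA ▸ sq u hu
    have hB2 : B * B = 1 := hB ▸ sq v hv
    have h2 : (A * B) * (A * B) = 1 := by rw [mul_mul_mul_comm, hA2, hB2, one_mul]
    have h4 : A * B = 1 := by
      calc A * B = (A * B) * ((A * B) * (A * B)) := by rw [h2, mul_one]
        _ = (A * B) ^ 3 := by simp only [pow_succ, pow_zero, one_mul, mul_assoc]
        _ = 1 := h3
    calc B = (A * A) * B := by rw [hA2, one_mul]
      _ = A * (A * B) := mul_assoc _ _ _
      _ = A := by rw [h4, mul_one]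
  have hk := step .l .k (by decide) (by decide) (by decide)
  have ha := (step .k .a (by decide) (by decide) (by decide)).trans hk
  have hb := (step .a .b (by decide) (by decide) (by decide)).trans ha
  have hc := (step .b .c (by decide) (by decide) (by decide)).trans hb
  have hd := (step .c .d (by decide) (by decide) (by decide)).trans hc
  have he := (step .d .e (by decide) (by decide) (by decide)).trans hd
  have hf := (step .e .f (by decide) (by decide) (by decide)).trans he
  have hg := (step .f .g (by decide) (by decide) (by decide)).trans hf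
  have hj := (step .g .j (by decide) (by decide) (by decide)).trans hg
  have hh := (step .d .h (by decide) (by decide) (by decide)).trans hd
  have hi := (step .h .i (by decide) (by decide) (by decide)).trans hh
  cases x <;> first | rfl | assumption

/-- The commutator subgroup of the presented group Fi₂₄ has index 2 (the presented group is Fi₂₄′:2 with Fi₂₄′ its derived subgroup). -/
theorem result : (commutator Cfsg.Spor.Fi24).index = 2 := by
  set a := Abelianization.of (PresentedGroup.of Fi24.Gen.l : Fi24) with ha
  have ha2 : a * a = 1 := by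
    have h := rel_node (x := Fi24.Gen.l) (y := Fi24.Gen.l) (by decide) (by decide)
    simp only [coxLabel, if_true, pow_one] at h
    rw [ha, ← map_mul, h, map_one]
  have hdich : ∀ z : Fi24, (Abelianization.of z = 1 ∧ sgn z = 1) ∨
      (Abelianization.of z = a ∧ sgn z = Multiplicative.ofAdd 1) := by
    intro z
    induction z using PresentedGroup.induction_on with
    | _ w =>
      induction w using FreeGroup.induction_on with
      | C1 => left; simp
      | of x => right; exact ⟨all_eq x, sgn_of x⟩
      | inv_of x ih =>
        rcases ih with ⟨h1, h2⟩ | ⟨h1, h2⟩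
        · left; rw [map_inv, map_inv, map_inv, h1, h2]; simp
        · right
          rw [map_inv, map_inv, map_inv, h1, h2]
          exact ⟨inv_eq_of_mul_eq_one_left ha2, by decide⟩
      | mul u v hu hv =>
        rw [map_mul, map_mul, map_mul]
        rcases hu with ⟨h1, h2⟩ | ⟨h1, h2⟩ <;> rcases hv with ⟨h3, h4⟩ | ⟨h3, h4⟩ <;> rw [h1, h2, h3, h4]
        · left; simp
        · right; simp
        · right; simp
        · left; exact ⟨ha2, by decide⟩
  have hker : commutator Fi24 = sgn.ker := by
    refine le_antisymm (Abelianization.commutator_subset_ker sgn) fun z hz => ?_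
    rcases hdich z with ⟨h1, -⟩ | ⟨-, h2⟩
    · rwa [← Abelianization.ker_of, MonoidHom.mem_ker]
    · rw [MonoidHom.mem_ker, h2] at hz
      exact absurd hz (by decide)
  have hsurj : Function.Surjective sgn := by
    intro m
    revert m
    have : ∀ m : Multiplicative (ZMod 2), m = 1 ∨ m = Multiplicative.ofAdd 1 := by decide
    intro m
    rcases this m with rfl | rfl
    · exact ⟨1, map_one _⟩
    · exact ⟨_, sgn_of .l⟩
  rw [hker, Subgroup.index_ker, MonoidHom.range_eq_top.mpr hsurj, Subgroup.card_top]
  simp

end Cfsg.Agent.S1691
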