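import Cfsg.Statements.S1708
import Cfsg.Agent.Lib.HNDouble.Main
import Cfsg.Agent.Lib.HNRep.Main

set_option autoImplicit false
open Cfsg

namespace Cfsg.Agent.S1708

open CfsgLib.HNDouble in
theorem rels_extra : (rels.all fun l =>
    decide (l = rels.getD 8 []) || decide (wv Cfsg.Spor.HN.x Cfsg.Spor.HN.y Cfsg.Spor.HN.z l = 1) ||
      Cfsg.Spor.HN.extra.any fun r => decide (wv Cfsg.Spor.HN.x Cfsg.Spor.HN.y Cfsg.Spor.HN.z l = r)) = true := by
  decide +kernel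

/-- In the presented Harada–Norton group, the subgroup N generated by the images of x, y, z has a normal subgroup of index 2 which is a non-split double cover of the Higman–Sims group. -/
theorem result : ∃ K : Subgroup (((Subgroup.closure ({Cfsg.Spor.HN.x, Cfsg.Spor.HN.y, Cfsg.Spor.HN.z} : Set (FreeGroup Cfsg.Spor.HN.Gen))).map (PresentedGroup.mk (Cfsg.Spor.coxRelators Cfsg.Spor.HN.edges ∪ {r | r ∈ Cfsg.Spor.HN.extra})))), K.Normal ∧ K.index = 2 ∧ Cfsg.IsNonsplitDoubleCover K Cfsg.Spor.HS := by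
  let π : FreeGroup Cfsg.Spor.HN.Gen →* Cfsg.Spor.HN :=
    PresentedGroup.mk (Cfsg.Spor.coxRelators Cfsg.Spor.HN.edges ∪ {r | r ∈ Cfsg.Spor.HN.extra})
  have hone : ∀ r ∈ Cfsg.Spor.HN.extra, π r = 1 := fun r hr => PresentedGroup.one_of_mem (Or.inr hr)
  have hrels : CfsgLib.HNDouble.RelsHold (π Cfsg.Spor.HN.x) (π Cfsg.Spor.HN.y) (π Cfsg.Spor.HN.z) := by
    intro l hl
    have h := List.all_eq_true.1 rels_extra l hl
    simp only [Bool.or_eq_true, decide_eq_true_eq, List.any_eq_true] at h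
    rcases h with (h | h) | ⟨r, hr, h⟩
    · subst h
      have hz : (π Cfsg.Spor.HN.z)⁻¹ = π Cfsg.Spor.HN.z := inv_eq_of_mul_eq_one_right (by
        rw [← map_mul, ← pow_two]; exact hone _ (by simp [Cfsg.Spor.HN.extra]))
      have e := hone ((Cfsg.Spor.HN.z⁻¹ * (Cfsg.Spor.HN.y * Cfsg.Spor.HN.x * Cfsg.Spor.HN.y * Cfsg.Spor.HN.x * (Cfsg.Spor.HN.y ^ 2) * Cfsg.Spor.HN.x * (Cfsg.Spor.HN.y⁻¹))⁻¹ * Cfsg.Spor.HN.z * (Cfsg.Spor.HN.y * Cfsg.Spor.HN.x * Cfsg.Spor.HN.y * Cfsg.Spor.HN.x * (Cfsg.Spor.HN.y ^ 2) * Cfsg.Spor.HN.x * (Cfsg.Spor.HN.y⁻¹))) * ((Cfsg.Spor.HN.x ^ 2)⁻¹))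
        (by simp [Cfsg.Spor.HN.extra])
      simpa [CfsgLib.HNDouble.wv, CfsgLib.HNDouble.lt, CfsgLib.HNDouble.rels, map_mul, map_inv, pow_two,
        hz, mul_assoc] using e
    · rw [← CfsgLib.HNDouble.map_wv, h, map_one]
    · rw [← CfsgLib.HNDouble.map_wv, h, hone r hr]
  obtain ⟨R, _, φ, hφx, hφt⟩ := CfsgLib.HNRep.exists_rep
  have hyp : CfsgLib.HNDouble.Hyp (π Cfsg.Spor.HN.x) (π Cfsg.Spor.HN.y) (π Cfsg.Spor.HN.z) (π Cfsg.Spor.HN.t) := by
    refine ⟨hrels, ?_, ?_, ?_, ?_, ?_, ?_, fun e => hφt ?_⟩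
    · rw [← map_pow]; exact hone _ (by simp [Cfsg.Spor.HN.extra])
    · have e := hone ((Cfsg.Spor.HN.x⁻¹ * Cfsg.Spor.HN.t * Cfsg.Spor.HN.x) * (Cfsg.Spor.HN.t ^ 2))
        (by simp [Cfsg.Spor.HN.extra])
      rw [map_mul, map_mul, map_mul, map_inv, map_pow] at e
      exact e
    · have e := hone (Cfsg.Spor.HN.t⁻¹ * Cfsg.Spor.HN.y⁻¹ * Cfsg.Spor.HN.t * Cfsg.Spor.HN.y)
        (by simp [Cfsg.Spor.HN.extra])
      simp only [map_mul, map_inv, mul_assoc, inv_mul_eq_one] at e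
      rw [eq_inv_mul_iff_mul_eq] at e
      exact e
    · rw [← map_mul, ← map_pow]; exact hone _ (by simp [Cfsg.Spor.HN.extra])
    · rw [eq_top_iff, ← PresentedGroup.closure_range_of, Subgroup.closure_le]
      rintro _ ⟨i, rfl⟩
      cases i <;> exact Subgroup.subset_closure (by simp [π, PresentedGroup.of])
    · intro e
      exact hφx (by rw [pow_two, ← map_mul]; exact (congrArg φ e).trans (map_one φ))
    · exact (congrArg φ e).trans (map_one φ)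
  have hN : (Subgroup.closure ({Cfsg.Spor.HN.x, Cfsg.Spor.HN.y, Cfsg.Spor.HN.z} : Set (FreeGroup Cfsg.Spor.HN.Gen))).map π =
      Subgroup.closure {π Cfsg.Spor.HN.x, π Cfsg.Spor.HN.y, π Cfsg.Spor.HN.z} := by
    rw [MonoidHom.map_closure, Set.image_insert_eq, Set.image_insert_eq, Set.image_singleton]
  show ∃ K : Subgroup ((Subgroup.closure ({Cfsg.Spor.HN.x, Cfsg.Spor.HN.y, Cfsg.Spor.HN.z} :
    Set (FreeGroup Cfsg.Spor.HN.Gen))).map π), _
  rw [hN]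
  exact CfsgLib.HNDouble.double_cover_of_hyp hyp

end Cfsg.Agent.S1708
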