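import Cfsg.Statements.S1717
import Cfsg.Agent.Lib.AutPSL.Root

set_option autoImplicit false
open Cfsg

namespace Cfsg.Agent.S1717

open CfsgLib.AutPSL Matrix

local notation "L" => Matrix.SpecialLinearGroup (Fin 5) (ZMod 2)
local notation "M5" => Matrix (Fin 5) (Fin 5) (ZMod 2)

theorem ext' {A B : L} (h : (A : M5) = (B : M5)) : A = B := Subtype.ext h

/-- The matrix of an element. -/
abbrev mat (A : L) : M5 := A

theorem of_det : (!![1, 0, 0, 0, 0; 0, 0, 0, 0, 1; 0, 0, 1, 0, 0; 0, 0, 0, 1, 0; 0, 1, 0, 0, 0] : M5).det = 1 := by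
  decide +kernel

theorem x_spec : (!![1, 0, 0, 0, 0; 0, 0, 0, 0, 1; 0, 0, 1, 0, 0; 0, 0, 0, 1, 0; 0, 1, 0, 0, 0] : M5) * (1 + Matrix.single 0 4 1) =
    Matrix.transvection 0 1 1 * !![1, 0, 0, 0, 0; 0, 0, 0, 0, 1; 0, 0, 1, 0, 0; 0, 0, 0, 1, 0; 0, 1, 0, 0, 0] := by
  decide +kernel

theorem odd_index_uniTri : ¬ 2 ∣ (uniTri 5 (ZMod 2)).index := by
  haveI : Fact (Nat.Prime 2) := ⟨Nat.prime_two⟩
  intro h
  have h1 : Nat.card L ∣ Nat.card (GL (Fin 5) (ZMod 2)) :=
    Subgroup.card_dvd_of_injective (SpecialLinearGroup.toGL (n := Fin 5) (R := ZMod 2))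
      SpecialLinearGroup.toGL_injective
  rw [← Subgroup.card_mul_index (uniTri 5 (ZMod 2))] at h1
  have h2 : Nat.card (uniTri 5 (ZMod 2)) * 2 ∣ Nat.card (GL (Fin 5) (ZMod 2)) := (mul_dvd_mul_left _ h).trans h1
  rw [card_uniTri, Matrix.card_GL_field, Nat.card_zmod, ZMod.card] at h2
  revert h2
  simp [Fin.prod_univ_five]

theorem central_cases {A : L} (hA : A ∈ uniTri 5 (ZMod 2))
    (hc : ∀ B ∈ uniTri 5 (ZMod 2), A * B = B * A) :
    A = 1 ∨ mat A = Matrix.transvection 0 4 1 := by
  have hcomm : ∀ (k l : Fin 5) (_ : k < l) (i j : Fin 5),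
      (mat A * Matrix.single k l 1 : M5) i j = (Matrix.single k l 1 * mat A : M5) i j := by
    intro k l h i j
    have e : mat A * (1 + Matrix.single k l 1) = (1 + Matrix.single k l 1) * mat A :=
      congrArg mat (hc _ (transvection_mem_uniTri (F := ZMod 2) h 1))
    simp only [Matrix.mul_add, Matrix.add_mul, Matrix.mul_one, Matrix.one_mul] at e
    rw [add_left_cancel e]
  obtain ⟨htri, hdiag⟩ := mem_uniTri.mp hA
  have e01 : mat A 0 1 = 0 := by simpa using hcomm 1 4 (by decide) 0 4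
  have e02 : mat A 0 2 = 0 := by simpa using hcomm 2 4 (by decide) 0 4
  have e03 : mat A 0 3 = 0 := by simpa using hcomm 3 4 (by decide) 0 4
  have e12 : mat A 1 2 = 0 := by simpa using hcomm 2 4 (by decide) 1 4
  have e13 : mat A 1 3 = 0 := by simpa using hcomm 3 4 (by decide) 1 4
  have e23 : mat A 2 3 = 0 := by simpa using hcomm 3 4 (by decide) 2 4
  have e14 : mat A 1 4 = 0 := by simpa using (hcomm 0 1 (by decide) 0 4).symm
  have e24 : mat A 2 4 = 0 := by simpa using (hcomm 0 2 (by decide) 0 4).symm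
  have e34 : mat A 3 4 = 0 := by simpa using (hcomm 0 3 (by decide) 0 4).symm
  have hlow : ∀ i j : Fin 5, j < i → mat A i j = 0 := fun i j h => htri h
  rcases (by decide : ∀ v : ZMod 2, v = 0 ∨ v = 1) (mat A 0 4) with h4 | h4
  · left
    refine ext' ?_
    ext i j
    fin_cases i <;> fin_cases j <;> first
      | exact hdiag _
      | exact hlow _ _ (by decide)
      | (simp; assumption)
  · right
    ext i j
    fin_cases i <;> fin_cases j <;> first
      | exact (hdiag _).trans (by decide)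
      | exact (hlow _ _ (by decide)).trans (by decide)
      | (rw [Matrix.transvection]; simp; assumption)

theorem aux {G : Type*} [Group G] [Finite G] (s : Matrix.SpecialLinearGroup (Fin 5) (ZMod 2)) (hs : (s : Matrix (Fin 5) (Fin 5) (ZMod 2)) = Matrix.transvection 0 1 1) (z : G) (hz : orderOf z = 2) (C : Subgroup G) (hC : C = Subgroup.centralizer ({z} : Set G)) (e : C ≃* Subgroup.centralizer ({s} : Set (Matrix.SpecialLinearGroup (Fin 5) (ZMod 2)))) (T : Sylow 2 C) : ¬ 2 ∣ ((T : Subgroup C).map C.subtype).index := by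
  haveI : Fact (Nat.Prime 2) := ⟨Nat.prime_two⟩
  set Cs := Subgroup.centralizer ({s} : Set L) with hCs
  obtain ⟨x, hx⟩ : ∃ x : L, mat x = !![1, 0, 0, 0, 0; 0, 0, 0, 0, 1; 0, 0, 1, 0, 0; 0, 0, 0, 1, 0; 0, 1, 0, 0, 0] :=
    ⟨⟨!![1, 0, 0, 0, 0; 0, 0, 0, 0, 1; 0, 0, 1, 0, 0; 0, 0, 0, 1, 0; 0, 1, 0, 0, 0], of_det⟩, rfl⟩
  set t : L := SpecialLinearGroup.transvection (show (0 : Fin 5) ≠ 4 by decide) (1 : ZMod 2) with ht
  have hts : x * t * x⁻¹ = s := by
    rw [mul_inv_eq_iff_eq_mul]
    refine ext' ?_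
    show mat x * (1 + Matrix.single 0 4 1) = (s : M5) * mat x
    rw [hx, hs]
    exact x_spec
  set U : Subgroup L := (uniTri 5 (ZMod 2)).map (MulAut.conj x).toMonoidHom with hU
  have hUle : U ≤ Cs := by
    rintro _ ⟨u, hu, rfl⟩
    rw [hCs, Subgroup.mem_centralizer_singleton_iff]
    have hcu : u * t = t * u := by
      refine ext' ?_
      show mat u * (1 + Matrix.single 0 4 1) = (1 + Matrix.single 0 4 1) * mat u
      rw [Matrix.mul_add, Matrix.add_mul, Matrix.mul_one, Matrix.one_mul]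
      congr 1
      obtain ⟨htri, hdiag⟩ := mem_uniTri.mp hu
      ext i j
      rw [Matrix.mul_apply, Matrix.mul_apply]
      simp only [Matrix.single_apply, mul_ite, mul_one, mul_zero, ite_mul, one_mul, zero_mul]
      fin_cases i <;> fin_cases j <;>
        (simp [hdiag]; try first | exact htri (show id (1 : Fin 5) > id 0 by decide) | exact (htri (show id (1 : Fin 5) > id 0 by decide)).symm | exact htri (show id (2 : Fin 5) > id 0 by decide) | exact (htri (show id (2 : Fin 5) > id 0 by decide)).symm | exact htri (show id (2 : Fin 5) > id 1 by decide) | exact (htri (show id (2 : Fin 5) > id 1 by decide)).symm | exact htri (show id (3 : Fin 5) > id 0 by decide) | exact (htri (show id (3 : Fin 5) > id 0 by decide)).symm | exact htri (show id (3 : Fin 5) > id 1 by decide) | exact (htri (show id (3 : Fin 5) > id 1 by decide)).symm | exact htri (show id (3 : Fin 5) > id 2 by decide) | exact (htri (show id (3 : Fin 5) > id 2 by decide)).symm | exact htri (show id (4 : Fin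 5) > id 0 by decide) | exact (htri (show id (4 : Fin 5) > id 0 by decide)).symm | exact htri (show id (4 : Fin 5) > id 1 by decide) | exact (htri (show id (4 : Fin 5) > id 1 by decide)).symm | exact htri (show id (4 : Fin 5) > id 2 by decide) | exact (htri (show id (4 : Fin 5) > id 2 by decide)).symm | exact htri (show id (4 : Fin 5) > id 3 by decide) | exact (htri (show id (4 : Fin 5) > id 3 by decide)).symm)
    simp only [MulEquiv.coe_toMonoidHom, MulAut.conj_apply, ← hts]
    rw [show x * u * x⁻¹ * (x * t * x⁻¹) = x * (u * t) * x⁻¹ by group, hcu]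
    group
  have hUodd : ¬ 2 ∣ U.index := by
    rw [hU, show (MulAut.conj x).toMonoidHom = ((MulAut.conj x : L ≃* L) : L →* L) from rfl, Subgroup.index_map_equiv]; exact odd_index_uniTri
  have hUp : IsPGroup 2 U := (isPGroup_uniTri (F := ZMod 2) (n := 5) 2).map _
  have hS : ¬ 2 ∣ (U.subgroupOf Cs).index := fun h => hUodd (h.trans (Subgroup.relIndex_dvd_index_of_le hUle))
  set S : Sylow 2 Cs := (hUp.comap_subtype).toSylow hS with hSdef
  obtain ⟨g, hg⟩ := MulAction.exists_smul_eq Cs (T.comapOfInjective e.symm.toMonoidHom e.symm.injective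
    (fun y _ => ⟨e y, by simp⟩)) S
  -- the centre of `T` consists of `1` and `z`
  have hsC : s ∈ Cs := by rw [hCs, Subgroup.mem_centralizer_singleton_iff]
  have hcen : ∀ c : C, c ∈ (T : Subgroup C) → (∀ d ∈ (T : Subgroup C), c * d = d * c) →
      c = 1 ∨ e c = g⁻¹ * ⟨s, hsC⟩ * g := by
    intro c hc hcomm
    have hmem : ∀ d : C, d ∈ (T : Subgroup C) → g * e d * g⁻¹ ∈ (S : Subgroup Cs) := by
      intro d hd
      rw [← hg, Sylow.coe_subgroup_smul, Subgroup.mem_pointwise_smul_iff_inv_smul_mem, MulAut.smul_def,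
        ← map_inv, MulAut.conj_apply]
      show e.symm (g⁻¹ * (g * e d * g⁻¹) * g⁻¹⁻¹) ∈ (T : Subgroup C)
      simp [mul_assoc, hd]
    have hsurj : ∀ y : Cs, y ∈ (S : Subgroup Cs) → e.symm (g⁻¹ * y * g) ∈ (T : Subgroup C) := by
      intro y hy
      rw [← hg, Sylow.coe_subgroup_smul, Subgroup.mem_pointwise_smul_iff_inv_smul_mem, MulAut.smul_def,
        ← map_inv, MulAut.conj_apply, inv_inv] at hy
      exact hy
    set w : Cs := g * e c * g⁻¹ with hw
    have hwU : (w : L) ∈ U := hmem c hc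
    obtain ⟨A, hA, hAw⟩ := hwU
    simp only [MulEquiv.coe_toMonoidHom, MulAut.conj_apply] at hAw
    have hAc : ∀ B ∈ uniTri 5 (ZMod 2), A * B = B * A := by
      intro B hB
      have hyU : x * B * x⁻¹ ∈ U := ⟨B, hB, by simp⟩
      set y : Cs := ⟨x * B * x⁻¹, hUle hyU⟩ with hy
      have h := congrArg e (hcomm _ (hsurj y hyU))
      simp only [map_mul, MulEquiv.apply_symm_apply] at h
      have h' : w * y = y * w := by
        calc w * y = g * (e c * (g⁻¹ * y * g)) * g⁻¹ := by rw [hw]; group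
          _ = g * ((g⁻¹ * y * g) * e c) * g⁻¹ := by rw [h]
          _ = y * w := by rw [hw]; group
      have h'' : (x * A * x⁻¹) * (x * B * x⁻¹) = (x * B * x⁻¹) * (x * A * x⁻¹) := by
        rw [hAw]
        have h3 := congrArg (fun a : Cs => (a : L)) h'
        simp only [Subgroup.coe_mul] at h3
        exact h3
      calc A * B = x⁻¹ * ((x * A * x⁻¹) * (x * B * x⁻¹)) * x := by group
        _ = x⁻¹ * ((x * B * x⁻¹) * (x * A * x⁻¹)) * x := by rw [h'']
        _ = B * A := by group
    rcases central_cases hA hAc with h | h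
    · left
      apply e.injective
      rw [map_one]
      have : (w : L) = 1 := by rw [← hAw, h]; group
      have hw1 : w = 1 := Subtype.ext this
      rw [hw, conj_eq_one_iff] at hw1
      exact hw1
    · right
      have hAt : A = t := ext' h
      have hws : w = ⟨s, hsC⟩ := Subtype.ext (by rw [← hAw, hAt, hts])
      rw [← hws, hw]; group
  have hzC : z ∈ C := by rw [hC, Subgroup.mem_centralizer_singleton_iff]
  have hzcen : ∀ d : C, (⟨z, hzC⟩ : C) * d = d * ⟨z, hzC⟩ := fun d =>
    Subtype.ext ((Subgroup.mem_centralizer_singleton_iff.mp (hC ▸ d.2 : (d : G) ∈ Subgroup.centralizer ({z} : Set G))).symm)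
  have hz1 : (⟨z, hzC⟩ : C) ≠ 1 := by
    intro h
    rw [show z = 1 from congrArg Subtype.val h, orderOf_one] at hz
    omega
  have hzT : (⟨z, hzC⟩ : C) ∈ (T : Subgroup C) := by
    have hp : IsPGroup 2 (Subgroup.zpowers (⟨z, hzC⟩ : C)) :=
      IsPGroup.of_card (n := 1) (by rw [Nat.card_zpowers, ← Subgroup.orderOf_coe, pow_one]; exact hz)
    obtain ⟨P, hP⟩ := hp.exists_le_sylow
    obtain ⟨d, hd⟩ := MulAction.exists_smul_eq C P T
    rw [← hd, Sylow.coe_subgroup_smul, Subgroup.mem_pointwise_smul_iff_inv_smul_mem, MulAut.smul_def,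
      ← map_inv, MulAut.conj_apply, inv_inv, mul_assoc, hzcen, inv_mul_cancel_left]
    exact hP (Subgroup.mem_zpowers _)
  intro hdvd
  set T' : Subgroup G := (T : Subgroup C).map C.subtype with hT'
  have hT'p : IsPGroup 2 T' := T.isPGroup'.map _
  obtain ⟨P, hP⟩ := hT'p.exists_le_sylow
  have hne : T' < P := by
    refine lt_of_le_of_ne hP fun h => ?_
    rw [h] at hdvd
    exact P.not_dvd_index hdvd
  haveI := P.isPGroup'.isNilpotent
  have hlt : T'.subgroupOf P < ⊤ :=
    lt_top_iff_ne_top.mpr fun h => hne.not_ge (Subgroup.subgroupOf_eq_top.mp h)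
  obtain ⟨n, hn, hn'⟩ := SetLike.exists_of_lt (Group.normalizerCondition_of_isNilpotent (G := (P : Subgroup G)) _ hlt)
  apply hn'
  rw [Subgroup.mem_normalizer_iff] at hn
  have hconj : ∀ d : G, d ∈ T' ↔ (n : G) * d * (n : G)⁻¹ ∈ T' := by
    intro d
    by_cases hd : d ∈ P
    · exact hn ⟨d, hd⟩
    · refine iff_of_false (fun h => hd (hP h)) fun h => hd ?_
      have : (n : G)⁻¹ * ((n : G) * d * (n : G)⁻¹) * (n : G) ∈ (P : Subgroup G) :=
        mul_mem (mul_mem (inv_mem n.2) (hP h)) n.2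
      exact (show d ∈ (P : Subgroup G) by simpa [mul_assoc] using this)
  have hzT' : z ∈ T' := ⟨_, hzT, rfl⟩
  obtain ⟨c, hc, hce⟩ := (hconj z).mp hzT'
  have hccomm : ∀ d ∈ (T : Subgroup C), c * d = d * c := by
    intro d hd
    have hd' : (n : G)⁻¹ * d * (n : G) ∈ T' := (hconj _).mpr (by rw [show (n : G) * ((n : G)⁻¹ * d * (n : G)) * (n : G)⁻¹ = d by group]; exact ⟨d, hd, rfl⟩)
    obtain ⟨d₀, -, hd₀⟩ := hd'
    apply Subtype.ext
    have hc' := congrArg Subtype.val (hzcen d₀)
    simp only [Subgroup.coe_mul, Subgroup.coe_subtype] at hc' hd₀ hce ⊢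
    rw [hce, show (d : G) = n * d₀ * (n : G)⁻¹ by rw [hd₀]; group]
    calc (n : G) * z * (n : G)⁻¹ * (n * d₀ * (n : G)⁻¹) = n * (z * d₀) * (n : G)⁻¹ := by group
      _ = n * (d₀ * z) * (n : G)⁻¹ := by rw [hc']
      _ = n * d₀ * (n : G)⁻¹ * (n * z * (n : G)⁻¹) := by group
  have hc1 : c ≠ 1 := by
    intro h
    rw [h, map_one] at hce
    rw [conj_eq_one_iff.mp hce.symm, orderOf_one] at hz
    omega
  have hcz : c = ⟨z, hzC⟩ :=
    e.injective (((hcen c hc hccomm).resolve_left hc1).trans ((hcen _ hzT fun d _ => hzcen d).resolve_left hz1).symm)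
  have hnC : (n : G) ∈ C := by
    rw [hC, Subgroup.mem_centralizer_singleton_iff]
    have : (n : G) * z * (n : G)⁻¹ = z := by rw [← hce, hcz]; rfl
    exact mul_inv_eq_iff_eq_mul.mp this
  -- a Sylow subgroup of `C` contains every `2`-element of `C` normalising it
  have hQ : IsPGroup 2 ((P : Subgroup G).subgroupOf C) := P.isPGroup'.comap_subtype
  have hTQ : (T : Subgroup C) ≤ (P : Subgroup G).subgroupOf C := fun d hd => hP ⟨d, hd, rfl⟩
  exact ⟨⟨(n : G), hnC⟩, (T.is_maximal' hQ hTQ) ▸ n.2, rfl⟩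

/-- Let G be a finite group with an involution z whose centraliser C is isomorphic to the centraliser of a transvection of SL(5, 2). Then a Sylow 2-subgroup of C, viewed in G, is a Sylow 2-subgroup of G (its index in G is odd). -/
theorem result {G : Type*} [Group G] [Finite G] (s : Matrix.SpecialLinearGroup (Fin 5) (ZMod 2)) (hs : (s : Matrix (Fin 5) (Fin 5) (ZMod 2)) = Matrix.transvection 0 1 1) (z : G) (hz : orderOf z = 2) (e : (Subgroup.centralizer ({z} : Set G)) ≃* Subgroup.centralizer ({s} : Set (Matrix.SpecialLinearGroup (Fin 5) (ZMod 2)))) (T : Sylow 2 (Subgroup.centralizer ({z} : Set G))) : ¬ 2 ∣ ((T : Subgroup (Subgroup.centralizer ({z} : Set G))).map (Subgroup.subtype (Subgroup.centralizer ({z} : Set G)))).index :=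
  aux s hs z hz _ rfl e T

end Cfsg.Agent.S1717
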