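import Cfsg.Statements.S1721
import Cfsg.Agent.Lib.J2Type.Centralizer
import Cfsg.Agent.Lib.KSteps.GFit
import Cfsg.Agent.Lib.Components.GenFitting
import Cfsg.Agent.Lib.F2Quad.SmallIso
import Mathlib.GroupTheory.SpecificGroups.Alternating.Centralizer
-- import your own Cfsg.Agent.* helpers here

set_option autoImplicit false
open Cfsg

namespace Cfsg.Agent.S1721

/-- The order of a group of Hall–Janko type: under the large-extraspecial hypothesis with Q of order 32, quotient Ω⁻(4, 2), z not weakly closed in Q, and more than one class of involutions, the group has order 2^7·3^3·5^2·7 = 604800. -/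
theorem result {G : Type*} [Group G] [Finite G] (z : G) (hz : orderOf z = 2) (Q : Subgroup (Subgroup.centralizer ({z} : Set G))) [Q.Normal] (hF : Cfsg.generalizedFittingSubgroup (Subgroup.centralizer ({z} : Set G)) = Q) (hQ : Cfsg.IsExtraspecial 2 Q) (hcard : Nat.card Q = 2 ^ 5) (e : (Subgroup.centralizer ({z} : Set G)) ⧸ Q ≃* Cfsg.Omega (ZMod 2) (Cfsg.quadFormMinus 1 (ZMod 2) 1 1)) (hnwc : ∃ g : G, (∃ hq : g * z * g⁻¹ ∈ Subgroup.centralizer ({z} : Set G), (⟨g * z * g⁻¹, hq⟩ : Subgroup.centralizer ({z} : Set G)) ∈ Q) ∧ g * z * g⁻¹ ≠ z) (hcl : ∃ x y : G, orderOf x = 2 ∧ orderOf y = 2 ∧ ¬ IsConj x y) : Nat.card G = 604800 := by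
  classical
  haveI : Fact (Nat.Prime 2) := ⟨Nat.prime_two⟩
  have hzC : z ∈ Subgroup.centralizer ({z} : Set G) := Subgroup.mem_centralizer_singleton_iff.2 rfl
  obtain ⟨eo⟩ := CfsgLib.F2Quad.nonempty_goMinus_four_equiv (ZMod 2) (ZMod.card 2)
  have hcomA : (commutator (Cfsg.isometryGroup (ZMod 2) (Cfsg.quadFormMinus 1 (ZMod 2) 1 1))).map
      eo.toMonoidHom = alternatingGroup (Fin 5) := by
    rw [commutator_def, Subgroup.map_commutator, Subgroup.map_top_of_surjective eo.toMonoidHom eo.surjective,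
      ← commutator_def]
    exact alternatingGroup.commutator_perm_eq (by simp)
  let eA : (Subgroup.centralizer ({z} : Set G)) ⧸ Q ≃* alternatingGroup (Fin 5) :=
    e.trans ((eo.subgroupMap _).trans (MulEquiv.subgroupCongr hcomA))
  let f : ↥(Subgroup.centralizer ({z} : Set G)) →* alternatingGroup (Fin 5) :=
    eA.toMonoidHom.comp (QuotientGroup.mk' Q)
  have hfaithP : Subgroup.centralizer (Q : Set ↥(Subgroup.centralizer ({z} : Set G))) ≤ Q := by
    have h := CfsgLib.Components.centralizer_genFitting_le (G := ↥(Subgroup.centralizer ({z} : Set G)))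
    rwa [hF] at h
  have hzP : (⟨z, hzC⟩ : ↥(Subgroup.centralizer ({z} : Set G))) ∈ Q := hF ▸ CfsgLib.KSteps.center_le_gfit _
    (Subgroup.mem_center_iff.2 fun g => Subtype.ext (Subgroup.mem_centralizer_singleton_iff.1 g.2))
  have hz1 : z ≠ 1 := fun h => by rw [h, orderOf_one] at hz; omega
  have hmemQ : ∀ h : ↥(Subgroup.centralizer ({z} : Set G)), (h : G) ∈ Q.map (Subgroup.centralizer ({z} : Set G)).subtype ↔ h ∈ Q := fun h => by
    constructor
    · rintro ⟨p, hp, he⟩
      rwa [show h = p from Subtype.ext he.symm]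
    · exact fun hh => ⟨h, hh, rfl⟩
  -- extraspecial facts
  have hcen : ∀ p : ↥Q, p ∈ Subgroup.center ↥Q → p = 1 ∨ p = ⟨⟨z, hzC⟩, hzP⟩ := by
    intro p hp
    have hzc : (⟨⟨z, hzC⟩, hzP⟩ : ↥Q) ∈ Subgroup.center ↥Q := Subgroup.mem_center_iff.2 fun g =>
      Subtype.ext (Subtype.ext (Subgroup.mem_centralizer_singleton_iff.1 g.1.2))
    by_cases hp1 : p = 1
    · exact Or.inl hp1
    right
    by_contra hne
    have h2 := hQ.2
    haveI := Fintype.ofFinite (Subgroup.center ↥Q)
    rw [Nat.card_eq_fintype_card] at h2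
    have := Finset.card_le_univ ({1, ⟨p, hp⟩, ⟨_, hzc⟩} : Finset (Subgroup.center ↥Q))
    rw [Finset.card_insert_of_notMem, Finset.card_pair, h2] at this
    · omega
    · exact fun h => hne (congrArg Subtype.val h)
    · simp only [Finset.mem_insert, Finset.mem_singleton, not_or]
      refine ⟨fun h => hp1 (congrArg Subtype.val h).symm, fun h => hz1 ?_⟩
      exact (congrArg (fun c : Subgroup.center ↥Q => ((c.1.1 : ↥(Subgroup.centralizer ({z} : Set G))) : G)) h).symm
  have hcomm' : ∀ p q : ↥Q, p * q = q * p ∨ p * q = q * p * ⟨⟨z, hzC⟩, hzP⟩ := by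
    intro p q
    have hm : p⁻¹ * q⁻¹ * p * q ∈ Subgroup.center ↥Q := by
      rw [← hQ.1.2.2, commutator_def]
      have := Subgroup.commutator_mem_commutator (H₁ := (⊤ : Subgroup ↥Q)) (H₂ := ⊤)
        (Subgroup.mem_top p⁻¹) (Subgroup.mem_top q⁻¹)
      simpa [commutatorElement_def] using this
    rcases hcen _ hm with h | h
    · left
      have := congrArg (fun c => q * p * c) h
      simpa [mul_assoc] using this
    · right
      have := congrArg (fun c => q * p * c) h
      simpa [mul_assoc] using this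
  have hsq' : ∀ p : ↥Q, p * p = 1 ∨ p * p = ⟨⟨z, hzC⟩, hzP⟩ := by
    intro p
    refine hcen _ (Subgroup.mem_center_iff.2 fun g => ?_)
    rcases hcomm' g p with h | h
    · calc g * (p * p) = g * p * p := (mul_assoc _ _ _).symm
        _ = p * g * p := by rw [h]
        _ = p * (g * p) := mul_assoc _ _ _
        _ = p * (p * g) := by rw [h]
        _ = p * p * g := (mul_assoc _ _ _).symm
    · set c : ↥Q := ⟨⟨z, hzC⟩, hzP⟩
      have hcc : c * c = 1 := Subtype.ext (Subtype.ext (CfsgLib.Invol.mul_self_eq_one hz))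
      have hcp : Commute c p := Subtype.ext (Subtype.ext
        (Subgroup.mem_centralizer_singleton_iff.1 p.1.2).symm)
      calc g * (p * p) = g * p * p := (mul_assoc _ _ _).symm
        _ = p * g * (c * p) := by rw [h, mul_assoc]
        _ = p * g * (p * c) := by rw [hcp.eq]
        _ = p * (g * p) * c := by group
        _ = p * p * g * (c * c) := by rw [h]; group
        _ = p * p * g := by rw [hcc, mul_one]
  have hH : CfsgLib.J2Type.Hyp z (Q.map (Subgroup.centralizer ({z} : Set G)).subtype) f :=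
    { hz := hz
      hQle := Subgroup.map_subtype_le Q
      hker := fun h => by
        rw [hmemQ]
        show eA (QuotientGroup.mk h) = 1 ↔ _
        rw [MulEquiv.map_eq_one_iff, QuotientGroup.eq_one_iff]
      hsurj := eA.surjective.comp (QuotientGroup.mk'_surjective Q)
      hQ := by rw [Subgroup.card_map_of_injective (Subgroup.centralizer ({z} : Set G)).subtype_injective, hcard]; norm_num
      hzQ := (hmemQ ⟨z, hzC⟩).2 hzP
      hsq := by
        rintro _ ⟨q, hq, rfl⟩
        rcases hsq' ⟨q, hq⟩ with h | h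
        · exact Or.inl (congrArg (fun c : ↥Q => ((c.1 : ↥(Subgroup.centralizer ({z} : Set G))) : G)) h)
        · exact Or.inr (congrArg (fun c : ↥Q => ((c.1 : ↥(Subgroup.centralizer ({z} : Set G))) : G)) h)
      hcomm := by
        rintro _ ⟨p, hp, rfl⟩ _ ⟨q, hq, rfl⟩
        rcases hcomm' ⟨p, hp⟩ ⟨q, hq⟩ with h | h
        · exact Or.inl (congrArg (fun c : ↥Q => ((c.1 : ↥(Subgroup.centralizer ({z} : Set G))) : G)) h)
        · exact Or.inr (congrArg (fun c : ↥Q => ((c.1 : ↥(Subgroup.centralizer ({z} : Set G))) : G)) h)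
      hcent := by
        rintro _ ⟨p, hp, rfl⟩ hall
        rcases hcen ⟨p, hp⟩ (Subgroup.mem_center_iff.2 fun g =>
          Subtype.ext (Subtype.ext (hall _ ((hmemQ g.1).2 g.2)).symm)) with h | h
        · exact Or.inl (congrArg (fun c : ↥Q => ((c.1 : ↥(Subgroup.centralizer ({z} : Set G))) : G)) h)
        · exact Or.inr (congrArg (fun c : ↥Q => ((c.1 : ↥(Subgroup.centralizer ({z} : Set G))) : G)) h)
      hfaith := fun h hh => (hmemQ h).2 (hfaithP (Subgroup.mem_centralizer_iff.2 fun q hq =>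
        Subtype.ext (hh _ ((hmemQ q).2 hq)).eq.symm))
      hnwc := by
        obtain ⟨g, ⟨hq, hgQ⟩, hgne⟩ := hnwc
        exact ⟨g * z * g⁻¹, (hmemQ ⟨_, hq⟩).2 hgQ, hgne, isConj_iff.2 ⟨g, rfl⟩⟩ }
  obtain ⟨x, y, hx, hy, hxy⟩ := hcl
  by_cases hzx : IsConj z x
  · exact hH.card_group hy fun hzy => hxy (hzx.symm.trans hzy)
  · exact hH.card_group hx hzx

end Cfsg.Agent.S1721
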