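import Cfsg.Statements.S1743
import Cfsg.Agent.Lib.G2Fusion.Classes
import Cfsg.Agent.Lib.G2Fusion.Sylow

set_option autoImplicit false
open Cfsg

namespace Cfsg.Agent.S1743

/-- Let G be a finite simple group whose Sylow 2-subgroups are isomorphic to a Sylow 2-subgroup of the Chevalley group of type G₂ over a finite field of odd order, and let S be a Sylow 2-subgroup of G. Then either all involutions of G are conjugate, or S has order 64 and the involutions of G form exactly two conjugacy classes. -/
theorem result {G : Type*} [Group G] [Finite G] [IsSimpleGroup G]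
    {F : Type*} [Field F] [Fintype F] (hF : Odd (Fintype.card F)) (S : Sylow 2 G) (P : Sylow 2 ↥(Cfsg.Lie.chevG2.group F))
    (hS : Nonempty (↥(S : Subgroup G) ≃* ↥(P : Subgroup ↥(Cfsg.Lie.chevG2.group F)))) :
    (∀ x y : G, orderOf x = 2 → orderOf y = 2 → IsConj x y) ∨
      (Nat.card ↥(S : Subgroup G) = 64 ∧ ∃ x y : G, orderOf x = 2 ∧ orderOf y = 2 ∧ ¬ IsConj x y ∧
        ∀ z : G, orderOf z = 2 → IsConj z x ∨ IsConj z y) := by
  obtain ⟨n, R, hcard⟩ := CfsgLib.G2Fusion.exists_sylow_rel hF P
  obtain ⟨e⟩ := hS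
  let RG := (R.map e.symm.toMonoidHom e.symm.injective).map (S : Subgroup G).subtype (Subgroup.subtype_injective _)
  have hc : Nat.card ↥(S : Subgroup G) = 2 ^ (2 * n + 2) := (Nat.card_congr e.toEquiv).trans hcard
  have hfull : RG.Full (S : Subgroup G) :=
    RG.full_of_card (SetLike.coe_mem _) (SetLike.coe_mem _) (SetLike.coe_mem _) (SetLike.coe_mem _) hc
  rcases CfsgLib.G2Fusion.classes (S := S) hfull with h | ⟨h2, h⟩
  · exact Or.inl h
  · exact Or.inr ⟨by rw [hc, h2]; norm_num, h⟩

end Cfsg.Agent.S1743
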