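import Cfsg.Statements.S1753
import Mathlib.GroupTheory.Index

set_option autoImplicit false
universe u
open Cfsg

namespace Cfsg.Agent.S1753

/-- Let K be any property of groups. (1) If G is a minimal counterexample relative to K — a finite non-abelian simple group not satisfying K such that every finite non-abelian simple group of smaller order satisfies K — then every proper subgroup of G is a K-group (all its non-abelian simple sections satisfy K), since such sections have smaller order than G. (2) Consequently (induction on the order), if every finite non-abelian simple group all of whose proper subgroups are K-groups satisfies K, then every finite non-abelian simple group satisfies K. -/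
theorem result (K : ∀ (X : Type u) [Group X], Prop) :
    (∀ (G : Type u) [Group G], Cfsg.IsMinCounterexampleWith K G → Cfsg.IsKProperWith K G) ∧
      ((∀ (X : Type u) [Group X] [Finite X], IsSimpleGroup X → ¬ IsMulCommutative X → Cfsg.IsKProperWith K X → K X) →
        ∀ (G : Type u) [Group G] [Finite G], IsSimpleGroup G → ¬ IsMulCommutative G → K G) := by
  have hcard : ∀ {G : Type u} [Group G] [Finite G] (H : Subgroup G), H ≠ ⊤ →
      ∀ (H' : Subgroup ↥H) (N : Subgroup ↥H'), Nat.card (↥H' ⧸ N) < Nat.card G := by
    intro G _ _ H hH H' N
    calc Nat.card (↥H' ⧸ N) ≤ Nat.card ↥H' :=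
          Nat.card_le_card_of_surjective _ Quotient.mk_surjective
      _ ≤ Nat.card ↥H := H'.card_le_card_group
      _ < Nat.card G := lt_of_le_of_ne H.card_le_card_group fun h => hH (Subgroup.eq_top_of_card_eq H h)
  constructor
  · intro G _ hG H hH H' N _ hs hn
    obtain ⟨hfin, -, -, -, hsmall⟩ := hG
    exact hsmall _ hs hn (hcard H hH H' N)
  · intro hyp
    suffices ∀ (n : ℕ) (G : Type u) [Group G] [Finite G],
        Nat.card G = n → IsSimpleGroup G → ¬ IsMulCommutative G → K G from
      fun G _ _ => this _ G rfl
    intro n
    induction n using Nat.strong_induction_on with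
    | _ n ih =>
      intro G _ _ hn hs hnc
      refine hyp G hs hnc fun H hH H' N _ hs' hn' => ?_
      exact ih _ (hn ▸ hcard H hH H' N) _ rfl hs' hn'

end Cfsg.Agent.S1753
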