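import Cfsg.Statements.S1754
import Mathlib.GroupTheory.IsSubnormal

set_option autoImplicit false
open Cfsg

namespace Cfsg.Agent.S1754

/-- Let A be a standard subgroup of the finite group G (A quasisimple, C_G(A) tightly embedded of even order, A commuting elementwise with no other conjugate of itself, and N_G(A) = N_G(C_G(A))), and let t be an involution of G centralizing A. Then the centralizer of t lies in the normalizer of A; in particular A, viewed inside C_G(t), is a component of C_G(t). -/
theorem result {G : Type*} [Group G] [Finite G]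
    (A : Subgroup G) (hA : Cfsg.IsStandardSubgroup A) (t : G) (ht : orderOf t = 2) (htA : t ∈ Subgroup.centralizer (A : Set G)) :
    Subgroup.centralizer ({t} : Set G) ≤ Subgroup.normalizer (A : Set G) ∧
      Cfsg.IsComponent (A.subgroupOf (Subgroup.centralizer ({t} : Set G))) := by
  obtain ⟨hq, ⟨-, hte⟩, -, hN⟩ := hA
  set K := Subgroup.centralizer (A : Set G) with hK
  have h1 : Subgroup.centralizer ({t} : Set G) ≤ Subgroup.normalizer (A : Set G) := by
    intro g hg
    rw [hN]
    by_contra hgn
    have hodd := hte g hgn
    have hgt : g * t = t * g := Subgroup.mem_centralizer_singleton_iff.mp hg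
    have hmem : t ∈ K ⊓ K.map (MulAut.conj g).toMonoidHom :=
      ⟨htA, t, htA, by simp [MulAut.conj_apply, hgt]⟩
    have hdvd : 2 ∣ Nat.card ↥(K ⊓ K.map (MulAut.conj g).toMonoidHom) := by
      have := Subgroup.orderOf_dvd_natCard _ hmem
      rwa [ht] at this
    exact Nat.not_even_iff_odd.mpr hodd (even_iff_two_dvd.mpr hdvd)
  refine ⟨h1, ?_⟩
  have hAC : A ≤ Subgroup.centralizer ({t} : Set G) := fun a ha =>
    Subgroup.mem_centralizer_singleton_iff.mpr (Subgroup.mem_centralizer_iff.mp htA a ha)
  set C := Subgroup.centralizer ({t} : Set G)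
  have hn : (A.subgroupOf C).Normal := Subgroup.normal_subgroupOf_iff_le_normalizer hAC |>.mpr h1
  let e : ↥(A.subgroupOf C) ≃* ↥A := Subgroup.subgroupOfEquivOfLe hAC
  refine ⟨hn.isSubnormal, ?_⟩
  obtain ⟨hp, hs⟩ := hq
  constructor
  · have := hp
    exact Group.IsPerfect.ofSurjective (f := e.symm.toMonoidHom) e.symm.surjective
  · have hcen : (Subgroup.center ↥(A.subgroupOf C)).map e.toMonoidHom = Subgroup.center ↥A := by
      ext x
      constructor
      · rintro ⟨y, hy, rfl⟩
        refine Subgroup.mem_center_iff.mpr fun z => ?_
        have := congrArg e (Subgroup.mem_center_iff.mp hy (e.symm z))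
        simpa using this
      · intro hx
        refine ⟨e.symm x, Subgroup.mem_center_iff.mpr fun z => ?_, by simp⟩
        apply e.injective
        simpa using Subgroup.mem_center_iff.mp hx (e z)
    exact (QuotientGroup.congr _ _ e hcen).isSimpleGroup

end Cfsg.Agent.S1754
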