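import Cfsg.Statements.S1755
import Cfsg.Agent.Lib.KSteps.GFit

set_option autoImplicit false
open Cfsg

namespace Cfsg.Agent.S1755

theorem aux {G : Type*} [Group G] [Finite G] (z : G) (hz : orderOf z = 2) (C : Subgroup G)
    (hC : ∀ x, x ∈ C ↔ x * z = z * x)
    (hQ : Cfsg.IsOfSymplecticType ↥(Cfsg.generalizedFittingSubgroup ↥C))
    (B : Subgroup ↥(Cfsg.generalizedFittingSubgroup ↥C)) (hBc : B.Characteristic) (hBa : IsMulCommutative ↥B) (g : G) :
    ((B.map (Cfsg.generalizedFittingSubgroup ↥C).subtype).map C.subtype).map (MulAut.conj g).toMonoidHom =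
        (B.map (Cfsg.generalizedFittingSubgroup ↥C).subtype).map C.subtype ∨
      ((B.map (Cfsg.generalizedFittingSubgroup ↥C).subtype).map C.subtype).map (MulAut.conj g).toMonoidHom ⊓
        (B.map (Cfsg.generalizedFittingSubgroup ↥C).subtype).map C.subtype = ⊥ := by
  have ht2 := hz
  rcases eq_or_ne B ⊥ with hb | hb
  · left
    rw [hb]
    simp
  by_cases hg : g ∈ C
  · left
    have hFn : (Cfsg.generalizedFittingSubgroup ↥C).Normal := CfsgLib.KSteps.gfit_normal _
    have hBn : (B.map (Cfsg.generalizedFittingSubgroup ↥C).subtype).Normal := by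
      have := hBc
      infer_instance
    ext x
    constructor
    · rintro ⟨y, ⟨b, hb, rfl⟩, rfl⟩
      exact ⟨⟨g, hg⟩ * b * (⟨g, hg⟩ : ↥C)⁻¹, hBn.conj_mem _ hb _, by simp [MulAut.conj_apply]⟩
    · rintro ⟨b, hb, rfl⟩
      refine ⟨_, ⟨(⟨g, hg⟩ : ↥C)⁻¹ * b * (⟨g, hg⟩ : ↥C)⁻¹⁻¹, hBn.conj_mem _ hb _, rfl⟩, ?_⟩
      simp [MulAut.conj_apply, mul_assoc]
  right
  have hzC : z ∈ C := (hC z).mpr rfl
  have hz2 : z ^ 2 = 1 := by rw [← ht2]; exact pow_orderOf_eq_one z
  have hz1 : z ≠ 1 := fun h => by rw [h, orderOf_one] at ht2; omega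
  have hzc : (⟨z, hzC⟩ : ↥C) ∈ Subgroup.center ↥C := Subgroup.mem_center_iff.mpr fun x =>
    Subtype.ext ((hC x).mp x.2)
  have hzF : (⟨z, hzC⟩ : ↥C) ∈ Cfsg.generalizedFittingSubgroup ↥C := CfsgLib.KSteps.center_le_gfit _ hzc
  have hzB : (⟨⟨z, hzC⟩, hzF⟩ : ↥(Cfsg.generalizedFittingSubgroup ↥C)) ∈ B := CfsgLib.KSteps.mem_of_symplecticType hQ B hBc hb
    (Subgroup.mem_center_iff.mpr fun x => Subtype.ext (Subgroup.mem_center_iff.mp hzc x.1))
    (Subtype.ext (Subtype.ext hz2)) (fun h => hz1 (congrArg (fun a : ↥(Cfsg.generalizedFittingSubgroup ↥C) => ((a : ↥C) : G)) h))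
  have hcy : IsCyclic ↥B := hQ.2 B hBc hBa
  rw [eq_bot_iff]
  rintro x ⟨hxg, hxB⟩
  rw [Subgroup.mem_bot]
  by_contra hx1
  -- a nontrivial intersection contains an involution, which must be both z and its conjugate
  have hB2 : IsPGroup 2 ↥((B.map (Cfsg.generalizedFittingSubgroup ↥C).subtype).map C.subtype) := ((hQ.1.to_subgroup B).map _).map _
  obtain ⟨k, hk⟩ := hB2 ⟨x, hxB⟩
  have hk' : x ^ 2 ^ k = 1 := congrArg Subtype.val hk
  classical
  have hex : ∃ j, x ^ (2 ^ j) = 1 := ⟨k, hk'⟩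
  obtain ⟨j, hj⟩ : ∃ j, Nat.find hex = j + 1 := by
    refine Nat.exists_eq_succ_of_ne_zero fun h0 => hx1 ?_
    have := Nat.find_spec hex
    rwa [h0, pow_zero, pow_one] at this
  set u := x ^ (2 ^ j) with hu
  have hu2 : u ^ 2 = 1 := by
    rw [hu, ← pow_mul, ← pow_succ, ← hj]; exact Nat.find_spec hex
  have hu1 : u ≠ 1 := Nat.find_min hex (by omega)
  have key : ∀ v ∈ ((B.map (Cfsg.generalizedFittingSubgroup ↥C).subtype).map C.subtype), v ^ 2 = 1 → v ≠ 1 → v = z := by
    rintro v ⟨v₁, ⟨v₂, hv₂, rfl⟩, rfl⟩ hv2 hv1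
    have h := @CfsgLib.KSteps.involution_eq_of_isCyclic ↥B _ _ hcy ⟨v₂, hv₂⟩ ⟨_, hzB⟩
      (Subtype.ext (Subtype.ext (Subtype.ext hv2))) (Subtype.ext (Subtype.ext (Subtype.ext hz2)))
      (fun h => hv1 (congrArg (fun a : ↥B => (((a : ↥(Cfsg.generalizedFittingSubgroup ↥C)) : ↥C) : G)) h))
      (fun h => hz1 (congrArg (fun a : ↥B => (((a : ↥(Cfsg.generalizedFittingSubgroup ↥C)) : ↥C) : G)) h))
    exact congrArg (fun a : ↥B => (((a : ↥(Cfsg.generalizedFittingSubgroup ↥C)) : ↥C) : G)) h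
  have huz : u = z := key u (((B.map (Cfsg.generalizedFittingSubgroup ↥C).subtype).map C.subtype).pow_mem hxB _) hu2 hu1
  obtain ⟨v, hv, hvu⟩ := (Subgroup.pow_mem _ hxg (2 ^ j) :
    u ∈ ((B.map (Cfsg.generalizedFittingSubgroup ↥C).subtype).map C.subtype).map (MulAut.conj g).toMonoidHom)
  have hvu' : MulAut.conj g v = u := hvu
  have hv2 : v ^ 2 = 1 := (MulAut.conj g).injective (by rw [map_pow, hvu', hu2, map_one])
  have hv1 : v ≠ 1 := fun h => hu1 (by rw [← hvu', h, map_one])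
  rw [key v hv hv2 hv1, huz, MulAut.conj_apply] at hvu'
  exact hg ((hC g).mpr (mul_inv_eq_iff_eq_mul.mp hvu'))


/-- Let G be a finite group and let z be an involution of G such that Q, the generalized Fitting subgroup of the centralizer C of z, is a 2-group of symplectic type (every characteristic abelian subgroup of Q is cyclic). Let B be a characteristic abelian subgroup of Q, viewed as a subgroup of G. Then for every g in G, the conjugate of B by g either equals B or meets B trivially. -/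
theorem result {G : Type*} [Group G] [Finite G] (z : G) (hz : orderOf z = 2) (hQ : Cfsg.IsOfSymplecticType ↥(Cfsg.generalizedFittingSubgroup ↥(Subgroup.centralizer ({z} : Set G))))
    (B : Subgroup ↥(Cfsg.generalizedFittingSubgroup ↥(Subgroup.centralizer ({z} : Set G)))) (hBc : B.Characteristic) (hBa : IsMulCommutative ↥B) (g : G) :
    ((B.map (Cfsg.generalizedFittingSubgroup ↥(Subgroup.centralizer ({z} : Set G))).subtype).map (Subgroup.centralizer ({z} : Set G)).subtype).map (MulAut.conj g).toMonoidHom =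
        (B.map (Cfsg.generalizedFittingSubgroup ↥(Subgroup.centralizer ({z} : Set G))).subtype).map (Subgroup.centralizer ({z} : Set G)).subtype ∨
      ((B.map (Cfsg.generalizedFittingSubgroup ↥(Subgroup.centralizer ({z} : Set G))).subtype).map (Subgroup.centralizer ({z} : Set G)).subtype).map (MulAut.conj g).toMonoidHom ⊓
        (B.map (Cfsg.generalizedFittingSubgroup ↥(Subgroup.centralizer ({z} : Set G))).subtype).map (Subgroup.centralizer ({z} : Set G)).subtype = ⊥ := by
  exact aux z hz _ (fun _ => Subgroup.mem_centralizer_singleton_iff) hQ B hBc hBa g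

end Cfsg.Agent.S1755
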