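import Cfsg.Statements.S1756
import Cfsg.Agent.Lib.KSteps.Extraspecial
import Mathlib.GroupTheory.IndexNormal

set_option autoImplicit false
open Cfsg

namespace Cfsg.Agent.S1756

/-- Let Q be an extraspecial 2-subgroup of the finite group G (special with centre of order 2) and t an involution of G normalizing Q such that the centralizer of t in Q has index at most 2 in Q. Then t lies in the product of Q with the centralizer of Q. -/
theorem result {G : Type*} [Group G] [Finite G] (Q : Subgroup G)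
    (hQ : Cfsg.IsExtraspecial 2 ↥Q) (t : G) (ht : orderOf t = 2) (htN : t ∈ Subgroup.normalizer (Q : Set G))
    (hi : (Subgroup.centralizer ({t} : Set G) ⊓ Q).relIndex Q ≤ 2) :
    t ∈ Q ⊔ Subgroup.centralizer (Q : Set G) := by
  set H := (Subgroup.centralizer ({t} : Set G) ⊓ Q).subgroupOf Q with hH
  have hHmem : ∀ q : ↥Q, q ∈ H ↔ t * (q : G) * t⁻¹ = q := by
    intro q
    rw [hH, Subgroup.mem_subgroupOf, Subgroup.mem_inf, Subgroup.mem_centralizer_singleton_iff,
      mul_inv_eq_iff_eq_mul]
    exact ⟨fun h => h.1.symm, fun h => ⟨h.symm, q.2⟩⟩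
  by_cases htop : H = ⊤
  · refine Subgroup.mem_sup_right (Subgroup.mem_centralizer_iff.mpr fun q hq => ?_)
    exact (mul_inv_eq_iff_eq_mul.mp ((hHmem ⟨q, hq⟩).mp (htop ▸ Subgroup.mem_top _))).symm
  have hidx : H.index = 2 := by
    have h0 : H.index ≠ 0 := Subgroup.index_ne_zero_of_finite
    have h1 : H.index ≠ 1 := fun h => htop (Subgroup.index_eq_one.mp h)
    have : H.index ≤ 2 := hi
    omega
  obtain ⟨q, -, hq⟩ := SetLike.not_le_iff_exists.mp (fun h : ⊤ ≤ H => htop (top_le_iff.mp h))
  obtain ⟨hZ, hder⟩ := CfsgLib.KSteps.extraspecial_data hQ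
  have hd : t * (q : G) * t⁻¹ * (q : G)⁻¹ ∈ Q :=
    Q.mul_mem ((Subgroup.mem_normalizer_iff.mp htN q).mp q.2) (Q.inv_mem q.2)
  set d : ↥Q := ⟨_, hd⟩ with hd_def
  have ht2 : t * t = 1 := by rw [← pow_two, ← ht]; exact pow_orderOf_eq_one t
  have hdq : t * (q : G) * t⁻¹ = (d : G) * q := by simp [hd_def]
  have hd1 : d ≠ 1 := by
    intro h
    exact hq ((hHmem q).mpr (by rw [hdq, h]; simp))
  have hback : t * ((d : G) * q) * t⁻¹ = q := by
    rw [← hdq]
    calc t * (t * (q : G) * t⁻¹) * t⁻¹ = (t * t) * q * (t * t)⁻¹ := by group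
      _ = q := by rw [ht2]; group
  have hdH : d ∈ H := by
    by_contra hdn
    have h2 : d * q ∈ H := (Subgroup.mul_mem_iff_of_index_two hidx).mpr ⟨fun h => absurd h hdn, fun h => absurd h hq⟩
    have := (hHmem _).mp h2
    rw [Subgroup.coe_mul, hback] at this
    exact hd1 (Subtype.ext (mul_eq_right.mp this.symm))
  have hdd : d * d = 1 := by
    have h : (q : G) = (d : G) * ((d : G) * q) := by
      calc (q : G) = t * ((d : G) * q) * t⁻¹ := hback.symm
        _ = (t * (d : G) * t⁻¹) * (t * q * t⁻¹) := by group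
        _ = _ := by rw [(hHmem d).mp hdH, hdq]
    apply Subtype.ext
    rw [← mul_assoc] at h
    exact mul_eq_right.mp h.symm
  -- `d` commutes with `H`
  have hdcomm : ∀ h ∈ H, d * h = h * d := by
    intro h hh
    have hh' : q⁻¹ * h * q ∈ H := by
      have := (Subgroup.normal_of_index_eq_two hidx).conj_mem h hh q⁻¹
      rwa [inv_inv] at this
    have e1 := (hHmem _).mp hh'
    have e2 := (hHmem h).mp hh
    simp only [Subgroup.coe_mul, Subgroup.coe_inv] at e1
    apply Subtype.ext
    show (d : G) * h = h * d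
    have e3 : (d : G)⁻¹ * h * d = h := by
      calc (d : G)⁻¹ * h * d
          = q * (((d : G) * q)⁻¹ * h * ((d : G) * q)) * (q : G)⁻¹ := by group
        _ = q * (((t * q * t⁻¹))⁻¹ * (t * h * t⁻¹) * (t * q * t⁻¹)) * (q : G)⁻¹ := by rw [hdq, e2]
        _ = q * (t * ((q : G)⁻¹ * h * q) * t⁻¹) * (q : G)⁻¹ := by group
        _ = h := by rw [e1]; group
    calc (d : G) * h = d * ((d : G)⁻¹ * h * d) := by rw [e3]
      _ = h * d := by group
  have hsplit : ∀ x : ↥Q, x ∈ H ∨ x * q⁻¹ ∈ H := by
    intro x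
    by_cases hx : x ∈ H
    · exact Or.inl hx
    · exact Or.inr ((Subgroup.mul_mem_iff_of_index_two hidx).mpr
        ⟨fun h => absurd h hx, fun h => absurd (inv_mem_iff.mp h) hq⟩)
  have hqd : d * q = q * d := by
    have hq2 : q * q ∈ H := Subgroup.mul_self_mem_of_index_two hidx q
    have e := (hHmem _).mp hq2
    simp only [Subgroup.coe_mul] at e
    have e' : (d : G) * q * ((d : G) * q) = (q : G) * q := by
      rw [← hdq]
      calc t * (q : G) * t⁻¹ * (t * q * t⁻¹) = t * ((q : G) * q) * t⁻¹ := by group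
        _ = _ := e
    have e'' : (d : G) * q * d = q := mul_right_cancel (by rw [mul_assoc]; exact e')
    apply Subtype.ext
    show (d : G) * q = q * d
    calc (d : G) * q = (d : G) * q * ((d * d : ↥Q) : G) := by rw [hdd]; simp
      _ = (d : G) * q * d * d := by simp [mul_assoc]
      _ = q * d := by rw [e'']
  have hdZ : d ∈ Subgroup.center ↥Q := Subgroup.mem_center_iff.mpr fun x => by
    rcases hsplit x with h | h
    · exact (hdcomm x h).symm
    · have c1 : Commute d (x * q⁻¹) := hdcomm _ h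
      have c2 : Commute d q := hqd
      have := c1.mul_right c2
      rw [inv_mul_cancel_right] at this
      exact this.symm
  have hZH : Subgroup.center ↥Q ≤ H := by
    intro c hc
    rcases CfsgLib.KSteps.eq_one_or_eq_of_card_two hZ hc hdZ hd1 with rfl | rfl
    · exact H.one_mem
    · exact hdH
  obtain ⟨w, hw, hwZ⟩ : ∃ w ∈ Subgroup.centralizer (H : Set ↥Q), w ∉ Subgroup.center ↥Q := by
    by_contra hh
    push Not at hh
    have h1 := Subgroup.card_le_of_le (show Subgroup.centralizer (H : Set ↥Q) ≤ Subgroup.center ↥Q from hh)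
    have h2 := CfsgLib.KSteps.centralizer_mul_card hZ hder.le hZH
    rw [hZ] at h1
    have h3 := H.card_mul_index
    rw [hidx] at h3
    have h4 := Nat.mul_le_mul_right (Nat.card ↥H) h1
    rw [h2, ← h3] at h4
    have := Nat.card_pos (α := ↥H)
    omega
  have hwq : w * q * w⁻¹ = d * q := by
    rcases CfsgLib.KSteps.eq_one_or_eq_of_card_two hZ
      (CfsgLib.KSteps.comm_mem_center hder.le w q) hdZ hd1 with h | h
    · refine absurd (Subgroup.mem_center_iff.mpr fun x => ?_) hwZ
      have c1 : Commute w q := mul_inv_eq_iff_eq_mul.mp (mul_inv_eq_one.mp h)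
      rcases hsplit x with hx | hx
      · exact Subgroup.mem_centralizer_iff.mp hw x hx
      · have c2 : Commute w (x * q⁻¹) := (Subgroup.mem_centralizer_iff.mp hw _ hx).symm
        have := c2.mul_right c1
        rw [inv_mul_cancel_right] at this
        exact this.symm
    · exact mul_inv_eq_iff_eq_mul.mp h
  -- `w⁻¹ t` centralizes `Q`
  have key : ∀ x : ↥Q, t * (x : G) * t⁻¹ = ((w * x * w⁻¹ : ↥Q) : G) := by
    intro x
    have hHcase : ∀ y ∈ H, t * (y : G) * t⁻¹ = ((w * y * w⁻¹ : ↥Q) : G) := by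
      intro y hy
      rw [(hHmem y).mp hy, ← Subgroup.mem_centralizer_iff.mp hw y hy, mul_inv_cancel_right]
    rcases hsplit x with hx | hx
    · exact hHcase x hx
    · have e1 := hHcase _ hx
      have e2 : t * (q : G) * t⁻¹ = ((w * q * w⁻¹ : ↥Q) : G) := by rw [hwq, hdq, Subgroup.coe_mul]
      calc t * (x : G) * t⁻¹ = (t * ((x * q⁻¹ : ↥Q) : G) * t⁻¹) * (t * q * t⁻¹) := by
            simp only [Subgroup.coe_mul, Subgroup.coe_inv]; group
        _ = _ := by rw [e1, e2]; simp only [Subgroup.coe_mul, Subgroup.coe_inv]; group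
  have hc : (w : G)⁻¹ * t ∈ Subgroup.centralizer (Q : Set G) := by
    refine Subgroup.mem_centralizer_iff.mpr fun x hx => ?_
    have h := key ⟨x, hx⟩
    simp only [Subgroup.coe_mul, Subgroup.coe_inv] at h
    calc x * ((w : G)⁻¹ * t) = (w : G)⁻¹ * ((w : G) * x * (w : G)⁻¹) * t := by group
      _ = (w : G)⁻¹ * t * x := by rw [← h]; group
  have := Subgroup.mul_mem_sup w.2 hc
  rwa [mul_inv_cancel_left] at this

end Cfsg.Agent.S1756
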