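import Cfsg.Statements.S1774
import Cfsg.Agent.Lib.KSteps.Symplectic
import Cfsg.Agent.Lib.Components.GenFitting

set_option autoImplicit false
open Cfsg

namespace Cfsg.Agent.S1774

/-- The properties of `Q = F*(C(z))` used in the proof. -/
structure Good {G : Type*} [Group G] (z : G) (Q : Subgroup G) : Prop where
  mem : z ∈ Q
  sq : z * z = 1
  ne_one : z ≠ 1
  comm : ∀ x ∈ Q, x * z = z * x
  norm : ∀ c : G, c * z = z * c → ∀ x ∈ Q, c * x * c⁻¹ ∈ Q
  cent : ∀ c : G, c * z = z * c → (∀ x ∈ Q, c * x = x * c) → c ∈ Q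
  pow_four : ∀ x ∈ Q, x * x * (x * x) = 1
  bracket : ∀ a ∈ Q, ∀ b ∈ Q, a * b * a⁻¹ * b⁻¹ = 1 ∨ a * b * a⁻¹ * b⁻¹ = z
  inv : ∀ w ∈ Q, w * w = 1 → (∀ x ∈ Q, x * w = w * x) → w = 1 ∨ w = z
  max : IsPGroup 2 ↥(Subgroup.centralizer ({z} : Set G)) → ∀ c : G, c * z = z * c → c ∈ Q

namespace Good

variable {G : Type*} [Group G] {z u : G} {Q R : Subgroup G}

theorem map (h : Good z Q) (φ : G ≃* G) : Good (φ z) (Q.map φ.toMonoidHom) := by
  have hc : ∀ c, c * φ z = φ z * c → φ.symm c * z = z * φ.symm c := fun c hc => by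
    apply φ.injective; simpa using hc
  refine ⟨⟨z, h.mem, rfl⟩, by rw [← map_mul, h.sq, map_one],
    fun e => h.ne_one (φ.injective (e.trans (map_one φ).symm)), ?_, ?_, ?_, ?_, ?_, ?_, ?_⟩
  · rintro _ ⟨x, hx, rfl⟩
    simp only [MulEquiv.coe_toMonoidHom, ← map_mul, h.comm x hx]
  · rintro c hcz _ ⟨x, hx, rfl⟩
    exact ⟨_, h.norm _ (hc c hcz) x hx, by simp⟩
  · intro c hcz hcx
    refine ⟨φ.symm c, h.cent _ (hc c hcz) fun x hx => ?_, by simp⟩
    apply φ.injective
    simpa using hcx _ ⟨x, hx, rfl⟩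
  · rintro _ ⟨x, hx, rfl⟩
    simp only [MulEquiv.coe_toMonoidHom, ← map_mul, h.pow_four x hx, map_one]
  · rintro _ ⟨a, ha, rfl⟩ _ ⟨b, hb, rfl⟩
    simp only [MulEquiv.coe_toMonoidHom, ← map_inv, ← map_mul]
    rcases h.bracket a ha b hb with e | e
    · exact Or.inl (by rw [e, map_one])
    · exact Or.inr (by rw [e])
  · rintro _ ⟨w, hw, rfl⟩ hww hwc
    simp only [MulEquiv.coe_toMonoidHom] at hww hwc ⊢
    rcases h.inv w hw (φ.injective (by simpa using hww))
      (fun x hx => φ.injective (by simpa using hwc _ ⟨x, hx, rfl⟩)) with e | e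
    · exact Or.inl (by rw [e, map_one])
    · exact Or.inr (by rw [e])
  · intro h2 c hcz
    refine ⟨φ.symm c, h.max (h2.of_injective
      ((φ.toMonoidHom.comp (Subgroup.centralizer ({z} : Set G)).subtype).codRestrict _ fun d =>
        Subgroup.mem_centralizer_singleton_iff.mpr (by
          simp [← map_mul, Subgroup.mem_centralizer_singleton_iff.mp d.2]))
      (fun a b e => Subtype.ext (φ.injective (congrArg Subtype.val e)))) _ (hc c hcz), by simp⟩

theorem conj_eq (h : Good z Q) {a b : G} (hab : a * z * a⁻¹ = b * z * b⁻¹) :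
    Q.map (MulAut.conj a).toMonoidHom = Q.map (MulAut.conj b).toMonoidHom := by
  have key : ∀ a b : G, a * z * a⁻¹ = b * z * b⁻¹ →
      Q.map (MulAut.conj a).toMonoidHom ≤ Q.map (MulAut.conj b).toMonoidHom := by
    rintro a b hab _ ⟨x, hx, rfl⟩
    refine ⟨(b⁻¹ * a) * x * (b⁻¹ * a)⁻¹, h.norm _ ?_ x hx, by simp [mul_assoc]⟩
    calc b⁻¹ * a * z = b⁻¹ * (a * z * a⁻¹) * a := by group
      _ = z * (b⁻¹ * a) := by rw [hab]; group
  exact le_antisymm (key a b hab) (key b a hab.symm)

theorem sq_central (h : Good z Q) {x : G} (hx : x ∈ Q) :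
    x * x = 1 ∨ x * x = z := by
  refine h.inv _ (Q.mul_mem hx hx) (h.pow_four x hx) fun a ha => ?_
  rcases h.bracket a ha x hx with e | e
  · have : Commute a x := mul_inv_eq_iff_eq_mul.mp (mul_inv_eq_one.mp e)
    exact this.mul_right this
  · have e1 : a * x = z * (x * a) := by rw [← e]; group
    calc a * (x * x) = (a * x) * x := (mul_assoc _ _ _).symm
      _ = z * (x * a) * x := by rw [e1]
      _ = z * (x * (a * x)) := by group
      _ = z * ((x * z) * (x * a)) := by rw [e1]; group
      _ = (z * z) * (x * x * a) := by rw [h.comm x hx]; group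
      _ = x * x * a := by rw [h.sq, one_mul]

/-- An involution of `Q` other than `z` is moved to its product with `z` by an element of `Q`. -/
theorem exists_move (h : Good z Q) (huQ : u ∈ Q) (hu2 : u * u = 1) (hu1 : u ≠ 1) (huz : u ≠ z) :
    ∃ q ∈ Q, q * u * q⁻¹ = z * u := by
  by_contra hno
  push Not at hno
  have hc : ∀ x ∈ Q, x * u = u * x := fun x hx => by
    rcases h.bracket x hx u huQ with e | e
    · exact mul_inv_eq_iff_eq_mul.mp (mul_inv_eq_one.mp e)
    · exact absurd (mul_inv_eq_iff_eq_mul.mp e) (hno x hx)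
  rcases h.inv u huQ hu2 hc with e | e
  · exact hu1 e
  · exact huz e

end Good

/-- `z` lies in `F*(C(u))` for a conjugate `u ≠ z` lying in `F*(C(z))`. -/
theorem mem_conj {G : Type*} [Group G] [Finite G] {z : G} {Q : Subgroup G} (hQ : Good z Q) (g : G)
    (hne : g * z * g⁻¹ ≠ z) (hin : g * z * g⁻¹ ∈ Q) : z ∈ Q.map (MulAut.conj g).toMonoidHom := by
  set R := Q.map (MulAut.conj g).toMonoidHom
  set u := g * z * g⁻¹ with hu_def
  have hR : Good u R := hQ.map (MulAut.conj g)
  have hu2 : u * u = 1 := hR.sq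
  have hu1 : u ≠ 1 := hR.ne_one
  have huz : u * z = z * u := hQ.comm u hin
  by_contra hzR
  obtain ⟨q, hq, hqu⟩ := hQ.exists_move hin hu2 hu1 hne
  have hmm : ∀ a b : G, (Q.map (MulAut.conj a).toMonoidHom).map (MulAut.conj b).toMonoidHom =
      Q.map (MulAut.conj (b * a)).toMonoidHom := by
    intro a b
    rw [Subgroup.map_map]
    congr 1
    ext x
    simp [MulAut.conj_apply, mul_assoc]
  -- no element of `R` moves `z` to `z * u`
  have hnomove : ∀ r ∈ R, z * r * z⁻¹ * r⁻¹ ≠ u := by
    intro r hr hru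
    apply hzR
    have hrz : r * z * r⁻¹ = z * u := by
      rw [← hru]
      calc r * z * r⁻¹ = r * z⁻¹ * r⁻¹ := by rw [inv_eq_of_mul_eq_one_right hQ.sq]
        _ = z⁻¹ * (z * r * z⁻¹ * r⁻¹) := by group
        _ = z * (z * r * z⁻¹ * r⁻¹) := by rw [inv_eq_of_mul_eq_one_right hQ.sq]
    -- `z = r (z u) r⁻¹` lies in `Q ^ r`
    have h1 : z ∈ Q.map (MulAut.conj r).toMonoidHom := by
      refine ⟨z * u, Q.mul_mem hQ.mem hin, ?_⟩
      simp only [MulEquiv.coe_toMonoidHom, MulAut.conj_apply]
      calc r * (z * u) * r⁻¹ = (r * z * r⁻¹) * (r * u * r⁻¹) := by group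
        _ = z * (u * u) := by rw [hrz, hR.comm r hr, mul_inv_cancel_right]; group
        _ = z := by rw [hu2, mul_one]
    have h2 : z ∈ (Q.map (MulAut.conj r).toMonoidHom).map (MulAut.conj q).toMonoidHom := by
      refine ⟨z, h1, ?_⟩
      simp only [MulEquiv.coe_toMonoidHom, MulAut.conj_apply]
      rw [hQ.comm q hq, mul_inv_cancel_right]
    have h3 : (q * r) * z * (q * r)⁻¹ = g * z * g⁻¹ := by
      calc (q * r) * z * (q * r)⁻¹ = q * (r * z * r⁻¹) * q⁻¹ := by group
        _ = (q * z * q⁻¹) * (q * u * q⁻¹) := by rw [hrz]; group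
        _ = z * (z * u) := by rw [hQ.comm q hq, mul_inv_cancel_right, hqu]
        _ = u := by rw [← mul_assoc, hQ.sq, one_mul]
    rwa [hmm, hQ.conj_eq h3] at h2
  -- the elements of `R` fixed by `z`
  have hW : ∀ r ∈ R, (∀ x ∈ R, x * (z * r * z⁻¹ * r⁻¹) = (z * r * z⁻¹ * r⁻¹) * x) →
      z * r * z⁻¹ * r⁻¹ ∈ R → z * r * z⁻¹ * r⁻¹ = 1 := by
    intro r hr hc hmem
    set w := z * r * z⁻¹ * r⁻¹ with hw
    have hzzr : z * w * z⁻¹ = w⁻¹ := by
      have hzi : z⁻¹ = z := inv_eq_of_mul_eq_one_right hQ.sq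
      calc z * w * z⁻¹ = (z * z) * r * z⁻¹ * (r⁻¹ * z⁻¹) := by rw [hw]; group
        _ = r * z * (r⁻¹ * z⁻¹) := by rw [hQ.sq, one_mul, hzi]
        _ = w⁻¹ := by rw [hw]; group
    rcases hR.sq_central hmem with e | e
    · rcases hR.inv w hmem e hc with h | h
      · exact h
      · exact absurd h (hnomove r hr)
    · refine absurd ?_ (hnomove w hmem)
      rw [hzzr, ← mul_inv_rev, e]
      exact inv_eq_of_mul_eq_one_right hu2
  have hnormR : ∀ c : G, c * u = u * c → ∀ x ∈ R, c * x * c⁻¹ ∈ R := hR.norm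
  have hznR : ∀ r ∈ R, z * r * z⁻¹ * r⁻¹ ∈ R := fun r hr =>
    R.mul_mem (hnormR z huz.symm r hr) (R.inv_mem hr)
  -- elements centralizing the fixed points of `z` are fixed by `z`
  let br : G → G → G := fun a b => a * b * a⁻¹ * b⁻¹
  have brc : ∀ a ∈ R, ∀ b ∈ R, ∀ c, c * u = u * c → c * br a b = br a b * c := by
    intro a ha b hb c hc
    rcases hR.bracket a ha b hb with e | e <;> simp only [br] <;> rw [e]
    · simp
    · exact hc
  have brl : ∀ a ∈ R, ∀ b ∈ R, ∀ w ∈ R, br (a * b) w = br a w * br b w := by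
    intro a ha b hb w hw
    calc br (a * b) w = a * (br b w * (w * a⁻¹ * w⁻¹)) := by simp only [br]; group
      _ = a * ((w * a⁻¹ * w⁻¹) * br b w) := by
        rw [← brc b hb w hw _ (hR.comm _ (R.mul_mem (R.mul_mem hw (R.inv_mem ha)) (R.inv_mem hw)))]
      _ = _ := by simp only [br]; group
  have brr : ∀ w ∈ R, ∀ b ∈ R, ∀ a ∈ R, br w (b * a) = br w b * br w a := by
    intro w hw b hb a ha
    calc br w (b * a) = (w * b * w⁻¹) * (br w a * b⁻¹) := by simp only [br]; group
      _ = (w * b * w⁻¹) * (b⁻¹ * br w a) := by rw [← brc w hw a ha _ (hR.comm _ (R.inv_mem hb))]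
      _ = _ := by simp only [br]; group
  have hfix : ∀ c ∈ R, (∀ w ∈ R, z * w = w * z → c * w = w * c) → z * c = c * z := by
    intro c hc hcW
    have hzc : z * c * z⁻¹ ∈ R := hnormR z huz.symm c hc
    set d := z * c * z⁻¹ * c⁻¹ with hd
    have hdR : d ∈ R := hznR c hc
    have hcen : ∀ x ∈ R, x * d = d * x := by
      intro x hx
      have hzx : z * x * z⁻¹ ∈ R := hnormR z huz.symm x hx
      set e := z * x * z⁻¹ * x⁻¹ with he
      have heR : e ∈ R := hznR x hx
      have hee : z * e * z⁻¹ = e⁻¹ := by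
        have hzi : z⁻¹ = z := inv_eq_of_mul_eq_one_right hQ.sq
        calc z * e * z⁻¹ = (z * z) * x * z⁻¹ * (x⁻¹ * z⁻¹) := by rw [he]; group
          _ = x * z * (x⁻¹ * z⁻¹) := by rw [hQ.sq, one_mul, hzi]
          _ = e⁻¹ := by rw [he]; group
      have hez : z * e = e * z := by
        have h1 : z * e * z⁻¹ * e⁻¹ = 1 := by
          refine hW e heR (fun y hy => ?_) (hznR e heR)
          rw [hee, ← mul_inv_rev]
          rcases hR.sq_central heR with h | h <;> rw [h]
          · simp
          · rw [inv_eq_of_mul_eq_one_right hu2]; exact hR.comm y hy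
        exact mul_inv_eq_iff_eq_mul.mp (mul_inv_eq_one.mp h1)
      have hce : br c e = 1 := by
        simp only [br]; rw [hcW e heR hez]; group
      have h1 : br c (z * x * z⁻¹) = br c x := by
        conv_lhs => rw [show z * x * z⁻¹ = e * x by rw [he]; group]
        rw [brr c hc e heR x hx, hce, one_mul]
      have h2 : br (z * c * z⁻¹) (z * x * z⁻¹) = br c x := by
        calc br (z * c * z⁻¹) (z * x * z⁻¹) = z * br c x * z⁻¹ := by simp only [br]; group
          _ = br c x := by rw [brc c hc x hx z huz.symm, mul_inv_cancel_right]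
      have h3 := brl d hdR c hc _ hzx
      rw [show d * c = z * c * z⁻¹ by rw [hd]; group, h2, h1] at h3
      have h4 : br d (z * x * z⁻¹) = 1 := mul_eq_right.mp h3.symm
      rw [show z * x * z⁻¹ = e * x by rw [he]; group, brr d hdR e heR x hx] at h4
      have hde : br d e = 1 := by
        have hzd : z * d * z⁻¹ = d⁻¹ := by
          have hzi : z⁻¹ = z := inv_eq_of_mul_eq_one_right hQ.sq
          calc z * d * z⁻¹ = (z * z) * c * z⁻¹ * (c⁻¹ * z⁻¹) := by rw [hd]; group
            _ = c * z * (c⁻¹ * z⁻¹) := by rw [hQ.sq, one_mul, hzi]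
            _ = d⁻¹ := by rw [hd]; group
        have h5 : br (z * c * z⁻¹) e = br c e := by
          calc br (z * c * z⁻¹) e = z * br c (z⁻¹ * e * z) * z⁻¹ := by simp only [br]; group
            _ = z * br c e * z⁻¹ := by rw [mul_assoc z⁻¹, ← hez, inv_mul_cancel_left]
            _ = br c e := by rw [brc c hc e heR z huz.symm, mul_inv_cancel_right]
        have h6 := brl d hdR c hc e heR
        rw [show d * c = z * c * z⁻¹ by rw [hd]; group, h5, hce, mul_one] at h6
        exact h6.symm
      rw [hde, one_mul] at h4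
      exact (mul_inv_eq_iff_eq_mul.mp (mul_inv_eq_one.mp h4)).symm
    exact mul_inv_eq_iff_eq_mul.mp (mul_inv_eq_one.mp (hW c hc hcen hdR))
  -- `P = Q ∩ C(u)` has an element of order four
  obtain ⟨x, hx, hxu, hxz⟩ : ∃ x ∈ Q, x * u = u * x ∧ x * x = z := by
    by_contra hno
    push Not at hno
    -- otherwise `C(z)` is a `2`-group
    apply hzR
    refine hR.max ?_ z huz.symm
    have hP : ∀ p ∈ Q, p * u = u * p → p = 1 ∨ p = z ∨ p = u ∨ p = z * u := by
      intro p hp hpu
      have hpp : p * p = 1 := (hQ.sq_central hp).resolve_right (hno p hp hpu)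
      by_cases hpq : q * p = p * q
      · have hcp : ∀ y ∈ Q, y * p = p * y := by
          intro y hy
          have hsplit : y * u = u * y ∨ (q⁻¹ * y) * u = u * (q⁻¹ * y) := by
            rcases hQ.bracket y hy u hin with e | e
            · exact Or.inl (mul_inv_eq_iff_eq_mul.mp (mul_inv_eq_one.mp e))
            · refine Or.inr ?_
              have e' : y * u * y⁻¹ = z * u := mul_inv_eq_iff_eq_mul.mp e
              calc q⁻¹ * y * u = q⁻¹ * (y * u * y⁻¹) * y := by group
                _ = q⁻¹ * (q * u * q⁻¹) * y := by rw [e', hqu]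
                _ = u * (q⁻¹ * y) := by group
          have hPcomm : ∀ y ∈ Q, y * u = u * y → y * p = p * y := by
            intro y hy hyu
            have h1 : y * y = 1 := (hQ.sq_central hy).resolve_right (hno y hy hyu)
            have h2 : (y * p) * (y * p) = 1 := (hQ.sq_central (Q.mul_mem hy hp)).resolve_right
              (hno _ (Q.mul_mem hy hp) (by rw [mul_assoc, hpu, ← mul_assoc, hyu, mul_assoc]))
            calc y * p = (y * p)⁻¹ := (inv_eq_of_mul_eq_one_right h2).symm
              _ = p⁻¹ * y⁻¹ := mul_inv_rev y p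
              _ = p * y := by rw [inv_eq_of_mul_eq_one_right h1, inv_eq_of_mul_eq_one_right hpp]
          rcases hsplit with hy' | hy'
          · exact hPcomm y hy hy'
          · have h1 := hPcomm _ (Q.mul_mem (Q.inv_mem hq) hy) hy'
            calc y * p = q * (q⁻¹ * y * p) := by group
              _ = (q * p) * (q⁻¹ * y) := by rw [h1]; group
              _ = p * y := by rw [hpq]; group
        rcases hQ.inv p hp hpp hcp with h | h
        · exact Or.inl h
        · exact Or.inr (Or.inl h)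
      · -- `p * u` commutes with `q`
        have e : q * p * q⁻¹ * p⁻¹ = z := (hQ.bracket q hq p hp).resolve_left fun e =>
          hpq (mul_inv_eq_iff_eq_mul.mp (mul_inv_eq_one.mp e))
        have e' : q * p * q⁻¹ = z * p := mul_inv_eq_iff_eq_mul.mp e
        have hzp : p * z = z * p := hQ.comm p hp
        set r := p * u with hr
        have hrq : q * r = r * q := by
          refine mul_inv_eq_iff_eq_mul.mp ?_
          calc q * r * q⁻¹ = (q * p * q⁻¹) * (q * u * q⁻¹) := by rw [hr]; group
            _ = z * (p * z) * u := by rw [e', hqu]; group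
            _ = (z * z) * (p * u) := by rw [hzp]; group
            _ = r := by rw [hQ.sq, one_mul]
        have hru : r * u = u * r := by rw [hr, mul_assoc, hu2, ← mul_assoc, ← hpu, mul_assoc, hu2]
        have hrr : r * r = 1 := (hQ.sq_central (Q.mul_mem hp hin)).resolve_right (hno _ (Q.mul_mem hp hin) hru)
        have hcr : ∀ y ∈ Q, y * r = r * y := by
          intro y hy
          have hPcomm : ∀ y ∈ Q, y * u = u * y → y * r = r * y := by
            intro y hy hyu
            have h1 : y * y = 1 := (hQ.sq_central hy).resolve_right (hno y hy hyu)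
            have h2 : (y * r) * (y * r) = 1 := (hQ.sq_central (Q.mul_mem hy (Q.mul_mem hp hin))).resolve_right
              (hno _ (Q.mul_mem hy (Q.mul_mem hp hin)) (by rw [mul_assoc, hru, ← mul_assoc, hyu, mul_assoc]))
            calc y * r = (y * r)⁻¹ := (inv_eq_of_mul_eq_one_right h2).symm
              _ = r⁻¹ * y⁻¹ := mul_inv_rev y r
              _ = r * y := by rw [inv_eq_of_mul_eq_one_right h1, inv_eq_of_mul_eq_one_right hrr]
          rcases hQ.bracket y hy u hin with h | h
          · exact hPcomm y hy (mul_inv_eq_iff_eq_mul.mp (mul_inv_eq_one.mp h))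
          · have e'' : y * u * y⁻¹ = z * u := mul_inv_eq_iff_eq_mul.mp h
            have hy' : (q⁻¹ * y) * u = u * (q⁻¹ * y) := by
              calc q⁻¹ * y * u = q⁻¹ * (y * u * y⁻¹) * y := by group
                _ = q⁻¹ * (q * u * q⁻¹) * y := by rw [e'', hqu]
                _ = u * (q⁻¹ * y) := by group
            have h1 := hPcomm _ (Q.mul_mem (Q.inv_mem hq) hy) hy'
            calc y * r = q * (q⁻¹ * y * r) := by group
              _ = (q * r) * (q⁻¹ * y) := by rw [h1]; group
              _ = r * y := by rw [hrq]; group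
        have hp' : p = r * u := by rw [hr, mul_assoc, hu2, mul_one]
        rcases hQ.inv r (Q.mul_mem hp hin) hrr hcr with h | h
        · exact Or.inr (Or.inr (Or.inl (by rw [hp', h, one_mul])))
        · exact Or.inr (Or.inr (Or.inr (by rw [hp', h])))
    -- the elements of `Q` outside `C(u)` with nontrivial square are `a` and `z * a`
    have hnP : ∀ y ∈ Q, ∃ p ∈ Q, p * u = u * p ∧ (y = p ∨ y = p * q) := by
      intro y hy
      rcases hQ.bracket y hy u hin with h | h
      · exact ⟨y, hy, mul_inv_eq_iff_eq_mul.mp (mul_inv_eq_one.mp h), Or.inl rfl⟩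
      · refine ⟨y * q⁻¹, Q.mul_mem hy (Q.inv_mem hq), ?_, Or.inr (by group)⟩
        have e'' : y * u * y⁻¹ = z * u := mul_inv_eq_iff_eq_mul.mp h
        have e3 : q⁻¹ * u * q = z * u := by
          calc q⁻¹ * u * q = q⁻¹ * (z * (z * u)) * q := by rw [← mul_assoc z, hQ.sq, one_mul]
            _ = (q⁻¹ * z) * (q * u * q⁻¹) * q := by rw [hqu]; group
            _ = (z * q⁻¹) * (q * u * q⁻¹) * q := by rw [hQ.comm _ (Q.inv_mem hq)]
            _ = z * u := by group
        have hzy : y * z = z * y := hQ.comm y hy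
        calc y * q⁻¹ * u = y * (q⁻¹ * u * q) * q⁻¹ := by group
          _ = (y * z) * u * q⁻¹ := by rw [e3]; group
          _ = z * (y * u * y⁻¹) * y * q⁻¹ := by rw [hzy]; group
          _ = (z * z) * u * (y * q⁻¹) := by rw [e'']; group
          _ = u * (y * q⁻¹) := by rw [hQ.sq, one_mul]
    -- an element of order four
    have hqq : ∃ a ∈ Q, a * a = z ∧ ∀ y ∈ Q, y * y = z → y = a ∨ y = z * a := by
      have hzq : q * z = z * q := hQ.comm q hq
      have h1 : (u * q) * (u * q) = z * (q * q) := by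
        calc (u * q) * (u * q) = u * (q * u * q⁻¹) * (q * q) := by group
          _ = (u * z) * u * (q * q) := by rw [hqu]; group
          _ = z * (u * u) * (q * q) := by rw [huz]; group
          _ = z * (q * q) := by rw [hu2, mul_one]
      have hzs : ∀ p, p * z = z * p → (z * p) * (z * p) = p * p := fun p hp => by
        calc (z * p) * (z * p) = z * (p * z) * p := by group
          _ = (z * z) * (p * p) := by rw [hp]; group
          _ = p * p := by rw [hQ.sq, one_mul]
      have hzu1 : z * u ≠ 1 := fun h => hne (by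
        calc u = z * (z * u) := by rw [← mul_assoc, hQ.sq, one_mul]
          _ = z := by rw [h, mul_one])
      rcases hQ.sq_central hq with hqs | hqs
      · -- `q² = 1`
        refine ⟨u * q, Q.mul_mem hin hq, by rw [h1, hqs, mul_one], fun y hy hyy => ?_⟩
        obtain ⟨p, hp, hpu, hyp | hyp⟩ := hnP y hy
        · rw [hyp] at hyy; exact absurd hyy (hno p hp hpu)
        rcases hP p hp hpu with h | h | h | h <;> rw [h] at hyp
        · rw [hyp, one_mul, hqs] at hyy; exact absurd hyy.symm hQ.ne_one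
        · rw [hyp, hzs q hzq, hqs] at hyy; exact absurd hyy.symm hQ.ne_one
        · exact Or.inl hyp
        · exact Or.inr (by rw [hyp]; group)
      · refine ⟨q, hq, hqs, fun y hy hyy => ?_⟩
        obtain ⟨p, hp, hpu, hyp | hyp⟩ := hnP y hy
        · rw [hyp] at hyy; exact absurd hyy (hno p hp hpu)
        rcases hP p hp hpu with h | h | h | h <;> rw [h] at hyp
        · exact Or.inl (by rw [hyp, one_mul])
        · exact Or.inr hyp
        · rw [hyp, h1, hqs, hQ.sq] at hyy; exact absurd hyy.symm hQ.ne_one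
        · rw [hyp, show z * u * q * (z * u * q) = z * (u * q) * (z * (u * q)) by group, hzs _ (by rw [mul_assoc, hzq, ← mul_assoc, huz, mul_assoc]), h1, hqs, hQ.sq] at hyy
          exact absurd hyy.symm hQ.ne_one
    obtain ⟨a, ha, haa, hauniq⟩ := hqq
    have hcard : Nat.card ↥Q ≤ 8 := by
      classical
      have hsub : (Q : Set G) ⊆ ((({1, z, u, z * u} : Finset G) ∪ ({1, z, u, z * u} : Finset G).image (· * q)) : Finset G) := by
        intro y hy
        obtain ⟨p, hp, hpu, rfl | rfl⟩ := hnP y hy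
        · refine Finset.mem_coe.mpr (Finset.mem_union_left _ ?_)
          simp only [Finset.mem_insert, Finset.mem_singleton]
          exact hP _ hp hpu
        · refine Finset.mem_coe.mpr (Finset.mem_union_right _ (Finset.mem_image.mpr ⟨p, ?_, rfl⟩))
          simp only [Finset.mem_insert, Finset.mem_singleton]
          exact hP _ hp hpu
      have h4 : ({1, z, u, z * u} : Finset G).card ≤ 4 := Finset.card_le_four
      calc Nat.card ↥Q ≤ _ := Nat.card_mono (Finset.finite_toSet _) hsub
        _ = _ := Nat.card_eq_finsetCard _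
        _ ≤ _ := (Finset.card_union_le _ _).trans (Nat.add_le_add h4 (Finset.card_image_le.trans h4))
    -- elements of odd prime order in `C(z)` centralize `Q`
    suffices hz2 : IsPGroup 2 ↥(Subgroup.centralizer ({z} : Set G)) by
      have e : ∀ y : ↥(Subgroup.centralizer ({u} : Set G)),
          g⁻¹ * (y : G) * g ∈ Subgroup.centralizer ({z} : Set G) := fun y => by
        refine Subgroup.mem_centralizer_singleton_iff.mpr ?_
        have hy := Subgroup.mem_centralizer_singleton_iff.mp y.2
        calc g⁻¹ * (y : G) * g * z = g⁻¹ * ((y : G) * (g * z * g⁻¹)) * g := by group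
          _ = g⁻¹ * ((g * z * g⁻¹) * (y : G)) * g := congrArg (fun t => g⁻¹ * t * g) hy
          _ = z * (g⁻¹ * y * g) := by group
      refine hz2.of_injective (((MulAut.conj g⁻¹).toMonoidHom.comp
        (Subgroup.centralizer ({u} : Set G)).subtype).codRestrict _ fun y => ?_) fun y w h => ?_
      · simpa [MulAut.conj_apply] using e y
      · exact Subtype.ext ((MulAut.conj g⁻¹).injective (congrArg Subtype.val h))
    by_contra hnot
    obtain ⟨r, hr, hrdvd, hr2⟩ : ∃ r : ℕ, r.Prime ∧ r ∣ Nat.card ↥(Subgroup.centralizer ({z} : Set G)) ∧ r ≠ 2 := by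
      by_contra hh
      push Not at hh
      exact hnot (IsPGroup.of_card (Nat.eq_prime_pow_of_unique_prime_dvd Nat.card_pos.ne'
        fun hd h => hh _ hd h))
    have : Fact r.Prime := ⟨hr⟩
    obtain ⟨⟨y, hyC⟩, hy⟩ := exists_prime_orderOf_dvd_card' (G := ↥(Subgroup.centralizer ({z} : Set G))) r hrdvd
    rw [← Subgroup.orderOf_coe] at hy
    simp only at hy
    have hyz : y * z = z * y := Subgroup.mem_centralizer_singleton_iff.mp hyC
    have hya : y * a = a * y := by
      -- `y ^ 2` fixes `a`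
      have hmv : ∀ w ∈ Subgroup.zpowers y, w * a * w⁻¹ = a ∨ w * a * w⁻¹ = z * a := by
        intro w hw
        have hwz : w * z = z * w := by
          obtain ⟨k, rfl⟩ := hw
          exact ((show Commute y z from hyz).zpow_left k).eq
        refine hauniq _ (hQ.norm w hwz a ha) ?_
        calc w * a * w⁻¹ * (w * a * w⁻¹) = w * (a * a) * w⁻¹ := by group
          _ = z := by rw [haa, hwz, mul_inv_cancel_right]
      have h2 : y ^ 2 * a * (y ^ 2)⁻¹ = a := by
        rcases hmv y (Subgroup.mem_zpowers y) with h | h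
        · calc y ^ 2 * a * (y ^ 2)⁻¹ = y * (y * a * y⁻¹) * y⁻¹ := by rw [pow_two]; group
            _ = a := by rw [h, h]
        · calc y ^ 2 * a * (y ^ 2)⁻¹ = y * (y * a * y⁻¹) * y⁻¹ := by rw [pow_two]; group
            _ = y * (z * a) * y⁻¹ := by rw [h]
            _ = (y * z * y⁻¹) * (y * a * y⁻¹) := by group
            _ = a := by rw [h, hyz, mul_inv_cancel_right, ← mul_assoc, hQ.sq, one_mul]
      obtain ⟨m, hm⟩ := hr.odd_of_ne_two hr2
      have hc : Commute (y ^ 2) a := mul_inv_eq_iff_eq_mul.mp h2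
      have h1 : y = (y ^ 2) ^ (m + 1) := by
        rw [← pow_mul, show 2 * (m + 1) = r + 1 by omega, pow_succ, ← hy, pow_orderOf_eq_one, one_mul]
      rw [h1]
      exact (hc.pow_left _).eq
    have hyQ : y ∈ Q := by
      refine hQ.cent y hyz fun w hw => ?_
      have hS : ∀ c : ↥(Subgroup.zpowers y), ∀ v ∈ Q, (c : G) * v * (c : G)⁻¹ ∈ Q := by
        rintro ⟨_, k, rfl⟩ v hv
        exact hQ.norm _ ((show Commute y z from hyz).zpow_left k).eq v hv
      let _ : MulAction ↥(Subgroup.zpowers y) ↥Q :=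
        { smul := fun c v => ⟨(c : G) * (v : G) * (c : G)⁻¹, hS c v v.2⟩
          one_smul := fun v => Subtype.ext (show (1 : G) * (v : G) * (1 : G)⁻¹ = v by group)
          mul_smul := fun c d v => Subtype.ext
            (show (c : G) * d * (v : G) * ((c : G) * d)⁻¹ = (c : G) * ((d : G) * v * (d : G)⁻¹) * (c : G)⁻¹ by
              group) }
      have hrg : IsPGroup r ↥(Subgroup.zpowers y) :=
        IsPGroup.of_card (n := 1) (by rw [Nat.card_zpowers, hy, pow_one])
      have hmod := hrg.card_modEq_card_fixedPoints ↥Q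
      set K := Q ⊓ Subgroup.centralizer ({y} : Set G) with hK
      have hcardfix : Nat.card (MulAction.fixedPoints ↥(Subgroup.zpowers y) ↥Q) = Nat.card ↥K := by
        refine Nat.card_congr
          { toFun := fun v => ⟨v.1.1, v.1.2, Subgroup.mem_centralizer_singleton_iff.mpr ?_⟩
            invFun := fun v => ⟨⟨v.1, v.2.1⟩, fun c => Subtype.ext ?_⟩
            left_inv := fun v => rfl
            right_inv := fun v => rfl }
        · have := congrArg Subtype.val (v.2 ⟨y, Subgroup.mem_zpowers y⟩)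
          exact (mul_inv_eq_iff_eq_mul.mp this).symm
        · obtain ⟨c, k, rfl⟩ := c
          show y ^ k * v.1 * (y ^ k)⁻¹ = v.1
          rw [((show Commute y v.1 from (Subgroup.mem_centralizer_singleton_iff.mp v.2.2).symm).zpow_left k).eq,
            mul_inv_cancel_right]
      rw [hcardfix] at hmod
      have hK4 : 4 ≤ Nat.card ↥K := by
        have hord : orderOf a = 4 := by
          have h1 : a ^ 2 = z := by rw [pow_two, haa]
          have h2 : ¬ a ^ 2 ^ 1 = 1 := by rw [pow_one, h1]; exact hQ.ne_one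
          have h3 : a ^ 2 ^ (1 + 1) = 1 := by
            rw [show (2 : ℕ) ^ (1 + 1) = 2 * 2 by norm_num, pow_mul, h1, pow_two, hQ.sq]
          simpa using orderOf_eq_prime_pow (p := 2) (n := 1) h2 h3
        have := Nat.le_of_dvd Nat.card_pos (Subgroup.orderOf_dvd_natCard K
          (show a ∈ K from ⟨ha, Subgroup.mem_centralizer_singleton_iff.mpr hya.symm⟩))
        omega
      by_contra hnc
      have hlt : Nat.card ↥K < Nat.card ↥Q := by
        refine lt_of_le_of_ne (Subgroup.card_le_of_le inf_le_left) fun h => hnc ?_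
        have hmem : w ∈ K := by
          exact (SetLike.ext_iff.mp (Subgroup.eq_of_le_of_card_ge (inf_le_left : K ≤ Q) h.ge) w).mpr hw
        exact (Subgroup.mem_centralizer_singleton_iff.mp hmem.2).symm
      obtain ⟨k, hk⟩ : Nat.card ↥K ∣ Nat.card ↥Q := Subgroup.card_dvd_of_le inf_le_left
      have hk2 : k = 2 ∧ Nat.card ↥K = 4 := by
        rcases k with _ | _ | _ | k <;> constructor <;> nlinarith
      rw [hk, hk2.1, hk2.2] at hmod
      have := (Nat.modEq_iff_dvd' (by norm_num)).mp hmod.symm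
      exact hr2 ((Nat.prime_dvd_prime_iff_eq hr Nat.prime_two).mp
        (hr.dvd_of_dvd_pow (show r ∣ 2 ^ 2 by simpa using this)))
    have h4 : y ^ 4 = 1 := by
      have := hQ.pow_four y hyQ
      simpa [pow_succ, mul_assoc] using this
    have hd := orderOf_dvd_of_pow_eq_one h4
    rw [hy] at hd
    exact hr2 ((Nat.prime_dvd_prime_iff_eq hr Nat.prime_two).mp
      (hr.dvd_of_dvd_pow (show r ∣ 2 ^ 2 by simpa using hd)))
  -- `x` centralizes the fixed points of `z` in `R` modulo the centre
  have hxW : ∀ w ∈ R, z * w = w * z →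
      x * w * x⁻¹ * w⁻¹ = 1 ∨ x * w * x⁻¹ * w⁻¹ = u := by
    intro w hw hwz
    set e := x * w * x⁻¹ * w⁻¹ with he
    have heR : e ∈ R := R.mul_mem (hnormR x hxu w hw) (R.inv_mem hw)
    have heQ : e ∈ Q := by
      have h1 : x * (w * x⁻¹ * w⁻¹) ∈ Q := Q.mul_mem hx (hQ.norm w hwz.symm _ (Q.inv_mem hx))
      simpa [he, mul_assoc] using h1
    have hee : e * e = 1 := by
      rcases hR.sq_central heR with h | h
      · exact h
      rcases hQ.sq_central heQ with h' | h'
      · exact h'
      exact absurd (h.symm.trans h') hne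
    have heP : ∀ p ∈ Q, p * u = u * p → p * e = e * p := by
      intro p hp hpu
      rcases hQ.bracket p hp e heQ with h | h
      · exact mul_inv_eq_iff_eq_mul.mp (mul_inv_eq_one.mp h)
      · exact absurd (h ▸ R.mul_mem (hnormR p hpu e heR) (R.inv_mem heR)) hzR
    have hQsplit : ∀ c : G, c * q = q * c → (∀ p ∈ Q, p * u = u * p → p * c = c * p) →
        ∀ y ∈ Q, y * c = c * y := by
      intro c hcq hcP y hy
      rcases hQ.bracket y hy u hin with h | h
      · exact hcP y hy (mul_inv_eq_iff_eq_mul.mp (mul_inv_eq_one.mp h))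
      · have e'' : y * u * y⁻¹ = z * u := mul_inv_eq_iff_eq_mul.mp h
        have hy' : (q⁻¹ * y) * u = u * (q⁻¹ * y) := by
          calc q⁻¹ * y * u = q⁻¹ * (y * u * y⁻¹) * y := by group
            _ = q⁻¹ * (q * u * q⁻¹) * y := by rw [e'', hqu]
            _ = u * (q⁻¹ * y) := by group
        have h1 := hcP _ (Q.mul_mem (Q.inv_mem hq) hy) hy'
        calc y * c = q * (q⁻¹ * y * c) := by group
          _ = (q * c) * (q⁻¹ * y) := by rw [h1]; group
          _ = c * y := by rw [← hcq]; group
    by_cases hqe : e * q = q * e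
    · rcases hQ.inv e heQ hee (hQsplit e hqe heP) with h | h
      · exact Or.inl h
      · exact absurd (h ▸ heR) hzR
    · refine Or.inr ?_
      have h1 : q * e * q⁻¹ = z * e := mul_inv_eq_iff_eq_mul.mp ((hQ.bracket q hq e heQ).resolve_left
        fun h => hqe (mul_inv_eq_iff_eq_mul.mp (mul_inv_eq_one.mp h)).symm)
      have hez : e * z = z * e := hQ.comm e heQ
      have hc1 : (e * u) * q = q * (e * u) := by
        refine (mul_inv_eq_iff_eq_mul.mp ?_).symm
        calc q * (e * u) * q⁻¹ = (q * e * q⁻¹) * (q * u * q⁻¹) := by group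
          _ = z * (e * z) * u := by rw [h1, hqu]; group
          _ = (z * z) * (e * u) := by rw [hez]; group
          _ = e * u := by rw [hQ.sq, one_mul]
      have hc2 : ∀ p ∈ Q, p * u = u * p → p * (e * u) = (e * u) * p := by
        intro p hp hpu
        exact ((show Commute p e from heP p hp hpu).mul_right (show Commute p u from hpu)).eq
      have heu : e * u = u * e := hR.comm e heR
      have hc3 : (e * u) * (e * u) = 1 := by
        calc (e * u) * (e * u) = e * (u * e) * u := by group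
          _ = (e * e) * (u * u) := by rw [← heu]; group
          _ = 1 := by rw [hee, hu2, one_mul]
      rcases hQ.inv _ (Q.mul_mem heQ hin) hc3 (hQsplit _ hc1 hc2) with h | h
      · calc e = (e * u) * u := by rw [mul_assoc, hu2, mul_one]
          _ = u := by rw [h, one_mul]
      · exact absurd (h ▸ R.mul_mem heR hR.mem) hzR
  apply hzR
  refine hR.cent z huz.symm fun r hr => ?_
  -- `z = x * x` acts trivially on `R`
  set e := x * r * x⁻¹ * r⁻¹ with he
  have hxr : x * r * x⁻¹ ∈ R := hnormR x hxu r hr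
  have heR : e ∈ R := R.mul_mem hxr (R.inv_mem hr)
  have hez : z * e = e * z := by
    refine hfix e heR fun w hw hwz => ?_
    have hxw : x * w * x⁻¹ ∈ R := hnormR x hxu w hw
    have hbe : ∀ v ∈ R, br v (x * w * x⁻¹) = br v w := by
      intro v hv
      have : x * w * x⁻¹ = (x * w * x⁻¹ * w⁻¹) * w := by group
      rw [this, brr v hv _ (R.mul_mem hxw (R.inv_mem hw)) w hw]
      rcases hxW w hw hwz with h | h <;> rw [h]
      · simp [br]
      · rw [show br v u = 1 by simp only [br]; rw [hR.comm v hv]; group, one_mul]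
    have h1 : br (x * r * x⁻¹) w = br r w := by
      rw [← hbe _ hxr]
      calc br (x * r * x⁻¹) (x * w * x⁻¹) = x * br r w * x⁻¹ := by simp only [br]; group
        _ = br r w := by rw [brc r hr w hw x hxu, mul_inv_cancel_right]
    have h2 := brl e heR r hr w hw
    rw [show e * r = x * r * x⁻¹ by rw [he]; group, h1] at h2
    exact mul_inv_eq_iff_eq_mul.mp (mul_inv_eq_one.mp (mul_eq_right.mp h2.symm))
  set ζ := x * e * x⁻¹ * e⁻¹ with hζ
  have h1 : z * r * z⁻¹ * r⁻¹ = ζ * (e * e) := by
    calc z * r * z⁻¹ * r⁻¹ = (x * x) * r * (x * x)⁻¹ * r⁻¹ := by rw [hxz]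
      _ = ζ * (e * e) := by rw [hζ, he]; group
  have hcu : ∀ c : G, c = 1 ∨ c = u → ∀ y ∈ R, y * c = c * y := by
    rintro c (rfl | rfl) y hy
    · simp
    · exact hR.comm y hy
  have hc : ∀ y ∈ R, y * (z * r * z⁻¹ * r⁻¹) = (z * r * z⁻¹ * r⁻¹) * y := by
    intro y hy
    rw [h1]
    exact ((show Commute y ζ from hcu ζ (hxW e heR hez) y hy).mul_right
      (show Commute y (e * e) from hcu _ (hR.sq_central heR) y hy)).eq
  exact mul_inv_eq_iff_eq_mul.mp (mul_inv_eq_one.mp (hW r hr hc (hznR r hr)))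

theorem main {G : Type*} [Group G] [Finite G] (z : G) (hz : orderOf z = 2) (C : Subgroup G)
    (hC : ∀ x, x ∈ C ↔ x * z = z * x)
    (hQ : Cfsg.IsOfSymplecticType ↥(Cfsg.generalizedFittingSubgroup ↥C))
    (h4 : ∀ q ∈ (Cfsg.generalizedFittingSubgroup ↥C).map C.subtype, q ^ 4 = 1) (g : G)
    (hne : g * z * g⁻¹ ≠ z) (hin : g * z * g⁻¹ ∈ (Cfsg.generalizedFittingSubgroup ↥C).map C.subtype) :
    z ∈ ((Cfsg.generalizedFittingSubgroup ↥C).map C.subtype).map (MulAut.conj g).toMonoidHom ∧
      ∀ u ∈ Subgroup.closure ({z, g * z * g⁻¹} : Set G), ∀ v ∈ Subgroup.closure ({z, g * z * g⁻¹} : Set G),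
        u ≠ 1 → v ≠ 1 → u ≠ v →
          ∃ x ∈ (Cfsg.generalizedFittingSubgroup ↥C).map C.subtype ⊔ ((Cfsg.generalizedFittingSubgroup ↥C).map C.subtype).map (MulAut.conj g).toMonoidHom, x * z * x⁻¹ = u ∧ x * (g * z * g⁻¹) * x⁻¹ = v := by
  set F := Cfsg.generalizedFittingSubgroup ↥C with hF
  set Q := F.map C.subtype with hQdef
  have hz2 : z * z = 1 := by rw [← pow_two, ← hz]; exact pow_orderOf_eq_one z
  have hz1 : z ≠ 1 := fun h => by rw [h, orderOf_one] at hz; omega
  have hzC : z ∈ C := (hC z).mpr rfl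
  have hzc : (⟨z, hzC⟩ : ↥C) ∈ Subgroup.center ↥C :=
    Subgroup.mem_center_iff.mpr fun x => Subtype.ext ((hC x).mp x.2)
  have hzF : (⟨z, hzC⟩ : ↥C) ∈ F := CfsgLib.KSteps.center_le_gfit _ hzc
  let ι : ↥F →* G := C.subtype.comp F.subtype
  have hι : Function.Injective ι := fun x y h => Subtype.ext (Subtype.ext h)
  have hmem : ∀ q : G, q ∈ Q ↔ ∃ x : ↥F, ι x = q := by
    intro q
    constructor
    · rintro ⟨x, hx, rfl⟩
      exact ⟨⟨x, hx⟩, rfl⟩
    · rintro ⟨x, rfl⟩
      exact ⟨x.1, x.2, rfl⟩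
  have hcy : IsCyclic ↥(Subgroup.center ↥F) := hQ.2 _ inferInstance inferInstance
  let ζ : ↥F := ⟨⟨z, hzC⟩, hzF⟩
  have hζ : ζ ∈ Subgroup.center ↥F := Subgroup.mem_center_iff.mpr fun x =>
    Subtype.ext (Subgroup.mem_center_iff.mp hzc x.1)
  have hζuniq : ∀ c ∈ Subgroup.center ↥F, c * c = 1 → c = 1 ∨ c = ζ := by
    intro c hc hcc
    by_cases h1 : c = 1
    · exact Or.inl h1
    refine Or.inr ?_
    have := @CfsgLib.KSteps.involution_eq_of_isCyclic ↥(Subgroup.center ↥F) _ _ hcy ⟨c, hc⟩ ⟨ζ, hζ⟩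
      (Subtype.ext (by simpa [pow_two] using hcc))
      (Subtype.ext (hι (by simpa [pow_two, ι, ζ] using hz2)))
      (fun h => h1 (congrArg Subtype.val h)) (fun h => hz1 (congrArg (fun w : ↥(Subgroup.center ↥F) => ι w.1) h))
    exact congrArg Subtype.val this
  have hF4 : ∀ x : ↥F, x ^ 4 = 1 := fun x => hι (by rw [map_pow, map_one]; exact h4 _ ((hmem _).mpr ⟨x, rfl⟩))
  have hbr := CfsgLib.KSteps.symplectic_exp_four hQ hF4
  have hGood : Good z Q := by
    refine ⟨⟨_, hzF, rfl⟩, hz2, hz1, ?_, ?_, ?_, ?_, ?_, ?_, ?_⟩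
    · rintro _ ⟨x, -, rfl⟩
      exact (hC x).mp x.2
    · rintro c hcz _ ⟨x, hx, rfl⟩
      have hn : F.Normal := CfsgLib.KSteps.gfit_normal _
      exact ⟨_, hn.conj_mem x hx ⟨c, (hC c).mpr hcz⟩, rfl⟩
    · intro c hcz hcx
      refine ⟨⟨c, (hC c).mpr hcz⟩, CfsgLib.Components.centralizer_genFitting_le ?_, rfl⟩
      exact Subgroup.mem_centralizer_iff.mpr fun x hx => Subtype.ext (hcx x ⟨x, hx, rfl⟩).symm
    · intro x hx
      obtain ⟨y, rfl⟩ := (hmem x).mp hx
      rw [← map_mul, ← map_mul, show y * y * (y * y) = y ^ 4 by simp only [pow_succ, pow_zero, one_mul]; group, hF4, map_one]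
    · intro a ha b hb
      obtain ⟨x, rfl⟩ := (hmem a).mp ha
      obtain ⟨y, rfl⟩ := (hmem b).mp hb
      rw [← map_inv, ← map_inv, ← map_mul, ← map_mul, ← map_mul]
      rcases hζuniq _ (hbr x y).1 (hbr x y).2 with e | e
      · exact Or.inl (by rw [e, map_one])
      · exact Or.inr (by rw [e]; rfl)
    · intro w hw hww hwc
      obtain ⟨x, rfl⟩ := (hmem w).mp hw
      rcases hζuniq x (Subgroup.mem_center_iff.mpr fun y => hι (by
          rw [map_mul, map_mul]; exact hwc _ ((hmem _).mpr ⟨y, rfl⟩)))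
        (hι (by rw [map_mul, map_one]; exact hww)) with e | e
      · exact Or.inl (by rw [e, map_one])
      · exact Or.inr (by rw [e]; rfl)
    · intro h2 c hcz
      have h2' : IsPGroup 2 ↥C := by
        have e : C = Subgroup.centralizer ({z} : Set G) := by
          ext y
          rw [hC, Subgroup.mem_centralizer_singleton_iff]
        rw [e]; exact h2
      have : Fact (Nat.Prime 2) := ⟨Nat.prime_two⟩
      have htop : (⊤ : Subgroup ↥C) ≤ F :=
        le_trans (CfsgLib.Components.le_fitting_of_normal inferInstance (h2'.to_subgroup ⊤).isNilpotent)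
          CfsgLib.Components.fitting_le_genFitting
      exact ⟨⟨c, (hC c).mpr hcz⟩, htop (Subgroup.mem_top _), rfl⟩
  set a := g * z * g⁻¹ with ha
  set R := Q.map (MulAut.conj g).toMonoidHom with hRdef
  have hzR : z ∈ R := mem_conj hGood g hne hin
  refine ⟨hzR, ?_⟩
  have hR : Good a R := hGood.map (MulAut.conj g)
  have ha2 : a * a = 1 := hR.sq
  have haz : a * z = z * a := hGood.comm a hin
  obtain ⟨q, hq, hqa⟩ := hGood.exists_move hin ha2 hR.ne_one hne
  obtain ⟨r, hr, hrz⟩ := hR.exists_move hzR hz2 hz1 (Ne.symm hne)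
  have hqz : q * z * q⁻¹ = z := by rw [hGood.comm q hq, mul_inv_cancel_right]
  have hra : r * a * r⁻¹ = a := by rw [hR.comm r hr, mul_inv_cancel_right]
  have hqza : q * (z * a) * q⁻¹ = a := by
    calc q * (z * a) * q⁻¹ = (q * z * q⁻¹) * (q * a * q⁻¹) := by group
      _ = a := by rw [hqz, hqa, ← mul_assoc, hz2, one_mul]
  have hrza : r * (z * a) * r⁻¹ = z := by
    calc r * (z * a) * r⁻¹ = (r * z * r⁻¹) * (r * a * r⁻¹) := by group
      _ = z := by rw [hrz, hra, haz, mul_assoc, ha2, mul_one]
  have hV : ∀ w ∈ Subgroup.closure ({z, a} : Set G), w = 1 ∨ w = z ∨ w = a ∨ w = z * a := by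
    let V : Subgroup G :=
      { carrier := {w | w = 1 ∨ w = z ∨ w = a ∨ w = z * a}
        one_mem' := Or.inl rfl
        mul_mem' := by
          have e1 : z * (z * a) = a := by rw [← mul_assoc, hz2, one_mul]
          have e2 : z * a * z = a := by rw [mul_assoc, haz, e1]
          have e3 : a * (z * a) = z := by rw [← mul_assoc, haz, mul_assoc, ha2, mul_one]
          have e4 : z * a * a = z := by rw [mul_assoc, ha2, mul_one]
          have e5 : z * a * (z * a) = 1 := by rw [mul_assoc, e3, hz2]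
          rintro b c (rfl | rfl | rfl | rfl) (rfl | rfl | rfl | rfl) <;>
            simp [hz2, ha2, haz, e1, e2, e3, e4, e5]
        inv_mem' := by
          have e : (z * a)⁻¹ = z * a := by
            rw [mul_inv_rev, inv_eq_of_mul_eq_one_right hz2, inv_eq_of_mul_eq_one_right ha2, haz]
          rintro b (rfl | rfl | rfl | rfl) <;>
            simp [inv_eq_of_mul_eq_one_right hz2, inv_eq_of_mul_eq_one_right ha2, e] }
    have hle : Subgroup.closure ({z, a} : Set G) ≤ V := by
      rw [Subgroup.closure_le]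
      rintro w (rfl | rfl)
      · exact Or.inr (Or.inl rfl)
      · exact Or.inr (Or.inr (Or.inl rfl))
    exact fun w hw => hle hw
  intro u hu v hv hu1 hv1 huv
  have hqm : q ∈ Q ⊔ R := Subgroup.mem_sup_left hq
  have hrm : r ∈ Q ⊔ R := Subgroup.mem_sup_right hr
  rcases (hV u hu).resolve_left hu1 with h | h | h <;>
    rcases (hV v hv).resolve_left hv1 with h' | h' | h' <;> rw [h, h'] at huv ⊢
  · exact absurd rfl huv
  · exact ⟨1, one_mem _, by simp, by simp⟩
  · exact ⟨q, hqm, hqz, hqa⟩
  · refine ⟨q * r * q, (Q ⊔ R).mul_mem ((Q ⊔ R).mul_mem hqm hrm) hqm, ?_, ?_⟩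
    · calc q * r * q * z * (q * r * q)⁻¹ = q * (r * (q * z * q⁻¹) * r⁻¹) * q⁻¹ := by group
        _ = q * (a * z) * q⁻¹ := by rw [hqz, hrz]
        _ = a := by rw [haz, hqza]
    · calc q * r * q * a * (q * r * q)⁻¹ = q * (r * (q * a * q⁻¹) * r⁻¹) * q⁻¹ := by group
        _ = z := by rw [hqa, hrza, hqz]
  · exact absurd rfl huv
  · refine ⟨q * r, (Q ⊔ R).mul_mem hqm hrm, ?_, ?_⟩
    · calc q * r * z * (q * r)⁻¹ = q * (r * z * r⁻¹) * q⁻¹ := by group
        _ = a := by rw [hrz, haz, hqza]
    · calc q * r * a * (q * r)⁻¹ = q * (r * a * r⁻¹) * q⁻¹ := by group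
        _ = z * a := by rw [hra, hqa]
  · refine ⟨r * q, (Q ⊔ R).mul_mem hrm hqm, ?_, ?_⟩
    · calc r * q * z * (r * q)⁻¹ = r * (q * z * q⁻¹) * r⁻¹ := by group
        _ = z * a := by rw [hqz, hrz, haz]
    · calc r * q * a * (r * q)⁻¹ = r * (q * a * q⁻¹) * r⁻¹ := by group
        _ = z := by rw [hqa, hrza]
  · exact ⟨r, hrm, by rw [hrz, haz], hra⟩
  · exact absurd rfl huv


/-- Let G be a finite group and let z be an involution of G such that Q, the generalized Fitting subgroup of the centralizer C of z, is a 2-group of symplectic type (every characteristic abelian subgroup of Q is cyclic); suppose every element of Q has order dividing 4. Let g ∈ G with z' = g z g⁻¹ ≠ z and z' ∈ Q. Then z lies in the conjugate g Q g⁻¹, and the subgroup X generated by Q and g Q g⁻¹ induces every automorphism of the four-group generated by z and z': for any two distinct non-identity elements u, v of that four-group there is x ∈ X with x z x⁻¹ = u and x z' x⁻¹ = v. -/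
theorem result {G : Type*} [Group G] [Finite G] (z : G) (hz : orderOf z = 2) (hQ : Cfsg.IsOfSymplecticType ↥(Cfsg.generalizedFittingSubgroup ↥(Subgroup.centralizer ({z} : Set G))))
    (h4 : ∀ q ∈ (Cfsg.generalizedFittingSubgroup ↥(Subgroup.centralizer ({z} : Set G))).map (Subgroup.centralizer ({z} : Set G)).subtype, q ^ 4 = 1) (g : G) (hne : g * z * g⁻¹ ≠ z) (hin : g * z * g⁻¹ ∈ (Cfsg.generalizedFittingSubgroup ↥(Subgroup.centralizer ({z} : Set G))).map (Subgroup.centralizer ({z} : Set G)).subtype) :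
    z ∈ ((Cfsg.generalizedFittingSubgroup ↥(Subgroup.centralizer ({z} : Set G))).map (Subgroup.centralizer ({z} : Set G)).subtype).map (MulAut.conj g).toMonoidHom ∧
      ∀ u ∈ Subgroup.closure ({z, g * z * g⁻¹} : Set G), ∀ v ∈ Subgroup.closure ({z, g * z * g⁻¹} : Set G),
        u ≠ 1 → v ≠ 1 → u ≠ v →
          ∃ x ∈ (Cfsg.generalizedFittingSubgroup ↥(Subgroup.centralizer ({z} : Set G))).map (Subgroup.centralizer ({z} : Set G)).subtype ⊔ ((Cfsg.generalizedFittingSubgroup ↥(Subgroup.centralizer ({z} : Set G))).map (Subgroup.centralizer ({z} : Set G)).subtype).map (MulAut.conj g).toMonoidHom, x * z * x⁻¹ = u ∧ x * (g * z * g⁻¹) * x⁻¹ = v := by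
  exact main z hz _ (fun _ => Subgroup.mem_centralizer_singleton_iff) hQ h4 g hne hin

end Cfsg.Agent.S1774
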