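import Cfsg.Statements.S1775
import Cfsg.Agent.Lib.KSteps.PComp
import Cfsg.Agent.Lib.Components.GenFitting

set_option autoImplicit false
open Cfsg

namespace Cfsg.Agent.S1775

theorem aux {G : Type*} [Group G] [Finite G]
    (hF : IsSimpleGroup ↥(Cfsg.generalizedFittingSubgroup G)) (hF' : ¬ IsMulCommutative ↥(Cfsg.generalizedFittingSubgroup G))
    (hsec : ∀ (H : Subgroup G) (N : Subgroup ↥H) [N.Normal], (H ≠ ⊤ ∨ N ≠ ⊥) → Cfsg.HasBProperty (↥H ⧸ N))
    (x y : G) (hx : orderOf x = 2) (hy : orderOf y = 2) (hxy : x * y = y * x)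
    (D : Subgroup G) (hDx : ∀ d ∈ D, d * x = x * d) (hDy : D ≤ Subgroup.centralizer ({y} : Set G))
    (hDn : ∀ g : G, g * x = x * g → g * y = y * g → ∀ d ∈ D, g * d * g⁻¹ ∈ D)
    (J : Subgroup ↥D) (hJ : Cfsg.IsPComponent 2 J) :
    Cfsg.IsComponent
        ((((J.map (Subgroup.subtype _)).subgroupOf (Subgroup.centralizer ({y} : Set G))).map (QuotientGroup.mk' (Cfsg.oddCore ↥(Subgroup.centralizer ({y} : Set G))))).subgroupOf
          (Subgroup.centralizer ({(QuotientGroup.mk' (Cfsg.oddCore ↥(Subgroup.centralizer ({y} : Set G))) ⟨x, Subgroup.mem_centralizer_singleton_iff.mpr hxy⟩ : ↥(Subgroup.centralizer ({y} : Set G)) ⧸ Cfsg.oddCore ↥(Subgroup.centralizer ({y} : Set G)))} : Set _))) ∧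
      ∀ E : Subgroup G, E ≤ Subgroup.centralizer ({x} : Set G) ⊓ Subgroup.centralizer ({y} : Set G) → Odd (Nat.card ↥E) →
        (∀ j ∈ J.map (Subgroup.subtype _), ∀ e ∈ E, j * e * j⁻¹ ∈ E) →
          ⁅J.map (Subgroup.subtype _), E⁆ ≤ (Cfsg.oddCore ↥(Subgroup.centralizer ({y} : Set G))).map (Subgroup.centralizer ({y} : Set G)).subtype := by
  have : Fact (Nat.Prime 2) := ⟨Nat.prime_two⟩
  set Cy := Subgroup.centralizer ({y} : Set G) with hCy
  have hxCy : x ∈ Cy := Subgroup.mem_centralizer_singleton_iff.mpr hxy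
  set x' : ↥Cy := ⟨x, hxCy⟩ with hx'
  set π := QuotientGroup.mk' (Cfsg.oddCore ↥Cy) with hπ
  set K : Subgroup ↥Cy := Subgroup.centralizer {x'} with hK
  set K' : Subgroup (↥Cy ⧸ Cfsg.oddCore ↥Cy) := Subgroup.centralizer {π x'} with hK'
  have hO : (Nat.card ↥(Cfsg.oddCore ↥Cy)).Coprime 2 := CfsgLib.Components.coprime_card_pPrimeCore 2
  -- `D` embeds in `K` as a normal subgroup
  let f : ↥D →* ↥K :=
    { toFun := fun d => ⟨⟨d, hDy d.2⟩, Subgroup.mem_centralizer_singleton_iff.mpr
        (Subtype.ext (hDx d d.2))⟩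
      map_one' := rfl
      map_mul' := fun a b => rfl }
  have hf : Function.Injective f := fun a b h =>
    Subtype.ext (congrArg (fun w : ↥K => ((w : ↥Cy) : G)) h)
  have hmemR : ∀ k : ↥K, k ∈ f.range ↔ ((k : ↥Cy) : G) ∈ D := fun k => by
    constructor
    · rintro ⟨d, rfl⟩; exact d.2
    · exact fun h => ⟨⟨_, h⟩, rfl⟩
  have hRn : f.range.Normal := by
    refine ⟨fun k hk g => (hmemR _).mpr ?_⟩
    exact hDn ((g : ↥Cy) : G) (congrArg Subtype.val (Subgroup.mem_centralizer_singleton_iff.mp g.2))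
      (Subgroup.mem_centralizer_singleton_iff.mp g.1.2) _ ((hmemR k).mp hk)
  have hJ1 : Cfsg.IsPComponent 2 (J.map f) := by
    have h := CfsgLib.Components.isPComponent_map_equiv (MonoidHom.ofInjective hf) hJ
    have h2 := CfsgLib.KSteps.pComponent_map_subtype hRn.isSubnormal h
    rwa [Subgroup.map_map, show f.range.subtype.comp (MonoidHom.ofInjective hf).toMonoidHom = f from
      MonoidHom.ext fun _ => rfl] at h2
  -- `K` maps onto `K'`
  have hgmem : ∀ k : ↥K, π (k : ↥Cy) ∈ K' := fun k => Subgroup.mem_centralizer_singleton_iff.mpr (by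
    rw [← map_mul, Subgroup.mem_centralizer_singleton_iff.mp k.2, map_mul])
  let g : ↥K →* ↥K' := (π.comp K.subtype).codRestrict K' hgmem
  have hx2 : x' * x' = 1 := Subtype.ext (by
    show x * x = 1
    rw [← pow_two, ← hx, pow_orderOf_eq_one])
  have hgs : Function.Surjective g := by
    rintro ⟨q, hq⟩
    obtain ⟨k, rfl⟩ := QuotientGroup.mk'_surjective (Cfsg.oddCore ↥Cy) q
    have hq' : π k * π x' = π x' * π k := Subgroup.mem_centralizer_singleton_iff.mp hq
    set d := k⁻¹ * (x' * k * x') with hd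
    have hdO : d ∈ Cfsg.oddCore ↥Cy := by
      rw [← QuotientGroup.eq_one_iff]
      show π d = 1
      rw [hd, map_mul, map_inv, map_mul, map_mul, ← hq', mul_assoc, ← map_mul π x' x', hx2, map_one,
        mul_one, inv_mul_cancel]
    have hxi : x'⁻¹ = x' := inv_eq_of_mul_eq_one_right hx2
    have hdd : x' * d * x' = d⁻¹ := by
      calc x' * d * x' = x' * k⁻¹ * x' * k * (x' * x') := by rw [hd]; group
        _ = x'⁻¹ * k⁻¹ * x'⁻¹ * k := by rw [hx2, mul_one, hxi]
        _ = d⁻¹ := by rw [hd]; group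
    obtain ⟨m, hm⟩ : ∃ m, orderOf d = 2 * m + 1 := by
      have h1 : orderOf d ∣ Nat.card ↥(Cfsg.oddCore ↥Cy) := Subgroup.orderOf_dvd_natCard _ hdO
      have h2 : (orderOf d).Coprime 2 := Nat.Coprime.coprime_dvd_left h1 hO
      obtain ⟨m, hm⟩ := (Nat.coprime_two_right.mp h2)
      exact ⟨m, hm⟩
    refine ⟨⟨k * d ^ (m + 1), Subgroup.mem_centralizer_singleton_iff.mpr ?_⟩, ?_⟩
    · have e1 : x' * (k * d ^ (m + 1)) * x'⁻¹ = k * d ^ (m + 1) := by
        calc x' * (k * d ^ (m + 1)) * x'⁻¹ = (x' * k * x') * (x'⁻¹ * d ^ (m + 1) * x'⁻¹) := by group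
          _ = (k * d) * (x' * d * x'⁻¹) ^ (m + 1) := by
            rw [conj_pow, hxi]; congr 1; rw [hd]; group
          _ = k * d * (d ^ (m + 1))⁻¹ := by rw [hxi, hdd, inv_pow, mul_assoc]
          _ = k * (d ^ (m + 1))⁻¹ * d ^ 1 := by group
          _ = k * (d ^ (m + 1))⁻¹ * (d ^ 1 * d ^ (2 * m + 1)) := by
            rw [← hm, pow_orderOf_eq_one, mul_one]
          _ = k * d ^ (m + 1) := by
            rw [← pow_add, show 1 + (2 * m + 1) = (m + 1) + (m + 1) by omega, pow_add]; group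
      exact (mul_inv_eq_iff_eq_mul.mp e1).symm
    · apply Subtype.ext
      show π (k * d ^ (m + 1)) = π k
      rw [map_mul, map_pow, show π d = 1 from (QuotientGroup.eq_one_iff d).mpr hdO, one_pow, mul_one]
  have hgker : (Nat.card g.ker).Coprime 2 := by
    refine Nat.Coprime.coprime_dvd_left ?_ hO
    have hle : g.ker.map K.subtype ≤ Cfsg.oddCore ↥Cy := by
      rintro _ ⟨k, hk, rfl⟩
      exact (QuotientGroup.eq_one_iff _).mp (congrArg Subtype.val hk)
    exact (Subgroup.card_map_of_injective K.subtype_injective).symm.dvd.trans (Subgroup.card_dvd_of_le hle)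
  set J2 := (J.map f).map g with hJ2
  have hJ2c : Cfsg.IsPComponent 2 J2 := CfsgLib.KSteps.pComponent_map_of_coprime_ker hgs hgker hJ1
  -- the B-property of `C(y)/O(C(y))`
  have hCyne : Cy ≠ ⊤ := by
    intro htop
    have hyc : y ∈ Subgroup.center G := Subgroup.mem_center_iff.mpr fun h =>
      (Subgroup.mem_centralizer_singleton_iff.mp (htop ▸ Subgroup.mem_top h : h ∈ Cy))
    have hyF : y ∈ Cfsg.generalizedFittingSubgroup G :=
      CfsgLib.Components.centralizer_genFitting_le (Subgroup.center_le_centralizer _ hyc)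
    have hyc' : (⟨y, hyF⟩ : ↥(Cfsg.generalizedFittingSubgroup G)) ∈ Subgroup.center _ :=
      Subgroup.mem_center_iff.mpr fun h => Subtype.ext (Subgroup.mem_center_iff.mp hyc h)
    rcases (Subgroup.center ↥(Cfsg.generalizedFittingSubgroup G)).normal_of_characteristic.eq_bot_or_eq_top with h | h
    · rw [h, Subgroup.mem_bot] at hyc'
      have : y = 1 := congrArg Subtype.val hyc'
      rw [this, orderOf_one] at hy
      omega
    · exact hF' ⟨⟨fun a b => (Subgroup.mem_center_iff.mp (h ▸ Subgroup.mem_top a) b).symm⟩⟩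
  have hB := hsec Cy (Cfsg.oddCore ↥Cy) (Or.inl hCyne)
  have hxord : orderOf (π x') = 2 := by
    refine orderOf_eq_prime (by rw [pow_two, ← map_mul, hx2, map_one]) fun h => ?_
    have h1 := Nat.Coprime.coprime_dvd_left
      (Subgroup.orderOf_dvd_natCard _ ((QuotientGroup.eq_one_iff x').mp h)) hO
    rw [← Subgroup.orderOf_coe, hx] at h1
    norm_num at h1
  have hbot : Cfsg.oddCore (↥Cy ⧸ Cfsg.oddCore ↥Cy) = ⊥ :=
    CfsgLib.Solvable.pPrimeCore_quotient_eq_bot _ rfl
  have hcomm : ⁅Cfsg.pLayer 2 ↥K', Cfsg.oddCore ↥K'⁆ = ⊥ := by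
    have h := hB (π x') hxord
    rw [hbot, le_bot_iff, Subgroup.map_eq_bot_iff_of_injective _ K'.subtype_injective] at h
    exact h
  have hq : Cfsg.IsQuasisimple ↥J2 := by
    refine (CfsgLib.Components.pComponent_quasisimple_iff hJ2c).mpr (eq_bot_iff.mpr ?_)
    rw [← hcomm]
    refine Subgroup.commutator_mono (CfsgLib.Components.pComponent_le_pLayer hJ2c) ?_
    rw [CfsgLib.Components.pPrimeCore_subnormal_map hJ2c.1]
    exact inf_le_right
  constructor
  · have e : ((((J.map (Subgroup.subtype _)).subgroupOf Cy).map π).subgroupOf K' : Subgroup ↥K') = J2 := by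
      ext w
      constructor
      · rintro ⟨c, hc, hcw⟩
        obtain ⟨d, hd, hdc⟩ := hc
        refine ⟨f d, ⟨d, hd, rfl⟩, Subtype.ext ?_⟩
        show π ((f d : ↥K) : ↥Cy) = (w : ↥Cy ⧸ Cfsg.oddCore ↥Cy)
        rw [show ((f d : ↥K) : ↥Cy) = c from Subtype.ext hdc]
        exact hcw
      · rintro ⟨_, ⟨d, hd, rfl⟩, rfl⟩
        exact ⟨((f d : ↥K) : ↥Cy), ⟨d, hd, rfl⟩, rfl⟩
    have hfin : Cfsg.IsComponent ((((J.map (Subgroup.subtype _)).subgroupOf Cy).map π).subgroupOf K') := by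
      rw [e]; exact ⟨hJ2c.1, hq⟩
    exact hfin
  · intro E hE hEodd hEJ
    have hEK : ∀ e ∈ E, ∃ k : ↥K, ((k : ↥Cy) : G) = e := fun e he =>
      ⟨⟨⟨e, (hE he).2⟩, Subgroup.mem_centralizer_singleton_iff.mpr
        (Subtype.ext (Subgroup.mem_centralizer_singleton_iff.mp (hE he).1))⟩, rfl⟩
    let EK : Subgroup ↥K := (E.subgroupOf Cy).subgroupOf K
    have hEKmem : ∀ k : ↥K, k ∈ EK ↔ ((k : ↥Cy) : G) ∈ E := fun k => Iff.rfl
    set E2 := EK.map g with hE2
    have hE2odd : (Nat.card ↥E2).Coprime 2 := by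
      refine Nat.Coprime.coprime_dvd_left ((Subgroup.card_map_dvd EK g).trans ?_)
        (Nat.coprime_two_right.mpr hEodd)
      exact (Subgroup.card_comap_dvd_of_injective _ _ K.subtype_injective).trans
        (Subgroup.card_comap_dvd_of_injective _ _ Cy.subtype_injective)
    have hJn : J2 ≤ Subgroup.normalizer (E2 : Set ↥K') := by
      rintro _ ⟨_, ⟨d, hd, rfl⟩, rfl⟩
      refine Subgroup.mem_normalizer_iff.mpr fun w => ?_
      have hconj : ∀ d ∈ J, ∀ w ∈ E2, g (f d) * w * (g (f d))⁻¹ ∈ E2 := by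
        rintro d hd _ ⟨k, hk, rfl⟩
        refine ⟨f d * k * (f d)⁻¹, (hEKmem _).mpr (hEJ _ ⟨d, hd, rfl⟩ _ hk), ?_⟩
        rw [map_mul, map_mul, map_inv]
      refine ⟨hconj d hd w, fun h => ?_⟩
      have h2 := hconj d⁻¹ (J.inv_mem hd) _ h
      rw [map_inv, map_inv] at h2
      simpa [mul_assoc] using h2
    have hn : (E2.subgroupOf (J2 ⊔ E2)).Normal :=
      (Subgroup.normal_subgroupOf_iff_le_normalizer le_sup_right).mpr (sup_le hJn Subgroup.le_normalizer)
    have hcJE : ⁅J2, E2⁆ = ⊥ := by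
      rcases CfsgLib.Components.component_le_or_commutator_normal
        (CfsgLib.Components.component_subgroupOf ⟨hJ2c.1, hq⟩ (le_sup_left : J2 ≤ J2 ⊔ E2)) hn with h | h
      · exfalso
        have h' : J2 ≤ E2 := fun j hj =>
          h (show (⟨j, Subgroup.mem_sup_left hj⟩ : ↥(J2 ⊔ E2)) ∈ J2.subgroupOf _ from hj)
        have := Nat.Coprime.coprime_dvd_left
          ((CfsgLib.Components.pComponent_dvd_card hJ2c).trans (Subgroup.card_dvd_of_le h')) hE2odd
        norm_num at this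
      · exact (CfsgLib.Components.commutator_subgroupOf_eq_bot_iff le_sup_left le_sup_right).mp h
    rw [Subgroup.commutator_le]
    rintro _ ⟨d, hd, rfl⟩ e he
    obtain ⟨k, hk⟩ := hEK e he
    refine ⟨((f d * k * (f d)⁻¹ * k⁻¹ : ↥K) : ↥Cy), ?_, ?_⟩
    · refine (QuotientGroup.eq_one_iff _).mp ?_
      have h1 : g (f d * k * (f d)⁻¹ * k⁻¹) = 1 := by
        have := Subgroup.commutator_mem_commutator (show g (f d) ∈ J2 from ⟨_, ⟨d, hd, rfl⟩, rfl⟩)
          (show g k ∈ E2 from ⟨k, (hEKmem k).mpr (hk ▸ he), rfl⟩)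
        rw [hcJE, Subgroup.mem_bot, commutatorElement_def] at this
        rw [map_mul, map_mul, map_mul, map_inv, map_inv]
        exact this
      exact congrArg Subtype.val h1
    · subst hk
      rw [commutatorElement_def]
      rfl


/-- Let G be a finite group whose generalized Fitting subgroup is a non-abelian simple group and in which every proper section (every quotient H/N of a proper subgroup H, or of G by a nontrivial normal subgroup) has the B-property. Let x, y be commuting involutions, let D be the intersection of the 2-layer of C_G(x) with C_G(y), and let J be a 2-component of D. Write Q for the quotient of C_G(y) by its largest normal odd-order subgroup. Then (i) the image of J in Q is a component of the centralizer in Q of the image of x; and (ii) for every J-invariant subgroup E of odd order of C_G(x) ∩ C_G(y), the commutator subgroup [J, E] lies in the largest normal odd-order subgroup of C_G(y). -/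
theorem result {G : Type*} [Group G] [Finite G]
    (hF : IsSimpleGroup ↥(Cfsg.generalizedFittingSubgroup G)) (hF' : ¬ IsMulCommutative ↥(Cfsg.generalizedFittingSubgroup G))
    (hsec : ∀ (H : Subgroup G) (N : Subgroup ↥H) [N.Normal], (H ≠ ⊤ ∨ N ≠ ⊥) → Cfsg.HasBProperty (↥H ⧸ N))
    (x y : G) (hx : orderOf x = 2) (hy : orderOf y = 2) (hxy : x * y = y * x)
    (J : Subgroup ↥((Cfsg.pLayer 2 ↥(Subgroup.centralizer ({x} : Set G))).map (Subgroup.centralizer ({x} : Set G)).subtype ⊓ Subgroup.centralizer ({y} : Set G)))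
    (hJ : Cfsg.IsPComponent 2 J) :
    Cfsg.IsComponent
        ((((J.map (Subgroup.subtype _)).subgroupOf (Subgroup.centralizer ({y} : Set G))).map (QuotientGroup.mk' (Cfsg.oddCore ↥(Subgroup.centralizer ({y} : Set G))))).subgroupOf
          (Subgroup.centralizer ({(QuotientGroup.mk' (Cfsg.oddCore ↥(Subgroup.centralizer ({y} : Set G))) ⟨x, Subgroup.mem_centralizer_singleton_iff.mpr hxy⟩ : ↥(Subgroup.centralizer ({y} : Set G)) ⧸ Cfsg.oddCore ↥(Subgroup.centralizer ({y} : Set G)))} : Set _))) ∧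
      ∀ E : Subgroup G, E ≤ Subgroup.centralizer ({x} : Set G) ⊓ Subgroup.centralizer ({y} : Set G) → Odd (Nat.card ↥E) →
        (∀ j ∈ J.map (Subgroup.subtype _), ∀ e ∈ E, j * e * j⁻¹ ∈ E) →
          ⁅J.map (Subgroup.subtype _), E⁆ ≤ (Cfsg.oddCore ↥(Subgroup.centralizer ({y} : Set G))).map (Subgroup.centralizer ({y} : Set G)).subtype := by
  refine aux hF hF' hsec x y hx hy hxy _ ?_ inf_le_right ?_ J hJ
  · rintro d ⟨⟨u, -, rfl⟩, -⟩
    exact Subgroup.mem_centralizer_singleton_iff.mp u.2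
  · rintro g hgx hgy d ⟨⟨u, hu, rfl⟩, hd⟩
    have hn : (Cfsg.pLayer 2 ↥(Subgroup.centralizer ({x} : Set G))).Normal := by
      have : Fact (Nat.Prime 2) := ⟨Nat.prime_two⟩
      have : (Cfsg.pLayer 2 ↥(Subgroup.centralizer ({x} : Set G))).Characteristic := by
        rw [Subgroup.characteristic_iff_map_eq]
        intro φ
        exact CfsgLib.Components.pLayer_map_equiv φ
      infer_instance
    have hgC := Subgroup.mem_centralizer_singleton_iff.mpr hgy
    exact ⟨⟨_, hn.conj_mem u hu ⟨g, Subgroup.mem_centralizer_singleton_iff.mpr hgx⟩, rfl⟩,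
      Subgroup.mul_mem _ (Subgroup.mul_mem _ hgC hd) (Subgroup.inv_mem _ hgC)⟩

end Cfsg.Agent.S1775
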