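import Cfsg.Statements.S1781
import Cfsg.Agent.Lib.KSteps.Basic

set_option autoImplicit false
open Cfsg

namespace Cfsg.Agent.S1781

/-- Let A be an abelian 2-subgroup of the finite group G such that every conjugate of A equals A or meets A trivially, and let g ∈ G with g A g⁻¹ ≠ A. Then either the subgroup of those elements of A that normalize g A g⁻¹ is an elementary abelian 2-group, or A and g A g⁻¹ commute elementwise. -/
theorem result {G : Type*} [Group G] [Finite G] (A : Subgroup G)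
    (hA2 : IsPGroup 2 ↥A) (hAa : IsMulCommutative ↥A)
    (hti : ∀ h : G, A.map (MulAut.conj h).toMonoidHom = A ∨ A.map (MulAut.conj h).toMonoidHom ⊓ A = ⊥)
    (g : G) (hg : A.map (MulAut.conj g).toMonoidHom ≠ A) :
    Cfsg.IsElementaryAbelian 2 (A ⊓ Subgroup.normalizer ((A.map (MulAut.conj g).toMonoidHom : Subgroup G) : Set G)) ∨
      ⁅A, A.map (MulAut.conj g).toMonoidHom⁆ = ⊥ := by
  set B := A.map (MulAut.conj g).toMonoidHom with hB
  have hcardB : Nat.card ↥B = Nat.card ↥A :=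
    Subgroup.card_map_of_injective (MulAut.conj g).injective
  have hBti : ∀ h : G, B.map (MulAut.conj h).toMonoidHom = B ∨
      B.map (MulAut.conj h).toMonoidHom ⊓ B = ⊥ := by
    intro h
    have he : B.map (MulAut.conj h).toMonoidHom =
        (A.map (MulAut.conj (g⁻¹ * h * g)).toMonoidHom).map (MulAut.conj g).toMonoidHom := by
      rw [hB, Subgroup.map_map, Subgroup.map_map]
      congr 1
      ext x
      simp [MulAut.conj_apply, mul_assoc]
    rcases hti (g⁻¹ * h * g) with h1 | h1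
    · left
      rw [he, h1]
    · right
      rw [he, hB, ← Subgroup.map_inf_eq _ _ _ (MulAut.conj g).injective, h1, Subgroup.map_bot]
  have hAB : A ⊓ B = ⊥ := by
    rw [inf_comm]
    exact (hti g).resolve_left hg
  have hB2 : IsPGroup 2 ↥B := hA2.map _
  have hBa : ∀ x ∈ B, ∀ y ∈ B, x * y = y * x := by
    rintro _ ⟨x, hx, rfl⟩ _ ⟨y, hy, rfl⟩
    simp only [MulEquiv.coe_toMonoidHom, ← map_mul]
    exact congrArg (MulAut.conj g) (congrArg Subtype.val (hAa.is_comm.comm ⟨x, hx⟩ ⟨y, hy⟩))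
  have hAa' : ∀ x ∈ A, ∀ y ∈ A, x * y = y * x := fun x hx y hy =>
    congrArg Subtype.val (hAa.is_comm.comm ⟨x, hx⟩ ⟨y, hy⟩)
  -- an element of `B` commuting with a nontrivial element of `A` normalizes `A`
  have hnorm : ∀ a ∈ A, a ≠ 1 → ∀ b ∈ B, b * a = a * b → b ∈ Subgroup.normalizer (A : Set G) := by
    intro a ha ha1 b _ hba
    refine Subgroup.mem_normalizer_iff.mpr fun x => ?_
    have hA' : A.map (MulAut.conj b).toMonoidHom = A := by
      refine (hti b).resolve_right fun h => ha1 ?_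
      rw [← Subgroup.mem_bot, ← h]
      exact ⟨⟨a, ha, by simp [MulAut.conj_apply, hba]⟩, ha⟩
    constructor
    · intro hx
      rw [← hA']
      exact ⟨x, hx, rfl⟩
    · intro hx
      rw [← hA'] at hx
      obtain ⟨y, hy, hyx⟩ := hx
      have : y = x := (MulAut.conj b).injective hyx
      exact this ▸ hy
  -- elements of `B` normalizing `A` commute with elements of `A` normalizing `B`
  have hcomm : ∀ b ∈ B, b ∈ Subgroup.normalizer (A : Set G) →
      ∀ a ∈ A, a ∈ Subgroup.normalizer (B : Set G) → a * b = b * a := by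
    intro b hb hbn a ha han
    have h : a * b * a⁻¹ * b⁻¹ ∈ A ⊓ B := by
      refine Subgroup.mem_inf.2 ⟨?_, B.mul_mem ((Subgroup.mem_normalizer_iff.mp han b).mp hb) (B.inv_mem hb)⟩
      have := A.mul_mem ha ((Subgroup.mem_normalizer_iff.mp hbn a⁻¹).mp (A.inv_mem ha))
      simpa [mul_assoc] using this
    rw [hAB, Subgroup.mem_bot] at h
    exact mul_inv_eq_iff_eq_mul.mp (mul_inv_eq_one.mp h)
  by_cases hel : ∀ a ∈ A ⊓ Subgroup.normalizer (B : Set G), a ^ 2 = 1
  · exact Or.inl ⟨⟨⟨fun x y => Subtype.ext (hAa' x.1 x.2.1 y.1 y.2.1)⟩⟩, hel⟩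
  right
  push Not at hel
  obtain ⟨a, ⟨ha, han⟩, ha2⟩ := hel
  have : IsMulCommutative ↥B := ⟨⟨fun x y => Subtype.ext (hBa _ x.2 _ y.2)⟩⟩
  let t : MulAut ↥B := B.normalizerMonoidHom ⟨a, han⟩
  have ht : IsPGroup 2 ↥(Subgroup.zpowers t) := by
    have ha' : IsPGroup 2 ↥(Subgroup.zpowers (⟨a, han⟩ : ↥(Subgroup.normalizer (B : Set G)))) := by
      obtain ⟨k, hk⟩ := hA2 ⟨a, ha⟩
      obtain ⟨j, -, hj⟩ := (Nat.dvd_prime_pow Nat.prime_two).mp
        (orderOf_dvd_of_pow_eq_one (congrArg Subtype.val hk : a ^ 2 ^ k = 1))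
      exact IsPGroup.of_card (n := j) (by rw [Nat.card_zpowers, Subgroup.orderOf_mk, hj])
    have := ha'.map B.normalizerMonoidHom
    rwa [MonoidHom.map_zpowers] at this
  have hfix : ∀ b : ↥B, t b = b := by
    refine @CfsgLib.KSteps.aut_fixes_all ↥B { (inferInstance : Group ↥B) with mul_comm := fun x y => Subtype.ext (hBa _ x.2 _ y.2) } _ hB2 t ht ?_
    intro b hb
    have hb' : a ^ 2 * (b : G) = (b : G) * a ^ 2 := by
      have h : a * (a * (b : G) * a⁻¹) * a⁻¹ = b := congrArg Subtype.val hb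
      calc a ^ 2 * (b : G) = a * (a * (b : G) * a⁻¹) * a⁻¹ * a ^ 2 := by rw [pow_two]; group
        _ = _ := by rw [h]
    have hbn : (b : G) ∈ Subgroup.normalizer (A : Set G) :=
      hnorm (a ^ 2) (A.pow_mem ha 2) ha2 b b.2 hb'.symm
    exact Subtype.ext (mul_inv_eq_iff_eq_mul.mpr (hcomm b b.2 hbn a ha han))
  have hBN : ∀ b ∈ B, b ∈ Subgroup.normalizer (A : Set G) := by
    intro b hb
    have h : a * b * a⁻¹ = b := congrArg Subtype.val (hfix ⟨b, hb⟩)
    have ha1 : a ≠ 1 := fun h => ha2 (by rw [h, one_pow])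
    exact hnorm a ha ha1 b hb (mul_inv_eq_iff_eq_mul.mp h).symm
  rw [Subgroup.commutator_eq_bot_iff_le_centralizer]
  intro x hx y hy
  exact (CfsgLib.KSteps.commute_of_ti_normalizes A B (fun h _ => hBti h) hcardB.ge hAB
    (fun b hb z hz => (Subgroup.mem_normalizer_iff.mp (hBN b hb) z).mp hz) x hx y hy).symm

end Cfsg.Agent.S1781
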