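import Cfsg.Statements.S1783
import Cfsg.Agent.Lib.KSteps.TIFamily
import Cfsg.Agent.Lib.Components.GenFitting

set_option autoImplicit false
open Cfsg

namespace Cfsg.Agent.S1783

/-- Let X be a finite group whose generalized Fitting subgroup equals its largest normal 2-subgroup Q, and let A be an abelian 2-subgroup of X such that every conjugate of A equals A or meets A trivially. Let B be the subgroup generated by the squares of the elements of A. Then B lies in Q, and if B is not an elementary abelian 2-group then the normal closure of B in X is commutative. -/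
theorem result {X : Type*} [Group X] [Finite X]
    (hX : Cfsg.generalizedFittingSubgroup X = Cfsg.pCore 2 X) (A : Subgroup X) (hA2 : IsPGroup 2 ↥A) (hAa : IsMulCommutative ↥A)
    (hti : ∀ h : X, A.map (MulAut.conj h).toMonoidHom = A ∨ A.map (MulAut.conj h).toMonoidHom ⊓ A = ⊥) :
    Subgroup.closure ((fun a : X => a ^ 2) '' (A : Set X)) ≤ Cfsg.pCore 2 X ∧
      (¬ Cfsg.IsElementaryAbelian 2 (Subgroup.closure ((fun a : X => a ^ 2) '' (A : Set X))) →
        IsMulCommutative ↥(Subgroup.normalClosure ((fun a : X => a ^ 2) '' (A : Set X)))) := by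
  set Q := Cfsg.pCore 2 X with hQdef
  have : Fact (Nat.Prime 2) := ⟨Nat.prime_two⟩
  have hQ2 : IsPGroup 2 ↥Q := CfsgLib.Components.isPGroup_pCore 2
  have hQn : Q.Normal := inferInstance
  have hAc : ∀ x ∈ A, ∀ y ∈ A, x * y = y * x := fun x hx y hy =>
    congrArg Subtype.val (hAa.is_comm.comm ⟨x, hx⟩ ⟨y, hy⟩)
  have hcardmap : ∀ (H : Subgroup X) (x : X), Nat.card ↥(H.map (MulAut.conj x).toMonoidHom) = Nat.card ↥H :=
    fun H x => Subgroup.card_map_of_injective (MulAut.conj x).injective
  have hmm : ∀ (H : Subgroup X) (x y : X),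
      (H.map (MulAut.conj x).toMonoidHom).map (MulAut.conj y).toMonoidHom =
        H.map (MulAut.conj (y * x)).toMonoidHom := by
    intro H x y
    rw [Subgroup.map_map]
    congr 1
    ext u
    simp [MulAut.conj_apply, mul_assoc]
  have htiAll : ∀ H : Subgroup X, (∀ h : X, H.map (MulAut.conj h).toMonoidHom = H ∨
      H.map (MulAut.conj h).toMonoidHom ⊓ H = ⊥) → ∀ x y : X,
      H.map (MulAut.conj x).toMonoidHom = H.map (MulAut.conj y).toMonoidHom ∨
        H.map (MulAut.conj x).toMonoidHom ⊓ H.map (MulAut.conj y).toMonoidHom = ⊥ := by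
    intro H hH x y
    have e : H.map (MulAut.conj x).toMonoidHom =
        (H.map (MulAut.conj (y⁻¹ * x)).toMonoidHom).map (MulAut.conj y).toMonoidHom := by
      rw [hmm, mul_inv_cancel_left]
    rcases hH (y⁻¹ * x) with h | h
    · left; rw [e, h]
    · right
      rw [e, ← Subgroup.map_inf_eq _ _ _ (MulAut.conj y).injective, h, Subgroup.map_bot]
  -- squares of elements of `A` lie in `Q`
  have hsq : ∀ a ∈ A, a ^ 2 ∈ Q := by
    intro a ha
    by_cases ha2 : a ^ 2 = 1
    · rw [ha2]; exact Q.one_mem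
    set P := Q ⊔ A with hP_def
    have hP : IsPGroup 2 ↥P := hQ2.to_sup_of_normal_left hA2
    set Δ : Set (Subgroup X) := {U | ∃ x ∈ P, U = A.map (MulAut.conj x).toMonoidHom}
    have hcomm : ∀ q ∈ Q, Commute (q * a * q⁻¹) a := by
      intro q hq
      by_cases hAq : A.map (MulAut.conj q).toMonoidHom = A
      · exact hAc _ (hAq ▸ ⟨a, ha, by simp⟩) _ ha
      refine CfsgLib.KSteps.ti_family_commute_in P hP Δ ?_ ?_ ?_ ?_ ?_ _ ⟨q, Subgroup.mem_sup_left hq, rfl⟩
        A ⟨1, P.one_mem, by rw [map_one]; exact (Subgroup.map_id A).symm⟩ hAq _ ⟨a, ha, by simp⟩ a ha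
      · rintro _ ⟨x, hx, rfl⟩ _ ⟨y, hy, rfl⟩
        exact P.mul_mem (P.mul_mem hx (Subgroup.mem_sup_right hy)) (P.inv_mem hx)
      · rintro s hs _ ⟨x, hx, rfl⟩
        exact ⟨s * x, P.mul_mem hs hx, hmm A x s⟩
      · rintro _ ⟨x, -, rfl⟩
        refine ⟨MulAut.conj x a, ⟨a, ha, rfl⟩, ?_⟩
        rw [← map_pow]
        exact fun h => ha2 ((MulAut.conj x).injective (h.trans (map_one _).symm))
      · rintro _ ⟨x, -, rfl⟩ _ ⟨y, -, rfl⟩
        rw [hcardmap, hcardmap]
      · rintro _ ⟨x, -, rfl⟩ _ ⟨y, -, rfl⟩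
        exact htiAll A hti x y
    let N : Subgroup X := (frattini ↥Q).map Q.subtype
    have hN : N.Normal := inferInstance
    let K : Subgroup X :=
      (Subgroup.centralizer (Q.map (QuotientGroup.mk' N) : Set (X ⧸ N))).comap (QuotientGroup.mk' N)
    have hQmap : (Q.map (QuotientGroup.mk' N)).Normal := hQn.map _ (QuotientGroup.mk'_surjective N)
    have hKn : K.Normal := inferInstance
    have hKmem : ∀ y : X, y ∈ K ↔ ∀ q ∈ Q, q * y * q⁻¹ * y⁻¹ ∈ N := by
      intro y
      simp only [K, Subgroup.mem_comap, Subgroup.mem_centralizer_iff]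
      constructor
      · intro h q hq
        rw [← QuotientGroup.eq_one_iff]
        have := h _ ⟨q, hq, rfl⟩
        simp only [QuotientGroup.mk'_apply] at this
        simp only [QuotientGroup.mk_mul, QuotientGroup.mk_inv]
        rw [this]
        group
      · rintro h _ ⟨q, hq, rfl⟩
        have := (QuotientGroup.eq_one_iff _).mpr (h q hq)
        simp only [QuotientGroup.mk_mul, QuotientGroup.mk_inv] at this
        simp only [QuotientGroup.mk'_apply]
        exact mul_inv_eq_iff_eq_mul.mp (mul_inv_eq_one.mp this)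
    have haK : a ^ 2 ∈ K := by
      refine (hKmem _).mpr fun q hq => ?_
      have hc : q * a * q⁻¹ * a⁻¹ ∈ Q := by
        have h1 := Q.mul_mem hq (hQn.conj_mem _ (Q.inv_mem hq) a)
        simpa [mul_assoc] using h1
      have e : q * a ^ 2 * q⁻¹ * (a ^ 2)⁻¹ = (q * a * q⁻¹ * a⁻¹) ^ 2 := by
        rw [(hcomm q hq).inv_right.mul_pow, inv_pow]
        simp only [pow_two]
        group
      rw [e]
      exact ⟨⟨_, hc⟩ ^ 2, CfsgLib.KSteps.sq_mem_frattini hQ2 _, rfl⟩
    have hK2 : IsPGroup 2 ↥K := by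
      by_contra hnot
      obtain ⟨r, hr, hrdvd, hr2⟩ : ∃ r : ℕ, r.Prime ∧ r ∣ Nat.card ↥K ∧ r ≠ 2 := by
        by_contra hh
        push Not at hh
        exact hnot (IsPGroup.of_card (Nat.eq_prime_pow_of_unique_prime_dvd Nat.card_pos.ne'
          fun hd h => hh _ hd h))
      have : Fact r.Prime := ⟨hr⟩
      obtain ⟨y, hy⟩ := exists_prime_orderOf_dvd_card' (G := ↥K) r hrdvd
      let φ : MulAut ↥Q := MulAut.conjNormal (y : X)
      let M : Subgroup (MulAut ↥Q) :=
        { carrier := {f | ∀ q, f q * q⁻¹ ∈ frattini ↥Q}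
          one_mem' := fun q => by simp [MulAut.one_apply]
          mul_mem' := fun {f g} hf hg q => by
            have := (frattini ↥Q).mul_mem (hf (g q)) (hg q)
            simpa [mul_assoc] using this
          inv_mem' := fun {f} hf q => by
            have := (frattini ↥Q).inv_mem (hf (f⁻¹ q))
            simpa [MulAut.apply_inv_self] using this }
      have hφM : φ ∈ M := by
        intro q
        obtain ⟨w, hw, hwe⟩ := (hKmem _).mp y.2 (q : X) q.2
        have : φ q * q⁻¹ = w⁻¹ := Subtype.ext (by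
          have hwe' : (w : X) = (q : X) * (y : X) * (q : X)⁻¹ * (y : X)⁻¹ := hwe
          simp [φ, MulAut.conjNormal_apply, hwe', mul_assoc])
        exact this ▸ (frattini ↥Q).inv_mem hw
      have hφr : IsPGroup r ↥(Subgroup.zpowers φ) := by
        have h1 : φ ^ r = 1 := by
          rw [show φ = MulAut.conjNormal (y : X) from rfl, ← map_pow]
          have : (y : X) ^ r = 1 := by rw [← Subgroup.coe_pow, ← hy, pow_orderOf_eq_one]; rfl
          rw [this, map_one]
        obtain ⟨j, -, hj⟩ := (Nat.dvd_prime_pow hr).mp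
          (show orderOf φ ∣ r ^ 1 by rw [pow_one]; exact orderOf_dvd_of_pow_eq_one h1)
        exact IsPGroup.of_card (n := j) (by rw [Nat.card_zpowers, hj])
      have hfix : ∀ q : ↥Q, φ q = q := by
        let D : Subgroup ↥Q := φ.toMonoidHom.eqLocus (MonoidHom.id _)
        suffices D = ⊤ by
          intro q
          exact (this ▸ Subgroup.mem_top q : q ∈ D)
        apply frattini_nongenerating
        rw [Subgroup.eq_top_iff']
        intro q
        let S : SubMulAction ↥(Subgroup.zpowers φ) ↥Q :=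
          ⟨{x | q⁻¹ * x ∈ frattini ↥Q}, fun g x hx => by
            have hg : (g : MulAut ↥Q) ∈ M := Subgroup.zpowers_le.mpr hφM g.2
            show q⁻¹ * (g : MulAut ↥Q) x ∈ frattini ↥Q
            have h1 := hg x
            have hn : (frattini ↥Q).Normal := inferInstance
            have h2 := hn.conj_mem _ h1 q⁻¹
            have := (frattini ↥Q).mul_mem h2 hx
            simpa [mul_assoc] using this⟩
        have hcard : Nat.card S = Nat.card ↥(frattini ↥Q) := Nat.card_congr
          { toFun := fun x => ⟨q⁻¹ * x.1, x.2⟩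
            invFun := fun w => ⟨q * w.1, (by
              show q⁻¹ * (q * w.1) ∈ frattini ↥Q
              rw [inv_mul_cancel_left]; exact w.2)⟩
            left_inv := fun x => Subtype.ext (mul_inv_cancel_left q x.1)
            right_inv := fun w => Subtype.ext (inv_mul_cancel_left q w.1) }
        obtain ⟨x, hx⟩ := hφr.nonempty_fixed_point_of_prime_not_dvd_card S (by
          rw [hcard]
          obtain ⟨k, hk⟩ := IsPGroup.iff_card.mp (hQ2.to_subgroup (frattini ↥Q))
          rw [hk]
          exact fun h => hr2 ((Nat.prime_dvd_prime_iff_eq hr Nat.prime_two).mp (hr.dvd_of_dvd_pow h)))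
        have hxD : x.1 ∈ D := congrArg Subtype.val (hx ⟨φ, Subgroup.mem_zpowers φ⟩)
        have := Subgroup.mul_mem_sup hxD ((frattini ↥Q).inv_mem x.2)
        rwa [mul_inv_rev, inv_inv, mul_inv_cancel_left] at this
      have hyQ : (y : X) ∈ Q := by
        rw [← hX]
        refine CfsgLib.Components.centralizer_genFitting_le ?_
        rw [hX]
        refine Subgroup.mem_centralizer_iff.mpr fun q hq => ?_
        have h := congrArg Subtype.val (hfix ⟨q, hq⟩)
        simp only [φ, MulAut.conjNormal_apply] at h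
        exact (mul_inv_eq_iff_eq_mul.mp h).symm
      obtain ⟨k, hk⟩ := hQ2 ⟨y, hyQ⟩
      have hd : orderOf (y : X) ∣ 2 ^ k := orderOf_dvd_of_pow_eq_one (congrArg Subtype.val hk)
      rw [Subgroup.orderOf_coe, hy] at hd
      exact hr2 ((Nat.prime_dvd_prime_iff_eq hr Nat.prime_two).mp (hr.dvd_of_dvd_pow hd))
    exact CfsgLib.Components.le_pCore_of_normal hKn hK2 haK
  set B := Subgroup.closure ((fun a : X => a ^ 2) '' (A : Set X)) with hB
  have hBQ : B ≤ Q := by
    rw [hB, Subgroup.closure_le]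
    rintro _ ⟨a, ha, rfl⟩
    exact hsq a ha
  refine ⟨hBQ, fun hel => ?_⟩
  have hBA : B ≤ A := by
    rw [hB, Subgroup.closure_le]
    rintro _ ⟨a, ha, rfl⟩
    exact A.pow_mem ha 2
  have hBc : ∀ x ∈ B, ∀ y ∈ B, x * y = y * x := fun x hx y hy => hAc x (hBA hx) y (hBA hy)
  obtain ⟨b, hb, hb2⟩ : ∃ b ∈ B, b ^ 2 ≠ 1 := by
    by_contra h
    push Not at h
    exact hel ⟨⟨⟨fun x y => Subtype.ext (hBc _ x.2 _ y.2)⟩⟩, h⟩
  have hBti : ∀ x : X, B.map (MulAut.conj x).toMonoidHom = B ∨ B.map (MulAut.conj x).toMonoidHom ⊓ B = ⊥ := by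
    intro x
    rcases hti x with h | h
    · left
      rw [hB, MonoidHom.map_closure, Set.image_image]
      congr 1
      conv_rhs => rw [← h, Subgroup.coe_map, Set.image_image]
      exact Set.image_congr fun u _ => map_pow _ u 2
    · exact Or.inr (le_bot_iff.mp ((inf_le_inf (Subgroup.map_mono hBA) hBA).trans h.le))
  set Δ : Set (Subgroup X) := {U | ∃ x : X, U = B.map (MulAut.conj x).toMonoidHom}
  have hpair : ∀ U ∈ Δ, ∀ V ∈ Δ, ∀ u ∈ U, ∀ v ∈ V, u * v = v * u := by
    intro U hU V hV u hu v hv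
    by_cases hUV : U = V
    · obtain ⟨x, rfl⟩ := hU
      obtain ⟨u', hu', rfl⟩ := hu
      rw [← hUV] at hv
      obtain ⟨v', hv', rfl⟩ := hv
      rw [← map_mul, hBc u' hu' v' hv', map_mul]
    refine CfsgLib.KSteps.ti_family_commute_in Q hQ2 Δ ?_ ?_ ?_ ?_ ?_ U hU V hV hUV u hu v hv
    · rintro _ ⟨x, rfl⟩ _ ⟨w, hw, rfl⟩
      exact hQn.conj_mem w (hBQ hw) x
    · rintro s - _ ⟨x, rfl⟩
      exact ⟨s * x, hmm B x s⟩
    · rintro _ ⟨x, rfl⟩
      refine ⟨MulAut.conj x b, ⟨b, hb, rfl⟩, ?_⟩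
      rw [← map_pow]
      exact fun h => hb2 ((MulAut.conj x).injective (h.trans (map_one _).symm))
    · rintro _ ⟨x, rfl⟩ _ ⟨y, rfl⟩
      rw [hcardmap, hcardmap]
    · rintro _ ⟨x, rfl⟩ _ ⟨y, rfl⟩
      exact htiAll B hBti x y
  set S := Group.conjugatesOfSet ((fun a : X => a ^ 2) '' (A : Set X))
  have hmemS : ∀ u ∈ S, ∃ U ∈ Δ, u ∈ U := by
    intro u hu
    obtain ⟨w, hw, hc⟩ := Group.mem_conjugatesOfSet_iff.mp hu
    obtain ⟨c, hcu⟩ := isConj_iff.mp hc
    exact ⟨_, ⟨c, rfl⟩, w, hB ▸ Subgroup.subset_closure hw, hcu⟩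
  have h1 : Subgroup.closure S ≤ Subgroup.centralizer S := by
    rw [Subgroup.closure_le]
    intro u hu
    refine Subgroup.mem_centralizer_iff.mpr fun v hv => ?_
    obtain ⟨U, hU, hu'⟩ := hmemS u hu
    obtain ⟨V, hV, hv'⟩ := hmemS v hv
    exact hpair V hV U hU v hv' u hu'
  have h2 : Subgroup.closure S ≤ Subgroup.centralizer (Subgroup.closure S : Set X) := by
    rw [Subgroup.closure_le]
    intro u hu
    exact Subgroup.mem_centralizer_iff.mpr fun v hv =>
      (Subgroup.mem_centralizer_iff.mp (h1 hv) u hu).symm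
  exact ⟨⟨fun x y => Subtype.ext (Subgroup.mem_centralizer_iff.mp (h2 y.2) x.1 x.2)⟩⟩

end Cfsg.Agent.S1783
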