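import Cfsg.Statements.S1784
import Cfsg.Agent.Lib.KSteps.Extraspecial
import Cfsg.Agent.Lib.Components.GenFitting
import Cfsg.Agent.Lib.KSteps.GFit

set_option autoImplicit false
open Cfsg

namespace Cfsg.Agent.S1784

theorem aux {G : Type*} [Group G] [Finite G] (z : G) (hz : orderOf z = 2) (C : Subgroup G)
    (hC : ∀ x, x ∈ C ↔ x * z = z * x)
    (hE : Cfsg.IsExtraspecial 2 ↥(Cfsg.generalizedFittingSubgroup ↥C))
    (α : G) (hα : orderOf α = 2) (hαC : α ∈ C)
    (hαQ : α ∉ (Cfsg.generalizedFittingSubgroup ↥C).map C.subtype)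
    (Q₀ : Subgroup G) (hQ₀ : ∀ q : G, q ∈ Q₀ ↔ (q ∈ (Cfsg.generalizedFittingSubgroup ↥C).map C.subtype ∧ α * q * α⁻¹ * q⁻¹ ∈ Subgroup.zpowers z)) :
    Subgroup.closure ((fun q : G => α * q * α⁻¹ * q⁻¹) '' ((Cfsg.generalizedFittingSubgroup ↥C).map C.subtype : Set G)) = (Subgroup.center ↥Q₀).map Q₀.subtype ∧
      (¬ Q₀ ≤ ((Cfsg.generalizedFittingSubgroup ↥C).map C.subtype ⊓ Subgroup.centralizer ({α} : Set G)) ⊔ Subgroup.zpowers z →
        ∃ q ∈ (Cfsg.generalizedFittingSubgroup ↥C).map C.subtype, q * α * q⁻¹ = α * z) := by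
  obtain ⟨hZ, hder⟩ := CfsgLib.KSteps.extraspecial_data hE
  have hc := hder.le
  let F := Cfsg.generalizedFittingSubgroup ↥C
  let a : ↥C := ⟨α, hαC⟩
  let ι : ↥F →* G := C.subtype.comp F.subtype
  have hι : Function.Injective ι := fun x y h => Subtype.ext (Subtype.ext h)
  let φ : MulAut ↥F := MulAut.conjNormal a
  have hφ : ∀ x : ↥F, ι (φ x) = α * ι x * α⁻¹ := fun x => by
    simp [ι, φ, a, MulAut.conjNormal_apply]
  have hα2 : α * α = 1 := by rw [← pow_two, ← hα]; exact pow_orderOf_eq_one α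
  have hzC : z ∈ C := (hC z).mpr rfl
  have hz2 : z * z = 1 := by rw [← pow_two, ← hz]; exact pow_orderOf_eq_one z
  have hz1 : z ≠ 1 := fun h => by rw [h, orderOf_one] at hz; omega
  have hzc : (⟨z, hzC⟩ : ↥C) ∈ Subgroup.center ↥C :=
    Subgroup.mem_center_iff.mpr fun x => Subtype.ext ((hC x).mp x.2)
  have hzF : (⟨z, hzC⟩ : ↥C) ∈ F :=
    CfsgLib.KSteps.center_le_gfit _ hzc
  let ζ : ↥F := ⟨⟨z, hzC⟩, hzF⟩
  have hζ : ζ ∈ Subgroup.center ↥F := Subgroup.mem_center_iff.mpr fun x =>
    Subtype.ext (Subgroup.mem_center_iff.mp hzc x.1)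
  have hζ1 : ζ ≠ 1 := fun h => hz1 (congrArg ι h)
  have hcen : ∀ c : ↥F, c ∈ Subgroup.center ↥F ↔ ι c ∈ Subgroup.zpowers z := by
    intro c
    constructor
    · intro h
      rcases CfsgLib.KSteps.eq_one_or_eq_of_card_two hZ h hζ hζ1 with rfl | rfl
      · simp
      · exact Subgroup.mem_zpowers z
    · rintro ⟨n, hn⟩
      have : c = ζ ^ n := hι (by rw [map_zpow]; exact hn.symm)
      exact this ▸ Subgroup.zpow_mem _ hζ n
  have hφc : ∀ c ∈ Subgroup.center ↥F, φ c = c := by
    intro c hcc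
    rcases CfsgLib.KSteps.eq_one_or_eq_of_card_two hZ hcc hζ hζ1 with rfl | rfl
    · exact map_one φ
    · refine hι ((hφ _).trans ?_)
      exact mul_inv_eq_iff_eq_mul.mpr ((hC α).mp hαC)
  have hφφ : ∀ x : ↥F, φ (φ x) = x := fun x => hι (by
    rw [hφ, hφ]
    calc α * (α * ι x * α⁻¹) * α⁻¹ = (α * α) * ι x * (α * α)⁻¹ := by group
      _ = ι x := by rw [hα2]; group)
  let L : Subgroup ↥F := Subgroup.closure (Set.range fun q => φ q * q⁻¹)
  have hLd : ∀ q, φ q * q⁻¹ ∈ L := fun q => Subgroup.subset_closure ⟨q, rfl⟩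
  -- `φ` is not trivial modulo the centre
  have hne : ∃ q, φ q * q⁻¹ ∉ Subgroup.center ↥F := by
    by_contra hall
    push Not at hall
    let f : ↥F →* ↥(Subgroup.center ↥F) :=
      { toFun := fun q => ⟨φ q * q⁻¹, hall q⟩
        map_one' := Subtype.ext (by simp)
        map_mul' := fun p q => Subtype.ext (by
          simp only [map_mul, mul_inv_rev, Subgroup.coe_mul]
          calc φ p * φ q * (q⁻¹ * p⁻¹) = φ p * ((φ q * q⁻¹) * p⁻¹) := by group
            _ = φ p * (p⁻¹ * (φ q * q⁻¹)) := by rw [Subgroup.mem_center_iff.mp (hall q) p⁻¹]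
            _ = _ := by group) }
    have hK : Subgroup.center ↥F ≤ f.ker := fun c hcc =>
      Subtype.ext (by show φ c * c⁻¹ = 1; rw [hφc c hcc, mul_inv_cancel])
    obtain ⟨w, hw⟩ : ∃ w : ↥F, ∀ q, φ q = w * q * w⁻¹ := by
      by_cases hf : f.ker = ⊤
      · refine ⟨1, fun q => ?_⟩
        have : q ∈ f.ker := hf ▸ Subgroup.mem_top q
        simpa using mul_inv_eq_one.mp (congrArg Subtype.val this)
      have hidx : f.ker.index = 2 := by
        have h1 : f.ker.index ≠ 1 := fun h => hf (Subgroup.index_eq_one.mp h)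
        have h0 : f.ker.index ≠ 0 := Subgroup.index_ne_zero_of_finite
        have : f.ker.index ≤ 2 := by
          rw [Subgroup.index_ker]; exact (Subgroup.card_le_card_group _).trans_eq hZ
        omega
      obtain ⟨w, hwc, hwZ⟩ : ∃ w ∈ Subgroup.centralizer (f.ker : Set ↥F), w ∉ Subgroup.center ↥F := by
        by_contra hh
        push Not at hh
        have h1 := Subgroup.card_le_of_le
          (show Subgroup.centralizer (f.ker : Set ↥F) ≤ Subgroup.center ↥F from hh)
        have h2 := CfsgLib.KSteps.centralizer_mul_card hZ hc hK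
        rw [hZ] at h1
        have h3 := f.ker.card_mul_index
        rw [hidx] at h3
        have h4 := Nat.mul_le_mul_right (Nat.card ↥f.ker) h1
        rw [h2, ← h3] at h4
        have := Nat.card_pos (α := ↥f.ker)
        omega
      refine ⟨w, fun q => ?_⟩
      by_cases hq : q ∈ f.ker
      · rw [mul_inv_eq_one.mp (congrArg Subtype.val hq), ← Subgroup.mem_centralizer_iff.mp hwc q hq,
          mul_inv_cancel_right]
      · have e1 : φ q * q⁻¹ = ζ := (CfsgLib.KSteps.eq_one_or_eq_of_card_two hZ (hall q) hζ hζ1).resolve_left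
          (fun h => hq (Subtype.ext h))
        have e2 : w * q * w⁻¹ * q⁻¹ = ζ := by
          refine (CfsgLib.KSteps.eq_one_or_eq_of_card_two hZ (CfsgLib.KSteps.comm_mem_center hc w q) hζ hζ1).resolve_left
            (fun h => hwZ (Subgroup.mem_center_iff.mpr fun x => ?_))
          have c1 : Commute w q := mul_inv_eq_iff_eq_mul.mp (mul_inv_eq_one.mp h)
          by_cases hx : x ∈ f.ker
          · exact Subgroup.mem_centralizer_iff.mp hwc x hx
          · have hxq : x * q⁻¹ ∈ f.ker := (Subgroup.mul_mem_iff_of_index_two hidx).mpr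
              ⟨fun h => absurd h hx, fun h => absurd (inv_mem_iff.mp h) hq⟩
            have c2 : Commute w (x * q⁻¹) := (Subgroup.mem_centralizer_iff.mp hwc _ hxq).symm
            have := c2.mul_right c1
            rw [inv_mul_cancel_right] at this
            exact this.symm
        exact mul_right_cancel (e1.trans e2.symm)
    apply hαQ
    have hcent : (w.1)⁻¹ * a ∈ Subgroup.centralizer (F : Set ↥C) := by
      refine Subgroup.mem_centralizer_iff.mpr fun x hx => ?_
      have h : a * x * a⁻¹ = w.1 * x * (w.1)⁻¹ := by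
        have := congrArg Subtype.val (hw ⟨x, hx⟩)
        simpa [φ, MulAut.conjNormal_apply] using this
      calc x * ((w.1)⁻¹ * a) = (w.1)⁻¹ * (w.1 * x * (w.1)⁻¹) * a := by group
        _ = (w.1)⁻¹ * a * x := by rw [← h]; group
    have := CfsgLib.Components.centralizer_genFitting_le hcent
    have := F.mul_mem w.2 this
    rw [mul_inv_cancel_left] at this
    exact ⟨a, this, rfl⟩
  have hconj : ∀ r, ∀ d ∈ L, r * d * r⁻¹ ∈ L := by
    intro r d hd
    induction hd using Subgroup.closure_induction with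
    | mem x hx =>
      obtain ⟨q, rfl⟩ := hx
      have e : r * (φ q * q⁻¹) * r⁻¹ = (φ r * r⁻¹)⁻¹ * (φ (r * q) * (r * q)⁻¹) := by
        rw [map_mul]; group
      rw [e]
      exact L.mul_mem (L.inv_mem (hLd r)) (hLd _)
    | one => simp
    | mul x y _ _ hx hy =>
      have e : r * (x * y) * r⁻¹ = (r * x * r⁻¹) * (r * y * r⁻¹) := by group
      rw [e]; exact L.mul_mem hx hy
    | inv x _ hx =>
      have e : r * x⁻¹ * r⁻¹ = (r * x * r⁻¹)⁻¹ := by group
      rw [e]; exact L.inv_mem hx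
  have hZL : Subgroup.center ↥F ≤ L := by
    obtain ⟨q, hq⟩ := hne
    obtain ⟨r, hr⟩ : ∃ r, r * (φ q * q⁻¹) ≠ (φ q * q⁻¹) * r := by
      by_contra h
      push Not at h
      exact hq (Subgroup.mem_center_iff.mpr h)
    intro c hcc
    rcases CfsgLib.KSteps.eq_one_or_eq_of_card_two hZ hcc hζ hζ1 with rfl | rfl
    · exact L.one_mem
    · rw [← (CfsgLib.KSteps.eq_one_or_eq_of_card_two hZ
        (CfsgLib.KSteps.comm_mem_center hc r (φ q * q⁻¹)) hζ hζ1).resolve_left
        (fun h => hr (mul_inv_eq_iff_eq_mul.mp (mul_inv_eq_one.mp h)))]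
      exact L.mul_mem (hconj r _ (hLd q)) (L.inv_mem (hLd q))
  let br : ↥F → ↥F → ↥F := fun x y => x * y * x⁻¹ * y⁻¹
  have brc : ∀ x y, br x y ∈ Subgroup.center ↥F := fun x y => CfsgLib.KSteps.comm_mem_center hc x y
  have brl : ∀ x y w, br (x * y) w = br x w * br y w := by
    intro x y w
    calc br (x * y) w = x * (br y w * (w * x⁻¹ * w⁻¹)) := by simp only [br]; group
      _ = x * ((w * x⁻¹ * w⁻¹) * br y w) := by rw [← Subgroup.mem_center_iff.mp (brc y w)]
      _ = _ := by simp only [br]; group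
  have brr : ∀ w y x, br w (y * x) = br w y * br w x := by
    intro w y x
    calc br w (y * x) = (w * y * w⁻¹) * (br w x * y⁻¹) := by simp only [br]; group
      _ = (w * y * w⁻¹) * (y⁻¹ * br w x) := by rw [← Subgroup.mem_center_iff.mp (brc w x) y⁻¹]
      _ = _ := by simp only [br]; group
  have brφ : ∀ x y, br (φ x) (φ y) = br x y := by
    intro x y
    have := hφc _ (brc x y)
    simpa [br, map_mul, map_inv] using this
  -- `C_F(L)` is the subgroup fixed by `φ` modulo the centre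
  have hCL : ∀ w : ↥F, w ∈ Subgroup.centralizer (L : Set ↥F) ↔ φ w * w⁻¹ ∈ Subgroup.center ↥F := by
    intro w
    constructor
    · intro hw
      refine Subgroup.mem_center_iff.mpr fun y => ?_
      obtain ⟨q, rfl⟩ := φ.surjective y
      have h1 : br w (φ q * q⁻¹) = 1 := by
        simp only [br]
        rw [← Subgroup.mem_centralizer_iff.mp hw _ (hLd q)]
        group
      have h2 : br w (φ q) = br (φ w) (φ q) := by
        conv_lhs => rw [← inv_mul_cancel_right (φ q) q]
        rw [brr, h1, one_mul, brφ]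
      have h3 : br (φ w * w⁻¹) (φ q) = 1 := by
        have := brl (φ w * w⁻¹) w (φ q)
        rw [inv_mul_cancel_right, ← h2] at this
        exact mul_eq_right.mp this.symm
      exact (mul_inv_eq_iff_eq_mul.mp (mul_inv_eq_one.mp h3)).symm
    · intro hw
      have hgen : ∀ q, br w (φ q * q⁻¹) = 1 := by
        intro q
        have h0 : br (φ w * w⁻¹) (φ q) = 1 := by
          simp only [br]
          rw [← Subgroup.mem_center_iff.mp hw (φ q)]
          group
        have h1 := brl (φ w * w⁻¹) w (φ q)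
        rw [inv_mul_cancel_right, h0, one_mul, brφ] at h1
        have h2 := brr w (φ q * q⁻¹) q
        rw [inv_mul_cancel_right, ← h1] at h2
        exact mul_eq_right.mp h2.symm
      have hle : L ≤ Subgroup.centralizer {w} := by
        rw [Subgroup.closure_le]
        rintro _ ⟨q, rfl⟩
        exact Subgroup.mem_centralizer_singleton_iff.mpr
          (mul_inv_eq_iff_eq_mul.mp (mul_inv_eq_one.mp (hgen q))).symm
      exact Subgroup.mem_centralizer_iff.mpr fun y hy => Subgroup.mem_centralizer_singleton_iff.mp (hle hy)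
  set K := Subgroup.centralizer (L : Set ↥F) with hK_def
  have hLK : L ≤ K := by
    rw [Subgroup.closure_le]
    rintro _ ⟨q, rfl⟩
    refine (hCL _).mpr ?_
    have h1 : φ (φ q * q⁻¹) = (φ q * q⁻¹)⁻¹ := by rw [map_mul, map_inv, hφφ]; group
    rw [h1, show (φ q * q⁻¹)⁻¹ * (φ q * q⁻¹)⁻¹ = ((φ q * q⁻¹) ^ 2)⁻¹ by rw [pow_two, mul_inv_rev (φ q * q⁻¹)]]
    exact Subgroup.inv_mem _ (CfsgLib.KSteps.sq_mem_center hZ hc _)
  have hKK : Subgroup.centralizer (K : Set ↥F) = L :=
    CfsgLib.KSteps.centralizer_centralizer_eq hZ hc hZL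
  -- transfer to `G`
  have hmem : ∀ q : G, q ∈ F.map C.subtype ↔ ∃ x : ↥F, ι x = q := by
    intro q
    constructor
    · rintro ⟨x, hx, rfl⟩
      exact ⟨⟨x, hx⟩, rfl⟩
    · rintro ⟨x, rfl⟩
      exact ⟨x.1, x.2, rfl⟩
  have hbrG : ∀ x : ↥F, α * ι x * α⁻¹ * (ι x)⁻¹ = ι (φ x * x⁻¹) := fun x => by
    rw [map_mul, map_inv, hφ]
  have hQK : ∀ q : G, q ∈ Q₀ ↔ ∃ x ∈ K, ι x = q := by
    intro q
    rw [hQ₀]
    constructor
    · rintro ⟨hq, h2⟩
      obtain ⟨x, rfl⟩ := (hmem q).mp hq
      exact ⟨x, (hCL x).mpr ((hcen _).mpr (hbrG x ▸ h2)), rfl⟩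
    · rintro ⟨x, hx, rfl⟩
      exact ⟨(hmem _).mpr ⟨x, rfl⟩, (hbrG x).symm ▸ (hcen _).mp ((hCL x).mp hx)⟩
  constructor
  · have hset : (fun q : G => α * q * α⁻¹ * q⁻¹) '' ((F.map C.subtype : Subgroup G) : Set G) =
        ι '' (Set.range fun q => φ q * q⁻¹) := by
      ext g
      constructor
      · rintro ⟨q, hq, rfl⟩
        obtain ⟨x, rfl⟩ := (hmem q).mp hq
        exact ⟨_, ⟨x, rfl⟩, (hbrG x).symm⟩
      · rintro ⟨_, ⟨x, rfl⟩, rfl⟩
        exact ⟨ι x, (hmem _).mpr ⟨x, rfl⟩, hbrG x⟩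
    show Subgroup.closure ((fun q : G => α * q * α⁻¹ * q⁻¹) '' ((F.map C.subtype : Subgroup G) : Set G)) = _
    rw [hset, ← MonoidHom.map_closure]
    ext g
    constructor
    · rintro ⟨y, hy, rfl⟩
      refine ⟨⟨ι y, (hQK _).mpr ⟨y, hLK hy, rfl⟩⟩, Subgroup.mem_center_iff.mpr ?_, rfl⟩
      rintro ⟨q, hq⟩
      obtain ⟨x, hx, rfl⟩ := (hQK q).mp hq
      apply Subtype.ext
      show ι x * ι y = ι y * ι x
      rw [← map_mul, ← map_mul, (Subgroup.mem_centralizer_iff.mp hx y hy).symm]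
    · rintro ⟨⟨q, hq⟩, hqc, rfl⟩
      obtain ⟨x, hx, rfl⟩ := (hQK q).mp hq
      refine ⟨x, ?_, rfl⟩
      show x ∈ L
      rw [← hKK]
      refine Subgroup.mem_centralizer_iff.mpr fun y hy => hι ?_
      rw [map_mul, map_mul]
      exact congrArg Subtype.val (Subgroup.mem_center_iff.mp hqc ⟨ι y, (hQK _).mpr ⟨y, hy, rfl⟩⟩)
  · intro hnle
    obtain ⟨q, hq, hqn⟩ := SetLike.not_le_iff_exists.mp hnle
    obtain ⟨hqF, hqz⟩ := (hQ₀ q).mp hq
    refine ⟨q, hqF, ?_⟩
    obtain ⟨x, rfl⟩ := (hmem q).mp hqF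
    rw [hbrG] at hqz
    rcases CfsgLib.KSteps.eq_one_or_eq_of_card_two hZ ((hcen _).mpr hqz) hζ hζ1 with h | h
    · refine absurd (Subgroup.mem_sup_left (show _ ∈ _ ⊓ Subgroup.centralizer _ from
        ⟨hqF, Subgroup.mem_centralizer_singleton_iff.mpr ?_⟩)) hqn
      have := congrArg ι h
      rw [← hbrG, map_one] at this
      exact (mul_inv_eq_iff_eq_mul.mp (mul_inv_eq_one.mp this)).symm
    · have h1 : α * ι x * α⁻¹ * (ι x)⁻¹ = z := by rw [hbrG, h]; rfl
      have hαi : α⁻¹ = α := inv_eq_of_mul_eq_one_right hα2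
      calc ι x * α * (ι x)⁻¹ = α * (α * ι x * α⁻¹ * (ι x)⁻¹) := by
            rw [hαi, show α * (α * ι x * α * (ι x)⁻¹) = (α * α) * (ι x * α * (ι x)⁻¹) by group, hα2, one_mul]
        _ = α * z := by rw [h1]

/-- Let G be a finite group and let z be an involution of G such that Q, the generalized Fitting subgroup of the centralizer C of z, is a 2-group of symplectic type (every characteristic abelian subgroup of Q is cyclic); suppose Q is extraspecial, and view Q inside G. Let α be an involution of C that is not in Q, and let Q₀ be the subgroup of those q ∈ Q whose commutator with α lies in the subgroup generated by z. Then (a) the subgroup generated by the commutators α q α⁻¹ q⁻¹, q ∈ Q, equals the centre of Q₀; and (b) if Q₀ is not contained in the product of the centralizer of α in Q with the subgroup generated by z, then some element of Q conjugates α to α z. -/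
theorem result {G : Type*} [Group G] [Finite G] (z : G) (hz : orderOf z = 2) (hQ : Cfsg.IsOfSymplecticType ↥(Cfsg.generalizedFittingSubgroup ↥(Subgroup.centralizer ({z} : Set G)))) (hE : Cfsg.IsExtraspecial 2 ↥(Cfsg.generalizedFittingSubgroup ↥(Subgroup.centralizer ({z} : Set G))))
    (α : G) (hα : orderOf α = 2) (hαC : α ∈ Subgroup.centralizer ({z} : Set G)) (hαQ : α ∉ (Cfsg.generalizedFittingSubgroup ↥(Subgroup.centralizer ({z} : Set G))).map (Subgroup.centralizer ({z} : Set G)).subtype)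
    (Q₀ : Subgroup G) (hQ₀ : ∀ q : G, q ∈ Q₀ ↔ (q ∈ (Cfsg.generalizedFittingSubgroup ↥(Subgroup.centralizer ({z} : Set G))).map (Subgroup.centralizer ({z} : Set G)).subtype ∧ α * q * α⁻¹ * q⁻¹ ∈ Subgroup.zpowers z)) :
    Subgroup.closure ((fun q : G => α * q * α⁻¹ * q⁻¹) '' ((Cfsg.generalizedFittingSubgroup ↥(Subgroup.centralizer ({z} : Set G))).map (Subgroup.centralizer ({z} : Set G)).subtype : Set G)) = (Subgroup.center ↥Q₀).map Q₀.subtype ∧
      (¬ Q₀ ≤ ((Cfsg.generalizedFittingSubgroup ↥(Subgroup.centralizer ({z} : Set G))).map (Subgroup.centralizer ({z} : Set G)).subtype ⊓ Subgroup.centralizer ({α} : Set G)) ⊔ Subgroup.zpowers z →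
        ∃ q ∈ (Cfsg.generalizedFittingSubgroup ↥(Subgroup.centralizer ({z} : Set G))).map (Subgroup.centralizer ({z} : Set G)).subtype, q * α * q⁻¹ = α * z) := by
  exact aux z hz _ (fun _ => Subgroup.mem_centralizer_singleton_iff) hE α hα hαC hαQ Q₀ hQ₀

end Cfsg.Agent.S1784
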