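import Cfsg.Statements.S1785
import Cfsg.Agent.Lib.KSteps.Basic
import Mathlib.Tactic.Group

set_option autoImplicit false
open Cfsg

namespace Cfsg.Agent.S1785

/-- Let X be a finite 2-group having a normal elementary abelian subgroup of order at least 32. Then (a) for any two elementary abelian subgroups A, B of X of order 8 there is a chain A = A₁, A₂, …, Aₙ = B of elementary abelian subgroups of order 8 in which consecutive members commute elementwise; and (b) every elementary abelian subgroup of X of order 4 is contained in an elementary abelian subgroup of order 8. -/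
theorem result {X : Type*} [Group X] [Finite X]
    (hX : IsPGroup 2 X) (E : Subgroup X) [E.Normal] (hE : Cfsg.IsElementaryAbelian 2 E) (hE32 : 32 ≤ Nat.card ↥E) :
    (∀ A B : Subgroup X, Cfsg.IsElementaryAbelian 2 A → Nat.card ↥A = 8 → Cfsg.IsElementaryAbelian 2 B → Nat.card ↥B = 8 →
        Relation.ReflTransGen
          (fun C D : Subgroup X => Cfsg.IsElementaryAbelian 2 C ∧ Nat.card ↥C = 8 ∧ Cfsg.IsElementaryAbelian 2 D ∧ Nat.card ↥D = 8 ∧ ⁅C, D⁆ = ⊥)
          A B) ∧
      (∀ V : Subgroup X, Cfsg.IsElementaryAbelian 2 V → Nat.card ↥V = 4 →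
        ∃ A : Subgroup X, V ≤ A ∧ Cfsg.IsElementaryAbelian 2 A ∧ Nat.card ↥A = 8) := by
  have hEc : ∀ x ∈ E, ∀ y ∈ E, x * y = y * x := fun x hx y hy =>
    congrArg Subtype.val (hE.1.is_comm.comm ⟨x, hx⟩ ⟨y, hy⟩)
  -- centralizers in `E` of involutions
  have halve : ∀ (F : Subgroup X) (v : X), F ≤ E → v ^ 2 = 1 → (∀ e ∈ F, v * e * v⁻¹ ∈ F) →
      Nat.card ↥F ≤ Nat.card ↥(F ⊓ Subgroup.centralizer {v}) ^ 2 := by
    intro F v hFE hv2 hinv
    let f : ↥F → ↥(F ⊓ Subgroup.centralizer {v}) := fun e =>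
      ⟨v * (e : X) * v⁻¹ * e, Subgroup.mem_inf.2 ⟨F.mul_mem (hinv e e.2) e.2,
        Subgroup.mem_centralizer_singleton_iff.mpr (by
          have h1 : (v * (e : X) * v⁻¹) * e = e * (v * (e : X) * v⁻¹) :=
            hEc _ (hFE (hinv e e.2)) _ (hFE e.2)
          have hvi : v⁻¹ = v := inv_eq_of_mul_eq_one_right (by rw [← pow_two, hv2])
          calc (v * (e : X) * v⁻¹ * e) * v = v * (e : X) * v⁻¹ * (e * v) := by group
            _ = v * ((e : X) * (v * e * v⁻¹)) := by
              calc v * (e : X) * v⁻¹ * (e * v) = v * ((e : X) * (v⁻¹ * e * v)) := by group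
                _ = v * ((e : X) * (v * e * v⁻¹)) := by rw [hvi]
            _ = v * (v * (e : X) * v⁻¹ * e) := by rw [h1])⟩⟩
    let D := F ⊓ Subgroup.centralizer ({v} : Set X)
    have hfib : ∀ d, Nat.card {e : ↥F // f e = d} ≤ Nat.card ↥D := by
      intro d
      rcases isEmpty_or_nonempty {e : ↥F // f e = d} with h | ⟨⟨e₀, he₀⟩⟩
      · simp
      refine Nat.card_le_card_of_injective
        (fun e => (⟨(e₀ : X)⁻¹ * (e.1 : X), Subgroup.mem_inf.2
          ⟨F.mul_mem (F.inv_mem e₀.2) e.1.2, Subgroup.mem_centralizer_singleton_iff.mpr ?_⟩⟩ : ↥D)) ?_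
      · have h : v * (e.1 : X) * v⁻¹ * e.1 = v * (e₀ : X) * v⁻¹ * e₀ :=
          congrArg Subtype.val (e.2.trans he₀.symm)
        have h1 : (e.1 : X) * e.1 = 1 := by rw [← pow_two]; exact hE.2 _ (hFE e.1.2)
        have h2 : (e₀ : X) * e₀ = 1 := by rw [← pow_two]; exact hE.2 _ (hFE e₀.2)
        have hi1 : (e.1 : X)⁻¹ = e.1 := inv_eq_of_mul_eq_one_right h1
        have hi2 : (e₀ : X)⁻¹ = e₀ := inv_eq_of_mul_eq_one_right h2
        have key : v * ((e₀ : X)⁻¹ * e.1) * v⁻¹ = (e₀ : X)⁻¹ * e.1 := by
          calc v * ((e₀ : X)⁻¹ * e.1) * v⁻¹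
              = (v * (e₀ : X) * v⁻¹)⁻¹ * (v * (e.1 : X) * v⁻¹ * e.1) * (e.1 : X)⁻¹ := by group
            _ = (v * (e₀ : X) * v⁻¹)⁻¹ * (v * (e₀ : X) * v⁻¹ * e₀) * (e.1 : X)⁻¹ := by rw [h]
            _ = (e₀ : X) * (e.1 : X)⁻¹ := by group
            _ = (e₀ : X)⁻¹ * e.1 := by rw [hi1, hi2]
        exact (mul_inv_eq_iff_eq_mul.mp key).symm
      · intro e e' h
        exact Subtype.ext (Subtype.ext (mul_left_cancel (congrArg Subtype.val h)))
    have := Fintype.ofFinite ↥D
    calc Nat.card ↥F = Nat.card (Σ d, {e : ↥F // f e = d}) :=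
          (Nat.card_congr (Equiv.sigmaFiberEquiv f)).symm
      _ = ∑ d : ↥D, Nat.card {e : ↥F // f e = d} := Nat.card_sigma
      _ ≤ Nat.card ↥D ^ 2 := by
          refine (Finset.sum_le_sum (fun d _ => hfib d)).trans (le_of_eq ?_)
          rw [Finset.sum_const, Finset.card_univ, ← Nat.card_eq_fintype_card, smul_eq_mul, pow_two]
  have hconj : ∀ (v : X), ∀ e ∈ E, v * e * v⁻¹ ∈ E := fun v e he => ‹E.Normal›.conj_mem e he v
  have hpow : ∀ F : Subgroup X, ∃ k, Nat.card ↥F = 2 ^ k := fun F =>
    IsPGroup.iff_card.mp (hX.to_subgroup F)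
  have hC1 : ∀ v : X, v ^ 2 = 1 → 8 ≤ Nat.card ↥(E ⊓ Subgroup.centralizer {v}) := by
    intro v hv
    obtain ⟨k, hk⟩ := hpow (E ⊓ Subgroup.centralizer {v})
    have := halve E v le_rfl hv (hconj v)
    rw [hk] at this ⊢
    by_contra hlt
    have : k < 3 := by
      by_contra h3
      exact hlt (le_trans (by norm_num) (Nat.pow_le_pow_right two_pos (not_lt.mp h3)))
    interval_cases k <;> omega
  have hC2 : ∀ u v : X, u ^ 2 = 1 → v ^ 2 = 1 → u * v = v * u →
      4 ≤ Nat.card ↥(E ⊓ Subgroup.centralizer {u} ⊓ Subgroup.centralizer {v}) := by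
    intro u v hu hv huv
    obtain ⟨k, hk⟩ := hpow (E ⊓ Subgroup.centralizer {u} ⊓ Subgroup.centralizer {v})
    have := halve (E ⊓ Subgroup.centralizer {u}) v inf_le_left hv (fun e he => by
      refine Subgroup.mem_inf.2 ⟨hconj v e he.1, Subgroup.mem_centralizer_singleton_iff.mpr ?_⟩
      have h := (Subgroup.mem_centralizer_singleton_iff.mp he.2 : e * u = u * e)
      calc v * e * v⁻¹ * u = v * e * (v⁻¹ * u * v) * v⁻¹ := by group
        _ = v * (e * u) * v⁻¹ := by rw [show v⁻¹ * u * v = u by rw [mul_assoc, huv, inv_mul_cancel_left]]; group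
        _ = (v * u) * e * v⁻¹ := by rw [h]; group
        _ = u * (v * e * v⁻¹) := by rw [← huv]; group)
    rw [hk] at this ⊢
    have h8 := (hC1 u hu).trans this
    by_contra hlt
    have : k < 2 := by
      by_contra h3
      exact hlt (le_trans (by norm_num) (Nat.pow_le_pow_right two_pos (not_lt.mp h3)))
    interval_cases k <;> omega
  -- a four-group and an element commuting with it generate an E8
  have hext : ∀ V : Subgroup X, IsElementaryAbelian 2 V → ∀ e : X, e ^ 2 = 1 → e ∉ V →
      (∀ x ∈ V, x * e = e * x) →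
      IsElementaryAbelian 2 (V ⊔ Subgroup.zpowers e) ∧
        Nat.card ↥(V ⊔ Subgroup.zpowers e) = 2 * Nat.card ↥V := by
    intro V hV e he2 heV hce
    have hVc : ∀ x ∈ V, ∀ y ∈ V, x * y = y * x := fun x hx y hy =>
      congrArg Subtype.val (hV.1.is_comm.comm ⟨x, hx⟩ ⟨y, hy⟩)
    have hee : e * e = 1 := by rw [← pow_two, he2]
    let L : Subgroup X :=
      { carrier := {x | x ∈ V ∨ x * e ∈ V}
        one_mem' := Or.inl V.one_mem
        mul_mem' := by
          rintro a b (ha | ha) (hb | hb)
          · exact Or.inl (V.mul_mem ha hb)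
          · exact Or.inr (by rw [mul_assoc]; exact V.mul_mem ha hb)
          · refine Or.inr ?_
            rw [mul_assoc, hce b hb, ← mul_assoc]
            exact V.mul_mem ha hb
          · refine Or.inl ?_
            have h : (a * e) * (b * e) = a * b := by
              calc (a * e) * (b * e) = a * (e * (b * e)) := by group
                _ = a * ((b * e) * e) := by rw [hce _ hb]
                _ = a * b := by rw [mul_assoc b, hee, mul_one]
            exact h ▸ V.mul_mem ha hb
        inv_mem' := by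
          rintro a (ha | ha)
          · exact Or.inl (V.inv_mem ha)
          · refine Or.inr ?_
            have h : (a * e)⁻¹ = a⁻¹ * e := by
              have h1 : e⁻¹ = e := inv_eq_of_mul_eq_one_right hee
              have h2 := hce _ (V.inv_mem ha)
              rw [mul_inv_rev, h1] at h2 ⊢
              calc e * a⁻¹ = e * (e * a⁻¹) * e := by rw [mul_assoc, h2, ← mul_assoc, hee, one_mul]
                _ = a⁻¹ * e := by rw [← mul_assoc e e, hee, one_mul]
            exact h ▸ V.inv_mem ha }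
    have hL : V ⊔ Subgroup.zpowers e = L := by
      refine le_antisymm (sup_le (fun x hx => Or.inl hx) ?_) ?_
      · rw [Subgroup.zpowers_le]
        exact Or.inr (by rw [hee]; exact V.one_mem)
      · rintro x (hx | hx)
        · exact Subgroup.mem_sup_left hx
        · have : x * e * e⁻¹ = x := mul_inv_cancel_right x e
          rw [← this]
          exact Subgroup.mul_mem _ (Subgroup.mem_sup_left hx)
            (Subgroup.inv_mem _ (Subgroup.mem_sup_right (Subgroup.mem_zpowers e)))
    rw [hL]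
    have hrep : ∀ x ∈ L, ∃ v ∈ V, x = v ∨ x = v * e := by
      rintro x (hx | hx)
      · exact ⟨x, hx, Or.inl rfl⟩
      · exact ⟨x * e, hx, Or.inr (by rw [mul_assoc, hee, mul_one])⟩
    refine ⟨⟨⟨⟨fun x y => Subtype.ext ?_⟩⟩, fun x hx => ?_⟩, ?_⟩
    · obtain ⟨v, hv, hxv⟩ := hrep x.1 x.2
      obtain ⟨w, hw, hyw⟩ := hrep y.1 y.2
      have c : Commute v w := hVc v hv w hw
      have cv : Commute v e := hce v hv
      have cw : Commute w e := hce w hw
      show Commute (x : X) (y : X)
      rcases hxv with h | h <;> rcases hyw with h' | h' <;> rw [h, h']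
      · exact c
      · exact c.mul_right cv
      · exact c.mul_left cw.symm
      · exact (c.mul_right cv).mul_left (cw.symm.mul_right (Commute.refl e))
    · obtain ⟨v, hv, h | h⟩ := hrep x hx
      · rw [h]; exact hV.2 v hv
      · rw [h, (Commute.mul_pow (hce v hv) 2), hV.2 v hv, he2, one_mul]
    · have heqv : (↥V ⊕ ↥V) ≃ ↥L :=
        Equiv.ofBijective
          (fun s => Sum.elim (fun v => (⟨v.1, Or.inl v.2⟩ : ↥L))
            (fun v => ⟨v.1 * e, Or.inr (by rw [mul_assoc, hee, mul_one]; exact v.2)⟩) s) (by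
          constructor
          · rintro (a | a) (b | b) h <;> have h' := congrArg Subtype.val h <;> simp only [Sum.elim_inl, Sum.elim_inr] at h'
            · rw [Subtype.ext h']
            · exact absurd ((mul_mem_cancel_left b.2).mp (h' ▸ a.2)) heV
            · exact absurd ((mul_mem_cancel_left a.2).mp (h'.symm ▸ b.2)) heV
            · rw [Subtype.ext (mul_right_cancel h')]
          · rintro ⟨x, hx⟩
            obtain ⟨v, hv, h | h⟩ := hrep x hx
            · exact ⟨Sum.inl ⟨v, hv⟩, Subtype.ext h.symm⟩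
            · exact ⟨Sum.inr ⟨v, hv⟩, Subtype.ext h.symm⟩)
      rw [← Nat.card_congr heqv, Nat.card_sum, two_mul]
  have hcentE : ∀ (V : Subgroup X) (u v : X), (∀ x ∈ V, x = 1 ∨ x = u ∨ x = v ∨ x = u * v) →
      ∀ e ∈ E ⊓ Subgroup.centralizer {u} ⊓ Subgroup.centralizer {v}, ∀ x ∈ V, x * e = e * x := by
    rintro V u v hV e ⟨⟨-, hu⟩, hv⟩ x hx
    have cu : Commute e u := Subgroup.mem_centralizer_singleton_iff.mp hu
    have cv : Commute e v := Subgroup.mem_centralizer_singleton_iff.mp hv
    rcases hV x hx with h | h | h | h <;> rw [h]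
    · simp
    · exact cu.symm
    · exact cv.symm
    · exact (cu.mul_right cv).symm
  have hfour : ∀ V : Subgroup X, IsElementaryAbelian 2 V → Nat.card ↥V = 4 →
      ∃ u ∈ V, ∃ v ∈ V, ∀ x ∈ V, x = 1 ∨ x = u ∨ x = v ∨ x = u * v := by
    intro V hV h4
    classical
    have := Fintype.ofFinite ↥V
    rw [Nat.card_eq_fintype_card] at h4
    obtain ⟨u, hu⟩ := Fintype.exists_ne_of_one_lt_card (by omega) (1 : ↥V)
    have : (Finset.univ \ ({1, u} : Finset ↥V)).Nonempty := by
      rw [← Finset.card_pos, Finset.card_sdiff_of_subset (Finset.subset_univ _), Finset.card_univ, h4]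
      have : ({1, u} : Finset ↥V).card ≤ 2 := Finset.card_le_two
      omega
    obtain ⟨v, hv⟩ := this
    simp only [Finset.mem_sdiff, Finset.mem_univ, true_and, Finset.mem_insert, Finset.mem_singleton,
      not_or] at hv
    refine ⟨u, u.2, v, v.2, fun x hx => ?_⟩
    have huv1 : u * v ≠ 1 := by
      intro h
      have huu : u * u = 1 := Subtype.ext (by simpa [pow_two] using hV.2 u u.2)
      exact hv.2 (mul_left_cancel (h.trans huu.symm))
    have huvu : u * v ≠ u := fun h => hv.1 (mul_eq_left.mp h)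
    have huvv : u * v ≠ v := fun h => hu (mul_eq_right.mp h)
    have hall : ({1, u, v, u * v} : Finset ↥V) = Finset.univ := by
      refine Finset.eq_univ_of_card _ ?_
      rw [h4]
      have n1 : (1 : ↥V) ∉ ({u, v, u * v} : Finset ↥V) := by
        simp only [Finset.mem_insert, Finset.mem_singleton, not_or]
        exact ⟨Ne.symm hu, Ne.symm hv.1, Ne.symm huv1⟩
      have n2 : u ∉ ({v, u * v} : Finset ↥V) := by
        simp only [Finset.mem_insert, Finset.mem_singleton, not_or]
        exact ⟨Ne.symm hv.2, Ne.symm huvu⟩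
      have n3 : v ∉ ({u * v} : Finset ↥V) := by
        simp only [Finset.mem_singleton]
        exact Ne.symm huvv
      rw [Finset.card_insert_of_notMem n1, Finset.card_insert_of_notMem n2,
        Finset.card_insert_of_notMem n3, Finset.card_singleton]
    have hx' : (⟨x, hx⟩ : ↥V) ∈ ({1, u, v, u * v} : Finset ↥V) := hall ▸ Finset.mem_univ _
    simp only [Finset.mem_insert, Finset.mem_singleton] at hx'
    rcases hx' with h | h | h | h
    · exact Or.inl (congrArg Subtype.val h)
    · exact Or.inr (Or.inl (congrArg Subtype.val h))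
    · exact Or.inr (Or.inr (Or.inl (congrArg Subtype.val h)))
    · exact Or.inr (Or.inr (Or.inr (congrArg Subtype.val h)))
  have second : ∀ V : Subgroup X, IsElementaryAbelian 2 V → Nat.card ↥V = 4 →
      ∃ A : Subgroup X, V ≤ A ∧ IsElementaryAbelian 2 A ∧ Nat.card ↥A = 8 := by
    intro V hV h4
    obtain ⟨u, hu, v, hv, hall⟩ := hfour V hV h4
    suffices ∃ e, e ^ 2 = 1 ∧ e ∉ V ∧ ∀ x ∈ V, x * e = e * x by
      obtain ⟨e, he2, heV, hce⟩ := this
      obtain ⟨h1, h2⟩ := hext V hV e he2 heV hce
      exact ⟨_, le_sup_left, h1, by rw [h2, h4]⟩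
    by_contra hno
    push Not at hno
    set F := E ⊓ Subgroup.centralizer {u} ⊓ Subgroup.centralizer {v}
    have hFV : F ≤ V := by
      intro e he
      by_contra heV
      obtain ⟨x, hx, hne⟩ := hno e (hE.2 e he.1.1) heV
      exact hne (hcentE V u v hall e he x hx)
    have hFeq : F = V := Subgroup.eq_of_le_of_card_ge hFV
      (by rw [h4]; exact hC2 u v (hV.2 u hu) (hV.2 v hv) (congrArg Subtype.val (hV.1.is_comm.comm ⟨u, hu⟩ ⟨v, hv⟩)))
    have hVE : V ≤ E := hFeq ▸ inf_le_left.trans inf_le_left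
    have hEV : ¬ E ≤ V := fun h => by
      have := Subgroup.card_le_of_le h
      omega
    obtain ⟨e, he, heV⟩ := SetLike.not_le_iff_exists.mp hEV
    obtain ⟨x, hx, hne⟩ := hno e (hE.2 e he) heV
    exact hne (hEc x (hVE hx) e he)
  refine ⟨?_, second⟩
  set rel := fun C D : Subgroup X => IsElementaryAbelian 2 C ∧ Nat.card ↥C = 8 ∧
    IsElementaryAbelian 2 D ∧ Nat.card ↥D = 8 ∧ ⁅C, D⁆ = ⊥
  have rel_symm : ∀ C D, rel C D → rel D C := fun C D h =>
    ⟨h.2.2.1, h.2.2.2.1, h.1, h.2.1, by rw [Subgroup.commutator_comm]; exact h.2.2.2.2⟩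
  have mkrel : ∀ C D : Subgroup X, IsElementaryAbelian 2 C → Nat.card ↥C = 8 →
      IsElementaryAbelian 2 D → Nat.card ↥D = 8 → (∀ c ∈ C, ∀ d ∈ D, c * d = d * c) → rel C D :=
    fun C D h1 h2 h3 h4 h5 => ⟨h1, h2, h3, h4,
      Subgroup.commutator_eq_bot_iff_le_centralizer.mpr fun c hc d hd => (h5 c hc d hd).symm⟩
  -- every E8 is joined to one inside `E`
  have toE : ∀ k : ℕ, ∀ A : Subgroup X, IsElementaryAbelian 2 A → Nat.card ↥A = 8 →
      8 ≤ Nat.card ↥(A ⊓ E : Subgroup X) + k →
      ∃ B : Subgroup X, B ≤ E ∧ IsElementaryAbelian 2 B ∧ Nat.card ↥B = 8 ∧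
        Relation.ReflTransGen rel A B := by
    intro k
    induction k with
    | zero =>
      intro A hA h8 hk
      refine ⟨A, ?_, hA, h8, .refl⟩
      exact (Subgroup.eq_of_le_of_card_ge (inf_le_left : A ⊓ E ≤ A) (by omega)) ▸ inf_le_right
    | succ k ih =>
      intro A hA h8 hk
      by_cases hAE : A ≤ E
      · exact ⟨A, hAE, hA, h8, .refl⟩
      have hAc : ∀ x ∈ A, ∀ y ∈ A, x * y = y * x := fun x hx y hy =>
        congrArg Subtype.val (hA.1.is_comm.comm ⟨x, hx⟩ ⟨y, hy⟩)
      set A0 := A ⊓ E with hA0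
      have hA0e : IsElementaryAbelian 2 A0 :=
        ⟨⟨⟨fun x y => Subtype.ext (hAc _ x.2.1 _ y.2.1)⟩⟩, fun x hx => hA.2 x hx.1⟩
      obtain ⟨e, he, heA, hce⟩ : ∃ e ∈ E, e ∉ A ∧ ∀ x ∈ A, x * e = e * x := by
        by_contra hno
        push Not at hno
        have hsub : ∀ e ∈ E, (∀ x ∈ A, x * e = e * x) → e ∈ A0 := by
          intro e he hc
          refine ⟨?_, he⟩
          by_contra heA
          obtain ⟨x, hx, hne⟩ := hno e he heA
          exact hne (hc x hx)
        obtain ⟨j, hj⟩ := hpow A0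
        have hj3 : j < 3 := by
          by_contra h3
          have : 8 ≤ Nat.card ↥A0 := by rw [hj]; exact le_trans (by norm_num) (Nat.pow_le_pow_right two_pos (not_lt.mp h3))
          exact hAE ((Subgroup.eq_of_le_of_card_ge (inf_le_left : A ⊓ E ≤ A) (by rw [← hA0]; omega)) ▸ inf_le_right)
        -- choose an elementary subgroup of `A` of order 4 mixing with `A0`
        obtain ⟨f, hf, hf1⟩ : ∃ f ∈ A0, f ≠ 1 := by
          obtain ⟨b, hb, hb1, hbfix⟩ := @CfsgLib.KSteps.exists_fixed_of_normalizes 2 ⟨Nat.prime_two⟩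
            X _ _ A E (hX.to_subgroup _) (hX.to_subgroup _)
            (by intro h; rw [h, Subgroup.card_bot] at hE32; omega) (fun g _ x hx => hconj g x hx)
          exact ⟨b, hsub b hb hbfix, hb1⟩
        -- two further elements generating `A` together with `f`
        obtain ⟨a, ha, haf⟩ : ∃ a ∈ A, a ∉ Subgroup.zpowers f := by
          by_contra h
          push Not at h
          have := Subgroup.card_le_of_le (show A ≤ Subgroup.zpowers f from h)
          rw [Nat.card_zpowers, h8] at this
          have := orderOf_le_of_pow_eq_one two_pos (hA.2 f hf.1)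
          omega
        have hfe : IsElementaryAbelian 2 (Subgroup.zpowers f) :=
          ⟨⟨⟨fun x y => Subtype.ext (hAc _ (Subgroup.zpowers_le.mpr hf.1 x.2) _ (Subgroup.zpowers_le.mpr hf.1 y.2))⟩⟩,
            fun x hx => hA.2 x (Subgroup.zpowers_le.mpr hf.1 hx)⟩
        obtain ⟨hW, hW4⟩ := hext _ hfe a (hA.2 a ha) haf
          (fun x hx => hAc x (Subgroup.zpowers_le.mpr hf.1 hx) a ha)
        set W := Subgroup.zpowers f ⊔ Subgroup.zpowers a
        rw [Nat.card_zpowers, orderOf_eq_prime (hA.2 f hf.1) hf1] at hW4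
        have hWA : W ≤ A := sup_le (Subgroup.zpowers_le.mpr hf.1) (Subgroup.zpowers_le.mpr ha)
        obtain ⟨b, hb, hbW⟩ : ∃ b ∈ A, b ∉ W := by
          by_contra h
          push Not at h
          have := Subgroup.card_le_of_le (show A ≤ W from h)
          omega
        have hgen : ∀ e : X, e * a = a * e → e * b = b * e → e * f = f * e →
            ∀ x ∈ A, x * e = e * x := by
          intro e h1 h2 h3 x hx
          have hAeq : A = W ⊔ Subgroup.zpowers b := by
            refine (Subgroup.eq_of_le_of_card_ge (sup_le hWA (Subgroup.zpowers_le.mpr hb)) ?_).symm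
            rw [(hext W hW b (hA.2 b hb) hbW (fun x hx => hAc x (hWA hx) b hb)).2, hW4, h8]
          have hle : A ≤ Subgroup.centralizer {e} := by
            rw [hAeq]
            refine sup_le (sup_le ?_ ?_) ?_ <;>
              exact Subgroup.zpowers_le.mpr (Subgroup.mem_centralizer_singleton_iff.mpr (by
                first | exact h3.symm | exact h1.symm | exact h2.symm))
          exact Subgroup.mem_centralizer_singleton_iff.mp (hle hx)
        set F := E ⊓ Subgroup.centralizer {a} ⊓ Subgroup.centralizer {b}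
        have hF : F ≤ A0 := by
          rintro e ⟨⟨he, hea⟩, heb⟩
          exact hsub e he (hgen e (Subgroup.mem_centralizer_singleton_iff.mp hea)
            (Subgroup.mem_centralizer_singleton_iff.mp heb) (hEc e he f hf.2))
        have h4 : 4 ≤ Nat.card ↥A0 :=
          (hC2 a b (hA.2 a ha) (hA.2 b hb) (hAc a ha b hb)).trans (Subgroup.card_le_of_le hF)
        obtain ⟨c, hc, hcA0⟩ := SetLike.not_le_iff_exists.mp hAE
        have hcA0' : c ∉ A0 := fun h => hcA0 h.2
        have hAeq : A = A0 ⊔ Subgroup.zpowers c := by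
          refine (Subgroup.eq_of_le_of_card_ge (sup_le inf_le_left (Subgroup.zpowers_le.mpr hc)) ?_).symm
          rw [(hext A0 hA0e c (hA.2 c hc) hcA0' (fun x hx => hAc x hx.1 c hc)).2, h8]
          omega
        have hsub' : E ⊓ Subgroup.centralizer {c} ≤ A0 := by
          rintro e ⟨he, hec⟩
          refine hsub e he fun x hx => ?_
          have hle : A ≤ Subgroup.centralizer {e} := by
            rw [hAeq]
            refine sup_le (fun y hy => Subgroup.mem_centralizer_singleton_iff.mpr (hEc y hy.2 e he)) ?_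
            exact Subgroup.zpowers_le.mpr (Subgroup.mem_centralizer_singleton_iff.mpr
              (Subgroup.mem_centralizer_singleton_iff.mp hec).symm)
          exact Subgroup.mem_centralizer_singleton_iff.mp (hle hx)
        have := (hC1 c (hA.2 c hc)).trans (Subgroup.card_le_of_le hsub')
        rw [hj] at this
        interval_cases j <;> omega
      have heA0 : e ∉ A0 := fun h => heA h.1
      obtain ⟨hB0, hB0c⟩ := hext A0 hA0e e (hE.2 e he) heA0 (fun x hx => hce x hx.1)
      set B0 := A0 ⊔ Subgroup.zpowers e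
      -- complete `B0` inside `A ⊔ ⟨e⟩`
      obtain ⟨hP, hPc⟩ := hext A hA e (hE.2 e he) heA hce
      set P := A ⊔ Subgroup.zpowers e
      have hPc' : ∀ x ∈ P, ∀ y ∈ P, x * y = y * x := fun x hx y hy =>
        congrArg Subtype.val (hP.1.is_comm.comm ⟨x, hx⟩ ⟨y, hy⟩)
      have hgrow : ∀ n, ∀ C : Subgroup X, C ≤ P → Nat.card ↥C + n ≥ 8 → Nat.card ↥C ≤ 8 →
          ∃ B, C ≤ B ∧ B ≤ P ∧ IsElementaryAbelian 2 B ∧ Nat.card ↥B = 8 := by
        intro n
        induction n with
        | zero =>
          intro C hC h1 h2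
          exact ⟨C, le_rfl, hC, ⟨⟨⟨fun x y => Subtype.ext
            (hPc' _ (hC x.2) _ (hC y.2))⟩⟩, fun x hx => hP.2 x (hC hx)⟩, by omega⟩
        | succ n ihn =>
          intro C hC h1 h2
          by_cases h : Nat.card ↥C = 8
          · exact ihn C hC (by omega) h2
          obtain ⟨p, hp, hpC⟩ : ∃ p ∈ P, p ∉ C := by
            by_contra hh
            push Not at hh
            have := Subgroup.card_le_of_le (show P ≤ C from hh)
            omega
          have hCe : IsElementaryAbelian 2 C := ⟨⟨⟨fun x y => Subtype.ext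
            (hPc' _ (hC x.2) _ (hC y.2))⟩⟩, fun x hx => hP.2 x (hC hx)⟩
          obtain ⟨-, hc2⟩ := hext C hCe p (hP.2 p hp) hpC
            (fun x hx => congrArg Subtype.val (hP.1.is_comm.comm ⟨x, hC hx⟩ ⟨p, hp⟩))
          obtain ⟨i, hi⟩ := hpow C
          have hi3 : i < 3 := by
            by_contra h3
            have : 8 ≤ Nat.card ↥C := by rw [hi]; exact le_trans (by norm_num) (Nat.pow_le_pow_right two_pos (not_lt.mp h3))
            omega
          have : Nat.card ↥C ≤ 4 := by rw [hi]; interval_cases i <;> norm_num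
          obtain ⟨B, h1, h2, h3, h4⟩ := ihn (C ⊔ Subgroup.zpowers p)
            (sup_le hC (Subgroup.zpowers_le.mpr hp)) (by have := Nat.card_pos (α := ↥C); omega) (by omega)
          exact ⟨B, le_sup_left.trans h1, h2, h3, h4⟩
      have hA04 : Nat.card ↥A0 ≤ 4 := by
        obtain ⟨i, hi⟩ := hpow A0
        have hi3 : i < 3 := by
          by_contra h3
          have : 8 ≤ Nat.card ↥A0 := by rw [hi]; exact le_trans (by norm_num) (Nat.pow_le_pow_right two_pos (not_lt.mp h3))
          exact hAE ((Subgroup.eq_of_le_of_card_ge (inf_le_left : A ⊓ E ≤ A) (by rw [← hA0]; omega)) ▸ inf_le_right)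
        rw [hi]; interval_cases i <;> norm_num
      obtain ⟨B, hB0B, hBP, hB, hB8⟩ := hgrow 8 B0
        (sup_le (inf_le_left.trans le_sup_left) le_sup_right) (by omega) (by omega)
      have hB0E : B0 ≤ B ⊓ E := le_inf hB0B (sup_le inf_le_right (Subgroup.zpowers_le.mpr he))
      obtain ⟨B', hB'E, hB', hB'8, hpath⟩ := ih B hB hB8 (by
        have := Subgroup.card_le_of_le hB0E
        have := Nat.card_pos (α := ↥A0)
        omega)
      refine ⟨B', hB'E, hB', hB'8, .head (mkrel A B hA h8 hB hB8 fun x hx y hy => ?_) hpath⟩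
      exact congrArg Subtype.val (hP.1.is_comm.comm ⟨x, Subgroup.mem_sup_left hx⟩ ⟨y, hBP hy⟩)
  have rev : ∀ C D, Relation.ReflTransGen rel C D → Relation.ReflTransGen rel D C := by
    intro C D h
    induction h with
    | refl => exact .refl
    | tail _ h ihh => exact .head (rel_symm _ _ h) ihh
  intro A B hA hA8 hB hB8
  obtain ⟨A', hA'E, hA', hA'8, hpA⟩ := toE 8 A hA hA8 (by omega)
  obtain ⟨B', hB'E, hB', hB'8, hpB⟩ := toE 8 B hB hB8 (by omega)
  refine hpA.trans (.head (mkrel A' B' hA' hA'8 hB' hB'8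
    fun x hx y hy => hEc x (hA'E hx) y (hB'E hy)) ?_)
  exact rev _ _ hpB

end Cfsg.Agent.S1785
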