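import Cfsg.Statements.S1786
import Cfsg.Agent.Lib.KSteps.TIRadicalStructure
import Cfsg.Agent.Lib.Components.GenFitting

set_option autoImplicit false
open Cfsg

namespace Cfsg.Agent.S1786

/-- Let G be a finite group, V an elementary abelian 2-subgroup of G and M the normalizer of V; write Q for the largest normal 2-subgroup of M. Suppose (1) the generalized Fitting subgroup of M equals Q; (2) V is a maximal abelian normal subgroup of M; (3) every conjugate of V equals V or meets V trivially, and for some g ∈ G the conjugate V' = g V g⁻¹ is different from V and contained in Q. Let P be the centralizer of V in Q, W the subgroup generated by V and V', and H the subgroup generated by P and g P g⁻¹. Then: (a) V is contained in g Q g⁻¹; (b) every non-identity element of W lies in exactly one conjugate of V contained in W, H normalizes W, and H modulo the centralizer of W in H is isomorphic to the special linear group of dimension 2 over the field with |V| elements; (c) P = Q, and V equals the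 Frattini subgroup, the centre and the commutator subgroup of Q. -/
theorem result {G : Type*} [Group G] [Finite G] (V : Subgroup G)
    (hV : Cfsg.IsElementaryAbelian 2 V)
    (h1 : (Cfsg.generalizedFittingSubgroup ↥(Subgroup.normalizer (V : Set G))).map (Subgroup.normalizer (V : Set G)).subtype =
      (Cfsg.pCore 2 ↥(Subgroup.normalizer (V : Set G))).map (Subgroup.normalizer (V : Set G)).subtype)
    (h2 : ∀ A : Subgroup G, V ≤ A → A ≤ Subgroup.normalizer (V : Set G) → IsMulCommutative ↥A →
      (∀ m ∈ Subgroup.normalizer (V : Set G), ∀ a ∈ A, m * a * m⁻¹ ∈ A) → A = V)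
    (hti : ∀ x : G, V.map (MulAut.conj x).toMonoidHom = V ∨ V.map (MulAut.conj x).toMonoidHom ⊓ V = ⊥)
    (g : G) (hg : V.map (MulAut.conj g).toMonoidHom ≠ V)
    (hgQ : V.map (MulAut.conj g).toMonoidHom ≤ (Cfsg.pCore 2 ↥(Subgroup.normalizer (V : Set G))).map (Subgroup.normalizer (V : Set G)).subtype) :
    let Q : Subgroup G := (Cfsg.pCore 2 ↥(Subgroup.normalizer (V : Set G))).map (Subgroup.normalizer (V : Set G)).subtype
    let P : Subgroup G := Q ⊓ Subgroup.centralizer (V : Set G)
    let W : Subgroup G := V ⊔ V.map (MulAut.conj g).toMonoidHom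
    let H : Subgroup G := P ⊔ P.map (MulAut.conj g).toMonoidHom
    V ≤ Q.map (MulAut.conj g).toMonoidHom ∧
      (∀ w ∈ W, w ≠ 1 → ∃! U : Subgroup G, (∃ x : G, U = V.map (MulAut.conj x).toMonoidHom) ∧ U ≤ W ∧ w ∈ U) ∧
      H ≤ Subgroup.normalizer (W : Set G) ∧
      (∀ hN : ((Subgroup.centralizer (W : Set G)).subgroupOf H).Normal, ∃ (F : Type) (_ : Field F) (_ : Fintype F), Fintype.card F = Nat.card ↥V ∧
        Nonempty (↥H ⧸ (Subgroup.centralizer (W : Set G)).subgroupOf H ≃* Matrix.SpecialLinearGroup (Fin 2) F)) ∧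
      P = Q ∧ (frattini ↥Q).map Q.subtype = V ∧ (Subgroup.center ↥Q).map Q.subtype = V ∧ (commutator ↥Q).map Q.subtype = V := by
  intro Q P W H
  have hsq : ∀ v ∈ V, v * v = 1 := fun v hv => by rw [← pow_two]; exact hV.2 v hv
  have hVp : IsPGroup 2 ↥V := fun v => ⟨1, Subtype.ext (by rw [pow_one]; exact hV.2 v v.2)⟩
  set N := Subgroup.normalizer (V : Set G) with hNdef
  have hQN : Q ≤ N := Subgroup.map_subtype_le _
  have hnormal : ∀ m ∈ N, ∀ q ∈ Q, m * q * m⁻¹ ∈ Q := by
    rintro m hm _ ⟨q, hq, rfl⟩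
    exact ⟨⟨m, hm⟩ * q * ⟨m, hm⟩⁻¹,
      (inferInstance : (Cfsg.pCore 2 ↥N).Normal).conj_mem q hq ⟨m, hm⟩, rfl⟩
  have hmax : ∀ K ≤ N, IsPGroup 2 ↥K → (∀ m ∈ N, ∀ k ∈ K, m * k * m⁻¹ ∈ K) → K ≤ Q := by
    intro K hK h2K hnK k hk
    have hn : (K.subgroupOf N).Normal := ⟨fun y hy m => hnK m m.2 y hy⟩
    have hle : K.subgroupOf N ≤ Cfsg.pCore 2 ↥N :=
      le_sSup ⟨hn, h2K.comap_of_injective N.subtype N.subtype_injective⟩
    exact ⟨⟨k, hK hk⟩, hle hk, rfl⟩
  have hVQ : V ≤ Q := hmax V Subgroup.le_normalizer hVp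
    fun m hm v hv => (Subgroup.mem_normalizer_iff.mp hm v).mp hv
  have hgood : CfsgLib.KSteps.TIRadical.Good V Q :=
    { sq := hsq
      two := (CfsgLib.Components.isPGroup_pCore (G := ↥N) 2).map N.subtype
      le_normalizer := hQN
      normal := hnormal
      le := hVQ
      cent := fun c hc hcomm => by
        have e : Cfsg.generalizedFittingSubgroup ↥N = Cfsg.pCore 2 ↥N :=
          Subgroup.map_injective N.subtype_injective h1
        have hc' : (⟨c, hc⟩ : ↥N) ∈ Cfsg.generalizedFittingSubgroup ↥N :=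
          CfsgLib.Components.centralizer_genFitting_le fun y hy => Subtype.ext
            (hcomm y ⟨y, e ▸ hy, rfl⟩).eq.symm
        exact ⟨⟨c, hc⟩, e ▸ hc', rfl⟩
      max_two := hmax
      max_ab := fun A hVA hAQ hab hnA =>
        h2 A hVA (hAQ.trans hQN) ⟨⟨fun a b => Subtype.ext (hab a a.2 b b.2).eq⟩⟩ hnA
      ti := hti
      ne_bot := fun e => hg (by rw [e, Subgroup.map_bot]) }
  have r : CfsgLib.KSteps.TIRadical.Rel V Q g := ⟨hgood, hg, hgQ⟩
  obtain ⟨hPQ, hfr, hce, hco⟩ := r.special
  exact ⟨r.le_conj, fun w hw hw1 => r.exists_unique_conj hw hw1, r.pc_sup_le_normalizer,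
    fun hN => r.sl2 hN, hPQ, hfr, hce, hco⟩

end Cfsg.Agent.S1786
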