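import Cfsg.Statements.S1850
import Cfsg.Agent.Lib.Even.EvenChar

set_option autoImplicit false
open Cfsg

namespace Cfsg.Agent.S1850

/-- Let G be a non-abelian finite simple QTKE-group and T a Sylow 2-subgroup of G. If U is a nontrivial 2-subgroup of G with U ∩ Z(T) ≠ 1, then F*(N_G(U)) = O₂(N_G(U)). -/
theorem result {G : Type*} [Group G] [Finite G] [IsSimpleGroup G]
    (hG : ¬ IsMulCommutative G) (hQ : Cfsg.IsQTKE G) (T : Sylow 2 G) (U : Subgroup G)
    (hU : IsPGroup 2 ↥U) (hZ : U ⊓ ((T : Subgroup G) ⊓ Subgroup.centralizer ((T : Subgroup G) : Set G)) ≠ ⊥) :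
    Subgroup.normalizer (U : Set G) ∈ Cfsg.calHe G := by
  haveI : Fact (Nat.Prime 2) := ⟨Nat.prime_two⟩
  haveI : Nontrivial ↥(U ⊓ ((T : Subgroup G) ⊓ Subgroup.centralizer ((T : Subgroup G) : Set G))) :=
    (Subgroup.nontrivial_iff_ne_bot _).mpr hZ
  obtain ⟨n, hn, hcard⟩ := (hU.to_le (inf_le_left (b := ((T : Subgroup G) ⊓
    Subgroup.centralizer ((T : Subgroup G) : Set G))))).nontrivial_iff_card.mp this
  obtain ⟨z', hz'⟩ := exists_prime_orderOf_dvd_card'
    (G := ↥(U ⊓ ((T : Subgroup G) ⊓ Subgroup.centralizer ((T : Subgroup G) : Set G)))) 2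
    (hcard ▸ dvd_pow_self 2 (by omega))
  have hzU : (z' : G) ∈ U := z'.2.1
  have hzc : (z' : G) ∈ Subgroup.centralizer ((T : Subgroup G) : Set G) := z'.2.2.2
  rw [← Subgroup.orderOf_coe] at hz'
  generalize (z' : G) = z at hzU hzc hz'
  have hzp : IsPGroup 2 ↥(Subgroup.zpowers z) := hU.to_le (Subgroup.zpowers_le.mpr hzU)
  have hzne : Subgroup.zpowers z ≠ ⊥ := by
    rw [ne_eq, Subgroup.zpowers_eq_bot]
    rintro rfl
    rw [orderOf_one] at hz'
    exact absurd hz' (by norm_num)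
  have hTC : (T : Subgroup G) ≤ Subgroup.normalizer (Subgroup.zpowers z : Set G) := by
    rw [CfsgLib.Even.normalizer_zpowers_eq_of_orderOf_two hz']
    intro t ht
    rw [Subgroup.mem_centralizer_iff]
    rintro w rfl
    exact (Subgroup.mem_centralizer_iff.mp hzc t ht).symm
  have h0 := CfsgLib.Even.hasCharP_of_twoLocal hQ.2.2 ⟨_, hzp, hzne, rfl⟩ T hTC
  rw [CfsgLib.Even.normalizer_zpowers_eq_of_orderOf_two hz',
    ← CfsgLib.Even.centralizer_zpowers_eq] at h0
  exact CfsgLib.Even.genFitting_eq_pCore_of_hasCharP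
    (CfsgLib.Even.hasCharP_normalizer_of_centralizer hU
      (CfsgLib.Even.hasCharP_centralizer_of_le hU (Subgroup.zpowers_le.mpr hzU) h0))

end Cfsg.Agent.S1850
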