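import Cfsg.Statements.S1851
import Cfsg.Agent.Lib.Even.EvenChar
import Cfsg.Prelude.Def_QuasithinSetup

set_option autoImplicit false
open Cfsg

namespace Cfsg.Agent.S1851

open CfsgLib.Even

theorem omega_props {G : Type*} [Group G] (Q : Subgroup G) :
    ∀ v ∈ omegaOne 2 (Q ⊓ Subgroup.centralizer (Q : Set G)),
      v ∈ Q ∧ (∀ q ∈ Q, q * v = v * q) ∧ v * v = 1 := by
  intro v hv
  induction hv using Subgroup.closure_induction with
  | mem x hx => exact ⟨hx.1.1, Subgroup.mem_centralizer_iff.mp hx.1.2, by rw [← pow_two]; exact hx.2⟩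
  | one => exact ⟨Q.one_mem, by simp, one_mul 1⟩
  | mul a b _ _ ha hb =>
    refine ⟨Q.mul_mem ha.1 hb.1, fun q hq => ?_, ?_⟩
    · exact ((show Commute q a from ha.2.1 q hq).mul_right (show Commute q b from hb.2.1 q hq))
    · have e : a * b = b * a := hb.2.1 a ha.1
      calc a * b * (a * b) = a * (b * a) * b := by simp [mul_assoc]
        _ = (a * a) * (b * b) := by rw [← e]; simp [mul_assoc]
        _ = 1 := by rw [ha.2.2, hb.2.2, one_mul]
  | inv a _ ha =>
    refine ⟨Q.inv_mem ha.1, fun q hq => ?_, ?_⟩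
    · exact (show Commute q a from ha.2.1 q hq).inv_right
    · rw [← mul_inv_rev, ha.2.2, inv_one]

theorem faithful_upward {G : Type*} [Group G] [Finite G] (hE : IsOfEvenCharacteristic G)
    (T : Sylow 2 G) {L K : Subgroup G} (hL : L ∈ calLf (T : Subgroup G))
    (hK : K ∈ calL (T : Subgroup G)) (hLK : L ≤ K) : K ∈ calLf (T : Subgroup G) := by
  haveI : Fact (Nat.Prime 2) := ⟨Nat.prime_two⟩
  obtain ⟨⟨hLc, hLsyl, -⟩, ⟨hLne, hLgen, -⟩, hLV⟩ := hL
  obtain ⟨⟨-, hKperf, hKsn, -⟩, ⟨P, hP⟩, hKcore⟩ := id hK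
  set LT := L ⊔ (T : Subgroup G) with hLT
  set KT := K ⊔ (T : Subgroup G) with hKT
  have hKKT : K ≤ KT := le_sup_left
  have hLLT : L ≤ LT := le_sup_left
  have hTKT : (T : Subgroup G) ≤ KT := le_sup_right
  have hLTKT : LT ≤ KT := sup_le (hLK.trans hKKT) hTKT
  have hKgen : oddGenerated K = K := by
    refine oddGenerated_eq_of_perfect ?_
    have h2 := congrArg (Subgroup.map KT.subtype) hKperf
    rwa [Subgroup.map_commutator, Subgroup.map_subgroupOf_eq_of_le hKKT] at h2
  have hLsn : (L.subgroupOf LT).IsSubnormal := hLc.2.2.1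
  have hKTc : HasCharP 2 KT := hasCharP_of_sylow_le hE T hTKT hKcore
  have hKc : HasCharP 2 K := by
    rw [← Subgroup.map_subgroupOf_eq_of_le hKKT, hasCharP_map_subtype_iff]
    refine hasCharP_of_isSubnormal ?_ hKsn
    rw [← hasCharP_map_subtype_iff, ← MonoidHom.range_eq_map, Subgroup.range_subtype]
    exact hKTc
  refine ⟨hK, ⟨fun e => hLne (le_bot_iff.mp (e ▸ hLK)), hKgen,
    genFitting_eq_pCore_of_hasCharP hKc⟩, ?_⟩
  -- the cores
  set R := pOf 2 LT with hR
  set R' := pOf 2 KT with hR'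
  have hRn : LT ≤ Subgroup.normalizer (R : Set G) := le_normalizer_pOf LT
  have hR'n : KT ≤ Subgroup.normalizer (R' : Set G) := le_normalizer_pOf KT
  have hR'R : R' ≤ R := by
    have h1 : R' ≤ (T : Subgroup G) := by
      rintro x ⟨x', hx', rfl⟩
      exact CfsgLib.Solvable.pCore_le_sylow (p := 2) (T.subtype hTKT) hx'
    exact le_pOf (h1.trans le_sup_right) (hLTKT.trans hR'n) (pOf_isPGroup KT)
  have hLR : pOf 2 L ≤ R := by
    conv_lhs => rw [← Subgroup.map_subgroupOf_eq_of_le hLLT, ← pOf_subtype]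
    exact Subgroup.map_mono (pOf_le_pCore_of_isSubnormal hLsn)
  have hRL : R ≤ Subgroup.normalizer (L : Set G) := by
    rintro r ⟨r', hr', rfl⟩
    have h2 := pCore_le_normalizer_of_oddGenerated hLsn (oddGenerated_subgroupOf hLLT hLgen) hr'
    have h3 := Subgroup.le_normalizer_map (H := L.subgroupOf LT) LT.subtype ⟨r', h2, rfl⟩
    rwa [Subgroup.map_subgroupOf_eq_of_le hLLT] at h3
  have hR'K : R' ≤ Subgroup.normalizer (K : Set G) := by
    rintro r ⟨r', hr', rfl⟩
    have h2 := pCore_le_normalizer_of_oddGenerated hKsn (oddGenerated_subgroupOf hKKT hKgen) hr'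
    have h3 := Subgroup.le_normalizer_map (H := K.subgroupOf KT) KT.subtype ⟨r', h2, rfl⟩
    rwa [Subgroup.map_subgroupOf_eq_of_le hKKT] at h3
  -- an element of odd order moving the module of `L`
  set V := omegaOne 2 (pCoreTwoOf L ⊓ Subgroup.centralizer (pCoreTwoOf L : Set G)) with hV
  have hV' := omega_props (pCoreTwoOf L)
  obtain ⟨y, hyL, hyo, hyV⟩ : ∃ y ∈ L, Odd (orderOf y) ∧ y ∉ Subgroup.centralizer (V : Set G) := by
    by_contra hcon
    push Not at hcon
    refine hLV ?_
    rw [moduleV, Subgroup.commutator_eq_bot_iff_le_centralizer, Subgroup.le_centralizer_iff]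
    exact hLgen.ge.trans ((Subgroup.closure_le _).mpr fun x hx => hcon x hx.1 hx.2)
  have hyco : (orderOf y).Coprime 2 := Nat.coprime_two_right.mpr hyo
  obtain ⟨w, hwV, hwR, hwy⟩ : ∃ w ∈ V, (∀ r ∈ R, r * w = w * r) ∧ w * y ≠ y * w := by
    by_contra hcon
    push Not at hcon
    apply hyV
    set P₀ := R ⊓ Subgroup.centralizer (Subgroup.zpowers y : Set G) with hP₀
    have hcopR : (Nat.card (Subgroup.zpowers y)).Coprime (Nat.card R) := by
      obtain ⟨k, hk⟩ := IsPGroup.iff_card.mp (pOf_isPGroup (p := 2) LT)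
      rw [Nat.card_zpowers, hk]
      exact hyco.pow_right k
    haveI : Group.IsNilpotent R := (pOf_isPGroup (p := 2) LT).isNilpotent
    have hyR : Subgroup.zpowers y ≤ Subgroup.normalizer (R : Set G) :=
      (Subgroup.zpowers_le.mpr (hLLT hyL)).trans hRn
    have hsup := CfsgLib.Solvable.commutator_sup_centralizer hyR hcopR (Or.inr inferInstance)
    have hRV : R ≤ Subgroup.normalizer (V : Set G) := by
      intro r hr
      have hrQ := normalizer_le_normalizer_pOf (p := 2) L (hRL hr)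
      have key : ∀ r ∈ Subgroup.normalizer (pCoreTwoOf L : Set G), ∀ v ∈ V, r * v * r⁻¹ ∈ V := by
        intro r hr v hv
        obtain ⟨h1, h2, h3⟩ := hV' v hv
        refine Subgroup.subset_closure ⟨⟨(Subgroup.mem_normalizer_iff.mp hr v).mp h1, ?_⟩, ?_⟩
        · refine Subgroup.mem_centralizer_iff.mpr fun q hq => ?_
          have h4 := congrArg (fun t => r * t * r⁻¹)
            (h2 _ ((Subgroup.mem_normalizer_iff.mp hr (r⁻¹ * q * r)).mpr
              (by simpa [mul_assoc] using hq)))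
          simpa [mul_assoc] using h4
        · have e : (r * v * r⁻¹) ^ 2 = r * (v * v) * r⁻¹ := by simp [pow_two, mul_assoc]
          rw [e, h3]; simp
      rw [Subgroup.mem_normalizer_iff]
      intro v
      refine ⟨key r hrQ v, fun h => ?_⟩
      have := key r⁻¹ ((Subgroup.normalizer (pCoreTwoOf L : Set G)).inv_mem hrQ) _ h
      simpa [mul_assoc] using this
    have hVp : IsPGroup 2 V := (pOf_isPGroup (p := 2) L).to_le fun v hv => (hV' v hv).1
    have hyVn : Subgroup.zpowers y ≤ Subgroup.normalizer (V : Set G) := by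
      rw [Subgroup.zpowers_le]
      have hyQ := normalizer_le_normalizer_pOf (p := 2) L (Subgroup.le_normalizer hyL)
      rw [Subgroup.mem_normalizer_iff]
      intro v
      have key : ∀ r ∈ Subgroup.normalizer (pCoreTwoOf L : Set G), ∀ v ∈ V, r * v * r⁻¹ ∈ V := by
        intro r hr v hv
        obtain ⟨h1, h2, h3⟩ := hV' v hv
        refine Subgroup.subset_closure ⟨⟨(Subgroup.mem_normalizer_iff.mp hr v).mp h1, ?_⟩, ?_⟩
        · refine Subgroup.mem_centralizer_iff.mpr fun q hq => ?_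
          have h4 := congrArg (fun t => r * t * r⁻¹)
            (h2 _ ((Subgroup.mem_normalizer_iff.mp hr (r⁻¹ * q * r)).mpr
              (by simpa [mul_assoc] using hq)))
          simpa [mul_assoc] using h4
        · have e : (r * v * r⁻¹) ^ 2 = r * (v * v) * r⁻¹ := by simp [pow_two, mul_assoc]
          rw [e, h3]; simp
      refine ⟨key y hyQ v, fun h => ?_⟩
      have := key y⁻¹ ((Subgroup.normalizer (pCoreTwoOf L : Set G)).inv_mem hyQ) _ h
      simpa [mul_assoc] using this
    refine CfsgLib.Solvable.thompson_pxq (P := P₀) ((pOf_isPGroup (p := 2) LT).to_le inf_le_left)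
      (by rwa [Nat.card_zpowers]) hVp inf_le_right (le_trans inf_le_left hRV) hyVn ?_
      (Subgroup.mem_zpowers y)
    rintro v ⟨hvV, hvP⟩
    have hcomm : ⁅R, Subgroup.zpowers y⁆ ≤ pOf 2 L := by
      have h1 : ⁅R, Subgroup.zpowers y⁆ ≤ L ⊓ R := by
        rw [Subgroup.commutator_le]
        intro r hr b hb
        refine ⟨?_, ?_⟩
        · rw [commutatorElement_def]
          have hbL := Subgroup.zpowers_le.mpr hyL hb
          exact L.mul_mem ((Subgroup.mem_normalizer_iff.mp (hRL hr) b).mp hbL) (L.inv_mem hbL)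
        · rw [commutatorElement_def, mul_assoc, mul_assoc]
          refine R.mul_mem hr ?_
          have := (Subgroup.mem_normalizer_iff.mp (hyR hb) r⁻¹).mp (R.inv_mem hr)
          simpa [mul_assoc] using this
      refine h1.trans (le_pOf inf_le_left ?_ ((pOf_isPGroup (p := 2) LT).to_le inf_le_right))
      intro l hl
      rw [Subgroup.mem_normalizer_iff]
      intro x
      have ha := Subgroup.mem_normalizer_iff.mp (Subgroup.le_normalizer hl) x
      have hb := Subgroup.mem_normalizer_iff.mp (hRn (hLLT hl)) x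
      exact ⟨fun h => ⟨ha.mp h.1, hb.mp h.2⟩, fun h => ⟨ha.mpr h.1, hb.mpr h.2⟩⟩
    have hle : R ≤ Subgroup.centralizer ({v} : Set G) := by
      rw [← hsup]
      refine sup_le (hcomm.trans fun q hq => ?_) fun q hq => ?_
      · rw [Subgroup.mem_centralizer_iff]
        rintro x rfl
        exact ((hV' x hvV).2.1 q hq).symm
      · rw [Subgroup.mem_centralizer_iff]
        rintro x rfl
        exact (Subgroup.mem_centralizer_iff.mp hvP q hq).symm
    have := hcon v hvV fun r hr => (Subgroup.mem_centralizer_iff.mp (hle hr) v rfl).symm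
    rw [Subgroup.mem_centralizer_iff]
    intro b hb
    obtain ⟨k, rfl⟩ := Subgroup.mem_zpowers_iff.mp hb
    exact ((show Commute v y from this).zpow_right k).symm
  -- conclusion
  obtain ⟨hwL, -, hww⟩ := hV' w hwV
  have hwR' : w ∈ R' :=
    hKTc w (hLTKT (hLLT (pOf_le L hwL))) fun q hq => hwR q (hR'R hq)
  have hyK : y ∈ K := hLK hyL
  have hu : y * w * y⁻¹ ∈ R' :=
    (Subgroup.mem_normalizer_iff.mp (hR'n (hKKT hyK)) w).mp hwR'
  have hucent : ∀ q ∈ R', q * (y * w * y⁻¹) = (y * w * y⁻¹) * q := by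
    intro q hq
    have hq' : y⁻¹ * q * y ∈ R' := (Subgroup.mem_normalizer_iff.mp (hR'n (hKKT hyK)) _).mpr
      (by simpa [mul_assoc] using hq)
    have := congrArg (fun t => y * t * y⁻¹) (hwR _ (hR'R hq'))
    simpa [mul_assoc] using this
  set c := w⁻¹ * (y * w * y⁻¹) with hc
  have hcR' : c ∈ R' := R'.mul_mem (R'.inv_mem hwR') hu
  have hcent : ∀ q ∈ R', q * c = c * q := fun q hq =>
    ((show Commute q w from hwR q (hR'R hq)).inv_right).mul_right
      (show Commute q (y * w * y⁻¹) from hucent q hq)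
  have hcK : c ∈ K := by
    have h1 : w⁻¹ * y * w ∈ K := by
      simpa [mul_assoc] using
        (Subgroup.mem_normalizer_iff.mp (hR'K (R'.inv_mem hwR')) y).mp hyK
    have := K.mul_mem h1 (K.inv_mem hyK)
    rw [hc]
    simpa [mul_assoc] using this
  have hcQ : c ∈ pCoreTwoOf K := by
    refine le_pOf (E := K ⊓ R') inf_le_left ?_ ((pOf_isPGroup (p := 2) KT).to_le inf_le_right)
      ⟨hcK, hcR'⟩
    intro k hk
    rw [Subgroup.mem_normalizer_iff]
    intro x
    have ha := Subgroup.mem_normalizer_iff.mp (Subgroup.le_normalizer hk) x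
    have hb := Subgroup.mem_normalizer_iff.mp (hR'n (hKKT hk)) x
    exact ⟨fun h => ⟨ha.mp h.1, hb.mp h.2⟩, fun h => ⟨ha.mpr h.1, hb.mpr h.2⟩⟩
  have hQK : pCoreTwoOf K ≤ R' := by
    show pOf 2 K ≤ _
    conv_lhs => rw [← Subgroup.map_subgroupOf_eq_of_le hKKT, ← pOf_subtype]
    exact Subgroup.map_mono (pOf_le_pCore_of_isSubnormal hKsn)
  have hcc : c * c = 1 := by
    have hwu : Commute w⁻¹ (y * w * y⁻¹) := (show Commute w (y * w * y⁻¹) from hucent w hwR').inv_left
    have e1 : w⁻¹ * w⁻¹ = 1 := by rw [← mul_inv_rev, hww, inv_one]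
    have e2 : (y * w * y⁻¹) * (y * w * y⁻¹) = 1 := by
      calc (y * w * y⁻¹) * (y * w * y⁻¹) = y * (w * w) * y⁻¹ := by simp [mul_assoc]
        _ = 1 := by rw [hww]; simp
    calc c * c = w⁻¹ * ((y * w * y⁻¹) * w⁻¹) * (y * w * y⁻¹) := by simp [hc, mul_assoc]
      _ = (w⁻¹ * w⁻¹) * ((y * w * y⁻¹) * (y * w * y⁻¹)) := by rw [← hwu.eq]; simp [mul_assoc]
      _ = 1 := by rw [e1, e2, one_mul]
  intro hbot
  rw [moduleV, Subgroup.commutator_eq_bot_iff_le_centralizer] at hbot
  have hmem : c ∈ omegaOne 2 (pCoreTwoOf K ⊓ Subgroup.centralizer (pCoreTwoOf K : Set G)) :=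
    Subgroup.subset_closure ⟨⟨hcQ, Subgroup.mem_centralizer_iff.mpr fun q hq => hcent q (hQK hq)⟩,
      by rw [pow_two]; exact hcc⟩
  have hcy : y * c = c * y := Subgroup.mem_centralizer_iff.mp (hbot hmem) y hyK
  have hiter : ∀ m : ℕ, y ^ m * w * (y ^ m)⁻¹ = w * c ^ m := by
    intro m
    induction m with
    | zero => simp
    | succ m ihm =>
      have hcm : y * c ^ m * y⁻¹ = c ^ m := by
        rw [((show Commute y c from hcy).pow_right m).eq, mul_inv_cancel_right]
      calc y ^ (m + 1) * w * (y ^ (m + 1))⁻¹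
          = y * (y ^ m * w * (y ^ m)⁻¹) * y⁻¹ := by simp [pow_succ', mul_assoc]
        _ = (y * w * y⁻¹) * (y * c ^ m * y⁻¹) := by rw [ihm]; simp [mul_assoc]
        _ = w * c * c ^ m := by rw [hcm, hc]; simp
        _ = w * c ^ (m + 1) := by rw [mul_assoc, ← pow_succ']
  have hco : c ^ orderOf y = 1 := by
    have h2 := hiter (orderOf y)
    rw [pow_orderOf_eq_one, one_mul, inv_one, mul_one] at h2
    exact left_eq_mul.mp h2
  obtain ⟨j, hj⟩ := hyo
  rw [hj, pow_succ, pow_mul, pow_two, hcc, one_pow, one_mul] at hco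
  apply hwy
  rw [hc, inv_mul_eq_one] at hco
  exact eq_mul_inv_iff_mul_eq.mp hco

/-- Let G be a non-abelian finite simple QTKE-group and T a Sylow 2-subgroup of G, and let L be a member of ℒ_f(G, T) (a member of ℒ(G, T) that lies in 𝒳 — L ≠ 1, L = O²(L), F*(L) = O₂(L) — and acts nontrivially on Ω₁(Z(O₂(L)))). Then (1) every member K of ℒ(G, T) containing L is again in ℒ_f(G, T) (a sharper form of (1) also compares the modules [Ω₁(Z(R)), L] and [Ω₁(Z(R')), K] for suitable 2-subgroups R, R'; that comparison is not included); and (2) if L is maximal under inclusion among the members of ℒ_f(G, T), then L is a maximal member of ℒ(G, T), hence a member of ℒ_f*(G, T). -/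
theorem result {G : Type*} [Group G] [Finite G] [IsSimpleGroup G]
    (hG : ¬ IsMulCommutative G) (hQ : Cfsg.IsQTKE G) (T : Sylow 2 G) (L : Subgroup G)
    (hL : L ∈ Cfsg.calLf (T : Subgroup G)) :
    (∀ K ∈ Cfsg.calL (T : Subgroup G), L ≤ K → K ∈ Cfsg.calLf (T : Subgroup G)) ∧
    ((∀ K ∈ Cfsg.calLf (T : Subgroup G), L ≤ K → K = L) → L ∈ Cfsg.calLfMax (T : Subgroup G)) := by
  refine ⟨fun K hK hLK => faithful_upward hQ.2.2 T hL hK hLK, fun hmax => ?_⟩
  exact ⟨⟨hL.1, fun K hK hLK => hmax K (faithful_upward hQ.2.2 T hL hK hLK) hLK⟩, hL.2⟩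

end Cfsg.Agent.S1851
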