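import Cfsg.Statements.S1892
import Cfsg.Agent.Lib.Balance.Orbit
import Cfsg.Agent.Lib.PLocal.HallHigman
import Cfsg.Agent.Lib.Solvable.CoprimeAction
-- import your own Cfsg.Agent.* helpers here

set_option autoImplicit false
open Cfsg

namespace Cfsg.Agent.S1892

/-- Let S be a finite p-solvable group with no nontrivial normal subgroup of order prime to p, A a p-subgroup of S, and Q a nontrivial A-invariant subgroup of order prime to p with [A, Q] = Q. Then the commutator [O_p(S), A, Q] is nontrivial. -/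
theorem result {S : Type*} [Group S] [Finite S] {p : ℕ} [Fact p.Prime]
    (hS : Cfsg.IsPSolvable p S) (hred : Cfsg.pPrimeCore p S = ⊥)
    (A Q : Subgroup S) (hA : IsPGroup p A) (hQ : ¬ p ∣ Nat.card Q) (hQ1 : Q ≠ ⊥)
    (hinv : ∀ a ∈ A, ∀ x ∈ Q, a * x * a⁻¹ ∈ Q) (hAQ : ⁅A, Q⁆ = Q) :
    ⁅⁅Cfsg.pCore p S, A⁆, Q⁆ ≠ ⊥ := by
  classical
  have hp := (Fact.out : p.Prime)
  intro h0
  set P := Cfsg.pCore p S with hP
  set N := ⁅P, A⁆ with hN
  haveI hPn : P.Normal := Cfsg.pCore_normal p S
  have hPp : IsPGroup p ↥P := CfsgLib.Components.isPGroup_pCore p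
  have hNP : N ≤ P := Subgroup.commutator_le_left _ _
  have hQN : Q ≤ Subgroup.centralizer (N : Set S) :=
    CfsgLib.Components.le_centralizer_of_commutator_eq_bot (by rw [Subgroup.commutator_comm]; exact h0)
  have hPN : P ≤ Subgroup.normalizer (N : Set S) := Subgroup.normalizer_commutator_ge_left P A
  -- the elements centralizing `P` modulo `N`
  let T : Subgroup S := Subgroup.normalizer (N : Set S)
  have hPT : P ≤ T := hPN
  have hAT : A ≤ T := Subgroup.normalizer_commutator_ge_right P A
  have hQT : Q ≤ T := hQN.trans (Subgroup.centralizer_le_normalizer _)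
  haveI : (N.subgroupOf T).Normal := Subgroup.normal_in_normalizer
  set f := QuotientGroup.mk' (N.subgroupOf T) with hf
  have hAP : (A.subgroupOf T).map f ≤ Subgroup.centralizer ((P.subgroupOf T).map f : Set (↥T ⧸ N.subgroupOf T)) := by
    refine CfsgLib.Components.le_centralizer_of_commutator_eq_bot ?_
    rw [← Subgroup.map_commutator, Subgroup.map_eq_bot_iff, QuotientGroup.ker_mk',
      ← Subgroup.map_subtype_le_map_subtype, Subgroup.map_commutator, Subgroup.map_subgroupOf_eq_of_le hAT,
      Subgroup.map_subgroupOf_eq_of_le hPT, Subgroup.commutator_comm,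
      Subgroup.map_subgroupOf_eq_of_le (hNP.trans hPT)]
  set C := Subgroup.centralizer ((P.subgroupOf T).map f : Set (↥T ⧸ N.subgroupOf T)) with hC
  haveI : ((P.subgroupOf T).map f).Normal := Subgroup.Normal.map inferInstance f (QuotientGroup.mk'_surjective _)
  haveI hCn : C.Normal := inferInstance
  have hQC : (Q.subgroupOf T).map f ≤ C := by
    have hle : ⁅A.subgroupOf T, Q.subgroupOf T⁆.map f ≤ C := by
      rw [Subgroup.map_commutator]
      exact (Subgroup.commutator_mono hAP le_rfl).trans (Subgroup.commutator_le_left _ _)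
    refine le_trans (Subgroup.map_mono ?_) hle
    rw [← Subgroup.map_subtype_le_map_subtype, Subgroup.map_commutator, Subgroup.map_subgroupOf_eq_of_le hAT,
      Subgroup.map_subgroupOf_eq_of_le hQT, hAQ]
  have hPQ : ⁅P, Q⁆ ≤ N := by
    have h1 : ⁅(P.subgroupOf T).map f, (Q.subgroupOf T).map f⁆ = ⊥ := by
      rw [Subgroup.commutator_comm, Subgroup.commutator_eq_bot_iff_le_centralizer]
      exact hQC
    rw [← Subgroup.map_commutator, Subgroup.map_eq_bot_iff, QuotientGroup.ker_mk',
      ← Subgroup.map_subtype_le_map_subtype, Subgroup.map_commutator, Subgroup.map_subgroupOf_eq_of_le hQT,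
      Subgroup.map_subgroupOf_eq_of_le hPT, Subgroup.map_subgroupOf_eq_of_le (hNP.trans hPT)] at h1
    exact h1
  have hcop : (Nat.card ↥Q).Coprime (Nat.card ↥P) := by
    obtain ⟨n, hn⟩ := hPp.exists_card_eq
    rw [hn]
    exact Nat.Coprime.pow_right n (hp.coprime_iff_not_dvd.2 hQ).symm
  haveI : Group.IsNilpotent ↥P := hPp.isNilpotent
  have hzero : ⁅P, Q⁆ = ⊥ := by
    rw [← CfsgLib.Solvable.commutator_commutator_eq (le_top.trans (Subgroup.normalizer_eq_top (H := P)).ge) hcop
      (Or.inr inferInstance), eq_bot_iff, ← h0]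
    exact Subgroup.commutator_mono hPQ le_rfl
  have hQP : Q ≤ P := (CfsgLib.Components.le_centralizer_of_commutator_eq_bot
    (by rw [Subgroup.commutator_comm]; exact hzero)).trans (CfsgLib.PLoc.centralizer_pCore_le_self hS hred)
  exact hQ1 (Subgroup.eq_bot_of_card_le _ (Nat.le_of_eq (Nat.eq_one_of_dvd_coprimes hcop dvd_rfl
    (Subgroup.card_dvd_of_le hQP))))

end Cfsg.Agent.S1892
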