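import Cfsg.Statements.S1893
import Cfsg.Agent.Lib.Balance.ScnHall
-- import your own Cfsg.Agent.* helpers here

set_option autoImplicit false
open Cfsg

namespace Cfsg.Agent.S1893

/-- Let S be a finite solvable group, π a set of primes containing neither 2 nor 3, H a Hall π-subgroup of S, and A a self-centralizing normal subgroup of the Fitting subgroup F(H). Then C_S(A) = A × D for a normal subgroup D of C_S(A) whose order has no prime divisor in π. -/
theorem result {S : Type*} [Group S] [Finite S] [Group.IsSolvable S]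
    (π : Set ℕ) (h2 : 2 ∉ π) (h3 : 3 ∉ π) (H : Subgroup S) (hH : Cfsg.IsPiHall π H)
    (A : Subgroup S) (hA : Cfsg.IsSCN ((Cfsg.fittingSubgroup H).map H.subtype) A) :
    ∃ D : Subgroup S, D ≤ Subgroup.centralizer (A : Set S) ∧
      (∀ c ∈ Subgroup.centralizer (A : Set S), ∀ d ∈ D, c * d * c⁻¹ ∈ D) ∧
      A ⊓ D = ⊥ ∧ A ⊔ D = Subgroup.centralizer (A : Set S) ∧
      ∀ q : ℕ, q.Prime → q ∣ Nat.card D → q ∉ π := by
  classical
  set C := Subgroup.centralizer (A : Set S) with hC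
  have hAH : A ≤ H := hA.1.trans (Subgroup.map_subtype_le _)
  have hab : ∀ a ∈ A, ∀ b ∈ A, a * b = b * a := fun a ha b hb => by
    have h : b ∈ (Cfsg.fittingSubgroup H).map H.subtype ⊓ Subgroup.centralizer (A : Set S) := by
      rw [hA.2.2]; exact hb
    exact h.2 a ha
  have hAC : A ≤ C := fun b hb a ha => hab a ha b hb
  set A' := A.subgroupOf C with hA'
  haveI : A'.Normal := ⟨fun a ha c => by
    rw [show c * a = a * c from Subtype.ext (c.2 (a : S) ha).symm, mul_inv_cancel_right]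
    exact ha⟩
  have hidx : ∀ q : ℕ, q.Prime → q ∈ π → ¬ q ∣ A'.index := by
    intro q hq hqπ hd
    haveI := Fact.mk hq
    have h5 : 5 ≤ q := by
      have := hq.two_le
      rcases (show q = 2 ∨ q = 3 ∨ q = 4 ∨ 5 ≤ q by omega) with h | h | h | h
      · exact absurd (h ▸ hqπ) h2
      · exact absurd (h ▸ hqπ) h3
      · exact absurd (h ▸ hq) (by norm_num)
      · exact h
    obtain ⟨P⟩ : Nonempty (Sylow q ↥C) := inferInstance
    have hPA : (P : Subgroup ↥C) ≤ A' := by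
      intro y hy
      obtain ⟨j, hj⟩ := IsPGroup.iff_orderOf.1 P.isPGroup' ⟨y, hy⟩
      rw [Subgroup.orderOf_mk, ← Subgroup.orderOf_coe] at hj
      exact CfsgLib.ScnHall.mem_of_centralizes_hall h5 hqπ hH hA y.2 hj
    exact P.not_dvd_index (hd.trans (Subgroup.index_dvd_of_le hPA))
  have hcard : Nat.card A' = Nat.card A := Nat.card_congr (Subgroup.subgroupOfEquivOfLe hAC).toEquiv
  have hcop : (Nat.card A').Coprime A'.index := by
    refine Nat.coprime_of_dvd fun q hq h1 h2' => ?_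
    exact hidx q hq (hH.1 q hq ((hcard ▸ h1).trans (Subgroup.card_dvd_of_le hAH))) h2'
  obtain ⟨D', hD'⟩ := Subgroup.exists_right_complement'_of_coprime hcop
  refine ⟨D'.map C.subtype, Subgroup.map_subtype_le _, ?_, ?_, ?_, ?_⟩
  · rintro c hc _ ⟨d, hd, rfl⟩
    refine ⟨(⟨c, hc⟩ : ↥C) * d * (⟨c, hc⟩ : ↥C)⁻¹, ?_, rfl⟩
    obtain ⟨⟨⟨a, ha⟩, ⟨d', hd'⟩⟩, he⟩ := hD'.surjective (⟨c, hc⟩ : ↥C)
    simp only at he
    have hm : d' * d * d'⁻¹ ∈ D' := D'.mul_mem (D'.mul_mem hd' hd) (D'.inv_mem hd')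
    have hcom : a * (d' * d * d'⁻¹) = (d' * d * d'⁻¹) * a :=
      Subtype.ext ((d' * d * d'⁻¹).2 (a : S) ha)
    rw [← he, show a * d' * d * (a * d')⁻¹ = a * (d' * d * d'⁻¹) * a⁻¹ by group, hcom,
      mul_inv_cancel_right]
    exact hm
  · rw [eq_bot_iff]
    rintro _ ⟨ha, d, hd, rfl⟩
    have hdA : d ∈ A' := ha
    have h := hD'.disjoint.le_bot (Subgroup.mem_inf.2 ⟨hdA, hd⟩)
    rw [Subgroup.mem_bot] at h
    rw [Subgroup.mem_bot, h]
    rfl
  · refine le_antisymm (sup_le hAC (Subgroup.map_subtype_le _)) fun c hc => ?_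
    obtain ⟨⟨⟨a, ha⟩, ⟨d', hd'⟩⟩, he⟩ := hD'.surjective (⟨c, hc⟩ : ↥C)
    have he' : (a : S) * (d' : S) = c := congrArg Subtype.val he
    rw [← he']
    exact Subgroup.mul_mem_sup ha ⟨d', hd', rfl⟩
  · intro q hq hd hqπ
    rw [Subgroup.card_map_of_injective C.subtype_injective, ← hD'.symm.index_eq_card] at hd
    exact hidx q hq hqπ hd

end Cfsg.Agent.S1893
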