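import Cfsg.Statements.S1894
import Cfsg.Agent.Lib.PGroup.Basic
import Mathlib.Data.Fintype.Powerset
-- import your own Cfsg.Agent.* helpers here

set_option autoImplicit false
open Cfsg

namespace Cfsg.Agent.S1894

/-- Let P be a finite p-group, A a normal subgroup of P and B an abelian subgroup of A that is normal in P. Then some subgroup C of A containing B is normal in P and is self-centralizing and normal in A (C ∈ SCN(A)). -/
theorem result {P : Type*} [Group P] [Finite P] {p : ℕ} [Fact p.Prime] (hP : IsPGroup p P)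
    (A : Subgroup P) [A.Normal] (B : Subgroup P) [B.Normal] (hBA : B ≤ A) (hB : IsMulCommutative B) :
    ∃ C : Subgroup P, C.Normal ∧ B ≤ C ∧ Cfsg.IsSCN A C := by
  classical
  haveI : Fintype (Subgroup P) := Fintype.ofFinite _
  let s : Finset (Subgroup P) := Finset.univ.filter fun C => C.Normal ∧ IsMulCommutative C ∧ B ≤ C ∧ C ≤ A
  have hBs : B ∈ s := Finset.mem_filter.2 ⟨Finset.mem_univ _, inferInstance, hB, le_rfl, hBA⟩
  obtain ⟨C, hC, hmax⟩ := s.exists_maximal ⟨B, hBs⟩
  obtain ⟨-, hCn, hCc, hBC, hCA⟩ := Finset.mem_filter.1 hC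
  haveI := hCn
  have hCle : C ≤ Subgroup.centralizer (C : Set P) := Subgroup.le_centralizer_iff_isMulCommutative.2 hCc
  refine ⟨C, hCn, hBC, hCA, by rw [Subgroup.normalizer_eq_top_iff.2 hCn]; exact le_top, ?_⟩
  by_contra hne
  obtain ⟨x, hx, hxC, -, hxc⟩ := CfsgLib.PGroup.exists_step hP C (A ⊓ Subgroup.centralizer (C : Set P))
    (lt_of_le_of_ne (le_inf hCA hCle) (Ne.symm hne))
  have hn := CfsgLib.PGroup.sup_zpowers_normal hxc
  have hx' : Subgroup.zpowers x ≤ Subgroup.centralizer (C : Set P) := Subgroup.zpowers_le.2 hx.2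
  have hcomm : IsMulCommutative (C ⊔ Subgroup.zpowers x : Subgroup P) := by
    rw [← Subgroup.le_centralizer_iff_isMulCommutative]
    refine sup_le ?_ ?_
    · rw [Subgroup.le_centralizer_iff]
      exact sup_le hCle hx'
    · rw [Subgroup.le_centralizer_iff]
      refine sup_le ?_ (Subgroup.le_centralizer _)
      rw [Subgroup.le_centralizer_iff]
      exact hx'
  have hmem : C ⊔ Subgroup.zpowers x ∈ s := Finset.mem_filter.2 ⟨Finset.mem_univ _, hn, hcomm,
    hBC.trans le_sup_left, sup_le hCA (Subgroup.zpowers_le.2 hx.1)⟩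
  exact hxC (hmax hmem le_sup_left (Subgroup.mem_sup_right (Subgroup.mem_zpowers x)))

end Cfsg.Agent.S1894
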