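import Cfsg.Statements.S1895
import Cfsg.Agent.Lib.Balance.ChiefRankTwo
-- import your own Cfsg.Agent.* helpers here

set_option autoImplicit false
open Cfsg

namespace Cfsg.Agent.S1895

/-- Let p be an odd prime and G a finite p-solvable group with no elementary abelian subgroup of order p³. Then every chief factor H/K of G (H, K normal in G with no normal subgroup of G strictly between them) whose order is a power of p has order p or p². -/
theorem result {G : Type*} [Group G] [Finite G] {p : ℕ} [Fact p.Prime] (hp : p ≠ 2)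
    (hG : Cfsg.IsPSolvable p G) (hr : Cfsg.PRankLE p 2 G)
    (H K : Subgroup G) [H.Normal] [K.Normal] (hKH : K < H) (hpow : ∃ n : ℕ, K.relIndex H = p ^ n)
    (hchief : ∀ L : Subgroup G, L.Normal → K ≤ L → L ≤ H → L = K ∨ L = H) :
    K.relIndex H = p ∨ K.relIndex H = p ^ 2 := by
  classical
  obtain ⟨n, hn⟩ := hpow
  have hpp : p.Prime := Fact.out
  set N := Cfsg.pPrimeCore p G with hN
  haveI hNn : N.Normal := CfsgLib.Solvable.pPrimeCore_normal p G
  set f := QuotientGroup.mk' N with hf
  have hsurj : Function.Surjective f := QuotientGroup.mk'_surjective N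
  have hker : f.ker = N := QuotientGroup.ker_mk' N
  have hcop : (Nat.card f.ker).Coprime p := by rw [hker]; exact CfsgLib.PLoc.pPrimeCore_coprime p
  have hn0 : n ≠ 0 := fun h => hKH.not_ge (Subgroup.relIndex_eq_one.1 (by rw [hn, h, pow_zero]))
  have hHN : H ⊓ N ≤ K := by
    rcases hchief (K ⊔ (H ⊓ N)) inferInstance le_sup_left (sup_le hKH.le inf_le_left) with h | h
    · exact le_sup_right.trans h.le
    · exfalso
      have h1 : K.relIndex H = K.relIndex (H ⊓ N) := by
        conv_lhs => rw [← h, sup_comm, Subgroup.relIndex_sup_right]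
      have h2 : p ^ n ∣ Nat.card N :=
        hn ▸ h1 ▸ (Subgroup.relIndex_dvd_card K (H ⊓ N)).trans (Subgroup.card_dvd_of_le inf_le_right)
      have h3 : (Nat.card N).Coprime p := hker ▸ hcop
      exact hpp.not_dvd_one (Nat.Coprime.eq_one_of_dvd (h3.symm) ((dvd_pow_self p hn0).trans h2) ▸
        dvd_rfl)
  have hcomap : (K.map f).comap f ⊓ H = K := by
    refine le_antisymm ?_ (le_inf (Subgroup.le_comap_map f K) hKH.le)
    rintro x ⟨hx, hxH⟩
    obtain ⟨k, hk, hkx⟩ := hx
    have h1 : k⁻¹ * x ∈ H ⊓ N := Subgroup.mem_inf.2 ⟨H.mul_mem (H.inv_mem (hKH.le hk)) hxH, by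
      rw [← hker, MonoidHom.mem_ker, map_mul, map_inv, hkx, inv_mul_cancel]⟩
    simpa using mul_mem hk (hHN h1)
  have hrel : (K.map f).relIndex (H.map f) = p ^ n := by
    rw [← Subgroup.relIndex_comap, ← Subgroup.inf_relIndex_right, hcomap, hn]
  haveI : (H.map f).Normal := (inferInstance : H.Normal).map f hsurj
  haveI : (K.map f).Normal := (inferInstance : K.Normal).map f hsurj
  have hle := CfsgLib.ChiefRankTwo.relIndex_le_of_core_trivial hp
    (CfsgLib.PLoc.isPSolvable_of_surjective hsurj hG)
    (CfsgLib.OddOrder.pRankLE_of_coprime_ker hsurj hcop hr)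
    (CfsgLib.PLoc.pPrimeCore_quotient_eq_bot hsurj hker) (H.map f) (K.map f)
    (Subgroup.map_mono hKH.le) hrel fun L hL hKL hLH => by
      haveI := hL
      rcases hchief (L.comap f ⊓ H) inferInstance
        (le_inf (Subgroup.map_le_iff_le_comap.1 hKL) hKH.le) inf_le_right with h | h
      · left
        refine le_antisymm (fun q hq => ?_) hKL
        obtain ⟨x, hx, rfl⟩ := hLH hq
        exact ⟨x, h ▸ (⟨hq, hx⟩ : x ∈ L.comap f ⊓ H), rfl⟩
      · right
        exact le_antisymm hLH (Subgroup.map_le_iff_le_comap.2 fun x hx => (h.symm ▸ hx : x ∈ L.comap f ⊓ H).1)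
  rcases (show n = 1 ∨ n = 2 by omega) with h | h
  · exact Or.inl (by rw [hn, h, pow_one])
  · exact Or.inr (by rw [hn, h])

end Cfsg.Agent.S1895
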