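import Cfsg.Statements.S1897
import Cfsg.Agent.Lib.Balance.SevenInU33Hom
-- import your own Cfsg.Agent.* helpers here

set_option autoImplicit false
open Cfsg

namespace Cfsg.Agent.S1897

/-- The projective special unitary group PSU₃(3) (realised over the field with 9 elements) has a subgroup isomorphic to PSL₂(7). -/
theorem result {F : Type*} [Field F] [Fintype F] (hF : Fintype.card F = 9)
    {K : Type*} [Field K] [Fintype K] (hK : Fintype.card K = 7) :
    ∃ H : Subgroup (Cfsg.PSU 3 F 3), Nonempty (H ≃* Matrix.ProjectiveSpecialLinearGroup (Fin 2) K) := by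
  haveI : Fact (Nat.Prime 7) := ⟨by norm_num⟩
  haveI : CharP F 3 := by
    obtain ⟨p, hp⟩ := CharP.exists F
    haveI := hp
    obtain ⟨n, hpp, hn⟩ := FiniteField.card F p
    rw [hF] at hn
    have hd : p ∣ 3 ^ 2 := (hn ▸ dvd_pow_self p n.ne_zero : p ∣ 9)
    have : p = 3 := (Nat.prime_dvd_prime_iff_eq hpp Nat.prime_three).1 (hpp.dvd_of_dvd_pow hd)
    exact this ▸ hp
  obtain ⟨i, hi⟩ : ∃ i : F, i * i = -1 := by
    obtain ⟨i, hi⟩ := (FiniteField.isSquare_neg_one_iff (F := F)).2 (by rw [hF]; norm_num)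
    exact ⟨i, hi.symm⟩
  obtain ⟨φ, hφ⟩ := CfsgLib.SevenInU33.exists_embedding hi
  have e : ZMod 7 ≃+* K := ZMod.ringEquivOfPrime K (by norm_num) hK
  exact ⟨φ.range, ⟨(MonoidHom.ofInjective hφ).symm.trans (CfsgLib.Linear.pslRingEquiv e)⟩⟩

end Cfsg.Agent.S1897
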