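import Cfsg.Statements.S1898
import Mathlib.Tactic.Group
import Mathlib.Data.Nat.Factorization.Basic
-- import your own Cfsg.Agent.* helpers here

set_option autoImplicit false
open Cfsg
open scoped commutatorElement

namespace Cfsg.Agent.S1898

/-- Let X be a finite 2-group whose derived subgroup is elementary abelian and central. Then the subgroup generated by the elements of order dividing 4 has exponent dividing 4, and every automorphism of X fixing each element of order dividing 4 has 2-power order. -/
theorem result {X : Type*} [Group X] [Finite X] (hX : IsPGroup 2 X)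
    (hel : Cfsg.IsElementaryAbelian 2 (commutator X)) (hcen : commutator X ≤ Subgroup.center X) :
    (∀ x ∈ Subgroup.closure {g : X | g ^ 4 = 1}, x ^ 4 = 1) ∧
      ∀ φ : MulAut X, (∀ g : X, g ^ 4 = 1 → φ g = g) → ∃ k : ℕ, φ ^ (2 ^ k) = 1 := by
  have hX2 : ∀ a b : X, ⁅a, b⁆ ^ 2 = 1 := fun a b =>
    hel.2 _ (Subgroup.commutator_mem_commutator (Subgroup.mem_top a) (Subgroup.mem_top b))
  have hc : ∀ a b c : X, c * ⁅a, b⁆ = ⁅a, b⁆ * c := fun a b c =>
    Subgroup.mem_center_iff.1 (hcen (Subgroup.commutator_mem_commutator (Subgroup.mem_top a) (Subgroup.mem_top b))) c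
  have hmul4 : ∀ a b : X, (a * b) ^ 4 = a ^ 4 * b ^ 4 := by
    intro a b
    have hsq : ∀ u v : X, u ^ 2 * v = v * u ^ 2 := by
      intro u v
      have h1 : u * v = ⁅u, v⁆ * (v * u) := by rw [commutatorElement_def]; group
      have hK := hc u v
      have hK2 : ⁅u, v⁆ * ⁅u, v⁆ = 1 := by rw [← sq]; exact hX2 u v
      generalize ⁅u, v⁆ = K at h1 hK hK2
      calc u ^ 2 * v = u * (u * v) := by rw [sq, mul_assoc]
        _ = u * (K * (v * u)) := by rw [h1]
        _ = K * (u * v) * u := by rw [← mul_assoc, hK, mul_assoc, mul_assoc K, mul_assoc]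
        _ = K * (K * (v * u)) * u := by rw [h1]
        _ = v * u ^ 2 := by rw [← mul_assoc K K, hK2, one_mul, sq, mul_assoc]
    have h2 : (a * b) ^ 2 = a ^ 2 * b ^ 2 * ⁅a⁻¹, b⁆ := by
      rw [mul_assoc, hc a⁻¹ b (b ^ 2), commutatorElement_def, pow_two (a * b)]; group
    have hK := hc a⁻¹ b
    have hK2 := hX2 a⁻¹ b
    generalize ⁅a⁻¹, b⁆ = K at h2 hK hK2
    have e : ∀ u : X, u ^ 4 = (u ^ 2) ^ 2 := fun u => by rw [← pow_mul]
    rw [e, e a, e b, h2]
    have c1 : Commute (a ^ 2) (b ^ 2) := hsq a (b ^ 2)
    have c2 : Commute (a ^ 2 * b ^ 2) K := hK (a ^ 2 * b ^ 2)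
    rw [c2.mul_pow, c1.mul_pow, hK2, mul_one]
  refine ⟨fun x hx => ?_, fun φ hφ => ⟨(orderOf φ).factorization 2, ?_⟩⟩
  · refine Subgroup.closure_induction (p := fun y _ => y ^ 4 = 1) (fun y hy => hy) (one_pow 4)
      (fun u v _ _ hu hv => by rw [hmul4, hu, hv, mul_one]) (fun u _ hu => by rw [inv_pow, hu, inv_one]) hx
  · set ψ := φ ^ 2 ^ (orderOf φ).factorization 2 with hψ
    have hψf : ∀ g : X, g ^ 4 = 1 → ψ g = g := by
      intro g hg
      rw [hψ]
      generalize 2 ^ (orderOf φ).factorization 2 = j
      induction j with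
      | zero => rfl
      | succ j ih => rw [pow_succ, MulAut.mul_apply, hφ g hg, ih]
    have hodd : Odd (orderOf ψ) := by
      rw [hψ, orderOf_pow_of_dvd (pow_ne_zero _ (by norm_num)) (Nat.ordProj_dvd _ _)]
      rw [← Nat.not_even_iff_odd, even_iff_two_dvd]
      exact Nat.not_dvd_ordCompl Nat.prime_two (orderOf_pos φ).ne'
    ext x
    show ψ x = x
    induction h : orderOf x using Nat.strong_induction_on generalizing x with
    | _ n ih =>
      rcases eq_or_ne x 1 with rfl | hx1
      · simp
      · have hlt : orderOf (x ^ 2) < n := by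
          rw [orderOf_pow' x (by norm_num), ← h]
          obtain ⟨k, hk⟩ := IsPGroup.iff_orderOf.1 hX x
          have h2 : 2 ∣ orderOf x := by
            rcases k with _ | k
            · exact absurd (orderOf_eq_one_iff.1 (by simpa using hk)) hx1
            · exact hk ▸ dvd_pow_self 2 (by simp)
          rw [Nat.gcd_eq_right h2]
          exact Nat.div_lt_self (orderOf_pos x) (by norm_num)
        have hfix2 : ψ (x ^ 2) = x ^ 2 := ih _ hlt (x ^ 2) rfl
        set k := x⁻¹ * ψ x with hk
        have hk4 : k ^ 4 = 1 := by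
          rw [hk, hmul4, inv_pow, ← map_pow, show x ^ 4 = (x ^ 2) ^ 2 by rw [← pow_mul], map_pow, hfix2,
            inv_mul_cancel]
        have hψk : ψ k = k := hψf k hk4
        have hpow : ∀ j : ℕ, (ψ ^ j) x = x * k ^ j := by
          intro j
          induction j with
          | zero => simp
          | succ j ihj =>
            rw [pow_succ', MulAut.mul_apply, ihj, map_mul, map_pow, hψk, pow_succ', ← mul_assoc,
              show x * k = ψ x by rw [hk]; group]
        have h1 : k ^ orderOf ψ = 1 := by
          have := hpow (orderOf ψ)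
          rw [pow_orderOf_eq_one] at this
          simpa using this.symm
        have h3 : orderOf k ∣ 1 := by
          have hA : orderOf k ∣ orderOf ψ := orderOf_dvd_of_pow_eq_one h1
          have hB : orderOf k ∣ 4 := orderOf_dvd_of_pow_eq_one hk4
          have hcop : Nat.Coprime (orderOf ψ) 4 := by
            have := (Nat.coprime_two_right.2 hodd).pow_right 2
            simpa using this
          exact hcop ▸ Nat.dvd_gcd hA hB
        have hk1 : k = 1 := orderOf_eq_one_iff.1 (Nat.dvd_one.1 h3)
        exact (inv_mul_eq_one.1 hk1).symm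

end Cfsg.Agent.S1898
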