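import Cfsg.Statements.S1899
-- import your own Cfsg.Agent.* helpers here

set_option autoImplicit false
open Cfsg

namespace Cfsg.Agent.S1899

/-- Let a dihedral group of order 2n, n odd and n > 1, act on a finite abelian 2-group A through automorphisms d and t with d^n = 1, t² = 1 and t d t⁻¹ = d⁻¹, and suppose that d fixes only the identity. Then A is the internal direct product of C_A(t) and its image under d. -/
theorem result {A : Type*} [CommGroup A] [Finite A] (hA : IsPGroup 2 A)
    {n : ℕ} (hn : Odd n) (hn1 : 1 < n) (d t : MulAut A) (hd : d ^ n = 1) (ht : t ^ 2 = 1) (hdt : t * d * t⁻¹ = d⁻¹)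
    (hfix : ∀ a : A, d a = a → a = 1) :
    (MulEquiv.toMonoidHom t).eqLocus (MonoidHom.id A) ⊓ ((MulEquiv.toMonoidHom t).eqLocus (MonoidHom.id A)).map d.toMonoidHom = ⊥ ∧
      (MulEquiv.toMonoidHom t).eqLocus (MonoidHom.id A) ⊔ ((MulEquiv.toMonoidHom t).eqLocus (MonoidHom.id A)).map d.toMonoidHom = ⊤ := by
  set T := MulEquiv.toMonoidHom t with hT
  have hC : ∀ a, a ∈ T.eqLocus (MonoidHom.id A) ↔ t a = a := fun a => Iff.rfl
  have htd : ∀ a, t (d a) = d⁻¹ (t a) := by
    intro a
    have := congrArg (fun φ : MulAut A => φ (t a)) hdt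
    simp only [MulAut.mul_apply, MulAut.inv_apply_self] at this
    exact this
  have htd' : ∀ a, t (d⁻¹ a) = d (t a) := by
    intro a
    have h := htd (d⁻¹ a)
    rw [MulAut.apply_inv_self] at h
    rw [h, MulAut.apply_inv_self]
  have hdd : ∀ a, d (d a) = a → a = 1 := by
    intro a ha
    obtain ⟨k, rfl⟩ := hn
    refine hfix a ?_
    have hk : ∀ j : ℕ, (d ^ (2 * j)) a = a := by
      intro j
      induction j with
      | zero => simp
      | succ j ih => rw [show 2 * (j + 1) = 2 * j + 2 from rfl, pow_add, MulAut.mul_apply, sq, MulAut.mul_apply, ha, ih]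
    have h1 : (d ^ (2 * k + 1)) a = a := by rw [hd]; rfl
    rw [pow_succ', MulAut.mul_apply, hk] at h1
    exact h1
  constructor
  · rw [eq_bot_iff]
    rintro x ⟨hx, b, hb, rfl⟩
    replace hx : t (d b) = d b := hx
    replace hb : t b = b := hb
    simp only [MulEquiv.coe_toMonoidHom] at hx ⊢
    rw [htd, hb] at hx
    have : b = 1 := hdd b (by rw [← hx, MulAut.apply_inv_self])
    simp [this]
  · rw [eq_top_iff]
    intro x _
    let f : A →* A :=
      { toFun := fun a => d⁻¹ a / d a
        map_one' := by simp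
        map_mul' := fun a b => by simp only [map_mul, mul_div_mul_comm] }
    have hf : Function.Injective f := by
      rw [injective_iff_map_eq_one]
      intro a ha
      refine hdd a ?_
      have h1 : d⁻¹ a = d a := div_eq_one.1 ha
      rw [← h1, MulAut.apply_inv_self]
    obtain ⟨c, hc⟩ := (Finite.injective_iff_surjective.1 hf) (t x / x)
    change d⁻¹ c / d c = t x / x at hc
    have htt : ∀ a, t (t a) = a := fun a => by
      rw [← MulAut.mul_apply, ← sq, ht]; rfl
    have htc : t c = c := by
      apply hf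
      change d⁻¹ (t c) / d (t c) = d⁻¹ c / d c
      rw [← htd, ← htd', ← map_div, ← inv_div (d⁻¹ c), hc, map_inv, map_div, htt, inv_div]
    have h1 : x / d c ∈ T.eqLocus (MonoidHom.id A) := by
      rw [hC, map_div, htd, htc]
      calc t x / d⁻¹ c = (t x / x) * (x / d⁻¹ c) := (div_mul_div_cancel _ _ _).symm
        _ = (d⁻¹ c / d c) * (x / d⁻¹ c) := by rw [hc]
        _ = x / d c := by rw [mul_comm, div_mul_div_cancel]
    have h2 : x = x / d c * d c := (div_mul_cancel x _).symm
    rw [h2]
    exact Subgroup.mul_mem_sup h1 ⟨c, htc, rfl⟩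

end Cfsg.Agent.S1899
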