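import Cfsg.Statements.S1900
import Cfsg.Agent.Lib.Solvable.CoprimeGeneration
import Cfsg.Agent.Lib.Balance.Local
-- import your own Cfsg.Agent.* helpers here

set_option autoImplicit false
open Cfsg
open scoped commutatorElement

namespace Cfsg.Agent.S1900

/-- Let S = PQ be a finite group with P a normal Sylow p-subgroup and Q elementary abelian of order q², q a prime different from p. If exactly two subgroups X₁, X₂ of order q in Q have a nontrivial centralizer in P, then P is the internal direct product of C_P(X₁) and C_P(X₂): they commute elementwise, meet trivially and generate P. -/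
theorem result {S : Type*} [Group S] [Finite S] {p q : ℕ} [Fact p.Prime] [Fact q.Prime] (hpq : p ≠ q)
    (P : Sylow p S) [(P : Subgroup S).Normal] (Q : Subgroup S) (hQ : Cfsg.IsElementaryAbelian q Q) (hQc : Nat.card Q = q ^ 2)
    (hS : (P : Subgroup S) ⊔ Q = ⊤)
    (X₁ X₂ : Subgroup S) (h₁ : X₁ ≤ Q) (h₂ : X₂ ≤ Q) (h₁₂ : X₁ ≠ X₂) (hc₁ : Nat.card X₁ = q) (hc₂ : Nat.card X₂ = q)
    (hf₁ : (P : Subgroup S) ⊓ Subgroup.centralizer (X₁ : Set S) ≠ ⊥)
    (hf₂ : (P : Subgroup S) ⊓ Subgroup.centralizer (X₂ : Set S) ≠ ⊥)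
    (honly : ∀ X : Subgroup S, X ≤ Q → Nat.card X = q →
      (P : Subgroup S) ⊓ Subgroup.centralizer (X : Set S) ≠ ⊥ → X = X₁ ∨ X = X₂) :
    ⁅(P : Subgroup S) ⊓ Subgroup.centralizer (X₁ : Set S), (P : Subgroup S) ⊓ Subgroup.centralizer (X₂ : Set S)⁆ = ⊥ ∧
      ((P : Subgroup S) ⊓ Subgroup.centralizer (X₁ : Set S)) ⊓ ((P : Subgroup S) ⊓ Subgroup.centralizer (X₂ : Set S)) = ⊥ ∧
      ((P : Subgroup S) ⊓ Subgroup.centralizer (X₁ : Set S)) ⊔ ((P : Subgroup S) ⊓ Subgroup.centralizer (X₂ : Set S)) = P := by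
  classical
  have hp := (Fact.out : p.Prime)
  have hq := (Fact.out : q.Prime)
  haveI := hQ.1
  have hcomm : ∀ a ∈ Q, ∀ b ∈ Q, a * b = b * a := fun a ha b hb =>
    congrArg Subtype.val (hQ.1.is_comm.comm ⟨a, ha⟩ ⟨b, hb⟩)
  have hQC : Q ≤ Subgroup.centralizer (Q : Set S) := fun a ha => Subgroup.mem_centralizer_iff.2 fun b hb => hcomm b hb a ha
  -- any two distinct lines generate `Q`
  have hgen : ∀ X Y : Subgroup S, X ≤ Q → Y ≤ Q → Nat.card X = q → Nat.card Y = q → X ≠ Y → X ⊔ Y = Q := by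
    intro X Y hX hY hXc hYc hne
    obtain ⟨k, hk, hkc⟩ := (Nat.dvd_prime_pow hq).1 (hQc ▸ Subgroup.card_dvd_of_le (sup_le hX hY))
    refine Subgroup.eq_of_le_of_card_ge (sup_le hX hY) ?_
    rw [hQc]
    have h1 : X < X ⊔ Y := lt_of_le_of_ne le_sup_left fun h => hne (Subgroup.eq_of_le_of_card_ge
      (h.symm ▸ le_sup_right : Y ≤ X) (by rw [hXc, hYc])).symm
    have h2 : Nat.card X < Nat.card ↥(X ⊔ Y) :=
      lt_of_le_of_ne (Subgroup.card_le_of_le h1.le) fun h => h1.ne (Subgroup.eq_of_le_of_card_ge h1.le h.ge)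
    rw [hXc, hkc] at h2
    rw [hkc]
    have h3 : k = 2 := by
      rcases Nat.lt_or_ge k 2 with h | h
      · interval_cases k <;> simp at h2 <;> linarith [hq.one_lt]
      · omega
    rw [h3]
  have hline : ∀ a ∈ Q, a ≠ 1 → Nat.card ↥(Subgroup.zpowers a) = q := fun a ha ha1 => by
    rw [Nat.card_zpowers]; exact orderOf_eq_prime (hQ.2 a ha) ha1
  have hQp : IsPGroup q ↥Q := IsPGroup.of_card hQc
  set P0 := (P : Subgroup S) with hP0
  have hPp : IsPGroup p ↥P0 := P.2
  have hQN : ∀ V : Subgroup S, V.Normal → Q ≤ Subgroup.normalizer (V : Set S) := fun V hV => by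
    rw [Subgroup.normalizer_eq_top]; exact le_top
  have hcop : ∀ V : Subgroup S, IsPGroup p ↥V → ∀ A : Subgroup S, A ≤ Q → (Nat.card ↥A).Coprime (Nat.card ↥V) := by
    intro V hV A hA
    obtain ⟨i, hi⟩ := hV.exists_card_eq
    obtain ⟨j, hj⟩ := (hQp.to_le hA).exists_card_eq
    rw [hi, hj]
    exact (Nat.coprime_primes hq hp).2 (Ne.symm hpq) |>.pow j i
  -- no common fixed points
  have hfix : ∀ w ∈ P0, w ∈ Subgroup.centralizer (Q : Set S) → w = 1 := by
    intro w hw hwQ
    by_contra hw1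
    have hA : ∀ X : Subgroup S, X ≤ Q → Nat.card X = q → X = X₁ ∨ X = X₂ := fun X hX hXc =>
      honly X hX hXc fun h => hw1 (Subgroup.mem_bot.1 (h ▸ ⟨hw, Subgroup.centralizer_le hX hwQ⟩))
    obtain ⟨a, ha⟩ : ∃ a : S, a ∈ Q ∧ a ∉ (X₁ : Set S) ∪ X₂ := by
      by_contra hcon
      push Not at hcon
      have h2' : X₂ ≤ X₁ ∨ X₁ ≤ X₂ := by
        by_contra h'
        push Not at h'
        obtain ⟨⟨b, hb2, hb1⟩, ⟨a, ha1, ha2⟩⟩ :=
          And.intro (SetLike.not_le_iff_exists.1 h'.1) (SetLike.not_le_iff_exists.1 h'.2)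
        rcases hcon (a * b) (Q.mul_mem (h₁ ha1) (h₂ hb2)) with h | h
        · exact hb1 (by simpa using X₁.mul_mem (inv_mem ha1) h)
        · exact ha2 (by simpa using X₂.mul_mem h (inv_mem hb2))
      rcases h2' with h | h
      · exact h₁₂ (Subgroup.eq_of_le_of_card_ge h (by rw [hc₁, hc₂])).symm
      · exact h₁₂ (Subgroup.eq_of_le_of_card_ge h (by rw [hc₁, hc₂]))
    have ha1 : a ≠ 1 := fun h => ha.2 (Or.inl (h ▸ one_mem X₁))
    rcases hA (Subgroup.zpowers a) (Subgroup.zpowers_le.2 ha.1) (hline a ha.1 ha1) with h | h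
    · exact ha.2 (Or.inl (h ▸ Subgroup.mem_zpowers a))
    · exact ha.2 (Or.inr (h ▸ Subgroup.mem_zpowers a))
  have hQcyc : ¬ IsCyclic ↥Q := by
    intro hc
    obtain ⟨g, hg⟩ := IsCyclic.exists_generator (α := ↥Q)
    have h1 : orderOf g = Nat.card ↥Q := orderOf_eq_card_of_forall_mem_zpowers hg
    have h2 : Nat.card ↥Q ∣ q := h1 ▸ orderOf_dvd_of_pow_eq_one (Subtype.ext (hQ.2 g g.2))
    rw [hQc] at h2
    have := Nat.le_of_dvd hq.pos h2
    nlinarith [hq.one_lt]
  -- generation
  have hdec : ∀ V : Subgroup S, V.Normal → IsPGroup p ↥V → V ≤ P0 →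
      V ≤ (V ⊓ Subgroup.centralizer (X₁ : Set S)) ⊔ (V ⊓ Subgroup.centralizer (X₂ : Set S)) := by
    intro V hV hVp hVP
    refine CfsgLib.Solvable.le_of_centralizer_le hQcyc (hQN V hV) (hcop V hVp Q le_rfl) fun a ha ha1 v hv => ?_
    by_cases hv1 : v = 1
    · rw [hv1]; exact one_mem _
    have hvC : v ∈ Subgroup.centralizer ((Subgroup.zpowers a : Subgroup S) : Set S) := by
      rw [CfsgLib.Balance.centralizer_zpowers]; exact hv.2
    rcases honly (Subgroup.zpowers a) (Subgroup.zpowers_le.2 ha) (hline a ha ha1)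
      (fun h => hv1 (Subgroup.mem_bot.1 (h ▸ ⟨hVP hv.1, hvC⟩))) with h | h
    · exact Subgroup.mem_sup_left ⟨hv.1, h ▸ hvC⟩
    · exact Subgroup.mem_sup_right ⟨hv.1, h ▸ hvC⟩
  set C1 := P0 ⊓ Subgroup.centralizer (X₁ : Set S) with hC1
  set C2 := P0 ⊓ Subgroup.centralizer (X₂ : Set S) with hC2
  have hCn : ∀ X : Subgroup S, X ≤ Q → Q ≤ Subgroup.normalizer ((P0 ⊓ Subgroup.centralizer (X : Set S) : Subgroup S) : Set S) := by
    intro X hX a ha
    refine Subgroup.mem_normalizer_fintype fun c hc => ⟨(inferInstance : P0.Normal).conj_mem c hc.1 a, ?_⟩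
    show a * c * a⁻¹ ∈ Subgroup.centralizer (X : Set S)
    rw [Subgroup.mem_centralizer_iff]
    intro b hb
    have h1 : b * c = c * b := Subgroup.mem_centralizer_iff.1 hc.2 b hb
    have h2 : a * b = b * a := hcomm a ha b (hX hb)
    have h3 : a⁻¹ * b = b * a⁻¹ := hcomm _ (inv_mem ha) b (hX hb)
    calc b * (a * c * a⁻¹) = b * a * c * a⁻¹ := by group
      _ = a * (b * c) * a⁻¹ := by rw [← h2]; group
      _ = a * c * (b * a⁻¹) := by rw [h1]; group
      _ = a * c * a⁻¹ * b := by rw [← h3]; group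
  -- a component of the other kind
  have hcc : ∀ X Y : Subgroup S, X ≤ Q → Y ≤ Q → Nat.card X = q → Nat.card Y = q → X ≠ Y →
      ⁅P0 ⊓ Subgroup.centralizer (Y : Set S), X⁆ = P0 ⊓ Subgroup.centralizer (Y : Set S) := by
    intro X Y hX hY hXc hYc hne
    have h := CfsgLib.Solvable.commutator_sup_centralizer (hX.trans (hCn Y hY))
      (hcop _ (hPp.to_le inf_le_left) X hX) (Or.inl (Group.isSolvable_of_comm fun a b =>
        Subtype.ext (hcomm a (hX a.2) b (hX b.2))))
    have h0 : P0 ⊓ Subgroup.centralizer (Y : Set S) ⊓ Subgroup.centralizer (X : Set S) = ⊥ := by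
      rw [eq_bot_iff]
      intro w hw
      refine Subgroup.mem_bot.2 (hfix w hw.1.1 ?_)
      have hle : X ⊔ Y ≤ Subgroup.centralizer ({w} : Set S) := sup_le
        (fun b hb => Subgroup.mem_centralizer_singleton_iff.2 (Subgroup.mem_centralizer_iff.1 hw.2 b hb))
        (fun b hb => Subgroup.mem_centralizer_singleton_iff.2 (Subgroup.mem_centralizer_iff.1 hw.1.2 b hb))
      rw [hgen X Y hX hY hXc hYc hne] at hle
      exact Subgroup.mem_centralizer_iff.2 fun b hb => Subgroup.mem_centralizer_singleton_iff.1 (hle hb)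
    rwa [h0, sup_bot_eq] at h
  have key : ∀ k, ⁅C1, C2⁆ ≤ P0.lowerCentralSeries k := by
    intro k
    induction k with
    | zero => exact (Subgroup.commutator_mono inf_le_left inf_le_left).trans P0.commutator_le_self
    | succ k ih =>
      set Z := P0.lowerCentralSeries k with hZ
      set M := P0.lowerCentralSeries (k + 1) with hM
      have hnorm : ∀ j, (P0.lowerCentralSeries j).Normal := by
        intro j
        induction j with
        | zero => rw [Subgroup.lowerCentralSeries_zero]; infer_instance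
        | succ j ihj => rw [Subgroup.lowerCentralSeries_succ]; haveI := ihj; infer_instance
      haveI hZn : Z.Normal := hnorm k
      haveI hMn : M.Normal := hnorm (k + 1)
      have hle : ∀ j, P0.lowerCentralSeries j ≤ P0 := by
        intro j
        induction j with
        | zero => rw [Subgroup.lowerCentralSeries_zero]
        | succ j ihj =>
          rw [Subgroup.lowerCentralSeries_succ]
          exact (Subgroup.commutator_mono ihj le_rfl).trans P0.commutator_le_self
      have hMZ : M ≤ Z := by rw [hM, Subgroup.lowerCentralSeries_succ]; exact Subgroup.commutator_le_left _ _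
      set π := QuotientGroup.mk' M with hπ
      have hcen : ∀ z ∈ Z, ∀ w ∈ P0, Commute (π z) (π w) := fun z hz w hw => by
        rw [Commute, SemiconjBy, ← commutatorElement_eq_one_iff_mul_comm, ← map_commutatorElement]
        exact (QuotientGroup.eq_one_iff _).2 (by
          rw [hM, Subgroup.lowerCentralSeries_succ]; exact Subgroup.commutator_mem_commutator hz hw)
      -- commutators land in both sides
      have hhalf : ∀ X Y : Subgroup S, X ≤ Q → Y ≤ Q → Nat.card X = q → Nat.card Y = q → X ≠ Y →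
          Z ≤ (Z ⊓ Subgroup.centralizer (X : Set S)) ⊔ (Z ⊓ Subgroup.centralizer (Y : Set S)) →
          ∀ x ∈ P0 ⊓ Subgroup.centralizer (X : Set S), ∀ y ∈ P0 ⊓ Subgroup.centralizer (Y : Set S),
          (∀ y' ∈ P0 ⊓ Subgroup.centralizer (Y : Set S), ⁅x, y'⁆ ∈ Z) →
          π ⁅x, y⁆ ∈ (Z ⊓ Subgroup.centralizer (Y : Set S)).map π := by
        intro X Y hX hY hXc hYc hne hZd x hx y hy hxz
        set W := (Z ⊓ Subgroup.centralizer (Y : Set S)).map π with hW
        let T : Subgroup S :=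
          { carrier := {w | w ∈ P0 ⊓ Subgroup.centralizer (Y : Set S) ∧ π ⁅x, w⁆ ∈ W}
            one_mem' := ⟨one_mem _, by rw [commutatorElement_one_right, map_one]; exact one_mem _⟩
            mul_mem' := by
              rintro a b ⟨ha, ha'⟩ ⟨hb, hb'⟩
              refine ⟨mul_mem ha hb, ?_⟩
              have e : ⁅x, a * b⁆ = ⁅x, a⁆ * (a * ⁅x, b⁆ * a⁻¹) := by simp only [commutatorElement_def]; group
              rw [e, map_mul, map_mul, map_mul, map_inv, ← (hcen _ (hxz b hb) a ha.1).eq, mul_inv_cancel_right]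
              exact mul_mem ha' hb'
            inv_mem' := by
              rintro a ⟨ha, ha'⟩
              refine ⟨inv_mem ha, ?_⟩
              have e : ⁅x, a⁻¹⁆ = a⁻¹ * ⁅x, a⁆⁻¹ * a := by simp only [commutatorElement_def]; group
              rw [e, map_mul, map_mul, map_inv, map_inv]
              have hc := ((hcen _ (hxz a ha) a ha.1).inv_left).eq
              rw [mul_assoc, hc, inv_mul_cancel_left]
              exact inv_mem ha' }
        have hT : P0 ⊓ Subgroup.centralizer (Y : Set S) ≤ T := by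
          conv_lhs => rw [← hcc X Y hX hY hXc hYc hne]
          rw [Subgroup.commutator_le]
          intro w hw r hr
          have hrw : r * w⁻¹ * r⁻¹ ∈ P0 ⊓ Subgroup.centralizer (Y : Set S) :=
            (Subgroup.mem_normalizer_iff.1 (hCn Y hY (hX hr)) _).1 (inv_mem hw)
          refine ⟨?_, ?_⟩
          · rw [show ⁅w, r⁆ = w * (r * w⁻¹ * r⁻¹) by simp only [commutatorElement_def]; group]
            exact mul_mem hw hrw
          set z := ⁅x, w⁻¹⁆ with hz
          have hzZ : z ∈ Z := hxz _ (inv_mem hw)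
          have hxr : r * x = x * r := Subgroup.mem_centralizer_iff.1 hx.2 r hr
          have e0 : ⁅x, r * w⁻¹ * r⁻¹⁆ = r * z * r⁻¹ := by
            have hxr' : r * x * r⁻¹ = x := by rw [hxr, mul_inv_cancel_right]
            calc ⁅x, r * w⁻¹ * r⁻¹⁆ = ⁅r * x * r⁻¹, r * w⁻¹ * r⁻¹⁆ := by rw [hxr']
              _ = r * z * r⁻¹ := by simp only [hz, commutatorElement_def]; group
          have e : π ⁅x, ⁅w, r⁆⁆ = π z⁻¹ * π (r * z * r⁻¹) := by
            have e1 : ⁅x, ⁅w, r⁆⁆ = ⁅x, w⁆ * (w * ⁅x, r * w⁻¹ * r⁻¹⁆ * w⁻¹) := by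
              simp only [commutatorElement_def]; group
            have e2 : π ⁅x, w⁆ = π z⁻¹ := by
              have e3 : z⁻¹ = w⁻¹ * ⁅x, w⁆ * w := by simp only [hz, commutatorElement_def]; group
              rw [e3, map_mul, map_mul, mul_assoc, (hcen _ (hxz w hw) w hw.1).eq, map_inv, inv_mul_cancel_left]
            rw [e1, map_mul, map_mul, map_mul, map_inv π w, e0, e2,
              ← (hcen _ (hZn.conj_mem z hzZ r) w hw.1).eq, mul_inv_cancel_right]
          rw [e, ← map_mul]
          have hcom2 : (Z ⊓ Subgroup.centralizer (Y : Set S)).map π ≤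
              Subgroup.normalizer (((Z ⊓ Subgroup.centralizer (X : Set S)).map π : Subgroup _) : Set _) := by
            refine le_trans ?_ (Subgroup.centralizer_le_normalizer _)
            rintro _ ⟨c, hc, rfl⟩
            rw [Subgroup.mem_centralizer_iff]
            rintro _ ⟨d, hd, rfl⟩
            exact (hcen d hd.1 c (hle k hc.1)).eq
          have hz' : π z ∈ (Z ⊓ Subgroup.centralizer (X : Set S)).map π ⊔ (Z ⊓ Subgroup.centralizer (Y : Set S)).map π := by
            rw [← Subgroup.map_sup]; exact Subgroup.mem_map_of_mem π (hZd hzZ)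
          obtain ⟨_, ⟨a, ha, rfl⟩, _, ⟨b, hb, rfl⟩, hab⟩ := (CfsgLib.Solvable.mem_sup_of_le_normalizer hcom2).1 hz'
          refine ⟨⁅b⁻¹, r⁆, ⟨?_, ?_⟩, ?_⟩
          · show ⁅b⁻¹, r⁆ ∈ Z
            rw [show ⁅b⁻¹, r⁆ = b⁻¹ * (r * b * r⁻¹) by simp only [commutatorElement_def]; group]
            exact mul_mem (inv_mem hb.1) (hZn.conj_mem b hb.1 r)
          · show ⁅b⁻¹, r⁆ ∈ Subgroup.centralizer (Y : Set S)
            rw [show ⁅b⁻¹, r⁆ = b⁻¹ * (r * b * r⁻¹) by simp only [commutatorElement_def]; group]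
            refine mul_mem (inv_mem hb.2) ?_
            exact ((Subgroup.mem_normalizer_iff.1 (hCn Y hY (hX hr)) b).1 ⟨hle k hb.1, hb.2⟩).2
          · have hra : r * a * r⁻¹ = a := by
              rw [Subgroup.mem_centralizer_iff.1 ha.2 r hr, mul_inv_cancel_right]
            have hrz : π (r * z * r⁻¹) = π (r * a * r⁻¹) * π (r * b * r⁻¹) := by
              rw [← map_mul, show r * a * r⁻¹ * (r * b * r⁻¹) = r * (a * b) * r⁻¹ by group, map_mul, map_mul,
                map_mul, map_mul, map_mul, hab]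
            rw [map_mul, map_inv, hrz, ← hab, hra, mul_inv_rev, mul_assoc, inv_mul_cancel_left, ← map_inv, ← map_mul,
              show b⁻¹ * (r * b * r⁻¹) = ⁅b⁻¹, r⁆ by simp only [commutatorElement_def]; group]
        exact (hT hy).2
      have hZd := hdec Z hZn (hPp.to_le (hle k)) (hle k)
      have hxz : ∀ x ∈ C1, ∀ y ∈ C2, ⁅x, y⁆ ∈ Z := fun x hx y hy => ih (Subgroup.commutator_mem_commutator hx hy)
      rw [Subgroup.commutator_le]
      intro x hx y hy
      obtain ⟨c2, hc2', e2⟩ := hhalf X₁ X₂ h₁ h₂ hc₁ hc₂ h₁₂ hZd x hx y hy fun y' hy' => hxz x hx y' hy'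
      obtain ⟨c1, hc1', e1⟩ := hhalf X₂ X₁ h₂ h₁ hc₂ hc₁ h₁₂.symm (hZd.trans (le_of_eq (sup_comm _ _))) y hy x hx fun x' hx' => by
        rw [← commutatorElement_inv]; exact inv_mem (hxz x' hx' y hy)
      rw [← commutatorElement_inv, map_inv] at e1
      have e12 : π c2 = π c1⁻¹ := by rw [map_inv, e1, inv_inv, e2]
      have hfixm : ∀ r ∈ Q, c2⁻¹ * (r * c2 * r⁻¹) ∈ M := by
        intro r hr
        rw [← QuotientGroup.eq_one_iff (N := M)]
        show π (c2⁻¹ * (r * c2 * r⁻¹)) = 1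
        rw [← hgen X₁ X₂ h₁ h₂ hc₁ hc₂ h₁₂] at hr
        have hle2 : X₁ ⊔ X₂ ≤ (Subgroup.centralizer ({π c2} : Set (S ⧸ M))).comap π := by
          refine sup_le (fun b hb => ?_) (fun b hb => ?_)
          · rw [Subgroup.mem_comap, Subgroup.mem_centralizer_singleton_iff, e12, ← map_mul, ← map_mul,
              Subgroup.mem_centralizer_iff.1 (inv_mem hc1'.2) b hb]
          · rw [Subgroup.mem_comap, Subgroup.mem_centralizer_singleton_iff, ← map_mul, ← map_mul,
              Subgroup.mem_centralizer_iff.1 hc2'.2 b hb]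
        have hcr : π r * π c2 = π c2 * π r := Subgroup.mem_centralizer_singleton_iff.1 (hle2 hr)
        rw [map_mul, map_mul, map_mul, map_inv, map_inv, hcr, mul_inv_cancel_right, inv_mul_cancel]
      obtain ⟨d, hd, hcd⟩ := CfsgLib.Solvable.exists_fixed_mem_coset (A := Q) (K := Z) (D := M) (hQN Z hZn) hMZ
        (hQN M hMn) (hcop Z (hPp.to_le (hle k)) Q le_rfl)
        (Or.inl (Group.isSolvable_of_comm fun a b => hQ.1.is_comm.comm a b)) hc2'.1 hfixm
      have h1 := hfix _ (hle k hcd.1) hcd.2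
      rw [← QuotientGroup.eq_one_iff (N := M)]
      show π ⁅x, y⁆ = 1
      rw [← e2, eq_inv_of_mul_eq_one_left h1]
      exact (QuotientGroup.eq_one_iff _).2 (inv_mem hd)
  refine ⟨?_, ?_, ?_⟩
  · haveI : Group.IsNilpotent ↥P0 := hPp.isNilpotent
    obtain ⟨n, hn⟩ := (Subgroup.isNilpotent_iff_lowerCentralSeries P0).1 inferInstance
    exact le_bot_iff.1 (hn ▸ key n)
  · rw [eq_bot_iff]
    intro w hw
    refine Subgroup.mem_bot.2 (hfix w hw.1.1 ?_)
    have hle : X₁ ⊔ X₂ ≤ Subgroup.centralizer ({w} : Set S) := sup_le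
      (fun b hb => Subgroup.mem_centralizer_singleton_iff.2 (Subgroup.mem_centralizer_iff.1 hw.1.2 b hb))
      (fun b hb => Subgroup.mem_centralizer_singleton_iff.2 (Subgroup.mem_centralizer_iff.1 hw.2.2 b hb))
    rw [hgen X₁ X₂ h₁ h₂ hc₁ hc₂ h₁₂] at hle
    exact Subgroup.mem_centralizer_iff.2 fun b hb => Subgroup.mem_centralizer_singleton_iff.1 (hle hb)
  · exact le_antisymm (sup_le inf_le_left inf_le_left) (hdec P0 inferInstance hPp le_rfl)

end Cfsg.Agent.S1900
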