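import Cfsg.Statements.S1901
import Cfsg.Agent.Lib.Balance.Avoid
-- import your own Cfsg.Agent.* helpers here

set_option autoImplicit false
open Cfsg

namespace Cfsg.Agent.S1901

/-- Let G be a finite p-solvable group and Q a subgroup of order prime to p such that p divides the index of C_G(Q) in N_G(Q). Then Q normalizes no Sylow p-subgroup of G. -/
theorem result {G : Type*} [Group G] [Finite G] {p : ℕ} [Fact p.Prime]
    (hG : Cfsg.IsPSolvable p G) (Q : Subgroup G) (hQ : ¬ p ∣ Nat.card Q)
    (hA : p ∣ (Subgroup.centralizer (Q : Set G)).relIndex (Subgroup.normalizer (Q : Set G)))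
    (P : Sylow p G) : ¬ Q ≤ Subgroup.normalizer ((P : Subgroup G) : Set G) := by
  have hp := (Fact.out : p.Prime)
  intro hQP
  obtain ⟨S⟩ := (Sylow.nonempty : Nonempty (Sylow p ↥(Subgroup.normalizer (Q : Set G))))
  set C := (Subgroup.centralizer (Q : Set G)).subgroupOf (Subgroup.normalizer (Q : Set G)) with hC
  have hSC : ¬ (S : Subgroup ↥(Subgroup.normalizer (Q : Set G))) ≤ C := fun h =>
    S.not_dvd_index (hA.trans (Subgroup.index_dvd_of_le h))
  obtain ⟨a, haS, haC⟩ := SetLike.not_le_iff_exists.1 hSC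
  set A := (S : Subgroup ↥(Subgroup.normalizer (Q : Set G))).map (Subgroup.normalizer (Q : Set G)).subtype with hA'
  have hAp : IsPGroup p ↥A := S.2.map _
  have hAQ : A ≤ Subgroup.normalizer (Q : Set G) := Subgroup.map_subtype_le _
  have hQc : (Nat.card ↥Q).Coprime p := (hp.coprime_iff_not_dvd.2 hQ).symm
  have hcop : (Nat.card ↥A).Coprime (Nat.card ↥Q) := by
    obtain ⟨n, hn⟩ := hAp.exists_card_eq
    rw [hn]
    exact Nat.Coprime.pow_left n hQc.symm
  haveI : Group.IsNilpotent ↥A := hAp.isNilpotent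
  set Q1 := ⁅Q, A⁆ with hQ1
  have hle : Q1 ≤ Q := CfsgLib.Solvable.commutator_le_of_normalizes hAQ
  have hfix := CfsgLib.Solvable.commutator_commutator_eq hAQ hcop (Or.inl inferInstance)
  have hbot := CfsgLib.Balance.eq_bot_of_le_normalizer_sylow (Nat.card G) G le_rfl hG hAp
    (hQc.coprime_dvd_left (Subgroup.card_dvd_of_le hle))
    (Subgroup.normalizer_commutator_ge_right Q A) hfix P (hle.trans hQP)
  refine haC ?_
  show (a : G) ∈ Subgroup.centralizer (Q : Set G)
  exact CfsgLib.Components.le_centralizer_of_commutator_eq_bot (by rw [Subgroup.commutator_comm]; exact hbot)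
    (Subgroup.mem_map_of_mem _ haS)

end Cfsg.Agent.S1901
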