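import Cfsg.Statements.S1902
import Cfsg.Agent.Lib.Case.CoprimeConstrained
import Cfsg.Agent.Lib.Fusion.CriticalSmall
import Cfsg.Agent.Lib.PLocal.HallHigman
import Cfsg.Agent.Lib.Balance.Local
-- import your own Cfsg.Agent.* helpers here

set_option autoImplicit false
open Cfsg

namespace Cfsg.Agent.S1902

/-- Let p be an odd prime, G a finite p-solvable group, and B an elementary abelian subgroup of order p² such that B is the subgroup generated by the elements of order p of some Sylow p-subgroup of C_G(b₀), for some nontrivial b₀ ∈ B. Then every B-invariant subgroup of G of order prime to p lies in O_{p'}(G). -/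
theorem result {G : Type*} [Group G] [Finite G] {p : ℕ} [Fact p.Prime] (hp : p ≠ 2)
    (hG : Cfsg.IsPSolvable p G) (B : Subgroup G) (hB : Cfsg.IsElementaryAbelian p B) (hBc : Nat.card B = p ^ 2)
    (b₀ : G) (hb₀ : b₀ ∈ B) (hb₁ : b₀ ≠ 1) (P : Sylow p ↥(Subgroup.centralizer ({b₀} : Set G)))
    (hBP : B = Subgroup.closure {x : G | x ∈ ((P : Subgroup ↥(Subgroup.centralizer ({b₀} : Set G))).map
      (Subgroup.centralizer ({b₀} : Set G)).subtype : Subgroup G) ∧ orderOf x = p})
    (Q : Subgroup G) (hQ : ¬ p ∣ Nat.card Q) (hinv : ∀ b ∈ B, ∀ x ∈ Q, b * x * b⁻¹ ∈ Q) :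
    Q ≤ Cfsg.pPrimeCore p G := by
  classical
  have hodd : Odd p := (Fact.out : p.Prime).eq_two_or_odd'.resolve_left hp
  let C := Subgroup.centralizer ({b₀} : Set G)
  set f := QuotientGroup.mk' (Cfsg.pPrimeCore p G) with hf
  have hsurj : Function.Surjective f := QuotientGroup.mk'_surjective _
  have hker : f.ker = Cfsg.pPrimeCore p G := QuotientGroup.ker_mk' _
  have hcop : (Nat.card f.ker).Coprime p := by rw [hker]; exact CfsgLib.PLoc.pPrimeCore_coprime p
  have hBp : IsPGroup p B := IsPGroup.of_card hBc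
  have hcR := CfsgLib.PLoc.centralizer_pCore_le_self (CfsgLib.PLoc.isPSolvable_of_surjective hsurj hG)
    (CfsgLib.PLoc.pPrimeCore_quotient_eq_bot hsurj hker)
  set R := Cfsg.pCore p (G ⧸ Cfsg.pPrimeCore p G) with hRdef
  have hR : IsPGroup p R := CfsgLib.PLoc.pCore_pgroup p _
  haveI hRn : R.Normal := CfsgLib.Solvable.pCore_normal p _
  obtain ⟨D, hDchar, hDsmall, hDfaith⟩ := CfsgLib.Fusion.SmallFix.exists_small_characteristic hR
  haveI := hDchar
  set D' := D.map R.subtype with hD'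
  haveI hD'n : D'.Normal := inferInstance
  have hD'p : IsPGroup p D' := hR.to_le (Subgroup.map_subtype_le D)
  set K := Q.map f with hK
  have hKc : (Nat.card K).Coprime p :=
    ((Fact.out : p.Prime).coprime_iff_not_dvd.2 hQ).symm.coprime_dvd_left (Subgroup.card_map_dvd Q f)
  have hBK : B.map f ≤ Subgroup.normalizer (K : Set (G ⧸ Cfsg.pPrimeCore p G)) := by
    rintro _ ⟨b, hb, rfl⟩
    refine Subgroup.mem_normalizer_iff_map_conj_eq.2 (Subgroup.eq_of_le_of_card_ge ?_
      (le_of_eq (Subgroup.card_map_of_injective (MulAut.conj (f b)).injective).symm))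
    rintro _ ⟨_, ⟨x, hx, rfl⟩, rfl⟩
    exact ⟨b * x * b⁻¹, hinv b hb x hx, by simp⟩
  have hcomm : ∀ u ∈ B, u * b₀ = b₀ * u := fun u hu =>
    congrArg Subtype.val (hB.1.is_comm.comm ⟨u, hu⟩ ⟨b₀, hb₀⟩)
  have hBC : B ≤ C := fun u hu => Subgroup.mem_centralizer_singleton_iff.2 (hcomm u hu)
  -- every element of `D'` fixed by `b₀` comes from `B`
  have hfix : D' ⊓ Subgroup.centralizer (((Subgroup.zpowers b₀).map f : Subgroup _) :
      Set (G ⧸ Cfsg.pPrimeCore p G)) ≤ B.map f := by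
    rintro x ⟨hxD, hxC⟩
    rw [CfsgLib.PLoc.centralizer_map_eq hsurj hcop (hBp.to_le
      (Subgroup.zpowers_le.2 hb₀)), CfsgLib.Balance.centralizer_zpowers] at hxC
    set U := (D' ⊔ B.map f) ⊓ C.map f with hU
    have hUp : IsPGroup p U :=
      (IsPGroup.to_sup_of_normal_left hD'p (hBp.map f)).to_le inf_le_left
    have hxU : x ∈ U := ⟨Subgroup.mem_sup_left hxD, hxC⟩
    have hBU : B.map f ≤ U := le_inf le_sup_right (Subgroup.map_mono hBC)
    set V := U.comap f ⊓ C with hV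
    let g : ↥V →* ↥U := (f.comp V.subtype).codRestrict U fun v => v.2.1
    have hg : Function.Surjective g := by
      rintro ⟨y, hy⟩
      obtain ⟨c, hc, hfc⟩ := hy.2
      exact ⟨⟨c, by rw [hV]; exact ⟨show f c ∈ U from hfc ▸ hy, hc⟩⟩, Subtype.ext hfc⟩
    have hBV : B ≤ V := le_inf (Subgroup.map_le_iff_le_comap.1 hBU) hBC
    obtain ⟨S, hBS⟩ := (hBp.comap_of_injective V.subtype V.subtype_injective).exists_le_sylow
    have hgS : ((S : Subgroup ↥V).map g) = ⊤ :=
      ((S.mapSurjective hg).3 (hUp.of_equiv Subgroup.topEquiv.symm) le_top).symm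
    obtain ⟨⟨y, hyV⟩, hyS, hgy⟩ : ∃ s ∈ (S : Subgroup ↥V), g s = ⟨x, hxU⟩ := by
      rw [← Subgroup.mem_map, hgS]; trivial
    have hfy : f y = x := congrArg Subtype.val hgy
    set S' := (S : Subgroup ↥V).map V.subtype with hS'
    have hS'p : IsPGroup p S' := S.2.map _
    have hyS' : y ∈ S' := ⟨⟨y, hyV⟩, hyS, rfl⟩
    have hBS' : B ≤ S' := fun u hu => ⟨⟨u, hBV hu⟩, hBS hu, rfl⟩
    obtain ⟨T, hT⟩ := (hS'p.comap_of_injective C.subtype C.subtype_injective).exists_le_sylow
    obtain ⟨c, hc⟩ := MulAction.exists_smul_eq ↥C P T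
    have hTP : ∀ z ∈ S', ∃ hz : z ∈ C, z ∈ ((P : Subgroup ↥C).map C.subtype).map
        (MulAut.conj (c : G)).toMonoidHom := by
      rintro z hz
      have hzC : z ∈ C := by obtain ⟨v, -, rfl⟩ := hz; exact v.2.2
      refine ⟨hzC, ?_⟩
      have hzT : (⟨z, hzC⟩ : ↥C) ∈ (T : Subgroup ↥C) := hT hz
      rw [← hc, Sylow.coe_subgroup_smul, Subgroup.mem_smul_pointwise_iff_exists] at hzT
      obtain ⟨w, hw, hwz⟩ := hzT
      exact ⟨w, ⟨w, hw, rfl⟩, by simpa using congrArg Subtype.val hwz⟩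
    set Bc := B.map (MulAut.conj (c : G)).toMonoidHom with hBcdef
    have hmem : ∀ z ∈ S', orderOf z = p → z ∈ Bc := by
      intro z hz hzo
      obtain ⟨-, w, hw, rfl⟩ := hTP z hz
      refine Subgroup.mem_map_of_mem _ ?_
      rw [hBP]
      refine Subgroup.subset_closure ⟨hw, ?_⟩
      rw [← hzo]
      exact ((MulAut.conj (c : G)).orderOf_eq w).symm
    have hexp : ∀ z, z ^ p = 1 → z ∈ S' → z ∈ Bc := fun z hzp hz => by
      rcases eq_or_ne z 1 with rfl | hz1
      · exact one_mem _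
      · exact hmem z hz (orderOf_eq_prime hzp hz1)
    have hBB : B = Bc := by
      refine Subgroup.eq_of_le_of_card_ge (fun u hu => hexp u
        (by simpa using hB.2 u hu) (hBS' hu)) (le_of_eq ?_)
      exact (Subgroup.card_map_of_injective (MulAut.conj (c : G)).injective)
    have hxp : x ^ p = 1 := by
      obtain ⟨d, hd, rfl⟩ := hxD
      rcases hDsmall d hd with h | h
      · exact congrArg Subtype.val h
      · exact absurd h.1 hp
    have hyp : y ^ p = 1 := by
      have h1 : y ^ p ∈ S' ⊓ f.ker := ⟨pow_mem hyS' p, MonoidHom.mem_ker.2 (by rw [map_pow, hfy, hxp])⟩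
      rw [CfsgLib.PLoc.disjoint_of_pgroup_coprime hS'p hcop] at h1
      exact Subgroup.mem_bot.1 h1
    exact ⟨y, hBB ▸ hexp y hyp hyS', hfy⟩
  have hC0 : D' ⊓ Subgroup.centralizer (((Subgroup.zpowers b₀).map f : Subgroup _) :
      Set (G ⧸ Cfsg.pPrimeCore p G)) ≤ Subgroup.centralizer (K : Set (G ⧸ Cfsg.pPrimeCore p G)) := by
    intro y hy k hk
    have h1 : k * y * k⁻¹ * y⁻¹ ∈ D' ⊓ K := ⟨D'.mul_mem (hD'n.conj_mem y hy.1 k) (D'.inv_mem hy.1), by
      rw [mul_assoc, mul_assoc]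
      refine mul_mem hk ?_
      rw [← mul_assoc]
      exact (Subgroup.mem_normalizer_iff.1 (hBK (hfix hy)) _).1 (inv_mem hk)⟩
    rw [CfsgLib.PLoc.disjoint_of_pgroup_coprime hD'p hKc, Subgroup.mem_bot] at h1
    calc k * y = (k * y * k⁻¹ * y⁻¹) * (y * k) := by group
      _ = y * k := by rw [h1, one_mul]
  have hKD : K ≤ Subgroup.centralizer (D' : Set (G ⧸ Cfsg.pPrimeCore p G)) :=
    CfsgLib.Case.le_centralizer_of_odd hodd ((hBp.to_le (Subgroup.zpowers_le.2 hb₀)).map f) hKc hD'p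
      (Subgroup.normalizer_eq_top_iff.2 hD'n ▸ le_top) (Subgroup.normalizer_eq_top_iff.2 hD'n ▸ le_top)
      ((Subgroup.map_mono (Subgroup.zpowers_le.2 hb₀)).trans hBK) hC0
  have hKR : K ≤ R := by
    intro k hk
    refine hcR fun r hr => ?_
    have ha : (MulAut.conjNormal k : MulAut R) = 1 := by
      refine hDfaith _ ?_ fun d hd => Subtype.ext ?_
      · exact (hKc.coprime_dvd_left (K.orderOf_dvd_natCard hk)).coprime_dvd_left
          (orderOf_map_dvd MulAut.conjNormal k)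
      · rw [MulAut.conjNormal_apply, mul_inv_eq_iff_eq_mul]
        exact ((hKD hk) d ⟨d, hd, rfl⟩).symm
    have h := congrArg Subtype.val (DFunLike.congr_fun ha ⟨r, hr⟩)
    rw [MulAut.conjNormal_apply] at h
    simp only [MulAut.one_apply] at h
    exact (mul_inv_eq_iff_eq_mul.1 h).symm
  have hbot : K = ⊥ := by
    have h := CfsgLib.PLoc.disjoint_of_pgroup_coprime hR hKc
    rwa [inf_eq_right.2 hKR] at h
  rwa [hK, Subgroup.map_eq_bot_iff, hker] at hbot

end Cfsg.Agent.S1902
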