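import Cfsg.Statements.S1903
import Cfsg.Agent.Lib.U34Cent.Target

set_option autoImplicit false
open Cfsg

namespace Cfsg.Agent.S1903

/-- A finite group of order 320 whose derived subgroup has order 64 and has centre a Klein four-group is isomorphic to the centralizer of an involution in PSU₃(4). -/
theorem result {G : Type*} [Group G] [Finite G] (hG : Nat.card G = 320) (hD : Nat.card (commutator G) = 64)
    (hZ : IsKleinFour (Subgroup.center (commutator G)))
    {F : Type*} [Field F] [Fintype F] (hF : Fintype.card F = 16) :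
    ∃ t : Cfsg.PSU 3 F 4, orderOf t = 2 ∧ Nonempty (G ≃* Subgroup.centralizer ({t} : Set (Cfsg.PSU 3 F 4))) := by
  haveI : NeZero (3 : ℕ) := ⟨by norm_num⟩
  obtain ⟨s, hs, hU⟩ := CfsgLib.SylowU3.exists_frob (F := F) 2 (by rw [hF]; norm_num)
  obtain ⟨a, ha⟩ := hU.trace
  obtain ⟨t, c, x, ho, hgen, hW, hle, hc⟩ := CfsgLib.U34Cent.exists_gen_target hU ha hs (by norm_num)
  obtain ⟨e₀⟩ := CfsgLib.U34Cent.equiv_target hG hD hZ hgen hW hle hc
  let e₁ : ↥(Cfsg.SU 3 F (2 ^ 2)) ≃* ↥(CfsgLib.SylowU3.uK a (2 ^ 2)) :=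
    (MulAut.conj (CfsgLib.SylowU3.uB a)⁻¹).subgroupMap _
  have hcen : Subgroup.center ↥(Cfsg.SU 3 F 4) = ⊥ := Subgroup.card_eq_one.mp
    ((CfsgLib.Classical.Herm.card_center_su (F := F) (q := 4) (by rw [hF]; norm_num) (n := 3) le_rfl).trans
      (by norm_num))
  let e₂ : Cfsg.PSU 3 F 4 ≃* ↥(Cfsg.SU 3 F 4) :=
    (QuotientGroup.quotientMulEquivOfEq hcen).trans QuotientGroup.quotientBot
  let e : Cfsg.PSU 3 F 4 ≃* ↥(CfsgLib.SylowU3.uK a (2 ^ 2)) := e₂.trans e₁
  refine ⟨e.symm t, by rw [MulEquiv.orderOf_eq]; exact ho, ⟨e₀.trans ?_⟩⟩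
  refine (Subgroup.equivMapOfInjective (CfsgLib.U34Cent.involCent t) e.symm.toMonoidHom e.symm.injective).trans
    (MulEquiv.subgroupCongr ?_)
  ext g
  rw [Subgroup.mem_map_equiv, CfsgLib.U34Cent.involCent, Subgroup.mem_centralizer_singleton_iff,
      Subgroup.mem_centralizer_singleton_iff, MulEquiv.symm_symm, ← e.symm.injective.eq_iff, map_mul, map_mul,
      e.symm_apply_apply]

end Cfsg.Agent.S1903
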