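import Cfsg.Statements.S1905
import Cfsg.Agent.Lib.Balance.Fusion
-- import your own Cfsg.Agent.* helpers here

set_option autoImplicit false
open Cfsg

namespace Cfsg.Agent.S1905

/-- Let M be a subgroup of even order of a finite group S such that M contains the centralizer in S of each of its involutions and the normal core of M in S has odd order. Then all involutions of S are conjugate. If moreover N_S(X) ≤ M for a Sylow 2-subgroup X of M and I is an involution in the centre of X, then all involutions of M are conjugate in M and M = M₀ C_M(I) for some subgroup M₀ of M of odd order. -/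
theorem result {S : Type*} [Group S] [Finite S] (M : Subgroup S) (hM : Even (Nat.card M))
    (hC : ∀ i ∈ M, orderOf i = 2 → Subgroup.centralizer ({i} : Set S) ≤ M) (hcore : Odd (Nat.card M.normalCore)) :
    (∀ x y : S, orderOf x = 2 → orderOf y = 2 → IsConj x y) ∧
      ∀ (X : Sylow 2 M) (I : M), I ∈ (Subgroup.center ↥(X : Subgroup ↥M)).map (X : Subgroup ↥M).subtype → orderOf I = 2 →
        Subgroup.normalizer (((X : Subgroup M).map M.subtype : Subgroup S) : Set S) ≤ M →
        (∀ x y : M, orderOf x = 2 → orderOf y = 2 → IsConj x y) ∧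
          ∃ M₀ : Subgroup M, Odd (Nat.card M₀) ∧
            ∀ m : M, ∃ a ∈ M₀, ∃ c ∈ Subgroup.centralizer ({I} : Set M), m = a * c := by
  have h1 := CfsgLib.Balance.involutions_conj M hM hC hcore
  refine ⟨h1, fun X I _ hI hN => ?_⟩
  have hse : ∀ g t : S, orderOf t = 2 → t ∈ M → g⁻¹ * t * g ∈ M → g ∈ M := fun g t ht htM htg =>
    CfsgLib.Balance.mem_of_conj_involution M hC X hN ht htM htg
  refine ⟨fun x y hx hy => ?_, ?_⟩
  · obtain ⟨g, hg⟩ := isConj_iff.1 (h1 (x : S) (y : S) (by rw [Subgroup.orderOf_coe, hx]) (by rw [Subgroup.orderOf_coe, hy]))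
    have hgM : g ∈ M := hse g y (by rw [Subgroup.orderOf_coe, hy]) y.2 (by rw [← hg]; simp [mul_assoc])
    exact isConj_iff.2 ⟨⟨g, hgM⟩, Subtype.ext hg⟩
  · have hne : M ≠ ⊤ := by
      intro h
      subst h
      have htop : (⊤ : Subgroup S).normalCore = ⊤ := Subgroup.normalCore_eq_self _
      rw [htop] at hcore
      exact (Nat.not_even_iff_odd.2 hcore) hM
    obtain ⟨D, hDM, hDo, hD⟩ := CfsgLib.Balance.exists_odd_transitive M hne h1 hse
      (fun t ht htM c hc => hC t htM ht (Subgroup.mem_centralizer_singleton_iff.2 hc))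
      (I := (I : S)) (by rw [Subgroup.orderOf_coe, hI]) I.2
    refine ⟨D.subgroupOf M, by rw [Nat.card_congr (Subgroup.subgroupOfEquivOfLe hDM).toEquiv]; exact hDo, fun m => ?_⟩
    obtain ⟨a, ha, hac⟩ := hD m m.2
    refine ⟨⟨a, hDM ha⟩, ha, (⟨a, hDM ha⟩ : ↥M)⁻¹ * m, ?_, by group⟩
    exact Subgroup.mem_centralizer_singleton_iff.2 (Subtype.ext hac)

end Cfsg.Agent.S1905
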