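import Cfsg.Statements.S1906
import Cfsg.Agent.Lib.Balance.FullElementary
import Cfsg.Agent.Lib.Balance.CentralTransfer
import Cfsg.Agent.Lib.PGroup.Basic
-- import your own Cfsg.Agent.* helpers here

set_option autoImplicit false
open Cfsg

namespace Cfsg.Agent.S1906

/-- Let G be a finite group with no subgroup of index 2 whose Sylow 2-subgroup X embeds in GL₃(F) for a finite field F of odd order. If X contains an elementary abelian subgroup of order 8, then X is abelian. -/
theorem result {G : Type*} [Group G] [Finite G] (hG : ∀ H : Subgroup G, H.index ≠ 2) (X : Sylow 2 G)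
    {F : Type*} [Field F] [Fintype F] (hF : Odd (Fintype.card F))
    (f : ↥(X : Subgroup G) →* GL (Fin 3) F) (hf : Function.Injective f)
    (E : Subgroup G) (hE : E ≤ (X : Subgroup G)) (hEa : Cfsg.IsElementaryAbelian 2 E) (hE8 : Nat.card E = 8) :
    IsMulCommutative (X : Subgroup G) := by
  classical
  haveI : Fintype G := Fintype.ofFinite G
  have h2F : (2 : F) ≠ 0 := CfsgLib.TwoRank.two_ne_zero_of_odd_card hF
  let toEnd : GL (Fin 3) F →* Module.End F (Fin 3 → F) :=
    (Matrix.toLinAlgEquiv' (R := F) (n := Fin 3)).toRingEquiv.toMonoidHom.comp (Units.coeHom _)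
  have htoEnd : Function.Injective toEnd := fun a b h =>
    Units.ext ((Matrix.toLinAlgEquiv' (R := F) (n := Fin 3)).injective h)
  have hfr : Module.finrank F (Fin 3 → F) = 3 := Module.finrank_fin_fun F
  -- exponent two abelian subgroups
  have hbound : ∀ L : Subgroup (GL (Fin 3) F), IsMulCommutative L → (∀ a ∈ L, a * a = 1) →
      Nat.card L ≤ 8 ∧ (Nat.card L = 8 → ∀ x y : GL (Fin 3) F, (∀ a ∈ L, x * a = a * x) →
        (∀ a ∈ L, y * a = a * y) → x * y = y * x) := by
    intro L hL hexp
    letI : CommGroup L := { (inferInstance : Group L) with mul_comm := fun a b => hL.is_comm.comm a b }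
    have hexp' : ∀ e : L, e * e = 1 := fun e => Subtype.ext (hexp e e.2)
    have hinj : Function.Injective (toEnd.comp L.subtype) := htoEnd.comp L.subtype_injective
    refine ⟨(CfsgLib.TwoRank.card_le_aux 3 h2F hexp' (toEnd.comp L.subtype) hinj hfr).1.trans
      (by norm_num), fun hc x y hx hy => ?_⟩
    refine htoEnd (LinearMap.ext fun v => ?_)
    rw [map_mul, map_mul, Module.End.mul_apply, Module.End.mul_apply]
    have hcomm : ∀ z : GL (Fin 3) F, (∀ a ∈ L, z * a = a * z) → ∀ (e : L) w,
        toEnd z (toEnd e w) = toEnd e (toEnd z w) := fun z hz e w => by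
      rw [← Module.End.mul_apply, ← Module.End.mul_apply, ← map_mul, ← map_mul, hz e e.2]
    exact CfsgLib.FullElementary.commute_aux 3 h2F hexp' (toEnd.comp L.subtype) hinj hfr
      (hc.trans (by norm_num)) (toEnd x) (toEnd y) (hcomm x hx) (hcomm y hy) v
  let H : Subgroup G := (X : Subgroup G)
  let φ : ↥H →* Fˣ := (Matrix.GeneralLinearGroup.det).comp f
  set E' := E.subgroupOf H with hE'
  have hE'c : IsMulCommutative E' := ⟨⟨fun a b => Subtype.ext (Subtype.ext
    (show ((a : H) : G) * ((b : H) : G) = ((b : H) : G) * ((a : H) : G) from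
      congrArg Subtype.val (hEa.1.is_comm.comm (⟨((a : H) : G), a.2⟩ : E) ⟨((b : H) : G), b.2⟩)))⟩⟩
  have hE'8 : Nat.card (E'.map f) = 8 := by
    rw [Subgroup.card_map_of_injective hf, hE', Nat.card_congr (Subgroup.subgroupOfEquivOfLe hE).toEquiv, hE8]
  have hEexp : ∀ a ∈ E'.map f, a * a = 1 := by
    rintro _ ⟨a, ha, rfl⟩
    rw [← map_mul, show a * a = 1 from Subtype.ext (by rw [← sq]; exact hEa.2 (a : G) ha), map_one]
  haveI := hE'c
  have hEcomm : IsMulCommutative (E'.map f) := Subgroup.map_isMulCommutative E' f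
  -- `-1` lies in the image
  have hneg : (-1 : GL (Fin 3) F) ∈ E'.map f := by
    by_contra hn
    set L := Subgroup.closure (insert (-1 : GL (Fin 3) F) (E'.map f : Set (GL (Fin 3) F))) with hL
    have hLc : IsMulCommutative L := Subgroup.isMulCommutative_closure (by
      intro a ha b hb
      rcases ha with rfl | ha
      · simp
      rcases hb with rfl | hb
      · simp
      exact congrArg Subtype.val (hEcomm.is_comm.comm ⟨a, ha⟩ ⟨b, hb⟩))
    have hLe : ∀ a ∈ L, a * a = 1 := by
      intro a ha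
      induction ha using Subgroup.closure_induction with
      | mem c hc => rcases hc with rfl | hc; exacts [by simp, hEexp c hc]
      | one => exact one_mul 1
      | mul c d hc hd h1 h2 =>
        have hcd : c * d = d * c := congrArg Subtype.val (hLc.is_comm.comm ⟨c, hc⟩ ⟨d, hd⟩)
        calc c * d * (c * d) = c * (d * c) * d := by group
          _ = c * (c * d) * d := by rw [hcd]
          _ = c * c * (d * d) := by group
          _ = 1 := by rw [h1, h2, one_mul]
      | inv c hc h1 => rw [← mul_inv_rev, h1, inv_one]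
    have hlt : (E'.map f : Set (GL (Fin 3) F)) < (L : Set (GL (Fin 3) F)) :=
      lt_of_le_not_ge (fun a ha => Subgroup.subset_closure (Or.inr ha))
        fun h => hn (h (Subgroup.subset_closure (Or.inl rfl)))
    have h1 := Set.Finite.card_lt_card (Set.toFinite _) hlt
    simp only [SetLike.coe_sort_coe] at h1
    have h2 := (hbound L hLc hLe).1
    omega
  obtain ⟨r0, hr0E, hr0⟩ := hneg
  have hr0c : ∀ u : ↥H, u * r0 = r0 * u := fun u => hf (by rw [map_mul, map_mul, hr0]; simp)
  have hr0sq : r0 * r0 = 1 := hf (by rw [map_mul, map_one, hr0]; simp)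
  have hφr : φ r0 = -1 := by
    refine Units.ext ?_
    show ((Matrix.GeneralLinearGroup.det (f r0) : Fˣ) : F) = _
    rw [hr0, Matrix.GeneralLinearGroup.val_det_apply, Units.val_neg, Units.val_one, Units.val_neg,
      Units.val_one, Matrix.det_neg, Matrix.det_one, Fintype.card_fin]
    norm_num
  have hne : (-1 : Fˣ) ≠ 1 := fun h => h2F (by
    have h' : (-1 : F) = 1 := by simpa using congrArg Units.val h
    linear_combination -h')
  by_contra hab
  haveI := X.2.isNilpotent
  -- a central involution in the derived subgroup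
  have hcm : commutator ↥H ≠ ⊥ := fun h => hab ⟨⟨fun a b => by
    rw [← commutatorElement_eq_one_iff_mul_comm, ← Subgroup.mem_bot, ← h]
    exact Subgroup.commutator_mem_commutator (Subgroup.mem_top a) (Subgroup.mem_top b)⟩⟩
  obtain ⟨z, hzc, hzZ, hzo⟩ := CfsgLib.PGroup.exists_central_orderOf_eq X.2 (commutator ↥H) hcm
  have hφc : ∀ u ∈ commutator ↥H, φ u = 1 := fun u hu =>
    MonoidHom.mem_ker.1 (Abelianization.commutator_subset_ker φ hu)
  have hφz : φ z = 1 := hφc z hzc
  -- few central involutions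
  set Z1 := Subgroup.closure ({u : ↥H | u ∈ Subgroup.center ↥H ∧ u * u = 1}) with hZ1
  have hZ1c : Z1 ≤ Subgroup.center ↥H := (Subgroup.closure_le _).2 fun u hu => hu.1
  have hZ1e : ∀ u ∈ Z1, u * u = 1 := by
    intro u hu
    induction hu using Subgroup.closure_induction with
    | mem c hc => exact hc.2
    | one => exact one_mul 1
    | mul c d hc hd h1 h2 =>
      have hcd : c * d = d * c := Subgroup.mem_center_iff.1 (hZ1c hd) c
      calc c * d * (c * d) = c * (d * c) * d := by group
        _ = c * (c * d) * d := by rw [hcd]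
        _ = c * c * (d * d) := by group
        _ = 1 := by rw [h1, h2, one_mul]
    | inv c hc h1 => rw [← mul_inv_rev, h1, inv_one]
  have hZ1m : IsMulCommutative (Z1.map f) := by
    haveI : IsMulCommutative Z1 := ⟨⟨fun a b => Subtype.ext
      (Subgroup.mem_center_iff.1 (hZ1c b.2) a)⟩⟩
    exact Subgroup.map_isMulCommutative Z1 f
  have hZ1x : ∀ a ∈ Z1.map f, a * a = 1 := by
    rintro _ ⟨u, hu, rfl⟩
    rw [← map_mul, hZ1e u hu, map_one]
  have hcard : Nat.card Z1 < 8 := by
    obtain ⟨h1, h2⟩ := hbound _ hZ1m hZ1x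
    rw [Subgroup.card_map_of_injective hf] at h1 h2
    refine lt_of_le_of_ne h1 fun h => hab ⟨⟨fun a b => hf ?_⟩⟩
    rw [map_mul, map_mul]
    refine h2 h (f a) (f b) ?_ ?_ <;>
    · rintro _ ⟨u, hu, rfl⟩
      rw [← map_mul, ← map_mul, Subgroup.mem_center_iff.1 (hZ1c hu)]
  have hr0Z : r0 ∈ Z1 := Subgroup.subset_closure ⟨Subgroup.mem_center_iff.2 hr0c, hr0sq⟩
  have hz2 : z * z = 1 := by
    have h := pow_orderOf_eq_one z
    rwa [hzo, sq] at h
  have hzZ1 : z ∈ Z1 := Subgroup.subset_closure ⟨hzZ, hz2⟩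
  have hsmall : ∀ u ∈ Z1, φ u = 1 → u = 1 ∨ u = z := by
    intro u hu hφu
    by_contra hcon
    push Not at hcon
    have hz1 : z ≠ 1 := fun h => by rw [h, orderOf_one] at hzo; omega
    let S : Finset ↥H := {1, z, u, r0, z * r0, u * r0}
    have hS : ∀ v ∈ S, v ∈ Z1 := by
      intro v hv
      simp only [S, Finset.mem_insert, Finset.mem_singleton] at hv
      rcases hv with rfl | rfl | rfl | rfl | rfl | rfl
      exacts [one_mem _, hzZ1, hu, hr0Z, mul_mem hzZ1 hr0Z, mul_mem hu hr0Z]
    -- the kernel of `φ` on `Z1` has index two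
    let K : Subgroup ↥H := Z1 ⊓ φ.ker
    have hK : ∀ v ∈ Z1, v ∈ K ∨ v * r0 ∈ K := by
      intro v hv
      have h : φ v * φ v = 1 := by rw [← map_mul, hZ1e v hv, map_one]
      rcases (Units.inv_eq_self_iff (φ v)).1 (inv_eq_of_mul_eq_one_right h) with h | h
      · exact Or.inl (Subgroup.mem_inf.2 ⟨hv, MonoidHom.mem_ker.2 h⟩)
      · refine Or.inr (Subgroup.mem_inf.2 ⟨mul_mem hv hr0Z, MonoidHom.mem_ker.2 ?_⟩)
        rw [map_mul, h, hφr, neg_mul_neg, one_mul]
    have h4 : ∀ v ∈ ({1, z, u, z * u} : Finset ↥H), v ∈ K := by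
      intro v hv
      simp only [Finset.mem_insert, Finset.mem_singleton] at hv
      have hzK : z ∈ K := Subgroup.mem_inf.2 ⟨hzZ1, MonoidHom.mem_ker.2 hφz⟩
      have huK : u ∈ K := Subgroup.mem_inf.2 ⟨hu, MonoidHom.mem_ker.2 hφu⟩
      rcases hv with rfl | rfl | rfl | rfl
      exacts [one_mem _, hzK, huK, mul_mem hzK huK]
    let g : (↥K × Bool) → ↥Z1 := fun a => ⟨a.1 * (if a.2 then r0 else 1), mul_mem a.1.2.1
      (by split_ifs; exacts [hr0Z, one_mem _])⟩
    have hg : Function.Injective g := by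
      rintro ⟨⟨a, ha⟩, i⟩ ⟨⟨b, hb⟩, j⟩ he
      have he' : a * (if i then r0 else 1) = b * (if j then r0 else 1) := congrArg Subtype.val he
      have hφ' := congrArg φ he'
      rw [map_mul, map_mul, MonoidHom.mem_ker.1 ha.2, MonoidHom.mem_ker.1 hb.2, one_mul, one_mul] at hφ'
      cases i <;> cases j <;> simp [hφr, hne, Ne.symm hne] at hφ' <;> simp at he' <;>
        simp [he']
    have hK4 : 4 ≤ Nat.card K := by
      have hc4 : ({1, z, u, z * u} : Finset ↥H).card = 4 := by
        have hzu : z * u ≠ 1 := fun h => hcon.2 (by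
          rw [← inv_eq_of_mul_eq_one_right h, inv_eq_of_mul_eq_one_right hz2])
        have a1 : (1 : ↥H) ≠ z * u := Ne.symm hzu
        have a2 : z ≠ z * u := fun h => hcon.1 (left_eq_mul.1 h)
        have a3 : u ≠ z * u := fun h => hz1 (right_eq_mul.1 h)
        simp [Finset.card_insert_of_notMem, Ne.symm hz1, Ne.symm hcon.1, Ne.symm hcon.2, a1, a2, a3]
      rw [← hc4, Nat.card_eq_fintype_card]
      exact (Finset.card_le_card (t := Finset.univ.filter (· ∈ K))
        (fun v hv => Finset.mem_filter.2 ⟨Finset.mem_univ _, h4 v hv⟩)).trans_eq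
        (Fintype.card_subtype _).symm
    have := Nat.card_le_card_of_injective g hg
    rw [Nat.card_prod, Nat.card_eq_fintype_card (α := Bool), Fintype.card_bool] at this
    omega
  -- conjugates of `r0` under the normalizer
  have huniq : ∀ x : G, (∀ u ∈ H, x⁻¹ * u * x ∈ H) → ∀ h : x⁻¹ * (r0 : G) * x ∈ H,
      φ ⟨x⁻¹ * (r0 : G) * x, h⟩ = φ ⟨(r0 : G), r0.2⟩ := by
    intro x hx h
    set c : ↥H := ⟨x⁻¹ * (r0 : G) * x, h⟩ with hc
    have hmap : H.map (MulAut.conj x⁻¹).toMonoidHom = H := Subgroup.eq_of_le_of_card_ge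
      (by rintro _ ⟨u, hu, rfl⟩; simpa using hx u hu)
      (le_of_eq (Subgroup.card_map_of_injective (MulAut.conj x⁻¹).injective).symm)
    have hcZ : c ∈ Subgroup.center ↥H := by
      rw [Subgroup.mem_center_iff]
      intro v
      obtain ⟨w, hw, hwv⟩ : (v : G) ∈ H.map (MulAut.conj x⁻¹).toMonoidHom := hmap.symm ▸ v.2
      have h1 := congrArg Subtype.val (hr0c ⟨w, hw⟩)
      refine Subtype.ext ?_
      show (v : G) * (x⁻¹ * (r0 : G) * x) = x⁻¹ * (r0 : G) * x * v
      rw [← hwv]
      simp only [MulEquiv.coe_toMonoidHom, MulAut.conj_apply, inv_inv]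
      calc _ = x⁻¹ * (w * (r0 : G)) * x := by group
        _ = x⁻¹ * ((r0 : G) * w) * x := by
          rw [show w * (r0 : G) = (r0 : G) * w from h1]
        _ = _ := by group
    have hc2 : c * c = 1 := Subtype.ext (by
      show x⁻¹ * (r0 : G) * x * (x⁻¹ * (r0 : G) * x) = 1
      calc _ = x⁻¹ * ((r0 : G) * (r0 : G)) * x := by group
        _ = 1 := by
          rw [show (r0 : G) * (r0 : G) = 1 from congrArg Subtype.val hr0sq, mul_one, inv_mul_cancel])
    have hcZ1 : c ∈ Z1 := Subgroup.subset_closure ⟨hcZ, hc2⟩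
    rw [show (⟨(r0 : G), r0.2⟩ : ↥H) = r0 from rfl, hφr]
    have h1 : φ c * φ c = 1 := by rw [← map_mul, hc2, map_one]
    rcases (Units.inv_eq_self_iff (φ c)).1 (inv_eq_of_mul_eq_one_right h1) with h1 | h1
    swap
    · exact h1
    exfalso
    rcases hsmall c hcZ1 h1 with h3 | h3
    · have h4 : x⁻¹ * (r0 : G) * x = 1 := congrArg Subtype.val h3
      have : (r0 : G) = 1 := by
        have := congrArg (fun t => x * t * x⁻¹) h4
        simpa [mul_assoc] using this
      rw [show r0 = 1 from Subtype.ext this, map_one] at hφr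
      exact hne hφr.symm
    · have hz' : (z : G) ∈ ⁅H, H⁆ := by
        have := Subgroup.mem_map_of_mem H.subtype hzc
        rwa [Subgroup.map_subtype_commutator] at this
      have hmap' : ⁅H, H⁆.map (MulAut.conj x⁻¹).toMonoidHom = ⁅H, H⁆ := by
        rw [Subgroup.map_commutator, hmap]
      rw [← hmap', ← h3] at hz'
      obtain ⟨w, hw, hwc⟩ := hz'
      have hwr : w = (r0 : G) := (MulAut.conj x⁻¹).injective (hwc.trans (by simp [hc, MulAut.conj_apply]))
      rw [hwr, ← Subgroup.map_subtype_commutator] at hw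
      obtain ⟨w', hw', e⟩ := hw
      rw [show r0 = w' from (Subtype.ext e).symm, hφc w' hw'] at hφr
      exact hne hφr.symm
  have hV := CfsgLib.CentralTransfer.transfer_ne_one H X.2 X.not_dvd_index φ r0.2
    (congrArg Subtype.val hr0sq) (show φ r0 ≠ 1 by rw [hφr]; exact hne)
    (fun u hu => congrArg Subtype.val (hr0c ⟨u, hu⟩))
    (fun y hy => show y = 1 ∨ y = φ r0 by
      rw [hφr]; exact (Units.inv_eq_self_iff y).1 (inv_eq_of_mul_eq_one_right hy)) huniq
  set V := MonoidHom.transfer φ with hVdef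
  obtain ⟨⟨w, hw⟩, hgen⟩ := IsCyclic.exists_generator (α := V.range)
  have hev : 2 ∣ orderOf (⟨w, hw⟩ : V.range) := by
    rw [orderOf_eq_card_of_forall_mem_zpowers hgen]
    have h2 : orderOf (V (r0 : G)) = 2 := by
      refine orderOf_eq_prime ?_ hV
      rw [sq, ← map_mul, show (r0 : G) * (r0 : G) = 1 from congrArg Subtype.val hr0sq, map_one]
    have h3 := orderOf_dvd_natCard (⟨V r0, r0, rfl⟩ : V.range)
    rwa [← Subgroup.orderOf_coe, h2] at h3
  let K2 : Subgroup V.range := Subgroup.zpowers ((⟨w, hw⟩ : V.range) ^ 2)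
  have hK2 : K2.index = 2 := by
    have hm := K2.index_mul_card
    rw [Nat.card_zpowers, orderOf_pow' _ two_ne_zero, Nat.gcd_eq_right hev,
      ← orderOf_eq_card_of_forall_mem_zpowers hgen] at hm
    obtain ⟨m, hm'⟩ := hev
    rw [hm', Nat.mul_div_cancel_left _ (by norm_num : 0 < 2)] at hm
    have hmpos : 0 < m := Nat.pos_of_ne_zero fun h0 => by
      have := orderOf_pos (⟨w, hw⟩ : V.range)
      rw [hm', h0] at this; omega
    exact Nat.eq_of_mul_eq_mul_right hmpos hm
  refine hG (K2.comap V.rangeRestrict) ?_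
  rw [Subgroup.index_comap_of_surjective _ V.rangeRestrict_surjective, hK2]

end Cfsg.Agent.S1906
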