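import Cfsg.Statements.S1907
import Cfsg.Agent.Lib.Balance.Orbit
import Cfsg.Agent.Lib.PLocal.Constrained
-- import your own Cfsg.Agent.* helpers here

set_option autoImplicit false
open Cfsg

namespace Cfsg.Agent.S1907

/-- Let P be a Sylow p-subgroup of a finite group G, H = P ∩ O_{p',p}(G), N = N_G(H) and D = O_{p'}(G). (a) If y is an element of p-power order of N and d ∈ D with d⁻¹ y d ∈ N, then d = d₁ d₂ with d₁ ∈ C_D(y) and d₂ ∈ C_D(H). (b) Two elements of P that are conjugate in G are conjugate in N. -/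
theorem result {G : Type*} [Group G] [Finite G] {p : ℕ} [Fact p.Prime] (P : Sylow p G) :
    (∀ y ∈ Subgroup.normalizer (((P : Subgroup G) ⊓ Cfsg.pPrimePCore p G : Subgroup G) : Set G), (∃ k : ℕ, orderOf y = p ^ k) →
      ∀ d ∈ Cfsg.pPrimeCore p G, d⁻¹ * y * d ∈ Subgroup.normalizer (((P : Subgroup G) ⊓ Cfsg.pPrimePCore p G : Subgroup G) : Set G) →
        ∃ d₁ ∈ Cfsg.pPrimeCore p G ⊓ Subgroup.centralizer ({y} : Set G),
          ∃ d₂ ∈ Cfsg.pPrimeCore p G ⊓ Subgroup.centralizer (((P : Subgroup G) ⊓ Cfsg.pPrimePCore p G : Subgroup G) : Set G), d = d₁ * d₂) ∧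
    ∀ x y : G, x ∈ (P : Subgroup G) → y ∈ (P : Subgroup G) → IsConj x y →
      ∃ n ∈ Subgroup.normalizer (((P : Subgroup G) ⊓ Cfsg.pPrimePCore p G : Subgroup G) : Set G), n * x * n⁻¹ = y := by
  classical
  have hp := (Fact.out : p.Prime)
  set D := Cfsg.pPrimeCore p G with hD
  set O := Cfsg.pPrimePCore p G with hOdef
  set H := (P : Subgroup G) ⊓ O with hH
  set N := Subgroup.normalizer (H : Set G) with hN
  haveI hDn : D.Normal := Cfsg.pPrimeCore_normal p G
  have hDc : (Nat.card ↥D).Coprime p := CfsgLib.Components.coprime_card_pPrimeCore p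
  haveI hOn : O.Normal := by
    rw [hOdef, Cfsg.pPrimePCore]
    haveI := Cfsg.pCore_normal p (G ⧸ Cfsg.pPrimeCore p G)
    exact Subgroup.Normal.comap inferInstance _
  have hDO : D ≤ O := CfsgLib.PLoc.pPrimeCore_le_pPrimePCore
  have hHp : IsPGroup p ↥H := P.2.to_le inf_le_left
  have hOsup : O ≤ D ⊔ H := by
    intro x hx
    set π := QuotientGroup.mk' (Cfsg.pPrimeCore p G) with hπ
    have hcore : Cfsg.pCore p (G ⧸ Cfsg.pPrimeCore p G) ≤ (P : Subgroup G).map π := by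
      obtain ⟨Q, hQ⟩ := (CfsgLib.Components.isPGroup_pCore (G := G ⧸ Cfsg.pPrimeCore p G) p).exists_le_sylow
      obtain ⟨g, hg⟩ := MulAction.exists_smul_eq (G ⧸ Cfsg.pPrimeCore p G) Q
        (P.mapSurjective (f := π) (QuotientGroup.mk'_surjective _))
      intro y hy
      have h1 : g⁻¹ * y * g ∈ (Q : Subgroup (G ⧸ Cfsg.pPrimeCore p G)) := by
        have := (Cfsg.pCore_normal p (G ⧸ Cfsg.pPrimeCore p G)).conj_mem y hy g⁻¹
        rw [inv_inv] at this
        exact hQ this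
      have h2 : g * (g⁻¹ * y * g) * g⁻¹ ∈ (g • Q : Sylow p (G ⧸ Cfsg.pPrimeCore p G)).toSubgroup :=
        ⟨_, h1, rfl⟩
      rw [hg] at h2
      simpa [mul_assoc] using h2
    obtain ⟨y, hy, hyx⟩ := hcore (show π x ∈ _ from hx)
    have hd : y⁻¹ * x ∈ D := QuotientGroup.eq.1 hyx
    have hyO : y ∈ O := by
      have := mul_mem hx (inv_mem (hDO hd))
      simpa [mul_assoc] using this
    rw [← mul_inv_cancel_left y x, sup_comm]
    exact Subgroup.mul_mem_sup ⟨hy, hyO⟩ hd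
  have hidx : ¬ p ∣ (H.subgroupOf O).index := by
    intro h
    have h2 : Nat.card ↥(D ⊔ H) ∣ Nat.card ↥D * Nat.card ↥H := by
      rw [sup_comm, mul_comm]
      exact CfsgLib.Components.card_sup_dvd (le_top.trans (Subgroup.normalizer_eq_top (H := D)).ge)
    have h4 : H.relIndex O * Nat.card ↥H ∣ Nat.card ↥D * Nat.card ↥H := by
      refine dvd_trans ?_ h2
      refine dvd_trans (dvd_of_eq ?_) (Subgroup.card_dvd_of_le hOsup)
      rw [mul_comm, ← Subgroup.relIndex_bot_left H,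
        Subgroup.relIndex_mul_relIndex _ _ _ bot_le (inf_le_right : H ≤ O), Subgroup.relIndex_bot_left]
    exact hp.coprime_iff_not_dvd.1 hDc.symm
      (h.trans (Nat.dvd_of_mul_dvd_mul_right Nat.card_pos h4))
  have hHsub : IsPGroup p ↥(H.subgroupOf O) :=
    hHp.of_equiv (Subgroup.subgroupOfEquivOfLe (inf_le_right : H ≤ O)).symm
  have hfr : N ⊔ O = ⊤ := by
    have := Sylow.normalizer_sup_eq_top (hHsub.toSylow hidx)
    rwa [IsPGroup.toSylow_coe, Subgroup.map_subgroupOf_eq_of_le (inf_le_right : H ≤ O)] at this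
  have hPN : (P : Subgroup G) ≤ N := by
    intro g hg
    refine Subgroup.mem_normalizer_fintype fun x hx => ?_
    exact ⟨P.toSubgroup.mul_mem (P.toSubgroup.mul_mem hg hx.1) (inv_mem hg), hOn.conj_mem x hx.2 g⟩
  have hND : N ⊔ D = ⊤ := by
    rw [eq_top_iff, ← hfr]
    exact sup_le le_sup_left (hOsup.trans (sup_le le_sup_right (le_trans Subgroup.le_normalizer le_sup_left)))
  have hA : ∀ y ∈ N, (∃ k : ℕ, orderOf y = p ^ k) → ∀ d ∈ D, d⁻¹ * y * d ∈ N →
      ∃ d₁ ∈ D ⊓ Subgroup.centralizer ({y} : Set G),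
        ∃ d₂ ∈ D ⊓ Subgroup.centralizer (H : Set G), d = d₁ * d₂ := by
    intro y hy hyk d hd hyd
    obtain ⟨k, hk⟩ := hyk
    set D0 := D ⊓ N with hD0
    have hD0n : N ≤ Subgroup.normalizer (D0 : Set G) := fun g hg => Subgroup.mem_normalizer_fintype fun x hx =>
      ⟨hDn.conj_mem x hx.1 g, N.mul_mem (N.mul_mem hg hx.2) (inv_mem hg)⟩
    have hD0C : D0 ≤ Subgroup.centralizer (H : Set G) := by
      refine CfsgLib.Components.le_centralizer_of_commutator_eq_bot (le_bot_iff.1 ?_)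
      rw [← CfsgLib.PLoc.disjoint_of_pgroup_coprime hHp hDc]
      refine le_inf ?_ ((Subgroup.commutator_mono inf_le_left le_rfl).trans (Subgroup.commutator_le_left _ _))
      rw [Subgroup.commutator_comm]
      exact CfsgLib.Solvable.commutator_le_of_normalizes inf_le_right
    set Y := Subgroup.zpowers y with hYdef
    have hYn : Y ≤ Subgroup.normalizer (D0 : Set G) := (Subgroup.zpowers_le.2 hy).trans hD0n
    set W := Y ⊔ D0 with hWdef
    have hW : Nat.card ↥W ∣ Nat.card ↥Y * Nat.card ↥D0 := CfsgLib.Components.card_sup_dvd hYn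
    have hsyl : ∀ z : G, z ∈ W → orderOf z = p ^ k →
        IsPGroup p ↥((Subgroup.zpowers z).subgroupOf W) ∧ ¬ p ∣ ((Subgroup.zpowers z).subgroupOf W).index := by
      intro z hz hzk
      refine ⟨(IsPGroup.of_card (n := k) (by rw [Nat.card_zpowers, hzk])).of_equiv
        (Subgroup.subgroupOfEquivOfLe (Subgroup.zpowers_le.2 hz)).symm, fun h => ?_⟩
      have h4 : (Subgroup.zpowers z).relIndex W * Nat.card ↥Y ∣ Nat.card ↥D0 * Nat.card ↥Y := by
        rw [mul_comm (Nat.card ↥D0)]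
        refine dvd_trans (dvd_of_eq ?_) hW
        rw [hYdef, Nat.card_zpowers, hk, ← hzk, ← Nat.card_zpowers, mul_comm, ← Subgroup.relIndex_bot_left (Subgroup.zpowers z),
          Subgroup.relIndex_mul_relIndex _ _ _ bot_le (Subgroup.zpowers_le.2 hz), Subgroup.relIndex_bot_left]
      exact hp.coprime_iff_not_dvd.1 (hDc.coprime_dvd_left (Subgroup.card_dvd_of_le inf_le_left)).symm
        (h.trans (Nat.dvd_of_mul_dvd_mul_right Nat.card_pos h4))
    have hyW : y ∈ W := Subgroup.mem_sup_left (Subgroup.mem_zpowers y)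
    set y' := d⁻¹ * y * d with hy'
    have hyW' : y' ∈ W := by
      have : y' * y⁻¹ ∈ D0 := by
        refine ⟨?_, show y' * y⁻¹ ∈ N from mul_mem hyd (inv_mem hy)⟩
        show d⁻¹ * y * d * y⁻¹ ∈ D
        rw [show d⁻¹ * y * d * y⁻¹ = d⁻¹ * (y * d * y⁻¹) by group]
        exact mul_mem (inv_mem hd) (hDn.conj_mem d hd y)
      rw [← inv_mul_cancel_right y' y]
      exact mul_mem (Subgroup.mem_sup_right this) hyW
    have hk' : orderOf y' = p ^ k := by
      rw [← hk, hy']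
      exact orderOf_injective (MulAut.conj d).symm.toMonoidHom (MulAut.conj d).symm.injective y ▸ (by simp [mul_assoc])
    obtain ⟨hp1, hi1⟩ := hsyl y hyW hk
    obtain ⟨hp2, hi2⟩ := hsyl y' hyW' hk'
    obtain ⟨w, hw⟩ := MulAction.exists_smul_eq ↥W (hp2.toSylow hi2) (hp1.toSylow hi1)
    have hwy : (w : G) * y' * (w : G)⁻¹ ∈ Y := by
      have h1 : w * ⟨y', hyW'⟩ * w⁻¹ ∈ (w • hp2.toSylow hi2 : Sylow p ↥W).toSubgroup :=
        ⟨⟨y', hyW'⟩, Subgroup.mem_zpowers y', rfl⟩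
      rw [hw] at h1
      exact h1
    obtain ⟨n0, hn0, t, ht, hwd'⟩ := (CfsgLib.Solvable.mem_sup_of_le_normalizer hYn).1
      (show (w : G) ∈ D0 ⊔ Y from sup_comm Y D0 ▸ w.2)
    set d2 := t⁻¹ * n0 * t with hd2def
    have hd2 : d2 ∈ D0 := (Subgroup.mem_normalizer_iff''.1 (hYn ht) n0).1 hn0
    have hwd : (w : G) = t * d2 := by rw [← hwd', hd2def]; group
    have hd2y : d2 * y' * d2⁻¹ ∈ Y := by
      have h := mul_mem (mul_mem (inv_mem ht) hwy) ht
      rwa [hwd, show t⁻¹ * (t * d2 * y' * (t * d2)⁻¹) * t = d2 * y' * d2⁻¹ by group] at h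
    set e := d * d2⁻¹ with he
    have heD : e ∈ D := mul_mem hd (inv_mem hd2.1)
    have hcomm : e⁻¹ * y * e = y := by
      have h1 : e⁻¹ * y * e ∈ Y := by
        rw [he]; simpa [hy', mul_assoc] using hd2y
      have h2 : e⁻¹ * y * e * y⁻¹ ∈ Y ⊓ D := by
        refine ⟨show e⁻¹ * y * e * y⁻¹ ∈ Y from mul_mem h1 (inv_mem (Subgroup.mem_zpowers y)),
          show e⁻¹ * y * e * y⁻¹ ∈ D from ?_⟩
        rw [show e⁻¹ * y * e * y⁻¹ = e⁻¹ * (y * e * y⁻¹) by group]
        exact mul_mem (inv_mem heD) (hDn.conj_mem e heD y)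
      rw [CfsgLib.PLoc.disjoint_of_pgroup_coprime (IsPGroup.of_card (n := k) (by rw [hYdef, Nat.card_zpowers, hk])) hDc,
        Subgroup.mem_bot] at h2
      exact mul_inv_eq_one.1 h2
    refine ⟨e, ⟨heD, ?_⟩, d2, ⟨hd2.1, hD0C hd2⟩, by rw [he, inv_mul_cancel_right]⟩
    show e ∈ Subgroup.centralizer ({y} : Set G)
    rw [Subgroup.mem_centralizer_singleton_iff]
    calc e * y = e * (e⁻¹ * y * e) := by rw [hcomm]
      _ = y * e := by group
  refine ⟨hA, fun x y hx hy hxy => ?_⟩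
  obtain ⟨g, hg⟩ := isConj_iff.1 hxy
  have hgs : g ∈ D ⊔ N := by rw [sup_comm, hND]; exact Subgroup.mem_top g
  obtain ⟨d, hd, n, hn, rfl⟩ := Subgroup.mem_sup_of_normal_left.1 hgs
  have hyk : ∃ k, orderOf y = p ^ k := by
    obtain ⟨k, hk⟩ := IsPGroup.iff_orderOf.1 P.2 ⟨y, hy⟩
    exact ⟨k, by rwa [Subgroup.orderOf_mk] at hk⟩
  have hmem : d⁻¹ * y * d ∈ N := by
    rw [← hg, show d⁻¹ * (d * n * x * (d * n)⁻¹) * d = n * x * n⁻¹ by group]
    exact N.mul_mem (N.mul_mem hn (hPN hx)) (inv_mem hn)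
  obtain ⟨d1, hd1, d2, hd2, rfl⟩ := hA y (hPN hy) hyk d hd hmem
  refine ⟨d2 * n, mul_mem (Subgroup.centralizer_le_normalizer _ hd2.2) hn, ?_⟩
  have hc : d1 * y = y * d1 := Subgroup.mem_centralizer_singleton_iff.1 hd1.2
  calc d2 * n * x * (d2 * n)⁻¹ = d1⁻¹ * (d1 * d2 * n * x * (d1 * d2 * n)⁻¹) * d1 := by group
    _ = d1⁻¹ * (y * d1) := by rw [hg]; group
    _ = y := by rw [← hc]; group

end Cfsg.Agent.S1907
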