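import Cfsg.Statements.S1910
import Cfsg.Agent.Lib.Balance.Orbit
import Cfsg.Agent.Lib.Solvable.CoprimeAction
-- import your own Cfsg.Agent.* helpers here

set_option autoImplicit false
open Cfsg

namespace Cfsg.Agent.S1910

/-- Let Q be a tightly embedded subgroup of a finite group G, g an element outside N_G(Q), T a nontrivial Sylow 2-subgroup of Q^g ∩ N_G(Q), and S a Sylow 2-subgroup of QT containing T. Then T ∩ Q = 1, and N_S(T) is the direct product of T and N_S(T) ∩ Q, with N_S(T) ∩ Q isomorphic to T. -/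
theorem result {G : Type*} [Group G] [Finite G] (Q : Subgroup G) (hQ : Cfsg.IsTightlyEmbedded Q)
    (g : G) (hg : g ∉ Subgroup.normalizer (Q : Set G))
    (T : Subgroup G) (hT1 : T ≠ ⊥) (hT : T ≤ Q.map (MulAut.conj g).toMonoidHom ⊓ Subgroup.normalizer (Q : Set G))
    (hTsyl : IsPGroup 2 T ∧ ¬ 2 ∣ T.relIndex (Q.map (MulAut.conj g).toMonoidHom ⊓ Subgroup.normalizer (Q : Set G)))
    (S : Subgroup G) (hTS : T ≤ S) (hS : S ≤ Q ⊔ T) (hSsyl : IsPGroup 2 S ∧ ¬ 2 ∣ S.relIndex (Q ⊔ T)) :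
    T ⊓ Q = ⊥ ∧
      T ⊓ (S ⊓ Subgroup.normalizer (T : Set G) ⊓ Q) = ⊥ ∧
      ⁅T, S ⊓ Subgroup.normalizer (T : Set G) ⊓ Q⁆ = ⊥ ∧
      T ⊔ (S ⊓ Subgroup.normalizer (T : Set G) ⊓ Q) = S ⊓ Subgroup.normalizer (T : Set G) ∧
      Nonempty (↥(S ⊓ Subgroup.normalizer (T : Set G) ⊓ Q) ≃* T) := by
  classical
  obtain ⟨hTp, hTidx⟩ := hTsyl
  obtain ⟨hSp, hSidx⟩ := hSsyl
  set Qg := Q.map (MulAut.conj g).toMonoidHom with hQg
  set W := Qg ⊓ Subgroup.normalizer (Q : Set G) with hW
  have h2 : Fact (Nat.Prime 2) := ⟨Nat.prime_two⟩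
  have hmemQg : ∀ y : G, y ∈ Qg ↔ g⁻¹ * y * g ∈ Q := by
    intro y
    constructor
    · rintro ⟨q, hq, rfl⟩
      show g⁻¹ * (g * q * g⁻¹) * g ∈ Q
      simpa [mul_assoc] using hq
    · intro h
      exact ⟨_, h, by show g * (g⁻¹ * y * g) * g⁻¹ = y; group⟩
  have hTN : T ≤ Subgroup.normalizer (Q : Set G) := hT.trans inf_le_right
  have hTg : T ≤ Qg := hT.trans inf_le_left
  have hdvd : ∀ {X : Type _} [Group X] (A B : Subgroup X) [B.Normal] [Finite X], A.relIndex B ∣ A.index := by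
    intro X _ A B _ _
    obtain ⟨c, hc⟩ := Subgroup.relIndex_dvd_index_of_normal B A
    have e1 : (A ⊓ B).relIndex A * A.index = (A ⊓ B).index := Subgroup.relIndex_mul_index inf_le_left
    have e2 : (A ⊓ B).relIndex B * B.index = (A ⊓ B).index := Subgroup.relIndex_mul_index inf_le_right
    rw [Subgroup.inf_relIndex_left] at e1
    rw [Subgroup.inf_relIndex_right] at e2
    rw [hc] at e2
    refine ⟨c, Nat.eq_of_mul_eq_mul_left (Nat.pos_of_ne_zero Subgroup.index_ne_zero_of_finite : 0 < B.relIndex A) ?_⟩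
    rw [e1, ← e2]; ring
  -- an element in `Q` and in a conjugate of `Q`
  have htight : ∀ (x : G) (V : Subgroup G), IsPGroup 2 ↥V → V ≤ Q → V ≤ Q.map (MulAut.conj x).toMonoidHom →
      x ∉ Subgroup.normalizer (Q : Set G) → V = ⊥ := by
    intro x V hV h3 h4 hx
    obtain ⟨k, hk⟩ := hV.exists_card_eq
    refine Subgroup.eq_bot_of_card_le _ (le_of_eq ?_)
    have hodd : Odd (Nat.card ↥V) := Odd.of_dvd_nat (hQ.2 x hx) (Subgroup.card_dvd_of_le (le_inf h3 h4))
    rw [hk] at hodd ⊢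
    rcases k with _ | k
    · simp
    · exact absurd hodd (by simp [pow_succ, parity_simps])
  have hTQ : T ⊓ Q = ⊥ := htight g _ (hTp.to_le inf_le_left) inf_le_right (inf_le_left.trans hTg) hg
  set U := S ⊓ Subgroup.normalizer (T : Set G) ⊓ Q with hU
  have hTU : T ⊓ U = ⊥ := le_bot_iff.1 (hTQ ▸ inf_le_inf_left T inf_le_right)
  have hUT : U ≤ Subgroup.normalizer (T : Set G) := inf_le_left.trans inf_le_right
  have hTUn : T ≤ Subgroup.normalizer (U : Set G) := by
    intro t ht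
    refine Subgroup.mem_normalizer_fintype fun u hu => ?_
    exact ⟨⟨S.mul_mem (S.mul_mem (hTS ht) hu.1.1) (inv_mem (hTS ht)),
      (Subgroup.normalizer (T : Set G)).mul_mem ((Subgroup.normalizer (T : Set G)).mul_mem (Subgroup.le_normalizer ht) hu.1.2)
        (inv_mem (Subgroup.le_normalizer ht))⟩, (Subgroup.mem_normalizer_iff.1 (hTN ht) u).1 hu.2⟩
  have hcomm : ⁅T, U⁆ = ⊥ := by
    rw [eq_bot_iff, ← hTU]
    exact le_inf (CfsgLib.Solvable.commutator_le_of_normalizes hUT)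
      (by rw [Subgroup.commutator_comm]; exact CfsgLib.Solvable.commutator_le_of_normalizes hTUn)
  have hsup : T ⊔ U = S ⊓ Subgroup.normalizer (T : Set G) := by
    refine le_antisymm (sup_le (le_inf hTS Subgroup.le_normalizer) inf_le_left) ?_
    intro s hs
    obtain ⟨q, hq, t, ht, hqt⟩ := (CfsgLib.Solvable.mem_sup_of_le_normalizer hTN).1 (hS hs.1)
    have hqU : q ∈ U := by
      have hmem := (S ⊓ Subgroup.normalizer (T : Set G)).mul_mem hs
        (inv_mem (⟨hTS ht, Subgroup.le_normalizer ht⟩ : t ∈ S ⊓ Subgroup.normalizer (T : Set G)))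
      rw [← hqt, mul_inv_cancel_right] at hmem
      exact ⟨hmem, hq⟩
    rw [← hqt, sup_comm]
    exact Subgroup.mul_mem_sup hqU ht
  refine ⟨hTQ, hTU, hcomm, hsup, ?_⟩
  -- the decomposition `T × U`
  have hc : ∀ (t : T) (u : U), Commute (T.subtype t) (U.subtype u) := fun t u =>
    (Subgroup.mem_centralizer_iff.1 (CfsgLib.Components.le_centralizer_of_commutator_eq_bot hcomm t.2) u u.2).symm
  set f := T.subtype.noncommCoprod U.subtype hc with hf
  have hfinj : Function.Injective f := by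
    rw [injective_iff_map_eq_one]
    rintro ⟨t, u⟩ h
    replace h : (t : G) * u = 1 := h
    have h1 : (t : G) ∈ T ⊓ U := ⟨t.2, show (t : G) ∈ U by rw [eq_inv_of_mul_eq_one_left h]; exact inv_mem u.2⟩
    rw [hTU, Subgroup.mem_bot] at h1
    rw [h1, one_mul] at h
    exact Prod.ext (Subtype.ext h1) (Subtype.ext h)
  have hfsurj : ∀ y ∈ T ⊔ U, ∃ z, f z = y := by
    have : T ⊔ U ≤ f.range := sup_le (fun t ht => ⟨(⟨t, ht⟩, 1), by simp [hf]⟩) fun u hu => ⟨(1, ⟨u, hu⟩), by simp [hf]⟩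
    exact fun y hy => this hy
  let e : ↥T × ↥U ≃* ↥f.range := MonoidHom.ofInjective hfinj
  have hsupr : ∀ y ∈ T ⊔ U, y ∈ f.range := fun y hy => hfsurj y hy
  -- `U` normalizes the conjugate of `Q`
  obtain ⟨t0, ht0⟩ := exists_prime_orderOf_dvd_card' (G := ↥T) 2 (by
    obtain ⟨k, hk⟩ := hTp.exists_card_eq
    rw [hk]
    refine dvd_pow_self 2 fun h0 => hT1 (Subgroup.eq_bot_of_card_le _ (by rw [hk, h0, pow_zero])))
  have hnormQg : ∀ u : G, u * (t0 : G) * u⁻¹ ∈ Qg → u ∈ Subgroup.normalizer (Qg : Set G) := by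
    intro u hu
    have hx : g⁻¹ * u * g ∈ Subgroup.normalizer (Q : Set G) := by
      by_contra hx
      have hs : g⁻¹ * (u * (t0 : G) * u⁻¹) * g ∈ Q ⊓ Q.map (MulAut.conj (g⁻¹ * u * g)).toMonoidHom :=
        ⟨(hmemQg _).1 hu, ⟨_, (hmemQg _).1 (hTg t0.2), by
          show g⁻¹ * u * g * (g⁻¹ * (t0 : G) * g) * (g⁻¹ * u * g)⁻¹ = _; group⟩⟩
      have ho : orderOf (g⁻¹ * (u * (t0 : G) * u⁻¹) * g) = 2 := by
        rw [show g⁻¹ * (u * (t0 : G) * u⁻¹) * g = MulAut.conj (g⁻¹ * u) (t0 : G) by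
          rw [MulAut.conj_apply]; group, MulEquiv.orderOf_eq, Subgroup.orderOf_coe, ht0]
      have hd := Subgroup.orderOf_dvd_natCard _ hs
      rw [ho] at hd
      exact (Nat.not_even_iff_odd.2 (hQ.2 _ hx)) (even_iff_two_dvd.2 hd)
    rw [Subgroup.mem_normalizer_iff]
    intro y
    rw [hmemQg, hmemQg, show g⁻¹ * (u * y * u⁻¹) * g = g⁻¹ * u * g * (g⁻¹ * y * g) * (g⁻¹ * u * g)⁻¹ by group]
    exact Subgroup.mem_normalizer_iff.1 hx _
  have hUQg : U ≤ Subgroup.normalizer (Qg : Set G) := by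
    intro u hu
    refine hnormQg u ?_
    have := (hc t0 ⟨u, hu⟩).symm.eq
    simp only [Subgroup.coe_subtype] at this
    rw [this, mul_inv_cancel_right]
    exact hTg t0.2
  have hUp : IsPGroup 2 ↥U := hSp.to_le (inf_le_left.trans inf_le_left)
  -- a conjugate of `U` meeting `U` trivially bounds `U` by `T`
  have hbound : ∀ y : G, (∀ u ∈ U, y * u * y⁻¹ ∈ T ⊔ U) → (∀ u ∈ U, y * u * y⁻¹ ∈ U → u = 1) →
      Nat.card ↥U ≤ Nat.card ↥T := by
    intro y h1 h3
    let ψ : ↥U → ↥T := fun u => (e.symm ⟨y * u * y⁻¹, hsupr _ (h1 u u.2)⟩).1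
    refine Nat.card_le_card_of_injective ψ fun a b hab => ?_
    let π : ↥U →* ↥T := (MonoidHom.fst ↥T ↥U).comp (e.symm.toMonoidHom.comp
      (((MulAut.conj y).toMonoidHom.comp U.subtype).codRestrict f.range fun u => hsupr _ (h1 u u.2)))
    have hπ : Function.Injective π := by
      rw [injective_iff_map_eq_one]
      intro u hu
      obtain ⟨⟨t', u'⟩, he⟩ := hfsurj _ (h1 u u.2)
      have : e.symm ⟨y * u * y⁻¹, hsupr _ (h1 u u.2)⟩ = (t', u') := by
        rw [MulEquiv.symm_apply_eq]; exact Subtype.ext he.symm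
      have ht' : t' = 1 := by
        rw [← hu]; exact (congrArg Prod.fst this).symm
      refine Subtype.ext (h3 u u.2 ?_)
      rw [← he, ht']
      simp [hf]
    exact hπ hab
  have hUle : Nat.card ↥U ≤ Nat.card ↥T := by
    set Y := U ⊔ Qg with hY
    have hTUY : T ⊔ U ≤ Y := sup_le (hTg.trans le_sup_right) le_sup_left
    have hTUp : IsPGroup 2 ↥((T ⊔ U).subgroupOf Y) :=
      (CfsgLib.Components.isPGroup_sup hTp hUp hTUn).of_equiv (Subgroup.subgroupOfEquivOfLe hTUY).symm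
    obtain ⟨S', hS'⟩ := hTUp.exists_le_sylow
    set S'' := (S' : Subgroup ↥Y).map Y.subtype with hS''
    have hS''p : IsPGroup 2 ↥S'' := S'.2.map _
    have hTUS : T ⊔ U ≤ S'' := by
      rw [← Subgroup.map_subgroupOf_eq_of_le hTUY]; exact Subgroup.map_mono hS'
    set P := S'' ⊓ Qg with hP
    by_cases hPT : P = T
    · -- `T` is a Sylow subgroup of the conjugate of `Q`
      have hidx : ¬ 2 ∣ T.relIndex Qg := by
        have hn : (Qg.subgroupOf Y).Normal :=
          Subgroup.normal_subgroupOf_of_le_normalizer (sup_le hUQg Subgroup.le_normalizer)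
        rw [← hPT, hP, Subgroup.inf_relIndex_right]
        intro hd
        refine S'.not_dvd_index ?_
        have h5 : S''.subgroupOf Y = S' := Subgroup.comap_map_eq_self_of_injective Y.subtype_injective _
        rw [← h5]
        refine hd.trans ?_
        rw [← Subgroup.relIndex_subgroupOf (le_sup_right : Qg ≤ Y)]
        exact hdvd _ _
      obtain ⟨a, ha⟩ := hUp.exists_card_eq
      obtain ⟨b, hb⟩ := hTp.exists_card_eq
      rw [ha, hb]
      refine Nat.le_of_dvd (pow_pos two_pos b) ?_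
      refine (Nat.Coprime.dvd_of_dvd_mul_right (k := 2 ^ a) (m := 2 ^ b) (n := T.relIndex Qg) ?_ ?_)
      · exact Nat.Coprime.pow_left a ((Nat.prime_two.coprime_iff_not_dvd).2 hidx)
      · rw [← ha, ← hb, ← Subgroup.relIndex_bot_left T, Subgroup.relIndex_mul_relIndex _ _ _ bot_le hTg,
          Subgroup.relIndex_bot_left, hQg, Subgroup.card_map_of_injective (MulAut.conj g).injective]
        exact Subgroup.card_dvd_of_le inf_le_right
    · have hTP : T ≤ P := le_inf (le_sup_left.trans hTUS) hTg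
      have hlt : T < P := lt_of_le_of_ne hTP (Ne.symm hPT)
      have hUP : U ≤ Subgroup.normalizer (P : Set G) := fun u hu => Subgroup.mem_normalizer_fintype fun y hy =>
        ⟨S''.mul_mem (S''.mul_mem (hTUS (Subgroup.mem_sup_right hu)) hy.1) (inv_mem (hTUS (Subgroup.mem_sup_right hu))),
          (Subgroup.mem_normalizer_iff.1 (hUQg hu) y).1 hy.2⟩
      set M := U ⊔ P with hM
      have hMp : IsPGroup 2 ↥M :=
        hS''p.to_le (sup_le (le_sup_right.trans hTUS) inf_le_left)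
      haveI : Group.IsNilpotent ↥M := hMp.isNilpotent
      have hTUM : T ⊔ U ≤ M := sup_le (hTP.trans le_sup_right) le_sup_left
      have hne : (T ⊔ U).subgroupOf M < ⊤ := by
        rw [lt_top_iff_ne_top, ne_eq, Subgroup.subgroupOf_eq_top]
        intro h
        refine hPT (le_antisymm ?_ hTP)
        intro y hy
        obtain ⟨⟨t, u⟩, he⟩ := hfsurj y (h (Subgroup.mem_sup_right hy))
        replace he : (t : G) * u = y := he
        have hu : (u : G) ∈ Qg ⊓ Q := by
          refine ⟨?_, u.2.2⟩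
          show (u : G) ∈ Qg
          rw [show (u : G) = (t : G)⁻¹ * y by rw [← he]; group]
          exact mul_mem (inv_mem (hTg t.2)) hy.2
        have hu1 : (u : G) = 1 := by
          have h7 := htight g (Subgroup.zpowers (u : G)) (hUp.to_le (Subgroup.zpowers_le.2 u.2))
            (Subgroup.zpowers_le.2 hu.2) (Subgroup.zpowers_le.2 hu.1) hg
          exact Subgroup.zpowers_eq_bot.1 h7
        rw [← he, hu1, mul_one]
        exact t.2
      obtain ⟨⟨y, hyM⟩, hy1, hy2⟩ := SetLike.exists_of_lt (Group.normalizerCondition_of_isNilpotent _ hne)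
      rw [Subgroup.mem_subgroupOf] at hy2
      obtain ⟨p0, hp0, u0, hu0, hpu⟩ := (CfsgLib.Solvable.mem_sup_of_le_normalizer hUP).1
        (show y ∈ P ⊔ U by rwa [sup_comm])
      have hp0n : ∀ z ∈ T ⊔ U, p0 * z * p0⁻¹ ∈ T ⊔ U := by
        intro z hz
        have hz' : u0⁻¹ * z * u0 ∈ T ⊔ U :=
          mul_mem (mul_mem (inv_mem (Subgroup.mem_sup_right hu0)) hz) (Subgroup.mem_sup_right hu0)
        have := (Subgroup.mem_normalizer_iff.1 hy1 ⟨_, hTUM hz'⟩).1 hz'
        rw [Subgroup.mem_subgroupOf] at this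
        replace this : y * (u0⁻¹ * z * u0) * y⁻¹ ∈ T ⊔ U := this
        rw [← hpu] at this
        simpa [mul_assoc] using this
      have hp0T : p0 ∉ T := fun h => hy2 (hpu ▸ mul_mem (Subgroup.mem_sup_left h) (Subgroup.mem_sup_right hu0))
      have hp0N : p0 ∉ Subgroup.normalizer (Q : Set G) := by
        intro h
        have hle : T ⊔ Subgroup.zpowers p0 ≤ W :=
          sup_le hT (Subgroup.zpowers_le.2 ⟨hp0.2, h⟩)
        have hp2 : IsPGroup 2 ↥(T ⊔ Subgroup.zpowers p0) :=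
          hS''p.to_le (sup_le (le_sup_left.trans hTUS) (Subgroup.zpowers_le.2 hp0.1))
        obtain ⟨a, ha⟩ := (hp2.index ((T.subgroupOf (T ⊔ Subgroup.zpowers p0))))
        have h5 : T.relIndex (T ⊔ Subgroup.zpowers p0) ∣ T.relIndex W :=
          Dvd.intro _ (Subgroup.relIndex_mul_relIndex _ _ _ le_sup_left hle)
        change T.relIndex (T ⊔ Subgroup.zpowers p0) = 2 ^ a at ha
        rcases a with _ | a
        · rw [pow_zero, Subgroup.relIndex_eq_one] at ha
          exact hp0T (ha (Subgroup.mem_sup_right (Subgroup.mem_zpowers p0)))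
        · exact hTidx (((dvd_pow_self 2 (by omega)).trans ha.symm.dvd).trans h5)
      refine hbound p0 (fun u hu => hp0n u (Subgroup.mem_sup_right hu)) fun u hu hu' => ?_
      have h7 := htight p0 (Subgroup.zpowers (p0 * u * p0⁻¹)) (hUp.to_le (Subgroup.zpowers_le.2 hu'))
        (Subgroup.zpowers_le.2 hu'.2) (Subgroup.zpowers_le.2 ⟨u, hu.2, rfl⟩) hp0N
      have h8 := Subgroup.zpowers_eq_bot.1 h7
      exact conj_eq_one_iff.1 h8
  by_cases hST : S ⊓ Subgroup.normalizer (T : Set G) = S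
  · -- `U` is a Sylow subgroup of `Q`
    have hUS : S ⊓ Q ≤ U := le_inf (inf_le_left.trans hST.ge) inf_le_right
    have hUeq : U = S ⊓ Q := le_antisymm (le_inf (inf_le_left.trans inf_le_left) inf_le_right) hUS
    have hidxU : ¬ 2 ∣ U.relIndex Q := by
      intro hd
      rw [hUeq, Subgroup.inf_relIndex_right] at hd
      refine hSidx (hd.trans ?_)
      haveI : (Q.subgroupOf (Q ⊔ T)).Normal :=
        Subgroup.normal_subgroupOf_of_le_normalizer (sup_le Subgroup.le_normalizer hTN)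
      rw [← Subgroup.relIndex_subgroupOf (le_sup_left : Q ≤ Q ⊔ T)]
      exact hdvd _ _
    let P1 := (hUp.of_equiv (Subgroup.subgroupOfEquivOfLe (inf_le_right : U ≤ Q)).symm).toSylow hidxU
    let e1 : ↥T ≃* ↥(T.map (MulAut.conj g⁻¹).toMonoidHom) :=
      T.equivMapOfInjective _ (MulAut.conj g⁻¹).injective
    have hT'Q : T.map (MulAut.conj g⁻¹).toMonoidHom ≤ Q := by
      rintro _ ⟨t, ht, rfl⟩
      show g⁻¹ * t * g⁻¹⁻¹ ∈ Q
      rw [inv_inv]
      exact (hmemQg t).1 (hTg ht)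
    have hT'p : IsPGroup 2 ↥((T.map (MulAut.conj g⁻¹).toMonoidHom).subgroupOf Q) :=
      (hTp.map _).of_equiv (Subgroup.subgroupOfEquivOfLe hT'Q).symm
    obtain ⟨P2, hP2⟩ := hT'p.exists_le_sylow
    have hcard : Nat.card ↥T ≤ Nat.card ↥U ∧ Nat.card ↥P2 = Nat.card ↥U := by
      have h6 : Nat.card ↥P2 = Nat.card ↥P1 := (Sylow.card_eq_multiplicity P2).trans (Sylow.card_eq_multiplicity P1).symm
      have h7 : Nat.card ↥P1 = Nat.card ↥U :=
        Nat.card_congr (Subgroup.subgroupOfEquivOfLe (inf_le_right : U ≤ Q)).toEquiv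
      refine ⟨?_, h6.trans h7⟩
      refine le_trans ?_ (h6.trans h7).le
      rw [Nat.card_congr e1.toEquiv, ← Nat.card_congr (Subgroup.subgroupOfEquivOfLe hT'Q).toEquiv]
      exact Nat.le_of_dvd Nat.card_pos (Subgroup.card_dvd_of_le hP2)
    have heq : (T.map (MulAut.conj g⁻¹).toMonoidHom).subgroupOf Q = P2 := by
      refine Subgroup.eq_of_le_of_card_ge hP2 ?_
      rw [show Nat.card ↥(P2 : Subgroup ↥Q) = Nat.card ↥U from hcard.2, Nat.card_congr (Subgroup.subgroupOfEquivOfLe hT'Q).toEquiv, ← Nat.card_congr e1.toEquiv]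
      exact hUle
    exact ⟨(Subgroup.subgroupOfEquivOfLe (inf_le_right : U ≤ Q)).symm.trans ((P1.equiv P2).trans
      ((MulEquiv.subgroupCongr heq.symm).trans ((Subgroup.subgroupOfEquivOfLe hT'Q).trans e1.symm)))⟩
  · -- an element of `S` moving `T`
    haveI : Group.IsNilpotent ↥S := hSp.isNilpotent
    have hne : (S ⊓ Subgroup.normalizer (T : Set G)).subgroupOf S < ⊤ := by
      rw [lt_top_iff_ne_top, ne_eq, Subgroup.subgroupOf_eq_top]
      exact fun h => hST (le_antisymm inf_le_left h)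
    obtain ⟨⟨x, hxS⟩, hx1, hx2⟩ := SetLike.exists_of_lt (Group.normalizerCondition_of_isNilpotent _ hne)
    have hxn : ∀ t ∈ T, x * t * x⁻¹ ∈ T ⊔ U := by
      intro t ht
      rw [hsup]
      exact (Subgroup.mem_normalizer_iff.1 hx1 ⟨t, hTS ht⟩).1 ⟨hTS ht, Subgroup.le_normalizer ht⟩
    have hxQ : x ∈ Subgroup.normalizer (Q : Set G) := (hS.trans (sup_le Subgroup.le_normalizer hTN)) hxS
    let π : ↥T →* ↥U := (MonoidHom.snd ↥T ↥U).comp (e.symm.toMonoidHom.comp
      (((MulAut.conj x).toMonoidHom.comp T.subtype).codRestrict f.range fun t => hsupr _ (hxn t t.2)))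
    have hπ : Function.Injective π := by
      rw [injective_iff_map_eq_one]
      intro t ht
      obtain ⟨⟨t', u'⟩, he⟩ := hfsurj _ (hxn t t.2)
      have h9 : e.symm ⟨x * t * x⁻¹, hsupr _ (hxn t t.2)⟩ = (t', u') := by
        rw [MulEquiv.symm_apply_eq]; exact Subtype.ext he.symm
      have hu' : u' = 1 := by
        rw [← ht]; exact (congrArg Prod.snd h9).symm
      have hxt : x * (t : G) * x⁻¹ = (t' : G) := by rw [← he, hu']; simp [hf]
      by_contra hne'
      refine hx2 ⟨hxS, ?_⟩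
      show x ∈ Subgroup.normalizer (T : Set G)
      have hxQg : x ∈ Subgroup.normalizer (Qg : Set G) := by
        have hz : g⁻¹ * x * g ∈ Subgroup.normalizer (Q : Set G) := by
          by_contra hz
          have hmem : g⁻¹ * (x * (t : G) * x⁻¹) * g ∈ Q ⊓ Q.map (MulAut.conj (g⁻¹ * x * g)).toMonoidHom :=
            ⟨(hmemQg _).1 (hxt ▸ hTg t'.2), ⟨_, (hmemQg _).1 (hTg t.2), by
              show g⁻¹ * x * g * (g⁻¹ * (t : G) * g) * (g⁻¹ * x * g)⁻¹ = _; group⟩⟩
          have hd := Subgroup.orderOf_dvd_natCard _ hmem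
          rw [show g⁻¹ * (x * (t : G) * x⁻¹) * g = MulAut.conj (g⁻¹ * x) (t : G) by
            rw [MulAut.conj_apply]; group, MulEquiv.orderOf_eq, Subgroup.orderOf_coe] at hd
          obtain ⟨k, hk⟩ := IsPGroup.iff_orderOf.1 hTp t
          rcases k with _ | k
          · exact hne' (orderOf_eq_one_iff.1 (by rw [hk, pow_zero]))
          · rw [hk] at hd
            exact (Nat.not_even_iff_odd.2 (hQ.2 _ hz)) (even_iff_two_dvd.2 ((dvd_pow_self 2 (by omega)).trans hd))
        rw [Subgroup.mem_normalizer_iff]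
        intro y
        rw [hmemQg, hmemQg, show g⁻¹ * (x * y * x⁻¹) * g = g⁻¹ * x * g * (g⁻¹ * y * g) * (g⁻¹ * x * g)⁻¹ by group]
        exact Subgroup.mem_normalizer_iff.1 hz _
      refine Subgroup.mem_normalizer_fintype fun s hs => ?_
      obtain ⟨⟨a, b⟩, hab⟩ := hfsurj _ (hxn s hs)
      replace hab : (a : G) * b = x * s * x⁻¹ := hab
      have hbQ : (b : G) ∈ Qg := by
        rw [show (b : G) = (a : G)⁻¹ * (x * s * x⁻¹) by rw [← hab]; group]
        exact mul_mem (inv_mem (hTg a.2)) ((Subgroup.mem_normalizer_iff.1 hxQg s).1 (hTg hs))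
      have hb1 : (b : G) = 1 := Subgroup.zpowers_eq_bot.1 (htight g (Subgroup.zpowers (b : G))
        (hUp.to_le (Subgroup.zpowers_le.2 b.2)) (Subgroup.zpowers_le.2 b.2.2) (Subgroup.zpowers_le.2 hbQ) hg)
      rw [← hab, hb1, mul_one]
      exact a.2
    exact ⟨(MulEquiv.ofBijective π ((Nat.bijective_iff_injective_and_card π).2
      ⟨hπ, le_antisymm (Nat.card_le_card_of_injective π hπ) hUle⟩)).symm⟩

end Cfsg.Agent.S1910
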