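import Cfsg.Statements.S1915
import Cfsg.Agent.Lib.Components.Layer
import Cfsg.Agent.Lib.Invol.NormalFour
import Cfsg.Agent.Lib.PGroup.KulakoffTwo
import Cfsg.Agent.Lib.Fusion.ThompsonTransfer
import Cfsg.Agent.Lib.S4Free.Basic

set_option autoImplicit false
open Cfsg

namespace Cfsg.Agent.S1915

open Subgroup CfsgLib.S4Free
open scoped commutatorElement Pointwise

theorem exists_third {α : Type*} [Finite α] (h : 2 < Nat.card α) (a b : α) : ∃ c, c ≠ a ∧ c ≠ b := by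
  by_contra hcon
  push Not at hcon
  have hinj : Function.Injective (fun x : α => ({x | x = a} : Set α).indicator (fun _ => (1 : ℕ)) x) := by
    intro x y hxy
    by_cases hx : x = a <;> by_cases hy : y = a <;> simp [hx, hy] at hxy ⊢
    rw [hcon x hx, hcon y hy]
  have hle : Nat.card α ≤ 2 := by
    rw [← Nat.card_fin 2]
    refine Nat.card_le_card_of_injective
      (fun x : α => (⟨({x | x = a} : Set α).indicator (fun _ => (1 : ℕ)) x, by
        by_cases hx : x = a <;> simp [hx]⟩ : Fin 2)) fun x y e => hinj (congrArg Fin.val e)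
  omega

/-- If a four-group `U` acts on the `2`-group `T` so that no involution of `U` centralizes two commuting
involutions of `T`, and `T` has two commuting involutions, then `T` has a `U`-invariant cyclic subgroup
of index two and order at least four. -/
theorem exists_cyclic_index_two {P : Type*} [Group P] [Finite P] (hP : IsPGroup 2 P) (T : Subgroup P)
    [T.Normal] (U : Subgroup P) (hU4 : ∀ w z : P, (∀ g : P, g * z * g⁻¹ = z) →
      (∀ u ∈ U, u * w * u⁻¹ = w ∨ u * w * u⁻¹ = z * w) → ∃ u ∈ U, u ≠ 1 ∧ u * w * u⁻¹ = w)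
    (hR : ∀ u ∈ U, u ≠ 1 → ∀ x ∈ T, ∀ y ∈ T, x * x = 1 → y * y = 1 → x ≠ 1 → y ≠ 1 →
      Commute u x → Commute u y → Commute x y → x = y)
    (h2 : ∃ x ∈ T, ∃ y ∈ T, x * x = 1 ∧ y * y = 1 ∧ x ≠ 1 ∧ y ≠ 1 ∧ x ≠ y ∧ Commute x y) :
    ∃ (r : P) (k : ℕ), r ∈ T ∧ 2 ≤ k ∧ orderOf r = 2 ^ k ∧ (∀ g : P, g * r * g⁻¹ ∈ zpowers r) ∧
      (∀ t ∈ T, ∀ t' ∈ T, t ∉ zpowers r → t' ∉ zpowers r → t * t' ∈ zpowers r) ∧
      (∀ t ∈ T, t ∉ zpowers r → t * r ^ 2 ^ (k - 2) * t⁻¹ = (r ^ 2 ^ (k - 2))⁻¹) := by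
  classical
  haveI : Fact (Nat.Prime 2) := ⟨Nat.prime_two⟩
  have contra : ∀ (w z : P), w ∈ T → z ∈ T → w * w = 1 → z * z = 1 → w ≠ 1 → z ≠ 1 → w ≠ z →
      (∀ g : P, g * z * g⁻¹ = z) → (∀ g : P, g * w * g⁻¹ = w ∨ g * w * g⁻¹ = z * w) → False := by
    intro w z hw hz hw2 hz2 hw1 hz1 hne hzc hwc
    obtain ⟨u, hu, hu1, hfix⟩ := hU4 w z hzc (fun u _ => hwc u)
    refine hne (hR u hu hu1 w hw z hz hw2 hz2 hw1 hz1 (mul_inv_eq_iff_eq_mul.1 hfix)
      (mul_inv_eq_iff_eq_mul.1 (hzc u)) (mul_inv_eq_iff_eq_mul.1 (hzc w)))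
  -- a maximal normal abelian subgroup inside `T`
  obtain ⟨B, ⟨hBn, hBc, hBT⟩, hBmax⟩ := (Set.toFinite {A : Subgroup P | A.Normal ∧
    IsMulCommutative A ∧ A ≤ T}).exists_maximal ⟨⊥, inferInstance, inferInstance, bot_le⟩
  haveI := hBn
  have hBcom : ∀ a ∈ B, ∀ b ∈ B, a * b = b * a := fun a ha b hb => by
    haveI := hBc
    exact congrArg Subtype.val (mul_comm' (⟨a, ha⟩ : ↥B) ⟨b, hb⟩)
  have hBC : ∀ t ∈ T, (∀ b ∈ B, t * b = b * t) → t ∈ B := by
    intro t ht htc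
    by_contra htB
    haveI : (T ⊓ centralizer (B : Set P)).Normal := Subgroup.normal_inf_normal _ _
    obtain ⟨c, hc, hcB, hcomm⟩ := CfsgLib.Invol.exists_mem_commutator_le hP B (T ⊓ centralizer (B : Set P))
      (fun h => htB (h ⟨ht, mem_centralizer_iff.2 fun b hb => (htc b hb).symm⟩))
    have hcc : ∀ b ∈ B, c * b = b * c := fun b hb => (mem_centralizer_iff.1 hc.2 b hb).symm
    let B' : Subgroup P := B ⊔ zpowers c
    have hB'c : IsMulCommutative B' := by
      refine Subgroup.le_centralizer_iff_isMulCommutative.1 (sup_le ?_ ?_) <;> rw [le_centralizer_iff]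
      · refine sup_le (fun a ha => mem_centralizer_iff.2 fun b hb => hBcom b hb a ha)
          (zpowers_le.2 (mem_centralizer_iff.2 fun b hb => (hcc b hb).symm))
      · refine sup_le (fun a ha => mem_centralizer_iff.2 ?_) (zpowers_le.2 (mem_centralizer_iff.2 ?_))
        · rintro _ ⟨i, rfl⟩; exact (Commute.zpow_left (show Commute c a from hcc a ha) i).eq
        · rintro _ ⟨i, rfl⟩; exact ((Commute.refl c).zpow_left i).eq
    have hB'n : B'.Normal := by
      refine ⟨fun n hn g => ?_⟩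
      have hle : B' ≤ B'.comap (MulAut.conj g).toMonoidHom := by
        refine sup_le (fun a ha => mem_sup_left (hBn.conj_mem a ha g)) (zpowers_le.2 ?_)
        show g * c * g⁻¹ ∈ B'
        rw [← inv_mul_cancel_right (g * c * g⁻¹) c]
        exact mul_mem (mem_sup_left (hcomm g)) (mem_sup_right (mem_zpowers c))
      exact hle hn
    exact hcB (hBmax ⟨hB'n, hB'c, sup_le hBT (zpowers_le.2 hc.1)⟩ le_sup_left
      (mem_sup_right (mem_zpowers c)))
  -- it is cyclic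
  letI : CommGroup ↥B := { (inferInstance : Group ↥B) with mul_comm := hBc.1.1 }
  have hBcyc : IsCyclic ↥B := by
    refine CfsgLib.Kulakoff.isCyclic_of_comm_two (hP.to_subgroup B) ?_
    by_contra hgt
    let N : Subgroup P :=
      { carrier := {x | x ∈ B ∧ x * x = 1}
        one_mem' := ⟨one_mem B, mul_one 1⟩
        mul_mem' := fun {x y} hx hy => ⟨mul_mem hx.1 hy.1, by
          rw [mul_assoc, ← mul_assoc y, hBcom y hy.1 x hx.1, mul_assoc x, hy.2, mul_one, hx.2]⟩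
        inv_mem' := fun {x} hx => ⟨inv_mem hx.1, by rw [← mul_inv_rev, hx.2, inv_one]⟩ }
    haveI : N.Normal := ⟨fun x hx g => ⟨hBn.conj_mem x hx.1 g, by
      rw [show g * x * g⁻¹ * (g * x * g⁻¹) = g * (x * x) * g⁻¹ by group, hx.2, mul_one, mul_inv_cancel]⟩⟩
    have hcard : 2 < Nat.card N := by
      refine (not_le.1 hgt).trans_le (Nat.card_le_card_of_injective
        (fun x : {x : ↥B // x ^ 2 = 1} => (⟨(x : ↥B), (x : ↥B).2, by
          have := congrArg Subtype.val x.2; simpa [pow_two] using this⟩ : ↥N))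
        fun x y e => Subtype.ext (Subtype.ext (congrArg (fun w : ↥N => (w : P)) e)))
    obtain ⟨z, hzN, hzc, hz1⟩ := CfsgLib.Invol.exists_mem_center_ne_one hP N
      (fun h => by rw [h, Subgroup.card_bot] at hcard; omega)
    haveI : (zpowers z).Normal := ⟨fun n hn g => by
      rw [Subgroup.mem_center_iff.1 ((zpowers_le.2 hzc) hn) g, mul_inv_cancel_right]; exact hn⟩
    have hnle : ¬ N ≤ zpowers z := fun h => by
      have h1 := Subgroup.card_le_of_le h
      rw [Nat.card_zpowers] at h1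
      have h2 : orderOf z ≤ 2 := orderOf_le_of_pow_eq_one two_pos (by rw [pow_two]; exact hzN.2)
      omega
    obtain ⟨w, hwN, hwz, hwc⟩ := CfsgLib.Invol.exists_mem_commutator_le hP (zpowers z) N hnle
    refine contra w z (hBT hwN.1) (hBT hzN.1) hwN.2 hzN.2 (fun h => hwz (h ▸ one_mem _)) hz1
      (fun h => hwz (h ▸ mem_zpowers z))
      (fun g => by rw [Subgroup.mem_center_iff.1 hzc g, mul_inv_cancel_right]) fun g => ?_
    obtain ⟨i, hi⟩ := mem_zpowers_iff.1 (hwc g)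
    rcases Int.even_or_odd i with ⟨l, rfl⟩ | ⟨l, rfl⟩
    · left
      rw [zpow_add, ← (Commute.refl z).mul_zpow, hzN.2, one_zpow] at hi
      exact mul_inv_eq_one.1 hi.symm
    · right
      rw [zpow_add, two_mul, zpow_add, ← (Commute.refl z).mul_zpow, hzN.2, one_zpow, one_mul,
        zpow_one] at hi
      exact (mul_inv_eq_iff_eq_mul.1 hi.symm)
  obtain ⟨⟨r, hrB⟩, hr⟩ := hBcyc.exists_generator
  have hBr : B = zpowers r := le_antisymm (fun x hx => by
    obtain ⟨i, hi⟩ := mem_zpowers_iff.1 (hr ⟨x, hx⟩)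
    exact ⟨i, congrArg Subtype.val hi⟩) (zpowers_le.2 hrB)
  obtain ⟨k, hk⟩ := IsPGroup.iff_orderOf.1 hP r
  obtain ⟨x0, hx0, y0, hy0, hx2, hy2, hx1, hy1, hxy, hxyc⟩ := h2
  have hk2 : 2 ≤ k := by
    by_contra hlt
    have hle : ∀ g : P, g * r * g⁻¹ = r := by
      intro g
      obtain ⟨i, hi⟩ := mem_zpowers_iff.1 (hBr ▸ hBn.conj_mem r hrB g)
      rw [← hi]
      have hr2 : r * r = 1 := by
        rw [← pow_two]
        exact orderOf_dvd_iff_pow_eq_one.1
          (hk ▸ (pow_dvd_pow 2 (by omega : k ≤ 1)).trans (dvd_of_eq (pow_one 2)))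
      rcases Int.even_or_odd i with ⟨l, rfl⟩ | ⟨l, rfl⟩
      · rw [zpow_add, ← (Commute.refl r).mul_zpow, hr2, one_zpow] at hi ⊢
        have h1 : r = 1 := conj_eq_one_iff.1 hi.symm
        exact h1.symm
      · rw [zpow_add, two_mul, zpow_add, ← (Commute.refl r).mul_zpow, hr2, one_zpow, one_mul, zpow_one]
    have hTB : ∀ t ∈ T, t ∈ B := fun t ht => hBC t ht fun b hb => by
      rw [hBr] at hb
      obtain ⟨i, rfl⟩ := mem_zpowers_iff.1 hb
      exact (Commute.zpow_right (mul_inv_eq_iff_eq_mul.1 (hle t) : Commute t r) i).eq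
    have hz : ∀ x ∈ T, x * x = 1 → x ≠ 1 → x = r := by
      intro x hx _ hx1
      obtain ⟨i, rfl⟩ := mem_zpowers_iff.1 (hBr ▸ hTB x hx)
      have hr2 : r * r = 1 := by
        rw [← pow_two]
        exact orderOf_dvd_iff_pow_eq_one.1
          (hk ▸ (pow_dvd_pow 2 (by omega : k ≤ 1)).trans (dvd_of_eq (pow_one 2)))
      rcases Int.even_or_odd i with ⟨l, rfl⟩ | ⟨l, rfl⟩
      · exact absurd (by rw [zpow_add, ← (Commute.refl r).mul_zpow, hr2, one_zpow]) hx1
      · rw [zpow_add, two_mul, zpow_add, ← (Commute.refl r).mul_zpow, hr2, one_zpow, one_mul, zpow_one]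
    exact hxy ((hz x0 hx0 hx2 hx1).trans (hz y0 hy0 hy2 hy1).symm)
  set c0 := r ^ 2 ^ (k - 2) with hc0
  set z := r ^ 2 ^ (k - 1) with hz
  have hpow : ∀ n : ℤ, r ^ n = 1 ↔ (2 : ℤ) ^ k ∣ n := fun n => by
    rw [← orderOf_dvd_iff_zpow_eq_one, hk]; push_cast; rfl
  have e4 : (2 : ℤ) ^ k = 4 * 2 ^ (k - 2) := by
    rw [show (4 : ℤ) = 2 ^ 2 by norm_num, ← pow_add, show 2 + (k - 2) = k by omega]
  have e2 : (2 : ℤ) ^ (k - 1) = 2 * 2 ^ (k - 2) := by
    rw [← pow_succ', show k - 2 + 1 = k - 1 by omega]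
  have hq : (2 : ℤ) ^ (k - 2) ≠ 0 := pow_ne_zero _ two_ne_zero
  have hzr : z = r ^ (2 * 2 ^ (k - 2) : ℤ) := by
    rw [hz, ← zpow_natCast]; push_cast; rw [e2]
  have hc0r : c0 = r ^ (2 ^ (k - 2) : ℤ) := by
    rw [hc0, ← zpow_natCast]; push_cast; rfl
  have hconj : ∀ g : P, ∃ a : ℤ, g * r * g⁻¹ = r ^ a ∧ ∀ n : ℤ, g * r ^ n * g⁻¹ = r ^ (a * n) := by
    intro g
    obtain ⟨a, ha⟩ := mem_zpowers_iff.1 (hBr ▸ hBn.conj_mem r hrB g)
    exact ⟨a, ha.symm, fun n => by rw [← conj_zpow, ← ha, zpow_mul]⟩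
  have hodd : ∀ (g : P) (a : ℤ), g * r * g⁻¹ = r ^ a → a % 2 = 1 := by
    intro g a ha
    rcases Int.emod_two_eq_zero_or_one a with h | h
    · exfalso
      obtain ⟨l, rfl⟩ : (2 : ℤ) ∣ a := Int.dvd_of_emod_eq_zero h
      have h1 : r ^ (2 * 2 ^ (k - 2) : ℤ) = 1 := by
        refine (conj_eq_one_iff (a := g)).1 ?_
        rw [← conj_zpow, ha, ← zpow_mul, hpow, e4]
        exact ⟨l, by ring⟩
      rw [hpow, e4] at h1
      obtain ⟨j, hj⟩ := h1
      have : (1 : ℤ) = 2 * j := mul_left_cancel₀ (mul_ne_zero two_ne_zero hq) (by linear_combination hj)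
      omega
    · exact h
  have hzc : ∀ g : P, g * z * g⁻¹ = z := by
    intro g
    obtain ⟨a, ha, han⟩ := hconj g
    obtain ⟨l, hl⟩ : ∃ l, a = 2 * l + 1 := ⟨a / 2, by have := hodd g a ha; omega⟩
    rw [hzr, han, ← mul_inv_eq_one, ← zpow_neg, ← zpow_add, hpow, e4]
    exact ⟨l, by rw [hl]; ring⟩
  -- the centralizer of `c0` in `T` is `B`
  have hT1 : ∀ t ∈ T, t * c0 * t⁻¹ = c0 → t ∈ B := by
    intro t0 ht0 hfix0
    by_contra htB
    obtain ⟨x, hxT, hxB, hxsq, hxc⟩ : ∃ x ∈ T, x ∉ B ∧ x * x ∈ B ∧ x * c0 * x⁻¹ = c0 := by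
      obtain ⟨n, hn⟩ := hP t0
      have hex : ∃ m, t0 ^ 2 ^ m ∈ B := ⟨n, hn ▸ one_mem B⟩
      have hm0 : Nat.find hex ≠ 0 := fun h => htB (by simpa [h] using Nat.find_spec hex)
      refine ⟨t0 ^ 2 ^ (Nat.find hex - 1), pow_mem ht0 _, Nat.find_min hex (by omega), ?_, ?_⟩
      · rw [← pow_add, ← two_mul, ← pow_succ', show Nat.find hex - 1 + 1 = Nat.find hex by omega]
        exact Nat.find_spec hex
      · have h : Commute t0 c0 := mul_inv_eq_iff_eq_mul.1 hfix0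
        rw [(h.pow_left _).eq, mul_inv_cancel_right]
    obtain ⟨a, ha, han⟩ := hconj x
    have ha4 : (4 : ℤ) ∣ a - 1 := by
      have h1 : r ^ (a * 2 ^ (k - 2)) = r ^ (2 ^ (k - 2) : ℤ) := by rw [← han, ← hc0r]; exact hxc
      rw [← mul_inv_eq_one, ← zpow_neg, ← zpow_add, hpow, e4] at h1
      obtain ⟨j, hj⟩ := h1
      exact ⟨j, mul_right_cancel₀ hq (by linear_combination hj)⟩
    obtain ⟨b, hb⟩ := ha4
    have hxr : x * x * r * (x * x)⁻¹ = r := by
      rw [hBcom _ hxsq r hrB, mul_inv_cancel_right]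
    have hab : (2 : ℤ) ^ k ∣ a * a - 1 := by
      rw [← hpow, zpow_sub, zpow_one, mul_inv_eq_one, ← han, ← ha]
      calc x * (x * r * x⁻¹) * x⁻¹ = x * x * r * (x * x)⁻¹ := by group
        _ = r := hxr
    have hdvd : (2 : ℤ) ^ k ∣ 2 * (a - 1) := by
      have ha' : a + 1 = 2 * (2 * b + 1) := by linear_combination hb
      have hcop : IsCoprime ((2 : ℤ) ^ k) (2 * b + 1) :=
        IsCoprime.pow_left ⟨-b, 1, by ring⟩
      refine hcop.dvd_of_dvd_mul_right ?_
      rw [show 2 * (a - 1) * (2 * b + 1) = a * a - 1 by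
        linear_combination (-(a - 1)) * ha']
      exact hab
    rw [e4] at hdvd
    obtain ⟨e, he⟩ := hdvd
    have he' : a - 1 = 2 * 2 ^ (k - 2) * e := mul_left_cancel₀ two_ne_zero (by linear_combination he)
    -- `x` maps `r` to `r z`
    have hxrz : x * r * x⁻¹ = r * z := by
      rcases Int.even_or_odd e with ⟨l, hl⟩ | ⟨l, hl⟩
      · exfalso
        refine hxB (hBC x hxT fun b' hb' => ?_)
        rw [hBr] at hb'
        obtain ⟨i, rfl⟩ := mem_zpowers_iff.1 hb'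
        refine (Commute.zpow_right (mul_inv_eq_iff_eq_mul.1 ?_ : Commute x r) i).eq
        rw [ha, ← mul_inv_eq_one, ← zpow_neg_one, ← zpow_add, hpow, e4]
        exact ⟨l, by rw [hl] at he'; linear_combination he'⟩
      · rw [ha, hzr, ← zpow_one_add, ← mul_inv_eq_one, ← zpow_neg, ← zpow_add, hpow, e4]
        exact ⟨l, by rw [hl] at he'; linear_combination he'⟩
    -- the exponent `k` is at least `3`
    obtain ⟨f, hf⟩ : (2 : ℤ) ∣ 2 ^ (k - 2) := by
      refine dvd_pow_self 2 fun h => hxB (hBC x hxT fun b' hb' => ?_)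
      rw [hBr] at hb'
      obtain ⟨i, rfl⟩ := mem_zpowers_iff.1 hb'
      refine (Commute.zpow_right (mul_inv_eq_iff_eq_mul.1 ?_ : Commute x r) i).eq
      have : c0 = r := by rw [hc0, h, pow_zero, pow_one]
      rwa [this] at hxc
    obtain ⟨j, hj⟩ := mem_zpowers_iff.1 (hBr ▸ hxsq)
    have hzn : ∀ n : ℤ, x * r ^ n * x⁻¹ = r ^ ((1 + 2 * 2 ^ (k - 2)) * n) := fun n => by
      rw [← conj_zpow, hxrz, hzr, ← zpow_one_add, zpow_mul]
    have hjeven : ∃ l, j = 2 * l := by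
      have h1 : x * r ^ j * x⁻¹ = r ^ j := by rw [hj]; group
      rw [hzn, ← mul_inv_eq_one, ← zpow_neg, ← zpow_add, hpow, e4] at h1
      obtain ⟨i, hi⟩ := h1
      exact ⟨i, mul_left_cancel₀ (mul_ne_zero two_ne_zero hq) (by linear_combination hi)⟩
    obtain ⟨l, hl⟩ := hjeven
    obtain ⟨i, hi⟩ : ∃ i : ℤ, (2 : ℤ) ^ k ∣ j + (2 + 2 * 2 ^ (k - 2)) * i := by
      rcases Int.even_or_odd l with ⟨m, hm⟩ | ⟨m, hm⟩
      · exact ⟨-l, by rw [e4]; exact ⟨-m, by rw [hl, hm]; ring⟩⟩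
      · exact ⟨-l + 2 ^ (k - 2), by rw [e4]; exact ⟨f - m, by rw [hl, hm, hf]; ring⟩⟩
    set y := x * r ^ i with hy
    have hyy : y * y = 1 := by
      have h1 : x⁻¹ * r ^ i * x = r ^ ((1 + 2 * 2 ^ (k - 2)) * i) := by
        have hcm : x * r ^ i * x⁻¹ = r ^ ((1 + 2 * 2 ^ (k - 2)) * i) := hzn i
        have h2 : x * x * r ^ i = r ^ i * (x * x) := hBcom _ hxsq _ (zpow_mem hrB i)
        calc x⁻¹ * r ^ i * x = x⁻¹ * (r ^ i * (x * x)) * x⁻¹ := by group
          _ = x⁻¹ * (x * x * r ^ i) * x⁻¹ := by rw [h2]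
          _ = x * r ^ i * x⁻¹ := by group
          _ = _ := hcm
      calc y * y = (x * x) * (x⁻¹ * r ^ i * x) * r ^ i := by rw [hy]; group
        _ = r ^ (j + (2 + 2 * 2 ^ (k - 2)) * i) := by
          rw [h1, ← hj, ← zpow_add, ← zpow_add]; ring_nf
        _ = 1 := (hpow _).2 hi
    have hyT : y ∈ T := mul_mem hxT (hBT (zpow_mem hrB i))
    have hyB : y ∉ B := fun h => hxB (by
      have := mul_mem h (inv_mem (zpow_mem hrB i))
      rwa [hy, mul_inv_cancel_right] at this)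
    have hz1 : z ≠ 1 := by
      rw [hzr, Ne, hpow, e4]
      rintro ⟨d, hd⟩
      have : (1 : ℤ) = 2 * d := mul_left_cancel₀ (mul_ne_zero two_ne_zero hq) (by linear_combination hd)
      omega
    have hzB : z ∈ B := hzr ▸ zpow_mem hrB _
    have hz2 : z * z = 1 := by rw [hzr, ← zpow_add, hpow, e4]; exact ⟨1, by ring⟩
    refine contra y z hyT (hBT hzB) hyy hz2 (fun h => hyB (h ▸ one_mem B)) hz1
      (fun h => hyB (h ▸ hzB)) hzc fun g => ?_
    -- conjugates of `y`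
    set y' := g * y * g⁻¹ with hy'
    have hyr : y * r * y⁻¹ = r * z := by
      rw [hy]
      calc x * r ^ i * r * (x * r ^ i)⁻¹ = x * r * x⁻¹ := by group
        _ = r * z := hxrz
    have hy'r : y' * r * y'⁻¹ = r * z := by
      obtain ⟨d, hd, -⟩ := hconj g⁻¹
      have hyd : y * r ^ d * y⁻¹ = r ^ d * z ^ d := by
        rw [← conj_zpow, hyr, (Commute.mul_zpow (show Commute r z from hBcom r hrB z hzB) d)]
      have hzd : z ^ d = z := by
        obtain ⟨l', hl'⟩ : ∃ l', d = 2 * l' + 1 := ⟨d / 2, by have := hodd _ d hd; omega⟩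
        rw [hl', zpow_add, two_mul, zpow_add, ← (Commute.refl z).mul_zpow, hz2, one_zpow, one_mul,
          zpow_one]
      rw [hzd, ← hd, inv_inv] at hyd
      calc y' * r * y'⁻¹ = g * (y * (g⁻¹ * r * g) * y⁻¹) * g⁻¹ := by rw [hy']; group
        _ = g * (g⁻¹ * r * g * z) * g⁻¹ := by rw [hyd]
        _ = r * (g * z * g⁻¹) := by group
        _ = r * z := by rw [hzc]
    have hy'y : y⁻¹ * y' ∈ B := by
      refine hBC _ (mul_mem (inv_mem hyT) (Subgroup.Normal.conj_mem inferInstance y hyT g)) fun b' hb' => ?_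
      rw [hBr] at hb'
      obtain ⟨n, rfl⟩ := mem_zpowers_iff.1 hb'
      refine (Commute.zpow_right (mul_inv_eq_iff_eq_mul.1 ?_ : Commute (y⁻¹ * y') r) n).eq
      calc y⁻¹ * y' * r * (y⁻¹ * y')⁻¹ = y⁻¹ * (y' * r * y'⁻¹) * y := by group
        _ = y⁻¹ * (y * r * y⁻¹) * y := by rw [hy'r, hyr]
        _ = r := by group
    obtain ⟨n, hn⟩ := mem_zpowers_iff.1 (hBr ▸ hy'y)
    have hn' : y' = y * r ^ n := by rw [hn, mul_inv_cancel_left]
    have hy'2 : y' * y' = 1 := by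
      rw [hy', show g * y * g⁻¹ * (g * y * g⁻¹) = g * (y * y) * g⁻¹ by group, hyy, mul_one, mul_inv_cancel]
    have hyn : y⁻¹ * r ^ n * y = r ^ n * z ^ n := by
      have hyi : y⁻¹ = y := inv_eq_of_mul_eq_one_right hyy
      calc y⁻¹ * r ^ n * y = y * r ^ n * y⁻¹ := by rw [hyi]
        _ = r ^ n * z ^ n := by
          rw [← conj_zpow, hyr, (Commute.mul_zpow (show Commute r z from hBcom r hrB z hzB) n)]
    have h0 : r ^ ((2 + 2 * 2 ^ (k - 2)) * n) = 1 := by
      calc r ^ ((2 + 2 * 2 ^ (k - 2)) * n) = r ^ n * z ^ n * r ^ n := by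
            rw [hzr, ← zpow_mul, ← zpow_add, ← zpow_add]; ring_nf
        _ = (y * y) * (y⁻¹ * r ^ n * y) * r ^ n := by rw [hyy, one_mul, hyn]
        _ = y' * y' := by rw [hn']; group
        _ = 1 := hy'2
    rw [hpow, e4] at h0
    obtain ⟨d, hd⟩ := h0
    have hd' : (1 + 2 ^ (k - 2)) * n = 2 * 2 ^ (k - 2) * d :=
      mul_left_cancel₀ two_ne_zero (by linear_combination hd)
    have hndvd : ∃ d', n = 2 * 2 ^ (k - 2) * d' := by
      have hcop : IsCoprime ((2 : ℤ) * 2 ^ (k - 2)) (1 + 2 ^ (k - 2)) := by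
        rw [← pow_succ']
        exact IsCoprime.pow_left ⟨-f, 1, by rw [hf]; ring⟩
      obtain ⟨d', hd''⟩ := hcop.dvd_of_dvd_mul_left (Dvd.intro d hd'.symm : (2 : ℤ) * 2 ^ (k - 2) ∣ (1 + 2 ^ (k - 2)) * n)
      exact ⟨d', hd''⟩
    obtain ⟨d', hd''⟩ := hndvd
    rw [hn', hd'', zpow_mul, ← hzr]
    rcases Int.even_or_odd d' with ⟨l', hl'⟩ | ⟨l', hl'⟩
    · left; rw [hl', zpow_add, ← (Commute.refl z).mul_zpow, hz2, one_zpow, mul_one]
    · right; rw [hl', zpow_add, two_mul, zpow_add, ← (Commute.refl z).mul_zpow, hz2, one_zpow, one_mul,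
        zpow_one]
      exact (mul_inv_eq_iff_eq_mul.1 (hzc y))
  have hinv : ∀ t ∈ T, t ∉ B → t * c0 * t⁻¹ = c0⁻¹ := by
    intro t ht htB
    obtain ⟨a, ha, han⟩ := hconj t
    obtain ⟨l, hl⟩ : ∃ l, a = 2 * l + 1 := ⟨a / 2, by have := hodd t a ha; omega⟩
    rw [hc0r, han]
    rcases Int.even_or_odd l with ⟨m, hm⟩ | ⟨m, hm⟩
    · refine absurd (hT1 t ht ?_) htB
      rw [hc0r, han, ← mul_inv_eq_one, ← zpow_neg, ← zpow_add, hpow, e4]
      exact ⟨m, by rw [hl, hm]; ring⟩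
    · rw [← zpow_neg, ← mul_inv_eq_one, ← zpow_neg, ← zpow_add, hpow, e4]
      exact ⟨m + 1, by rw [hl, hm]; ring⟩
  refine ⟨r, k, hBT hrB, hk2, hk, fun g => hBr ▸ hBn.conj_mem r hrB g, ?_, fun t ht htr => hinv t ht (by rwa [hBr])⟩
  intro t ht t' ht' htr htr'
  rw [← hBr] at htr htr' ⊢
  refine hT1 _ (mul_mem ht ht') ?_
  calc t * t' * c0 * (t * t')⁻¹ = t * (t' * c0 * t'⁻¹) * t⁻¹ := by group
    _ = (t * c0 * t⁻¹)⁻¹ := by rw [hinv t' ht' htr']; group
    _ = c0 := by rw [hinv t ht htr, inv_inv]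

set_option maxHeartbeats 1000000 in
/-- Let A be a semisimple subgroup (A = E(A)) of a finite group and U a Klein four-group normalizing A. If the subgroup of A generated by the normalizers N_A(V) of the nontrivial subgroups V of U has 2-rank exactly 1, then A has 2-rank exactly 1. -/
theorem result {G : Type*} [Group G] [Finite G] (A : Subgroup G) (hA : Cfsg.layer ↥A = ⊤)
    (U : Subgroup G) (hU : IsKleinFour U) (hUA : U ≤ Subgroup.normalizer (A : Set G))
    (hΓ : Cfsg.PRankLE 2 1 ↥(⨆ V : {V : Subgroup G // V ≤ U ∧ V ≠ ⊥}, A ⊓ Subgroup.normalizer ((V : Subgroup G) : Set G)) ∧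
      ¬ Cfsg.PRankLE 2 0 ↥(⨆ V : {V : Subgroup G // V ≤ U ∧ V ≠ ⊥}, A ⊓ Subgroup.normalizer ((V : Subgroup G) : Set G))) :
    Cfsg.PRankLE 2 1 A ∧ ¬ Cfsg.PRankLE 2 0 A := by
  classical
  haveI : Fact (Nat.Prime 2) := ⟨Nat.prime_two⟩
  set Γ := ⨆ V : {V : Subgroup G // V ≤ U ∧ V ≠ ⊥}, A ⊓ Subgroup.normalizer ((V : Subgroup G) : Set G)
    with hΓdef
  have hΓA : Γ ≤ A := iSup_le fun V => inf_le_left
  refine ⟨?_, fun h0 => hΓ.2 fun E hE1 hE2 => ?_⟩
  swap
  · haveI := hE1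
    let ι := Subgroup.inclusion hΓA
    have h := h0 (E.map ι) (IsMulCommutative.of_setLike_mul_comm ?_) ?_
    · rwa [Subgroup.card_map_of_injective (Subgroup.inclusion_injective hΓA)] at h
    · rintro _ ⟨a, ha, rfl⟩ _ ⟨b, hb, rfl⟩
      rw [← map_mul, ← map_mul]
      exact congrArg _ (congrArg Subtype.val (mul_comm' (⟨a, ha⟩ : ↥E) ⟨b, hb⟩))
    · rintro _ ⟨a, ha, rfl⟩; rw [← map_pow, hE2 a ha, map_one]
  -- no involution of `U` centralizes two commuting involutions of `A`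
  have hR : ∀ u ∈ U, u ≠ 1 → ∀ x ∈ A, ∀ y ∈ A, x * x = 1 → y * y = 1 → x ≠ 1 → y ≠ 1 →
      Commute u x → Commute u y → Commute x y → x = y := by
    intro u hu hu1 x hx y hy hx2 hy2 hx1 hy1 hux huy hxy
    by_contra hne
    have hle : ∀ g, g ∈ A → Commute u g → g ∈ Γ := fun g hg hug => by
      refine (le_iSup (fun V : {V : Subgroup G // V ≤ U ∧ V ≠ ⊥} =>
        A ⊓ Subgroup.normalizer ((V : Subgroup G) : Set G))
        ⟨Subgroup.zpowers u, zpowers_le.2 hu, by simpa [zpowers_eq_bot] using hu1⟩) ⟨hg, ?_⟩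
      refine Subgroup.centralizer_le_normalizer _ (mem_centralizer_iff.2 ?_)
      rintro _ ⟨i, rfl⟩
      exact (hug.zpow_left i).eq
    let E : Subgroup ↥Γ :=
      closure {⟨x, hle x hx hux⟩, ⟨y, hle y hy huy⟩}
    have hEc : IsMulCommutative E := by
      refine Subgroup.isMulCommutative_closure ?_
      rintro a (rfl | rfl) b (rfl | rfl) <;> first | rfl | exact Subtype.ext hxy.eq | exact Subtype.ext hxy.symm.eq
    have hE2 : ∀ a ∈ E, a ^ 2 = 1 := by
      intro a ha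
      induction ha using closure_induction with
      | mem a ha =>
        rcases ha with rfl | rfl <;> apply Subtype.ext <;> simpa [pow_two]
      | one => exact one_pow 2
      | mul a b ha hb iha ihb =>
        haveI := hEc
        have hc : Commute a b := congrArg Subtype.val (mul_comm' (⟨a, ha⟩ : ↥E) ⟨b, hb⟩)
        rw [hc.mul_pow, iha, ihb, one_mul]
      | inv a ha iha => rw [inv_pow, iha, inv_one]
    have h3 : 3 ≤ Nat.card E := by
      let f : Fin 3 → ↥E := ![1, ⟨⟨x, hle x hx hux⟩, subset_closure (Or.inl rfl)⟩,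
        ⟨⟨y, hle y hy huy⟩, subset_closure (Or.inr rfl)⟩]
      refine le_of_eq_of_le (Nat.card_fin 3).symm (Nat.card_le_card_of_injective f ?_)
      intro i j hij
      fin_cases i <;> fin_cases j <;> first | rfl | (exfalso; simp [f, Subtype.ext_iff] at hij; tauto)
    have h2 := hΓ.1 E hEc hE2
    simp only [pow_one] at h2
    omega
  -- a `U`-invariant Sylow `2`-subgroup
  haveI hUc : IsKleinFour U := hU
  have hU2 : ∀ u ∈ U, u * u = 1 := fun u hu => congrArg Subtype.val (IsKleinFour.mul_self (⟨u, hu⟩ : ↥U))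
  have hUp : IsPGroup 2 ↥U := fun u => ⟨1, by rw [pow_one, sq]; exact IsKleinFour.mul_self u⟩
  obtain ⟨S, hS, hUS⟩ := exists_isMaxPIn (p := 2) (le_sup_right : U ≤ A ⊔ U) hUp
  have hAU : A ⊔ U ≤ normalizer (A : Set G) := sup_le le_normalizer hUA
  have hAn : ∀ g ∈ A ⊔ U, ∀ a ∈ A, g * a * g⁻¹ ∈ A := fun g hg a ha =>
    (mem_normalizer_iff.1 (hAU hg) a).1 ha
  set T := S ⊓ A with hT
  have hTmax : IsMaxPIn 2 T A := by
    refine ⟨inf_le_right, hS.2.1.to_le inf_le_left, fun X hXA hX hTX => ?_⟩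
    obtain ⟨m, hm, hmX⟩ := hS.exists_conj_le (hXA.trans le_sup_left) hX
    refine (Subgroup.eq_of_le_of_card_ge hTX ?_).symm
    refine Nat.card_le_card_of_injective
      (fun x : ↥X => (⟨m * x * m⁻¹, hmX x x.2, hAn m hm x (hXA x.2)⟩ : ↥T)) fun x y e => Subtype.ext ?_
    exact (MulAut.conj m).injective (congrArg (fun w : ↥T => (w : G)) e)
  -- suppose the `2`-rank is at least two
  intro E hEc hE2
  by_contra hgt
  haveI := hEc
  simp only [pow_one] at hgt
  have hEp : IsPGroup 2 ↥(E.map A.subtype) :=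
    IsPGroup.map (show IsPGroup 2 ↥E from fun a => ⟨1, Subtype.ext (by rw [pow_one]; exact hE2 a a.2)⟩) _
  obtain ⟨m, hm, hmE⟩ := hTmax.exists_conj_le (map_subtype_le E) hEp
  have h2 : ∃ x ∈ T, ∃ y ∈ T, x * x = 1 ∧ y * y = 1 ∧ x ≠ 1 ∧ y ≠ 1 ∧ x ≠ y ∧ Commute x y := by
    haveI : Nontrivial ↥E := Finite.one_lt_card_iff_nontrivial.1 (by omega)
    obtain ⟨e, he⟩ := exists_ne (1 : ↥E)
    obtain ⟨e', he'1, he'⟩ := exists_third (show 2 < Nat.card ↥E by omega) 1 e
    let φ : ↥E →* G := ((MulAut.conj m).toMonoidHom.comp A.subtype).comp E.subtype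
    have hφ : Function.Injective φ :=
      ((MulAut.conj m).injective.comp A.subtype_injective).comp E.subtype_injective
    have hsq : ∀ x : ↥E, φ x * φ x = 1 := fun x => by
      rw [← map_mul, ← sq, show x ^ 2 = 1 from Subtype.ext (hE2 x x.2), map_one]
    exact ⟨φ e, hmE _ ⟨_, e.2, rfl⟩, φ e', hmE _ ⟨_, e'.2, rfl⟩, hsq e, hsq e',
      fun h => he (hφ (h.trans (map_one φ).symm)), fun h => he'1 (hφ (h.trans (map_one φ).symm)),
      fun h => he' (hφ h).symm, (show Commute e e' from mul_comm' e e').map φ⟩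
  -- the cyclic subgroup
  set P := T ⊔ U with hPdef
  have hTP : T ≤ P := le_sup_left
  have hUP : U ≤ P := le_sup_right
  have hPS : P ≤ S := sup_le inf_le_left hUS
  haveI : (T.subgroupOf P).Normal := normal_subgroupOf_of_le_normalizer fun g hg =>
    mem_normalizer_fintype fun x hx => ⟨S.mul_mem (S.mul_mem (hPS hg) hx.1) (S.inv_mem (hPS hg)),
      hAn g ((sup_le (inf_le_right.trans le_sup_left) le_sup_right : P ≤ A ⊔ U) hg) x hx.2⟩
  have hfour : ∀ w z : G, (∀ u ∈ U, u * z * u⁻¹ = z) → z * z = 1 →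
      (∀ u ∈ U, u * w * u⁻¹ = w ∨ u * w * u⁻¹ = z * w) → ∃ u ∈ U, u ≠ 1 ∧ u * w * u⁻¹ = w := by
    intro w z hz hz2 hw
    haveI : Nontrivial ↥U := Finite.one_lt_card_iff_nontrivial.1 (by rw [hU.card_four]; norm_num)
    obtain ⟨a, ha⟩ := exists_ne (1 : ↥U)
    obtain ⟨b, hb1, hba⟩ := exists_third (show 2 < Nat.card ↥U by rw [hU.card_four]; norm_num) 1 a
    rcases hw a a.2 with h | h
    · exact ⟨a, a.2, fun e => ha (Subtype.ext e), h⟩
    rcases hw b b.2 with h' | h'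
    · exact ⟨b, b.2, fun e => hb1 (Subtype.ext e), h'⟩
    refine ⟨a * b, mul_mem a.2 b.2, fun e => hba ?_, ?_⟩
    · apply Subtype.ext
      have := hU2 a a.2
      calc (b : G) = (a : G) * a * b := by rw [this, one_mul]
        _ = a := by rw [mul_assoc, e, mul_one]
    · calc (a : G) * b * w * ((a : G) * b)⁻¹ = (a : G) * ((b : G) * w * (b : G)⁻¹) * (a : G)⁻¹ := by group
        _ = (a : G) * z * (a : G)⁻¹ * ((a : G) * w * (a : G)⁻¹) := by rw [h']; group
        _ = w := by rw [hz a a.2, h, ← mul_assoc, hz2, one_mul]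
  obtain ⟨x0, hx0, y0, hy0, hx2, hy2, hx1, hy1, hxy, hxyc⟩ := h2
  obtain ⟨⟨r, hrP⟩, k, hrT, hk, hord, hrn, hidx, hinv⟩ :=
    exists_cyclic_index_two (P := ↥P) (hS.2.1.to_le hPS) (T.subgroupOf P) (U.subgroupOf P)
      (fun w z hz hw => by
        by_cases hz2 : z * z = 1
        · obtain ⟨u, hu, hu1, h⟩ := hfour w z (fun u hu => congrArg Subtype.val (hz ⟨u, hUP hu⟩))
            (congrArg Subtype.val hz2) (fun u hu => (hw ⟨u, hUP hu⟩ hu).imp (congrArg Subtype.val) (congrArg Subtype.val))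
          exact ⟨⟨u, hUP hu⟩, hu, fun e => hu1 (congrArg Subtype.val e), Subtype.ext h⟩
        · obtain ⟨u, hu⟩ : ∃ u : ↥U, u ≠ 1 :=
            haveI : Nontrivial ↥U := Finite.one_lt_card_iff_nontrivial.1 (by rw [hU.card_four]; norm_num)
            exists_ne _
          refine ⟨⟨u, hUP u.2⟩, u.2, fun e => hu (Subtype.ext (congrArg Subtype.val e :)), ?_⟩
          rcases hw ⟨u, hUP u.2⟩ u.2 with h | h
          · exact h
          exfalso
          apply hz2
          have huu : (⟨u, hUP u.2⟩ : ↥P) * ⟨u, hUP u.2⟩ = 1 := Subtype.ext (hU2 u u.2)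
          set v : ↥P := ⟨u, hUP u.2⟩
          have e : v * (v * w * v⁻¹) * v⁻¹ = w := by
            calc v * (v * w * v⁻¹) * v⁻¹ = (v * v) * w * (v * v)⁻¹ := by group
              _ = w := by rw [huu, one_mul, inv_one, mul_one]
          rw [h, show v * (z * w) * v⁻¹ = (v * z * v⁻¹) * (v * w * v⁻¹) by group, hz v, h,
            ← mul_assoc, mul_eq_right] at e
          exact e)
      (fun u hu hu1 x hx y hy hx2 hy2 hx1 hy1 hux huy hxy => Subtype.ext
        (hR u hu (fun e => hu1 (Subtype.ext e)) x hx.2 y hy.2 (congrArg Subtype.val hx2)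
          (congrArg Subtype.val hy2) (fun e => hx1 (Subtype.ext e)) (fun e => hy1 (Subtype.ext e))
          (hux.map P.subtype) (huy.map P.subtype) (hxy.map P.subtype)))
      ⟨⟨x0, hTP hx0⟩, hx0, ⟨y0, hTP hy0⟩, hy0, Subtype.ext hx2, Subtype.ext hy2,
        fun e => hx1 (congrArg Subtype.val e), fun e => hy1 (congrArg Subtype.val e),
        fun e => hxy (congrArg Subtype.val e), Subtype.ext hxyc⟩
  have hr : r ∈ T := hrT
  set B : Subgroup G := zpowers r with hB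
  have hBT : B ≤ T := zpowers_le.2 hr
  have hBn : ∀ g ∈ P, ∀ b ∈ B, g * b * g⁻¹ ∈ B := by
    intro g hg b hb
    obtain ⟨i, rfl⟩ := mem_zpowers_iff.1 hb
    rw [← conj_zpow]
    obtain ⟨n, hn⟩ := mem_zpowers_iff.1 (hrn ⟨g, hg⟩)
    have hn' : r ^ n = g * r * g⁻¹ := congrArg Subtype.val hn
    exact zpow_mem (hn' ▸ zpow_mem (mem_zpowers r) n) i
  have hmemB : ∀ g (hg : g ∈ P), (⟨g, hg⟩ : ↥P) ∈ zpowers (⟨r, hrP⟩ : ↥P) ↔ g ∈ B := fun g hg => by
    refine ⟨fun h => ?_, fun h => ?_⟩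
    · obtain ⟨i, hi⟩ := mem_zpowers_iff.1 h; exact ⟨i, congrArg Subtype.val hi⟩
    · obtain ⟨i, hi⟩ := mem_zpowers_iff.1 h; exact ⟨i, Subtype.ext hi⟩
  have hidx' : ∀ t ∈ T, ∀ t' ∈ T, t ∉ B → t' ∉ B → t * t' ∈ B := fun t ht t' ht' h h' =>
    (hmemB _ (mul_mem (hTP ht) (hTP ht'))).1 (hidx ⟨t, hTP ht⟩ ht ⟨t', hTP ht'⟩ ht'
      (fun e => h ((hmemB _ _).1 e)) (fun e => h' ((hmemB _ _).1 e)))
  set c0 := r ^ 2 ^ (k - 2) with hc0
  have hinv' : ∀ t ∈ T, t ∉ B → t * c0 * t⁻¹ = c0⁻¹ := fun t ht h =>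
    congrArg Subtype.val (hinv ⟨t, hTP ht⟩ ht (fun e => h ((hmemB _ _).1 e)))
  have hord' : orderOf r = 2 ^ k := by rw [← hord, ← Subgroup.orderOf_coe]
  set z := c0 * c0 with hz
  have hzr : z = r ^ 2 ^ (k - 1) := by
    rw [hz, hc0, ← pow_add, ← two_mul, ← pow_succ', show k - 2 + 1 = k - 1 by omega]
  have hz1 : z ≠ 1 := by
    rw [hzr]; exact pow_ne_one_of_lt_orderOf (by positivity)
      (by rw [hord']; exact Nat.pow_lt_pow_right one_lt_two (by omega))
  have hz2 : z * z = 1 := by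
    rw [hzr, ← pow_add, ← two_mul, ← pow_succ', show k - 1 + 1 = k by omega, ← hord', pow_orderOf_eq_one]
  have honly : ∀ b ∈ B, b * b = 1 → b = 1 ∨ b = z := by
    intro b hb hb2
    obtain ⟨i, rfl⟩ := mem_zpowers_iff.1 hb
    rw [← zpow_add, ← orderOf_dvd_iff_zpow_eq_one, hord'] at hb2
    push_cast at hb2
    have e : (2 : ℤ) ^ k = 2 * 2 ^ (k - 1) := by rw [← pow_succ', show k - 1 + 1 = k by omega]
    rw [e, ← two_mul] at hb2
    obtain ⟨j, hj⟩ := Int.dvd_of_mul_dvd_mul_left two_ne_zero hb2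
    have hzj : r ^ i = z ^ j := by
      rw [hzr, ← zpow_natCast, ← zpow_mul, hj]; push_cast; rfl
    rw [hzj]
    rcases Int.even_or_odd j with ⟨l, rfl⟩ | ⟨l, rfl⟩
    · left; rw [zpow_add, ← (Commute.refl z).mul_zpow, hz2, one_zpow]
    · right; rw [zpow_add, two_mul, zpow_add, ← (Commute.refl z).mul_zpow, hz2, one_zpow, one_mul, zpow_one]
  have hzB : z ∈ B := hzr ▸ pow_mem (mem_zpowers r) _
  have hc0B : c0 ∈ B := pow_mem (mem_zpowers r) _
  have hzc : ∀ g ∈ P, g * z * g⁻¹ = z := fun g hg => by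
    rcases honly _ (hBn g hg z hzB) (by
      rw [show g * z * g⁻¹ * (g * z * g⁻¹) = g * (z * z) * g⁻¹ by group, hz2, mul_one, mul_inv_cancel]) with h | h
    · exact absurd (conj_eq_one_iff.1 h) hz1
    · exact h
  have hzT : z ∈ T := hBT hzB
  -- an involution of `U` centralizing `c0`
  have hc0inv : c0⁻¹ = z * c0 :=
    inv_eq_of_mul_eq_one_right (by
      calc c0 * (z * c0) = (c0 * c0) * (c0 * c0) := by rw [hz]; group
        _ = 1 := hz2)
  obtain ⟨u, hu, hu1, huc⟩ := hfour c0 z (fun u hu => hzc u (hUP hu)) hz2 fun u hu => by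
    have hmem := hBn u (hUP hu) c0 hc0B
    obtain ⟨n, hn⟩ := mem_zpowers_iff.1 hmem
    have h4 : (u * c0 * u⁻¹) * (u * c0 * u⁻¹) = z := by
      rw [show u * c0 * u⁻¹ * (u * c0 * u⁻¹) = u * (c0 * c0) * u⁻¹ by group, ← hz, hzc u (hUP hu)]
    have hc : Commute (u * c0 * u⁻¹) c0⁻¹ := by
      obtain ⟨n', hn'⟩ := mem_zpowers_iff.1 hc0B
      rw [← hn, ← hn']; exact ((Commute.refl r).zpow_zpow n n').inv_right
    rcases honly _ (mul_mem hmem (inv_mem hc0B)) (by
      calc u * c0 * u⁻¹ * c0⁻¹ * (u * c0 * u⁻¹ * c0⁻¹) = (u * c0 * u⁻¹) * (u * c0 * u⁻¹) * (c0⁻¹ * c0⁻¹) := by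
            rw [mul_assoc (u * c0 * u⁻¹), ← mul_assoc c0⁻¹, ← hc.eq]; group
        _ = 1 := by rw [h4, hz]; group) with h | h
    · left; exact mul_inv_eq_one.1 h
    · right; exact mul_inv_eq_iff_eq_mul.1 h
  -- an involution outside `B`
  obtain ⟨s, hsT, hsB, hs2⟩ : ∃ s ∈ T, s ∉ B ∧ s * s = 1 := by
    by_cases h : x0 ∈ B
    · refine ⟨y0, hy0, fun h' => hxy ?_, hy2⟩
      rw [(honly x0 h hx2).resolve_left hx1, (honly y0 h' hy2).resolve_left hy1]
    · exact ⟨x0, hx0, h, hx2⟩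
  have hs1 : s ≠ 1 := fun h => hsB (h ▸ one_mem B)
  have hsz : s ≠ z := fun h => hsB (h ▸ hzB)
  have hszc : Commute s z := mul_inv_eq_iff_eq_mul.1 (hzc s (hTP hsT))
  have huu := hU2 u hu
  have huinv : u⁻¹ = u := inv_eq_of_mul_eq_one_right huu
  have huT : u ∉ T := by
    intro huT
    by_cases hz' : u = z
    · exact hsz (hR u hu hu1 s (hT ▸ hsT : s ∈ S ⊓ A).2 z hzT.2 hs2 hz2 hs1 hz1 (hz' ▸ hszc.symm)
        (hz' ▸ Commute.refl z) hszc)
    · exact hz' (hR u hu hu1 u huT.2 z hzT.2 huu hz2 hu1 hz1 (Commute.refl u)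
        (mul_inv_eq_iff_eq_mul.1 (hzc u (hUP hu))) (mul_inv_eq_iff_eq_mul.1 (hzc u (hUP hu))))
  have huA : u ∉ A := fun h => huT ⟨hUS hu, h⟩
  -- `u` maps `s` to `s z`
  have hTconj : ∀ g ∈ P, ∀ t ∈ T, g * t * g⁻¹ ∈ T := fun g hg t ht =>
    ⟨S.mul_mem (S.mul_mem (hPS hg) ht.1) (S.inv_mem (hPS hg)),
      hAn g ((sup_le (inf_le_right.trans le_sup_left) le_sup_right : P ≤ A ⊔ U) hg) t ht.2⟩
  have husB : u * s * u⁻¹ ∉ B := fun h => hsB (by
    have := hBn u (hUP hu) _ h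
    rwa [show u * (u * s * u⁻¹) * u⁻¹ = (u * u) * s * (u * u)⁻¹ by group, huu, one_mul, inv_one,
      mul_one] at this)
  obtain ⟨y, hy, huy⟩ : ∃ y ∈ B, u * s * u⁻¹ = s * y :=
    ⟨s * (u * s * u⁻¹), hidx' s hsT _ (hTconj u (hUP hu) s hsT) hsB husB, by
      rw [← mul_assoc, hs2, one_mul]⟩
  obtain ⟨i, hi⟩ := mem_zpowers_iff.1 hy
  obtain ⟨a, ha⟩ := mem_zpowers_iff.1 (hBn u (hUP hu) r (mem_zpowers r))
  have hya : y * (u * y * u⁻¹) = 1 := by
    have h1 : u * (s * y) * u⁻¹ = s := by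
      rw [← huy, show u * (u * s * u⁻¹) * u⁻¹ = (u * u) * s * (u * u)⁻¹ by group, huu, one_mul, inv_one,
        mul_one]
    rw [show u * (s * y) * u⁻¹ = (u * s * u⁻¹) * (u * y * u⁻¹) by group, huy, mul_assoc] at h1
    exact mul_eq_left.1 h1
  have ha4 : (4 : ℤ) ∣ a - 1 := by
    have h1 : r ^ (a * 2 ^ (k - 2)) = r ^ (2 ^ (k - 2) : ℤ) := by
      have hcast : c0 = r ^ (2 ^ (k - 2) : ℤ) := by rw [hc0, ← zpow_natCast]; push_cast; rfl
      rw [zpow_mul, ha, conj_zpow, ← hcast]; exact huc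
    rw [← mul_inv_eq_one, ← zpow_neg, ← zpow_add, ← orderOf_dvd_iff_zpow_eq_one, hord'] at h1
    push_cast at h1
    rw [show (2 : ℤ) ^ k = 2 ^ (k - 2) * 4 by
      rw [show (4 : ℤ) = 2 ^ 2 by norm_num, ← pow_add, show k - 2 + 2 = k by omega],
      show a * 2 ^ (k - 2) + -2 ^ (k - 2) = 2 ^ (k - 2) * (a - 1) by ring] at h1
    exact Int.dvd_of_mul_dvd_mul_left (pow_ne_zero _ two_ne_zero) h1
  have hy2' : y * y = 1 := by
    rw [← hi] at hya ⊢
    rw [← conj_zpow, ← ha, ← zpow_mul, ← zpow_add, ← orderOf_dvd_iff_zpow_eq_one, hord'] at hya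
    rw [← zpow_add, ← orderOf_dvd_iff_zpow_eq_one, hord']
    push_cast at hya ⊢
    obtain ⟨b, hb⟩ := ha4
    have hcop : IsCoprime ((2 : ℤ) ^ k) (2 * b + 1) := IsCoprime.pow_left ⟨-b, 1, by ring⟩
    refine hcop.dvd_of_dvd_mul_right ?_
    rwa [show (i + i) * (2 * b + 1) = i + a * i by linear_combination (-i) * hb]
  have husz : u * s * u⁻¹ = s * z := by
    rcases honly y hy hy2' with h | h
    · exfalso
      rw [h, mul_one] at huy
      exact hsz (hR u hu hu1 s hsT.2 z hzT.2 hs2 hz2 hs1 hz1 (mul_inv_eq_iff_eq_mul.1 huy)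
        (mul_inv_eq_iff_eq_mul.1 (hzc u (hUP hu))) hszc)
    · rw [huy, h]
  set w := u * c0 with hw
  have hcu : Commute u c0 := mul_inv_eq_iff_eq_mul.1 huc
  have hww : w * w = z := by
    rw [hw, mul_assoc, ← mul_assoc c0, ← hcu.eq, mul_assoc u, ← mul_assoc, huu, one_mul, ← hz]
  have hws : w * s * w⁻¹ = s := by
    have h1 : c0 * s * c0⁻¹ = s * z := by
      have h0 := hinv' s hsT hsB
      have hsinv : s⁻¹ = s := inv_eq_of_mul_eq_one_right hs2
      calc c0 * s * c0⁻¹ = s * (s * c0 * s⁻¹) * c0⁻¹ := by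
            rw [hsinv, ← mul_assoc, ← mul_assoc, hs2, one_mul]
        _ = s * (c0⁻¹ * c0⁻¹) := by rw [h0, mul_assoc]
        _ = s * z := by rw [← mul_inv_rev, ← hz, inv_eq_of_mul_eq_one_right hz2]
    calc w * s * w⁻¹ = u * (c0 * s * c0⁻¹) * u⁻¹ := by rw [hw]; group
      _ = (u * s * u⁻¹) * (u * z * u⁻¹) := by rw [h1]; group
      _ = s := by rw [husz, hzc u (hUP hu), mul_assoc, hz2, mul_one]
  -- `T⟨u⟩` is Sylow in `A⟨u⟩`
  have hX0 : A ⊔ zpowers u ≤ A ⊔ U := sup_le_sup_left (zpowers_le.2 hu) A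
  set X := A ⊔ zpowers u with hX
  set T0 := T ⊔ zpowers u with hT0
  have hT0P : T0 ≤ P := sup_le hTP (zpowers_le.2 (hUP hu))
  have hT0max : IsMaxPIn 2 T0 X := by
    refine ⟨sup_le_sup_right inf_le_right _, hS.2.1.to_le (hT0P.trans hPS), fun X' hX' hX'p hle => ?_⟩
    refine le_antisymm (fun x hx => ?_) hle
    have hx' : x ∈ (A : Set G) * (zpowers u : Set G) := by
      rw [← coe_mul_of_right_le_normalizer_left A _ (zpowers_le.2 (hUA hu))]
      exact hX' hx
    obtain ⟨a', ha', v, hv, rfl⟩ := hx'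
    have haX : a' ∈ X' ⊓ A := ⟨by
      have := mul_mem hx (inv_mem (hle (mem_sup_right hv)))
      rwa [mul_inv_cancel_right] at this, ha'⟩
    have hTeq : X' ⊓ A = T := hTmax.2.2 _ inf_le_right (hX'p.to_le inf_le_left)
      (le_inf ((le_sup_left : T ≤ T0).trans hle) inf_le_right)
    exact mul_mem (mem_sup_left (hTeq.le haX)) (mem_sup_right hv)
  have huX : u ∈ X := mem_sup_right (mem_zpowers u)
  have hcX : ∀ b ∈ T, b ∈ X := fun b hb => mem_sup_left hb.2
  have hsquare : ∀ x ∈ T0, x * x ∈ B := by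
    intro x hx
    have hx' : x ∈ (T : Set G) * (zpowers u : Set G) := by
      rw [← coe_mul_of_right_le_normalizer_left T _ (zpowers_le.2
        (mem_normalizer_fintype (hTconj u (hUP hu))))]
      exact hx
    obtain ⟨t, ht, v, hv, rfl⟩ := hx'
    have hv' : v = 1 ∨ v = u := by
      obtain ⟨n, rfl⟩ := mem_zpowers_iff.1 hv
      rcases Int.even_or_odd n with ⟨l, rfl⟩ | ⟨l, rfl⟩
      · left; rw [zpow_add, ← (Commute.refl u).mul_zpow, huu, one_zpow]
      · right; rw [zpow_add, two_mul, zpow_add, ← (Commute.refl u).mul_zpow, huu, one_zpow, one_mul, zpow_one]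
    simp only []
    rcases hv' with rfl | rfl
    · rw [mul_one]
      by_cases h : t ∈ B
      · exact mul_mem h h
      · exact hidx' t ht t ht h h
    · rw [show t * v * (t * v) = t * (v * t * v⁻¹) * (v * v) by group, huu, mul_one]
      by_cases h : t ∈ B
      · exact mul_mem h (hBn v (hUP hu) t h)
      · refine hidx' t ht _ (hTconj v (hUP hu) t ht) h fun h' => h ?_
        have := hBn v (hUP hu) _ h'
        rwa [show v * (v * t * v⁻¹) * v⁻¹ = (v * v) * t * (v * v)⁻¹ by group, huu, one_mul, inv_one,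
          mul_one] at this
  -- `z` is not conjugate to `s`
  have hnc : ∀ g ∈ A, g * s * g⁻¹ ≠ z := by
    intro g hg hgs
    let C := X ⊓ centralizer ({z} : Set G)
    have hsing : ∀ x : G, Commute x z → x ∈ centralizer ({z} : Set G) := fun x hx =>
      mem_centralizer_iff.2 fun y hy => by rw [Set.mem_singleton_iff.1 hy]; exact hx.symm.eq
    have hT0C : T0 ≤ C := le_inf hT0max.1 fun x hx =>
      hsing x (mul_inv_eq_iff_eq_mul.1 (hzc x (hT0P hx)))
    let K := closure ({w, z} : Set G)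
    have hKp : IsPGroup 2 ↥(K.map (MulAut.conj g).toMonoidHom) := by
      refine (hS.2.1.to_le ?_).map _
      rw [closure_le]
      rintro x (rfl | rfl)
      exacts [S.mul_mem (hUS hu) (hPS (hTP (hBT hc0B))), hPS (hTP hzT)]
    have hKC : K.map (MulAut.conj g).toMonoidHom ≤ C := by
      rw [map_le_iff_le_comap, closure_le]
      have key : ∀ x ∈ X, Commute x s → g * x * g⁻¹ ∈ C := fun x hx hxs =>
        ⟨X.mul_mem (X.mul_mem (mem_sup_left hg) hx) (X.inv_mem (mem_sup_left hg)),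
          hsing _ (hgs ▸ (hxs.map (MulAut.conj g).toMonoidHom :))⟩
      rintro x (rfl | rfl)
      exacts [key _ (mul_mem huX (hcX c0 (hBT hc0B))) (mul_inv_eq_iff_eq_mul.1 hws),
        key _ (hcX z hzT) hszc.symm]
    obtain ⟨h, hh, hhK⟩ := (hT0max.of_le hT0C inf_le_left).exists_conj_le hKC hKp
    set y' := h * g with hy'
    have hwT0 : y' * w * y'⁻¹ ∈ T0 := by
      have := hhK _ ⟨w, subset_closure (Or.inl rfl), rfl⟩
      rwa [MulEquiv.coe_toMonoidHom, MulAut.conj_apply, show h * (g * w * g⁻¹) * h⁻¹ = y' * w * y'⁻¹ by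
        rw [hy']; group] at this
    have hzB' : y' * z * y'⁻¹ ∈ B := by
      have := hsquare _ hwT0
      rwa [show y' * w * y'⁻¹ * (y' * w * y'⁻¹) = y' * (w * w) * y'⁻¹ by group, hww] at this
    rcases honly _ hzB' (by
      rw [show y' * z * y'⁻¹ * (y' * z * y'⁻¹) = y' * (z * z) * y'⁻¹ by group, hz2, mul_one,
        mul_inv_cancel]) with h' | h'
    · exact hz1 (conj_eq_one_iff.1 h')
    · have hhz : h * z * h⁻¹ = z := by
        rw [← (mem_centralizer_iff.1 hh.2 z rfl), mul_inv_cancel_right]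
      have hys : y' * s * y'⁻¹ = z := by
        calc y' * s * y'⁻¹ = h * (g * s * g⁻¹) * h⁻¹ := by rw [hy']; group
          _ = z := by rw [hgs, hhz]
      exact hsz ((MulAut.conj y').injective (hys.trans h'.symm))
  -- Thompson transfer
  let TA : Sylow 2 ↥A :=
    { toSubgroup := T.subgroupOf A
      isPGroup' := hTmax.2.1.comap_subtype
      is_maximal' := fun {Y} hY hle => by
        have e := hTmax.2.2 (Y.map A.subtype) (map_subtype_le Y) (hY.map _)
          (by rw [← map_subgroupOf_eq_of_le hTmax.1]; exact map_mono hle)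
        exact map_injective A.subtype_injective (e.trans (map_subgroupOf_eq_of_le hTmax.1).symm) }
  have hBA : B ≤ A := hBT.trans inf_le_right
  have hodd : Odd (T.subgroupOf A).index := by
    rw [← Nat.not_even_iff_odd, even_iff_two_dvd]
    exact TA.not_dvd_index
  have hrel : (B.subgroupOf A).relIndex (T.subgroupOf A) = 2 := by
    rw [Subgroup.relIndex_subgroupOf hTmax.1]
    rw [Subgroup.relIndex, Subgroup.index_eq_two_iff]
    refine ⟨⟨s, hsT⟩, fun b => ?_⟩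
    simp only [mem_subgroupOf, Subgroup.coe_mul]
    by_cases hb : (b : G) ∈ B
    · refine Or.inr ⟨hb, fun h => hsB ?_⟩
      have := mul_mem (inv_mem hb) h
      rwa [inv_mul_cancel_left] at this
    · exact Or.inl ⟨hidx' b b.2 s hsT hb hsB, hb⟩
  obtain ⟨M, hMn, hMi, -⟩ := CfsgLib.ThompsonTransfer.exists_normal_index_two (T.subgroupOf A)
    (B.subgroupOf A) hodd hrel ⟨s, hsT.2⟩ (Subtype.ext (by simpa [pow_two] using hs2)) (fun g hg => by
      have hgB : (g : G) * s * (g : G)⁻¹ ∈ B := hg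
      rcases honly _ hgB (by
        rw [show (g : G) * s * (g : G)⁻¹ * ((g : G) * s * (g : G)⁻¹) = (g : G) * (s * s) * (g : G)⁻¹ by group,
          hs2, mul_one, mul_inv_cancel]) with h | h
      · exact hs1 (conj_eq_one_iff.1 h)
      · exact hnc g g.2 h)
  haveI := hMn
  have hperf : commutator ↥A = ⊤ := by
    rw [_root_.commutator_def, ← hA]
    exact CfsgLib.Components.layer_commutator_self
  haveI : IsMulCommutative (↥A ⧸ M) := by
    haveI : IsCyclic (↥A ⧸ M) := isCyclic_of_prime_card (p := 2) hMi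
    infer_instance
  have hle : commutator ↥A ≤ M := by
    rw [_root_.commutator_def, commutator_le]
    intro a _ b _
    rw [← QuotientGroup.eq_one_iff, ← QuotientGroup.mk'_apply, map_commutatorElement,
      commutatorElement_eq_one_iff_commute]
    exact mul_comm' _ _
  rw [hperf, top_le_iff] at hle
  rw [hle, Subgroup.index_top] at hMi
  omega

end Cfsg.Agent.S1915
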