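import Cfsg.Statements.S1916
import Cfsg.Agent.Lib.FourOnDihedral.Main

set_option autoImplicit false
open Cfsg
set_option linter.style.haveILetI false

namespace Cfsg.Agent.S1916

/-- Let L be a non-abelian simple subgroup of a finite group with dihedral Sylow 2-subgroups, and a, b two distinct commuting involutions normalizing L such that C_L(a) and C_L(b) have cyclic Sylow 2-subgroups and L is not contained in the subgroup generated by a, b, C_L(a) and C_L(b). Then ab centralizes L. -/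
theorem result {G : Type*} [Group G] [Finite G] (L : Subgroup G) (hL : IsSimpleGroup L) (hLn : ¬ IsMulCommutative L)
    (hD : ∀ P : Sylow 2 L, ∃ n : ℕ, Nonempty (↥(P : Subgroup L) ≃* DihedralGroup n))
    (a b : G) (ha : orderOf a = 2) (hb : orderOf b = 2) (hab : a ≠ b) (hc : a * b = b * a)
    (haL : a ∈ Subgroup.normalizer (L : Set G)) (hbL : b ∈ Subgroup.normalizer (L : Set G))
    (hCa : ∀ R : Sylow 2 ↥(L ⊓ Subgroup.centralizer ({a} : Set G)), IsCyclic R)
    (hCb : ∀ R : Sylow 2 ↥(L ⊓ Subgroup.centralizer ({b} : Set G)), IsCyclic R)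
    (hgen : ¬ L ≤ Subgroup.closure ({a, b} : Set G) ⊔ (L ⊓ Subgroup.centralizer ({a} : Set G)) ⊔ (L ⊓ Subgroup.centralizer ({b} : Set G))) :
    a * b ∈ Subgroup.centralizer (L : Set G) := by
  classical
  set H := Subgroup.normalizer (L : Set G) with hH
  have hLH : L ≤ H := Subgroup.le_normalizer
  set L' := L.subgroupOf H with hL'
  haveI hn : L'.Normal := Subgroup.normal_in_normalizer
  let eq : L' ≃* L := Subgroup.subgroupOfEquivOfLe hLH
  have hsimp : IsSimpleGroup L' := by
    haveI := hL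
    haveI : Nontrivial L' := eq.toEquiv.nontrivial
    exact IsSimpleGroup.isSimpleGroup_of_surjective eq.symm.toMonoidHom eq.symm.surjective
  have hnc' : ¬ IsMulCommutative L' := fun h => hLn ⟨⟨fun x y => by
    have := congrArg eq (h.1.1 (eq.symm x) (eq.symm y))
    simpa using this⟩⟩
  have hD' : ∀ P : Sylow 2 L', ∃ n : ℕ, Nonempty (↥(P : Subgroup L') ≃* DihedralGroup n) := by
    intro P
    obtain ⟨Q, hQ⟩ := (P.2.map eq.toMonoidHom).exists_le_sylow
    obtain ⟨n, ⟨e⟩⟩ := hD Q
    have heq : (P : Subgroup L').map eq.toMonoidHom = (Q : Subgroup L) := by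
      refine Subgroup.eq_of_le_of_card_ge hQ (le_of_eq ?_)
      haveI : Fact (Nat.Prime 2) := ⟨Nat.prime_two⟩
      rw [Subgroup.card_map_of_injective eq.injective, P.card_eq_multiplicity,
        Q.card_eq_multiplicity, Nat.card_congr eq.toEquiv]
    exact ⟨n, ⟨((eq.subgroupMap (P : Subgroup L')).trans (MulEquiv.subgroupCongr heq)).trans e⟩⟩
  have hF : ∀ c : G, (∀ R : Sylow 2 ↥(L ⊓ Subgroup.centralizer ({c} : Set G)), IsCyclic R) →
      ∀ hc : c ∈ H, CfsgLib.FourOnDihedral.NoFour L' ⟨c, hc⟩ := by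
    intro c hR hc x hx y hy hox hoy hxy hxc hyc
    refine Subtype.ext (CfsgLib.FourOnDihedral.noFour_of_cyclic L c hR _ hx _ hy ?_ ?_
      (congrArg Subtype.val hxy) (congrArg Subtype.val hxc) (congrArg Subtype.val hyc))
    · rw [Subgroup.coe_subtype, Subgroup.orderOf_coe, hox]
    · rw [Subgroup.orderOf_coe, hoy]
  set N := Subgroup.closure ({a, b} : Set G) ⊔ (L ⊓ Subgroup.centralizer ({a} : Set G)) ⊔
    (L ⊓ Subgroup.centralizer ({b} : Set G))
  have key := CfsgLib.FourOnDihedral.main L' hsimp hnc' hD' (a := ⟨a, haL⟩) (b := ⟨b, hbL⟩)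
    (Subtype.ext (CfsgLib.Invol.mul_self_eq_one ha)) (Subtype.ext (CfsgLib.Invol.mul_self_eq_one hb))
    (Subtype.ext hc) (hF a hCa haL) (hF b hCb hbL) (N.subgroupOf H)
    (fun x hx hxa => Subgroup.mem_sup_left (Subgroup.mem_sup_right
      ⟨hx, Subgroup.mem_centralizer_singleton_iff.2 (congrArg Subtype.val hxa)⟩))
    (fun x hx hxb => Subgroup.mem_sup_right
      ⟨hx, Subgroup.mem_centralizer_singleton_iff.2 (congrArg Subtype.val hxb)⟩)
    (fun hle => hgen fun x hx => hle (show (⟨x, hLH hx⟩ : H) ∈ L' from hx))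
  exact Subgroup.mem_centralizer_iff.2 fun l hl =>
    (congrArg Subtype.val (key ⟨l, hLH hl⟩ hl)).symm

end Cfsg.Agent.S1916
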