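import Cfsg.Statements.S1921
import Cfsg.Agent.Lib.Components.Layer

set_option autoImplicit false
open Cfsg

namespace Cfsg.Agent.S1921

/-- Let a be an involution of a finite group H and L a component of H with a L a⁻¹ ≠ L; put M = ⟨L, aLa⁻¹⟩ and let J be the subgroup generated by the elements x · a x a⁻¹ with x ∈ L (the diagonal). Then every element of M outside J·Z(M) generates M together with J. -/
theorem result {H : Type*} [Group H] [Finite H] (a : H) (ha : orderOf a = 2) (L : Subgroup H) (hL : Cfsg.IsComponent L)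
    (hLa : L.map (MulAut.conj a).toMonoidHom ≠ L) (x : H) (hxM : x ∈ L ⊔ L.map (MulAut.conj a).toMonoidHom)
    (hxJ : x ∉ Subgroup.closure {y : H | ∃ l ∈ L, y = l * (a * l * a⁻¹)} ⊔
      ((L ⊔ L.map (MulAut.conj a).toMonoidHom) ⊓ Subgroup.centralizer ((L ⊔ L.map (MulAut.conj a).toMonoidHom : Subgroup H) : Set H))) :
    Subgroup.closure {y : H | ∃ l ∈ L, y = l * (a * l * a⁻¹)} ⊔ Subgroup.zpowers x = L ⊔ L.map (MulAut.conj a).toMonoidHom := by
  set c := (MulAut.conj a).toMonoidHom with hc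
  set K := L.map c with hK
  set M := L ⊔ K with hM
  set J := Subgroup.closure {y : H | ∃ l ∈ L, y = l * (a * l * a⁻¹)} with hJ
  have hcomm : ∀ u ∈ L, ∀ v ∈ K, u * v = v * u := by
    intro u hu v hv
    have h := CfsgLib.Components.component_commutator_of_ne hL
      (CfsgLib.Components.component_map_conj hL a) (Ne.symm hLa)
    exact ((Subgroup.mem_centralizer_iff).1
      (CfsgLib.Components.le_centralizer_of_commutator_eq_bot h hu) v hv).symm
  have hcK : ∀ u ∈ L, a * u * a⁻¹ ∈ K := fun u hu => ⟨u, hu, by simp [hc]⟩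
  have hJM : J ≤ M := by
    rw [hJ, Subgroup.closure_le]
    rintro _ ⟨l, hl, rfl⟩
    exact mul_mem (Subgroup.mem_sup_left hl) (Subgroup.mem_sup_right (hcK l hl))
  set Hx := J ⊔ Subgroup.zpowers x with hHx
  have hψ : ∀ l ∈ L, l * (a * l * a⁻¹) ∈ J := fun l hl => Subgroup.subset_closure ⟨l, hl, rfl⟩
  -- decompose `x`
  obtain ⟨l, hl, v, hv, hlv⟩ : ∃ l ∈ L, ∃ v ∈ K, l * v = x := by
    have hle : L ≤ Subgroup.normalizer (K : Set H) :=
      CfsgLib.Components.le_normalizer_of_commutator_eq_bot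
        (CfsgLib.Components.component_commutator_of_ne hL
          (CfsgLib.Components.component_map_conj hL a) (Ne.symm hLa))
    have := hxM
    rw [← SetLike.mem_coe, Subgroup.coe_mul_of_left_le_normalizer_right L K hle] at this
    exact this
  obtain ⟨m, hm, rfl⟩ := hv
  have hy : l * m⁻¹ ∈ Hx := by
    have h1 : x * (m * (a * m * a⁻¹))⁻¹ ∈ Hx := mul_mem
      (Subgroup.mem_sup_right (Subgroup.mem_zpowers x))
      (inv_mem (Subgroup.mem_sup_left (hψ m hm)))
    have h2 : x * (m * (a * m * a⁻¹))⁻¹ = l * m⁻¹ := by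
      rw [← hlv]; simp [hc, mul_assoc]
    rwa [h2] at h1
  have hyL : l * m⁻¹ ∈ L := mul_mem hl (inv_mem hm)
  haveI hN : ((Hx ⊓ L).subgroupOf L).Normal := by
    refine ⟨fun y hy' u => ?_⟩
    rw [Subgroup.mem_subgroupOf] at hy' ⊢
    refine ⟨?_, (u * y * u⁻¹).2⟩
    have hu := Subgroup.mem_sup_left (T := Subgroup.zpowers x) (hψ u u.2)
    have h1 := mul_mem (mul_mem hu hy'.1) (inv_mem hu)
    have h2 : (u : H) * (a * u * a⁻¹) * y * ((u : H) * (a * u * a⁻¹))⁻¹ = u * y * (u : H)⁻¹ := by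
      have h3 := hcomm y y.2 _ (hcK u u.2)
      calc (u : H) * (a * u * a⁻¹) * y * ((u : H) * (a * u * a⁻¹))⁻¹
          = u * ((a * u * a⁻¹) * y) * (a * u * a⁻¹)⁻¹ * (u : H)⁻¹ := by simp [mul_assoc]
        _ = u * ((y : H) * (a * u * a⁻¹)) * (a * u * a⁻¹)⁻¹ * (u : H)⁻¹ := by rw [h3]
        _ = u * y * (u : H)⁻¹ := by simp [mul_assoc]
    rw [h2] at h1
    exact h1
  have hLH : L ≤ Hx := by
    rcases CfsgLib.Components.quasisimple_normal_top_or_central hL.2 hN with h | h
    · exact fun u hu => ((Subgroup.subgroupOf_eq_top.1 h) hu).1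
    · exfalso
      have hz := h (show (⟨_, hyL⟩ : L) ∈ (Hx ⊓ L).subgroupOf L from ⟨hy, hyL⟩)
      refine hxJ ?_
      have hZ : l * m⁻¹ ∈ M ⊓ Subgroup.centralizer (M : Set H) := by
        refine ⟨Subgroup.mem_sup_left hyL, ?_⟩
        suffices M ≤ Subgroup.centralizer {l * m⁻¹} from
          Subgroup.mem_centralizer_iff.2 fun w hw => Subgroup.mem_centralizer_singleton_iff.1 (this hw)
        refine sup_le (fun u hu => ?_) (fun u hu => ?_)
        · exact Subgroup.mem_centralizer_singleton_iff.2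
            (congrArg Subtype.val (Subgroup.mem_center_iff.1 hz ⟨u, hu⟩))
        · exact Subgroup.mem_centralizer_singleton_iff.2 (hcomm _ hyL u hu).symm
      have h2 : x = l * m⁻¹ * (m * (a * m * a⁻¹)) := by
        rw [← hlv]; simp [hc, mul_assoc]
      rw [h2]
      exact mul_mem (Subgroup.mem_sup_right hZ) (Subgroup.mem_sup_left (hψ m hm))
  refine le_antisymm (sup_le hJM ((Subgroup.zpowers_le).2 hxM)) (sup_le hLH ?_)
  rintro _ ⟨u, hu, rfl⟩
  have h1 := mul_mem (inv_mem (hLH hu)) (Subgroup.mem_sup_left (T := Subgroup.zpowers x) (hψ u hu))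
  have h2 : c u = u⁻¹ * (u * (a * u * a⁻¹)) := by simp [hc]
  rw [h2]
  exact h1

end Cfsg.Agent.S1921
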