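import Cfsg.Statements.S1922
import Cfsg.Agent.Lib.TwoFusion.Isolated
import Mathlib.GroupTheory.Perm.Cycle.Type
import Mathlib.GroupTheory.Sylow
import Mathlib.Tactic.Group

set_option autoImplicit false
open Cfsg

namespace Cfsg.Agent.S1922

open Subgroup
open CfsgLib.TwoFusion hiding inv_eq_self_of_orderOf_eq_two

/-- An involution whose only fixed point is `q` makes the cardinality odd; an involution on a
set of odd size fixes a point. -/
theorem odd_card_of_unique_fixed {α : Type*} [Finite α] (σ : Equiv.Perm α) (hσ : ∀ a, σ (σ a) = a) (q : α)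
    (hq : σ q = q) (huniq : ∀ a, σ a = a → a = q) : Odd (Nat.card α) := by
  classical
  haveI := Fintype.ofFinite α
  have h2 : σ ^ 2 ^ 1 = 1 := Equiv.ext fun a => by simpa [pow_two] using hσ a
  have h := Equiv.Perm.card_compl_support_modEq h2
  have hc : σ.supportᶜ = {q} := by
    ext a
    simp only [Finset.mem_compl, Equiv.Perm.mem_support, not_not, Finset.mem_singleton]
    exact ⟨huniq a, fun h => h ▸ hq⟩
  rw [hc, Finset.card_singleton] at h
  rw [Nat.odd_iff, Nat.card_eq_fintype_card]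
  exact h.symm

theorem exists_fixed_of_odd {α : Type*} [Finite α] (σ : Equiv.Perm α) (hσ : ∀ a, σ (σ a) = a)
    (hodd : Odd (Nat.card α)) : ∃ a, σ a = a := by
  classical
  haveI := Fintype.ofFinite α
  have h2 : σ ^ 2 ^ 1 = 1 := Equiv.ext fun a => by simpa [pow_two] using hσ a
  refine Equiv.Perm.exists_fixed_point_of_prime ?_ h2
  rw [← Nat.card_eq_fintype_card]
  exact hodd.not_two_dvd_nat

variable {G : Type*} [Group G] [Finite G] {z : G} {H : Subgroup G}

theorem mem_map_conj_iff {K : Subgroup G} {g x : G} :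
    x ∈ K.map (MulAut.conj g).toMonoidHom ↔ g⁻¹ * x * g ∈ K := by
  constructor
  · rintro ⟨k, hk, rfl⟩
    simpa [mul_assoc] using hk
  · exact fun h => ⟨_, h, by simp [mul_assoc]⟩

/-- The hypothesis in conjugation form. -/
def OnePoint (z : G) (H : Subgroup G) : Prop := ∀ g : G, g⁻¹ * z * g ∈ H ↔ g ∈ H

theorem OnePoint.self_mem (h0 : OnePoint z H) : z ∈ H := by simpa using (h0 1).2 (one_mem H)

theorem OnePoint.mem_of_commute (h0 : OnePoint z H) {g : G} (hg : Commute g z) : g ∈ H := by
  refine (h0 g).1 ?_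
  rw [mul_assoc, ← hg.eq, inv_mul_cancel_left]
  exact h0.self_mem

theorem OnePoint.conj_mem (h0 : OnePoint z H) {g : G} : g * z * g⁻¹ ∈ H ↔ g ∈ H := by
  simpa using h0 g⁻¹

/-- A conjugate of `z` outside `H` has product of odd order with `z`. -/
theorem odd_mul (hz : orderOf z = 2) (h0 : OnePoint z H)
    (hC : ∀ t : G, IsConj z t → t ≠ z → t * z = z * t → centralizer ({z * t} : Set G) ≤ H)
    {y : G} (hy : IsConj z y) (hyH : y ∉ H) : Odd (orderOf (z * y)) := by
  by_contra hne
  rw [Nat.not_odd_iff_even] at hne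
  obtain ⟨m, hm⟩ := hne
  obtain ⟨g, rfl⟩ := isConj_iff.1 hy
  set y := g * z * g⁻¹
  have hy2 : orderOf y = 2 := (orderOf_conj_eq g z).trans hz
  have hmpos : 0 < m := by have := orderOf_pos (z * y); omega
  set c := (z * y) ^ m with hc
  have hcc : c * c = 1 := by rw [hc, ← pow_add, ← hm, pow_orderOf_eq_one]
  have hc1 : c ≠ 1 := fun h => by
    have := Nat.le_of_dvd hmpos (orderOf_dvd_of_pow_eq_one h)
    omega
  have hcinv : c⁻¹ = c := inv_eq_of_mul_eq_one_right hcc
  have hcy : Commute c y := by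
    have h : y * c * y⁻¹ = c⁻¹ := inverted_pow (right_inverts_mul hy2 hz) m
    rw [hcinv] at h
    exact (mul_inv_eq_iff_eq_mul.1 h).symm
  have hcz : Commute c z := by
    have h : z * c * z⁻¹ = c⁻¹ := inverted_pow (left_inverts_mul hy2 hz) m
    rw [hcinv] at h
    exact (mul_inv_eq_iff_eq_mul.1 h).symm
  have hcH : c ∈ H := h0.mem_of_commute hcz
  -- `z * c` is a conjugate of `z` commuting with `z`
  have ht : IsConj z (z * c) := by
    obtain ⟨r, -, hr⟩ := exists_conj_pow_mul_eq hz hy2 m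
    have e : (y * z) ^ m * z = z * c := by
      have : (y * z) ^ m = c := by
        rw [← hcinv, hc, ← inv_pow, mul_inv_rev, inv_eq_self_of_orderOf_eq_two hz,
          inv_eq_self_of_orderOf_eq_two hy2]
      rw [this, hcz.eq]
    rw [e] at hr
    rcases hr with hr | hr
    · exact isConj_iff.2 ⟨r, hr⟩
    · exact (isConj_iff.2 ⟨g, rfl⟩).trans (isConj_iff.2 ⟨r, hr⟩)
  have hzz := mul_self_of_orderOf_eq_two hz
  have hsub := hC (z * c) ht (fun h => hc1 (mul_eq_left.1 h))
    (by rw [mul_assoc, hcz.eq])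
  refine hyH (hsub (mem_centralizer_singleton_iff.2 ?_))
  rw [← mul_assoc z z c, hzz, one_mul]
  exact hcy.eq.symm

/-- The conjugates of `z` exchanging the points `H` and `xH`. -/
def Swap (z : G) (H : Subgroup G) (x : G) : Type _ := {s : G // IsConj z s ∧ x⁻¹ * s ∈ H}

/-- The conjugates of `z` in `H`. -/
def Local (z : G) (H : Subgroup G) : Type _ := {u : G // IsConj z u ∧ u ∈ H}

instance instFiniteSwap (x : G) : Finite (Swap z H x) := Subtype.finite
instance instFiniteLocal : Finite (Local z H) := Subtype.finite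

theorem card_swap (hz : orderOf z = 2) (h0 : OnePoint z H)
    (hC : ∀ t : G, IsConj z t → t ≠ z → t * z = z * t → centralizer ({z * t} : Set G) ≤ H)
    {x : G} (hx : x ∉ H) : Nat.card (Swap z H x) = Nat.card (Local z H) := by
  have hzz := mul_self_of_orderOf_eq_two hz
  have hsH : ∀ {s : G}, x⁻¹ * s ∈ H → s ∉ H := fun {s} h hs =>
    hx (inv_mem_iff.1 (by simpa using mul_mem h (inv_mem hs)))
  let f : Swap z H x → Local z H := fun s => ⟨x⁻¹ * (s.1 * z * s.1⁻¹) * x,
    isConj_iff.2 ⟨x⁻¹ * s.1, by group⟩, by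
      have e : x⁻¹ * (s.1 * z * s.1⁻¹) * x = (x⁻¹ * s.1) * z * (x⁻¹ * s.1)⁻¹ := by group
      rw [e]
      exact mul_mem (mul_mem s.2.2 h0.self_mem) (inv_mem s.2.2)⟩
  refine Nat.card_eq_of_bijective f ⟨?_, ?_⟩
  · rintro ⟨s, hs, hsx⟩ ⟨s', hs', hsx'⟩ he
    have he' : s * z * s⁻¹ = s' * z * s'⁻¹ :=
      mul_left_cancel (mul_right_cancel (congrArg Subtype.val he :
        x⁻¹ * (s * z * s⁻¹) * x = x⁻¹ * (s' * z * s'⁻¹) * x))
    refine Subtype.ext (show s = s' from ?_)
    have ho : ∀ {s : G}, IsConj z s → x⁻¹ * s ∈ H →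
        Odd (orderOf (z * s)) ∧ (z * s) * (z * s) = z * (s * z * s⁻¹) := by
      intro s hs hsx
      obtain ⟨g, rfl⟩ := isConj_iff.1 hs
      refine ⟨odd_mul hz h0 hC hs (hsH hsx), ?_⟩
      rw [inv_eq_self_of_orderOf_eq_two ((orderOf_conj_eq g z).trans hz)]
      simp [mul_assoc]
    obtain ⟨ho1, he1⟩ := ho hs hsx
    obtain ⟨ho2, he2⟩ := ho hs' hsx'
    exact mul_left_cancel (sq_injective_of_odd ho1 ho2 (by rw [he1, he2, he']))
  · rintro ⟨u, hu, huH⟩
    obtain ⟨k, hk⟩ := isConj_iff.1 hu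
    have hkH : k ∈ H := h0.conj_mem.1 (hk ▸ huH)
    have hy : IsConj z (x * u * x⁻¹) := hu.trans (isConj_iff.2 ⟨x, rfl⟩)
    have hy2 : orderOf (x * u * x⁻¹) = 2 := by
      rw [orderOf_conj_eq, ← hk, orderOf_conj_eq, hz]
    have hyH : x * u * x⁻¹ ∉ H := by
      intro h
      rw [← hk, show x * (k * z * k⁻¹) * x⁻¹ = (x * k) * z * (x * k)⁻¹ by group] at h
      exact hx ((mul_mem_cancel_right hkH).1 (h0.conj_mem.1 h))
    have ho := odd_mul hz h0 hC hy hyH
    set e := z * (x * u * x⁻¹) with he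
    have hinv : z * e * z⁻¹ = e⁻¹ := left_inverts_mul hy2 hz
    set r := oddSqrt e with hr
    have hr2 : r * r = e := oddSqrt_sq ho
    have hrinv : z * r * z⁻¹ = r⁻¹ := by rw [hr, conj_oddSqrt, hinv, inv_oddSqrt]
    set q := oddSqrt r with hq
    have hq2 : q * q = r := oddSqrt_sq (oddSqrt_odd ho)
    have hqinv : z * q * z⁻¹ = q⁻¹ := by rw [hq, conj_oddSqrt, hrinv, inv_oddSqrt]
    have hzi := inv_eq_self_of_orderOf_eq_two hz
    set s := z * r with hs
    have hsz : q⁻¹ * z * q = s := by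
      have e1 : z * q = q⁻¹ * z := by rw [← mul_inv_eq_iff_eq_mul, hqinv]
      calc q⁻¹ * z * q = z * q * q := by rw [e1]
        _ = s := by rw [mul_assoc, hq2]
    have hsc : IsConj z s := isConj_iff.2 ⟨q⁻¹, by rw [inv_inv, hsz]⟩
    have hszs : s * z * s⁻¹ = x * u * x⁻¹ := by
      calc s * z * s⁻¹ = z * (r * z * r⁻¹) * z⁻¹ := by rw [hs]; group
        _ = z * e := by rw [conj_of_inverted hrinv, hr2, ← mul_assoc, mul_inv_cancel_right]
        _ = x * u * x⁻¹ := by rw [he, ← mul_assoc, hzz, one_mul]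
    have hsx : x⁻¹ * s ∈ H := by
      have hc : Commute (s⁻¹ * (x * k)) z := by
        show _ = _
        rw [← mul_inv_eq_iff_eq_mul]
        calc s⁻¹ * (x * k) * z * (s⁻¹ * (x * k))⁻¹ = s⁻¹ * (x * (k * z * k⁻¹) * x⁻¹) * s := by group
          _ = z := by rw [hk, ← hszs]; group
      have h := mul_mem hkH (inv_mem (h0.mem_of_commute hc))
      simpa [mul_assoc] using h
    refine ⟨⟨s, hsc, hsx⟩, Subtype.ext ?_⟩
    show x⁻¹ * (s * z * s⁻¹) * x = u
    rw [hszs]; group

/-- Conjugation by an element exchanging or fixing the two points preserves `Swap`. -/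
noncomputable def swapPerm (z : G) (H : Subgroup G) (x a : G)
    (ha : ∀ s : G, x⁻¹ * s ∈ H → IsConj z s → x⁻¹ * (a * s * a⁻¹) ∈ H) (haa : a * a = 1) :
    Swap z H x ≃ Swap z H x :=
  have hinv : ∀ s : G, a * (a * s * a⁻¹) * a⁻¹ = s := fun s => by
    calc a * (a * s * a⁻¹) * a⁻¹ = (a * a) * s * (a * a)⁻¹ := by group
      _ = s := by rw [haa]; simp
  { toFun := fun s => ⟨a * s.1 * a⁻¹, s.2.1.trans (isConj_iff.2 ⟨a, rfl⟩), ha _ s.2.2 s.2.1⟩
    invFun := fun s => ⟨a * s.1 * a⁻¹, s.2.1.trans (isConj_iff.2 ⟨a, rfl⟩), ha _ s.2.2 s.2.1⟩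
    left_inv := fun s => Subtype.ext (hinv s.1)
    right_inv := fun s => Subtype.ext (hinv s.1) }

theorem card_local (h0 : OnePoint z H) :
    Nat.card (Local z H) = (centralizer ({z} : Set G)).relIndex H := by
  let C := (centralizer ({z} : Set G)).subgroupOf H
  let f : ↥H ⧸ C → Local z H := Quotient.lift
    (fun h : ↥H => (⟨(h : G) * z * (h : G)⁻¹, isConj_iff.2 ⟨h, rfl⟩,
      mul_mem (mul_mem h.2 h0.self_mem) (inv_mem h.2)⟩ : Local z H))
    (fun a b hab => Subtype.ext (by
      replace hab := QuotientGroup.leftRel_apply.1 hab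
      have hc : ((a : G)⁻¹ * (b : G)) * z = z * ((a : G)⁻¹ * (b : G)) :=
        mem_centralizer_singleton_iff.1 hab
      show (a : G) * z * (a : G)⁻¹ = (b : G) * z * (b : G)⁻¹
      calc (a : G) * z * (a : G)⁻¹ = a * (z * ((a : G)⁻¹ * (b : G))) * (b : G)⁻¹ := by group
        _ = _ := by rw [← hc]; group))
  refine (Nat.card_eq_of_bijective f ⟨?_, ?_⟩).symm
  · intro a b
    induction a using QuotientGroup.induction_on with
    | _ a =>
      induction b using QuotientGroup.induction_on with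
      | _ b =>
        intro hab
        have h : (a : G) * z * (a : G)⁻¹ = (b : G) * z * (b : G)⁻¹ := congrArg Subtype.val hab
        rw [QuotientGroup.eq]
        refine mem_centralizer_singleton_iff.2 ?_
        show ((a : G)⁻¹ * (b : G)) * z = z * ((a : G)⁻¹ * (b : G))
        calc ((a : G)⁻¹ * (b : G)) * z = (a : G)⁻¹ * ((b : G) * z * (b : G)⁻¹) * b := by group
          _ = _ := by rw [← h]; group
  · rintro ⟨u, hu, huH⟩
    obtain ⟨k, rfl⟩ := isConj_iff.1 hu
    exact ⟨QuotientGroup.mk (⟨k, h0.conj_mem.1 huH⟩ : ↥H), rfl⟩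

/-- Let z be an involution of a finite group G and H a proper subgroup such that z lies in gHg⁻¹ exactly when g ∈ H. Then the following are equivalent: (1) for every conjugate t ≠ z of z commuting with z, the product zt lies in gHg⁻¹ exactly when g ∈ H; (2) z lies in the centre of some Sylow 2-subgroup of G, and for every conjugate t ≠ z of z commuting with z, the centralizer of zt is contained in H. -/
theorem result {G : Type*} [Group G] [Finite G] (z : G) (hz : orderOf z = 2) (H : Subgroup G) (hH : H ≠ ⊤)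
    (h0 : ∀ g : G, z ∈ H.map (MulAut.conj g).toMonoidHom ↔ g ∈ H) :
    (∀ t : G, IsConj z t → t ≠ z → t * z = z * t → ∀ g : G, z * t ∈ H.map (MulAut.conj g).toMonoidHom ↔ g ∈ H) ↔
      ((∃ P : Sylow 2 G, z ∈ (Subgroup.center ↥(P : Subgroup G)).map (P : Subgroup G).subtype) ∧
        ∀ t : G, IsConj z t → t ≠ z → t * z = z * t → Subgroup.centralizer ({z * t} : Set G) ≤ H) := by
  simp only [mem_map_conj_iff] at h0 ⊢
  have h0' : OnePoint z H := h0
  have hzz := mul_self_of_orderOf_eq_two hz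
  have hzi := inv_eq_self_of_orderOf_eq_two hz
  obtain ⟨x, hx⟩ : ∃ x, x ∉ H := by
    by_contra h
    push Not at h
    exact hH ((Subgroup.eq_top_iff' H).2 h)
  constructor
  · intro h1
    have hC : ∀ t : G, IsConj z t → t ≠ z → t * z = z * t → centralizer ({z * t} : Set G) ≤ H := by
      intro t ht htz hc g hg
      refine (h1 t ht htz hc g).1 ?_
      rw [mul_assoc, ← mem_centralizer_singleton_iff.1 hg, inv_mul_cancel_left]
      exact mul_mem h0'.self_mem (h0'.mem_of_commute hc)
    refine ⟨?_, hC⟩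
    -- the class of `z` has odd size
    have hodd : Odd ((centralizer ({z} : Set G)).relIndex H) := by
      rw [← card_local h0', ← card_swap hz h0' hC hx]
      obtain ⟨s₀⟩ : Nonempty (Swap z H x) := by
        refine (Nat.card_pos_iff.1 ?_).1
        rw [card_swap hz h0' hC hx]
        haveI : Nonempty (Local z H) := ⟨⟨z, IsConj.refl z, h0'.self_mem⟩⟩
        exact Nat.card_pos
      obtain ⟨g₀, hg₀⟩ := isConj_iff.1 s₀.2.1
      have hs2 : orderOf s₀.1 = 2 := by rw [← hg₀, orderOf_conj_eq, hz]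
      have hsi := inv_eq_self_of_orderOf_eq_two hs2
      have hs₀H : s₀.1 ∉ H := fun h =>
        hx (inv_mem_iff.1 (by simpa using mul_mem s₀.2.2 (inv_mem h)))
      let σ := swapPerm z H x s₀.1 (fun s hs hsc => by
        obtain ⟨g, hg⟩ := isConj_iff.1 hsc
        have hsi' : s⁻¹ = s := inv_eq_self_of_orderOf_eq_two (by rw [← hg, orderOf_conj_eq, hz])
        have h := mul_mem (mul_mem s₀.2.2 (inv_mem hs)) s₀.2.2
        rw [mul_inv_rev, inv_inv, hsi'] at h
        rw [hsi]
        simpa [mul_assoc] using h) (mul_self_of_orderOf_eq_two hs2)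
      refine odd_card_of_unique_fixed σ (fun a => σ.left_inv a) s₀
        (Subtype.ext (mul_inv_cancel_right _ _)) fun s hs => ?_
      by_contra hne
      have hc : s₀.1 * s.1 * s₀.1⁻¹ = s.1 := congrArg Subtype.val hs
      obtain ⟨g, hg⟩ := isConj_iff.1 s.2.1
      have hsi' : s.1⁻¹ = s.1 := inv_eq_self_of_orderOf_eq_two (by rw [← hg, orderOf_conj_eq, hz])
      have hcomm : s₀.1 * s.1 = s.1 * s₀.1 := mul_inv_eq_iff_eq_mul.1 hc
      set t := g⁻¹ * s₀.1 * g with ht
      have htc : IsConj z t := s₀.2.1.trans (isConj_iff.2 ⟨g⁻¹, by rw [inv_inv]⟩)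
      have hzt : z = g⁻¹ * s.1 * g := by rw [← hg]; group
      have htz : t ≠ z := by
        intro h
        have h : g⁻¹ * s₀.1 * g = g⁻¹ * s.1 * g := h.trans hzt
        rw [mul_left_inj, mul_right_inj] at h
        exact hne (Subtype.ext h.symm)
      have htcomm : t * z = z * t := by
        calc t * z = t * (g⁻¹ * s.1 * g) := congrArg (t * ·) hzt
          _ = g⁻¹ * (s₀.1 * s.1) * g := by rw [ht]; group
          _ = (g⁻¹ * s.1 * g) * t := by rw [hcomm, ht]; group
          _ = z * t := congrArg (· * t) hzt.symm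
      have hp : s.1 * s₀.1 ∈ H := by
        have h := mul_mem (inv_mem s.2.2) s₀.2.2
        rw [mul_inv_rev, inv_inv, hsi'] at h
        simpa [mul_assoc] using h
      have hgH : g⁻¹ ∈ H := (h1 t htc htz htcomm g⁻¹).1 (by
        have e : g⁻¹⁻¹ * (z * t) * g⁻¹ = s.1 * s₀.1 :=
          (congrArg (fun w => g⁻¹⁻¹ * (w * t) * g⁻¹) hzt).trans (by rw [ht]; group)
        rw [e]; exact hp)
      have hs : s.1 ∈ H := by
        rw [← hg]
        exact mul_mem (mul_mem (inv_mem_iff.1 hgH) h0'.self_mem) hgH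
      exact hx (inv_mem_iff.1 (by simpa using mul_mem s.2.2 (inv_mem hs)))
    have hCle : centralizer ({z} : Set G) ≤ H := fun g hg =>
      h0'.mem_of_commute (mem_centralizer_singleton_iff.1 hg)
    have hHodd : Odd H.index := by
      rw [Subgroup.index]
      let σ : G ⧸ H ≃ G ⧸ H := MulAction.toPerm z
      refine odd_card_of_unique_fixed σ (fun a => ?_) (QuotientGroup.mk (1 : G)) ?_ ?_
      · show z • z • a = a
        rw [smul_smul, hzz, one_smul]
      · show QuotientGroup.mk (z * 1) = _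
        rw [QuotientGroup.eq]
        simpa using inv_mem h0'.self_mem
      · intro a
        induction a using QuotientGroup.induction_on with
        | _ g =>
          intro ha
          have ha' : (QuotientGroup.mk (z * g) : G ⧸ H) = QuotientGroup.mk g := ha
          rw [QuotientGroup.eq] at ha'
          rw [QuotientGroup.eq]
          have hg : g⁻¹ * z * g ∈ H := by simpa [mul_assoc, hzi] using inv_mem ha'
          simpa using (h0 g).1 hg
    have hidx : ¬ 2 ∣ (centralizer ({z} : Set G)).index := by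
      rw [← relIndex_mul_index hCle]
      exact (hodd.mul hHodd).not_two_dvd_nat
    haveI : Fact (Nat.Prime 2) := ⟨Nat.prime_two⟩
    obtain ⟨Q⟩ : Nonempty (Sylow 2 ↥(centralizer ({z} : Set G))) := inferInstance
    have hQidx : ¬ 2 ∣ ((Q : Subgroup _).map (centralizer ({z} : Set G)).subtype).index := by
      rw [index_map_subtype]
      exact Nat.prime_two.not_dvd_mul Q.not_dvd_index hidx
    let P : Sylow 2 G := (Q.isPGroup'.map (centralizer ({z} : Set G)).subtype).toSylow hQidx
    refine ⟨P, ?_⟩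
    have hzC : z ∈ centralizer ({z} : Set G) := mem_centralizer_singleton_iff.2 rfl
    have hzc : (⟨z, hzC⟩ : centralizer ({z} : Set G)) ∈ center ↥(centralizer ({z} : Set G)) :=
      Subgroup.mem_center_iff.2 fun a => Subtype.ext (mem_centralizer_singleton_iff.1 a.2)
    have hzQ : (⟨z, hzC⟩ : centralizer ({z} : Set G)) ∈ (Q : Subgroup _) := by
      have hn : IsPGroup 2 ↥(zpowers (⟨z, hzC⟩ : centralizer ({z} : Set G))) :=
        IsPGroup.of_card (n := 1) (by rw [Nat.card_zpowers, pow_one, Subgroup.orderOf_mk, hz])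
      haveI : (zpowers (⟨z, hzC⟩ : centralizer ({z} : Set G))).Normal := ⟨fun a ha g => by
        obtain ⟨i, rfl⟩ := ha
        refine ⟨i, ?_⟩
        have hc : Commute g ((⟨z, hzC⟩ : centralizer ({z} : Set G)) ^ i) :=
          (show Commute g _ from Subgroup.mem_center_iff.1 hzc g).zpow_right i
        show _ = g * _ * g⁻¹
        rw [hc.eq, mul_inv_cancel_right]⟩
      exact (Q.is_maximal' (hn.to_sup_of_normal_left Q.isPGroup') le_sup_right).le (mem_sup_left (mem_zpowers _))
    refine ⟨⟨z, ⟨_, hzQ, rfl⟩⟩, Subgroup.mem_center_iff.2 ?_, rfl⟩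
    rintro ⟨_, a, -, rfl⟩
    exact Subtype.ext (mem_centralizer_singleton_iff.1 a.2)
  · rintro ⟨⟨P, hzP⟩, hC⟩ t ht htz hc g
    refine ⟨fun hd => ?_, fun hg => mul_mem (mul_mem (inv_mem hg)
      (mul_mem h0'.self_mem (h0'.mem_of_commute hc))) hg⟩
    by_contra hg
    have hodd : Odd (Nat.card (Swap z H g)) := by
      rw [card_swap hz h0' hC hg, card_local h0', ← Nat.not_even_iff_odd, even_iff_two_dvd]
      intro h2
      obtain ⟨w, hw, hwz⟩ := hzP
      have hPC : (P : Subgroup G) ≤ centralizer ({z} : Set G) := by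
        intro a ha
        have h := congrArg Subtype.val (Subgroup.mem_center_iff.1 hw ⟨a, ha⟩)
        refine mem_centralizer_singleton_iff.2 ?_
        rw [← hwz]
        exact h
      haveI : Fact (Nat.Prime 2) := ⟨Nat.prime_two⟩
      exact P.not_dvd_index ((h2.trans (relIndex_dvd_index_of_le fun a ha =>
        h0'.mem_of_commute (mem_centralizer_singleton_iff.1 ha))).trans (index_dvd_of_le hPC))
    obtain ⟨k, hk⟩ := isConj_iff.1 ht
    have ht2 : orderOf t = 2 := by rw [← hk, orderOf_conj_eq, hz]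
    have hdd : (z * t) * (z * t) = 1 := by
      calc z * t * (z * t) = z * (t * z) * t := by group
        _ = (z * z) * (t * t) := by rw [hc]; group
        _ = 1 := by rw [hzz, mul_self_of_orderOf_eq_two ht2, one_mul]
    let σ := swapPerm z H g (z * t) (fun s hs _ => by
      have h := mul_mem (mul_mem hd hs) (inv_mem (mul_mem h0'.self_mem (h0'.mem_of_commute hc)))
      simpa [mul_assoc] using h) hdd
    obtain ⟨s, hs⟩ := exists_fixed_of_odd σ (fun a => σ.left_inv a) hodd
    have hs' : z * t * s.1 * (z * t)⁻¹ = s.1 := congrArg Subtype.val hs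
    have hsH : s.1 ∈ H := hC t ht htz hc
      (mem_centralizer_singleton_iff.2 (mul_inv_eq_iff_eq_mul.1 hs').symm)
    exact hg (inv_mem_iff.1 (by simpa using mul_mem s.2.2 (inv_mem hsH)))

end Cfsg.Agent.S1922
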