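import Cfsg.Statements.S1924
import Cfsg.Agent.Lib.Fusion.ThompsonTransfer
import Cfsg.Agent.Lib.Transfer.PResidual
import Mathlib.GroupTheory.Perm.Cycle.Type
import Mathlib.GroupTheory.SpecificGroups.Dihedral
import Mathlib.GroupTheory.GroupAction.Quotient
import Mathlib.Tactic.Group

set_option autoImplicit false
open Cfsg

namespace Cfsg.Agent.S1924

open Subgroup

open scoped Classical in
/-- A permutation all of whose cycles have length `2 ^ (k + 1)` on a set of that size times an odd
number is odd. -/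
theorem sign_eq_neg_one {α : Type*} [Fintype α] (σ : Equiv.Perm α) {k m : ℕ}
    (hσ : σ ^ 2 ^ (k + 1) = 1) (hfree : ∀ a, (σ ^ 2 ^ k) a ≠ a)
    (hcard : Fintype.card α = 2 ^ (k + 1) * m) (hm : Odd m) : Equiv.Perm.sign σ = -1 := by
  have hiter : ∀ (π : Equiv.Perm α), π.IsCycle → (∀ a ∈ π.support, π a = σ a) → ∀ (j : ℕ),
      ∀ a ∈ π.support, (π ^ j) a = (σ ^ j) a ∧ (π ^ j) a ∈ π.support := by
    intro π _ h j
    induction j with
    | zero => intro a ha; exact ⟨rfl, ha⟩
    | succ j ih =>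
      intro a ha
      obtain ⟨e, he⟩ := ih a ha
      rw [pow_succ', pow_succ', Equiv.Perm.mul_apply, Equiv.Perm.mul_apply, ← e]
      exact ⟨h _ he, Equiv.Perm.apply_mem_support.2 he⟩
  have hlen : ∀ n ∈ σ.cycleType, n = 2 ^ (k + 1) := by
    intro n hn
    rw [Equiv.Perm.cycleType_def, Multiset.mem_map] at hn
    obtain ⟨π, hπ, rfl⟩ := hn
    obtain ⟨hc, hag⟩ := Equiv.Perm.mem_cycleFactorsFinset_iff.1 hπ
    show π.support.card = _
    rw [← hc.orderOf]
    obtain ⟨a, ha⟩ := Equiv.Perm.IsCycle.nonempty_support hc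
    refine orderOf_eq_prime_pow (fun h => ?_) ?_
    · have e := (hiter π hc hag (2 ^ k) a ha).1
      rw [h, Equiv.Perm.one_apply] at e
      exact hfree a e.symm
    · ext b
      by_cases hb : b ∈ π.support
      · rw [(hiter π hc hag _ b hb).1, hσ]
      · rw [Equiv.Perm.one_apply]
        exact Equiv.Perm.pow_apply_eq_self_of_apply_eq_self (Equiv.Perm.notMem_support.1 hb) _
  have hsupp : σ.support = Finset.univ := Finset.eq_univ_iff_forall.2 fun a =>
    Equiv.Perm.mem_support.2 fun h => hfree a (Equiv.Perm.pow_apply_eq_self_of_apply_eq_self h _)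
  have hsum : σ.cycleType.sum = 2 ^ (k + 1) * σ.cycleType.card := by
    conv_lhs => rw [Multiset.eq_replicate_card.2 hlen]
    rw [Multiset.sum_replicate, smul_eq_mul, mul_comm]
  have h := hsum
  rw [Equiv.Perm.sum_cycleType, hsupp, Finset.card_univ, hcard] at h
  have hcardm : σ.cycleType.card = m := (Nat.eq_of_mul_eq_mul_left (by positivity) h).symm
  rw [Equiv.Perm.sign_of_cycleType, hsum, hcardm]
  exact ((Nat.even_pow.2 ⟨even_two, k.succ_ne_zero⟩).mul_right m).add_odd hm |>.neg_one_pow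

theorem dihedral_sq {n : ℕ} [NeZero n] {C : Subgroup (DihedralGroup n)} (hC : IsCyclic ↥C)
    (hi : C.index = 2) {x : DihedralGroup n} (hx : x ∉ C) : x * x = 1 := by
  rcases x with i | i
  swap
  · exact DihedralGroup.sr_mul_self i
  by_cases hn : n = 2
  · subst hn
    rw [DihedralGroup.r_mul_r, DihedralGroup.one_def]
    have h : ∀ i : ZMod 2, i + i = 0 := by decide
    rw [h]
  exfalso
  have hcard : Nat.card C = n := by
    have h := C.card_mul_index
    rw [hi, DihedralGroup.nat_card] at h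
    omega
  obtain ⟨g, hg⟩ := IsCyclic.exists_generator (α := ↥C)
  have hCz : C = zpowers (g : DihedralGroup n) := by
    refine le_antisymm (fun y hy => ?_) (zpowers_le.2 g.2)
    obtain ⟨k, hk⟩ := hg ⟨y, hy⟩
    exact ⟨k, by simpa using congrArg Subtype.val hk⟩
  have hord : orderOf (g : DihedralGroup n) = n := by
    rw [← Nat.card_zpowers, ← hCz, hcard]
  rcases hg' : (g : DihedralGroup n) with j | j
  · apply hx
    have hle : zpowers (DihedralGroup.r j : DihedralGroup n) ≤ zpowers (DihedralGroup.r 1) :=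
      zpowers_le.2 ⟨(j.val : ℤ), by simp⟩
    have he := eq_of_le_of_card_ge hle (by
      rw [Nat.card_zpowers, Nat.card_zpowers, DihedralGroup.orderOf_r_one, ← hg', hord])
    rw [hCz, hg', he]
    exact ⟨(i.val : ℤ), by simp⟩
  · rw [hg', DihedralGroup.orderOf_sr] at hord
    exact hn hord.symm

/-- A consequence of Thompson's transfer lemma. Let G be a finite group, L a subgroup with O²(L) = L, T a Sylow 2-subgroup of L and S a Sylow 2-subgroup of G containing T. Suppose D ≤ S is a dihedral subgroup of order at least 4 (the four-group counts) with D ∩ T = 1 and S = TD as a set of products (so |S| = |T|·|D|), and C ≤ D is cyclic of index 2 in D. If no involution of D outside C is G-conjugate to an involution of the subgroup generated by T and C, and the involution of C is not G-conjugate to any involution of T, then G has a normal subgroup K, containing every Sylow 2-subgroup of L as a Sylow 2-subgroup, with G = KD. -/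
theorem result {G : Type*} [Group G] [Finite G] (L T S D C : Subgroup G) (hL : Cfsg.pResidual 2 ↥L = ⊤)
    (hTL : T ≤ L) (hT2 : IsPGroup 2 T) (hTsyl : ¬ 2 ∣ T.relIndex L)
    (hS2 : IsPGroup 2 S) (hSsyl : ¬ 2 ∣ S.index) (hTS : T ≤ S)
    (hDS : D ≤ S) (hDih : ∃ n : ℕ, 2 ≤ n ∧ Nonempty (↥D ≃* DihedralGroup n)) (hDT : D ⊓ T = ⊥) (hTD : T ⊔ D = S) (hTDc : Nat.card T * Nat.card D = Nat.card S)
    (hCD : C ≤ D) (hC : IsCyclic ↥C) (hCi : C.relIndex D = 2)
    (h1 : ∀ x ∈ D, x ∉ C → orderOf x = 2 → ∀ g : G, g * x * g⁻¹ ∈ T ⊔ C → False)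
    (h2 : ∀ c ∈ C, orderOf c = 2 → ∀ g : G, g * c * g⁻¹ ∈ T → False) :
    ∃ K : Subgroup G, K.Normal ∧ K ⊔ D = ⊤ ∧
      ∀ T' : Subgroup G, T' ≤ L → IsPGroup 2 T' → ¬ 2 ∣ T'.relIndex L → T' ≤ K ∧ ¬ 2 ∣ T'.relIndex K := by
  haveI : Fact (Nat.Prime 2) := ⟨Nat.prime_two⟩
  have hneg : orderOf (-1 : ℤˣ) = 2 := orderOf_eq_prime neg_one_sq (by decide)
  set K := pResidual 2 G with hK
  haveI hKn : K.Normal := by
    refine ⟨fun a ha g => ?_⟩
    have h := CfsgLib.Transfer.map_pResidual_le (p := 2) (MulAut.conj g).toMonoidHom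
    exact h ⟨a, ha, rfl⟩
  have hLK : L ≤ K := by
    intro l hl
    have h := CfsgLib.Transfer.map_pResidual_le (p := 2) L.subtype
    rw [hL] at h
    exact h ⟨⟨l, hl⟩, mem_top _, rfl⟩
  have hTK : T ≤ K := hTL.trans hLK
  -- cut down along a cyclic subgroup
  have key : ∀ (k : ℕ) (M : Subgroup G) (c : G), K ≤ M → c ∈ M → c ∈ C → orderOf c = 2 ^ k →
      (∃ m, Odd m ∧ T.relIndex M = 2 ^ k * m) → Odd (T.relIndex K) := by
    intro k
    induction k with
    | zero =>
      rintro M c hKM - - - ⟨m, hm, hidx⟩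
      rw [pow_zero, one_mul, ← relIndex_mul_relIndex T K M hTK hKM] at hidx
      exact (Nat.odd_mul.1 (hidx ▸ hm)).1
    | succ k ih =>
      rintro M c hKM hcM hcC hord ⟨m, hm, hidx⟩
      classical
      haveI := Fintype.ofFinite (↥M ⧸ T.subgroupOf M)
      let σ : Equiv.Perm (↥M ⧸ T.subgroupOf M) := MulAction.toPermHom ↥M _ ⟨c, hcM⟩
      have hσ : σ ^ 2 ^ (k + 1) = 1 := by
        rw [← map_pow, show (⟨c, hcM⟩ : M) ^ 2 ^ (k + 1) = 1 from
          Subtype.ext (by rw [SubmonoidClass.coe_pow, ← hord, pow_orderOf_eq_one, OneMemClass.coe_one]),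
          map_one]
      have hfree : ∀ a, (σ ^ 2 ^ k) a ≠ a := by
        intro a
        induction a using QuotientGroup.induction_on with
        | _ g =>
          intro h
          have h' : (QuotientGroup.mk ((⟨c, hcM⟩ : M) ^ 2 ^ k * g) : ↥M ⧸ T.subgroupOf M)
              = QuotientGroup.mk g := by
            rw [← map_pow] at h; exact h
          rw [QuotientGroup.eq, mem_subgroupOf] at h'
          have ho : orderOf (c ^ 2 ^ k) = 2 := by
            rw [orderOf_pow' c (by positivity), hord,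
              Nat.gcd_eq_right (pow_dvd_pow 2 k.le_succ), Nat.pow_div k.le_succ two_pos]
            simp
          refine h2 _ (pow_mem hcC _) ho (g : G)⁻¹ ?_
          have h'' := inv_mem h'
          simpa [mul_assoc] using h''
      have hsign := sign_eq_neg_one σ hσ hfree
        (by rw [← Nat.card_eq_fintype_card]; exact hidx) hm
      set χ : ↥M →* ℤˣ := Equiv.Perm.sign.comp (MulAction.toPermHom ↥M (↥M ⧸ T.subgroupOf M))
      have hχc : χ ⟨c, hcM⟩ = -1 := by
        show Equiv.Perm.sign σ = -1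
        convert hsign
      have hKM' : K ≤ χ.ker.map M.subtype := by
        rw [hK]
        refine (Subgroup.closure_le _).2 fun g hg => ?_
        refine ⟨⟨g, hKM (CfsgLib.Transfer.mem_pResidual_of_coprime hg)⟩, ?_, rfl⟩
        rw [SetLike.mem_coe, MonoidHom.mem_ker]
        rcases Int.units_eq_one_or (χ ⟨g, hKM (CfsgLib.Transfer.mem_pResidual_of_coprime hg)⟩)
          with h | h
        · exact h
        · exfalso
          have hd := orderOf_map_dvd χ ⟨g, hKM (CfsgLib.Transfer.mem_pResidual_of_coprime hg)⟩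
          rw [h, Subgroup.orderOf_mk, hneg] at hd
          exact (Nat.prime_two.coprime_iff_not_dvd.1 (Nat.Coprime.symm hg)) hd
      have hc2 : c ^ 2 ∈ χ.ker.map M.subtype := ⟨⟨c, hcM⟩ ^ 2, by
        rw [SetLike.mem_coe, MonoidHom.mem_ker, map_pow, hχc, neg_one_sq], rfl⟩
      have hcard : (χ.ker.map M.subtype).relIndex M = 2 := by
        rw [relIndex, subgroupOf, comap_map_eq_self_of_injective M.subtype_injective,
          Subgroup.index_ker]
        have hs : χ.range = ⊤ := eq_top_iff.2 fun u _ => by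
          rcases Int.units_eq_one_or u with rfl | rfl
          · exact one_mem _
          · exact ⟨⟨c, hcM⟩, hχc⟩
        rw [hs, card_top, Nat.card_eq_fintype_card, Fintype.card_units_int]
      refine ih _ (c ^ 2) hKM' hc2 (pow_mem hcC 2) ?_ ⟨m, hm, ?_⟩
      · rw [orderOf_pow' c two_ne_zero, hord,
          Nat.gcd_eq_right (dvd_pow_self 2 k.succ_ne_zero), pow_succ, Nat.mul_div_cancel _ two_pos]
      · have h := relIndex_mul_relIndex T (χ.ker.map M.subtype) M (hTK.trans hKM') (map_subtype_le _)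
        rw [hcard, hidx, pow_succ, mul_right_comm] at h
        exact Nat.eq_of_mul_eq_mul_right two_pos h
  -- facts on the dihedral group
  obtain ⟨n, hn, ⟨e⟩⟩ := hDih
  haveI : NeZero n := ⟨by omega⟩
  have hinv : ∀ x ∈ D, x ∉ C → orderOf x = 2 := by
    intro x hxD hxC
    set C' := (C.subgroupOf D).map e.toMonoidHom
    have hC' : IsCyclic ↥C' := by
      haveI : IsCyclic ↥(C.subgroupOf D) :=
        isCyclic_of_surjective (subgroupOfEquivOfLe hCD).symm.toMonoidHom (MulEquiv.surjective _)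
      exact isCyclic_of_surjective (equivMapOfInjective _ e.toMonoidHom e.injective).toMonoidHom
        (MulEquiv.surjective _)
    have hi : C'.index = 2 := by
      show ((C.subgroupOf D).map (e : ↥D →* DihedralGroup n)).index = 2
      rw [index_map_equiv]; exact hCi
    have h := dihedral_sq hC' hi (x := e ⟨x, hxD⟩) (by
      rintro ⟨y, hy, hye⟩
      exact hxC (mem_subgroupOf.1 (e.injective hye ▸ hy)))
    rw [← map_mul] at h
    have hxx : x * x = 1 := congrArg Subtype.val (e.map_eq_one_iff.1 h)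
    exact orderOf_eq_prime (by rw [pow_two, hxx]) fun h => hxC (h ▸ one_mem C)
  obtain ⟨c, hc⟩ := IsCyclic.exists_generator (α := ↥C)
  have hCz : Nat.card C = orderOf (c : G) := by
    rw [orderOf_coe, ← Nat.card_zpowers, (eq_top_iff' _).2 hc, card_top]
  obtain ⟨k, hk⟩ := IsPGroup.iff_card.1 (hS2.to_le (hCD.trans hDS))
  obtain ⟨x, hxD, hxC⟩ : ∃ x, x ∈ D ∧ x ∉ C := by
    by_contra h
    push Not at h
    rw [le_antisymm hCD h, relIndex_self] at hCi
    exact absurd hCi (by norm_num)
  -- the subgroup `T ⊔ C` has index two in `S`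
  have hQi : (T ⊔ C).relIndex S = 2 := by
    have hQS : T ⊔ C ≤ S := sup_le hTS (hCD.trans hDS)
    have hne : T ⊔ C ≠ S := fun h => h1 x hxD hxC (hinv x hxD hxC) 1 (by
      rw [h, one_mul, inv_one, mul_one]; exact hDS hxD)
    have hge : Nat.card T * Nat.card C ≤ Nat.card ↥(T ⊔ C) := by
      rw [← Nat.card_prod]
      refine Nat.card_le_card_of_injective (fun q : T × C =>
        (⟨q.1.1 * q.2.1, mul_mem (mem_sup_left q.1.2) (mem_sup_right q.2.2)⟩ : ↥(T ⊔ C))) ?_
      intro a b hab
      exact mul_injective_of_disjoint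
        ((disjoint_iff.2 (inf_comm D T ▸ hDT : T ⊓ D = ⊥)).mono_right hCD)
        (congrArg Subtype.val hab)
    have hCD' : Nat.card D = Nat.card C * 2 := by
      rw [← hCi, relIndex, ← Nat.card_congr (subgroupOfEquivOfLe hCD).toEquiv, card_mul_index]
    have hmul : Nat.card ↥(T ⊔ C) * (T ⊔ C).relIndex S = Nat.card S := by
      rw [relIndex, ← Nat.card_congr (subgroupOfEquivOfLe hQS).toEquiv, card_mul_index]
    have h2' : (T ⊔ C).relIndex S ≠ 1 := fun h => hne (le_antisymm hQS (relIndex_eq_one.1 h))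
    rw [← hTDc, hCD', ← mul_assoc] at hmul
    have hpos : 0 < Nat.card ↥(T ⊔ C) := Nat.card_pos
    have h3 : (T ⊔ C).relIndex S ≤ 2 := by
      refine Nat.le_of_mul_le_mul_left ?_ hpos
      rw [hmul]; exact Nat.mul_le_mul_right 2 hge
    have h4 : (T ⊔ C).relIndex S ≠ 0 := fun h => by
      rw [h, mul_zero] at hmul
      have := Nat.mul_pos (Nat.mul_pos (Nat.card_pos (α := T)) (Nat.card_pos (α := C))) two_pos
      omega
    omega
  have hSodd : Odd S.index := by rwa [Nat.odd_iff, ← Nat.two_dvd_ne_zero]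
  have hsep : ∀ y ∈ D, y ∉ C → ∃ f : G →* ℤˣ, f y = -1 := by
    intro y hyD hyC
    obtain ⟨M, -, hM2, hyM⟩ := CfsgLib.ThompsonTransfer.exists_normal_index_two S (T ⊔ C) hSodd hQi
      y (by rw [← hinv y hyD hyC, pow_orderOf_eq_one]) (fun g hg => h1 y hyD hyC (hinv y hyD hyC) g hg)
    exact ⟨_, CfsgLib.ThompsonTransfer.indexTwoSign_eq_neg_one hM2 hyM⟩
  obtain ⟨f, hfx, hfc⟩ : ∃ f : G →* ℤˣ, f x = -1 ∧ f c = 1 := by
    have hxcC : x * c ∉ C := fun h => hxC ((mul_mem_cancel_right c.2).1 h)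
    obtain ⟨f1, h1x⟩ := hsep x hxD hxC
    obtain ⟨f2, h2x⟩ := hsep (x * c) (mul_mem hxD (hCD c.2)) hxcC
    rw [map_mul] at h2x
    rcases Int.units_eq_one_or (f1 c) with h1c | h1c
    · exact ⟨f1, h1x, h1c⟩
    rcases Int.units_eq_one_or (f2 c) with h2c | h2c
    · exact ⟨f2, by rwa [h2c, mul_one] at h2x, h2c⟩
    refine ⟨f1 * f2, ?_, by rw [MonoidHom.mul_apply, h1c, h2c]; rfl⟩
    rw [h2c, mul_neg, mul_one, neg_inj] at h2x
    rw [MonoidHom.mul_apply, h1x, h2x, mul_one]
  have hKf : K ≤ f.ker := by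
    rw [hK]
    refine (Subgroup.closure_le _).2 fun g hg => ?_
    rw [SetLike.mem_coe, MonoidHom.mem_ker]
    rcases Int.units_eq_one_or (f g) with h | h
    · exact h
    · exfalso
      have hd := orderOf_map_dvd f g
      rw [h, hneg] at hd
      exact (Nat.prime_two.coprime_iff_not_dvd.1 (Nat.Coprime.symm hg)) hd
  have hfi : f.ker.index = 2 := by
    rw [Subgroup.index_ker]
    have hs : f.range = ⊤ := eq_top_iff.2 fun u _ => by
      rcases Int.units_eq_one_or u with rfl | rfl
      · exact one_mem _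
      · exact ⟨x, hfx⟩
    rw [hs, card_top, Nat.card_eq_fintype_card, Fintype.card_units_int]
  have hodd : Odd (T.relIndex K) := by
    refine key k f.ker c hKf hfc c.2 (hCz ▸ hk) ⟨S.index, hSodd, ?_⟩
    have h := relIndex_mul_index (hTK.trans hKf)
    have hTi : T.index = Nat.card D * S.index := by
      refine Nat.eq_of_mul_eq_mul_left (Nat.card_pos (α := T)) ?_
      rw [card_mul_index, ← mul_assoc, hTDc, card_mul_index]
    have hCD' : Nat.card D = Nat.card C * 2 := by
      rw [← hCi, relIndex, ← Nat.card_congr (subgroupOfEquivOfLe hCD).toEquiv, card_mul_index]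
    rw [hfi, hTi, hCD', hk, mul_right_comm] at h
    exact Nat.eq_of_mul_eq_mul_right two_pos h
  refine ⟨K, hKn, ?_, fun T' hT'L hT'2 hT'i => ⟨hT'L.trans hLK, ?_⟩⟩
  · obtain ⟨j, hj⟩ : ∃ j, K.index = 2 ^ j := by
      obtain ⟨j, hj⟩ := CfsgLib.Transfer.index_pResidual_eq_pow (p := 2) (G := G)
      exact ⟨j, hj⟩
    have hSle : S ≤ K ⊔ D := hTD ▸ sup_le (hTK.trans le_sup_left) le_sup_right
    have h1' := index_dvd_of_le hSle
    have h2' : (K ⊔ D).index ∣ 2 ^ j := hj ▸ index_dvd_of_le le_sup_left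
    obtain ⟨i, -, hi⟩ := (Nat.dvd_prime_pow Nat.prime_two).1 h2'
    rcases i with - | i
    · exact index_eq_one.1 hi
    · exact absurd ((dvd_pow_self 2 i.succ_ne_zero).trans (hi ▸ h1')) hSsyl
  · rw [← relIndex_mul_relIndex T' L K hT'L hLK]
    refine Nat.prime_two.not_dvd_mul hT'i fun h => hodd.not_two_dvd_nat ?_
    rw [← relIndex_mul_relIndex T L K hTL hLK]
    exact h.mul_left _

end Cfsg.Agent.S1924
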