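import Cfsg.Statements.S1932
import Cfsg.Agent.Lib.S4Free.Main
import Cfsg.Agent.Lib.FusionControl.NormalStep
import Cfsg.Agent.Lib.PLocal.ZJTheorem

set_option autoImplicit false
open Cfsg Subgroup

namespace Cfsg.Agent.S1932

/-- Let G be a finite group that is 2-constrained and has no section isomorphic to the symmetric group of degree 4, and let S be a Sylow 2-subgroup of G of nilpotency class at most 2. Then G = N_G(J(S))·O_{2'}(G), where J(S) is the Thompson subgroup generated by the elementary abelian subgroups of S of largest order. -/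
theorem result {G : Type*} [Group G] [Finite G] (hcon : Cfsg.IsPConstrained 2 G) (hS4 : ¬ Cfsg.Involves (Equiv.Perm (Fin 4)) G) (S : Sylow 2 G) (hcl : Subgroup.lowerCentralSeries (S : Subgroup G) 2 = ⊥) : Subgroup.normalizer ((Cfsg.thompsonSubgroupOf 2 (S : Subgroup G)) : Set G) ⊔ Cfsg.pPrimeCore 2 G = ⊤ := by
  haveI : Fact (Nat.Prime 2) := ⟨Nat.prime_two⟩
  set π := QuotientGroup.mk' (pPrimeCore 2 G)
  have hcop : (Nat.card π.ker).Coprime 2 := by
    rw [QuotientGroup.ker_mk']; exact CfsgLib.PLoc.pPrimeCore_coprime 2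
  have hsurj : Function.Surjective π := QuotientGroup.mk'_surjective _
  have hcon' : IsPConstrained 2 (G ⧸ pPrimeCore 2 G) :=
    (CfsgLib.PLoc.isPConstrained_iff_of_coprime_ker hsurj hcop).mp hcon
  have hO' : pPrimeCore 2 (G ⧸ pPrimeCore 2 G) = ⊥ :=
    CfsgLib.PLoc.pPrimeCore_quotient_eq_bot hsurj (QuotientGroup.ker_mk' _)
  have hc := CfsgLib.PLoc.centralizer_pCore_le_of_isPConstrained hcon' hO'
  have hS4' : ¬ Involves (Equiv.Perm (Fin 4)) (G ⧸ pPrimeCore 2 G) := fun h =>
    hS4 (CfsgLib.FusionControl.involves_of_quotient _ h)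
  have hcl' : ⁅⁅((S.mapSurjective hsurj : Sylow 2 _) : Subgroup (G ⧸ pPrimeCore 2 G)),
      ((S.mapSurjective hsurj : Sylow 2 _) : Subgroup (G ⧸ pPrimeCore 2 G))⁆,
      ((S.mapSurjective hsurj : Sylow 2 _) : Subgroup (G ⧸ pPrimeCore 2 G))⁆ = ⊥ := by
    rw [Sylow.coe_mapSurjective, ← Subgroup.map_commutator, ← Subgroup.map_commutator]
    have h : ⁅⁅(S : Subgroup G), (S : Subgroup G)⁆, (S : Subgroup G)⁆ = ⊥ := hcl
    rw [h, Subgroup.map_bot]
  have hn := CfsgLib.S4Free.thompson_normal hc hS4' (S.mapSurjective hsurj) hcl'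
  rw [Sylow.coe_mapSurjective] at hn
  have hinj : Function.Injective (π.comp (S : Subgroup G).subtype) := by
    rw [← MonoidHom.ker_eq_bot_iff, eq_bot_iff]
    intro x hx
    have hx' : (x : G) ∈ (S : Subgroup G) ⊓ π.ker := ⟨x.2, hx⟩
    rw [CfsgLib.PLoc.disjoint_of_pgroup_coprime S.isPGroup' hcop, mem_bot] at hx'
    exact mem_bot.mpr (Subtype.ext hx')
  have hJ : thompsonSubgroupOf 2 ((S : Subgroup G).map π) =
      (thompsonSubgroupOf 2 (S : Subgroup G)).map π := by
    have h1 := CfsgLib.PLocal.thompsonSubgroupOf_map (p := 2) hinj (⊤ : Subgroup ↥(S : Subgroup G))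
    rw [← MonoidHom.range_eq_map, MonoidHom.range_comp, range_subtype,
      CfsgLib.PLocal.thompsonSubgroupOf_top, ← map_map] at h1
    exact h1.symm
  rw [hJ, CfsgLib.PLoc.normalizer_map_eq hsurj hcop
    (S.isPGroup'.to_le (CfsgLib.PLocal.thompsonSubgroupOf_le 2 _))] at hn
  have h := congrArg (Subgroup.comap π) hn
  rwa [comap_map_eq, QuotientGroup.ker_mk', comap_top] at h

end Cfsg.Agent.S1932
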