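import Cfsg.Statements.S1935
import Cfsg.Agent.Lib.QuadLimit.Step
import Cfsg.Agent.Lib.PLocal.Replacement
import Cfsg.Agent.Lib.PLocal.Quadratic
import Cfsg.Agent.Lib.PLocal.HallHigman
import Mathlib.LinearAlgebra.Dimension.LinearMap
import Mathlib.LinearAlgebra.FreeModule.Finite.Basic
import Mathlib.FieldTheory.Finiteness
import Mathlib.Algebra.Module.ZMod

set_option autoImplicit false
open Cfsg

namespace Cfsg.Agent.S1935

open Subgroup CfsgLib.QuadLimit
open scoped commutatorElement

/-- In a nilpotent group a normal set of generators not in the normalizer of `A` has a member outside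
it normalizing the subgroup generated by its members inside it. -/
theorem exists_moving {H : Type*} [Group H] [Finite H] (hn : NormalizerCondition H) (A : Subgroup H)
    {S : Set H} (hS : ∀ g, ∀ s ∈ S, g * s * g⁻¹ ∈ S) (hnot : ¬ S ⊆ normalizer (A : Set H)) :
    ∃ s ∈ S, s ∉ normalizer (A : Set H) ∧
      s ∈ normalizer ((closure (S ∩ normalizer (A : Set H)) : Subgroup H) : Set H) := by
  set Y := closure (S ∩ normalizer (A : Set H)) with hY
  by_contra hall
  push Not at hall
  have hin : ∀ s ∈ S, s ∈ normalizer (Y : Set H) → s ∈ normalizer (A : Set H) := fun s hs h => by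
    by_contra hsA; exact hall s hs hsA h
  have hNN : normalizer ((normalizer (Y : Set H) : Subgroup H) : Set H) ≤ normalizer (Y : Set H) := by
    intro g hg
    refine mem_normalizer_fintype ?_
    have hle : Y ≤ Y.comap (MulAut.conj g).toMonoidHom := by
      refine (closure_le _).2 fun s hs => ?_
      have hmem : g * s * g⁻¹ ∈ normalizer (Y : Set H) :=
        (mem_normalizer_iff.1 hg s).1 (le_normalizer (subset_closure hs))
      exact subset_closure ⟨hS g s hs.1, hin _ (hS g s hs.1) hmem⟩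
    exact fun n hn => hle hn
  have htop : normalizer (Y : Set H) = ⊤ := by
    by_contra hne
    obtain ⟨g, hg, hgn⟩ := SetLike.exists_of_lt (hn _ (lt_top_iff_ne_top.2 hne))
    exact hgn (hNN hg)
  exact hnot fun s hs => hin s hs (by rw [htop]; trivial)


/-- Let p ≥ 5 be a prime and, inside an ambient finite group, let G be a p-subgroup acting faithfully by conjugation on an elementary abelian p-subgroup V that it normalizes (only the identity of G centralizes V). Suppose V is an F-module for G: some nontrivial elementary abelian subgroup E of G satisfies #E · #C_V(E) ≥ #V. Then G contains such an offender A that moreover acts quadratically on V ([V, A, A] = 1) and is normal in its normal closure in G. -/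
theorem result {Ω : Type*} [Group Ω] [Finite Ω] (p : ℕ) [Fact p.Prime] (hp : 5 ≤ p) (V G : Subgroup Ω) (hV : Cfsg.IsElementaryAbelian p V) (hG : IsPGroup p ↥G) (hGV : G ≤ Subgroup.normalizer (V : Set Ω)) (hfaith : G ⊓ Subgroup.centralizer (V : Set Ω) = ⊥) (hF : ∃ E : Subgroup Ω, E ≤ G ∧ E ≠ ⊥ ∧ Cfsg.IsElementaryAbelian p E ∧ Nat.card ↥V ≤ Nat.card ↥E * Nat.card ↥(V ⊓ Subgroup.centralizer (E : Set Ω))) : ∃ A : Subgroup Ω, A ≤ G ∧ A ≠ ⊥ ∧ Cfsg.IsElementaryAbelian p A ∧ Nat.card ↥V ≤ Nat.card ↥A * Nat.card ↥(V ⊓ Subgroup.centralizer (A : Set Ω)) ∧ ⁅⁅V, A⁆, A⁆ = ⊥ ∧ ∀ g ∈ Subgroup.closure {x : Ω | ∃ h ∈ G, ∃ a ∈ A, x = h * a * h⁻¹}, ∀ a ∈ A, g * a * g⁻¹ ∈ A := by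
  classical
  haveI := hV.1
  let cgV : CommGroup ↥V := { (inferInstance : Group ↥V) with mul_comm := mul_comm' }
  letI := cgV
  have : Module (ZMod p) (Additive ↥V) := AddCommGroup.zmodModule fun v => by
    rw [← toMul_eq_one, toMul_nsmul]
    exact Subtype.ext (by rw [SubgroupClass.coe_pow]; exact hV.2 _ v.toMul.2)
  let φ : ↥G →* MulAut ↥V := V.normalizerMonoidHom.comp (Subgroup.inclusion hGV)
  let ρ : ↥G →* Module.End (ZMod p) (Additive ↥V) :=
    { toFun := fun g => (MonoidHom.toAdditive (φ g).toMonoidHom).toZModLinearMap p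
      map_one' := by ext v; simp
      map_mul' := fun g h => by ext v; simp }
  have hρv : ∀ (g : ↥G) (v : ↥V),
      ((Additive.toMul ((ρ g : Additive ↥V →ₗ[ZMod p] Additive ↥V) (Additive.ofMul v)) : ↥V) : Ω) = (g : Ω) * v * (g : Ω)⁻¹ := fun _ _ => rfl
  have hd : ∀ (g : ↥G) (v : ↥V),
      ((Additive.toMul ((ρ g - 1) (Additive.ofMul v)) : ↥V) : Ω) = ⁅(g : Ω), (v : Ω)⁆ := by
    intro g v
    rw [LinearMap.sub_apply, Module.End.one_apply, toMul_sub, div_eq_mul_inv, Subgroup.coe_mul,
      Subgroup.coe_inv, hρv, toMul_ofMul, commutatorElement_def]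
  have hfix : ∀ (g : ↥G) (v : ↥V), (ρ g - 1) (Additive.ofMul v) = 0 ↔ Commute (g : Ω) (v : Ω) := by
    intro g v
    rw [← toMul_eq_one, Subtype.ext_iff, hd, Subgroup.coe_one, commutatorElement_eq_one_iff_commute]
  have hinj : Function.Injective ρ := by
    rw [injective_iff_map_eq_one]
    intro g hg
    have h1 : (g : Ω) ∈ G ⊓ centralizer (V : Set Ω) := ⟨g.2, mem_centralizer_iff.2 fun v hv => by
      have h := (hfix g ⟨v, hv⟩).1 (by rw [hg, sub_self, LinearMap.zero_apply])
      exact h.eq.symm⟩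
    rw [hfaith, mem_bot] at h1
    exact Subtype.ext h1
  have hp0 : (p : Module.End (ZMod p) (Additive ↥V)) = 0 := by
    rw [← map_natCast (algebraMap (ZMod p) _), ZMod.natCast_self, map_zero]
  -- quadratic subgroups
  have hquad1 : ∀ A : Subgroup ↥G, IsQuad ρ A →
      ⁅⁅V, A.map G.subtype⁆, A.map G.subtype⁆ = ⊥ := by
    intro A hA
    rw [commutator_eq_bot_iff_le_centralizer, commutator_le]
    rintro v hv _ ⟨b, hb, rfl⟩
    rw [← commutatorElement_inv, inv_mem_iff, mem_centralizer_iff]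
    rintro _ ⟨a, ha, rfl⟩
    have h1 := DFunLike.congr_fun (hA a ha b hb) (Additive.ofMul ⟨v, hv⟩)
    rw [Module.End.mul_apply, LinearMap.zero_apply] at h1
    have h2 := (hfix a (Additive.toMul ((ρ b - 1) (Additive.ofMul ⟨v, hv⟩)))).1 h1
    rw [hd] at h2
    exact h2.eq
  have hquad2 : ∀ B : Subgroup Ω, B ≤ G → ⁅⁅V, B⁆, B⁆ = ⊥ → IsQuad ρ (B.subgroupOf G) := by
    intro B _ hB a ha b hb
    refine LinearMap.ext fun w => ?_
    obtain ⟨v, rfl⟩ := Additive.ofMul.surjective w
    rw [Module.End.mul_apply, LinearMap.zero_apply]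
    refine (hfix a (Additive.toMul ((ρ b - 1) (Additive.ofMul v)))).2 ?_
    rw [hd]
    exact mul_inv_eq_iff_eq_mul.1 (CfsgLib.PLocal.quadratic_elt_fixed hB v.2 hb ha)
  have hEA : ∀ A : Subgroup ↥G, IsQuad ρ A → Cfsg.IsElementaryAbelian p (A.map G.subtype) := by
    intro A hA
    refine ⟨IsMulCommutative.of_setLike_mul_comm ?_, ?_⟩
    · rintro _ ⟨a, ha, rfl⟩ _ ⟨b, hb, rfl⟩
      rw [← map_mul, ← map_mul]
      refine congrArg _ (hinj (sub_left_injective (b := (1 : Module.End (ZMod p) (Additive ↥V))) ?_))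
      show ρ (a * b) - 1 = ρ (b * a) - 1
      rw [rho_mul hA ha hb, rho_mul hA hb ha, add_comm]
    · rintro _ ⟨a, ha, rfl⟩
      rw [← map_pow]
      have : a ^ p = 1 := hinj (sub_left_injective (b := (1 : Module.End (ZMod p) (Additive ↥V))) (by
        show ρ (a ^ p) - 1 = ρ 1 - 1
        rw [rho_pow hA ha, nsmul_eq_mul, hp0, zero_mul, map_one, sub_self]))
      rw [this, map_one]
  -- the fixed points
  let F : Subgroup ↥G → Submodule (ZMod p) (Additive ↥V) := fun A =>
    { carrier := {w | ∀ a ∈ A, (ρ a - 1) w = 0}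
      add_mem' := fun {u w} hu hw a ha => by rw [map_add, hu a ha, hw a ha, add_zero]
      zero_mem' := fun a _ => map_zero _
      smul_mem' := fun c {u} hu a ha => by rw [map_smul, hu a ha, smul_zero] }
  have hFcard : ∀ A : Subgroup ↥G,
      Nat.card ↥(V ⊓ centralizer (A.map G.subtype : Set Ω)) = Nat.card ↥(F A) := by
    intro A
    refine Nat.card_congr
      { toFun := fun v => ⟨Additive.ofMul ⟨v.1, v.2.1⟩, fun a ha => (hfix a _).2
          (mem_centralizer_iff.1 v.2.2 _ ⟨a, ha, rfl⟩)⟩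
        invFun := fun w => ⟨((Additive.toMul w.1 : ↥V) : Ω), (Additive.toMul w.1).2,
          mem_centralizer_iff.2 (by
            rintro _ ⟨a, ha, rfl⟩
            exact (hfix a (Additive.toMul w.1)).1 (w.2 a ha))⟩
        left_inv := fun v => rfl
        right_inv := fun w => rfl }
  have hann : ∀ A : Subgroup ↥G,
      Nat.card (ann ρ A) = Nat.card ↥(F A) ^ Module.finrank (ZMod p) (Additive ↥V) := by
    intro A
    have e : ann ρ A ≃ (Additive ↥V →ₗ[ZMod p] F A) :=
      { toFun := fun e => LinearMap.codRestrict _ e.1 fun w a ha => by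
          have h := DFunLike.congr_fun (e.2 a ha) w
          rwa [Module.End.mul_apply] at h
        invFun := fun f => ⟨(F A).subtype.comp f, fun a ha => LinearMap.ext fun w => (f w).2 a ha⟩
        left_inv := fun e => rfl
        right_inv := fun f => rfl }
    rw [Nat.card_congr e, Module.natCard_eq_pow_finrank (K := ZMod p),
      Module.natCard_eq_pow_finrank (K := ZMod p) (V := F A), ← pow_mul, Module.finrank_linearMap,
      mul_comm]
  obtain ⟨E, hEG, hE1, hEea, hEcard⟩ := hF
  haveI hVnt : Nontrivial (Additive ↥V) := by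
    by_contra hsub
    rw [not_nontrivial_iff_subsingleton] at hsub
    apply hE1
    rw [eq_bot_iff, ← hfaith]
    refine le_inf hEG fun x _ => mem_centralizer_iff.2 fun v hv => ?_
    have h : Additive.ofMul (⟨v, hv⟩ : ↥V) = Additive.ofMul 1 := Subsingleton.elim _ _
    have h' : v = 1 := congrArg Subtype.val (Additive.ofMul.injective h)
    rw [h', one_mul, mul_one]
  have hfin : Module.finrank (ZMod p) (Additive ↥V) ≠ 0 := Module.finrank_pos.ne'
  haveI : Finite (Module.End (ZMod p) (Additive ↥V)) :=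
    Finite.of_injective _ DFunLike.coe_injective
  -- an initial quadratic offender
  let good : Subgroup ↥G → Prop := fun A =>
    IsQuad ρ A ∧ A ≠ ⊥ ∧ Nat.card ↥V ≤ Nat.card A * Nat.card ↥(F A)
  obtain ⟨A₁, hA₁⟩ : ∃ A, good A := by
    haveI := Fintype.ofFinite (Subgroup Ω)
    let f : Subgroup Ω → ℕ := fun B => Nat.card B * Nat.card ↥(V ⊓ centralizer (B : Set Ω))
    obtain ⟨B, hB, hmax⟩ := Finset.exists_max_image
      (Finset.univ.filter fun B : Subgroup Ω => B ≤ E ∧ B ≠ ⊥) f ⟨E, by simp [hE1]⟩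
    simp only [Finset.mem_filter, Finset.mem_univ, true_and] at hB hmax
    have hBV : Nat.card ↥V ≤ f B := hEcard.trans (hmax E ⟨le_rfl, hE1⟩)
    have hBN : B ≤ normalizer (V : Set Ω) := (hB.1.trans hEG).trans hGV
    have hBab : ⁅B, B⁆ = ⊥ :=
      Subgroup.commutator_self_eq_bot_iff.mpr (CfsgLib.PLocal.isEA_mono hEea hB.1).1
    have hbest : Cfsg.IsBestOffenderOn p V B := by
      refine ⟨fun B' hB' => ?_, by rw [hBab]; exact bot_le, fun b hb => by
        rw [hEea.2 b (hB.1 hb)]; exact one_mem _⟩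
      rcases eq_or_ne B' ⊥ with rfl | hne
      · refine le_trans ?_ hBV
        rw [Subgroup.card_bot, one_mul]; exact card_le_of_le inf_le_left
      · exact hmax B' ⟨hB'.trans hB.1, hne⟩
    obtain ⟨-, hfix', heq⟩ :=
      CfsgLib.PLocal.bestOffender_replacement hV.1 hBN hbest (U := V) le_rfl
    set B' := B ⊓ centralizer ((⁅V, B⁆ : Subgroup Ω) : Set Ω) with hB'
    have hB'G : B' ≤ G := inf_le_left.trans (hB.1.trans hEG)
    have hq' : ⁅⁅V, B'⁆, B'⁆ = ⊥ := by
      rw [commutator_eq_bot_iff_le_centralizer]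
      exact (commutator_mono le_rfl inf_le_left).trans (le_centralizer_iff.1 inf_le_right)
    refine ⟨B'.subgroupOf G, hquad2 B' hB'G hq', fun hbot => ?_, ?_⟩
    · have hB'bot : B' = ⊥ := by rw [← map_subgroupOf_eq_of_le hB'G, hbot, Subgroup.map_bot]
      have hsplit : ⁅V, B⁆ ⊔ (V ⊓ centralizer (B : Set Ω)) = V := by
        rw [← hfix', hB'bot, inf_eq_left]
        intro v _
        exact mem_centralizer_iff.2 fun x hx => by
          rw [SetLike.mem_coe, mem_bot] at hx; rw [hx, one_mul, mul_one]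
      have hVB : ⁅V, B⁆ = ⊥ := by
        by_contra hne
        refine CfsgLib.PLoc.commutator_ne_self_of_pgroup (p := p) (R := ⁅V, B⁆) (P := B)
          ((CfsgLib.PLocal.isEA_isPGroup hV).to_le (CfsgLib.PLocal.commutator_le_of_le_normalizer hBN))
          (hG.to_le (hB.1.trans hEG)) (Subgroup.normalizer_commutator_ge_right V B) hne ?_
        refine le_antisymm (CfsgLib.PLocal.commutator_le_of_le_normalizer
          (Subgroup.normalizer_commutator_ge_right V B)) ?_
        rw [commutator_le]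
        intro v hv b hb
        have hv' : v ∈ ((⁅V, B⁆ ⊔ (V ⊓ centralizer (B : Set Ω)) : Subgroup Ω)) := by
          rw [hsplit]; exact hv
        have hCn : V ⊓ centralizer (B : Set Ω) ≤ normalizer ((⁅V, B⁆ : Subgroup Ω) : Set Ω) := by
          intro c hc
          refine mem_normalizer_fintype fun x hx => ?_
          have hxV := CfsgLib.PLocal.commutator_le_of_le_normalizer hBN hx
          rw [(CfsgLib.PLocal.commute_of_mem_comm hV.1 hc.1 hxV).eq, mul_inv_cancel_right]
          exact hx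
        rw [← SetLike.mem_coe, coe_mul_of_right_le_normalizer_left _ _ hCn] at hv'
        obtain ⟨u, hu, c, hc, rfl⟩ := hv'
        have e : ⁅u * c, b⁆ = u * ⁅c, b⁆ * u⁻¹ * ⁅u, b⁆ := by
          simp only [commutatorElement_def]; group
        rw [e, commutatorElement_eq_one_iff_mul_comm.2 (mem_centralizer_iff.1 hc.2 b hb).symm,
          mul_one, mul_inv_cancel, one_mul]
        exact commutator_mem_commutator hu hb
      apply hB.2
      rw [eq_bot_iff, ← hfaith]
      exact le_inf (hB.1.trans hEG)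
        (le_centralizer_iff.1 (commutator_eq_bot_iff_le_centralizer.1 hVB))
    · rw [← hFcard, map_subgroupOf_eq_of_le hB'G, Nat.card_congr (subgroupOfEquivOfLe hB'G).toEquiv,
        heq]
      exact hBV
  -- the filtration
  haveI : Group.IsNilpotent ↥G := hG.isNilpotent
  obtain ⟨N, hN⟩ := Subgroup.nilpotent_iff_lowerCentralSeries.1 (inferInstance : Group.IsNilpotent ↥G)
  let Γ : ℕ → Subgroup ↥G := fun k => Subgroup.lowerCentralSeries (⊤ : Subgroup ↥G) k
  let μ : Subgroup ↥G → ℕ := fun A => ∑ k ∈ Finset.range (N + 1), Nat.card ↥(A ⊓ Γ k)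
  haveI := Fintype.ofFinite (Subgroup ↥G)
  obtain ⟨A, hA, hmax⟩ := Finset.exists_max_image (Finset.univ.filter good) μ
    ⟨A₁, by simp [hA₁]⟩
  simp only [Finset.mem_filter, Finset.mem_univ, true_and] at hA hmax
  obtain ⟨hAq, hA1, hAcard⟩ := hA
  refine ⟨A.map G.subtype, map_subtype_le _, fun h => hA1 ?_, hEA A hAq, ?_, hquad1 A hAq, ?_⟩
  · exact (Subgroup.map_eq_bot_iff_of_injective _ G.subtype_injective).1 h
  · rw [hFcard, card_map_of_injective G.subtype_injective]; exact hAcard
  set S : Set ↥G := {x | ∃ h, ∃ a ∈ A, x = h * a * h⁻¹} with hSdef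
  have hSA : S ⊆ normalizer (A : Set ↥G) := by
    by_contra hnot
    have hSinv : ∀ g, ∀ s ∈ S, g * s * g⁻¹ ∈ S := by
      rintro g _ ⟨h, a, ha, rfl⟩
      exact ⟨g * h, a, ha, by group⟩
    obtain ⟨s, hs, hsA, hsY⟩ :=
      exists_moving (Group.normalizerCondition_of_isNilpotent (G := ↥G)) A hSinv hnot
    set Y := closure (S ∩ normalizer (A : Set ↥G)) with hY
    have hAY : A ≤ Y := fun a ha => subset_closure ⟨⟨1, a, ha, by simp⟩, le_normalizer ha⟩
    have hYA : Y ≤ normalizer (A : Set ↥G) := (closure_le _).2 fun x hx => hx.2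
    have hnorm : ∀ i j : Fin 3, A.map (MulAut.conj (s ^ (i : ℕ))).toMonoidHom ≤
        normalizer ((A.map (MulAut.conj (s ^ (j : ℕ))).toMonoidHom : Subgroup ↥G) : Set ↥G) := by
      intro i j
      have hY' : ∀ n : ℕ, Y.map (MulAut.conj (s ^ n)).toMonoidHom = Y := fun n =>
        (mem_normalizer_iff_map_conj_eq.1 (pow_mem hsY n))
      calc A.map (MulAut.conj (s ^ (i : ℕ))).toMonoidHom
          ≤ Y.map (MulAut.conj (s ^ (i : ℕ))).toMonoidHom := Subgroup.map_mono hAY
        _ = Y.map (MulAut.conj (s ^ (j : ℕ))).toMonoidHom := by rw [hY', hY']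
        _ ≤ (normalizer (A : Set ↥G)).map (MulAut.conj (s ^ (j : ℕ))).toMonoidHom :=
            Subgroup.map_mono hYA
        _ ≤ _ := le_normalizer_map _
    obtain ⟨h, a, ha, rfl⟩ := hs
    have hb : (ρ (h * a * h⁻¹) - 1) * (ρ (h * a * h⁻¹) - 1) = 0 :=
      hAq.conj h _ ⟨a, ha, rfl⟩ _ ⟨a, ha, rfl⟩
    obtain ⟨A', hA'q, hcard, hannle, hall, k, hkN, hlt⟩ := step hinj hp0
      ((Fact.out : p.Prime).odd_of_ne_two (by omega)) hAq hb hsA hnorm Γ
      (fun k => inferInstance) rfl
      (fun k => Subgroup.lowerCentralSeries_antitone _ (Nat.le_succ k))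
      (fun k x hx g => by
        rw [← commutatorElement_inv, inv_mem_iff]
        exact commutator_mem_commutator hx (mem_top g))
      hN
    have hgood : good A' := by
      refine ⟨hA'q, fun hbot => hA1 ?_, hAcard.trans (Nat.mul_le_mul hcard ?_)⟩
      · rw [hbot, Subgroup.card_bot] at hcard
        exact eq_bot_of_card_le _ hcard
      · rw [hann, hann] at hannle
        exact (Nat.pow_le_pow_iff_left hfin).1 hannle
    exact (hmax A' hgood).not_gt (Finset.sum_lt_sum (fun k _ => hall k)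
      ⟨k, Finset.mem_range.2 (by omega), hlt⟩)
  intro g hg
  have hle : Subgroup.closure {x : Ω | ∃ h ∈ G, ∃ a ∈ A.map G.subtype, x = h * a * h⁻¹} ≤
      normalizer ((A.map G.subtype : Subgroup Ω) : Set Ω) := by
    rw [closure_le]
    rintro _ ⟨h, hh, _, ⟨a, ha, rfl⟩, rfl⟩
    have h1 : (⟨h, hh⟩ * a * (⟨h, hh⟩ : ↥G)⁻¹) ∈ normalizer (A : Set ↥G) :=
      hSA ⟨⟨h, hh⟩, a, ha, rfl⟩
    exact le_normalizer_map G.subtype ⟨_, h1, rfl⟩
  exact fun a ha => ((mem_normalizer_iff.1 (hle hg)) a).1 ha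

end Cfsg.Agent.S1935
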