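import Cfsg.Statements.S1939
import Cfsg.Agent.Lib.ConjFunctor.Basic

set_option autoImplicit false
open Cfsg

namespace Cfsg.Agent.S1939

/-- Let S be a Sylow p-subgroup of the finite group G and a an element of S that is the only G-conjugate of a lying in S. Then every power of a has the same property: for every n, the only G-conjugate of a^n lying in S is a^n. -/
theorem result {G : Type*} [Group G] [Finite G] {p : ℕ} [Fact p.Prime] (S : Sylow p G) (a : G)
    (haS : a ∈ (S : Subgroup G)) (hwc : ∀ g : G, g * a * g⁻¹ ∈ (S : Subgroup G) → g * a * g⁻¹ = a) (n : ℕ) :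
    ∀ g : G, g * a ^ n * g⁻¹ ∈ (S : Subgroup G) → g * a ^ n * g⁻¹ = a ^ n := by
  intro g hb
  have hcomm : ∀ s ∈ (S : Subgroup G), s * a * s⁻¹ = a := fun s hs =>
    hwc s (mul_mem (mul_mem hs haS) (inv_mem hs))
  set b := g * a ^ n * g⁻¹ with hbdef
  set C := Subgroup.centralizer ({b} : Set G) with hC
  have haC : a ∈ C := by
    rw [Subgroup.mem_centralizer_singleton_iff]
    calc a * b = b * a * b⁻¹ * b := by rw [hcomm b hb]
      _ = b * a := by simp
  have hgC : g * a * g⁻¹ ∈ C := by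
    rw [Subgroup.mem_centralizer_singleton_iff, hbdef, ← conj_pow]
    exact Commute.pow_right (Commute.refl _) n
  have hp1 : IsPGroup p ↥(Subgroup.zpowers a) := S.isPGroup'.to_le ((Subgroup.zpowers_le).2 haS)
  have hp2 : IsPGroup p ↥(Subgroup.zpowers (g * a * g⁻¹)) := by
    have := hp1.map (MulAut.conj g).toMonoidHom
    rwa [MonoidHom.map_zpowers] at this
  obtain ⟨T, hT, hgT⟩ := CfsgLib.ConjFunctor.exists_isSyl_ge hp2 ((Subgroup.zpowers_le).2 hgC)
  obtain ⟨c, hc, hcT⟩ := hT.exists_cj_le hp1 ((Subgroup.zpowers_le).2 haC)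
  obtain ⟨h, -, hh⟩ := (CfsgLib.ConjFunctor.isSyl_top S).exists_cj_le hT.isPGroup le_top
  have key : ∀ u : G, u * a * u⁻¹ ∈ T → h * (u * a * u⁻¹) * h⁻¹ = a := by
    intro u hu
    have hS : h * (u * a * u⁻¹) * h⁻¹ ∈ (S : Subgroup G) := hh (CfsgLib.ConjFunctor.conj_mem_cj hu)
    have he : h * u * a * (h * u)⁻¹ = h * (u * a * u⁻¹) * h⁻¹ := by simp [mul_assoc]
    rw [← he] at hS ⊢
    exact hwc _ hS
  have h1 := key g (hgT (Subgroup.mem_zpowers _))
  have h2 := key c (hcT (CfsgLib.ConjFunctor.conj_mem_cj (Subgroup.mem_zpowers a)))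
  have h3 : g * a * g⁻¹ = c * a * c⁻¹ := mul_left_cancel (mul_right_cancel (h1.trans h2.symm))
  have h4 : b = c * a ^ n * c⁻¹ := by rw [hbdef, ← conj_pow, h3, conj_pow]
  have h5 : c * b = b * c := Subgroup.mem_centralizer_singleton_iff.1 hc
  calc b = c⁻¹ * (c * b) := by simp
    _ = c⁻¹ * (b * c) := by rw [h5]
    _ = c⁻¹ * (c * a ^ n * c⁻¹) * c := by rw [← mul_assoc, ← h4]
    _ = a ^ n := by simp [mul_assoc]

end Cfsg.Agent.S1939
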