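import Cfsg.Statements.S1940
import Mathlib.Algebra.BigOperators.Group.Finset.Basic
import Mathlib.GroupTheory.QuotientGroup.Defs
import Mathlib.Algebra.BigOperators.GroupWithZero.Action
import Mathlib.GroupTheory.OrderOfElement
import Mathlib.Data.Int.GCD

set_option autoImplicit false
open Cfsg

namespace Cfsg.Agent.S1940

/-- Let the finite group L act by automorphisms on the finite abelian group M, and let N be an L-invariant subgroup of M such that M/N is a p-group on which L acts trivially (every l • m lies in the coset mN). If every element of M is a product of an element of N and an element fixed by a Sylow p-subgroup T of L, then every element of M is a product of an element of N and an element fixed by all of L. -/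
theorem result {L : Type*} [Group L] [Finite L] {M : Type*} [CommGroup M] [Finite M] [MulDistribMulAction L M]
    {p : ℕ} [Fact p.Prime] (N : Subgroup M) (hN : ∀ (l : L) (m : M), m ∈ N → l • m ∈ N)
    (hquot : IsPGroup p (M ⧸ N)) (htriv : ∀ (l : L) (m : M), (l • m) * m⁻¹ ∈ N) (T : Sylow p L)
    (hT : ∀ m : M, ∃ n ∈ N, ∃ c : M, (∀ t ∈ (T : Subgroup L), t • c = c) ∧ m = n * c) :
    ∀ m : M, ∃ n ∈ N, ∃ c : M, (∀ l : L, l • c = c) ∧ m = n * c := by
  classical
  haveI : Fintype (L ⧸ (T : Subgroup L)) := Fintype.ofFinite _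
  intro m
  obtain ⟨n, hn, c, hc, rfl⟩ := hT m
  let f : L ⧸ (T : Subgroup L) → M := fun q => Quotient.liftOn' q (fun l => l • c) fun a b hab => by
    have h1 : a⁻¹ * b ∈ (T : Subgroup L) := QuotientGroup.leftRel_apply.1 hab
    have h2 := hc _ h1
    calc a • c = a • ((a⁻¹ * b) • c) := by rw [h2]
      _ = b • c := by rw [smul_smul, mul_inv_cancel_left]
  have hf : ∀ (l : L) q, l • f q = f (l • q) := by
    intro l q
    induction q using Quotient.inductionOn' with
    | h a => exact (mul_smul l a c).symm
  set d := ∏ q, f q with hd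
  have hfix : ∀ l : L, l • d = d := by
    intro l
    rw [hd, Finset.smul_prod']
    simp only [hf]
    exact Fintype.prod_equiv (MulAction.toPerm l) _ _ (fun _ => rfl)
  have hmk : (QuotientGroup.mk d : M ⧸ N) =
      (QuotientGroup.mk c : M ⧸ N) ^ (T : Subgroup L).index := by
    rw [hd, ← QuotientGroup.mk'_apply N, map_prod, Subgroup.index, Nat.card_eq_fintype_card,
      ← Finset.card_univ, ← Finset.prod_const]
    refine Finset.prod_congr rfl fun q _ => ?_
    induction q using Quotient.inductionOn' with
    | h a =>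
      refine (QuotientGroup.eq_iff_div_mem).2 ?_
      rw [div_eq_mul_inv]
      exact htriv a c
  -- use the inverse exponent
  obtain ⟨j, hj⟩ : ∃ j : ℕ, (QuotientGroup.mk d : M ⧸ N) ^ j = QuotientGroup.mk c := by
    have hmem : (QuotientGroup.mk c : M ⧸ N) ∈ Subgroup.zpowers ((QuotientGroup.mk c : M ⧸ N) ^
        (T : Subgroup L).index) := by
      obtain ⟨i, hi⟩ := hquot (QuotientGroup.mk c)
      refine (Subgroup.mem_zpowers_iff).2 ?_
      have hcop : (T : Subgroup L).index.Coprime (p ^ i) :=
        ((Nat.Prime.coprime_iff_not_dvd Fact.out).2 T.not_dvd_index).symm.pow_right i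
      refine ⟨Nat.gcdA (T : Subgroup L).index (p ^ i), ?_⟩
      have hg := Nat.gcd_eq_gcd_ab (T : Subgroup L).index (p ^ i)
      rw [hcop.gcd_eq_one] at hg
      calc ((QuotientGroup.mk c : M ⧸ N) ^ (T : Subgroup L).index) ^
            Nat.gcdA (T : Subgroup L).index (p ^ i)
          = (QuotientGroup.mk c : M ⧸ N) ^ ((1 : ℤ) - ((p ^ i : ℕ) : ℤ) *
              Nat.gcdB (T : Subgroup L).index (p ^ i)) := by
            rw [← zpow_natCast, ← zpow_mul]
            congr 1
            push_cast at hg ⊢
            omega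
        _ = QuotientGroup.mk c := by
            rw [zpow_sub, zpow_mul, zpow_natCast, hi]; simp
    rw [← hmk] at hmem
    haveI : Finite (M ⧸ N) := inferInstance
    exact Submonoid.mem_powers_iff _ _ |>.1 (mem_powers_iff_mem_zpowers.2 hmem)
  refine ⟨n * c * (d ^ j)⁻¹, ?_, d ^ j, fun l => by rw [smul_pow', hfix], by simp⟩
  have h1 : c * (d ^ j)⁻¹ ∈ N := by
    have h2 : ((c * (d ^ j)⁻¹ : M) : M ⧸ N) = 1 := by
      rw [QuotientGroup.mk_mul, QuotientGroup.mk_inv, QuotientGroup.mk_pow, hj]; simp
    exact (QuotientGroup.eq_one_iff _).1 h2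
  rw [mul_assoc]
  exact mul_mem hn h1

end Cfsg.Agent.S1940
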