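import Cfsg.Statements.S1941
import Cfsg.Agent.Lib.Components.GenFitting
import Cfsg.Agent.Lib.Solvable.Core
import Cfsg.Agent.Lib.KSteps.GFit
import Mathlib.Algebra.BigOperators.Group.Finset.Basic
import Mathlib.GroupTheory.GroupAction.ConjAct

set_option autoImplicit false
open Cfsg

namespace Cfsg.Agent.S1941

/-- Let G be a finite group with no nontrivial normal subgroup of order prime to p, T a Sylow p-subgroup of G and E(G) the layer of G (the subgroup generated by its components). An automorphism of G of p-power order that fixes T and E(G) elementwise is inner. -/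
theorem result {G : Type*} [Group G] [Finite G] {p : ℕ} [Fact p.Prime] (hcore : Cfsg.pPrimeCore p G = ⊥)
    (T : Sylow p G) (α : MulAut G) (hα : ∃ j : ℕ, orderOf α = p ^ j) (hfixT : ∀ x ∈ (T : Subgroup G), α x = x)
    (hfixE : ∀ x ∈ Cfsg.layer G, α x = x) : ∃ g : G, ∀ x : G, α x = g * x * g⁻¹ := by
  classical
  have hT := T.isPGroup'
  -- everything in `A := C(F*)` is a `p`-element fixed by `α`
  set F := Cfsg.generalizedFittingSubgroup G with hF
  have hFfit : Cfsg.fittingSubgroup G ≤ Cfsg.pCore p G := by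
    rw [CfsgLib.Solvable.fittingSubgroup_eq_iSup_pCore]
    refine iSup_le fun q => ?_
    by_cases h : (q : ℕ) = p
    · rw [h]
    · haveI : Fact (q : ℕ).Prime := ⟨(Nat.mem_primeFactors.1 q.2).1⟩
      obtain ⟨k, hk⟩ := CfsgLib.Solvable.card_pCore (p := (q : ℕ)) (G := G)
      have := CfsgLib.Solvable.le_pPrimeCore (p := p) (CfsgLib.Solvable.pCore_normal (q : ℕ) G)
        (by rw [hk]; exact ((Nat.coprime_primes Fact.out Fact.out).2 h).pow_left k)
      rw [hcore] at this
      exact this.trans bot_le
  have hFT : Cfsg.pCore p G ≤ (T : Subgroup G) := CfsgLib.Solvable.pCore_le_sylow T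
  have hfixF : ∀ f ∈ F, α f = f := by
    intro f hf
    have hle : F ≤ (MonoidHom.eqLocus α.toMonoidHom (MonoidHom.id G)) :=
      sup_le (fun x hx => hfixE x hx) (fun x hx => hfixT x (hFT (hFfit hx)))
    exact hle hf
  haveI hFn : F.Normal := CfsgLib.KSteps.gfit_normal G
  set A := Subgroup.centralizer (F : Set G) with hA
  haveI hAn : A.Normal := Subgroup.normal_centralizer
  have hAF : A ≤ F := CfsgLib.Components.centralizer_genFitting_le
  have hAcomm : ∀ a b : A, a * b = b * a := fun a b =>
    Subtype.ext ((Subgroup.mem_centralizer_iff.1 b.2) a (hAF a.2))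
  have hAp : A ≤ Cfsg.pCore p G :=
    (CfsgLib.Solvable.le_fittingSubgroup inferInstance
      (CfsgLib.Solvable.isNilpotent_of_comm hAcomm)).trans hFfit
  letI : CommGroup A := { (inferInstance : Group A) with mul_comm := hAcomm }
  -- the derivation
  have hd : ∀ g : G, α g * g⁻¹ ∈ A := by
    intro g
    rw [hA, Subgroup.mem_centralizer_iff]
    intro f hf
    have h1 : α (g⁻¹ * f * g) = g⁻¹ * f * g := hfixF _ (by simpa using hFn.conj_mem f hf g⁻¹)
    rw [map_mul, map_mul, map_inv, hfixF f hf] at h1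
    calc f * (α g * g⁻¹) = α g * ((α g)⁻¹ * f * α g) * g⁻¹ := by simp [mul_assoc]
      _ = α g * (g⁻¹ * f * g) * g⁻¹ := by rw [h1]
      _ = α g * g⁻¹ * f := by simp [mul_assoc]
  let d : G → A := fun g => ⟨α g * g⁻¹, hd g⟩
  have hdT : ∀ g, ∀ t ∈ (T : Subgroup G), α (g * t) * (g * t)⁻¹ = α g * g⁻¹ := fun g t ht => by
    rw [map_mul, hfixT t ht]; simp [mul_assoc]
  haveI : Fintype (G ⧸ (T : Subgroup G)) := Fintype.ofFinite _
  let f : G ⧸ (T : Subgroup G) → A := fun q => Quotient.liftOn' q d fun u v huv => by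
    have h := hdT u _ (QuotientGroup.leftRel_apply.1 huv)
    rw [mul_inv_cancel_left] at h
    exact Subtype.ext h.symm
  set b := ∏ q, f q with hb
  let conjA : G → (A →* A) := fun h => ((MulAut.conjNormal h : MulAut A)).toMonoidHom
  have hcoc : ∀ h : G, ∀ q, f (h • q) = d h * conjA h (f q) := by
    intro h q
    induction q using Quotient.inductionOn' with
    | h u =>
      refine Subtype.ext ?_
      show α (h * u) * (h * u)⁻¹ = α h * h⁻¹ * (h * (α u * u⁻¹) * h⁻¹)
      simp [mul_assoc]
  have hbh : ∀ h : G, b = d h ^ (T : Subgroup G).index * conjA h b := by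
    intro h
    calc b = ∏ q, f (h • q) :=
          (Fintype.prod_equiv (MulAction.toPerm h) _ _ (fun _ => rfl)).symm
      _ = ∏ q, d h * conjA h (f q) := by simp_rw [hcoc]
      _ = d h ^ (T : Subgroup G).index * conjA h b := by
          rw [Finset.prod_mul_distrib, Finset.prod_const, Finset.card_univ, map_prod,
            Subgroup.index, Nat.card_eq_fintype_card]
  have hAP : IsPGroup p A := (CfsgLib.Solvable.pCore_isPGroup p G).to_le hAp
  obtain ⟨e, he⟩ := (hAP.powEquiv' T.not_dvd_index).surjective b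
  refine ⟨e, fun h => ?_⟩
  have h1 : (e * (conjA h e)⁻¹) ^ (T : Subgroup G).index = d h ^ (T : Subgroup G).index := by
    have he' : e ^ (T : Subgroup G).index = b := he
    rw [mul_pow, inv_pow, ← map_pow, he']
    conv_lhs => arg 1; rw [hbh h]
    rw [mul_inv_cancel_right]
  have h2 := congrArg Subtype.val ((hAP.powEquiv' T.not_dvd_index).injective h1)
  change (e : G) * (h * e * h⁻¹)⁻¹ = α h * h⁻¹ at h2
  calc α h = α h * h⁻¹ * h := by simp
    _ = (e : G) * h * (e : G)⁻¹ := by rw [← h2]; simp [mul_assoc]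

end Cfsg.Agent.S1941
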