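import Cfsg.Statements.S1944
import Cfsg.Agent.Lib.Solvable.Core
import Cfsg.Agent.Lib.ConjFunctor.Basic
import Mathlib.Algebra.BigOperators.Group.Finset.Basic
import Mathlib.GroupTheory.GroupAction.ConjAct

set_option autoImplicit false
open Cfsg

namespace Cfsg.Agent.S1944

/-- Let S be a Sylow p-subgroup of the finite group G and suppose that the centre Z(S) lies in O_{p',p}(G). The elements of S each of which is its only G-conjugate in S form a subgroup W of Z(S); W is then a direct factor of Z(S): there is a subgroup K of Z(S) with W ∩ K = 1 and WK = Z(S). -/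
theorem result {G : Type*} [Group G] [Finite G] {p : ℕ} [Fact p.Prime] (S : Sylow p G)
    (hZ : ((S : Subgroup G) ⊓ Subgroup.centralizer ((S : Subgroup G) : Set G)) ≤ Cfsg.pPrimePCore p G) :
    ∃ W K : Subgroup G, (∀ x : G, x ∈ W ↔ (x ∈ (S : Subgroup G) ∧ ∀ g : G, g * x * g⁻¹ ∈ (S : Subgroup G) → g * x * g⁻¹ = x)) ∧
      K ≤ ((S : Subgroup G) ⊓ Subgroup.centralizer ((S : Subgroup G) : Set G)) ∧ W ⊓ K = ⊥ ∧ W ⊔ K = ((S : Subgroup G) ⊓ Subgroup.centralizer ((S : Subgroup G) : Set G)) := by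
  classical
  have hS := S.isPGroup'
  set D := Cfsg.pPrimeCore p G with hD
  haveI hDn : D.Normal := CfsgLib.Solvable.pPrimeCore_normal p G
  set f := QuotientGroup.mk' D with hf
  set Z := (S : Subgroup G) ⊓ Subgroup.centralizer ((S : Subgroup G) : Set G) with hZdef
  have hDcop : (Nat.card D).Coprime p := CfsgLib.Solvable.pPrimeCore_card_coprime p G
  have hSD : ∀ x ∈ (S : Subgroup G), x ∈ D → x = 1 := by
    intro x hx hxD
    obtain ⟨k, hk⟩ := hS ⟨x, hx⟩
    have h1 : orderOf x ∣ p ^ k := orderOf_dvd_of_pow_eq_one (congrArg Subtype.val hk)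
    have h2 : orderOf x ∣ Nat.card D := D.orderOf_dvd_natCard hxD
    have h3 := Nat.dvd_gcd h2 h1
    rw [(hDcop.pow_right k).gcd_eq_one, Nat.dvd_one] at h3
    exact orderOf_eq_one_iff.1 h3
  have hinj : ∀ x ∈ (S : Subgroup G), ∀ y ∈ (S : Subgroup G), f x = f y → x = y := by
    intro x hx y hy h
    refine (inv_mul_eq_one.1 (hSD _ (mul_mem (inv_mem hx) hy) ?_))
    exact (QuotientGroup.eq).1 h
  haveI hQn : (Cfsg.pCore p (G ⧸ D)).Normal := CfsgLib.Solvable.pCore_normal p _
  set Q := Cfsg.pCore p (G ⧸ D) with hQ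
  have hQS : Q ≤ (S : Subgroup G).map f := by
    have hsurj : Function.Surjective f := QuotientGroup.mk'_surjective D
    have := CfsgLib.Solvable.pCore_le_sylow (S.mapSurjective hsurj)
    rwa [Sylow.coe_mapSurjective] at this
  have hRS : ∀ r, f r ∈ Q → ∃ s ∈ (S : Subgroup G), f s = f r := fun r hr => hQS hr
  have hZQ : ∀ z ∈ Z, f z ∈ Q := fun z hz => hZ hz
  have hWZ : ∀ x ∈ (S : Subgroup G),
      (∀ g : G, g * x * g⁻¹ ∈ (S : Subgroup G) → g * x * g⁻¹ = x) → x ∈ Z := by
    intro x hx hw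
    refine ⟨hx, Subgroup.mem_centralizer_iff.2 fun s hs => ?_⟩
    have := hw s (mul_mem (mul_mem hs hx) (inv_mem hs))
    calc s * x = s * x * s⁻¹ * s := by simp
      _ = x * s := by rw [this]
  -- weakly closed elements are the central ones modulo `D`
  let W : Subgroup G := Z ⊓ (Subgroup.center (G ⧸ D)).comap f
  have hW : ∀ x : G, x ∈ W ↔ (x ∈ (S : Subgroup G) ∧
      ∀ g : G, g * x * g⁻¹ ∈ (S : Subgroup G) → g * x * g⁻¹ = x) := by
    intro x
    constructor
    · rintro ⟨hxZ, hxc⟩
      refine ⟨hxZ.1, fun g hg => hinj _ hg _ hxZ.1 ?_⟩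
      rw [map_mul, map_mul, map_inv, Subgroup.mem_center_iff.1 hxc (f g), mul_inv_cancel_right]
    · rintro ⟨hx, hw⟩
      refine ⟨hWZ x hx hw, Subgroup.mem_center_iff.2 fun q => ?_⟩
      obtain ⟨g, rfl⟩ := QuotientGroup.mk'_surjective D q
      have hgx : f (g * x * g⁻¹) ∈ Q := by
        rw [map_mul, map_mul, map_inv]
        exact hQn.conj_mem _ (hZQ x (hWZ x hx hw)) _
      obtain ⟨s, hs, hfs⟩ := hRS _ hgx
      -- `⟨s⟩` is a Sylow subgroup of `⟨s⟩ D`
      set H := Subgroup.zpowers s ⊔ D with hH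
      have hsyl : CfsgLib.ConjFunctor.IsSyl p (Subgroup.zpowers s) H := by
        refine ⟨le_sup_left, hS.to_le ((Subgroup.zpowers_le).2 hs), fun hdvd => ?_⟩
        have h2 : (Subgroup.zpowers s).relIndex H ∣ Nat.card D := by
          refine (Nat.mul_dvd_mul_iff_left (Nat.card_pos (α := Subgroup.zpowers s))).1 ?_
          rw [← Subgroup.relIndex_bot_left (Subgroup.zpowers s),
            Subgroup.relIndex_mul_relIndex _ _ _ bot_le le_sup_left, Subgroup.relIndex_bot_left,
            Subgroup.relIndex_bot_left]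
          have h3 := CfsgLib.Solvable.card_sup_dvd_mul D (Subgroup.zpowers s)
          rwa [sup_comm, mul_comm] at h3
        exact (Nat.Prime.coprime_iff_not_dvd Fact.out).1 hDcop.symm (hdvd.trans h2)
      have hmem : g * x * g⁻¹ ∈ H := by
        have h1 : s⁻¹ * (g * x * g⁻¹) ∈ D := (QuotientGroup.eq).1 hfs
        have h2 := mul_mem (Subgroup.mem_sup_left (T := D) (Subgroup.mem_zpowers s))
          (Subgroup.mem_sup_right (S := Subgroup.zpowers s) h1)
        rwa [mul_inv_cancel_left] at h2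
      obtain ⟨h, hh, hle⟩ := hsyl.exists_cj_le (P := Subgroup.zpowers (g * x * g⁻¹)) (by
        have := (hS.to_le ((Subgroup.zpowers_le).2 hx)).map (MulAut.conj g).toMonoidHom
        rwa [MonoidHom.map_zpowers] at this) ((Subgroup.zpowers_le).2 hmem)
      rw [hH, ← SetLike.mem_coe, Subgroup.mul_normal] at hh
      obtain ⟨u, hu, d, hd, rfl⟩ := hh
      have hle' : u * d * (g * x * g⁻¹) * (u * d)⁻¹ ∈ (S : Subgroup G) :=
        ((Subgroup.zpowers_le).2 hs)
          (hle (CfsgLib.ConjFunctor.conj_mem_cj (Subgroup.mem_zpowers _)))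
      have he : u * d * g * x * (u * d * g)⁻¹ = u * d * (g * x * g⁻¹) * (u * d)⁻¹ := by
        simp [mul_assoc]
      rw [← he] at hle'
      have h3 := congrArg f (hw _ hle')
      have hux : u * x * u⁻¹ = x :=
        hw u (mul_mem (mul_mem ((Subgroup.zpowers_le).2 hs hu) hx)
          (inv_mem ((Subgroup.zpowers_le).2 hs hu)))
      have hfd : f d = 1 := (QuotientGroup.eq_one_iff d).2 hd
      rw [map_mul, map_mul, map_inv, map_mul, map_mul, hfd, mul_one, mul_inv_rev] at h3
      have h4 := congrArg f hux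
      rw [map_mul, map_mul, map_inv] at h4
      have h5 : f g * f x * (f g)⁻¹ = f x := by
        refine mul_left_cancel (a := f u) (mul_right_cancel (b := (f u)⁻¹) ?_)
        rw [h4]
        simpa [mul_assoc] using h3
      calc f g * f x = f g * f x * (f g)⁻¹ * f g := by simp
        _ = f x * f g := by rw [h5]
  -- the averaging map
  set V := (Subgroup.center Q).map Q.subtype with hV
  haveI hVn : V.Normal := by rw [hV]; infer_instance
  have hVQ : V ≤ Q := Subgroup.map_subtype_le _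
  have hZV : ∀ z ∈ Z, f z ∈ V := by
    intro z hz
    refine ⟨⟨f z, hZQ z hz⟩, Subgroup.mem_center_iff.2 fun q => ?_, rfl⟩
    obtain ⟨s, hs, hsq⟩ := hQS q.2
    refine Subtype.ext ?_
    show (q : G ⧸ D) * f z = f z * q
    rw [← hsq, ← map_mul, ← map_mul, Subgroup.mem_centralizer_iff.1 hz.2 s hs]
  have hVcomm : ∀ a b : V, a * b = b * a := by
    rintro ⟨_, a, ha, rfl⟩ ⟨_, b, hb, rfl⟩
    refine Subtype.ext ?_
    show ((a * b : Q) : G ⧸ D) = ((b * a : Q) : G ⧸ D)
    rw [Subgroup.mem_center_iff.1 hb a]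
  letI : CommGroup V := { (inferInstance : Group V) with mul_comm := hVcomm }
  haveI : Fintype (G ⧸ (S : Subgroup G)) := Fintype.ofFinite _
  let zV : Z →* V :=
    { toFun := fun z => ⟨f z, hZV z z.2⟩
      map_one' := Subtype.ext (map_one f)
      map_mul' := fun a b => Subtype.ext (map_mul f _ _) }
  let conjV : G → (V →* V) := fun g => ((MulAut.conjNormal (f g) : MulAut V)).toMonoidHom
  have hwd : ∀ (z : Z) (a b : G), a⁻¹ * b ∈ (S : Subgroup G) →
      conjV a (zV z) = conjV b (zV z) := by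
    intro z a b hab
    refine Subtype.ext ?_
    show f a * f z * (f a)⁻¹ = f b * f z * (f b)⁻¹
    have h := Subgroup.mem_centralizer_iff.1 z.2.2 _ hab
    have h2 : a * z * a⁻¹ = b * z * b⁻¹ := by
      calc a * (z : G) * a⁻¹ = a * ((z : G) * (a⁻¹ * b)) * (a⁻¹ * b)⁻¹ * a⁻¹ := by simp [mul_assoc]
        _ = a * ((a⁻¹ * b) * (z : G)) * (a⁻¹ * b)⁻¹ * a⁻¹ := by rw [h]
        _ = b * z * b⁻¹ := by simp [mul_assoc]
    simpa using congrArg f h2
  let avg : Z →* V :=
    { toFun := fun z => ∏ q : G ⧸ (S : Subgroup G), Quotient.liftOn' q (fun a => conjV a (zV z))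
        fun a b hab => hwd z a b (QuotientGroup.leftRel_apply.1 hab)
      map_one' := Finset.prod_eq_one fun q _ => by
        induction q using Quotient.inductionOn' with
        | h a => simp
      map_mul' := fun z z' => by
        rw [← Finset.prod_mul_distrib]
        refine Finset.prod_congr rfl fun q _ => ?_
        induction q using Quotient.inductionOn' with
        | h a => simp }
  have hfix : ∀ z (g : G), conjV g (avg z) = avg z := by
    intro z g
    show conjV g (∏ q, _) = ∏ q, _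
    rw [map_prod]
    refine Fintype.prod_equiv (MulAction.toPerm g) _ _ fun q => ?_
    induction q using Quotient.inductionOn' with
    | h a =>
      refine Subtype.ext ?_
      show f g * (f a * f z * (f a)⁻¹) * (f g)⁻¹ = f (g * a) * f z * (f (g * a))⁻¹
      simp [mul_assoc]
  have havg : ∀ z : Z, ∃ w : Z, (w : G) ∈ W ∧ zV w = avg z := by
    intro z
    have hcen : ((avg z : V) : G ⧸ D) ∈ Subgroup.center (G ⧸ D) := by
      refine Subgroup.mem_center_iff.2 fun q => ?_
      obtain ⟨g, rfl⟩ := QuotientGroup.mk'_surjective D q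
      have h1 : f g * (avg z : G ⧸ D) * (f g)⁻¹ = (avg z : G ⧸ D) :=
        congrArg Subtype.val (hfix z g)
      calc f g * (avg z : G ⧸ D) = f g * (avg z : G ⧸ D) * (f g)⁻¹ * f g := by simp
        _ = _ := by rw [h1]
    obtain ⟨s, hs, hsq⟩ := hQS (hVQ (avg z).2)
    have hsW : s ∈ W := by
      refine (hW s).2 ⟨hs, fun g hg => hinj _ hg _ hs ?_⟩
      rw [map_mul, map_mul, map_inv, hsq, Subgroup.mem_center_iff.1 hcen (f g),
        mul_inv_cancel_right]
    exact ⟨⟨s, hsW.1⟩, hsW, Subtype.ext hsq⟩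
  have havgW : ∀ w : Z, (w : G) ∈ W → avg w = zV w ^ (S : Subgroup G).index := by
    intro w hw
    have h1 : ∀ a : G, conjV a (zV w) = zV w := fun a => Subtype.ext (by
      show f a * f w * (f a)⁻¹ = f w
      rw [Subgroup.mem_center_iff.1 hw.2 (f a), mul_inv_cancel_right])
    show ∏ q : G ⧸ (S : Subgroup G), _ = _
    rw [Subgroup.index, Nat.card_eq_fintype_card, ← Finset.card_univ, ← Finset.prod_const]
    refine Finset.prod_congr rfl fun q _ => ?_
    induction q using Quotient.inductionOn' with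
    | h a => exact h1 a
  have hzinj : Function.Injective zV := fun a b h =>
    Subtype.ext (hinj _ a.2.1 _ b.2.1 (congrArg Subtype.val h))
  have hZp : IsPGroup p Z := hS.to_le inf_le_left
  let P := hZp.powEquiv' (S.not_dvd_index)
  refine ⟨W, avg.ker.map Z.subtype, hW, Subgroup.map_subtype_le _, ?_, ?_⟩
  · rw [eq_bot_iff]
    rintro _ ⟨hx, z, hz, rfl⟩
    rw [SetLike.mem_coe, MonoidHom.mem_ker, havgW z hx, ← map_pow] at hz
    have h2 : P z = P 1 := by
      show z ^ (S : Subgroup G).index = 1 ^ (S : Subgroup G).index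
      rw [one_pow]; exact hzinj (hz.trans (map_one zV).symm)
    rw [P.injective h2]; simp
  · refine le_antisymm (sup_le inf_le_left (Subgroup.map_subtype_le _)) fun x hx => ?_
    obtain ⟨w, hw, hwz⟩ := havg ⟨x, hx⟩
    obtain ⟨⟨v, hv⟩, hvw⟩ := ((hS.to_le ((inf_le_left : W ≤ Z).trans inf_le_left)).powEquiv'
      S.not_dvd_index).surjective ⟨(w : G), hw⟩
    have hvZ : v ∈ Z := hv.1
    have hvw' : (⟨v, hvZ⟩ : Z) ^ (S : Subgroup G).index = w :=
      Subtype.ext (congrArg (fun y : W => (y : G)) hvw)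
    have hker : (⟨x, hx⟩ : Z) * (⟨v, hvZ⟩ : Z)⁻¹ ∈ avg.ker := by
      rw [MonoidHom.mem_ker, map_mul, map_inv, havgW ⟨v, hvZ⟩ hv, ← map_pow, hvw', hwz,
        mul_inv_cancel]
    have := Subgroup.mul_mem_sup (S := avg.ker.map Z.subtype) (T := W) ⟨_, hker, rfl⟩ hv
    rw [sup_comm] at this
    simpa using this

end Cfsg.Agent.S1944
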