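import Cfsg.Statements.S1945
import Cfsg.Agent.S1985
import Cfsg.Agent.Lib.Case.CoprimeConstrained
import Cfsg.Agent.Lib.PLocal.SylowAux
import Cfsg.Agent.Lib.KInf.Local

set_option autoImplicit false
open Cfsg

namespace Cfsg.Agent.S1945

open Subgroup
open scoped commutatorElement

/-- If every element of `S` centralizing `N(K)` is weakly closed, where `Z(S) ≤ K ≤ S ≤ N(K)`, then the
weakly closed elements form a direct factor of `Z(S)`: the trace over `N(K)/S` splits it off. -/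
theorem direct_factor {G : Type*} [Group G] [Finite G] {p : ℕ} [Fact p.Prime] (S : Sylow p G) (K : Subgroup G)
    (hKS : K ≤ (S : Subgroup G)) (hSK : (S : Subgroup G) ≤ normalizer (K : Set G))
    (hZK : (S : Subgroup G) ⊓ centralizer ((S : Subgroup G) : Set G) ≤ K)
    (hwc : ∀ x ∈ (S : Subgroup G), x ∈ centralizer ((normalizer (K : Set G) : Subgroup G) : Set G) →
      ∀ g : G, g * x * g⁻¹ ∈ (S : Subgroup G) → g * x * g⁻¹ = x) :
    ∃ W K' : Subgroup G, (∀ x : G, x ∈ W ↔ (x ∈ (S : Subgroup G) ∧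
        ∀ g : G, g * x * g⁻¹ ∈ (S : Subgroup G) → g * x * g⁻¹ = x)) ∧
      K' ≤ ((S : Subgroup G) ⊓ centralizer ((S : Subgroup G) : Set G)) ∧ W ⊓ K' = ⊥ ∧
      W ⊔ K' = ((S : Subgroup G) ⊓ centralizer ((S : Subgroup G) : Set G)) := by
  classical
  set N : Subgroup G := normalizer (K : Set G) with hNdef
  set Z := (S : Subgroup G) ⊓ centralizer ((S : Subgroup G) : Set G) with hZdef
  set W := (S : Subgroup G) ⊓ centralizer (N : Set G) with hWdef
  have hWiff : ∀ x : G, x ∈ W ↔ (x ∈ (S : Subgroup G) ∧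
      ∀ g : G, g * x * g⁻¹ ∈ (S : Subgroup G) → g * x * g⁻¹ = x) := by
    refine fun x => ⟨fun hx => ⟨hx.1, hwc x hx.1 hx.2⟩, fun ⟨hxS, hxw⟩ => ⟨hxS, ?_⟩⟩
    have hxZ : x ∈ Z := ⟨hxS, mem_centralizer_iff.2 fun s hs =>
      mul_inv_eq_iff_eq_mul.1 (hxw s (mul_mem (mul_mem hs hxS) (inv_mem hs)))⟩
    refine mem_centralizer_iff.2 fun n hn => mul_inv_eq_iff_eq_mul.1 (hxw n (hKS ?_))
    exact (mem_normalizer_iff.1 hn x).1 (hZK hxZ)
  -- the abelian group `Z(K)`
  set A := K ⊓ centralizer (K : Set G) with hAdef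
  have hZA : Z ≤ A := fun z hz => ⟨hZK hz, mem_centralizer_iff.2 fun k hk =>
    mem_centralizer_iff.1 hz.2 k (hKS hk)⟩
  have hAc : ∀ n ∈ N, ∀ a ∈ A, n * a * n⁻¹ ∈ A := fun n hn a ha =>
    ⟨(mem_normalizer_iff.1 hn a).1 ha.1, mem_centralizer_iff.2 fun k hk => by
      have hk' : n⁻¹ * k * n ∈ K := by
        have h := (mem_normalizer_iff.1 (inv_mem hn) k).1 hk; rwa [inv_inv] at h
      have h := mem_centralizer_iff.1 ha.2 _ hk'
      calc k * (n * a * n⁻¹) = n * ((n⁻¹ * k * n) * a) * n⁻¹ := by group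
        _ = n * (a * (n⁻¹ * k * n)) * n⁻¹ := by rw [h]
        _ = n * a * n⁻¹ * k := by group⟩
  haveI : IsMulCommutative A := IsMulCommutative.of_setLike_mul_comm fun a ha b hb =>
    mem_centralizer_iff.1 hb.2 a ha.1
  letI : CommGroup ↥A := { (inferInstance : Group ↥A) with mul_comm := mul_comm' }
  let C := ↥N ⧸ (S : Subgroup G).subgroupOf N
  haveI : Fintype C := Fintype.ofFinite _
  let act : ↥N → ↥A →* ↥A := fun n => MonoidHom.mk' (fun a => ⟨_, hAc n n.2 a a.2⟩) fun a b =>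
    Subtype.ext (by simp [mul_assoc])
  let f : ↥Z →* ↥A :=
    { toFun := fun z => ∏ c : C, act c.out (inclusion hZA z)
      map_one' := by simp
      map_mul' := fun a b => by simp [map_mul, Finset.prod_mul_distrib] }
  have hact : ∀ (n m : ↥N) (z : ↥Z), (QuotientGroup.mk n : C) = QuotientGroup.mk m →
      act n (inclusion hZA z) = act m (inclusion hZA z) := by
    intro n m z h
    have hs : (n : G)⁻¹ * m ∈ (S : Subgroup G) := (QuotientGroup.eq.1 h :)
    refine Subtype.ext ?_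
    show (n : G) * z * (n : G)⁻¹ = (m : G) * z * (m : G)⁻¹
    have hc := mem_centralizer_iff.1 z.2.2 _ hs
    calc (n : G) * z * (n : G)⁻¹ = (n : G) * (z * ((n : G)⁻¹ * m)) * (m : G)⁻¹ := by group
      _ = (n : G) * ((n : G)⁻¹ * m * z) * (m : G)⁻¹ := by rw [hc]
      _ = (m : G) * z * (m : G)⁻¹ := by group
  have hfW : ∀ z : ↥Z, ((f z : ↥A) : G) ∈ W := by
    intro z
    refine ⟨hKS (f z).2.1, mem_centralizer_iff.2 fun n hn => mul_inv_eq_iff_eq_mul.1 ?_⟩
    have h : act ⟨n, hn⟩ (f z) = f z := by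
      show act ⟨n, hn⟩ (∏ c : C, act c.out (inclusion hZA z)) = ∏ c : C, act c.out (inclusion hZA z)
      rw [map_prod]
      refine Fintype.prod_equiv (MulAction.toPerm (⟨n, hn⟩ : ↥N)) _ _ fun c => ?_
      have e : act ⟨n, hn⟩ (act c.out (inclusion hZA z)) = act (⟨n, hn⟩ * c.out) (inclusion hZA z) :=
        Subtype.ext (by simp [act, mul_assoc])
      rw [e]
      refine hact _ _ z ?_
      rw [QuotientGroup.out_eq']
      show _ = (⟨n, hn⟩ : ↥N) • c
      conv_rhs => rw [← QuotientGroup.out_eq' c]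
      rfl
    exact congrArg (fun y : ↥A => (y : G)) h
  set m := Fintype.card C with hmdef
  have hm : m.Coprime p := by
    refine Nat.Coprime.symm ((Fact.out : p.Prime).coprime_iff_not_dvd.2 ?_)
    rw [hmdef, ← Nat.card_eq_fintype_card]
    exact fun h => S.not_dvd_index (h.trans (Subgroup.relIndex_dvd_index_of_le hSK))
  have hWZ : W ≤ Z := fun x hx => ⟨hx.1, centralizer_le hSK hx.2⟩
  have hfpow : ∀ z : ↥Z, (z : G) ∈ W → ((f z : ↥A) : G) = (z : G) ^ m := by
    intro z hz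
    have e : ∀ c : C, act c.out (inclusion hZA z) = inclusion hZA z := fun c => Subtype.ext (by
      show ((c.out : ↥N) : G) * z * ((c.out : ↥N) : G)⁻¹ = z
      rw [mem_centralizer_iff.1 hz.2 _ c.out.2, mul_inv_cancel_right])
    show ((∏ c : C, act c.out (inclusion hZA z) : ↥A) : G) = _
    simp only [e, Finset.prod_const, Finset.card_univ, SubgroupClass.coe_pow]
    rfl
  have hcop : (Nat.card ↥W).Coprime m := by
    obtain ⟨k, hk⟩ := IsPGroup.iff_card.1 (S.isPGroup'.to_le (inf_le_left : W ≤ _))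
    rw [hk]; exact (Nat.Coprime.pow_right k hm).symm
  refine ⟨W, f.ker.map Z.subtype, hWiff, map_subtype_le _, ?_, ?_⟩
  · rw [eq_bot_iff]
    rintro x ⟨hxW, z, hz, rfl⟩
    rw [mem_bot]
    have h1 : (z : G) ^ m = 1 := by rw [← hfpow z hxW, hz]; rfl
    exact orderOf_eq_one_iff.1 (Nat.eq_one_of_dvd_coprimes hcop
      (orderOf_dvd_natCard (⟨_, hxW⟩ : ↥W) |> fun h => by rwa [Subgroup.orderOf_mk] at h)
      (orderOf_dvd_of_pow_eq_one h1))
  · refine le_antisymm (sup_le hWZ (map_subtype_le _)) fun x hx => ?_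
    obtain ⟨w, hw⟩ := (powCoprime hcop).surjective ⟨_, hfW ⟨x, hx⟩⟩
    have hw' : (w : G) ^ m = ((f ⟨x, hx⟩ : ↥A) : G) := congrArg Subtype.val hw
    let z' : ↥Z := ⟨x, hx⟩ * (⟨w, hWZ w.2⟩)⁻¹
    have hz' : z' ∈ f.ker := by
      rw [MonoidHom.mem_ker, map_mul, map_inv, mul_inv_eq_one]
      exact Subtype.ext ((hfpow ⟨w, hWZ w.2⟩ w.2).trans hw').symm
    have : x = (w : G) * (z' : G) := by
      show x = (w : G) * (x * (w : G)⁻¹)
      rw [← mul_assoc, mem_centralizer_iff.1 hx.2 _ w.2.1, mul_inv_cancel_right]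
    rw [this]
    exact mul_mem (mem_sup_left w.2) (mem_sup_right ⟨z', hz', rfl⟩)

/-- Let S be a Sylow p-subgroup of the finite group G, and assume that p is odd or that G is solvable. The elements of S each of which is its only G-conjugate in S form a subgroup W of Z(S); W is then a direct factor of Z(S): there is a subgroup K of Z(S) with W ∩ K = 1 and WK = Z(S). (For p = 2 and G not solvable this can fail.) -/
theorem result {G : Type*} [Group G] [Finite G] {p : ℕ} [Fact p.Prime] (S : Sylow p G) (h : p ≠ 2 ∨ Group.IsSolvable G) :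
    ∃ W K : Subgroup G, (∀ x : G, x ∈ W ↔ (x ∈ (S : Subgroup G) ∧ ∀ g : G, g * x * g⁻¹ ∈ (S : Subgroup G) → g * x * g⁻¹ = x)) ∧
      K ≤ ((S : Subgroup G) ⊓ Subgroup.centralizer ((S : Subgroup G) : Set G)) ∧ W ⊓ K = ⊥ ∧ W ⊔ K = ((S : Subgroup G) ⊓ Subgroup.centralizer ((S : Subgroup G) : Set G)) := by
  by_cases hp : p = 2
  · subst hp
    haveI : Group.IsSolvable G := h.resolve_left (fun h => h rfl)
    have hcon : IsPConstrained 2 G := CfsgLib.Case.isPConstrained_of_solvable 2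
    haveI : (pPrimePCore 2 G).Normal :=
      Subgroup.Normal.comap (CfsgLib.Solvable.pCore_normal (p := 2) _) _
    set F := pPrimePCore 2 G with hF
    have hPmap := CfsgLib.PLocal.sylowOfNormal_map S F
    refine direct_factor S ((S : Subgroup G) ⊓ F) inf_le_left ?_ ?_ ?_
    · intro s hs
      refine mem_normalizer_fintype fun x hx => ⟨(S : Subgroup G).mul_mem ((S : Subgroup G).mul_mem hs hx.1) ((S : Subgroup G).inv_mem hs), ?_⟩
      exact Subgroup.Normal.conj_mem inferInstance x hx.2 s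
    · intro z hz
      refine ⟨hz.1, hcon (CfsgLib.PLocal.sylowOfNormal S F) ?_⟩
      rw [hPmap]
      exact centralizer_le (inf_le_left : (S : Subgroup G) ⊓ F ≤ S) hz.2
    · intro x hx hxN g hg
      set π := QuotientGroup.mk' (pPrimeCore 2 G) with hπ
      have hg' : g ∈ F ⊔ normalizer (((S : Subgroup G) ⊓ F : Subgroup G) : Set G) := by
        rw [CfsgLib.PLocal.frattini_inf S F]; exact mem_top g
      obtain ⟨c, hc, n, hn, rfl⟩ := Subgroup.mem_sup_of_normal_left.1 hg'
      have hcn : c * n * x * (c * n)⁻¹ = c * x * c⁻¹ := by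
        have : n * x * n⁻¹ = x := by rw [mem_centralizer_iff.1 hxN n hn, mul_inv_cancel_right]
        calc c * n * x * (c * n)⁻¹ = c * (n * x * n⁻¹) * c⁻¹ := by group
          _ = c * x * c⁻¹ := by rw [this]
      rw [hcn] at hg ⊢
      have hcQ : π c ∈ ((S : Subgroup G) ⊓ F).map π := by
        rw [← hPmap, CfsgLib.PLoc.sylow_map_eq_pCore (QuotientGroup.mk'_surjective _)
          (QuotientGroup.ker_mk' _)]
        exact hc
      obtain ⟨q, hq, hqc⟩ := hcQ
      have hxq : q * x = x * q := mem_centralizer_iff.1 hxN q (Subgroup.le_normalizer hq)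
      have h1 : π (c * x * c⁻¹ * x⁻¹) = 1 := by
        simp only [map_mul, map_inv, ← hqc]
        rw [← map_mul, ← map_inv, ← map_mul, ← map_inv, ← map_mul, hxq, mul_inv_cancel_right,
          mul_inv_cancel, map_one]
      have h2 : c * x * c⁻¹ * x⁻¹ ∈ (S : Subgroup G) ⊓ pPrimeCore 2 G :=
        ⟨(S : Subgroup G).mul_mem hg ((S : Subgroup G).inv_mem hx), (QuotientGroup.eq_one_iff _).1 h1⟩
      rw [CfsgLib.PLoc.disjoint_of_pgroup_coprime S.isPGroup' (CfsgLib.PLoc.pPrimeCore_coprime 2),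
        mem_bot] at h2
      exact mul_inv_eq_one.1 h2
  · obtain ⟨hWZ, T, -, hT, hTi, hTwc⟩ := Cfsg.Agent.S1985.result (G := G) hp
    set W := Cfsg.inducedFunctor (G := G) Cfsg.kInfLower with hWdef
    have hW : Cfsg.IsConjugacyFunctor p W :=
      CfsgLib.ConjFunctor.isConjugacyFunctor_inducedFunctor (CfsgLib.KInf.isCharPFunctor_kInfLower p)
    obtain ⟨T', hT'⟩ := hT.exists_le_sylow
    have hTeq : T = (T' : Subgroup G) := by
      refine le_antisymm hT' ?_
      rw [← Subgroup.relIndex_eq_one]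
      obtain ⟨k, hk⟩ := IsPGroup.iff_card.1 T'.isPGroup'
      obtain ⟨i, -, hi⟩ := (Nat.dvd_prime_pow Fact.out).1 (hk ▸ Subgroup.relIndex_dvd_card T (T' : Subgroup G))
      rcases Nat.eq_zero_or_pos i with rfl | hipos
      · simpa using hi
      · refine absurd ?_ hTi
        rw [Subgroup.relIndex_top_right]
        exact ((dvd_pow_self p hipos.ne').trans hi.symm.dvd).trans (Subgroup.relIndex_dvd_index_of_le hT')
    obtain ⟨g, rfl⟩ := MulAction.exists_smul_eq G T' S
    have hS : ((g • T' : Sylow p G) : Subgroup G) = T.map (MulAut.conj g).toMonoidHom := by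
      rw [hTeq]; rfl
    have hWS : W ((g • T' : Sylow p G) : Subgroup G) = (W T).map (MulAut.conj g).toMonoidHom := by
      rw [hS]; exact (hW T hT).2.2 g
    refine direct_factor (g • T') (W ((g • T' : Sylow p G) : Subgroup G)) (hW _ (g • T').isPGroup').1
      (Subgroup.le_normalizer.trans
        (CfsgLib.ConjFunctor.normalizer_le_functor hW (g • T').isPGroup'))
      (hWZ _ (g • T').isPGroup') ?_
    intro x hx hxN k hk
    rw [hWS] at hxN
    rw [hS] at hx hk
    obtain ⟨y, hy, rfl⟩ := hx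
    obtain ⟨y', hy', hyk⟩ := hk
    simp only [MulEquiv.coe_toMonoidHom, MulAut.conj_apply] at hyk hxN ⊢
    have hyN : y ∈ Subgroup.centralizer
        (((⊤ : Subgroup G) ⊓ Subgroup.normalizer ((W T : Subgroup G) : Set G) : Subgroup G) : Set G) := by
      refine mem_centralizer_iff.2 fun n hn => ?_
      have hn' : g * n * g⁻¹ ∈ normalizer (((W T).map (MulAut.conj g).toMonoidHom : Subgroup G) : Set G) :=
        Subgroup.le_normalizer_map _ ⟨n, hn.2, rfl⟩
      have h1 := mem_centralizer_iff.1 hxN _ hn'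
      calc n * y = g⁻¹ * ((g * n * g⁻¹) * (g * y * g⁻¹)) * g := by group
        _ = g⁻¹ * ((g * y * g⁻¹) * (g * n * g⁻¹)) * g := by rw [h1]
        _ = y * n := by group
    have e : g⁻¹ * k * g * y * (g⁻¹ * k * g)⁻¹ = y' := by
      calc g⁻¹ * k * g * y * (g⁻¹ * k * g)⁻¹ = g⁻¹ * (k * (g * y * g⁻¹) * k⁻¹) * g := by group
        _ = g⁻¹ * (g * y' * g⁻¹) * g := by rw [hyk]
        _ = y' := by group
    have h2 := hTwc y ⟨hy, hyN⟩ (g⁻¹ * k * g) (mem_top _) (e.symm ▸ hy')
    rw [e] at h2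
    rw [← hyk, h2]

end Cfsg.Agent.S1945
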