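import Cfsg.Statements.S1946
import Cfsg.Agent.Lib.SmallOrder.Frobenius
import Cfsg.Agent.Lib.PLocal.Constrained

set_option autoImplicit false
open Cfsg

namespace Cfsg.Agent.S1946

/-- Let P be a Sylow p-subgroup of the finite group G. Then G has a normal p-complement if and only if P controls the fusion of its elements of order dividing p (dividing 4 when p = 2): whenever such an element a of P has a G-conjugate g a g⁻¹ in P, that conjugate is already x a x⁻¹ for some x in P. -/
theorem result {G : Type*} [Group G] [Finite G] {p : ℕ} [Fact p.Prime] (P : Sylow p G) :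
    Cfsg.HasNormalPComplement p G ↔
      ∀ a ∈ (P : Subgroup G), (a ^ p = 1 ∨ (p = 2 ∧ a ^ 4 = 1)) → ∀ g : G, g * a * g⁻¹ ∈ (P : Subgroup G) →
        ∃ x ∈ (P : Subgroup G), g * a * g⁻¹ = x * a * x⁻¹ := by
  have hP := P.isPGroup'
  constructor
  · rintro ⟨P₀, K, hK, hKc⟩ a ha _ g hg
    have hcop : (Nat.card K).Coprime p := by
      rw [← hKc.index_eq_card]
      exact ((Nat.Prime.coprime_iff_not_dvd Fact.out).2 P₀.not_dvd_index).symm
    have hdis : (P : Subgroup G) ⊓ K = ⊥ := CfsgLib.PLoc.disjoint_of_pgroup_coprime hP hcop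
    haveI := hK
    have htop : K ⊔ (P : Subgroup G) = ⊤ := by
      refine Subgroup.eq_top_of_le_card _ ?_
      have h1 := Subgroup.relIndex_mul_relIndex ⊥ K (K ⊔ (P : Subgroup G)) bot_le le_sup_left
      rw [Subgroup.relIndex_bot_left, Subgroup.relIndex_bot_left, Subgroup.relIndex_sup_left] at h1
      have h2 : K.relIndex (P : Subgroup G) = Nat.card ↥(P : Subgroup G) := by
        show (K.subgroupOf (P : Subgroup G)).index = _
        rw [show K.subgroupOf (P : Subgroup G) = ⊥ from by
          rw [eq_bot_iff]; intro x hx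
          have : (x : G) ∈ (P : Subgroup G) ⊓ K := ⟨x.2, hx⟩
          rw [hdis] at this
          exact Subtype.ext this, Subgroup.index_bot]
      rw [h2, P.card_eq_multiplicity, ← P₀.card_eq_multiplicity, hKc.card_mul] at h1
      exact h1.le
    have hg' : g ∈ ((K ⊔ (P : Subgroup G) : Subgroup G) : Set G) := by rw [htop]; trivial
    rw [Subgroup.normal_mul] at hg'
    obtain ⟨k, hk, s, hs, rfl⟩ := hg'
    refine ⟨s, hs, ?_⟩
    have hb : s * a * s⁻¹ ∈ (P : Subgroup G) := mul_mem (mul_mem hs ha) (inv_mem hs)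
    have h3 : k * s * a * (k * s)⁻¹ * (s * a * s⁻¹)⁻¹ ∈ (P : Subgroup G) ⊓ K := by
      refine Subgroup.mem_inf.2 ⟨mul_mem hg (inv_mem hb), ?_⟩
      have := hK.conj_mem k⁻¹ (inv_mem hk) (s * a * s⁻¹)
      simpa [mul_assoc] using mul_mem hk this
    rw [hdis, Subgroup.mem_bot, mul_inv_eq_one] at h3
    exact h3
  · intro h
    refine CfsgLib.SmallOrder.hasNormalPComplement_of_coprimeTrivial fun Q hQ x hx hxo q hq => ?_
    obtain ⟨t, -, ht⟩ := (CfsgLib.ConjFunctor.isSyl_top P).exists_cj_le hQ le_top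
    have hQP : IsPGroup p ↥(CfsgLib.ConjFunctor.cj t Q) := CfsgLib.ConjFunctor.isPGroup_cj hQ
    have hxn : t * x * t⁻¹ ∈ Subgroup.normalizer ((CfsgLib.ConjFunctor.cj t Q : Subgroup G) : Set G) := by
      rw [← CfsgLib.ConjFunctor.cj_normalizer]
      exact CfsgLib.ConjFunctor.conj_mem_cj hx
    have hxo' : (orderOf (t * x * t⁻¹)).Coprime p := by
      rwa [← MulAut.conj_apply, MulEquiv.orderOf_eq]
    haveI : Group.IsNilpotent ↥(P : Subgroup G) := hP.isNilpotent
    obtain ⟨n, hn⟩ := (Subgroup.isNilpotent_iff_lowerCentralSeries (P : Subgroup G)).1 inferInstance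
    have key := CfsgLib.SmallOrder.commute_of_chain hQP hxo' hxn
      (fun i => (P : Subgroup G).lowerCentralSeries i) n (fun d hd _ => ht hd) hn ?_
      _ (CfsgLib.ConjFunctor.conj_mem_cj hq)
    · have := congrArg (fun u => t⁻¹ * u * t) key.eq
      show x * q = q * x
      simpa [mul_assoc] using this
    · intro i _ d hd hsmall hdi
      obtain ⟨y, hy, hyd⟩ := h d (ht hd) hsmall (t * x * t⁻¹)
        (ht ((Subgroup.mem_normalizer_iff.1 hxn d).1 hd))
      rw [hyd, Subgroup.lowerCentralSeries_succ]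
      have h4 := inv_mem (Subgroup.commutator_mem_commutator hdi hy)
      simpa [commutatorElement_def, mul_assoc] using h4

end Cfsg.Agent.S1946
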