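import Cfsg.Statements.S1947
import Cfsg.Agent.Lib.SmallOrder.Frobenius

set_option autoImplicit false
open Cfsg

namespace Cfsg.Agent.S1947

/-- Let G be a finite group and p a prime. If every element of G of order dividing p (dividing 4 when p = 2) lies in some fixed term Z_n(G) of the upper central series, then G has a normal p-complement. -/
theorem result {G : Type*} [Group G] [Finite G] {p : ℕ} [Fact p.Prime] (n : ℕ)
    (h : ∀ a : G, (a ^ p = 1 ∨ (p = 2 ∧ a ^ 4 = 1)) → a ∈ Subgroup.upperCentralSeries G n) : Cfsg.HasNormalPComplement p G := by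
  refine CfsgLib.SmallOrder.hasNormalPComplement_of_coprimeTrivial fun Q hQ x hx hxo => ?_
  refine CfsgLib.SmallOrder.commute_of_chain hQ hxo hx
    (fun i => Subgroup.upperCentralSeries G (n - i)) n
    (fun d _ hd => by simpa using h d hd) (by simp) ?_
  intro i hi d _ _ hdi
  have hsucc : n - i = n - (i + 1) + 1 := by omega
  rw [hsucc, Subgroup.mem_upperCentralSeries_succ_iff] at hdi
  have := inv_mem (hdi x)
  simpa [commutatorElement_def, mul_assoc] using this

end Cfsg.Agent.S1947
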