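import Cfsg.Statements.S1948
import Cfsg.Agent.Lib.PLocal.HallHigman
import Cfsg.Agent.Lib.PLocal.SylowAux
import Cfsg.Agent.Lib.ConjFunctor.Basic
import Mathlib.GroupTheory.SchurZassenhaus

set_option autoImplicit false
open Cfsg

namespace Cfsg.Agent.S1948

/-- Let S be a Sylow p-subgroup of the finite group G. Then G = N_G(S)·O_{p'}(G) if and only if G is p-constrained and N_G(S) controls fusion in S, in the sense that whenever a subgroup Q of S has a conjugate g Q g⁻¹ inside S, the element g is a product n c with n normalizing S and c centralizing Q. -/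
theorem result {G : Type*} [Group G] [Finite G] {p : ℕ} [Fact p.Prime] (S : Sylow p G) :
    Subgroup.normalizer ((S : Subgroup G) : Set G) ⊔ Cfsg.pPrimeCore p G = ⊤ ↔
      (Cfsg.IsPConstrained p G ∧
        ∀ Q : Subgroup G, Q ≤ (S : Subgroup G) → ∀ g : G, Q.map (MulAut.conj g).toMonoidHom ≤ (S : Subgroup G) →
          ∃ n ∈ Subgroup.normalizer ((S : Subgroup G) : Set G), ∃ c ∈ Subgroup.centralizer (Q : Set G), g = n * c) := by
  have hS := S.isPGroup'
  set D := Cfsg.pPrimeCore p G with hD
  haveI hDn : D.Normal := CfsgLib.Solvable.pPrimeCore_normal p G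
  set R := Cfsg.pPrimePCore p G with hR
  haveI hRn : R.Normal := by
    haveI := CfsgLib.Solvable.pCore_normal p (G ⧸ D)
    exact Subgroup.Normal.comap inferInstance _
  set f := QuotientGroup.mk' D with hf
  have hfsurj : Function.Surjective f := QuotientGroup.mk'_surjective D
  have hfker : f.ker = D := QuotientGroup.ker_mk' D
  have hDcop : (Nat.card D).Coprime p := CfsgLib.PLoc.pPrimeCore_coprime p
  constructor
  · intro h
    constructor
    · rw [CfsgLib.PLoc.isPConstrained_iff]
      haveI hQn := CfsgLib.Solvable.pCore_normal p (G ⧸ D)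
      haveI hSn : ((S : Subgroup G).map f).Normal := by
        rw [← Subgroup.normalizer_eq_top_iff, eq_top_iff]
        intro q _
        obtain ⟨g, rfl⟩ := hfsurj q
        have hg : g ∈ ((Subgroup.normalizer ((S : Subgroup G) : Set G) ⊔ D : Subgroup G) : Set G) := by
          rw [h]; trivial
        rw [Subgroup.mul_normal] at hg
        obtain ⟨n, hn, d, hd, rfl⟩ := hg
        rw [map_mul, show f d = 1 from (QuotientGroup.eq_one_iff d).2 hd, mul_one,
          ← CfsgLib.ConjFunctor.cj_eq_self_iff]
        show ((S : Subgroup G).map f).map (MulAut.conj (f n)).toMonoidHom = _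
        have hcomp : ((MulAut.conj (f n)).toMonoidHom).comp f = f.comp (MulAut.conj n).toMonoidHom := by
          ext a; simp
        rw [Subgroup.map_map, hcomp, ← Subgroup.map_map]
        exact congrArg _ (CfsgLib.ConjFunctor.cj_eq_self_iff.2 hn)
      set T := (S : Subgroup G).map f with hT
      have hTp : IsPGroup p T := hS.map f
      have hTQ : T ≤ Cfsg.pCore p (G ⧸ D) := CfsgLib.PLoc.le_pCore_of hSn hTp
      have hnd : ¬ p ∣ T.index := by
        rw [hT, show (S : Subgroup G).map f = (S.mapSurjective hfsurj : Subgroup (G ⧸ D)) from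
          (Sylow.coe_mapSurjective _ _).symm]
        exact (S.mapSurjective hfsurj).not_dvd_index
      refine le_trans (Subgroup.centralizer_le (SetLike.coe_subset_coe.2 hTQ)) ?_
      haveI hCn : (Subgroup.centralizer (T : Set (G ⧸ D))).Normal := Subgroup.normal_centralizer
      refine CfsgLib.PLoc.le_pCore_of hCn (CfsgLib.PLoc.isPGroup_of_coprime_order_trivial ?_)
      obtain ⟨K, hK⟩ := Subgroup.exists_right_complement'_of_coprime (N := T) (by
        obtain ⟨k, hk⟩ := IsPGroup.iff_card.1 hTp
        rw [hk]
        exact ((Nat.Prime.coprime_iff_not_dvd Fact.out).2 hnd).pow_left k)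
      -- `C(T) ∩ K` is a normal `p'`-subgroup
      set M := Subgroup.centralizer (T : Set (G ⧸ D)) ⊓ K with hM
      have hMn : M.Normal := by
        rw [← Subgroup.normalizer_eq_top_iff, eq_top_iff, ← hK.sup_eq_top]
        refine sup_le (fun t ht => ?_) ?_
        · rw [Subgroup.mem_normalizer_iff]
          intro a
          constructor
          · intro ha
            have := Subgroup.mem_centralizer_iff.1 ha.1 t ht
            rwa [this, mul_inv_cancel_right]
          · intro ha
            have h2 := Subgroup.mem_centralizer_iff.1 ha.1 t ht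
            have h3 : t * a * t⁻¹ = a := by
              have h4 : t * (t * a * t⁻¹) * t⁻¹ = t * a * t⁻¹ := by rw [h2]; simp
              exact mul_left_cancel (mul_right_cancel h4)
            rwa [h3] at ha
        · intro k hk
          rw [Subgroup.mem_normalizer_iff]
          intro a
          constructor
          · intro ha
            exact ⟨hCn.conj_mem a ha.1 k, K.mul_mem (K.mul_mem hk ha.2) (K.inv_mem hk)⟩
          · intro ha
            have h5 := hCn.conj_mem _ ha.1 k⁻¹
            have h6 := mul_mem (mul_mem (inv_mem hk) ha.2) hk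
            exact ⟨by simpa [mul_assoc] using h5, by simpa [mul_assoc] using h6⟩
      have hKcop : (Nat.card K).Coprime p := by
        rw [← hK.symm.index_eq_card]
        exact ((Nat.Prime.coprime_iff_not_dvd Fact.out).2 hnd).symm
      have hMbot : M = ⊥ := by
        rw [eq_bot_iff, ← CfsgLib.Solvable.pPrimeCore_quotient_eq_bot D hD]
        exact CfsgLib.PLoc.le_pPrimeCore_of hMn
          (hKcop.coprime_dvd_left (Subgroup.card_dvd_of_le inf_le_right))
      have hcard : ∃ j, Nat.card (Subgroup.centralizer (T : Set (G ⧸ D))) = p ^ j := by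
        obtain ⟨k, hk⟩ := IsPGroup.iff_card.1 hTp
        obtain ⟨j, -, hj⟩ := (Nat.dvd_prime_pow Fact.out).1
          (show Nat.card (Subgroup.centralizer (T : Set (G ⧸ D))) ∣ p ^ k by
            rw [← hk]
            refine (Nat.mul_dvd_mul_iff_right (Nat.card_pos (α := K))).1 ?_
            rw [hK.card_mul]
            set C := Subgroup.centralizer (T : Set (G ⧸ D)) with hC
            have h7 : C.relIndex K = Nat.card K := by
              show (C.subgroupOf K).index = _
              rw [show C.subgroupOf K = ⊥ from by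
                rw [eq_bot_iff]
                intro a ha
                have h8 : (a : G ⧸ D) ∈ M := Subgroup.mem_inf.2 ⟨ha, a.2⟩
                rw [hMbot] at h8
                exact Subtype.ext h8, Subgroup.index_bot]
            have h9 := Subgroup.relIndex_mul_relIndex ⊥ C (K ⊔ C) bot_le le_sup_right
            rw [Subgroup.relIndex_bot_left, Subgroup.relIndex_bot_left,
              Subgroup.relIndex_sup_right, h7] at h9
            rw [h9]
            exact Subgroup.card_subgroup_dvd_card _)
        exact ⟨j, hj⟩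
      intro x hx hxo
      obtain ⟨j, hj⟩ := hcard
      have h1 : orderOf x ∣ p ^ j := hj ▸ Subgroup.orderOf_dvd_natCard _ hx
      exact orderOf_eq_one_iff.1 (Nat.eq_one_of_dvd_coprimes (hxo.pow_right j) dvd_rfl h1)
    · intro Q hQ g hg
      have hg' : g ∈ ((Subgroup.normalizer ((S : Subgroup G) : Set G) ⊔ D : Subgroup G) : Set G) := by
        rw [h]; trivial
      rw [Subgroup.mul_normal] at hg'
      obtain ⟨n, hn, d, hd, rfl⟩ := hg'
      refine ⟨n, hn, d, Subgroup.mem_centralizer_iff.2 fun q hq => ?_, rfl⟩
      have h1 : n * d * q * (n * d)⁻¹ ∈ (S : Subgroup G) :=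
        hg (CfsgLib.ConjFunctor.conj_mem_cj hq)
      have h2 : d * q * d⁻¹ ∈ (S : Subgroup G) := by
        have := (Subgroup.mem_normalizer_iff.1 (inv_mem hn) _).1 h1
        simpa [mul_assoc] using this
      have h3 : d * q * d⁻¹ * q⁻¹ ∈ D := by
        have := hDn.conj_mem d⁻¹ (inv_mem hd) q
        simpa [mul_assoc] using mul_mem hd this
      have h4 : d * q * d⁻¹ * q⁻¹ ∈ (S : Subgroup G) ⊓ D :=
        Subgroup.mem_inf.2 ⟨mul_mem h2 (inv_mem (hQ hq)), h3⟩
      rw [CfsgLib.PLoc.disjoint_of_pgroup_coprime hS hDcop, Subgroup.mem_bot,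
        mul_inv_eq_one, mul_inv_eq_iff_eq_mul] at h4
      exact h4.symm
  · rintro ⟨hcon, hfus⟩
    set Q := (S : Subgroup G) ⊓ R with hQ
    have hC : Subgroup.centralizer (Q : Set G) ≤ R := by
      have := hcon (CfsgLib.PLocal.sylowOfNormal S R)
      rwa [CfsgLib.PLocal.sylowOfNormal_map] at this
    have hRQ : R ≤ Q ⊔ D := by
      have h := CfsgLib.PLoc.sylow_map_eq_pCore hfsurj hfker (CfsgLib.PLocal.sylowOfNormal S R)
      rw [CfsgLib.PLocal.sylowOfNormal_map] at h
      intro r hr
      have h1 : f r ∈ Q.map f := by rw [h]; exact hr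
      obtain ⟨q, hq, hqr⟩ := h1
      have h2 : q⁻¹ * r ∈ D := QuotientGroup.eq.1 hqr
      have := Subgroup.mul_mem_sup hq h2
      rwa [mul_inv_cancel_left] at this
    have hRN : R ≤ Subgroup.normalizer ((S : Subgroup G) : Set G) ⊔ D :=
      hRQ.trans (sup_le_sup_right (inf_le_left.trans Subgroup.le_normalizer) _)
    rw [eq_top_iff, ← CfsgLib.PLocal.frattini_inf S R]
    refine sup_le hRN fun n hn => ?_
    obtain ⟨m, hm, c, hc, rfl⟩ := hfus Q inf_le_left n
      ((CfsgLib.ConjFunctor.cj_eq_self_iff.2 hn).le.trans inf_le_left)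
    exact mul_mem (Subgroup.mem_sup_left hm) (hRN (hC hc))

end Cfsg.Agent.S1948
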