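import Cfsg.Statements.S1949
import Cfsg.Agent.Lib.Transfer.Critical
import Cfsg.Agent.Lib.Transfer.PResidual
import Cfsg.Agent.Lib.PGroup.Basic
import Mathlib.Data.Nat.Choose.Dvd
import Mathlib.Tactic.Group

set_option autoImplicit false
open Cfsg

namespace Cfsg.Agent.S1949

open Subgroup
open scoped commutatorElement

variable {P : Type*} [Group P]

theorem pow_mul_comm_class_two {a b c : P} (hc : ⁅b, a⁆ = c) (hcb : Commute c b) (n : ℕ) :
    b ^ n * a = c ^ n * (a * b ^ n) := by
  have hba : b * a * b⁻¹ = c * a := by rw [← hc, commutatorElement_def]; group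
  induction n with
  | zero => simp
  | succ n ih =>
    calc b ^ (n + 1) * a = b * (b ^ n * a) := by rw [pow_succ', mul_assoc]
      _ = c ^ n * (b * a * b⁻¹) * b * b ^ n := by
          rw [ih, ← mul_assoc, ← (hcb.pow_left n).eq]; group
      _ = c ^ (n + 1) * (a * b ^ (n + 1)) := by rw [hba, pow_succ, pow_succ']; group

theorem mul_pow_class_two {a b c : P} (hc : ⁅b, a⁆ = c) (hca : Commute c a) (hcb : Commute c b)
    (n : ℕ) : (a * b) ^ n = c ^ (n.choose 2) * (a ^ n * b ^ n) := by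
  induction n with
  | zero => simp
  | succ n ih =>
    have hcn : Commute (c ^ n) (a ^ n) := hca.pow_pow n n
    calc (a * b) ^ (n + 1) = c ^ n.choose 2 * (a ^ n * (b ^ n * a) * b) := by
          rw [pow_succ, ih]; group
      _ = c ^ n.choose 2 * ((a ^ n * c ^ n) * a * b ^ n * b) := by
          rw [pow_mul_comm_class_two hc hcb]; group
      _ = c ^ (n + 1).choose 2 * (a ^ (n + 1) * b ^ (n + 1)) := by
          rw [← hcn.eq, Nat.choose_succ_succ' n 1, Nat.choose_one_right, add_comm n, pow_add,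
            pow_succ, pow_succ]
          group

/-- An automorphism of order prime to `p` stabilizing a chain with `p`-group bottom is trivial. -/
theorem eq_of_displacement_fixed {p : ℕ} (hP : IsPGroup p P) (β : MulAut P)
    (hβ : (orderOf β).Coprime p) {x : P} (hfix : β (x⁻¹ * β x) = x⁻¹ * β x) : β x = x := by
  set u := x⁻¹ * β x with hu
  have hx : β x = x * u := by rw [hu, mul_inv_cancel_left]
  have h : ∀ n : ℕ, (β ^ n) x = x * u ^ n := by
    intro n
    induction n with
    | zero => simp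
    | succ n ih => rw [pow_succ', MulAut.mul_apply, ih, map_mul, map_pow, hfix, hx, pow_succ',
        mul_assoc]
  have h1 := h (orderOf β)
  rw [pow_orderOf_eq_one, MulAut.one_apply, left_eq_mul] at h1
  obtain ⟨k, hk⟩ := hP u
  have hd := Nat.dvd_gcd (orderOf_dvd_of_pow_eq_one h1) (orderOf_dvd_of_pow_eq_one hk)
  rw [Nat.Coprime.gcd_eq_one (hβ.pow_right k), Nat.dvd_one, orderOf_eq_one_iff] at hd
  rw [hx, hd, mul_one]

/-- Let P be a finite p-group and G a group of automorphisms of P containing the inner automorphisms. Then there is a G-invariant subgroup D of P, contained in the subgroup generated by the elements x⁻¹α(x) with x in P and α in O^p(G), of exponent dividing p when p is odd and dividing 4 when p = 2, with [D, P] ≤ Z(D), such that every automorphism in G of order prime to p that fixes D elementwise is the identity; moreover every maximal abelian subgroup A of D is normal in P and every automorphism in G fixing A elementwise has p-power order. -/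
theorem result {P : Type*} [Group P] [Finite P] {p : ℕ} [Fact p.Prime] (hP : IsPGroup p P)
    (G : Subgroup (MulAut P)) (hG : Cfsg.Inn P ≤ G) :
    ∃ D : Subgroup P,
      (∀ α ∈ G, D.map α.toMonoidHom = D) ∧
      D ≤ Subgroup.closure {y : P | ∃ α ∈ Cfsg.pResidual p ↥G, ∃ x : P, y = x⁻¹ * (α : MulAut P) x} ∧
      (∀ d ∈ D, d ^ p = 1 ∨ (p = 2 ∧ d ^ 4 = 1)) ∧
      ⁅D, (⊤ : Subgroup P)⁆ ≤ D ⊓ Subgroup.centralizer (D : Set P) ∧
      (∀ α ∈ G, (orderOf α).Coprime p → (∀ d ∈ D, α d = d) → α = 1) ∧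
      ∀ A : Subgroup P, A ≤ D → IsMulCommutative ↥A →
        (∀ B : Subgroup P, A ≤ B → B ≤ D → IsMulCommutative ↥B → B = A) →
        A.Normal ∧ ∀ α ∈ G, (∀ a ∈ A, α a = a) → ∃ k : ℕ, orderOf α = p ^ k := by
  have hp : p.Prime := Fact.out
  set R := Cfsg.pResidual p ↥G with hR
  set T := Subgroup.closure {y : P | ∃ α ∈ R, ∃ x : P, y = x⁻¹ * (α : MulAut P) x} with hT
  have hTinv : ∀ γ ∈ G, ∀ y ∈ T, γ y ∈ T := by
    intro γ hγ y hy
    have hle : T ≤ T.comap γ.toMonoidHom := by
      rw [hT, closure_le]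
      rintro _ ⟨α, hα, x, rfl⟩
      refine subset_closure ⟨⟨γ, hγ⟩ * α * ⟨γ, hγ⟩⁻¹, ?_, γ x, ?_⟩
      · exact CfsgLib.Transfer.map_pResidual_le (MulAut.conj (⟨γ, hγ⟩ : G)).toMonoidHom
          ⟨α, hα, rfl⟩
      · show γ (x⁻¹ * (α : MulAut P) x) = (γ x)⁻¹ * (γ * (α : MulAut P) * γ⁻¹) (γ x)
        simp [MulAut.mul_apply]
    exact hle hy
  obtain ⟨C, hCc, hCΦ, hCP, hCC⟩ := CfsgLib.Transfer.exists_critical hP
  have hCinv : ∀ (γ : MulAut P), ∀ x ∈ C, γ x ∈ C := fun γ x hx =>
    (characteristic_iff_le_comap.1 hCc γ) hx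
  -- class two
  have hcom : ∀ x ∈ C, ∀ g : P, ⁅x, g⁆ ∈ C ∧ ∀ c ∈ C, Commute ⁅x, g⁆ c := fun x hx g => by
    have h := hCP (commutator_mem_commutator hx (mem_top g))
    exact ⟨h.1, fun c hc => (mem_centralizer_iff.1 h.2 c hc).symm⟩
  have hpc : ∀ a ∈ C, ∀ b ∈ C, ⁅b, a⁆ ^ p = 1 := by
    intro a ha b hb
    set c := ⁅b, a⁆ with hc
    have hbp : Commute (b ^ p) a := by
      refine (mem_centralizer_iff.1 (hCΦ ?_) a ha).symm
      exact ⟨_, CfsgLib.PGroup.pow_mem_frattini (hP.to_subgroup C) ⟨b, hb⟩, rfl⟩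
    have h := pow_mul_comm_class_two hc.symm ((hcom b hb a).2 b hb) p
    rw [hbp.eq] at h
    exact mul_eq_right.1 h.symm
  let q := if p = 2 then 4 else p
  have hchoose : p ∣ q.choose 2 := by
    by_cases h2 : p = 2
    · simp only [q, if_pos h2, h2]; decide
    · simp only [q, if_neg h2]
      exact hp.dvd_choose_self two_ne_zero (lt_of_le_of_ne hp.two_le (Ne.symm h2))
  have hmulq : ∀ a ∈ C, ∀ b ∈ C, a ^ q = 1 → b ^ q = 1 → (a * b) ^ q = 1 := by
    intro a ha b hb haq hbq
    obtain ⟨m, hm⟩ := hchoose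
    rw [mul_pow_class_two rfl ((hcom b hb a).2 a ha) ((hcom b hb a).2 b hb), haq, hbq, hm, pow_mul,
      hpc a ha b hb, one_pow, one_mul, one_mul]
  let D : Subgroup P :=
    { carrier := {x | x ∈ C ∧ x ∈ T ∧ x ^ q = 1}
      one_mem' := ⟨one_mem C, one_mem T, one_pow q⟩
      mul_mem' := fun {a b} ha hb =>
        ⟨mul_mem ha.1 hb.1, mul_mem ha.2.1 hb.2.1, hmulq a ha.1 b hb.1 ha.2.2 hb.2.2⟩
      inv_mem' := fun {a} ha =>
        ⟨inv_mem ha.1, inv_mem ha.2.1, by rw [inv_pow, ha.2.2, inv_one]⟩ }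
  have hDC : D ≤ C := fun x hx => hx.1
  have hDinv : ∀ γ ∈ G, ∀ x ∈ D, γ x ∈ D := fun γ hγ x hx =>
    ⟨hCinv γ x hx.1, hTinv γ hγ x hx.2.1, by rw [← map_pow, hx.2.2, map_one]⟩
  have hDconj : ∀ g : P, ∀ x ∈ D, g * x * g⁻¹ ∈ D := fun g x hx =>
    hDinv (MulAut.conj g) (hG ⟨g, rfl⟩) x hx
  have hDP : ∀ x ∈ D, ∀ g : P, ⁅x, g⁆ ∈ D ∧ ∀ d ∈ D, Commute ⁅x, g⁆ d := by
    intro x hx g
    refine ⟨?_, fun d hd => (hcom x hx.1 g).2 d hd.1⟩
    rw [commutatorElement_def, mul_assoc x g, mul_assoc x]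
    exact mul_mem hx (hDconj g _ (inv_mem hx))
  -- automorphisms of order prime to `p` fixing `D` are trivial
  have hD1 : ∀ α ∈ G, (orderOf α).Coprime p → (∀ d ∈ D, α d = d) → α = 1 := by
    intro α hα hcop hfix
    have hαR : (⟨α, hα⟩ : G) ∈ R :=
      CfsgLib.Transfer.mem_pResidual_of_coprime (by rwa [Subgroup.orderOf_mk])
    have hdisp : ∀ x : P, x⁻¹ * α x ∈ T := fun x => subset_closure ⟨⟨α, hα⟩, hαR, x, rfl⟩
    have hC0 : ∀ n, ∀ x ∈ C, x ∈ T → x ^ p ^ n = 1 → α x = x := by
      intro n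
      induction n with
      | zero => intro x _ _ h; rw [pow_zero, pow_one] at h; rw [h, map_one]
      | succ n ih =>
        intro x hxC hxT hx
        have hxp : α (x ^ p) = x ^ p :=
          ih _ (pow_mem hxC p) (pow_mem hxT p) (by rw [← pow_mul, ← pow_succ']; exact hx)
        refine eq_of_displacement_fixed hP α hcop (hfix _ ⟨mul_mem (inv_mem hxC) (hCinv α x hxC),
          hdisp x, ?_⟩)
        set u := x⁻¹ * α x with hu
        have huC : u ∈ C := mul_mem (inv_mem hxC) (hCinv α x hxC)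
        have hxu : (x * u) ^ p = x ^ p := by
          rw [hu, mul_inv_cancel_left, ← map_pow, hxp]
        have hf := mul_pow_class_two (a := x) (b := u) rfl ((hcom u huC x).2 x hxC)
          ((hcom u huC x).2 u huC) p
        rw [hxu] at hf
        have hcomm : Commute (⁅u, x⁆ ^ p.choose 2) (x ^ p) := ((hcom u huC x).2 x hxC).pow_pow _ _
        have hup : u ^ p = (⁅u, x⁆ ^ p.choose 2)⁻¹ := by
          rw [← mul_assoc, hcomm.eq, mul_assoc, left_eq_mul] at hf
          exact eq_inv_of_mul_eq_one_right hf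
        by_cases h2 : p = 2
        · simp only [q, if_pos h2]
          rw [h2] at hup
          have h := hpc x hxC u huC
          rw [h2] at h
          rw [show (4 : ℕ) = 2 * 2 from rfl, pow_mul, hup, inv_pow, Nat.choose_self, pow_one, h,
            inv_one]
        · simp only [q, if_neg h2]
          obtain ⟨m, hm⟩ := hp.dvd_choose_self (k := 2) two_ne_zero
            (lt_of_le_of_ne hp.two_le (Ne.symm h2))
          rw [hup, hm, pow_mul, hpc x hxC u huC, one_pow, inv_one]
    have hCfix : ∀ c ∈ C, α c = c := by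
      intro c hc
      refine eq_of_displacement_fixed hP α hcop ?_
      obtain ⟨k, hk⟩ := hP (c⁻¹ * α c)
      exact hC0 k _ (mul_mem (inv_mem hc) (hCinv α c hc)) (hdisp c) hk
    refine MulEquiv.ext fun x => ?_
    refine eq_of_displacement_fixed hP α hcop (hCfix _ (hCC (mem_centralizer_iff.2 fun c hc => ?_)))
    have hn : C.Normal := normal_of_characteristic C
    have h := hCfix _ (hn.conj_mem c hc x)
    rw [map_mul, map_mul, map_inv, hCfix c hc] at h
    calc c * (x⁻¹ * α x) = x⁻¹ * (x * c * x⁻¹) * α x := by group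
      _ = x⁻¹ * α x * c := by rw [← h]; group
  refine ⟨D, fun α hα => ?_, fun x hx => hx.2.1, fun d hd => ?_, ?_, hD1, fun A hAD hA hmax => ?_⟩
  · refine le_antisymm ?_ fun x hx => ⟨α⁻¹ x, hDinv α⁻¹ (inv_mem hα) x hx, by simp⟩
    rintro _ ⟨x, hx, rfl⟩
    exact hDinv α hα x hx
  · by_cases h2 : p = 2
    · exact Or.inr ⟨h2, by simpa [q, h2] using hd.2.2⟩
    · exact Or.inl (by simpa [q, h2] using hd.2.2)
  · rw [commutator_le]
    exact fun x hx g _ => ⟨(hDP x hx g).1,
      mem_centralizer_iff.2 fun d hd => ((hDP x hx g).2 d hd).eq.symm⟩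
  have hAc : ∀ a ∈ A, ∀ b ∈ A, Commute a b := fun a ha b hb =>
    congrArg Subtype.val (mul_comm' (⟨a, ha⟩ : A) ⟨b, hb⟩)
  -- `A` is self-centralizing in `D`
  have hself : ∀ u ∈ D, (∀ a ∈ A, Commute a u) → u ∈ A := by
    intro u hu hua
    have hB : Subgroup.closure ((A : Set P) ∪ {u}) ≤ D :=
      (closure_le D).2 (Set.union_subset hAD (Set.singleton_subset_iff.2 hu))
    have hBc : IsMulCommutative ↥(Subgroup.closure ((A : Set P) ∪ {u})) :=
      isMulCommutative_closure (by
        rintro a (ha | ha) b (hb | hb)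
        · exact (hAc a ha b hb).eq
        · rw [Set.mem_singleton_iff.1 hb]; exact (hua a ha).eq
        · rw [Set.mem_singleton_iff.1 ha]; exact (hua b hb).eq.symm
        · rw [Set.mem_singleton_iff.1 ha, Set.mem_singleton_iff.1 hb])
    have h := hmax _ (fun a ha => subset_closure (Or.inl ha)) hB hBc
    rw [← h]; exact subset_closure (Or.inr rfl)
  refine ⟨⟨fun a ha g => ?_⟩, fun α hα hαA => ?_⟩
  · have hc : ⁅g, a⁆ ∈ A := by
      have e : ⁅g, a⁆ = ⁅a, g⁆⁻¹ := (commutatorElement_inv a g).symm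
      rw [e]
      exact inv_mem (hself _ (hDP a (hAD ha) g).1 fun b hb => ((hDP a (hAD ha) g).2 b (hAD hb)).symm)
    simpa [commutatorElement_def, mul_assoc] using mul_mem hc ha
  · obtain ⟨k, hk⟩ := CfsgLib.Transfer.exists_pow_coprime_orderOf (p := p) α
    have hβA : ∀ a ∈ A, (α ^ p ^ k) a = a := by
      intro a ha
      induction (p ^ k) with
      | zero => simp
      | succ n ih => rw [pow_succ, MulAut.mul_apply, hαA a ha, ih]
    have hβG := pow_mem hα (p ^ k)
    have hβ : α ^ p ^ k = 1 := by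
      refine hD1 _ hβG hk fun d hd => ?_
      set β := α ^ p ^ k
      refine eq_of_displacement_fixed hP β hk (hβA _ (hself _
        (mul_mem (inv_mem hd) (hDinv β hβG d hd)) fun a ha => ?_))
      have hda : d * a * d⁻¹ ∈ A := by
        have hn : ⁅d, a⁆ ∈ A := hself _ (hDP d hd a).1
          fun b hb => ((hDP d hd a).2 b (hAD hb)).symm
        simpa [commutatorElement_def, mul_assoc] using mul_mem hn ha
      have h := hβA _ hda
      rw [map_mul, map_mul, map_inv, hβA a ha] at h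
      show a * (d⁻¹ * β d) = d⁻¹ * β d * a
      calc a * (d⁻¹ * β d) = d⁻¹ * (d * a * d⁻¹) * β d := by group
        _ = d⁻¹ * β d * a := by rw [← h]; group
    exact ((Nat.dvd_prime_pow hp).1 (orderOf_dvd_of_pow_eq_one hβ)).imp fun _ h => h.2

end Cfsg.Agent.S1949
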