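import Cfsg.Statements.S1952
import Mathlib.GroupTheory.RegularWreathProduct
import Mathlib.GroupTheory.Nilpotent
import Mathlib.LinearAlgebra.Dual.Lemmas
import Mathlib.GroupTheory.SpecificGroups.Cyclic
import Mathlib.Data.ZMod.Basic
import Mathlib.Algebra.Module.ZMod
import Mathlib.LinearAlgebra.Basis.VectorSpace
import Mathlib.Algebra.Field.ZMod
import Mathlib.LinearAlgebra.FreeModule.Basic
import Mathlib.Algebra.Module.Projective

set_option autoImplicit false
open Cfsg

namespace Cfsg.Agent.S1952

section

variable {P : Type*} [Group P] {Z : Type*} [CommGroup Z]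

/-- The induced homomorphism `P →* Z ≀ᵣ Q` attached to `φ : ker π →* Z` and a section of `π : P →* Q`. -/
def inducedHom {Q : Type*} [CommGroup Q] (π : P →* Q) (φ : ↥π.ker →* Z) (s : Q → P)
    (hs : ∀ k, π (s k) = k) : P →* RegularWreathProduct Z Q where
  toFun g := ⟨fun k => φ ⟨(s k)⁻¹ * g * s ((π g)⁻¹ * k), by
    rw [MonoidHom.mem_ker, map_mul, map_mul, map_inv, hs, hs]; simp [mul_assoc]⟩, π g⟩
  map_one' := by
    ext k
    · simp only [map_one, inv_one, one_mul, RegularWreathProduct.one_left, Pi.one_apply]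
      rw [← map_one φ]
      exact congrArg φ (Subtype.ext (by simp))
    · simp
  map_mul' g h := by
    ext k
    · simp only [RegularWreathProduct.mul_left, Pi.mul_apply]
      rw [← map_mul φ]
      exact congrArg φ (Subtype.ext (by simp [mul_assoc]))
    · simp

theorem monoidHom_left_eq {Q B : Type*} [CommGroup Q] [Fintype Q] [DecidableEq Q] [CommGroup B]
    (μ : RegularWreathProduct Z Q →* B) (f : Q → Z) :
    μ ⟨f, 1⟩ = μ ⟨Pi.mulSingle 1 (∏ k, f k), 1⟩ := by
  let base : (Q → Z) →* RegularWreathProduct Z Q :=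
    { toFun := fun f => ⟨f, 1⟩
      map_one' := rfl
      map_mul' := fun a b => by ext <;> simp }
  have hshift : ∀ (k : Q) (z : Z), μ (base (Pi.mulSingle k z)) = μ (base (Pi.mulSingle 1 z)) := by
    intro k z
    have h : base (Pi.mulSingle k z) = RegularWreathProduct.inl k * base (Pi.mulSingle 1 z) *
        (RegularWreathProduct.inl k)⁻¹ := by
      ext j
      · simp only [RegularWreathProduct.mul_left, RegularWreathProduct.inv_left,
          RegularWreathProduct.left_inl, RegularWreathProduct.mul_right,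
          RegularWreathProduct.right_inl, base, MonoidHom.coe_mk, OneHom.coe_mk, Pi.mul_apply,
          Pi.one_apply, Pi.inv_apply, inv_one, one_mul, mul_one]
        rcases eq_or_ne j k with rfl | h
        · simp
        · rw [Pi.mulSingle_eq_of_ne h, Pi.mulSingle_eq_of_ne]
          intro hc
          exact h (inv_mul_eq_one.1 hc).symm
      · simp [base]
    rw [h, map_mul, map_mul, map_inv, mul_comm (μ _) (μ _), mul_inv_cancel_right]
  show μ.comp base f = μ.comp base _
  conv_lhs => rw [← Finset.univ_prod_mulSingle f]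
  rw [map_prod]
  simp only [MonoidHom.comp_apply, hshift]
  simp only [← MonoidHom.comp_apply]
  rw [← map_prod]
  congr 2
  funext j
  rw [Finset.prod_apply]
  rcases eq_or_ne j 1 with rfl | h
  · simp
  · simp [Pi.mulSingle_eq_of_ne h]

theorem wreath_eq_top {p : ℕ} [Fact p.Prime] {Q : Type*} [CommGroup Q] [Fintype Q] [Finite Z]
    (hZ : Nat.card Z = p) (hQ : Nat.card Q = p) (H : Subgroup (RegularWreathProduct Z Q))
    (a b : RegularWreathProduct Z Q) (ha : a ∈ H) (hb : b ∈ H) (ha1 : a.right = 1)
    (haprod : ∏ k, a.left k ≠ 1) (hb1 : b.right ≠ 1) : H = ⊤ := by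
  classical
  by_contra hne
  obtain ⟨M, hM, hHM⟩ := (eq_top_or_exists_le_coatom H).resolve_left hne
  have hW : IsPGroup p (RegularWreathProduct Z Q) := IsPGroup.of_card (n := p + 1)
    (by rw [RegularWreathProduct.card, hZ, hQ, pow_succ])
  haveI : Group.IsNilpotent (RegularWreathProduct Z Q) := hW.isNilpotent
  haveI hMn : M.Normal :=
    Subgroup.NormalizerCondition.normal_of_coatom M Group.normalizerCondition_of_isNilpotent hM
  haveI : Nontrivial (RegularWreathProduct Z Q ⧸ M) := QuotientGroup.nontrivial_iff.2 hM.1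
  haveI : IsSimpleGroup (RegularWreathProduct Z Q ⧸ M) := by
    refine ⟨fun K _ => ?_⟩
    rcases hM.le_iff.1 (QuotientGroup.le_comap_mk' M K) with h | h
    · right
      exact Subgroup.comap_injective (QuotientGroup.mk'_surjective M) (by rw [h, Subgroup.comap_top])
    · left
      exact Subgroup.comap_injective (QuotientGroup.mk'_surjective M)
        (by rw [h, MonoidHom.comap_bot, QuotientGroup.ker_mk'])
  haveI : Group.IsNilpotent (RegularWreathProduct Z Q ⧸ M) := inferInstance
  have hcomm : ∀ u v : RegularWreathProduct Z Q ⧸ M, u * v = v * u :=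
    IsSimpleGroup.comm_iff_isSolvable.2 inferInstance
  let cg : CommGroup (RegularWreathProduct Z Q ⧸ M) := { (inferInstance : Group _) with mul_comm := hcomm }
  let μ : RegularWreathProduct Z Q →* RegularWreathProduct Z Q ⧸ M := QuotientGroup.mk' M
  have hμ : ∀ x, x ∈ M ↔ μ x = 1 := fun x => (QuotientGroup.eq_one_iff x).symm
  have hgen : ∀ z : Z, μ ⟨Pi.mulSingle 1 z, 1⟩ = 1 := by
    let ψ : Z →* RegularWreathProduct Z Q ⧸ M :=
      μ.comp { toFun := fun z => ⟨Pi.mulSingle 1 z, 1⟩
               map_one' := by ext <;> simp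
               map_mul' := fun u v => by
                ext j
                · simp [Pi.mulSingle_mul]
                · simp }
    have h1 : ψ (∏ k, a.left k) = 1 := by
      have : μ a = 1 := (hμ a).1 (hHM ha)
      rw [show a = ⟨a.left, 1⟩ from RegularWreathProduct.ext rfl ha1,
        monoidHom_left_eq μ a.left] at this
      exact this
    intro z
    have hz : z ∈ Subgroup.zpowers (∏ k, a.left k) := mem_zpowers_of_prime_card hZ haprod
    obtain ⟨n, rfl⟩ := Subgroup.mem_zpowers_iff.1 hz
    show ψ _ = 1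
    rw [map_zpow, h1, one_zpow]
  have hbase : ∀ f : Q → Z, μ ⟨f, 1⟩ = 1 := fun f => by rw [monoidHom_left_eq μ f, hgen]
  have hinl : ∀ q : Q, μ (RegularWreathProduct.inl q) = 1 := by
    intro q
    have h1 : μ (RegularWreathProduct.inl b.right) = 1 := by
      have : μ b = 1 := (hμ b).1 (hHM hb)
      rw [show b = ⟨b.left, 1⟩ * RegularWreathProduct.inl b.right from
        by ext <;> simp, map_mul, hbase, one_mul] at this
      exact this
    obtain ⟨n, rfl⟩ := Subgroup.mem_zpowers_iff.1 (mem_zpowers_of_prime_card hQ (g' := q) hb1)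
    rw [map_zpow, map_zpow, h1, one_zpow]
  refine hM.1 (eq_top_iff.2 fun x _ => (hμ x).2 ?_)
  rw [show x = ⟨x.left, 1⟩ * RegularWreathProduct.inl x.right from by ext <;> simp, map_mul,
    hbase, hinl, one_mul]

end

/-- Let P be a finite p-group with a normal elementary abelian subgroup A of index p, and let x ∈ A and y ∈ P with y outside A. If the product of the p conjugates y^(-i) x y^i (i = 0, …, p−1) is not the identity, then the wreath product Z_p ≀ Z_p, realised as a Sylow p-subgroup of the symmetric group of degree p², is a homomorphic image of P. -/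
theorem result {P : Type*} [Group P] [Finite P] {p : ℕ} [Fact p.Prime] (hP : IsPGroup p P) (A : Subgroup P) [A.Normal]
    (hA : Cfsg.IsElementaryAbelian p A) (hidx : A.index = p) (x y : P) (hx : x ∈ A) (hy : y ∉ A)
    (hprod : ((List.range p).map (fun i => (y ^ i)⁻¹ * x * y ^ i)).prod ≠ 1) :
    ∃ (Q : Sylow p (Equiv.Perm (Fin (p ^ 2)))) (f : P →* ↥(Q : Subgroup (Equiv.Perm (Fin (p ^ 2))))), Function.Surjective f := by
  classical
  let Z := Multiplicative (ZMod p)
  have hZ : Nat.card Z = p := by simp [Z]
  haveI : Fintype Z := Fintype.ofFinite _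
  -- the projection onto `P ⧸ A`, identified with `Z`, sending `y` to the generator
  have hq : Nat.card (P ⧸ A) = p := by rw [← hidx]; rfl
  have hyq : (QuotientGroup.mk y : P ⧸ A) ≠ 1 := fun h => hy ((QuotientGroup.eq_one_iff y).1 h)
  have hord : orderOf (QuotientGroup.mk y : P ⧸ A) = p := by
    have := orderOf_dvd_natCard (QuotientGroup.mk y : P ⧸ A)
    rw [hq] at this
    exact ((Nat.Prime.eq_one_or_self_of_dvd Fact.out _ this).resolve_left
      (mt orderOf_eq_one_iff.1 hyq))
  let e : Z ≃* P ⧸ A := (zmodMulEquivOfGenerator (g := (QuotientGroup.mk y : P ⧸ A))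
    (fun z => mem_zpowers_of_prime_card hq hyq) hq)
  let π : P →* Z := e.symm.toMonoidHom.comp (QuotientGroup.mk' A)
  have hπy : π y = Multiplicative.ofAdd 1 := by
    refine e.symm_apply_eq.2 ?_
    have h1 := zmodMulEquivOfGenerator_apply_ofAdd_intCast
      (fun z => mem_zpowers_of_prime_card hq hyq (g' := z)) hq 1
    rw [zpow_one, Int.cast_one] at h1
    exact h1.symm
  have hker : π.ker = A := by
    ext a
    simp [π, MonoidHom.mem_ker]
  let s : Z → P := fun k => y ^ (Multiplicative.toAdd k).val
  have hs : ∀ k, π (s k) = k := by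
    intro k
    rw [map_pow, hπy, ← ofAdd_nsmul, nsmul_one, ZMod.natCast_zmod_val, ofAdd_toAdd]
  -- a functional on `A` not killing the norm of `x`
  have hconj : ∀ i : ℕ, (y ^ i)⁻¹ * x * y ^ i ∈ A := fun i => by
    simpa using (inferInstance : A.Normal).conj_mem x hx (y ^ i)⁻¹
  letI : CommGroup A := { (inferInstance : Group A) with mul_comm := fun a b => hA.1.is_comm.comm a b }
  let N : A := ∏ k : Z, ⟨(s k)⁻¹ * x * s k, hconj _⟩
  have hN : N ≠ 1 := by
    intro h
    apply hprod
    have h1 : ∀ n, ((∏ i ∈ Finset.range n, (⟨(y ^ i)⁻¹ * x * y ^ i, hconj i⟩ : A) : A) : P) =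
        ((List.range n).map fun i => (y ^ i)⁻¹ * x * y ^ i).prod := by
      intro n
      induction n with
      | zero => simp
      | succ n ih => rw [Finset.prod_range_succ, Subgroup.coe_mul, ih, List.range_succ]; simp
    rw [← h1, ← Subgroup.coe_one A, ← h]
    congr 1
    refine Finset.prod_nbij' (fun i => Multiplicative.ofAdd (i : ZMod p))
      (fun k => (Multiplicative.toAdd k).val) (fun _ _ => Finset.mem_univ _)
      (fun k _ => Finset.mem_range.2 (ZMod.val_lt _)) ?_ ?_ ?_
    · intro i hi
      simp [ZMod.val_natCast, Nat.mod_eq_of_lt (Finset.mem_range.1 hi)]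
    · intro k _
      simp
    · intro i hi
      refine Subtype.ext ?_
      simp [s, ZMod.val_natCast, Nat.mod_eq_of_lt (Finset.mem_range.1 hi)]
  obtain ⟨φ₀, hφ₀⟩ : ∃ φ : A →* Z, φ N ≠ 1 := by
    letI : Module (ZMod p) (Additive A) := AddCommGroup.zmodModule fun a => by
      rw [← toMul_eq_one, toMul_nsmul]
      exact Subtype.ext (hA.2 _ (Additive.toMul a).2)
    haveI hfree : Module.Free (ZMod p) (Additive A) := Module.Free.of_divisionRing (ZMod p) (Additive A)
    haveI hp2 : Module.Projective (ZMod p) (Additive A) := by infer_instance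
    have hne : Additive.ofMul N ≠ 0 := fun h => hN (Additive.ofMul.injective h)
    obtain ⟨f, hf⟩ := @Module.Projective.exists_dual_ne_zero (Additive A) _ (ZMod p) _ _ hp2
      (Additive.ofMul N) hne
    exact ⟨AddMonoidHom.toMultiplicativeRight (LinearMap.toAddMonoidHom f),
      fun h => hf (Multiplicative.ofAdd.injective h)⟩
  let φ : ↥π.ker →* Z := φ₀.comp (MulEquiv.subgroupCongr hker).toMonoidHom
  let Φ : P →* RegularWreathProduct Z Z := inducedHom π φ s hs
  have hsurj : Function.Surjective Φ := by
    rw [← MonoidHom.range_eq_top]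
    refine wreath_eq_top hZ hZ _ (Φ x) (Φ y) ⟨x, rfl⟩ ⟨y, rfl⟩ ?_ ?_ ?_
    · show π x = 1
      rw [← MonoidHom.mem_ker, hker]; exact hx
    · have hπx : π x = 1 := by rw [← MonoidHom.mem_ker, hker]; exact hx
      intro h
      apply hφ₀
      rw [map_prod, ← h]
      refine Finset.prod_congr rfl fun k _ => ?_
      show _ = φ _
      refine congrArg φ₀ (Subtype.ext ?_)
      simp [hπx]
    · show π y ≠ 1
      rw [hπy]
      exact fun h => one_ne_zero (α := ZMod p) (Multiplicative.ofAdd.injective h)
  let u : RegularWreathProduct PUnit.{1} Z ≃* Z := MulEquiv.ofBijective RegularWreathProduct.rightHom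
    ⟨fun a b h => RegularWreathProduct.ext (Subsingleton.elim _ _) h,
      fun q => ⟨RegularWreathProduct.inl q, rfl⟩⟩
  let w : IteratedWreathProduct Z 2 ≃* RegularWreathProduct Z Z :=
    RegularWreathProduct.congr u (MulEquiv.refl Z)
  obtain ⟨Q⟩ : Nonempty (Sylow p (Equiv.Perm (Fin (p ^ 2)))) := Sylow.nonempty
  let m := Sylow.mulEquivIteratedWreathProduct p 2 (Fin (p ^ 2)) (by simp) Z hZ Q
  exact ⟨Q, (m.symm.toMonoidHom.comp w.symm.toMonoidHom).comp Φ,
    m.symm.surjective.comp (w.symm.surjective.comp hsurj)⟩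

end Cfsg.Agent.S1952
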