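import Cfsg.Statements.S1953
import Cfsg.Agent.Lib.KInf.Qd
import Cfsg.Agent.Lib.ConjFunctor.QdFacts
import Cfsg.Agent.Lib.ConjFunctor.WeakClosure
import Cfsg.Agent.Lib.PLocal.Constrained
import Cfsg.Agent.Lib.PLocal.SylowAux
import Cfsg.Agent.Lib.PLocal.GlaubermanReplacement
import Cfsg.Agent.Lib.S4Free.Basic
import Cfsg.Agent.Lib.PLocal.ZJFactorization
import Cfsg.Agent.Lib.PLocal.Thompson
import Mathlib.GroupTheory.SchurZassenhaus

set_option autoImplicit false
open Cfsg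

namespace Cfsg.Agent.S1953

open Subgroup CfsgLib.S4Free
open scoped commutatorElement Pointwise

universe u

theorem conj_mem_of_normal {G : Type*} [Group G] {N : Subgroup G} (h : N.Normal) (g : G) {x : G} :
    x ∈ N → g * x * g⁻¹ ∈ N := fun hx => h.conj_mem x hx g

/-- A section `Qd(p)` yields a section `SL(2,p)` of an automizer of a `p`-subgroup. -/
theorem sl2_in_automizer {G : Type*} [Group G] [Finite G] {p : ℕ} [Fact p.Prime]
    (h : CfsgLib.PLoc.HasQdSection p G) :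
    ∃ Q : Subgroup G, IsPGroup p ↥Q ∧ ∃ (H K : Subgroup G) (_ : (K.subgroupOf H).Normal),
      Subgroup.centralizer (Q : Set G) ≤ K ∧ K ≤ H ∧ H ≤ Subgroup.normalizer (Q : Set G) ∧
      Nonempty ((↥H ⧸ K.subgroupOf H) ≃* Matrix.SpecialLinearGroup (Fin 2) (ZMod p)) := by
  classical
  haveI : NeZero p := ⟨(Fact.out : p.Prime).ne_zero⟩
  obtain ⟨K, f, hf⟩ := CfsgLib.LocalEven.exists_surjective_of_involves
    (show Cfsg.Involves ↥(Cfsg.qd p) G from h)
  let θ : ↥(Cfsg.qd p) →* Matrix.SpecialLinearGroup (Fin 2) (ZMod p) :=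
    { toFun := fun g => ⟨!![g.1.1 0 0, g.1.1 0 1; g.1.1 1 0, g.1.1 1 1], by
        obtain ⟨a, b, c, d, x, y, hh, rfl⟩ := CfsgLib.Qd.exists_eq_mk g
        rw [Matrix.det_fin_two_of]; exact hh⟩
      map_one' := by
        apply Subtype.ext
        show !![(1 : Matrix (Fin 3) (Fin 3) (ZMod p)) 0 0, (1 : Matrix (Fin 3) (Fin 3) (ZMod p)) 0 1;
          (1 : Matrix (Fin 3) (Fin 3) (ZMod p)) 1 0, (1 : Matrix (Fin 3) (Fin 3) (ZMod p)) 1 1] = 1
        simp [Matrix.one_fin_two]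
      map_mul' := fun g g' => by
        obtain ⟨a, b, c, d, x, y, hh, rfl⟩ := CfsgLib.Qd.exists_eq_mk g
        obtain ⟨a', b', c', d', x', y', hh', rfl⟩ := CfsgLib.Qd.exists_eq_mk g'
        rw [CfsgLib.Qd.mk_mul]
        apply Subtype.ext
        show !![_, _; _, _] = (!![a, b; c, d] : Matrix (Fin 2) (Fin 2) (ZMod p)) * !![a', b'; c', d']
        rw [Matrix.mul_fin_two]
        rfl }
  have hθker : ∀ g, θ g = 1 → g ∈ CfsgLib.Qd.translations p := by
    intro g hg
    obtain ⟨a, b, c, d, x, y, hh, rfl⟩ := CfsgLib.Qd.exists_eq_mk g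
    have e : (!![a, b; c, d] : Matrix (Fin 2) (Fin 2) (ZMod p)) = 1 :=
      congrArg Subtype.val hg
    refine ⟨x, y, CfsgLib.Qd.mk_eq ?_ ?_ ?_ ?_ rfl rfl⟩
    · simpa using congrFun (congrFun e 0) 0
    · simpa using congrFun (congrFun e 0) 1
    · simpa using congrFun (congrFun e 1) 0
    · simpa using congrFun (congrFun e 1) 1
  have hθtra : ∀ g ∈ CfsgLib.Qd.translations p, θ g = 1 := by
    rintro g ⟨x, y, rfl⟩
    apply Subtype.ext
    show !![(1 : ZMod p), 0; 0, 1] = 1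
    exact Matrix.one_fin_two.symm
  have hθs : Function.Surjective θ := by
    intro A
    refine ⟨CfsgLib.Qd.mk (A.1 0 0) (A.1 0 1) (A.1 1 0) (A.1 1 1) 0 0
      (by rw [← Matrix.det_fin_two]; exact A.2), Subtype.ext ?_⟩
    exact (Matrix.eta_fin_two A.1).symm
  set q := θ.comp f with hq
  have hqs : Function.Surjective q := hθs.comp hf
  set M := q.ker with hM
  obtain ⟨S⟩ : Nonempty (Sylow p ↥K) := inferInstance
  set P := (S : Subgroup ↥K) ⊓ M with hP
  set N0 := Subgroup.normalizer (P : Set ↥K) with hN0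
  have hN0s : ∀ z, ∃ n ∈ N0, q n = z := by
    intro z
    obtain ⟨k, rfl⟩ := hqs z
    obtain ⟨c, hc, hck⟩ := CfsgLib.ConjFunctor.frattini_argument S M k
    exact ⟨c * k, hck, by rw [map_mul, MonoidHom.mem_ker.1 hc, one_mul]⟩
  have hMf : ∀ v, v ∈ CfsgLib.Qd.translations p ↔ ∃ m ∈ M, f m = v := fun v => by
    constructor
    · intro hv
      obtain ⟨m, rfl⟩ := hf v
      exact ⟨m, hθtra _ hv, rfl⟩
    · rintro ⟨m, hm, rfl⟩
      exact hθker _ hm
  have hPf : CfsgLib.Qd.translations p ≤ P.map f := by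
    have hle : P.map f ≤ CfsgLib.Qd.translations p := by
      rintro _ ⟨m, hm, rfl⟩; exact (hMf _).2 ⟨m, hm.2, rfl⟩
    rw [← Subgroup.relIndex_eq_one]
    have h1 := (CfsgLib.ConjFunctor.isSyl_inf_normal S M).not_dvd
    have hMmap : M.map f = CfsgLib.Qd.translations p := by
      ext v; exact (hMf v).symm
    have hk : f.ker ≤ M := fun x hx => by
      show θ (f x) = 1
      rw [MonoidHom.mem_ker.1 hx, map_one]
    have h2 : (P.map f).relIndex (CfsgLib.Qd.translations p) ∣ P.relIndex M := by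
      rw [← hMmap, Subgroup.relIndex_map_map, sup_eq_left.2 hk]
      exact Subgroup.relIndex_dvd_of_le_left _ le_sup_left
    have h3 : (P.map f).relIndex (CfsgLib.Qd.translations p) ∣ p ^ 2 := by
      rw [sq, ← CfsgLib.Qd.card_translations p]; exact Subgroup.relIndex_dvd_card _ _
    obtain ⟨i, -, hi⟩ := (Nat.dvd_prime_pow Fact.out).1 h3
    rcases Nat.eq_zero_or_pos i with rfl | hipos
    · simpa using hi
    · exact absurd ((dvd_pow_self p hipos.ne').trans (hi ▸ h2)) h1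
  let Pg := P.map K.subtype
  have hPgp : IsPGroup p ↥Pg := (S.isPGroup'.to_le inf_le_left).map _
  let NG := Subgroup.normalizer (Pg : Set G)
  let ι : ↥N0 →* ↥NG := (K.subtype.comp N0.subtype).codRestrict NG
    (fun n => Subgroup.le_normalizer_map K.subtype ⟨n, n.2, rfl⟩)
  let α : ↥NG →* MulAut ↥Pg := Pg.normalizerMonoidHom
  have hker : (α.comp ι).ker ≤ (q.comp N0.subtype).ker := by
    intro n hn
    have hn' : ι n ∈ α.ker := hn
    rw [Subgroup.normalizerMonoidHom_ker, mem_subgroupOf] at hn'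
    show θ (f (n : ↥K)) = 1
    obtain ⟨a, b, c, d, x, y, hh, he⟩ := CfsgLib.Qd.exists_eq_mk (f (n : ↥K))
    have hfix : ∀ u v, CfsgLib.Qd.tra (a * u + b * v) (c * u + d * v) = CfsgLib.Qd.tra u v := by
      intro u v
      obtain ⟨m, hm, hmv⟩ := hPf (CfsgLib.Qd.tra_mem u v)
      have h1 : (n : ↥K) * m = m * n := Subtype.ext
        (mem_centralizer_iff.1 hn' _ ⟨m, hm, rfl⟩).symm
      have h2 := congrArg f h1
      rw [map_mul, map_mul, hmv, he] at h2
      rw [← CfsgLib.Qd.conj_tra (h := hh) (x := x) (y := y), h2, mul_inv_cancel_right]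
    obtain ⟨-, -, -, -, h00, h10⟩ := CfsgLib.Qd.mk_inj.1 (hfix 1 0)
    obtain ⟨-, -, -, -, h01, h11⟩ := CfsgLib.Qd.mk_inj.1 (hfix 0 1)
    simp only [mul_one, mul_zero, add_zero, zero_add] at h00 h10 h01 h11
    rw [he]
    apply Subtype.ext
    show !![a, b; c, d] = 1
    rw [h00, h10, h01, h11]; exact Matrix.one_fin_two.symm
  let I := (α.comp ι).range
  let σ : ↥I →* Matrix.SpecialLinearGroup (Fin 2) (ZMod p) :=
    (α.comp ι).rangeRestrict.liftOfSurjective (α.comp ι).rangeRestrict_surjective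
      ⟨q.comp N0.subtype, by rw [MonoidHom.ker_rangeRestrict]; exact hker⟩
  let H := (I.comap α).map NG.subtype
  let g : ↥(I.comap α) →* Matrix.SpecialLinearGroup (Fin 2) (ZMod p) :=
    σ.comp ((α.comp (I.comap α).subtype).codRestrict I fun x => x.2)
  have hσ : ∀ n, σ ⟨α (ι n), n, rfl⟩ = q (n : ↥K) := fun n => by
    exact MonoidHom.liftOfRightInverse_comp_apply _ _ _ _ n
  have hg : Function.Surjective g := by
    intro z
    obtain ⟨n, hn, rfl⟩ := hN0s z
    exact ⟨⟨ι ⟨n, hn⟩, ⟨⟨n, hn⟩, rfl⟩⟩, hσ ⟨n, hn⟩⟩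
  let e := ((I.comap α).equivMapOfInjective NG.subtype NG.subtype_injective).symm
  let g' : ↥H →* Matrix.SpecialLinearGroup (Fin 2) (ZMod p) := g.comp e.toMonoidHom
  have hg' : Function.Surjective g' := hg.comp e.surjective
  have hsub : (g'.ker.map H.subtype).subgroupOf H = g'.ker :=
    comap_map_eq_self_of_injective H.subtype_injective _
  haveI hKn : ((g'.ker.map H.subtype).subgroupOf H).Normal := hsub.symm ▸ MonoidHom.normal_ker g'
  refine ⟨Pg, hPgp, H, g'.ker.map H.subtype, hKn, ?_,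
    map_subtype_le _, map_subtype_le _, ⟨(QuotientGroup.quotientMulEquivOfEq hsub).trans
      (QuotientGroup.quotientKerEquivOfSurjective g' hg')⟩⟩
  intro c hc
  have hcN : c ∈ NG := Subgroup.centralizer_le_normalizer _ hc
  have hcα : α ⟨c, hcN⟩ = 1 := by
    rw [← MonoidHom.mem_ker, Subgroup.normalizerMonoidHom_ker, mem_subgroupOf]; exact hc
  have hcI : (⟨c, hcN⟩ : ↥NG) ∈ I.comap α := by
    show α ⟨c, hcN⟩ ∈ I
    rw [hcα]; exact one_mem I
  refine ⟨⟨c, ⟨_, hcI, rfl⟩⟩, ?_, rfl⟩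
  show g (e ⟨c, ⟨_, hcI, rfl⟩⟩) = 1
  have he : e ⟨c, ⟨_, hcI, rfl⟩⟩ = ⟨⟨c, hcN⟩, hcI⟩ := by
    rw [MulEquiv.symm_apply_eq]; exact Subtype.ext rfl
  rw [he]
  show σ _ = 1
  have h1 : (⟨α ⟨c, hcN⟩, hcI⟩ : ↥I) = 1 := Subtype.ext hcα
  exact (congrArg σ h1).trans (map_one σ)

/-- The lower K-infinity subgroup controls fusion in its Sylow subgroup, without `Qd(p)` sections. -/
theorem kInf_fusion {G : Type u} [Group G] [Finite G] {p : ℕ} [Fact p.Prime] (hp : p ≠ 2)
    (hq : ¬ CfsgLib.PLoc.HasQdSection p G) (S : Sylow p G) (D : Subgroup G) (g : G)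
    (hD : D ≤ (S : Subgroup G)) (hgD : D.map (MulAut.conj g).toMonoidHom ≤ (S : Subgroup G)) :
    ∃ x ∈ normalizer ((Cfsg.inducedFunctor (G := G) Cfsg.kInfLower (S : Subgroup G) : Subgroup G) : Set G),
      ∀ a ∈ D, g * a * g⁻¹ = x * a * x⁻¹ := by
  have hst := fun (K R : Subgroup G) (_ : (R.subgroupOf K).Normal) =>
    CfsgLib.KInf.pStable_sections_of_no_qd hp hq K R
  have hn : ∀ (H : Type u) [Group H] [Finite H], CfsgLib.ConjFunctor.IsSec G H →
      CfsgLib.ConjFunctor.Constrained p H → ∀ S : Sylow p H,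
      (Cfsg.inducedFunctor (G := H) Cfsg.kInfLower (S : Subgroup H)).Normal :=
    fun H _ _ hs hcon S => (CfsgLib.KInf.kInf_normal_of_pStab hcon
      (fun V _ => CfsgLib.KInf.pStab_sec (fun K R => hst K R inferInstance) (H ⧸ V)
        (hs.of_surjective (QuotientGroup.mk'_surjective V))) S).1
  refine CfsgLib.ConjFunctor.agree_of_fused_singleton (CfsgLib.ConjFunctor.fusion_reduce (G := G)
    (𝓦 := ({Cfsg.kInfLower.{u}} : Set (∀ (Q : Type u) [Group Q], Subgroup Q))) (fun V hV => ?_)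
    (fun H _ _ hs => CfsgLib.ConjFunctor.fusionInput_of_normal (W := Cfsg.kInfLower.{u})
      (Set.mem_singleton _) H fun hcon S => hn H hs hcon S) G CfsgLib.ConjFunctor.isSec_self S D g hD hgD)
  rw [Set.mem_singleton_iff] at hV; rw [hV]; exact CfsgLib.KInf.isCharPFunctor_kInfLower p

/-- Let p be an odd prime and P a Sylow p-subgroup of the finite group G, and suppose that for no p-subgroup Q of G does N_G(Q)/C_G(Q) have a section isomorphic to SL₂(p). Call a subgroup Q of P centric-radical when Z(Q) is a Sylow p-subgroup of C_G(Q) and the only normal subgroup X of N_G(Q) containing Q·C_G(Q) such that the index of Q·C_G(Q) in X is a power of p is Q·C_G(Q) itself (that is, N_G(Q)/Q·C_G(Q) has no nontrivial normal p-subgroup). Then there is a centric-radical subgroup Q of P contained in every centric-radical subgroup of P; it is normal in P, and N_G(Q) controls strong fusion in P: whenever a subgroup A of P has g A g⁻¹ ≤ P, the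 element g is a product h c with h in N_G(Q) and c centralizing A. -/
theorem result {G : Type*} [Group G] [Finite G] {p : ℕ} [Fact p.Prime] (hp : p ≠ 2) (P : Sylow p G)
    (hfree : ∀ Q : Subgroup G, IsPGroup p ↥Q → ¬ ∃ (H K : Subgroup G) (_ : (K.subgroupOf H).Normal),
      Subgroup.centralizer (Q : Set G) ≤ K ∧ K ≤ H ∧ H ≤ Subgroup.normalizer (Q : Set G) ∧
      Nonempty ((↥H ⧸ K.subgroupOf H) ≃* Matrix.SpecialLinearGroup (Fin 2) (ZMod p)))
    (cr : Subgroup G → Prop)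
    (hcr : ∀ Q : Subgroup G, cr Q ↔ (Q ≤ (P : Subgroup G) ∧
      (∃ R : Sylow p ↥(Subgroup.centralizer (Q : Set G)),
        (R : Subgroup ↥(Subgroup.centralizer (Q : Set G))).map (Subgroup.centralizer (Q : Set G)).subtype = Q ⊓ Subgroup.centralizer (Q : Set G)) ∧
      ∀ X : Subgroup G, X ≤ Subgroup.normalizer (Q : Set G) →
        (∀ n ∈ Subgroup.normalizer (Q : Set G), X.map (MulAut.conj n).toMonoidHom = X) →
        Q ⊔ Subgroup.centralizer (Q : Set G) ≤ X → (∃ k : ℕ, (Q ⊔ Subgroup.centralizer (Q : Set G)).relIndex X = p ^ k) →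
        X = Q ⊔ Subgroup.centralizer (Q : Set G))) :
    ∃ Q : Subgroup G, cr Q ∧ (∀ R : Subgroup G, cr R → Q ≤ R) ∧ (∀ x ∈ (P : Subgroup G), Q.map (MulAut.conj x).toMonoidHom = Q) ∧
      ∀ A : Subgroup G, A ≤ (P : Subgroup G) → ∀ g : G, A.map (MulAut.conj g).toMonoidHom ≤ (P : Subgroup G) →
        ∃ h ∈ Subgroup.normalizer (Q : Set G), ∃ c ∈ Subgroup.centralizer (A : Set G), g = h * c := by
  classical
  have hq : ¬ CfsgLib.PLoc.HasQdSection p G := fun hh => by
    obtain ⟨Q, hQ, h⟩ := sl2_in_automizer hh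
    exact hfree Q hQ h
  set W := Cfsg.inducedFunctor (G := G) Cfsg.kInfLower (P : Subgroup G) with hWdef
  have hfus := kInf_fusion hp hq P
  set N : Subgroup G := normalizer (W : Set G) with hNdef
  have hWP : W ≤ (P : Subgroup G) := Subgroup.map_subtype_le _
  have hPN : (P : Subgroup G) ≤ N := Subgroup.le_normalizer.trans
    (CfsgLib.ConjFunctor.normalizer_le_functor (CfsgLib.ConjFunctor.isConjugacyFunctor_inducedFunctor
      (CfsgLib.KInf.isCharPFunctor_kInfLower p)) P.isPGroup')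
  have hWc : ∀ x ∈ (P : Subgroup G), x ∈ centralizer (W : Set G) → x ∈ W := by
    intro x hx hc
    refine ⟨⟨x, hx⟩, CfsgLib.KInf.centralizer_kInfLower_le P.isPGroup' ?_, rfl⟩
    exact mem_centralizer_iff.2 fun k hk => Subtype.ext (mem_centralizer_iff.1 hc _ ⟨k, hk, rfl⟩)
  -- inside `N`
  let SN : Sylow p ↥N := P.subtype hPN
  have hSN : ∀ y : ↥N, y ∈ (SN : Subgroup ↥N) ↔ (y : G) ∈ (P : Subgroup G) := fun y => Iff.rfl
  set O := pPrimeCore p ↥N with hOdef
  let π := QuotientGroup.mk' O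
  have hπs : Function.Surjective π := QuotientGroup.mk'_surjective _
  have hcop : (Nat.card π.ker).Coprime p := by
    rw [QuotientGroup.ker_mk']; exact CfsgLib.PLoc.pPrimeCore_coprime p
  have hπker : ∀ y, π y = 1 ↔ y ∈ O := fun y => QuotientGroup.eq_one_iff y
  let K := W.subgroupOf N
  haveI : K.Normal := Subgroup.normal_in_normalizer
  have hKp : IsPGroup p ↥K := (P.isPGroup'.to_le hWP).comap_subtype
  have hKSN : K ≤ (SN : Subgroup ↥N) := fun y hy => hWP hy
  have hdisj : ∀ y : ↥N, y ∈ (SN : Subgroup ↥N) → y ∈ O → y = 1 := fun y h1 h2 => by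
    have h : y ∈ (SN : Subgroup ↥N) ⊓ O := ⟨h1, h2⟩
    rwa [CfsgLib.PLoc.disjoint_of_pgroup_coprime SN.isPGroup' (CfsgLib.PLoc.pPrimeCore_coprime p),
      mem_bot] at h
  have hCK : ∀ y, y ∈ centralizer (K : Set ↥N) → π y ∈ K.map π := by
    set C := centralizer (K : Set ↥N) with hC
    haveI : C.Normal := Subgroup.normal_centralizer
    set Z := (K ⊓ C).subgroupOf C with hZ
    haveI : Z.Normal := inferInstance
    have hidx : ¬ p ∣ Z.index := by
      have h1 := CfsgLib.PLocal.not_dvd_relIndex_sylow SN C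
      have h2 : ((SN : Subgroup ↥N).subgroupOf C) = Z := by
        ext z
        refine ⟨fun hz => ⟨?_, z.2⟩, fun hz => hKSN hz.1⟩
        exact hWc _ ((hSN _).1 hz) (mem_centralizer_iff.2 fun w hw => congrArg Subtype.val
          (mem_centralizer_iff.1 z.2 ⟨w, (le_normalizer : W ≤ N) hw⟩ hw))
      have h3 : ((SN : Subgroup ↥N).subgroupOf C).index = Z.index := by rw [h2]
      exact fun hd => h1 (show p ∣ ((SN : Subgroup ↥N).subgroupOf C).index by rwa [h3])
    have hZp : IsPGroup p ↥Z := (hKp.to_le inf_le_left).comap_subtype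
    have hco : Nat.Coprime (Nat.card Z) Z.index := by
      obtain ⟨k, hk⟩ := IsPGroup.iff_card.1 hZp
      rw [hk]; exact Nat.Coprime.pow_left k ((Fact.out : p.Prime).coprime_iff_not_dvd.2 hidx)
    obtain ⟨L, hL⟩ := Subgroup.exists_right_complement'_of_coprime hco
    have hZc : ∀ z ∈ Z, ∀ c : ↥C, c * z = z * c := fun z hz c => Subtype.ext
      ((mem_centralizer_iff.1 c.2 _ hz.1).symm)
    haveI hLn : L.Normal := ⟨fun l hl c => by
      obtain ⟨⟨z, l'⟩, hzl⟩ := hL.surjective c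
      rw [← hzl]
      show (z : ↥C) * l' * l * ((z : ↥C) * l')⁻¹ ∈ L
      have : (z : ↥C) * l' * l * ((z : ↥C) * l')⁻¹ = (l' : ↥C) * l * (l' : ↥C)⁻¹ := by
        have h1 := hZc z z.2 ((l' : ↥C) * l * (l' : ↥C)⁻¹)
        calc (z : ↥C) * l' * l * ((z : ↥C) * l')⁻¹ = (z : ↥C) * ((l' : ↥C) * l * (l' : ↥C)⁻¹) * (z : ↥C)⁻¹ := by group
          _ = _ := by rw [← h1, mul_inv_cancel_right]
      rw [this]; exact L.mul_mem (L.mul_mem l'.2 hl) (L.inv_mem l'.2)⟩
    have hLcop : (Nat.card L).Coprime p := by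
      have h1 : Nat.card L = Z.index := by
        have := hL.symm.index_eq_card; omega
      rw [h1]; exact ((Fact.out : p.Prime).coprime_iff_not_dvd.2 hidx).symm
    have hLO : L.map C.subtype ≤ O := by
      have hle : L ≤ pPrimeCore p ↥C := CfsgLib.PLoc.le_pPrimeCore_of hLn hLcop
      refine (Subgroup.map_mono hle).trans ?_
      haveI := CfsgLib.Solvable.pPrimeCore_characteristic p ↥C
      refine CfsgLib.PLoc.le_pPrimeCore_of inferInstance ?_
      rw [Subgroup.card_map_of_injective C.subtype_injective]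
      exact CfsgLib.PLoc.pPrimeCore_coprime p
    intro y hy
    obtain ⟨⟨z, l⟩, hzl⟩ := hL.surjective ⟨y, hy⟩
    refine ⟨((z : ↥C) : ↥N), z.2.1, ?_⟩
    have hy' : ((z : ↥C) : ↥N) * ((l : ↥C) : ↥N) = y := congrArg Subtype.val hzl
    have hl : π ((l : ↥C) : ↥N) = 1 := (hπker _).2 (hLO ⟨_, l.2, rfl⟩)
    rw [← hy', map_mul, hl, mul_one]
  haveI := CfsgLib.Solvable.pCore_normal (p := p) (↥N ⧸ O)
  have hKpc : K.map π ≤ pCore p (↥N ⧸ O) :=
    CfsgLib.Solvable.le_pCore (Subgroup.Normal.map inferInstance π hπs) (hKp.map π)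
  set F := pPrimePCore p ↥N with hFdef
  haveI : F.Normal := Subgroup.Normal.comap (CfsgLib.Solvable.pCore_normal (p := p) _) _
  have hF : ∀ y, y ∈ F ↔ π y ∈ pCore p (↥N ⧸ O) := fun y => Iff.rfl
  set Q0 := (SN : Subgroup ↥N) ⊓ F with hQ0
  have hQ0map : Q0.map π = pCore p (↥N ⧸ O) := by
    rw [hQ0, ← CfsgLib.PLocal.sylowOfNormal_map SN F,
      CfsgLib.PLoc.sylow_map_eq_pCore hπs (QuotientGroup.ker_mk' _)]
  have hQ0p : IsPGroup p ↥Q0 := SN.isPGroup'.to_le inf_le_left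
  have hCQ0 : ∀ y, y ∈ centralizer (Q0 : Set ↥N) → π y ∈ pCore p (↥N ⧸ O) := by
    intro y hy
    have h1 : π y ∈ centralizer ((Q0.map π : Subgroup (↥N ⧸ O)) : Set (↥N ⧸ O)) := by
      rw [CfsgLib.PLoc.centralizer_map_eq hπs hcop hQ0p]; exact ⟨y, hy, rfl⟩
    have h2 : π y ∈ centralizer ((K.map π : Subgroup (↥N ⧸ O)) : Set (↥N ⧸ O)) :=
      centralizer_le (hQ0map ▸ hKpc) h1
    rw [CfsgLib.PLoc.centralizer_map_eq hπs hcop hKp] at h2
    obtain ⟨y', hy', he⟩ := h2
    rw [← he]; exact hKpc (hCK y' hy')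
  have hfrat : ∀ n : ↥N, ∃ o ∈ O, ∃ m ∈ normalizer (Q0 : Set ↥N), n = o * m := by
    intro n
    obtain ⟨c, hc, hcn⟩ := CfsgLib.ConjFunctor.frattini_argument SN F n
    obtain ⟨q, hq, hqc⟩ : π c ∈ Q0.map π := by rw [hQ0map]; exact hc
    refine ⟨c⁻¹ * q, (hπker _).1 (by rw [map_mul, map_inv, hqc, inv_mul_cancel]), q⁻¹ * (c * n),
      mul_mem (inv_mem (le_normalizer hq)) hcn, by group⟩
  set Q := Q0.map N.subtype with hQdef
  have hQP : Q ≤ (P : Subgroup G) := by rintro _ ⟨y, hy, rfl⟩; exact (hSN y).1 hy.1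
  have hQp : IsPGroup p ↥Q := P.isPGroup'.to_le hQP
  have hmemQ : ∀ y : ↥N, (y : G) ∈ Q ↔ y ∈ Q0 := fun y =>
    ⟨fun ⟨y', hy', he⟩ => (Subtype.ext he : y' = y) ▸ hy', fun hy => ⟨y, hy, rfl⟩⟩
  have hNQ : ∀ y : ↥N, y ∈ normalizer (Q0 : Set ↥N) → (y : G) ∈ normalizer (Q : Set G) :=
    fun y hy => Subgroup.le_normalizer_map N.subtype ⟨y, hy, rfl⟩
  have hPQ : (P : Subgroup G) ≤ normalizer (Q : Set G) := by
    intro x hx
    refine mem_normalizer_fintype ?_
    rintro _ ⟨y, hy, rfl⟩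
    exact ⟨⟨x, hPN hx⟩ * y * ⟨x, hPN hx⟩⁻¹, ⟨(SN : Subgroup ↥N).mul_mem ((SN : Subgroup ↥N).mul_mem ((hSN ⟨x, hPN hx⟩).2 hx) hy.1)
      ((SN : Subgroup ↥N).inv_mem ((hSN ⟨x, hPN hx⟩).2 hx)), conj_mem_of_normal inferInstance _ hy.2⟩, rfl⟩
  -- control of fusion by `N(Q)`
  have hctl : ∀ A : Subgroup G, A ≤ (P : Subgroup G) → ∀ g : G,
      A.map (MulAut.conj g).toMonoidHom ≤ (P : Subgroup G) →
      ∃ h ∈ Subgroup.normalizer (Q : Set G), ∃ c ∈ Subgroup.centralizer (A : Set G), g = h * c := by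
    intro A hA g hgA
    obtain ⟨x, hxN, hx⟩ := hfus A g hA hgA
    obtain ⟨o, ho, m, hm, hom⟩ := hfrat ⟨x, hxN⟩
    set A0 := A.subgroupOf N
    set A1 := A0.map (MulAut.conj m).toMonoidHom
    set H1 := (O ⊔ (SN : Subgroup ↥N)) ⊓ normalizer (Q0 : Set ↥N)
    have hSQ : (SN : Subgroup ↥N) ≤ normalizer (Q0 : Set ↥N) := fun s hs =>
      mem_normalizer_fintype fun y hy => ⟨(SN : Subgroup ↥N).mul_mem ((SN : Subgroup ↥N).mul_mem hs hy.1) ((SN : Subgroup ↥N).inv_mem hs),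
        conj_mem_of_normal inferInstance s hy.2⟩
    have hmax : IsMaxPIn p (SN : Subgroup ↥N) H1 :=
      ⟨le_inf le_sup_right hSQ, SN.isPGroup', fun X _ hX hle => SN.is_maximal' hX hle⟩
    have himg : ∀ a ∈ A0, x * (a : G) * x⁻¹ ∈ (P : Subgroup G) := fun a ha => by
      have h : g * (a : G) * g⁻¹ ∈ (P : Subgroup G) := hgA ⟨(a : G), ha, rfl⟩
      rwa [hx (a : G) ha] at h
    have hA1 : A1 ≤ H1 := by
      rintro _ ⟨a, ha, rfl⟩
      refine ⟨?_, (normalizer (Q0 : Set ↥N)).mul_mem ((normalizer (Q0 : Set ↥N)).mul_mem hm (hSQ ((hSN a).2 (hA ha)))) ((normalizer (Q0 : Set ↥N)).inv_mem hm)⟩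
      have hz : (⟨x, hxN⟩ : ↥N) * a * (⟨x, hxN⟩ : ↥N)⁻¹ ∈ (SN : Subgroup ↥N) := himg a ha
      have e : (MulAut.conj m).toMonoidHom a = o⁻¹ * ((⟨x, hxN⟩ : ↥N) * a * (⟨x, hxN⟩ : ↥N)⁻¹) * o := by
        rw [hom]; simp only [MulEquiv.coe_toMonoidHom, MulAut.conj_apply]; group
      rw [e]
      exact mul_mem (mul_mem (mem_sup_left (inv_mem ho)) (mem_sup_right hz)) (mem_sup_left ho)
    obtain ⟨k, hk, hkA⟩ := hmax.exists_conj_le hA1
      (((P.isPGroup'.to_le hA).comap_subtype : IsPGroup p ↥A0).map _)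
    obtain ⟨s, hs, c, hc, rfl⟩ := mem_sup_of_normal_right.1 (by rw [sup_comm]; exact hk.1 :
      k ∈ (SN : Subgroup ↥N) ⊔ O)
    have hcQ : c ∈ normalizer (Q0 : Set ↥N) := by
      have := mul_mem (inv_mem (hSQ hs)) hk.2
      rwa [inv_mul_cancel_left] at this
    have hagree : ∀ a ∈ A, g * a * g⁻¹ = ((c * m : ↥N) : G) * a * ((c * m : ↥N) : G)⁻¹ := by
      intro a ha
      set a' : ↥N := ⟨a, hPN (hA ha)⟩
      have hz : (⟨x, hxN⟩ : ↥N) * a' * (⟨x, hxN⟩ : ↥N)⁻¹ ∈ (SN : Subgroup ↥N) := himg a' ha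
      have hy : c * m * a' * (c * m)⁻¹ ∈ (SN : Subgroup ↥N) := by
        have h1 := hkA _ ⟨a', ha, rfl⟩
        have h2 := mul_mem (mul_mem (inv_mem hs) h1) hs
        rwa [show s⁻¹ * (s * c * (MulAut.conj m).toMonoidHom a' * (s * c)⁻¹) * s =
          c * m * a' * (c * m)⁻¹ by simp only [MulEquiv.coe_toMonoidHom, MulAut.conj_apply]; group] at h2
      have hπ : π ((⟨x, hxN⟩ : ↥N) * a' * (⟨x, hxN⟩ : ↥N)⁻¹) = π (c * m * a' * (c * m)⁻¹) := by
        rw [hom]; simp only [map_mul, map_inv, (hπker o).2 ho, (hπker c).2 hc]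
      have heq := hdisj _ (mul_mem (inv_mem hy) hz)
        ((hπker _).1 (by rw [map_mul, map_inv, hπ, inv_mul_cancel]))
      rw [inv_mul_eq_one] at heq
      rw [hx a ha]
      exact (congrArg Subtype.val heq).symm
    refine ⟨_, hNQ _ (mul_mem hcQ hm), ((c * m : ↥N) : G)⁻¹ * g, mem_centralizer_iff.2 fun a ha => ?_,
      (mul_inv_cancel_left _ _).symm⟩
    have h := hagree a ha
    set d := ((c * m : ↥N) : G)
    calc a * (d⁻¹ * g) = d⁻¹ * (d * a * d⁻¹) * g := by group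
      _ = d⁻¹ * (g * a * g⁻¹) * g := by rw [h]
      _ = d⁻¹ * g * a := by group
  have hCQN : ∀ y : ↥N, (y : G) ∈ centralizer (Q : Set G) → π y ∈ pCore p (↥N ⧸ O) := fun y hy =>
    hCQ0 y (mem_centralizer_iff.2 fun z hz =>
      Subtype.ext (mem_centralizer_iff.1 hy (z : G) ((hmemQ z).2 hz)))
  have hQcent : Q ⊓ centralizer (Q : Set G) = (P : Subgroup G) ⊓ centralizer (Q : Set G) :=
    le_antisymm (inf_le_inf_right _ hQP) fun x hx => ⟨(hmemQ ⟨x, hPN hx.1⟩).2
      ⟨(hSN ⟨x, hPN hx.1⟩).2 hx.1, hCQN ⟨x, hPN hx.1⟩ hx.2⟩, hx.2⟩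
  refine ⟨Q, (hcr Q).2 ⟨hQP, ?_, ?_⟩, ?_, fun x hx => ?_, hctl⟩
  · -- centric
    set C := centralizer (Q : Set G)
    set M := normalizer (Q : Set G)
    have hCM : C ≤ M := Subgroup.centralizer_le_normalizer _
    obtain ⟨R, hR⟩ := ((P.isPGroup'.to_le (inf_le_left : (P : Subgroup G) ⊓ C ≤ P)).comap_subtype
      (K := C)).exists_le_sylow
    refine ⟨R, ?_⟩
    rw [hQcent]
    refine (Subgroup.eq_of_le_of_card_ge (fun x hx => Subgroup.mem_map.2 ⟨⟨x, hx.2⟩, hR hx, rfl⟩) ?_).symm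
    obtain ⟨k, hk, hkR⟩ := (show IsMaxPIn p (P : Subgroup G) M from
      ⟨hPQ, P.isPGroup', fun X _ hX hle => P.is_maximal' hX hle⟩).exists_conj_le
      ((Subgroup.map_subtype_le (R : Subgroup ↥C)).trans hCM) (R.isPGroup'.map _)
    have hkC : ∀ x ∈ C, k * x * k⁻¹ ∈ C := fun x hx => mem_centralizer_iff.2 fun q hq => by
      have hq' : k⁻¹ * q * k ∈ Q := by
        have := (mem_normalizer_iff.1 (inv_mem hk) q).1 hq; rwa [inv_inv] at this
      have h := mem_centralizer_iff.1 hx _ hq'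
      calc q * (k * x * k⁻¹) = k * (k⁻¹ * q * k * x) * k⁻¹ := by group
        _ = k * (x * (k⁻¹ * q * k)) * k⁻¹ := by rw [h]
        _ = k * x * k⁻¹ * q := by group
    refine Nat.card_le_card_of_injective
      (fun y : ↥((R : Subgroup ↥C).map C.subtype) =>
        (⟨k * y * k⁻¹, hkR y y.2, hkC y (Subgroup.map_subtype_le _ y.2)⟩ : ↥((P : Subgroup G) ⊓ C)))
      fun y y' e => Subtype.ext ?_
    exact (MulAut.conj k).injective (congrArg (fun z : ↥((P : Subgroup G) ⊓ C) => (z : G)) e)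
  · -- radical
    intro X hXN hXn hQX hidx
    refine le_antisymm (fun x hx => ?_) hQX
    obtain ⟨k, hk⟩ := hidx
    obtain ⟨n, hnN, hn⟩ := hfus Q x hQP (by
      rintro _ ⟨q, hq, rfl⟩
      exact hQP ((mem_normalizer_iff.1 (hXN hx) q).1 hq))
    have hnQ : n ∈ normalizer (Q : Set G) := mem_normalizer_fintype fun q hq => by
      show n * q * n⁻¹ ∈ Q
      rw [← hn q hq]; exact (mem_normalizer_iff.1 (hXN hx) q).1 hq
    have hnx : n⁻¹ * x ∈ centralizer (Q : Set G) := mem_centralizer_iff.2 fun q hq => by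
      calc q * (n⁻¹ * x) = n⁻¹ * (n * q * n⁻¹) * x := by group
        _ = n⁻¹ * (x * q * x⁻¹) * x := by rw [hn q hq]
        _ = n⁻¹ * x * q := by group
    have hnX : n ∈ X := by
      have := mul_mem hx (inv_mem (hQX (mem_sup_right hnx)))
      rwa [mul_inv_rev, inv_inv, mul_inv_cancel_left] at this
    -- the normal subgroup of `N`
    set X0 := X.subgroupOf N ⊓ normalizer (Q0 : Set ↥N) with hX0
    set n' : ↥N := ⟨n, hnN⟩
    have hn'Q : n' ∈ normalizer (Q0 : Set ↥N) := mem_normalizer_fintype fun y hy => by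
      show n' * y * n'⁻¹ ∈ Q0
      exact (hmemQ _).1 ((mem_normalizer_iff.1 hnQ _).1 ((hmemQ y).2 hy))
    have hXn0 : (X0.map π).Normal := ⟨fun z hz y => by
      obtain ⟨a, ha, rfl⟩ := hz
      obtain ⟨b, rfl⟩ := hπs y
      obtain ⟨o, ho, m, hm, rfl⟩ := hfrat b
      refine ⟨m * a * m⁻¹, ⟨?_, (normalizer (Q0 : Set ↥N)).mul_mem ((normalizer (Q0 : Set ↥N)).mul_mem hm ha.2) ((normalizer (Q0 : Set ↥N)).inv_mem hm)⟩, by
        simp only [map_mul, map_inv, (hπker o).2 ho, one_mul]⟩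
      show (m : G) * a * (m : G)⁻¹ ∈ X
      rw [← hXn m (hNQ m hm)]; exact ⟨_, ha.1, rfl⟩⟩
    have hXp : IsPGroup p ↥(X0.map π) := by
      rintro ⟨_, a, ha, rfl⟩
      set QC := Q ⊔ centralizer (Q : Set G) with hQC
      haveI : (QC.subgroupOf X).Normal := Subgroup.normal_subgroupOf_of_le_normalizer (hXN.trans (by
        intro m hm
        refine mem_normalizer_fintype fun z hz => ?_
        have hle : QC ≤ QC.comap (MulAut.conj m).toMonoidHom := sup_le
          (fun q hq => mem_sup_left ((mem_normalizer_iff.1 hm q).1 hq)) fun c hc => mem_sup_right <|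
          mem_centralizer_iff.2 fun q hq => by
            have hq' : m⁻¹ * q * m ∈ Q := by
              have := (mem_normalizer_iff.1 (inv_mem hm) q).1 hq; rwa [inv_inv] at this
            have h := mem_centralizer_iff.1 hc _ hq'
            show q * (m * c * m⁻¹) = m * c * m⁻¹ * q
            calc q * (m * c * m⁻¹) = m * (m⁻¹ * q * m * c) * m⁻¹ := by group
              _ = m * (c * (m⁻¹ * q * m)) * m⁻¹ := by rw [h]
              _ = m * c * m⁻¹ * q := by group
        exact hle hz))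
      have hpow : (a : G) ^ (p ^ k) ∈ QC := by
        have h := Subgroup.pow_index_mem (QC.subgroupOf X) ⟨a, ha.1⟩
        rw [show (QC.subgroupOf X).index = p ^ k from hk] at h
        exact h
      have hcore : π (a ^ (p ^ k)) ∈ pCore p (↥N ⧸ O) := by
        have hle : ∀ z, z ∈ QC → ∀ hz : z ∈ N, π ⟨z, hz⟩ ∈ pCore p (↥N ⧸ O) := by
          intro z hz hzN
          have hz' : z ∈ (Q : Set G) * (centralizer (Q : Set G) : Set G) := by
            rw [← Subgroup.coe_mul_of_right_le_normalizer_left Q _ (Subgroup.centralizer_le_normalizer _)]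
            exact hz
          obtain ⟨_, ⟨y, hy, rfl⟩, c, hc, rfl⟩ := hz'
          have hcN : c ∈ N := by
            have := mul_mem (inv_mem y.2) hzN
            rwa [show (y : G)⁻¹ * (N.subtype y * c) = c by simp] at this
          have e : (⟨_, hzN⟩ : ↥N) = y * ⟨c, hcN⟩ := Subtype.ext rfl
          rw [e, map_mul, ← hQ0map]
          exact mul_mem ⟨y, hy, rfl⟩ (hQ0map.ge (hCQN ⟨c, hcN⟩ hc))
        exact hle _ hpow (a ^ (p ^ k)).2
      obtain ⟨j, hj⟩ := CfsgLib.Solvable.pCore_isPGroup (p := p) (↥N ⧸ O) ⟨_, hcore⟩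
      refine ⟨k + j, Subtype.ext ?_⟩
      show π a ^ p ^ (k + j) = 1
      rw [pow_add, pow_mul, ← map_pow]
      exact congrArg Subtype.val hj
    have hn'c : π n' ∈ pCore p (↥N ⧸ O) :=
      CfsgLib.Solvable.le_pCore hXn0 hXp ⟨n', ⟨hnX, hn'Q⟩, rfl⟩
    obtain ⟨q, hq, hqn⟩ := hQ0map.ge hn'c
    have ho : n' * q⁻¹ ∈ O := (hπker _).1 (by rw [map_mul, map_inv, hqn, mul_inv_cancel])
    have hoQ : ((n' * q⁻¹ : ↥N) : G) ∈ centralizer (Q : Set G) := by
      refine mem_centralizer_iff.2 ?_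
      rintro _ ⟨z, hz, rfl⟩
      have hoN : n' * q⁻¹ ∈ normalizer (Q0 : Set ↥N) :=
        mul_mem hn'Q (inv_mem (le_normalizer hq))
      set o := n' * q⁻¹
      have h1 : o * z * o⁻¹ * z⁻¹ ∈ (SN : Subgroup ↥N) :=
        mul_mem ((mem_normalizer_iff.1 hoN z).1 hz).1 (inv_mem hz.1)
      have h2 : o * z * o⁻¹ * z⁻¹ ∈ O := by
        rw [mul_assoc, mul_assoc, ← mul_assoc z]
        exact mul_mem ho (conj_mem_of_normal inferInstance z (inv_mem ho))
      exact (congrArg Subtype.val (mul_inv_eq_iff_eq_mul.1 (mul_inv_eq_one.1 (hdisj _ h1 h2)))).symm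
    have hxe : x = ((n' * q⁻¹ : ↥N) : G) * (q : G) * (n⁻¹ * x) := by simp [n']
    rw [hxe]
    exact mul_mem (mul_mem (mem_sup_right hoQ) (mem_sup_left ((hmemQ q).2 hq))) (mem_sup_right hnx)
  · -- minimality
    intro R hR
    obtain ⟨hRP, ⟨R', hR'⟩, hrad⟩ := (hcr R).1 hR
    let M := normalizer (R : Set G)
    let C := centralizer (R : Set G)
    set Y := Q ⊓ M with hY
    set X := Y ⊔ (R ⊔ C) with hX
    have hRC : R ⊔ C ≤ M := sup_le le_normalizer (Subgroup.centralizer_le_normalizer _)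
    have hCn : ∀ n ∈ M, ∀ c ∈ C, n * c * n⁻¹ ∈ C := fun n hn c hc => mem_centralizer_iff.2 fun r hr => by
      have hr' : n⁻¹ * r * n ∈ R := by
        have := (mem_normalizer_iff.1 (inv_mem hn) r).1 hr; rwa [inv_inv] at this
      have h := mem_centralizer_iff.1 hc _ hr'
      calc r * (n * c * n⁻¹) = n * (n⁻¹ * r * n * c) * n⁻¹ := by group
        _ = n * (c * (n⁻¹ * r * n)) * n⁻¹ := by rw [h]
        _ = n * c * n⁻¹ * r := by group
    have hRCn : ∀ n ∈ M, ∀ z ∈ R ⊔ C, n * z * n⁻¹ ∈ R ⊔ C := by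
      intro n hn z hz
      have hle : R ⊔ C ≤ (R ⊔ C).comap (MulAut.conj n).toMonoidHom := sup_le
        (fun r hr => mem_sup_left ((mem_normalizer_iff.1 hn r).1 hr))
        fun c hc => mem_sup_right (hCn n hn c hc)
      exact hle hz
    have hXM : X ≤ M := sup_le inf_le_right hRC
    have hRCX : R ⊔ C ≤ X := le_sup_right
    have hXinv : ∀ n ∈ M, X.map (MulAut.conj n).toMonoidHom = X := by
      intro n hn
      refine Subgroup.eq_of_le_of_card_ge ?_
        (Subgroup.card_map_of_injective (MulAut.conj n).injective).ge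
      obtain ⟨h, hh, c, hc, rfl⟩ := hctl R hRP n (by
        rintro _ ⟨r, hr, rfl⟩
        exact hRP ((mem_normalizer_iff.1 hn r).1 hr))
      have hcM : c ∈ M := Subgroup.centralizer_le_normalizer _ hc
      have hhM : h ∈ M := by have := mul_mem hn (inv_mem hcM); rwa [mul_inv_cancel_right] at this
      have hcX : c ∈ X := hRCX (mem_sup_right hc)
      rw [Subgroup.map_le_iff_le_comap]
      intro z hz
      show h * c * z * (h * c)⁻¹ ∈ X
      have hhX : X ≤ X.comap (MulAut.conj h).toMonoidHom := sup_le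
        (fun y hy => mem_sup_left ⟨(mem_normalizer_iff.1 hh y).1 hy.1,
          M.mul_mem (M.mul_mem hhM hy.2) (M.inv_mem hhM)⟩)
        fun y hy => hRCX (hRCn h hhM y hy)
      have h1 : h * (c * z * c⁻¹) * h⁻¹ ∈ X := hhX (mul_mem (mul_mem hcX hz) (inv_mem hcX))
      rwa [show h * c * z * (h * c)⁻¹ = h * (c * z * c⁻¹) * h⁻¹ by group]
    have hYn : Y ≤ normalizer ((R ⊔ C : Subgroup G) : Set G) := fun y hy =>
      mem_normalizer_fintype fun z hz => hRCn y hy.2 z hz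
    have hXeq : X = R ⊔ C := hrad X hXM hXinv hRCX (by
      obtain ⟨k, hk⟩ := IsPGroup.iff_card.1 (hQp.to_le (inf_le_left : Y ≤ Q))
      rw [hX, CfsgLib.PLoc.relIndex_sup_of_le_normalizer hYn]
      obtain ⟨i, -, hi⟩ := (Nat.dvd_prime_pow Fact.out).1
        (hk ▸ Subgroup.relIndex_dvd_card (R ⊔ C) Y)
      exact ⟨i, hi⟩)
    have hPC : ∀ c ∈ (P : Subgroup G), c ∈ C → c ∈ R := by
      intro c hcP hcC
      have e := R'.is_maximal' (Q := ((P : Subgroup G) ⊓ C).subgroupOf C)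
        (P.isPGroup'.to_le inf_le_left).comap_subtype (fun z hz => by
          have h : (z : G) ∈ R ⊓ C := hR'.le (Subgroup.mem_map.2 ⟨z, hz, rfl⟩)
          exact ⟨hRP h.1, h.2⟩)
      have h : (⟨c, hcC⟩ : ↥C) ∈ (R' : Subgroup ↥C) := e.le ⟨hcP, hcC⟩
      have h' : c ∈ R ⊓ C := hR'.le (Subgroup.mem_map.2 ⟨_, h, rfl⟩)
      exact h'.1
    have hYR : Y ≤ R := by
      intro y hy
      have hy' : y ∈ R ⊔ C := hXeq.le (mem_sup_left hy)
      have hy'' : y ∈ (R : Set G) * (C : Set G) := by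
        rw [← Subgroup.coe_mul_of_right_le_normalizer_left R C (Subgroup.centralizer_le_normalizer _)]
        exact hy'
      obtain ⟨r, hr, c, hc, rfl⟩ := hy''
      refine mul_mem hr (hPC c ?_ hc)
      have := mul_mem (inv_mem (hRP hr)) (hQP hy.1)
      rwa [inv_mul_cancel_left] at this
    by_contra hQR
    have hlt : R < R ⊔ Q := lt_of_le_of_ne le_sup_left fun e => hQR (e ▸ le_sup_right)
    have h2 := CfsgLib.PLoc.lt_inf_normalizer_of_pgroup (P.isPGroup'.to_le (sup_le hRP hQP)) hlt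
    refine absurd (fun z hz => ?_) (not_le_of_gt h2)
    have hz' : z ∈ (R : Set G) * (Q : Set G) := by
      rw [← Subgroup.coe_mul_of_left_le_normalizer_right R Q (hRP.trans hPQ)]
      exact hz.1
    obtain ⟨r, hr, q, hq, rfl⟩ := hz'
    refine mul_mem hr (hYR ⟨hq, ?_⟩)
    have := mul_mem (inv_mem (le_normalizer hr : r ∈ M)) hz.2
    rwa [inv_mul_cancel_left] at this
  · exact CfsgLib.PLocal.map_conj_eq_of_mem_normalizer (hPQ hx)

end Cfsg.Agent.S1953
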