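import Cfsg.Statements.S1954
import Cfsg.Agent.Lib.ConjFunctor.Alperin
import Cfsg.Agent.Lib.PLocal.ZJ
import Cfsg.Agent.Lib.Transfer.PResidual
import Cfsg.Agent.Lib.Solvable.CoprimeAction
import Cfsg.Agent.Lib.PGroup.Basic
import Mathlib.GroupTheory.Transfer
import Mathlib.Tactic.Group

set_option autoImplicit false
open Cfsg

namespace Cfsg.Agent.S1954

open Subgroup CfsgLib.ConjFunctor
open scoped commutatorElement

variable {G : Type*} [Group G] {p : ℕ}

/-- Agreement by conjugation with an element of `M`. -/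
def Ctl (M : Subgroup G) (D : Subgroup G) (g : G) : Prop :=
  ∃ h ∈ M, ∀ a ∈ D, g * a * g⁻¹ = h * a * h⁻¹

theorem ctl_of_mem {M D : Subgroup G} {g : G} (hg : g ∈ M) : Ctl M D g := ⟨g, hg, fun _ _ => rfl⟩

theorem Ctl.mul {M D : Subgroup G} {g k : G} (h1 : Ctl M D g) (h2 : Ctl M (cj g D) k) :
    Ctl M D (k * g) := by
  obtain ⟨h, hh, hha⟩ := h1
  obtain ⟨l, hl, hla⟩ := h2
  refine ⟨l * h, mul_mem hl hh, fun a ha => ?_⟩
  have e := hla _ (conj_mem_cj (g := g) ha)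
  calc k * g * a * (k * g)⁻¹ = k * (g * a * g⁻¹) * k⁻¹ := by group
    _ = l * (g * a * g⁻¹) * l⁻¹ := e
    _ = l * h * a * (l * h)⁻¹ := by rw [hha a ha]; group

theorem ctl_iff {M D : Subgroup G} {g : G} : Ctl M D g ↔
    ∃ h ∈ M, ∃ c ∈ centralizer (D : Set G), g = h * c := by
  constructor
  · rintro ⟨h, hh, hha⟩
    refine ⟨h, hh, h⁻¹ * g, mem_centralizer_iff.2 fun a ha => ?_, by rw [mul_inv_cancel_left]⟩
    calc a * (h⁻¹ * g) = h⁻¹ * (h * a * h⁻¹) * g := by group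
      _ = h⁻¹ * g * a := by rw [← hha a ha]; group
  · rintro ⟨h, hh, c, hc, rfl⟩
    refine ⟨h, hh, fun a ha => ?_⟩
    calc h * c * a * (h * c)⁻¹ = h * (c * a) * c⁻¹ * h⁻¹ := by group
      _ = h * a * h⁻¹ := by rw [← mem_centralizer_iff.1 hc a ha]; group

/-- Sylow subgroups of a normal subgroup, in subgroup language. -/
theorem isSyl_inf_normal [Finite G] {T X Y : Subgroup G} (hT : IsSyl p T X) (hYX : Y ≤ X)
    (hY : X ≤ normalizer (Y : Set G)) : IsSyl p (T ⊓ Y) Y := by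
  refine ⟨inf_le_right, hT.isPGroup.to_le inf_le_left, fun h => hT.not_dvd ?_⟩
  refine h.trans ?_
  rw [inf_relIndex_right]
  haveI : (Y.subgroupOf X).Normal := normal_subgroupOf_of_le_normalizer hY
  rw [← relIndex_subgroupOf hYX]
  exact CfsgLib.PGroup.relIndex_dvd_index_normal_right _ _

/-- Frattini argument in subgroup language. -/
theorem frattini_arg [Finite G] [Fact p.Prime] {T X Y : Subgroup G} (hT : IsSyl p T Y)
    (hY : X ≤ normalizer (Y : Set G)) {x : G} (hx : x ∈ X) :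
    ∃ y ∈ Y, y * x ∈ normalizer (T : Set G) := by
  have h' := hT.conj x
  rw [cj_eq_self_iff.2 (hY hx)] at h'
  obtain ⟨y, hy, he⟩ := h'.exists_cj_eq hT
  exact ⟨y, hy, cj_eq_self_iff.1 (by rw [cj_mul, he])⟩

theorem eq_one_of_fixed_displacement {u c : G} {n : ℕ} (hn : (orderOf c).Coprime n)
    (hu : ∃ k, u ^ n ^ k = 1) {a : G} (hca : c * a * c⁻¹ = a * u) (hcu : Commute c u) :
    Commute c a := by
  have h : ∀ m : ℕ, c ^ m * a * (c ^ m)⁻¹ = a * u ^ m := by
    intro m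
    induction m with
    | zero => simp
    | succ m ih =>
      calc c ^ (m + 1) * a * (c ^ (m + 1))⁻¹ = c * (c ^ m * a * (c ^ m)⁻¹) * c⁻¹ := by
            rw [pow_succ']; group
        _ = (c * a * c⁻¹) * (c * u ^ m * c⁻¹) := by rw [ih]; group
        _ = a * u ^ (m + 1) := by
            rw [hca, (hcu.pow_right m).eq, mul_inv_cancel_right, mul_assoc, ← pow_succ']
  have h1 := h (orderOf c)
  rw [pow_orderOf_eq_one, one_mul, inv_one, mul_one, left_eq_mul] at h1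
  obtain ⟨k, hk⟩ := hu
  have hd := Nat.dvd_gcd (orderOf_dvd_of_pow_eq_one h1) (orderOf_dvd_of_pow_eq_one hk)
  rw [Nat.Coprime.gcd_eq_one (hn.pow_right k), Nat.dvd_one, orderOf_eq_one_iff] at hd
  rw [hd, mul_one] at hca
  exact mul_inv_eq_iff_eq_mul.1 hca

/-- Let N be a normal subgroup of the finite group G, P a Sylow p-subgroup of G, and V a subgroup of P ∩ N normal in P ∩ N such that N_N(V) controls strong fusion in P ∩ N with respect to N (whenever a subgroup A of P ∩ N has n A n⁻¹ ≤ P ∩ N for some n in N, then n = h c with h in N_N(V) and c in C_N(A)). Let W be the subgroup generated by the conjugates of V under N_G(P ∩ N). Then N_G(W) controls strong fusion in P with respect to G. -/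
theorem result {G : Type*} [Group G] [Finite G] {p : ℕ} [Fact p.Prime] (N : Subgroup G) [N.Normal] (P : Sylow p G) (V : Subgroup G)
    (hV : V ≤ (P : Subgroup G) ⊓ N) (hVn : ∀ x ∈ (P : Subgroup G) ⊓ N, V.map (MulAut.conj x).toMonoidHom = V)
    (hctrl : ∀ A : Subgroup G, A ≤ (P : Subgroup G) ⊓ N → ∀ n ∈ N, A.map (MulAut.conj n).toMonoidHom ≤ (P : Subgroup G) ⊓ N →
      ∃ h ∈ N ⊓ Subgroup.normalizer (V : Set G), ∃ c ∈ N ⊓ Subgroup.centralizer (A : Set G), n = h * c)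
    (W : Subgroup G) (hW : W = Subgroup.closure (⋃ x ∈ Subgroup.normalizer (((P : Subgroup G) ⊓ N : Subgroup G) : Set G),
      ((V.map (MulAut.conj x).toMonoidHom : Subgroup G) : Set G))) :
    ∀ A : Subgroup G, A ≤ (P : Subgroup G) → ∀ g : G, A.map (MulAut.conj g).toMonoidHom ≤ (P : Subgroup G) →
        ∃ h ∈ Subgroup.normalizer (W : Set G), ∃ c ∈ Subgroup.centralizer (A : Set G), g = h * c := by
  set Q := (P : Subgroup G) ⊓ N with hQ
  set NQ := normalizer (Q : Set G)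
  have hPNQ : (P : Subgroup G) ≤ NQ := fun x hx => cj_eq_self_iff.1 (by
    rw [hQ, cj_inf, cj_eq_self_of_mem hx, cj_eq_self_of_normal x N])
  -- part one: control inside `N`
  have hone : ∀ x ∈ NQ, ∀ B ≤ Q, ∀ n ∈ N, cj n B ≤ Q →
      ∃ h ∈ N, cj h (cj x V) = cj x V ∧ ∀ a ∈ B, n * a * n⁻¹ = h * a * h⁻¹ := by
    intro x hx B hB n hn hnB
    have hxQ : cj x Q = Q := cj_eq_self_iff.2 hx
    have hxQ' : cj x⁻¹ Q = Q := cj_eq_self_iff.2 (inv_mem hx)
    have hN : ∀ g m : G, m ∈ N → g * m * g⁻¹ ∈ N := fun g m hm => Subgroup.Normal.conj_mem inferInstance m hm g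
    obtain ⟨h, hh, c, hc, hnc⟩ := hctrl (cj x⁻¹ B) ((cj_mono hB).trans hxQ'.le) (x⁻¹ * n * x)
      (by simpa using hN x⁻¹ n hn) (by
        show cj (x⁻¹ * n * x) (cj x⁻¹ B) ≤ Q
        rw [← cj_mul, mul_inv_cancel_right, cj_mul]
        exact (cj_mono hnB).trans hxQ'.le)
    refine ⟨x * h * x⁻¹, hN x h hh.1, ?_, fun a ha => ?_⟩
    · rw [← cj_mul, inv_mul_cancel_right, cj_mul, cj_eq_self_iff.2 hh.2]
    · have e := mem_centralizer_iff.1 hc.2 (x⁻¹ * a * x) (by
        simpa using conj_mem_cj (g := x⁻¹) ha)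
      have hn' : n = x * h * c * x⁻¹ := by
        calc n = x * (x⁻¹ * n * x) * x⁻¹ := by group
          _ = _ := by rw [hnc]; group
      calc n * a * n⁻¹ = x * h * (c * (x⁻¹ * a * x)) * c⁻¹ * h⁻¹ * x⁻¹ := by rw [hn']; group
        _ = x * h * x⁻¹ * a * (x * h * x⁻¹)⁻¹ := by rw [← e]; group
  have hVQ : ∀ x ∈ NQ, cj x V ≤ Q := fun x hx => (cj_mono hV).trans (cj_eq_self_iff.2 hx).le
  have hmany : ∀ s : Finset G, (∀ x ∈ s, x ∈ NQ) → ∀ B ≤ Q, ∀ n ∈ N, cj n B ≤ Q →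
      ∃ h ∈ N, (∀ x ∈ s, cj h (cj x V) = cj x V) ∧ ∀ a ∈ B, n * a * n⁻¹ = h * a * h⁻¹ := by
    classical
    intro s
    induction s using Finset.induction_on with
    | empty => exact fun _ B _ n hn _ => ⟨n, hn, by simp, fun _ _ => rfl⟩
    | insert x s _ ih =>
      intro hs B hB n hn hnB
      have hx := hs x (Finset.mem_insert_self x s)
      obtain ⟨h₀, hh₀, h₀V, h₀B⟩ := hone x hx B hB n hn hnB
      obtain ⟨h, hh, hsV, hhB⟩ := ih (fun y hy => hs y (Finset.mem_insert_of_mem hy)) (B ⊔ cj x V)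
        (sup_le hB (hVQ x hx)) h₀ hh₀ (by
          rw [show cj h₀ (B ⊔ cj x V) = cj h₀ B ⊔ cj h₀ (cj x V) from Subgroup.map_sup _ _ _, h₀V]
          exact sup_le (by rw [← cj_congr h₀B]; exact hnB) (hVQ x hx))
      refine ⟨h, hh, fun y hy => ?_, fun a ha => (h₀B a ha).trans (hhB a (mem_sup_left ha))⟩
      rcases Finset.mem_insert.1 hy with rfl | hy
      · exact (cj_congr fun a ha => (hhB a (mem_sup_right ha)).symm).trans h₀V
      · exact hsV y hy
  set M := normalizer (W : Set G) with hM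
  have hmemM : ∀ g : G, (∀ x ∈ NQ, ∃ y ∈ NQ, cj g (cj x V) = cj y V) → g ∈ M := by
    intro g hg
    have hle : cj g W ≤ W := by
      show W.map _ ≤ W
      rw [map_le_iff_le_comap]
      conv_lhs => rw [hW]
      rw [closure_le]
      intro v hv
      obtain ⟨x, hx, hv⟩ := Set.mem_iUnion₂.1 hv
      obtain ⟨y, hy, he⟩ := hg x hx
      have h' : g * v * g⁻¹ ∈ cj y V := he ▸ conj_mem_cj hv
      show g * v * g⁻¹ ∈ W
      rw [hW]
      exact subset_closure (Set.mem_iUnion₂.2 ⟨y, hy, h'⟩)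
    exact cj_eq_self_iff.1 (eq_of_le_of_card_ge hle (card_cj g W).ge)
  have hNQM : NQ ≤ M := fun g hg => hmemM g fun x hx => ⟨g * x, mul_mem hg hx, (cj_mul g x V).symm⟩
  have hPM : (P : Subgroup G) ≤ M := hPNQ.trans hNQM
  have hctlN : ∀ B ≤ Q, ∀ n ∈ N, cj n B ≤ Q →
      ∃ h ∈ M, h ∈ N ∧ ∀ a ∈ B, n * a * n⁻¹ = h * a * h⁻¹ := by
    classical
    intro B hB n hn hnB
    haveI := Fintype.ofFinite G
    obtain ⟨h, hh, hs, hhB⟩ := hmany (Finset.univ.filter (· ∈ NQ))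
      (fun x hx => (Finset.mem_filter.1 hx).2) B hB n hn hnB
    exact ⟨h, hmemM h fun x hx => ⟨x, hx, hs x (by simp [hx])⟩, hh, hhB⟩
  -- part two
  suffices main : ∀ k, ∀ D : Subgroup G, Nat.card G - Nat.card D ≤ k → D ≤ (P : Subgroup G) →
      ∀ g : G, cj g D ≤ (P : Subgroup G) → Ctl M D g from
    fun A hA g hg => ctl_iff.1 (main _ A le_rfl hA g hg)
  intro k
  induction k using Nat.strong_induction_on with
  | _ k ih =>
  intro D₀ hk hD₀ g₀ hg₀
  by_cases hlt : Nat.card G - Nat.card D₀ < k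
  · exact ih _ hlt D₀ le_rfl hD₀ g₀ hg₀
  have hk' : k = Nat.card G - Nat.card D₀ := by omega
  refine alperin_induction P {U | FullyNorm p (P : Subgroup G) U} (exists_rep_fullyNorm P)
    (fun D g => Nat.card D₀ ≤ Nat.card D → Ctl M D g) ?_ ?_ ?_ ?_ D₀ g₀ hD₀ hg₀ le_rfl
  · intro D D' g hD' _ _ hc hcard
    obtain ⟨h, hh, hha⟩ := hc (hcard.trans (card_le_of_le hD'))
    exact ⟨h, hh, fun a ha => hha a (hD' ha)⟩
  · intro D g l _ _ _ h1 h2 hcard
    exact (h1 hcard).mul (h2 (by rwa [card_cj]))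
  · intro D g _ _ h1 hcard
    obtain ⟨h, hh, hha⟩ := h1 (by rwa [card_cj] at hcard)
    refine ⟨h⁻¹, inv_mem hh, fun a ha => ?_⟩
    obtain ⟨d, hd, rfl⟩ := ha
    show g⁻¹ * (g * d * g⁻¹) * g⁻¹⁻¹ = h⁻¹ * (g * d * g⁻¹) * h⁻¹⁻¹
    rw [hha d hd]
    calc g⁻¹ * (h * d * h⁻¹) * g⁻¹⁻¹ = g⁻¹ * (g * d * g⁻¹) * g := by rw [hha d hd, inv_inv]
      _ = h⁻¹ * (h * d * h⁻¹) * h⁻¹⁻¹ := by group
  intro U _ hUf D x hDU hx hcard
  suffices hU : Ctl M U x by
    obtain ⟨h, hh, hha⟩ := hU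
    exact ⟨h, hh, fun a ha => hha a (hDU ha)⟩
  have hUP : U ≤ (P : Subgroup G) := hUf.1
  -- larger subgroups are under control
  have big : ∀ T, T ≤ (P : Subgroup G) → ¬ T ≤ U → ∀ n ∈ normalizer (U : Set G),
      n ∈ normalizer (T : Set G) → Ctl M U n := by
    intro T hTP hTU n hnU hnT
    have hlt' : U < U ⊔ T := left_lt_sup.2 hTU
    have hfix : cj n (U ⊔ T) = U ⊔ T := by
      rw [show cj n (U ⊔ T) = cj n U ⊔ cj n T from Subgroup.map_sup _ _ _, cj_eq_self_iff.2 hnU,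
        cj_eq_self_iff.2 hnT]
    have hc : Nat.card U < Nat.card ↥(U ⊔ T) := (card_le_of_le hlt'.le).lt_of_ne fun e =>
      hlt'.ne (eq_of_le_of_card_ge hlt'.le e.ge)
    have hG : Nat.card ↥(U ⊔ T) ≤ Nat.card G := card_le_card_group _
    have h' := card_le_of_le hDU
    obtain ⟨h, hh, hha⟩ := ih (Nat.card G - Nat.card ↥(U ⊔ T)) (by omega) (U ⊔ T) le_rfl
      (sup_le hUP hTP) n (hfix.le.trans (sup_le hUP hTP))
    exact ⟨h, hh, fun a ha => hha a (mem_sup_left ha)⟩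
  set X := normalizer (U : Set G) with hX
  set Y := X ⊓ N with hYdef
  set B := U ⊓ N with hBdef
  have hXY : X ≤ normalizer (Y : Set G) := fun g hg => cj_eq_self_iff.1 (by
    rw [hYdef, cj_inf, cj_eq_self_of_mem hg, cj_eq_self_of_normal g N])
  have hXB : X ≤ normalizer (B : Set G) := fun g hg => cj_eq_self_iff.1 (by
    rw [hBdef, cj_inf, cj_eq_self_iff.2 hg, cj_eq_self_of_normal g N])
  have hBQ : B ≤ Q := inf_le_inf_right N hUP
  have hUX : U ≤ X := le_normalizer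
  have hcomUY : ∀ y ∈ Y, ∀ u ∈ U, u⁻¹ * (y * u * y⁻¹) ∈ B := fun y hy u hu =>
    mem_inf.2 ⟨mul_mem (inv_mem hu) ((mem_normalizer_iff.1 hy.1 u).1 hu), by
      have e : u⁻¹ * (y * u * y⁻¹) = u⁻¹ * y * u⁻¹⁻¹ * y⁻¹ := by group
      rw [e]
      exact mul_mem (Subgroup.Normal.conj_mem inferInstance y hy.2 u⁻¹) (inv_mem hy.2)⟩
  set T := ((P : Subgroup G) ⊓ X) ⊓ Y with hTdef
  have hTsyl : IsSyl p T Y := isSyl_inf_normal hUf.2 inf_le_left hXY
  have hTP : T ≤ (P : Subgroup G) := inf_le_left.trans inf_le_left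
  by_cases hTU : T ≤ U
  · -- then `U` contains `Q`
    have hQU : Q ≤ U := by
      by_contra hne
      have hlt' : U < U ⊔ Q := left_lt_sup.2 hne
      obtain ⟨s, hs, hsU⟩ := SetLike.exists_of_lt
        (lt_inf_normalizer (P.isPGroup'.to_le (sup_le hUP inf_le_left)) hlt')
      obtain ⟨hs1, hs2⟩ := mem_inf.1 hs
      have hs1' : s ∈ ((U ⊔ Q : Subgroup G) : Set G) := hs1
      rw [coe_mul_of_left_le_normalizer_right U Q (hUP.trans hPNQ), Set.mem_mul] at hs1'
      obtain ⟨u, hu, q, hq, rfl⟩ := hs1'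
      have hqX : q ∈ X := (mul_mem_cancel_left (hUX hu)).1 hs2
      exact hsU (mul_mem hu (hTU ⟨⟨hq.1, hqX⟩, hqX, hq.2⟩))
    have hBeq : B = Q := le_antisymm hBQ (le_inf hQU inf_le_right)
    refine ctl_of_mem (hNQM ?_)
    show x ∈ normalizer (Q : Set G)
    rw [← hBeq]; exact hXB hx
  obtain ⟨y, hy, hyx⟩ := frattini_arg hTsyl hXY hx
  suffices hY : ∀ n ∈ Y, Ctl M U n by
    have h1 := big T hTP hTU (y * x) (mul_mem hy.1 hx) hyx
    have h2 := hY y⁻¹ (inv_mem hy)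
    have h3 := h1.mul (k := y⁻¹) (by rw [cj_eq_self_iff.2 (mul_mem hy.1 hx)]; exact h2)
    rwa [inv_mul_cancel_left] at h3
  intro n hn
  set C := Y ⊓ centralizer (B : Set G) with hCdef
  have hYC : Y ≤ normalizer (C : Set G) := by
    intro g hg
    refine cj_eq_self_iff.1 ?_
    rw [hCdef, cj_inf, cj_eq_self_of_mem hg, cj_eq_self_iff.2
      (CfsgLib.PLoc.normalizer_le_normalizer_centralizer B (hXB hg.1))]
  set T₀ := T ⊓ C with hT₀def
  have hT₀syl : IsSyl p T₀ C := isSyl_inf_normal hTsyl inf_le_left hYC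
  -- elements of order prime to `p` in `C` centralize `U`
  have hC : ∀ c ∈ C, (orderOf c).Coprime p → c ∈ centralizer (U : Set G) := by
    intro c hc hcp
    refine mem_centralizer_iff.2 fun u hu => ?_
    have hv := hcomUY c hc.1 u hu
    refine (eq_one_of_fixed_displacement hcp ?_ (a := u) (u := u⁻¹ * (c * u * c⁻¹)) (by group)
      (mem_centralizer_iff.1 hc.2 _ hv).symm).eq.symm
    obtain ⟨j, hj⟩ := (P.isPGroup'.to_le hUP) ⟨_, inf_le_left (b := N) hv⟩
    exact ⟨j, by simpa using congrArg Subtype.val hj⟩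
  by_cases hT₀U : T₀ ≤ U
  swap
  · obtain ⟨c, hc, hcn⟩ := frattini_arg hT₀syl hYC hn
    have h1 := big T₀ (inf_le_left.trans hTP) hT₀U (c * n) (mul_mem hc.1.1 hn.1) hcn
    have hc' : Ctl M U c⁻¹ := by
      let R : Sylow p ↥C := (hT₀syl.isPGroup.comap_of_injective C.subtype C.subtype_injective).toSylow
        hT₀syl.not_dvd
      have hmem : (⟨c⁻¹, inv_mem hc⟩ : C) ∈ (R : Subgroup C) ⊔ pResidual p ↥C := by
        rw [CfsgLib.Transfer.sylow_sup_pResidual R]; exact mem_top _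
      obtain ⟨t, ht, e, he, hte⟩ := mem_sup_of_normal_right.1 hmem
      have hcen : (pResidual p ↥C) ≤ (centralizer (U : Set G)).subgroupOf C := by
        refine (closure_le _).2 fun g hg => ?_
        exact hC g g.2 (by rwa [orderOf_coe])
      have hval : (t : G) * e = c⁻¹ := congrArg Subtype.val hte
      rw [ctl_iff]
      exact ⟨t, hPM (hTP (inf_le_left (b := C) ht)), e, hcen he, hval.symm⟩
    have h3 := h1.mul (k := c⁻¹) (by rw [cj_eq_self_iff.2 (mul_mem hc.1.1 hn.1)]; exact hc')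
    rwa [inv_mul_cancel_left] at h3
  -- now `Z(B)` is a Sylow subgroup of `C_N(B)`
  set E := N ⊓ centralizer (B : Set G) with hEdef
  have hUE : U ≤ normalizer (E : Set G) := fun u hu => cj_eq_self_iff.1 (by
    rw [hEdef, cj_inf, cj_eq_self_of_normal u N, cj_eq_self_iff.2
      (CfsgLib.PLoc.normalizer_le_normalizer_centralizer B (hXB (hUX hu)))])
  obtain ⟨R, hR⟩ := IsPGroup.exists_le_sylow (p := p) (P := U.subgroupOf (U ⊔ E))
    ((P.isPGroup'.to_le hUP).comap_of_injective _ (subtype_injective _))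
  set R' := (R : Subgroup _).map (U ⊔ E).subtype with hR'
  have hUR : U ≤ R' := by
    intro u hu
    exact ⟨⟨u, mem_sup_left hu⟩, hR hu, rfl⟩
  have hR'syl : IsSyl p R' (U ⊔ E) := ⟨map_subtype_le _, R.isPGroup'.map _, by
    rw [hR', relIndex, subgroupOf, comap_map_eq_self_of_injective (subtype_injective _)]
    exact R.not_dvd_index⟩
  set S := R' ⊓ E with hSdef
  have hEn : U ⊔ E ≤ normalizer (E : Set G) := sup_le hUE le_normalizer
  have hSsyl : IsSyl p S E := isSyl_inf_normal hR'syl le_sup_right hEn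
  have hSB : S ≤ U := by
    by_contra hne
    have hUn : U ≤ normalizer (S : Set G) := fun u hu => cj_eq_self_iff.1 (by
      rw [hSdef, cj_inf, cj_eq_self_of_mem (hUR hu), cj_eq_self_iff.2 (hUE hu)])
    obtain ⟨s, hs, hsU⟩ := SetLike.exists_of_lt
      (lt_inf_normalizer (hR'syl.isPGroup.to_le (sup_le hUR inf_le_left)) (left_lt_sup.2 hne))
    obtain ⟨hs1, hs2⟩ := mem_inf.1 hs
    have hs1' : s ∈ ((U ⊔ S : Subgroup G) : Set G) := hs1
    rw [coe_mul_of_left_le_normalizer_right U S hUn, Set.mem_mul] at hs1'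
    obtain ⟨u, hu, q, hq, rfl⟩ := hs1'
    have hqX : q ∈ X := (mul_mem_cancel_left (hUX hu)).1 hs2
    have hqC : q ∈ C := ⟨⟨hqX, hq.2.1⟩, hq.2.2⟩
    obtain ⟨c, hc, hcle⟩ := hT₀syl.exists_cj_le (hSsyl.isPGroup.to_le (zpowers_le.2 hq))
      (zpowers_le.2 hqC)
    have hcq : c * q * c⁻¹ ∈ T₀ := hcle (conj_mem_cj (mem_zpowers q))
    have hcq' : c * q * c⁻¹ ∈ B := ⟨hT₀U hcq, (inf_le_left (b := C) hcq).2.2⟩
    have hfix := mem_centralizer_iff.1 hc.2 _ hcq'
    have hqB : q ∈ B := by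
      have e : q = c * q * c⁻¹ := by
        calc q = c⁻¹ * ((c * q * c⁻¹) * c) := by group
          _ = _ := by rw [hfix]; group
      rw [e]; exact hcq'
    exact hsU (mul_mem hu hqB.1)
  have hScen : ∀ s ∈ S, ∀ e ∈ E, Commute s e := fun s hs e he =>
    mem_centralizer_iff.1 he.2 s ⟨hSB hs, hs.2.1⟩
  let SE : Sylow p ↥E := (hSsyl.isPGroup.comap_of_injective E.subtype E.subtype_injective).toSylow
    hSsyl.not_dvd
  have hnc : normalizer ((SE : Subgroup E) : Set E) ≤ centralizer ((SE : Subgroup E) : Set E) :=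
    fun g _ => mem_centralizer_iff.2 fun s hs => Subtype.ext (hScen s hs g g.2).eq
  have hcomp : HasNormalPComplement p ↥E :=
    ⟨SE, _, inferInstance, MonoidHom.ker_transferSylow_isComplement' SE hnc⟩
  set O := (pResidual p ↥E).map E.subtype with hOdef
  have hOcop : (Nat.card U).Coprime (Nat.card O) := by
    obtain ⟨j, hj⟩ := IsPGroup.iff_card.1 (P.isPGroup'.to_le hUP)
    rw [hj, hOdef, card_map_of_injective E.subtype_injective]
    exact ((Fact.out : p.Prime).coprime_iff_not_dvd.2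
      (CfsgLib.Transfer.hasNormalPComplement_iff_not_dvd.1 hcomp)).pow_left j
  have hUO : U ≤ normalizer (O : Set G) := by
    intro u hu
    refine cj_eq_self_iff.1 (eq_of_le_of_card_ge ?_ (card_cj u O).ge)
    rintro _ ⟨_, ⟨e, he, rfl⟩, rfl⟩
    have hle : (pResidual p ↥E) ≤ O.comap ((MulAut.conj u).toMonoidHom.comp E.subtype) := by
      refine (closure_le _).2 fun g hg => ?_
      refine ⟨⟨u * g * u⁻¹, (mem_normalizer_iff.1 (hUE hu) _).1 g.2⟩, ?_, rfl⟩
      refine CfsgLib.Transfer.mem_pResidual_of_coprime ?_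
      rw [Subgroup.orderOf_mk]
      have e : orderOf (u * (g : G) * u⁻¹) = orderOf (g : G) :=
        orderOf_injective (MulAut.conj u).toMonoidHom (MulAut.conj u).injective _
      rw [e, orderOf_coe]
      exact hg
    exact hle he
  have hnB : cj n B ≤ Q := by rw [cj_eq_self_iff.2 (hXB hn.1)]; exact hBQ
  obtain ⟨h, hhM, hhN, hhB⟩ := hctlN B hBQ n hn.2 hnB
  have hdE : h⁻¹ * n ∈ E := by
    refine mem_inf.2 ⟨mul_mem (inv_mem hhN) hn.2, mem_centralizer_iff.2 fun b hb => ?_⟩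
    calc b * (h⁻¹ * n) = h⁻¹ * (h * b * h⁻¹) * n := by group
      _ = h⁻¹ * n * b := by rw [← hhB b hb]; group
  have hmem : (⟨h⁻¹ * n, hdE⟩ : E) ∈ (SE : Subgroup E) ⊔ pResidual p ↥E := by
    rw [CfsgLib.Transfer.sylow_sup_pResidual SE]; exact mem_top _
  obtain ⟨z, hz, o, ho, hzo⟩ := mem_sup_of_normal_right.1 hmem
  have hoO : (o : G) ∈ O := ⟨o, ho, rfl⟩
  set h' := h * (z : G) with hh'
  have hh'M : h' ∈ M := mul_mem hhM (hPM (hUP (hSB hz)))
  have hno : n = h' * o := by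
    have e : (z : G) * o = h⁻¹ * n := congrArg Subtype.val hzo
    rw [hh', mul_assoc, e, mul_inv_cancel_left]
  haveI := (P.isPGroup'.to_le hUP).isNilpotent
  obtain ⟨d, hd, hdc⟩ := CfsgLib.Solvable.exists_fixed_mem_coset hUO inf_le_left (D := O ⊓ M)
    (fun u hu => cj_eq_self_iff.1 (by
      rw [cj_inf, cj_eq_self_iff.2 (hUO hu), cj_eq_self_iff.2 (le_normalizer (hPM (hUP hu)))]))
    hOcop (Or.inl inferInstance) (inv_mem hoO) (fun u hu => by
      refine mem_inf.2 ⟨mul_mem (inv_mem (inv_mem hoO)) ((mem_normalizer_iff.1 (hUO hu) _).1 (inv_mem hoO)), ?_⟩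
      have e : (o : G)⁻¹⁻¹ * (u * (o : G)⁻¹ * u⁻¹) = h'⁻¹ * (n * u * n⁻¹) * h' * u⁻¹ := by
        rw [hno]; group
      show _ ∈ M
      rw [e]
      exact mul_mem (mul_mem (mul_mem (inv_mem hh'M)
        (hPM (hUP ((mem_normalizer_iff.1 hn.1 u).1 hu)))) hh'M) (inv_mem (hPM (hUP hu))))
  refine ctl_iff.2 ⟨h' * d, mul_mem hh'M hd.2, ((o : G)⁻¹ * d)⁻¹, inv_mem hdc.2, ?_⟩
  rw [hno]; group

end Cfsg.Agent.S1954
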