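import Cfsg.Statements.S1957
import Cfsg.Agent.Lib.Case.FourGroups
import Cfsg.Agent.Lib.Invol.KleinSylow
import Cfsg.Agent.Lib.Solvable.CoprimeGeneration
import Cfsg.Agent.Lib.Solvable.Core

set_option autoImplicit false
open Cfsg

namespace Cfsg.Agent.S1957

open Subgroup
open scoped commutatorElement

/-- A subgroup of `M` acting on `O₂(M)` modulo a central subgroup of order two lies in `O₂(M)`. -/
theorem le_core {G : Type*} [Group G] [Finite G] (M : Subgroup G)
    (hM : Cfsg.IsOfCharacteristicTwo ↥M) (w : G) (hw : w * w = 1) (hwc : M ≤ centralizer {w})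
    (U : Subgroup G) (hUM : U ≤ M)
    (h : ∀ u ∈ U, ∀ q ∈ (Cfsg.pCore 2 ↥M).map M.subtype, ⁅u, q⁆ ∈ zpowers w) :
    U ≤ (Cfsg.pCore 2 ↥M).map M.subtype := by
  set Q := Cfsg.pCore 2 ↥M with hQ
  haveI : Q.Normal := CfsgLib.Solvable.pCore_normal 2 _
  have hwM : ∀ m : M, (m : G) * w * (m : G)⁻¹ = w := fun m => by
    rw [mem_centralizer_singleton_iff.1 (hwc m.2), mul_inv_cancel_right]
  have hfix : ∀ (m : M) (x : G), x ∈ zpowers w → (m : G) * x * (m : G)⁻¹ = x := by
    rintro m _ ⟨k, rfl⟩
    show (m : G) * w ^ k * (m : G)⁻¹ = w ^ k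
    rw [← conj_zpow, hwM m]
  let S : Subgroup ↥M :=
    { carrier := {m | ∀ q ∈ Q, ⁅(m : G), (q : G)⁆ ∈ zpowers w}
      one_mem' := fun q _ => by simp
      mul_mem' := fun {a b} ha hb q hq => by
        have e : ⁅((a * b : M) : G), (q : G)⁆ =
            (a : G) * ⁅(b : G), (q : G)⁆ * (a : G)⁻¹ * ⁅(a : G), (q : G)⁆ := by
          push_cast; simp only [commutatorElement_def]; group
        rw [e, hfix a _ (hb q hq)]
        exact mul_mem (hb q hq) (ha q hq)
      inv_mem' := fun {a} ha q hq => by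
        have h1 := hfix a⁻¹ _ (ha q hq)
        have e : ⁅((a⁻¹ : M) : G), (q : G)⁆ =
            (((a⁻¹ : M) : G) * ⁅(a : G), (q : G)⁆ * ((a⁻¹ : M) : G)⁻¹)⁻¹ := by
          push_cast; simp only [commutatorElement_def]; group
        rw [e, h1]
        exact inv_mem (ha q hq) }
  haveI : S.Normal := ⟨fun s hs m q hq => by
    have h1 := hs _ (by simpa using Normal.conj_mem ‹Q.Normal› q hq m⁻¹ : m⁻¹ * q * m ∈ Q)
    have e : ⁅((m * s * m⁻¹ : M) : G), (q : G)⁆ =
        (m : G) * ⁅(s : G), ((m⁻¹ * q * m : M) : G)⁆ * (m : G)⁻¹ := by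
      push_cast; simp only [commutatorElement_def]; group
    rw [e, hfix m _ h1]; exact h1⟩
  have hS : IsPGroup 2 S := by
    intro s
    have hsq : (s : M) * s ∈ Q := by
      refine hM (mem_centralizer_iff.2 fun q hq => Subtype.ext ?_)
      obtain ⟨k, hk⟩ := s.2 q hq
      have h1 : ((s : M) : G) * ((s : M) : G) * (q : G) * (((s : M) : G) * ((s : M) : G))⁻¹ =
          w ^ k * (w ^ k * (q : G)) := by
        have e : ((s : M) : G) * (q : G) * ((s : M) : G)⁻¹ = w ^ k * (q : G) := by
          rw [show w ^ k = ⁅((s : M) : G), (q : G)⁆ from hk]; simp [commutatorElement_def]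
        calc _ = ((s : M) : G) * (((s : M) : G) * (q : G) * ((s : M) : G)⁻¹) * ((s : M) : G)⁻¹ := by
              group
          _ = (((s : M) : G) * w ^ k * ((s : M) : G)⁻¹) *
              (((s : M) : G) * (q : G) * ((s : M) : G)⁻¹) := by (conv_lhs => rw [e]); group
          _ = _ := by rw [e, hfix _ _ ⟨k, rfl⟩]
      rw [← mul_assoc, ← (Commute.refl w).mul_zpow, hw, one_zpow, one_mul] at h1
      push_cast
      exact (mul_inv_eq_iff_eq_mul.1 h1).symm
    obtain ⟨j, hj⟩ := CfsgLib.Solvable.pCore_isPGroup 2 _ ⟨_, hsq⟩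
    refine ⟨j + 1, Subtype.ext ?_⟩
    have := congrArg Subtype.val hj
    rw [pow_succ', pow_mul, pow_two]
    push_cast at this ⊢
    exact this
  intro u hu
  refine ⟨⟨u, hUM hu⟩, CfsgLib.Solvable.le_pCore inferInstance hS ?_, rfl⟩
  exact fun q hq => h u hu _ ⟨q, hq, rfl⟩


/-- Let `G` be a finite non-abelian simple group in which every local subgroup is solvable and which is of characteristic 2 type. Let `P` be a Sylow 2-subgroup of `G` and `U` a normal subgroup of `P` that is a four-group, with `U` central in `P` if the centre of `P` is not cyclic. Then `U` centralizes every subgroup of odd order of `G` that it normalizes. -/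
theorem result {G : Type*} [Group G] [Finite G]
    [IsSimpleGroup G] (hna : ¬ IsMulCommutative G) (hN : Cfsg.IsNGroup G) (h2 : Cfsg.IsCharacteristicTwoType G)
    (P : Sylow 2 G) (U : Subgroup G) (hUP : U ≤ (P : Subgroup G)) (hUn : (P : Subgroup G) ≤ Subgroup.normalizer (U : Set G))
    (hU4 : IsKleinFour ↥U)
    (hUZ : ¬ IsCyclic ↥((P : Subgroup G) ⊓ Subgroup.centralizer ((P : Subgroup G) : Set G)) →
      U ≤ Subgroup.centralizer ((P : Subgroup G) : Set G))
    (K : Subgroup G) (hK : Odd (Nat.card K)) (hUK : U ≤ Subgroup.normalizer (K : Set G)) :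
    U ≤ Subgroup.centralizer (K : Set G) := by
  haveI : Fact (Nat.Prime 2) := ⟨Nat.prime_two⟩
  haveI := hU4
  have hUc : ∀ x ∈ U, ∀ y ∈ U, x * y = y * x := fun x hx y hy =>
    CfsgLib.Case.klein_comm hU4 hx hy
  have hU2 : ∀ x ∈ U, x * x = 1 := fun x hx => CfsgLib.Case.klein_mul_self hU4 hx
  haveI : IsMulCommutative ↥U := IsMulCommutative.of_setLike_mul_comm hUc
  have hUcyc : ¬ IsCyclic ↥U := fun h => IsKleinFour.not_isCyclic h
  -- the four elements
  have hcases : ∀ a ∈ U, a ≠ 1 → ∀ b ∈ U, b ≠ 1 → b ≠ a → ∀ c ∈ U,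
      c = 1 ∨ c = a ∨ c = b ∨ c = a * b := by
    intro a ha ha1 b hb hb1 hba c hc
    rcases eq_or_ne c 1 with h | h
    · exact Or.inl h
    refine Or.inr (CfsgLib.Invol.klein_mem_eq ha hb (mul_mem ha hb) hc ha1 hb1 (fun e => ?_) h hba.symm ?_ ?_)
    · exact hba (mul_left_cancel (e.trans (hU2 a ha).symm))
    · exact fun e => hb1 (mul_eq_left.1 e.symm)
    · exact fun e => ha1 (mul_eq_right.1 e.symm)
  have h1U : (1 : G) ∈ U := one_mem U
  obtain ⟨u0, hu0U, hu01, hu0P⟩ : ∃ u0 ∈ U, u0 ≠ 1 ∧ ∀ x ∈ (P : Subgroup G), Commute x u0 := by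
    haveI : (U.subgroupOf (P : Subgroup G)).Normal := normal_subgroupOf_of_le_normalizer hUn
    obtain ⟨z, hz, hz1, hzc⟩ : ∃ z ∈ U.subgroupOf (P : Subgroup G), z ≠ 1 ∧ z ∈ center _ := by
      obtain ⟨z, hz, hzU⟩ := CfsgLib.Solvable.exists_ne_one_mem_inf_center_of_normal
        (R := (P : Subgroup G)) (N := U.subgroupOf (P : Subgroup G)) P.isPGroup' (by
          intro hbot
          apply hUcyc
          haveI : Subsingleton ↥U := ⟨fun a b => by
            have h1 : ∀ c : U, (c : G) = 1 := fun c => by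
              have : (⟨c, hUP c.2⟩ : (P : Subgroup G)) ∈ U.subgroupOf (P : Subgroup G) := c.2
              rw [hbot, mem_bot] at this
              exact congrArg Subtype.val this
            exact Subtype.ext ((h1 a).trans (h1 b).symm)⟩
          exact isCyclic_of_subsingleton)
      exact ⟨z, hz.1, hzU, hz.2⟩
    exact ⟨z, hz, fun h => hz1 (Subtype.ext h),
      fun x hx => congrArg Subtype.val (mem_center_iff.1 hzc ⟨x, hx⟩)⟩
  -- `C_K(w)` centralizes `U` for every involution `w` of `U`
  have main : ∀ w ∈ U, w ≠ 1 → K ⊓ centralizer {w} ≤ K ⊓ centralizer (U : Set G) := by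
    intro w hwU hw1
    have hZ : IsPGroup 2 ↥(zpowers w) := by
      refine IsPGroup.of_card (n := 1) ?_
      rw [Nat.card_zpowers, pow_one]
      exact orderOf_eq_prime (by rw [pow_two]; exact hU2 w hwU) hw1
    set M := normalizer (zpowers w : Set G) with hM
    have hMc : M ≤ centralizer {w} := by
      intro m hm
      have h1 := (mem_normalizer_iff.1 hm w).1 (mem_zpowers w)
      obtain ⟨k, hk⟩ := h1
      rcases Int.even_or_odd k with ⟨r, rfl⟩ | ⟨r, rfl⟩
      · exfalso
        simp only [zpow_add, ← (Commute.refl w).mul_zpow, hU2 w hwU, one_zpow] at hk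
        exact hw1 (conj_eq_one_iff.1 hk.symm)
      · simp only [zpow_add, two_mul, ← (Commute.refl w).mul_zpow, hU2 w hwU, one_zpow, one_mul,
          zpow_one] at hk
        exact mem_centralizer_singleton_iff.2 (mul_inv_eq_iff_eq_mul.1 hk.symm)
    have hcM : centralizer {w} ≤ M := by
      intro m hm
      have hw' := mem_centralizer_singleton_iff.1 hm
      refine mem_normalizer_fintype fun x hx => ?_
      obtain ⟨k, rfl⟩ := hx
      show m * w ^ k * m⁻¹ ∈ zpowers w
      rw [← conj_zpow, hw', mul_inv_cancel_right]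
      exact zpow_mem (mem_zpowers w) k
    have hUM : U ≤ M := fun u hu => hcM (mem_centralizer_singleton_iff.2 (hUc u hu w hwU))
    set Q := (Cfsg.pCore 2 ↥M).map M.subtype with hQ
    suffices hUQ : U ≤ Q by
      rintro k ⟨hkK, hkw⟩
      refine ⟨hkK, mem_centralizer_iff.2 fun u hu => ?_⟩
      have hkM : k ∈ M := hcM hkw
      obtain ⟨u', hu', rfl⟩ := hUQ hu
      have h1 : ⁅(u' : G), k⁆ ∈ K := by
        rw [commutatorElement_def]
        exact mul_mem ((mem_normalizer_iff.1 (hUK hu) k).1 hkK) (inv_mem hkK)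
      have h2 : ⁅(u' : G), k⁆ ∈ Q := by
        refine ⟨⁅u', ⟨k, hkM⟩⁆, ?_, map_commutatorElement M.subtype u' ⟨k, hkM⟩⟩
        rw [show ⁅u', (⟨k, hkM⟩ : M)⁆ = u' * (⟨k, hkM⟩ * u'⁻¹ * (⟨k, hkM⟩ : M)⁻¹) by
          simp [commutatorElement_def, mul_assoc]]
        exact mul_mem hu' ((CfsgLib.Solvable.pCore_normal 2 ↥M).conj_mem _ (inv_mem hu') _)
      have hQp : IsPGroup 2 Q := (CfsgLib.Solvable.pCore_isPGroup 2 _).map _
      have hcop : ⁅(u' : G), k⁆ = 1 := by
        obtain ⟨j, hj⟩ := hQp ⟨_, h2⟩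
        have d1 : orderOf ⁅(u' : G), k⁆ ∣ 2 ^ j :=
          orderOf_dvd_of_pow_eq_one (congrArg Subtype.val hj)
        have d2 : orderOf ⁅(u' : G), k⁆ ∣ Nat.card K := orderOf_dvd_natCard _ h1
        rw [← orderOf_eq_one_iff, ← Nat.dvd_one,
          ← Nat.Coprime.gcd_eq_one ((Nat.coprime_two_left.2 hK).pow_left j)]
        exact Nat.dvd_gcd d1 d2
      exact commutatorElement_eq_one_iff_mul_comm.1 hcop
    refine le_core M (h2.2 _ hZ (by simpa [zpowers_eq_bot] using hw1)) w (hU2 w hwU) hMc U hUM ?_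
    -- the commutators
    set P0 := (P : Subgroup G) ⊓ centralizer (U : Set G) with hP0
    have hQp : IsPGroup 2 Q := (CfsgLib.Solvable.pCore_isPGroup 2 _).map _
    have hP0M : P0 ≤ M := fun x hx => hcM (mem_centralizer_singleton_iff.2
      (mem_centralizer_iff.1 hx.2 w hwU).symm)
    have hQn : M ≤ normalizer (Q : Set G) := by
      haveI := CfsgLib.Solvable.pCore_normal 2 ↥M
      intro m hm
      refine mem_normalizer_fintype ?_
      rintro _ ⟨q, hq, rfl⟩
      exact ⟨⟨m, hm⟩ * q * ⟨m, hm⟩⁻¹, Normal.conj_mem inferInstance q hq _, rfl⟩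
    obtain ⟨S, hS⟩ := (IsPGroup.to_sup_of_normal_right' (H := P0) (K := Q)
      (P.isPGroup'.to_le inf_le_left) hQp (hP0M.trans hQn)).exists_le_sylow
    have hP0S : P0 ≤ (S : Subgroup G) := le_sup_left.trans hS
    have hQS : Q ≤ (S : Subgroup G) := le_sup_right.trans hS
    intro u hu q hq
    by_cases hqU : ∀ y ∈ U, Commute y q
    · rw [commutatorElement_eq_one_iff_mul_comm.2 (hqU u hu).eq]; exact one_mem _
    have hcard : Nat.card ↥(S : Subgroup G) = Nat.card ↥(P : Subgroup G) := by
      rw [Sylow.card_eq_multiplicity S, Sylow.card_eq_multiplicity P]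
    have hqS : q ∈ (S : Subgroup G) := hQS hq
    have hqM : q ∈ M := map_subtype_le _ hq
    obtain ⟨x, hxP, hx⟩ : ∃ x ∈ (P : Subgroup G), x ∉ P0 := by
      by_contra hall
      push Not at hall
      apply hqU
      have : P0 = (S : Subgroup G) := eq_of_le_of_card_ge hP0S (by
        rw [hcard]; exact card_le_of_le hall)
      intro y hy
      exact mem_centralizer_iff.1 (this ▸ hqS : q ∈ P0).2 y hy
    have hxU : ∀ z ∈ U, x * z * x⁻¹ ∈ U := fun z hz => (mem_normalizer_iff.1 (hUn hxP) z).1 hz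
    obtain ⟨v, hvU, hvx⟩ : ∃ v ∈ U, x * v * x⁻¹ ≠ v := by
      by_contra hall
      push Not at hall
      exact hx ⟨hxP, mem_centralizer_iff.2 fun z hz => (mul_inv_eq_iff_eq_mul.1 (hall z hz)).symm⟩
    have hv1 : v ≠ 1 := by rintro rfl; simp at hvx
    have hvu : v ≠ u0 := by
      rintro rfl
      exact hvx (by rw [(hu0P x hxP).eq, mul_inv_cancel_right])
    have hmove : ∀ y ∈ (P : Subgroup G), y * v * y⁻¹ = v ∨ y * v * y⁻¹ = u0 * v := by
      intro y hy
      rcases hcases u0 hu0U hu01 v hvU hv1 hvu _ ((mem_normalizer_iff.1 (hUn hy) v).1 hvU) with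
        h | h | h | h
      · exact absurd (conj_eq_one_iff.1 h) hv1
      · exfalso
        apply hvu
        have e : y * u0 * y⁻¹ = u0 := by rw [(hu0P y hy).eq, mul_inv_cancel_right]
        exact mul_left_cancel (mul_right_cancel (h.trans e.symm))
      · exact Or.inl h
      · exact Or.inr h
    have hxv : x * v * x⁻¹ = u0 * v := (hmove x hxP).resolve_left hvx
    have hP0 : ∀ y ∈ (P : Subgroup G), y * v * y⁻¹ = v → y ∈ P0 := by
      intro y hy h
      refine ⟨hy, mem_centralizer_iff.2 fun z hz => ?_⟩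
      have hyv : y * v = v * y := mul_inv_eq_iff_eq_mul.1 h
      rcases hcases u0 hu0U hu01 v hvU hv1 hvu z hz with rfl | rfl | rfl | rfl
      · rw [one_mul, mul_one]
      · exact (hu0P y hy).eq.symm
      · exact hyv.symm
      · rw [mul_assoc, ← hyv, ← mul_assoc, ← (hu0P y hy).eq, mul_assoc]
    have hidx : P0.relIndex (P : Subgroup G) = 2 := by
      rw [relIndex, index_eq_two_iff]
      refine ⟨⟨x, hxP⟩, fun b => ?_⟩
      have hb : ∀ y ∈ (P : Subgroup G), y ∈ P0 → y * v * y⁻¹ = v := fun y _ h => by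
        rw [← mem_centralizer_iff.1 h.2 v hvU, mul_inv_cancel_right]
      have e : (b : G) * x * v * ((b : G) * x)⁻¹ = u0 * ((b : G) * v * (b : G)⁻¹) := by
        calc _ = (b : G) * (x * v * x⁻¹) * (b : G)⁻¹ := by group
          _ = ((b : G) * u0) * v * (b : G)⁻¹ := by rw [hxv]; group
          _ = _ := by rw [(hu0P b b.2).eq]; group
      rcases hmove b b.2 with hbv | hbv
      · refine Or.inr ⟨hP0 b b.2 hbv, fun hbx => ?_⟩
        have h1 := hb _ (mul_mem b.2 hxP) hbx
        rw [e, hbv] at h1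
        exact hu01 (mul_eq_right.1 h1)
      · refine Or.inl ⟨hP0 _ (mul_mem b.2 hxP) ?_, fun hb0 => ?_⟩
        · show (b : G) * x * v * ((b : G) * x)⁻¹ = v
          rw [e, hbv, ← mul_assoc, hU2 u0 hu0U, one_mul]
        · rw [hb _ b.2 hb0] at hbv
          exact hu01 (mul_eq_right.1 hbv.symm)
    have hPcard : Nat.card ↥(P : Subgroup G) = 2 * Nat.card ↥P0 := by
      have := relIndex_mul_relIndex ⊥ P0 (P : Subgroup G) bot_le inf_le_left
      rw [relIndex_bot_left, relIndex_bot_left, hidx] at this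
      omega
    have hSidx : P0.relIndex (S : Subgroup G) = 2 := by
      have := relIndex_mul_relIndex ⊥ P0 (S : Subgroup G) bot_le hP0S
      rw [relIndex_bot_left, relIndex_bot_left, hcard, hPcard, mul_comm 2] at this
      exact Nat.eq_of_mul_eq_mul_left Nat.card_pos this
    have hS0 : (S : Subgroup G) ≤ normalizer (P0 : Set G) :=
      (normal_subgroupOf_iff_le_normalizer hP0S).1 (normal_of_index_eq_two hSidx)
    -- `U` is the set of involutions of the centre of `P0`
    have hE : ∀ e ∈ P0, (∀ y ∈ P0, Commute y e) → e * e = 1 → e ∈ U := by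
      have hcen : IsCyclic ↥((P : Subgroup G) ⊓ centralizer ((P : Subgroup G) : Set G)) := by
        by_contra hnc
        exact hvx (by rw [mem_centralizer_iff.1 (hUZ hnc hvU) x hxP, mul_inv_cancel_right])
      intro e he hec he2
      have hsplit : ∀ y ∈ (P : Subgroup G), y ∈ P0 ∨ y * x ∈ P0 := by
        intro y hy
        rcases hmove y hy with h | h
        · exact Or.inl (hP0 y hy h)
        · refine Or.inr (hP0 _ (mul_mem hy hxP) ?_)
          calc y * x * v * (y * x)⁻¹ = y * (x * v * x⁻¹) * y⁻¹ := by group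
            _ = (y * u0) * v * y⁻¹ := by rw [hxv]; group
            _ = u0 * (y * v * y⁻¹) := by rw [(hu0P y hy).eq]; group
            _ = v := by rw [h, ← mul_assoc, hU2 u0 hu0U, one_mul]
      have hone : ∀ f ∈ P0, (∀ y ∈ P0, Commute y f) → f * f = 1 → Commute x f →
          f = 1 ∨ f = u0 := by
        intro f hf hfc hf2 hfx
        have hfP : ∀ y ∈ (P : Subgroup G), Commute y f := by
          intro y hy
          rcases hsplit y hy with h | h
          · exact hfc y h
          · simpa using (hfc _ h).mul_left hfx.inv_left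
        set Z := (P : Subgroup G) ⊓ centralizer ((P : Subgroup G) : Set G)
        have hfZ : f ∈ Z := ⟨hf.1, mem_centralizer_iff.2 fun y hy => (hfP y hy).eq⟩
        have huZ : u0 ∈ Z := ⟨hUP hu0U, mem_centralizer_iff.2 fun y hy => (hu0P y hy).eq⟩
        by_contra hne
        push Not at hne
        haveI := hcen
        haveI := Fintype.ofFinite ↥Z
        classical
        have h3 := IsCyclic.card_pow_eq_one_le (α := ↥Z) two_pos
        have hsub : ({1, ⟨u0, huZ⟩, ⟨f, hfZ⟩} : Finset ↥Z) ⊆ Finset.univ.filter fun a => a ^ 2 = 1 := by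
          intro a ha
          simp only [Finset.mem_insert, Finset.mem_singleton] at ha
          simp only [Finset.mem_filter, Finset.mem_univ, true_and, pow_two]
          rcases ha with rfl | rfl | rfl
          · exact one_mul 1
          · exact Subtype.ext (hU2 u0 hu0U)
          · exact Subtype.ext hf2
        have := (Finset.card_le_card hsub).trans h3
        rw [Finset.card_eq_three.2 ⟨_, _, _, fun h => hu01 (congrArg Subtype.val h).symm,
          fun h => hne.1 (congrArg Subtype.val h).symm,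
          fun h => hne.2 (congrArg Subtype.val h).symm, rfl⟩] at this
        omega
      set c := x * e * x⁻¹ * e⁻¹ with hc
      have hxP0 : ∀ y ∈ P0, x * y * x⁻¹ ∈ P0 := fun y hy => by
        refine hP0 _ (mul_mem (mul_mem hxP hy.1) (inv_mem hxP)) ?_
        have h1 : y * (x⁻¹ * v * x) * y⁻¹ = x⁻¹ * v * x := by
          have := (mem_normalizer_iff.1 (hUn (inv_mem hxP)) v).1 hvU
          rw [inv_inv] at this
          rw [← mem_centralizer_iff.1 hy.2 _ this, mul_inv_cancel_right]
        calc x * y * x⁻¹ * v * (x * y * x⁻¹)⁻¹ = x * (y * (x⁻¹ * v * x) * y⁻¹) * x⁻¹ := by group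
          _ = v := by rw [h1]; group
      have hx2 : x * x ∈ P0 := by
        refine hP0 _ (mul_mem hxP hxP) ?_
        calc x * x * v * (x * x)⁻¹ = x * (x * v * x⁻¹) * x⁻¹ := by group
          _ = (x * u0) * v * x⁻¹ := by rw [hxv]; group
          _ = u0 * (x * v * x⁻¹) := by rw [(hu0P x hxP).eq]; group
          _ = v := by rw [hxv, ← mul_assoc, hU2 u0 hu0U, one_mul]
      have hxe : ∀ y ∈ P0, Commute y (x * e * x⁻¹) := by
        intro y hy
        have h1 : x⁻¹ * y * x ∈ P0 := by
          have h2 := mul_mem (mul_mem (inv_mem hx2) (hxP0 y hy)) hx2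
          convert h2 using 1
          group
        show y * (x * e * x⁻¹) = x * e * x⁻¹ * y
        calc y * (x * e * x⁻¹) = x * ((x⁻¹ * y * x) * e) * x⁻¹ := by group
          _ = x * (e * (x⁻¹ * y * x)) * x⁻¹ := by rw [(hec _ h1).eq]
          _ = x * e * x⁻¹ * y := by group
      have hei : e⁻¹ = e := inv_eq_of_mul_eq_one_right he2
      have hcc : c * c = 1 := by
        have h1 : (x * e * x⁻¹) * e = e * (x * e * x⁻¹) := ((hxe e he).eq).symm
        calc c * c = (x * e * x⁻¹) * (e * (x * e * x⁻¹)) * e := by rw [hc, hei]; group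
          _ = x * (e * e) * x⁻¹ * (e * e) := by rw [← h1]; group
          _ = 1 := by rw [he2]; group
      have hcx : Commute x c := by
        have h2 := (hec _ hx2).eq
        show x * c = c * x
        calc x * c = (x * x * e) * x⁻¹ * e⁻¹ := by rw [hc]; group
          _ = (e * (x * x)) * x⁻¹ * e⁻¹ := by rw [h2]
          _ = (x * e * x⁻¹ * e⁻¹) ⁻¹ * x := by group
          _ = c * x := by rw [← hc, inv_eq_of_mul_eq_one_right hcc]
      have hcU : c = 1 ∨ c = u0 := hone c (mul_mem (hxP0 e he) (inv_mem he))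
        (fun y hy => (hxe y hy).mul_right (hec y hy).inv_right) hcc hcx
      rcases hcU with h | h
      · rcases hone e he hec he2 (mul_inv_eq_iff_eq_mul.1 (mul_inv_eq_one.1 h)) with rfl | rfl
        exacts [one_mem U, hu0U]
      · have hv0 : v ∈ P0 := ⟨hUP hvU, mem_centralizer_iff.2 fun z hz => hUc z hz v hvU⟩
        have hvc : ∀ y ∈ P0, Commute y v := fun y hy => (mem_centralizer_iff.1 hy.2 v hvU).symm
        have hev : (e * v) * (e * v) = 1 := by
          calc (e * v) * (e * v) = e * (v * e) * v := by group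
            _ = (e * e) * (v * v) := by rw [← (hvc e he).eq]; group
            _ = 1 := by rw [he2, hU2 v hvU, one_mul]
        have hxev : Commute x (e * v) := by
          refine mul_inv_eq_iff_eq_mul.1 ?_
          calc x * (e * v) * x⁻¹ = c * e * (x * v * x⁻¹) := by rw [hc]; group
            _ = (u0 * e) * (u0 * v) := by rw [h, hxv]
            _ = e * (u0 * u0) * v := by rw [(hec u0 ⟨hUP hu0U, mem_centralizer_iff.2
                fun z hz => hUc z hz u0 hu0U⟩).eq]; group
            _ = e * v := by rw [hU2 u0 hu0U, mul_one]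
        have hmem : e * v ∈ U := by
          rcases hone _ (mul_mem he hv0) (fun y hy => (hec y hy).mul_right (hvc y hy)) hev hxev with h' | h'
          · rw [h']; exact one_mem U
          · rw [h']; exact hu0U
        simpa [mul_assoc, hU2 v hvU] using mul_mem hmem hvU
    have hqn : q * u * q⁻¹ ∈ U := by
      have hu0 : ∀ y ∈ P0, Commute y u := fun y hy => (mem_centralizer_iff.1 hy.2 u hu).symm
      have hn := mem_normalizer_iff.1 (hS0 hqS)
      refine hE _ ((hn u).1 ⟨hUP hu, mem_centralizer_iff.2 fun z hz => hUc z hz u hu⟩) (fun y hy => ?_) ?_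
      · have h1 : q⁻¹ * y * q ∈ P0 := by
          rw [hn]; simpa [mul_assoc] using hy
        show y * (q * u * q⁻¹) = q * u * q⁻¹ * y
        calc y * (q * u * q⁻¹) = q * ((q⁻¹ * y * q) * u) * q⁻¹ := by group
          _ = q * (u * (q⁻¹ * y * q)) * q⁻¹ := by rw [(hu0 _ h1).eq]
          _ = _ := by group
      · calc q * u * q⁻¹ * (q * u * q⁻¹) = q * (u * u) * q⁻¹ := by group
          _ = 1 := by rw [hU2 u hu]; group
    have hqw : q * w * q⁻¹ = w := by
      rw [mem_centralizer_singleton_iff.1 (hMc hqM), mul_inv_cancel_right]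
    have e1 : ⁅u, q⁆ = u * (q * u * q⁻¹) := by
      rw [commutatorElement_def, show u⁻¹ = u from inv_eq_of_mul_eq_one_right (hU2 u hu)]; group
    rw [e1]
    rcases eq_or_ne u 1 with rfl | hu1
    · simp
    rcases eq_or_ne u w with rfl | huw
    · rw [hqw, hU2 u hu]; exact one_mem _
    rcases hcases w hwU hw1 u hu hu1 huw _ hqn with h | h | h | h
    · exact absurd (conj_eq_one_iff.1 h) hu1
    · exact absurd (mul_left_cancel (mul_right_cancel (h.trans hqw.symm))) huw
    · rw [h, hU2 u hu]; exact one_mem _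
    · rw [h, hUc w hwU u hu, ← mul_assoc, hU2 u hu, one_mul]; exact mem_zpowers w
  have hcop : (Nat.card ↥U).Coprime (Nat.card ↥K) := by
    rw [IsKleinFour.card_four, show 4 = 2 ^ 2 from rfl]
    exact (Nat.coprime_two_left.2 hK).pow_left 2
  have hle := CfsgLib.Solvable.le_of_centralizer_le (A := U) (W := K ⊓ centralizer (U : Set G))
    hUcyc hUK hcop main
  intro u hu
  exact mem_centralizer_iff.2 fun k hk => (mem_centralizer_iff.1 (hle hk).2 u hu).symm

end Cfsg.Agent.S1957
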