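import Cfsg.Statements.S1958
import Cfsg.Agent.Lib.PLocal.Locals
import Cfsg.Agent.Lib.Solvable.Core

set_option autoImplicit false
open Cfsg

namespace Cfsg.Agent.S1958

theorem centralizer_pCore_le_of_solvable {Y : Type*} [Group Y] [Finite Y] [Group.IsSolvable Y]
    {p : ℕ} [Fact p.Prime] (hO : Cfsg.pPrimeCore p Y = ⊥) :
    Subgroup.centralizer (Cfsg.pCore p Y : Set Y) ≤ Cfsg.pCore p Y := by
  have hF : Cfsg.fittingSubgroup Y = Cfsg.pCore p Y := by
    refine le_antisymm ?_ CfsgLib.Solvable.pCore_le_fittingSubgroup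
    rw [CfsgLib.Solvable.fittingSubgroup_eq_iSup_pCore]
    refine iSup_le fun q => ?_
    by_cases h : (q : ℕ) = p
    · rw [h]
    · haveI : Fact (q : ℕ).Prime := ⟨(Nat.mem_primeFactors.1 q.2).1⟩
      obtain ⟨k, hk⟩ := CfsgLib.Solvable.card_pCore (p := (q : ℕ)) (G := Y)
      have := CfsgLib.Solvable.le_pPrimeCore (p := p) (CfsgLib.Solvable.pCore_normal (q : ℕ) Y)
        (by rw [hk]; exact ((Nat.coprime_primes Fact.out Fact.out).2 h).pow_left k)
      rw [hO] at this
      exact this.trans bot_le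
  rw [← hF]
  exact CfsgLib.Solvable.centralizer_fittingSubgroup_le

theorem balance_le {G : Type*} [Group G] [Finite G] (p : ℕ) [Fact p.Prime] (x y : G)
    (hx : orderOf x = p) (hxy : x * y = y * x)
    (hCy : Group.IsSolvable ↥(Subgroup.centralizer ({y} : Set G))) :
    Cfsg.centralizerPPrimeCore p x ⊓ Subgroup.centralizer {y} ≤
      Cfsg.centralizerPPrimeCore p y := by
  set Y := Subgroup.centralizer ({y} : Set G)
  haveI := hCy
  haveI hOn : (Cfsg.pPrimeCore p Y).Normal := CfsgLib.Solvable.pPrimeCore_normal p Y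
  set π := QuotientGroup.mk' (Cfsg.pPrimeCore p Y) with hπ
  have hker : π.ker = Cfsg.pPrimeCore p Y := QuotientGroup.ker_mk' _
  have hcop : (Nat.card π.ker).Coprime p := by rw [hker]; exact CfsgLib.PLoc.pPrimeCore_coprime p
  haveI : Group.IsSolvable (↥Y ⧸ Cfsg.pPrimeCore p Y) :=
    Group.isSolvable_of_surjective (QuotientGroup.mk'_surjective _)
  have hc := centralizer_pCore_le_of_solvable (p := p)
    (CfsgLib.Solvable.pPrimeCore_quotient_eq_bot (G := Y) _ rfl)
  have hxY : x ∈ Y := Subgroup.mem_centralizer_singleton_iff.2 hxy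
  set P : Subgroup Y := Subgroup.zpowers ⟨x, hxY⟩ with hPdef
  have hP : IsPGroup p P := IsPGroup.of_card (n := 1) (by
    rw [Nat.card_zpowers, ← Subgroup.orderOf_coe, hx, pow_one])
  set L := Subgroup.centralizer (P : Set Y) with hL
  have hbot : Cfsg.pPrimeCore p ↥(L.map π) = ⊥ := by
    rw [hL, ← CfsgLib.PLoc.centralizer_map_eq (QuotientGroup.mk'_surjective _) hcop hP]
    exact CfsgLib.PLoc.pPrimeCore_local_eq_bot hc (hP.map π)
      (Subgroup.centralizer_le_normalizer _) le_rfl (Or.inr le_rfl)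
  rintro z ⟨⟨d, hd, rfl⟩, hdy⟩
  have hdL : (⟨(d : G), hdy⟩ : Y) ∈ L := by
    rw [hL, hPdef, Subgroup.mem_centralizer_iff]
    rintro w ⟨k, rfl⟩
    have h : Commute x (d : G) := (Subgroup.mem_centralizer_singleton_iff.1 d.2).symm
    exact Subtype.ext (h.zpow_left k).eq
  -- the preimage in `L` of the core of `C(x)`
  have hxd : ∀ w : L, ((w : Y) : G) ∈ Subgroup.centralizer ({x} : Set G) := by
    intro w
    refine Subgroup.mem_centralizer_singleton_iff.2 ?_
    exact (congrArg Subtype.val ((Subgroup.mem_centralizer_iff.1 w.2) ⟨x, hxY⟩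
      (Subgroup.mem_zpowers _))).symm
  let ι : L →* Subgroup.centralizer ({x} : Set G) :=
    { toFun := fun w => ⟨((w : Y) : G), hxd w⟩
      map_one' := rfl
      map_mul' := fun _ _ => rfl }
  haveI hxn := CfsgLib.Solvable.pPrimeCore_normal p (Subgroup.centralizer ({x} : Set G))
  set E := (Cfsg.pPrimeCore p ↥(Subgroup.centralizer ({x} : Set G))).comap ι with hE
  have hιinj : Function.Injective ι := fun a b h =>
    Subtype.ext (Subtype.ext (congrArg (fun u : Subgroup.centralizer ({x} : Set G) => (u : G)) h))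
  have hEcard : (Nat.card E).Coprime p :=
    (CfsgLib.PLoc.pPrimeCore_coprime p).coprime_dvd_left
      (Subgroup.card_dvd_of_injective (ι.subgroupComap _)
        (fun a b h => Subtype.ext (hιinj (congrArg Subtype.val h))))
  have hEle : E.map (π.subgroupMap L) ≤ Cfsg.pPrimeCore p ↥(L.map π) :=
    CfsgLib.PLoc.le_pPrimeCore_of (((inferInstance : E.Normal)).map _ (π.subgroupMap_surjective L))
      (hEcard.coprime_dvd_left (Subgroup.card_map_dvd _ _))
  rw [hbot] at hEle
  have h1 : π (⟨(d : G), hdy⟩ : Y) = 1 :=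
    congrArg Subtype.val (hEle ⟨⟨_, hdL⟩, (by exact hd), rfl⟩)
  exact ⟨⟨(d : G), hdy⟩, (QuotientGroup.eq_one_iff _).1 h1, rfl⟩

/-- Let `G` be a finite group, `p` a prime, and `x, y` commuting elements of order `p` whose centralizers `C_G(x)` and `C_G(y)` are both solvable. Then `O_{p'}(C_G(x)) ∩ C_G(y) = O_{p'}(C_G(y)) ∩ C_G(x)` (balance). -/
theorem result {G : Type*} [Group G] [Finite G]
    (p : ℕ) [Fact p.Prime] (x y : G) (hx : orderOf x = p) (hy : orderOf y = p) (hxy : x * y = y * x)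
    (hCx : Group.IsSolvable ↥(Subgroup.centralizer ({x} : Set G))) (hCy : Group.IsSolvable ↥(Subgroup.centralizer ({y} : Set G))) :
    Cfsg.centralizerPPrimeCore p x ⊓ Subgroup.centralizer {y} = Cfsg.centralizerPPrimeCore p y ⊓ Subgroup.centralizer {x} := by
  refine le_antisymm (le_inf (balance_le p x y hx hxy hCy) ?_)
    (le_inf (balance_le p y x hy hxy.symm hCx) ?_) <;>
  · rintro z ⟨hz, -⟩
    obtain ⟨w, -, rfl⟩ := hz
    exact w.2

end Cfsg.Agent.S1958
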