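import Cfsg.Statements.S1966
import Cfsg.Agent.Lib.ConjFunctor.Alperin

set_option autoImplicit false
open Cfsg

namespace Cfsg.Agent.S1966

/-- Let p be a prime, G a finite group with Sylow p-subgroup S and 𝓕 a conjugation family for S in G. Then the members of 𝓕 containing O_p(G) still form a conjugation family for S in G. -/
theorem result {G : Type*} [Group G] [Finite G] {p : ℕ} [Fact p.Prime] (S : Sylow p G) (𝓕 : Set (Subgroup G)) (h : Cfsg.IsConjugationFamily 𝓕 (S : Subgroup G)) : Cfsg.IsConjugationFamily {T : Subgroup G | T ∈ 𝓕 ∧ Cfsg.pCore p G ≤ T} (S : Subgroup G) := by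
  refine ⟨fun T hT => h.1 T hT.1, fun A g hne hA hg => ?_⟩
  have hQ : Cfsg.pCore p G ≤ (S : Subgroup G) :=
    sSup_le fun N hN => by haveI := hN.1; exact hN.2.le_sylow_of_normal S
  have hQn : (Cfsg.pCore p G).Normal := Subgroup.sSup_normal _ (fun _ hN => hN.1)
  obtain ⟨n, T, x, hprod, hT, hx, h0, hnext⟩ := h.2 (A ∪ Cfsg.pCore p G) g
    (hne.mono Set.subset_union_left) (Set.union_subset hA (SetLike.coe_subset_coe.2 hQ))
    (by
      rw [Set.image_union]
      refine Set.union_subset hg ?_
      rintro _ ⟨a, ha, rfl⟩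
      exact hQ (by simpa using hQn.conj_mem a ha g⁻¹))
  refine ⟨n, T, x, hprod, fun i => ⟨hT i, ?_⟩, hx,
    fun hn => Set.subset_union_left.trans (h0 hn),
    fun i hi => (Set.image_mono Set.subset_union_left).trans (hnext i hi)⟩
  rcases i with ⟨i, hi⟩
  cases i with
  | zero => exact fun a ha => h0 hi (Or.inr ha)
  | succ j =>
    intro a ha
    have hy := hnext ⟨j, by omega⟩ hi
    set y := ((List.ofFn x).take (j + 1)).prod
    have := hy ⟨y * a * y⁻¹, Or.inr (hQn.conj_mem a ha y), rfl⟩
    simpa [mul_assoc] using this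

end Cfsg.Agent.S1966
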