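import Cfsg.Statements.S1967
import Cfsg.Agent.Lib.ConjFunctor.Fusion

set_option autoImplicit false
open Cfsg

namespace Cfsg.Agent.S1967

/-- Let p be a prime, G a finite group with Sylow p-subgroup S and W a conjugacy functor for p on G. Then W controls strong fusion in G if and only if, whenever T ≤ S and g ∈ G satisfy gTg⁻¹ ≤ S, one can write g = n c with n ∈ N_G(W(S)) and c ∈ C_G(T). -/
theorem result {G : Type*} [Group G] [Finite G] {p : ℕ} [Fact p.Prime] (S : Sylow p G) (W : Subgroup G → Subgroup G) (hW : Cfsg.IsConjugacyFunctor p W) : Cfsg.ControlsStrongFusionIn p W ⊤ ↔ ∀ (T : Subgroup G) (g : G), T ≤ (S : Subgroup G) → T.map (MulAut.conj g).toMonoidHom ≤ (S : Subgroup G) → ∃ n ∈ Subgroup.normalizer ((W (S : Subgroup G) : Subgroup G) : Set G), ∃ c ∈ Subgroup.centralizer (T : Set G), g = n * c := by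
  constructor
  · intro h T g hT hg
    obtain ⟨y, hy, hag⟩ := CfsgLib.ConjFunctor.agree_of_controls hW h
      (CfsgLib.ConjFunctor.isSyl_top S) (Subgroup.mem_top g) hT hg
    refine ⟨y, hy.2, y⁻¹ * g, fun a ha => ?_, by simp⟩
    have := congrArg (fun b => y⁻¹ * b * g) (hag a ha)
    simpa [mul_assoc] using this
  · intro h
    refine CfsgLib.ConjFunctor.controls_of_agree (CfsgLib.ConjFunctor.isSyl_top S) ?_
    intro D x _ hD hx
    obtain ⟨n, hn, c, hc, rfl⟩ := h D x hD hx
    refine ⟨n, ⟨Subgroup.mem_top n, hn⟩, fun a ha => ?_⟩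
    have hca : c * a * c⁻¹ = a := by rw [← hc a ha, mul_inv_cancel_right]
    calc n * a * n⁻¹ = n * (c * a * c⁻¹) * n⁻¹ := by rw [hca]
      _ = n * c * a * (n * c)⁻¹ := by simp [mul_assoc]

end Cfsg.Agent.S1967
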