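import Cfsg.Statements.S1968
import Cfsg.Agent.Lib.ConjFunctor.Reach

set_option autoImplicit false
open Cfsg

namespace Cfsg.Agent.S1968

/-- Let p be a prime, G a finite group with Sylow p-subgroup S and W a conjugacy functor for p on G with Z(P) ≤ W(P) for every p-subgroup P. Let A be a subgroup of Z(S) normalized by N_G(W(S)) that is not weakly closed in S with respect to G. Then there is a subgroup T of S, well placed in S with respect to W, such that: A ≤ T; N_G(W(N_S(T))) normalizes A; N_S(T) is a Sylow p-subgroup of N_G(T); A ≤ Z(N_S(T)); and A is not weakly closed in N_S(T) with respect to N_G(T), that is, some N_G(T)-conjugate of A other than A lies in N_S(T). -/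
theorem result {G : Type*} [Group G] [Finite G] {p : ℕ} [Fact p.Prime] (S : Sylow p G) (W : Subgroup G → Subgroup G) (hW : Cfsg.IsConjugacyFunctor p W) (hWZ : ∀ P : Subgroup G, IsPGroup p ↥P → P ⊓ Subgroup.centralizer (P : Set G) ≤ W P) (A : Subgroup G) (hAZ : A ≤ (S : Subgroup G) ⊓ Subgroup.centralizer ((S : Subgroup G) : Set G)) (hAN : Subgroup.normalizer ((W (S : Subgroup G) : Subgroup G) : Set G) ≤ Subgroup.normalizer ((A : Subgroup G) : Set G)) (hnwc : ¬ Cfsg.IsWeaklyClosed A (S : Subgroup G)) : ∃ T : Subgroup G, Cfsg.IsWellPlaced p W (S : Subgroup G) T ∧ A ≤ T ∧ Subgroup.normalizer ((W ((S : Subgroup G) ⊓ Subgroup.normalizer ((T : Subgroup G) : Set G)) : Subgroup G) : Set G) ≤ Subgroup.normalizer ((A : Subgroup G) : Set G) ∧ ¬ p ∣ ((S : Subgroup G) ⊓ Subgroup.normalizer ((T : Subgroup G) : Set G)).relIndex (Subgroup.normalizer ((T : Subgroup G) : Set G)) ∧ A ≤ Subgroup.centralizer (((S : Subgroup G) ⊓ Subgroup.normalizer ((T : Subgroup G) : Set G) : Subgroup G) : Set G) ∧ ∃ g ∈ Subgroup.normalizer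 ((T : Subgroup G) : Set G), A.map (MulAut.conj g).toMonoidHom ≤ (S : Subgroup G) ⊓ Subgroup.normalizer ((T : Subgroup G) : Set G) ∧ A.map (MulAut.conj g).toMonoidHom ≠ A := by
  open CfsgLib.ConjFunctor in
  have hS := S.isPGroup'
  have hA : ¬ ∀ g : G, cj g A ≤ (S : Subgroup G) → cj g A = A := fun h =>
    hnwc ⟨hAZ.trans inf_le_left, h⟩
  have hA₀ : A ≤ (S : Subgroup G) := hAZ.trans inf_le_left
  have hclimb : ∀ (k : ℕ) (T : Subgroup G),
      Nat.card G - Nat.card ↥((S : Subgroup G) ⊓ Subgroup.normalizer (T : Set G)) ≤ k →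
      Cfsg.IsWellPlaced p W (S : Subgroup G) T → A ≤ T →
      (∃ g ∈ Subgroup.normalizer (T : Set G),
        cj g A ≤ (S : Subgroup G) ⊓ Subgroup.normalizer (T : Set G) ∧ cj g A ≠ A) →
      ∃ U : Subgroup G, Cfsg.IsWellPlaced p W (S : Subgroup G) U ∧ A ≤ U ∧
        Subgroup.normalizer ((W ((S : Subgroup G) ⊓ Subgroup.normalizer (U : Set G)) : Subgroup G) : Set G)
          ≤ Subgroup.normalizer (A : Set G) ∧
        ∃ g ∈ Subgroup.normalizer (U : Set G),
          cj g A ≤ (S : Subgroup G) ⊓ Subgroup.normalizer (U : Set G) ∧ cj g A ≠ A := by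
    intro k
    induction k using Nat.strong_induction_on with
    | _ k ih =>
      intro T hk hT hAT hg
      by_cases hN : Subgroup.normalizer
          ((W ((S : Subgroup G) ⊓ Subgroup.normalizer (T : Set G)) : Subgroup G) : Set G) ≤
          Subgroup.normalizer (A : Set G)
      · exact ⟨T, hT, hAT, hN, hg⟩
      rcases eq_or_lt_of_le (inf_le_left :
        (S : Subgroup G) ⊓ Subgroup.normalizer (T : Set G) ≤ S) with heq | hlt
      · exact absurd (heq.symm ▸ hAN) hN
      have hlt' := inf_normalizer_lt_functor hW hS hlt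
      have hR : IsPGroup p ↥((S : Subgroup G) ⊓ Subgroup.normalizer (T : Set G)) :=
        hS.to_le inf_le_left
      have hAW : A ≤ W ((S : Subgroup G) ⊓ Subgroup.normalizer (T : Set G)) :=
        le_trans (le_inf (hAT.trans (le_inf hT.1 Subgroup.le_normalizer))
          (hAZ.trans (inf_le_right.trans (Subgroup.centralizer_le inf_le_left)))) (hWZ _ hR)
      obtain ⟨g, hgW, hgA⟩ := SetLike.not_le_iff_exists.1 hN
      have hcard := (Subgroup.card_le_of_le hlt'.le).lt_of_ne fun h =>
        hlt'.ne (Subgroup.eq_of_le_of_card_ge hlt'.le h.ge)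
      have hG := Subgroup.card_le_card_group ((S : Subgroup G) ⊓ Subgroup.normalizer
        ((W ((S : Subgroup G) ⊓ Subgroup.normalizer (T : Set G)) : Subgroup G) : Set G))
      have hU1 : Cfsg.IsWellPlaced p W (S : Subgroup G)
          (W ((S : Subgroup G) ⊓ Subgroup.normalizer (T : Set G))) := IsWellPlaced.tower hW hS hT 1
      exact ih (Nat.card G - Nat.card ↥((S : Subgroup G) ⊓ Subgroup.normalizer
        ((W ((S : Subgroup G) ⊓ Subgroup.normalizer (T : Set G)) : Subgroup G) : Set G))) (by omega) _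
        le_rfl hU1 hAW
        ⟨g, hgW, ((cj_mono hAW).trans (cj_eq_self_iff.2 hgW).le).trans
          (le_inf (tower_le hW hS hT.1 1) Subgroup.le_normalizer),
          fun h => hgA (cj_eq_self_iff.1 h)⟩
  by_contra hcon
  refine hA fun g hg => ?_
  have hreach := reach_of_reps S _ (exists_rep_wellPlaced S hW) A g hA₀ hg
  suffices h : ∀ (D : Subgroup G) (x : G),
      Reach (S : Subgroup G) (familyOk {U | Cfsg.IsWellPlaced p W (S : Subgroup G) U}) D x →
      D = A → cj x A = A from h A g hreach rfl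
  intro D x hr
  induction hr with
  | refl _ => exact fun _ => cj_one A
  | @step D y z hy hD _ ih =>
    rintro rfl
    obtain ⟨U, hU, hDU, hyU⟩ := hy
    by_cases hyD : cj y D = D
    · rw [cj_mul, hyD]; exact ih hyD
    exfalso
    obtain ⟨V, hV, hDV, hVN, a, ha, hle, hne⟩ := hclimb _ U le_rfl hU hDU
      ⟨y, hyU, ((cj_mono hDU).trans (cj_eq_self_iff.2 hyU).le).trans
        (le_inf hU.1 Subgroup.le_normalizer), hyD⟩
    exact hcon ⟨V, hV, hDV, hVN, hV.2 0,
      hAZ.trans (inf_le_right.trans (Subgroup.centralizer_le inf_le_left)), a, ha, hle, hne⟩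

end Cfsg.Agent.S1968
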