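import Cfsg.Statements.S1969
import Cfsg.Agent.Lib.ConjFunctor.FusionMain

set_option autoImplicit false
universe u
open Cfsg

namespace Cfsg.Agent.S1969

/-- Let p be a prime, G a finite group and W an isomorphism-invariant p-group functor (W assigns to every group Q a subgroup W(Q), nontrivial whenever Q is a nontrivial finite p-group, and every isomorphism from a finite p-group Q onto a group R carries W(Q) onto W(R)). Suppose that W(S*) is normal in G* whenever G* = K/R is a section of G with C_{G*}(O_p(G*)) ≤ O_p(G*) and S* is a Sylow p-subgroup of G*. Then W controls strong fusion in every section of G: for every section K/R and every Sylow p-subgroup T of K/R, the subgroup W(T) controls strong fusion in K/R. -/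
theorem result {G : Type u} [Group G] [Finite G] {p : ℕ} [Fact p.Prime] (W : ∀ (Q : Type u) [Group Q], Subgroup Q) (hW : Cfsg.IsCharPFunctor.{u} p W) (hloc : ∀ (K R : Subgroup G) [hR : (R.subgroupOf K).Normal], Subgroup.centralizer ((Cfsg.pCore p (↥K ⧸ R.subgroupOf K) : Subgroup (↥K ⧸ R.subgroupOf K)) : Set (↥K ⧸ R.subgroupOf K)) ≤ Cfsg.pCore p (↥K ⧸ R.subgroupOf K) → ∀ T : Sylow p (↥K ⧸ R.subgroupOf K), (Cfsg.inducedFunctor (G := (↥K ⧸ R.subgroupOf K)) W ((T : Subgroup (↥K ⧸ R.subgroupOf K)))).Normal) : ∀ (K R : Subgroup G) [hR : (R.subgroupOf K).Normal], ∀ T : Sylow p (↥K ⧸ R.subgroupOf K), Cfsg.ControlsStrongFusion p (Cfsg.inducedFunctor (G := (↥K ⧸ R.subgroupOf K)) W ((T : Subgroup (↥K ⧸ R.subgroupOf K)))) := by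
  intro K R hR T
  refine CfsgLib.ConjFunctor.controlsStrongFusion_of_fused T ?_
  refine CfsgLib.ConjFunctor.fusion_reduce (G := G) (fun V hV => ?_)
    (fun H _ _ hsec => CfsgLib.ConjFunctor.fusionInput_of_normal (W := W) ?_ H (fun hcon S => ?_)) _
    (CfsgLib.ConjFunctor.isSec_quot K R) T
  · rw [Set.mem_singleton_iff] at hV; rw [hV]; exact hW
  · exact rfl
  · obtain ⟨K', R', hR', ⟨e⟩⟩ := CfsgLib.ConjFunctor.IsSec.exists_equiv hsec
    haveI := hR'
    obtain ⟨T', hT'⟩ := CfsgLib.ConjFunctor.exists_sylow_equiv e S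
    rw [← hT', ← CfsgLib.ConjFunctor.map_inducedFunctor_equiv hW e _ T'.isPGroup']
    exact (hloc K' R' (CfsgLib.ConjFunctor.constrained_equiv e.symm hcon) T').map _ e.surjective

end Cfsg.Agent.S1969
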