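import Cfsg.Statements.S1970
import Cfsg.Agent.Lib.ConjFunctor.TransferMain

set_option autoImplicit false
universe u
open Cfsg

namespace Cfsg.Agent.S1970

/-- Let p be a prime, G a finite group and W an isomorphism-invariant p-group functor (W assigns to every group Q a subgroup W(Q), nontrivial whenever Q is a nontrivial finite p-group, and every isomorphism from a finite p-group Q onto a group R carries W(Q) onto W(R)). Suppose that for every section G* = K/R of G with C_{G*}(O_p(G*)) ≤ O_p(G*) and every Sylow p-subgroup S* of G*, one has O_p(G*) ∩ (G*)' = O_p(G*) ∩ (N_{G*}(W(S*)))'. Then W controls transfer in every section G* of G: S* ∩ (G*)' = S* ∩ (N_{G*}(W(S*)))' for a Sylow p-subgroup S* of G*. -/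
theorem result {G : Type u} [Group G] [Finite G] {p : ℕ} [Fact p.Prime] (W : ∀ (Q : Type u) [Group Q], Subgroup Q) (hW : Cfsg.IsCharPFunctor.{u} p W) (hloc : ∀ (K R : Subgroup G) [hR : (R.subgroupOf K).Normal], Subgroup.centralizer ((Cfsg.pCore p (↥K ⧸ R.subgroupOf K) : Subgroup (↥K ⧸ R.subgroupOf K)) : Set (↥K ⧸ R.subgroupOf K)) ≤ Cfsg.pCore p (↥K ⧸ R.subgroupOf K) → ∀ T : Sylow p (↥K ⧸ R.subgroupOf K), Cfsg.pCore p (↥K ⧸ R.subgroupOf K) ⊓ commutator (↥K ⧸ R.subgroupOf K) = Cfsg.pCore p (↥K ⧸ R.subgroupOf K) ⊓ ⁅Subgroup.normalizer ((Cfsg.inducedFunctor (G := (↥K ⧸ R.subgroupOf K)) W ((T : Subgroup (↥K ⧸ R.subgroupOf K))) : Subgroup (↥K ⧸ R.subgroupOf K)) : Set (↥K ⧸ R.subgroupOf K)), Subgroup.normalizer ((Cfsg.inducedFunctor (G := (↥K ⧸ R.subgroupOf K)) W ((T : Subgroup (↥K ⧸ R.subgroupOf K))) : Subgroup (↥K ⧸ R.subgroupOf K)) : Set (↥K ⧸ R.subgroupOf K))⁆) : ∀ (K R : Subgroup G) [hR : (R.subgroupOf K).Normal], Cfsg.ControlsTransferIn p (Cfsg.inducedFunctor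 (G := (↥K ⧸ R.subgroupOf K)) W) ⊤ := by
  intro K R hR
  refine (CfsgLib.ConjFunctor.controlsTransfer_sections (G := G) hW (fun H _ _ hsec hcon S _ => ?_) _
    (CfsgLib.ConjFunctor.isSec_quot K R) default).1
  obtain ⟨K', R', hR', ⟨e⟩⟩ := CfsgLib.ConjFunctor.IsSec.exists_equiv hsec
  haveI := hR'
  obtain ⟨T, hT⟩ := CfsgLib.ConjFunctor.exists_sylow_equiv e S
  have heq := hloc K' R' (CfsgLib.ConjFunctor.constrained_equiv e.symm hcon) T
  have h1 := congrArg (Subgroup.map e.toMonoidHom) heq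
  rw [Subgroup.map_inf _ _ _ e.injective, Subgroup.map_inf _ _ _ e.injective,
    CfsgLib.Solvable.map_pCore_mulEquiv (p := p) e, commutator_def, Subgroup.map_commutator,
    Subgroup.map_commutator, Subgroup.map_top_of_surjective _ e.surjective, ← commutator_def,
    CfsgLib.ConjFunctor.map_normalizer_equiv,
    CfsgLib.ConjFunctor.map_inducedFunctor_equiv hW e _ T.isPGroup', hT] at h1
  rw [h1, CfsgLib.ConjFunctor.tgt_singleton]
  exact inf_le_inf_right _ (CfsgLib.Solvable.pCore_le_sylow S)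

end Cfsg.Agent.S1970
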