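import Cfsg.Statements.S1983
import Cfsg.Agent.Lib.KInf.Critical

set_option autoImplicit false
universe u
open Cfsg
open scoped commutatorElement

namespace Cfsg.Agent.S1983

/-- Let p be a prime, G a finite group with Sylow p-subgroup S and T = O_p(G). Suppose that the lower or the upper K-infinity subgroup of S is not normal in G. Then there is an element g of S outside T such that [X, g, g, g, g] ≤ Y for every chief factor X/Y of G with X ≤ T, and [Z(T), g, g] = 1; and if moreover C_G(T) ≤ T then some quotient group of G is not p-stable (in the normalizer form: some quadratically acting element of a normalizer fails to map into O_p of the automizer). -/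
theorem result {G : Type u} [Group G] [Finite G] {p : ℕ} [Fact p.Prime] (S : Sylow p G) (hK : ¬ (Cfsg.inducedFunctor Cfsg.kInfLower (S : Subgroup G)).Normal ∨ ¬ (Cfsg.inducedFunctor Cfsg.kInfUpper (S : Subgroup G)).Normal) : ∃ g : G, g ∈ (S : Subgroup G) ∧ g ∉ (Cfsg.pCore p G) ∧ (∀ U V : Subgroup G, Cfsg.IsChiefFactor U V → U ≤ (Cfsg.pCore p G) → Cfsg.iterCommutator U (Subgroup.zpowers g) 4 ≤ V) ∧ ⁅⁅((Cfsg.pCore p G) ⊓ Subgroup.centralizer (((Cfsg.pCore p G) : Subgroup G) : Set G)), (Subgroup.zpowers g)⁆, (Subgroup.zpowers g)⁆ = ⊥ ∧ (Subgroup.centralizer (((Cfsg.pCore p G) : Subgroup G) : Set G) ≤ (Cfsg.pCore p G) → ∃ (N : Subgroup G) (_ : N.Normal), ¬ Cfsg.IsNormalizerPStable p (G ⧸ N)) := by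
  obtain ⟨g, hgS, hgT, h4, hq, hfac⟩ := CfsgLib.KInf.exists_engel_element S hK
  refine ⟨g, hgS, hgT, h4, hq, fun hC => ?_⟩
  obtain ⟨U, V, hc, hUT, hquad, hne⟩ := hfac hC
  haveI := hc.2.1
  haveI := hc.2.2.1
  refine ⟨V, hc.2.2.1, fun hstab => hne ?_⟩
  set f := QuotientGroup.mk' V
  set P := U.map f
  haveI hPn : P.Normal := Subgroup.Normal.map ‹_› _ (QuotientGroup.mk'_surjective V)
  have hPp : IsPGroup p ↥P := ((CfsgLib.Solvable.pCore_isPGroup p G).to_le hUT).map f
  have hN : ∀ x : G, f x ∈ Subgroup.normalizer (P : Set (G ⧸ V)) := fun x => by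
    rw [Subgroup.normalizer_eq_top]; exact Subgroup.mem_top _
  have hmem := hstab P hPp (f g) (hN g) (by
    rw [← MonoidHom.map_zpowers, ← Subgroup.map_commutator, ← Subgroup.map_commutator,
      Subgroup.map_eq_bot_iff, QuotientGroup.ker_mk']
    exact hquad)
  let θ : G →* (↥(Subgroup.normalizer (P : Set (G ⧸ V))) ⧸
      (Subgroup.centralizer (P : Set (G ⧸ V))).subgroupOf (Subgroup.normalizer (P : Set (G ⧸ V)))) :=
    (QuotientGroup.mk' _).comp (f.codRestrict _ hN)
  let D : Subgroup G := (Cfsg.pCore p _).comap θ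
  have hD : D.Normal := (CfsgLib.Solvable.pCore_normal p _).comap θ
  have hpw : ∀ x ∈ D, ∃ k : ℕ, ∀ u ∈ U, ⁅u, x ^ p ^ k⁆ ∈ V := by
    intro x hx
    obtain ⟨k, hk⟩ := CfsgLib.Solvable.pCore_isPGroup p _ ⟨θ x, hx⟩
    have h1 : θ (x ^ p ^ k) = 1 := by
      rw [map_pow]; exact congrArg Subtype.val hk
    have h2 := (QuotientGroup.eq_one_iff _).1 h1
    refine ⟨k, fun u hu => ?_⟩
    rw [← QuotientGroup.eq_one_iff, ← QuotientGroup.mk'_apply, map_commutatorElement,
      commutatorElement_eq_one_iff_mul_comm]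
    exact Subgroup.mem_centralizer_iff.1 h2 _ ⟨u, hu, rfl⟩
  have hgD : g ∈ D := hmem
  have hk := CfsgLib.ConjFunctor.le_sectionKernel_of_pow_mem hUT hc hD hpw g hgD
  rw [CfsgLib.ConjFunctor.commutator_le_iff_le_sectionKernel, Subgroup.zpowers_le,
    CfsgLib.ConjFunctor.mem_sectionKernel]
  exact hk

end Cfsg.Agent.S1983
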