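import Cfsg.Statements.S1988
import Cfsg.Agent.Lib.ConjFunctor.LocalComplement
import Cfsg.Agent.Lib.ConjFunctor.NiceAction
import Cfsg.Agent.Lib.KInf.Transfer

set_option autoImplicit false
universe u
open Cfsg

namespace Cfsg.Agent.S1988

/-- Let p be an odd prime, G a finite group with Sylow p-subgroup S and K the lower K-infinity subgroup of S. If N_G(K) has a normal p-complement, or if N_G(K)/C_G(K) is a p-group (every element of N_G(K) of order prime to p centralizes K), then G has a normal p-complement. -/
theorem result {G : Type u} [Group G] [Finite G] {p : ℕ} [Fact p.Prime] (hp : p ≠ 2) (S : Sylow p G) (h : Cfsg.HasNormalPComplement p ↥(Subgroup.normalizer ((Cfsg.inducedFunctor Cfsg.kInfLower (S : Subgroup G) : Subgroup G) : Set G)) ∨ ∀ g ∈ Subgroup.normalizer ((Cfsg.inducedFunctor Cfsg.kInfLower (S : Subgroup G) : Subgroup G) : Set G), (orderOf g).Coprime p → g ∈ Subgroup.centralizer ((Cfsg.inducedFunctor Cfsg.kInfLower (S : Subgroup G) : Subgroup G) : Set G)) : Cfsg.HasNormalPComplement p G := by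

  open CfsgLib.ConjFunctor in
  have hK := CfsgLib.KInf.isCharPFunctor_kInfLower.{u} p
  refine pComplement_reduce hK ?_ G isSec_self S ?_
  · intro H _ _ _ hcon hnice _ T _ _ hnn
    obtain ⟨g, -, -, -, -, hfac⟩ := CfsgLib.KInf.exists_engel_element T (Or.inl hnn)
    obtain ⟨U, V, hc, hU, hg, hng⟩ := hfac hcon
    haveI := hc.2.2.1
    have h3 : 3 ≤ p := by
      have := (Fact.out : p.Prime).two_le
      omega
    exact absurd (engel_trivial_of_nice hnice hc hU
      (iterCommutator_le_of_le (show Cfsg.iterCommutator U (Subgroup.zpowers g) 2 ≤ V from hg)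
        (by omega))) hng
  · rcases h with h | h
    · exact h
    · have hS := S.isPGroup'
      have hW' := isConjugacyFunctor_inducedFunctor (H := G) hK
      refine hasNormalPComplement_normalizer_of_centralizing S _
        ((normalizer_le_functor hW' hS).trans' Subgroup.le_normalizer) ?_ h
      rintro x ⟨hx, hxc⟩
      refine ⟨⟨x, hx⟩, CfsgLib.KInf.centralizer_kInfLower_le hS
        (Subgroup.mem_centralizer_iff.2 fun y hy => Subtype.ext ?_), rfl⟩
      exact Subgroup.mem_centralizer_iff.1 hxc _ ⟨y, hy, rfl⟩


end Cfsg.Agent.S1988
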