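import Cfsg.Statements.S1990
import Cfsg.Agent.Lib.ConjFunctor.NiceStable

set_option autoImplicit false
universe u
open Cfsg CfsgLib.ConjFunctor

namespace Cfsg.Agent.S1990

/-- Let p be an odd prime, G a finite group with Sylow p-subgroup S, and W an isomorphism-invariant p-group functor (W assigns to every group Q a subgroup W(Q), nontrivial whenever Q is a nontrivial finite p-group, and every isomorphism from a finite p-group Q onto a group R carries W(Q) onto W(R)). Suppose N_G(W(S)) has a normal p-complement, and W(T) controls strong fusion in every section G* = K/R of G all of whose sections are p-stable in the normalizer form, for every Sylow p-subgroup T of G*. Then G has a normal p-complement. -/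
theorem result {G : Type u} [Group G] [Finite G] {p : ℕ} [Fact p.Prime] (hp : p ≠ 2) (W : ∀ (Q : Type u) [Group Q], Subgroup Q) (hW : Cfsg.IsCharPFunctor.{u} p W) (S : Sylow p G) (hN : Cfsg.HasNormalPComplement p ↥(Subgroup.normalizer ((Cfsg.inducedFunctor (G := G) W (S : Subgroup G) : Subgroup G) : Set G))) (hctl : ∀ (K R : Subgroup G) [hR : (R.subgroupOf K).Normal], (∀ (K' R' : Subgroup (↥K ⧸ R.subgroupOf K)) [hR' : (R'.subgroupOf K').Normal], Cfsg.IsNormalizerPStable p (↥K' ⧸ R'.subgroupOf K')) → ∀ T : Sylow p (↥K ⧸ R.subgroupOf K), Cfsg.ControlsStrongFusion p (Cfsg.inducedFunctor (G := (↥K ⧸ R.subgroupOf K)) W (T : Subgroup (↥K ⧸ R.subgroupOf K)))) : Cfsg.HasNormalPComplement p G := by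

  open CfsgLib.ConjFunctor in
  refine pComplement_reduce hW ?_ G isSec_self S hN
  intro H _ _ hsec hcon hnice _ T _ hmax hnn
  obtain ⟨K, R, hR, ⟨e⟩⟩ := CfsgLib.ConjFunctor.IsSec.exists_equiv hsec
  haveI := hR
  obtain ⟨T', hT'⟩ := CfsgLib.ConjFunctor.exists_sylow_equiv e T
  have hnice' : Nice p (↥K ⧸ R.subgroupOf K) := hnice.map (f := e.symm.toMonoidHom) e.symm.surjective
  refine absurd (hctl K R (fun K' R' _ => isNormalizerPStable_of_pStab (pStab_of_nice hp
    ((hnice'.subgroup K').map (QuotientGroup.mk'_surjective _)))) T') ?_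
  refine critical_of_controls (constrained_equiv e.symm hcon) hW T' (fun L hTL hL => ?_)
    (fun h => ?_)
  · refine Subgroup.map_injective (f := e.toMonoidHom) e.injective ?_
    rw [hT']
    refine hmax _ (hT' ▸ Subgroup.map_mono hTL) fun h => hL ?_
    exact Subgroup.map_injective (f := e.toMonoidHom) e.injective
      (h.trans (Subgroup.map_top_of_surjective _ e.surjective).symm)
  · have h' := h.map e.toMonoidHom e.surjective
    rw [map_inducedFunctor_equiv hW e _ T'.isPGroup', hT'] at h'
    exact hnn h'


end Cfsg.Agent.S1990
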