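import Cfsg.Statements.S1992
import Cfsg.Agent.Lib.KInf.SelfNormalizing
import Cfsg.Agent.Lib.Char.Burnside

set_option autoImplicit false
open Cfsg

namespace Cfsg.Agent.S1992

universe v

/-- A subgroup containing the normalizer of a Sylow subgroup is its own normalizer. -/
theorem normalizer_eq_self {G : Type*} [Group G] [Finite G] {p : ℕ} [Fact p.Prime] (P : Sylow p G)
    (W : Subgroup G) (hW : Subgroup.normalizer ((P : Subgroup G) : Set G) ≤ W) :
    Subgroup.normalizer (W : Set G) = W := by
  refine le_antisymm ?_ Subgroup.le_normalizer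
  have hPW : (P : Subgroup G) ≤ W := Subgroup.le_normalizer.trans hW
  set M : Subgroup G := Subgroup.normalizer (W : Set G) with hM
  have hWM : W ≤ M := Subgroup.le_normalizer
  haveI : (W.subgroupOf M).Normal := Subgroup.normal_in_normalizer
  have h1 := Sylow.normalizer_sup_eq_top' (P.subtype (hPW.trans hWM)) (N := W.subgroupOf M) (by
    intro x hx
    rw [Sylow.coe_subtype, Subgroup.mem_subgroupOf] at hx
    exact Subgroup.mem_subgroupOf.mpr (hPW hx))
  have h2 : Subgroup.normalizer ((P.subtype (hPW.trans hWM) : Subgroup M) : Set M) ≤ W.subgroupOf M := by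
    rw [Sylow.coe_subtype, ← Subgroup.subgroupOf_normalizer_eq (hPW.trans hWM)]
    intro x hx
    exact Subgroup.mem_subgroupOf.mpr (hW (Subgroup.mem_subgroupOf.mp hx))
  have h3 : W.subgroupOf M = ⊤ := top_le_iff.mp (h1.ge.trans (sup_le h2 le_rfl))
  exact Subgroup.subgroupOf_eq_top.mp h3

theorem aux : ∀ (n : ℕ) (G : Type v) [Group G] [Finite G], Nat.card G = n →
    (∀ q : ℕ, q.Prime → q ∣ Nat.card G → ∀ Q : Sylow q G, Subgroup.normalizer ((Q : Subgroup G) : Set G) = Q) →
    ∃ q : ℕ, q.Prime ∧ IsPGroup q G := by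
  intro n
  induction n using Nat.strong_induction_on with
  | _ n ih =>
    intro G _ _ hn h
    rcases subsingleton_or_nontrivial G with hs | hnt
    · exact ⟨2, Nat.prime_two, fun g => ⟨0, Subsingleton.elim _ _⟩⟩
    set N := commutator G with hN
    have hlt : N ≠ ⊤ := by
      intro htop
      have hns : ¬ Group.IsSolvable G := fun hsol => by
        haveI := hsol
        exact (Group.IsSolvable.commutator_lt_top_of_nontrivial G).ne htop
      obtain ⟨p, hp, hpG, h5⟩ : ∃ p : ℕ, p.Prime ∧ p ∣ Nat.card G ∧ 5 ≤ p := by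
        by_contra hcon
        push Not at hcon
        refine hns (CfsgLib.Char.isSolvable_of_two_primes 2 3 Nat.prime_two Nat.prime_three _ G rfl fun r hr hrd => ?_)
        have := hcon r hr hrd
        have := hr.two_le
        interval_cases r
        · exact Or.inl rfl
        · exact Or.inr rfl
        · norm_num at hr
      haveI : Fact p.Prime := ⟨hp⟩
      obtain ⟨P⟩ : Nonempty (Sylow p G) := inferInstance
      exact CfsgLib.KInf.not_le_commutator_of_sylow_selfNormalizing h5 _ G rfl P (P.ne_bot_of_dvd_card hpG)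
        (h p hp hpG P) (le_top.trans htop.ge)
    by_cases hbot : N = ⊥
    · obtain ⟨q, hq, hqG⟩ := Nat.exists_prime_and_dvd (n := Nat.card G) Finite.one_lt_card.ne'
      haveI : Fact q.Prime := ⟨hq⟩
      obtain ⟨Q⟩ : Nonempty (Sylow q G) := inferInstance
      have hQn : (Q : Subgroup G).Normal := Subgroup.Normal.of_commutator_le G
        ((show commutator G ≤ _ by rw [← hN, hbot]; exact bot_le))
      have htop : (Q : Subgroup G) = ⊤ := by
        rw [← h q hq hqG Q]; exact Subgroup.normalizer_eq_top_iff.mpr hQn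
      have h2 : IsPGroup q (⊤ : Subgroup G) := htop ▸ Q.2
      exact ⟨q, hq, h2.of_equiv Subgroup.topEquiv⟩
    have hmul := (Subgroup.card_eq_card_quotient_mul_card_subgroup N).symm
    have hsmall : Nat.card (G ⧸ N) < n := by
      rw [← hn, ← hmul]
      exact lt_mul_of_one_lt_right Nat.card_pos (N.one_lt_card_iff_ne_bot.mpr hbot)
    have hπ : Function.Surjective (QuotientGroup.mk' N) := QuotientGroup.mk'_surjective N
    obtain ⟨q, hq, hqQ⟩ := ih _ hsmall (G ⧸ N) rfl (by
      intro r hr hrd R
      haveI : Fact r.Prime := ⟨hr⟩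
      have hrG : r ∣ Nat.card G := hrd.trans (hmul ▸ dvd_mul_right _ _)
      obtain ⟨P, rfl⟩ := Sylow.mapSurjective_surjective hπ r R
      apply Subgroup.comap_injective hπ
      rw [Subgroup.comap_normalizer_eq_of_surjective _ hπ]
      apply normalizer_eq_self P
      rw [h r hr hrG P]
      exact Subgroup.le_comap_map _ _)
    refine ⟨q, hq, ?_⟩
    have huniq : ∀ {r : ℕ}, r.Prime → r ∣ Nat.card G → r = q := by
      intro r hr hrG
      by_contra hne
      haveI : Fact r.Prime := ⟨hr⟩
      obtain ⟨R⟩ : Nonempty (Sylow r G) := inferInstance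
      have hRN : (R : Subgroup G) ≤ N := by
        intro x hx
        obtain ⟨k, hk⟩ := R.2 ⟨x, hx⟩
        obtain ⟨l, hl⟩ := hqQ (x : G ⧸ N)
        have h1 : (x : G ⧸ N) ^ r ^ k = 1 := by
          rw [← QuotientGroup.mk_pow, show x ^ r ^ k = 1 from congrArg Subtype.val hk, QuotientGroup.mk_one]
        haveI : Fact q.Prime := ⟨hq⟩
        have h2 : orderOf (x : G ⧸ N) ∣ Nat.gcd (r ^ k) (q ^ l) :=
          Nat.dvd_gcd (orderOf_dvd_of_pow_eq_one h1) (orderOf_dvd_of_pow_eq_one hl)
        rw [Nat.Coprime.pow k l ((Nat.coprime_primes hr hq).mpr hne), Nat.dvd_one, orderOf_eq_one_iff] at h2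
        exact (QuotientGroup.eq_one_iff x).mp h2
      apply hlt
      rw [← normalizer_eq_self R N ((h r hr hrG R).le.trans hRN)]
      exact Subgroup.normalizer_eq_top_iff.mpr inferInstance
    exact IsPGroup.of_card (Nat.eq_prime_pow_of_unique_prime_dvd Nat.card_pos.ne' huniq)

/-- Let G be a finite group in which, for every prime q dividing the order of G, every Sylow q-subgroup is its own normalizer. Then the order of G is a power of a single prime (G is a q-group for some prime q; for G trivial any prime works). -/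
theorem result {G : Type*} [Group G] [Finite G] (h : ∀ q : ℕ, q.Prime → q ∣ Nat.card G → ∀ Q : Sylow q G, Subgroup.normalizer ((Q : Subgroup G) : Set G) = Q) : ∃ q : ℕ, q.Prime ∧ IsPGroup q G := by
  exact aux _ G rfl h

end Cfsg.Agent.S1992
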