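import Cfsg.Statements.S1996
import Cfsg.Agent.Lib.ConjFunctor.FusionMain

set_option autoImplicit false
universe u
open Cfsg

namespace Cfsg.Agent.S1996

/-- Let p be a prime, G a finite group and W₁, W₂ two isomorphism-invariant p-group functors (W assigns to every group Q a subgroup W(Q), nontrivial whenever Q is a nontrivial finite p-group, and every isomorphism from a finite p-group Q onto a group R carries W(Q) onto W(R)). Suppose that G* = N_{G*}(W₁(S*)) N_{G*}(W₂(S*)) whenever G* = K/R is a section of G with C_{G*}(O_p(G*)) ≤ O_p(G*) and S* is a Sylow p-subgroup of G*. Then the pair {W₁, W₂} controls strong fusion in G. -/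
theorem result {G : Type u} [Group G] [Finite G] {p : ℕ} [Fact p.Prime] (W₁ W₂ : ∀ (Q : Type u) [Group Q], Subgroup Q) (hW₁ : Cfsg.IsCharPFunctor.{u} p W₁) (hW₂ : Cfsg.IsCharPFunctor.{u} p W₂) (hfac : ∀ (K R : Subgroup G) [hR : (R.subgroupOf K).Normal], Subgroup.centralizer ((Cfsg.pCore p (↥K ⧸ R.subgroupOf K) : Subgroup (↥K ⧸ R.subgroupOf K)) : Set (↥K ⧸ R.subgroupOf K)) ≤ Cfsg.pCore p (↥K ⧸ R.subgroupOf K) → ∀ T : Sylow p (↥K ⧸ R.subgroupOf K), ∀ x : (↥K ⧸ R.subgroupOf K), ∃ a ∈ Subgroup.normalizer ((Cfsg.inducedFunctor (G := (↥K ⧸ R.subgroupOf K)) W₁ (T : Subgroup (↥K ⧸ R.subgroupOf K)) : Subgroup (↥K ⧸ R.subgroupOf K)) : Set (↥K ⧸ R.subgroupOf K)), ∃ b ∈ Subgroup.normalizer ((Cfsg.inducedFunctor (G := (↥K ⧸ R.subgroupOf K)) W₂ (T : Subgroup (↥K ⧸ R.subgroupOf K)) : Subgroup (↥K ⧸ R.subgroupOf K)) : Set (↥K ⧸ R.subgroupOf K)), x = a * b) : Cfsg.FamilyControlsStrongFusionIn p {Cfsg.inducedFunctor (G := G) W₁, Cfsg.inducedFunctor (G := G) W₂} ⊤ := by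
  have h := CfsgLib.ConjFunctor.controls_of_fused (default : Sylow p G)
    (CfsgLib.ConjFunctor.fusion_reduce (G := G)
      (𝓦 := ({W₁, W₂} : Set (∀ (Q : Type u) [Group Q], Subgroup Q)))
      (fun V hV => by
        rcases hV with hV | hV
        · rw [hV]; exact hW₁
        · rw [Set.mem_singleton_iff] at hV; rw [hV]; exact hW₂)
      (fun H _ _ hsec => CfsgLib.ConjFunctor.fusionInput_of_factor hW₁ hW₂ (Or.inl rfl) (Or.inr rfl) H
        (fun hcon S x => by
          obtain ⟨K, R, hR, ⟨e⟩⟩ := CfsgLib.ConjFunctor.IsSec.exists_equiv hsec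
          haveI := hR
          obtain ⟨T, hT⟩ := CfsgLib.ConjFunctor.exists_sylow_equiv e S
          obtain ⟨a, ha, b, hb, he⟩ :=
            hfac K R (CfsgLib.ConjFunctor.constrained_equiv e.symm hcon) T (e.symm x)
          have key : ∀ {V : ∀ (Q : Type u) [Group Q], Subgroup Q}, Cfsg.IsCharPFunctor.{u} p V →
              ∀ {y}, y ∈ Subgroup.normalizer
                ((Cfsg.inducedFunctor V (T : Subgroup (↥K ⧸ R.subgroupOf K)) : Subgroup _) : Set _) →
              e y ∈ Subgroup.normalizer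
                ((Cfsg.inducedFunctor V (S : Subgroup H) : Subgroup H) : Set H) := by
            intro V hV y hy
            rw [← hT, ← CfsgLib.ConjFunctor.map_inducedFunctor_equiv hV e _ T.isPGroup',
              ← CfsgLib.ConjFunctor.map_normalizer_equiv]
            exact Subgroup.mem_map_of_mem e.toMonoidHom hy
          exact ⟨e a, key hW₁ ha, e b, key hW₂ hb, by rw [← map_mul, ← he, e.apply_symm_apply]⟩))
      G CfsgLib.ConjFunctor.isSec_self default)
  rwa [Set.image_pair] at h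

end Cfsg.Agent.S1996
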