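import Cfsg.Statements.S1997
import Cfsg.Agent.Lib.ConjFunctor.CentralClosure

set_option autoImplicit false
universe u
open Cfsg CfsgLib.ConjFunctor

namespace Cfsg.Agent.S1997

/-- Let p be a prime, G a finite group with Sylow p-subgroup S, and W₁, W₂ two isomorphism-invariant p-group functors (W assigns to every group Q a subgroup W(Q), nontrivial whenever Q is a nontrivial finite p-group, and every isomorphism from a finite p-group Q onto a group R carries W(Q) onto W(R)). Suppose that G* = C_{G*}(Ω₁Z(S*)) N_{G*}(W₁(S*)) = C_{G*}(Ω₁Z(S*)) N_{G*}(W₂(S*)) = N_{G*}(W₁(S*)) N_{G*}(W₂(S*)) whenever G* = K/R is a section of G with C_{G*}(O_p(G*)) ≤ O_p(G*) and S* is a Sylow p-subgroup of G*, where Ω₁Z denotes the subgroup generated by the elements of order dividing p in the centre. Suppose also Ω₁Z(S) ≤ W₁(S) ∩ W₂(S), and let A be the normal closure of Ω₁Z(S) in N_G(W₁(S)). Then A is an elementary abelian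 subgroup of S, strongly closed in S with respect to G, and A controls strong fusion in G. -/
theorem result {G : Type u} [Group G] [Finite G] {p : ℕ} [Fact p.Prime] (S : Sylow p G) (W₁ W₂ : ∀ (Q : Type u) [Group Q], Subgroup Q) (hW₁ : Cfsg.IsCharPFunctor.{u} p W₁) (hW₂ : Cfsg.IsCharPFunctor.{u} p W₂) (hfac : ∀ (K R : Subgroup G) [hR : (R.subgroupOf K).Normal], Subgroup.centralizer ((Cfsg.pCore p (↥K ⧸ R.subgroupOf K) : Subgroup (↥K ⧸ R.subgroupOf K)) : Set (↥K ⧸ R.subgroupOf K)) ≤ Cfsg.pCore p (↥K ⧸ R.subgroupOf K) → ∀ T : Sylow p (↥K ⧸ R.subgroupOf K), (∀ x : (↥K ⧸ R.subgroupOf K), ∃ a ∈ Subgroup.centralizer ((Cfsg.omegaOne p ((T : Subgroup (↥K ⧸ R.subgroupOf K)) ⊓ Subgroup.centralizer (((T : Subgroup (↥K ⧸ R.subgroupOf K)) : Subgroup (↥K ⧸ R.subgroupOf K)) : Set (↥K ⧸ R.subgroupOf K))) : Subgroup (↥K ⧸ R.subgroupOf K)) : Set (↥K ⧸ R.subgroupOf K)), ∃ b ∈ Subgroup.normalizer ((Cfsg.inducedFunctor (G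 := (↥K ⧸ R.subgroupOf K)) W₁ (T : Subgroup (↥K ⧸ R.subgroupOf K)) : Subgroup (↥K ⧸ R.subgroupOf K)) : Set (↥K ⧸ R.subgroupOf K)), x = a * b) ∧ (∀ x : (↥K ⧸ R.subgroupOf K), ∃ a ∈ Subgroup.centralizer ((Cfsg.omegaOne p ((T : Subgroup (↥K ⧸ R.subgroupOf K)) ⊓ Subgroup.centralizer (((T : Subgroup (↥K ⧸ R.subgroupOf K)) : Subgroup (↥K ⧸ R.subgroupOf K)) : Set (↥K ⧸ R.subgroupOf K))) : Subgroup (↥K ⧸ R.subgroupOf K)) : Set (↥K ⧸ R.subgroupOf K)), ∃ b ∈ Subgroup.normalizer ((Cfsg.inducedFunctor (G := (↥K ⧸ R.subgroupOf K)) W₂ (T : Subgroup (↥K ⧸ R.subgroupOf K)) : Subgroup (↥K ⧸ R.subgroupOf K)) : Set (↥K ⧸ R.subgroupOf K)), x = a * b) ∧ (∀ x : (↥K ⧸ R.subgroupOf K), ∃ a ∈ Subgroup.normalizer ((Cfsg.inducedFunctor (G := (↥K ⧸ R.subgroupOf K)) W₁ (T : Subgroup (↥K ⧸ R.subgroupOf K)) : Subgroup (↥K ⧸ R.subgroupOf K)) : Set (↥K ⧸ R.subgroupOf K)), ∃ b ∈ Subgroup.normalizer ((Cfsg.inducedFunctor (G := (↥K ⧸ R.subgroupOf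 K)) W₂ (T : Subgroup (↥K ⧸ R.subgroupOf K)) : Subgroup (↥K ⧸ R.subgroupOf K)) : Set (↥K ⧸ R.subgroupOf K)), x = a * b)) (hZ : Cfsg.omegaOne p ((S : Subgroup G) ⊓ Subgroup.centralizer (((S : Subgroup G) : Subgroup G) : Set G)) ≤ Cfsg.inducedFunctor (G := G) W₁ (S : Subgroup G) ⊓ Cfsg.inducedFunctor (G := G) W₂ (S : Subgroup G)) (N₁ : Subgroup G) (hN₁ : N₁ = Subgroup.normalizer ((Cfsg.inducedFunctor (G := G) W₁ (S : Subgroup G) : Subgroup G) : Set G)) (A : Subgroup G) (hA : A = (Subgroup.normalClosure (((Cfsg.omegaOne p ((S : Subgroup G) ⊓ Subgroup.centralizer (((S : Subgroup G) : Subgroup G) : Set G))).subgroupOf N₁ : Subgroup ↥N₁) : Set ↥N₁)).map N₁.subtype) : A ≤ (S : Subgroup G) ∧ Cfsg.IsElementaryAbelian p A ∧ Cfsg.IsStronglyClosed A (S : Subgroup G) ∧ Cfsg.ControlsStrongFusion p A := by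

  open CfsgLib.ConjFunctor in
  have hsec : ∀ (H : Type u) [Group H] [Finite H], IsSec G H → Constrained p H → ∀ T : Sylow p H,
      CentralFactor p W₁ (T : Subgroup H) ∧ CentralFactor p W₂ (T : Subgroup H) ∧
      ∀ x : H, ∃ a ∈ Subgroup.normalizer
          ((Cfsg.inducedFunctor (G := H) W₁ (T : Subgroup H) : Subgroup H) : Set H),
        ∃ b ∈ Subgroup.normalizer
          ((Cfsg.inducedFunctor (G := H) W₂ (T : Subgroup H) : Subgroup H) : Set H), x = a * b := by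
    intro H _ _ hs hcon T
    obtain ⟨K, R, hR, ⟨e⟩⟩ := IsSec.exists_equiv hs
    haveI := hR
    obtain ⟨T', hT⟩ := exists_sylow_equiv e T
    obtain ⟨h1, h2, h3⟩ := hfac K R (constrained_equiv e.symm hcon) T'
    have keyN : ∀ {V : ∀ (Q : Type u) [Group Q], Subgroup Q}, Cfsg.IsCharPFunctor.{u} p V →
        ∀ {y}, y ∈ Subgroup.normalizer
          ((Cfsg.inducedFunctor V (T' : Subgroup (↥K ⧸ R.subgroupOf K)) : Subgroup _) : Set _) →
        e y ∈ Subgroup.normalizer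
          ((Cfsg.inducedFunctor V (T : Subgroup H) : Subgroup H) : Set H) := by
      intro V hV y hy
      rw [← hT, ← map_inducedFunctor_equiv hV e _ T'.isPGroup', ← map_normalizer_equiv]
      exact Subgroup.mem_map_of_mem e.toMonoidHom hy
    have keyC : ∀ {y}, y ∈ Subgroup.centralizer
          ((zOmega p (T' : Subgroup (↥K ⧸ R.subgroupOf K)) : Subgroup _) : Set _) →
        e y ∈ Subgroup.centralizer ((zOmega p (T : Subgroup H) : Subgroup H) : Set H) := by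
      intro y hy
      rw [← hT, ← map_zOmega e.toMonoidHom e.injective.injOn, ← map_centralizer_equiv]
      exact Subgroup.mem_map_of_mem e.toMonoidHom hy
    refine ⟨fun x => ?_, fun x => ?_, fun x => ?_⟩
    · obtain ⟨a, ha, b, hb, he⟩ := h1 (e.symm x)
      exact ⟨e a, keyC ha, e b, keyN hW₁ hb, by rw [← map_mul, ← he, e.apply_symm_apply]⟩
    · obtain ⟨a, ha, b, hb, he⟩ := h2 (e.symm x)
      exact ⟨e a, keyC ha, e b, keyN hW₂ hb, by rw [← map_mul, ← he, e.apply_symm_apply]⟩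
    · obtain ⟨a, ha, b, hb, he⟩ := h3 (e.symm x)
      exact ⟨e a, keyN hW₁ ha, e b, keyN hW₂ hb, by rw [← map_mul, ← he, e.apply_symm_apply]⟩
  have hfus := fusion_reduce (G := G)
    (𝓦 := ({W₁, W₂} : Set (∀ (Q : Type u) [Group Q], Subgroup Q)))
    (fun V hV => by
      rcases hV with hV | hV
      · rw [hV]; exact hW₁
      · rw [Set.mem_singleton_iff] at hV; rw [hV]; exact hW₂)
    (fun H _ _ hs => fusionInput_of_factor hW₁ hW₂ (Or.inl rfl) (Or.inr rfl) H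
      (fun hcon T => (hsec H hs hcon T).2.2)) G isSec_self S
  have hSN : (S : Subgroup G) ≤ N₁ := by
    rw [hN₁]
    exact (normalizer_le_functor (isConjugacyFunctor_inducedFunctor hW₁) S.isPGroup').trans'
      Subgroup.le_normalizer
  refine closure_zConjugates_facts hW₁ hW₂ (fun H _ _ hs hc T => (hsec H hs hc T).1)
    (fun H _ _ hs hc T => (hsec H hs hc T).2.1) S hfus (hZ.trans inf_le_left) (hZ.trans inf_le_right)
    A ?_
  rw [hA, Subgroup.normalClosure, MonoidHom.map_closure, ← hN₁]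
  congr 1
  ext y
  constructor
  · rintro ⟨x, hx, rfl⟩
    obtain ⟨a, ha, hax⟩ := Group.mem_conjugatesOfSet_iff.1 hx
    obtain ⟨c, rfl⟩ := isConj_iff.1 hax
    exact ⟨c, c.2, a, ha, by simp⟩
  · rintro ⟨n, hn, z, hz, rfl⟩
    refine ⟨⟨n, hn⟩ * ⟨z, hSN (zOmega_le _ hz)⟩ * (⟨n, hn⟩ : ↥N₁)⁻¹,
      Group.mem_conjugatesOfSet_iff.2 ⟨⟨z, hSN (zOmega_le _ hz)⟩, hz, isConj_iff.2 ⟨⟨n, hn⟩, rfl⟩⟩, ?_⟩
    simp


end Cfsg.Agent.S1997
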