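import Cfsg.Statements.S1999
import Cfsg.Agent.Lib.S4Factor.Fusion
import Cfsg.Agent.Lib.S4Factor.QdFamily
import Cfsg.Agent.S2761
-- import your own Cfsg.Agent.* helpers here

set_option autoImplicit false
open Cfsg

namespace Cfsg.Agent.S1999

/-- Let G be a finite group. The symmetric group of degree 4 is not involved in G if and only if, in every section K/R of G, the pair of conjugacy functors {Z, J_e} controls strong fusion (for the prime 2): here Z(P) is the centre and J_e(P) the subgroup generated by the elementary abelian subgroups of P of largest order, and control by the pair means that 2-fusion of tuples inside a Sylow 2-subgroup T of the section is generated, staying inside T, by conjugation inside N(Z(T)) and N(J_e(T)). -/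
theorem result {G : Type*} [Group G] [Finite G] : ¬ Cfsg.Involves (Equiv.Perm (Fin 4)) G ↔ ∀ (K R : Subgroup G) [hR : (R.subgroupOf K).Normal], Cfsg.FamilyControlsStrongFusionIn 2 ({fun P : Subgroup (↥K ⧸ R.subgroupOf K) => P ⊓ Subgroup.centralizer ((P : Subgroup (↥K ⧸ R.subgroupOf K)) : Set (↥K ⧸ R.subgroupOf K)), fun P : Subgroup (↥K ⧸ R.subgroupOf K) => Cfsg.thompsonSubgroupOf 2 P} : Set (Subgroup (↥K ⧸ R.subgroupOf K) → Subgroup (↥K ⧸ R.subgroupOf K))) ⊤ := by
  haveI : Fact (Nat.Prime 2) := ⟨Nat.prime_two⟩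
  have hset : ∀ (K R : Subgroup G) [(R.subgroupOf K).Normal],
      ((fun W => Cfsg.inducedFunctor (G := (↥K ⧸ R.subgroupOf K)) W) ''
        {CfsgLib.S4Factor.zFun, CfsgLib.S4Factor.jFun}) =
      ({fun P : Subgroup (↥K ⧸ R.subgroupOf K) => P ⊓ Subgroup.centralizer
          ((P : Subgroup (↥K ⧸ R.subgroupOf K)) : Set (↥K ⧸ R.subgroupOf K)),
        fun P : Subgroup (↥K ⧸ R.subgroupOf K) => Cfsg.thompsonSubgroupOf 2 P} :
        Set (Subgroup (↥K ⧸ R.subgroupOf K) → Subgroup (↥K ⧸ R.subgroupOf K))) := by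
    intro K R _
    rw [Set.image_pair]
    congr 1
    exact funext fun P => CfsgLib.S4Factor.inducedFunctor_zFun P
  constructor
  · intro h K R hR
    rw [← hset K R]
    exact CfsgLib.S4Factor.family_controls h _ (CfsgLib.ConjFunctor.isSec_quot K R)
  · rintro hall ⟨K, R, hR, ⟨e⟩⟩
    obtain ⟨q⟩ := Cfsg.Agent.S2761.result
    haveI : Finite (↥K ⧸ R.subgroupOf K) := inferInstance
    refine CfsgLib.S4Factor.not_family_controls_of_equiv_qd (e.trans q.symm)
      {CfsgLib.S4Factor.zFun, CfsgLib.S4Factor.jFun} ?_ (by rw [hset K R]; exact hall K R)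
    intro W hW
    rcases hW with hW | hW
    · rw [hW]; exact CfsgLib.S4Factor.isCharPFunctor_zFun 2
    · rw [Set.mem_singleton_iff] at hW; rw [hW]; exact CfsgLib.S4Factor.isCharPFunctor_jFun

end Cfsg.Agent.S1999
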