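import Cfsg.Statements.S2000
import Cfsg.Agent.Lib.S4Factor.Fusion
import Cfsg.Agent.Lib.S4Factor.QdFamily
import Cfsg.Agent.Lib.S4Factor.KInfFamily
import Cfsg.Agent.S2761
-- import your own Cfsg.Agent.* helpers here

set_option autoImplicit false
universe u
open Cfsg

namespace Cfsg.Agent.S2000

/-- Let p be a prime and G a finite group. Then Qd(p) (the natural semidirect product of an elementary abelian group of order p² by SL₂(p)) is not involved in G if and only if there is a set 𝓦 of isomorphism-invariant p-group functors (each nontrivial on nontrivial finite p-groups and carried onto W(R) by every isomorphism from a finite p-group Q onto R, hence with characteristic values on finite p-groups) whose induced conjugacy functors control strong fusion in every section of G. -/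
theorem result {G : Type u} [Group G] [Finite G] {p : ℕ} [Fact p.Prime] : ¬ Cfsg.Involves ↥(Cfsg.qd p) G ↔ ∃ 𝓦 : Set (∀ (Q : Type u) [Group Q], Subgroup Q), (∀ W ∈ 𝓦, Cfsg.IsCharPFunctor.{u} p W) ∧ ∀ (K R : Subgroup G) [hR : (R.subgroupOf K).Normal], Cfsg.FamilyControlsStrongFusionIn p ((fun W => Cfsg.inducedFunctor (G := (↥K ⧸ R.subgroupOf K)) W) '' 𝓦) ⊤ := by
  constructor
  · intro h
    by_cases hp : p = 2
    · subst hp
      obtain ⟨q⟩ := Cfsg.Agent.S2761.result
      have hS4 : ¬ Cfsg.Involves (Equiv.Perm (Fin 4)) G := fun hinv => by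
        obtain ⟨K, f, hf⟩ := CfsgLib.LocalEven.exists_surjective_of_involves hinv
        exact h (CfsgLib.LocalEven.involves_of_surjective K (q.symm.toMonoidHom.comp f)
          (q.symm.surjective.comp hf))
      refine ⟨{CfsgLib.S4Factor.zFun, CfsgLib.S4Factor.jFun}, fun W hW => ?_, fun K R hR =>
        CfsgLib.S4Factor.family_controls hS4 _ (CfsgLib.ConjFunctor.isSec_quot K R)⟩
      rcases hW with hW | hW
      · rw [hW]; exact CfsgLib.S4Factor.isCharPFunctor_zFun 2
      · rw [Set.mem_singleton_iff] at hW; rw [hW]; exact CfsgLib.S4Factor.isCharPFunctor_jFun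
    · refine ⟨{Cfsg.kInfLower.{u}}, fun W hW => ?_, fun K R hR =>
        CfsgLib.KInf.kInfLower_family_controls hp h _ (CfsgLib.ConjFunctor.isSec_quot K R)⟩
      rw [Set.mem_singleton_iff] at hW; rw [hW]; exact CfsgLib.KInf.isCharPFunctor_kInfLower p
  · rintro ⟨𝓦, h𝓦, hall⟩ ⟨K, R, hR, ⟨e⟩⟩
    exact CfsgLib.S4Factor.not_family_controls_of_equiv_qd e 𝓦 h𝓦 (hall K R)

end Cfsg.Agent.S2000
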