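import Cfsg.Statements.S2002
import Cfsg.Agent.Lib.ConjFunctor.CentralFusion

set_option autoImplicit false
open Cfsg CfsgLib.ConjFunctor

namespace Cfsg.Agent.S2002

/-- Let p be a prime dividing the order of the finite group G, P a Sylow p-subgroup, W a conjugacy functor for p on G with Z(H) ≤ W(H) for every nontrivial p-subgroup H, and V a central functor (a conjugacy functor with V(H) ≤ Z(H), and V(H) ≤ V(K) whenever Z(H) ≤ Z(K)). Say that W with V controls strong fusion in a subgroup L when some Sylow p-subgroup Q of L has the property: whenever X ⊆ Q and a ∈ L with a⁻¹Xa ⊆ Q, then a = c b with c ∈ C_L(X) and b = b₁ ⋯ bₙ a product of elements each in N_L(W(Q)) or in C_L(V(Q)) such that every partial conjugate (b₁ ⋯ bₖ)⁻¹ X (b₁ ⋯ bₖ) lies in Q. If W with V controls strong fusion in N_G(H) for every subgroup H with Z(P) ≤ H ≤ P, then W with V controls strong fusion in G. -/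
theorem result {G : Type*} [Group G] [Finite G] {p : ℕ} [Fact p.Prime] (hdiv : p ∣ Nat.card G) (P : Sylow p G) (W V : Subgroup G → Subgroup G) (hW : Cfsg.IsConjugacyFunctor p W) (hV : Cfsg.IsConjugacyFunctor p V) (hWZ : ∀ H : Subgroup G, IsPGroup p ↥H → H ⊓ Subgroup.centralizer ((H : Subgroup G) : Set G) ≤ W H) (hVZ : ∀ H : Subgroup G, IsPGroup p ↥H → V H ≤ H ⊓ Subgroup.centralizer ((H : Subgroup G) : Set G)) (hVmono : ∀ H K : Subgroup G, IsPGroup p ↥H → IsPGroup p ↥K → H ≠ ⊥ → K ≠ ⊥ → H ⊓ Subgroup.centralizer ((H : Subgroup G) : Set G) ≤ K ⊓ Subgroup.centralizer ((K : Subgroup G) : Set G) → V H ≤ V K) (hloc : ∀ H : Subgroup G, (P : Subgroup G) ⊓ Subgroup.centralizer (((P : Subgroup G) : Subgroup G) : Set G) ≤ H → H ≤ (P : Subgroup G) → ∃ Q : Subgroup G, Q ≤ Subgroup.normalizer ((H : Subgroup G) : Set G) ∧ IsPGroup p ↥Q ∧ ¬ p ∣ (Q).relIndex (Subgroup.normalizer ((H : Subgroup G) : Set G)) ∧ ∀ (X : Set G) (a : G), X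 ⊆ Q → a ∈ Subgroup.normalizer ((H : Subgroup G) : Set G) → (fun x => a⁻¹ * x * a) '' X ⊆ Q → ∃ c ∈ Subgroup.normalizer ((H : Subgroup G) : Set G) ⊓ Subgroup.centralizer X, ∃ (n : ℕ) (b : Fin n → G), (∀ i, b i ∈ Subgroup.normalizer ((H : Subgroup G) : Set G) ⊓ Subgroup.normalizer ((W Q : Subgroup G) : Set G) ∨ b i ∈ Subgroup.normalizer ((H : Subgroup G) : Set G) ⊓ Subgroup.centralizer ((V Q : Subgroup G) : Set G)) ∧ a = c * (List.ofFn b).prod ∧ ∀ k : ℕ, k ≤ n → (fun x => (((List.ofFn b).take k).prod)⁻¹ * x * ((List.ofFn b).take k).prod) '' ((fun x => c⁻¹ * x * c) '' X) ⊆ Q) : ∃ Q : Subgroup G, IsPGroup p ↥Q ∧ ¬ p ∣ Q.index ∧ ∀ (X : Set G) (a : G), X ⊆ Q → (fun x => a⁻¹ * x * a) '' X ⊆ Q → ∃ c ∈ Subgroup.centralizer X, ∃ (n : ℕ) (b : Fin n → G), (∀ i, b i ∈ ⊤ ⊓ Subgroup.normalizer ((W Q : Subgroup G) : Set G) ∨ b i ∈ ⊤ ⊓ Subgroup.centralizer ((V Q : Subgroup G) : Set G)) ∧ a = c * (List.ofFn b).prod ∧ ∀ k : ℕ, k ≤ n →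 (fun x => (((List.ofFn b).take k).prod)⁻¹ * x * ((List.ofFn b).take k).prod) '' ((fun x => c⁻¹ * x * c) '' X) ⊆ Q := by
  open CfsgLib.ConjFunctor in
  have hlink := central_fusion P hdiv hW hV hWZ hVmono fun H hZH hHP => by
    obtain ⟨Q, hQN, hQp, hQd, hctl⟩ := hloc H hZH hHP
    refine ⟨Q, ⟨hQN, hQp, hQd⟩, fun D n hD hn hnD => ?_⟩
    obtain ⟨c, hc, m, b, hb, hab, him⟩ := hctl (D : Set G) n⁻¹ hD (inv_mem hn) (by
      rintro _ ⟨x, hx, rfl⟩
      rw [inv_inv]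
      exact hnD (conj_mem_cj hx))
    have hfix : ∀ x ∈ D, c⁻¹ * x * c = x := fun x hx => by
      rw [mul_assoc, Subgroup.mem_centralizer_iff.1 hc.2 x hx, inv_mul_cancel_left]
    refine ⟨(List.ofFn b).prod⁻¹, reach_of_list (fun x hx => hx.imp inv_mem inv_mem) _ D ?_ ?_, ?_⟩
    · intro x hx
      obtain ⟨i, rfl⟩ := List.mem_ofFn.1 hx
      exact hb i
    · intro k hk
      rw [List.length_ofFn] at hk
      rintro y hy
      obtain ⟨x, hx, rfl⟩ := hy
      show ((List.ofFn b).take k).prod⁻¹ * x * ((List.ofFn b).take k).prod⁻¹⁻¹ ∈ Q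
      rw [inv_inv]
      exact him k hk ⟨x, ⟨x, hx, hfix x hx⟩, rfl⟩
    · intro x hx
      rw [show n = (c * (List.ofFn b).prod)⁻¹ by rw [← hab, inv_inv]]
      conv_lhs => rw [← hfix x hx]
      group
  refine ⟨P, P.isPGroup', P.not_dvd_index, fun X a hX hXa => ?_⟩
  obtain ⟨g', hr, hag⟩ := hlink (Subgroup.closure X) a⁻¹ ((Subgroup.closure_le _).2 hX)
    (image_subset_iff.1 (by simpa using hXa))
  obtain ⟨l, hl, hprod, him⟩ := list_of_reach (fun x hx => hx.imp inv_mem inv_mem) hr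
  have hcent : a * g' ∈ Subgroup.centralizer X := Subgroup.mem_centralizer_iff.2 fun x hx => by
    have h1 := hag x (Subgroup.subset_closure hx)
    rw [inv_inv] at h1
    calc x * (a * g') = a * (a⁻¹ * x * a) * g' := by group
      _ = a * (g' * x * g'⁻¹) * g' := by rw [h1]
      _ = a * g' * x := by group
  have hfix : ∀ x ∈ X, (a * g')⁻¹ * x * (a * g') = x := fun x hx => by
    rw [mul_assoc, Subgroup.mem_centralizer_iff.1 hcent x hx, inv_mul_cancel_left]
  refine ⟨a * g', hcent, l.length, fun i => l.get i, fun i => ?_, ?_, fun k hk => ?_⟩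
  · rw [top_inf_eq, top_inf_eq]
    exact hl _ (List.get_mem l i)
  · rw [List.ofFn_get, ← hprod, inv_mul_cancel_right]
  · rw [List.ofFn_get]
    rintro _ ⟨_, ⟨x, hx, rfl⟩, rfl⟩
    show (l.take k).prod⁻¹ * ((a * g')⁻¹ * x * (a * g')) * (l.take k).prod ∈ (P : Subgroup G)
    rw [hfix x hx]
    have := him k hk (conj_mem_cj (Subgroup.subset_closure hx))
    rwa [inv_inv] at this


end Cfsg.Agent.S2002
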