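import Cfsg.Statements.S2015
import Cfsg.Agent.Lib.KInf.Transfer

set_option autoImplicit false
universe u
open Cfsg

namespace Cfsg.Agent.S2015

/-- For p ≥ 5, every finite p-group P has a characteristic subgroup K containing Z(P), depending only on P, whose normalizer controls transfer wherever P is a Sylow subgroup: for every finite group G and every embedding ι of P onto a Sylow p-subgroup of G, the intersection of ι(P) with the derived subgroup of G equals its intersection with the derived subgroup of N_G(ι(K)). -/
theorem result (p : ℕ) [Fact p.Prime] (hp : 5 ≤ p) (P : Type u) [Group P] [Finite P] (hP : IsPGroup p P) : ∃ K : Subgroup P, K.Characteristic ∧ Subgroup.center P ≤ K ∧ ∀ (G : Type u) [Group G] [Finite G] (ι : P →* G), Function.Injective ι → (∃ T : Sylow p G, (T : Subgroup G) = ι.range) → ι.range ⊓ commutator G = ι.range ⊓ (commutator ↥(Subgroup.normalizer ((K.map ι : Subgroup G) : Set G))).map (Subgroup.normalizer ((K.map ι : Subgroup G) : Set G)).subtype := by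
  have hchar := CfsgLib.KInf.isCharPFunctor_kInfLower.{u} p
  refine ⟨Cfsg.kInfLower P, Subgroup.characteristic_iff_map_eq.2 (fun φ => hchar.2 P P hP φ),
    CfsgLib.KInf.center_le_kInfLower hP, fun G _ _ ι hι ⟨T, hT⟩ => ?_⟩
  have hKι : (Cfsg.kInfLower P).map ι = Cfsg.inducedFunctor Cfsg.kInfLower (T : Subgroup G) := by
    have h1 : IsPGroup p ↥(⊤ : Subgroup P) := hP.to_subgroup ⊤
    rw [hT, MonoidHom.range_eq_map,
      CfsgLib.ConjFunctor.inducedFunctor_map hchar ι ⊤ h1 hι.injOn]
    refine congrArg (Subgroup.map ι) ?_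
    exact (hchar.2 _ _ h1 Subgroup.topEquiv).symm
  have hc : ∀ N : Subgroup G, (commutator ↥N).map N.subtype = ⁅N, N⁆ := fun N => by
    rw [commutator_def, Subgroup.map_commutator, ← MonoidHom.range_eq_map, Subgroup.range_subtype]
  rw [hc, hKι, ← hT]
  exact (CfsgLib.KInf.kInfLower_transfer hp G CfsgLib.ConjFunctor.isSec_self T).2

end Cfsg.Agent.S2015
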