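import Cfsg.Statements.S2029
import Cfsg.Agent.Lib.KlingerMason.Main

set_option autoImplicit false
open Cfsg

namespace Cfsg.Agent.S2029

/-- Let p be an odd prime and G a finite group that is both of local characteristic p (p divides its order and every p-local subgroup N satisfies C_N(O_p(N)) ≤ O_p(N)) and of characteristic 2 type (even order and every 2-local subgroup M satisfies C_M(O_2(M)) ≤ O_2(M)). Then every 2-local subgroup of G has p-rank at most 2. -/
theorem result {G : Type*} [Group G] [Finite G] (p : ℕ) [Fact p.Prime] (hp : p ≠ 2) (hGp : Cfsg.IsOfLocalCharacteristic p G) (hG2 : Cfsg.IsCharacteristicTwoType G) : Cfsg.TwoLocalPRankLE p 2 G := by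
  classical
  intro M hM A hAc hAp
  obtain ⟨X₀, hX₀, hX₀1, rfl⟩ := hM
  by_contra hlt
  push Not at hlt
  let P : Subgroup G → Prop := fun B => Cfsg.IsElementaryAbelian p B ∧
    ∃ X : Subgroup G, IsPGroup 2 X ∧ X ≠ ⊥ ∧ B ≤ Subgroup.normalizer (X : Set G)
  have hA' : P (A.map (Subgroup.normalizer (X₀ : Set G)).subtype) := by
    refine ⟨⟨Subgroup.map_isMulCommutative A _, ?_⟩, X₀, hX₀, hX₀1, Subgroup.map_subtype_le _⟩
    rintro _ ⟨x, hx, rfl⟩
    rw [← map_pow, hAp x hx, map_one]
  obtain ⟨B, hB⟩ := (Set.toFinite {B : Subgroup G | P B}).exists_maximalFor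
    (fun B : Subgroup G => Nat.card B) {B : Subgroup G | P B} ⟨_, hA'⟩
  obtain ⟨⟨hBel, X, hX, hX1, hBX⟩, hmax⟩ := hB
  obtain ⟨n, hn⟩ := IsPGroup.iff_card.1 (CfsgLib.Signalizer.elementary_isPGroup hBel)
  have hbig : p ^ 2 < Nat.card B := by
    rw [← Subgroup.card_map_of_injective (Subgroup.normalizer (X₀ : Set G)).subtype_injective (K := A)] at hlt
    by_contra hle
    push Not at hle
    have := hmax hA' (le_of_lt (lt_of_le_of_lt hle hlt))
    exact absurd (lt_of_lt_of_le hlt this) (not_lt.2 hle)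
  have h3 : 3 ≤ n := by
    by_contra h
    rw [hn] at hbig
    exact absurd hbig (not_lt.2 (Nat.pow_le_pow_right (Fact.out : p.Prime).pos (by omega)))
  have S : CfsgLib.KlingerMason.Setup p n G := ⟨hp, hGp, hG2, h3, fun Y C hY hY1 hC hCY => by
    by_contra hlt'
    push Not at hlt'
    rw [← hn] at hlt'
    have := hmax ⟨hC, Y, hY, hY1, hCY⟩ hlt'.le
    exact absurd (lt_of_lt_of_le hlt' this) (lt_irrefl _)⟩
  exact S.false_of_rank hX hX1 hBel hBX hn.ge


end Cfsg.Agent.S2029
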