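import Cfsg.Statements.S2045
import Cfsg.Agent.Lib.Schur.CoThree.Main
import Cfsg.Agent.Lib.SchurPerm.Stem

set_option autoImplicit false
open Cfsg

namespace Cfsg.Agent.S2045

/-- The Schur multiplier of the Conway group Co₃ (the stabiliser of a vector of the second shortest length in the rank-24 lattice) is trivial; here the Schur multiplier is described through stem extensions, as in the definitions: surjective homomorphisms onto the group from a finite group, whose kernel is central in that finite group and contained in that finite group's commutator subgroup. -/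
theorem result : Cfsg.HasCyclicSchurMultiplier ↥Cfsg.Spor.Co3 1 := by
  obtain ⟨g, hg⟩ := CfsgLib.Leech.Orbits.transitive48 CfsgLib.Leech.vecCo3 Cfsg.Spor.leechV
    CfsgLib.Leech.sqNorm_vecCo3 CfsgLib.Leech.Aut.sqNorm_leechV
  exact CfsgLib.SchurPerm.hasCyclic_congr
    ((MulAction.stabilizerEquivStabilizer (g := g) hg.symm).trans (CfsgLib.Leech.Aut.stabEquiv Cfsg.Spor.leechV))
    CfsgLib.SchurCoThree.hasCyclic_stab

end Cfsg.Agent.S2045
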