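import Cfsg.Statements.S2054
import Cfsg.Agent.Lib.Schur.FiTwentyThree.Main

set_option autoImplicit false
open Cfsg

namespace Cfsg.Agent.S2054

/-- The Schur multiplier of the Fischer group Fi₂₃ (the finitely presented group of the definitions) is trivial; here the Schur multiplier is described through stem extensions, as in the definitions: surjective homomorphisms onto the group from a finite group, whose kernel is central in that finite group and contained in that finite group's commutator subgroup. -/
theorem result : Cfsg.HasCyclicSchurMultiplier Cfsg.Spor.Fi23 1 := by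
  haveI : Finite Cfsg.Spor.Fi23 := CfsgLib.CosetEnum.Fi23.finite
  refine ⟨⟨Cfsg.Spor.Fi23, inferInstance, inferInstance, MonoidHom.id _,
    ⟨Function.surjective_id, ?_, ?_⟩, ?_⟩, fun Γ _ _ σ hσ => ⟨1, fun a => ⟨1, ?_⟩⟩⟩
  · simp [MonoidHom.ker_id]
  · simp [MonoidHom.ker_id]
  · rw [MonoidHom.ker_id]
    haveI : Subsingleton (Multiplicative (ZMod 1)) := inferInstanceAs (Subsingleton (ZMod 1))
    exact ⟨MulEquiv.ofUnique⟩
  · have h := (SetLike.ext_iff.mp (CfsgLib.SchurFi23.ker_eq_bot σ hσ) a.1).mp a.2
    rw [Subgroup.mem_bot] at h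
    exact Subtype.ext (by rw [map_one]; exact h.symm)

end Cfsg.Agent.S2054
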