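import Cfsg.Statements.S2061
import Cfsg.Agent.Lib.M24Elt.AutM12Data
import Cfsg.Agent.Lib.M24Elt.AutM12Outer
import Cfsg.Agent.Lib.M24Elt.AutOuter
import Cfsg.Agent.Lib.Golay.Mathieu
-- import your own Cfsg.Agent.* helpers here

set_option autoImplicit false
open Cfsg

namespace Cfsg.Agent.S2061

open Cfsg CfsgLib.Comp CfsgLib.Golay CfsgLib.M24Elt

/-- Membership test for M12. -/
noncomputable def mem12 (c : ℕ) : Bool := good c && keeps12 c

theorem mem12_spec (c : ℕ) (h : mem12 c = true) : PermCode.Ok 24 c ∧ pm c ∈ Spor.M12 := by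
  rw [mem12, Bool.and_eq_true] at h
  refine ⟨good_ok h.1, mem_M12.2 ⟨pm_mem h.1, ?_⟩⟩
  rw [squareDodecad_eq, ← toSet_push (isPermOf_pm (good_ok h.1)), Nat.eq_of_beq_eq_true h.2]

theorem checks : AutBound.baseOk AutM12.cert mem12 = true ∧ AutBound.closureOk AutM12.cert = true ∧
    AutBound.classesOk AutM12.cert mem12 = true ∧ AutBound.sylOk AutM12.cert mem12 (fun _ => false) = true ∧
    AutBound.pairsOk AutM12.cert = true := by
  decide +kernel

theorem out_le : Nat.card (Cfsg.Out ↥Spor.M12) ≤ 2 := by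
  haveI : Fact (Nat.Prime AutM12.cert.p) := ⟨show Nat.Prime 11 by norm_num⟩
  obtain ⟨h1, h2, h3, h4, h5⟩ := checks
  exact AutBound.card_out_le' mem12_spec h1 h2 h3 h4 h5 card_M12 AutM12.gen_card (by decide +kernel)
    AutM12.syl_card (by decide +kernel) (T := fun _ => True) (fun _ _ _ => trivial) (fun _ _ h => Bool.noConfusion h)
    (fun _ _ _ => trivial)

theorem outer_checks :
    (good AutM12.outer && mem12 AutM12.outerImg.1 && mem12 AutM12.outerImg.2 &&
      eqc (PermCode.mul 24 AutM12.outer AutM12.cert.x) (PermCode.mul 24 AutM12.outerImg.1 AutM12.outer) &&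
      eqc (PermCode.mul 24 AutM12.outer AutM12.cert.y) (PermCode.mul 24 AutM12.outerImg.2 AutM12.outer) &&
      AutM12.sep.all (AutBound.sepOk AutM12.cert.x AutM12.cert.y 0)) = true := by
  decide +kernel

theorem closure_eq :
    Subgroup.closure {pm AutM12.cert.x, pm AutM12.cert.y} = (Spor.M12 : Subgroup (Equiv.Perm GolayPt)) := by
  obtain ⟨⟨hx, hy, -, -⟩, -⟩ := AutBound.base_spec mem12_spec checks.1
  refine Subgroup.eq_of_le_of_card_ge ((Subgroup.closure_le _).2 ?_) ?_
  · rintro z (rfl | rfl)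
    · exact hx
    · exact hy
  · rw [card_M12, ← AutM12.gen_card, ← card_spanPts]
    refine Nat.card_le_card_of_injective _ (Subgroup.inclusion_injective (spanPts_le fun s hs => ?_))
    simp only [AutM12.genGens, List.mem_cons, List.not_mem_nil, or_false] at hs
    rcases hs with rfl | rfl
    · exact Subgroup.subset_closure (Or.inl rfl)
    · exact Subgroup.subset_closure (Or.inr rfl)

theorem two_le : 2 ≤ Nat.card (Cfsg.Out ↥Spor.M12) := by
  have h := outer_checks
  simp only [Bool.and_eq_true] at h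
  obtain ⟨⟨⟨⟨⟨hg, h1⟩, h2⟩, e1⟩, e2⟩, hsep⟩ := h
  obtain ⟨ox, hx⟩ := mem12_spec _ h1
  obtain ⟨oy, hy⟩ := mem12_spec _ h2
  have hb := checks.1
  simp only [AutBound.baseOk, Bool.and_eq_true] at hb
  obtain ⟨oX, hX⟩ := mem12_spec _ hb.1.1.1.1.1.1.1.1.1.1
  obtain ⟨oY, hY⟩ := mem12_spec _ hb.1.1.1.1.1.1.1.1.1.2
  have og := good_ok hg
  have c1 := pm_eq_of_eqc (ok_pm_mul og oX) (ok_pm_mul ox og) e1
  have c2 := pm_eq_of_eqc (ok_pm_mul og oY) (ok_pm_mul oy og) e2
  rw [pm_mul og oX, pm_mul ox og] at c1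
  rw [pm_mul og oY, pm_mul oy og] at c2
  refine AutBound.two_le_card_out (g := pm AutM12.outer) ?_ fun h hh hcomm => ?_
  · rw [← closure_eq]
    exact AutBound.map_conj_of_gens (by rw [c1, mul_inv_cancel_right, closure_eq]; exact hx)
      (by rw [c2, mul_inv_cancel_right, closure_eq]; exact hy)
  have hux := hcomm _ hX
  have huy := hcomm _ hY
  generalize hu : h⁻¹ * pm AutM12.outer = u at hux huy
  have h0 : pm AutM12.outer (some 0) ∉ Spor.squareDodecad := by
    rw [squareDodecad_eq, mem_toSet, bit_pm og]; decide +kernel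
  have hu0 : u (some 0) ∉ Spor.squareDodecad := by
    rw [← hu, Equiv.Perm.mul_apply, ← M12_apply_mem hh, perm_apply_inv]
    exact h0
  obtain ⟨s, hs, hse⟩ := (by decide +kernel : ∀ j : GolayPt, j ∉ Spor.squareDodecad →
    ∃ s ∈ AutM12.sep, s.1 = bit j) _ hu0
  exact AutBound.sep_spec oX oY (List.all_eq_true.1 hsep s hs) hux huy (a := some 0)
    (by decide +kernel) hse.symm

/-- The outer automorphism group of the Mathieu group M₁₂ (the stabiliser of a dodecad in the automorphism group of the length-24 binary code) has order 2. -/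
theorem result : Nat.card (Cfsg.Out ↥Cfsg.Spor.M12) = 2 := by
  exact le_antisymm out_le two_le

end Cfsg.Agent.S2061
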