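import Cfsg.Statements.S2062
import Cfsg.Agent.Lib.M24Elt.AutM22Data
import Cfsg.Agent.Lib.M24Elt.AutM22Outer
import Cfsg.Agent.Lib.M24Elt.AutOuter
import Cfsg.Agent.Lib.M24Elt.Classes
import Cfsg.Agent.Lib.Golay.Mathieu
-- import your own Cfsg.Agent.* helpers here

set_option autoImplicit false
open Cfsg

namespace Cfsg.Agent.S2062

open Cfsg CfsgLib.Comp CfsgLib.Golay CfsgLib.M24Elt

/-- Membership test for M22. -/
noncomputable def mem22 (c : ℕ) : Bool :=
  good c && Nat.beq (PermCode.get c 23) 23 && Nat.beq (PermCode.get c 0) 0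

theorem mem22_spec (c : ℕ) (h : mem22 c = true) : PermCode.Ok 24 c ∧ pm c ∈ Spor.M22 := by
  simp only [mem22, Bool.and_eq_true] at h
  refine ⟨good_ok h.1.1, ⟨pm_mem h.1.1, bit_injective ?_⟩, bit_injective ?_⟩ <;>
    rw [Equiv.Perm.smul_def, bit_pm (good_ok h.1.1)]
  · exact Nat.eq_of_beq_eq_true h.1.2
  · exact Nat.eq_of_beq_eq_true h.2

theorem checks : AutBound.baseOk AutM22.cert mem22 = true ∧ AutBound.closureOk AutM22.cert = true ∧
    AutBound.classesOk AutM22.cert mem22 = true ∧ AutBound.sylOk AutM22.cert mem22 (fun _ => false) = true ∧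
    AutBound.pairsOk AutM22.cert = true := by
  decide +kernel

theorem out_le : Nat.card (Cfsg.Out ↥Spor.M22) ≤ 2 := by
  haveI : Fact (Nat.Prime AutM22.cert.p) := ⟨show Nat.Prime 11 by norm_num⟩
  obtain ⟨h1, h2, h3, h4, h5⟩ := checks
  exact AutBound.card_out_le' mem22_spec h1 h2 h3 h4 h5 card_M22 AutM22.gen_card (by decide +kernel)
    AutM22.syl_card (by decide +kernel) (T := fun _ => True) (fun _ _ _ => trivial) (fun _ _ h => Bool.noConfusion h)
    (fun _ _ _ => trivial)

theorem outer_checks :
    (good AutM22.outer && mem22 AutM22.outerImg.1 && mem22 AutM22.outerImg.2 &&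
      eqc (PermCode.mul 24 AutM22.outer AutM22.cert.x) (PermCode.mul 24 AutM22.outerImg.1 AutM22.outer) &&
      eqc (PermCode.mul 24 AutM22.outer AutM22.cert.y) (PermCode.mul 24 AutM22.outerImg.2 AutM22.outer) &&
      AutM22.sep.all (AutBound.sepOk AutM22.cert.x AutM22.cert.y 1)) = true := by
  decide +kernel

theorem closure_eq :
    Subgroup.closure {pm AutM22.cert.x, pm AutM22.cert.y} = (Spor.M22 : Subgroup (Equiv.Perm GolayPt)) := by
  obtain ⟨⟨hx, hy, -, -⟩, -⟩ := AutBound.base_spec mem22_spec checks.1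
  refine Subgroup.eq_of_le_of_card_ge ((Subgroup.closure_le _).2 ?_) ?_
  · rintro z (rfl | rfl)
    · exact hx
    · exact hy
  · rw [card_M22, ← AutM22.gen_card, ← card_spanPts]
    refine Nat.card_le_card_of_injective _ (Subgroup.inclusion_injective (spanPts_le fun s hs => ?_))
    simp only [AutM22.genGens, List.mem_cons, List.not_mem_nil, or_false] at hs
    rcases hs with rfl | rfl
    · exact Subgroup.subset_closure (Or.inl rfl)
    · exact Subgroup.subset_closure (Or.inr rfl)

theorem two_le : 2 ≤ Nat.card (Cfsg.Out ↥Spor.M22) := by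
  have h := outer_checks
  simp only [Bool.and_eq_true] at h
  obtain ⟨⟨⟨⟨⟨hg, h1⟩, h2⟩, e1⟩, e2⟩, hsep⟩ := h
  obtain ⟨ox, hx⟩ := mem22_spec _ h1
  obtain ⟨oy, hy⟩ := mem22_spec _ h2
  have hb := checks.1
  simp only [AutBound.baseOk, Bool.and_eq_true] at hb
  obtain ⟨oX, hX⟩ := mem22_spec _ hb.1.1.1.1.1.1.1.1.1.1
  obtain ⟨oY, hY⟩ := mem22_spec _ hb.1.1.1.1.1.1.1.1.1.2
  have og := good_ok hg
  have c1 := pm_eq_of_eqc (ok_pm_mul og oX) (ok_pm_mul ox og) e1
  have c2 := pm_eq_of_eqc (ok_pm_mul og oY) (ok_pm_mul oy og) e2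
  rw [pm_mul og oX, pm_mul ox og] at c1
  rw [pm_mul og oY, pm_mul oy og] at c2
  refine AutBound.two_le_card_out (g := pm AutM22.outer) ?_ fun h hh hcomm => ?_
  · rw [← closure_eq]
    exact AutBound.map_conj_of_gens (by rw [c1, mul_inv_cancel_right, closure_eq]; exact hx)
      (by rw [c2, mul_inv_cancel_right, closure_eq]; exact hy)
  have hux := hcomm _ hX
  have huy := hcomm _ hY
  generalize hu : h⁻¹ * pm AutM22.outer = u at hux huy
  have hum : u ∈ M24 := hu ▸ mul_mem (inv_mem hh.1.1) (pm_mem hg)
  have hh0 : h⁻¹ (some 0) = some 0 := by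
    conv_lhs => rw [← MulAction.mem_stabilizer_iff.1 hh.2, Equiv.Perm.smul_def]
    exact perm_inv_apply h _
  have hnone : u none = some 0 := by
    rw [← hu, Equiv.Perm.mul_apply, show pm AutM22.outer none = some 0 from
      bit_injective (by rw [bit_pm og]; decide +kernel), hh0]
  have hzero : u (some 0) = none := by
    rw [← hu, Equiv.Perm.mul_apply, show pm AutM22.outer (some 0) = none from
      bit_injective (by rw [bit_pm og]; decide +kernel)]
    conv_lhs => rw [← MulAction.mem_stabilizer_iff.1 hh.1.2, Equiv.Perm.smul_def]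
    exact perm_inv_apply h _
  have hone : u (some 1) = some 1 := by
    by_contra hne
    obtain ⟨s, hs, hse⟩ := (by decide +kernel : ∀ j : GolayPt, j ≠ some 1 →
      ∃ s ∈ AutM22.sep, s.1 = bit j) _ hne
    exact AutBound.sep_spec oX oY (List.all_eq_true.1 hsep s hs) hux huy (a := some 1)
      (by decide +kernel) hse.symm
  let S : List GolayPt := AutM22.spread.map fun w => CfsgLib.Golay.pt (PermCode.get
    (AutBound.evalW AutM22.cert.x AutM22.cert.y w) 1)
  have hS : S.toFinset ⊆ Finset.univ.filter fun p => u p = p := by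
    intro p hp
    rw [List.mem_toFinset, List.mem_map] at hp
    obtain ⟨w, -, rfl⟩ := hp
    obtain ⟨ow, ew⟩ := AutBound.evalW_spec oX oY w
    have hc : Commute u (pm (AutBound.evalW AutM22.cert.x AutM22.cert.y w)) := by
      rw [ew, AutBound.wordProd]
      refine Commute.list_prod_right _ _ fun z hz => ?_
      obtain ⟨t, -, rfl⟩ := List.mem_map.1 hz
      cases t
      · exact hux
      · exact huy
    generalize AutBound.evalW AutM22.cert.x AutM22.cert.y w = v at ow hc
    have e : CfsgLib.Golay.pt (PermCode.get v 1) = pm v (some 1) := by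
      rw [← pt_bit (pm v (some 1)), bit_pm ow]
      rfl
    refine Finset.mem_filter.2 ⟨Finset.mem_univ _, ?_⟩
    rw [e]
    exact (DFunLike.congr_fun hc.eq (some 1)).trans (by rw [Equiv.Perm.mul_apply, hone])
  have hall : (List.range 22).all (fun i => (AutM22.spread.map fun w =>
      PermCode.get (AutBound.evalW AutM22.cert.x AutM22.cert.y w) 1).contains (i + 1)) = true := by
    decide +kernel
  have hswap : u = Equiv.swap none (some 0) := by
    apply Equiv.ext
    intro p
    by_cases h1 : p = none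
    · rw [h1, hnone, Equiv.swap_apply_left]
    by_cases h2 : p = some 0
    · rw [h2, hzero, Equiv.swap_apply_right]
    rw [Equiv.swap_apply_of_ne_of_ne h1 h2]
    have hp : p ∈ S.toFinset := by
      have hb : bit p - 1 < 22 ∧ bit p - 1 + 1 = bit p := by
        revert h1 h2; revert p; decide +kernel
      have := List.all_eq_true.1 hall _ (List.mem_range.2 hb.1)
      rw [List.contains_iff_mem, List.mem_map] at this
      obtain ⟨w, hw, he⟩ := this
      exact List.mem_toFinset.2 (List.mem_map.2 ⟨w, hw, by rw [he, hb.2, pt_bit]⟩)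
    exact (Finset.mem_filter.1 (hS hp)).2
  subst hswap
  haveI : Fact (Nat.Prime 2) := ⟨Nat.prime_two⟩
  have ho : orderOf (Equiv.swap (none : GolayPt) (some 0)) = 2 :=
    orderOf_eq_prime (by rw [sq, Equiv.swap_mul_self]) (fun e => by
      have := DFunLike.congr_fun e (none : GolayPt)
      rw [Equiv.swap_apply_left, Equiv.Perm.one_apply] at this
      simp at this)
  have hf : fixCard (Equiv.swap (none : GolayPt) (some 0)) = 22 := by decide +kernel
  rcases involution_class hum ho with ⟨h, -⟩ | ⟨h, -⟩ <;> omega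

/-- The outer automorphism group of the Mathieu group M₂₂ (the permutations in the automorphism group of the length-24 binary code that fix each of two given points) has order 2. -/
theorem result : Nat.card (Cfsg.Out ↥Cfsg.Spor.M22) = 2 := by
  exact le_antisymm out_le two_le

end Cfsg.Agent.S2062
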