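import Cfsg.Statements.S2063
import Cfsg.Agent.Lib.M24Elt.AutM23Data
import Cfsg.Agent.Lib.Golay.Mathieu
-- import your own Cfsg.Agent.* helpers here

set_option autoImplicit false
open Cfsg

namespace Cfsg.Agent.S2063

open Cfsg CfsgLib.Comp CfsgLib.Golay CfsgLib.M24Elt

/-- Membership test for M23. -/
noncomputable def mem23 (c : ℕ) : Bool := good c && Nat.beq (PermCode.get c 23) 23

theorem mem23_spec (c : ℕ) (h : mem23 c = true) : PermCode.Ok 24 c ∧ pm c ∈ Spor.M23 := by
  rw [mem23, Bool.and_eq_true] at h
  refine ⟨good_ok h.1, pm_mem h.1, bit_injective ?_⟩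
  rw [Equiv.Perm.smul_def, bit_pm (good_ok h.1)]
  exact Nat.eq_of_beq_eq_true h.2

theorem checks : AutBound.baseOk AutM23.cert mem23 = true ∧ AutBound.closureOk AutM23.cert = true ∧
    AutBound.classesOk AutM23.cert mem23 = true ∧ AutBound.sylOk AutM23.cert mem23 (fun _ => false) = true ∧
    AutBound.pairsOk AutM23.cert = true := by
  decide +kernel

theorem out_le : Nat.card (Cfsg.Out ↥Spor.M23) ≤ 1 := by
  haveI : Fact (Nat.Prime AutM23.cert.p) := ⟨show Nat.Prime 23 by norm_num⟩
  obtain ⟨h1, h2, h3, h4, h5⟩ := checks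
  exact AutBound.card_out_le' mem23_spec h1 h2 h3 h4 h5 card_M23 AutM23.gen_card (by decide +kernel)
    AutM23.syl_card (by decide +kernel) (T := fun _ => True) (fun _ _ _ => trivial) (fun _ _ h => Bool.noConfusion h)
    (fun _ _ _ => trivial)

/-- The outer automorphism group of the Mathieu group M₂₃ (the stabiliser of a point in the automorphism group of the length-24 binary code) is trivial: every automorphism is inner. -/
theorem result : Nat.card (Cfsg.Out ↥Cfsg.Spor.M23) = 1 := by
  exact le_antisymm out_le Nat.card_pos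

end Cfsg.Agent.S2063
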