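import Cfsg.Statements.S2064
import Cfsg.Agent.Lib.M24Elt.AutM24Data
import Cfsg.Agent.Lib.M24Elt.Classes
import Cfsg.Agent.Lib.M24Elt.Centralisers
-- import your own Cfsg.Agent.* helpers here

set_option autoImplicit false
open Cfsg

namespace Cfsg.Agent.S2064

open Cfsg CfsgLib.Comp CfsgLib.Golay CfsgLib.M24Elt

theorem hmem (c : ℕ) (h : good c = true) : PermCode.Ok 24 c ∧ pm c ∈ M24 := ⟨good_ok h, pm_mem h⟩

theorem checks : AutBound.baseOk AutM24.cert good = true ∧ AutBound.closureOk AutM24.cert = true ∧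
    AutBound.classesOk AutM24.cert good = true ∧ AutBound.sylOk AutM24.cert good (fun c => Nat.beq (fixN c) 0) = true ∧
    AutBound.pairsOk AutM24.cert = true := by
  decide +kernel

theorem card_cz_map (φ : MulAut ↥M24) (y : ↥M24) :
    Nat.card (cz (φ y : Equiv.Perm GolayPt)) = Nat.card (cz (y : Equiv.Perm GolayPt)) := by
  have e : ∀ z : ↥M24, Nat.card (cz (z : Equiv.Perm GolayPt)) = Nat.card (Subgroup.centralizer {z}) := by
    intro z
    refine Nat.card_congr
      { toFun := fun x => ⟨⟨x.1, (mem_cz.1 x.2).1⟩,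
          Subgroup.mem_centralizer_singleton_iff.2 (Subtype.ext (mem_cz.1 x.2).2)⟩
        invFun := fun x => ⟨x.1.1, mem_cz.2 ⟨x.1.2,
          congrArg Subtype.val (Subgroup.mem_centralizer_singleton_iff.1 x.2)⟩⟩
        left_inv := fun x => rfl
        right_inv := fun x => rfl }
  rw [e, e]
  refine (Nat.card_congr
    { toFun := fun x => ⟨φ x.1, Subgroup.mem_centralizer_singleton_iff.2 (by
        rw [← map_mul, ← map_mul, Subgroup.mem_centralizer_singleton_iff.1 x.2])⟩
      invFun := fun x => ⟨φ.symm x.1, Subgroup.mem_centralizer_singleton_iff.2 (φ.injective (by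
        rw [map_mul, map_mul, MulEquiv.apply_symm_apply, Subgroup.mem_centralizer_singleton_iff.1 x.2]))⟩
      left_inv := fun x => Subtype.ext (φ.symm_apply_apply _)
      right_inv := fun x => Subtype.ext (φ.apply_symm_apply _) }).symm

theorem fix_y (φ : MulAut ↥M24) (y : ↥M24)  (hy' : (y : Equiv.Perm GolayPt) = pm AutM24.cert.y) : fixCard (φ y : Equiv.Perm GolayPt) ≠ 0 := by
  intro h0
  obtain ⟨-, ⟨-, -, hy2, hy1⟩, -⟩ := AutBound.base_spec hmem checks.1
  haveI : Fact (Nat.Prime 2) := ⟨Nat.prime_two⟩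
  have ho : orderOf (y : Equiv.Perm GolayPt) = 2 := by rw [hy']; exact orderOf_eq_prime hy2 hy1
  have ho' : orderOf (φ y : Equiv.Perm GolayPt) = 2 := by
    rw [Subgroup.orderOf_coe, φ.orderOf_eq, ← Subgroup.orderOf_coe, ho]
  rcases involution_class (φ y).2 ho' with ⟨h8, -⟩ | ⟨-, u, hu, hue⟩
  · omega
  rcases involution_class y.2 ho with ⟨-, v, hv, hve⟩ | ⟨hf, -⟩
  · have h := card_cz_map φ y
    rw [← hue, ← hve, card_cz_conj hu, card_cz_conj hv, card_cz_rep0, card_cz_rep8] at h
    omega
  · rw [hy', fixCard_pm (PermCode.ok_of_okb (by decide +kernel)),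
      (by decide +kernel : fixN AutM24.cert.y = 8)] at hf
    omega

theorem out_le : Nat.card (Cfsg.Out ↥Cfsg.M24) ≤ 1 := by
  haveI : Fact (Nat.Prime AutM24.cert.p) := ⟨show Nat.Prime 23 by norm_num⟩
  obtain ⟨h1, h2, h3, h4, h5⟩ := checks
  exact AutBound.card_out_le' hmem h1 h2 h3 h4 h5 card_M24 AutM24.gen_card (by decide +kernel)
    AutM24.syl_card (by decide +kernel) (T := fun g => fixCard g ≠ 0) (fun h g e => by rwa [fixCard_conj])
    (fun c ho e t => t ((fixCard_pm ho).trans (Nat.eq_of_beq_eq_true e))) fix_y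

/-- The outer automorphism group of the Mathieu group M₂₄ (the automorphism group of the length-24 binary code) is trivial: every automorphism is inner. -/
theorem result : Nat.card (Cfsg.Out ↥Cfsg.M24) = 1 := by
  exact le_antisymm out_le Nat.card_pos

end Cfsg.Agent.S2064
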