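import Cfsg.Statements.S2072
import Cfsg.Agent.Lib.PermAut.HS.Embed
import Cfsg.Agent.Lib.M24Elt.AutOuter
import Cfsg.Agent.Lib.PermAut.HS.Signs
-- import your own Cfsg.Agent.* helpers here

set_option autoImplicit false
open Cfsg

namespace Cfsg.Agent.S2072

open Cfsg CfsgLib CfsgLib.Comp CfsgLib.PermAut

theorem card_out_congr {G G' : Type} [Group G] [Group G'] (e : G ≃* G') :
    Nat.card (Cfsg.Out G) = Nat.card (Cfsg.Out G') := by
  refine Nat.card_congr (QuotientGroup.congr (Cfsg.Inn G) (Cfsg.Inn G') (MulAut.congr e) ?_).toEquiv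
  ext φ
  constructor
  · rintro ⟨_, ⟨g, rfl⟩, rfl⟩
    exact ⟨e g, MulEquiv.ext fun z => by simp [MulAut.congr]⟩
  · rintro ⟨g, rfl⟩
    exact ⟨_, ⟨e.symm g, rfl⟩, MulEquiv.ext fun z => by simp [MulAut.congr]⟩

/-- A code is the product of the listed transpositions. -/
def swapsOf (l : List (ℕ × ℕ)) : Equiv.Perm (Fin 100) :=
  (l.map fun e => Equiv.swap (Fin.ofNat 100 e.1) (Fin.ofNat 100 e.2)).prod

theorem sign_swapsOf : ∀ l : List (ℕ × ℕ), (∀ e ∈ l, e.1 < 100 ∧ e.2 < 100 ∧ e.1 ≠ e.2) →
    Equiv.Perm.sign (swapsOf l) = (-1) ^ l.length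
  | [], _ => by simp [swapsOf]
  | e :: l, h => by
    have he := h e List.mem_cons_self
    have hne : Fin.ofNat 100 e.1 ≠ Fin.ofNat 100 e.2 := fun q => by
      have := congrArg Fin.val q
      simp only [Fin.ofNat] at this
      rw [Nat.mod_eq_of_lt he.1, Nat.mod_eq_of_lt he.2.1] at this
      exact he.2.2 this
    rw [swapsOf, List.map_cons, List.prod_cons, map_mul, Equiv.Perm.sign_swap hne, List.length_cons,
      pow_succ']
    exact congrArg _ (sign_swapsOf l fun a ha => h a (List.mem_cons_of_mem _ ha))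

theorem sign_code {c : ℕ} {l : List (ℕ × ℕ)} (hok : PermCode.okb 100 c = true)
    (hl : ∀ e ∈ l, e.1 < 100 ∧ e.2 < 100 ∧ e.1 ≠ e.2)
    (h : ∀ i : Fin 100, ((swapsOf l) i : ℕ) = PermCode.get c i) :
    Equiv.Perm.sign (PermCode.val 100 c) = (-1) ^ l.length := by
  rw [PermCode.val_eq_of hok _ h, sign_swapsOf l hl]

theorem grp_out_le : Nat.card (Cfsg.Out ↥HS.grp) ≤ 2 := by
  haveI : Fact (Nat.Prime HS.cert.p) := ⟨show Nat.Prime 11 by norm_num⟩
  exact PermAut.card_out_le' (D := HS.cert) (show (100 : ℕ) ≤ 256 by norm_num) HS.memH_spec HS.base_check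
    HS.tree_check HS.classes_check HS.syl_check' HS.pairs_check HS.class_check HS.cent_card HS.grp_card
    HS.gen_card (by decide +kernel) HS.syl_card (by decide +kernel)

theorem sep_checks : (HS.sep.all (fun s =>
      Nat.beq (PermCode.get (M24Elt.AutBound.evalN 100 HS.cert.x HS.cert.y s.2) 0) 0 !=
        Nat.beq (PermCode.get (M24Elt.AutBound.evalN 100 HS.cert.x HS.cert.y s.2) s.1) s.1) &&
    PermCode.allLt 100 (fun i => HS.spread.any fun w =>
      Nat.beq (PermCode.get (M24Elt.AutBound.evalN 100 HS.cert.x HS.cert.y w) 0) i) &&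
    (List.range 99).all (fun i => HS.sep.any fun s => Nat.beq s.1 (i + 1))) = true := by
  decide +kernel

theorem outer_checks : (PermCode.okb 100 HS.outer && PermCode.okb 100 HS.outerImg.1 && HS.memH HS.outerImg.1 &&
    HS.memH HS.outerImg.2 &&
    Nat.beq (PermCode.mul 100 HS.outer HS.cert.x) (PermCode.mul 100 HS.outerImg.1 HS.outer) &&
    Nat.beq (PermCode.mul 100 HS.outer HS.cert.y) (PermCode.mul 100 HS.outerImg.2 HS.outer)) = true := by
  decide +kernel

theorem outer_odd : Equiv.Perm.sign (PermCode.val 100 HS.outer) = -1 :=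
  (sign_code (l := HS.outerSwaps) (by decide +kernel) (by decide +kernel) (by decide +kernel)).trans
    (Odd.neg_one_pow (by decide +kernel))

theorem x_even : Equiv.Perm.sign (PermCode.val 100 HS.cert.x) = 1 :=
  (sign_code (l := HS.xSwaps) (by decide +kernel) (by decide +kernel) (by decide +kernel)).trans
    (Even.neg_one_pow (by decide +kernel))

theorem y_even : Equiv.Perm.sign (PermCode.val 100 HS.cert.y) = 1 :=
  (sign_code (l := HS.ySwaps) (by decide +kernel) (by decide +kernel) (by decide +kernel)).trans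
    (Even.neg_one_pow (by decide +kernel))

theorem grp_two_le : 2 ≤ Nat.card (Cfsg.Out ↥HS.grp) := by
  have hn : (100 : ℕ) ≤ 256 := by norm_num
  have h := outer_checks
  simp only [Bool.and_eq_true] at h
  obtain ⟨⟨⟨⟨⟨hg, -⟩, h1⟩, h2⟩, e1⟩, e2⟩ := h
  obtain ⟨ox, hx⟩ := HS.memH_spec _ h1
  obtain ⟨oy, hy⟩ := HS.memH_spec _ h2
  obtain ⟨⟨hX, hY, -, -⟩, -, -, -, -, -⟩ :=
    PermAut.base_spec (D := HS.cert) hn HS.memH_spec HS.base_check
  have hb := HS.base_check
  simp only [PermAut.baseOk, Bool.and_eq_true] at hb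
  have oX : PermCode.Ok 100 HS.cert.x := (HS.memH_spec _ hb.1.1.1.1.1.1.1.1.1.1.1.1).1
  have oY : PermCode.Ok 100 HS.cert.y := (HS.memH_spec _ hb.1.1.1.1.1.1.1.1.1.1.1.2).1
  have og := PermCode.ok_of_okb hg
  have hgens : HS.grp = Subgroup.closure {PermCode.val 100 HS.cert.x, PermCode.val 100 HS.cert.y} := by
    refine le_antisymm (PermAut.span_le fun s hs => ?_) ((Subgroup.closure_le _).2 ?_)
    · simp only [HS.genGens, List.mem_cons, List.not_mem_nil, or_false] at hs
      rcases hs with rfl | rfl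
      · exact Subgroup.subset_closure (Or.inl rfl)
      · exact Subgroup.subset_closure (Or.inr rfl)
    · rintro z (rfl | rfl)
      · exact hX
      · exact hY
  have c1 := congrArg (PermCode.val 100) (Nat.eq_of_beq_eq_true e1)
  have c2 := congrArg (PermCode.val 100) (Nat.eq_of_beq_eq_true e2)
  rw [PermCode.val_mul hn og oX, PermCode.val_mul hn ox og] at c1
  rw [PermCode.val_mul hn og oY, PermCode.val_mul hn oy og] at c2
  refine M24Elt.AutBound.two_le_card_out (g := PermCode.val 100 HS.outer) ?_ fun h hh hcomm => ?_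
  · rw [hgens]
    refine M24Elt.AutBound.map_conj_of_gens ?_ ?_
    · rw [c1, mul_inv_cancel_right, ← hgens]; exact hx
    · rw [c2, mul_inv_cancel_right, ← hgens]; exact hy
  have hux := hcomm _ hX
  have huy := hcomm _ hY
  have hsign : Equiv.Perm.sign h = 1 := by
    have hle : HS.grp ≤ (Equiv.Perm.sign : Equiv.Perm (Fin 100) →* ℤˣ).ker := by
      rw [hgens, Subgroup.closure_le]
      rintro z (rfl | rfl)
      · exact x_even
      · exact y_even
    exact MonoidHom.mem_ker.1 (hle hh)
  generalize hu : h⁻¹ * PermCode.val 100 HS.outer = u at hux huy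
  have hsu : Equiv.Perm.sign u = -1 := by rw [← hu, map_mul, map_inv, hsign, outer_odd, inv_one, one_mul]
  have hchk := sep_checks
  simp only [Bool.and_eq_true, List.all_eq_true] at hchk
  have hcom : ∀ w, Commute u (PermCode.val 100 (M24Elt.AutBound.evalN 100 HS.cert.x HS.cert.y w)) := by
    intro w
    rw [(M24Elt.AutBound.evalN_spec hn oX oY w).2, M24Elt.AutBound.wordProd]
    refine Commute.list_prod_right _ _ fun z hz => ?_
    obtain ⟨t, -, rfl⟩ := List.mem_map.1 hz
    cases t
    · exact hux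
    · exact huy
  have h0 : u 0 = 0 := by
    by_contra hne
    have hpos : 0 < (u 0 : ℕ) := Nat.pos_of_ne_zero fun e => hne (Fin.ext e)
    obtain ⟨s, hs, hse⟩ := List.any_eq_true.1 (hchk.2 ((u 0 : ℕ) - 1) (List.mem_range.2 (by omega)))
    have hse' : s.1 = (u 0 : ℕ) := by rw [Nat.eq_of_beq_eq_true hse]; omega
    have h1 := hchk.1.1 s hs
    have hc := hcom s.2
    have ho := (M24Elt.AutBound.evalN_spec hn oX oY s.2).1
    generalize M24Elt.AutBound.evalN 100 HS.cert.x HS.cert.y s.2 = v at h1 hc ho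
    have key : PermCode.val 100 v 0 = 0 ↔ PermCode.val 100 v (u 0) = u 0 := by
      have e2 : PermCode.val 100 v (u 0) = u (PermCode.val 100 v 0) := (DFunLike.congr_fun hc.eq 0).symm
      rw [e2, u.injective.eq_iff]
    rw [Fin.ext_iff, Fin.ext_iff, PermCode.val_apply ho, PermCode.val_apply ho, ← hse'] at key
    have e3 : Nat.beq (PermCode.get v 0) 0 = Nat.beq (PermCode.get v s.1) s.1 := by
      rw [Bool.eq_iff_iff, Nat.beq_eq, Nat.beq_eq]
      exact key
    rw [e3] at h1
    simp at h1
  have hone : u = 1 := by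
    apply Equiv.ext
    intro i
    obtain ⟨w, -, hw⟩ := List.any_eq_true.1 (PermCode.allLt_spec hchk.1.2 i i.2)
    have ho := (M24Elt.AutBound.evalN_spec hn oX oY w).1
    have hi : PermCode.val 100 (M24Elt.AutBound.evalN 100 HS.cert.x HS.cert.y w) 0 = i :=
      Fin.ext ((PermCode.val_apply ho 0).trans (Nat.eq_of_beq_eq_true hw))
    conv_lhs => rw [← hi]
    exact ((DFunLike.congr_fun (hcom w).eq 0).trans (by rw [Equiv.Perm.mul_apply, h0, hi, Equiv.Perm.one_apply]))
  rw [hone, map_one] at hsu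
  exact absurd hsu (by decide)

/-- The outer automorphism group of the Higman–Sims group (as a two-vector stabiliser in the automorphism group of the rank-24 lattice) has order 2. -/
theorem result : Nat.card (Cfsg.Out ↥Cfsg.Spor.HS) = 2 := by
  obtain ⟨e⟩ := HS.nonempty_equiv
  rw [card_out_congr e]
  exact le_antisymm grp_out_le grp_two_le

end Cfsg.Agent.S2072
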