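import Cfsg.Statements.S2087
import Cfsg.Agent.Lib.SLCover.Universal
import Cfsg.Agent.Lib.Schur.SL2
import Cfsg.Agent.Lib.Linear.PSL2Seven
import Cfsg.Agent.Lib.Linear.Transvection
-- import your own Cfsg.Agent.* helpers here

set_option autoImplicit false
open Cfsg

namespace Cfsg.Agent.S2087

universe u

theorem key {F : Type u} [Field F] [Fintype F] (hF : Fintype.card F = 2) :
    Cfsg.HasCyclicSchurMultiplier (Matrix.ProjectiveSpecialLinearGroup (Fin 3) F) 2 := by
  haveI : Fact (Nat.Prime 7) := ⟨by norm_num⟩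
  haveI : Fact (Nat.Prime 2) := ⟨Nat.prime_two⟩
  let K := ULift.{u} (ZMod 7)
  have hK : Fintype.card K = 7 := by simp [K]
  obtain ⟨e⟩ := CfsgLib.Linear.PSL2Seven.exists_PSL2_equiv_PSL3 (F := K) (K := F) hK hF
  have hperf : commutator (Matrix.SpecialLinearGroup (Fin 2) K) = ⊤ :=
    CfsgLib.Linear.commutator_SL_eq_top
      (Or.inr (CfsgLib.Linear.exists_sq_ne_one_of_four_le_card (by rw [Nat.card_eq_fintype_card, hK]; norm_num)))
  have hcard : Nat.card (Subgroup.center (Matrix.SpecialLinearGroup (Fin 2) K)) = 2 := by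
    rw [CfsgLib.Linear.card_center_SL, Fintype.card_fin, hK]
    rfl
  have hcyc : IsCyclic (Subgroup.center (Matrix.SpecialLinearGroup (Fin 2) K)) :=
    isCyclic_of_prime_card (p := 2) hcard
  let π := e.toMonoidHom.comp (QuotientGroup.mk' (Subgroup.center (Matrix.SpecialLinearGroup (Fin 2) K)))
  have hker : π.ker = Subgroup.center (Matrix.SpecialLinearGroup (Fin 2) K) := by
    ext x
    simp [π, QuotientGroup.eq_one_iff]
  refine CfsgLib.SLCover.hasSchurMultiplier_of_closed π
    (e.surjective.comp (QuotientGroup.mk'_surjective _)) (le_of_eq hker) hperf ?_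
    ((MulEquiv.subgroupCongr hker).trans ((zmodCyclicMulEquiv hcyc).symm.trans
      (AddEquiv.toMultiplicative (ZMod.ringEquivCongr hcard).toAddEquiv)))
  intro E _ _ p hps hpc hpp
  exact (MonoidHom.ker_eq_bot_iff p).1
    (CfsgLib.SchurSL2.stem_ker_eq_bot (by omega) (by omega) p ⟨hps, hpc, hpp ▸ le_top⟩)

/-- Exceptional Schur multiplier: over the field with 2 elements, PSL₃ has Schur multiplier cyclic of order 2 (here the Schur multiplier is described through stem extensions, as in the definitions). -/
theorem result {F : Type*} [Field F] [Fintype F] (hF : Fintype.card F = 2) : Cfsg.HasCyclicSchurMultiplier (Matrix.ProjectiveSpecialLinearGroup (Fin 3) F) 2 := by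
  exact key hF

end Cfsg.Agent.S2087
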