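import Cfsg.Statements.S2089
import Cfsg.Agent.Lib.PSUCover.Main
import Cfsg.Agent.Lib.PSUCover.UnipMain
import Cfsg.Agent.Lib.SLCover.Universal
-- import your own Cfsg.Agent.* helpers here

set_option autoImplicit false
open Cfsg

namespace Cfsg.Agent.S2089

open CfsgLib.PSUCover CfsgLib.Classical.Herm

theorem noExt_all {F : Type*} [Field F] [Fintype F] (n q : ℕ) (hF : Fintype.card F = q ^ 2)
    (hn : 3 ≤ n) (h3 : ¬ (n = 3 ∧ q = 2)) (hexc : (n, q) ∉ ({(4, 2), (4, 3), (6, 2)} : Set (ℕ × ℕ)))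
    (ℓ : ℕ) : NoExt (stdHerm hF n) ℓ := by
  simp only [Set.mem_insert_iff, Set.mem_singleton_iff, Prod.mk.injEq, not_or] at hexc
  obtain ⟨e42, e43, e62⟩ := hexc
  have hq1 : 1 < q := one_lt_q' hF
  obtain ⟨p, e, hp, hc, -⟩ := exists_charP_pow hF
  haveI := Fact.mk hp
  haveI := hc
  rcases (show n = 3 ∨ n = 4 ∨ 5 ≤ n by omega) with rfl | rfl | hn5
  · have hq : 3 ≤ q := by omega
    by_cases hl : ℓ = p
    · subst hl; exact noExt_three_char hF hq
    · exact noExt_three_ne hF hq hl
  · have hq : 4 ≤ q := by omega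
    by_cases hl : ℓ = p
    · subst hl; exact noExt_four_char hF hq
    · exact noExt_four_ne hF (by omega) hl
  refine noExt_of_five hF ?_ hn5 e62
  by_cases hl : ℓ = p
  · subst hl
    rcases Nat.lt_or_ge q 4 with h | h
    · exact noExt_five_char hF (by omega)
    · exact noExt_step hF le_rfl (fun h2 => by omega) (noExt_four_char hF h)
  · exact noExt_five_ne hF hl

theorem key {F : Type*} [Field F] [Fintype F] (n q : ℕ) (hF : Fintype.card F = q ^ 2)
    (hn : 3 ≤ n) (h3 : ¬ (n = 3 ∧ q = 2)) (hexc : (n, q) ∉ ({(4, 2), (4, 3), (6, 2)} : Set (ℕ × ℕ))) :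
    Cfsg.HasCyclicSchurMultiplier (Cfsg.PSU n F q) (Nat.gcd n (q + 1)) := by
  have hcyc := isCyclic_center_su hF hn
  have hcard : Nat.card (Subgroup.center (Cfsg.SU n F q)) = Nat.gcd n (q + 1) := card_center_su hF hn
  haveI : Finite (Matrix.SpecialLinearGroup (Fin n) F) := inferInstance
  refine CfsgLib.SLCover.hasSchurMultiplier_of_closed
    (QuotientGroup.mk' (Subgroup.center (Cfsg.SU n F q)))
    (QuotientGroup.mk'_surjective _) (by rw [QuotientGroup.ker_mk']) (commutator_su hF hn h3) ?_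
    ((MulEquiv.subgroupCongr (QuotientGroup.ker_mk' _)).trans
      ((zmodCyclicMulEquiv hcyc).symm.trans
        (AddEquiv.toMultiplicative (ZMod.ringEquivCongr hcard).toAddEquiv)))
  intro E _ _ π hs hc hp
  exact injective_of_noExt hF (fun ℓ _ => noExt_all n q hF hn h3 hexc ℓ) π hs hc hp

/-- Schur multipliers of the unitary groups: for n ≥ 3 and a field F with q² elements, (n, q) ≠ (3, 2), apart from the exceptional pairs (n, q) = (4, 2), (4, 3), (6, 2), the Schur multiplier of PSU_n(q) is cyclic of order gcd(n, q + 1); here the Schur multiplier is described through stem extensions, as in the definitions. -/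
theorem result {F : Type*} [Field F] [Fintype F] (n q : ℕ) (hF : Fintype.card F = q ^ 2) (hn : 3 ≤ n) (h3 : ¬ (n = 3 ∧ q = 2)) (hexc : (n, q) ∉ ({(4, 2), (4, 3), (6, 2)} : Set (ℕ × ℕ))) : Cfsg.HasCyclicSchurMultiplier (Cfsg.PSU n F q) (Nat.gcd n (q + 1)) := by
  exact key n q hF hn h3 hexc

end Cfsg.Agent.S2089
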