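import Cfsg.Statements.S2099
import Cfsg.Agent.Lib.SpinMinus.Spin
import Cfsg.Agent.Lib.SpinMinus.Bound

set_option autoImplicit false
open Cfsg

namespace Cfsg.Agent.S2099

/-- Schur multipliers of the even-dimensional orthogonal groups of minus type: for l ≥ 4 and a field F with q elements, the Schur multiplier of PΩ⁻_2l(F) (for the form Σ_{i<l−1} xᵢyᵢ + z₁² + a z₁z₂ + b z₂² with the binary part anisotropic) is cyclic of order gcd(4, q^l + 1); here the Schur multiplier is described through stem extensions, as in the definitions. -/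
theorem result {F : Type*} [Field F] [Fintype F] {q : ℕ} (hF : Fintype.card F = q) (l : ℕ) (hl : 4 ≤ l) (a b : F) (hab : ∀ z₁ z₂ : F, z₁ ^ 2 + a * z₁ * z₂ + b * z₂ ^ 2 = 0 → z₁ = 0 ∧ z₂ = 0) : Cfsg.HasCyclicSchurMultiplier (Cfsg.POmega F (Cfsg.quadFormMinus (l - 1) F a b)) (Nat.gcd 4 (q ^ l + 1)) := by
  subst hF
  obtain ⟨m, rfl⟩ : ∃ m, l = m + 1 := ⟨l - 1, by omega⟩
  show Cfsg.HasCyclicSchurMultiplier (Cfsg.POmega F (Cfsg.quadFormMinus m F a b)) _
  refine CfsgLib.SpinMinus.multiplier_minus (by omega) hab fun E _ _ σ C hperf => ?_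
  have h := CfsgLib.SpinMinus.kernel_bound C hperf
  have hiff : (2 : F) ≠ 0 ↔ Odd (Nat.card F) := CfsgLib.Classical.Quad.two_ne_zero_iff_odd
  by_cases h2 : (2 : F) = 0
  · rw [if_pos h2] at h
    rwa [if_pos (by
      by_contra e
      exact hiff.2 (by rw [Nat.card_eq_fintype_card, Nat.odd_iff]; omega) h2)]
  · rw [if_neg h2] at h
    have := hiff.1 h2
    rw [Nat.card_eq_fintype_card, Nat.odd_iff] at this
    rwa [if_neg (by omega)]

end Cfsg.Agent.S2099
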