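import Cfsg.Statements.S2101
import Cfsg.Agent.Lib.SchurTable.TwoLevel
import Cfsg.Agent.Lib.SchurTable.PairCover
import Cfsg.Agent.Lib.SchurTable.GTwoThreeChecks
import Cfsg.Agent.Lib.SchurTable.GTwoThreeModel
import Cfsg.Agent.Lib.Chev.OrderCases
import Cfsg.Agent.Lib.Chevalley.FieldMap

set_option autoImplicit false
open Cfsg

namespace Cfsg.Agent.S2101

/-- Exceptional Schur multiplier: over the field with 3 elements the Chevalley group of type G₂ has Schur multiplier cyclic of order 3 (here the Schur multiplier is described through stem extensions, as in the definitions). -/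
theorem result {F : Type*} [Field F] [Fintype F] (hF : Fintype.card F = 3) : Cfsg.HasCyclicSchurMultiplier ↥(Cfsg.Lie.chevG2.group F) 3 := by
  open CfsgLib.SchurTable in open CfsgLib.SchurTable.GTwoThree in
  exact (by
    haveI : Fact (Nat.Prime 3) := ⟨Nat.prime_three⟩
    let f : ZMod 3 ≃+* F := ZMod.ringEquivOfPrime F Nat.prime_three hF
    let e : Cfsg.Lie.chevG2.group (ZMod 3) ≃* Cfsg.Lie.chevG2.group F :=
      CfsgLib.Chevalley.groupFieldEquiv Cfsg.Lie.chevG2 f
    let φ : FreeGroup (Fin 2) →* Cfsg.Lie.chevG2.group F := e.toMonoidHom.comp pres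
    have hφ : Function.Surjective φ := e.surjective.comp pres_surjective
    have hrel : ∀ r ∈ data.rels, φ (wval fgen r) = 1 := fun r hr => by
      show e (pres (wval fgen r)) = 1
      rw [pres_rel r hr, map_one]
    have hcard : Nat.card (Cfsg.Lie.chevG2.group F) = 4245696 := by
      rw [CfsgLib.Chev.card_group_G2 hF]; norm_num
    have : Finite (Cfsg.Lie.chevG2.group F) := Nat.finite_of_card_ne_zero (by omega)
    have hkers := Level.exact_two φ linked hφ hrel
      (by rw [hcard]; exact le_of_eq (by decide +kernel))
    let iso : ZMod 3 × ZMod 1 ≃+ ZMod 3 :=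
      { toFun := fun p => p.1, invFun := fun a => (a, 0),
        left_inv := fun p => Prod.ext rfl (Subsingleton.elim _ _), right_inv := fun _ => rfl,
        map_add' := fun _ _ => rfl }
    refine ⟨?_, fun Γ _ _ σ hσ => ?_⟩
    · obtain ⟨Γ, σ, hfin, hσ, ⟨hiso⟩⟩ := exists_pair_cover data.toData labels 3 1 φ hφ hkers.1 inv_true
        (by decide +kernel) pairs_true range_true (by decide +kernel) (L1 := [6]) (L2 := [])
        (by decide +kernel) (by decide +kernel) (by decide +kernel) (by decide +kernel)
        (j0 := 0) (j1 := 1) (m0 := 2) (m1 := 13)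
        (by decide +kernel) (by decide +kernel) (by decide +kernel) (by decide +kernel)
        (by decide +kernel) (by decide +kernel) (by decide +kernel)
      exact ⟨Γ, inferInstance, hfin, σ, hσ, ⟨hiso.trans iso.toMultiplicative⟩⟩
    · obtain ⟨π, hπ⟩ := Level.exists_onto φ hφ linked hkers subBound_true bound_true σ hσ
      exact ⟨π.comp iso.toMultiplicative.symm.toMonoidHom,
        hπ.comp iso.toMultiplicative.symm.surjective⟩)

end Cfsg.Agent.S2101

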