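import Cfsg.Statements.S2103
import Cfsg.Agent.Lib.Steinberg.Multiplier
import Cfsg.Agent.Lib.Steinberg.Lift.Mid

set_option autoImplicit false
open Cfsg

namespace Cfsg.Agent.S2103

/-- Schur multipliers of the Chevalley groups of type F₄: over a finite field with more than 2 elements the Schur multiplier of F₄(q) is trivial (here the Schur multiplier is described through stem extensions, as in the definitions); q = 2 is exceptional. -/
theorem result {F : Type*} [Field F] [Fintype F] (hF : 3 ≤ Fintype.card F) : Cfsg.HasCyclicSchurMultiplier ↥(Cfsg.Lie.chevF4.group F) 1 := by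
  obtain ⟨T, S⟩ := CfsgLib.Steinberg.exists_setup (D := Cfsg.Lie.chevF4) (by simp)
  have hK : ∃ s : Finset F, 2 < s.card := ⟨Finset.univ, by rw [Finset.card_univ]; omega⟩
  exact CfsgLib.Steinberg.hasCyclicSchurMultiplier_group_one S
    (CfsgLib.Steinberg.cover_perfect_mid S CfsgLib.Steinberg.selfDataF4 hK)
    (fun _ _ p hp hpc => CfsgLib.Steinberg.coverSplits_mid S CfsgLib.Steinberg.selfDataF4
      CfsgLib.Steinberg.pairDataF4 hK p hp hpc)
    CfsgLib.Steinberg.centerOkF4 rfl

end Cfsg.Agent.S2103
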