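import Cfsg.Statements.S2105
import Cfsg.Agent.Lib.Steinberg.Multiplier
import Cfsg.Agent.Lib.Steinberg.Lift.Mid
import Cfsg.Agent.Lib.Steinberg.Lift.E2
import Cfsg.Agent.Lib.Steinberg.Embed

set_option autoImplicit false
open Cfsg

namespace Cfsg.Agent.S2105

/-- Schur multipliers of the (adjoint, simple) Chevalley groups of type E₆: over a field with q elements the Schur multiplier is cyclic of order gcd(3, q − 1) (here the Schur multiplier is described through stem extensions, as in the definitions). -/
theorem result {F : Type*} [Field F] [Fintype F] {q : ℕ} (hF : Fintype.card F = q) : Cfsg.HasCyclicSchurMultiplier ↥(Cfsg.Lie.chevE6.group F) (Nat.gcd 3 (q - 1)) := by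
  subst hF
  obtain ⟨T, S⟩ := CfsgLib.Steinberg.exists_setup (D := Cfsg.Lie.chevE6) (by simp)
  have key : commutator (Cfsg.Lie.chevE6.SteinbergCover F) = ⊤ ∧
      CfsgLib.Steinberg.CoverSplits Cfsg.Lie.chevE6 F := by
    rcases Nat.lt_or_ge 2 (Fintype.card F) with h | h
    · have hK : ∃ s : Finset F, 2 < s.card := ⟨Finset.univ, by rw [Finset.card_univ]; omega⟩
      exact ⟨CfsgLib.Steinberg.cover_perfect_mid S CfsgLib.Steinberg.selfDataE6 hK,
        fun _ _ p hp hpc => CfsgLib.Steinberg.coverSplits_mid S CfsgLib.Steinberg.selfDataE6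
          CfsgLib.Steinberg.pairDataE6 hK p hp hpc⟩
    · have h2 : CfsgLib.Steinberg.TwoElem F := fun t => by
        classical
        by_contra hcon
        push Not at hcon
        have : ({0, 1, t} : Finset F).card ≤ 2 := le_trans (Finset.card_le_univ _) h
        rw [Finset.card_insert_of_notMem (by simp [hcon.1.symm]),
          Finset.card_insert_of_notMem (by simp [hcon.2.symm]), Finset.card_singleton] at this
        omega
      exact ⟨CfsgLib.Steinberg.cover_perfect_two S h2 CfsgLib.Steinberg.twoDataE6,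
        fun _ _ p hp hpc => CfsgLib.Steinberg.coverSplits_two S h2 CfsgLib.Steinberg.twoDataE6 p hp hpc⟩
  obtain ⟨T', S'⟩ := CfsgLib.Steinberg.exists_setup (D := Cfsg.Lie.chevE7) (by simp)
  exact CfsgLib.Steinberg.hasSchurMultiplier_group S key.1 key.2 fun θ hθ =>
    CfsgLib.Steinberg.nonempty_ker_equiv (j := ⟨6, by decide +kernel⟩) S S' CfsgLib.Steinberg.shortE6 CfsgLib.Steinberg.shortE7
      CfsgLib.Steinberg.embOkE6 CfsgLib.Steinberg.centerOkE6 Nat.prime_three CfsgLib.Steinberg.embSumE6 θ hθ

end Cfsg.Agent.S2105
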