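import Cfsg.Statements.S2107
import Cfsg.Agent.Lib.Steinberg.Multiplier
import Cfsg.Agent.Lib.Steinberg.Lift.Mid
import Cfsg.Agent.Lib.Steinberg.Lift.E2

set_option autoImplicit false
open Cfsg

namespace Cfsg.Agent.S2107

/-- Schur multipliers of the Chevalley groups of type E₈: over every finite field the Schur multiplier of E₈(q) is trivial (here the Schur multiplier is described through stem extensions, as in the definitions). -/
theorem result {F : Type*} [Field F] [Fintype F] : Cfsg.HasCyclicSchurMultiplier ↥(Cfsg.Lie.chevE8.group F) 1 := by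
  obtain ⟨T, S⟩ := CfsgLib.Steinberg.exists_setup (D := Cfsg.Lie.chevE8) (by simp)
  have key : commutator (Cfsg.Lie.chevE8.SteinbergCover F) = ⊤ ∧
      CfsgLib.Steinberg.CoverSplits Cfsg.Lie.chevE8 F := by
    rcases Nat.lt_or_ge 2 (Fintype.card F) with h | h
    · have hK : ∃ s : Finset F, 2 < s.card := ⟨Finset.univ, by rw [Finset.card_univ]; omega⟩
      exact ⟨CfsgLib.Steinberg.cover_perfect_mid S CfsgLib.Steinberg.selfDataE8 hK,
        fun _ _ p hp hpc => CfsgLib.Steinberg.coverSplits_mid S CfsgLib.Steinberg.selfDataE8
          CfsgLib.Steinberg.pairDataE8 hK p hp hpc⟩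
    · have h2 : CfsgLib.Steinberg.TwoElem F := fun t => by
        classical
        by_contra hcon
        push Not at hcon
        have : ({0, 1, t} : Finset F).card ≤ 2 := le_trans (Finset.card_le_univ _) h
        rw [Finset.card_insert_of_notMem (by simp [hcon.1.symm]),
          Finset.card_insert_of_notMem (by simp [hcon.2.symm]), Finset.card_singleton] at this
        omega
      exact ⟨CfsgLib.Steinberg.cover_perfect_two S h2 CfsgLib.Steinberg.twoDataE8,
        fun _ _ p hp hpc => CfsgLib.Steinberg.coverSplits_two S h2 CfsgLib.Steinberg.twoDataE8 p hp hpc⟩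
  exact CfsgLib.Steinberg.hasCyclicSchurMultiplier_group_one S key.1 key.2
    CfsgLib.Steinberg.centerOkE8 rfl

end Cfsg.Agent.S2107
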