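import Cfsg.Statements.S2112
import Cfsg.Agent.Lib.SchurTable.SzEightModel
import Cfsg.Agent.Lib.SchurTable.SzEightEdges
import Cfsg.Agent.Lib.SchurTable.SzEightChecks

set_option autoImplicit false
open Cfsg

namespace Cfsg.Agent.S2112

/-- Exceptional Schur multiplier: the Suzuki group Sz(8), built over the field with 8 elements using the map x ↦ x⁴, has Schur multiplier a four-group, the product of two cyclic groups of order 2 (here the Schur multiplier is described through stem extensions, as in the definitions). -/
theorem result {F : Type*} [Field F] [Fintype F] (hF : Fintype.card F = 8) : Cfsg.HasSchurMultiplier ↥(Cfsg.Lie.Sz F 4) (Multiplicative (ZMod 2 × ZMod 2)) := by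
  open CfsgLib.SchurTable CfsgLib.SchurTable.SzEight in
  exact (by
    have h : CfsgLib.Suzuki.SzHyp F 1 := ⟨le_rfl, by rw [hF]; norm_num⟩
    obtain ⟨α, hα⟩ := exists_root hF h
    let e : Cfsg.Sz F 1 ≃* Cfsg.Lie.Sz F 4 := CfsgLib.SuzukiMatrix.szEquiv h
    let φ : FreeGroup (Fin 2) →* Cfsg.Lie.Sz F 4 := e.toMonoidHom.comp (pres h α)
    have hφ : Function.Surjective φ := e.surjective.comp (pres_surjective h hα hF)
    have hrel : ∀ i < data.rels.length, φ (wval fgen (data.rels.getD i [])) = 1 := fun i hi => by
      show e (pres h α (wval fgen (relWords.getD i []))) = 1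
      rw [pres_rel h hα i hi, map_one]
    have hcard : Nat.card (Cfsg.Lie.Sz F 4) = 29120 := by
      rw [← Nat.card_congr e.toEquiv, CfsgLib.Suzuki.card h]; norm_num
    have : Finite (Cfsg.Lie.Sz F 4) := Nat.finite_of_card_ne_zero (by omega)
    have hn : 0 < data.n := by decide +kernel
    have hker : φ.ker = Subgroup.normalClosure (relSet data) :=
      ker_eq_normalClosure data φ hφ hrel checkEdges_true checkInv_true hn (m := 13) (j := 1)
        (by norm_num) (by decide +kernel) (by decide +kernel)
        (by rw [hcard]; exact le_of_eq (by decide +kernel))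
    refine ⟨?_, fun Γ _ _ σ hσ =>
      exists_four_onto data bound φ hφ hker checkEdges_true checkBound_true σ hσ⟩
    obtain ⟨Γ, σ, hσ, hiso⟩ := exists_cover data φ labels hφ hker checkInv_true hn checkCover_true
      (by decide +kernel) (i1 := 4) (i2 := 6) (j0 := 0) (j1 := 1) (m0 := 5) (m1 := 13)
      (by decide +kernel) (by decide +kernel) (by decide +kernel) (by decide +kernel)
      (by decide +kernel) (by decide +kernel) (by decide +kernel)
      (by decide +kernel) (by decide +kernel) (by decide +kernel) (by decide +kernel)
    exact ⟨Γ, inferInstance, inferInstance, σ, hσ, hiso⟩)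

end Cfsg.Agent.S2112
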