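import Cfsg.Statements.S2121
import Cfsg.Agent.Lib.ChevIsog.Auto
import Cfsg.Agent.S2664

set_option autoImplicit false
open Cfsg

namespace Cfsg.Agent.S2121

/-- Outer automorphisms of the Chevalley groups of type G₂: over a field with q = p^f (p prime) ≥ 3 elements, the outer automorphism group of G₂(q) has order f when p ≠ 3 and 2f when p = 3 (field automorphisms, and in characteristic 3 also the exceptional graph automorphism). -/
theorem result {F : Type*} [Field F] [Fintype F] (p f : ℕ) [Fact p.Prime] [CharP F p] (hF : Fintype.card F = p ^ f) (hq : 3 ≤ p ^ f) : Nat.card (Cfsg.Out ↥(Cfsg.Lie.chevG2.group F)) = (if p = 3 then 2 * f else f) := by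
  obtain ⟨T, hc, hcomm⟩ : ∃ T, CfsgLib.Chev.Checked Cfsg.Lie.chevG2 T ∧ CfsgLib.Chev.CommOne Cfsg.Lie.chevG2 T ∧
      T = CfsgLib.Chev.G2.tabs := ⟨_, CfsgLib.ChevIsog.g2_tabs.1, CfsgLib.ChevIsog.g2_tabs.2, rfl⟩
  obtain ⟨hcomm, rfl⟩ := hcomm
  rw [CfsgLib.ChevAut.card_out hc hcomm (by simp), CfsgLib.ChevAut.card_ringAut_of hF,
    MonoidHom.range_eq_top.2 (CfsgLib.ChevField.hPar_surjective Cfsg.Agent.S2664.invCartan_spec),
    Subgroup.index_top, mul_one]
  split
  next h3 =>
    subst h3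
    haveI : CharP F CfsgLib.ChevIsog.g2Data.p := (inferInstance : CharP F 3)
    rw [CfsgLib.ChevIsog.flip_range_card hc hcomm _ CfsgLib.ChevIsog.g2_ok CfsgLib.ChevIsog.g2_root
      (by decide +kernel) (by simp)]
  next h3 =>
    rw [CfsgLib.ChevIsog.range_eq_bot_g2 hc hcomm _ h3 (by rw [hF]; exact hq), Subgroup.card_bot, one_mul]

end Cfsg.Agent.S2121
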