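import Cfsg.Statements.S2122
import Cfsg.Agent.Lib.ChevIsog.Auto
import Cfsg.Agent.S2663

set_option autoImplicit false
open Cfsg

namespace Cfsg.Agent.S2122

/-- Outer automorphisms of the Chevalley groups of type F₄: over a field with q = p^f (p prime) elements, the outer automorphism group of F₄(q) has order gcd(2, p) · f (field automorphisms, and in characteristic 2 also the exceptional graph automorphism). -/
theorem result {F : Type*} [Field F] [Fintype F] (p f : ℕ) [Fact p.Prime] [CharP F p] (hF : Fintype.card F = p ^ f) : Nat.card (Cfsg.Out ↥(Cfsg.Lie.chevF4.group F)) = Nat.gcd 2 p * f := by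
  have hc := CfsgLib.ChevIsog.f4_tabs.1
  have hcomm := CfsgLib.ChevIsog.f4_tabs.2
  rw [CfsgLib.ChevAut.card_out hc hcomm (by simp), CfsgLib.ChevAut.card_ringAut_of hF,
    MonoidHom.range_eq_top.2 (CfsgLib.ChevField.hPar_surjective Cfsg.Agent.S2663.invCartan_spec),
    Subgroup.index_top, mul_one]
  by_cases h2 : p = 2
  · subst h2
    haveI : CharP F CfsgLib.ChevIsog.f4Data.p := (inferInstance : CharP F 2)
    rw [CfsgLib.ChevIsog.flip_range_card hc hcomm _ CfsgLib.ChevIsog.f4_ok CfsgLib.ChevIsog.f4_root
      (by decide +kernel) (by simp)]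
    rfl
  · rw [CfsgLib.ChevIsog.range_eq_bot_f4 hc hcomm _ h2, Subgroup.card_bot]
    rw [(Nat.coprime_primes Nat.prime_two Fact.out).2 (Ne.symm h2)]

end Cfsg.Agent.S2122
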