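import Cfsg.Statements.S2136
import Cfsg.Agent.Lib.ConwayInvol.PointStab
import Cfsg.Agent.Lib.ConwayInvol.Main
import Cfsg.Agent.Lib.Linear.SympSimple

set_option autoImplicit false
open Cfsg

namespace Cfsg.Agent.S2136

open CfsgLib CfsgLib.Leech CfsgLib.ConwayInvol Matrix

/-- The restriction of the fixed vector to the octad. -/
def u8 : L8 := ⟨![4, 4, 0, 0, 0, 0, 0, 0], by decide +kernel⟩

theorem u8_phi : phi u8.1 = pv := by decide +kernel

theorem liftL_u8 : liftL u8 = Spor.leechU := by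
  refine Subtype.ext (funext fun p => ?_)
  show emb u8.1 p = Spor.vecU p
  revert p
  decide +kernel

theorem coEl_eq : coEl = negEl * tInv := by
  rw [negEl_eq, tInv, monoEl_mul, coEl]
  refine monoEl_congr (by simp) ?_
  funext p
  simp [coWord_eq, add_comm]

theorem comm_coEl_iff (g : Co0) : g * coEl = coEl * g ↔ g ∈ Cent := by
  rw [Subgroup.mem_centralizer_singleton_iff, coEl_eq, ← mul_assoc g, negEl_comm g, mul_assoc negEl g,
    mul_assoc negEl tInv, mul_right_inj]

theorem Qt_fix_u {q : Co0} (hq : q ∈ Qt) : q • Spor.leechU = Spor.leechU := by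
  rw [← liftL_u8]; exact Qt_fix hq (liftL_supported u8)

theorem neg_u_ne : -Spor.leechU ≠ Spor.leechU := by
  intro h
  have := congrArg (fun v : leechLattice => (v : GolayPt → ℤ) none) h
  simp [Spor.leechU, Spor.vecU] at this

theorem finite_Co2 : Finite ↥Spor.Co2 :=
  Finite.of_injective (fun g : ↥Spor.Co2 => (⟨g.1, g.2.1⟩ : Co0))
    fun _ _ h => Subtype.ext (congrArg (fun x : Co0 => x.1) h)

/-- The involution. -/
def tEl : ↥Spor.Co2 := ⟨coEl.1, coEl.2, Qt_fix_u coEl_mem⟩

/-- Its centraliser. -/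
abbrev C2 : Subgroup ↥Spor.Co2 := Subgroup.centralizer ({tEl} : Set ↥Spor.Co2)

theorem orderOf_tEl : orderOf tEl = 2 := by
  refine orderOf_eq_prime (p := 2) ?_ ?_
  · rw [pow_two]
    have h : coEl * coEl = 1 := by
      rw [coEl, monoEl_mul, ← monoEl_one]
      exact monoEl_congr (mul_one 1) (funext fun p => CharTwo.add_self_eq_zero _)
    have h' := congrArg (fun x : Co0 => x.1) h
    exact Subtype.ext h'
  · intro h
    have h' := congrArg (fun x : ↥Spor.Co2 => x.1) h
    exact coEl_ne_one (Subtype.ext h')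

/-- The inclusion in the centraliser in the big group. -/
def toCent : C2 →* Cent where
  toFun g := ⟨⟨g.1.1, g.1.2.1⟩, (comm_coEl_iff _).1 (Subtype.ext
    (by
      have h' := congrArg (fun x : ↥Spor.Co2 => x.1) (Subgroup.mem_centralizer_singleton_iff.1 g.2)
      exact h'))⟩
  map_one' := rfl
  map_mul' _ _ := rfl

/-- An element of the centraliser from one of the big group. -/
def mkC (k : Cent) (hk : k.1 • Spor.leechU = Spor.leechU) : C2 :=
  ⟨⟨k.1.1, k.1.2, hk⟩, Subgroup.mem_centralizer_singleton_iff.2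
    (Subtype.ext (congrArg (fun x : Co0 => x.1) ((comm_coEl_iff k.1).2 k.2)))⟩

theorem toCent_mkC (k : Cent) (hk : k.1 • Spor.leechU = Spor.leechU) : toCent (mkC k hk) = k := rfl

theorem toCent_fix (g : C2) : (toCent g).1 • Spor.leechU = Spor.leechU := g.1.2.2

theorem actL_u8 {k : Cent} (hk : k.1 • Spor.leechU = Spor.leechU) : actL k u8 = u8 :=
  liftL_injective (by rw [liftL_actL, liftL_u8, hk])

theorem dot8_nonneg (z : Vec8) : 0 ≤ dot8 z z := Finset.sum_nonneg fun _ _ => mul_self_nonneg _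

theorem dot8_eq_zero {z : Vec8} (h : dot8 z z = 0) : z = 0 := by
  funext k
  have := (Finset.sum_eq_zero_iff_of_nonneg (fun _ _ => mul_self_nonneg _)).1 h k (Finset.mem_univ k)
  exact mul_self_eq_zero.1 this

theorem dot8_u8 : dot8 u8.1 u8.1 = 32 := by decide +kernel

/-- A congruent vector of the same length agrees up to sign. -/
theorem eq_or_neg_of_phi {y : L8} (hy : dot8 y.1 y.1 = 32) (h : phi y.1 = phi u8.1) :
    y = u8 ∨ y = -u8 := by
  obtain ⟨z, hz⟩ := cong_of_phi h
  have e : y.1 = u8.1 + z.1 + z.1 := by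
    have := congrArg Subtype.val hz
    rw [AddSubgroupClass.coe_sub, AddSubgroupClass.coe_nsmul, two_nsmul, sub_eq_iff_eq_add] at this
    rw [this]; abel
  have key : dot8 y.1 y.1 + dot8 u8.1 u8.1 = 2 * (dot8 z.1 z.1) + 2 * dot8 (u8.1 + z.1) (u8.1 + z.1) := by
    rw [e]
    simp only [dot8_add_left, dot8_add_right, dot8_comm z.1 u8.1]
    ring
  rw [hy, dot8_u8] at key
  have h1 := dvd_dot8_self z.2
  have h2 := dvd_dot8_self (add_mem u8.2 z.2)
  have h3 := dot8_nonneg z.1
  have h4 := dot8_nonneg (u8.1 + z.1)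
  rcases (show dot8 z.1 z.1 = 0 ∨ dot8 (u8.1 + z.1) (u8.1 + z.1) = 0 by omega) with h5 | h5
  · left
    refine Subtype.ext ?_
    rw [e, dot8_eq_zero h5, add_zero, add_zero]
  · right
    refine Subtype.ext ?_
    rw [e, dot8_eq_zero h5, zero_add, NegMemClass.coe_neg]
    exact (neg_eq_of_add_eq_zero_right (dot8_eq_zero h5)).symm

theorem liftL_neg (y : L8) : liftL (-y) = -liftL y :=
  eq_neg_of_add_eq_zero_left (by
    rw [← liftL_add, neg_add_cancel]
    exact Subtype.ext (funext fun p => by simp [liftL, emb]))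

theorem rho_toCent_mem (g : C2) : rho (toCent g) ∈ omStab := by
  refine ⟨range_rho ▸ ⟨_, rfl⟩, ?_⟩
  show mat (rho (toCent g)) *ᵥ pv = pv
  rw [← u8_phi, ← phi_rho, actL_u8 (toCent_fix g)]

/-- The action. -/
def toOm : C2 →* omStab := (rho.comp toCent).codRestrict _ rho_toCent_mem

theorem toOm_surjective : Function.Surjective toOm := by
  intro γ
  obtain ⟨k, hk⟩ : γ.1 ∈ rho.range := range_rho.symm ▸ γ.2.1
  have hphi : phi (actL k u8).1 = phi u8.1 := by
    rw [phi_rho, hk, u8_phi]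
    exact γ.2.2
  rcases eq_or_neg_of_phi (by rw [dot8_actL, dot8_u8]) hphi with h | h
  · have hfix : k.1 • Spor.leechU = Spor.leechU := by rw [← liftL_u8, ← liftL_actL, h]
    exact ⟨mkC k hfix, Subtype.ext hk⟩
  · have hneg : k.1 • Spor.leechU = -Spor.leechU := by rw [← liftL_u8, ← liftL_actL, h, liftL_neg]
    refine ⟨mkC (⟨negEl, negEl_mem_cent⟩ * k) ?_, Subtype.ext ?_⟩
    · rw [Subgroup.coe_mul, mul_smul, hneg, negEl_smul, neg_neg]
    · show rho (toCent (mkC _ _)) = γ.1
      rw [toCent_mkC, map_mul, rho_negEl, one_mul, hk]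

/-- The map to the symplectic group. -/
noncomputable def toSp : C2 →* Matrix.symplecticGroup (Fin 3) (ZMod 2) :=
  omStabEquiv.toMonoidHom.comp toOm

theorem toSp_surjective : Function.Surjective toSp := omStabEquiv.surjective.comp toOm_surjective

theorem mem_ker_toSp {g : C2} : g ∈ toSp.ker ↔ rho (toCent g) = 1 := by
  rw [MonoidHom.mem_ker, toSp, MonoidHom.comp_apply, MulEquiv.coe_toMonoidHom, MulEquiv.map_eq_one_iff,
    Subtype.ext_iff]
  rfl

/-- The kernel is the extraspecial group. -/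
noncomputable def qEquivKer : Qt ≃* toSp.ker :=
  MulEquiv.ofBijective
    ({ toFun := fun q => ⟨mkC ⟨q.1, Qt_le q.2⟩ (Qt_fix_u q.2),
         mem_ker_toSp.2 (by rw [toCent_mkC]; exact rho_Qt q.2)⟩
       map_one' := rfl
       map_mul' := fun _ _ => rfl } : Qt →* toSp.ker)
    ⟨fun a b h => Subtype.ext (Subtype.ext (congrArg (fun x : toSp.ker => x.1.1.1) h)), fun g => by
      rcases rho_ker (mem_ker_toSp.1 g.2) with h | h
      · exact ⟨⟨(toCent g.1).1, h⟩, rfl⟩
      · exfalso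
        have h' := Qt_fix_u h
        rw [mul_smul, toCent_fix, negEl_smul] at h'
        exact neg_u_ne h'⟩

theorem card_ker : Nat.card toSp.ker = 2 ^ 9 := (Nat.card_congr qEquivKer.toEquiv).symm.trans card_Qt

theorem pCore_eq_ker : Cfsg.pCore 2 C2 = toSp.ker := by
  have : Fact (Nat.Prime 2) := ⟨Nat.prime_two⟩
  have h3 : 3 ≤ 3 ∨ (3 = 2 ∧ 3 ≤ Fintype.card (ZMod 2)) ∨ 4 ≤ Fintype.card (ZMod 2) := Or.inl le_rfl
  refine le_antisymm ?_ (CfsgLib.Solvable.le_pCore inferInstance (IsPGroup.of_card card_ker))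
  rw [← Subgroup.map_eq_bot_iff]
  have hn : ((Cfsg.pCore 2 C2).map toSp).Normal := (CfsgLib.Solvable.pCore_normal 2 _).map _ toSp_surjective
  have hp : IsPGroup 2 ((Cfsg.pCore 2 C2).map toSp) := (CfsgLib.Solvable.pCore_isPGroup 2 _).map _
  rcases CfsgLib.Linear.Symp.normal_le_center_or_eq_top h3 ((Cfsg.pCore 2 C2).map toSp) with h | h
  · refine eq_bot_iff.2 fun x hx => ?_
    obtain ⟨a, ha, hax⟩ := CfsgLib.Linear.Symp.mem_center_iff.1 (h hx)
    have ha1 : a = 1 := by
      rcases F2Quad.zmod_two_cases a with e | e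
      · subst e; simp at ha
      · exact e
    exact Subgroup.mem_bot.2 (CfsgLib.Linear.Symp.group_ext fun w => by rw [hax, ha1, one_smul, one_smul])
  · exfalso
    have hG : IsPGroup 2 (Matrix.symplecticGroup (Fin 3) (ZMod 2)) := (h ▸ hp).of_equiv Subgroup.topEquiv
    have : Group.IsNilpotent (Matrix.symplecticGroup (Fin 3) (ZMod 2)) := hG.isNilpotent
    obtain ⟨g, hg⟩ := CfsgLib.Linear.Symp.exists_noncentral (F := ZMod 2) (show 1 ≤ 3 by norm_num)
    have : Nontrivial (Matrix.symplecticGroup (Fin 3) (ZMod 2)) :=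
      ⟨⟨g, 1, fun e => hg (e ▸ one_mem _)⟩⟩
    exact (Group.IsSolvable.commutator_lt_top_of_nontrivial (Matrix.symplecticGroup (Fin 3) (ZMod 2))).ne
      (CfsgLib.Linear.Symp.commutator_eq_top h3)
/-- The Conway group Co₂ (the stabiliser of a minimal vector of the rank-24 lattice) has an involution whose centraliser C has largest normal 2-subgroup extraspecial of order 2^9 with quotient C / O₂(C) isomorphic to the symplectic group Sp(6, 2) (shape 2^{1+8}Sp(6, 2)). -/
theorem result : ∃ t : ↥Cfsg.Spor.Co2, orderOf t = 2 ∧ Cfsg.IsExtraspecial 2 (Cfsg.pCore 2 ↥(Subgroup.centralizer ({t} : Set ↥Cfsg.Spor.Co2))) ∧ Nat.card (Cfsg.pCore 2 ↥(Subgroup.centralizer ({t} : Set ↥Cfsg.Spor.Co2))) = 2 ^ 9 ∧ Nonempty (↥(Subgroup.centralizer ({t} : Set ↥Cfsg.Spor.Co2)) ⧸ Cfsg.pCore 2 ↥(Subgroup.centralizer ({t} : Set ↥Cfsg.Spor.Co2)) ≃* Matrix.symplecticGroup (Fin 3) (ZMod 2)) := by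
  have := finite_Co2
  refine ⟨tEl, orderOf_tEl, ?_, ?_, ?_⟩
  · exact LargeXS.isExtraspecial_congr (qEquivKer.trans (MulEquiv.subgroupCongr pCore_eq_ker.symm)) extraspecial_Qt
  · show Nat.card (Cfsg.pCore 2 C2) = 2 ^ 9
    rw [pCore_eq_ker, card_ker]
  · have := CfsgLib.Solvable.pCore_normal 2 C2
    exact ⟨(QuotientGroup.quotientMulEquivOfEq pCore_eq_ker).trans
      (QuotientGroup.quotientKerEquivOfSurjective toSp toSp_surjective)⟩

end Cfsg.Agent.S2136
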