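import Cfsg.Statements.S2153
import Cfsg.Agent.Lib.MinIndexPSU.StdBound

set_option autoImplicit false
open Cfsg

namespace Cfsg.Agent.S2153

/-- Minimal index of a proper subgroup of the unitary groups PSU_n(2) with n divisible by 6, realised over the field with 4 elements: every proper subgroup has index at least 2^(n−1)(2^n − 1)/3, and that index is attained. -/
theorem result {F : Type*} [Field F] [Fintype F] (hF : Fintype.card F = 4) (n : ℕ) (hn : 6 ∣ n) (hpos : 6 ≤ n) : (∀ H : Subgroup (Cfsg.PSU n F 2), H ≠ ⊤ → 2 ^ (n - 1) * (2 ^ n - 1) / 3 ≤ H.index) ∧ (∃ H : Subgroup (Cfsg.PSU n F 2), H.index = 2 ^ (n - 1) * (2 ^ n - 1) / 3) := by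
  have heven : Even n := (even_iff_two_dvd).2 (dvd_trans (by norm_num) hn)
  have hF' : Fintype.card F = 2 ^ 2 := by rw [hF]; norm_num
  constructor
  · intro K hK
    have h : 2 ^ (n - 1) * (2 ^ n - 1) ≤ K.index * 3 := by
      rcases CfsgLib.MinIndexPSU.index_lower hF' hpos K hK with h | ⟨-, h⟩
      · rw [CfsgLib.MinIndexPSU.numIso_even hF' heven (by omega)] at h
        refine le_trans ?_ h
        rw [mul_comm]
        exact Nat.mul_le_mul_left _ (Nat.le_succ _)
      · rwa [CfsgLib.MinIndexPSU.numOne_two_even hF' rfl heven (by omega)] at h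
    exact Nat.div_le_of_le_mul (by rwa [mul_comm 3])
  · obtain ⟨K, hK⟩ := CfsgLib.MinIndexPSU.exists_index_one hF' (n := n) (by omega) rfl
    rw [CfsgLib.MinIndexPSU.numOne_two_even hF' rfl heven (by omega)] at hK
    exact ⟨K, by rw [← hK, Nat.mul_div_cancel _ (by norm_num)]⟩

end Cfsg.Agent.S2153
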