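import Cfsg.Statements.S2155
import Cfsg.Agent.Lib.Chev.Comm
import Cfsg.Agent.Lib.Chev.RadicalCentralizer
import Cfsg.Agent.Lib.Components.GenFitting

set_option autoImplicit false
open Cfsg

namespace Cfsg.Agent.S2155

/-- In a Chevalley group of type G₂, B₂, D₄, F₄, E₆, E₇ or E₈ over a finite field of characteristic p (for types G₂ and B₂ the field is assumed to have at least 3 elements, so that the group is simple), the generalized Fitting subgroup of every proper standard parabolic subgroup P_J is a p-group (P_J is p-constrained with trivial largest normal subgroup of order prime to p). -/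
theorem result {F : Type*} [Field F] [Fintype F] (p : ℕ) [Fact p.Prime] [CharP F p] (D : Cfsg.Lie.ChevalleyDatum) (hD : D ∈ [Cfsg.Lie.chevG2, Cfsg.Lie.chevB2, Cfsg.Lie.chevD4, Cfsg.Lie.chevF4, Cfsg.Lie.chevE6, Cfsg.Lie.chevE7, Cfsg.Lie.chevE8]) (hq : (D = Cfsg.Lie.chevG2 ∨ D = Cfsg.Lie.chevB2) → 3 ≤ Fintype.card F) (J : Set ℕ) (hJ : ∃ i, i < D.rank ∧ i ∉ J) : IsPGroup p ↥(Cfsg.generalizedFittingSubgroup ↥(D.parabolicSubgroup F J)) := by
  classical
  obtain ⟨T, hc, hcomm⟩ := CfsgLib.Chev.exists_checked' hD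
  have htest := CfsgLib.Chev.linkTest_of_mem hD
  set P := D.parabolicSubgroup F J with hP
  set U := CfsgLib.Chev.uGen D F (CfsgLib.Chev.OutRoot D J)
  haveI : Finite (GL D.Idx F) := inferInstance
  haveI : Finite P := inferInstance
  have hPG : P ≤ D.group F := by
    refine sup_le (CfsgLib.Chev.borel_le_group hc) ((Subgroup.closure_le _).2 ?_)
    rintro g ⟨j, -, hj, hg⟩
    have : g = CfsgLib.Chev.elN D F (D.simple j) 1 := by
      ext1; rw [CfsgLib.Chev.coe_elN hc (CfsgLib.Chev.simple_lt hc hj), hg]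
    rw [this]
    exact CfsgLib.Chev.elN_mem_group hc (CfsgLib.Chev.simple_lt hc hj) 1
  have hUP : U ≤ P := (CfsgLib.Chev.uGen_mono fun r _ h => h.1).trans
    ((CfsgLib.Chev.pos_le_borel hc).trans le_sup_left)
  have hnorm := CfsgLib.Chev.parabolic_normalizes_radical hc hcomm (F := F) J
  have hUcore : U.subgroupOf P ≤ Cfsg.pCore p P := by
    refine le_sSup ⟨⟨fun x hx g => ?_⟩, ?_⟩
    · rw [Subgroup.mem_subgroupOf] at hx ⊢
      exact ((Subgroup.mem_normalizer_iff).1 (hnorm g.2) _).1 hx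
    · exact ((CfsgLib.Chev.isPGroup_pos hc (F := F) p).to_le
        (CfsgLib.Chev.uGen_mono fun r _ h => h.1)).of_equiv (Subgroup.subgroupOfEquivOfLe hUP).symm
  let C : Subgroup (GL D.Idx F) := Subgroup.centralizer (U : Set (GL D.Idx F)) ⊓ P
  have hCU : C ≤ U := by
    refine CfsgLib.Chev.le_radical_of_le_pos hc hcomm (fun x hx => ?_) (fun n hn x hx => ?_)
    · refine CfsgLib.Chev.centralizer_radical_le_pos hc hcomm htest hJ (hPG hx.2) fun y hy => ?_
      rw [← Subgroup.mem_centralizer_iff.1 hx.1 y hy, mul_inv_cancel_right]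
    · refine Subgroup.mem_inf.2 ⟨Subgroup.mem_centralizer_iff.2 fun y hy => ?_,
        P.mul_mem (P.mul_mem hn hx.2) (P.inv_mem hn)⟩
      have hy' := ((Subgroup.mem_normalizer_iff).1 (hnorm (inv_mem hn)) y).1 hy
      have h := Subgroup.mem_centralizer_iff.1 hx.1 _ hy'
      rw [inv_inv] at h
      calc y * (n * x * n⁻¹) = n * ((n⁻¹ * y * n) * x) * n⁻¹ := by group
        _ = n * (x * (n⁻¹ * y * n)) * n⁻¹ := by rw [h]
        _ = n * x * n⁻¹ * y := by group
  rw [(CfsgLib.Components.genFitting_eq_pCore_iff (G := P) p).2 fun g hg => ?_]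
  · exact CfsgLib.Components.isPGroup_pCore p
  · refine hUcore (Subgroup.mem_subgroupOf.2 (hCU ⟨Subgroup.mem_centralizer_iff.2 fun y hy => ?_, g.2⟩))
    exact congrArg Subtype.val (Subgroup.mem_centralizer_iff.1 hg ⟨y, hUP hy⟩ (hUcore (Subgroup.mem_subgroupOf.2 hy)))

end Cfsg.Agent.S2155
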