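import Cfsg.Statements.S2158
import Cfsg.Agent.Lib.Chev.BN
import Cfsg.Agent.Lib.Chev.Comm
import Cfsg.Agent.Lib.BN.Basic
import Cfsg.Agent.Lib.Chevalley.RootChar
-- import your own Cfsg.Agent.* helpers here

set_option autoImplicit false
open Cfsg

namespace Cfsg.Agent.S2158

/-- In a Chevalley group of type G₂, B₂, D₄, F₄, E₆, E₇ or E₈ over any field, an element of the group whose matrix is the diagonal matrix `ĥ(χ)` of a character `χ` of the root lattice already lies in the diagonal subgroup H (the non-trivial inclusion of the statement that the group meets the group of all such diagonal matrices in H). -/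
theorem result {F : Type*} [Field F] (D : Cfsg.Lie.ChevalleyDatum) (hD : D ∈ [Cfsg.Lie.chevG2, Cfsg.Lie.chevB2, Cfsg.Lie.chevD4, Cfsg.Lie.chevF4, Cfsg.Lie.chevE6, Cfsg.Lie.chevE7, Cfsg.Lie.chevE8]) (χ : ℕ → Fˣ) (hχ : D.IsRootCharacter χ) (g : GL D.Idx F) (hg : g ∈ D.group F)
    (hgχ : (g : Matrix D.Idx D.Idx F) = D.charDiag F χ) : g ∈ D.diagonalSubgroup F := by
  classical
  obtain ⟨T, hc, hcomm⟩ := CfsgLib.Chev.exists_checked' hD
  -- conjugation by `g` scales every root element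
  have hconj : ∀ r, r < D.nroots → ∀ t : F,
      g * CfsgLib.Chev.elX D F r t = CfsgLib.Chev.elX D F r ((χ r : F) * t) * g := by
    intro r hr t
    have h := CfsgLib.Chevalley.charDiag_conj_x (CfsgLib.Chevalley.charTest_of_mem hD) hχ hr t
    ext1
    rw [Units.val_mul, Units.val_mul, CfsgLib.Chev.coe_elX hc F hr, CfsgLib.Chev.coe_elX hc F hr,
      hgχ, ← h]
    have h1 : D.charDiag F (fun s => (χ s)⁻¹) * D.charDiag F χ = 1 := by
      rw [Cfsg.Lie.ChevalleyDatum.charDiag, Cfsg.Lie.ChevalleyDatum.charDiag, Matrix.diagonal_mul_diagonal,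
        ← Matrix.diagonal_one]
      congr 1
      funext x
      rcases x with x | x <;> simp
    rw [Matrix.mul_assoc _ _ (D.charDiag F χ), h1, Matrix.mul_one]
  have hdiag : ∀ h ∈ D.diagonalSubgroup F, g * h * g⁻¹ = h := by
    intro h hh
    obtain ⟨c, rfl⟩ := (CfsgLib.Chev.mem_diagonal hc).1 hh
    rw [mul_inv_eq_iff_eq_mul]
    ext1
    rw [Units.val_mul, Units.val_mul, hgχ, CfsgLib.Chev.coe_torus, Cfsg.Lie.ChevalleyDatum.charDiag,
      Matrix.diagonal_mul_diagonal, Matrix.diagonal_mul_diagonal]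
    simp only [mul_comm]
  have hpos : ∀ u ∈ CfsgLib.Chev.uGen D F (fun r => D.nroots / 2 ≤ r),
      g * u * g⁻¹ ∈ CfsgLib.Chev.uGen D F (fun r => D.nroots / 2 ≤ r) := by
    intro u hu
    induction hu using Subgroup.closure_induction with
    | mem x hx =>
        obtain ⟨r, t, hr, hP, rfl⟩ := hx
        rw [hconj r hr, mul_inv_cancel_right]
        exact CfsgLib.Chev.elX_mem_uGen hr hP _
    | one => simp
    | mul a b _ _ ha hb =>
        rw [show g * (a * b) * g⁻¹ = (g * a * g⁻¹) * (g * b * g⁻¹) by group]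
        exact mul_mem ha hb
    | inv a _ ha =>
        rw [show g * a⁻¹ * g⁻¹ = (g * a * g⁻¹)⁻¹ by group]
        exact inv_mem ha
  have hgB : ∀ b ∈ D.borelSubgroup F, g * b * g⁻¹ ∈ D.borelSubgroup F := by
    intro b hb
    obtain ⟨u, hu, h, hh, rfl⟩ := (CfsgLib.Chev.mem_borel hc).1 hb
    rw [show g * (u * h) * g⁻¹ = (g * u * g⁻¹) * (g * h * g⁻¹) by group, hdiag h hh]
    exact (CfsgLib.Chev.mem_borel hc).2 ⟨_, hpos u hu, h, hh, rfl⟩
  -- Bruhat decomposition
  obtain ⟨P, hPB, hPN, -⟩ := CfsgLib.Chev.exists_bnPair hc hcomm (F := F)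
  obtain ⟨w, hw⟩ := CfsgLib.BN.exists_cell P ⟨g, hg⟩
  obtain ⟨n, hn, rfl⟩ := CfsgLib.BN.exists_rep P w
  obtain ⟨b, hb, b', hb', e⟩ := (CfsgLib.BN.mem_cell_wk P hn).1 hw
  rw [hPB, Subgroup.mem_subgroupOf] at hb hb'
  rw [hPN, Subgroup.mem_subgroupOf] at hn
  have e' : g = (b : GL D.Idx F) * n * b' := congrArg Subtype.val e
  set m := (n : GL D.Idx F)
  set β := (b : GL D.Idx F)⁻¹ * (g * (b' : GL D.Idx F)⁻¹ * g⁻¹)
  have hβ : β ∈ D.borelSubgroup F := mul_mem (inv_mem hb) (hgB _ (inv_mem hb'))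
  have hm : m = β * g := by
    simp only [β]
    calc m = (b : GL D.Idx F)⁻¹ * ((b : GL D.Idx F) * m * b') * (b' : GL D.Idx F)⁻¹ := by group
      _ = _ := by rw [← e']; group
  obtain ⟨h, hh, L, hL⟩ := CfsgLib.Chev.monomial_cases hc hn
  have hmH : m ∈ D.diagonalSubgroup F := by
    rw [hL]
    refine mul_mem hh (CfsgLib.Chev.nProd_mem_of_pos hc L fun i => ?_)
    by_contra hneg
    have hp := CfsgLib.Chev.simple_lt hc i.2
    have hx := CfsgLib.Chev.borel_conj_pos hc hβ (hpos _ (CfsgLib.Chev.elX_mem_uGen hp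
      (P := fun r => D.nroots / 2 ≤ r) (CfsgLib.Chev.half_le_simple hc i.2) (1 : F)))
    have hx' := CfsgLib.Chev.diag_conj_mem' hc _ hh hx
    obtain ⟨c, -, hcx⟩ := CfsgLib.Chev.nProd_conj_elX hc (F := F) L hp
    have e2 : h⁻¹ * (β * (g * CfsgLib.Chev.elX D F (D.simple i.val) 1 * g⁻¹) * β⁻¹) * h =
        CfsgLib.Chev.nProd D F L * CfsgLib.Chev.elX D F (D.simple i.val) 1 *
          (CfsgLib.Chev.nProd D F L)⁻¹ := by
      rw [show CfsgLib.Chev.nProd D F L = h⁻¹ * (β * g) by rw [← hm, hL, inv_mul_cancel_left]]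
      group
    rw [e2, hcx] at hx'
    exact CfsgLib.Chev.elX_not_mem_borel hc (CfsgLib.Chev.sigs_lt hc L hp) (by omega)
      (by rw [mul_one]; exact c.ne_zero) (CfsgLib.Chev.pos_le_borel hc hx')
  have hgmem : g ∈ D.borelSubgroup F := by
    have : g = β⁻¹ * m := by rw [hm, inv_mul_cancel_left]
    rw [this]
    exact mul_mem (inv_mem hβ) (CfsgLib.Chev.diagonal_le_borel hc hmH)
  -- a diagonal matrix in `U` is trivial
  obtain ⟨u, hu, k, hk, hguk⟩ := (CfsgLib.Chev.mem_borel hc).1 hgmem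
  obtain ⟨c, hck⟩ := (CfsgLib.Chev.mem_diagonal hc).1 hk
  have hU := CfsgLib.Chev.raises_uGen hc (CfsgLib.Chev.keyLin_add (D := D)) (CfsgLib.Chev.keyLin_smul (D := D))
    (d := 1) (by norm_num) (fun r hr hp => by have := (CfsgLib.Chev.key_pos_iff hc hr).2 hp; omega) hu
  have hu1 : u = 1 := by
    ext x y
    by_cases hxy : x = y
    · subst hxy
      by_contra h1
      have := hU x x (by simpa [Matrix.one_apply_eq] using h1)
      omega
    · have h1 := congrArg (fun a : GL D.Idx F => (a : Matrix D.Idx D.Idx F) x y) hguk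
      rw [← hck] at h1
      simp only [Units.val_mul, hgχ, CfsgLib.Chev.coe_torus, Matrix.mul_diagonal,
        Cfsg.Lie.ChevalleyDatum.charDiag, Matrix.diagonal_apply_ne _ hxy] at h1
      rw [Units.val_one, Matrix.one_apply_ne hxy]
      exact (mul_eq_zero.1 h1.symm).resolve_right (Units.ne_zero _)
  rw [hguk, hu1, one_mul]
  exact hk

end Cfsg.Agent.S2158
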