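import Cfsg.Statements.S2162
import Cfsg.Agent.Lib.CharTwoInv.SquareZero

set_option autoImplicit false
open Cfsg

namespace Cfsg.Agent.S2162

/-- Conjugacy of involutions in the special linear group over a finite field of characteristic two, in dimension at least 3: two elements of order 2 of SL_n(F) are conjugate in SL_n(F) exactly when the matrices a − 1 and b − 1 have the same rank (the rank of a − 1 is the dimension of the commutator space [V, a]). -/
theorem result {F : Type*} [Field F] [Fintype F] [CharP F 2] {n : ℕ} (hn : 3 ≤ n) (a b : Matrix.SpecialLinearGroup (Fin n) F) (ha : orderOf a = 2) (hb : orderOf b = 2) :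
    IsConj a b ↔ ((a : Matrix (Fin n) (Fin n) F) - 1).rank = ((b : Matrix (Fin n) (Fin n) F) - 1).rank := by
  haveI : CharP (Matrix (Fin n) (Fin n) F) 2 := by
    haveI : Nonempty (Fin n) := ⟨⟨0, by omega⟩⟩
    infer_instance
  set A : Matrix (Fin n) (Fin n) F := (a : Matrix (Fin n) (Fin n) F) with hA
  set B : Matrix (Fin n) (Fin n) F := (b : Matrix (Fin n) (Fin n) F) with hB
  have hsq : ∀ c : Matrix.SpecialLinearGroup (Fin n) F, orderOf c = 2 →
      ∀ x, Matrix.toLin' ((c : Matrix (Fin n) (Fin n) F) - 1)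
        (Matrix.toLin' ((c : Matrix (Fin n) (Fin n) F) - 1) x) = 0 := by
    intro c hc x
    have h := congrArg (fun y : Matrix.SpecialLinearGroup (Fin n) F => (y : Matrix (Fin n) (Fin n) F))
      (CfsgLib.CharTwoInv.card_eq_orderOf_two hc)
    simp only [Matrix.SpecialLinearGroup.coe_mul, Matrix.SpecialLinearGroup.coe_one] at h
    rw [← LinearMap.comp_apply, ← Matrix.toLin'_mul, CfsgLib.CharTwoInv.sub_one_sq_zero h]
    simp
  constructor
  · intro h
    obtain ⟨g, hg⟩ := isConj_iff.mp h
    have hb' : B = (g : Matrix (Fin n) (Fin n) F) * A * ((g⁻¹ : Matrix.SpecialLinearGroup (Fin n) F) :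
        Matrix (Fin n) (Fin n) F) := by
      rw [hB, ← hg]; simp [hA]
    have h1 : (g : Matrix (Fin n) (Fin n) F) * ((g⁻¹ : Matrix.SpecialLinearGroup (Fin n) F) :
        Matrix (Fin n) (Fin n) F) = 1 := by
      rw [← Matrix.SpecialLinearGroup.coe_mul, mul_inv_cancel, Matrix.SpecialLinearGroup.coe_one]
    have h2 : B - 1 = (g : Matrix (Fin n) (Fin n) F) * (A - 1) *
        ((g⁻¹ : Matrix.SpecialLinearGroup (Fin n) F) : Matrix (Fin n) (Fin n) F) := by
      rw [Matrix.mul_sub, Matrix.sub_mul, Matrix.mul_one, h1, hb']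
    rw [h2, Matrix.rank_mul_eq_left_of_isUnit_det, Matrix.rank_mul_eq_right_of_isUnit_det]
    · rw [g.2]; exact isUnit_one
    · rw [(g⁻¹).2]; exact isUnit_one
  · intro hrank
    obtain ⟨g, hg, hdet⟩ := CfsgLib.CharTwoInv.exists_conj_det_eq
      (Matrix.toLin' (A - 1)) (Matrix.toLin' (B - 1)) (hsq a ha) (hsq b hb)
      (by rw [Matrix.toLin'_apply', Matrix.toLin'_apply']; exact hrank)
      (by rw [Module.finrank_fintype_fun_eq_card, Fintype.card_fin]; omega)
    set M := LinearMap.toMatrix' g.toLinearMap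
    have hM : M.det = 1 := by rw [LinearMap.det_toMatrix', hdet]
    have hMA : M * (A - 1) = (B - 1) * M := by
      apply Matrix.toLin'.injective
      rw [Matrix.toLin'_mul, Matrix.toLin'_mul, Matrix.toLin'_toMatrix']
      exact LinearMap.ext fun x => hg x
    rw [isConj_iff]
    obtain ⟨g', hg'⟩ : ∃ g' : Matrix.SpecialLinearGroup (Fin n) F,
        (g' : Matrix (Fin n) (Fin n) F) = M := ⟨⟨M, hM⟩, rfl⟩
    refine ⟨g', ?_⟩
    rw [mul_inv_eq_iff_eq_mul]
    apply Subtype.ext
    rw [Matrix.SpecialLinearGroup.coe_mul, Matrix.SpecialLinearGroup.coe_mul, hg', ← hA, ← hB]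
    rw [Matrix.mul_sub, Matrix.sub_mul, Matrix.mul_one, Matrix.one_mul, sub_left_inj] at hMA
    exact hMA

end Cfsg.Agent.S2162
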