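import Cfsg.Statements.S2163
import Cfsg.Agent.Lib.CharTwoInv.SquareZero

set_option autoImplicit false
open Cfsg

namespace Cfsg.Agent.S2163

/-- Over a finite field of characteristic two and for n ≥ 3: for every ℓ with 1 ≤ ℓ and 2ℓ ≤ n, the matrix j_ℓ that is the identity plus the entries 1 in positions (n − ℓ + i, i) for i < ℓ (an identity block of size ℓ in the lower left corner) lies in SL_n(F), has order 2, and j_ℓ − 1 has rank ℓ. Together with the conjugacy criterion by rank, these matrices represent the conjugacy classes of involutions of SL_n(F). -/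
theorem result {F : Type*} [Field F] [Fintype F] [CharP F 2] {n : ℕ} (hn : 3 ≤ n) (ℓ : ℕ) (h1 : 1 ≤ ℓ) (h2 : 2 * ℓ ≤ n) :
    ∃ a : Matrix.SpecialLinearGroup (Fin n) F, (a : Matrix (Fin n) (Fin n) F) = 1 + Matrix.of (fun i j : Fin n => if j.val < ℓ ∧ i.val = j.val + (n - ℓ) then (1 : F) else 0) ∧ orderOf a = 2 ∧ ((a : Matrix (Fin n) (Fin n) F) - 1).rank = ℓ := by
  set E : Matrix (Fin n) (Fin n) F :=
    Matrix.of (fun i j : Fin n => if j.val < ℓ ∧ i.val = j.val + (n - ℓ) then (1 : F) else 0)
  let C : Matrix (Fin n) (Fin ℓ) F := Matrix.of fun i k => if i.val = k.val + (n - ℓ) then 1 else 0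
  let R : Matrix (Fin ℓ) (Fin n) F := Matrix.of fun k j => if j.val = k.val then 1 else 0
  have hE : E = C * R := by
    ext i j
    by_cases hj : j.val < ℓ
    · rw [Matrix.mul_apply, Finset.sum_eq_single ⟨j.val, hj⟩]
      · simp [E, C, R, hj]
      · intro k _ hk
        have : j.val ≠ k.val := fun h => hk (Fin.ext h.symm)
        simp [R, this]
      · simp
    · rw [Matrix.mul_apply, Finset.sum_eq_zero]
      · simp [E, hj]
      · intro k _
        have : j.val ≠ k.val := by omega
        simp [R, this]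
  have hRC : R * C = 0 := by
    ext k l
    rw [Matrix.mul_apply, Matrix.zero_apply]
    apply Finset.sum_eq_zero
    intro i _
    simp only [R, C, Matrix.of_apply]
    split_ifs <;> first | omega | simp
  have hC : C.transpose * C = 1 := by
    ext k l
    rw [Matrix.mul_apply, Finset.sum_eq_single ⟨k.val + (n - ℓ), by omega⟩]
    · simp [C, Matrix.one_apply, Fin.ext_iff]
    · intro i _ hi
      have : i.val ≠ k.val + (n - ℓ) := fun h => hi (Fin.ext h)
      simp [C, this]
    · simp
  have hR : R * R.transpose = 1 := by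
    ext k l
    rw [Matrix.mul_apply, Finset.sum_eq_single ⟨k.val, by omega⟩]
    · simp [R, Matrix.one_apply, Fin.ext_iff]
    · intro i _ hi
      have : i.val ≠ k.val := fun h => hi (Fin.ext h)
      simp [R, this]
    · simp
  have hrk : E.rank = ℓ := CfsgLib.CharTwoInv.rank_eq_of_sandwich E C R _ _ hE hC hR
  have hEE : E * E = 0 := by
    rw [hE, Matrix.mul_assoc, ← Matrix.mul_assoc R, hRC, Matrix.zero_mul, Matrix.mul_zero]
  have h2 : (1 + E) * (1 + E) = 1 := by
    rw [Matrix.add_mul, Matrix.mul_add, Matrix.one_mul, Matrix.one_mul, Matrix.mul_add,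
      Matrix.mul_one, hEE, add_zero, add_assoc]
    have : E + E = 0 := by ext i j; simp [CharTwo.add_self_eq_zero]
    rw [this, add_zero]
  obtain ⟨a, hae⟩ : ∃ a : Matrix.SpecialLinearGroup (Fin n) F,
      (a : Matrix (Fin n) (Fin n) F) = 1 + E :=
    ⟨⟨1 + E, CfsgLib.CharTwoInv.det_eq_one_of_mul_self h2⟩, rfl⟩
  refine ⟨a, hae, ?_, ?_⟩
  · haveI : Fact (Nat.Prime 2) := ⟨Nat.prime_two⟩
    refine orderOf_eq_prime (by rw [pow_two]; apply Subtype.ext; rw [Matrix.SpecialLinearGroup.coe_mul, hae, h2]; rfl) ?_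
    intro h
    have h' : (1 + E) = 1 := by rw [← hae, h]; rfl
    rw [add_eq_left] at h'
    rw [h', Matrix.rank_zero] at hrk
    omega
  · rw [hae, add_sub_cancel_left, hrk]

end Cfsg.Agent.S2163
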