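import Cfsg.Statements.S2165
import Cfsg.Agent.Lib.CharTwoInv.SquareZero

set_option autoImplicit false
open Cfsg

namespace Cfsg.Agent.S2165

/-- In SU_n(q), q even, n ≥ 3 (matrices of determinant 1 over the field with q² elements preserving Σ u_i v_i^q): for every ℓ with 1 ≤ ℓ and 2ℓ ≤ n, the permutation matrix of the involution of {0, …, n−1} exchanging i and n − ℓ + i for each i < ℓ lies in SU_n(q), has order 2, and differs from the identity by a matrix of rank ℓ. So every rank between 1 and n/2 occurs for involutions of SU_n(q). -/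
theorem result {F : Type*} [Field F] [Fintype F] [CharP F 2] {n q : ℕ} (hF : Fintype.card F = q ^ 2) (hn : 3 ≤ n) (ℓ : ℕ) (h1 : 1 ≤ ℓ) (h2 : 2 * ℓ ≤ n) :
    ∃ a : ↥(Cfsg.SU n F q), (((a : Matrix.SpecialLinearGroup (Fin n) F) : Matrix (Fin n) (Fin n) F) = Matrix.of (fun i j : Fin n => if (j.val < ℓ ∧ i.val = j.val + (n - ℓ)) ∨ (i.val < ℓ ∧ j.val = i.val + (n - ℓ)) ∨ (i = j ∧ ℓ ≤ i.val ∧ i.val < n - ℓ) then (1 : F) else 0)) ∧ orderOf a = 2 ∧ ((((a : Matrix.SpecialLinearGroup (Fin n) F) : Matrix (Fin n) (Fin n) F)) - 1).rank = ℓ := by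
  let f : Fin n → Fin n := fun i =>
    if h : i.val < ℓ then ⟨i.val + (n - ℓ), by omega⟩
    else if h' : n - ℓ ≤ i.val then ⟨i.val - (n - ℓ), by omega⟩ else i
  have hf : ∀ i, (f i).val = if i.val < ℓ then i.val + (n - ℓ)
      else if n - ℓ ≤ i.val then i.val - (n - ℓ) else i.val := by
    intro i; simp only [f]; split_ifs <;> rfl
  have hinv : ∀ i, f (f i) = i := by
    intro i
    apply Fin.ext
    rw [hf, hf]
    split_ifs <;> omega
  set M : Matrix (Fin n) (Fin n) F := Matrix.of (fun i j : Fin n => if (j.val < ℓ ∧ i.val = j.val + (n - ℓ)) ∨ (i.val < ℓ ∧ j.val = i.val + (n - ℓ)) ∨ (i = j ∧ ℓ ≤ i.val ∧ i.val < n - ℓ) then (1 : F) else 0)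
  have hM : ∀ i j, M i j = if j = f i then 1 else 0 := by
    intro i j
    have : ((j.val < ℓ ∧ i.val = j.val + (n - ℓ)) ∨ (i.val < ℓ ∧ j.val = i.val + (n - ℓ)) ∨ (i = j ∧ ℓ ≤ i.val ∧ i.val < n - ℓ)) ↔ j = f i := by
      rw [Fin.ext_iff, Fin.ext_iff, hf]
      split_ifs <;> omega
    simp only [M, Matrix.of_apply, this]
  have hMv : ∀ (v : Fin n → F) i, Matrix.mulVec M v i = v (f i) := by
    intro v i
    simp [Matrix.mulVec, dotProduct, hM]
  have h2 : M * M = 1 := by
    ext i j
    rw [Matrix.mul_apply, Finset.sum_eq_single (f i)]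
    · simp [hM, hinv, Matrix.one_apply, eq_comm]
    · intro k _ hk; simp [hM, hk]
    · simp
  let C : Matrix (Fin n) (Fin ℓ) F := Matrix.of fun i k => if i.val = k.val then 1 else 0
  let D : Matrix (Fin n) (Fin ℓ) F := Matrix.of fun i k => if i.val = k.val + (n - ℓ) then 1 else 0
  have hC : C.transpose * C = 1 := by
    ext k l
    rw [Matrix.mul_apply, Finset.sum_eq_single ⟨k.val, by omega⟩]
    · simp [C, Matrix.one_apply, Fin.ext_iff]
    · intro i _ hi
      have : i.val ≠ k.val := fun h => hi (Fin.ext h)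
      simp [C, this]
    · simp
  have hCD : C.transpose * D = 0 := by
    ext k l
    rw [Matrix.mul_apply, Matrix.zero_apply]
    apply Finset.sum_eq_zero
    intro i _
    simp only [C, D, Matrix.transpose_apply, Matrix.of_apply]
    split_ifs <;> first | omega | simp
  have hU : C.transpose * (C + D) = 1 := by rw [Matrix.mul_add, hC, hCD, add_zero]
  have hU' : (C + D).transpose * C = 1 := by
    have := congrArg Matrix.transpose hU
    rwa [Matrix.transpose_mul, Matrix.transpose_transpose, Matrix.transpose_one] at this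
  have hE : M - 1 = (C + D) * (C + D).transpose := by
    ext i j
    have hval : ∀ (i : Fin n) (k : Fin ℓ), (C + D) i k =
        if i.val = k.val ∨ i.val = k.val + (n - ℓ) then 1 else 0 := by
      intro i k
      simp only [C, D, Matrix.add_apply, Matrix.of_apply]
      split_ifs <;> first | omega | simp
    rw [Matrix.sub_apply, hM, Matrix.one_apply, Matrix.mul_apply, CharTwo.sub_eq_add]
    simp only [Matrix.transpose_apply, hval]
    by_cases hm : i.val < ℓ ∨ n - ℓ ≤ i.val
    · have hk : (if i.val < ℓ then i.val else i.val - (n - ℓ)) < ℓ := by split_ifs <;> omega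
      rw [Finset.sum_eq_single ⟨_, hk⟩]
      · simp only [Fin.ext_iff, hf, mul_ite, mul_one, mul_zero]
        split_ifs <;> first | omega | simp
      · intro k _ hk'
        have : k.val ≠ if i.val < ℓ then i.val else i.val - (n - ℓ) := fun h => hk' (Fin.ext h)
        split_ifs at this
        all_goals
          rw [if_neg (by omega)]
          simp
      · simp
    · push Not at hm
      rw [Finset.sum_eq_zero]
      · simp only [Fin.ext_iff, hf]
        split_ifs <;> first | omega | simp [CharTwo.add_self_eq_zero]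
      · intro k _
        rw [if_neg (by omega)]
        simp
  have hrk : (M - 1).rank = ℓ :=
    CfsgLib.CharTwoInv.rank_eq_of_sandwich _ _ _ C.transpose C hE hU hU'
  have hmem : (⟨M, CfsgLib.CharTwoInv.det_eq_one_of_mul_self h2⟩ :
      Matrix.SpecialLinearGroup (Fin n) F) ∈ Cfsg.SU n F q := by
    intro u v
    show Cfsg.hermForm n F q (Matrix.mulVec M u) (Matrix.mulVec M v) = Cfsg.hermForm n F q u v
    simp only [Cfsg.hermForm, hMv]
    exact Fintype.sum_equiv ⟨f, f, hinv, hinv⟩ _ _ fun i => rfl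
  refine ⟨⟨_, hmem⟩, rfl, ?_, hrk⟩
  haveI : Fact (Nat.Prime 2) := ⟨Nat.prime_two⟩
  refine orderOf_eq_prime (by rw [pow_two]; exact Subtype.ext (Subtype.ext h2)) ?_
  intro h
  have h' : M = 1 := congrArg Subtype.val (congrArg Subtype.val h)
  rw [h', sub_self, Matrix.rank_zero] at hrk
  omega

end Cfsg.Agent.S2165
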