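import Cfsg.Statements.S2173
import Cfsg.Agent.Lib.CharTwoInv.Split
import Cfsg.Agent.Lib.CharTwoInv.MinusIndex

set_option autoImplicit false
open Cfsg

namespace Cfsg.Agent.S2173

/-- For the quadratic form Σ x_i y_i + (z₁² + c z₁ z₂ + d z₂²) in dimension 2m with anisotropic binary part over a finite field F of characteristic two, m ≥ 4 (minus type): two involutions of the commutator subgroup Ω that are conjugate in the full isometry group O are conjugate by an element of Ω (no class of involutions of O inside Ω splits). -/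
theorem result {F : Type*} [Field F] [Fintype F] [CharP F 2] {m : ℕ} (hm : 4 ≤ m) (c d : F) (hcd : ∀ z₁ z₂ : F, z₁ ^ 2 + c * z₁ * z₂ + d * z₂ ^ 2 = 0 → z₁ = 0 ∧ z₂ = 0) (t s : ↥(Cfsg.isometryGroup F (Cfsg.quadFormMinus (m - 1) F c d))) (ht : orderOf t = 2) (hs : orderOf s = 2) (htO : t ∈ Cfsg.Omega F (Cfsg.quadFormMinus (m - 1) F c d)) (hsO : s ∈ Cfsg.Omega F (Cfsg.quadFormMinus (m - 1) F c d)) (hconj : IsConj t s) :
    ∃ g ∈ Cfsg.Omega F (Cfsg.quadFormMinus (m - 1) F c d), g * t * g⁻¹ = s := by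
  obtain ⟨P⟩ := CfsgLib.CharTwoInv.minusQ_frame (F := F) (m - 1) (by omega) c d
  have hnd := CfsgLib.CharTwoInv.minusQ_nondeg (m - 1) c d hcd
  have hcard : Fintype.card ((Fin (m - 1) ⊕ Fin (m - 1)) ⊕ Fin 2) = 2 * m := by
    simp only [Fintype.card_sum, Fintype.card_fin]; omega
  obtain ⟨h1, -⟩ := CfsgLib.CharTwoInv.split_plus (CfsgLib.CharTwoInv.minusQ (m - 1) F c d) hnd P
    hcard _ (CfsgLib.CharTwoInv.minusQ_coe (m - 1) c d) t s ht htO hconj
  apply h1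
  rintro ⟨hrk, hv⟩
  refine CfsgLib.CharTwoInv.minus_no_max_totSing (m - 1) c d hcd
    (LinearMap.range (Matrix.toLin' ((((t : ↥(Cfsg.isometryGroup F (Cfsg.quadFormMinus (m - 1) F c d))) : GL ((Fin (m - 1) ⊕ Fin (m - 1)) ⊕ Fin 2) F) : Matrix ((Fin (m - 1) ⊕ Fin (m - 1)) ⊕ Fin 2) ((Fin (m - 1) ⊕ Fin (m - 1)) ⊕ Fin 2) F) - 1))) ?_ ?_
  · rintro _ ⟨v, rfl⟩
    rw [Matrix.toLin'_apply, Matrix.sub_mulVec, Matrix.one_mulVec, CfsgLib.CharTwoInv.minusQ_coe]
    rw [show ∀ a b : (Fin (m - 1) ⊕ Fin (m - 1)) ⊕ Fin 2 → F, a - b = b + a from fun a b => by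
      funext i; simp [CharTwo.sub_eq_add, add_comm]]
    exact hv v
  · rw [Matrix.toLin'_apply']
    exact hrk.trans (by omega)

end Cfsg.Agent.S2173
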