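import Cfsg.Statements.S2177
import Cfsg.Agent.Lib.FGS73.G2Invol

set_option autoImplicit false
open Cfsg

namespace Cfsg.Agent.S2177

/-- Conjugacy classes of involutions in the Chevalley group of type G₂ over a finite field F of characteristic two with at least four elements (the matrix group generated by the root elements x_r(t)). In this problem's root numbering for type G₂ (the Chevalley data module; p₁ = a short, p₂ = b long; roots indexed by coefficient vectors in increasing order) let 11 be the highest root 3a + 2b (long) and 9 the short root 2a + b; consider x_{3a+2b}(1) and x_{2a+b}(1). Then: each invertible matrix equal to one of these two products lies in the group and has order 2; every element of order 2 of the group is conjugate in the group to one of them; and no two of them are conjugate in the group (so, the two matrices being distinct, the group has exactly two conjugacy classes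 of involutions). -/
theorem result {F : Type*} [Field F] [Fintype F] [CharP F 2] (hF : 4 ≤ Fintype.card F) :
    (∀ y : GL Cfsg.Lie.chevG2.Idx F, ((y : GL Cfsg.Lie.chevG2.Idx F) : Matrix Cfsg.Lie.chevG2.Idx Cfsg.Lie.chevG2.Idx F) ∈ [Cfsg.Lie.chevG2.x F 11 1, Cfsg.Lie.chevG2.x F 9 1] → y ∈ Cfsg.Lie.chevG2.group F ∧ orderOf y = 2) ∧
    (∀ g ∈ Cfsg.Lie.chevG2.group F, orderOf g = 2 → ∃ y ∈ Cfsg.Lie.chevG2.group F, ((y : GL Cfsg.Lie.chevG2.Idx F) : Matrix Cfsg.Lie.chevG2.Idx Cfsg.Lie.chevG2.Idx F) ∈ [Cfsg.Lie.chevG2.x F 11 1, Cfsg.Lie.chevG2.x F 9 1] ∧ ∃ h ∈ Cfsg.Lie.chevG2.group F, h * g * h⁻¹ = y) ∧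
    (∀ y₁ ∈ Cfsg.Lie.chevG2.group F, ∀ y₂ ∈ Cfsg.Lie.chevG2.group F, ((y₁ : GL Cfsg.Lie.chevG2.Idx F) : Matrix Cfsg.Lie.chevG2.Idx Cfsg.Lie.chevG2.Idx F) ∈ [Cfsg.Lie.chevG2.x F 11 1, Cfsg.Lie.chevG2.x F 9 1] → ((y₂ : GL Cfsg.Lie.chevG2.Idx F) : Matrix Cfsg.Lie.chevG2.Idx Cfsg.Lie.chevG2.Idx F) ∈ [Cfsg.Lie.chevG2.x F 11 1, Cfsg.Lie.chevG2.x F 9 1] →
      (∃ h ∈ Cfsg.Lie.chevG2.group F, h * y₁ * h⁻¹ = y₂) → ((y₁ : GL Cfsg.Lie.chevG2.Idx F) : Matrix Cfsg.Lie.chevG2.Idx Cfsg.Lie.chevG2.Idx F) = ((y₂ : GL Cfsg.Lie.chevG2.Idx F) : Matrix Cfsg.Lie.chevG2.Idx Cfsg.Lie.chevG2.Idx F)) := by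
  obtain ⟨T, hc, hk⟩ := CfsgLib.Chev.exists_checked' (D := Cfsg.Lie.chevG2) (by simp)
  have R := CfsgLib.FGS73.G2Invol.rel (F := F) hc hk
  have h11 : 11 < Cfsg.Lie.chevG2.nroots := by decide
  have h9 : 9 < Cfsg.Lie.chevG2.nroots := by decide
  have key : ∀ y : GL Cfsg.Lie.chevG2.Idx F, ((y : GL Cfsg.Lie.chevG2.Idx F) :
      Matrix Cfsg.Lie.chevG2.Idx Cfsg.Lie.chevG2.Idx F) ∈ [Cfsg.Lie.chevG2.x F 11 1, Cfsg.Lie.chevG2.x F 9 1] →
      y = CfsgLib.Chev.elX Cfsg.Lie.chevG2 F 11 1 ∨ y = CfsgLib.Chev.elX Cfsg.Lie.chevG2 F 9 1 := by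
    intro y hy
    simp only [List.mem_cons, List.not_mem_nil, or_false] at hy
    exact hy.imp (CfsgLib.Chev.eq_elX_of_coe hc h11) (CfsgLib.Chev.eq_elX_of_coe hc h9)
  have hord : ∀ r, r < Cfsg.Lie.chevG2.nroots → orderOf (CfsgLib.Chev.elX Cfsg.Lie.chevG2 F r (1 : F)) = 2 :=
    fun r hr => orderOf_eq_prime (by
      rw [sq, CfsgLib.Chev.elX_add hc F hr, CharTwo.add_self_eq_zero, CfsgLib.Chev.elX_zero hc F hr])
      (fun h => one_ne_zero ((CfsgLib.Chev.elX_eq_one_iff hc hr (1 : F)).1 h))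
  refine ⟨fun y hy => ?_, fun g hg h2 => ?_, fun y₁ _ y₂ _ h1 h2 hcj => ?_⟩
  · rcases key y hy with rfl | rfl
    · exact ⟨CfsgLib.Chev.elX_mem_group hc h11 1, hord 11 h11⟩
    · exact ⟨CfsgLib.Chev.elX_mem_group hc h9 1, hord 9 h9⟩
  · rcases CfsgLib.FGS73.G2Invol.classes hc hk hg h2 with ⟨h, hh, e⟩ | ⟨h, hh, e⟩
    · exact ⟨_, CfsgLib.Chev.elX_mem_group hc h11 1,
        List.mem_cons.2 (Or.inl (CfsgLib.Chev.coe_elX hc F h11 1)), h, hh, e⟩
    · exact ⟨_, CfsgLib.Chev.elX_mem_group hc h9 1,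
        List.mem_cons.2 (Or.inr (List.mem_cons.2 (Or.inl (CfsgLib.Chev.coe_elX hc F h9 1)))), h, hh, e⟩
  · obtain ⟨h, hh, e⟩ := hcj
    rcases key y₁ h1 with rfl | rfl <;> rcases key y₂ h2 with rfl | rfl
    · rfl
    · exact absurd ⟨h, hh, e⟩ (CfsgLib.FGS73.G2Invol.not_cj hc hk)
    · refine absurd ⟨h⁻¹, inv_mem hh, ?_⟩ (CfsgLib.FGS73.G2Invol.not_cj hc hk)
      rw [← e]
      group
    · rfl

end Cfsg.Agent.S2177
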