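import Cfsg.Statements.S2178
import Cfsg.Agent.Lib.ChevCent.Checked

set_option autoImplicit false
open Cfsg

namespace Cfsg.Agent.S2178

/-- Centralizers of the long and the short root involutions in the Chevalley group G of type F₄ over a finite field F of characteristic two (this problem's root numbering for type F₄, from the Chevalley data module: fundamental roots p₁, p₂ short, p₃, p₄ long, with indices 33, 27, 25, 24, their negatives 14, 20, 22, 23; highest root 47, highest short root 44; U the subgroup generated by the positive root subgroups). For an element t of G with matrix x_47(1): the centralizer of t in G is the subgroup generated by U and the root subgroups X_{−p₁}, X_{−p₂}, X_{−p₃} (the unipotent radical of the maximal parabolic subgroup whose Levi factor has fundamental roots p₁, p₂, p₃, together with that Levi factor's root subgroups; the Levi factor is of type C₃). For an element u of G with matrix x_44(1): the centralizer of u in G is generated by U and X_{−p₂}, X_{−p₃}, X_{−p₄} (the same construction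 for the Levi factor with fundamental roots p₂, p₃, p₄, of type B₃). -/
theorem result {F : Type*} [Field F] [Fintype F] [CharP F 2] (t u : GL Cfsg.Lie.chevF4.Idx F) (ht : (t : Matrix Cfsg.Lie.chevF4.Idx Cfsg.Lie.chevF4.Idx F) = Cfsg.Lie.chevF4.x F 47 1) (hu : (u : Matrix Cfsg.Lie.chevF4.Idx Cfsg.Lie.chevF4.Idx F) = Cfsg.Lie.chevF4.x F 44 1) :
    Cfsg.Lie.chevF4.group F ⊓ Subgroup.centralizer {t} = Cfsg.Lie.chevF4.posUnipotent F ⊔ Cfsg.Lie.chevF4.rootSubgroup F 14 ⊔ Cfsg.Lie.chevF4.rootSubgroup F 20 ⊔ Cfsg.Lie.chevF4.rootSubgroup F 22 ∧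
    Cfsg.Lie.chevF4.group F ⊓ Subgroup.centralizer {u} = Cfsg.Lie.chevF4.posUnipotent F ⊔ Cfsg.Lie.chevF4.rootSubgroup F 20 ⊔ Cfsg.Lie.chevF4.rootSubgroup F 22 ⊔ Cfsg.Lie.chevF4.rootSubgroup F 23 := by
  obtain ⟨T, hc, hk⟩ := CfsgLib.Chev.exists_checked' (D := Cfsg.Lie.chevF4) (by simp)
  have h1 := CfsgLib.ChevCent.centralizer_of_checks (F := F) hc hk
    (S := fun s => [0, 1, 2, 4, 5, 6, 15, 16, 17, 21, 22, 23, 24, 25, 26, 30, 31, 32, 41, 42, 43, 45, 46, 47].contains s)
    (r := 47) (i₀ := 3) (L := [14, 20, 22])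
    (by decide +kernel) (by decide +kernel) (by decide +kernel) (by decide +kernel) t ht
  have h2 := CfsgLib.ChevCent.centralizer_of_checks (F := F) hc hk
    (S := fun s => [3, 7, 8, 9, 10, 11, 12, 13, 14, 18, 19, 20, 27, 28, 29, 33, 34, 35, 36, 37, 38, 39, 40, 44].contains s)
    (r := 44) (i₀ := 0) (L := [20, 22, 23])
    (by decide +kernel) (by decide +kernel) (by decide +kernel) (by decide +kernel) u hu
  refine ⟨h1.trans ?_, h2.trans ?_⟩ <;>
  · rw [sup_assoc, sup_assoc]
    congr 1
    rw [CfsgLib.Chev.rootSubgroup_eq hc (by decide +kernel), CfsgLib.Chev.rootSubgroup_eq hc (by decide +kernel),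
      CfsgLib.Chev.rootSubgroup_eq hc (by decide +kernel)]
    refine le_antisymm (CfsgLib.Chev.uGen_le_iff.2 fun r hr hP c => ?_)
      (sup_le (CfsgLib.Chev.uGen_mono (by rintro r - rfl; simp)) (sup_le
        (CfsgLib.Chev.uGen_mono (by rintro r - rfl; simp)) (CfsgLib.Chev.uGen_mono (by rintro r - rfl; simp))))
    simp only [List.mem_cons, List.not_mem_nil, or_false] at hP
    rcases hP with h | h | h
    · exact Subgroup.mem_sup_left (CfsgLib.Chev.elX_mem_uGen hr h c)
    · exact Subgroup.mem_sup_right (Subgroup.mem_sup_left (CfsgLib.Chev.elX_mem_uGen hr h c))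
    · exact Subgroup.mem_sup_right (Subgroup.mem_sup_right (CfsgLib.Chev.elX_mem_uGen hr h c))

end Cfsg.Agent.S2178
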