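import Cfsg.Statements.S2179
import Cfsg.Agent.Lib.ChevCent.MixedF4

set_option autoImplicit false
open Cfsg

namespace Cfsg.Agent.S2179

/-- Centralizers of the two remaining classes of involutions in the Chevalley group G of type F₄ over a finite field F of characteristic two (this problem's root numbering for type F₄, from the Chevalley data module: p₁, p₂ short, p₃, p₄ long with indices 33, 27, 25, 24 and negatives 14, 20, 22, 23; U generated by the positive root subgroups). For an element of G with matrix x_47(1)x_44(1) (highest root times highest short root): its centralizer in G is generated by U, X_{−p₂} and X_{−p₃}. For an element of G with matrix x_39(1)x_45(1) (roots (1,2,2,1) and (2,4,2,1), an orthogonal short/long pair): its centralizer in G is generated by X_{p₁}, X_{−p₁}, X_{p₄}, X_{−p₄} and the root subgroups of all positive roots other than p₂ (27), p₃ (25), p₁ + p₂ (34) and p₃ + p₄ (26). -/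
theorem result {F : Type*} [Field F] [Fintype F] [CharP F 2] (w v : GL Cfsg.Lie.chevF4.Idx F) (hw : (w : Matrix Cfsg.Lie.chevF4.Idx Cfsg.Lie.chevF4.Idx F) = Cfsg.Lie.chevF4.x F 47 1 * Cfsg.Lie.chevF4.x F 44 1) (hv : (v : Matrix Cfsg.Lie.chevF4.Idx Cfsg.Lie.chevF4.Idx F) = Cfsg.Lie.chevF4.x F 39 1 * Cfsg.Lie.chevF4.x F 45 1) :
    Cfsg.Lie.chevF4.group F ⊓ Subgroup.centralizer {w} = Cfsg.Lie.chevF4.posUnipotent F ⊔ Cfsg.Lie.chevF4.rootSubgroup F 20 ⊔ Cfsg.Lie.chevF4.rootSubgroup F 22 ∧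
    Cfsg.Lie.chevF4.group F ⊓ Subgroup.centralizer {v} = Cfsg.Lie.chevF4.rootSubgroup F 33 ⊔ Cfsg.Lie.chevF4.rootSubgroup F 14 ⊔ Cfsg.Lie.chevF4.rootSubgroup F 24 ⊔ Cfsg.Lie.chevF4.rootSubgroup F 23 ⊔
      Subgroup.closure {g : GL Cfsg.Lie.chevF4.Idx F | ∃ (r : ℕ) (c : F), Cfsg.Lie.chevF4.IsPosRoot r ∧ r ∉ [27, 25, 34, 26] ∧ (g : Matrix Cfsg.Lie.chevF4.Idx Cfsg.Lie.chevF4.Idx F) = Cfsg.Lie.chevF4.x F r c} := by
  obtain ⟨T, hc, hk⟩ := CfsgLib.Chev.exists_checked' (D := Cfsg.Lie.chevF4) (by simp)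
  have hw' : w = CfsgLib.Chev.elX Cfsg.Lie.chevF4 F 47 (1 : F) * CfsgLib.Chev.elX Cfsg.Lie.chevF4 F 44 1 := by
    ext1
    rw [hw, Units.val_mul, CfsgLib.Chev.coe_elX hc F (by decide), CfsgLib.Chev.coe_elX hc F (by decide)]
  have hv' : v = CfsgLib.Chev.elX Cfsg.Lie.chevF4 F 39 (1 : F) * CfsgLib.Chev.elX Cfsg.Lie.chevF4 F 45 1 := by
    ext1
    rw [hv, Units.val_mul, CfsgLib.Chev.coe_elX hc F (by decide), CfsgLib.Chev.coe_elX hc F (by decide)]
  rw [hw', hv', CfsgLib.ChevCent.centralizer_w hc hk, CfsgLib.ChevCent.centralizer_v hc hk]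
  have hsub : ∀ r, r < Cfsg.Lie.chevF4.nroots →
      Cfsg.Lie.chevF4.rootSubgroup F r = CfsgLib.Chev.uGen Cfsg.Lie.chevF4 F (fun s => s = r) :=
    fun r hr => CfsgLib.Chev.rootSubgroup_eq hc hr
  constructor
  · rw [CfsgLib.Chev.posUnipotent_eq hc, sup_assoc, hsub 20 (by decide), hsub 22 (by decide)]
    congr 1
    refine le_antisymm (CfsgLib.Chev.uGen_le_iff.2 fun r hr hP c => ?_)
      (sup_le (CfsgLib.Chev.uGen_mono (by rintro r - rfl; simp)) (CfsgLib.Chev.uGen_mono (by rintro r - rfl; simp)))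
    simp only [List.mem_cons, List.not_mem_nil, or_false] at hP
    rcases hP with h | h
    · exact Subgroup.mem_sup_left (CfsgLib.Chev.elX_mem_uGen hr h c)
    · exact Subgroup.mem_sup_right (CfsgLib.Chev.elX_mem_uGen hr h c)
  · rw [hsub 33 (by decide), hsub 14 (by decide), hsub 24 (by decide), hsub 23 (by decide)]
    congr 1
    · refine le_antisymm (CfsgLib.Chev.uGen_le_iff.2 fun r hr hP c => ?_)
        (sup_le (sup_le (sup_le (CfsgLib.Chev.uGen_mono (by rintro r - rfl; simp))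
          (CfsgLib.Chev.uGen_mono (by rintro r - rfl; simp))) (CfsgLib.Chev.uGen_mono (by rintro r - rfl; simp)))
          (CfsgLib.Chev.uGen_mono (by rintro r - rfl; simp)))
      simp only [List.mem_cons, List.not_mem_nil, or_false] at hP
      rcases hP with h | h | h | h
      · exact Subgroup.mem_sup_left (Subgroup.mem_sup_left (Subgroup.mem_sup_left (CfsgLib.Chev.elX_mem_uGen hr h c)))
      · exact Subgroup.mem_sup_left (Subgroup.mem_sup_left (Subgroup.mem_sup_right (CfsgLib.Chev.elX_mem_uGen hr h c)))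
      · exact Subgroup.mem_sup_left (Subgroup.mem_sup_right (CfsgLib.Chev.elX_mem_uGen hr h c))
      · exact Subgroup.mem_sup_right (CfsgLib.Chev.elX_mem_uGen hr h c)
    · have hP : ∀ r, r ∈ CfsgLib.ChevCent.posBut CfsgLib.ChevCent.outsideV →
          r < 48 ∧ 24 ≤ r ∧ r ∉ [27, 25, 34, 26] := by decide +kernel
      have hP' : ∀ r < 48, 24 ≤ r → r ∉ [27, 25, 34, 26] →
          r ∈ CfsgLib.ChevCent.posBut CfsgLib.ChevCent.outsideV := by decide +kernel
      have hh : Cfsg.Lie.chevF4.nroots = 48 := by decide +kernel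
      rw [← CfsgLib.Chev.rootGen_eq hc _ fun r hr => hh ▸ (hP r hr).1]
      congr 1
      ext x
      constructor
      · rintro ⟨r, c, hr, hx⟩
        obtain ⟨h1, h2, h3⟩ := hP r hr
        exact ⟨r, c, (CfsgLib.Chev.isPosRoot_iff hc).2 ⟨hh ▸ h1, by omega⟩, h3, hx⟩
      · rintro ⟨r, c, hr, h3, hx⟩
        obtain ⟨h1, h2⟩ := (CfsgLib.Chev.isPosRoot_iff hc).1 hr
        exact ⟨r, c, hP' r (hh ▸ h1) (by omega) h3, hx⟩

end Cfsg.Agent.S2179
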