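import Cfsg.Statements.S2180
import Cfsg.Agent.Lib.ChevCent.MixedG2

set_option autoImplicit false
open Cfsg

namespace Cfsg.Agent.S2180

/-- Centralizers of involutions in the Chevalley group G of type G₂ over a finite field F of characteristic two with at least four elements (this problem's root numbering for type G₂, from the Chevalley data module: a = p₁ short with index 7, b = p₂ long with index 6, −a = 4, −b = 5, 2a + b = 9, 3a + b = 10, 3a + 2b = 11; U generated by the positive root subgroups). For an element z of G with matrix x_{3a+2b}(1): the centralizer of z in G is generated by U and X_{−a}. For an element t of G with matrix x_{2a+b}(1): the centralizer of t in G is generated by X_{2a+b}, X_{3a+b}, X_{3a+2b}, X_b and X_{−b}. -/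
theorem result {F : Type*} [Field F] [Fintype F] [CharP F 2] (hF : 4 ≤ Fintype.card F) (z t : GL Cfsg.Lie.chevG2.Idx F) (hz : (z : Matrix Cfsg.Lie.chevG2.Idx Cfsg.Lie.chevG2.Idx F) = Cfsg.Lie.chevG2.x F 11 1) (ht : (t : Matrix Cfsg.Lie.chevG2.Idx Cfsg.Lie.chevG2.Idx F) = Cfsg.Lie.chevG2.x F 9 1) :
    Cfsg.Lie.chevG2.group F ⊓ Subgroup.centralizer {z} = Cfsg.Lie.chevG2.posUnipotent F ⊔ Cfsg.Lie.chevG2.rootSubgroup F 4 ∧
    Cfsg.Lie.chevG2.group F ⊓ Subgroup.centralizer {t} = Cfsg.Lie.chevG2.rootSubgroup F 9 ⊔ Cfsg.Lie.chevG2.rootSubgroup F 10 ⊔ Cfsg.Lie.chevG2.rootSubgroup F 11 ⊔ Cfsg.Lie.chevG2.rootSubgroup F 6 ⊔ Cfsg.Lie.chevG2.rootSubgroup F 5 := by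
  obtain ⟨T, hc, hk⟩ := CfsgLib.Chev.exists_checked' (D := Cfsg.Lie.chevG2) (by simp)
  have hsub : ∀ r, r < Cfsg.Lie.chevG2.nroots →
      Cfsg.Lie.chevG2.rootSubgroup F r = CfsgLib.Chev.uGen Cfsg.Lie.chevG2 F (fun s => s = r) :=
    fun r hr => CfsgLib.Chev.rootSubgroup_eq hc hr
  have h1 := CfsgLib.ChevCent.centralizer_of_checks (F := F) hc hk
    (S := fun s => [0, 1, 5, 6, 10, 11].contains s) (r := 11) (i₀ := 1) (L := [4])
    (by decide +kernel) (by decide +kernel) (by decide +kernel) (by decide +kernel) z hz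
  refine ⟨h1.trans ?_, ?_⟩
  · rw [hsub 4 (by decide)]
    congr 1
    exact CfsgLib.Chev.uGen_congr fun r _ => by simp
  · rw [CfsgLib.Chev.eq_elX_of_coe hc (show 9 < Cfsg.Lie.chevG2.nroots by decide) ht,
      CfsgLib.ChevCent.centralizer_g2 hc hk,
      hsub 9 (by decide), hsub 10 (by decide), hsub 11 (by decide), hsub 6 (by decide), hsub 5 (by decide)]
    refine le_antisymm (CfsgLib.Chev.uGen_le_iff.2 fun r hr hP c => ?_)
      (sup_le (sup_le (sup_le (sup_le (CfsgLib.Chev.uGen_mono (by rintro r - rfl; simp))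
        (CfsgLib.Chev.uGen_mono (by rintro r - rfl; simp))) (CfsgLib.Chev.uGen_mono (by rintro r - rfl; simp)))
        (CfsgLib.Chev.uGen_mono (by rintro r - rfl; simp))) (CfsgLib.Chev.uGen_mono (by rintro r - rfl; simp)))
    simp only [List.mem_cons, List.not_mem_nil, or_false] at hP
    rcases hP with h | h | h | h | h
    · exact Subgroup.mem_sup_right (CfsgLib.Chev.elX_mem_uGen hr h c)
    · exact Subgroup.mem_sup_left (Subgroup.mem_sup_right (CfsgLib.Chev.elX_mem_uGen hr h c))
    · exact Subgroup.mem_sup_left (Subgroup.mem_sup_left (Subgroup.mem_sup_left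
        (Subgroup.mem_sup_left (CfsgLib.Chev.elX_mem_uGen hr h c))))
    · exact Subgroup.mem_sup_left (Subgroup.mem_sup_left (Subgroup.mem_sup_left
        (Subgroup.mem_sup_right (CfsgLib.Chev.elX_mem_uGen hr h c))))
    · exact Subgroup.mem_sup_left (Subgroup.mem_sup_left
        (Subgroup.mem_sup_right (CfsgLib.Chev.elX_mem_uGen hr h c)))

end Cfsg.Agent.S2180
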