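import Cfsg.Statements.S2192
import Cfsg.Agent.Lib.TwistSub.D4
import Cfsg.Agent.Lib.Twisted.D4Group

set_option autoImplicit false
open Cfsg

namespace Cfsg.Agent.S2192

/-- In the twisted group ³D₄(q), realised inside the Chevalley group of type D₄ over the field K with q³ elements (q a power of the characteristic) as the subgroup generated by the root elements, and products of root elements, that the twisting map fixes, the subgroup of matrices all of whose entries lie in the subfield with q elements (it contains the subgroup of type G₂ over that subfield) is a proper maximal subgroup. -/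
theorem result {K : Type*} [Field K] [Fintype K] (p : ℕ) [Fact p.Prime] [CharP K p] (q : ℕ) (hq : ∃ a : ℕ, 1 ≤ a ∧ q = p ^ a) (hK : Fintype.card K = q ^ 3) (M : Subgroup (GL Cfsg.Lie.chevD4.Idx K))
    (hM : ∀ g : GL Cfsg.Lie.chevD4.Idx K, g ∈ M ↔ g ∈ Cfsg.Lie.twistedD4 K q ∧ ∀ i j : Cfsg.Lie.chevD4.Idx, ((g : Matrix Cfsg.Lie.chevD4.Idx Cfsg.Lie.chevD4.Idx K) i j) ^ q = (g : Matrix Cfsg.Lie.chevD4.Idx Cfsg.Lie.chevD4.Idx K) i j) :
    M ≠ Cfsg.Lie.twistedD4 K q ∧ ∀ H : Subgroup (GL Cfsg.Lie.chevD4.Idx K), M ≤ H → H ≤ Cfsg.Lie.twistedD4 K q → H = M ∨ H = Cfsg.Lie.twistedD4 K q := by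
  obtain ⟨a, ha, rfl⟩ := hq
  have hqp : IsPrimePow (p ^ a) := ⟨p, a, (Fact.out : p.Prime).prime, ha, rfl⟩
  obtain ⟨φ, hφ⟩ := CfsgLib.Twisted.exists_frob hqp (d := 3) (by norm_num) hK
  have hM' : M = CfsgLib.TwistSub.ratGrp CfsgLib.Twisted.D4.sym_test φ := by
    ext g
    rw [hM, CfsgLib.Twisted.D4.twistedD4_eq hK φ hφ, CfsgLib.TwistSub.ratGrp, Subgroup.mem_inf,
      CfsgLib.TwistSub.mem_ratSub]
    refine and_congr_right fun _ => ⟨fun h => Units.ext (Matrix.ext fun i j => ?_), fun h i j => ?_⟩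
    · show φ _ = _
      rw [hφ, h]
    · conv_rhs => rw [← h]
      exact (hφ _).symm
  rw [hM', CfsgLib.Twisted.D4.twistedD4_eq hK φ hφ]
  exact CfsgLib.TwistSub.D4.maximal p hqp hK φ hφ
end Cfsg.Agent.S2192
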