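import Cfsg.Statements.S2197
import Cfsg.Agent.Lib.RankThree.TitsTwoTransData
import Cfsg.Agent.S1074

set_option autoImplicit false
open Cfsg

namespace Cfsg.Agent.S2197

/-- a simple nonabelian group has no nontrivial map to an abelian group -/
theorem hom_eq_one {G A : Type*} [Group G] [CommGroup A] (hs : IsSimpleGroup G)
    (hn : ¬ IsMulCommutative G) (f : G →* A) : f = 1 := by
  rcases hs.eq_bot_or_eq_top_of_normal f.ker inferInstance with h | h
  · refine absurd ?_ hn
    refine ⟨⟨fun a b => (MonoidHom.ker_eq_bot_iff f).1 h ?_⟩⟩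
    rw [map_mul, map_mul, mul_comm]
  · ext x
    simpa using (f.mem_ker (x := x)).1 (h ▸ Subgroup.mem_top x)

/-- The Tits group (the commutator subgroup of ²F₄(2)) has no faithful 2-transitive action on a finite set with more than two points. -/
theorem result {Ω : Type*} [Fintype Ω] [MulAction Cfsg.Lie.TitsGroup Ω] [FaithfulSMul Cfsg.Lie.TitsGroup Ω] (hΩ : 3 ≤ Fintype.card Ω) :
    ¬ MulAction.IsMultiplyPretransitive Cfsg.Lie.TitsGroup Ω 2 := by
  classical
  intro h2
  obtain ⟨hidx, hs, hn, hcard⟩ := Cfsg.Agent.S1074.result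
  obtain ⟨D⟩ := CfsgLib.TitsTTW.exists_data hidx (by rw [hcard]; norm_num) (fun f => hom_eq_one hs hn f)
  exact CfsgLib.TitsTT.Data.not_two_transitive h2 D hΩ

end Cfsg.Agent.S2197
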