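import Cfsg.Statements.S2202
import Cfsg.Agent.Lib.AbInvCent.Structure

set_option autoImplicit false
open Cfsg

namespace Cfsg.Agent.S2202

/-- Finite groups in which the centralizer of every involution is abelian. Let G be a finite group of even order in which the centralizer of every element of order 2 is abelian. Then the Sylow 2-subgroups of G are cyclic, or a Sylow 2-subgroup of G is normal, or G is isomorphic to the direct product of SL₂(F) for a finite field F of characteristic two and an abelian group of odd order. -/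
theorem result {G : Type*} [Group G] [Finite G] (heven : Even (Nat.card G)) (h : ∀ t : G, orderOf t = 2 → IsMulCommutative ↥(Subgroup.centralizer ({t} : Set G))) :
    (∀ P : Sylow 2 G, IsCyclic ↥P) ∨ (∀ P : Sylow 2 G, (P : Subgroup G).Normal) ∨
    (∃ (F : Type) (_ : Field F) (_ : Fintype F) (A : Type) (_ : CommGroup A) (_ : Finite A), CharP F 2 ∧ Odd (Nat.card A) ∧ Nonempty (G ≃* Matrix.SpecialLinearGroup (Fin 2) F × A)) := by
  by_cases hc : ∀ P : Sylow 2 G, IsCyclic ↥P
  · exact Or.inl hc
  by_cases hn : ∀ P : Sylow 2 G, (P : Subgroup G).Normal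
  · exact Or.inr (Or.inl hn)
  push Not at hc hn
  obtain ⟨P, hP⟩ := hc
  obtain ⟨Q, hQ⟩ := hn
  have hPn : ¬ (P : Subgroup G).Normal := fun hh => hQ (by
    have := Sylow.unique_of_normal P hh
    rw [Subsingleton.elim Q P]
    exact hh)
  have hH : CfsgLib.AbInvCent.Hyp P := ⟨h, hP, hPn⟩
  obtain ⟨F, instF, instFin, hF, hodd, ⟨e⟩⟩ := hH.exists_mulEquiv_SL_prod
  obtain ⟨n, ⟨φ₀⟩⟩ := Finite.exists_equiv_fin ↥(Subgroup.center G)
  let φ : ↥(Subgroup.center G) ≃ {_i : Fin n // True} :=
    φ₀.trans (Equiv.subtypeUnivEquiv fun _ => trivial).symm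
  let _ : CommGroup ↥(Subgroup.center G) :=
    { (inferInstance : Group ↥(Subgroup.center G)) with
      mul_comm := fun a b => Subtype.ext (Subgroup.mem_center_iff.mp b.2 a) }
  let _ : CommGroup {_i : Fin n // True} := φ.symm.commGroup
  refine Or.inr (Or.inr ⟨F, instF, instFin, {_i : Fin n // True}, inferInstance, inferInstance, hF,
    ?_, ⟨e.trans ((MulEquiv.refl _).prodCongr (φ.symm.mulEquiv).symm)⟩⟩)
  rwa [← Nat.card_congr φ]

end Cfsg.Agent.S2202
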