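import Cfsg.Statements.S2205
import Cfsg.Agent.Lib.PSqOne.Count
-- import your own Cfsg.Agent.* helpers here

set_option autoImplicit false
open scoped Pointwise
open Cfsg

namespace Cfsg.Agent.S2205

/-- A finite group acting faithfully and 2-transitively on a set with p² + 1 points, p a prime, is doubly primitive — a point stabilizer acts primitively on the remaining p² points — unless p = 2 and the group is the Frobenius group of order 20. -/
theorem result {G Ω : Type*} [Group G] [Finite G] [Fintype Ω] [MulAction G Ω] [FaithfulSMul G Ω] (p : ℕ) (hp : p.Prime) (hΩ : Fintype.card Ω = p ^ 2 + 1) (h2 : MulAction.IsMultiplyPretransitive G Ω 2) (a : Ω) :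
    MulAction.IsPreprimitive ↥(MulAction.stabilizer G a) ↥(SubMulAction.ofStabilizer G a) ∨ (p = 2 ∧ Nat.card G = 20) := by
  have : Fact p.Prime := ⟨hp⟩
  have hn : Nat.card Ω = p ^ 2 + 1 := by rw [Nat.card_eq_fintype_card, hΩ]
  have hpre : MulAction.IsPretransitive ↥(MulAction.stabilizer G a)
      ↥(SubMulAction.ofStabilizer G a) := ⟨fun c d => by
    obtain ⟨g, hga, hgc⟩ := MulAction.is_two_pretransitive_iff.1 h2
      (show a ≠ (c : Ω) from fun h => c.2 h.symm) (show a ≠ (d : Ω) from fun h => d.2 h.symm)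
    exact ⟨⟨g, hga⟩, Subtype.ext hgc⟩⟩
  refine or_iff_not_imp_left.2 fun hnp => ?_
  suffices h : Nonempty (CfsgLib.PSqOne.Sys G Ω p) by
    obtain ⟨S⟩ := h
    by_cases hp2 : p = 2
    · exact ⟨hp2, CfsgLib.PSqOne.card_of_two S h2 hn hp2⟩
    · exact (CfsgLib.PSqOne.false_of_sys S h2 hn hp2).elim
  obtain ⟨B, hB, hBnt⟩ : ∃ B : Set ↥(SubMulAction.ofStabilizer G a),
      MulAction.IsBlock ↥(MulAction.stabilizer G a) B ∧ ¬ MulAction.IsTrivialBlock B := by
    by_contra h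
    push Not at h
    exact hnp { hpre with isTrivialBlock_of_isBlock := fun {B} hB => h B hB }
  have hcard : Nat.card ↥(SubMulAction.ofStabilizer G a) = p ^ 2 := by
    have : Nat.card ↥(SubMulAction.ofStabilizer G a) = ({a}ᶜ : Set Ω).ncard := by
      rw [← Nat.card_coe_set_eq]; rfl
    rw [this, Set.ncard_compl, Set.ncard_singleton, hn, Nat.add_sub_cancel]
  have hsub : ¬ B.Subsingleton := fun h => hBnt (Or.inl h)
  obtain ⟨b0, hb0⟩ : B.Nonempty := by
    rcases B.eq_empty_or_nonempty with h | h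
    · exact absurd (h ▸ Set.subsingleton_empty) hsub
    · exact h
  have hBp : B.ncard = p := by
    have h1 := hB.ncard_dvd_card ⟨b0, hb0⟩
    rw [hcard] at h1
    obtain ⟨k, hk, hk'⟩ := (Nat.dvd_prime_pow hp).1 h1
    have h3 : k ≠ 0 := by
      rintro rfl
      rw [pow_zero] at hk'
      exact hsub (fun x hx y hy => (Set.ncard_le_one (Set.toFinite _)).1 hk'.le x hx y hy)
    have h4 : k ≠ 2 := by
      rintro rfl
      exact hBnt (Or.inr (Set.eq_of_subset_of_ncard_le (Set.subset_univ _) (by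
        rw [Set.ncard_univ, hcard, hk']) (Set.toFinite _)))
    obtain rfl : k = 1 := by omega
    rw [hk', pow_one]
  set B' : Set Ω := Subtype.val '' B with hB'
  have hcmp : ∀ {g g' : G} {x : Ω}, g • a = x → g' • a = x → ∀ {z : Ω}, g⁻¹ • z ∈ B' →
      g'⁻¹ • z ∈ B' → ∀ c, g⁻¹ • c ∈ B' → g'⁻¹ • c ∈ B' := by
    intro g g' x hg hg' z hz hz' c hc
    have hk : g'⁻¹ * g ∈ MulAction.stabilizer G a := by
      rw [MulAction.mem_stabilizer_iff, mul_smul, hg, inv_smul_eq_iff, hg']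
    obtain ⟨u, hu, hue⟩ := hz
    obtain ⟨v, hv, hve⟩ := hz'
    obtain ⟨w, hw, hwe⟩ := hc
    have hkey : (⟨_, hk⟩ : ↥(MulAction.stabilizer G a)) • u = v := by
      refine Subtype.ext ?_
      show (g'⁻¹ * g) • (u : Ω) = v
      rw [hue, hve, mul_smul, smul_inv_smul]
    rcases MulAction.isBlock_iff_smul_eq_or_disjoint.1 hB (⟨_, hk⟩ : ↥(MulAction.stabilizer G a))
      with h | h
    · refine ⟨(⟨_, hk⟩ : ↥(MulAction.stabilizer G a)) • w, h ▸ Set.smul_mem_smul_set hw, ?_⟩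
      show (g'⁻¹ * g) • (w : Ω) = _
      rw [hwe, mul_smul, smul_inv_smul]
    · exact (Set.disjoint_left.1 h (hkey ▸ Set.smul_mem_smul_set hu) hv).elim
  have hex : ∀ {x y : Ω}, x ≠ y → ∃ g : G, g • a = x ∧ g⁻¹ • y ∈ B' := by
    intro x y hxy
    obtain ⟨g, hga, hgb⟩ := MulAction.is_two_pretransitive_iff.1 h2
      (show a ≠ (b0 : Ω) from fun h => b0.2 h.symm) hxy
    exact ⟨g, hga, b0, hb0, by rw [← hgb, inv_smul_smul]⟩
  refine ⟨{
    blk := fun x y => {c | ∃ g : G, g • a = x ∧ g⁻¹ • y ∈ B' ∧ g⁻¹ • c ∈ B'}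
    smul_mem := ?_, self := ?_, apex := ?_, eq_of_mem := ?_, card := ?_ }⟩
  · rintro h x y c ⟨g, hg, hy, hc⟩
    exact ⟨h * g, by rw [mul_smul, hg], by rw [_root_.mul_inv_rev, mul_smul, inv_smul_smul]; exact hy,
      by rw [_root_.mul_inv_rev, mul_smul, inv_smul_smul]; exact hc⟩
  · intro x y hxy
    obtain ⟨g, hga, hgy⟩ := hex hxy
    exact ⟨g, hga, hgy, hgy⟩
  · rintro x y ⟨g, hg, -, u, -, hu⟩
    exact u.2 (show (u : Ω) = a by rw [hu, ← hg, inv_smul_smul])
  · rintro x y c hxy ⟨g, hg, hy, hc⟩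
    ext d
    constructor
    · rintro ⟨g', hg', hc', hd⟩
      exact ⟨g, hg, hy, hcmp hg' hg hc' hc d hd⟩
    · rintro ⟨g', hg', hy', hd⟩
      exact ⟨g, hg, hc, hcmp hg' hg hy' hy d hd⟩
  · intro x y hxy
    obtain ⟨g, hga, hgy⟩ := hex hxy
    have : {c | ∃ g : G, g • a = x ∧ g⁻¹ • y ∈ B' ∧ g⁻¹ • c ∈ B'} = (fun c => g • c) '' B' := by
      ext c
      constructor
      · rintro ⟨g', hg', hy', hc⟩
        exact ⟨g⁻¹ • c, hcmp hg' hga hy' hgy c hc, smul_inv_smul g c⟩
      · rintro ⟨d, hd, rfl⟩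
        exact ⟨g, hga, hgy, by rw [inv_smul_smul]; exact hd⟩
    rw [this, Set.ncard_image_of_injective _ (MulAction.injective g), hB',
      Set.ncard_image_of_injective _ Subtype.val_injective, hBp]

end Cfsg.Agent.S2205
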