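import Cfsg.Statements.S2214
import Cfsg.Agent.Lib.ChevCent.Subfield
import Cfsg.Agent.Lib.Chev.All

set_option autoImplicit false
open Cfsg

namespace Cfsg.Agent.S2214

/-- Let k be an algebraically closed field of prime characteristic p, G the adjoint Chevalley group of type G₂, B₂, D₄, F₄, E₆, E₇ or E₈ over k (the matrix group generated by the root elements x_s(t), t ∈ k, acting on the Lie algebra), q = p^a with a ≥ 1, and K a subgroup of G containing every root element x_s(t) with t^q = t and consisting of matrices all of whose entries c satisfy c^q = c. Then the centralizer of K in G is trivial, and the normalizer of K in G is exactly the set of elements of G all of whose entries c satisfy c^q = c. -/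
theorem result {k : Type*} [Field k] [IsAlgClosed k] (p : ℕ) [Fact p.Prime] [CharP k p] (D : Cfsg.Lie.ChevalleyDatum) (hD : D ∈ [Cfsg.Lie.chevG2, Cfsg.Lie.chevB2, Cfsg.Lie.chevD4, Cfsg.Lie.chevF4, Cfsg.Lie.chevE6, Cfsg.Lie.chevE7, Cfsg.Lie.chevE8]) (a : ℕ) (ha : 1 ≤ a) (K : Subgroup (GL D.Idx k)) (hKG : K ≤ D.group k)
    (hLK : Subgroup.closure {g : GL D.Idx k | ∃ (s : ℕ) (t : k), t ^ (p ^ a) = t ∧ (g : Matrix D.Idx D.Idx k) = D.x k s t} ≤ K)
    (hKfix : ∀ g ∈ K, ∀ i j : D.Idx, ((g : Matrix D.Idx D.Idx k) i j) ^ (p ^ a) = (g : Matrix D.Idx D.Idx k) i j) :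
    D.group k ⊓ Subgroup.centralizer (K : Set (GL D.Idx k)) = ⊥ ∧
    ∀ g : GL D.Idx k, g ∈ D.group k → (g ∈ Subgroup.normalizer (K : Set (GL D.Idx k)) ↔ ∀ i j : D.Idx, ((g : Matrix D.Idx D.Idx k) i j) ^ (p ^ a) = (g : Matrix D.Idx D.Idx k) i j) := by
  obtain ⟨T, hc, hcomm⟩ := CfsgLib.Chev.exists_checked' hD
  haveI : ExpChar k p := ExpChar.prime Fact.out
  set σ : k →+* k := iterateFrobenius k p a with hσ
  have hσ' : ∀ c : k, σ c = c ^ (p ^ a) := fun c => iterateFrobenius_def p a c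
  have hmap : ∀ g : GL D.Idx k, CfsgLib.ChevField.glMap D σ g = g ↔
      ∀ i j : D.Idx, ((g : Matrix D.Idx D.Idx k) i j) ^ (p ^ a) = (g : Matrix D.Idx D.Idx k) i j := by
    intro g
    refine ⟨fun h i j => ?_, fun h => Units.ext (Matrix.ext fun i j => (hσ' _).trans (h i j))⟩
    rw [← hσ']
    exact congrArg (fun y : GL D.Idx k => (y : Matrix D.Idx D.Idx k) i j) h
  have hroot : ∀ r < D.nroots, ∀ c : k, σ c = c → CfsgLib.Chev.elX D k r c ∈ K := fun r hr c hc' =>
    hLK (Subgroup.subset_closure ⟨r, c, (hσ' c).symm.trans hc', CfsgLib.Chev.coe_elX hc k hr c⟩)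
  refine ⟨(Subgroup.eq_bot_iff_forall _).2 fun g hg => ?_, fun g hg => ?_⟩
  · exact CfsgLib.ChevCent.eq_one_of_commute hc hcomm hg.1 fun r hr =>
      (hg.2 _ (hroot r hr 1 (map_one σ))).symm
  · rw [CfsgLib.ChevCent.normalizer_iff_fixed hc hcomm σ hKG hroot (fun y hy => (hmap y).2 (hKfix y hy)) hg, hmap]

end Cfsg.Agent.S2214
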