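import Cfsg.Statements.S2219
import Cfsg.Agent.Lib.PSection.Five
import Cfsg.Agent.Lib.PSection.Seven
import Cfsg.Agent.Lib.CITApp.Facts
import Cfsg.Agent.Lib.PSL2Spec.Main
import Cfsg.Agent.Lib.CIT.CutTwo
import Cfsg.Agent.S1011
import Cfsg.Agent.S0997
import Mathlib.FieldTheory.Finite.GaloisField

set_option autoImplicit false
open Cfsg

namespace Cfsg.Agent.S2219

open CfsgLib CfsgLib.PSection
open scoped IsMulCommutative

theorem odd_part {n h a : ℕ} (h2 : ¬ 2 ∣ n) (hd : n ∣ 9 * 2 ^ a) (h9 : 9 * h = n) : n = 9 := by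
  have h' : n ∣ 9 := (((Nat.prime_two.coprime_iff_not_dvd.2 h2).symm).pow_right a).dvd_of_dvd_mul_right hd
  have := Nat.le_of_dvd (by norm_num) h'
  interval_cases n <;> omega

/-- Let G be a non-abelian finite simple group of order 9·2ᵃ·qᵇ for a prime q other than 2 and 3, having at least three conjugacy classes of nonidentity 3-elements (elements of order 3 or 9). Then G is isomorphic to PSL(2,8) or to PSL(2,17). -/
theorem result {G : Type*} [Group G] [Finite G] [IsSimpleGroup G] (hG : ¬ IsMulCommutative G)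
    (q a b : ℕ) (hq : q.Prime) (hq2 : q ≠ 2) (hq3 : q ≠ 3) (hcard : Nat.card G = 9 * 2 ^ a * q ^ b)
    (h3 : 3 ≤ Nat.card {C : ConjClasses G // ∃ g ∈ C.carrier, g ≠ 1 ∧ orderOf g ∣ 9}) :
    (∃ (F : Type) (_ : Field F) (_ : Fintype F), Fintype.card F = 8 ∧
        Nonempty (G ≃* Matrix.ProjectiveSpecialLinearGroup (Fin 2) F)) ∨
      Nonempty (G ≃* Matrix.ProjectiveSpecialLinearGroup (Fin 2) (ZMod 17)) := by
  classical
  haveI := Fintype.ofFinite G
  haveI : Fact (Nat.Prime 3) := ⟨Nat.prime_three⟩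
  haveI := Fact.mk hq
  have hna := SelfCentNoncyclic.center_eq_bot hG
  obtain ⟨P⟩ : Nonempty (Sylow 3 G) := inferInstance
  have hf3 : ¬ 3 ∣ 2 ^ a * q ^ b := by
    intro h
    rcases Nat.prime_three.dvd_mul.1 h with h | h
    · have := Nat.prime_three.dvd_of_dvd_pow h; norm_num at this
    · exact hq3 ((Nat.prime_dvd_prime_iff_eq Nat.prime_three hq).1 (Nat.prime_three.dvd_of_dvd_pow h)).symm
  have hP : Nat.card (P : Subgroup G) = 9 := by
    have hne : 2 ^ a * q ^ b ≠ 0 := by have := hq.pos; positivity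
    rw [P.card_eq_multiplicity, hcard, mul_assoc, Nat.factorization_mul (by norm_num) hne,
      Finsupp.add_apply, Nat.factorization_eq_zero_of_not_dvd hf3,
      show (9 : ℕ) = 3 ^ 2 from rfl, Nat.prime_three.factorization_pow, Finsupp.single_eq_same]
  haveI : IsMulCommutative (P : Subgroup G) :=
    IsPGroup.isMulCommutative_of_card_eq_prime_sq (p := 3) (by rw [hP]; norm_num)
  haveI := Fintype.ofFinite (P : Subgroup G)
  obtain ⟨k, hk⟩ := exists_expo P
  obtain ⟨A, B, e, f, l, hAp, hBp, -, he, hf, hl1, hl, hst, hrel, hA3, hB3⟩ :=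
    exists_hasRel hG hP hk h3
  have hdvd : ∀ C : IrrCharacter G, ¬ 3 ∣ charDegree (C : G → ℂ) →
      charDegree (C : G → ℂ) ∣ 2 ^ a * q ^ b := fun C hC => by
    have := Blk83.deg_dvd C
    rw [hcard, mul_assoc] at this
    exact (((Nat.prime_three.coprime_iff_not_dvd.2 hC).symm).pow_right 2).dvd_of_dvd_mul_left this
  have hA1 := degree_ne_one hG hAp
  have hB1 := degree_ne_one hG hBp
  have h1 : 1 + e * (charDegree (A : G → ℂ) : ℤ) + f * (charDegree (B : G → ℂ) : ℤ) = 0 := by
    have := hrel 1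
    rw [ext_one hst, phi_one, Blk83.one_eq, Blk83.one_eq] at this
    exact_mod_cast this.symm
  have key : ∀ (C D : IrrCharacter G) (c d : ℤ), C ≠ Char.principalIrr → (c = 1 ∨ c = -1) →
      (d = 1 ∨ d = -1) → charDegree (C : G → ℂ) ∣ 2 ^ a * q ^ b → charDegree (D : G → ℂ) ∣ 2 ^ a * q ^ b →
      charDegree (C : G → ℂ) ≠ 1 → charDegree (D : G → ℂ) ≠ 1 → ¬ 2 ∣ charDegree (C : G → ℂ) →
      (charDegree (D : G → ℂ) = charDegree (C : G → ℂ) + 1 ∨
        charDegree (C : G → ℂ) = charDegree (D : G → ℂ) + 1) →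
      (∀ g, ext P k (phi l) g = 1 + (c : ℂ) * (C : G → ℂ) g + (d : ℂ) * (D : G → ℂ) g) →
      (∃ (F : Type) (_ : Field F) (_ : Fintype F), Fintype.card F = 8 ∧
          Nonempty (G ≃* Matrix.ProjectiveSpecialLinearGroup (Fin 2) F)) ∨
        Nonempty (G ≃* Matrix.ProjectiveSpecialLinearGroup (Fin 2) (ZMod 17)) := by
    intro C D c d hCp hc hd hCd hDd hC1 hD1 hodd hadj hCD
    set m := charDegree (C : G → ℂ) with hm
    set n := charDegree (D : G → ℂ) with hn
    obtain ⟨j, -, hj⟩ := (Nat.dvd_prime_pow hq).1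
      ((((Nat.prime_two.coprime_iff_not_dvd.2 hodd).symm).pow_right a).dvd_of_dvd_mul_left hCd)
    have hj0 : j ≠ 0 := fun h => hC1 (by rw [hj, h, pow_zero])
    have hqn : ¬ q ∣ n := fun h => by
      have hqm : q ∣ m := hj ▸ dvd_pow_self q hj0
      rcases hadj with e' | e'
      · exact hq.not_dvd_one ((Nat.dvd_add_right hqm).1 (e' ▸ h))
      · exact hq.not_dvd_one ((Nat.dvd_add_right h).1 (e' ▸ hqm))
    obtain ⟨i, -, hi⟩ := (Nat.dvd_prime_pow Nat.prime_two).1
      ((((hq.coprime_iff_not_dvd.2 hqn).symm).pow_right b).dvd_of_dvd_mul_right hDd)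
    have h9 : q ^ j ≠ 9 := fun h => hq3 ((Nat.prime_dvd_prime_iff_eq hq Nat.prime_three).1
      (hq.dvd_of_dvd_pow (n := 2) ((dvd_pow_self q hj0).trans (dvd_of_eq (by rw [h]; norm_num)))))
    have hj1 : j = 1 := by
      rcases hadj with e' | e'
      · exact CIT.eq_one_of_pow_add_one_eq_two_pow hq hq2 hj0 (j := i) (by omega)
      · exact (HalfTransitive.pow_eq_two_pow_succ hq hq2 hj0 (j := i) (by omega)).resolve_right h9
    rw [hj1, pow_one] at hj
    obtain ⟨x, hx, hsq, hSC⟩ := PrimeDeg.exists_selfCent hna hCp hj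
    have hb : b = 1 := by
      have hqG : q ∣ Nat.card G := hj ▸ Blk83.deg_dvd C
      rcases (show b = 0 ∨ b = 1 ∨ 2 ≤ b by omega) with hb | hb | hb
      · rw [hcard, hb, pow_zero, mul_one] at hqG
        rcases hq.dvd_mul.1 hqG with h | h
        · exact absurd ((Nat.prime_dvd_prime_iff_eq hq Nat.prime_three).1
            (hq.dvd_of_dvd_pow (n := 2) (by simpa using h))) hq3
        · exact absurd ((Nat.prime_dvd_prime_iff_eq hq Nat.prime_two).1 (hq.dvd_of_dvd_pow h)) hq2
      · exact hb
      · exact absurd ((pow_dvd_pow q hb).trans ⟨9 * 2 ^ a, by rw [hcard]; ring⟩) hsq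
    subst hb
    rw [pow_one] at hcard
    have hq5 : 5 ≤ q := hq.five_le_of_ne_two_of_ne_three hq2 hq3
    rcases (show q = 5 ∨ q = 6 ∨ q = 7 ∨ q = 8 ∨ q = 9 ∨ q = 10 ∨ 11 ≤ q by omega) with
      rfl | rfl | rfl | rfl | rfl | rfl | hq11
    · exfalso
      have h11 : Nat.Coprime 11 (Nat.card G) := by
        rw [hcard]
        exact ((by norm_num : Nat.Coprime 11 9).mul_right ((by norm_num : Nat.Coprime 11 2).pow_right a)).mul_right
          (by norm_num)
      have hn4 : n = 4 := by
        rcases hadj with e' | e'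
        · exfalso
          have h6 : n = 6 := by omega
          rw [h6] at hDd
          rcases Nat.prime_three.dvd_mul.1 ((by norm_num : 3 ∣ 6).trans hDd) with h | h
          · have := Nat.prime_three.dvd_of_dvd_pow h; norm_num at this
          · have := Nat.prime_three.dvd_of_dvd_pow h; norm_num at this
        · omega
      exact not_four_five hna hP hk h11 hd hc hn4 hj hl1 hl hst fun g => by rw [hCD g]; ring
    · norm_num at hq
    · left
      have hn8 : n = 8 := by
        rcases hadj with e' | e'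
        · omega
        · exfalso
          have h6 : n = 6 := by omega
          rw [h6] at hDd
          rcases Nat.prime_three.dvd_mul.1 ((by norm_num : 3 ∣ 6).trans hDd) with h | h
          · have := Nat.prime_three.dvd_of_dvd_pow h; norm_num at this
          · have := Nat.prime_three.dvd_of_dvd_pow h; norm_num at this
      have h504 := card_eq_of_seven hG (a := a) hcard (hn8 ▸ Blk83.deg_dvd D) hx hSC
      letI : Fintype (GaloisField 2 3) := Fintype.ofFinite _
      have hF : Fintype.card (GaloisField 2 3) = 8 := by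
        rw [← Nat.card_eq_fintype_card, GaloisField.card 2 3 (by norm_num)]; norm_num
      exact ⟨GaloisField 2 3, inferInstance, inferInstance, hF, Cfsg.Agent.S1011.result h504 hF⟩
    · norm_num at hq
    · norm_num at hq
    · norm_num at hq
    · have hncyc : ¬ IsCyclic G := fun h => hG ⟨⟨fun x y => by
        letI := h.commGroup
        exact mul_comm x y⟩⟩
      rcases Cfsg.Agent.S0997.result hncyc q 2 a 9 hq Nat.prime_two hq2 (by rw [hcard]; ring) (by omega) with
        ⟨m', F, iF, iFF, hFc, hm', ⟨φ⟩⟩ | ⟨m', F, iF, iFF, hFc, hm', -, ⟨φ⟩⟩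
      · right
        have hodd' : ¬ 2 ∣ Fintype.card F := by
          rw [hFc]; exact fun h => hq2 ((Nat.prime_dvd_prime_iff_eq Nat.prime_two hq).1 h).symm
        have hc' := PSL2Spec.card_psl_odd (F := F) hodd'
        rw [← Nat.card_congr φ.toEquiv, hcard, hFc] at hc'
        have hc'' : 18 * 2 ^ a = q ^ 2 - 1 := Nat.eq_of_mul_eq_mul_left hq.pos (by rw [← hc']; ring)
        obtain ⟨M, rfl⟩ : ∃ M, m' = M + 1 := ⟨m' - 1, by
          rcases m' with _ | M
          · norm_num at hm'; omega
          · omega⟩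
        set H := 2 ^ M with hH
        have hs : 2 ^ (M + 1) = 2 * H := pow_succ' 2 M
        have hM : 1 ≤ H := Nat.one_le_two_pow
        have h17 : q = 17 := by
          rcases hm' with hm' | hm' <;> rw [hs] at hm'
          · subst hm'
            have e1 : (2 * H + 1) ^ 2 - 1 = 4 * (H * (H + 1)) := by
              rw [show (2 * H + 1) ^ 2 = 4 * (H * (H + 1)) + 1 by ring, Nat.add_sub_cancel]
            rw [e1] at hc''
            have h2 : ¬ 2 ∣ H + 1 := by
              rcases M with _ | M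
              · simp only [hH, pow_zero] at hq11; omega
              · rw [hH, pow_succ']; omega
            have hd9 : H + 1 ∣ 9 * 2 ^ a := by
              refine (Nat.Coprime.dvd_of_dvd_mul_left (m := 2) (Nat.prime_two.coprime_iff_not_dvd.2 h2).symm ?_)
              exact ⟨4 * H, by linarith⟩
            have h9' : 9 ∣ H + 1 := by
              refine Nat.Coprime.dvd_of_dvd_mul_left (m := 4 * H) ?_ ⟨2 * 2 ^ a, by linarith⟩
              rw [hH]; exact (by norm_num : Nat.Coprime 9 4).mul_right ((by norm_num : Nat.Coprime 9 2).pow_right M)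
            obtain ⟨t, ht⟩ := h9'
            have := odd_part h2 hd9 ht.symm
            omega
          · exfalso
            obtain ⟨Z, hZ⟩ : ∃ Z, H = Z + 1 := ⟨H - 1, by omega⟩
            have hqZ : q = 2 * Z + 1 := by omega
            rw [hqZ, show (2 * Z + 1) ^ 2 - 1 = 4 * (Z * (Z + 1)) by
              rw [show (2 * Z + 1) ^ 2 = 4 * (Z * (Z + 1)) + 1 by ring, Nat.add_sub_cancel], ← hZ] at hc''
            have h2 : ¬ 2 ∣ Z := by
              rcases M with _ | M
              · simp only [hH, pow_zero] at hZ; omega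
              · rw [hH, pow_succ'] at hZ; omega
            have hd9 : Z ∣ 9 * 2 ^ a := by
              refine (Nat.Coprime.dvd_of_dvd_mul_left (m := 2) (Nat.prime_two.coprime_iff_not_dvd.2 h2).symm ?_)
              exact ⟨4 * H, by linarith⟩
            have h9' : 9 ∣ Z := by
              refine Nat.Coprime.dvd_of_dvd_mul_left (m := 4 * H) ?_ ⟨2 * 2 ^ a, by linarith⟩
              rw [hH]; exact (by norm_num : Nat.Coprime 9 4).mul_right ((by norm_num : Nat.Coprime 9 2).pow_right M)
            obtain ⟨t, ht⟩ := h9'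
            have hZ9 := odd_part h2 hd9 ht.symm
            rw [hH, hZ9] at hZ
            rcases M with _ | _ | _ | _ | M <;> simp [pow_succ] at hZ ⊢
            have : 1 ≤ 2 ^ M := Nat.one_le_two_pow
            omega
        haveI : Fact (Nat.Prime 17) := ⟨by norm_num⟩
        obtain ⟨ψ⟩ := PSL2Spec.nonempty_psl_equiv_of_card_eq (K := F) (F := ZMod 17)
          (by rw [hFc, h17, ZMod.card])
        exact ⟨φ.trans ψ⟩
      · exfalso
        have hm0 : m' ≠ 0 := fun h => by rw [h, pow_zero] at hm'; omega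
        have hc' := CITApp.card_psl_two_even (F := F) hm0 hFc
        rw [← Nat.card_congr φ.toEquiv, hcard] at hc'
        obtain ⟨Z, hZ⟩ : ∃ Z, 2 ^ m' = Z + 1 := ⟨2 ^ m' - 1, by omega⟩
        rw [mul_comm 2 m', pow_mul, hZ, show (Z + 1) ^ 2 - 1 = Z * (Z + 1 + 1) by
          rw [show (Z + 1) ^ 2 = Z * (Z + 1 + 1) + 1 by ring, Nat.add_sub_cancel]] at hc'
        have hc'' : 9 * 2 ^ a = (Z + 1) * Z := Nat.eq_of_mul_eq_mul_right hq.pos (by rw [hc', hm', hZ]; ring)
        have h2 : ¬ 2 ∣ Z := by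
          have : 2 ∣ 2 ^ m' := dvd_pow_self 2 hm0
          omega
        have hd9 : Z ∣ 9 * 2 ^ a := ⟨Z + 1, by rw [hc'']; ring⟩
        have h9' : 9 ∣ Z := by
          refine Nat.Coprime.dvd_of_dvd_mul_left (m := 2 ^ m') ((by norm_num : Nat.Coprime 9 2).pow_right m') ?_
          exact ⟨2 ^ a, by rw [hc'', hZ]⟩
        obtain ⟨t, ht⟩ := h9'
        have hZ9 := odd_part h2 hd9 ht.symm
        rw [hZ9] at hZ
        rcases m' with _ | _ | _ | _ | M <;> simp [pow_succ] at hZ
        have : 1 ≤ 2 ^ M := Nat.one_le_two_pow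
        omega
  have pA := Blk83.deg_pos A
  have pB := Blk83.deg_pos B
  have hadj : charDegree (B : G → ℂ) = charDegree (A : G → ℂ) + 1 ∨
      charDegree (A : G → ℂ) = charDegree (B : G → ℂ) + 1 := by
    rcases he with he | he <;> rcases hf with hf | hf <;> rw [he, hf] at h1 <;> omega
  by_cases hA2 : 2 ∣ charDegree (A : G → ℂ)
  · refine key B A f e hBp hf he (hdvd B hB3) (hdvd A hA3) hB1 hA1 (by omega) hadj.symm fun g => ?_
    rw [hrel g]; ring
  · exact key A B e f hAp he hf (hdvd A hA3) (hdvd B hB3) hA1 hB1 hA2 hadj hrel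

end Cfsg.Agent.S2219
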