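import Cfsg.Statements.S2221
import Cfsg.Agent.Lib.AltSylowDecomp.Main

set_option autoImplicit false
open Cfsg

namespace Cfsg.Agent.S2221

open Equiv CfsgLib.AltSylowDecomp in
private theorem evenPart_eq_map {α : Type*} [Fintype α] [DecidableEq α] (P : Sylow 2 (alternatingGroup α)) :
    ∃ T : Sylow 2 (Perm α), evenPart T = (P : Subgroup (alternatingGroup α)).map (alternatingGroup α).subtype := by
  obtain ⟨T, hPT⟩ := (P.2.map (alternatingGroup α).subtype).exists_le_sylow
  refine ⟨T, le_antisymm (fun g hg => ?_) (le_inf hPT (Subgroup.map_subtype_le _))⟩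
  have hp : IsPGroup 2 ((T : Subgroup (Perm α)).subgroupOf (alternatingGroup α)) :=
    T.2.comap_of_injective (alternatingGroup α).subtype (Subgroup.subtype_injective _)
  have hle : (P : Subgroup (alternatingGroup α)) ≤ (T : Subgroup (Perm α)).subgroupOf (alternatingGroup α) :=
    fun x hx => hPT ⟨x, hx, rfl⟩
  refine ⟨⟨g, hg.2⟩, ?_, rfl⟩
  rw [SetLike.mem_coe, ← P.3 hp hle]
  exact hg.1

private theorem decomposable_map_iff {G H : Type*} [Group G] [Group H] (f : G →* H) (hf : Function.Injective f)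
    (S : Subgroup G) :
    (∃ S₁ S₂ : Subgroup G, S₁ ≠ ⊥ ∧ S₂ ≠ ⊥ ∧ Cfsg.IsInternalDirectProduct S₁ S₂ S) ↔
    (∃ S₁ S₂ : Subgroup H, S₁ ≠ ⊥ ∧ S₂ ≠ ⊥ ∧ Cfsg.IsInternalDirectProduct S₁ S₂ (S.map f)) := by
  constructor
  · rintro ⟨S₁, S₂, h1, h2, ha, hb, hc, hi, hs⟩
    refine ⟨S₁.map f, S₂.map f, fun e => h1 ((Subgroup.map_eq_bot_iff_of_injective _ hf).mp e),
      fun e => h2 ((Subgroup.map_eq_bot_iff_of_injective _ hf).mp e), Subgroup.map_mono ha, Subgroup.map_mono hb,
      ?_, ?_, ?_⟩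
    · rintro _ ⟨a, ha', rfl⟩ _ ⟨b, hb', rfl⟩
      rw [← map_mul, ← map_mul, hc a ha' b hb']
    · rw [← Subgroup.map_inf _ _ _ hf, hi, Subgroup.map_bot]
    · rw [← Subgroup.map_sup, hs]
  · rintro ⟨S₁, S₂, h1, h2, ha, hb, hc, hi, hs⟩
    have e1 : (S₁.comap f).map f = S₁ := Subgroup.map_comap_eq_self (ha.trans (Subgroup.map_le_range _ _))
    have e2 : (S₂.comap f).map f = S₂ := Subgroup.map_comap_eq_self (hb.trans (Subgroup.map_le_range _ _))
    refine ⟨S₁.comap f, S₂.comap f, fun e => h1 (by rw [← e1, e, Subgroup.map_bot]),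
      fun e => h2 (by rw [← e2, e, Subgroup.map_bot]), ?_, ?_, fun a ha' b hb' => hf ?_, ?_, ?_⟩
    · rw [← Subgroup.map_le_map_iff_of_injective hf, e1]; exact ha
    · rw [← Subgroup.map_le_map_iff_of_injective hf, e2]; exact hb
    · rw [map_mul, map_mul]; exact hc _ ha' _ hb'
    · rw [← Subgroup.comap_inf, hi, MonoidHom.comap_bot, (MonoidHom.ker_eq_bot_iff f).mpr hf]
    · apply Subgroup.map_injective hf
      rw [Subgroup.map_sup, e1, e2, hs]

open Equiv in
private theorem no_order_four_four : ∀ p : alternatingGroup (Fin 4), p * p * p * p = 1 → p * p = 1 := by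
  decide +kernel

open Equiv in
private theorem no_order_four_five : ∀ p : alternatingGroup (Fin 5), p * p * p * p = 1 → p * p = 1 := by
  decide +kernel

private theorem small_case {G : Type*} [Group G] [Finite G] (hG : ∀ p : G, p * p * p * p = 1 → p * p = 1)
    (S : Subgroup G) (hS : Nat.card S = 4) :
    ∃ S₁ S₂ : Subgroup G, S₁ ≠ ⊥ ∧ S₂ ≠ ⊥ ∧ Cfsg.IsInternalDirectProduct S₁ S₂ S := by
  have hsq : ∀ x ∈ S, x * x = 1 := fun x hx => hG x (by
    have h : (⟨x, hx⟩ : S) ^ Nat.card S = 1 := pow_card_eq_one'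
    rw [hS] at h
    have h' := congrArg Subtype.val h
    simpa [pow_succ] using h')
  have hord : ∀ x ∈ S, x ≠ 1 → Nat.card (Subgroup.zpowers x) = 2 := fun x hx hx1 => by
    rw [Nat.card_zpowers]
    exact orderOf_eq_prime (by rw [pow_two]; exact hsq x hx) hx1
  have hcomm : ∀ x ∈ S, ∀ y ∈ S, x * y = y * x := fun x hx y hy => by
    have h := hsq _ (mul_mem hx hy)
    calc x * y = (x * y)⁻¹ := eq_inv_of_mul_eq_one_left h
      _ = y⁻¹ * x⁻¹ := mul_inv_rev x y
      _ = y * x := by
        rw [inv_eq_of_mul_eq_one_right (hsq x hx), inv_eq_of_mul_eq_one_right (hsq y hy)]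
  obtain ⟨a, ha, ha1⟩ : ∃ a ∈ S, a ≠ 1 := by
    by_contra h
    push Not at h
    rw [(Subgroup.eq_bot_iff_forall S).mpr h, Subgroup.card_bot] at hS
    omega
  have hale : Subgroup.zpowers a ≤ S := Subgroup.zpowers_le.mpr ha
  obtain ⟨b, hb, hba⟩ : ∃ b ∈ S, b ∉ Subgroup.zpowers a := by
    by_contra h
    push Not at h
    have := Subgroup.card_le_of_le (show S ≤ Subgroup.zpowers a from h)
    rw [hS, hord a ha ha1] at this
    omega
  have hb1 : b ≠ 1 := fun e => hba (e ▸ one_mem _)
  have hble : Subgroup.zpowers b ≤ S := Subgroup.zpowers_le.mpr hb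
  refine ⟨Subgroup.zpowers a, Subgroup.zpowers b, Subgroup.zpowers_ne_bot.mpr ha1, Subgroup.zpowers_ne_bot.mpr hb1,
    hale, hble, fun x hx y hy => hcomm x (hale hx) y (hble hy), ?_, ?_⟩
  · by_contra h
    have h2 : Nat.card (Subgroup.zpowers a ⊓ Subgroup.zpowers b : Subgroup G) = 2 := by
      have hd := Subgroup.card_dvd_of_le (inf_le_left : Subgroup.zpowers a ⊓ Subgroup.zpowers b ≤ Subgroup.zpowers a)
      rw [hord a ha ha1] at hd
      exact ((Nat.dvd_prime Nat.prime_two).mp hd).resolve_left fun e => h (Subgroup.card_eq_one.mp e)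
    have e := Subgroup.eq_of_le_of_card_ge (inf_le_right : Subgroup.zpowers a ⊓ Subgroup.zpowers b ≤ Subgroup.zpowers b)
      (by rw [h2, hord b hb hb1])
    have hmem := Subgroup.mem_zpowers b
    have hmem' : b ∈ Subgroup.zpowers a ⊓ Subgroup.zpowers b := e.symm ▸ hmem
    exact hba hmem'.1
  · refine Subgroup.eq_of_le_of_card_ge (sup_le hale hble) ?_
    have hlt : Subgroup.zpowers a < Subgroup.zpowers a ⊔ Subgroup.zpowers b :=
      lt_of_le_of_ne le_sup_left fun e => hba (e ▸ Subgroup.mem_sup_right (Subgroup.mem_zpowers b))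
    have hd := Subgroup.card_dvd_of_le (sup_le hale hble)
    rw [hS] at hd
    have hgt : 2 < Nat.card (Subgroup.zpowers a ⊔ Subgroup.zpowers b : Subgroup G) := by
      rw [← hord a ha ha1]
      refine lt_of_le_of_ne (Subgroup.card_le_of_le hlt.le) fun e => hlt.ne ?_
      exact Subgroup.eq_of_le_of_card_ge hlt.le e.ge
    have hle := Nat.le_of_dvd (by norm_num) hd
    rcases (show Nat.card (Subgroup.zpowers a ⊔ Subgroup.zpowers b : Subgroup G) = 3 ∨
        Nat.card (Subgroup.zpowers a ⊔ Subgroup.zpowers b : Subgroup G) = 4 by omega) with h | h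
    · rw [h] at hd; omega
    · rw [hS, h]

/-- Direct decomposability of the Sylow 2-subgroups of the alternating groups. Let n ≥ 4 and let P be a Sylow 2-subgroup of the alternating group of degree n. Then P is the internal direct product of two nontrivial subgroups if and only if n = 4, n = 5, or n ≡ 2, 3 (mod 4) with 4⌊n/4⌋ not a power of 2. In the remaining cases (n ≡ 0, 1 (mod 4) with n ≥ 8, or n ≡ 2, 3 (mod 4) with 4⌊n/4⌋ a power of 2) P is directly indecomposable. -/
theorem result (n : ℕ) (hn : 4 ≤ n)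
    (P : Sylow 2 (alternatingGroup (Fin n))) :
    (∃ S₁ S₂ : Subgroup (alternatingGroup (Fin n)), S₁ ≠ ⊥ ∧ S₂ ≠ ⊥ ∧
        Cfsg.IsInternalDirectProduct S₁ S₂ (P : Subgroup (alternatingGroup (Fin n)))) ↔
      (n = 4 ∨ n = 5 ∨ ((n % 4 = 2 ∨ n % 4 = 3) ∧ ∀ r : ℕ, 4 * (n / 4) ≠ 2 ^ r)) := by
  haveI : Fact (Nat.Prime 2) := ⟨Nat.prime_two⟩
  by_cases h6 : 6 ≤ n
  · obtain ⟨T, hT⟩ := evenPart_eq_map P
    obtain ⟨z, hz⟩ := CfsgLib.AltSylowDecomp.exists_pairing' T
    rw [decomposable_map_iff _ (Subgroup.subtype_injective _), ← hT,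
      CfsgLib.AltSylowDecomp.evenPart_decomposable_iff hz (by rwa [Fintype.card_fin]), Fintype.card_fin]
    constructor
    · exact fun h => Or.inr (Or.inr h)
    · rintro (h | h | h)
      · omega
      · omega
      · exact h
  · have hcases : n = 4 ∨ n = 5 := by omega
    refine iff_of_true ?_ (by tauto)
    rcases hcases with rfl | rfl
    · refine small_case no_order_four_four _ ?_
      rw [P.card_eq_multiplicity, Nat.card_eq_fintype_card, show Fintype.card (alternatingGroup (Fin 4)) = 12 by decide +kernel]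
      rw [show Nat.factorization 12 2 = 2 by
        rw [Nat.factorization_def _ Nat.prime_two, show (12 : ℕ) = 2 ^ 2 * 3 by norm_num,
          padicValNat.mul (by norm_num) (by norm_num), padicValNat.prime_pow,
          padicValNat.eq_zero_of_not_dvd (by norm_num)]]
      norm_num
    · refine small_case no_order_four_five _ ?_
      rw [P.card_eq_multiplicity, Nat.card_eq_fintype_card, show Fintype.card (alternatingGroup (Fin 5)) = 60 by decide +kernel]
      rw [show Nat.factorization 60 2 = 2 by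
        rw [Nat.factorization_def _ Nat.prime_two, show (60 : ℕ) = 2 ^ 2 * 15 by norm_num,
          padicValNat.mul (by norm_num) (by norm_num), padicValNat.prime_pow,
          padicValNat.eq_zero_of_not_dvd (by norm_num)]]
      norm_num

end Cfsg.Agent.S2221
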