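import Cfsg.Statements.S2222
import Cfsg.Agent.Lib.SymTwo.SylowTwo
import Cfsg.Agent.Lib.SymTwo.Pronormal

set_option autoImplicit false
open Cfsg

namespace Cfsg.Agent.S2222

open Equiv in
theorem five_fixed_unique : ∀ p : alternatingGroup (Fin 5), p * p = 1 → p ≠ 1 →
    ∀ a b : Fin 5, (p : Perm (Fin 5)) a = a → (p : Perm (Fin 5)) b = b → a = b := by
  decide +kernel

open Equiv in
theorem five_stab_normal : ∀ e : Fin 5, ∀ p : alternatingGroup (Fin 5), p * p * p * p = 1 →
    (p : Perm (Fin 5)) e = e → p * p = 1 := by
  decide +kernel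

open Equiv in
theorem five_count : ∀ e : Fin 5, (Finset.univ.filter
    fun p : alternatingGroup (Fin 5) => p * p = 1 ∧ (p : Perm (Fin 5)) e = e).card = 4 := by
  decide +kernel

open Equiv in
theorem five_stab_card : ∀ e : Fin 5, (Finset.univ.filter
    fun p : alternatingGroup (Fin 5) => (p : Perm (Fin 5)) e = e).card = 12 := by
  decide +kernel

theorem card_alt_five : Nat.card (alternatingGroup (Fin 5)) = 60 := by
  rw [Nat.card_eq_fintype_card]
  decide +kernel

open Equiv in
theorem pronormal_five (H : Subgroup (alternatingGroup (Fin 5))) (hH : Odd H.index) :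
    Cfsg.IsPronormal H := by
  haveI : Fact (Nat.Prime 2) := ⟨Nat.prime_two⟩
  obtain ⟨P, hP⟩ := CfsgLib.SymTwo.exists_sylow_le_of_not_dvd_index (p := 2) H hH.not_two_dvd_nat
  refine CfsgLib.SymTwo.pronormal_of_sylow_normalizer_le P H hP ?_
  have hP4 : Nat.card (P : Subgroup (alternatingGroup (Fin 5))) = 4 := by
    rw [P.card_eq_multiplicity, card_alt_five,
      show Nat.factorization 60 2 = 2 by
        rw [Nat.factorization_def _ Nat.prime_two]
        rw [show (60 : ℕ) = 2 ^ 2 * 15 by norm_num,
          padicValNat.mul (by norm_num) (by norm_num), padicValNat.prime_pow,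
          padicValNat.eq_zero_of_not_dvd (by norm_num)]]
    norm_num
  have h4 : ∀ p ∈ (P : Subgroup (alternatingGroup (Fin 5))), p * p * p * p = 1 := by
    intro p hp
    have := Subgroup.pow_index_mem (⊥ : Subgroup (alternatingGroup (Fin 5)))
    have h : (⟨p, hp⟩ : (P : Subgroup (alternatingGroup (Fin 5)))) ^ 4 = 1 := by
      rw [← hP4]; exact pow_card_eq_one'
    have h' := congrArg Subtype.val h
    simpa [pow_succ] using h'
  obtain ⟨e, he⟩ : ∃ e : Fin 5, ∀ p ∈ (P : Subgroup (alternatingGroup (Fin 5))),
      (p : Perm (Fin 5)) e = e := by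
    let Q := (P : Subgroup (alternatingGroup (Fin 5))).map (alternatingGroup (Fin 5)).subtype
    have hQ : IsPGroup 2 Q := P.2.map _
    obtain ⟨e, he⟩ := hQ.nonempty_fixed_point_of_prime_not_dvd_card (Fin 5)
      (by rw [Nat.card_eq_fintype_card]; decide)
    exact ⟨e, fun p hp => he ⟨_, ⟨p, hp, rfl⟩⟩⟩
  have hmem : ∀ p : alternatingGroup (Fin 5), p ∈ (P : Subgroup (alternatingGroup (Fin 5))) ↔
      (p * p = 1 ∧ (p : Perm (Fin 5)) e = e) := by
    classical
    have hs : (Finset.univ.filter fun p : alternatingGroup (Fin 5) =>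
        p ∈ (P : Subgroup (alternatingGroup (Fin 5)))) =
        Finset.univ.filter fun p : alternatingGroup (Fin 5) => p * p = 1 ∧ (p : Perm (Fin 5)) e = e := by
      apply Finset.eq_of_subset_of_card_le
      · intro p hp
        simp only [Finset.mem_filter, Finset.mem_univ, true_and] at hp ⊢
        exact ⟨five_stab_normal e p (h4 p hp) (he p hp), he p hp⟩
      · rw [five_count e, ← Fintype.card_subtype, ← Nat.card_eq_fintype_card]
        exact hP4.ge
    intro p
    have := Finset.ext_iff.mp hs p
    simpa using this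
  intro g hg
  have hge : (g : Perm (Fin 5)) e = e := by
    obtain ⟨⟨p, hp⟩, hp1'⟩ := Subgroup.ne_bot_iff_exists_ne_one.mp (show
      (P : Subgroup (alternatingGroup (Fin 5))) ≠ ⊥ by
        intro h; rw [h, Subgroup.card_bot] at hP4; omega)
    have hp1 : p ≠ 1 := fun h => hp1' (Subtype.ext h)
    have hc := (Subgroup.mem_normalizer_iff.mp hg p).mp hp
    apply five_fixed_unique _ ((hmem _).mp hc).1 (by simpa using hp1) _ _ _ ((hmem _).mp hc).2
    simp [((hmem p).mp hp).2]
  have hdiv := H.card_mul_index
  rw [card_alt_five] at hdiv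
  rcases eq_or_ne H ⊤ with rfl | htop
  · exact Subgroup.map_top_of_surjective (MulAut.conj g).toMonoidHom (MulAut.conj g).surjective
  have hfix : ∀ h ∈ H, (h : Perm (Fin 5)) e = e := by
    by_contra hne
    push Not at hne
    obtain ⟨h0, hh0, hh0e⟩ := hne
    set a := (h0 : Perm (Fin 5)) e
    have htr : ∀ b : Fin 5, ∃ h ∈ H, (h : Perm (Fin 5)) e = b := by
      classical
      intro b
      rcases eq_or_ne b e with rfl | hbe
      · exact ⟨1, one_mem _, by simp⟩
      have himg : Finset.image (fun p : alternatingGroup (Fin 5) => (p : Perm (Fin 5)) a)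
          (Finset.univ.filter fun p : alternatingGroup (Fin 5) =>
          p * p = 1 ∧ (p : Perm (Fin 5)) e = e) =
          Finset.univ.erase e := by
        apply Finset.eq_of_subset_of_card_le
        · intro x hx
          simp only [Finset.mem_image] at hx
          obtain ⟨p, hp, rfl⟩ := hx
          simp only [Finset.mem_filter, Finset.mem_univ, true_and] at hp
          simp only [Finset.mem_erase, Finset.mem_univ, and_true]
          intro hx'
          apply hh0e
          exact (p : Perm (Fin 5)).injective (hx'.trans hp.2.symm)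
        · rw [Finset.card_image_of_injOn, five_count e]
          · simp
          · intro p hp q hq hpq
            simp only [Finset.coe_filter, Finset.mem_univ, true_and, Set.mem_setOf_eq] at hp hq
            have hpi : p⁻¹ = p := inv_eq_of_mul_eq_one_right hp.1
            by_contra hne
            have hm : p⁻¹ * q ∈ (P : Subgroup (alternatingGroup (Fin 5))) :=
              Subgroup.mul_mem _ (Subgroup.inv_mem _ ((hmem p).mpr hp)) ((hmem q).mpr hq)
            apply hh0e
            refine five_fixed_unique _ ((hmem _).mp hm).1 ?_ _ _ ?_ ((hmem _).mp hm).2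
            · simpa [inv_mul_eq_one] using hne
            · simp only at hpq
              rw [Subgroup.coe_mul, Perm.mul_apply, ← hpq]
              simp
      have : b ∈ Finset.univ.erase e := by simp [hbe]
      rw [← himg, Finset.mem_image] at this
      obtain ⟨p, hp, rfl⟩ := this
      simp only [Finset.mem_filter, Finset.mem_univ, true_and] at hp
      exact ⟨p * h0, Subgroup.mul_mem _ (hP ((hmem p).mpr hp)) hh0, rfl⟩
    haveI : MulAction.IsPretransitive H (Fin 5) := by
      refine ⟨fun x y => ?_⟩
      obtain ⟨h1, m1, e1⟩ := htr x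
      obtain ⟨h2, m2, e2⟩ := htr y
      refine ⟨⟨h2 * h1⁻¹, Subgroup.mul_mem _ m2 (Subgroup.inv_mem _ m1)⟩, ?_⟩
      show (h2 : Perm (Fin 5)) ((h1 : Perm (Fin 5))⁻¹ x) = y
      rw [← e1, Perm.inv_def, Equiv.symm_apply_apply, e2]
    have h5 : 5 ∣ Nat.card H := by
      have := MulAction.index_stabilizer_of_transitive H e
      rw [Nat.card_eq_fintype_card (α := Fin 5), Fintype.card_fin] at this
      have h' := Subgroup.index_dvd_card (MulAction.stabilizer H e)
      rwa [this] at h'
    have h4' : 4 ∣ Nat.card H := hP4 ▸ Subgroup.card_dvd_of_le hP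
    have h20 : 20 ∣ Nat.card H := Nat.Coprime.mul_dvd_of_dvd_of_dvd (by norm_num : Nat.Coprime 4 5) h4' h5
    have hidx : H.index ≤ 3 := by
      by_contra hlt
      push Not at hlt
      have h1 : 20 ≤ Nat.card H := Nat.le_of_dvd Nat.card_pos h20
      nlinarith
    haveI := alternatingGroup.isSimpleGroup_five
    rcases (Subgroup.normalCore_normal H).eq_bot_or_eq_top with hb | hb
    · have h60 : 60 ∣ H.index.factorial := by
        have hker : (MulAction.toPermHom (alternatingGroup (Fin 5))
            (alternatingGroup (Fin 5) ⧸ H)).ker = ⊥ := by rw [← Subgroup.normalCore_eq_ker, hb]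
        have h := Subgroup.card_dvd_of_injective _ ((MonoidHom.ker_eq_bot_iff _).mp hker)
        rw [card_alt_five, Nat.card_perm] at h
        exact h
      interval_cases hi : H.index <;> simp [Nat.factorial] at h60
    · exact htop (top_unique (hb ▸ Subgroup.normalCore_le H))
  have hmapeq : ∀ K : Subgroup (alternatingGroup (Fin 5)),
      (∀ h ∈ K, g * h * g⁻¹ ∈ K) → K.map (MulAut.conj g).toMonoidHom = K := by
    intro K hK
    refine Subgroup.eq_of_le_of_card_ge ?_
      (le_of_eq (Subgroup.card_map_of_injective (MulAut.conj g).injective).symm)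
    rintro _ ⟨h, hh, rfl⟩; exact hK h hh
  apply hmapeq
  classical
  by_cases hHP : H ≤ (P : Subgroup (alternatingGroup (Fin 5)))
  · intro h hh
    exact hP ((Subgroup.mem_normalizer_iff.mp hg h).mp (hHP hh))
  · -- `H` is the whole stabilizer of `e`
    let F := Finset.univ.filter fun p : alternatingGroup (Fin 5) => (p : Perm (Fin 5)) e = e
    have hsub : (Finset.univ.filter fun p : alternatingGroup (Fin 5) => p ∈ H) = F := by
      apply Finset.eq_of_subset_of_card_le
      · intro p hp
        simp only [F, Finset.mem_filter, Finset.mem_univ, true_and] at hp ⊢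
        exact hfix p hp
      · rw [show F.card = 12 from five_stab_card e, ← Fintype.card_subtype,
          ← Nat.card_eq_fintype_card]
        show 12 ≤ Nat.card H
        have h4' : 4 ∣ Nat.card H := hP4 ▸ Subgroup.card_dvd_of_le hP
        have hne : Nat.card H ≠ 4 := fun h => hHP
          (Subgroup.eq_of_le_of_card_ge hP (by rw [h, hP4])).ge
        obtain ⟨c, hc⟩ := h4'
        have hodd := hH
        by_contra hlt
        push Not at hlt
        have hc3 : c < 3 := by omega
        have hpos : 0 < Nat.card H := Nat.card_pos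
        rcases (show c = 2 by omega) with rfl
        rw [hc] at hdiv
        omega
    intro h hh
    have : g * h * g⁻¹ ∈ F := by
      simp only [F, Finset.mem_filter, Finset.mem_univ, true_and, Subgroup.coe_mul,
        InvMemClass.coe_inv, Perm.mul_apply]
      rw [show (g : Perm (Fin 5))⁻¹ e = e from by
        conv_lhs => rw [← hge]
        simp, hfix h hh, hge]
    rw [← hsub] at this
    simpa using this

/-- In the alternating group of degree n ≥ 5 every subgroup H of odd index is pronormal: for every element g, the subgroups H and gHg⁻¹ are conjugate by an element of the subgroup they generate. -/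
theorem result (n : ℕ) (hn : 5 ≤ n)
    (H : Subgroup (alternatingGroup (Fin n))) (hH : Odd H.index) : Cfsg.IsPronormal H := by
  haveI : Fact (Nat.Prime 2) := ⟨Nat.prime_two⟩
  rcases eq_or_lt_of_le hn with rfl | h6
  · exact pronormal_five H hH
  obtain ⟨P, hP⟩ := CfsgLib.SymTwo.exists_sylow_le_of_not_dvd_index (p := 2) H hH.not_two_dvd_nat
  refine CfsgLib.SymTwo.pronormal_of_sylow_normalizer_le P H hP fun g hg => ?_
  have hgH := hP (CfsgLib.SymTwo.sylow_two_alt_normalizer_le
    (by rw [Fintype.card_fin]; omega) P hg)
  ext x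
  constructor
  · rintro ⟨y, hy, rfl⟩
    exact H.mul_mem (H.mul_mem hgH hy) (H.inv_mem hgH)
  · intro hx
    exact ⟨g⁻¹ * x * g, H.mul_mem (H.mul_mem (H.inv_mem hgH) hx) hgH, by simp [mul_assoc]⟩

end Cfsg.Agent.S2222
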