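import Cfsg.Statements.S2225
import Cfsg.Agent.Lib.PronormalPSL.GLInduct
import Cfsg.Agent.Lib.PronormalPSL.Even
import Cfsg.Agent.Lib.PronormalPSL.Two

set_option autoImplicit false
open Cfsg

namespace Cfsg.Agent.S2225

/-- Let F be a finite field and d = 2^w ≥ 2 a power of 2 such that PSL_d(F) is simple. Then every subgroup H of PSL_d(F) of odd index is pronormal: for every g, H and gHg⁻¹ are conjugate by an element of the subgroup they generate. -/
theorem result {F : Type*} [Field F] [Fintype F]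
    (w : ℕ) (hw : 1 ≤ w) (hs : IsSimpleGroup (Matrix.ProjectiveSpecialLinearGroup (Fin (2 ^ w)) F))
    (H : Subgroup (Matrix.ProjectiveSpecialLinearGroup (Fin (2 ^ w)) F)) (hH : Odd H.index) : Cfsg.IsPronormal H := by
  classical
  obtain ⟨p, hpF⟩ := CharP.exists F
  haveI : Fact p.Prime := ⟨CharP.char_is_prime F p⟩
  rcases eq_or_ne p 2 with rfl | hp
  · exact CfsgLib.PronormalPSL.isPronormal_of_char_two H hH
  have h2 : (2 : F) ≠ 0 := Ring.two_ne_zero (by rw [ringChar.eq F p]; exact hp)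
  obtain rfl | hw2 := (show w = 1 ∨ 2 ≤ w by omega)
  · exact CfsgLib.PronormalPSL.isPronormal_two p h2 H hH
  have hodd : Odd (Fintype.card F) := Nat.odd_iff.mpr (CfsgLib.PronormalPSL.odd_card h2)
  haveI : Fact (Nat.Prime 2) := ⟨Nat.prime_two⟩
  obtain ⟨P, hP⟩ := CfsgLib.SymTwo.exists_sylow_le_of_not_dvd_index (p := 2) H
    (by rw [← even_iff_two_dvd, Nat.not_even_iff_odd]; exact hH)
  refine CfsgLib.PronormalPSL.pronormal_of_normalizer_conj P H hP fun n hn => ?_
  refine ⟨n, Subgroup.mem_sup_left (hP ?_), rfl⟩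
  refine CfsgLib.PronormalPSL.sylow_self_normalizing_of_surjective
    (QuotientGroup.mk' (Subgroup.center (Matrix.SpecialLinearGroup (Fin (2 ^ w)) F)))
    (QuotientGroup.mk'_surjective _) ?_
    (CfsgLib.PronormalPSL.sylow_SL_self_normalizing hodd w hw2) P hn
  rw [QuotientGroup.ker_mk']
  haveI : Nonempty (Fin (2 ^ w)) := ⟨⟨0, Nat.two_pow_pos w⟩⟩
  obtain ⟨j, -, hj⟩ := (Nat.dvd_prime_pow Nat.prime_two).mp (show
      Nat.card (Subgroup.center (Matrix.SpecialLinearGroup (Fin (2 ^ w)) F)) ∣ 2 ^ w by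
    rw [CfsgLib.Linear.card_center_SL, Fintype.card_fin]
    first | exact Nat.gcd_dvd_left _ _ | exact Nat.gcd_dvd_right _ _)
  exact IsPGroup.of_card hj

end Cfsg.Agent.S2225
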