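import Cfsg.Statements.S2226
import Cfsg.Agent.Lib.PronormalPSU.Induct
import Cfsg.Agent.Lib.PronormalPSU.Even
import Cfsg.Agent.Lib.PronormalPSL.GLInduct
import Cfsg.Agent.Lib.PronormalPSL.Two
import Cfsg.Agent.Lib.Classical.Herm.Apps

set_option autoImplicit false
open Cfsg

namespace Cfsg.Agent.S2226

/-- Let F be a finite field with q² elements and d = 2^w ≥ 4 a power of 2 such that the unitary group PSU_d(q) (realised over F) is simple. Then every subgroup H of PSU_d(q) of odd index is pronormal: for every g, H and gHg⁻¹ are conjugate by an element of the subgroup they generate. -/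
theorem result {F : Type*} [Field F] [Fintype F] (q : ℕ)
    (hF : Fintype.card F = q ^ 2) (w : ℕ) (hw : 2 ≤ w) (hs : IsSimpleGroup (Cfsg.PSU (2 ^ w) F q))
    (H : Subgroup (Cfsg.PSU (2 ^ w) F q)) (hH : Odd H.index) : Cfsg.IsPronormal H := by
  classical
  haveI : Fact (Nat.Prime 2) := ⟨Nat.prime_two⟩
  set π := QuotientGroup.mk' (Subgroup.center (Cfsg.SU (2 ^ w) F q))
  have hπ : Function.Surjective π := QuotientGroup.mk'_surjective _
  rcases Nat.even_or_odd q with hq | hq
  · obtain ⟨p, hpF⟩ := CharP.exists F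
    haveI : Fact p.Prime := ⟨CharP.char_is_prime F p⟩
    obtain rfl : p = 2 := by
      obtain ⟨k, -, hk⟩ := FiniteField.card F p
      have h2 : 2 ∣ p ^ (k : ℕ) := by rw [← hk, hF]; exact dvd_pow hq.two_dvd (by norm_num)
      exact ((Nat.prime_dvd_prime_iff_eq Nat.prime_two Fact.out).mp (Nat.prime_two.dvd_of_dvd_pow h2)).symm
    have hn : Even (2 ^ w) := Nat.even_pow.mpr ⟨even_two, by omega⟩
    have hpro := CfsgLib.PronormalPSU.isPronormal_SU_char_two hF hn (H.comap π)
      (by rw [Subgroup.index_comap_of_surjective H hπ]; exact hH)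
    intro g
    obtain ⟨g', rfl⟩ := hπ g
    obtain ⟨x, hx, hxe⟩ := hpro g'
    have hmap : ∀ c, ((H.comap π).map (MulAut.conj c).toMonoidHom).map π =
        H.map (MulAut.conj (π c)).toMonoidHom := by
      intro c
      conv_rhs => rw [← Subgroup.map_comap_eq_self_of_surjective hπ H]
      rw [Subgroup.map_map, Subgroup.map_map]
      congr 1
    refine ⟨π x, ?_, by rw [← hmap, ← hmap, hxe]⟩
    have := Subgroup.mem_map_of_mem π hx
    rwa [Subgroup.map_sup, hmap, Subgroup.map_comap_eq_self_of_surjective hπ] at this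
  · obtain ⟨P, hP⟩ := CfsgLib.SymTwo.exists_sylow_le_of_not_dvd_index (p := 2) H
      (by rw [← even_iff_two_dvd, Nat.not_even_iff_odd]; exact hH)
    refine CfsgLib.PronormalPSL.pronormal_of_normalizer_conj P H hP fun n hn => ?_
    refine ⟨n, Subgroup.mem_sup_left (hP ?_), rfl⟩
    refine CfsgLib.PronormalPSL.sylow_self_normalizing_of_surjective π hπ ?_
      (CfsgLib.PronormalPSU.sylow_SU_self_normalizing hF hq w hw) P hn
    rw [QuotientGroup.ker_mk']
    obtain ⟨j, -, hj⟩ := (Nat.dvd_prime_pow Nat.prime_two).mp (show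
        Nat.card (Subgroup.center (Cfsg.SU (2 ^ w) F q)) ∣ 2 ^ w by
      rw [CfsgLib.Classical.Herm.card_center_su' hF (le_trans (by norm_num)
        (Nat.pow_le_pow_right two_pos (show 1 ≤ w by omega)))]
      exact Nat.gcd_dvd_left _ _)
    exact IsPGroup.of_card hj

end Cfsg.Agent.S2226
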