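import Cfsg.Statements.S2231
import Mathlib

set_option autoImplicit false
open Cfsg

namespace Cfsg.Agent.S2231

open Matrix

/-- All `p`-subgroups of `G` are commutative. -/
private def AllPComm (p : ℕ) (G : Type*) [Group G] : Prop :=
  ∀ Q : Subgroup G, IsPGroup p Q → ∀ a ∈ Q, ∀ b ∈ Q, a * b = b * a

private theorem AllPComm.of_injective {p : ℕ} {G H : Type*} [Group G] [Group H] (f : H →* G)
    (hf : Function.Injective f) (h : AllPComm p G) : AllPComm p H := by
  intro Q hQ a ha b hb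
  apply hf
  simpa using h _ (hQ.map f) (f a) ⟨a, ha, rfl⟩ (f b) ⟨b, hb, rfl⟩

private theorem AllPComm.of_surjective {p : ℕ} [Fact p.Prime] {G H : Type*} [Group G] [Group H]
    [Finite H] (f : H →* G) (hf : Function.Surjective f) (h : AllPComm p H) : AllPComm p G := by
  haveI : Finite G := Finite.of_surjective f hf
  intro Q hQ a ha b hb
  obtain ⟨S, hS⟩ := hQ.exists_le_sylow
  obtain ⟨T, rfl⟩ : ∃ T : Sylow p H, T.mapSurjective hf = S := Sylow.mapSurjective_surjective hf p S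
  obtain ⟨a', ha', rfl⟩ := hS ha
  obtain ⟨b', hb', rfl⟩ := hS hb
  rw [← map_mul, ← map_mul, h _ T.isPGroup' a' ha' b' hb']

/-- All `p`-subgroups of `SL₂` over a finite field of characteristic `p` are commutative. -/
private theorem allPComm_sl_two {p : ℕ} [hp : Fact p.Prime] {K : Type*} [Field K] [Fintype K]
    [CharP K p] : AllPComm p (Matrix.SpecialLinearGroup (Fin 2) K) := by
  classical
  intro Q hQ a ha b hb
  letI : MulAction Q (Fin 2 → K) :=
    { smul := fun g v => ((g : SpecialLinearGroup (Fin 2) K) : Matrix (Fin 2) (Fin 2) K) *ᵥ v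
      one_smul := fun v => by
        show ((1 : SpecialLinearGroup (Fin 2) K) : Matrix (Fin 2) (Fin 2) K) *ᵥ v = v
        simp
      mul_smul := fun g h v => by
        show ((g * h : SpecialLinearGroup (Fin 2) K) : Matrix (Fin 2) (Fin 2) K) *ᵥ v = _
        exact (Matrix.mulVec_mulVec _ _ _).symm }
  have hdvd : p ∣ Nat.card (Fin 2 → K) := by
    obtain ⟨n, -, hn⟩ := FiniteField.card K p
    rw [Nat.card_eq_fintype_card, Fintype.card_fun, Fintype.card_fin, hn]
    exact dvd_pow (dvd_pow_self p n.ne_zero) two_ne_zero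
  obtain ⟨v, hv, hv0⟩ := hQ.exists_fixed_point_of_prime_dvd_card_of_fixed_point (Fin 2 → K) hdvd
    (a := 0) (fun g => Matrix.mulVec_zero _)
  have key : ∀ g : SpecialLinearGroup (Fin 2) K, g ∈ Q →
      ((g : Matrix (Fin 2) (Fin 2) K) 0 0 - 1) + ((g : Matrix (Fin 2) (Fin 2) K) 1 1 - 1) = 0 ∧
      ((g : Matrix (Fin 2) (Fin 2) K) 0 0 - 1) * v 0 + (g : Matrix (Fin 2) (Fin 2) K) 0 1 * v 1 = 0 ∧
      (g : Matrix (Fin 2) (Fin 2) K) 1 0 * v 0 + ((g : Matrix (Fin 2) (Fin 2) K) 1 1 - 1) * v 1 = 0 := by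
    intro g hg
    have h : ((g : Matrix (Fin 2) (Fin 2) K) *ᵥ v) = v := hv ⟨g, hg⟩
    have h0 := congrFun h 0
    have h1 := congrFun h 1
    simp only [Matrix.mulVec, dotProduct, Fin.sum_univ_two] at h0 h1
    have e0 : ((g : Matrix (Fin 2) (Fin 2) K) 0 0 - 1) * v 0 + (g : Matrix (Fin 2) (Fin 2) K) 0 1 * v 1 = 0 := by
      linear_combination h0
    have e1 : (g : Matrix (Fin 2) (Fin 2) K) 1 0 * v 0 + ((g : Matrix (Fin 2) (Fin 2) K) 1 1 - 1) * v 1 = 0 := by
      linear_combination h1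
    refine ⟨?_, e0, e1⟩
    have hd : (g : Matrix (Fin 2) (Fin 2) K) 0 0 * (g : Matrix (Fin 2) (Fin 2) K) 1 1
        - (g : Matrix (Fin 2) (Fin 2) K) 0 1 * (g : Matrix (Fin 2) (Fin 2) K) 1 0 = 1 := by
      rw [← Matrix.det_fin_two]; exact g.2
    obtain ⟨i, hi⟩ := Function.ne_iff.mp (Ne.symm hv0)
    fin_cases i <;> simp only [Fin.isValue, Pi.zero_apply] at hi
    · have : v 0 * (((g : Matrix (Fin 2) (Fin 2) K) 0 0 - 1) + ((g : Matrix (Fin 2) (Fin 2) K) 1 1 - 1)) = 0 := by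
        linear_combination v 0 * hd + (1 - ((g : Matrix (Fin 2) (Fin 2) K) 1 1 - 1) - 1) * e0
          + (g : Matrix (Fin 2) (Fin 2) K) 0 1 * e1
      exact (mul_eq_zero.mp this).resolve_left hi
    · have : v 1 * (((g : Matrix (Fin 2) (Fin 2) K) 0 0 - 1) + ((g : Matrix (Fin 2) (Fin 2) K) 1 1 - 1)) = 0 := by
        linear_combination v 1 * hd + (1 - ((g : Matrix (Fin 2) (Fin 2) K) 0 0 - 1) - 1) * e1
          + (g : Matrix (Fin 2) (Fin 2) K) 1 0 * e0
      exact (mul_eq_zero.mp this).resolve_left hi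
  obtain ⟨ta, a0, a1⟩ := key a ha
  obtain ⟨tb, b0, b1⟩ := key b hb
  set A := (a : Matrix (Fin 2) (Fin 2) K)
  set B := (b : Matrix (Fin 2) (Fin 2) K)
  apply Subtype.ext
  show A * B = B * A
  by_cases hv00 : v 0 = 0
  · have hv1 : v 1 ≠ 0 := by
      intro h
      exact hv0 (funext fun i => by fin_cases i <;> simp [hv00, h])
    simp only [hv00, mul_zero, zero_add, mul_eq_zero, hv1, or_false] at a0 a1 b0 b1
    ext i j
    fin_cases i <;> fin_cases j <;>
      simp only [Fin.zero_eta, Fin.mk_one, Fin.isValue, Matrix.mul_apply, Fin.sum_univ_two]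
    · rw [a0, b0]; ring
    · rw [a0, b0]; ring
    · linear_combination B 1 0 * a1 - A 1 0 * b1 - B 1 0 * ta + A 1 0 * tb
        + B 1 0 * a1 - A 1 0 * b1
    · rw [a0, b0]; ring
  · have hx : A 0 0 - 1 = -(A 0 1 * (v 1 / v 0)) := by field_simp; linear_combination a0
    have hy : B 0 0 - 1 = -(B 0 1 * (v 1 / v 0)) := by field_simp; linear_combination b0
    have ha00 : A 0 0 = 1 - A 0 1 * (v 1 / v 0) := by linear_combination hx
    have hb00 : B 0 0 = 1 - B 0 1 * (v 1 / v 0) := by linear_combination hy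
    have ha11 : A 1 1 = 1 + A 0 1 * (v 1 / v 0) := by linear_combination ta - hx
    have hb11 : B 1 1 = 1 + B 0 1 * (v 1 / v 0) := by linear_combination tb - hy
    have ha10 : A 1 0 = -(A 0 1 * (v 1 / v 0) ^ 2) := by
      rw [ha11] at a1; field_simp at a1 ⊢; linear_combination a1
    have hb10 : B 1 0 = -(B 0 1 * (v 1 / v 0) ^ 2) := by
      rw [hb11] at b1; field_simp at b1 ⊢; linear_combination b1
    ext i j
    fin_cases i <;> fin_cases j <;>
      simp only [Fin.zero_eta, Fin.mk_one, Fin.isValue, Matrix.mul_apply, Fin.sum_univ_two,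
        ha00, ha10, ha11, hb00, hb10, hb11] <;> ring

/-- Upper unitriangular subgroup of `SL₃(ZMod p)`. -/
private def upper (p : ℕ) : Subgroup (Matrix.SpecialLinearGroup (Fin 3) (ZMod p)) where
  carrier := {g | (g : Matrix (Fin 3) (Fin 3) (ZMod p)) 1 0 = 0 ∧
    (g : Matrix (Fin 3) (Fin 3) (ZMod p)) 2 0 = 0 ∧ (g : Matrix (Fin 3) (Fin 3) (ZMod p)) 2 1 = 0 ∧
    (g : Matrix (Fin 3) (Fin 3) (ZMod p)) 0 0 = 1 ∧ (g : Matrix (Fin 3) (Fin 3) (ZMod p)) 1 1 = 1 ∧
    (g : Matrix (Fin 3) (Fin 3) (ZMod p)) 2 2 = 1}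
  one_mem' := by simp
  mul_mem' := by
    rintro g h ⟨a, b, c, d, e, f⟩ ⟨a', b', c', d', e', f'⟩
    simp [Matrix.mul_apply, Fin.sum_univ_three, a, b, c, d, e, f, a', b', c', d', e', f']
  inv_mem' := by
    rintro g ⟨a, b, c, d, e, f⟩
    simp [SpecialLinearGroup.coe_inv, Matrix.adjugate_fin_three, a, b, c, d, e, f]

theorem result {p : ℕ} [Fact p.Prime] (hp : p ≠ 2) {K : Type*} [Field K] [Fintype K] [CharP K p] : ¬ Cfsg.Involves ↥(Cfsg.qd p) (Matrix.ProjectiveSpecialLinearGroup (Fin 2) K) := by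
  rintro ⟨H, R, hR, ⟨e⟩⟩
  have hq : AllPComm p ↥(Cfsg.qd p) := by
    haveI := hR
    have h1 : AllPComm p (Matrix.ProjectiveSpecialLinearGroup (Fin 2) K) :=
      AllPComm.of_surjective (QuotientGroup.mk' _) (QuotientGroup.mk'_surjective _) allPComm_sl_two
    have h2 : AllPComm p H := AllPComm.of_injective H.subtype Subtype.coe_injective h1
    have h3 : AllPComm p (H ⧸ R.subgroupOf H) :=
      AllPComm.of_surjective (QuotientGroup.mk' _) (QuotientGroup.mk'_surjective _) h2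
    exact AllPComm.of_injective e.symm.toMonoidHom e.symm.injective h3
  let u : Matrix.SpecialLinearGroup (Fin 3) (ZMod p) :=
    ⟨!![1, 1, 0; 0, 1, 0; 0, 0, 1], by simp [Matrix.det_fin_three]⟩
  let t : Matrix.SpecialLinearGroup (Fin 3) (ZMod p) :=
    ⟨!![1, 0, 0; 0, 1, 1; 0, 0, 1], by simp [Matrix.det_fin_three]⟩
  have hu : u ∈ Cfsg.qd p := Subgroup.subset_closure ⟨rfl, rfl, rfl⟩
  have ht : t ∈ Cfsg.qd p := Subgroup.subset_closure ⟨rfl, rfl, rfl⟩
  have hup : u ∈ upper p := by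
    exact ⟨rfl, rfl, rfl, rfl, rfl, rfl⟩
  have htp : t ∈ upper p := by
    exact ⟨rfl, rfl, rfl, rfl, rfl, rfl⟩
  have hpgr : IsPGroup p (upper p) := by
    intro g
    refine ⟨1, Subtype.ext (Subtype.ext ?_)⟩
    obtain ⟨g, a, b, c, d, e', f⟩ := g
    have h3 : ((g : Matrix (Fin 3) (Fin 3) (ZMod p)) - 1) ^ 3 = 0 := by
      ext i j
      fin_cases i <;> fin_cases j <;>
        simp [pow_succ, Matrix.mul_apply, Fin.sum_univ_three, Matrix.one_apply, a, b, c, d, e', f]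
    have h2 := (Fact.out : p.Prime).two_le
    have hp3 : 3 ≤ p ^ 1 := by rw [pow_one]; omega
    have h4 := pow_eq_zero_of_le hp3 h3
    rw [sub_pow_char_pow_of_commute p 1 (Commute.one_right _), one_pow, sub_eq_zero] at h4
    show ((g ^ p ^ 1 : Matrix.SpecialLinearGroup (Fin 3) (ZMod p)) : Matrix (Fin 3) (Fin 3) (ZMod p)) = 1
    exact h4
  have hpg : IsPGroup p ((upper p).subgroupOf (Cfsg.qd p)) :=
    hpgr.comap_of_injective _ Subtype.coe_injective
  have := hq _ hpg ⟨u, hu⟩ (by simpa [Subgroup.mem_subgroupOf] using hup) ⟨t, ht⟩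
    (by simpa [Subgroup.mem_subgroupOf] using htp)
  have h13 : (u : Matrix (Fin 3) (Fin 3) (ZMod p)) * (t : Matrix (Fin 3) (Fin 3) (ZMod p))
      = (t : Matrix (Fin 3) (Fin 3) (ZMod p)) * (u : Matrix (Fin 3) (Fin 3) (ZMod p)) :=
    congrArg (fun g : Cfsg.qd p => (g : Matrix.SpecialLinearGroup (Fin 3) (ZMod p)).1) this
  have h12 := congrFun (congrFun h13 0) 2
  simp [u, t, Matrix.mul_apply, Fin.sum_univ_three] at h12

end Cfsg.Agent.S2231
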