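import Cfsg.Statements.S2232
import Cfsg.Agent.Lib.Classical.Herm.Std
import Cfsg.Agent.Lib.Classical.Herm.ThreeTI
import Cfsg.Agent.Lib.Qd.UniqSylow

set_option autoImplicit false
open Cfsg

namespace Cfsg.Agent.S2232

/-- Let p be an odd prime, q a power of p and K a finite field with q² elements. Then Qd(p) (the natural semidirect product of an elementary abelian group of order p² by SL₂(p)) is not involved in the projective special unitary group PSU₃(q) realised over K. -/
theorem result {p : ℕ} [Fact p.Prime] (hp : p ≠ 2) {K : Type*} [Field K] [Fintype K] [CharP K p] (n : ℕ) (hn : 1 ≤ n) (hK : Fintype.card K = (p ^ n) ^ 2) : ¬ Cfsg.Involves ↥(Cfsg.qd p) (Cfsg.PSU 3 K (p ^ n)) := by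
  intro hinv
  have h2 : 2 < p := lt_of_le_of_ne (Fact.out : p.Prime).two_le (Ne.symm hp)
  obtain ⟨L, g, hg⟩ := CfsgLib.LocalEven.exists_surjective_of_involves hinv
  let f : Cfsg.SU 3 K (p ^ n) →* Cfsg.PSU 3 K (p ^ n) := QuotientGroup.mk' _
  have hf : Function.Surjective f := QuotientGroup.mk'_surjective _
  let ι : Cfsg.SU 3 K (p ^ n) →* CfsgLib.Classical.Herm.Unit' (CfsgLib.Classical.Herm.stdHerm hK 3) :=
    (CfsgLib.Classical.Herm.detHom (CfsgLib.Classical.Herm.stdHerm hK 3)).ker.subtype.comp
      (CfsgLib.Classical.Herm.suEquiv hK 3).toMonoidHom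
  have hι : Function.Injective ι :=
    Subtype.val_injective.comp (CfsgLib.Classical.Herm.suEquiv hK 3).injective
  haveI : Finite (CfsgLib.Classical.Herm.Unit' (CfsgLib.Classical.Herm.stdHerm hK 3)) :=
    Finite.of_equiv _ (CfsgLib.Classical.Herm.guEquiv hK 3).toEquiv
  refine CfsgLib.Qd.not_involves_of_unique_sylow hp
    (fun P Q => CfsgLib.Classical.Herm.unique_sylow (H := CfsgLib.Classical.Herm.stdHerm hK 3) h2
      (Module.finrank_fin_fun (n := 3) K) P Q) ?_
  exact CfsgLib.LocalEven.involves_of_surjective ((L.comap f).map ι)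
    ((g.comp (f.subgroupComap L)).comp ((L.comap f).equivMapOfInjective ι hι).symm.toMonoidHom)
    ((hg.comp (f.subgroupComap_surjective_of_surjective L hf)).comp
      ((L.comap f).equivMapOfInjective ι hι).symm.surjective)

end Cfsg.Agent.S2232
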