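import Cfsg.Statements.S2244
import Cfsg.Agent.Lib.ChevCent.WeakCerts
import Cfsg.Agent.Lib.Chev.Comm

set_option autoImplicit false
open Cfsg

namespace Cfsg.Agent.S2244

/-- Weakly closed unipotent subgroups of Chevalley groups: let G be the Chevalley group of type G₂, B₂, D₄, F₄, E₆, E₇ or E₈ over a finite field F (the matrix group generated by the root elements), with |F| ≠ 2, and |F| ≠ 3 as well for the types G₂, B₂, D₄, F₄. Let U be the subgroup generated by the positive root subgroups. If X ≤ U is weakly closed in U with respect to G (every G-conjugate of X lying in U equals X), then X is the unipotent radical U_J of a standard parabolic subgroup for some set J of fundamental roots. -/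
theorem result {F : Type*} [Field F] [Fintype F] (D : Cfsg.Lie.ChevalleyDatum) (hD : D ∈ [Cfsg.Lie.chevG2, Cfsg.Lie.chevB2, Cfsg.Lie.chevD4, Cfsg.Lie.chevF4, Cfsg.Lie.chevE6, Cfsg.Lie.chevE7, Cfsg.Lie.chevE8])
    (h2 : Fintype.card F ≠ 2) (h3 : D ∈ [Cfsg.Lie.chevG2, Cfsg.Lie.chevB2, Cfsg.Lie.chevD4, Cfsg.Lie.chevF4] → Fintype.card F ≠ 3)
    (X : Subgroup (GL D.Idx F)) (hXU : X ≤ D.posUnipotent F)
    (hwc : ∀ g ∈ D.group F, X.map (MulAut.conj g).toMonoidHom ≤ D.posUnipotent F → X.map (MulAut.conj g).toMonoidHom = X) :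
    ∃ J : Set ℕ, (∀ j ∈ J, j < D.rank) ∧ X = D.unipotentRadical F J := by
  classical
  obtain ⟨T, hc, hcomm⟩ := CfsgLib.Chev.exists_checked' hD
  have hq : 3 ≤ Fintype.card F := by
    have := Fintype.one_lt_card (α := F)
    omega
  obtain ⟨l, hl⟩ := IsCyclic.exists_generator (α := Fˣ)
  have hord : orderOf l = Fintype.card F - 1 := by
    rw [orderOf_eq_card_of_forall_mem_zpowers hl, Nat.card_eq_fintype_card, Fintype.card_units]
  have hpow : ∀ n : ℕ, 1 ≤ n → n < Fintype.card F - 1 → l ^ n ≠ 1 := fun n h1 h2' h => by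
    have := Nat.le_of_dvd (by omega) (hord ▸ orderOf_dvd_of_pow_eq_one h)
    omega
  have main : ∀ (k e : ℕ) (cert : List (ℕ × ℕ × ℕ)), CfsgLib.ChevCent.ClassOK F k →
      CfsgLib.ChevCent.certB D k [] cert = true → CfsgLib.ChevCent.SepOK D e → e < Fintype.card F - 1 →
      ∃ J : Set ℕ, (∀ j ∈ J, j < D.rank) ∧ X = D.unipotentRadical F J := by
    intro k e cert hF hcert hsep he
    obtain ⟨J, hJ, hX⟩ := CfsgLib.ChevCent.weakly_closed_eq hc hcomm hF hcert hsep
      ⟨l, fun n h1 h2' => hpow n h1 (lt_of_le_of_lt h2' he)⟩ (X := X)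
      (by rw [← CfsgLib.Chev.posUnipotent_eq hc]; exact hXU)
      (fun g hg h => hwc g hg (by rw [CfsgLib.Chev.posUnipotent_eq hc]; exact h))
    exact ⟨J, hJ, by rw [CfsgLib.Chev.unipotentRadical_eq hc]; exact hX⟩
  have hclass : 4 ≤ Fintype.card F → ∀ (c2 c3 c5 : List (ℕ × ℕ × ℕ)) (e : ℕ),
      CfsgLib.ChevCent.certB D 2 [] c2 = true → CfsgLib.ChevCent.certB D 3 [] c3 = true →
      CfsgLib.ChevCent.certB D 5 [] c5 = true → CfsgLib.ChevCent.SepOK D e → e ≤ 2 →
      ∃ J : Set ℕ, (∀ j ∈ J, j < D.rank) ∧ X = D.unipotentRadical F J := by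
    intro h4 c2 c3 c5 e h2c h3c h5c hsep he
    have hl2 : ∃ x : F, x ≠ 0 ∧ x ^ 2 ≠ 1 :=
      ⟨(l : F), l.ne_zero, fun h => hpow 2 (by omega) (by omega) (Units.ext (by simpa using h))⟩
    by_cases e2 : (2 : F) = 0
    · exact main 2 e c2 (Or.inr (Or.inl ⟨rfl, CharTwo.of_one_ne_zero_of_two_eq_zero one_ne_zero e2, hl2⟩)) h2c hsep
        (by omega)
    by_cases e3 : (3 : F) = 0
    · haveI : Fact (Nat.Prime 3) := ⟨Nat.prime_three⟩
      have h3' : CharP F 3 := by
        have h := (ringChar.spec F 3).1 (by exact_mod_cast e3)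
        rcases (Nat.dvd_prime Nat.prime_three).1 h with h | h
        · exact absurd h CharP.ringChar_ne_one
        · exact ringChar.eq_iff.1 h
      exact main 3 e c3 (Or.inr (Or.inr (Or.inl ⟨rfl, h3', hl2⟩))) h3c hsep (by omega)
    exact main 5 e c5 (Or.inr (Or.inr (Or.inr ⟨rfl, e2, e3, hl2⟩))) h5c hsep (by omega)
  simp only [List.mem_cons, List.not_mem_nil, or_false] at hD h3
  rcases hD with rfl | rfl | rfl | rfl | rfl | rfl | rfl
  · have := h3 (by tauto)
    exact hclass (by omega) _ _ _ 2 CfsgLib.ChevCent.certG2two_2 CfsgLib.ChevCent.certG2three_3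
      CfsgLib.ChevCent.certG2gen_5 CfsgLib.ChevCent.sep_G2 le_rfl
  · have := h3 (by tauto)
    exact hclass (by omega) _ _ _ 2 CfsgLib.ChevCent.certB2two_2 CfsgLib.ChevCent.certB2gen_3
      CfsgLib.ChevCent.certB2gen_5 CfsgLib.ChevCent.sep_B2 le_rfl
  · have := h3 (by tauto)
    exact main 1 2 _ (Or.inl rfl) CfsgLib.ChevCent.certD4_1 CfsgLib.ChevCent.sep_D4 (by omega)
  · have := h3 (by tauto)
    exact hclass (by omega) _ _ _ 2 CfsgLib.ChevCent.certF4two_2 CfsgLib.ChevCent.certF4gen_3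
      CfsgLib.ChevCent.certF4gen_5 CfsgLib.ChevCent.sep_F4 le_rfl
  · exact main 1 1 _ (Or.inl rfl) CfsgLib.ChevCent.certE6_1 CfsgLib.ChevCent.sep_E6 (by omega)
  · exact main 1 1 _ (Or.inl rfl) CfsgLib.ChevCent.certE7_1 CfsgLib.ChevCent.sep_E7 (by omega)
  · exact main 1 1 _ (Or.inl rfl) CfsgLib.ChevCent.certE8_1 CfsgLib.ChevCent.sep_E8 (by omega)

end Cfsg.Agent.S2244
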