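import Cfsg.Statements.S2245
import Cfsg.Agent.Lib.AltMax.SylowTwo

set_option autoImplicit false
open Cfsg

namespace Cfsg.Agent.S2245

open Equiv Equiv.Perm CfsgLib.AltMax

private theorem not_unique {G : Type*} [Group G] [Finite G] (R K1 K2 : Subgroup G) (h1 : R ≤ K1)
    (h2 : R ≤ K2) (hne1 : K1 ≠ ⊤) (hne2 : K2 ≠ ⊤)
    (hjoin : ∀ M : Subgroup G, K1 ≤ M → K2 ≤ M → M = ⊤) :
    ¬ ∃! M : Subgroup G, IsCoatom M ∧ R ≤ M := by
  rintro ⟨M, ⟨hM, -⟩, huniq⟩
  obtain ⟨M1, hM1, hK1⟩ := (eq_top_or_exists_le_coatom K1).resolve_left hne1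
  obtain ⟨M2, hM2, hK2⟩ := (eq_top_or_exists_le_coatom K2).resolve_left hne2
  have e1 := huniq M1 ⟨hM1, h1.trans hK1⟩
  have e2 := huniq M2 ⟨hM2, h2.trans hK2⟩
  exact hM.1 (hjoin M (e1 ▸ hK1) (e2 ▸ hK2))

private theorem unique_of {G : Type*} [Group G] [Finite G] (R Q : Subgroup G) (hR : R ≤ Q) (hQ : Q ≠ ⊤)
    (h : ∀ M : Subgroup G, M ≠ ⊤ → R ≤ M → M ≤ Q) :
    ∃! M : Subgroup G, IsCoatom M ∧ R ≤ M := by
  have hQc : IsCoatom Q := by
    refine ⟨hQ, fun M hM => ?_⟩
    by_contra hne
    exact hM.not_ge (h M hne (hR.trans hM.le))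
  refine ⟨Q, ⟨hQc, hR⟩, fun M hM => ?_⟩
  by_contra hne
  exact hQc.1 (hM.1.2 Q (lt_of_le_of_ne (h M hM.1.1 hM.2) hne))

section

variable {α : Type*} [Fintype α] [DecidableEq α]

private theorem two_part [Nontrivial α] (T : Sylow 2 (Perm α)) :
    2 * Nat.card ((T : Subgroup (Perm α)) ⊓ alternatingGroup α : Subgroup (Perm α)) =
      Nat.card (T : Subgroup (Perm α)) ∧ ∃ τ ∈ (T : Subgroup (Perm α)), sign τ = -1 := by
  haveI : Fact (Nat.Prime 2) := ⟨Nat.prime_two⟩
  have hodd : ∃ τ ∈ (T : Subgroup (Perm α)), sign τ = -1 := by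
    by_contra hcon
    push Not at hcon
    have hle : (T : Subgroup (Perm α)) ≤ alternatingGroup α := fun g hg =>
      mem_alternatingGroup.mpr ((Int.units_eq_one_or (sign g)).resolve_right (hcon g hg))
    have hd := Subgroup.card_dvd_of_le hle
    have h2 : 2 * Nat.card (T : Subgroup (Perm α)) ∣ Nat.card (Perm α) := by
      rw [← two_mul_nat_card_alternatingGroup]
      exact mul_dvd_mul_left 2 hd
    rw [T.card_eq_multiplicity, ← pow_succ',
      Nat.Prime.pow_dvd_iff_le_factorization Nat.prime_two Nat.card_pos.ne'] at h2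
    omega
  refine ⟨?_, hodd⟩
  obtain ⟨τ, hτ, hs⟩ := hodd
  let φ : (T : Subgroup (Perm α)) →* ℤˣ := sign.comp (T : Subgroup (Perm α)).subtype
  have hsurj : Function.Surjective φ := by
    intro u
    rcases Int.units_eq_one_or u with rfl | rfl
    · exact ⟨1, map_one _⟩
    · exact ⟨⟨τ, hτ⟩, hs⟩
  have hk := φ.ker.index_mul_card
  rw [Subgroup.index_ker, MonoidHom.range_eq_top.mpr hsurj, Subgroup.card_top] at hk
  have hker : Nat.card φ.ker = Nat.card ((T : Subgroup (Perm α)) ⊓ alternatingGroup α : Subgroup (Perm α)) := by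
    rw [← Subgroup.card_map_of_injective (K := φ.ker) (Subgroup.subtype_injective (T : Subgroup (Perm α)))]
    congr 2
    ext g
    constructor
    · rintro ⟨x, hx, rfl⟩
      exact ⟨x.2, mem_alternatingGroup.mpr hx⟩
    · rintro ⟨hg, hga⟩
      exact ⟨⟨g, hg⟩, mem_alternatingGroup.mp hga, rfl⟩
  rw [hker, Nat.card_eq_fintype_card (α := ℤˣ), Fintype.card_units_int] at hk
  exact hk

private theorem exists_sylow_perm [Nontrivial α] (R : Sylow 2 (alternatingGroup α)) :
    ∃ T : Sylow 2 (Perm α),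
      (R : Subgroup (alternatingGroup α)) = (T : Subgroup (Perm α)).subgroupOf (alternatingGroup α) := by
  obtain ⟨T, hT⟩ := (R.isPGroup'.map (alternatingGroup α).subtype).exists_le_sylow
  refine ⟨T, (R.3 (T.isPGroup'.comap_of_injective _ Subtype.coe_injective) ?_).symm⟩
  intro x hx
  exact hT ⟨x, hx, rfl⟩

private theorem alt_join (hα : 5 ≤ Fintype.card α) (T : Sylow 2 (Perm α)) (K1 K2 : Subgroup (Perm α))
    (h1 : (T : Subgroup (Perm α)) ≤ K1) (h2 : (T : Subgroup (Perm α)) ≤ K2) (hjoin : K1 ⊔ K2 = ⊤) :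
    alternatingGroup α ≤ (K1 ⊓ alternatingGroup α) ⊔ (K2 ⊓ alternatingGroup α) := by
  haveI : Nontrivial α := Fintype.one_lt_card_iff_nontrivial.mp (by omega)
  obtain ⟨hcard, τ, hτ, hs⟩ := two_part T
  set A := alternatingGroup α
  set J := (K1 ⊓ A) ⊔ (K2 ⊓ A) with hJdef
  have hJA : J ≤ A := sup_le inf_le_right inf_le_right
  have hτsq : ∀ (K : Subgroup (Perm α)), τ ∈ K → ∀ g ∈ K ⊓ A, τ * g * τ⁻¹ ∈ K ⊓ A := fun K hK g hg =>
    ⟨K.mul_mem (K.mul_mem hK hg.1) (K.inv_mem hK),
      mem_alternatingGroup.mpr (by simp [mem_alternatingGroup.mp hg.2])⟩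
  have hτN : τ ∈ Subgroup.normalizer (J : Set (Perm α)) := by
    have hle : J ≤ J.comap (MulAut.conj τ).toMonoidHom :=
      sup_le (fun g hg => Subgroup.mem_sup_left (hτsq K1 (h1 hτ) g hg))
        (fun g hg => Subgroup.mem_sup_right (hτsq K2 (h2 hτ) g hg))
    have hmap : J.map (MulAut.conj τ).toMonoidHom = J :=
      Subgroup.eq_of_le_of_card_ge (Subgroup.map_le_iff_le_comap.mpr hle)
        (le_of_eq (Subgroup.card_map_of_injective (MulAut.conj τ).injective).symm)
    rw [Subgroup.mem_normalizer_iff]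
    intro g
    constructor
    · exact fun hg => hle hg
    · intro hg
      rw [← hmap] at hg
      obtain ⟨x, hx, hxe⟩ := hg
      have : x = g := (MulAut.conj τ).injective hxe
      exact this ▸ hx
  have hKN : ∀ K : Subgroup (Perm α), K ⊓ A ≤ J → τ ∈ K → K ≤ Subgroup.normalizer (J : Set (Perm α)) := by
    intro K hK hτK g hg
    rcases Int.units_eq_one_or (sign g) with hg1 | hg1
    · exact Subgroup.le_normalizer (hK ⟨hg, mem_alternatingGroup.mpr hg1⟩)
    · have : g * τ⁻¹ ∈ J := hK ⟨K.mul_mem hg (K.inv_mem hτK),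
        mem_alternatingGroup.mpr (by simp [hg1, hs])⟩
      have h := mul_mem (Subgroup.le_normalizer this) hτN
      simpa using h
  have hN : Subgroup.normalizer (J : Set (Perm α)) = ⊤ :=
    eq_top_iff.mpr (hjoin ▸ sup_le (hKN K1 le_sup_left (h1 hτ)) (hKN K2 le_sup_right (h2 hτ)))
  haveI : J.Normal := Subgroup.normalizer_eq_top_iff.mp hN
  haveI : IsSimpleGroup A := alternatingGroup.isSimpleGroup (by rw [Nat.card_eq_fintype_card]; exact hα)
  rcases (inferInstance : (J.subgroupOf A).Normal).eq_bot_or_eq_top with h | h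
  · exfalso
    have hTJ : (T : Subgroup (Perm α)) ⊓ A = ⊥ := by
      rw [eq_bot_iff]
      intro g hg
      have : (⟨g, hg.2⟩ : A) ∈ J.subgroupOf A := Subgroup.mem_sup_left (⟨h1 hg.1, hg.2⟩)
      rw [h, Subgroup.mem_bot] at this
      exact congrArg Subtype.val this
    rw [hTJ, Subgroup.card_bot] at hcard
    have h4 : 2 ^ 2 ∣ Nat.card (Perm α) := by
      rw [Nat.card_perm]
      refine Nat.dvd_trans (by norm_num) (Nat.dvd_factorial (by norm_num : 0 < 4) ?_)
      rw [Nat.card_eq_fintype_card]; omega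
    rw [Nat.Prime.pow_dvd_iff_le_factorization Nat.prime_two Nat.card_pos.ne'] at h4
    have : 2 ^ 2 ≤ Nat.card (T : Subgroup (Perm α)) := by
      rw [T.card_eq_multiplicity]; exact Nat.pow_le_pow_right (by omega) h4
    omega
  · exact Subgroup.subgroupOf_eq_top.mp h

private theorem fixes_of_proper (T : Sylow 2 (Perm α)) {k : ℕ} (hk2 : 2 ≤ k)
    (hk : Fintype.card α = 2 ^ k + 1) {f : α} (hTf : ∀ g ∈ (T : Subgroup (Perm α)), g f = f)
    (H : Subgroup (Perm α)) (hTH : (T : Subgroup (Perm α)) ⊓ alternatingGroup α ≤ H)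
    (hHA : H ≤ alternatingGroup α) (hne : ¬ alternatingGroup α ≤ H) :
    ∀ g ∈ H, g f = f := by
  rcases Nat.lt_or_ge k 3 with hk3 | hk3
  swap
  · exact overgroup_fixes T hk3 hk hTf H hTH hne
  have hk' : k = 2 := by omega
  subst hk'
  have h5 : Fintype.card α = 5 := by rw [hk]; norm_num
  haveI : Nontrivial α := Fintype.one_lt_card_iff_nontrivial.mp (by omega)
  by_contra hcon
  push Not at hcon
  obtain ⟨m, hm, hmf⟩ := hcon
  obtain ⟨hcard, τ, hτ, hs⟩ := two_part T
  -- transitivity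
  have horb : ∀ y, ∃ g ∈ H, g f = y := by
    intro y
    by_cases hy : y = f
    · exact ⟨1, one_mem H, by simp [hy]⟩
    obtain ⟨g, hg, hgx⟩ := transitive_off_fixed T hk hTf hmf hy
    rcases Int.units_eq_one_or (sign g) with h1 | h1
    · exact ⟨g * m, mul_mem (hTH ⟨hg, mem_alternatingGroup.mpr h1⟩) hm, hgx⟩
    · obtain ⟨z, hz, hTz, hsupp, hsw⟩ := exists_pairing T
      obtain ⟨f', hzf, huniq, hTf'⟩ := fixed_of_odd T (by rw [h5]; decide) hTz hsupp
      obtain ⟨w, -, hw⟩ := Finset.exists_mem_notMem_of_card_lt_card (s := {f', m f, z (m f)})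
        (t := (Finset.univ : Finset α))
        (lt_of_le_of_lt Finset.card_le_three (by rw [Finset.card_univ]; omega))
      simp only [Finset.mem_insert, Finset.mem_singleton, not_or] at hw
      have hwz : w ≠ z w := fun e => hw.1 (huniq w e.symm)
      refine ⟨g * swap w (z w) * m, mul_mem (hTH ⟨mul_mem hg (hsw w), ?_⟩) hm, ?_⟩
      · exact mem_alternatingGroup.mpr (by simp [h1, sign_swap hwz])
      · rw [Perm.mul_apply, Perm.mul_apply, swap_apply_of_ne_of_ne (Ne.symm hw.2.1)
          (fun e => hw.2.2 (by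
            have := Perm.congr_fun hz w
            simp only [Perm.mul_apply, Perm.one_apply] at this
            rw [e, this])), hgx]
  have h5d : 5 ∣ Nat.card H := by
    have huniv : MulAction.orbit H f = Set.univ := Set.eq_univ_of_forall fun y => by
      obtain ⟨g, hg, hgy⟩ := horb y
      exact ⟨⟨g, hg⟩, hgy⟩
    have h' := (MulAction.stabilizer H f).index_mul_card
    rw [MulAction.index_stabilizer, huniv, Set.ncard_univ, Nat.card_eq_fintype_card (α := α), h5] at h'
    exact Dvd.intro _ h'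
  have h4d : 4 ∣ Nat.card H := by
    have h := Subgroup.card_dvd_of_le hTH
    have h8 : 2 ^ 3 ∣ Nat.card (Perm α) := by
      rw [Nat.card_perm, Nat.card_eq_fintype_card, h5]; decide
    rw [Nat.Prime.pow_dvd_iff_le_factorization Nat.prime_two Nat.card_pos.ne'] at h8
    have h8' : 2 ^ 3 ∣ Nat.card (T : Subgroup (Perm α)) := by
      rw [T.card_eq_multiplicity]; exact pow_dvd_pow 2 h8
    rw [← hcard] at h8'
    exact dvd_trans (by omega) h
  have h20 : 20 ≤ Nat.card H := Nat.le_of_dvd Nat.card_pos (Nat.Coprime.mul_dvd_of_dvd_of_dvd (by norm_num) h4d h5d)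
  set A := alternatingGroup α
  have hA : Nat.card A = 60 := by
    rw [nat_card_alternatingGroup, Nat.card_eq_fintype_card, h5]; rfl
  haveI : IsSimpleGroup A := alternatingGroup.isSimpleGroup (by rw [Nat.card_eq_fintype_card]; omega)
  set H' := H.subgroupOf A
  have hH' : Nat.card H' = Nat.card H := Nat.card_congr (Subgroup.subgroupOfEquivOfLe hHA).toEquiv
  have hidx : H'.index ≤ 3 := by
    have := H'.index_mul_card
    rw [hA, hH'] at this
    nlinarith
  rcases (inferInstance : H'.normalCore.Normal).eq_bot_or_eq_top with h | h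
  · have hinj : Function.Injective (MulAction.toPermHom A (A ⧸ H')) := by
      rw [← MonoidHom.ker_eq_bot_iff, ← Subgroup.normalCore_eq_ker, h]
    have := Nat.card_le_card_of_injective _ hinj
    rw [hA, Nat.card_perm, ← Subgroup.index_eq_card] at this
    have hfac := Nat.factorial_le hidx
    simp [Nat.factorial] at hfac
    omega
  · exact hne (Subgroup.subgroupOf_eq_top.mp (eq_top_iff.mpr (h ▸ Subgroup.normalCore_le H')))

end

theorem result (n : ℕ) (hn : 5 ≤ n) (h6 : n ≠ 6) :
    ((∀ R : Sylow 2 ↥(alternatingGroup (Fin n)), (∃! M : Subgroup ↥(alternatingGroup (Fin n)), IsCoatom M ∧ (R : Subgroup ↥(alternatingGroup (Fin n))) ≤ M) ↔ ∃ k : ℕ, 2 ≤ k ∧ n = 2 ^ k + 1) ∧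
    (∀ R : Sylow 2 (Equiv.Perm (Fin n)), (∃! M : Subgroup (Equiv.Perm (Fin n)), IsCoatom M ∧ (R : Subgroup (Equiv.Perm (Fin n))) ≤ M) ↔ ∃ k : ℕ, 2 ≤ k ∧ n = 2 ^ k + 1)) := by
  haveI : Nontrivial (Fin n) := Fin.nontrivial_iff_two_le.mpr (by omega)
  set A := alternatingGroup (Fin n)
  have hcardn : Fintype.card (Fin n) = n := Fintype.card_fin n
  have hneg : (¬ ∃ k : ℕ, 2 ≤ k ∧ n = 2 ^ k + 1) → ∀ T : Sylow 2 (Perm (Fin n)),
      ∃ K₁ K₂ : Subgroup (Perm (Fin n)), (T : Subgroup (Perm (Fin n))) ≤ K₁ ∧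
        (T : Subgroup (Perm (Fin n))) ≤ K₂ ∧ K₁ ≠ ⊤ ∧ K₂ ≠ ⊤ ∧ K₁ ⊔ K₂ = ⊤ := by
    intro hnot T
    exact exists_two_overgroups T (by omega) (by omega) (by simpa [hcardn] using hnot)
  have hfix : ∀ (k : ℕ), 2 ≤ k → n = 2 ^ k + 1 → ∀ T : Sylow 2 (Perm (Fin n)),
      ∃ f : Fin n, ∀ g ∈ (T : Subgroup (Perm (Fin n))), g f = f := by
    intro k hk hnk T
    obtain ⟨z, -, hTz, hs, -⟩ := exists_pairing T
    have hodd : Odd (Fintype.card (Fin n)) := by
      rw [hcardn, hnk]
      exact (Nat.even_pow.mpr ⟨even_two, by omega⟩).add_one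
    obtain ⟨f, -, -, hf⟩ := fixed_of_odd T hodd hTz hs
    exact ⟨f, hf⟩
  constructor
  · intro R
    obtain ⟨T, hR⟩ := exists_sylow_perm R
    constructor
    · intro huniq
      by_contra hnot
      obtain ⟨K1, K2, h1, h2, hne1, hne2, hjoin⟩ := hneg hnot T
      have hprop : ∀ K : Subgroup (Perm (Fin n)), (T : Subgroup (Perm (Fin n))) ≤ K → K ≠ ⊤ →
          K.subgroupOf A ≠ ⊤ := by
        intro K hK hne htop
        obtain ⟨-, τ, hτ, hs⟩ := two_part T
        apply hne
        have hA : A ≤ K := Subgroup.subgroupOf_eq_top.mp htop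
        rw [eq_top_iff]
        intro g _
        rcases Int.units_eq_one_or (sign g) with h | h
        · exact hA (mem_alternatingGroup.mpr h)
        · have : g * τ⁻¹ ∈ K := hA (mem_alternatingGroup.mpr (by simp [h, hs]))
          simpa using K.mul_mem this (hK hτ)
      refine not_unique _ (K1.subgroupOf A) (K2.subgroupOf A) (hR ▸ fun x hx => h1 hx)
        (hR ▸ fun x hx => h2 hx) (hprop K1 h1 hne1) (hprop K2 h2 hne2) ?_ huniq
      intro M hM1 hM2
      rw [eq_top_iff]
      intro x _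
      have hle : (K1 ⊓ A) ⊔ (K2 ⊓ A) ≤ M.map A.subtype :=
        sup_le (fun g hg => ⟨⟨g, hg.2⟩, hM1 hg.1, rfl⟩) (fun g hg => ⟨⟨g, hg.2⟩, hM2 hg.1, rfl⟩)
      obtain ⟨y, hy, hyx⟩ := hle (alt_join (by omega) T K1 K2 h1 h2 hjoin x.2)
      have : y = x := Subtype.ext hyx
      exact this ▸ hy
    · rintro ⟨k, hk, hnk⟩
      obtain ⟨f, hf⟩ := hfix k hk hnk T
      refine unique_of _ ((MulAction.stabilizer (Perm (Fin n)) f).subgroupOf A)
        (hR ▸ fun x hx => hf _ hx) ?_ ?_
      · intro htop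
        obtain ⟨a, -, ha⟩ := Finset.exists_mem_notMem_of_card_lt_card (s := {f})
          (t := (Finset.univ : Finset (Fin n))) (by simp; omega)
        obtain ⟨b, -, hb⟩ := Finset.exists_mem_notMem_of_card_lt_card (s := {f, a})
          (t := (Finset.univ : Finset (Fin n)))
          (lt_of_le_of_lt Finset.card_le_two (by simp; omega))
        simp only [Finset.mem_singleton] at ha
        simp only [Finset.mem_insert, Finset.mem_singleton, not_or] at hb
        have hmem : swap f a * swap f b ∈ A := mem_alternatingGroup.mpr (by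
          rw [map_mul, sign_swap (Ne.symm ha), sign_swap (Ne.symm hb.1)]; rfl)
        have : (swap f a * swap f b) f = f := (Subgroup.subgroupOf_eq_top.mp htop hmem)
        rw [Perm.mul_apply, swap_apply_left, swap_apply_of_ne_of_ne hb.1 hb.2] at this
        exact hb.1 this
      · intro M hne hRM x hx
        refine fixes_of_proper T hk (by rw [hcardn]; exact hnk) hf (M.map A.subtype) ?_
          (Subgroup.map_subtype_le M) ?_ _ ⟨x, hx, rfl⟩
        · intro g hg
          exact ⟨⟨g, hg.2⟩, hRM (hR ▸ hg.1), rfl⟩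
        · intro hA
          apply hne
          rw [eq_top_iff]
          intro y _
          obtain ⟨z, hz, hzy⟩ := hA y.2
          have : z = y := Subtype.ext hzy
          exact this ▸ hz
  · intro T
    constructor
    · intro huniq
      by_contra hnot
      obtain ⟨K1, K2, h1, h2, hne1, hne2, hjoin⟩ := hneg hnot T
      exact not_unique _ K1 K2 h1 h2 hne1 hne2
        (fun M hM1 hM2 => eq_top_iff.mpr (hjoin ▸ sup_le hM1 hM2)) huniq
    · rintro ⟨k, hk, hnk⟩
      obtain ⟨f, hf⟩ := hfix k hk hnk T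
      refine unique_of _ (MulAction.stabilizer (Perm (Fin n)) f) (fun g hg => hf g hg) ?_ ?_
      · intro htop
        obtain ⟨a, -, ha⟩ := Finset.exists_mem_notMem_of_card_lt_card (s := {f})
          (t := (Finset.univ : Finset (Fin n))) (by simp; omega)
        simp only [Finset.mem_singleton] at ha
        have : swap f a ∈ MulAction.stabilizer (Perm (Fin n)) f := htop ▸ trivial
        have h' : swap f a f = f := this
        rw [swap_apply_left] at h'
        exact ha h'
      · intro M hne hTM g hg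
        obtain ⟨-, τ, hτ, hs⟩ := two_part T
        have hev : ∀ x ∈ M ⊓ A, x f = f := by
          refine fixes_of_proper T hk (by rw [hcardn]; exact hnk) hf (M ⊓ A)
            (inf_le_inf_right _ hTM) inf_le_right (fun hA => hne ?_)
          rw [eq_top_iff]
          intro y _
          rcases Int.units_eq_one_or (sign y) with h | h
          · exact (hA (mem_alternatingGroup.mpr h)).1
          · have : y * τ⁻¹ ∈ M := (hA (mem_alternatingGroup.mpr (by simp [h, hs]))).1
            simpa using M.mul_mem this (hTM hτ)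
        show g f = f
        rcases Int.units_eq_one_or (sign g) with h | h
        · exact hev g ⟨hg, mem_alternatingGroup.mpr h⟩
        · have := hev (g * τ) ⟨M.mul_mem hg (hTM hτ), mem_alternatingGroup.mpr (by simp [h, hs])⟩
          rwa [Perm.mul_apply, hf τ hτ] at this

end Cfsg.Agent.S2245
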