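import Cfsg.Statements.S2249
import Cfsg.Agent.Lib.NormalRank.Upper
import Cfsg.Agent.Lib.NormalRank.Lower

set_option autoImplicit false
open Cfsg

namespace Cfsg.Agent.S2249

/-- The normal 2-rank of the general linear group over a finite field of odd order q: for n ≥ 1 and S a Sylow 2-subgroup of GL_n(F), the largest rank of an elementary abelian subgroup of S that is normal in S equals n when q ≡ 1 (mod 4) and ⌊(n + 1)/2⌋ when q ≡ 3 (mod 4). -/
theorem result {F : Type*} [Field F] [Fintype F] {q : ℕ} (hF : Fintype.card F = q) (hodd : Odd q) (n : ℕ) (hn : 1 ≤ n) (S : Sylow 2 (Matrix.GeneralLinearGroup (Fin n) F)) :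
    (q % 4 = 1 → ((∃ E : Subgroup ↥(S : Subgroup (Matrix.GeneralLinearGroup (Fin n) F)), E.Normal ∧ Cfsg.IsElementaryAbelian 2 E ∧ 2 ^ (n) ≤ Nat.card ↥E) ∧
      ∀ E : Subgroup ↥(S : Subgroup (Matrix.GeneralLinearGroup (Fin n) F)), E.Normal → Cfsg.IsElementaryAbelian 2 E → Nat.card ↥E ≤ 2 ^ (n))) ∧
    (q % 4 = 3 → ((∃ E : Subgroup ↥(S : Subgroup (Matrix.GeneralLinearGroup (Fin n) F)), E.Normal ∧ Cfsg.IsElementaryAbelian 2 E ∧ 2 ^ ((n + 1) / 2) ≤ Nat.card ↥E) ∧
      ∀ E : Subgroup ↥(S : Subgroup (Matrix.GeneralLinearGroup (Fin n) F)), E.Normal → Cfsg.IsElementaryAbelian 2 E → Nat.card ↥E ≤ 2 ^ ((n + 1) / 2))) := by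
  classical
  subst hF
  haveI : Fact (Nat.Prime 2) := ⟨Nat.prime_two⟩
  have h2 : (2 : F) ≠ 0 := CfsgLib.TwoRank.two_ne_zero_of_odd_card hodd
  let ρ : ↥(S : Subgroup (Matrix.GeneralLinearGroup (Fin n) F)) →* Module.End F (Fin n → F) :=
    (Matrix.toLinAlgEquiv' : Matrix (Fin n) (Fin n) F ≃ₐ[F] _).toAlgHom.toRingHom.toMonoidHom.comp
      ((Units.coeHom _).comp (S : Subgroup (Matrix.GeneralLinearGroup (Fin n) F)).subtype)
  have hρ : Function.Injective ρ :=
    Matrix.toLinAlgEquiv'.injective.comp (Units.val_injective.comp Subtype.val_injective)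
  constructor
  · intro h4
    refine ⟨CfsgLib.NormalRank.lower_one h4 n S, fun E _ hE => ?_⟩
    letI : CommGroup E := { (inferInstance : Group E) with mul_comm := hE.1.is_comm.comm }
    exact (CfsgLib.TwoRank.card_le_aux n h2
      (fun e : E => Subtype.ext (by rw [Subgroup.coe_mul, ← pow_two]; exact hE.2 _ e.2))
      (ρ.comp E.subtype) (hρ.comp Subtype.val_injective) (by simp)).1
  · intro h4
    refine ⟨CfsgLib.NormalRank.lower_three h4 n S, fun E hEn hE => ?_⟩
    haveI := hEn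
    have h := CfsgLib.NormalRank.normal_elementary_le h4 ρ hρ (by
      rw [Module.finrank_fin_fun, Sylow.card_eq_multiplicity, Nat.Prime.factorization_pow Nat.prime_two,
        Finsupp.single_eq_same]) E (fun e he => by rw [← pow_two]; exact hE.2 _ he)
      (fun a ha b hb => congrArg Subtype.val (hE.1.is_comm.comm (⟨a, ha⟩ : E) ⟨b, hb⟩))
    rwa [Module.finrank_fin_fun] at h

end Cfsg.Agent.S2249
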