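import Cfsg.Statements.S2250
import Cfsg.Agent.Lib.NormalRank.Lower
import Cfsg.Agent.Lib.SpSylowTwo.Main
import Cfsg.Agent.S0821

set_option autoImplicit false
open Cfsg

namespace Cfsg.Agent.S2250

/-- The normal 2-rank of the symplectic group over a finite field of odd order: for n ≥ 1 and S a Sylow 2-subgroup of Sp_{2n}(F), the largest rank of an elementary abelian subgroup of S that is normal in S equals n. -/
theorem result {F : Type*} [Field F] [Fintype F] (hF : Odd (Fintype.card F)) (n : ℕ) (hn : 1 ≤ n) (S : Sylow 2 ↥(Matrix.symplecticGroup (Fin n) F)) :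
    ((∃ E : Subgroup ↥(S : Subgroup ↥(Matrix.symplecticGroup (Fin n) F)), E.Normal ∧ Cfsg.IsElementaryAbelian 2 E ∧ 2 ^ (n) ≤ Nat.card ↥E) ∧
      ∀ E : Subgroup ↥(S : Subgroup ↥(Matrix.symplecticGroup (Fin n) F)), E.Normal → Cfsg.IsElementaryAbelian 2 E → Nat.card ↥E ≤ 2 ^ (n)) := by
  classical
  haveI : Fact (Nat.Prime 2) := ⟨Nat.prime_two⟩
  have h2 : (2 : F) ≠ 0 := CfsgLib.TwoRank.two_ne_zero_of_odd_card hF
  constructor
  · obtain ⟨N, hN, he, hc, hcard⟩ := CfsgLib.NormalRank.wreath_signs (n := n)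
      (⊤ : Subgroup (Equiv.Perm (Fin n))) (Q := Matrix.SpecialLinearGroup (Fin 2) F) (-1)
      (fun h => h2 (by
        have h' := congrArg (fun x : Matrix.SpecialLinearGroup (Fin 2) F =>
          (x : Matrix (Fin 2) (Fin 2) F) 0 0) h
        simp at h'
        linear_combination -h'))
      (by simp) (fun x => by simp)
    have hinj := CfsgLib.SpSylowTwo.wreathSp_injective (F := F)
      (MonoidHom.id (Matrix.SpecialLinearGroup (Fin 2) F)) Function.injective_id
      (⊤ : Subgroup (Equiv.Perm (Fin n)))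
    haveI := Finite.of_injective _ hinj
    obtain ⟨E, h1, h3, h4⟩ := CfsgLib.NormalRank.exists_normal_of_embedding _ hinj (le_of_eq (by
      rw [CfsgLib.SpSylowTwo.factorization_card_symplectic hF, SemidirectProduct.card, Nat.card_fun,
        Subgroup.card_top, Nat.card_perm, Nat.card_fin,
        Nat.factorization_mul (pow_ne_zero _ Nat.card_pos.ne') n.factorial_ne_zero, Finsupp.add_apply,
        Nat.factorization_pow, Finsupp.smul_apply, smul_eq_mul])) N he hc S
    exact ⟨E, h1, h3, hcard ▸ h4⟩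
  · intro E _ hE
    rw [← Subgroup.card_map_of_injective
      (f := (S : Subgroup ↥(Matrix.symplecticGroup (Fin n) F)).subtype) Subtype.val_injective]
    refine Cfsg.Agent.S0821.card_elementary_le h2 _ ?_ ?_
    · rintro _ ⟨a, ha, rfl⟩ _ ⟨b, hb, rfl⟩
      rw [← map_mul, ← map_mul]
      exact congrArg _ (congrArg Subtype.val (hE.1.is_comm.comm (⟨a, ha⟩ : E) ⟨b, hb⟩))
    · rintro _ ⟨a, ha, rfl⟩
      rw [← map_mul, ← pow_two, hE.2 a ha, map_one]

end Cfsg.Agent.S2250
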