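import Cfsg.Statements.S2253
import Cfsg.Agent.Lib.NilpPerm.Extremal

set_option autoImplicit false
open Cfsg

namespace Cfsg.Agent.S2253

open CfsgLib.NilpPerm Equiv

theorem result  (n : ℕ) (hn : n % 4 ≠ 3)
    (N : Subgroup (Equiv.Perm (Fin n))) (hN : Group.IsNilpotent N)
    (P : Sylow 2 (Equiv.Perm (Fin n))) :
    Nat.card N ≤ Nat.card P := by
  have h := (bounded n (Fin n) (Fintype.card_fin n) N hN).1
  rw [Fintype.card_fin, cap_of_ne hn] at h
  rw [card_sylow_perm]
  omega

end Cfsg.Agent.S2253
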