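import Cfsg.Statements.S2254
import Cfsg.Agent.Lib.NilpPerm.Extremal

set_option autoImplicit false
open Cfsg

namespace Cfsg.Agent.S2254

open CfsgLib.NilpPerm Equiv

theorem result  (n : ℕ) (hn : n % 4 = 3)
    (P : Sylow 2 (Equiv.Perm (Fin (n - 3)))) :
    (∀ N : Subgroup (Equiv.Perm (Fin n)), Group.IsNilpotent N → Nat.card N ≤ 3 * Nat.card P) ∧
    (∃ M : Subgroup (Equiv.Perm (Fin n)), Group.IsNilpotent M ∧ Nat.card M = 3 * Nat.card P ∧
      Nonempty (M ≃* (↥(P : Subgroup (Equiv.Perm (Fin (n - 3)))) × Multiplicative (ZMod 3)))) ∧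
    (∀ N₁ N₂ : Subgroup (Equiv.Perm (Fin n)), Group.IsNilpotent N₁ → Group.IsNilpotent N₂ →
      Nat.card N₁ = 3 * Nat.card P → Nat.card N₂ = 3 * Nat.card P →
      ∃ g : Equiv.Perm (Fin n), N₂ = N₁.map (MulAut.conj g).toMonoidHom) := by
  have hP := card_sylow_perm (n - 3) P
  have htf := twoFact_three_mod hn
  refine ⟨fun N hN => ?_, ?_, fun N₁ N₂ hN1 hN2 e1 e2 => ?_⟩
  · have h := (bounded n (Fin n) (Fintype.card_fin n) N hN).1
    rw [Fintype.card_fin, cap_of_eq hn] at h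
    omega
  · haveI : Group.IsNilpotent (P : Subgroup (Perm (Fin (n - 3)))) := P.isPGroup'.isNilpotent
    obtain ⟨f, hf, -⟩ := exists_extremal n (by omega) (P : Subgroup (Perm (Fin (n - 3))))
    let e := MonoidHom.ofInjective hf
    refine ⟨f.range, Group.nilpotent_of_mulEquiv e, ?_, ⟨e.symm⟩⟩
    rw [← Nat.card_congr e.toEquiv, Nat.card_prod, Nat.card_congr Multiplicative.toAdd, Nat.card_zmod]
    ring
  · set u := (n - 3).factorial.factorization 2
    have hu : twoFact (n - 3) = 2 ^ u := rfl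
    obtain ⟨q₁, C₁, h1, hq1, hC1, hf1, hc1⟩ := large_shape (by rwa [Fintype.card_fin]) N₁ hN1
      ⟨u, by rw [e1, hP, hu], by rw [Fintype.card_fin, hu]; omega⟩
    obtain ⟨q₂, C₂, h2, hq2, hC2, hf2, hc2⟩ := large_shape (by rwa [Fintype.card_fin]) N₂ hN2
      ⟨u, by rw [e2, hP, hu], by rw [Fintype.card_fin, hu]; omega⟩
    obtain ⟨g, -, hg⟩ := conj_of_shape ⊤ (Or.inr rfl) (Or.inl rfl) le_top le_top h1 h2 hq1 hq2 hC1 hC2 hf1 hf2
      (by omega) (by omega) hc2 (u := u) (by rw [e2, hP, hu] at hc2; omega)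
      (by rw [inf_top_eq, card_fixOn, h2.card_support, Fintype.card_fin])
    exact ⟨g, hg⟩

end Cfsg.Agent.S2254
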