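import Cfsg.Statements.S2255
import Cfsg.Agent.Lib.NilpPerm.Extremal

set_option autoImplicit false
open Cfsg

namespace Cfsg.Agent.S2255

open CfsgLib.NilpPerm Equiv

theorem result  (n : ℕ) (hn : n % 4 ≠ 3)
    (h5 : n ≠ 5) (h6 : n ≠ 6) (h9 : n ≠ 9)
    (N : Subgroup (alternatingGroup (Fin n))) (hN : Group.IsNilpotent N)
    (P : Sylow 2 (alternatingGroup (Fin n))) :
    Nat.card N ≤ Nat.card P := by
  rcases Nat.lt_or_ge n 2 with h2 | h2
  · haveI : Subsingleton (Fin n) := Fin.subsingleton_iff_le_one.mpr (by omega)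
    have : Nat.card N = 1 := Nat.card_eq_one_iff_unique.mpr ⟨inferInstance, ⟨1⟩⟩
    rw [this]
    exact Nat.card_pos
  have h3 : n ≠ 3 := fun h => hn (by omega)
  haveI := hN
  have hb := ((bounded n (Fin n) (Fintype.card_fin n) (N.map (alternatingGroup (Fin n)).subtype)
    (isNilpotent_map _ N)).2 (Subgroup.map_subtype_le N) (by rwa [Fintype.card_fin])).1
  rw [Fintype.card_fin, Subgroup.card_map_of_injective (Subgroup.subtype_injective _), cap_of_ne hn] at hb
  have h := hb h3 h5 h6 h9
  have := card_sylow_alt n h2 P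
  omega

end Cfsg.Agent.S2255
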