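import Cfsg.Statements.S2256
import Cfsg.Agent.Lib.NilpPerm.Extremal

set_option autoImplicit false
open Cfsg

namespace Cfsg.Agent.S2256

open CfsgLib.NilpPerm Equiv

theorem result  (n : ℕ) (hn : n % 4 = 3) (h7 : 7 ≤ n)
    (P : Sylow 2 (alternatingGroup (Fin (n - 3)))) :
    (∀ N : Subgroup (alternatingGroup (Fin n)), Group.IsNilpotent N → Nat.card N ≤ 3 * Nat.card P) ∧
    (∃ M : Subgroup (alternatingGroup (Fin n)), Group.IsNilpotent M ∧ Nat.card M = 3 * Nat.card P ∧
      Nonempty (M ≃* (↥(P : Subgroup (alternatingGroup (Fin (n - 3)))) × Multiplicative (ZMod 3)))) ∧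
    (∀ N₁ N₂ : Subgroup (alternatingGroup (Fin n)), Group.IsNilpotent N₁ → Group.IsNilpotent N₂ →
      Nat.card N₁ = 3 * Nat.card P → Nat.card N₂ = 3 * Nat.card P →
      ∃ g : alternatingGroup (Fin n), N₂ = N₁.map (MulAut.conj g).toMonoidHom) := by
  haveI : Fact (Nat.Prime 2) := ⟨Nat.prime_two⟩
  have hP := card_sylow_alt (n - 3) (by omega) P
  have htf := twoFact_three_mod hn
  set A := alternatingGroup (Fin n)
  refine ⟨fun N hN => ?_, ?_, fun N₁ N₂ hN1 hN2 e1 e2 => ?_⟩
  · haveI := hN
    have hb := ((bounded n (Fin n) (Fintype.card_fin n) (N.map A.subtype) (isNilpotent_map _ N)).2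
      (Subgroup.map_subtype_le N) (by rw [Fintype.card_fin]; omega)).1
    rw [Fintype.card_fin, Subgroup.card_map_of_injective (Subgroup.subtype_injective _), cap_of_eq hn] at hb
    have := hb (by omega) (by omega) (by omega) (by omega)
    omega
  · set Q := (P : Subgroup (alternatingGroup (Fin (n - 3)))).map (alternatingGroup (Fin (n - 3))).subtype
    haveI : Group.IsNilpotent (P : Subgroup (alternatingGroup (Fin (n - 3)))) := P.isPGroup'.isNilpotent
    haveI : Group.IsNilpotent Q := isNilpotent_map _ _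
    obtain ⟨f, hf, hs⟩ := exists_extremal n (by omega) Q
    let f' : Q × Multiplicative (ZMod 3) →* A := f.codRestrict A (fun x => by
      rw [Perm.mem_alternatingGroup, hs x]
      obtain ⟨y, -, hy⟩ := x.1.2
      rw [← hy]
      exact Perm.mem_alternatingGroup.mp y.2)
    have hf' : Function.Injective f' := fun x y h => hf (congrArg Subtype.val h)
    let e := MonoidHom.ofInjective hf'
    let e0 := ((P : Subgroup (alternatingGroup (Fin (n - 3)))).equivMapOfInjective _
      (Subgroup.subtype_injective (alternatingGroup (Fin (n - 3)))))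
    refine ⟨f'.range, Group.nilpotent_of_mulEquiv e, ?_, ⟨e.symm.trans (MulEquiv.prodCongr e0.symm (MulEquiv.refl _))⟩⟩
    rw [← Nat.card_congr e.toEquiv, Nat.card_prod, Nat.card_congr Multiplicative.toAdd, Nat.card_zmod,
      ← Nat.card_congr e0.toEquiv]
    ring
  · haveI := hN1
    haveI := hN2
    obtain ⟨u, hu⟩ := IsPGroup.iff_card.mp P.isPGroup'
    rw [hu] at e1 e2 hP
    have c1 : Nat.card (N₁.map A.subtype) = 3 * 2 ^ u := by
      rw [Subgroup.card_map_of_injective (Subgroup.subtype_injective _), e1]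
    have c2 : Nat.card (N₂.map A.subtype) = 3 * 2 ^ u := by
      rw [Subgroup.card_map_of_injective (Subgroup.subtype_injective _), e2]
    obtain ⟨q₁, C₁, h1, hq1, hC1, hf1, hc1⟩ := large_shape (by rwa [Fintype.card_fin]) _ (isNilpotent_map A.subtype N₁)
      ⟨u, c1, by rw [Fintype.card_fin]; omega⟩
    obtain ⟨q₂, C₂, h2, hq2, hC2, hf2, hc2⟩ := large_shape (by rwa [Fintype.card_fin]) _ (isNilpotent_map A.subtype N₂)
      ⟨u, c2, by rw [Fintype.card_fin]; omega⟩
    obtain ⟨g, hgA, hg⟩ := conj_of_shape A (Or.inl (by rwa [Fintype.card_fin])) (Or.inr rfl)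
      (Subgroup.map_subtype_le N₁) (Subgroup.map_subtype_le N₂) h1 h2 hq1 hq2 hC1 hC2 hf1 hf2
      (by omega) (by omega) hc2 (u := u) (by omega) (by
        obtain ⟨a, ha, b, hb, hab⟩ := Finset.one_lt_card.mp (show 1 < q₂.supportᶜ.card by
          rw [Finset.card_compl, h2.card_support, Fintype.card_fin]; omega)
        rw [Finset.mem_compl] at ha hb
        have hcard := card_inf_alt (fixOn (q₂.support : Set (Fin n))) (τ := swap a b)
          (fun x hx => swap_apply_of_ne_of_ne (fun e => ha (by rw [← e]; exact hx))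
            (fun e => hb (by rw [← e]; exact hx))) (Perm.sign_swap hab)
        rw [card_fixOn, h2.card_support, Fintype.card_fin] at hcard
        have hfac : (2 * Nat.card (fixOn (q₂.support : Set (Fin n)) ⊓ A : Subgroup (Perm (Fin n)))).factorization 2
            = u + 1 := by
          rw [hcard]
          apply Nat.pow_right_injective le_rfl
          show 2 ^ _ = 2 ^ (u + 1)
          rw [pow_succ, mul_comm]
          exact hP.symm
        rw [Nat.factorization_mul (by norm_num) Nat.card_pos.ne', Finsupp.add_apply,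
          Nat.prime_two.factorization_self] at hfac
        omega)
    refine ⟨⟨g, hgA⟩, ?_⟩
    apply Subgroup.map_injective (Subgroup.subtype_injective A)
    rw [hg, Subgroup.map_map, Subgroup.map_map]
    rfl

end Cfsg.Agent.S2256
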