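import Cfsg.Statements.S2257
import Cfsg.Agent.Lib.PSL2Sol.Even

set_option autoImplicit false
open Cfsg

namespace Cfsg.Agent.S2257

/-- Let G = PSL_2(F) with F a field of order q = 2^p, p prime, and for x ∈ G call the solubilizer of x the set of y ∈ G such that x and y generate a solvable subgroup. Then the solubilizer of an involution has 3q(q − 1) elements; that of a non-identity element of order dividing q − 1 has 2q(q − 1) elements; and that of a non-identity element of order dividing q + 1 has 2(q + 1) elements. -/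
theorem result (p : ℕ) (hp : p.Prime) {F : Type*} [Field F] [Fintype F]
    (hF : Fintype.card F = 2 ^ p) (x : Matrix.ProjectiveSpecialLinearGroup (Fin 2) F) :
    (orderOf x = 2 → Nat.card {y : Matrix.ProjectiveSpecialLinearGroup (Fin 2) F // Group.IsSolvable ↥(Subgroup.closure ({x, y} : Set (Matrix.ProjectiveSpecialLinearGroup (Fin 2) F)))} = 3 * 2 ^ p * (2 ^ p - 1)) ∧
    (x ≠ 1 → orderOf x ∣ 2 ^ p - 1 → Nat.card {y : Matrix.ProjectiveSpecialLinearGroup (Fin 2) F // Group.IsSolvable ↥(Subgroup.closure ({x, y} : Set (Matrix.ProjectiveSpecialLinearGroup (Fin 2) F)))} = 2 * 2 ^ p * (2 ^ p - 1)) ∧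
    (x ≠ 1 → orderOf x ∣ 2 ^ p + 1 → Nat.card {y : Matrix.ProjectiveSpecialLinearGroup (Fin 2) F // Group.IsSolvable ↥(Subgroup.closure ({x, y} : Set (Matrix.ProjectiveSpecialLinearGroup (Fin 2) F)))} = 2 * (2 ^ p + 1)) := by
  classical
  haveI : Fact (Nat.Prime 2) := ⟨Nat.prime_two⟩
  haveI : CharP F 2 := by
    obtain ⟨r, hr⟩ := CharP.exists F
    obtain ⟨m, hrp, hcard⟩ := FiniteField.card F r
    rw [hF] at hcard
    have h2 : 2 = r := (Nat.prime_dvd_prime_iff_eq Nat.prime_two hrp).1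
      (Nat.prime_two.dvd_of_dvd_pow (n := m) (hcard ▸ dvd_pow_self 2 hp.ne_zero))
    subst h2
    exact hr
  obtain ⟨hev, hgcd⟩ := (CfsgLib.PSL2Sub.card_parity 2 (F := F)).2.1 rfl
  have key : ∀ m, m % 2 = 1 → x ≠ 1 → orderOf x ∣ m → 2 < orderOf x ∧ ¬ orderOf x ∣ 2 := by
    intro m hm h1 hd
    have hne : orderOf x ≠ 1 := fun e => h1 (orderOf_eq_one_iff.1 e)
    have hne2 : orderOf x ≠ 2 := fun e => by
      rw [e] at hd
      omega
    have hpos : 0 < orderOf x := orderOf_pos x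
    refine ⟨by omega, fun h => ?_⟩
    have := Nat.le_of_dvd two_pos h
    omega
  have hge : 1 ≤ 2 ^ p := Nat.one_le_two_pow
  rw [hF] at hev
  refine ⟨fun hx => ?_, fun h1 hd => ?_, fun h1 hd => ?_⟩
  · have := CfsgLib.PSL2Sol.card_sol_involution_two hp hF hx
    rwa [hF] at this
  · obtain ⟨k1, k2⟩ := key _ (by omega) h1 hd
    have := (CfsgLib.PSL2Sol.card_sol_tame hp (Or.inl rfl) hF k1 k2).1 (hF ▸ hd)
    rwa [hgcd, one_mul, hF] at this
  · obtain ⟨k1, k2⟩ := key _ (by omega) h1 hd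
    have := (CfsgLib.PSL2Sol.card_sol_tame hp (Or.inl rfl) hF k1 k2).2 (hF ▸ hd)
    rwa [hgcd, one_mul, hF] at this

end Cfsg.Agent.S2257
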