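import Cfsg.Statements.S2258
import Cfsg.Agent.Lib.PSL2Sol.Three

set_option autoImplicit false
open Cfsg

namespace Cfsg.Agent.S2258

/-- Let G = PSL_2(F) with F a field of order q = 3^p, p an odd prime, and for x ∈ G call the solubilizer of x the set of y ∈ G such that x and y generate a solvable subgroup. Then the solubilizer of an involution has q(q + 1) elements; that of an element of order 3 has q(q + 5)/2 elements; that of an element of order neither 1 nor 2 dividing q − 1 has q(q − 1) elements; and that of an element of order neither 1 nor 2 dividing q + 1 has q + 1 elements. -/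
theorem result (p : ℕ) (hp : p.Prime) (hodd : Odd p) {F : Type*} [Field F] [Fintype F]
    (hF : Fintype.card F = 3 ^ p) (x : Matrix.ProjectiveSpecialLinearGroup (Fin 2) F) :
    (orderOf x = 2 → Nat.card {y : Matrix.ProjectiveSpecialLinearGroup (Fin 2) F // Group.IsSolvable ↥(Subgroup.closure ({x, y} : Set (Matrix.ProjectiveSpecialLinearGroup (Fin 2) F)))} = 3 ^ p * (3 ^ p + 1)) ∧
    (orderOf x = 3 → 2 * Nat.card {y : Matrix.ProjectiveSpecialLinearGroup (Fin 2) F // Group.IsSolvable ↥(Subgroup.closure ({x, y} : Set (Matrix.ProjectiveSpecialLinearGroup (Fin 2) F)))} = 3 ^ p * (3 ^ p + 5)) ∧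
    (x ≠ 1 → orderOf x ≠ 2 → orderOf x ∣ 3 ^ p - 1 → Nat.card {y : Matrix.ProjectiveSpecialLinearGroup (Fin 2) F // Group.IsSolvable ↥(Subgroup.closure ({x, y} : Set (Matrix.ProjectiveSpecialLinearGroup (Fin 2) F)))} = 3 ^ p * (3 ^ p - 1)) ∧
    (x ≠ 1 → orderOf x ≠ 2 → orderOf x ∣ 3 ^ p + 1 → Nat.card {y : Matrix.ProjectiveSpecialLinearGroup (Fin 2) F // Group.IsSolvable ↥(Subgroup.closure ({x, y} : Set (Matrix.ProjectiveSpecialLinearGroup (Fin 2) F)))} = 3 ^ p + 1) := by
  classical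
  haveI : Fact (Nat.Prime 3) := ⟨Nat.prime_three⟩
  haveI : CharP F 3 := by
    obtain ⟨r, hr⟩ := CharP.exists F
    obtain ⟨m, hrp, hcard⟩ := FiniteField.card F r
    rw [hF] at hcard
    have h3 : 3 = r := (Nat.prime_dvd_prime_iff_eq Nat.prime_three hrp).1
      (Nat.prime_three.dvd_of_dvd_pow (n := m) (hcard ▸ dvd_pow_self 3 hp.ne_zero))
    subst h3
    exact hr
  obtain ⟨hgcd, -, -, h8, -⟩ := CfsgLib.PSL2Sol.three_facts (F := F) p hodd hF
  have h30 : 3 ∣ 3 ^ p := dvd_pow_self 3 hp.ne_zero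
  have key : ∀ m, ¬ 3 ∣ m → x ≠ 1 → orderOf x ≠ 2 → orderOf x ∣ m →
      2 < orderOf x ∧ ¬ orderOf x ∣ 3 := by
    intro m hm h1 hne2 hd
    have hne : orderOf x ≠ 1 := fun e => h1 (orderOf_eq_one_iff.1 e)
    have hpos : 0 < orderOf x := orderOf_pos x
    refine ⟨by omega, fun h => ?_⟩
    rcases (Nat.dvd_prime Nat.prime_three).1 h with e | e
    · exact hne e
    · exact hm (e ▸ hd)
  refine ⟨fun hx => ?_, fun hx => ?_, fun h1 h2 hd => ?_, fun h1 h2 hd => ?_⟩
  · have := CfsgLib.PSL2Sol.card_sol_involution_three hp hodd hF hx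
    rwa [hF] at this
  · have := CfsgLib.PSL2Sol.card_sol_order_three hp hodd hF hx
    rwa [hF] at this
  · obtain ⟨k1, k2⟩ := key _ (by rw [hF] at h8; omega) h1 h2 hd
    have := (CfsgLib.PSL2Sol.card_sol_tame hp (Or.inr ⟨rfl, hodd⟩) hF k1 k2).1 (hF ▸ hd)
    rw [hgcd, hF] at this
    linarith
  · obtain ⟨k1, k2⟩ := key _ (by rw [hF] at h8; omega) h1 h2 hd
    have := (CfsgLib.PSL2Sol.card_sol_tame hp (Or.inr ⟨rfl, hodd⟩) hF k1 k2).2 (hF ▸ hd)
    rw [hgcd, hF] at this
    linarith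

end Cfsg.Agent.S2258
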