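import Cfsg.Statements.S2260

set_option autoImplicit false
open Cfsg

namespace Cfsg.Agent.S2260

theorem result {F : Type*} [Field F] [Finite F] (p : ℕ) [Fact p.Prime] [CharP F p] (d : ℕ)
    (u : GL (Fin d) F) (hu : IsNilpotent ((u : Matrix (Fin d) (Fin d) F) - 1)) :
    orderOf u ≤ p ^ Nat.clog p d ∧
    (((u : Matrix (Fin d) (Fin d) F) - 1) ^ (d - 1) ≠ 0 → orderOf u = p ^ Nat.clog p d) := by
  rcases Nat.eq_zero_or_pos d with rfl | hd
  · have : u = 1 := Subsingleton.elim _ _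
    subst this
    simp
  haveI : Nonempty (Fin d) := ⟨⟨0, hd⟩⟩
  set N : Matrix (Fin d) (Fin d) F := (u : Matrix (Fin d) (Fin d) F) - 1 with hN
  have hNd : N ^ d = 0 := by
    have h := Matrix.aeval_self_charpoly N
    have hc := Matrix.isNilpotent_charpoly_sub_pow_of_isNilpotent hu
    rw [isNilpotent_iff_eq_zero, sub_eq_zero, Fintype.card_fin] at hc
    rwa [hc, map_pow, Polynomial.aeval_X] at h
  have key : ∀ j : ℕ, N ^ (p ^ j) = ((u ^ (p ^ j) : GL (Fin d) F) : Matrix (Fin d) (Fin d) F) - 1 := by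
    intro j
    rw [hN, sub_pow_char_pow_of_commute p j (Commute.one_right _), one_pow, Units.val_pow_eq_pow_val]
  have hp : p.Prime := Fact.out
  have hk : d ≤ p ^ Nat.clog p d := Nat.le_pow_clog hp.one_lt d
  have hu1 : u ^ (p ^ Nat.clog p d) = 1 := by
    apply Units.ext
    have := key (Nat.clog p d)
    rw [pow_eq_zero_of_le hk hNd] at this
    simpa using (sub_eq_zero.mp this.symm)
  have hdvd : orderOf u ∣ p ^ Nat.clog p d := orderOf_dvd_of_pow_eq_one hu1
  refine ⟨Nat.le_of_dvd (pow_pos hp.pos _) hdvd, fun hne => ?_⟩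
  obtain ⟨j, hj, hje⟩ := (Nat.dvd_prime_pow hp).mp hdvd
  rcases eq_or_lt_of_le hj with rfl | hlt
  · exact hje
  exfalso
  apply hne
  have h1 : N ^ (p ^ j) = 0 := by
    rw [key j, ← hje, pow_orderOf_eq_one]; simp
  have h2 : p ^ j < d := (Nat.lt_clog_iff_pow_lt hp.one_lt).mp hlt
  exact pow_eq_zero_of_le (by omega) h1

end Cfsg.Agent.S2260
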