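import Cfsg.Statements.S2261

set_option autoImplicit false
open Cfsg

namespace Cfsg.Agent.S2261

open Polynomial in
/-- A scalar multiple of a power of a matrix is an `F`-combination of the powers below its size. -/
private theorem exists_comb {F : Type*} [Field F] {d : ℕ} (M : Matrix (Fin d) (Fin d) F) (i : ℕ)
    (c : F) : ∃ v : Fin d → F, ∑ k, v k • M ^ (k : ℕ) = c • M ^ i := by
  rcases Nat.eq_zero_or_pos d with rfl | hd
  · exact ⟨Fin.elim0, Subsingleton.elim _ _⟩
  haveI : Nonempty (Fin d) := ⟨⟨0, hd⟩⟩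
  set r : F[X] := C c * (X ^ i %ₘ M.charpoly) with hr
  have hdeg : r.natDegree < d := by
    refine lt_of_le_of_lt (natDegree_C_mul_le _ _) ?_
    have := natDegree_modByMonic_lt (X ^ i) M.charpoly_monic (by
      intro h
      have h' := congrArg natDegree h
      rw [Matrix.charpoly_natDegree_eq_dim, Fintype.card_fin, natDegree_one] at h'
      omega)
    rwa [Matrix.charpoly_natDegree_eq_dim, Fintype.card_fin] at this
  refine ⟨fun k => r.coeff k, ?_⟩
  rw [Fin.sum_univ_eq_sum_range (fun k => r.coeff k • M ^ k), ← aeval_eq_sum_range' hdeg M, hr,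
    map_mul, aeval_C, ← Matrix.pow_eq_aeval_mod_charpoly, Algebra.smul_def]

theorem result {F : Type*} [Field F] [Fintype F] (d : ℕ) (hd : 1 ≤ d) :
    (∀ g : (GL (Fin d) F ⧸ Subgroup.center (GL (Fin d) F)), (Fintype.card F - 1) * orderOf g ≤ Fintype.card F ^ d - 1) ∧
    (∃ g : (GL (Fin d) F ⧸ Subgroup.center (GL (Fin d) F)), (Fintype.card F - 1) * orderOf g = Fintype.card F ^ d - 1) := by
  classical
  haveI : Nonempty (Fin d) := ⟨⟨0, hd⟩⟩
  set Z := Subgroup.center (GL (Fin d) F)
  have upper : ∀ g : GL (Fin d) F ⧸ Z,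
      (Fintype.card F - 1) * orderOf g ≤ Fintype.card F ^ d - 1 := by
    intro g
    obtain ⟨A, rfl⟩ := QuotientGroup.mk_surjective g
    set M : Matrix (Fin d) (Fin d) F := (A : Matrix (Fin d) (Fin d) F) with hM
    set r := orderOf (QuotientGroup.mk' Z A) with hr
    choose v hv using fun x : Fˣ × Fin r => exists_comb M (x.2 : ℕ) (x.1 : F)
    have hv0 : ∀ x, v x ≠ 0 := by
      intro x h
      have h' := hv x
      rw [h] at h'
      simp only [Pi.zero_apply, zero_smul, Finset.sum_const_zero] at h'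
      have hu : M ^ (x.2 : ℕ) = 0 := by
        have := congrArg (fun z => ((x.1⁻¹ : Fˣ) : F) • z) h'.symm
        simpa [smul_smul] using this
      have : IsUnit (M ^ (x.2 : ℕ)) := A.isUnit.pow _
      rw [hu] at this
      exact not_isUnit_zero this
    let φ : Fˣ × Fin r → {w : Fin d → F // w ≠ 0} := fun x => ⟨v x, hv0 x⟩
    have hφ : Function.Injective φ := by
      intro x y h
      have hxy : (x.1 : F) • M ^ (x.2 : ℕ) = (y.1 : F) • M ^ (y.2 : ℕ) := by
        rw [← hv x, ← hv y]
        have : v x = v y := congrArg Subtype.val h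
        rw [this]
      have hx2 : x.2 = y.2 := by
        apply Fin.ext
        apply pow_injOn_Iio_orderOf (x := QuotientGroup.mk' Z A) x.2.2 y.2.2
        show (QuotientGroup.mk' Z A) ^ (x.2 : ℕ) = (QuotientGroup.mk' Z A) ^ (y.2 : ℕ)
        rw [← map_pow, ← map_pow]
        refine QuotientGroup.eq.mpr ?_
        rw [Matrix.GeneralLinearGroup.mem_center_iff_val_mem_range_scalar]
        refine ⟨(y.1 : F)⁻¹ * (x.1 : F), ?_⟩
        have hy : M ^ (y.2 : ℕ) = ((y.1 : F)⁻¹ * (x.1 : F)) • M ^ (x.2 : ℕ) := by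
          rw [mul_smul, hxy, smul_smul, inv_mul_cancel₀ y.1.ne_zero, one_smul]
        rw [Units.val_mul, Units.val_pow_eq_pow_val, ← hM, hy, Matrix.mul_smul,
          hM, ← Units.val_pow_eq_pow_val, Units.inv_mul, Matrix.smul_one_eq_diagonal]
        rfl
      have hx1 : x.1 = y.1 := by
        apply Units.ext
        rw [hx2] at hxy
        have hne : M ^ (y.2 : ℕ) ≠ 0 := (A.isUnit.pow _).ne_zero
        exact smul_left_injective F hne hxy
      exact Prod.ext hx1 hx2
    have hc := Nat.card_le_card_of_injective φ hφ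
    rw [Nat.card_prod, Nat.card_fin, Nat.card_units, Nat.card_eq_fintype_card,
      Nat.card_eq_fintype_card, Fintype.card_subtype_compl, Fintype.card_subtype_eq,
      Fintype.card_fun, Fintype.card_fin] at hc
    exact hc
  refine ⟨upper, ?_⟩
  obtain ⟨p, hp⟩ := CharP.exists F
  haveI := hp
  haveI : Fact p.Prime := ⟨CharP.char_is_prime F p⟩
  haveI : NeZero d := ⟨by omega⟩
  let L := FiniteField.Extension F p d
  have hdim : Module.finrank F L = d := FiniteField.finrank_extension F p d
  haveI : Module.Finite F L := Module.finite_of_finrank_pos (by omega)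
  haveI : Finite L := Module.finite_of_finite F
  have hcard : Nat.card Lˣ = Fintype.card F ^ d - 1 := by
    rw [Nat.card_units, Module.natCard_eq_pow_finrank (K := F) (V := L), hdim,
      Nat.card_eq_fintype_card]
  let b : Module.Basis (Fin d) F L := Module.finBasisOfFinrankEq F L hdim
  let ι : L →ₐ[F] Matrix (Fin d) (Fin d) F := Algebra.leftMulMatrix b
  obtain ⟨z, hz⟩ := IsCyclic.exists_ofOrder_eq_natCard (α := Lˣ)
  let A : GL (Fin d) F := Units.map ι.toRingHom.toMonoidHom z
  refine ⟨QuotientGroup.mk' Z A, le_antisymm (upper _) ?_⟩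
  have hq : 1 < Fintype.card F := Fintype.one_lt_card
  refine Nat.le_of_dvd (Nat.mul_pos (by omega) (orderOf_pos _)) ?_
  rw [← hcard, ← hz]
  apply orderOf_dvd_of_pow_eq_one
  set r := orderOf (QuotientGroup.mk' Z A) with hr
  have hAr : A ^ r ∈ Z := by
    rw [← QuotientGroup.eq_one_iff]
    show QuotientGroup.mk' Z (A ^ r) = 1
    rw [map_pow]
    exact pow_orderOf_eq_one _
  obtain ⟨c, hc⟩ := Matrix.GeneralLinearGroup.mem_center_iff_val_mem_range_scalar.mp hAr
  have hzc : ((z ^ r : Lˣ) : L) = algebraMap F L c := by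
    apply Algebra.leftMulMatrix_injective b
    show ι ((z ^ r : Lˣ) : L) = ι (algebraMap F L c)
    rw [AlgHom.commutes, Units.val_pow_eq_pow_val, map_pow, Matrix.algebraMap_eq_diagonal]
    rw [Units.val_pow_eq_pow_val] at hc
    exact hc.symm
  have hc0 : c ≠ 0 := by
    intro h
    rw [h, map_zero] at hzc
    exact (z ^ r).ne_zero hzc
  apply Units.ext
  rw [mul_comm, pow_mul, Units.val_pow_eq_pow_val, hzc, ← map_pow,
    FiniteField.pow_card_sub_one_eq_one c hc0, map_one, Units.val_one]

end Cfsg.Agent.S2261
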