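import Cfsg.Statements.S2263
import Cfsg.Agent.Lib.UnitaryMaxOrder.Bound
import Cfsg.Agent.Lib.UnitaryMaxOrder.Witness

set_option autoImplicit false
open Cfsg

namespace Cfsg.Agent.S2263

/-- Let q = p^f with p prime and f ≥ 1, F a field with q² elements, d ≥ 3 with (d, q) ≠ (3, 2), and PGU_d(q) the general unitary group of the standard Hermitian form modulo its centre. Then the largest order of an element of PGU_d(q) is: q^(d−1) − 1 if d is odd and f ≥ 2; (p^(d−2) + 1)p if d is odd and f = 1; q^(d−1) + 1 if d is even and q > 2; 4(2^(d−3) + 1) if d is even and q = 2. -/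
theorem result {F : Type*} [Field F] [Fintype F] (p f d : ℕ) (hp : p.Prime) (hf : 1 ≤ f) (q : ℕ) (hq : q = p ^ f)
    (hF : Fintype.card F = q ^ 2) (hd : 3 ≤ d) (h32 : ¬ (d = 3 ∧ q = 2)) :
    (Odd d → 2 ≤ f → (∀ g : (↥(Cfsg.GU d F q) ⧸ Subgroup.center ↥(Cfsg.GU d F q)), orderOf g ≤ q ^ (d - 1) - 1) ∧ ∃ g : (↥(Cfsg.GU d F q) ⧸ Subgroup.center ↥(Cfsg.GU d F q)), orderOf g = q ^ (d - 1) - 1) ∧
    (Odd d → f = 1 → (∀ g : (↥(Cfsg.GU d F q) ⧸ Subgroup.center ↥(Cfsg.GU d F q)), orderOf g ≤ (p ^ (d - 2) + 1) * p) ∧ ∃ g : (↥(Cfsg.GU d F q) ⧸ Subgroup.center ↥(Cfsg.GU d F q)), orderOf g = (p ^ (d - 2) + 1) * p) ∧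
    (Even d → 2 < q → (∀ g : (↥(Cfsg.GU d F q) ⧸ Subgroup.center ↥(Cfsg.GU d F q)), orderOf g ≤ q ^ (d - 1) + 1) ∧ ∃ g : (↥(Cfsg.GU d F q) ⧸ Subgroup.center ↥(Cfsg.GU d F q)), orderOf g = q ^ (d - 1) + 1) ∧
    (Even d → q = 2 → (∀ g : (↥(Cfsg.GU d F q) ⧸ Subgroup.center ↥(Cfsg.GU d F q)), orderOf g ≤ 4 * (2 ^ (d - 3) + 1)) ∧ ∃ g : (↥(Cfsg.GU d F q) ⧸ Subgroup.center ↥(Cfsg.GU d F q)), orderOf g = 4 * (2 ^ (d - 3) + 1)) := by
  classical
  haveI : Fact p.Prime := ⟨hp⟩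
  obtain ⟨r, hr⟩ := CharP.exists F
  have hrp : r.Prime := CharP.char_is_prime F r
  obtain ⟨n, -, hn⟩ := FiniteField.card F r
  obtain rfl : r = p := by
    have h1 : p ∣ r ^ (n : ℕ) := by
      rw [← hn, hF, hq, ← pow_mul]
      exact dvd_pow_self p (by omega)
    exact ((Nat.prime_dvd_prime_iff_eq hp hrp).1 (hp.dvd_of_dvd_pow h1)).symm
  subst hq
  have hbd := fun g => CfsgLib.UnitaryMaxOrder.orderOf_bnd r f hF hf hd h32 g (d := d)
  refine ⟨fun ho h2 => ⟨fun g => (hbd g).1 ho h2, ?_⟩, fun ho h1 => ⟨fun g => (hbd g).2.1 ho h1, ?_⟩,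
    fun he h2 => ⟨fun g => (hbd g).2.2.1 he h2, ?_⟩,
    fun he h2 => ⟨fun g => (hbd g).2.2.2 he h2, ?_⟩⟩
  · obtain ⟨m, hm⟩ := ho
    obtain rfl : d = m + m + 1 := by omega
    obtain ⟨g, hg⟩ := CfsgLib.UnitaryMaxOrder.exists_pgu_double r f hF (m := m) (by omega)
    refine ⟨g, le_antisymm ((hbd g).1 ⟨m, by omega⟩ h2) (Nat.le_of_dvd (orderOf_pos g) ?_)⟩
    rw [Nat.add_sub_cancel]
    exact hg
  · obtain ⟨k, rfl⟩ : ∃ k, d = k + 2 := ⟨d - 2, by omega⟩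
    have hk : Odd k := by rw [Nat.odd_add] at ho; exact ho.2 even_two
    obtain ⟨g, hg⟩ := CfsgLib.UnitaryMaxOrder.exists_pgu_field_trunc r f hF hk (m := 2) (by omega)
    refine ⟨g, le_antisymm ((hbd g).2.1 ho h1) (Nat.le_of_dvd (orderOf_pos g) ?_)⟩
    refine dvd_trans (dvd_of_eq ?_) hg
    rw [CfsgLib.UnitaryMaxOrder.clog_small le_rfl hp.two_le, pow_one, h1, pow_one, Nat.add_sub_cancel]
  · obtain ⟨k, rfl⟩ : ∃ k, d = k + 1 := ⟨d - 1, by omega⟩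
    have hk : Odd k := Nat.not_even_iff_odd.1 (Nat.even_add_one.1 he)
    obtain ⟨g, hg⟩ := CfsgLib.UnitaryMaxOrder.exists_pgu_field_trunc r f hF hk (m := 1) le_rfl
    refine ⟨g, le_antisymm ((hbd g).2.2.1 he h2) (Nat.le_of_dvd (orderOf_pos g) ?_)⟩
    rw [Nat.clog_of_right_le_one le_rfl, pow_zero, mul_one] at hg
    rw [Nat.add_sub_cancel]
    exact hg
  · obtain ⟨k, rfl⟩ : ∃ k, d = k + 3 := ⟨d - 3, by omega⟩
    have hk : Odd k := by rw [Nat.even_add'] at he; exact he.2 (by decide)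
    obtain ⟨g, hg⟩ := CfsgLib.UnitaryMaxOrder.exists_pgu_field_trunc r f hF hk (m := 3) (by omega)
    refine ⟨g, le_antisymm ((hbd g).2.2.2 he h2) (Nat.le_of_dvd (orderOf_pos g) ?_)⟩
    have hr2 : r = 2 := by
      rcases (Nat.dvd_prime Nat.prime_two).1 (h2 ▸ dvd_pow_self r (by omega : f ≠ 0)) with e | e
      · exact absurd e hp.one_lt.ne'
      · exact e
    subst hr2
    have hc : Nat.clog 2 3 = 2 := le_antisymm (Nat.clog_le_of_le_pow (by norm_num)) (by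
      by_contra hlt
      have h3 := Nat.le_pow_clog (b := 2) (by norm_num) 3
      have h4 := Nat.pow_le_pow_right (show 1 ≤ 2 by norm_num) (show Nat.clog 2 3 ≤ 1 by omega)
      omega)
    refine dvd_trans (dvd_of_eq ?_) hg
    rw [hc, h2, Nat.add_sub_cancel, mul_comm]
    norm_num

end Cfsg.Agent.S2263
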