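import Cfsg.Statements.S2264
import Cfsg.Agent.Lib.Linear.FormOrder
import Cfsg.Agent.Lib.Spectrum.SympElements

set_option autoImplicit false
open Cfsg

namespace Cfsg.Agent.S2264

/-- Let F be a finite field with q elements and m ≥ 2. Then every element g of PSp_2m(F) satisfies (q − 1)·|g| ≤ q^(m+1), i.e. has order at most q^(m+1)/(q − 1). -/
theorem result {F : Type*} [Field F] [Fintype F] (m : ℕ) (hm : 2 ≤ m) (g : Cfsg.PSp m F) :
    (Fintype.card F - 1) * orderOf g ≤ Fintype.card F ^ (m + 1) := by
  obtain ⟨A, rfl⟩ := QuotientGroup.mk_surjective g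
  obtain ⟨A, hA⟩ := A
  obtain ⟨n, hn, hb, hpow⟩ := CfsgLib.Linear.OrderBound.exists_pow_eq_one_or_neg
    (M := A.transpose) (B := Matrix.J (Fin m) F) (Matrix.isUnit_det_J (Fin m) F)
    (by rw [Matrix.transpose_transpose]; exact SymplecticGroup.mem_iff.1 hA) (m := m) (by omega)
    (by simp [two_mul])
    (fun _ => by simp [two_mul])
    (fun _ => by
      simp only [Fintype.card_sum, Fintype.card_fin]
      obtain ⟨k, rfl⟩ : ∃ k, m = k + 2 := ⟨m - 2, by omega⟩
      have h : ∀ j : ℕ, 2 * j + 3 ≤ 3 ^ (j + 1) := fun j => by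
        induction j with
        | zero => simp
        | succ j ih => rw [pow_succ]; omega
      have := h k
      rw [show k + 2 - 1 = k + 1 from rfl]
      omega)
  refine le_trans (Nat.mul_le_mul_left _ (Nat.le_of_dvd hn (orderOf_dvd_of_pow_eq_one ?_))) hb
  rw [CfsgLib.Spectrum.pspMk_pow_eq_one_iff (by omega : 1 ≤ m)]
  show A ^ n = 1 ∨ A ^ n = -1
  rcases hpow with h | h
  · left; simpa [← Matrix.transpose_pow] using congrArg Matrix.transpose h
  · right; simpa [← Matrix.transpose_pow] using congrArg Matrix.transpose h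

end Cfsg.Agent.S2264
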