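import Cfsg.Statements.S2265
import Cfsg.Agent.Lib.Linear.FormOrder

set_option autoImplicit false
open Cfsg

namespace Cfsg.Agent.S2265

/-- Let F be a finite field with q elements. Every element g of PΩ_(2m+1)(F) (m ≥ 3, q odd), of PΩ⁺_2m(F) (m ≥ 4), or of PΩ⁻_2m(F) (m ≥ 4, the form having an anisotropic binary part) satisfies (q − 1)·|g| ≤ q^(m+1), i.e. has order at most q^(m+1)/(q − 1). -/
theorem result {F : Type*} [Field F] [Fintype F] (m : ℕ) :
    (3 ≤ m → Odd (Fintype.card F) → ∀ g : Cfsg.POmega F (Cfsg.quadFormOdd m F),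
      (Fintype.card F - 1) * orderOf g ≤ Fintype.card F ^ (m + 1)) ∧
    (4 ≤ m → ∀ g : Cfsg.POmega F (Cfsg.quadFormPlus m F),
      (Fintype.card F - 1) * orderOf g ≤ Fintype.card F ^ (m + 1)) ∧
    (4 ≤ m → ∀ a b : F, (∀ z₁ z₂ : F, z₁ ^ 2 + a * z₁ * z₂ + b * z₂ ^ 2 = 0 → z₁ = 0 ∧ z₂ = 0) →
      ∀ g : Cfsg.POmega F (Cfsg.quadFormMinus (m - 1) F a b),
      (Fintype.card F - 1) * orderOf g ≤ Fintype.card F ^ (m + 1)) := by
  have h3 : ∀ k : ℕ, 3 ≤ k → 2 * k + 1 ≤ 3 ^ (k - 1) + 1 := by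
    intro k hk
    obtain ⟨j, rfl⟩ : ∃ j, k = j + 3 := ⟨k - 3, by omega⟩
    have h : ∀ j : ℕ, 2 * (j + 3) + 1 ≤ 3 ^ (j + 2) + 1 := fun j => by
      induction j with
      | zero => simp
      | succ j ih => rw [show j + 1 + 2 = j + 2 + 1 from rfl, pow_succ]; omega
    exact h j
  refine ⟨fun hm hodd g => ?_, fun hm g => ?_, fun hm a b hab g => ?_⟩
  · have hp2 : ringChar F ≠ 2 := fun h => by
      have h' := FiniteField.even_card_iff_char_two.1 h
      rw [Nat.odd_iff] at hodd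
      omega
    refine CfsgLib.Linear.OrderBound.orderOf_POmega_le (CfsgLib.OrthCrit.oddForm m F)
      (CfsgLib.OrthCrit.ndPolar_oddForm (Ring.two_ne_zero hp2) m) (by omega) ?_ ?_ ?_ g
    · simp; omega
    · exact fun h => absurd h hp2
    · intro _
      have := h3 m hm
      simp
      omega
  · refine CfsgLib.Linear.OrderBound.orderOf_POmega_le (CfsgLib.OrthCrit.plusForm m F)
      (CfsgLib.OrthCrit.ndPolar_plusForm m) (by omega) ?_ ?_ ?_ g
    · simp; omega
    · intro _; simp; omega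
    · intro _
      have := h3 m (by omega)
      simp
      omega
  · refine CfsgLib.Linear.OrderBound.orderOf_POmega_le (CfsgLib.OrthCrit.minusForm (m - 1) F a b)
      (CfsgLib.OrthCrit.ndPolar_minusForm (m - 1) a b hab
        (CfsgLib.OrthCrit.a_ne_zero_of_anisotropic hab)) (by omega) ?_ ?_ ?_ g
    · simp; omega
    · intro _; simp; omega
    · intro _
      have := h3 m (by omega)
      simp
      omega

end Cfsg.Agent.S2265
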