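import Cfsg.Statements.S2268

set_option autoImplicit false
open Cfsg

namespace Cfsg.Agent.S2268

open scoped Pointwise

theorem result {G : Type*} [Group G] [Finite G] {p : ℕ} [Fact p.Prime]
    (P : Sylow p G) (hP : IsMulCommutative (P : Subgroup G)) (Q : Subgroup G) (hQ : Q ≤ (P : Subgroup G)) :
    Subgroup.normalizer (Q : Set G) =
      (Subgroup.normalizer (Q : Set G) ⊓ Subgroup.normalizer ((P : Subgroup G) : Set G)) ⊔ Subgroup.centralizer (Q : Set G) ∧
    ((Subgroup.centralizer (Q : Set G)).subgroupOf (Subgroup.normalizer (Q : Set G))).index ∣ ((Subgroup.centralizer ((P : Subgroup G) : Set G)).subgroupOf (Subgroup.normalizer ((P : Subgroup G) : Set G))).index := by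
  set NQ := Subgroup.normalizer (Q : Set G) with hNQ
  set CQ := Subgroup.centralizer (Q : Set G) with hCQ
  set NP := Subgroup.normalizer ((P : Subgroup G) : Set G) with hNP
  set CP := Subgroup.centralizer ((P : Subgroup G) : Set G) with hCP
  have hPCQ : (P : Subgroup G) ≤ CQ := by
    intro y hy
    rw [hCQ, Subgroup.mem_centralizer_iff]
    intro z hz
    exact congrArg Subtype.val (hP.is_comm.comm (⟨z, hQ hz⟩ : (P : Subgroup G)) ⟨y, hy⟩)
  have hCN : CQ ≤ NQ := Subgroup.centralizer_le_normalizer _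
  haveI hnorm : (CQ.subgroupOf NQ).Normal := Subgroup.normal_subgroupOf_centralizer_normalizer _
  -- Frattini argument inside `NQ`
  have hfrat : ∀ g ∈ NQ, ∃ c ∈ CQ, c * g ∈ NP := by
    intro g hg
    let S : Sylow p CQ := P.subtype hPCQ
    have hPg : (↑((g • P : Sylow p G)) : Subgroup G) ≤ CQ := by
      intro y hy
      rw [Sylow.coe_subgroup_smul] at hy
      obtain ⟨z, hz, rfl⟩ := Subgroup.mem_map.mp hy
      have := hnorm.conj_mem ⟨z, hCN (hPCQ hz)⟩ (by simpa [Subgroup.mem_subgroupOf] using hPCQ hz) ⟨g, hg⟩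
      simpa [Subgroup.mem_subgroupOf] using this
    obtain ⟨c, hc⟩ := MulAction.exists_smul_eq CQ ((g • P).subtype hPg) (P.subtype hPCQ)
    rw [Sylow.smul_subtype] at hc
    refine ⟨c, c.2, ?_⟩
    refine Sylow.smul_eq_iff_mem_normalizer.mp ?_
    rw [mul_smul]
    exact Sylow.subtype_injective hc
  have hsplit : NQ = (NQ ⊓ NP) ⊔ CQ := by
    apply le_antisymm
    · intro g hg
      obtain ⟨c, hc, hcg⟩ := hfrat g hg
      have : g = c⁻¹ * (c * g) := by group
      rw [this]
      exact mul_mem (Subgroup.mem_sup_right (inv_mem hc))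
        (Subgroup.mem_sup_left ⟨mul_mem (hCN hc) hg, hcg⟩)
    · exact sup_le inf_le_left hCN
  refine ⟨hsplit, ?_⟩
  have hCP_CQ : CP ≤ CQ := Subgroup.centralizer_le hQ
  have hCPD : CP ≤ CQ ⊓ NP := le_inf hCP_CQ (Subgroup.centralizer_le_normalizer _)
  change CQ.relIndex NQ ∣ CP.relIndex NP
  have h1 : CQ.relIndex NQ = CQ.relIndex (NQ ⊓ NP) := by
    conv_lhs => rw [hsplit]
    have hle : NQ ⊓ NP ≤ Subgroup.normalizer (CQ : Set G) := fun g hg => by
      rw [Subgroup.mem_normalizer_iff]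
      intro h
      constructor
      · intro hh
        have := hnorm.conj_mem ⟨h, hCN hh⟩ (by simpa [Subgroup.mem_subgroupOf] using hh) ⟨g, hg.1⟩
        simpa [Subgroup.mem_subgroupOf] using this
      · intro hh
        have := hnorm.conj_mem ⟨g * h * g⁻¹, hCN hh⟩ (by simpa [Subgroup.mem_subgroupOf] using hh)
          ⟨g⁻¹, inv_mem hg.1⟩
        simpa [Subgroup.mem_subgroupOf, mul_assoc] using this
    haveI := Subgroup.normal_subgroupOf_of_le_normalizer hle
    haveI := Subgroup.normal_subgroupOf_sup_of_le_normalizer hle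
    have e := (QuotientGroup.quotientInfEquivProdNormalizerQuotient (NQ ⊓ NP) CQ hle).toEquiv
    exact (Nat.card_congr e).symm
  rw [h1]
  have hA : CP ≤ NQ ⊓ NP :=
    le_inf (hCP_CQ.trans hCN) (Subgroup.centralizer_le_normalizer _)
  have h3 : CP.relIndex (NQ ⊓ NP) * (NQ ⊓ NP).relIndex NP = CP.relIndex NP :=
    Subgroup.relIndex_mul_relIndex _ _ _ hA inf_le_right
  have h4 : CQ.relIndex (NQ ⊓ NP) ∣ CP.relIndex (NQ ⊓ NP) :=
    Subgroup.relIndex_dvd_of_le_left _ hCP_CQ
  exact h4.trans (h3 ▸ Dvd.intro _ rfl)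

end Cfsg.Agent.S2268
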