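import Cfsg.Statements.S2269
import Mathlib

set_option autoImplicit false
open Cfsg

namespace Cfsg.Agent.S2269

/-- An abelian Sylow subgroup of odd order containing a real element has automizer of even order. -/
private theorem even_index_of_real {G : Type*} [Group G] [Finite G] {p : ℕ} [Fact p.Prime] (hp : p ≠ 2)
    (P : Sylow p G) (hP : IsMulCommutative (P : Subgroup G)) (x : G) (hxP : x ∈ (P : Subgroup G))
    (hx1 : x ≠ 1) (hconj : IsConj x x⁻¹) :
    2 ∣ ((Subgroup.centralizer ((P : Subgroup G) : Set G)).subgroupOf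
      (Subgroup.normalizer ((P : Subgroup G) : Set G))).index := by
  set N := Subgroup.normalizer ((P : Subgroup G) : Set G) with hN
  set C := Subgroup.centralizer ((P : Subgroup G) : Set G) with hC
  obtain ⟨c, hc⟩ := isConj_iff.mp hconj
  have hPC : (P : Subgroup G) ≤ C := by
    intro y hy
    rw [Subgroup.mem_centralizer_iff]
    intro z hz
    exact congrArg Subtype.val (hP.is_comm.comm (⟨z, hz⟩ : (P : Subgroup G)) ⟨y, hy⟩)
  obtain ⟨m, hm, hmx⟩ := Sylow.conj_eq_normalizer_conj_of_mem_centralizer P x c⁻¹
    (hPC hxP) (by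
      have : c⁻¹⁻¹ * x * c⁻¹ = x⁻¹ := by rw [inv_inv]; exact hc
      rw [this]; exact hPC (inv_mem hxP))
  rw [inv_inv, hc] at hmx
  by_contra h2
  have hnormal : (C.subgroupOf N).Normal := Subgroup.normal_subgroupOf_centralizer_normalizer _
  have hodd : Odd (C.subgroupOf N).index := Nat.not_even_iff_odd.mp (fun he => h2 he.two_dvd)
  have hmem : m ^ (C.subgroupOf N).index ∈ C := by
    have := Subgroup.pow_index_mem (C.subgroupOf N) (⟨m, hm⟩ : N)
    simpa [Subgroup.mem_subgroupOf] using this
  obtain ⟨t, ht⟩ := hodd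
  rw [ht] at hmem
  have h' : m * x * m⁻¹ = x⁻¹ := by
    have := congrArg (fun z => m * z⁻¹ * m⁻¹) hmx
    simpa [mul_assoc] using this
  have h2' : m * x⁻¹ * m⁻¹ = x := by
    have := congrArg (·⁻¹) h'
    simpa [mul_assoc] using this
  have hflip : ∀ s : ℕ, m ^ (2 * s) * x * (m ^ (2 * s))⁻¹ = x := by
    intro s
    induction s with
    | zero => simp
    | succ s ih =>
      have : 2 * (s + 1) = 2 * s + 1 + 1 := by ring
      rw [this, pow_succ', pow_succ']
      calc m * (m * m ^ (2 * s)) * x * (m * (m * m ^ (2 * s)))⁻¹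
          = m * (m * (m ^ (2 * s) * x * (m ^ (2 * s))⁻¹) * m⁻¹) * m⁻¹ := by group
        _ = x := by rw [ih, h', h2']
  have hcomm := (Subgroup.mem_centralizer_iff.mp hmem) x hxP
  have h1 : m ^ (2 * t + 1) * x * (m ^ (2 * t + 1))⁻¹ = x := by
    rw [← hcomm]; group
  have h3 : m * x * m⁻¹ = x := by
    calc m * x * m⁻¹ = m * (m ^ (2 * t) * x * (m ^ (2 * t))⁻¹) * m⁻¹ := by rw [hflip t]
      _ = m ^ (2 * t + 1) * x * (m ^ (2 * t + 1))⁻¹ := by rw [pow_succ']; group
      _ = x := h1
  have hxx : x⁻¹ = x := h'.symm.trans h3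
  have hx2 : x ^ 2 = 1 := by
    rw [sq]
    calc x * x = x⁻¹ * x := by rw [hxx]
      _ = 1 := inv_mul_cancel x
  obtain ⟨k, hk⟩ := P.isPGroup' ⟨x, hxP⟩
  have hxk : x ^ (p ^ k) = 1 := congrArg Subtype.val hk
  apply hx1
  have hco : Nat.Coprime (p ^ k) 2 :=
    Nat.Coprime.pow_left k ((Nat.coprime_primes Fact.out Nat.prime_two).mpr hp)
  have := pow_gcd_eq_one.mpr ⟨hxk, hx2⟩
  rwa [hco, pow_one] at this

/-- The dihedral group of order eight acting on six points by even permutations. -/
private def dihFun : DihedralGroup 4 → Equiv.Perm (Fin 6)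
  | .r i => (Equiv.swap 0 1 * Equiv.swap 1 2 * Equiv.swap 2 3 * Equiv.swap 4 5) ^ i.val
  | .sr i => (Equiv.swap 0 2 * Equiv.swap 4 5) *
      (Equiv.swap 0 1 * Equiv.swap 1 2 * Equiv.swap 2 3 * Equiv.swap 4 5) ^ i.val

private theorem dihFun_mul : ∀ a b : DihedralGroup 4, dihFun (a * b) = dihFun a * dihFun b := by
  decide

private theorem dihFun_sign : ∀ a : DihedralGroup 4, Equiv.Perm.sign (dihFun a) = 1 := by
  decide

private theorem sylow_two_not_comm (n : ℕ) (hn : 6 ≤ n) (P : Sylow 2 (alternatingGroup (Fin n))) :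
    ¬ IsMulCommutative (P : Subgroup (alternatingGroup (Fin n))) := by
  intro hP
  let f : DihedralGroup 4 →* Equiv.Perm (Fin n) :=
    (Equiv.Perm.viaEmbeddingHom (Fin.castLEEmb hn)).comp (MonoidHom.mk' dihFun dihFun_mul)
  have hf : ∀ a, f a ∈ alternatingGroup (Fin n) := by
    intro a
    rw [Equiv.Perm.mem_alternatingGroup]
    show Equiv.Perm.sign (Equiv.Perm.viaEmbedding (dihFun a) (Fin.castLEEmb hn)) = 1
    rw [Equiv.Perm.viaEmbedding, Equiv.Perm.sign_extendDomain, dihFun_sign a]
  let g : DihedralGroup 4 →* alternatingGroup (Fin n) := f.codRestrict _ hf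
  have hD : IsPGroup 2 (⊤ : Subgroup (DihedralGroup 4)) := by
    apply IsPGroup.of_card (n := 3)
    rw [Subgroup.card_top, DihedralGroup.nat_card]; norm_num
  obtain ⟨Q, hQ⟩ := (hD.map g).exists_le_sylow
  obtain ⟨h, rfl⟩ := MulAction.exists_smul_eq (alternatingGroup (Fin n)) P Q
  have hcomm : g (.r 1) * g (.sr 0) = g (.sr 0) * g (.r 1) := by
    have key : ∀ y, g y ∈ (P : Subgroup (alternatingGroup (Fin n))).map (MulAut.conj h).toMonoidHom := by
      intro y
      have := hQ ⟨y, trivial, rfl⟩
      rwa [Sylow.coe_subgroup_smul] at this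
    obtain ⟨a, ha, hae⟩ := key (.r 1)
    obtain ⟨b, hb, hbe⟩ := key (.sr 0)
    rw [← hae, ← hbe, ← map_mul, ← map_mul]
    exact congrArg _ (congrArg Subtype.val (hP.is_comm.comm
      (⟨a, ha⟩ : (P : Subgroup (alternatingGroup (Fin n)))) ⟨b, hb⟩))
  have h2 : dihFun (.r 1) * dihFun (.sr 0) = dihFun (.sr 0) * dihFun (.r 1) := by
    apply Equiv.Perm.viaEmbeddingHom_injective (Fin.castLEEmb hn)
    rw [map_mul, map_mul]
    exact congrArg Subtype.val hcomm
  revert h2
  decide

theorem result (n : ℕ) (hn : 5 ≤ n) {p : ℕ} [Fact p.Prime]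
    (P : Sylow p (alternatingGroup (Fin n))) (hP : IsMulCommutative (P : Subgroup (alternatingGroup (Fin n)))) :
    (¬ (n = 5 ∧ p = 2) → 2 ∣ ((Subgroup.centralizer ((P : Subgroup (alternatingGroup (Fin n))) : Set (alternatingGroup (Fin n)))).subgroupOf (Subgroup.normalizer ((P : Subgroup (alternatingGroup (Fin n))) : Set (alternatingGroup (Fin n))))).index ∨ IsCyclic (P : Subgroup (alternatingGroup (Fin n)))) ∧
    ((n = 5 ∧ p = 2) → ((Subgroup.centralizer ((P : Subgroup (alternatingGroup (Fin n))) : Set (alternatingGroup (Fin n)))).subgroupOf (Subgroup.normalizer ((P : Subgroup (alternatingGroup (Fin n))) : Set (alternatingGroup (Fin n))))).index = 3 ∧ IsKleinFour (P : Subgroup (alternatingGroup (Fin n)))) := by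
  have hp : p.Prime := Fact.out
  haveI : Nontrivial (Fin n) := Fin.nontrivial_iff_two_le.mpr (by omega)
  refine ⟨fun hne => ?_, ?_⟩
  · by_cases h2 : p = 2
    · subst h2
      have hn5 : n ≠ 5 := fun h => hne ⟨h, rfl⟩
      exact absurd hP (sylow_two_not_comm n (by omega) P)
    by_cases hsmall : n < p + 2
    · right
      have hdvd : Nat.card (P : Subgroup (alternatingGroup (Fin n))) ∣ p := by
        have hk := Sylow.card_eq_multiplicity P
        rw [hk]
        rcases Nat.lt_or_ge (Nat.factorization (Nat.card (alternatingGroup (Fin n))) p) 2 with h | h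
        · exact (pow_dvd_pow p (Nat.lt_succ_iff.mp h)).trans (by rw [pow_one])
        · exfalso
          have h1 : p ^ 2 ∣ Nat.card (alternatingGroup (Fin n)) :=
            (hp.pow_dvd_iff_le_factorization Nat.card_pos.ne').mpr h
          have h2' : p ^ 2 ∣ n.factorial := by
            have := dvd_mul_of_dvd_right h1 2
            rwa [two_mul_nat_card_alternatingGroup, Nat.card_perm, Nat.card_fin] at this
          have h3 : (n.factorial).factorization p < 2 := by
            have hp3 : 3 ≤ p := by have := hp.two_le; omega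
            rw [Nat.factorization_factorial hp (b := 2) (Nat.log_lt_of_lt_pow (by omega) (by nlinarith))]
            simp only [show Finset.Ico 1 2 = {1} from rfl, Finset.sum_singleton, pow_one]
            exact Nat.div_lt_of_lt_mul (by omega)
          have h4 := (hp.pow_dvd_iff_le_factorization (Nat.factorial_ne_zero n)).mp h2'
          omega
      rcases (Nat.dvd_prime hp).mp hdvd with h | h
      · haveI := (Nat.card_eq_one_iff_unique.mp h).1
        exact isCyclic_of_subsingleton
      · exact isCyclic_of_prime_card h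
    · left
      haveI : Nontrivial (Fin p) := Fin.nontrivial_iff_two_le.mpr hp.two_le
      -- a p-cycle
      let ι : Fin p ↪ Fin n := Fin.castLEEmb (by omega)
      let c : Equiv.Perm (Fin n) := Equiv.Perm.viaEmbeddingHom ι (finRotate p)
      have hct : c.cycleType = {p} := by
        show (Equiv.Perm.viaEmbedding (finRotate p) ι).cycleType = _
        rw [Equiv.Perm.viaEmbedding]
        convert (Equiv.Perm.cycleType_extendDomain (g := finRotate p) (Equiv.ofInjective ι.1 ι.2)).trans
          (cycleType_finRotate_of_le hp.two_le)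
      have hceven : c ∈ alternatingGroup (Fin n) := by
        rw [Equiv.Perm.mem_alternatingGroup, Equiv.Perm.sign_of_cycleType, hct]
        have : Odd p := hp.odd_of_ne_two h2
        simp [Even.neg_one_pow (this.add_odd odd_one)]
      let cc : alternatingGroup (Fin n) := ⟨c, hceven⟩
      have hord : orderOf cc = p := by
        rw [← Subgroup.orderOf_coe]
        show orderOf c = p
        rw [← Equiv.Perm.lcm_cycleType, hct]; simp
      have hZ : IsPGroup p (Subgroup.zpowers cc) :=
        IsPGroup.of_card (n := 1) (by rw [Nat.card_zpowers, hord, pow_one])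
      obtain ⟨Q, hQ⟩ := hZ.exists_le_sylow
      obtain ⟨h, hh⟩ := MulAction.exists_smul_eq (alternatingGroup (Fin n)) Q P
      have hmem : h * cc * h⁻¹ ∈ (P : Subgroup (alternatingGroup (Fin n))) := by
        rw [← hh, Sylow.coe_subgroup_smul]
        exact ⟨cc, hQ (Subgroup.mem_zpowers cc), rfl⟩
      refine even_index_of_real h2 P hP _ hmem (fun h1 => ?_) ?_
      · have : cc = 1 := by
          calc cc = h⁻¹ * (h * cc * h⁻¹) * h := by group
            _ = 1 := by rw [h1]; group
        rw [this, orderOf_one] at hord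
        exact hp.one_lt.ne hord
      · have hcc : IsConj cc cc⁻¹ := by
          have hperm : IsConj c c⁻¹ := by
            rw [Equiv.Perm.isConj_iff_cycleType_eq, Equiv.Perm.cycleType_inv]
          exact alternatingGroup.isConj_of hperm (by
            rw [← Equiv.Perm.sum_cycleType, hct]; simp; omega)
        obtain ⟨d, hd⟩ := isConj_iff.mp hcc
        refine isConj_iff.mpr ⟨h * d * h⁻¹, ?_⟩
        calc h * d * h⁻¹ * (h * cc * h⁻¹) * (h * d * h⁻¹)⁻¹ = h * (d * cc * d⁻¹) * h⁻¹ := by group
          _ = (h * cc * h⁻¹)⁻¹ := by rw [hd]; group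
  · rintro ⟨rfl, rfl⟩
    have hA : Nat.card (alternatingGroup (Fin 5)) = 60 := by
      rw [nat_card_alternatingGroup, Nat.card_fin]
      rfl
    have h60 : Nat.factorization 60 2 = 2 := by
      refine le_antisymm ?_ ((Nat.prime_two.pow_dvd_iff_le_factorization (by norm_num)).mp (by norm_num))
      by_contra hh
      have h8 : 2 ^ 3 ∣ 60 :=
        (Nat.prime_two.pow_dvd_iff_le_factorization (by norm_num)).mpr (by omega)
      norm_num at h8
    have hcard : Nat.card (P : Subgroup (alternatingGroup (Fin 5))) = 4 := by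
      rw [Sylow.card_eq_multiplicity, hA, h60]
      norm_num
    have hexp : ∀ x : alternatingGroup (Fin 5), x ^ 4 = 1 → x ^ 2 = 1 := by decide +kernel
    haveI : Nontrivial (P : Subgroup (alternatingGroup (Fin 5))) := by
      rw [← Finite.one_lt_card_iff_nontrivial, hcard]; norm_num
    have hklein : IsKleinFour (P : Subgroup (alternatingGroup (Fin 5))) := by
      refine ⟨hcard, ?_⟩
      rw [Monoid.exponent_eq_prime_iff Nat.prime_two]
      intro x hx
      apply orderOf_eq_prime ?_ hx
      have h4 : x ^ 4 = 1 := by rw [← hcard]; exact pow_card_eq_one'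
      exact Subtype.ext (hexp x.1 (congrArg Subtype.val h4))
    refine ⟨?_, hklein⟩
    set N := Subgroup.normalizer ((P : Subgroup (alternatingGroup (Fin 5))) : Set (alternatingGroup (Fin 5))) with hN
    set C := Subgroup.centralizer ((P : Subgroup (alternatingGroup (Fin 5))) : Set (alternatingGroup (Fin 5))) with hC
    have hPC : (P : Subgroup (alternatingGroup (Fin 5))) ≤ C := by
      intro y hy
      rw [hC, Subgroup.mem_centralizer_iff]
      intro z hz
      exact congrArg Subtype.val (hP.is_comm.comm (⟨z, hz⟩ : (P : Subgroup (alternatingGroup (Fin 5)))) ⟨y, hy⟩)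
    have h15 : C.relIndex N ∣ 15 := by
      have e : C.relIndex N ∣ C.index := by
        rw [← Subgroup.relIndex_mul_index (Subgroup.centralizer_le_normalizer _ : C ≤ N)]
        exact dvd_mul_right _ _
      have e2 : C.index ∣ (P : Subgroup (alternatingGroup (Fin 5))).index := Subgroup.index_dvd_of_le hPC
      have e3 : (P : Subgroup (alternatingGroup (Fin 5))).index = 15 := by
        have := (P : Subgroup (alternatingGroup (Fin 5))).card_mul_index
        rw [hcard, hA] at this
        omega
      exact e3 ▸ e.trans e2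
    have h24 : C.relIndex N ∣ 24 := by
      let ψ := (MulAut.toPerm (P : Subgroup (alternatingGroup (Fin 5)))).comp (Subgroup.normalizerMonoidHom (P : Subgroup (alternatingGroup (Fin 5))))
      have hker : ψ.ker = C.subgroupOf N := by
        rw [← Subgroup.normalizerMonoidHom_ker]
        ext x
        simp only [MonoidHom.mem_ker, ψ, MonoidHom.comp_apply]
        constructor
        · intro hx
          exact MulEquiv.toEquiv_injective hx
        · intro hx
          rw [hx, map_one]
      have h1 : (C.subgroupOf N).index = Nat.card ψ.range := by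
        rw [← hker, Subgroup.index_ker]
      show (C.subgroupOf N).index ∣ 24
      rw [h1]
      have := Subgroup.card_subgroup_dvd_card ψ.range
      rwa [Nat.card_perm, hcard, show Nat.factorial 4 = 24 from rfl] at this
    have h3 : C.relIndex N ∣ 3 := by simpa using Nat.dvd_gcd h15 h24
    rcases (Nat.dvd_prime Nat.prime_three).mp h3 with h | h
    · exfalso
      have hle : Subgroup.normalizer ((P : Subgroup (alternatingGroup (Fin 5))) : Set (alternatingGroup (Fin 5))) ≤
          Subgroup.centralizer ((P : Subgroup (alternatingGroup (Fin 5))) : Set (alternatingGroup (Fin 5))) := Subgroup.relIndex_eq_one.mp h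
      have hc := MonoidHom.ker_transferSylow_isComplement' P hle
      have hcm := hc.card_mul_card
      rw [hA, hcard] at hcm
      rcases (alternatingGroup.isSimpleGroup (α := Fin 5) (by simp)).eq_bot_or_eq_top_of_normal
        (MonoidHom.transferSylow P hle).ker inferInstance with hb | hb
      · rw [hb, Subgroup.card_bot] at hcm; omega
      · rw [hb, Subgroup.card_top, hA] at hcm; omega
    · exact h

end Cfsg.Agent.S2269
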