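import Cfsg.Statements.S2270

set_option autoImplicit false
open Cfsg

namespace Cfsg.Agent.S2270

theorem result (n : ℕ) (hn : 3 ≤ n) {p : ℕ} [Fact p.Prime] (hp : p ≠ 2) (hpn : p ≤ n)
    (P : Sylow p (Equiv.Perm (Fin n))) (hP : IsMulCommutative (P : Subgroup (Equiv.Perm (Fin n)))) :
    2 ∣ ((Subgroup.centralizer ((P : Subgroup (Equiv.Perm (Fin n))) : Set (Equiv.Perm (Fin n)))).subgroupOf (Subgroup.normalizer ((P : Subgroup (Equiv.Perm (Fin n))) : Set (Equiv.Perm (Fin n))))).index := by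
  set G := Equiv.Perm (Fin n)
  set N := Subgroup.normalizer ((P : Subgroup G) : Set G) with hN
  set C := Subgroup.centralizer ((P : Subgroup G) : Set G) with hC
  obtain ⟨x, hxP, hx1⟩ : ∃ x ∈ (P : Subgroup G), x ≠ 1 := by
    refine Subgroup.nontrivial_iff_exists_ne_one _ |>.mp ?_
    rw [← Finite.one_lt_card_iff_nontrivial, P.card_eq_multiplicity]
    have hdvd : p ∣ Nat.card G := by
      rw [Nat.card_perm, Nat.card_fin]; exact Nat.dvd_factorial (Fact.out : p.Prime).pos hpn
    have hpos : 0 < (Nat.card G).factorization p :=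
      (Fact.out : p.Prime).factorization_pos_of_dvd Nat.card_pos.ne' hdvd
    exact Nat.one_lt_pow hpos.ne' (Fact.out : p.Prime).one_lt
  have hconj : IsConj x x⁻¹ := by
    rw [Equiv.Perm.isConj_iff_cycleType_eq, Equiv.Perm.cycleType_inv]
  obtain ⟨c, hc⟩ := isConj_iff.mp hconj
  have hPC : (P : Subgroup G) ≤ C := by
    intro y hy
    rw [Subgroup.mem_centralizer_iff]
    intro z hz
    exact congrArg Subtype.val (hP.is_comm.comm (⟨z, hz⟩ : (P : Subgroup G)) ⟨y, hy⟩)
  obtain ⟨m, hm, hmx⟩ := Sylow.conj_eq_normalizer_conj_of_mem_centralizer P x c⁻¹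
    (hPC hxP) (by
      have : c⁻¹⁻¹ * x * c⁻¹ = x⁻¹ := by rw [inv_inv]; exact hc
      rw [this]; exact hPC (inv_mem hxP))
  rw [inv_inv, hc] at hmx
  by_contra h2
  have hnormal : (C.subgroupOf N).Normal :=
    Subgroup.normal_subgroupOf_centralizer_normalizer _
  have hodd : Odd (C.subgroupOf N).index := Nat.not_even_iff_odd.mp (fun he => h2 he.two_dvd)
  have hmem : m ^ (C.subgroupOf N).index ∈ C := by
    have := Subgroup.pow_index_mem (C.subgroupOf N) (⟨m, hm⟩ : N)
    simpa [Subgroup.mem_subgroupOf] using this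
  obtain ⟨t, ht⟩ := hodd
  rw [ht] at hmem
  have hflip : ∀ s : ℕ, m ^ (2 * s) * x * (m ^ (2 * s))⁻¹ = x := by
    have hstep : m⁻¹ * x * m = x⁻¹ := hmx.symm
    have h' : m * x * m⁻¹ = x⁻¹ := by
      have := congrArg (fun z => m * z * m⁻¹) hstep
      simp only [mul_assoc, mul_inv_cancel, mul_one, mul_inv_cancel_left] at this
      have h3 := congrArg (·⁻¹) this
      simp only [mul_inv_rev, inv_inv] at h3
      simpa [mul_assoc] using h3.symm
    have h2' : m * x⁻¹ * m⁻¹ = x := by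
      have := congrArg (·⁻¹) h'
      simpa [mul_assoc] using this
    intro s
    induction s with
    | zero => simp
    | succ s ih =>
      have : 2 * (s + 1) = 2 * s + 1 + 1 := by ring
      rw [this, pow_succ', pow_succ']
      calc m * (m * m ^ (2 * s)) * x * (m * (m * m ^ (2 * s)))⁻¹
          = m * (m * (m ^ (2 * s) * x * (m ^ (2 * s))⁻¹) * m⁻¹) * m⁻¹ := by group
        _ = x := by rw [ih, h', h2']
  have hcomm := (Subgroup.mem_centralizer_iff.mp hmem) x hxP
  have hm1 : m⁻¹ * x * m = x := by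
    have h1 : m ^ (2 * t + 1) * x * (m ^ (2 * t + 1))⁻¹ = x := by
      rw [← hcomm]; group
    have h3 : m * x * m⁻¹ = x := by
      calc m * x * m⁻¹ = m * (m ^ (2 * t) * x * (m ^ (2 * t))⁻¹) * m⁻¹ := by rw [hflip t]
        _ = m ^ (2 * t + 1) * x * (m ^ (2 * t + 1))⁻¹ := by rw [pow_succ']; group
        _ = x := h1
    calc m⁻¹ * x * m = m⁻¹ * (m * x * m⁻¹) * m := by rw [h3]
      _ = x := by group
  have hxx : x⁻¹ = x := hmx.trans hm1
  have hx2 : x ^ 2 = 1 := by rw [sq]; calc x * x = x⁻¹ * x := by rw [hxx]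
                                                 _ = 1 := inv_mul_cancel x
  obtain ⟨k, hk⟩ := P.isPGroup' ⟨x, hxP⟩
  have hxk : x ^ (p ^ k) = 1 := congrArg Subtype.val hk
  apply hx1
  have hco : Nat.Coprime (p ^ k) 2 := Nat.Coprime.pow_left k
    ((Nat.coprime_primes Fact.out Nat.prime_two).mpr hp)
  have := pow_gcd_eq_one.mpr ⟨hxk, hx2⟩
  rwa [hco, pow_one] at this

end Cfsg.Agent.S2270
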