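import Cfsg.Statements.S2279
import Cfsg.Agent.Lib.Linear.RegUnipPairTop

set_option autoImplicit false
open Cfsg

namespace Cfsg.Agent.S2279

/-- Let F be a finite field with q elements and n ≥ 4. Then SL_n(F) is generated by two regular unipotent elements (elements u with u − 1 nilpotent and (u − 1)^(n−1) ≠ 0); if q is prime, the two can be taken conjugate in SL_n(F). -/
theorem result {F : Type*} [Field F] [Fintype F] (n : ℕ) (hn : 4 ≤ n) :
    (∃ u v : Matrix.SpecialLinearGroup (Fin n) F, (IsNilpotent ((u : Matrix (Fin n) (Fin n) F) - 1) ∧ ((u : Matrix (Fin n) (Fin n) F) - 1) ^ (n - 1) ≠ 0) ∧ (IsNilpotent ((v : Matrix (Fin n) (Fin n) F) - 1) ∧ ((v : Matrix (Fin n) (Fin n) F) - 1) ^ (n - 1) ≠ 0) ∧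
      Subgroup.closure ({u, v} : Set (Matrix.SpecialLinearGroup (Fin n) F)) = ⊤) ∧
    ((Fintype.card F).Prime → ∃ u g : Matrix.SpecialLinearGroup (Fin n) F, (IsNilpotent ((u : Matrix (Fin n) (Fin n) F) - 1) ∧ ((u : Matrix (Fin n) (Fin n) F) - 1) ^ (n - 1) ≠ 0) ∧
      Subgroup.closure ({u, g * u * g⁻¹} : Set (Matrix.SpecialLinearGroup (Fin n) F)) = ⊤) := by
  have hu := CfsgLib.Linear.RegGen.jU_regular (F := F) (show 1 ≤ n by omega)
  have hp : (Fintype.card F).Prime → ∃ g : Matrix.SpecialLinearGroup (Fin n) F,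
      Subgroup.closure ({CfsgLib.Linear.RegGen.jU n F, g * CfsgLib.Linear.RegGen.jU n F * g⁻¹} :
        Set (Matrix.SpecialLinearGroup (Fin n) F)) = ⊤ :=
    fun h ↦ CfsgLib.Linear.RegGen.two_regular_prime hn (by rwa [Nat.card_eq_fintype_card])
  refine ⟨?_, fun h ↦ ⟨_, (hp h).choose, hu, (hp h).choose_spec⟩⟩
  by_cases h : (Fintype.card F).Prime
  · obtain ⟨g, hg⟩ := hp h
    have hconj : ∀ k : ℕ,
        (((g * CfsgLib.Linear.RegGen.jU n F * g⁻¹ : Matrix.SpecialLinearGroup (Fin n) F) :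
          Matrix (Fin n) (Fin n) F) - 1) ^ k =
          (g : Matrix (Fin n) (Fin n) F) *
            ((CfsgLib.Linear.RegGen.jU n F : Matrix (Fin n) (Fin n) F) - 1) ^ k *
            ((g⁻¹ : Matrix.SpecialLinearGroup (Fin n) F) : Matrix (Fin n) (Fin n) F) := by
      intro k
      induction k with
      | zero =>
        rw [pow_zero, pow_zero, mul_one]
        exact (CfsgLib.Linear.RegGen.val_mul_inv g).symm
      | succ k ih =>
        have e1 : ((g * CfsgLib.Linear.RegGen.jU n F * g⁻¹ : Matrix.SpecialLinearGroup (Fin n) F) :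
            Matrix (Fin n) (Fin n) F) - 1 = (g : Matrix (Fin n) (Fin n) F) *
              ((CfsgLib.Linear.RegGen.jU n F : Matrix (Fin n) (Fin n) F) - 1) *
              ((g⁻¹ : Matrix.SpecialLinearGroup (Fin n) F) : Matrix (Fin n) (Fin n) F) := by
          rw [mul_sub, sub_mul, mul_one, CfsgLib.Linear.RegGen.val_mul_inv]
          rfl
        rw [pow_succ, ih, e1, pow_succ]
        simp only [mul_assoc]
        simp only [← mul_assoc ((g⁻¹ : Matrix.SpecialLinearGroup (Fin n) F) :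
          Matrix (Fin n) (Fin n) F) (g : Matrix (Fin n) (Fin n) F),
          CfsgLib.Linear.RegGen.inv_mul_val, one_mul]
    refine ⟨_, g * CfsgLib.Linear.RegGen.jU n F * g⁻¹, hu, ⟨?_, ?_⟩, hg⟩
    · obtain ⟨m, hm⟩ := hu.1
      exact ⟨m, by rw [hconj, hm, mul_zero, zero_mul]⟩
    · intro e
      apply hu.2
      rw [hconj] at e
      have e' := congrArg (fun M ↦ ((g⁻¹ : Matrix.SpecialLinearGroup (Fin n) F) :
        Matrix (Fin n) (Fin n) F) * M * (g : Matrix (Fin n) (Fin n) F)) e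
      simp only [mul_zero, zero_mul, mul_assoc, CfsgLib.Linear.RegGen.inv_mul_val, mul_one] at e'
      rwa [← mul_assoc, CfsgLib.Linear.RegGen.inv_mul_val, one_mul] at e'
  · obtain ⟨v, hv, hg⟩ :=
      CfsgLib.Linear.RegGen.two_regular_nonprime (F := F) hn (by rwa [Nat.card_eq_fintype_card])
    exact ⟨_, v, hu, hv, hg⟩

end Cfsg.Agent.S2279
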