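import Cfsg.Statements.S2283
import Cfsg.Agent.Lib.Linear.SUThreeMain

set_option autoImplicit false
open Cfsg

namespace Cfsg.Agent.S2283

/-- Let F be a field with q² elements, q ≥ 3, and SU_3(q) the special unitary group of the standard Hermitian form. Then SU_3(q) is generated by two conjugate regular unipotent elements: there are u ∈ SU_3(q) with u − 1 nilpotent and (u − 1)² ≠ 0, and g ∈ SU_3(q), such that u and g u g⁻¹ generate SU_3(q). -/
theorem result {F : Type*} [Field F] [Fintype F] (q : ℕ) (hq : 3 ≤ q) (hF : Fintype.card F = q ^ 2) :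
    ∃ u g : ↥(Cfsg.SU 3 F q), (IsNilpotent (((u : Matrix.SpecialLinearGroup (Fin 3) F) : Matrix (Fin 3) (Fin 3) F) - 1) ∧ (((u : Matrix.SpecialLinearGroup (Fin 3) F) : Matrix (Fin 3) (Fin 3) F) - 1) ^ (3 - 1) ≠ 0) ∧
      Subgroup.closure ({u, g * u * g⁻¹} : Set ↥(Cfsg.SU 3 F q)) = ⊤ := by
  classical
  obtain ⟨Φ, z, l, h, g, hz, hg, hle⟩ := CfsgLib.Linear.SUThree.exists_pair hq hF
  set ψ := CfsgLib.Classical.Herm.suEquivRoot hF (le_refl 3)
  let u₀ : CfsgLib.Classical.Herm.rootGen (CfsgLib.Classical.Herm.stdHerm hF 3) := ⟨Φ.ra z l h, CfsgLib.Classical.Herm.root_mem _⟩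
  let g₀ : CfsgLib.Classical.Herm.rootGen (CfsgLib.Classical.Herm.stdHerm hF 3) := ⟨g, hg⟩
  refine ⟨ψ.symm u₀, ψ.symm g₀, ?_, ?_⟩
  · set M := (((ψ.symm u₀ : Cfsg.SU 3 F q) : Matrix.SpecialLinearGroup (Fin 3) F) :
      Matrix (Fin 3) (Fin 3) F)
    have happ : ∀ x, (M - 1).mulVec x =
        ((((Φ.ra z l h).1 : (Fin 3 → F) ≃ₗ[F] (Fin 3 → F)) : (Fin 3 → F) →ₗ[F] (Fin 3 → F)) - LinearMap.id : (Fin 3 → F) →ₗ[F] (Fin 3 → F)) x := fun x => by
      rw [Matrix.sub_mulVec, Matrix.one_mulVec, LinearMap.sub_apply, LinearMap.id_apply]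
      congr 1
      rw [← CfsgLib.Classical.Herm.suEquiv_apply hF 3]
      show (ψ (ψ.symm u₀)).1.1 x = _
      rw [ψ.apply_symm_apply]
      rfl
    have hN := fun x => Φ.ra_sub_sub (Module.finrank_fin_fun F) h x
    refine ⟨⟨3, Matrix.toLin'.injective (LinearMap.ext fun x => ?_)⟩, fun h0 => ?_⟩
    · rw [Matrix.toLin'_apply, pow_succ, pow_succ, pow_one, ← Matrix.mulVec_mulVec,
        ← Matrix.mulVec_mulVec, happ, happ, happ, (hN x).1, map_zero, LinearMap.zero_apply]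
    · have h1 := congrArg (fun A : Matrix (Fin 3) (Fin 3) F => A.mulVec Φ.b) h0
      simp only [show (3 : ℕ) - 1 = 2 from rfl, pow_two, ← Matrix.mulVec_mulVec, happ, (hN Φ.b).2,
        Matrix.zero_mulVec] at h1
      exact smul_ne_zero (neg_ne_zero.2 (mul_ne_zero hz ((CfsgLib.Classical.Herm.stdHerm hF 3).conj_ne_zero hz))) Φ.a_ne_zero h1
  · rw [eq_top_iff]
    intro x _
    have hx : (ψ x).1 ∈ Subgroup.closure {Φ.ra z l h, g * Φ.ra z l h * g⁻¹} := hle (ψ x).2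
    have hmap : (Subgroup.closure {Φ.ra z l h, g * Φ.ra z l h * g⁻¹}) =
        (Subgroup.closure ({ψ.symm u₀, ψ.symm g₀ * ψ.symm u₀ * (ψ.symm g₀)⁻¹} : Set (Cfsg.SU 3 F q))).map
          ((CfsgLib.Classical.Herm.rootGen (CfsgLib.Classical.Herm.stdHerm hF 3)).subtype.comp ψ.toMonoidHom) := by
      rw [MonoidHom.map_closure, Set.image_pair]
      simp [u₀, g₀]
    rw [hmap] at hx
    obtain ⟨y, hy, hyx⟩ := hx
    have : y = x := ψ.injective (Subtype.ext hyx)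
    exact this ▸ hy

end Cfsg.Agent.S2283
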