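import Cfsg.Statements.S2282
import Cfsg.Agent.Lib.Linear.SUThreeTop
import Cfsg.Agent.S2283

set_option autoImplicit false
open Cfsg

namespace Cfsg.Agent.S2282

/-- Let F be a field with q² elements, n ≥ 3 odd with (n, q) ≠ (3, 2), and SU_n(q) the special unitary group of the standard Hermitian form Σ u_i v_i^q. Then SU_n(q) is generated by three conjugate regular unipotent elements: there are u ∈ SU_n(q) with u − 1 nilpotent and (u − 1)^(n−1) ≠ 0, and g, h ∈ SU_n(q), such that u, g u g⁻¹ and h u h⁻¹ generate SU_n(q). -/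
theorem result {F : Type*} [Field F] [Fintype F] (q : ℕ) (hF : Fintype.card F = q ^ 2) (n : ℕ) (hn : 3 ≤ n) (hodd : Odd n) (h32 : ¬ (n = 3 ∧ q = 2)) :
    ∃ u g h : ↥(Cfsg.SU n F q), (IsNilpotent (((u : Matrix.SpecialLinearGroup (Fin n) F) : Matrix (Fin n) (Fin n) F) - 1) ∧ (((u : Matrix.SpecialLinearGroup (Fin n) F) : Matrix (Fin n) (Fin n) F) - 1) ^ (n - 1) ≠ 0) ∧
      Subgroup.closure ({u, g * u * g⁻¹, h * u * h⁻¹} : Set ↥(Cfsg.SU n F q)) = ⊤ := by
  classical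
  obtain ⟨j, rfl⟩ := hodd
  rcases Nat.lt_or_ge j 2 with hj | hj
  · obtain rfl : j = 1 := by omega
    have hq : 3 ≤ q := by
      have := CfsgLib.Classical.Herm.two_le_of_card hF
      by_contra hq
      exact h32 ⟨rfl, by omega⟩
    obtain ⟨u, g, hu, hg⟩ := Cfsg.Agent.S2283.result q hq hF
    refine ⟨u, g, g, hu, ?_⟩
    rw [eq_top_iff, ← hg]
    exact Subgroup.closure_mono (by simp)
  obtain ⟨k, rfl⟩ : ∃ k, j = k + 2 := ⟨j - 2, by omega⟩
  obtain ⟨Φ, z, l, hl, hz, g, hg, g', hg', hle⟩ :=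
    CfsgLib.Linear.SURegular.exists_generators hF k
  set ψ := CfsgLib.Classical.Herm.suEquivRoot hF hn
  let u₀ : CfsgLib.Classical.Herm.rootGen (CfsgLib.Classical.Herm.stdHerm hF (2 * (k + 2) + 1)) :=
    ⟨Φ.reg hl, Φ.reg_mem hl⟩
  refine ⟨ψ.symm u₀, ψ.symm ⟨g, hg⟩, ψ.symm ⟨g', hg'⟩, ?_, ?_⟩
  · set M := (((ψ.symm u₀ : Cfsg.SU (2 * (k + 2) + 1) F q) :
      Matrix.SpecialLinearGroup (Fin (2 * (k + 2) + 1)) F) :
        Matrix (Fin (2 * (k + 2) + 1)) (Fin (2 * (k + 2) + 1)) F)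
    have happ : Matrix.toLinAlgEquiv' (M - 1) = Φ.nil hl := by
      refine LinearMap.ext fun x => ?_
      rw [Matrix.toLinAlgEquiv'_apply, Matrix.sub_mulVec, Matrix.one_mulVec,
        ← CfsgLib.Classical.Herm.suEquiv_apply hF, Φ.nil_apply]
      show (ψ (ψ.symm u₀)).1.1 x - x = _
      rw [ψ.apply_symm_apply]
    have hd : Module.finrank F (Fin (2 * (k + 2) + 1) → F) = 2 * k + 5 := by
      rw [Module.finrank_fin_fun]; omega
    refine ⟨⟨2 * k + 5, Matrix.toLinAlgEquiv'.injective ?_⟩, fun h0 => ?_⟩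
    · rw [map_pow, happ, map_zero]
      exact LinearMap.ext fun x => Φ.nil_pow_eq_zero hl hd hz x
    · refine Φ.nil_top_ne_zero hl hz ?_
      rw [← happ, ← map_pow, show 2 * k + 4 = 2 * (k + 2) + 1 - 1 by omega, h0, map_zero,
        LinearMap.zero_apply]
  · rw [eq_top_iff]
    intro x _
    set S : Set (Cfsg.SU (2 * (k + 2) + 1) F q) := {ψ.symm u₀,
      ψ.symm ⟨g, hg⟩ * ψ.symm u₀ * (ψ.symm ⟨g, hg⟩)⁻¹,
      ψ.symm ⟨g', hg'⟩ * ψ.symm u₀ * (ψ.symm ⟨g', hg'⟩)⁻¹}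
    have hmap : (Subgroup.closure S).map
        ((CfsgLib.Classical.Herm.rootGen (CfsgLib.Classical.Herm.stdHerm hF (2 * (k + 2) + 1))).subtype.comp
          ψ.toMonoidHom) =
        Subgroup.closure {Φ.reg hl, g * Φ.reg hl * g⁻¹, g' * Φ.reg hl * g'⁻¹} := by
      rw [MonoidHom.map_closure, Set.image_insert_eq, Set.image_pair]
      simp [u₀]
    have hx := hle (ψ x).2
    rw [← hmap] at hx
    obtain ⟨y, hy, hyx⟩ := hx
    have : y = x := ψ.injective (Subtype.ext hyx)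
    exact this ▸ hy

end Cfsg.Agent.S2282
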