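import Cfsg.Statements.S2286
import Cfsg.Agent.Lib.PresentSL2.Even

set_option autoImplicit false
open Cfsg

namespace Cfsg.Agent.S2286

/-- For every finite field F, SL_2(F) and PSL_2(F) have presentations with 3 generators and at most 9 relations; when F has characteristic 2, PSL_2(F) has a presentation with 3 generators and at most 5 relations. -/
theorem result {F : Type*} [Field F] [Fintype F] :
    (∃ rels : Finset (FreeGroup (Fin 3)), rels.card ≤ 9 ∧ Nonempty (PresentedGroup (↑rels : Set (FreeGroup (Fin 3))) ≃* Matrix.SpecialLinearGroup (Fin 2) F)) ∧ (∃ rels : Finset (FreeGroup (Fin 3)), rels.card ≤ 9 ∧ Nonempty (PresentedGroup (↑rels : Set (FreeGroup (Fin 3))) ≃* Matrix.ProjectiveSpecialLinearGroup (Fin 2) F)) ∧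
    (CharP F 2 → ∃ rels : Finset (FreeGroup (Fin 3)), rels.card ≤ 5 ∧ Nonempty (PresentedGroup (↑rels : Set (FreeGroup (Fin 3))) ≃* Matrix.ProjectiveSpecialLinearGroup (Fin 2) F)) := by
  classical
  obtain ⟨p, hp⟩ := CharP.exists F
  haveI : Fact p.Prime := ⟨CharP.char_is_prime F p⟩
  by_cases h2 : p = 2
  · subst h2
    have hker : (QuotientGroup.mk' (Subgroup.center (Matrix.SpecialLinearGroup (Fin 2) F))).ker = ⊥ := by
      rw [QuotientGroup.ker_mk', ← Subgroup.card_eq_one, CfsgLib.Linear.card_center_SL, Fintype.card_fin]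
      obtain ⟨e, -, hF⟩ := FiniteField.card F 2
      refine (Nat.coprime_two_right).2 (Nat.odd_iff.2 ?_)
      have : 2 ∣ Fintype.card F := hF ▸ dvd_pow_self 2 e.pos.ne'
      have := Fintype.one_lt_card (α := F)
      omega
    let iso : Matrix.SpecialLinearGroup (Fin 2) F ≃* Matrix.ProjectiveSpecialLinearGroup (Fin 2) F :=
      MulEquiv.ofBijective (QuotientGroup.mk' _)
        ⟨(MonoidHom.ker_eq_bot_iff _).1 hker, QuotientGroup.mk'_surjective _⟩
    obtain ⟨rels, hc, ⟨e⟩⟩ := CfsgLib.PresentSL2.presentation_even (F := F)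
    exact ⟨⟨rels, by omega, ⟨e⟩⟩, ⟨rels, by omega, ⟨e.trans iso⟩⟩, fun _ => ⟨rels, hc, ⟨e.trans iso⟩⟩⟩
  · obtain ⟨h1, h3⟩ := CfsgLib.PresentSL2.presentation_odd (F := F) (p := p) h2
    exact ⟨h1, h3, fun h => absurd (CharP.eq F hp h) h2⟩

end Cfsg.Agent.S2286
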