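import Cfsg.Statements.S2412
import Cfsg.Agent.Lib.Linear.SUTwoGen
import Cfsg.Agent.S2283

set_option autoImplicit false
open Cfsg

namespace Cfsg.Agent.S2412

/-- The projective special unitary group `PSU_n(q)` with `n ≥ 3`, realised over the field with `q²` elements, `(n, q) ≠ (3, 2)`, is generated by two of its elements. -/
theorem result {F : Type*} [Field F] [Fintype F] {q : ℕ} (hq : IsPrimePow q) (hF : Fintype.card F = q ^ 2) (n : ℕ) (hn : 3 ≤ n) (h32 : n = 3 → q ≠ 2) :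
    ∃ a b : Cfsg.PSU n F q, Subgroup.closure ({a, b} : Set (Cfsg.PSU n F q)) = ⊤ := by
  classical
  suffices ∃ a b : Cfsg.SU n F q, Subgroup.closure ({a, b} : Set (Cfsg.SU n F q)) = ⊤ by
    obtain ⟨a, b, hab⟩ := this
    refine ⟨QuotientGroup.mk' _ a, QuotientGroup.mk' _ b, ?_⟩
    rw [← Set.image_pair, ← MonoidHom.map_closure, hab]
    exact Subgroup.map_top_of_surjective _ (QuotientGroup.mk'_surjective _)
  rcases Nat.lt_or_ge n 4 with h4 | h4
  · obtain rfl : n = 3 := by omega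
    have := CfsgLib.Classical.Herm.two_le_of_card hF
    have := h32 rfl
    obtain ⟨u, g, -, hg⟩ := Cfsg.Agent.S2283.result q (by omega) hF
    exact ⟨u, g * u * g⁻¹, hg⟩
  obtain ⟨k, hk⟩ : ∃ k, n = 2 * (k + 2) ∨ n = 2 * (k + 2) + 1 := ⟨n / 2 - 2, by omega⟩
  obtain ⟨a, ha, b, hb, hle⟩ := CfsgLib.Linear.SUTwo.exists_two_generators hF k hk
  set ψ := CfsgLib.Classical.Herm.suEquivRoot hF hn
  refine ⟨ψ.symm ⟨a, ha⟩, ψ.symm ⟨b, hb⟩, ?_⟩
  rw [eq_top_iff]
  intro x _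
  have hmap : (Subgroup.closure {ψ.symm ⟨a, ha⟩, ψ.symm ⟨b, hb⟩}).map
      ((CfsgLib.Classical.Herm.rootGen (CfsgLib.Classical.Herm.stdHerm hF n)).subtype.comp
        ψ.toMonoidHom) = Subgroup.closure {a, b} := by
    rw [MonoidHom.map_closure, Set.image_pair]
    simp
  have hx := hle (ψ x).2
  rw [← hmap] at hx
  obtain ⟨y, hy, hyx⟩ := hx
  have : y = x := ψ.injective (Subtype.ext hyx)
  exact this ▸ hy

end Cfsg.Agent.S2412
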