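import Cfsg.Statements.S2291
import Cfsg.Agent.Lib.SUnPres.Final
import Cfsg.Agent.S2412

set_option autoImplicit false
open Cfsg

namespace Cfsg.Agent.S2291

/-- Let F be a field with q² elements and n ≥ 3 with (n, q) ≠ (3, 2). Then the simple group PSU_n(q) (for the standard Hermitian form) has a presentation with 2 generators and at most 80 relations. -/
theorem result {F : Type*} [Field F] [Fintype F] (q n : ℕ) (hF : Fintype.card F = q ^ 2) (hn : 3 ≤ n) (h32 : ¬ (n = 3 ∧ q = 2)) :
    ∃ rels : Finset (FreeGroup (Fin 2)), rels.card ≤ 80 ∧ Nonempty (PresentedGroup (↑rels : Set (FreeGroup (Fin 2))) ≃* Cfsg.PSU n F q) := by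
  obtain ⟨r, k, hr, -, hk⟩ := CfsgLib.Classical.Herm.exists_charP_pow hF
  have hq : IsPrimePow q := by
    refine isPrimePow_nat_iff q |>.2 ⟨r, k, hr, ?_, hk.symm⟩
    rcases Nat.eq_zero_or_pos k with rfl | h
    · have := CfsgLib.Classical.Herm.two_le_of_card hF
      rw [pow_zero] at hk
      omega
    · exact h
  obtain ⟨a, b, hab⟩ := Cfsg.Agent.S2412.result hq hF n hn (fun h e => h32 ⟨h, e⟩)
  exact CfsgLib.BoundedPres.Pres.two_generators (CfsgLib.SUnPres.pres_psu hF hn h32) a b hab

end Cfsg.Agent.S2291
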