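import Cfsg.Statements.S2292
import Cfsg.Agent.Lib.BoundedPres.SpFinal
import Cfsg.Agent.Lib.Linear.SympTwoGen

set_option autoImplicit false
open Cfsg

namespace Cfsg.Agent.S2292

/-- Let F be a finite field with q elements and m ≥ 2 with (m, q) ≠ (2, 2). Then the simple group PSp_2m(F) has a presentation with 2 generators and at most 80 relations. -/
theorem result {F : Type*} [Field F] [Fintype F] (m : ℕ) (hm : 2 ≤ m) (h22 : ¬ (m = 2 ∧ Fintype.card F = 2)) :
    ∃ rels : Finset (FreeGroup (Fin 2)), rels.card ≤ 80 ∧ Nonempty (PresentedGroup (↑rels : Set (FreeGroup (Fin 2))) ≃* Cfsg.PSp m F) := by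
  obtain ⟨k, rfl⟩ : ∃ k, m = k + 2 := ⟨m - 2, by omega⟩
  obtain ⟨a, b, hab⟩ := CfsgLib.Linear.SympTwo.exists_two_generators (F := F) k
  have h := (CfsgLib.SpPres.presOn_PSp (CfsgLib.SpPres.presOn_Sp (F := F) hm
    (CfsgLib.SpPres.presOn_sym_any hm))).pres
  obtain ⟨rels, hc, he⟩ := h.two_generators (QuotientGroup.mk' _ a) (QuotientGroup.mk' _ b) (by
    rw [← Set.image_pair, ← MonoidHom.map_closure, hab]
    exact Subgroup.map_top_of_surjective _ (QuotientGroup.mk'_surjective _))
  exact ⟨rels, hc.trans (by norm_num), he⟩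

end Cfsg.Agent.S2292
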