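import Cfsg.Statements.S2295
import Cfsg.Agent.S2288
import Cfsg.Agent.Lib.PlusPres.Final

set_option autoImplicit false
open Cfsg

namespace Cfsg.Agent.S2295

/-- Let F be a finite field and n ≥ 4, and let Ω⁺_2n(F) be the commutator subgroup of the orthogonal group of the hyperbolic quadratic form Σ x_i y_i, with PΩ⁺_2n(F) its central quotient. Then Ω⁺_2n(F) has a presentation with 8 generators and at most 31 relations (at most 29 if n = 4 or 5), and PΩ⁺_2n(F) one with 8 generators and at most 32 relations (at most 30 if n = 4 or 5). -/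
theorem result {F : Type*} [Field F] [Fintype F] (n : ℕ) (hn : 4 ≤ n) :
    (∃ rels : Finset (FreeGroup (Fin 8)), rels.card ≤ 31 ∧ Nonempty (PresentedGroup (↑rels : Set (FreeGroup (Fin 8))) ≃* ↥(Cfsg.Omega F (Cfsg.quadFormPlus n F)))) ∧ (∃ rels : Finset (FreeGroup (Fin 8)), rels.card ≤ 32 ∧ Nonempty (PresentedGroup (↑rels : Set (FreeGroup (Fin 8))) ≃* Cfsg.POmega F (Cfsg.quadFormPlus n F))) ∧
    (n ≤ 5 → (∃ rels : Finset (FreeGroup (Fin 8)), rels.card ≤ 29 ∧ Nonempty (PresentedGroup (↑rels : Set (FreeGroup (Fin 8))) ≃* ↥(Cfsg.Omega F (Cfsg.quadFormPlus n F)))) ∧ (∃ rels : Finset (FreeGroup (Fin 8)), rels.card ≤ 30 ∧ Nonempty (PresentedGroup (↑rels : Set (FreeGroup (Fin 8))) ≃* Cfsg.POmega F (Cfsg.quadFormPlus n F)))) := by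
  obtain ⟨⟨rels, hc, ⟨e⟩⟩, -, ⟨rels4, hc4, ⟨e4⟩⟩, ⟨rels5, hc5, ⟨e5⟩⟩⟩ := Cfsg.Agent.S2288.result (F := F) n hn
  have h := CfsgLib.PlusPres.presentations hn (CfsgLib.BoundedPres.PresOn.of_iso rels hc e)
  let e8 : Fin 7 ⊕ Unit ≃ Fin 8 := (Equiv.sumCongr (Equiv.refl (Fin 7)) finOneEquiv.symm).trans finSumFinEquiv
  refine ⟨(h.1.reindex e8).exists_iso, (h.2.reindex e8).exists_iso, fun h5 => ?_⟩
  obtain ⟨k, hk, h'⟩ : ∃ k, k ≤ 22 ∧ CfsgLib.BoundedPres.PresOn (Fin 6) (Matrix.SpecialLinearGroup (Fin n) F) k := by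
    rcases (show n = 4 ∨ n = 5 by omega) with rfl | rfl
    · exact ⟨21, by norm_num, CfsgLib.BoundedPres.PresOn.of_iso rels4 hc4 e4⟩
    · exact ⟨22, le_rfl, CfsgLib.BoundedPres.PresOn.of_iso rels5 hc5 e5⟩
  have hs := CfsgLib.PlusPres.presentations hn h'
  let e6 : (Fin 6 ⊕ Unit) ⊕ Fin 1 ≃ Fin 8 :=
    (Equiv.sumCongr ((Equiv.sumCongr (Equiv.refl (Fin 6)) finOneEquiv.symm).trans finSumFinEquiv)
      (Equiv.refl (Fin 1))).trans finSumFinEquiv
  exact ⟨(((hs.1.pad (Fin 1)).reindex e6).mono (by rw [Fintype.card_fin]; omega)).exists_iso,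
    (((hs.2.pad (Fin 1)).reindex e6).mono (by rw [Fintype.card_fin]; omega)).exists_iso⟩

end Cfsg.Agent.S2295
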