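import Cfsg.Statements.S2298
import Cfsg.Agent.Lib.GL2Char.Classify

set_option autoImplicit false
open Cfsg

namespace Cfsg.Agent.S2298

/-- Over a finite field F with q elements, every irreducible complex character of GL₂ has degree 1, q − 1, q or q + 1; and when q ≥ 3 (so that these four numbers are distinct) there are exactly q − 1 irreducible characters of degree 1, exactly q − 1 of degree q, exactly (q − 1)(q − 2)/2 of degree q + 1 and exactly q(q − 1)/2 of degree q − 1. -/
theorem result {F : Type*} [Field F] [Fintype F] :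
    (∀ χ : Matrix.GeneralLinearGroup (Fin 2) F → ℂ, Cfsg.IsIrrCharacter (Matrix.GeneralLinearGroup (Fin 2) F) χ →
      χ 1 = 1 ∨ χ 1 = (Fintype.card F : ℂ) - 1 ∨ χ 1 = (Fintype.card F : ℂ) ∨ χ 1 = (Fintype.card F : ℂ) + 1) ∧
    (3 ≤ Fintype.card F →
      Nat.card {χ : Cfsg.IrrCharacter (Matrix.GeneralLinearGroup (Fin 2) F) // (χ : Matrix.GeneralLinearGroup (Fin 2) F → ℂ) 1 = 1} = Fintype.card F - 1 ∧
      Nat.card {χ : Cfsg.IrrCharacter (Matrix.GeneralLinearGroup (Fin 2) F) // (χ : Matrix.GeneralLinearGroup (Fin 2) F → ℂ) 1 = (Fintype.card F : ℂ)} = Fintype.card F - 1 ∧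
      Nat.card {χ : Cfsg.IrrCharacter (Matrix.GeneralLinearGroup (Fin 2) F) // (χ : Matrix.GeneralLinearGroup (Fin 2) F → ℂ) 1 = (Fintype.card F : ℂ) + 1} = (Fintype.card F - 1) * (Fintype.card F - 2) / 2 ∧
      Nat.card {χ : Cfsg.IrrCharacter (Matrix.GeneralLinearGroup (Fin 2) F) // (χ : Matrix.GeneralLinearGroup (Fin 2) F → ℂ) 1 = (Fintype.card F : ℂ) - 1} = Fintype.card F * (Fintype.card F - 1) / 2) := by
  classical
  obtain ⟨L, S, D, E, hall, hL, hS, hD, hE, vL, vS, vD, vE⟩ :=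
    CfsgLib.GL2Char.gl2_table (F := F)
  set q := Fintype.card F with hq
  refine ⟨fun χ hχ => ?_, fun h3 => ?_⟩
  · rcases hall ⟨χ, hχ⟩ with h | h | h | h
    · exact Or.inl (vL _ h).1
    · exact Or.inr (Or.inr (Or.inl (vS _ h).1))
    · exact Or.inr (Or.inr (Or.inr (vD _ h).1))
    · exact Or.inr (Or.inl (vE _ h).1)
  have n1 : ((q : ℂ)) ≠ 1 := by exact_mod_cast (show q ≠ 1 by omega)
  have n2 : (q : ℂ) + 1 ≠ 1 := by
    simp only [ne_eq, add_eq_right]
    exact_mod_cast (show q ≠ 0 by omega)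
  have n3 : (q : ℂ) - 1 ≠ 1 := by
    intro h
    have : (q : ℂ) = 2 := by linear_combination h
    have : q = 2 := by exact_mod_cast this
    omega
  have n4 : (q : ℂ) + 1 ≠ q := by simp
  have n5 : (q : ℂ) - 1 ≠ q := by simp
  have n6 : (q : ℂ) - 1 ≠ (q : ℂ) + 1 := by
    intro h
    have : (2 : ℂ) = 0 := by linear_combination -h
    norm_num at this
  have key : ∀ (T : Finset (Cfsg.IrrCharacter (Matrix.GeneralLinearGroup (Fin 2) F))) (c : ℂ),
      (∀ χ : Cfsg.IrrCharacter (Matrix.GeneralLinearGroup (Fin 2) F), χ ∈ T ↔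
        (χ : Matrix.GeneralLinearGroup (Fin 2) F → ℂ) 1 = c) →
      Nat.card {χ : Cfsg.IrrCharacter (Matrix.GeneralLinearGroup (Fin 2) F) //
        (χ : Matrix.GeneralLinearGroup (Fin 2) F → ℂ) 1 = c} = T.card :=
    fun T c h => Nat.subtype_card T h
  refine ⟨?_, ?_, ?_, ?_⟩
  · rw [key L 1 fun χ => ⟨fun h => (vL χ h).1, fun h => ?_⟩, hL]
    rcases hall χ with h' | h' | h' | h'
    · exact h'
    · exact absurd ((vS χ h').1.symm.trans h) n1
    · exact absurd ((vD χ h').1.symm.trans h) n2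
    · exact absurd ((vE χ h').1.symm.trans h) n3
  · rw [key S q fun χ => ⟨fun h => (vS χ h).1, fun h => ?_⟩, hS]
    rcases hall χ with h' | h' | h' | h'
    · exact absurd ((vL χ h').1.symm.trans h).symm n1
    · exact h'
    · exact absurd ((vD χ h').1.symm.trans h) n4
    · exact absurd ((vE χ h').1.symm.trans h) n5
  · rw [key D ((q : ℂ) + 1) fun χ => ⟨fun h => (vD χ h).1, fun h => ?_⟩, ← hD]
    · omega
    rcases hall χ with h' | h' | h' | h'
    · exact absurd ((vL χ h').1.symm.trans h).symm n2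
    · exact absurd ((vS χ h').1.symm.trans h).symm n4
    · exact h'
    · exact absurd ((vE χ h').1.symm.trans h) n6
  · rw [key E ((q : ℂ) - 1) fun χ => ⟨fun h => (vE χ h).1, fun h => ?_⟩, ← hE]
    · omega
    rcases hall χ with h' | h' | h' | h'
    · exact absurd ((vL χ h').1.symm.trans h).symm n3
    · exact absurd ((vS χ h').1.symm.trans h).symm n5
    · exact absurd ((vD χ h').1.symm.trans h).symm n6
    · exact h'

end Cfsg.Agent.S2298
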