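import Cfsg.Statements.S2300
import Cfsg.Agent.Lib.SL2Deg.Counts

set_option autoImplicit false
open Cfsg

namespace Cfsg.Agent.S2300

/-- Over a finite field F with q elements, q even, every irreducible complex character of SL₂ has degree 1, q − 1, q or q + 1; and when q ≥ 4 (so that these four numbers are distinct) there are exactly one irreducible character of degree 1, one of degree q, (q − 2)/2 of degree q + 1 and q/2 of degree q − 1. -/
theorem result {F : Type*} [Field F] [Fintype F] [CharP F 2] :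
    (∀ χ : Matrix.SpecialLinearGroup (Fin 2) F → ℂ, Cfsg.IsIrrCharacter (Matrix.SpecialLinearGroup (Fin 2) F) χ →
      χ 1 = 1 ∨ χ 1 = (Fintype.card F : ℂ) - 1 ∨ χ 1 = (Fintype.card F : ℂ) ∨ χ 1 = (Fintype.card F : ℂ) + 1) ∧
    (4 ≤ Fintype.card F →
      Nat.card {χ : Cfsg.IrrCharacter (Matrix.SpecialLinearGroup (Fin 2) F) // (χ : Matrix.SpecialLinearGroup (Fin 2) F → ℂ) 1 = 1} = 1 ∧
      Nat.card {χ : Cfsg.IrrCharacter (Matrix.SpecialLinearGroup (Fin 2) F) // (χ : Matrix.SpecialLinearGroup (Fin 2) F → ℂ) 1 = (Fintype.card F : ℂ)} = 1 ∧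
      Nat.card {χ : Cfsg.IrrCharacter (Matrix.SpecialLinearGroup (Fin 2) F) // (χ : Matrix.SpecialLinearGroup (Fin 2) F → ℂ) 1 = (Fintype.card F : ℂ) + 1} = (Fintype.card F - 2) / 2 ∧
      Nat.card {χ : Cfsg.IrrCharacter (Matrix.SpecialLinearGroup (Fin 2) F) // (χ : Matrix.SpecialLinearGroup (Fin 2) F → ℂ) 1 = (Fintype.card F : ℂ) - 1} = Fintype.card F / 2) := by
  classical
  refine ⟨fun χ hχ => ?_, fun h4 => ?_⟩
  · by_cases h4 : 4 ≤ Fintype.card F
    · obtain ⟨St, -, -, hall⟩ := CfsgLib.SL2Deg.classification (F := F) h4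
      obtain ⟨d, hd, h1, -⟩ := hall ⟨χ, hχ⟩
      rw [show χ 1 = (d : ℂ) from h1]
      rcases hd with rfl | rfl | rfl | rfl | ⟨⟨k, hk⟩, -⟩
      · simp
      · simp
      · right; right; right; push_cast; ring
      · right; left
        rw [Nat.cast_sub (by omega)]; simp
      · have := FiniteField.even_card_of_char_two (F := F) (ringChar.eq F 2)
        omega
    · have h2 : Fintype.card F = 2 := by
        have := Fintype.one_lt_card (α := F)
        have := FiniteField.even_card_of_char_two (F := F) (ringChar.eq F 2)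
        omega
      obtain ⟨d, hd1, hd2, h1⟩ := CfsgLib.SL2Deg.small_degree ⟨χ, hχ⟩ (B := 2)
        (by rw [CfsgLib.Linear.card_SL_two, h2]; norm_num)
      rw [show χ 1 = (d : ℂ) from h1, h2]
      interval_cases d <;> norm_num
  · obtain ⟨hc, -⟩ := CfsgLib.SL2Deg.even_counts (F := F)
    refine ⟨?_, ?_, ?_, ?_⟩
    · have h := hc 1
      rw [Nat.cast_one] at h
      rw [h]; split_ifs <;> omega
    · rw [hc]; split_ifs <;> omega
    · have h := hc (Fintype.card F + 1)
      rw [Nat.cast_add, Nat.cast_one] at h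
      rw [h]; split_ifs <;> omega
    · have h := hc (Fintype.card F - 1)
      rw [Nat.cast_sub (by omega : 1 ≤ Fintype.card F), Nat.cast_one] at h
      rw [h]; split_ifs <;> omega

end Cfsg.Agent.S2300
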