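import Cfsg.Statements.S2301
import Cfsg.Agent.Lib.GL2Char.Unipotent
import Cfsg.Agent.Lib.SL2Deg.Mult

set_option autoImplicit false
open Cfsg

namespace Cfsg.Agent.S2301

/-- Over a finite field with q elements of odd characteristic p, the elements of order p of SL₂ (the non-identity unipotent elements) fall into exactly two conjugacy classes, each of size (q² − 1)/2; two upper unitriangular matrices with non-zero off-diagonal entries b and b′ are conjugate exactly when bb′ is a square. -/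
theorem result {F : Type*} [Field F] [Fintype F] (p : ℕ) [Fact p.Prime] [CharP F p] (hp : p ≠ 2) :
    Nat.card {C : ConjClasses (Matrix.SpecialLinearGroup (Fin 2) F) // ∃ g : Matrix.SpecialLinearGroup (Fin 2) F, orderOf g = p ∧ ConjClasses.mk g = C} = 2 ∧
    (∀ g : Matrix.SpecialLinearGroup (Fin 2) F, orderOf g = p → Nat.card (ConjClasses.mk g).carrier = (Fintype.card F ^ 2 - 1) / 2) ∧
    ∀ g h : Matrix.SpecialLinearGroup (Fin 2) F, (g : Matrix (Fin 2) (Fin 2) F) 0 0 = 1 → (g : Matrix (Fin 2) (Fin 2) F) 1 1 = 1 → (g : Matrix (Fin 2) (Fin 2) F) 1 0 = 0 → (g : Matrix (Fin 2) (Fin 2) F) 0 1 ≠ 0 →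
      (h : Matrix (Fin 2) (Fin 2) F) 0 0 = 1 → (h : Matrix (Fin 2) (Fin 2) F) 1 1 = 1 → (h : Matrix (Fin 2) (Fin 2) F) 1 0 = 0 → (h : Matrix (Fin 2) (Fin 2) F) 0 1 ≠ 0 →
      (IsConj g h ↔ IsSquare ((g : Matrix (Fin 2) (Fin 2) F) 0 1 * (h : Matrix (Fin 2) (Fin 2) F) 0 1)) := by
  classical
  have h2 : (2 : F) ≠ 0 := Ring.two_ne_zero (by rw [ringChar.eq F p]; exact hp)
  obtain ⟨ν, hν⟩ := FiniteField.exists_nonsquare (F := F) (by rw [ringChar.eq F p]; exact hp)
  have hν0 : ν ≠ 0 := fun e => hν (by rw [e]; exact IsSquare.zero)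
  have hsq : ∀ b d : F, b ≠ 0 → d ≠ 0 →
      (IsConj (CfsgLib.SL2Deg.u b) (CfsgLib.SL2Deg.u d) ↔ IsSquare (b * d)) := by
    intro b d hb hd
    rw [CfsgLib.GL2Char.isConj_u_iff hb]
    constructor
    · rintro ⟨a, -, rfl⟩
      exact ⟨a * b, by ring⟩
    · rintro ⟨c, hc⟩
      have hc0 : c ≠ 0 := fun e => mul_ne_zero hb hd (by rw [hc, e, mul_zero])
      exact ⟨c / b, div_ne_zero hc0 hb, by field_simp; linear_combination hc⟩
  have hsol : Nat.card {a : F // a ^ 2 = 1} = 2 := by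
    rw [Nat.card_eq_fintype_card, Fintype.card_subtype, show
      (Finset.univ.filter fun a : F => a ^ 2 = 1) = {1, -1} by
        ext a
        simp [sq_eq_one_iff]]
    exact Finset.card_pair (fun e => h2 (by linear_combination e))
  refine ⟨?_, fun g hg => ?_, fun g h g00 g11 g10 g01 h00 h11 h10 h01 => ?_⟩
  · have hord : ∀ b : F, b ≠ 0 → orderOf (CfsgLib.SL2Deg.u b) = p := fun b hb =>
      (CfsgLib.GL2Char.orderOf_eq_iff p _).2 ⟨CfsgLib.GL2Char.trace_u b, fun e => by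
        have := congrArg (fun x : Matrix.SpecialLinearGroup (Fin 2) F =>
          (x : Matrix (Fin 2) (Fin 2) F) 0 1) e
        simp [CfsgLib.SL2Deg.coe_u] at this
        exact hb this⟩
    rw [Nat.card_eq_two_iff]
    refine ⟨⟨ConjClasses.mk (CfsgLib.SL2Deg.u 1), _, hord 1 one_ne_zero, rfl⟩,
      ⟨ConjClasses.mk (CfsgLib.SL2Deg.u ν), _, hord ν hν0, rfl⟩, fun e => ?_, ?_⟩
    · have := (hsq 1 ν one_ne_zero hν0).1
        (ConjClasses.mk_eq_mk_iff_isConj.1 (congrArg Subtype.val e))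
      rw [one_mul] at this
      exact hν this
    · refine Set.eq_univ_of_forall fun C => ?_
      obtain ⟨C, g, hg, rfl⟩ := C
      obtain ⟨ht, hne⟩ := (CfsgLib.GL2Char.orderOf_eq_iff p g).1 hg
      obtain ⟨b, hb, hgb⟩ := CfsgLib.GL2Char.exists_conj_u ht hne
      simp only [Set.mem_insert_iff, Set.mem_singleton_iff, Subtype.mk.injEq,
        ConjClasses.mk_eq_mk_iff_isConj]
      by_cases hbs : IsSquare b
      · exact Or.inl (hgb.trans ((hsq b 1 hb one_ne_zero).2 (by rwa [mul_one])))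
      · refine Or.inr (hgb.trans ((hsq b ν hb hν0).2 ?_))
        obtain ⟨c, hc0, hc⟩ := CfsgLib.SL2Deg.isSquare_div_of_not hν hbs
        exact ⟨c * ν, by rw [← hc]; ring⟩
  · obtain ⟨ht, hne⟩ := (CfsgLib.GL2Char.orderOf_eq_iff p g).1 hg
    obtain ⟨b, hb, hgb⟩ := CfsgLib.GL2Char.exists_conj_u ht hne
    have h := CfsgLib.GL2Char.card_carrier_mul hb hgb
    rw [hsol, ← mul_assoc, mul_comm (Fintype.card F) (Fintype.card F ^ 2 - 1)] at h
    have h' := Nat.eq_of_mul_eq_mul_right Fintype.card_pos h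
    omega
  · have hu : ∀ x : Matrix.SpecialLinearGroup (Fin 2) F, (x : Matrix (Fin 2) (Fin 2) F) 0 0 = 1 →
        (x : Matrix (Fin 2) (Fin 2) F) 1 1 = 1 → (x : Matrix (Fin 2) (Fin 2) F) 1 0 = 0 →
        x = CfsgLib.SL2Deg.u ((x : Matrix (Fin 2) (Fin 2) F) 0 1) := fun x a b c => by
      apply Subtype.ext
      rw [CfsgLib.SL2Deg.coe_u]
      ext i j
      fin_cases i <;> fin_cases j <;> simp [a, b, c]
    rw [hu g g00 g11 g10, hu h h00 h11 h10, hsq _ _ g01 h01]
    simp [CfsgLib.SL2Deg.coe_u]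

end Cfsg.Agent.S2301
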