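import Cfsg.Statements.S2302
import Cfsg.Agent.Lib.GL2Char.Unipotent

set_option autoImplicit false
open Cfsg

namespace Cfsg.Agent.S2302

/-- Over a finite field with q elements of characteristic 2, the involutions of SL₂ (the non-identity unipotent elements) form a single conjugacy class, of size q² − 1. -/
theorem result {F : Type*} [Field F] [Fintype F] [CharP F 2] (g h : Matrix.SpecialLinearGroup (Fin 2) F) (hg : orderOf g = 2) (hh : orderOf h = 2) :
    IsConj g h ∧ Nat.card (ConjClasses.mk g).carrier = Fintype.card F ^ 2 - 1 := by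
  classical
  have : Fact (Nat.Prime 2) := ⟨Nat.prime_two⟩
  have key : ∀ x : Matrix.SpecialLinearGroup (Fin 2) F, orderOf x = 2 →
      IsConj x (CfsgLib.SL2Deg.u 1) := by
    intro x hx
    obtain ⟨ht, hne⟩ := (CfsgLib.GL2Char.orderOf_eq_iff 2 x).1 hx
    obtain ⟨b, hb, hxb⟩ := CfsgLib.GL2Char.exists_conj_u ht hne
    refine hxb.trans ((CfsgLib.GL2Char.isConj_u_iff hb).2 ?_)
    obtain ⟨c, hc⟩ := FiniteField.isSquare_of_char_two (ringChar.eq F 2) b⁻¹
    refine ⟨c, fun e => inv_ne_zero hb (by rw [hc, e, mul_zero]), ?_⟩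
    rw [sq, ← hc, inv_mul_cancel₀ hb]
  refine ⟨(key g hg).trans (key h hh).symm, ?_⟩
  have h1 := CfsgLib.GL2Char.card_carrier_mul one_ne_zero (key g hg)
  have hsol : Nat.card {a : F // a ^ 2 = 1} = 1 := by
    rw [Nat.card_eq_one_iff_unique]
    refine ⟨⟨fun a b => Subtype.ext ?_⟩, ⟨⟨1, one_pow 2⟩⟩⟩
    have h20 : (2 : F) = 0 := by exact_mod_cast CharP.cast_eq_zero F 2
    have e : ∀ c : F, c ^ 2 = 1 → c = 1 := fun c hc =>
      sub_eq_zero.1 (pow_eq_zero_iff (two_ne_zero) |>.1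
        (show (c - 1) ^ 2 = 0 by linear_combination hc - (c - 1) * h20))
    rw [e a a.2, e b b.2]
  rw [hsol, one_mul, mul_comm (Fintype.card F) (Fintype.card F ^ 2 - 1)] at h1
  exact Nat.eq_of_mul_eq_mul_right Fintype.card_pos h1

end Cfsg.Agent.S2302
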