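import Cfsg.Statements.S2303
import Cfsg.Agent.Lib.GL2Char.Borel

set_option autoImplicit false
open Cfsg

namespace Cfsg.Agent.S2303

/-- Over a finite field with q elements: a diagonal element of GL₂ with two distinct diagonal entries has centralizer of order (q − 1)² (so q(q + 1) conjugates), and an element of GL₂ with no eigenvector in F² has centralizer of order q² − 1 (so q(q − 1) conjugates). -/
theorem result {F : Type*} [Field F] [Fintype F] (g : Matrix.GeneralLinearGroup (Fin 2) F) :
    ((g : Matrix (Fin 2) (Fin 2) F) 0 1 = 0 → (g : Matrix (Fin 2) (Fin 2) F) 1 0 = 0 → (g : Matrix (Fin 2) (Fin 2) F) 0 0 ≠ (g : Matrix (Fin 2) (Fin 2) F) 1 1 →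
      Nat.card (Subgroup.centralizer ({g} : Set (Matrix.GeneralLinearGroup (Fin 2) F))) = (Fintype.card F - 1) ^ 2) ∧
    ((∀ (c : F) (v : Fin 2 → F), v ≠ 0 → (g : Matrix (Fin 2) (Fin 2) F).mulVec v ≠ c • v) →
      Nat.card (Subgroup.centralizer ({g} : Set (Matrix.GeneralLinearGroup (Fin 2) F))) = Fintype.card F ^ 2 - 1) := by
  classical
  set A := (g : Matrix (Fin 2) (Fin 2) F)
  have hcm : ∀ x : GL (Fin 2) F,
      x ∈ Subgroup.centralizer ({g} : Set (GL (Fin 2) F)) ↔
        (x : Matrix (Fin 2) (Fin 2) F) * A = A * (x : Matrix (Fin 2) (Fin 2) F) := by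
    intro x
    rw [Subgroup.mem_centralizer_singleton_iff, ← Units.val_inj, Units.val_mul, Units.val_mul]
  constructor
  · intro h01 h10 hne
    have hkey : ∀ x : GL (Fin 2) F, x ∈ Subgroup.centralizer ({g} : Set (GL (Fin 2) F)) →
        (x : Matrix (Fin 2) (Fin 2) F) 0 1 = 0 ∧ (x : Matrix (Fin 2) (Fin 2) F) 1 0 = 0 := by
      intro x hx
      have h := (hcm x).1 hx
      have e01 := congrFun (congrFun h 0) 1
      have e10 := congrFun (congrFun h 1) 0
      simp only [A, Matrix.mul_apply, Fin.sum_univ_two, h01, h10, mul_zero, zero_mul, add_zero,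
        zero_add] at e01 e10
      exact ⟨(mul_eq_zero.1 (show ((g : Matrix (Fin 2) (Fin 2) F) 0 0 -
        (g : Matrix (Fin 2) (Fin 2) F) 1 1) * _ = 0 by linear_combination -e01)).resolve_left
          (sub_ne_zero.2 hne),
        (mul_eq_zero.1 (show ((g : Matrix (Fin 2) (Fin 2) F) 0 0 -
        (g : Matrix (Fin 2) (Fin 2) F) 1 1) * _ = 0 by linear_combination e10)).resolve_left
          (sub_ne_zero.2 hne)⟩
    rw [Nat.card_congr
      { toFun := fun x : Subgroup.centralizer ({g} : Set (GL (Fin 2) F)) =>
          (Units.mk0 ((x.1 : Matrix (Fin 2) (Fin 2) F) 0 0) (by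
            intro h
            exact CfsgLib.GL2Char.det_entries_ne x.1 (by rw [h, (hkey x.1 x.2).1]; ring)),
          Units.mk0 ((x.1 : Matrix (Fin 2) (Fin 2) F) 1 1) (by
            intro h
            exact CfsgLib.GL2Char.det_entries_ne x.1 (by rw [h, (hkey x.1 x.2).1]; ring)))
        invFun := fun p : Fˣ × Fˣ => ⟨CfsgLib.GL2Char.mk (p.1 : F) 0 0 (p.2 : F) (by simp),
          (hcm _).2 (by
            ext i j
            fin_cases i <;> fin_cases j <;>
              simp [A, CfsgLib.GL2Char.coe_mk, Matrix.mul_apply, Fin.sum_univ_two, h01, h10,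
                mul_comm])⟩
        left_inv := fun x => by
          apply Subtype.ext
          apply Units.ext
          ext i j
          fin_cases i <;> fin_cases j <;>
            simp [CfsgLib.GL2Char.coe_mk, (hkey x.1 x.2).1, (hkey x.1 x.2).2]
        right_inv := fun p => by
          refine Prod.ext (Units.ext ?_) (Units.ext ?_) <;> simp [CfsgLib.GL2Char.coe_mk] },
      Nat.card_prod, Nat.card_units, Nat.card_eq_fintype_card, sq]
  · intro hno
    have hb : A 1 0 ≠ 0 := by
      intro h
      refine hno (A 0 0) ![1, 0] (by simp) ?_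
      funext i
      fin_cases i <;> simp [A, Matrix.mulVec, dotProduct, Fin.sum_univ_two, h] at h ⊢
    let T : F × F → Matrix (Fin 2) (Fin 2) F := fun p => p.1 • 1 + p.2 • A
    have hTdet : ∀ p : F × F, p ≠ 0 → (T p).det ≠ 0 := by
      intro p hp hd
      obtain ⟨v, hv, hTv⟩ := Matrix.exists_mulVec_eq_zero_iff.2 hd
      simp only [T, Matrix.add_mulVec, Matrix.smul_mulVec, Matrix.one_mulVec] at hTv
      by_cases hk : p.2 = 0
      · rw [hk, zero_smul, add_zero, smul_eq_zero] at hTv
        exact hp (Prod.ext (hTv.resolve_right hv) hk)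
      · refine hno (-p.1 / p.2) v hv ?_
        have h2 : p.2 • A.mulVec v = -(p.1 • v) := eq_neg_of_add_eq_zero_right hTv
        have h3 := congrArg (p.2⁻¹ • ·) h2
        simp only [smul_smul, inv_mul_cancel₀ hk, one_smul, smul_neg] at h3
        rw [show (g : Matrix (Fin 2) (Fin 2) F).mulVec v = A.mulVec v from rfl, h3, ← neg_smul]
        congr 1
        rw [div_eq_inv_mul]
        ring
    let mkT : {p : F × F // p ≠ 0} → Subgroup.centralizer ({g} : Set (GL (Fin 2) F)) := fun p =>
      ⟨Matrix.GeneralLinearGroup.mkOfDetNeZero (T p.1) (hTdet p.1 p.2), (hcm _).2 (by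
        show T p.1 * A = A * T p.1
        simp only [T, add_mul, mul_add, smul_mul_assoc, mul_smul_comm, one_mul, mul_one])⟩
    have hbij : Function.Bijective mkT := by
      constructor
      · rintro ⟨p, hp⟩ ⟨r, hr⟩ hpr
        have h : T p = T r := congrArg (fun x : Subgroup.centralizer ({g} : Set (GL (Fin 2) F)) =>
          ((x : GL (Fin 2) F) : Matrix (Fin 2) (Fin 2) F)) hpr
        have h10 := congrFun (congrFun h 1) 0
        have h00 := congrFun (congrFun h 0) 0
        simp only [T, Matrix.add_apply, Matrix.smul_apply, smul_eq_mul, Matrix.one_apply,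
          one_ne_zero, if_false, mul_zero, zero_add, if_true, mul_one] at h10 h00
        have h2 := mul_right_cancel₀ hb h10
        rw [h2, add_left_inj] at h00
        exact Subtype.ext (Prod.ext h00 h2)
      · rintro ⟨x, hx⟩
        have h := (hcm x).1 hx
        set X := (x : Matrix (Fin 2) (Fin 2) F)
        set k := X 1 0 / A 1 0 with hk
        have hk' : X 1 0 = k * A 1 0 := by rw [hk, div_mul_cancel₀ _ hb]
        have e00 := congrFun (congrFun h 0) 0
        have e10 := congrFun (congrFun h 1) 0
        simp only [Matrix.mul_apply, Fin.sum_univ_two] at e00 e10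
        have h01 : X 0 1 = k * A 0 1 := mul_right_cancel₀ hb (by
          linear_combination e00 + A 0 1 * hk')
        have h11 : X 1 1 = (X 0 0 - k * A 0 0) + k * A 1 1 := mul_right_cancel₀ hb (by
          linear_combination e10 + (A 1 1 - A 0 0) * hk')
        have hTp : T (X 0 0 - k * A 0 0, k) = X := by
          ext i j
          fin_cases i <;> fin_cases j <;> simp [T, hk', h01, h11]
        refine ⟨⟨(X 0 0 - k * A 0 0, k), fun hp => ?_⟩, Subtype.ext (Units.ext hTp)⟩
        apply CfsgLib.GL2Char.det_entries_ne x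
        have hX : X = 0 := by
          rw [← hTp, hp]
          simp [T]
        simp [X] at hX
    have hcard := Nat.card_congr (Equiv.ofBijective mkT hbij)
    rw [← hcard, Nat.card_eq_fintype_card, Fintype.card_subtype_compl, Fintype.card_subtype_eq,
      Fintype.card_prod, sq]

end Cfsg.Agent.S2303
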