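import Cfsg.Statements.S2306
import Cfsg.Agent.Lib.GL2Char.Twist

set_option autoImplicit false
open Cfsg

namespace Cfsg.Agent.S2306

/-- Over a finite field F, for a multiplicative character α of F, the function induced to SL₂ from the linear character b ↦ α(b₁₁) of the upper triangular subgroup is an irreducible character if and only if α² ≠ 1. -/
theorem result {F : Type*} [Field F] [Fintype F] [DecidableEq F] (α : MulChar F ℂ) :
    Cfsg.IsIrrCharacter (Matrix.SpecialLinearGroup (Fin 2) F) (Cfsg.indFun ((Cfsg.upperTriangularGL 2 F).comap Matrix.SpecialLinearGroup.toGL) (fun b => α (((b : Matrix.SpecialLinearGroup (Fin 2) F) : Matrix (Fin 2) (Fin 2) F) 0 0))) ↔ α ^ 2 ≠ 1 := by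
  classical
  have hinv : α ^ 2 ≠ 1 ↔ ¬ α = α⁻¹ := by
    rw [eq_inv_iff_mul_eq_one, sq]
  constructor
  · intro h
    rw [hinv]
    intro he
    have h1 := CfsgLib.Char.classInner_irrCharacter ⟨_, h⟩ ⟨_, h⟩
    rw [if_pos rfl] at h1
    change Cfsg.classInner (CfsgLib.SL2Borel.R α) (CfsgLib.SL2Borel.R α) = 1 at h1
    rw [CfsgLib.SL2Borel.classInner_R, if_pos rfl, if_pos he] at h1
    norm_num at h1
  · intro h
    refine CfsgLib.Char.IsCharacter.isIrrCharacter_of_classInner_self
      (CfsgLib.SL2Deg.exists_nat_classInner_R α) ?_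
    rw [CfsgLib.SL2Borel.classInner_R, if_pos rfl, if_neg (hinv.1 h), add_zero]

end Cfsg.Agent.S2306
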