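import Cfsg.Statements.S2308
import Cfsg.Agent.Lib.GL2Char.Borel

set_option autoImplicit false
open Cfsg

namespace Cfsg.Agent.S2308

/-- Values of the permutation character of GL₂ over a finite field F with q elements on the cosets of its upper triangular subgroup (equivalently, the number of lines of F² that an element maps to themselves): q + 1 at a scalar matrix, 2 at a diagonal matrix with two different diagonal entries, 0 at an element with no eigenvector in F², and 1 at an upper triangular matrix with equal diagonal entries and non-zero upper right entry. -/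
theorem result {F : Type*} [Field F] [Fintype F] (g : Matrix.GeneralLinearGroup (Fin 2) F) :
    ((∃ a : F, (g : Matrix (Fin 2) (Fin 2) F) = a • (1 : Matrix (Fin 2) (Fin 2) F)) → Cfsg.fixedPointCharacter (Cfsg.upperTriangularGL 2 F) g = Fintype.card F + 1) ∧
    ((g : Matrix (Fin 2) (Fin 2) F) 0 1 = 0 → (g : Matrix (Fin 2) (Fin 2) F) 1 0 = 0 → (g : Matrix (Fin 2) (Fin 2) F) 0 0 ≠ (g : Matrix (Fin 2) (Fin 2) F) 1 1 →
      Cfsg.fixedPointCharacter (Cfsg.upperTriangularGL 2 F) g = 2) ∧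
    ((∀ (c : F) (v : Fin 2 → F), v ≠ 0 → (g : Matrix (Fin 2) (Fin 2) F).mulVec v ≠ c • v) → Cfsg.fixedPointCharacter (Cfsg.upperTriangularGL 2 F) g = 0) ∧
    ((g : Matrix (Fin 2) (Fin 2) F) 1 0 = 0 → (g : Matrix (Fin 2) (Fin 2) F) 0 0 = (g : Matrix (Fin 2) (Fin 2) F) 1 1 → (g : Matrix (Fin 2) (Fin 2) F) 0 1 ≠ 0 →
      Cfsg.fixedPointCharacter (Cfsg.upperTriangularGL 2 F) g = 1) := by
  classical
  have hR : ∀ x, Cfsg.fixedPointCharacter (Cfsg.upperTriangularGL 2 F) x =
      CfsgLib.GL2Char.R (1 : MulChar F ℂ) 1 x := by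
    intro x
    rw [CfsgLib.GL2Char.R, CfsgLib.Char.indFun_eq_sum_transversal _ _ (fun a b => by
      exact CfsgLib.Char.IsCharacter.isClassFunction
        (CfsgLib.Char.IsIrrCharacter.isCharacter (CfsgLib.Char.isIrrCharacter_monoidHom
          (CfsgLib.GL2Char.bHom (1 : MulChar F ℂ) 1).toHomUnits)) a b)]
    have hterm : ∀ i : GL (Fin 2) F ⧸ Cfsg.upperTriangularGL 2 F,
        Cfsg.extendByZero (Cfsg.upperTriangularGL 2 F)
          (fun b => (1 : MulChar F ℂ) (((b : GL (Fin 2) F) : Matrix (Fin 2) (Fin 2) F) 0 0) *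
            (1 : MulChar F ℂ) (((b : GL (Fin 2) F) : Matrix (Fin 2) (Fin 2) F) 1 1))
          (i.out⁻¹ * x * i.out) = if x • i = i then 1 else 0 := by
      intro i
      have hiff : x • i = i ↔ i.out⁻¹ * x * i.out ∈ Cfsg.upperTriangularGL 2 F := by
        conv_lhs => rw [← QuotientGroup.out_eq' i]
        rw [MulAction.Quotient.smul_mk, eq_comm, QuotientGroup.eq, smul_eq_mul, mul_assoc]
      by_cases h : i.out⁻¹ * x * i.out ∈ Cfsg.upperTriangularGL 2 F
      · rw [CfsgLib.Char.extendByZero_apply_mem _ _ h, if_pos (hiff.2 h)]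
        have hd := CfsgLib.GL2Char.det_entries_ne (i.out⁻¹ * x * i.out)
        rw [CfsgLib.GL2Char.mem_B_iff.1 h, mul_zero, sub_zero, mul_ne_zero_iff] at hd
        rw [MulChar.one_apply (isUnit_iff_ne_zero.2 hd.1),
          MulChar.one_apply (isUnit_iff_ne_zero.2 hd.2), one_mul]
      · rw [CfsgLib.Char.extendByZero_of_notMem _ _ h, if_neg (fun e => h (hiff.1 e))]
    rw [Finset.sum_congr rfl fun i _ => hterm i, CfsgLib.GL2Char.sum_ite_eq_card, mul_one]
    rfl
  have hdet := CfsgLib.GL2Char.det_entries_ne g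
  have hone : ∀ {a : F}, a ≠ 0 → (1 : MulChar F ℂ) a = 1 := fun h =>
    MulChar.one_apply (isUnit_iff_ne_zero.2 h)
  rw [hR]
  refine ⟨?_, fun h01 h10 hne => ?_, fun h => CfsgLib.GL2Char.R_noEigen 1 1 h,
    fun h10 he h01 => ?_⟩
  · rintro ⟨a, ha⟩
    have h10 : (g : Matrix (Fin 2) (Fin 2) F) 1 0 = 0 := by rw [ha]; simp
    have h00 : (g : Matrix (Fin 2) (Fin 2) F) 0 0 = a := by rw [ha]; simp
    have h11 : (g : Matrix (Fin 2) (Fin 2) F) 1 1 = a := by rw [ha]; simp
    have h01 : (g : Matrix (Fin 2) (Fin 2) F) 0 1 = 0 := by rw [ha]; simp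
    rw [h10, mul_zero, sub_zero, h00, h11, mul_ne_zero_iff] at hdet
    rw [CfsgLib.GL2Char.R_triangular 1 1 h10, if_pos (h00.trans h11.symm), if_pos h01, h00, h11,
      hone hdet.1]
    ring
  · rw [h10, mul_zero, sub_zero, mul_ne_zero_iff] at hdet
    rw [CfsgLib.GL2Char.R_triangular 1 1 h10, if_neg hne, hone hdet.1, hone hdet.2]
    norm_num
  · rw [h10, mul_zero, sub_zero, mul_ne_zero_iff] at hdet
    rw [CfsgLib.GL2Char.R_triangular 1 1 h10, if_pos he, if_neg h01, hone hdet.1, hone hdet.2]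
    norm_num

end Cfsg.Agent.S2308
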