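import Cfsg.Statements.S2309
import Cfsg.Agent.Lib.GL2Char.Classify

set_option autoImplicit false
open Cfsg

namespace Cfsg.Agent.S2309

/-- Over a finite field F with q elements: every irreducible complex character of GL₂ of degree q − 1 vanishes at every diagonal matrix with two distinct entries, and every irreducible complex character of degree q + 1 vanishes at every element with no eigenvector in F². -/
theorem result {F : Type*} [Field F] [Fintype F] (χ : Matrix.GeneralLinearGroup (Fin 2) F → ℂ) (hχ : Cfsg.IsIrrCharacter (Matrix.GeneralLinearGroup (Fin 2) F) χ) (g : Matrix.GeneralLinearGroup (Fin 2) F) :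
    (χ 1 = (Fintype.card F : ℂ) - 1 → (g : Matrix (Fin 2) (Fin 2) F) 0 1 = 0 → (g : Matrix (Fin 2) (Fin 2) F) 1 0 = 0 → (g : Matrix (Fin 2) (Fin 2) F) 0 0 ≠ (g : Matrix (Fin 2) (Fin 2) F) 1 1 → χ g = 0) ∧
    (χ 1 = (Fintype.card F : ℂ) + 1 → (∀ (c : F) (v : Fin 2 → F), v ≠ 0 → (g : Matrix (Fin 2) (Fin 2) F).mulVec v ≠ c • v) → χ g = 0) := by
  classical
  obtain ⟨L, S, D, E, hall, -, -, hD, -, vL, vS, vD, vE⟩ :=
    CfsgLib.GL2Char.gl2_table (F := F)
  have hq2 : 2 ≤ Fintype.card F := Fintype.one_lt_card
  refine ⟨fun h h01 h10 hne => ?_, fun h hg => ?_⟩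
  · have hdet := CfsgLib.GL2Char.det_entries_ne g
    rw [h10, mul_zero, sub_zero, mul_ne_zero_iff] at hdet
    have hq : 3 ≤ Fintype.card F := by
      by_contra hlt
      have hsub : ∀ x : F, x = 0 ∨ x = 1 := by
        intro x
        by_contra hx
        push Not at hx
        have hc : ({0, 1, x} : Finset F).card = 3 :=
          Finset.card_eq_three.2 ⟨0, 1, x, zero_ne_one, hx.1.symm, hx.2.symm, rfl⟩
        have := Finset.card_le_univ ({0, 1, x} : Finset F)
        omega
      exact hne ((((hsub _).resolve_left hdet.1)).trans ((hsub _).resolve_left hdet.2).symm)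
    rcases hall ⟨χ, hχ⟩ with h' | h' | h' | h'
    · have e : ((Fintype.card F : ℂ)) = 2 := by linear_combination (vL _ h').1 - h
      have : Fintype.card F = 2 := by exact_mod_cast e
      omega
    · have e : (1 : ℂ) = 0 := by linear_combination h - (vS _ h').1
      norm_num at e
    · have e : (2 : ℂ) = 0 := by linear_combination h - (vD _ h').1
      norm_num at e
    · have hv := (vE _ h').2.2 (Units.mk0 _ hdet.1) (Units.mk0 _ hdet.2)
        (fun e => hne (congrArg Units.val e))
      rw [← hv]
      show χ g = χ _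
      congr 1
      apply Units.ext
      rw [CfsgLib.GL2Char.bEquiv_symm_coe]
      ext i j
      fin_cases i <;> fin_cases j <;> simp [h01, h10]
  · rcases hall ⟨χ, hχ⟩ with h' | h' | h' | h'
    · have e : (Fintype.card F : ℂ) = 0 := by linear_combination (vL _ h').1 - h
      have : Fintype.card F = 0 := by exact_mod_cast e
      omega
    · have e : (1 : ℂ) = 0 := by linear_combination (vS _ h').1 - h
      norm_num at e
    · exact (vD _ h').2.2 g hg
    · have e : (2 : ℂ) = 0 := by linear_combination (vE _ h').1 - h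
      norm_num at e

end Cfsg.Agent.S2309
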