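import Cfsg.Statements.S2310
import Cfsg.Agent.Lib.GL2Char.Classify

set_option autoImplicit false
open Cfsg

namespace Cfsg.Agent.S2310

/-- Over a finite field F with q ≥ 3 elements, let u be the upper unitriangular matrix of GL₂ with off-diagonal entry 1. An irreducible complex character χ of GL₂ takes at u the value 1 if χ has degree 1 or q + 1, the value −1 if χ has degree q − 1, and the value 0 if χ has degree q. -/
theorem result {F : Type*} [Field F] [Fintype F] (hq : 3 ≤ Fintype.card F) (χ : Matrix.GeneralLinearGroup (Fin 2) F → ℂ) (hχ : Cfsg.IsIrrCharacter (Matrix.GeneralLinearGroup (Fin 2) F) χ)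
    (u : Matrix.GeneralLinearGroup (Fin 2) F) (hu : (u : Matrix (Fin 2) (Fin 2) F) = !![1, 1; 0, 1]) :
    (χ 1 = 1 → χ u = 1) ∧ (χ 1 = (Fintype.card F : ℂ) + 1 → χ u = 1) ∧
    (χ 1 = (Fintype.card F : ℂ) - 1 → χ u = -1) ∧ (χ 1 = (Fintype.card F : ℂ) → χ u = 0) := by
  classical
  obtain ⟨L, S, D, E, hall, -, -, -, -, vL, vS, vD, vE⟩ :=
    CfsgLib.GL2Char.gl2_table (F := F)
  have hu' : u = CfsgLib.GL2Char.ug 1 := Units.ext hu
  rw [hu']
  obtain ⟨d, hd⟩ : ∃ d : ℕ, Fintype.card F = d + 3 := ⟨Fintype.card F - 3, by omega⟩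
  obtain ⟨h1, hv⟩ : ∃ n : ℕ, χ 1 = (n : ℂ) ∧
      ((n = 1 ∧ χ (CfsgLib.GL2Char.ug 1) = 1) ∨
        (n = d + 3 ∧ χ (CfsgLib.GL2Char.ug 1) = 0) ∨
        (n = d + 4 ∧ χ (CfsgLib.GL2Char.ug 1) = 1) ∨
        (n = d + 2 ∧ χ (CfsgLib.GL2Char.ug 1) = -1)) := by
    rcases hall ⟨χ, hχ⟩ with h | h | h | h
    · exact ⟨1, by simpa using (vL _ h).1, Or.inl ⟨rfl, (vL _ h).2⟩⟩
    · exact ⟨d + 3, by rw [← hd]; exact (vS _ h).1, Or.inr (Or.inl ⟨rfl, (vS _ h).2⟩)⟩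
    · refine ⟨d + 4, ?_, Or.inr (Or.inr (Or.inl ⟨rfl, (vD _ h).2.1⟩))⟩
      have h0 : χ 1 = (Fintype.card F : ℂ) + 1 := (vD _ h).1
      rw [h0, hd]
      push_cast
      ring
    · refine ⟨d + 2, ?_, Or.inr (Or.inr (Or.inr ⟨rfl, (vE _ h).2.1⟩))⟩
      have h0 : χ 1 = (Fintype.card F : ℂ) - 1 := (vE _ h).1
      rw [h0, hd]
      push_cast
      ring
  obtain ⟨hn, hcases⟩ := hv
  rw [hn, hd]
  refine ⟨fun e => ?_, fun e => ?_, fun e => ?_, fun e => ?_⟩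
  · have e' : h1 = 1 := by exact_mod_cast e
    rcases hcases with ⟨a, b⟩ | ⟨a, b⟩ | ⟨a, b⟩ | ⟨a, b⟩ <;> first | exact b | (exfalso; omega)
  · have e' : h1 = d + 4 := Nat.cast_injective (R := ℂ) (by push_cast at e ⊢; linear_combination e)
    rcases hcases with ⟨a, b⟩ | ⟨a, b⟩ | ⟨a, b⟩ | ⟨a, b⟩ <;> first | exact b | (exfalso; omega)
  · have e' : h1 = d + 2 := Nat.cast_injective (R := ℂ) (by push_cast at e ⊢; linear_combination e)
    rcases hcases with ⟨a, b⟩ | ⟨a, b⟩ | ⟨a, b⟩ | ⟨a, b⟩ <;> first | exact b | (exfalso; omega)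
  · have e' : h1 = d + 3 := Nat.cast_injective (R := ℂ) (by push_cast at e ⊢; linear_combination e)
    rcases hcases with ⟨a, b⟩ | ⟨a, b⟩ | ⟨a, b⟩ | ⟨a, b⟩ <;> first | exact b | (exfalso; omega)

end Cfsg.Agent.S2310
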