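import Cfsg.Statements.S2315
import Cfsg.Agent.Lib.UnipotentGL.NilpotentCount

set_option autoImplicit false
open Cfsg

namespace Cfsg.Agent.S2315

/-- Steinberg's count of unipotent elements for the general linear group: over a finite field with q elements of characteristic p, the number of elements of GL_n of p-power order (the unipotent matrices) is q^(n(n−1)). -/
theorem result {F : Type*} [Field F] [Fintype F] (p : ℕ) [Fact p.Prime] [CharP F p] (n : ℕ) :
    Nat.card {g : Matrix.GeneralLinearGroup (Fin n) F // ∃ k : ℕ, orderOf g = p ^ k} = Fintype.card F ^ (n * (n - 1)) := by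
  classical
  have key : ∀ x : Matrix (Fin n) (Fin n) F, IsNilpotent (x - 1) ↔ ∃ k : ℕ, x ^ p ^ k = 1 := by
    intro x
    haveI : Fact p.Prime := inferInstance
    rcases Nat.eq_zero_or_pos n with rfl | hn
    · exact ⟨fun _ => ⟨0, Subsingleton.elim _ _⟩, fun _ => ⟨1, Subsingleton.elim _ _⟩⟩
    haveI : Nonempty (Fin n) := ⟨⟨0, hn⟩⟩
    have e : ∀ k, (x - 1) ^ p ^ k = x ^ p ^ k - 1 := fun k => by
      rw [sub_pow_char_pow_of_commute (p := p) (n := k) (Commute.one_right x), one_pow]
    constructor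
    · rintro ⟨m, hm⟩
      refine ⟨m, sub_eq_zero.1 ?_⟩
      rw [← e]
      exact pow_eq_zero_of_le (Nat.lt_pow_self (Fact.out : p.Prime).one_lt).le hm
    · rintro ⟨k, hk⟩
      exact ⟨p ^ k, by rw [e, hk, sub_self]⟩
  have key2 : ∀ g : Matrix.GeneralLinearGroup (Fin n) F,
      (∃ k : ℕ, orderOf g = p ^ k) ↔ IsNilpotent ((g : Matrix (Fin n) (Fin n) F) - 1) := by
    intro g
    rw [key]
    constructor
    · rintro ⟨k, hk⟩
      exact ⟨k, by rw [← Units.val_pow_eq_pow_val, ← hk, pow_orderOf_eq_one, Units.val_one]⟩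
    · rintro ⟨k, hk⟩
      obtain ⟨j, -, hj⟩ := (Nat.dvd_prime_pow (Fact.out : p.Prime)).1
        (orderOf_dvd_of_pow_eq_one (show g ^ p ^ k = 1 from Units.ext (by rw [Units.val_pow_eq_pow_val, hk]; rfl)))
      exact ⟨j, hj⟩
  let e : {g : Matrix.GeneralLinearGroup (Fin n) F // ∃ k : ℕ, orderOf g = p ^ k} ≃
      {x : Matrix (Fin n) (Fin n) F // IsNilpotent x} :=
    { toFun := fun g => ⟨(g.1 : Matrix (Fin n) (Fin n) F) - 1, (key2 g.1).1 g.2⟩
      invFun := fun x => ⟨(IsNilpotent.isUnit_one_add x.2).unit, (key2 _).2 (by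
        rw [IsUnit.unit_spec, add_sub_cancel_left]; exact x.2)⟩
      left_inv := fun g => Subtype.ext (Units.ext (add_sub_cancel _ _))
      right_inv := fun x => Subtype.ext (add_sub_cancel_left _ _) }
  let f : {x : Matrix (Fin n) (Fin n) F // IsNilpotent x} ≃
      {T : Module.End F (Fin n → F) // IsNilpotent T} :=
    (Matrix.toLinAlgEquiv' (R := F) (n := Fin n)).toEquiv.subtypeEquiv fun x =>
      (IsNilpotent.map_iff (Matrix.toLinAlgEquiv' (R := F) (n := Fin n)).injective).symm
  rw [Nat.card_congr (e.trans f)]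
  exact CfsgLib.NilpotentCount.card_nilpotent n (Fin n → F) (Module.finrank_fin_fun F)

end Cfsg.Agent.S2315
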