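import Cfsg.Statements.S2316
import Cfsg.Agent.Lib.SpUnipCount.Fitting

set_option autoImplicit false
open Cfsg

namespace Cfsg.Agent.S2316

open CfsgLib.SpUnipCount CfsgLib.SympGeom CfsgLib.Linear.Symp Matrix
open Module (finrank)

variable {F : Type*} [Field F] [Fintype F]

theorem card_sp (m : ℕ) : (Nat.card ↥(Matrix.symplecticGroup (Fin m) F) : ℚ) =
    (Fintype.card F : ℚ) ^ (m ^ 2) * P2 (Fintype.card F : ℚ) m := by
  rw [CfsgLib.Linear.Symp.card_symplectic, Nat.cast_mul, Nat.cast_pow, Nat.cast_prod, P2]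
  congr 1
  refine Finset.prod_congr rfl fun i _ => ?_
  rw [Nat.cast_sub (Nat.one_le_pow _ _ Fintype.card_pos), Nat.cast_pow, Nat.cast_one]

theorem card_unip : ∀ m : ℕ, (Nat.card (Unip m F) : ℚ) =
    Nat.card ↥(Matrix.symplecticGroup (Fin m) F) * uCoef (Fintype.card F : ℚ) m := by
  classical
  intro m
  induction m using Nat.strong_induction_on with
  | _ m ih =>
    set q : ℚ := (Fintype.card F : ℚ) with hqdef
    have hq : (1 : ℚ) < q := by rw [hqdef]; exact_mod_cast Fintype.one_lt_card
    have hpos : ∀ i, (Nat.card ↥(Matrix.symplecticGroup (Fin i) F) : ℚ) ≠ 0 := fun i =>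
      Nat.cast_ne_zero.mpr Nat.card_pos.ne'
    set n := (Nat.card ↥(Matrix.symplecticGroup (Fin m) F) : ℚ) with hn
    have hS : ∀ p ∈ Finset.HasAntidiagonal.antidiagonal m,
        (Nat.card {g : ↥(Matrix.symplecticGroup (Fin m) F) // finrank F (genFix g) = 2 * p.1} : ℚ) =
          n * ((Nat.card (Unip p.1 F) : ℚ) / Nat.card ↥(Matrix.symplecticGroup (Fin p.1) F) *
            eCoef q p.2) := by
      rintro ⟨j, r⟩ hp
      rw [Finset.HasAntidiagonal.mem_antidiagonal] at hp
      obtain rfl : j + r = m := hp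
      have h := congrArg (fun x : ℕ => (x : ℚ)) (card_genFix_eq (F := F) j r)
      simp only [Nat.cast_mul, card_free, ← hqdef] at h
      rw [hn]
      have h1 := hpos j
      have h2 := hpos r
      field_simp
      refine mul_right_cancel₀ h2 ?_
      linear_combination h
    have htot : (∑ p ∈ Finset.HasAntidiagonal.antidiagonal m,
        (Nat.card {g : ↥(Matrix.symplecticGroup (Fin m) F) // finrank F (genFix g) = 2 * p.1} : ℚ)) =
          n := by
      rw [hn, ← Nat.cast_sum, Nat.cast_inj, Nat.card_eq_fintype_card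
        (α := ↥(Matrix.symplecticGroup (Fin m) F)), ← Finset.card_univ]
      have hmaps : ∀ g ∈ (Finset.univ : Finset ↥(Matrix.symplecticGroup (Fin m) F)),
          ((finrank F (genFix g)) / 2, m - (finrank F (genFix g)) / 2) ∈
            Finset.HasAntidiagonal.antidiagonal m := by
        intro g _
        rw [Finset.HasAntidiagonal.mem_antidiagonal]
        have := (genFix g).finrank_le.trans (le_of_eq CfsgLib.SympGeom.finrank_space)
        omega
      rw [Finset.card_eq_sum_card_fiberwise hmaps]
      refine Finset.sum_congr rfl fun p hp => ?_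
      rw [Nat.card_eq_fintype_card, Fintype.card_subtype]
      congr 1
      ext g
      rw [Finset.HasAntidiagonal.mem_antidiagonal] at hp
      obtain ⟨j, hj⟩ : ∃ j, finrank F (genFix g) = 2 * j := by
        have hc := isCompl_gen g
        obtain ⟨j, hj, -⟩ := exists_std (genFix g) (fun x hx h => eq_zero_of_forall_form fun w => by
          obtain ⟨a, ha, b, hb, rfl⟩ :=
            Submodule.mem_sup.mp (hc.sup_eq_top ▸ Submodule.mem_top : w ∈ genFix g ⊔ genMove g)
          rw [form_add_right, h a ha, orth_gen hx hb, add_zero])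
        exact ⟨j, hj⟩
      simp only [Finset.mem_filter, Finset.mem_univ, true_and, Prod.ext_iff]
      omega
    rw [Finset.sum_congr rfl hS, ← Finset.mul_sum] at htot
    have hone : ∑ p ∈ Finset.HasAntidiagonal.antidiagonal m,
        (Nat.card (Unip p.1 F) : ℚ) / Nat.card ↥(Matrix.symplecticGroup (Fin p.1) F) *
          eCoef q p.2 = 1 :=
      mul_left_cancel₀ (hpos m) (htot.trans (mul_one _).symm)
    have hmem : (m, 0) ∈ Finset.HasAntidiagonal.antidiagonal m := by simp
    have hsum := sum_u_e q hq m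
    rw [← Finset.add_sum_erase _ _ hmem] at hone hsum
    have hrest : ∀ p ∈ (Finset.HasAntidiagonal.antidiagonal m).erase (m, 0),
        (Nat.card (Unip p.1 F) : ℚ) / Nat.card ↥(Matrix.symplecticGroup (Fin p.1) F) *
          eCoef q p.2 = uCoef q p.1 * eCoef q p.2 := by
      intro p hp
      rw [Finset.mem_erase, Finset.HasAntidiagonal.mem_antidiagonal] at hp
      have hlt : p.1 < m := by
        by_contra hge
        exact hp.1 (Prod.ext (by omega : p.1 = m) (by omega : p.2 = 0))
      rw [ih p.1 hlt, mul_div_cancel_left₀ _ (hpos p.1)]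
    rw [Finset.sum_congr rfl hrest] at hone
    have he0 : eCoef q 0 = 1 := by simp [eCoef, aCoef, bCoef, P1, P2]
    simp only [he0, mul_one] at hone hsum
    have := hone.trans hsum.symm
    rw [add_left_inj, div_eq_iff (hpos m)] at this
    rw [this, mul_comm]

theorem unipotent_iff (p : ℕ) [Fact p.Prime] [CharP F p] {m : ℕ}
    (g : ↥(Matrix.symplecticGroup (Fin m) F)) :
    (∃ k : ℕ, orderOf g = p ^ k) ↔ IsNilpotent (shift g) := by
  rcases Nat.eq_zero_or_pos m with rfl | hm
  · have hg : g = 1 := Subtype.ext (Subsingleton.elim _ _)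
    subst hg
    exact ⟨fun _ => ⟨1, LinearMap.ext fun v => funext fun i => by rcases i with i | i <;> exact i.elim0⟩,
      fun _ => ⟨0, by simp⟩⟩
  haveI : Nonempty (Fin m ⊕ Fin m) := ⟨Sum.inl ⟨0, hm⟩⟩
  have hshift : shift g = Matrix.toLinAlgEquiv' (g.1 - 1) := by
    rw [map_sub, map_one]; rfl
  rw [hshift, IsNilpotent.map_iff Matrix.toLinAlgEquiv'.injective]
  have hpow : ∀ k, (g.1 - 1) ^ p ^ k = g.1 ^ p ^ k - 1 := fun k => by
    rw [sub_pow_char_pow_of_commute _ _ (Commute.one_right _), one_pow]
  constructor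
  · rintro ⟨k, hk⟩
    refine ⟨p ^ k, ?_⟩
    rw [hpow, ← SubmonoidClass.coe_pow, ← hk, pow_orderOf_eq_one, OneMemClass.coe_one, sub_self]
  · rintro ⟨n, hn⟩
    have h1 : g ^ p ^ n = 1 := by
      refine Subtype.ext ?_
      rw [SubmonoidClass.coe_pow, OneMemClass.coe_one, ← sub_eq_zero, ← hpow]
      exact pow_eq_zero_of_le (Nat.lt_pow_self (Fact.out : p.Prime).one_lt).le hn
    obtain ⟨k, -, hk⟩ := (Nat.dvd_prime_pow Fact.out).mp (orderOf_dvd_of_pow_eq_one h1)
    exact ⟨k, hk⟩

/-- Steinberg's count of unipotent elements for the symplectic group: over a finite field with q elements of characteristic p, the number of elements of Sp_{2m} of p-power order is q^(2m²). -/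
theorem result {F : Type*} [Field F] [Fintype F] (p : ℕ) [Fact p.Prime] [CharP F p] (m : ℕ) :
    Nat.card {g : ↥(Matrix.symplecticGroup (Fin m) F) // ∃ k : ℕ, orderOf g = p ^ k} = Fintype.card F ^ (2 * m ^ 2) := by
  classical
  have h := card_unip (F := F) m
  rw [card_sp, uCoef] at h
  have hq : (1 : ℚ) < (Fintype.card F : ℚ) := by exact_mod_cast Fintype.one_lt_card
  rw [Nat.card_congr (Equiv.subtypeEquivRight fun g => unipotent_iff p g)]
  have : (Nat.card (Unip m F) : ℚ) = ((Fintype.card F ^ (2 * m ^ 2) : ℕ) : ℚ) := by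
    rw [h, Nat.cast_pow, two_mul, pow_add]
    field_simp [P2_ne _ hq m]
  exact_mod_cast this

end Cfsg.Agent.S2316
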