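import Cfsg.Statements.S2317
import Cfsg.Agent.Lib.LinFix.JordanIso

set_option autoImplicit false
set_option linter.style.haveILetI false
open Cfsg

namespace Cfsg.Agent.S2317

/-- Over a finite field of characteristic p, the conjugacy classes of GL_n consisting of elements of p-power order (the unipotent classes) are as many as the partitions of n. -/
theorem result {F : Type*} [Field F] [Fintype F] (p : ℕ) [Fact p.Prime] [CharP F p] (n : ℕ) :
    Nat.card {C : ConjClasses (Matrix.GeneralLinearGroup (Fin n) F) //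
      ∃ g : Matrix.GeneralLinearGroup (Fin n) F, (∃ k : ℕ, orderOf g = p ^ k) ∧ ConjClasses.mk g = C} =
      Fintype.card (Nat.Partition n) := by
  classical
  rcases Nat.eq_zero_or_pos n with rfl | hn
  · haveI : Subsingleton (Matrix.GeneralLinearGroup (Fin 0) F) :=
      ⟨fun a b => Units.ext (Subsingleton.elim _ _)⟩
    rw [Fintype.card_unique]
    haveI : Nonempty {C : ConjClasses (Matrix.GeneralLinearGroup (Fin 0) F) //
      ∃ g : Matrix.GeneralLinearGroup (Fin 0) F, (∃ k : ℕ, orderOf g = p ^ k) ∧ ConjClasses.mk g = C} :=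
      ⟨⟨ConjClasses.mk 1, 1, ⟨0, by rw [orderOf_one, pow_zero]⟩, rfl⟩⟩
    haveI : Subsingleton {C : ConjClasses (Matrix.GeneralLinearGroup (Fin 0) F) //
      ∃ g : Matrix.GeneralLinearGroup (Fin 0) F, (∃ k : ℕ, orderOf g = p ^ k) ∧ ConjClasses.mk g = C} :=
      ⟨by rintro ⟨C, g, _, rfl⟩ ⟨D, h, _, rfl⟩; exact Subtype.ext (congrArg ConjClasses.mk (Subsingleton.elim g h))⟩
    exact Nat.card_eq_one_iff_unique.2 ⟨inferInstance, inferInstance⟩
  haveI : Nonempty (Fin n) := ⟨⟨0, hn⟩⟩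
  let A := Matrix.toLinAlgEquiv' (R := F) (n := Fin n)
  let N : Matrix.GeneralLinearGroup (Fin n) F → Module.End F (Fin n → F) :=
    fun g => A ((g : Matrix (Fin n) (Fin n) F) - 1)
  have e : ∀ (x : Matrix (Fin n) (Fin n) F) k, (x - 1) ^ p ^ k = x ^ p ^ k - 1 := fun x k => by
    rw [sub_pow_char_pow_of_commute (p := p) (n := k) (Commute.one_right x), one_pow]
  have key : ∀ g : Matrix.GeneralLinearGroup (Fin n) F,
      (∃ k : ℕ, orderOf g = p ^ k) ↔ IsNilpotent (N g) := by
    intro g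
    rw [IsNilpotent.map_iff A.injective]
    constructor
    · rintro ⟨k, hk⟩
      exact ⟨p ^ k, by rw [e, ← Units.val_pow_eq_pow_val, ← hk, pow_orderOf_eq_one, Units.val_one, sub_self]⟩
    · rintro ⟨m, hm⟩
      have h1 := pow_eq_zero_of_le (Nat.lt_pow_self (Fact.out : p.Prime).one_lt).le hm
      rw [e, sub_eq_zero] at h1
      obtain ⟨j, -, hj⟩ := (Nat.dvd_prime_pow (Fact.out : p.Prime)).1
        (orderOf_dvd_of_pow_eq_one (show g ^ p ^ m = 1 from Units.ext (by rw [Units.val_pow_eq_pow_val, h1]; rfl)))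
      exact ⟨j, hj⟩
  have hconjN : ∀ (c g : Matrix.GeneralLinearGroup (Fin n) F) (j : ℕ),
      Module.finrank F (LinearMap.range (N (c * g * c⁻¹) ^ j)) =
        Module.finrank F (LinearMap.range (N g ^ j)) := by
    intro c g j
    let u : (Module.End F (Fin n → F))ˣ := Units.map A.toMonoidHom c
    have h1 : N (c * g * c⁻¹) = (u : Module.End F (Fin n → F)) * N g * (↑u⁻¹ : Module.End F (Fin n → F)) := by
      show A _ = A (c : Matrix (Fin n) (Fin n) F) * A _ * A (↑c⁻¹ : Matrix (Fin n) (Fin n) F)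
      rw [← map_mul, ← map_mul]
      congr 1
      rw [mul_sub, sub_mul, mul_one, ← Units.val_mul, ← Units.val_mul, ← Units.val_mul, mul_inv_cancel,
        Units.val_one]
    rw [h1, Units.conj_pow]
    let eu := LinearMap.GeneralLinearGroup.toLinearEquiv u
    show Module.finrank F (LinearMap.range (((eu : (Fin n → F) →ₗ[F] (Fin n → F)).comp (N g ^ j)).comp
      (eu.symm : (Fin n → F) →ₗ[F] (Fin n → F)))) = _
    rw [LinearMap.range_comp_of_range_eq_top _ eu.symm.range, LinearMap.range_comp]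
    exact LinearEquiv.finrank_map_eq eu _
  have hsim : ∀ g h : Matrix.GeneralLinearGroup (Fin n) F, IsNilpotent (N g) → IsNilpotent (N h) →
      (∀ j, Module.finrank F (LinearMap.range (N g ^ j)) = Module.finrank F (LinearMap.range (N h ^ j))) →
      IsConj g h := by
    intro g h hg hh hr
    obtain ⟨ee, hee⟩ := CfsgLib.LinFix.exists_equiv_of_ranks hg hh hr
    let u : (Module.End F (Fin n → F))ˣ := LinearMap.GeneralLinearGroup.ofLinearEquiv ee
    let c : Matrix.GeneralLinearGroup (Fin n) F := Units.map A.symm.toMonoidHom u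
    refine isConj_iff.2 ⟨c, mul_inv_eq_iff_eq_mul.2 (Units.ext ?_)⟩
    apply A.injective
    have hAc : A (c : Matrix (Fin n) (Fin n) F) = (ee : (Fin n → F) →ₗ[F] (Fin n → F)) :=
      A.apply_symm_apply _
    rw [Units.val_mul, Units.val_mul, map_mul, map_mul, hAc]
    refine LinearMap.ext fun v => ?_
    have h1 := hee v
    simp only [N, map_sub, map_one, LinearMap.sub_apply, Module.End.one_apply, sub_left_inj] at h1
    exact h1
  have htype : ∀ C : {C : ConjClasses (Matrix.GeneralLinearGroup (Fin n) F) //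
      ∃ g : Matrix.GeneralLinearGroup (Fin n) F, (∃ k : ℕ, orderOf g = p ^ k) ∧ ConjClasses.mk g = C},
      ∃ μ : Nat.Partition n, ∀ g, ConjClasses.mk g = C.1 → IsNilpotent (N g) ∧
        ∀ j, CfsgLib.LinFix.blockRank μ.parts j = Module.finrank F (LinearMap.range (N g ^ j)) := by
    rintro ⟨C, g, hg, hgC⟩
    obtain ⟨μ, hμ, hr, -⟩ := CfsgLib.LinFix.exists_blocks ((key g).1 hg) ⊤
      (CfsgLib.LinFix.inv_top _)
    have hs : μ.sum = n := by
      rw [← CfsgLib.LinFix.blockRank_zero, ← hr 0, pow_zero, Module.End.one_eq_id, Submodule.map_id,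
        finrank_top, Module.finrank_fin_fun]
    refine ⟨⟨μ, fun {a} ha => hμ a ha, hs⟩, fun g' hg' => ?_⟩
    obtain ⟨c, hc⟩ := isConj_iff.1 (ConjClasses.mk_eq_mk_iff_isConj.1 (hgC.trans hg'.symm))
    subst hc
    obtain ⟨k, hk⟩ := hg
    refine ⟨(key _).1 ⟨k, hk ▸ MulEquiv.orderOf_eq (MulAut.conj c) g⟩, fun j => ?_⟩
    rw [hconjN, ← hr j, Submodule.map_top]
  choose T hT using htype
  rw [← Nat.card_eq_fintype_card]
  refine Nat.card_congr (Equiv.ofBijective T ⟨?_, ?_⟩)
  · rintro ⟨C, g, hg, rfl⟩ ⟨D, h, hh, rfl⟩ hCD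
    apply Subtype.ext
    obtain ⟨hg1, hg2⟩ := hT ⟨_, g, hg, rfl⟩ g rfl
    obtain ⟨hh1, hh2⟩ := hT ⟨_, h, hh, rfl⟩ h rfl
    exact ConjClasses.mk_eq_mk_iff_isConj.2 (hsim g h hg1 hh1 fun j => by rw [← hg2, ← hh2, hCD])
  · intro μ
    obtain ⟨M, hM, hMr⟩ := CfsgLib.LinFix.exists_nilpotent F μ.parts
    let E : (Fin μ.parts.sum → F) ≃ₗ[F] (Fin n → F) := LinearEquiv.funCongrLeft F F (finCongr μ.parts_sum.symm)
    let M' : Module.End F (Fin n → F) := E.conjAlgEquiv F M
    have hM' : IsNilpotent M' := hM.map (E.conjAlgEquiv F)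
    let g : Matrix.GeneralLinearGroup (Fin n) F :=
      (IsNilpotent.isUnit_one_add (hM'.map A.symm)).unit
    have hNg : N g = M' := by
      show A (_ - 1) = _
      rw [IsUnit.unit_spec, add_sub_cancel_left, AlgEquiv.apply_symm_apply]
    have hgn : IsNilpotent (N g) := hNg ▸ hM'
    refine ⟨⟨_, g, (key g).2 hgn, rfl⟩, ?_⟩
    obtain ⟨-, h2⟩ := hT ⟨_, g, (key g).2 hgn, rfl⟩ g rfl
    ext : 1
    refine CfsgLib.LinFix.eq_of_blockRank (fun b hb => Nat.Partition.parts_pos _ hb)
      (fun b hb => μ.parts_pos hb) fun j => ?_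
    rw [h2, hNg, ← hMr j, ← map_pow]
    have h3 : (LinearEquiv.conjAlgEquiv F E) (M ^ j) =
        ((E : (Fin μ.parts.sum → F) →ₗ[F] (Fin n → F)).comp (M ^ j)).comp
          (E.symm : (Fin n → F) →ₗ[F] (Fin μ.parts.sum → F)) := by
      exact LinearMap.ext fun v => rfl
    rw [h3]
    rw [LinearMap.range_comp_of_range_eq_top _ E.symm.range, LinearMap.range_comp]
    exact LinearEquiv.finrank_map_eq E _

end Cfsg.Agent.S2317
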