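import Cfsg.Statements.S2318
import Cfsg.Agent.Lib.Chev.DefectZero

set_option autoImplicit false
open Cfsg

namespace Cfsg.Agent.S2318

/-- In a Chevalley group of type G₂, B₂, D₄, F₄, E₆, E₇ or E₈ over a finite field of characteristic p (for types G₂ and B₂ the field is assumed to have at least 3 elements, so that the group is perfect), the Steinberg character is the only irreducible complex character whose degree is divisible by the full power of p dividing the group order (the only irreducible character of p-defect zero). -/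
theorem result {F : Type*} [Field F] [Fintype F] (p : ℕ) [Fact p.Prime] [CharP F p] (D : Cfsg.Lie.ChevalleyDatum) (hD : D ∈ [Cfsg.Lie.chevG2, Cfsg.Lie.chevB2, Cfsg.Lie.chevD4, Cfsg.Lie.chevF4, Cfsg.Lie.chevE6, Cfsg.Lie.chevE7, Cfsg.Lie.chevE8]) (hq : (D = Cfsg.Lie.chevG2 ∨ D = Cfsg.Lie.chevB2) → 3 ≤ Fintype.card F)
    (χ : ↥(D.group F) → ℂ) (hχ : Cfsg.IsIrrCharacter ↥(D.group F) χ)
    (hdeg : ∃ d : ℕ, χ 1 = (d : ℂ) ∧ p ^ (Nat.card ↥(D.group F)).factorization p ∣ d) :
    χ = D.steinbergCharacter F := by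
  obtain ⟨T, hc, hcomm⟩ := CfsgLib.Chev.exists_checked' hD
  refine CfsgLib.Chev.eq_steinberg_of_vanishing hc hcomm hχ fun u hu hne => ?_
  obtain ⟨d, hd1, hd⟩ := hdeg
  obtain ⟨S, hS⟩ := CfsgLib.ChevAut.sylow_pos hc hcomm (F := F) p
  have huS : u ∈ (S : Subgroup ↥(D.group F)) := by rw [hS]; exact hu
  obtain ⟨k, hk⟩ := IsPGroup.iff_orderOf.1 S.2 ⟨u, huS⟩
  rw [← Subgroup.orderOf_coe] at hk
  change orderOf u = p ^ k at hk
  have hp : p ∣ orderOf u := by
    rw [hk]
    refine dvd_pow_self p fun hk0 => hne ?_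
    rwa [hk0, pow_zero, orderOf_eq_one_iff] at hk
  obtain ⟨n, ρ, hρ, rfl⟩ := hχ
  haveI := hρ
  have hdn : Module.finrank ℂ (Fin n → ℂ) = d := by
    have h1 := ρ.char_one.symm.trans hd1
    exact_mod_cast h1
  exact CfsgLib.Char.character_eq_zero_of_defect_zero ρ Fact.out
    (Nat.ordProj_dvd _ p) (Nat.pow_succ_factorization_not_dvd Nat.card_pos.ne' Fact.out)
    (hdn ▸ hd) u hp

end Cfsg.Agent.S2318
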