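import Cfsg.Statements.S2319
import Cfsg.Agent.Lib.ChevWeyl.Quot
import Cfsg.Agent.Lib.Chev.All
import Cfsg.Agent.Lib.Weyl.G2
import Cfsg.Agent.Lib.Weyl.B2
import Cfsg.Agent.Lib.Weyl.D4
import Cfsg.Agent.Lib.Weyl.F4
import Cfsg.Agent.Lib.Weyl.E6
import Cfsg.Agent.Lib.Weyl.E7
import Cfsg.Agent.Lib.Weyl.E8
import Cfsg.Agent.Lib.HeckeW.Chev
-- import your own Cfsg.Agent.* helpers here

set_option autoImplicit false
open Cfsg

namespace Cfsg.Agent.S2319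

/-- In a Chevalley group of type G₂, B₂, D₄, F₄, E₆, E₇ or E₈ over a finite field, the number of distinct irreducible constituents of the permutation character on the cosets of B = UH equals the number of conjugacy classes (equivalently, of irreducible characters) of the Weyl group, the Coxeter group of the type with nodes numbered as the fundamental roots. -/
theorem result {F : Type*} [Field F] [Fintype F]
    (dw : Cfsg.Lie.ChevalleyDatum × (Σ n : ℕ, CoxeterMatrix (Fin n)))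
    (hdw : dw ∈ [(Cfsg.Lie.chevG2, ⟨2, CoxeterMatrix.G₂⟩), (Cfsg.Lie.chevB2, ⟨2, CoxeterMatrix.B 2⟩), (Cfsg.Lie.chevD4, ⟨4, Cfsg.Lie.coxeterD4⟩), (Cfsg.Lie.chevF4, ⟨4, CoxeterMatrix.F₄⟩),
      (Cfsg.Lie.chevE6, ⟨6, CoxeterMatrix.E₆⟩), (Cfsg.Lie.chevE7, ⟨7, CoxeterMatrix.E₇⟩), (Cfsg.Lie.chevE8, ⟨8, CoxeterMatrix.E₈⟩)]) :
    Nat.card {χ : Cfsg.IrrCharacter ↥(dw.1.group F) //
      ∃ φ : ↥(dw.1.group F) → ℂ, Cfsg.IsCharacter ↥(dw.1.group F) φ ∧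
        Cfsg.fixedPointCharacter ((dw.1.borelSubgroup F).subgroupOf (dw.1.group F)) = (χ : ↥(dw.1.group F) → ℂ) + φ} =
      Nat.card (ConjClasses dw.2.2.Group) := by
  obtain ⟨T, hT, hcomm⟩ := CfsgLib.Chev.exists_checked' (D := dw.1) (by
    simp only [List.mem_cons, List.not_mem_nil, or_false] at hdw
    rcases hdw with rfl | rfl | rfl | rfl | rfl | rfl | rfl <;> simp)
  simp only [List.mem_cons, List.not_mem_nil, or_false] at hdw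
  rcases hdw with rfl | rfl | rfl | rfl | rfl | rfl | rfl
  · obtain ⟨φ, h1, h2, -⟩ := CfsgLib.ChevWeyl.exists_weyl_hom (F := F) hT (C := CfsgLib.Weyl.G2.cartan) (B := [[2, 1], [3, 2]]) (d := 1) (s := [1, 1]) (t := [1, 1]) (c := 1)
      (by decide +kernel) CfsgLib.Weyl.G2.cartan_repTest CfsgLib.Weyl.G2.card_and_faithful.2.2
    exact CfsgLib.HeckeW.card_principal_series hT hcomm ⟨φ, h1, h2⟩
  · obtain ⟨φ, h1, h2, -⟩ := CfsgLib.ChevWeyl.exists_weyl_hom (F := F) hT (C := CfsgLib.Weyl.B2.cartan) (B := [[2, 1], [2, 2]]) (d := 2) (s := [1, 1]) (t := [1, 1]) (c := 1)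
      (by decide +kernel) CfsgLib.Weyl.B2.cartan_repTest CfsgLib.Weyl.B2.card_and_faithful.2.2
    exact CfsgLib.HeckeW.card_principal_series hT hcomm ⟨φ, h1, h2⟩
  · obtain ⟨φ, h1, h2, -⟩ := CfsgLib.ChevWeyl.exists_weyl_hom (F := F) hT (C := CfsgLib.Weyl.D4.cartan) (B := [[4, 4, 2, 2], [4, 8, 4, 4], [2, 4, 4, 2], [2, 4, 2, 4]]) (d := 4) (s := [1, 1, 1, 1]) (t := [1, 1, 1, 1]) (c := 1)
      (by decide +kernel) CfsgLib.Weyl.D4.cartan_repTest CfsgLib.Weyl.D4.card_and_faithful.2.2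
    exact CfsgLib.HeckeW.card_principal_series hT hcomm ⟨φ, h1, h2⟩
  · obtain ⟨φ, h1, h2, -⟩ := CfsgLib.ChevWeyl.exists_weyl_hom (F := F) hT (C := CfsgLib.Weyl.F4.cartan) (B := [[2, 3, 4, 2], [3, 6, 8, 4], [2, 4, 6, 3], [1, 2, 3, 2]]) (d := 1) (s := [1, 1, 2, 2]) (t := [2, 2, 1, 1]) (c := 2)
      (by decide +kernel) CfsgLib.Weyl.F4.cartan_repTest CfsgLib.Weyl.F4.card_and_faithful.2.2
    exact CfsgLib.HeckeW.card_principal_series hT hcomm ⟨φ, h1, h2⟩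
  · obtain ⟨φ, h1, h2, -⟩ := CfsgLib.ChevWeyl.exists_weyl_hom (F := F) hT (C := CfsgLib.Weyl.E6.cartan) (B := [[4, 3, 5, 6, 4, 2], [3, 6, 6, 9, 6, 3], [5, 6, 10, 12, 8, 4], [6, 9, 12, 18, 12, 6], [4, 6, 8, 12, 10, 5], [2, 3, 4, 6, 5, 4]]) (d := 3) (s := [1, 1, 1, 1, 1, 1]) (t := [1, 1, 1, 1, 1, 1]) (c := 1)
      (by decide +kernel) CfsgLib.Weyl.E6.cartan_repTest CfsgLib.Weyl.E6.card_and_faithful.2.2
    exact CfsgLib.HeckeW.card_principal_series hT hcomm ⟨φ, h1, h2⟩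
  · obtain ⟨φ, h1, h2, -⟩ := CfsgLib.ChevWeyl.exists_weyl_hom (F := F) hT (C := CfsgLib.Weyl.E7.cartan) (B := [[4, 4, 6, 8, 6, 4, 2], [4, 7, 8, 12, 9, 6, 3], [6, 8, 12, 16, 12, 8, 4], [8, 12, 16, 24, 18, 12, 6], [6, 9, 12, 18, 15, 10, 5], [4, 6, 8, 12, 10, 8, 4], [2, 3, 4, 6, 5, 4, 3]]) (d := 2) (s := [1, 1, 1, 1, 1, 1, 1]) (t := [1, 1, 1, 1, 1, 1, 1]) (c := 1)
      (by decide +kernel) CfsgLib.Weyl.E7.cartan_repTest CfsgLib.Weyl.E7.card_and_faithful.2.2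
    exact CfsgLib.HeckeW.card_principal_series hT hcomm ⟨φ, h1, h2⟩
  · obtain ⟨φ, h1, h2, -⟩ := CfsgLib.ChevWeyl.exists_weyl_hom (F := F) hT (C := CfsgLib.Weyl.E8.cartan) (B := [[4, 5, 7, 10, 8, 6, 4, 2], [5, 8, 10, 15, 12, 9, 6, 3], [7, 10, 14, 20, 16, 12, 8, 4], [10, 15, 20, 30, 24, 18, 12, 6], [8, 12, 16, 24, 20, 15, 10, 5], [6, 9, 12, 18, 15, 12, 8, 4], [4, 6, 8, 12, 10, 8, 6, 3], [2, 3, 4, 6, 5, 4, 3, 2]]) (d := 1) (s := [1, 1, 1, 1, 1, 1, 1, 1]) (t := [1, 1, 1, 1, 1, 1, 1, 1]) (c := 1)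
      (by decide +kernel) CfsgLib.Weyl.E8.cartan_repTest CfsgLib.Weyl.E8.card_and_faithful.2.2
    exact CfsgLib.HeckeW.card_principal_series hT hcomm ⟨φ, h1, h2⟩

end Cfsg.Agent.S2319
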