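import Cfsg.Statements.S2320
import Cfsg.Agent.Lib.GL2Char.Classify
import Cfsg.Agent.Lib.Char.Linear

set_option autoImplicit false
open Cfsg

namespace Cfsg.Agent.S2320

open scoped ComplexConjugate
open CfsgLib.GL2Char

variable {F : Type*} [Field F] [Fintype F]

local notation "GL2" => GL (Fin 2) F

attribute [local instance] CfsgLib.GL2Char.fintypeMulCharGL

theorem norm_mulChar [DecidableEq F] (α : MulChar F ℂ) {y : F} (hy : y ≠ 0) : ‖α y‖ = 1 := by
  refine Complex.norm_eq_one_of_pow_eq_one ?_
    (n := Fintype.card F - 1) (by have h1lt : 1 < Fintype.card F := Fintype.one_lt_card; omega)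
  rw [← map_pow, FiniteField.pow_card_sub_one_eq_one y hy, map_one]

theorem eq_steinberg [DecidableEq F] {χ : Cfsg.IrrCharacter GL2}
    (h1 : (χ : GL2 → ℂ) 1 = (Fintype.card F : ℂ)) :
    ∃ α : MulChar F ℂ, ∀ g, (χ : GL2 → ℂ) g = R α α g - α ((g : Matrix (Fin 2) (Fin 2) F).det) := by
  classical
  have h1lt : 1 < Fintype.card F := Fintype.one_lt_card
  obtain ⟨L, S, D, E, hall, -, hS, -, -, hL1, hS1, hD1, hE1⟩ := gl2_table (F := F)
  choose P St hne hsum hP1 hPu hSt1 hStu using fun α : MulChar F ℂ => R_diagonal α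
  have hmem : ∀ ξ : Cfsg.IrrCharacter GL2, (ξ : GL2 → ℂ) 1 = (Fintype.card F : ℂ) → ξ ∈ S := by
    intro ξ hξ
    rcases hall ξ with h | h | h | h
    · have h' := (hL1 ξ h).1
      rw [hξ] at h'
      exact absurd (show Fintype.card F = 1 by exact_mod_cast h') (by omega)
    · exact h
    · have h' := (hD1 ξ h).1
      rw [hξ] at h'
      exact absurd (show Fintype.card F = Fintype.card F + 1 by exact_mod_cast h') (by omega)
    · have h' := (hE1 ξ h).1
      rw [hξ] at h'
      exact absurd (show (1 : ℂ) = 0 by linear_combination h') one_ne_zero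
  have hinj : Function.Injective St := by
    intro α β h
    by_contra hne'
    have h0 := classInner_R α α β β
    rw [if_neg (fun e => hne' e.1), add_zero, hsum, hsum, CfsgLib.Char.classInner_add_left,
      CfsgLib.Char.classInner_add_right, CfsgLib.Char.classInner_add_right,
      CfsgLib.Char.classInner_irrCharacter, CfsgLib.Char.classInner_irrCharacter,
      CfsgLib.Char.classInner_irrCharacter, CfsgLib.Char.classInner_irrCharacter, if_pos h] at h0
    split_ifs at h0 <;> norm_num at h0
  have himg : Finset.univ.image St = S := by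
    refine Finset.eq_of_subset_of_card_le (fun ξ hξ => ?_) ?_
    · obtain ⟨α, -, rfl⟩ := Finset.mem_image.1 hξ
      exact hmem _ (hSt1 α)
    · rw [Finset.card_image_of_injective _ hinj, Finset.card_univ, hS, ← Nat.card_eq_fintype_card (α := MulChar F ℂ),
        MulChar.card_eq_card_units_of_hasEnoughRootsOfUnity, Nat.card_eq_fintype_card,
        Fintype.card_units]
  obtain ⟨α, -, hα⟩ := Finset.mem_image.1 (himg.symm ▸ hmem χ h1)
  refine ⟨α, fun g => ?_⟩
  obtain ⟨Q, hQ⟩ := detChar_exists α
  have hQ0 : Cfsg.classInner (R α α) (Q : GL2 → ℂ) ≠ 0 := by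
    rw [classInner_R_left α α (CfsgLib.Char.IsIrrCharacter.isClassFunction Q.2)]
    have hone : ∀ a d : Fˣ, α (a : F) * α (d : F) *
        ∑ v : F, conj ((Q : GL2 → ℂ) (bEquiv.symm (a, d, v) : GL2)) = (Fintype.card F : ℂ) := by
      intro a d
      rw [Finset.mul_sum, Finset.sum_eq_card_nsmul (b := 1) fun v _ => ?_, Finset.card_univ,
        nsmul_eq_mul, mul_one]
      rw [hQ, bEquiv_symm_coe, Matrix.det_fin_two_of, mul_zero, sub_zero, ← map_mul]
      show α ((a : F) * d) * star (α ((a : F) * d)) = 1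
      rw [MulChar.star_apply', ← MulChar.mul_apply, mul_inv_cancel,
        MulChar.one_apply (isUnit_iff_ne_zero.2 (mul_ne_zero a.ne_zero d.ne_zero))]
    simp only [hone, Finset.sum_const, nsmul_eq_mul]
    refine mul_ne_zero (inv_ne_zero card_B_ne_zero) (mul_ne_zero ?_ (mul_ne_zero ?_ ?_)) <;>
      exact Nat.cast_ne_zero.2 (by simp)
  have hQP : P α = Q := by
    by_contra hne'
    apply hQ0
    rw [hsum α, CfsgLib.Char.classInner_add_left, CfsgLib.Char.classInner_irrCharacter,
      CfsgLib.Char.classInner_irrCharacter, if_neg hne', if_neg, add_zero]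
    intro e
    have := hSt1 α
    rw [e, hQ] at this
    simp at this
    exact absurd (show Fintype.card F = 1 by exact_mod_cast this.symm) (by omega)
  have h := congrFun (hsum α) g
  rw [Pi.add_apply, hQP, hQ, hα] at h
  rw [h]; ring

/-- Over a finite field F with q elements, every irreducible complex character of GL₂ of degree q takes a value of absolute value 1 at every diagonal matrix with two different diagonal entries and at every element with no eigenvector in F². -/
theorem result {F : Type*} [Field F] [Fintype F] (χ : Matrix.GeneralLinearGroup (Fin 2) F → ℂ) (hχ : Cfsg.IsIrrCharacter (Matrix.GeneralLinearGroup (Fin 2) F) χ) (hdeg : χ 1 = (Fintype.card F : ℂ)) (g : Matrix.GeneralLinearGroup (Fin 2) F) :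
    ((g : Matrix (Fin 2) (Fin 2) F) 0 1 = 0 → (g : Matrix (Fin 2) (Fin 2) F) 1 0 = 0 → (g : Matrix (Fin 2) (Fin 2) F) 0 0 ≠ (g : Matrix (Fin 2) (Fin 2) F) 1 1 → ‖χ g‖ = 1) ∧
    ((∀ (c : F) (v : Fin 2 → F), v ≠ 0 → (g : Matrix (Fin 2) (Fin 2) F).mulVec v ≠ c • v) → ‖χ g‖ = 1) := by
  classical
  obtain ⟨α, hα⟩ := eq_steinberg (χ := ⟨χ, hχ⟩) hdeg
  have hd0 := det_entries_ne g
  replace hα : ∀ g, χ g = R α α g - α ((g : Matrix (Fin 2) (Fin 2) F).det) := hα
  refine ⟨fun h01 h10 hne => ?_, fun h => ?_⟩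
  · rw [hα g, R_triangular _ _ h10, if_neg hne, Matrix.det_fin_two, h10, mul_zero, sub_zero,
      ← map_mul, ← map_mul, mul_comm ((g : Matrix (Fin 2) (Fin 2) F) 1 1), add_sub_cancel_right]
    exact norm_mulChar α (by rwa [h10, mul_zero, sub_zero] at hd0)
  · rw [hα g, R_noEigen _ _ h, zero_sub, norm_neg]
    exact norm_mulChar α (by rw [Matrix.det_fin_two]; exact hd0)

end Cfsg.Agent.S2320
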