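import Cfsg.Statements.S2322
import Cfsg.Agent.Lib.SL2Values.Basic
import Cfsg.Agent.Lib.SL2Cusp.Main

set_option autoImplicit false
open Cfsg

namespace Cfsg.Agent.S2322

open CfsgLib.SL2Deg CfsgLib.SL2Values

/-- Over a finite field F with q elements, q odd: every irreducible complex character of SL₂ of degree q − 1 or (q − 1)/2 vanishes at every diagonal matrix whose diagonal entry a has a² ≠ 1, and every irreducible complex character of degree q + 1 or (q + 1)/2 vanishes at every element with no eigenvector in F². -/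
theorem result {F : Type*} [Field F] [Fintype F] (hodd : Odd (Fintype.card F)) (χ : Matrix.SpecialLinearGroup (Fin 2) F → ℂ) (hχ : Cfsg.IsIrrCharacter (Matrix.SpecialLinearGroup (Fin 2) F) χ) (g : Matrix.SpecialLinearGroup (Fin 2) F) :
    ((χ 1 = (Fintype.card F : ℂ) - 1 ∨ χ 1 = (((Fintype.card F - 1) / 2 : ℕ) : ℂ)) →
      (g : Matrix (Fin 2) (Fin 2) F) 0 1 = 0 → (g : Matrix (Fin 2) (Fin 2) F) 1 0 = 0 → (g : Matrix (Fin 2) (Fin 2) F) 0 0 ^ 2 ≠ 1 → χ g = 0) ∧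
    ((χ 1 = (Fintype.card F : ℂ) + 1 ∨ χ 1 = (((Fintype.card F + 1) / 2 : ℕ) : ℂ)) →
      (∀ (c : F) (v : Fin 2 → F), v ≠ 0 → (g : Matrix (Fin 2) (Fin 2) F).mulVec v ≠ c • v) → χ g = 0) := by
  classical
  have h3 : 3 ≤ Fintype.card F := by
    obtain ⟨j, hj⟩ := hodd
    have h1lt : 1 < Fintype.card F := Fintype.one_lt_card
    omega
  obtain ⟨ψ, ν, hψ, hν⟩ := exists_setup hodd
  obtain ⟨St, A, B, C, C', hSt, hall⟩ := odd_cases hodd h3 hψ hν
  have hdeg := fun {f m n d : ℕ}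
    (h : Vec ψ ν (⟨χ, hχ⟩ : Cfsg.IrrCharacter (Matrix.SpecialLinearGroup (Fin 2) F)) f m n)
    (hd : χ 1 = (d : ℂ)) => nat_degree hψ hν h hd
  obtain ⟨j, hj⟩ := id hodd
  have hh : (Fintype.card F - 1) / 2 = j := by omega
  refine ⟨fun hd h01 h10 h00 => ?_, fun hd hg => ?_⟩
  · by_cases hq3 : Fintype.card F = 3
    · exfalso
      have hdet := CfsgLib.SL2Trace.det_coe g
      rw [h01, zero_mul, sub_zero] at hdet
      have h := FiniteField.pow_card_sub_one_eq_one _ (left_ne_zero_of_mul_eq_one hdet)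
      rw [hq3] at h
      exact h00 h
    obtain ⟨d, hdd, hdc⟩ : ∃ d : ℕ, χ 1 = (d : ℂ) ∧ (d = 2 * j ∨ d = j) := by
      rcases hd with hd | hd
      · exact ⟨2 * j, by rw [hd, hj]; push_cast; ring, Or.inl rfl⟩
      · exact ⟨j, by rw [hd, hh], Or.inr rfl⟩
    rcases hall ⟨χ, hχ⟩ with h | ⟨-, h⟩ | ⟨-, h⟩ | ⟨-, h⟩ | ⟨-, h⟩ | ⟨-, h⟩ | h | h <;>
      (have hval := hdeg h hdd; rw [hh] at hval)
    all_goals first
      | (exfalso; omega)
      | exact apply_diag_of_mult_zero (χ := ⟨χ, hχ⟩) h.1 h01 h10 h00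
  · obtain ⟨d, hdd, hdc⟩ : ∃ d : ℕ, χ 1 = (d : ℂ) ∧ (d = 2 * j + 2 ∨ d = j + 1) := by
      rcases hd with hd | hd
      · exact ⟨2 * j + 2, by rw [hd, hj]; push_cast; ring, Or.inl rfl⟩
      · exact ⟨j + 1, by rw [hd]; congr 1; omega, Or.inr rfl⟩
    have main : ∀ {f m n : ℕ},
        Vec ψ ν (⟨χ, hχ⟩ : Cfsg.IrrCharacter (Matrix.SpecialLinearGroup (Fin 2) F)) f m n →
        f ≠ 0 → ¬ (f = 1 ∧ m = n) → χ g = 0 := by
      intro f m n h hf hmn
      refine apply_noEigen hodd (χ := ⟨χ, hχ⟩) (by rw [h.1]; exact hf) hψ (fun hc => hmn ?_)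
        (fun hc => hmn ?_) hg
      · have hν0 : ν ≠ 0 := fun e => hν (by rw [e]; exact IsSquare.zero)
        refine ⟨h.1.symm.trans (by rw [hc, if_pos rfl]), ?_⟩
        rw [← h.2.1, ← h.2.2, hc, hc, if_neg one_ne_zero, if_neg hν0]
      · exact ⟨h.1.symm.trans (hc 0), by rw [← h.2.1, ← h.2.2, hc, hc]⟩
    rcases hall ⟨χ, hχ⟩ with h | ⟨-, h⟩ | ⟨-, h⟩ | ⟨-, h⟩ | ⟨-, h⟩ | ⟨-, h⟩ | h | h <;>
      (have hval := hdeg h hdd; rw [hh] at hval)
    all_goals first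
      | (exfalso; omega)
      | exact main h (by omega) (by omega)
      | skip
    all_goals
      have hq3 : Fintype.card F = 3 := by omega
      obtain ⟨hT, hgz⟩ := CfsgLib.SL2Cusp.nsTorus_centralizer hodd hg
      refine CfsgLib.SL2Cusp.eq_zero_of_three hT hq3 hχ ?_
        (Subgroup.mem_centralizer_singleton_iff.2 rfl) hgz
      rw [hdd, show d = 2 by omega]
      norm_num

end Cfsg.Agent.S2322
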