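import Cfsg.Statements.S2324
import Cfsg.Agent.Lib.SL2Values.Basic

set_option autoImplicit false
open Cfsg

namespace Cfsg.Agent.S2324

open CfsgLib.SL2Deg CfsgLib.SL2Values

/-- Over a finite field F with q elements, q odd and q ≥ 5, let u be the upper unitriangular matrix of SL₂ with off-diagonal entry 1 and let δ = (−1)^((q−1)/2). Every irreducible complex character χ of SL₂ of degree (q + 1)/2 satisfies (2χ(u) − 1)² = δq, and every irreducible complex character χ of degree (q − 1)/2 satisfies (2χ(u) + 1)² = δq; that is, χ(u) = (1 ± √(δq))/2 in the first case and χ(u) = (−1 ± √(δq))/2 in the second. Moreover two different irreducible characters of degree (q + 1)/2 take the two different values (their values at u add up to 1), and likewise for degree (q − 1)/2 (values adding up to −1). -/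
theorem result {F : Type*} [Field F] [Fintype F] (hodd : Odd (Fintype.card F)) (hq : 5 ≤ Fintype.card F)
    (u : Matrix.SpecialLinearGroup (Fin 2) F) (hu : (u : Matrix (Fin 2) (Fin 2) F) = !![1, 1; 0, 1]) :
    (∀ χ : Matrix.SpecialLinearGroup (Fin 2) F → ℂ, Cfsg.IsIrrCharacter (Matrix.SpecialLinearGroup (Fin 2) F) χ → χ 1 = (((Fintype.card F + 1) / 2 : ℕ) : ℂ) → (2 * χ u - 1) ^ 2 = (-1 : ℂ) ^ ((Fintype.card F - 1) / 2) * (Fintype.card F : ℂ)) ∧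
    (∀ χ : Matrix.SpecialLinearGroup (Fin 2) F → ℂ, Cfsg.IsIrrCharacter (Matrix.SpecialLinearGroup (Fin 2) F) χ → χ 1 = (((Fintype.card F - 1) / 2 : ℕ) : ℂ) → (2 * χ u + 1) ^ 2 = (-1 : ℂ) ^ ((Fintype.card F - 1) / 2) * (Fintype.card F : ℂ)) ∧
    (∀ χ₁ χ₂ : Matrix.SpecialLinearGroup (Fin 2) F → ℂ, Cfsg.IsIrrCharacter (Matrix.SpecialLinearGroup (Fin 2) F) χ₁ → Cfsg.IsIrrCharacter (Matrix.SpecialLinearGroup (Fin 2) F) χ₂ → χ₁ ≠ χ₂ →
      χ₁ 1 = (((Fintype.card F + 1) / 2 : ℕ) : ℂ) → χ₂ 1 = (((Fintype.card F + 1) / 2 : ℕ) : ℂ) → χ₁ u + χ₂ u = 1) ∧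
    (∀ χ₁ χ₂ : Matrix.SpecialLinearGroup (Fin 2) F → ℂ, Cfsg.IsIrrCharacter (Matrix.SpecialLinearGroup (Fin 2) F) χ₁ → Cfsg.IsIrrCharacter (Matrix.SpecialLinearGroup (Fin 2) F) χ₂ → χ₁ ≠ χ₂ →
      χ₁ 1 = (((Fintype.card F - 1) / 2 : ℕ) : ℂ) → χ₂ 1 = (((Fintype.card F - 1) / 2 : ℕ) : ℂ) → χ₁ u + χ₂ u = -1) := by
  classical
  rw [eq_u_one hu]
  obtain ⟨ψ, ν, hψ, hν⟩ := exists_setup hodd
  obtain ⟨St, A, B, C, C', hSt, hall⟩ := odd_cases hodd (by omega) hψ hν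
  obtain ⟨G, hG, hval⟩ := half_gauss hodd hψ hν
  obtain ⟨j, hj⟩ := id hodd
  have hh : (Fintype.card F - 1) / 2 = j := by omega
  have hplus : ∀ (χ : Cfsg.IrrCharacter (Matrix.SpecialLinearGroup (Fin 2) F)),
      (χ : Matrix.SpecialLinearGroup (Fin 2) F → ℂ) 1 = (((Fintype.card F + 1) / 2 : ℕ) : ℂ) →
      (χ = A ∧ 2 * (χ : Matrix.SpecialLinearGroup (Fin 2) F → ℂ) (CfsgLib.SL2Deg.u 1) = 1 + G) ∨
      (χ = B ∧ 2 * (χ : Matrix.SpecialLinearGroup (Fin 2) F → ℂ) (CfsgLib.SL2Deg.u 1) = 1 - G) := by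
    intro χ h1
    rcases hall χ with h | ⟨-, h⟩ | ⟨e, h⟩ | ⟨e, h⟩ | ⟨-, h⟩ | ⟨-, h⟩ | h | h
    · exfalso; have := nat_degree hψ hν h h1; rw [hh] at this; omega
    · exfalso; have := nat_degree hψ hν h h1; rw [hh] at this; omega
    · exact Or.inl ⟨e, by rw [hval χ _ _ _ h]; push_cast; ring⟩
    · exact Or.inr ⟨e, by rw [hval χ _ _ _ h]; push_cast; ring⟩
    all_goals exfalso; have := nat_degree hψ hν h h1; rw [hh] at this; omega
  have hminus : ∀ (χ : Cfsg.IrrCharacter (Matrix.SpecialLinearGroup (Fin 2) F)),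
      (χ : Matrix.SpecialLinearGroup (Fin 2) F → ℂ) 1 = (((Fintype.card F - 1) / 2 : ℕ) : ℂ) →
      (χ = C ∧ 2 * (χ : Matrix.SpecialLinearGroup (Fin 2) F → ℂ) (CfsgLib.SL2Deg.u 1) = -1 + G) ∨
      (χ = C' ∧ 2 * (χ : Matrix.SpecialLinearGroup (Fin 2) F → ℂ) (CfsgLib.SL2Deg.u 1) = -1 - G) := by
    intro χ h1
    rcases hall χ with h | ⟨-, h⟩ | ⟨-, h⟩ | ⟨-, h⟩ | ⟨e, h⟩ | ⟨e, h⟩ | h | h
    · exfalso; have := nat_degree hψ hν h h1; rw [hh] at this; omega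
    · exfalso; have := nat_degree hψ hν h h1; rw [hh] at this; omega
    · exfalso; have := nat_degree hψ hν h h1; rw [hh] at this; omega
    · exfalso; have := nat_degree hψ hν h h1; rw [hh] at this; omega
    · exact Or.inl ⟨e, by rw [hval χ _ _ _ h]; push_cast; ring⟩
    · exact Or.inr ⟨e, by rw [hval χ _ _ _ h]; push_cast; ring⟩
    all_goals exfalso; have := nat_degree hψ hν h h1; rw [hh] at this; omega
  refine ⟨fun χ hχ h1 => ?_, fun χ hχ h1 => ?_, fun χ₁ χ₂ hχ₁ hχ₂ hne h1 h2 => ?_,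
    fun χ₁ χ₂ hχ₁ hχ₂ hne h1 h2 => ?_⟩
  · rcases hplus ⟨χ, hχ⟩ h1 with ⟨-, h⟩ | ⟨-, h⟩ <;> rw [h, ← hG] <;> ring
  · rcases hminus ⟨χ, hχ⟩ h1 with ⟨-, h⟩ | ⟨-, h⟩ <;> rw [h, ← hG] <;> ring
  · rcases hplus ⟨χ₁, hχ₁⟩ h1 with ⟨e, h⟩ | ⟨e, h⟩ <;>
      rcases hplus ⟨χ₂, hχ₂⟩ h2 with ⟨e', h'⟩ | ⟨e', h'⟩ <;>
      first
        | exact absurd (congrArg Subtype.val (e.trans e'.symm)) hne
        | linear_combination h / 2 + h' / 2
  · rcases hminus ⟨χ₁, hχ₁⟩ h1 with ⟨e, h⟩ | ⟨e, h⟩ <;>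
      rcases hminus ⟨χ₂, hχ₂⟩ h2 with ⟨e', h'⟩ | ⟨e', h'⟩ <;>
      first
        | exact absurd (congrArg Subtype.val (e.trans e'.symm)) hne
        | linear_combination h / 2 + h' / 2

end Cfsg.Agent.S2324
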