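import Cfsg.Statements.S2325
import Cfsg.Agent.Lib.SL2Deg.Counts

set_option autoImplicit false
open Cfsg

namespace Cfsg.Agent.S2325

/-- Over a finite field with q elements, q odd, the special linear group SL₂ has exactly q + 4 conjugacy classes. -/
theorem result {F : Type*} [Field F] [Fintype F] (hodd : Odd (Fintype.card F)) :
    Nat.card (ConjClasses (Matrix.SpecialLinearGroup (Fin 2) F)) = Fintype.card F + 4 := by
  classical
  rw [← CfsgLib.Char.card_irrCharacter]
  by_cases h5 : 5 ≤ Fintype.card F
  · exact (CfsgLib.SL2Deg.odd_counts hodd h5).2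
  · exact (CfsgLib.SL2Deg.card_irr_three (F := F) (by
      have := Fintype.one_lt_card (α := F)
      obtain ⟨k, hk⟩ := hodd
      omega)).2

end Cfsg.Agent.S2325
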