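import Cfsg.Statements.S2329
import Cfsg.Agent.Lib.GLTwoClasses.Companion
-- import your own Cfsg.Agent.* helpers here

set_option autoImplicit false
open Cfsg

namespace Cfsg.Agent.S2329

/-- Over a finite field of characteristic p, any two elements of order p of GL₂ are conjugate: there is a single conjugacy class of non-identity unipotent elements. -/
theorem result {F : Type*} [Field F] [Fintype F] (p : ℕ) [Fact p.Prime] [CharP F p] (g h : Matrix.GeneralLinearGroup (Fin 2) F)
    (hg : orderOf g = p) (hh : orderOf h = p) : IsConj g h := by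
  have key : ∀ u : Matrix.GeneralLinearGroup (Fin 2) F, orderOf u = p →
      ¬ CfsgLib.GLTwoClasses.IsScal (u : Matrix (Fin 2) (Fin 2) F) ∧
      (u : Matrix (Fin 2) (Fin 2) F).trace = 2 ∧ (u : Matrix (Fin 2) (Fin 2) F).det = 1 := by
    intro u hu
    have hp : (u : Matrix (Fin 2) (Fin 2) F) ^ p = 1 := by
      rw [← Units.val_pow_eq_pow_val, ← hu, pow_orderOf_eq_one, Units.val_one]
    set A := (u : Matrix (Fin 2) (Fin 2) F) with hA
    have hN : (A - 1) ^ p = 0 := by
      rw [sub_pow_char_of_commute p (Commute.one_right A), one_pow, hp, sub_self]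
    have hnil : IsNilpotent (A - 1) := ⟨p, hN⟩
    have htr : (A - 1).trace = 0 := (Matrix.isNilpotent_trace_of_isNilpotent hnil).eq_zero
    have hdet : (A - 1).det = 0 := by
      have h := congrArg Matrix.det hN
      rw [Matrix.det_pow, Matrix.det_zero] at h
      exact pow_eq_zero_iff (Fact.out : p.Prime).ne_zero |>.mp h
    simp [Matrix.trace_fin_two] at htr
    simp [Matrix.det_fin_two] at hdet
    refine ⟨?_, by rw [Matrix.trace_fin_two]; linear_combination htr, by
      rw [Matrix.det_fin_two]; linear_combination hdet + htr⟩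
    rintro ⟨c, hc⟩
    have h00 : A 0 0 = c := by simp [hc]
    have h11 : A 1 1 = c := by simp [hc]
    have h10 : A 1 0 = 0 := by simp [hc]
    have hc1 : c = 1 := by
      have : (c - 1) ^ 2 = 0 := by
        rw [h00, h11, h10] at hdet; linear_combination hdet
      exact sub_eq_zero.mp (pow_eq_zero_iff two_ne_zero |>.mp this)
    have : u = 1 := Units.ext (by rw [← hA, hc, hc1, one_smul]; rfl)
    rw [this, orderOf_one] at hu
    exact (Fact.out : p.Prime).one_lt.ne hu
  obtain ⟨a1, a2, a3⟩ := key g hg
  obtain ⟨b1, b2, b3⟩ := key h hh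
  exact CfsgLib.GLTwoClasses.isConj_of_trace_det a1 b1 (a2.trans b2.symm) (a3.trans b3.symm)

end Cfsg.Agent.S2329
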