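import Cfsg.Statements.S2330
import Cfsg.Agent.Lib.GLTwoClasses.Companion
-- import your own Cfsg.Agent.* helpers here

set_option autoImplicit false
open Cfsg

namespace Cfsg.Agent.S2330

/-- Over a finite field with q elements, the general linear group GL₂ has exactly q² − 1 conjugacy classes. -/
theorem result {F : Type*} [Field F] [Fintype F] :
    Nat.card (ConjClasses (Matrix.GeneralLinearGroup (Fin 2) F)) = Fintype.card F ^ 2 - 1 := by
  classical
  rw [← Nat.card_congr (CfsgLib.GLTwoClasses.classEquiv (F := F)), Nat.card_eq_fintype_card]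
  rw [Fintype.card_sum, Fintype.card_prod, Fintype.card_units]
  have : 1 ≤ Fintype.card F := Fintype.card_pos
  obtain ⟨m, hm⟩ : ∃ m, Fintype.card F = m + 1 := ⟨Fintype.card F - 1, by omega⟩
  rw [hm]; simp [pow_two]; ring_nf; omega

end Cfsg.Agent.S2330
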