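import Cfsg.Statements.S2332
import Cfsg.Agent.Lib.MinDeg.SLTop
import Cfsg.Agent.Lib.MinDeg.SLPerm
-- import your own Cfsg.Agent.* helpers here

set_option autoImplicit false
open Cfsg

namespace Cfsg.Agent.S2332

/-- Smallest degree of a non-linear irreducible complex representation of SL_n over a finite field with q elements, for n ≥ 3 and (n, q) not one of (3, 2), (3, 4), (4, 2), (4, 3): every irreducible complex representation of SL_n(F) of degree at least 2 has degree at least (q^n − q)/(q − 1), and there is an irreducible complex representation of exactly that degree. -/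
theorem result {F : Type*} [Field F] [Fintype F] [DecidableEq F] (n : ℕ) (hn : 3 ≤ n)
    (hex : (n, Fintype.card F) ≠ (3, 2) ∧ (n, Fintype.card F) ≠ (3, 4) ∧ (n, Fintype.card F) ≠ (4, 2) ∧ (n, Fintype.card F) ≠ (4, 3)) :
    (∀ (k : ℕ) (ρ : Representation ℂ (Matrix.SpecialLinearGroup (Fin n) F) (Fin k → ℂ)), ρ.IsIrreducible → 2 ≤ k → (Fintype.card F ^ n - Fintype.card F) / (Fintype.card F - 1) ≤ k) ∧
    (∃ ρ : Representation ℂ (Matrix.SpecialLinearGroup (Fin n) F) (Fin ((Fintype.card F ^ n - Fintype.card F) / (Fintype.card F - 1)) → ℂ), ρ.IsIrreducible) := by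
  obtain ⟨i, rfl⟩ : ∃ i, n = i + 3 := ⟨n - 3, by omega⟩
  have hN : (Fintype.card F ^ (i + 3) - Fintype.card F) / (Fintype.card F - 1) =
      Fintype.card F * CfsgLib.MinDeg.SLTv.gs (Fintype.card F) (i + 2) := by
    have hq : 2 ≤ Fintype.card F := Fintype.one_lt_card
    have e := CfsgLib.MinDeg.SLTv.gs_mul (q := Fintype.card F) (by omega) (i + 2)
    have h1 : Fintype.card F ^ (i + 3) - Fintype.card F =
        (Fintype.card F - 1) * (Fintype.card F * CfsgLib.MinDeg.SLTv.gs (Fintype.card F) (i + 2)) := by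
      rw [pow_succ' _ (i + 2), ← e, mul_add, mul_one, Nat.add_sub_cancel]
      ring
    rw [h1, Nat.mul_div_cancel_left _ (by omega)]
  rw [hN]
  refine ⟨fun k ρ hρ hk => ?_, ?_⟩
  · obtain ⟨g, -, hg⟩ := CfsgLib.MinDeg.exists_rep_ne_one ρ hρ hk Set.univ
      (eq_top_iff.2 fun g _ => Subgroup.subset_normalClosure (Set.mem_univ g))
    have h := CfsgLib.MinDeg.SLTv.min_degree_le (i := i)
      (fun hi => ⟨fun h => hex.1 (by simp [hi, h]), fun h => hex.2.1 (by simp [hi, h])⟩)
      (fun hi => ⟨fun h => hex.2.2.1 (by simp [hi, h]), fun h => hex.2.2.2 (by simp [hi, h])⟩)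
      ρ ⟨g, hg⟩
    rwa [Module.finrank_fin_fun] at h
  · obtain ⟨hirr, -, -, hdim⟩ := CfsgLib.MinDeg.SLTv.Perm.constituents (F := F) (m := i + 2) (by omega)
    haveI := hirr 0
    refine ⟨CfsgLib.Char.transport (CfsgLib.MinDeg.SLTv.Perm.partRep (m := i + 2) 0)
      (LinearEquiv.ofFinrankEq _ _ (by rw [hdim, Module.finrank_fin_fun])), ?_⟩
    exact CfsgLib.Char.isIrreducible_of_equiv (CfsgLib.Char.transportEquiv _ _)


end Cfsg.Agent.S2332
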