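import Cfsg.Statements.S2336
import Cfsg.Agent.Lib.MinDeg.SLPerm
-- import your own Cfsg.Agent.* helpers here

set_option autoImplicit false
open Cfsg

namespace Cfsg.Agent.S2336

/-- Let F be a finite field with q elements and n ≥ 3. The permutation character of SL_n(F) on the non-zero vectors of F^n (the function sending a matrix to the number of non-zero vectors it fixes) is the sum of the principal character and q − 1 pairwise distinct irreducible complex characters. -/
theorem result {F : Type*} [Field F] [Fintype F] [DecidableEq F] (n : ℕ) (hn : 3 ≤ n) :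
    ∃ χ : Fin (Fintype.card F - 1) → (Matrix.SpecialLinearGroup (Fin n) F → ℂ),
      (∀ i, Cfsg.IsIrrCharacter (Matrix.SpecialLinearGroup (Fin n) F) (χ i)) ∧ Function.Injective χ ∧
      ∀ g : Matrix.SpecialLinearGroup (Fin n) F,
        (Nat.card {v : Fin n → F // v ≠ 0 ∧ (g : Matrix (Fin n) (Fin n) F).mulVec v = v} : ℂ) = 1 + ∑ i, χ i g := by
  obtain ⟨i, rfl⟩ : ∃ i, n = i + 3 := ⟨n - 3, by omega⟩
  obtain ⟨hirr, hinj, hsum, -⟩ := CfsgLib.MinDeg.SLTv.Perm.constituents (F := F) (m := i + 2) (by omega)
  have hc : Fintype.card (AddChar (Additive Fˣ) ℂ) = Fintype.card F - 1 := by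
    rw [AddChar.card_eq, Fintype.card_additive, Fintype.card_units]
  let e : Fin (Fintype.card F - 1) ≃ AddChar (Additive Fˣ) ℂ := (Fintype.equivFinOfCardEq hc).symm
  refine ⟨fun j => (CfsgLib.MinDeg.SLTv.Perm.partRep (F := F) (m := i + 2) (e j)).character,
    fun j => ?_, hinj.comp e.injective, fun g => ?_⟩
  · haveI := hirr (e j)
    exact CfsgLib.Char.isIrrCharacter_character _
  · rw [hsum g]
    congr 1
    exact (e.sum_comp (fun θ => (CfsgLib.MinDeg.SLTv.Perm.partRep (m := i + 2) θ).character g)).symm


end Cfsg.Agent.S2336
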