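import Cfsg.Statements.S2341
import Cfsg.Agent.Lib.MinDeg.TwE6Main
import Cfsg.Agent.Lib.MinDeg.TwE6Arith
import Cfsg.Agent.Lib.Twisted.E6Order
import Cfsg.Agent.Lib.Twisted.E6Simple
import Cfsg.Agent.Lib.Char.Integral

set_option autoImplicit false
open Cfsg

namespace Cfsg.Agent.S2341

/-- For the twisted group ²E₆(q), realised over the field with q² elements (q a prime power), every irreducible complex representation of degree at least 2 has degree at least q(q⁶ − q³ + 1)(q⁴ + 1). -/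
theorem result {K : Type*} [Field K] [Fintype K] (q : ℕ) (hq : IsPrimePow q) (hK : Fintype.card K = q ^ 2) :
    (∀ (k : ℕ) (ρ : Representation ℂ (Cfsg.Lie.twistedE6 K q) (Fin k → ℂ)), ρ.IsIrreducible → 2 ≤ k → q * (q ^ 6 - q ^ 3 + 1) * (q ^ 4 + 1) ≤ k) := by
  intro k ρ hρ hk
  obtain ⟨φ, hφ⟩ := CfsgLib.Twisted.exists_frob hq two_ne_zero hK
  have hcard := CfsgLib.Twisted.E6.card_group_twisted (K := K) hq hK
  haveI hsimple := (CfsgLib.Twisted.E6.simple_group (K := K) hq hK).1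
  revert ρ hcard hsimple
  rw [CfsgLib.Twisted.E6.twistedE6_eq hK φ hφ]
  intro ρ hρ hcard hsimple
  haveI : Fact (∀ x : K, φ (φ x) = x) :=
    ⟨fun x => CfsgLib.Twisted.iterate_frob_card hφ hK x⟩
  have hq2 : 2 ≤ q := hq.two_le
  have hF : Nat.card {t : K // φ t = t} = q := by
    rw [← CfsgLib.Twisted.card_fixed (K := K) hq two_ne_zero hK]
    exact Nat.card_congr (Equiv.subtypeEquivRight fun x => by rw [hφ])
  have hne : CfsgLib.MinDeg.TwE6.NonTriv φ := by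
    by_contra hcon
    simp only [CfsgLib.MinDeg.TwE6.NonTriv, not_exists, ne_eq, not_not] at hcon
    rw [Nat.card_congr (Equiv.subtypeUnivEquiv hcon), Nat.card_eq_fintype_card, hK] at hF
    nlinarith
  have hnt : ∃ t : CfsgLib.MinDeg.TwE6.Par φ 71,
      ρ (CfsgLib.MinDeg.TwE6.sl φ 71 t) ≠ (1 : Module.End ℂ (Fin k → ℂ)) := by
    refine ⟨⟨1, fun _ => map_one φ⟩, fun h1 => ?_⟩
    rcases hsimple.eq_bot_or_eq_top_of_normal (MonoidHom.ker ρ) inferInstance with hb | ht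
    · have h0 : CfsgLib.MinDeg.TwE6.sl φ 71 ⟨1, fun _ => map_one φ⟩ ∈ MonoidHom.ker ρ := h1
      rw [hb, Subgroup.mem_bot] at h0
      have h2 := congrArg Subtype.val h0
      rw [CfsgLib.MinDeg.TwE6.sl_coe φ (by norm_num),
        CfsgLib.MinDeg.TwE6.O_one φ CfsgLib.MinDeg.TwE6.cartan_facts.2.2.2.2.2.1] at h2
      exact one_ne_zero ((CfsgLib.Chev.elX_eq_one_iff CfsgLib.Chev.E6.checked
        (show 71 < Cfsg.Lie.chevE6.nroots by decide +kernel) _).1 h2)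
    · obtain ⟨s, -, hs⟩ := CfsgLib.MinDeg.exists_rep_ne_one ρ hρ hk Set.univ (top_le_iff.1
        (fun x _ => Subgroup.subset_normalClosure (Set.mem_univ x)))
      exact hs (MonoidHom.mem_ker.1 (ht ▸ Subgroup.mem_top s))
  have hbound := CfsgLib.MinDeg.TwE6.degree_bound φ ρ hne hF hK hq2 hnt
  rw [Module.finrank_fin_fun] at hbound
  have hdvd := CfsgLib.Char.finrank_dvd_card ρ
  rw [Module.finrank_fin_fun] at hdvd
  have hdvd' := (hdvd.mul_left (Nat.gcd 3 (q + 1))).trans hcard.dvd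
  have hq1 : 1 ≤ q := hq2.trans' one_le_two
  have hdvdZ := Int.natCast_dvd_natCast.2 hdvd'
  push_cast [Nat.one_le_pow 2 q hq1, Nat.one_le_pow 6 q hq1, Nat.one_le_pow 8 q hq1,
    Nat.one_le_pow 12 q hq1] at hdvdZ
  have e : (q : ℤ) ^ 36 * CfsgLib.MinDeg.TwE6.ordE6 q = (q : ℤ) ^ 36 * ((q : ℤ) ^ 2 - 1) *
      ((q : ℤ) ^ 5 + 1) * ((q : ℤ) ^ 6 - 1) * ((q : ℤ) ^ 8 - 1) * ((q : ℤ) ^ 9 + 1) *
      ((q : ℤ) ^ 12 - 1) := by
    unfold CfsgLib.MinDeg.TwE6.ordE6; ring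
  rw [← e] at hdvdZ
  have h3 : q ^ 3 ≤ q ^ 6 := Nat.pow_le_pow_right hq1 (by norm_num)
  simp only [List.map_cons, List.map_nil, List.sum_cons, List.sum_nil] at hbound
  zify [hq1, h3] at hbound ⊢
  have hx : (2 : ℤ) ≤ q := by exact_mod_cast hq2
  have hmul : ∀ n : ℕ, 2 * (q : ℤ) ^ n ≤ (q : ℤ) ^ (n + 1) := fun n => by
    rw [pow_succ']; exact mul_le_mul_of_nonneg_right hx (pow_nonneg (by linarith) n)
  have hpw : ∀ {i j : ℕ}, i ≤ j → (q : ℤ) ^ i ≤ (q : ℤ) ^ j := fun h =>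
    pow_le_pow_right₀ (by linarith) h
  by_contra hlt
  rcases hbound with hb | hb
  · have e1 := hmul 10
    have e2 := hmul 7
    have e3 := hmul 6
    have e4 := hpw (show 5 ≤ 6 by norm_num)
    have e5 := hpw (show 1 ≤ 6 by norm_num)
    have e6 := pow_nonneg (show (0 : ℤ) ≤ q by linarith) 4
    refine hlt (le_trans ?_ hb)
    ring_nf at e1 e2 e3 e4 e5 e6 ⊢
    linarith
  · have hlow : (q : ℤ) * (q ^ 6 - q ^ 3 + 1) * (q ^ 4 + 1) - 2 ≤ k := by linarith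
    rcases (show (k : ℤ) = (q : ℤ) * (q ^ 6 - q ^ 3 + 1) * (q ^ 4 + 1) - 2 ∨
        (k : ℤ) = (q : ℤ) * (q ^ 6 - q ^ 3 + 1) * (q ^ 4 + 1) - 1 by omega) with hk' | hk'
    · refine CfsgLib.MinDeg.TwE6.excA_not_dvd q hq (dvd_trans ⟨(q : ℤ) - 1, ?_⟩ hdvdZ)
      rw [hk', CfsgLib.MinDeg.TwE6.excA]; ring
    · refine CfsgLib.MinDeg.TwE6.excB_not_dvd q hq2 (dvd_trans ⟨(q : ℤ) ^ 4 - q ^ 2 + 1, ?_⟩ hdvdZ)
      rw [hk', CfsgLib.MinDeg.TwE6.excB]; ring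

end Cfsg.Agent.S2341
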