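import Cfsg.Statements.S2342
import Cfsg.Agent.Lib.MinDeg.TriD4
import Cfsg.Agent.Lib.Twisted.D4Order
import Cfsg.Agent.Lib.Twisted.D4Simple
import Cfsg.Agent.Lib.Char.Integral

set_option autoImplicit false
open Cfsg

open CfsgLib CfsgLib.Twisted in
/-- The arithmetic excluding the extreme degree. -/
theorem Cfsg.Agent.S2342.not_dvd (q : ℕ) (hq : 2 ≤ q) :
    ¬ ((q : ℤ) ^ 4 + q ^ 3 + 1) ∣
      (q : ℤ) ^ 12 * (q ^ 2 - 1) * (q ^ 6 - 1) * (q ^ 8 + q ^ 4 + 1) := by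
  set x : ℤ := (q : ℤ) with hx
  set m : ℤ := x ^ 4 + x ^ 3 + 1 with hm
  have hq' : (2 : ℤ) ≤ x := by rw [hx]; exact_mod_cast hq
  intro h
  have cq : IsCoprime m x := ⟨1, -(x ^ 3 + x ^ 2), by ring⟩
  have c2 : IsCoprime m (x + 1) := ⟨1, -x ^ 3, by ring⟩
  have c6 : IsCoprime m (x ^ 2 - x + 1) := by
    have e : m = (x ^ 2 - x + 1) * (x ^ 2 + 2 * x + 1) + -x := by ring
    rw [e]
    refine IsCoprime.mul_add_left_left ?_ (x ^ 2 + 2 * x + 1)
    exact (IsCoprime.neg_left ⟨1 - x, 1, by ring⟩)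
  have c12 : IsCoprime m (x ^ 4 - x ^ 2 + 1) := by
    have e : m = (x ^ 4 - x ^ 2 + 1) * 1 + x ^ 2 * (x + 1) := by ring
    rw [e]
    refine IsCoprime.mul_add_left_left (IsCoprime.mul_left (IsCoprime.pow_left ?_) ?_) 1
    · exact ⟨-(x ^ 3 - x), 1, by ring⟩
    · exact ⟨-(x ^ 3 - x ^ 2), 1, by ring⟩
  have e : x ^ 12 * (x ^ 2 - 1) * (x ^ 6 - 1) * (x ^ 8 + x ^ 4 + 1) =
      x ^ 12 * ((x + 1) ^ 2 * ((x ^ 2 - x + 1) ^ 2 * ((x ^ 4 - x ^ 2 + 1) *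
        ((x - 1) ^ 2 * (x ^ 2 + x + 1) ^ 2)))) := by ring
  rw [e] at h
  have h1 := c12.dvd_of_dvd_mul_left (c6.pow_right.dvd_of_dvd_mul_left
    (c2.pow_right.dvd_of_dvd_mul_left (cq.pow_right.dvd_of_dvd_mul_left h)))
  have g : ∀ y a b : ℤ, a * m + b * y = 3 → ∀ z, m ∣ y * z → m ∣ 3 * z := by
    intro y a b hab z hz
    obtain ⟨c, hc⟩ := hz
    exact ⟨a * z + b * c, by linear_combination -z * hab + b * hc⟩
  have h2 : m ∣ 3 * (3 * (3 * (3 * 1))) := by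
    have s1 : ∀ z, m ∣ (x - 1) * z → m ∣ 3 * z :=
      g (x - 1) 1 (-(x ^ 3 + 2 * x ^ 2 + 2 * x + 2)) (by ring)
    have s3 : ∀ z, m ∣ (x ^ 2 + x + 1) * z → m ∣ 3 * z :=
      g (x ^ 2 + x + 1) (1 - x) (1 + (x - 1) * (x ^ 2 - 1)) (by ring)
    have a1 := s1 _ (show m ∣ (x - 1) * ((x - 1) * ((x ^ 2 + x + 1) * ((x ^ 2 + x + 1) * 1))) by
      refine dvd_trans h1 (dvd_of_eq ?_); ring)
    have a2 := s1 _ (show m ∣ (x - 1) * (3 * ((x ^ 2 + x + 1) * ((x ^ 2 + x + 1) * 1))) by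
      refine dvd_trans a1 (dvd_of_eq ?_); ring)
    have a3 := s3 _ (show m ∣ (x ^ 2 + x + 1) * (3 * (3 * ((x ^ 2 + x + 1) * 1))) by
      refine dvd_trans a2 (dvd_of_eq ?_); ring)
    exact s3 _ (show m ∣ (x ^ 2 + x + 1) * (3 * (3 * (3 * 1))) by refine dvd_trans a3 (dvd_of_eq ?_); ring)
  have hle := Int.le_of_dvd (by norm_num) h2
  have hq3 : q ≤ 2 := by
    by_contra hc
    have h3 : (3 : ℤ) ≤ x := by rw [hx]; exact_mod_cast (show 3 ≤ q by omega)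
    nlinarith [pow_le_pow_left₀ (by norm_num) h3 4, pow_le_pow_left₀ (by norm_num) h3 3]
  obtain rfl : q = 2 := by omega
  rw [hm, hx] at h2
  norm_num at h2

namespace Cfsg.Agent.S2342

/-- For the twisted group ³D₄(q), realised over the field with q³ elements (q a prime power), every irreducible complex representation of degree at least 2 has degree at least q(q⁴ − q² + 1). -/
theorem result {K : Type*} [Field K] [Fintype K] (q : ℕ) (hq : IsPrimePow q) (hK : Fintype.card K = q ^ 3) :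
    (∀ (k : ℕ) (ρ : Representation ℂ (Cfsg.Lie.twistedD4 K q) (Fin k → ℂ)), ρ.IsIrreducible → 2 ≤ k → q * (q ^ 4 - q ^ 2 + 1) ≤ k) := by
  intro k ρ hρ hk
  obtain ⟨φ, hφ⟩ := CfsgLib.Twisted.exists_frob hq three_ne_zero hK
  have hcard := CfsgLib.Twisted.D4.card_group_twisted (K := K) hq hK
  haveI hsimple := (CfsgLib.Twisted.D4.simple_group (K := K) hq hK).1
  revert ρ hcard hsimple
  rw [CfsgLib.Twisted.D4.twistedD4_eq hK φ hφ]
  intro ρ hρ hcard hsimple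
  obtain ⟨D, hz⟩ := CfsgLib.Twisted.D4.exists_triData φ hq hK hφ
  haveI : Fintype (CfsgLib.Twisted.D4.Fix φ) := Fintype.ofFinite _
  have hF : Fintype.card (CfsgLib.Twisted.D4.Fix φ) = q := by
    rw [← Nat.card_eq_fintype_card, CfsgLib.Twisted.D4.card_Fix φ hq hK hφ]
  -- the representation is faithful
  have hne : ∃ t, ρ (D.z t) ≠ 1 := by
    refine ⟨1, fun h1 => ?_⟩
    have hz1 : D.z 1 ≠ 1 := fun e => by
      have h2 := congrArg Subtype.val e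
      rw [hz] at h2
      exact one_ne_zero ((CfsgLib.Chev.elX_eq_one_iff CfsgLib.Chev.D4.checked
        (show 23 < Cfsg.Lie.chevD4.nroots by decide +kernel) _).1 h2)
    rcases hsimple.eq_bot_or_eq_top_of_normal (MonoidHom.ker ρ) inferInstance with hb | ht
    · exact hz1 (Subgroup.mem_bot.1 (hb ▸ (MonoidHom.mem_ker).2 h1))
    · obtain ⟨s, -, hs⟩ := CfsgLib.MinDeg.exists_rep_ne_one ρ hρ hk Set.univ (top_le_iff.1
        (fun x _ => Subgroup.subset_normalClosure (Set.mem_univ x)))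
      exact hs (MonoidHom.mem_ker.1 (ht ▸ Subgroup.mem_top s))
  have hbound := D.degree_le ρ hne (by rw [hF, hK]; exact Nat.le_self_pow three_ne_zero q)
  rw [hF, hK, Module.finrank_fin_fun] at hbound
  have hdvd := CfsgLib.Char.finrank_dvd_card ρ
  rw [Module.finrank_fin_fun, hcard] at hdvd
  have hq1 : 1 ≤ q := hq.one_lt.le
  have h4 : q ^ 2 ≤ q ^ 4 := Nat.pow_le_pow_right hq1 (by norm_num)
  have hdvdZ : (k : ℤ) ∣ ((q ^ 12 * (q ^ 2 - 1) * (q ^ 6 - 1) * (q ^ 8 + q ^ 4 + 1) : ℕ) : ℤ) :=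
    Int.natCast_dvd_natCast.2 hdvd
  zify [hq1, h4] at hbound ⊢
  push_cast [Nat.one_le_pow 2 q hq1, Nat.one_le_pow 6 q hq1] at hdvdZ
  by_contra hlt
  have hk' : (k : ℤ) = ((q : ℤ) - 1) * ((q : ℤ) ^ 4 + q ^ 3 + 1) := by nlinarith
  rw [hk'] at hdvdZ
  exact not_dvd q hq.two_le ((dvd_mul_left _ _).trans hdvdZ)

end Cfsg.Agent.S2342
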