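import Cfsg.Statements.S2343
import Cfsg.Agent.Lib.MinDeg.ReeDegree
import Cfsg.Agent.Lib.ReeG2.Model
-- import your own Cfsg.Agent.* helpers here

set_option autoImplicit false
open Cfsg

namespace Cfsg.Agent.S2343

/-- For the Ree group ²G₂(q), q = 3^(2m+1) with m ≥ 1 (realised over the field with q elements), every irreducible complex representation of degree at least 2 has degree at least q² − q + 1. -/
theorem result {K : Type*} [Field K] [Fintype K] (m : ℕ) (hm : 1 ≤ m) (hK : Fintype.card K = 3 ^ (2 * m + 1)) :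
    (∀ (k : ℕ) (ρ : Representation ℂ (Cfsg.Lie.twistedG2 K (3 ^ m)) (Fin k → ℂ)), ρ.IsIrreducible → 2 ≤ k → (3 ^ (2 * m + 1)) ^ 2 - 3 ^ (2 * m + 1) + 1 ≤ k) := by
  have key : ∀ G : Subgroup (GL Cfsg.Lie.chevG2.Idx K), G = Cfsg.Lie.twistedG2 K (3 ^ m) →
      ∀ (k : ℕ) (ρ : Representation ℂ ↥G (Fin k → ℂ)), ρ.IsIrreducible → 2 ≤ k →
        (3 ^ (2 * m + 1)) ^ 2 - 3 ^ (2 * m + 1) + 1 ≤ k := by
    intro G hG
    obtain ⟨_, θ, hθ, he⟩ := CfsgLib.ReeG2.exists_theta hK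
    rw [CfsgLib.ReeG2.model hθ he] at hG
    subst hG
    intro k ρ hρ hk
    have hq8 : Fintype.card K % 8 = 3 := by
      rw [hK, pow_succ, pow_mul, Nat.mul_mod, Nat.pow_mod]; norm_num
    have hq : 3 < Fintype.card K := by
      rw [hK]
      calc 3 < 3 ^ 3 := by norm_num
        _ ≤ 3 ^ (2 * m + 1) := Nat.pow_le_pow_right (by norm_num) (by omega)
    rw [pow_two, ← hK]
    exact CfsgLib.MinDeg.Ree.degree_bound hθ hq8 hq ρ hρ hk
  exact key _ rfl

end Cfsg.Agent.S2343
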