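import Cfsg.Statements.S2344
import Cfsg.Agent.Lib.MinDeg.OrthOddBound

set_option autoImplicit false
open Cfsg CfsgLib.Classical.Quad CfsgLib.MinDeg.OrthBd

namespace Cfsg.Agent.S2344

/-- For a finite field F of odd order q > 3 and n ≥ 3, every irreducible complex representation of degree at least 2 of Ω_{2n+1}(F) (the commutator subgroup of the isometry group of the quadratic form x₀² + x₁y₁ + ⋯ + x_ny_n) has degree at least (q^{2n} − 1)/(q² − 1). -/
theorem result {F : Type*} [Field F] [Fintype F] (n : ℕ) (hn : 3 ≤ n) (hodd : Odd (Fintype.card F)) (h3 : 3 < Fintype.card F) :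
    (∀ (k : ℕ) (ρ : Representation ℂ (Cfsg.Omega F (Cfsg.quadFormOdd n F)) (Fin k → ℂ)), ρ.IsIrreducible → 2 ≤ k → (Fintype.card F ^ (2 * n) - 1) / (Fintype.card F ^ 2 - 1) ≤ k) := by
  intro k ρ hρ hk
  obtain ⟨i, rfl⟩ : ∃ i, n = i + 3 := ⟨n - 3, by omega⟩
  have hr : ringChar F ≠ 2 := fun h => by
    have := FiniteField.even_card_of_char_two h
    rw [Nat.odd_iff] at hodd
    omega
  have h2 : (2 : F) ≠ 0 := Ring.two_ne_zero hr
  have hI : Isom (hypForm (i + 3) (lineForm F)) (plane (TQ (baseOdd F) (i + 1))) := by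
    have h := isom_hypForm_tower (isom_baseOdd (F := F)) (i + 2)
    rw [show 1 + (i + 2) = i + 3 by omega] at h
    exact h
  have hE := oddForm_TQ h2 (i + 1)
  obtain ⟨P⟩ := hE.nonempty_frame
  obtain ⟨σ, hσ⟩ := bridge (oddEquiv (i + 3) F) (oddEquiv_spec (i + 3)) hI hE.plane.nd P ρ hρ
  have h := odd_bound h2 (Nat.odd_iff.1 hodd) h3 i σ hσ hk
  refine Nat.div_le_of_le_mul ?_
  have h1 : 1 ≤ Fintype.card F ^ (2 * (i + 3)) := Nat.one_le_pow _ _ Fintype.card_pos
  have h1' : 1 ≤ Fintype.card F ^ 2 := Nat.one_le_pow _ _ Fintype.card_pos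
  have h4 := mul_le_mul_of_nonneg_left h
    (show (0 : ℤ) ≤ (Nat.card F : ℤ) ^ 2 - 1 by
      have := five_le_card (Nat.odd_iff.1 hodd) h3
      nlinarith)
  have h5 := TC_mul (Nat.card F : ℤ) (i + 1)
  rw [Nat.card_eq_fintype_card] at h4 h5
  zify [h1, h1']
  push_cast at h5
  refine le_trans (le_of_eq ?_) h4
  linear_combination -h5

end Cfsg.Agent.S2344
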