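import Cfsg.Statements.S2345
import Cfsg.Agent.Lib.MinDeg.OrthStd

set_option autoImplicit false
open Cfsg CfsgLib.Classical.Quad CfsgLib.MinDeg.OrthBd

namespace Cfsg.Agent.S2345

/-- For a finite field F with q > 3 elements and n ≥ 4, every irreducible complex representation of degree at least 2 of Ω⁺_{2n}(F) (the commutator subgroup of the isometry group of the hyperbolic quadratic form x₁y₁ + ⋯ + x_ny_n) has degree at least (q^n − 1)(q^{n−1} + q)/(q² − 1). -/
theorem result {F : Type*} [Field F] [Fintype F] (n : ℕ) (hn : 4 ≤ n) (h3 : 3 < Fintype.card F) :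
    (∀ (k : ℕ) (ρ : Representation ℂ (Cfsg.Omega F (Cfsg.quadFormPlus n F)) (Fin k → ℂ)), ρ.IsIrreducible → 2 ≤ k → (Fintype.card F ^ n - 1) * (Fintype.card F ^ (n - 1) + Fintype.card F) / (Fintype.card F ^ 2 - 1) ≤ k) := by
  intro k ρ hρ hk
  obtain ⟨j, rfl⟩ : ∃ j, n = j + 4 := ⟨n - 4, by omega⟩
  have hI : Isom (hypForm (j + 4) (zeroKernel F)) (TQ (basePlus F) (j + 2)) := by
    have h := isom_hypForm_tower (isom_basePlus (F := F)) (j + 2)
    rwa [show 2 + (j + 2) = j + 4 by omega] at h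
  have hE := evenForm_TQ (evenForm_basePlus (F := F)) (j + 1)
  obtain ⟨P⟩ := hE.nonempty_frame
  obtain ⟨σ, hσ⟩ := bridge (plusEquiv (j + 4) F) (plusEquiv_spec (j + 4)) hI hE.plane.nd P ρ hρ
  refine nat_div_le (ε := 1) (i := j + 1) (Or.inl rfl) ?_ (plus_bound h3 j σ hσ hk)
  rw [Nat.cast_mul, Nat.cast_sub (Nat.one_le_pow _ _ Fintype.card_pos), Nat.card_eq_fintype_card]
  push_cast
  ring

end Cfsg.Agent.S2345
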