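import Cfsg.Statements.S2346
import Cfsg.Agent.Lib.MinDeg.OrthStdMinus

set_option autoImplicit false
open Cfsg CfsgLib.Classical.Quad CfsgLib.MinDeg.OrthBd

namespace Cfsg.Agent.S2346

/-- For a finite field F with q elements, n ≥ 4, and a, b ∈ F with z₁² + a z₁z₂ + b z₂² anisotropic, every irreducible complex representation of degree at least 2 of Ω⁻_{2n}(F) (the commutator subgroup of the isometry group of x₁y₁ + ⋯ + x_{n−1}y_{n−1} + z₁² + a z₁z₂ + b z₂²) has degree at least (q^n + 1)(q^{n−1} − q)/(q² − 1). -/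
theorem result {F : Type*} [Field F] [Fintype F] (n : ℕ) (hn : 4 ≤ n) (a b : F) (hab : ∀ z₁ z₂ : F, z₁ ^ 2 + a * z₁ * z₂ + b * z₂ ^ 2 = 0 → z₁ = 0 ∧ z₂ = 0) :
    (∀ (k : ℕ) (ρ : Representation ℂ (Cfsg.Omega F (Cfsg.quadFormMinus (n - 1) F a b)) (Fin k → ℂ)), ρ.IsIrreducible → 2 ≤ k → (Fintype.card F ^ n + 1) * (Fintype.card F ^ (n - 1) - Fintype.card F) / (Fintype.card F ^ 2 - 1) ≤ k) := by
  intro k ρ hρ hk
  obtain ⟨j, rfl⟩ : ∃ j, n = j + 4 := ⟨n - 4, by omega⟩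
  have hab' : IsAniso a b := hab
  have hI : Isom (hypForm (j + 4 - 1) (binForm a b)) (TQ (baseMinus a b) (j + 2)) := by
    have h := isom_hypForm_tower (isom_baseMinus a b) (j + 2)
    rwa [show 1 + (j + 2) = j + 4 - 1 by omega] at h
  have hE := evenForm_TQ (evenForm_baseMinus hab') (j + 1)
  obtain ⟨P⟩ := hE.nonempty_frame
  obtain ⟨σ, hσ⟩ := bridge (minusEquiv (j + 4 - 1) F) (minusEquiv_spec (j + 4 - 1) a b) hI
    hE.plane.nd P ρ hρ
  refine nat_div_le (ε := -1) (i := j + 1) (Or.inr rfl) ?_ (minus_bound hab' j σ hσ hk)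
  rw [show j + 4 - 1 = j + 3 by omega, Nat.cast_mul,
    Nat.cast_sub (Nat.le_self_pow (by omega) _), Nat.card_eq_fintype_card]
  push_cast
  ring

end Cfsg.Agent.S2346
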