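import Cfsg.Statements.S2354
import Cfsg.Agent.Lib.MinDeg.Suzuki

/-!
Leading term argument: with `t = u^(2^m)` the torus of `Sz(q)` is, up to the scalar `u^(2^m)`, a
polynomial in `u` of degree `2^(m+1)` with rank-one leading coefficient; conjugates attached to
distinct ovoid points give a word whose leading coefficient is nonzero.
-/

set_option autoImplicit false
open Cfsg

namespace Cfsg.Agent.S2354

open Matrix Polynomial CfsgLib.MinDeg.Suzuki

section Lead

variable {F : Type*} [Field F] {n : Type*} [Fintype n] [DecidableEq n]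

/-- Entries of degree at most `D`, with degree-`D` coefficients `R`. -/
def HasLead (P : Matrix n n F[X]) (D : ℕ) (R : Matrix n n F) : Prop :=
  ∀ i j, (P i j).natDegree ≤ D ∧ (P i j).coeff D = R i j

omit [DecidableEq n] in
theorem hasLead_mul {P Q : Matrix n n F[X]} {D E : ℕ} {R S : Matrix n n F} (hP : HasLead P D R)
    (hQ : HasLead Q E S) : HasLead (P * Q) (D + E) (R * S) := by
  intro i j
  rw [Matrix.mul_apply, Matrix.mul_apply]
  refine ⟨natDegree_sum_le_of_forall_le _ _ fun k _ =>
    natDegree_mul_le.trans (add_le_add (hP i k).1 (hQ k j).1), ?_⟩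
  rw [finsetSum_coeff]
  refine Finset.sum_congr rfl fun k _ => ?_
  rw [coeff_mul_add_eq_of_natDegree_le (hP i k).1 (hQ k j).1, (hP i k).2, (hQ k j).2]

/-- A product along a chain of rank-one leading terms keeps a nonzero rank-one leading term. -/
theorem hasLead_list {ι : Type*} (P : ι → Matrix n n F[X]) (v f : ι → n → F) (D : ℕ)
    (h : ∀ a, HasLead (P a) D (vecMulVec (v a) (f a))) (r : ι → ι → Prop)
    (hr : ∀ a b, r a b → f a ⬝ᵥ v b ≠ 0) :
    ∀ (l : List ι) (a : ι), (a :: l).IsChain r → ∃ (s : F) (z : ι), s ≠ 0 ∧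
      HasLead ((a :: l).map P).prod ((a :: l).length * D) (s • vecMulVec (v a) (f z))
  | [], a, _ => ⟨1, a, one_ne_zero, by simpa using h a⟩
  | b :: l, a, hc => by
    rw [List.isChain_cons_cons] at hc
    obtain ⟨s, z, hs, hl⟩ := hasLead_list P v f D h r hr l b hc.2
    refine ⟨s * (f a ⬝ᵥ v b), z, mul_ne_zero hs (hr a b hc.1), ?_⟩
    have := hasLead_mul (h a) hl
    rw [List.map_cons, List.prod_cons, List.length_cons (a := a), Nat.succ_mul, add_comm]
    convert this using 1
    rw [Matrix.mul_smul, vecMulVec_mul, vecMul_vecMulVec, vecMulVec_smul, smul_smul]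

end Lead

variable {F : Type*} [Field F] (S : Tits F)

/-- The ovoid point with parameters `a, b`. -/
def pt (a b : F) : Fin 4 → F := ![S.θ b + a * b + a ^ 2 * S.θ a, b, a, 1]

theorem pt_apply_zero {a b : F} (h : S.θ b + a * b + a ^ 2 * S.θ a = 0) : a = 0 ∧ b = 0 := by
  rcases eq_or_ne a 0 with rfl | ha
  · simp at h; exact ⟨rfl, h⟩
  exfalso
  have hθ : S.θ a ≠ 0 := fun h' => ha ((map_eq_zero _).1 h')
  set y := b / (a * S.θ a) with hy
  have hb : b = a * S.θ a * y := by rw [hy, mul_div_cancel₀ _ (mul_ne_zero ha hθ)]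
  rw [hb, map_mul, map_mul, S.θθ] at h
  have h1 : a ^ 2 * S.θ a * (S.θ y + y + 1) = 0 := by linear_combination h
  have h2 : S.θ y + y + 1 = 0 :=
    (mul_eq_zero.1 h1).resolve_left (mul_ne_zero (pow_ne_zero _ ha) hθ)
  have h3 := congrArg S.θ h2
  rw [map_add, map_add, map_one, map_zero, S.θθ] at h3
  -- `y² = θ y + 1 = y`, so `y ∈ {0, 1}`
  have h4 : y * (y + 1) = 0 := by linear_combination h3 - h2 + y * S.two
  rcases mul_eq_zero.1 h4 with h5 | h5
  · rw [h5, map_zero, zero_add, zero_add] at h2; exact one_ne_zero h2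
  · have h6 : y = 1 := by linear_combination h5 - S.two
    rw [h6, map_one] at h2
    exact one_ne_zero (show (1 : F) = 0 by linear_combination h2 - S.two)

/-- The linear functional `B(·, y)`. -/
def dual (y : Fin 4 → F) : Fin 4 → F := fun i => y i.rev

omit S in
theorem dual_dot (y x : Fin 4 → F) : dual y ⬝ᵥ x = Cfsg.Lie.altForm4 x y := by
  simp [dual, dotProduct, Fin.sum_univ_four, Cfsg.Lie.altForm4]; ring

theorem pt_eq (a b : F) : pt S a b = matV S a b *ᵥ ![0, 0, 0, 1] := by
  funext i
  fin_cases i <;> simp [pt, matV, mulVec, dotProduct, Fin.sum_univ_four]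

theorem altForm_pt_ne_zero {a b a' b' : F} (h : (a, b) ≠ (a', b')) :
    Cfsg.Lie.altForm4 (pt S a b) (pt S a' b') ≠ 0 := by
  intro h0
  set x := (a + a', b + a * S.θ a + b' + S.θ a * a') with hx
  have e := (szCond_matV S a (b + a * S.θ a)).1.1 (pt S a b) (pt S a' b')
  have e1 : matV S a (b + a * S.θ a) *ᵥ pt S a b = ![0, 0, 0, 1] := by
    rw [pt_eq, mulVec_mulVec, mul_eq_one_comm.1 (matV_mul_inv S a b), one_mulVec]
  have e2 : matV S a (b + a * S.θ a) *ᵥ pt S a' b' = pt S x.1 x.2 := by
    rw [pt_eq S a' b', mulVec_mulVec, matV_mul, ← pt_eq]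
  rw [e1, e2, h0] at e
  have e3 : S.θ x.2 + x.1 * x.2 + x.1 ^ 2 * S.θ x.1 = 0 := by
    rw [← e]; simp [Cfsg.Lie.altForm4, pt]
  obtain ⟨ha, hb⟩ := pt_apply_zero S e3
  have ha' : a = a' := by simp only [hx] at ha; linear_combination ha - a' * S.two
  subst ha'
  apply h
  simp only [hx] at hb
  rw [show b = b' by linear_combination hb - b' * S.two - a * S.θ a * S.two]

/-- Polynomial form of the torus scaled by a scalar. -/
noncomputable def polH (M : ℕ) (pos : Bool) : Matrix (Fin 4) (Fin 4) F[X] :=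
  if pos then Matrix.diagonal ![X ^ (2 * M), X, X ^ (2 * M - 1), 1]
    else Matrix.diagonal ![1, X ^ (2 * M - 1), X, X ^ (2 * M)]

omit S in
theorem hasLead_polH {M : ℕ} (hM : 2 ≤ M) :
    HasLead (polH (F := F) M true) (2 * M) (vecMulVec (Pi.single 0 1) (Pi.single 0 1)) ∧
    HasLead (polH (F := F) M false) (2 * M) (vecMulVec (Pi.single 3 1) (Pi.single 3 1)) := by
  constructor <;> intro i j <;>
    fin_cases i <;> fin_cases j <;>
      simp [polH, vecMulVec_apply, coeff_X, coeff_X_pow, Polynomial.coeff_one] <;> omega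

/-- Result. -/
theorem result (w : FreeGroup ℕ) (hw : w ≠ 1) :
    ∃ N : ℕ, ∀ (F : Type*) [Field F] [Fintype F] (m : ℕ), 1 ≤ m → N ≤ m →
      Fintype.card F = 2 ^ (2 * m + 1) →
      ∃ f : ℕ → ↥(Cfsg.Lie.Sz F (2 ^ (m + 1))), FreeGroup.lift f w ≠ 1 := by
  classical
  set L := w.toWord with hL
  obtain ⟨k, hk⟩ : ∃ k : ℕ, ∀ x ∈ L, x.1 < k :=
    ⟨(L.map Prod.fst).sum + 1, fun x hx =>
      Nat.lt_succ_of_le (List.le_sum_of_mem (List.mem_map.2 ⟨x, hx, rfl⟩))⟩
  refine ⟨L.length + k + 2, fun F _ _ m hm hN hF => ?_⟩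
  obtain ⟨S, hS⟩ := exists_tits hm hF
  rw [← hS]
  set M := 2 ^ m with hM
  have hmM : m < M := Nat.lt_two_pow_self
  have hq : Fintype.card F = 2 * M * M := by rw [hF, hM, pow_succ, two_mul m, pow_add]; ring
  have hk' : Fintype.card (Fin k) ≤ Fintype.card {a : F // a ≠ 0} := by
    rw [Fintype.card_fin, Fintype.card_subtype_compl, Fintype.card_subtype_eq, hq]
    have : M ≤ 2 * M * M := Nat.le_mul_of_pos_left M (by omega)
    omega
  obtain ⟨a⟩ := Function.Embedding.nonempty_of_card_le hk'
  -- conjugators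
  let c : Fin k → Cfsg.Lie.Sz F S.e := fun i => S.v (a i).1 0 * S.u 0 1
  let col : ℕ × Bool → Fin 4 := fun x => if x.2 then 0 else 3
  let p : ℕ × Bool → F × F := fun x =>
    if h : x.1 < k then
      (if x.2 then ((a ⟨x.1, h⟩).1 + 1, S.θ (a ⟨x.1, h⟩).1) else ((a ⟨x.1, h⟩).1, 0))
    else (0, 0)
  let C : ℕ × Bool → Matrix (Fin 4) (Fin 4) F := fun x =>
    if h : x.1 < k then S.mat (c ⟨x.1, h⟩) else 1
  let C' : ℕ × Bool → Matrix (Fin 4) (Fin 4) F := fun x =>
    if h : x.1 < k then S.mat (c ⟨x.1, h⟩)⁻¹ else 1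
  let P : ℕ × Bool → Matrix (Fin 4) (Fin 4) F[X] := fun x =>
    (C x).map Polynomial.C * polH M x.2 * (C' x).map Polynomial.C
  let v : ℕ × Bool → Fin 4 → F := fun x => C x *ᵥ Pi.single (col x) 1
  let f : ℕ × Bool → Fin 4 → F := fun x => Pi.single (col x) 1 ᵥ* C' x
  have hlead : ∀ x, HasLead (P x) (2 * M) (vecMulVec (v x) (f x)) := by
    intro x
    have hCc : ∀ A : Matrix (Fin 4) (Fin 4) F, HasLead (A.map Polynomial.C) 0 A := fun A i j => by
      simp
    have hh : HasLead (polH (F := F) M x.2) (2 * M)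
        (vecMulVec (Pi.single (col x) 1) (Pi.single (col x) 1)) := by
      have := hasLead_polH (F := F) (M := M) (by omega)
      rcases x with ⟨i, _ | _⟩
      · exact this.2
      · exact this.1
    have := hasLead_mul (hasLead_mul (hCc (C x)) hh) (hCc (C' x))
    rw [zero_add, add_zero, mul_vecMulVec, vecMulVec_mul] at this
    exact this
  have hv : ∀ (i : ℕ) (b : Bool), i < k → v (i, b) = pt S (p (i, b)).1 (p (i, b)).2 := by
    intro i b hi
    have h2 : (matV S (a ⟨i, hi⟩).1 0 * matU S 0 1) *ᵥ Pi.single (col (i, b)) 1 =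
        pt S (p (i, b)).1 (p (i, b)).2 := by
      rw [← mulVec_mulVec]
      cases b
      · have e : matU S 0 1 *ᵥ Pi.single (3 : Fin 4) 1 = ![0, 0, 0, 1] := by
          funext j; fin_cases j <;> simp [matU]
        simp only [col, p, dif_pos hi, Bool.false_eq_true, if_false]
        rw [e, ← pt_eq]
      · have e : matU S 0 1 *ᵥ Pi.single (0 : Fin 4) 1 = pt S 1 0 := by
          funext j; fin_cases j <;> simp [matU, pt]
        simp only [col, p, dif_pos hi, if_true]
        rw [e, pt_eq S 1 0, mulVec_mulVec, matV_mul, ← pt_eq]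
        simp
    simp only [v, C, dif_pos hi]
    exact h2
  have hf : ∀ (i : ℕ) (b : Bool), i < k → f (i, b) = dual (v (i, !b)) := by
    intro i b hi
    set g := c ⟨i, hi⟩
    have hCg : C (i, !b) = S.mat g := by simp only [C, dif_pos hi, g]
    have hC'g : C' (i, b) = S.mat g⁻¹ := by simp only [C', dif_pos hi, g]
    have hinv : S.mat g⁻¹ * S.mat g = 1 := by rw [← S.mat_mul, inv_mul_cancel]; rfl
    have hform : ∀ u u', Cfsg.Lie.altForm4 (S.mat g *ᵥ u) (S.mat g *ᵥ u') = Cfsg.Lie.altForm4 u u' := by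
      intro u u'
      have hgm : S.mat g = matV S (a ⟨i, hi⟩).1 0 * matU S 0 1 := rfl
      rw [hgm, ← mulVec_mulVec, ← mulVec_mulVec, (szCond_matV S _ _).1.1, (szCond_matU S _ _).1.1]
    refine dotProduct_eq _ _ fun x => ?_
    rw [dual_dot]
    simp only [f, v, hCg, hC'g, ← dotProduct_mulVec]
    set y := S.mat g⁻¹ *ᵥ x
    have hx : x = S.mat g *ᵥ y := by
      rw [mulVec_mulVec, mul_eq_one_comm.1 hinv, one_mulVec]
    rw [hx, hform]
    cases b <;> simp [col, Cfsg.Lie.altForm4]
  have hLne : L ≠ [] := fun h => hw (FreeGroup.toWord_eq_nil_iff.1 h)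
  obtain ⟨x₀, l, hl⟩ := List.exists_cons_of_ne_nil hLne
  have hred : L.IsChain fun x y => x.1 = y.1 → x.2 = y.2 := FreeGroup.isReduced_toWord
  have hchain : L.IsChain fun x y => x.1 < k ∧ y.1 < k ∧ (x.1 = y.1 → x.2 = y.2) := by
    refine (List.IsChain.imp_of_mem_imp (fun x y hx hy h => ?_) hred)
    exact ⟨hk x hx, hk y hy, h⟩
  rw [hl] at hchain
  obtain ⟨s, z, hs, hlast⟩ := hasLead_list P v f (2 * M) hlead _ (fun x y hxy => by
      obtain ⟨hx, hy, h⟩ := hxy
      obtain ⟨i, b⟩ := x; obtain ⟨j, b'⟩ := y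
      rw [hf i b hx, dual_dot, hv j b' hy, hv i (!b) hx]
      refine altForm_pt_ne_zero S fun he => ?_
      simp only [p, dif_pos (show j < k from hy), dif_pos (show i < k from hx)] at he
      have hne : ∀ i : Fin k, S.θ (a i).1 ≠ 0 := fun i h => (a i).2 ((map_eq_zero _).1 h)
      cases b <;> cases b' <;> simp at he
      · exact hne ⟨i, hx⟩ he.2.symm
      · have hji : (⟨j, hy⟩ : Fin k) = ⟨i, hx⟩ := a.injective (Subtype.ext he.1)
        exact absurd (h (congrArg Fin.val hji).symm) (by simp)
      · have hji : (⟨j, hy⟩ : Fin k) = ⟨i, hx⟩ := a.injective (Subtype.ext he)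
        exact absurd (h (congrArg Fin.val hji).symm) (by simp)
      · exact (a ⟨j, hy⟩).2 he.2) l x₀ hchain
  -- evaluate
  by_contra hcon
  push Not at hcon
  have hroots : ∀ u : F, u ≠ 0 →
      ((x₀ :: l).map P).prod.map (Polynomial.eval u) = (u ^ M) ^ L.length • (1 : Matrix (Fin 4) (Fin 4) F) := by
    intro u hu
    let g : ℕ → Cfsg.Lie.Sz F S.e := fun i =>
      if hi : i < k then c ⟨i, hi⟩ * S.h (u ^ M) (pow_ne_zero _ hu) * (c ⟨i, hi⟩)⁻¹ else 1
    have hlift := hcon g
    rw [← FreeGroup.mk_toWord (x := w), FreeGroup.lift_mk, ← hL] at hlift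
    have key : ∀ L' : List (ℕ × Bool), (∀ x ∈ L', x.1 < k) →
        (L'.map P).prod.map (Polynomial.eval u) =
          (u ^ M) ^ L'.length • S.mat (L'.map fun x => cond x.2 (g x.1) (g x.1)⁻¹).prod := by
      intro L' hL'
      induction L' with
      | nil =>
        simp only [List.map_nil, List.prod_nil, List.length_nil, pow_zero, one_smul]
        rw [show S.mat 1 = 1 from rfl, Matrix.map_one _ (by simp) (by simp)]
      | cons x L' ih =>
        simp only [List.map_cons, List.prod_cons, List.length_cons]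
        have hmap : ∀ A B : Matrix (Fin 4) (Fin 4) F[X], (A * B).map (Polynomial.eval u) =
            A.map (Polynomial.eval u) * B.map (Polynomial.eval u) := fun A B =>
          Matrix.map_mul (f := evalRingHom u)
        rw [hmap, ih (fun y hy => hL' y (List.mem_cons_of_mem _ hy)), S.mat_mul, Matrix.mul_smul,
          pow_succ, mul_smul, ← Matrix.smul_mul]
        congr 1
        congr 1
        have hx := hL' x List.mem_cons_self
        obtain ⟨i, b⟩ := x
        set t := u ^ M with ht
        have ht0 : t ≠ 0 := pow_ne_zero _ hu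
        have hθt : S.θ t = u := by
          rw [ht, S.θ_eq, hS, ← pow_mul]
          have : M * 2 ^ (m + 1) = Fintype.card F := by rw [hq, hM, pow_succ]; ring
          rw [this, FiniteField.pow_card]
        set h := S.h t ht0 with hh
        have hevH : (polH (F := F) M b).map (Polynomial.eval u) =
            t • S.mat (cond b h h⁻¹) := by
          have ht2 : u ^ (2 * M) = t * t := by rw [ht, ← pow_add, two_mul]
          have ht3 : u ^ (2 * M - 1) * u = t * t := by
            rw [← pow_succ, ← ht2]; congr 1; omega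
          cases b
          · show _ = t • matH S t⁻¹
            have hinv : S.θ t⁻¹ = u⁻¹ := by rw [map_inv₀, hθt]
            ext i j
            fin_cases i <;> fin_cases j <;> simp [polH, matH, hinv, ht2]
            all_goals field_simp
            all_goals linear_combination ht3
          · show _ = t • matH S t
            ext i j
            fin_cases i <;> fin_cases j <;> simp [polH, matH, hθt, ht2]
            all_goals field_simp
            all_goals linear_combination ht3
        have hg : (cond b (g i) (g i)⁻¹) = c ⟨i, hx⟩ * cond b h h⁻¹ * (c ⟨i, hx⟩)⁻¹ := by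
          have hgi : g i = c ⟨i, hx⟩ * h * (c ⟨i, hx⟩)⁻¹ := dif_pos hx
          cases b <;> simp [hgi, mul_assoc]
        have hC : ∀ A : Matrix (Fin 4) (Fin 4) F, (A.map Polynomial.C).map (Polynomial.eval u) = A := by
          intro A; ext i j; simp
        simp only [P]
        rw [hmap, hmap, hC, hC, hevH, hg, S.mat_mul, S.mat_mul]
        simp only [C, C', dif_pos hx, Matrix.mul_smul, Matrix.smul_mul, Matrix.mul_assoc]
    rw [← hl, key L hk, hlift]
    congr 1
  -- a polynomial with too many roots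
  have hlen : L.length = l.length + 1 := by rw [hl, List.length_cons]
  obtain ⟨i, j, hij⟩ : ∃ i j, s * (v x₀ i * f z j) ≠ 0 := by
    by_contra hall
    push Not at hall
    have hv0 : v x₀ ≠ 0 := by
      obtain ⟨i, b⟩ := x₀
      rw [hv i b (hk _ (hl ▸ List.mem_cons_self))]
      exact fun h => one_ne_zero (α := F) (by simpa [pt] using congrFun h 3)
    have hf0 : f z ≠ 0 := by
      intro h
      by_cases hz : z.1 < k
      · obtain ⟨i, b⟩ := z
        rw [hf i b hz, hv i _ hz] at h
        exact one_ne_zero (α := F) (by simpa [pt, dual] using congrFun h 0)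
      · simp only [f, C', dif_neg hz, vecMul_one] at h
        simpa using congrFun h (col z)
    obtain ⟨i, hi⟩ := Function.ne_iff.1 hv0
    obtain ⟨j, hj⟩ := Function.ne_iff.1 hf0
    exact mul_ne_zero hs (mul_ne_zero hi hj) (hall i j)
  set R : F[X] := X * (((x₀ :: l).map P).prod i j - monomial (M * L.length) ((1 : Matrix (Fin 4) (Fin 4) F) i j)) with hR
  set D := (x₀ :: l).length * (2 * M) with hDdef
  have hD1 : M * L.length < D := by
    rw [hDdef, ← hl, mul_comm (L.length)]
    exact Nat.mul_lt_mul_of_pos_right (by omega) (by omega)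
  have hcoeff : R.coeff (D + 1) ≠ 0 := by
    rw [hR, coeff_X_mul, coeff_sub, (hlast i j).2, coeff_monomial, if_neg hD1.ne, sub_zero]
    simpa [vecMulVec_apply] using hij
  have hdeg : R.natDegree ≤ D + 1 := by
    refine natDegree_mul_le.trans ?_
    rw [natDegree_X, add_comm]
    refine Nat.succ_le_succ ((natDegree_sub_le _ _).trans (max_le (hlast i j).1 ?_))
    exact (natDegree_monomial_le _).trans hD1.le
  have hlt : D + 1 < Fintype.card F := by
    rw [hDdef, ← hl, hq]
    calc L.length * (2 * M) + 1 < (L.length + 1) * (2 * M) := by rw [add_mul]; omega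
      _ ≤ M * (2 * M) := Nat.mul_le_mul_right _ (by omega)
      _ = _ := by ring
  refine hcoeff ?_
  have hz : R = 0 := eq_zero_of_natDegree_lt_card_of_eval_eq_zero R (f := id) Function.injective_id
    (fun u => by
      rcases eq_or_ne u 0 with rfl | hu
      · simp [hR]
      · have h := congrFun (congrFun (hroots u hu) i) j
        simp only [Matrix.map_apply] at h
        simp only [hR, id, eval_mul, eval_sub, eval_monomial, h, Matrix.smul_apply, smul_eq_mul,
          ← pow_mul]
        ring)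
    (lt_of_le_of_lt hdeg hlt)
  rw [hz, coeff_zero]

end Cfsg.Agent.S2354
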