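import Cfsg.Statements.S2355
import Cfsg.Agent.Lib.GroupLaws.UnitaryTwo
-- import your own Cfsg.Agent.* helpers here

set_option autoImplicit false
open Cfsg

namespace Cfsg.Agent.S2355

open CfsgLib.GroupLaws Matrix

universe u

theorem not_iso_of_isNonLaw {w : FreeGroup ℕ} {G : Type*} [Group G] {Γ : Type*} [Group Γ]
    (hlaw : ∀ f : ℕ → G, FreeGroup.lift f w = 1) (h : IsNonLaw w Γ)
    (e : G ≃* Γ ⧸ Subgroup.center Γ) : False := by
  obtain ⟨f, hf⟩ := h.exists_quotient
  have h1 := congrArg e.toMonoidHom (hlaw fun i => e.symm (f i))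
  rw [lift_comp_apply, map_one] at h1
  exact hf (by simpa using h1)

theorem card_le_of_iso {G : Type*} [Group G] {Γ : Type*} [Group Γ] {ι : Type} [Fintype ι]
    {F : Type*} [Fintype F] (e : G ≃* Γ ⧸ Subgroup.center Γ) (i : Γ → Matrix ι ι F)
    (hi : Function.Injective i) {Q D : ℕ} (hQ : Fintype.card F ≤ Q) (hQ1 : 1 ≤ Q)
    (hD : Fintype.card ι ≤ D) : Nat.card G ≤ Q ^ (D * D) := by
  have : Finite Γ := Finite.of_injective i hi
  calc Nat.card G = Nat.card (Γ ⧸ Subgroup.center Γ) := Nat.card_congr e.toEquiv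
    _ ≤ Nat.card Γ := Nat.card_le_card_of_surjective _ Quotient.mk_surjective
    _ ≤ Nat.card (Matrix ι ι F) := Nat.card_le_card_of_injective i hi
    _ = Fintype.card F ^ (Fintype.card ι * Fintype.card ι) := by
      rw [Matrix, Nat.card_fun, Nat.card_fun, Nat.card_eq_fintype_card, Nat.card_eq_fintype_card,
        ← pow_mul]
    _ ≤ Q ^ (Fintype.card ι * Fintype.card ι) := Nat.pow_le_pow_left hQ _
    _ ≤ Q ^ (D * D) := Nat.pow_le_pow_right hQ1 (Nat.mul_le_mul hD hD)

theorem main (w : FreeGroup ℕ) (hw : w ≠ 1) :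
    ∃ N : ℕ, ∀ (G : Type u) [Group G] [Finite G],
      (Cfsg.IsAlternating G ∨ Cfsg.IsPSL G ∨ Cfsg.IsPSp G ∨ Cfsg.IsPSU G ∨ Cfsg.IsPOmegaOdd G ∨
          Cfsg.IsPOmegaPlus G ∨ Cfsg.IsPOmegaMinus G) →
      (∀ f : ℕ → G, FreeGroup.lift f w = 1) → Nat.card G ≤ N := by
  obtain ⟨k₀, hk₀⟩ := exists_isNonLaw_perm hw
  obtain ⟨N₁, hN₁4, hN₁⟩ := exists_isNonLaw_sl_two.{0} hw
  set Q := (N₁ + 2) ^ 2 with hQdef
  have hQ1 : 1 ≤ Q := Nat.one_le_pow _ _ (by omega)
  have hQN : N₁ ≤ Q := by nlinarith
  set D := 2 * k₀ + 10 with hDdef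
  refine ⟨max k₀.factorial (Q ^ (D * D)), fun G _ _ hG hlaw => ?_⟩
  -- `GL_m` over `F` is large
  have hGL : ∀ (F : Type) [Field F] [Fintype F] (m : ℕ), 2 ≤ m →
      k₀ ≤ m ∨ N₁ ≤ Fintype.card F → IsNonLaw w (commutator (GL (Fin m) F)) := by
    intro F _ _ m hm h
    rcases h with h | h
    · exact (hk₀ m h).map_commutator _ permGL_injective
    · obtain ⟨φ, hφ⟩ := exists_slTwo_to_gl F m hm
      exact (hN₁ F h).map_commutator φ hφ
  rcases hG with h | h | h | h | h | h | h
  · obtain ⟨n, -, ⟨e⟩⟩ := h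
    rcases le_or_gt k₀ n with hn | hn
    · exfalso
      obtain ⟨f, hf⟩ := ((hk₀ n hn).map _
        (Subgroup.inclusion_injective (commutator_perm_le_alternatingGroup n))).exists_ne_one
      have h1 := congrArg e.toMonoidHom (hlaw fun i => e.symm (f i))
      rw [lift_comp_apply, map_one] at h1
      exact hf (by simpa using h1)
    · refine le_max_of_le_left ?_
      rw [Nat.card_congr e.toEquiv]
      calc Nat.card (alternatingGroup (Fin n)) ≤ Nat.card (Equiv.Perm (Fin n)) :=
            Subgroup.card_le_card_group _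
        _ = n.factorial := by rw [Nat.card_perm, Nat.card_fin]
        _ ≤ k₀.factorial := Nat.factorial_le hn.le
  · obtain ⟨F, _, _, n, hn, -, ⟨e⟩⟩ := h
    by_cases hbig : k₀ ≤ n ∨ N₁ ≤ Fintype.card F
    · exact (not_iso_of_isNonLaw hlaw (isNonLaw_SL_of_gl F (hGL F n hn hbig)) e).elim
    · refine le_max_of_le_right (card_le_of_iso e (fun x => (x : Matrix (Fin n) (Fin n) F))
        (fun _ _ h => Subtype.ext h) (by omega) hQ1 (by simp only [Fintype.card_fin]; omega))
  · obtain ⟨F, _, _, m, hm, -, ⟨e⟩⟩ := h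
    by_cases hbig : k₀ ≤ m ∨ N₁ ≤ Fintype.card F
    · exact (not_iso_of_isNonLaw hlaw (((hGL F m hm hbig).map_commutator _
        (glToSp_injective F m)).of_commutator) e).elim
    · refine le_max_of_le_right (card_le_of_iso e Subtype.val Subtype.val_injective (by omega) hQ1
        (by simp only [Fintype.card_sum, Fintype.card_fin]; omega))
  · obtain ⟨F, _, _, n, q, hF, hn, -, ⟨e⟩⟩ := h
    by_cases hbig : k₀ ≤ n ∨ N₁ + 2 ≤ q
    · refine (not_iso_of_isNonLaw hlaw (isNonLaw_SU_of_unitary F ?_) e).elim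
      rcases hbig with hn0 | hq
      · exact (hk₀ n hn0).map_commutator (permUnitary F n q) fun a b h =>
          permGL_injective (congrArg Subtype.val h)
      · obtain ⟨K, φ, hK, hφ⟩ := exists_slTwo_to_unitary hF
        have : Fintype K := Fintype.ofFinite K
        rw [Nat.card_eq_fintype_card] at hK
        obtain ⟨r, rfl⟩ := Nat.exists_eq_add_of_le (show 2 ≤ n by omega)
        exact (hN₁ K (by omega)).map_commutator ((unitaryExtend F 2 r q).comp φ)
          ((unitaryExtend_injective F 2 r q).comp hφ)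
    · have hFQ : Fintype.card F ≤ Q := by
        rw [hF]
        exact Nat.pow_le_pow_left (by omega) 2
      exact le_max_of_le_right (card_le_of_iso e
        (fun x => ((x : Matrix.SpecialLinearGroup (Fin n) F) : Matrix (Fin n) (Fin n) F))
        (fun _ _ h => Subtype.ext (Subtype.ext h)) hFQ hQ1
        (by simp only [Fintype.card_fin]; omega))
  · obtain ⟨F, _, _, m, hm, -, ⟨e⟩⟩ := h
    by_cases hbig : k₀ ≤ m ∨ N₁ ≤ Fintype.card F
    · exact (not_iso_of_isNonLaw hlaw
        ((hGL F m (by omega) hbig).map_commutator _ (glToOrthOdd_injective F m)) e).elim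
    · exact le_max_of_le_right (card_le_of_iso e
        (ι := (Unit ⊕ (Fin m ⊕ Fin m)))
        (fun x => x.1.1.val)
        (fun _ _ h => Subtype.ext (Subtype.ext (Units.ext h))) (by omega) hQ1
        (by simp only [Fintype.card_sum, Fintype.card_fin, Fintype.card_unit]; omega))
  · obtain ⟨F, _, _, m, hm, ⟨e⟩⟩ := h
    by_cases hbig : k₀ ≤ m ∨ N₁ ≤ Fintype.card F
    · exact (not_iso_of_isNonLaw hlaw
        ((hGL F m (by omega) hbig).map_commutator _ (glToOrthPlus_injective F m)) e).elim
    · exact le_max_of_le_right (card_le_of_iso e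
        (ι := (Fin m ⊕ Fin m))
        (fun x => x.1.1.val)
        (fun _ _ h => Subtype.ext (Subtype.ext (Units.ext h))) (by omega) hQ1
        (by simp only [Fintype.card_sum, Fintype.card_fin]; omega))
  · obtain ⟨F, _, _, m, a, b, hm, -, ⟨e⟩⟩ := h
    by_cases hbig : k₀ ≤ m - 1 ∨ N₁ ≤ Fintype.card F
    · exact (not_iso_of_isNonLaw hlaw
        ((hGL F (m - 1) (by omega) hbig).map_commutator _ (glToOrthMinus_injective F (m - 1) a b))
        e).elim
    · exact le_max_of_le_right (card_le_of_iso e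
        (ι := ((Fin (m - 1) ⊕ Fin (m - 1)) ⊕ Fin 2))
        (fun x => x.1.1.val)
        (fun _ _ h => Subtype.ext (Subtype.ext (Units.ext h))) (by omega) hQ1
        (by simp only [Fintype.card_sum, Fintype.card_fin]; omega))

/-- A non-trivial law is satisfied by only finitely many finite simple groups that are alternating or classical, up to isomorphism: for every non-trivial element w of the free group on countably many generators there is a bound N such that every alternating group of degree ≥ 5 and every simple classical group (linear, symplectic, unitary or orthogonal, in this problem's sense) in which w is a law has order at most N. -/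
theorem result (w : FreeGroup ℕ) (hw : w ≠ 1) :
    ∃ N : ℕ, ∀ (G : Type*) [Group G] [Finite G],
      (Cfsg.IsAlternating G ∨ Cfsg.IsPSL G ∨ Cfsg.IsPSp G ∨ Cfsg.IsPSU G ∨ Cfsg.IsPOmegaOdd G ∨
          Cfsg.IsPOmegaPlus G ∨ Cfsg.IsPOmegaMinus G) →
      (∀ f : ℕ → G, FreeGroup.lift f w = 1) → Nat.card G ≤ N := by
  exact main w hw

end Cfsg.Agent.S2355
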