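import Cfsg.Statements.S2358
import Cfsg.Agent.Lib.ReeG2.Toral
-- import your own Cfsg.Agent.* helpers here

set_option autoImplicit false
open Cfsg

namespace Cfsg.Agent.S2358

/-- Let R be the small Ree group over the field with q = 3^(2m+1) ≥ 27 elements. If d divides one of (q−1)/2, (q+1)/4, q − 3^(m+1) + 1 or q + 3^(m+1) + 1, then any two cyclic subgroups of R of order d are conjugate in R. -/
theorem result {K : Type*} [Field K] [Fintype K] {m : ℕ} (hm : 1 ≤ m)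
    (hK : Fintype.card K = 3 ^ (2 * m + 1)) (d : ℕ)
    (hd : d ∣ (3 ^ (2 * m + 1) - 1) / 2 ∨ d ∣ (3 ^ (2 * m + 1) + 1) / 4 ∨ d ∣ 3 ^ (2 * m + 1) - 3 ^ (m + 1) + 1 ∨ d ∣ 3 ^ (2 * m + 1) + 3 ^ (m + 1) + 1)
    (A B : Subgroup ↥(Cfsg.Lie.twistedG2 K (3 ^ m))) (hA : IsCyclic A) (hB : IsCyclic B)
    (hAd : Nat.card A = d) (hBd : Nat.card B = d) :
    ∃ g : ↥(Cfsg.Lie.twistedG2 K (3 ^ m)), B = A.map (MulAut.conj g).toMonoidHom := by
  have key : ∀ G : Subgroup (GL Cfsg.Lie.chevG2.Idx K), G = Cfsg.Lie.twistedG2 K (3 ^ m) →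
      ∀ A B : Subgroup ↥G, IsCyclic A → IsCyclic B → Nat.card A = d → Nat.card B = d →
      ∃ g : ↥G, B = A.map (MulAut.conj g).toMonoidHom := by
    intro G hG
    obtain ⟨_, θ, hθ, he⟩ := CfsgLib.ReeG2.exists_theta hK
    rw [CfsgLib.ReeG2.model hθ he] at hG
    subst hG
    have hq8 : Fintype.card K % 8 = 3 := by
      rw [hK, pow_succ, pow_mul, Nat.mul_mod, Nat.pow_mod]; norm_num
    have hd' : d ∣ (Fintype.card K - 1) / 2 ∨ d ∣ (Fintype.card K + 1) / 4 ∨ d ∣ CfsgLib.ReeG2.nq K := by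
      rw [hK, ← CfsgLib.ReeG2.nq_eq_prod hK]
      rcases hd with h | h | h | h
      · exact Or.inl h
      · exact Or.inr (Or.inl h)
      · exact Or.inr (Or.inr (Dvd.dvd.mul_right h _))
      · exact Or.inr (Or.inr (Dvd.dvd.mul_left h _))
    exact fun A B hA hB hAd hBd => CfsgLib.ReeG2.toral_conj hθ hq8 hd' A B hA hB hAd hBd
  exact key _ rfl A B hA hB hAd hBd

end Cfsg.Agent.S2358
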