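import Cfsg.Statements.S2362
import Cfsg.Agent.Lib.Spectrum.SympElements
import Cfsg.Agent.Lib.Spectrum.OrthOddMixed
import Cfsg.Agent.Lib.Classical.Quad.Std
import Cfsg.Agent.Lib.Orth.Reflection

set_option autoImplicit false
open Cfsg Polynomial

namespace Cfsg.Agent.S2362

/-- `PSp(2n, F)` has an element of order divisible by `p (q ^ d + 1)` for `d < n`. -/
theorem exists_psp_mixed {F : Type*} [Field F] [Fintype F] (p : ℕ) [Fact p.Prime] [CharP F p]
    {n d : ℕ} (h2 : (2 : F) ≠ 0) (hd : 1 ≤ d) (hdn : d < n) :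
    ∃ g : Cfsg.PSp n F, p * (Fintype.card F ^ d + 1) ∣ orderOf g := by
  obtain ⟨A, _, _, _, _, st, lam, a, hA, hl, ha, hord⟩ :=
    CfsgLib.Spectrum.exists_twist_torus (F := F) p h2 hd (T := Fintype.card F ^ d + 1) (Or.inl dvd_rfl)
  obtain ⟨st', lam', hl', ha'⟩ :=
    CfsgLib.Spectrum.exists_twist_unipotent (F := F) p h2 (show 1 ≤ n - d by omega)
  haveI : Module.Finite F (AdjoinRoot (X ^ ((n - d) + (n - d)) : F[X])) :=
    (AdjoinRoot.powerBasis (pow_ne_zero _ X_ne_zero)).finite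
  obtain ⟨hfin, hordu, ⟨ev, hev⟩, -⟩ := CfsgLib.Spectrum.truncated_one_add_root (F := F) p
    (show 1 ≤ (n - d) + (n - d) by omega)
  haveI : Module.Free F A := Module.Free.of_divisionRing F A
  haveI : Module.Free F (AdjoinRoot (X ^ ((n - d) + (n - d)) : F[X])) :=
    Module.Free.of_divisionRing F _
  have hfin' : Module.finrank F (A × AdjoinRoot (X ^ ((n - d) + (n - d)) : F[X])) = n + n := by
    rw [Module.finrank_prod, hA, hfin]; omega
  obtain ⟨g, hg⟩ := CfsgLib.Spectrum.exists_psp_of_twistForm (show 1 ≤ n by omega) h2 hfin'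
    (hl.prod hl' fun x y => by simp) (a, 1 + AdjoinRoot.root (X ^ ((n - d) + (n - d)) : F[X]))
    (by
      show (a, 1 + AdjoinRoot.root (X ^ ((n - d) + (n - d)) : F[X])) *
        (st a, st' (1 + AdjoinRoot.root (X ^ ((n - d) + (n - d)) : F[X]))) = 1
      rw [Prod.mk_mul_mk, ha, ha']
      rfl)
  refine ⟨g, ?_⟩
  have hk : ∀ k, g ^ k = 1 → p * (Fintype.card F ^ d + 1) ∣ k := by
    intro k hk
    rw [hg] at hk
    have hk1 : a ^ k = 1 ∧ (1 + AdjoinRoot.root (X ^ ((n - d) + (n - d)) : F[X])) ^ k = 1 := by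
      rcases hk with hk | hk
      · exact ⟨by simpa using congrArg Prod.fst hk, by simpa using congrArg Prod.snd hk⟩
      · have h := congrArg ev (congrArg Prod.snd hk)
        simp only [Prod.pow_snd, Prod.snd_neg, Prod.snd_one, map_pow, map_neg, map_one, hev,
          one_pow] at h
        exact absurd h.symm (CfsgLib.Spectrum.neg_one_ne_one_of_two (R := F) h2)
    have hN : Fintype.card F ^ d + 1 ∣ k := hord ▸ orderOf_dvd_of_pow_eq_one hk1.1
    have hP : p ∣ k := by
      refine dvd_trans ?_ (orderOf_dvd_of_pow_eq_one hk1.2)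
      rw [hordu]
      exact dvd_pow_self p (Nat.clog_pos (Fact.out : p.Prime).one_lt (by omega)).ne'
    refine Nat.Coprime.mul_dvd_of_dvd_of_dvd ?_ hP hN
    rw [(Fact.out : p.Prime).coprime_iff_not_dvd]
    intro h
    obtain ⟨c, hc, hq⟩ := CfsgLib.Spectrum.card_eq_pow (F := F) p
    have hpq : p ∣ Fintype.card F ^ d := dvd_pow (hq ▸ dvd_pow_self p (by omega)) (by omega)
    exact (Fact.out : p.Prime).not_dvd_one ((Nat.dvd_add_right hpq).1 h)
  exact hk _ (pow_orderOf_eq_one g)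

open CfsgLib.Classical.Quad in
/-- Let F be a finite field of odd order and n ≥ 3. The simple orthogonal group PΩ(2n+1, F) (type B_n) and the projective symplectic group PSp(2n, F) (type C_n), which have the same order, do not have the same set of element orders. -/
theorem result {F : Type*} [Field F] [Fintype F] (hodd : Odd (Fintype.card F)) (n : ℕ) (hn : 3 ≤ n) :
    Set.range (orderOf : Cfsg.POmega F (Cfsg.quadFormOdd n F) → ℕ) ≠ Set.range (orderOf : Cfsg.PSp n F → ℕ) := by
  intro heq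
  obtain ⟨p, hp⟩ := CharP.exists F
  haveI : Fact p.Prime := ⟨CharP.char_is_prime F p⟩
  have h2 : (2 : F) ≠ 0 := two_ne_zero_iff_odd.2 (Nat.card_eq_fintype_card (α := F) ▸ hodd)
  obtain ⟨g, hg⟩ := exists_psp_mixed (F := F) p (n := n) (d := n - 1) h2 (by omega) (by omega)
  obtain ⟨x, hx⟩ : orderOf g ∈ Set.range (orderOf : Cfsg.POmega F (Cfsg.quadFormOdd n F) → ℕ) :=
    heq ▸ ⟨g, rfl⟩
  obtain ⟨y, rfl⟩ := QuotientGroup.mk_surjective x
  obtain ⟨Q, hQdef⟩ : ∃ Q : QuadraticForm F (Unit ⊕ (Fin n ⊕ Fin n) → F),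
      Q = (hypForm n (lineForm F)).comp (oddEquiv n F).toLinearMap := ⟨_, rfl⟩
  have hQcoe : ⇑Q = Cfsg.quadFormOdd n F := by
    funext v
    rw [hQdef]
    exact oddEquiv_spec n v
  have hnd : NDPolar Q := by
    intro v hv
    refine (oddEquiv n F).injective ((ndPolar_hypForm (ndPolar_lineForm h2) n _ fun w => ?_).trans
      (map_zero _).symm)
    obtain ⟨w, rfl⟩ := (oddEquiv n F).surjective w
    have h := hv w
    rw [hQdef] at h
    simpa [QuadraticMap.polar] using h
  have hdvd : p * (Fintype.card F ^ (n - 1) + 1) ∣ orderOf (y : ↥(Cfsg.isometryGroup F (Cfsg.quadFormOdd n F))) := by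
    rw [Subgroup.orderOf_coe]
    exact (hg.trans (dvd_of_eq hx.symm)).trans (orderOf_map_dvd (QuotientGroup.mk' _) y)
  have hmain := fun z => CfsgLib.Spectrum.OrthOddMixed.not_dvd_orderOf_of_mem_Omega (Q := Q) p h2
    (CfsgLib.Orth.ndPolar_iff.1 hnd) (k := n - 1) (by omega)
    (by simp only [Fintype.card_sum, Fintype.card_unit, Fintype.card_fin]; omega) z
  rw [hQcoe] at hmain
  exact hmain y.1 y.2 hdvd

end Cfsg.Agent.S2362
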