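import Cfsg.Statements.S2364
import Mathlib
import Cfsg.Agent.Lib.Linear.Card

set_option autoImplicit false
open Cfsg

namespace Cfsg.Agent.S2364

open Matrix

theorem dvd_card_SL {F : Type*} [Field F] [Fintype F] {p : ℕ} [CharP F p] {m r j : ℕ} (hm : 2 ≤ m)
    (h : r = p ∨ (2 ≤ j ∧ j ≤ m ∧ r ∣ Fintype.card F ^ j - 1)) :
    r ∣ Nat.card (Matrix.SpecialLinearGroup (Fin m) F) := by
  obtain ⟨c, hp, hc⟩ := FiniteField.card F p
  have hq1 : 0 < Fintype.card F - 1 := by
    have := Fintype.one_lt_card (α := F)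
    omega
  refine Nat.dvd_of_mul_dvd_mul_left hq1 ?_
  rw [CfsgLib.Linear.card_SL_mul m (by omega)]
  have hfac : ∀ i, i ≤ m → Fintype.card F ^ m - Fintype.card F ^ (m - i) =
      Fintype.card F ^ (m - i) * (Fintype.card F ^ i - 1) := by
    intro i hi
    rw [Nat.mul_sub, mul_one, ← pow_add, Nat.sub_add_cancel hi]
  rcases h with rfl | ⟨hj2, hjm, hj⟩
  · refine dvd_trans ?_ (Finset.dvd_prod_of_mem _ (Finset.mem_univ (⟨m - 1, by omega⟩ : Fin m)))
    simp only
    rw [hfac 1 (by omega), pow_one, mul_comm]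
    refine mul_dvd_mul (dvd_trans ?_ (dvd_pow_self _ (by omega))) dvd_rfl
    rw [hc]
    exact dvd_pow_self r c.pos.ne'
  · have hne : (⟨m - 1, by omega⟩ : Fin m) ≠ ⟨m - j, by omega⟩ := fun h => by
      have := Fin.ext_iff.1 h
      simp only at this
      omega
    refine dvd_trans ?_ (Finset.prod_dvd_prod_of_subset {⟨m - 1, by omega⟩, ⟨m - j, by omega⟩}
      Finset.univ _ (Finset.subset_univ _))
    rw [Finset.prod_pair hne]
    simp only
    rw [hfac 1 (by omega), hfac j hjm, pow_one]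
    exact mul_dvd_mul (dvd_mul_left _ _) (dvd_mul_of_dvd_right hj _)

theorem dvd_finrank_of_fixedPointFree {F : Type*} [Field F] [Fintype F] {n r : ℕ} [Fact r.Prime]
    (x : GL (Fin n) F) (hx : x ^ r = 1) (W : Submodule F (Fin n → F))
    (hW : ∀ v ∈ W, (x : Matrix (Fin n) (Fin n) F) *ᵥ v ∈ W)
    (hfree : ∀ v ∈ W, (x : Matrix (Fin n) (Fin n) F) *ᵥ v = v → v = 0) :
    orderOf (Fintype.card F : ZMod r) ∣ Module.finrank F W := by
  classical
  have hP : IsPGroup r (Subgroup.zpowers x) :=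
    fun ⟨g, hg⟩ => ⟨1, by
      obtain ⟨k, rfl⟩ := Submonoid.mem_powers_iff _ _ |>.1 (mem_powers_iff_mem_zpowers.2 hg)
      apply Subtype.ext
      simp only [SubgroupClass.coe_pow, pow_one, ← pow_mul, mul_comm k r, OneMemClass.coe_one]
      rw [pow_mul, hx, one_pow]⟩
  have hpow : ∀ k : ℕ, ∀ v ∈ W, ((x ^ k : GL (Fin n) F) : Matrix (Fin n) (Fin n) F) *ᵥ v ∈ W := by
    intro k
    induction k with
    | zero => simp
    | succ k ih =>
      intro v hv
      rw [pow_succ', Units.val_mul, ← Matrix.mulVec_mulVec]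
      exact hW _ (ih v hv)
  have hmem : ∀ g : Subgroup.zpowers x, ∀ v ∈ W,
      ((g : GL (Fin n) F) : Matrix (Fin n) (Fin n) F) *ᵥ v ∈ W := by
    rintro ⟨g, hg⟩ v hv
    obtain ⟨k, rfl⟩ := Submonoid.mem_powers_iff _ _ |>.1 (mem_powers_iff_mem_zpowers.2 hg)
    exact hpow k v hv
  let act : MulAction (Subgroup.zpowers x) W :=
    { smul := fun g v => ⟨((g : GL (Fin n) F) : Matrix (Fin n) (Fin n) F) *ᵥ v.1, hmem g _ v.2⟩
      one_smul := fun v => by
        apply Subtype.ext
        show ((1 : GL (Fin n) F) : Matrix (Fin n) (Fin n) F) *ᵥ v.1 = v.1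
        simp
      mul_smul := fun a b v => by
        apply Subtype.ext
        show (((a : GL (Fin n) F) * b : GL (Fin n) F) : Matrix (Fin n) (Fin n) F) *ᵥ v.1 = _
        rw [Units.val_mul, ← Matrix.mulVec_mulVec]
        rfl }
  have hfix : MulAction.fixedPoints (Subgroup.zpowers x) W = {0} := by
    ext v
    constructor
    · intro hv
      exact Subtype.ext (hfree v v.2 (congrArg Subtype.val (hv ⟨x, Subgroup.mem_zpowers x⟩)))
    · rintro rfl g
      apply Subtype.ext
      show ((g : GL (Fin n) F) : Matrix (Fin n) (Fin n) F) *ᵥ (0 : Fin n → F) = 0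
      simp
  have h := hP.card_modEq_card_fixedPoints W
  rw [hfix, Nat.card_unique (α := ({0} : Set W)), Module.natCard_eq_pow_finrank (K := F),
    Nat.card_eq_fintype_card] at h
  apply orderOf_dvd_of_pow_eq_one
  have h2 := (ZMod.natCast_eq_natCast_iff _ _ _).2 h
  simpa using h2

theorem order_le {F : Type*} [Field F] [Fintype F] {n r : ℕ} [Fact r.Prime] (hn : 4 ≤ n)
    (hrF : (r : F) ≠ 0) (x u : GL (Fin n) F) (hx : x ^ r = 1) (hx1 : x ≠ 1) (hu1 : u ≠ 1)
    (hu : IsNilpotent ((u : Matrix (Fin n) (Fin n) F) - 1)) (hxu : Commute x u) :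
    orderOf (Fintype.card F : ZMod r) ≤ n - 2 := by
  set d := orderOf (Fintype.card F : ZMod r) with hddef
  by_contra hd
  push Not at hd
  let X := Matrix.toLin' (x : Matrix (Fin n) (Fin n) F)
  let N := Matrix.toLin' ((u : Matrix (Fin n) (Fin n) F) - 1)
  have hNX : ∀ v, N (X v) = X (N v) := by
    intro v
    simp only [N, X, Matrix.toLin'_apply, Matrix.mulVec_mulVec, Matrix.sub_mul, Matrix.mul_sub,
      Matrix.one_mul, Matrix.mul_one]
    rw [← Units.val_mul, ← Units.val_mul, hxu.eq]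
  obtain ⟨e, he⟩ := hu
  have hNe : ∀ v, (N ^ e) v = 0 := fun v => by
    rw [← Matrix.toLin'_pow, he]
    simp
  let W := LinearMap.range (X - 1)
  let K := LinearMap.ker (X - 1)
  have hK : ∀ v ∈ K, X v = v := fun v hv => sub_eq_zero.1 (LinearMap.mem_ker.1 hv)
  have hfree : ∀ v ∈ W, X v = v → v = 0 := by
    rintro v ⟨y, hy⟩ hfix
    have hy2 : X y = y + v := by
      rw [← hy, LinearMap.sub_apply, Module.End.one_apply, add_sub_cancel]
    have hk : ∀ k : ℕ, (X ^ k) y = y + (k : F) • v := by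
      intro k
      induction k with
      | zero => simp
      | succ k ih =>
        rw [pow_succ', Module.End.mul_apply, ih, map_add, map_smul, hfix, hy2,
          Nat.cast_succ, add_smul, one_smul]
        abel
    have h := hk r
    rw [← Matrix.toLin'_pow, ← Units.val_pow_eq_pow_val, hx, Units.val_one, Matrix.toLin'_one,
      LinearMap.id_apply, left_eq_add, smul_eq_zero] at h
    exact h.resolve_left hrF
  have hWinv : ∀ v ∈ W, X v ∈ W ∧ N v ∈ W := by
    rintro v ⟨y, rfl⟩
    exact ⟨⟨X y, by simp [map_sub]⟩, ⟨N y, by simp [map_sub, hNX]⟩⟩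
  have hKinv : ∀ v ∈ K, N v ∈ K := by
    intro v hv
    simp [K, ← hNX, hK v hv]
  have hdvd : ∀ S : Submodule F (Fin n → F), S ≤ W → (∀ v ∈ S, X v ∈ S) →
      d ∣ Module.finrank F S := fun S hS hSX =>
    dvd_finrank_of_fixedPointFree x hx S (fun v hv => by simpa [X] using hSX v hv)
      (fun v hv h => hfree v (hS hv) (by simpa [X] using h))
  have hWne : 0 < Module.finrank F W := by
    rw [pos_iff_ne_zero]
    intro h0
    rw [Submodule.finrank_eq_zero] at h0
    apply hx1
    refine Units.ext (Matrix.toLin'.injective (LinearMap.ext fun v => ?_))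
    have hv : (X - 1) v ∈ W := LinearMap.mem_range_self _ v
    rw [h0, Submodule.mem_bot, LinearMap.sub_apply, sub_eq_zero] at hv
    simpa [Matrix.toLin'_one, X] using hv
  have hsum : Module.finrank F W + Module.finrank F K = n := by
    rw [LinearMap.finrank_range_add_finrank_ker, Module.finrank_fin_fun]
  have hWd : Module.finrank F W = d := by
    obtain ⟨t, ht⟩ := hdvd W le_rfl fun v hv => (hWinv v hv).1
    rcases t with _ | _ | t
    · omega
    · simpa using ht
    · have : d * 2 ≤ d * (t + 1 + 1) := Nat.mul_le_mul_left d (by omega)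
      omega
  -- the kernel of `N` on an invariant subspace is non-zero
  have hker : ∀ (S : Submodule F (Fin n → F)), S ≠ ⊥ → (∀ v ∈ S, N v ∈ S) →
      S ⊓ LinearMap.ker N ≠ ⊥ := by
    intro S hS hSN hbot
    obtain ⟨v, hv, hv0⟩ := Submodule.exists_mem_ne_zero_of_ne_bot hS
    have hall : ∀ k, (N ^ k) v ∈ S ∧ (N ^ k) v ≠ 0 := by
      intro k
      induction k with
      | zero => simpa using ⟨hv, hv0⟩
      | succ k ih =>
        rw [pow_succ', Module.End.mul_apply]
        refine ⟨hSN _ ih.1, fun h => ih.2 ?_⟩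
        have : (N ^ k) v ∈ S ⊓ LinearMap.ker N := ⟨ih.1, h⟩
        rwa [hbot, Submodule.mem_bot] at this
    exact (hall e).2 (hNe v)
  have hWN : W ≤ LinearMap.ker N := by
    have hne := hker W (fun h => by rw [h, finrank_bot] at hWne; omega) fun v hv => (hWinv v hv).2
    have h1 : d ∣ Module.finrank F (W ⊓ LinearMap.ker N : Submodule F (Fin n → F)) :=
      hdvd _ inf_le_left fun v hv => ⟨(hWinv v hv.1).1, by
        show N (X v) = 0
        rw [hNX, LinearMap.mem_ker.1 hv.2, map_zero]⟩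
    have h2 : 0 < Module.finrank F (W ⊓ LinearMap.ker N : Submodule F (Fin n → F)) := by
      rw [pos_iff_ne_zero, ne_eq, Submodule.finrank_eq_zero]
      exact hne
    have h3 := Submodule.eq_of_le_of_finrank_le (inf_le_left : W ⊓ LinearMap.ker N ≤ W)
      (hWd ▸ Nat.le_of_dvd h2 h1)
    exact h3 ▸ inf_le_right
  have hKN : K ≤ LinearMap.ker N := by
    rcases eq_or_ne K ⊥ with h | h
    · simp [h]
    · have h2 : 0 < Module.finrank F (K ⊓ LinearMap.ker N : Submodule F (Fin n → F)) := by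
        rw [pos_iff_ne_zero, ne_eq, Submodule.finrank_eq_zero]
        exact hker K h hKinv
      have h3 := Submodule.eq_of_le_of_finrank_le (inf_le_left : K ⊓ LinearMap.ker N ≤ K)
        (by omega)
      exact h3 ▸ inf_le_right
  have hinf : W ⊓ K = ⊥ := eq_bot_iff.2 fun v hv =>
    (Submodule.mem_bot F).2 (hfree v hv.1 (hK v hv.2))
  have htop : W ⊔ K = ⊤ := by
    apply Submodule.eq_top_of_finrank_eq
    have h := Submodule.finrank_sup_add_finrank_inf_eq W K
    rw [hinf, finrank_bot, add_zero, hsum] at h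
    rw [h, Module.finrank_fin_fun]
  apply hu1
  refine Units.ext (Matrix.toLin'.injective (LinearMap.ext fun v => ?_))
  have hv : v ∈ LinearMap.ker N := (sup_le hWN hKN) (htop ▸ Submodule.mem_top)
  simpa [N, sub_eq_zero, Matrix.toLin'_one, Matrix.sub_mulVec] using hv

theorem exists_prime_power_lift {G : Type*} [Group G] [Finite G] (N : Subgroup G) [N.Normal]
    {ℓ : ℕ} (hℓ : ℓ.Prime) (a : G ⧸ N) (ha : orderOf a = ℓ) :
    ∃ (A : G) (i t : ℕ), A ^ ℓ ^ i = 1 ∧ (A : G ⧸ N) = a ^ t ∧ A ∉ N := by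
  obtain ⟨A₀, rfl⟩ := QuotientGroup.mk_surjective a
  have h0 : orderOf A₀ ≠ 0 := (orderOf_pos A₀).ne'
  obtain ⟨i, t, hdvd, hit⟩ := Nat.exists_eq_pow_mul_and_not_dvd h0 ℓ hℓ.ne_one
  refine ⟨A₀ ^ t, i, t, ?_, QuotientGroup.mk_pow _ _ _, fun h => hdvd ?_⟩
  · rw [← pow_mul, mul_comm, ← hit, pow_orderOf_eq_one]
  · rw [← ha]
    apply orderOf_dvd_of_pow_eq_one
    rw [← QuotientGroup.mk_pow]
    exact (QuotientGroup.eq_one_iff _).2 h

theorem main {F : Type*} [Field F] [Fintype F] (p : ℕ) [Fact p.Prime] [CharP F p] (n : ℕ) (hn : 4 ≤ n)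
    (a b : Matrix.ProjectiveSpecialLinearGroup (Fin n) F) (ha : orderOf a = p) (hab : Commute a b)
    (r : ℕ) (hr : r.Prime) (hrb : r ∣ orderOf b) :
    r ∣ Nat.card (Matrix.SpecialLinearGroup (Fin (n - 2)) F) := by
  have hp := (Fact.out : p.Prime)
  by_cases hrp : r = p
  · exact dvd_card_SL (j := 2) (by omega) (Or.inl hrp)
  have := Fact.mk hr
  have hrF : (r : F) ≠ 0 := by
    rw [Ne, CharP.cast_eq_zero_iff F p, Nat.prime_dvd_prime_iff_eq hp hr]
    exact Ne.symm hrp
  set d := orderOf (Fintype.card F : ZMod r) with hddef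
  suffices hd : d ≤ n - 2 by
    have hq : (Fintype.card F : ZMod r) ≠ 0 := by
      rw [Ne, ZMod.natCast_eq_zero_iff]
      intro h
      obtain ⟨c, -, hc⟩ := FiniteField.card F p
      rw [hc] at h
      exact hrp ((Nat.prime_dvd_prime_iff_eq hr hp).1 (hr.dvd_of_dvd_pow h))
    have hd0' : 0 < d := Nat.pos_of_dvd_of_pos
      (orderOf_dvd_of_pow_eq_one (ZMod.pow_card_sub_one_eq_one hq)) (by
        have := hr.two_le
        omega)
    have hdm : d ∣ max d 2 := by
      rcases le_or_gt 2 d with h | h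
      · rw [max_eq_left h]
      · rw [show d = 1 by omega]
        exact one_dvd _
    have hd0 : r ∣ Fintype.card F ^ max d 2 - 1 := by
      rw [← ZMod.natCast_eq_zero_iff, Nat.cast_sub (Nat.one_le_pow _ _ Fintype.card_pos),
        Nat.cast_pow, Nat.cast_one, orderOf_dvd_iff_pow_eq_one.1 hdm, sub_self]
    exact dvd_card_SL (p := p) (j := max d 2) (by omega) (Or.inr ⟨le_max_right _ _, by omega, hd0⟩)
  -- lifts
  obtain ⟨A, i, t, hAi, hAa, hAc⟩ := exists_prime_power_lift _ hp a ha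
  have hb' : orderOf (b ^ (orderOf b / r)) = r :=
    orderOf_pow_orderOf_div (orderOf_pos b).ne' hrb
  obtain ⟨B, e, t', hBe, hBb, hBc⟩ := exists_prime_power_lift _ hr _ hb'
  have hcomm : (A * B * A⁻¹ * B⁻¹ : Matrix.SpecialLinearGroup (Fin n) F) ∈
      Subgroup.center (Matrix.SpecialLinearGroup (Fin n) F) := by
    rw [← QuotientGroup.eq_one_iff, QuotientGroup.mk_mul, QuotientGroup.mk_mul,
      QuotientGroup.mk_mul, QuotientGroup.mk_inv, QuotientGroup.mk_inv, hAa, hBb,
      ((hab.pow_right _).pow_pow t t').eq]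
    group
  obtain ⟨c, hcn, hc⟩ := Matrix.SpecialLinearGroup.mem_center_iff.1 hcomm
  let g := Matrix.SpecialLinearGroup.toGL A
  let h := Matrix.SpecialLinearGroup.toGL B
  have hg : g ^ p ^ i = 1 := by rw [← map_pow, hAi, map_one]
  have hh : h ^ r ^ e = 1 := by rw [← map_pow, hBe, map_one]
  have hgh : (g * h * g⁻¹ * h⁻¹ : GL (Fin n) F).1 = Matrix.scalar (Fin n) c := by
    rw [← map_inv, ← map_inv, ← map_mul, ← map_mul, ← map_mul]
    exact hc.symm
  have : Nonempty (Fin n) := ⟨⟨0, by omega⟩⟩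
  -- a scalar times a `p`-element is a `p`-element only for the scalar one
  have hc1 : c = 1 := by
    have h1 : (g : Matrix (Fin n) (Fin n) F) =
        Matrix.scalar (Fin n) c * ((h * g * h⁻¹ : GL (Fin n) F) : Matrix (Fin n) (Fin n) F) := by
      rw [← hgh, ← Units.val_mul]
      congr 1
      group
    have h2 := congrArg (fun X : Matrix (Fin n) (Fin n) F => X ^ p ^ i) h1
    rw [(Matrix.scalar_commute c (fun _ => Commute.all _ _) _).mul_pow, ← map_pow (Matrix.scalar (Fin n)),
      ← Units.val_pow_eq_pow_val, ← Units.val_pow_eq_pow_val, conj_pow, hg, mul_one,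
      mul_inv_cancel, Units.val_one, mul_one] at h2
    have h3 : c ^ p ^ i = 1 := Matrix.scalar_inj.1 (by rw [← h2, map_one])
    exact (iterateFrobenius_inj F p i) (by simpa [iterateFrobenius_def] using h3)
  have hcomm2 : Commute g h := by
    have h1 : g * h * g⁻¹ * h⁻¹ = 1 := Units.ext (by rw [hgh, hc1, map_one, Units.val_one])
    rw [mul_inv_eq_one, mul_inv_eq_iff_eq_mul] at h1
    exact h1
  have hh1 : h ≠ 1 := fun h1 => hBc (by
    rw [Matrix.SpecialLinearGroup.toGL_injective (h1.trans (map_one _).symm)]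
    exact one_mem _)
  obtain ⟨x, k, hx, hx1, hxk⟩ : ∃ x k, x ^ r = 1 ∧ x ≠ 1 ∧ x = h ^ k := by
    have hord := orderOf_dvd_of_pow_eq_one hh
    obtain ⟨j, -, hj⟩ := (Nat.dvd_prime_pow hr).1 hord
    rcases j with _ | j
    · exact absurd (orderOf_eq_one_iff.1 (by simpa using hj)) hh1
    · refine ⟨h ^ r ^ j, r ^ j, ?_, fun h0 => ?_, rfl⟩
      · rw [← pow_mul, ← pow_succ, ← hj, pow_orderOf_eq_one]
      · have h2 := orderOf_dvd_of_pow_eq_one h0
        rw [hj, Nat.pow_dvd_pow_iff_le_right hr.one_lt] at h2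
        omega
  refine order_le hn hrF x g hx hx1 (fun h1 => hAc ?_) ⟨p ^ i, ?_⟩ (hxk ▸ hcomm2.symm.pow_left k)
  · rw [Matrix.SpecialLinearGroup.toGL_injective (h1.trans (map_one _).symm)]
    exact one_mem _
  · rw [sub_pow_char_pow_of_commute (p := p) (h := Commute.one_right _), ← Units.val_pow_eq_pow_val,
      hg, one_pow, Units.val_one, sub_self]

/-- Let F be a finite field of characteristic p, n ≥ 4, and let a, b be commuting elements of PSL(n, F) with a of order p. Then every prime divisor of the order of b divides the order of SL(n − 2, F). -/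
theorem result {F : Type*} [Field F] [Fintype F] (p : ℕ) [Fact p.Prime] [CharP F p] (n : ℕ) (hn : 4 ≤ n)
    (a b : Matrix.ProjectiveSpecialLinearGroup (Fin n) F) (ha : orderOf a = p) (hab : Commute a b) :
    (orderOf b).primeFactors ⊆ (Nat.card (Matrix.SpecialLinearGroup (Fin (n - 2)) F)).primeFactors := by
  intro r hr
  rw [Nat.mem_primeFactors] at hr ⊢
  exact ⟨hr.1, main p n hn a b ha hab r hr.1 hr.2.1, Nat.card_pos.ne'⟩

end Cfsg.Agent.S2364
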