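import Cfsg.Statements.S2365
import Cfsg.Agent.S2364
import Cfsg.Agent.Lib.Classical.Herm.Std
import Cfsg.Agent.Lib.Conj.Unitary
import Mathlib

set_option autoImplicit false
open Cfsg

namespace Cfsg.Agent.S2365

open Matrix

theorem aeval_transpose {F : Type*} [Field F] {m : ℕ} (M : Matrix (Fin m) (Fin m) F) (P : Polynomial F) :
    Polynomial.aeval Mᵀ P = (Polynomial.aeval M P)ᵀ := by
  induction P using Polynomial.induction_on' with
  | add a b ha hb => simp [ha, hb]
  | monomial k c => simp [← Algebra.smul_def, Matrix.transpose_pow]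

theorem kernel_ne_bot {F : Type*} [Field F] {m : ℕ} (M : Matrix (Fin m) (Fin m) F) (g : Polynomial F)
    (hg : Irreducible g) (hdvd : g ∣ minpoly F M) :
    LinearMap.ker (Matrix.toLin' (Polynomial.aeval M g)) ≠ ⊥ := by
  intro hbot
  obtain ⟨R, hR⟩ := hdvd
  have hP := minpoly.ne_zero (Matrix.isIntegral M)
  have hR0 : Polynomial.aeval M R = 0 := by
    apply Matrix.toLin'.injective
    refine LinearMap.ext fun v => ?_
    apply LinearMap.ker_eq_bot.1 hbot
    rw [← LinearMap.comp_apply, ← Matrix.toLin'_mul, ← map_mul, ← hR, minpoly.aeval]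
    simp
  have h1 := Polynomial.degree_le_of_dvd (minpoly.dvd F M hR0) (by
    intro h0
    rw [h0, mul_zero] at hR
    exact hP hR)
  rw [hR, Polynomial.degree_mul] at h1
  have h2 := Polynomial.degree_pos_of_irreducible hg
  have hR1 : R ≠ 0 := fun h0 => by rw [h0, mul_zero] at hR; exact hP hR
  rw [Polynomial.degree_eq_natDegree hg.ne_zero] at h1 h2
  rw [Polynomial.degree_eq_natDegree hR1, ← Nat.cast_add, Nat.cast_le] at h1
  have h3 : 0 < g.natDegree := by exact_mod_cast h2
  omega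

theorem two_factors {F : Type*} [Field F] [Fintype F] {n r : ℕ} [Fact r.Prime] (hrF : (r : F) ≠ 0)
    (hd3 : n < 3 * orderOf (Fintype.card F : ZMod r))
    (hd2 : n ≤ 2 * orderOf (Fintype.card F : ZMod r) + 1)
    (x u : GL (Fin n) F) (hx : x ^ r = 1) (hu : IsNilpotent ((u : Matrix (Fin n) (Fin n) F) - 1))
    (hxu : Commute x u) (g₁ g₂ : Polynomial F) (hi₁ : Irreducible g₁) (hi₂ : Irreducible g₂)
    (hco : IsCoprime g₁ g₂) (h11 : g₁.eval 1 ≠ 0) (h21 : g₂.eval 1 ≠ 0)
    (hd₁ : g₁ ∣ minpoly F (x : Matrix (Fin n) (Fin n) F))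
    (hd₂ : g₂ ∣ minpoly F (x : Matrix (Fin n) (Fin n) F)) : u = 1 := by
  set d := orderOf (Fintype.card F : ZMod r) with hddef
  let X := Matrix.toLin' (x : Matrix (Fin n) (Fin n) F)
  let N := Matrix.toLin' ((u : Matrix (Fin n) (Fin n) F) - 1)
  have hNX : ∀ v, N (X v) = X (N v) := by
    intro v
    simp only [N, X, Matrix.toLin'_apply, Matrix.mulVec_mulVec, Matrix.sub_mul, Matrix.mul_sub,
      Matrix.one_mul, Matrix.mul_one]
    rw [← Units.val_mul, ← Units.val_mul, hxu.eq]
  obtain ⟨e, he⟩ := hu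
  have hNe : ∀ v, (N ^ e) v = 0 := fun v => by
    rw [← Matrix.toLin'_pow, he]
    simp
  have hNP : ∀ (g : Polynomial F) v, N (Polynomial.aeval X g v) = Polynomial.aeval X g (N v) := by
    intro g v
    have h : Commute N X := LinearMap.ext hNX
    have h2 : Commute N (Polynomial.aeval X g) := by
      induction g using Polynomial.induction_on' with
      | add a b ha hb => rw [map_add]; exact ha.add_right hb
      | monomial k c =>
        rw [Polynomial.aeval_monomial]
        exact (Algebra.commute_algebraMap_right c N).mul_right (h.pow_right k)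
    exact congrArg (fun f : Module.End F (Fin n → F) => f v) h2.eq
  have hXe : ∀ g : Polynomial F, Matrix.toLin' (Polynomial.aeval (x : Matrix (Fin n) (Fin n) F) g) =
      Polynomial.aeval X g := fun g =>
    (Polynomial.aeval_algHom_apply (Matrix.toLinAlgEquiv' (R := F) (n := Fin n)).toAlgHom
      (x : Matrix (Fin n) (Fin n) F) g).symm
  let W := LinearMap.range (X - 1)
  let K := LinearMap.ker (X - 1)
  let S := fun g : Polynomial F => LinearMap.ker (Polynomial.aeval X g)
  have hK : ∀ v ∈ K, X v = v := fun v hv => sub_eq_zero.1 (LinearMap.mem_ker.1 hv)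
  have hfree : ∀ v ∈ W, X v = v → v = 0 := by
    rintro v ⟨y, hy⟩ hfix
    have hy2 : X y = y + v := by
      rw [← hy, LinearMap.sub_apply, Module.End.one_apply, add_sub_cancel]
    have hk : ∀ k : ℕ, (X ^ k) y = y + (k : F) • v := by
      intro k
      induction k with
      | zero => simp
      | succ k ih =>
        rw [pow_succ', Module.End.mul_apply, ih, map_add, map_smul, hfix, hy2,
          Nat.cast_succ, add_smul, one_smul]
        abel
    have h := hk r
    rw [← Matrix.toLin'_pow, ← Units.val_pow_eq_pow_val, hx, Units.val_one, Matrix.toLin'_one,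
      LinearMap.id_apply, left_eq_add, smul_eq_zero] at h
    exact h.resolve_left hrF
  have hWX : ∀ v ∈ W, X v ∈ W := by
    rintro v ⟨y, rfl⟩
    exact ⟨X y, by simp [map_sub]⟩
  have hSX : ∀ g, ∀ v ∈ S g, X v ∈ S g := fun g v hv => by
    simp only [S, LinearMap.mem_ker] at hv ⊢
    have h : Commute (Polynomial.aeval X g) X := by
      conv_rhs => rw [← Polynomial.aeval_X (R := F) X]
      exact (Commute.all g Polynomial.X).map _
    rw [← Module.End.mul_apply, h.eq, Module.End.mul_apply, hv, map_zero]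
  have hSN : ∀ g, ∀ v ∈ S g, N v ∈ S g := fun g v hv => by
    simp only [S, LinearMap.mem_ker] at hv ⊢
    rw [← hNP, hv, map_zero]
  have hSW : ∀ g : Polynomial F, g.eval 1 ≠ 0 → S g ≤ W := by
    intro g hg v hv
    simp only [S, LinearMap.mem_ker] at hv
    obtain ⟨k, hk⟩ := Polynomial.X_sub_C_dvd_sub_C_eval (p := g) (a := 1)
    have h1 := congrArg (fun f => Polynomial.aeval X f v) hk
    simp only [map_sub, map_mul, Polynomial.aeval_X, Polynomial.aeval_C, map_one, Module.End.mul_apply,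
      LinearMap.sub_apply, hv, zero_sub] at h1
    refine (Submodule.smul_mem_iff W (neg_ne_zero.2 hg)).1 ?_
    refine ⟨Polynomial.aeval X k v, ?_⟩
    rw [LinearMap.sub_apply]
    rw [← h1, neg_smul, Module.algebraMap_end_apply]
  have hdim : ∀ S' : Submodule F (Fin n → F), S' ≤ W → (∀ v ∈ S', X v ∈ S') →
      d ∣ Module.finrank F S' := fun S' hS hSX =>
    Cfsg.Agent.S2364.dvd_finrank_of_fixedPointFree x hx S' (fun v hv => by simpa [X] using hSX v hv)
      (fun v hv h => hfree v (hS hv) (by simpa [X] using h))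
  have hne : ∀ g, Irreducible g → g ∣ minpoly F (x : Matrix (Fin n) (Fin n) F) → S g ≠ ⊥ := fun g h1 h2 => by
    show LinearMap.ker (Polynomial.aeval X g) ≠ ⊥
    rw [← hXe]
    exact kernel_ne_bot _ g h1 h2
  have hker : ∀ (S' : Submodule F (Fin n → F)), S' ≠ ⊥ → (∀ v ∈ S', N v ∈ S') →
      S' ⊓ LinearMap.ker N ≠ ⊥ := by
    intro S' hS hSN hbot
    obtain ⟨v, hv, hv0⟩ := Submodule.exists_mem_ne_zero_of_ne_bot hS
    have hall : ∀ k, (N ^ k) v ∈ S' ∧ (N ^ k) v ≠ 0 := by
      intro k
      induction k with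
      | zero => simpa using ⟨hv, hv0⟩
      | succ k ih =>
        rw [pow_succ', Module.End.mul_apply]
        refine ⟨hSN _ ih.1, fun h => ih.2 ?_⟩
        have : (N ^ k) v ∈ S' ⊓ LinearMap.ker N := ⟨ih.1, h⟩
        rwa [hbot, Submodule.mem_bot] at this
    exact (hall e).2 (hNe v)
  have hinf : W ⊓ K = ⊥ := eq_bot_iff.2 fun v hv =>
    (Submodule.mem_bot F).2 (hfree v hv.1 (hK v hv.2))
  have hS12 : S g₁ ⊓ S g₂ = ⊥ :=
    (Polynomial.disjoint_ker_aeval_of_isCoprime X hco).eq_bot
  have hsum := Submodule.finrank_sup_add_finrank_inf_eq (S g₁) (S g₂)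
  rw [hS12, finrank_bot, add_zero] at hsum
  have hle : S g₁ ⊔ S g₂ ≤ W := sup_le (hSW g₁ h11) (hSW g₂ h21)
  have hle' := Submodule.finrank_mono hle
  have hWsum : Module.finrank F W + Module.finrank F K = n := by
    rw [LinearMap.finrank_range_add_finrank_ker, Module.finrank_fin_fun]
  obtain ⟨t₁, ht₁⟩ := hdim (S g₁) (hSW g₁ h11) (hSX g₁)
  obtain ⟨t₂, ht₂⟩ := hdim (S g₂) (hSW g₂ h21) (hSX g₂)
  obtain ⟨t, ht⟩ := hdim W le_rfl hWX
  have hp₁ : 0 < Module.finrank F (S g₁) := by
    rw [pos_iff_ne_zero, ne_eq, Submodule.finrank_eq_zero]; exact hne g₁ hi₁ hd₁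
  have hp₂ : 0 < Module.finrank F (S g₂) := by
    rw [pos_iff_ne_zero, ne_eq, Submodule.finrank_eq_zero]; exact hne g₂ hi₂ hd₂
  have ht1 : 1 ≤ t₁ := by
    by_contra h
    rw [show t₁ = 0 by omega, mul_zero] at ht₁
    omega
  have ht2 : 1 ≤ t₂ := by
    by_contra h
    rw [show t₂ = 0 by omega, mul_zero] at ht₂
    omega
  have htt : t₁ + t₂ ≤ t := by
    by_contra h
    have h1 : d * (t + 1) ≤ d * (t₁ + t₂) := Nat.mul_le_mul_left d (by omega)
    rw [mul_add, mul_add, mul_one] at h1
    omega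
  have htle : t ≤ 2 := by
    by_contra h
    have h1 : d * 3 ≤ d * t := Nat.mul_le_mul_left d (by omega)
    omega
  have ht12 : t₁ = 1 ∧ t₂ = 1 ∧ t = 2 := by omega
  rw [ht12.1, mul_one] at ht₁
  rw [ht12.2.1, mul_one] at ht₂
  rw [ht12.2.2] at ht
  have hSN0 : ∀ g : Polynomial F, g.eval 1 ≠ 0 → Module.finrank F (S g) = d → 0 < Module.finrank F (S g) →
      S g ≤ LinearMap.ker N := by
    intro g hg hgd hpos
    have h1 : d ∣ Module.finrank F (S g ⊓ LinearMap.ker N : Submodule F (Fin n → F)) :=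
      hdim _ (inf_le_left.trans (hSW g hg)) fun v hv => ⟨hSX g v hv.1, by
        show N (X v) = 0
        rw [hNX, LinearMap.mem_ker.1 hv.2, map_zero]⟩
    have h2 : 0 < Module.finrank F (S g ⊓ LinearMap.ker N : Submodule F (Fin n → F)) := by
      rw [pos_iff_ne_zero, ne_eq, Submodule.finrank_eq_zero]
      exact hker _ (fun h => by rw [h, finrank_bot] at hpos; omega) (hSN g)
    have h3 := Submodule.eq_of_le_of_finrank_le (inf_le_left : S g ⊓ LinearMap.ker N ≤ S g)
      (hgd ▸ Nat.le_of_dvd h2 h1)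
    exact h3 ▸ inf_le_right
  have hWN : W ≤ LinearMap.ker N := by
    rw [← Submodule.eq_of_le_of_finrank_le hle (by omega)]
    exact sup_le (hSN0 g₁ h11 ht₁ hp₁) (hSN0 g₂ h21 ht₂ hp₂)
  have hKinv : ∀ v ∈ K, N v ∈ K := by
    intro v hv
    simp [K, ← hNX, hK v hv]
  have hKN : K ≤ LinearMap.ker N := by
    rcases eq_or_ne K ⊥ with h | h
    · simp [h]
    · have h2 : 0 < Module.finrank F (K ⊓ LinearMap.ker N : Submodule F (Fin n → F)) := by
        rw [pos_iff_ne_zero, ne_eq, Submodule.finrank_eq_zero]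
        exact hker K h hKinv
      have h3 := Submodule.eq_of_le_of_finrank_le (inf_le_left : K ⊓ LinearMap.ker N ≤ K)
        (by omega)
      exact h3 ▸ inf_le_right
  have htop : W ⊔ K = ⊤ := by
    apply Submodule.eq_top_of_finrank_eq
    have h := Submodule.finrank_sup_add_finrank_inf_eq W K
    rw [hinf, finrank_bot, add_zero, hWsum] at h
    rw [h, Module.finrank_fin_fun]
  refine Units.ext (Matrix.toLin'.injective (LinearMap.ext fun v => ?_))
  have hv : v ∈ LinearMap.ker N := (sup_le hWN hKN) (htop ▸ Submodule.mem_top)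
  simpa [N, sub_eq_zero, Matrix.toLin'_one, Matrix.sub_mulVec] using hv

theorem order_odd {F : Type*} [Field F] [Fintype F] {p : ℕ} [Fact p.Prime] [CharP F p] {n q r : ℕ}
    [Fact r.Prime] (hF : Fintype.card F = q ^ 2) (hn : 4 ≤ n) (hrF : (r : F) ≠ 0)
    (x u : GL (Fin n) F) (hxU : x ∈ Cfsg.GU n F q) (hx : x ^ r = 1) (hx1 : x ≠ 1) (hu1 : u ≠ 1)
    (hu : IsNilpotent ((u : Matrix (Fin n) (Fin n) F) - 1)) (hxu : Commute x u) :
    orderOf (-(q : ZMod r)) ≤ n - 2 := by
  classical
  have hr : r.Prime := Fact.out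
  have hd := Cfsg.Agent.S2364.order_le hn hrF x u hx hx1 hu1 hu hxu
  set a : ZMod r := -(q : ZMod r) with hadef
  have hQ : (Fintype.card F : ZMod r) = a ^ 2 := by rw [hF, Nat.cast_pow, hadef, neg_sq]
  rw [hQ] at hd
  rw [orderOf_pow' a two_ne_zero] at hd
  rcases Nat.even_or_odd (orderOf a) with he | ho
  swap
  · rwa [Nat.coprime_iff_gcd_eq_one.1 (Nat.coprime_two_right.2 ho), Nat.div_one] at hd
  by_contra hcon
  push Not at hcon
  have hd' : orderOf (Fintype.card F : ZMod r) * 2 = orderOf a := by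
    rw [hQ, orderOf_pow' a two_ne_zero, Nat.gcd_eq_right he.two_dvd, Nat.div_mul_cancel he.two_dvd]
  -- an eigenvalue different from one
  obtain ⟨φ, hφq, hφ, -⟩ := CfsgLib.Conj.exists_frob hF
  obtain ⟨j, hj⟩ : ∃ j, q = p ^ j := by
    obtain ⟨k, hp, hk⟩ := FiniteField.card F p
    rw [hF] at hk
    obtain ⟨j, -, hj⟩ := (Nat.dvd_prime_pow hp).1 (hk ▸ dvd_pow_self q two_ne_zero)
    exact ⟨j, hj⟩
  let M := (x : Matrix (Fin n) (Fin n) F)
  have hMr : M ^ r = 1 := by rw [← Units.val_pow_eq_pow_val, hx, Units.val_one]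
  set P := minpoly F M with hP
  have hPd : P ∣ Polynomial.X ^ r - Polynomial.C 1 := minpoly.dvd F M (by simp [hMr])
  have hsep : (Polynomial.X ^ r - Polynomial.C (1 : F)).Separable :=
    Polynomial.separable_X_pow_sub_C 1 hrF one_ne_zero
  obtain ⟨L, _, _, hL, _, hLsplit⟩ : ∃ (L : Type _) (_ : Field L) (_ : Algebra F L),
      Finite L ∧ Normal F L ∧ ((Polynomial.X ^ r - Polynomial.C (1 : F)).map (algebraMap F L)).Splits :=
    ⟨(Polynomial.X ^ r - Polynomial.C (1 : F)).SplittingField, inferInstance, inferInstance,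
      Module.finite_of_finite F, inferInstance, Polynomial.SplittingField.splits _⟩
  have : Fintype L := Fintype.ofFinite L
  have : CharP L p := charP_of_injective_algebraMap (algebraMap F L).injective p
  have hPsplit : (P.map (algebraMap F L)).Splits :=
    hLsplit.of_dvd
      (Polynomial.map_ne_zero hsep.ne_zero) (Polynomial.map_dvd _ hPd)
  have hPm : P.Monic := minpoly.monic (Matrix.isIntegral M)
  obtain ⟨l, hl, hl1⟩ : ∃ l : L, Polynomial.aeval l P = 0 ∧ l ≠ 1 := by
    by_contra hall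
    push Not at hall
    have hnd : (P.map (algebraMap F L)).roots.Nodup :=
      Polynomial.nodup_roots ((hsep.of_dvd hPd).map)
    have hle : P.natDegree ≤ 1 := by
      rw [← Polynomial.natDegree_map (algebraMap F L), hPsplit.natDegree_eq_card_roots]
      by_contra hc
      push Not at hc
      obtain ⟨y, hy, z, hz, hyz⟩ := Finset.one_lt_card.1
        (show 1 < (P.map (algebraMap F L)).roots.toFinset.card by
          rwa [Multiset.toFinset_card_of_nodup hnd])
      rw [Multiset.mem_toFinset, Polynomial.mem_roots (Polynomial.map_ne_zero hPm.ne_zero),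
        Polynomial.IsRoot.def, Polynomial.eval_map, ← Polynomial.aeval_def] at hy hz
      exact hyz ((hall y hy).trans (hall z hz).symm)
    have : Nontrivial (Matrix (Fin n) (Fin n) F) := by
      have : Nonempty (Fin n) := ⟨⟨0, by omega⟩⟩
      infer_instance
    have h1 : P.natDegree = 1 := le_antisymm hle (minpoly.natDegree_pos (Matrix.isIntegral M))
    obtain ⟨c, hc⟩ : ∃ c, P = Polynomial.X + Polynomial.C c :=
      ⟨_, hPm.eq_X_add_C h1⟩
    have h2 := hall (-algebraMap F L c) (by simp [hc])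
    have hc1 : c = -1 := (algebraMap F L).injective (by
      simp only [map_neg, map_one]
      linear_combination -h2)
    have h3 := minpoly.aeval F M
    rw [← hP, hc, hc1] at h3
    simp only [map_add, Polynomial.aeval_X, Polynomial.aeval_C, map_neg, map_one, ← sub_eq_add_neg,
      sub_eq_zero, map_sub] at h3
    exact hx1 (Units.ext h3)
  have hlr : l ^ r = 1 := by
    have h := Polynomial.aeval_eq_zero_of_dvd_aeval_eq_zero hPd hl
    simpa [sub_eq_zero] using h
  have hlord : orderOf l = r := orderOf_eq_prime hlr hl1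
  -- the conjugate reciprocal root
  have hconj : P ∣ (P.map φ).comp (Polynomial.X ^ (r - 1)) := by
    refine minpoly.dvd F M ?_
    have hU := (CfsgLib.Conj.mem_GU_iff φ hφq hφ x).1 hxU
    have hTr : (M.map φ)ᵀ = M ^ (r - 1) := by
      calc (M.map φ)ᵀ = (M.map φ)ᵀ * (M * M ^ (r - 1)) := by
            rw [← pow_succ', Nat.sub_add_cancel hr.one_le, hMr, mul_one]
        _ = M ^ (r - 1) := by
            rw [← mul_assoc]
            erw [hU]
            rw [one_mul]
    rw [Polynomial.aeval_comp, map_pow, Polynomial.aeval_X, ← hTr, aeval_transpose]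
    show (Polynomial.aeval (φ.mapMatrix M) (P.map φ))ᵀ = 0
    rw [← Polynomial.map_aeval_eq_aeval_map (φ := φ) (ψ := φ.mapMatrix) ?_ P M, minpoly.aeval, map_zero,
      Matrix.transpose_zero]
    ext c i j
    by_cases h : i = j <;> simp [Matrix.algebraMap_matrix_apply, h]
  have hl' : Polynomial.aeval ((l ^ (r - 1)) ^ q) P = 0 := by
    have h := Polynomial.aeval_eq_zero_of_dvd_aeval_eq_zero hconj hl
    rw [Polynomial.aeval_comp, map_pow, Polynomial.aeval_X, Polynomial.aeval_def,
      Polynomial.eval₂_map] at h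
    have h2 := congrArg (iterateFrobenius L p j) h
    rw [map_zero, Polynomial.hom_eval₂, iterateFrobenius_def, ← hj] at h2
    rw [Polynomial.aeval_def, ← h2]
    congr 1
    refine RingHom.ext fun c => ?_
    rw [RingHom.comp_apply, RingHom.comp_apply, iterateFrobenius_def, ← hj, ← map_pow, ← hφq, hφ]
  have hq0 : (q : ZMod r) ≠ 0 := by
    rw [Ne, ZMod.natCast_eq_zero_iff, hj]
    intro h
    have := (Nat.prime_dvd_prime_iff_eq hr (Fact.out : p.Prime)).1 (hr.dvd_of_dvd_pow h)
    subst this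
    exact hrF (CharP.cast_eq_zero F r)
  have hr1 : (((r - 1) * q : ℕ) : ZMod r) = a := by
    rw [Nat.cast_mul, Nat.cast_sub hr.one_le, ZMod.natCast_self, zero_sub, Nat.cast_one, hadef]
    ring
  have hl'1 : (l ^ (r - 1)) ^ q ≠ 1 := fun h => by
    rw [← pow_mul] at h
    have h1 := orderOf_dvd_of_pow_eq_one h
    rw [hlord, ← ZMod.natCast_eq_zero_iff, hr1, hadef, neg_eq_zero] at h1
    exact hq0 h1
  have hint : ∀ y : L, IsIntegral F y := fun y => IsIntegral.of_finite F y
  have hev : ∀ y : L, y ≠ 1 → (minpoly F y).eval 1 ≠ 0 := by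
    intro y hy h0
    have hdv := Polynomial.dvd_iff_isRoot.2 h0
    have := (Polynomial.irreducible_X_sub_C 1).associated_of_dvd (minpoly.irreducible (hint y)) hdv
    have := Polynomial.eq_of_monic_of_associated (Polynomial.monic_X_sub_C 1) (minpoly.monic (hint y)) this
    have h1 := minpoly.aeval F y
    rw [← this] at h1
    simp only [map_sub, Polynomial.aeval_X, Polynomial.aeval_C, map_one, sub_eq_zero] at h1
    exact hy h1
  by_cases hgg : minpoly F l = minpoly F ((l ^ (r - 1)) ^ q)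
  swap
  · refine hu1 (two_factors hrF ?_ ?_ x u hx hu hxu (minpoly F l) (minpoly F ((l ^ (r - 1)) ^ q))
      (minpoly.irreducible (hint _)) (minpoly.irreducible (hint _)) ?_ (hev _ hl1) (hev _ hl'1)
      (minpoly.dvd F l hl) (minpoly.dvd F _ hl'))
    · omega
    · omega
    · refine (minpoly.irreducible (hint _)).coprime_iff_not_dvd.2 fun h => hgg ?_
      exact Polynomial.eq_of_monic_of_associated (minpoly.monic (hint _)) (minpoly.monic (hint _))
        ((minpoly.irreducible (hint _)).associated_of_dvd (minpoly.irreducible (hint _)) h)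
  obtain ⟨σ, hσ⟩ := (show IsConjRoot F l ((l ^ (r - 1)) ^ q) from hgg).exists_algEquiv
  obtain ⟨⟨i, hi⟩, hσi⟩ := (FiniteField.bijective_frobeniusAlgEquivOfAlgebraic_pow F L).2 σ
  have hpow : ∀ k : ℕ, ∀ y : L, (FiniteField.frobeniusAlgEquivOfAlgebraic F L ^ k) y =
      y ^ Fintype.card F ^ k := by
    intro k
    induction k with
    | zero => simp
    | succ k ih =>
      intro y
      rw [pow_succ', AlgEquiv.mul_apply, ih, FiniteField.coe_frobeniusAlgEquivOfAlgebraic]
      show (y ^ Fintype.card F ^ k) ^ Fintype.card F = _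
      rw [← pow_mul, pow_succ]
  subst hσi
  simp only [hpow] at hσ
  rw [← pow_mul, ← pow_mul] at hσ
  have hodd : ∃ k : ℕ, a ^ (2 * k + 1) = 1 := by
    have hl0 : l ≠ 0 := fun h0 => by rw [h0, zero_pow hr.ne_zero] at hlr; exact zero_ne_one hlr
    obtain ⟨ul, rfl⟩ : ∃ ul : Lˣ, (ul : L) = l := ⟨Units.mk0 l hl0, rfl⟩
    rw [orderOf_units] at hlord
    have h1 : ul ^ ((r - 1) * q * Fintype.card F ^ i) = ul ^ (1 : ℕ) :=
      Units.ext (by simpa [pow_mul] using hσ)
    have h2 := pow_eq_pow_iff_modEq.1 h1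
    rw [hlord, ← ZMod.natCast_eq_natCast_iff, Nat.cast_mul, hr1, Nat.cast_pow, hQ, Nat.cast_one] at h2
    exact ⟨i, by rw [pow_succ', pow_mul, h2]⟩
  obtain ⟨k, hk⟩ := hodd
  have h1 := (even_iff_two_dvd.1 he).trans (orderOf_dvd_of_pow_eq_one hk)
  omega

theorem center_scalar {F : Type*} [Field F] [Fintype F] {m q : ℕ} (hF : Fintype.card F = q ^ 2) (hm : 3 ≤ m)
    (c : Cfsg.SU m F q) (hc : c ∈ Subgroup.center (Cfsg.SU m F q)) :
    ∃ μ : F, (c.1 : Matrix (Fin m) (Fin m) F) = Matrix.scalar (Fin m) μ := by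
  open CfsgLib.Classical.Herm in
  obtain ⟨e, f, hp⟩ := exists_pair_std hF hm
  open CfsgLib.Classical.Herm in
  have hc' : suEquivRoot hF hm c ∈ Subgroup.center (rootGen (stdHerm hF m)) := by
    refine Subgroup.mem_center_iff.2 fun b => ?_
    obtain ⟨b', rfl⟩ := (suEquivRoot hF hm).surjective b
    rw [← map_mul, ← map_mul, Subgroup.mem_center_iff.1 hc]
  open CfsgLib.Classical.Herm in
  obtain ⟨μ, -, hμ⟩ := (mem_center_rootGen_iff_scalar (big_std hF hm) hp _).1 hc'
  refine ⟨μ, Matrix.toLin'.injective (LinearMap.ext fun x => ?_)⟩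
  rw [Matrix.toLin'_apply, Matrix.toLin'_apply, Matrix.scalar_apply, ← Matrix.smul_one_eq_diagonal,
    Matrix.smul_mulVec, Matrix.one_mulVec]
  exact (CfsgLib.Classical.Herm.suEquiv_apply hF m c x).symm.trans (hμ x)

theorem dvd_card_SU {F : Type*} [Field F] [Fintype F] {p : ℕ} [CharP F p] {m q r j : ℕ}
    (hF : Fintype.card F = q ^ 2) (hm : 2 ≤ m) (hr : r.Prime)
    (h : r = p ∨ (2 ≤ j ∧ j ≤ m ∧ (-(q : ZMod r)) ^ j = 1)) :
    r ∣ Nat.card (Cfsg.SU m F q) := by
  refine Nat.dvd_of_mul_dvd_mul_left (Nat.succ_pos q) ?_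
  rw [Nat.succ_eq_add_one, CfsgLib.Classical.Herm.card_unit_eq_mul_su hF (by omega),
    CfsgLib.Classical.Herm.card_unit hF m]
  rcases h with rfl | ⟨hj2, hjm, hj⟩
  · rw [mul_comm]
    refine mul_dvd_mul ?_ ?_
    · obtain ⟨c, hp, hc⟩ := FiniteField.card F r
      rw [hF] at hc
      have hrq : r ∣ q := hr.dvd_of_dvd_pow (hc ▸ dvd_pow_self r c.pos.ne')
      refine hrq.trans (dvd_pow_self q ?_)
      have : 2 ≤ m * (m - 1) := le_trans hm (Nat.le_mul_of_pos_right _ (by omega))
      omega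
    · refine dvd_trans ?_ (Finset.dvd_prod_of_mem _ (Finset.mem_range.2 (show 0 < m by omega)))
      simp
  · refine dvd_mul_of_dvd_right (dvd_trans ?_ (Finset.prod_dvd_prod_of_subset {0, j - 1} _ _
      (show ({0, j - 1} : Finset ℕ) ⊆ Finset.range m by
        intro y hy
        simp only [Finset.mem_insert, Finset.mem_singleton] at hy
        rw [Finset.mem_range]
        omega))) _
    rw [Finset.prod_pair (by omega : (0 : ℕ) ≠ j - 1), if_pos Even.zero, zero_add, pow_one,
      Nat.sub_add_cancel (by omega : 1 ≤ j)]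
    refine mul_dvd_mul dvd_rfl ?_
    rw [neg_pow] at hj
    split_ifs with hev
    · rw [show j = j - 1 + 1 by omega, hev.add_one.neg_one_pow, Nat.sub_add_cancel (by omega : 1 ≤ j)] at hj
      rw [← ZMod.natCast_eq_zero_iff, Nat.cast_add, Nat.cast_pow, Nat.cast_one]
      linear_combination -hj
    · rw [show j = j - 1 + 1 by omega, (Nat.not_even_iff_odd.1 hev).add_one.neg_one_pow, one_mul,
        Nat.sub_add_cancel (by omega : 1 ≤ j)] at hj
      have hq1 : 1 ≤ q := Nat.pos_of_ne_zero (fun h => by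
        have := Fintype.card_pos (α := F)
        rw [hF, h] at this
        simp at this)
      rw [← ZMod.natCast_eq_zero_iff, Nat.cast_sub (Nat.one_le_pow _ _ hq1), Nat.cast_pow, Nat.cast_one,
        hj, sub_self]

theorem main {F : Type*} [Field F] [Fintype F] (p : ℕ) [Fact p.Prime] [CharP F p] (m q : ℕ) (hm : 4 ≤ m)
    (hF : Fintype.card F = q ^ 2) (a b : Cfsg.PSU m F q) (ha : orderOf a = p) (hab : Commute a b)
    (r : ℕ) (hr : r.Prime) (hrb : r ∣ orderOf b) : r ∣ Nat.card ↥(Cfsg.SU (m - 2) F q) := by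
  have hp := (Fact.out : p.Prime)
  by_cases hrp : r = p
  · exact dvd_card_SU (p := p) (j := 2) hF (by omega) hr (Or.inl hrp)
  have := Fact.mk hr
  have hrF : (r : F) ≠ 0 := by
    rw [Ne, CharP.cast_eq_zero_iff F p, Nat.prime_dvd_prime_iff_eq hp hr]
    exact Ne.symm hrp
  set e := orderOf (-(q : ZMod r)) with hedef
  suffices he : e ≤ m - 2 by
    have hq : (-(q : ZMod r)) ≠ 0 := by
      rw [neg_ne_zero, Ne, ZMod.natCast_eq_zero_iff]
      intro h
      obtain ⟨c, -, hc⟩ := FiniteField.card F p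
      rw [hF] at hc
      exact hrp ((Nat.prime_dvd_prime_iff_eq hr hp).1 (hr.dvd_of_dvd_pow (hc ▸ dvd_pow h two_ne_zero)))
    have he0 : 0 < e := Nat.pos_of_dvd_of_pos
      (orderOf_dvd_of_pow_eq_one (ZMod.pow_card_sub_one_eq_one hq)) (by
        have := hr.two_le
        omega)
    have hem : e ∣ max e 2 := by
      rcases le_or_gt 2 e with h | h
      · rw [max_eq_left h]
      · rw [show e = 1 by omega]
        exact one_dvd _
    exact dvd_card_SU (p := p) (j := max e 2) hF (by omega) hr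
      (Or.inr ⟨le_max_right _ _, by omega, orderOf_dvd_iff_pow_eq_one.1 hem⟩)
  -- lifts
  obtain ⟨A, i, t, hAi, hAa, hAc⟩ := Cfsg.Agent.S2364.exists_prime_power_lift _ hp a ha
  have hb' : orderOf (b ^ (orderOf b / r)) = r :=
    orderOf_pow_orderOf_div (orderOf_pos b).ne' hrb
  obtain ⟨B, k, t', hBe, hBb, hBc⟩ := Cfsg.Agent.S2364.exists_prime_power_lift _ hr _ hb'
  have hcomm : (A * B * A⁻¹ * B⁻¹ : Cfsg.SU m F q) ∈ Subgroup.center (Cfsg.SU m F q) := by
    rw [← QuotientGroup.eq_one_iff, QuotientGroup.mk_mul, QuotientGroup.mk_mul,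
      QuotientGroup.mk_mul, QuotientGroup.mk_inv, QuotientGroup.mk_inv, hAa, hBb,
      ((hab.pow_right _).pow_pow t t').eq]
    group
  obtain ⟨c, hc⟩ := center_scalar hF (by omega) _ hcomm
  let f : Cfsg.SU m F q →* GL (Fin m) F := Matrix.SpecialLinearGroup.toGL.comp (Cfsg.SU m F q).subtype
  have hf : Function.Injective f := Matrix.SpecialLinearGroup.toGL_injective.comp Subtype.val_injective
  obtain ⟨g, hgA⟩ : ∃ g, g = f A := ⟨_, rfl⟩
  obtain ⟨h, hhB⟩ : ∃ h, h = f B := ⟨_, rfl⟩
  have hg : g ^ p ^ i = 1 := by rw [hgA, ← map_pow, hAi, map_one]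
  have hh : h ^ r ^ k = 1 := by rw [hhB, ← map_pow, hBe, map_one]
  have hgh : (g * h * g⁻¹ * h⁻¹ : GL (Fin m) F).1 = Matrix.scalar (Fin m) c := by
    rw [hgA, hhB, ← map_inv, ← map_inv, ← map_mul, ← map_mul, ← map_mul]
    exact hc
  have : Nonempty (Fin m) := ⟨⟨0, by omega⟩⟩
  have hc1 : c = 1 := by
    have h1 : (g : Matrix (Fin m) (Fin m) F) =
        Matrix.scalar (Fin m) c * ((h * g * h⁻¹ : GL (Fin m) F) : Matrix (Fin m) (Fin m) F) := by
      rw [← hgh, ← Units.val_mul]
      congr 1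
      group
    have h2 := congrArg (fun X : Matrix (Fin m) (Fin m) F => X ^ p ^ i) h1
    rw [(Matrix.scalar_commute c (fun _ => Commute.all _ _) _).mul_pow, ← map_pow (Matrix.scalar (Fin m)),
      ← Units.val_pow_eq_pow_val, ← Units.val_pow_eq_pow_val, conj_pow, hg, mul_one,
      mul_inv_cancel, Units.val_one, mul_one] at h2
    have h3 : c ^ p ^ i = 1 := Matrix.scalar_inj.1 (by rw [← h2, map_one])
    exact (iterateFrobenius_inj F p i) (by simpa [iterateFrobenius_def] using h3)
  have hcomm2 : Commute g h := by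
    have h1 : g * h * g⁻¹ * h⁻¹ = 1 := Units.ext (by rw [hgh, hc1, map_one, Units.val_one])
    rw [mul_inv_eq_one, mul_inv_eq_iff_eq_mul] at h1
    exact h1
  have hh1 : h ≠ 1 := fun h1 => hBc (by
    rw [hf ((hhB.symm.trans h1).trans (map_one f).symm)]
    exact one_mem _)
  have hord := orderOf_dvd_of_pow_eq_one hh
  obtain ⟨l, -, hl⟩ := (Nat.dvd_prime_pow hr).1 hord
  rcases l with _ | l
  · exact absurd (orderOf_eq_one_iff.1 (by simpa using hl)) hh1
  refine order_odd (p := p) hF hm hrF (h ^ r ^ l) g ?_ ?_ ?_ (fun h1 => hAc ?_) ⟨p ^ i, ?_⟩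
    (hcomm2.symm.pow_left _)
  · rw [hhB, ← map_pow]
    exact (B ^ r ^ l).2
  · rw [← pow_mul, ← pow_succ, ← hl, pow_orderOf_eq_one]
  · intro h0
    have h2 := orderOf_dvd_of_pow_eq_one h0
    rw [hl, Nat.pow_dvd_pow_iff_le_right hr.one_lt] at h2
    omega
  · rw [hf ((hgA.symm.trans h1).trans (map_one f).symm)]
    exact one_mem _
  · rw [sub_pow_char_pow_of_commute (p := p) (h := Commute.one_right _), ← Units.val_pow_eq_pow_val,
      hg, one_pow, Units.val_one, sub_self]

/-- Let q be a power of the prime p, F the field with q² elements, m ≥ 4, and let a, b be commuting elements of PSU(m, q) with a of order p. Then every prime divisor of the order of b divides the order of SU(m − 2, q). -/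
theorem result {F : Type*} [Field F] [Fintype F] (p : ℕ) [Fact p.Prime] [CharP F p] (m q : ℕ) (hm : 4 ≤ m) (hF : Fintype.card F = q ^ 2)
    (a b : Cfsg.PSU m F q) (ha : orderOf a = p) (hab : Commute a b) :
    (orderOf b).primeFactors ⊆ (Nat.card ↥(Cfsg.SU (m - 2) F q)).primeFactors := by
  intro r hr
  rw [Nat.mem_primeFactors] at hr ⊢
  exact ⟨hr.1, main p m q hm hF a b ha hab r hr.1 hr.2.1, Nat.card_pos.ne'⟩

end Cfsg.Agent.S2365
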