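import Cfsg.Statements.S2366
import Cfsg.Agent.Lib.Spectrum.UnitaryThree

set_option autoImplicit false
open Cfsg

namespace Cfsg.Agent.S2366

/-- The set of element orders of PSU(3, q) for an odd prime power q = p^n: writing d = gcd(3, q + 1), a positive integer is the order of some element exactly when it divides one of q + 1, p(q + 1)/d, (q² − 1)/d, (q² − q + 1)/d. -/
theorem result {F : Type*} [Field F] [Fintype F] (p : ℕ) [Fact p.Prime] [CharP F p] (hp : p ≠ 2) (q : ℕ) (hF : Fintype.card F = q ^ 2) :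
    Set.range (orderOf : Cfsg.PSU 3 F q → ℕ) =
      {s : ℕ | s ∣ q + 1} ∪ {s : ℕ | s ∣ p * (q + 1) / Nat.gcd 3 (q + 1)} ∪
        {s : ℕ | s ∣ (q ^ 2 - 1) / Nat.gcd 3 (q + 1)} ∪ {s : ℕ | s ∣ (q ^ 2 - q + 1) / Nat.gcd 3 (q + 1)} := by
  obtain ⟨n, hp', hn⟩ := FiniteField.card F p
  obtain ⟨l, -, rfl⟩ : ∃ l ≤ (n : ℕ), q = p ^ l :=
    (Nat.dvd_prime_pow hp').1 (by rw [← hn, hF]; exact dvd_pow_self q two_ne_zero)
  exact CfsgLib.Spectrum.range_orderOf_psu_three p l hF hp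

end Cfsg.Agent.S2366
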