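import Cfsg.Statements.S2367
import Mathlib

set_option autoImplicit false
open Cfsg

namespace Cfsg.Agent.S2367

theorem key_of_list {N a : ℕ} (L : List (ℕ × ℕ)) (hN : N = 2 ^ a * (L.map fun x => x.1 ^ x.2).prod)
    (hL : ∀ x ∈ L, x.1.Prime ∧ (x.2 = 3 → x.1 ^ 3 < 2 ^ a) ∧ (x.2 ≠ 3 → x.1 ^ 3 ∣ N → x.1 ^ 4 ∣ N))
    (hL0 : ∀ x ∈ L, x.1 ≠ 0) (p : ℕ) (hp : p.Prime) (hodd : p ≠ 2) (h3 : N.factorization p = 3) :
    p ^ 3 < 2 ^ N.factorization 2 := by
  have hN0 : N ≠ 0 := by
    intro h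
    simp [h] at h3
  have ha : a ≤ N.factorization 2 :=
    (Nat.prime_two.pow_dvd_iff_le_factorization hN0).1 ⟨_, hN⟩
  have hpN : p ∣ N := by
    refine dvd_trans (dvd_pow_self p (by norm_num : (3 : ℕ) ≠ 0)) ?_
    exact (hp.pow_dvd_iff_le_factorization hN0).2 h3.ge
  rw [hN] at hpN
  rcases hp.dvd_mul.1 hpN with h | h
  · exact absurd ((Nat.prime_dvd_prime_iff_eq hp Nat.prime_two).1 (hp.dvd_of_dvd_pow h)) hodd
  · obtain ⟨y, hy, hpy⟩ := (Prime.dvd_prod_iff hp.prime).1 h
    obtain ⟨x, hx, rfl⟩ := List.mem_map.1 hy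
    obtain ⟨hxp, hlt, hnot⟩ := hL x hx
    obtain rfl := (Nat.prime_dvd_prime_iff_eq hp hxp).1 (hp.dvd_of_dvd_pow hpy)
    by_cases he : x.2 = 3
    · exact (hlt he).trans_le (Nat.pow_le_pow_right (by norm_num) ha)
    · have h4 := hnot he ((hp.pow_dvd_iff_le_factorization hN0).2 h3.ge)
      rw [hp.pow_dvd_iff_le_factorization hN0, h3] at h4
      omega

theorem cube_lt_two_pow : ∀ p, 5 ≤ p → p ^ 3 < 2 ^ (2 * p - 1) := by
  intro p hp
  induction p, hp using Nat.le_induction with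
  | base => norm_num
  | succ p hp ih =>
    rw [show 2 * (p + 1) - 1 = 2 * p - 1 + 2 by omega, pow_add]
    have : (p + 1) ^ 3 ≤ 4 * p ^ 3 := by
      nlinarith [Nat.mul_le_mul hp (Nat.mul_le_mul hp hp), Nat.mul_le_mul hp hp,
        Nat.mul_le_mul_right (p * p) hp, Nat.mul_le_mul_right p hp]
    omega

theorem alternating_case (n p : ℕ) (hn : 5 ≤ n) (hp : p.Prime) (hodd : p ≠ 2)
    (N : ℕ) (hN : 2 * N = n.factorial) (h3 : N.factorization p = 3) :
    p ^ 3 < 2 ^ N.factorization 2 := by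
  have := Fact.mk hp
  have := Fact.mk Nat.prime_two
  have hN0 : N ≠ 0 := by
    intro h
    simp [h] at h3
  have hfac : ∀ r, r.Prime → n.factorial.factorization r = (2 : ℕ).factorization r + N.factorization r := by
    intro r _
    rw [← hN, Nat.factorization_mul (by norm_num) hN0]
    rfl
  have hp3 : padicValNat p n.factorial = 3 := by
    rw [← Nat.factorization_def _ hp, hfac p hp, h3,
      Nat.factorization_eq_zero_of_not_dvd (fun h => hodd ((Nat.prime_dvd_prime_iff_eq hp Nat.prime_two).1 h))]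
  have h2 : padicValNat 2 n.factorial = 1 + N.factorization 2 := by
    rw [← Nat.factorization_def _ Nat.prime_two, hfac 2 Nat.prime_two, Nat.prime_two.factorization_self]
  rw [padicValNat_factorial (b := n + 1) (lt_of_le_of_lt (Nat.log_le_self _ _) n.lt_succ_self)] at hp3 h2
  have hp2 : 3 ≤ p := by
    have := hp.two_le
    omega
  have hsplit : ∀ r : ℕ, n / r + n / r ^ 2 ≤ ∑ i ∈ Finset.Ico 1 (n + 1), n / r ^ i := by
    intro r
    have hs : ({1, 2} : Finset ℕ) ⊆ Finset.Ico 1 (n + 1) := by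
      intro i hi
      simp only [Finset.mem_insert, Finset.mem_singleton] at hi
      simp only [Finset.mem_Ico]
      omega
    refine le_trans ?_ (Finset.sum_le_sum_of_subset hs)
    simp
  have hle := hsplit p
  rw [hp3] at hle
  have hsq : n < p ^ 2 := by
    by_contra hge
    push Not at hge
    have h1 : p ≤ n / p := (Nat.le_div_iff_mul_le hp.pos).2 (by rw [← sq]; exact hge)
    have h2 : 1 ≤ n / p ^ 2 := (Nat.le_div_iff_mul_le (by positivity)).2 (by simpa using hge)
    omega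
  have heq : n / p = 3 := by
    rw [Finset.sum_eq_single 1] at hp3
    · simpa using hp3
    · intro i hi hi1
      simp only [Finset.mem_Ico] at hi
      exact Nat.div_eq_of_lt (hsq.trans_le (Nat.pow_le_pow_right hp.pos (by omega)))
    · intro h
      exfalso
      exact h (by simp only [Finset.mem_Ico]; omega)
  have hn3 : 3 * p ≤ n := heq ▸ Nat.div_mul_le_self n p
  have hp5 : 5 ≤ p := by
    by_contra hlt
    interval_cases p
    · rw [show (3 : ℕ) ^ 2 = 9 by norm_num] at hsq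
      omega
    · exact absurd hp (by norm_num)
  refine (cube_lt_two_pow p hp5).trans_le (Nat.pow_le_pow_right (by norm_num) ?_)
  have := hsplit 2
  rw [h2] at this
  norm_num at this
  omega

/-- Let G be an alternating group of degree at least 5 or a simple group with the order of one of the 26 sporadic groups, and let p be an odd prime such that p³ is the exact power of p dividing the order of G. Then p³ is less than the 2-part of the order of G. -/
theorem result {G : Type*} [Group G] [Finite G] (hG : Cfsg.IsAlternating G ∨ Cfsg.IsSporadic G)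
    (p : ℕ) (hp : p.Prime) (hodd : p ≠ 2) (h3 : (Nat.card G).factorization p = 3) :
    p ^ 3 < 2 ^ (Nat.card G).factorization 2 := by
  rcases hG with ⟨n, hn, ⟨e⟩⟩ | hS
  · refine alternating_case n p hn hp hodd _ ?_ h3
    have : Nontrivial (Fin n) := Fin.nontrivial_iff_two_le.2 (by omega)
    rw [Nat.card_congr e.toEquiv, two_mul_nat_card_alternatingGroup, Nat.card_perm, Nat.card_fin]
  · rcases hS with ⟨-, h⟩ | ⟨-, h⟩ | ⟨-, h⟩ | ⟨-, h⟩ | ⟨-, h⟩ | ⟨-, h⟩ | ⟨-, h⟩ | ⟨-, h⟩ | ⟨-, h⟩ | ⟨-, h⟩ | ⟨-, h⟩ | ⟨-, h⟩ | ⟨-, h⟩ | ⟨-, h⟩ | ⟨-, h⟩ | ⟨-, h⟩ | ⟨-, h⟩ | ⟨-, h⟩ | ⟨-, h⟩ | ⟨-, h⟩ | ⟨-, h⟩ | ⟨-, h⟩ | ⟨-, h⟩ | ⟨-, h⟩ | ⟨-, h⟩ | ⟨-, h⟩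
    · rw [h] at h3 ⊢
      exact key_of_list (a := 4) [(3, 2), (5, 1), (11, 1)] (by norm_num) (by simp; norm_num) (by simp) p hp hodd h3
    · rw [h] at h3 ⊢
      exact key_of_list (a := 6) [(3, 3), (5, 1), (11, 1)] (by norm_num) (by simp; norm_num) (by simp) p hp hodd h3
    · rw [h] at h3 ⊢
      exact key_of_list (a := 7) [(3, 2), (5, 1), (7, 1), (11, 1)] (by norm_num) (by simp; norm_num) (by simp) p hp hodd h3
    · rw [h] at h3 ⊢
      exact key_of_list (a := 7) [(3, 2), (5, 1), (7, 1), (11, 1), (23, 1)] (by norm_num) (by simp; norm_num) (by simp) p hp hodd h3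
    · rw [h] at h3 ⊢
      exact key_of_list (a := 10) [(3, 3), (5, 1), (7, 1), (11, 1), (23, 1)] (by norm_num) (by simp; norm_num) (by simp) p hp hodd h3
    · rw [h] at h3 ⊢
      exact key_of_list (a := 3) [(3, 1), (5, 1), (7, 1), (11, 1), (19, 1)] (by norm_num) (by simp; norm_num) (by simp) p hp hodd h3
    · rw [h] at h3 ⊢
      exact key_of_list (a := 7) [(3, 3), (5, 2), (7, 1)] (by norm_num) (by simp; norm_num) (by simp) p hp hodd h3
    · rw [h] at h3 ⊢
      exact key_of_list (a := 7) [(3, 5), (5, 1), (17, 1), (19, 1)] (by norm_num) (by simp; norm_num) (by simp) p hp hodd h3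
    · rw [h] at h3 ⊢
      exact key_of_list (a := 21) [(3, 3), (5, 1), (7, 1), (11, 3), (23, 1), (29, 1), (31, 1), (37, 1), (43, 1)] (by norm_num) (by simp; norm_num) (by simp) p hp hodd h3
    · rw [h] at h3 ⊢
      exact key_of_list (a := 21) [(3, 9), (5, 4), (7, 2), (11, 1), (13, 1), (23, 1)] (by norm_num) (by simp; norm_num) (by simp) p hp hodd h3
    · rw [h] at h3 ⊢
      exact key_of_list (a := 18) [(3, 6), (5, 3), (7, 1), (11, 1), (23, 1)] (by norm_num) (by simp; norm_num) (by simp) p hp hodd h3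
    · rw [h] at h3 ⊢
      exact key_of_list (a := 10) [(3, 7), (5, 3), (7, 1), (11, 1), (23, 1)] (by norm_num) (by simp; norm_num) (by simp) p hp hodd h3
    · rw [h] at h3 ⊢
      exact key_of_list (a := 17) [(3, 9), (5, 2), (7, 1), (11, 1), (13, 1)] (by norm_num) (by simp; norm_num) (by simp) p hp hodd h3
    · rw [h] at h3 ⊢
      exact key_of_list (a := 18) [(3, 13), (5, 2), (7, 1), (11, 1), (13, 1), (17, 1), (23, 1)] (by norm_num) (by simp; norm_num) (by simp) p hp hodd h3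
    · rw [h] at h3 ⊢
      exact key_of_list (a := 21) [(3, 16), (5, 2), (7, 3), (11, 1), (13, 1), (17, 1), (23, 1), (29, 1)] (by norm_num) (by simp; norm_num) (by simp) p hp hodd h3
    · rw [h] at h3 ⊢
      exact key_of_list (a := 9) [(3, 2), (5, 3), (7, 1), (11, 1)] (by norm_num) (by simp; norm_num) (by simp) p hp hodd h3
    · rw [h] at h3 ⊢
      exact key_of_list (a := 7) [(3, 6), (5, 3), (7, 1), (11, 1)] (by norm_num) (by simp; norm_num) (by simp) p hp hodd h3
    · rw [h] at h3 ⊢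
      exact key_of_list (a := 10) [(3, 3), (5, 2), (7, 3), (17, 1)] (by norm_num) (by simp; norm_num) (by simp) p hp hodd h3
    · rw [h] at h3 ⊢
      exact key_of_list (a := 14) [(3, 3), (5, 3), (7, 1), (13, 1), (29, 1)] (by norm_num) (by simp; norm_num) (by simp) p hp hodd h3
    · rw [h] at h3 ⊢
      exact key_of_list (a := 13) [(3, 7), (5, 2), (7, 1), (11, 1), (13, 1)] (by norm_num) (by simp; norm_num) (by simp) p hp hodd h3
    · rw [h] at h3 ⊢
      exact key_of_list (a := 9) [(3, 4), (5, 1), (7, 3), (11, 1), (19, 1), (31, 1)] (by norm_num) (by simp; norm_num) (by simp) p hp hodd h3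
    · rw [h] at h3 ⊢
      exact key_of_list (a := 14) [(3, 6), (5, 6), (7, 1), (11, 1), (19, 1)] (by norm_num) (by simp; norm_num) (by simp) p hp hodd h3
    · rw [h] at h3 ⊢
      exact key_of_list (a := 8) [(3, 7), (5, 6), (7, 1), (11, 1), (31, 1), (37, 1), (67, 1)] (by norm_num) (by simp; norm_num) (by simp) p hp hodd h3
    · rw [h] at h3 ⊢
      exact key_of_list (a := 15) [(3, 10), (5, 3), (7, 2), (13, 1), (19, 1), (31, 1)] (by norm_num) (by simp; norm_num) (by simp) p hp hodd h3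
    · rw [h] at h3 ⊢
      exact key_of_list (a := 41) [(3, 13), (5, 6), (7, 2), (11, 1), (13, 1), (17, 1), (19, 1), (23, 1), (31, 1), (47, 1)] (by norm_num) (by simp; norm_num) (by simp) p hp hodd h3
    · rw [h] at h3 ⊢
      exact key_of_list (a := 46) [(3, 20), (5, 9), (7, 6), (11, 2), (13, 3), (17, 1), (19, 1), (23, 1), (29, 1), (31, 1), (41, 1), (47, 1), (59, 1), (71, 1)] (by norm_num) (by simp; norm_num) (by simp) p hp hodd h3

end Cfsg.Agent.S2367
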