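import Cfsg.Statements.S2368
import Mathlib

set_option autoImplicit false
open Cfsg

namespace Cfsg.Agent.S2368

theorem charP_matrix {F : Type*} [Field F] (p : ℕ) [CharP F p] (m : ℕ) [Nonempty (Fin m)] :
    CharP (Matrix (Fin m) (Fin m) F) p := inferInstance

theorem main_le {F : Type*} [Field F] [Fintype F] (p : ℕ) [Fact p.Prime] [CharP F p] (m : ℕ)
    (hm : 1 ≤ m) (g : Matrix.GeneralLinearGroup (Fin m) F) (hg : ∃ j : ℕ, orderOf g = p ^ j) :
    orderOf g < p * m := by
  have : Nonempty (Fin m) := ⟨⟨0, hm⟩⟩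
  have hp := (Fact.out : p.Prime)
  obtain ⟨j, hj⟩ := hg
  rcases Nat.eq_zero_or_pos j with rfl | hjpos
  · rw [hj, pow_zero]
    calc 1 < 2 * 1 := by norm_num
      _ ≤ p * m := Nat.mul_le_mul hp.two_le hm
  obtain ⟨i, rfl⟩ : ∃ i, j = i + 1 := ⟨j - 1, by omega⟩
  rcases lt_or_ge (p ^ i) m with hlt | hge
  · rw [hj, pow_succ']
    exact Nat.mul_lt_mul_of_pos_left hlt hp.pos
  exfalso
  have hcomm : Commute ((g : Matrix (Fin m) (Fin m) F) - 1) 1 := Commute.one_right _
  have hnil : IsNilpotent ((g : Matrix (Fin m) (Fin m) F) - 1) := by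
    refine ⟨p ^ (i + 1), ?_⟩
    have h := add_pow_char_pow_of_commute (p := p) (n := i + 1) hcomm
    rw [sub_add_cancel, one_pow, ← Units.val_pow_eq_pow_val, ← hj, pow_orderOf_eq_one,
      Units.val_one, eq_comm, add_eq_right] at h
    rwa [← hj]
  have h0 : ((g : Matrix (Fin m) (Fin m) F) - 1) ^ p ^ i = 0 := by
    refine pow_eq_zero_of_le hge ?_
    have h3 : ((g : Matrix (Fin m) (Fin m) F) - 1).charpoly = Polynomial.X ^ m := by
      rw [← sub_eq_zero]
      have := (Matrix.isNilpotent_charpoly_sub_pow_of_isNilpotent hnil).eq_zero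
      simpa using this
    have h4 := Matrix.aeval_self_charpoly ((g : Matrix (Fin m) (Fin m) F) - 1)
    rwa [h3, map_pow, Polynomial.aeval_X] at h4
  have h := add_pow_char_pow_of_commute (p := p) (n := i) hcomm
  rw [sub_add_cancel, one_pow, h0, zero_add, ← Units.val_pow_eq_pow_val, Units.val_eq_one] at h
  have hd := orderOf_dvd_of_pow_eq_one h
  rw [hj, Nat.pow_dvd_pow_iff_le_right hp.one_lt] at hd
  omega

/-- The shift matrix. -/
def shift (F : Type*) [Field F] (m : ℕ) : Matrix (Fin m) (Fin m) F :=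
  Matrix.of fun i j => if (j : ℕ) = i + 1 then 1 else 0

theorem shift_pow (F : Type*) [Field F] (m r : ℕ) :
    shift F m ^ r = Matrix.of fun i j : Fin m => if (j : ℕ) = i + r then 1 else 0 := by
  induction r with
  | zero =>
    ext i j
    simp [Matrix.one_apply, Fin.ext_iff, eq_comm]
  | succ r ih =>
    ext i j
    rw [pow_succ, ih, Matrix.mul_apply]
    simp only [shift, Matrix.of_apply, ite_mul, one_mul, zero_mul]
    by_cases h : (i : ℕ) + r < m
    · rw [Finset.sum_eq_single ⟨i + r, h⟩]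
      · simp [add_assoc]
      · intro b _ hb
        rw [if_neg fun h' => hb (Fin.ext h')]
      · simp
    · rw [Finset.sum_eq_zero, if_neg]
      · have := j.2
        omega
      · intro b _
        rw [if_neg]
        have := b.2
        omega

theorem main_exists {F : Type*} [Field F] [Fintype F] (p : ℕ) [Fact p.Prime] [CharP F p] (m : ℕ)
    (hm : 1 ≤ m) :
    ∃ g : Matrix.GeneralLinearGroup (Fin m) F, (∃ j : ℕ, orderOf g = p ^ j) ∧ m ≤ orderOf g := by
  have : Nonempty (Fin m) := ⟨⟨0, hm⟩⟩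
  have hp := (Fact.out : p.Prime)
  have h0 : shift F m ^ m = 0 := by
    rw [shift_pow]
    ext i j
    rw [Matrix.of_apply, if_neg, Matrix.zero_apply]
    have := j.2
    omega
  have hu : IsUnit (1 + shift F m) := IsNilpotent.isUnit_one_add ⟨m, h0⟩
  obtain ⟨g, hg⟩ := hu
  have hpow : ∀ k, (g : Matrix (Fin m) (Fin m) F) ^ p ^ k = 1 + shift F m ^ p ^ k := by
    intro k
    rw [hg, add_pow_char_pow_of_commute (p := p) (n := k) (h := Commute.one_left _), one_pow]
  have hdvd : orderOf g ∣ p ^ m := by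
    apply orderOf_dvd_of_pow_eq_one
    rw [← Units.val_eq_one, Units.val_pow_eq_pow_val, hpow,
      pow_eq_zero_of_le (m.lt_pow_self hp.one_lt).le h0, add_zero]
  obtain ⟨j, -, hj⟩ := (Nat.dvd_prime_pow hp).1 hdvd
  refine ⟨g, ⟨j, hj⟩, ?_⟩
  by_contra hlt
  push Not at hlt
  rw [hj] at hlt
  have h := hpow j
  rw [← hj, ← Units.val_pow_eq_pow_val, pow_orderOf_eq_one, Units.val_one, hj, left_eq_add,
    shift_pow] at h
  have h' := congrFun (congrFun h ⟨0, hm⟩) ⟨p ^ j, hlt⟩
  simp at h'

/-- Let F be a finite field of characteristic p and m ≥ 1. Every element of GL(m, F) of p-power order has order less than p·m, and GL(m, F) has an element of p-power order at least m; so the largest order of a p-element of GL(m, F) is the least power of p that is at least m. -/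
theorem result {F : Type*} [Field F] [Fintype F] (p : ℕ) [Fact p.Prime] [CharP F p] (m : ℕ) (hm : 1 ≤ m) :
    (∀ g : Matrix.GeneralLinearGroup (Fin m) F, (∃ j : ℕ, orderOf g = p ^ j) → orderOf g < p * m) ∧
      ∃ g : Matrix.GeneralLinearGroup (Fin m) F, (∃ j : ℕ, orderOf g = p ^ j) ∧ m ≤ orderOf g := by
  exact ⟨main_le p m hm, main_exists p m hm⟩

end Cfsg.Agent.S2368
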