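import Cfsg.Statements.S2369
import Cfsg.Agent.Lib.ReeBT.Twist

set_option autoImplicit false
open Cfsg

namespace Cfsg.Agent.S2369

/-- Let q = 2^(2m+1) with m ≥ 1 and let a, b be commuting elements of the large Ree group ²F₄(q) with a an involution. Then every prime divisor of the order of b divides q(q⁴ − 1). -/
theorem result {K : Type*} [Field K] [Fintype K] (m : ℕ) (hm : 1 ≤ m) (hK : Fintype.card K = 2 ^ (2 * m + 1))
    (a b : ↥(Cfsg.Lie.twistedF4 K (2 ^ m))) (ha : orderOf a = 2) (hab : Commute a b) :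
    (orderOf b).primeFactors ⊆ (2 ^ (2 * m + 1) * ((2 ^ (2 * m + 1)) ^ 4 - 1)).primeFactors := by
  haveI : Fintype ↥(Cfsg.Lie.twistedF4 K (2 ^ m)) := Fintype.ofFinite _
  set q := 2 ^ (2 * m + 1) with hq
  have ha2 : IsPGroup 2 (Subgroup.zpowers (a : GL Cfsg.Lie.chevF4.Idx K)) := by
    refine IsPGroup.of_card (n := 1) ?_
    rw [Nat.card_zpowers, Subgroup.orderOf_coe, ha, pow_one]
  have ha1 : (a : GL Cfsg.Lie.chevF4.Idx K) ≠ 1 := fun h => by
    rw [← Subgroup.orderOf_coe, h, orderOf_one] at ha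
    omega
  have hd := CfsgLib.ReeBT.orderOf_dvd hK a.2 b.2 ha2 ha1
    (hab.map (Cfsg.Lie.twistedF4 K (2 ^ m)).subtype)
  rw [Subgroup.orderOf_coe, hK] at hd
  intro p hp
  obtain ⟨hpp, hpd, -⟩ := Nat.mem_primeFactors.1 hp
  have hq2 : 2 ≤ q := le_self_pow₀ one_le_two (by omega)
  have hq4 : 2 ≤ q ^ 4 := le_trans hq2 (le_self_pow₀ (by omega) (by norm_num))
  refine Nat.mem_primeFactors.2 ⟨hpp, ?_, Nat.mul_ne_zero (by omega) (by omega)⟩
  have e : q ^ 4 - 1 = (q - 1) * (1 + q) * (1 + q ^ 2) := by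
    zify [(by omega : 1 ≤ q), (by omega : 1 ≤ q ^ 4)]
    ring
  rw [e]
  have h := hpd.trans hd
  rcases (Nat.Prime.dvd_mul hpp).1 h with h | h
  · rcases (Nat.Prime.dvd_mul hpp).1 h with h | h
    · exact dvd_mul_of_dvd_left (hpp.dvd_of_dvd_pow h) _
    · exact dvd_mul_of_dvd_right (dvd_mul_of_dvd_left (dvd_mul_of_dvd_left (hpp.dvd_of_dvd_pow h) _) _) _
  · rcases (Nat.Prime.dvd_mul hpp).1 h with h | h
    · exact dvd_mul_of_dvd_right (dvd_mul_of_dvd_left (dvd_mul_of_dvd_right (hpp.dvd_of_dvd_pow h) _) _) _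
    · exact dvd_mul_of_dvd_right (dvd_mul_of_dvd_right h _) _

end Cfsg.Agent.S2369
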