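import Cfsg.Statements.S2370
import Cfsg.Agent.Lib.ChevTwoExp.Basic
import Cfsg.Agent.Lib.Chev.Comm

set_option autoImplicit false
open Cfsg

namespace Cfsg.Agent.S2370

/-- Let q = 2^(2m+1) with m ≥ 1. Every element of 2-power order of the large Ree group ²F₄(q) has order at most 32. -/
theorem result {K : Type*} [Field K] [Fintype K] (m : ℕ) (hm : 1 ≤ m) (hK : Fintype.card K = 2 ^ (2 * m + 1))
    (x : ↥(Cfsg.Lie.twistedF4 K (2 ^ m))) (hx : ∃ j : ℕ, orderOf x = 2 ^ j) : orderOf x ≤ 32 := by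
  classical
  have hc := CfsgLib.Chev.F4.checked
  have hcomm := CfsgLib.Chev.commOne_of_commCheck hc CfsgLib.Chev.F4.comm_ok CfsgLib.Chev.F4.short_ok
  haveI : Fact (Nat.Prime 2) := ⟨Nat.prime_two⟩
  haveI : CharP K 2 := by
    haveI := ringChar.charP K
    obtain ⟨n, hp, hn⟩ := FiniteField.card K (ringChar K)
    have h2 : ringChar K ∣ 2 ^ (2 * m + 1) := hK ▸ hn ▸ dvd_pow_self _ n.pos.ne'
    rw [← (Nat.prime_dvd_prime_iff_eq hp Nat.prime_two).1 (hp.dvd_of_dvd_pow h2)]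
    infer_instance
  have hr : ∀ r, r ∈ [Cfsg.Lie.f4p1, Cfsg.Lie.f4p4, Cfsg.Lie.f4m1, Cfsg.Lie.f4m4, Cfsg.Lie.f4a, Cfsg.Lie.f4b,
      Cfsg.Lie.f4ab, Cfsg.Lie.f4aab, Cfsg.Lie.f4ma, Cfsg.Lie.f4mb, Cfsg.Lie.f4mab, Cfsg.Lie.f4maab] →
      r < Cfsg.Lie.chevF4.nroots := by decide +kernel
  have hsub : Cfsg.Lie.twistedF4 K (2 ^ m) ≤ Cfsg.Lie.chevF4.group K := by
    rw [Cfsg.Lie.twistedF4, Cfsg.Lie.ChevalleyDatum.genSubgroup, Subgroup.closure_le]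
    rintro g ⟨w, hw, hg⟩
    have hlt : ∀ q ∈ w, q.1 < Cfsg.Lie.chevF4.nroots := by
      intro q hq
      rcases hw with ⟨t, rfl | rfl⟩ | ⟨t, u, rfl | rfl⟩ <;>
        simp only [Cfsg.Lie.f4PairWord, Cfsg.Lie.b2ClassWord, List.mem_cons, List.not_mem_nil, or_false] at hq <;>
        rcases hq with rfl | rfl | rfl | rfl <;> exact hr _ (by simp)
    have he : g = CfsgLib.Chev.wordGL Cfsg.Lie.chevF4 K w :=
      Units.ext (by rw [hg, CfsgLib.Chev.coe_wordGL hc hlt])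
    rw [he, CfsgLib.Chev.wordGL]
    refine list_prod_mem fun y hy => ?_
    obtain ⟨q, hq, rfl⟩ := List.mem_map.1 hy
    exact CfsgLib.Chev.elX_mem_group hc (hlt q hq) q.2
  have hpos : ∀ r, r < Cfsg.Lie.chevF4.nroots → Cfsg.Lie.chevF4.nroots / 2 ≤ r →
      1 ≤ CfsgLib.ChevTwoExp.htSum (CfsgLib.Chev.rv Cfsg.Lie.chevF4 CfsgLib.Chev.F4.tabs r) := by
    unfold CfsgLib.ChevTwoExp.htSum CfsgLib.Chev.rv
    decide +kernel
  have hbd0 : ∀ a, a < Cfsg.Lie.chevF4.nroots + Cfsg.Lie.chevF4.rank →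
      -(11 : ℤ) ≤ CfsgLib.ChevTwoExp.htSum (CfsgLib.Chev.rv Cfsg.Lie.chevF4 CfsgLib.Chev.F4.tabs a) ∧
        CfsgLib.ChevTwoExp.htSum (CfsgLib.Chev.rv Cfsg.Lie.chevF4 CfsgLib.Chev.F4.tabs a) ≤ 11 := by
    unfold CfsgLib.ChevTwoExp.htSum CfsgLib.Chev.rv
    decide +kernel
  have h := CfsgLib.ChevTwoExp.orderOf_le hc hcomm 2 (N := 11) (k := 5) (by norm_num) hpos
    (fun y => hbd0 _ (CfsgLib.Chev.cd_lt y)) (hsub x.2) (by
      obtain ⟨j, hj⟩ := hx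
      exact ⟨j, by rw [Subgroup.orderOf_coe]; exact hj⟩)
  rw [Subgroup.orderOf_coe] at h
  simpa using h

end Cfsg.Agent.S2370
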