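import Cfsg.Statements.S2371
import Cfsg.Agent.Lib.ChevCent.EllipticTorus
import Cfsg.Agent.Lib.Chev.OrderCases

set_option autoImplicit false
open Cfsg

namespace Cfsg.Agent.S2371

/-- The group G₂(q), q ≥ 3, contains a cyclic subgroup of order q² + q + 1 which is its own centralizer. -/
theorem result {F : Type*} [Field F] [Fintype F] (q : ℕ) (hF : Fintype.card F = q) (hq : 3 ≤ q) :
    ∃ H : Subgroup ↥(Cfsg.Lie.chevG2.group F), IsCyclic ↥H ∧ Nat.card ↥H = q ^ 2 + q + 1 ∧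
      Subgroup.centralizer (H : Set ↥(Cfsg.Lie.chevG2.group F)) = H := by
  classical
  obtain ⟨T, hc, hcomm⟩ := CfsgLib.Chev.exists_checked' (D := Cfsg.Lie.chevG2) (by simp)
  have hΦ : (Polynomial.cyclotomic 3 ℤ).eval (q : ℤ) = ((q ^ 2 + q + 1 : ℕ) : ℤ) := by
    rw [Polynomial.cyclotomic_three]
    simp
  have hmod : ∀ n : ℕ, ¬ 9 ∣ n ^ 2 + n + 1 ∧ ¬ 2 ∣ n ^ 2 + n + 1 := by
    intro n
    constructor
    · intro h
      have h' := (ZMod.natCast_eq_zero_iff _ 9).2 h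
      push_cast at h'
      exact (show ∀ x : ZMod 9, x ^ 2 + x + 1 ≠ 0 by decide) _ h'
    · intro h
      have h' := (ZMod.natCast_eq_zero_iff _ 2).2 h
      push_cast at h'
      exact (show ∀ x : ZMod 2, x ^ 2 + x + 1 ≠ 0 by decide) _ h'
  obtain ⟨r, hr, hrΦ, hr3⟩ : ∃ r, r.Prime ∧ r ∣ q ^ 2 + q + 1 ∧ r ≠ 3 := by
    have h9 : 9 ≤ q ^ 2 := Nat.pow_le_pow_left hq 2
    by_cases h3 : 3 ∣ q ^ 2 + q + 1
    · obtain ⟨m, hm⟩ := h3
      obtain ⟨r, hr, hrm⟩ := Nat.exists_prime_and_dvd (show m ≠ 1 by omega)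
      refine ⟨r, hr, hm ▸ dvd_mul_of_dvd_right hrm 3, fun h => (hmod q).1 ?_⟩
      rw [hm]
      exact Nat.mul_dvd_mul_left 3 (h ▸ hrm)
    · obtain ⟨r, hr, hrm⟩ := Nat.exists_prime_and_dvd (show q ^ 2 + q + 1 ≠ 1 by omega)
      exact ⟨r, hr, hrm, fun h => h3 (h ▸ hrm)⟩
  haveI := Fact.mk hr
  have hr2 : r ≠ 2 := fun h => (hmod q).2 (h ▸ hrΦ)
  refine CfsgLib.ChevCent.cyclic_self_centralizing hc hcomm hF (d := 3) (by norm_num) (by decide) (by decide +kernel)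
    (M := (![![2, 3], ![1, 2]] : Fin 2 → Fin 2 → ℤ)) (by unfold CfsgLib.ChevField.CartanInv; decide +kernel)
    (J := [(⟨0, by decide⟩ : Fin Cfsg.Lie.chevG2.rank), (⟨1, by decide⟩ : Fin Cfsg.Lie.chevG2.rank)]) (by decide)
    hΦ ?_ hr2 hrΦ ?_ ?_ ?_
  · intro l hl h3 h
    obtain rfl := (Nat.prime_dvd_prime_iff_eq hl Nat.prime_three).1 h3
    exact (hmod q).1 h
  · exact fun h => hr3 ((Nat.prime_dvd_prime_iff_eq hr Nat.prime_three).1 h)
  · rw [CfsgLib.Chev.wsum_G2 hc, show CfsgLib.Chev.polyEval [1, 1, 1, 1, 1, 1] 1 * CfsgLib.Chev.polyEval [1, 1] 1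
      = 2 ^ 2 * 3 by decide +kernel]
    intro h
    rcases hr.dvd_mul.1 h with h | h
    · exact hr2 ((Nat.prime_dvd_prime_iff_eq hr Nat.prime_two).1 (hr.dvd_of_dvd_pow h))
    · exact hr3 ((Nat.prime_dvd_prime_iff_eq hr Nat.prime_three).1 h)
  · rw [CfsgLib.Chev.card_group_G2 hF]
    refine dvd_mul_of_dvd_right (hrΦ.trans ?_) _
    refine ⟨(q ^ 3 + 1) * (q - 1), ?_⟩
    zify [Nat.one_le_pow 6 q (by omega), (by omega : 1 ≤ q)]
    ring

end Cfsg.Agent.S2371
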