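import Cfsg.Statements.S2372
import Cfsg.Agent.Lib.ChevCent.EllipticTorus
import Cfsg.Agent.Lib.Chev.OrderCases

set_option autoImplicit false
open Cfsg

namespace Cfsg.Agent.S2372

/-- The group F₄(q) contains a cyclic subgroup of order q⁴ + 1 which is its own centralizer. -/
theorem result {F : Type*} [Field F] [Fintype F] (q : ℕ) (hF : Fintype.card F = q) :
    ∃ H : Subgroup ↥(Cfsg.Lie.chevF4.group F), IsCyclic ↥H ∧ Nat.card ↥H = q ^ 4 + 1 ∧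
      Subgroup.centralizer (H : Set ↥(Cfsg.Lie.chevF4.group F)) = H := by
  classical
  obtain ⟨T, hc, hcomm⟩ := CfsgLib.Chev.exists_checked' (D := Cfsg.Lie.chevF4) (by simp)
  have hq2 : 2 ≤ q := hF ▸ Fintype.one_lt_card
  have hΦ : (Polynomial.cyclotomic 8 ℤ).eval (q : ℤ) = ((q ^ 4 + 1 : ℕ) : ℤ) := by
    rw [show 8 = 2 ^ (2 + 1) from rfl, Polynomial.cyclotomic_prime_pow_eq_geom_sum Nat.prime_two]
    simp [Finset.sum_range_succ]; ring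
  have hmod : ∀ n : ℕ, (n ^ 4 + 1) % 4 ≠ 0 ∧ (n ^ 4 + 1) % 3 ≠ 0 := by
    intro n
    constructor
    · rw [Nat.add_mod, Nat.pow_mod]
      have := Nat.mod_lt n (show 0 < 4 by norm_num)
      interval_cases (n % 4) <;> decide
    · rw [Nat.add_mod, Nat.pow_mod]
      have := Nat.mod_lt n (show 0 < 3 by norm_num)
      interval_cases (n % 3) <;> decide
  obtain ⟨r, hr, hrΦ, hr2⟩ : ∃ r, r.Prime ∧ r ∣ q ^ 4 + 1 ∧ r ≠ 2 := by
    have h17 : 17 ≤ q ^ 4 + 1 := by have := Nat.pow_le_pow_left hq2 4; omega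
    rcases Nat.even_or_odd (q ^ 4 + 1) with ⟨m, hm⟩ | h
    · obtain ⟨r, hr, hrm⟩ := Nat.exists_prime_and_dvd (show m ≠ 1 by omega)
      refine ⟨r, hr, hm ▸ dvd_add hrm hrm, fun h => ?_⟩
      obtain ⟨j, rfl⟩ := h ▸ hrm
      exact (hmod q).1 (by omega)
    · obtain ⟨r, hr, hrm⟩ := Nat.exists_prime_and_dvd (show q ^ 4 + 1 ≠ 1 by omega)
      refine ⟨r, hr, hrm, fun h2 => ?_⟩
      obtain ⟨j, hj⟩ := h2 ▸ hrm
      obtain ⟨i, hi⟩ := h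
      omega
  haveI := Fact.mk hr
  refine CfsgLib.ChevCent.cyclic_self_centralizing hc hcomm hF (d := 8) (by norm_num) (by decide) (by decide +kernel)
    (M := (![![2, 3, 4, 2], ![3, 6, 8, 4], ![2, 4, 6, 3], ![1, 2, 3, 2]] : Fin 4 → Fin 4 → ℤ)) (by unfold CfsgLib.ChevField.CartanInv; decide +kernel)
    (J := [(⟨0, by decide⟩ : Fin Cfsg.Lie.chevF4.rank), (⟨1, by decide⟩ : Fin Cfsg.Lie.chevF4.rank), (⟨2, by decide⟩ : Fin Cfsg.Lie.chevF4.rank), (⟨3, by decide⟩ : Fin Cfsg.Lie.chevF4.rank)]) (by decide)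
    hΦ ?_ hr2 hrΦ ?_ ?_ ?_
  · intro l hl h8 h
    obtain rfl := (Nat.prime_dvd_prime_iff_eq hl Nat.prime_two).1 (hl.dvd_of_dvd_pow (show l ∣ 2 ^ 3 from h8))
    exact (hmod q).1 (Nat.mod_eq_zero_of_dvd h)
  · exact fun h => hr2 ((Nat.prime_dvd_prime_iff_eq hr Nat.prime_two).1 (hr.dvd_of_dvd_pow (show r ∣ 2 ^ 3 from h)))
  · rw [CfsgLib.Chev.wsum_F4 hc, show CfsgLib.Chev.polyEval [1, 1, 1, 1, 2, 2, 2, 2, 2, 2, 2, 2, 1, 1, 1, 1] 1 *
      CfsgLib.Chev.polyEval [1, 1, 1, 2, 1, 1, 1] 1 * CfsgLib.Chev.polyEval [1, 1, 1] 1 * CfsgLib.Chev.polyEval [1, 1] 1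
      = 2 ^ 7 * 3 ^ 2 by decide +kernel]
    intro h
    rcases hr.dvd_mul.1 h with h | h
    · exact hr2 ((Nat.prime_dvd_prime_iff_eq hr Nat.prime_two).1 (hr.dvd_of_dvd_pow h))
    · have := (Nat.prime_dvd_prime_iff_eq hr Nat.prime_three).1 (hr.dvd_of_dvd_pow h)
      subst this
      exact (hmod q).2 (Nat.mod_eq_zero_of_dvd hrΦ)
  · rw [CfsgLib.Chev.card_group_F4 hF]
    refine dvd_mul_of_dvd_left (dvd_mul_of_dvd_right (hrΦ.trans ?_) _) _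
    refine ⟨q ^ 4 - 1, ?_⟩
    rw [← Nat.sq_sub_sq (q ^ 4) 1, one_pow, ← pow_mul]

end Cfsg.Agent.S2372
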