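import Cfsg.Statements.S2375
import Cfsg.Agent.Lib.ChevCent.EllipticTorus
import Cfsg.Agent.Lib.Chev.OrderCases

set_option autoImplicit false
open Cfsg

namespace Cfsg.Agent.S2375

/-- The group E₈(q) contains a cyclic subgroup of order q⁸ + q⁷ − q⁵ − q⁴ − q³ + q + 1 which is its own centralizer. -/
theorem result {F : Type*} [Field F] [Fintype F] (q : ℕ) (hF : Fintype.card F = q) :
    ∃ H : Subgroup ↥(Cfsg.Lie.chevE8.group F), IsCyclic ↥H ∧ Nat.card ↥H = q ^ 8 + q ^ 7 - q ^ 5 - q ^ 4 - q ^ 3 + q + 1 ∧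
      Subgroup.centralizer (H : Set ↥(Cfsg.Lie.chevE8.group F)) = H := by
  classical
  obtain ⟨T, hc, hcomm⟩ := CfsgLib.Chev.exists_checked' (D := Cfsg.Lie.chevE8) (by simp)
  have hq2 : 2 ≤ q := hF ▸ Fintype.one_lt_card
  set N := q ^ 8 + q ^ 7 - q ^ 5 - q ^ 4 - q ^ 3 + q + 1 with hN
  have h1 : q ^ 5 + q ^ 4 + q ^ 3 ≤ q ^ 8 := by
    have e1 : 2 * 2 * 2 ≤ q * q * q := Nat.mul_le_mul (Nat.mul_le_mul hq2 hq2) hq2
    have e2 : q ^ 4 ≤ q ^ 5 := Nat.pow_le_pow_right (by omega) (by norm_num)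
    have e3 : q ^ 3 ≤ q ^ 5 := Nat.pow_le_pow_right (by omega) (by norm_num)
    have e4 : q ^ 5 * (2 * 2 * 2) ≤ q ^ 5 * (q * q * q) := Nat.mul_le_mul_left _ e1
    have e5 : q ^ 5 * (q * q * q) = q ^ 8 := by ring
    omega
  have hNz : (N : ℤ) = (q : ℤ) ^ 8 + q ^ 7 - q ^ 5 - q ^ 4 - q ^ 3 + q + 1 := by
    rw [hN]
    push_cast [Nat.cast_sub (show q ^ 5 ≤ q ^ 8 + q ^ 7 by omega),
      Nat.cast_sub (show q ^ 4 ≤ q ^ 8 + q ^ 7 - q ^ 5 by omega),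
      Nat.cast_sub (show q ^ 3 ≤ q ^ 8 + q ^ 7 - q ^ 5 - q ^ 4 by omega)]
    ring
  have hΦ : (Polynomial.cyclotomic 30 ℤ).eval (q : ℤ) = (N : ℤ) := by
    have a1 := congrArg (Polynomial.eval ((q : ℤ) ^ 3))
      (Polynomial.cyclotomic_expand_eq_cyclotomic_mul (n := 2) Nat.prime_five (by norm_num) ℤ)
    have a2 := congrArg (Polynomial.eval (q : ℤ))
      (Polynomial.cyclotomic_expand_eq_cyclotomic_mul (n := 2) Nat.prime_five (by norm_num) ℤ)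
    have a3 := congrArg (Polynomial.eval (q : ℤ))
      (Polynomial.cyclotomic_expand_eq_cyclotomic_mul (n := 10) Nat.prime_three (by norm_num) ℤ)
    simp only [Polynomial.expand_eval, Polynomial.eval_mul, Polynomial.cyclotomic_two, Polynomial.eval_add,
      Polynomial.eval_X, Polynomial.eval_one, show 2 * 5 = 10 from rfl, show 10 * 3 = 30 from rfl] at a1 a2 a3
    have hq0 : (0 : ℤ) < q := by exact_mod_cast (by omega : 0 < q)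
    rw [hNz]
    refine mul_right_cancel₀ (b := ((q : ℤ) ^ 5 + 1) * (q ^ 3 + 1)) (by positivity) ?_
    linear_combination ((Polynomial.cyclotomic 30 ℤ).eval (q : ℤ) * ((q : ℤ) ^ 3 + 1)) * a2 +
      (-((q : ℤ) + 1) * ((q : ℤ) ^ 3 + 1)) * a3 + (-((q : ℤ) + 1)) * a1
  have hmod : ∀ p : ℕ, p = 2 ∨ p = 3 ∨ p = 5 ∨ p = 7 → ¬ p ∣ N := by
    intro p hp h
    have h0 : ((N : ℤ) : ZMod p) = 0 := by
      rw [Int.cast_natCast]; exact (ZMod.natCast_eq_zero_iff _ p).2 h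
    rw [hNz] at h0
    push_cast at h0
    rcases hp with rfl | rfl | rfl | rfl
    · exact (show ∀ x : ZMod 2, x ^ 8 + x ^ 7 - x ^ 5 - x ^ 4 - x ^ 3 + x + 1 ≠ 0 by decide) _ h0
    · exact (show ∀ x : ZMod 3, x ^ 8 + x ^ 7 - x ^ 5 - x ^ 4 - x ^ 3 + x + 1 ≠ 0 by decide) _ h0
    · exact (show ∀ x : ZMod 5, x ^ 8 + x ^ 7 - x ^ 5 - x ^ 4 - x ^ 3 + x + 1 ≠ 0 by decide) _ h0
    · exact (show ∀ x : ZMod 7, x ^ 8 + x ^ 7 - x ^ 5 - x ^ 4 - x ^ 3 + x + 1 ≠ 0 by decide) _ h0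
  obtain ⟨r, hr, hrΦ⟩ := Nat.exists_prime_and_dvd (show N ≠ 1 by
    have h3 : 2 ^ 7 ≤ q ^ 7 := Nat.pow_le_pow_left hq2 7
    omega)
  haveI := Fact.mk hr
  have h30 : ∀ l : ℕ, l.Prime → l ∣ 2 * 3 * 5 → l = 2 ∨ l = 3 ∨ l = 5 ∨ l = 7 := by
    intro l hl h
    rcases hl.dvd_mul.1 h with h | h
    · rcases hl.dvd_mul.1 h with h | h
      · exact Or.inl ((Nat.prime_dvd_prime_iff_eq hl Nat.prime_two).1 h)
      · exact Or.inr (Or.inl ((Nat.prime_dvd_prime_iff_eq hl Nat.prime_three).1 h))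
    · exact Or.inr (Or.inr (Or.inl ((Nat.prime_dvd_prime_iff_eq hl Nat.prime_five).1 h)))
  refine CfsgLib.ChevCent.cyclic_self_centralizing hc hcomm hF (d := 30) (by norm_num) (by decide) (by decide +kernel)
    (M := (![![4, 5, 7, 10, 8, 6, 4, 2], ![5, 8, 10, 15, 12, 9, 6, 3], ![7, 10, 14, 20, 16, 12, 8, 4], ![10, 15, 20, 30, 24, 18, 12, 6], ![8, 12, 16, 24, 20, 15, 10, 5], ![6, 9, 12, 18, 15, 12, 8, 4], ![4, 6, 8, 12, 10, 8, 6, 3], ![2, 3, 4, 6, 5, 4, 3, 2]] : Fin 8 → Fin 8 → ℤ)) (by unfold CfsgLib.ChevField.CartanInv; decide +kernel)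
    (J := [(⟨0, by decide⟩ : Fin Cfsg.Lie.chevE8.rank), (⟨2, by decide⟩ : Fin Cfsg.Lie.chevE8.rank), (⟨3, by decide⟩ : Fin Cfsg.Lie.chevE8.rank), (⟨1, by decide⟩ : Fin Cfsg.Lie.chevE8.rank), (⟨4, by decide⟩ : Fin Cfsg.Lie.chevE8.rank), (⟨5, by decide⟩ : Fin Cfsg.Lie.chevE8.rank), (⟨6, by decide⟩ : Fin Cfsg.Lie.chevE8.rank), (⟨7, by decide⟩ : Fin Cfsg.Lie.chevE8.rank)]) (by decide) hΦ ?_ ?_ hrΦ ?_ ?_ ?_
  · exact fun l hl h30' h => hmod l (h30 l hl h30') ((dvd_pow_self l two_ne_zero).trans h)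
  · rintro rfl; exact hmod 2 (Or.inl rfl) hrΦ
  · exact fun h => hmod r (h30 r hr h) hrΦ
  · rw [CfsgLib.Chev.wsum_E8 hc, show CfsgLib.Chev.polyEval [1, 1, 1, 1, 1, 1, 2, 2, 2, 2, 3, 3, 4, 4, 4, 4, 5, 5, 6, 6, 6, 6, 7, 7, 7, 7, 7, 7, 8, 8, 7, 7, 7, 7, 7, 7, 6, 6, 6, 6, 5, 5, 4, 4, 4, 4, 3, 3, 2, 2, 2, 2, 1, 1, 1, 1, 1, 1] 1 * CfsgLib.Chev.polyEval [1, 1, 1, 1, 1, 2, 2, 2, 2, 3, 3, 3, 3, 3, 3, 3, 3, 3, 3, 2, 2, 2, 2, 1, 1, 1, 1, 1] 1 * CfsgLib.Chev.polyEval [1, 1, 1, 1, 2, 2, 2, 2, 3, 2, 2, 2, 2, 1, 1, 1, 1] 1 * CfsgLib.Chev.polyEval [1, 1, 1, 2, 2, 2, 2, 2, 1, 1, 1] 1 * CfsgLib.Chev.polyEval [1, 1, 1, 1, 1] 1 * CfsgLib.Chev.polyEval [1, 1, 1, 1] 1 * CfsgLib.Chev.polyEval [1, 1, 1] 1 * CfsgLib.Chev.polyEval [1, 1] 1 = 2 ^ 14 * 3 ^ 5 * 5 ^ 2 * 7 by decide +kernel]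
    intro h
    refine hmod r ?_ hrΦ
    simp only [hr.dvd_mul] at h
    rcases h with ((h | h) | h) | h
    · exact Or.inl ((Nat.prime_dvd_prime_iff_eq hr Nat.prime_two).1 (hr.dvd_of_dvd_pow h))
    · exact Or.inr (Or.inl ((Nat.prime_dvd_prime_iff_eq hr Nat.prime_three).1 (hr.dvd_of_dvd_pow h)))
    · exact Or.inr (Or.inr (Or.inl ((Nat.prime_dvd_prime_iff_eq hr Nat.prime_five).1 (hr.dvd_of_dvd_pow h))))
    · exact Or.inr (Or.inr (Or.inr ((Nat.prime_dvd_prime_iff_eq hr (by norm_num)).1 h)))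
  · rw [CfsgLib.Chev.card_group_E8 hF]
    refine dvd_mul_of_dvd_right (hrΦ.trans ?_) _
    have h2 := Polynomial.eval_dvd (x := (q : ℤ)) (Polynomial.cyclotomic.dvd_X_pow_sub_one 30 ℤ)
    rw [hΦ, Polynomial.eval_sub, Polynomial.eval_pow, Polynomial.eval_X, Polynomial.eval_one,
      show (q : ℤ) ^ 30 - 1 = ((q ^ 30 - 1 : ℕ) : ℤ) by
        rw [Nat.cast_sub (Nat.one_le_pow _ _ (by omega))]; push_cast; ring] at h2
    exact_mod_cast h2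

end Cfsg.Agent.S2375
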