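import Cfsg.Statements.S2378
import Cfsg.Agent.Lib.ChevCent.SylowTorusOrder
import Cfsg.Agent.Lib.Chev.OrderCases

set_option autoImplicit false
open Cfsg

namespace Cfsg.Agent.S2378

/-- Sylow subgroups for primes away from the characteristic and the Weyl group. Let `G` be the Chevalley group of type G₂, B₂, D₄, F₄, E₆, E₇ or E₈ over a field with `q` elements, with the degrees of its Weyl group listed beside the type (their product is the order of the Weyl group), and let `r` be a prime dividing the order of `G`, not dividing `q` and not dividing the order of the Weyl group. Let `d` be the multiplicative order of `q` modulo `r`, `a` the number of degrees divisible by `d`, and `m` the `r`-part of the value at `q` of the `d`-th cyclotomic polynomial. Then every Sylow `r`-subgroup of `G` is homocyclic: a direct product of `a` cyclic groups of order `m` (in particular abelian). -/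
theorem result {F : Type*} [Field F] [Fintype F] {q : ℕ} (hq : Fintype.card F = q)
    (c : Cfsg.Lie.ChevalleyDatum × List ℕ)
    (hc : c ∈ [(Cfsg.Lie.chevG2, [2, 6]), (Cfsg.Lie.chevB2, [2, 4]), (Cfsg.Lie.chevD4, [2, 4, 4, 6]), (Cfsg.Lie.chevF4, [2, 6, 8, 12]),
      (Cfsg.Lie.chevE6, [2, 5, 6, 8, 9, 12]), (Cfsg.Lie.chevE7, [2, 6, 8, 10, 12, 14, 18]), (Cfsg.Lie.chevE8, [2, 8, 12, 14, 18, 20, 24, 30])])
    (r : ℕ) [Fact r.Prime] (hrq : ¬ r ∣ q) (hrW : ¬ r ∣ c.2.prod) (hrG : r ∣ Nat.card ↥(c.1.group F)) (P : Sylow r ↥(c.1.group F)) :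
    Nonempty (↥(P : Subgroup ↥(c.1.group F)) ≃*
      (Fin (c.2.filter (fun e => orderOf (q : ZMod r) ∣ e)).length →
        Multiplicative (ZMod (r ^ padicValNat r ((Polynomial.cyclotomic (orderOf (q : ZMod r)) ℤ).eval (q : ℤ)).natAbs)))) := by
  simp only [List.mem_cons, List.not_mem_nil, or_false] at hc
  rcases hc with rfl | rfl | rfl | rfl | rfl | rfl | rfl
  · obtain ⟨T, hT, hcomm⟩ := CfsgLib.Chev.exists_checked' (D := Cfsg.Lie.chevG2) (by simp)
    exact CfsgLib.ChevCent.sylow_homocyclic hT hcomm hq hrq hrW (by decide)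
      (N := (![![2, 3], ![1, 2]] : Fin 2 → Fin 2 → ℤ)) (dd := 1) (by decide +kernel) (by decide) (J := [(⟨0, by decide⟩ : Fin Cfsg.Lie.chevG2.rank), (⟨1, by decide⟩ : Fin Cfsg.Lie.chevG2.rank)]) (by decide)
      (by rw [CfsgLib.Chev.wsum_G2 hT]; decide +kernel) (c := 1) (M := 6) (Fact.out : r.Prime).not_dvd_one
      (by rw [one_mul, CfsgLib.Chev.card_group_G2 hq]; simp only [List.map_cons, List.map_nil, List.prod_cons, List.prod_nil]; ring) P
  · obtain ⟨T, hT, hcomm⟩ := CfsgLib.Chev.exists_checked' (D := Cfsg.Lie.chevB2) (by simp)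
    exact CfsgLib.ChevCent.sylow_homocyclic hT hcomm hq hrq hrW (by decide)
      (N := (![![2, 2], ![1, 2]] : Fin 2 → Fin 2 → ℤ)) (dd := 2) (by decide +kernel) (by decide) (J := [(⟨0, by decide⟩ : Fin Cfsg.Lie.chevB2.rank), (⟨1, by decide⟩ : Fin Cfsg.Lie.chevB2.rank)]) (by decide)
      (by rw [CfsgLib.Chev.wsum_B2 hT]; decide +kernel) (c := Nat.gcd 2 (q - 1)) (M := 4) (fun h => hrW ((h.trans (Nat.gcd_dvd_left _ _)).trans (by decide)))
      (by rw [CfsgLib.Chev.card_group_B2 hq]; simp only [List.map_cons, List.map_nil, List.prod_cons, List.prod_nil]; ring) P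
  · obtain ⟨T, hT, hcomm⟩ := CfsgLib.Chev.exists_checked' (D := Cfsg.Lie.chevD4) (by simp)
    exact CfsgLib.ChevCent.sylow_homocyclic hT hcomm hq hrq hrW (by decide)
      (N := (![![2, 2, 1, 1], ![2, 4, 2, 2], ![1, 2, 2, 1], ![1, 2, 1, 2]] : Fin 4 → Fin 4 → ℤ)) (dd := 2) (by decide +kernel) (by decide) (J := [(⟨0, by decide⟩ : Fin Cfsg.Lie.chevD4.rank), (⟨1, by decide⟩ : Fin Cfsg.Lie.chevD4.rank), (⟨2, by decide⟩ : Fin Cfsg.Lie.chevD4.rank), (⟨3, by decide⟩ : Fin Cfsg.Lie.chevD4.rank)]) (by decide)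
      (by rw [CfsgLib.Chev.wsum_D4 hT]; decide +kernel) (c := Nat.gcd 2 (q - 1) ^ 2) (M := 12) (fun h => hrW ((((Fact.out : r.Prime).dvd_of_dvd_pow h).trans (Nat.gcd_dvd_left _ _)).trans (by decide)))
      (by rw [CfsgLib.Chev.card_group_D4 hq]; simp only [List.map_cons, List.map_nil, List.prod_cons, List.prod_nil]; ring) P
  · obtain ⟨T, hT, hcomm⟩ := CfsgLib.Chev.exists_checked' (D := Cfsg.Lie.chevF4) (by simp)
    exact CfsgLib.ChevCent.sylow_homocyclic hT hcomm hq hrq hrW (by decide)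
      (N := (![![2, 3, 4, 2], ![3, 6, 8, 4], ![2, 4, 6, 3], ![1, 2, 3, 2]] : Fin 4 → Fin 4 → ℤ)) (dd := 1) (by decide +kernel) (by decide) (J := [(⟨0, by decide⟩ : Fin Cfsg.Lie.chevF4.rank), (⟨1, by decide⟩ : Fin Cfsg.Lie.chevF4.rank), (⟨2, by decide⟩ : Fin Cfsg.Lie.chevF4.rank), (⟨3, by decide⟩ : Fin Cfsg.Lie.chevF4.rank)]) (by decide)
      (by rw [CfsgLib.Chev.wsum_F4 hT]; decide +kernel) (c := 1) (M := 24) (Fact.out : r.Prime).not_dvd_one
      (by rw [one_mul, CfsgLib.Chev.card_group_F4 hq]; simp only [List.map_cons, List.map_nil, List.prod_cons, List.prod_nil]; ring) P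
  · obtain ⟨T, hT, hcomm⟩ := CfsgLib.Chev.exists_checked' (D := Cfsg.Lie.chevE6) (by simp)
    exact CfsgLib.ChevCent.sylow_homocyclic hT hcomm hq hrq hrW (by decide)
      (N := (![![4, 3, 5, 6, 4, 2], ![3, 6, 6, 9, 6, 3], ![5, 6, 10, 12, 8, 4], ![6, 9, 12, 18, 12, 6], ![4, 6, 8, 12, 10, 5], ![2, 3, 4, 6, 5, 4]] : Fin 6 → Fin 6 → ℤ)) (dd := 3) (by decide +kernel) (by decide) (J := [(⟨0, by decide⟩ : Fin Cfsg.Lie.chevE6.rank), (⟨2, by decide⟩ : Fin Cfsg.Lie.chevE6.rank), (⟨3, by decide⟩ : Fin Cfsg.Lie.chevE6.rank), (⟨1, by decide⟩ : Fin Cfsg.Lie.chevE6.rank), (⟨4, by decide⟩ : Fin Cfsg.Lie.chevE6.rank), (⟨5, by decide⟩ : Fin Cfsg.Lie.chevE6.rank)]) (by decide)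
      (by rw [CfsgLib.Chev.wsum_E6 hT]; decide +kernel) (c := Nat.gcd 3 (q - 1)) (M := 36) (fun h => hrW ((h.trans (Nat.gcd_dvd_left _ _)).trans (by decide)))
      (by rw [CfsgLib.Chev.card_group_E6 hq]; simp only [List.map_cons, List.map_nil, List.prod_cons, List.prod_nil]; ring) P
  · obtain ⟨T, hT, hcomm⟩ := CfsgLib.Chev.exists_checked' (D := Cfsg.Lie.chevE7) (by simp)
    exact CfsgLib.ChevCent.sylow_homocyclic hT hcomm hq hrq hrW (by decide)
      (N := (![![4, 4, 6, 8, 6, 4, 2], ![4, 7, 8, 12, 9, 6, 3], ![6, 8, 12, 16, 12, 8, 4], ![8, 12, 16, 24, 18, 12, 6], ![6, 9, 12, 18, 15, 10, 5], ![4, 6, 8, 12, 10, 8, 4], ![2, 3, 4, 6, 5, 4, 3]] : Fin 7 → Fin 7 → ℤ)) (dd := 2) (by decide +kernel) (by decide) (J := [(⟨0, by decide⟩ : Fin Cfsg.Lie.chevE7.rank), (⟨2, by decide⟩ : Fin Cfsg.Lie.chevE7.rank), (⟨3, by decide⟩ : Fin Cfsg.Lie.chevE7.rank), (⟨1, by decide⟩ : Fin Cfsg.Lie.chevE7.rank), (⟨4, by decide⟩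 : Fin Cfsg.Lie.chevE7.rank), (⟨5, by decide⟩ : Fin Cfsg.Lie.chevE7.rank), (⟨6, by decide⟩ : Fin Cfsg.Lie.chevE7.rank)]) (by decide)
      (by rw [CfsgLib.Chev.wsum_E7 hT]; decide +kernel) (c := Nat.gcd 2 (q - 1)) (M := 63) (fun h => hrW ((h.trans (Nat.gcd_dvd_left _ _)).trans (by decide)))
      (by rw [CfsgLib.Chev.card_group_E7 hq]; simp only [List.map_cons, List.map_nil, List.prod_cons, List.prod_nil]; ring) P
  · obtain ⟨T, hT, hcomm⟩ := CfsgLib.Chev.exists_checked' (D := Cfsg.Lie.chevE8) (by simp)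
    exact CfsgLib.ChevCent.sylow_homocyclic hT hcomm hq hrq hrW (by decide)
      (N := (![![4, 5, 7, 10, 8, 6, 4, 2], ![5, 8, 10, 15, 12, 9, 6, 3], ![7, 10, 14, 20, 16, 12, 8, 4], ![10, 15, 20, 30, 24, 18, 12, 6], ![8, 12, 16, 24, 20, 15, 10, 5], ![6, 9, 12, 18, 15, 12, 8, 4], ![4, 6, 8, 12, 10, 8, 6, 3], ![2, 3, 4, 6, 5, 4, 3, 2]] : Fin 8 → Fin 8 → ℤ)) (dd := 1) (by decide +kernel) (by decide) (J := [(⟨0, by decide⟩ : Fin Cfsg.Lie.chevE8.rank), (⟨2, by decide⟩ : Fin Cfsg.Lie.chevE8.rank), (⟨3, by decide⟩ : Fin Cfsg.Lie.chevE8.rank), (⟨1, by decide⟩ : Fin Cfsg.Lie.chevE8.rank), (⟨4, by decide⟩ : Fin Cfsg.Lie.chevE8.rank), (⟨5, by decide⟩ : Fin Cfsg.Lie.chevE8.rank), (⟨6, by decide⟩ : Fin Cfsg.Lie.chevE8.rank), (⟨7, by decide⟩ : Fin Cfsg.Lie.chevE8.rank)]) (by decide)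
      (by rw [CfsgLib.Chev.wsum_E8 hT]; decide +kernel) (c := 1) (M := 120) (Fact.out : r.Prime).not_dvd_one
      (by rw [one_mul, CfsgLib.Chev.card_group_E8 hq]; simp only [List.map_cons, List.map_nil, List.prod_cons, List.prod_nil]; ring) P

end Cfsg.Agent.S2378
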