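import Cfsg.Statements.S2589
import Cfsg.Agent.Lib.SympGeom.Basic
import Cfsg.Agent.Lib.FormsConj.Eigen

set_option autoImplicit false
open Cfsg Matrix

namespace Cfsg.Agent.S2589

/-- Two semisimple elements of the finite symplectic group Sp_2m(F) (elements of order prime to the characteristic) are conjugate in Sp_2m(F) if and only if they are conjugate in GL_2m(F). -/
theorem result {F : Type*} [Field F] [Fintype F] {p : ℕ} [Fact p.Prime] [CharP F p] {m : ℕ} (A B : Matrix.symplecticGroup (Fin m) F) (hA : (orderOf A).Coprime p) : IsConj A B ↔ IsConj (A : Matrix (Fin m ⊕ Fin m) (Fin m ⊕ Fin m) F) (B : Matrix (Fin m ⊕ Fin m) (Fin m ⊕ Fin m) F) := by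
  refine ⟨fun h => MonoidHom.map_isConj (Submonoid.subtype _) h, ?_⟩
  rintro ⟨c, hc⟩
  have hca : c.1 * A.1 = B.1 * c.1 := hc
  have hN : ((orderOf A : ℕ) : F) ≠ 0 := by
    rw [Ne, CharP.cast_eq_zero_iff F p]
    exact fun hd => (Fact.out : p.Prime).ne_one (Nat.Coprime.eq_one_of_dvd hA.symm hd)
  let V := Fin m ⊕ Fin m → F
  let a : Module.End F V := Matrix.toLinAlgEquiv' A.1
  have ha : a ^ orderOf A = 1 := by
    rw [← map_pow, ← SubmonoidClass.coe_pow, pow_orderOf_eq_one, OneMemClass.coe_one, map_one]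
  let g : V ≃ₗ[F] V := LinearMap.GeneralLinearGroup.toLinearEquiv (Units.map Matrix.toLinAlgEquiv'.toMonoidHom c)
  have hg : ∀ v, g v = c.1 *ᵥ v := fun v => rfl
  let S := CfsgLib.SympGeom.sympBilin m F
  have hS : ∀ (M : Matrix.symplecticGroup (Fin m) F) u v, S (M.1 *ᵥ u) (M.1 *ᵥ v) = S u v := fun M u v =>
    CfsgLib.Linear.Symp.form_mulVec M.2 u v
  have hga : ∀ v, g (a v) = B.1 *ᵥ g v := fun v => by
    rw [hg, hg, Matrix.mulVec_mulVec, ← hca, ← Matrix.mulVec_mulVec]; rfl
  obtain ⟨x, hxa, hx⟩ := CfsgLib.FormsConj.sameOrbit_alt a hN ha S (S.compl₁₂ g.toLinearMap g.toLinearMap)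
    CfsgLib.SympGeom.sympBilin_nondeg
    ⟨fun u hu => by
      refine g.injective ((CfsgLib.SympGeom.sympBilin_nondeg.1 _ fun y => ?_).trans (map_zero g).symm)
      obtain ⟨v, rfl⟩ := g.surjective y
      exact hu v,
    fun v hv => by
      refine g.injective ((CfsgLib.SympGeom.sympBilin_nondeg.2 _ fun y => ?_).trans (map_zero g).symm)
      obtain ⟨u, rfl⟩ := g.surjective y
      exact hv u⟩
    CfsgLib.SympGeom.sympBilin_alt (fun v => CfsgLib.SympGeom.sympBilin_alt (g v))
    (hS A) (fun u v => by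
      show S (g (a u)) (g (a v)) = S (g u) (g v)
      rw [hga, hga, hS])
  obtain ⟨M, hM⟩ := CfsgLib.SympGeom.exists_of_linearEquiv (x.symm.trans g) fun u v => by
    obtain ⟨u, rfl⟩ := x.surjective u
    obtain ⟨v, rfl⟩ := x.surjective v
    rw [LinearEquiv.trans_apply, LinearEquiv.trans_apply, LinearEquiv.symm_apply_apply,
      LinearEquiv.symm_apply_apply]
    exact (hx u v).symm
  refine isConj_iff.mpr ⟨M, ?_⟩
  rw [mul_inv_eq_iff_eq_mul]
  refine Subtype.ext (Matrix.toLin'.injective (LinearMap.ext fun v => ?_))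
  obtain ⟨v, rfl⟩ := x.surjective v
  simp only [Submonoid.coe_mul, Matrix.toLin'_apply, ← Matrix.mulVec_mulVec, hM]
  rw [show A.1 *ᵥ x v = x (a v) from (hxa v).symm, LinearEquiv.trans_apply, LinearEquiv.trans_apply,
    LinearEquiv.symm_apply_apply, LinearEquiv.symm_apply_apply, hga]

end Cfsg.Agent.S2589
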