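import Cfsg.Statements.S2389
import Cfsg.Agent.S2589
import Cfsg.Agent.Lib.Semisimple.GL

set_option autoImplicit false
open Cfsg

namespace Cfsg.Agent.S2389

/-- In the symplectic group `Sp_{2n}(q)`, `q` a power of the prime `p`, two elements of order prime to `p` with the same characteristic polynomial are conjugate in `Sp_{2n}(q)`. -/
theorem result {F : Type*} [Field F] [Fintype F] (p : ℕ) [Fact p.Prime] [CharP F p] (n : ℕ)
    (g h : ↥(Matrix.symplecticGroup (Fin n) F)) (hg : (orderOf g).Coprime p) (hh : (orderOf h).Coprime p)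
    (hc : (g : Matrix (Fin n ⊕ Fin n) (Fin n ⊕ Fin n) F).charpoly = (h : Matrix (Fin n ⊕ Fin n) (Fin n ⊕ Fin n) F).charpoly) :
    IsConj g h := by
  let ι := Fin n ⊕ Fin n
  refine (Cfsg.Agent.S2589.result g h hg).2 ?_
  have key : ∀ x : Matrix.symplecticGroup (Fin n) F, ∃ u : GL ι F, (u : Matrix ι ι F) = x.1 ∧ orderOf u = orderOf x := by
    intro x
    let f := MonoidHom.toHomUnits (Submonoid.subtype (Matrix.symplecticGroup (Fin n) F))
    exact ⟨f x, rfl, orderOf_injective f (fun a b hab => Subtype.ext (congrArg Units.val hab)) x⟩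
  obtain ⟨u, hu, hou⟩ := key g
  obtain ⟨v, hv, hov⟩ := key h
  have := CfsgLib.Semisimple.isConj_of_charpoly_eq p u v (hou ▸ hg) (hov ▸ hh) (by rw [hu, hv]; exact hc)
  rw [← hu, ← hv]
  exact MonoidHom.map_isConj (Units.coeHom (Matrix ι ι F)) this

end Cfsg.Agent.S2389
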