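import Cfsg.Statements.S2390
import Cfsg.Agent.Lib.Semisimple.Unitary

set_option autoImplicit false
open Cfsg

namespace Cfsg.Agent.S2390

/-- In the special unitary group `SU_n(q)` (inside `SL_n` over the field with `q²` elements), `q` a power of the prime `p`, two elements of order prime to `p` with the same characteristic polynomial are conjugate in `SU_n(q)`. -/
theorem result {F : Type*} [Field F] [Fintype F] {q : ℕ} (hF : Fintype.card F = q ^ 2) (p : ℕ) [Fact p.Prime] [CharP F p] (n : ℕ)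
    (g h : ↥(Cfsg.SU n F q)) (hg : (orderOf g).Coprime p) (hh : (orderOf h).Coprime p)
    (hc : ((g : Matrix.SpecialLinearGroup (Fin n) F) : Matrix (Fin n) (Fin n) F).charpoly =
      ((h : Matrix.SpecialLinearGroup (Fin n) F) : Matrix (Fin n) (Fin n) F).charpoly) : IsConj g h := by
  rcases n.eq_zero_or_pos with rfl | hn
  · have : g = h := Subtype.ext (Matrix.SpecialLinearGroup.ext _ _ fun i => i.elim0)
    rw [this]
  obtain ⟨φ, hφq, hφ, hw⟩ := CfsgLib.Conj.exists_frob hF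
  let f : ↥(Cfsg.SU n F q) →* GL (Fin n) F :=
    Matrix.SpecialLinearGroup.toGL.comp (Cfsg.SU n F q).subtype
  have hf : Function.Injective f := Matrix.SpecialLinearGroup.toGL_injective.comp Subtype.val_injective
  have hmem : ∀ x : ↥(Cfsg.SU n F q),
      CfsgLib.Conj.conjT φ (f x : Matrix (Fin n) (Fin n) F) * (f x : Matrix (Fin n) (Fin n) F) = 1 :=
    fun x => (CfsgLib.Conj.mem_GU_iff φ hφq hφ (f x)).1 x.2
  obtain ⟨c, hc'⟩ := isConj_iff.1 (CfsgLib.Semisimple.isConj_of_charpoly_eq p (f g) (f h)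
    (by rwa [orderOf_injective f hf]) (by rwa [orderOf_injective f hf]) hc)
  obtain ⟨k, hk1, hk2⟩ := CfsgLib.Conj.exists_unitary_conj φ hφ hw (f g) (f h) c (hmem g) (hmem h)
    (by rw [← hc']; group)
  have hkd : φ (k : Matrix (Fin n) (Fin n) F).det * (k : Matrix (Fin n) (Fin n) F).det = 1 := by
    rw [← CfsgLib.Semisimple.Unitary.det_ct, ← Matrix.det_mul]
    exact (congrArg Matrix.det hk1).trans Matrix.det_one
  set d := (k : Matrix (Fin n) (Fin n) F).det with hd
  obtain ⟨u, hu1, hu2, hu3⟩ := CfsgLib.Semisimple.Unitary.exists_commute_det φ p hφ hw hn (f g)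
    (by rwa [orderOf_injective f hf]) (hmem g) d⁻¹ (by
      rw [map_inv₀, ← mul_inv, mul_comm, hkd, inv_one])
  have hdet : ((k : Matrix (Fin n) (Fin n) F) * u).det = 1 := by
    rw [Matrix.det_mul, hu3, ← hd, mul_inv_cancel₀ (right_ne_zero_of_mul_eq_one hkd)]
  have hU : CfsgLib.Conj.conjT φ ((k : Matrix (Fin n) (Fin n) F) * u) * ((k : Matrix (Fin n) (Fin n) F) * u) = 1 := by
    rw [CfsgLib.Conj.conjT_mul, mul_assoc, ← mul_assoc (CfsgLib.Conj.conjT φ (k : Matrix (Fin n) (Fin n) F)), hk1,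
      one_mul]
    exact hu1
  let x : Matrix.SpecialLinearGroup (Fin n) F := ⟨(k : Matrix (Fin n) (Fin n) F) * u, hdet⟩
  have hx : x ∈ Cfsg.SU n F q :=
    (CfsgLib.Conj.mem_GU_iff φ hφq hφ (Matrix.SpecialLinearGroup.toGL x)).2 hU
  refine isConj_iff.2 ⟨⟨x, hx⟩, mul_inv_eq_iff_eq_mul.2 (hf (Units.ext ?_))⟩
  show (k : Matrix (Fin n) (Fin n) F) * u * (f g : Matrix (Fin n) (Fin n) F) =
    (f h : Matrix (Fin n) (Fin n) F) * ((k : Matrix (Fin n) (Fin n) F) * u)
  rw [mul_assoc, hu2, ← mul_assoc, ← mul_assoc]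
  congr 1
  exact congrArg Units.val hk2

end Cfsg.Agent.S2390
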