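import Cfsg.Statements.S2391
import Mathlib

set_option autoImplicit false
open Cfsg

namespace Cfsg.Agent.S2391

open Matrix

theorem main {F : Type*} [Field F] [Fintype F] (p : ℕ) [Fact p.Prime] [CharP F p] (n : ℕ)
    (U : Subgroup (Matrix.SpecialLinearGroup (Fin n) F)) (hU : IsPGroup p ↥U) (hne : U ≠ ⊥) :
    ∃ (k : ℕ) (V : Fin (k + 2) → Submodule F (Fin n → F)), 1 ≤ k ∧ StrictMono V ∧ V 0 = ⊥ ∧ V (Fin.last (k + 1)) = ⊤ ∧
      (∀ g ∈ Subgroup.normalizer (U : Set (Matrix.SpecialLinearGroup (Fin n) F)), ∀ i, (V i).map (Matrix.mulVecLin (g : Matrix (Fin n) (Fin n) F)) = V i) ∧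
      (∀ u ∈ U, ∀ i : Fin (k + 1), ∀ v ∈ V i.succ, (u : Matrix (Fin n) (Fin n) F).mulVec v - v ∈ V (Fin.castSucc i)) := by
  classical
  let step : Submodule F (Fin n → F) → Submodule F (Fin n → F) := fun W =>
    ⨅ u : U, W.comap (Matrix.mulVecLin
      ((u : Matrix.SpecialLinearGroup (Fin n) F) : Matrix (Fin n) (Fin n) F) - LinearMap.id)
  have hstep : ∀ W v, v ∈ step W ↔
      ∀ u ∈ U, (u : Matrix (Fin n) (Fin n) F) *ᵥ v - v ∈ W := by
    intro W v
    simp [step, Submodule.mem_iInf]
  let W : ℕ → Submodule F (Fin n → F) := fun j => step^[j] ⊥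
  have hWs : ∀ j, W (j + 1) = step (W j) := fun j => Function.iterate_succ_apply' step j ⊥
  have hmem : ∀ j v, v ∈ W j → ∀ u ∈ U, (u : Matrix (Fin n) (Fin n) F) *ᵥ v - v ∈ W j := by
    intro j
    induction j with
    | zero =>
      intro v hv u _
      have hv0 : v = 0 := by simpa [W] using hv
      simp [hv0]
    | succ j ih =>
      intro v hv u hu
      rw [hWs, hstep] at hv ⊢
      intro u' hu'
      exact ih _ (hv u hu) u' hu'
  have hle : ∀ j, W j ≤ W (j + 1) := fun j v hv => by
    rw [hWs, hstep]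
    exact hmem j v hv
  have hinv : ∀ j, ∀ g ∈ Subgroup.normalizer (U : Set (Matrix.SpecialLinearGroup (Fin n) F)),
      ∀ v ∈ W j, (g : Matrix (Fin n) (Fin n) F) *ᵥ v ∈ W j := by
    intro j
    induction j with
    | zero =>
      intro g _ v hv
      have hv0 : v = 0 := by simpa [W] using hv
      simp [hv0, W]
    | succ j ih =>
      intro g hg v hv
      rw [hWs, hstep] at hv ⊢
      intro u hu
      have hu' : g⁻¹ * u * g ∈ U := (Subgroup.mem_normalizer_iff''.1 hg u).1 hu
      have h := ih g hg _ (hv _ hu')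
      rw [mulVec_sub, mulVec_mulVec] at h
      erw [← Matrix.SpecialLinearGroup.coe_mul, show g * (g⁻¹ * u * g) = u * g by group,
        Matrix.SpecialLinearGroup.coe_mul, ← mulVec_mulVec] at h
      exact h
  have hgrow : ∀ j, W j ≠ ⊤ → W j < W (j + 1) := by
    intro j hj
    refine lt_of_le_of_ne (hle j) fun heq => ?_
    have hcard : p ∣ Nat.card ((Fin n → F) ⧸ W j) := by
      have : Nontrivial ((Fin n → F) ⧸ W j) := Submodule.Quotient.nontrivial_iff.2 hj
      rw [Module.natCard_eq_pow_finrank (K := F), Nat.card_eq_fintype_card]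
      obtain ⟨c, hc, hFc⟩ := FiniteField.card F p
      rw [hFc, ← pow_mul]
      exact dvd_pow_self p (Nat.mul_ne_zero c.pos.ne' Module.finrank_pos.ne')
    have hcomap : ∀ u : U, W j ≤ (W j).comap (mulVecLin
        ((u : Matrix.SpecialLinearGroup (Fin n) F) : Matrix (Fin n) (Fin n) F)) := by
      intro u v hv
      have h := add_mem (hmem j v hv u u.2) hv
      rwa [sub_add_cancel] at h
    let act : MulAction U ((Fin n → F) ⧸ W j) :=
      { smul := fun u x => (W j).mapQ (W j) _ (hcomap u) x
        one_smul := fun x => by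
          obtain ⟨v, rfl⟩ := Submodule.Quotient.mk_surjective _ x
          show Submodule.Quotient.mk _ = Submodule.Quotient.mk _
          simp
        mul_smul := fun a b x => by
          obtain ⟨v, rfl⟩ := Submodule.Quotient.mk_surjective _ x
          show Submodule.Quotient.mk _ = Submodule.Quotient.mk _
          simp [mulVec_mulVec] }
    have hfix0 : (0 : (Fin n → F) ⧸ W j) ∈ MulAction.fixedPoints U ((Fin n → F) ⧸ W j) :=
      fun u => map_zero ((W j).mapQ (W j) _ (hcomap u))
    obtain ⟨x, hx, hx0⟩ := hU.exists_fixed_point_of_prime_dvd_card_of_fixed_point _ hcard hfix0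
    obtain ⟨v, rfl⟩ := Submodule.Quotient.mk_surjective _ x
    apply hx0
    symm
    rw [Submodule.Quotient.mk_eq_zero, heq, hWs, hstep]
    intro u hu
    exact (Submodule.Quotient.eq _).1 (hx ⟨u, hu⟩)
  have hex : ∃ j, W j = ⊤ := by
    by_contra h
    push Not at h
    have hj : ∀ j, j ≤ Module.finrank F (W j) := by
      intro j
      induction j with
      | zero => exact Nat.zero_le _
      | succ j ih =>
        have := Submodule.finrank_lt_finrank_of_lt (hgrow j (h j))
        omega
    have := (hj (n + 1)).trans (Submodule.finrank_le _)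
    rw [Module.finrank_fin_fun] at this
    omega
  obtain ⟨N, hN, hmin⟩ : ∃ N, W N = ⊤ ∧ ∀ j < N, W j ≠ ⊤ :=
    ⟨Nat.find hex, Nat.find_spec hex, fun j hj => Nat.find_min hex hj⟩
  have hN2 : 2 ≤ N := by
    by_contra hlt
    have htop : W 1 = ⊤ := by
      interval_cases N
      · exact top_le_iff.1 (hN ▸ hle 0)
      · exact hN
    apply hne
    rw [Subgroup.eq_bot_iff_forall]
    intro u hu
    apply Subtype.ext
    refine Matrix.ext_of_mulVec_single fun i => ?_
    have h : (Pi.single i 1 : Fin n → F) ∈ W 1 := htop ▸ Submodule.mem_top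
    rw [hWs, hstep] at h
    have h2 := h u hu
    rw [Matrix.SpecialLinearGroup.coe_one, one_mulVec]
    exact sub_eq_zero.1 (by simpa [W] using h2)
  obtain ⟨k, rfl⟩ : ∃ k, N = k + 2 := ⟨N - 2, by omega⟩
  refine ⟨k + 1, fun i => W i, by omega, ?_, by simp [W], by simpa using hN, ?_, ?_⟩
  · refine Fin.strictMono_iff_lt_succ.2 fun i => ?_
    simpa using hgrow i (hmin i (by omega))
  · intro g hg i
    have hfwd : ∀ h ∈ Subgroup.normalizer (U : Set (Matrix.SpecialLinearGroup (Fin n) F)),
        ∀ v ∈ W i, (h : Matrix (Fin n) (Fin n) F) *ᵥ v ∈ W i := hinv i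
    refine le_antisymm (Submodule.map_le_iff_le_comap.2 (hfwd g hg)) fun v hv =>
      ⟨_, hfwd g⁻¹ (inv_mem hg) v hv, ?_⟩
    rw [mulVecLin_apply, mulVec_mulVec]
    erw [← Matrix.SpecialLinearGroup.coe_mul, mul_inv_cancel, Matrix.SpecialLinearGroup.coe_one, one_mulVec]
  · intro u hu i v hv
    simp only [Fin.val_succ] at hv
    rw [hWs, hstep] at hv
    exact hv u hu

/-- The Borel–Tits property of `SL_n(q)` in flag form: for a field `F` of characteristic `p` with finitely many elements and a non-trivial `p`-subgroup `U` of `SL_n(F)`, there is a flag `0 = V₀ < V₁ < ⋯ < V_{k+1} = F^n` with at least one proper non-zero member such that every element of the normaliser of `U` maps each `V_i` onto itself and every element of `U` acts trivially on each quotient `V_{i+1}/V_i` (so the normaliser lies in the parabolic subgroup of the flag and `U` in its unipotent radical). -/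
theorem result {F : Type*} [Field F] [Fintype F] (p : ℕ) [Fact p.Prime] [CharP F p] (n : ℕ)
    (U : Subgroup (Matrix.SpecialLinearGroup (Fin n) F)) (hU : IsPGroup p ↥U) (hne : U ≠ ⊥) :
    ∃ (k : ℕ) (V : Fin (k + 2) → Submodule F (Fin n → F)), 1 ≤ k ∧ StrictMono V ∧ V 0 = ⊥ ∧ V (Fin.last (k + 1)) = ⊤ ∧
      (∀ g ∈ Subgroup.normalizer (U : Set (Matrix.SpecialLinearGroup (Fin n) F)), ∀ i, (V i).map (Matrix.mulVecLin (g : Matrix (Fin n) (Fin n) F)) = V i) ∧
      (∀ u ∈ U, ∀ i : Fin (k + 1), ∀ v ∈ V i.succ, (u : Matrix (Fin n) (Fin n) F).mulVec v - v ∈ V (Fin.castSucc i)) := by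
  exact main p n U hU hne

end Cfsg.Agent.S2391
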