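import Cfsg.Statements.S2392
import Cfsg.Agent.Lib.CrossChar.Basic

set_option autoImplicit false
open scoped MatrixGroups
open Cfsg

namespace Cfsg.Agent.S2392

open Matrix CfsgLib.CrossChar

/-- Transitivity of `SL` on non-zero vectors, for vectors outside each other's line. -/
theorem exists_step {F : Type*} [Field F] {m : ℕ} {b y : Fin m → F} (hb : b ≠ 0)
    (hy : ∀ t : F, y ≠ t • b) :
    ∃ T : Matrix (Fin m) (Fin m) F, T.det = 1 ∧ T *ᵥ b = y := by
  have hnot : b ∉ Submodule.span F {y - b} := by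
    rw [Submodule.mem_span_singleton]
    rintro ⟨t, ht⟩
    rcases eq_or_ne t 0 with rfl | ht0
    · simp at ht
      exact hb ht.symm
    · refine hy ((1 + t) / t) ?_
      have h : t • y = (1 + t) • b := by
        rw [smul_sub] at ht
        rw [add_smul, one_smul]
        exact (sub_eq_iff_eq_add.1 ht)
      rw [div_eq_inv_mul, mul_smul, ← h, smul_smul, inv_mul_cancel₀ ht0, one_smul]
  obtain ⟨f, hfb, hf⟩ := Submodule.exists_le_ker_of_notMem hnot
  let r : Fin m → F := fun i => (f b)⁻¹ * f (Pi.single i 1)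
  have hr : ∀ x, r ⬝ᵥ x = (f b)⁻¹ * f x := by
    intro x
    conv_rhs => rw [← Finset.univ_sum_single x]
    rw [map_sum, Finset.mul_sum, dotProduct]
    refine Finset.sum_congr rfl fun i _ => ?_
    have : (Pi.single i (x i) : Fin m → F) = x i • Pi.single i 1 := by simp [← Pi.single_smul]
    rw [this, map_smul, smul_eq_mul]
    simp [r]
    ring
  refine ⟨1 + vecMulVec (y - b) r, ?_, ?_⟩
  · rw [Matrix.vecMulVec_eq Unit, Matrix.det_one_add_replicateCol_mul_replicateRow, hr,
      LinearMap.mem_ker.1 (hf (Submodule.mem_span_singleton_self _)), mul_zero, add_zero]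
  · rw [Matrix.add_mulVec, Matrix.one_mulVec, Matrix.vecMulVec_mulVec, hr, inv_mul_cancel₀ hfb,
      MulOpposite.op_one, one_smul, add_sub_cancel]

theorem exists_sl_map {F : Type*} [Field F] {m : ℕ} (hm : 2 ≤ m) {b y : Fin m → F} (hb : b ≠ 0)
    (hy : y ≠ 0) : ∃ T : Matrix (Fin m) (Fin m) F, T.det = 1 ∧ T *ᵥ b = y := by
  by_cases h : ∀ t : F, y ≠ t • b
  · exact exists_step hb h
  · push Not at h
    obtain ⟨t, rfl⟩ := h
    have ht : t ≠ 0 := fun h0 => hy (by simp [h0])
    obtain ⟨z, hz⟩ : ∃ z : Fin m → F, z ∉ Submodule.span F {b} := by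
      by_contra hne
      push Not at hne
      have h1 : Submodule.span F {b} = ⊤ := eq_top_iff.2 fun x _ => hne x
      have h2 := finrank_span_singleton (K := F) hb
      rw [h1, finrank_top, Module.finrank_fin_fun] at h2
      omega
    rw [Submodule.mem_span_singleton] at hz
    push Not at hz
    have hz0 : z ≠ 0 := fun h0 => hz 0 (by simp [h0])
    obtain ⟨T₁, h₁, h₁'⟩ := exists_step hb (fun s => (hz s).symm)
    obtain ⟨T₂, h₂, h₂'⟩ := exists_step (y := t • b) hz0 (fun s hs => by
      rcases eq_or_ne s 0 with rfl | hs0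
      · exact hy (by simpa using hs)
      · exact hz (s⁻¹ * t) (by rw [mul_smul, hs, inv_smul_smul₀ hs0]))
    exact ⟨T₂ * T₁, by simp [h₁, h₂], by rw [← Matrix.mulVec_mulVec, h₁', h₂']⟩

theorem addChar_sum {A L ι : Type*} [AddCommMonoid A] [CommMonoid L] (χ : AddChar A L)
    (s : Finset ι) (f : ι → A) : χ (∑ i ∈ s, f i) = ∏ i ∈ s, χ (f i) := by
  classical
  induction s using Finset.induction_on with
  | empty => simp
  | insert i s hi ih => rw [Finset.sum_insert hi, Finset.prod_insert hi, AddChar.map_add_eq_mul, ih]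

theorem linearIndependent_addChar (A L : Type*) [AddCommMonoid A] [Field L] :
    LinearIndependent L (fun χ : AddChar A L => (χ : A → L)) :=
  (linearIndependent_monoidHom (Multiplicative A) L).comp AddChar.toMonoidHomEquiv
    (Equiv.injective _)

/-- A non-trivial character of `F^m` is `x ↦ ψ (x ⬝ b)`. -/
theorem exists_rep {F L : Type*} [Field F] [Fintype F] [Field L] {m : ℕ}
    (χ : AddChar (Fin m → F) L) (hχ : χ ≠ 1) :
    ∃ (ψ : AddChar F L) (b : Fin m → F), ψ.IsPrimitive ∧ b ≠ 0 ∧ ∀ x, χ x = ψ (x ⬝ᵥ b) := by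
  classical
  let χi : Fin m → AddChar F L := fun i => χ.compAddMonoidHom (AddMonoidHom.single (fun _ => F) i)
  have hprod : ∀ x, χ x = ∏ i, χi i (x i) := by
    intro x
    conv_lhs => rw [← Finset.univ_sum_single x]
    rw [addChar_sum]
    rfl
  obtain ⟨i₀, hi₀⟩ : ∃ i, χi i ≠ 1 := by
    by_contra h
    push Not at h
    apply hχ
    ext x
    rw [hprod, AddChar.one_apply, Finset.prod_eq_one]
    intro i _
    rw [h i, AddChar.one_apply]
  have hprim := AddChar.IsPrimitive.of_ne_one hi₀
  have hinj : Function.Injective (fun c : F => (χi i₀).mulShift c) :=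
    AddChar.to_mulShift_inj_of_isPrimitive hprim
  have hfin : Finite (AddChar F L) := (linearIndependent_addChar F L).finite
  have : Fintype (AddChar F L) := Fintype.ofFinite _
  have hle : Fintype.card (AddChar F L) ≤ Fintype.card F := by
    simpa using (linearIndependent_addChar F L).fintype_card_le_finrank
  have hsurj : Function.Surjective (fun c : F => (χi i₀).mulShift c) :=
    ((Fintype.bijective_iff_injective_and_card _).2
      ⟨hinj, le_antisymm (Fintype.card_le_of_injective _ hinj) hle⟩).2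
  choose b hb using fun i => hsurj (χi i)
  refine ⟨χi i₀, b, hprim, fun h0 => ?_, fun x => ?_⟩
  · apply hi₀
    rw [← hb i₀, h0]
    simp [AddChar.mulShift_zero]
  · rw [hprod, dotProduct, addChar_sum]
    refine Finset.prod_congr rfl fun i _ => ?_
    rw [← hb i, AddChar.mulShift_apply, mul_comm]

/-- Row transvections. -/
def uHom (F : Type*) [Field F] (m : ℕ) :
    Multiplicative (Fin m → F) →* Matrix.SpecialLinearGroup (Unit ⊕ Fin m) F where
  toFun a := ⟨fromBlocks 1 (replicateRow Unit a.toAdd) 0 1, by simp⟩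
  map_one' := by
    apply Subtype.ext
    simp
  map_mul' a b := by
    apply Subtype.ext
    show fromBlocks 1 (replicateRow Unit (a * b).toAdd) 0 1 =
      fromBlocks 1 (replicateRow Unit a.toAdd) 0 1 * fromBlocks 1 (replicateRow Unit b.toAdd) 0 1
    simp [fromBlocks_multiply, add_comm]

theorem uHom_coe {F : Type*} [Field F] {m : ℕ} (a : Fin m → F) :
    ((uHom F m (Multiplicative.ofAdd a) : Matrix.SpecialLinearGroup (Unit ⊕ Fin m) F) :
      Matrix (Unit ⊕ Fin m) (Unit ⊕ Fin m) F) = fromBlocks 1 (replicateRow Unit a) 0 1 := rfl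

theorem main {F : Type*} [Field F] [Fintype F] (m : ℕ) (hm : 2 ≤ m)
    {K : Type*} [Field K] (hK : ringChar K ≠ ringChar F) {d : ℕ}
    (ρ : Matrix.SpecialLinearGroup (Unit ⊕ Fin m) F →* GL (Fin d) K)
    (hker : ρ.ker ≤ Subgroup.center (Matrix.SpecialLinearGroup (Unit ⊕ Fin m) F)) :
    Fintype.card F ^ m - 1 ≤ d := by
  classical
  let a₀ : Fin m → F := Pi.single ⟨0, by omega⟩ 1
  have hu : ρ (uHom F m (Multiplicative.ofAdd a₀)) ≠ 1 := by
    intro h
    obtain ⟨r, -, hr⟩ := Matrix.SpecialLinearGroup.mem_center_iff.1 (hker h)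
    have h12 := congrFun (congrFun hr (Sum.inl ())) (Sum.inr (⟨0, by omega⟩ : Fin m))
    simp [uHom_coe, a₀, Matrix.scalar_apply] at h12
  refine card_le_degree ρ (uHom F m) (natCast_ringChar_ne_zero F K hK) ?_ hu _ ?_
  · intro a
    funext i
    rw [Pi.smul_apply, nsmul_eq_mul, CharP.cast_eq_zero, zero_mul, Pi.zero_apply]
  intro χ hχ
  obtain ⟨ψ, b, hψ, hb, hrep⟩ := exists_rep χ (fun h => hχ (by rw [h, AddChar.one_apply]))
  let eY := Fintype.equivFin {y : Fin m → F // y ≠ 0}
  choose T hT hTb using fun l => exists_sl_map hm hb (eY.symm l).2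
  let g : Fin (Fintype.card {y : Fin m → F // y ≠ 0}) →
      Matrix.SpecialLinearGroup (Unit ⊕ Fin m) F :=
    fun l => ⟨fromBlocks 1 0 0 (T l), by simp [hT]⟩
  refine ⟨_, inferInstance, g, fun l a => a ᵥ* T l, ?_, ?_, ?_⟩
  · simp [Fintype.card_subtype_compl]
  · intro l a
    have hg : ((g l : Matrix.SpecialLinearGroup (Unit ⊕ Fin m) F) :
        Matrix (Unit ⊕ Fin m) (Unit ⊕ Fin m) F) = fromBlocks 1 0 0 (T l) := rfl
    apply Subtype.ext
    rw [Matrix.SpecialLinearGroup.coe_mul, Matrix.SpecialLinearGroup.coe_mul, uHom_coe, uHom_coe,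
      hg]
    simp [fromBlocks_multiply, ← replicateRow_vecMul]
  · intro i j hij
    apply eY.symm.injective
    apply Subtype.ext
    by_contra hne
    obtain ⟨t, ht⟩ := Function.ne_iff.1 hne
    have hz : ψ.mulShift ((eY.symm i).1 t - (eY.symm j).1 t) = 1 := by
      ext s
      have h := congrFun hij (Pi.single t s)
      simp only [hrep, ← dotProduct_mulVec, hTb, single_dotProduct] at h
      rw [AddChar.mulShift_apply, sub_mul, AddChar.map_sub_eq_div, mul_comm, h, mul_comm,
        div_self (ψ.val_isUnit _).ne_zero, AddChar.one_apply]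
    exact hψ (sub_ne_zero.2 ht) hz

/-- A lower bound for representations in cross characteristic: for `n ≥ 3` and a field `F` with `q` elements, every homomorphism from `SL_n(F)` to `GL_d(K)`, `K` a field of characteristic different from that of `F`, whose kernel is central has `d ≥ q^(n-1) - 1`. -/
theorem result {F : Type*} [Field F] [Fintype F] {q : ℕ} (hq : Fintype.card F = q) (n : ℕ) (hn : 3 ≤ n)
    {K : Type*} [Field K] (hK : ringChar K ≠ ringChar F) {d : ℕ}
    (ρ : Matrix.SpecialLinearGroup (Fin n) F →* GL (Fin d) K) (hker : ρ.ker ≤ Subgroup.center (Matrix.SpecialLinearGroup (Fin n) F)) :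
    q ^ (n - 1) - 1 ≤ d := by
  obtain ⟨m, rfl⟩ : ∃ m, n = m + 1 := ⟨n - 1, by omega⟩
  let e : (Unit ⊕ Fin m) ≃ Fin (m + 1) := Fintype.equivFinOfCardEq (by simp [add_comm])
  let φ : Matrix.SpecialLinearGroup (Unit ⊕ Fin m) F →* Matrix.SpecialLinearGroup (Fin (m + 1)) F :=
    { toFun := fun M => ⟨(M : Matrix _ _ F).submatrix e.symm e.symm, by simp⟩
      map_one' := by
        apply Subtype.ext
        simp
      map_mul' := fun M N => by
        apply Subtype.ext
        exact ((Matrix.submatrix_mul_equiv M.1 N.1 _ e.symm _).symm) }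
  subst hq
  have hφ : Function.Injective φ := fun M N h => Subtype.ext ((Matrix.reindex e e).injective
    (congrArg Subtype.val h :))
  simpa using main m (by omega) hK (ρ.comp φ) (fun x hx => by
    rw [Subgroup.mem_center_iff]
    intro y
    exact hφ (by rw [map_mul, map_mul]; exact Subgroup.mem_center_iff.1 (hker hx) (φ y)))

end Cfsg.Agent.S2392
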