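import Cfsg.Statements.S2393
import Cfsg.Agent.Lib.CrossChar.Basic
import Cfsg.Agent.Lib.GroupLaws.Embed

set_option autoImplicit false
open scoped MatrixGroups
open Cfsg

namespace Cfsg.Agent.S2393

open Matrix CfsgLib.CrossChar

/-- `e₀ aᵀ + a e₀ᵀ` -/
def symMat {F : Type*} [Field F] {k : ℕ} (a : Fin (k + 1) → F) :
    Matrix (Fin (k + 1)) (Fin (k + 1)) F :=
  vecMulVec (Pi.single 0 1) a + vecMulVec a (Pi.single 0 1)

theorem symMat_transpose {F : Type*} [Field F] {k : ℕ} (a : Fin (k + 1) → F) :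
    (symMat a)ᵀ = symMat a := by
  simp [symMat, transpose_add, transpose_vecMulVec, add_comm]

/-- The abelian unipotent subgroup. -/
def uHom (F : Type*) [Field F] (k : ℕ) :
    Multiplicative (Fin (k + 1) → F) →* Matrix.symplecticGroup (Fin (k + 1)) F where
  toFun a := ⟨Matrix.fromBlocks 1 (symMat a.toAdd) 0 1, by
    rw [SymplecticGroup.mem_iff, Matrix.J, fromBlocks_transpose, fromBlocks_multiply,
      fromBlocks_multiply]
    simp [symMat_transpose]⟩
  map_one' := by
    apply Subtype.ext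
    simp [symMat]
  map_mul' a b := by
    apply Subtype.ext
    simp only [toAdd_mul, Submonoid.coe_mul, fromBlocks_multiply, Matrix.one_mul, Matrix.mul_one,
      Matrix.zero_mul, Matrix.mul_zero, add_zero, zero_add]
    simp only [symMat, vecMulVec_add, add_vecMulVec]
    congr 1
    abel

theorem sq_classes {F : Type*} [Field F] [Fintype F] [DecidableEq F] :
    ∃ C : Finset F, (0 : F) ∉ C ∧ Fintype.card F - 1 ≤ 2 * C.card ∧
      ∀ x ∈ C, ∀ y ∈ C, x * x = y * y → x = y := by
  classical
  let S := (Finset.univ.erase (0 : F)).image (fun x => x * x)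
  have hS : ∀ s ∈ S, ∃ x : F, x ≠ 0 ∧ x * x = s := fun s hs => by
    obtain ⟨x, hx, h⟩ := Finset.mem_image.1 hs
    exact ⟨x, (Finset.mem_erase.1 hx).1, h⟩
  choose f hf0 hf using hS
  refine ⟨S.attach.image (fun s => f s.1 s.2), ?_, ?_, ?_⟩
  · intro h
    obtain ⟨s, -, h⟩ := Finset.mem_image.1 h
    exact hf0 _ _ h
  · rw [Finset.card_image_of_injective _ (fun s t h => Subtype.ext (by
      rw [← hf s.1 s.2, ← hf t.1 t.2]
      exact congrArg (fun x => x * x) h)), Finset.card_attach]
    have h := Finset.card_le_mul_card_image (f := fun x : F => x * x) (Finset.univ.erase (0 : F)) 2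
      (fun s hs => by
        obtain ⟨x, -, rfl⟩ := Finset.mem_image.1 hs
        refine (Finset.card_le_card (t := {x, -x}) fun y hy => ?_).trans Finset.card_le_two
        rcases mul_self_eq_mul_self_iff.1 (Finset.mem_filter.1 hy).2 with h | h <;> simp [h])
    simpa [S] using h
  · intro x hx y hy h
    obtain ⟨s, -, rfl⟩ := Finset.mem_image.1 hx
    obtain ⟨t, -, rfl⟩ := Finset.mem_image.1 hy
    rw [hf, hf] at h
    rw [Subtype.ext h]

theorem main {F : Type*} [Field F] [Fintype F] (hodd : Odd (Fintype.card F)) (k : ℕ)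
    {K : Type*} [Field K] (hK : ringChar K ≠ ringChar F) {d : ℕ}
    (ρ : ↥(Matrix.symplecticGroup (Fin (k + 1)) F) →* GL (Fin d) K)
    (hker : ρ.ker ≤ Subgroup.center ↥(Matrix.symplecticGroup (Fin (k + 1)) F)) :
    Fintype.card F ^ k * (Fintype.card F - 1) / 2 ≤ d := by
  classical
  have h2 : (2 : F) ≠ 0 := Ring.two_ne_zero (by
    intro hc
    have := (FiniteField.even_card_iff_char_two).1 hc
    rw [Nat.odd_iff] at hodd
    omega)
  have hu : ρ (uHom F k (Multiplicative.ofAdd (Pi.single 0 1))) ≠ 1 := by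
    intro h
    have hc := Subgroup.mem_center_iff.1 (hker h)
      ⟨Matrix.J (Fin (k + 1)) F, SymplecticGroup.J_mem _ _⟩
    have h11 := congrArg (fun x : Matrix.symplecticGroup (Fin (k + 1)) F =>
      (x : Matrix (Fin (k + 1) ⊕ Fin (k + 1)) (Fin (k + 1) ⊕ Fin (k + 1)) F) (Sum.inl 0) (Sum.inl 0)) hc
    simp [uHom, Matrix.J, fromBlocks_multiply, symMat, vecMulVec_apply] at h11
    exact h2 (by linear_combination -h11)
  refine card_le_degree ρ (uHom F k) (natCast_ringChar_ne_zero F K hK) ?_ hu _ ?_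
  · intro a
    funext i
    rw [Pi.smul_apply, nsmul_eq_mul, CharP.cast_eq_zero, zero_mul, Pi.zero_apply]
  intro χ hχ
  obtain ⟨C, hC0, hC, hCinj⟩ := sq_classes (F := F)
  let E : Type := Fin C.card × (Fin k → Fin (Fintype.card F))
  let cF : E → F := fun i => (C.equivFin.symm i.1).1
  have hcC : ∀ i, cF i ∈ C := fun i => (C.equivFin.symm i.1).2
  let rF : E → (Fin (k + 1) → F) := fun i =>
    Fin.cons (cF i - 1) (fun j => (Fintype.equivFin F).symm (i.2 j))
  have hMdet : ∀ i, (1 + vecMulVec (Pi.single 0 1) (rF i)).det ≠ 0 := by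
    intro i
    rw [Matrix.vecMulVec_eq Unit, Matrix.det_one_add_replicateCol_mul_replicateRow]
    simp [rF]
    exact fun h => hC0 (h ▸ hcC i)
  let M : E → GL (Fin (k + 1)) F := fun i => Matrix.GeneralLinearGroup.mkOfDetNeZero _ (hMdet i)
  let τ : E → (Fin (k + 1) → F) → Fin (k + 1) → F := fun i a =>
    cF i • (a + (rF i ⬝ᵥ a) • Pi.single 0 1)
  refine ⟨E, inferInstance, fun i => (CfsgLib.GroupLaws.glToSp F (k + 1) (M i))⁻¹, τ, ?_, ?_, ?_⟩
  · simp only [E, Fintype.card_prod, Fintype.card_fin, Fintype.card_fun]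
    apply Nat.div_le_of_le_mul
    calc Fintype.card F ^ k * (Fintype.card F - 1)
        ≤ Fintype.card F ^ k * (2 * C.card) := Nat.mul_le_mul_left _ hC
      _ = _ := by ring
  · intro i a
    rw [mul_inv_eq_iff_eq_mul, mul_assoc, eq_inv_mul_iff_mul_eq]
    apply Subtype.ext
    simp only [Submonoid.coe_mul, uHom, MonoidHom.coe_mk, OneHom.coe_mk, toAdd_ofAdd,
      CfsgLib.GroupLaws.glToSp, MonoidHom.codRestrict_apply, MonoidHom.comp_apply,
      Units.coeHom_apply, CfsgLib.GroupLaws.glDouble_coe, fromBlocks_multiply, Matrix.one_mul,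
      Matrix.mul_one, Matrix.zero_mul, Matrix.mul_zero, add_zero, zero_add]
    congr 1
    have hMcoe : ((M i : GL (Fin (k + 1)) F) : Matrix (Fin (k + 1)) (Fin (k + 1)) F) =
        1 + vecMulVec (Pi.single 0 1) (rF i) := rfl
    have hMe : ((M i : GL (Fin (k + 1)) F) : Matrix (Fin (k + 1)) (Fin (k + 1)) F) *ᵥ
        Pi.single 0 1 = cF i • Pi.single 0 1 := by
      rw [hMcoe]
      simp only [Matrix.add_mulVec,
        Matrix.one_mulVec, Matrix.vecMulVec_mulVec]
      simp [rF, op_smul_eq_smul, sub_smul]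
    have hMa : ((M i : GL (Fin (k + 1)) F) : Matrix (Fin (k + 1)) (Fin (k + 1)) F) *ᵥ a =
        a + (rF i ⬝ᵥ a) • Pi.single 0 1 := by
      rw [hMcoe]
      simp only [Matrix.add_mulVec,
        Matrix.one_mulVec, Matrix.vecMulVec_mulVec]
      simp [op_smul_eq_smul]
    have key : ((M i : GL (Fin (k + 1)) F) : Matrix (Fin (k + 1)) (Fin (k + 1)) F) * symMat a *
        ((M i : GL (Fin (k + 1)) F) : Matrix (Fin (k + 1)) (Fin (k + 1)) F)ᵀ = symMat (τ i a) := by
      simp only [symMat, Matrix.mul_add, Matrix.add_mul, mul_vecMulVec, vecMulVec_mul,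
        vecMul_transpose, hMe, τ, ← hMa]
      rw [smul_vecMulVec, vecMulVec_smul, smul_vecMulVec, vecMulVec_smul]
    rw [← key, Matrix.mul_assoc, ← Matrix.transpose_mul, Units.inv_mul, Matrix.transpose_one,
      Matrix.mul_one]
  · intro i j hij
    have hzero : ∀ t : F, χ (t • Pi.single 0 1) = 1 → t = 1 → False := fun t h ht => hχ (by
      simpa [ht] using h)
    have hkill : ∀ s : F, (∀ t : F, χ ((s * t) • Pi.single 0 1) = 1) → s = 0 := by
      intro s hs
      by_contra h0
      exact hzero 1 (by simpa [h0] using hs s⁻¹) rfl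
    have hτe : ∀ (l : E) (t : F),
        τ l (t • Pi.single 0 1) = (cF l * cF l * t) • Pi.single 0 1 := by
      intro l t
      have h0 : rF l 0 = cF l - 1 := rfl
      ext j
      simp [τ, Pi.single_apply, h0]
      split <;> ring
    have hc : cF i = cF j := by
      refine hCinj _ (hcC i) _ (hcC j) (sub_eq_zero.1 (hkill _ fun t => ?_))
      have h := congrFun hij (t • Pi.single 0 1)
      simp only [hτe] at h
      rw [sub_mul, sub_smul, AddChar.map_sub_eq_div, h]
      exact div_self (χ.val_isUnit _).ne_zero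
    have hd : ∀ a, (rF i - rF j) ⬝ᵥ a = 0 := by
      intro a
      have hcne : cF i ≠ 0 := fun h => hC0 (h ▸ hcC i)
      refine (mul_eq_zero.1 (hkill (cF i * ((rF i - rF j) ⬝ᵥ a)) fun t => ?_)).resolve_left hcne
      have h := congrFun hij (t • a)
      simp only [τ, ← hc] at h
      have e : (cF i * ((rF i - rF j) ⬝ᵥ a) * t) • (Pi.single 0 1 : Fin (k + 1) → F) =
          cF i • (t • a + (rF i ⬝ᵥ (t • a)) • Pi.single 0 1) -
            cF i • (t • a + (rF j ⬝ᵥ (t • a)) • Pi.single 0 1) := by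
        ext l
        simp [sub_dotProduct, dotProduct_smul]
        ring
      rw [e, AddChar.map_sub_eq_div, h]
      exact div_self (χ.val_isUnit _).ne_zero
    have hr : rF i = rF j := sub_eq_zero.1 (dotProduct_eq_zero _ hd)
    refine Prod.ext (C.equivFin.symm.injective (Subtype.ext hc)) (funext fun l => ?_)
    have h := congrFun hr l.succ
    simpa [rF] using h

/-- A lower bound for representations in cross characteristic: for `n ≥ 2` and a field `F` with `q` elements, `q` odd, every homomorphism from the symplectic group `Sp_{2n}(F)` to `GL_d(K)`, `K` a field of characteristic different from that of `F`, whose kernel is central has `d ≥ q^(n-1)(q-1)/2`. -/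
theorem result {F : Type*} [Field F] [Fintype F] {q : ℕ} (hq : Fintype.card F = q) (hodd : Odd q) (n : ℕ) (hn : 2 ≤ n)
    {K : Type*} [Field K] (hK : ringChar K ≠ ringChar F) {d : ℕ}
    (ρ : ↥(Matrix.symplecticGroup (Fin n) F) →* GL (Fin d) K) (hker : ρ.ker ≤ Subgroup.center ↥(Matrix.symplecticGroup (Fin n) F)) :
    q ^ (n - 1) * (q - 1) / 2 ≤ d := by
  obtain ⟨k, rfl⟩ : ∃ k, n = k + 1 := ⟨n - 1, by omega⟩
  subst hq
  simpa using main hodd k hK ρ hker

end Cfsg.Agent.S2393
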