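import Cfsg.Statements.S2394
import Mathlib
import Cfsg.Agent.Lib.CrossChar.Basic

set_option autoImplicit false
open scoped MatrixGroups
open Cfsg

namespace Cfsg.Agent.S2394

open Matrix CfsgLib.CrossChar

theorem two_mul_le_degree {H : Type*} [Group H] {K : Type*} [Field K] {n d : ℕ}
    (ρ : (Fin n → H) →* GL (Fin d) K) (hρ : Function.Injective ρ) (a b : H)
    (hab : b * a = a⁻¹ * b) {r : ℕ} (hr : (a ^ 2) ^ r = 1) (hrK : (r : K) ≠ 0) (ha2 : a ^ 2 ≠ 1) :
    2 * n ≤ d := by
  classical
  let ext : GL (Fin d) K →* GL (Fin d) (AlgebraicClosure K) :=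
    Matrix.GeneralLinearGroup.map (algebraMap K (AlgebraicClosure K))
  have hinj : Function.Injective ext := by
    intro u v huv
    ext i j
    exact (algebraMap K (AlgebraicClosure K)).injective
      (congrArg (fun x : GL (Fin d) (AlgebraicClosure K) =>
        (x : Matrix (Fin d) (Fin d) (AlgebraicClosure K)) i j) huv)
  have hr' : (r : AlgebraicClosure K) ≠ 0 := by
    rw [← map_natCast (algebraMap K (AlgebraicClosure K))]
    exact (_root_.map_ne_zero _).2 hrK
  let f : (Fin n → H) →* Module.End (AlgebraicClosure K) (Fin d → AlgebraicClosure K) :=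
    { toFun := fun h => Matrix.toLin' (ext (ρ h) : Matrix (Fin d) (Fin d) (AlgebraicClosure K))
      map_one' := by simp [Matrix.toLin'_one, Module.End.one_eq_id]
      map_mul' := fun x y => by simp [Matrix.toLin'_mul, Module.End.mul_eq_comp] }
  have hf : Function.Injective f := fun x y h =>
    hρ (hinj (Units.ext (Matrix.toLin'.injective h)))
  let A : Fin n → (Fin n → H) := fun i => Pi.mulSingle i a
  have hA : ∀ i j, Commute (A i) (A j) := by
    intro i j
    rcases eq_or_ne i j with rfl | hij
    · exact Commute.refl _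
    · exact Pi.mulSingle_commute (f := fun _ : Fin n => H) hij a a
  have hex : ∀ j, ∃ (v : Fin d → AlgebraicClosure K) (μ : Fin n → AlgebraicClosure K),
      v ≠ 0 ∧ (∀ i, f (A i) v = μ i • v) ∧ μ j ^ 2 ≠ 1 := by
    intro j
    obtain ⟨y, hy⟩ : ∃ y, f (A j ^ 2) y ≠ y := by
      by_contra h
      push Not at h
      refine ha2 ?_
      have h1 : f (A j ^ 2) = f 1 := by
        rw [map_one]
        exact LinearMap.ext h
      simpa [A] using congrFun (hf h1) j
    let R := LinearMap.range (f (A j ^ 2) - 1)
    have hR : R ≠ ⊥ := fun h => hy (by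
      have h2 : (f (A j ^ 2) - 1) y ∈ R := LinearMap.mem_range_self _ y
      rw [h, Submodule.mem_bot] at h2
      simpa [sub_eq_zero] using h2)
    have hRinv : ∀ i, ∀ x ∈ R, f (A i) x ∈ R := by
      rintro i x ⟨z, rfl⟩
      refine ⟨f (A i) z, ?_⟩
      have h : f (A j ^ 2) (f (A i) z) = f (A i) (f (A j ^ 2) z) := by
        rw [← Module.End.mul_apply, ← map_mul, ((hA j i).pow_left 2).eq, map_mul,
          Module.End.mul_apply]
      rw [LinearMap.sub_apply, LinearMap.sub_apply, Module.End.one_apply, Module.End.one_apply,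
        map_sub, h]
    obtain ⟨v, hvR, hv0, hv⟩ := exists_common_eigen (fun i => f (A i))
      (fun i k => by rw [← map_mul, ← map_mul, (hA i k).eq]) _ R rfl hR hRinv
    choose μ hμ using hv
    refine ⟨v, μ, hv0, hμ, fun h1 => ?_⟩
    obtain ⟨z, hz⟩ := hvR
    have hfix : f (A j ^ 2) v = v := by
      rw [pow_two, map_mul, Module.End.mul_apply, hμ, map_smul, hμ, smul_smul, ← pow_two, h1,
        one_smul]
    have hz2 : f (A j ^ 2) z = z + v := by
      rw [← hz, LinearMap.sub_apply, Module.End.one_apply, add_sub_cancel]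
    have hk : ∀ k : ℕ, f ((A j ^ 2) ^ k) z = z + (k : AlgebraicClosure K) • v := by
      intro k
      induction k with
      | zero => simp
      | succ k ih =>
        rw [pow_succ', map_mul, Module.End.mul_apply, ih, map_add, map_smul, hfix, hz2,
          Nat.cast_succ, add_smul, one_smul]
        abel
    have h := hk r
    have hone : (A j ^ 2) ^ r = 1 := by
      funext i
      rcases eq_or_ne i j with rfl | hij
      · simpa [A] using hr
      · simp [A, Pi.mulSingle_eq_of_ne hij]
    rw [hone, map_one, Module.End.one_apply, left_eq_add, smul_eq_zero] at h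
    exact h.elim hr' hv0
  choose v μ hv0 hμ hμj using hex
  let key : Fin n → (Fin n → AlgebraicClosure K) := fun j i => μ j i + (μ j i)⁻¹
  let S := Finset.univ.image key
  have hrep : ∀ c : S, ∃ j, key j = c.1 := fun c => by
    obtain ⟨j, -, h⟩ := Finset.mem_image.1 c.2
    exact ⟨j, h⟩
  choose rep hrep using hrep
  let T : S → Finset (Fin n) := fun c => Finset.univ.filter fun i => μ (rep c) i ^ 2 ≠ 1
  have hne : ∀ j i, μ j i ≠ 0 := by
    intro j i h0
    have h1 := hμ j i
    rw [h0, zero_smul] at h1
    have h2 : f ((A i)⁻¹ * A i) (v j) = 0 := by rw [map_mul, Module.End.mul_apply, h1, map_zero]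
    rw [inv_mul_cancel, map_one, Module.End.one_apply] at h2
    exact hv0 j h2
  have hinv : ∀ j i, f (A i)⁻¹ (v j) = (μ j i)⁻¹ • v j := by
    intro j i
    have h2 : f ((A i)⁻¹ * A i) (v j) = v j := by simp
    rw [map_mul, Module.End.mul_apply, hμ, map_smul] at h2
    conv_rhs => rw [← h2]
    rw [inv_smul_smul₀ (hne j i)]
  let g : Finset (Fin n) → (Fin n → H) := fun s i => if i ∈ s then b else 1
  have hg : ∀ s i, A i * g s = g s * (if i ∈ s then (A i)⁻¹ else A i) := by
    intro s i
    funext k
    rcases eq_or_ne k i with rfl | hk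
    · by_cases hks : k ∈ s
      · simp only [Pi.mul_apply, A, g, if_pos hks, Pi.inv_apply, Pi.mulSingle_eq_same]
        rw [eq_mul_inv_iff_mul_eq, mul_assoc, hab, mul_inv_cancel_left]
      · simp [A, g, hks]
    · by_cases his : i ∈ s <;> simp [A, g, his, hk]
  let ι := Σ c : S, (T c).powerset
  have hcard : 2 * n ≤ Fintype.card ι := by
    simp only [ι, Fintype.card_sigma, Fintype.card_coe, Finset.card_powerset]
    have hcov : (Finset.univ : Finset (Fin n)) ⊆ Finset.univ.biUnion T := by
      intro j _
      let c : S := ⟨key j, Finset.mem_image_of_mem _ (Finset.mem_univ j)⟩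
      refine Finset.mem_biUnion.2 ⟨c, Finset.mem_univ _, Finset.mem_filter.2 ⟨Finset.mem_univ _, ?_⟩⟩
      have h := congrFun (hrep c) j
      simp only [key, c] at h
      intro hx
      apply hμj j
      have hx' : (μ (rep c) j)⁻¹ = μ (rep c) j :=
        inv_eq_of_mul_eq_one_right (by rw [← pow_two]; exact hx)
      have h' : (μ j j - μ (rep c) j) ^ 2 = 0 := by
        have hmul := mul_inv_cancel₀ (hne j j)
        simp only [c] at hx hx'
        rw [hx'] at h
        linear_combination hx - (μ j j) * h - hmul
      simp only [c] at hx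
      rw [sub_eq_zero.1 (pow_eq_zero_iff (by norm_num : (2 : ℕ) ≠ 0) |>.1 h')]
      exact hx
    have h1 := (Finset.card_le_card hcov).trans Finset.card_biUnion_le
    rw [Finset.card_univ, Fintype.card_fin] at h1
    calc 2 * n ≤ 2 * ∑ c : S, (T c).card := Nat.mul_le_mul_left 2 h1
      _ = ∑ c : S, 2 * (T c).card := Finset.mul_sum _ _ _
      _ ≤ ∑ c : S, 2 ^ (T c).card := Finset.sum_le_sum fun c _ => by
          generalize (T c).card = k
          rcases k with _ | k
          · simp
          · rw [pow_succ']
            exact Nat.mul_le_mul_left 2 k.lt_two_pow_self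
  refine hcard.trans (card_le_of_distinct_eigen
    (fun i => (ext (ρ (A i)) : Matrix (Fin d) (Fin d) (AlgebraicClosure K)))
    (fun (x : ι) i => if i ∈ x.2.1 then (μ (rep x.1) i)⁻¹ else μ (rep x.1) i)
    (fun (x : ι) => f (g x.2.1) (v (rep x.1))) ?_ ?_ ?_)
  · intro x h0
    have h1 : f ((g x.2.1)⁻¹ * g x.2.1) (v (rep x.1)) = 0 := by
      rw [map_mul, Module.End.mul_apply, h0, map_zero]
    rw [inv_mul_cancel, map_one, Module.End.one_apply] at h1
    exact hv0 _ h1
  · intro x i
    show f (A i) (f (g x.2.1) (v (rep x.1))) = _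
    rw [← Module.End.mul_apply, ← map_mul, hg, map_mul, Module.End.mul_apply]
    by_cases hi : i ∈ x.2.1
    · rw [if_pos hi, if_pos hi, hinv, map_smul]
    · rw [if_neg hi, if_neg hi, hμ, map_smul]
  · rintro ⟨c, s⟩ ⟨c', s'⟩ h
    have hkey : key (rep c) = key (rep c') := by
      funext i
      have hi := congrFun h i
      simp only at hi
      simp only [key]
      split at hi <;> split at hi
      · rw [_root_.inv_inj] at hi
        rw [hi]
      · rw [← hi, inv_inv, add_comm]
      · rw [hi, inv_inv, add_comm]
      · rw [hi]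
    obtain rfl : c = c' := Subtype.ext (by rw [← hrep c, ← hrep c', hkey])
    obtain rfl : s = s' := by
      apply Subtype.ext
      ext i
      have hi := congrFun h i
      simp only at hi
      have hboth : ∀ w : Finset (Fin n), w ∈ (T c).powerset → i ∈ w →
          (μ (rep c) i)⁻¹ ≠ μ (rep c) i := by
        intro w hw hiw he
        refine (Finset.mem_filter.1 (Finset.mem_powerset.1 hw hiw)).2 ?_
        have h1 := mul_inv_cancel₀ (hne (rep c) i)
        rwa [he, ← pow_two] at h1
      constructor
      · intro his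
        by_contra his'
        rw [if_pos his, if_neg his'] at hi
        exact hboth _ s.2 his hi
      · intro his'
        by_contra his
        rw [if_neg his, if_pos his'] at hi
        exact hboth _ s'.2 his' hi.symm
    rfl

/-- `SL₂ⁿ` inside `Sp₂ₙ`. -/
def piToSp (F : Type*) [Field F] (n : ℕ) :
    (Fin n → Matrix.SpecialLinearGroup (Fin 2) F) →* Matrix.symplecticGroup (Fin n) F where
  toFun g := ⟨fromBlocks (diagonal fun i => g i 0 0) (diagonal fun i => g i 0 1)
      (diagonal fun i => g i 1 0) (diagonal fun i => g i 1 1), by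
    rw [SymplecticGroup.mem_iff, Matrix.J, fromBlocks_transpose, fromBlocks_multiply,
      fromBlocks_multiply]
    simp only [diagonal_transpose, ← diagonal_one, diagonal_neg, diagonal_mul_diagonal,
      Matrix.mul_zero, zero_add, add_zero, diagonal_add]
    have hd : ∀ i, g i 0 0 * g i 1 1 - g i 0 1 * g i 1 0 = 1 := fun i => by
      rw [← Matrix.det_fin_two]
      exact (g i).det_coe
    rw [← diagonal_zero]
    congr 1 <;> refine congrArg diagonal (funext fun i => ?_)
    · ring
    · linear_combination -(hd i)
    · linear_combination hd i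
    · ring⟩
  map_one' := by
    apply Subtype.ext
    simp
  map_mul' g h := by
    apply Subtype.ext
    simp [fromBlocks_multiply, Matrix.mul_apply, Fin.sum_univ_two]

theorem piToSp_injective (F : Type*) [Field F] (n : ℕ) : Function.Injective (piToSp F n) := by
  intro g h hgh
  have e := congrArg (fun x : Matrix.symplecticGroup (Fin n) F =>
    (x : Matrix (Fin n ⊕ Fin n) (Fin n ⊕ Fin n) F)) hgh
  funext i
  ext a b
  fin_cases a <;> fin_cases b
  · simpa [piToSp] using congrFun (congrFun e (.inl i)) (.inl i)
  · simpa [piToSp] using congrFun (congrFun e (.inl i)) (.inr i)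
  · simpa [piToSp] using congrFun (congrFun e (.inr i)) (.inl i)
  · simpa [piToSp] using congrFun (congrFun e (.inr i)) (.inr i)

theorem main {F : Type*} [Field F] [Fintype F] (n : ℕ) {d : ℕ}
    (ρ : ↥(Matrix.symplecticGroup (Fin n) F) →* GL (Fin d) F) (hρ : Function.Injective ρ) :
    2 * n ≤ d := by
  have hinj : Function.Injective (ρ.comp (piToSp F n)) := hρ.comp (piToSp_injective F n)
  by_cases h2 : (2 : F) = 0
  · have h3 : ((3 : ℕ) : F) ≠ 0 := by
      rw [show ((3 : ℕ) : F) = 2 + 1 by norm_num, h2, zero_add]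
      exact one_ne_zero
    have hm : (-1 : F) = 1 := by linear_combination -h2
    let a : Matrix.SpecialLinearGroup (Fin 2) F :=
      ⟨!![0, 1; 1, 1], by simp [Matrix.det_fin_two, hm]⟩
    let b : Matrix.SpecialLinearGroup (Fin 2) F :=
      ⟨!![0, 1; 1, 0], by simp [Matrix.det_fin_two, hm]⟩
    have ha3 : a ^ 3 = 1 := by
      apply Subtype.ext
      rw [Matrix.SpecialLinearGroup.coe_pow, Matrix.SpecialLinearGroup.coe_one, pow_three]
      ext i j
      fin_cases i <;> fin_cases j <;> simp [a] <;>
        first | linear_combination h2 | linear_combination (-1 : F) * h2 | linear_combination 2 * h2 | linear_combination (-2 : F) * h2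
    refine two_mul_le_degree _ hinj a b ?_ (r := 3) (by rw [← pow_mul, mul_comm, pow_mul, ha3, one_pow]) h3 ?_
    · rw [inv_eq_of_mul_eq_one_right (show a * a ^ 2 = 1 by rw [← pow_succ', ha3])]
      apply Subtype.ext
      show b.1 * a.1 = (a ^ 2).1 * b.1
      rw [show (a ^ 2).1 = a.1 * a.1 by rw [Matrix.SpecialLinearGroup.coe_pow, pow_two]]
      ext i j
      fin_cases i <;> fin_cases j <;>
        simp [a, b, Matrix.mul_apply, Fin.sum_univ_two] <;>
          first | linear_combination h2 | linear_combination (-1 : F) * h2 | linear_combination 2 * h2 | linear_combination (-2 : F) * h2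
    · intro h
      have h' := congrArg (fun x : Matrix.SpecialLinearGroup (Fin 2) F => (x : Matrix (Fin 2) (Fin 2) F) 0 1) h
      simp only [pow_two, Matrix.SpecialLinearGroup.coe_mul, Matrix.SpecialLinearGroup.coe_one] at h'
      simp [a, Matrix.mul_apply, Fin.sum_univ_two] at h'
  · obtain ⟨p, hp⟩ := CharP.exists F
    obtain ⟨x, y, hxy⟩ : ∃ x y : F, x ^ 2 + y ^ 2 = -1 := by
      have := Fact.mk (CharP.char_is_prime F p)
      obtain ⟨x, y, h⟩ := CharP.sq_add_sq F p (-1)
      exact ⟨x, y, by simpa using h⟩
    let a : Matrix.SpecialLinearGroup (Fin 2) F :=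
      ⟨!![0, 1; -1, 0], by simp [Matrix.det_fin_two]⟩
    let b : Matrix.SpecialLinearGroup (Fin 2) F :=
      ⟨!![x, y; y, -x], by simp [Matrix.det_fin_two]; linear_combination -hxy⟩
    refine two_mul_le_degree _ hinj a b ?_ (r := 2) ?_ (by simpa using h2) ?_
    · apply Subtype.ext
      show b.1 * a.1 = (a⁻¹).1 * b.1
      rw [show (a⁻¹).1 = Matrix.adjugate a.1 from Matrix.SpecialLinearGroup.coe_inv a]
      ext i j
      fin_cases i <;> fin_cases j <;> simp [a, b, Matrix.mul_apply, Fin.sum_univ_two, Matrix.adjugate_fin_two]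
    · apply Subtype.ext
      rw [← pow_mul, Matrix.SpecialLinearGroup.coe_pow, Matrix.SpecialLinearGroup.coe_one,
        show 2 * 2 = 4 from rfl]
      ext i j
      fin_cases i <;> fin_cases j <;> simp [a, pow_succ, Matrix.mul_apply, Fin.sum_univ_two]
    · intro h
      have h' := congrArg (fun x : Matrix.SpecialLinearGroup (Fin 2) F => (x : Matrix (Fin 2) (Fin 2) F) 0 0) h
      simp only [pow_two, Matrix.SpecialLinearGroup.coe_mul, Matrix.SpecialLinearGroup.coe_one] at h'
      simp [a, Matrix.mul_apply, Fin.sum_univ_two] at h'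
      exact h2 (by linear_combination -h')

/-- The smallest degree of a faithful representation of the symplectic group `Sp_{2n}(q)` over its own field `F_q` is `2n`: every injective homomorphism from `Sp_{2n}(F)` to `GL_d(F)`, `F` the field with `q` elements, has `d ≥ 2n`. -/
theorem result {F : Type*} [Field F] [Fintype F] (n : ℕ) {d : ℕ}
    (ρ : ↥(Matrix.symplecticGroup (Fin n) F) →* GL (Fin d) F) (hρ : Function.Injective ρ) : 2 * n ≤ d := by
  exact main n ρ hρ

end Cfsg.Agent.S2394
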