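import Cfsg.Statements.S2395
import Mathlib

set_option autoImplicit false
open Cfsg

namespace Cfsg.Agent.S2395

open Cfsg.Lie

/-- A witness writing the root `r` as the only term of a commutator. -/
def Ok1 (D : ChevalleyDatum) (w : ℕ × ℕ × ℕ) : Prop :=
  w.2.1 < D.nroots ∧ w.2.2 < D.nroots ∧ w.2.2 ≠ w.2.1 ∧ w.2.2 ≠ D.neg w.2.1 ∧
    (D.commTerms w.2.1 w.2.2 = [(w.1, 1, 1, 1)] ∨ D.commTerms w.2.1 w.2.2 = [(w.1, -1, 1, 1)])

instance instDecidableOk1 (D : ChevalleyDatum) (w : ℕ × ℕ × ℕ) : Decidable (Ok1 D w) :=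
  inferInstanceAs (Decidable (_ ∧ _))

/-- A witness writing two roots in a commutator, with degrees (1,1) and (2,1), up to roots in `known`. -/
def Ok2 (D : ChevalleyDatum) (known : List ℕ) (w : ℕ × ℕ × ℕ × ℕ) : Prop :=
  w.1 < D.nroots ∧ w.2.1 < D.nroots ∧ w.2.1 ≠ w.1 ∧ w.2.1 ≠ D.neg w.1 ∧
    ∃ c ∈ [(1 : ℤ), -1], ∃ c' ∈ [(1 : ℤ), -1],
      (D.commTerms w.1 w.2.1).filter (fun x => !known.contains x.1) =
        [(w.2.2.1, c, 1, 1), (w.2.2.2, c', 2, 1)]

instance instDecidableOk2 (D : ChevalleyDatum) (known : List ℕ) (w : ℕ × ℕ × ℕ × ℕ) :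
    Decidable (Ok2 D known w) := inferInstanceAs (Decidable (_ ∧ _))

/-- All data needed for perfectness. -/
def Good (D : ChevalleyDatum) (L₁ : List (ℕ × ℕ × ℕ)) (L₂ : List (ℕ × ℕ × ℕ × ℕ)) : Prop :=
  (∀ w ∈ L₁, Ok1 D w) ∧ (∀ w ∈ L₂, Ok2 D (L₁.map Prod.fst) w) ∧
    ∀ r ∈ List.range D.nroots, r ∈ L₁.map Prod.fst ++ L₂.flatMap (fun w => [w.2.2.1, w.2.2.2])

instance instDecidableGood (D : ChevalleyDatum) (L₁ : List (ℕ × ℕ × ℕ))
    (L₂ : List (ℕ × ℕ × ℕ × ℕ)) : Decidable (Good D L₁ L₂) := inferInstanceAs (Decidable (_ ∧ _))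

theorem sum_filter_eq {α M : Type*} [AddCommMonoid M] (l : List α) (P : α → Bool) (f : α → M)
    (h : ∀ x ∈ l, P x = false → f x = 0) : ((l.filter P).map f).sum = (l.map f).sum := by
  induction l with
  | nil => simp
  | cons a l ih =>
    have ih' := ih fun x hx => h x (List.mem_cons_of_mem _ hx)
    cases hP : P a with
    | false => simp [hP, h a (List.mem_cons_self) hP, ih']
    | true => simp [hP, ih']

theorem perfect {K : Type*} [Field K] (D : ChevalleyDatum) (L₁ : List (ℕ × ℕ × ℕ))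
    (L₂ : List (ℕ × ℕ × ℕ × ℕ)) (hgood : Good D L₁ L₂) (hK : L₂ ≠ [] → ∃ x : K, x ≠ 0 ∧ x ≠ 1) :
    commutator (D.SteinbergCover K) = ⊤ := by
  obtain ⟨h1, h2, hcov⟩ := hgood
  let π : D.SteinbergCover K →* Abelianization (D.SteinbergCover K) := Abelianization.of
  let φ : ℕ → K → Additive (Abelianization (D.SteinbergCover K)) :=
    fun r t => Additive.ofMul (π (D.scGen K r t))
  have hstX : ∀ (r : ℕ) (t : K), ¬ r < D.nroots → D.stX r t = 1 := fun r t h => dif_neg h
  have hadd : ∀ (r : ℕ) (s t : K), φ r (s + t) = φ r s + φ r t := by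
    intro r s t
    simp only [φ, ← ofMul_mul, ← map_mul]
    congr 2
    by_cases hr : r < D.nroots
    · symm
      have h : PresentedGroup.mk (D.steinbergRelsAB K) (D.stX r s * D.stX r t * (D.stX r (s + t))⁻¹) = 1 :=
        PresentedGroup.one_of_mem (Or.inl ⟨r, s, t, hr, rfl⟩)
      rw [map_mul, map_mul, map_inv, mul_inv_eq_one] at h
      exact h
    · simp [ChevalleyDatum.scGen, hstX _ _ hr]
  have hzero : ∀ r, φ r (0 : K) = 0 := fun r => by
    have h := hadd r 0 0
    rw [add_zero] at h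
    exact left_eq_add.1 h
  have hneg : ∀ r (t : K), φ r t = 0 → φ r (-t) = 0 := fun r t ht => by
    have h := hadd r t (-t)
    rw [add_neg_cancel, hzero, ht, zero_add] at h
    exact h.symm
  have hrel : ∀ a b, a < D.nroots → b < D.nroots → b ≠ a → b ≠ D.neg a → ∀ t u : K,
      ((D.commTerms a b).map fun x => φ x.1 ((x.2.1 : K) * (-t) ^ x.2.2.1 * u ^ x.2.2.2)).sum = 0 := by
    intro a b ha hb hne hne' t u
    have hm : (D.stX b u)⁻¹ * (D.stX a t)⁻¹ * D.stX b u * D.stX a t *
        (D.stWord (D.commWord K a b t u))⁻¹ ∈ D.steinbergRelsAB K :=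
      Or.inr ⟨a, b, t, u, ha, hb, hne, hne', rfl⟩
    have h := congrArg π (PresentedGroup.one_of_mem hm)
    simp only [map_mul, map_inv, map_one, PresentedGroup.mk] at h
    rw [show ∀ x y w : Abelianization (D.SteinbergCover K),
      x⁻¹ * y⁻¹ * x * y * w⁻¹ = w⁻¹ from fun x y w => by
        rw [mul_comm x⁻¹ y⁻¹, inv_mul_cancel_right, inv_mul_cancel, one_mul], inv_eq_one] at h
    have h' : π (PresentedGroup.mk _ (D.stWord (D.commWord K a b t u))) = 1 := h
    simp only [ChevalleyDatum.stWord, ChevalleyDatum.commWord, map_list_prod, List.map_map] at h'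
    apply Additive.toMul.injective
    rw [toMul_list_sum, List.map_map, toMul_zero, ← h']
    rfl
  have hk1 : ∀ r ∈ L₁.map Prod.fst, ∀ s : K, φ r s = 0 := by
    intro r hr s
    obtain ⟨⟨r', a, b⟩, hw, rfl⟩ := List.mem_map.1 hr
    obtain ⟨ha, hb, hne, hne', h | h⟩ := h1 _ hw
    · simpa [h] using hrel a b ha hb hne hne' (-1) s
    · simpa [h] using hrel a b ha hb hne hne' 1 s
  have hk2 : ∀ w ∈ L₂, ∀ s : K, φ w.2.2.1 s = 0 ∧ φ w.2.2.2 s = 0 := by
    rintro ⟨a, b, k, k'⟩ hw
    obtain ⟨ha, hb, hne, hne', c, hc, c', hc', hf⟩ := h2 _ hw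
    simp only at ha hb hne hne' hf ⊢
    have hsum : ∀ t u : K, φ k ((c : K) * t * u) + φ k' ((c' : K) * t ^ 2 * u) = 0 := by
      intro t u
      have h := hrel a b ha hb hne hne' (-t) u
      rw [← sum_filter_eq _ (fun x => !(L₁.map Prod.fst).contains x.1)] at h
      · rw [hf] at h
        simpa using h
      · intro x _ hx
        exact hk1 _ (by simpa using hx) _
    have hcK : (c : K) ≠ 0 ∧ (c' : K) ≠ 0 := by
      simp only [List.mem_cons, List.not_mem_nil, or_false] at hc hc'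
      rcases hc with rfl | rfl <;> rcases hc' with rfl | rfl <;> simp
    obtain ⟨t, ht0, ht1⟩ := hK (fun h => by rw [h] at hw; simp at hw)
    have hk' : ∀ u : K, φ k' u = 0 := by
      intro u
      set v := u / ((c' : K) * (t - 1)) with hv
      have h1 := hsum 1 v
      have h2 := hsum t (v / t)
      have e1 : (c : K) * t * (v / t) = (c : K) * 1 * v := by field_simp
      have e2 : (c' : K) * t ^ 2 * (v / t) = (c' : K) * 1 ^ 2 * v + u := by
        have hd : t - 1 ≠ 0 := sub_ne_zero.2 ht1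
        rw [hv]
        field_simp [hcK.2]
        ring
      rw [e1, e2, hadd, ← add_assoc, h1, zero_add] at h2
      exact h2
    intro s
    refine ⟨?_, hk' s⟩
    have h := hsum 1 (s / (c : K))
    rwa [hk', add_zero, mul_one, mul_div_cancel₀ _ hcK.1] at h
  have hall : ∀ (r : ℕ) (s : K), D.scGen K r s ∈ commutator (D.SteinbergCover K) := by
    intro r s
    by_cases hr : r < D.nroots
    · have h0 : φ r s = 0 := by
        rcases List.mem_append.1 (hcov r (List.mem_range.2 hr)) with h | h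
        · exact hk1 r h s
        · obtain ⟨w, hw, hrw⟩ := List.mem_flatMap.1 h
          simp only [List.mem_cons, List.not_mem_nil, or_false] at hrw
          rcases hrw with rfl | rfl
          · exact (hk2 w hw s).1
          · exact (hk2 w hw s).2
      have h' : π (D.scGen K r s) = 1 := h0
      rwa [← MonoidHom.mem_ker, Abelianization.ker_of] at h'
    · simp [ChevalleyDatum.scGen, hstX _ _ hr]
  rw [eq_top_iff, ← PresentedGroup.closure_range_of]
  refine (Subgroup.closure_le _).2 ?_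
  rintro _ ⟨⟨r, s⟩, rfl⟩
  have h := hall r s
  simp only [ChevalleyDatum.scGen, ChevalleyDatum.stX, r.2, dite_true] at h
  exact h

theorem goodG2 : Good chevG2
    [(0, 1, 5), (1, 0, 6), (5, 0, 10), (6, 1, 11), (10, 5, 11), (11, 6, 10)]
    [(3, 6, 4, 2), (2, 10, 7, 3), (2, 11, 8, 4), (3, 11, 9, 7)] := by
  decide +kernel

theorem goodB2 : Good chevB2
    []
    [(1, 4, 2, 0), (2, 3, 1, 0), (1, 7, 5, 3), (2, 7, 6, 4), (5, 4, 6, 7)] := by
  decide +kernel

theorem goodD4 : Good chevD4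
    [(0, 1, 9), (1, 0, 14), (2, 0, 15), (3, 0, 16), (4, 0, 17), (5, 1, 17), (6, 0, 19), (7, 0, 20), (8,
    0, 21), (9, 0, 22), (10, 1, 20), (11, 1, 21), (12, 2, 22), (13, 3, 22), (14, 1, 23), (15, 2, 23),
    (16, 3, 23), (17, 4, 23), (18, 6, 22), (19, 6, 23), (20, 7, 23), (21, 8, 23), (22, 9, 23), (23, 14,
    22)]
    [] := by
  decide +kernel

theorem goodF4 : Good chevF4
    [(0, 1, 23), (1, 0, 24), (2, 0, 26), (3, 7, 14), (4, 0, 31), (5, 0, 32), (6, 1, 32), (7, 3, 33), (8,
    3, 34), (9, 3, 35), (10, 3, 36), (11, 3, 37), (12, 3, 38), (13, 3, 39), (14, 3, 40), (15, 0, 42),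
    (16, 0, 43), (17, 1, 43), (18, 7, 37), (19, 7, 38), (20, 7, 39), (21, 0, 45), (22, 1, 45), (23, 0,
    46), (24, 1, 47), (25, 2, 46), (26, 2, 47), (27, 8, 40), (28, 9, 40), (29, 10, 40), (30, 4, 46),
    (31, 4, 47), (32, 5, 47), (33, 7, 44), (34, 8, 44), (35, 9, 44), (36, 10, 44), (37, 11, 44), (38,
    12, 44), (39, 13, 44), (40, 14, 44), (41, 15, 46), (42, 15, 47), (43, 16, 47), (44, 33, 40), (45,
    21, 47), (46, 23, 47), (47, 24, 46)]
    [] := by
  decide +kernel

theorem goodE6 : Good chevE6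
    [(0, 1, 25), (1, 0, 46), (2, 0, 47), (3, 0, 48), (4, 0, 49), (5, 0, 50), (6, 0, 51), (7, 0, 52), (8,
    0, 53), (9, 0, 54), (10, 0, 55), (11, 1, 53), (12, 1, 54), (13, 1, 55), (14, 2, 55), (15, 5, 55),
    (16, 0, 61), (17, 0, 62), (18, 0, 63), (19, 0, 64), (20, 0, 65), (21, 0, 66), (22, 0, 67), (23, 0,
    68), (24, 0, 69), (25, 0, 70), (26, 1, 64), (27, 1, 65), (28, 1, 66), (29, 2, 66), (30, 1, 67), (31,
    1, 68), (32, 1, 69), (33, 2, 67), (34, 2, 68), (35, 3, 67), (36, 4, 68), (37, 3, 69), (38, 4, 69),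
    (39, 2, 70), (40, 3, 70), (41, 4, 70), (42, 5, 69), (43, 5, 70), (44, 6, 70), (45, 7, 70), (46, 1,
    71), (47, 2, 71), (48, 3, 71), (49, 4, 71), (50, 5, 71), (51, 6, 71), (52, 7, 71), (53, 8, 71), (54,
    9, 71), (55, 10, 71), (56, 16, 66), (57, 16, 69), (58, 16, 70), (59, 17, 70), (60, 18, 70), (61, 16,
    71), (62, 17, 71), (63, 18, 71), (64, 19, 71), (65, 20, 71), (66, 21, 71), (67, 22, 71), (68, 23,
    71), (69, 24, 71), (70, 25, 71), (71, 46, 70)]
    [] := by
  decide +kernel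

theorem goodE7 : Good chevE7
    [(0, 1, 32), (1, 0, 93), (2, 0, 94), (3, 0, 95), (4, 0, 96), (5, 0, 97), (6, 0, 98), (7, 0, 99), (8,
    0, 100), (9, 0, 101), (10, 0, 102), (11, 0, 103), (12, 0, 104), (13, 0, 105), (14, 0, 106), (15, 0,
    107), (16, 0, 108), (17, 0, 109), (18, 0, 110), (19, 0, 111), (20, 0, 112), (21, 0, 113), (22, 0,
    114), (23, 0, 115), (24, 0, 116), (25, 0, 117), (26, 0, 118), (27, 0, 119), (28, 0, 120), (29, 0,
    121), (30, 0, 122), (31, 0, 123), (32, 0, 124), (33, 1, 109), (34, 1, 110), (35, 1, 111), (36, 1,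
    112), (37, 1, 113), (38, 1, 114), (39, 1, 115), (40, 1, 116), (41, 1, 117), (42, 1, 118), (43, 2,
    115), (44, 2, 116), (45, 2, 117), (46, 2, 118), (47, 3, 118), (48, 1, 119), (49, 1, 120), (50, 1,
    121), (51, 1, 122), (52, 1, 123), (53, 2, 119), (54, 2, 120), (55, 2, 121), (56, 2, 122), (57, 3,
    119), (58, 3, 120), (59, 3, 121), (60, 4, 119), (61, 4, 120), (62, 5, 119), (63, 6, 120), (64, 5,
    121), (65, 6, 121), (66, 4, 122), (67, 5, 122), (68, 6, 122), (69, 3, 123), (70, 4, 123), (71, 5,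
    123), (72, 6, 123), (73, 2, 124), (74, 3, 124), (75, 4, 124), (76, 5, 124), (77, 6, 124), (78, 7,
    122), (79, 7, 123), (80, 8, 123), (81, 9, 123), (82, 10, 123), (83, 7, 124), (84, 8, 124), (85, 9,
    124), (86, 10, 124), (87, 11, 124), (88, 12, 124), (89, 13, 124), (90, 14, 124), (91, 15, 124), (92,
    16, 124), (93, 1, 125), (94, 2, 125), (95, 3, 125), (96, 4, 125), (97, 5, 125), (98, 6, 125), (99,
    7, 125), (100, 8, 125), (101, 9, 125), (102, 10, 125), (103, 11, 125), (104, 12, 125), (105, 13,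
    125), (106, 14, 125), (107, 15, 125), (108, 16, 125), (109, 17, 125), (110, 18, 125), (111, 19,
    125), (112, 20, 125), (113, 21, 125), (114, 22, 125), (115, 23, 125), (116, 24, 125), (117, 25,
    125), (118, 26, 125), (119, 27, 125), (120, 28, 125), (121, 29, 125), (122, 30, 125), (123, 31,
    125), (124, 32, 125), (125, 93, 124)]
    [] := by
  decide +kernel

theorem goodE8 : Good chevE8
    [(0, 1, 119), (1, 0, 120), (2, 0, 122), (3, 0, 125), (4, 0, 129), (5, 0, 134), (6, 0, 140), (7, 0,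
    146), (8, 0, 151), (9, 0, 155), (10, 0, 158), (11, 0, 160), (12, 0, 161), (13, 1, 161), (14, 0,
    168), (15, 0, 173), (16, 0, 177), (17, 0, 180), (18, 0, 182), (19, 0, 183), (20, 1, 183), (21, 0,
    187), (22, 0, 190), (23, 0, 192), (24, 0, 193), (25, 1, 193), (26, 0, 196), (27, 0, 198), (28, 0,
    199), (29, 1, 199), (30, 0, 201), (31, 0, 202), (32, 1, 202), (33, 0, 203), (34, 1, 203), (35, 2,
    203), (36, 0, 206), (37, 0, 208), (38, 0, 209), (39, 1, 209), (40, 0, 211), (41, 0, 212), (42, 1,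
    212), (43, 0, 213), (44, 1, 213), (45, 2, 213), (46, 0, 215), (47, 0, 216), (48, 1, 216), (49, 0,
    217), (50, 1, 217), (51, 2, 217), (52, 0, 218), (53, 1, 218), (54, 2, 218), (55, 3, 218), (56, 0,
    220), (57, 0, 221), (58, 1, 221), (59, 0, 222), (60, 1, 222), (61, 2, 222), (62, 0, 223), (63, 1,
    223), (64, 2, 223), (65, 3, 223), (66, 0, 224), (67, 1, 224), (68, 2, 224), (69, 3, 224), (70, 4,
    224), (71, 0, 225), (72, 1, 225), (73, 2, 225), (74, 3, 225), (75, 4, 225), (76, 5, 225), (77, 6,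
    225), (78, 0, 227), (79, 0, 228), (80, 1, 228), (81, 0, 229), (82, 1, 229), (83, 2, 229), (84, 0,
    230), (85, 1, 230), (86, 2, 230), (87, 3, 230), (88, 0, 231), (89, 1, 231), (90, 2, 231), (91, 3,
    231), (92, 4, 231), (93, 0, 232), (94, 1, 232), (95, 2, 232), (96, 3, 232), (97, 4, 232), (98, 5,
    232), (99, 0, 233), (100, 1, 233), (101, 2, 233), (102, 3, 233), (103, 4, 233), (104, 5, 233), (105,
    0, 234), (106, 1, 234), (107, 2, 234), (108, 3, 234), (109, 4, 234), (110, 0, 235), (111, 1, 235),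
    (112, 2, 235), (113, 3, 235), (114, 0, 236), (115, 1, 236), (116, 2, 236), (117, 0, 237), (118, 1,
    237), (119, 0, 238), (120, 1, 239), (121, 2, 238), (122, 2, 239), (123, 3, 237), (124, 3, 238),
    (125, 3, 239), (126, 4, 236), (127, 4, 237), (128, 4, 238), (129, 4, 239), (130, 5, 235), (131, 5,
    236), (132, 5, 237), (133, 5, 238), (134, 5, 239), (135, 6, 234), (136, 6, 235), (137, 6, 236),
    (138, 6, 237), (139, 6, 238), (140, 6, 239), (141, 7, 234), (142, 7, 235), (143, 7, 236), (144, 7,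
    237), (145, 7, 238), (146, 7, 239), (147, 8, 235), (148, 8, 236), (149, 8, 237), (150, 8, 238),
    (151, 8, 239), (152, 9, 236), (153, 9, 237), (154, 9, 238), (155, 9, 239), (156, 10, 237), (157, 10,
    238), (158, 10, 239), (159, 11, 238), (160, 11, 239), (161, 12, 239), (162, 14, 233), (163, 14,
    234), (164, 14, 235), (165, 14, 236), (166, 14, 237), (167, 14, 238), (168, 14, 239), (169, 15,
    235), (170, 15, 236), (171, 15, 237), (172, 15, 238), (173, 15, 239), (174, 16, 236), (175, 16,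
    237), (176, 16, 238), (177, 16, 239), (178, 17, 237), (179, 17, 238), (180, 17, 239), (181, 18,
    238), (182, 18, 239), (183, 19, 239), (184, 21, 236), (185, 21, 237), (186, 21, 238), (187, 21,
    239), (188, 22, 237), (189, 22, 238), (190, 22, 239), (191, 23, 238), (192, 23, 239), (193, 24,
    239), (194, 26, 237), (195, 26, 238), (196, 26, 239), (197, 27, 238), (198, 27, 239), (199, 28,
    239), (200, 30, 238), (201, 30, 239), (202, 31, 239), (203, 33, 239), (204, 36, 237), (205, 36,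
    238), (206, 36, 239), (207, 37, 238), (208, 37, 239), (209, 38, 239), (210, 40, 238), (211, 40,
    239), (212, 41, 239), (213, 43, 239), (214, 46, 238), (215, 46, 239), (216, 47, 239), (217, 49,
    239), (218, 52, 239), (219, 56, 238), (220, 56, 239), (221, 57, 239), (222, 59, 239), (223, 62,
    239), (224, 66, 239), (225, 71, 239), (226, 78, 238), (227, 78, 239), (228, 79, 239), (229, 81,
    239), (230, 84, 239), (231, 88, 239), (232, 93, 239), (233, 99, 239), (234, 105, 239), (235, 110,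
    239), (236, 114, 239), (237, 117, 239), (238, 119, 239), (239, 120, 238)]
    [] := by
  decide +kernel

/-- The group presented by Steinberg's generators x̄_r(t) subject only to (R1) (additivity) and (R2) (the commutator formula) is perfect, for each of the types G₂, B₂, D₄, F₄, E₆, E₇, E₈ over any field (for types B₂ and G₂ the field must have more than two elements — the cases where the Chevalley group is not simple are set aside). -/
theorem result {K : Type*} [Field K] (D : Cfsg.Lie.ChevalleyDatum) (hD : D ∈ [Cfsg.Lie.chevG2, Cfsg.Lie.chevB2, Cfsg.Lie.chevD4, Cfsg.Lie.chevF4, Cfsg.Lie.chevE6, Cfsg.Lie.chevE7, Cfsg.Lie.chevE8]) (hK : D ∈ [Cfsg.Lie.chevB2, Cfsg.Lie.chevG2] → ∃ x : K, x ≠ 0 ∧ x ≠ 1) :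
    commutator (D.SteinbergCover K) = ⊤ := by
  simp only [List.mem_cons, List.not_mem_nil, or_false] at hD
  rcases hD with rfl | rfl | rfl | rfl | rfl | rfl | rfl
  · exact perfect _ _ _ goodG2 fun _ => hK (by simp)
  · exact perfect _ _ _ goodB2 fun _ => hK (by simp)
  · exact perfect _ _ _ goodD4 fun h => absurd rfl h
  · exact perfect _ _ _ goodF4 fun h => absurd rfl h
  · exact perfect _ _ _ goodE6 fun h => absurd rfl h
  · exact perfect _ _ _ goodE7 fun h => absurd rfl h
  · exact perfect _ _ _ goodE8 fun h => absurd rfl h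

end Cfsg.Agent.S2395
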