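import Cfsg.Statements.S2399
import Cfsg.Agent.Lib.Steinberg.Lift.PFree
import Mathlib.LinearAlgebra.Matrix.GeneralLinearGroup.Basic

set_option autoImplicit false
open scoped MatrixGroups
open Cfsg

namespace Cfsg.Agent.S2399

open CfsgLib.Steinberg

theorem center_pfree {L : Type*} [Field L] {p : ℕ} [Fact p.Prime] [CharP L p] {n : ℕ} {e : GL (Fin n) L}
    (he : e ∈ Subgroup.center (GL (Fin n) L)) (h : e ^ p = 1) : e = 1 := by
  obtain ⟨a, ha⟩ := Matrix.GeneralLinearGroup.mem_center_iff_val_mem_range_scalar.1 he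
  rcases isEmpty_or_nonempty (Fin n) with h0 | h0
  · exact Units.ext (Subsingleton.elim _ _)
  have h1 : Matrix.scalar (Fin n) (a ^ p) = Matrix.scalar (Fin n) 1 := by
    rw [map_pow, ha, map_one, ← Units.val_pow_eq_pow_val, h, Units.val_one]
  have h2 : (a - 1) ^ p = 0 := by rw [sub_pow_char, one_pow, Matrix.scalar_inj.1 h1, sub_self]
  refine Units.ext ?_
  rw [← ha, sub_eq_zero.1 (pow_eq_zero_iff (Fact.out : p.Prime).ne_zero |>.1 h2), map_one, Units.val_one]

/-- Projective representations in the natural characteristic lift: for each of the types G₂, B₂, D₄, F₄, E₆, E₇, E₈ over any field `K` (for types B₂ and G₂ the field must have more than two elements — the cases where the Chevalley group is not simple are set aside), every homomorphism from the Chevalley group to `PGL_n(L) = GL_n(L)/Z`, `L` a field of the same characteristic as `K`, lifts uniquely to a homomorphism from the group Δ presented by (R1), (R2) to `GL_n(L)`, compatibly with the projection Δ → Chevalley group sending x̄_r(t) to x_r(t).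 -/
theorem result {K : Type*} [Field K] (D : Cfsg.Lie.ChevalleyDatum) (hD : D ∈ [Cfsg.Lie.chevG2, Cfsg.Lie.chevB2, Cfsg.Lie.chevD4, Cfsg.Lie.chevF4, Cfsg.Lie.chevE6, Cfsg.Lie.chevE7, Cfsg.Lie.chevE8]) (hK : D ∈ [Cfsg.Lie.chevB2, Cfsg.Lie.chevG2] → ∃ x : K, x ≠ 0 ∧ x ≠ 1)
    (θ : D.SteinbergCover K →* ↥(D.group K))
    (hθ : ∀ (r : ℕ) (t : K), r < D.nroots → ((θ (D.scGen K r t) : GL D.Idx K) : Matrix D.Idx D.Idx K) = D.x K r t)
    {L : Type*} [Field L] (hL : ringChar L = ringChar K) {n : ℕ}
    (φ : ↥(D.group K) →* GL (Fin n) L ⧸ Subgroup.center (GL (Fin n) L)) :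
    ∃! ψ : D.SteinbergCover K →* GL (Fin n) L, (QuotientGroup.mk' (Subgroup.center (GL (Fin n) L))).comp ψ = φ.comp θ := by
  obtain ⟨T, S⟩ := exists_setup hD
  set π₁ := QuotientGroup.mk' (Subgroup.center (GL (Fin n) L))
  have hsurj : Function.Surjective π₁ := QuotientGroup.mk'_surjective _
  have hc₁ : π₁.ker ≤ Subgroup.center _ := le_of_eq (QuotientGroup.ker_mk' _)
  by_cases hbig : ∃ s : Finset K, 4 < s.card
  · exact existsUnique_lift (cover_perfect_big S (hbig.imp fun s hs => by omega)) π₁ hsurj hc₁ (φ.comp θ)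
      fun p hp hpc => cover_splits_big S hbig (bigData hD) p hp hpc
  · haveI : Finite K := by
      rcases finite_or_infinite K with h | h
      · exact h
      · obtain ⟨s, -, hs⟩ := (Set.infinite_univ (α := K)).exists_subset_card_eq 5
        exact absurd ⟨s, by omega⟩ hbig
    haveI : CharP K (ringChar K) := ringChar.charP K
    haveI hp : Fact (ringChar K).Prime := ⟨CharP.char_is_prime K (ringChar K)⟩
    haveI : CharP L (ringChar K) := hL ▸ ringChar.charP L
    have hu : D ∈ [Cfsg.Lie.chevB2, Cfsg.Lie.chevG2] → ∃ u : Kˣ, u ≠ 1 := fun h => by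
      obtain ⟨x, h0, h1⟩ := hK h
      exact ⟨Units.mk0 x h0, fun e => h1 (congrArg Units.val e)⟩
    obtain ⟨tab, hfund⟩ : ∃ tab, ∀ i : Fin D.rank, Moves D (D.scGen K) (D.simple i) ∨
        ∃ Cs : List ℤ, (∀ C ∈ Cs, (C : K) ≠ 0) ∧
          DecOk D (D.simple i) (D.simple i) (tabEntry tab i (D.simple i)) Cs := by
      have big : ∀ {tab}, SelfData D tab → ∃ tab, ∀ i : Fin D.rank, Moves D (D.scGen K) (D.simple i) ∨
          ∃ Cs : List ℤ, (∀ C ∈ Cs, (C : K) ≠ 0) ∧
            DecOk D (D.simple i) (D.simple i) (tabEntry tab i (D.simple i)) Cs := fun {tab} h =>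
        ⟨tab, fun i => fund_cases (coverSys K S) hu (liftFund_of_selfData h i i.2) fun _ => (h i i.2).1⟩
      simp only [List.mem_cons, List.not_mem_nil, or_false] at hD
      rcases hD with rfl | rfl | rfl | rfl | rfl | rfl | rfl
      · exact ⟨[], fun i => fund_cases (coverSys K S) hu (liftFundG2 i i.2) fun h => absurd (by simp) h⟩
      · exact ⟨decTabB2, fun i => fund_cases (coverSys K S) hu (liftFundB2 i i.2) fun h => absurd (by simp) h⟩
      · exact big selfDataD4
      · exact big selfDataF4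
      · exact big selfDataE6
      · exact big selfDataE7
      · exact big selfDataE8
    -- the fibre product
    let R := (π₁.comp (MonoidHom.fst (GL (Fin n) L) (D.SteinbergCover K))).eqLocus
      ((φ.comp θ).comp (MonoidHom.snd (GL (Fin n) L) (D.SteinbergCover K)))
    let p : R →* D.SteinbergCover K := (MonoidHom.snd _ _).comp R.subtype
    have hker : ∀ z : R, p z = 1 → (z : GL (Fin n) L × D.SteinbergCover K).1 ∈ Subgroup.center (GL (Fin n) L) := by
      rintro ⟨⟨e, g⟩, hg⟩ h
      have hg' : π₁ e = φ (θ g) := hg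
      rw [show g = 1 from h, map_one, map_one] at hg'
      exact hc₁ (MonoidHom.mem_ker.2 hg')
    obtain ⟨s, hs⟩ := cover_splits_pfree S hfund p
      (fun g => by
        obtain ⟨e, he⟩ := hsurj (φ (θ g))
        exact ⟨⟨(e, g), he⟩, rfl⟩)
      (fun z hz => Subgroup.mem_center_iff.2 fun w => Subtype.ext (Prod.ext
        (Subgroup.mem_center_iff.1 (hker z (MonoidHom.mem_ker.1 hz)) _)
        (by
          have h1 : (z : GL (Fin n) L × D.SteinbergCover K).2 = 1 := MonoidHom.mem_ker.1 hz
          show (w : GL (Fin n) L × D.SteinbergCover K).2 * _ = _ * _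
          rw [h1, mul_one, one_mul])))
      (ringChar.Nat.cast_ringChar (R := K)) (fun z hz hzp => Subtype.ext (Prod.ext
        (center_pfree (hker z hz) (congrArg (fun w : R => (w : GL (Fin n) L × D.SteinbergCover K).1) hzp)) hz))
    have hτ : π₁.comp ((MonoidHom.fst _ _).comp (R.subtype.comp s)) = φ.comp θ := MonoidHom.ext fun x => by
      have h1 : π₁ (s x : GL (Fin n) L × D.SteinbergCover K).1 =
          (φ.comp θ) (s x : GL (Fin n) L × D.SteinbergCover K).2 := (s x).2
      rw [show (s x : GL (Fin n) L × D.SteinbergCover K).2 = x from DFunLike.congr_fun hs x] at h1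
      exact h1
    exact ⟨_, hτ, fun τ h => lift_unique (cover_perfect_fund S hfund) π₁ hc₁ (h.trans hτ.symm)⟩

end Cfsg.Agent.S2399
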