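import Cfsg.Statements.S2400
import Cfsg.Agent.S2397
import Cfsg.Agent.Lib.Steinberg.Multiplier
import Cfsg.Agent.Lib.Steinberg.Lift.Mid
import Cfsg.Agent.Lib.Steinberg.Lift.E2
import Cfsg.Agent.Lib.Steinberg.Lift.Small

set_option autoImplicit false
open Cfsg

namespace Cfsg.Agent.S2400

open CfsgLib.Steinberg

theorem twoElem_of_card {K : Type*} [Field K] [Fintype K] (h : Fintype.card K ≤ 2) : TwoElem K := fun t => by
  classical
  by_contra hcon
  push Not at hcon
  have : ({0, 1, t} : Finset K).card ≤ 2 := le_trans (Finset.card_le_univ _) h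
  rw [Finset.card_insert_of_notMem (by simp [hcon.1.symm]),
    Finset.card_insert_of_notMem (by simp [hcon.2.symm]), Finset.card_singleton] at this
  omega

theorem three_of_card {K : Type*} [Field K] [Fintype K] (h : Fintype.card K = 3) :
    ThreeElem K ∧ (3 : K) = 0 := by
  classical
  have h30 : (3 : K) = 0 := by
    have := FiniteField.cast_card_eq_zero K
    rw [h] at this
    exact_mod_cast this
  have hne : (-1 : K) ≠ 1 := fun e => one_ne_zero (show (1 : K) = 0 by linear_combination h30 + e)
  refine ⟨fun t => ?_, h30⟩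
  by_contra hcon
  push Not at hcon
  have : ({0, 1, -1, t} : Finset K).card ≤ 3 := le_trans (Finset.card_le_univ _) h.le
  rw [Finset.card_insert_of_notMem (by simp [hcon.1.symm]),
    Finset.card_insert_of_notMem (by simp [hne.symm, hcon.2.1.symm]),
    Finset.card_insert_of_notMem (by simp [hcon.2.2.symm]), Finset.card_singleton] at this
  omega

/-- Over a finite field `K`, the group presented by Steinberg's relators (R1)–(R3) (the universal Chevalley group) of type E₆ or E₇, or of type B₂ or D₄ with `K` of more than two elements, has trivial Schur multiplier: every finite stem extension of it is an isomorphism (Schur multiplier described through stem extensions as in the definitions). Types G₂, F₄ and E₈ are not covered here. -/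
theorem result {K : Type*} [Field K] [Fintype K] (e : Cfsg.Lie.ChevalleyDatum × ℕ)
    (he : e ∈ [(Cfsg.Lie.chevE6, 0), (Cfsg.Lie.chevE7, 0), (Cfsg.Lie.chevB2, 2), (Cfsg.Lie.chevD4, 2)]) (hK : Fintype.card K ≠ e.2) :
    Cfsg.HasCyclicSchurMultiplier (e.1.SteinbergGroup K) 1 := by
  have hD : e.1 ∈ [Cfsg.Lie.chevG2, Cfsg.Lie.chevB2, Cfsg.Lie.chevD4, Cfsg.Lie.chevF4, Cfsg.Lie.chevE6,
      Cfsg.Lie.chevE7, Cfsg.Lie.chevE8] := by
    simp only [List.mem_cons, List.not_mem_nil, or_false] at he ⊢
    rcases he with rfl | rfl | rfl | rfl <;> simp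
  obtain ⟨T, S⟩ := exists_setup hD
  have h1 : 1 < Fintype.card K := Fintype.one_lt_card
  have big : ∀ k, k < Fintype.card K → ∃ s : Finset K, k < s.card := fun k hk =>
    ⟨Finset.univ, by rwa [Finset.card_univ]⟩
  have key : commutator (e.1.SteinbergCover K) = ⊤ ∧ CoverSplits e.1 K := by
    simp only [List.mem_cons, List.not_mem_nil, or_false] at he
    rcases he with rfl | rfl | rfl | rfl
    · rcases Nat.lt_or_ge 2 (Fintype.card K) with h | h
      · exact ⟨cover_perfect_mid S selfDataE6 (big 2 h),
          fun _ _ p hp hpc => coverSplits_mid S selfDataE6 pairDataE6 (big 2 h) p hp hpc⟩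
      · exact ⟨cover_perfect_two S (twoElem_of_card h) twoDataE6,
          fun _ _ p hp hpc => coverSplits_two S (twoElem_of_card h) twoDataE6 p hp hpc⟩
    · rcases Nat.lt_or_ge 2 (Fintype.card K) with h | h
      · exact ⟨cover_perfect_mid S selfDataE7 (big 2 h),
          fun _ _ p hp hpc => coverSplits_mid S selfDataE7 pairDataE7 (big 2 h) p hp hpc⟩
      · exact ⟨cover_perfect_two S (twoElem_of_card h) twoDataE7,
          fun _ _ p hp hpc => coverSplits_two S (twoElem_of_card h) twoDataE7 p hp hpc⟩
    · obtain ⟨u, hu⟩ := exists_unit_ne_one (big 2 (by simp only at hK; omega))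
      refine ⟨cover_perfect_B2 S hu, ?_⟩
      rcases (show Fintype.card K = 3 ∨ Fintype.card K = 4 ∨ 4 < Fintype.card K by simp only at hK; omega) with h | h | h
      · exact fun _ _ p hp hpc => coverSplits_B2_three S (three_of_card h).1 (three_of_card h).2 p hp hpc
      · have h20 : (2 : K) = 0 := by
          have := FiniteField.cast_card_eq_zero K
          rw [h] at this
          have h4 : (2 : K) * 2 = 0 := by rw [← this]; norm_num
          simpa using h4
        exact fun _ _ p hp hpc => coverSplits_B2_four S h20 (big 3 (by omega)) p hp hpc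
      · exact coverSplits_big S bigDataB2 (big 4 h)
    · simp only at hK
      refine ⟨cover_perfect_mid S selfDataD4 (big 2 (by omega)), fun _ _ p hp hpc =>
        coverSplits_D4 S (big 2 (by omega)) ?_ p hp hpc⟩
      rcases (show Fintype.card K = 3 ∨ 3 < Fintype.card K by omega) with h | h
      · exact Or.inr (three_of_card h)
      · exact Or.inl (exists_pow_ne_one two_pos (big 3 h))
  obtain ⟨eqv, -⟩ := Cfsg.Agent.S2397.result (K := K) e.1 hD fun hB => by
    obtain ⟨u, hu⟩ : ∃ u : Kˣ, u ≠ 1 := by
      refine exists_unit_ne_one (big 2 ?_)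
      simp only [List.mem_cons, List.not_mem_nil, or_false] at he
      rcases he with rfl | rfl | rfl | rfl
      · simp [Cfsg.Lie.chevE6, Cfsg.Lie.chevB2, Cfsg.Lie.chevG2] at hB
      · simp [Cfsg.Lie.chevE7, Cfsg.Lie.chevB2, Cfsg.Lie.chevG2] at hB
      · simp only at hK; omega
      · simp only at hK; omega
    exact ⟨(u : K), u.ne_zero, fun e => hu (Units.ext e)⟩
  haveI : Finite (e.1.SteinbergCover K) := (coverSys K S).finite_of_gen (cover_top K)
  have hker : eqv.toMonoidHom.ker = ⊥ := (MonoidHom.ker_eq_bot_iff _).2 eqv.injective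
  haveI : Unique eqv.toMonoidHom.ker := ⟨⟨1⟩, fun g => Subtype.ext (
    Subgroup.mem_bot.1 (hker.le g.2))⟩
  haveI : Unique (Multiplicative (ZMod 1)) := ⟨⟨1⟩, fun a => Subsingleton.elim a 1⟩
  exact CfsgLib.SLCover.hasSchurMultiplier_of_closed eqv.toMonoidHom eqv.surjective (by rw [hker]; exact bot_le) key.1
    (fun E _ _ p hp hpc hE => by
      obtain ⟨s, hs⟩ := key.2 E p hp hpc
      exact injective_of_split p hpc hE hs) (MulEquiv.ofUnique)

end Cfsg.Agent.S2400
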