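import Cfsg.Statements.S2402
import Cfsg.Agent.Lib.SLGen.Cyclic

set_option autoImplicit false
open Cfsg

namespace Cfsg.Agent.S2402

theorem key {G : Type*} [Group G] (h u g : G) (hc : h * g = g * h) :
    h * (u * g) * h⁻¹ * (u * g)⁻¹ = h * u * h⁻¹ * u⁻¹ := by
  have hg : g * h⁻¹ * g⁻¹ = h⁻¹ := by
    rw [mul_inv_eq_iff_eq_mul, eq_inv_mul_iff_mul_eq, ← mul_assoc, hc, mul_assoc, mul_inv_cancel,
      mul_one]
  calc h * (u * g) * h⁻¹ * (u * g)⁻¹ = h * u * (g * h⁻¹ * g⁻¹) * u⁻¹ := by group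
    _ = _ := by rw [hg]

open CfsgLib.SLGen

/-- Explicit two-element generation of `PSL_{n+1}(K)` for a finite field `K` with more than three elements: let `k` generate the multiplicative group of `K`, `h = diag(k, k⁻¹, 1, …, 1)`, `x = 1 + E₁₂` (the elementary transvection) and `w` the monomial matrix with entries `1` in positions `(i, i+1)` and `(−1)^n` in position `(n+1, 1)`. Then `h` and `x·w` generate `SL_{n+1}(K)` modulo its centre: the subgroup they generate together with the centre is everything. -/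
theorem result {K : Type*} [Field K] [Fintype K] (hK : 3 < Fintype.card K) (n : ℕ) (hn : 1 ≤ n)
    (k : Kˣ) (hk : ∀ u : Kˣ, u ∈ Subgroup.zpowers k)
    (h x w : Matrix.SpecialLinearGroup (Fin (n + 1)) K)
    (hh : (h : Matrix (Fin (n + 1)) (Fin (n + 1)) K) =
      Matrix.diagonal (fun i => if i.val = 0 then (k : K) else if i.val = 1 then ((k⁻¹ : Kˣ) : K) else 1))
    (hx : (x : Matrix (Fin (n + 1)) (Fin (n + 1)) K) = Matrix.transvection (0 : Fin (n + 1)) (1 : Fin (n + 1)) 1)
    (hw : (w : Matrix (Fin (n + 1)) (Fin (n + 1)) K) =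
      Matrix.of (fun i j => if j.val = i.val + 1 then 1 else if i.val = n ∧ j.val = 0 then (-1) ^ n else 0)) :
    Subgroup.closure ({h, x * w} : Set (Matrix.SpecialLinearGroup (Fin (n + 1)) K)) ⊔
      Subgroup.center (Matrix.SpecialLinearGroup (Fin (n + 1)) K) = ⊤ := by
  obtain ⟨m, rfl⟩ : ∃ m, n = m + 1 := ⟨n - 1, by omega⟩
  have h01 : (0 : Fin (m + 1 + 1)) ≠ 1 := by simp
  set H := Subgroup.closure ({h, x * w} : Set (Matrix.SpecialLinearGroup (Fin (m + 1 + 1)) K)) ⊔
      Subgroup.center (Matrix.SpecialLinearGroup (Fin (m + 1 + 1)) K) with hH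
  have hhH : h ∈ H := Subgroup.mem_sup_left (Subgroup.subset_closure (Set.mem_insert _ _))
  have hyH : x * w ∈ H :=
    Subgroup.mem_sup_left (Subgroup.subset_closure (Set.mem_insert_of_mem _ rfl))
  rw [CfsgLib.SLGen.monomial_matrix_eq] at hw
  set s : Fin (m + 1 + 1) → K := fun a => if a.val = m + 1 then (-1) ^ (m + 1) else 1 with hs
  have hs0 : ∀ a, s a ≠ 0 := fun a => by simp only [hs]; split <;> simp
  set d : Fin (m + 1 + 1) → K :=
    fun i => if i.val = 0 then (k : K) else if i.val = 1 then ((k⁻¹ : Kˣ) : K) else 1 with hd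
  have hxv : x = tv h01 1 := Subtype.ext hx
  -- the conjugate of `h` by `w`
  have hh' : ((w * h * w⁻¹ : Matrix.SpecialLinearGroup (Fin (m + 1 + 1)) K) : Matrix _ _ K) =
      Matrix.diagonal (fun i => d (i + 1)) := by
    have e : (w : Matrix _ _ K) * (h : Matrix _ _ K) = Matrix.diagonal (fun i => d (i + 1)) * (w : Matrix _ _ K) := by
      rw [hw, hh]
      ext a b
      rw [Matrix.mul_diagonal, Matrix.diagonal_mul]
      simp only [Matrix.of_apply]
      split
      · next he => rw [he, mul_comm]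
      · simp
    rw [Matrix.SpecialLinearGroup.coe_mul, Matrix.SpecialLinearGroup.coe_mul, e, Matrix.mul_assoc]
    rw [← Matrix.SpecialLinearGroup.coe_mul, mul_inv_cancel, Matrix.SpecialLinearGroup.coe_one,
      Matrix.mul_one]
  -- orders
  have hk1 : (k : K) ^ 2 ≠ 1 := by
    intro h2
    have h2' : k ^ 2 = 1 := Units.ext (by simpa using h2)
    have hle : orderOf k ≤ 2 := Nat.le_of_dvd (by norm_num) (orderOf_dvd_of_pow_eq_one h2')
    rw [orderOf_eq_card_of_forall_mem_zpowers hk, Nat.card_units, Nat.card_eq_fintype_card] at hle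
    omega
  have hkk : (k : K) ≠ 0 := k.ne_zero
  set r : K := d (0 + 1) / d (1 + 1) with hr
  have hd1 : d (0 + 1) = (k : K)⁻¹ := by simp [hd]
  have hd0 : ∀ i, d i ≠ 0 := fun i => by simp only [hd]; split_ifs <;> simp
  have hr1 : r ≠ 1 := by
    rw [hr, Ne, div_eq_one_iff_eq (hd0 _), hd1]
    intro he
    apply hk1
    rcases Nat.eq_zero_or_pos m with rfl | hm
    · have h2 : d (1 + 1) = (k : K) := by simp [hd]
      rw [h2] at he
      rw [pow_two]
      nth_rewrite 1 [← he]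
      exact inv_mul_cancel₀ hkk
    · have h2 : d (1 + 1) = 1 := by
        obtain ⟨m', rfl⟩ : ∃ m', m = m' + 1 := ⟨m - 1, by omega⟩
        have e2 : ((1 + 1 : Fin (m' + 1 + 1 + 1)) : ℕ) = 2 := by rw [Fin.val_add, Fin.val_one]; exact Nat.mod_eq_of_lt (by omega)
        simp only [hd, e2]
        simp
      rw [h2, inv_eq_one] at he
      simp [he]
  have hconj' : ∀ c, (w * h * w⁻¹) * tv h01 c * (w * h * w⁻¹)⁻¹ = tv h01 (r * c) := fun c => by
    rw [diag_conj_tv _ _ hh' h01, hr, div_mul_eq_mul_div]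
  have hconj : ∀ c, h * tv h01 c * h⁻¹ = tv h01 ((k : K) ^ 2 * c) := fun c => by
    rw [diag_conj_tv h d hh h01]
    congr 1
    simp [hd]
    field_simp
  -- one non-trivial element of `X₀₁`
  have hg : tv h01 (1 - r) * (w * h * w⁻¹) ∈ H := by
    have e : tv h01 (1 - r) * (w * h * w⁻¹) = (x * w) * h * (x * w)⁻¹ := by
      rw [hxv, sub_eq_add_neg, show tv h01 (1 + -r) = tv h01 1 * tv h01 (-r) from
        Matrix.SpecialLinearGroup.transvection_add _ _ _]
      have h2 : tv h01 (-r) = ((w * h * w⁻¹) * tv h01 1 * (w * h * w⁻¹)⁻¹)⁻¹ := by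
        rw [hconj', mul_one, Matrix.SpecialLinearGroup.transvection_inv]
      rw [h2]
      group
    rw [e]
    exact mul_mem (mul_mem hyH hhH) (inv_mem hyH)
  have hcomm : h * (w * h * w⁻¹) = (w * h * w⁻¹) * h := by
    apply Subtype.ext
    rw [Matrix.SpecialLinearGroup.coe_mul h (w * h * w⁻¹),
      Matrix.SpecialLinearGroup.coe_mul (w * h * w⁻¹) h, hh', hh, Matrix.diagonal_mul_diagonal,
      Matrix.diagonal_mul_diagonal]
    simp [mul_comm]
  set c₀ : K := ((k : K) ^ 2 - 1) * (1 - r) with hc₀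
  have hc₀0 : c₀ ≠ 0 := mul_ne_zero (sub_ne_zero.2 hk1) (sub_ne_zero.2 hr1.symm)
  have hmem₀ : tv h01 c₀ ∈ H := by
    have e : tv h01 c₀ = h * (tv h01 (1 - r) * (w * h * w⁻¹)) * h⁻¹ *
        (tv h01 (1 - r) * (w * h * w⁻¹))⁻¹ := by
      calc tv h01 c₀ = tv h01 ((k : K) ^ 2 * (1 - r)) * (tv h01 (1 - r))⁻¹ := by
            rw [Matrix.SpecialLinearGroup.transvection_inv,
              ← Matrix.SpecialLinearGroup.transvection_add]
            congr 1
            rw [hc₀]
            ring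
        _ = h * tv h01 (1 - r) * h⁻¹ * (tv h01 (1 - r))⁻¹ := by rw [hconj]
        _ = _ := (key _ _ _ hcomm).symm
    rw [e]
    exact mul_mem (mul_mem (mul_mem hhH hg) (inv_mem hhH)) (inv_mem hg)
  have hpow : ∀ (i : ℕ), tv h01 (((k : K) ^ i) ^ 2 * c₀) ∈ H := by
    intro i
    induction i with
    | zero => simpa using hmem₀
    | succ i ih =>
      have e : ((k : K) ^ (i + 1)) ^ 2 * c₀ = (k : K) ^ 2 * (((k : K) ^ i) ^ 2 * c₀) := by ring
      rw [e, ← hconj]
      exact mul_mem (mul_mem hhH ih) (inv_mem hhH)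
  have hsq : ∀ b : K, tv h01 (b ^ 2 * c₀) ∈ H := by
    intro b
    by_cases hb : b = 0
    · simp [hb, tv]
    · obtain ⟨i, hi⟩ := Submonoid.mem_powers_iff _ _ |>.1
        (mem_powers_iff_mem_zpowers.2 (hk (Units.mk0 b hb)))
      have := hpow i
      rwa [← Units.val_pow_eq_pow_val, hi, Units.val_mk0] at this
  have hX : ∀ c : K, tv h01 c ∈ H := by
    intro c
    obtain ⟨p, hp⟩ := CharP.exists K
    have := Fact.mk (CharP.char_is_prime K p)
    obtain ⟨b₁, b₂, hb⟩ : ∃ b₁ b₂ : K, b₁ ^ 2 + b₂ ^ 2 = c / c₀ := by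
      rcases eq_or_ne p 2 with rfl | hp2
      · obtain ⟨b, hb⟩ := FiniteField.isSquare_of_char_two (F := K) (ringChar.eq K 2) (c / c₀)
        exact ⟨b, 0, by rw [hb]; ring⟩
      · obtain ⟨b₁, b₂, hb⟩ := FiniteField.exists_root_sum_quadratic (R := K) (f := Polynomial.X ^ 2)
          (g := Polynomial.X ^ 2 - Polynomial.C (c / c₀)) (Polynomial.degree_X_pow 2)
          (Polynomial.degree_X_pow_sub_C (by decide) _)
          (FiniteField.odd_card_of_char_ne_two (by rw [ringChar.eq K p]; exact hp2))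
        exact ⟨b₁, b₂, by linear_combination (by simpa using hb : b₁ ^ 2 + (b₂ ^ 2 - c / c₀) = 0)⟩
    have e : c = b₁ ^ 2 * c₀ + b₂ ^ 2 * c₀ := by rw [← add_mul, hb, div_mul_cancel₀ _ hc₀0]
    rw [e]
    change Matrix.SpecialLinearGroup.transvection h01 _ ∈ H
    rw [Matrix.SpecialLinearGroup.transvection_add]
    exact mul_mem (hsq b₁) (hsq b₂)
  refine eq_top_of_mem H w ?_ s hs0 hw h01 hX
  have e : w = x⁻¹ * (x * w) := by group
  rw [e, hxv]
  exact mul_mem (inv_mem (hX 1)) (hxv ▸ hyH)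

end Cfsg.Agent.S2402
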