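import Cfsg.Statements.S2403
import Cfsg.Agent.Lib.SLGen.Cyclic

set_option autoImplicit false
open Cfsg

namespace Cfsg.Agent.S2403

open CfsgLib.SLGen

/-- Explicit two-element generation of `PSL_{n+1}(K)` over the fields with two or three elements: with `x = 1 + E₁₂` and `w` the monomial matrix with entries `1` in positions `(i, i+1)` and `(−1)^n` in position `(n+1, 1)`, the elements `x` and `w` generate `SL_{n+1}(K)` modulo its centre. -/
theorem result {K : Type*} [Field K] [Fintype K] (hK : Fintype.card K ≤ 3) (n : ℕ) (hn : 1 ≤ n)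
    (x w : Matrix.SpecialLinearGroup (Fin (n + 1)) K)
    (hx : (x : Matrix (Fin (n + 1)) (Fin (n + 1)) K) = Matrix.transvection (0 : Fin (n + 1)) (1 : Fin (n + 1)) 1)
    (hw : (w : Matrix (Fin (n + 1)) (Fin (n + 1)) K) =
      Matrix.of (fun i j => if j.val = i.val + 1 then 1 else if i.val = n ∧ j.val = 0 then (-1) ^ n else 0)) :
    Subgroup.closure ({x, w} : Set (Matrix.SpecialLinearGroup (Fin (n + 1)) K)) ⊔
      Subgroup.center (Matrix.SpecialLinearGroup (Fin (n + 1)) K) = ⊤ := by
  obtain ⟨m, rfl⟩ : ∃ m, n = m + 1 := ⟨n - 1, by omega⟩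
  have h01 : (0 : Fin (m + 1 + 1)) ≠ 1 := by simp
  set H := Subgroup.closure ({x, w} : Set (Matrix.SpecialLinearGroup (Fin (m + 1 + 1)) K)) ⊔
      Subgroup.center (Matrix.SpecialLinearGroup (Fin (m + 1 + 1)) K) with hH
  have hxH : x ∈ H := Subgroup.mem_sup_left (Subgroup.subset_closure (Set.mem_insert _ _))
  have hwH : w ∈ H :=
    Subgroup.mem_sup_left (Subgroup.subset_closure (Set.mem_insert_of_mem _ rfl))
  rw [CfsgLib.SLGen.monomial_matrix_eq] at hw
  have hxv : x = tv h01 1 := Subtype.ext hx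
  refine eq_top_of_mem H w hwH _ (fun a => by split <;> simp) hw h01 fun c => ?_
  obtain ⟨p, hp⟩ := CharP.exists K
  have := Fact.mk (CharP.char_is_prime K p)
  obtain ⟨e, hpp, he⟩ := FiniteField.card K p
  have hcard : Fintype.card K = p := by
    have he1 : (e : ℕ) = 1 := by
      by_contra hne
      have h4 : p ^ 2 ≤ p ^ (e : ℕ) := Nat.pow_le_pow_right hpp.pos (by have := e.pos; omega)
      have := hpp.two_le
      nlinarith
    rw [he, he1, pow_one]
  obtain ⟨b, rfl⟩ : ∃ b : ℕ, c = (b : K) := by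
    obtain ⟨z, hz⟩ := ((Fintype.bijective_iff_injective_and_card (ZMod.castHom (dvd_refl p) K)).2
      ⟨ZMod.castHom_injective _, by rw [ZMod.card, hcard]⟩).2 c
    exact ⟨z.val, by rw [← hz, ← map_natCast (ZMod.castHom (dvd_refl p) K), ZMod.natCast_zmod_val]⟩
  induction b with
  | zero => simp [tv]
  | succ b ih =>
    rw [Nat.cast_succ]
    change Matrix.SpecialLinearGroup.transvection h01 _ ∈ H
    rw [Matrix.SpecialLinearGroup.transvection_add]
    exact mul_mem ih (by rw [hxv] at hxH; exact hxH)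

end Cfsg.Agent.S2403
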