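import Cfsg.Statements.S2405
import Cfsg.Agent.Lib.ChevGen.Data.B2
import Cfsg.Agent.Lib.ChevGen.Data.G2
import Cfsg.Agent.Lib.ChevGen.Data.D4
import Cfsg.Agent.Lib.ChevGen.Data.F4
import Cfsg.Agent.Lib.ChevGen.Data.E6
import Cfsg.Agent.Lib.ChevGen.Data.E7
import Cfsg.Agent.Lib.ChevGen.Data.E8

set_option autoImplicit false
open Cfsg

namespace Cfsg.Agent.S2405

/-- Each Chevalley group of type G₂, B₂, D₄, F₄, E₆, E₇ or E₈ over a finite field is generated by two of its elements (types B₂ and G₂ over the field with two elements, where the group is not simple, excepted). -/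
theorem result {F : Type*} [Field F] [Finite F] (D : Cfsg.Lie.ChevalleyDatum) (hD : D ∈ [Cfsg.Lie.chevG2, Cfsg.Lie.chevB2, Cfsg.Lie.chevD4, Cfsg.Lie.chevF4, Cfsg.Lie.chevE6, Cfsg.Lie.chevE7, Cfsg.Lie.chevE8])
    (hF : D ∈ [Cfsg.Lie.chevB2, Cfsg.Lie.chevG2] → ∃ x : F, x ≠ 0 ∧ x ≠ 1) :
    ∃ a b : ↥(D.group F), Subgroup.closure ({a, b} : Set ↥(D.group F)) = ⊤ := by
  simp only [List.mem_cons, List.not_mem_nil, or_false] at hD
  open CfsgLib.Chev CfsgLib.ChevGen in
  by_cases h2 : ∃ x : F, x ≠ 0 ∧ x ≠ 1
  · rcases hD with rfl | rfl | rfl | rfl | rfl | rfl | rfl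
    · exact DataG2.large G2.checked (commOne_of_wordCheck G2.checked G2.comm_ok) h2
    · exact DataB2.large B2.checked (commOne_of_commCheck B2.checked B2.comm_ok B2.short_ok) h2
    · exact DataD4.large D4.checked (commOne_of_commCheck D4.checked D4.comm_ok D4.short_ok) h2
    · exact DataF4.large F4.checked (commOne_of_commCheck F4.checked F4.comm_ok F4.short_ok) h2
    · exact DataE6.large E6.checked (commOne_of_commCheck E6.checked E6.comm_ok E6.short_ok) h2
    · exact DataE7.large E7.checked (commOne_of_commCheck E7.checked E7.comm_ok E7.short_ok) h2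
    · exact DataE8.large E8.checked (commOne_of_commCheck E8.checked E8.comm_ok E8.short_ok) h2
  · have h2' : ∀ x : F, x ≠ 0 → x = 1 := fun x hx => by
      by_contra h1
      exact h2 ⟨x, hx, h1⟩
    rcases hD with rfl | rfl | rfl | rfl | rfl | rfl | rfl
    · exact absurd (hF (by simp)) h2
    · exact absurd (hF (by simp)) h2
    · exact DataD4.small D4.checked (commOne_of_commCheck D4.checked D4.comm_ok D4.short_ok) h2'
    · exact DataF4.small F4.checked (commOne_of_commCheck F4.checked F4.comm_ok F4.short_ok) h2'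
    · exact DataE6.small E6.checked (commOne_of_commCheck E6.checked E6.comm_ok E6.short_ok) h2'
    · exact DataE7.small E7.checked (commOne_of_commCheck E7.checked E7.comm_ok E7.short_ok) h2'
    · exact DataE8.small E8.checked (commOne_of_commCheck E8.checked E8.comm_ok E8.short_ok) h2'

end Cfsg.Agent.S2405
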