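import Cfsg.Statements.S2408
import Cfsg.Agent.Lib.Twisted.F4TwoGen
-- import your own Cfsg.Agent.* helpers here

set_option autoImplicit false
open Cfsg

namespace Cfsg.Agent.S2408

/-- The large Ree group ²F₄(2^(2m+1)) with `m ≥ 1` is generated by two of its elements. -/
theorem result {K : Type*} [Field K] [Fintype K] {m : ℕ} (hm : 1 ≤ m) (hK : Fintype.card K = 2 ^ (2 * m + 1)) :
    ∃ a b : ↥(Cfsg.Lie.twistedF4 K (2 ^ m)), Subgroup.closure ({a, b} : Set ↥(Cfsg.Lie.twistedF4 K (2 ^ m))) = ⊤ := by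
  classical
  obtain ⟨σ, hσ⟩ := CfsgLib.ReeF4.exists_sigma hK
  obtain ⟨ω, hω⟩ := IsCyclic.exists_generator (α := Kˣ)
  have hle := CfsgLib.ReeF4.two_generated hσ hm hω
  have ha := CfsgLib.ReeF4.tau_mem hσ ω
  have hb := mul_mem (mul_mem (CfsgLib.ReeF4.pairX_mem hσ (1 : K)) (CfsgLib.ReeF4.quadX_mem hσ (1 : K) 0))
    (CfsgLib.ReeF4.nu_mem hσ false 8)
  refine ⟨⟨_, ha⟩, ⟨_, hb⟩, Subgroup.map_injective (Cfsg.Lie.twistedF4 K (2 ^ m)).subtype_injective ?_⟩
  rw [MonoidHom.map_closure, Set.image_pair, ← MonoidHom.range_eq_map, Subgroup.range_subtype]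
  refine le_antisymm ((Subgroup.closure_le _).2 ?_) hle
  rintro x (rfl | rfl)
  · exact ha
  · exact hb

end Cfsg.Agent.S2408
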