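import Cfsg.Statements.S2409
import Cfsg.Agent.Lib.ReeG2.TwoGen

set_option autoImplicit false
open Cfsg

namespace Cfsg.Agent.S2409

/-- The small Ree group ²G₂(3^(2m+1)) with `m ≥ 1` is generated by two of its elements. -/
theorem result {K : Type*} [Field K] [Fintype K] {m : ℕ} (hm : 1 ≤ m) (hK : Fintype.card K = 3 ^ (2 * m + 1)) :
    ∃ a b : ↥(Cfsg.Lie.twistedG2 K (3 ^ m)), Subgroup.closure ({a, b} : Set ↥(Cfsg.Lie.twistedG2 K (3 ^ m))) = ⊤ := by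
  obtain ⟨_, θ, hθ, hθe⟩ := CfsgLib.ReeG2.exists_theta hK
  have hG : Cfsg.Lie.twistedG2 K (3 ^ m) = CfsgLib.ReeG2.fixG θ := CfsgLib.ReeG2.model hθ hθe
  have hq : 3 < Fintype.card K := by
    rw [hK]
    calc 3 = 3 ^ 1 := by norm_num
      _ < 3 ^ (2 * m + 1) := Nat.pow_lt_pow_right (by norm_num) (by omega)
  obtain ⟨ω, hω⟩ := IsCyclic.exists_generator (α := Kˣ)
  have hle := CfsgLib.ReeG2.genG_le_closure hθ hq ω hω
  rw [← CfsgLib.ReeG2.twistedG2_eq_genG hθe] at hle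
  have ha : CfsgLib.ReeG2.hh θ ω ∈ Cfsg.Lie.twistedG2 K (3 ^ m) :=
    hG ▸ CfsgLib.ReeG2.hh_mem_fixG hθ ω
  have hb : CfsgLib.ReeG2.ru θ 1 0 0 * CfsgLib.ReeG2.n0 K ∈ Cfsg.Lie.twistedG2 K (3 ^ m) :=
    hG ▸ mul_mem (CfsgLib.ReeG2.ru_mem_fixG hθ 1 0 0) (CfsgLib.ReeG2.n0_mem_fixG hθ)
  refine ⟨⟨_, ha⟩, ⟨_, hb⟩, Subgroup.map_injective (Cfsg.Lie.twistedG2 K (3 ^ m)).subtype_injective ?_⟩
  rw [MonoidHom.map_closure, Set.image_pair, ← MonoidHom.range_eq_map, Subgroup.range_subtype]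
  refine le_antisymm ((Subgroup.closure_le _).2 ?_) hle
  rintro x (rfl | rfl)
  · exact ha
  · exact hb

end Cfsg.Agent.S2409
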