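import Cfsg.Statements.S2416
import Cfsg.Agent.Lib.ChevGen.Orbit
import Cfsg.Agent.Lib.Chev.All

set_option autoImplicit false
open scoped MatrixGroups
open Cfsg

namespace Cfsg.Agent.S2416

open Cfsg.Lie CfsgLib.Chev CfsgLib.ChevGen

/-- Every short node reaches `i0`. -/
def shortTo (D : ChevalleyDatum) (i0 : ℕ) : Bool :=
  (List.range D.rank).all fun i => D.isLong (D.simple i) || (reach D [i] D.rank).contains i0

theorem short_reach {D : ChevalleyDatum} {i0 i : ℕ} (h : shortTo D i0 = true) (hi : i < D.rank)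
    (hs : D.isLong (D.simple i) = false) : i0 ∈ reach D [i] D.rank := by
  simp only [shortTo, List.all_eq_true, List.mem_range, Bool.or_eq_true, List.contains_iff_mem] at h
  rcases h i hi with h | h
  · rw [hs] at h; exact absurd h (by simp)
  · exact h

theorem two_lengths {D : ChevalleyDatum} {T : Tabs} (hc : Checked D T) {K : Type*} [Field K]
    (i0 j0 : Fin D.rank) (hij : i0 ≠ j0) {s : ℕ} {c : ℤ} (hsto : shortTo D i0 = true)
    (hcov : covered D [(i0 : ℕ), (j0 : ℕ)] = true) (hs : s = D.reflectRoot j0 (D.simple i0) ∨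
      s = D.reflectRoot i0 (D.reflectRoot j0 (D.simple i0)))
    (h : commOne D T (D.simple i0) s (D.reflectRoot i0 (D.simple j0)) c = true) (hc0 : (c : K) ≠ 0)
    (i : ℕ) (hi : i < D.rank) (hshort : D.isLong (D.simple i) = false) :
    D.group K ≤ D.monomialSubgroup K ⊔ D.rootSubgroup K (D.simple i) := by
  set H := D.monomialSubgroup K ⊔ D.rootSubgroup K (D.simple i)
  have hn : ∀ l : Fin D.rank, elN D K (D.simple l) 1 ∈ H := fun l =>
    Subgroup.mem_sup_left (elN_mem_monomial hc (simple_lt hc l.2))
  have hi0 := mem_reach hc H hn (L := [i]) (fun l hl => by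
    simp only [List.mem_singleton] at hl
    subst hl
    exact ⟨hi, fun t => Subgroup.mem_sup_right (elX_mem_rootSubgroup hc (simple_lt hc hi) t)⟩)
    D.rank i0 (short_reach hsto hi hshort)
  have hp := simple_lt hc i0.2
  have hY1 := mem_sig hc H j0 (hn j0) hp hi0.2
  have hs' : s < D.nroots ∧ ∀ t : K, elX D K s t ∈ H := by
    rw [reflectRoot_eq hc j0 hp, reflectRoot_eq hc i0 (sig_lt hc j0 hp)] at hs
    rcases hs with rfl | rfl
    · exact ⟨sig_lt hc j0 hp, hY1⟩
    · exact ⟨sig_lt hc i0 (sig_lt hc j0 hp), mem_sig hc H i0 (hn i0) (sig_lt hc j0 hp) hY1⟩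
  refine group_le_of_covered hc H le_sup_left (L := [(i0 : ℕ), (j0 : ℕ)]) ?_ hcov
  intro l hl
  simp only [List.mem_cons, List.not_mem_nil, or_false] at hl
  rcases hl with rfl | rfl
  · exact ⟨i0.2, hi0.2⟩
  · exact ⟨j0.2, long_mem hc H i0 j0 hij (hn i0) hp hs'.1 hi0.2 hs'.2 h hc0⟩

theorem one_length {D : ChevalleyDatum} {T : Tabs} (hc : Checked D T) {K : Type*} [Field K]
    (h : ((List.range D.rank).all fun i => covered D [i]) = true) (i : ℕ) (hi : i < D.rank) :
    D.group K ≤ D.monomialSubgroup K ⊔ D.rootSubgroup K (D.simple i) := by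
  simp only [List.all_eq_true, List.mem_range] at h
  refine group_le_of_covered hc _ le_sup_left (L := [i]) ?_ (h i hi)
  intro l hl
  simp only [List.mem_singleton] at hl
  subst hl
  exact ⟨hi, fun t => Subgroup.mem_sup_right (elX_mem_rootSubgroup hc (simple_lt hc hi) t)⟩

theorem intCast_ne_zero_of_prime {K : Type*} [Field K] {p : ℕ} (hp : p.Prime) (h : ringChar K ≠ p) {c : ℤ}
    (hc : c.natAbs = p) : (c : K) ≠ 0 := by
  intro h0
  have h1 : ((p : ℤ) : K) = 0 := by
    rcases Int.natAbs_eq c with e | e <;> rw [hc] at e <;> rw [e] at h0 <;> simpa using h0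
  have h2 : ringChar K ∣ p := (ringChar.spec K p).1 (by simpa using h1)
  rcases (Nat.dvd_prime hp).1 h2 with h3 | h3
  · exact CharP.ringChar_ne_one h3
  · exact h h3

/-- A Chevalley group of type G₂, B₂, D₄, F₄, E₆, E₇ or E₈ over a finite field lies in (indeed equals) the subgroup generated by its monomial subgroup `N` and a single fundamental root subgroup `X_p`, where `p` is a short fundamental root if there are two root lengths (any fundamental root otherwise), provided the characteristic is not 2 for types B₂, F₄ and not 3 for type G₂ (and the field has more than two elements for B₂, G₂). -/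
theorem result {K : Type*} [Field K] [Finite K] (D : Cfsg.Lie.ChevalleyDatum) (hD : D ∈ [Cfsg.Lie.chevG2, Cfsg.Lie.chevB2, Cfsg.Lie.chevD4, Cfsg.Lie.chevF4, Cfsg.Lie.chevE6, Cfsg.Lie.chevE7, Cfsg.Lie.chevE8])
    (hK : D ∈ [Cfsg.Lie.chevB2, Cfsg.Lie.chevG2] → ∃ x : K, x ≠ 0 ∧ x ≠ 1)
    (h2 : D ∈ [Cfsg.Lie.chevB2, Cfsg.Lie.chevF4] → ringChar K ≠ 2) (h3 : D = Cfsg.Lie.chevG2 → ringChar K ≠ 3)
    (i : ℕ) (hi : i < D.rank) (hshort : D.isLong (D.simple i) = false) :
    D.group K ≤ D.monomialSubgroup K ⊔ D.rootSubgroup K (D.simple i) := by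
  simp only [List.mem_cons, List.not_mem_nil, or_false] at hD
  rcases hD with rfl | rfl | rfl | rfl | rfl | rfl | rfl
  · exact two_lengths G2.checked (⟨0, by decide +kernel⟩) (⟨1, by decide +kernel⟩) (by decide +kernel)
      (s := 9) (c := chevG2.chainM (chevG2.simple 0) 9 1) (by decide +kernel) (by decide +kernel)
      (Or.inr (by decide +kernel)) (by decide +kernel)
      (intCast_ne_zero_of_prime Nat.prime_three (h3 rfl) (by decide +kernel)) i hi hshort
  · exact two_lengths B2.checked (⟨0, by decide +kernel⟩) (⟨1, by decide +kernel⟩) (by decide +kernel)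
      (s := 6) (c := chevB2.chainM (chevB2.simple 0) 6 1) (by decide +kernel) (by decide +kernel)
      (Or.inl (by decide +kernel)) (by decide +kernel)
      (intCast_ne_zero_of_prime Nat.prime_two (h2 (by simp)) (by decide +kernel)) i hi hshort
  · exact one_length D4.checked (by decide +kernel) i hi
  · exact two_lengths F4.checked (⟨1, by decide +kernel⟩) (⟨2, by decide +kernel⟩) (by decide +kernel)
      (s := chevF4.reflectRoot 2 (chevF4.simple 1))
      (c := chevF4.chainM (chevF4.simple 1) (chevF4.reflectRoot 2 (chevF4.simple 1)) 1)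
      (by decide +kernel) (by decide +kernel)
      (Or.inl rfl) (by decide +kernel)
      (intCast_ne_zero_of_prime Nat.prime_two (h2 (by simp)) (by decide +kernel)) i hi hshort
  · exact one_length E6.checked (by decide +kernel) i hi
  · exact one_length E7.checked (by decide +kernel) i hi
  · exact one_length E8.checked (by decide +kernel) i hi

end Cfsg.Agent.S2416
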