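import Cfsg.Statements.S2418
import Mathlib
import Cfsg.Agent.Lib.Weyl.B2
import Cfsg.Agent.Lib.Weyl.G2
import Cfsg.Agent.Lib.Weyl.D4
import Cfsg.Agent.Lib.Weyl.F4
import Cfsg.Agent.Lib.Weyl.E6
import Cfsg.Agent.Lib.Weyl.E7
import Cfsg.Agent.Lib.Weyl.E8

set_option autoImplicit false
open Cfsg

namespace Cfsg.Agent.S2418

open CfsgLib.Weyl

variable {n : ℕ} {C : List (List ℤ)} {M : CoxeterMatrix (Fin n)}

/-- Row `i` of the Cartan matrix as a vector. -/
def rowVec (C : List (List ℤ)) (i : Fin n) : Fin n → ℤ := fun k => cmat C i k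

theorem refl_apply (i : Fin n) (v : Fin n → ℤ) : refl C i v = v - v i • rowVec C i := by
  funext k
  show v k - v i * cmat C i k = v k - v i • cmat C i k
  rw [smul_eq_mul]

/-- An element of the centre acts as a scalar `±1`. -/
theorem center_scalar (hr : repTest C M = true) (d : List ℕ)
    (hd2 : ∀ i : Fin n, cmat C i i = 2) (r : Fin n)
    (hd : ∀ k : Fin n, k = r ∨ ∃ j : Fin n, d.getD j 0 < d.getD k 0 ∧ cmat C j k ≠ 0)
    {z : M.Group} (hz : z ∈ Subgroup.center M.Group) :
    (rep hr z).1 = 1 ∨ (rep hr z).1 = -1 := by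
  set f := (rep hr z).1 with hf
  have hcomm : ∀ i : Fin n, f * refl C i = refl C i * f := by
    intro i
    rw [hf, ← rep_simple hr i, ← Units.val_mul, ← Units.val_mul, ← map_mul, ← map_mul,
      Subgroup.mem_center_iff.1 hz]
  let l : Fin n → ℤ := fun i => f (Pi.single i 1) i
  have hkey : ∀ (i : Fin n) (v : Fin n → ℤ), v i • f (rowVec C i) = f v i • rowVec C i := by
    intro i v
    have h := LinearMap.congr_fun (hcomm i) v
    simp only [Module.End.mul_apply, refl_apply, map_sub, map_smul] at h
    exact sub_right_inj.1 h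
  have hrow : ∀ i : Fin n, f (rowVec C i) = l i • rowVec C i := fun i => by
    simpa using hkey i (Pi.single i 1)
  have hdiag : ∀ (i : Fin n) (v : Fin n → ℤ), f v i = l i * v i := by
    intro i v
    have h := congrFun (hkey i v) i
    rw [hrow] at h
    simp only [Pi.smul_apply, smul_eq_mul, rowVec, hd2 i] at h
    linarith [mul_comm (v i) (l i)]
  have hedge : ∀ j k : Fin n, cmat C j k ≠ 0 → l k = l j := by
    intro j k h0
    have h := congrFun (hrow j) k
    rw [hdiag] at h
    simp only [Pi.smul_apply, smul_eq_mul, rowVec] at h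
    exact mul_right_cancel₀ h0 h
  have hall : ∀ (m : ℕ) (k : Fin n), d.getD k 0 = m → l k = l r := by
    intro m
    induction m using Nat.strong_induction_on with
    | _ m ih =>
      intro k hk
      rcases hd k with rfl | ⟨j, hj, hjk⟩
      · rfl
      · rw [hedge j k hjk]
        exact ih _ (hk ▸ hj) j rfl
  have hscal : ∀ v : Fin n → ℤ, f v = l r • v := fun v => funext fun i => by
    rw [hdiag, hall _ i rfl, Pi.smul_apply, smul_eq_mul]
  have hu : IsUnit (l r) := by
    have h : f (((rep hr z)⁻¹).1 (Pi.single r 1)) = Pi.single r 1 := by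
      rw [hf, ← Module.End.mul_apply, Units.mul_inv, Module.End.one_apply]
    rw [hscal] at h
    have h2 := congrFun h r
    simp only [Pi.smul_apply, smul_eq_mul, Pi.single_eq_same] at h2
    exact IsUnit.of_mul_eq_one _ h2
  rcases Int.isUnit_iff.1 hu with h | h
  · left
    refine LinearMap.ext fun v => ?_
    rw [hscal, h, one_smul]
    rfl
  · right
    refine LinearMap.ext fun v => ?_
    rw [hscal, h, neg_smul, one_smul]
    rfl

theorem center_with_neg (hr : repTest C M = true) (hinj : Function.Injective (rep hr)) (d : List ℕ)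
    (hd2 : ∀ i : Fin n, cmat C i i = 2) (r : Fin n)
    (hd : ∀ k : Fin n, k = r ∨ ∃ j : Fin n, d.getD j 0 < d.getD k 0 ∧ cmat C j k ≠ 0) (m : ℕ)
    (hm : ∀ k : Fin n, actPow C (List.finRange n) m (unitList n k) = (unitList n k).map (fun x => -x)) :
    Nat.card (Subgroup.center M.Group) = 2 ∧
      Subgroup.center M.Group ≤ Subgroup.zpowers ((List.finRange n).map M.simple).prod := by
  set c := ((List.finRange n).map M.simple).prod
  have hc : (rep hr (c ^ m)).1 = -1 := by
    rw [map_pow, Units.val_pow_eq_pow_val, show c = wp M (List.finRange n) from rfl, rep_wp]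
    refine (Pi.basisFun ℤ (Fin n)).ext fun k => ?_
    apply List.ofFn_injective
    rw [Pi.basisFun_apply, ofFn_pow, ofFn_single, hm k, LinearMap.neg_apply, Module.End.one_apply,
      ← ofFn_single, List.map_ofFn]
    rfl
  have hne : c ^ m ≠ 1 := fun h => by
    rw [h, map_one, Units.val_one] at hc
    have h2 := congrFun (LinearMap.congr_fun hc (Pi.single r 1)) r
    simp at h2
  have hsq : (c ^ m) ^ 2 = 1 := hinj (Units.ext (by
    rw [map_pow, Units.val_pow_eq_pow_val, hc, map_one, Units.val_one]
    simp))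
  have hcen : c ^ m ∈ Subgroup.center M.Group := by
    rw [Subgroup.mem_center_iff]
    intro g
    exact hinj (Units.ext (by rw [map_mul, map_mul, Units.val_mul, Units.val_mul, hc]; simp))
  have heq : Subgroup.center M.Group = Subgroup.zpowers (c ^ m) := by
    refine le_antisymm (fun z hz => ?_) ((Subgroup.zpowers_le).2 hcen)
    rcases center_scalar hr d hd2 r hd hz with h | h
    · have : z = 1 := hinj (Units.ext (by rw [h, map_one, Units.val_one]))
      exact this ▸ one_mem _
    · have : z = c ^ m := hinj (Units.ext (by rw [h, hc]))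
      exact this ▸ Subgroup.mem_zpowers _
  constructor
  · rw [heq, Nat.card_zpowers, orderOf_eq_prime hsq hne]
  · rw [heq, Subgroup.zpowers_le]
    exact pow_mem (Subgroup.mem_zpowers c) m

theorem center_trivial (hr : repTest C M = true) (hinj : Function.Injective (rep hr)) (d : List ℕ)
    (hd2 : ∀ i : Fin n, cmat C i i = 2) (r : Fin n)
    (hd : ∀ k : Fin n, k = r ∨ ∃ j : Fin n, d.getD j 0 < d.getD k 0 ∧ cmat C j k ≠ 0)
    (φ : Fin n → ZMod 3) (hφ : ∀ i : Fin n, ∑ k, φ k * (cmat C i k : ZMod 3) = 0) (hφr : φ r ≠ 0) :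
    Nat.card (Subgroup.center M.Group) = 1 ∧
      Subgroup.center M.Group ≤ Subgroup.zpowers ((List.finRange n).map M.simple).prod := by
  have hinv : ∀ (g : M.Group) (v : Fin n → ℤ),
      ∑ k, φ k * (((rep hr g).1 v k : ℤ) : ZMod 3) = ∑ k, φ k * ((v k : ℤ) : ZMod 3) := by
    intro g
    induction g using M.toCoxeterSystem.simple_induction_left with
    | one => simp
    | mul_simple_left w i hw =>
      intro v
      rw [map_mul, Units.val_mul, Module.End.mul_apply, show M.toCoxeterSystem.simple i = M.simple i from rfl,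
        rep_simple, refl_apply, ← hw v]
      simp only [Pi.sub_apply, Pi.smul_apply, smul_eq_mul, rowVec, Int.cast_sub, Int.cast_mul,
        mul_sub, Finset.sum_sub_distrib]
      rw [show ∑ k, φ k * ((((rep hr w).1 v i : ℤ) : ZMod 3) * (cmat C i k : ZMod 3)) =
        (((rep hr w).1 v i : ℤ) : ZMod 3) * ∑ k, φ k * (cmat C i k : ZMod 3) by
          rw [Finset.mul_sum]; exact Finset.sum_congr rfl fun k _ => by ring, hφ, mul_zero, sub_zero]
  have hbot : Subgroup.center M.Group = ⊥ := by
    rw [Subgroup.eq_bot_iff_forall]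
    intro z hz
    rcases center_scalar hr d hd2 r hd hz with h | h
    · exact hinj (Units.ext (by rw [h, map_one, Units.val_one]))
    · exfalso
      have h2 := hinv z (Pi.single r 1)
      rw [h] at h2
      simp [Pi.single_apply] at h2
      apply hφr
      have h3 : (3 : ZMod 3) = 0 := by decide
      linear_combination h2 + φ r * h3
  exact ⟨by rw [hbot, Subgroup.card_bot], hbot ▸ bot_le⟩

/-- For the Coxeter groups of types B₂, G₂, D₄, F₄, E₇, E₈ the centre has order 2 (the element acting as −1 on the root system) and is generated by a power of the Coxeter element `s₁ s₂ ⋯ s_l`; the Coxeter group of type E₆ has trivial centre. -/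
theorem result (c : (Σ n : ℕ, CoxeterMatrix (Fin n)) × ℕ)
    (hc : c ∈ [(⟨2, CoxeterMatrix.B 2⟩, 2), (⟨2, CoxeterMatrix.G₂⟩, 2), (⟨4, Cfsg.Lie.coxeterD4⟩, 2), (⟨4, CoxeterMatrix.F₄⟩, 2),
      (⟨6, CoxeterMatrix.E₆⟩, 1), (⟨7, CoxeterMatrix.E₇⟩, 2), (⟨8, CoxeterMatrix.E₈⟩, 2)]) :
    Nat.card (Subgroup.center c.1.2.Group) = c.2 ∧
      Subgroup.center c.1.2.Group ≤ Subgroup.zpowers ((List.finRange c.1.1).map c.1.2.simple).prod := by
  simp only [List.mem_cons, List.mem_nil_iff, or_false] at hc
  rcases hc with rfl | rfl | rfl | rfl | rfl | rfl | rfl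
  · exact center_with_neg _ CfsgLib.Weyl.B2.card_and_faithful.2.2 [0, 1] (by decide +kernel) 0
      (by decide +kernel) 2 (by decide +kernel)
  · exact center_with_neg _ CfsgLib.Weyl.G2.card_and_faithful.2.2 [0, 1] (by decide +kernel) 0
      (by decide +kernel) 3 (by decide +kernel)
  · exact center_with_neg _ CfsgLib.Weyl.D4.card_and_faithful.2.2 [1, 0, 1, 1] (by decide +kernel) 1
      (by decide +kernel) 3 (by decide +kernel)
  · exact center_with_neg _ CfsgLib.Weyl.F4.card_and_faithful.2.2 [0, 1, 2, 3] (by decide +kernel) 0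
      (by decide +kernel) 6 (by decide +kernel)
  · exact center_trivial _ CfsgLib.Weyl.E6.card_and_faithful.2.2 [0, 3, 1, 2, 3, 4] (by decide +kernel) 0
      (by decide +kernel) ![1, 0, 2, 0, 1, 2] (by decide +kernel) (by decide +kernel)
  · exact center_with_neg _ CfsgLib.Weyl.E7.card_and_faithful.2.2 [0, 3, 1, 2, 3, 4, 5]
      (by decide +kernel) 0 (by decide +kernel) 9 (by decide +kernel)
  · exact center_with_neg _ CfsgLib.Weyl.E8.card_and_faithful.2.2 [0, 3, 1, 2, 3, 4, 5, 6]
      (by decide +kernel) 0 (by decide +kernel) 15 (by decide +kernel)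

end Cfsg.Agent.S2418
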