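import Cfsg.Statements.S2419
import Mathlib.Tactic.Group
import Mathlib.Data.Finset.Card

set_option autoImplicit false
open Cfsg

namespace Cfsg.Agent.S2419
section
variable {W : Type*} [Group W]

theorem conj_next {a b : W} (A B : W) (ha : a * a = 1) (hb : b * b = 1) (hab : (a * b) ^ 3 = 1)
    (hA : A * b = b * A) (hB : B * a = a * B) :
    (A * a * b * B) * a * (A * a * b * B)⁻¹ = b := by
  have ha' : a⁻¹ = a := inv_eq_of_mul_eq_one_right ha
  have hb' : b⁻¹ = b := inv_eq_of_mul_eq_one_right hb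
  have h1 : (a * b) * (a * b) * a = b := by
    have h3 : (a * b) * (a * b) * (a * b) = 1 := by rw [← hab, pow_three', ← mul_assoc]
    calc (a * b) * (a * b) * a = (a * b) * (a * b) * (a * b) * b⁻¹ := by group
      _ = b := by rw [h3, one_mul, hb']
  calc (A * a * b * B) * a * (A * a * b * B)⁻¹
      = A * a * b * (B * a) * B⁻¹ * b⁻¹ * a⁻¹ * A⁻¹ := by group
    _ = A * ((a * b) * (a * b⁻¹) * a⁻¹) * A⁻¹ := by rw [hB]; group
    _ = A * ((a * b) * (a * b) * a) * A⁻¹ := by rw [ha', hb']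
    _ = A * b * A⁻¹ := by rw [h1]
    _ = b := by rw [hA, mul_inv_cancel_right]

/-- The branch at the end of a diagram of type `E`. -/
theorem branch_mem (H : Subgroup W) {a b d e : W} (ha : a * a = 1) (hb : b * b = 1) (hd : d * d = 1)
    (he : e * e = 1) (hab : a * b = b * a) (hdb : d * b = b * d) (had : (a * d) ^ 3 = 1)
    (hde : (d * e) ^ 3 = 1) (hae : a * e = e * a) (hr : a * b * d ∈ H) (he' : e ∈ H) :
    a ∈ H ∧ b ∈ H ∧ d ∈ H := by
  have ha' : a⁻¹ = a := inv_eq_of_mul_eq_one_right ha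
  have hb' : b⁻¹ = b := inv_eq_of_mul_eq_one_right hb
  have hd' : d⁻¹ = d := inv_eq_of_mul_eq_one_right hd
  have hpd : a * b * d = b * (a * d) := by rw [← mul_assoc, hab]
  have hcomm : Commute b (a * d) := by
    show b * (a * d) = a * d * b
    rw [mul_assoc a d b, hdb, ← mul_assoc, ← mul_assoc, hab]
  have hbH : b ∈ H := by
    have h3 := H.pow_mem (hpd ▸ hr) 3
    rwa [hcomm.mul_pow, had, mul_one, pow_three, hb, mul_one] at h3
  have hp : a * d ∈ H := by
    have := H.mul_mem hbH hr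
    rwa [hpd, ← mul_assoc, hb, one_mul] at this
  have hbraid : d * e * d = e * d * e := by
    have h3 : (d * e) * (d * e) * (d * e) = 1 := by rw [← hde, pow_three', ← mul_assoc]
    have he'' : e⁻¹ = e := inv_eq_of_mul_eq_one_right he
    calc d * e * d = (d * e) * (d * e) * (d * e) * (e⁻¹ * d⁻¹ * e⁻¹) := by group
      _ = e * d * e := by rw [h3, one_mul, he'', hd']
  have hc : a * d * a ∈ H := by
    have h1 := H.mul_mem (H.mul_mem hp he') (H.inv_mem hp)
    have h2 := H.mul_mem (H.mul_mem he' h1) he'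
    have : e * (a * d * e * (a * d)⁻¹) * e = a * d * a := by
      rw [mul_inv_rev, hd', ha']
      calc e * (a * d * e * (d * a)) * e = e * (a * (d * e * d) * a) * e := by group
        _ = (e * a) * e * d * (e * a) * e := by rw [hbraid]; group
        _ = a * (e * e) * d * a * (e * e) := by rw [← hae]; group
        _ = a * d * a := by rw [he]; group
    rwa [this] at h2
  have haH : a ∈ H := by
    have := H.mul_mem hc hp
    have h' : a * d * a * (a * d) = a := by
      calc a * d * a * (a * d) = a * d * (a * a) * d := by group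
        _ = a * (d * d) := by rw [ha]; group
        _ = a := by rw [hd, mul_one]
    rwa [h'] at this
  refine ⟨haH, hbH, ?_⟩
  have := H.mul_mem haH hp
  rwa [← mul_assoc, ha, one_mul] at this

end

section
variable {n : ℕ} (M : CoxeterMatrix (Fin n))

theorem simple_sq (i : Fin n) : M.simple i * M.simple i = 1 :=
  M.toCoxeterSystem.simple_mul_simple_self i

theorem simple_pow (i j : Fin n) {m : ℕ} (h : M i j = m) : (M.simple i * M.simple j) ^ m = 1 :=
  h ▸ M.toCoxeterSystem.simple_mul_simple_pow i j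

theorem simple_comm (i j : Fin n) (h : M i j = 2) : M.simple i * M.simple j = M.simple j * M.simple i := by
  have h2 := simple_pow M i j h
  rw [pow_two] at h2
  have hi : (M.simple i)⁻¹ = M.simple i := inv_eq_of_mul_eq_one_right (simple_sq M i)
  have hj : (M.simple j)⁻¹ = M.simple j := inv_eq_of_mul_eq_one_right (simple_sq M j)
  calc M.simple i * M.simple j = (M.simple i * M.simple j) * (M.simple i * M.simple j) *
        ((M.simple j)⁻¹ * (M.simple i)⁻¹) := by group
    _ = M.simple j * M.simple i := by rw [h2, one_mul, hi, hj]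

theorem closure_eq_top (S : Set M.Group) (h : ∀ i, M.simple i ∈ Subgroup.closure S) :
    Subgroup.closure S = ⊤ := by
  rw [eq_top_iff, ← M.toCoxeterSystem.subgroup_closure_range_simple, Subgroup.closure_le]
  rintro x ⟨i, rfl⟩
  exact h i

theorem simple_ne {G : Type*} [Group G] (f : Fin n → G) (hf : M.IsLiftable f) {i j : Fin n}
    (h : f i ≠ f j) : M.simple i ≠ M.simple j := by
  intro he
  apply h
  have hi := M.toCoxeterSystem.lift_apply_simple hf i
  have hj := M.toCoxeterSystem.lift_apply_simple hf j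
  rw [← hi, ← hj]
  exact congrArg _ he

end

theorem caseTwo (M : CoxeterMatrix (Fin 2)) :
    ∃ T : Finset M.Group, T.card = 1 ∧ (∀ t ∈ T, ∃ (g : M.Group) (i : Fin 2), t = g * M.simple i * g⁻¹) ∧
      Subgroup.closure (({((List.finRange 2).map M.simple).prod} : Set M.Group) ∪ ↑T) = ⊤ := by
  refine ⟨{M.simple 0}, Finset.card_singleton _, fun t ht => ⟨1, 0, by simpa using ht⟩,
    closure_eq_top M _ fun i => ?_⟩
  set H := Subgroup.closure (({((List.finRange 2).map M.simple).prod} : Set M.Group) ∪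
    ↑({M.simple 0} : Finset M.Group))
  have h0 : M.simple 0 ∈ H := Subgroup.subset_closure (Or.inr (by simp))
  have hc : M.simple 0 * (M.simple 1 * 1) ∈ H := Subgroup.subset_closure (Or.inl rfl)
  fin_cases i
  · exact h0
  · have := H.mul_mem (H.inv_mem h0) hc
    rwa [mul_one, inv_mul_cancel_left] at this

theorem caseD4 :
    ∃ T : Finset (Cfsg.Lie.coxeterD4).Group, T.card = 2 ∧
      (∀ t ∈ T, ∃ (g : (Cfsg.Lie.coxeterD4).Group) (i : Fin 4), t = g * (Cfsg.Lie.coxeterD4).simple i * g⁻¹) ∧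
      Subgroup.closure (({((List.finRange 4).map (Cfsg.Lie.coxeterD4).simple).prod} :
        Set (Cfsg.Lie.coxeterD4).Group) ∪ ↑T) = ⊤ := by
  classical
  set M := Cfsg.Lie.coxeterD4
  set s := M.simple with hs
  have hne : s 0 ≠ s 2 := by
    refine simple_ne M (![Equiv.swap 0 1, Equiv.swap 1 2, Equiv.swap 2 3, Equiv.swap 2 3] :
      Fin 4 → Equiv.Perm (Fin 4)) ?_ ?_
    · unfold CoxeterMatrix.IsLiftable
      decide
    · decide
  refine ⟨{s 0, s 2}, Finset.card_pair hne, fun t ht => ?_, closure_eq_top M _ fun i => ?_⟩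
  · simp only [Finset.mem_insert, Finset.mem_singleton] at ht
    rcases ht with rfl | rfl
    · exact ⟨1, 0, by simp [hs]⟩
    · exact ⟨1, 2, by simp [hs]⟩
  set H := Subgroup.closure (({((List.finRange 4).map s).prod} : Set M.Group) ∪
    ↑({s 0, s 2} : Finset M.Group))
  have h0 : s 0 ∈ H := Subgroup.subset_closure (Or.inr (by simp))
  have h2 : s 2 ∈ H := Subgroup.subset_closure (Or.inr (by simp))
  have hc : s 0 * (s 1 * (s 2 * (s 3 * 1))) ∈ H := Subgroup.subset_closure (Or.inl rfl)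
  have h1 : s 1 ∈ H := by
    have := conj_next (a := s 0) (b := s 1) 1 (s 2 * s 3) (simple_sq M 0) (simple_sq M 1)
      (simple_pow M 0 1 rfl) (by simp) (by
        rw [mul_assoc, simple_comm M 3 0 rfl, ← mul_assoc, simple_comm M 2 0 rfl, mul_assoc])
    rw [← this]
    have e : 1 * s 0 * s 1 * (s 2 * s 3) = s 0 * (s 1 * (s 2 * (s 3 * 1))) := by group
    rw [e]
    exact H.mul_mem (H.mul_mem hc h0) (H.inv_mem hc)
  have h3 : s 3 ∈ H := by
    have := H.mul_mem (H.inv_mem (H.mul_mem (H.mul_mem h0 h1) h2)) hc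
    have e : (s 0 * s 1 * s 2)⁻¹ * (s 0 * (s 1 * (s 2 * (s 3 * 1)))) = s 3 := by group
    rwa [e] at this
  fin_cases i
  exacts [h0, h1, h2, h3]

theorem caseF4 :
    ∃ T : Finset (CoxeterMatrix.F₄).Group, T.card = 2 ∧
      (∀ t ∈ T, ∃ (g : (CoxeterMatrix.F₄).Group) (i : Fin 4), t = g * (CoxeterMatrix.F₄).simple i * g⁻¹) ∧
      Subgroup.closure (({((List.finRange 4).map (CoxeterMatrix.F₄).simple).prod} :
        Set (CoxeterMatrix.F₄).Group) ∪ ↑T) = ⊤ := by
  classical
  set M := CoxeterMatrix.F₄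
  set s := M.simple with hs
  have hne : s 0 ≠ s 2 := by
    refine simple_ne M (![Equiv.swap 0 1, Equiv.swap 0 1, 1, 1] : Fin 4 → Equiv.Perm (Fin 2)) ?_ ?_
    · unfold CoxeterMatrix.IsLiftable
      decide
    · decide
  refine ⟨{s 0, s 2}, Finset.card_pair hne, fun t ht => ?_, closure_eq_top M _ fun i => ?_⟩
  · simp only [Finset.mem_insert, Finset.mem_singleton] at ht
    rcases ht with rfl | rfl
    · exact ⟨1, 0, by simp [hs]⟩
    · exact ⟨1, 2, by simp [hs]⟩
  set H := Subgroup.closure (({((List.finRange 4).map s).prod} : Set M.Group) ∪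
    ↑({s 0, s 2} : Finset M.Group))
  have h0 : s 0 ∈ H := Subgroup.subset_closure (Or.inr (by simp))
  have h2 : s 2 ∈ H := Subgroup.subset_closure (Or.inr (by simp))
  have hc : s 0 * (s 1 * (s 2 * (s 3 * 1))) ∈ H := Subgroup.subset_closure (Or.inl rfl)
  have h1 : s 1 ∈ H := by
    have := conj_next (a := s 0) (b := s 1) 1 (s 2 * s 3) (simple_sq M 0) (simple_sq M 1)
      (simple_pow M 0 1 rfl) (by simp) (by
        rw [mul_assoc, simple_comm M 3 0 rfl, ← mul_assoc, simple_comm M 2 0 rfl, mul_assoc])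
    rw [← this]
    have e : 1 * s 0 * s 1 * (s 2 * s 3) = s 0 * (s 1 * (s 2 * (s 3 * 1))) := by group
    rw [e]
    exact H.mul_mem (H.mul_mem hc h0) (H.inv_mem hc)
  have h3 : s 3 ∈ H := by
    have := H.mul_mem (H.inv_mem (H.mul_mem (H.mul_mem h0 h1) h2)) hc
    have e : (s 0 * s 1 * s 2)⁻¹ * (s 0 * (s 1 * (s 2 * (s 3 * 1)))) = s 3 := by group
    rwa [e] at this
  fin_cases i
  exacts [h0, h1, h2, h3]

/-- A diagram of type `E`: a branch `0, 1, 2` at node `3` and a path starting at `3`. -/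
theorem caseE {m : ℕ} (M : CoxeterMatrix (Fin (m + 4)))
    (hbr : M 0 1 = 2 ∧ M 2 1 = 2 ∧ M 0 2 = 3 ∧ M 2 3 = 3 ∧ M 0 3 = 2)
    (hnext : ∀ i j : Fin (m + 4), 3 ≤ i.val → i.val + 1 = j.val → M i j = 3)
    (hfar : ∀ i j : Fin (m + 4), 3 ≤ i.val → i.val + 2 ≤ j.val → M i j = 2)
    (hfar' : ∀ i j : Fin (m + 4), j.val < i.val → 4 ≤ i.val → j.val + 2 ≤ i.val → M i j = 2) :
    ∃ T : Finset M.Group, T.card = 1 ∧ (∀ t ∈ T, ∃ (g : M.Group) (i : Fin (m + 4)), t = g * M.simple i * g⁻¹) ∧
      Subgroup.closure (({((List.finRange (m + 4)).map M.simple).prod} : Set M.Group) ∪ ↑T) = ⊤ := by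
  classical
  set s := M.simple with hs
  refine ⟨{s 3}, Finset.card_singleton _, fun t ht => ⟨1, 3, by simpa [hs] using ht⟩,
    closure_eq_top M _ fun i => ?_⟩
  set L := (List.finRange (m + 4)).map s with hL
  set H := Subgroup.closure (({L.prod} : Set M.Group) ∪ ↑({s 3} : Finset M.Group))
  have h3 : s 3 ∈ H := Subgroup.subset_closure (Or.inr (by simp))
  have hc : L.prod ∈ H := Subgroup.subset_closure (Or.inl rfl)
  -- commuting with a product
  have hcomm : ∀ (l : List (Fin (m + 4))) (x : Fin (m + 4)), (∀ y ∈ l, M y x = 2) →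
      (l.map s).prod * s x = s x * (l.map s).prod := by
    intro l x hl
    exact (Commute.list_prod_right (l.map s) (s x) fun y hy => by
      obtain ⟨z, hz, rfl⟩ := List.mem_map.1 hy
      exact (simple_comm M z x (hl z hz)).symm).eq.symm
  have hpath : ∀ k : ℕ, ∀ i : Fin (m + 4), i.val = k + 3 → s i ∈ H := by
    intro k
    induction k with
    | zero =>
      intro i hi
      rw [show i = 3 from Fin.ext (by rw [show ((3 : Fin (m + 4)) : ℕ) = 3 from Nat.mod_eq_of_lt (show 3 < m + 4 by omega)]; omega)]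
      exact h3
    | succ k ih =>
      intro i hi
      let p : Fin (m + 4) := ⟨k + 3, by omega⟩
      have hp := ih p rfl
      set l := List.finRange (m + 4) with hl
      have hlen : l.length = m + 4 := List.length_finRange
      have hget : ∀ (a : ℕ) (ha : a < l.length), l[a] = ⟨a, hlen ▸ ha⟩ := fun a ha => by
        simp [hl]
      have hsplit : l = l.take (k + 3) ++ p :: i :: l.drop (k + 5) := by
        conv_lhs => rw [← List.take_append_drop (k + 3) l,
          List.drop_eq_getElem_cons (by omega : k + 3 < l.length),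
          List.drop_eq_getElem_cons (by omega : k + 4 < l.length)]
        rw [hget, hget]
        congr 3
        exact Fin.ext hi.symm
      have htake : ∀ y ∈ l.take (k + 3), M y i = 2 := by
        intro y hy
        obtain ⟨a, ha, rfl⟩ := List.mem_iff_getElem.1 hy
        rw [List.length_take] at ha
        rw [List.getElem_take, hget, M.symmetric]
        exact hfar' i _ (by simp; omega) (by omega) (by simp; omega)
      have hdrop : ∀ y ∈ l.drop (k + 5), M y p = 2 := by
        intro y hy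
        obtain ⟨a, ha, rfl⟩ := List.mem_iff_getElem.1 hy
        rw [List.getElem_drop, hget, M.symmetric]
        exact hfar p _ (by simp [p]) (by simp [p])
      have hkey := conj_next (a := s p) (b := s i) ((l.take (k + 3)).map s).prod
        ((l.drop (k + 5)).map s).prod (simple_sq M p) (simple_sq M i)
        (simple_pow M p i (hnext p i (by simp [p]) (by simp [p]; omega)))
        (hcomm _ i htake) (hcomm _ p hdrop)
      have e : ((l.take (k + 3)).map s).prod * s p * s i * ((l.drop (k + 5)).map s).prod = L.prod := by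
        conv_rhs => rw [hL, hsplit]
        simp [mul_assoc]
      rw [e] at hkey
      rw [← hkey]
      exact H.mul_mem (H.mul_mem hc hp) (H.inv_mem hc)
  have hge : ∀ i : Fin (m + 4), 3 ≤ i.val → s i ∈ H := fun i hi => hpath (i.val - 3) i (by omega)
  have hr : s 0 * s 1 * s 2 ∈ H := by
    have hsplit : L = [s 0, s 1, s 2] ++ ((List.finRange (m + 4)).drop 3).map s := by
      rw [hL]
      conv_lhs => rw [← List.take_append_drop 3 (List.finRange (m + 4))]
      rw [List.map_append]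
      congr 1
      simp [List.finRange_succ, Fin.succ_zero_eq_one, Fin.succ_one_eq_two]
    have hrest : (((List.finRange (m + 4)).drop 3).map s).prod ∈ H := by
      refine list_prod_mem fun x hx => ?_
      obtain ⟨y, hy, rfl⟩ := List.mem_map.1 hx
      obtain ⟨a, ha, rfl⟩ := List.mem_iff_getElem.1 hy
      refine hge _ ?_
      rw [List.getElem_drop]
      simp
    have := H.mul_mem hc (H.inv_mem hrest)
    rw [hsplit, List.prod_append, mul_inv_cancel_right] at this
    simpa [mul_assoc] using this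
  obtain ⟨h01, h21, h02, h23, h03⟩ := hbr
  obtain ⟨ha, hb, hd⟩ := branch_mem H (simple_sq M 0) (simple_sq M 1) (simple_sq M 2) (simple_sq M 3)
    (simple_comm M 0 1 h01) (simple_comm M 2 1 h21) (simple_pow M 0 2 h02) (simple_pow M 2 3 h23)
    (simple_comm M 0 3 h03) hr h3
  by_cases hi : 3 ≤ i.val
  · exact hge i hi
  · have hi' : i = 0 ∨ i = 1 ∨ i = 2 := by
      rcases (show i.val = 0 ∨ i.val = 1 ∨ i.val = 2 by omega) with h | h | h
      · exact Or.inl (Fin.ext h)
      · exact Or.inr (Or.inl (Fin.ext (by simpa using h)))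
      · exact Or.inr (Or.inr (Fin.ext (by rw [show ((2 : Fin (m + 4)) : ℕ) = 2 from Nat.mod_eq_of_lt (show 2 < m + 4 by omega)]; omega)))
    rcases hi' with rfl | rfl | rfl
    exacts [ha, hb, hd]


theorem entries6 : ∀ i j : Fin 6,
    (3 ≤ i.val → i.val + 1 = j.val → CoxeterMatrix.E₆.M i j = 3) ∧
    (3 ≤ i.val → i.val + 2 ≤ j.val → CoxeterMatrix.E₆.M i j = 2) ∧
    (j.val < i.val → 4 ≤ i.val → j.val + 2 ≤ i.val → CoxeterMatrix.E₆.M i j = 2) := by
  intro i j
  refine ⟨?_, ?_, ?_⟩ <;> intros <;> fin_cases i <;> fin_cases j <;> first | rfl | simp_all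

theorem branch6 : CoxeterMatrix.E₆.M 0 1 = 2 ∧ CoxeterMatrix.E₆.M 2 1 = 2 ∧ CoxeterMatrix.E₆.M 0 2 = 3 ∧
    CoxeterMatrix.E₆.M 2 3 = 3 ∧ CoxeterMatrix.E₆.M 0 3 = 2 :=
  ⟨rfl, rfl, rfl, rfl, rfl⟩

theorem entries7 : ∀ i j : Fin 7,
    (3 ≤ i.val → i.val + 1 = j.val → CoxeterMatrix.E₇.M i j = 3) ∧
    (3 ≤ i.val → i.val + 2 ≤ j.val → CoxeterMatrix.E₇.M i j = 2) ∧
    (j.val < i.val → 4 ≤ i.val → j.val + 2 ≤ i.val → CoxeterMatrix.E₇.M i j = 2) := by
  intro i j
  refine ⟨?_, ?_, ?_⟩ <;> intros <;> fin_cases i <;> fin_cases j <;> first | rfl | simp_all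

theorem branch7 : CoxeterMatrix.E₇.M 0 1 = 2 ∧ CoxeterMatrix.E₇.M 2 1 = 2 ∧ CoxeterMatrix.E₇.M 0 2 = 3 ∧
    CoxeterMatrix.E₇.M 2 3 = 3 ∧ CoxeterMatrix.E₇.M 0 3 = 2 :=
  ⟨rfl, rfl, rfl, rfl, rfl⟩

theorem entries8 : ∀ i j : Fin 8,
    (3 ≤ i.val → i.val + 1 = j.val → CoxeterMatrix.E₈.M i j = 3) ∧
    (3 ≤ i.val → i.val + 2 ≤ j.val → CoxeterMatrix.E₈.M i j = 2) ∧
    (j.val < i.val → 4 ≤ i.val → j.val + 2 ≤ i.val → CoxeterMatrix.E₈.M i j = 2) := by
  intro i j
  refine ⟨?_, ?_, ?_⟩ <;> intros <;> fin_cases i <;> fin_cases j <;> first | rfl | simp_all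

theorem branch8 : CoxeterMatrix.E₈.M 0 1 = 2 ∧ CoxeterMatrix.E₈.M 2 1 = 2 ∧ CoxeterMatrix.E₈.M 0 2 = 3 ∧
    CoxeterMatrix.E₈.M 2 3 = 3 ∧ CoxeterMatrix.E₈.M 0 3 = 2 :=
  ⟨rfl, rfl, rfl, rfl, rfl⟩

/-- The Coxeter groups of types B₂, G₂, E₆, E₇, E₈ are generated by the Coxeter element `s₁ s₂ ⋯ s_l` together with one suitable reflection (a conjugate of a simple reflection); for types D₄ and F₄ the Coxeter element together with two suitable reflections suffices. -/
theorem result (c : (Σ n : ℕ, CoxeterMatrix (Fin n)) × ℕ)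
    (hc : c ∈ [(⟨2, CoxeterMatrix.B 2⟩, 1), (⟨2, CoxeterMatrix.G₂⟩, 1), (⟨4, Cfsg.Lie.coxeterD4⟩, 2), (⟨4, CoxeterMatrix.F₄⟩, 2),
      (⟨6, CoxeterMatrix.E₆⟩, 1), (⟨7, CoxeterMatrix.E₇⟩, 1), (⟨8, CoxeterMatrix.E₈⟩, 1)]) :
    ∃ T : Finset c.1.2.Group, T.card = c.2 ∧ (∀ t ∈ T, ∃ (g : c.1.2.Group) (i : Fin c.1.1), t = g * c.1.2.simple i * g⁻¹) ∧
      Subgroup.closure (({((List.finRange c.1.1).map c.1.2.simple).prod} : Set c.1.2.Group) ∪ ↑T) = ⊤ := by
  simp only [List.mem_cons, List.not_mem_nil, or_false] at hc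
  rcases hc with rfl | rfl | rfl | rfl | rfl | rfl | rfl
  · exact caseTwo _
  · exact caseTwo _
  · exact caseD4
  · exact caseF4
  · exact caseE (m := 2) CoxeterMatrix.E₆ branch6 (fun i j => (entries6 i j).1)
      (fun i j => (entries6 i j).2.1) (fun i j => (entries6 i j).2.2)
  · exact caseE (m := 3) CoxeterMatrix.E₇ branch7 (fun i j => (entries7 i j).1)
      (fun i j => (entries7 i j).2.1) (fun i j => (entries7 i j).2.2)
  · exact caseE (m := 4) CoxeterMatrix.E₈ branch8 (fun i j => (entries8 i j).1)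
      (fun i j => (entries8 i j).2.1) (fun i j => (entries8 i j).2.2)

end Cfsg.Agent.S2419
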