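import Cfsg.Statements.S2427

set_option autoImplicit false
open Cfsg

namespace Cfsg.Agent.S2427
open Matrix

local notation "G3" => Matrix.SpecialLinearGroup (Fin 2) (ZMod 3)

/-- Build an element from entries (the identity if the determinant is not one). -/
def ofEntries (a b c d : ZMod 3) : Matrix.SpecialLinearGroup (Fin 2) (ZMod 3) :=
  if h : (!![a, b; c, d] : Matrix (Fin 2) (Fin 2) (ZMod 3)).det = 1 then ⟨!![a, b; c, d], h⟩ else 1

/-- Membership in the quaternion subgroup: trace zero, or scalar. -/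
def InQ (g : Matrix.SpecialLinearGroup (Fin 2) (ZMod 3)) : Prop :=
  g.1 0 0 + g.1 1 1 = 0 ∨ (g.1 0 1 = 0 ∧ g.1 1 0 = 0)

instance inQDecidable : DecidablePred InQ := fun g => inferInstanceAs (Decidable (_ ∨ _))

theorem card_G3 : Fintype.card (Matrix.SpecialLinearGroup (Fin 2) (ZMod 3)) = 24 := by decide +kernel

theorem inQ_mul : ∀ a b : Matrix.SpecialLinearGroup (Fin 2) (ZMod 3), InQ a → InQ b → InQ (a * b) := by
  decide +kernel

theorem inQ_inv : ∀ a : Matrix.SpecialLinearGroup (Fin 2) (ZMod 3), InQ a → InQ a⁻¹ := by decide +kernel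

theorem inQ_one : InQ (1 : Matrix.SpecialLinearGroup (Fin 2) (ZMod 3)) := by decide +kernel

/-- The quaternion subgroup. -/
def QSub : Subgroup (Matrix.SpecialLinearGroup (Fin 2) (ZMod 3)) where
  carrier := {g | InQ g}
  one_mem' := inQ_one
  mul_mem' := fun {a b} ha hb => inQ_mul a b ha hb
  inv_mem' := fun {a} ha => inQ_inv a ha

theorem inQ_comm : ∀ a b : Matrix.SpecialLinearGroup (Fin 2) (ZMod 3), InQ (a * b * a⁻¹ * b⁻¹) := by
  decide +kernel

theorem inQ_is_comm : ∀ g : Matrix.SpecialLinearGroup (Fin 2) (ZMod 3), InQ g →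
    ∃ a b : Matrix.SpecialLinearGroup (Fin 2) (ZMod 3), a * b * a⁻¹ * b⁻¹ = g := by
  decide +kernel

theorem card_inQ : Fintype.card {g : Matrix.SpecialLinearGroup (Fin 2) (ZMod 3) // InQ g} = 8 := by
  decide +kernel

theorem commutator_eq : commutator (Matrix.SpecialLinearGroup (Fin 2) (ZMod 3)) = QSub := by
  apply le_antisymm
  · rw [commutator_def, Subgroup.commutator_le]
    intro a _ b _
    exact inQ_comm a b
  · intro g hg
    obtain ⟨a, b, rfl⟩ := inQ_is_comm g hg
    rw [commutator_def]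
    exact Subgroup.commutator_mem_commutator (Subgroup.mem_top a) (Subgroup.mem_top b)

/-- The isomorphism with the quaternion group, on elements. -/
def quatMap : QuaternionGroup 2 → Matrix.SpecialLinearGroup (Fin 2) (ZMod 3)
  | .a i => ofEntries 0 (-1) 1 0 ^ i.val
  | .xa i => ofEntries 1 1 1 (-1) * ofEntries 0 (-1) 1 0 ^ i.val

theorem quatMap_mul : ∀ x y : QuaternionGroup 2, quatMap (x * y) = quatMap x * quatMap y := by
  decide +kernel

theorem quatMap_mem : ∀ x : QuaternionGroup 2, InQ (quatMap x) := by decide +kernel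

theorem quatMap_inj : ∀ x y : QuaternionGroup 2, quatMap x = quatMap y → x = y := by decide +kernel

theorem quat_equiv : Nonempty (QSub ≃* QuaternionGroup 2) := by
  let f : QuaternionGroup 2 →* QSub :=
    { toFun := fun x => ⟨quatMap x, quatMap_mem x⟩
      map_one' := Subtype.ext (show quatMap 1 = 1 by decide +kernel)
      map_mul' := fun x y => Subtype.ext (quatMap_mul x y) }
  have hinj : Function.Injective f := fun x y h => quatMap_inj x y (congrArg Subtype.val h)
  have hcard : Nat.card (QuaternionGroup 2) = Nat.card QSub := by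
    rw [Nat.card_eq_fintype_card, show Nat.card QSub = 8 from ?_]
    · rfl
    · rw [← card_inQ, ← Nat.card_eq_fintype_card]; rfl
  exact ⟨(MulEquiv.ofBijective f (Nat.bijective_iff_injective_and_card f |>.2 ⟨hinj, hcard⟩)).symm⟩

theorem gen_Q : ∀ g : Matrix.SpecialLinearGroup (Fin 2) (ZMod 3), InQ g → (g.1 0 0 + g.1 1 1 = 0) →
    ∀ x : Matrix.SpecialLinearGroup (Fin 2) (ZMod 3), InQ x →
      ∃ u v : Matrix.SpecialLinearGroup (Fin 2) (ZMod 3), x = u * g * u⁻¹ * (v * g * v⁻¹) ∨ x = u * g * u⁻¹ := by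
  decide +kernel

theorem outside : ∀ g : Matrix.SpecialLinearGroup (Fin 2) (ZMod 3), ¬ InQ g →
    (∃ u : Matrix.SpecialLinearGroup (Fin 2) (ZMod 3),
      (g * u * g⁻¹ * u⁻¹).1 0 0 + (g * u * g⁻¹ * u⁻¹).1 1 1 = 0) ∧
    ∀ x : Matrix.SpecialLinearGroup (Fin 2) (ZMod 3), InQ x ∨ InQ (x * g⁻¹) ∨ InQ (x * g⁻¹ * g⁻¹) := by
  decide +kernel

theorem central_eq : ∀ g : Matrix.SpecialLinearGroup (Fin 2) (ZMod 3),
    g.1 0 1 = 0 → g.1 1 0 = 0 → g = 1 ∨ g = ofEntries (-1) 0 0 (-1) := by
  decide +kernel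

theorem center_char : ∀ g : Matrix.SpecialLinearGroup (Fin 2) (ZMod 3),
    (∀ h : Matrix.SpecialLinearGroup (Fin 2) (ZMod 3), h * g = g * h) ↔ (g.1 0 1 = 0 ∧ g.1 1 0 = 0) := by
  decide +kernel

theorem card_scalar :
    Fintype.card {g : Matrix.SpecialLinearGroup (Fin 2) (ZMod 3) // g.1 0 1 = 0 ∧ g.1 1 0 = 0} = 2 := by
  decide +kernel

theorem normal_cases (N : Subgroup (Matrix.SpecialLinearGroup (Fin 2) (ZMod 3))) (hN : N.Normal) :
    N = ⊥ ∨ N = ⊤ ∨ N = Subgroup.center (Matrix.SpecialLinearGroup (Fin 2) (ZMod 3)) ∨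
      N = commutator (Matrix.SpecialLinearGroup (Fin 2) (ZMod 3)) := by
  have hQ : ∀ g ∈ N, InQ g → g.1 0 0 + g.1 1 1 = 0 → QSub ≤ N := by
    intro g hg hgQ ht x hx
    obtain ⟨u, v, h | h⟩ := gen_Q g hgQ ht x hx
    · rw [h]; exact mul_mem (hN.conj_mem g hg u) (hN.conj_mem g hg v)
    · rw [h]; exact hN.conj_mem g hg u
  by_cases hout : ∃ g ∈ N, ¬ InQ g
  · obtain ⟨g, hg, hgQ⟩ := hout
    obtain ⟨⟨u, hu⟩, hall⟩ := outside g hgQ
    have hc : g * u * g⁻¹ * u⁻¹ ∈ N := by
      rw [show g * u * g⁻¹ * u⁻¹ = g * (u * g⁻¹ * u⁻¹) by group]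
      exact mul_mem hg (hN.conj_mem _ (inv_mem hg) u)
    have hle := hQ _ hc (inQ_comm g u) hu
    refine Or.inr (Or.inl (eq_top_iff.2 fun x _ => ?_))
    rcases hall x with h | h | h
    · exact hle h
    · simpa using mul_mem (hle (show x * g⁻¹ ∈ QSub from h)) hg
    · simpa [mul_assoc] using mul_mem (mul_mem (hle (show x * g⁻¹ * g⁻¹ ∈ QSub from h)) hg) hg
  push Not at hout
  by_cases htr : ∃ g ∈ N, g.1 0 0 + g.1 1 1 = 0
  · obtain ⟨g, hg, ht⟩ := htr
    refine Or.inr (Or.inr (Or.inr ?_))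
    rw [commutator_eq]
    exact le_antisymm (fun x hx => hout x hx) (hQ g hg (hout g hg) ht)
  push Not at htr
  have hsc : ∀ g ∈ N, g = 1 ∨ g = ofEntries (-1) 0 0 (-1) := by
    intro g hg
    obtain ⟨h1, h2⟩ := (hout g hg).resolve_left (htr g hg)
    exact central_eq g h1 h2
  by_cases hz : ofEntries (-1) 0 0 (-1) ∈ N
  · refine Or.inr (Or.inr (Or.inl (le_antisymm (fun g hg => ?_) (fun g hg => ?_))))
    · exact Subgroup.mem_center_iff.2 ((center_char g).2 ((hout g hg).resolve_left (htr g hg)))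
    · obtain ⟨h1, h2⟩ := (center_char g).1 (Subgroup.mem_center_iff.1 hg)
      rcases central_eq g h1 h2 with rfl | rfl
      · exact one_mem N
      · exact hz
  · refine Or.inl (eq_bot_iff.2 fun g hg => ?_)
    rcases hsc g hg with rfl | rfl
    · exact Subgroup.mem_bot.2 rfl
    · exact absurd hg hz


/-- The group SL₂ over the field with 3 elements has order 24 and centre of order 2; its commutator subgroup has order 8, is isomorphic to the quaternion group of order 8 and is complemented by every Sylow 3-subgroup (so the group is a semidirect product of a quaternion group of order 8 by a cyclic group of order 3); and its only normal subgroups besides the trivial subgroup and the whole group are the centre and the commutator subgroup. -/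
theorem result :
    Nat.card (Matrix.SpecialLinearGroup (Fin 2) (ZMod 3)) = 24 ∧
    Nat.card (Subgroup.center (Matrix.SpecialLinearGroup (Fin 2) (ZMod 3))) = 2 ∧
    Nat.card (commutator (Matrix.SpecialLinearGroup (Fin 2) (ZMod 3))) = 8 ∧
    Nonempty (commutator (Matrix.SpecialLinearGroup (Fin 2) (ZMod 3)) ≃* QuaternionGroup 2) ∧
    (∀ P : Sylow 3 (Matrix.SpecialLinearGroup (Fin 2) (ZMod 3)),
      Subgroup.IsComplement' (commutator (Matrix.SpecialLinearGroup (Fin 2) (ZMod 3)))
        (P : Subgroup (Matrix.SpecialLinearGroup (Fin 2) (ZMod 3)))) ∧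
    ∀ N : Subgroup (Matrix.SpecialLinearGroup (Fin 2) (ZMod 3)), N.Normal →
      N = ⊥ ∨ N = ⊤ ∨ N = Subgroup.center (Matrix.SpecialLinearGroup (Fin 2) (ZMod 3)) ∨
        N = commutator (Matrix.SpecialLinearGroup (Fin 2) (ZMod 3)) := by
  have hcardQ : Nat.card (commutator (Matrix.SpecialLinearGroup (Fin 2) (ZMod 3))) = 8 := by
    rw [commutator_eq, ← card_inQ, ← Nat.card_eq_fintype_card]; rfl
  refine ⟨by rw [Nat.card_eq_fintype_card]; exact card_G3, ?_, hcardQ, ?_, fun P => ?_, normal_cases⟩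
  · refine Eq.trans ?_ card_scalar
    rw [← Nat.card_eq_fintype_card]
    exact Nat.card_congr (Equiv.subtypeEquivRight fun g => Subgroup.mem_center_iff.trans (center_char g))
  · rw [commutator_eq]
    exact quat_equiv
  · have : Fact (Nat.Prime 3) := ⟨Nat.prime_three⟩
    have hP : Nat.card P = 3 := by
      rw [P.card_eq_multiplicity, Nat.card_eq_fintype_card, card_G3,
        show (24 : ℕ) = 3 ^ 1 * 8 by norm_num, Nat.factorization_mul (by norm_num) (by norm_num)]
      simp [Nat.Prime.factorization_self Nat.prime_three,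
        Nat.factorization_eq_zero_of_not_dvd (show ¬ 3 ∣ 8 by norm_num)]
    refine Subgroup.isComplement'_of_coprime ?_ (by rw [hcardQ, hP]; decide)
    rw [hcardQ, hP, Nat.card_eq_fintype_card, card_G3]

end Cfsg.Agent.S2427
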