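import Cfsg.Statements.S2428
import Cfsg.Agent.Lib.SL2Trace.Tori

set_option autoImplicit false
open Cfsg

namespace Cfsg.Agent.S2428

/-- Let F be a finite field with q elements, q odd, and let d be a diagonal element of SL₂ over F whose diagonal entry a has a² ≠ 1 (such d exist exactly when q > 3). Then the centraliser of d is precisely the diagonal subgroup T; the normaliser of T has order 2(q − 1) and exactly (q + 5)/2 conjugacy classes; and every element of that normaliser outside T has square equal to −1. -/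
theorem result {F : Type*} [Field F] [Fintype F] (hodd : Odd (Fintype.card F))
    (d : Matrix.SpecialLinearGroup (Fin 2) F) (hd01 : (d : Matrix (Fin 2) (Fin 2) F) 0 1 = 0) (hd10 : (d : Matrix (Fin 2) (Fin 2) F) 1 0 = 0) (hda : (d : Matrix (Fin 2) (Fin 2) F) 0 0 ^ 2 ≠ 1) :
    (∀ g : Matrix.SpecialLinearGroup (Fin 2) F, g ∈ Subgroup.centralizer ({d} : Set (Matrix.SpecialLinearGroup (Fin 2) F)) ↔ ((g : Matrix (Fin 2) (Fin 2) F) 0 1 = 0 ∧ (g : Matrix (Fin 2) (Fin 2) F) 1 0 = 0)) ∧
    Nat.card (Subgroup.normalizer ((Subgroup.centralizer ({d} : Set (Matrix.SpecialLinearGroup (Fin 2) F))) : Set (Matrix.SpecialLinearGroup (Fin 2) F))) = 2 * (Fintype.card F - 1) ∧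
    Nat.card (ConjClasses (Subgroup.normalizer ((Subgroup.centralizer ({d} : Set (Matrix.SpecialLinearGroup (Fin 2) F))) : Set (Matrix.SpecialLinearGroup (Fin 2) F)))) = (Fintype.card F + 5) / 2 ∧
    ∀ g : Matrix.SpecialLinearGroup (Fin 2) F, g ∈ Subgroup.normalizer ((Subgroup.centralizer ({d} : Set (Matrix.SpecialLinearGroup (Fin 2) F))) : Set (Matrix.SpecialLinearGroup (Fin 2) F)) →
      g ∉ Subgroup.centralizer ({d} : Set (Matrix.SpecialLinearGroup (Fin 2) F)) → ((g * g) : Matrix (Fin 2) (Fin 2) F) = -1 := by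
  have h2 := CfsgLib.SL2Trace.two_ne_zero_of_odd hodd
  have hdet := CfsgLib.SL2Trace.det_coe d
  rw [hd01, hd10] at hdet
  have hreg : (d : Matrix (Fin 2) (Fin 2) F).trace ^ 2 ≠ 4 := by
    intro h
    rw [Matrix.trace_fin_two] at h
    apply hda
    set a := (d : Matrix (Fin 2) (Fin 2) F) 0 0
    set b := (d : Matrix (Fin 2) (Fin 2) F) 1 1
    have hab : (a - b) ^ 2 = 0 := by linear_combination h - 4 * hdet
    have := sub_eq_zero.1 ((pow_eq_zero_iff two_ne_zero).1 hab)
    linear_combination hdet + a * this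
  have hmem : ∀ g : Matrix.SpecialLinearGroup (Fin 2) F,
      g ∈ Subgroup.centralizer ({d} : Set (Matrix.SpecialLinearGroup (Fin 2) F)) ↔
        ((g : Matrix (Fin 2) (Fin 2) F) 0 1 = 0 ∧ (g : Matrix (Fin 2) (Fin 2) F) 1 0 = 0) := by
    intro g
    rw [Subgroup.mem_centralizer_singleton_iff, Matrix.SpecialLinearGroup.ext_iff]
    have hne : (d : Matrix (Fin 2) (Fin 2) F) 0 0 - (d : Matrix (Fin 2) (Fin 2) F) 1 1 ≠ 0 := by
      intro h
      apply hda
      linear_combination hdet + (d : Matrix (Fin 2) (Fin 2) F) 0 0 * h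
    simp only [Fin.forall_fin_two, Matrix.SpecialLinearGroup.coe_mul, Matrix.mul_apply, Fin.sum_univ_two, hd01, hd10]
    constructor
    · rintro ⟨⟨-, h1⟩, h3, -⟩
      exact ⟨(mul_eq_zero.1 (by linear_combination -h1 :
          ((d : Matrix (Fin 2) (Fin 2) F) 0 0 - (d : Matrix (Fin 2) (Fin 2) F) 1 1) *
            (g : Matrix (Fin 2) (Fin 2) F) 0 1 = 0)).resolve_left hne,
        (mul_eq_zero.1 (by linear_combination h3 :
          ((d : Matrix (Fin 2) (Fin 2) F) 0 0 - (d : Matrix (Fin 2) (Fin 2) F) 1 1) *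
            (g : Matrix (Fin 2) (Fin 2) F) 1 0 = 0)).resolve_left hne⟩
    · rintro ⟨h1, h3⟩
      simp [h1, h3, mul_comm]
  obtain ⟨-, hcard, -⟩ := CfsgLib.SL2Trace.centralizer_card_cyclic d hreg
  have hcard' := hcard ⟨(d : Matrix (Fin 2) (Fin 2) F) 0 0, by
    rw [Matrix.trace_fin_two]; linear_combination -hdet⟩
  refine ⟨hmem, ?_, ?_, fun g hg hgT => ?_⟩
  · rw [CfsgLib.SL2Trace.card_normalizer_torus hreg h2, hcard']
  · have h := CfsgLib.SL2Trace.card_conjClasses_normalizer hreg h2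
    rw [hcard'] at h
    have := Nat.odd_iff.1 hodd
    omega
  · have := (CfsgLib.SL2Trace.outside_inverts hreg h2 hg hgT).2
    rwa [Matrix.SpecialLinearGroup.coe_mul] at this

end Cfsg.Agent.S2428
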