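import Cfsg.Statements.S2429
import Cfsg.Agent.Lib.SL2Trace.Tori

set_option autoImplicit false
open Cfsg

namespace Cfsg.Agent.S2429

/-- Let F be a finite field with q elements, q odd. Then SL₂ over F contains a cyclic subgroup T′ of order q + 1 (a non-split torus) with the following properties: T′ is its own centraliser, and indeed the centraliser of each element of T′ other than 1 and −1 is exactly T′; every element of SL₂ having no eigenvector in F² is conjugate to an element of T′; the normaliser of T′ has order 2(q + 1) and exactly (q + 7)/2 conjugacy classes; and every element of that normaliser outside T′ has square −1. -/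
theorem result {F : Type*} [Field F] [Fintype F] (hodd : Odd (Fintype.card F)) :
    ∃ T' : Subgroup (Matrix.SpecialLinearGroup (Fin 2) F), IsCyclic T' ∧ Nat.card T' = Fintype.card F + 1 ∧
      Subgroup.centralizer ((T' : Set (Matrix.SpecialLinearGroup (Fin 2) F))) = T' ∧
      (∀ g : Matrix.SpecialLinearGroup (Fin 2) F, g ∈ T' → (g : Matrix (Fin 2) (Fin 2) F) ≠ 1 → (g : Matrix (Fin 2) (Fin 2) F) ≠ -1 → Subgroup.centralizer ({g} : Set (Matrix.SpecialLinearGroup (Fin 2) F)) = T') ∧
      (∀ g : Matrix.SpecialLinearGroup (Fin 2) F, (∀ (c : F) (v : Fin 2 → F), v ≠ 0 → (g : Matrix (Fin 2) (Fin 2) F).mulVec v ≠ c • v) → ∃ h : Matrix.SpecialLinearGroup (Fin 2) F, h * g * h⁻¹ ∈ T') ∧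
      Nat.card (Subgroup.normalizer (T' : Set (Matrix.SpecialLinearGroup (Fin 2) F))) = 2 * (Fintype.card F + 1) ∧
      Nat.card (ConjClasses (Subgroup.normalizer (T' : Set (Matrix.SpecialLinearGroup (Fin 2) F)))) = (Fintype.card F + 7) / 2 ∧
      ∀ g : Matrix.SpecialLinearGroup (Fin 2) F, g ∈ Subgroup.normalizer (T' : Set (Matrix.SpecialLinearGroup (Fin 2) F)) → g ∉ T' → ((g * g) : Matrix (Fin 2) (Fin 2) F) = -1 := by
  have h2 := CfsgLib.SL2Trace.two_ne_zero_of_odd hodd
  obtain ⟨τ, hu⟩ := CfsgLib.SL2Trace.exists_anisotropic_trace (F := F)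
  set M := CfsgLib.SL2Trace.comp τ with hM
  have htr : (M : Matrix (Fin 2) (Fin 2) F).trace = τ := by
    simp [hM, CfsgLib.SL2Trace.coe_comp, Matrix.trace_fin_two]
  have hτ : τ ^ 2 ≠ 4 := fun h => hu (CfsgLib.SL2Trace.exists_root_of_sq_eq_four τ h)
  have hreg : (M : Matrix (Fin 2) (Fin 2) F).trace ^ 2 ≠ 4 := by rw [htr]; exact hτ
  obtain ⟨hcyc, -, hcard⟩ := CfsgLib.SL2Trace.centralizer_card_cyclic M hreg
  have hcard' := hcard (by rw [htr]; exact hu)
  refine ⟨Subgroup.centralizer ({M} : Set (Matrix.SpecialLinearGroup (Fin 2) F)), hcyc, hcard', ?_, ?_, ?_,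
    ?_, ?_, fun g hg hgT => ?_⟩
  · ext g
    constructor
    · intro hg
      rw [Subgroup.mem_centralizer_singleton_iff]
      exact (Subgroup.mem_centralizer_iff.1 hg M (CfsgLib.SL2Trace.self_mem M)).symm
    · intro hg
      rw [Subgroup.mem_centralizer_iff]
      exact fun h hh => CfsgLib.SL2Trace.torus_comm hreg hh hg
  · intro g hg h1 hm1
    apply CfsgLib.SL2Trace.centralizer_eq hreg hg
    intro hc
    obtain ⟨r, hr, hrg⟩ := Matrix.SpecialLinearGroup.mem_center_iff.1 hc
    rw [Fintype.card_fin] at hr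
    rcases sq_eq_one_iff.1 hr with rfl | rfl
    · exact h1 (by rw [← hrg, map_one])
    · exact hm1 (by rw [← hrg, map_neg, map_one])
  · intro g hg
    set σ := (g : Matrix (Fin 2) (Fin 2) F).trace with hσdef
    have hno : ¬ ∃ u : F, u ^ 2 - σ * u + 1 = 0 := by
      rintro ⟨u, hu'⟩
      obtain ⟨v, hv, hv'⟩ := Matrix.exists_mulVec_eq_zero_iff.2 (show
        ((g : Matrix (Fin 2) (Fin 2) F) - u • 1).det = 0 by
          have hdet := CfsgLib.SL2Trace.det_coe g
          rw [hσdef, Matrix.trace_fin_two] at hu'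
          rw [Matrix.det_fin_two]
          simp
          linear_combination hdet + hu')
      rw [Matrix.sub_mulVec, Matrix.smul_mulVec, Matrix.one_mulVec, sub_eq_zero] at hv'
      exact hg u v hv hv'
    have hσ : σ ^ 2 ≠ 4 := fun h => hno (CfsgLib.SL2Trace.exists_root_of_sq_eq_four σ h)
    obtain ⟨Y, hY, hYt⟩ := CfsgLib.SL2Trace.exists_mem_trace hreg h2 σ (by
      rw [htr]
      exact iff_of_false (fun h => hno (CfsgLib.SL2Trace.root_of_isSquare_disc h2 σ h))
        (fun h => hu (CfsgLib.SL2Trace.root_of_isSquare_disc h2 τ h)))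
    obtain ⟨U, hU⟩ := CfsgLib.SL2Trace.isConj_of_trace_eq g Y hσ hYt
    exact ⟨U, hU ▸ hY⟩
  · rw [CfsgLib.SL2Trace.card_normalizer_torus hreg h2, hcard']
  · have h := CfsgLib.SL2Trace.card_conjClasses_normalizer hreg h2
    rw [hcard'] at h
    have := Nat.odd_iff.1 hodd
    omega
  · have := (CfsgLib.SL2Trace.outside_inverts hreg h2 hg hgT).2
    rwa [Matrix.SpecialLinearGroup.coe_mul] at this

end Cfsg.Agent.S2429
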