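import Cfsg.Statements.S2435
import Cfsg.Agent.Lib.SL2Cusp.Half

set_option autoImplicit false
open Cfsg

namespace Cfsg.Agent.S2435

/-- Let F be a finite field with q elements, q odd and q ≥ 5, and χ an irreducible complex character of SL₂ over F. If χ has degree (q + 1)/2, then at a diagonal element with entry a, a² ≠ 1, χ takes the value 1 when a is a square in F and −1 otherwise. If χ has degree (q − 1)/2, then at an element g with no eigenvector in F² (so g has order dividing q + 1), χ takes the value −1 when g raised to the power (q + 1)/2 is the identity and the value 1 otherwise. -/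
theorem result {F : Type*} [Field F] [Fintype F] (hodd : Odd (Fintype.card F)) (hq : 5 ≤ Fintype.card F)
    (χ : Matrix.SpecialLinearGroup (Fin 2) F → ℂ) (hχ : Cfsg.IsIrrCharacter (Matrix.SpecialLinearGroup (Fin 2) F) χ) (g : Matrix.SpecialLinearGroup (Fin 2) F) :
    (χ 1 = (((Fintype.card F + 1) / 2 : ℕ) : ℂ) → (g : Matrix (Fin 2) (Fin 2) F) 0 1 = 0 → (g : Matrix (Fin 2) (Fin 2) F) 1 0 = 0 → (g : Matrix (Fin 2) (Fin 2) F) 0 0 ^ 2 ≠ 1 →
      (IsSquare ((g : Matrix (Fin 2) (Fin 2) F) 0 0) → χ g = 1) ∧ (¬ IsSquare ((g : Matrix (Fin 2) (Fin 2) F) 0 0) → χ g = -1)) ∧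
    (χ 1 = (((Fintype.card F - 1) / 2 : ℕ) : ℂ) → (∀ (c : F) (v : Fin 2 → F), v ≠ 0 → (g : Matrix (Fin 2) (Fin 2) F).mulVec v ≠ c • v) →
      (((g ^ ((Fintype.card F + 1) / 2)) : Matrix (Fin 2) (Fin 2) F) = 1 → χ g = -1) ∧ (((g ^ ((Fintype.card F + 1) / 2)) : Matrix (Fin 2) (Fin 2) F) ≠ 1 → χ g = 1)) := by
  classical
  refine ⟨fun h1 h01 h10 h00 => ?_, fun h1 hg => ?_⟩
  · have h0 : (g : Matrix (Fin 2) (Fin 2) F) 0 0 ≠ 0 := fun e => by
      have hd := CfsgLib.SL2Trace.det_coe g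
      rw [e, h01] at hd
      simp at hd
    have hv := CfsgLib.SL2Cusp.half_plus_value hodd hq hχ h1 h01 h10 h00
    refine ⟨fun hs => ?_, fun hs => ?_⟩
    · rw [hv, (quadraticChar_one_iff_isSquare h0).2 hs, Int.cast_one]
    · rw [hv, quadraticChar_neg_one_iff_not_isSquare.2 hs]
      norm_num
  · obtain ⟨ha, hb⟩ := CfsgLib.SL2Cusp.half_minus_value hodd hq hχ h1 hg
    have hiff : ∀ n : ℕ, (g : Matrix (Fin 2) (Fin 2) F) ^ n = 1 ↔ g ^ n = 1 := fun n => by
      refine ⟨fun e => ?_, fun e => ?_⟩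
      · apply Subtype.ext
        rw [Matrix.SpecialLinearGroup.coe_pow]
        exact e
      · rw [← Matrix.SpecialLinearGroup.coe_pow, e]
        rfl
    exact ⟨fun e => ha ((hiff _).1 e), fun e => hb (mt (hiff _).2 e)⟩

end Cfsg.Agent.S2435
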