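import Cfsg.Statements.S2436
import Cfsg.Agent.Lib.SL2Cusp.McKay

set_option autoImplicit false
open Cfsg

namespace Cfsg.Agent.S2436

/-- Let F be a finite field with q elements, q odd, ℓ any prime and S a Sylow ℓ-subgroup of SL₂ over F with normaliser N. Then SL₂ and N have the same number of irreducible complex characters of degree not divisible by ℓ (the McKay equality holds for SL₂ over F at every prime). -/
theorem result {F : Type*} [Field F] [Fintype F] (hodd : Odd (Fintype.card F)) (ℓ : ℕ) [Fact ℓ.Prime] (S : Sylow ℓ (Matrix.SpecialLinearGroup (Fin 2) F)) :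
    Nat.card {χ : Cfsg.IrrCharacter (Matrix.SpecialLinearGroup (Fin 2) F) // ¬ ℓ ∣ Cfsg.charDegree (χ : Matrix.SpecialLinearGroup (Fin 2) F → ℂ)} =
      Nat.card {ψ : Cfsg.IrrCharacter (Subgroup.normalizer ((S : Subgroup (Matrix.SpecialLinearGroup (Fin 2) F)) : Set (Matrix.SpecialLinearGroup (Fin 2) F))) //
        ¬ ℓ ∣ Cfsg.charDegree (ψ : Subgroup.normalizer ((S : Subgroup (Matrix.SpecialLinearGroup (Fin 2) F)) : Set (Matrix.SpecialLinearGroup (Fin 2) F)) → ℂ)} := by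
  classical
  by_cases hq : ℓ ∣ Fintype.card F
  · exact CfsgLib.SL2Cusp.mckay_defining hodd hq S
  have hlp : ℓ.Prime := Fact.out
  have hℓ1 : ¬ ℓ ∣ 1 := hlp.not_dvd_one
  have hq3 : 3 ≤ Fintype.card F := by
    have := Fintype.one_lt_card (α := F)
    obtain ⟨j, hj⟩ := hodd
    omega
  have hhalf1 : Fintype.card F + 1 = 2 * ((Fintype.card F + 1) / 2) := by
    obtain ⟨j, hj⟩ := hodd
    omega
  have hhalf2 : Fintype.card F - 1 = 2 * ((Fintype.card F - 1) / 2) := by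
    obtain ⟨j, hj⟩ := hodd
    omega
  obtain ⟨d, e, hd, he, hcount⟩ := CfsgLib.SL2Cusp.count_degrees (F := F) hodd (fun r => ¬ ℓ ∣ r)
  by_cases h2 : ℓ = 2
  · subst h2
    have hp : 2 ∣ Fintype.card F + 1 := ⟨_, hhalf1⟩
    have hm : 2 ∣ Fintype.card F - 1 := ⟨_, hhalf2⟩
    rw [hcount, CfsgLib.SL2Cusp.mckay_two hodd S, if_pos hℓ1, if_pos hq,
      if_neg (not_not.2 hp), if_neg (not_not.2 hm)]
    split_ifs <;> omega
  have hℓ2 : ¬ ℓ ∣ 2 := fun h => h2 ((Nat.prime_dvd_prime_iff_eq hlp Nat.prime_two).1 h)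
  have hiff1 : ℓ ∣ (Fintype.card F + 1) / 2 ↔ ℓ ∣ Fintype.card F + 1 :=
    ⟨fun h => hhalf1 ▸ h.mul_left 2, fun h => (hlp.dvd_mul.1 (hhalf1 ▸ h)).resolve_left hℓ2⟩
  have hiff2 : ℓ ∣ (Fintype.card F - 1) / 2 ↔ ℓ ∣ Fintype.card F - 1 :=
    ⟨fun h => hhalf2 ▸ h.mul_left 2, fun h => (hlp.dvd_mul.1 (hhalf2 ▸ h)).resolve_left hℓ2⟩
  have hboth : ¬ (ℓ ∣ Fintype.card F - 1 ∧ ℓ ∣ Fintype.card F + 1) := fun ⟨a, b⟩ => hℓ2 (by
    rw [show Fintype.card F + 1 = (Fintype.card F - 1) + 2 by omega] at b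
    exact (Nat.dvd_add_right a).1 b)
  obtain ⟨hminus, hplus⟩ := Cfsg.Agent.S2430.result hodd ℓ h2 S
  by_cases hm : ℓ ∣ Fintype.card F - 1
  · obtain ⟨hC, hcyc, hN⟩ := hminus hm
    have h4 : 4 ≤ Fintype.card F - 1 := by
      have hl : 3 ≤ ℓ := by
        have := hlp.two_le
        omega
      have hle := Nat.le_of_dvd (by omega) hm
      by_contra hlt
      have : Fintype.card F - 1 = 3 := by omega
      omega
    have hr := CfsgLib.SL2Cusp.mckay_torus hodd h2 S h4 (Or.inl rfl) hC hcyc hN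
    have hp : ¬ ℓ ∣ Fintype.card F + 1 := fun h => hboth ⟨hm, h⟩
    rw [hcount, if_pos hℓ1, if_pos hq, if_pos (mt hiff1.1 hp),
      if_neg (not_not.2 (hiff2.2 hm)), if_pos hp, if_neg (not_not.2 hm)]
    omega
  by_cases hp : ℓ ∣ Fintype.card F + 1
  · obtain ⟨hC, hcyc, hN⟩ := hplus hp
    have hr := CfsgLib.SL2Cusp.mckay_torus hodd h2 S (by omega) (Or.inr rfl) hC hcyc hN
    rw [hcount, if_pos hℓ1, if_pos hq, if_neg (not_not.2 (hiff1.2 hp)),
      if_pos (mt hiff2.1 hm), if_neg (not_not.2 hp), if_pos hm]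
    omega
  refine CfsgLib.SL2Cusp.mckay_coprime ?_ S
  rw [CfsgLib.SL2Cusp.card_SL2_factor]
  exact fun h => (hlp.dvd_mul.1 h).elim hq fun h' => (hlp.dvd_mul.1 h').elim hp hm

end Cfsg.Agent.S2436
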