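import Cfsg.Statements.S2438
import Cfsg.Agent.Lib.SL2Deg.Degrees

set_option autoImplicit false
open Cfsg

namespace Cfsg.Agent.S2438

/-- Let F be a finite field with q elements, q odd, q ≥ 5, U the upper unitriangular subgroup of SL₂ over F, and χ an irreducible complex character. The sum of the values of χ over U equals 2q, q, 0, q, 0 according as the degree of χ is q + 1, q, q − 1, (q + 1)/2, (q − 1)/2; so among these five degrees the sum vanishes exactly for the degrees q − 1 and (q − 1)/2, i.e. the irreducible characters of those two degrees are the ones whose restriction to U does not contain the trivial character (the cuspidal characters), while those of degree q + 1, q and (q + 1)/2 are not cuspidal. -/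
theorem result {F : Type*} [Field F] [Fintype F] [DecidableEq F] (hodd : Odd (Fintype.card F)) (hq : 5 ≤ Fintype.card F)
    (χ : Matrix.SpecialLinearGroup (Fin 2) F → ℂ) (hχ : Cfsg.IsIrrCharacter (Matrix.SpecialLinearGroup (Fin 2) F) χ) :
    (χ 1 = (Fintype.card F : ℂ) + 1 →
      (∑ g : Matrix.SpecialLinearGroup (Fin 2) F, if (g : Matrix (Fin 2) (Fin 2) F) 1 0 = 0 ∧ (g : Matrix (Fin 2) (Fin 2) F) 0 0 = 1 ∧ (g : Matrix (Fin 2) (Fin 2) F) 1 1 = 1 then χ g else 0) = 2 * (Fintype.card F : ℂ)) ∧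
    (χ 1 = (Fintype.card F : ℂ) →
      (∑ g : Matrix.SpecialLinearGroup (Fin 2) F, if (g : Matrix (Fin 2) (Fin 2) F) 1 0 = 0 ∧ (g : Matrix (Fin 2) (Fin 2) F) 0 0 = 1 ∧ (g : Matrix (Fin 2) (Fin 2) F) 1 1 = 1 then χ g else 0) = (Fintype.card F : ℂ)) ∧
    (χ 1 = (Fintype.card F : ℂ) - 1 →
      (∑ g : Matrix.SpecialLinearGroup (Fin 2) F, if (g : Matrix (Fin 2) (Fin 2) F) 1 0 = 0 ∧ (g : Matrix (Fin 2) (Fin 2) F) 0 0 = 1 ∧ (g : Matrix (Fin 2) (Fin 2) F) 1 1 = 1 then χ g else 0) = 0) ∧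
    (χ 1 = (((Fintype.card F + 1) / 2 : ℕ) : ℂ) →
      (∑ g : Matrix.SpecialLinearGroup (Fin 2) F, if (g : Matrix (Fin 2) (Fin 2) F) 1 0 = 0 ∧ (g : Matrix (Fin 2) (Fin 2) F) 0 0 = 1 ∧ (g : Matrix (Fin 2) (Fin 2) F) 1 1 = 1 then χ g else 0) = (Fintype.card F : ℂ)) ∧
    (χ 1 = (((Fintype.card F - 1) / 2 : ℕ) : ℂ) →
      (∑ g : Matrix.SpecialLinearGroup (Fin 2) F, if (g : Matrix (Fin 2) (Fin 2) F) 1 0 = 0 ∧ (g : Matrix (Fin 2) (Fin 2) F) 0 0 = 1 ∧ (g : Matrix (Fin 2) (Fin 2) F) 1 1 = 1 then χ g else 0) = 0) := by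
  classical
  obtain ⟨ψ, hψ⟩ := CfsgLib.SL2Deg.exists_primitive (F := F)
  have h2 := CfsgLib.SL2Deg.two_ne_zero_of_odd hodd
  obtain ⟨ν, hν⟩ := FiniteField.exists_nonsquare (F := F)
    (fun h => h2 (by
      have : CharP F 2 := ringChar.of_eq h
      exact_mod_cast CharP.cast_eq_zero F 2))
  let X : Cfsg.IrrCharacter (Matrix.SpecialLinearGroup (Fin 2) F) := ⟨χ, hχ⟩
  obtain ⟨P, St, A, B, C, C', D, E, -, -, vP, vS, vA, vB, vC, vC', vD, vE, -, -, -, hsplit⟩ :=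
    CfsgLib.SL2Deg.odd_table hψ h2 (by omega) hodd hν
  obtain ⟨f, m, n, hv, hmn⟩ : ∃ f m n : ℕ, CfsgLib.SL2Deg.Vec ψ ν X f m n ∧
      ((f = 1 ∧ m + n = 0) ∨ (f = 1 ∧ m + n = 2) ∨ (f = 1 ∧ m + n = 1) ∨ (f = 0 ∧ m + n = 1) ∨
        (f = 2 ∧ m + n = 2) ∨ (f = 0 ∧ m + n = 2)) := by
    refine CfsgLib.SL2Deg.mem_of_sum_split (χ := X) (p := fun x => ∃ f m n : ℕ,
      CfsgLib.SL2Deg.Vec ψ ν x f m n ∧
      ((f = 1 ∧ m + n = 0) ∨ (f = 1 ∧ m + n = 2) ∨ (f = 1 ∧ m + n = 1) ∨ (f = 0 ∧ m + n = 1) ∨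
        (f = 2 ∧ m + n = 2) ∨ (f = 0 ∧ m + n = 2))) [P, St, A, B, C, C'] D E ?_
      (fun x hx => ⟨_, _, _, vD x hx, by omega⟩) (fun x hx => ⟨_, _, _, vE x hx, by omega⟩)
      (fun g => by rw [hsplit g]; simp; ring)
    intro x hx
    simp only [List.mem_cons, List.not_mem_nil, or_false] at hx
    rcases hx with rfl | rfl | rfl | rfl | rfl | rfl
    exacts [⟨_, _, _, vP, by omega⟩, ⟨_, _, _, vS, by omega⟩, ⟨_, _, _, vA, by omega⟩,
      ⟨_, _, _, vB, by omega⟩, ⟨_, _, _, vC, by omega⟩, ⟨_, _, _, vC', by omega⟩]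
  have hdeg : χ 1 = ((f + (Fintype.card F - 1) / 2 * (m + n) : ℕ) : ℂ) :=
    CfsgLib.SL2Deg.apply_one_of_vec hψ hν hv
  have hsum : (∑ g : Matrix.SpecialLinearGroup (Fin 2) F,
      if (g : Matrix (Fin 2) (Fin 2) F) 1 0 = 0 ∧ (g : Matrix (Fin 2) (Fin 2) F) 0 0 = 1 ∧
        (g : Matrix (Fin 2) (Fin 2) F) 1 1 = 1 then χ g else 0) = (f : ℂ) * Fintype.card F := by
    have hcoef := CfsgLib.SL2Deg.mult_spec (ψ := ψ) (0 : F) X
    rw [hv.1, CfsgLib.SL2Deg.coef_zero] at hcoef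
    have hq0 : (Fintype.card F : ℂ) ≠ 0 := Nat.cast_ne_zero.2 Fintype.card_ne_zero
    rw [← hcoef, mul_comm, ← mul_assoc, mul_inv_cancel₀ hq0, one_mul, ← Finset.sum_filter]
    refine Finset.sum_bij' (fun g _ => (g : Matrix (Fin 2) (Fin 2) F) 0 1)
      (fun b _ => CfsgLib.SL2Deg.u b) (fun _ _ => Finset.mem_univ _) (fun b _ => ?_)
      (fun g hg => ?_) (fun b _ => by simp [CfsgLib.SL2Deg.coe_u]) (fun g hg => ?_)
    · simp [CfsgLib.SL2Deg.coe_u]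
    · obtain ⟨a, b, c⟩ := (Finset.mem_filter.1 hg).2
      apply Subtype.ext
      rw [CfsgLib.SL2Deg.coe_u]
      ext i j
      fin_cases i <;> fin_cases j <;> simp [a, b, c]
    · obtain ⟨a, b, c⟩ := (Finset.mem_filter.1 hg).2
      show χ g = χ _
      congr 1
      apply Subtype.ext
      rw [CfsgLib.SL2Deg.coe_u]
      ext i j
      fin_cases i <;> fin_cases j <;> simp [a, b, c]
  rw [hsum, hdeg]
  obtain ⟨j, hj⟩ := hodd
  rw [hj, show (2 * j + 1 - 1) / 2 = j by omega, show (2 * j + 1 + 1) / 2 = j + 1 by omega]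
  have hj2 : 2 ≤ j := by omega
  refine ⟨fun h => ?_, fun h => ?_, fun h => ?_, fun h => ?_, fun h => ?_⟩
  · have h' : f + j * (m + n) = 2 * j + 1 + 1 := by exact_mod_cast h
    have hf : f = 2 := by rcases hmn with ⟨a, b⟩ | ⟨a, b⟩ | ⟨a, b⟩ | ⟨a, b⟩ | ⟨a, b⟩ | ⟨a, b⟩ <;>
      rw [a, b] at h' <;> omega
    simp [hf]
  · have h' : f + j * (m + n) = 2 * j + 1 := by exact_mod_cast h
    have hf : f = 1 := by rcases hmn with ⟨a, b⟩ | ⟨a, b⟩ | ⟨a, b⟩ | ⟨a, b⟩ | ⟨a, b⟩ | ⟨a, b⟩ <;>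
      rw [a, b] at h' <;> omega
    simp [hf]
  · have h' : f + j * (m + n) = 2 * j := by
      push_cast at h
      ring_nf at h
      exact_mod_cast (by linear_combination h :
        ((f : ℂ) + (j : ℂ) * ((m : ℂ) + n)) = 2 * (j : ℂ))
    have hf : f = 0 := by rcases hmn with ⟨a, b⟩ | ⟨a, b⟩ | ⟨a, b⟩ | ⟨a, b⟩ | ⟨a, b⟩ | ⟨a, b⟩ <;>
      rw [a, b] at h' <;> omega
    simp [hf]
  · have h' : f + j * (m + n) = j + 1 := Nat.cast_injective h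
    have hf : f = 1 := by rcases hmn with ⟨a, b⟩ | ⟨a, b⟩ | ⟨a, b⟩ | ⟨a, b⟩ | ⟨a, b⟩ | ⟨a, b⟩ <;>
      rw [a, b] at h' <;> omega
    simp [hf]
  · have h' : f + j * (m + n) = j := Nat.cast_injective h
    have hf : f = 0 := by rcases hmn with ⟨a, b⟩ | ⟨a, b⟩ | ⟨a, b⟩ | ⟨a, b⟩ | ⟨a, b⟩ | ⟨a, b⟩ <;>
      rw [a, b] at h' <;> omega
    simp [hf]

end Cfsg.Agent.S2438
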