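import Cfsg.Statements.S2439
import Cfsg.Agent.Lib.SL2Cusp.Blocks
import Cfsg.Agent.Lib.Char.Linear

set_option autoImplicit false
open Cfsg

namespace Cfsg.Agent.S2439

/-- Let F be a finite field with q elements of odd characteristic p, and M a maximal ideal of the algebraic integers containing p. Then SL₂ over F has exactly three p-blocks relative to M: the irreducible character of degree q (the Steinberg character) alone; the other irreducible characters taking the same value at −1 as at 1 (the principal block); and the irreducible characters χ with χ(−1) = −χ(1). Every Sylow p-subgroup is a defect group of each of the last two blocks. -/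
theorem result {F : Type*} [Field F] [Fintype F] (p : ℕ) [Fact p.Prime] [CharP F p] (hp : p ≠ 2)
    (M : Ideal Cfsg.AlgInt) (hM : Cfsg.IsPModular p M) :
    (∀ B : Set (Cfsg.IrrCharacter (Matrix.SpecialLinearGroup (Fin 2) F)), Cfsg.IsPBlock M B ↔
      (B = {χ : Cfsg.IrrCharacter (Matrix.SpecialLinearGroup (Fin 2) F) | (χ : Matrix.SpecialLinearGroup (Fin 2) F → ℂ) 1 = (Fintype.card F : ℂ)} ∨
       B = {χ : Cfsg.IrrCharacter (Matrix.SpecialLinearGroup (Fin 2) F) | (χ : Matrix.SpecialLinearGroup (Fin 2) F → ℂ) (-1) = (χ : Matrix.SpecialLinearGroup (Fin 2) F → ℂ) 1 ∧ (χ : Matrix.SpecialLinearGroup (Fin 2) F → ℂ) 1 ≠ (Fintype.card F : ℂ)} ∨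
       B = {χ : Cfsg.IrrCharacter (Matrix.SpecialLinearGroup (Fin 2) F) | (χ : Matrix.SpecialLinearGroup (Fin 2) F → ℂ) (-1) = -(χ : Matrix.SpecialLinearGroup (Fin 2) F → ℂ) 1})) ∧
    Nat.card {B : Set (Cfsg.IrrCharacter (Matrix.SpecialLinearGroup (Fin 2) F)) // Cfsg.IsPBlock M B} = 3 ∧
    ∀ P : Sylow p (Matrix.SpecialLinearGroup (Fin 2) F),
      Cfsg.IsDefectGroup p M {χ : Cfsg.IrrCharacter (Matrix.SpecialLinearGroup (Fin 2) F) | (χ : Matrix.SpecialLinearGroup (Fin 2) F → ℂ) (-1) = (χ : Matrix.SpecialLinearGroup (Fin 2) F → ℂ) 1 ∧ (χ : Matrix.SpecialLinearGroup (Fin 2) F → ℂ) 1 ≠ (Fintype.card F : ℂ)} (P : Subgroup (Matrix.SpecialLinearGroup (Fin 2) F)) ∧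
      Cfsg.IsDefectGroup p M {χ : Cfsg.IrrCharacter (Matrix.SpecialLinearGroup (Fin 2) F) | (χ : Matrix.SpecialLinearGroup (Fin 2) F → ℂ) (-1) = -(χ : Matrix.SpecialLinearGroup (Fin 2) F → ℂ) 1} (P : Subgroup (Matrix.SpecialLinearGroup (Fin 2) F)) := by
  classical
  haveI := hM.2.1
  obtain ⟨St, hSt1, hSt2, hother⟩ :=
    CfsgLib.SL2Cusp.degree_q_or_prime (F := F) hp
  have hone : ∀ χ : Cfsg.IrrCharacter (Matrix.SpecialLinearGroup (Fin 2) F),
      (χ : Matrix.SpecialLinearGroup (Fin 2) F → ℂ) 1 = (Fintype.card F : ℂ) ↔ χ = St :=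
    fun χ => ⟨fun h => by_contra fun hne => (hother χ hne).1 h, fun h => h ▸ hSt1⟩
  set S₀ := {χ : Cfsg.IrrCharacter (Matrix.SpecialLinearGroup (Fin 2) F) |
    (χ : Matrix.SpecialLinearGroup (Fin 2) F → ℂ) 1 = (Fintype.card F : ℂ)} with hS₀
  set S₁ := {χ : Cfsg.IrrCharacter (Matrix.SpecialLinearGroup (Fin 2) F) |
    (χ : Matrix.SpecialLinearGroup (Fin 2) F → ℂ) (-1) = (χ : Matrix.SpecialLinearGroup (Fin 2) F → ℂ) 1 ∧
      (χ : Matrix.SpecialLinearGroup (Fin 2) F → ℂ) 1 ≠ (Fintype.card F : ℂ)} with hS₁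
  set S₂ := {χ : Cfsg.IrrCharacter (Matrix.SpecialLinearGroup (Fin 2) F) |
    (χ : Matrix.SpecialLinearGroup (Fin 2) F → ℂ) (-1) =
      -(χ : Matrix.SpecialLinearGroup (Fin 2) F → ℂ) 1} with hS₂
  have hd0 : ∀ χ : Cfsg.IrrCharacter (Matrix.SpecialLinearGroup (Fin 2) F),
      (χ : Matrix.SpecialLinearGroup (Fin 2) F → ℂ) 1 ≠ 0 := CfsgLib.BlockReg.deg_ne_zero
  have hneg : ∀ χ : Cfsg.IrrCharacter (Matrix.SpecialLinearGroup (Fin 2) F),
      ¬ ((χ : Matrix.SpecialLinearGroup (Fin 2) F → ℂ) (-1) =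
          (χ : Matrix.SpecialLinearGroup (Fin 2) F → ℂ) 1 ∧
        (χ : Matrix.SpecialLinearGroup (Fin 2) F → ℂ) (-1) =
          -(χ : Matrix.SpecialLinearGroup (Fin 2) F → ℂ) 1) := by
    rintro χ ⟨h, h'⟩
    apply hd0 χ
    linear_combination (h' - h) / 2
  have hSt : Cfsg.blockOf M (St : Matrix.SpecialLinearGroup (Fin 2) F → ℂ) = {St} := by
    refine (Cfsg.Agent.S0914.result p M hM St).1 ?_
    rw [CfsgLib.SL2Deg.charDegree_eq hSt1, CfsgLib.SL2Borel.card_SL2_eq_mul_borel,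
      CfsgLib.SL2Borel.card_borel, ← mul_assoc, Nat.mul_div_cancel _ Fintype.card_pos]
    have hpq := CfsgLib.SL2Cusp.char_dvd_card (F := F) (p := p)
    intro hd
    rcases (Fact.out : p.Prime).dvd_mul.1 hd with hd | hd
    · exact (Fact.out : p.Prime).not_dvd_one ((Nat.dvd_add_right hpq).1 hd)
    · have hsum : Fintype.card F - 1 + 1 = Fintype.card F := Nat.sub_add_cancel Fintype.card_pos
      exact (Fact.out : p.Prime).not_dvd_one ((Nat.dvd_add_right hd).1 (by rw [hsum]; exact hpq))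
  have hb0 : ∀ χ ∈ S₀, Cfsg.blockOf M (χ : Matrix.SpecialLinearGroup (Fin 2) F → ℂ) = S₀ := by
    intro χ hχ
    rw [(hone χ).1 hχ, hSt]
    ext η
    exact (hone η).symm
  have hsame : ∀ χ η : Cfsg.IrrCharacter (Matrix.SpecialLinearGroup (Fin 2) F), χ ≠ St →
      (η ∈ Cfsg.blockOf M (χ : Matrix.SpecialLinearGroup (Fin 2) F → ℂ) ↔ η ≠ St ∧
        (χ : Matrix.SpecialLinearGroup (Fin 2) F → ℂ) (-1) /
            (χ : Matrix.SpecialLinearGroup (Fin 2) F → ℂ) 1 =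
          (η : Matrix.SpecialLinearGroup (Fin 2) F → ℂ) (-1) /
            (η : Matrix.SpecialLinearGroup (Fin 2) F → ℂ) 1) := by
    intro χ η hne
    refine ⟨fun h => ⟨fun e => hne ?_, CfsgLib.SL2Cusp.sign_eq_of_sameBlock hp hM h⟩,
      fun h => CfsgLib.SL2Cusp.sameBlock_of_sign hp hM (hother χ hne).2 (hother η h.1).2 h.2⟩
    subst e
    have hmem : χ ∈ Cfsg.blockOf M (η : Matrix.SpecialLinearGroup (Fin 2) F → ℂ) :=
      CfsgLib.BlockReg.sameBlock_symm h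
    rw [hSt] at hmem
    exact hmem
  have hdiv : ∀ χ : Cfsg.IrrCharacter (Matrix.SpecialLinearGroup (Fin 2) F),
      ((χ : Matrix.SpecialLinearGroup (Fin 2) F → ℂ) (-1) /
          (χ : Matrix.SpecialLinearGroup (Fin 2) F → ℂ) 1 = 1 ↔
        (χ : Matrix.SpecialLinearGroup (Fin 2) F → ℂ) (-1) =
          (χ : Matrix.SpecialLinearGroup (Fin 2) F → ℂ) 1) ∧
      ((χ : Matrix.SpecialLinearGroup (Fin 2) F → ℂ) (-1) /
          (χ : Matrix.SpecialLinearGroup (Fin 2) F → ℂ) 1 = -1 ↔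
        (χ : Matrix.SpecialLinearGroup (Fin 2) F → ℂ) (-1) =
          -(χ : Matrix.SpecialLinearGroup (Fin 2) F → ℂ) 1) := by
    intro χ
    exact ⟨by rw [div_eq_iff (hd0 χ), one_mul], by rw [div_eq_iff (hd0 χ), neg_one_mul]⟩
  have hne2 : ∀ χ ∈ S₂, χ ≠ St := fun χ hχ e => hneg χ ⟨e ▸ hSt2, hχ⟩
  have hne1 : ∀ χ ∈ S₁, χ ≠ St := fun χ hχ e => hχ.2 ((hone χ).2 e)
  have hb1 : ∀ χ ∈ S₁, Cfsg.blockOf M (χ : Matrix.SpecialLinearGroup (Fin 2) F → ℂ) = S₁ := by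
    intro χ hχ
    ext η
    rw [hsame χ η (hne1 χ hχ), (hdiv χ).1.2 hχ.1, eq_comm (a := (1 : ℂ)), (hdiv η).1,
      ne_eq, ← hone η]
    exact ⟨fun h => ⟨h.2, h.1⟩, fun h => ⟨h.2, h.1⟩⟩
  have hb2 : ∀ χ ∈ S₂, Cfsg.blockOf M (χ : Matrix.SpecialLinearGroup (Fin 2) F → ℂ) = S₂ := by
    intro χ hχ
    ext η
    rw [hsame χ η (hne2 χ hχ), (hdiv χ).2.2 hχ, eq_comm (a := (-1 : ℂ)), (hdiv η).2]
    exact ⟨fun h => h.2, fun h => ⟨hne2 η h, h⟩⟩
  have hcover : ∀ χ, χ ∈ S₀ ∨ χ ∈ S₁ ∨ χ ∈ S₂ := by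
    intro χ
    by_cases h : (χ : Matrix.SpecialLinearGroup (Fin 2) F → ℂ) 1 = (Fintype.card F : ℂ)
    · exact Or.inl h
    · rcases CfsgLib.SL2Cusp.apply_neg_one_cases χ with e | e
      · exact Or.inr (Or.inl ⟨e, h⟩)
      · exact Or.inr (Or.inr e)
  have hm0 : St ∈ S₀ := hSt1
  have hm1 : CfsgLib.Char.principalIrr ∈ S₁ := by
    refine ⟨by simp [CfsgLib.Char.principalIrr_apply], ?_⟩
    rw [CfsgLib.Char.principalIrr_apply]
    exact_mod_cast (Fintype.one_lt_card (α := F)).ne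
  obtain ⟨X, hX⟩ : S₂.Nonempty := by
    by_contra hemp
    refine (show ¬ IsConj (-1 : Matrix.SpecialLinearGroup (Fin 2) F) 1 from fun h => ?_)
      (CfsgLib.Char.isConj_of_forall_eq fun χ hχ => ?_)
    · rw [isConj_one_left] at h
      have := congrArg (fun g : Matrix.SpecialLinearGroup (Fin 2) F =>
        (g : Matrix (Fin 2) (Fin 2) F) 0 0) h
      simp only [Matrix.SpecialLinearGroup.coe_neg, Matrix.SpecialLinearGroup.coe_one,
        Matrix.neg_apply, Matrix.one_apply_eq] at this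
      exact CfsgLib.SL2Deg.two_ne_zero_of_odd (CfsgLib.SL2Cusp.odd_card_of_char (F := F) hp)
        (by linear_combination -this)
    · exact (CfsgLib.SL2Cusp.apply_neg_one_cases ⟨χ, hχ⟩).resolve_right
        fun e => hemp ⟨⟨χ, hχ⟩, e⟩
  have hiff : ∀ B, Cfsg.IsPBlock M B ↔ (B = S₀ ∨ B = S₁ ∨ B = S₂) := by
    intro B
    constructor
    · rintro ⟨χ, rfl⟩
      rcases hcover χ with h | h | h
      exacts [Or.inl (hb0 χ h), Or.inr (Or.inl (hb1 χ h)), Or.inr (Or.inr (hb2 χ h))]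
    · rintro (rfl | rfl | rfl)
      exacts [⟨St, (hb0 _ hm0).symm⟩, ⟨_, (hb1 _ hm1).symm⟩, ⟨X, (hb2 _ hX).symm⟩]
  refine ⟨hiff, ?_, fun P => ⟨?_, ?_⟩⟩
  · have h01 : S₀ ≠ S₁ := fun e => (e ▸ hm0 : St ∈ S₁).2 hSt1
    have h02 : S₀ ≠ S₂ := fun e => hne2 St (e ▸ hm0) rfl
    have h12 : S₁ ≠ S₂ := fun e => hneg _ ⟨hm1.1, (e ▸ hm1 : CfsgLib.Char.principalIrr ∈ S₂)⟩
    rw [show Nat.card {B // Cfsg.IsPBlock M B} =
        Nat.card ({S₀, S₁, S₂} : Set (Set (Cfsg.IrrCharacter (Matrix.SpecialLinearGroup (Fin 2) F))))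
      from Nat.card_congr (Equiv.subtypeEquivRight fun B => by simp [hiff B]),
      Nat.card_coe_set_eq, Set.ncard_insert_of_notMem (by simp [h01, h02]), Set.ncard_pair h12]
  · exact (CfsgLib.Blocks.isDefectGroup_sylow_of_deg hM ((hiff _).2 (Or.inr (Or.inl rfl))) hm1
      (hother _ (hne1 _ hm1)).2).1 P
  · exact (CfsgLib.Blocks.isDefectGroup_sylow_of_deg hM ((hiff _).2 (Or.inr (Or.inr rfl))) hX
      (hother _ (hne2 _ hX)).2).1 P

end Cfsg.Agent.S2439
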