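import Cfsg.Statements.S2440
import Cfsg.Agent.Lib.SLBlocks.Defect
import Cfsg.Agent.Lib.SLBlocks.DefectZero
import Cfsg.Agent.Lib.Blk83.Weight
import Cfsg.Agent.S4733
import Cfsg.Agent.S0914

set_option autoImplicit false
open Cfsg

namespace Cfsg.Agent.S2440
open CfsgLib.SLBlocks CfsgLib.Blocks

theorem card_defect_trivial (p : ℕ) [Fact p.Prime] (n : ℕ) (M : Ideal Cfsg.AlgInt) [M.IsMaximal]
    (hM : Cfsg.IsPModular p M) :
    Nat.card {B : Set (Cfsg.IrrCharacter (Matrix.SpecialLinearGroup (Fin n) (ZMod p))) //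
      Cfsg.IsPBlock M B ∧ Cfsg.IsDefectGroup p M B ⊥} = 1 := by
  classical
  haveI : Finite (Matrix.SpecialLinearGroup (Fin n) (ZMod p)) := finite_sl
  obtain ⟨χ, hirr, h1, -, huniq⟩ := existsUnique_vanishing n (ZMod p)
  obtain ⟨P₀, hP₀⟩ := (CfsgLib.SteinbergChar.linearDatum n (ZMod p)).exists_sylow p
  set a := (Nat.card (Matrix.SpecialLinearGroup (Fin n) (ZMod p))).factorization p with ha
  have hU : Nat.card (slU n (ZMod p)) = p ^ a := by
    show Nat.card (CfsgLib.SteinbergChar.linearDatum n (ZMod p)).U = _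
    rw [← hP₀, P₀.card_eq_multiplicity]
  have hdeg : Cfsg.charDegree χ = p ^ a := by
    rw [Cfsg.charDegree, h1, hU, Complex.natCast_re, Nat.floor_natCast]
  have hsing : Cfsg.blockOf M χ = {⟨χ, hirr⟩} := (Cfsg.Agent.S0914.result p M hM ⟨χ, hirr⟩).1 (by
    show ¬ p ∣ _ / Cfsg.charDegree χ
    rw [hdeg]
    exact Nat.not_dvd_ordCompl Fact.out Nat.card_pos.ne')
  have hzero : ∀ ψ : Cfsg.IrrCharacter (Matrix.SpecialLinearGroup (Fin n) (ZMod p)),
      Cfsg.blockDefect p {ψ} = a - (Cfsg.charDegree (ψ : Matrix.SpecialLinearGroup (Fin n) (ZMod p) → ℂ)).factorization p := fun ψ => by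
    rw [Cfsg.blockDefect, Set.image_singleton, csInf_singleton]
  have hB : Cfsg.IsPBlock M (Cfsg.blockOf M χ) := ⟨⟨χ, hirr⟩, rfl⟩
  obtain ⟨D, hD⟩ := exists_defectGroup hM hB
  have hD0 : D = ⊥ := Subgroup.eq_bot_of_card_eq D (by
    rw [card_defectGroup hM hB hD, hsing, hzero]
    show p ^ (a - (Cfsg.charDegree χ).factorization p) = 1
    rw [hdeg, (Fact.out : p.Prime).factorization_pow, Finsupp.single_eq_same, Nat.sub_self, pow_zero])
  rw [Nat.card_eq_one_iff_unique]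
  refine ⟨⟨?_⟩, ⟨⟨_, hB, hD0 ▸ hD⟩⟩⟩
  suffices h : ∀ B : Set (Cfsg.IrrCharacter (Matrix.SpecialLinearGroup (Fin n) (ZMod p))),
      Cfsg.IsPBlock M B → Cfsg.IsDefectGroup p M B ⊥ → B = {⟨χ, hirr⟩} from
    fun B B' => Subtype.ext ((h _ B.2.1 B.2.2).trans (h _ B'.2.1 B'.2.2).symm)
  intro B hB' hbot
  have hd : Cfsg.blockDefect p B = 0 := by
    have h := card_defectGroup hM hB' hbot
    rw [Subgroup.card_bot, eq_comm, Nat.pow_eq_one] at h
    exact h.resolve_left (Fact.out : p.Prime).ne_one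
  obtain ⟨ψ, -, rfl⟩ := Cfsg.Agent.S4733.eq_singleton_of_defect_zero hM hB' hd
  rw [hzero] at hd
  have hfull : (Cfsg.charDegree (ψ : Matrix.SpecialLinearGroup (Fin n) (ZMod p) → ℂ)).factorization p = a :=
    le_antisymm (CfsgLib.BlockReg.factorization_deg_le ψ) (by omega)
  refine congrArg (fun x => ({x} : Set _)) (Subtype.ext (huniq _ ψ.2 fun u hu hne =>
    CfsgLib.Blk83.vanish_of_defect_zero Fact.out ψ.2 hfull ?_))
  have hu' : u ∈ (P₀ : Subgroup (Matrix.SpecialLinearGroup (Fin n) (ZMod p))) := hP₀ ▸ hu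
  obtain ⟨k, hk⟩ := P₀.2 ⟨u, hu'⟩
  obtain ⟨j, -, hj⟩ := (Nat.dvd_prime_pow Fact.out).mp
    (orderOf_dvd_of_pow_eq_one (congrArg Subtype.val hk : u ^ p ^ k = 1))
  have hj0 : j ≠ 0 := fun h => hne (orderOf_eq_one_iff.mp (by rw [hj, h, pow_zero]))
  rw [hj]
  exact dvd_pow_self p hj0


/-- For a prime p and n ≥ 2, the group SL_n over the field with p elements has exactly gcd(n, p − 1) + 1 p-blocks relative to any maximal ideal of the algebraic integers containing p, that is, one more than the order of its centre (only this total is asserted; it arises as the defect-zero block of the Steinberg character plus as many blocks of maximal defect as the order of the centre). -/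
theorem result (p : ℕ) [Fact p.Prime] (n : ℕ) (hn : 2 ≤ n) (M : Ideal Cfsg.AlgInt) (hM : Cfsg.IsPModular p M) :
    Nat.card {B : Set (Cfsg.IrrCharacter (Matrix.SpecialLinearGroup (Fin n) (ZMod p))) // Cfsg.IsPBlock M B} =
      Nat.gcd n (p - 1) + 1 := by
  classical
  haveI : M.IsMaximal := hM.2.1
  haveI : Finite (Matrix.SpecialLinearGroup (Fin n) (ZMod p)) := finite_sl
  obtain ⟨P⟩ : Nonempty (Sylow p (Matrix.SpecialLinearGroup (Fin n) (ZMod p))) := inferInstance
  have hP0 : (P : Subgroup (Matrix.SpecialLinearGroup (Fin n) (ZMod p))) ≠ ⊥ := by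
    refine P.ne_bot_of_dvd_card ?_
    let a : Adj n := ⟨⟨0, by omega⟩, ⟨1, by omega⟩, rfl⟩
    have h := Subgroup.card_subgroup_dvd_card (slU n (ZMod p))
    rw [card_slU_eq a, Nat.card_zmod] at h
    exact (dvd_mul_right p _).trans h
  have e : Nat.card {B : Set (Cfsg.IrrCharacter (Matrix.SpecialLinearGroup (Fin n) (ZMod p))) // Cfsg.IsPBlock M B} =
      Nat.card ({B : Set (Cfsg.IrrCharacter (Matrix.SpecialLinearGroup (Fin n) (ZMod p))) //
        Cfsg.IsPBlock M B ∧ Cfsg.IsDefectGroup p M B (P : Subgroup _)} ⊕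
      {B : Set (Cfsg.IrrCharacter (Matrix.SpecialLinearGroup (Fin n) (ZMod p))) //
        Cfsg.IsPBlock M B ∧ Cfsg.IsDefectGroup p M B ⊥}) := by
    refine (Nat.card_eq_of_bijective (Sum.elim (fun B => ⟨B.1, B.2.1⟩) (fun B => ⟨B.1, B.2.1⟩)) ⟨?_, ?_⟩).symm
    · have key : ∀ B : Set (Cfsg.IrrCharacter (Matrix.SpecialLinearGroup (Fin n) (ZMod p))),
          Cfsg.IsPBlock M B → Cfsg.IsDefectGroup p M B ⊥ →
            ¬ Cfsg.IsDefectGroup p M B (P : Subgroup _) := fun B hB h1 h2 => by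
        obtain ⟨x, hx⟩ := defectGroup_conj hM hB h1 h2
        exact hP0 (by rw [← hx, Subgroup.map_bot])
      rintro (⟨B, hB, hd⟩ | ⟨B, hB, hd⟩) (⟨B', hB', hd'⟩ | ⟨B', hB', hd'⟩) h <;>
        simp only [Sum.elim_inl, Sum.elim_inr, Subtype.mk.injEq] at h <;> subst h
      · rfl
      · exact absurd hd (key _ hB hd')
      · exact absurd hd' (key _ hB hd)
      · rfl
    · rintro ⟨B, hB⟩
      obtain ⟨D, hD⟩ := exists_defectGroup hM hB
      rcases defectGroup_cases (by omega) hM hB hD with rfl | h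
      · exact ⟨Sum.inr ⟨B, hB, hD⟩, rfl⟩
      · exact ⟨Sum.inl ⟨B, hB, h P⟩, rfl⟩
  rw [e, Nat.card_sum, card_blocks_sylow_defect hM P, card_classes_sylow (by omega) P hP0,
    card_defect_trivial p n M hM]

end Cfsg.Agent.S2440
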