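import Cfsg.Statements.S2441
import Cfsg.Agent.Lib.Chev.DefectGroups

set_option autoImplicit false
open Cfsg

namespace Cfsg.Agent.S2441
theorem card_two (p : ℕ) [Fact p.Prime] (M : Ideal Cfsg.AlgInt) (hM : Cfsg.IsPModular p M)
    (D : Cfsg.Lie.ChevalleyDatum)
    (hD : D ∈ [Lie.chevG2, Lie.chevB2, Lie.chevD4, Lie.chevF4, Lie.chevE6, Lie.chevE7, Lie.chevE8])
    (hrank : 0 < D.rank)
    (hadj : ∀ K : Finset (Fin D.rank), K.Nonempty → K ≠ Finset.univ →
      ∃ i ∉ K, ∃ k ∈ K, CfsgLib.Chev.cm D i k ≠ 0) :
    Nat.card {B : Set (Cfsg.IrrCharacter (D.group (ZMod p))) // Cfsg.IsPBlock M B} = 2 := by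
  haveI : M.IsMaximal := hM.2.1
  obtain ⟨T, hc, hcomm⟩ := CfsgLib.Chev.exists_checked' hD
  exact CfsgLib.Chev.card_blocks_two hc hcomm (CfsgLib.Chev.linkTest_of_mem hD) hrank hadj hM

/-- For a prime p, the Chevalley groups of types G₂, F₄ and E₈ over the field with p elements (types for which the simply connected and adjoint groups coincide, so the group has trivial centre) each have exactly two p-blocks relative to any maximal ideal of the algebraic integers containing p (only the count is asserted; it arises as the defect-zero block of the Steinberg character plus a single block of maximal defect). -/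
theorem result (p : ℕ) [Fact p.Prime] (M : Ideal Cfsg.AlgInt) (hM : Cfsg.IsPModular p M) :
    Nat.card {B : Set (Cfsg.IrrCharacter (Cfsg.Lie.chevG2.group (ZMod p))) // Cfsg.IsPBlock M B} = 2 ∧
    Nat.card {B : Set (Cfsg.IrrCharacter (Cfsg.Lie.chevF4.group (ZMod p))) // Cfsg.IsPBlock M B} = 2 ∧
    Nat.card {B : Set (Cfsg.IrrCharacter (Cfsg.Lie.chevE8.group (ZMod p))) // Cfsg.IsPBlock M B} = 2 := by
  refine ⟨card_two p M hM _ (by simp) (by decide +kernel) (by decide +kernel),
    card_two p M hM _ (by simp) (by decide +kernel) (by decide +kernel),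
    card_two p M hM _ (by simp) (by decide +kernel) (by decide +kernel)⟩

end Cfsg.Agent.S2441
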