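import Cfsg.Statements.S2450
import Cfsg.Agent.Lib.SL2Trace.Products

set_option autoImplicit false
open Cfsg

namespace Cfsg.Agent.S2450
open Matrix CfsgLib.SL2Trace

/-- A non-central element has a conjugate with non-zero lower left entry. -/
theorem exists_conj_lower_ne {F : Type*} [Field F] [Fintype F] (h4 : 4 ≤ Fintype.card F)
    (B : SpecialLinearGroup (Fin 2) F) (hB : B ∉ Subgroup.center (SpecialLinearGroup (Fin 2) F)) :
    ∃ W : SpecialLinearGroup (Fin 2) F,
      ((W * B * W⁻¹ : SpecialLinearGroup (Fin 2) F) : Matrix (Fin 2) (Fin 2) F) 1 0 ≠ 0 := by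
  classical
  by_cases hz : (B : Matrix (Fin 2) (Fin 2) F) 1 0 = 0
  · obtain ⟨s, hs⟩ : ∃ s : F, s * ((B : Matrix (Fin 2) (Fin 2) F) 0 0 - (B : Matrix (Fin 2) (Fin 2) F) 1 1) -
        s ^ 2 * (B : Matrix (Fin 2) (Fin 2) F) 0 1 ≠ 0 := by
      by_cases hy : (B : Matrix (Fin 2) (Fin 2) F) 0 1 = 0
      · refine ⟨1, fun h => hB (mem_center_iff_entries.2 ⟨hy, hz, ?_⟩)⟩
        rw [hy] at h
        linear_combination h
      · obtain ⟨s, -, hs⟩ := Finset.exists_mem_notMem_of_card_lt_card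
          (s := ({0, ((B : Matrix (Fin 2) (Fin 2) F) 0 0 - (B : Matrix (Fin 2) (Fin 2) F) 1 1) /
            (B : Matrix (Fin 2) (Fin 2) F) 0 1} : Finset F)) (t := Finset.univ)
          (lt_of_le_of_lt Finset.card_le_two (by rw [Finset.card_univ]; omega))
        simp only [Finset.mem_insert, Finset.mem_singleton, not_or] at hs
        refine ⟨s, fun h => hs.2 ?_⟩
        have : s * (((B : Matrix (Fin 2) (Fin 2) F) 0 0 - (B : Matrix (Fin 2) (Fin 2) F) 1 1) -
            s * (B : Matrix (Fin 2) (Fin 2) F) 0 1) = 0 := by linear_combination h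
        rcases mul_eq_zero.1 this with h0 | h0
        · exact absurd h0 hs.1
        · rw [eq_div_iff hy]; linear_combination -h0
    refine ⟨mk2 1 0 s 1 (by ring), ?_⟩
    rw [SpecialLinearGroup.coe_mul, SpecialLinearGroup.coe_mul, SpecialLinearGroup.coe_inv, coe_mk2,
      adjugate_fin_two_of, Matrix.eta_fin_two (B : Matrix (Fin 2) (Fin 2) F), Matrix.mul_fin_two,
      Matrix.mul_fin_two, hz]
    simp
    intro h
    exact hs (by linear_combination h)
  · exact ⟨1, by simpa using hz⟩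

/-- The traces of `A * (conjugate of B)` are not confined to a pair `±γ`. -/
theorem exists_trace_ne {F : Type*} [Field F] [Fintype F] (h4 : 4 ≤ Fintype.card F)
    (A B : SpecialLinearGroup (Fin 2) F) (hA : A ∉ Subgroup.center (SpecialLinearGroup (Fin 2) F))
    (hB : B ∉ Subgroup.center (SpecialLinearGroup (Fin 2) F)) (γ : F) :
    ∃ V : SpecialLinearGroup (Fin 2) F,
      ((A * (V * B * V⁻¹) : SpecialLinearGroup (Fin 2) F) : Matrix (Fin 2) (Fin 2) F).trace ≠ γ ∧
      ((A * (V * B * V⁻¹) : SpecialLinearGroup (Fin 2) F) : Matrix (Fin 2) (Fin 2) F).trace ≠ -γ := by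
  classical
  obtain ⟨P, hP, hAP⟩ := exists_gl_comp A hA
  have hu := isUnit_iff_ne_zero.2 hP
  have hP' : P⁻¹.det ≠ 0 := (Matrix.isUnit_nonsing_inv_det P hu).ne_zero
  set α := (A : Matrix (Fin 2) (Fin 2) F).trace with hα
  let B0 : SpecialLinearGroup (Fin 2) F := ⟨P⁻¹ * B * P⁻¹⁻¹, det_conj _ hP' B⟩
  have hB0 : B0 ∉ Subgroup.center (SpecialLinearGroup (Fin 2) F) := by
    intro h
    obtain ⟨r, -, hr⟩ := SpecialLinearGroup.mem_center_iff.1 h
    apply hB
    refine mem_center_of_scalar r ?_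
    have h1 : (B : Matrix (Fin 2) (Fin 2) F) = P * (P⁻¹ * B * P⁻¹⁻¹) * P⁻¹ := by
      rw [nonsing_inv_nonsing_inv P hu]
      simp only [mul_assoc]
      rw [mul_nonsing_inv_cancel_left _ _ hu, mul_nonsing_inv P hu, mul_one]
    rw [h1, show P⁻¹ * (B : Matrix (Fin 2) (Fin 2) F) * P⁻¹⁻¹ = Matrix.scalar (Fin 2) r from hr.symm,
      (Matrix.scalar_commute r (Commute.all r) P).symm.eq, mul_assoc, mul_nonsing_inv P hu, mul_one]
  obtain ⟨W, hW⟩ := exists_conj_lower_ne h4 B0 hB0
  set B1 := W * B0 * W⁻¹ with hB1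
  set x := (B1 : Matrix (Fin 2) (Fin 2) F) 0 0
  set y := (B1 : Matrix (Fin 2) (Fin 2) F) 0 1
  set z := (B1 : Matrix (Fin 2) (Fin 2) F) 1 0
  set w := (B1 : Matrix (Fin 2) (Fin 2) F) 1 1
  let f : F → F := fun s => -z + y + α * w + s * (w - x - α * z) - s ^ 2 * z
  obtain ⟨s, hs1, hs2⟩ : ∃ s, f s ≠ γ ∧ f s ≠ -γ := by
    by_contra hc
    push Not at hc
    have hfib : ∀ c ∈ ({γ, -γ} : Finset F), ({s : F | f s = c} : Finset F).card ≤ 2 := by
      intro c _
      by_contra hlt
      rw [not_le, Finset.two_lt_card] at hlt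
      obtain ⟨a, ha, b, hb, d, hd, hab, had, hbd⟩ := hlt
      simp only [Finset.mem_filter, Finset.mem_univ, true_and, f] at ha hb hd
      have e1 : (a - b) * ((w - x - α * z) - (a + b) * z) = 0 := by linear_combination ha - hb
      have e2 : (a - d) * ((w - x - α * z) - (a + d) * z) = 0 := by linear_combination ha - hd
      have f1 := (mul_eq_zero.1 e1).resolve_left (sub_ne_zero.2 hab)
      have f2 := (mul_eq_zero.1 e2).resolve_left (sub_ne_zero.2 had)
      have : (d - b) * z = 0 := by linear_combination f1 - f2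
      rcases mul_eq_zero.1 this with h0 | h0
      · exact hbd (sub_eq_zero.1 h0).symm
      · exact hW h0
    have hcover : (Finset.univ : Finset F).card ≤ 2 * ({γ, -γ} : Finset F).card := by
      refine Finset.card_le_mul_card_image_of_maps_to (f := f) ?_ 2 hfib
      intro s _
      by_cases h : f s = γ
      · simp [h]
      · simp [hc s h]
    rw [Finset.card_univ] at hcover
    by_cases h2 : ringChar F = 2
    · have : (2 : F) = 0 := by
        have := CharP.cast_eq_zero (R := F) (ringChar F)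
        rw [h2] at this
        simpa using this
      have hneg : -γ = γ := by linear_combination (-γ) * this
      rw [hneg] at hcover
      simp at hcover
      omega
    · have := FiniteField.odd_card_of_char_ne_two h2
      have := Finset.card_le_two (a := γ) (b := -γ)
      omega
  let S : SpecialLinearGroup (Fin 2) F := mk2 1 s 0 1 (by ring)
  let V : SpecialLinearGroup (Fin 2) F :=
    ⟨P * (S * W : SpecialLinearGroup (Fin 2) F) * P⁻¹, det_conj P hP _⟩
  refine ⟨V, ?_⟩
  have htr : ((A * (V * B * V⁻¹) : SpecialLinearGroup (Fin 2) F) : Matrix (Fin 2) (Fin 2) F).trace =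
      f s := by
    have hA' : (A : Matrix (Fin 2) (Fin 2) F) = P * !![0, -1; 1, α] * P⁻¹ := by
      rw [← hAP, mul_assoc, mul_nonsing_inv P hu, mul_one]
    have hV : ((V * B * V⁻¹ : SpecialLinearGroup (Fin 2) F) : Matrix (Fin 2) (Fin 2) F) =
        P * ((S * B1 * S⁻¹ : SpecialLinearGroup (Fin 2) F) : Matrix (Fin 2) (Fin 2) F) * P⁻¹ := by
      let B2 : SpecialLinearGroup (Fin 2) F :=
        ⟨P * (S * B1 * S⁻¹ : SpecialLinearGroup (Fin 2) F) * P⁻¹, det_conj P hP _⟩
      have key : V * B = B2 * V := by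
        apply Subtype.ext
        rw [SpecialLinearGroup.coe_mul, SpecialLinearGroup.coe_mul]
        show P * ((S * W : SpecialLinearGroup (Fin 2) F) : Matrix (Fin 2) (Fin 2) F) * P⁻¹ * B =
          P * _ * P⁻¹ * (P * ((S * W : SpecialLinearGroup (Fin 2) F) : Matrix (Fin 2) (Fin 2) F) * P⁻¹)
        rw [show P * ((S * B1 * S⁻¹ : SpecialLinearGroup (Fin 2) F) : Matrix (Fin 2) (Fin 2) F) * P⁻¹ *
              (P * ((S * W : SpecialLinearGroup (Fin 2) F) : Matrix (Fin 2) (Fin 2) F) * P⁻¹) =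
            P * ((S * B1 * S⁻¹ * (S * W) : SpecialLinearGroup (Fin 2) F) :
              Matrix (Fin 2) (Fin 2) F) * P⁻¹ by
          simp only [SpecialLinearGroup.coe_mul, mul_assoc]
          rw [nonsing_inv_mul_cancel_left _ _ hu]]
        rw [show S * B1 * S⁻¹ * (S * W) = S * W * B0 by rw [hB1]; group]
        rw [SpecialLinearGroup.coe_mul (S * W) B0]
        show _ = P * (_ * (P⁻¹ * (B : Matrix (Fin 2) (Fin 2) F) * P⁻¹⁻¹)) * P⁻¹
        rw [nonsing_inv_nonsing_inv P hu]
        simp only [mul_assoc]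
        rw [mul_nonsing_inv P hu, mul_one]
      rw [key, mul_inv_cancel_right]
    rw [SpecialLinearGroup.coe_mul, hA', hV]
    rw [show P * !![0, -1; 1, α] * P⁻¹ *
        (P * ((S * B1 * S⁻¹ : SpecialLinearGroup (Fin 2) F) : Matrix (Fin 2) (Fin 2) F) * P⁻¹) =
        P * (!![0, -1; 1, α] *
          ((S * B1 * S⁻¹ : SpecialLinearGroup (Fin 2) F) : Matrix (Fin 2) (Fin 2) F)) * P⁻¹ by
      simp only [mul_assoc]; rw [nonsing_inv_mul_cancel_left _ _ hu]]
    rw [trace_conj P hP, SpecialLinearGroup.coe_mul, SpecialLinearGroup.coe_mul,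
      SpecialLinearGroup.coe_inv]
    simp only [S, coe_mk2, adjugate_fin_two_of]
    rw [Matrix.eta_fin_two (B1 : Matrix (Fin 2) (Fin 2) F), Matrix.mul_fin_two, Matrix.mul_fin_two,
      Matrix.mul_fin_two, trace_fin_two]
    simp [f, x, y, z, w]
    ring
  rw [htr]
  exact ⟨hs1, hs2⟩

theorem trace_pm_of_psl_conj {F : Type*} [Field F] (C G : SpecialLinearGroup (Fin 2) F)
    (h : IsConj (toPSL C) (toPSL G)) :
    (G : Matrix (Fin 2) (Fin 2) F).trace = (C : Matrix (Fin 2) (Fin 2) F).trace ∨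
      (G : Matrix (Fin 2) (Fin 2) F).trace = -(C : Matrix (Fin 2) (Fin 2) F).trace := by
  obtain ⟨d, hd⟩ := isConj_iff.1 h
  obtain ⟨D, rfl⟩ := QuotientGroup.mk_surjective d
  rw [toPSL, ← QuotientGroup.mk_inv, ← QuotientGroup.mk_mul, ← QuotientGroup.mk_mul,
    toPSL, QuotientGroup.eq] at hd
  obtain ⟨r, hr, hrM⟩ := SpecialLinearGroup.mem_center_iff.1 hd
  rw [Fintype.card_fin] at hr
  have hG : (G : Matrix (Fin 2) (Fin 2) F) =
      ((D * C * D⁻¹ : SpecialLinearGroup (Fin 2) F) : Matrix (Fin 2) (Fin 2) F) * Matrix.scalar (Fin 2) r := by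
    rw [hrM, ← SpecialLinearGroup.coe_mul, mul_inv_cancel_left]
  have ht : (G : Matrix (Fin 2) (Fin 2) F).trace = r * (C : Matrix (Fin 2) (Fin 2) F).trace := by
    rw [hG, ← trace_mul_mul_inv (G := D) C, trace_fin_two, trace_fin_two]
    simp [Matrix.mul_apply, Fin.sum_univ_two]
    ring
  rcases sq_eq_one_iff.1 hr with rfl | rfl
  · exact Or.inl (by simpa using ht)
  · exact Or.inr (by simpa using ht)


/-- The Arad–Herzog conjecture for PSL(2,q): let F be a finite field with q ≥ 4 elements. For any two non-identity elements a, b of PSL(2,F), the set of products of a conjugate of a with a conjugate of b is not a single conjugacy class. -/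
theorem result {F : Type*} [Field F] [Fintype F] (h4 : 4 ≤ Fintype.card F)
    (a b : Matrix.ProjectiveSpecialLinearGroup (Fin 2) F) (ha : a ≠ 1) (hb : b ≠ 1) (c : Matrix.ProjectiveSpecialLinearGroup (Fin 2) F) :
    {g : Matrix.ProjectiveSpecialLinearGroup (Fin 2) F | ∃ u v : Matrix.ProjectiveSpecialLinearGroup (Fin 2) F, g = (u * a * u⁻¹) * (v * b * v⁻¹)} ≠ {g | IsConj c g} := by
  obtain ⟨A, rfl⟩ := QuotientGroup.mk_surjective a
  obtain ⟨B, rfl⟩ := QuotientGroup.mk_surjective b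
  obtain ⟨C, rfl⟩ := QuotientGroup.mk_surjective c
  rw [Ne, QuotientGroup.eq_one_iff] at ha hb
  intro h
  obtain ⟨V, hV1, hV2⟩ := exists_trace_ne h4 A B ha hb (C : Matrix (Fin 2) (Fin 2) F).trace
  have hmem : CfsgLib.SL2Trace.toPSL (A * (V * B * V⁻¹)) ∈
      {g : Matrix.ProjectiveSpecialLinearGroup (Fin 2) F | IsConj (QuotientGroup.mk C) g} := by
    rw [← h]
    exact ⟨1, CfsgLib.SL2Trace.toPSL V, by simp [CfsgLib.SL2Trace.toPSL]⟩
  rcases trace_pm_of_psl_conj C _ hmem with h1 | h1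
  · exact hV1 h1
  · exact hV2 h1

end Cfsg.Agent.S2450
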