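import Cfsg.Statements.S2455
import Cfsg.Agent.Lib.SL2Trace.Orders

set_option autoImplicit false
open Cfsg

namespace Cfsg.Agent.S2455
open Matrix CfsgLib.SL2Trace in
theorem core {F : Type*} [Field F] [Fintype F] (h2 : (2 : F) ≠ 0) (M G : SpecialLinearGroup (Fin 2) F)
    (hM : (M : Matrix (Fin 2) (Fin 2) F).trace ^ 2 ≠ 4) (hM0 : (M : Matrix (Fin 2) (Fin 2) F).trace ≠ 0)
    (hG : G ∉ Subgroup.center (SpecialLinearGroup (Fin 2) F))
    (hg : (G : Matrix (Fin 2) (Fin 2) F).trace ≠ 2) :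
    ∃ U V : SpecialLinearGroup (Fin 2) F, G = U * M * U⁻¹ * (V * M * V⁻¹) := by
  refine exists_factor M G hM hG ?_
  by_cases h : (G : Matrix (Fin 2) (Fin 2) F).trace ^ 2 = 4
  · have hγ : (G : Matrix (Fin 2) (Fin 2) F).trace = -2 := by
      have : ((G : Matrix (Fin 2) (Fin 2) F).trace - 2) * ((G : Matrix (Fin 2) (Fin 2) F).trace + 2) = 0 := by
        linear_combination h
      rcases mul_eq_zero.1 this with h3 | h3
      · exact absurd (sub_eq_zero.1 h3) hg
      · exact eq_neg_of_add_eq_zero_left h3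
    refine ⟨1 / (2 * (M : Matrix (Fin 2) (Fin 2) F).trace),
      -(1 / (2 * (M : Matrix (Fin 2) (Fin 2) F).trace)), ?_⟩
    rw [hγ]
    field_simp
    ring
  · exact soluble_of_regular _ _ h


/-- A strong covering result in the direction of Thompson's conjecture (non-identity elements) for PSL(2,q), q odd: let F be a finite field of odd characteristic p with at least 5 elements and let x ∈ PSL(2,F) have order greater than 2 and not divisible by p (so x is not unipotent). Then every non-identity element of PSL(2,F) is a product of two conjugates of x. -/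
theorem result {F : Type*} [Field F] [Fintype F] (p : ℕ) [Fact p.Prime] [CharP F p] (hp : p ≠ 2) (h5 : 5 ≤ Fintype.card F)
    (x : Matrix.ProjectiveSpecialLinearGroup (Fin 2) F) (hx2 : 2 < orderOf x) (hxp : ¬ p ∣ orderOf x) : ∀ g : Matrix.ProjectiveSpecialLinearGroup (Fin 2) F, g ≠ 1 → ∃ u v : Matrix.ProjectiveSpecialLinearGroup (Fin 2) F, g = (u * x * u⁻¹) * (v * x * v⁻¹) := by
  obtain ⟨M, rfl, hM, hM0⟩ := CfsgLib.SL2Trace.exists_regular_lift p x hx2
    (fun h => hxp (by
      rcases (Nat.dvd_prime (Fact.out : p.Prime)).1 h with h1 | h1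
      · omega
      · exact dvd_of_eq h1.symm))
  have h2 : (2 : F) ≠ 0 := Ring.two_ne_zero (by rwa [ringChar.eq F p])
  intro g hg
  obtain ⟨G, rfl⟩ := QuotientGroup.mk_surjective g
  rw [Ne, QuotientGroup.eq_one_iff] at hg
  obtain ⟨G', hG', hc, ht⟩ : ∃ G' : Matrix.SpecialLinearGroup (Fin 2) F,
      CfsgLib.SL2Trace.toPSL G' = CfsgLib.SL2Trace.toPSL G ∧
      G' ∉ Subgroup.center (Matrix.SpecialLinearGroup (Fin 2) F) ∧
      (G' : Matrix (Fin 2) (Fin 2) F).trace ≠ 2 := by
    by_cases ht : (G : Matrix (Fin 2) (Fin 2) F).trace = 2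
    · have hz : CfsgLib.SL2Trace.mk2 (-1 : F) 0 0 (-1) (by ring) ∈
          Subgroup.center (Matrix.SpecialLinearGroup (Fin 2) F) :=
        CfsgLib.SL2Trace.mem_center_iff_entries.2 (by simp [CfsgLib.SL2Trace.coe_mk2])
      refine ⟨G * CfsgLib.SL2Trace.mk2 (-1) 0 0 (-1) (by ring), ?_, ?_, ?_⟩
      · exact (QuotientGroup.mk_mul_of_mem G hz)
      · exact fun h => hg ((Subgroup.mul_mem_cancel_right _ hz).1 h)
      · rw [Matrix.SpecialLinearGroup.coe_mul, CfsgLib.SL2Trace.coe_mk2]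
        rw [Matrix.trace_fin_two] at ht ⊢
        simp [Matrix.mul_apply, Fin.sum_univ_two]
        intro h
        exact h2 (mul_self_eq_zero.1 (by linear_combination -h - ht) : (2 : F) = 0)
    · exact ⟨G, rfl, hg, ht⟩
  obtain ⟨U, V, hUV⟩ := core h2 M G' hM hM0 hc ht
  refine ⟨CfsgLib.SL2Trace.toPSL U, CfsgLib.SL2Trace.toPSL V, ?_⟩
  change CfsgLib.SL2Trace.toPSL G = _
  rw [← hG', hUV]
  simp [CfsgLib.SL2Trace.toPSL]

end Cfsg.Agent.S2455
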