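import Cfsg.Statements.S2456
import Cfsg.Agent.Lib.SL2Trace.Orders

set_option autoImplicit false
open Cfsg

namespace Cfsg.Agent.S2456
open Matrix CfsgLib.SL2Trace in
theorem four_eq {F : Type*} [Field F] [CharP F 2] : (4 : F) = 0 := by
  have h2 : (2 : F) = 0 := by simpa using CharP.cast_eq_zero F 2
  linear_combination 2 * h2


/-- A strong covering result in the direction of Thompson's conjecture (non-identity elements) for PSL(2,q), q even: let F be a finite field of characteristic 2 with q ≥ 4 elements and let x ∈ PSL(2,F) have order greater than 2 and not dividing q + 1. Then every non-identity element of PSL(2,F) is a product of two conjugates of x. -/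
theorem result {F : Type*} [Field F] [Fintype F] [CharP F 2] (h4 : 4 ≤ Fintype.card F)
    (x : Matrix.ProjectiveSpecialLinearGroup (Fin 2) F) (hx2 : 2 < orderOf x) (hxq : ¬ orderOf x ∣ Fintype.card F + 1) : ∀ g : Matrix.ProjectiveSpecialLinearGroup (Fin 2) F, g ≠ 1 → ∃ u v : Matrix.ProjectiveSpecialLinearGroup (Fin 2) F, g = (u * x * u⁻¹) * (v * x * v⁻¹) := by
  have h2 : (2 : F) = 0 := by simpa using CharP.cast_eq_zero F 2
  obtain ⟨M, rfl, hM, hM0⟩ := CfsgLib.SL2Trace.exists_regular_lift 2 x hx2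
    (fun h => absurd (Nat.le_of_dvd two_pos h) (by omega))
  obtain ⟨u, hu⟩ : ∃ u : F, u ^ 2 - (M : Matrix (Fin 2) (Fin 2) F).trace * u + 1 = 0 := by
    by_contra hno
    refine hxq (orderOf_dvd_of_pow_eq_one ?_)
    rw [CfsgLib.SL2Trace.toPSL, ← QuotientGroup.mk_pow,
      (CfsgLib.SL2Trace.pow_eq_one_of_regular M hM).2 hno, QuotientGroup.mk_one]
  intro g hg
  obtain ⟨G, rfl⟩ := QuotientGroup.mk_surjective g
  rw [Ne, QuotientGroup.eq_one_iff] at hg
  obtain ⟨U, V, hUV⟩ := CfsgLib.SL2Trace.exists_factor M G hM hg (by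
    by_cases h : (G : Matrix (Fin 2) (Fin 2) F).trace ^ 2 = 4
    · rw [four_eq] at h
      refine ⟨u, 0, ?_⟩
      rw [(pow_eq_zero_iff two_ne_zero).1 h]
      linear_combination hu
    · exact CfsgLib.SL2Trace.soluble_of_regular _ _ h)
  refine ⟨CfsgLib.SL2Trace.toPSL U, CfsgLib.SL2Trace.toPSL V, ?_⟩
  rw [hUV]
  simp [CfsgLib.SL2Trace.toPSL]

end Cfsg.Agent.S2456
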