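import Cfsg.Statements.S2459
import Cfsg.Agent.Lib.SL3Products.F3

set_option autoImplicit false
open Cfsg

namespace Cfsg.Agent.S2459
open Matrix CfsgLib.SL3Products

theorem not_scalar_of_not_central {F : Type*} [Field F] (G : SpecialLinearGroup (Fin 3) F)
    (hG : G ∉ Subgroup.center (SpecialLinearGroup (Fin 3) F)) :
    ∀ r : F, (G : Matrix (Fin 3) (Fin 3) F) ≠ Matrix.scalar (Fin 3) r := by
  intro r hr
  apply hG
  rw [SpecialLinearGroup.mem_center_iff]
  refine ⟨r, ?_, hr.symm⟩
  have := G.det_coe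
  rw [hr] at this
  simpa [pow_succ, Fin.prod_univ_three, det_diagonal] using this

theorem exists_element {F : Type*} [Field F] [Fintype F] (p : ℕ) [Fact p.Prime] [CharP F p]
    (h3 : 3 ≤ Fintype.card F) :
    ∃ X : SpecialLinearGroup (Fin 3) F, (∃ k : ℕ, ¬ p ∣ k ∧ X ^ k = 1) ∧
      ∀ G : SpecialLinearGroup (Fin 3) F, G ∉ Subgroup.center (SpecialLinearGroup (Fin 3) F) →
        ∃ U V : SpecialLinearGroup (Fin 3) F, G = U * X * U⁻¹ * (V * X * V⁻¹) := by
  classical
  by_cases h4 : 4 ≤ Fintype.card F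
  · have hcard : ({0, 1, -1} : Finset F).card < (Finset.univ : Finset F).card := by
      rw [Finset.card_univ]
      exact lt_of_le_of_lt Finset.card_le_three h4
    obtain ⟨a, -, ha⟩ := Finset.exists_mem_notMem_of_card_lt_card hcard
    simp only [Finset.mem_insert, Finset.mem_singleton, not_or] at ha
    obtain ⟨ha0, ha1, ha2⟩ := ha
    have h01 : a ≠ a⁻¹ := by
      intro h
      have : (a - 1) * (a + 1) = 0 := by
        have := mul_inv_cancel₀ ha0
        linear_combination this + a * h
      rcases mul_eq_zero.1 this with h' | h'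
      · exact ha1 (sub_eq_zero.1 h')
      · exact ha2 (eq_neg_of_add_eq_zero_left h')
    have h12 : a⁻¹ ≠ 1 := fun h => ha1 (inv_eq_one.1 h)
    let D : SpecialLinearGroup (Fin 3) F := ⟨Matrix.diagonal ![a, a⁻¹, 1], by
      simp [det_diagonal, Fin.prod_univ_three, ha0]⟩
    refine ⟨D, ⟨Fintype.card F - 1, ?_, ?_⟩, fun G hG =>
      exists_factor D G a a⁻¹ 1 rfl h01 h12 ha1 (not_scalar_of_not_central G hG)⟩
    · intro hdvd
      obtain ⟨n, -, hn⟩ := FiniteField.card F p
      have h1 : p ∣ Fintype.card F := by rw [hn]; exact dvd_pow_self p n.pos.ne'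
      have := Nat.dvd_sub h1 hdvd
      rw [show Fintype.card F - (Fintype.card F - 1) = 1 by omega] at this
      exact (Fact.out : p.Prime).one_lt.ne' (Nat.dvd_one.1 this)
    · apply Subtype.ext
      rw [SpecialLinearGroup.coe_pow, SpecialLinearGroup.coe_one]
      show Matrix.diagonal ![a, a⁻¹, 1] ^ _ = 1
      rw [diagonal_pow, ← diagonal_one]
      congr 1
      funext i
      fin_cases i <;>
        simp [FiniteField.pow_card_sub_one_eq_one _ ha0, FiniteField.pow_card_sub_one_eq_one _ (inv_ne_zero ha0)]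
  · have hF : Fintype.card F = 3 := by omega
    have : Fact (Nat.Prime 3) := ⟨Nat.prime_three⟩
    let e : ZMod 3 ≃+* F := ZMod.ringEquivOfPrime F Nat.prime_three hF
    have hp : p = 3 := by
      have : CharP F 3 := charP_of_injective_ringHom (f := e.toRingHom) e.injective 3
      exact CharP.eq F ‹CharP F p› this
    let φ : SpecialLinearGroup (Fin 3) (ZMod 3) →* SpecialLinearGroup (Fin 3) F :=
      SpecialLinearGroup.map e.toRingHom
    let X0 : SpecialLinearGroup (Fin 3) (ZMod 3) := ⟨x3, x3_det⟩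
    refine ⟨φ X0, ⟨4, by rw [hp]; omega, ?_⟩, fun G hG => ?_⟩
    · rw [← map_pow, show X0 ^ 4 = 1 from Subtype.ext (by
        rw [SpecialLinearGroup.coe_pow, pow_succ, pow_succ, pow_succ, pow_one]
        simpa [mul_assoc, X0] using x3_pow), map_one]
    obtain ⟨P, N, hP, hGP, hN⟩ := exists_normal_form _ G.det_coe (not_scalar_of_not_central G hG)
    obtain ⟨N', hN', hcert⟩ : ∃ (N' : Matrix (Fin 3) (Fin 3) (ZMod 3)) (hd : N = e.toRingHom.mapMatrix N'),
        ∃ t, Cert N' t := by
      rcases hN with ⟨a, b, rfl⟩ | ⟨m, n, x, y, c, hmc, rfl⟩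
      · refine ⟨!![0, 0, 1; 1, 0, e.symm b; 0, 1, e.symm a], ?_, _, certA (e.symm a) (e.symm b)⟩
        ext i j
        fin_cases i <;> fin_cases j <;> simp
      · refine ⟨!![0, e.symm m, e.symm x; 1, e.symm n, e.symm y; 0, 0, e.symm c], ?_, _,
          certB (e.symm m) (e.symm n) (e.symm x) (e.symm y) (e.symm c) ?_⟩
        · ext i j
          fin_cases i <;> fin_cases j <;> simp
        · rw [← map_mul, hmc, map_neg, map_one]
    obtain ⟨⟨u, v⟩, hu, hv, hc⟩ := hcert
    let U0 : SpecialLinearGroup (Fin 3) (ZMod 3) := ⟨matOfList u, det_of_cert hu⟩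
    let V0 : SpecialLinearGroup (Fin 3) (ZMod 3) := ⟨matOfList v, det_of_cert hv⟩
    have hdN : N'.det = 1 := by
      have := congrArg Matrix.det hc
      simp only [det_mul, det_of_cert hv, det_of_cert hu, x3_det, mul_one, one_mul] at this
      rw [this]
      have h2 := congrArg Matrix.det hu
      rwa [det_mul, det_of_cert hu, one_mul, det_one] at h2
    let N0 : SpecialLinearGroup (Fin 3) (ZMod 3) := ⟨N', hdN⟩
    have hkey : N0 = U0 * X0 * U0⁻¹ * (V0 * X0 * V0⁻¹) := by
      have hUi : (U0⁻¹ : SpecialLinearGroup (Fin 3) (ZMod 3)) = ⟨adj3 (matOfList u), by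
          have h2 := congrArg Matrix.det hu
          rwa [det_mul, det_of_cert hu, one_mul, det_one] at h2⟩ :=
        inv_eq_of_mul_eq_one_right (Subtype.ext hu)
      have : N0 * V0 = U0 * X0 * U0⁻¹ * V0 * X0 := by
        rw [hUi]
        exact Subtype.ext hc
      rw [← mul_inv_cancel_right N0 V0, this]
      group
    set d := P.det with hd
    have hd2 : d * d = 1 := by
      have := FiniteField.pow_card_sub_one_eq_one d hP
      rw [hF] at this
      rw [← pow_two]; exact this
    let Q : SpecialLinearGroup (Fin 3) F := ⟨d • P, by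
      rw [det_smul, ← hd, Fintype.card_fin]
      linear_combination (d * d + 1) * hd2⟩
    have hG : G = Q * φ N0 * Q⁻¹ := by
      rw [eq_mul_inv_iff_mul_eq]
      apply Subtype.ext
      rw [SpecialLinearGroup.coe_mul, SpecialLinearGroup.coe_mul]
      show (G : Matrix (Fin 3) (Fin 3) F) * (d • P) = (d • P) * e.toRingHom.mapMatrix N'
      rw [Matrix.mul_smul, Matrix.smul_mul, hGP, hN']
    refine ⟨Q * φ U0, Q * φ V0, ?_⟩
    rw [hG, hkey]
    simp only [map_mul, map_inv]
    group


/-- A form of Thompson's conjecture for PSL(3,q), q > 2 (covering the non-identity elements), with a semisimple class: for F a finite field of characteristic p with more than 2 elements there is an element x of PSL(3,F) of order prime to p such that every non-identity element of PSL(3,F) is a product of two conjugates of x. -/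
theorem result {F : Type*} [Field F] [Fintype F] (p : ℕ) [Fact p.Prime] [CharP F p] (h3 : 3 ≤ Fintype.card F) :
    ∃ x : Matrix.ProjectiveSpecialLinearGroup (Fin 3) F, ¬ p ∣ orderOf x ∧ ∀ g : Matrix.ProjectiveSpecialLinearGroup (Fin 3) F, g ≠ 1 → ∃ u v : Matrix.ProjectiveSpecialLinearGroup (Fin 3) F, g = (u * x * u⁻¹) * (v * x * v⁻¹) := by
  obtain ⟨X, ⟨k, hk, hXk⟩, hX⟩ := exists_element p h3
  refine ⟨QuotientGroup.mk X, fun h => hk (h.trans (orderOf_dvd_of_pow_eq_one ?_)), fun g hg => ?_⟩
  · rw [← QuotientGroup.mk_pow, hXk, QuotientGroup.mk_one]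
  obtain ⟨G, rfl⟩ := QuotientGroup.mk_surjective g
  rw [Ne, QuotientGroup.eq_one_iff] at hg
  obtain ⟨U, V, hUV⟩ := hX G hg
  refine ⟨QuotientGroup.mk U, QuotientGroup.mk V, ?_⟩
  rw [hUV]
  simp

end Cfsg.Agent.S2459
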