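import Cfsg.Statements.S2460
import Cfsg.Agent.Lib.PSpFourSquare.Small
-- import your own Cfsg.Agent.* helpers here

set_option autoImplicit false
open Cfsg

namespace Cfsg.Agent.S2460

open CfsgLib.PSpFourSquare in
theorem exists_covers {F : Type*} [Field F] [Fintype F] (p : ℕ) [hp : Fact p.Prime] [CharP F p]
    (h3 : 3 ≤ Fintype.card F) : ∃ k, ¬ p ∣ k ∧ Covers F k := by
  obtain ⟨n, -, hn⟩ := FiniteField.card F p
  have hdvd : p ∣ Fintype.card F := by rw [hn]; exact dvd_pow_self p n.pos.ne'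
  have coprime : ∀ k, Nat.Coprime (Fintype.card F) k → ¬ p ∣ k := fun k hk hpk =>
    hp.out.ne_one (Nat.dvd_one.1 (hk ▸ Nat.dvd_gcd hdvd hpk))
  by_cases h7 : 7 ≤ Fintype.card F
  · refine ⟨_, coprime _ ?_, covers_split h7⟩
    exact (Nat.coprime_self_sub_right (by omega)).2 (Nat.coprime_one_right _)
  rcases (show Fintype.card F = 3 ∨ Fintype.card F = 4 ∨ Fintype.card F = 5 ∨ Fintype.card F = 6 by
    omega) with h | h | h | h
  · haveI : Fact (Nat.Prime 3) := ⟨Nat.prime_three⟩
    exact ⟨8, coprime _ (by rw [h]; decide), covers3.transport (ZMod.ringEquivOfPrime F Nat.prime_three h)⟩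
  · exact ⟨15, coprime _ (by rw [h]; decide),
      covers4.transport (FiniteField.ringEquivOfCardEq (K := CfsgLib.Recog.GF4.K4) (K' := F) (CfsgLib.Recog.GF4.card_K4.trans h.symm))⟩
  · haveI : Fact (Nat.Prime 5) := ⟨Nat.prime_five⟩
    exact ⟨24, coprime _ (by rw [h]; decide), covers5.transport (ZMod.ringEquivOfPrime F Nat.prime_five h)⟩
  · exact absurd (h ▸ Fintype.isPrimePow_card_of_field (α := F)) (by
      rw [isPrimePow_nat_iff_bounded]; decide)

open CfsgLib.PSpFourSquare in
/-- A form of Thompson's conjecture for the simple groups PSp(4,q), q ≥ 3 (covering the non-identity elements), with a semisimple class: for F a finite field of characteristic p with at least 3 elements there is an element x of PSp(4,F) of order prime to p such that every non-identity element of PSp(4,F) is a product of two conjugates of x. -/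
theorem result {F : Type*} [Field F] [Fintype F] (p : ℕ) [Fact p.Prime] [CharP F p] (h3 : 3 ≤ Fintype.card F) :
    ∃ x : Cfsg.PSp 2 F, ¬ p ∣ orderOf x ∧ ∀ g : Cfsg.PSp 2 F, g ≠ 1 → ∃ u v : Cfsg.PSp 2 F, g = (u * x * u⁻¹) * (v * x * v⁻¹) := by
  obtain ⟨k, hpk, x, hxk, hx⟩ := exists_covers p h3
  refine ⟨QuotientGroup.mk x, fun h => hpk (h.trans (orderOf_dvd_of_pow_eq_one ?_)), fun g hg => ?_⟩
  · rw [← QuotientGroup.mk_pow, hxk, QuotientGroup.mk_one]
  obtain ⟨G, rfl⟩ := QuotientGroup.mk_surjective g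
  rw [Ne, QuotientGroup.eq_one_iff] at hg
  rcases hx G hg with ⟨u, v, h⟩ | ⟨u, v, h⟩
  · refine ⟨QuotientGroup.mk u, QuotientGroup.mk v, ?_⟩
    rw [h]; simp only [QuotientGroup.mk_mul, QuotientGroup.mk_inv]
  · refine ⟨QuotientGroup.mk u, QuotientGroup.mk v, ?_⟩
    rw [← negElt_mk G, h]; simp only [QuotientGroup.mk_mul, QuotientGroup.mk_inv]

end Cfsg.Agent.S2460
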