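import Cfsg.Statements.S2463
import Cfsg.Agent.Lib.ReeF4Square.TitsMain


set_option autoImplicit false
set_option maxRecDepth 100000
open Cfsg

namespace Cfsg.Agent.S2463

theorem transfer {M H : Type*} [Group M] [Group H] (e : M ≃* H)
    (h : ∃ x : H, Odd (orderOf x) ∧ ∀ g, g ≠ 1 → CfsgLib.ReeF4Square.Good x g) :
    ∃ x : M, Odd (orderOf x) ∧ ∀ g : M, g ≠ 1 → ∃ u v : M, g = (u * x * u⁻¹) * (v * x * v⁻¹) := by
  obtain ⟨x, hx, hg⟩ := h
  refine ⟨e.symm x, ?_, fun g g1 => ?_⟩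
  · rw [MulEquiv.orderOf_eq]; exact hx
  · obtain ⟨a, b, h⟩ := hg (e g) fun h => g1 (e.injective (h.trans (map_one e).symm))
    exact ⟨e.symm a, e.symm b, e.injective (by
      simp only [map_mul, map_inv, MulEquiv.apply_symm_apply]; exact h)⟩

/-- A form of Thompson's conjecture for the simple groups of type ²F₄ (covering the non-identity elements) with a semisimple class: if M is a large Ree group ²F₄(2^(2m+1)) with m ≥ 1, or the Tits group, then there is an element x of M of odd order such that every non-identity element of M is a product of two conjugates of x. -/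
theorem result {M : Type*} [Group M] [Finite M] (hM : Cfsg.Lie.Iso2F4 M ∨ Cfsg.Lie.IsoTits M) :
    ∃ x : M, Odd (orderOf x) ∧ ∀ g : M, g ≠ 1 → ∃ u v : M, g = (u * x * u⁻¹) * (v * x * v⁻¹) := by
  rcases hM with ⟨K, _, _, m, hm, hK, ⟨e⟩⟩ | ⟨⟨e⟩⟩
  · obtain ⟨σ, hσ⟩ : ∃ σ, CfsgLib.ReeF4.IsSigma (K := K) m σ := CfsgLib.ReeF4.exists_sigma hK
    exact transfer e (CfsgLib.ReeF4Square.good_all hσ hm)
  · obtain ⟨σ, hσ⟩ : ∃ σ, CfsgLib.ReeF4.IsSigma (K := ZMod 2) 0 σ :=
      CfsgLib.ReeF4.exists_sigma (by simp)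
    exact transfer (H := Cfsg.Lie.TitsGroup) e (CfsgLib.ReeF4Square.Tits.tits_cover hσ)

end Cfsg.Agent.S2463
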