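import Cfsg.Statements.S2466
import Cfsg.Agent.Lib.AltOrders.Basic

set_option autoImplicit false
open Cfsg

namespace Cfsg.Agent.S2466
theorem exists_dvd_of_prime_dvd_lcm {r : ℕ} (hr : r.Prime) (s : Multiset ℕ) (h : r ∣ s.lcm) :
    ∃ a ∈ s, r ∣ a := by
  induction s using Multiset.induction with
  | empty => exact absurd (Nat.dvd_one.1 h) hr.ne_one
  | cons a t ih =>
    rw [Multiset.lcm_cons] at h
    rcases hr.dvd_mul.1 (h.trans (Nat.lcm_dvd_mul a t.lcm)) with ha | ht
    · exact ⟨a, Multiset.mem_cons_self a t, ha⟩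
    · obtain ⟨b, hb, hrb⟩ := ih ht
      exact ⟨b, Multiset.mem_cons_of_mem hb, hrb⟩


/-- Adjacency of odd primes in the prime graph of the alternating groups: let r ≠ s be odd primes at most n. The alternating group of degree n has an element of order r·s if and only if r + s ≤ n. -/
theorem result (n r s : ℕ) (hr : r.Prime) (hs : s.Prime) (hr2 : r ≠ 2) (hs2 : s ≠ 2) (hrs : r ≠ s) (hrn : r ≤ n) (hsn : s ≤ n) :
    (r * s ∈ Set.range (orderOf : alternatingGroup (Fin n) → ℕ)) ↔ r + s ≤ n := by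
  rw [CfsgLib.AltOrders.mem_range_orderOf_iff]
  constructor
  · rintro ⟨t, h2, hsum, -, hlcm⟩
    obtain ⟨a, ha, hra⟩ := exists_dvd_of_prime_dvd_lcm hr t (hlcm ▸ dvd_mul_right r s)
    obtain ⟨b, hb, hsb⟩ := exists_dvd_of_prime_dvd_lcm hs t (hlcm ▸ dvd_mul_left s r)
    have ha0 : 0 < a := by have := h2 a ha; omega
    rw [← Multiset.cons_erase ha, Multiset.sum_cons] at hsum
    by_cases hab : b = a
    · subst hab
      have hdvd : r * s ∣ b := ((Nat.coprime_primes hr hs).2 hrs).mul_dvd_of_dvd_of_dvd hra hsb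
      have h1 := Nat.le_of_dvd ha0 hdvd
      have hr3 := hr.two_le
      have hs3 := hs.two_le
      have : r + s ≤ r * s := Nat.add_le_mul hr3 hs3
      omega
    · have hb' : b ∈ t.erase a := (Multiset.mem_erase_of_ne hab).2 hb
      rw [← Multiset.cons_erase hb', Multiset.sum_cons] at hsum
      have h1 := Nat.le_of_dvd ha0 hra
      have h2' := Nat.le_of_dvd (by have := h2 b hb; omega) hsb
      omega
  · intro h
    refine ⟨r ::ₘ s ::ₘ 0, ?_, ?_, ?_, ?_⟩
    · simp [hr.two_le, hs.two_le]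
    · simpa using h
    · have h1 := Nat.odd_iff.1 (hr.odd_of_ne_two hr2)
      have h2 := Nat.odd_iff.1 (hs.odd_of_ne_two hs2)
      simp [Nat.even_iff]
      omega
    · simpa [lcm_eq_nat_lcm] using ((Nat.coprime_primes hr hs).2 hrs).lcm_eq_mul

end Cfsg.Agent.S2466
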