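import Cfsg.Statements.S2467
import Cfsg.Agent.Lib.AltOrders.Basic

set_option autoImplicit false
open Cfsg

namespace Cfsg.Agent.S2467
theorem exists_dvd_of_prime_dvd_lcm {r : ℕ} (hr : r.Prime) (s : Multiset ℕ) (h : r ∣ s.lcm) :
    ∃ a ∈ s, r ∣ a := by
  induction s using Multiset.induction with
  | empty => exact absurd (Nat.dvd_one.1 h) hr.ne_one
  | cons a t ih =>
    rw [Multiset.lcm_cons] at h
    rcases hr.dvd_mul.1 (h.trans (Nat.lcm_dvd_mul a t.lcm)) with ha | ht
    · exact ⟨a, Multiset.mem_cons_self a t, ha⟩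
    · obtain ⟨b, hb, hrb⟩ := ih ht
      exact ⟨b, Multiset.mem_cons_of_mem hb, hrb⟩

theorem exists_even_mem (t : Multiset ℕ) (h : Odd (t.sum + Multiset.card t)) : ∃ a ∈ t, Even a := by
  induction t using Multiset.induction with
  | empty => simp at h
  | cons a t ih =>
    by_cases ha : Even a
    · exact ⟨a, Multiset.mem_cons_self a t, ha⟩
    · rw [Multiset.sum_cons, Multiset.card_cons] at h
      have : Odd (t.sum + Multiset.card t) := by
        rw [Nat.odd_iff] at *
        rw [Nat.not_even_iff] at ha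
        omega
      obtain ⟨b, hb, hb'⟩ := ih this
      exact ⟨b, Multiset.mem_cons_of_mem hb, hb'⟩


/-- Adjacency of 2 and an odd prime in the prime graph of the alternating groups: let r be an odd prime at most n, with n ≥ 4. The alternating group of degree n has an element of order 2r if and only if r + 4 ≤ n. -/
theorem result (n r : ℕ) (hn : 4 ≤ n) (hr : r.Prime) (hr2 : r ≠ 2) (hrn : r ≤ n) :
    (2 * r ∈ Set.range (orderOf : alternatingGroup (Fin n) → ℕ)) ↔ r + 4 ≤ n := by
  rw [CfsgLib.AltOrders.mem_range_orderOf_iff]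
  have hodd := Nat.odd_iff.1 (hr.odd_of_ne_two hr2)
  have hr3 : 2 ≤ r := hr.two_le
  constructor
  · rintro ⟨t, h2, hsum, heven, hlcm⟩
    obtain ⟨a, ha, h2a⟩ := exists_dvd_of_prime_dvd_lcm Nat.prime_two t (hlcm ▸ dvd_mul_right 2 r)
    obtain ⟨b, hb, hrb⟩ := exists_dvd_of_prime_dvd_lcm hr t (hlcm ▸ dvd_mul_left r 2)
    rw [← Multiset.cons_erase ha, Multiset.sum_cons] at hsum
    have hodd' : Odd ((t.erase a).sum + Multiset.card (t.erase a)) := by
      rw [← Multiset.cons_erase ha, Multiset.sum_cons, Multiset.card_cons, Nat.even_iff] at heven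
      rw [Nat.odd_iff]
      omega
    obtain ⟨c, hc, hceven⟩ := exists_even_mem _ hodd'
    have hc2 := h2 c (Multiset.mem_of_mem_erase hc)
    rw [← Multiset.cons_erase hc, Multiset.sum_cons] at hsum
    have ha2 := h2 a ha
    have hb2 := h2 b hb
    have hbig : ∀ x : ℕ, 2 ≤ x → 2 ∣ x → r ∣ x → 2 * r ≤ x := by
      intro x hx h1 h2
      exact Nat.le_of_dvd (by omega)
        (((Nat.coprime_primes Nat.prime_two hr).2 (Ne.symm hr2)).mul_dvd_of_dvd_of_dvd h1 h2)
    by_cases hba : b = a
    · subst hba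
      have := hbig b hb2 h2a hrb
      omega
    by_cases hbc : b = c
    · subst hbc
      have := hbig b hb2 hceven.two_dvd hrb
      omega
    have hb' : b ∈ (t.erase a).erase c :=
      (Multiset.mem_erase_of_ne hbc).2 ((Multiset.mem_erase_of_ne hba).2 hb)
    rw [← Multiset.cons_erase hb', Multiset.sum_cons] at hsum
    have := Nat.le_of_dvd (by omega) hrb
    omega
  · intro h
    refine ⟨r ::ₘ 2 ::ₘ 2 ::ₘ 0, ?_, ?_, ?_, ?_⟩
    · simp [hr.two_le]
    · simp; omega
    · simp [Nat.even_iff]; omega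
    · rw [Nat.mul_comm 2 r]
      simpa [lcm_eq_nat_lcm] using ((Nat.coprime_primes hr Nat.prime_two).2 hr2).lcm_eq_mul

end Cfsg.Agent.S2467
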