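import Cfsg.Statements.S2471
import Cfsg.Agent.Lib.SL2Trace.Products

set_option autoImplicit false
open Cfsg

namespace Cfsg.Agent.S2471

/-- In PSL(2,q) with q odd, the characteristic p is isolated from 2 in the prime graph: for F a finite field of odd characteristic p with at least 5 elements, PSL(2,F) has no element of order 2p. -/
theorem result {F : Type*} [Field F] [Fintype F] (p : ℕ) [Fact p.Prime] [CharP F p] (hp : p ≠ 2) (h5 : 5 ≤ Fintype.card F) (g : Matrix.ProjectiveSpecialLinearGroup (Fin 2) F) :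
    orderOf g ≠ 2 * p := by
  intro hg
  have hp' := (Fact.out : p.Prime)
  have h2p : 2 < 2 * p := by have := hp'.two_le; omega
  obtain ⟨k, hk⟩ : p ∣ Fintype.card F := by
    obtain ⟨n, hn, hn'⟩ := FiniteField.card F p
    rw [hn']
    exact dvd_pow_self p n.pos.ne'
  have key : ∀ m, (2 * p ∣ m) → m ∣ Fintype.card F - 1 ∨ m ∣ Fintype.card F + 1 → False := by
    intro m h hm
    have hpm : p ∣ m := dvd_trans (dvd_mul_left p 2) h
    rcases hm with hm | hm
    · have h1 := hpm.trans hm
      have h2 : p ∣ Fintype.card F - (Fintype.card F - 1) := Nat.dvd_sub ⟨k, hk⟩ h1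
      rw [show Fintype.card F - (Fintype.card F - 1) = 1 by omega] at h2
      exact hp'.one_lt.ne' (Nat.dvd_one.1 h2)
    · have h1 := hpm.trans hm
      have h2 := Nat.dvd_sub h1 ⟨k, hk⟩
      rw [show Fintype.card F + 1 - Fintype.card F = 1 by omega] at h2
      exact hp'.one_lt.ne' (Nat.dvd_one.1 h2)
  rcases CfsgLib.SL2Trace.psl_pow_cases p g with h | h | h
  · have := Nat.le_of_dvd hp'.pos (orderOf_dvd_of_pow_eq_one h)
    omega
  · refine key _ (hg ▸ orderOf_dvd_of_pow_eq_one h) (Or.inl (Nat.div_dvd_of_dvd (Nat.gcd_dvd_right _ _)))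
  · refine key _ (hg ▸ orderOf_dvd_of_pow_eq_one h) (Or.inr (Nat.div_dvd_of_dvd ?_))
    rw [← CfsgLib.SL2Trace.gcd_two_card' (F := F)]
    exact Nat.gcd_dvd_right _ _

end Cfsg.Agent.S2471
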