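import Cfsg.Statements.S2477
import Cfsg.Agent.Lib.AltOrders.Basic

set_option autoImplicit false
open Cfsg

namespace Cfsg.Agent.S2477
/-- All pairs (lcm, parity of sum + card) of multisets with parts at least 2 and sum at most `b`. -/
def reach : ℕ → ℕ → List (ℕ × ℕ)
  | 0, _ => [(1, 0)]
  | f + 1, b => ((1, 0) :: (List.range (b - 1)).flatMap fun i =>
      (reach f (b - (i + 2))).map fun x => (Nat.lcm (i + 2) x.1, (i + 3 + x.2) % 2)).dedup

theorem mem_reach (t : Multiset ℕ) : ∀ f b : ℕ, (∀ a ∈ t, 2 ≤ a) → t.sum ≤ b → Multiset.card t ≤ f →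
    (t.lcm, (t.sum + Multiset.card t) % 2) ∈ reach f b := by
  induction t using Multiset.induction with
  | empty =>
    intro f b _ _ _
    cases f <;> simp [reach, Multiset.lcm_zero, List.mem_dedup]
  | cons a t ih =>
    intro f b h2 hs hc
    rw [Multiset.sum_cons] at hs
    rw [Multiset.card_cons] at hc
    obtain ⟨f, rfl⟩ : ∃ g, f = g + 1 := ⟨f - 1, by omega⟩
    have ha : 2 ≤ a := h2 a (Multiset.mem_cons_self a t)
    have hrec := ih f (b - a) (fun x hx => h2 x (Multiset.mem_cons_of_mem hx)) (by omega) (by omega)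
    rw [Multiset.lcm_cons, Multiset.sum_cons, Multiset.card_cons]
    simp only [reach, List.mem_dedup, List.mem_cons, List.mem_flatMap, List.mem_range, List.mem_map]
    right
    refine ⟨a - 2, by omega, (t.lcm, (t.sum + Multiset.card t) % 2), ?_, ?_⟩
    · rwa [show a - 2 + 2 = a by omega]
    · rw [Prod.mk.injEq]
      constructor
      · rw [show a - 2 + 2 = a by omega]; rfl
      · omega

theorem reach_ten_even : ∀ x ∈ reach 5 10, x.2 = 0 → x.1 ∈ [1, 2, 3, 4, 5, 6, 7, 8, 9, 10, 12, 15, 21] := by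
  decide +kernel


/-- The set of element orders of the alternating group of degree 10 is {1, 2, 3, 4, 5, 6, 7, 8, 9, 10, 12, 15, 21}. -/
theorem result : Set.range (orderOf : alternatingGroup (Fin 10) → ℕ) = {1, 2, 3, 4, 5, 6, 7, 8, 9, 10, 12, 15, 21} := by
  ext m
  rw [CfsgLib.AltOrders.mem_range_orderOf_iff]
  constructor
  · rintro ⟨t, h2, hsum, heven, rfl⟩
    have hc : Multiset.card t ≤ 5 := by
      have h := Multiset.card_nsmul_le_sum h2
      rw [smul_eq_mul] at h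
      omega
    simpa using reach_ten_even _ (mem_reach t 5 10 h2 hsum hc) (Nat.even_iff.1 heven)
  · intro h
    simp only [Set.mem_insert_iff, Set.mem_singleton_iff] at h
    rcases h with rfl|rfl|rfl|rfl|rfl|rfl|rfl|rfl|rfl|rfl|rfl|rfl|rfl
    · exact ⟨0, by decide⟩
    · exact ⟨2 ::ₘ 2 ::ₘ 0, by decide⟩
    · exact ⟨3 ::ₘ 0, by decide⟩
    · exact ⟨4 ::ₘ 2 ::ₘ 0, by decide⟩
    · exact ⟨5 ::ₘ 0, by decide⟩
    · exact ⟨6 ::ₘ 2 ::ₘ 0, by decide⟩
    · exact ⟨7 ::ₘ 0, by decide⟩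
    · exact ⟨8 ::ₘ 2 ::ₘ 0, by decide⟩
    · exact ⟨9 ::ₘ 0, by decide⟩
    · exact ⟨5 ::ₘ 2 ::ₘ 2 ::ₘ 0, by decide⟩
    · exact ⟨6 ::ₘ 4 ::ₘ 0, by decide⟩
    · exact ⟨5 ::ₘ 3 ::ₘ 0, by decide⟩
    · exact ⟨7 ::ₘ 3 ::ₘ 0, by decide⟩

end Cfsg.Agent.S2477
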