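import Cfsg.Statements.S2478
import Cfsg.Agent.Lib.ClassNum.Bound
import Cfsg.Agent.Lib.Semisimple.Classes

set_option autoImplicit false
open Cfsg

namespace Cfsg.Agent.S2478

/-- The number of conjugacy classes of GL(n,q): for F a finite field with q elements and n ≥ 1, the number k of conjugacy classes of GL(n,F) satisfies q^n − q^(n−1) ≤ k ≤ q^n. -/
theorem result {F : Type*} [Field F] [Fintype F] (n : ℕ) (hn : 1 ≤ n) :
    Fintype.card F ^ n - Fintype.card F ^ (n - 1) ≤ Nat.card (ConjClasses (Matrix.GeneralLinearGroup (Fin n) F)) ∧ Nat.card (ConjClasses (Matrix.GeneralLinearGroup (Fin n) F)) ≤ Fintype.card F ^ n := by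
  classical
  obtain ⟨p, hp⟩ := CharP.exists F
  haveI : Fact p.Prime := ⟨CharP.char_is_prime F p⟩
  refine ⟨?_, le_trans CfsgLib.ClassNum.card_conjClasses_gl_le
    (Nat.le_of_succ_le (CfsgLib.ClassNum.bCount_lt Fintype.card_pos n hn))⟩
  refine le_trans (le_of_eq ?_) (Finite.card_subtype_le (fun c : ConjClasses (GL (Fin n) F) =>
    ∃ g : GL (Fin n) F, ConjClasses.mk g = c ∧ (orderOf g).Coprime p))
  rw [CfsgLib.Semisimple.card_classes_gl p hn]
  obtain ⟨m, rfl⟩ : ∃ m, n = m + 1 := ⟨n - 1, by omega⟩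
  rw [Nat.add_sub_cancel, Nat.sub_one_mul, pow_succ']

end Cfsg.Agent.S2478
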