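import Cfsg.Statements.S2479
import Cfsg.Agent.Lib.ClassNum.Bound
import Cfsg.Agent.Lib.ClassNum.Arith
import Cfsg.Agent.Lib.Semisimple.Classes
import Mathlib.LinearAlgebra.Matrix.Transvection

set_option autoImplicit false
open Cfsg

namespace Cfsg.Agent.S2479
open Matrix


/-- The number of conjugacy classes of SL(n,q): for F a finite field with q elements, the number k of conjugacy classes of SL(n,F) satisfies q^(n−1) < k and k ≤ (5/2)·q^(n−1) for n ≥ 2, and k ≤ q^(n−1) + 3q^(n−2) for n ≥ 3. -/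
theorem result {F : Type*} [Field F] [Fintype F] (n : ℕ) (hn : 2 ≤ n) :
    Fintype.card F ^ (n - 1) < Nat.card (ConjClasses (Matrix.SpecialLinearGroup (Fin n) F)) ∧ 2 * Nat.card (ConjClasses (Matrix.SpecialLinearGroup (Fin n) F)) ≤ 5 * Fintype.card F ^ (n - 1) ∧
      (3 ≤ n → Nat.card (ConjClasses (Matrix.SpecialLinearGroup (Fin n) F)) ≤ Fintype.card F ^ (n - 1) + 3 * Fintype.card F ^ (n - 2)) := by
  classical
  obtain ⟨p, hp⟩ := CharP.exists F
  haveI : Fact p.Prime := ⟨CharP.char_is_prime F p⟩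
  have hq : 2 ≤ Fintype.card F := Fintype.one_lt_card
  have hup := CfsgLib.ClassNum.card_conjClasses_sl_mul_le (F := F) (n := n) (by omega)
  set k := Nat.card (ConjClasses (Matrix.SpecialLinearGroup (Fin n) F))
  set q := Fintype.card F
  have hbig : 3 ≤ n → k ≤ q ^ (n - 1) + 3 * q ^ (n - 2) := by
    intro h3
    have h := CfsgLib.ClassNum.aBound_sl hq h3
    obtain ⟨m, rfl⟩ : ∃ m, n = m + 2 := ⟨n - 2, by omega⟩
    rw [Nat.add_sub_cancel] at h ⊢
    rw [show m + 2 - 1 = m + 1 from rfl] at h ⊢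
    obtain ⟨r, hr⟩ : ∃ r, q = r + 1 := ⟨q - 1, by omega⟩
    rw [hr] at h hup ⊢
    rw [Nat.add_sub_cancel] at hup
    refine Nat.le_of_mul_le_mul_left ?_ (show 0 < r by omega)
    have e : r * ((r + 1) ^ (m + 1) + 3 * (r + 1) ^ m) + 3 * (r + 1) ^ m =
        (r + 1) ^ (m + 2) + 2 * (r + 1) ^ (m + 1) := by ring
    omega
  refine ⟨?_, ?_, hbig⟩
  · rw [← CfsgLib.Semisimple.card_classes_sl p (show 1 ≤ n by omega)]
    let t : Matrix.SpecialLinearGroup (Fin n) F :=
      ⟨Matrix.transvection ⟨0, by omega⟩ ⟨1, by omega⟩ (1 : F),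
        Matrix.det_transvection_of_ne _ _ (by simp [Fin.ext_iff]) _⟩
    have ht : ¬ (orderOf t).Coprime p := by
      intro hco
      have hne : t ≠ 1 := by
        intro h
        have := congrFun (congrFun (congrArg Subtype.val h) ⟨0, by omega⟩) ⟨1, by omega⟩
        simp [t, Matrix.transvection, Matrix.single, Matrix.one_apply, Fin.ext_iff] at this
      have hpow : ∀ k : ℕ, ((t ^ k : Matrix.SpecialLinearGroup (Fin n) F) : Matrix (Fin n) (Fin n) F) =
          Matrix.transvection ⟨0, by omega⟩ ⟨1, by omega⟩ (k : F) := by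
        intro k
        induction k with
        | zero => simp [Matrix.transvection_zero]
        | succ k ih =>
          rw [pow_succ, Matrix.SpecialLinearGroup.coe_mul, ih, Nat.cast_succ]
          exact Matrix.transvection_mul_transvection_same (⟨0, by omega⟩ : Fin n) (⟨1, by omega⟩ : Fin n)
            (by simp [Fin.ext_iff]) _ _
      have h1 : t ^ p = 1 := Subtype.ext (by rw [hpow, CharP.cast_eq_zero, Matrix.transvection_zero]; rfl)
      have h2 := Nat.eq_one_of_dvd_coprimes hco (dvd_refl _) (orderOf_dvd_of_pow_eq_one h1)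
      exact hne (orderOf_eq_one_iff.1 h2)
    refine Finite.card_subtype_lt (x := ConjClasses.mk t) ?_
    rintro ⟨g, hg, hgo⟩
    apply ht
    obtain ⟨u, hu⟩ := isConj_iff.1 (ConjClasses.mk_eq_mk_iff_isConj.1 hg)
    rw [← hu, show u * g * u⁻¹ = MulAut.conj u g from rfl, MulEquiv.orderOf_eq]
    exact hgo
  · rcases (show n = 2 ∨ 3 ≤ n by omega) with rfl | h3
    · have h := CfsgLib.ClassNum.aBound_two_le q
      obtain ⟨r, hr⟩ : ∃ r, q = r + 1 := ⟨q - 1, by omega⟩
      rw [hr] at h hup ⊢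
      rw [Nat.add_sub_cancel] at hup h
      refine Nat.le_of_mul_le_mul_left ?_ (show 0 < r by omega)
      have e : r * (5 * (r + 1) ^ (2 - 1)) = 5 * (r * r) + 5 * r := by norm_num; ring
      have e' : r * (r + 1 + 1) = r * r + 2 * r := by ring
      have e'' : r * (2 * k) = 2 * (r * k) := by ring
      have h4 : r ≤ r * r := Nat.le_mul_self r
      rw [e, e'']
      rw [e'] at h
      split_ifs at h with h5
      · have h6 := Nat.mul_le_mul_right r (show 2 ≤ r by omega)
        omega
      · omega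
    · refine le_trans (Nat.mul_le_mul_left 2 (hbig h3)) ?_
      obtain ⟨m, rfl⟩ : ∃ m, n = m + 2 := ⟨n - 2, by omega⟩
      rw [Nat.add_sub_cancel, show m + 2 - 1 = m + 1 from rfl, pow_succ']
      have := Nat.mul_le_mul_right (q ^ m) (show 6 ≤ 3 * q by omega)
      rw [mul_assoc] at this
      omega

end Cfsg.Agent.S2479
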