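import Cfsg.Statements.S2480
import Cfsg.Agent.Lib.ClassNum.Bound
import Cfsg.Agent.Lib.ClassNum.Arith
import Cfsg.Agent.Lib.Semisimple.Classes
import Cfsg.Agent.Lib.Linear.Card

set_option autoImplicit false
open Cfsg

namespace Cfsg.Agent.S2480
open Matrix CfsgLib.ClassNum


/-- The number of conjugacy classes of PSL(n,q): for F a finite field with q elements, n ≥ 2 and d = gcd(n, q − 1), the number k of conjugacy classes of PSL(n,F) satisfies q^(n−1) ≤ d·k ≤ q^(n−1) + 5q^(n−2). -/
theorem result {F : Type*} [Field F] [Fintype F] (n : ℕ) (hn : 2 ≤ n) :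
    Fintype.card F ^ (n - 1) ≤ Nat.gcd n (Fintype.card F - 1) * Nat.card (ConjClasses (Matrix.ProjectiveSpecialLinearGroup (Fin n) F)) ∧
      Nat.gcd n (Fintype.card F - 1) * Nat.card (ConjClasses (Matrix.ProjectiveSpecialLinearGroup (Fin n) F)) ≤ Fintype.card F ^ (n - 1) + 5 * Fintype.card F ^ (n - 2) := by
  classical
  obtain ⟨p, hp⟩ := CharP.exists F
  haveI : Fact p.Prime := ⟨CharP.char_is_prime F p⟩
  have hq : 2 ≤ Fintype.card F := Fintype.one_lt_card
  have hne : Nonempty (Fin n) := ⟨⟨0, by omega⟩⟩
  have hd : Nat.card (Subgroup.center (Matrix.SpecialLinearGroup (Fin n) F)) =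
      Nat.gcd n (Fintype.card F - 1) := by
    rw [CfsgLib.Linear.card_center_SL, Fintype.card_fin, Nat.gcd_comm]
  rw [← hd]
  constructor
  · refine le_trans ?_ (card_sl_le_card_center_mul (F := F) (n := n))
    rw [← CfsgLib.Semisimple.card_classes_sl p (show 1 ≤ n by omega)]
    exact Finite.card_subtype_le _
  · obtain ⟨sc, hinj, hsc⟩ := exists_center_scalar (F := F) (n := n) (by omega)
    have : Fintype (Subgroup.center (Matrix.SpecialLinearGroup (Fin n) F)) := Fintype.ofFinite _
    have h1 := mul_card_psl_le (F := F) (n := n)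
    have h2 := Nat.mul_le_mul_left (Fintype.card F - 1) h1
    rw [Finset.mul_sum] at h2
    have h3 := le_trans h2 (Finset.sum_le_sum fun z _ => card_fixed_mul_le (F := F) (show 1 ≤ n by omega) z)
    rw [← Finset.add_sum_erase _ _ (Finset.mem_univ (1 : Subgroup.center (Matrix.SpecialLinearGroup (Fin n) F))),
      orderOf_one, Nat.div_one] at h3
    have hpow : ∀ z : Subgroup.center (Matrix.SpecialLinearGroup (Fin n) F), orderOf z ∣ Fintype.card F - 1 :=
      fun z => by rw [← orderOf_injective sc hinj, ← Fintype.card_units]; exact orderOf_dvd_card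
    have hcardS : (Finset.univ.erase (1 : Subgroup.center (Matrix.SpecialLinearGroup (Fin n) F))).card + 1 =
        Nat.gcd n (Fintype.card F - 1) := by
      rw [Finset.card_erase_of_mem (Finset.mem_univ _), Finset.card_univ, ← Nat.card_eq_fintype_card, hd,
        Nat.sub_add_cancel (Nat.gcd_pos_of_pos_left _ (by omega))]
    have h4 := aBound_psl hq hn
      (Finset.univ.erase (1 : Subgroup.center (Matrix.SpecialLinearGroup (Fin n) F))) orderOf
      (fun z hz => by
        have hz1 : orderOf z ≠ 1 := fun h => Finset.ne_of_mem_erase hz (orderOf_eq_one_iff.1 h)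
        have := orderOf_pos z
        omega)
      (fun z _ => by
        rw [← orderOf_injective sc hinj]
        exact orderOf_dvd_of_pow_eq_one (Units.ext (by rw [Units.val_pow_eq_pow_val]; exact (hsc z).2)))
      (fun z _ => hpow z)
      (fun z _ w _ hz hw => by
        apply hinj
        have key : ∀ u : Subgroup.center (Matrix.SpecialLinearGroup (Fin n) F), orderOf u = 2 → (sc u : F) = -1 := by
          intro u hu
          have h5 : sc u ^ 2 = 1 := by rw [← map_pow, ← hu, pow_orderOf_eq_one, map_one]
          have h6 : (sc u : F) * (sc u : F) = 1 := by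
            rw [← sq, ← Units.val_pow_eq_pow_val, h5, Units.val_one]
          rcases mul_self_eq_one_iff.1 h6 with h | h
          · exfalso
            have : u = 1 := hinj (by rw [map_one]; exact Units.ext h)
            rw [this, orderOf_one] at hu; omega
          · exact h
        exact Units.ext ((key z hz).trans (key w hw).symm))
      (by rw [hcardS]; exact Nat.gcd_le_left _ (by omega))
      (by rw [hcardS]; exact Nat.gcd_le_right _ (by omega))
    show Nat.card (Subgroup.center (Matrix.SpecialLinearGroup (Fin n) F)) *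
      Nat.card (ConjClasses (Matrix.SpecialLinearGroup (Fin n) F ⧸
        Subgroup.center (Matrix.SpecialLinearGroup (Fin n) F))) ≤ _
    generalize Nat.card (Subgroup.center (Matrix.SpecialLinearGroup (Fin n) F)) *
      Nat.card (ConjClasses (Matrix.SpecialLinearGroup (Fin n) F ⧸
        Subgroup.center (Matrix.SpecialLinearGroup (Fin n) F))) = k at h3 ⊢
    generalize (∑ z ∈ Finset.univ.erase (1 : Subgroup.center (Matrix.SpecialLinearGroup (Fin n) F)),
      aBound (Fintype.card F) (n / orderOf z)) = T at h3 h4
    generalize Fintype.card F = q at hq h3 h4 ⊢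
    obtain ⟨m, rfl⟩ : ∃ m, n = m + 2 := ⟨n - 2, by omega⟩
    obtain ⟨r, rfl⟩ : ∃ r, q = r + 1 := ⟨q - 1, by omega⟩
    simp only [Nat.add_sub_cancel, show m + 2 - 1 = m + 1 from rfl] at h3 h4 ⊢
    refine Nat.le_of_mul_le_mul_left ?_ (show 0 < r by omega)
    have e : r * ((r + 1) ^ (m + 1) + 5 * (r + 1) ^ m) + 5 * (r + 1) ^ m =
        (r + 1) ^ (m + 2) + 4 * (r + 1) ^ (m + 1) := by ring
    omega

end Cfsg.Agent.S2480
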