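import Cfsg.Statements.S2485
import Mathlib.LinearAlgebra.Matrix.GeneralLinearGroup.Card
import Mathlib.LinearAlgebra.Matrix.GeneralLinearGroup.Projective
import Mathlib.GroupTheory.Sylow
import Mathlib.GroupTheory.PGroup
import Mathlib.Algebra.Field.ZMod
import Mathlib.Data.Set.Card
import Mathlib.Tactic.FieldSimp
import Mathlib.Tactic.LinearCombination

set_option autoImplicit false
open scoped Pointwise
open Cfsg

namespace Cfsg.Agent.S2485

section
variable {K : Type*} [Field K]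

theorem involutive_entries (h2 : (2 : K) ≠ 0) (t : Matrix (Fin 2) (Fin 2) K) (δ : K)
    (ht : t * t = δ • (1 : Matrix (Fin 2) (Fin 2) K)) (hns : ∀ c : K, t ≠ c • (1 : Matrix (Fin 2) (Fin 2) K)) :
    t 1 1 = - t 0 0 ∧ t 0 0 ^ 2 + t 0 1 * t 1 0 = δ := by
  have h00 := congrFun (congrFun ht 0) 0
  have h01 := congrFun (congrFun ht 0) 1
  have h10 := congrFun (congrFun ht 1) 0
  have h11 := congrFun (congrFun ht 1) 1
  simp [Matrix.mul_apply, Fin.sum_univ_two] at h00 h01 h10 h11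
  refine ⟨?_, by linear_combination h00⟩
  by_contra hne
  have hsum : t 0 0 + t 1 1 ≠ 0 := fun h => hne (by linear_combination h)
  have hb : t 0 1 = 0 := by
    have : t 0 1 * (t 0 0 + t 1 1) = 0 := by linear_combination h01
    exact (mul_eq_zero.1 this).resolve_right hsum
  have hc : t 1 0 = 0 := by
    have : t 1 0 * (t 0 0 + t 1 1) = 0 := by linear_combination h10
    exact (mul_eq_zero.1 this).resolve_right hsum
  have hd : t 0 0 = t 1 1 := by
    have : (t 0 0 - t 1 1) * (t 0 0 + t 1 1) = 0 := by linear_combination h00 - h11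
    exact sub_eq_zero.1 ((mul_eq_zero.1 this).resolve_right hsum)
  apply hns (t 0 0)
  ext i j
  fin_cases i <;> fin_cases j <;> simp [hb, hc, ← hd]

theorem commutant_entries (h2 : (2 : K) ≠ 0) (t A : Matrix (Fin 2) (Fin 2) K)
    (htr : t 1 1 = - t 0 0) (hns : ∀ c : K, t ≠ c • (1 : Matrix (Fin 2) (Fin 2) K))
    (hA : A * t = t * A) : ∃ a b : K, A = a • (1 : Matrix (Fin 2) (Fin 2) K) + b • t := by
  have h00 := congrFun (congrFun hA 0) 0
  have h01 := congrFun (congrFun hA 0) 1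
  have h10 := congrFun (congrFun hA 1) 0
  simp [Matrix.mul_apply, Fin.sum_univ_two, htr] at h00 h01 h10
  by_cases hb : t 0 1 = 0
  · by_cases hc : t 1 0 = 0
    · have hp : t 0 0 ≠ 0 := fun hp => hns 0 (by ext i j; fin_cases i <;> fin_cases j <;> simp [hb, hc, hp, htr])
      have hpp : 2 * t 0 0 ≠ 0 := mul_ne_zero h2 hp
      have hA01 : A 0 1 = 0 := by
        rw [hb] at h01
        have : A 0 1 * (2 * t 0 0) = 0 := by linear_combination -h01
        exact (mul_eq_zero.1 this).resolve_right hpp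
      have hA10 : A 1 0 = 0 := by
        rw [hc] at h10
        have : A 1 0 * (2 * t 0 0) = 0 := by linear_combination h10
        exact (mul_eq_zero.1 this).resolve_right hpp
      obtain ⟨b, hb'⟩ : ∃ b, A 0 0 - A 1 1 = b * (2 * t 0 0) := ⟨_, (div_mul_cancel₀ _ hpp).symm⟩
      refine ⟨A 0 0 - b * t 0 0, b, ?_⟩
      ext i j
      fin_cases i <;> fin_cases j <;> simp [hb, hc, htr, hA01, hA10]
      linear_combination -hb'
    · obtain ⟨b, hb'⟩ : ∃ b, A 1 0 = b * t 1 0 := ⟨_, (div_mul_cancel₀ _ hc).symm⟩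
      have hA01 : A 0 1 = 0 := by
        rw [hb] at h00
        have : A 0 1 * t 1 0 = 0 := by linear_combination h00
        exact (mul_eq_zero.1 this).resolve_right hc
      have hA11 : A 1 1 = A 0 0 - 2 * (b * t 0 0) :=
        mul_right_cancel₀ hc (by rw [hb'] at h10; linear_combination h10)
      refine ⟨A 0 0 - b * t 0 0, b, ?_⟩
      ext i j
      fin_cases i <;> fin_cases j <;> simp [hb, htr, hA01, hA11, hb']
      ring
  · obtain ⟨b, hb'⟩ : ∃ b, A 0 1 = b * t 0 1 := ⟨_, (div_mul_cancel₀ _ hb).symm⟩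
    have hA10 : A 1 0 = b * t 1 0 :=
      mul_left_cancel₀ hb (by rw [hb'] at h00; linear_combination -h00)
    have hA11 : A 1 1 = A 0 0 - 2 * (b * t 0 0) :=
      mul_left_cancel₀ hb (by rw [hb'] at h01; linear_combination -h01)
    refine ⟨A 0 0 - b * t 0 0, b, ?_⟩
    ext i j
    fin_cases i <;> fin_cases j <;> simp [htr, hA10, hA11, hb']
    ring

theorem square_of_nilpotent_anticommute (h2 : (2 : K) ≠ 0) (p b c a u w : K) (δ : K)
    (hδ : p ^ 2 + b * c = δ) (hs : a ^ 2 + u * w = 0) (hs0 : ¬ (a = 0 ∧ u = 0 ∧ w = 0))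
    (hac : 2 * a * p + u * c + w * b = 0) : ∃ μ : K, μ * μ = δ := by
  by_cases hu : u = 0
  · subst hu
    have ha : a = 0 := by simpa using hs
    subst ha
    have hw : w ≠ 0 := fun h => hs0 ⟨rfl, rfl, h⟩
    have hb : b = 0 := (mul_eq_zero.1 (by linear_combination hac : w * b = 0)).resolve_left hw
    exact ⟨p, by rw [← hδ, hb]; ring⟩
  · refine ⟨p - a * b / u, ?_⟩
    rw [← hδ]
    field_simp
    linear_combination (-(b * u)) * hac + b ^ 2 * hs

end

section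
variable {K : Type*} [Field K] [Fintype K]

theorem card_centralizer_le (h2 : (2 : K) ≠ 0) (t : GL (Fin 2) K) (δ : K)
    (ht : (t : Matrix (Fin 2) (Fin 2) K) * t = δ • (1 : Matrix (Fin 2) (Fin 2) K))
    (hns : ∀ c : K, (t : Matrix (Fin 2) (Fin 2) K) ≠ c • (1 : Matrix (Fin 2) (Fin 2) K)) :
    {A : GL (Fin 2) K | A * t = t * A}.ncard ≤ Fintype.card K ^ 2 - 1 ∧
      ((∃ μ, μ * μ = δ) → {A : GL (Fin 2) K | A * t = t * A}.ncard ≤ (Fintype.card K - 1) ^ 2) := by
  classical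
  obtain ⟨htr, hδ⟩ := involutive_entries h2 _ δ ht hns
  have h : ∀ A : {A : GL (Fin 2) K | A * t = t * A}, ∃ ab : K × K,
      ((A : GL (Fin 2) K) : Matrix (Fin 2) (Fin 2) K) = ab.1 • (1 : Matrix (Fin 2) (Fin 2) K) + ab.2 • (t : Matrix (Fin 2) (Fin 2) K) := fun A => by
    obtain ⟨a, b, hab⟩ := commutant_entries h2 _ _ htr hns (congrArg Units.val A.2)
    exact ⟨(a, b), hab⟩
  choose ab hab using h
  have hinj : Function.Injective ab := fun A B hAB => Subtype.ext (Units.ext (by rw [hab, hab, hAB]))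
  have hdet : ∀ A, (ab A).1 ^ 2 - δ * (ab A).2 ^ 2 ≠ 0 := fun A h0 => by
    apply (Matrix.GeneralLinearGroup.det (A : GL (Fin 2) K)).ne_zero
    show ((A : GL (Fin 2) K) : Matrix (Fin 2) (Fin 2) K).det = 0
    rw [hab, Matrix.det_fin_two, ← h0, ← hδ]
    simp [htr]
    ring
  constructor
  · rw [← Nat.card_coe_set_eq]
    have := Nat.card_le_card_of_injective
      (fun A : {A : GL (Fin 2) K | A * t = t * A} => (⟨ab A, fun h => hdet A (by simp [h])⟩ : {v : K × K // v ≠ 0}))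
      (fun A B hAB => hinj (congrArg Subtype.val hAB))
    refine this.trans (le_of_eq ?_)
    rw [Nat.card_eq_fintype_card, Fintype.card_subtype_compl, Fintype.card_subtype_eq,
      Fintype.card_prod, sq]
  · rintro ⟨μ, hμ⟩
    rw [← Nat.card_coe_set_eq]
    have hne : ∀ A, (ab A).1 + μ * (ab A).2 ≠ 0 ∧ (ab A).1 - μ * (ab A).2 ≠ 0 := fun A => by
      have := hdet A
      rw [← hμ, show (ab A).1 ^ 2 - μ * μ * (ab A).2 ^ 2 = ((ab A).1 + μ * (ab A).2) * ((ab A).1 - μ * (ab A).2) by ring] at this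
      exact mul_ne_zero_iff.1 this
    have hμ0 : μ ≠ 0 := by
      rintro rfl
      have hd : (t : Matrix (Fin 2) (Fin 2) K).det = 0 := by
        rw [Matrix.det_fin_two, htr]; linear_combination -hδ + hμ
      exact (Matrix.GeneralLinearGroup.det t).ne_zero hd
    have := Nat.card_le_card_of_injective
      (fun A : {A : GL (Fin 2) K | A * t = t * A} =>
        ((Units.mk0 _ (hne A).1, Units.mk0 _ (hne A).2) : Kˣ × Kˣ)) (fun A B hAB => hinj (by
        have h1 := congrArg (fun v : Kˣ × Kˣ => (v.1 : K)) hAB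
        have h3 := congrArg (fun v : Kˣ × Kˣ => (v.2 : K)) hAB
        simp only [Units.val_mk0] at h1 h3
        have ha : (ab A).1 = (ab B).1 := mul_left_cancel₀ h2 (by linear_combination h1 + h3)
        exact Prod.ext ha (mul_left_cancel₀ hμ0 (by linear_combination h1 - ha))))
    refine this.trans (le_of_eq ?_)
    rw [Nat.card_prod, Nat.card_units, Nat.card_eq_fintype_card, sq]

end

section
variable {K : Type*} [Field K]

theorem mem_center_scalar (g : GL (Fin 2) K) :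
    g ∈ Subgroup.center (GL (Fin 2) K) ↔
      ∃ c : K, (g : Matrix (Fin 2) (Fin 2) K) = c • (1 : Matrix (Fin 2) (Fin 2) K) := by
  rw [Matrix.GeneralLinearGroup.center_eq_range_scalar]
  constructor
  · rintro ⟨u, rfl⟩
    exact ⟨u, by rw [Matrix.GeneralLinearGroup.coe_scalar, Matrix.smul_one_eq_diagonal]; rfl⟩
  · rintro ⟨c, hc⟩
    have hc0 : c ≠ 0 := by
      rintro rfl
      exact (Matrix.GeneralLinearGroup.det g).ne_zero
        (by show (g : Matrix (Fin 2) (Fin 2) K).det = 0; simp [hc])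
    refine ⟨Units.mk0 c hc0, Units.ext ?_⟩
    rw [hc, Matrix.GeneralLinearGroup.coe_scalar, Matrix.smul_one_eq_diagonal]
    rfl

theorem commute_mk_of_anticommute (S T : GL (Fin 2) K)
    (h : (S : Matrix (Fin 2) (Fin 2) K) * T = -((T : Matrix (Fin 2) (Fin 2) K) * S)) :
    (S : GL (Fin 2) K ⧸ Subgroup.center (GL (Fin 2) K)) * T = (T : GL (Fin 2) K ⧸ Subgroup.center (GL (Fin 2) K)) * S := by
  rw [← QuotientGroup.mk_mul, ← QuotientGroup.mk_mul, QuotientGroup.eq]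
  refine (mem_center_scalar _).2 ⟨-1, ?_⟩
  have : ((T * S : GL (Fin 2) K) : Matrix (Fin 2) (Fin 2) K) = -((S * T : GL (Fin 2) K) : Matrix (Fin 2) (Fin 2) K) := by
    rw [Units.val_mul, Units.val_mul, h, neg_neg]
  rw [Units.val_mul, this, mul_neg, ← Units.val_mul, inv_mul_cancel, Units.val_one, neg_smul, one_smul]

theorem sign_of_commute_mk (A t : GL (Fin 2) K)
    (h : (A : GL (Fin 2) K ⧸ Subgroup.center (GL (Fin 2) K)) * t = (t : GL (Fin 2) K ⧸ Subgroup.center (GL (Fin 2) K)) * A) :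
    A * t = t * A ∨ (A : Matrix (Fin 2) (Fin 2) K) * t = -((t : Matrix (Fin 2) (Fin 2) K) * A) := by
  rw [← QuotientGroup.mk_mul, ← QuotientGroup.mk_mul, eq_comm, QuotientGroup.eq] at h
  obtain ⟨c, hc⟩ := (mem_center_scalar _).1 h
  have hAt : (A : Matrix (Fin 2) (Fin 2) K) * t = c • ((t : Matrix (Fin 2) (Fin 2) K) * A) := by
    have h1 := congrArg (((t * A : GL (Fin 2) K) : Matrix (Fin 2) (Fin 2) K) * ·) hc
    simp only [← Units.val_mul, mul_inv_cancel_left, mul_smul_comm, mul_one] at h1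
    simpa using h1
  have hd := congrArg Matrix.det hAt
  rw [Matrix.det_mul, Matrix.det_smul, Matrix.det_mul, Fintype.card_fin] at hd
  have hne : (t : Matrix (Fin 2) (Fin 2) K).det * (A : Matrix (Fin 2) (Fin 2) K).det ≠ 0 :=
    mul_ne_zero (Matrix.GeneralLinearGroup.det t).ne_zero (Matrix.GeneralLinearGroup.det A).ne_zero
  have hc2 : c ^ 2 = 1 := mul_right_cancel₀ hne (by rw [one_mul, ← hd, mul_comm])
  rcases sq_eq_one_iff.1 hc2 with rfl | rfl
  · left; exact Units.ext (by simpa using hAt)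
  · right; simpa using hAt

theorem card_center [Fintype K] :
    Nat.card (Subgroup.center (GL (Fin 2) K)) = Fintype.card K - 1 := by
  rw [Matrix.GeneralLinearGroup.center_eq_range_scalar,
    ← Nat.card_congr (MonoidHom.ofInjective (f := Matrix.GeneralLinearGroup.scalar (Fin 2)) ?_).toEquiv,
    Nat.card_units, Nat.card_eq_fintype_card]
  intro a b hab
  have := congrArg (fun g : GL (Fin 2) K => (g : Matrix (Fin 2) (Fin 2) K) 0 0) hab
  exact Units.ext (by simpa [Matrix.GeneralLinearGroup.coe_scalar] using this)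

theorem card_pgl [Fintype K] (Q : ℕ) (hQ : Fintype.card K = Q + 1) :
    Nat.card (GL (Fin 2) K ⧸ Subgroup.center (GL (Fin 2) K)) = Q * (Q + 1) * (Q + 2) := by
  have h := Subgroup.card_eq_card_quotient_mul_card_subgroup (Subgroup.center (GL (Fin 2) K))
  rw [Matrix.card_GL_field, card_center, Fin.prod_univ_two, hQ] at h
  simp only [Fin.val_zero, Fin.val_one, pow_zero, pow_one, Nat.add_sub_cancel] at h
  rw [show (Q + 1) ^ 2 - 1 = Q * (Q + 2) by rw [Nat.sub_eq_iff_eq_add (Nat.one_le_pow _ _ (by omega))]; ring,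
    show (Q + 1) ^ 2 - (Q + 1) = Q * (Q + 1) by rw [Nat.sub_eq_iff_eq_add (Nat.le_self_pow (by norm_num) _)]; ring] at h
  have hpos : 0 < Q := by have := Fintype.one_lt_card (α := K); omega
  apply Nat.eq_of_mul_eq_mul_right hpos
  rw [← h]; ring

theorem card_comap [Fintype K] (C : Subgroup (GL (Fin 2) K ⧸ Subgroup.center (GL (Fin 2) K))) :
    Nat.card (C.comap (QuotientGroup.mk' (Subgroup.center (GL (Fin 2) K)))) =
      (Fintype.card K - 1) * Nat.card C := by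
  have h1 := (C.comap (QuotientGroup.mk' (Subgroup.center (GL (Fin 2) K)))).index_mul_card
  have h2 := C.index_mul_card
  rw [Subgroup.index_comap_of_surjective C (QuotientGroup.mk'_surjective _),
    Subgroup.card_eq_card_quotient_mul_card_subgroup (Subgroup.center (GL (Fin 2) K)), card_center,
    ← h2] at h1
  apply Nat.eq_of_mul_eq_mul_left (Nat.pos_of_ne_zero C.index_ne_zero_of_finite)
  rw [h1]; ring

theorem sylow_two_eq_centralizer [Fintype K] (h2 : (2 : K) ≠ 0) (l : ℕ) (hl : 2 ≤ l)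
    (hcard : Fintype.card K + 1 = 2 ^ (l + 1))
    (H : Sylow 2 (GL (Fin 2) K ⧸ Subgroup.center (GL (Fin 2) K))) :
    ∃ (t : GL (Fin 2) K) (δ : K), (¬ ∃ μ, μ * μ = δ) ∧
      (t : Matrix (Fin 2) (Fin 2) K) * t = δ • (1 : Matrix (Fin 2) (Fin 2) K) ∧
      (∀ c : K, (t : Matrix (Fin 2) (Fin 2) K) ≠ c • (1 : Matrix (Fin 2) (Fin 2) K)) ∧
      (H : Subgroup (GL (Fin 2) K ⧸ Subgroup.center (GL (Fin 2) K))) =
        Subgroup.centralizer ({(t : GL (Fin 2) K ⧸ Subgroup.center (GL (Fin 2) K))} : Set _) := by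
  classical
  haveI : Fact (Nat.Prime 2) := ⟨Nat.prime_two⟩
  obtain ⟨Q, hQ⟩ : ∃ Q, Fintype.card K = Q + 1 := ⟨Fintype.card K - 1, by have := Fintype.card_pos (α := K); omega⟩
  have hG := card_pgl Q hQ
  have h4l : 4 ≤ 2 ^ l := (Nat.pow_le_pow_right (by norm_num) hl).trans' (by norm_num)
  obtain ⟨L, hL⟩ : ∃ L, 2 ^ l = L + 1 := ⟨2 ^ l - 1, by omega⟩
  have hQL : Q = 2 * L := by rw [pow_succ] at hcard; omega
  have hL2 : ¬ 2 ∣ L := by
    obtain ⟨l', rfl⟩ : ∃ l', l = l' + 1 := ⟨l - 1, by omega⟩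
    rw [pow_succ] at hL; omega
  have hQ2 : Q + 2 = 2 ^ (l + 1) := by rw [pow_succ]; omega
  have hodd : ¬ 2 ∣ L * (Q + 1) := by
    rw [Nat.prime_two.dvd_mul]; omega
  obtain ⟨j, hj⟩ := H.2.exists_card_eq
  have hprod : (H : Subgroup (GL (Fin 2) K ⧸ Subgroup.center (GL (Fin 2) K))).index * 2 ^ j = L * (Q + 1) * 2 ^ (l + 1 + 1) := by
    rw [← hj, (H : Subgroup (GL (Fin 2) K ⧸ Subgroup.center (GL (Fin 2) K))).index_mul_card, hG, pow_succ 2 (l + 1), ← hQ2, hQL]; ring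
  have hjl : j = l + 1 + 1 := by
    apply le_antisymm
    · by_contra hlt
      obtain ⟨d, hd⟩ := Nat.pow_dvd_pow 2 (show l + 1 + 1 + 1 ≤ j by omega)
      rw [hd] at hprod
      have h' : (H : Subgroup (GL (Fin 2) K ⧸ Subgroup.center (GL (Fin 2) K))).index * 2 * d * 2 ^ (l + 1 + 1) = L * (Q + 1) * 2 ^ (l + 1 + 1) := by
        rw [← hprod, pow_succ 2 (l + 1 + 1)]; ring
      exact hodd ⟨(H : Subgroup (GL (Fin 2) K ⧸ Subgroup.center (GL (Fin 2) K))).index * d, by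
        rw [← Nat.eq_of_mul_eq_mul_right (pow_pos (by norm_num) _) h']; ring⟩
    · by_contra hlt
      obtain ⟨d, hd⟩ := Nat.pow_dvd_pow 2 (show j + 1 ≤ l + 1 + 1 by omega)
      rw [hd] at hprod
      have h' : (H : Subgroup (GL (Fin 2) K ⧸ Subgroup.center (GL (Fin 2) K))).index * 2 ^ j = L * (Q + 1) * 2 * d * 2 ^ j := by
        rw [hprod, pow_succ 2 j]; ring
      exact H.not_dvd_index ⟨L * (Q + 1) * d, by
        rw [Nat.eq_of_mul_eq_mul_right (pow_pos (by norm_num) _) h']; ring⟩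
  have hHcard : Nat.card (H : Subgroup (GL (Fin 2) K ⧸ Subgroup.center (GL (Fin 2) K))) = 2 * (Q + 2) := by
    rw [hj, hjl, hQ2, pow_succ']
  have hnt : Nontrivial (H : Subgroup (GL (Fin 2) K ⧸ Subgroup.center (GL (Fin 2) K))) :=
    Finite.one_lt_card_iff_nontrivial.1 (by rw [hHcard]; omega)
  have := H.2.center_nontrivial
  obtain ⟨⟨z₀, hz₀c⟩, hz₀⟩ := exists_ne (1 : Subgroup.center (H : Subgroup (GL (Fin 2) K ⧸ Subgroup.center (GL (Fin 2) K))))
  have hz₀1 : z₀ ≠ 1 := fun h => hz₀ (Subtype.ext h)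
  have hev : 2 ∣ orderOf z₀ := by
    obtain ⟨i, -, hi⟩ := (Nat.dvd_prime_pow Nat.prime_two).1 (hj ▸ orderOf_dvd_natCard z₀)
    rw [hi]
    refine dvd_pow_self 2 ?_
    rintro rfl
    rw [pow_zero, orderOf_eq_one_iff] at hi
    exact hz₀1 hi
  obtain ⟨z₁, hz1⟩ : ∃ z₁, z₁ = z₀ ^ (orderOf z₀ / 2) := ⟨_, rfl⟩
  have hz₁2 : orderOf z₁ = 2 := hz1 ▸ orderOf_pow_orderOf_div (orderOf_pos z₀).ne' hev
  have hz₁c := hz1 ▸ Subgroup.pow_mem _ hz₀c (orderOf z₀ / 2)
  obtain ⟨t, ht⟩ := QuotientGroup.mk_surjective (z₁ : GL (Fin 2) K ⧸ Subgroup.center (GL (Fin 2) K))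
  have hto : orderOf (t : GL (Fin 2) K ⧸ Subgroup.center (GL (Fin 2) K)) = 2 := by
    rw [ht, Subgroup.orderOf_coe, hz₁2]
  obtain ⟨δ, hδ⟩ : ∃ δ : K, (t : Matrix (Fin 2) (Fin 2) K) * t = δ • (1 : Matrix (Fin 2) (Fin 2) K) := by
    refine (mem_center_scalar (t * t)).1 ((QuotientGroup.eq_one_iff (t * t)).1 ?_)
    have hp2 := pow_orderOf_eq_one (t : GL (Fin 2) K ⧸ Subgroup.center (GL (Fin 2) K))
    rwa [hto, sq, ← QuotientGroup.mk_mul] at hp2
  have hns : ∀ c : K, (t : Matrix (Fin 2) (Fin 2) K) ≠ c • (1 : Matrix (Fin 2) (Fin 2) K) := fun c hc => by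
    have h1 := (QuotientGroup.eq_one_iff t).2 ((mem_center_scalar t).2 ⟨c, hc⟩)
    rw [h1, orderOf_one] at hto
    omega
  obtain ⟨C, hCdef⟩ : ∃ C, C = Subgroup.centralizer ({(t : GL (Fin 2) K ⧸ Subgroup.center (GL (Fin 2) K))} : Set _) := ⟨_, rfl⟩
  have hHC : (H : Subgroup (GL (Fin 2) K ⧸ Subgroup.center (GL (Fin 2) K))) ≤ C := fun h hh => by
    rw [hCdef, Subgroup.mem_centralizer_singleton_iff, ht]
    exact congrArg Subtype.val (Subgroup.mem_center_iff.1 hz₁c ⟨h, hh⟩)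
  have hle : Q * Nat.card C ≤ 2 * {A : GL (Fin 2) K | A * t = t * A}.ncard := by
    have hc := card_comap C
    rw [hQ, Nat.add_sub_cancel] at hc
    rw [← hc, ← SetLike.coe_sort_coe, Nat.card_coe_set_eq]
    refine (Set.ncard_le_ncard (t := {A : GL (Fin 2) K | A * t = t * A} ∪
      {A : GL (Fin 2) K | (A : Matrix (Fin 2) (Fin 2) K) * t = -((t : Matrix (Fin 2) (Fin 2) K) * A)}) ?_
      (Set.toFinite _)).trans ((Set.ncard_union_le _ _).trans ?_)
    · intro A hA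
      rw [SetLike.mem_coe, Subgroup.mem_comap, hCdef, Subgroup.mem_centralizer_singleton_iff] at hA
      exact sign_of_commute_mk A t hA
    rw [two_mul]
    refine Nat.add_le_add_left ?_ _
    rcases Set.eq_empty_or_nonempty {A : GL (Fin 2) K | (A : Matrix (Fin 2) (Fin 2) K) * t = -((t : Matrix (Fin 2) (Fin 2) K) * A)} with h | ⟨A0, hA0⟩
    · rw [h, Set.ncard_empty]; exact Nat.zero_le _
    refine Set.ncard_le_ncard_of_injOn (fun A => A0 * A) (fun A hA => Units.ext ?_)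
      (fun A _ B _ h => mul_left_cancel h) (Set.toFinite _)
    rw [Units.val_mul, Units.val_mul, Units.val_mul, mul_assoc, hA, mul_neg, ← mul_assoc, hA0,
      neg_mul, neg_neg, mul_assoc, ← Units.val_mul]
  obtain ⟨hn1, hn2⟩ := card_centralizer_le h2 t δ hδ hns
  rw [hQ] at hn1 hn2
  simp only [Nat.add_sub_cancel] at hn2
  have hQpos : 0 < Q := by omega
  have hge := Nat.mul_le_mul_left Q (Subgroup.card_le_of_le hHC)
  rw [hHcard] at hge
  refine ⟨t, δ, ?_, hδ, hns, ?_⟩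
  · intro hμ
    have h1 := hge.trans (hle.trans (Nat.mul_le_mul_left 2 (hn2 hμ)))
    rw [sq, ← mul_assoc, ← mul_assoc, mul_comm Q 2] at h1
    have := Nat.le_of_mul_le_mul_left h1 (by omega)
    omega
  · rw [← hCdef]
    refine Subgroup.eq_of_le_of_card_ge hHC ?_
    rw [hHcard]
    refine Nat.le_of_mul_le_mul_left (hle.trans ((Nat.mul_le_mul_left 2 hn1).trans (le_of_eq ?_))) hQpos
    rw [show (Q + 1) ^ 2 - 1 = Q * (Q + 2) by rw [Nat.sub_eq_iff_eq_add (Nat.one_le_pow _ _ (by omega))]; ring]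
    ring

theorem exists_common (h2 : (2 : K) ≠ 0) (t1 t2 : GL (Fin 2) K) (δ : K) (hδ0 : ¬ ∃ μ, μ * μ = δ)
    (h11 : (t1 : Matrix (Fin 2) (Fin 2) K) * t1 = δ • (1 : Matrix (Fin 2) (Fin 2) K))
    (h22 : (t2 : Matrix (Fin 2) (Fin 2) K) * t2 = δ • (1 : Matrix (Fin 2) (Fin 2) K))
    (hns : ∀ c : K, (t1 : Matrix (Fin 2) (Fin 2) K) ≠ c • (1 : Matrix (Fin 2) (Fin 2) K)) :
    ∃ u : GL (Fin 2) K ⧸ Subgroup.center (GL (Fin 2) K), u ≠ 1 ∧
      u * (t1 : GL (Fin 2) K ⧸ Subgroup.center (GL (Fin 2) K)) = (t1 : GL (Fin 2) K ⧸ Subgroup.center (GL (Fin 2) K)) * u ∧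
      u * (t2 : GL (Fin 2) K ⧸ Subgroup.center (GL (Fin 2) K)) = (t2 : GL (Fin 2) K ⧸ Subgroup.center (GL (Fin 2) K)) * u := by
  obtain ⟨htr, hδe⟩ := involutive_entries h2 _ δ h11 hns
  by_cases hcm : t1 * t2 = t2 * t1
  · refine ⟨t1, fun h => ?_, rfl, by rw [← QuotientGroup.mk_mul, hcm]; rfl⟩
    obtain ⟨c, hc⟩ := (mem_center_scalar t1).1 ((QuotientGroup.eq_one_iff t1).1 h)
    exact hns c hc
  obtain ⟨T1, hT1⟩ : ∃ T1, T1 = (t1 : Matrix (Fin 2) (Fin 2) K) := ⟨_, rfl⟩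
  obtain ⟨T2, hT2⟩ : ∃ T2, T2 = (t2 : Matrix (Fin 2) (Fin 2) K) := ⟨_, rfl⟩
  rw [← hT1] at h11 htr hδe
  rw [← hT2] at h22
  obtain ⟨S, hS⟩ : ∃ S, S = T1 * T2 - T2 * T1 := ⟨_, rfl⟩
  have hs0 : S ≠ 0 := fun h => hcm (Units.ext (by rw [Units.val_mul, Units.val_mul, ← hT1, ← hT2, ← sub_eq_zero, ← hS, h]))
  have hanti1 : S * T1 = -(T1 * S) := by
    rw [eq_neg_iff_add_eq_zero, hS, sub_mul, mul_sub, mul_assoc T2, ← mul_assoc T1 T1, h11]
    simp [mul_assoc]
  have hanti2 : S * T2 = -(T2 * S) := by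
    rw [eq_neg_iff_add_eq_zero, hS, sub_mul, mul_sub, mul_assoc T1, ← mul_assoc T2 T2, h22]
    simp [mul_assoc]
  have hStr : S 1 1 = - S 0 0 := by
    simp [hS, Matrix.mul_apply, Fin.sum_univ_two]; ring
  have hdet : S.det ≠ 0 := by
    intro h0
    rw [Matrix.det_fin_two, hStr] at h0
    have h00 := congrFun (congrFun hanti1 0) 0
    simp [Matrix.mul_apply, Fin.sum_univ_two] at h00
    refine hδ0 (square_of_nilpotent_anticommute h2 (T1 0 0) (T1 0 1) (T1 1 0) (S 0 0) (S 0 1) (S 1 0) δ hδe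
      (by linear_combination -h0) ?_ (by linear_combination h00))
    rintro ⟨ha, hb, hc⟩
    exact hs0 (by ext i j; fin_cases i <;> fin_cases j <;> simp [ha, hb, hc, hStr])
  refine ⟨((Matrix.GeneralLinearGroup.mkOfDetNeZero S hdet : GL (Fin 2) K) : GL (Fin 2) K ⧸ Subgroup.center (GL (Fin 2) K)), ?_,
    commute_mk_of_anticommute _ _ (by rw [← hT1]; exact hanti1),
    commute_mk_of_anticommute _ _ (by rw [← hT2]; exact hanti2)⟩
  intro h1
  obtain ⟨c, hc⟩ := (mem_center_scalar _).1 ((QuotientGroup.eq_one_iff _).1 h1)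
  have hc' : S = c • (1 : Matrix (Fin 2) (Fin 2) K) := hc
  apply hs0
  have h00 : S 0 0 = c := by rw [hc']; simp
  have h11' : S 1 1 = c := by rw [hc']; simp
  rw [h00, h11'] at hStr
  have : c = 0 := (mul_eq_zero.1 (by linear_combination hStr : (2 : K) * c = 0)).resolve_left h2
  rw [hc', this, zero_smul]

theorem pgl_sylow_meet [Fintype K] (h2 : (2 : K) ≠ 0) (l : ℕ) (hl : 2 ≤ l)
    (hcard : Fintype.card K + 1 = 2 ^ (l + 1))
    (H : Sylow 2 (GL (Fin 2) K ⧸ Subgroup.center (GL (Fin 2) K)))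
    (x : GL (Fin 2) K ⧸ Subgroup.center (GL (Fin 2) K)) :
    (H : Subgroup (GL (Fin 2) K ⧸ Subgroup.center (GL (Fin 2) K))) ⊓ MulAut.conj x • (H : Subgroup (GL (Fin 2) K ⧸ Subgroup.center (GL (Fin 2) K))) ≠ ⊥ := by
  obtain ⟨t, δ, hnsq, hδ, hns, hH⟩ := sylow_two_eq_centralizer h2 l hl hcard H
  obtain ⟨X, rfl⟩ := QuotientGroup.mk_surjective x
  have h22 : ((X * t * X⁻¹ : GL (Fin 2) K) : Matrix (Fin 2) (Fin 2) K) * (X * t * X⁻¹ : GL (Fin 2) K) = δ • (1 : Matrix (Fin 2) (Fin 2) K) := by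
    rw [← Units.val_mul, show X * t * X⁻¹ * (X * t * X⁻¹) = X * (t * t) * X⁻¹ by group, Units.val_mul,
      Units.val_mul, Units.val_mul, hδ]
    simp
  obtain ⟨u, hu, h1, h2'⟩ := exists_common h2 t (X * t * X⁻¹) δ hnsq hδ h22 hns
  intro hbot
  apply hu
  rw [← Subgroup.mem_bot, ← hbot, Subgroup.mem_inf, Subgroup.mem_pointwise_smul_iff_inv_smul_mem, hH,
    Subgroup.mem_centralizer_singleton_iff, Subgroup.mem_centralizer_singleton_iff]
  refine ⟨h1, ?_⟩
  rw [← map_inv, MulAut.smul_def, MulAut.conj_apply, inv_inv]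
  rw [QuotientGroup.mk_mul, QuotientGroup.mk_mul, QuotientGroup.mk_inv] at h2'
  generalize (X : GL (Fin 2) K ⧸ Subgroup.center (GL (Fin 2) K)) = a at h2' ⊢
  generalize (t : GL (Fin 2) K ⧸ Subgroup.center (GL (Fin 2) K)) = z at h2' ⊢
  calc a⁻¹ * u * a * z = a⁻¹ * (u * (a * z * a⁻¹)) * a := by group
    _ = a⁻¹ * (a * z * a⁻¹ * u) * a := by rw [h2']
    _ = z * (a⁻¹ * u * a) := by group

end

/-- Let q = 2^k − 1 ≥ 7 be a prime and let G = PGL(2,q), the general linear group of degree 2 over the field with q elements modulo its centre. Then any two Sylow 2-subgroups of G have a non-trivial intersection: for a Sylow 2-subgroup H and every x ∈ G, H ∩ H^x ≠ 1. -/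
theorem result {q k : ℕ} [Fact q.Prime] (hk : q + 1 = 2 ^ k) (hq : 7 ≤ q)
    (H : Sylow 2 (GL (Fin 2) (ZMod q) ⧸ Subgroup.center (GL (Fin 2) (ZMod q))))
    (x : GL (Fin 2) (ZMod q) ⧸ Subgroup.center (GL (Fin 2) (ZMod q))) :
    (H : Subgroup (GL (Fin 2) (ZMod q) ⧸ Subgroup.center (GL (Fin 2) (ZMod q)))) ⊓ MulAut.conj x • (H : Subgroup _) ≠ ⊥ := by
  have h2 : (2 : ZMod q) ≠ 0 := by
    intro h
    have h' : ((2 : ℕ) : ZMod q) = 0 := by exact_mod_cast h
    rw [ZMod.natCast_eq_zero_iff] at h'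
    have := Nat.le_of_dvd (by norm_num) h'
    omega
  obtain ⟨l, rfl⟩ : ∃ l, k = l + 1 := by
    refine ⟨k - 1, ?_⟩
    rcases Nat.eq_zero_or_pos k with rfl | h
    · rw [pow_zero] at hk; omega
    · omega
  refine pgl_sylow_meet h2 l ?_ (by rw [ZMod.card]; exact hk) H x
  by_contra hl
  have := Nat.pow_le_pow_right (show 1 ≤ 2 by norm_num) (show l + 1 ≤ 2 by omega)
  omega

end Cfsg.Agent.S2485
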