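import Cfsg.Statements.S2486
import Cfsg.Agent.Lib.GLFlags.Bruhat
import Cfsg.Agent.Lib.LieFusion.LinearMatrix
import Cfsg.Agent.Lib.AutPSL.Root
import Mathlib

set_option autoImplicit false
open scoped Pointwise
open Cfsg

namespace Cfsg.Agent.S2486

open scoped Pointwise
open Matrix CfsgLib.GLFlags CfsgLib.LieFusion CfsgLib.AutPSL

local notation "F₂" => ZMod 2

local notation "L" n => Matrix.SpecialLinearGroup (Fin n) (ZMod 2)

theorem smul_eq_bot' {G : Type*} [Group G] (a : MulAut G) {H : Subgroup G} : a • H = ⊥ ↔ H = ⊥ :=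
  ⟨fun h => by rw [← inv_smul_smul a H, h, Subgroup.smul_bot], fun h => by rw [h, Subgroup.smul_bot]⟩

theorem eq_one_of_ne_zero : ∀ x : F₂, x ≠ 0 → x = 1 := by decide

theorem mem_uniTri_of_upper {n : ℕ} {A : L n} (hA : A.1.BlockTriangular id) : A ∈ uniTri n F₂ := by
  refine mem_uniTri.2 ⟨hA, fun i => eq_one_of_ne_zero _ fun h => ?_⟩
  have h1 := A.2
  rw [Matrix.det_of_isUpperTriangular hA, Finset.prod_eq_zero (f := fun i => A.1 i i) (Finset.mem_univ i) h] at h1
  exact zero_ne_one h1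

/-- A permutation matrix as an element of `SL`. -/
noncomputable def permSL {n : ℕ} (w : Equiv.Perm (Fin n)) : L n :=
  ⟨(permGL n F₂ w : Matrix (Fin n) (Fin n) F₂),
    eq_one_of_ne_zero _ (Matrix.GeneralLinearGroup.det (permGL n F₂ w)).ne_zero⟩

theorem exists_bruhat_SL {n : ℕ} (g : L n) :
    ∃ p ∈ uniTri n F₂, ∃ q ∈ uniTri n F₂, ∃ w : Equiv.Perm (Fin n), g = p * permSL w * q := by
  obtain ⟨p, q, w, hp, hq, hg⟩ := exists_bruhat (F := F₂) (Matrix.SpecialLinearGroup.toGL g)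
  let p' : L n := ⟨p, eq_one_of_ne_zero _ (Matrix.GeneralLinearGroup.det p).ne_zero⟩
  let q' : L n := ⟨q, eq_one_of_ne_zero _ (Matrix.GeneralLinearGroup.det q).ne_zero⟩
  refine ⟨p', mem_uniTri_of_upper hp, q', mem_uniTri_of_upper hq, w, Subtype.ext ?_⟩
  exact congrArg (fun M : GL (Fin n) F₂ => (M : Matrix (Fin n) (Fin n) F₂)) hg

theorem rev_of_inf_eq_bot {n : ℕ} (w : Equiv.Perm (Fin n))
    (h : uniTri n F₂ ⊓ MulAut.conj (permSL w) • uniTri n F₂ = ⊥) : w = Fin.revPerm := by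
  have hanti : StrictAnti w := by
    intro i j hij
    by_contra hle
    have hlt : w i < w j := lt_of_le_of_ne (not_lt.1 hle) fun h' => hij.ne (w.injective h')
    set T := SpecialLinearGroup.transvection hij.ne (1 : F₂) with hT
    set T' := SpecialLinearGroup.transvection hlt.ne (1 : F₂) with hT'
    have hconj : permSL w * T * (permSL w)⁻¹ = T' := by
      rw [mul_inv_eq_iff_eq_mul]
      refine Subtype.ext (Matrix.ext fun a b => ?_)
      rw [sl_mul, sl_mul]
      show ((permGL n F₂ w : Matrix (Fin n) (Fin n) F₂) * T.1) a b =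
        (T'.1 * (permGL n F₂ w : Matrix (Fin n) (Fin n) F₂)) a b
      rw [permGL_mul, mul_permGL, hT, hT', SpecialLinearGroup.transvection_coe,
        SpecialLinearGroup.transvection_coe]
      have h1 : ∀ c d : Fin n, (w⁻¹ a = c ∧ b = d) ↔ (a = w c ∧ w b = w d) := fun c d => by
        rw [w.injective.eq_iff]; exact and_congr_left' (Equiv.symm_apply_eq w)
      simp only [Matrix.transvection, Matrix.add_apply, Matrix.one_apply, Matrix.single_apply]
      congr 1
      · exact if_congr (Equiv.symm_apply_eq w) rfl rfl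
      · exact if_congr (by rw [eq_comm, @eq_comm _ j, eq_comm (a := w i), eq_comm (a := w j)]; exact h1 i j) rfl rfl
    have hmem : T' ∈ uniTri n F₂ ⊓ MulAut.conj (permSL w) • uniTri n F₂ :=
      ⟨transvection_mem_uniTri hlt 1, ⟨T, transvection_mem_uniTri hij 1, hconj⟩⟩
    rw [h, Subgroup.mem_bot] at hmem
    have := congrFun (congrFun (congrArg Subtype.val hmem) (w i)) (w j)
    simp [hT', SpecialLinearGroup.transvection_coe, Matrix.transvection, hlt.ne] at this
  have hmono : StrictMono (Fin.rev ∘ w) := fun i j hij => Fin.rev_lt_rev.2 (hanti hij)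
  have hid : Fin.rev ∘ w = id :=
    (hmono.range_inj strictMono_id).1 (by
      rw [Set.range_id, Set.range_eq_univ]; exact Fin.rev_surjective.comp w.surjective)
  exact Equiv.ext fun i => by
    have := congrFun hid i
    simp only [Function.comp_apply, id] at this
    rw [Fin.revPerm_apply, ← Fin.rev_rev (w i), this]

theorem sylow_opposite {n : ℕ} (P Q R : Sylow 2 (L n))
    (hQ : (P : Subgroup (L n)) ⊓ Q = ⊥) (hR : (P : Subgroup (L n)) ⊓ R = ⊥) :
    ∃ u ∈ (P : Subgroup (L n)), MulAut.conj u • (Q : Subgroup (L n)) = R := by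
  haveI : Fact (Nat.Prime 2) := ⟨Nat.prime_two⟩
  set U := uniTri n F₂
  have hUp : IsPGroup 2 U := isPGroup_uniTri (p := 2)
  obtain ⟨S, hUS⟩ := hUp.exists_le_sylow
  have hSU : (S : Subgroup (L n)) = U := by
    refine le_antisymm ?_ hUS
    by_contra hne
    have hlt : U < S := lt_of_le_not_ge hUS hne
    haveI : Group.IsNilpotent ↥(S : Subgroup (L n)) := S.isPGroup'.isNilpotent
    have h1 : U.subgroupOf S ≠ ⊤ := fun h => hne (Subgroup.subgroupOf_eq_top.1 h)
    have h2 := (Group.normalizerCondition_of_isNilpotent (G := ↥(S : Subgroup (L n)))) _ (lt_top_iff_ne_top.2 h1)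
    obtain ⟨y, hy, hy'⟩ := SetLike.exists_of_lt h2
    apply hy'
    refine Subgroup.mem_subgroupOf.2 (mem_uniTri_of_upper (upper_of_normalizes fun u hu => ?_))
    have := (Subgroup.mem_normalizer_iff''.1 hy ⟨u, hUS hu⟩).1 (Subgroup.mem_subgroupOf.2 hu)
    exact Subgroup.mem_subgroupOf.1 this
  -- reduce to `P = U`
  obtain ⟨c, hc⟩ := MulAction.exists_smul_eq (L n) S P
  have hP : (P : Subgroup (L n)) = MulAut.conj c • U := by rw [← hc, ← hSU]; rfl
  have key : ∀ Q : Sylow 2 (L n), (P : Subgroup (L n)) ⊓ Q = ⊥ →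
      ∃ p ∈ U, MulAut.conj (c * p * permSL Fin.revPerm) • U = Q := by
    intro Q hQ
    obtain ⟨g, hg⟩ := MulAction.exists_smul_eq (L n) S Q
    have hQ' : (Q : Subgroup (L n)) = MulAut.conj g • U := by rw [← hg, ← hSU]; rfl
    obtain ⟨p, hp, q, hq, w, hw⟩ := exists_bruhat_SL (c⁻¹ * g)
    have hU : ∀ z ∈ U, MulAut.conj z • U = U := fun z hz =>
      Subgroup.conj_smul_eq_self_of_mem hz
    have hg' : g = c * p * permSL w * q := by
      rw [mul_assoc (c * p), mul_assoc c, ← mul_assoc p, ← hw, mul_inv_cancel_left]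
    have hQ'' : (Q : Subgroup (L n)) = MulAut.conj (c * p) • MulAut.conj (permSL w) • U := by
      rw [hQ', hg', map_mul, mul_smul, hU q hq, map_mul, mul_smul]
    have hwrev := rev_of_inf_eq_bot w (by
      rw [hP, hQ'', map_mul, mul_smul, ← Subgroup.smul_inf, smul_eq_bot'] at hQ
      · nth_rewrite 1 [← hU p hp] at hQ
        rw [← Subgroup.smul_inf, smul_eq_bot'] at hQ
        exact hQ)
    subst hwrev
    exact ⟨p, hp, by rw [map_mul, mul_smul]; exact hQ''.symm⟩
  obtain ⟨p, hp, hpQ⟩ := key Q hQ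
  obtain ⟨p', hp', hpR⟩ := key R hR
  refine ⟨c * (p' * p⁻¹) * c⁻¹, ?_, ?_⟩
  · rw [hP]
    exact Subgroup.smul_mem_pointwise_smul (p' * p⁻¹) (MulAut.conj c) U (mul_mem hp' (inv_mem hp))
  · rw [← hpQ, ← hpR, ← mul_smul, ← map_mul]
    congr 2
    group

theorem sylow_normalizer {n : ℕ} (Q : Sylow 2 (L n)) :
    Subgroup.normalizer ((Q : Subgroup (L n)) : Set (L n)) ≤ Q := by
  haveI : Fact (Nat.Prime 2) := ⟨Nat.prime_two⟩
  obtain ⟨S, hUS⟩ := (isPGroup_uniTri (p := 2) (n := n) (F := F₂)).exists_le_sylow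
  obtain ⟨c, hc⟩ := MulAction.exists_smul_eq (L n) S Q
  have hS : (S : Subgroup (L n)) = uniTri n F₂ := by
    refine le_antisymm ?_ hUS
    by_contra hne
    haveI : Group.IsNilpotent ↥(S : Subgroup (L n)) := S.isPGroup'.isNilpotent
    have h1 : (uniTri n F₂).subgroupOf S ≠ ⊤ := fun h => hne (Subgroup.subgroupOf_eq_top.1 h)
    have h2 := (Group.normalizerCondition_of_isNilpotent (G := ↥(S : Subgroup (L n)))) _ (lt_top_iff_ne_top.2 h1)
    obtain ⟨y, hy, hy'⟩ := SetLike.exists_of_lt h2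
    apply hy'
    refine Subgroup.mem_subgroupOf.2 (mem_uniTri_of_upper (upper_of_normalizes fun u hu => ?_))
    have := (Subgroup.mem_normalizer_iff''.1 hy ⟨u, hUS hu⟩).1 (Subgroup.mem_subgroupOf.2 hu)
    exact Subgroup.mem_subgroupOf.1 this
  intro y hy
  have hQ : (Q : Subgroup (L n)) = MulAut.conj c • uniTri n F₂ := by rw [← hc, ← hS]; rfl
  have hz : c⁻¹ * y * c ∈ uniTri n F₂ := by
    refine mem_uniTri_of_upper (upper_of_normalizes fun u hu => ?_)
    have h1 : c * u * c⁻¹ ∈ (Q : Subgroup (L n)) := by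
      rw [hQ]; exact Subgroup.smul_mem_pointwise_smul u (MulAut.conj c) _ hu
    have h2 := (Subgroup.mem_normalizer_iff''.1 hy _).1 h1
    rw [hQ, Subgroup.mem_pointwise_smul_iff_inv_smul_mem, ← map_inv, MulAut.smul_def, MulAut.conj_apply] at h2
    convert h2 using 1
    group
  have := Subgroup.smul_mem_pointwise_smul _ (MulAut.conj c) _ hz
  rw [← hQ, MulAut.smul_def, MulAut.conj_apply] at this
  convert this using 1
  group


/-- Let n ≥ 4 and let G be a finite group with a normal subgroup N of index 2 isomorphic to SL(n,2) and with trivial centralizer in G (so G is the extension of the simple group L_n(2) by its inverse-transpose automorphism, its full automorphism group). Then any two Sylow 2-subgroups of G have a non-trivial intersection: for a Sylow 2-subgroup H and every x ∈ G, H ∩ H^x ≠ 1. -/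
theorem result {G : Type*} [Group G] [Finite G] {n : ℕ} (hn : 4 ≤ n) (N : Subgroup G) [N.Normal]
    (e : N ≃* Matrix.SpecialLinearGroup (Fin n) (ZMod 2)) (hidx : N.index = 2)
    (hC : Subgroup.centralizer (N : Set G) = ⊥)
    (H : Sylow 2 G) (x : G) :
    (H : Subgroup G) ⊓ MulAut.conj x • (H : Subgroup G) ≠ ⊥ := by
  classical
  haveI : Fact (Nat.Prime 2) := ⟨Nat.prime_two⟩
  intro hbot
  -- Sylow subgroups of `N` cut out by Sylow subgroups of `G`
  have hnle : ∀ K : Sylow 2 G, ¬ (K : Subgroup G) ≤ N := fun K h => by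
    have h1 := Subgroup.index_dvd_of_le h
    rw [hidx] at h1
    exact K.not_dvd_index h1
  have hsyl : ∀ K : Sylow 2 G, ∃ P : Sylow 2 (Matrix.SpecialLinearGroup (Fin n) (ZMod 2)),
      (P : Subgroup _) = ((K : Subgroup G).subgroupOf N).map e.toMonoidHom := by
    intro K
    have hp : IsPGroup 2 ↥((K : Subgroup G).subgroupOf N) :=
      K.isPGroup'.comap_of_injective N.subtype N.subtype_injective
    have hind : ¬ 2 ∣ (((K : Subgroup G).subgroupOf N).map e.toMonoidHom).index := by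
      rw [Subgroup.index_map_of_bijective (f := e.toMonoidHom) e.bijective]
      show ¬ 2 ∣ (K : Subgroup G).relIndex N
      intro h
      have h1 := Subgroup.relIndex_mul_index (inf_le_left : (K : Subgroup G) ⊓ N ≤ K)
      have h2 := Subgroup.relIndex_mul_index (inf_le_right : (K : Subgroup G) ⊓ N ≤ N)
      rw [Subgroup.inf_relIndex_left] at h1
      rw [Subgroup.inf_relIndex_right, hidx] at h2
      have h3 : N.relIndex K = 2 := by
        rcases (Nat.dvd_prime Nat.prime_two).1 (hidx ▸ Subgroup.relIndex_dvd_index_of_normal N K) with h' | h'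
        · exact absurd (Subgroup.relIndex_eq_one.1 h') (hnle K)
        · exact h'
      rw [h3, ← h2] at h1
      exact K.not_dvd_index (by
        have : (K : Subgroup G).index = (K : Subgroup G).relIndex N := by omega
        rwa [this])
    exact ⟨(hp.map e.toMonoidHom).toSylow hind, rfl⟩
  obtain ⟨P, hP⟩ := hsyl H
  obtain ⟨Q, hQ⟩ := hsyl (x • H)
  have hQH : ((x • H : Sylow 2 G) : Subgroup G) = MulAut.conj x • (H : Subgroup G) := rfl
  obtain ⟨h, hhH, hhN⟩ := SetLike.not_le_iff_exists.1 (hnle H)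
  obtain ⟨R, hR⟩ := hsyl (h • (x • H))
  have hdis : ∀ K : Sylow 2 G, (H : Subgroup G) ⊓ K = ⊥ → ∀ P' : Sylow 2 (Matrix.SpecialLinearGroup (Fin n) (ZMod 2)),
      (P' : Subgroup (Matrix.SpecialLinearGroup (Fin n) (ZMod 2))) = ((K : Subgroup G).subgroupOf N).map e.toMonoidHom →
      (P : Subgroup (Matrix.SpecialLinearGroup (Fin n) (ZMod 2))) ⊓ P' = ⊥ := by
    intro K hK P' hP'
    rw [hP, hP', ← Subgroup.map_inf _ _ _ e.injective, show (H : Subgroup G).subgroupOf N ⊓ (K : Subgroup G).subgroupOf N =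
        ((H : Subgroup G) ⊓ K).subgroupOf N from (Subgroup.comap_inf _ _ N.subtype).symm, hK,
      Subgroup.bot_subgroupOf, Subgroup.map_bot]
  have hdQ := hdis (x • H) (by rw [hQH]; exact hbot) Q hQ
  have hdR := hdis (h • (x • H)) (by
    have : ((h • (x • H) : Sylow 2 G) : Subgroup G) = MulAut.conj h • (MulAut.conj x • (H : Subgroup G)) := rfl
    rw [this]
    nth_rewrite 1 [← Subgroup.conj_smul_eq_self_of_mem hhH]
    rw [← Subgroup.smul_inf, hbot, Subgroup.smul_bot]) R hR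
  obtain ⟨u', hu', hconj⟩ := sylow_opposite P Q R hdQ hdR
  rw [hP] at hu'
  obtain ⟨u, hu, rfl⟩ := hu'
  rw [SetLike.mem_coe, Subgroup.mem_subgroupOf] at hu
  set t : G := (u : G)⁻¹ * h with ht
  have htH : t ∈ (H : Subgroup G) := mul_mem (inv_mem hu) hhH
  have htN : t ∉ N := fun h' => hhN (by
    have := mul_mem u.2 h'
    rwa [ht, mul_inv_cancel_left] at this)
  set K : Subgroup G := MulAut.conj x • (H : Subgroup G) with hK
  -- `t` normalises `K ⊓ N`
  have htK : ∀ k ∈ N, k ∈ K → t * k * t⁻¹ ∈ K := by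
    intro k hkN hk
    have h1 : h * k * h⁻¹ ∈ ((h • (x • H) : Sylow 2 G) : Subgroup G) :=
      Subgroup.smul_mem_pointwise_smul k (MulAut.conj h) K hk
    have h1N : h * k * h⁻¹ ∈ N := Subgroup.Normal.conj_mem inferInstance k hkN h
    have h2 : e ⟨_, h1N⟩ ∈ (R : Subgroup _) := by
      rw [hR]; exact ⟨⟨_, h1N⟩, Subgroup.mem_subgroupOf.2 h1, rfl⟩
    rw [← hconj, hQ] at h2
    obtain ⟨z, ⟨z', hz', rfl⟩, hz⟩ := h2
    have hz2 : u * z' * u⁻¹ = ⟨_, h1N⟩ := e.injective (by simpa [MulAut.smul_def] using hz)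
    have hz3 : (u : G) * z' * (u : G)⁻¹ = h * k * h⁻¹ := congrArg Subtype.val hz2
    have hz4 : t * k * t⁻¹ = z' := by
      rw [ht, show (u : G)⁻¹ * h * k * ((u : G)⁻¹ * h)⁻¹ = (u : G)⁻¹ * (h * k * h⁻¹) * u by group, ← hz3]
      group
    rw [hz4]
    exact Subgroup.mem_subgroupOf.1 hz'
  -- hence `t ∈ K`
  obtain ⟨k, hkK, hkN⟩ := SetLike.not_le_iff_exists.1 (hnle (x • H))
  rw [hQH] at hkK
  have hkt : k⁻¹ * t ∈ N := by
    rw [Subgroup.mul_mem_iff_of_index_two hidx, inv_mem_iff]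
    exact iff_of_false hkN htN
  have hktn : e ⟨k⁻¹ * t, hkt⟩ ∈ Subgroup.normalizer
      ((Q : Subgroup (Matrix.SpecialLinearGroup (Fin n) (ZMod 2))) : Set (Matrix.SpecialLinearGroup (Fin n) (ZMod 2))) := by
    rw [Subgroup.mem_normalizer_iff]
    have hfwd : ∀ z ∈ (Q : Subgroup (Matrix.SpecialLinearGroup (Fin n) (ZMod 2))),
        e ⟨k⁻¹ * t, hkt⟩ * z * (e ⟨k⁻¹ * t, hkt⟩)⁻¹ ∈ (Q : Subgroup _) := by
      intro z hz
      rw [hQ] at hz ⊢
      obtain ⟨z', hz', rfl⟩ := hz
      refine ⟨⟨k⁻¹ * t, hkt⟩ * z' * ⟨k⁻¹ * t, hkt⟩⁻¹, Subgroup.mem_subgroupOf.2 ?_, by simp⟩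
      show k⁻¹ * t * (z' : G) * (k⁻¹ * t)⁻¹ ∈ K
      rw [show k⁻¹ * t * (z' : G) * (k⁻¹ * t)⁻¹ = k⁻¹ * (t * z' * t⁻¹) * k by group]
      exact mul_mem (mul_mem (inv_mem hkK) (htK _ z'.2 (Subgroup.mem_subgroupOf.1 hz'))) hkK
    intro z
    have hn : e ⟨k⁻¹ * t, hkt⟩ ∈ Subgroup.normalizer
        ((Q : Subgroup (Matrix.SpecialLinearGroup (Fin n) (ZMod 2))) :
          Set (Matrix.SpecialLinearGroup (Fin n) (ZMod 2))) :=
      Subgroup.mem_normalizer_fintype hfwd
    exact ⟨hfwd z, fun hz => (Subgroup.mem_normalizer_iff.1 hn z).2 hz⟩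
  have hmem := sylow_normalizer Q hktn
  rw [hQ] at hmem
  obtain ⟨z, hz, hze⟩ := hmem
  obtain rfl : z = ⟨k⁻¹ * t, hkt⟩ := e.injective hze
  have : t ∈ K := by
    have := mul_mem hkK (Subgroup.mem_subgroupOf.1 hz : k⁻¹ * t ∈ K)
    rwa [mul_inv_cancel_left] at this
  have ht1 : t ∈ (H : Subgroup G) ⊓ K := ⟨htH, this⟩
  rw [hbot, Subgroup.mem_bot] at ht1
  exact htN (ht1 ▸ one_mem N)

end Cfsg.Agent.S2486
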