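import Cfsg.Statements.S2487
import Cfsg.Agent.Lib.SteinbergChar.OrthPlusSylow

set_option autoImplicit false
open scoped Pointwise
open Cfsg

namespace Cfsg.Agent.S2487


/-- Let m ≥ 4 and let G be the full isometry group of the hyperbolic quadratic form x₁y₁ + ⋯ + x_m y_m on the 2m-dimensional space over the field with 2 elements (the orthogonal group O⁺(2m,2), which contains Ω⁺(2m,2) with index 2). Then any two Sylow 2-subgroups of G have a non-trivial intersection: for a Sylow 2-subgroup H and every x ∈ G, H ∩ H^x ≠ 1. -/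
theorem result {F : Type*} [Field F] [Fintype F] (hF : Fintype.card F = 2) {m : ℕ} (hm : 4 ≤ m)
    (H : Sylow 2 (Cfsg.isometryGroup F (Cfsg.quadFormPlus m F)))
    (x : Cfsg.isometryGroup F (Cfsg.quadFormPlus m F)) :
    (H : Subgroup (Cfsg.isometryGroup F (Cfsg.quadFormPlus m F))) ⊓ MulAut.conj x • (H : Subgroup _) ≠ ⊥ := by
  intro hbot
  let e : (Fin m ⊕ Fin m) ≃ Fin (2 * m + 0) :=
    (Equiv.sumEmpty _ _).symm.trans (CfsgLib.SteinbergChar.OrthStd.idx m 0)
  let Q₀ := CfsgLib.SteinbergChar.OrthStd.form m 0 (0 : QuadraticForm F (Fin 0 → F))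
  have he : ∀ y, Q₀ y = Cfsg.quadFormPlus m F (y ∘ e) := fun y => by
    show CfsgLib.SteinbergChar.OrthStd.form m 0 _ y = _
    rw [CfsgLib.SteinbergChar.OrthStd.form_apply, QuadraticMap.zero_apply, add_zero]
    rfl
  obtain ⟨P, hP, hmeet⟩ := CfsgLib.SteinbergChar.OrthStd.exists_meeting_subgroup hF (m := m) (by omega)
  let f := CfsgLib.SteinbergChar.isoCongr e (Cfsg.quadFormPlus m F) ⇑Q₀ he
  let f' := CfsgLib.SteinbergChar.isoCongr e.symm ⇑Q₀ (Cfsg.quadFormPlus m F) fun y => by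
    rw [he, Function.comp_assoc, Equiv.symm_comp_self, Function.comp_id]
  let E := f.toMulEquiv f'
    (MonoidHom.ext fun g => Subtype.ext (Units.ext (Matrix.ext fun i j => by
      simp [f, f', CfsgLib.SteinbergChar.isoCongr])))
    (MonoidHom.ext fun g => Subtype.ext (Units.ext (Matrix.ext fun i j => by
      simp [f, f', CfsgLib.SteinbergChar.isoCongr])))
  obtain ⟨P₀, hP₀⟩ := (hP.map E.toMonoidHom).exists_le_sylow
  obtain ⟨a, ha⟩ := MulAction.exists_smul_eq ↥(Cfsg.isometryGroup F (Cfsg.quadFormPlus m F)) P₀ H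
  obtain ⟨g, hg⟩ := E.surjective (a⁻¹ * x * a)
  obtain ⟨t, ht, ht1, htg⟩ := hmeet g
  have h1 : E t ∈ (P₀ : Subgroup _) := hP₀ ⟨t, ht, rfl⟩
  have h2 : E (g⁻¹ * t * g) ∈ (P₀ : Subgroup _) := hP₀ ⟨_, htg, rfl⟩
  have hmem : ∀ z, z ∈ (P₀ : Subgroup _) → a * z * a⁻¹ ∈ (H : Subgroup _) := fun z hz => by
    rw [← ha]
    exact ⟨z, hz, rfl⟩
  have h3 : a * E t * a⁻¹ ∈ (H : Subgroup _) ⊓ MulAut.conj x • (H : Subgroup _) := by
    refine ⟨hmem _ h1, Subgroup.mem_pointwise_smul_iff_inv_smul_mem.mpr ?_⟩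
    have h4 := hmem _ h2
    rw [map_mul, map_mul, map_inv, hg] at h4
    rw [MulAut.smul_def, MulAut.inv_apply, MulAut.conj_symm_apply]
    convert h4 using 1
    group
  rw [hbot, Subgroup.mem_bot, conj_eq_one_iff, map_eq_one_iff E E.injective] at h3
  exact ht1 h3

end Cfsg.Agent.S2487
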