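import Cfsg.Statements.S2488
import Mathlib.GroupTheory.Sylow
import Mathlib.GroupTheory.SpecificGroups.Alternating.Centralizer
import Mathlib.GroupTheory.Perm.Cycle.Type
import Mathlib.GroupTheory.Index
import Mathlib.GroupTheory.PGroup
import Mathlib.Tactic.IntervalCases

set_option autoImplicit false
open scoped Pointwise
open Cfsg

namespace Cfsg.Agent.S2488

open Equiv in
theorem cycleType_mem (σ : Equiv.Perm (Fin 6)) (hσ : σ ∈ alternatingGroup (Fin 6)) :
    σ.cycleType = 0 ∨ σ.cycleType = {3} ∨ σ.cycleType = {3, 3} ∨ σ.cycleType = {5} ∨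
      σ.cycleType = {2, 2} ∨ σ.cycleType = {4, 2} := by
  have hs : σ.cycleType.sum ≤ 6 := by
    rw [Perm.sum_cycleType]; simpa using Finset.card_le_univ σ.support
  have he : (-1 : ℤˣ) ^ (σ.cycleType.sum + Multiset.card σ.cycleType) = 1 := by
    rw [← Perm.sign_of_cycleType]; exact Perm.mem_alternatingGroup.1 hσ
  have h2 : ∀ a ∈ σ.cycleType, 2 ≤ a := fun a => Perm.two_le_of_mem_cycleType
  generalize σ.cycleType = m at hs he h2
  have hc : Multiset.card m ≤ 3 := by
    have := Multiset.card_nsmul_le_sum h2
    simp only [smul_eq_mul] at this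
    omega
  obtain h | h | h | h : Multiset.card m = 0 ∨ Multiset.card m = 1 ∨ Multiset.card m = 2 ∨
      Multiset.card m = 3 := by omega
  · exact Or.inl (Multiset.card_eq_zero.1 h)
  · obtain ⟨a, rfl⟩ := Multiset.card_eq_one.1 h
    simp only [Multiset.mem_singleton, forall_eq] at h2
    simp only [Multiset.sum_singleton, Multiset.card_singleton] at hs he
    interval_cases a
    all_goals first
      | exact absurd he (by decide)
      | decide
  · obtain ⟨a, b, rfl⟩ := Multiset.card_eq_two.1 h
    simp only [Multiset.insert_eq_cons, Multiset.mem_cons, Multiset.mem_singleton, forall_eq_or_imp,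
      forall_eq] at h2
    obtain ⟨ha, hb⟩ := h2
    simp only [Multiset.insert_eq_cons, Multiset.sum_cons, Multiset.sum_singleton,
      Multiset.card_cons, Multiset.card_singleton] at hs he
    have hb' : b ≤ 4 := by omega
    have ha' : a ≤ 4 := by omega
    interval_cases a <;> interval_cases b
    all_goals first
      | exact absurd he (by decide)
      | omega
      | decide
  · obtain ⟨a, b, c, rfl⟩ := Multiset.card_eq_three.1 h
    simp only [Multiset.insert_eq_cons, Multiset.mem_cons, Multiset.mem_singleton, forall_eq_or_imp,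
      forall_eq] at h2
    obtain ⟨ha, hb, hcc⟩ := h2
    simp only [Multiset.insert_eq_cons, Multiset.sum_cons, Multiset.sum_singleton,
      Multiset.card_cons, Multiset.card_singleton] at hs he
    obtain ⟨rfl, rfl, rfl⟩ : a = 2 ∧ b = 2 ∧ c = 2 := by omega
    exact absurd he (by decide)

theorem count_of_orderOf :
    Nat.card {y : alternatingGroup (Fin 6) // orderOf y = 3} ≤ 80 ∧
      Nat.card {y : alternatingGroup (Fin 6) // orderOf y = 5} ≤ 144 := by
  classical
  have key : ∀ y : alternatingGroup (Fin 6), orderOf y = (y : Equiv.Perm (Fin 6)).cycleType.lcm :=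
    fun y => by rw [Equiv.Perm.lcm_cycleType, Subgroup.orderOf_coe]
  constructor <;> rw [Nat.card_eq_fintype_card, Fintype.card_subtype]
  · refine le_trans (Finset.card_le_card (t :=
      (Finset.univ.filter fun y : alternatingGroup (Fin 6) => (y : Equiv.Perm (Fin 6)).cycleType = {3}) ∪
      Finset.univ.filter fun y : alternatingGroup (Fin 6) => (y : Equiv.Perm (Fin 6)).cycleType = {3, 3}) ?_)
      (le_trans (Finset.card_union_le _ _) ?_)
    · intro y hy
      simp only [Finset.mem_filter, Finset.mem_univ, true_and, Finset.mem_union] at hy ⊢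
      rw [key] at hy
      rcases cycleType_mem y y.2 with h | h | h | h | h | h <;> rw [h] at hy ⊢ <;>
        first
          | exact Or.inl rfl
          | exact Or.inr rfl
          | exact absurd hy (by decide)
    · rw [AlternatingGroup.card_of_cycleType, AlternatingGroup.card_of_cycleType, Fintype.card_fin]
      decide
  · refine le_trans (Finset.card_le_card (t :=
      Finset.univ.filter fun y : alternatingGroup (Fin 6) => (y : Equiv.Perm (Fin 6)).cycleType = {5}) ?_) ?_
    · intro y hy
      simp only [Finset.mem_filter, Finset.mem_univ, true_and] at hy ⊢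
      rw [key] at hy
      rcases cycleType_mem y y.2 with h | h | h | h | h | h <;> rw [h] at hy ⊢ <;>
        exact absurd hy (by decide)
    · rw [AlternatingGroup.card_of_cycleType, Fintype.card_fin]
      decide

theorem centralizer_dvd (y : alternatingGroup (Fin 6)) :
    (orderOf y = 2 → Nat.card (Subgroup.centralizer ({y} : Set (alternatingGroup (Fin 6)))) ∣ 8) ∧
    (orderOf y = 3 → Nat.card (Subgroup.centralizer ({y} : Set (alternatingGroup (Fin 6)))) ∣ 18) ∧
    (orderOf y = 5 → Nat.card (Subgroup.centralizer ({y} : Set (alternatingGroup (Fin 6)))) ∣ 5) ∧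
    (Odd (orderOf y) → orderOf y = 1 ∨ orderOf y = 3 ∨ orderOf y = 5) := by
  classical
  have key : orderOf y = (y : Equiv.Perm (Fin 6)).cycleType.lcm := by
    rw [Equiv.Perm.lcm_cycleType, Subgroup.orderOf_coe]
  have hd : Nat.card (Subgroup.centralizer ({y} : Set (alternatingGroup (Fin 6)))) ∣
      Nat.card (Subgroup.centralizer ({(y : Equiv.Perm (Fin 6))} : Set (Equiv.Perm (Fin 6)))) := by
    rw [← Subgroup.card_map_of_injective (f := (alternatingGroup (Fin 6)).subtype)
      (K := Subgroup.centralizer ({y} : Set (alternatingGroup (Fin 6))))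
      (alternatingGroup (Fin 6)).subtype_injective]
    apply Subgroup.card_dvd_of_le
    rintro _ ⟨c, hc, rfl⟩
    rw [Subgroup.mem_centralizer_singleton_iff]
    exact congrArg Subtype.val (Subgroup.mem_centralizer_singleton_iff.1 hc)
  have hd2 : Nat.card (Subgroup.centralizer ({y} : Set (alternatingGroup (Fin 6)))) ∣ 360 := by
    have := Subgroup.card_subgroup_dvd_card (Subgroup.centralizer ({y} : Set (alternatingGroup (Fin 6))))
    rwa [nat_card_alternatingGroup, Nat.card_fin, show (Nat.factorial 6) / 2 = 360 from rfl] at this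
  rw [Equiv.Perm.nat_card_centralizer, Fintype.card_fin] at hd
  rw [key]
  have h8 := Nat.dvd_gcd hd hd2
  rcases cycleType_mem y y.2 with h | h | h | h | h | h <;> rw [h] at hd h8 ⊢ <;>
    refine ⟨fun h' => ?_, fun h' => ?_, fun h' => ?_, fun h' => ?_⟩ <;>
    first
      | exact absurd h' (by decide)
      | exact h8.trans (by decide)
      | exact hd.trans (by decide)
      | decide

/-- Let G be a finite group with a normal subgroup N of index 4 isomorphic to the alternating group of degree 6 and with trivial centralizer in G (so G is the full automorphism group of A₆). Then any two Sylow 2-subgroups of G have a non-trivial intersection: for a Sylow 2-subgroup H and every x ∈ G, H ∩ H^x ≠ 1. -/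
theorem result {G : Type*} [Group G] [Finite G] (N : Subgroup G) [N.Normal]
    (e : N ≃* alternatingGroup (Fin 6)) (hidx : N.index = 4)
    (hC : Subgroup.centralizer (N : Set G) = ⊥)
    (H : Sylow 2 G) (x : G) :
    (H : Subgroup G) ⊓ MulAut.conj x • (H : Subgroup G) ≠ ⊥ := by
  classical
  haveI : Fact (Nat.Prime 2) := ⟨Nat.prime_two⟩
  have hN : Nat.card N = 360 := by
    rw [Nat.card_congr e.toEquiv, nat_card_alternatingGroup, Nat.card_fin]; rfl
  have hG : Nat.card G = 1440 := by rw [← N.index_mul_card, hN, hidx]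
  -- centralisers in G of elements of N
  have hCle : ∀ v : N, Nat.card (Subgroup.centralizer ({(v : G)} : Set G)) ∣
        4 * Nat.card (Subgroup.centralizer ({e v} : Set (alternatingGroup (Fin 6)))) := by
    intro v
    set C := Subgroup.centralizer ({(v : G)} : Set G)
    have h1 : Nat.card (N.subgroupOf C) ∣
        Nat.card (Subgroup.centralizer ({e v} : Set (alternatingGroup (Fin 6)))) := by
      let φ : N.subgroupOf C →* Subgroup.centralizer ({e v} : Set (alternatingGroup (Fin 6))) :=
        MonoidHom.codRestrict (e.toMonoidHom.comp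
          { toFun := fun c : N.subgroupOf C => (⟨((c : C) : G), c.2⟩ : N)
            map_one' := rfl
            map_mul' := fun _ _ => rfl }) _ (fun c => by
          rw [Subgroup.mem_centralizer_singleton_iff]
          show e _ * e v = e v * e _
          rw [← map_mul, ← map_mul]
          exact congrArg e (Subtype.ext (Subgroup.mem_centralizer_singleton_iff.1 (c : C).2)))
      refine Subgroup.card_dvd_of_injective φ ?_
      intro a b hab
      have := e.injective (congrArg Subtype.val hab)
      exact Subtype.ext (Subtype.ext (congrArg (fun x : N => (x : G)) this))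
    rw [← (N.subgroupOf C).index_mul_card]
    refine mul_dvd_mul ?_ h1
    rw [← hidx]
    exact Subgroup.relIndex_dvd_index_of_normal _ _
  -- the Sylow subgroup
  obtain ⟨k, hk⟩ := H.2.exists_card_eq
  have hk32 : Nat.card (H : Subgroup G) = 32 := by
    have h1 := (H : Subgroup G).index_mul_card
    have h2 := H.not_dvd_index
    rw [hk, hG] at h1
    have : k ≤ 11 := by
      by_contra hc
      have := Nat.le_of_dvd (by norm_num) (Dvd.intro_left _ h1 : 2 ^ k ∣ 1440)
      have := Nat.pow_le_pow_right (show 1 ≤ 2 by norm_num) (show 11 ≤ k by omega)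
      omega
    interval_cases k <;> norm_num at * <;> omega
  have hz : ∃ z : N, orderOf z = 2 ∧ Subgroup.centralizer ({(z : G)} : Set G) = H := by
    set M := N.subgroupOf (H : Subgroup G)
    have hM : 2 ∣ Nat.card M := by
      have h1 := M.index_mul_card
      have h2 : M.index ∣ 4 := hidx ▸ Subgroup.relIndex_dvd_index_of_normal _ _
      rw [hk32] at h1
      have : 2 * M.index ∣ M.index * Nat.card M := by
        rw [h1]; exact (Nat.mul_dvd_mul_left 2 h2).trans (by norm_num)
      rw [mul_comm] at this
      exact Nat.dvd_of_mul_dvd_mul_left (Nat.pos_of_ne_zero M.index_ne_zero_of_finite) this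
    have hHp : IsPGroup 2 (ConjAct (H : Subgroup G)) := H.2.of_equiv ConjAct.toConjAct
    obtain ⟨z₀, hz₀f, hz₀⟩ := hHp.exists_fixed_point_of_prime_dvd_card_of_fixed_point M hM
      (a := (1 : M)) (fun g => smul_one g)
    have hne : z₀ ≠ 1 := fun h => hz₀ h.symm
    obtain ⟨j, hj⟩ := (H.2.to_subgroup M).exists_card_eq
    have hev : 2 ∣ orderOf z₀ := by
      obtain ⟨i, -, hi⟩ := (Nat.dvd_prime_pow Nat.prime_two).1 (hj ▸ orderOf_dvd_natCard z₀)
      rw [hi]
      refine dvd_pow_self 2 ?_
      rintro rfl
      rw [pow_zero, orderOf_eq_one_iff] at hi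
      exact hne hi
    set z₁ := z₀ ^ (orderOf z₀ / 2) with hz1
    have hz₁2 : orderOf z₁ = 2 := orderOf_pow_orderOf_div (orderOf_pos z₀).ne' hev
    have hz₁c : ∀ h : (H : Subgroup G), (h : G) * ((z₁ : (H : Subgroup G)) : G) = ((z₁ : (H : Subgroup G)) : G) * h := by
      intro h
      have h0 := congrArg (fun m : M => (m : (H : Subgroup G))) (hz₀f (ConjAct.toConjAct h))
      simp only [ConjAct.Subgroup.val_conj_smul, ConjAct.smul_def, ConjAct.ofConjAct_toConjAct] at h0
      have h0' : Commute h (z₀ : (H : Subgroup G)) := mul_inv_eq_iff_eq_mul.1 h0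
      have := (h0'.pow_right (orderOf z₀ / 2)).eq
      rw [← SubmonoidClass.coe_pow, ← hz1] at this
      exact congrArg Subtype.val this
    let z : N := ⟨((z₁ : (H : Subgroup G)) : G), z₁.2⟩
    have hzord : orderOf z = 2 := by
      rw [← Subgroup.orderOf_coe, show (z : G) = ((z₁ : (H : Subgroup G)) : G) from rfl,
        Subgroup.orderOf_coe, Subgroup.orderOf_coe, hz₁2]
    refine ⟨z, hzord, ?_⟩
    have hle : (H : Subgroup G) ≤ Subgroup.centralizer ({(z : G)} : Set G) := fun h hh =>
      Subgroup.mem_centralizer_singleton_iff.2 (hz₁c ⟨h, hh⟩)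
    refine (Subgroup.eq_of_le_of_card_ge hle ?_).symm
    rw [hk32]
    refine Nat.le_of_dvd (by norm_num) ((hCle z).trans ?_)
    rw [show 32 = 4 * 8 from rfl]
    exact mul_dvd_mul_left 4 ((centralizer_dvd (e z)).1 (by rw [MulEquiv.orderOf_eq, hzord]))
  obtain ⟨z, hz2, hzH⟩ := hz
  let w : N := ⟨x * z * x⁻¹, (inferInstance : N.Normal).conj_mem _ z.2 x⟩
  have hzz : z * z = 1 := by rw [← sq, ← hz2, pow_orderOf_eq_one]
  have hww : w * w = 1 := by
    apply Subtype.ext
    show x * z * x⁻¹ * (x * z * x⁻¹) = 1
    calc x * (z : G) * x⁻¹ * (x * z * x⁻¹) = x * ((z * z : N) : G) * x⁻¹ := by push_cast; group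
      _ = 1 := by rw [hzz]; simp
  intro hbot
  suffices ∃ u : G, u ≠ 1 ∧ u * z = z * u ∧ u * w = w * u by
    obtain ⟨u, hu1, huz, huw⟩ := this
    apply hu1
    rw [← Subgroup.mem_bot, ← hbot, Subgroup.mem_inf, Subgroup.mem_pointwise_smul_iff_inv_smul_mem,
      ← hzH, Subgroup.mem_centralizer_singleton_iff, Subgroup.mem_centralizer_singleton_iff]
    refine ⟨huz, ?_⟩
    rw [← map_inv, MulAut.smul_def, MulAut.conj_apply, inv_inv]
    have huw' : u * (x * z * x⁻¹) = x * z * x⁻¹ * u := huw
    calc x⁻¹ * u * x * z = x⁻¹ * (u * (x * z * x⁻¹)) * x := by group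
      _ = x⁻¹ * (x * z * x⁻¹ * u) * x := by rw [huw']
      _ = z * (x⁻¹ * u * x) := by group
  set v : N := z * w with hvdef
  have hzinv : z⁻¹ = z := inv_eq_of_mul_eq_one_right hzz
  have hw' : w = z * v := by rw [hvdef, ← mul_assoc, hzz, one_mul]
  have hinv : z * v * z⁻¹ = v⁻¹ := by
    rw [hvdef, mul_inv_rev, inv_eq_of_mul_eq_one_right hww, hzinv, ← mul_assoc z z w, hzz, one_mul]
  have finish' : ∀ u : G, u * z = z * u → u * v = v * u → u * w = w * u := fun u h1 h2 => by
    rw [hw', Subgroup.coe_mul, ← mul_assoc, h1, mul_assoc, h2, mul_assoc]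
  have hord := (centralizer_dvd (e v)).2.2.2
  rcases Nat.even_or_odd (orderOf v) with hev | hodd
  · obtain ⟨j, hj⟩ := hev
    have hjpos : 0 < j := by have := orderOf_pos v; omega
    have hne : v ^ j ≠ 1 := pow_ne_one_of_lt_orderOf (by omega) (by omega)
    have hsq : v ^ j * v ^ j = 1 := by rw [← pow_add, ← hj, pow_orderOf_eq_one]
    have hcz : v ^ j * z = z * v ^ j := by
      have h := congrArg (· ^ j) hinv
      simp only [conj_pow, inv_pow, inv_eq_of_mul_eq_one_right hsq] at h
      exact (mul_inv_eq_iff_eq_mul.1 h).symm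
    refine ⟨((v ^ j : N) : G), fun h => hne (Subtype.ext h), congrArg Subtype.val hcz, finish' _
      (congrArg Subtype.val hcz) (congrArg Subtype.val ((Commute.self_pow v j).symm.eq))⟩
  · rw [MulEquiv.orderOf_eq] at hord
    by_cases hv1 : v = 1
    · exact ⟨z, fun h => by simp [Subtype.ext h (a1 := z) (a2 := 1)] at hz2, rfl,
        finish' _ rfl (by simp [hv1])⟩
    have hor : orderOf v = 3 ∨ orderOf v = 5 :=
      (hord hodd).resolve_left (fun h => hv1 (orderOf_eq_one_iff.1 h))
    set C := Subgroup.centralizer ({(v : G)} : Set G)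
    have heven : 2 ∣ Nat.card C := by
      by_contra hcon
      have hco : Nat.Coprime (Nat.card C) 4 :=
        (((Nat.prime_two.coprime_iff_not_dvd).2 hcon).pow_left 2).symm
      have hCd := hco.dvd_of_dvd_mul_left (hCle v)
      have hidxle : C.index ≤ Nat.card {y : alternatingGroup (Fin 6) // orderOf y = orderOf v} := by
        let f : G ⧸ C → {y : alternatingGroup (Fin 6) // orderOf y = orderOf v} :=
          fun q => Quotient.liftOn' q (fun g => ⟨e ⟨g * v * g⁻¹, (inferInstance : N.Normal).conj_mem _ v.2 g⟩, by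
            rw [MulEquiv.orderOf_eq, ← Subgroup.orderOf_coe, ← Subgroup.orderOf_coe v]
            exact orderOf_injective (MulAut.conj g).toMonoidHom (MulAut.conj g).injective (v : G)⟩) (by
            intro a b hab
            rw [QuotientGroup.leftRel_apply, Subgroup.mem_centralizer_singleton_iff] at hab
            refine Subtype.ext (congrArg e (Subtype.ext ?_))
            show a * v * a⁻¹ = b * v * b⁻¹
            calc a * (v : G) * a⁻¹ = a * ((v : G) * (a⁻¹ * b)) * b⁻¹ := by group
              _ = a * (a⁻¹ * b * v) * b⁻¹ := by rw [hab]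
              _ = b * v * b⁻¹ := by group)
        refine Nat.card_le_card_of_injective f ?_
        intro p q hpq
        induction p using QuotientGroup.induction_on with | _ a => ?_
        induction q using QuotientGroup.induction_on with | _ b => ?_
        have h := congrArg (fun y : N => (y : G)) (e.injective (congrArg Subtype.val hpq))
        change a * (v : G) * a⁻¹ = b * v * b⁻¹ at h
        rw [QuotientGroup.eq, Subgroup.mem_centralizer_singleton_iff]
        calc a⁻¹ * b * v = a⁻¹ * (b * v * b⁻¹) * b := by group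
          _ = a⁻¹ * (a * v * a⁻¹) * b := by rw [h]
          _ = v * (a⁻¹ * b) := by group
      have h1 := C.index_mul_card
      rw [hG] at h1
      rcases hor with h3 | h5
      · rw [h3] at hidxle
        have hd := hCd.trans ((centralizer_dvd (e v)).2.1 (by rw [MulEquiv.orderOf_eq, h3]))
        have h9 : Nat.card C ≤ 9 := Nat.le_of_dvd (by norm_num) (by
          refine Nat.Coprime.dvd_of_dvd_mul_left ?_ (show Nat.card C ∣ 2 * 9 from hd)
          exact ((Nat.prime_two.coprime_iff_not_dvd).2 hcon).symm)
        have := Nat.mul_le_mul (hidxle.trans count_of_orderOf.1) h9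
        omega
      · rw [h5] at hidxle
        have hd := Nat.le_of_dvd (by norm_num)
          (hCd.trans ((centralizer_dvd (e v)).2.2.1 (by rw [MulEquiv.orderOf_eq, h5])))
        have := Nat.mul_le_mul (hidxle.trans count_of_orderOf.2) hd
        omega
    have hconj : ∀ c ∈ C, (z : G) * c * z⁻¹ ∈ C := by
      intro c hc
      rw [Subgroup.mem_centralizer_singleton_iff] at hc ⊢
      have h' : (z : G) * v * z⁻¹ = (v : G)⁻¹ := congrArg Subtype.val hinv
      have h1 : Commute ((z : G) * c * z⁻¹) ((z : G) * v * z⁻¹) :=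
        Commute.map (show Commute c (v : G) from hc) (MulAut.conj (z : G)).toMonoidHom
      rw [h'] at h1
      exact (Commute.inv_right_iff.1 h1).eq
    let σ : Equiv.Perm C := Function.Involutive.toPerm (fun c => ⟨z * c * z⁻¹, hconj c c.2⟩) (fun c => by
      apply Subtype.ext
      show (z : G) * (z * c * z⁻¹) * z⁻¹ = c
      have hzz' : (z : G) * z = 1 := congrArg Subtype.val hzz
      rw [hzinv, ← mul_assoc, ← mul_assoc, hzz', one_mul, mul_assoc, hzz', mul_one])
    have hσ : σ ^ 2 ^ 1 = 1 := by
      rw [pow_one, sq]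
      exact Equiv.ext fun c => Equiv.apply_eq_iff_eq_symm_apply σ |>.2 rfl
    haveI := Fintype.ofFinite C
    obtain ⟨u, hu, hu1⟩ := Equiv.Perm.exists_fixed_point_of_prime' (p := 2)
      (by rwa [Nat.card_eq_fintype_card] at heven) hσ (a := (1 : C))
      (Subtype.ext (by show (z : G) * 1 * (z : G)⁻¹ = 1; rw [mul_one, mul_inv_cancel]))
    have hu' : (z : G) * u * z⁻¹ = u := congrArg Subtype.val hu
    have huz : (u : G) * z = z * u := (mul_inv_eq_iff_eq_mul.1 hu').symm
    exact ⟨u, fun h => hu1 (Subtype.ext h), huz,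
      finish' _ huz (Subgroup.mem_centralizer_singleton_iff.1 u.2)⟩

end Cfsg.Agent.S2488
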