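import Cfsg.Statements.S2490
import Cfsg.Agent.Lib.PrimeGraph.Order7920

set_option autoImplicit false
open Cfsg

namespace Cfsg.Agent.S2490


/-- Let G be a finite group of order 7920 = 2⁴·3²·5·11 (the order of the smallest Mathieu group) and suppose its prime graph (vertices the prime divisors of the order, distinct p, q joined when there is an element of order pq) is disconnected: the prime divisors split into two non-empty parts with no element of order pq for p in one part and q in the other. Then G is simple. -/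
theorem result {G : Type*} [Group G] [Finite G] (hord : Nat.card G = 7920)
    (hdisc : (∃ A : Set ℕ, (∃ a ∈ A, a.Prime ∧ a ∣ Nat.card G) ∧ (∃ b ∉ A, b.Prime ∧ b ∣ Nat.card G) ∧
      ∀ a ∈ A, ∀ b ∉ A, a.Prime → b.Prime → a ∣ Nat.card G → b ∣ Nat.card G → ¬ ∃ g : G, orderOf g = a * b)) :
    IsSimpleGroup G := by
  obtain ⟨A, ⟨a, haA, ha, had⟩, ⟨b, hbA, hb, hbd⟩, hsep⟩ := hdisc
  refine CfsgLib.PrimeGraph.Order7920.isSimple (G := G) ⟨hord, A, fun h => ?_, fun r s hr hs hrd hsd g hg => ?_⟩
  · obtain ⟨h3, h5, h11⟩ := h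
    have hall : ∀ r : ℕ, r.Prime → r ∣ 7920 → (r ∈ A ↔ 2 ∈ A) := fun r hr hd => by
      rcases CfsgLib.PrimeGraph.Order7920.prime_cases hr hd with rfl | rfl | rfl | rfl
      · rfl
      · exact h3.symm
      · exact h5.symm
      · exact h11.symm
    exact hbA ((hall b hb (hord ▸ hbd)).mpr ((hall a ha (hord ▸ had)).mp haA))
  · constructor
    · intro h
      by_contra hs'
      exact hsep r h s hs' hr hs hrd hsd ⟨g, hg⟩
    · intro h
      by_contra hr'
      exact hsep s h r hr' hs hr hsd hrd ⟨g, by rw [hg, mul_comm]⟩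

end Cfsg.Agent.S2490
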