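import Cfsg.Statements.S2493
import Cfsg.Agent.Lib.AltCoverComm.Lifts

set_option autoImplicit false
open Cfsg

namespace Cfsg.Agent.S2493


/-- Let n ≥ 5 and let G be a finite perfect group whose centre has order 2 with G/Z(G) isomorphic to the alternating group of degree n (the double cover of the alternating group). Then every element of G is a commutator. -/
theorem result {G : Type*} [Group G] [Finite G] (hperf : commutator G = ⊤) {n : ℕ} (hn : 5 ≤ n)
    (hZ : Nat.card (Subgroup.center G) = 2) (e : G ⧸ Subgroup.center G ≃* alternatingGroup (Fin n))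
    (g : G) :
    ∃ a b : G, a * b * a⁻¹ * b⁻¹ = g := by
  refine CfsgLib.AltCoverComm.exists_commutator_eq hn
    ((alternatingGroup (Fin n)).subtype.comp (e.toMonoidHom.comp (QuotientGroup.mk' (Subgroup.center G))))
    ?_ ?_ hZ hperf g
  · ext x
    constructor
    · rintro ⟨y, rfl⟩
      exact (e (QuotientGroup.mk y)).2
    · intro hx
      obtain ⟨y, hy⟩ := QuotientGroup.mk_surjective (e.symm ⟨x, hx⟩)
      refine ⟨y, ?_⟩
      show ((e (QuotientGroup.mk y) : alternatingGroup (Fin n)) : Equiv.Perm (Fin n)) = x
      rw [hy, MulEquiv.apply_symm_apply]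
  · ext x
    rw [MonoidHom.mem_ker]
    show ((e (QuotientGroup.mk x) : alternatingGroup (Fin n)) : Equiv.Perm (Fin n)) = 1 ↔ _
    rw [← QuotientGroup.eq_one_iff (N := Subgroup.center G) x]
    constructor
    · intro h
      exact e.injective ((Subtype.ext h).trans e.map_one.symm)
    · intro h
      rw [h, map_one, Subgroup.coe_one]

end Cfsg.Agent.S2493
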