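import Cfsg.Statements.S2495
import Cfsg.Agent.Lib.Spectrum.PrimitiveOrder
import Cfsg.Agent.Lib.Zsigmondy.Basic

set_option autoImplicit false
open Cfsg

namespace Cfsg.Agent.S2495

open CfsgLib.Spectrum Polynomial

theorem geomExp_two_mul {q : ℕ} (hq : 2 ≤ q) (m : ℕ) :
    geomExp q (2 * m) = (q ^ m + 1) * geomExp q m := by
  apply Nat.eq_of_mul_eq_mul_left (show 0 < q - 1 by omega)
  rw [sub_one_mul_geomExp (by omega), mul_left_comm, sub_one_mul_geomExp (by omega), mul_comm 2 m,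
    pow_mul, sub_one_mul_add_one (Nat.one_le_pow _ _ (by omega)), mul_comm]

theorem dvd_singerExp_iff {q m : ℕ} (hq : 2 ≤ q) (hm : m ≠ 0) :
    q ^ m + 1 ∣ singerExp q (2 * m) ↔ padicValNat 2 (q - 1) < padicValNat 2 (2 * m) := by
  rw [← gcd_two_mul_dvd_iff hm (by omega : q - 1 ≠ 0)]
  have hG : Nat.gcd (2 * m) (q - 1) ∣ geomExp q (2 * m) := by
    rw [← gcd_geomExp (by omega : 1 ≤ q) (2 * m)]; exact Nat.gcd_dvd_left _ _
  have hG' : Nat.gcd (2 * m) (q - 1) ∣ geomExp q m ↔ Nat.gcd (2 * m) (q - 1) ∣ m := by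
    constructor
    · intro h
      have h1 := Nat.dvd_gcd h (Nat.gcd_dvd_right (2 * m) (q - 1))
      rw [gcd_geomExp (by omega : 1 ≤ q)] at h1
      exact h1.trans (Nat.gcd_dvd_left _ _)
    · intro h
      have h1 := Nat.dvd_gcd h (Nat.gcd_dvd_right (2 * m) (q - 1))
      exact (h1.trans (gcd_geomExp (by omega : 1 ≤ q) m).symm.dvd).trans (Nat.gcd_dvd_left _ _)
  rw [← hG', singerExp, Nat.dvd_div_iff_mul_dvd hG, geomExp_two_mul hq, mul_comm _ (q ^ m + 1),
    Nat.mul_dvd_mul_iff_left (by positivity)]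


/-- Let q be an odd prime power, n ≥ 4 even, and L = PSL(n,q). Then L has an element of order q^(n/2) + 1 if and only if the 2-part of n exceeds the 2-part of q − 1. -/
theorem result {F : Type*} [Field F] [Fintype F] {q : ℕ} (hF : Fintype.card F = q) (hodd : Odd q)
    {n : ℕ} (hn : 4 ≤ n) (heven : Even n) :
    (∃ g : Matrix.ProjectiveSpecialLinearGroup (Fin n) F, orderOf g = q ^ (n / 2) + 1) ↔
      padicValNat 2 (q - 1) < padicValNat 2 n := by
  classical
  obtain ⟨m, rfl⟩ : ∃ m, n = 2 * m := heven.two_dvd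
  rw [Nat.mul_div_cancel_left m (by norm_num)]
  obtain ⟨p, hp⟩ := CharP.exists F
  obtain ⟨c, hprime, hcard⟩ := FiniteField.card F p
  haveI := Fact.mk hprime
  haveI : NeZero (2 * m) := ⟨by omega⟩
  have hq2 : 2 ≤ q := hF ▸ Fintype.one_lt_card
  rw [← dvd_singerExp_iff hq2 (show m ≠ 0 by omega)]
  constructor
  · rintro ⟨g, hg⟩
    obtain ⟨M₀, rfl⟩ := QuotientGroup.mk_surjective g
    obtain ⟨ℓ, hℓ, hℓd, hℓmin⟩ := CfsgLib.Zsigmondy.exists_primitive_prime_divisor (a := q)
      (n := 2 * m) (by omega) (by omega) (fun h => by rw [h.1] at hodd; exact absurd hodd (by decide))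
      (fun h => by omega)
    have hℓN : ℓ ∣ q ^ m + 1 := by
      rw [mul_comm, pow_mul, sub_one_mul_add_one (Nat.one_le_pow _ _ (by omega))] at hℓd
      exact (hℓ.dvd_mul.1 hℓd).resolve_left (hℓmin m (by omega) (by omega))
    have hℓp : ℓ ≠ p := by
      rintro rfl
      have h : ℓ ∣ q ^ m := dvd_pow (hF ▸ hcard ▸ dvd_pow_self ℓ c.ne_zero) (by omega)
      exact hℓ.not_dvd_one ((Nat.dvd_add_right h).1 hℓN)
    set M := (M₀ : Matrix (Fin (2 * m)) (Fin (2 * m)) F) with hM
    have hw : 1 ≤ orderOf M₀ := orderOf_pos M₀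
    have hMw : M ^ orderOf M₀ = 1 := by
      rw [hM, ← Matrix.SpecialLinearGroup.coe_pow, pow_orderOf_eq_one, Matrix.SpecialLinearGroup.coe_one]
    have hdvd : ∀ L, (∃ s : F, M ^ L = Matrix.scalar (Fin (2 * m)) s) → q ^ m + 1 ∣ L := fun L hL => by
      rw [← hg, orderOf_dvd_iff_pow_eq_one]
      exact (pslMk_pow_eq_one_iff M₀ L).2 hL
    obtain ⟨f, hff, hfm, hfd, -, hℓα⟩ := exists_factor_of_prime_dvd p M hw hMw hℓ hℓp
      (fun L hL => hℓN.trans (hdvd L ⟨1, by rw [hL, map_one]⟩))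
    have hfi : Irreducible f := Fact.out
    obtain ⟨hdn, hd1, hα0, hαd⟩ := root_pow_eq_one M₀ f hfd
    rw [hF] at hαd
    have hd : f.natDegree = 2 * m := by
      refine le_antisymm hdn ?_
      by_contra hlt
      exact hℓmin f.natDegree (by omega) (by omega) (hℓα.trans (orderOf_dvd_of_pow_eq_one hαd))
    have hcp : M.charpoly = f :=
      (eq_of_monic_of_dvd_of_natDegree_le hfm (Matrix.charpoly_monic M)
        (hfd.trans (Matrix.minpoly_dvd_charpoly M))
        (by rw [Matrix.charpoly_natDegree_eq_dim, Fintype.card_fin, hd]))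
    haveI : Module.Finite F (AdjoinRoot f) := (AdjoinRoot.powerBasis hfi.ne_zero).finite
    haveI : Finite (AdjoinRoot f) := Module.finite_of_finite F
    have hN : Algebra.norm F (AdjoinRoot.root f) = 1 := by
      have := Algebra.PowerBasis.norm_gen_eq_coeff_zero_minpoly (AdjoinRoot.powerBasis hfi.ne_zero)
      rw [AdjoinRoot.powerBasis_gen, AdjoinRoot.powerBasis_dim, AdjoinRoot.minpoly_root hfi.ne_zero,
        hfm.leadingCoeff, inv_one, C_1, mul_one] at this
      have h := Matrix.det_eq_sign_charpoly_coeff M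
      rw [hM, M₀.2, ← hM, Fintype.card_fin, hcp] at h
      rw [this, hd, ← h]
    have hG : AdjoinRoot.root f ^ geomExp q (2 * m) = 1 := by
      have := congrArg (algebraMap F (AdjoinRoot f)) hN
      rwa [FiniteField.algebraMap_norm_eq_pow_sum, map_one, (AdjoinRoot.powerBasis hfi.ne_zero).finrank,
        AdjoinRoot.powerBasis_dim, hd, Nat.card_eq_fintype_card, hF] at this
    have hdiv : geomExp q (2 * m) ∣ singerExp q (2 * m) * (q - 1) := by
      have hb : Nat.gcd (2 * m) (q - 1) ∣ geomExp q (2 * m) := by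
        rw [← gcd_geomExp (by omega : 1 ≤ q)]; exact Nat.gcd_dvd_left _ _
      rw [singerExp]
      nth_rewrite 1 [← Nat.div_mul_cancel hb]
      exact Nat.mul_dvd_mul_left _ (Nat.gcd_dvd_right _ _)
    obtain ⟨s, hs⟩ := exists_algebraMap_eq_of_pow_card (F := F)
      (AdjoinRoot.root f ^ singerExp q (2 * m)) (by
        rw [hF, show q = q - 1 + 1 by omega, pow_succ, ← pow_mul, show q - 1 + 1 = q by omega,
          orderOf_dvd_iff_pow_eq_one.1 ((orderOf_dvd_of_pow_eq_one hG).trans hdiv), one_mul])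
    refine hdvd _ ⟨s, ?_⟩
    obtain ⟨b, hb⟩ : f ∣ X ^ singerExp q (2 * m) - C s := by
      rw [← AdjoinRoot.mk_eq_zero, map_sub, map_pow, AdjoinRoot.mk_X, AdjoinRoot.mk_C,
        ← AdjoinRoot.algebraMap_eq, hs, sub_self]
    have h := congrArg (aeval M) hb
    rw [map_mul, ← hcp, Matrix.aeval_self_charpoly, zero_mul] at h
    simp only [map_sub, map_pow, aeval_X, aeval_C, sub_eq_zero] at h
    exact h
  · intro h
    obtain ⟨g₀, hg₀⟩ := exists_orderOf_eq_singerExp (F := F) (n := 2 * m) (by omega)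
    exact exists_orderOf_eq_of_dvd_orderOf g₀ (by rw [hg₀, hF]; exact h)

end Cfsg.Agent.S2495
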