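import Cfsg.Statements.S2496
import Cfsg.Agent.Lib.Spectrum.PrimitiveOrder
import Cfsg.Agent.Lib.Zsigmondy.Basic

set_option autoImplicit false
open Cfsg

namespace Cfsg.Agent.S2496

open CfsgLib.Spectrum Polynomial

theorem altExp_two_mul {q : ℕ} (hq : 1 ≤ q) (m : ℕ) :
    altExp q (2 * m) = altExp q m * (if Even m then q ^ m + 1 else q ^ m - 1) := by
  apply Nat.eq_of_mul_eq_mul_left (show 0 < q + 1 by omega)
  rw [add_one_mul_altExp_even hq (even_two_mul m), ← mul_assoc, mul_comm 2 m, pow_mul,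
    sub_one_mul_add_one (Nat.one_le_pow _ _ hq)]
  rcases Nat.even_or_odd m with h | h
  · rw [if_pos h, add_one_mul_altExp_even hq h]
  · rw [if_neg (Nat.not_even_iff_odd.2 h), add_one_mul_altExp_odd hq h, mul_comm]

theorem dvd_singerExpU_iff {q m : ℕ} (hq : 2 ≤ q) (hm : m ≠ 0) :
    (if Even m then q ^ m + 1 else q ^ m - 1) ∣ singerExpU q (2 * m) ↔
      padicValNat 2 (q + 1) < padicValNat 2 (2 * m) := by
  rw [← gcd_two_mul_dvd_iff hm (by omega : q + 1 ≠ 0),
    ← dvd_altExp_iff (show 1 ≤ q by omega) (Nat.gcd_dvd_right (2 * m) (q + 1)) m]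
  have hG : Nat.gcd (2 * m) (q + 1) ∣ altExp q (2 * m) := by
    rw [← gcd_altExp (show 1 ≤ q by omega)]; exact Nat.gcd_dvd_left _ _
  have h2 : 1 < q ^ m := Nat.one_lt_pow hm (by omega)
  rw [singerExpU, Nat.dvd_div_iff_mul_dvd hG, altExp_two_mul (by omega),
    Nat.mul_dvd_mul_iff_right (by split_ifs <;> omega)]


/-- Let q be an odd prime power, n ≥ 4 even, and U = PSU(n,q) (realised over the field with q² elements). Then U has an element of order q^(n/2) + (−1)^(n/2) — that is, q^(n/2) + 1 when n/2 is even and q^(n/2) − 1 when n/2 is odd — if and only if the 2-part of n exceeds the 2-part of q + 1. -/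
theorem result {F : Type*} [Field F] [Fintype F] {q : ℕ} (hF : Fintype.card F = q ^ 2) (hodd : Odd q)
    {n : ℕ} (hn : 4 ≤ n) (heven : Even n) :
    (∃ g : Cfsg.PSU n F q, orderOf g = if Even (n / 2) then q ^ (n / 2) + 1 else q ^ (n / 2) - 1) ↔
      padicValNat 2 (q + 1) < padicValNat 2 n := by
  classical
  obtain ⟨m, rfl⟩ : ∃ m, n = 2 * m := heven.two_dvd
  rw [Nat.mul_div_cancel_left m (by norm_num)]
  have hq2 : 2 ≤ q := CfsgLib.Classical.Herm.two_le_of_card hF
  obtain ⟨p, hp⟩ := CharP.exists F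
  obtain ⟨c, hprime, hcard⟩ := FiniteField.card F p
  obtain ⟨l, -, rfl⟩ : ∃ l ≤ (c : ℕ), q = p ^ l :=
    (Nat.dvd_prime_pow hprime).1 (hcard ▸ hF ▸ dvd_pow_self q (by norm_num))
  haveI := Fact.mk hprime
  haveI : NeZero (2 * m) := ⟨by omega⟩
  rw [← dvd_singerExpU_iff hq2 (show m ≠ 0 by omega)]
  constructor
  · set q := p ^ l with hq
    set N := if Even m then q ^ m + 1 else q ^ m - 1 with hNdef
    rintro ⟨g, hg⟩
    obtain ⟨M₀, rfl⟩ := QuotientGroup.mk_surjective g
    have he := pow_sq_card p l hF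
    -- a primitive prime divisor of N
    obtain ⟨k, ℓ, hk, hℓ, hℓd, hℓmin, hℓN⟩ : ∃ k ℓ : ℕ, ((Even m ∧ k = 2 * m) ∨ (Odd m ∧ k = m)) ∧
        ℓ.Prime ∧ ℓ ∣ q ^ k - 1 ∧ (∀ i : ℕ, 0 < i → i < k → ¬ ℓ ∣ q ^ i - 1) ∧ ℓ ∣ N := by
      rcases Nat.even_or_odd m with hme | hmo
      · obtain ⟨ℓ, h1, h2, h3⟩ := CfsgLib.Zsigmondy.exists_primitive_prime_divisor (a := q)
          (n := 2 * m) (by omega) (by omega) (fun h => by rw [h.1] at hodd; exact absurd hodd (by decide))
          (fun h => by omega)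
        refine ⟨2 * m, ℓ, Or.inl ⟨hme, rfl⟩, h1, h2, h3, ?_⟩
        rw [hNdef, if_pos hme]
        rw [mul_comm, pow_mul, sub_one_mul_add_one (Nat.one_le_pow _ _ (by omega))] at h2
        exact (h1.dvd_mul.1 h2).resolve_left (h3 m (by omega) (by omega))
      · have hm3 : 3 ≤ m := by obtain ⟨r, rfl⟩ := hmo; omega
        obtain ⟨ℓ, h1, h2, h3⟩ := CfsgLib.Zsigmondy.exists_primitive_prime_divisor (a := q)
          (n := m) (by omega) (by omega) (fun h => by rw [h.1] at hodd; exact absurd hodd (by decide))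
          (fun h => by omega)
        exact ⟨m, ℓ, Or.inr ⟨hmo, rfl⟩, h1, h2, h3, by
          rw [hNdef, if_neg (Nat.not_even_iff_odd.2 hmo)]; exact h2⟩
    haveI := Fact.mk hℓ
    have hk1 : 2 ≤ k := by rcases hk with ⟨-, rfl⟩ | ⟨h, rfl⟩ <;> omega
    have hℓp : ℓ ≠ p := by
      rintro rfl
      rcases eq_or_ne l 0 with rfl | hl0
      · simp [hq] at hq2
      · have h1 : ℓ ∣ q ^ k := dvd_pow (dvd_pow_self ℓ hl0) (by omega)
        have := Nat.dvd_sub h1 hℓd
        rw [Nat.sub_sub_self (Nat.one_le_pow _ _ (by omega))] at this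
        exact hℓ.not_dvd_one this
    have hℓ2 : ℓ ≠ 2 := by
      rintro rfl
      refine hℓmin 1 one_pos (by omega) ?_
      rw [pow_one]
      obtain ⟨r, hr⟩ := hodd
      exact ⟨r, by omega⟩
    have hord : ∀ i, ℓ ∣ q ^ i - 1 → k ∣ i := fun i hi => by
      rw [← (CfsgLib.Zsigmondy.dvd_sub_one_of_primitive (by omega) (by omega) hℓd hℓmin).1,
        orderOf_dvd_iff_pow_eq_one]
      exact (CfsgLib.Zsigmondy.natCast_eq_one_iff_dvd (by omega) ℓ i).1 hi
    set M := (M₀.1 : Matrix (Fin (2 * m)) (Fin (2 * m)) F) with hM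
    have hτM : hermAdj q M * M = 1 := (mem_SU_iff M₀.1).1 M₀.2
    have hw : 1 ≤ orderOf M₀.1 := orderOf_pos M₀.1
    have hMw : M ^ orderOf M₀.1 = 1 := by
      rw [hM, ← Matrix.SpecialLinearGroup.coe_pow, pow_orderOf_eq_one, Matrix.SpecialLinearGroup.coe_one]
    have hdvd : ∀ L, (∃ s : F, M ^ L = Matrix.scalar (Fin (2 * m)) s) → N ∣ L := fun L hL => by
      rw [← hg, orderOf_dvd_iff_pow_eq_one]
      exact (psuMk_pow_eq_one_iff hF (by omega) M₀ L).2 hL
    obtain ⟨f, hff, hfm, hfd, hαw, hℓα⟩ := exists_factor_of_prime_dvd p M hw hMw hℓ hℓp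
      (fun L hL => hℓN.trans (hdvd L ⟨1, by rw [hL, map_one]⟩))
    have hfi : Irreducible f := Fact.out
    obtain ⟨hdn, hd1, hα0, hαd⟩ := root_pow_eq_one M₀.1 f hfd
    set d := f.natDegree with hd
    set α := AdjoinRoot.root f with hαdef
    rw [hF, ← pow_mul] at hαd
    have hmd : m ∣ d := by
      have h1 := hord _ (hℓα.trans (orderOf_dvd_of_pow_eq_one hαd))
      rcases hk with ⟨-, rfl⟩ | ⟨hmo, rfl⟩
      · exact Nat.dvd_of_mul_dvd_mul_left (by norm_num) h1
      · exact (Nat.coprime_two_right.2 hmo).dvd_of_dvd_mul_left h1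
    obtain ⟨hm', hi', hd', hroot', -, -, -, -, hnorm'⟩ := conjFactor_spec p l he f hfm hw hαw
    have hfcp : f ∣ M.charpoly := hfd.trans (Matrix.minpoly_dvd_charpoly M)
    have hcj : conjFactor p l f ∣ M.charpoly := by
      refine minpoly.dvd F _ (aeval_charpoly_conj p l he M hτM α hα0 ?_)
      rw [hαdef, AdjoinRoot.aeval_eq, AdjoinRoot.mk_eq_zero]
      exact hfcp
    by_cases heq : f = conjFactor p l f
    · exfalso
      obtain ⟨j, hjd, hj⟩ := root_eq_pow_card (F := F) (f := f) (β := α⁻¹ ^ q) (by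
        have h1 := hroot'
        rw [← heq] at h1
        exact h1)
      obtain ⟨hdo, hαq⟩ := self_conjugate_spec p l hF f hjd hα0 hj
      have hdm : d = m := by
        obtain ⟨e, he'⟩ := hmd
        rcases e with _ | _ | e
        · omega
        · omega
        · exfalso
          have h3 : m * 2 ≤ m * (e + 1 + 1) := Nat.mul_le_mul_left _ (by omega)
          have h4 : d = 2 * m := by omega
          rw [← hd, h4] at hdo
          exact Nat.not_even_iff_odd.2 hdo (even_two_mul m)
      rw [← hd, hdm] at hdo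
      obtain ⟨-, hkm⟩ : Odd m ∧ k = m := hk.resolve_left (fun h => Nat.not_even_iff_odd.2 hdo h.1)
      rw [hkm] at hℓd
      have h1 : ℓ ∣ q ^ m + 1 := by
        have := hℓα.trans (orderOf_dvd_of_pow_eq_one hαq)
        rwa [← hd, hdm] at this
      have h2 := Nat.dvd_sub h1 hℓd
      have h3 : 1 ≤ q ^ m := Nat.one_le_pow _ _ (by omega)
      rw [show q ^ m + 1 - (q ^ m - 1) = 2 by omega] at h2
      exact hℓ2 ((Nat.prime_dvd_prime_iff_eq hℓ Nat.prime_two).1 h2)
    · have hco : IsCoprime f (conjFactor p l f) :=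
        hfi.coprime_iff_not_dvd.2 (fun h => heq (eq_of_monic_of_associated hfm hm'
          (hfi.associated_of_dvd hi' h)))
      have hprod := hco.mul_dvd hfcp hcj
      have hdeg : d + d ≤ 2 * m := by
        have := natDegree_le_of_dvd hprod (Matrix.charpoly_monic M).ne_zero
        rwa [natDegree_mul hfm.ne_zero hm'.ne_zero, hd', Matrix.charpoly_natDegree_eq_dim,
          Fintype.card_fin] at this
      have hdm : d = m := by
        have := Nat.le_of_dvd (by omega) hmd
        omega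
      have hcp : M.charpoly = f * conjFactor p l f :=
        eq_of_monic_of_dvd_of_natDegree_le (hfm.mul hm') (Matrix.charpoly_monic M) hprod
          (by rw [natDegree_mul hfm.ne_zero hm'.ne_zero, hd', Matrix.charpoly_natDegree_eq_dim,
            Fintype.card_fin, ← hd, hdm, two_mul])
      haveI : Module.Finite F (AdjoinRoot f) := (AdjoinRoot.powerBasis hfi.ne_zero).finite
      haveI : Finite (AdjoinRoot f) := Module.finite_of_finite F
      have hN : Algebra.norm F α = (-1) ^ d * f.coeff 0 := by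
        have := Algebra.PowerBasis.norm_gen_eq_coeff_zero_minpoly (AdjoinRoot.powerBasis hfi.ne_zero)
        rwa [AdjoinRoot.powerBasis_gen, AdjoinRoot.powerBasis_dim, AdjoinRoot.minpoly_root hfi.ne_zero,
          hfm.leadingCoeff, inv_one, C_1, mul_one] at this
      rw [← hd, ← hαdef] at hnorm'
      have hN1 : Algebra.norm F α * Algebra.norm F (α⁻¹ ^ q) = 1 := by
        have h := Matrix.det_eq_sign_charpoly_coeff M
        rw [hM, M₀.1.2, ← hM, Fintype.card_fin, hcp, mul_coeff_zero] at h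
        refine Eq.trans ?_ h.symm
        rw [hN, hnorm', two_mul, ← hdm, pow_add]
        ring
      rw [map_pow, Algebra.norm_inv, inv_pow] at hN1
      have hN0 : Algebra.norm F α ≠ 0 := Algebra.norm_ne_zero_iff.2 hα0
      have hN2 : Algebra.norm F α ^ (q - 1) = 1 := by
        refine mul_right_cancel₀ hN0 ?_
        rw [one_mul, ← pow_succ, show q - 1 + 1 = q by omega]
        exact (eq_of_mul_inv_eq_one hN1).symm
      have hS : α ^ altExp q (2 * m) = 1 := by
        have := congrArg (algebraMap F (AdjoinRoot f)) hN2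
        rwa [map_pow, map_one, FiniteField.algebraMap_norm_eq_pow_sum,
          (AdjoinRoot.powerBasis hfi.ne_zero).finrank, AdjoinRoot.powerBasis_dim, ← hd, hdm,
          Nat.card_eq_fintype_card, hF, ← pow_mul, ← geomExp, mul_comm,
          sub_one_mul_geomExp_sq (by omega)] at this
      set A := singerExpU q (2 * m) with hA
      have h3 : α ^ (A * (q + 1)) = 1 := by
        refine orderOf_dvd_iff_pow_eq_one.1 ((orderOf_dvd_of_pow_eq_one hS).trans ?_)
        rw [← singerExpU_mul (show 1 ≤ q by omega)]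
        exact mul_dvd_mul_left _ (Nat.gcd_dvd_right _ _)
      obtain ⟨s, hs⟩ := (exists_algebraMap_iff p l hF (pow_ne_zero A hα0)).2 (by
        rw [← pow_mul, mul_comm (q - 1), ← mul_assoc, pow_mul, h3, one_pow])
      have hsq : s ^ (q + 1) = 1 := by
        apply (algebraMap F (AdjoinRoot f)).injective
        rw [map_pow, map_one, ← hs, ← pow_mul, h3]
      have h1 : f ∣ X ^ A - C s := by
        rw [← AdjoinRoot.mk_eq_zero, map_sub, map_pow, AdjoinRoot.mk_X, AdjoinRoot.mk_C,
          ← AdjoinRoot.algebraMap_eq, ← hαdef, hs, sub_self]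
      have h2 : conjFactor p l f ∣ X ^ A - C s := by
        refine minpoly.dvd F _ ?_
        rw [map_sub, map_pow, aeval_X, aeval_C, ← hq, ← hαdef, ← pow_mul, mul_comm, pow_mul, inv_pow, hs,
          inv_pow, ← map_pow, ← map_inv₀, ← map_sub,
          show (s ^ q)⁻¹ = s from (eq_inv_of_mul_eq_one_left (by rw [← pow_succ', hsq])).symm,
          sub_self, map_zero]
      refine hdvd _ ⟨s, ?_⟩
      obtain ⟨b, hb⟩ := hco.mul_dvd h1 h2
      have h := congrArg (aeval M) hb
      rw [map_mul, ← hcp, Matrix.aeval_self_charpoly, zero_mul] at h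
      simp only [map_sub, map_pow, aeval_X, aeval_C, sub_eq_zero] at h
      exact h
  · intro h
    haveI : CharP F p := hp
    obtain ⟨g₀, hg₀⟩ := exists_orderOf_eq_singerExpU p l hF (n := 2 * m) (by omega)
    exact exists_orderOf_eq_of_dvd_orderOf g₀ (by rw [hg₀]; exact h)

end Cfsg.Agent.S2496
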