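import Cfsg.Statements.S2500
import Cfsg.Agent.Lib.TwoCover.Linear
import Cfsg.Agent.Lib.TwoCover.SympEven
import Cfsg.Agent.Lib.TwoCover.OctTwo
import Cfsg.Agent.Lib.TwoCover.UnitaryFour
import Cfsg.Agent.Lib.TwoCover.UnitaryThreeMain
import Cfsg.Agent.Lib.TwoCover.SympThreeMain

set_option autoImplicit false
open Cfsg

namespace Cfsg.Agent.S2500
open CfsgLib.TwoCover

/-- The infinite families of simple groups with normal covering number 2. For a finite field F: each of PSL_2(F) (|F| ≥ 4), PSL_3(F), PSL_4(F), PSU_4 over F (|F| = q²), PSU_3 over F when |F| = q² with q a power of 3, PSp_{2m}(F) for |F| even, m ≥ 2 and (m, |F|) ≠ (2, 2), PSp_6(F) for |F| a power of 3, and G_2(F) (automorphisms of the split octonions) for |F| = 2^a ≥ 4 is the union of the conjugates of two proper subgroups: there are proper subgroups H, K such that every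 element is conjugate into H or into K. -/
theorem result {F : Type} [Field F] [Fintype F] :
    (4 ≤ Fintype.card F → (∃ H K : Subgroup (Matrix.ProjectiveSpecialLinearGroup (Fin 2) F), H ≠ ⊤ ∧ K ≠ ⊤ ∧ ∀ g : (Matrix.ProjectiveSpecialLinearGroup (Fin 2) F), ∃ x : (Matrix.ProjectiveSpecialLinearGroup (Fin 2) F), x * g * x⁻¹ ∈ H ∨ x * g * x⁻¹ ∈ K)) ∧
    (∃ H K : Subgroup (Matrix.ProjectiveSpecialLinearGroup (Fin 3) F), H ≠ ⊤ ∧ K ≠ ⊤ ∧ ∀ g : (Matrix.ProjectiveSpecialLinearGroup (Fin 3) F), ∃ x : (Matrix.ProjectiveSpecialLinearGroup (Fin 3) F), x * g * x⁻¹ ∈ H ∨ x * g * x⁻¹ ∈ K) ∧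
    (∃ H K : Subgroup (Matrix.ProjectiveSpecialLinearGroup (Fin 4) F), H ≠ ⊤ ∧ K ≠ ⊤ ∧ ∀ g : (Matrix.ProjectiveSpecialLinearGroup (Fin 4) F), ∃ x : (Matrix.ProjectiveSpecialLinearGroup (Fin 4) F), x * g * x⁻¹ ∈ H ∨ x * g * x⁻¹ ∈ K) ∧
    (∀ q : ℕ, Fintype.card F = q ^ 2 → (∃ H K : Subgroup (Cfsg.PSU 4 F q), H ≠ ⊤ ∧ K ≠ ⊤ ∧ ∀ g : (Cfsg.PSU 4 F q), ∃ x : (Cfsg.PSU 4 F q), x * g * x⁻¹ ∈ H ∨ x * g * x⁻¹ ∈ K)) ∧
    (∀ q a : ℕ, Fintype.card F = q ^ 2 → 1 ≤ a → q = 3 ^ a → (∃ H K : Subgroup (Cfsg.PSU 3 F q), H ≠ ⊤ ∧ K ≠ ⊤ ∧ ∀ g : (Cfsg.PSU 3 F q), ∃ x : (Cfsg.PSU 3 F q), x * g * x⁻¹ ∈ H ∨ x * g * x⁻¹ ∈ K)) ∧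
    (∀ m : ℕ, 2 ≤ m → ¬ Odd (Fintype.card F) → ¬ (m = 2 ∧ Fintype.card F = 2) → (∃ H K : Subgroup (Cfsg.PSp m F), H ≠ ⊤ ∧ K ≠ ⊤ ∧ ∀ g : (Cfsg.PSp m F), ∃ x : (Cfsg.PSp m F), x * g * x⁻¹ ∈ H ∨ x * g * x⁻¹ ∈ K)) ∧
    (∀ a : ℕ, 1 ≤ a → Fintype.card F = 3 ^ a → (∃ H K : Subgroup (Cfsg.PSp 3 F), H ≠ ⊤ ∧ K ≠ ⊤ ∧ ∀ g : (Cfsg.PSp 3 F), ∃ x : (Cfsg.PSp 3 F), x * g * x⁻¹ ∈ H ∨ x * g * x⁻¹ ∈ K)) ∧
    (∀ a : ℕ, 2 ≤ a → Fintype.card F = 2 ^ a → (∃ H K : Subgroup (Cfsg.Lie.G2 F), H ≠ ⊤ ∧ K ≠ ⊤ ∧ ∀ g : (Cfsg.Lie.G2 F), ∃ x : (Cfsg.Lie.G2 F), x * g * x⁻¹ ∈ H ∨ x * g * x⁻¹ ∈ K)) := by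
  have h3 : ∀ a : ℕ, 1 ≤ a → ∀ e : ℕ, 1 ≤ e → Fintype.card F = (3 ^ a) ^ e → CharP F 3 := by
    intro a ha e he h
    rw [← pow_mul] at h
    haveI := Fact.mk Nat.prime_three
    exact charP_of_card_eq_prime_pow (f := a * e) h
  refine ⟨fun _ => psl_two_cover, psl_three_cover, psl_four_cover, ?_, ?_, ?_, ?_, ?_⟩
  · intro q hq
    obtain ⟨φ, D⟩ := CfsgLib.TwoCover.Unitary.exists_FD hq
    exact CfsgLib.TwoCover.Unitary.psu_four_cover D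
  · intro q a hq ha hqa
    haveI := h3 a ha 2 (by norm_num) (hqa ▸ hq)
    obtain ⟨φ, D⟩ := CfsgLib.TwoCover.Unitary.exists_FD hq
    exact CfsgLib.TwoCover.Unitary.psu_three_cover D
  · intro m hm hodd _
    haveI : CharP F 2 := by
      have h := (FiniteField.even_card_iff_char_two (F := F)).2 (Nat.even_iff.1 (Nat.not_odd_iff_even.1 hodd))
      exact h ▸ ringChar.charP F
    exact CfsgLib.TwoCover.SympEven.psp_even_cover hm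
  · intro a ha hc
    haveI := h3 a ha 1 le_rfl (by rw [pow_one]; exact hc)
    exact CfsgLib.TwoCover.SympThree.psp_three_cover
  · intro a ha hc
    haveI : CharP F 2 := by
      haveI := Fact.mk Nat.prime_two
      exact charP_of_card_eq_prime_pow (f := a) hc
    refine CfsgLib.TwoCover.OctTwo.g2_cover ?_
    rw [hc]
    exact le_trans (by norm_num) (Nat.pow_le_pow_right (by norm_num : 0 < 2) ha)

end Cfsg.Agent.S2500
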