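import Cfsg.Statements.S2503
import Mathlib.LinearAlgebra.Matrix.ProjectiveSpecialLinearGroup
import Mathlib.LinearAlgebra.Determinant
import Mathlib.RingTheory.Norm.Basic
import Mathlib.FieldTheory.Finite.Extension
import Mathlib.RingTheory.IntegralDomain
import Mathlib.FieldTheory.Finite.Trace
import Mathlib.LinearAlgebra.FreeModule.Finite.Matrix

set_option autoImplicit false
open Cfsg

namespace Cfsg.Agent.S2503

section
variable {F L : Type*} [Field F] [Finite F] [Field L] [Algebra F L] [Finite L] [CharP L 2]
  [CharP F 2]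

/-- The semilinear normal form `z ↦ α z + β σ z`. -/
noncomputable def form (σ : L ≃ₐ[F] L) (α β : L) : L →ₗ[F] L :=
  Algebra.lmul F L α + Algebra.lmul F L β * σ.toLinearMap

theorem form_apply (σ : L ≃ₐ[F] L) (α β z : L) : form σ α β z = α * z + β * σ z := rfl

theorem form_bijective (σ : L ≃ₐ[F] L) (hσ : ∃ z, σ z ≠ z) (hfin : Module.finrank F L = 2) :
    Function.Bijective (fun v : L × L => form σ v.1 v.2) := by
  haveI : Module.Finite F L := .of_finite
  haveI : Finite (L →ₗ[F] L) := Module.finite_of_finite F
  haveI := Fintype.ofFinite (L →ₗ[F] L)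
  haveI := Fintype.ofFinite L
  rw [Fintype.bijective_iff_injective_and_card]
  constructor
  · intro v w h
    obtain ⟨z, hz⟩ := hσ
    have h1 := LinearMap.congr_fun h 1
    have h2 := LinearMap.congr_fun h z
    simp only [form_apply, map_one, mul_one] at h1 h2
    have h3 : (v.2 - w.2) * (σ z - z) = 0 := by linear_combination h2 - z * h1
    have h4 : v.2 = w.2 := sub_eq_zero.1 ((mul_eq_zero.1 h3).resolve_right (sub_ne_zero.2 hz))
    exact Prod.ext (by linear_combination h1 - h4) h4
  · rw [Fintype.card_prod, ← Nat.card_eq_fintype_card, ← Nat.card_eq_fintype_card,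
      Module.natCard_eq_pow_finrank (K := F) (V := L), Module.natCard_eq_pow_finrank (K := F) (V := L →ₗ[F] L),
      Module.finrank_linearMap, hfin, ← pow_add]

theorem det_form (σ : L ≃ₐ[F] L) (hσ2 : ∀ z, σ (σ z) = z)
    (hN : ∀ z : L, algebraMap F L (Algebra.norm F z) = z * σ z) (hfin : Module.finrank F L = 2) (α β : L) :
    LinearMap.det (form σ α β) = Algebra.norm F α + Algebra.norm F β := by
  by_cases hβ : β = 0
  · subst hβ
    rw [show form σ α 0 = Algebra.lmul F L α by ext z; simp [form_apply], Algebra.norm_zero, add_zero,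
      Algebra.norm_apply]
  set c := Algebra.norm F α + Algebra.norm F β with hc
  have hgh : form σ α β * form σ (σ α) β = c • LinearMap.id := by
    ext z
    show form σ α β (form σ (σ α) β z) = c • z
    simp only [form_apply, Algebra.smul_def, hc, map_add, map_mul, hσ2, hN]
    linear_combination (CharP.cast_eq_zero L 2) * (α * β * σ z)
  have hσσ : σ.toLinearEquiv.toLinearMap * σ.toLinearEquiv.toLinearMap = 1 := LinearMap.ext hσ2
  have hconj : Algebra.lmul F L (σ β) * form σ (σ α) β =
      (σ.toLinearEquiv.toLinearMap * form σ α β * σ.toLinearEquiv.toLinearMap) * Algebra.lmul F L (σ β) := by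
    ext z
    show σ β * form σ (σ α) β z = σ (form σ α β (σ (σ β * z)))
    simp only [form_apply, map_add, map_mul, hσ2]
    ring
  have hdet := congrArg LinearMap.det hconj
  simp only [map_mul] at hdet
  have hσd : LinearMap.det σ.toLinearEquiv.toLinearMap * LinearMap.det σ.toLinearEquiv.toLinearMap = 1 := by
    rw [← map_mul, hσσ, map_one]
  have hne : LinearMap.det (Algebra.lmul F L (σ β)) ≠ 0 := by
    rw [← Algebra.norm_apply]
    haveI : Module.Finite F L := .of_finite
    exact Algebra.norm_ne_zero_iff.2 (by simpa using hβ)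
  have heq : LinearMap.det (form σ (σ α) β) = LinearMap.det (form σ α β) := by
    apply mul_left_cancel₀ hne
    linear_combination hdet + (LinearMap.det (form σ α β) * LinearMap.det (Algebra.lmul F L (σ β))) * hσd
  have h2 := congrArg LinearMap.det hgh
  rw [map_mul, heq, LinearMap.det_smul, LinearMap.det_id, hfin, mul_one, ← sq] at h2
  exact CharTwo.sq_injective h2

end

/-- Let F be a finite field with q = 2^t ≥ 4 elements and L = PSL(2,F). Then L has a cyclic subgroup A of order q + 1 and an elementary abelian 2-subgroup B of order q such that L = ABA: every element of L is a product a·b·a' with a, a' ∈ A and b ∈ B. -/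
theorem result {F : Type*} [Field F] [Fintype F]
    (h2 : 2 ∣ Fintype.card F) (h4 : 4 ≤ Fintype.card F) :
    ∃ A B : Subgroup (Matrix.ProjectiveSpecialLinearGroup (Fin 2) F),
      IsCyclic A ∧ Nat.card A = Fintype.card F + 1 ∧ IsMulCommutative B ∧ (∀ b ∈ B, b * b = 1) ∧
        Nat.card B = Fintype.card F ∧
        ∀ g : Matrix.ProjectiveSpecialLinearGroup (Fin 2) F, ∃ a ∈ A, ∃ b ∈ B, ∃ c ∈ A, g = a * b * c := by
  classical
  obtain ⟨p, hp⟩ := CharP.exists F
  obtain ⟨a, hprime, hcard⟩ := FiniteField.card F p
  obtain rfl : p = 2 := ((Nat.prime_dvd_prime_iff_eq Nat.prime_two hprime).1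
    (Nat.prime_two.dvd_of_dvd_pow (hcard ▸ h2))).symm
  haveI := Fact.mk hprime
  let L := FiniteField.Extension F 2 2
  haveI : Fintype L := Fintype.ofFinite L
  haveI : CharP L 2 := charP_of_injective_algebraMap (algebraMap F L).injective 2
  haveI : ExpChar L 2 := ExpChar.prime hprime
  have hfin : Module.finrank F L = 2 := FiniteField.finrank_extension F 2 2
  set q := Fintype.card F
  have hLc : Nat.card L = q ^ 2 := by rw [FiniteField.natCard_extension, Nat.card_eq_fintype_card]
  let σ : L ≃ₐ[F] L := FiniteField.Extension.frob F 2 2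
  have hσ : ∀ z : L, σ z = z ^ q := fun z => by
    show FiniteField.Extension.frob F 2 2 z = _
    rw [FiniteField.Extension.frob_apply, Nat.card_eq_fintype_card]
  have hq1 : 1 ≤ q := Fintype.card_pos
  have hσ2 : ∀ z, σ (σ z) = z := fun z => by
    rw [hσ, hσ, ← pow_mul, ← sq, ← hLc, Nat.card_eq_fintype_card, FiniteField.pow_card]
  have hN : ∀ z : L, algebraMap F L (Algebra.norm F z) = z * σ z := fun z => by
    rw [FiniteField.algebraMap_norm_eq_pow_sum, hfin, hσ, Nat.card_eq_fintype_card,
      Finset.sum_range_succ, Finset.sum_range_one, pow_zero, pow_one, pow_add, pow_one]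
  have hσne : ∃ z, σ z ≠ z := by
    by_contra hall
    push Not at hall
    have hsurj : Function.Surjective (algebraMap F L) := fun z => by
      obtain ⟨c, hc⟩ : ∃ c, c = z := ⟨z, rfl⟩
      by_contra hne
      push Not at hne
      have hP : (Polynomial.X ^ q - Polynomial.X : Polynomial L) ≠ 0 :=
        FiniteField.X_pow_card_sub_X_ne_zero L Fintype.one_lt_card
      have hsub : (Finset.univ : Finset L) ⊆ (Polynomial.X ^ q - Polynomial.X : Polynomial L).roots.toFinset := by
        intro w _
        rw [Multiset.mem_toFinset, Polynomial.mem_roots hP]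
        simp [← hσ, hall w]
      have := (Finset.card_le_card hsub).trans ((Multiset.toFinset_card_le _).trans (Polynomial.card_roots' _))
      rw [Finset.card_univ, FiniteField.X_pow_card_sub_X_natDegree_eq L Fintype.one_lt_card, ← Nat.card_eq_fintype_card, hLc] at this
      nlinarith
    have h1 := Nat.card_le_card_of_surjective _ hsurj
    rw [hLc, Nat.card_eq_fintype_card] at h1
    nlinarith
  haveI : Module.Finite F L := .of_finite
  let b := Module.finBasisOfFinrankEq F L hfin
  let T := LinearMap.toMatrix b b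
  let toSL : (f : L →ₗ[F] L) → LinearMap.det f = 1 → Matrix.SpecialLinearGroup (Fin 2) F :=
    fun f hf => ⟨T f, by rw [LinearMap.det_toMatrix, hf]⟩
  let π := QuotientGroup.mk' (Subgroup.center (Matrix.SpecialLinearGroup (Fin 2) F))
  have hπ : Function.Injective π := by
    rw [← MonoidHom.ker_eq_bot_iff, QuotientGroup.ker_mk', eq_bot_iff]
    intro g hg
    obtain ⟨r, hr, hrg⟩ := Matrix.SpecialLinearGroup.mem_center_iff.1 hg
    rw [Fintype.card_fin] at hr
    have : r = 1 := CharTwo.sq_injective (by simpa using hr)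
    rw [Subgroup.mem_bot]
    apply Subtype.ext
    rw [← hrg, this, map_one]; rfl
  -- the norm one torus
  let N1 : Subgroup Lˣ := (Units.map (Algebra.norm F)).ker
  have hN1det : ∀ u : N1, LinearMap.det (Algebra.lmul F L ((u : Lˣ) : L)) = 1 := fun u => by
    rw [← Algebra.norm_apply]
    exact congrArg Units.val u.2
  let ι : N1 →* Matrix.SpecialLinearGroup (Fin 2) F :=
    { toFun := fun u => toSL _ (hN1det u)
      map_one' := Subtype.ext (by
        show T (Algebra.lmul F L 1) = 1
        rw [map_one]; exact LinearMap.toMatrix_one b)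
      map_mul' := fun u v => Subtype.ext (by
        show T (Algebra.lmul F L (((u : Lˣ) : L) * ((v : Lˣ) : L))) = T _ * T _
        rw [map_mul]; exact LinearMap.toMatrix_mul b _ _) }
  have hι : Function.Injective ι := fun u v h => by
    have h' := T.injective (congrArg Subtype.val h)
    have := LinearMap.congr_fun h' 1
    exact Subtype.ext (Units.ext (by simpa using this))
  have hbdet : ∀ t : F, LinearMap.det (form σ (1 + algebraMap F L t) (algebraMap F L t)) = 1 := fun t => by
    rw [det_form σ hσ2 hN hfin, show (1 : L) + algebraMap F L t = algebraMap F L (1 + t) by simp,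
      Algebra.norm_algebraMap, Algebra.norm_algebraMap, hfin]
    linear_combination (CharP.cast_eq_zero F 2) * (t + t ^ 2)
  let κ : Multiplicative F →* Matrix.SpecialLinearGroup (Fin 2) F :=
    { toFun := fun t => toSL _ (hbdet (Multiplicative.toAdd t))
      map_one' := Subtype.ext (by
        show T _ = 1
        convert LinearMap.toMatrix_one b using 2
        ext z
        simp [form_apply])
      map_mul' := fun s t => Subtype.ext (by
        show T _ = T _ * T _
        rw [← LinearMap.toMatrix_mul b]
        congr 1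
        ext z
        simp only [Module.End.mul_apply, form_apply, toAdd_mul, map_add, map_mul,
          map_one, AlgEquiv.commutes, hσ2]
        generalize algebraMap F L (Multiplicative.toAdd s) = x
        generalize algebraMap F L (Multiplicative.toAdd t) = y
        linear_combination -(CharP.cast_eq_zero L 2) * (x * y) * (z + σ z)) }
  have hκ : Function.Injective κ := fun s t h => by
    have h' := T.injective (congrArg Subtype.val h)
    have := Prod.ext_iff.1 ((form_bijective σ hσne hfin).1 (a₁ := (_, _)) (a₂ := (_, _)) h')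
    exact Multiplicative.toAdd.injective ((algebraMap F L).injective this.2)
  refine ⟨(π.comp ι).range, (π.comp κ).range, ?_, ?_, ?_, ?_, ?_, ?_⟩
  · haveI : IsCyclic N1 := inferInstance
    exact isCyclic_of_surjective _ (π.comp ι).rangeRestrict_surjective
  · rw [← Nat.card_congr (MonoidHom.ofInjective (f := π.comp ι) (hπ.comp hι)).toEquiv]
    have h1 := Subgroup.card_eq_card_quotient_mul_card_subgroup N1
    rw [Nat.card_congr (QuotientGroup.quotientKerEquivOfSurjective (Units.map (Algebra.norm F (S := L)))
      (FiniteField.unitsMap_norm_surjective F L)).toEquiv, Nat.card_units, Nat.card_units, hLc,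
      Nat.card_eq_fintype_card (α := F)] at h1
    apply Nat.eq_of_mul_eq_mul_left (show 0 < q - 1 by omega)
    rw [← h1]
    obtain ⟨r, hr⟩ : ∃ r, q = r + 1 := ⟨q - 1, by omega⟩
    rw [hr, Nat.add_sub_cancel, Nat.sub_eq_iff_eq_add (Nat.one_le_pow _ _ (by omega))]
    ring
  · constructor; constructor
    rintro ⟨_, s, rfl⟩ ⟨_, t, rfl⟩
    apply Subtype.ext
    show π.comp κ s * π.comp κ t = π.comp κ t * π.comp κ s
    rw [← map_mul, ← map_mul, mul_comm]
  · rintro _ ⟨t, rfl⟩
    rw [← map_mul]
    have : t * t = 1 := Multiplicative.toAdd.injective (by simp [CharTwo.add_self_eq_zero])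
    rw [this, map_one]
  · rw [← Nat.card_congr (MonoidHom.ofInjective (f := π.comp κ) (hπ.comp hκ)).toEquiv,
      Nat.card_congr Multiplicative.toAdd, Nat.card_eq_fintype_card]
  intro g
  obtain ⟨M, rfl⟩ := QuotientGroup.mk_surjective g
  obtain ⟨⟨α, β⟩, hαβ⟩ := (form_bijective σ hσne hfin).2 (T.symm M)
  change form σ α β = T.symm M at hαβ
  have hd : Algebra.norm F α + Algebra.norm F β = 1 := by
    rw [← det_form σ hσ2 hN hfin, hαβ, ← LinearMap.det_toMatrix b]
    show (T (T.symm M)).det = 1
    rw [LinearEquiv.apply_symm_apply]; exact M.2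
  obtain ⟨t, ht⟩ := (Finite.injective_iff_surjective.1 (iterateFrobenius_inj F 2 1)) (Algebra.norm F β)
  have ht' : t ^ 2 = Algebra.norm F β := by simpa [iterateFrobenius_def, frobenius_def] using ht
  have ht1 : (1 + t) ^ 2 = Algebra.norm F α := by
    linear_combination -hd + ht' + (CharP.cast_eq_zero F 2) * (t + Algebra.norm F β)
  have hs : ∀ (γ : L) (c : F), c ^ 2 = Algebra.norm F γ →
      ∃ s : L, Algebra.norm F s = 1 ∧ s * algebraMap F L c = γ := by
    intro γ c hc
    by_cases hc0 : c = 0
    · refine ⟨1, map_one _, ?_⟩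
      rw [hc0] at hc ⊢
      rw [map_zero, mul_zero]
      exact ((Algebra.norm_eq_zero_iff).1 (by rw [← hc]; simp)).symm
    · refine ⟨γ * algebraMap F L c⁻¹, ?_, ?_⟩
      · rw [map_mul, Algebra.norm_algebraMap, hfin, ← hc, ← mul_pow, mul_inv_cancel₀ hc0, one_pow]
      · rw [mul_assoc, ← map_mul, inv_mul_cancel₀ hc0, map_one, mul_one]
  obtain ⟨s1, hs1, hs1'⟩ := hs α (1 + t) ht1
  obtain ⟨s2, hs2, hs2'⟩ := hs β t ht'
  obtain ⟨u, hu⟩ := (Finite.injective_iff_surjective.1 (iterateFrobenius_inj L 2 1)) (s1 * s2)
  have hu' : u ^ 2 = s1 * s2 := by simpa [iterateFrobenius_def, frobenius_def] using hu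
  have hun : Algebra.norm F u = 1 := by
    apply CharTwo.sq_injective
    show (Algebra.norm F u) ^ 2 = 1 ^ 2
    rw [one_pow, ← map_pow, hu', map_mul, hs1, hs2, one_mul]
  have hu0 : u ≠ 0 := fun h => by rw [h, Algebra.norm_zero] at hun; exact zero_ne_one hun
  have hs10 : s1 ≠ 0 := fun h => by rw [h, Algebra.norm_zero] at hs1; exact zero_ne_one hs1
  have hv : Algebra.norm F (s1 / u) = 1 := by
    have := congrArg (Algebra.norm F) (div_mul_cancel₀ s1 hu0)
    rwa [map_mul, hun, mul_one, hs1] at this
  have hσv : σ (s1 / u) = u / s1 := by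
    have h := hN (s1 / u)
    rw [hv, map_one] at h
    rw [eq_div_iff hs10]
    linear_combination (-u) * h - σ (s1 / u) * div_mul_cancel₀ s1 hu0
  let U : N1 := ⟨Units.mk0 u hu0, Units.ext hun⟩
  let V : N1 := ⟨Units.mk0 (s1 / u) (div_ne_zero hs10 hu0), Units.ext hv⟩
  refine ⟨π (ι U), ⟨U, rfl⟩, π (κ (Multiplicative.ofAdd t)), ⟨_, rfl⟩, π (ι V), ⟨V, rfl⟩, ?_⟩
  rw [← map_mul, ← map_mul]
  refine congrArg π (Subtype.ext ?_)
  show (M : Matrix (Fin 2) (Fin 2) F) = T _ * T _ * T _
  rw [← LinearMap.toMatrix_mul b, ← LinearMap.toMatrix_mul b, ← LinearEquiv.apply_symm_apply T (M : Matrix (Fin 2) (Fin 2) F)]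
  congr 1
  rw [← hαβ]
  ext z
  simp only [Module.End.mul_apply, form_apply]
  show α * z + β * σ z = u * ((1 + algebraMap F L t) * (s1 / u * z) + algebraMap F L t * σ (s1 / u * z))
  rw [map_mul, hσv, ← hs1', ← hs2', map_add, map_one]
  generalize algebraMap F L t = y
  generalize σ z = w
  have e3 : u * (u / s1) = s2 := mul_right_cancel₀ hs10 (by
    rw [mul_assoc, div_mul_cancel₀ u hs10]
    linear_combination hu')
  linear_combination (-(1 + y) * z) * div_mul_cancel₀ s1 hu0 - (y * w) * e3

end Cfsg.Agent.S2503
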