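import Cfsg.Statements.S2505
import Cfsg.Agent.Lib.AltHall.AbelianBound

set_option autoImplicit false
open Cfsg

namespace Cfsg.Agent.S2505

/-- The largest order of an abelian subgroup of the symmetric group of degree n is 3^k when n = 3k, 4·3^(k−1) when n = 3k + 1, and 2·3^k when n = 3k + 2, for every k ≥ 1. -/
theorem result (k : ℕ) (hk : 1 ≤ k) :
    IsGreatest {c : ℕ | ∃ A : Subgroup (Equiv.Perm (Fin (3 * k))), IsMulCommutative A ∧ Nat.card A = c} (3 ^ k) ∧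
    IsGreatest {c : ℕ | ∃ A : Subgroup (Equiv.Perm (Fin (3 * k + 1))), IsMulCommutative A ∧ Nat.card A = c}
      (4 * 3 ^ (k - 1)) ∧
    IsGreatest {c : ℕ | ∃ A : Subgroup (Equiv.Perm (Fin (3 * k + 2))), IsMulCommutative A ∧ Nat.card A = c}
      (2 * 3 ^ k) := by
  have hub : ∀ n c : ℕ, (∃ A : Subgroup (Equiv.Perm (Fin n)), IsMulCommutative A ∧ Nat.card A = c) →
      c ≤ CfsgLib.AltHall.maxProd n := by
    rintro n c ⟨A, hA, rfl⟩
    exact CfsgLib.AltHall.card_abelian_le n (Fin n) A (Nat.card_fin n) hA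
  obtain ⟨j, rfl⟩ : ∃ j, k = j + 1 := ⟨k - 1, by omega⟩
  refine ⟨⟨?_, fun c hc => (hub _ c hc).trans (CfsgLib.AltHall.maxProd_three_mul _).le⟩,
    ⟨?_, fun c hc => (hub _ c hc).trans ?_⟩,
    ⟨?_, fun c hc => (hub _ c hc).trans (CfsgLib.AltHall.maxProd_three_mul_add_two _).le⟩⟩
  · obtain ⟨A, hA, hc⟩ := CfsgLib.AltHall.exists_abelian (fun _ : Fin (j + 1) => 3)
      (n := 3 * (j + 1)) (by simp [mul_comm])
    exact ⟨A, hA, hc.trans (by simp)⟩
  · haveI : ∀ i, NeZero ((Fin.cons 4 fun _ => 3 : Fin (j + 1) → ℕ) i) := fun i =>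
      ⟨by refine Fin.cases ?_ ?_ i <;> simp⟩
    obtain ⟨A, hA, hc⟩ := CfsgLib.AltHall.exists_abelian (Fin.cons 4 fun _ => 3 : Fin (j + 1) → ℕ)
      (n := 3 * (j + 1) + 1) (by simp [Fin.sum_univ_succ]; omega)
    exact ⟨A, hA, hc.trans (by simp [Fin.prod_univ_succ])⟩
  · rw [show 3 * (j + 1) + 1 = 3 * j + 4 by omega, CfsgLib.AltHall.maxProd_three_mul_add_four,
      Nat.add_sub_cancel]
  · haveI : ∀ i, NeZero ((Fin.cons 2 fun _ => 3 : Fin (j + 2) → ℕ) i) := fun i =>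
      ⟨by refine Fin.cases ?_ ?_ i <;> simp⟩
    obtain ⟨A, hA, hc⟩ := CfsgLib.AltHall.exists_abelian (Fin.cons 2 fun _ => 3 : Fin (j + 2) → ℕ)
      (n := 3 * (j + 1) + 2) (by simp [Fin.sum_univ_succ]; omega)
    exact ⟨A, hA, hc.trans (by simp [Fin.prod_univ_succ, pow_succ])⟩

end Cfsg.Agent.S2505
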