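import Cfsg.Statements.S2506
import Cfsg.Agent.Lib.Alt.AbelianLargest

set_option autoImplicit false
open scoped Pointwise
open Cfsg

namespace Cfsg.Agent.S2506
open scoped Pointwise

/-- In the alternating group of any degree, any two abelian subgroups of the largest possible order (among abelian subgroups) are conjugate. -/
theorem result (n : ℕ)
    (A B : Subgroup (alternatingGroup (Fin n))) (hA : IsMulCommutative A) (hB : IsMulCommutative B)
    (hAmax : ∀ C : Subgroup (alternatingGroup (Fin n)), IsMulCommutative C → Nat.card C ≤ Nat.card A)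
    (hBmax : ∀ C : Subgroup (alternatingGroup (Fin n)), IsMulCommutative C → Nat.card C ≤ Nat.card B) :
    ∃ g : alternatingGroup (Fin n), B = MulAut.conj g • A := by
  classical
  by_cases h2 : n ≤ 2
  · haveI : Subsingleton (alternatingGroup (Fin n)) := by
      interval_cases n <;> exact ⟨by decide⟩
    exact ⟨1, Subsingleton.elim _ _⟩
  by_cases h5 : n = 5
  · subst h5
    haveI : Fact (Nat.Prime 5) := ⟨by norm_num⟩
    have h60 : Nat.card (alternatingGroup (Fin 5)) = 60 := by
      rw [nat_card_alternatingGroup, Nat.card_fin]; rfl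
    obtain ⟨x, hx⟩ := exists_prime_orderOf_dvd_card' (G := alternatingGroup (Fin 5)) 5 (by rw [h60]; norm_num)
    have hcard : ∀ C : Subgroup (alternatingGroup (Fin 5)), IsMulCommutative C →
        (∀ D : Subgroup (alternatingGroup (Fin 5)), IsMulCommutative D → Nat.card D ≤ Nat.card C) →
        Nat.card C = 5 := fun C hC hmax => by
      refine le_antisymm ?_ ?_
      · obtain ⟨h1, h2', h3⟩ := CfsgLib.AltAbelian.map_even C hC
        rw [← h3]
        rcases CfsgLib.AltAbelian.dichotomy h1 h2' with h | ⟨a, b, hab, -⟩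
        · rw [Nat.card_fin] at h
          by_contra hlt
          push Not at hlt
          have := Nat.pow_le_pow_left (Nat.succ_le_of_lt hlt) 3
          norm_num at this h; omega
        · rw [Nat.card_fin] at hab; omega
      · have := hmax (Subgroup.zpowers x) inferInstance
        rwa [Nat.card_zpowers, hx] at this
    have hfac : (60 : ℕ).factorization 5 = 1 := by
      have h1 : (5 : ℕ) ^ 1 ∣ 60 := by norm_num
      have h2' : ¬ (5 : ℕ) ^ 2 ∣ 60 := by norm_num
      rw [Nat.Prime.pow_dvd_iff_le_factorization (by norm_num) (by norm_num)] at h1 h2'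
      omega
    let PA : Sylow 5 (alternatingGroup (Fin 5)) := Sylow.ofCard A (by rw [h60, hfac, hcard A hA hAmax, pow_one])
    let PB : Sylow 5 (alternatingGroup (Fin 5)) := Sylow.ofCard B (by rw [h60, hfac, hcard B hB hBmax, pow_one])
    obtain ⟨g, hg⟩ := MulAction.exists_smul_eq (alternatingGroup (Fin 5)) PA PB
    exact ⟨g, congrArg Sylow.toSubgroup hg.symm⟩
  obtain ⟨j, r, hr, hn, h0⟩ : ∃ j r, r < 3 ∧ n = 3 * j + 4 * r ∧ 0 < j + r := by
    rcases (by omega : n % 3 = 0 ∨ n % 3 = 1 ∨ n % 3 = 2) with h | h | h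
    · exact ⟨n / 3, 0, by omega, by omega, by omega⟩
    · exact ⟨(n - 4) / 3, 1, by omega, by omega, by omega⟩
    · exact ⟨(n - 8) / 3, 2, by omega, by omega, by omega⟩
  have hcard : ∀ C : Subgroup (alternatingGroup (Fin n)), IsMulCommutative C →
      (∀ D : Subgroup (alternatingGroup (Fin n)), IsMulCommutative D → Nat.card D ≤ Nat.card C) →
      Nat.card C = 3 ^ j * 4 ^ r := fun C hC hmax => by
    obtain ⟨⟨D, hD, hDc⟩, hub⟩ := CfsgLib.AltAbelian.isGreatest j r n hr hn
    exact le_antisymm (hub ⟨C, hC, rfl⟩) (hDc ▸ hmax D hD)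
  obtain ⟨a1, a2, a3⟩ := CfsgLib.AltAbelian.map_even A hA
  obtain ⟨b1, b2, b3⟩ := CfsgLib.AltAbelian.map_even B hB
  obtain ⟨s, hs, hconj⟩ := CfsgLib.AltAbelian.exists_conj a1 b1 a2 b2 hr h0 (by rw [Nat.card_fin, hn])
    (a3.trans (hcard A hA hAmax)) (b3.trans (hcard B hB hBmax))
  refine ⟨⟨s, Equiv.Perm.mem_alternatingGroup.2 hs⟩, ?_⟩
  symm
  apply Subgroup.eq_of_le_of_card_ge
  · intro y hy
    rw [Subgroup.mem_pointwise_smul_iff_inv_smul_mem] at hy
    obtain ⟨b, hb, hbe⟩ := hconj _ (Subgroup.mem_map_of_mem _ hy)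
    have : b = y := Subtype.ext (hbe.trans (by simp [mul_assoc]))
    exact this ▸ hb
  · rw [hcard B hB hBmax, ← hcard A hA hAmax]
    exact (Nat.card_congr (Subgroup.equivSMul _ A).toEquiv).le

end Cfsg.Agent.S2506
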