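import Cfsg.Statements.S2510
import Cfsg.Agent.Lib.Spectrum.LinearBound

set_option autoImplicit false
open Cfsg

namespace Cfsg.Agent.S2510

open CfsgLib.Spectrum

theorem lcm_left_comm' (a b c : ℕ) : Nat.lcm a (Nat.lcm b c) = Nat.lcm b (Nat.lcm a c) := by
  rw [← Nat.lcm_assoc, Nat.lcm_comm a b, Nat.lcm_assoc]

theorem pow_multiplicative_zmod_eq_one {r m : ℕ} (z : Multiplicative (Fin m → ZMod r)) : z ^ r = 1 := by
  apply Multiplicative.toAdd.injective
  rw [toAdd_pow, toAdd_one]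
  funext i
  simp

theorem coprime_pow_singerExp {p a n : ℕ} (hp : p.Prime) (ha : 1 ≤ a) (hn : 1 ≤ n) (e : ℕ) :
    Nat.Coprime (p ^ e) (singerExp (p ^ a) n) := by
  apply Nat.Coprime.pow_left
  rw [hp.coprime_iff_not_dvd]
  intro h
  have hdvd : singerExp (p ^ a) n ∣ geomExp (p ^ a) n := by
    apply Nat.div_dvd_of_dvd
    rw [← gcd_geomExp (Nat.one_le_pow _ _ hp.pos) n]
    exact Nat.gcd_dvd_left _ _
  have h1 : p ∣ (p ^ a) ^ n - 1 := by
    rw [← sub_one_mul_geomExp (Nat.one_le_pow _ _ hp.pos) n]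
    exact (h.trans hdvd).mul_left _
  have h2 : p ∣ (p ^ a) ^ n := dvd_pow (dvd_pow_self p (by omega)) (by omega)
  have h3 := Nat.dvd_sub h2 h1
  rw [Nat.sub_sub_self (Nat.one_le_pow _ _ (Nat.pow_pos hp.pos))] at h3
  exact hp.ne_one (Nat.dvd_one.1 h3)

section
variable {F : Type*} [Field F] [Fintype F] {n r : ℕ}

theorem exists_mul_prime (hr : r.Prime) (x y : Matrix.ProjectiveSpecialLinearGroup (Fin n) F)
    (hc : Commute x y) (hy : orderOf y = r) (hx : ¬ r ∣ orderOf x) :
    ∃ w : Matrix.ProjectiveSpecialLinearGroup (Fin n) F, orderOf w = Nat.lcm (orderOf x) r := by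
  have hco : Nat.Coprime (orderOf x) (orderOf y) := by
    rw [hy, Nat.coprime_comm, hr.coprime_iff_not_dvd]; exact hx
  refine ⟨x * y, ?_⟩
  rw [hc.orderOf_mul_eq_mul_orderOf_of_coprime hco, ← hy, hco.lcm_eq_mul]

end

theorem gcd_decomp {M P A : ℕ} (h : Nat.Coprime P A) (hM : M ∣ P * A) :
    Nat.lcm (M.gcd P) (M.gcd A) = M := by
  have hco : Nat.Coprime (M.gcd P) (M.gcd A) :=
    Nat.Coprime.coprime_dvd_left (Nat.gcd_dvd_right _ _)
      (Nat.Coprime.coprime_dvd_right (Nat.gcd_dvd_right _ _) h)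
  rw [hco.lcm_eq_mul, ← h.gcd_mul, Nat.gcd_eq_left hM]

/-- Let F be a finite field with q = p^a elements, n ≥ 2 (with q ≥ 4 when n = 2), L = PSL(n, F), and let r be a prime dividing q − 1 and not dividing n. Then for every m the direct product L × L × L × (ℤ/r)^m has the same set of element orders as L × L × L; and if n − 1 ≠ p^j for every j ≥ 0 (so never when n = 2, since 1 = p^0), then already L × L × (ℤ/r)^m has the same set of element orders as L × L. -/
theorem result {F : Type*} [Field F] [Fintype F] (p a n r m : ℕ) (hp : p.Prime) (ha : 1 ≤ a) (hF : Fintype.card F = p ^ a)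
    (hn : 2 ≤ n) (hn2 : n = 2 → 4 ≤ Fintype.card F) (hr : r.Prime) (hrq : r ∣ Fintype.card F - 1) (hrn : ¬ r ∣ n) :
    Set.range (orderOf : Matrix.ProjectiveSpecialLinearGroup (Fin n) F × Matrix.ProjectiveSpecialLinearGroup (Fin n) F × Matrix.ProjectiveSpecialLinearGroup (Fin n) F × Multiplicative (Fin m → ZMod r) → ℕ) =
      Set.range (orderOf : Matrix.ProjectiveSpecialLinearGroup (Fin n) F × Matrix.ProjectiveSpecialLinearGroup (Fin n) F × Matrix.ProjectiveSpecialLinearGroup (Fin n) F → ℕ) ∧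
    ((¬ ∃ j : ℕ, n - 1 = p ^ j) →
      Set.range (orderOf : Matrix.ProjectiveSpecialLinearGroup (Fin n) F × Matrix.ProjectiveSpecialLinearGroup (Fin n) F × Multiplicative (Fin m → ZMod r) → ℕ) =
        Set.range (orderOf : Matrix.ProjectiveSpecialLinearGroup (Fin n) F × Matrix.ProjectiveSpecialLinearGroup (Fin n) F → ℕ)) := by
  classical
  haveI := Fact.mk hp
  haveI : NeZero n := ⟨by omega⟩
  haveI := Fact.mk hr
  haveI : CharP F p := by
    obtain ⟨p', hp'⟩ := CharP.exists F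
    obtain ⟨b, hp'', hb⟩ := FiniteField.card F p'
    have : p = p' := by
      have h : p' ∣ p ^ a := by rw [← hF, hb]; exact dvd_pow_self _ b.ne_zero
      exact ((Nat.prime_dvd_prime_iff_eq hp'' hp).1 (hp''.dvd_of_dvd_pow h)).symm
    subst this
    exact hp'
  set L := Matrix.ProjectiveSpecialLinearGroup (Fin n) F
  set E := Nat.clog p n
  set A := singerExp (Fintype.card F) n
  have hPA : Nat.Coprime (p ^ E) A := by
    rw [show A = singerExp (p ^ a) n by simp only [A, hF]]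
    exact coprime_pow_singerExp hp ha (by omega) E
  obtain ⟨gA, hgA⟩ := exists_orderOf_eq_singerExp (F := F) (n := n) (by omega)
  obtain ⟨gU, hgU⟩ := exists_orderOf_eq_unipotent (F := F) p (n := n) (by omega)
  obtain ⟨gB, hgB⟩ := exists_orderOf_eq_block (F := F) p hn hr hrq hrn
  have hz : ∀ z : Multiplicative (Fin m → ZMod r), orderOf z = 1 ∨ orderOf z = r := fun z =>
    (Nat.dvd_prime hr).1 (orderOf_dvd_of_pow_eq_one (pow_multiplicative_zmod_eq_one z))
  have hsplit : ∀ x : L, r ∣ orderOf x ∨ (∃ w : L, orderOf w = Nat.lcm (orderOf x) r) ∨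
      orderOf x ∣ p ^ E * A := by
    intro x
    by_cases hx : r ∣ orderOf x
    · exact Or.inl hx
    obtain ⟨g, rfl⟩ := QuotientGroup.mk_surjective x
    rcases exists_commute_orderOf_or_pow_eq_one p hn hr hrq hrn g with ⟨y, hy, hyr⟩ | h
    · exact Or.inr (Or.inl (exists_mul_prime hr _ y hy hyr hx))
    · exact Or.inr (Or.inr (orderOf_dvd_of_pow_eq_one h))
  constructor
  · ext o
    simp only [Set.mem_range, Prod.exists, Prod.orderOf_mk]
    constructor
    · rintro ⟨x, y, w, z, rfl⟩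
      rcases hz z with hz | hz <;> rw [hz]
      · exact ⟨x, y, w, by simp⟩
      rcases hsplit x with hx | ⟨x', hx⟩ | hx
      · exact ⟨x, y, w, by
          have h : r ∣ Nat.lcm (orderOf x) (Nat.lcm (orderOf y) (orderOf w)) :=
            hx.trans (Nat.dvd_lcm_left _ _)
          simp only [← Nat.lcm_assoc] at h ⊢
          exact (Nat.lcm_eq_left_iff_dvd.2 h).symm⟩
      · exact ⟨x', y, w, by rw [hx]; simp [Nat.lcm_assoc, Nat.lcm_comm, lcm_left_comm']⟩
      rcases hsplit y with hy | ⟨y', hy⟩ | hy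
      · exact ⟨x, y, w, by
          have h : r ∣ Nat.lcm (orderOf x) (Nat.lcm (orderOf y) (orderOf w)) :=
            hy.trans ((Nat.dvd_lcm_left _ _).trans (Nat.dvd_lcm_right _ _))
          simp only [← Nat.lcm_assoc] at h ⊢
          exact (Nat.lcm_eq_left_iff_dvd.2 h).symm⟩
      · exact ⟨x, y', w, by rw [hy]; simp [Nat.lcm_assoc, Nat.lcm_comm, lcm_left_comm']⟩
      rcases hsplit w with hw | ⟨w', hw⟩ | hw
      · exact ⟨x, y, w, by
          have h : r ∣ Nat.lcm (orderOf x) (Nat.lcm (orderOf y) (orderOf w)) :=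
            hw.trans ((Nat.dvd_lcm_right _ _).trans (Nat.dvd_lcm_right _ _))
          simp only [← Nat.lcm_assoc] at h ⊢
          exact (Nat.lcm_eq_left_iff_dvd.2 h).symm⟩
      · exact ⟨x, y, w', by rw [hw]⟩
      set M := Nat.lcm (orderOf x) (Nat.lcm (orderOf y) (orderOf w)) with hM
      have hMd : M ∣ p ^ E * A := Nat.lcm_dvd hx (Nat.lcm_dvd hy hw)
      obtain ⟨a1, ha1⟩ := exists_orderOf_eq_of_dvd_orderOf gU (m := M.gcd (p ^ E))
        (by rw [hgU]; exact Nat.gcd_dvd_right _ _)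
      obtain ⟨a2, ha2⟩ := exists_orderOf_eq_of_dvd_orderOf gA (m := M.gcd A)
        (by rw [hgA]; exact Nat.gcd_dvd_right _ _)
      obtain ⟨a3, ha3⟩ := exists_orderOf_eq_of_dvd_orderOf gB (m := r)
        (by rw [hgB]; exact dvd_mul_left _ _)
      refine ⟨a1, a2, a3, ?_⟩
      rw [ha1, ha2, ha3, ← Nat.lcm_assoc, gcd_decomp hPA hMd, hM]
      simp only [Nat.lcm_assoc]
    · rintro ⟨x, y, w, rfl⟩
      exact ⟨x, y, w, 1, by simp⟩
  · intro hj
    have hE : p ^ E ∣ p ^ Nat.clog p (n - 1) := by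
      apply Nat.pow_dvd_pow
      apply Nat.clog_le_of_le_pow
      have h1 := Nat.le_pow_clog hp.one_lt (n - 1)
      have h2 : n - 1 ≠ p ^ Nat.clog p (n - 1) := fun h => hj ⟨_, h⟩
      omega
    ext o
    simp only [Set.mem_range, Prod.exists, Prod.orderOf_mk]
    constructor
    · rintro ⟨x, y, z, rfl⟩
      rcases hz z with hz | hz <;> rw [hz]
      · exact ⟨x, y, by simp⟩
      rcases hsplit x with hx | ⟨x', hx⟩ | hx
      · exact ⟨x, y, by
          have h : r ∣ Nat.lcm (orderOf x) (orderOf y) := hx.trans (Nat.dvd_lcm_left _ _)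
          rw [← Nat.lcm_assoc]
          exact (Nat.lcm_eq_left_iff_dvd.2 h).symm⟩
      · exact ⟨x', y, by rw [hx]; simp [Nat.lcm_assoc, Nat.lcm_comm, lcm_left_comm']⟩
      rcases hsplit y with hy | ⟨y', hy⟩ | hy
      · exact ⟨x, y, by
          have h : r ∣ Nat.lcm (orderOf x) (orderOf y) := hy.trans (Nat.dvd_lcm_right _ _)
          rw [← Nat.lcm_assoc]
          exact (Nat.lcm_eq_left_iff_dvd.2 h).symm⟩
      · exact ⟨x, y', by rw [hy]⟩
      set M := Nat.lcm (orderOf x) (orderOf y) with hM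
      have hMd : M ∣ p ^ E * A := Nat.lcm_dvd hx hy
      obtain ⟨a1, ha1⟩ := exists_orderOf_eq_of_dvd_orderOf gB (m := Nat.lcm (M.gcd (p ^ E)) r)
        (by rw [hgB]; exact (Nat.lcm_dvd ((((Nat.gcd_dvd_right _ _).trans hE)).trans (dvd_mul_right _ _))
          (dvd_mul_left _ _)))
      obtain ⟨a2, ha2⟩ := exists_orderOf_eq_of_dvd_orderOf gA (m := M.gcd A)
        (by rw [hgA]; exact Nat.gcd_dvd_right _ _)
      refine ⟨a1, a2, ?_⟩
      rw [ha1, ha2, Nat.lcm_assoc, Nat.lcm_comm r, ← Nat.lcm_assoc, gcd_decomp hPA hMd, hM]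
      rw [Nat.lcm_assoc]
    · rintro ⟨x, y, rfl⟩
      exact ⟨x, y, 1, by simp⟩

end Cfsg.Agent.S2510
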