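import Cfsg.Statements.S2511
import Cfsg.Agent.Lib.Spectrum.UnitaryBound

set_option autoImplicit false
open Cfsg

namespace Cfsg.Agent.S2511

open CfsgLib.Spectrum

theorem lcm_left_comm' (a b c : ℕ) : Nat.lcm a (Nat.lcm b c) = Nat.lcm b (Nat.lcm a c) := by
  rw [← Nat.lcm_assoc, Nat.lcm_comm a b, Nat.lcm_assoc]

theorem pow_multiplicative_zmod_eq_one {r m : ℕ} (z : Multiplicative (Fin m → ZMod r)) : z ^ r = 1 := by
  apply Multiplicative.toAdd.injective
  rw [toAdd_pow, toAdd_one]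
  funext i
  simp

theorem exists_mul_prime {G : Type*} [Group G] {r : ℕ} (hr : r.Prime) (x y : G)
    (hc : Commute x y) (hy : orderOf y = r) (hx : ¬ r ∣ orderOf x) :
    ∃ w : G, orderOf w = Nat.lcm (orderOf x) r := by
  have hco : Nat.Coprime (orderOf x) (orderOf y) := by
    rw [hy, Nat.coprime_comm, hr.coprime_iff_not_dvd]; exact hx
  refine ⟨x * y, ?_⟩
  rw [hc.orderOf_mul_eq_mul_orderOf_of_coprime hco, ← hy, hco.lcm_eq_mul]

theorem gcd_decomp {M P A : ℕ} (h : Nat.Coprime P A) (hM : M ∣ P * A) :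
    Nat.lcm (M.gcd P) (M.gcd A) = M := by
  have hco : Nat.Coprime (M.gcd P) (M.gcd A) :=
    Nat.Coprime.coprime_dvd_left (Nat.gcd_dvd_right _ _)
      (Nat.Coprime.coprime_dvd_right (Nat.gcd_dvd_right _ _) h)
  rw [hco.lcm_eq_mul, ← h.gcd_mul, Nat.gcd_eq_left hM]


/-- Let F be a finite field with q² elements, q = p^a, n ≥ 3 with (n, q) ≠ (3, 2), L = PSU(n, q) realised over F, and let r be a prime dividing q + 1 and not dividing n. Then for every m the direct product L × L × L × (ℤ/r)^m has the same set of element orders as L × L × L; and if n − 1 is not a power of p, then already L × L × (ℤ/r)^m has the same set of element orders as L × L. -/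
theorem result {F : Type*} [Field F] [Fintype F] (p a n q r m : ℕ) (hp : p.Prime) (ha : 1 ≤ a) (hq : q = p ^ a) (hF : Fintype.card F = q ^ 2)
    (hn : 3 ≤ n) (hn3 : ¬ (n = 3 ∧ q = 2)) (hr : r.Prime) (hrq : r ∣ q + 1) (hrn : ¬ r ∣ n) :
    Set.range (orderOf : Cfsg.PSU n F q × Cfsg.PSU n F q × Cfsg.PSU n F q × Multiplicative (Fin m → ZMod r) → ℕ) = Set.range (orderOf : Cfsg.PSU n F q × Cfsg.PSU n F q × Cfsg.PSU n F q → ℕ) ∧
    ((¬ ∃ j : ℕ, n - 1 = p ^ j) →
      Set.range (orderOf : Cfsg.PSU n F q × Cfsg.PSU n F q × Multiplicative (Fin m → ZMod r) → ℕ) = Set.range (orderOf : Cfsg.PSU n F q × Cfsg.PSU n F q → ℕ)) := by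
  classical
  haveI := Fact.mk hp
  haveI : NeZero n := ⟨by omega⟩
  haveI := Fact.mk hr
  haveI : CharP F p := by
    obtain ⟨p', hp'⟩ := CharP.exists F
    obtain ⟨b, hp'', hb⟩ := FiniteField.card F p'
    have : p = p' := by
      have h : p' ∣ (p ^ a) ^ 2 := by rw [← hq, ← hF, hb]; exact dvd_pow_self _ b.ne_zero
      exact ((Nat.prime_dvd_prime_iff_eq hp'' hp).1 (hp''.dvd_of_dvd_pow (hp''.dvd_of_dvd_pow h))).symm
    subst this
    exact hp'
  subst hq
  set L := Cfsg.PSU n F (p ^ a)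
  set E := Nat.clog p n
  set A := singerExpU (p ^ a) n
  have hPA : Nat.Coprime (p ^ E) A := by
    exact coprime_pow_singerExpU hp ha (by omega) E
  obtain ⟨gA, hgA⟩ := exists_orderOf_eq_singerExpU p a hF hn
  obtain ⟨gU, hgU⟩ := exists_orderOf_eq_unipotentU p a hF hn
  obtain ⟨gB, hgB⟩ := exists_orderOf_eq_blockU p a hF hn hr hrq hrn
  have hz : ∀ z : Multiplicative (Fin m → ZMod r), orderOf z = 1 ∨ orderOf z = r := fun z =>
    (Nat.dvd_prime hr).1 (orderOf_dvd_of_pow_eq_one (pow_multiplicative_zmod_eq_one z))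
  have hsplit : ∀ x : L, r ∣ orderOf x ∨ (∃ w : L, orderOf w = Nat.lcm (orderOf x) r) ∨
      orderOf x ∣ p ^ E * A := by
    intro x
    by_cases hx : r ∣ orderOf x
    · exact Or.inl hx
    obtain ⟨g, rfl⟩ := QuotientGroup.mk_surjective x
    rcases exists_commute_orderOf_or_pow_eq_oneU p a hF hn hr hrq hrn g with ⟨y, hy, hyr⟩ | h
    · exact Or.inr (Or.inl (exists_mul_prime hr _ y hy hyr hx))
    · exact Or.inr (Or.inr (orderOf_dvd_of_pow_eq_one h))
  constructor
  · ext o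
    simp only [Set.mem_range, Prod.exists, Prod.orderOf_mk]
    constructor
    · rintro ⟨x, y, w, z, rfl⟩
      rcases hz z with hz | hz <;> rw [hz]
      · exact ⟨x, y, w, by simp⟩
      rcases hsplit x with hx | ⟨x', hx⟩ | hx
      · exact ⟨x, y, w, by
          have h : r ∣ Nat.lcm (orderOf x) (Nat.lcm (orderOf y) (orderOf w)) :=
            hx.trans (Nat.dvd_lcm_left _ _)
          simp only [← Nat.lcm_assoc] at h ⊢
          exact (Nat.lcm_eq_left_iff_dvd.2 h).symm⟩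
      · exact ⟨x', y, w, by rw [hx]; simp [Nat.lcm_assoc, Nat.lcm_comm, lcm_left_comm']⟩
      rcases hsplit y with hy | ⟨y', hy⟩ | hy
      · exact ⟨x, y, w, by
          have h : r ∣ Nat.lcm (orderOf x) (Nat.lcm (orderOf y) (orderOf w)) :=
            hy.trans ((Nat.dvd_lcm_left _ _).trans (Nat.dvd_lcm_right _ _))
          simp only [← Nat.lcm_assoc] at h ⊢
          exact (Nat.lcm_eq_left_iff_dvd.2 h).symm⟩
      · exact ⟨x, y', w, by rw [hy]; simp [Nat.lcm_assoc, Nat.lcm_comm, lcm_left_comm']⟩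
      rcases hsplit w with hw | ⟨w', hw⟩ | hw
      · exact ⟨x, y, w, by
          have h : r ∣ Nat.lcm (orderOf x) (Nat.lcm (orderOf y) (orderOf w)) :=
            hw.trans ((Nat.dvd_lcm_right _ _).trans (Nat.dvd_lcm_right _ _))
          simp only [← Nat.lcm_assoc] at h ⊢
          exact (Nat.lcm_eq_left_iff_dvd.2 h).symm⟩
      · exact ⟨x, y, w', by rw [hw]⟩
      set M := Nat.lcm (orderOf x) (Nat.lcm (orderOf y) (orderOf w)) with hM
      have hMd : M ∣ p ^ E * A := Nat.lcm_dvd hx (Nat.lcm_dvd hy hw)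
      obtain ⟨a1, ha1⟩ := exists_orderOf_eq_of_dvd_orderOf gU (m := M.gcd (p ^ E))
        (by rw [hgU]; exact Nat.gcd_dvd_right _ _)
      obtain ⟨a2, ha2⟩ := exists_orderOf_eq_of_dvd_orderOf gA (m := M.gcd A)
        (by rw [hgA]; exact Nat.gcd_dvd_right _ _)
      obtain ⟨a3, ha3⟩ := exists_orderOf_eq_of_dvd_orderOf gB (m := r)
        (by rw [hgB]; exact dvd_mul_left _ _)
      refine ⟨a1, a2, a3, ?_⟩
      rw [ha1, ha2, ha3, ← Nat.lcm_assoc, gcd_decomp hPA hMd, hM]
      simp only [Nat.lcm_assoc]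
    · rintro ⟨x, y, w, rfl⟩
      exact ⟨x, y, w, 1, by simp⟩
  · intro hj
    have hE : p ^ E ∣ p ^ Nat.clog p (n - 1) := by
      apply Nat.pow_dvd_pow
      apply Nat.clog_le_of_le_pow
      have h1 := Nat.le_pow_clog hp.one_lt (n - 1)
      have h2 : n - 1 ≠ p ^ Nat.clog p (n - 1) := fun h => hj ⟨_, h⟩
      omega
    ext o
    simp only [Set.mem_range, Prod.exists, Prod.orderOf_mk]
    constructor
    · rintro ⟨x, y, z, rfl⟩
      rcases hz z with hz | hz <;> rw [hz]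
      · exact ⟨x, y, by simp⟩
      rcases hsplit x with hx | ⟨x', hx⟩ | hx
      · exact ⟨x, y, by
          have h : r ∣ Nat.lcm (orderOf x) (orderOf y) := hx.trans (Nat.dvd_lcm_left _ _)
          rw [← Nat.lcm_assoc]
          exact (Nat.lcm_eq_left_iff_dvd.2 h).symm⟩
      · exact ⟨x', y, by rw [hx]; simp [Nat.lcm_assoc, Nat.lcm_comm, lcm_left_comm']⟩
      rcases hsplit y with hy | ⟨y', hy⟩ | hy
      · exact ⟨x, y, by
          have h : r ∣ Nat.lcm (orderOf x) (orderOf y) := hy.trans (Nat.dvd_lcm_right _ _)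
          rw [← Nat.lcm_assoc]
          exact (Nat.lcm_eq_left_iff_dvd.2 h).symm⟩
      · exact ⟨x, y', by rw [hy]⟩
      set M := Nat.lcm (orderOf x) (orderOf y) with hM
      have hMd : M ∣ p ^ E * A := Nat.lcm_dvd hx hy
      obtain ⟨a1, ha1⟩ := exists_orderOf_eq_of_dvd_orderOf gB (m := Nat.lcm (M.gcd (p ^ E)) r)
        (by rw [hgB]; exact (Nat.lcm_dvd ((((Nat.gcd_dvd_right _ _).trans hE)).trans (dvd_mul_right _ _))
          (dvd_mul_left _ _)))
      obtain ⟨a2, ha2⟩ := exists_orderOf_eq_of_dvd_orderOf gA (m := M.gcd A)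
        (by rw [hgA]; exact Nat.gcd_dvd_right _ _)
      refine ⟨a1, a2, ?_⟩
      rw [ha1, ha2, Nat.lcm_assoc, Nat.lcm_comm r, ← Nat.lcm_assoc, gcd_decomp hPA hMd, hM]
      rw [Nat.lcm_assoc]
    · rintro ⟨x, y, rfl⟩
      exact ⟨x, y, 1, by simp⟩

end Cfsg.Agent.S2511
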