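import Cfsg.Statements.S2512
import Cfsg.Agent.Lib.Spectrum.SympBound

set_option autoImplicit false
open Cfsg

namespace Cfsg.Agent.S2512

open CfsgLib.Spectrum

theorem orderOf_dvd_two {m : ℕ} (z : Multiplicative (Fin m → ZMod 2)) : orderOf z ∣ 2 := by
  apply orderOf_dvd_of_pow_eq_one
  apply Multiplicative.toAdd.injective
  rw [toAdd_pow, toAdd_one]
  funext i
  simp [CharTwo.add_self_eq_zero, two_smul]

theorem range_eq_of_absorb {A B : Type*} [Group A] [Finite A] [Group B] (m : ℕ)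
    (φ : B → A × Multiplicative (Fin m → ZMod 2)) (hφ : Function.Surjective φ)
    (hord : ∀ b, orderOf b = orderOf (φ b))
    (h : ∀ x : A, Odd (orderOf x) → ∃ y : A, 2 * orderOf x ∣ orderOf y) :
    Set.range (orderOf : B → ℕ) = Set.range (orderOf : A → ℕ) := by
  ext N
  constructor
  · rintro ⟨b, rfl⟩
    rw [hord]
    obtain ⟨x, z⟩ := φ b
    rw [Prod.orderOf_mk]
    rcases Nat.even_or_odd (orderOf x) with he | ho
    · exact ⟨x, (Nat.lcm_eq_left ((orderOf_dvd_two z).trans he.two_dvd)).symm⟩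
    · obtain ⟨y, hy⟩ := h x ho
      exact exists_orderOf_eq_of_dvd_orderOf y ((Nat.lcm_dvd (dvd_mul_left _ _)
        ((orderOf_dvd_two z).trans (dvd_mul_right _ _))).trans hy)
  · rintro ⟨x, rfl⟩
    obtain ⟨b, hb⟩ := hφ (x, 1)
    exact ⟨b, by rw [hord, hb, Prod.orderOf_mk, orderOf_one, Nat.lcm_one_right]⟩

theorem two_dvd_or {Q : ℕ} (h : Odd Q) : 2 ∣ (Q + 1) / 2 ∨ 2 ∣ (Q - 1) / 2 := by
  obtain ⟨r, rfl⟩ := h
  omega

theorem two_mul_dvd {o N : ℕ} (ho : Odd o) (h : o ∣ N) (h2 : 2 ∣ N) : 2 * o ∣ N :=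
  (Nat.coprime_two_left.2 ho).mul_dvd_of_dvd_of_dvd h2 h

theorem clog_eq_clog_sub {p n : ℕ} (hp : p.Prime) (hp2 : p ≠ 2) (hn : 2 ≤ n)
    (hnj : ¬ ∃ j, 2 * n - 1 = p ^ j) :
    Nat.clog p (n + n) = Nat.clog p ((n - 1) + (n - 1)) := by
  refine le_antisymm (Nat.clog_le_of_le_pow ?_) (Nat.clog_mono_right p (by omega))
  have h := Nat.le_pow_clog hp.one_lt ((n - 1) + (n - 1))
  obtain ⟨r, hr⟩ : Odd (p ^ Nat.clog p ((n - 1) + (n - 1))) := (hp.odd_of_ne_two hp2).pow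
  have h1 : p ^ Nat.clog p ((n - 1) + (n - 1)) ≠ 2 * n - 1 := fun h' => hnj ⟨_, h'.symm⟩
  omega


/-- Let F be a finite field of odd order q = p^a, n ≥ 2 (with q ≥ 3 automatic), and L = PSp(2n, F). Then for every m the direct product L × L × L × (ℤ/2)^m has the same set of element orders as L × L × L; and if 2n − 1 is not a power of p, then already L × L × (ℤ/2)^m has the same set of element orders as L × L. -/
theorem result {F : Type*} [Field F] [Fintype F] (p a n m : ℕ) (hp : p.Prime) (ha : 1 ≤ a) (hF : Fintype.card F = p ^ a) (hodd : Odd (Fintype.card F))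
    (hn : 2 ≤ n) :
    Set.range (orderOf : Cfsg.PSp n F × Cfsg.PSp n F × Cfsg.PSp n F × Multiplicative (Fin m → ZMod 2) → ℕ) = Set.range (orderOf : Cfsg.PSp n F × Cfsg.PSp n F × Cfsg.PSp n F → ℕ) ∧
    ((¬ ∃ j : ℕ, 2 * n - 1 = p ^ j) →
      Set.range (orderOf : Cfsg.PSp n F × Cfsg.PSp n F × Multiplicative (Fin m → ZMod 2) → ℕ) = Set.range (orderOf : Cfsg.PSp n F × Cfsg.PSp n F → ℕ)) := by
  classical
  haveI := Fact.mk hp
  haveI : CharP F p := by
    obtain ⟨p', hp'⟩ := CharP.exists F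
    obtain ⟨b, hp'', hb⟩ := FiniteField.card F p'
    have : p = p' := by
      have h : p' ∣ p ^ a := by rw [← hF, hb]; exact dvd_pow_self _ b.ne_zero
      exact ((Nat.prime_dvd_prime_iff_eq hp'' hp).1 (hp''.dvd_of_dvd_pow h)).symm
    rwa [this]
  have hp2 : p ≠ 2 := by
    rintro rfl
    exact (Nat.not_odd_iff_even.2 (even_iff_two_dvd.2 (hF ▸ dvd_pow_self 2 (by omega)))) hodd
  have h2 : (2 : F) ≠ 0 := by
    intro h
    have : p ∣ 2 := (CharP.cast_eq_zero_iff F p 2).1 (by exact_mod_cast h)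
    exact hp2 ((Nat.prime_dvd_prime_iff_eq hp Nat.prime_two).1 this)
  have dich := fun (g : Cfsg.PSp n F) (h : Odd (orderOf g)) =>
    exists_orderOf_two_mul_or_dvd p h2 (show 1 ≤ n by omega) g h
  obtain ⟨⟨gp, hgp⟩, ⟨gm, hgm⟩⟩ := exists_orderOf_torus (F := F) p (show 1 ≤ n by omega) h2
  obtain ⟨gu, hgu⟩ := exists_orderOf_unipotent (F := F) p (show 1 ≤ n by omega) h2
  have heven := two_dvd_or (hodd.pow (n := n))
  have hdl := Nat.dvd_lcm_left
  have hdr := Nat.dvd_lcm_right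
  constructor
  · refine range_eq_of_absorb m
      (fun b : Cfsg.PSp n F × Cfsg.PSp n F × Cfsg.PSp n F × Multiplicative (Fin m → ZMod 2) =>
        ((b.1, b.2.1, b.2.2.1), b.2.2.2))
      (fun ⟨⟨x, y, w⟩, z⟩ => ⟨(x, y, w, z), rfl⟩)
      (fun b => by simp only [Prod.orderOf, Nat.lcm_assoc]) ?_
    rintro ⟨x1, x2, x3⟩ hx
    simp only [Prod.orderOf] at hx
    have ho1 := hx.of_dvd_nat (hdl (orderOf x1) _)
    have ho2 := hx.of_dvd_nat ((hdl (orderOf x2) _).trans (hdr _ _))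
    have ho3 := hx.of_dvd_nat ((hdr _ (orderOf x3)).trans (hdr _ _))
    suffices ∃ u : Cfsg.PSp n F × Cfsg.PSp n F × Cfsg.PSp n F, orderOf x1 ∣ orderOf u ∧
        orderOf x2 ∣ orderOf u ∧ orderOf x3 ∣ orderOf u ∧ 2 ∣ orderOf u by
      obtain ⟨u, h1, h2', h3, h4⟩ := this
      refine ⟨u, two_mul_dvd ?_ ?_ h4⟩
      · simpa [Prod.orderOf] using hx
      · rw [Prod.orderOf_mk, Prod.orderOf_mk]; exact Nat.lcm_dvd h1 (Nat.lcm_dvd h2' h3)
    rcases dich x1 ho1 with ⟨y, hy⟩ | h1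
    · refine ⟨(y, x2, x3), ?_⟩
      simp only [Prod.orderOf]
      exact ⟨((dvd_mul_left _ 2).trans hy).trans (hdl _ _), (hdl _ _).trans (hdr _ _),
        (hdr _ _).trans (hdr _ _), ((dvd_mul_right 2 _).trans hy).trans (hdl _ _)⟩
    rcases dich x2 ho2 with ⟨y, hy⟩ | h2'
    · refine ⟨(x1, y, x3), ?_⟩
      simp only [Prod.orderOf]
      exact ⟨hdl _ _, ((dvd_mul_left _ 2).trans hy).trans ((hdl _ _).trans (hdr _ _)),
        (hdr _ _).trans (hdr _ _), ((dvd_mul_right 2 _).trans hy).trans ((hdl _ _).trans (hdr _ _))⟩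
    rcases dich x3 ho3 with ⟨y, hy⟩ | h3
    · refine ⟨(x1, x2, y), ?_⟩
      simp only [Prod.orderOf]
      exact ⟨hdl _ _, (hdl _ _).trans (hdr _ _),
        ((dvd_mul_left _ 2).trans hy).trans ((hdr _ _).trans (hdr _ _)),
        ((dvd_mul_right 2 _).trans hy).trans ((hdr _ _).trans (hdr _ _))⟩
    refine ⟨(gu, gp, gm), ?_⟩
    simp only [Prod.orderOf, hgu, hgp, hgm]
    have conv : ∀ o : ℕ, (o ∣ p ^ Nat.clog p (n + n) ∨ o ∣ (Fintype.card F ^ n + 1) / 2 ∨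
        o ∣ (Fintype.card F ^ n - 1) / 2) →
        o ∣ Nat.lcm (p ^ Nat.clog p (n + n)) (Nat.lcm ((Fintype.card F ^ n + 1) / 2)
          ((Fintype.card F ^ n - 1) / 2)) := by
      rintro o (h | h | h)
      · exact h.trans (hdl _ _)
      · exact h.trans ((hdl _ _).trans (hdr _ _))
      · exact h.trans ((hdr _ _).trans (hdr _ _))
    refine ⟨conv _ h1, conv _ h2', conv _ h3, ?_⟩
    rcases heven with h | h
    · exact h.trans ((hdl _ _).trans (hdr _ _))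
    · exact h.trans ((hdr _ _).trans (hdr _ _))
  · intro hnj
    obtain ⟨g2, hg2⟩ := exists_orderOf_mixed (F := F) (n := n) (d := 1) (T := 1) p h2 le_rfl (by omega)
      (Or.inl (one_dvd _)) odd_one
    rw [mul_one, ← clog_eq_clog_sub hp hp2 hn hnj] at hg2
    refine range_eq_of_absorb m
      (fun b : Cfsg.PSp n F × Cfsg.PSp n F × Multiplicative (Fin m → ZMod 2) => ((b.1, b.2.1), b.2.2))
      (fun ⟨⟨x, y⟩, z⟩ => ⟨(x, y, z), rfl⟩)
      (fun b => by simp only [Prod.orderOf, Nat.lcm_assoc]) ?_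
    rintro ⟨x1, x2⟩ hx
    simp only [Prod.orderOf] at hx
    have ho1 := hx.of_dvd_nat (hdl (orderOf x1) _)
    have ho2 := hx.of_dvd_nat (hdr _ (orderOf x2))
    suffices ∃ u : Cfsg.PSp n F × Cfsg.PSp n F, orderOf x1 ∣ orderOf u ∧
        orderOf x2 ∣ orderOf u ∧ 2 ∣ orderOf u by
      obtain ⟨u, h1, h2', h4⟩ := this
      refine ⟨u, two_mul_dvd ?_ ?_ h4⟩
      · simpa [Prod.orderOf] using hx
      · rw [Prod.orderOf_mk]; exact Nat.lcm_dvd h1 h2'
    rcases dich x1 ho1 with ⟨y, hy⟩ | h1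
    · refine ⟨(y, x2), ?_⟩
      simp only [Prod.orderOf]
      exact ⟨((dvd_mul_left _ 2).trans hy).trans (hdl _ _), hdr _ _,
        ((dvd_mul_right 2 _).trans hy).trans (hdl _ _)⟩
    rcases dich x2 ho2 with ⟨y, hy⟩ | h2'
    · refine ⟨(x1, y), ?_⟩
      simp only [Prod.orderOf]
      exact ⟨hdl _ _, ((dvd_mul_left _ 2).trans hy).trans (hdr _ _),
        ((dvd_mul_right 2 _).trans hy).trans (hdr _ _)⟩
    have key : ∀ o o' : ℕ, o ∣ p ^ Nat.clog p (n + n) →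
        (o' ∣ p ^ Nat.clog p (n + n) ∨ o' ∣ (Fintype.card F ^ n + 1) / 2 ∨
          o' ∣ (Fintype.card F ^ n - 1) / 2) →
        ∃ u : Cfsg.PSp n F × Cfsg.PSp n F, o ∣ orderOf u ∧ o' ∣ orderOf u ∧ 2 ∣ orderOf u := by
      intro o o' h h'
      have ho := h.trans ((dvd_mul_left _ 2).trans hg2)
      have h2g := (dvd_mul_right 2 _).trans hg2
      rcases h' with h' | h' | h'
      · exact ⟨(g2, g2), by simp only [Prod.orderOf, Nat.lcm_self]; exact
          ⟨ho, h'.trans ((dvd_mul_left _ 2).trans hg2), h2g⟩⟩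
      · exact ⟨(g2, gp), by simp only [Prod.orderOf, hgp]; exact
          ⟨ho.trans (hdl _ _), h'.trans (hdr _ _), h2g.trans (hdl _ _)⟩⟩
      · exact ⟨(g2, gm), by simp only [Prod.orderOf, hgm]; exact
          ⟨ho.trans (hdl _ _), h'.trans (hdr _ _), h2g.trans (hdl _ _)⟩⟩
    rcases h1 with h1 | h1
    · exact key _ _ h1 h2'
    rcases h2' with h2' | h2'
    · obtain ⟨u, a', b', c'⟩ := key _ _ h2' (Or.inr h1)
      exact ⟨u, b', a', c'⟩
    refine ⟨(gp, gm), ?_⟩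
    simp only [Prod.orderOf, hgp, hgm]
    refine ⟨?_, ?_, ?_⟩
    · exact h1.elim (fun h => h.trans (hdl _ _)) (fun h => h.trans (hdr _ _))
    · exact h2'.elim (fun h => h.trans (hdl _ _)) (fun h => h.trans (hdr _ _))
    · exact heven.elim (fun h => h.trans (hdl _ _)) (fun h => h.trans (hdr _ _))

end Cfsg.Agent.S2512
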