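import Cfsg.Statements.S2513
import Cfsg.Agent.Lib.Spectrum.LinearBound

set_option autoImplicit false
open Cfsg

namespace Cfsg.Agent.S2513

open CfsgLib.Spectrum in
theorem exists_orderOf_mersenne {F : Type*} [Field F] [Fintype F] (hF : Fintype.card F = 2)
    {n d : ℕ} (hd : 1 ≤ d) (hdn : d ≤ n) :
    ∃ g : Matrix.ProjectiveSpecialLinearGroup (Fin n) F, orderOf g = 2 ^ d - 1 := by
  obtain ⟨p, hp⟩ := CharP.exists F
  obtain ⟨a, hprime, -⟩ := FiniteField.card F p
  have := Fact.mk hprime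
  have : NeZero d := ⟨by omega⟩
  obtain ⟨γ, hγ⟩ := IsCyclic.exists_ofOrder_eq_natCard (α := (FiniteField.Extension F p d)ˣ)
  rw [Nat.card_units, FiniteField.natCard_extension, Nat.card_eq_fintype_card, hF] at hγ
  have hfin : Module.finrank F (FiniteField.Extension F p d × (Fin (n - d) → F)) = n := by
    rw [Module.finrank_prod, FiniteField.finrank_extension, Module.finrank_fin_fun]; omega
  set x : FiniteField.Extension F p d × (Fin (n - d) → F) := ((γ : _), 1)
  have hxu : IsUnit x := Prod.isUnit_iff.2 ⟨γ.isUnit, isUnit_one⟩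
  have hone : ∀ c : F, IsUnit c → c = 1 := fun c hc => by
    simpa [hF] using FiniteField.pow_card_sub_one_eq_one c hc.ne_zero
  obtain ⟨g, hg⟩ := exists_psl_of_algebra hfin x (hone _ (hxu.map (Algebra.norm F)))
  refine ⟨g, orderOf_eq_of_pow_iff g fun k => ?_⟩
  rw [hg k, ← hγ, orderOf_dvd_iff_pow_eq_one]
  constructor
  · rintro ⟨c, hc⟩
    have h1 := congrArg Prod.fst hc
    have hc' : IsUnit c := by
      rw [isUnit_iff_ne_zero]
      rintro rfl
      exact (pow_ne_zero k γ.ne_zero) (by simpa [x] using h1)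
    rw [hone c hc', map_one] at h1
    exact Units.ext (by simpa [x] using h1)
  · intro h
    refine ⟨1, ?_⟩
    ext
    · simpa [x] using congrArg Units.val h
    · simp [x]

theorem range_orderOf_eq {F : Type*} [Field F] [Fintype F] (hF : Fintype.card F = 2) (n k : ℕ)
    (hn : 2 ≤ n) (hk : (n + 3) / 2 ≤ k) :
    Set.range (orderOf : (Fin k → Matrix.ProjectiveSpecialLinearGroup (Fin n) F) → ℕ) =
      {o | o ∣ (Finset.Icc 1 n).lcm (fun d => 2 ^ d - 1) * 2 ^ Nat.clog 2 n} := by
  obtain ⟨p, hp⟩ := CharP.exists F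
  obtain ⟨a, hprime, hcard⟩ := FiniteField.card F p
  have hp2 : p = 2 := (Nat.prime_dvd_prime_iff_eq hprime Nat.prime_two).1
    (hF ▸ hcard ▸ dvd_pow_self p a.ne_zero)
  subst hp2
  have := Fact.mk hprime
  have : NeZero n := ⟨by omega⟩
  set L := (Finset.Icc 1 n).lcm (fun d => 2 ^ d - 1)
  set E := Nat.clog 2 n
  apply Set.ext
  intro o
  constructor
  · rintro ⟨x, rfl⟩
    refine orderOf_dvd_of_pow_eq_one (funext fun j => ?_)
    obtain ⟨g, hg⟩ := QuotientGroup.mk_surjective (x j)
    show x j ^ _ = 1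
    rw [← hg, CfsgLib.Spectrum.pslMk_pow_eq_one_iff]
    refine ⟨1, ?_⟩
    rw [map_one]
    exact CfsgLib.Spectrum.coe_pow_eq_one_of_forall_dvd 2 g L fun d h1 h2 => by
      rw [hF]; exact Finset.dvd_lcm (f := fun d => 2 ^ d - 1) (Finset.mem_Icc.2 ⟨h1, h2⟩)
  · intro ho
    obtain ⟨u, hu⟩ := CfsgLib.Spectrum.exists_orderOf_eq_unipotent (F := F) 2 (by omega : 1 ≤ n)
    have hs : ∀ d, ∃ g : Matrix.ProjectiveSpecialLinearGroup (Fin n) F,
        1 ≤ d → d ≤ n → orderOf g = 2 ^ d - 1 := fun d => by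
      by_cases h : 1 ≤ d ∧ d ≤ n
      · obtain ⟨g, hg⟩ := exists_orderOf_mersenne hF h.1 h.2
        exact ⟨g, fun _ _ => hg⟩
      · exact ⟨1, fun h1 h2 => absurd ⟨h1, h2⟩ h⟩
    choose s hs using hs
    let y : Fin k → Matrix.ProjectiveSpecialLinearGroup (Fin n) F :=
      fun j => if (j : ℕ) = 0 then u else s (n / 2 + j)
    have hy : ∀ j : Fin k, orderOf (y j) ∣ orderOf y := fun j =>
      orderOf_dvd_of_pow_eq_one (congrFun (pow_orderOf_eq_one y) j)
    have hdvd : L * 2 ^ E ∣ orderOf y := by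
      apply Nat.Coprime.mul_dvd_of_dvd_of_dvd
      · apply Nat.Coprime.pow_right
        apply Nat.Coprime.coprime_dvd_left (Finset.lcm_dvd fun i hi => Finset.dvd_prod_of_mem (fun d => 2 ^ d - 1) hi)
        apply Nat.Coprime.prod_left
        intro d hd
        have hd1 := (Finset.mem_Icc.1 hd).1
        rw [Nat.coprime_two_right, Nat.odd_sub (Nat.one_le_two_pow)]
        simp [Nat.even_pow, show d ≠ 0 by omega]
      · apply Finset.lcm_dvd
        intro d hd
        obtain ⟨hd1, hd2⟩ := Finset.mem_Icc.1 hd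
        obtain ⟨q, hq⟩ : ∃ q, q = n / d := ⟨_, rfl⟩
        have h1 : d * q ≤ n := by rw [hq]; exact Nat.mul_div_le n d
        have h2 : n < d * q + d := by
          rw [hq]
          have := Nat.lt_mul_div_succ n (show 0 < d by omega)
          rwa [Nat.mul_add, Nat.mul_one] at this
        have h4 : 1 ≤ q := by rw [hq]; exact Nat.div_pos hd2 (by omega)
        have h3 : d ≤ d * q := Nat.le_mul_of_pos_right d h4
        obtain ⟨j, hj⟩ : ∃ j, j = d * q - n / 2 := ⟨_, rfl⟩
        have hjk : j < k := by omega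
        have hj0 : j ≠ 0 := by omega
        have := hy ⟨j, hjk⟩
        simp only [y, hj0, if_false] at this
        rw [hs (n / 2 + j) (by omega) (by omega), show n / 2 + j = d * q by omega] at this
        exact (Nat.pow_sub_one_dvd_pow_sub_one _ (Dvd.intro q rfl)).trans this
      · have := hy ⟨0, by omega⟩
        simpa [y, hu] using this
    obtain ⟨z, hz⟩ := CfsgLib.Spectrum.exists_orderOf_eq_of_dvd_orderOf y (ho.trans hdvd)
    exact ⟨z, hz⟩

/-- Let F be the field with two elements, n ≥ 2, L = PSL(n, F) and k₀ = ⌊(n + 3)/2⌋. Then for every k ≥ k₀ the direct product of k copies of L has the same set of element orders as the direct product of k₀ copies of L. -/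
theorem result {F : Type*} [Field F] [Fintype F] (hF : Fintype.card F = 2) (n k : ℕ) (hn : 2 ≤ n) (hk : (n + 3) / 2 ≤ k) :
    Set.range (orderOf : (Fin k → Matrix.ProjectiveSpecialLinearGroup (Fin n) F) → ℕ) = Set.range (orderOf : (Fin ((n + 3) / 2) → Matrix.ProjectiveSpecialLinearGroup (Fin n) F) → ℕ) := by
  rw [range_orderOf_eq hF n k hn hk, range_orderOf_eq hF n _ hn le_rfl]

end Cfsg.Agent.S2513
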