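import Cfsg.Statements.S2514
import Mathlib.GroupTheory.OrderOfElement
import Mathlib.Data.Set.Card

set_option autoImplicit false
open Cfsg

namespace Cfsg.Agent.S2514

theorem exists_max_dvd {G : Type*} [Group G] [Finite G] (x : G) :
    ∃ n ∈ {n : ℕ | n ∈ Set.range (orderOf : G → ℕ) ∧ ∀ m ∈ Set.range (orderOf : G → ℕ), n ∣ m → m = n},
      orderOf x ∣ n := by
  classical
  haveI := Fintype.ofFinite G
  obtain ⟨y, hy, hmax⟩ := Finset.exists_max_image (Finset.univ.filter fun y => orderOf x ∣ orderOf y)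
    orderOf ⟨x, by simp⟩
  simp only [Finset.mem_filter, Finset.mem_univ, true_and] at hy hmax
  refine ⟨orderOf y, ⟨⟨y, rfl⟩, ?_⟩, hy⟩
  rintro m ⟨z, rfl⟩ hd
  exact le_antisymm (hmax z (hy.trans hd)) (Nat.le_of_dvd (orderOf_pos z) hd)

theorem exists_of_dvd {G : Type*} [Group G] [Finite G] {n m : ℕ}
    (hn : n ∈ Set.range (orderOf : G → ℕ)) (h : m ∣ n) : ∃ y : G, orderOf y = m := by
  obtain ⟨x, rfl⟩ := hn
  exact ⟨x ^ (orderOf x / m), orderOf_pow_orderOf_div (orderOf_pos x).ne' h⟩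

/-- For a finite group X write μ(X) for the set of element orders of X that are maximal under divisibility. Let G and H be finite groups and k ≥ 1 such that μ(H) ⊆ μ(G) and μ(G) has fewer than k elements outside μ(H). Then the direct product of k copies of G has the same set of element orders as the direct product of k − 1 copies of G with H. -/
theorem result {G H : Type*} [Group G] [Finite G] [Group H] [Finite H] (k : ℕ) (hk : 1 ≤ k)
    (hsub : {n : ℕ | n ∈ Set.range (orderOf : H → ℕ) ∧ ∀ m ∈ Set.range (orderOf : H → ℕ), n ∣ m → m = n} ⊆ {n : ℕ | n ∈ Set.range (orderOf : G → ℕ) ∧ ∀ m ∈ Set.range (orderOf : G → ℕ), n ∣ m → m = n})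
    (hfew : ({n : ℕ | n ∈ Set.range (orderOf : G → ℕ) ∧ ∀ m ∈ Set.range (orderOf : G → ℕ), n ∣ m → m = n} \ {n : ℕ | n ∈ Set.range (orderOf : H → ℕ) ∧ ∀ m ∈ Set.range (orderOf : H → ℕ), n ∣ m → m = n}).ncard < k) :
    Set.range (orderOf : (Fin k → G) → ℕ) = Set.range (orderOf : (Fin (k - 1) → G) × H → ℕ) := by
  obtain ⟨k, rfl⟩ : ∃ k', k = k' + 1 := ⟨k - 1, by omega⟩
  classical
  show _ = Set.range (orderOf : (Fin k → G) × H → ℕ)
  apply Set.ext
  intro o
  constructor
  · rintro ⟨x, rfl⟩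
    choose m hm hdvd using fun i => exists_max_dvd (x i)
    by_cases hex : ∃ j, m j ∈ {n : ℕ | n ∈ Set.range (orderOf : H → ℕ) ∧
        ∀ m ∈ Set.range (orderOf : H → ℕ), n ∣ m → m = n}
    · obtain ⟨j, hj⟩ := hex
      obtain ⟨h, hh⟩ := exists_of_dvd hj.1 (hdvd j)
      refine ⟨(fun i => x (j.succAbove i), h), orderOf_eq_orderOf_iff.2 fun N => ?_⟩
      simp only [Prod.ext_iff, funext_iff, Pi.pow_apply, Pi.one_apply, Prod.pow_fst, Prod.pow_snd,
        Prod.fst_one, Prod.snd_one, Fin.forall_iff_succAbove j]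
      rw [← orderOf_dvd_iff_pow_eq_one (x := h), hh, orderOf_dvd_iff_pow_eq_one]
      exact and_comm
    · push Not at hex
      haveI : Finite G := inferInstance
      have hmaps : ∀ i : Fin (k + 1), i ∈ (Set.univ : Set (Fin (k + 1))) →
          m i ∈ {n : ℕ | n ∈ Set.range (orderOf : G → ℕ) ∧ ∀ m ∈ Set.range (orderOf : G → ℕ), n ∣ m → m = n} \
            {n : ℕ | n ∈ Set.range (orderOf : H → ℕ) ∧ ∀ m ∈ Set.range (orderOf : H → ℕ), n ∣ m → m = n} :=
        fun i _ => ⟨hm i, hex i⟩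
      obtain ⟨i, -, j, -, hij, hmij⟩ := Set.exists_ne_map_eq_of_ncard_lt_of_maps_to
        (s := (Set.univ : Set (Fin (k + 1))))
        (by rwa [Set.ncard_univ, Nat.card_eq_fintype_card, Fintype.card_fin]) hmaps
        ((Set.finite_range (orderOf : G → ℕ)).subset fun n hn => hn.1.1)
      obtain ⟨y, hy⟩ := exists_of_dvd (hm i).1 (Nat.lcm_dvd (hdvd i) (hmij ▸ hdvd j))
      refine ⟨(fun l => Function.update x i y (j.succAbove l), 1), orderOf_eq_orderOf_iff.2 fun N => ?_⟩
      simp only [Prod.ext_iff, funext_iff, Pi.pow_apply, Pi.one_apply, Prod.pow_fst, Prod.pow_snd,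
        Prod.fst_one, Prod.snd_one, one_pow, and_true]
      have hyN : y ^ N = 1 ↔ x i ^ N = 1 ∧ x j ^ N = 1 := by
        simp only [← orderOf_dvd_iff_pow_eq_one, hy, Nat.lcm_dvd_iff]
      constructor
      · intro h
        obtain ⟨l, hl⟩ := Fin.exists_succAbove_eq hij
        have h1 := h l
        rw [hl, Function.update_self, hyN] at h1
        intro a
        rcases eq_or_ne a j with rfl | ha
        · exact h1.2
        rcases eq_or_ne a i with rfl | hai
        · exact h1.1
        obtain ⟨l', hl'⟩ := Fin.exists_succAbove_eq ha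
        have h2 := h l'
        rwa [hl', Function.update_of_ne hai] at h2
      · intro h l
        rcases eq_or_ne (j.succAbove l) i with hl | hl
        · rw [hl, Function.update_self, hyN]; exact ⟨h i, h j⟩
        · rw [Function.update_of_ne hl]; exact h _
  · rintro ⟨⟨x, h⟩, rfl⟩
    obtain ⟨n, hn, hd⟩ := exists_max_dvd h
    obtain ⟨g, hg⟩ := exists_of_dvd (hsub hn).1 hd
    refine ⟨Fin.cons g x, orderOf_eq_orderOf_iff.2 fun N => ?_⟩
    simp only [Prod.ext_iff, funext_iff, Pi.pow_apply, Pi.one_apply, Prod.pow_fst, Prod.pow_snd,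
      Prod.fst_one, Prod.snd_one, Fin.forall_fin_succ, Fin.cons_zero, Fin.cons_succ]
    rw [← orderOf_dvd_iff_pow_eq_one (x := g), hg, orderOf_dvd_iff_pow_eq_one]
    exact and_comm

end Cfsg.Agent.S2514
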