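import Cfsg.Statements.S2515
import Cfsg.Agent.Lib.Spectrum.LinearConstructions
import Mathlib

set_option autoImplicit false
open Cfsg

namespace Cfsg.Agent.S2515

open Matrix

variable (F : Type) [Field F]

/-- The twisted tensor action on `2 × 2` matrices. -/
noncomputable def act [CharP F 3] :
    (Matrix.SpecialLinearGroup (Fin 2) F × ℤˣ) →* MulAut (Multiplicative (Matrix (Fin 2) (Fin 2) F)) where
  toFun x := AddEquiv.toMultiplicative
    { toFun := fun v => ((x.2 : ℤ) : F) • ((x.1 : Matrix (Fin 2) (Fin 2) F) * v *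
        ((x.1 : Matrix (Fin 2) (Fin 2) F).map (frobenius F 3))ᵀ)
      invFun := fun v => ((x.2 : ℤ) : F) • ((x.1⁻¹).1 * v * ((x.1⁻¹).1.map (frobenius F 3))ᵀ)
      left_inv := fun v => by
        have h1 : (x.1⁻¹).1 * x.1.1 = 1 := by
          rw [← Matrix.SpecialLinearGroup.coe_mul, inv_mul_cancel, Matrix.SpecialLinearGroup.coe_one]
        have h2 : ((x.1.1).map (frobenius F 3))ᵀ * ((x.1⁻¹).1.map (frobenius F 3))ᵀ = 1 := by
          rw [← Matrix.transpose_mul, ← Matrix.map_mul, h1, Matrix.map_one _ (map_zero _) (map_one _),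
            Matrix.transpose_one]
        simp only [Matrix.mul_smul, Matrix.smul_mul, smul_smul, ← mul_assoc, h1, one_mul]
        rw [mul_assoc v, h2, mul_one, ← Int.cast_mul, Int.units_coe_mul_self, Int.cast_one, one_smul]
      right_inv := fun v => by
        have h1 : x.1.1 * (x.1⁻¹).1 = 1 := by
          rw [← Matrix.SpecialLinearGroup.coe_mul, mul_inv_cancel, Matrix.SpecialLinearGroup.coe_one]
        have h2 : ((x.1⁻¹).1.map (frobenius F 3))ᵀ * ((x.1.1).map (frobenius F 3))ᵀ = 1 := by
          rw [← Matrix.transpose_mul, ← Matrix.map_mul, h1, Matrix.map_one _ (map_zero _) (map_one _),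
            Matrix.transpose_one]
        simp only [Matrix.mul_smul, Matrix.smul_mul, smul_smul, ← mul_assoc, h1, one_mul]
        rw [mul_assoc v, h2, mul_one, ← Int.cast_mul, Int.units_coe_mul_self, Int.cast_one, one_smul]
      map_add' := fun v w => by simp only [mul_add, add_mul, smul_add] }
  map_one' := by
    refine MulEquiv.ext fun v => Multiplicative.toAdd.injective ?_
    simp [Matrix.map_one]
  map_mul' x y := by
    refine MulEquiv.ext fun v => Multiplicative.toAdd.injective ?_
    simp [Matrix.map_mul, Matrix.transpose_mul, Matrix.mul_smul, Matrix.smul_mul, smul_smul, mul_assoc]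

theorem act_apply [CharP F 3] (x : Matrix.SpecialLinearGroup (Fin 2) F × ℤˣ)
    (v : Matrix (Fin 2) (Fin 2) F) :
    act F x (Multiplicative.ofAdd v) = Multiplicative.ofAdd (((x.2 : ℤ) : F) •
      ((x.1 : Matrix (Fin 2) (Fin 2) F) * v * ((x.1 : Matrix (Fin 2) (Fin 2) F).map (frobenius F 3))ᵀ)) :=
  rfl

variable {F}

theorem cayley (A : Matrix.SpecialLinearGroup (Fin 2) F) :
    (A : Matrix (Fin 2) (Fin 2) F) * A - (A.1).trace • A.1 + 1 = 0 := by
  have h := Matrix.aeval_self_charpoly (A : Matrix (Fin 2) (Fin 2) F)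
  rw [Matrix.charpoly_fin_two, A.2] at h
  simpa [Algebra.smul_def, pow_two] using h

theorem intertwine_trace {A C : Matrix.SpecialLinearGroup (Fin 2) F} {v : Matrix (Fin 2) (Fin 2) F}
    {s : F} (hv : v ≠ 0) (hC : C.1 * C.1 - s • C.1 + 1 = 0) (h : A.1 * v = v * C.1) :
    A.1.trace = s := by
  have h1 : (A.1 * A.1 - A.1.trace • A.1 + 1) * v = 0 := by rw [cayley, zero_mul]
  have h2 : v * (C.1 * C.1 - s • C.1 + 1) = 0 := by rw [hC, mul_zero]
  have h3 : A.1 * A.1 * v = v * (C.1 * C.1) := by rw [mul_assoc, h, ← mul_assoc, h, mul_assoc]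
  rw [add_mul, sub_mul, Matrix.smul_mul, one_mul, h3, h] at h1
  rw [mul_add, mul_sub, Matrix.mul_smul, mul_one] at h2
  have h4 : (A.1.trace - s) • (v * C.1) = 0 := by
    rw [sub_smul]; linear_combination (norm := abel) h2 - h1
  refine sub_eq_zero.1 ((smul_eq_zero.1 h4).resolve_right ?_)
  intro h5
  apply hv
  calc v = v * C.1 * (C⁻¹).1 := by
        rw [mul_assoc, ← Matrix.SpecialLinearGroup.coe_mul, mul_inv_cancel,
          Matrix.SpecialLinearGroup.coe_one, mul_one]
    _ = 0 := by rw [h5, zero_mul]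

theorem eq_one_or_neg_one_of_sq (h2 : (2 : F) ≠ 0) (A : Matrix.SpecialLinearGroup (Fin 2) F)
    (h : A * A = 1) : A.1 = 1 ∨ A.1 = -1 := by
  have h1 := cayley A
  rw [show A.1 * A.1 = 1 by rw [← Matrix.SpecialLinearGroup.coe_mul, h, Matrix.SpecialLinearGroup.coe_one]] at h1
  have h3 : A.1.trace • A.1 = (2 : F) • 1 := by
    rw [two_smul]; linear_combination (norm := abel) -h1
  have ht : A.1.trace ≠ 0 := by
    intro h0; rw [h0, zero_smul] at h3
    exact h2 ((smul_eq_zero.1 h3.symm).resolve_right one_ne_zero)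
  have h4 : A.1 = (A.1.trace⁻¹ * 2) • (1 : Matrix (Fin 2) (Fin 2) F) := by
    rw [← smul_smul, ← h3, smul_smul, inv_mul_cancel₀ ht, one_smul]
  have h5 : (A.1.trace⁻¹ * 2) ^ 2 = 1 := by
    have := A.2
    rw [h4, Matrix.det_smul, Matrix.det_one, mul_one, Fintype.card_fin] at this
    exact this
  rcases sq_eq_one_iff.1 h5 with h6 | h6 <;> rw [h6] at h4
  · left; rwa [one_smul] at h4
  · right; rwa [neg_smul, one_smul] at h4

theorem J_mul_transpose : !![(0 : F), -1; 1, 0] * !![(0 : F), -1; 1, 0]ᵀ = 1 := by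
  ext i j; fin_cases i <;> fin_cases j <;> norm_num [Matrix.mul_apply, Matrix.transpose_apply, Fin.sum_univ_two]

theorem u_sum : (!![(0 : F), 0; 0, 1] + !![(1 : F), 1; 0, 1] * !![(0 : F), 0; 0, 1] * !![(1 : F), 1; 0, 1]ᵀ +
    !![(1 : F), 1; 0, 1] * (!![(1 : F), 1; 0, 1] * !![(0 : F), 0; 0, 1] * !![(1 : F), 1; 0, 1]ᵀ) *
      !![(1 : F), 1; 0, 1]ᵀ) 0 0 = 5 := by
  norm_num [Matrix.mul_apply, Matrix.transpose_apply, Matrix.vecHead, Matrix.vecTail, Matrix.vecMul,
    dotProduct, Fin.sum_univ_two, Matrix.add_apply]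

variable [CharP F 3]

theorem two_ne : (2 : F) ≠ 0 := by
  intro h
  have : 3 ∣ 2 := (CharP.cast_eq_zero_iff F 3 2).1 (by exact_mod_cast h)
  norm_num at this

theorem act_eq_one_iff (x : Matrix.SpecialLinearGroup (Fin 2) F × ℤˣ) :
    act F x = 1 ↔ (x.1.1 = 1 ∨ x.1.1 = -1) ∧ x.2 = 1 := by
  have hcast : ((x.2 : ℤ) : F) * ((x.2 : ℤ) : F) = 1 := by
    rw [← Int.cast_mul, Int.units_coe_mul_self, Int.cast_one]
  constructor
  · intro h
    have happ : ∀ v : Matrix (Fin 2) (Fin 2) F,
        ((x.2 : ℤ) : F) • (x.1.1 * v * (x.1.1.map (frobenius F 3))ᵀ) = v := fun v =>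
      Multiplicative.ofAdd.injective ((act_apply F x v).symm.trans (DFunLike.congr_fun h _))
    set ε := ((x.2 : ℤ) : F)
    set B := (x.1.1.map (frobenius F 3))ᵀ
    have hBA : ε • (x.1.1 * B) = 1 := by simpa using happ 1
    have hBA' : (ε • B) * x.1.1 = 1 := by
      rw [← mul_eq_one_comm, Matrix.mul_smul]; exact hBA
    have hcomm : ∀ v, Commute v x.1.1 := fun v => by
      have h1 : ε • (x.1.1 * v * B) * x.1.1 = v * x.1.1 := congrArg (· * x.1.1) (happ v)
      rw [← Matrix.mul_smul, mul_assoc, hBA', mul_one] at h1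
      exact h1.symm
    obtain ⟨c, hc⟩ := Matrix.mem_range_scalar_iff_commute_single.2 fun i j _ => hcomm (Matrix.single i j 1)
    have hc' : x.1.1 = c • 1 := by rw [← hc, Matrix.scalar_apply, Matrix.smul_one_eq_diagonal]
    have hc2 : c ^ 2 = 1 := by
      have := x.1.2
      rw [hc', Matrix.det_smul, Matrix.det_one, mul_one, Fintype.card_fin] at this
      exact this
    have hA : x.1.1 = 1 ∨ x.1.1 = -1 := by
      rcases sq_eq_one_iff.1 hc2 with rfl | rfl
      · left; rw [hc', one_smul]
      · right; rw [hc', neg_smul, one_smul]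
    refine ⟨hA, ?_⟩
    rcases Int.units_eq_one_or x.2 with h1 | h1
    · exact h1
    · exfalso
      have hB : x.1.1 * B = 1 := by
        rcases hA with h2 | h2 <;> simp [B, h2, Matrix.map_neg, Matrix.map_one]
      have h3 := hBA
      rw [hB, show ε = -1 by simp [ε, h1], neg_smul, one_smul] at h3
      have h4 : ((-1 : Matrix (Fin 2) (Fin 2) F)) 0 0 = (1 : Matrix (Fin 2) (Fin 2) F) 0 0 := by rw [h3]
      simp at h4
      exact two_ne (F := F) (by linear_combination -h4)
  · rintro ⟨h, h1⟩
    refine MulEquiv.ext fun v => ?_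
    obtain ⟨w, rfl⟩ := Multiplicative.ofAdd.surjective v
    rw [act_apply, MulAut.one_apply, h1]
    rcases h with h2 | h2 <;> simp [h2, Matrix.map_neg, Matrix.map_one]

theorem act_pow_eq_one_iff (x : Matrix.SpecialLinearGroup (Fin 2) F × ℤˣ) (k : ℕ) :
    act F x ^ k = 1 ↔ (x.1.1 ^ k = 1 ∨ x.1.1 ^ k = -1) ∧ x.2 ^ k = 1 := by
  rw [← map_pow, act_eq_one_iff]
  simp [Prod.pow_fst, Prod.pow_snd]

theorem add_two_cast {R : Type*} [Ring R] [CharP R 3] : (2 : R) = -1 := by
  rw [eq_neg_iff_add_eq_zero]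
  have := CharP.cast_eq_zero R 3
  push_cast at this
  linear_combination (norm := skip) this
  norm_num

variable [Fintype F]

theorem sl_pow_eq_one {α : ℕ} (hcard : Fintype.card F = 3 ^ α) (A : Matrix.SpecialLinearGroup (Fin 2) F) :
    A ^ (3 ^ α - 1) = 1 ∨ A ^ (3 ^ α + 1) = 1 ∨ (A.1 ^ 3 = 1 ∨ A.1 ^ 3 = -1) := by
  haveI : Fact (Nat.Prime 3) := ⟨Nat.prime_three⟩
  haveI : CharP (Matrix (Fin 2) (Fin 2) F) 3 := charP_of_injective_algebraMap' F 3
  set t := A.1.trace
  have hA := cayley A
  have h3F : (3 : F) = 0 := by exact_mod_cast CharP.cast_eq_zero F 3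
  rcases eq_or_ne (t * t) 1 with ht | ht
  · right; right
    have h1 : (A.1 + t • 1) * (A.1 + t • 1) = 0 := by
      rw [add_mul, mul_add, mul_add, Matrix.smul_mul, Matrix.mul_smul, Matrix.smul_mul, Matrix.mul_smul,
        one_mul, mul_one, one_mul, smul_smul, ht, one_smul]
      have h3 : (3 : F) • (t • A.1) = 0 := by rw [h3F, zero_smul]
      rw [show (3 : F) = 1 + 1 + 1 by norm_num, add_smul, add_smul, one_smul] at h3
      linear_combination (norm := abel) hA + h3
    have h2 : (A.1 + t • 1) ^ (3 : ℕ) = 0 := by rw [pow_succ, pow_two, h1, zero_mul]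
    rw [add_pow_char_of_commute _ ((Commute.one_right A.1).smul_right t), _root_.smul_pow, one_pow,
      show t ^ 3 = t by rw [pow_succ, pow_two, ht, one_mul]] at h2
    rw [eq_neg_of_add_eq_zero_left h2]
    rcases mul_self_eq_one_iff.1 ht with h | h <;> simp [h]
  · have hD : t * t - 1 ≠ 0 := sub_ne_zero.2 ht
    set u := t • (1 : Matrix (Fin 2) (Fin 2) F) + A.1 with hu
    have hu2 : u * u = (t * t - 1) • 1 := by
      rw [hu, add_mul, mul_add, mul_add, Matrix.smul_mul, Matrix.mul_smul, Matrix.smul_mul, Matrix.mul_smul,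
        one_mul, mul_one, one_mul, smul_smul, sub_smul, one_smul]
      have h3 : (3 : F) • (t • A.1) = 0 := by rw [h3F, zero_smul]
      rw [show (3 : F) = 1 + 1 + 1 by norm_num, add_smul, add_smul, one_smul] at h3
      linear_combination (norm := abel) hA + h3
    obtain ⟨r, hr⟩ : Odd (3 ^ α) := (by decide : Odd 3).pow
    have huq : u ^ (3 ^ α) = ((t * t - 1) ^ r) • u := by
      rw [hr, pow_succ, pow_mul, pow_two, hu2, _root_.smul_pow, one_pow, Matrix.smul_mul, one_mul]
    have hfr : u ^ (3 ^ α) = t • (1 : Matrix (Fin 2) (Fin 2) F) + A.1 ^ (3 ^ α) := by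
      rw [hu, add_pow_char_pow_of_commute _ _ ((Commute.one_left A.1).smul_left t), _root_.smul_pow, one_pow,
        ← hcard, FiniteField.pow_card]
    have hsq : ((t * t - 1) ^ r) ^ 2 = 1 := by
      rw [← pow_mul, show r * 2 = Fintype.card F - 1 by omega]
      exact FiniteField.pow_card_sub_one_eq_one _ hD
    rcases sq_eq_one_iff.1 hsq with h | h <;> rw [h] at huq
    · left
      apply Subtype.ext
      rw [Matrix.SpecialLinearGroup.coe_pow, Matrix.SpecialLinearGroup.coe_one]
      have h1 : A.1 ^ (3 ^ α) = A.1 := by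
        rw [one_smul, hfr, hu] at huq
        exact add_left_cancel huq
      calc A.1 ^ (3 ^ α - 1) = A.1 ^ (3 ^ α - 1) * (A.1 * (A⁻¹).1) := by
            rw [← Matrix.SpecialLinearGroup.coe_mul, mul_inv_cancel, Matrix.SpecialLinearGroup.coe_one, mul_one]
        _ = 1 := by
            rw [← mul_assoc, ← pow_succ, show 3 ^ α - 1 + 1 = 3 ^ α by omega, h1,
              ← Matrix.SpecialLinearGroup.coe_mul, mul_inv_cancel, Matrix.SpecialLinearGroup.coe_one]
    · right; left
      apply Subtype.ext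
      rw [Matrix.SpecialLinearGroup.coe_pow, Matrix.SpecialLinearGroup.coe_one, pow_succ]
      have h1 : A.1 ^ (3 ^ α) = t • 1 - A.1 := by
        rw [neg_smul, one_smul, hfr, hu] at huq
        have h3 : (3 : F) • (t • (1 : Matrix (Fin 2) (Fin 2) F)) = 0 := by rw [h3F, zero_smul]
        rw [show (3 : F) = 1 + 1 + 1 by norm_num, add_smul, add_smul, one_smul] at h3
        linear_combination (norm := abel) huq - h3
      rw [h1, sub_mul, Matrix.smul_mul, one_mul]
      linear_combination (norm := abel) -hA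


/-- Let q = 3^α with α ≥ 3 odd. There is a finite group H having a non-trivial normal 3-subgroup and whose element orders maximal under divisibility are exactly 6, 9, q − 1 and (q + 1)/2. -/
theorem result (α : ℕ) (hα : 3 ≤ α) (hodd : Odd α) :
    ∃ (H : Type) (_ : Group H) (_ : Fintype H), (∃ P : Subgroup H, P.Normal ∧ P ≠ ⊥ ∧ IsPGroup 3 ↥P) ∧
      {n : ℕ | n ∈ Set.range (orderOf : H → ℕ) ∧ ∀ m ∈ Set.range (orderOf : H → ℕ), n ∣ m → m = n} = ({6, 9, 3 ^ α - 1, (3 ^ α + 1) / 2} : Set ℕ) := by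
  classical
  haveI : Fact (Nat.Prime 3) := ⟨Nat.prime_three⟩
  let F := GaloisField 3 α
  haveI : Fintype F := Fintype.ofFinite F
  have hcard : Fintype.card F = 3 ^ α := by
    rw [← Nat.card_eq_fintype_card]; exact GaloisField.card 3 α (by omega)
  have hq4 : 3 ^ α % 4 = 3 := by
    obtain ⟨r, rfl⟩ := hodd
    rw [pow_succ, pow_mul, Nat.mul_mod, Nat.pow_mod]
    norm_num
  have hq9 : 27 ≤ 3 ^ α := le_trans (by norm_num) (Nat.pow_le_pow_right (by norm_num) hα)
  have hq3 : 3 ∣ 3 ^ α := dvd_pow_self 3 (by omega)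
  have hneg : ∀ t : F, t * t ≠ -1 := fun t ht => by
    have := (FiniteField.isSquare_neg_one_iff (F := F)).1 ⟨t, ht.symm⟩
    omega
  let V := Multiplicative (Matrix (Fin 2) (Fin 2) F)
  let G : Subgroup (MulAut V) := (act F).range
  haveI : Finite (Matrix.SpecialLinearGroup (Fin 2) F × ℤˣ) := inferInstance
  haveI : Finite G := Finite.of_surjective _ (act F).rangeRestrict_surjective
  let H := V ⋊[G.subtype] G
  haveI : Finite H := Finite.of_injective (fun h : H => (h.left, h.right))
    fun a b h => SemidirectProduct.ext (congrArg Prod.fst h) (congrArg Prod.snd h)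
  haveI : Fintype H := Fintype.ofFinite H
  let Θ : (Matrix.SpecialLinearGroup (Fin 2) F × ℤˣ) →* H :=
    SemidirectProduct.inr.comp (act F).rangeRestrict
  -- powers in the semidirect product
  have hV3 : ∀ v : V, v ^ 3 = 1 := fun v => Multiplicative.toAdd.injective (by
    ext i j
    rw [toAdd_pow, toAdd_one, Matrix.smul_apply, nsmul_eq_mul]
    exact mul_eq_zero_of_left (CharP.cast_eq_zero F 3) _)
  have hinl : ∀ (x : H) (k : ℕ), x.right ^ k = 1 → x ^ k = SemidirectProduct.inl (x ^ k).left := by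
    intro x k hk
    refine SemidirectProduct.ext (by simp) ?_
    rw [SemidirectProduct.right_inl, ← SemidirectProduct.rightHom_eq_right, map_pow]
    exact hk
  have hfix : ∀ (x : H) (k : ℕ), x.right ^ k = 1 →
      (x.right : MulAut V) (x ^ k).left = (x ^ k).left := by
    intro x k hk
    have hc : Commute x (x ^ k) := (Commute.self_pow x k)
    have h := congrArg SemidirectProduct.left hc.eq
    rw [SemidirectProduct.mul_left, SemidirectProduct.mul_left] at h
    have hr : (x ^ k).right = 1 := by rw [hinl x k hk]; simp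
    rw [hr, map_one, MulAut.one_apply, mul_comm (x ^ k).left] at h
    exact mul_left_cancel h
  refine ⟨H, inferInstance, inferInstance, ⟨(SemidirectProduct.inl : V →* H).range, ?_, ?_, ?_⟩, ?_⟩
  · rw [SemidirectProduct.range_inl_eq_ker_rightHom]; infer_instance
  · intro h
    have hmem : SemidirectProduct.inl (Multiplicative.ofAdd (1 : Matrix (Fin 2) (Fin 2) F)) ∈
        (SemidirectProduct.inl : V →* H).range := ⟨_, rfl⟩
    rw [h, Subgroup.mem_bot, ← map_one (SemidirectProduct.inl : V →* H),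
      SemidirectProduct.inl_inj, ofAdd_eq_one] at hmem
    exact one_ne_zero hmem
  · rintro ⟨-, v, rfl⟩
    refine ⟨1, Subtype.ext ?_⟩
    simp [← map_pow, hV3 v]
  -- every order divides one of the four numbers
  have hbound : ∀ x : H, orderOf x ∣ 6 ∨ orderOf x ∣ 9 ∨ orderOf x ∣ 3 ^ α - 1 ∨
      orderOf x ∣ (3 ^ α + 1) / 2 := by
    intro x
    obtain ⟨⟨A, ε⟩, hAε⟩ := (x.right).2
    have hpow : ∀ k, (A.1 ^ k = 1 ∨ A.1 ^ k = -1) ∧ ε ^ k = 1 → x.right ^ k = 1 := fun k hk => by
      apply Subtype.ext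
      rw [SubmonoidClass.coe_pow, ← hAε, (act_pow_eq_one_iff (A, ε) k).2 hk]
      rfl
    have h3 : ∀ k, x.right ^ k = 1 → orderOf x ∣ k * 3 := fun k hk => by
      apply orderOf_dvd_of_pow_eq_one
      rw [pow_mul, hinl x k hk, ← map_pow, hV3, map_one]
    rcases eq_or_ne (∀ k, x.right ^ k = 1 → (x ^ k).left = 1) False with hmove | hnofix
    · obtain ⟨k, hk, hne⟩ : ∃ k, x.right ^ k = 1 ∧ (x ^ k).left ≠ 1 := by
        by_contra h
        push Not at h
        exact hmove.mp h
      set v := Multiplicative.toAdd (x ^ k).left with hv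
      have hv0 : v ≠ 0 := fun h => hne (Multiplicative.toAdd.injective h)
      have hA : ((ε : ℤ) : F) • (A.1 * v * (A.1.map (frobenius F 3))ᵀ) = v := by
        have h := hfix x k hk
        rw [← hAε] at h
        exact congrArg Multiplicative.toAdd ((act_apply F (A, ε) v).symm.trans h)
      set e := ((ε : ℤ) : F)
      have he : e * e = 1 := by
        rw [← Int.cast_mul, Int.units_coe_mul_self, Int.cast_one]
      -- the intertwining matrix `C = e • (Bᵀ)⁻¹`
      let B : Matrix.SpecialLinearGroup (Fin 2) F :=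
        ⟨(A.1.map (frobenius F 3))ᵀ, by
          rw [Matrix.det_transpose, ← RingHom.mapMatrix_apply, ← RingHom.map_det, A.2, map_one]⟩
      let C : Matrix.SpecialLinearGroup (Fin 2) F :=
        ⟨e • (B⁻¹).1, by rw [Matrix.det_smul, (B⁻¹).2, mul_one, Fintype.card_fin, pow_two, he]⟩
      have hAv : A.1 * v = v * C.1 := by
        have h1 := congrArg (fun w => e • (w * (B⁻¹).1)) hA
        simp only [Matrix.smul_mul, smul_smul, he, one_smul] at h1
        rw [mul_assoc (A.1 * v), show (A.1.map (frobenius F 3))ᵀ = B.1 from rfl,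
          ← Matrix.SpecialLinearGroup.coe_mul, mul_inv_cancel, Matrix.SpecialLinearGroup.coe_one,
          mul_one, ← Matrix.mul_smul] at h1
        exact h1
      have htC : A.1.trace = C.1.trace := intertwine_trace hv0 (cayley C) hAv
      have hBt : (B⁻¹).1.trace = A.1.trace ^ 3 := by
        rw [Matrix.SpecialLinearGroup.coe_inv, Matrix.adjugate_fin_two, Matrix.trace_fin_two,
          Matrix.trace_fin_two]
        simp [B, add_comm, frobenius_def, add_pow_char]
      rw [show C.1.trace = e * (B⁻¹).1.trace from Matrix.trace_smul _ _, hBt] at htC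
      set t := A.1.trace with ht
      rcases eq_or_ne t 0 with ht0 | ht0
      · left
        refine (h3 2 (hpow 2 ⟨Or.inr ?_, ?_⟩)).trans (dvd_of_eq (by norm_num))
        · have := cayley A
          rw [← ht, ht0, zero_smul, sub_zero] at this
          rw [pow_two]; exact eq_neg_of_add_eq_zero_left this
        · rw [pow_two]; exact Int.units_mul_self ε
      · have ht1 : e * (t * t) = 1 := mul_right_cancel₀ ht0 (by linear_combination -htC)
        rcases Int.units_eq_one_or ε with hε | hε
        · right; left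
          have h1 : t * t = 1 := by simpa [e, hε] using ht1
          refine (h3 3 (hpow 3 ⟨?_, by simp [hε]⟩)).trans (dvd_of_eq (by norm_num))
          haveI : CharP (Matrix (Fin 2) (Fin 2) F) 3 := charP_of_injective_algebraMap' F 3
          have h3F : (3 : F) = 0 := by exact_mod_cast CharP.cast_eq_zero F 3
          have hA' := cayley A
          have h2 : (A.1 + t • 1) * (A.1 + t • 1) = 0 := by
            rw [add_mul, mul_add, mul_add, Matrix.smul_mul, Matrix.mul_smul, Matrix.smul_mul,
              Matrix.mul_smul, one_mul, mul_one, one_mul, smul_smul, h1, one_smul]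
            have h4 : (3 : F) • (t • A.1) = 0 := by rw [h3F, zero_smul]
            rw [show (3 : F) = 1 + 1 + 1 by norm_num, add_smul, add_smul, one_smul] at h4
            linear_combination (norm := abel) hA' + h4
          have h5 : (A.1 + t • 1) ^ (3 : ℕ) = 0 := by rw [pow_succ, pow_two, h2, zero_mul]
          rw [add_pow_char_of_commute _ ((Commute.one_right A.1).smul_right t), _root_.smul_pow, one_pow,
            show t ^ 3 = t by rw [pow_succ, pow_two, h1, one_mul]] at h5
          rw [eq_neg_of_add_eq_zero_left h5]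
          rcases mul_self_eq_one_iff.1 h1 with h | h
          · right; rw [h, one_smul]
          · left; rw [h, neg_smul, one_smul, neg_neg]
        · exact absurd (show t * t = -1 by simp [e, hε] at ht1; linear_combination -ht1) (hneg t)
    · have hnofix' : ∀ k, x.right ^ k = 1 → orderOf x ∣ k := fun k hk => by
        have h : ∀ k, x.right ^ k = 1 → (x ^ k).left = 1 := of_not_not fun h => hnofix (eq_false h)
        apply orderOf_dvd_of_pow_eq_one
        rw [hinl x k hk, h k hk, map_one]
      have hε2 : ∀ k, Even k → ε ^ k = 1 := fun k hk => by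
        obtain ⟨r, rfl⟩ := hk
        rw [← two_mul, pow_mul, pow_two, Int.units_mul_self, one_pow]
      rcases sl_pow_eq_one hcard A with h | h | h
      · right; right; left
        exact hnofix' _ (hpow _ ⟨Or.inl (by rw [← Matrix.SpecialLinearGroup.coe_pow, h,
          Matrix.SpecialLinearGroup.coe_one]), hε2 _ ⟨(3 ^ α - 1) / 2, by omega⟩⟩)
      · right; right; right
        refine hnofix' _ (hpow _ ⟨?_, hε2 _ ⟨(3 ^ α + 1) / 4, by omega⟩⟩)
        rw [← Matrix.SpecialLinearGroup.coe_pow]
        refine eq_one_or_neg_one_of_sq two_ne _ ?_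
        rw [← pow_add, show (3 ^ α + 1) / 2 + (3 ^ α + 1) / 2 = 3 ^ α + 1 by omega, h]
      · left
        refine hnofix' 6 (hpow 6 ⟨Or.inl ?_, hε2 6 (by decide)⟩)
        rw [show (6 : ℕ) = 3 * 2 by norm_num, pow_mul]
        rcases h with h | h <;> simp [h]
  have hΘ : ∀ (x : Matrix.SpecialLinearGroup (Fin 2) F × ℤˣ) (k : ℕ),
      Θ x ^ k = 1 ↔ (x.1.1 ^ k = 1 ∨ x.1.1 ^ k = -1) ∧ x.2 ^ k = 1 := fun x k => by
    rw [← act_pow_eq_one_iff, ← map_pow Θ]
    simp only [Θ, MonoidHom.comp_apply, map_pow]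
    rw [← map_pow, ← map_one (SemidirectProduct.inr : G →* H), SemidirectProduct.inr_inj, Subtype.ext_iff,
      SubmonoidClass.coe_pow]
    rfl
  -- an element of order 6
  have e6 : ∃ x : H, orderOf x = 6 := by
    let J : Matrix.SpecialLinearGroup (Fin 2) F := ⟨!![0, -1; 1, 0], by simp [Matrix.det_fin_two]⟩
    have hJ2 : J.1 ^ 2 = -1 := by
      ext i j; fin_cases i <;> fin_cases j <;> simp [J, pow_two, Matrix.mul_apply, Fin.sum_univ_two]
    have hJfix : (act F (J, 1)) (Multiplicative.ofAdd 1) = Multiplicative.ofAdd 1 := by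
      have hJm : J.1.map (frobenius F 3) = J.1 := by
        ext i j; fin_cases i <;> fin_cases j <;> simp [J]
      rw [act_apply]
      congr 1
      rw [hJm, mul_one]
      rw [Units.val_one, Int.cast_one, one_smul]
      exact J_mul_transpose
    set z : H := SemidirectProduct.inl (Multiplicative.ofAdd (1 : Matrix (Fin 2) (Fin 2) F)) with hz
    have hzc : Commute z (Θ (J, 1)) := by
      refine SemidirectProduct.ext ?_ ?_
      · show Multiplicative.ofAdd (1 : Matrix (Fin 2) (Fin 2) F) * (1 : MulAut V) 1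
          = 1 * act F (J, 1) (Multiplicative.ofAdd 1)
        rw [hJfix]
        simp
      · show (1 : G) * _ = _ * 1
        rw [one_mul, mul_one]
    have hz3 : orderOf z = 3 := orderOf_eq_prime (by rw [hz, ← map_pow, hV3, map_one]) (fun h => by
      rw [hz, ← map_one (SemidirectProduct.inl : V →* H), SemidirectProduct.inl_inj, ofAdd_eq_one] at h
      exact one_ne_zero h)
    have hJo : orderOf (Θ (J, 1)) = 2 := by
      haveI : Fact (Nat.Prime 2) := ⟨Nat.prime_two⟩
      refine orderOf_eq_prime ((hΘ _ 2).2 ⟨Or.inr hJ2, by simp⟩) (fun h => ?_)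
      rw [← pow_one (Θ (J, 1)), hΘ] at h
      rcases h.1 with h1 | h1 <;>
        · have := congrFun (congrFun h1 1) 0
          simp [J] at this
    refine ⟨z * Θ (J, 1), ?_⟩
    rw [hzc.orderOf_mul_eq_mul_orderOf_of_coprime (by rw [hz3, hJo]; norm_num), hz3, hJo]
  -- an element of order 9
  have e9 : ∃ x : H, orderOf x = 9 := by
    let u : Matrix.SpecialLinearGroup (Fin 2) F := ⟨!![1, 1; 0, 1], by simp [Matrix.det_fin_two]⟩
    have h3F : (3 : F) = 0 := by exact_mod_cast CharP.cast_eq_zero F 3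
    have hu3 : u.1 ^ 3 = 1 := by
      ext i j; fin_cases i <;> fin_cases j <;>
        simp [u, pow_succ, Matrix.mul_apply, Fin.sum_univ_two]
      linear_combination h3F
    set w := Multiplicative.ofAdd (!![0, 0; 0, 1] : Matrix (Fin 2) (Fin 2) F) with hw
    set x : H := SemidirectProduct.inl w * Θ (u, 1) with hx
    have hr : x.right = (act F).rangeRestrict (u, 1) := one_mul _
    have hl : x.left = w := by
      show w * (1 : MulAut V) 1 = w
      simp
    have hr3 : x.right ^ 3 = 1 := by
      rw [hr]; apply Subtype.ext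
      rw [SubmonoidClass.coe_pow]
      exact (act_pow_eq_one_iff (u, 1) 3).2 ⟨Or.inl hu3, by simp⟩
    refine ⟨x, orderOf_eq_prime_pow (p := 3) (n := 1) ?_ ?_⟩
    · intro h
      have h' := congrArg SemidirectProduct.left h
      simp only [pow_one, pow_succ, pow_zero, one_mul] at h'
      change (x.left * (x.right : MulAut V) x.left) *
        ((x.right : MulAut V) * (x.right : MulAut V)) x.left = 1 at h'
      rw [hr, hl, MulAut.mul_apply] at h'
      change w * act F (u, 1) w * act F (u, 1) (act F (u, 1) w) = 1 at h'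
      have hum : u.1.map (frobenius F 3) = u.1 := by
        ext i j; fin_cases i <;> fin_cases j <;> simp [u]
      rw [hw, act_apply, act_apply, ← ofAdd_add, ← ofAdd_add, ofAdd_eq_one, hum] at h'
      have h00 := congrFun (congrFun h' 0) 0
      simp only [Units.val_one, Int.cast_one, one_smul] at h00
      rw [u_sum, Matrix.zero_apply] at h00
      exact two_ne (F := F) (by linear_combination h00 - h3F)
    · rw [show (3 : ℕ) ^ (1 + 1) = 3 * 3 by norm_num, pow_mul, hinl x 3 hr3, ← map_pow, hV3, map_one]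
  -- an element of order q - 1
  have em : ∃ x : H, orderOf x = 3 ^ α - 1 := by
    obtain ⟨γ, hγ⟩ := IsCyclic.exists_ofOrder_eq_natCard (α := Fˣ)
    rw [Nat.card_units, Nat.card_eq_fintype_card, hcard] at hγ
    let D : Matrix.SpecialLinearGroup (Fin 2) F :=
      ⟨Matrix.diagonal ![(γ : F), ((γ⁻¹ : Fˣ) : F)], by simp [Matrix.det_diagonal, Fin.prod_univ_two]⟩
    refine ⟨Θ (D, -1), CfsgLib.Spectrum.orderOf_eq_of_pow_iff _ fun k => ?_⟩
    rw [hΘ]
    constructor
    · rintro ⟨h, hk⟩
      have hke : Even k := by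
        rcases Nat.even_or_odd k with he | ho
        · exact he
        · simp [ho.neg_one_pow] at hk
      have hγ2 : γ ^ (2 * k) = 1 := by
        apply Units.ext
        rcases h with h | h <;>
        · have h00 := congrFun (congrFun h 0) 0
          simp [D, Matrix.diagonal_pow] at h00
          rw [Units.val_pow_eq_pow_val, Units.val_one, mul_comm, pow_mul, h00]
          ring
      obtain ⟨r, rfl⟩ := hke
      have h1 := hγ ▸ orderOf_dvd_of_pow_eq_one hγ2
      obtain ⟨Q, hQ⟩ : ∃ Q, 3 ^ α - 1 = 2 * Q ∧ Odd Q := ⟨(3 ^ α - 1) / 2, by omega, by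
        rw [Nat.odd_iff]; omega⟩
      rw [hQ.1] at h1 ⊢
      rw [← two_mul] at h1 ⊢
      refine Nat.mul_dvd_mul_left 2 ?_
      exact (Nat.coprime_two_right.2 hQ.2).dvd_of_dvd_mul_left
        (Nat.dvd_of_mul_dvd_mul_left (by norm_num) h1)
    · intro h
      refine ⟨Or.inl ?_, ?_⟩
      · have h1 : γ ^ k = 1 := orderOf_dvd_iff_pow_eq_one.1 (hγ ▸ h)
        show Matrix.diagonal ![(γ : F), ((γ⁻¹ : Fˣ) : F)] ^ k = 1
        rw [Matrix.diagonal_pow, ← Matrix.diagonal_one]
        congr 1
        funext i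
        fin_cases i <;> simp [← Units.val_pow_eq_pow_val, h1]
      · obtain ⟨c, rfl⟩ := h
        rw [pow_mul, Even.neg_one_pow ⟨(3 ^ α - 1) / 2, by omega⟩, one_pow]
  -- an element of order (q + 1) / 2
  have ep : ∃ x : H, orderOf x = (3 ^ α + 1) / 2 := by
    obtain ⟨g, hg⟩ := CfsgLib.Spectrum.exists_orderOf_eq_singerExp (F := F) (n := 2) (by norm_num)
    obtain ⟨M, rfl⟩ := QuotientGroup.mk_surjective g
    refine ⟨Θ (M, 1), CfsgLib.Spectrum.orderOf_eq_of_pow_iff _ fun k => ?_⟩
    rw [hΘ]
    have hS : CfsgLib.Spectrum.singerExp (Fintype.card F) 2 = (3 ^ α + 1) / 2 := by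
      rw [hcard, CfsgLib.Spectrum.singerExp, CfsgLib.Spectrum.geomExp,
        Nat.gcd_eq_left (show 2 ∣ 3 ^ α - 1 by omega), Finset.sum_range_succ, Finset.sum_range_one,
        pow_zero, pow_one, add_comm]
    rw [← hS, ← hg, orderOf_dvd_iff_pow_eq_one, CfsgLib.Spectrum.pslMk_pow_eq_one_iff]
    simp only [one_pow, and_true]
    constructor
    · rintro (h | h)
      · exact ⟨1, by rw [h, map_one]⟩
      · exact ⟨-1, by rw [h, map_neg, map_one]⟩
    · rintro ⟨c, hc⟩
      have hc2 : c ^ 2 = 1 := by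
        have h := congrArg Matrix.det hc
        rw [Matrix.det_pow, M.2, one_pow, Matrix.scalar_apply, Matrix.det_diagonal] at h
        simpa [pow_two] using h.symm
      rcases sq_eq_one_iff.1 hc2 with rfl | rfl
      · left; rw [hc, map_one]
      · right; rw [hc, map_neg, map_one]
  -- maximality
  have hab : ¬ (3 ^ α + 1) / 2 ∣ 3 ^ α - 1 := fun h => by
    have h2 : (3 ^ α + 1) / 2 ∣ (3 ^ α + 1) := ⟨2, by omega⟩
    have := Nat.le_of_dvd (by norm_num) (show (3 ^ α + 1) / 2 ∣ 2 by
      have h5 := Nat.dvd_sub h2 h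
      rwa [show 3 ^ α + 1 - (3 ^ α - 1) = 2 by omega] at h5)
    omega
  have hba : ¬ 3 ^ α - 1 ∣ (3 ^ α + 1) / 2 := fun h => by
    have := Nat.le_of_dvd (by omega) h
    omega
  have h6a : ¬ 6 ∣ 3 ^ α - 1 := by omega
  have h6b : ¬ 6 ∣ (3 ^ α + 1) / 2 := by omega
  have h9a : ¬ 9 ∣ 3 ^ α - 1 := by omega
  have h9b : ¬ 9 ∣ (3 ^ α + 1) / 2 := by omega
  have ha6 : ¬ 3 ^ α - 1 ∣ 6 := fun h => by have := Nat.le_of_dvd (by norm_num) h; omega
  have ha9 : ¬ 3 ^ α - 1 ∣ 9 := fun h => by have := Nat.le_of_dvd (by norm_num) h; omega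
  have hb6 : ¬ (3 ^ α + 1) / 2 ∣ 6 := fun h => by have := Nat.le_of_dvd (by norm_num) h; omega
  have hb9 : ¬ (3 ^ α + 1) / 2 ∣ 9 := fun h => by have := Nat.le_of_dvd (by norm_num) h; omega
  have e : ∀ n ∈ ({6, 9, 3 ^ α - 1, (3 ^ α + 1) / 2} : Set ℕ), n ∈ Set.range (orderOf : H → ℕ) := by
    rintro n (rfl | rfl | rfl | rfl)
    exacts [e6, e9, em, ep]
  ext n
  constructor
  · rintro ⟨⟨x, rfl⟩, hmax⟩
    simp only [Set.mem_insert_iff, Set.mem_singleton_iff]
    rcases hbound x with h | h | h | h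
    · exact Or.inl (hmax 6 (e 6 (by simp)) h).symm
    · exact Or.inr (Or.inl (hmax 9 (e 9 (by simp)) h).symm)
    · exact Or.inr (Or.inr (Or.inl (hmax _ (e _ (by simp)) h).symm))
    · exact Or.inr (Or.inr (Or.inr (hmax _ (e _ (by simp)) h).symm))
  · intro hn
    refine ⟨e n hn, ?_⟩
    rintro m ⟨x, rfl⟩ hd
    have hb := hbound x
    rcases hn with rfl | rfl | rfl | rfl <;> rcases hb with h | h | h | h
    all_goals first
      | exact Nat.dvd_antisymm h hd
      | exact absurd (hd.trans h) h6a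
      | exact absurd (hd.trans h) h6b
      | exact absurd (hd.trans h) h9a
      | exact absurd (hd.trans h) h9b
      | exact absurd (hd.trans h) ha6
      | exact absurd (hd.trans h) ha9
      | exact absurd (hd.trans h) hb6
      | exact absurd (hd.trans h) hb9
      | exact absurd (hd.trans h) hab
      | exact absurd (hd.trans h) hba
      | exact absurd (hd.trans h) (by norm_num)

end Cfsg.Agent.S2515
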