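import Cfsg.Statements.S2516
import Mathlib.GroupTheory.OrderOfElement

set_option autoImplicit false
open Cfsg

namespace Cfsg.Agent.S2516


/-- Let F be a field of characteristic p > 0, V a non-zero finite-dimensional F-vector space, G a finite group and ρ a representation of G on V; form the semidirect product V ⋊ G. For g ∈ G of order k, the coset Vg contains an element of order pk if and only if the minimal polynomial of ρ(g) does not divide 1 + X + ⋯ + X^(k−1). -/
theorem result {F : Type*} [Field F] (p : ℕ) [Fact p.Prime] [CharP F p] {V : Type*} [AddCommGroup V] [Module F V] [FiniteDimensional F V] [Nontrivial V]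
    {G : Type*} [Group G] [Finite G] (ρ : Representation F G V) (g : G) :
    (∃ x : Multiplicative V ⋊[(MulAutMultiplicative V).symm.toMonoidHom.comp
        ((DistribMulAction.toAddAut ((V →ₗ[F] V)ˣ) V).comp ρ.asGroupHom)] G,
        x.right = g ∧ orderOf x = p * orderOf g) ↔
      ¬ (minpoly F (ρ g) ∣ ∑ i ∈ Finset.range (orderOf g), (Polynomial.X : Polynomial F) ^ i) := by
  classical
  set φ : G →* MulAut (Multiplicative V) := (MulAutMultiplicative V).symm.toMonoidHom.comp
        ((DistribMulAction.toAddAut ((V →ₗ[F] V)ˣ) V).comp ρ.asGroupHom) with hφdef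
  have hφ : ∀ (h : G) (v : V), φ h (Multiplicative.ofAdd v) = Multiplicative.ofAdd (ρ h v) :=
    fun h v => rfl
  set k := orderOf g
  have hk : 0 < k := orderOf_pos g
  have hp : 0 < p := (Fact.out : p.Prime).pos
  have hpow : ∀ (v : V) (j : ℕ), ((⟨Multiplicative.ofAdd v, g⟩ : Multiplicative V ⋊[φ] G) ^ j) =
      ⟨Multiplicative.ofAdd (∑ i ∈ Finset.range j, ((ρ g) ^ i) v), g ^ j⟩ := by
    intro v j
    induction j with
    | zero => simp
    | succ j ih =>
      rw [pow_succ, ih, SemidirectProduct.mul_def]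
      simp only [show φ (g ^ j) (Multiplicative.ofAdd v) = Multiplicative.ofAdd (((ρ g) ^ j) v) by
        rw [hφ, map_pow], pow_succ]
      rw [Finset.sum_range_succ, ofAdd_add]
  have hS : ∀ v, (Polynomial.aeval (ρ g) (∑ i ∈ Finset.range k, (Polynomial.X : Polynomial F) ^ i)) v =
      ∑ i ∈ Finset.range k, ((ρ g) ^ i) v := by
    intro v; simp [map_sum, LinearMap.sum_apply]
  constructor
  · rintro ⟨⟨v, h⟩, hh, hord⟩ hdvd
    simp only at hh
    subst hh
    obtain ⟨v, rfl⟩ : ∃ u : V, Multiplicative.ofAdd u = v := ⟨Multiplicative.toAdd v, rfl⟩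
    obtain ⟨s, hs⟩ := hdvd
    have h0 : Polynomial.aeval (ρ h) (∑ i ∈ Finset.range k, (Polynomial.X : Polynomial F) ^ i) = 0 := by
      rw [hs, map_mul, minpoly.aeval, zero_mul]
    have : (⟨Multiplicative.ofAdd v, h⟩ : Multiplicative V ⋊[φ] G) ^ k = 1 := by
      rw [hpow, ← hS, h0, pow_orderOf_eq_one]; rfl
    have h1 := Nat.le_of_dvd hk (orderOf_dvd_of_pow_eq_one this)
    rw [hord] at h1
    have := Nat.lt_mul_iff_one_lt_left hk |>.2 (Fact.out : p.Prime).one_lt
    omega
  · intro hnd
    have h0 : Polynomial.aeval (ρ g) (∑ i ∈ Finset.range k, (Polynomial.X : Polynomial F) ^ i) ≠ 0 :=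
      fun h => hnd (minpoly.dvd F _ h)
    obtain ⟨v, hv⟩ : ∃ v, (∑ i ∈ Finset.range k, ((ρ g) ^ i) v) ≠ 0 := by
      by_contra hcon
      push Not at hcon
      exact h0 (LinearMap.ext fun v => by rw [hS, hcon]; rfl)
    refine ⟨⟨Multiplicative.ofAdd v, g⟩, rfl, ?_⟩
    set x : Multiplicative V ⋊[φ] G := ⟨Multiplicative.ofAdd v, g⟩
    have hxk : x ^ k = SemidirectProduct.inl (Multiplicative.ofAdd (∑ i ∈ Finset.range k, ((ρ g) ^ i) v)) := by
      rw [hpow, pow_orderOf_eq_one]; rfl
    have hord : orderOf (x ^ k) = p := by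
      rw [hxk, orderOf_injective _ SemidirectProduct.inl_injective]
      apply orderOf_eq_prime
      · rw [← ofAdd_nsmul, ← Nat.cast_smul_eq_nsmul F p, CharP.cast_eq_zero, zero_smul]; rfl
      · exact fun h => hv (Multiplicative.ofAdd.injective h)
    have hdk : k ∣ orderOf x := orderOf_map_dvd SemidirectProduct.rightHom x
    rw [orderOf_pow_of_dvd hk.ne' hdk] at hord
    rw [← hord, Nat.div_mul_cancel hdk]

end Cfsg.Agent.S2516
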