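import Cfsg.Statements.S2518
import Cfsg.Agent.Lib.GTwoThree.Main
import Cfsg.Agent.Lib.GTwoThree.PSLThirteen
import Cfsg.Agent.Lib.Chevalley.FieldMap

set_option autoImplicit false
open Cfsg

namespace Cfsg.Agent.S2518


/-- Let F₃ be the field with 3 elements and F₁₃ the field with 13 elements. The Chevalley group G₂(F₃) and PSL(2, F₁₃) have the same prime graph: the same prime divisors of their orders, and for distinct primes r, s an element of order rs in one iff in the other. -/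
theorem result {F : Type*} [Field F] [Fintype F] (hF : Fintype.card F = 3) {E : Type*} [Field E] [Fintype E] (hE : Fintype.card E = 13) :
    ((∀ r : ℕ, r.Prime → (r ∣ Nat.card ↥(Cfsg.Lie.chevG2.group F) ↔ r ∣ Nat.card (Matrix.ProjectiveSpecialLinearGroup (Fin 2) E))) ∧
      (∀ r s : ℕ, r.Prime → s.Prime → r ≠ s → ((∃ x : ↥(Cfsg.Lie.chevG2.group F), orderOf x = r * s) ↔ (∃ y : (Matrix.ProjectiveSpecialLinearGroup (Fin 2) E), orderOf y = r * s)))) := by
  classical
  let e : ZMod 3 ≃+* F := ZMod.ringEquivOfPrime F (by norm_num) hF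
  let Φ := CfsgLib.Chevalley.groupFieldEquiv Cfsg.Lie.chevG2 e
  refine ⟨fun r hr => ?_, fun r s hr hs hne => ?_⟩
  · rw [← Nat.card_congr Φ.toEquiv, CfsgLib.GTwoThree.prime_dvd_iff hr,
      CfsgLib.GTwoThree.prime_dvd_psl_iff hE hr]
  · rw [CfsgLib.GTwoThree.exists_orderOf_mul_psl_iff hE hr hs,
      ← CfsgLib.GTwoThree.exists_orderOf_mul_iff hr hs hne]
    constructor
    · rintro ⟨x, hx⟩
      exact ⟨Φ.symm x, (MulEquiv.orderOf_eq Φ.symm x).trans hx⟩
    · rintro ⟨x, hx⟩
      exact ⟨Φ x, (MulEquiv.orderOf_eq Φ x).trans hx⟩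

end Cfsg.Agent.S2518
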