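import Cfsg.Statements.S2519
import Cfsg.Agent.Lib.G2Orders.Main

set_option autoImplicit false
open Cfsg

namespace Cfsg.Agent.S2519

/-- Let F be a finite field of odd order q = p^a ≥ 5. The element orders of the Chevalley group G₂(F) that are maximal under divisibility are exactly p(q + 1), p(q − 1), q² − 1, q² + q + 1, q² − q + 1, together with p² when p is 3 or 5. -/
theorem result {F : Type*} [Field F] [Fintype F] (p a : ℕ) (hp : p.Prime) (hp2 : p ≠ 2) (ha : 1 ≤ a) (hF : Fintype.card F = p ^ a) (hq5 : 5 ≤ Fintype.card F) :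
    {n : ℕ | n ∈ Set.range (orderOf : ↥(Cfsg.Lie.chevG2.group F) → ℕ) ∧ ∀ m ∈ Set.range (orderOf : ↥(Cfsg.Lie.chevG2.group F) → ℕ), n ∣ m → m = n} =
      ({p * (p ^ a + 1), p * (p ^ a - 1), p ^ (2 * a) - 1, p ^ (2 * a) + p ^ a + 1, p ^ (2 * a) - p ^ a + 1} : Set ℕ) ∪
        (if p = 3 ∨ p = 5 then ({p ^ 2} : Set ℕ) else ∅) := by
  classical
  have := Fact.mk hp
  have : CharP F p := by
    obtain ⟨r, hr⟩ := CharP.exists F
    obtain ⟨n, hrp, hn⟩ := FiniteField.card F r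
    have h : r = p := (Nat.prime_dvd_prime_iff_eq hrp hp).1 (hrp.dvd_of_dvd_pow
      (show r ∣ p ^ a by rw [← hF, hn]; exact dvd_pow_self r n.pos.ne'))
    exact h ▸ hr
  have hsq : p ^ (2 * a) = (p ^ a) ^ 2 := by rw [← pow_mul, mul_comm]
  obtain ⟨⟨g1, e1⟩, ⟨g2, e2⟩⟩ := CfsgLib.G2Orders.orders_mixed (F := F) p (by omega)
  obtain ⟨g3, e3⟩ := CfsgLib.G2Orders.order_sq_sub_one (F := F)
  obtain ⟨⟨g4, e4⟩, ⟨g5, e5⟩⟩ := CfsgLib.G2Orders.order_phi (F := F) (by omega)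
  rw [hF] at e1 e2 e3 e4 e5
  rw [← hsq] at e3 e4 e5
  set S : Set ℕ := ({p * (p ^ a + 1), p * (p ^ a - 1), p ^ (2 * a) - 1, p ^ (2 * a) + p ^ a + 1,
      p ^ (2 * a) - p ^ a + 1} : Set ℕ) ∪ (if p = 3 ∨ p = 5 then ({p ^ 2} : Set ℕ) else ∅) with hS
  have hin : ∀ y ∈ S, y ∈ Set.range (orderOf : ↥(Cfsg.Lie.chevG2.group F) → ℕ) := by
    intro y hy
    rcases hy with hy | hy
    · simp only [Set.mem_insert_iff, Set.mem_singleton_iff] at hy
      rcases hy with rfl | rfl | rfl | rfl | rfl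
      exacts [⟨g1, e1⟩, ⟨g2, e2⟩, ⟨g3, e3⟩, ⟨g4, e4⟩, ⟨g5, e5⟩]
    · split at hy
      · rename_i h35
        obtain ⟨g6, e6⟩ := CfsgLib.G2Orders.order_regular (F := F) p h35
        exact ⟨g6, e6.trans hy.symm⟩
      · exact hy.elim
  have hup : ∀ x ∈ Set.range (orderOf : ↥(Cfsg.Lie.chevG2.group F) → ℕ), ∃ y ∈ S, x ∣ y := by
    rintro _ ⟨g, rfl⟩
    have h := CfsgLib.G2Orders.orders_bound p hp2 g
    rw [hF, ← hsq] at h
    rcases h with h | h | h | h | h | ⟨h35, h⟩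
    · exact ⟨_, Or.inl (by simp), h⟩
    · exact ⟨_, Or.inl (by simp), h⟩
    · exact ⟨_, Or.inl (by simp), h⟩
    · exact ⟨_, Or.inl (by simp), h⟩
    · exact ⟨_, Or.inl (by simp), h⟩
    · exact ⟨p ^ 2, Or.inr (by rw [if_pos h35]; rfl), h⟩
  refine Set.ext fun x => ⟨fun ⟨hx, hmax⟩ => ?_, fun hx => ⟨hin x hx, fun m hm hxm => ?_⟩⟩
  · obtain ⟨y, hy, hxy⟩ := hup x hx
    rwa [← hmax y (hin y hy) hxy]
  · obtain ⟨y, hy, hmy⟩ := hup m hm
    have h : x = y := CfsgLib.G2Orders.antichain hp hp2 ha (hF ▸ hq5) hx hy (hxm.trans hmy)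
    exact Nat.dvd_antisymm (h ▸ hmy) hxm

end Cfsg.Agent.S2519
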