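import Cfsg.Statements.S2520
import Cfsg.Agent.Lib.G2Orders.Two

set_option autoImplicit false
open Cfsg

namespace Cfsg.Agent.S2520

/-- Let F be a finite field with q = 2^a ≥ 4 elements and G₂(F) the Chevalley group of type G₂ over it. Every element order of G₂(F) maximal under divisibility lies in the set {8, 12, 2(q + 1), 2(q − 1), q² − 1, q² + q + 1, q² − q + 1}, and every member of that set is an element order of G₂(F). -/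
theorem result {F : Type*} [Field F] [Fintype F] (a : ℕ) (ha : 2 ≤ a) (hF : Fintype.card F = 2 ^ a) :
    {n : ℕ | n ∈ Set.range (orderOf : ↥(Cfsg.Lie.chevG2.group F) → ℕ) ∧ ∀ m ∈ Set.range (orderOf : ↥(Cfsg.Lie.chevG2.group F) → ℕ), n ∣ m → m = n} ⊆ ({8, 12, 2 * (2 ^ a + 1), 2 * (2 ^ a - 1), 2 ^ (2 * a) - 1, 2 ^ (2 * a) + 2 ^ a + 1, 2 ^ (2 * a) - 2 ^ a + 1} : Set ℕ) ∧
    ({8, 12, 2 * (2 ^ a + 1), 2 * (2 ^ a - 1), 2 ^ (2 * a) - 1, 2 ^ (2 * a) + 2 ^ a + 1, 2 ^ (2 * a) - 2 ^ a + 1} : Set ℕ) ⊆ Set.range (orderOf : ↥(Cfsg.Lie.chevG2.group F) → ℕ) := by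
  classical
  have : Fact (Nat.Prime 2) := ⟨Nat.prime_two⟩
  have : CharP F 2 := by
    obtain ⟨r, hr⟩ := CharP.exists F
    obtain ⟨n, hrp, hn⟩ := FiniteField.card F r
    have h : r = 2 := (Nat.prime_dvd_prime_iff_eq hrp Nat.prime_two).1 (hrp.dvd_of_dvd_pow
      (show r ∣ 2 ^ a by rw [← hF, hn]; exact dvd_pow_self r n.pos.ne'))
    exact h ▸ hr
  have h4 : 4 ≤ Fintype.card F := hF ▸ le_trans (by norm_num) (Nat.pow_le_pow_right two_pos ha)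
  have hsq : 2 ^ (2 * a) = (2 ^ a) ^ 2 := by rw [← pow_mul, mul_comm]
  obtain ⟨g8, e8⟩ := CfsgLib.G2Orders.order_eight (F := F)
  obtain ⟨g12, e12⟩ := CfsgLib.G2Orders.order_twelve (F := F)
  obtain ⟨⟨g1, e1⟩, ⟨g2, e2⟩⟩ := CfsgLib.G2Orders.orders_mixed (F := F) 2 (by omega)
  obtain ⟨g3, e3⟩ := CfsgLib.G2Orders.order_sq_sub_one (F := F)
  obtain ⟨⟨g4, e4⟩, ⟨g5, e5⟩⟩ := CfsgLib.G2Orders.order_phi (F := F) h4
  rw [hF] at e1 e2 e3 e4 e5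
  rw [← hsq] at e3 e4 e5
  have hin : ({8, 12, 2 * (2 ^ a + 1), 2 * (2 ^ a - 1), 2 ^ (2 * a) - 1, 2 ^ (2 * a) + 2 ^ a + 1,
      2 ^ (2 * a) - 2 ^ a + 1} : Set ℕ) ⊆ Set.range (orderOf : ↥(Cfsg.Lie.chevG2.group F) → ℕ) := by
    intro y hy
    simp only [Set.mem_insert_iff, Set.mem_singleton_iff] at hy
    rcases hy with rfl | rfl | rfl | rfl | rfl | rfl | rfl
    exacts [⟨g8, e8⟩, ⟨g12, e12⟩, ⟨g1, e1⟩, ⟨g2, e2⟩, ⟨g3, e3⟩, ⟨g4, e4⟩, ⟨g5, e5⟩]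
  refine ⟨?_, hin⟩
  rintro x ⟨⟨g, rfl⟩, hmax⟩
  have h := CfsgLib.G2Orders.orders_bound_two g
  rw [hF, ← hsq] at h
  rcases h with h | h | h | h | h | h | h <;>
    (have e := hmax _ (hin (by simp)) h; rw [← e]; simp)

end Cfsg.Agent.S2520
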