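import Cfsg.Statements.S2524
import Cfsg.Agent.Lib.MinDeg.SpWExist
-- import your own Cfsg.Agent.* helpers here

set_option autoImplicit false
open Cfsg

namespace Cfsg.Agent.S2524

open CfsgLib.MinDeg CfsgLib.MinDeg.SpW Matrix Module in
/-- The low characters are determined by the class of the weight and the central sign, and every
nontrivial character below the gap is one of them. -/
theorem analysis {F : Type*} [Field F] [Fintype F] (hodd : Odd (Fintype.card F)) {n : ℕ}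
    (hn : 2 ≤ n) {e : AddChar F ℂ} (he : e ≠ 0) {ν : F} (hν : ¬ IsSquare ν)
    (χ : Cfsg.IrrCharacter (Spm F n)) {k : ℕ} (hk : χ.1 1 = k) (hk2 : 2 ≤ k)
    (hgap : 2 * (Fintype.card F + 1) * k <
      (Fintype.card F ^ n - 1) * (Fintype.card F ^ n - Fintype.card F)) :
    (2 * k + 1 = Fintype.card F ^ n ∨ 2 * k = Fintype.card F ^ n + 1) ∧
      ∃ ρ : Representation ℂ (Spm F n) (Fin k → ℂ), ρ.IsIrreducible ∧ ρ.character = χ.1 ∧
        R1 e ρ ∧ ∃ c, (c = 1 ∨ c = ν) ∧
          ∃ x ∈ Wt e ρ c (Pi.single (⟨0, by omega⟩ : Fin n) 1), x ≠ 0 := by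
  have h2 := two_ne_zero_of_odd hodd
  obtain ⟨k', ρ, hρ, hχ⟩ := χ.2
  obtain rfl : k' = k := by
    have := hk
    rw [← hχ, ρ.char_one, Module.finrank_fin_fun] at this
    exact_mod_cast this
  have hR : R1 e ρ := R1_of_finrank_lt he h2 hn ρ (by rwa [Module.finrank_fin_fun])
  have hne : ∃ H, ρ (upp H) ≠ 1 := by
    obtain ⟨S, hs⟩ := exists_triv_star F
    letI := S
    obtain ⟨_, ⟨H, rfl⟩, hH⟩ := exists_rep_ne_one ρ hρ hk2 _
      ((sympData hs n).normalClosure_eq_top (t := (1 : F)) (by ring) hn (by simp [hs]) one_ne_zero)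
    exact ⟨⟨H.1, (mem_skewPart_neg_one hs).1 H.2⟩, hH⟩
  obtain ⟨c, hc, x, hx, hx0⟩ := exists_normal he h2 hn ρ hR hne hν (⟨0, by omega⟩ : Fin n)
  refine ⟨?_, ρ, hρ, hχ, hR, c, hc, x, hx, hx0⟩
  have hc0 : c ≠ 0 := by
    rcases hc with h | h <;> rw [h]
    exacts [one_ne_zero, fun h0 => hν (h0 ▸ IsSquare.zero)]
  have := degree_eq he h2 hn ρ hR hc0 hx hx0
  rwa [Module.finrank_fin_fun] at this

/-- Let F be a finite field of odd order q and G = Sp(2n, F) with n ≥ 2. Then G has exactly four irreducible complex characters of degree (q^n + 1)/2 or (q^n − 1)/2 (two of each), and every other non-principal irreducible character has degree at least (q^n − 1)(q^n − q)/(2(q + 1)). -/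
theorem result {F : Type*} [Field F] [Fintype F] (hodd : Odd (Fintype.card F)) (n : ℕ) (hn : 2 ≤ n) :
    Nat.card {χ : Cfsg.IrrCharacter ↥(Matrix.symplecticGroup (Fin n) F) // (χ : ↥(Matrix.symplecticGroup (Fin n) F) → ℂ) 1 = (((Fintype.card F) ^ n + 1 : ℕ) : ℂ) / 2} = 2 ∧
    Nat.card {χ : Cfsg.IrrCharacter ↥(Matrix.symplecticGroup (Fin n) F) // (χ : ↥(Matrix.symplecticGroup (Fin n) F) → ℂ) 1 = (((Fintype.card F) ^ n - 1 : ℕ) : ℂ) / 2} = 2 ∧
    ∀ χ : Cfsg.IrrCharacter ↥(Matrix.symplecticGroup (Fin n) F),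
      (χ : ↥(Matrix.symplecticGroup (Fin n) F) → ℂ) 1 ≠ 1 →
      (χ : ↥(Matrix.symplecticGroup (Fin n) F) → ℂ) 1 ≠ (((Fintype.card F) ^ n + 1 : ℕ) : ℂ) / 2 →
      (χ : ↥(Matrix.symplecticGroup (Fin n) F) → ℂ) 1 ≠ (((Fintype.card F) ^ n - 1 : ℕ) : ℂ) / 2 →
      (((Fintype.card F) ^ n - 1 : ℕ) : ℝ) * (((Fintype.card F) ^ n - Fintype.card F : ℕ) : ℝ) / (2 * ((Fintype.card F : ℕ) + 1 : ℝ)) ≤ ‖(χ : ↥(Matrix.symplecticGroup (Fin n) F) → ℂ) 1‖ := by
  classical
  open CfsgLib.MinDeg CfsgLib.MinDeg.SpW Matrix Module Weil in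
  · have h2 := two_ne_zero_of_odd hodd
    obtain ⟨e, he1⟩ : ∃ e : AddChar F ℂ, e 1 ≠ 1 := AddChar.exists_apply_ne_zero.2 one_ne_zero
    have he : e ≠ 0 := fun h => he1 (by simp [h])
    obtain ⟨ν, hν⟩ : ∃ ν : F, ¬ IsSquare ν := FiniteField.exists_nonsquare fun h => h2 (by
      haveI : CharP F 2 := h ▸ ringChar.charP F
      exact CharTwo.two_eq_zero)
    have hν0 : ν ≠ 0 := fun h => hν (h ▸ IsSquare.zero)
    set q := Fintype.card F with hq
    have hq3 : 3 ≤ q := by
      have h1 : 2 ≤ q := Fintype.one_lt_card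
      obtain ⟨r, hr⟩ := hodd
      omega
    have hQ : 3 * q ≤ q ^ n := le_trans (Nat.mul_le_mul_right q hq3)
      (by rw [← sq]; exact Nat.pow_le_pow_right (by omega) hn)
    have hlt : ∀ k, 2 * k ≤ q ^ n + 1 → 2 * (q + 1) * k < (q ^ n - 1) * (q ^ n - q) := by
      intro k hk
      have h1 : 2 * (q + 1) * k ≤ (q + 1) * (q ^ n + 1) := by
        rw [show 2 * (q + 1) * k = (q + 1) * (2 * k) by ring]; exact Nat.mul_le_mul_left _ hk
      obtain ⟨d, hd⟩ : ∃ d, q ^ n = 2 * q + 3 + d := ⟨q ^ n - (2 * q + 3), by omega⟩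
      refine lt_of_le_of_lt h1 ?_
      rw [hd, show 2 * q + 3 + d - 1 = 2 * q + 2 + d by omega,
        show 2 * q + 3 + d - q = q + 3 + d by omega]
      nlinarith
    set k₀ : Fin n := ⟨0, by omega⟩
    let A := {χ : Cfsg.IrrCharacter (Spm F n) // χ.1 1 = ((q ^ n + 1 : ℕ) : ℂ) / 2}
    let B := {χ : Cfsg.IrrCharacter (Spm F n) // χ.1 1 = ((q ^ n - 1 : ℕ) : ℂ) / 2}
    have hAdeg : ∀ χ : A, ∃ k : ℕ, χ.1.1 1 = k ∧ 2 * k = q ^ n + 1 := fun χ => by
      obtain ⟨k, ρ, hρ, hχ⟩ := χ.1.2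
      have hk : χ.1.1 1 = k := by rw [← hχ, ρ.char_one, Module.finrank_fin_fun]
      refine ⟨k, hk, ?_⟩
      have := χ.2
      rw [hk, eq_div_iff two_ne_zero] at this
      rw [mul_comm]; exact_mod_cast this
    have hBdeg : ∀ χ : B, ∃ k : ℕ, χ.1.1 1 = k ∧ 2 * k + 1 = q ^ n := fun χ => by
      obtain ⟨k, ρ, hρ, hχ⟩ := χ.1.2
      have hk : χ.1.1 1 = k := by rw [← hχ, ρ.char_one, Module.finrank_fin_fun]
      refine ⟨k, hk, ?_⟩
      have := χ.2
      rw [hk, eq_div_iff two_ne_zero] at this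
      have h' : k * 2 = q ^ n - 1 := by exact_mod_cast this
      omega
    let key : Cfsg.IrrCharacter (Spm F n) → Bool × Bool := fun χ =>
      (decide (classSum e 1 k₀ χ.1 ≠ 0), decide (χ.1 (gl (-1 : GL (Fin n) F)) = χ.1 1))
    have hinj : ∀ (χ χ' : Cfsg.IrrCharacter (Spm F n)) (k k' : ℕ),
        χ.1 1 = k → 2 * k ≤ q ^ n + 1 → q ^ n ≤ 2 * k + 1 →
        χ'.1 1 = k' → 2 * k' ≤ q ^ n + 1 → q ^ n ≤ 2 * k' + 1 → key χ = key χ' → χ = χ' := by
      intro χ χ' k k' hk ha hb hk' ha' hb' hkey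
      obtain ⟨-, ρ, hρ, hχ, hR, c, hc, x, hx, hx0⟩ :=
        analysis hodd hn he hν χ hk (by omega) (hlt k ha)
      obtain ⟨-, ρ', hρ', hχ', hR', c', hc', x', hx', hx0'⟩ :=
        analysis hodd hn he hν χ' hk' (by omega) (hlt k' ha')
      simp only [key, Prod.mk.injEq, decide_eq_decide] at hkey
      obtain ⟨hk1, hk2⟩ := hkey
      have hcc : c = c' := by
        rcases hc with rfl | rfl <;> rcases hc' with rfl | rfl <;> try rfl
        · exfalso
          have h := hk1.1 (by rw [← hχ]; exact (classSum_ne_zero ρ _ _).2 ⟨x, hx, hx0⟩)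
          rw [← hχ', classSum_ne_zero] at h
          obtain ⟨y, hy, hy0⟩ := h
          exact hx0' (class_excl he h2 ρ' hn hν (by rw [Module.finrank_fin_fun]; exact ha')
            hy hy0 hx')
        · exfalso
          have h := hk1.2 (by rw [← hχ']; exact (classSum_ne_zero ρ' _ _).2 ⟨x', hx', hx0'⟩)
          rw [← hχ, classSum_ne_zero] at h
          obtain ⟨y, hy, hy0⟩ := h
          exact hx0 (class_excl he h2 ρ hn hν (by rw [Module.finrank_fin_fun]; exact ha) hy hy0 hx)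
      subst hcc
      obtain ⟨ε, hε, hεV⟩ := exists_sign ρ
      obtain ⟨ε', hε', hεV'⟩ := exists_sign ρ'
      have hval : ∀ {k : ℕ} (ρ : Representation ℂ (Spm F n) (Fin k → ℂ)) (ε : ℂ),
          (∀ x, ρ (gl (-1 : GL (Fin n) F)) x = ε • x) →
          ρ.character (gl (-1 : GL (Fin n) F)) = ε * ρ.character 1 := by
        intro k ρ ε h
        show LinearMap.trace ℂ _ (ρ _) = ε * LinearMap.trace ℂ _ (ρ 1)
        rw [show ρ (gl (-1 : GL (Fin n) F)) = ε • ρ 1 from LinearMap.ext fun x => by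
          rw [h, map_one]; rfl, map_smul, smul_eq_mul]
      rw [← hχ, ← hχ', hval ρ ε hεV, hval ρ' ε' hεV', hχ, hχ', hk, hk'] at hk2
      have hk0 : (k : ℂ) ≠ 0 := by exact_mod_cast (show k ≠ 0 by omega)
      have hk0' : (k' : ℂ) ≠ 0 := by exact_mod_cast (show k' ≠ 0 by omega)
      simp only [mul_eq_right₀ hk0, mul_eq_right₀ hk0'] at hk2
      have hεε : ε = ε' := by
        rcases hε with rfl | rfl <;> rcases hε' with rfl | rfl <;> simp_all
      subst hεε
      have hc0 : c ≠ 0 := by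
        rcases hc with h | h <;> rw [h]
        exacts [one_ne_zero, hν0]
      refine Subtype.ext ?_
      rw [← hχ, ← hχ']
      exact character_eq he h2 hn ρ ρ' hR hR' hc0 hx hx0 hx' hx0' hεV hεV'
    let φ : A ⊕ B → Bool × Bool := Sum.elim (fun χ => key χ.1) (fun χ => key χ.1)
    have hφ : Function.Injective φ := by
      rintro (χ | χ) (χ' | χ') h
      · obtain ⟨k, hk, e1⟩ := hAdeg χ
        obtain ⟨k', hk', e1'⟩ := hAdeg χ'
        exact congrArg Sum.inl (Subtype.ext (hinj _ _ k k' hk (by omega) (by omega) hk' (by omega)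
          (by omega) h))
      · obtain ⟨k, hk, e1⟩ := hAdeg χ
        obtain ⟨k', hk', e1'⟩ := hBdeg χ'
        exfalso
        have := hinj _ _ k k' hk (by omega) (by omega) hk' (by omega) (by omega) h
        rw [this, hk'] at hk
        have : k' = k := by exact_mod_cast hk
        omega
      · obtain ⟨k, hk, e1⟩ := hBdeg χ
        obtain ⟨k', hk', e1'⟩ := hAdeg χ'
        exfalso
        have := hinj _ _ k k' hk (by omega) (by omega) hk' (by omega) (by omega) h
        rw [this, hk'] at hk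
        have : k' = k := by exact_mod_cast hk
        omega
      · obtain ⟨k, hk, e1⟩ := hBdeg χ
        obtain ⟨k', hk', e1'⟩ := hBdeg χ'
        exact congrArg Sum.inr (Subtype.ext (hinj _ _ k k' hk (by omega) (by omega) hk' (by omega)
          (by omega) h))
    haveI : Finite (A ⊕ B) := Finite.of_injective φ hφ
    haveI : Finite A := Finite.of_injective (Sum.inl : A → A ⊕ B) Sum.inl_injective
    haveI : Finite B := Finite.of_injective (Sum.inr : B → A ⊕ B) Sum.inr_injective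
    have h4 : Nat.card A + Nat.card B ≤ 4 := by
      rw [← Nat.card_sum]
      exact (Nat.card_le_card_of_injective φ hφ).trans (by simp)
    have hpair : ∀ (d : ℕ) (ε : ℂ), (ε = 1 ∨ ε = -1) →
        Module.finrank ℂ (Module.End.eigenspace (parity F n) ε) = d → 2 * d ≤ q ^ n + 1 →
        ∃ χ χ' : Cfsg.IrrCharacter (Spm F n), χ.1 1 = d ∧ χ'.1 1 = d ∧ χ ≠ χ' := by
      intro d ε hε hd hdle
      obtain ⟨χ, hχ1, hχ⟩ := exists_weil_char he h2 hn (one_ne_zero (α := F)) k₀ rfl hε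
      obtain ⟨χ', hχ1', hχ'⟩ := exists_weil_char he h2 hn hν0 k₀ rfl hε
      rw [hd] at hχ1 hχ1'
      refine ⟨χ, χ', hχ1, hχ1', ?_⟩
      rintro rfl
      obtain ⟨k, ρ, hρ, hρχ⟩ := χ.2
      have hk : k = d := by
        have := hχ1
        rw [← hρχ, ρ.char_one, Module.finrank_fin_fun] at this
        exact_mod_cast this
      rw [← hρχ, classSum_ne_zero] at hχ hχ'
      obtain ⟨x, hx, hx0⟩ := hχ
      obtain ⟨y, hy, hy0⟩ := hχ'
      exact hy0 (class_excl he h2 ρ hn hν (by rw [Module.finrank_fin_fun, hk]; exact hdle) hx hx0 hy)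
    obtain ⟨hfe, hfo⟩ := finrank_parts (F := F) (n := n) h2
    rw [← hq] at hfo
    have hA : 2 ≤ Nat.card A := by
      obtain ⟨χ, χ', h, h', hne⟩ := hpair (Module.finrank ℂ (evenPart F n)) 1 (Or.inl rfl) rfl
        (by omega)
      have hdeg : ((Module.finrank ℂ (evenPart F n) : ℕ) : ℂ) = ((q ^ n + 1 : ℕ) : ℂ) / 2 := by
        rw [eq_div_iff two_ne_zero]
        exact_mod_cast (show Module.finrank ℂ (evenPart F n) * 2 = q ^ n + 1 by omega)
      haveI : Nontrivial A :=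
        ⟨⟨χ, h.trans hdeg⟩, ⟨χ', h'.trans hdeg⟩, fun e => hne (congrArg Subtype.val e)⟩
      exact Finite.one_lt_card
    have hB : 2 ≤ Nat.card B := by
      obtain ⟨χ, χ', h, h', hne⟩ := hpair (Module.finrank ℂ (oddPart F n)) (-1) (Or.inr rfl) rfl
        (by omega)
      have hdeg : ((Module.finrank ℂ (oddPart F n) : ℕ) : ℂ) = ((q ^ n - 1 : ℕ) : ℂ) / 2 := by
        rw [eq_div_iff two_ne_zero]
        exact_mod_cast (show Module.finrank ℂ (oddPart F n) * 2 = q ^ n - 1 by omega)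
      haveI : Nontrivial B :=
        ⟨⟨χ, h.trans hdeg⟩, ⟨χ', h'.trans hdeg⟩, fun e => hne (congrArg Subtype.val e)⟩
      exact Finite.one_lt_card
    refine ⟨show Nat.card A = 2 by omega, show Nat.card B = 2 by omega, fun χ h1 hp hm => ?_⟩
    obtain ⟨k, ρ, hρ, hχ⟩ := χ.2
    have hk : χ.1 1 = k := by rw [← hχ, ρ.char_one, Module.finrank_fin_fun]
    by_contra hlt'
    rw [hk, Complex.norm_natCast, not_le, lt_div_iff₀ (by positivity)] at hlt'
    have hlt'' : 2 * (q + 1) * k < (q ^ n - 1) * (q ^ n - q) := by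
      have : (k : ℝ) * (2 * ((q : ℝ) + 1)) < ((q ^ n - 1 : ℕ) : ℝ) * ((q ^ n - q : ℕ) : ℝ) := hlt'
      rw [mul_comm (2 * (q + 1))]
      exact_mod_cast this
    have hk0 : k ≠ 0 := fun h => by
      have := CfsgLib.Char.finrank_pos_of_isIrreducible ρ
      rw [Module.finrank_fin_fun] at this
      omega
    have hk1 : k ≠ 1 := fun h => h1 (by rw [hk, h, Nat.cast_one])
    rcases (analysis hodd hn he hν χ hk (by omega) hlt'').1 with h | h <;> rw [← hq] at h
    · exact hm (by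
        rw [hk, eq_div_iff two_ne_zero]
        exact_mod_cast (show k * 2 = q ^ n - 1 by omega))
    · exact hp (by
        rw [hk, eq_div_iff two_ne_zero]
        exact_mod_cast (show k * 2 = q ^ n + 1 by omega))

end Cfsg.Agent.S2524
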