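import Cfsg.Statements.S2525
import Cfsg.Agent.Lib.F4PrimeGraph.Equal
-- import your own Cfsg.Agent.* helpers here

set_option autoImplicit false
open Cfsg
open CfsgLib.F4PrimeGraph CfsgLib.Chev Cfsg.Lie

namespace Cfsg.Agent.S2525

theorem order_cases {q s : ℕ} [Fact s.Prime] (hq : 1 ≤ q)
    (hs : s ∣ q ^ 24 * (q ^ 2 - 1) * (q ^ 6 - 1) * (q ^ 8 - 1) * (q ^ 12 - 1)) (hsq : ¬ s ∣ q) :
    orderOf (q : ZMod s) ∈ ({1, 2, 3, 4, 6, 8, 12} : Finset ℕ) := by
  have h := (Fact.out : s.Prime)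
  have key : ∀ n, s ∣ q ^ n - 1 → orderOf (q : ZMod s) ∣ n := by
    intro n hn
    refine orderOf_dvd_of_pow_eq_one ?_
    rw [← ZMod.natCast_eq_zero_iff, Nat.cast_sub (Nat.one_le_pow _ _ hq), Nat.cast_pow, Nat.cast_one, sub_eq_zero]
      at hn
    exact hn
  have hd : orderOf (q : ZMod s) ∣ 8 ∨ orderOf (q : ZMod s) ∣ 12 := by
    rcases h.dvd_mul.1 hs with h4 | h4
    · rcases h.dvd_mul.1 h4 with h3 | h3
      · rcases h.dvd_mul.1 h3 with h2 | h2
        · rcases h.dvd_mul.1 h2 with h1 | h1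
          · exact absurd (h.dvd_of_dvd_pow h1) hsq
          · exact Or.inl ((key 2 h1).trans (by norm_num))
        · exact Or.inr ((key 6 h2).trans (by norm_num))
      · exact Or.inl (key 8 h3)
    · exact Or.inr (key 12 h4)
  generalize orderOf (q : ZMod s) = d at hd
  have hd12 : d ≤ 12 := by
    rcases hd with hd | hd
    · exact (Nat.le_of_dvd (by norm_num) hd).trans (by norm_num)
    · exact Nat.le_of_dvd (by norm_num) hd
  interval_cases d <;> revert hd <;> decide

theorem phi_twelve_three : ∀ v : ZMod 3, v ^ 4 - v ^ 2 + 1 ≠ 0 := by decide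

theorem order_two {q : ℕ} (hq : Even q) : orderOf ((q : ℕ) : ZMod 2) = 0 := by
  obtain ⟨j, rfl⟩ := hq
  rw [show ((j + j : ℕ) : ZMod 2) = 0 from (ZMod.natCast_eq_zero_iff _ 2).2 ⟨j, by ring⟩]
  exact orderOf_eq_zero_iff'.2 fun n hn => by simp [zero_pow hn.ne']

/-- Let F be a finite field with q = 2^n elements and G = F₄(F). For an odd prime r let e(r, q) be the multiplicative order of q modulo r. Two distinct primes r, s dividing the order of G are non-adjacent in the prime graph of G (no element of order rs) if and only if, up to swapping r and s, either r = 2 and e(s, q) ∈ {8, 12}, or r, s are both odd with k = e(r, q) < l = e(s, q) and one of: l ∈ {8, 12}; l = 6 and k ∈ {3, 4}; l = 4 and k = 3. -/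
theorem result {F : Type*} [Field F] [Fintype F] (n : ℕ) (hn : 1 ≤ n) (hF : Fintype.card F = 2 ^ n)
    (r s : ℕ) (hr : r.Prime) (hs : s.Prime) (hrs : r ≠ s) (hrG : r ∣ Nat.card ↥(Cfsg.Lie.chevF4.group F)) (hsG : s ∣ Nat.card ↥(Cfsg.Lie.chevF4.group F)) :
    (¬ ∃ x : ↥(Cfsg.Lie.chevF4.group F), orderOf x = r * s) ↔
      ((r = 2 ∧ orderOf ((Fintype.card F : ℕ) : ZMod s) ∈ ({8, 12} : Finset ℕ)) ∨ (s = 2 ∧ orderOf ((Fintype.card F : ℕ) : ZMod r) ∈ ({8, 12} : Finset ℕ)) ∨
       (r ≠ 2 ∧ s ≠ 2 ∧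
         ((orderOf ((Fintype.card F : ℕ) : ZMod r) < orderOf ((Fintype.card F : ℕ) : ZMod s) ∧ (orderOf ((Fintype.card F : ℕ) : ZMod s) ∈ ({8, 12} : Finset ℕ) ∨ (orderOf ((Fintype.card F : ℕ) : ZMod s) = 6 ∧ orderOf ((Fintype.card F : ℕ) : ZMod r) ∈ ({3, 4} : Finset ℕ)) ∨ (orderOf ((Fintype.card F : ℕ) : ZMod s) = 4 ∧ orderOf ((Fintype.card F : ℕ) : ZMod r) = 3))) ∨
          (orderOf ((Fintype.card F : ℕ) : ZMod s) < orderOf ((Fintype.card F : ℕ) : ZMod r) ∧ (orderOf ((Fintype.card F : ℕ) : ZMod r) ∈ ({8, 12} : Finset ℕ) ∨ (orderOf ((Fintype.card F : ℕ) : ZMod r) = 6 ∧ orderOf ((Fintype.card F : ℕ) : ZMod s) ∈ ({3, 4} : Finset ℕ)) ∨ (orderOf ((Fintype.card F : ℕ) : ZMod r) = 4 ∧ orderOf ((Fintype.card F : ℕ) : ZMod s) = 3)))))) := by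
  classical
  obtain ⟨T, hc, hcomm⟩ := exists_checked' (D := chevF4) (by simp)
  set q := Fintype.card F with hq_def
  have hqe : Even q := by
    rw [hF]; exact Nat.even_pow.2 ⟨even_two, by omega⟩
  have hq1 : 1 < q := Fintype.one_lt_card
  haveI : CharP F 2 := by
    obtain ⟨p, hp⟩ := CharP.exists F
    obtain ⟨k, hpp, hk⟩ := FiniteField.card F p
    have h2 : 2 ∣ p ^ (k : ℕ) := by
      rw [← hk, ← hq_def, hF]; exact dvd_pow_self 2 (by omega)
    obtain rfl := (Nat.prime_dvd_prime_iff_eq Nat.prime_two hpp).1 (Nat.prime_two.dvd_of_dvd_pow h2)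
    exact hp
  haveI := Fact.mk hr
  haveI := Fact.mk hs
  -- odd primes are prime to `q`
  have hodd : ∀ p : ℕ, p.Prime → p ≠ 2 → ¬ p ∣ q := fun p hp h2 h => by
    rw [hF] at h
    exact h2 ((Nat.prime_dvd_prime_iff_eq hp Nat.prime_two).1 (hp.dvd_of_dvd_pow h))
  have hmem : ∀ p : ℕ, [Fact p.Prime] → p ∣ Nat.card ↥(chevF4.group F) → p ≠ 2 →
      orderOf (q : ZMod p) ∈ ({1, 2, 3, 4, 6, 8, 12} : Finset ℕ) := fun p hp hG h2 =>
    order_cases hq1.le (by rw [← card_group_F4 (F := F) rfl]; exact hG) (hodd p hp.out h2)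
  have e2 : orderOf (q : ZMod 2) = 0 := order_two hqe
  -- elements of order `a b` with `e(a)` equal to `8` or `12`
  have hlarge : ∀ a b : ℕ, [Fact a.Prime] → [Fact b.Prime] → (∃ x : ↥(chevF4.group F), orderOf x = a * b) →
      (orderOf (q : ZMod b) = 8 ∨ orderOf (q : ZMod b) = 12) → orderOf (q : ZMod a) = orderOf (q : ZMod b) := by
    intro a b ha hb ⟨x, hx⟩ hd
    set d := orderOf (q : ZMod b)
    have hy : orderOf (x ^ a) = b := by
      rw [orderOf_pow, hx, Nat.gcd_eq_right (dvd_mul_right a b), Nat.mul_div_cancel_left _ ha.out.pos]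
    have hz : orderOf (x ^ b) = a := by
      rw [orderOf_pow, hx, Nat.gcd_eq_right (dvd_mul_left b a), Nat.mul_div_cancel _ hb.out.pos]
    have h0 := eval_zero_of_commute hc hcomm (q := q) rfl (s := b) (r := a) rfl hd hy hz
      ((Commute.refl x).pow_pow a b)
    have hev : (((Polynomial.cyclotomic d ℤ).eval (q : ℤ) : ℤ) : ZMod a) =
        (Polynomial.cyclotomic d (ZMod a)).eval (q : ZMod a) := by
      rw [← Polynomial.map_cyclotomic d (Int.castRingHom (ZMod a)), show (q : ZMod a) = ((q : ℤ) : ZMod a) by simp,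
        Polynomial.eval_intCast_map]
      rfl
    by_cases ha2 : a = 2
    · subst ha2
      exfalso
      rw [hev, show (q : ZMod 2) = 0 from (ZMod.natCast_eq_zero_iff _ 2).2 hqe.two_dvd,
        ← Polynomial.coeff_zero_eq_eval_zero, Polynomial.cyclotomic_coeff_zero _ (by omega)] at h0
      exact one_ne_zero h0
    refine order_of_eval_zero (fun had => ?_) h0
    have ha3 : a = 3 ∧ d = 12 := by
      rcases hd with h | h <;> rw [h] at had
      · exact absurd ((Nat.prime_dvd_prime_iff_eq ha.out Nat.prime_two).1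
          (ha.out.dvd_of_dvd_pow (show a ∣ 2 ^ 3 from had))) ha2
      · refine ⟨?_, h⟩
        rcases ha.out.dvd_mul.1 (show a ∣ 2 ^ 2 * 3 from had) with h' | h'
        · exact absurd ((Nat.prime_dvd_prime_iff_eq ha.out Nat.prime_two).1 (ha.out.dvd_of_dvd_pow h')) ha2
        · exact (Nat.prime_dvd_prime_iff_eq ha.out Nat.prime_three).1 h'
    obtain ⟨rfl, hd12⟩ := ha3
    rw [show orderOf (q : ZMod b) = 12 from hd12, CfsgLib.ChevCent.cyclotomic_twelve_eq] at h0
    simp only [Polynomial.eval_add, Polynomial.eval_sub, Polynomial.eval_pow, Polynomial.eval_X, Polynomial.eval_one,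
      Int.cast_add, Int.cast_sub, Int.cast_pow, Int.cast_natCast, Int.cast_one] at h0
    exact absurd h0 (phi_twelve_three (q : ZMod 3))
  have hswap : ∀ {a b : ℕ}, (∃ x : ↥(chevF4.group F), orderOf x = a * b) →
      ∃ x : ↥(chevF4.group F), orderOf x = b * a := fun {a b} ⟨x, hx⟩ => ⟨x, by rw [hx, mul_comm]⟩
  have hlow : ∀ b : ℕ, [Fact b.Prime] → orderOf (q : ZMod b) ∈ ({1, 2, 3, 4, 6} : Finset ℕ) →
      ∃ y ∈ uGen chevF4 F IsLow, orderOf y = b := by
    intro b _ hb
    refine exists_low hc hcomm rfl ?_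
    simp only [Finset.mem_insert, Finset.mem_singleton] at hb
    rcases hb with h | h | h | h | h
    · exact Or.inl (dvd_extension hq1.le (by rw [h]; norm_num))
    · exact Or.inl (dvd_extension hq1.le (by rw [h]; norm_num))
    · exact Or.inr (dvd_extension hq1.le (by rw [h]; norm_num))
    · exact Or.inl (dvd_extension hq1.le (by rw [h]))
    · exact Or.inr (dvd_extension hq1.le (by rw [h]))
  have htwo : ∀ b : ℕ, [Fact b.Prime] → b ≠ 2 → orderOf (q : ZMod b) ∈ ({1, 2, 3, 4, 6} : Finset ℕ) →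
      ∃ x : ↥(chevF4.group F), orderOf x = 2 * b := by
    intro b hbp hb2 hb
    obtain ⟨y, hy, hyo⟩ := exists_top_two hc (F := F)
    obtain ⟨z, hz, hzo⟩ := hlow b hb
    exact exists_order_mul hc hcomm Nat.prime_two hbp.out (Ne.symm hb2) hy hz hyo hzo
  have hsmall : ∀ a b : ℕ, [Fact a.Prime] → [Fact b.Prime] → a ≠ b →
      (orderOf (q : ZMod a) = 1 ∨ orderOf (q : ZMod a) = 2) → orderOf (q : ZMod b) ∈ ({1, 2, 3, 4, 6} : Finset ℕ) →
      ∃ x : ↥(chevF4.group F), orderOf x = a * b := by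
    intro a b hap hbp hab ha hb
    obtain ⟨y, hy, hyo⟩ := exists_top hc hcomm rfl
      (dvd_extension (s := a) hq1.le (d := 2) (by rcases ha with h | h <;> rw [h]; norm_num))
    obtain ⟨z, hz, hzo⟩ := hlow b hb
    exact exists_order_mul hc hcomm hap.out hbp.out hab hy hz hyo hzo
  by_cases hr2 : r = 2
  · subst hr2
    have hs2 : s ≠ 2 := fun h => hrs h.symm
    have hes := hmem s hsG hs2
    constructor
    · intro hno
      refine Or.inl ⟨rfl, ?_⟩
      by_contra hne
      refine hno (htwo s hs2 ?_)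
      simp only [Finset.mem_insert, Finset.mem_singleton] at hes hne ⊢
      omega
    · rintro (⟨-, h⟩ | ⟨h, -⟩ | ⟨h, -⟩) hx
      · have hd : orderOf (q : ZMod s) = 8 ∨ orderOf (q : ZMod s) = 12 := by
          simpa only [Finset.mem_insert, Finset.mem_singleton] using h
        have := hlarge 2 s hx hd
        omega
      · exact hs2 h
      · exact h rfl
  by_cases hs2 : s = 2
  · subst hs2
    have her := hmem r hrG hr2
    constructor
    · intro hno
      refine Or.inr (Or.inl ⟨rfl, ?_⟩)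
      by_contra hne
      refine hno (hswap (htwo r hr2 ?_))
      simp only [Finset.mem_insert, Finset.mem_singleton] at her hne ⊢
      omega
    · rintro (⟨h, -⟩ | ⟨-, h⟩ | ⟨-, h, -⟩) hx
      · exact hr2 h
      · have hd : orderOf (q : ZMod r) = 8 ∨ orderOf (q : ZMod r) = 12 := by
          simpa only [Finset.mem_insert, Finset.mem_singleton] using h
        have := hlarge 2 r (hswap hx) hd
        omega
      · exact h rfl
  have her := hmem r hrG hr2
  have hes := hmem s hsG hs2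
  simp only [Finset.mem_insert, Finset.mem_singleton] at her hes
  -- adjacency
  have hadj : ∀ a b : ℕ, [Fact a.Prime] → [Fact b.Prime] → a ≠ b → a ∣ Nat.card ↥(chevF4.group F) →
      (orderOf (q : ZMod a) = orderOf (q : ZMod b) ∧ 3 ≤ orderOf (q : ZMod a) ∨
        (orderOf (q : ZMod a) = 1 ∨ orderOf (q : ZMod a) = 2) ∧
          orderOf (q : ZMod b) ∈ ({1, 2, 3, 4, 6} : Finset ℕ)) →
      orderOf (q : ZMod a) ∈ ({1, 2, 3, 4, 6, 8, 12} : Finset ℕ) →
      ∃ x : ↥(chevF4.group F), orderOf x = a * b := by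
    intro a b _ _ hab haG h hea
    rcases h with ⟨he, h3⟩ | ⟨h1, h2⟩
    · simp only [Finset.mem_insert, Finset.mem_singleton] at hea
      by_cases h8 : orderOf (q : ZMod a) = 8 ∨ orderOf (q : ZMod a) = 12
      · exact exists_equal_large hc hcomm (q := q) rfl hqe hab rfl he.symm h8 haG
      · exact exists_equal_small hc hcomm (q := q) rfl hab rfl he.symm (by omega)
    · exact hsmall a b hab h1 h2
  constructor
  · intro hno
    refine Or.inr (Or.inr ⟨hr2, hs2, ?_⟩)
    have hA := mt (hadj r s hrs hrG · (by simpa using her)) hno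
    have hB := mt (hadj s r (Ne.symm hrs) hsG · (by simpa using hes)) (fun h => hno (hswap h))
    simp only [Finset.mem_insert, Finset.mem_singleton] at hA hB ⊢
    generalize orderOf (q : ZMod r) = a at *
    generalize orderOf (q : ZMod s) = b at *
    rcases her with rfl | rfl | rfl | rfl | rfl | rfl | rfl <;>
      rcases hes with rfl | rfl | rfl | rfl | rfl | rfl | rfl <;> revert hA hB <;> decide
  · rintro (⟨h, -⟩ | ⟨h, -⟩ | ⟨-, -, h⟩) hx
    · exact hr2 h
    · exact hs2 h
    simp only [Finset.mem_insert, Finset.mem_singleton] at h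
    rcases h with ⟨hlt, h | h | h⟩ | ⟨hlt, h | h | h⟩
    · have := hlarge r s hx h; omega
    · rcases h.2 with h3 | h4
      · exact no_pair hc hcomm (q := q) rfl (r := r) (s := s) h3 h.1 (by omega) hx
      · exact no_pair hc hcomm (q := q) rfl (r := r) (s := s) h4 h.1 (by omega) hx
    · exact no_pair hc hcomm (q := q) rfl (r := r) (s := s) h.2 h.1 (by omega) hx
    · have := hlarge s r (hswap hx) h; omega
    · rcases h.2 with h3 | h4
      · exact no_pair hc hcomm (q := q) rfl (r := s) (s := r) h3 h.1 (by omega) (hswap hx)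
      · exact no_pair hc hcomm (q := q) rfl (r := s) (s := r) h4 h.1 (by omega) (hswap hx)
    · exact no_pair hc hcomm (q := q) rfl (r := s) (s := r) h.2 h.1 (by omega) (hswap hx)

end Cfsg.Agent.S2525
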