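import Cfsg.Statements.S2532
import Mathlib.GroupTheory.Perm.ViaEmbedding
import Mathlib.GroupTheory.Perm.Sign
import Mathlib.GroupTheory.GroupAction.Quotient

set_option autoImplicit false
open Cfsg

namespace Cfsg.Agent.S2532


/-- There is a function `f` of two natural-number arguments such that, whenever `m ≥ f(n, r)`, every subgroup of order `n` of the alternating group of degree `m` centralizes some subgroup of that alternating group isomorphic to the alternating group of degree `r`. -/
theorem result :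
    ∃ f : ℕ → ℕ → ℕ, ∀ (m r : ℕ) (H : Subgroup ↥(alternatingGroup (Fin m))), f (Nat.card H) r ≤ m →
      ∃ K : Subgroup ↥(alternatingGroup (Fin m)), Nonempty (↥K ≃* ↥(alternatingGroup (Fin r))) ∧
        K ≤ Subgroup.centralizer (H : Set ↥(alternatingGroup (Fin m))) := by
  classical
  refine ⟨fun n r => 2 ^ n * (r * n) + 1, fun m r H hf => ?_⟩
  haveI : Fintype H := Fintype.ofFinite H
  simp only [Nat.card_eq_fintype_card] at hf
  set n := Fintype.card H
  let st : Fin m → Finset H := fun x => Finset.univ.filter fun h => ((h : ↥(alternatingGroup (Fin m))) : Equiv.Perm (Fin m)) x = x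
  obtain ⟨S, -, hS⟩ := Finset.exists_lt_card_fiber_of_mul_lt_card_of_maps_to (s := (Finset.univ : Finset (Fin m)))
    (t := (Finset.univ : Finset (Finset H))) (f := st) (n := r * n) (fun _ _ => Finset.mem_univ _)
    (by simp only [n, Finset.card_univ, Fintype.card_finset, Fintype.card_fin] at hf ⊢; omega)
  set T := Finset.univ.filter fun x => st x = S
  let orb : Fin m → Finset (Fin m) := fun x => Finset.univ.image fun h : H => ((h : ↥(alternatingGroup (Fin m))) : Equiv.Perm (Fin m)) x
  have hr : r ≤ (T.image orb).card := by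
    by_contra hlt
    push Not at hlt
    have hle : ∀ o ∈ T.image orb, (T.filter fun x => orb x = o).card ≤ n := by
      intro o ho
      obtain ⟨x, hx, rfl⟩ := Finset.mem_image.1 ho
      refine le_trans (Finset.card_le_card (t := orb x) fun y hy => ?_) Finset.card_image_le
      rw [← (Finset.mem_filter.1 hy).2]
      exact Finset.mem_image.2 ⟨1, Finset.mem_univ _, by simp⟩
    have h2 := Finset.card_le_mul_card_image (f := orb) T n hle
    have h3 := Nat.mul_le_mul_left n hlt.le
    rw [mul_comm r n] at hS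
    omega
  obtain ⟨R, hR, hRc⟩ := Finset.exists_subset_card_eq hr
  have he : ∀ i : Fin r, ∃ a, a ∈ T ∧ orb a = ((R.equivFinOfCardEq hRc).symm i : Finset (Fin m)) :=
    fun i => Finset.mem_image.1 (hR ((R.equivFinOfCardEq hRc).symm i).2)
  choose a haT hao using he
  have hast : ∀ i, st (a i) = S := fun i => (Finset.mem_filter.1 (haT i)).2
  let act : H →* Equiv.Perm (Fin m) := (alternatingGroup (Fin m)).subtype.comp H.subtype
  have hmemS : ∀ i (h : H), h ∈ S ↔ act h (a i) = a i := by
    intro i h; rw [← hast i]; exact Finset.mem_filter.trans (and_iff_right (Finset.mem_univ _))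
  let Sg : Subgroup H :=
    { carrier := {h | ∀ i, act h (a i) = a i}
      mul_mem' := fun {x y} hx hy i => by rw [map_mul, Equiv.Perm.mul_apply, hy i, hx i]
      one_mem' := fun i => by simp
      inv_mem' := fun {x} hx i => by rw [map_inv, Equiv.Perm.inv_eq_iff_eq, hx i] }
  let emb : (H ⧸ Sg) × Fin r → Fin m := fun q => Quotient.liftOn' q.1 (fun h => act h (a q.2)) (by
    intro h h' hhh
    rw [QuotientGroup.leftRel_apply] at hhh
    have := hhh q.2
    rw [map_mul, Equiv.Perm.mul_apply, map_inv, Equiv.Perm.inv_eq_iff_eq] at this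
    exact this.symm)
  have hemb : Function.Injective emb := by
    rintro ⟨x, i⟩ ⟨y, j⟩ hxy
    induction x using QuotientGroup.induction_on with | _ h => ?_
    induction y using QuotientGroup.induction_on with | _ h' => ?_
    change act h (a i) = act h' (a j) at hxy
    have hj : act (h'⁻¹ * h) (a i) = a j := by
      rw [map_mul, Equiv.Perm.mul_apply, hxy, map_inv, Equiv.Perm.inv_eq_iff_eq]
    have hij : i = j := by
      apply (R.equivFinOfCardEq hRc).symm.injective
      apply Subtype.ext
      rw [← hao i, ← hao j, ← hj]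
      ext z
      simp only [orb, Finset.mem_image, Finset.mem_univ, true_and]
      constructor
      · rintro ⟨g, rfl⟩
        refine ⟨g * (h'⁻¹ * h)⁻¹, ?_⟩
        show act (g * (h'⁻¹ * h)⁻¹) (act (h'⁻¹ * h) (a i)) = act g (a i)
        rw [← Equiv.Perm.mul_apply, ← map_mul, inv_mul_cancel_right]
      · rintro ⟨g, rfl⟩
        refine ⟨g * (h'⁻¹ * h), ?_⟩
        show act (g * (h'⁻¹ * h)) (a i) = act g (act (h'⁻¹ * h) (a i))
        rw [map_mul, Equiv.Perm.mul_apply]
    subst hij
    refine Prod.ext ?_ rfl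
    refine (QuotientGroup.eq.2 ?_).symm
    intro l
    exact (hmemS l _).1 ((hmemS i _).2 hj)
  let e : (H ⧸ Sg) × Fin r ↪ Fin m := ⟨emb, hemb⟩
  let φ : Equiv.Perm (Fin r) →* Equiv.Perm (Fin m) := (Equiv.Perm.viaEmbeddingHom e).comp
    { toFun := fun σ => Equiv.prodCongrRight fun _ => σ
      map_one' := Equiv.ext fun x => rfl
      map_mul' := fun σ τ => Equiv.ext fun x => rfl }
  have hφin : ∀ σ (q : (H ⧸ Sg) × Fin r), φ σ (emb q) = emb (q.1, σ q.2) := fun σ q =>
    Equiv.Perm.viaEmbedding_apply _ e q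
  have hφout : ∀ σ x, x ∉ Set.range emb → φ σ x = x := fun σ x hx =>
    Equiv.Perm.viaEmbedding_apply_of_notMem _ e x hx
  have hsign : ∀ σ, σ ∈ alternatingGroup (Fin r) → φ σ ∈ alternatingGroup (Fin m) := by
    intro σ hσ
    rw [Equiv.Perm.mem_alternatingGroup] at hσ ⊢
    show Equiv.Perm.sign (Equiv.Perm.viaEmbedding (Equiv.prodCongrRight fun _ => σ) e) = 1
    rw [Equiv.Perm.viaEmbedding, Equiv.Perm.sign_extendDomain, Equiv.Perm.sign_prodCongrRight]
    simp [hσ]
  let ψ : ↥(alternatingGroup (Fin r)) →* ↥(alternatingGroup (Fin m)) :=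
    MonoidHom.codRestrict (φ.comp (alternatingGroup (Fin r)).subtype) _ (fun σ => hsign σ σ.2)
  have hψ : Function.Injective ψ := by
    intro σ τ hh
    apply Subtype.ext
    apply Equiv.ext
    intro i
    have h1 := congrArg (fun p : ↥(alternatingGroup (Fin m)) => (p : Equiv.Perm (Fin m)) (emb (((1 : H) : H ⧸ Sg), i))) hh
    change φ σ (emb (((1 : H) : H ⧸ Sg), i)) = φ τ (emb (((1 : H) : H ⧸ Sg), i)) at h1
    rw [hφin, hφin] at h1
    exact (Prod.ext_iff.1 (hemb h1)).2
  refine ⟨ψ.range, ⟨(MonoidHom.ofInjective hψ).symm⟩, ?_⟩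
  rintro _ ⟨σ, rfl⟩
  rw [Subgroup.mem_centralizer_iff]
  intro h hh
  apply Subtype.ext
  apply Equiv.ext
  intro x
  show act ⟨h, hh⟩ (φ σ x) = φ σ (act ⟨h, hh⟩ x)
  set h' : H := ⟨h, hh⟩
  have hshift : ∀ (g k : H) (i : Fin r), act g (emb ((k : H ⧸ Sg), i)) = emb (((g * k : H) : H ⧸ Sg), i) := by
    intro g k i
    show act g (act k (a i)) = act (g * k) (a i)
    rw [map_mul, Equiv.Perm.mul_apply]
  by_cases hx : x ∈ Set.range emb
  · obtain ⟨⟨q, i⟩, rfl⟩ := hx
    induction q using QuotientGroup.induction_on with | _ k => ?_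
    rw [hφin, hshift, hshift, hφin]
  · rw [hφout σ x hx, hφout]
    rintro ⟨⟨q, i⟩, hq⟩
    induction q using QuotientGroup.induction_on with | _ k => ?_
    apply hx
    refine ⟨(((h'⁻¹ * k : H) : H ⧸ Sg), i), ?_⟩
    rw [← hshift, hq, map_inv]
    exact Equiv.symm_apply_apply _ x

end Cfsg.Agent.S2532
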