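import Cfsg.Statements.S2533
import Mathlib.LinearAlgebra.Matrix.ProjectiveSpecialLinearGroup
import Mathlib.Data.Matrix.Block
import Mathlib.GroupTheory.SemidirectProduct
import Mathlib.Algebra.Field.ZMod
import Mathlib.LinearAlgebra.Matrix.SchurComplement
import Mathlib.FieldTheory.Finite.Basic
import Mathlib.Logic.Equiv.Fin.Basic

set_option autoImplicit false
open Cfsg

namespace Cfsg.Agent.S2533

open Matrix

variable (p : ℕ)

/-- `±1` acting on `(ℤ/p)^3`. -/
def invAction : ℤˣ →* MulAut (Multiplicative (Fin 3 → ZMod p)) :=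
  (MulAutMultiplicative (Fin 3 → ZMod p)).symm.toMonoidHom.comp
    (DistribMulAction.toAddAut ℤˣ (Fin 3 → ZMod p))

abbrev GenDih := Multiplicative (Fin 3 → ZMod p) ⋊[invAction p] ℤˣ

def shift (k : ℕ) : Matrix (Fin k) (Fin k) (ZMod p) :=
  Matrix.of fun i j => if i.val + 1 = j.val then 1 else 0

def arrows (k : ℕ) (v : Fin 3 → ZMod p) : Matrix (Fin k) (Fin k) (ZMod p) :=
  v 0 • 1 + v 1 • shift p k + v 2 • (shift p k).transpose

theorem commute_shift_scalar {k : ℕ} (P : Matrix (Fin (k + 1)) (Fin (k + 1)) (ZMod p))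
    (h1 : P * shift p (k + 1) = shift p (k + 1) * P)
    (h2 : P * (shift p (k + 1)).transpose = (shift p (k + 1)).transpose * P) :
    P = P 0 0 • (1 : Matrix (Fin (k + 1)) (Fin (k + 1)) (ZMod p)) := by
  have key : ∀ Q : Matrix (Fin (k + 1)) (Fin (k + 1)) (ZMod p),
      Q * shift p (k + 1) = shift p (k + 1) * Q →
      (∀ (i j : Fin k), Q i.succ j.succ = Q i.castSucc j.castSucc) ∧ (∀ i : Fin k, Q i.succ 0 = 0) := by
    intro Q hQ
    constructor
    · intro i j
      have := congrFun (congrFun hQ i.castSucc) j.succ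
      rw [Matrix.mul_apply, Matrix.mul_apply, Finset.sum_eq_single j.castSucc, Finset.sum_eq_single i.succ] at this
      · simpa [shift] using this.symm
      · intro b _ hb
        simp only [shift, Matrix.of_apply]
        rw [if_neg, zero_mul]
        intro h; exact hb (Fin.ext (by simpa using h.symm))
      · simp
      · intro b _ hb
        simp only [shift, Matrix.of_apply]
        rw [if_neg, mul_zero]
        intro h; exact hb (Fin.ext (by simpa using h))
      · simp
    · intro i
      have := congrFun (congrFun hQ i.castSucc) 0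
      rw [Matrix.mul_apply, Matrix.mul_apply, Finset.sum_eq_single i.succ (s := Finset.univ) (f := fun l => shift p (k + 1) i.castSucc l * Q l 0)] at this
      · simp [shift] at this
        exact this.symm
      · intro b _ hb
        simp only [shift, Matrix.of_apply]
        rw [if_neg, zero_mul]
        intro h; exact hb (Fin.ext (by simpa using h.symm))
      · simp
  obtain ⟨hd, hc⟩ := key P h1
  obtain ⟨hd', hr⟩ := key P.transpose (by
    have := congrArg Matrix.transpose h2
    rw [Matrix.transpose_mul, Matrix.transpose_mul, Matrix.transpose_transpose] at this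
    exact this.symm)
  ext i j
  induction i using Fin.induction generalizing j with
  | zero =>
    cases j using Fin.cases with
    | zero => simp
    | succ j => simpa [(Fin.succ_ne_zero j).symm] using hr j
  | succ i ih =>
    cases j using Fin.cases with
    | zero => simpa [Fin.succ_ne_zero i] using hc i
    | succ j =>
      rw [hd i j, ih j.castSucc]
      simp [Matrix.one_apply, Fin.succ_inj, Fin.castSucc_inj]

/-- The representation on a `2k`-dimensional space with two layers. -/
def kronMat (k : ℕ) (h : GenDih p) : Matrix (Fin k ⊕ Fin k) (Fin k ⊕ Fin k) (ZMod p) :=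
  Matrix.fromBlocks 1 0 (arrows p k (Multiplicative.toAdd h.left))
    (((h.right : ℤ) : ZMod p) • 1)

theorem kronMat_mul (k : ℕ) (a b : GenDih p) : kronMat p k (a * b) = kronMat p k a * kronMat p k b := by
  have hl : Multiplicative.toAdd (a * b).left =
      Multiplicative.toAdd a.left + ((a.right : ℤ) : ZMod p) • Multiplicative.toAdd b.left := by
    rw [SemidirectProduct.mul_left, toAdd_mul]
    congr 1
    show a.right • Multiplicative.toAdd b.left = _
    funext i
    simp [Units.smul_def, zsmul_eq_mul]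
  have harr : ∀ (u w : Fin 3 → ZMod p) (c : ZMod p), arrows p k (u + c • w) = arrows p k u + c • arrows p k w := by
    intro u w c
    simp [arrows, add_smul, smul_add, mul_smul]
    abel
  simp only [kronMat, Matrix.fromBlocks_multiply, hl, harr, SemidirectProduct.mul_right, Units.val_mul, Int.cast_mul]
  simp [mul_smul]
  rw [smul_comm]

theorem kronMat_one (k : ℕ) : kronMat p k (1 : GenDih p) = 1 := by
  simp [kronMat, arrows]

theorem kronMat_det (k : ℕ) (hk : Even k) (h : GenDih p) : (kronMat p k h).det = 1 := by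
  rw [kronMat, Matrix.det_fromBlocks_zero₁₂, Matrix.det_one, one_mul, Matrix.det_smul, Matrix.det_one,
    mul_one, Fintype.card_fin, ← Int.cast_pow, ← Units.val_pow_eq_pow_val]
  obtain ⟨l, rfl⟩ := hk
  rcases Int.units_eq_one_or h.right with h1 | h1 <;> simp [h1, pow_add, ← mul_pow]

def toSL (k : ℕ) (hk : Even k) : GenDih p →* Matrix.SpecialLinearGroup (Fin (k + k)) (ZMod p) where
  toFun h := ⟨Matrix.reindexAlgEquiv (ZMod p) (ZMod p) finSumFinEquiv (kronMat p k h), by
    rw [Matrix.det_reindexAlgEquiv, kronMat_det p k hk]⟩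
  map_one' := Subtype.ext (by
    show Matrix.reindexAlgEquiv (ZMod p) (ZMod p) finSumFinEquiv (kronMat p k 1) = 1
    rw [kronMat_one, map_one])
  map_mul' a b := Subtype.ext (by
    show Matrix.reindexAlgEquiv (ZMod p) (ZMod p) finSumFinEquiv (kronMat p k (a * b)) = _ * _
    rw [kronMat_mul, map_mul])

/-- For every odd prime `p` there is a finite group `H` of order `2p³` which, for infinitely many `n`, embeds in the projective special linear group `PSL(n, p)` as a subgroup with trivial centralizer. -/
theorem result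
    (p : ℕ) [Fact p.Prime] (hp : p ≠ 2) :
    ∃ (H : Type) (_ : Group H) (_ : Finite H), Nat.card H = 2 * p ^ 3 ∧
      ∀ N : ℕ, ∃ n, N ≤ n ∧ ∃ φ : H →* Matrix.ProjectiveSpecialLinearGroup (Fin n) (ZMod p),
        Function.Injective φ ∧ Subgroup.centralizer (φ.range : Set (Matrix.ProjectiveSpecialLinearGroup (Fin n) (ZMod p))) = ⊥ := by
  haveI : NeZero p := ⟨(Fact.out : p.Prime).ne_zero⟩
  have hp3 : (1 : ZMod p) ≠ -1 := by
    intro h
    have h2 : ((2 : ℕ) : ZMod p) = 0 := by push_cast; linear_combination h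
    rw [ZMod.natCast_eq_zero_iff] at h2
    exact hp ((Nat.prime_dvd_prime_iff_eq Fact.out Nat.prime_two).1 h2)
  haveI : Finite (GenDih p) := Finite.of_equiv _ SemidirectProduct.equivProd.symm
  refine ⟨GenDih p, inferInstance, inferInstance, ?_, fun N => ?_⟩
  · rw [Nat.card_congr SemidirectProduct.equivProd, Nat.card_prod, Nat.card_congr Multiplicative.toAdd,
      Nat.card_fun, Nat.card_zmod, Nat.card_fin, Nat.card_eq_fintype_card, Fintype.card_units_int]
    ring
  obtain ⟨k, hk⟩ : ∃ k, k = 2 * N + 1 := ⟨_, rfl⟩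
  have hev : Even (k + 1) := ⟨N + 1, by omega⟩
  refine ⟨k + 1 + (k + 1), by omega, (QuotientGroup.mk' _).comp (toSL p (k + 1) hev), ?_, ?_⟩
  · rw [injective_iff_map_eq_one]
    intro h hh
    obtain ⟨c, -, hc⟩ := Matrix.SpecialLinearGroup.mem_center_iff.1 ((QuotientGroup.eq_one_iff _).1 hh)
    have hc' : kronMat p (k + 1) h = c • 1 := by
      apply (Matrix.reindexAlgEquiv (ZMod p) (ZMod p) finSumFinEquiv).injective
      rw [map_smul, map_one, Matrix.smul_one_eq_diagonal]
      exact hc.symm
    have h11 := congrFun (congrFun hc' (Sum.inl 0)) (Sum.inl 0)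
    have h22 := congrFun (congrFun hc' (Sum.inr 0)) (Sum.inr 0)
    simp [kronMat] at h11 h22
    subst h11
    have hr : h.right = 1 := by
      rcases Int.units_eq_one_or h.right with h1 | h1
      · exact h1
      · rw [h1] at h22; simp at h22; exact absurd h22.symm hp3
    have hk1 : (0 : Fin (k + 1)) ≠ ⟨1, by omega⟩ := by simp [Fin.ext_iff]
    have hl : h.left = 1 := by
      apply Multiplicative.toAdd.injective
      funext i
      have e0 := congrFun (congrFun hc' (Sum.inr 0)) (Sum.inl 0)
      have e1 := congrFun (congrFun hc' (Sum.inr 0)) (Sum.inl ⟨1, by omega⟩)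
      have e2 := congrFun (congrFun hc' (Sum.inr ⟨1, by omega⟩)) (Sum.inl 0)
      simp [kronMat, arrows, shift, hk1, hk1.symm] at e0 e1 e2
      fin_cases i <;> simp [e0, e1, e2]
    exact SemidirectProduct.ext hl hr
  · rw [eq_bot_iff]
    intro x hx
    rw [Subgroup.mem_bot]
    obtain ⟨A, rfl⟩ := QuotientGroup.mk_surjective x
    obtain ⟨B, hB⟩ : ∃ B : Matrix (Fin (k + 1) ⊕ Fin (k + 1)) (Fin (k + 1) ⊕ Fin (k + 1)) (ZMod p),
        Matrix.reindexAlgEquiv (ZMod p) (ZMod p) finSumFinEquiv B = (A : Matrix _ _ (ZMod p)) :=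
      ⟨_, (Matrix.reindexAlgEquiv (ZMod p) (ZMod p) finSumFinEquiv).apply_symm_apply _⟩
    have hBd : B.det = 1 := by rw [← Matrix.det_reindexAlgEquiv (ZMod p) (ZMod p) finSumFinEquiv, hB, A.2]
    have hcomm : ∀ h : GenDih p, ∃ c : ZMod p, B * kronMat p (k + 1) h = c • (kronMat p (k + 1) h * B) := by
      intro h
      have h1 := Subgroup.mem_centralizer_iff.1 hx _ ⟨h, rfl⟩
      simp only [MonoidHom.comp_apply, QuotientGroup.mk'_apply, ← QuotientGroup.mk_mul] at h1
      obtain ⟨c, -, hc⟩ := Matrix.SpecialLinearGroup.mem_center_iff.1 (QuotientGroup.eq.1 h1)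
      refine ⟨c, (Matrix.reindexAlgEquiv (ZMod p) (ZMod p) finSumFinEquiv).injective ?_⟩
      rw [map_smul, map_mul, map_mul, hB]
      show Subtype.val (A * toSL p (k + 1) hev h) = c • Subtype.val (toSL p (k + 1) hev h * A)
      rw [show A * toSL p (k + 1) hev h =
          (toSL p (k + 1) hev h * A) * ((toSL p (k + 1) hev h * A)⁻¹ * (A * toSL p (k + 1) hev h)) from
          (mul_inv_cancel_left _ _).symm,
        Matrix.SpecialLinearGroup.coe_mul, ← hc, Matrix.scalar_apply, ← Matrix.smul_one_eq_diagonal,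
        mul_smul_comm, mul_one]
    obtain ⟨P, Q, R, S, rfl⟩ : ∃ P Q R S, Matrix.fromBlocks P Q R S = B :=
      ⟨_, _, _, _, Matrix.fromBlocks_toBlocks B⟩
    have hU : ∀ v : Fin 3 → ZMod p, Q * arrows p (k + 1) v = 0 ∧ arrows p (k + 1) v * Q = 0 ∧
        S * arrows p (k + 1) v = arrows p (k + 1) v * P := by
      intro v
      set u : GenDih p := ⟨Multiplicative.ofAdd v, 1⟩
      obtain ⟨c, hc⟩ := hcomm u
      have hup : ∀ j : ℕ, Matrix.fromBlocks P Q R S * kronMat p (k + 1) (u ^ j) =
          c ^ j • (kronMat p (k + 1) (u ^ j) * Matrix.fromBlocks P Q R S) := by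
        intro j
        induction j with
        | zero => simp [kronMat_one]
        | succ j ih =>
          rw [pow_succ, kronMat_mul, ← mul_assoc, ih, smul_mul_assoc, mul_assoc, hc, mul_smul_comm,
            smul_smul, ← pow_succ, ← mul_assoc]
      have hu1 : u ^ p = 1 := by
        have h1 : u = SemidirectProduct.inl (Multiplicative.ofAdd v) := rfl
        rw [h1, ← map_pow, ← ofAdd_nsmul, show p • v = 0 by funext i; simp, ofAdd_zero, map_one]
      have hc1 : c = 1 := by
        have h := hup p
        rw [hu1, kronMat_one, mul_one, one_mul, ZMod.pow_card] at h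
        have hne : Matrix.fromBlocks P Q R S ≠ 0 := fun h0 => by
          rw [h0, Matrix.det_zero] at hBd; exact zero_ne_one hBd
        exact (smul_left_injective (ZMod p) hne) (by show c • _ = (1 : ZMod p) • _; rw [one_smul, ← h])
      subst hc1
      simp [kronMat, u, Matrix.fromBlocks_multiply] at hc
      obtain ⟨a1, a3, a4⟩ := hc
      refine ⟨a1, a4, ?_⟩
      rw [add_comm (arrows p (k + 1) v * P)] at a3
      exact add_left_cancel a3
    have hone : arrows p (k + 1) ![1, 0, 0] = 1 := by simp [arrows]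
    have hJ : arrows p (k + 1) ![0, 1, 0] = shift p (k + 1) := by simp [arrows]
    have hJt : arrows p (k + 1) ![0, 0, 1] = (shift p (k + 1)).transpose := by simp [arrows]
    have hQ0 : Q = 0 := by simpa [hone] using (hU ![1, 0, 0]).1
    have hSP : S = P := by simpa [hone] using (hU ![1, 0, 0]).2.2
    subst hQ0 hSP
    have hP := commute_shift_scalar p S (by simpa [hJ] using (hU ![0, 1, 0]).2.2)
      (by simpa [hJt] using (hU ![0, 0, 1]).2.2)
    obtain ⟨c, hc⟩ := hcomm (SemidirectProduct.inr (-1))
    simp [kronMat, arrows, Matrix.fromBlocks_multiply, Matrix.fromBlocks_smul] at hc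
    obtain ⟨c1, c3, -⟩ := hc
    have hS0 : S ≠ 0 := fun h0 => by
      rw [Matrix.det_fromBlocks_zero₁₂, h0, Matrix.det_zero, zero_mul] at hBd; exact zero_ne_one hBd
    have hc1 : c = 1 := smul_left_injective (ZMod p) hS0 (by show c • S = (1 : ZMod p) • S; rw [one_smul, ← c1])
    rw [hc1, one_smul] at c3
    have hR : R = 0 := by
      ext i j
      have h1 := congrFun (congrFun c3 i) j
      simp only [Matrix.neg_apply] at h1
      have : (2 : ZMod p) * R i j = 0 := by linear_combination h1
      refine (mul_eq_zero.1 this).resolve_left fun h2 => hp3 ?_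
      linear_combination h2
    rw [QuotientGroup.eq_one_iff, Matrix.SpecialLinearGroup.mem_center_iff]
    obtain ⟨c0, hc0⟩ : ∃ c0, c0 = S 0 0 := ⟨_, rfl⟩
    rw [← hc0] at hP
    have hA : Subtype.val A = Matrix.scalar (Fin (k + 1 + (k + 1))) c0 := by
      rw [← hB, hR, hP, show Matrix.fromBlocks (c0 • (1 : Matrix (Fin (k+1)) (Fin (k+1)) (ZMod p))) 0 0 (c0 • 1) =
          c0 • (1 : Matrix (Fin (k + 1) ⊕ Fin (k + 1)) (Fin (k + 1) ⊕ Fin (k + 1)) (ZMod p)) by
        rw [← Matrix.fromBlocks_one, Matrix.fromBlocks_smul]; simp]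
      rw [map_smul, map_one, Matrix.scalar_apply, Matrix.smul_one_eq_diagonal]
    refine ⟨_, ?_, hA.symm⟩
    have := congrArg Matrix.det hA
    rw [A.2, Matrix.scalar_apply, Matrix.det_diagonal] at this
    simpa using this.symm

end Cfsg.Agent.S2533
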