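import Cfsg.Statements.S2534
import Cfsg.Agent.Lib.AltHall.DPi

set_option autoImplicit false
open Cfsg

namespace Cfsg.Agent.S2534

/-- For `n ≥ 5` and a set of primes `π`, the alternating group of degree `n` satisfies the full Sylow analogue for `π` (its maximal `π`-subgroups are pairwise conjugate; for a finite group this says Hall `π`-subgroups exist, are all conjugate, and contain every `π`-subgroup up to conjugacy) if and only if either at most one prime of `π` divides its order or every prime dividing its order lies in `π`. -/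
theorem result (n : ℕ) (hn : 5 ≤ n) (π : Set ℕ) :
    Cfsg.IsDPiGroup π ↥(alternatingGroup (Fin n)) ↔
      ((∀ r s : ℕ, r.Prime → s.Prime → r ∈ π → s ∈ π → r ∣ Nat.card ↥(alternatingGroup (Fin n)) → s ∣ Nat.card ↥(alternatingGroup (Fin n)) → r = s) ∨
        ∀ r : ℕ, r.Prime → r ∣ Nat.card ↥(alternatingGroup (Fin n)) → r ∈ π) := by
  have hcard : Fintype.card (Fin n) = n := Fintype.card_fin n
  have hdvd : ∀ {r : ℕ}, r.Prime → (r ∣ Nat.card ↥(alternatingGroup (Fin n)) ↔ r ≤ n) :=
    fun {r} hr => by rw [CfsgLib.AltHall.prime_dvd_alt hr (by omega), hcard]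
  constructor
  · intro hD
    rcases CfsgLib.AltHall.trichotomy n π with h | h | ⟨-, h2, hns⟩
    · exact Or.inl fun r s hr hs hrπ hsπ hrd hsd =>
        h r s hr hs hrπ hsπ ((hdvd hr).1 hrd) ((hdvd hs).1 hsd)
    · exact Or.inr fun r hr hrd => h r hr ((hdvd hr).1 hrd)
    · exact absurd hD (CfsgLib.AltHall.not_dPi (by omega) (by simpa using h2) (by simpa using hns))
  · rintro (h | h)
    · exact (CfsgLib.AltHall.one_prime h).2.1
    · exact (CfsgLib.AltHall.all_primes h).2.2.2

end Cfsg.Agent.S2534
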