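import Cfsg.Statements.S2535
import Cfsg.Agent.Lib.AltHall.Main

set_option autoImplicit false
open Cfsg

namespace Cfsg.Agent.S2535

/-- For every `n` and every set of primes `π`, the following are equivalent for the symmetric group `S` of degree `n` and its alternating subgroup `A`: `S` has a Hall `π`-subgroup; `S` has a Hall `π`-subgroup and all of them are conjugate; `A` has a Hall `π`-subgroup; `A` has a Hall `π`-subgroup and all of them are conjugate. -/
theorem result (n : ℕ) (π : Set ℕ) :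
    (Cfsg.IsEPiGroup π (Equiv.Perm (Fin n)) ↔ Cfsg.IsCPiGroup π (Equiv.Perm (Fin n))) ∧
    (Cfsg.IsEPiGroup π (Equiv.Perm (Fin n)) ↔ Cfsg.IsEPiGroup π ↥(alternatingGroup (Fin n))) ∧
    (Cfsg.IsEPiGroup π ↥(alternatingGroup (Fin n)) ↔ Cfsg.IsCPiGroup π ↥(alternatingGroup (Fin n))) := by
  have h1 : Cfsg.IsEPiGroup π (Equiv.Perm (Fin n)) →
      Cfsg.IsEPiGroup π ↥(alternatingGroup (Fin n)) := fun ⟨H, hH⟩ =>
    ⟨_, CfsgLib.AltHall.hall_inter_normal hH _⟩
  have h2 : Cfsg.IsEPiGroup π ↥(alternatingGroup (Fin n)) →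
      Cfsg.IsEPiGroup π (Equiv.Perm (Fin n)) := fun ⟨M, hM⟩ =>
    (CfsgLib.AltHall.exists_hall_symm hM).imp fun _ h => h.1
  exact ⟨⟨CfsgLib.AltHall.cPi_symm, And.left⟩, ⟨h1, h2⟩, ⟨CfsgLib.AltHall.cPi_alt, And.left⟩⟩

end Cfsg.Agent.S2535
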