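import Cfsg.Statements.S2536
import Cfsg.Agent.Lib.AltHall.Main

set_option autoImplicit false
open Cfsg

namespace Cfsg.Agent.S2536

/-- Let `π` be a set of primes and `n` a natural number such that at least two primes of `π` divide `n!` but not every prime dividing `n!` lies in `π`. Then the symmetric group of degree `n` has a Hall `π`-subgroup if and only if either `n` is prime and the primes of `π` dividing `n!` are exactly the primes smaller than `n` (a point stabilizer is then such a subgroup), or `n ∈ {7, 8}` and the primes of `π` dividing `n!` are exactly 2 and 3. -/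
theorem result (n : ℕ) (π : Set ℕ)
    (h2 : ∃ r s : ℕ, r.Prime ∧ s.Prime ∧ r ≠ s ∧ r ∈ π ∧ s ∈ π ∧ r ≤ n ∧ s ≤ n)
    (hns : ∃ r : ℕ, r.Prime ∧ r ≤ n ∧ r ∉ π) :
    Cfsg.IsEPiGroup π (Equiv.Perm (Fin n)) ↔
      ((n.Prime ∧ ∀ r : ℕ, r.Prime → r ≤ n → (r ∈ π ↔ r < n)) ∨
       ((n = 7 ∨ n = 8) ∧ ∀ r : ℕ, r.Prime → r ≤ n → (r ∈ π ↔ (r = 2 ∨ r = 3)))) := by
  have hn : 5 ≤ n := by
    rcases CfsgLib.AltHall.trichotomy n π with h | h | ⟨h, -⟩
    · obtain ⟨r, s, hr, hs, hrs, hrπ, hsπ, hrn, hsn⟩ := h2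
      exact absurd (h r s hr hs hrπ hsπ hrn hsn) hrs
    · obtain ⟨r, hr, hrn, hrπ⟩ := hns
      exact absurd (h r hr hrn) hrπ
    · exact h
  have h23 : ∀ r : ℕ, r.Prime → (r < 5 ↔ r = 2 ∨ r = 3) := fun r hr => by
    refine ⟨fun h => ?_, fun h => by omega⟩
    have := hr.two_le
    have : r ≠ 4 := fun e => by rw [e] at hr; norm_num at hr
    omega
  constructor
  · rintro ⟨H, hH⟩
    obtain ⟨C, ⟨t, ht, ht5, htn, hcases, hπ⟩, -⟩ :=
      CfsgLib.AltHall.hall_symm_classify (by simpa using hn) (by simpa using h2)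
        (by simpa using hns) hH
    simp only [Fintype.card_fin] at htn hcases hπ
    rcases hcases with ⟨rfl, -⟩ | ⟨rfl, h, -⟩ | ⟨rfl, h, -⟩
    · exact Or.inl ⟨ht, hπ⟩
    · exact Or.inr ⟨Or.inl h, fun r hr hrn => (hπ r hr hrn).trans (h23 r hr)⟩
    · exact Or.inr ⟨Or.inr h, fun r hr hrn => (hπ r hr hrn).trans (h23 r hr)⟩
  · intro h
    suffices ∃ C : Finset (Fin n), CfsgLib.AltHall.Shape π C by
      obtain ⟨C, hC⟩ := this
      exact ⟨_, hC.isPiHall⟩
    rcases h with ⟨hp, hπ⟩ | ⟨hn7, hπ⟩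
    · obtain ⟨C, -, hC⟩ := Finset.exists_subset_card_eq (s := (Finset.univ : Finset (Fin n)))
        (n := 1) (by simp; omega)
      exact ⟨C, n, hp, hn, by simp, Or.inl ⟨by simp, hC⟩, by simpa using hπ⟩
    · obtain ⟨C, -, hC⟩ := Finset.exists_subset_card_eq (s := (Finset.univ : Finset (Fin n)))
        (n := n / 2) (by simp; omega)
      refine ⟨C, 5, Nat.prime_five, le_rfl, by simpa using hn, Or.inr ?_, ?_⟩
      · rw [Fintype.card_fin]
        omega
      · intro r hr hrn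
        rw [Fintype.card_fin] at hrn
        rw [hπ r hr hrn, h23 r hr]

end Cfsg.Agent.S2536
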