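import Cfsg.Statements.S2540
import Cfsg.Agent.Lib.Linear.Simple

set_option autoImplicit false
open Cfsg

namespace Cfsg.Agent.S2540


/-- Let F be a finite field and n ≥ 1, excluding the case n = 2 with #F ≤ 3. A subgroup of GL_n(F) that is normalized by every element of SL_n(F) either consists of scalar matrices or contains SL_n(F). -/
theorem result {F : Type*} [Field F] [Fintype F] (n : ℕ) (hn : 1 ≤ n) (hex : ¬ (n = 2 ∧ Fintype.card F ≤ 3)) (G : Subgroup (Matrix.GeneralLinearGroup (Fin n) F)) (hG : ∀ s : Matrix.SpecialLinearGroup (Fin n) F, ∀ g ∈ G, (Matrix.SpecialLinearGroup.toGL s) * g * (Matrix.SpecialLinearGroup.toGL s)⁻¹ ∈ G) : (∀ g ∈ G, ∃ c : F, (g : Matrix (Fin n) (Fin n) F) = c • (1 : Matrix (Fin n) (Fin n) F)) ∨ (Matrix.SpecialLinearGroup.toGL : Matrix.SpecialLinearGroup (Fin n) F →* _).range ≤ G := by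
  rcases Nat.lt_or_ge n 2 with hn2 | hn2
  · left
    intro g _
    have : n = 1 := by omega
    subst this
    exact ⟨(g : Matrix (Fin 1) (Fin 1) F) 0 0, by ext i j; fin_cases i; fin_cases j; simp⟩
  have : Nontrivial (Fin n) := Fin.nontrivial_iff_two_le.2 hn2
  have hcond : 3 ≤ Fintype.card (Fin n) ∨ ∃ a : F, a ≠ 0 ∧ a ^ 2 ≠ 1 := by
    rcases eq_or_lt_of_le hn2 with h2 | h2
    · refine Or.inr (CfsgLib.Linear.exists_sq_ne_one_of_four_le_card ?_)
      rw [Nat.card_eq_fintype_card]
      by_contra hc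
      exact hex ⟨h2.symm, by omega⟩
    · exact Or.inl (by simpa using Nat.succ_le_of_lt h2)
  let ι : Matrix.SpecialLinearGroup (Fin n) F →* Matrix.GeneralLinearGroup (Fin n) F :=
    Matrix.SpecialLinearGroup.toGL
  have hinj : Function.Injective ι := Matrix.SpecialLinearGroup.toGL_injective
  let N := G.comap ι
  have hN : N.Normal := ⟨fun x hx s => by
    show ι (s * x * s⁻¹) ∈ G
    rw [map_mul, map_mul, map_inv]
    exact hG s _ hx⟩
  rcases CfsgLib.Linear.SL_normal_le_center_or_eq_top hcond N with hc | ht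
  · left
    intro g hg
    set Z := Subgroup.center (Matrix.SpecialLinearGroup (Fin n) F)
    have hc' : ∀ s, ∃ z ∈ Z, ι z = ι s * g * (ι s)⁻¹ * g⁻¹ := by
      intro s
      have hmem : ι s * g * (ι s)⁻¹ * g⁻¹ ∈ G := G.mul_mem (hG s g hg) (G.inv_mem hg)
      have hd : Matrix.GeneralLinearGroup.det (ι s * g * (ι s)⁻¹ * g⁻¹) = 1 := by
        rw [map_mul, map_mul, map_mul, map_inv, map_inv, mul_inv_cancel_comm, mul_inv_cancel]
      refine ⟨⟨_, (congrArg Units.val hd : _)⟩, hc ?_, ?_⟩
      · show ι _ ∈ G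
        convert hmem using 1
        ext1; rfl
      · ext1; rfl
    choose z hz hzι using hc'
    let c : Matrix.SpecialLinearGroup (Fin n) F →* Z :=
      { toFun := fun s => ⟨z s, hz s⟩
        map_one' := Subtype.ext (hinj (by rw [hzι]; simp))
        map_mul' := fun s t => Subtype.ext (hinj (by
          show ι (z (s * t)) = ι (z s * z t)
          rw [map_mul ι (z s), hzι (s * t), hzι s, map_mul]
          calc ι s * ι t * g * (ι s * ι t)⁻¹ * g⁻¹
              = ι s * (ι t * g * (ι t)⁻¹ * g⁻¹) * (ι s)⁻¹ * (ι s * g * (ι s)⁻¹ * g⁻¹) := by group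
            _ = ι (s * z t * s⁻¹) * (ι s * g * (ι s)⁻¹ * g⁻¹) := by rw [map_mul, map_mul, map_inv, hzι t]
            _ = ι (z t) * (ι s * g * (ι s)⁻¹ * g⁻¹) := by
              rw [Subgroup.mem_center_iff.1 (hz t) s, mul_inv_cancel_right]
            _ = ι s * g * (ι s)⁻¹ * g⁻¹ * ι (z t) := by
              rw [← hzι s, ← map_mul, ← map_mul, Subgroup.mem_center_iff.1 (hz t) (z s)])) }
    have hker : commutator (Matrix.SpecialLinearGroup (Fin n) F) ≤ c.ker := by
      rw [commutator_def]
      refine Subgroup.commutator_le.2 fun x _ y _ => ?_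
      rw [MonoidHom.mem_ker, commutatorElement_def, map_mul, map_mul, map_mul, map_inv, map_inv]
      have hcm : c x * c y = c y * c x :=
        Subtype.ext (Subgroup.mem_center_iff.1 (c y).2 (c x : Matrix.SpecialLinearGroup (Fin n) F))
      rw [hcm, mul_assoc (c y), mul_inv_cancel, mul_one, mul_inv_cancel]
    rw [CfsgLib.Linear.commutator_SL_eq_top hcond] at hker
    obtain ⟨r, hr⟩ := Matrix.mem_range_scalar_of_commute_transvectionStruct
      (M := (g : Matrix (Fin n) (Fin n) F)) (fun t => by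
        have h1 : z ⟨t.toMatrix, t.det⟩ = 1 := congrArg Subtype.val (hker (Subgroup.mem_top ⟨t.toMatrix, t.det⟩))
        have h2 := hzι ⟨t.toMatrix, t.det⟩
        rw [h1, map_one, eq_comm, mul_inv_eq_one, mul_inv_eq_iff_eq_mul] at h2
        exact congrArg Units.val h2)
    exact ⟨r, by rw [← hr]; ext i j; simp [Matrix.diagonal_apply, Matrix.one_apply]⟩
  · right
    rintro _ ⟨s, rfl⟩
    exact (show s ∈ N from ht ▸ Subgroup.mem_top s)

end Cfsg.Agent.S2540
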