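import Cfsg.Statements.S2541
import Mathlib.GroupTheory.Perm.Cycle.Type
import Mathlib.RingTheory.IntegralDomain
import Mathlib.FieldTheory.Finite.Basic

set_option autoImplicit false
open Cfsg

namespace Cfsg.Agent.S2541


/-- Let F be a field with 9 elements. The symmetric group S_6 is not isomorphic to PGL_2(F) (although both have index-2 subgroups isomorphic to A_6). -/
theorem result {F : Type*} [Field F] [Fintype F] (hF : Fintype.card F = 9) : ¬ Nonempty (Equiv.Perm (Fin 6) ≃* Matrix.ProjGenLinGroup (Fin 2) F) := by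
  rintro ⟨e⟩
  classical
  obtain ⟨γ, hγ⟩ := IsCyclic.exists_ofOrder_eq_natCard (α := Fˣ)
  rw [Nat.card_units, Nat.card_eq_fintype_card, hF] at hγ
  have hγ' : orderOf γ = 8 := hγ
  let d : GL (Fin 2) F := Matrix.GeneralLinearGroup.mkOfDetNeZero (Matrix.diagonal ![(γ : F), 1])
    (by simp)
  have hd : ∀ k, (d ^ k : GL (Fin 2) F) = (1 : GL (Fin 2) F) ↔ γ ^ k = 1 := by
    intro k
    rw [Units.ext_iff, Units.val_pow_eq_pow_val, Units.val_one,
      show (d : Matrix (Fin 2) (Fin 2) F) = Matrix.diagonal ![(γ : F), 1] from rfl,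
      Matrix.diagonal_pow, ← Matrix.diagonal_one, Matrix.diagonal_eq_diagonal_iff, Units.ext_iff]
    simp [Fin.forall_fin_two]
  let x := Matrix.ProjGenLinGroup.mk d
  have hx8 : x ^ 8 = 1 := by
    show Matrix.ProjGenLinGroup.mk d ^ 8 = 1
    rw [← map_pow, (hd 8).2 (by rw [← hγ', pow_orderOf_eq_one]), map_one]
  have hx4 : x ^ 4 ≠ 1 := by
    intro h
    rw [← map_pow, Matrix.ProjGenLinGroup.mk_eq_one,
      Matrix.GeneralLinearGroup.center_eq_range_scalar] at h
    obtain ⟨u, hu⟩ := h
    have h00 := congrArg (fun m : GL (Fin 2) F => (m : Matrix (Fin 2) (Fin 2) F) 0 0) hu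
    have h11 := congrArg (fun m : GL (Fin 2) F => (m : Matrix (Fin 2) (Fin 2) F) 1 1) hu
    simp [d, Matrix.diagonal_pow] at h00 h11
    have : γ ^ 4 = 1 := Units.ext (by simpa [h11] using h00.symm)
    have h4 := orderOf_dvd_of_pow_eq_one this
    rw [hγ'] at h4
    exact absurd h4 (by decide)
  have hord : orderOf x = 2 ^ (2 + 1) := orderOf_eq_prime_pow (by simpa using hx4) (by simpa using hx8)
  set σ := e.symm x
  have hσ : orderOf σ = 8 := by rw [show orderOf σ = orderOf x from orderOf_injective e.symm.toMonoidHom e.symm.injective x, hord]; norm_num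
  have hdvd : orderOf σ ∣ 4 := by
    rw [← Equiv.Perm.lcm_cycleType, Multiset.lcm_dvd]
    intro b hb
    have h1 : b ∣ 8 := hσ ▸ Equiv.Perm.dvd_of_mem_cycleType hb
    have h2 : b ≤ 6 := le_trans (Multiset.le_sum_of_mem hb)
      ((Equiv.Perm.sum_cycleType σ).trans_le (by simpa using Finset.card_le_univ σ.support))
    interval_cases b <;> omega
  rw [hσ] at hdvd
  exact absurd hdvd (by decide)

end Cfsg.Agent.S2541
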