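import Cfsg.Statements.S2547
import Cfsg.Agent.Lib.SteinbergChar.OrthCases

set_option autoImplicit false
open Cfsg

namespace Cfsg.Agent.S2547


/-- Let F be a finite field of characteristic p and consider the group PΩ_{2m+1}(F) of the quadratic form x₀² + Σ x_i y_i, where m ≥ 1 and #F is odd. This group has an irreducible complex character χ whose degree equals the order of a Sylow p-subgroup (namely q^(m²) when #F = q) and whose restriction to any Sylow p-subgroup P is the regular character of P: χ vanishes on the non-identity elements of P. (This is the Steinberg character.) -/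
theorem result {F : Type*} [Field F] [Fintype F] (p : ℕ) [Fact p.Prime] [CharP F p] (hodd : Odd (Fintype.card F)) (m : ℕ) (hm : 1 ≤ m) : ∃ χ : Cfsg.POmega F (Cfsg.quadFormOdd m F) → ℂ, Cfsg.IsIrrCharacter (Cfsg.POmega F (Cfsg.quadFormOdd m F)) χ ∧ ∀ P : Sylow p (Cfsg.POmega F (Cfsg.quadFormOdd m F)), χ 1 = Nat.card P ∧ ∀ x : Cfsg.POmega F (Cfsg.quadFormOdd m F), x ∈ P → x ≠ 1 → χ x = 0 := by
  have h2 : (2 : F) ≠ 0 := fun h2 => by
    have := CfsgLib.OrthCrit.charP_two_of h2
    obtain ⟨k, hp, hk⟩ := FiniteField.card F 2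
    have heven : Even (Fintype.card F) := by
      rw [hk]
      exact (even_two.pow_of_ne_zero k.2.ne')
    exact Nat.not_even_iff_odd.mpr hodd heven
  refine CfsgLib.SteinbergChar.exists_pomega_character p (Cfsg.quadFormOdd m F) m 1 hm (by norm_num)
    (CfsgLib.SteinbergChar.OrthStd.kerOne F) (CfsgLib.SteinbergChar.OrthStd.kerOne_nd h2)
    CfsgLib.SteinbergChar.OrthStd.kerOne_aniso
    (Or.inl fun h => Nat.not_even_iff_odd.mpr hodd (h ▸ even_two))
    (((Equiv.sumComm _ _).trans (Equiv.sumCongr (Equiv.refl _) finOneEquiv.symm)).trans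
      (CfsgLib.SteinbergChar.OrthStd.idx m 1)) fun x => ?_
  rw [CfsgLib.SteinbergChar.OrthStd.form_apply, CfsgLib.SteinbergChar.OrthStd.kerOne_apply,
    add_comm, ← _root_.sq]
  rfl

end Cfsg.Agent.S2547
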