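import Cfsg.Statements.S2550
import Cfsg.Agent.Lib.Linear.Card
import Cfsg.Agent.S0256


set_option autoImplicit false
set_option maxHeartbeats 200000
open Cfsg

namespace Cfsg.Agent.S2550

/-- No element of order six in `PSL₃(4)`. -/
theorem no_order_six {K : Type*} [Field K] [Fintype K] (hK : Fintype.card K = 4)
    (x : Matrix.ProjectiveSpecialLinearGroup (Fin 3) K) (hx : orderOf x = 6) : False := by
  classical
  obtain ⟨g, rfl⟩ := QuotientGroup.mk_surjective x
  have hchar : CharP K 2 := by
    obtain ⟨p, hp⟩ := CharP.exists K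
    obtain ⟨n, hpp, hn⟩ := FiniteField.card K p
    have h2 : p ∣ 2 ^ 2 := by norm_num; rw [← hK, hn]; exact dvd_pow_self p n.pos.ne'
    rw [(Nat.prime_dvd_prime_iff_eq hpp Nat.prime_two).mp (hpp.dvd_of_dvd_pow h2)] at hp
    exact hp
  have hcube : ∀ a : K, a ≠ 0 → a ^ 3 = 1 := fun a ha => by
    have := FiniteField.pow_card_sub_one_eq_one a ha
    rwa [hK] at this
  set G : Matrix (Fin 3) (Fin 3) K := g.1
  have hscalar : ∀ k, ((QuotientGroup.mk g : Matrix.ProjectiveSpecialLinearGroup (Fin 3) K) ^ k = 1) ↔ ∃ c : K, c ^ 3 = 1 ∧ G ^ k = c • (1 : Matrix (Fin 3) (Fin 3) K) := by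
    intro k
    rw [← QuotientGroup.mk_pow, QuotientGroup.eq_one_iff, Matrix.SpecialLinearGroup.mem_center_iff]
    simp only [Fintype.card_fin, Matrix.smul_one_eq_diagonal]
    refine exists_congr fun c => and_congr_right fun _ => ?_
    rw [Matrix.SpecialLinearGroup.coe_pow]
    exact eq_comm
  obtain ⟨l, hl, hG6⟩ := (hscalar 6).mp (by rw [← hx]; exact pow_orderOf_eq_one _)
  have hl0 : l ≠ 0 := by rintro rfl; simp at hl
  set T : Matrix (Fin 3) (Fin 3) K := l • G ^ 3 with hT
  set N := T + 1 with hN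
  have hT2 : T * T = 1 := by
    rw [hT, smul_mul_smul_comm, ← pow_add, hG6, smul_smul]
    rw [show l * l * l = 1 by rw [← hl]; ring, one_smul]
  have hN2 : N * N = 0 := by
    rw [hN, add_mul, mul_add, mul_add, hT2]
    simp only [mul_one, one_mul]
    rw [show (1 : Matrix (Fin 3) (Fin 3) K) + T + (T + 1) = (T + T) + (1 + 1) by abel]
    ext i j
    simp [CharTwo.add_self_eq_zero]
  have hN0 : N ≠ 0 := by
    intro h0
    have hT1 : T = 1 := by
      ext i j
      have := congrFun (congrFun h0 i) j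
      exact CharTwo.add_eq_zero.mp this
    have h3 : G ^ 3 = l⁻¹ • (1 : Matrix (Fin 3) (Fin 3) K) := by
      rw [← hT1, hT, smul_smul, inv_mul_cancel₀ hl0, one_smul]
    have := orderOf_dvd_of_pow_eq_one ((hscalar 3).mpr ⟨l⁻¹, by rw [inv_pow, hl, inv_one], h3⟩)
    rw [hx] at this
    norm_num at this
  have hcomm : G * N = N * G := by
    rw [hN, mul_add, add_mul, hT, mul_one, one_mul, mul_smul_comm, smul_mul_assoc, ← pow_succ, ← pow_succ']
  -- vectors z, w, u with N z = u, N w = 0
  obtain ⟨z, hz⟩ : ∃ z, N.mulVec z ≠ 0 := by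
    by_contra h
    push Not at h
    exact hN0 (Matrix.ext_of_mulVec_single fun j => by rw [h, Matrix.zero_mulVec])
  set u := N.mulVec z with hu
  have hNu : N.mulVec u = 0 := by rw [hu, Matrix.mulVec_mulVec, hN2, Matrix.zero_mulVec]
  have hker : Module.finrank K (LinearMap.ker N.mulVecLin) = 2 ∧ LinearMap.range N.mulVecLin = Submodule.span K {u} := by
    have h1 := LinearMap.finrank_range_add_finrank_ker N.mulVecLin
    rw [Module.finrank_fin_fun] at h1
    have hle : LinearMap.range N.mulVecLin ≤ LinearMap.ker N.mulVecLin := by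
      rintro _ ⟨v, rfl⟩
      show N.mulVec (N.mulVec v) = 0
      rw [Matrix.mulVec_mulVec, hN2, Matrix.zero_mulVec]
    have h2 := Submodule.finrank_mono hle
    have hsp : Submodule.span K {u} ≤ LinearMap.range N.mulVecLin := (Submodule.span_singleton_le_iff_mem _ _).mpr ⟨z, rfl⟩
    have h3 := Submodule.finrank_mono hsp
    rw [finrank_span_singleton hz] at h3
    refine ⟨by omega, (Submodule.eq_of_le_of_finrank_le hsp ?_).symm⟩
    rw [finrank_span_singleton hz]
    omega
  obtain ⟨w, hw, hwu⟩ : ∃ w ∈ LinearMap.ker N.mulVecLin, w ∉ Submodule.span K {u} := by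
    by_contra h
    push Not at h
    have := Submodule.finrank_mono (show LinearMap.ker N.mulVecLin ≤ Submodule.span K {u} from h)
    rw [finrank_span_singleton hz, hker.1] at this
    omega
  have hNw : N.mulVec w = 0 := hw
  have hind : LinearIndependent K ![u, w, z] := by
    rw [Fintype.linearIndependent_iff]
    intro c hc
    rw [Fin.sum_univ_three] at hc
    simp only [Matrix.cons_val] at hc
    have h2 : c 2 = 0 := by
      have := congrArg N.mulVec hc
      rw [Matrix.mulVec_add, Matrix.mulVec_add, Matrix.mulVec_smul, Matrix.mulVec_smul, Matrix.mulVec_smul, hNu, hNw, Matrix.mulVec_zero, smul_zero, smul_zero, zero_add, zero_add] at this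
      exact (smul_eq_zero.mp this).resolve_right hz
    rw [h2, zero_smul, add_zero] at hc
    have h1 : c 1 = 0 := by
      by_contra h1
      apply hwu
      rw [Submodule.mem_span_singleton]
      refine ⟨-(c 0) / c 1, ?_⟩
      have : c 1 • w = -(c 0 • u) := eq_neg_of_add_eq_zero_right hc
      rw [← neg_smul] at this
      rw [div_eq_inv_mul, mul_smul, ← this, smul_smul, inv_mul_cancel₀ h1, one_smul]
    rw [h1, zero_smul, add_zero] at hc
    intro i
    fin_cases i
    · exact (smul_eq_zero.mp hc).resolve_right hz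
    · exact h1
    · exact h2
  let b : Module.Basis (Fin 3) K (Fin 3 → K) := basisOfLinearIndependentOfCardEqFinrank' ![u, w, z] hind (by simp)
  have hb : ∀ i, b i = ![u, w, z] i := fun i => by simp [b]
  obtain ⟨a, ha⟩ : ∃ a : K, a • u = G.mulVec u := by
    rw [← Submodule.mem_span_singleton, ← hker.2]
    exact ⟨G.mulVec z, by rw [Matrix.mulVecLin_apply, hu, Matrix.mulVec_mulVec, Matrix.mulVec_mulVec, hcomm]⟩
  let M := LinearMap.toMatrix b b G.mulVecLin
  have hM : ∀ i j, M i j = b.repr (G.mulVec (b j)) i := fun i j => LinearMap.toMatrix_apply b b _ i j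
  have hNr : ∀ v, N.mulVec v = b.repr v 2 • u := by
    intro v
    conv_lhs => rw [← b.sum_repr v, Fin.sum_univ_three, hb, hb, hb]
    simp only [Matrix.cons_val, Matrix.mulVec_add, Matrix.mulVec_smul, hNu, hNw, ← hu, smul_zero, zero_add]
  have hc0 : ∀ i, M i 0 = if i = 0 then a else 0 := by
    intro i
    rw [hM, hb, Matrix.cons_val_zero, ← ha, map_smul, Finsupp.smul_apply, show u = b 0 by rw [hb]; rfl, b.repr_self, Finsupp.single_apply]
    rcases eq_or_ne i 0 with rfl | h
    · simp
    · simp [h, Ne.symm h]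
  have hM21 : M 2 1 = 0 := by
    rw [hM, hb]
    have h1 : N.mulVec (G.mulVec w) = 0 := by rw [Matrix.mulVec_mulVec, ← hcomm, ← Matrix.mulVec_mulVec, hNw, Matrix.mulVec_zero]
    rw [hNr] at h1
    simpa using (smul_eq_zero.mp h1).resolve_right hz
  have hM22 : M 2 2 = a := by
    rw [hM, hb]
    have h1 : N.mulVec (G.mulVec z) = a • u := by rw [Matrix.mulVec_mulVec, ← hcomm, ← Matrix.mulVec_mulVec, ← hu, ha]
    rw [hNr] at h1
    simpa using smul_left_injective K hz h1
  have hdet : M.det = 1 := by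
    rw [LinearMap.det_toMatrix, ← Matrix.toLin'_apply', LinearMap.det_toLin']
    exact g.2
  rw [Matrix.det_fin_three, hc0 0, hc0 1, hc0 2, hM21, hM22] at hdet
  simp only [if_pos, show (1 : Fin 3) ≠ 0 by decide, show (2 : Fin 3) ≠ 0 by decide, if_false] at hdet
  ring_nf at hdet
  have ha0 : a ≠ 0 := by rintro rfl; simp at hdet
  have hM11 : M 1 1 = a := by
    have h3 := hcube a ha0
    calc M 1 1 = M 1 1 * a ^ 3 := by rw [h3, mul_one]
      _ = a * (a ^ 2 * M 1 1) := by ring
      _ = a := by rw [hdet, mul_one]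
  set D := M + a • (1 : Matrix (Fin 3) (Fin 3) K) with hD
  have hD3 : D ^ 3 = 0 := by
    have hDeq : D = !![0, M 0 1, M 0 2; 0, 0, M 1 2; 0, 0, 0] := by
      rw [hD]
      ext i j
      fin_cases i <;> fin_cases j <;> simp [hc0, hM21, hM22, hM11, CharTwo.add_self_eq_zero]
    rw [hDeq]
    ext i j
    fin_cases i <;> fin_cases j <;> simp [pow_succ, Matrix.mul_apply, Fin.sum_univ_three]
  have hM4 : M ^ 4 = a • (1 : Matrix (Fin 3) (Fin 3) K) := by
    have h1 : D ^ 4 = 0 := by rw [pow_succ, hD3, zero_mul]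
    have h2 : D * D = M * M + (a * a) • (1 : Matrix (Fin 3) (Fin 3) K) := by
      rw [hD, add_mul, mul_add, mul_add, smul_mul_assoc, mul_smul_comm, one_mul, mul_one, smul_mul_smul_comm, one_mul]
      ext i j
      simp only [Matrix.add_apply]
      linear_combination (CharTwo.add_self_eq_zero ((a • M) i j))
    have h3 : D ^ 4 = M ^ 4 + (a ^ 4) • (1 : Matrix (Fin 3) (Fin 3) K) := by
      rw [show D ^ 4 = (D * D) * (D * D) by simp [pow_succ, mul_assoc], h2, add_mul, mul_add, mul_add, smul_mul_assoc, mul_smul_comm, one_mul, mul_one, smul_mul_smul_comm, one_mul,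
        show M ^ 4 = (M * M) * (M * M) by simp [pow_succ, mul_assoc], show a ^ 4 = a * a * (a * a) by ring]
      ext i j
      simp only [Matrix.add_apply]
      linear_combination (CharTwo.add_self_eq_zero (((a * a) • (M * M)) i j))
    rw [h1, show a ^ 4 = a by rw [pow_succ, hcube a ha0, one_mul]] at h3
    ext i j
    exact CharTwo.add_eq_zero.mp (congrFun (congrFun h3.symm i) j)
  have hG4 : G ^ 4 = a • (1 : Matrix (Fin 3) (Fin 3) K) := by
    let ψ : Matrix (Fin 3) (Fin 3) K ≃ₐ[K] Matrix (Fin 3) (Fin 3) K := Matrix.toLinAlgEquiv'.trans (LinearMap.toMatrixAlgEquiv b)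
    have hψ : ψ G = M := rfl
    apply ψ.injective
    rw [map_pow, hψ, hM4, map_smul, map_one]
  have := orderOf_dvd_of_pow_eq_one ((hscalar 4).mpr ⟨a, hcube a ha0, hG4⟩)
  rw [hx] at this
  norm_num at this


/-- Let F be a field with 2 elements and K a field with 4 elements. PSL_4(F) and PSL_3(K) have the same order (20160) but are not isomorphic. -/
theorem result {F K : Type*} [Field F] [Fintype F] [Field K] [Fintype K] (hF : Fintype.card F = 2) (hK : Fintype.card K = 4) : Nat.card (Matrix.ProjectiveSpecialLinearGroup (Fin 4) F) = Nat.card (Matrix.ProjectiveSpecialLinearGroup (Fin 3) K) ∧ ¬ Nonempty (Matrix.ProjectiveSpecialLinearGroup (Fin 4) F ≃* Matrix.ProjectiveSpecialLinearGroup (Fin 3) K) := by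
  classical
  have h4 : Nat.card (Matrix.ProjectiveSpecialLinearGroup (Fin 4) F) = 20160 := by
    have h1 := CfsgLib.Linear.card_PSL_mul (n := Fin 4) (F := F)
    have h2 := CfsgLib.Linear.card_SL_mul (F := F) 4 (by norm_num)
    rw [hF] at h1 h2
    norm_num [Fintype.card_fin] at h1
    norm_num [Fin.prod_univ_four] at h2
    rw [Nat.card_eq_fintype_card]
    omega
  have h3 : Nat.card (Matrix.ProjectiveSpecialLinearGroup (Fin 3) K) = 20160 := by
    have h1 := CfsgLib.Linear.card_PSL_mul (n := Fin 3) (F := K)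
    have h2 := CfsgLib.Linear.card_SL_mul (F := K) 3 (by norm_num)
    rw [hK] at h1 h2
    norm_num [Fintype.card_fin] at h1
    norm_num [Fin.prod_univ_three] at h2
    rw [Nat.card_eq_fintype_card]
    omega
  refine ⟨h4.trans h3.symm, ?_⟩
  rintro ⟨e⟩
  obtain ⟨e8⟩ := S0256.result hF
  let σ : Equiv.Perm (Fin 8) := Equiv.swap 0 1 * Equiv.swap 1 2 * (Equiv.swap 3 4 * Equiv.swap 5 6)
  have hσ : σ ∈ alternatingGroup (Fin 8) := by
    rw [Equiv.Perm.mem_alternatingGroup]; simp [σ]
  let y : Matrix.ProjectiveSpecialLinearGroup (Fin 3) K := e (e8.symm ⟨σ, hσ⟩)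
  have hy : orderOf y = 6 := by
    rw [MulEquiv.orderOf_eq, MulEquiv.orderOf_eq, Subgroup.orderOf_mk, orderOf_eq_iff (by norm_num)]
    constructor
    · decide +kernel
    · intro m hm hm0
      interval_cases m <;> decide +kernel
  exact no_order_six hK y hy

end Cfsg.Agent.S2550
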