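import Cfsg.Statements.S2551
import Cfsg.Agent.Lib.Linear.SL4Two


set_option autoImplicit false
set_option maxHeartbeats 200000
open Cfsg

namespace Cfsg.Agent.S2551

/-- The pairs of distinct nonzero vectors. -/
def Pairs (F : Type*) [Field F] : Type _ := {p : (Fin 4 → F) × (Fin 4 → F) // p.1 ≠ 0 ∧ p.2 ≠ 0 ∧ p.1 ≠ p.2}

theorem transitive {F : Type*} [Field F] [Fintype F] (hF : Fintype.card F = 2)
    (H : Subgroup (Matrix.GeneralLinearGroup (Fin 4) F)) (hH : Nonempty (H ≃* alternatingGroup (Fin 7)))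
    (v w v' w' : Fin 4 → F) (hv : v ≠ 0) (hw : w ≠ 0) (hvw : v ≠ w) (hv' : v' ≠ 0) (hw' : w' ≠ 0) (hvw' : v' ≠ w') :
    ∃ g ∈ H, (g : Matrix (Fin 4) (Fin 4) F).mulVec v = v' ∧ (g : Matrix (Fin 4) (Fin 4) F).mulVec w = w' := by
  classical
  obtain ⟨eH⟩ := hH
  have hHcard : Nat.card H = 2520 := by
    rw [Nat.card_congr eH.toEquiv]
    rw [nat_card_alternatingGroup, Nat.card_fin]
    rfl
  let X := {v : Fin 4 → F // v ≠ 0}
  let act : H → X → X := fun g x => ⟨((g : GL (Fin 4) F) : Matrix (Fin 4) (Fin 4) F).mulVec x.1, fun h => x.2 (by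
    have := congrArg ((((g : GL (Fin 4) F)⁻¹ : GL (Fin 4) F) : Matrix (Fin 4) (Fin 4) F).mulVec) h
    rwa [Matrix.mulVec_mulVec, ← Units.val_mul, inv_mul_cancel, Units.val_one, Matrix.one_mulVec, Matrix.mulVec_zero] at this)⟩
  letI instX : MulAction H X :=
    { smul := act
      one_smul := fun x => Subtype.ext (show ((1 : GL (Fin 4) F) : Matrix (Fin 4) (Fin 4) F).mulVec x.1 = x.1 by rw [Units.val_one, Matrix.one_mulVec])
      mul_smul := fun g h x => Subtype.ext (show (((g : GL (Fin 4) F) * h : GL (Fin 4) F) : Matrix (Fin 4) (Fin 4) F).mulVec x.1 = _ by rw [Units.val_mul, ← Matrix.mulVec_mulVec]; rfl) }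
  have hXcard : Nat.card X = 15 := by
    rw [Nat.card_eq_fintype_card, Fintype.card_subtype_compl, Fintype.card_subtype_eq, Fintype.card_fun, hF, Fintype.card_fin]
    rfl
  -- elements of order 5 and 7
  have hfix : ∀ (p : ℕ) [Fact p.Prime] (h : H), orderOf h = p →
      ∃ d, d < 4 ∧ Nat.card {x : X // h • x = x} = 2 ^ d - 1 ∧ (15 : ℕ) ≡ 2 ^ d - 1 [MOD p] := by
    intro p _ h hp
    have hP : IsPGroup p (Subgroup.zpowers h) := IsPGroup.of_card (n := 1) (by rw [Nat.card_zpowers, hp, pow_one])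
    have hmod := hP.card_modEq_card_fixedPoints X
    have hfp : Nat.card (MulAction.fixedPoints (Subgroup.zpowers h) X) = Nat.card {x : X // h • x = x} := by
      refine Nat.card_congr (Equiv.subtypeEquivRight fun x => ⟨fun hx => hx ⟨h, Subgroup.mem_zpowers h⟩, fun hx k => ?_⟩)
      have hle : Subgroup.zpowers h ≤ MulAction.stabilizer H x := Subgroup.zpowers_le.mpr hx
      exact hle k.2
    let M := ((h : GL (Fin 4) F) : Matrix (Fin 4) (Fin 4) F)
    let W := LinearMap.ker (M.mulVecLin - LinearMap.id)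
    have hmemW : ∀ y, y ∈ W ↔ M.mulVec y = y := fun y => by
      simp [W, sub_eq_zero]
    have hcW : Nat.card {x : X // h • x = x} = 2 ^ Module.finrank F W - 1 := by
      have h1 : Nat.card W = 2 ^ Module.finrank F W := by
        rw [Module.natCard_eq_pow_finrank (K := F), Nat.card_eq_fintype_card, hF]
      rw [← h1, Nat.card_congr (show {x : X // h • x = x} ≃ {y : W // y ≠ 0} from
        { toFun := fun x => ⟨⟨x.1.1, (hmemW _).mpr (congrArg Subtype.val x.2)⟩, fun e => x.1.2 (congrArg Subtype.val e)⟩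
          invFun := fun y => ⟨⟨y.1.1, fun e => y.2 (Subtype.ext e)⟩, Subtype.ext ((hmemW _).mp y.1.2)⟩
          left_inv := fun x => rfl
          right_inv := fun y => rfl })]
      rw [Nat.card_eq_fintype_card, Nat.card_eq_fintype_card, Fintype.card_subtype_compl, Fintype.card_subtype_eq]
    refine ⟨Module.finrank F W, ?_, hcW, ?_⟩
    · by_contra hge
      have hle : Module.finrank F W ≤ 4 := (Submodule.finrank_le W).trans (by rw [Module.finrank_fin_fun])
      have htop : W = ⊤ := Submodule.eq_top_of_finrank_eq (by rw [Module.finrank_fin_fun]; omega)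
      have h1 : h = 1 := Subtype.ext (Units.ext (Matrix.ext_of_mulVec_single fun j => by
        rw [(hmemW _).mp (htop ▸ Submodule.mem_top)]; exact (Matrix.one_mulVec _).symm))
      rw [h1, orderOf_one] at hp
      exact (Fact.out : p.Prime).one_lt.ne hp
    · rw [← hcW, ← hfp, ← hXcard]; exact hmod
  haveI : Fact (Nat.Prime 5) := ⟨by norm_num⟩
  haveI : Fact (Nat.Prime 7) := ⟨by norm_num⟩
  obtain ⟨h5, h5o⟩ := exists_prime_orderOf_dvd_card' (G := H) 5 (by rw [hHcard]; norm_num)
  obtain ⟨h7, h7o⟩ := exists_prime_orderOf_dvd_card' (G := H) 7 (by rw [hHcard]; norm_num)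
  obtain ⟨h2, h2o⟩ := exists_prime_orderOf_dvd_card' (G := H) 2 (by rw [hHcard]; norm_num)
  have fix5 : ∀ x : X, h5 • x ≠ x := by
    obtain ⟨d, hd, hc, hm⟩ := hfix 5 h5 h5o
    have hd0 : d = 0 := by unfold Nat.ModEq at hm; interval_cases d <;> omega
    subst hd0
    intro x hx
    have : IsEmpty {x : X // h5 • x = x} := (Nat.card_eq_zero.mp hc).resolve_right (fun hi => hi.not_finite inferInstance)
    exact this.false ⟨x, hx⟩
  have fix7 : ∀ x y : X, h7 • x = x → h7 • y = y → x = y := by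
    obtain ⟨d, hd, hc, hm⟩ := hfix 7 h7 h7o
    have hd1 : d = 1 := by unfold Nat.ModEq at hm; interval_cases d <;> omega
    subst hd1
    intro x y hx hy
    haveI : Subsingleton {x : X // h7 • x = x} := (Nat.card_eq_one_iff_unique.mp hc).1
    exact congrArg Subtype.val (Subsingleton.elim (⟨x, hx⟩ : {x : X // h7 • x = x}) ⟨y, hy⟩)
  have hdvdfix : ∀ {Y : Type _} [MulAction H Y] [Finite Y] (p : ℕ) [Fact p.Prime] (h : H) (y : Y), orderOf h = p →
      (∀ z ∈ MulAction.orbit H y, h • z ≠ z) → p ∣ Nat.card (MulAction.orbit H y) := by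
    intro Y _ _ p _ h y hp hne
    have hP : IsPGroup p (Subgroup.zpowers h) := IsPGroup.of_card (n := 1) (by rw [Nat.card_zpowers, hp, pow_one])
    have hmod := hP.card_modEq_card_fixedPoints (MulAction.orbit H y)
    have : IsEmpty (MulAction.fixedPoints (Subgroup.zpowers h) (MulAction.orbit H y)) :=
      ⟨fun z => hne z.1.1 z.1.2 (congrArg Subtype.val (z.2 ⟨h, Subgroup.mem_zpowers h⟩))⟩
    rw [show Nat.card (MulAction.fixedPoints (Subgroup.zpowers h) (MulAction.orbit H y)) = 0 from @Nat.card_of_isEmpty _ this] at hmod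
    exact Nat.modEq_zero_iff_dvd.mp hmod
  -- transitive on nonzero vectors
  have htrans : ∀ x : X, Nat.card (MulAction.orbit H x) = 15 := by
    intro x
    have h5d := hdvdfix 5 h5 x h5o fun z _ => fix5 z
    have hle : Nat.card (MulAction.orbit H x) ≤ 15 := hXcard ▸ Nat.card_le_card_of_injective _ Subtype.val_injective
    have hpos : 0 < Nat.card (MulAction.orbit H x) := by
      haveI : Nonempty (MulAction.orbit H x) := ⟨⟨x, MulAction.mem_orbit_self x⟩⟩
      exact Nat.card_pos
    have hP : IsPGroup 7 (Subgroup.zpowers h7) := IsPGroup.of_card (n := 1) (by rw [Nat.card_zpowers, h7o, pow_one])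
    have hmod := hP.card_modEq_card_fixedPoints (MulAction.orbit H x)
    have hsub : Subsingleton (MulAction.fixedPoints (Subgroup.zpowers h7) (MulAction.orbit H x)) :=
      ⟨fun a b => Subtype.ext (Subtype.ext (fix7 _ _ (congrArg Subtype.val (a.2 ⟨h7, Subgroup.mem_zpowers h7⟩)) (congrArg Subtype.val (b.2 ⟨h7, Subgroup.mem_zpowers h7⟩))))⟩
    have h1 := Finite.card_le_one_iff_subsingleton.mpr hsub
    unfold Nat.ModEq at hmod
    rcases (show Nat.card (MulAction.orbit H x) = 5 ∨ Nat.card (MulAction.orbit H x) = 10 ∨ Nat.card (MulAction.orbit H x) = 15 by omega) with h | h | h <;> rw [h] at hmod <;> omega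
  -- transitive on pairs
  let Y := {p : X × X // p.1 ≠ p.2}
  letI instY : MulAction H Y :=
    { smul := fun g p => ⟨(g • p.1.1, g • p.1.2), fun e => p.2 (MulAction.injective g e)⟩
      one_smul := fun p => Subtype.ext (Prod.ext (one_smul H p.1.1) (one_smul H p.1.2))
      mul_smul := fun g h p => Subtype.ext (Prod.ext (mul_smul g h p.1.1) (mul_smul g h p.1.2)) }
  have hYcard : Nat.card Y = 210 := by
    have h1 : Fintype.card X = 15 := by rw [← Nat.card_eq_fintype_card, hXcard]
    have e : {p : X × X // p.1 = p.2} ≃ X :=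
      { toFun := fun p => p.1.1, invFun := fun x => ⟨(x, x), rfl⟩
        left_inv := fun p => Subtype.ext (Prod.ext rfl p.2), right_inv := fun x => rfl }
    rw [Nat.card_eq_fintype_card, Fintype.card_subtype_compl, Fintype.card_prod, Fintype.card_congr e, h1]
  have horb : ∀ p : Y, Nat.card (MulAction.orbit H p) = 105 ∨ Nat.card (MulAction.orbit H p) = 210 := by
    intro p
    have h15 : 15 ∣ Nat.card (MulAction.orbit H p) := by
      have hle : MulAction.stabilizer H p ≤ MulAction.stabilizer H p.1.1 := fun g hg =>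
        congrArg (fun q : Y => q.1.1) hg
      have := Subgroup.index_dvd_of_le hle
      rw [MulAction.index_stabilizer, MulAction.index_stabilizer, ← Nat.card_coe_set_eq, ← Nat.card_coe_set_eq, htrans] at this
      exact this
    have h7d := hdvdfix 7 h7 p h7o fun z _ hz => z.2 (fix7 _ _ (congrArg (fun q : Y => q.1.1) hz) (congrArg (fun q : Y => q.1.2) hz))
    have hle : Nat.card (MulAction.orbit H p) ≤ 210 := hYcard ▸ Nat.card_le_card_of_injective _ Subtype.val_injective
    have hpos : 0 < Nat.card (MulAction.orbit H p) := by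
      haveI : Nonempty (MulAction.orbit H p) := ⟨⟨p, MulAction.mem_orbit_self p⟩⟩
      exact Nat.card_pos
    omega
  obtain ⟨p₀, hp₀⟩ : ∃ p : Y, Nat.card (MulAction.orbit H p) = 210 := by
    obtain ⟨x, hx⟩ : ∃ x : X, h2 • x ≠ x := by
      by_contra hc
      push Not at hc
      have h1 : h2 = 1 := Subtype.ext (Units.ext (Matrix.ext_of_mulVec_single fun j => by
        refine (congrArg Subtype.val (hc ⟨Pi.single j 1, fun e => one_ne_zero (α := F) (by simpa using congrFun e j)⟩)).trans ?_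
        exact (Matrix.one_mulVec _).symm))
      rw [h1, orderOf_one] at h2o
      norm_num at h2o
    let p : Y := ⟨(x, h2 • x), Ne.symm hx⟩
    refine ⟨p, (horb p).resolve_left fun h105 => ?_⟩
    have hsw : ∀ q ∈ MulAction.orbit H p, (⟨(q.1.2, q.1.1), Ne.symm q.2⟩ : Y) ∈ MulAction.orbit H p := by
      rintro _ ⟨g, rfl⟩
      refine ⟨g * h2, Subtype.ext (Prod.ext ?_ ?_)⟩
      · show (g * h2) • x = g • h2 • x
        rw [mul_smul]
      · show (g * h2) • h2 • x = g • x
        rw [← mul_smul, mul_assoc, show h2 * h2 = 1 by rw [← sq, ← h2o, pow_orderOf_eq_one], mul_one]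
    let sw : Equiv.Perm (MulAction.orbit H p) :=
      { toFun := fun q => ⟨_, hsw q.1 q.2⟩, invFun := fun q => ⟨_, hsw q.1 q.2⟩, left_inv := fun q => rfl, right_inv := fun q => rfl }
    have heven : 2 ∣ Nat.card (MulAction.orbit H p) := by
      have hsq : sw ^ 2 ^ 1 = 1 := by rw [pow_one, sq]; exact Equiv.ext fun q => rfl
      by_contra hodd
      obtain ⟨q, hq⟩ := Equiv.Perm.exists_fixed_point_of_prime (p := 2) (n := 1) (by rwa [← Nat.card_eq_fintype_card]) hsq
      exact q.1.2 (congrArg (fun r : MulAction.orbit H p => r.1.1.1) hq).symm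
    omega
  have huniv : ∀ q : Y, q ∈ MulAction.orbit H p₀ := by
    intro q
    have : MulAction.orbit H p₀ = Set.univ := by
      apply Set.eq_univ_of_univ_subset
      intro z _
      by_contra hz
      have := Set.ncard_lt_ncard (Set.ssubset_univ_iff.mpr (fun e => hz (by rw [e]; trivial)) : MulAction.orbit H p₀ ⊂ Set.univ)
      rw [Set.ncard_univ, ← Nat.card_coe_set_eq, hp₀, hYcard] at this
      omega
    rw [this]; trivial
  obtain ⟨g₁, hg₁⟩ := huniv ⟨(⟨v, hv⟩, ⟨w, hw⟩), fun e => hvw (congrArg Subtype.val e)⟩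
  obtain ⟨g₂, hg₂⟩ := huniv ⟨(⟨v', hv'⟩, ⟨w', hw'⟩), fun e => hvw' (congrArg Subtype.val e)⟩
  have h3 : (g₂ * g₁⁻¹) • (⟨(⟨v, hv⟩, ⟨w, hw⟩), fun e => hvw (congrArg Subtype.val e)⟩ : Y) = ⟨(⟨v', hv'⟩, ⟨w', hw'⟩), fun e => hvw' (congrArg Subtype.val e)⟩ := by
    have e1 : g₁ • p₀ = _ := hg₁
    have e2 : g₂ • p₀ = _ := hg₂
    rw [← e1, ← e2, mul_smul, inv_smul_smul]
  refine ⟨((g₂ * g₁⁻¹ : H) : GL (Fin 4) F), (g₂ * g₁⁻¹).2, ?_, ?_⟩
  · exact congrArg (fun q : Y => (q.1.1 : Fin 4 → F)) h3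
  · exact congrArg (fun q : Y => (q.1.2 : Fin 4 → F)) h3


/-- Let F be the field with 2 elements. GL_4(F) (≅ A_8) has a subgroup isomorphic to the alternating group A_7, and every such subgroup acts 2-transitively on the 15 non-zero vectors of F⁴: any ordered pair of distinct non-zero vectors is carried to any other by some element of the subgroup. -/
theorem result {F : Type*} [Field F] [Fintype F] (hF : Fintype.card F = 2) : (∃ H : Subgroup (Matrix.GeneralLinearGroup (Fin 4) F), Nonempty (H ≃* alternatingGroup (Fin 7))) ∧ ∀ H : Subgroup (Matrix.GeneralLinearGroup (Fin 4) F), Nonempty (H ≃* alternatingGroup (Fin 7)) → ∀ v w v' w' : Fin 4 → F, v ≠ 0 → w ≠ 0 → v ≠ w → v' ≠ 0 → w' ≠ 0 → v' ≠ w' → ∃ g ∈ H, (g : Matrix (Fin 4) (Fin 4) F).mulVec v = v' ∧ (g : Matrix (Fin 4) (Fin 4) F).mulVec w = w' := by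
  classical
  refine ⟨?_, fun H hH => transitive hF H hH⟩
  obtain ⟨e⟩ := CfsgLib.Linear.SL4Two.exists_SL4_equiv_A8 hF
  let ι : Equiv.Perm (Fin 7) →* Equiv.Perm (Fin 8) := Equiv.Perm.viaEmbeddingHom Fin.castSuccEmb
  have hsign : ∀ σ, Equiv.Perm.sign (ι σ) = Equiv.Perm.sign σ := fun σ => by
    show Equiv.Perm.sign (Equiv.Perm.viaEmbedding σ Fin.castSuccEmb) = _
    unfold Equiv.Perm.viaEmbedding
    convert Equiv.Perm.sign_extendDomain σ _
  let φ : alternatingGroup (Fin 7) →* alternatingGroup (Fin 8) :=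
    (ι.comp (alternatingGroup (Fin 7)).subtype).codRestrict _ fun σ => by
      rw [Equiv.Perm.mem_alternatingGroup, MonoidHom.comp_apply, hsign]; exact σ.2
  have hφ : Function.Injective φ := fun a b h => Subtype.ext (Equiv.Perm.viaEmbeddingHom_injective _ (congrArg Subtype.val h :))
  let Φ : alternatingGroup (Fin 7) →* Matrix.GeneralLinearGroup (Fin 4) F :=
    Matrix.SpecialLinearGroup.toGL.comp (e.symm.toMonoidHom.comp φ)
  have hΦ : Function.Injective Φ := Matrix.SpecialLinearGroup.toGL_injective.comp (e.symm.injective.comp hφ)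
  exact ⟨Φ.range, ⟨(MonoidHom.ofInjective hΦ).symm⟩⟩

end Cfsg.Agent.S2551
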