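import Cfsg.Statements.S2552


set_option autoImplicit false
open Cfsg

namespace Cfsg.Agent.S2552

/-- Let F be a finite field and n ≥ 1. For every k, the special linear group SL_n(F) acts transitively on the set of k-dimensional subspaces of F^n: any two subspaces of the same dimension are carried onto each other by some matrix of determinant 1. -/
theorem result {F : Type*} [Field F] [Fintype F] (n : ℕ) (hn : 1 ≤ n) (U₁ U₂ : Submodule F (Fin n → F)) (h : Module.finrank F U₁ = Module.finrank F U₂) : ∃ g : Matrix.SpecialLinearGroup (Fin n) F, U₁.map ((Matrix.SpecialLinearGroup.toLin' g : (Fin n → F) ≃ₗ[F] (Fin n → F)) : (Fin n → F) →ₗ[F] (Fin n → F)) = U₂ := by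
  classical
  obtain ⟨C₁, hC₁⟩ := Submodule.exists_isCompl U₁
  obtain ⟨C₂, hC₂⟩ := Submodule.exists_isCompl U₂
  have hC : Module.finrank F C₁ = Module.finrank F C₂ := by
    have := Submodule.finrank_add_eq_of_isCompl hC₁
    have := Submodule.finrank_add_eq_of_isCompl hC₂
    omega
  by_cases hU : Module.finrank F C₁ = 0
  · refine ⟨1, ?_⟩
    have e1 : U₁ = ⊤ := by
      rw [Submodule.finrank_eq_zero.mp hU] at hC₁
      simpa using hC₁.sup_eq_top
    have e2 : U₂ = ⊤ := by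
      rw [hC] at hU
      rw [Submodule.finrank_eq_zero.mp hU] at hC₂
      simpa using hC₂.sup_eq_top
    subst e1 e2
    simp
  let eU : U₁ ≃ₗ[F] U₂ := LinearEquiv.ofFinrankEq _ _ h
  let eC : C₁ ≃ₗ[F] C₂ := LinearEquiv.ofFinrankEq _ _ hC
  let P₁ := Submodule.prodEquivOfIsCompl U₁ C₁ hC₁
  let P₂ := Submodule.prodEquivOfIsCompl U₂ C₂ hC₂
  let e : (Fin n → F) ≃ₗ[F] (Fin n → F) := P₁.symm ≪≫ₗ (eU.prodCongr eC) ≪≫ₗ P₂
  obtain ⟨c, hc⟩ : ∃ c : C₁ ≃ₗ[F] C₁, (LinearMap.det (c : C₁ →ₗ[F] C₁)) = (LinearMap.det (e : (Fin n → F) →ₗ[F] (Fin n → F)))⁻¹ := by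
    let b := Module.finBasis F C₁
    have hne : Nonempty (Fin (Module.finrank F C₁)) := ⟨⟨0, Nat.pos_of_ne_zero hU⟩⟩
    obtain ⟨i⟩ := hne
    let d : F := (LinearMap.det (e : (Fin n → F) →ₗ[F] (Fin n → F)))⁻¹
    let D : Matrix _ _ F := Matrix.diagonal (Function.update (fun _ => (1 : F)) i d)
    have hD : D.det = d := by
      rw [Matrix.det_diagonal, Finset.prod_update_of_mem (Finset.mem_univ i)]
      simp
    have hd0 : d ≠ 0 := inv_ne_zero (LinearEquiv.isUnit_det' e).ne_zero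
    have hu : IsUnit (LinearMap.det (Matrix.toLin b b D)) := by
      rw [LinearMap.det_toLin, hD]; exact Ne.isUnit hd0
    refine ⟨LinearEquiv.ofIsUnitDet (f := Matrix.toLin b b D) (v := b) (v' := b) (by
      rw [LinearMap.toMatrix_toLin, hD]; exact Ne.isUnit hd0), ?_⟩
    have : ((LinearEquiv.ofIsUnitDet (f := Matrix.toLin b b D) (v := b) (v' := b) (by
      rw [LinearMap.toMatrix_toLin, hD]; exact Ne.isUnit hd0)) : C₁ →ₗ[F] C₁) = Matrix.toLin b b D := by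
      ext x; rfl
    rw [this, LinearMap.det_toLin, hD]
  let g₀ : (Fin n → F) ≃ₗ[F] (Fin n → F) := P₁.symm ≪≫ₗ ((LinearEquiv.refl F U₁).prodCongr c) ≪≫ₗ P₁
  have hg₀ : LinearMap.det (g₀ : (Fin n → F) →ₗ[F] (Fin n → F)) = (LinearMap.det (e : (Fin n → F) →ₗ[F] (Fin n → F)))⁻¹ := by
    have : (g₀ : (Fin n → F) →ₗ[F] (Fin n → F)) = (P₁ : (U₁ × C₁) →ₗ[F] (Fin n → F)) ∘ₗ (LinearMap.prodMap LinearMap.id (c : C₁ →ₗ[F] C₁)) ∘ₗ (P₁.symm : (Fin n → F) →ₗ[F] (U₁ × C₁)) := by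
      ext x; rfl
    rw [this, LinearMap.det_conj, LinearMap.det_prodMap, LinearMap.det_id, one_mul, hc]
  let g : (Fin n → F) ≃ₗ[F] (Fin n → F) := g₀ ≪≫ₗ e
  have hg : (LinearMap.toMatrix' (g : (Fin n → F) →ₗ[F] (Fin n → F))).det = 1 := by
    rw [LinearMap.det_toMatrix']
    have : (g : (Fin n → F) →ₗ[F] (Fin n → F)) = (e : (Fin n → F) →ₗ[F] (Fin n → F)) ∘ₗ (g₀ : (Fin n → F) →ₗ[F] (Fin n → F)) := rfl
    rw [this, LinearMap.det_comp, hg₀, mul_inv_cancel₀ (LinearEquiv.isUnit_det' e).ne_zero]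
  refine ⟨⟨_, hg⟩, ?_⟩
  have hlin : ((Matrix.SpecialLinearGroup.toLin' (⟨_, hg⟩ : Matrix.SpecialLinearGroup (Fin n) F) : (Fin n → F) ≃ₗ[F] (Fin n → F)) : (Fin n → F) →ₗ[F] (Fin n → F)) = (g : (Fin n → F) →ₗ[F] (Fin n → F)) := by
    refine Eq.trans ?_ (Matrix.toLin'_toMatrix' _)
    exact LinearMap.ext fun x => rfl
  rw [hlin]
  have key : ∀ x (hx : x ∈ U₁), g x = eU ⟨x, hx⟩ := by
    intro x hx
    have h1 : P₁.symm x = (⟨x, hx⟩, 0) := Submodule.prodEquivOfIsCompl_symm_apply_left U₁ C₁ hC₁ ⟨x, hx⟩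
    have h2 : g₀ x = x := by
      simp only [g₀, LinearEquiv.trans_apply, h1]
      simp [P₁]
    simp only [g, LinearEquiv.trans_apply, h2, e, h1]
    simp [P₂]
  ext y
  constructor
  · rintro ⟨x, hx, rfl⟩
    rw [LinearEquiv.coe_coe, key x hx]; exact SetLike.coe_mem _
  · intro hy
    refine ⟨(eU.symm ⟨y, hy⟩ : U₁), SetLike.coe_mem _, ?_⟩
    rw [LinearEquiv.coe_coe, key _ (SetLike.coe_mem _)]
    simp

end Cfsg.Agent.S2552
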