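import Cfsg.Statements.S2553
import Cfsg.Agent.Lib.AltEight.Main

set_option autoImplicit false
open Cfsg

namespace Cfsg.Agent.S2553

/-- Let H be a nontrivial subgroup of GL(4,2) (a group isomorphic to the alternating group of degree 8) whose largest normal 2-subgroup and largest normal subgroup of odd order are both trivial. Then H is isomorphic to an alternating group of degree n for some 5 ≤ n ≤ 8, to the symmetric group of degree 5 or 6, or to GL(3,2). -/
theorem result (H : Subgroup (GL (Fin 4) (ZMod 2))) (hH : H ≠ ⊥) (hO : Cfsg.pPrimeCore 2 ↥H = ⊥) (hO2 : Cfsg.pCore 2 ↥H = ⊥) :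
    (∃ n : ℕ, 5 ≤ n ∧ n ≤ 8 ∧ Nonempty (↥H ≃* alternatingGroup (Fin n))) ∨
    Nonempty (↥H ≃* Equiv.Perm (Fin 5)) ∨ Nonempty (↥H ≃* Equiv.Perm (Fin 6)) ∨ Nonempty (↥H ≃* GL (Fin 3) (ZMod 2)) := by
  haveI : Fact (Nat.Prime 2) := ⟨Nat.prime_two⟩
  haveI : Fact (Nat.Prime 3) := ⟨Nat.prime_three⟩
  have hodd : ∀ N : Subgroup ↥H, N.Normal → (Nat.card N).Coprime 2 → N = ⊥ := fun N hN hc =>
    le_bot_iff.mp (hO ▸ le_sSup (show N ∈ {N : Subgroup ↥H | N.Normal ∧ (Nat.card N).Coprime 2} from ⟨hN, hc⟩))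
  have hns : ¬ Group.IsSolvable ↥H := by
    intro hs
    haveI : Nontrivial ↥H := (Subgroup.nontrivial_iff_ne_bot H).mpr hH
    haveI := hs
    obtain ⟨p, E, hp, hEn, -, hE, hEp⟩ := CfsgLib.AltEight.exists_normal_pgroup (⊤ : Subgroup ↥H) inferInstance
      inferInstance top_ne_bot
    haveI : Fact p.Prime := ⟨hp⟩
    rcases eq_or_ne p 2 with rfl | h2
    · exact hE (le_bot_iff.mp (hO2 ▸ CfsgLib.Solvable.le_pCore hEn hEp))
    · obtain ⟨k, hk⟩ := IsPGroup.iff_card.mp hEp
      exact hE (hodd E hEn (hk ▸ ((Nat.coprime_primes hp Nat.prime_two).mpr h2).pow_left k))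
  let toSL : GL (Fin 4) (ZMod 2) →* Matrix.SpecialLinearGroup (Fin 4) (ZMod 2) :=
    { toFun := fun a => ⟨a.1, by
        have h := Matrix.GeneralLinearGroup.val_det_apply a
        rw [← h, Subsingleton.elim (Matrix.GeneralLinearGroup.det a) 1, Units.val_one]⟩
      map_one' := Subtype.ext rfl
      map_mul' := fun a b => Subtype.ext rfl }
  have htoSL : Function.Injective toSL := fun a b h => Units.ext (congrArg Subtype.val h)
  obtain ⟨eA⟩ := CfsgLib.Linear.SL4Two.equiv_A8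
  rcases CfsgLib.AltEight.classify (eA.toMonoidHom.comp (toSL.comp H.subtype))
    (eA.injective.comp (htoSL.comp H.subtype_injective)) hns hO2 with h | h | h | ⟨hs, hc⟩ | ⟨hc, -⟩
  · exact Or.inl h
  · exact Or.inr (Or.inl h)
  · exact Or.inr (Or.inr (Or.inl h))
  · obtain ⟨e⟩ := CfsgLib.AltEight.sl_three_two_of_card_168 hc
    have hbij : Function.Bijective
        (Matrix.SpecialLinearGroup.toGL : Matrix.SpecialLinearGroup (Fin 3) (ZMod 2) →* GL (Fin 3) (ZMod 2)) := by
      refine ⟨fun a b h => Subtype.ext (congrArg Units.val h), fun a => ⟨⟨a.1, ?_⟩, Units.ext rfl⟩⟩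
      have h := Matrix.GeneralLinearGroup.val_det_apply a
      rw [← h, Subsingleton.elim (Matrix.GeneralLinearGroup.det a) 1, Units.val_one]
    exact Or.inr (Or.inr (Or.inr ⟨e.trans (MulEquiv.ofBijective _ hbij)⟩))
  · have h := hodd _ (CfsgLib.Solvable.pCore_normal 3 ↥H) (by rw [hc]; norm_num)
    rw [h, Subgroup.card_bot] at hc
    norm_num at hc

end Cfsg.Agent.S2553
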