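import Cfsg.Statements.S2556
import Cfsg.Agent.Lib.SuzukiAut.Group
import Cfsg.Agent.Lib.SuzukiMatrix.Bridge
import Cfsg.Agent.Lib.Components.GenFitting


set_option autoImplicit false
open Cfsg

namespace Cfsg.Agent.S2556

/-- Let S be a Sylow 2-subgroup of the Suzuki group Sz(q), q = 2ⁿ with n = 2m + 1 ≥ 3 (realised as 4 × 4 matrices over the field with q elements). Then the largest normal 2-subgroup of the automorphism group of S is elementary abelian of order 2^(n²), and the automorphism group of S has order 2^(n²) · n · (q − 1). -/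
theorem result {S : Type*} [Group S] [Finite S] (m : ℕ) (hm : 1 ≤ m)
    {F : Type*} [Field F] [Fintype F] (hF : Fintype.card F = 2 ^ (2 * m + 1))
    (P : Sylow 2 ↥(Cfsg.Lie.Sz F (2 ^ (m + 1)))) (hS : Nonempty (S ≃* ↥(P : Subgroup ↥(Cfsg.Lie.Sz F (2 ^ (m + 1)))))) :
    Cfsg.IsElementaryAbelian 2 (Cfsg.pCore 2 (MulAut S)) ∧ Nat.card ↥(Cfsg.pCore 2 (MulAut S)) = 2 ^ ((2 * m + 1) ^ 2) ∧
      Nat.card (MulAut S) = 2 ^ ((2 * m + 1) ^ 2) * ((2 * m + 1) * (2 ^ (2 * m + 1) - 1)) := by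
  obtain ⟨eS⟩ := hS
  have h : CfsgLib.Suzuki.SzHyp F m := ⟨hm, hF⟩
  let Φ := CfsgLib.SuzukiMatrix.szEquiv h
  let P' : Sylow 2 (Cfsg.Sz F m) := P.mapSurjective (f := Φ.symm.toMonoidHom) Φ.symm.surjective
  obtain ⟨x, hx⟩ := CfsgLib.Suzuki.exists_map_tGroup h P'
  let e : ↥(CfsgLib.Suzuki.tGroup h) ≃* S :=
    (((CfsgLib.Suzuki.tGroup h).equivMapOfInjective _ (MulAut.conj x).injective).trans
      (MulEquiv.subgroupCongr (hx.symm.trans (Sylow.coe_mapSurjective Φ.symm.surjective P)))).trans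
      (((P : Subgroup ↥(Cfsg.Lie.Sz F (2 ^ (m + 1)))).equivMapOfInjective _ Φ.symm.injective).symm.trans eS.symm)
  obtain ⟨⟨hc, hsq⟩, hcard, haut⟩ := CfsgLib.SuzukiAut.aut_structure h
  let A : MulAut ↥(CfsgLib.Suzuki.tGroup h) ≃* MulAut S := MulAut.congr e
  have hp := CfsgLib.Components.pCore_map_equiv 2 A
  refine ⟨?_, ?_, by rw [← Nat.card_congr A.toEquiv, haut]⟩
  · rw [← hp]
    refine ⟨⟨⟨fun a b => ?_⟩⟩, ?_⟩
    · obtain ⟨_, a, ha, rfl⟩ := a
      obtain ⟨_, b, hb, rfl⟩ := b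
      apply Subtype.ext
      show A a * A b = A b * A a
      rw [← map_mul, ← map_mul]
      exact congrArg A (congrArg Subtype.val (hc.is_comm.comm ⟨a, ha⟩ ⟨b, hb⟩))
    · rintro _ ⟨a, ha, rfl⟩
      show A a ^ 2 = 1
      rw [← map_pow, hsq a ha, map_one]
  · rw [← hp, Subgroup.card_map_of_injective A.injective, hcard]

end Cfsg.Agent.S2556
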