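import Cfsg.Statements.S2557
import Cfsg.Agent.Lib.SpEven.Data
import Cfsg.Agent.Lib.SpClassNum.Split
import Cfsg.Agent.Lib.SpClassNum.Lower


set_option autoImplicit false
open Cfsg

namespace Cfsg.Agent.S2557

open Matrix CfsgLib.SpClassNum CfsgLib.Linear.Symp in
theorem upper {F : Type*} [Field F] [Fintype F] (heven : Even (Fintype.card F)) {n : ℕ} (hn : 1 ≤ n) :
    5 * Nat.card (ConjClasses (Matrix.symplecticGroup (Fin n) F)) ≤ 76 * Fintype.card F ^ n := by
  classical
  obtain ⟨m, rfl⟩ : ∃ m, n = m + 1 := ⟨n - 1, by omega⟩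
  haveI : CharP F 2 := ringChar.of_eq (FiniteField.even_card_iff_char_two.2 (Nat.even_iff.1 heven))
  obtain ⟨c, hc⟩ := CfsgLib.SpEven.exists_nonAS (F := F)
  let B : (Fin (m + 1) ⊕ Fin (m + 1) → F) →ₗ[F] (Fin (m + 1) ⊕ Fin (m + 1) → F) →ₗ[F] F :=
    LinearMap.mk₂ F (Cfsg.sympForm (m + 1) F) form_add_left form_smul_left form_add_right form_smul_right
  haveI : Finite (Matrix.symplecticGroup (Fin (m + 1)) F) := Subtype.finite
  haveI : Finite (ConjClasses (Matrix.symplecticGroup (Fin (m + 1)) F)) :=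
    Finite.of_surjective _ ConjClasses.mk_surjective
  haveI := Fintype.ofFinite (ConjClasses (Matrix.symplecticGroup (Fin (m + 1)) F))
  have hu : ∀ g : Matrix.symplecticGroup (Fin (m + 1)) F, IsUnit g.1 := fun g =>
    IsUnit.of_mul_eq_one (g⁻¹).1 (congrArg Subtype.val (mul_inv_cancel g))
  let G : Matrix.symplecticGroup (Fin (m + 1)) F →
      ((Fin (m + 1) ⊕ Fin (m + 1) → F) ≃ₗ[F] (Fin (m + 1) ⊕ Fin (m + 1) → F)) := fun g =>
    LinearEquiv.ofInjectiveEndo (Matrix.mulVecLin g.1) (Matrix.mulVec_injective_iff_isUnit.2 (hu g))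
  have hG : ∀ g, IsIsom B (G g) := fun g => ⟨form_self, fun v hv => eq_zero_of_forall_form hv,
    fun x y => form_mulVec g.2 x y⟩
  have hdim : Module.finrank F (Fin (m + 1) ⊕ Fin (m + 1) → F) = 2 * (m + 1) := by
    rw [Module.finrank_pi, Fintype.card_sum, Fintype.card_fin]; omega
  choose D hD hDd using fun x : ConjClasses (Matrix.symplecticGroup (Fin (m + 1)) F) =>
    CfsgLib.SpEven.exists_data hc (hG (Quotient.out x)) hdim
  refine CfsgLib.SpEven.card_data_le m D hD fun c' c'' hcc => ?_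
  obtain ⟨T, hT, hTB⟩ := CfsgLib.SpEven.data_intertwine (hG _) (hG _) (hDd c') (hcc ▸ hDd c'')
  let C : Matrix.symplecticGroup (Fin (m + 1)) F := ⟨LinearMap.toMatrix' T.toLinearMap,
    mem_of_form_mulVec fun x y => by
      rw [LinearMap.toMatrix'_mulVec, LinearMap.toMatrix'_mulVec]; exact hTB x y⟩
  rw [← Quotient.out_eq c', ← Quotient.out_eq c'']
  refine ConjClasses.mk_eq_mk_iff_isConj.2 (isConj_iff.2 ⟨C, mul_inv_eq_iff_eq_mul.2 (Subtype.ext ?_)⟩)
  refine Matrix.ext_iff_mulVec.2 fun v => ?_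
  show (LinearMap.toMatrix' T.toLinearMap * (Quotient.out c').1) *ᵥ v =
    ((Quotient.out c'').1 * LinearMap.toMatrix' T.toLinearMap) *ᵥ v
  rw [← mulVec_mulVec, ← mulVec_mulVec, LinearMap.toMatrix'_mulVec, LinearMap.toMatrix'_mulVec]
  exact hT v

/-- The number of conjugacy classes of Sp(2n,q), q even: for F a finite field of even order q and n ≥ 1, the number k of conjugacy classes of Sp(2n,F) satisfies q^n ≤ k ≤ 15.2·q^n. -/
theorem result {F : Type*} [Field F] [Fintype F] (heven : Even (Fintype.card F)) (n : ℕ) (hn : 1 ≤ n) :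
    Fintype.card F ^ n ≤ Nat.card (ConjClasses (Matrix.symplecticGroup (Fin n) F)) ∧
      5 * Nat.card (ConjClasses (Matrix.symplecticGroup (Fin n) F)) ≤ 76 * Fintype.card F ^ n := by
  classical
  open Matrix CfsgLib.SpClassNum CfsgLib.Linear.Symp in
  refine ⟨Nat.card_eq_fintype_card (α := F) ▸ card_ge hn, ?_⟩
  open Matrix CfsgLib.SpClassNum CfsgLib.Linear.Symp in
  exact upper heven hn


end Cfsg.Agent.S2557
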