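import Cfsg.Statements.S2558
import Cfsg.Agent.Lib.OClassNum.Bounds

set_option autoImplicit false
open Cfsg

namespace Cfsg.Agent.S2558

open Matrix

variable {F : Type*} [Field F]

/-- The matrix of `Σ xᵢ yᵢ`. -/
def hypMat (m : ℕ) (F : Type*) [Field F] : Matrix (Fin m ⊕ Fin m) (Fin m ⊕ Fin m) F :=
  fromBlocks 0 ((2 : F)⁻¹ • 1) ((2 : F)⁻¹ • 1) 0

theorem hypMat_symm (m : ℕ) : (hypMat m F)ᵀ = hypMat m F := by
  simp [hypMat, fromBlocks_transpose]

theorem hypMat_det (h2 : (2 : F) ≠ 0) (m : ℕ) : (hypMat m F).det ≠ 0 := by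
  refine Matrix.det_ne_zero_of_right_inverse (B := fromBlocks 0 ((2 : F) • 1) ((2 : F) • 1) 0) ?_
  rw [hypMat, fromBlocks_multiply, ← fromBlocks_one]
  congr 1 <;> simp [smul_smul, h2]

theorem hypMat_form (h2 : (2 : F) ≠ 0) (m : ℕ) (v : Fin m ⊕ Fin m → F) :
    Cfsg.quadFormPlus m F v = v ⬝ᵥ hypMat m F *ᵥ v := by
  rw [hypMat, fromBlocks_mulVec]
  simp only [dotProduct, Fintype.sum_sum_type, Sum.elim_inl, Sum.elim_inr, zero_mulVec, zero_add,
    add_zero, Matrix.smul_mulVec, one_mulVec, Pi.smul_apply, Function.comp_apply, smul_eq_mul,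
    Cfsg.quadFormPlus, ← Finset.sum_add_distrib]
  refine Finset.sum_congr rfl fun i _ => ?_
  field_simp
  ring

theorem plus_bounds [Fintype F] (hodd : Odd (Fintype.card F)) (h2 : (2 : F) ≠ 0) (n : ℕ) (hn : 2 ≤ n) :
    Fintype.card F ^ n ≤ 2 * Nat.card (ConjClasses ↥(Cfsg.isometryGroup F (Cfsg.quadFormPlus n F))) ∧
      2 * Nat.card (ConjClasses ↥(Cfsg.isometryGroup F (Cfsg.quadFormPlus n F))) ≤ 19 * Fintype.card F ^ n :=
  CfsgLib.OClassNum.bounds hodd hn (by simp; omega) (hypMat_symm n) (hypMat_det h2 n) (hypMat_form h2 n)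

theorem minus_bounds [Fintype F] (hodd : Odd (Fintype.card F)) (h2 : (2 : F) ≠ 0) (n : ℕ) (hn : 2 ≤ n)
    (a b : F) (hab : ∀ z₁ z₂ : F, z₁ ^ 2 + a * z₁ * z₂ + b * z₂ ^ 2 = 0 → z₁ = 0 ∧ z₂ = 0) :
    Fintype.card F ^ n ≤ 2 * Nat.card (ConjClasses ↥(Cfsg.isometryGroup F (Cfsg.quadFormMinus (n - 1) F a b))) ∧
      2 * Nat.card (ConjClasses ↥(Cfsg.isometryGroup F (Cfsg.quadFormMinus (n - 1) F a b))) ≤
        19 * Fintype.card F ^ n := by
  refine CfsgLib.OClassNum.bounds hodd hn (by simp; omega)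
    (D := fromBlocks (hypMat (n - 1) F) 0 0 !![1, a / 2; a / 2, b]) ?_ ?_ fun v => ?_
  · rw [fromBlocks_transpose, hypMat_symm]
    congr 1
    ext i j
    fin_cases i <;> fin_cases j <;> rfl
  · rw [det_fromBlocks_zero₁₂, det_fin_two_of]
    refine mul_ne_zero (hypMat_det h2 _) fun h => one_ne_zero (hab (-a / 2) 1 ?_).2
    field_simp at h ⊢
    linear_combination h
  · rw [fromBlocks_mulVec]
    simp only [zero_mulVec, add_zero, zero_add, dotProduct, Fintype.sum_sum_type, Sum.elim_inl, Sum.elim_inr]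
    have e := hypMat_form h2 (n - 1) (v ∘ Sum.inl)
    simp only [Cfsg.quadFormPlus, dotProduct, Fintype.sum_sum_type, Function.comp_apply] at e
    rw [Cfsg.quadFormMinus, e]
    congr 1
    simp [Fin.sum_univ_two, mulVec, dotProduct]
    field_simp
    ring

end Cfsg.Agent.S2558

namespace Cfsg.Agent.S2558

/-- The number of conjugacy classes of the full orthogonal groups O⁺(2n,q) and O⁻(2n,q), q odd, 2n ≥ 4: for F a finite field of odd order q and n ≥ 2, the number k of conjugacy classes of the isometry group of the hyperbolic quadratic form Σ xᵢyᵢ on F^{2n}, and likewise of the elliptic form Σ xᵢyᵢ + (z₁² + a z₁z₂ + b z₂²) with anisotropic binary part, satisfies q^n/2 ≤ k ≤ 9.5·q^n. -/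
theorem result {F : Type*} [Field F] [Fintype F] (hodd : Odd (Fintype.card F)) (n : ℕ) (hn : 2 ≤ n) (a b : F) (hab : ∀ z₁ z₂ : F, z₁ ^ 2 + a * z₁ * z₂ + b * z₂ ^ 2 = 0 → z₁ = 0 ∧ z₂ = 0) :
    (Fintype.card F ^ n ≤ 2 * Nat.card (ConjClasses ↥(Cfsg.isometryGroup F (Cfsg.quadFormPlus n F))) ∧
      2 * Nat.card (ConjClasses ↥(Cfsg.isometryGroup F (Cfsg.quadFormPlus n F))) ≤ 19 * Fintype.card F ^ n) ∧
    (Fintype.card F ^ n ≤ 2 * Nat.card (ConjClasses ↥(Cfsg.isometryGroup F (Cfsg.quadFormMinus (n - 1) F a b))) ∧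
      2 * Nat.card (ConjClasses ↥(Cfsg.isometryGroup F (Cfsg.quadFormMinus (n - 1) F a b))) ≤ 19 * Fintype.card F ^ n) := by
  have h2 : (2 : F) ≠ 0 := Ring.two_ne_zero (fun e =>
    Nat.not_even_iff_odd.2 hodd (Nat.even_iff.2 (FiniteField.even_card_of_char_two e)))
  exact ⟨plus_bounds hodd h2 n hn, minus_bounds hodd h2 n hn a b hab⟩

end Cfsg.Agent.S2558
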