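import Cfsg.Statements.S2559
import Cfsg.Agent.Lib.OClassNumTwo.Count
import Cfsg.Agent.S2557

set_option autoImplicit false
open Cfsg

namespace Cfsg.Agent.S2559

open Matrix CfsgLib.OClassNumTwo

variable {F : Type*} [Field F] [CharP F 2] [Fintype F]

theorem plus_bounds (m : ℕ)
    (hk : 5 * Nat.card (ConjClasses (Matrix.symplecticGroup (Fin (m + 2)) F)) ≤ 76 * Fintype.card F ^ (m + 2)) :
    Fintype.card F ^ (m + 2) ≤ 2 * Nat.card (ConjClasses ↥(Cfsg.isometryGroup F (Cfsg.quadFormPlus (m + 2) F))) ∧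
      Nat.card (ConjClasses ↥(Cfsg.isometryGroup F (Cfsg.quadFormPlus (m + 2) F))) ≤ 15 * Fintype.card F ^ (m + 2) := by
  have e : (fun v => Cfsg.quadFormPlus (m + 2) F ((LinearEquiv.refl F _) v)) =
      stdForm (0 : Fin (m + 2) → F) 0 := by
    funext v
    simp [Cfsg.quadFormPlus, stdForm, dotProduct]
  have hQ := e ▸ stdForm_isForm (0 : Fin (m + 2) → F) 0
  rw [card_isometryGroup (LinearEquiv.refl F _) hQ]
  exact card_bounds rfl hk hQ (ε := 1) (Or.inl rfl) (by rw [one_mul, e]; exact arf_std)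

theorem minus_bounds (m : ℕ) (a b : F)
    (hab : ∀ z₁ z₂ : F, z₁ ^ 2 + a * z₁ * z₂ + b * z₂ ^ 2 = 0 → z₁ = 0 ∧ z₂ = 0)
    (hk : 5 * Nat.card (ConjClasses (Matrix.symplecticGroup (Fin (m + 2)) F)) ≤ 76 * Fintype.card F ^ (m + 2)) :
    Fintype.card F ^ (m + 2) ≤ 2 * Nat.card (ConjClasses ↥(Cfsg.isometryGroup F (Cfsg.quadFormMinus (m + 1) F a b))) ∧
      Nat.card (ConjClasses ↥(Cfsg.isometryGroup F (Cfsg.quadFormMinus (m + 1) F a b))) ≤ 15 * Fintype.card F ^ (m + 2) := by
  have ha : a ≠ 0 := by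
    rintro rfl
    obtain ⟨s, hs⟩ := exists_sqrt b
    exact one_ne_zero (hab s 1 (by rw [hs, zero_mul, zero_mul, add_zero, one_pow, mul_one, CharTwo.add_self_eq_zero])).2
  have hψ : ψ (b / a ^ 2) = -1 := (ψ_eq _).resolve_left fun h => by
    obtain ⟨z, hz⟩ := (ψ_eq_one_iff _).1 h
    refine one_ne_zero (hab (a * z) 1 ?_).2
    have := CharTwo.add_self_eq_zero b
    field_simp at hz
    linear_combination hz + this
  obtain ⟨r, hr⟩ := exists_sqrt (b / a ^ 2)
  let N := m + 1
  let E : (Fin (N + 1) ⊕ Fin (N + 1) → F) ≃ₗ[F] ((Fin N ⊕ Fin N) ⊕ Fin 2 → F) :=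
    { toFun := fun v => Sum.elim (Sum.elim (fun i => v (Sum.inl i.castSucc)) fun i => v (Sum.inr i.castSucc))
        ![v (Sum.inl (Fin.last N)), a⁻¹ * v (Sum.inr (Fin.last N))]
      invFun := fun u => Sum.elim (Fin.snoc (fun i => u (Sum.inl (Sum.inl i))) (u (Sum.inr 0)))
        (Fin.snoc (fun i => u (Sum.inl (Sum.inr i))) (a * u (Sum.inr 1)))
      map_add' := fun u v => by
        ext ((i | i) | i) <;> first | rfl | (fin_cases i <;> simp [mul_add])
      map_smul' := fun c v => by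
        ext ((i | i) | i) <;> first | rfl | (fin_cases i <;> simp [mul_left_comm])
      left_inv := fun v => by
        ext (i | i) <;> induction i using Fin.lastCases <;> simp [ha]
      right_inv := fun u => by
        ext ((i | i) | i) <;> first | (simp; done) | (fin_cases i <;> simp [ha]) }
  have e : (fun v => Cfsg.quadFormMinus N F a b (E v)) =
      stdForm (Pi.single (Fin.last N) (1 : F)) (Pi.single (Fin.last N) r) := by
    funext v
    simp only [Cfsg.quadFormMinus, stdForm, E, LinearEquiv.coe_mk, LinearMap.coe_mk, AddHom.coe_mk,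
      Sum.elim_inl, Sum.elim_inr, single_dotProduct, one_mul, Function.comp_apply, mul_pow, hr,
      Matrix.cons_val_zero, Matrix.cons_val_one, Matrix.cons_val_fin_one, inv_pow]
    conv_rhs => rw [dotProduct, Fin.sum_univ_castSucc]
    simp only [Function.comp_apply]
    field_simp
    ring
  have hQ := e ▸ stdForm_isForm (Pi.single (Fin.last N) (1 : F)) (Pi.single (Fin.last N) r)
  rw [card_isometryGroup E hQ]
  refine card_bounds rfl hk hQ (ε := -1) (Or.inr rfl) ?_
  rw [e, arf_stdForm, single_dotProduct, one_mul, Pi.single_eq_same, ← ψ_sq, hr, hψ]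

end Cfsg.Agent.S2559

namespace Cfsg.Agent.S2559

/-- The number of conjugacy classes of the full orthogonal groups O⁺(2n,q) and O⁻(2n,q), q even, 2n ≥ 4: for F a finite field of even order q and n ≥ 2, the number k of conjugacy classes of the isometry group of the hyperbolic quadratic form Σ xᵢyᵢ on F^{2n}, and likewise of the elliptic form Σ xᵢyᵢ + (z₁² + a z₁z₂ + b z₂²) with anisotropic binary part, satisfies q^n/2 ≤ k ≤ 15·q^n. -/
theorem result {F : Type*} [Field F] [Fintype F] (heven : Even (Fintype.card F)) (n : ℕ) (hn : 2 ≤ n) (a b : F) (hab : ∀ z₁ z₂ : F, z₁ ^ 2 + a * z₁ * z₂ + b * z₂ ^ 2 = 0 → z₁ = 0 ∧ z₂ = 0) :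
    (Fintype.card F ^ n ≤ 2 * Nat.card (ConjClasses ↥(Cfsg.isometryGroup F (Cfsg.quadFormPlus n F))) ∧
      Nat.card (ConjClasses ↥(Cfsg.isometryGroup F (Cfsg.quadFormPlus n F))) ≤ 15 * Fintype.card F ^ n) ∧
    (Fintype.card F ^ n ≤ 2 * Nat.card (ConjClasses ↥(Cfsg.isometryGroup F (Cfsg.quadFormMinus (n - 1) F a b))) ∧
      Nat.card (ConjClasses ↥(Cfsg.isometryGroup F (Cfsg.quadFormMinus (n - 1) F a b))) ≤ 15 * Fintype.card F ^ n) := by
  obtain ⟨m, rfl⟩ : ∃ m, n = m + 2 := ⟨n - 2, by omega⟩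
  haveI : CharP F 2 :=
    ringChar.eq_iff.1 (FiniteField.even_card_iff_char_two.2 (Nat.even_iff.1 heven))
  have hk := (Cfsg.Agent.S2557.result heven (m + 2) (by omega)).2
  exact ⟨plus_bounds m hk, minus_bounds m a b hab hk⟩

end Cfsg.Agent.S2559
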