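import Cfsg.Statements.S2560
import Cfsg.Agent.Lib.OrthClassNum.LowerOdd
import Cfsg.Agent.Lib.OrthCrit.Forms
import Cfsg.Agent.Lib.Classical.Quad.Std

set_option autoImplicit false
open Cfsg

namespace Cfsg.Agent.S2560

/-- The number of conjugacy classes of Ω(2n+1,q), q odd, n ≥ 2: for F a finite field of odd order q, the number k of conjugacy classes of the commutator subgroup of the isometry group of the quadratic form x₀² + Σ xᵢyᵢ on F^{2n+1} satisfies q^n/2 ≤ k ≤ 7.3·q^n. -/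
theorem result {F : Type*} [Field F] [Fintype F] (hodd : Odd (Fintype.card F)) (n : ℕ) (hn : 2 ≤ n) :
    Fintype.card F ^ n ≤ 2 * Nat.card (ConjClasses ↥(Cfsg.Omega F (Cfsg.quadFormOdd n F))) ∧
      10 * Nat.card (ConjClasses ↥(Cfsg.Omega F (Cfsg.quadFormOdd n F))) ≤ 73 * Fintype.card F ^ n := by
  have h2 : (2 : F) ≠ 0 := CfsgLib.Classical.Quad.two_ne_zero_iff_odd.2 (by rwa [Nat.card_eq_fintype_card])
  have hq : 3 ≤ Fintype.card F := by
    have := Fintype.one_lt_card (α := F)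
    obtain ⟨k, hk⟩ := hodd
    omega
  have hcard : Fintype.card (Unit ⊕ (Fin n ⊕ Fin n)) = 2 * n + 1 := by simp; omega
  have hnd := CfsgLib.OrthCrit.ndPolar_oddForm (F := F) h2 n
  obtain ⟨hup, hlo⟩ := CfsgLib.OrthClassNum.omega_classes_le hnd h2 hq (show 1 ≤ n by omega) hcard
  have hso := CfsgLib.OrthClassNum.card_so_ge hnd h2 (show 1 ≤ n by omega) hcard
  exact ⟨hso.trans hlo, hup⟩

end Cfsg.Agent.S2560
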