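import Cfsg.Statements.S2561
import Cfsg.Agent.Lib.F2Quad.Basic


set_option autoImplicit false
open Cfsg

namespace Cfsg.Agent.S2561

open CfsgLib.F2Quad in
theorem count (m : ℕ) (T : (Vec m → ZMod 2) → Prop) (z : Vec m → Prop) (h : ∀ w, T (qw m w) ↔ z w) :
    Nat.card {q : Vec m → ZMod 2 // IsQF m q ∧ T q} = Nat.card {w : Vec m // z w} := by
  refine (Nat.card_congr (Equiv.ofBijective (fun w : {w : Vec m // z w} => (⟨qw m w.1, isQF_qw m w.1, (h w.1).mpr w.2⟩ : {q : Vec m → ZMod 2 // IsQF m q ∧ T q})) ⟨?_, ?_⟩)).symm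
  · intro a b hab
    exact Subtype.ext (qw_inj m (congrArg Subtype.val hab :))
  · rintro ⟨q, hq, hT⟩
    obtain ⟨w, rfl⟩ := exists_eq_qw m hq
    exact ⟨⟨w, (h w).mp hT⟩, rfl⟩


/-- Fix the non-singular alternating form on the 2m-dimensional space over the field of two elements obtained by polarizing the plus-type form Σ xᵢyᵢ (m ≥ 1). The functions q on the space with q(u + v) = q(u) + q(v) + f(u, v) (the quadratic forms polarizing to f) number 2^(2m); each is equivalent under an invertible linear map either to the plus-type form or to the minus-type form Σ xᵢyᵢ + (z₁² + z₁z₂ + z₂²); and those of plus type number 2^(2m−1) + 2^(m−1), those of minus type 2^(2m−1) − 2^(m−1). -/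
theorem result (m : ℕ) (hm : 1 ≤ m) :
    Nat.card {q : (Fin m ⊕ Fin m → ZMod 2) → ZMod 2 // (∀ u v : (Fin m ⊕ Fin m → ZMod 2), q (u + v) = q u + q v + (Cfsg.quadFormPlus m (ZMod 2) (u + v) - Cfsg.quadFormPlus m (ZMod 2) u - Cfsg.quadFormPlus m (ZMod 2) v))} = 2 ^ (2 * m) ∧
    (∀ q : (Fin m ⊕ Fin m → ZMod 2) → ZMod 2, (∀ u v : (Fin m ⊕ Fin m → ZMod 2), q (u + v) = q u + q v + (Cfsg.quadFormPlus m (ZMod 2) (u + v) - Cfsg.quadFormPlus m (ZMod 2) u - Cfsg.quadFormPlus m (ZMod 2) v)) →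
      (∃ g : (Fin m ⊕ Fin m → ZMod 2) ≃ₗ[ZMod 2] (Fin m ⊕ Fin m → ZMod 2), ∀ v, q v = Cfsg.quadFormPlus m (ZMod 2) (g v)) ∨
      (∃ g : (Fin m ⊕ Fin m → ZMod 2) ≃ₗ[ZMod 2] ((Fin (m - 1) ⊕ Fin (m - 1)) ⊕ Fin 2 → ZMod 2), ∀ v, q v = Cfsg.quadFormMinus (m - 1) (ZMod 2) 1 1 (g v))) ∧
    Nat.card {q : (Fin m ⊕ Fin m → ZMod 2) → ZMod 2 // (∀ u v : (Fin m ⊕ Fin m → ZMod 2), q (u + v) = q u + q v + (Cfsg.quadFormPlus m (ZMod 2) (u + v) - Cfsg.quadFormPlus m (ZMod 2) u - Cfsg.quadFormPlus m (ZMod 2) v)) ∧ ∃ g : (Fin m ⊕ Fin m → ZMod 2) ≃ₗ[ZMod 2] (Fin m ⊕ Fin m → ZMod 2), ∀ v, q v = Cfsg.quadFormPlus m (ZMod 2) (g v)} = 2 ^ (2 * m - 1) + 2 ^ (m - 1) ∧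
    Nat.card {q : (Fin m ⊕ Fin m → ZMod 2) → ZMod 2 // (∀ u v : (Fin m ⊕ Fin m → ZMod 2), q (u + v) = q u + q v + (Cfsg.quadFormPlus m (ZMod 2) (u + v) - Cfsg.quadFormPlus m (ZMod 2) u - Cfsg.quadFormPlus m (ZMod 2) v)) ∧ ∃ g : (Fin m ⊕ Fin m → ZMod 2) ≃ₗ[ZMod 2] ((Fin (m - 1) ⊕ Fin (m - 1)) ⊕ Fin 2 → ZMod 2), ∀ v, q v = Cfsg.quadFormMinus (m - 1) (ZMod 2) 1 1 (g v)} = 2 ^ (2 * m - 1) - 2 ^ (m - 1) := by
  refine ⟨?_, fun q hq => ?_, ?_, ?_⟩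
  · refine (Nat.card_congr (CfsgLib.F2Quad.formEquiv m)).symm.trans ?_
    simp [Fintype.card_sum, two_mul]
  · obtain ⟨w, rfl⟩ := CfsgLib.F2Quad.exists_eq_qw m hq
    rcases CfsgLib.F2Quad.zmod_two_cases (Cfsg.quadFormPlus m (ZMod 2) w) with h | h
    · exact Or.inl (CfsgLib.F2Quad.qw_isPlus m h)
    · exact Or.inr (CfsgLib.F2Quad.qw_isMinus m hm h)
  · rw [← CfsgLib.F2Quad.card_zeros m hm]
    exact (count m (CfsgLib.F2Quad.IsPlus m) _ (CfsgLib.F2Quad.isPlus_iff m hm))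
  · rw [← CfsgLib.F2Quad.card_ones m hm]
    exact (count m (CfsgLib.F2Quad.IsMinus m) _ (CfsgLib.F2Quad.isMinus_iff m hm))

end Cfsg.Agent.S2561
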