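import Cfsg.Statements.S2562


set_option autoImplicit false
set_option maxHeartbeats 300000
open Cfsg

namespace Cfsg.Agent.S2562

variable {F : Type*} [Field F]

/-- The subspace `x = 0`. -/
def yHalf (m : ℕ) : Submodule F (Fin m ⊕ Fin m → F) :=
  LinearMap.range ({ toFun := fun y => Sum.elim 0 y
                     map_add' := fun a b => by funext i; cases i <;> simp
                     map_smul' := fun c a => by funext i; cases i <;> simp } : (Fin m → F) →ₗ[F] (Fin m ⊕ Fin m → F))

theorem finrank_yHalf (m : ℕ) : Module.finrank F (yHalf (F := F) m) = m := by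
  unfold yHalf
  rw [LinearMap.finrank_range_of_inj (fun a b hab => funext fun i => congrFun hab (.inr i)), Module.finrank_fin_fun]

/-- Adjoining two zero coordinates. -/
def embedMinus (m : ℕ) (F : Type*) [Field F] : (Fin m ⊕ Fin m → F) →ₗ[F] ((Fin m ⊕ Fin m) ⊕ Fin 2 → F) where
  toFun v := Sum.elim v 0
  map_add' a b := by funext i; cases i <;> simp
  map_smul' c a := by funext i; cases i <;> simp

theorem bound_aux {V : Type*} [AddCommGroup V] [Module F V] [Module.Finite F V] {m : ℕ} (U : Submodule F V)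
    (px py : V →ₗ[F] (Fin m → F)) (hinj : ∀ u ∈ U, px u = 0 → py u = 0 → u = 0)
    (horth : ∀ u ∈ U, ∀ w ∈ U, px u = 0 → px w ⬝ᵥ py u = 0) : Module.finrank F U ≤ m := by
  set X := U.map px
  set r := px.domRestrict U
  let Ψ : LinearMap.ker r →ₗ[F] X.dualAnnihilator := LinearMap.codRestrict X.dualAnnihilator
    ((dotProductEquiv F (Fin m)).toLinearMap.comp (py.comp (U.subtype.comp (LinearMap.ker r).subtype))) (by
      rintro ⟨⟨u, hu⟩, hur⟩
      rw [Submodule.mem_dualAnnihilator]
      rintro _ ⟨w, hw, rfl⟩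
      have := horth u hu w hw hur
      rw [dotProduct_comm] at this
      exact this)
  have hΨ : Function.Injective Ψ := by
    rw [injective_iff_map_eq_zero]
    rintro ⟨⟨u, hu⟩, hur⟩ h
    have h' := congrArg Subtype.val h
    simp only [Ψ, LinearMap.codRestrict_apply, LinearMap.comp_apply, LinearEquiv.coe_coe, ZeroMemClass.coe_zero,
      LinearEquiv.map_eq_zero_iff] at h'
    exact Subtype.ext (Subtype.ext (hinj u hu hur h'))
  have h1 := LinearMap.finrank_le_finrank_of_injective hΨ
  have h2 := LinearMap.finrank_range_add_finrank_ker r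
  rw [LinearMap.range_domRestrict] at h2
  have h3 := Subspace.finrank_add_finrank_dualAnnihilator_eq X
  rw [Module.finrank_fin_fun] at h3
  change Module.finrank F X + _ = _ at h2
  omega

theorem bound_plus (m : ℕ) (F : Type*) [Field F] (U : Submodule F (Fin m ⊕ Fin m → F))
    (hU : ∀ u ∈ U, Cfsg.quadFormPlus m F u = 0) : Module.finrank F U ≤ m := by
  refine bound_aux U (LinearMap.funLeft F F Sum.inl) (LinearMap.funLeft F F Sum.inr) ?_ ?_
  · intro u _ h1 h2
    funext i
    rcases i with i | i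
    · exact congrFun h1 i
    · exact congrFun h2 i
  · intro u hu w hw h1
    have h2 := hU _ (U.add_mem hu hw)
    have h3 := hU _ hu
    have h4 := hU _ hw
    have e : Cfsg.quadFormPlus m F (u + w) = Cfsg.quadFormPlus m F w + ∑ i, w (.inl i) * u (.inr i) := by
      simp only [Cfsg.quadFormPlus, ← Finset.sum_add_distrib]
      refine Finset.sum_congr rfl fun i _ => ?_
      have : u (.inl i) = 0 := congrFun h1 i
      simp only [Pi.add_apply, this]; ring
    rw [e, h4, zero_add] at h2
    exact h2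

theorem bound_minus (m : ℕ) (F : Type*) [Field F] (a b : F)
    (hab : ∀ z₁ z₂ : F, z₁ ^ 2 + a * z₁ * z₂ + b * z₂ ^ 2 = 0 → z₁ = 0 ∧ z₂ = 0)
    (U : Submodule F ((Fin m ⊕ Fin m) ⊕ Fin 2 → F)) (hU : ∀ u ∈ U, Cfsg.quadFormMinus m F a b u = 0) :
    Module.finrank F U ≤ m := by
  let px : ((Fin m ⊕ Fin m) ⊕ Fin 2 → F) →ₗ[F] (Fin m → F) := LinearMap.funLeft F F (fun i => .inl (.inl i))
  have hz : ∀ u ∈ U, px u = 0 → u (.inr 0) = 0 ∧ u (.inr 1) = 0 := by
    intro u hu h1
    apply hab
    have h2 := hU u hu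
    have : ∀ i, u (.inl (.inl i)) = 0 := congrFun h1
    simpa [Cfsg.quadFormMinus, this] using h2
  refine bound_aux U px (LinearMap.funLeft F F (fun i => .inl (.inr i))) ?_ ?_
  · intro u hu h1 h2
    obtain ⟨z0, z1⟩ := hz u hu h1
    funext i
    rcases i with (i | i) | i
    · exact congrFun h1 i
    · exact congrFun h2 i
    · fin_cases i
      · exact z0
      · exact z1
  · intro u hu w hw h1
    obtain ⟨z0, z1⟩ := hz u hu h1
    have h2 := hU _ (U.add_mem hu hw)
    have h4 := hU _ hw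
    have e : Cfsg.quadFormMinus m F a b (u + w) = Cfsg.quadFormMinus m F a b w + ∑ i, w (.inl (.inl i)) * u (.inl (.inr i)) := by
      have hs : (∑ i : Fin m, (u + w) (.inl (.inl i)) * (u + w) (.inl (.inr i)))
          = (∑ i : Fin m, w (.inl (.inl i)) * w (.inl (.inr i))) + ∑ i, w (.inl (.inl i)) * u (.inl (.inr i)) := by
        rw [← Finset.sum_add_distrib]
        refine Finset.sum_congr rfl fun i _ => ?_
        have : u (.inl (.inl i)) = 0 := congrFun h1 i
        simp only [Pi.add_apply, this]; ring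
      unfold Cfsg.quadFormMinus
      rw [hs]
      simp only [Pi.add_apply, z0, z1]
      ring
    rw [e, h4, zero_add] at h2
    exact h2


/-- Witt indices over the field of two elements, m ≥ 1: for the plus-type form Σ xᵢyᵢ in dimension 2m some m-dimensional subspace is totally singular and no totally singular subspace has larger dimension; for the minus-type form Σ xᵢyᵢ + (z₁² + z₁z₂ + z₂²) in dimension 2m the maximal dimension of a totally singular subspace is m − 1. -/
theorem result (m : ℕ) (hm : 1 ≤ m) :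
    (∃ U : Submodule (ZMod 2) (Fin m ⊕ Fin m → ZMod 2), (∀ u ∈ U, Cfsg.quadFormPlus m (ZMod 2) u = 0) ∧ Module.finrank (ZMod 2) ↥U = m) ∧
    (∀ U : Submodule (ZMod 2) (Fin m ⊕ Fin m → ZMod 2), (∀ u ∈ U, Cfsg.quadFormPlus m (ZMod 2) u = 0) → Module.finrank (ZMod 2) ↥U ≤ m) ∧
    (∃ U : Submodule (ZMod 2) ((Fin (m - 1) ⊕ Fin (m - 1)) ⊕ Fin 2 → ZMod 2), (∀ u ∈ U, Cfsg.quadFormMinus (m - 1) (ZMod 2) 1 1 u = 0) ∧ Module.finrank (ZMod 2) ↥U = m - 1) ∧
    (∀ U : Submodule (ZMod 2) ((Fin (m - 1) ⊕ Fin (m - 1)) ⊕ Fin 2 → ZMod 2), (∀ u ∈ U, Cfsg.quadFormMinus (m - 1) (ZMod 2) 1 1 u = 0) → Module.finrank (ZMod 2) ↥U ≤ m - 1) := by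
  refine ⟨⟨yHalf m, fun u hu => ?_, finrank_yHalf m⟩, fun U hU => bound_plus m (ZMod 2) U hU,
    ⟨(yHalf (m - 1)).map (embedMinus (m - 1) (ZMod 2)), ?_, ?_⟩, fun U hU => bound_minus (m - 1) (ZMod 2) 1 1 (by decide) U hU⟩
  · simp only [Cfsg.quadFormPlus, yHalf] at hu ⊢
    obtain ⟨y, rfl⟩ := hu
    simp
  · rintro _ ⟨u, hu, rfl⟩
    obtain ⟨y, rfl⟩ := hu
    simp [Cfsg.quadFormMinus, embedMinus]
  · refine (LinearEquiv.finrank_eq (Submodule.equivMapOfInjective _ ?_ _)).symm.trans (finrank_yHalf _)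
    intro a b hab
    funext i
    exact congrFun hab (.inl i)

end Cfsg.Agent.S2562
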