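import Cfsg.Statements.S2564
import Cfsg.Agent.Lib.F2Quad.Basic


set_option autoImplicit false
open Cfsg

namespace Cfsg.Agent.S2564

/-- On the 2m-dimensional space over the field of two elements (m ≥ 1) let f be the alternating form obtained by polarizing the plus-type form Σ xᵢyᵢ, and let q be any quadratic form polarizing to f. For a vector w, the function q + f(·, w) again polarizes to f, and it is equivalent to q under an invertible linear map (that is, has the same type) if and only if q(w) = 0. -/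
theorem result (m : ℕ) (hm : 1 ≤ m) (q : (Fin m ⊕ Fin m → ZMod 2) → ZMod 2) (hq : (∀ u v : (Fin m ⊕ Fin m → ZMod 2), q (u + v) = q u + q v + (Cfsg.quadFormPlus m (ZMod 2) (u + v) - Cfsg.quadFormPlus m (ZMod 2) u - Cfsg.quadFormPlus m (ZMod 2) v))) (w : (Fin m ⊕ Fin m → ZMod 2)) :
    (∀ u v : (Fin m ⊕ Fin m → ZMod 2), (q (u + v) + (Cfsg.quadFormPlus m (ZMod 2) (u + v + w) - Cfsg.quadFormPlus m (ZMod 2) (u + v) - Cfsg.quadFormPlus m (ZMod 2) w)) =
        (q u + (Cfsg.quadFormPlus m (ZMod 2) (u + w) - Cfsg.quadFormPlus m (ZMod 2) u - Cfsg.quadFormPlus m (ZMod 2) w)) + (q v + (Cfsg.quadFormPlus m (ZMod 2) (v + w) - Cfsg.quadFormPlus m (ZMod 2) v - Cfsg.quadFormPlus m (ZMod 2) w)) +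
        (Cfsg.quadFormPlus m (ZMod 2) (u + v) - Cfsg.quadFormPlus m (ZMod 2) u - Cfsg.quadFormPlus m (ZMod 2) v)) ∧
    ((∃ g : (Fin m ⊕ Fin m → ZMod 2) ≃ₗ[ZMod 2] (Fin m ⊕ Fin m → ZMod 2), ∀ v, q v + (Cfsg.quadFormPlus m (ZMod 2) (v + w) - Cfsg.quadFormPlus m (ZMod 2) v - Cfsg.quadFormPlus m (ZMod 2) w) = q (g v)) ↔ q w = 0) := by
  refine ⟨fun u v => ?_, ?_⟩
  · rw [hq]
    simp only [CfsgLib.F2Quad.pol_eq, CfsgLib.F2Quad.pol_add_left]
    ring
  obtain ⟨u, rfl⟩ := CfsgLib.F2Quad.exists_eq_qw m hq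
  simp only [CfsgLib.F2Quad.pol_eq]
  have hsum : ∀ v, CfsgLib.F2Quad.qw m u v + CfsgLib.F2Quad.pol m v w = CfsgLib.F2Quad.qw m (u + w) v := by
    intro v
    simp only [CfsgLib.F2Quad.qw]
    rw [CfsgLib.F2Quad.pol_comm m v (u + w), CfsgLib.F2Quad.pol_add_left, CfsgLib.F2Quad.pol_comm m u v, CfsgLib.F2Quad.pol_comm m w v]
    ring
  simp only [hsum]
  have hQ : CfsgLib.F2Quad.qw m u w = 0 ↔ Cfsg.quadFormPlus m (ZMod 2) (u + w) = Cfsg.quadFormPlus m (ZMod 2) u := by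
    rw [CfsgLib.F2Quad.qw_apply_shift, add_comm w u, CharTwo.add_eq_zero]
  rw [hQ]
  constructor
  · rintro ⟨g, hg⟩
    rcases CfsgLib.F2Quad.zmod_two_cases (Cfsg.quadFormPlus m (ZMod 2) u) with h | h
    · obtain ⟨a, ha⟩ := CfsgLib.F2Quad.qw_isPlus m h
      rw [h, ← CfsgLib.F2Quad.isPlus_iff m hm]
      exact ⟨g.trans a, fun v => by rw [hg, ha]; rfl⟩
    · obtain ⟨a, ha⟩ := CfsgLib.F2Quad.qw_isMinus m hm h
      rw [h, ← CfsgLib.F2Quad.isMinus_iff m hm]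
      exact ⟨g.trans a, fun v => by rw [hg, ha]; rfl⟩
  · intro he
    rcases CfsgLib.F2Quad.zmod_two_cases (Cfsg.quadFormPlus m (ZMod 2) u) with h | h
    · obtain ⟨a, ha⟩ := CfsgLib.F2Quad.qw_isPlus m h
      obtain ⟨b, hb⟩ := CfsgLib.F2Quad.qw_isPlus m (he.trans h)
      exact ⟨b.trans a.symm, fun v => by rw [hb, ha]; simp⟩
    · obtain ⟨a, ha⟩ := CfsgLib.F2Quad.qw_isMinus m hm h
      obtain ⟨b, hb⟩ := CfsgLib.F2Quad.qw_isMinus m hm (he.trans h)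
      exact ⟨b.trans a.symm, fun v => by rw [hb, ha]; simp⟩

end Cfsg.Agent.S2564
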