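import Cfsg.Statements.S2565
import Cfsg.Agent.S0287
import Cfsg.Agent.Lib.F2Quad.EvenSets


set_option autoImplicit false
open Cfsg

namespace Cfsg.Agent.S2565

/-- The commutator subgroup of the full orthogonal group of the plus-type form Σ xᵢyᵢ in dimension 6 over the field of two elements (the group Ω⁺₆(2), of index 2) is isomorphic to the alternating group of degree 8. -/
theorem result :
    (Cfsg.Omega (ZMod 2) (Cfsg.quadFormPlus 3 (ZMod 2))).index = 2 ∧
    Nonempty (↥(Cfsg.Omega (ZMod 2) (Cfsg.quadFormPlus 3 (ZMod 2))) ≃* alternatingGroup (Fin 8)) := by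
  classical
  obtain ⟨φ, hφ⟩ := (CfsgLib.F2Quad.exists_perm_hom 1 le_rfl).1 odd_one
  let O := ↥(Cfsg.isometryGroup (ZMod 2) (Cfsg.quadFormPlus 3 (ZMod 2)))
  let ψ : Equiv.Perm (Fin 8) →* O := φ
  have hψ : Function.Injective ψ := hφ
  have hcard : Nat.card O = 40320 := by
    have h := S0287.result (F := ZMod 2) (q := 2) (ZMod.card 2) 3 (by norm_num)
    rw [h]
    norm_num [Finset.prod_range_succ]
  have hS8 : Nat.card (Equiv.Perm (Fin 8)) = 40320 := by
    rw [Nat.card_perm, Nat.card_eq_fintype_card, Fintype.card_fin]; decide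
  have hbij : Function.Bijective ψ := (Nat.bijective_iff_injective_and_card ψ).mpr ⟨hψ, hS8.trans hcard.symm⟩
  have hΩ : Cfsg.Omega (ZMod 2) (Cfsg.quadFormPlus 3 (ZMod 2)) = (alternatingGroup (Fin 8)).map ψ := by
    have h1 : commutator O = (commutator (Equiv.Perm (Fin 8))).map ψ := by
      rw [commutator_def, commutator_def, Subgroup.map_commutator, Subgroup.map_top_of_surjective ψ hbij.2]
    rw [alternatingGroup.commutator_perm_eq (α := Fin 8) (by simp)] at h1
    exact h1
  refine ⟨?_, ?_⟩
  · rw [hΩ, Subgroup.index_map_of_bijective hbij]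
    exact alternatingGroup.index_eq_two
  · rw [hΩ]
    exact ⟨((alternatingGroup (Fin 8)).equivMapOfInjective ψ hψ).symm⟩

end Cfsg.Agent.S2565
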