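import Cfsg.Statements.S2566
import Cfsg.Agent.S0287


set_option autoImplicit false
open Cfsg

namespace Cfsg.Agent.S2566

/-- The three nonzero vectors of `F₂²`. -/
def pvec : Fin 3 → Fin 2 → ZMod 2 := ![![1, 0], ![0, 1], ![1, 1]]

/-- `S₃` as `GL₂(2)`. -/
def smat (σ : Equiv.Perm (Fin 3)) : Matrix (Fin 2) (Fin 2) (ZMod 2) :=
  Matrix.of fun r c => pvec (σ (Fin.castSucc c)) r

/-- Cells of a 2 × 2 matrix whose determinant is `quadFormPlus 2`. -/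
def cell : Fin 2 ⊕ Fin 2 → Fin 2 × Fin 2 := Sum.elim (fun i => (0, i)) (fun i => (1, Fin.rev i))

/-- Left multiplication. -/
def lMat (σ : Equiv.Perm (Fin 3)) : Matrix (Fin 2 ⊕ Fin 2) (Fin 2 ⊕ Fin 2) (ZMod 2) :=
  Matrix.of fun a b => if (cell a).2 = (cell b).2 then smat σ (cell a).1 (cell b).1 else 0

/-- Right multiplication. -/
def rMat (σ : Equiv.Perm (Fin 3)) : Matrix (Fin 2 ⊕ Fin 2) (Fin 2 ⊕ Fin 2) (ZMod 2) :=
  Matrix.of fun a b => if (cell a).1 = (cell b).1 then smat σ⁻¹ (cell b).2 (cell a).2 else 0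

/-- Transposition. -/
def tMat : Matrix (Fin 2 ⊕ Fin 2) (Fin 2 ⊕ Fin 2) (ZMod 2) :=
  Matrix.of fun a b => if cell a = (cell b).swap then 1 else 0

theorem lMat_mul : ∀ σ τ, lMat (σ * τ) = lMat σ * lMat τ := by decide +kernel
theorem rMat_mul : ∀ σ τ, rMat (σ * τ) = rMat σ * rMat τ := by decide +kernel
theorem lMat_one : lMat 1 = 1 := by decide +kernel
theorem rMat_one : rMat 1 = 1 := by decide +kernel
theorem lMat_q : ∀ σ (v : Fin 2 ⊕ Fin 2 → ZMod 2), Cfsg.quadFormPlus 2 (ZMod 2) ((lMat σ).mulVec v) = Cfsg.quadFormPlus 2 (ZMod 2) v := by decide +kernel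
theorem rMat_q : ∀ σ (v : Fin 2 ⊕ Fin 2 → ZMod 2), Cfsg.quadFormPlus 2 (ZMod 2) ((rMat σ).mulVec v) = Cfsg.quadFormPlus 2 (ZMod 2) v := by decide +kernel
theorem tMat_sq : tMat * tMat = 1 := by decide +kernel
theorem tMat_q : ∀ v : Fin 2 ⊕ Fin 2 → ZMod 2, Cfsg.quadFormPlus 2 (ZMod 2) (tMat.mulVec v) = Cfsg.quadFormPlus 2 (ZMod 2) v := by decide +kernel

/-- The group. -/
abbrev OPlusFour : Type := ↥(Cfsg.isometryGroup (ZMod 2) (Cfsg.quadFormPlus 2 (ZMod 2)))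

/-- The left copy of `S₃`. -/
def lHom : Equiv.Perm (Fin 3) →* OPlusFour :=
  (MonoidHom.toHomUnits ⟨⟨lMat, lMat_one⟩, lMat_mul⟩).codRestrict _ fun σ u _ => lMat_q σ u

/-- The right copy of `S₃`. -/
def rHom : Equiv.Perm (Fin 3) →* OPlusFour :=
  (MonoidHom.toHomUnits ⟨⟨rMat, rMat_one⟩, rMat_mul⟩).codRestrict _ fun σ u _ => rMat_q σ u

/-- The swap. -/
def swapO : OPlusFour := ⟨⟨tMat, tMat, tMat_sq, tMat_sq⟩, fun u _ => tMat_q u⟩

theorem ext_mat {g h : OPlusFour}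
    (e : ((g : GL (Fin 2 ⊕ Fin 2) (ZMod 2)) : Matrix (Fin 2 ⊕ Fin 2) (Fin 2 ⊕ Fin 2) (ZMod 2)) = ((h : GL (Fin 2 ⊕ Fin 2) (ZMod 2)) : Matrix (Fin 2 ⊕ Fin 2) (Fin 2 ⊕ Fin 2) (ZMod 2))) : g = h :=
  Subtype.ext (Units.ext e)

theorem lHom_inj : Function.Injective lHom := by
  have h : ∀ σ τ, lMat σ = lMat τ → σ = τ := by decide +kernel
  exact fun σ τ e => h σ τ (congrArg (fun z : OPlusFour => ((z : GL (Fin 2 ⊕ Fin 2) (ZMod 2)) : Matrix (Fin 2 ⊕ Fin 2) (Fin 2 ⊕ Fin 2) (ZMod 2))) e)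

theorem rHom_inj : Function.Injective rHom := by
  have h : ∀ σ τ, rMat σ = rMat τ → σ = τ := by decide +kernel
  exact fun σ τ e => h σ τ (congrArg (fun z : OPlusFour => ((z : GL (Fin 2 ⊕ Fin 2) (ZMod 2)) : Matrix (Fin 2 ⊕ Fin 2) (Fin 2 ⊕ Fin 2) (ZMod 2))) e)

theorem lr_comm (σ τ : Equiv.Perm (Fin 3)) : Commute (lHom σ) (rHom τ) := by
  have h : ∀ σ τ, lMat σ * rMat τ = rMat τ * lMat σ := by decide +kernel
  exact ext_mat (h σ τ)

theorem swap_lr (σ : Equiv.Perm (Fin 3)) : ∃ τ, (MulAut.conj swapO) (lHom σ) = rHom τ := by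
  have h : ∀ σ, ∃ τ, tMat * lMat σ * tMat = rMat τ := by decide +kernel
  obtain ⟨τ, hτ⟩ := h σ
  exact ⟨τ, ext_mat hτ⟩

theorem swap_rl (τ : Equiv.Perm (Fin 3)) : ∃ σ, (MulAut.conj swapO) (lHom σ) = rHom τ := by
  have h : ∀ τ, ∃ σ, tMat * lMat σ * tMat = rMat τ := by decide +kernel
  obtain ⟨σ, hσ⟩ := h τ
  exact ⟨σ, ext_mat hσ⟩


/-- The full orthogonal group of the plus-type form x₁y₁ + x₂y₂ in dimension 4 over the field of two elements has order 72 and is isomorphic to the wreath product of the symmetric group of degree 3 by a group of order 2: it has a normal subgroup isomorphic to the direct product of two symmetric groups of degree 3, of index 2, whose two direct factors are interchanged by conjugation by some element. -/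
theorem result :
    Nat.card ↥(Cfsg.isometryGroup (ZMod 2) (Cfsg.quadFormPlus 2 (ZMod 2))) = 72 ∧
    ∃ (A B : Subgroup ↥(Cfsg.isometryGroup (ZMod 2) (Cfsg.quadFormPlus 2 (ZMod 2)))),
      Nonempty (↥A ≃* Equiv.Perm (Fin 3)) ∧ Nonempty (↥B ≃* Equiv.Perm (Fin 3)) ∧ A ⊓ B = ⊥ ∧ (∀ a ∈ A, ∀ b ∈ B, a * b = b * a) ∧
      (A ⊔ B).index = 2 ∧ ∃ g : ↥(Cfsg.isometryGroup (ZMod 2) (Cfsg.quadFormPlus 2 (ZMod 2))), A.map (MulAut.conj g).toMonoidHom = B := by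
  classical
  have hcard : Nat.card ↥(Cfsg.isometryGroup (ZMod 2) (Cfsg.quadFormPlus 2 (ZMod 2))) = 72 := by
    have h := S0287.result (F := ZMod 2) (q := 2) (ZMod.card 2) 2 (by norm_num)
    rw [h]
    norm_num [Finset.prod_range_succ]
  refine ⟨hcard, lHom.range, rHom.range, ⟨(MonoidHom.ofInjective lHom_inj).symm⟩, ⟨(MonoidHom.ofInjective rHom_inj).symm⟩, ?_, ?_, ?_,
    ⟨swapO, ?_⟩⟩
  · rw [Subgroup.eq_bot_iff_forall]
    rintro x ⟨⟨σ, rfl⟩, ⟨τ, hτ⟩⟩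
    have h1 : ∀ σ τ, rMat τ = lMat σ → σ = 1 := by decide +kernel
    rw [h1 σ τ (congrArg (fun z : ↥(Cfsg.isometryGroup (ZMod 2) (Cfsg.quadFormPlus 2 (ZMod 2))) => ((z : GL (Fin 2 ⊕ Fin 2) (ZMod 2)) : Matrix (Fin 2 ⊕ Fin 2) (Fin 2 ⊕ Fin 2) (ZMod 2))) hτ), map_one]
  · rintro _ ⟨σ, rfl⟩ _ ⟨τ, rfl⟩
    exact (lr_comm σ τ).eq
  · let ψ := MonoidHom.noncommCoprod lHom rHom lr_comm
    have hψ : Function.Injective ψ := by
      rw [injective_iff_map_eq_one]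
      rintro ⟨σ, τ⟩ h
      have h1 : ∀ σ τ, lMat σ * rMat τ = 1 → (σ, τ) = (1, 1) := by decide +kernel
      exact h1 σ τ (congrArg (fun z : ↥(Cfsg.isometryGroup (ZMod 2) (Cfsg.quadFormPlus 2 (ZMod 2))) => ((z : GL (Fin 2 ⊕ Fin 2) (ZMod 2)) : Matrix (Fin 2 ⊕ Fin 2) (Fin 2 ⊕ Fin 2) (ZMod 2))) h)
    have hr : lHom.range ⊔ rHom.range = ψ.range := (MonoidHom.noncommCoprod_range lHom rHom lr_comm).symm
    have h36 : Nat.card ψ.range = 36 := by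
      rw [← Nat.card_congr (MonoidHom.ofInjective hψ).toEquiv, Nat.card_prod, Nat.card_perm, Nat.card_eq_fintype_card, Fintype.card_fin]
      rfl
    have hmul := Subgroup.card_mul_index ψ.range
    rw [h36, hcard] at hmul
    rw [hr]
    omega
  · ext x
    constructor
    · rintro ⟨_, ⟨σ, rfl⟩, rfl⟩
      obtain ⟨τ, hτ⟩ := swap_lr σ
      exact ⟨τ, hτ.symm⟩
    · rintro ⟨τ, rfl⟩
      obtain ⟨σ, hσ⟩ := swap_rl τ
      exact ⟨_, ⟨σ, rfl⟩, hσ⟩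

end Cfsg.Agent.S2566
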