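import Cfsg.Statements.S2567


set_option autoImplicit false
open Cfsg

namespace Cfsg.Agent.S2567

/-- Lifting elements of prime order from PGL to GL: let F be a finite field with q elements, r a prime not dividing q − 1, and x an element of order r in GL_n(F) modulo its centre (the scalar matrices). Then x has exactly one preimage in GL_n(F) of order r. -/
theorem result {F : Type*} [Field F] [Fintype F] {q n r : ℕ} (hF : Fintype.card F = q) (hr : r.Prime) (hdiv : ¬ r ∣ q - 1) (x : GL (Fin n) F ⧸ Subgroup.center (GL (Fin n) F)) (hx : orderOf x = r) : ∃! g : GL (Fin n) F, (QuotientGroup.mk g : GL (Fin n) F ⧸ Subgroup.center (GL (Fin n) F)) = x ∧ orderOf g = r := by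
  classical
  rcases Nat.eq_zero_or_pos n with hn | hn
  · subst hn
    have : Subsingleton (GL (Fin 0) F) := ⟨fun a b => Units.ext (Subsingleton.elim _ _)⟩
    have hx1 : x = 1 := by
      obtain ⟨g, rfl⟩ := QuotientGroup.mk_surjective x
      rw [Subsingleton.elim g 1]; rfl
    rw [hx1, orderOf_one] at hx
    exact absurd hx.symm hr.one_lt.ne'
  obtain ⟨g₀, rfl⟩ := QuotientGroup.mk_surjective x
  set Z := Subgroup.center (GL (Fin n) F) with hZ
  have hcard : Nat.card Z ∣ q - 1 := by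
    have h1 : Z = (Matrix.GeneralLinearGroup.scalar (Fin n) : Fˣ →* GL (Fin n) F).range :=
      Matrix.GeneralLinearGroup.center_eq_range_scalar
    rw [h1]
    have := Subgroup.card_range_dvd (Matrix.GeneralLinearGroup.scalar (Fin n) : Fˣ →* GL (Fin n) F)
    rwa [Nat.card_units, Nat.card_eq_fintype_card (α := F), hF] at this
  have hcop : (Nat.card Z).Coprime r :=
    ((hr.coprime_iff_not_dvd.mpr fun h => hdiv (h.trans hcard))).symm
  have hg₀ : g₀ ^ r ∈ Z := by
    rw [← QuotientGroup.eq_one_iff, QuotientGroup.mk_pow, ← hx]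
    exact pow_orderOf_eq_one _
  have hne : (QuotientGroup.mk g₀ : GL (Fin n) F ⧸ Z) ≠ 1 := fun h => by
    rw [h, orderOf_one] at hx; exact hr.one_lt.ne hx
  obtain ⟨z, hz⟩ := (powCoprime hcop).surjective ⟨g₀ ^ r, hg₀⟩
  have hz' : (z : GL (Fin n) F) ^ r = g₀ ^ r := congrArg Subtype.val hz
  have hcomm : ∀ (w : Z) (h : GL (Fin n) F), Commute h (w : GL (Fin n) F) := fun w h =>
    Subgroup.mem_center_iff.mp w.2 h
  have hmk : (QuotientGroup.mk (g₀ * ((z⁻¹ : Z) : GL (Fin n) F)) : GL (Fin n) F ⧸ Z) = QuotientGroup.mk g₀ :=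
    QuotientGroup.mk_mul_of_mem g₀ (z⁻¹ : Z).2
  have hord : orderOf (g₀ * ((z⁻¹ : Z) : GL (Fin n) F)) = r := by
    haveI := Fact.mk hr
    apply orderOf_eq_prime
    · rw [(hcomm z⁻¹ g₀).mul_pow, Subgroup.coe_inv, inv_pow, hz', mul_inv_cancel]
    · intro h
      apply hne
      rw [← hmk, h, QuotientGroup.mk_one]
  refine ⟨g₀ * ((z⁻¹ : Z) : GL (Fin n) F), ⟨hmk, hord⟩, ?_⟩
  rintro g ⟨hg1, hg2⟩
  set g' := g₀ * ((z⁻¹ : Z) : GL (Fin n) F) with hg'
  have hd : g'⁻¹ * g ∈ Z := QuotientGroup.eq.mp (hmk.trans hg1.symm)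
  let w : Z := ⟨g'⁻¹ * g, hd⟩
  have hg : g = g' * (w : GL (Fin n) F) := by simp [w]
  have hw : w ^ r = 1 := by
    apply Subtype.ext
    have h := pow_orderOf_eq_one g
    rw [hg2, hg, (hcomm w g').mul_pow] at h
    have h' := pow_orderOf_eq_one g'
    rw [hord] at h'
    rw [h', one_mul] at h
    simpa using h
  have hw1 : w = 1 := (powCoprime hcop).injective (by simp [powCoprime_apply, hw])
  rw [hg, hw1, Subgroup.coe_one, mul_one]

end Cfsg.Agent.S2567
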