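import Cfsg.Statements.S2569
import Cfsg.Agent.Lib.Semisimple.Classes

set_option autoImplicit false
open Cfsg

namespace Cfsg.Agent.S2569

/-- In GL_n over a finite field of characteristic p, the conjugacy class of a semisimple element (an element of order prime to p) under the special linear group is its whole GL-conjugacy class: for every such x and every invertible g there is h of determinant one with h x h⁻¹ = g x g⁻¹. -/
theorem result {F : Type*} [Field F] [Fintype F] {p : ℕ} [Fact p.Prime] [CharP F p] {n : ℕ} (x g : GL (Fin n) F) (hx : (orderOf x).Coprime p) : ∃ h : GL (Fin n) F, (h : Matrix (Fin n) (Fin n) F).det = 1 ∧ h * x * h⁻¹ = g * x * g⁻¹ := by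
  rcases Nat.eq_zero_or_pos n with rfl | hn
  · exact ⟨1, Matrix.det_fin_zero, Units.ext (Subsingleton.elim _ _)⟩
  have : Nonempty (Fin n) := ⟨⟨0, hn⟩⟩
  have hd : (g : Matrix (Fin n) (Fin n) F).det ≠ 0 := (Matrix.isUnit_det_of_invertible _).ne_zero
  obtain ⟨a, ha, hc⟩ := CfsgLib.Semisimple.exists_commute_det_eq p x hx
    (g : Matrix (Fin n) (Fin n) F).det⁻¹ (inv_ne_zero hd)
  refine ⟨g * a, by rw [Units.val_mul, Matrix.det_mul, ha, mul_inv_cancel₀ hd], ?_⟩
  calc g * a * x * (g * a)⁻¹ = g * (a * x * a⁻¹) * g⁻¹ := by group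
    _ = g * x * g⁻¹ := by rw [hc.eq, mul_inv_cancel_right]

end Cfsg.Agent.S2569
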