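import Cfsg.Statements.S2572
import Cfsg.Agent.Lib.UnipotentGL.Count
import Cfsg.Agent.Lib.UnitTransv.Basic


set_option autoImplicit false
open Cfsg

namespace Cfsg.Agent.S2572

open Matrix CfsgLib.UnipotentGL in
/-- A transvection is the Jordan type `(2, 1, …, 1)`. -/
theorem jordan_two_one {F : Type*} [Field F] {m : ℕ} (d : Fin (m + 1) → ℕ) (h0 : d 0 = 2)
    (h1 : ∀ k, k ≠ 0 → d k = 1) (a b : Idx d) (ha : a.1 = 0) (ha' : a.2.1 = 1) (hb : b.1 = 0)
    (hb' : b.2.1 = 0) : Cfsg.jordanTypeMatrix d F = 1 + Matrix.single a b 1 := by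
  ext x y
  rw [J_apply, Matrix.add_apply, Matrix.one_apply, Matrix.single_apply]
  congr 1
  refine if_congr ?_ rfl rfl
  constructor
  · rintro ⟨hx, hxy⟩
    have hk : x.1 = 0 := by
      by_contra hk
      have := h1 _ hk; have := x.2.2; omega
    have h2 : d x.1 = 2 := by rw [hk, h0]
    have h3 : x.2.1 = 1 := by have := x.2.2; omega
    exact ⟨idx_ext (ha.trans hk.symm) (ha'.trans h3.symm),
      hxy ▸ idx_ext (hb.trans hk.symm) (by simp only [hb', pre, h3])⟩
  · rintro ⟨hax, hby⟩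
    subst hax hby
    exact ⟨by omega, idx_ext (ha.trans hb.symm) (by simp only [pre, ha', hb'])⟩

/-- Centraliser of a transvection in GL_n(q), n ≥ 2: if t − 1 has rank one and square zero, the centraliser of t in GL_n(q) has order q^(2n−3) (q − 1) |GL_(n−2)(q)| (a group of order q^(2n−3) extended by GL_1(q) × GL_(n−2)(q)). -/
theorem result {F : Type*} [Field F] [Fintype F] {q n : ℕ} (hF : Fintype.card F = q) (hn : 2 ≤ n) (t : GL (Fin n) F) (ht : Cfsg.IsTransvection (t : Matrix (Fin n) (Fin n) F)) : Nat.card ↥(Subgroup.centralizer ({t} : Set (GL (Fin n) F))) = q ^ (2 * n - 3) * (q - 1) * ∏ i : Fin (n - 2), (q ^ (n - 2) - q ^ (i : ℕ)) := by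
  classical
  obtain ⟨m, rfl⟩ : ∃ m, n = m + 2 := ⟨n - 2, by omega⟩
  let d : Fin (m + 1) → ℕ := fun k => if k = 0 then 2 else 1
  have hd : ∀ k, 1 ≤ d k := fun k => by simp only [d]; split_ifs <;> omega
  have hd0 : d 0 = 2 := if_pos rfl
  have hd1 : ∀ k, k ≠ 0 → d k = 1 := fun k hk => if_neg hk
  have hcard : Fintype.card ((k : Fin (m + 1)) × Fin (d k)) = m + 2 := by
    rw [Fintype.card_sigma]
    simp only [Fintype.card_fin, Fin.sum_univ_succ, hd0, hd1 _ (Fin.succ_ne_zero _),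
      Finset.sum_const, Finset.card_univ, smul_eq_mul, mul_one]
    omega
  let e := Fintype.equivFinOfCardEq hcard
  let a : (k : Fin (m + 1)) × Fin (d k) := ⟨0, ⟨1, by rw [hd0]; norm_num⟩⟩
  let b : (k : Fin (m + 1)) × Fin (d k) := ⟨0, ⟨0, by rw [hd0]; norm_num⟩⟩
  have hab : a ≠ b := fun h => by
    have := congrArg (fun x : (k : Fin (m + 1)) × Fin (d k) => x.2.1) h
    simp [a, b] at this
  let R := Matrix.reindexAlgEquiv F F e
  have hJ : R (Cfsg.jordanTypeMatrix d F) = 1 + Matrix.single (e a) (e b) 1 := by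
    rw [jordan_two_one d hd0 hd1 a b rfl rfl rfl rfl, map_add, map_one]
    congr 1
    ext i j
    simp [R, Matrix.reindexAlgEquiv_apply, Matrix.reindex_apply, Matrix.single_apply,
      Equiv.eq_symm_apply, eq_comm]
  have hT : Cfsg.IsTransvection (R (Cfsg.jordanTypeMatrix d F)) := by
    rw [Cfsg.IsTransvection, hJ, add_sub_cancel_left]
    refine ⟨le_antisymm ?_ ?_, ?_⟩
    · rw [Matrix.single_eq_single_vecMulVec_single]
      exact Matrix.rank_vecMulVec_le _ _
    · rw [Nat.one_le_iff_ne_zero]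
      intro h
      rw [Matrix.rank, Submodule.finrank_eq_zero, LinearMap.range_eq_bot] at h
      have := LinearMap.congr_fun h (Pi.single (e b) 1)
      have := congrFun this (e a)
      simp at this
    · refine Matrix.single_mul_single_of_ne _ _ _ _ (fun h => hab (e.injective h.symm)) _
  obtain ⟨g, hg⟩ := CfsgLib.UnitTransv.exists_conj (t : Matrix (Fin (m + 2)) (Fin (m + 2)) F) _ ht hT
  have hg' : (g : Matrix (Fin (m + 2)) (Fin (m + 2)) F) * t * ((g⁻¹ : GL (Fin (m + 2)) F) : Matrix (Fin (m + 2)) (Fin (m + 2)) F) = R (Cfsg.jordanTypeMatrix d F) := by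
    rw [hg, Units.mul_inv_cancel_right]
  let Φ : GL (Fin (m + 2)) F ≃* GL ((k : Fin (m + 1)) × Fin (d k)) F :=
    (MulAut.conj g).trans (Units.mapEquiv R.symm.toMulEquiv)
  have hΦt : (Φ t : Matrix _ _ F) = Cfsg.jordanTypeMatrix d F := by
    show R.symm _ = _
    rw [← R.symm_apply_apply (Cfsg.jordanTypeMatrix d F)]
    congr 1
  have e2 : ↥(Subgroup.centralizer ({t} : Set (GL (Fin (m + 2)) F))) ≃
      {X : GL ((k : Fin (m + 1)) × Fin (d k)) F // (X : Matrix _ _ F) * Cfsg.jordanTypeMatrix d F = Cfsg.jordanTypeMatrix d F * (X : Matrix _ _ F)} :=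
    Φ.toEquiv.subtypeEquiv fun x => by
      rw [Subgroup.mem_centralizer_singleton_iff, ← hΦt, MulEquiv.toEquiv_eq_coe, MulEquiv.coe_toEquiv,
        ← Units.val_mul, ← Units.val_mul, Units.val_inj, ← map_mul, ← map_mul, Φ.injective.eq_iff]
  have e3 : {X : GL ((k : Fin (m + 1)) × Fin (d k)) F // (X : Matrix _ _ F) * Cfsg.jordanTypeMatrix d F = Cfsg.jordanTypeMatrix d F * (X : Matrix _ _ F)} ≃
      {X : Matrix ((k : Fin (m + 1)) × Fin (d k)) ((k : Fin (m + 1)) × Fin (d k)) F //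
        X * Cfsg.jordanTypeMatrix d F = Cfsg.jordanTypeMatrix d F * X ∧ IsUnit X} :=
    Equiv.ofBijective (fun x => ⟨x.1, x.2, x.1.isUnit⟩)
      ⟨fun x y hxy => Subtype.ext (Units.ext (congrArg Subtype.val hxy)),
        fun X => ⟨⟨X.2.2.unit, X.2.1⟩, Subtype.ext rfl⟩⟩
  rw [Nat.card_congr (e2.trans e3), CfsgLib.UnipotentGL.card_units_comm hd,
    CfsgLib.UnipotentGL.card_not_diag hd, hF]
  have hsup : Finset.univ.sup d = 2 := le_antisymm
    (Finset.sup_le fun k _ => by simp only [d]; split_ifs <;> omega)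
    (hd0 ▸ Finset.le_sup (Finset.mem_univ 0))
  have hexp : (∑ k, ∑ l, (min (d k) (d l) - if d k = d l then 1 else 0)) = 2 * (m + 2) - 3 := by
    have hs : ∀ i : Fin m, d i.succ = 1 := fun i => hd1 _ (Fin.succ_ne_zero i)
    simp only [Fin.sum_univ_succ, hd0, hs]
    simp
    omega
  have hc : ∀ i : ℕ, Fintype.card {k : Fin (m + 1) // d k = i} =
      if i = 1 then m else if i = 2 then 1 else 0 := by
    intro i
    rw [Fintype.card_subtype, Finset.card_filter, Fin.sum_univ_succ]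
    have hs : ∀ i : Fin m, d i.succ = 1 := fun i => hd1 _ (Fin.succ_ne_zero i)
    simp only [hd0, hs, Finset.sum_const, Finset.card_univ, Fintype.card_fin, smul_eq_mul]
    split_ifs <;> omega
  have hc0 : Fintype.card {k : Fin (m + 1) // d k = 0} = 0 := (hc 0).trans (by simp)
  have hc1 : Fintype.card {k : Fin (m + 1) // d k = 1} = m := (hc 1).trans (by simp)
  have hc2 : Fintype.card {k : Fin (m + 1) // d k = 2} = 1 := (hc 2).trans (by simp)
  rw [hexp, hsup, Fin.prod_univ_eq_prod_range (fun i => ∏ j : Fin (Fintype.card {k // d k = i}),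
      (q ^ Fintype.card {k // d k = i} - q ^ (j : ℕ))) (2 + 1)]
  simp only [Finset.prod_range_succ, Finset.prod_range_zero, one_mul]
  rw [CfsgLib.UnipotentGL.prod_fin_congr q hc0, CfsgLib.UnipotentGL.prod_fin_congr q hc1,
    CfsgLib.UnipotentGL.prod_fin_congr q hc2]
  simp only [Fin.prod_univ_zero, Fin.prod_univ_one, one_mul, pow_one, Fin.val_zero, pow_zero,
    show m + 2 - 2 = m by omega]
  ac_rfl

end Cfsg.Agent.S2572
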