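import Cfsg.Statements.S2573


set_option autoImplicit false
open Cfsg

namespace Cfsg.Agent.S2573

/-- The invariant subspaces of a regular unipotent matrix form a chain: over a finite field, if u is an n × n matrix with (u − 1)^n = 0 and rank(u − 1) = n − 1, then every subspace W of F^n with u W ⊆ W is the kernel of (u − 1)^(dim W); so u has at most one invariant subspace of each dimension. -/
theorem result {F : Type*} [Field F] [Finite F] {n : ℕ} (u : Matrix (Fin n) (Fin n) F) (hnil : (u - 1) ^ n = 0) (hreg : (u - 1).rank = n - 1) (W : Submodule F (Fin n → F)) (hW : ∀ v ∈ W, u.mulVec v ∈ W) : W = LinearMap.ker (Matrix.mulVecLin ((u - 1) ^ Module.finrank F W)) := by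
  set N : Matrix (Fin n) (Fin n) F := u - 1 with hN
  set k := Module.finrank F W with hk
  have hWN : ∀ v ∈ W, N.mulVec v ∈ W := fun v hv => by
    rw [hN, Matrix.sub_mulVec, Matrix.one_mulVec]; exact W.sub_mem (hW v hv) hv
  rcases Nat.eq_zero_or_pos n with hn | hn
  · subst hn; exact Subsingleton.elim _ _
  have hker1 : Module.finrank F (LinearMap.ker N.mulVecLin) ≤ 1 := by
    have := LinearMap.finrank_range_add_finrank_ker N.mulVecLin
    rw [Module.finrank_fin_fun] at this
    have h2 : Module.finrank F (LinearMap.range N.mulVecLin) = n - 1 := hreg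
    omega
  have hkerj : ∀ j, Module.finrank F (LinearMap.ker (N ^ j).mulVecLin) ≤ j := by
    intro j
    induction j with
    | zero => simp
    | succ j ih =>
      have hle : (LinearMap.ker (N ^ (j+1)).mulVecLin).map N.mulVecLin ≤ LinearMap.ker (N ^ j).mulVecLin := by
        rintro _ ⟨v, hv, rfl⟩
        simp only [SetLike.mem_coe, LinearMap.mem_ker, Matrix.mulVecLin_apply] at hv ⊢
        rw [Matrix.mulVec_mulVec, ← pow_succ]; exact hv
      have h1 := LinearMap.finrank_range_add_finrank_ker (N.mulVecLin.domRestrict (LinearMap.ker (N ^ (j+1)).mulVecLin))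
      rw [LinearMap.range_domRestrict] at h1
      have h2 : Module.finrank F (LinearMap.ker (N.mulVecLin.domRestrict (LinearMap.ker (N ^ (j+1)).mulVecLin))) ≤ 1 := by
        refine le_trans ?_ hker1
        apply LinearMap.finrank_le_finrank_of_injective (f := LinearMap.codRestrict (LinearMap.ker N.mulVecLin) ((LinearMap.ker (N ^ (j+1)).mulVecLin).subtype.comp (Submodule.subtype _)) (fun c => c.2))
        intro a b hab
        exact Subtype.ext (Subtype.ext (congrArg Subtype.val hab :))
      have h3 := Submodule.finrank_mono hle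
      omega
  -- N restricted to W is nilpotent, so N^k kills W
  let f : Module.End F W := N.mulVecLin.restrict hWN
  have hpow : ∀ (j : ℕ) (v : W), ((f ^ j) v : Fin n → F) = (N ^ j).mulVec v := by
    intro j
    induction j with
    | zero => intro v; simp
    | succ j ih =>
      intro v
      rw [pow_succ', Module.End.mul_apply, pow_succ', ← Matrix.mulVec_mulVec, ← ih v]
      rfl
  have hf : IsNilpotent f := ⟨n, LinearMap.ext fun v => Subtype.ext (by rw [hpow, hnil]; simp)⟩
  have hfk : f ^ k = 0 := by
    have h1 := LinearMap.aeval_self_charpoly f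
    rw [hf.charpoly_eq_X_pow_finrank] at h1
    simpa using h1
  have hle : W ≤ LinearMap.ker (N ^ k).mulVecLin := by
    intro v hv
    rw [LinearMap.mem_ker, Matrix.mulVecLin_apply, ← hpow k ⟨v, hv⟩, hfk]
    simp
  exact Submodule.eq_of_le_of_finrank_le hle (hkerj k)

end Cfsg.Agent.S2573
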