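import Cfsg.Statements.S2574
import Cfsg.Agent.Lib.Conj.RegularNilpotent


set_option autoImplicit false
open Cfsg

namespace Cfsg.Agent.S2574

/-- A regular unipotent element of the symplectic group has totally isotropic small invariant subspaces: over a finite field, if u ∈ Sp_2m(F) satisfies (u − 1)^(2m) = 0 and rank(u − 1) = 2m − 1, and W is a u-invariant subspace with 2 dim W ≤ 2m, then the alternating form vanishes identically on W. -/
theorem result {F : Type*} [Field F] [Finite F] {m : ℕ} (u : Matrix.symplecticGroup (Fin m) F) (hnil : ((u : Matrix (Fin m ⊕ Fin m) (Fin m ⊕ Fin m) F) - 1) ^ (2 * m) = 0) (hreg : ((u : Matrix (Fin m ⊕ Fin m) (Fin m ⊕ Fin m) F) - 1).rank = 2 * m - 1) (W : Submodule F (Fin m ⊕ Fin m → F)) (hW : ∀ v ∈ W, (u : Matrix (Fin m ⊕ Fin m) (Fin m ⊕ Fin m) F).mulVec v ∈ W) (hdim : 2 * Module.finrank F W ≤ 2 * m) : ∀ v ∈ W, ∀ w ∈ W, Cfsg.sympForm m F v w = 0 := by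
  set M := (u : Matrix (Fin m ⊕ Fin m) (Fin m ⊕ Fin m) F) with hMdef
  set N := M - 1 with hN
  set k := Module.finrank F W with hk
  have hcard : Fintype.card (Fin m ⊕ Fin m) = 2 * m := by simp; omega
  rcases Nat.eq_zero_or_pos m with hm | hm
  · subst hm
    intro v _ w _
    simp [Cfsg.sympForm, dotProduct]
  have h : CfsgLib.Conj.IsRegNilp N :=
    ⟨by rw [hcard]; exact hnil, by rw [hcard]; exact hreg, by rw [hcard]; omega⟩
  have hWN : ∀ v ∈ W, N.mulVec v ∈ W := fun v hv => by
    rw [hN, Matrix.sub_mulVec, Matrix.one_mulVec]; exact W.sub_mem (hW v hv) hv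
  let f : Module.End F W := N.mulVecLin.restrict hWN
  have hpow : ∀ (j : ℕ) (v : W), ((f ^ j) v : Fin m ⊕ Fin m → F) = (N ^ j).mulVec v := by
    intro j
    induction j with
    | zero => intro v; simp
    | succ j ih => intro v; rw [pow_succ', Module.End.mul_apply, pow_succ', ← Matrix.mulVec_mulVec, ← ih v]; rfl
  have hf : IsNilpotent f := ⟨2 * m, LinearMap.ext fun v => Subtype.ext (by rw [hpow, hnil]; simp)⟩
  have hfk : f ^ k = 0 := by
    have h1 := LinearMap.aeval_self_charpoly f
    rw [hf.charpoly_eq_X_pow_finrank] at h1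
    simpa using h1
  have hWk : ∀ v ∈ W, (N ^ k).mulVec v = 0 := fun v hv => by rw [← hpow k ⟨v, hv⟩, hfk]; simp
  -- the kernel of `N ^ k` is the image of `N ^ (2m - k)`
  have hle : LinearMap.range (N ^ (2 * m - k)).mulVecLin ≤ LinearMap.ker (N ^ k).mulVecLin := by
    rintro _ ⟨v, rfl⟩
    rw [LinearMap.mem_ker, Matrix.mulVecLin_apply, Matrix.mulVecLin_apply, Matrix.mulVec_mulVec, ← pow_add,
      show k + (2 * m - k) = 2 * m by omega, hnil, Matrix.zero_mulVec]
  have heq : LinearMap.range (N ^ (2 * m - k)).mulVecLin = LinearMap.ker (N ^ k).mulVecLin := by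
    refine Submodule.eq_of_le_of_finrank_le hle ?_
    have h1 := LinearMap.finrank_range_add_finrank_ker (N ^ (2 * m - k)).mulVecLin
    rw [Module.finrank_fintype_fun_eq_card, hcard] at h1
    have h2 := h.finrank_ker_pow_le (2 * m - k)
    have h3 := h.finrank_ker_pow_le k
    omega
  -- the adjoint of `N` for `J`
  set J := Matrix.J (Fin m) F
  set B := ((u⁻¹ : Matrix.symplecticGroup (Fin m) F) : Matrix (Fin m ⊕ Fin m) (Fin m ⊕ Fin m) F) with hB
  have hBM : B * M = 1 := congrArg Subtype.val (inv_mul_cancel u)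
  have hadj : N.transpose * J = J * (B - 1) := by
    have : M.transpose * J = J * B := by
      rw [hB, SymplecticGroup.coe_inv, neg_mul, neg_mul, mul_neg, ← mul_assoc, ← mul_assoc, Matrix.J_squared, neg_mul, one_mul, neg_mul, neg_neg]
    rw [hN, Matrix.transpose_sub, Matrix.transpose_one, sub_mul, mul_sub, this, one_mul, mul_one]
  have hB1 : B - 1 = -B * N := by rw [hN, mul_sub, neg_mul, hBM, mul_one]; abel
  have hcommBN : Commute B N := by
    have : Commute B M := hBM.trans (congrArg Subtype.val (mul_inv_cancel u)).symm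
    exact this.sub_right (Commute.one_right B)
  intro v hv w hw
  have hv' : v ∈ LinearMap.range (N ^ (2 * m - k)).mulVecLin := by rw [heq]; exact hWk v hv
  obtain ⟨a, rfl⟩ := hv'
  show ((N ^ (2 * m - k)).mulVec a) ⬝ᵥ (J.mulVec w) = 0
  have hpw : ∀ j, (N.transpose) ^ j * J = J * (B - 1) ^ j := by
    intro j
    induction j with
    | zero => simp
    | succ j ih => rw [pow_succ', mul_assoc, ih, ← mul_assoc, hadj, mul_assoc, ← pow_succ']
  rw [← Matrix.vecMul_transpose, ← Matrix.dotProduct_mulVec, Matrix.mulVec_mulVec, Matrix.transpose_pow, hpw,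
    hB1, (hcommBN.neg_left).mul_pow, ← Matrix.mulVec_mulVec, ← Matrix.mulVec_mulVec,
    show 2 * m - k = (2 * m - k - k) + k by omega, pow_add N, ← Matrix.mulVec_mulVec, hWk w hw]
  simp

end Cfsg.Agent.S2574
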