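import Cfsg.Statements.S2575


set_option autoImplicit false
open Cfsg

namespace Cfsg.Agent.S2575

theorem neg_one_ne_one {F : Type*} [Field F] [Fintype F] {q : ℕ} (hF : Fintype.card F = q) (hq : Odd q) :
    (-1 : F) ≠ 1 := by
  refine Ring.neg_one_ne_one_of_char_ne_two fun h2 => ?_
  have := FiniteField.even_card_of_char_two h2
  obtain ⟨k, hk⟩ := hq
  omega

theorem odd_cofactor {N m : ℕ} (hN : N ≠ 0) (hm : N = 2 ^ padicValNat 2 N * m) : Odd m := by
  rw [← Nat.not_even_iff_odd]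
  rintro ⟨k, hk⟩
  apply pow_succ_padicValNat_not_dvd (p := 2) hN
  exact ⟨k, hm.trans (by rw [hk, pow_succ]; ring)⟩

theorem exists_orderOf {F : Type*} [Field F] [Fintype F] {q : ℕ} (hF : Fintype.card F = q) {d : ℕ}
    (hd : d ∣ q - 1) : ∃ c : Fˣ, orderOf c = d := by
  classical
  obtain ⟨γ, hγ⟩ := IsCyclic.exists_ofOrder_eq_natCard (α := Fˣ)
  rw [Nat.card_eq_fintype_card, Fintype.card_units, hF] at hγ
  have hpos : 0 < q - 1 := by have := hF ▸ Fintype.one_lt_card (α := F); omega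
  obtain ⟨e, he⟩ := hd
  refine ⟨γ ^ e, ?_⟩
  have he0 : e ≠ 0 := by rintro rfl; simp at he; omega
  rw [orderOf_pow_of_dvd he0 (hγ ▸ ⟨d, he.trans (mul_comm d e)⟩), hγ, he]
  exact Nat.mul_div_cancel d (Nat.pos_of_ne_zero he0)


/-- Which diagonal involutions of PGL_n(q) lie in PSL_n(q), q odd: for the diagonal matrix t with i entries −1 and n − i entries 1, some non-zero scalar multiple of t has determinant one if and only if i is even or the 2-part of q − 1 exceeds the 2-part of n (that is, −1 is an n-th power in the field exactly in the latter case). -/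
theorem result {F : Type*} [Field F] [Fintype F] {q : ℕ} (hF : Fintype.card F = q) (hq : Odd q) {n : ℕ} (hn : 1 ≤ n) (i : ℕ) (hi : i ≤ n) : (∃ c : F, c ≠ 0 ∧ (c • Matrix.diagonal (fun j : Fin n => if (j : ℕ) < i then (-1 : F) else 1)).det = 1) ↔ (Even i ∨ padicValNat 2 n < padicValNat 2 (q - 1)) := by
  classical
  have hdet : ∀ c : F, (c • Matrix.diagonal (fun j : Fin n => if (j : ℕ) < i then (-1 : F) else 1)).det = c ^ n * (-1) ^ i := by
    intro c
    rw [Matrix.det_smul, Fintype.card_fin, Matrix.det_diagonal, Finset.prod_ite, Finset.prod_const_one, mul_one, Finset.prod_const]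
    congr 2
    have : (Finset.univ.filter fun j : Fin n => (j : ℕ) < i) = (Finset.univ : Finset (Fin i)).map (Fin.castLEEmb hi) := by
      ext j
      simp only [Finset.mem_filter, Finset.mem_univ, true_and, Finset.mem_map, Fin.castLEEmb_apply]
      exact ⟨fun h => ⟨⟨j, h⟩, rfl⟩, fun ⟨k, hk⟩ => hk ▸ k.2⟩
    rw [this, Finset.card_map, Finset.card_univ, Fintype.card_fin]
  simp only [hdet]
  rcases Nat.even_or_odd i with he | ho
  · exact ⟨fun _ => Or.inl he, fun _ => ⟨1, one_ne_zero, by rw [one_pow, one_mul, he.neg_one_pow]⟩⟩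
  have hne : ¬ Even i := Nat.not_even_iff_odd.mpr ho
  simp only [ho.neg_one_pow, hne, false_or, mul_neg, mul_one, neg_eq_iff_eq_neg]
  have h1 : (-1 : F) ≠ 1 := neg_one_ne_one hF hq
  have hq1 : q - 1 ≠ 0 := by have := hF ▸ Fintype.one_lt_card (α := F); omega
  constructor
  · rintro ⟨c, hc, hcn⟩
    by_contra hlt
    set a := padicValNat 2 (q - 1)
    obtain ⟨m, hm⟩ : 2 ^ a ∣ q - 1 := pow_padicValNat_dvd
    have hmo : Odd m := odd_cofactor hq1 hm
    obtain ⟨k, hk⟩ : 2 ^ a ∣ n := (pow_dvd_pow 2 (not_lt.mp hlt)).trans pow_padicValNat_dvd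
    have h2 : c ^ (n * m) = 1 := by
      rw [show n * m = (q - 1) * k by rw [hk, hm]; ring, pow_mul, ← hF, FiniteField.pow_card_sub_one_eq_one c hc, one_pow]
    rw [pow_mul, hcn, hmo.neg_one_pow] at h2
    exact h1 h2
  · intro hlt
    obtain ⟨k, hk⟩ : 2 ^ padicValNat 2 n ∣ n := pow_padicValNat_dvd
    have hko : Odd k := odd_cofactor (by omega) hk
    obtain ⟨c, hc⟩ := exists_orderOf hF (d := 2 ^ (padicValNat 2 n + 1))
      ((pow_dvd_pow 2 hlt).trans pow_padicValNat_dvd)
    refine ⟨(c : F), c.ne_zero, ?_⟩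
    have hcc : ((c : F)) ^ (2 ^ padicValNat 2 n) = -1 := by
      have h3 : ((c : F) ^ (2 ^ padicValNat 2 n)) ^ 2 = 1 := by
        rw [← pow_mul, ← pow_succ, ← hc, ← Units.val_pow_eq_pow_val, pow_orderOf_eq_one, Units.val_one]
      refine (sq_eq_one_iff.mp h3).resolve_left fun h4 => ?_
      rw [← Units.val_pow_eq_pow_val, Units.val_eq_one] at h4
      have := orderOf_dvd_of_pow_eq_one h4
      rw [hc, Nat.pow_dvd_pow_iff_le_right (by norm_num)] at this
      omega
    rw [hk, pow_mul, hcc, hko.neg_one_pow]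

end Cfsg.Agent.S2575
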