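import Cfsg.Statements.S2576
import Cfsg.Agent.S2575


set_option autoImplicit false
open Cfsg

namespace Cfsg.Agent.S2576

/-- Which involutions of PGL_2m(q) coming from a scalar of the quadratic extension field lie in PSL_2m(q), q odd: let μ generate the Sylow 2-subgroup of the multiplicative group of the field with q elements (μ has order the 2-part of q − 1) and let t be the block-diagonal matrix with m diagonal blocks [[0, 1], [μ, 0]] (so t² is the scalar μ and t is an involution modulo scalars). Then some non-zero scalar multiple of t has determinant one if and only if q ≡ 3 (mod 4) or the 2-part of q − 1 is less than the 2-part of 2m. -/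
theorem result {F : Type*} [Field F] [Fintype F] {q : ℕ} (hF : Fintype.card F = q) (hq : Odd q) {m : ℕ} (hm : 1 ≤ m) (μ : F) (hμ : orderOf μ = 2 ^ padicValNat 2 (q - 1)) : (∃ c : F, c ≠ 0 ∧ (c • Matrix.blockDiagonal (fun _ : Fin m => !![(0 : F), 1; μ, 0])).det = 1) ↔ (q % 4 = 3 ∨ padicValNat 2 (q - 1) < padicValNat 2 (2 * m)) := by
  classical
  set a := padicValNat 2 (q - 1) with ha
  have hdet : ∀ c : F, (c • Matrix.blockDiagonal (fun _ : Fin m => !![(0 : F), 1; μ, 0])).det = (c ^ 2 * -μ) ^ m := by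
    intro c
    rw [Matrix.det_smul, Matrix.det_blockDiagonal]
    simp only [Matrix.det_fin_two_of, Finset.prod_const, Finset.card_univ, Fintype.card_prod, Fintype.card_fin, mul_pow, pow_mul, zero_mul, zero_sub, one_mul]
  simp only [hdet]
  have h1 : (-1 : F) ≠ 1 := S2575.neg_one_ne_one hF hq
  have hq1 : q - 1 ≠ 0 := by have := hF ▸ Fintype.one_lt_card (α := F); omega
  haveI := Fact.mk Nat.prime_two
  have h2q : 2 ∣ q - 1 := by obtain ⟨k, hk⟩ := hq; omega
  have ha1 : 1 ≤ a := one_le_padicValNat_of_dvd hq1 h2q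
  have hμa : μ ^ (2 ^ (a - 1)) = -1 := by
    have h3 : (μ ^ (2 ^ (a - 1))) ^ 2 = 1 := by
      rw [← pow_mul, ← pow_succ, Nat.sub_add_cancel ha1, ← hμ, pow_orderOf_eq_one]
    refine (sq_eq_one_iff.mp h3).resolve_left fun h4 => ?_
    have := orderOf_dvd_of_pow_eq_one h4
    rw [hμ, Nat.pow_dvd_pow_iff_le_right (by norm_num)] at this
    omega
  have hq4 : q % 4 = 3 ↔ a = 1 := by
    have h4 : 4 ∣ q - 1 ↔ 2 ≤ a := by
      rw [show (4 : ℕ) = 2 ^ 2 by norm_num, padicValNat_dvd_iff_le hq1]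
    obtain ⟨k, hk⟩ := hq
    constructor <;> intro h
    · by_contra hne
      have := h4.mpr (by omega)
      omega
    · by_contra hne
      have := h4.mp (by omega)
      omega
  have hv : padicValNat 2 (2 * m) = padicValNat 2 m + 1 := by
    rw [padicValNat.mul (by norm_num) (by omega), padicValNat.self (by norm_num), add_comm]
  rw [hq4, hv]
  constructor
  · rintro ⟨c, hc, hcm⟩
    by_contra hno
    push Not at hno
    obtain ⟨ha2, hb⟩ := hno
    set b := padicValNat 2 m
    obtain ⟨m', hm'⟩ : 2 ^ b ∣ m := pow_padicValNat_dvd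
    have hm'o : Odd m' := S2575.odd_cofactor (by omega) hm'
    obtain ⟨m₀, hm₀⟩ : 2 ^ a ∣ q - 1 := pow_padicValNat_dvd
    have hm₀o : Odd m₀ := S2575.odd_cofactor hq1 hm₀
    have h5 := congrArg (fun z => z ^ (2 ^ (a - 1 - b) * m₀)) hcm
    simp only [one_pow] at h5
    rw [← pow_mul] at h5
    have e1 : m * (2 ^ (a - 1 - b) * m₀) = 2 ^ (a - 1) * (m' * m₀) := by
      conv_lhs => rw [hm']
      calc 2 ^ b * m' * (2 ^ (a - 1 - b) * m₀) = 2 ^ (b + (a - 1 - b)) * (m' * m₀) := by rw [pow_add]; ring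
        _ = _ := by rw [show b + (a - 1 - b) = a - 1 by omega]
    rw [e1, mul_pow, pow_mul, pow_mul (-μ)] at h5
    have e2 : ((c ^ 2) ^ 2 ^ (a - 1)) ^ (m' * m₀) = 1 := by
      rw [← pow_mul, ← pow_mul, show 2 * (2 ^ (a - 1) * (m' * m₀)) = (q - 1) * m' by
        rw [hm₀, ← Nat.sub_add_cancel ha1, pow_succ, Nat.sub_add_cancel ha1]; ring, pow_mul, ← hF,
        FiniteField.pow_card_sub_one_eq_one c hc, one_pow]
    have e3 : (-μ) ^ 2 ^ (a - 1) = -1 := by
      rw [Even.neg_pow ((Nat.even_pow).mpr ⟨even_two, by omega⟩), hμa]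
    rw [e2, e3, one_mul, (hm'o.mul hm₀o).neg_one_pow] at h5
    exact h1 h5
  · intro h
    refine ⟨1, one_ne_zero, ?_⟩
    rw [one_pow, one_mul]
    rcases h with h | h
    · rw [h] at hμa
      simp at hμa
      rw [hμa]; simp
    · obtain ⟨k, hk⟩ : 2 ^ a ∣ m := (pow_dvd_pow 2 (show a ≤ padicValNat 2 m by omega)).trans pow_padicValNat_dvd
      rw [hk, pow_mul, Even.neg_pow ((Nat.even_pow).mpr ⟨even_two, by omega⟩), ← hμ, pow_orderOf_eq_one, one_pow]

end Cfsg.Agent.S2576
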