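import Cfsg.Statements.S2579
import Cfsg.Agent.Lib.CharTwoInv.SquareZero


set_option autoImplicit false
set_option maxHeartbeats 200000
open Cfsg

namespace Cfsg.Agent.S2579

theorem sq_zero {F : Type*} [Field F] {n : ℕ} {N : Matrix (Fin n) (Fin n) F} (h : N * N = 0) :
    ∀ x, Matrix.toLin' N (Matrix.toLin' N x) = 0 := fun x => by
  rw [Matrix.toLin'_apply, Matrix.toLin'_apply, Matrix.mulVec_mulVec, h, Matrix.zero_mulVec]

theorem rank_one {F : Type*} [Field F] {n : ℕ} {N : Matrix (Fin n) (Fin n) F} (h : N.rank = 1) :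
    Module.finrank F (LinearMap.range (Matrix.toLin' N)) = 1 := by
  rw [Matrix.toLin'_apply']; exact h

open CfsgLib.CharTwoInv in
/-- Square-zero maps of rank one are conjugate by a map of determinant one in dimension at least three. -/
theorem exists_conj_det_one {F V : Type*} [Field F] [AddCommGroup V] [Module F V] [FiniteDimensional F V]
    (N N' : V →ₗ[F] V) (hN : ∀ x, N (N x) = 0) (hN' : ∀ x, N' (N' x) = 0)
    (h1 : Module.finrank F (LinearMap.range N) = 1) (h1' : Module.finrank F (LinearMap.range N') = 1)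
    (hV : 3 ≤ Module.finrank F V) :
    ∃ g : V ≃ₗ[F] V, (∀ x, g (N x) = N' (g x)) ∧ LinearMap.det (g : V →ₗ[F] V) = 1 := by
  obtain ⟨U, Φ, hΦ, hΦ0⟩ := exists_squareZero_coords N hN
  obtain ⟨U', Φ', hΦ', hΦ0'⟩ := exists_squareZero_coords N' hN'
  have hdim := Φ.finrank_eq
  have hdim' := Φ'.finrank_eq
  rw [Module.finrank_prod, Module.finrank_prod] at hdim hdim'
  let eW : LinearMap.range N ≃ₗ[F] LinearMap.range N' := LinearEquiv.ofFinrankEq _ _ (h1.trans h1'.symm)
  let eU : U ≃ₗ[F] U' := LinearEquiv.ofFinrankEq _ _ (by omega)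
  let g₀ : V ≃ₗ[F] V := Φ.symm.trans ((eW.prodCongr (eW.prodCongr eU)).trans Φ')
  have hg₀ : ∀ x, g₀ (N x) = N' (g₀ x) := by
    intro x
    obtain ⟨p, rfl⟩ := Φ.surjective x
    rw [hΦ, hΦ0]
    simp only [g₀, LinearEquiv.trans_apply, LinearEquiv.symm_apply_apply, LinearEquiv.prodCongr_apply, map_zero]
    rw [hΦ']
    exact (hΦ0' (eW p.1)).symm
  have hc0 : LinearMap.det (g₀ : V →ₗ[F] V) ≠ 0 := (LinearEquiv.isUnit_det' g₀).ne_zero
  obtain ⟨k, hk⟩ := exists_linearEquiv_det (F := F) U (by omega) _ (inv_ne_zero hc0)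
  let d : V ≃ₗ[F] V := Φ.symm.trans (((LinearEquiv.refl F _).prodCongr ((LinearEquiv.refl F _).prodCongr k)).trans Φ)
  have hd : ∀ x, d (N x) = N (d x) := by
    intro x
    obtain ⟨p, rfl⟩ := Φ.surjective x
    rw [hΦ, hΦ0]
    simp only [d, LinearEquiv.trans_apply, LinearEquiv.symm_apply_apply, LinearEquiv.prodCongr_apply, map_zero, LinearEquiv.refl_apply]
    rw [hΦ, hΦ0]
  refine ⟨d.trans g₀, fun x => ?_, ?_⟩
  · show g₀ (d (N x)) = N' (g₀ (d x))
    rw [hd, hg₀]
  · have hdd : LinearMap.det (d : V →ₗ[F] V) = (LinearMap.det (g₀ : V →ₗ[F] V))⁻¹ := by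
      have : (d : V →ₗ[F] V) = (Φ : _ →ₗ[F] V) ∘ₗ (LinearMap.prodMap (LinearMap.id : LinearMap.range N →ₗ[F] _) (LinearMap.prodMap (LinearMap.id : LinearMap.range N →ₗ[F] _) (k : U →ₗ[F] U))) ∘ₗ (Φ.symm : V →ₗ[F] _) := by
        ext x; rfl
      rw [this, LinearMap.det_conj, LinearMap.det_prodMap, LinearMap.det_prodMap, LinearMap.det_id, one_mul, one_mul, hk]
    have : ((d.trans g₀ : V ≃ₗ[F] V) : V →ₗ[F] V) = (g₀ : V →ₗ[F] V) ∘ₗ (d : V →ₗ[F] V) := rfl
    rw [this, LinearMap.det_comp, hdd, mul_inv_cancel₀ hc0]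


/-- In SL_n(F) with n ≥ 3, over a finite field F, any two transvections (matrices t with t − 1 of rank one and square zero) are conjugate by an element of SL_n(F). -/
theorem result {F : Type*} [Field F] [Finite F] {n : ℕ} (hn : 3 ≤ n) (s t : Matrix.SpecialLinearGroup (Fin n) F) (hs : Cfsg.IsTransvection (s : Matrix (Fin n) (Fin n) F)) (ht : Cfsg.IsTransvection (t : Matrix (Fin n) (Fin n) F)) : IsConj s t := by
  have hs1 := rank_one (F := F) (n := n) (N := (s : Matrix (Fin n) (Fin n) F) - 1) hs.1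
  have ht1 := rank_one (F := F) (n := n) (N := (t : Matrix (Fin n) (Fin n) F) - 1) ht.1
  have hs2 := sq_zero (F := F) (n := n) (N := (s : Matrix (Fin n) (Fin n) F) - 1) hs.2
  have ht2 := sq_zero (F := F) (n := n) (N := (t : Matrix (Fin n) (Fin n) F) - 1) ht.2
  have hdim : 3 ≤ Module.finrank F (Fin n → F) := by rw [Module.finrank_fin_fun]; omega
  obtain ⟨g, hg, hdet⟩ := exists_conj_det_one (F := F) (V := Fin n → F) _ _ hs2 ht2 hs1 ht1 hdim
  let gl : (Fin n → F) →ₗ[F] (Fin n → F) := g.toLinearMap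
  have hd : (LinearMap.toMatrix' gl).det = 1 := (LinearMap.det_toMatrix' gl).trans hdet
  let G : Matrix.SpecialLinearGroup (Fin n) F := ⟨_, hd⟩
  have hG : (G : Matrix (Fin n) (Fin n) F) * ((s : Matrix (Fin n) (Fin n) F) - 1) = ((t : Matrix (Fin n) (Fin n) F) - 1) * (G : Matrix (Fin n) (Fin n) F) := by
    apply Matrix.toLin'.injective
    rw [Matrix.toLin'_mul, Matrix.toLin'_mul, Matrix.toLin'_toMatrix']
    exact LinearMap.ext hg
  rw [mul_sub, sub_mul, mul_one, one_mul, sub_left_inj] at hG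
  refine isConj_iff.mpr ⟨G, ?_⟩
  rw [mul_inv_eq_iff_eq_mul]
  exact Subtype.ext hG

end Cfsg.Agent.S2579
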