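import Cfsg.Statements.S2583
import Cfsg.Agent.Lib.UnipotentClassical.Criterion


set_option autoImplicit false
open Cfsg

namespace Cfsg.Agent.S2583

/-- Which unipotent Jordan types occur in a finite orthogonal group in odd characteristic: over a finite field of odd order, a unipotent matrix with Jordan block sizes d_1, …, d_t (sum n, all at least 1) is similar to an isometry of some quadratic form on F^n with non-degenerate polar form if and only if every even block size occurs an even number of times. -/
theorem result {F : Type*} [Field F] [Fintype F] (h2 : (2 : F) ≠ 0) {n t : ℕ} (d : Fin t → ℕ) (hd : ∀ k, 1 ≤ d k) (hsum : ∑ k, d k = n) : (∃ Q : QuadraticForm F (Fin n → F), (QuadraticMap.polarBilin Q).Nondegenerate ∧ ∃ e : ((k : Fin t) × Fin (d k)) ≃ Fin n, ∃ A : ↥(Cfsg.isometryGroup F ⇑Q), IsConj (Matrix.reindex e e (Cfsg.jordanTypeMatrix d F)) ((A : Matrix.GeneralLinearGroup (Fin n) F) : Matrix (Fin n) (Fin n) F)) ↔ ∀ j : ℕ, Even j → 0 < j → Even (Finset.univ.filter (fun k : Fin t => d k = j)).card := by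
  rw [CfsgLib.UnipotentClassical.orthogonal_iff hsum]
  refine ⟨fun h j hj hj0 => CfsgLib.UnipotentClassical.even_of_hasQuad h2 h hj hj0, fun h => ?_⟩
  refine CfsgLib.UnipotentClassical.hasQuad_type d Odd (fun j hj => ?_) (fun j hj => ?_)
  · obtain ⟨i, rfl⟩ := hj
    exact CfsgLib.UnipotentClassical.hasQuad_odd h2 i
  · rcases Nat.eq_zero_or_pos j with rfl | hj0
    · rw [Finset.filter_false_of_mem fun k _ => Nat.one_le_iff_ne_zero.mp (hd k)]
      simp
    · exact h j (Nat.not_odd_iff_even.mp hj) hj0

end Cfsg.Agent.S2583
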