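import Cfsg.Statements.S2584
import Cfsg.Agent.Lib.UnipotentClassical.Criterion


set_option autoImplicit false
open Cfsg

namespace Cfsg.Agent.S2584

/-- Which unipotent Jordan types occur in a finite orthogonal group in characteristic two: over a finite field of characteristic 2 and in even dimension 2m, a unipotent matrix with Jordan block sizes d_1, …, d_t (sum 2m, all at least 1) is similar to an isometry of some quadratic form on F^(2m) with non-degenerate polar form if and only if every odd block size occurs an even number of times (the same condition as for the symplectic group, which contains these orthogonal groups). -/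
theorem result {F : Type*} [Field F] [Fintype F] [CharP F 2] {m t : ℕ} (d : Fin t → ℕ) (hd : ∀ k, 1 ≤ d k) (hsum : ∑ k, d k = 2 * m) : (∃ Q : QuadraticForm F (Fin (2 * m) → F), (QuadraticMap.polarBilin Q).Nondegenerate ∧ ∃ e : ((k : Fin t) × Fin (d k)) ≃ Fin (2 * m), ∃ A : ↥(Cfsg.isometryGroup F ⇑Q), IsConj (Matrix.reindex e e (Cfsg.jordanTypeMatrix d F)) ((A : Matrix.GeneralLinearGroup (Fin (2 * m)) F) : Matrix (Fin (2 * m)) (Fin (2 * m)) F)) ↔ ∀ j : ℕ, Odd j → Even (Finset.univ.filter (fun k : Fin t => d k = j)).card := by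
  have h2 : (2 : F) = 0 := CharTwo.two_eq_zero
  rw [CfsgLib.UnipotentClassical.orthogonal_iff hsum]
  refine ⟨fun h j hj => ?_, fun h => ?_⟩
  · obtain ⟨Q, hQ, hQu⟩ := h
    refine CfsgLib.UnipotentClassical.even_of_hasAlt ⟨QuadraticMap.polarBilin Q, fun v => ?_, hQ,
      fun v w => ?_⟩ hj
    · rw [QuadraticMap.polarBilin_apply_apply, QuadraticMap.polar_self]
      simp [h2]
    · simp only [QuadraticMap.polarBilin_apply_apply, QuadraticMap.polar, ← map_add, hQu]
  · refine CfsgLib.UnipotentClassical.hasQuad_type d (fun j => Even j ∧ 0 < j) (fun j hj => ?_) (fun j hj => ?_)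
    · obtain ⟨⟨i, rfl⟩, hi⟩ := hj
      rw [show i + i = 2 * (i - 1) + 2 by omega]
      exact CfsgLib.UnipotentClassical.hasQuad_even h2 _
    · rcases Nat.eq_zero_or_pos j with rfl | hj0
      · rw [Finset.filter_false_of_mem fun k _ => Nat.one_le_iff_ne_zero.mp (hd k)]
        simp
      · exact h j (Nat.not_even_iff_odd.mp fun he => hj ⟨he, hj0⟩)

end Cfsg.Agent.S2584
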