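import Cfsg.Statements.S2585


set_option autoImplicit false
set_option maxHeartbeats 300000
open Cfsg

namespace Cfsg.Agent.S2585

theorem frobenius_bijective_of_finite {F : Type*} [Field F] [Fintype F] [CharP F 2] :
    Function.Surjective (fun x : F => x ^ 2) :=
  Finite.surjective_of_injective fun x y h => CharTwo.sq_injective h


/-- Over a finite field of characteristic two every element of the symplectic group is orthogonal for a suitable quadratic form: for each A in Sp_2m(F) there is a quadratic form Q on F^(2m) whose polar form is the alternating form defining Sp_2m(F) (so Q is non-degenerate) and which A preserves. Equivalently, for m ≥ 1, Sp_2m(F) is the union of the conjugates of its two orthogonal subgroups O⁺_2m(F) and O⁻_2m(F). -/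
theorem result {F : Type*} [Field F] [Fintype F] [CharP F 2] {m : ℕ} (A : Matrix.symplecticGroup (Fin m) F) : ∃ Q : QuadraticForm F (Fin m ⊕ Fin m → F), (∀ u v : Fin m ⊕ Fin m → F, QuadraticMap.polar ⇑Q u v = Cfsg.sympForm m F u v) ∧ ∀ v : Fin m ⊕ Fin m → F, Q ((A : Matrix (Fin m ⊕ Fin m) (Fin m ⊕ Fin m) F).mulVec v) = Q v := by
  classical
  set M := (A : Matrix (Fin m ⊕ Fin m) (Fin m ⊕ Fin m) F)
  let B₀ : (Fin m ⊕ Fin m → F) →ₗ[F] (Fin m ⊕ Fin m → F) →ₗ[F] F :=
    LinearMap.mk₂ F (fun u v => ∑ i, u (.inl i) * v (.inr i))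
      (fun a b c => by simp [add_mul, Finset.sum_add_distrib]) (fun c a b => by simp [Finset.mul_sum, mul_assoc])
      (fun a b c => by simp [mul_add, Finset.sum_add_distrib]) (fun c a b => by simp [Finset.mul_sum, mul_left_comm])
  let Q₀ : QuadraticForm F (Fin m ⊕ Fin m → F) := LinearMap.BilinMap.toQuadraticMap B₀
  have hform : ∀ u v, Cfsg.sympForm m F u v = ∑ i, u (.inl i) * v (.inr i) + ∑ i, u (.inr i) * v (.inl i) := by
    intro u v
    simp [Cfsg.sympForm, Matrix.J, Matrix.mulVec, dotProduct, Matrix.one_apply, Fintype.sum_sum_type, CharTwo.neg_eq]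
  have hpol : ∀ u v, QuadraticMap.polar ⇑Q₀ u v = Cfsg.sympForm m F u v := by
    intro u v
    rw [hform]
    show QuadraticMap.polar (LinearMap.BilinMap.toQuadraticMap B₀) u v = _
    rw [LinearMap.BilinMap.polar_toQuadraticMap]
    simp only [B₀, LinearMap.mk₂_apply]
    congr 1
    exact Finset.sum_congr rfl fun i _ => mul_comm _ _
  have hinvf : ∀ u v, Cfsg.sympForm m F (M.mulVec u) (M.mulVec v) = Cfsg.sympForm m F u v := by
    intro u v
    have hA : M.transpose * Matrix.J (Fin m) F * M = Matrix.J (Fin m) F := by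
      have := SymplecticGroup.mem_iff'.mp A.2
      exact this
    unfold Cfsg.sympForm
    rw [← Matrix.vecMul_transpose, ← Matrix.dotProduct_mulVec, Matrix.mulVec_mulVec, Matrix.mulVec_mulVec, hA]
  let D : (Fin m ⊕ Fin m → F) → F := fun v => Q₀ (M.mulVec v) + Q₀ v
  have hDadd : ∀ u v, D (u + v) = D u + D v := by
    intro u v
    simp only [D, Matrix.mulVec_add]
    have h1 : Q₀ (M.mulVec u + M.mulVec v) = Q₀ (M.mulVec u) + Q₀ (M.mulVec v) + QuadraticMap.polar ⇑Q₀ (M.mulVec u) (M.mulVec v) :=
      QuadraticMap.map_add Q₀ _ _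
    have h2 : Q₀ (u + v) = Q₀ u + Q₀ v + QuadraticMap.polar ⇑Q₀ u v := QuadraticMap.map_add Q₀ _ _
    rw [h1, h2, hpol, hpol, hinvf]
    linear_combination CharTwo.add_self_eq_zero (Cfsg.sympForm m F u v)
  have hDsmul : ∀ (c : F) u, D (c • u) = c ^ 2 * D u := by
    intro c u
    simp only [D, Matrix.mulVec_smul, QuadraticMap.map_smul, smul_eq_mul]
    ring
  choose a ha using fun j => (frobenius_bijective_of_finite (F := F)) (D (Pi.single j 1))
  let α : (Fin m ⊕ Fin m → F) →ₗ[F] F :=
    { toFun := fun v => ∑ j, v j * a j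
      map_add' := fun u v => by simp [add_mul, Finset.sum_add_distrib]
      map_smul' := fun c v => by simp [Finset.mul_sum, mul_assoc, mul_add] }
  have hα : ∀ v, D v = α v ^ 2 := by
    intro v
    let Dh : (Fin m ⊕ Fin m → F) →+ F := AddMonoidHom.mk' D hDadd
    have hv : v = ∑ j, v j • Pi.single j (1 : F) := pi_eq_sum_univ' v
    have hexp : D v = ∑ j, D (v j • Pi.single j (1 : F)) := by
      have h1 := map_sum Dh (fun j => v j • Pi.single j (1 : F)) Finset.univ
      rw [← hv] at h1
      exact h1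
    rw [hexp]
    refine Eq.trans ?_ (CharTwo.sum_sq Finset.univ fun j => v j * a j).symm
    refine Finset.sum_congr rfl fun j _ => ?_
    rw [hDsmul, ← ha j]
    exact (mul_pow _ _ 2).symm
  let f : (Fin m ⊕ Fin m → F) →ₗ[F] (Fin m ⊕ Fin m → F) := M.mulVecLin + LinearMap.id
  have hmem : α ∈ LinearMap.range f.dualMap := by
    rw [LinearMap.range_dualMap_eq_dualAnnihilator_ker, Submodule.mem_dualAnnihilator]
    intro v hv
    have hv' : M.mulVec v + v = 0 := hv
    have hMv : M.mulVec v = v := by
      funext i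
      have := congrFun hv' i
      rw [Pi.add_apply, Pi.zero_apply] at this
      exact CharTwo.add_eq_zero.mp this
    have : α v ^ 2 = 0 := by
      rw [← hα]
      simp only [D, hMv, CharTwo.add_self_eq_zero]
    exact pow_eq_zero_iff two_ne_zero |>.mp this
  obtain ⟨β, hβ⟩ := hmem
  refine ⟨Q₀ + QuadraticMap.linMulLin β β, ?_, ?_⟩
  · intro u v
    show QuadraticMap.polar (⇑Q₀ + ⇑(QuadraticMap.linMulLin β β)) u v = _
    rw [QuadraticMap.polar_add, hpol]
    simp only [QuadraticMap.polar, QuadraticMap.linMulLin_apply, map_add]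
    linear_combination (β u * β v) * (CharTwo.two_eq_zero : (2 : F) = 0)
  · intro v
    simp only [_root_.QuadraticMap.add_apply, QuadraticMap.linMulLin_apply]
    have h1 : β (M.mulVec v) + β v = α v := by
      rw [← hβ, LinearMap.dualMap_apply]
      simp [f]
    have h2 : Q₀ (M.mulVec v) + Q₀ v = α v ^ 2 := hα v
    linear_combination h2 + (β (M.mulVec v) + β v + α v) * h1 - (Q₀ v + β v * β v + α v * α v * 0 + β (M.mulVec v) * β v) * (CharTwo.two_eq_zero : (2 : F) = 0) + (α v ^ 2) * (CharTwo.two_eq_zero : (2:F) = 0)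

end Cfsg.Agent.S2585
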