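import Cfsg.Statements.S2588
import Cfsg.Agent.Lib.Conj.Unitary


set_option autoImplicit false
open Cfsg

namespace Cfsg.Agent.S2588

/-- An invertible matrix A over the field with q² elements is conjugate in GL_n(q²) to an element of the general unitary group GU_n(q) (isometries of the Hermitian form Σ u_i v_i^q) if and only if A is similar to the inverse transpose of its entrywise q-th power (A ~ A^(−qT), the image of A under the map sending a matrix to the inverse transpose of its entrywise q-th power — inverse transpose composed with the field automorphism — whose fixed points form GU_n(q)). -/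
theorem result {K : Type*} [Field K] [Fintype K] {q n : ℕ} (hK : Fintype.card K = q ^ 2) (A : GL (Fin n) K) : (∃ B : ↥(Cfsg.GU n K q), IsConj A (B : GL (Fin n) K)) ↔ IsConj (A : Matrix (Fin n) (Fin n) K) (((A : Matrix (Fin n) (Fin n) K).map (fun x : K => x ^ q)).transpose)⁻¹ := by
  obtain ⟨φ, hφq, hφ, hw⟩ := CfsgLib.Conj.exists_frob hK
  set M := (A : Matrix (Fin n) (Fin n) K)
  have hD : ((M.map (fun x : K => x ^ q)).transpose) = CfsgLib.Conj.conjT φ M := by
    ext i j; simp [CfsgLib.Conj.conjT, hφq]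
  rw [hD]
  have hdet : IsUnit (CfsgLib.Conj.conjT φ M).det :=
    (Matrix.isUnit_iff_isUnit_det _).mp (isUnit_iff_exists.mpr ⟨CfsgLib.Conj.conjT φ ↑A⁻¹,
      by rw [← CfsgLib.Conj.conjT_mul, ← Units.val_mul, inv_mul_cancel, Units.val_one, CfsgLib.Conj.conjT_one],
      CfsgLib.Conj.conjT_units φ A⟩)
  constructor
  · rintro ⟨B, hB⟩
    obtain ⟨h, hh⟩ := isConj_iff.mp hB
    have hB' := (CfsgLib.Conj.mem_GU_iff φ hφq hφ _).mp B.2
    -- the form `h* h` is preserved by `A`
    let H : (Matrix (Fin n) (Fin n) K)ˣ := (⟨CfsgLib.Conj.conjT φ ↑h, CfsgLib.Conj.conjT φ ↑h⁻¹,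
      by rw [← CfsgLib.Conj.conjT_mul, ← Units.val_mul, inv_mul_cancel, Units.val_one, CfsgLib.Conj.conjT_one],
      CfsgLib.Conj.conjT_units φ h⟩ : (Matrix (Fin n) (Fin n) K)ˣ) * h
    refine ⟨H, ?_⟩
    show (H : Matrix (Fin n) (Fin n) K) * M = (CfsgLib.Conj.conjT φ M)⁻¹ * H
    have hh' : (h : Matrix (Fin n) (Fin n) K) * M = (B : GL (Fin n) K) * h := by
      have : h * A = B * h := by rw [← hh]; group
      exact congrArg Units.val this
    have key : CfsgLib.Conj.conjT φ M * ((H : Matrix (Fin n) (Fin n) K) * M) = H := by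
      show CfsgLib.Conj.conjT φ M * (CfsgLib.Conj.conjT φ (h : Matrix (Fin n) (Fin n) K) * (h : Matrix (Fin n) (Fin n) K) * M) = CfsgLib.Conj.conjT φ (h : Matrix (Fin n) (Fin n) K) * (h : Matrix (Fin n) (Fin n) K)
      rw [mul_assoc (CfsgLib.Conj.conjT φ (h : Matrix (Fin n) (Fin n) K)), hh', ← mul_assoc, ← CfsgLib.Conj.conjT_mul, hh', CfsgLib.Conj.conjT_mul,
        mul_assoc, ← mul_assoc (CfsgLib.Conj.conjT φ _) _ (h : Matrix (Fin n) (Fin n) K), hB', one_mul]
    calc (H : Matrix (Fin n) (Fin n) K) * M = (CfsgLib.Conj.conjT φ M)⁻¹ * (CfsgLib.Conj.conjT φ M * ((H : Matrix (Fin n) (Fin n) K) * M)) := by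
          rw [← mul_assoc (CfsgLib.Conj.conjT φ M)⁻¹, Matrix.nonsing_inv_mul _ hdet, one_mul]
      _ = _ := by rw [key]
  · rintro ⟨S, hS⟩
    have hS' : CfsgLib.Conj.conjT φ M * (S : Matrix (Fin n) (Fin n) K) * M = S := by
      rw [mul_assoc, hS.eq, ← mul_assoc, Matrix.mul_nonsing_inv _ hdet, one_mul]
    obtain ⟨g, hg⟩ := CfsgLib.Conj.exists_unitary_similar φ hφ hw A S hS'
    exact ⟨⟨g * A * g⁻¹, (CfsgLib.Conj.mem_GU_iff φ hφq hφ _).mpr hg⟩, isConj_iff.mpr ⟨g, rfl⟩⟩

end Cfsg.Agent.S2588
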