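import Cfsg.Statements.S2590
import Cfsg.Agent.Lib.FormsConj.Eigen

set_option autoImplicit false
open Cfsg Matrix

namespace Cfsg.Agent.S2590

/-- Two semisimple elements of odd order of a finite orthogonal group (isometry group of a quadratic form on F^n with non-degenerate polar form, F finite of characteristic p; the elements have odd order prime to p) are conjugate in the orthogonal group if and only if they are conjugate in GL_n(F). -/
theorem result {F : Type*} [Field F] [Fintype F] {p : ℕ} [Fact p.Prime] [CharP F p] {n : ℕ} (Q : QuadraticForm F (Fin n → F)) (hQ : (QuadraticMap.polarBilin Q).Nondegenerate) (A B : ↥(Cfsg.isometryGroup F ⇑Q)) (hodd : Odd (orderOf A)) (hA : (orderOf A).Coprime p) : IsConj A B ↔ IsConj ((A : Matrix.GeneralLinearGroup (Fin n) F) : Matrix (Fin n) (Fin n) F) ((B : Matrix.GeneralLinearGroup (Fin n) F) : Matrix (Fin n) (Fin n) F) := by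
  refine ⟨fun h => MonoidHom.map_isConj ((Units.coeHom _).comp (Subgroup.subtype _)) h, ?_⟩
  rintro ⟨c, hc⟩
  have hca : c.1 * (A : GL (Fin n) F).1 = (B : GL (Fin n) F).1 * c.1 := hc
  have hN : ((orderOf A : ℕ) : F) ≠ 0 := by
    rw [Ne, CharP.cast_eq_zero_iff F p]
    exact fun hd => (Fact.out : p.Prime).ne_one (Nat.Coprime.eq_one_of_dvd hA.symm hd)
  let V := Fin n → F
  let a : Module.End F V := Matrix.toLinAlgEquiv' (A : GL (Fin n) F).1
  let b : Module.End F V := Matrix.toLinAlgEquiv' (B : GL (Fin n) F).1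
  have ha : a ^ orderOf A = 1 := by
    rw [← map_pow, ← Units.val_pow_eq_pow_val, ← SubmonoidClass.coe_pow, pow_orderOf_eq_one, OneMemClass.coe_one,
      Units.val_one, map_one]
  let g : V ≃ₗ[F] V := LinearMap.GeneralLinearGroup.toLinearEquiv (Units.map Matrix.toLinAlgEquiv'.toMonoidHom c)
  have hg : ∀ v, g v = c.1 *ᵥ v := fun v => rfl
  have hga : ∀ v, g (a v) = b (g v) := fun v => by
    show c.1 *ᵥ ((A : GL (Fin n) F).1 *ᵥ v) = (B : GL (Fin n) F).1 *ᵥ (c.1 *ᵥ v)
    rw [Matrix.mulVec_mulVec, Matrix.mulVec_mulVec, hca]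
  obtain ⟨h, hh, hha⟩ := CfsgLib.FormsConj.exists_quad_conj Q hQ a b hN hodd ha (fun v => A.2 v v) (fun v => B.2 v v) g hga
  let U := (LinearMap.GeneralLinearGroup.generalLinearEquiv F V).symm h
  let M : GL (Fin n) F := Matrix.GeneralLinearGroup.toLin.symm U
  have hM : ∀ v, M.1 *ᵥ v = h v := fun v => by
    have : Matrix.toLinAlgEquiv' M.1 = U.1 := congrArg Units.val (Matrix.GeneralLinearGroup.toLin.apply_symm_apply U)
    exact LinearMap.congr_fun this v
  refine isConj_iff.mpr ⟨⟨M, fun u _ => (congrArg Q (hM u)).trans (hh u)⟩, ?_⟩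
  rw [mul_inv_eq_iff_eq_mul]
  refine Subtype.ext (Units.ext (Matrix.toLin'.injective (LinearMap.ext fun v => ?_)))
  simp only [Subgroup.coe_mul, Units.val_mul, Matrix.toLin'_apply, ← Matrix.mulVec_mulVec, hM]
  exact hha v

end Cfsg.Agent.S2590
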