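import Cfsg.Statements.S2591
import Cfsg.Agent.Lib.SympUnip.Norm
import Cfsg.Agent.Lib.SympUnip.Exists
import Cfsg.Agent.Lib.InvolCount.Basic

set_option autoImplicit false
open Cfsg

namespace Cfsg.Agent.S2591

/-- Over a finite field of odd order and for m ≥ 1, the regular unipotent elements of Sp_2m(F) (u − 1 nilpotent of rank 2m − 1, a single Jordan block) form exactly two conjugacy classes of Sp_2m(F) (one class under the similarity group, which splits in two). -/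
theorem result {F : Type*} [Field F] [Fintype F] {q : ℕ} (hF : Fintype.card F = q) (hq : Odd q) {m : ℕ} (hm : 1 ≤ m) : Nat.card {C : ConjClasses ↥(Matrix.symplecticGroup (Fin m) F) // ∃ u : Matrix.symplecticGroup (Fin m) F, ConjClasses.mk u = C ∧ ((u : Matrix (Fin m ⊕ Fin m) (Fin m ⊕ Fin m) F) - 1) ^ (2 * m) = 0 ∧ ((u : Matrix (Fin m ⊕ Fin m) (Fin m ⊕ Fin m) F) - 1).rank = 2 * m - 1} = 2 := by
  have h2 : (2 : F) ≠ 0 := Ring.two_ne_zero fun h => by
    rw [FiniteField.even_card_iff_char_two, hF] at h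
    exact Nat.not_even_iff_odd.mpr hq (Nat.even_iff.mpr h)
  obtain ⟨c, hc⟩ := FiniteField.exists_nonsquare (F := F) (fun h => h2 (by
    have := ringChar.spec F 2
    rw [h] at this
    exact_mod_cast this.mpr dvd_rfl))
  classical
  obtain ⟨U, hU⟩ := CfsgLib.SympUnip.exists_regUnip (F := F) hm h2
  let P : Matrix.symplecticGroup (Fin m) F → Prop := fun u =>
    ((u : Matrix (Fin m ⊕ Fin m) (Fin m ⊕ Fin m) F) - 1) ^ (2 * m) = 0 ∧
      ((u : Matrix (Fin m ⊕ Fin m) (Fin m ⊕ Fin m) F) - 1).rank = 2 * m - 1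
  have hP : ∀ u : Matrix.symplecticGroup (Fin m) F, P u → CfsgLib.SympUnip.IsRegUnip u.1 := fun u h =>
    ⟨u.2, by rw [CfsgLib.SympUnip.card_index]; exact h.1, by rw [CfsgLib.SympUnip.card_index]; exact h.2,
      by rw [CfsgLib.SympUnip.card_index]; omega⟩
  have hc0 : c ≠ 0 := fun h0 => hc ⟨0, by rw [h0, mul_zero]⟩
  obtain ⟨g₁, hg₁⟩ := CfsgLib.SympUnip.isUnit_simMat (m := m) hc0
  have hsim : CfsgLib.SympUnip.sadj (g₁ : CfsgLib.SympUnip.SMat m F) * g₁ = c • 1 := by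
    rw [hg₁, CfsgLib.SympUnip.sadj_simMat]
  have hadjinv : ∀ (g : (CfsgLib.SympUnip.SMat m F)ˣ) (k : F), k ≠ 0 →
      CfsgLib.SympUnip.sadj (g : CfsgLib.SympUnip.SMat m F) * g = k • 1 →
      CfsgLib.SympUnip.sadj ((g⁻¹ : (CfsgLib.SympUnip.SMat m F)ˣ) : CfsgLib.SympUnip.SMat m F) *
        ((g⁻¹ : (CfsgLib.SympUnip.SMat m F)ˣ) : CfsgLib.SympUnip.SMat m F) = k⁻¹ • 1 := by
    intro g k hk h
    have h1 : CfsgLib.SympUnip.sadj (g : CfsgLib.SympUnip.SMat m F) = k • ((g⁻¹ : (CfsgLib.SympUnip.SMat m F)ˣ) : CfsgLib.SympUnip.SMat m F) := by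
      rw [← mul_one (CfsgLib.SympUnip.sadj (g : CfsgLib.SympUnip.SMat m F)), ← Units.mul_inv g, ← mul_assoc, h,
        smul_one_mul]
    have h3 := congrArg CfsgLib.SympUnip.sadj h1
    rw [CfsgLib.SympUnip.sadj_sadj, CfsgLib.SympUnip.sadj_smul] at h3
    have h4 : CfsgLib.SympUnip.sadj ((g⁻¹ : (CfsgLib.SympUnip.SMat m F)ˣ) : CfsgLib.SympUnip.SMat m F) =
        k⁻¹ • (g : CfsgLib.SympUnip.SMat m F) := by rw [h3, smul_smul, inv_mul_cancel₀ hk, one_smul]
    rw [h4, smul_mul_assoc, Units.mul_inv]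
  -- the second representative
  let U₁ : CfsgLib.SympUnip.SMat m F := g₁ * U * ((g₁⁻¹ : (CfsgLib.SympUnip.SMat m F)ˣ) : CfsgLib.SympUnip.SMat m F)
  have hU₁m : U₁ ∈ Matrix.symplecticGroup (Fin m) F := by
    have h1 := hadjinv g₁ c hc0 hsim
    rw [CfsgLib.SympUnip.mem_iff_sadj]
    show CfsgLib.SympUnip.sadj U₁ * U₁ = 1
    simp only [U₁, CfsgLib.SympUnip.sadj_mul, mul_assoc]
    rw [← mul_assoc (CfsgLib.SympUnip.sadj (g₁ : CfsgLib.SympUnip.SMat m F)), hsim, smul_one_mul, mul_smul_comm,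
      ← mul_assoc (CfsgLib.SympUnip.sadj U), hU.sadj_mul_self, one_mul, mul_smul_comm, h1, smul_smul,
      mul_inv_cancel₀ hc0, one_smul]
  let u₀ : Matrix.symplecticGroup (Fin m) F := ⟨U, hU.mem⟩
  let u₁ : Matrix.symplecticGroup (Fin m) F := ⟨U₁, hU₁m⟩
  have hP₀ : P u₀ := ⟨by rw [← CfsgLib.SympUnip.card_index]; exact hU.reg.pow_card,
    by rw [← CfsgLib.SympUnip.card_index]; exact hU.reg.rank_eq⟩
  have hU1sub : U₁ - 1 = g₁ * (U - 1) * ((g₁⁻¹ : (CfsgLib.SympUnip.SMat m F)ˣ) : CfsgLib.SympUnip.SMat m F) := by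
    rw [mul_sub, sub_mul, mul_one, Units.mul_inv]
  have hP₁ : P u₁ := by
    refine ⟨?_, ?_⟩
    · show (U₁ - 1) ^ (2 * m) = 0
      rw [hU1sub, Units.conj_pow, show (U - 1) ^ (2 * m) = 0 from hP₀.1, mul_zero, zero_mul]
    · show (U₁ - 1).rank = _
      rw [hU1sub, Matrix.rank_mul_eq_left_of_isUnit_det _ _ ((Matrix.isUnit_iff_isUnit_det _).mp g₁⁻¹.isUnit),
        Matrix.rank_mul_eq_right_of_isUnit_det _ _ ((Matrix.isUnit_iff_isUnit_det _).mp g₁.isUnit)]
      exact hP₀.2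
  refine (CfsgLib.InvolCount.card_classes_of_reps P ![u₀, u₁] (fun i => ?_) (fun i j h => ?_) (fun u hu => ?_)).trans
    (Nat.card_fin 2)
  · fin_cases i
    · exact hP₀
    · exact hP₁
  · have hno : ¬ IsConj u₀ u₁ := by
      intro hconj
      obtain ⟨g, hg⟩ := isConj_iff.mp hconj
      rw [mul_inv_eq_iff_eq_mul] at hg
      have hg' : g.1 * U = U₁ * g.1 := congrArg Subtype.val hg
      let y : CfsgLib.SympUnip.SMat m F := ((g⁻¹ : Matrix.symplecticGroup (Fin m) F) : CfsgLib.SympUnip.SMat m F) * g₁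
      have hgi : ((g⁻¹ : Matrix.symplecticGroup (Fin m) F) : CfsgLib.SympUnip.SMat m F) * g.1 = 1 := by
        rw [← Submonoid.coe_mul, inv_mul_cancel]; rfl
      have hgi' : g.1 * ((g⁻¹ : Matrix.symplecticGroup (Fin m) F) : CfsgLib.SympUnip.SMat m F) = 1 := by
        rw [← Submonoid.coe_mul, mul_inv_cancel]; rfl
      have hy : y ∈ CfsgLib.SympUnip.commutant (U - 1) := by
        rw [CfsgLib.SympUnip.mem_commutant, sub_mul, mul_sub, one_mul, mul_one, sub_left_inj]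
        calc U * y = ((g⁻¹ : Matrix.symplecticGroup (Fin m) F) : CfsgLib.SympUnip.SMat m F) * (g.1 * U) * y := by
              rw [← mul_assoc _ g.1, hgi, one_mul]
          _ = ((g⁻¹ : Matrix.symplecticGroup (Fin m) F) : CfsgLib.SympUnip.SMat m F) * U₁ *
              (g.1 * ((g⁻¹ : Matrix.symplecticGroup (Fin m) F) : CfsgLib.SympUnip.SMat m F)) * g₁ := by
              rw [hg']; simp only [y, mul_assoc]
          _ = y * U := by
              rw [hgi', mul_one]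
              simp only [y, U₁, mul_assoc, Units.inv_mul, mul_one]
      refine hU.smul_one_ne_norm hc ⟨y, hy⟩ (Subtype.ext ?_)
      show CfsgLib.SympUnip.sadj y * y = c • (1 : CfsgLib.SympUnip.SMat m F)
      simp only [y, CfsgLib.SympUnip.sadj_mul]
      rw [mul_assoc, ← mul_assoc (CfsgLib.SympUnip.sadj ((g⁻¹ : Matrix.symplecticGroup (Fin m) F) : CfsgLib.SympUnip.SMat m F)),
        (CfsgLib.SympUnip.mem_iff_sadj _).mp (g⁻¹).2, one_mul, hsim]
    fin_cases i <;> fin_cases j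
    · rfl
    · exact absurd h hno
    · exact absurd h.symm hno
    · rfl
  · have hur := hP u hu
    obtain ⟨g, hg⟩ := hU.reg.exists_conj hur.reg
    have hg' : (g : CfsgLib.SympUnip.SMat m F) * U = u.1 * g := by
      rw [mul_sub, sub_mul, mul_one, one_mul, sub_left_inj] at hg
      exact hg
    set s := CfsgLib.SympUnip.sadj (g : CfsgLib.SympUnip.SMat m F) * g with hs
    have hsU : s ∈ CfsgLib.SympUnip.commutant (U - 1) := by
      rw [CfsgLib.SympUnip.mem_commutant, sub_mul, mul_sub, one_mul, mul_one, sub_left_inj]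
      have h1 := congrArg CfsgLib.SympUnip.sadj hg'
      rw [CfsgLib.SympUnip.sadj_mul, CfsgLib.SympUnip.sadj_mul] at h1
      calc U * s = U * (CfsgLib.SympUnip.sadj (g : CfsgLib.SympUnip.SMat m F) * CfsgLib.SympUnip.sadj u.1) * u.1 * g := by
            rw [hs, mul_assoc, mul_assoc, mul_assoc, ← mul_assoc (CfsgLib.SympUnip.sadj u.1), hur.sadj_mul_self, one_mul]
        _ = (U * CfsgLib.SympUnip.sadj U) * CfsgLib.SympUnip.sadj (g : CfsgLib.SympUnip.SMat m F) * (u.1 * g) := by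
            rw [← h1]; simp only [mul_assoc]
        _ = s * U := by
            rw [hU.self_mul_sadj, one_mul, ← hg', hs, mul_assoc]
    have hsu : IsUnit (⟨s, hsU⟩ : CfsgLib.SympUnip.commutant (U - 1)) := by
      obtain ⟨v, hv⟩ := hU.reg.exists_cyclic
      rw [hU.isUnit_iff hv, CfsgLib.SympUnip.mem_nonUnits]
      have hadj : IsUnit (CfsgLib.SympUnip.sadj (g : CfsgLib.SympUnip.SMat m F)) :=
        .of_mul_eq_one (CfsgLib.SympUnip.sadj ((g⁻¹ : (CfsgLib.SympUnip.SMat m F)ˣ) : CfsgLib.SympUnip.SMat m F))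
          (by rw [← CfsgLib.SympUnip.sadj_mul, Units.inv_mul, CfsgLib.SympUnip.sadj_one])
      obtain ⟨S, hS⟩ : IsUnit s := hadj.mul g.isUnit
      rintro ⟨w, hw⟩
      apply hv
      have hcomm : Commute ((S⁻¹ : (CfsgLib.SympUnip.SMat m F)ˣ) : CfsgLib.SympUnip.SMat m F) (U - 1) :=
        Commute.units_inv_left (show Commute (S : CfsgLib.SympUnip.SMat m F) (U - 1) by
          rw [hS]; exact (CfsgLib.SympUnip.mem_commutant.mp hsU).symm)
      refine ⟨((S⁻¹ : (CfsgLib.SympUnip.SMat m F)ˣ) : CfsgLib.SympUnip.SMat m F).mulVec w, ?_⟩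
      rw [Matrix.mulVecLin_apply] at hw ⊢
      have hw' : (U - 1).mulVec w = (S : CfsgLib.SympUnip.SMat m F).mulVec v := by rw [hS]; exact hw
      rw [Matrix.mulVec_mulVec, ← hcomm.eq, ← Matrix.mulVec_mulVec, hw', Matrix.mulVec_mulVec, Units.inv_mul,
        Matrix.one_mulVec]
    have hsfix : hU.sigma ⟨s, hsU⟩ = ⟨s, hsU⟩ := Subtype.ext (by
      show CfsgLib.SympUnip.sadj s = s
      rw [hs, CfsgLib.SympUnip.sadj_mul, CfsgLib.SympUnip.sadj_sadj])
    obtain ⟨y, ⟨y, rfl⟩, hy⟩ := (hU.exists_norm_facts h2 hc).2 _ hsu hsfix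
    let Y : (CfsgLib.SympUnip.SMat m F)ˣ := Units.map (CfsgLib.SympUnip.commutant (U - 1)).val.toMonoidHom y
    have hYU : U * (Y : CfsgLib.SympUnip.SMat m F) = Y * U := by
      have := CfsgLib.SympUnip.mem_commutant.mp y.1.2
      rw [sub_mul, mul_sub, one_mul, mul_one, sub_left_inj] at this
      exact this
    -- a symplectic conjugating matrix
    have key : ∀ (g₀ : (CfsgLib.SympUnip.SMat m F)ˣ) (V : CfsgLib.SympUnip.SMat m F) (k : F), k ≠ 0 →
        CfsgLib.SympUnip.sadj (g₀ : CfsgLib.SympUnip.SMat m F) * g₀ = k • 1 →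
        (g₀ : CfsgLib.SympUnip.SMat m F) * U = V * g₀ →
        k • (CfsgLib.SympUnip.sadj (Y : CfsgLib.SympUnip.SMat m F) * Y) = s →
        ∀ hV : V ∈ Matrix.symplecticGroup (Fin m) F, IsConj ⟨V, hV⟩ u := by
      intro g₀ V k hk h0 hV0 hks hV
      let h : (CfsgLib.SympUnip.SMat m F)ˣ := g * Y⁻¹ * g₀⁻¹
      have hh : CfsgLib.SympUnip.sadj (h : CfsgLib.SympUnip.SMat m F) * h = 1 := by
        have h5 : CfsgLib.SympUnip.sadj ((Y⁻¹ : (CfsgLib.SympUnip.SMat m F)ˣ) : CfsgLib.SympUnip.SMat m F) *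
            CfsgLib.SympUnip.sadj (Y : CfsgLib.SympUnip.SMat m F) = 1 := by
          rw [← CfsgLib.SympUnip.sadj_mul, Units.mul_inv, CfsgLib.SympUnip.sadj_one]
        simp only [h, Units.val_mul, CfsgLib.SympUnip.sadj_mul, mul_assoc]
        rw [← mul_assoc (CfsgLib.SympUnip.sadj (g : CfsgLib.SympUnip.SMat m F)), ← hs, ← hks, smul_mul_assoc,
          mul_assoc (CfsgLib.SympUnip.sadj (Y : CfsgLib.SympUnip.SMat m F)), ← mul_assoc (Y : CfsgLib.SympUnip.SMat m F),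
          Units.mul_inv, one_mul, mul_smul_comm, ← mul_assoc (CfsgLib.SympUnip.sadj ((Y⁻¹ : (CfsgLib.SympUnip.SMat m F)ˣ) : CfsgLib.SympUnip.SMat m F)),
          h5, one_mul, mul_smul_comm, hadjinv g₀ k hk h0, smul_smul, mul_inv_cancel₀ hk, one_smul]
      refine isConj_iff.mpr ⟨⟨h.1, (CfsgLib.SympUnip.mem_iff_sadj _).mpr hh⟩, ?_⟩
      rw [mul_inv_eq_iff_eq_mul]
      refine Subtype.ext ?_
      show (h : CfsgLib.SympUnip.SMat m F) * V = u.1 * h
      have e1 : ((g₀⁻¹ : (CfsgLib.SympUnip.SMat m F)ˣ) : CfsgLib.SympUnip.SMat m F) * V = U * (g₀⁻¹ : (CfsgLib.SympUnip.SMat m F)ˣ) := by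
        rw [Units.inv_mul_eq_iff_eq_mul, ← mul_assoc, hV0, mul_assoc, Units.mul_inv, mul_one]
      have e2 : ((Y⁻¹ : (CfsgLib.SympUnip.SMat m F)ˣ) : CfsgLib.SympUnip.SMat m F) * U = U * (Y⁻¹ : (CfsgLib.SympUnip.SMat m F)ˣ) :=
        (Commute.units_inv_left (show Commute (Y : CfsgLib.SympUnip.SMat m F) U from hYU.symm)).eq
      simp only [h, Units.val_mul, mul_assoc]
      rw [e1, ← mul_assoc ((Y⁻¹ : (CfsgLib.SympUnip.SMat m F)ˣ) : CfsgLib.SympUnip.SMat m F), e2, mul_assoc,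
        ← mul_assoc (g : CfsgLib.SympUnip.SMat m F), hg', mul_assoc]
    rcases hy with hy | hy
    · refine ⟨0, key 1 U 1 one_ne_zero (by rw [Units.val_one, CfsgLib.SympUnip.sadj_one, one_mul, one_smul])
        (by rw [Units.val_one, one_mul, mul_one]) ?_ hU.mem⟩
      rw [one_smul]
      exact congrArg Subtype.val hy
    · refine ⟨1, key g₁ U₁ c hc0 hsim ?_ (congrArg Subtype.val hy) hU₁m⟩
      simp only [U₁, mul_assoc, Units.inv_mul, mul_one]

end Cfsg.Agent.S2591
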