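import Cfsg.Statements.S2592
import Cfsg.Agent.Lib.SympUnip.Norm

set_option autoImplicit false
open Cfsg

namespace Cfsg.Agent.S2592

/-- Over a finite field with q elements, q odd, the centraliser in Sp_2m(F) (m ≥ 1) of a regular unipotent element (u − 1 nilpotent of rank 2m − 1) has order 2 q^m. -/
theorem result {F : Type*} [Field F] [Fintype F] {q : ℕ} (hF : Fintype.card F = q) (hq : Odd q) {m : ℕ} (hm : 1 ≤ m) (u : Matrix.symplecticGroup (Fin m) F) (hnil : ((u : Matrix (Fin m ⊕ Fin m) (Fin m ⊕ Fin m) F) - 1) ^ (2 * m) = 0) (hreg : ((u : Matrix (Fin m ⊕ Fin m) (Fin m ⊕ Fin m) F) - 1).rank = 2 * m - 1) : Nat.card ↥(Subgroup.centralizer ({u} : Set ↥(Matrix.symplecticGroup (Fin m) F))) = 2 * q ^ m := by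
  have h2 : (2 : F) ≠ 0 := Ring.two_ne_zero fun h => by
    rw [FiniteField.even_card_iff_char_two, hF] at h
    exact Nat.not_even_iff_odd.mpr hq (Nat.even_iff.mpr h)
  obtain ⟨c, hc⟩ := FiniteField.exists_nonsquare (F := F) (fun h => h2 (by
    have := ringChar.spec F 2
    rw [h] at this
    exact_mod_cast this.mpr dvd_rfl))
  have hreg : CfsgLib.SympUnip.IsRegUnip u.1 :=
    ⟨u.2, by rw [CfsgLib.SympUnip.card_index]; exact hnil, by rw [CfsgLib.SympUnip.card_index]; exact hreg,
      by rw [CfsgLib.SympUnip.card_index]; omega⟩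
  rw [← hF, ← (hreg.exists_norm_facts h2 hc).1]
  refine Nat.card_congr
    { toFun := fun g => ⟨⟨g.1.1, CfsgLib.SympUnip.mem_commutant.mpr ?_⟩, Subtype.ext ?_⟩
      invFun := fun x => ⟨⟨x.1.1, (CfsgLib.SympUnip.mem_iff_sadj _).mpr (congrArg Subtype.val x.2)⟩, ?_⟩
      left_inv := fun g => Subtype.ext (Subtype.ext rfl)
      right_inv := fun x => rfl }
  · have h := congrArg Subtype.val (Subgroup.mem_centralizer_singleton_iff.mp g.2)
    simp only [Submonoid.coe_mul] at h
    rw [sub_mul, mul_sub, one_mul, mul_one, h]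
  · exact (CfsgLib.SympUnip.mem_iff_sadj _).mp g.1.2
  · refine Subgroup.mem_centralizer_singleton_iff.mpr (Subtype.ext ?_)
    have h := CfsgLib.SympUnip.mem_commutant.mp x.1.2
    rw [sub_mul, mul_sub, one_mul, mul_one, sub_left_inj] at h
    simp only [Submonoid.coe_mul]
    exact h.symm

end Cfsg.Agent.S2592
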