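import Cfsg.Statements.S2593
import Cfsg.Agent.Lib.SympGeom.Basic
import Cfsg.Agent.Lib.InvolCount.Basic
import Cfsg.Agent.Lib.InvolCount.Reps

set_option autoImplicit false
open Cfsg Matrix

namespace Cfsg.Agent.S2593

/-- Number of conjugacy classes of involutions in the symplectic group Sp_2m(F) over a finite field of characteristic two (m ≥ 1): for each s with 1 ≤ s ≤ m there is one class with rank(t − 1) = s if s is odd and two if s is even (according as v ↦ f(v, tv), f the symplectic form, vanishes identically or not), so m + ⌊m/2⌋ classes in all. -/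
theorem result {F : Type*} [Field F] [Fintype F] [CharP F 2] {m : ℕ} (hm : 1 ≤ m) : Nat.card {C : ConjClasses ↥(Matrix.symplecticGroup (Fin m) F) // ∃ g : Matrix.symplecticGroup (Fin m) F, ConjClasses.mk g = C ∧ orderOf g = 2} = m + m / 2 := by
  classical
  refine CfsgLib.InvolCount.card_involution_classes (Submonoid.subtype _) (CfsgLib.SympGeom.sympBilin m F)
    (fun g u v => CfsgLib.Linear.Symp.form_mulVec g.2 u v) Subtype.val_injective
    CfsgLib.SympGeom.sympBilin_nondeg CfsgLib.SympGeom.sympBilin_alt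
    (by simp [two_mul]) (fun a b ha hb hr halt => ?_) (fun a ha _ => ?_) (fun s hs hsm => ?_) (fun j hj hjk => ?_)
  · obtain ⟨g, hg, hgab⟩ := CfsgLib.InvolCount.exists_conj_alt (CfsgLib.SympGeom.sympBilin m F)
      CfsgLib.SympGeom.sympBilin_nondeg CfsgLib.SympGeom.sympBilin_alt _ _
      (CfsgLib.InvolCount.toLin_apply_twice _ ha) (CfsgLib.InvolCount.toLin_apply_twice _ hb)
      (fun u v => CfsgLib.Linear.Symp.form_mulVec a.2 u v) (fun u v => CfsgLib.Linear.Symp.form_mulVec b.2 u v)
      hr halt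
    obtain ⟨M, hM⟩ := CfsgLib.SympGeom.exists_of_linearEquiv g hg
    refine isConj_iff.mpr ⟨M, ?_⟩
    rw [mul_inv_eq_iff_eq_mul]
    refine Subtype.ext (Matrix.toLin'.injective (LinearMap.ext fun v => ?_))
    simp only [Submonoid.coe_mul, Matrix.toLin'_apply, ← Matrix.mulVec_mulVec, hM]
    exact hgab v
  · have := CfsgLib.InvolCount.finrank_range_le _ (CfsgLib.InvolCount.toLin_apply_twice
      (Submonoid.subtype (Matrix.symplecticGroup (Fin m) F)) ha)
    rw [Module.finrank_fintype_fun_eq_card, Fintype.card_sum, Fintype.card_fin] at this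
    rw [CfsgLib.InvolCount.invRk]
    omega
  · have hQ := CfsgLib.InvolCount.quad_swap (F := F) (m := m) s
    have hsq := CfsgLib.InvolCount.add_one_sq (CfsgLib.InvolCount.swapN_sq (F := F) (m := m) s)
    refine ⟨⟨1 + CfsgLib.InvolCount.swapN m s F, CfsgLib.Linear.Symp.mem_of_form_mulVec fun u v => ?_⟩,
      Subtype.ext hsq, ?_, fun h => CfsgLib.InvolCount.symp_swap_ne_zero (F := F) (s := s) ⟨0, by omega⟩ hs (h _)⟩
    · rw [CfsgLib.InvolCount.sympForm_eq_polar, CfsgLib.InvolCount.sympForm_eq_polar, QuadraticMap.polar,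
        QuadraticMap.polar, ← Matrix.mulVec_add, hQ, hQ, hQ]
    · rw [CfsgLib.InvolCount.invRk_eq]
      show ((1 + CfsgLib.InvolCount.swapN m s F) - 1).rank = s
      rw [add_sub_cancel_left, CfsgLib.InvolCount.rank_swapN hsm]
  · have hQ := CfsgLib.InvolCount.quad_shear (F := F) (m := m) j
    have hsq := CfsgLib.InvolCount.add_one_sq (CfsgLib.InvolCount.shearN_sq (F := F) (m := m) j)
    refine ⟨⟨1 + CfsgLib.InvolCount.shearN m j F, CfsgLib.Linear.Symp.mem_of_form_mulVec fun u v => ?_⟩,
      Subtype.ext hsq, ?_, fun v => CfsgLib.InvolCount.symp_shear_eq_zero j v⟩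
    · rw [CfsgLib.InvolCount.sympForm_eq_polar, CfsgLib.InvolCount.sympForm_eq_polar, QuadraticMap.polar,
        QuadraticMap.polar, ← Matrix.mulVec_add, hQ, hQ, hQ]
    · rw [CfsgLib.InvolCount.invRk_eq]
      show ((1 + CfsgLib.InvolCount.shearN m j F) - 1).rank = 2 * j
      rw [add_sub_cancel_left, CfsgLib.InvolCount.rank_shearN (by omega)]

end Cfsg.Agent.S2593
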