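import Cfsg.Statements.S2594
import Cfsg.Agent.Lib.SympGeom.Basic

set_option autoImplicit false
open Cfsg Matrix

namespace Cfsg.Agent.S2594

/-- Over a finite field with q elements, q even, an element t of Sp_2m(F) with rank(t − 1) = 1 (a symplectic transvection) has centraliser in Sp_2m(F) of order q^(2m−1) · |Sp_(2m−2)(q)| = q^(2m−1) · q^((m−1)²) · Π_(i=1)^(m−1) (q^(2i) − 1). -/
theorem result {F : Type*} [Field F] [Fintype F] [CharP F 2] {q : ℕ} (hF : Fintype.card F = q) {m : ℕ} (hm : 1 ≤ m) (t : Matrix.symplecticGroup (Fin m) F) (ht : ((t : Matrix (Fin m ⊕ Fin m) (Fin m ⊕ Fin m) F) - 1).rank = 1) : Nat.card ↥(Subgroup.centralizer ({t} : Set ↥(Matrix.symplecticGroup (Fin m) F))) = q ^ (2 * m - 1) * (q ^ ((m - 1) ^ 2) * ∏ i : Fin (m - 1), (q ^ (2 * ((i : ℕ) + 1)) - 1)) := by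
  classical
  open CfsgLib.Linear.Symp in
  obtain ⟨v, hv0, c, hc0, rfl⟩ : ∃ v : Fin m ⊕ Fin m → F, v ≠ 0 ∧ ∃ c : F, c ≠ 0 ∧ t = tv v c := by
    set N := ((t : Matrix (Fin m ⊕ Fin m) (Fin m ⊕ Fin m) F) - 1) with hN
    obtain ⟨⟨v, hvR⟩, hv0, hsp⟩ := finrank_eq_one_iff'.mp (ht : Module.finrank F (LinearMap.range N.mulVecLin) = 1)
    have hl : ∀ x, ∃ l : F, N *ᵥ x = l • v := fun x => by
      obtain ⟨l, hl⟩ := hsp ⟨N *ᵥ x, ⟨x, rfl⟩⟩
      exact ⟨l, (congrArg Subtype.val hl).symm⟩
    choose l hl using hl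
    have hv : v ≠ 0 := fun h => hv0 (Subtype.ext h)
    have ht' : ∀ x, t.1 *ᵥ x = x + l x • v := fun x => by
      rw [← hl, hN, Matrix.sub_mulVec, Matrix.one_mulVec]; abel
    obtain ⟨y, hy⟩ := exists_form_ne_zero hv
    have hlin : ∀ x, l x * sympForm m F v y + l y * sympForm m F x v = 0 := fun x => by
      have h := form_mulVec t.2 x y
      simp only [ht', form_add_left, form_add_right, form_smul_left, form_smul_right, form_self] at h
      linear_combination h
    obtain ⟨c, hc⟩ : ∃ c : F, ∀ x, l x = c * sympForm m F x v := ⟨-l y / sympForm m F v y, fun x => by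
      field_simp
      linear_combination hlin x⟩
    refine ⟨v, hv, c, fun h0 => ?_, group_ext fun x => by rw [tv_smul, smul_def, ht', hc]⟩
    obtain ⟨x, hx⟩ := (LinearMap.mem_range.mp hvR)
    exact hv (by rw [← hx, Matrix.mulVecLin_apply, hl, hc, h0, zero_mul, zero_smul])
  let u : CfsgLib.SympGeom.IsoTuple m F 1 := ⟨fun _ => v, LinearIndependent.of_subsingleton 0 hv0,
    fun _ _ => CfsgLib.Linear.Symp.form_self v⟩
  have hC : Subgroup.centralizer ({CfsgLib.Linear.Symp.tv v c} : Set (Matrix.symplecticGroup (Fin m) F)) =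
      CfsgLib.SympGeom.tupleFixer u.1 := by
    ext g
    rw [Subgroup.mem_centralizer_singleton_iff, CfsgLib.SympGeom.mem_tupleFixer]
    constructor
    · intro h i
      show g.1 *ᵥ v = v
      have h' : CfsgLib.Linear.Symp.tv (g • v) c = CfsgLib.Linear.Symp.tv v c := by
        rw [← CfsgLib.Linear.Symp.tv_conj, h, mul_inv_cancel_right]
      have hx : ∀ x, sympForm m F x (g • v) • (g • v) = sympForm m F x v • v := fun x => by
        have h1 := congrArg (fun t => t • x) h'
        simp only [CfsgLib.Linear.Symp.tv_smul, add_right_inj, mul_smul] at h1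
        exact smul_right_injective _ hc0 h1
      have hgv : g • v ≠ 0 := fun h0 => hv0 (MulAction.injective g (h0.trans (smul_zero g).symm))
      obtain ⟨w, hw⟩ := CfsgLib.Linear.Symp.exists_form_ne_zero hgv
      have hw' : sympForm m F w (g • v) ≠ 0 := by
        rw [CfsgLib.Linear.Symp.form_swap]; exact neg_ne_zero.mpr hw
      obtain ⟨μ, hμ⟩ : ∃ μ : F, g • v = μ • v := ⟨_, by rw [mul_smul, ← hx w, inv_smul_smul₀ hw']⟩
      have h2 := hx w
      rw [hμ, CfsgLib.Linear.Symp.form_smul_right, smul_smul] at h2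
      have h3 := smul_left_injective F hv0 h2
      rw [hμ, CfsgLib.Linear.Symp.form_smul_right] at hw'
      have h4 : μ * μ = 1 := mul_right_cancel₀ (right_ne_zero_of_mul hw') (by linear_combination h3)
      rw [← CfsgLib.Linear.Symp.smul_def, hμ]
      rcases mul_self_eq_one_iff.mp h4 with rfl | rfl
      · exact one_smul _ _
      · rw [CharTwo.neg_eq, one_smul]
    · intro h
      have h' : g • v = v := h 0
      have := CfsgLib.Linear.Symp.tv_conj g v c
      rw [h', mul_inv_eq_iff_eq_mul] at this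
      exact this
  rw [hC, CfsgLib.SympGeom.card_tupleFixer hm u, hF]
  congr 1
  · congr 1; omega
  · rw [Finset.prod_range]

end Cfsg.Agent.S2594
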