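import Cfsg.Statements.S2595
import Cfsg.Agent.Lib.InvolCount.Orth
import Cfsg.Agent.Lib.InvolCount.Reps
import Cfsg.Agent.Lib.CharTwoInv.MaxSingular

set_option autoImplicit false
open Cfsg Matrix

namespace Cfsg.Agent.S2595

/-- Number of conjugacy classes of involutions in the full orthogonal group O⁺_2m(F) of the hyperbolic quadratic form Σ x_i y_i over a finite field of characteristic two (m ≥ 1): one class for each odd s ≤ m and two for each even s with 2 ≤ s ≤ m, where s = rank(t − 1); in all m + ⌊m/2⌋. -/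
theorem result {F : Type*} [Field F] [Fintype F] [CharP F 2] {m : ℕ} (hm : 1 ≤ m) : Nat.card {C : ConjClasses ↥(Cfsg.isometryGroup F (Cfsg.quadFormPlus m F)) // ∃ g : ↥(Cfsg.isometryGroup F (Cfsg.quadFormPlus m F)), ConjClasses.mk g = C ∧ orderOf g = 2} = m + m / 2 := by
  classical
  have hc := CfsgLib.CharTwoInv.plusQ_coe (F := F) m
  have hpol : ∀ u v, QuadraticMap.polar (CfsgLib.CharTwoInv.plusQ m F) u v = sympForm m F u v := fun u v => by
    rw [hc, CfsgLib.InvolCount.sympForm_eq_polar]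
  refine CfsgLib.InvolCount.card_orth_classes (CfsgLib.CharTwoInv.plusQ m F) (CfsgLib.CharTwoInv.plusQ_nondeg m)
    _ hc (by simp [two_mul]) (fun L hL => ?_) (fun s hs hsm => ?_) (fun j hj hjk => ?_)
  · have := CfsgLib.CharTwoInv.TotSing.two_mul_le (CfsgLib.CharTwoInv.plusQ_nondeg m) (L := L) hL
    rw [Module.finrank_fintype_fun_eq_card, Fintype.card_sum, Fintype.card_fin] at this
    omega
  · refine ⟨_, CfsgLib.InvolCount.add_one_sq (CfsgLib.InvolCount.swapN_sq s), fun v => ?_,
      by rw [add_sub_cancel_left, CfsgLib.InvolCount.rank_swapN hsm], Pi.single (Sum.inl ⟨0, by omega⟩) 1, ?_⟩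
    · rw [hc]; exact CfsgLib.InvolCount.quad_swap s v
    · rw [hpol]; exact CfsgLib.InvolCount.symp_swap_ne_zero (⟨0, by omega⟩ : Fin m) hs
  · refine ⟨_, CfsgLib.InvolCount.add_one_sq (CfsgLib.InvolCount.shearN_sq j), fun v => ?_,
      by rw [add_sub_cancel_left, CfsgLib.InvolCount.rank_shearN (by omega)], fun v => ?_⟩
    · rw [hc]; exact CfsgLib.InvolCount.quad_shear j v
    · rw [hpol]; exact CfsgLib.InvolCount.symp_shear_eq_zero j v

end Cfsg.Agent.S2595
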