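import Cfsg.Statements.S2596
import Cfsg.Agent.Lib.InvolCount.Orth
import Cfsg.Agent.Lib.InvolCount.Reps
import Cfsg.Agent.Lib.CharTwoInv.MaxSingular
import Cfsg.Agent.Lib.CharTwoInv.MinusIndex

set_option autoImplicit false
open Cfsg Matrix

namespace Cfsg.Agent.S2596

/-- Number of conjugacy classes of involutions in the full orthogonal group O⁻_2m(F) of an elliptic quadratic form (Σ_(i<m−1) x_i y_i plus an anisotropic binary form) over a finite field of characteristic two (m ≥ 1): one class for each odd s ≤ m, two for each even s with 2 ≤ s < m and one for s = m when m is even, where s = rank(t − 1); in all m + ⌊(m − 1)/2⌋. -/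
theorem result {F : Type*} [Field F] [Fintype F] [CharP F 2] {m : ℕ} (hm : 1 ≤ m) (a b : F) (hab : ∀ z₁ z₂ : F, z₁ ^ 2 + a * z₁ * z₂ + b * z₂ ^ 2 = 0 → z₁ = 0 ∧ z₂ = 0) : Nat.card {C : ConjClasses ↥(Cfsg.isometryGroup F (Cfsg.quadFormMinus (m - 1) F a b)) // ∃ g : ↥(Cfsg.isometryGroup F (Cfsg.quadFormMinus (m - 1) F a b)), ConjClasses.mk g = C ∧ orderOf g = 2} = m + (m - 1) / 2 := by
  classical
  obtain ⟨n, rfl⟩ : ∃ n, m = n + 1 := ⟨m - 1, by omega⟩
  simp only [Nat.add_sub_cancel]
  have hc := CfsgLib.CharTwoInv.minusQ_coe (F := F) n a b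
  have ha : a ≠ 0 := by
    rintro rfl
    obtain ⟨s, hs⟩ := FiniteField.isSquare_of_char_two (ringChar.eq F 2) b
    have := hab s 1 (by rw [hs]; linear_combination (s * s) * CharTwo.two_eq_zero (R := F))
    exact one_ne_zero this.2
  let C : Matrix (Fin 2) (Fin 2) F := !![0, a; 0, 0]
  have hC : C * C = 0 := by
    ext i j
    fin_cases i <;> fin_cases j <;> simp [C, Matrix.mul_apply, Fin.sum_univ_two]
  -- lifting from the hyperbolic part
  have hsq : ∀ N : Matrix (Fin n ⊕ Fin n) (Fin n ⊕ Fin n) F, N * N = 0 → ∀ D : Matrix (Fin 2) (Fin 2) F, D * D = 0 →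
      Matrix.fromBlocks N 0 0 D * Matrix.fromBlocks N 0 0 D = 0 := fun N hN D hD => by
    rw [Matrix.fromBlocks_multiply]; simp [hN, hD]
  have hiso : ∀ N : Matrix (Fin n ⊕ Fin n) (Fin n ⊕ Fin n) F,
      (∀ v, quadFormPlus n F ((1 + N) *ᵥ v) = quadFormPlus n F v) → ∀ D, (D = 0 ∨ D = C) → ∀ v,
      CfsgLib.CharTwoInv.minusQ n F a b ((1 + Matrix.fromBlocks N 0 0 D) *ᵥ v) =
        CfsgLib.CharTwoInv.minusQ n F a b v := by
    intro N hN D hD v
    rw [hc, Matrix.add_mulVec, Matrix.one_mulVec, Matrix.fromBlocks_mulVec, quadFormMinus, quadFormMinus]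
    have h1 := hN (v ∘ Sum.inl)
    rw [Matrix.add_mulVec, Matrix.one_mulVec, quadFormPlus, quadFormPlus] at h1
    simp only [Pi.add_apply, Sum.elim_inl, Sum.elim_inr, Matrix.zero_mulVec, add_zero, zero_add, Function.comp_apply] at h1 ⊢
    rw [h1]
    rcases hD with rfl | rfl <;> simp [C, Matrix.mulVec, dotProduct, Fin.sum_univ_two]
    linear_combination (a * v (Sum.inr 1) * v (Sum.inr 0) + a * a * v (Sum.inr 1) ^ 2) * CharTwo.two_eq_zero (R := F)
  have hpol : ∀ (N : Matrix ((Fin n ⊕ Fin n) ⊕ Fin 2) ((Fin n ⊕ Fin n) ⊕ Fin 2) F) (v : (Fin n ⊕ Fin n) ⊕ Fin 2 → F),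
      CfsgLib.CharTwoInv.minusQ n F a b ((1 + N) *ᵥ v) = CfsgLib.CharTwoInv.minusQ n F a b v →
      QuadraticMap.polar (CfsgLib.CharTwoInv.minusQ n F a b) v ((1 + N) *ᵥ v) =
        CfsgLib.CharTwoInv.minusQ n F a b (N *ᵥ v) := fun N v h => by
    rw [QuadraticMap.polar, h, Matrix.add_mulVec, Matrix.one_mulVec, ← add_assoc,
      show v + v = 0 from funext fun i => CharTwo.add_self_eq_zero _, zero_add]
    linear_combination (-(CfsgLib.CharTwoInv.minusQ n F a b v)) * CharTwo.two_eq_zero (R := F)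
  have hrk : ∀ N : Matrix (Fin n ⊕ Fin n) (Fin n ⊕ Fin n) F,
      (Matrix.fromBlocks N (0 : Matrix (Fin n ⊕ Fin n) (Fin 2) F) 0 (0 : Matrix (Fin 2) (Fin 2) F)).rank = N.rank := by
    intro N
    refine le_antisymm (CfsgLib.InvolCount.rank_of_sandwich _ (Matrix.fromRows 1 0) (Matrix.fromCols 1 0) _ ?_)
      (Matrix.rank_submatrix_le (Matrix.fromBlocks N 0 0 0) Sum.inl Sum.inl)
    rw [Matrix.fromRows_mul, one_mul, Matrix.zero_mul, Matrix.fromRows_mul_fromCols]
    simp
  refine CfsgLib.InvolCount.card_orth_classes (CfsgLib.CharTwoInv.minusQ n F a b)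
    (CfsgLib.CharTwoInv.minusQ_nondeg n a b hab) _ hc
    (by simp only [Fintype.card_sum, Fintype.card_fin]; omega)
    (fun L hL => ?_) (fun s hs hsm => ?_) (fun j hj hjk => ?_)
  · have h1 := CfsgLib.CharTwoInv.TotSing.two_mul_le (CfsgLib.CharTwoInv.minusQ_nondeg n a b hab) (L := L) hL
    have h2 := CfsgLib.CharTwoInv.minus_no_max_totSing n a b hab L hL
    rw [Module.finrank_fintype_fun_eq_card, Fintype.card_sum, Fintype.card_sum, Fintype.card_fin,
      Fintype.card_fin] at h1
    omega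
  · rcases hsm.eq_or_lt with rfl | hlt
    · have hN := hiso _ (CfsgLib.InvolCount.quad_swap (F := F) (m := n) n) C (Or.inr rfl)
      have hMM := CfsgLib.InvolCount.add_one_sq (hsq _ (CfsgLib.InvolCount.swapN_sq (F := F) (m := n) n) C hC)
      refine ⟨_, hMM, hN, ?_, Pi.single (Sum.inr 1) 1, ?_⟩
      · rw [add_sub_cancel_left]
        apply le_antisymm
        · have h := CfsgLib.InvolCount.finrank_range_le (F := F) (Matrix.toLinAlgEquiv'
            (1 + Matrix.fromBlocks (CfsgLib.InvolCount.swapN n n F) 0 0 C)) (fun v => by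
              rw [← Module.End.mul_apply, ← map_mul, hMM, map_one, Module.End.one_apply])
          rw [Module.finrank_fintype_fun_eq_card, Fintype.card_sum, Fintype.card_sum, Fintype.card_fin,
            Fintype.card_fin, ← map_one (Matrix.toLinAlgEquiv' (R := F)), ← map_sub, add_sub_cancel_left] at h
          rw [Matrix.rank]
          have h' : 2 * Module.finrank F (LinearMap.range
              (Matrix.fromBlocks (CfsgLib.InvolCount.swapN n n F) 0 0 C).mulVecLin) ≤ n + n + 2 := h
          omega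
        · refine le_of_eq_of_le ?_ (Matrix.rank_submatrix_le
            (Matrix.fromBlocks (CfsgLib.InvolCount.swapN n n F) 0 0 C)
            (Sum.map (Sum.inl : Fin n → Fin n ⊕ Fin n) (fun _ : Fin 1 => (0 : Fin 2)))
            (Sum.map (Sum.inl : Fin n → Fin n ⊕ Fin n) (fun _ : Fin 1 => (1 : Fin 2))))
          rw [show Matrix.submatrix _ _ _ = Matrix.diagonal (Sum.elim (fun _ => (1 : F)) fun _ : Fin 1 => a) from ?_,
            Matrix.rank_diagonal]
          · rw [Fintype.card_congr (Equiv.subtypeUnivEquiv (p := fun i : Fin n ⊕ Fin 1 =>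
              Sum.elim (fun _ => (1 : F)) (fun _ => a) i ≠ 0) fun i => by rcases i with i | i <;> simp [ha])]
            simp
          · ext i j
            rcases i with i | i <;> rcases j with j | j <;>
              simp [CfsgLib.InvolCount.swapN, CfsgLib.InvolCount.projFirst, C, Matrix.diagonal_apply, Matrix.one_apply,
                Fin.fin_one_eq_zero]
      · rw [hpol _ _ (hN _), hc, Matrix.fromBlocks_mulVec, quadFormMinus]
        simp [Matrix.mulVec, dotProduct, Fin.sum_univ_two, C, ha]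
    · have hN := hiso _ (CfsgLib.InvolCount.quad_swap (F := F) (m := n) s) 0 (Or.inl rfl)
      refine ⟨_, CfsgLib.InvolCount.add_one_sq (hsq _ (CfsgLib.InvolCount.swapN_sq s) 0 (mul_zero _)), hN,
        by rw [add_sub_cancel_left, hrk, CfsgLib.InvolCount.rank_swapN (by omega)],
        Pi.single (Sum.inl (Sum.inl ⟨0, by omega⟩)) 1, ?_⟩
      rw [hpol _ _ (hN _), hc, Matrix.fromBlocks_mulVec, quadFormMinus]
      simp only [Sum.elim_inl, Sum.elim_inr, Matrix.zero_mulVec, add_zero, zero_add,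
        CfsgLib.InvolCount.swapN_mulVec, Function.comp_apply]
      rw [Finset.sum_eq_single ⟨0, by omega⟩ (fun i _ hi => by simp [Ne.symm hi]) (by simp)]
      simp [show 0 < s from hs]
  · have hN := hiso _ (CfsgLib.InvolCount.quad_shear (F := F) (m := n) j) 0 (Or.inl rfl)
    refine ⟨_, CfsgLib.InvolCount.add_one_sq (hsq _ (CfsgLib.InvolCount.shearN_sq j) 0 (mul_zero _)), hN,
      by rw [add_sub_cancel_left, hrk, CfsgLib.InvolCount.rank_shearN (by omega)], fun v => ?_⟩
    rw [hpol _ _ (hN _), hc, Matrix.fromBlocks_mulVec, quadFormMinus]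
    simp [CfsgLib.InvolCount.shearN_mulVec]

end Cfsg.Agent.S2596
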