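import Cfsg.Statements.S2597
import Cfsg.Agent.Lib.InvolCount.Omega
import Cfsg.Agent.Lib.InvolCount.Reps
import Cfsg.Agent.Lib.CharTwoInv.MaxSingular

set_option autoImplicit false
open Cfsg Matrix

namespace Cfsg.Agent.S2597

/-- Number of conjugacy classes of involutions in Ω⁺_2m(F) (the commutator subgroup of the orthogonal group of Σ x_i y_i) over a finite field F of characteristic two, m ≥ 1, excluding the case m = 2 over the field of two elements: the involutions of Ω are those with s = rank(t − 1) even, giving two O-classes for each even s with 2 ≤ s ≤ m, each of which is a single Ω-class except that for m even the class with s = m and v ↦ f(v, tv) identically zero splits in two; in all 2⌊m/2⌋ + 1 classes if m is even and 2⌊m/2⌋ if m is odd. -/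
theorem result {F : Type*} [Field F] [Fintype F] [CharP F 2] {m : ℕ} (hm : 1 ≤ m) (h : Fintype.card F ≠ 2 ∨ m ≠ 2) : Nat.card {C : ConjClasses ↥(Cfsg.Omega F (Cfsg.quadFormPlus m F)) // ∃ g : ↥(Cfsg.Omega F (Cfsg.quadFormPlus m F)), ConjClasses.mk g = C ∧ orderOf g = 2} = 2 * (m / 2) + (if Even m then 1 else 0) := by
  classical
  have hc := CfsgLib.CharTwoInv.plusQ_coe (F := F) m
  have hpol : ∀ u v, QuadraticMap.polar (CfsgLib.CharTwoInv.plusQ m F) u v = sympForm m F u v := fun u v => by
    rw [hc, CfsgLib.InvolCount.sympForm_eq_polar]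
  have hgen : Subgroup.closure (CfsgLib.Orth.reflSet (CfsgLib.CharTwoInv.plusQ m F)) = ⊤ :=
    CfsgLib.Orth.closure_refl_of (fun x hx => (CfsgLib.CharTwoInv.plusQ_nondeg m).1 x hx) <| by
      rcases h with h | h
      · exact Or.inl (CfsgLib.Orth.exists_ne_zero_ne_one_of_card h)
      · refine Or.inr (Or.inl ?_)
        rw [Module.finrank_fintype_fun_eq_card, Fintype.card_sum, Fintype.card_fin]
        omega
  have hfin : m / 2 + m / 2 + (if 2 * (m / 2) = m then 1 else 0) = 2 * (m / 2) + (if Even m then 1 else 0) := by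
    simp only [Nat.even_iff]
    split_ifs <;> omega
  rw [← hfin]
  refine CfsgLib.InvolCount.card_omega_classes (CfsgLib.CharTwoInv.plusQ_nondeg m) hgen
    _ hc hm (by simp [two_mul]) (by omega) (fun L hL => ?_) (fun s hs hsm => ?_) (fun j hj hjk => ?_)
  · have := CfsgLib.CharTwoInv.TotSing.two_mul_le (CfsgLib.CharTwoInv.plusQ_nondeg m) (L := L) hL
    rw [Module.finrank_fintype_fun_eq_card, Fintype.card_sum, Fintype.card_fin] at this
    omega
  · refine ⟨_, CfsgLib.InvolCount.add_one_sq (CfsgLib.InvolCount.swapN_sq s), fun v => ?_,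
      by rw [add_sub_cancel_left, CfsgLib.InvolCount.rank_swapN hsm], Pi.single (Sum.inl ⟨0, by omega⟩) 1, ?_⟩
    · rw [hc]; exact CfsgLib.InvolCount.quad_swap s v
    · rw [hpol]; exact CfsgLib.InvolCount.symp_swap_ne_zero (⟨0, by omega⟩ : Fin m) hs
  · refine ⟨_, CfsgLib.InvolCount.add_one_sq (CfsgLib.InvolCount.shearN_sq j), fun v => ?_,
      by rw [add_sub_cancel_left, CfsgLib.InvolCount.rank_shearN (by omega)], fun v => ?_⟩
    · rw [hc]; exact CfsgLib.InvolCount.quad_shear j v
    · rw [hpol]; exact CfsgLib.InvolCount.symp_shear_eq_zero j v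

end Cfsg.Agent.S2597
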