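import Cfsg.Statements.S2599


set_option autoImplicit false
open Cfsg

namespace Cfsg.Agent.S2599

/-- An irreducible invariant subspace of a semisimple isometry is non-degenerate or totally singular: let Q be a quadratic form on F^n (F finite of characteristic p) with non-degenerate polar form f, x an isometry of Q of order prime to p, and U a non-zero x-invariant subspace containing no x-invariant subspace other than 0 and U. Then U meets its f-orthogonal trivially, or Q vanishes on U, or p = 2, U is a line spanned by a non-singular vector and x fixes U pointwise. -/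
theorem result {F : Type*} [Field F] [Fintype F] {p : ℕ} [Fact p.Prime] [CharP F p] {n : ℕ} (Q : QuadraticForm F (Fin n → F)) (hQ : (QuadraticMap.polarBilin Q).Nondegenerate) (x : ↥(Cfsg.isometryGroup F ⇑Q)) (hx : (orderOf x).Coprime p) (U : Submodule F (Fin n → F)) (hU0 : U ≠ ⊥) (hUx : ∀ u ∈ U, ((x : Matrix.GeneralLinearGroup (Fin n) F) : Matrix (Fin n) (Fin n) F).mulVec u ∈ U) (hirr : ∀ W : Submodule F (Fin n → F), W ≤ U → (∀ w ∈ W, ((x : Matrix.GeneralLinearGroup (Fin n) F) : Matrix (Fin n) (Fin n) F).mulVec w ∈ W) → W = ⊥ ∨ W = U) : U ⊓ LinearMap.BilinForm.orthogonal (QuadraticMap.polarBilin Q) U = ⊥ ∨ (∀ u ∈ U, Q u = 0) ∨ (p = 2 ∧ Module.finrank F U = 1 ∧ (∃ u ∈ U, Q u ≠ 0) ∧ ∀ u ∈ U, ((x : Matrix.GeneralLinearGroup (Fin n) F) : Matrix (Fin n) (Fin n) F).mulVec u = u) := by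
  classical
  set M : Matrix (Fin n) (Fin n) F := ((x : Matrix.GeneralLinearGroup (Fin n) F) : Matrix (Fin n) (Fin n) F) with hM
  have hinv : ∀ v, Q (M.mulVec v) = Q v := fun v => x.2 v v
  have hpol : ∀ u v, QuadraticMap.polarBilin Q (M.mulVec u) (M.mulVec v) = QuadraticMap.polarBilin Q u v := by
    intro u v
    simp only [QuadraticMap.polarBilin_apply_apply, QuadraticMap.polar, ← Matrix.mulVec_add, hinv]
  have hMinj : Function.Injective M.mulVec :=
    Matrix.mulVec_injective_iff_isUnit.mpr ⟨(x : Matrix.GeneralLinearGroup (Fin n) F), rfl⟩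
  -- M maps U onto U
  have hsurj : ∀ u ∈ U, ∃ u' ∈ U, M.mulVec u' = u := by
    have hle : U.map M.mulVecLin ≤ U := by
      rintro _ ⟨w, hw, rfl⟩; exact hUx w hw
    have heq : U.map M.mulVecLin = U := by
      apply Submodule.eq_of_le_of_finrank_eq hle
      exact (Submodule.equivMapOfInjective M.mulVecLin hMinj U).finrank_eq.symm
    intro u hu
    rw [← heq] at hu
    obtain ⟨w, hw, rfl⟩ := hu
    exact ⟨w, hw, rfl⟩
  rcases hirr (U ⊓ LinearMap.BilinForm.orthogonal (QuadraticMap.polarBilin Q) U) inf_le_left (by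
    intro w hw
    obtain ⟨hwU, hwo⟩ := Submodule.mem_inf.mp hw
    refine Submodule.mem_inf.mpr ⟨hUx w hwU, ?_⟩
    rw [LinearMap.BilinForm.mem_orthogonal_iff] at hwo ⊢
    intro u hu
    obtain ⟨u', hu', rfl⟩ := hsurj u hu
    have h := hwo u' hu'
    show QuadraticMap.polarBilin Q (M.mulVec u') (M.mulVec w) = 0
    rw [hpol]
    exact h) with h0 | hU
  · exact Or.inl h0
  have htot : ∀ u ∈ U, ∀ v ∈ U, Q (u + v) = Q u + Q v := by
    intro u hu v hv
    have hv' : v ∈ LinearMap.BilinForm.orthogonal (QuadraticMap.polarBilin Q) U := by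
      rw [← hU] at hv; exact (Submodule.mem_inf.mp hv).2
    have := LinearMap.BilinForm.mem_orthogonal_iff.mp hv' u hu
    simp only [QuadraticMap.polarBilin_apply_apply, QuadraticMap.polar] at this
    linear_combination this
  let W : Submodule F (Fin n → F) :=
    { carrier := {u | u ∈ U ∧ Q u = 0}
      zero_mem' := ⟨U.zero_mem, by simp⟩
      add_mem' := fun {a b} ha hb => ⟨U.add_mem ha.1 hb.1, by rw [htot a ha.1 b hb.1, ha.2, hb.2, add_zero]⟩
      smul_mem' := fun c a ha => ⟨U.smul_mem c ha.1, by rw [QuadraticMap.map_smul, ha.2, smul_zero]⟩ }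
  rcases hirr W (fun u hu => hu.1) (fun w hw => ⟨hUx w hw.1, by rw [hinv]; exact hw.2⟩) with hW | hW
  swap
  · exact Or.inr (Or.inl fun u hu => by rw [← hW] at hu; exact hu.2)
  obtain ⟨u₀, hu₀, hu₀0⟩ := Submodule.exists_mem_ne_zero_of_ne_bot hU0
  have hker : ∀ u ∈ U, Q u = 0 → u = 0 := fun u hu hq => by
    have : u ∈ W := ⟨hu, hq⟩
    rw [hW] at this
    simpa using this
  have hQ0 : Q u₀ ≠ 0 := fun h => hu₀0 (hker _ hu₀ h)
  have h22 : (2 : F) * Q u₀ = 0 := by
    have h1 := htot u₀ hu₀ u₀ hu₀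
    rw [← two_smul F u₀, QuadraticMap.map_smul, smul_eq_mul] at h1
    linear_combination h1
  have hp2' : (2 : F) = 0 := (mul_eq_zero.mp h22).resolve_right hQ0
  have hp2 : p = 2 := by
    have : ((2 : ℕ) : F) = 0 := by exact_mod_cast hp2'
    rw [CharP.cast_eq_zero_iff F p] at this
    exact (Nat.prime_dvd_prime_iff_eq Fact.out Nat.prime_two).mp this
  subst hp2
  have hfix : ∀ u ∈ U, M.mulVec u = u := by
    intro u hu
    rw [← sub_eq_zero]
    apply hker _ (U.sub_mem (hUx u hu) hu)
    have := htot (M.mulVec u - u) (U.sub_mem (hUx u hu) hu) u hu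
    rw [sub_add_cancel, hinv] at this
    linear_combination -this
  refine Or.inr (Or.inr ⟨rfl, ?_, ⟨u₀, hu₀, hQ0⟩, hfix⟩)
  rcases hirr (Submodule.span F {u₀}) ((Submodule.span_singleton_le_iff_mem _ _).mpr hu₀) (by
    intro w hw
    rw [hfix w ((Submodule.span_singleton_le_iff_mem _ _).mpr hu₀ hw)]
    exact hw) with hs | hs
  · simp [hu₀0] at hs
  · rw [← hs]
    exact finrank_span_singleton hu₀0

end Cfsg.Agent.S2599
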