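import Cfsg.Statements.S2603
import Cfsg.Agent.Lib.AutPSU.Central

set_option autoImplicit false
open Cfsg CfsgLib.AutPSU

namespace Cfsg.Agent.S2603

theorem ringAut_isCyclic {F : Type*} [Field F] [Fintype F] : IsCyclic (F ≃+* F) := by
  obtain ⟨c, hc⟩ := CharP.exists F
  haveI := hc
  haveI : Fact c.Prime := ⟨CharP.char_is_prime F c⟩
  letI : Algebra (ZMod c) F := ZMod.algebra _ _
  obtain ⟨_, hbij⟩ := FiniteField.bijective_frobeniusAlgEquivOfAlgebraic_pow (ZMod c) F
  refine ⟨⟨(FiniteField.frobeniusAlgEquivOfAlgebraic (ZMod c) F).toRingEquiv, fun σ => ?_⟩⟩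
  obtain ⟨⟨k, _⟩, hk⟩ := hbij (AlgEquiv.ofRingEquiv (f := σ)
      (fun x => by rw [← ZMod.natCast_zmod_val x, map_natCast, map_natCast]))
  refine ⟨(k : ℤ), ?_⟩
  show (FiniteField.frobeniusAlgEquivOfAlgebraic (ZMod c) F).toRingEquiv ^ (k : ℤ) = σ
  rw [zpow_natCast]
  let ρ : (F ≃ₐ[ZMod c] F) →* (F ≃+* F) :=
    { toFun := fun e => e.toRingEquiv, map_one' := rfl, map_mul' := fun _ _ => rfl }
  have h := congrArg ρ hk
  rw [map_pow] at h
  exact h

/-- Structure of the outer automorphism group of PSU_n(q), n ≥ 3, (n, q) ≠ (3, 2), q = p^f, realised over the field with q² elements: it has a normal cyclic subgroup of order gcd(n, q + 1) (diagonal automorphisms) with cyclic quotient of order 2f (generated by the Frobenius field automorphism of the field with q² elements, whose f-th power is the graph automorphism). -/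
theorem result {K : Type*} [Field K] [Fintype K] {p f q n : ℕ} [Fact p.Prime] (hf : 1 ≤ f) (hq : q = p ^ f) (hK : Fintype.card K = q ^ 2) (hn : 3 ≤ n) (h32 : ¬ (n = 3 ∧ q = 2)) : ∃ φ : Cfsg.Out (Cfsg.PSU n K q) →* Multiplicative (ZMod (2 * f)), Function.Surjective φ ∧ IsCyclic φ.ker ∧ Nat.card φ.ker = Nat.gcd n (q + 1) := by
  classical
  have hq' : Fintype.card K = p ^ (2 * f) := by rw [hK, hq, ← pow_mul, mul_comm]
  choose γ σ hdec using aut_decomposition (n := n) hK hn h32
  -- the field part of an automorphism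
  have hσ : ∀ (g : GUg n K q) (τ : K ≃+* K), σ (simAut g * fieldAut τ) = τ := fun g τ =>
    ((semilinear_inj hK hn h32 (hdec (simAut g * fieldAut τ))).2).symm
  let θ : MulAut (Cfsg.PSU n K q) →* (K ≃+* K) := MonoidHom.mk' σ fun a b => by
    have e : a * b = simAut (γ a * guMap (σ a) (γ b)) * fieldAut (σ a * σ b) := by
      conv_lhs => rw [hdec a, hdec b]
      rw [map_mul, map_mul, mul_assoc (simAut (γ a)), ← mul_assoc (fieldAut (σ a)), fieldAut_simAut]
      simp [mul_assoc]
    rw [e, hσ]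
  have hθ1 : ∀ g : GUg n K q, θ (simAut g) = 1 := fun g => by
    have := hσ g 1
    rw [map_one, mul_one] at this
    exact this
  have hinn : Cfsg.Inn (Cfsg.PSU n K q) ≤ θ.ker := fun β hβ => by
    obtain ⟨g, rfl⟩ := inn_le hβ
    exact hθ1 g
  haveI := ringAut_isCyclic (F := K)
  have hcardK : Nat.card (K ≃+* K) = 2 * f := CfsgLib.AutPSL.card_ringAut hq'
  let e : (K ≃+* K) ≃* Multiplicative (ZMod (2 * f)) :=
    (zmodCyclicMulEquiv (inferInstance : IsCyclic (K ≃+* K))).symm.trans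
      (AddEquiv.toMultiplicative (hcardK ▸ AddEquiv.refl _ :
        ZMod (Nat.card (K ≃+* K)) ≃+ ZMod (2 * f)))
  let θ' : Cfsg.Out (Cfsg.PSU n K q) →* (K ≃+* K) := QuotientGroup.lift _ θ hinn
  have hθ' : Function.Surjective θ' := fun τ =>
    ⟨QuotientGroup.mk (fieldAut τ), by
      show θ (fieldAut τ) = τ
      have := hσ 1 τ
      rwa [map_one, one_mul] at this⟩
  refine ⟨e.toMonoidHom.comp θ', e.surjective.comp hθ', ?_⟩
  have hk : (e.toMonoidHom.comp θ').ker = θ'.ker := by
    ext x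
    simp [MonoidHom.mem_ker]
  rw [hk]
  -- the diagonal automorphisms
  let π : GUg n K q →* Cfsg.Out (Cfsg.PSU n K q) :=
    (QuotientGroup.mk' (Cfsg.Inn (Cfsg.PSU n K q))).comp simAut
  have hrange : π.range = θ'.ker := by
    apply le_antisymm
    · rintro _ ⟨g, rfl⟩
      exact MonoidHom.mem_ker.2 (hθ1 g)
    · intro x hx
      obtain ⟨β, rfl⟩ := QuotientGroup.mk_surjective x
      have h1 : σ β = 1 := MonoidHom.mem_ker.1 hx
      refine ⟨γ β, ?_⟩
      show QuotientGroup.mk (simAut (γ β)) = _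
      conv_rhs => rw [hdec β, h1, map_one, mul_one]
  have hker : ∀ g, detN hK g = 1 → π g = 1 := by
    intro g hg
    obtain ⟨s, rfl⟩ := exists_suGU hK hg
    show QuotientGroup.mk (simAut (suGU s)) = 1
    rw [QuotientGroup.eq_one_iff, simAut_suGU]
    exact ⟨_, rfl⟩
  refine ⟨?_, ?_⟩
  · rw [← hrange]
    obtain ⟨u, hu⟩ := IsCyclic.exists_generator (α := ↥(CfsgLib.AutPSU.NormOne K q))
    obtain ⟨g0, hg0⟩ := detN_surjective (n := n) hK (by omega) u
    refine ⟨⟨⟨π g0, g0, rfl⟩, ?_⟩⟩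
    rintro ⟨_, g, rfl⟩
    obtain ⟨k, hk⟩ := Subgroup.mem_zpowers_iff.1 (hu (detN hK g))
    refine Subgroup.mem_zpowers_iff.2 ⟨k, Subtype.ext ?_⟩
    show (π g0) ^ k = π g
    have h1 : π (g * (g0 ^ k)⁻¹) = 1 := hker _ (by
      rw [map_mul, map_inv, map_zpow, hg0, hk, mul_inv_cancel])
    rw [map_mul, map_inv, mul_inv_eq_one] at h1
    rw [h1, map_zpow]
  · have hInn : Nat.card ↥(Cfsg.Inn (Cfsg.PSU n K q)) = Nat.card (Cfsg.PSU n K q) := by
      symm
      refine Nat.card_congr (MonoidHom.ofInjective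
        (f := (MulAut.conj : Cfsg.PSU n K q →* MulAut (Cfsg.PSU n K q))) ?_).toEquiv
      rw [injective_iff_map_eq_one]
      intro z hz
      obtain ⟨s, rfl⟩ := QuotientGroup.mk_surjective z
      rw [← simAut_suGU, simAut_eq_one_iff hK hn h32] at hz
      obtain ⟨a, ha⟩ := hz
      rw [suGU_coe] at ha
      rw [QuotientGroup.eq_one_iff, Subgroup.mem_center_iff]
      intro t
      refine su_ext ?_
      rw [sMat_mul, sMat_mul, ha]
      simp
    have h1 := Subgroup.card_eq_card_quotient_mul_card_subgroup θ'.ker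
    rw [Nat.card_congr (QuotientGroup.quotientKerEquivOfSurjective θ' hθ').toEquiv, hcardK] at h1
    have h2 := Subgroup.card_eq_card_quotient_mul_card_subgroup (Cfsg.Inn (Cfsg.PSU n K q))
    rw [card_aut p f hq hK hn h32, hInn] at h2
    have hpos : 0 < Nat.card (Cfsg.PSU n K q) := Nat.card_pos
    have h3 := Nat.eq_of_mul_eq_mul_right hpos h2
    rw [h1, mul_comm (Nat.gcd n (q + 1))] at h3
    exact (Nat.eq_of_mul_eq_mul_left (by omega) h3).symm

end Cfsg.Agent.S2603
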