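import Cfsg.Statements.S2606
import Cfsg.Agent.Lib.AutPOmega.OutMinus

set_option autoImplicit false
open Cfsg

namespace Cfsg.Agent.S2606

/-- Outer automorphism group of PΩ⁻_2m(q), m ≥ 4, q = p^f odd: it is dihedral of order 8 times cyclic of order f when q ≡ 3 (mod 4) and m is odd, and otherwise the direct product of a group of order 2 with a cyclic group of order 2f. -/
theorem result {F : Type*} [Field F] [Fintype F] {p f m : ℕ} [Fact p.Prime] (hf : 1 ≤ f) (hF : Fintype.card F = p ^ f) (hp : p ≠ 2) (hm : 4 ≤ m) (a b : F) (hab : ∀ z₁ z₂ : F, z₁ ^ 2 + a * z₁ * z₂ + b * z₂ ^ 2 = 0 → z₁ = 0 ∧ z₂ = 0) : if p ^ f % 4 = 3 ∧ Odd m then Nonempty (Cfsg.Out (Cfsg.POmega F (Cfsg.quadFormMinus (m - 1) F a b)) ≃* DihedralGroup 4 × Multiplicative (ZMod f)) else Nonempty (Cfsg.Out (Cfsg.POmega F (Cfsg.quadFormMinus (m - 1) F a b)) ≃* Multiplicative (ZMod 2 × ZMod (2 * f))) := by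
  haveI : CharP F p := charP_of_card_eq_prime_pow hF
  obtain ⟨h4, h2⟩ := CfsgLib.AutPOmega.out_minus_odd p f hF hp hab (m - 1) (by omega)
  rw [Nat.sub_add_cancel (by omega : 1 ≤ m), Nat.card_eq_fintype_card, hF] at h4 h2
  have hodd : Odd (p ^ f) := ((Fact.out : p.Prime).odd_of_ne_two hp).pow
  have hgcd : ∀ x : ℕ, Nat.gcd 4 (x + 1) = Nat.gcd 4 ((x % 4 + 1) % 4) := fun x => by
    rw [Nat.gcd_rec 4 (x + 1), Nat.gcd_comm, Nat.add_mod]
  split_ifs with h
  · refine h4 ?_ ?_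
    · rw [hgcd, Nat.pow_mod, h.1]
      obtain ⟨k, rfl⟩ := h.2
      rw [pow_succ, pow_mul, Nat.mul_mod, Nat.pow_mod]
      norm_num
    · by_contra hf'
      obtain ⟨k, rfl⟩ := Nat.not_odd_iff_even.1 hf'
      have hk : Odd (p ^ k) := ((Fact.out : p.Prime).odd_of_ne_two hp).pow
      obtain ⟨l, hl⟩ := hk
      have h1 := h.1
      rw [pow_add, hl] at h1
      ring_nf at h1
      omega
  · refine h2 ?_
    have h1 : (p ^ f) ^ m % 4 = 1 := by
      rcases Nat.odd_mod_four_iff.1 (Nat.odd_iff.1 hodd) with h1 | h1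
      · simp [Nat.pow_mod, h1]
      · obtain ⟨k, rfl⟩ := Nat.not_odd_iff_even.1 fun hm' => h ⟨h1, hm'⟩
        rw [← two_mul, pow_mul, Nat.pow_mod, pow_two, Nat.mul_mod, h1]
        norm_num
    rw [hgcd, h1]
    rfl

end Cfsg.Agent.S2606
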