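import Cfsg.Statements.S2609
import Cfsg.Agent.Lib.Orth.Spinor


set_option autoImplicit false
set_option maxHeartbeats 300000
open Cfsg

namespace Cfsg.Agent.S2609

open CfsgLib.OrthSpinor in
open Classical in
theorem exists_prod {F : Type*} [Field F] [Fintype F] (h2 : (2 : F) ≠ 0) {n : ℕ}
    (Q : QuadraticForm F (Fin n → F)) (vs : List (Fin n → F)) (hvs : ∀ v ∈ vs, Q v ≠ 0) :
    ∃ h : ↥(Cfsg.isometryGroup F ⇑Q),
      ((h : Matrix.GeneralLinearGroup (Fin n) F) : Matrix (Fin n) (Fin n) F) = (vs.map (fun v => Cfsg.reflectionMatrix ⇑Q v)).prod ∧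
      detHom h = (-1 : Fˣ) ^ vs.length ∧
      theta (Q := Q) 1 h * (-1) ^ vs.length = if IsSquare (vs.map (fun v => Q v)).prod then 1 else -1 := by
  classical
  induction vs with
  | nil => exact ⟨1, by simp, by simp, by simp⟩
  | cons v vs ih =>
    obtain ⟨h, hm, hd, ht⟩ := ih fun w hw => hvs w (List.mem_cons_of_mem _ hw)
    have hv : Q v ≠ 0 := hvs v (List.mem_cons_self ..)
    refine ⟨reflection hv * h, ?_, ?_, ?_⟩
    · rw [List.map_cons, List.prod_cons, ← hm]; rfl
    · rw [map_mul, detHom_reflection, hd, List.length_cons, pow_succ']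
    · rw [map_mul, theta_reflection h2 one_ne_zero hv, one_mul, List.map_cons, List.prod_cons, List.length_cons, pow_succ']
      set P := (vs.map (fun v => Q v)).prod
      have hP : P ≠ 0 := List.prod_ne_zero (by
        intro hmem
        obtain ⟨w, hw, hw0⟩ := List.mem_map.mp hmem
        exact hvs w (List.mem_cons_of_mem _ hw) hw0)
      have hcomb : ∀ (r : ℤˣ), r * theta (Q := Q) 1 h * (-1 * (-1) ^ vs.length) = -r * (theta (Q := Q) 1 h * (-1) ^ vs.length) := by
        intro r; simp only [neg_mul, one_mul, mul_neg, mul_assoc]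
      rw [hcomb, ht]
      by_cases hs : IsSquare (Q v)
      · have : IsSquare (Q v * P) ↔ IsSquare P := ⟨fun e => by
          obtain ⟨s, hs⟩ := hs
          rw [hs, mul_comm] at e
          exact (isSquare_mul_right_iff (left_ne_zero_of_mul (hs ▸ hv))).mp e, fun e => hs.mul e⟩
        simp [hs, this]
      · have : IsSquare (Q v * P) ↔ ¬ IsSquare P := ⟨fun e e' => hs (by
          obtain ⟨s, hsP⟩ := e'
          rw [hsP] at e
          exact (isSquare_mul_right_iff (left_ne_zero_of_mul (hsP ▸ hP))).mp e),
          fun e => isSquare_mul_of_not hs e⟩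
        by_cases hPs : IsSquare P <;> simp [hs, this, hPs]


/-- Spinor norm criterion for Ω over a finite field of odd order: let Q be a quadratic form on F^n, n ≥ 2, with non-degenerate polar form, and let g be an isometry written as a product of reflections in non-singular vectors v_1, …, v_k. Then g lies in Ω (the commutator subgroup of the orthogonal group) if and only if k is even and Q(v_1)⋯Q(v_k) is a square; in particular, for g of determinant one, whether that product is a square does not depend on the chosen factorisation (it is the spinor norm of g). -/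
theorem result {F : Type*} [Field F] [Fintype F] (h2 : (2 : F) ≠ 0) {n : ℕ} (hn : 2 ≤ n) (Q : QuadraticForm F (Fin n → F)) (hQ : (QuadraticMap.polarBilin Q).Nondegenerate) (g : ↥(Cfsg.isometryGroup F ⇑Q)) (vs : List (Fin n → F)) (hvs : ∀ v ∈ vs, Q v ≠ 0) (hg : ((g : Matrix.GeneralLinearGroup (Fin n) F) : Matrix (Fin n) (Fin n) F) = (vs.map (fun v => Cfsg.reflectionMatrix ⇑Q v)).prod) : g ∈ Cfsg.Omega F ⇑Q ↔ (Even vs.length ∧ IsSquare (vs.map (fun v => Q v)).prod) := by
  classical
  obtain ⟨h, hh, hd, ht⟩ := exists_prod h2 Q vs hvs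
  have hgh : g = h := CfsgLib.OrthSpinor.eq_of_matrix Q (hg.trans hh.symm)
  subst hgh
  rw [CfsgLib.OrthSpinor.mem_Omega_iff h2 hQ (by rwa [Fintype.card_fin]) (one_ne_zero : (1 : F) ≠ 0) g, hd]
  have h1 : (-1 : Fˣ) ≠ 1 := fun e => h2 (by
    have := congrArg Units.val e
    rw [Units.val_neg, Units.val_one] at this
    linear_combination -this)
  have hev : (-1 : Fˣ) ^ vs.length = 1 ↔ Even vs.length := by
    rcases Nat.even_or_odd vs.length with he | ho
    · simp [he.neg_one_pow, he]
    · simp [ho.neg_one_pow, h1, Nat.not_even_iff_odd.mpr ho]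
  rw [hev]
  refine and_congr_right fun he => ?_
  rw [he.neg_one_pow, mul_one] at ht
  rw [ht]
  split <;> simp_all

end Cfsg.Agent.S2609
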