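import Cfsg.Statements.S2610
import Cfsg.Agent.S2609
import Cfsg.Agent.Lib.FormsDisc.Basic


set_option autoImplicit false
set_option maxHeartbeats 300000
open Cfsg
open scoped Matrix

namespace Cfsg.Agent.S2610

/-- For a quadratic form Q on F^n with non-degenerate polar form, F finite of odd order and n ≥ 2 even, the isometry −1 lies in Ω (the commutator subgroup of the orthogonal group) if and only if the discriminant of Q (the determinant of the Gram matrix of its polar form) is a square. -/
theorem result {F : Type*} [Field F] [Fintype F] (h2 : (2 : F) ≠ 0) {n : ℕ} (hn : 2 ≤ n) (he : Even n) (Q : QuadraticForm F (Fin n → F)) (hQ : (QuadraticMap.polarBilin Q).Nondegenerate) : (∃ g : ↥(Cfsg.isometryGroup F ⇑Q), g ∈ Cfsg.Omega F ⇑Q ∧ ((g : Matrix.GeneralLinearGroup (Fin n) F) : Matrix (Fin n) (Fin n) F) = -1) ↔ IsSquare (Matrix.of (fun i j : Fin n => QuadraticMap.polar ⇑Q (Pi.single i 1) (Pi.single j 1))).det := by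
  classical
  obtain ⟨b, hb, hbn⟩ := CfsgLib.OrthSpinor.exists_orthogonalBasis h2 hQ
  set L := (List.finRange (Fintype.card (Fin n))).map b
  obtain ⟨h, hh, hd, -⟩ := S2609.exists_prod h2 Q L (by
    intro v hv; obtain ⟨i, -, rfl⟩ := List.mem_map.mp hv; exact hbn i)
  have hlen : L.length = n := by simp [L]
  have hprod : ∀ (l : List (Fin (Fintype.card (Fin n)))) , l.Nodup → ∀ j,
      ((l.map b).map (fun v => Cfsg.reflectionMatrix ⇑Q v)).prod.mulVec (b j) = if j ∈ l then -b j else b j := by
    intro l hl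
    induction l with
    | nil => intro j; simp
    | cons i l ih =>
      intro j
      obtain ⟨hil, hl'⟩ := List.nodup_cons.mp hl
      rw [List.map_cons, List.map_cons, List.prod_cons, ← Matrix.mulVec_mulVec, ih hl' j]
      by_cases hji : j = i
      · subst hji
        rw [if_neg hil, if_pos (List.mem_cons_self ..)]
        exact CfsgLib.OrthSpinor.reflection_formula (hbn j)
      · have hfix : Cfsg.reflectionMatrix ⇑Q (b i) *ᵥ b j = b j := by
          rw [CfsgLib.OrthSpinor.reflectionMatrix_mulVec, hb i j (Ne.symm hji)]; simp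
        by_cases hjl : j ∈ l
        · rw [if_pos hjl, if_pos (List.mem_cons_of_mem _ hjl), Matrix.mulVec_neg, hfix]
        · rw [if_neg hjl, if_neg (by simp [hji, hjl]), hfix]
  have hneg : (L.map (fun v => Cfsg.reflectionMatrix ⇑Q v)).prod = (-1 : Matrix (Fin n) (Fin n) F) := by
    apply Matrix.toLin'.injective
    refine b.ext fun j => ?_
    rw [Matrix.toLin'_apply, Matrix.toLin'_apply, hprod _ (List.nodup_finRange _) j, if_pos (List.mem_finRange j),
      Matrix.neg_mulVec, Matrix.one_mulVec]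
  have hiff : (∃ g : ↥(Cfsg.isometryGroup F ⇑Q), g ∈ Cfsg.Omega F ⇑Q ∧ ((g : Matrix.GeneralLinearGroup (Fin n) F) : Matrix (Fin n) (Fin n) F) = -1) ↔ IsSquare (L.map (fun v => Q v)).prod := by
    have hmem := S2609.result h2 hn Q hQ h L (by intro v hv; obtain ⟨i, -, rfl⟩ := List.mem_map.mp hv; exact hbn i) hh
    rw [hlen] at hmem
    constructor
    · rintro ⟨g, hg, hg1⟩
      have : g = h := CfsgLib.OrthSpinor.eq_of_matrix Q (by rw [hg1, hh, hneg])
      exact (hmem.mp (this ▸ hg)).2
    · exact fun hs => ⟨h, hmem.mpr ⟨he, hs⟩, by rw [hh, hneg]⟩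
  rw [hiff]
  obtain ⟨d, hd0, hdet⟩ := CfsgLib.FormsDisc.gram_det_basis (QuadraticMap.polarBilin Q) b (Pi.basisFun F (Fin n))
  have hL : (L.map (fun v => Q v)).prod = ∏ i, Q (b i) := by
    rw [List.map_map, Fin.prod_univ_def]; rfl
  have hdiag : (Matrix.of fun i j => QuadraticMap.polarBilin Q (b i) (b j)).det = 2 ^ n * ∏ i, Q (b i) := by
    have : (Matrix.of fun i j => QuadraticMap.polarBilin Q (b i) (b j)) = Matrix.diagonal fun i => 2 * Q (b i) := by
      ext i j
      rcases eq_or_ne i j with rfl | hij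
      · simp [CfsgLib.OrthSpinor.polar_self']
      · simp [hb i j hij, hij]
    rw [this, Matrix.det_diagonal, Finset.prod_mul_distrib, Finset.prod_const, Finset.card_univ]
    congr 2
    simp
  simp only [Pi.basisFun_apply, QuadraticMap.polarBilin_apply_apply] at hdet hdiag
  rw [hdiag] at hdet
  rw [hL]
  obtain ⟨k, hk⟩ := he
  have h2n : (2 : F) ^ n = 2 ^ k * 2 ^ k := by rw [hk, pow_add]
  rw [← CfsgLib.OrthSpinor.isSquare_mul_right_iff (a := ∏ i, Q (b i)) (pow_ne_zero k h2), ← h2n, mul_comm, hdet, sq,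
    CfsgLib.OrthSpinor.isSquare_mul_right_iff hd0]

end Cfsg.Agent.S2610
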