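import Cfsg.Statements.S2611
import Cfsg.Agent.Lib.Orth.Spinor
import Cfsg.Agent.Lib.Linear.Transvection


set_option autoImplicit false
set_option maxHeartbeats 300000
open Cfsg

namespace Cfsg.Agent.S2611

open Matrix

variable {F : Type*} [Field F]

/-- `quadFormPlus` as a quadratic form. -/
noncomputable def quad (m : ℕ) (F : Type*) [Field F] : QuadraticForm F (Fin m ⊕ Fin m → F) :=
  LinearMap.BilinMap.toQuadraticMap
    (LinearMap.mk₂ F (fun u v : Fin m ⊕ Fin m → F => ∑ i, u (.inl i) * v (.inr i))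
      (fun a b c => by simp [add_mul, Finset.sum_add_distrib]) (fun c a b => by simp [Finset.mul_sum, mul_assoc])
      (fun a b c => by simp [mul_add, Finset.sum_add_distrib]) (fun c a b => by simp [Finset.mul_sum, mul_left_comm]))

theorem quad_apply (m : ℕ) (v : Fin m ⊕ Fin m → F) : quad m F v = Cfsg.quadFormPlus m F v := rfl

theorem levi_preserves {m : ℕ} (A : GL (Fin m) F) (v : Fin m ⊕ Fin m → F) :
    Cfsg.quadFormPlus m F ((Matrix.fromBlocks (A : Matrix (Fin m) (Fin m) F) 0 0 ((A⁻¹ : GL (Fin m) F) : Matrix (Fin m) (Fin m) F).transpose) *ᵥ v) = Cfsg.quadFormPlus m F v := by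
  rw [Matrix.fromBlocks_mulVec]
  simp only [Cfsg.quadFormPlus, Sum.elim_inl, Sum.elim_inr, Matrix.zero_mulVec, add_zero, zero_add]
  show (A : Matrix (Fin m) (Fin m) F) *ᵥ (v ∘ Sum.inl) ⬝ᵥ (((A⁻¹ : GL (Fin m) F) : Matrix (Fin m) (Fin m) F).transpose *ᵥ (v ∘ Sum.inr)) = (v ∘ Sum.inl) ⬝ᵥ (v ∘ Sum.inr)
  rw [Matrix.dotProduct_mulVec, Matrix.vecMul_transpose, Matrix.mulVec_mulVec, ← Units.val_mul, inv_mul_cancel, Units.val_one, Matrix.one_mulVec]

/-- The Levi embedding of `GL_m`. -/
noncomputable def levi {m : ℕ} : GL (Fin m) F →* ↥(Cfsg.isometryGroup F (Cfsg.quadFormPlus m F)) where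
  toFun A := ⟨⟨Matrix.fromBlocks (A : Matrix (Fin m) (Fin m) F) 0 0 ((A⁻¹ : GL (Fin m) F) : Matrix (Fin m) (Fin m) F).transpose,
    Matrix.fromBlocks ((A⁻¹ : GL (Fin m) F) : Matrix (Fin m) (Fin m) F) 0 0 (A : Matrix (Fin m) (Fin m) F).transpose,
    by simp [Matrix.fromBlocks_multiply, ← Matrix.transpose_mul],
    by simp [Matrix.fromBlocks_multiply, ← Matrix.transpose_mul]⟩, fun u _ => levi_preserves A u⟩
  map_one' := Subtype.ext (Units.ext (by simp))
  map_mul' A B := Subtype.ext (Units.ext (by simp [Matrix.fromBlocks_multiply, ← Matrix.transpose_mul]))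

theorem levi_coe {m : ℕ} (A : GL (Fin m) F) :
    (((levi A : ↥(Cfsg.isometryGroup F (Cfsg.quadFormPlus m F))) : GL (Fin m ⊕ Fin m) F) : Matrix (Fin m ⊕ Fin m) (Fin m ⊕ Fin m) F)
      = Matrix.fromBlocks (A : Matrix (Fin m) (Fin m) F) 0 0 ((A⁻¹ : GL (Fin m) F) : Matrix (Fin m) (Fin m) F).transpose := rfl

/-- `diag(a, 1, …, 1)`. -/
noncomputable def diagUnit {m : ℕ} (hm : 1 ≤ m) (a : Fˣ) : GL (Fin m) F :=
  Matrix.GeneralLinearGroup.mkOfDetNeZero (Matrix.diagonal fun i : Fin m => if i = ⟨0, hm⟩ then (a : F) else 1)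
    (by rw [Matrix.det_diagonal]; simp)

theorem det_diagUnit {m : ℕ} (hm : 1 ≤ m) (a : Fˣ) : Matrix.GeneralLinearGroup.det (diagUnit hm a) = a := by
  apply Units.ext
  show (Matrix.diagonal fun i : Fin m => if i = ⟨0, hm⟩ then (a : F) else 1).det = a
  rw [Matrix.det_diagonal]; simp

theorem levi_mem_of_det_one [Fintype F] {m : ℕ} (h : Fintype.card F ≠ 2 ∨ m ≠ 2) (A : GL (Fin m) F)
    (hA : Matrix.GeneralLinearGroup.det A = 1) : levi A ∈ Cfsg.Omega F (Cfsg.quadFormPlus m F) := by
  classical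
  have hc : A ∈ commutator (GL (Fin m) F) := by
    rw [CfsgLib.Linear.commutator_GL_eq_ker_det]
    · exact hA
    · intro hm2
      rw [Fintype.card_fin] at hm2
      by_contra hne
      push Not at hne
      have hle : Fintype.card F ≤ 2 := by
        have hsub : (Finset.univ : Finset F) ⊆ {0, 1} := fun x _ => by
          by_cases hx : x = 0
          · simp [hx]
          · simp [hne x hx]
        exact (Finset.card_le_card hsub).trans Finset.card_le_two
      have := Fintype.one_lt_card (α := F)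
      rcases h with h | h
      · omega
      · exact h hm2
  have := Subgroup.mem_map_of_mem (levi (F := F) (m := m)) hc
  rw [commutator_def, Subgroup.map_commutator] at this
  exact Subgroup.commutator_mono le_top le_top this

/-- The vector `e₀ - c f₀`. -/
def hypVec {m : ℕ} (hm : 1 ≤ m) (c : F) : Fin m ⊕ Fin m → F :=
  Sum.elim (fun i => if i = ⟨0, hm⟩ then 1 else 0) (fun i => if i = ⟨0, hm⟩ then -c else 0)

theorem quad_hypVec {m : ℕ} (hm : 1 ≤ m) (c : F) : quad m F (hypVec hm c) = -c := by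
  rw [quad_apply]; simp [Cfsg.quadFormPlus, hypVec]

theorem polar_hypVec {m : ℕ} (hm : 1 ≤ m) (c : F) (x : Fin m ⊕ Fin m → F) :
    QuadraticMap.polar (⇑(quad m F)) (hypVec hm c) x = x (.inr ⟨0, hm⟩) - c * x (.inl ⟨0, hm⟩) := by
  show QuadraticMap.polar (⇑(LinearMap.BilinMap.toQuadraticMap _)) (hypVec hm c) x = _
  rw [LinearMap.BilinMap.polar_toQuadraticMap]
  simp [hypVec]
  ring

theorem levi_diag_eq {m : ℕ} (hm : 1 ≤ m) (a : Fˣ) :
    (((levi (diagUnit hm a) : ↥(Cfsg.isometryGroup F (Cfsg.quadFormPlus m F))) : GL (Fin m ⊕ Fin m) F) : Matrix (Fin m ⊕ Fin m) (Fin m ⊕ Fin m) F)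
      = ([hypVec hm ((a : F)⁻¹), hypVec hm 1].map (fun v => Cfsg.reflectionMatrix ⇑(quad m F) v)).prod := by
  have hinv : (((diagUnit hm a)⁻¹ : GL (Fin m) F) : Matrix (Fin m) (Fin m) F) = Matrix.diagonal fun i : Fin m => if i = ⟨0, hm⟩ then (a : F)⁻¹ else 1 := by
    apply Units.inv_eq_of_mul_eq_one_right
    show Matrix.diagonal (fun i : Fin m => if i = ⟨0, hm⟩ then (a : F) else 1) * _ = 1
    rw [Matrix.diagonal_mul_diagonal, ← Matrix.diagonal_one]
    congr 1; funext i; split <;> simp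
  rw [levi_coe, hinv, Matrix.diagonal_transpose]
  apply Matrix.toLin'.injective
  apply LinearMap.ext
  intro x
  rw [Matrix.toLin'_apply, Matrix.toLin'_apply, List.map_cons, List.map_cons, List.map_nil, List.prod_cons, List.prod_cons,
    List.prod_nil, mul_one, ← Matrix.mulVec_mulVec, CfsgLib.OrthSpinor.reflectionMatrix_mulVec,
    CfsgLib.OrthSpinor.reflectionMatrix_mulVec, quad_hypVec, quad_hypVec, polar_hypVec, polar_hypVec]
  show (Matrix.fromBlocks (Matrix.diagonal fun i : Fin m => if i = ⟨0, hm⟩ then (a : F) else 1) 0 0 _) *ᵥ x = _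
  rw [Matrix.fromBlocks_mulVec]
  have ha : (a : F) ≠ 0 := a.ne_zero
  funext j
  rcases j with i | i <;> by_cases hi : i = ⟨0, hm⟩
  · subst hi; simp [hypVec, Matrix.mulVec_diagonal]; field_simp; ring
  · simp [hypVec, Matrix.mulVec_diagonal, hi]
  · subst hi; simp [hypVec, Matrix.mulVec_diagonal]; field_simp; ring
  · simp [hypVec, Matrix.mulVec_diagonal, hi]

theorem sq_mem [Fintype F] {m : ℕ} (hm : 1 ≤ m) (b : Fˣ) :
    levi (diagUnit hm b) * levi (diagUnit hm b) ∈ Cfsg.Omega F (Cfsg.quadFormPlus m F) := by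
  have hv : ∀ c : F, c ≠ 0 → quad m F (hypVec hm c) ≠ 0 := fun c hc => by rw [quad_hypVec]; simpa using hc
  have hb : ((b : F))⁻¹ ≠ 0 := inv_ne_zero b.ne_zero
  -- work with the isometry group of the form
  have key : ∀ (g : ↥(Cfsg.isometryGroup F ⇑(quad m F))), ((g : GL (Fin m ⊕ Fin m) F) : Matrix _ _ F) =
      ([hypVec hm ((b : F)⁻¹), hypVec hm 1].map (fun v => Cfsg.reflectionMatrix ⇑(quad m F) v)).prod →
      g * g ∈ Cfsg.Omega F ⇑(quad m F) := by
    intro g hg
    have hsq : ∀ c : F, c ≠ 0 → Cfsg.reflectionMatrix ⇑(quad m F) (hypVec hm c) * Cfsg.reflectionMatrix ⇑(quad m F) (hypVec hm c) = 1 := by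
      intro c hc
      apply Matrix.toLin'.injective
      apply LinearMap.ext
      intro x
      rw [Matrix.toLin'_apply, Matrix.toLin'_apply, ← Matrix.mulVec_mulVec, CfsgLib.OrthSpinor.reflectionMatrix_mulVec,
        CfsgLib.OrthSpinor.reflectionMatrix_mulVec, quad_hypVec, Matrix.one_mulVec]
      simp only [polar_hypVec, Pi.sub_apply, Pi.smul_apply, smul_eq_mul]
      funext j
      simp [hypVec]
      field_simp
      ring
    have hpres : ∀ (c : F), c ≠ 0 → ∀ x, quad m F (Cfsg.reflectionMatrix ⇑(quad m F) (hypVec hm c) *ᵥ x) = quad m F x := by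
      intro c hc x
      rw [CfsgLib.OrthSpinor.reflectionMatrix_mulVec, sub_eq_add_neg, ← neg_smul]
      rw [CfsgLib.OrthSpinor.map_add', CfsgLib.OrthSpinor.map_smul', QuadraticMap.polar_smul_right, QuadraticMap.polar_comm _ x, quad_hypVec, smul_eq_mul]
      field_simp
      ring
    let r : (c : F) → c ≠ 0 → ↥(Cfsg.isometryGroup F ⇑(quad m F)) := fun c hc =>
      CfsgLib.OrthSpinor.mkIsometry _ _ _ (hsq c hc) (hsq c hc) (hpres c hc)
    have hr : ∀ c hc, r c hc * r c hc = 1 := fun c hc => CfsgLib.OrthSpinor.eq_of_matrix _ (hsq c hc)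
    have hg' : g = r _ hb * r 1 one_ne_zero := CfsgLib.OrthSpinor.eq_of_matrix _ (hg.trans (by simp [r, CfsgLib.OrthSpinor.mkIsometry]))
    rw [← QuotientGroup.eq_one_iff, hg']
    show Abelianization.of (r _ hb * r 1 one_ne_zero * (r _ hb * r 1 one_ne_zero)) = 1
    rw [map_mul, map_mul, mul_mul_mul_comm, ← map_mul, ← map_mul, hr _ hb, hr _ one_ne_zero, map_one, one_mul]
  exact key (levi (diagUnit hm b)) (levi_diag_eq hm b)

theorem quad_nondegenerate {m : ℕ} (F : Type*) [Field F] : (QuadraticMap.polarBilin (quad m F)).Nondegenerate := by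
  have hp : ∀ u v : Fin m ⊕ Fin m → F, QuadraticMap.polarBilin (quad m F) u v = ∑ i, u (.inl i) * v (.inr i) + ∑ i, v (.inl i) * u (.inr i) := by
    intro u v
    show QuadraticMap.polar (⇑(LinearMap.BilinMap.toQuadraticMap _)) u v = _
    rw [LinearMap.BilinMap.polar_toQuadraticMap]
    simp
  constructor <;> intro u hu <;> funext j <;> rcases j with i | i
  · have := hu (Pi.single (.inr i) 1); rw [hp] at this; simpa [Pi.single_apply] using this
  · have := hu (Pi.single (.inl i) 1); rw [hp] at this; simpa [Pi.single_apply] using this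
  · have := hu (Pi.single (.inr i) 1); rw [hp] at this; simpa [Pi.single_apply] using this
  · have := hu (Pi.single (.inl i) 1); rw [hp] at this; simpa [Pi.single_apply] using this

theorem spinor_diag [Fintype F] {m : ℕ} (hm : 1 ≤ m) (h2 : (2 : F) ≠ 0) (a : Fˣ)
    (h : levi (diagUnit hm a) ∈ Cfsg.Omega F (Cfsg.quadFormPlus m F)) : IsSquare (a : F) := by
  classical
  have key : ∀ (g : ↥(Cfsg.isometryGroup F ⇑(quad m F))), ((g : GL (Fin m ⊕ Fin m) F) : Matrix _ _ F) =
      ([hypVec hm ((a : F)⁻¹), hypVec hm 1].map (fun v => Cfsg.reflectionMatrix ⇑(quad m F) v)).prod →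
      g ∈ Cfsg.Omega F ⇑(quad m F) → IsSquare (a : F) := by
    intro g hg hmem
    have h1 : quad m F (hypVec hm ((a : F)⁻¹)) ≠ 0 := by rw [quad_hypVec]; simp
    have h1' : quad m F (hypVec hm 1) ≠ 0 := by rw [quad_hypVec]; simp
    have hg' : g = CfsgLib.OrthSpinor.reflection h1 * CfsgLib.OrthSpinor.reflection h1' :=
      CfsgLib.OrthSpinor.eq_of_matrix _ (hg.trans (by simp [CfsgLib.OrthSpinor.reflection, CfsgLib.OrthSpinor.mkIsometry]))
    have ht := ((CfsgLib.OrthSpinor.mem_Omega_iff h2 (quad_nondegenerate F) (by simp; omega) (one_ne_zero : (1:F) ≠ 0) g).mp hmem).2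
    rw [hg', map_mul, CfsgLib.OrthSpinor.theta_reflection h2 one_ne_zero h1, CfsgLib.OrthSpinor.theta_reflection h2 one_ne_zero h1',
      quad_hypVec, quad_hypVec, one_mul, one_mul] at ht
    by_cases hm1 : IsSquare (-1 : F)
    · by_cases ha : IsSquare (-(a : F)⁻¹)
      · have := ha.mul hm1
        simpa using this
      · simp [hm1, ha] at ht
    · by_cases ha : IsSquare (-(a : F)⁻¹)
      · simp [hm1, ha] at ht
      · have := CfsgLib.OrthSpinor.isSquare_mul_of_not ha hm1
        simpa using this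
  exact key (levi (diagUnit hm a)) (levi_diag_eq hm a) h


/-- For the hyperbolic quadratic form Σ x_i y_i on F^(2m) (F finite, m ≥ 1, excluding m = 2 over the field of two elements) and an invertible m × m matrix A, the block-diagonal isometry diag(A, (A⁻¹)ᵀ), which stabilises the two maximal totally singular subspaces x = 0 and y = 0, lies in Ω⁺_2m(F) (the commutator subgroup of the orthogonal group) if and only if det A is a square in F. -/
theorem result {F : Type*} [Field F] [Fintype F] {m : ℕ} (hm : 1 ≤ m) (h : Fintype.card F ≠ 2 ∨ m ≠ 2) (A : GL (Fin m) F) : (∃ g : ↥(Cfsg.isometryGroup F (Cfsg.quadFormPlus m F)), g ∈ Cfsg.Omega F (Cfsg.quadFormPlus m F) ∧ ((g : Matrix.GeneralLinearGroup (Fin m ⊕ Fin m) F) : Matrix (Fin m ⊕ Fin m) (Fin m ⊕ Fin m) F) = Matrix.fromBlocks (A : Matrix (Fin m) (Fin m) F) 0 0 ((A : Matrix (Fin m) (Fin m) F)⁻¹).transpose) ↔ IsSquare (A : Matrix (Fin m) (Fin m) F).det := by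
  classical
  have hL : ∀ g : ↥(Cfsg.isometryGroup F (Cfsg.quadFormPlus m F)),
      ((g : Matrix.GeneralLinearGroup (Fin m ⊕ Fin m) F) : Matrix (Fin m ⊕ Fin m) (Fin m ⊕ Fin m) F) = Matrix.fromBlocks (A : Matrix (Fin m) (Fin m) F) 0 0 ((A : Matrix (Fin m) (Fin m) F)⁻¹).transpose → g = levi A := by
    intro g hg
    apply Subtype.ext
    apply Units.ext
    rw [hg, levi_coe, Matrix.coe_units_inv]
  constructor
  · rintro ⟨g, hg, hgm⟩
    by_contra hns
    have h2 : (2 : F) ≠ 0 := fun h0 => hns (by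
      have : CharP F 2 := CharTwo.of_one_ne_zero_of_two_eq_zero one_ne_zero h0
      exact FiniteField.isSquare_of_char_two (ringChar.eq F 2) _)
    have hQ : (⇑(quad m F) : (Fin m ⊕ Fin m → F) → F) = Cfsg.quadFormPlus m F := funext fun v => quad_apply m v
    let a : Fˣ := Matrix.GeneralLinearGroup.det A
    have h1 : levi (diagUnit hm a) ∈ Cfsg.Omega F (Cfsg.quadFormPlus m F) := by
      have hdet : Matrix.GeneralLinearGroup.det (diagUnit hm a * A⁻¹) = 1 := by
        rw [map_mul, map_inv, det_diagUnit, mul_inv_cancel]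
      have := levi_mem_of_det_one h (diagUnit hm a * A⁻¹) hdet
      rw [map_mul, map_inv] at this
      have hA : levi A ∈ Cfsg.Omega F (Cfsg.quadFormPlus m F) := hL g hgm ▸ hg
      simpa using mul_mem this hA
    have h3 := spinor_diag hm h2 a h1
    exact hns h3
  · intro hs
    refine ⟨levi A, ?_, ?_⟩
    · obtain ⟨b, hb⟩ := hs
      have hb0 : b ≠ 0 := by
        rintro rfl
        exact (Matrix.GeneralLinearGroup.det A).ne_zero (show (A : Matrix (Fin m) (Fin m) F).det = 0 by rw [hb, zero_mul])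
      let β : Fˣ := Units.mk0 b hb0
      have hdet : Matrix.GeneralLinearGroup.det (A * (diagUnit hm β * diagUnit hm β)⁻¹) = 1 := by
        rw [map_mul, map_inv, map_mul, det_diagUnit]
        rw [show Matrix.GeneralLinearGroup.det A = β * β from Units.ext hb, mul_inv_cancel]
      have := levi_mem_of_det_one h _ hdet
      rw [map_mul, map_inv, map_mul] at this
      have h2 := mul_mem this (sq_mem hm β)
      simpa [mul_assoc] using h2
    · rw [levi_coe, Matrix.coe_units_inv]

end Cfsg.Agent.S2611
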