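import Cfsg.Statements.S2612
import Cfsg.Agent.Lib.OrthCrit.Plus

set_option autoImplicit false
open Cfsg

namespace Cfsg.Agent.S2612

/-- For the hyperbolic quadratic form Σ x_i y_i on F^(2m) (F finite, m ≥ 1, excluding m = 2 over the field of two elements), Ω⁺_2m(F) (the commutator subgroup of the orthogonal group) contains an element interchanging the two complementary maximal totally singular subspaces {y = 0} and {x = 0} if and only if m is even (dimension divisible by 4). -/
theorem result {F : Type*} [Field F] [Fintype F] {m : ℕ} (hm : 1 ≤ m) (h : Fintype.card F ≠ 2 ∨ m ≠ 2) : (∃ g : ↥(Cfsg.isometryGroup F (Cfsg.quadFormPlus m F)), g ∈ Cfsg.Omega F (Cfsg.quadFormPlus m F) ∧ (∀ v : Fin m ⊕ Fin m → F, (∀ i, v (Sum.inr i) = 0) → ∀ i, (((g : Matrix.GeneralLinearGroup (Fin m ⊕ Fin m) F) : Matrix (Fin m ⊕ Fin m) (Fin m ⊕ Fin m) F).mulVec v) (Sum.inl i) = 0) ∧ (∀ v : Fin m ⊕ Fin m → F, (∀ i, v (Sum.inl i) = 0) → ∀ i, (((g : Matrix.GeneralLinearGroup (Fin m ⊕ Fin m) F) : Matrix (Fin m ⊕ Fin m)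 (Fin m ⊕ Fin m) F).mulVec v) (Sum.inr i) = 0)) ↔ Even m := by
  classical
  open CfsgLib.OrthCrit in
  constructor
  · rintro ⟨g, hg, h1, h2⟩
    have hnd := ndPolar_plusForm (F := F) m
    have hreg : Regular F (Fin m ⊕ Fin m) :=
      regular_of_card (n := m + m) (by simp) (h.imp_right fun h => by omega)
    have hp := parity_of_mem_Omega (Q := plusForm m F) hnd hreg hg
    have hev := (even_sub_finrank_inf_map (Q := plusForm m F) hnd hreg halfSpace_singular
      finrank_halfSpace (by simp [two_mul]) g).mpr hp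
    have hbot : halfSpace F m ⊓ (halfSpace F m).map (Matrix.mulVecLin
        ((g : Matrix.GeneralLinearGroup (Fin m ⊕ Fin m) F) : Matrix (Fin m ⊕ Fin m) (Fin m ⊕ Fin m) F)) = ⊥ := by
      rw [Submodule.eq_bot_iff]
      rintro _ ⟨hx, y, hy, rfl⟩
      funext k
      rcases k with i | i
      · exact h1 y (fun j => congrFun hy j) i
      · exact congrFun hx i
    rw [hbot, finrank_bot, Nat.sub_zero] at hev
    exact hev
  · intro hev
    obtain ⟨g, hg, hgx⟩ := exists_swap (F := F) hm m le_rfl
    refine ⟨g, hg hev, fun v hv i => ?_, fun v hv i => ?_⟩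
    · have := congrFun (hgx v) (Sum.inl i)
      rw [Sum.elim_inl, if_pos i.isLt, hv] at this
      exact this
    · have := congrFun (hgx v) (Sum.inr i)
      rw [Sum.elim_inr, if_pos i.isLt, hv] at this
      exact this

end Cfsg.Agent.S2612
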