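import Cfsg.Statements.S2613
import Cfsg.Agent.Lib.OrthCrit.Plus
import Cfsg.Agent.Lib.FormsDisc.Basic

set_option autoImplicit false
open Cfsg

namespace Cfsg.Agent.S2613

/-- For the hyperbolic form Σ x_j y_j on F^(2m), F finite with q elements, q odd, and 1 ≤ i ≤ m: the involution negating the first i hyperbolic pairs (x_j, y_j ↦ −x_j, −y_j for j < i) and fixing the rest lies in Ω⁺_2m(q) (commutator subgroup of the orthogonal group) if and only if q^i ≡ 1 (mod 4); its (−1)-eigenspace is a hyperbolic 2i-space. -/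
theorem result {F : Type*} [Field F] [Fintype F] {q : ℕ} (hF : Fintype.card F = q) (hq : Odd q) {m : ℕ} (i : ℕ) (hi : 1 ≤ i) (him : i ≤ m) : (∃ g : ↥(Cfsg.isometryGroup F (Cfsg.quadFormPlus m F)), g ∈ Cfsg.Omega F (Cfsg.quadFormPlus m F) ∧ ((g : Matrix.GeneralLinearGroup (Fin m ⊕ Fin m) F) : Matrix (Fin m ⊕ Fin m) (Fin m ⊕ Fin m) F) = Matrix.diagonal (fun k : Fin m ⊕ Fin m => if (Sum.elim (fun j : Fin m => (j : ℕ)) (fun j : Fin m => (j : ℕ)) k) < i then (-1 : F) else 1)) ↔ q ^ i % 4 = 1 := by
  classical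
  have h2 : (2 : F) ≠ 0 := CfsgLib.FormsDisc.two_ne_zero_of_card_odd hF hq
  let e : ℕ → (Fin m ⊕ Fin m → F) := fun j => if h : j < m then Pi.single (Sum.inl ⟨j, h⟩) 1 else 0
  let f : ℕ → (Fin m ⊕ Fin m → F) := fun j => if h : j < m then Pi.single (Sum.inr ⟨j, h⟩) 1 else 0
  refine CfsgLib.OrthCrit.negPairs_mem_Omega_iff (Q := CfsgLib.OrthCrit.plusForm m F)
    (CfsgLib.OrthCrit.ndPolar_plusForm m) h2 (by simp only [Fintype.card_sum, Fintype.card_fin, Fintype.card_unit]; omega) hF e f i ?_ ?_ _ fun x => ?_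
  · intro j hj
    have hjm : j < m := by omega
    simp [e, f, dif_pos hjm, CfsgLib.OrthCrit.polar_plusForm, Cfsg.quadFormPlus, Pi.single_apply]
  · intro j hj j' hj' hne
    have hjm : j < m := by omega
    have hjm' : j' < m := by omega
    simp [e, f, dif_pos hjm, dif_pos hjm', CfsgLib.OrthCrit.polar_plusForm, Pi.single_apply, Fin.ext_iff, hne, hne.symm]
    refine Finset.sum_eq_zero fun x _ => ?_
    split_ifs <;> first | rfl | (exfalso; omega)
  · funext k
    rw [Matrix.mulVec_diagonal]
    simp only [Pi.sub_apply, Pi.smul_apply, Finset.sum_apply, Pi.add_apply, smul_eq_mul]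
    rcases k with l | l
    · rw [Finset.sum_congr rfl (g := fun j => if (l : ℕ) = j then x (Sum.inl l) else 0) fun j hj => ?_]
      · rw [Finset.sum_ite_eq]
        by_cases hl : (l : ℕ) < i <;> simp [hl, Finset.mem_range]
        ring
      · have hjm : j < m := by rw [Finset.mem_range] at hj; omega
        by_cases hlj : (l : ℕ) = j
        · subst hlj
          simp [e, f, dif_pos hjm, CfsgLib.OrthCrit.polar_plusForm, Pi.single_apply]
        · simp [e, f, dif_pos hjm, CfsgLib.OrthCrit.polar_plusForm, Pi.single_apply, Fin.ext_iff, hlj]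
    · rw [Finset.sum_congr rfl (g := fun j => if (l : ℕ) = j then x (Sum.inr l) else 0) fun j hj => ?_]
      · rw [Finset.sum_ite_eq]
        by_cases hl : (l : ℕ) < i <;> simp [hl, Finset.mem_range]
        ring
      · have hjm : j < m := by rw [Finset.mem_range] at hj; omega
        by_cases hlj : (l : ℕ) = j
        · subst hlj
          simp [e, f, dif_pos hjm, CfsgLib.OrthCrit.polar_plusForm, Pi.single_apply]
        · simp [e, f, dif_pos hjm, CfsgLib.OrthCrit.polar_plusForm, Pi.single_apply, Fin.ext_iff, hlj]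

end Cfsg.Agent.S2613
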