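import Cfsg.Statements.S2616
import Cfsg.Agent.Lib.FormsDisc.Decomp

set_option autoImplicit false
open Cfsg

namespace Cfsg.Agent.S2616

/-- Standard bases of a non-degenerate quadratic space of even dimension 2m over a finite field: either there is a hyperbolic basis e_i, f_i (Q(e_i) = Q(f_i) = 0, B(e_i, f_j) = δ_ij, the e's pairwise orthogonal and the f's pairwise orthogonal, B the polar form), or there is an elliptic basis: hyperbolic pairs e_i, f_i for i < m − 1 together with x, y orthogonal to them with Q(x) = 1, B(x, y) = 1, Q(y) = ζ where t² + t + ζ has no root in the field. -/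
theorem result {F V : Type*} [Field F] [Finite F] [AddCommGroup V] [Module F V] [FiniteDimensional F V] {m : ℕ} (hm : 1 ≤ m) (hV : Module.finrank F V = 2 * m) (Q : QuadraticForm F V) (hQ : (QuadraticMap.polarBilin Q).Nondegenerate) : (∃ b : Module.Basis (Fin m ⊕ Fin m) F V, (∀ i, Q (b (Sum.inl i)) = 0 ∧ Q (b (Sum.inr i)) = 0) ∧ (∀ i j, QuadraticMap.polar ⇑Q (b (Sum.inl i)) (b (Sum.inr j)) = if i = j then 1 else 0) ∧ (∀ i j, QuadraticMap.polar ⇑Q (b (Sum.inl i)) (b (Sum.inl j)) = 0 ∧ QuadraticMap.polar ⇑Q (b (Sum.inr i)) (b (Sum.inr j)) = 0)) ∨ (∃ (b : Module.Basis ((Fin (m - 1) ⊕ Fin (m - 1)) ⊕ Fin 2) F V) (ζ : F), (∀ t : F, t ^ 2 + t + ζ ≠ 0) ∧ (∀ i, Q (b (Sum.inl (Sum.inl i))) = 0 ∧ Q (b (Sum.inl (Sum.inr i))) = 0) ∧ (∀ i j, QuadraticMap.polar ⇑Q (b (Sum.inl (Sum.inl i))) (b (Sum.inl (Sum.inr j))) = if i = j then 1 else 0) ∧ (∀ i j, QuadraticMap.polar ⇑Q (b (Sum.inl (Sum.inl i))) (b (Sum.inl (Sum.inl j))) = 0 ∧ QuadraticMap.polar ⇑Q (b (Sum.inl (Sum.inr i))) (b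 (Sum.inl (Sum.inr j))) = 0) ∧ (∀ i (k : Fin 2), QuadraticMap.polar ⇑Q (b (Sum.inl (Sum.inl i))) (b (Sum.inr k)) = 0 ∧ QuadraticMap.polar ⇑Q (b (Sum.inl (Sum.inr i))) (b (Sum.inr k)) = 0) ∧ Q (b (Sum.inr 0)) = 1 ∧ QuadraticMap.polar ⇑Q (b (Sum.inr 0)) (b (Sum.inr 1)) = 1 ∧ Q (b (Sum.inr 1)) = ζ) := by
  classical
  have := Fintype.ofFinite F
  have hnd : CfsgLib.Classical.Quad.NDPolar Q := fun x hx => hQ.1 x hx
  obtain ⟨k, r, e, f, W, hn, hr, hfam, hW, hani, horth, hWnd⟩ :=
    CfsgLib.FormsDisc.exists_decomp _ Q hnd hV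
  rcases (by omega : (r = 0 ∧ k = m) ∨ (r = 2 ∧ k = m - 1)) with ⟨rfl, rfl⟩ | ⟨rfl, rfl⟩
  · left
    have hli : LinearIndependent F (Sum.elim e f) := by
      have h := CfsgLib.FormsDisc.linearIndependent_family Q hfam (fun i : Fin 0 => i.elim0)
        linearIndependent_empty_type (fun i => i.elim0)
      exact h.comp Sum.inl Sum.inl_injective
    have hcard : Fintype.card (Fin k ⊕ Fin k) = Module.finrank F V := by simp [hV, two_mul]
    have : Nonempty (Fin k ⊕ Fin k) := ⟨Sum.inl ⟨0, hm⟩⟩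
    refine ⟨basisOfLinearIndependentOfCardEqFinrank hli hcard, ?_, ?_, ?_⟩ <;>
      simp only [coe_basisOfLinearIndependentOfCardEqFinrank, Sum.elim_inl, Sum.elim_inr]
    · exact hfam.sing
    · exact hfam.pair
    · exact hfam.iso
  · right
    have hspan : (2 : F) ≠ 0 → ∀ v ∈ W, v ≠ 0 →
        ∃ w ∈ W, w ∉ F ∙ v ∧ QuadraticMap.polar ⇑Q v w = 0 := by
      intro h2 v hv hv0
      obtain ⟨w, hw, hwv⟩ : ∃ w ∈ W, w ∉ F ∙ v := by
        by_contra! h
        have := Submodule.finrank_mono (show W ≤ F ∙ v from h)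
        rw [hW, finrank_span_singleton hv0] at this
        omega
      refine ⟨w - (QuadraticMap.polar ⇑Q v w / (2 * Q v)) • v,
        W.sub_mem hw (W.smul_mem _ hv), fun h => hwv ?_, ?_⟩
      · simpa using add_mem h (Submodule.smul_mem _ (QuadraticMap.polar ⇑Q v w / (2 * Q v))
          (Submodule.mem_span_singleton_self v))
      · rw [QuadraticMap.polar_sub_right, QuadraticMap.polar_smul_right,
          CfsgLib.Classical.Quad.polar_self', smul_eq_mul,
          div_mul_cancel₀ _ (mul_ne_zero h2 fun h0 => hv0 (hani v hv h0)), sub_self]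
    obtain ⟨v, hv, hv0⟩ := Submodule.exists_mem_ne_zero_of_ne_bot
      (fun h : W = ⊥ => by rw [h, finrank_bot] at hW; omega)
    have hQv : Q v ≠ 0 := fun h => hv0 (hani v hv h)
    -- a vector of norm one
    obtain ⟨x, hx, hQx⟩ : ∃ x ∈ W, Q x = 1 := by
      by_cases h2 : (2 : F) = 0
      · have := CharTwo.of_one_ne_zero_of_two_eq_zero (R := F) one_ne_zero h2
        obtain ⟨s, hs⟩ := FiniteField.isSquare_of_char_two (ringChar.eq F 2) (Q v)⁻¹
        exact ⟨s • v, W.smul_mem _ hv, by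
          rw [QuadraticMap.map_smul, ← hs, smul_eq_mul, inv_mul_cancel₀ hQv]⟩
      · obtain ⟨w, hw, hwv, hvw⟩ := hspan h2 v hv hv0
        have hQw : Q w ≠ 0 := fun h => hwv (by rw [hani w hw h]; exact zero_mem _)
        obtain ⟨s, t, hst⟩ := CfsgLib.FormsDisc.binary_represents_one h2 hQv hQw
        refine ⟨s • v + t • w, add_mem (W.smul_mem _ hv) (W.smul_mem _ hw), ?_⟩
        rw [QuadraticMap.map_add (⇑Q), QuadraticMap.map_smul, QuadraticMap.map_smul,
          QuadraticMap.polar_smul_left, QuadraticMap.polar_smul_right, hvw]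
        simp only [smul_eq_mul, mul_zero, add_zero]
        linear_combination hst
    have hx0 : x ≠ 0 := fun h => by rw [h, QuadraticMap.map_zero] at hQx; exact zero_ne_one hQx
    obtain ⟨y, hy, hxy, hyx⟩ : ∃ y ∈ W, QuadraticMap.polar ⇑Q x y = 1 ∧ y ∉ F ∙ x := by
      obtain ⟨y, hy, hxy⟩ : ∃ y ∈ W, QuadraticMap.polar ⇑Q x y ≠ 0 := by
        by_contra! h
        exact hx0 (hWnd x hx h)
      have h1 : QuadraticMap.polar ⇑Q x ((QuadraticMap.polar ⇑Q x y)⁻¹ • y) = 1 := by
        rw [QuadraticMap.polar_smul_right, smul_eq_mul, inv_mul_cancel₀ hxy]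
      by_cases hmem : (QuadraticMap.polar ⇑Q x y)⁻¹ • y ∈ F ∙ x
      · by_cases h2 : (2 : F) = 0
        · obtain ⟨c, hc⟩ := Submodule.mem_span_singleton.mp hmem
          rw [← hc, QuadraticMap.polar_smul_right, CfsgLib.Classical.Quad.polar_self', h2,
            zero_mul, smul_zero] at h1
          exact absurd h1 zero_ne_one
        · obtain ⟨w, hw, hwx, hxw⟩ := hspan h2 x hx hx0
          exact ⟨_, add_mem (W.smul_mem _ hy) hw,
            by rw [QuadraticMap.polar_add_right, h1, hxw, add_zero],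
            fun h => hwx (by simpa using Submodule.sub_mem _ h hmem)⟩
      · exact ⟨_, W.smul_mem _ hy, h1, hmem⟩
    have hroot : ∀ t : F, t ^ 2 + t + Q y ≠ 0 := by
      intro t ht
      have h0 : Q (t • x + y) = 0 := by
        rw [QuadraticMap.map_add (⇑Q), QuadraticMap.map_smul, QuadraticMap.polar_smul_left, hxy,
          hQx, smul_eq_mul, smul_eq_mul]
        linear_combination ht
      refine hyx ?_
      rw [← Submodule.neg_mem_iff, ← eq_neg_of_add_eq_zero_left
        (hani _ (add_mem (W.smul_mem _ hx) hy) h0)]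
      exact Submodule.smul_mem _ _ (Submodule.mem_span_singleton_self x)
    have hlw : LinearIndependent F ![x, y] := by
      refine linearIndependent_fin2.mpr ⟨fun h => hyx (by rw [show y = 0 from h]; exact zero_mem _),
        fun a ha => ?_⟩
      simp only [Matrix.cons_val_one, Matrix.cons_val_zero] at ha
      have ha0 : a ≠ 0 := fun h => hx0 (by rw [← ha, h, zero_smul])
      refine hyx (Submodule.mem_span_singleton.mpr ⟨a⁻¹, ?_⟩)
      rw [← ha, smul_smul, inv_mul_cancel₀ ha0, one_smul]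
    have hli := CfsgLib.FormsDisc.linearIndependent_family Q hfam ![x, y] hlw (fun c i => by
      fin_cases c
      · exact horth x hx i
      · exact horth y hy i)
    have hcard : Fintype.card ((Fin (m - 1) ⊕ Fin (m - 1)) ⊕ Fin 2) = Module.finrank F V := by
      simp [hV]; omega
    refine ⟨basisOfLinearIndependentOfCardEqFinrank hli hcard, Q y, hroot, ?_, ?_, ?_, ?_, ?_, ?_, ?_⟩ <;>
      simp only [coe_basisOfLinearIndependentOfCardEqFinrank, Sum.elim_inl, Sum.elim_inr,
        Matrix.cons_val_zero, Matrix.cons_val_one]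
    · exact hfam.sing
    · exact hfam.pair
    · exact hfam.iso
    · intro i c
      fin_cases c
      · exact horth x hx i
      · exact horth y hy i
    · exact hQx
    · exact hxy

end Cfsg.Agent.S2616
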