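import Cfsg.Statements.S2617


set_option autoImplicit false
open Cfsg

namespace Cfsg.Agent.S2617


/-- The two standard quadratic forms of even dimension 2m over a finite field are not isometric: there is no linear isomorphism carrying the elliptic form Σ_(i<m−1) x_i y_i + z₁² + z₁z₂ + ζ z₂² (t² + t + ζ without roots) to the hyperbolic form Σ_(i<m) x_i y_i (they have different Witt index). -/
theorem result {F : Type*} [Field F] [Finite F] {m : ℕ} (hm : 1 ≤ m) (ζ : F) (hζ : ∀ t : F, t ^ 2 + t + ζ ≠ 0) (g : (Fin m ⊕ Fin m → F) ≃ₗ[F] ((Fin (m - 1) ⊕ Fin (m - 1)) ⊕ Fin 2 → F)) : ¬ (∀ v : Fin m ⊕ Fin m → F, Cfsg.quadFormMinus (m - 1) F 1 ζ (g v) = Cfsg.quadFormPlus m F v) := by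
  intro h
  let k := m - 1
  -- the image of a maximal totally singular subspace
  let T : (Fin m → F) →ₗ[F] ((Fin (m - 1) ⊕ Fin (m - 1)) ⊕ Fin 2 → F) :=
    g.toLinearMap.comp
      ({ toFun := fun u => Sum.elim u 0
         map_add' := fun u v => by ext (i | i) <;> simp
         map_smul' := fun c v => by ext (i | i) <;> simp } :
        (Fin m → F) →ₗ[F] (Fin m ⊕ Fin m → F))
  have hTinj : Function.Injective T := by
    intro u v huv
    have h1 := g.injective huv
    funext i
    exact congrFun h1 (Sum.inl i)
  have hT0 : ∀ u, quadFormMinus (m - 1) F 1 ζ (T u) = 0 := by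
    intro u
    show quadFormMinus (m - 1) F 1 ζ (g _) = 0
    rw [h]
    simp [quadFormPlus]
  let P : (Fin m → F) →ₗ[F] (Fin (m - 1) → F) :=
    (LinearMap.funLeft F F (fun i => Sum.inl (Sum.inl i))).comp T
  let R : (Fin m → F) →ₗ[F] (Fin (m - 1) → F) :=
    (LinearMap.funLeft F F (fun i => Sum.inl (Sum.inr i))).comp T
  have hbin : ∀ x y : F, x ^ 2 + 1 * x * y + ζ * y ^ 2 = 0 → x = 0 ∧ y = 0 := by
    intro x y hxy
    by_cases hy : y = 0
    · subst hy; simpa using hxy
    · refine absurd ?_ (hζ (x / y))
      field_simp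
      linear_combination hxy
  have hker : ∀ u ∈ LinearMap.ker P, ∀ j : Fin 2, T u (Sum.inr j) = 0 := by
    intro u hu
    have hu' : ∀ i, T u (Sum.inl (Sum.inl i)) = 0 := fun i => congrFun hu i
    have h1 := hT0 u
    simp only [quadFormMinus, hu', zero_mul, Finset.sum_const_zero, zero_add] at h1
    obtain ⟨h2, h3⟩ := hbin _ _ h1
    intro j; fin_cases j <;> assumption
  let S := LinearMap.ker P
  let R' : S →ₗ[F] (Fin (m - 1) → F) := R.domRestrict S
  have hR' : Function.Injective R' := by
    rw [injective_iff_map_eq_zero]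
    intro u hu
    refine Subtype.ext (hTinj ?_)
    rw [Submodule.coe_zero, map_zero]
    ext ((i | i) | i)
    · exact congrFun u.2 i
    · exact congrFun hu i
    · exact hker _ u.2 i
  -- the two projections are orthogonal for the dot product
  have horth : ∀ u v, v ∈ S → ∑ i, P u i * R v i = 0 := by
    intro u v hv
    have hv' : ∀ i, T v (Sum.inl (Sum.inl i)) = 0 := fun i => congrFun hv i
    have h1 := hT0 (u + v)
    have h2 := hT0 u
    simp only [quadFormMinus, map_add, Pi.add_apply, hv', hker v hv, add_zero, mul_add,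
      Finset.sum_add_distrib] at h1
    simp only [quadFormMinus] at h2
    show ∑ i, T u (Sum.inl (Sum.inl i)) * T v (Sum.inl (Sum.inr i)) = 0
    linear_combination h1 - h2
  let B : LinearMap.BilinForm F (Fin (m - 1) → F) := Matrix.toBilin' 1
  have hB : ∀ x y, B x y = ∑ i, x i * y i := by
    intro x y; simp [B, Matrix.toBilin'_apply', dotProduct]
  have hBs : B.IsRefl := by
    intro x y hxy
    rw [hB] at hxy ⊢
    simpa [mul_comm] using hxy
  have hBn : B.Nondegenerate :=
    Matrix.nondegenerate_toBilin'_iff.2 (Matrix.nondegenerate_of_det_ne_zero (by simp))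
  have hle : LinearMap.range P ≤ B.orthogonal (LinearMap.range R') := by
    rintro _ ⟨u, rfl⟩ _ ⟨v, rfl⟩
    refine hBs _ _ ?_
    rw [hB]
    exact horth u v v.2
  have h1 := LinearMap.finrank_range_add_finrank_ker P
  have h2 : Module.finrank F (LinearMap.range R') = Module.finrank F S :=
    LinearMap.finrank_range_of_inj hR'
  have h3 := Submodule.finrank_mono hle
  rw [LinearMap.BilinForm.finrank_orthogonal hBn] at h3
  have h4 := Submodule.finrank_le (LinearMap.range R')
  simp only [Module.finrank_fin_fun] at h1 h3 h4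
  change Module.finrank F (LinearMap.range P) + Module.finrank F S = m at h1
  omega

end Cfsg.Agent.S2617
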