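import Cfsg.Statements.S2618
import Cfsg.Agent.Lib.FormsDisc.Decomp

set_option autoImplicit false
open Cfsg

namespace Cfsg.Agent.S2618

/-- Standard (parabolic) basis of a non-degenerate quadratic space of odd dimension 2m + 1 over a finite field (the non-degeneracy of the polar form forces the characteristic to be odd): there is a basis e_i, f_i (i < m), x with Q(e_i) = Q(f_i) = 0, B(e_i, f_j) = δ_ij (B the polar form), the e's pairwise orthogonal and the f's pairwise orthogonal, x orthogonal to all of them and Q(x) ≠ 0. -/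
theorem result {F V : Type*} [Field F] [Finite F] [AddCommGroup V] [Module F V] [FiniteDimensional F V] {m : ℕ} (hV : Module.finrank F V = 2 * m + 1) (Q : QuadraticForm F V) (hQ : (QuadraticMap.polarBilin Q).Nondegenerate) : ∃ b : Module.Basis (Unit ⊕ (Fin m ⊕ Fin m)) F V, Q (b (Sum.inl ())) ≠ 0 ∧ (∀ i, QuadraticMap.polar ⇑Q (b (Sum.inl ())) (b (Sum.inr (Sum.inl i))) = 0 ∧ QuadraticMap.polar ⇑Q (b (Sum.inl ())) (b (Sum.inr (Sum.inr i))) = 0) ∧ (∀ i, Q (b (Sum.inr (Sum.inl i))) = 0 ∧ Q (b (Sum.inr (Sum.inr i))) = 0) ∧ (∀ i j, QuadraticMap.polar ⇑Q (b (Sum.inr (Sum.inl i))) (b (Sum.inr (Sum.inr j))) = if i = j then 1 else 0) ∧ (∀ i j, QuadraticMap.polar ⇑Q (b (Sum.inr (Sum.inl i))) (b (Sum.inr (Sum.inl j))) = 0 ∧ QuadraticMap.polar ⇑Q (b (Sum.inr (Sum.inr i))) (b (Sum.inr (Sum.inr j))) = 0) := by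
  classical
  have := Fintype.ofFinite F
  have hnd : CfsgLib.Classical.Quad.NDPolar Q := fun x hx => hQ.1 x hx
  obtain ⟨k, r, e, f, W, hn, hr, hfam, hW, hani, horth, hWnd⟩ :=
    CfsgLib.FormsDisc.exists_decomp _ Q hnd hV
  obtain ⟨rfl, rfl⟩ : r = 1 ∧ k = m := by omega
  obtain ⟨x, hx, hx0⟩ := Submodule.exists_mem_ne_zero_of_ne_bot
    (fun h : W = ⊥ => by rw [h, finrank_bot] at hW; omega)
  have hli := CfsgLib.FormsDisc.linearIndependent_family Q hfam (fun _ : Unit => x)
    (Fintype.linearIndependent_iff.mpr fun g hg u => by simpa [hx0] using hg) (fun _ i => horth x hx i)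
  have hcard : Fintype.card ((Fin k ⊕ Fin k) ⊕ Unit) = Module.finrank F V := by
    simp [hV, two_mul]
  let b := (basisOfLinearIndependentOfCardEqFinrank hli hcard).reindex
    (Equiv.sumComm (Fin k ⊕ Fin k) Unit)
  have hb : ∀ i, b i = Sum.elim (fun _ => x) (Sum.elim e f) i := by
    intro i
    simp only [b, Module.Basis.reindex_apply, coe_basisOfLinearIndependentOfCardEqFinrank]
    rcases i with i | i | i <;> rfl
  refine ⟨b, ?_, ?_, ?_, ?_, ?_⟩ <;> simp only [hb, Sum.elim_inl, Sum.elim_inr]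
  · exact fun h => hx0 (hani x hx h)
  · exact fun i => ⟨by rw [QuadraticMap.polar_comm]; exact (horth x hx i).1,
      by rw [QuadraticMap.polar_comm]; exact (horth x hx i).2⟩
  · exact hfam.sing
  · exact hfam.pair
  · exact hfam.iso

end Cfsg.Agent.S2618
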