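import Cfsg.Statements.S2619


set_option autoImplicit false
open Cfsg

namespace Cfsg.Agent.S2619


/-- Over a finite field of characteristic two, given an alternating bilinear form B on a finite-dimensional space, a basis (v_i) and scalars (λ_i), there is exactly one quadratic form whose polar form is B and whose value at each v_i is λ_i. -/
theorem result {F V ι : Type*} [Field F] [Finite F] [CharP F 2] [AddCommGroup V] [Module F V] [Fintype ι] (b : Module.Basis ι F V) (B : LinearMap.BilinForm F V) (hB : B.IsAlt) (c : ι → F) : ∃! Q : QuadraticForm F V, QuadraticMap.polarBilin Q = B ∧ ∀ i, Q (b i) = c i := by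
  classical
  let e : ι ≃ Fin (Fintype.card ι) := Fintype.equivFin ι
  let t : ι → ι → F := fun i j => if i = j then c i else if e i < e j then B (b i) (b j) else 0
  let T : LinearMap.BilinForm F V := Matrix.toBilin b (Matrix.of t)
  have hT : ∀ i j, T (b i) (b j) = t i j := by
    intro i j
    simp [T, Matrix.toBilin_apply, Finset.sum_ite_eq', Finsupp.single_apply]
  have hsum : T + T.flip = B := by
    refine LinearMap.BilinForm.ext_basis b fun i j => ?_
    show T (b i) (b j) + T (b j) (b i) = _
    rw [hT, hT]
    by_cases h : i = j
    · subst h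
      simp [t, hB (b i), CharTwo.add_self_eq_zero]
    · have hswap : B (b j) (b i) = B (b i) (b j) := by
        rw [← LinearMap.IsAlt.neg hB (b i) (b j), CharTwo.neg_eq]
      simp only [t, if_neg h, if_neg (Ne.symm h)]
      rcases lt_trichotomy (e i) (e j) with h' | h' | h'
      · simp [h', h'.not_gt]
      · exact absurd (e.injective h') h
      · simp [h', h'.not_gt, hswap]
  refine ⟨LinearMap.BilinMap.toQuadraticMap T, ⟨?_, fun i => ?_⟩, ?_⟩
  · rw [LinearMap.BilinMap.polarBilin_toQuadraticMap]; exact hsum
  · simp [LinearMap.BilinMap.toQuadraticMap_apply, hT, t]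
  · rintro Q ⟨hQ, hQc⟩
    rw [← sub_eq_zero]
    set D := Q - LinearMap.BilinMap.toQuadraticMap T with hD
    have hpol : ∀ x y, QuadraticMap.polar D x y = 0 := by
      intro x y
      have h1 : QuadraticMap.polar Q x y = B x y := by
        rw [← hQ]; rfl
      have h2 : QuadraticMap.polar (LinearMap.BilinMap.toQuadraticMap T) x y = B x y := by
        have hp : QuadraticMap.polarBilin (LinearMap.BilinMap.toQuadraticMap T) = B :=
          LinearMap.BilinMap.polarBilin_toQuadraticMap.trans hsum
        rw [← hp]; rfl
      simp only [QuadraticMap.polar, hD, sub_apply] at h1 h2 ⊢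
      linear_combination h1 - h2
    have hadd : ∀ x y, D (x + y) = D x + D y := by
      intro x y
      have := hpol x y
      simp only [QuadraticMap.polar] at this
      linear_combination this
    let A : V →+ F := AddMonoidHom.mk' D hadd
    ext x
    rw [← b.sum_repr x]
    show A _ = 0
    rw [map_sum]
    refine Finset.sum_eq_zero fun i _ => ?_
    show D (b.repr x i • b i) = 0
    rw [QuadraticMap.map_smul, hD, sub_apply, hQc, LinearMap.BilinMap.toQuadraticMap_apply, hT]
    simp [t]

end Cfsg.Agent.S2619
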