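import Cfsg.Statements.S2620
import Cfsg.Agent.Lib.FormsDisc.Basic

set_option autoImplicit false
open Cfsg

namespace Cfsg.Agent.S2620

lemma det_plus (F : Type*) [Field F] (m : ℕ) :
    (Matrix.of fun i j : Fin m ⊕ Fin m => QuadraticMap.polar (Cfsg.quadFormPlus m F)
      (Pi.single i 1) (Pi.single j 1)).det = (-1) ^ m := by
  have h : (Matrix.of fun i j : Fin m ⊕ Fin m => QuadraticMap.polar (Cfsg.quadFormPlus m F)
      (Pi.single i 1) (Pi.single j 1)) = Matrix.fromBlocks 0 1 1 0 := by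
    ext i j
    rcases i with i | i <;> rcases j with j | j <;>
      simp [QuadraticMap.polar, Cfsg.quadFormPlus, Pi.single_apply, Matrix.one_apply,
        add_mul, mul_add, Finset.sum_add_distrib, eq_comm]
  have h2 : (Matrix.fromBlocks 0 1 1 0 : Matrix (Fin m ⊕ Fin m) (Fin m ⊕ Fin m) F) *
      Matrix.fromBlocks 1 0 0 (-1) * Matrix.fromBlocks 1 0 1 1 =
      Matrix.fromBlocks (-1) (-1) 1 0 := by
    simp [Matrix.fromBlocks_multiply]
  have h3 : (Matrix.fromBlocks (-1) (-1) 1 0 : Matrix (Fin m ⊕ Fin m) (Fin m ⊕ Fin m) F).det = 1 := by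
    have : (Matrix.fromBlocks (-1) (-1) 1 0 : Matrix (Fin m ⊕ Fin m) (Fin m ⊕ Fin m) F) =
        Matrix.fromBlocks 1 (-1) 0 1 * Matrix.fromBlocks 1 0 1 1 * Matrix.fromBlocks 1 (-1) 0 1 * Matrix.fromBlocks 1 0 1 1 := by
      simp [Matrix.fromBlocks_multiply]
    rw [this]; simp
  rw [← h2] at h3
  simp only [Matrix.det_mul, Matrix.det_fromBlocks_zero₁₂, Matrix.det_one, one_mul, mul_one,
    Matrix.det_neg, Fintype.card_fin] at h3
  rw [h]
  calc _ = (Matrix.fromBlocks 0 1 1 0 : Matrix (Fin m ⊕ Fin m) (Fin m ⊕ Fin m) F).det *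
        (-1) ^ m * (-1) ^ m := by rw [mul_assoc, ← mul_pow]; simp
    _ = _ := by rw [h3, one_mul]


/-- Discriminant of the hyperbolic quadratic form Σ_(i<m) x_i y_i over a field with q elements, q odd, m ≥ 1: the determinant of the Gram matrix of its polar form in any basis is a square if and only if m(q − 1)/2 is even (equivalently q^m ≡ 1 (mod 4)). -/
theorem result {F : Type*} [Field F] [Fintype F] {q : ℕ} (hF : Fintype.card F = q) (hq : Odd q) {m : ℕ} (hm : 1 ≤ m) {ι : Type*} [Fintype ι] [DecidableEq ι] (b : Module.Basis ι F (Fin m ⊕ Fin m → F)) : IsSquare (Matrix.of (fun i j : ι => QuadraticMap.polar (Cfsg.quadFormPlus m F) (b i) (b j))).det ↔ Even (m * (q - 1) / 2) := by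
  obtain ⟨d, hd, hdet⟩ := CfsgLib.FormsDisc.gram_det_basis
    (Matrix.toBilin' (Matrix.of fun i j : Fin m ⊕ Fin m => QuadraticMap.polar (Cfsg.quadFormPlus m F)
      (Pi.single i 1) (Pi.single j 1))) b (Pi.basisFun F _)
  have hpol : ∀ u v : Fin m ⊕ Fin m → F, QuadraticMap.polar (Cfsg.quadFormPlus m F) u v =
      ∑ i, (u (.inl i) * v (.inr i) + u (.inr i) * v (.inl i)) := by
    intro u v
    simp only [QuadraticMap.polar, Cfsg.quadFormPlus, Pi.add_apply, ← Finset.sum_sub_distrib]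
    exact Finset.sum_congr rfl fun i _ => by ring
  have hB : ∀ u v, Matrix.toBilin' (Matrix.of fun i j : Fin m ⊕ Fin m =>
      QuadraticMap.polar (Cfsg.quadFormPlus m F) (Pi.single i 1) (Pi.single j 1)) u v =
      QuadraticMap.polar (Cfsg.quadFormPlus m F) u v := by
    intro u v
    rw [Matrix.toBilin'_apply, hpol]
    simp [hpol, Fintype.sum_sum_type, Pi.single_apply, Finset.sum_add_distrib, add_comm]
  simp only [hB, Pi.basisFun_apply] at hdet
  rw [hdet, det_plus, CfsgLib.FormsDisc.isSquare_mul_sq_iff hd]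
  subst hF
  obtain ⟨t, ht⟩ := hq
  have hkey : m * (Fintype.card F - 1) / 2 = m * t := by
    rw [ht, Nat.add_sub_cancel, ← mul_assoc, mul_comm m 2, mul_assoc, Nat.mul_div_cancel_left _ two_pos]
  rw [hkey, Nat.even_mul]
  rcases Nat.even_or_odd m with hm2 | hm2
  · simp [hm2, hm2.neg_one_pow]
  · simp only [hm2.neg_one_pow, FiniteField.isSquare_neg_one_iff, Nat.not_even_iff_odd.2 hm2,
      false_or, Nat.even_iff]
    omega

end Cfsg.Agent.S2620
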