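import Cfsg.Statements.S2621
import Cfsg.Agent.Lib.FormsDisc.Basic
import Cfsg.Agent.S2620

set_option autoImplicit false
open Cfsg

namespace Cfsg.Agent.S2621

/-- Discriminant of an elliptic quadratic form Σ_(i<m−1) x_i y_i + z₁² + a z₁z₂ + c z₂² (binary part anisotropic) in dimension 2m over a field with q elements, q odd, m ≥ 1: the determinant of the Gram matrix of its polar form in any basis is a square if and only if m(q − 1)/2 is odd (equivalently q^m ≡ 3 (mod 4)). -/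
theorem result {F : Type*} [Field F] [Fintype F] {q : ℕ} (hF : Fintype.card F = q) (hq : Odd q) {m : ℕ} (hm : 1 ≤ m) (a c : F) (hac : ∀ z₁ z₂ : F, z₁ ^ 2 + a * z₁ * z₂ + c * z₂ ^ 2 = 0 → z₁ = 0 ∧ z₂ = 0) {ι : Type*} [Fintype ι] [DecidableEq ι] (b : Module.Basis ι F ((Fin (m - 1) ⊕ Fin (m - 1)) ⊕ Fin 2 → F)) : IsSquare (Matrix.of (fun i j : ι => QuadraticMap.polar (Cfsg.quadFormMinus (m - 1) F a c) (b i) (b j))).det ↔ ¬ Even (m * (q - 1) / 2) := by
  classical
  let G : Matrix ((Fin (m - 1) ⊕ Fin (m - 1)) ⊕ Fin 2) ((Fin (m - 1) ⊕ Fin (m - 1)) ⊕ Fin 2) F :=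
    Matrix.fromBlocks (Matrix.of fun i j : Fin (m - 1) ⊕ Fin (m - 1) =>
      QuadraticMap.polar (Cfsg.quadFormPlus (m - 1) F) (Pi.single i 1) (Pi.single j 1)) 0 0 !![2, a; a, 2 * c]
  have hpolp : ∀ u v : Fin (m - 1) ⊕ Fin (m - 1) → F,
      QuadraticMap.polar (Cfsg.quadFormPlus (m - 1) F) u v =
        ∑ i, (u (.inl i) * v (.inr i) + u (.inr i) * v (.inl i)) := by
    intro u v
    simp only [QuadraticMap.polar, Cfsg.quadFormPlus, Pi.add_apply, ← Finset.sum_sub_distrib]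
    exact Finset.sum_congr rfl fun i _ => by ring
  have hpol : ∀ u v, QuadraticMap.polar (Cfsg.quadFormMinus (m - 1) F a c) u v =
      (∑ i, (u (.inl (.inl i)) * v (.inl (.inr i)) + u (.inl (.inr i)) * v (.inl (.inl i)))) +
        (2 * u (.inr 0) * v (.inr 0) + a * (u (.inr 0) * v (.inr 1) + u (.inr 1) * v (.inr 0))
          + 2 * c * u (.inr 1) * v (.inr 1)) := by
    intro u v
    have h1 := hpolp (u ∘ Sum.inl) (v ∘ Sum.inl)
    simp only [QuadraticMap.polar, Cfsg.quadFormPlus, Cfsg.quadFormMinus, Pi.add_apply,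
      Function.comp_apply] at h1 ⊢
    linear_combination h1
  have hB : ∀ u v, Matrix.toBilin' G u v =
      QuadraticMap.polar (Cfsg.quadFormMinus (m - 1) F a c) u v := by
    intro u v
    rw [Matrix.toBilin'_apply, hpol]
    simp [G, hpolp, Fintype.sum_sum_type, Pi.single_apply, Finset.sum_add_distrib, Fin.sum_univ_two]
    ring
  obtain ⟨d, hd, hdet⟩ := CfsgLib.FormsDisc.gram_det_basis (Matrix.toBilin' G) b (Pi.basisFun F _)
  have hG : (Matrix.of fun i j => Matrix.toBilin' G (Pi.basisFun F _ i) (Pi.basisFun F _ j)) = G := by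
    ext i j; simp [Matrix.toBilin'_single]
  rw [hG] at hdet
  simp only [hB] at hdet
  rw [hdet, CfsgLib.FormsDisc.isSquare_mul_sq_iff hd, Matrix.det_fromBlocks_zero₂₁,
    Cfsg.Agent.S2620.det_plus, Matrix.det_fin_two_of]
  have h2 : (2 : F) ≠ 0 := CfsgLib.FormsDisc.two_ne_zero_of_card_odd hF hq
  have hns : ¬ IsSquare (a ^ 2 - 4 * c) := by
    rintro ⟨s, hs⟩
    have := hac ((-a + s) / 2) 1 (by field_simp; linear_combination -hs)
    exact one_ne_zero this.2
  have hne : (2 * (2 * c) - a * a) ≠ 0 := fun h0 => hns ⟨0, by linear_combination -h0⟩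
  have key : ¬ IsSquare (((-1 : F) ^ (m - 1) * (2 * (2 * c) - a * a)) * (-1) ^ m) := by
    intro h
    apply hns
    obtain ⟨k, rfl⟩ : ∃ k, m = k + 1 := ⟨m - 1, by omega⟩
    have e : ((-1 : F) ^ (k + 1 - 1) * (2 * (2 * c) - a * a)) * (-1) ^ (k + 1) =
        (a ^ 2 - 4 * c) * ((-1 : F) ^ k) ^ 2 := by
      rw [Nat.add_sub_cancel]; ring
    rw [e] at h
    exact (CfsgLib.FormsDisc.isSquare_mul_sq_iff (pow_ne_zero k (by simp))).1 h
  rw [CfsgLib.FormsDisc.isSquare_mul_iff_of_odd h2 (mul_ne_zero (pow_ne_zero _ (by simp)) hne)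
    (pow_ne_zero _ (by simp))] at key
  have h0 := Cfsg.Agent.S2620.result hF hq hm (Pi.basisFun F (Fin m ⊕ Fin m))
  simp only [Pi.basisFun_apply] at h0
  rw [Cfsg.Agent.S2620.det_plus] at h0
  rw [← h0]
  tauto

end Cfsg.Agent.S2621
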