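import Cfsg.Statements.S2622


set_option autoImplicit false
open Cfsg

namespace Cfsg.Agent.S2622

universe u v

/-- The key step: a unit vector whose orthogonal complement is again non-alternating. -/
lemma exists_pair {F : Type u} [Field F] [Finite F] [CharP F 2] {V : Type v} [AddCommGroup V]
    [Module F V] [FiniteDimensional F V] (B : LinearMap.BilinForm F V) (hS : B.IsSymm)
    (hB : B.Nondegenerate) (hna : ∃ v : V, B v v ≠ 0) :
    ∃ v : V, B v v = 1 ∧ (2 ≤ Module.finrank F V → ∃ w, B v w = 0 ∧ B w w ≠ 0) := by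
  obtain ⟨v, hv⟩ := hna
  have := Fintype.ofFinite F
  obtain ⟨s, hs⟩ := FiniteField.isSquare_of_char_two (ringChar.eq F 2) (B v v)⁻¹
  have h1 : B (s • v) (s • v) = 1 := by
    simp only [map_smul, LinearMap.smul_apply, smul_eq_mul]
    rw [← mul_assoc, ← hs, inv_mul_cancel₀ hv]
  clear hs hv
  generalize s • v = v at h1
  clear s
  by_cases halt : ∃ w, B v w = 0 ∧ B w w ≠ 0
  · exact ⟨v, h1, fun _ => halt⟩
  push Not at halt
  by_cases hdim : 2 ≤ Module.finrank F V
  · obtain ⟨e, he, hve⟩ : ∃ e, e ≠ 0 ∧ B v e = 0 := by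
      by_contra! h
      have hker : LinearMap.ker (B v) = ⊥ := by
        rw [Submodule.eq_bot_iff]
        intro x hx
        by_contra hx0
        exact h x hx0 hx
      have h2 := LinearMap.finrank_le_finrank_of_injective (LinearMap.ker_eq_bot.1 hker)
      rw [Module.finrank_self] at h2
      omega
    obtain ⟨f, hef⟩ : ∃ f, B e f = 1 := by
      obtain ⟨g, hg⟩ : ∃ g, B e g ≠ 0 := by
        by_contra! h
        exact he (hB.1 e h)
      exact ⟨(B e g)⁻¹ • g, by simp [hg]⟩
    set f' := f - B v f • v with hf'
    have hev : B e v = 0 := by rw [← LinearMap.BilinForm.IsSymm.eq hS]; exact hve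
    have hvf : B v f' = 0 := by simp [hf', h1]
    have hef' : B e f' = 1 := by simp [hf', hev, hef]
    have hee : B e e = 0 := halt e hve
    have hff : B f' f' = 0 := halt f' hvf
    have hfe : B f' e = 1 := by rw [← LinearMap.BilinForm.IsSymm.eq hS]; exact hef'
    have hfv : B f' v = 0 := by rw [← LinearMap.BilinForm.IsSymm.eq hS]; exact hvf
    refine ⟨v + e, ?_, fun _ => ⟨v + f', ?_, ?_⟩⟩
    · simp [hev, hve, hee, h1]
    · simp [hev, hvf, hef', h1, CharTwo.add_self_eq_zero]
    · simp [hfv, hvf, hff, h1]
  · exact ⟨v, h1, fun h => absurd h hdim⟩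

lemma exists_family {F : Type u} [Field F] [Finite F] [CharP F 2] :
    ∀ (n : ℕ) {V : Type v} [AddCommGroup V] [Module F V] [FiniteDimensional F V]
      (B : LinearMap.BilinForm F V), B.IsSymm → B.Nondegenerate → (∃ v : V, B v v ≠ 0) →
      Module.finrank F V = n → ∃ f : Fin n → V, ∀ i j, B (f i) (f j) = if i = j then 1 else 0 := by
  intro n
  induction n with
  | zero => intro V _ _ _ B _ _ _ _; exact ⟨Fin.elim0, fun i => i.elim0⟩
  | succ n ih =>
    intro V _ _ _ B hS hB hna hV
    obtain ⟨v, hv, hw⟩ := exists_pair B hS hB hna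
    let W := B.orthogonal (F ∙ v)
    have hv0 : B v v ≠ 0 := by simp [hv]
    have hR : B.IsRefl := LinearMap.BilinForm.IsSymm.isRefl hS
    have hmem : ∀ w, w ∈ W ↔ B v w = 0 := fun w =>
      ⟨fun h => h v (Submodule.mem_span_singleton_self v), fun h x hx => by
        obtain ⟨c, rfl⟩ := Submodule.mem_span_singleton.1 hx
        show B (c • v) w = 0
        simp [h]⟩
    have hv' : v ≠ 0 := fun h => hv0 (by simp [h])
    have hfin := Submodule.finrank_add_eq_of_isCompl
      (LinearMap.BilinForm.isCompl_span_singleton_orthogonal (B := B) hv0)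
    rw [finrank_span_singleton hv', hV] at hfin
    have hWn : Module.finrank F W = n := by simp only [W]; omega
    rcases Nat.eq_zero_or_pos n with rfl | hn
    · exact ⟨fun _ => v, fun i j => by fin_cases i; fin_cases j; simp [hv]⟩
    obtain ⟨w, hw1, hw2⟩ := hw (by omega)
    obtain ⟨f, hf⟩ := ih (B.restrict W) ⟨fun x y => LinearMap.BilinForm.IsSymm.eq hS (x : V) y⟩
      (LinearMap.BilinForm.restrict_nondegenerate_orthogonal_spanSingleton B hB hR hv0)
      ⟨⟨w, (hmem w).2 hw1⟩, hw2⟩ hWn
    refine ⟨Fin.cons v (fun i => (f i : V)), fun i j => ?_⟩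
    refine Fin.cases ?_ (fun i => ?_) i <;> refine Fin.cases ?_ (fun j => ?_) j
    · simp [hv]
    · simpa [(Fin.succ_ne_zero j).symm] using (hmem _).1 (f j).2
    · simpa [Fin.succ_ne_zero i] using hR _ _ ((hmem _).1 (f i).2)
    · simpa using hf i j


/-- Over a finite field of characteristic two, a non-degenerate symmetric bilinear form that is not alternating (some vector v has B(v, v) ≠ 0) admits an orthonormal basis. -/
theorem result {F V : Type*} [Field F] [Finite F] [CharP F 2] [AddCommGroup V] [Module F V] [FiniteDimensional F V] {n : ℕ} (hV : Module.finrank F V = n) (B : LinearMap.BilinForm F V) (hS : B.IsSymm) (hB : B.Nondegenerate) (hna : ∃ v : V, B v v ≠ 0) : ∃ b : Module.Basis (Fin n) F V, ∀ i j, B (b i) (b j) = if i = j then 1 else 0 := by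
  exact (exists_family n B hS hB hna hV).elim fun f hf => by
    have hli : LinearIndependent F f := by
      rw [Fintype.linearIndependent_iff]
      intro g hg i
      have := congrArg (fun w => B (f i) w) hg
      simpa [hf] using this
    rcases n with _ | n
    · exact absurd (by
        obtain ⟨v, hv⟩ := hna
        have : Subsingleton V := Module.finrank_zero_iff.1 hV
        exact hv (by rw [Subsingleton.elim v 0]; simp)) not_false
    · refine ⟨basisOfLinearIndependentOfCardEqFinrank hli (by simp [hV]), fun i j => ?_⟩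
      simpa using hf i j

end Cfsg.Agent.S2622
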