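import Cfsg.Statements.S2624
import Cfsg.Agent.Lib.FormsDisc.Basic

set_option autoImplicit false
open Cfsg

namespace Cfsg.Agent.S2624


/-- For a quadratic form Q on F^n with non-degenerate polar form, F finite and n ≥ 2 even, every non-zero scalar c is the multiplier of some similarity: there is an invertible linear map g with Q(g v) = c·Q(v) for all v. -/
theorem result {F : Type*} [Field F] [Fintype F] {n : ℕ} (hn : 2 ≤ n) (he : Even n) (Q : QuadraticForm F (Fin n → F)) (hQ : (QuadraticMap.polarBilin Q).Nondegenerate) (c : F) (hc : c ≠ 0) : ∃ g : (Fin n → F) ≃ₗ[F] (Fin n → F), ∀ v, Q (g v) = c * Q v := by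
  classical
  by_cases h2 : (2 : F) = 0
  · have : CharP F 2 := CharTwo.of_one_ne_zero_of_two_eq_zero one_ne_zero h2
    obtain ⟨s, hs⟩ := FiniteField.isSquare_of_char_two (ringChar.eq F 2) c
    have hs0 : s ≠ 0 := by rintro rfl; exact hc (by rw [hs, mul_zero])
    refine ⟨LinearEquiv.smulOfNeZero F (Fin n → F) s hs0, fun v => ?_⟩
    show Q (s • v) = c * Q v
    rw [QuadraticMap.map_smul, hs, smul_eq_mul]
  · have hb : QuadraticMap.polarBilin (c • Q) = c • QuadraticMap.polarBilin Q := by
      refine LinearMap.ext₂ fun u v => ?_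
      simp [QuadraticMap.polar, mul_sub]
    have hcQ : (QuadraticMap.polarBilin (c • Q)).Nondegenerate := by
      rw [hb]
      refine ⟨fun u hu => hQ.1 u fun v => ?_, fun v hv => hQ.2 v fun u => ?_⟩
      · simpa [hc] using hu v
      · simpa [hc] using hv u
    have hdet : IsSquare ((Matrix.of fun i j : Fin n => QuadraticMap.polar ⇑(c • Q) (Pi.single i 1) (Pi.single j 1)).det *
        (Matrix.of fun i j : Fin n => QuadraticMap.polar ⇑Q (Pi.single i 1) (Pi.single j 1)).det) := by
      have h : (Matrix.of fun i j : Fin n => QuadraticMap.polar ⇑(c • Q) (Pi.single i 1) (Pi.single j 1)) =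
          c • Matrix.of fun i j : Fin n => QuadraticMap.polar ⇑Q (Pi.single i 1) (Pi.single j 1) := by
        ext i j
        simp [QuadraticMap.polar, mul_sub]
      rw [h, Matrix.det_smul, Fintype.card_fin]
      obtain ⟨k, rfl⟩ := he
      exact ⟨c ^ k * (Matrix.of fun i j : Fin (k + k) =>
        QuadraticMap.polar ⇑Q (Pi.single i 1) (Pi.single j 1)).det, by ring⟩
    obtain ⟨e⟩ := CfsgLib.FormsDisc.equivalent_of_disc h2 (c • Q) Q hcQ hQ hdet
    exact ⟨e.toLinearEquiv, fun v => by simpa using e.map_app v⟩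

end Cfsg.Agent.S2624
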