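import Cfsg.Statements.S2625
import Cfsg.Agent.Lib.FormsDisc.Basic

set_option autoImplicit false
open Cfsg

namespace Cfsg.Agent.S2625


/-- For a quadratic form Q on F^n with non-degenerate polar form, F finite and n odd (so |F| is odd), the multiplier of any similarity is a square: if g is an invertible linear map with Q(g v) = c·Q(v) for all v then c is a square. -/
theorem result {F : Type*} [Field F] [Fintype F] {n : ℕ} (hn : Odd n) (Q : QuadraticForm F (Fin n → F)) (hQ : (QuadraticMap.polarBilin Q).Nondegenerate) (g : (Fin n → F) ≃ₗ[F] (Fin n → F)) (c : F) (hg : ∀ v, Q (g v) = c * Q v) : IsSquare c := by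
  classical
  set B := QuadraticMap.polarBilin Q
  let b := Pi.basisFun F (Fin n)
  obtain ⟨d, hd, hdet⟩ := CfsgLib.FormsDisc.gram_det_basis B (b.map g) b
  have hM : (Matrix.of fun i j : Fin n => B (b i) (b j)).det ≠ 0 := by
    have : (Matrix.of fun i j : Fin n => B (b i) (b j)) = LinearMap.BilinForm.toMatrix b B := by
      ext i j; simp [LinearMap.BilinForm.toMatrix_apply]
    rw [this]
    exact (LinearMap.BilinForm.nondegenerate_iff_det_ne_zero b).1 hQ
  have hsc : (Matrix.of fun i j : Fin n => B ((b.map g) i) ((b.map g) j)) =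
      c • Matrix.of fun i j : Fin n => B (b i) (b j) := by
    ext i j
    simp only [B, Matrix.of_apply, Matrix.smul_apply, Module.Basis.map_apply,
      QuadraticMap.polarBilin_apply_apply, QuadraticMap.polar, ← map_add, hg, smul_eq_mul]
    ring
  rw [hsc, Matrix.det_smul, Fintype.card_fin] at hdet
  obtain ⟨k, rfl⟩ := hn
  have hc : c ≠ 0 := by
    rintro rfl
    rw [zero_pow (by omega), zero_mul] at hdet
    exact mul_ne_zero hM (pow_ne_zero 2 hd) hdet.symm
  refine ⟨d / c ^ k, ?_⟩
  have h1 : c ^ (2 * k + 1) = d ^ 2 := mul_right_cancel₀ hM (by linear_combination hdet)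
  field_simp
  linear_combination h1

end Cfsg.Agent.S2625
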