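import Cfsg.Statements.S2626


set_option autoImplicit false
open Cfsg

namespace Cfsg.Agent.S2626

/-- Ω of an orthogonal direct sum contains the product of the Ω's: for quadratic forms Q₁ on F^k and Q₂ on F^l with non-degenerate polar forms (F finite) and Q = Q₁ ⊕ Q₂ on F^(k+l), if g₁ lies in Ω(Q₁) and g₂ in Ω(Q₂) (commutator subgroups of the orthogonal groups) then the block-diagonal isometry diag(g₁, g₂) lies in Ω(Q). -/
theorem result {F : Type*} [Field F] [Fintype F] {k l : ℕ} (Q₁ : QuadraticForm F (Fin k → F)) (Q₂ : QuadraticForm F (Fin l → F)) (h₁ : (QuadraticMap.polarBilin Q₁).Nondegenerate) (h₂ : (QuadraticMap.polarBilin Q₂).Nondegenerate) (g₁ : ↥(Cfsg.isometryGroup F ⇑Q₁)) (g₂ : ↥(Cfsg.isometryGroup F ⇑Q₂)) (hg₁ : g₁ ∈ Cfsg.Omega F ⇑Q₁) (hg₂ : g₂ ∈ Cfsg.Omega F ⇑Q₂) : ∃ g : ↥(Cfsg.isometryGroup F (fun v : Fin k ⊕ Fin l → F => Q₁ (v ∘ Sum.inl) + Q₂ (v ∘ Sum.inr))), g ∈ Cfsg.Omega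 F (fun v : Fin k ⊕ Fin l → F => Q₁ (v ∘ Sum.inl) + Q₂ (v ∘ Sum.inr)) ∧ ((g : Matrix.GeneralLinearGroup (Fin k ⊕ Fin l) F) : Matrix (Fin k ⊕ Fin l) (Fin k ⊕ Fin l) F) = Matrix.fromBlocks ((g₁ : Matrix.GeneralLinearGroup (Fin k) F) : Matrix (Fin k) (Fin k) F) 0 0 ((g₂ : Matrix.GeneralLinearGroup (Fin l) F) : Matrix (Fin l) (Fin l) F) := by
  classical
  let S := Cfsg.isometryGroup F (fun v : Fin k ⊕ Fin l → F => Q₁ (v ∘ Sum.inl) + Q₂ (v ∘ Sum.inr))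
  let toMat : ↥(Cfsg.isometryGroup F ⇑Q₁) × ↥(Cfsg.isometryGroup F ⇑Q₂) →*
      Matrix (Fin k ⊕ Fin l) (Fin k ⊕ Fin l) F :=
    { toFun := fun p => Matrix.fromBlocks ((p.1 : GL (Fin k) F) : Matrix (Fin k) (Fin k) F) 0 0
        ((p.2 : GL (Fin l) F) : Matrix (Fin l) (Fin l) F)
      map_one' := by simp
      map_mul' := fun p q => by simp [Matrix.fromBlocks_multiply] }
  have hmem : ∀ p, toMat.toHomUnits p ∈ S := by
    intro p u v
    show (Q₁ ((toMat p).mulVec u ∘ Sum.inl) + Q₂ ((toMat p).mulVec u ∘ Sum.inr)) = _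
    simp only [toMat, MonoidHom.coe_mk, OneHom.coe_mk, Matrix.fromBlocks_mulVec, Matrix.zero_mulVec,
      add_zero, zero_add, Sum.elim_comp_inl, Sum.elim_comp_inr]
    exact congrArg₂ (· + ·) (p.1.2 (u ∘ Sum.inl) (u ∘ Sum.inl)) (p.2.2 (u ∘ Sum.inr) (u ∘ Sum.inr))
  let φ := toMat.toHomUnits.codRestrict S hmem
  have h1 : ∀ g : ↥(Cfsg.isometryGroup F ⇑Q₁), g ∈ Cfsg.Omega F ⇑Q₁ → φ (g, 1) ∈ commutator S := by
    intro g hg
    have := Subgroup.map_mono (f := φ.comp (MonoidHom.inl _ _)) (le_refl (commutator _))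
      (Subgroup.mem_map_of_mem _ hg)
    rw [commutator_def, Subgroup.map_commutator] at this
    exact (Subgroup.commutator_mono le_top le_top) this
  have h2 : ∀ g : ↥(Cfsg.isometryGroup F ⇑Q₂), g ∈ Cfsg.Omega F ⇑Q₂ → φ (1, g) ∈ commutator S := by
    intro g hg
    have := Subgroup.map_mono (f := φ.comp (MonoidHom.inr _ _)) (le_refl (commutator _))
      (Subgroup.mem_map_of_mem _ hg)
    rw [commutator_def, Subgroup.map_commutator] at this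
    exact (Subgroup.commutator_mono le_top le_top) this
  refine ⟨φ (g₁, g₂), ?_, rfl⟩
  rw [show (g₁, g₂) = (g₁, 1) * ((1 : ↥(Cfsg.isometryGroup F ⇑Q₁)), g₂) by simp, map_mul]
  exact mul_mem (h1 _ hg₁) (h2 _ hg₂)

end Cfsg.Agent.S2626
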