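import Cfsg.Statements.S2627
import Cfsg.Agent.Lib.OrthCrit.Forms

set_option autoImplicit false
open Cfsg

namespace Cfsg.Agent.S2627

/-- For an orthogonal direct sum Q = Q₁ ⊕ Q₂ of quadratic forms with non-degenerate polar forms over a finite field, an isometry g₁ of Q₁ extended by the identity on the second summand lies in Ω(Q) (the commutator subgroup of the orthogonal group of Q) if and only if g₁ lies in Ω(Q₁). (Excluded: the field of two elements when the first summand or the whole space has dimension 4, where the commutator subgroup of O⁺₄(2) is smaller than the group usually called Ω.) -/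
theorem result {F : Type*} [Field F] [Fintype F] {k l : ℕ} (h : Fintype.card F ≠ 2 ∨ (k ≠ 4 ∧ k + l ≠ 4)) (Q₁ : QuadraticForm F (Fin k → F)) (Q₂ : QuadraticForm F (Fin l → F)) (h₁ : (QuadraticMap.polarBilin Q₁).Nondegenerate) (h₂ : (QuadraticMap.polarBilin Q₂).Nondegenerate) (g₁ : ↥(Cfsg.isometryGroup F ⇑Q₁)) : (∃ g : ↥(Cfsg.isometryGroup F (fun v : Fin k ⊕ Fin l → F => Q₁ (v ∘ Sum.inl) + Q₂ (v ∘ Sum.inr))), g ∈ Cfsg.Omega F (fun v : Fin k ⊕ Fin l → F => Q₁ (v ∘ Sum.inl) + Q₂ (v ∘ Sum.inr)) ∧ ((g : Matrix.GeneralLinearGroup (Fin k ⊕ Fin l) F) : Matrix (Fin k ⊕ Fin l) (Fin k ⊕ Fin l) F) = Matrix.fromBlocks ((g₁ : Matrix.GeneralLinearGroup (Fin k) F) : Matrix (Fin k) (Fin k) F) 0 0 1) ↔ g₁ ∈ Cfsg.Omega F ⇑Q₁ := by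
  classical
  have hnd₁ := CfsgLib.Orth.ndPolar_iff.mpr h₁
  have hnd₂ := CfsgLib.Orth.ndPolar_iff.mpr h₂
  let Q := CfsgLib.OrthCrit.sumForm Q₁ Q₂
  have hnd : CfsgLib.Classical.Quad.NDPolar Q := CfsgLib.OrthCrit.ndPolar_sumForm hnd₁ hnd₂
  constructor
  · rintro ⟨g, hg, hgM⟩
    obtain rfl : g = CfsgLib.OrthCrit.diagHom (Q₁ := Q₁) (Q₂ := Q₂) (g₁, 1) :=
      CfsgLib.OrthSpinor.eq_of_matrix Q (hgM.trans (by rw [CfsgLib.OrthCrit.diagHom_coe]; simp))
    have hreg : CfsgLib.OrthCrit.Regular F (Fin k ⊕ Fin l) :=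
      CfsgLib.OrthCrit.regular_of_card (n := k + l) (by simp) (h.imp_right And.right)
    have hreg₁ : CfsgLib.OrthCrit.Regular F (Fin k) :=
      CfsgLib.OrthCrit.regular_of_card (n := k) (by simp) (h.imp_right And.left)
    have hp := CfsgLib.OrthCrit.parity_of_mem_Omega (Q := Q) hnd hreg hg
    rw [CfsgLib.OrthCrit.parity_diagHom, CfsgLib.OrthCrit.parity_one, add_zero] at hp
    rcases Nat.eq_zero_or_pos k with rfl | hk
    · rw [Subsingleton.elim g₁ 1]; exact one_mem _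
    have : Nonempty (Fin k) := ⟨⟨0, hk⟩⟩
    by_cases h2 : (2 : F) = 0
    · have := CfsgLib.OrthCrit.charP_two_of h2
      exact (CfsgLib.OrthCrit.mem_Omega_iff_char_two hnd₁ hreg₁
        (CfsgLib.OrthCrit.exists_Q_ne_zero hnd₁) g₁).mpr hp
    · by_cases hk2 : 2 ≤ k
      · refine (CfsgLib.OrthCrit.mem_Omega_iff_odd hnd₁ h2 (by simpa using hk2) g₁).mpr ⟨hp, ?_⟩
        rw [← CfsgLib.OrthCrit.theta_diagHom_inl (Q₂ := Q₂) hnd₁ h2 g₁]
        exact MonoidHom.mem_ker.mp (Abelianization.commutator_subset_ker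
          (CfsgLib.OrthSpinor.theta (Q := Q) 1) hg)
      · obtain rfl : k = 1 := by omega
        have hd := (CfsgLib.OrthCrit.det_eq_one_iff_parity hnd₁ h2 g₁).mpr hp
        rw [Matrix.det_fin_one] at hd
        have hg1 : g₁ = 1 := CfsgLib.OrthSpinor.eq_of_matrix Q₁ (Matrix.ext fun i j => by
          rw [Subsingleton.elim i 0, Subsingleton.elim j 0]; simpa using hd)
        rw [hg1]; exact one_mem _
  · intro hg₁
    refine ⟨CfsgLib.OrthCrit.diagHom (Q₁ := Q₁) (Q₂ := Q₂) (g₁, 1), ?_, by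
      rw [CfsgLib.OrthCrit.diagHom_coe]; simp⟩
    have h3 := Subgroup.mem_map_of_mem
      (CfsgLib.OrthCrit.diagHom.comp (MonoidHom.inl _ (↥(Cfsg.isometryGroup F ⇑Q₂)))) hg₁
    rw [Cfsg.Omega, commutator_def, Subgroup.map_commutator] at h3
    exact Subgroup.commutator_mono le_top le_top h3

end Cfsg.Agent.S2627
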