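import Cfsg.Statements.S2628
import Cfsg.Agent.Lib.OrthCrit.Forms

set_option autoImplicit false
open Cfsg

namespace Cfsg.Agent.S2628

/-- For the orthogonal direct sum Q ⊕ Q of two copies of a quadratic form Q with non-degenerate polar form on F^k (F finite), every isometry g of Q acting diagonally, diag(g, g), lies in Ω(Q ⊕ Q), the commutator subgroup of the orthogonal group of Q ⊕ Q. (Excluded: k = 2 over the field of two elements, where Q ⊕ Q is the hyperbolic 4-space whose orthogonal group's commutator subgroup is smaller than the group usually called Ω.) -/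
theorem result {F : Type*} [Field F] [Fintype F] {k : ℕ} (h : Fintype.card F ≠ 2 ∨ k ≠ 2) (Q : QuadraticForm F (Fin k → F)) (hQ : (QuadraticMap.polarBilin Q).Nondegenerate) (g : ↥(Cfsg.isometryGroup F ⇑Q)) : ∃ x : ↥(Cfsg.isometryGroup F (fun v : Fin k ⊕ Fin k → F => Q (v ∘ Sum.inl) + Q (v ∘ Sum.inr))), x ∈ Cfsg.Omega F (fun v : Fin k ⊕ Fin k → F => Q (v ∘ Sum.inl) + Q (v ∘ Sum.inr)) ∧ ((x : Matrix.GeneralLinearGroup (Fin k ⊕ Fin k) F) : Matrix (Fin k ⊕ Fin k) (Fin k ⊕ Fin k) F) = Matrix.fromBlocks ((g : Matrix.GeneralLinearGroup (Fin k) F) : Matrix (Fin k) (Fin k) F) 0 0 ((g : Matrix.GeneralLinearGroup (Fin k) F) : Matrix (Fin k) (Fin k) F) := by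
  classical
  have hnd₁ := CfsgLib.Orth.ndPolar_iff.mpr hQ
  let QQ := CfsgLib.OrthCrit.sumForm Q Q
  have hnd : CfsgLib.Classical.Quad.NDPolar QQ := CfsgLib.OrthCrit.ndPolar_sumForm hnd₁ hnd₁
  refine ⟨CfsgLib.OrthCrit.diagHom (Q₁ := Q) (Q₂ := Q) (g, g), ?_, rfl⟩
  rcases Nat.eq_zero_or_pos k with rfl | hk
  · rw [Subsingleton.elim g 1, Prod.mk_one_one, map_one]; exact one_mem _
  have hreg : CfsgLib.OrthCrit.Regular F (Fin k ⊕ Fin k) :=
    CfsgLib.OrthCrit.regular_of_card (n := k + k) (by simp) (h.imp_right fun h => by omega)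
  refine CfsgLib.OrthCrit.mem_Omega (Q := QQ) hnd hreg
    (by simp only [Fintype.card_sum, Fintype.card_fin]; omega) ?_ fun h2 => ?_
  · rw [CfsgLib.OrthCrit.parity_diagHom]
    exact CharTwo.add_self_eq_zero _
  · -- the swap of the two summands conjugates one factor into the other
    let s : ↥(Cfsg.isometryGroup F ⇑QQ) := CfsgLib.OrthSpinor.mkIsometry QQ (Matrix.fromBlocks 0 1 1 0)
      (Matrix.fromBlocks 0 1 1 0) (by simp [Matrix.fromBlocks_multiply])
      (by simp [Matrix.fromBlocks_multiply]) (fun x => by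
        simp [QQ, CfsgLib.OrthCrit.sumForm_apply, Matrix.fromBlocks_mulVec, add_comm])
    have hconj : s * CfsgLib.OrthCrit.diagHom (Q₁ := Q) (Q₂ := Q) (g, 1) * s⁻¹ =
        CfsgLib.OrthCrit.diagHom (Q₁ := Q) (Q₂ := Q) (1, g) := by
      rw [mul_inv_eq_iff_eq_mul]
      refine CfsgLib.OrthSpinor.eq_of_matrix QQ ?_
      show Matrix.fromBlocks 0 1 1 0 * _ = _ * Matrix.fromBlocks 0 1 1 0
      rw [CfsgLib.OrthCrit.diagHom_coe, CfsgLib.OrthCrit.diagHom_coe, Matrix.fromBlocks_multiply,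
        Matrix.fromBlocks_multiply]
      simp
    have hsplit : CfsgLib.OrthCrit.diagHom (Q₁ := Q) (Q₂ := Q) (g, g) =
        CfsgLib.OrthCrit.diagHom (g, 1) * CfsgLib.OrthCrit.diagHom (1, g) := by
      rw [← map_mul, Prod.mk_mul_mk, mul_one, one_mul]
    rw [hsplit, map_mul, ← hconj, map_mul, map_mul, map_inv, mul_inv_cancel_comm]
    exact Int.units_mul_self _

end Cfsg.Agent.S2628
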