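import Cfsg.Statements.S2631
import Cfsg.Agent.Lib.OrthCrit.Plus

set_option autoImplicit false
open Cfsg

namespace Cfsg.Agent.S2631

/-- For the hyperbolic form Σ x_i y_i on F^(2m) over a finite field (m ≥ 1, excluding m = 2 over the field of two elements), Ω (the commutator subgroup of the orthogonal group) acts transitively on each of the two classes of maximal totally singular subspaces: if U and W are m-dimensional totally singular subspaces with m − dim(U ∩ W) even, some element of Ω carries U to W. -/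
theorem result {F : Type*} [Field F] [Fintype F] {m : ℕ} (hm : 1 ≤ m) (h : Fintype.card F ≠ 2 ∨ m ≠ 2) (U W : Submodule F (Fin m ⊕ Fin m → F)) (hU : Module.finrank F U = m) (hW : Module.finrank F W = m) (hU0 : ∀ u ∈ U, Cfsg.quadFormPlus m F u = 0) (hW0 : ∀ w ∈ W, Cfsg.quadFormPlus m F w = 0) (he : Even (m - Module.finrank F ↥(U ⊓ W))) : ∃ g : ↥(Cfsg.isometryGroup F (Cfsg.quadFormPlus m F)), g ∈ Cfsg.Omega F (Cfsg.quadFormPlus m F) ∧ U.map (Matrix.mulVecLin ((g : Matrix.GeneralLinearGroup (Fin m ⊕ Fin m) F) : Matrix (Fin m ⊕ Fin m) (Fin m ⊕ Fin m) F)) = W := by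
  classical
  let Q := CfsgLib.OrthCrit.plusForm m F
  have hnd := CfsgLib.OrthCrit.ndPolar_plusForm (F := F) m
  have hreg : CfsgLib.OrthCrit.Regular F (Fin m ⊕ Fin m) :=
    CfsgLib.OrthCrit.regular_of_card (n := m + m) (by simp) (h.imp_right fun h => by omega)
  obtain ⟨g, hg⟩ := CfsgLib.OrthCrit.exists_map_eq (Q := Q) hnd U W
    (LinearEquiv.ofFinrankEq U W (hU.trans hW.symm))
    (fun u => (hW0 _ (Subtype.mem _)).trans (hU0 _ u.2).symm)
  have hp : CfsgLib.OrthCrit.parity g = 0 :=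
    (CfsgLib.OrthCrit.even_sub_finrank_inf_map (Q := Q) hnd hreg hU0 hU (by simp [two_mul]) g).mp
      (by rw [hg]; exact he)
  obtain ⟨x, hx, hgx⟩ := CfsgLib.OrthCrit.exists_mul_mem_Omega_of_parity (Q := Q) hnd hreg
    (by simp only [Fintype.card_sum, Fintype.card_fin]; omega) (CfsgLib.OrthCrit.stab Q U) g hp
    (fun h2 => CfsgLib.OrthCrit.exists_flip_singular hnd h2 hU0
      (fun h0 => by rw [h0, finrank_bot] at hU; omega))
  exact ⟨g * x, hgx, CfsgLib.OrthCrit.map_eq_of_mem_stab hg hx⟩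

end Cfsg.Agent.S2631
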