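import Cfsg.Statements.S2632
import Cfsg.Agent.Lib.OrthCrit.Trans

set_option autoImplicit false
open Cfsg

namespace Cfsg.Agent.S2632

/-- Ω is transitive on non-degenerate subspaces of each isometry type: for a quadratic form Q on F^n, n ≥ 3, with non-degenerate polar form (F finite; excluding dimension 4 over the field of two elements), if U and W are subspaces on which the polar form is non-degenerate and there is a Q-preserving linear isomorphism U → W, then some element of Ω (the commutator subgroup of the orthogonal group) carries U to W. (In dimension 2 this fails: Ω can be {±1}, which fixes every line.) -/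
theorem result {F : Type*} [Field F] [Fintype F] {n : ℕ} (hn : 3 ≤ n) (h : Fintype.card F ≠ 2 ∨ n ≠ 4) (Q : QuadraticForm F (Fin n → F)) (hQ : (QuadraticMap.polarBilin Q).Nondegenerate) (U W : Submodule F (Fin n → F)) (hU : U ⊓ LinearMap.BilinForm.orthogonal (QuadraticMap.polarBilin Q) U = ⊥) (hW : W ⊓ LinearMap.BilinForm.orthogonal (QuadraticMap.polarBilin Q) W = ⊥) (e : U ≃ₗ[F] W) (he : ∀ u : U, Q (e u : Fin n → F) = Q (u : Fin n → F)) : ∃ g : ↥(Cfsg.isometryGroup F ⇑Q), g ∈ Cfsg.Omega F ⇑Q ∧ U.map (Matrix.mulVecLin ((g : Matrix.GeneralLinearGroup (Fin n) F) : Matrix (Fin n) (Fin n) F)) = W := by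
  classical
  have hnd := CfsgLib.Orth.ndPolar_iff.mpr hQ
  have hreg : CfsgLib.OrthCrit.Regular F (Fin n) :=
    CfsgLib.OrthCrit.regular_of_card (n := n) (by simp) h
  obtain ⟨g, hg⟩ := CfsgLib.OrthCrit.exists_map_eq (Q := Q) hnd U W e he
  let U' := LinearMap.BilinForm.orthogonal (QuadraticMap.polarBilin Q) U
  have hrefl : LinearMap.BilinForm.IsRefl (QuadraticMap.polarBilin Q) := fun x y hxy => by
    simpa [QuadraticMap.polar_comm] using hxy
  have hndU : ∀ x ∈ U, (∀ y ∈ U, QuadraticMap.polar ⇑Q y x = 0) → x = 0 := fun x hx hy => by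
    have : x ∈ U ⊓ U' := ⟨hx, hy⟩
    rwa [hU, Submodule.mem_bot] at this
  have hndU' : ∀ x ∈ U', (∀ y ∈ U', QuadraticMap.polar ⇑Q y x = 0) → x = 0 := fun x hx hy => by
    have hxU : x ∈ LinearMap.BilinForm.orthogonal (QuadraticMap.polarBilin Q) U' := hy
    rw [LinearMap.BilinForm.orthogonal_orthogonal hQ hrefl] at hxU
    have : x ∈ U ⊓ U' := ⟨hxU, hx⟩
    rwa [hU, Submodule.mem_bot] at this
  have hdim : Module.finrank F U + Module.finrank F U' = n := by
    have h1 := CfsgLib.Orth.finrank_polar_orthogonal hnd U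
    have h2 := Submodule.finrank_le U
    rw [Module.finrank_fin_fun] at h1 h2
    show Module.finrank F U + Module.finrank F
      (LinearMap.BilinForm.orthogonal (QuadraticMap.polarBilin Q) U) = n
    omega
  obtain ⟨S, hS, hSd, hSmem⟩ : ∃ S : Submodule F (Fin n → F),
      (∀ x ∈ S, (∀ y ∈ S, QuadraticMap.polar ⇑Q y x = 0) → x = 0) ∧ 2 ≤ Module.finrank F S ∧
      ∀ v ∈ S, v ∈ U ∨ ∀ x ∈ U, QuadraticMap.polar ⇑Q x v = 0 := by
    by_cases h2 : 2 ≤ Module.finrank F U
    · exact ⟨U, hndU, h2, fun v hv => Or.inl hv⟩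
    · exact ⟨U', hndU', by omega, fun v hv => Or.inr fun x hx => hv x hx⟩
  obtain ⟨x, hx, hgx⟩ := CfsgLib.OrthCrit.exists_mul_mem_Omega (Q := Q) hnd hreg
    (by rw [Fintype.card_fin]; omega) (CfsgLib.OrthCrit.stab Q U) g
    (by
      obtain ⟨v, hv, hQv⟩ := CfsgLib.OrthCrit.exists_anisotropic_mem hS
        (fun h0 => by rw [h0, finrank_bot] at hSd; omega)
      exact ⟨_, CfsgLib.OrthCrit.reflection_mem_stab hQv (hSmem v hv),
        CfsgLib.OrthCrit.parity_reflection hnd hQv⟩)
    (fun h2 => by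
      obtain ⟨ν, hν, hns⟩ := CfsgLib.OrthSpinor.exists_nonsquare' (F := F) h2
      obtain ⟨a, ha, hQa⟩ := CfsgLib.OrthCrit.exists_norm_mem h2 hS hSd 1
      obtain ⟨b, hb, hQb⟩ := CfsgLib.OrthCrit.exists_norm_mem h2 hS hSd ν
      have hQa0 : Q a ≠ 0 := by rw [hQa]; exact one_ne_zero
      have hQb0 : Q b ≠ 0 := by rw [hQb]; exact hν
      refine ⟨CfsgLib.OrthSpinor.reflection hQa0 * CfsgLib.OrthSpinor.reflection hQb0,
        mul_mem (CfsgLib.OrthCrit.reflection_mem_stab hQa0 (hSmem a ha))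
          (CfsgLib.OrthCrit.reflection_mem_stab hQb0 (hSmem b hb)), ?_,
        CfsgLib.OrthCrit.theta_pair h2 hQa0 hQb0 (by rwa [hQa, hQb, one_mul])⟩
      rw [CfsgLib.OrthCrit.parity_mul hnd hreg, CfsgLib.OrthCrit.parity_reflection hnd,
        CfsgLib.OrthCrit.parity_reflection hnd]
      decide)
  exact ⟨g * x, hgx, CfsgLib.OrthCrit.map_eq_of_mem_stab hg hx⟩

end Cfsg.Agent.S2632
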