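import Cfsg.Statements.S2633
import Cfsg.Agent.Lib.OrthCrit.Trans

set_option autoImplicit false
open Cfsg

namespace Cfsg.Agent.S2633

/-- Ω is transitive on totally singular subspaces of each dimension less than half the dimension: for a quadratic form Q on F^n with non-degenerate polar form (F finite; excluding dimension 4 over the field of two elements), if U and W are subspaces of the same dimension k with 2k < n on which Q vanishes, then some element of Ω (the commutator subgroup of the orthogonal group) carries U to W. -/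
theorem result {F : Type*} [Field F] [Fintype F] {n : ℕ} (h : Fintype.card F ≠ 2 ∨ n ≠ 4) (Q : QuadraticForm F (Fin n → F)) (hQ : (QuadraticMap.polarBilin Q).Nondegenerate) (U W : Submodule F (Fin n → F)) {k : ℕ} (hk : 2 * k < n) (hU : Module.finrank F U = k) (hW : Module.finrank F W = k) (hU0 : ∀ u ∈ U, Q u = 0) (hW0 : ∀ w ∈ W, Q w = 0) : ∃ g : ↥(Cfsg.isometryGroup F ⇑Q), g ∈ Cfsg.Omega F ⇑Q ∧ U.map (Matrix.mulVecLin ((g : Matrix.GeneralLinearGroup (Fin n) F) : Matrix (Fin n) (Fin n) F)) = W := by
  classical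
  rcases Nat.eq_zero_or_pos k with rfl | hk0
  · refine ⟨1, one_mem _, ?_⟩
    rw [Submodule.finrank_eq_zero.mp hU, Submodule.finrank_eq_zero.mp hW, Submodule.map_bot]
  have hnd := CfsgLib.Orth.ndPolar_iff.mpr hQ
  have hreg : CfsgLib.OrthCrit.Regular F (Fin n) :=
    CfsgLib.OrthCrit.regular_of_card (n := n) (by simp) h
  obtain ⟨g, hg⟩ := CfsgLib.OrthCrit.exists_map_eq (Q := Q) hnd U W
    (LinearEquiv.ofFinrankEq U W (hU.trans hW.symm))
    (fun u => (hW0 _ (Subtype.mem _)).trans (hU0 _ u.2).symm)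
  obtain ⟨v, hv, hQv⟩ : ∃ v ∈ LinearMap.BilinForm.orthogonal (QuadraticMap.polarBilin Q) U, Q v ≠ 0 := by
    by_contra! h0
    have hle : LinearMap.BilinForm.orthogonal (QuadraticMap.polarBilin Q) U ≤
        LinearMap.BilinForm.orthogonal (QuadraticMap.polarBilin Q)
          (LinearMap.BilinForm.orthogonal (QuadraticMap.polarBilin Q) U) := fun a ha b hb => by
      show QuadraticMap.polar ⇑Q b a = 0
      simp [QuadraticMap.polar, h0 _ (add_mem hb ha), h0 a ha, h0 b hb]
    have h1 := Submodule.finrank_mono hle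
    rw [CfsgLib.Orth.finrank_polar_orthogonal hnd (LinearMap.BilinForm.orthogonal _ _),
      Module.finrank_fin_fun] at h1
    have h2 := CfsgLib.Orth.finrank_polar_orthogonal hnd U
    rw [Module.finrank_fin_fun, hU] at h2
    omega
  obtain ⟨x, hx, hgx⟩ := CfsgLib.OrthCrit.exists_mul_mem_Omega (Q := Q) hnd hreg
    (by rw [Fintype.card_fin]; omega) (CfsgLib.OrthCrit.stab Q U) g
    ⟨_, CfsgLib.OrthCrit.reflection_mem_stab hQv (Or.inr fun x hx => hv x hx),
        CfsgLib.OrthCrit.parity_reflection hnd hQv⟩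
    (fun h2 => CfsgLib.OrthCrit.exists_flip_singular hnd h2 hU0
      (fun h0 => by rw [h0, finrank_bot] at hU; omega))
  exact ⟨g * x, hgx, CfsgLib.OrthCrit.map_eq_of_mem_stab hg hx⟩

end Cfsg.Agent.S2633
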