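import Cfsg.Statements.S2634
import Cfsg.Agent.Lib.OrthCrit.Trans

set_option autoImplicit false
open Cfsg

namespace Cfsg.Agent.S2634

/-- Over a finite field of characteristic two, Ω (the commutator subgroup of the orthogonal group of a quadratic form Q on F^n with non-degenerate polar form; excluding dimension 4 over the field of two elements) acts transitively on the non-singular 1-spaces: for u, v with Q(u) ≠ 0 and Q(v) ≠ 0 some element of Ω carries the line through u to the line through v. -/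
theorem result {F : Type*} [Field F] [Fintype F] [CharP F 2] {n : ℕ} (h : Fintype.card F ≠ 2 ∨ n ≠ 4) (Q : QuadraticForm F (Fin n → F)) (hQ : (QuadraticMap.polarBilin Q).Nondegenerate) (u v : Fin n → F) (hu : Q u ≠ 0) (hv : Q v ≠ 0) : ∃ g : ↥(Cfsg.isometryGroup F ⇑Q), g ∈ Cfsg.Omega F ⇑Q ∧ (F ∙ ((g : Matrix.GeneralLinearGroup (Fin n) F) : Matrix (Fin n) (Fin n) F).mulVec u) = F ∙ v := by
  classical
  have hnd := CfsgLib.Orth.ndPolar_iff.mpr hQ
  have hreg : CfsgLib.OrthCrit.Regular F (Fin n) :=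
    CfsgLib.OrthCrit.regular_of_card (n := n) (by simp) h
  have h2 : (2 : F) = 0 := CharTwo.two_eq_zero
  have hu0 : u ≠ 0 := fun h0 => hu (by rw [h0]; exact QuadraticMap.map_zero Q)
  have hn : 2 ≤ n := by
    by_contra hn
    refine hu0 (hnd u fun y => ?_)
    obtain ⟨i, hi⟩ : ∃ i, u i ≠ 0 := Function.ne_iff.mp hu0
    have hy : y = (y i / u i) • u := by
      funext j
      have : j = i := Fin.ext (by omega)
      subst this
      simp [hi]
    rw [hy, QuadraticMap.polar_smul_right, CfsgLib.Classical.Quad.polar_self', h2, zero_mul, smul_zero]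
  obtain ⟨s, hs⟩ := FiniteField.isSquare_of_char_two (ringChar.eq F 2) (Q u / Q v)
  have hs0 : s ≠ 0 := fun h0 => div_ne_zero hu hv (by rw [hs, h0, mul_zero])
  have hQs : Q u = Q (s • v) := by
    rw [QuadraticMap.map_smul, ← hs, smul_eq_mul, div_mul_cancel₀ _ hv]
  obtain ⟨g, hg⟩ := CfsgLib.Orth.exists_map_of_Q_eq hnd hu hQs
  obtain ⟨x, hx, hgx⟩ := CfsgLib.OrthCrit.exists_mul_mem_Omega (Q := Q) hnd hreg
    (by rw [Fintype.card_fin]; omega) (CfsgLib.OrthCrit.stab Q (F ∙ u))
    ((CfsgLib.OrthCrit.toOrth Q).symm g)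
    ⟨_, CfsgLib.OrthCrit.reflection_mem_stab hu (Or.inl (Submodule.mem_span_singleton_self u)),
      CfsgLib.OrthCrit.parity_reflection hnd hu⟩
    (fun h => absurd h2 h)
  refine ⟨_, hgx, ?_⟩
  have hmap := CfsgLib.OrthCrit.map_eq_of_mem_stab (Q := Q) (g := (CfsgLib.OrthCrit.toOrth Q).symm g)
    (U := F ∙ u) rfl hx
  rw [Submodule.map_span, Set.image_singleton, Submodule.map_span, Set.image_singleton] at hmap
  refine hmap.trans ?_
  rw [show Matrix.mulVecLin _ u = s • v from (CfsgLib.OrthCrit.toOrth_symm_act g u).trans hg]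
  exact Submodule.span_singleton_smul_eq (Ne.isUnit hs0) v

end Cfsg.Agent.S2634
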