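import Cfsg.Statements.S2635
import Cfsg.Agent.Lib.OrthCrit.Trans

set_option autoImplicit false
open Cfsg

namespace Cfsg.Agent.S2635

/-- Over a finite field of characteristic two, for a quadratic form Q on F^n with non-degenerate polar form, n ≥ 2, other than dimension 4 over the field of two elements, Ω (the commutator subgroup of the orthogonal group) is exactly the subgroup generated by the products of two reflections (orthogonal transvections) x ↦ x − Q(v)⁻¹ f(x, v) v, Q(v) ≠ 0: the products of an even number of reflections. -/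
theorem result {F : Type*} [Field F] [Fintype F] [CharP F 2] {n : ℕ} (hn : 2 ≤ n) (h : Fintype.card F ≠ 2 ∨ n ≠ 4) (Q : QuadraticForm F (Fin n → F)) (hQ : (QuadraticMap.polarBilin Q).Nondegenerate) : Cfsg.Omega F ⇑Q = Subgroup.closure {g : ↥(Cfsg.isometryGroup F ⇑Q) | ∃ u v : Fin n → F, Q u ≠ 0 ∧ Q v ≠ 0 ∧ ((g : Matrix.GeneralLinearGroup (Fin n) F) : Matrix (Fin n) (Fin n) F) = Cfsg.reflectionMatrix ⇑Q u * Cfsg.reflectionMatrix ⇑Q v} := by
  classical
  have hnd := CfsgLib.Orth.ndPolar_iff.mpr hQ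
  have hreg : CfsgLib.OrthCrit.Regular F (Fin n) :=
    CfsgLib.OrthCrit.regular_of_card (n := n) (by simp) h
  have : Nonempty (Fin n) := ⟨⟨0, by omega⟩⟩
  have hne := CfsgLib.OrthCrit.exists_Q_ne_zero hnd
  set K : Subgroup ↥(Cfsg.isometryGroup F ⇑Q) := Subgroup.closure {g : ↥(Cfsg.isometryGroup F ⇑Q) |
    ∃ u v : Fin n → F, Q u ≠ 0 ∧ Q v ≠ 0 ∧
      ((g : Matrix.GeneralLinearGroup (Fin n) F) : Matrix (Fin n) (Fin n) F) =
        Cfsg.reflectionMatrix ⇑Q u * Cfsg.reflectionMatrix ⇑Q v} with hK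
  have hpair : ∀ {u v : Fin n → F} (hu : Q u ≠ 0) (hv : Q v ≠ 0),
      CfsgLib.OrthSpinor.reflection hu * CfsgLib.OrthSpinor.reflection hv ∈ K := fun hu hv =>
    Subgroup.subset_closure ⟨_, _, hu, hv, rfl⟩
  refine le_antisymm ?_ ?_
  · intro g hg
    have hg0 := CfsgLib.OrthCrit.parity_of_mem_Omega hnd hreg hg
    suffices ∀ g : ↥(Cfsg.isometryGroup F ⇑Q), (CfsgLib.OrthCrit.parity g = 0 → g ∈ K) ∧
        (CfsgLib.OrthCrit.parity g = 1 → ∀ (v : Fin n → F) (hv : Q v ≠ 0),
          CfsgLib.OrthSpinor.reflection hv * g ∈ K) from (this g).1 hg0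
    clear hg hg0 g
    intro g
    have hz : ∀ z : ZMod 2, (1 + z = 0 → z = 1) ∧ (1 + z = 1 → z = 0) := by decide
    have hgen := (CfsgLib.Orth.closure_reflectionMatrix Q hnd hreg).ge (Subgroup.mem_top g)
    induction hgen using Subgroup.closure_induction_left with
    | one => exact ⟨fun _ => one_mem _, fun h1 => by
        rw [CfsgLib.OrthCrit.parity_one] at h1; exact absurd h1 (by decide)⟩
    | mul_left x hx y _ ih =>
      obtain ⟨w, hw, hxw⟩ := hx
      obtain rfl : x = CfsgLib.OrthSpinor.reflection hw := CfsgLib.OrthSpinor.eq_of_matrix Q hxw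
      rw [CfsgLib.OrthCrit.parity_mul hnd hreg, CfsgLib.OrthCrit.parity_reflection hnd hw]
      exact ⟨fun h0 => ih.2 ((hz _).1 h0) w hw, fun h0 v hv => by
        rw [← mul_assoc]; exact mul_mem (hpair hv hw) (ih.1 ((hz _).2 h0))⟩
    | inv_mul_cancel x hx y _ ih =>
      obtain ⟨w, hw, hxw⟩ := hx
      obtain rfl : x = CfsgLib.OrthSpinor.reflection hw := CfsgLib.OrthSpinor.eq_of_matrix Q hxw
      rw [CfsgLib.OrthSpinor.reflection_inv, CfsgLib.OrthCrit.parity_mul hnd hreg,
        CfsgLib.OrthCrit.parity_reflection hnd hw]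
      exact ⟨fun h0 => ih.2 ((hz _).1 h0) w hw, fun h0 v hv => by
        rw [← mul_assoc]; exact mul_mem (hpair hv hw) (ih.1 ((hz _).2 h0))⟩
  · rw [hK, Subgroup.closure_le]
    rintro g ⟨u, v, hu, hv, hg⟩
    obtain rfl : g = CfsgLib.OrthSpinor.reflection hu * CfsgLib.OrthSpinor.reflection hv :=
      CfsgLib.OrthSpinor.eq_of_matrix Q hg
    refine (CfsgLib.OrthCrit.mem_Omega_iff_char_two hnd hreg hne _).mpr ?_
    rw [CfsgLib.OrthCrit.parity_mul hnd hreg, CfsgLib.OrthCrit.parity_reflection hnd,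
      CfsgLib.OrthCrit.parity_reflection hnd]
    decide

end Cfsg.Agent.S2635
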