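import Cfsg.Statements.S2636


set_option autoImplicit false
open Cfsg

namespace Cfsg.Agent.S2636

/-- Centraliser of a field automorphism in PGL_n: let F be the field with q = q₀^r elements, σ a field automorphism of F of prime order r (so its fixed field has q₀ elements) and n ≥ 1. The invertible matrices g whose entrywise image under σ is a scalar multiple of g — those whose coset modulo scalars is fixed by σ — number (q − 1)/(q₀ − 1) · |GL_n(q₀)|; equivalently the centraliser in PGL_n(q) of the induced automorphism has the order of PGL_n(q₀). -/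
theorem result {F : Type*} [Field F] [Fintype F] {q₀ r n : ℕ} (hr : r.Prime) (hn : 1 ≤ n) (hF : Fintype.card F = q₀ ^ r) (σ : F ≃+* F) (hσ : orderOf σ = r) : Nat.card {g : GL (Fin n) F // ∃ c : F, c ≠ 0 ∧ (g : Matrix (Fin n) (Fin n) F).map σ = c • (g : Matrix (Fin n) (Fin n) F)} = (q₀ ^ r - 1) / (q₀ - 1) * ∏ i : Fin n, (q₀ ^ n - q₀ ^ (i : ℕ)) := by
  classical
  let G : Subgroup (RingAut F) := Subgroup.zpowers σ
  let F₀ := FixedPoints.subfield G F
  have hfix : ∀ x : F, x ∈ F₀ ↔ σ x = x := by
    intro x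
    refine ⟨fun h => h ⟨σ, Subgroup.mem_zpowers σ⟩, fun h => ?_⟩
    intro m
    have hs : σ ∈ MulAction.stabilizer (RingAut F) x := h
    exact Subgroup.zpowers_le.2 hs m.2
  have : FaithfulSMul G F := ⟨fun {a b} h => Subtype.ext (RingEquiv.ext fun x => h x)⟩
  have : Finite (RingAut F) := Finite.of_injective (fun g : RingAut F => (⇑g : F → F)) DFunLike.coe_injective
  let _ := Fintype.ofFinite G
  have hrank : Module.finrank F₀ F = r := by
    rw [FixedPoints.finrank_eq_card G F, ← Nat.card_eq_fintype_card]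
    exact (Nat.card_zpowers σ).trans hσ
  have hcard₀ : Fintype.card F₀ = q₀ := by
    have h := Module.card_eq_pow_finrank (K := F₀) (V := F)
    rw [hrank, hF] at h
    exact (Nat.pow_left_injective hr.ne_zero h).symm
  have hq : 1 < q₀ := hcard₀ ▸ Fintype.one_lt_card
  let ι : F₀ →+* F := F₀.subtype
  let S := {g : GL (Fin n) F // ∃ c : F, c ≠ 0 ∧ (g : Matrix (Fin n) (Fin n) F).map σ = c • (g : Matrix (Fin n) (Fin n) F)}
  -- every element is a scalar times a fixed matrix
  have key : ∀ g : S, ∃ (u : Fˣ) (h : GL (Fin n) F₀),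
      (g.1 : Matrix (Fin n) (Fin n) F) = (u : F) • (h : Matrix (Fin n) (Fin n) F₀).map ι := by
    intro g
    obtain ⟨c, hc, hgc⟩ := g.2
    obtain ⟨a, b, hab⟩ : ∃ a b, (g.1 : Matrix (Fin n) (Fin n) F) a b ≠ 0 := by
      have : NeZero n := ⟨by omega⟩
      by_contra! h
      have h0 : (g.1 : Matrix (Fin n) (Fin n) F) = 0 := Matrix.ext h
      exact g.1.ne_zero h0
    set u := (g.1 : Matrix (Fin n) (Fin n) F) a b
    have hu : σ u = c * u := congrFun (congrFun hgc a) b
    have hmem : ∀ i j, u⁻¹ * (g.1 : Matrix (Fin n) (Fin n) F) i j ∈ F₀ := by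
      intro i j
      have hij : σ ((g.1 : Matrix (Fin n) (Fin n) F) i j) = c * (g.1 : Matrix (Fin n) (Fin n) F) i j :=
        congrFun (congrFun hgc i) j
      rw [hfix, map_mul, map_inv₀, hu, hij]
      field_simp
    let H : Matrix (Fin n) (Fin n) F₀ := fun i j => ⟨_, hmem i j⟩
    have hH : H.map ι = u⁻¹ • (g.1 : Matrix (Fin n) (Fin n) F) := by ext i j; rfl
    have hdet : H.det ≠ 0 := by
      intro h0
      have h1 := ι.map_det H
      rw [h0, map_zero, RingHom.mapMatrix_apply, hH, Matrix.det_smul] at h1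
      exact mul_ne_zero (pow_ne_zero _ (inv_ne_zero hab)) (Matrix.GeneralLinearGroup.det_ne_zero g.1) h1.symm
    refine ⟨Units.mk0 u hab, Matrix.GeneralLinearGroup.mkOfDetNeZero H hdet, ?_⟩
    show _ = u • H.map ι
    rw [hH, smul_smul, mul_inv_cancel₀ hab, one_smul]
  choose u h hg using key
  have hmk : ∀ (v : Fˣ) (k : GL (Fin n) F₀), ∃ g : S,
      (g.1 : Matrix (Fin n) (Fin n) F) = (v : F) • (k : Matrix (Fin n) (Fin n) F₀).map ι := by
    intro v k
    refine ⟨⟨Matrix.GeneralLinearGroup.mkOfDetNeZero ((v : F) • (k : Matrix (Fin n) (Fin n) F₀).map ι) ?_,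
      σ v / v, div_ne_zero (by simp) v.ne_zero, ?_⟩, rfl⟩
    · rw [Matrix.det_smul, ← RingHom.mapMatrix_apply, ← RingHom.map_det]
      exact mul_ne_zero (pow_ne_zero _ v.ne_zero)
        ((map_ne_zero _).2 (Matrix.GeneralLinearGroup.det_ne_zero k))
    · show ((v : F) • (k : Matrix (Fin n) (Fin n) F₀).map ι).map σ = (σ v / v) • ((v : F) • _)
      ext i j
      have hk : σ (ι ((k : Matrix (Fin n) (Fin n) F₀) i j)) = ι ((k : Matrix (Fin n) (Fin n) F₀) i j) :=
        (hfix _).1 ((k : Matrix (Fin n) (Fin n) F₀) i j).2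
      simp [hk, ← mul_assoc]
  choose mk hmk using hmk
  -- the map `Fˣ × GL n F₀ → S` has all fibres of size `q₀ - 1`
  let E : S × F₀ˣ ≃ Fˣ × GL (Fin n) F₀ := by
    refine Equiv.ofBijective (fun p => (u p.1 * Units.map ι.toMonoidHom p.2,
      h p.1 * Matrix.GeneralLinearGroup.scalar (Fin n) p.2⁻¹)) ⟨?_, ?_⟩
    · rintro ⟨g, t⟩ ⟨g', t'⟩ he
      obtain ⟨h1, h2⟩ := Prod.ext_iff.1 he
      have hgg : ∀ (g : S) (t : F₀ˣ),
          (g.1 : Matrix (Fin n) (Fin n) F) = ((u g * Units.map ι.toMonoidHom t : Fˣ) : F) •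
            (((h g * Matrix.GeneralLinearGroup.scalar (Fin n) t⁻¹ : GL (Fin n) F₀)) :
              Matrix (Fin n) (Fin n) F₀).map ι := by
        intro g t
        rw [hg g]
        ext i j
        simp [Matrix.GeneralLinearGroup.scalar, Matrix.scalar_apply, Matrix.mul_diagonal, map_inv₀]
        field_simp
      have e : g = g' := by
        refine Subtype.ext (Units.ext ?_)
        rw [hgg g t, hgg g' t']
        simp only at h1 h2
        rw [h1, h2]
      subst e
      simp only [mul_right_inj] at h1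
      exact Prod.ext rfl (Units.map_injective ι.injective h1)
    · rintro ⟨v, k⟩
      have h1 := (hg (mk v k)).symm.trans (hmk v k)
      have : NeZero n := ⟨by omega⟩
      obtain ⟨a, b, hab⟩ : ∃ a b, (h (mk v k) : Matrix (Fin n) (Fin n) F₀) a b ≠ 0 := by
        by_contra! h0
        exact (h (mk v k)).ne_zero (Matrix.ext h0)
      have hab' := congrFun (congrFun h1 a) b
      simp only [Matrix.smul_apply, Matrix.map_apply, smul_eq_mul] at hab'
      have hk0 : (k : Matrix (Fin n) (Fin n) F₀) a b ≠ 0 := by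
        intro h0
        rw [h0, map_zero, mul_zero] at hab'
        exact mul_ne_zero (u _).ne_zero ((map_ne_zero _).2 hab) hab'
      let t : F₀ˣ := Units.mk0 _ (div_ne_zero hab hk0)
      have ht : (v : F) = u (mk v k) * ι t := by
        have hk0' : ι ((k : Matrix (Fin n) (Fin n) F₀) a b) ≠ 0 := (map_ne_zero _).2 hk0
        simp only [t, Units.val_mk0, map_div₀]
        field_simp
        linear_combination -hab'
      refine ⟨(mk v k, t), Prod.ext (Units.ext ?_) (Units.ext (Matrix.ext fun i j => ι.injective ?_))⟩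
      · simpa using ht.symm
      · have hij := congrFun (congrFun h1 i) j
        simp only [Matrix.smul_apply, Matrix.map_apply, smul_eq_mul] at hij
        rw [ht, mul_assoc] at hij
        have h2 := mul_left_cancel₀ (u _).ne_zero hij
        simp [Matrix.GeneralLinearGroup.scalar, Matrix.scalar_apply, Matrix.mul_diagonal, map_inv₀]
        rw [h2]
        field_simp
  have hc := Nat.card_congr E
  rw [Nat.card_prod, Nat.card_prod, Nat.card_units, Nat.card_units, Matrix.card_GL_field,
    Nat.card_eq_fintype_card (α := F), Nat.card_eq_fintype_card (α := F₀), hcard₀, hF] at hc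
  refine Nat.eq_of_mul_eq_mul_right (show 0 < q₀ - 1 by omega) ?_
  rw [hc, mul_right_comm, Nat.div_mul_cancel (Nat.sub_one_dvd_pow_sub_one q₀ r)]

end Cfsg.Agent.S2636
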