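import Cfsg.Statements.S2637
import Cfsg.Agent.Lib.UnitaryEmb.Symp
import Cfsg.Agent.Lib.Classical.Herm.Std
import Cfsg.Prelude.Def_ClassicalGeometry

set_option autoImplicit false
open Cfsg
open scoped Matrix

namespace Cfsg.Agent.S2637

/-- Centraliser of a fixed-point-free element of order three in Sp_2m(q) when q ≡ 2 (mod 3): if x ∈ Sp_2m(F) (|F| = q, m ≥ 1) satisfies x³ = 1 and x − 1 is invertible, then its centraliser in Sp_2m(F) has the order of the unitary group GU_m(q), namely q^(m(m−1)/2) Π_(i=1)^m (q^i − (−1)^i) (x lies in the centre of a subgroup GU_m(q) of Sp_2m(q)). -/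
theorem result {F : Type*} [Field F] [Fintype F] {q : ℕ} (hF : Fintype.card F = q) (hq : q % 3 = 2) {m : ℕ} (hm : 1 ≤ m) (x : Matrix.symplecticGroup (Fin m) F) (hx3 : x ^ 3 = 1) (hfpf : IsUnit ((x : Matrix (Fin m ⊕ Fin m) (Fin m ⊕ Fin m) F) - 1)) : (Nat.card ↥(Subgroup.centralizer ({x} : Set ↥(Matrix.symplecticGroup (Fin m) F))) : ℤ) = (q : ℤ) ^ (m * (m - 1) / 2) * ∏ i : Fin m, ((q : ℤ) ^ ((i : ℕ) + 1) - (-1) ^ ((i : ℕ) + 1)) := by
  classical
  have : Fact (Irreducible (Polynomial.X ^ 2 + Polynomial.X + 1 : Polynomial F)) := by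
    refine ⟨(Polynomial.irreducible_iff_roots_eq_zero_of_degree_le_three ?_ ?_).2 ?_⟩
    · have : (Polynomial.X ^ 2 + Polynomial.X + 1 : Polynomial F).natDegree = 2 := by compute_degree!
      omega
    · have : (Polynomial.X ^ 2 + Polynomial.X + 1 : Polynomial F).natDegree = 2 := by compute_degree!
      omega
    · refine Multiset.eq_zero_of_forall_notMem fun t ht => ?_
      have ht' : t ^ 2 + t + 1 = 0 := by simpa using (Polynomial.mem_roots'.1 ht).2
      have h3 : t ^ 3 = 1 := by linear_combination (t - 1) * ht'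
      have ht0 : t ≠ 0 := fun h => by simp [h] at h3
      have hord := orderOf_dvd_of_pow_eq_one (x := t) h3
      have hq1 : t ^ (q - 1) = 1 := by rw [← hF]; exact FiniteField.pow_card_sub_one_eq_one t ht0
      have := Nat.dvd_gcd (orderOf_dvd_of_pow_eq_one hq1) hord
      have hcop : Nat.gcd (q - 1) 3 = 1 := by
        rw [Nat.gcd_comm, ← Nat.coprime_iff_gcd_eq_one, Nat.Prime.coprime_iff_not_dvd Nat.prime_three]
        omega
      rw [hcop, Nat.dvd_one, orderOf_eq_one_iff] at this
      subst this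
      have h30 : ((3 : ℕ) : F) = 0 := by push_cast; linear_combination ht'
      obtain ⟨p, _, k, hp, hk⟩ := FiniteField.card' F
      have hdvd := (CharP.cast_eq_zero_iff F p 3).1 h30
      rw [(Nat.prime_dvd_prime_iff_eq hp Nat.prime_three).1 hdvd] at hk
      rw [hk] at hF
      rw [← hF, Nat.pow_mod] at hq
      simp [zero_pow k.ne_zero] at hq
  let P : Polynomial F := Polynomial.X ^ 2 + Polynomial.X + 1
  have hdeg : P.natDegree = 2 := by simp only [P]; compute_degree!
  have hP0 : P ≠ 0 := fun h => by simp [h] at hdeg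
  let K := AdjoinRoot P
  haveI : Module.Finite F K := (AdjoinRoot.powerBasis hP0).finite
  haveI : Finite K := Module.finite_of_finite F
  haveI := Fintype.ofFinite K
  have hfin : Module.finrank F K = 2 := by
    show Module.finrank F (AdjoinRoot P) = 2
    rw [(AdjoinRoot.powerBasis hP0).finrank, AdjoinRoot.powerBasis_dim, hdeg]
  have hK : Fintype.card K = q ^ 2 := by rw [Module.card_eq_pow_finrank (K := F) (V := K), hfin, hF]
  let θ : K := AdjoinRoot.root P
  have hθ : θ ^ 2 + θ + 1 = 0 := by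
    have h1 := AdjoinRoot.eval₂_root P
    simp only [P, Polynomial.eval₂_add, Polynomial.eval₂_X_pow, Polynomial.eval₂_X, Polynomial.eval₂_one] at h1
    exact h1
  have hindep : ∀ a b : F, algebraMap F K a + algebraMap F K b * θ = 0 → b = 0 := by
    intro a b h
    by_contra hb
    have h1 : AdjoinRoot.mk P (Polynomial.C a + Polynomial.C b * Polynomial.X) = 0 := by
      rw [map_add, map_mul, AdjoinRoot.mk_C, AdjoinRoot.mk_C, AdjoinRoot.mk_X]; exact h
    rw [AdjoinRoot.mk_eq_zero] at h1
    have hd : (Polynomial.C a + Polynomial.C b * Polynomial.X).natDegree = 1 := by compute_degree!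
    have := Polynomial.natDegree_le_of_dvd h1 (fun h0 => by simp [h0] at hd)
    omega
  have hspan : ∀ z : K, ∃ a b : F, z = algebraMap F K a + algebraMap F K b * θ := by
    have hinj : Function.Injective (fun ab : F × F => algebraMap F K ab.1 + algebraMap F K ab.2 * θ) := by
      rintro ⟨a, b⟩ ⟨a', b'⟩ h
      simp only at h
      have hb : b - b' = 0 := hindep (a - a') (b - b') (by simp only [map_sub]; linear_combination h)
      rw [sub_eq_zero] at hb
      subst hb
      rw [(algebraMap F K).injective (add_right_cancel h)]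
    have hbij := (Fintype.bijective_iff_injective_and_card _).mpr ⟨hinj, by rw [Fintype.card_prod, hK, hF, sq]⟩
    intro z
    obtain ⟨⟨a, b⟩, hab⟩ := hbij.2 z
    exact ⟨a, b, hab.symm⟩
  have hθc : CfsgLib.UnitaryEmb.conj F K θ = θ ^ 2 := by
    have hθ3 : θ ^ 3 = 1 := by linear_combination (θ - 1) * hθ
    rw [CfsgLib.UnitaryEmb.conj_apply, hF, ← Nat.div_add_mod q 3, hq, pow_add, pow_mul, hθ3, one_pow, one_mul]
  -- the module structure given by `x`
  let V := Fin m ⊕ Fin m → F
  let X : Matrix (Fin m ⊕ Fin m) (Fin m ⊕ Fin m) F := x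
  have hX : X ^ 2 + X + 1 = 0 := by
    have h3 : X ^ 3 = 1 := congrArg Subtype.val hx3
    obtain ⟨u, hu⟩ := hfpf
    have : (X - 1) * (X ^ 2 + X + 1) = 0 := by
      rw [show (X - 1) * (X ^ 2 + X + 1) = X ^ 3 - 1 by noncomm_ring, h3, sub_self]
    rw [show X - 1 = (u : Matrix (Fin m ⊕ Fin m) (Fin m ⊕ Fin m) F) from hu.symm] at this
    exact (Units.mul_right_eq_zero u).mp this
  have hXa : Polynomial.aeval (Matrix.toLinAlgEquiv' X) P = 0 := by
    rw [Polynomial.aeval_algHom_apply]
    simp [P, hX]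
  let φ : K →ₐ[F] Module.End F V := Ideal.Quotient.liftₐ (Ideal.span {P})
    (Polynomial.aeval (Matrix.toLinAlgEquiv' X)) (fun a ha => by
      obtain ⟨c, rfl⟩ := Ideal.mem_span_singleton.mp ha
      rw [map_mul, hXa, zero_mul])
  letI : Module K V := Module.compHom V φ.toRingHom
  haveI : IsScalarTower F K V := ⟨fun a z v => by
    show φ (a • z) v = a • φ z v
    rw [map_smul]; rfl⟩
  have hθv : ∀ v : V, θ • v = X.mulVec v := fun v => by
    show Polynomial.aeval (Matrix.toLinAlgEquiv' X) Polynomial.X v = _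
    rw [Polynomial.aeval_X]; rfl
  let B : LinearMap.BilinForm F V := Matrix.toBilin' (Matrix.J (Fin m) F)
  have hB : ∀ u v : V, B u v = Cfsg.sympForm m F u v := fun u v => Matrix.toBilin'_apply' _ u v
  have hA : B.IsAlt := fun v => by
    rw [hB]
    simp [Cfsg.sympForm, Matrix.J, dotProduct, Matrix.mulVec, Fintype.sum_sum_type, Matrix.one_apply, mul_comm]
  have hnd : ∀ u : V, (∀ v, B u v = 0) → u = 0 := fun u hu => by
    have hJ : IsUnit (Matrix.J (Fin m) F) := (Matrix.isUnit_iff_isUnit_det _).mpr (Matrix.isUnit_det_J (Fin m) F)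
    refine Matrix.vecMul_injective_iff_isUnit.mpr hJ (?_ : u ᵥ* Matrix.J (Fin m) F = (0 : V) ᵥ* Matrix.J (Fin m) F)
    rw [Matrix.zero_vecMul]
    funext i
    have := hu (Pi.single i 1)
    rw [hB, Cfsg.sympForm, Matrix.dotProduct_mulVec, dotProduct_single_one] at this
    exact this
  have hpres : ∀ (g : Matrix (Fin m ⊕ Fin m) (Fin m ⊕ Fin m) F), g ∈ Matrix.symplecticGroup (Fin m) F ↔
      ∀ u v, B (g.mulVec u) (g.mulVec v) = B u v := by
    intro g
    rw [SymplecticGroup.mem_iff']
    have hh : ∀ u v, B (g.mulVec u) (g.mulVec v) = u ⬝ᵥ (g.transpose * Matrix.J (Fin m) F * g).mulVec v := fun u v => by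
      rw [hB, Cfsg.sympForm, mul_assoc, ← Matrix.mulVec_mulVec, Matrix.dotProduct_mulVec u g.transpose,
        Matrix.vecMul_transpose, Matrix.mulVec_mulVec]
    constructor
    · intro hg u v; rw [hh, hg, hB]; rfl
    · intro hg
      ext i j
      have := hg (Pi.single i 1) (Pi.single j 1)
      rw [hh, hB, Cfsg.sympForm] at this
      simpa [Matrix.mulVec_single_one] using this
  have hBθ : ∀ u v : V, B (θ • u) (θ • v) = B u v := fun u v => by
    rw [hθv, hθv]; exact (hpres X).1 x.2 u v
  obtain ⟨E, h, hh, hE⟩ := CfsgLib.UnitaryEmb.exists_unitary_coords (m := m) hK hF θ hθ hθc hspan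
    hindep B hA hnd hBθ (by simp [V, two_mul])
  let E' : V ≃ₗ[F] (Fin m → K) := E.restrictScalars F
  let ψ : GL (Fin m) K →* Matrix (Fin m ⊕ Fin m) (Fin m ⊕ Fin m) F := CfsgLib.UnitaryEmb.toSubfield E'
  have hψ : ∀ a v, E ((ψ a).mulVec v) = (a : Matrix (Fin m) (Fin m) K).mulVec (E v) :=
    fun a v => CfsgLib.UnitaryEmb.toSubfield_mulVec E' a v
  have hψθ : ∀ a v, (ψ a).mulVec (θ • v) = θ • (ψ a).mulVec v := fun a v => E.injective (by
    rw [hψ, map_smul, map_smul, hψ, Matrix.mulVec_smul])
  have hBh : ∀ u v u' v', h u v = h u' v' → B u v = B u' v' := fun u v u' v' e => by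
    rw [hh, hh] at e
    refine sub_eq_zero.mp (hindep (B (θ • u) v - B (θ • u') v' + (B u v - B u' v')) _ ?_)
    simp only [map_add, map_sub]
    linear_combination e
  have hψmem : ∀ a ∈ Cfsg.GU m K q, ψ a ∈ Matrix.symplecticGroup (Fin m) F := fun a ha =>
    (hpres _).2 fun u v => hBh _ _ _ _ (by rw [← hE, ← hE, hψ, hψ]; exact ha _ _)
  let Ψ : ↥(Cfsg.GU m K q) →* ↥(Matrix.symplecticGroup (Fin m) F) :=
    { toFun := fun a => ⟨ψ a, hψmem _ a.2⟩
      map_one' := Subtype.ext (map_one ψ)
      map_mul' := fun a b => Subtype.ext (map_mul ψ _ _) }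
  have hinj : Function.Injective Ψ := fun a b hab =>
    Subtype.ext (CfsgLib.UnitaryEmb.toSubfield_injective E' (congrArg Subtype.val hab))
  have hrange : Ψ.range = Subgroup.centralizer ({x} : Set ↥(Matrix.symplecticGroup (Fin m) F)) := by
    ext g
    rw [Subgroup.mem_centralizer_singleton_iff]
    constructor
    · rintro ⟨a, rfl⟩
      refine Subtype.ext (Matrix.ext_iff_mulVec.mpr fun v => ?_)
      show (ψ a * X).mulVec v = (X * ψ a).mulVec v
      rw [← Matrix.mulVec_mulVec, ← Matrix.mulVec_mulVec, ← hθv, ← hθv, hψθ]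
    · intro hg
      let G : Matrix (Fin m ⊕ Fin m) (Fin m ⊕ Fin m) F := g
      have hGX : G * X = X * G := by
        first
          | exact (congrArg Subtype.val hg).symm
          | exact congrArg Subtype.val hg
      have hGθ : ∀ v : V, G.mulVec (θ • v) = θ • G.mulVec v := fun v => by
        rw [hθv, hθv, Matrix.mulVec_mulVec, Matrix.mulVec_mulVec, hGX]
      let L : V →ₗ[K] V :=
        { toFun := G.mulVec
          map_add' := Matrix.mulVec_add G
          map_smul' := fun z v => by
            obtain ⟨a, b, rfl⟩ := hspan z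
            simp only [RingHom.id_apply, add_smul, mul_smul, algebraMap_smul]
            erw [Matrix.mulVec_add, Matrix.mulVec_smul, Matrix.mulVec_smul, hGθ]
 }
      let M := LinearMap.toMatrix' (E.toLinearMap ∘ₗ L ∘ₗ E.symm.toLinearMap)
      have hM : ∀ w, M.mulVec w = E (G.mulVec (E.symm w)) := fun w => by
        simp [M, LinearMap.toMatrix'_mulVec, L]
      have hMu : IsUnit M := by
        refine Matrix.mulVec_injective_iff_isUnit.mp fun u v huv => ?_
        rw [hM, hM] at huv
        have h1 := E.injective huv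
        have h2 : G.det ≠ 0 := (SymplecticGroup.symplectic_det g.2).ne_zero
        exact E.symm.injective (Matrix.mulVec_injective_iff_isUnit.mpr
          ((Matrix.isUnit_iff_isUnit_det _).mpr h2.isUnit) h1)
      obtain ⟨A, hA⟩ := hMu
      have hAv : ∀ v, (A : Matrix (Fin m) (Fin m) K).mulVec (E v) = E (G.mulVec v) := fun v => by
        rw [hA, hM, LinearEquiv.symm_apply_apply]
      have hAU : A ∈ Cfsg.GU m K q := fun u v => by
        show Cfsg.hermForm m K q ((A : Matrix (Fin m) (Fin m) K).mulVec u) ((A : Matrix (Fin m) (Fin m) K).mulVec v) = _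
        conv_lhs => rw [← E.apply_symm_apply u, ← E.apply_symm_apply v, hAv, hAv, hE, hh, ← hGθ,
          (hpres G).1 g.2, (hpres G).1 g.2, ← hh, ← hE]
        rw [E.apply_symm_apply, E.apply_symm_apply]
      refine ⟨⟨A, hAU⟩, Subtype.ext (Matrix.ext_iff_mulVec.mpr fun v => E.injective ?_)⟩
      show E ((ψ A).mulVec v) = _
      rw [hψ, hAv]
  rw [← hrange, ← Nat.card_congr (MonoidHom.ofInjective hinj).toEquiv,
    Nat.card_congr (CfsgLib.Classical.Herm.guEquiv hK m).toEquiv,
    CfsgLib.Classical.Herm.card_unit hK m, Fin.prod_univ_eq_prod_range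
      (fun i => (q : ℤ) ^ (i + 1) - (-1) ^ (i + 1)) m, Nat.cast_mul, Nat.cast_pow, Nat.cast_prod]
  congr 1
  refine Finset.prod_congr rfl fun i _ => ?_
  have hq1 : 1 ≤ q ^ (i + 1) := Nat.one_le_pow _ _ (by omega)
  rcases Nat.even_or_odd i with he | ho
  · rw [if_pos he, (he.add_one).neg_one_pow]; push_cast; ring
  · rw [if_neg (Nat.not_even_iff_odd.mpr ho), (ho.add_one).neg_one_pow, Nat.cast_sub hq1]; push_cast; ring

end Cfsg.Agent.S2637
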