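import Cfsg.Statements.S2638


set_option autoImplicit false
open Cfsg

namespace Cfsg.Agent.S2638

/-- If an element x of GL_n(q), n ≥ 1, has prime order r and the multiplicative order of q modulo r is n (r is a primitive prime divisor of q^n − 1, so x acts irreducibly), then the centraliser of x in GL_n(q) is cyclic of order q^n − 1 (the multiplicative group of the field with q^n elements, a Singer cycle). -/
theorem result {F : Type*} [Field F] [Fintype F] {p q : ℕ} [Fact p.Prime] [CharP F p] (hF : Fintype.card F = q) {n r : ℕ} (hn : 1 ≤ n) (hr : r.Prime) (hrp : r ≠ p) (hi : orderOf (q : ZMod r) = n) (x : GL (Fin n) F) (hx : orderOf x = r) : IsCyclic ↥(Subgroup.centralizer ({x} : Set (GL (Fin n) F))) ∧ Nat.card ↥(Subgroup.centralizer ({x} : Set (GL (Fin n) F))) = q ^ n - 1 := by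
  classical
  have hxr : (x : Matrix (Fin n) (Fin n) F) ^ r = 1 := by
    rw [← Units.val_pow_eq_pow_val, ← hx, pow_orderOf_eq_one, Units.val_one]
  have hx1 : (x : Matrix (Fin n) (Fin n) F) ≠ 1 := by
    intro h
    rw [show x = 1 from Units.ext h, orderOf_one] at hx
    exact hr.ne_one hx.symm
  set μ := minpoly F (x : Matrix (Fin n) (Fin n) F) with hμ
  have hint : IsIntegral F (x : Matrix (Fin n) (Fin n) F) := Algebra.IsIntegral.isIntegral _
  have hrF : (r : F) ≠ 0 := by
    rw [Ne, CharP.cast_eq_zero_iff F p, Nat.prime_dvd_prime_iff_eq Fact.out hr]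
    exact fun h => hrp h.symm
  have hdvd : μ ∣ Polynomial.X ^ r - Polynomial.C 1 :=
    minpoly.dvd F _ (by simp [hxr])
  have hsf : Squarefree μ := ((Polynomial.separable_X_pow_sub_C (1 : F) hrF one_ne_zero).of_dvd hdvd).squarefree
  have hdeg : μ.natDegree ≤ n :=
    (Polynomial.natDegree_le_of_dvd (Matrix.minpoly_dvd_charpoly (x : Matrix (Fin n) (Fin n) F))
      (Matrix.charpoly_monic _).ne_zero).trans (by simp [Matrix.charpoly_natDegree_eq_dim])
  -- an irreducible factor other than `X - 1`
  have hX1 : ¬ μ ∣ Polynomial.X - Polynomial.C 1 := by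
    intro h
    obtain ⟨u, hu⟩ := h
    have h2 := congrArg (Polynomial.aeval (x : Matrix (Fin n) (Fin n) F)) hu
    rw [map_mul, hμ, minpoly.aeval, zero_mul] at h2
    exact hx1 (sub_eq_zero.1 (by simpa using h2))
  have hn0 : NeZero n := ⟨by omega⟩
  obtain ⟨f, hfirr, hfdvd, hf1⟩ : ∃ f : Polynomial F, Irreducible f ∧ f ∣ μ ∧ ¬ f ∣ Polynomial.X - Polynomial.C 1 := by
    by_contra! h
    refine hX1 ?_
    obtain ⟨f, hfirr, hfd⟩ := WfDvdMonoid.exists_irreducible_factor
      (minpoly.not_isUnit F (x : Matrix (Fin n) (Fin n) F)) (minpoly.ne_zero hint)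
    obtain ⟨c, hc⟩ : f ∣ μ := hfd
    have hlin : Irreducible (Polynomial.X - Polynomial.C (1 : F)) := Polynomial.irreducible_X_sub_C _
    by_cases hcu : IsUnit c
    · rw [hc]; exact (IsUnit.mul_right_dvd hcu).2 (h f hfirr (hc ▸ dvd_mul_right f c))
    · have hc0 : c ≠ 0 := fun h0 => minpoly.ne_zero hint (by rw [← hμ, hc, h0, mul_zero])
      obtain ⟨g, hgirr, hgd⟩ := WfDvdMonoid.exists_irreducible_factor hcu hc0
      exfalso
      have hf' := hfirr.associated_of_dvd hlin (h f hfirr (hc ▸ dvd_mul_right f c))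
      have hg' := hgirr.associated_of_dvd hlin (h g hgirr (hc ▸ hgd.mul_left f))
      have : f * f ∣ μ := by
        rw [hc]; exact mul_dvd_mul_left f ((hf'.trans hg'.symm).dvd.trans hgd)
      exact hfirr.not_isUnit (hsf f this)
  have : Fact (Irreducible f) := ⟨hfirr⟩
  have hf0 : f ≠ 0 := hfirr.ne_zero
  let pb := AdjoinRoot.powerBasis hf0
  have : Module.Finite F (AdjoinRoot f) := pb.finite
  have : Finite (AdjoinRoot f) := Module.finite_of_finite F
  let _ := Fintype.ofFinite (AdjoinRoot f)
  have hcardK : Fintype.card (AdjoinRoot f) = q ^ f.natDegree := by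
    rw [Module.card_eq_pow_finrank (K := F), pb.finrank, AdjoinRoot.powerBasis_dim, hF]
  -- the root has order `r`
  have hroot : (AdjoinRoot.root f) ^ r = 1 := by
    have : AdjoinRoot.mk f (Polynomial.X ^ r - Polynomial.C 1) = 0 :=
      AdjoinRoot.mk_eq_zero.2 (hfdvd.trans hdvd)
    simpa [sub_eq_zero] using this
  have hroot1 : AdjoinRoot.root f ≠ 1 := by
    intro h
    refine hf1 (AdjoinRoot.mk_eq_zero.1 ?_)
    simp [h]
  have hrdvd : r ∣ q ^ f.natDegree - 1 := by
    have hu : IsUnit (AdjoinRoot.root f) := IsUnit.of_pow_eq_one hroot hr.ne_zero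
    have h1 : orderOf hu.unit = r := by
      have : Fact r.Prime := ⟨hr⟩
      refine orderOf_eq_prime (Units.ext (by simpa using hroot)) (fun h => hroot1 ?_)
      simpa using congrArg Units.val h
    rw [← hcardK, ← Nat.card_eq_fintype_card, ← Nat.card_units, ← h1]
    exact orderOf_dvd_natCard _
  have hnd : n ∣ f.natDegree := by
    rw [← hi]
    refine orderOf_dvd_of_pow_eq_one ?_
    have h1 : 1 ≤ q ^ f.natDegree := Nat.one_le_pow _ _ (hF ▸ Fintype.card_pos)
    have : ((q ^ f.natDegree - 1 : ℕ) : ZMod r) = 0 := (ZMod.natCast_eq_zero_iff _ _).2 hrdvd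
    rw [Nat.cast_sub h1, Nat.cast_pow, Nat.cast_one] at this
    exact sub_eq_zero.1 this
  have hfpos : 0 < f.natDegree := hfirr.natDegree_pos
  have hfn : f.natDegree = n := le_antisymm
    ((Polynomial.natDegree_le_of_dvd hfdvd (minpoly.ne_zero hint)).trans hdeg)
    (Nat.le_of_dvd hfpos hnd)
  have hfx : Polynomial.aeval (x : Matrix (Fin n) (Fin n) F) f = 0 := by
    obtain ⟨c, hc⟩ := hfdvd
    have hc0 : c ≠ 0 := fun h0 => minpoly.ne_zero hint (by rw [← hμ, hc, h0, mul_zero])
    have hcd : c.natDegree = 0 := by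
      have := congrArg Polynomial.natDegree hc
      rw [Polynomial.natDegree_mul hf0 hc0] at this
      omega
    obtain ⟨a, rfl⟩ : ∃ a, c = Polynomial.C a := ⟨_, Polynomial.eq_C_of_natDegree_eq_zero hcd⟩
    have ha : a ≠ 0 := by simpa using hc0
    have : f = μ * Polynomial.C a⁻¹ := by
      rw [hc, mul_assoc, ← Polynomial.C_mul, mul_inv_cancel₀ ha, map_one, mul_one]
    rw [this, map_mul, hμ, minpoly.aeval, zero_mul]
  let φ : AdjoinRoot f →ₐ[F] Matrix (Fin n) (Fin n) F :=
    Ideal.Quotient.liftₐ (Ideal.span {f}) (Polynomial.aeval (x : Matrix (Fin n) (Fin n) F)) (fun a ha => by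
      obtain ⟨b, rfl⟩ := Ideal.mem_span_singleton.1 ha
      rw [map_mul, hfx, zero_mul])
  have hφ : φ (AdjoinRoot.root f) = x := by
    show Polynomial.aeval (x : Matrix (Fin n) (Fin n) F) Polynomial.X = _
    simp
  let v : Fin n → F := Pi.single 0 1
  let T : AdjoinRoot f →ₗ[F] (Fin n → F) :=
    ((Matrix.mulVecBilin F F).flip v).comp φ.toLinearMap
  have hT : ∀ a, T a = (φ a).mulVec v := fun a => rfl
  have hinv : ∀ a w, a ≠ 0 → (φ a).mulVec w = 0 → w = 0 := by
    intro a w ha hw
    have := congrArg ((φ a⁻¹).mulVec) hw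
    rwa [Matrix.mulVec_mulVec, ← map_mul, inv_mul_cancel₀ ha, map_one, Matrix.one_mulVec,
      Matrix.mulVec_zero] at this
  have hTinj : Function.Injective T := by
    rw [injective_iff_map_eq_zero]
    intro a ha
    by_contra h0
    have : v ≠ 0 := by simp [v]
    exact this (hinv a v h0 ha)
  have hTsurj : Function.Surjective T := by
    refine (LinearMap.injective_iff_surjective_of_finrank_eq_finrank ?_).1 hTinj
    rw [pb.finrank, AdjoinRoot.powerBasis_dim, hfn, Module.finrank_fin_fun]
  let ψ : (AdjoinRoot f)ˣ →* GL (Fin n) F := Units.map φ.toMonoidHom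
  have hψinj : Function.Injective ψ := Units.map_injective φ.toRingHom.injective
  have hrange : ψ.range = Subgroup.centralizer ({x} : Set (GL (Fin n) F)) := by
    refine le_antisymm ?_ fun g hg => ?_
    · rintro _ ⟨a, rfl⟩
      rw [Subgroup.mem_centralizer_singleton_iff]
      refine Units.ext ?_
      show φ (a : AdjoinRoot f) * (x : Matrix (Fin n) (Fin n) F) = x * φ a
      rw [← hφ, ← map_mul, ← map_mul, mul_comm]
    · rw [Subgroup.mem_centralizer_singleton_iff] at hg
      have hg' : Commute (g : Matrix (Fin n) (Fin n) F) x := congrArg Units.val hg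
      obtain ⟨a, ha⟩ := hTsurj ((g : Matrix (Fin n) (Fin n) F).mulVec v)
      have hcomm : ∀ b, Commute (g : Matrix (Fin n) (Fin n) F) (φ b) := by
        intro b
        induction b using AdjoinRoot.induction_on with
        | ih p =>
          show Commute _ (Polynomial.aeval (x : Matrix (Fin n) (Fin n) F) p)
          induction p using Polynomial.induction_on' with
          | add p q hp hq => rw [map_add]; exact hp.add_right hq
          | monomial k c =>
            rw [Polynomial.aeval_monomial]
            exact (Algebra.commute_algebraMap_right c _).mul_right (hg'.pow_right k)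
      have hgeq : (g : Matrix (Fin n) (Fin n) F) = φ a := by
        refine Matrix.ext_iff_mulVec.2 fun w => ?_
        obtain ⟨b, rfl⟩ := hTsurj w
        rw [hT, Matrix.mulVec_mulVec, (hcomm b).eq, ← Matrix.mulVec_mulVec, ← ha, hT,
          Matrix.mulVec_mulVec, ← map_mul, mul_comm, map_mul, ← Matrix.mulVec_mulVec]
      have ha0 : a ≠ 0 := fun h0 => g.ne_zero (by rw [hgeq, h0, map_zero])
      exact ⟨Units.mk0 a ha0, Units.ext hgeq.symm⟩
  rw [← hrange]
  let e := MonoidHom.ofInjective hψinj
  refine ⟨isCyclic_of_surjective e.toMonoidHom e.surjective, ?_⟩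
  rw [← Nat.card_congr e.toEquiv, Nat.card_units, Nat.card_eq_fintype_card, hcardK, hfn]

end Cfsg.Agent.S2638
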