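import Cfsg.Statements.S2639
import Cfsg.Agent.Lib.UnitaryEmb.Basic

set_option autoImplicit false
open Cfsg

namespace Cfsg.Agent.S2639

/-- The unitary group embeds in the symplectic group of twice the dimension over the subfield: for a field K with q² elements and a field F with q elements (isomorphic to the subfield of K of order q), there is an injective homomorphism GU_m(q) → Sp_2m(F). -/
theorem result {K F : Type*} [Field K] [Fintype K] [Field F] [Fintype F] {q : ℕ} (hK : Fintype.card K = q ^ 2) (hF : Fintype.card F = q) (m : ℕ) : ∃ φ : ↥(Cfsg.GU m K q) →* ↥(Matrix.symplecticGroup (Fin m) F), Function.Injective φ := by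
  classical
  obtain ⟨f⟩ := CfsgLib.UnitaryEmb.exists_ringHom hK hF
  let _ : Algebra F K := f.toAlgebra
  obtain ⟨θ, hθ⟩ := CfsgLib.UnitaryEmb.exists_conj_ne (F := F) (K := K) hK hF
  let E₀ : (Fin m ⊕ Fin m → F) →ₗ[F] (Fin m → K) :=
    { toFun := fun w i => algebraMap F K (w (.inr i)) + algebraMap F K (w (.inl i)) * θ
      map_add' := fun u v => by ext i; simp; ring
      map_smul' := fun c v => by ext i; simp [Algebra.smul_def]; ring }
  have hinj : Function.Injective E₀ := by
    rw [injective_iff_map_eq_zero]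
    intro w hw
    have h : ∀ i, w (.inl i) = 0 ∧ w (.inr i) = 0 := by
      intro i
      have h1 : algebraMap F K (w (.inr i)) + algebraMap F K (w (.inl i)) * θ = 0 := congrFun hw i
      have h2 := congrArg (CfsgLib.UnitaryEmb.conj F K) h1
      simp only [map_add, map_mul, AlgHom.commutes, map_zero] at h2
      have h3 : algebraMap F K (w (.inl i)) * (θ - CfsgLib.UnitaryEmb.conj F K θ) = 0 := by
        linear_combination h1 - h2
      have h4 : algebraMap F K (w (.inl i)) = 0 :=
        (mul_eq_zero.1 h3).resolve_right (sub_ne_zero.2 fun h => hθ h.symm)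
      rw [h4, zero_mul, add_zero] at h1
      exact ⟨(map_eq_zero _).1 h4, (map_eq_zero _).1 h1⟩
    ext (i | i)
    · exact (h i).1
    · exact (h i).2
  have hfin : Module.finrank F (Fin m ⊕ Fin m → F) = Module.finrank F (Fin m → K) := by
    rw [Module.finrank_fintype_fun_eq_card, Module.finrank_pi_fintype]
    simp [CfsgLib.UnitaryEmb.finrank_eq_two hK hF, mul_two]
  let E := E₀.linearEquivOfInjective hinj hfin
  have hE : ∀ w i, E w i = algebraMap F K (w (.inr i)) + algebraMap F K (w (.inl i)) * θ :=
    fun w i => rfl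
  have hherm : ∀ u v, Cfsg.hermForm m K q (E u) (E v) - Cfsg.hermForm m K q (E v) (E u) =
      (CfsgLib.UnitaryEmb.conj F K θ - θ) *
        algebraMap F K (∑ i, (u (.inr i) * v (.inl i) - u (.inl i) * v (.inr i))) := by
    intro u v
    have hq : ∀ x : K, x ^ q = CfsgLib.UnitaryEmb.conj F K x := fun x => by
      rw [CfsgLib.UnitaryEmb.conj_apply, hF]
    simp only [Cfsg.hermForm, hq, hE, map_add, map_mul, AlgHom.commutes, map_sum, map_sub,
      Finset.mul_sum, ← Finset.sum_sub_distrib]
    exact Finset.sum_congr rfl fun i _ => by ring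
  have hform : ∀ u v : Fin m ⊕ Fin m → F, u ⬝ᵥ (Matrix.J (Fin m) F).mulVec v =
      ∑ i, (u (.inr i) * v (.inl i) - u (.inl i) * v (.inr i)) := by
    intro u v
    simp [Matrix.J, dotProduct, Fintype.sum_sum_type, Matrix.mulVec, Matrix.one_apply,
      Finset.sum_sub_distrib]
    ring
  have hmem : ∀ g : ↥(Cfsg.GU m K q),
      CfsgLib.UnitaryEmb.toSubfield E g ∈ Matrix.symplecticGroup (Fin m) F := by
    intro g
    rw [SymplecticGroup.mem_iff']
    generalize hA : CfsgLib.UnitaryEmb.toSubfield E (g : GL (Fin m) K) = A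
    have hinv : ∀ u v, A.mulVec u ⬝ᵥ (Matrix.J (Fin m) F).mulVec (A.mulVec v) =
        u ⬝ᵥ (Matrix.J (Fin m) F).mulVec v := by
      intro u v
      refine (algebraMap F K).injective (mul_left_cancel₀ (sub_ne_zero.2 hθ) ?_)
      rw [hform, hform, ← hherm, ← hherm, ← hA, CfsgLib.UnitaryEmb.toSubfield_mulVec,
        CfsgLib.UnitaryEmb.toSubfield_mulVec]
      exact congrArg₂ (· - ·) (g.2 (E u) (E v)) (g.2 (E v) (E u))
    refine Matrix.ext fun i j => ?_
    have h := hinv (Pi.single i 1) (Pi.single j 1)
    rw [Matrix.dotProduct_mulVec, Matrix.vecMul_mulVec, ← Matrix.dotProduct_mulVec,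
      Matrix.mulVec_mulVec] at h
    simpa [Matrix.mulVec_single, single_dotProduct] using h
  refine ⟨((CfsgLib.UnitaryEmb.toSubfield E).comp (Cfsg.GU m K q).subtype).codRestrict _ hmem,
    fun g h hgh => Subtype.ext (CfsgLib.UnitaryEmb.toSubfield_injective E (congrArg Subtype.val hgh))⟩

end Cfsg.Agent.S2639
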