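import Cfsg.Statements.S2642
import Cfsg.Agent.Lib.UnipClass.Basic
-- import your own Cfsg.Agent.* helpers here

set_option autoImplicit false
open Cfsg

namespace Cfsg.Agent.S2642

/-- Number of conjugacy classes of elements of order p in the general unitary group GU_n(q), q a power of p: every unipotent Jordan type occurs and the classes correspond to the partitions of n with all parts at most p other than the all-ones partition, exactly as in GL_n; so there are (number of partitions of n with parts ≤ p) − 1 classes. -/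
theorem result {K : Type*} [Field K] [Fintype K] {p q n : ℕ} [Fact p.Prime] [CharP K p] (hK : Fintype.card K = q ^ 2) : Nat.card {C : ConjClasses ↥(Cfsg.GU n K q) // ∃ g : ↥(Cfsg.GU n K q), ConjClasses.mk g = C ∧ orderOf g = p} = (Finset.univ.filter (fun μ : Nat.Partition n => ∀ a ∈ μ.parts, a ≤ p)).card - 1 := by
  obtain ⟨φ, hφq, hφ, hw⟩ := CfsgLib.Conj.exists_frob hK
  refine CfsgLib.UnipClass.card_classes (Cfsg.GU n K q).subtype Subtype.val_injective ?_ ?_
  · intro a b _ _ hab
    obtain ⟨g, hg⟩ := isConj_iff.1 hab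
    obtain ⟨h, hh, hconj⟩ := CfsgLib.Conj.exists_unitary_conj φ hφ hw a.1 b.1 g
      ((CfsgLib.Conj.mem_GU_iff φ hφq hφ _).1 a.2) ((CfsgLib.Conj.mem_GU_iff φ hφq hφ _).1 b.2)
      (mul_inv_eq_iff_eq_mul.1 hg)
    exact isConj_iff.2 ⟨⟨h, (CfsgLib.Conj.mem_GU_iff φ hφq hφ h).2 hh⟩,
      mul_inv_eq_iff_eq_mul.2 (Subtype.ext hconj)⟩
  · intro g hg
    let ctu : GL (Fin n) K := ⟨CfsgLib.Conj.conjT (n := n) φ g, CfsgLib.Conj.conjT (n := n) φ ↑g⁻¹,
      by rw [← CfsgLib.Conj.conjT_mul, ← Units.val_mul, inv_mul_cancel, Units.val_one, CfsgLib.Conj.conjT_one],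
      CfsgLib.Conj.conjT_units φ g⟩
    have hctpow : ∀ (M : Matrix (Fin n) (Fin n) K) (j : ℕ),
        CfsgLib.Conj.conjT (n := n) φ (M ^ j) = CfsgLib.Conj.conjT (n := n) φ M ^ j := fun M j => by
      induction j with
      | zero => simpa using CfsgLib.Conj.conjT_one φ
      | succ j ih => rw [pow_succ', CfsgLib.Conj.conjT_mul, ih, ← pow_succ]
    have hp : ctu ^ p = 1 := Units.ext (by
      show CfsgLib.Conj.conjT (n := n) φ (g : Matrix (Fin n) (Fin n) K) ^ p = 1
      rw [← hctpow, ← Units.val_pow_eq_pow_val, hg, Units.val_one, CfsgLib.Conj.conjT_one])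
    have hr : ∀ j, CfsgLib.UnipClass.jrank (g : Matrix (Fin n) (Fin n) K) j =
        CfsgLib.UnipClass.jrank ((ctu⁻¹ : GL (Fin n) K) : Matrix (Fin n) (Fin n) K) j := by
      intro j
      have h2 : CfsgLib.UnipClass.jrank (ctu : Matrix (Fin n) (Fin n) K) j =
          CfsgLib.UnipClass.jrank (g : Matrix (Fin n) (Fin n) K) j := by
        unfold CfsgLib.UnipClass.jrank
        show ((CfsgLib.Conj.conjT (n := n) φ (g : Matrix (Fin n) (Fin n) K) - 1) ^ j).rank = _
        rw [← CfsgLib.Conj.conjT_one φ, ← map_sub, ← hctpow, CfsgLib.Conj.conjT_one]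
        show ((((g : Matrix (Fin n) (Fin n) K) - 1) ^ j).map φ).transpose.rank = _
        rw [Matrix.rank_transpose, CfsgLib.UnipClass.rank_map]
      rw [← h2]
      unfold CfsgLib.UnipClass.jrank
      have h3 : ((ctu⁻¹ : GL (Fin n) K) : Matrix (Fin n) (Fin n) K) - 1 =
          -((ctu⁻¹ : GL (Fin n) K) : Matrix (Fin n) (Fin n) K) * ((ctu : Matrix (Fin n) (Fin n) K) - 1) := by
        rw [neg_mul, mul_sub, ← Units.val_mul, inv_mul_cancel, Units.val_one, mul_one, neg_sub]
      have hc : Commute (-((ctu⁻¹ : GL (Fin n) K) : Matrix (Fin n) (Fin n) K))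
          ((ctu : Matrix (Fin n) (Fin n) K) - 1) := by
        refine Commute.neg_left (Commute.sub_right ?_ (Commute.one_right _))
        show _ * _ = _ * _
        rw [← Units.val_mul, ← Units.val_mul, inv_mul_cancel, mul_inv_cancel]
      rw [h3, hc.mul_pow, Matrix.rank_mul_eq_right_of_isUnit_det]
      rw [← Matrix.isUnit_iff_isUnit_det]
      exact (IsUnit.neg (ctu⁻¹).isUnit).pow j
    obtain ⟨S, hS⟩ := isConj_iff.1 (CfsgLib.UnipClass.isConj_of_jrank hg (by rw [inv_pow, hp, inv_one]) hr)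
    obtain ⟨c, hc⟩ := CfsgLib.Conj.exists_unitary_similar φ hφ hw g S (by
      have : ctu * S * g = S := by
        rw [mul_assoc, mul_inv_eq_iff_eq_mul.1 hS, ← mul_assoc, mul_inv_cancel, one_mul]
      exact congrArg Units.val this)
    exact ⟨⟨c * g * c⁻¹, (CfsgLib.Conj.mem_GU_iff φ hφq hφ _).2 hc⟩, IsConj.symm (isConj_iff.2 ⟨c, rfl⟩)⟩

end Cfsg.Agent.S2642
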