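import Cfsg.Statements.S2643
import Cfsg.Agent.Lib.UnitTransv.Regular

set_option autoImplicit false
set_option maxHeartbeats 400000
open Cfsg

namespace Cfsg.Agent.S2643

/-- Regular unipotent classes of SU_n(q), n ≥ 2: the elements u of the special unitary group (isometries of Σ u_i v_i^q of determinant one over the field with q² elements) with (u − 1)^n = 0 and rank(u − 1) = n − 1 form exactly gcd(n, q + 1) conjugacy classes of SU_n(q). -/
theorem result {K : Type*} [Field K] [Fintype K] {q n : ℕ} (hK : Fintype.card K = q ^ 2) (hn : 2 ≤ n) : Nat.card {C : ConjClasses ↥(Cfsg.SU n K q) // ∃ u : ↥(Cfsg.SU n K q), ConjClasses.mk u = C ∧ (((u : GL (Fin n) K) : Matrix (Fin n) (Fin n) K) - 1) ^ n = 0 ∧ (((u : GL (Fin n) K) : Matrix (Fin n) (Fin n) K) - 1).rank = n - 1} = Nat.gcd n (q + 1) := by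

  classical
  obtain ⟨φ, hφq, hφ, hw⟩ := CfsgLib.Conj.exists_frob hK
  obtain ⟨u₀, N₀, hN₀, hu₀, hu₀U⟩ := CfsgLib.UnitTransv.exists_regular_unitary (n := n) φ hφ hw (by omega)
  have hmem : ∀ g : GL (Fin n) K, g ∈ Cfsg.GU n K q ↔
      CfsgLib.Conj.conjT (n := n) φ (g : Matrix (Fin n) (Fin n) K) * g = 1 := CfsgLib.Conj.mem_GU_iff φ hφq hφ
  have hu₀' : u₀ ∈ Cfsg.GU n K q := (hmem _).mpr hu₀U
  have hdu₀ : (u₀ : Matrix (Fin n) (Fin n) K).det = 1 := by
    have := CfsgLib.Conj.det_smul_one_add_nilpotent ⟨_, hN₀.pow_card⟩ (1 : K)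
    rw [one_smul, one_pow] at this
    rw [hu₀, this]
  let μ : Subgroup Kˣ := (powMonoidHom (q + 1) : Kˣ →* Kˣ).ker
  have hμ : ∀ x : Kˣ, x ∈ μ ↔ φ (x : K) * x = 1 := fun x => by
    show x ^ (q + 1) = 1 ↔ _
    rw [Units.ext_iff, Units.val_pow_eq_pow_val, pow_succ, Units.val_one, hφq]
  have hμcard : Nat.card μ = q + 1 := by
    show Nat.card (powMonoidHom (q + 1) : Kˣ →* Kˣ).ker = q + 1
    rw [IsCyclic.card_powMonoidHom_ker, Nat.card_units, Nat.card_eq_fintype_card, hK]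
    refine Nat.gcd_eq_right ⟨q - 1, ?_⟩
    have := Fintype.one_lt_card (α := K)
    rw [hK] at this
    have hq : 1 ≤ q := Nat.one_le_iff_ne_zero.mpr fun h => by simp [h] at this
    obtain ⟨r, rfl⟩ := Nat.exists_eq_add_of_le hq
    rw [Nat.add_sub_cancel_left, show (1 + r) ^ 2 = (1 + r + 1) * r + 1 by ring, Nat.add_sub_cancel]
  have hdetU : ∀ g : GL (Fin n) K, g ∈ Cfsg.GU n K q → Matrix.GeneralLinearGroup.det g ∈ μ := fun g hg => by
    have h1 := congrArg Matrix.det ((hmem g).mp hg)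
    rw [Matrix.det_mul, Matrix.det_one] at h1
    change ((g : Matrix (Fin n) (Fin n) K).map φ).transpose.det * _ = 1 at h1
    rw [Matrix.det_transpose, ← RingHom.mapMatrix_apply, ← RingHom.map_det] at h1
    exact (hμ _).mpr h1
  have hD : ∀ d : K, (Matrix.diagonal (fun i : Fin n => if (i : ℕ) = 0 then d else 1)).det = d := fun d => by
    rw [Matrix.det_diagonal, Finset.prod_eq_single (⟨0, by omega⟩ : Fin n)]
    · simp
    · intro b _ hb; rw [if_neg]; exact fun h => hb (Fin.ext h)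
    · simp
  let D : μ → GL (Fin n) K := fun d => Matrix.GeneralLinearGroup.mkOfDetNeZero _
    (show (Matrix.diagonal (fun i : Fin n => if (i : ℕ) = 0 then ((d : Kˣ) : K) else 1)).det ≠ 0 by rw [hD]; exact Units.ne_zero _)
  have hdD : ∀ d : μ, Matrix.GeneralLinearGroup.det (D d) = d := fun d => Units.ext (hD _)
  have hDU : ∀ d, D d ∈ Cfsg.GU n K q := fun d => by
    rw [hmem]
    show ((Matrix.diagonal _).map φ).transpose * Matrix.diagonal _ = 1
    rw [Matrix.diagonal_map (map_zero φ), Matrix.diagonal_transpose, Matrix.diagonal_mul_diagonal, ← Matrix.diagonal_one]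
    congr 1; funext i
    split
    · exact (hμ _).mp d.2
    · simp
  have hconjdet : ∀ g : GL (Fin n) K, ((g * u₀ * g⁻¹ : GL (Fin n) K) : Matrix (Fin n) (Fin n) K).det = 1 := fun g => by
    rw [Units.val_mul, Units.val_mul, Matrix.det_units_conj, hdu₀]
  let mk : (g : GL (Fin n) K) → g ∈ Cfsg.GU n K q → (g : Matrix (Fin n) (Fin n) K).det = 1 → ↥(Cfsg.SU n K q) :=
    fun g hg hd => ⟨⟨(g : Matrix (Fin n) (Fin n) K), hd⟩, fun u v => hg u v⟩
  let j : ↥(Cfsg.SU n K q) →* GL (Fin n) K := Matrix.SpecialLinearGroup.toGL.comp (Cfsg.SU n K q).subtype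
  have hj : Function.Injective j := Matrix.SpecialLinearGroup.toGL_injective.comp Subtype.val_injective
  have hjmk : ∀ g hg hd, j (mk g hg hd) = g := fun g hg hd => Units.ext rfl
  have hjU : ∀ u, j u ∈ Cfsg.GU n K q := fun u x y => u.2 x y
  let E : μ → ↥(Cfsg.SU n K q) := fun d => mk (D d * u₀ * (D d)⁻¹)
    (mul_mem (mul_mem (hDU d) hu₀') (inv_mem (hDU d))) (hconjdet _)
  have hEgl : ∀ d, j (E d) = D d * u₀ * (D d)⁻¹ := fun d => hjmk _ _ _
  let P : ↥(Cfsg.SU n K q) → Prop := fun u =>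
    (((u : GL (Fin n) K) : Matrix (Fin n) (Fin n) K) - 1) ^ n = 0 ∧
      (((u : GL (Fin n) K) : Matrix (Fin n) (Fin n) K) - 1).rank = n - 1
  have hEP : ∀ d, P (E d) := fun d => by
    have h1 : ((D d * u₀ * (D d)⁻¹ : GL (Fin n) K) : Matrix (Fin n) (Fin n) K) - 1 = (D d : Matrix (Fin n) (Fin n) K) * N₀ * ((D d)⁻¹ : GL (Fin n) K) := by
      rw [Units.val_mul, Units.val_mul, hu₀, mul_add, add_mul, mul_one, Units.mul_inv, add_sub_cancel_left]
    constructor
    · show ((j (E d) : Matrix (Fin n) (Fin n) K) - 1) ^ n = 0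
      rw [hEgl, h1, Units.conj_pow]
      have := hN₀.pow_card
      rw [Fintype.card_fin] at this
      rw [this, mul_zero, zero_mul]
    · show ((j (E d) : Matrix (Fin n) (Fin n) K) - 1).rank = n - 1
      rw [hEgl, h1, Matrix.rank_mul_eq_left_of_isUnit_det _ _ ((Matrix.isUnit_iff_isUnit_det _).mp (Units.isUnit _)), Matrix.rank_mul_eq_right_of_isUnit_det _ _ ((Matrix.isUnit_iff_isUnit_det _).mp (Units.isUnit _)), hN₀.rank_eq, Fintype.card_fin]
  let Θ : μ → {C : ConjClasses ↥(Cfsg.SU n K q) // ∃ u : ↥(Cfsg.SU n K q), ConjClasses.mk u = C ∧ (((u : GL (Fin n) K) : Matrix (Fin n) (Fin n) K) - 1) ^ n = 0 ∧ (((u : GL (Fin n) K) : Matrix (Fin n) (Fin n) K) - 1).rank = n - 1} :=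
    fun d => ⟨ConjClasses.mk (E d), E d, rfl, hEP d⟩
  have hsurj : Function.Surjective Θ := by
    rintro ⟨C, u, rfl, hun, hur⟩
    have hu : CfsgLib.Conj.IsRegNilp ((j u : Matrix (Fin n) (Fin n) K) - 1) :=
      ⟨by rw [Fintype.card_fin]; exact hun, by rw [Fintype.card_fin]; exact hur, by rw [Fintype.card_fin]; omega⟩
    obtain ⟨g, hg⟩ := hN₀.exists_conj hu
    obtain ⟨h, hh, hhu⟩ := CfsgLib.Conj.exists_unitary_conj φ hφ hw u₀ (j u) g hu₀U ((hmem _).mp (hjU u))
      (Units.ext (by rw [Units.val_mul, Units.val_mul, hu₀, mul_add, hg, sub_mul, mul_one, one_mul, add_sub_cancel]))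
    have hhU : h ∈ Cfsg.GU n K q := (hmem _).mpr hh
    let d : μ := ⟨Matrix.GeneralLinearGroup.det h, hdetU h hhU⟩
    refine ⟨d, Subtype.ext (ConjClasses.mk_eq_mk_iff_isConj.mpr (isConj_iff.mpr ?_))⟩
    have hd : Matrix.GeneralLinearGroup.det (h * (D d)⁻¹) = 1 := by
      rw [map_mul, map_inv, hdD]; exact mul_inv_cancel _
    refine ⟨mk (h * (D d)⁻¹) (mul_mem hhU (inv_mem (hDU d))) (congrArg Units.val hd), hj ?_⟩
    rw [map_mul, map_mul, map_inv, hEgl]
    erw [hjmk]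
    calc h * (D d)⁻¹ * (D d * u₀ * (D d)⁻¹) * (h * (D d)⁻¹)⁻¹ = h * u₀ * h⁻¹ := by group
      _ = j u := by rw [hhu]; group
  have hfib : ∀ d d', Θ d = Θ d' ↔ (QuotientGroup.mk d : μ ⧸ (powMonoidHom n : μ →* μ).range) = QuotientGroup.mk d' := by
    intro d d'
    rw [QuotientGroup.eq, Subtype.ext_iff, ConjClasses.mk_eq_mk_iff_isConj, isConj_iff]
    constructor
    · rintro ⟨h, hh⟩
      have hh' := congrArg j hh
      rw [map_mul, map_mul, map_inv, hEgl, hEgl] at hh'
      set a := (D d')⁻¹ * j h * D d with ha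
      have hau : a * u₀ = u₀ * a := by
        calc a * u₀ = (D d')⁻¹ * (j h * (D d * u₀ * (D d)⁻¹) * (j h)⁻¹) * (j h * D d) := by rw [ha]; group
          _ = (D d')⁻¹ * (D d' * u₀ * (D d')⁻¹) * (j h * D d) := by rw [hh']
          _ = u₀ * a := by rw [ha]; group
      have haN : Commute (a : Matrix (Fin n) (Fin n) K) N₀ := by
        have := congrArg Units.val hau
        rw [Units.val_mul a u₀, Units.val_mul u₀ a, hu₀, mul_add, add_mul, mul_one, one_mul, add_right_inj] at this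
        exact this
      obtain ⟨c, hc1, hc2⟩ := CfsgLib.UnitTransv.exists_det_eq_pow φ (by omega) hN₀ _
        ((hmem a).mp (mul_mem (mul_mem (inv_mem (hDU d')) (hjU h)) (hDU d))) haN
      have hc0 : c ≠ 0 := fun h0 => by simp [h0] at hc1
      let c' : μ := ⟨Units.mk0 c hc0, (hμ _).mpr hc1⟩
      have hdh : Matrix.GeneralLinearGroup.det (j h) = 1 := Units.ext h.1.2
      have hca : ((c' ^ n : μ) : Kˣ) = ((d'⁻¹ * d : μ) : Kˣ) := by
        rw [Subgroup.coe_pow, Subgroup.coe_mul, Subgroup.coe_inv,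
          show (c' : Kˣ) ^ n = Matrix.GeneralLinearGroup.det a from Units.ext (by simp [c', hc2]), ha, map_mul, map_mul, map_inv, hdD, hdD, hdh, mul_one]
      refine ⟨c'⁻¹, ?_⟩
      show c'⁻¹ ^ n = d⁻¹ * d'
      rw [inv_pow, Subtype.ext hca, mul_inv_rev, inv_inv]
    · rintro ⟨c, hc⟩
      let a : GL (Fin n) K := Matrix.GeneralLinearGroup.scalar (Fin n) ((c⁻¹ : μ) : Kˣ)
      have hau : a * u₀ = u₀ * a := by
        refine (Subgroup.mem_center_iff.mp ?_ u₀).symm
        rw [Matrix.GeneralLinearGroup.center_eq_range_scalar]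
        exact ⟨_, rfl⟩
      have haU : a ∈ Cfsg.GU n K q := by
        rw [hmem]
        show CfsgLib.Conj.conjT (n := n) φ (algebraMap K _ (((c⁻¹ : μ) : Kˣ) : K)) * algebraMap K _ (((c⁻¹ : μ) : Kˣ) : K) = 1
        rw [CfsgLib.Conj.conjT_algebraMap, ← map_mul, (hμ _).mp (c⁻¹).2, map_one]
      have hd : Matrix.GeneralLinearGroup.det (D d' * a * (D d)⁻¹) = 1 := by
        have hda : Matrix.GeneralLinearGroup.det a = ((c ^ n : μ) : Kˣ)⁻¹ := by
          rw [Subgroup.coe_pow, ← inv_pow]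
          exact Units.ext (by simp [a, Matrix.det_diagonal, inv_pow])
        rw [map_mul, map_mul, map_inv, hdD, hdD, hda, show c ^ n = d⁻¹ * d' from hc, Subgroup.coe_mul,
          Subgroup.coe_inv, mul_inv_rev, inv_inv, mul_inv_cancel_left, mul_inv_cancel]
      refine ⟨mk (D d' * a * (D d)⁻¹) (mul_mem (mul_mem (hDU d') haU) (inv_mem (hDU d))) (congrArg Units.val hd), hj ?_⟩
      rw [map_mul, map_mul, map_inv, hEgl, hEgl]
      erw [hjmk]
      calc D d' * a * (D d)⁻¹ * (D d * u₀ * (D d)⁻¹) * (D d' * a * (D d)⁻¹)⁻¹ = D d' * (a * u₀) * a⁻¹ * (D d')⁻¹ := by group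
        _ = D d' * u₀ * (D d')⁻¹ := by rw [hau]; group
  have hbij : Function.Bijective (Quotient.lift Θ (fun d d' hdd => (hfib d d').mpr (Quotient.sound hdd)) :
      μ ⧸ (powMonoidHom n : μ →* μ).range → _) := by
    refine ⟨fun x y hxy => ?_, fun C => ?_⟩
    · induction x using QuotientGroup.induction_on with | _ d =>
      induction y using QuotientGroup.induction_on with | _ d' =>
      exact (hfib d d').mp hxy
    · obtain ⟨d, rfl⟩ := hsurj C
      exact ⟨QuotientGroup.mk d, rfl⟩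
  rw [← Nat.card_eq_of_bijective _ hbij]
  show (powMonoidHom n : μ →* μ).range.index = _
  rw [IsCyclic.index_powMonoidHom_range, hμcard, Nat.gcd_comm]

end Cfsg.Agent.S2643
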