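import Cfsg.Statements.S2644
import Cfsg.Agent.Lib.UnitTransv.Basic

set_option autoImplicit false
open Cfsg

namespace Cfsg.Agent.S2644

/-- In the special unitary group SU_n(q) with n ≥ 3 (isometries of Σ u_i v_i^q of determinant one over the field with q² elements), any two transvections (elements t with t − 1 of rank one and square zero) are conjugate. -/
theorem result {K : Type*} [Field K] [Fintype K] {q n : ℕ} (hK : Fintype.card K = q ^ 2) (hn : 3 ≤ n) (s t : ↥(Cfsg.SU n K q)) (hs : Cfsg.IsTransvection (((s : GL (Fin n) K) : Matrix (Fin n) (Fin n) K))) (ht : Cfsg.IsTransvection (((t : GL (Fin n) K) : Matrix (Fin n) (Fin n) K))) : IsConj s t := by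
  classical
  obtain ⟨σ, hσ, hσ2, hσne⟩ := CfsgLib.Conj.exists_frob hK
  obtain ⟨g, hg⟩ := CfsgLib.UnitTransv.exists_conj _ _ hs ht
  let S : GL (Fin n) K := Matrix.SpecialLinearGroup.toGL s.1
  let T : GL (Fin n) K := Matrix.SpecialLinearGroup.toGL t.1
  have hS : S ∈ Cfsg.GU n K q := fun u v => s.2 u v
  have hT : T ∈ Cfsg.GU n K q := fun u v => t.2 u v
  obtain ⟨h, hh, hconj⟩ := CfsgLib.Conj.exists_unitary_conj σ hσ2 hσne S T g
    ((CfsgLib.Conj.mem_GU_iff σ hσ hσ2 S).mp hS) ((CfsgLib.Conj.mem_GU_iff σ hσ hσ2 T).mp hT)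
    (Units.ext hg)
  have hdet : (h : Matrix (Fin n) (Fin n) K).det * (h : Matrix (Fin n) (Fin n) K).det ^ q = 1 := by
    have h1 := congrArg Matrix.det hh
    rw [Matrix.det_mul, Matrix.det_one] at h1
    change ((h : Matrix (Fin n) (Fin n) K).map σ).transpose.det * _ = 1 at h1
    rw [Matrix.det_transpose, ← RingHom.mapMatrix_apply, ← RingHom.map_det, hσ] at h1
    rw [mul_comm]; exact h1
  have hd0 : (h : Matrix (Fin n) (Fin n) K).det ≠ 0 := Matrix.GeneralLinearGroup.det_ne_zero h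
  obtain ⟨w, hw, hww⟩ := CfsgLib.UnitTransv.exists_fixed_anisotropic (q := q) hK hn _ hs
  obtain ⟨r, hr, hrdet, hrcomm⟩ := CfsgLib.UnitTransv.exists_quasiReflection hK w hww
    (h : Matrix (Fin n) (Fin n) K).det⁻¹ (by rw [inv_pow, ← mul_inv, hdet, inv_one])
  have hc : Commute S r := hrcomm S hS hw
  let X : GL (Fin n) K := h * r
  have hXdet : (X : Matrix (Fin n) (Fin n) K).det = 1 := by
    show ((h : Matrix (Fin n) (Fin n) K) * (r : Matrix (Fin n) (Fin n) K)).det = 1
    rw [Matrix.det_mul, hrdet, mul_inv_cancel₀ hd0]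
  have hXU : X ∈ Cfsg.GU n K q := mul_mem ((CfsgLib.Conj.mem_GU_iff σ hσ hσ2 h).mpr hh) hr
  let x : ↥(Cfsg.SU n K q) := ⟨⟨(X : Matrix (Fin n) (Fin n) K), hXdet⟩, fun u v => hXU u v⟩
  refine isConj_iff.mpr ⟨x, mul_inv_eq_iff_eq_mul.mpr ?_⟩
  have hX : X * S = T * X := by
    show h * r * S = T * (h * r)
    rw [mul_assoc, ← hc.eq, ← mul_assoc, hconj, mul_assoc]
  exact Subtype.ext (Subtype.ext (congrArg Units.val hX))

end Cfsg.Agent.S2644
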