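import Cfsg.Statements.S2645
import Cfsg.Agent.Lib.RootCount.Symp
import Cfsg.Agent.Lib.RootCount.Unitary

set_option autoImplicit false
open Cfsg

namespace Cfsg.Agent.S2645

/-- Number of conjugacy classes of elements of odd prime order r, r different from the characteristic, in the symplectic group Sp_2m(q): let i be the multiplicative order of q modulo r and t = (r − 1)/i. If i is odd the eigenvalue orbits pair off (Λ ≠ Λ⁻¹) and the classes correspond to the non-zero (t/2)-tuples (a_j) with 2i Σ a_j ≤ 2m, giving C(⌊m/i⌋ + t/2, t/2) − 1 classes; if i is even (Λ = Λ⁻¹) they correspond to the non-zero t-tuples with i Σ a_j ≤ 2m, giving C(⌊2m/i⌋ + t, t) − 1 classes. -/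
theorem result {F : Type*} [Field F] [Fintype F] {p q : ℕ} [Fact p.Prime] [CharP F p] (hF : Fintype.card F = q) (m r i t : ℕ) (hr : r.Prime) (hr2 : r ≠ 2) (hrp : r ≠ p) (hi : i = orderOf (q : ZMod r)) (ht : t * i = r - 1) : Nat.card {C : ConjClasses ↥(Matrix.symplecticGroup (Fin m) F) // ∃ g : Matrix.symplecticGroup (Fin m) F, ConjClasses.mk g = C ∧ orderOf g = r} = if Odd i then Nat.choose (m / i + t / 2) (t / 2) - 1 else Nat.choose (2 * m / i + t) t - 1 := by
  classical
  have : Fact r.Prime := ⟨hr⟩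
  have : NeZero (r : F) := ⟨by
    rw [Ne, CharP.cast_eq_zero_iff F p, Nat.prime_dvd_prime_iff_eq Fact.out hr]
    exact Ne.symm hrp⟩
  subst hF
  have hi0 : i ≠ 0 := fun h => by rw [h, mul_zero] at ht; have := hr.two_le; omega
  obtain ⟨u, hu⟩ : IsUnit (Fintype.card F : ZMod r) :=
    Ne.isUnit fun h0 => hi0 (by rw [hi, h0, orderOf_zero])
  rw [← hu] at hi
  rw [CfsgLib.RootCount.card_classes_sp hr2]
  let g : (ZMod r)ˣ := if Odd (orderOf (u : ZMod r)) then -u else u
  have hcard : Nat.card (Subgroup.zpowers g) = if Odd i then 2 * i else i := by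
    rw [Nat.card_zpowers, ← orderOf_units, hi]
    split_ifs with ho
    · simp only [g, if_pos ho, Units.val_neg]
      exact CfsgLib.RootCount.orderOf_neg_of_odd hr2 _ ho
    · simp only [g, if_neg ho]
  have hN : Nat.card {μ : ZMod r → ℕ // (∀ x, μ ((Fintype.card F : ZMod r) * x) = μ x) ∧ (∀ x, μ (-x) = μ x) ∧
      ∑ x, μ x = 2 * m ∧ μ 0 ≠ 2 * m} = Nat.card {μ : ZMod r → ℕ // CfsgLib.RootCount.Inv (Subgroup.zpowers g) μ ∧ ∑ x, μ x = 2 * m ∧ μ 0 ≠ 2 * m} :=
    Nat.card_congr (Equiv.subtypeEquivRight fun μ => by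
      rw [← CfsgLib.RootCount.inv_q_neg_iff hr2 u μ, hu, and_assoc])
  rw [hN]
  split_ifs with ho
  · rw [if_pos ho] at hcard
    obtain ⟨t', rfl⟩ : Even t := by
      have he : Even (t * i) := ht ▸ Nat.Prime.even_sub_one hr hr2
      exact (Nat.even_mul.1 he).resolve_right (Nat.not_even_iff_odd.2 ho)
    rw [CfsgLib.RootCount.card_inv_nontrivial (Subgroup.zpowers g) (2 * m) (s := t') (by rw [hcard, ← ht]; ring), hcard,
      Nat.mul_div_mul_left _ _ two_pos, ← two_mul, Nat.mul_div_cancel_left _ two_pos]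
  · rw [if_neg ho] at hcard
    rw [CfsgLib.RootCount.card_inv_nontrivial (Subgroup.zpowers g) (2 * m) (s := t) (by rw [hcard, ht]), hcard]

end Cfsg.Agent.S2645
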