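import Cfsg.Statements.S2647
import Cfsg.Agent.Lib.OmegaSeven.Main
import Cfsg.Agent.Lib.LinFix.OrthFieldMain
import Cfsg.Agent.Lib.Orth.NegOne
import Cfsg.Agent.S0286
-- import your own Cfsg.Agent.* helpers here

set_option autoImplicit false
open Cfsg

namespace Cfsg.Agent.S2647

theorem prod_two_part {q : ℕ} (hq : q % 8 = 3 ∨ q % 8 = 5) :
    ∃ m, Odd m ∧ ∏ i ∈ Finset.range 3, (q ^ (2 * (i + 1)) - 1) = 2 ^ 10 * m := by
  obtain ⟨n, hn⟩ : ∃ n, q ^ 2 = 16 * n + 9 := by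
    rcases hq with h | h
    · obtain ⟨k, rfl⟩ : ∃ k, q = 8 * k + 3 := ⟨q / 8, by omega⟩
      exact ⟨4 * k ^ 2 + 3 * k, by ring⟩
    · obtain ⟨k, rfl⟩ : ∃ k, q = 8 * k + 5 := ⟨q / 8, by omega⟩
      exact ⟨4 * k ^ 2 + 5 * k + 1, by ring⟩
  have e : ∀ i, q ^ (2 * (i + 1)) = (16 * n + 9) ^ (i + 1) := fun i => by rw [pow_mul, hn]
  refine ⟨(2 * n + 1) ^ 3 * (8 * n + 5) * (256 * n ^ 2 + 304 * n + 91), ?_, ?_⟩
  · refine Odd.mul (Odd.mul (Odd.pow ⟨n, by ring⟩) ⟨4 * n + 2, by ring⟩) ⟨128 * n ^ 2 + 152 * n + 45, by ring⟩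
  · have h1 : (16 * n + 9) ^ 1 - 1 = 8 * (2 * n + 1) := by rw [pow_one]; omega
    have h2 : (16 * n + 9) ^ 2 - 1 = 8 * (2 * n + 1) * (2 * (8 * n + 5)) := by
      have : (16 * n + 9) ^ 2 = 8 * (2 * n + 1) * (2 * (8 * n + 5)) + 1 := by ring
      omega
    have h3 : (16 * n + 9) ^ 3 - 1 = 8 * (2 * n + 1) * (256 * n ^ 2 + 304 * n + 91) := by
      have : (16 * n + 9) ^ 3 = 8 * (2 * n + 1) * (256 * n ^ 2 + 304 * n + 91) + 1 := by ring
      omega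
    simp only [Finset.prod_range_succ, Finset.prod_range_zero, e, one_mul, zero_add]
    rw [h1, h2, h3]
    ring

/-- Let q be an odd prime power with q ≡ ±3 (mod 8), F a field with q elements and S a Sylow 2-subgroup of the commutator subgroup Ω₇(q) of the orthogonal group of the form x₀² + x₁y₁ + x₂y₂ + x₃y₃ over F. Then every automorphism of S induced by N(S) is inner, S has no strongly closed subgroup other than 1 and S with respect to this group, and the 2-fusion system of Ω₇(q) on S is simple. -/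
theorem result {F : Type*} [Field F] [Fintype F] [DecidableEq F] (q : ℕ) (hF : Fintype.card F = q) (hq : q % 8 = 3 ∨ q % 8 = 5) (S : Sylow 2 ↥(Cfsg.Omega F (Cfsg.quadFormOdd 3 F))) : (Cfsg.groupFusionSystem (S : Subgroup ↥(Cfsg.Omega F (Cfsg.quadFormOdd 3 F)))).autGroup (S : Subgroup ↥(Cfsg.Omega F (Cfsg.quadFormOdd 3 F))) = Cfsg.Inn ↥(S : Subgroup ↥(Cfsg.Omega F (Cfsg.quadFormOdd 3 F))) ∧ (∀ T : Subgroup ↥(Cfsg.Omega F (Cfsg.quadFormOdd 3 F)), (Cfsg.groupFusionSystem (S : Subgroup ↥(Cfsg.Omega F (Cfsg.quadFormOdd 3 F)))).StronglyClosed T → T = ⊥ ∨ T = (S : Subgroup ↥(Cfsg.Omega F (Cfsg.quadFormOdd 3 F)))) ∧ (Cfsg.groupFusionSystem (S : Subgroup ↥(Cfsg.Omega F (Cfsg.quadFormOdd 3 F)))).IsSimple 2 := by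
  classical
  have hodd : Odd q := Nat.odd_iff.2 (by omega)
  have h2 : (2 : F) ≠ 0 := CfsgLib.Classical.Quad.two_ne_zero_iff_odd.2 (by
    rw [Nat.card_eq_fintype_card, hF]; exact hodd)
  have ns2 : ¬ IsSquare (2 : F) := by
    rw [FiniteField.isSquare_two_iff, hF]
    omega
  have hQ := CfsgLib.LinFix.OrthFieldMain.oddQ_nd (F := F) h2 3
  have hn : 2 ≤ Fintype.card (Unit ⊕ (Fin 3 ⊕ Fin 3)) := by simp
  obtain ⟨K⟩ := CfsgLib.OmegaSeven.exists_frame (Q := CfsgLib.LinFix.OrthFieldMain.oddQ 3 F) h2 ns2 hQ (by simp)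
  obtain ⟨m, hm, hprod⟩ := prod_two_part hq
  have hidx := CfsgLib.OrthNegOne.index_Omega_odd h2 hQ hn
  revert S
  rw [← CfsgLib.LinFix.OrthFieldMain.coe_oddQ (F := F) 3]
  intro S
  refine CfsgLib.OmegaSeven.fusion_main hQ hn K (m := q ^ 9 * m) ((hodd.pow).mul hm) ?_ S
  have hO := Cfsg.Agent.S0286.result hF hodd 3
  rw [← CfsgLib.LinFix.OrthFieldMain.coe_oddQ (F := F) 3, hprod] at hO
  have hmul := Subgroup.card_mul_index (Cfsg.Omega F ⇑(CfsgLib.LinFix.OrthFieldMain.oddQ 3 F))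
  rw [hidx, hO] at hmul
  refine Nat.eq_of_mul_eq_mul_right (show 0 < 4 by norm_num) ?_
  rw [hmul]
  ring

end Cfsg.Agent.S2647
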