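import Cfsg.Statements.S2650
import Cfsg.Agent.Lib.Sporadic.Cocode

set_option autoImplicit false
open Cfsg

namespace Cfsg.Agent.S2650

open CfsgLib CfsgLib.Cocode CfsgLib.Golay
open scoped Pointwise

/-- The extension: a permutation with a correction of the factor set. -/
@[ext]
structure El where
  perm : ↥Spor.M23
  corr : V → ZMod 2
  law : ∀ a b, corr (a + b) = corr a + corr b +
    (phi (act perm.1 a) (act perm.1 b) + phi a b)

theorem act_mulM (σ τ : ↥Spor.M23) (v : V) : act (σ * τ).1 v = act σ.1 (act τ.1 v) :=
  act_mul σ.2 τ.2 v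

theorem act_oneM (v : V) : act (1 : ↥Spor.M23).1 v = v := act_one v

noncomputable instance : Mul El := ⟨fun x y => ⟨x.perm * y.perm, fun v => y.corr v + x.corr (act y.perm.1 v),
  fun a b => by
    simp only [act_mulM, y.law a b, map_add, x.law (act y.perm.1 a) (act y.perm.1 b)]
    ring_nf
    simp [CharTwo.two_eq_zero]⟩⟩

noncomputable instance : One El := ⟨⟨1, fun _ => 0, fun a b => by
  simp only [act_oneM, add_zero, zero_add]; exact (CharTwo.add_self_eq_zero _).symm⟩⟩

noncomputable instance : Inv El := ⟨fun x => ⟨x.perm⁻¹, fun v => x.corr (act (x.perm⁻¹).1 v), fun a b => by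
  have e : ∀ v, act x.perm.1 (act (x.perm⁻¹).1 v) = v := fun v => by
    rw [← act_mulM, mul_inv_cancel, act_oneM]
  have h := x.law (act (x.perm⁻¹).1 a) (act (x.perm⁻¹).1 b)
  rw [e, e] at h
  rw [map_add, h, add_comm (phi a b)]⟩⟩

theorem El.mul_perm (x y : El) : (x * y).perm = x.perm * y.perm := rfl

theorem El.mul_corr (x y : El) (v : V) :
    (x * y).corr v = y.corr v + x.corr (act y.perm.1 v) := rfl

theorem El.one_perm : (1 : El).perm = 1 := rfl

theorem El.one_corr (v : V) : (1 : El).corr v = 0 := rfl

noncomputable instance : Group El := Group.ofLeftAxioms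
  (fun x y z => El.ext (mul_assoc _ _ _) (funext fun v => by
    simp only [El.mul_corr, El.mul_perm, act_mulM]; ring))
  (fun x => El.ext (one_mul _) (funext fun v => by
    simp only [El.mul_corr, El.one_corr, add_zero]))
  (fun x => El.ext (inv_mul_cancel _) (funext fun v => by
    show x.corr v + x.corr (act (x.perm⁻¹).1 (act x.perm.1 v)) = _
    rw [← act_mulM, inv_mul_cancel, act_oneM, El.one_corr]
    exact CharTwo.add_self_eq_zero _))

instance : Finite El :=
  Finite.of_injective (fun x => ((x.perm, x.corr) : ↥Spor.M23 × (V → ZMod 2))) fun x y h =>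
    El.ext (congrArg Prod.fst h) (congrArg Prod.snd h)

/-- The projection to `M₂₃`. -/
noncomputable def proj23 : El →* ↥Spor.M23 where
  toFun := El.perm
  map_one' := rfl
  map_mul' _ _ := rfl

theorem proj23_surjective : Function.Surjective proj23 := fun σ => by
  obtain ⟨f, hf⟩ := exists_corr σ.2
  exact ⟨⟨σ, f, hf⟩, rfl⟩

/-- The element of the kernel given by a word. -/
noncomputable def dotEl (w : GolayPt → ZMod 2) : El :=
  ⟨1, fun v => ∑ p, w p * emb v p, fun a b => by
    simp only [act_oneM, map_add, Pi.add_apply, mul_add, Finset.sum_add_distrib,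
      CharTwo.add_self_eq_zero, add_zero]⟩

theorem dotEl_mem (w : GolayPt → ZMod 2) : dotEl w ∈ proj23.ker := rfl

theorem high_check : allR (fun x => Nat.beq x 0 ||
    basis.any fun b => Nat.beq (pc24 (Nat.land (x * 4096) b) % 2) 1) 12 0 = true := by
  decide +kernel

theorem dot_toWord' (m n : ℕ) :
    ∑ p, toWord m p * toWord n p = ((pc24 (Nat.land m n) : ℕ) : ZMod 2) := by
  rw [dot_toWord, pc24_eq]
  rfl

/-- The code is its own orthogonal. -/
theorem mem_code_of_orth {w : GolayPt → ZMod 2} (h : ∀ c ∈ golayCode, ∑ p, w p * c p = 0) :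
    w ∈ golayCode := by
  set n := bitsOf (fun i => decide (w (pt i) = 1)) 24 with hn
  have hwn : toWord n = w := by
    funext p
    simp only [toWord, hn, testBit_bitsOf, bit_lt, decide_true, Bool.true_and, pt_bit]
    rcases zmod_two_cases (w p) with e | e <;> rw [e] <;> decide
  have hn24 : n < 2 ^ 24 := bitsOf_lt _ _
  set i := n &&& 4095
  have hi : i < 2 ^ 12 := lt_of_le_of_lt Nat.and_le_right (by norm_num)
  obtain ⟨hc1, hc2, -⟩ := comb_spec hi
  set m := n ^^^ comb i with hm
  have hm24 : m < 2 ^ 24 := Nat.xor_lt_two_pow hn24 hc1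
  have hmod : m % 4096 = 0 := by
    have h0 : m &&& 4095 = 0 := by rw [hm, Nat.and_xor_distrib_right, hc2, Nat.xor_self]
    have := Nat.and_two_pow_sub_one_eq_mod m 12
    norm_num at this
    omega
  have hmC : ∀ b ∈ basis, Nat.beq (pc24 (Nat.land m b) % 2) 1 = false := by
    intro b hb
    have hbC : toWord b ∈ golayCode :=
      basis_mem hb
    have h1 : ∑ p, toWord m p * toWord b p = 0 := by
      rw [hm, toWord_xor, hwn]
      simp only [Pi.add_apply, add_mul, Finset.sum_add_distrib]
      rw [h _ hbC, self_orthogonal (toWord_comb_mem _) hbC, add_zero]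
    rw [dot_toWord', ← ZMod.natCast_mod] at h1
    rcases Nat.mod_two_eq_zero_or_one (pc24 (Nat.land m b)) with e | e <;> rw [e] at h1 ⊢
    · rfl
    · exact absurd h1 (by decide)
  have hx := allR_spec high_check (m / 4096) (Nat.zero_le _) (by omega)
  have hm0 : m / 4096 = 0 := by
    by_contra hne
    rw [show m / 4096 * 4096 = m by omega] at hx
    simp only [Bool.or_eq_true, Nat.beq_eq, hne, false_or, List.any_eq_true] at hx
    obtain ⟨b, hb, hb1⟩ := hx
    have := hmC b hb
    rw [hb1] at this
    exact absurd this (by decide)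
  have hni : n = comb i := by
    have : m = 0 := by omega
    rw [hm] at this
    exact Nat.xor_eq_zero_iff.1 this
  rw [← hwn, hni]
  exact toWord_comb_mem _

/-- The Boolean image of a coordinate vector under a coded element. -/
noncomputable def img (c n : ℕ) : ℕ := decodeN (M24Orbits.app c (combL Data.cb n))

/-- The correction with zero values at the basis. -/
noncomputable def corrN (c n : ℕ) : Bool :=
  Nat.rec false (fun k ih =>
    (n.testBit k && (phiB (img c (Nat.land n (2 ^ k - 1))) (img c (2 ^ k)) ^^
      phiB (Nat.land n (2 ^ k - 1)) (2 ^ k))) ^^ ih) 11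

theorem gen_check : (Data.codes.all fun c => M24Orbits.okM24 c &&
    Nat.beq (Comp.PermCode.get c 23) 23 &&
    allR (fun n => Nat.blt (img c n) 2048 &&
      Nat.beq (combL Data.cb (img c n)) (M24Orbits.app c (combL Data.cb n))) 11 0) = true := by
  decide +kernel

/-- Evaluate a relation word at a start vector: end point, parity, totals for the two letters. -/
noncomputable def evalW (x : ℕ) : List ℕ → ℕ × Bool × ℕ × ℕ
  | [] => (x, false, 0, 0)
  | g :: rest =>
    match evalW x rest with
    | (y, par, m0, m1) =>
      (img (Data.codes.getD g 0) y, par ^^ corrN (Data.codes.getD g 0) y,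
        bif Nat.beq g 0 then m0 ^^^ y else m0, bif Nat.beq g 0 then m1 else m1 ^^^ y)

theorem cert_check :
    (Data.rows.all (fun r => Nat.blt r.2 2048 && r.1.all (fun g => Nat.blt g 2) &&
      (List.range 24).all fun j =>
        Nat.beq (r.1.foldr (fun g acc => Comp.PermCode.get (Data.codes.getD g 0) acc) j) j) &&
    (Data.rows.foldr (fun r acc => (evalW r.2 r.1).2.1 ^^ acc) false) &&
    Nat.beq (Data.rows.foldr (fun r acc => (evalW r.2 r.1).2.2.1 ^^^ acc) 0) 0 &&
    Nat.beq (Data.rows.foldr (fun r acc => (evalW r.2 r.1).2.2.2 ^^^ acc) 0) 0) = true := by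
  decide +kernel

theorem code_spec {g : ℕ} (hg : g < 2) :
    M24Orbits.okM24 (Data.codes.getD g 0) = true ∧
      Comp.PermCode.get (Data.codes.getD g 0) 23 = 23 ∧
      ∀ n < 2048, img (Data.codes.getD g 0) n < 2048 ∧
        combL Data.cb (img (Data.codes.getD g 0) n) =
          M24Orbits.app (Data.codes.getD g 0) (combL Data.cb n) := by
  have hlen : Data.codes.length = 2 := rfl
  have hmem : Data.codes.getD g 0 ∈ Data.codes := by
    rw [List.getD_eq_getElem _ _ (hlen ▸ hg)]; exact List.getElem_mem _
  have h := List.all_eq_true.1 gen_check _ hmem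
  simp only [Bool.and_eq_true, Nat.beq_eq] at h
  refine ⟨h.1.1, h.1.2, fun n hn => ?_⟩
  have := allR_spec h.2 n (Nat.zero_le _) (by simpa using hn)
  simp only [Bool.and_eq_true, Nat.beq_eq, Nat.blt_eq] at this
  exact this

theorem gen_mem {g : ℕ} (hg : g < 2) : M24Orbits.perm (Data.codes.getD g 0) ∈ Spor.M23 := by
  obtain ⟨h1, h2, -⟩ := code_spec hg
  refine ⟨M24Orbits.perm_mem_M24 h1, ?_⟩
  show M24Orbits.perm (Data.codes.getD g 0) none = none
  refine bit_injective ?_
  rw [M24Orbits.bit_perm (M24Orbits.okM24_ok h1)]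
  exact h2

theorem act_toV {g : ℕ} (hg : g < 2) {n : ℕ} (hn : n < 2048) :
    act (M24Orbits.perm (Data.codes.getD g 0)) (toV n) = toV (img (Data.codes.getD g 0) n) := by
  obtain ⟨h1, -, h3⟩ := code_spec hg
  apply emb_injective
  rw [emb_act (gen_mem hg), emb_toV, emb_toV, (h3 n hn).2]
  refine support₂_injective ?_
  rw [show support₂ (fun p => toWord (combL Data.cb n)
      ((M24Orbits.perm (Data.codes.getD g 0)).symm p)) =
    M24Orbits.perm (Data.codes.getD g 0) • support₂ (toWord (combL Data.cb n)) from
      M24Orbits.support₂_comp _ (toWord (combL Data.cb n)),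
    support₂_toWord, support₂_toWord, M24Orbits.toSet_app (M24Orbits.okM24_ok h1)]

/-- The linear part of a correction. -/
noncomputable def linPart (f : V → ZMod 2) : V →ₗ[ZMod 2] ZMod 2 :=
  Fintype.linearCombination (ZMod 2) (fun i : Fin 11 => f (toV (2 ^ i.val)))

theorem linPart_single (f : V → ZMod 2) (k : ℕ) (hk : k < 11) :
    linPart f (toV (2 ^ k)) = f (toV (2 ^ k)) := by
  rw [linPart, Fintype.linearCombination_apply, Finset.sum_eq_single ⟨k, hk⟩]
  · simp [toV, b2z]
  · intro i _ hi
    have : k ≠ i.val := fun e => hi (Fin.ext e.symm)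
    simp [toV, b2z, this]
  · simp

theorem corr_toV {g : ℕ} (hg : g < 2) (f : V → ZMod 2)
    (hf : ∀ a b, f (a + b) = f a + f b +
      (phi (act (M24Orbits.perm (Data.codes.getD g 0)) a)
        (act (M24Orbits.perm (Data.codes.getD g 0)) b) + phi a b))
    {n : ℕ} (hn : n < 2048) :
    f (toV n) = linPart f (toV n) + b2z (corrN (Data.codes.getD g 0) n) := by
  set c := Data.codes.getD g 0 with hc
  have h0 : f 0 = 0 := by
    have := hf 0 0
    simp only [add_zero, map_zero, CharTwo.add_self_eq_zero] at this
    exact this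
  have key : ∀ k ≤ 11, f (toV (Nat.land n (2 ^ k - 1))) = linPart f (toV (Nat.land n (2 ^ k - 1))) +
      b2z (Nat.rec false (fun k ih =>
        (n.testBit k && (phiB (img c (Nat.land n (2 ^ k - 1))) (img c (2 ^ k)) ^^
          phiB (Nat.land n (2 ^ k - 1)) (2 ^ k))) ^^ ih) k) := by
    intro k
    induction k with
    | zero => intro _; simp [toV_zero, h0, b2z, show Nat.land n 0 = 0 from Nat.and_zero n]
    | succ k ih =>
      intro hk
      have ih := ih (by omega)
      have hsplit : Nat.land n (2 ^ (k + 1) - 1) =
          Nat.land n (2 ^ k - 1) ^^^ (bif n.testBit k then 2 ^ k else 0) := by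
        apply Nat.eq_of_testBit_eq
        intro i
        show (n &&& (2 ^ (k + 1) - 1)).testBit i = ((n &&& (2 ^ k - 1)) ^^^ _).testBit i
        rw [Nat.testBit_and, Nat.testBit_xor, Nat.testBit_and, Nat.testBit_two_pow_sub_one,
          Nat.testBit_two_pow_sub_one]
        rcases lt_trichotomy i k with h | rfl | h
        · cases n.testBit k <;> simp [h, Nat.lt_succ_of_lt h, (ne_of_lt h).symm]
        · cases hb : n.testBit i <;> simp [hb]
        · cases n.testBit k <;> simp [show ¬ i < k + 1 by omega, show ¬ i < k by omega,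
            ne_of_lt h]
      cases hb : n.testBit k
      · rw [hb] at hsplit
        simp only [cond_false, Nat.xor_zero] at hsplit
        rw [hsplit]
        simp only [hb, Bool.false_and, Bool.false_xor]
        exact ih
      · rw [hb] at hsplit
        simp only [cond_true] at hsplit
        have hm : Nat.land n (2 ^ k - 1) < 2048 :=
          lt_of_le_of_lt Nat.and_le_left hn
        have h2k : 2 ^ k < 2048 := lt_of_lt_of_le (Nat.pow_lt_pow_right (by norm_num)
          (by omega : k < 11)) le_rfl
        rw [hsplit, toV_xor, hf, ih, map_add, act_toV hg hm, act_toV hg h2k, phi_toV, phi_toV,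
          linPart_single f k (by omega)]
        simp only [hb, Bool.true_and, b2z_xor]
        ring
  have h11 := key 11 le_rfl
  have hland : Nat.land n (2 ^ 11 - 1) = n := by
    show n &&& (2 ^ 11 - 1) = n
    rw [Nat.and_two_pow_sub_one_eq_mod, Nat.mod_eq_of_lt]
    exact lt_of_lt_of_le hn (by norm_num)
  rw [hland] at h11
  exact h11

/-- The two generators as elements of `M₂₃`. -/
noncomputable def genM (g : ℕ) : ↥Spor.M23 :=
  if h : g < 2 then ⟨_, gen_mem h⟩ else 1

theorem genM_val {g : ℕ} (hg : g < 2) :
    (genM g).1 = M24Orbits.perm (Data.codes.getD g 0) := by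
  rw [genM, dif_pos hg]

theorem no_section (s : ↥Spor.M23 →* El) (hs : ∀ σ, (s σ).perm = σ) : False := by
  set f : ℕ → V → ZMod 2 := fun g => (s (genM g)).corr with hfdef
  have hf : ∀ g, g < 2 → ∀ a b, f g (a + b) = f g a + f g b +
      (phi (act (M24Orbits.perm (Data.codes.getD g 0)) a)
        (act (M24Orbits.perm (Data.codes.getD g 0)) b) + phi a b) := by
    intro g hg a b
    have := (s (genM g)).law a b
    rw [hs, genM_val hg] at this
    exact this
  -- the value of a word of lifts
  have word : ∀ (x : ℕ), x < 2048 → ∀ l : List ℕ, (∀ g ∈ l, g < 2) →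
      (evalW x l).1 < 2048 ∧ act (l.map genM).prod.1 (toV x) = toV (evalW x l).1 ∧
      (l.map fun g => s (genM g)).prod.corr (toV x) = b2z (evalW x l).2.1 +
        linPart (f 0) (toV (evalW x l).2.2.1) + linPart (f 1) (toV (evalW x l).2.2.2) := by
    intro x hx l
    induction l with
    | nil =>
      intro _
      refine ⟨hx, act_oneM _, ?_⟩
      simp only [List.map_nil, List.prod_nil, El.one_corr, evalW, toV_zero, map_zero, b2z]
      rfl
    | cons g l ih =>
      intro hl
      obtain ⟨hy, hact, hcorr⟩ := ih fun a ha => hl a (List.mem_cons_of_mem _ ha)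
      have hg := hl g List.mem_cons_self
      have hperm : (genM g).1 = M24Orbits.perm (Data.codes.getD g 0) := genM_val hg
      have hprod : (l.map fun g => s (genM g)).prod.perm = (l.map genM).prod := by
        rw [show (l.map fun g => s (genM g)) = (l.map genM).map s by simp [List.map_map],
          ← map_list_prod, hs]
      rw [evalW]
      rcases hev : evalW x l with ⟨y, par, m0, m1⟩
      rw [hev] at hy hact hcorr
      refine ⟨((code_spec hg).2.2 y hy).1, ?_, ?_⟩
      · rw [List.map_cons, List.prod_cons, act_mulM, hact, hperm, act_toV hg hy]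
      · rw [List.map_cons, List.prod_cons, El.mul_corr, hprod, hact, hcorr]
        show _ + f g (toV y) = _
        rw [corr_toV hg (f g) (hf g hg) hy]
        interval_cases g
        · show _ = b2z (par ^^ _) + linPart (f 0) (toV (m0 ^^^ y)) + linPart (f 1) (toV m1)
          rw [b2z_xor, toV_xor, map_add]; ring
        · show _ = b2z (par ^^ _) + linPart (f 0) (toV m0) + linPart (f 1) (toV (m1 ^^^ y))
          rw [b2z_xor, toV_xor, map_add]; ring
  have h := cert_check
  simp only [Bool.and_eq_true, List.all_eq_true, Nat.blt_eq, Nat.beq_eq, List.mem_range] at h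
  obtain ⟨⟨⟨hrows, hpar⟩, h0⟩, h1⟩ := h
  have row0 : ∀ r ∈ Data.rows, b2z (evalW r.2 r.1).2.1 +
      linPart (f 0) (toV (evalW r.2 r.1).2.2.1) + linPart (f 1) (toV (evalW r.2 r.1).2.2.2) = 0 := by
    intro r hr
    obtain ⟨⟨hx, hg⟩, hperm⟩ := hrows r hr
    rw [← (word r.2 hx r.1 hg).2.2]
    have hone : (r.1.map genM).prod = 1 := by
      refine Subtype.ext (Equiv.ext fun p => bit_injective ?_)
      have : ∀ l : List ℕ, (∀ g ∈ l, g < 2) → Golay.bit ((l.map genM).prod.1 p) =
          l.foldr (fun g acc => Comp.PermCode.get (Data.codes.getD g 0) acc) (Golay.bit p) := by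
        intro l
        induction l with
        | nil => intro _; rfl
        | cons g l ih =>
          intro hl
          have hg' := hl g List.mem_cons_self
          rw [List.map_cons, List.prod_cons, List.foldr_cons, ← ih fun a ha =>
            hl a (List.mem_cons_of_mem _ ha)]
          show Golay.bit ((genM g).1 _) = _
          rw [genM_val hg',
            M24Orbits.bit_perm (M24Orbits.okM24_ok (code_spec hg').1)]
      rw [this r.1 hg, hperm _ (bit_lt p)]
      rfl
    rw [show (r.1.map fun g => s (genM g)) = (r.1.map genM).map s by simp [List.map_map],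
      ← map_list_prod, hone, map_one, El.one_corr]
  have sumrows : ∀ L : List (List ℕ × ℕ), (∀ r ∈ L, b2z (evalW r.2 r.1).2.1 +
      linPart (f 0) (toV (evalW r.2 r.1).2.2.1) + linPart (f 1) (toV (evalW r.2 r.1).2.2.2) = 0) →
      b2z (L.foldr (fun r acc => (evalW r.2 r.1).2.1 ^^ acc) false) +
        linPart (f 0) (toV (L.foldr (fun r acc => (evalW r.2 r.1).2.2.1 ^^^ acc) 0)) +
        linPart (f 1) (toV (L.foldr (fun r acc => (evalW r.2 r.1).2.2.2 ^^^ acc) 0)) = 0 := by
    intro L
    induction L with
    | nil => intro _; simp [b2z, toV_zero]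
    | cons r L ih =>
      intro hL
      have h1 := hL r List.mem_cons_self
      have h2 := ih fun a ha => hL a (List.mem_cons_of_mem _ ha)
      simp only [List.foldr_cons, b2z_xor, toV_xor, map_add]
      linear_combination h1 + h2
  have := sumrows Data.rows row0
  rw [hpar, h0, h1, toV_zero, map_zero, map_zero] at this
  exact absurd this (by decide)

/-- A non-split extension of the Mathieu group M₂₃ by its cocode module exists. There is a finite group E with a normal subgroup N, an isomorphism φ from E/N onto M₂₃ = `Spor.M23` (the stabiliser of the extra point `none` in M₂₄ acting on the 24 points `GolayPt`), and a surjective additive homomorphism θ from the binary words on `GolayPt` onto N whose kernel consists of the words of the Golay code `golayCode` and their translates by the unit vector at `none` (so N is elementary abelian of order 2¹¹), such that θ carries the coordinate permutation w ↦ w ∘ σ⁻¹, σ = φ(gN), to conjugation by g on N — and such that N has no complement in E. -/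
theorem result :
    ∃ (E : Type) (_ : Group E) (_ : Finite E) (N : Subgroup E) (_ : N.Normal)
      (φ : E ⧸ N ≃* ↥Cfsg.Spor.M23) (θ : (Cfsg.GolayPt → ZMod 2) →+ Additive ↥N),
      Function.Surjective θ ∧
      (∀ w : Cfsg.GolayPt → ZMod 2, θ w = 0 ↔ (w ∈ Cfsg.golayCode ∨ w + Pi.single none 1 ∈ Cfsg.golayCode)) ∧
      (∀ (g : E) (w : Cfsg.GolayPt → ZMod 2),
        ((θ (w ∘ ⇑(((φ (QuotientGroup.mk g) : ↥Cfsg.Spor.M23) : Equiv.Perm Cfsg.GolayPt)⁻¹))).toMul : E)
          = g * ((θ w).toMul : E) * g⁻¹) ∧
      ∀ H : Subgroup E, H ⊓ N = ⊥ → H ⊔ N ≠ ⊤ := by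
  let π := proj23
  have hperm : ∀ x ∈ π.ker, x.perm = 1 := fun x hx => hx
  let θ : (Cfsg.GolayPt → ZMod 2) →+ Additive ↥π.ker :=
    { toFun := fun w => Additive.ofMul ⟨dotEl w, dotEl_mem w⟩
      map_zero' := by
        refine congrArg Additive.ofMul (Subtype.ext (El.ext rfl (funext fun v => ?_)))
        simp [dotEl, El.one_corr]
      map_add' := fun a b => by
        refine congrArg Additive.ofMul (Subtype.ext (El.ext (one_mul _).symm (funext fun v => ?_)))
        show ∑ p, (a + b) p * emb v p = ∑ p, b p * emb v p + ∑ p, a p * emb (act (1 : ↥Spor.M23).1 v) p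
        rw [act_oneM, ← Finset.sum_add_distrib]
        exact Finset.sum_congr rfl fun p _ => by rw [Pi.add_apply]; ring }
  refine ⟨El, inferInstance, inferInstance, π.ker, inferInstance,
    QuotientGroup.quotientKerEquivOfSurjective π proj23_surjective, θ, ?_, ?_, ?_, ?_⟩
  · intro a
    set x : El := (Additive.toMul a).1 with hxdef
    have hx : x ∈ π.ker := (Additive.toMul a).2
    have hlin : ∀ u v, x.corr (u + v) = x.corr u + x.corr v := fun u v => by
      rw [x.law, hperm x hx, act_oneM, act_oneM, CharTwo.add_self_eq_zero, add_zero]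
    let l : V →ₗ[ZMod 2] ZMod 2 := AddMonoidHom.toZModLinearMap 2
      (AddMonoidHom.mk' x.corr hlin)
    refine ⟨fun p => l (proj (Pi.single p 1)), ?_⟩
    refine Additive.toMul.injective (Subtype.ext (El.ext (hperm x hx).symm (funext fun v => ?_)))
    show ∑ p, l (proj (Pi.single p 1)) * emb v p = x.corr v
    have e : emb v = ∑ p, emb v p • Pi.single p (1 : ZMod 2) := by
      funext q
      simp [Finset.sum_apply, Pi.single_apply]
    conv_rhs => rw [show x.corr v = l (proj (emb v)) by rw [proj_emb]; rfl, e, map_sum, map_sum]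
    exact Finset.sum_congr rfl fun p _ => by rw [map_smul, map_smul, smul_eq_mul, mul_comm]
  · intro w
    have hiff : θ w = 0 ↔ ∀ v, ∑ p, w p * emb v p = 0 := by
      constructor
      · intro h v
        exact congrFun (congrArg El.corr (congrArg Subtype.val (congrArg Additive.toMul h))) v
      · intro h
        exact Additive.toMul.injective (Subtype.ext (El.ext rfl (funext fun v => h v)))
    rw [hiff]
    constructor
    · intro h
      have hsum : ∀ c, c ∈ golayCode → c none = 0 → ∑ p, w p * c p = 0 := fun c hc h0 => by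
        obtain ⟨v, rfl⟩ := mem_range_emb hc h0
        exact h v
      have hone : (1 : GolayPt → ZMod 2) ∈ golayCode := one_mem_golay
      rcases zmod_two_cases (∑ p, w p) with ht | ht
      · left
        refine mem_code_of_orth fun c hc => ?_
        rcases zmod_two_cases (c none) with hc0 | hc0
        · exact hsum c hc hc0
        · have := hsum (c + 1) (add_mem hc hone) (by simp [hc0]; rfl)
          simp only [Pi.add_apply, Pi.one_apply, mul_add, mul_one, Finset.sum_add_distrib, ht,
            add_zero] at this
          exact this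
      · right
        refine mem_code_of_orth fun c hc => ?_
        simp only [Pi.add_apply, add_mul, Finset.sum_add_distrib]
        have hsingle : ∑ p, (Pi.single none 1 : GolayPt → ZMod 2) p * c p = c none := by
          simp [Pi.single_apply]
        rw [hsingle]
        rcases zmod_two_cases (c none) with hc0 | hc0
        · rw [hsum c hc hc0, hc0, add_zero]
        · have := hsum (c + 1) (add_mem hc hone) (by simp [hc0]; rfl)
          simp only [Pi.add_apply, Pi.one_apply, mul_add, mul_one, Finset.sum_add_distrib, ht] at this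
          rw [hc0]
          exact this
    · rintro (h | h) v
      · exact self_orthogonal h (emb_mem v).1
      · have h1 := self_orthogonal h (emb_mem v).1
        have h0 := (emb_mem v).2
        generalize emb v = c at h0 h1 ⊢
        simpa [add_mul, Finset.sum_add_distrib, Pi.single_apply, h0] using h1
  · intro g w
    set σ : ↥Spor.M23 := g.perm
    show dotEl (w ∘ ⇑((σ : Equiv.Perm GolayPt)⁻¹)) = g * dotEl w * g⁻¹
    refine El.ext ?_ (funext fun v => ?_)
    · show (1 : ↥Spor.M23) = σ * 1 * σ⁻¹
      group
    · rw [El.mul_corr, El.mul_corr]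
      show ∑ p, w ((σ : Equiv.Perm GolayPt)⁻¹ p) * emb v p = g.corr (act (σ⁻¹).1 v) +
        (∑ p, w p * emb (act (σ⁻¹).1 v) p + g.corr (act (1 : ↥Spor.M23).1 (act (σ⁻¹).1 v)))
      rw [act_oneM, emb_act (σ⁻¹).2]
      have : ∑ p, w ((σ : Equiv.Perm GolayPt)⁻¹ p) * emb v p =
          ∑ p, w p * emb v (((σ⁻¹ : ↥Spor.M23) : Equiv.Perm GolayPt).symm p) :=
        Fintype.sum_equiv ((σ : Equiv.Perm GolayPt)⁻¹) _ _ fun p => by
          rw [show ((σ⁻¹ : ↥Spor.M23) : Equiv.Perm GolayPt) = (σ : Equiv.Perm GolayPt)⁻¹ from rfl,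
            Equiv.symm_apply_apply]
      rw [this, add_left_comm, CharTwo.add_self_eq_zero, add_zero]
  · intro H hH hHtop
    have hsurj : Function.Surjective (π.comp H.subtype) := fun σ => by
      obtain ⟨e, he⟩ := proj23_surjective σ
      have : e ∈ ((H ⊔ π.ker : Subgroup El) : Set El) := by rw [hHtop]; trivial
      rw [Subgroup.mul_normal] at this
      obtain ⟨h, hh, n, hn, hhn⟩ := this
      refine ⟨⟨h, hh⟩, ?_⟩
      show π h = σ
      rw [← he, ← hhn, map_mul, show π n = 1 from hn, mul_one]
    have hinj : Function.Injective (π.comp H.subtype) := by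
      rw [← MonoidHom.ker_eq_bot_iff, Subgroup.eq_bot_iff_forall]
      intro x hx
      have : (x : El) ∈ H ⊓ π.ker := ⟨x.2, hx⟩
      rw [hH, Subgroup.mem_bot] at this
      exact Subtype.ext this
    let e := MulEquiv.ofBijective (π.comp H.subtype) ⟨hinj, hsurj⟩
    exact no_section (H.subtype.comp e.symm.toMonoidHom) fun σ => e.apply_symm_apply σ

end Cfsg.Agent.S2650
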