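import Cfsg.Statements.S2653
import Cfsg.Agent.Lib.AltDegree.Section

set_option autoImplicit false
open scoped MatrixGroups
open Cfsg

namespace Cfsg.Agent.S2653

/-- Alternating sections of finite linear groups. Let `F` be a finite field of characteristic `p` and `n` a natural number, and suppose some subgroup `H` of GL_n(F) has a normal subgroup `K` with `H ⧸ K` isomorphic to the alternating group of degree `r ≥ 9`. Then `n ≥ r - 2` when `p` divides `r`, and `n ≥ r - 1` otherwise (the smallest degree of a nontrivial projective representation of that alternating group in characteristic `p`). The same bound follows for every classical group with natural module of dimension `n` over `F`, since each is a section of a subgroup of GL_n(F). -/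
theorem result {F : Type*} [Field F] [Fintype F] (p : ℕ) [Fact p.Prime] [CharP F p]
    (n : ℕ) (r : ℕ) (H : Subgroup (GL (Fin n) F)) (K : Subgroup ↥H) [K.Normal]
    (h : Nonempty (↥H ⧸ K ≃* ↥(alternatingGroup (Fin r)))) (hr : 9 ≤ r) :
    r - 1 - (if p ∣ r then 1 else 0) ≤ n := by
  classical
  obtain ⟨e⟩ := h
  let k := AlgebraicClosure F
  haveI : CharP k p := charP_of_injective_algebraMap (algebraMap F k).injective p
  let f := algebraMap F k
  let ρ : H →* Module.End k (Fin n → k) :=
    ((Matrix.toLinAlgEquiv' (R := k)).toAlgHom.toMonoidHom).comp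
      ((f.mapMatrix.toMonoidHom).comp ((Units.coeHom _).comp H.subtype))
  have hρ : Function.Injective ρ := fun a b hab => by
    have h1 : f.mapMatrix ((a : GL (Fin n) F) : Matrix (Fin n) (Fin n) F) =
        f.mapMatrix ((b : GL (Fin n) F) : Matrix (Fin n) (Fin n) F) :=
      (Matrix.toLinAlgEquiv' (R := k)).injective hab
    exact Subtype.ext (Units.ext (Matrix.map_injective f.injective h1))
  let π : H →* alternatingGroup (Fin r) := e.toMonoidHom.comp (QuotientGroup.mk' K)
  have hπ : Function.Surjective π := e.surjective.comp (QuotientGroup.mk'_surjective K)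
  have key := CfsgLib.AltDegree.sectionBound hr n k H (Fin n → k) ρ hρ π hπ (by simp)
  rw [CfsgLib.AltDegree.tgt] at key
  have hiff : (r : k) = 0 ↔ p ∣ r := CharP.cast_eq_zero_iff k p r
  by_cases hd : p ∣ r
  · rw [if_pos hd]; rwa [if_pos (hiff.2 hd)] at key
  · rw [if_neg hd]; rwa [if_neg (fun h => hd (hiff.1 h))] at key

end Cfsg.Agent.S2653
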