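import Cfsg.Prelude.Def_ChevF4
import Cfsg.Agent.Lib.Chev.OrderCases
import Cfsg.Agent.Lib.Chev.Comm
import Cfsg.Agent.Lib.AltSection.Pair
import Cfsg.Agent.Lib.AltSection.Gen.F4Weyl

/-!
# S2657: alternating sections of the groups of type F₄

For `p ≠ 11` the automizer of order five of an eleven-cycle in `A₁₁` needs five to divide the order of the
Weyl group.  For `p = 11` the element of order 35 of `A₁₂` has an automizer of order twelve, needing a
Weyl element with an eigenvalue of order six modulo seven and one of order four modulo five; the listed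
Weyl group has none.
-/

set_option autoImplicit false
set_option linter.unusedSectionVars false

open scoped MatrixGroups

namespace Cfsg.Agent.S2657

open Cfsg.Lie CfsgLib.Chev CfsgLib.ChevCent CfsgLib.AltSection

/-- the key of four images -/
def enc (a b c d : ℕ) : ℕ := a + 48 * (b + 48 * (c + 48 * d))

/-- the digit of a key -/
def digit (x j : ℕ) : ℕ := x / 48 ^ j % 48

/-- the matrix entry -/
def mEntry (m a b : ℕ) : ℕ := m / 8 ^ (4 * a + b) % 8

/-- closure and the inverse of the shifted matrix -/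
noncomputable def nodeOK (x : ℕ) (f : Bool) (m : ℕ) : Bool :=
  ((List.finRange chevF4.rank).all fun i => (F4W.tree.find (enc (sig chevF4 F4.tabs i (digit x 0))
    (sig chevF4 F4.tabs i (digit x 1)) (sig chevF4 F4.tabs i (digit x 2))
    (sig chevF4 F4.tabs i (digit x 3)))).isSome) &&
  ((List.finRange chevF4.rank).all fun a => (List.finRange chevF4.rank).all fun c =>
    decide (((((List.finRange chevF4.rank).map fun b => (mEntry m a.val b.val : ℤ) *
      (rv chevF4 F4.tabs (digit x b.val) c - (if b = c then (if f then 3 else 2) else 0))).sum) -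
        (if a = c then 1 else 0)) % (if f then 7 else 5) = 0))

theorem tree_ok : F4W.tree.all nodeOK = true := by decide +kernel

theorem tree_start : (F4W.tree.find (enc (chevF4.simple 0) (chevF4.simple 1) (chevF4.simple 2)
    (chevF4.simple 3))).isSome = true := by decide +kernel

theorem digit_enc {a b c d : ℕ} (ha : a < 48) (hb : b < 48) (hc : c < 48) (hd : d < 48) :
    digit (enc a b c d) 0 = a ∧ digit (enc a b c d) 1 = b ∧ digit (enc a b c d) 2 = c ∧
      digit (enc a b c d) 3 = d := by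
  simp only [digit, enc]
  refine ⟨by omega, by omega, by omega, by omega⟩

theorem rev_mem (L : List (Fin chevF4.rank)) :
    (F4W.tree.find (enc (sigs chevF4 F4.tabs L (chevF4.simple 0)) (sigs chevF4 F4.tabs L (chevF4.simple 1))
      (sigs chevF4 F4.tabs L (chevF4.simple 2)) (sigs chevF4 F4.tabs L (chevF4.simple 3)))).isSome = true := by
  induction L with
  | nil => exact tree_start
  | cons i L ih =>
    obtain ⟨⟨f, m⟩, hf⟩ := Option.isSome_iff_exists.1 ih
    have h := WTree.of_find tree_ok hf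
    simp only [nodeOK, Bool.and_eq_true, List.all_eq_true] at h
    have h1 := h.1 i (List.mem_finRange i)
    have hlt : ∀ j : ℕ, j < 4 → sigs chevF4 F4.tabs L (chevF4.simple j) < 48 := fun j hj =>
      sigs_lt F4.checked L (simple_lt F4.checked (show j < chevF4.rank from hj))
    obtain ⟨e0, e1, e2, e3⟩ := digit_enc (hlt 0 (by norm_num)) (hlt 1 (by norm_num)) (hlt 2 (by norm_num))
      (hlt 3 (by norm_num))
    rw [e0, e1, e2, e3] at h1
    simpa only [sigs_cons] using h1

theorem cartan_det : ∃ N : Fin chevF4.rank → Fin chevF4.rank → ℤ, ∀ i j,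
    ∑ a, N i a * cm chevF4 a j = if i = j then ((1 : ℕ) : ℤ) else 0 :=
  ⟨(![![2, 3, 4, 2], ![3, 6, 8, 4], ![2, 4, 6, 3], ![1, 2, 3, 2]] : Fin 4 → Fin 4 → ℤ), by decide +kernel⟩

theorem wsum_F4_one (J : List (Fin chevF4.rank)) (hJ : ∀ i, i ∈ J) : wsum F4.checked J 1 = 1152 := by
  rw [← card_weylGrp F4.checked hJ, card_weylGrp F4.checked
    (J := [(⟨0, by decide⟩ : Fin chevF4.rank), ⟨1, by decide⟩, ⟨2, by decide⟩, ⟨3, by decide⟩]) (by decide)]
  rw [wsum_F4]
  decide

theorem orderOf_dvd_weyl {π : Equiv.Perm (Fin chevF4.nroots)} (hπ : π ∈ weylGrp F4.checked) :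
    orderOf π ∣ 1152 := by
  have h := orderOf_dvd_natCard (⟨π, hπ⟩ : ↥(weylGrp F4.checked))
  rw [card_weylGrp F4.checked (J := List.finRange chevF4.rank) List.mem_finRange,
    wsum_F4_one _ List.mem_finRange, Subgroup.orderOf_mk] at h
  exact h

/-- no Weyl element has both eigenvalues -/
theorem no_both {E : Type*} [Field E] {π : Equiv.Perm (Fin chevF4.nroots)} (hπ : π ∈ weylGrp F4.checked)
    [Fact (Nat.Prime 7)] [Fact (Nat.Prime 5)]
    {y z : Fin chevF4.rank → Eˣ} (hy7 : y ^ 7 = 1) (hy1 : y ≠ 1) (hy : permAct F4.checked π y = y ^ 3)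
    (hz5 : z ^ 5 = 1) (hz1 : z ≠ 1) (hz : permAct F4.checked π z = z ^ 2) : False := by
  obtain ⟨L, rfl⟩ := hπ
  obtain ⟨⟨f, m⟩, hf⟩ := Option.isSome_iff_exists.1 (rev_mem L)
  have h := WTree.of_find tree_ok hf
  simp only [nodeOK, Bool.and_eq_true, List.all_eq_true, decide_eq_true_eq] at h
  have hlt : ∀ j : ℕ, j < 4 → sigs chevF4 F4.tabs L (chevF4.simple j) < 48 := fun j hj =>
    sigs_lt F4.checked L (simple_lt F4.checked (show j < chevF4.rank from hj))
  obtain ⟨e0, e1, e2, e3⟩ := digit_enc (hlt 0 (by norm_num)) (hlt 1 (by norm_num)) (hlt 2 (by norm_num))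
    (hlt 3 (by norm_num))
  have hdig : ∀ b : Fin chevF4.rank, digit (enc (sigs chevF4 F4.tabs L (chevF4.simple 0))
      (sigs chevF4 F4.tabs L (chevF4.simple 1)) (sigs chevF4 F4.tabs L (chevF4.simple 2))
      (sigs chevF4 F4.tabs L (chevF4.simple 3))) b.val = sigs chevF4 F4.tabs L (chevF4.simple b.val) := by
    intro b
    obtain ⟨b, hb⟩ := b
    have hb' : b < 4 := hb
    interval_cases b <;> assumption
  have kill : ∀ {ℓ v : ℕ} [Fact ℓ.Prime] (w : Fin chevF4.rank → Eˣ), w ^ ℓ = 1 → w ≠ 1 →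
      permAct F4.checked (permOf F4.checked L) w = w ^ v →
      (∀ a c : Fin chevF4.rank, ((((List.finRange chevF4.rank).map fun b => (mEntry m a.val b.val : ℤ) *
      (rv chevF4 F4.tabs (sigs chevF4 F4.tabs L (chevF4.simple b.val)) c - (if b = c then (v : ℤ) else 0))).sum) -
        (if a = c then 1 else 0)) % (ℓ : ℤ) = 0) → False := by
    intro ℓ v hℓ w hwℓ hw1 hw hM
    obtain ⟨η, e, hη, he0, he⟩ := exists_exponents hwℓ hw1
    have hR : ∀ b : Fin chevF4.rank,
        ∑ c, ((rv chevF4 F4.tabs (sigs chevF4 F4.tabs L (chevF4.simple b.val)) c : ℤ) : ZMod ℓ) * e c =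
          (v : ZMod ℓ) * e b := fun b => rootForm_eigen F4.checked ⟨L, rfl⟩ hη he hw b
    refine he0 (funext fun a => ?_)
    have hMa : ∀ c, ∑ b, ((mEntry m a.val b.val : ℤ) : ZMod ℓ) *
        (((rv chevF4 F4.tabs (sigs chevF4 F4.tabs L (chevF4.simple b.val)) c : ℤ) : ZMod ℓ) -
          if b = c then (v : ZMod ℓ) else 0) = if a = c then 1 else 0 := fun c => by
      have h1 := (ZMod.intCast_zmod_eq_zero_iff_dvd _ ℓ).2 (Int.dvd_of_emod_eq_zero (hM a c))
      rw [Int.cast_sub, sub_eq_zero, ← List.ofFn_eq_map, List.sum_ofFn, Int.cast_sum] at h1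
      simp only [Int.cast_mul, Int.cast_sub, apply_ite (fun x : ℤ => (x : ZMod ℓ)), Int.cast_zero,
        Int.cast_natCast, Int.cast_one] at h1
      simpa only [Int.cast_natCast] using h1
    calc e a = ∑ c, (if a = c then (1 : ZMod ℓ) else 0) * e c := by simp
      _ = ∑ c, (∑ b, ((mEntry m a.val b.val : ℤ) : ZMod ℓ) *
          (((rv chevF4 F4.tabs (sigs chevF4 F4.tabs L (chevF4.simple b.val)) c : ℤ) : ZMod ℓ) -
            if b = c then (v : ZMod ℓ) else 0)) * e c := by
        exact Finset.sum_congr rfl fun c _ => by rw [hMa]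
      _ = ∑ b, ((mEntry m a.val b.val : ℤ) : ZMod ℓ) *
          (∑ c, ((rv chevF4 F4.tabs (sigs chevF4 F4.tabs L (chevF4.simple b.val)) c : ℤ) : ZMod ℓ) * e c -
            (v : ZMod ℓ) * e b) := by
        simp only [Finset.sum_mul]
        rw [Finset.sum_comm]
        refine Finset.sum_congr rfl fun b _ => ?_
        rw [mul_sub, Finset.mul_sum]
        simp only [mul_sub, sub_mul, ite_mul, zero_mul, mul_ite, mul_zero, mul_assoc, Finset.sum_sub_distrib,
          Finset.sum_ite_eq, Finset.mem_univ, if_true]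
      _ = (0 : Fin chevF4.rank → ZMod ℓ) a := by simp [hR]
  cases f with
  | true =>
    refine kill (ℓ := 7) (v := 3) y hy7 hy1 hy fun a c => ?_
    have h1 := h.2 a (List.mem_finRange a) c (List.mem_finRange c)
    simpa only [hdig, if_true, Nat.cast_ofNat] using h1
  | false =>
    refine kill (ℓ := 5) (v := 2) z hz5 hz1 hz fun a c => ?_
    have h1 := h.2 a (List.mem_finRange a) c (List.mem_finRange c)
    simpa only [hdig, Bool.false_eq_true, if_false, Nat.cast_ofNat] using h1

/-- an eleven-cycle conjugate to its cube -/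
theorem exists_eleven : ∃ a t : alternatingGroup (Fin 11), orderOf a = 11 ∧ t * a * t⁻¹ = a ^ 3 := by
  haveI : Fact (Nat.Prime 11) := ⟨by norm_num⟩
  refine ⟨⟨([0, 1, 2, 3, 4, 5, 6, 7, 8, 9, 10] : List (Fin 11)).formPerm, by
      rw [Equiv.Perm.mem_alternatingGroup]; decide +kernel⟩,
    ⟨([1, 3, 9, 5, 4] : List (Fin 11)).formPerm * ([2, 6, 7, 10, 8] : List (Fin 11)).formPerm, by
      rw [Equiv.Perm.mem_alternatingGroup]; decide +kernel⟩, orderOf_eq_prime ?_ ?_, ?_⟩
  · decide +kernel
  · decide +kernel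
  · decide +kernel

/-- a seven-cycle and a five-cycle with a common automorphism -/
theorem exists_seven_five : ∃ a b t : alternatingGroup (Fin 12), orderOf a = 7 ∧ orderOf b = 5 ∧ Commute a b ∧
    t * a * t⁻¹ = a ^ 3 ∧ t * b * t⁻¹ = b ^ 2 := by
  haveI : Fact (Nat.Prime 7) := ⟨by norm_num⟩
  haveI : Fact (Nat.Prime 5) := ⟨by norm_num⟩
  refine ⟨⟨([0, 1, 2, 3, 4, 5, 6] : List (Fin 12)).formPerm, by
      rw [Equiv.Perm.mem_alternatingGroup]; decide +kernel⟩,
    ⟨([7, 8, 9, 10, 11] : List (Fin 12)).formPerm, by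
      rw [Equiv.Perm.mem_alternatingGroup]; decide +kernel⟩,
    ⟨([1, 3, 2, 6, 4, 5] : List (Fin 12)).formPerm * ([8, 9, 11, 10] : List (Fin 12)).formPerm, by
      rw [Equiv.Perm.mem_alternatingGroup]; decide +kernel⟩,
    orderOf_eq_prime ?_ ?_, orderOf_eq_prime ?_ ?_, ?_, ?_, ?_⟩
  · decide +kernel
  · decide +kernel
  · decide +kernel
  · decide +kernel
  · exact Subtype.ext (by decide +kernel)
  · decide +kernel
  · decide +kernel

theorem order_three : orderOf (3 : ZMod 11) = 5 := by
  haveI : Fact (Nat.Prime 5) := ⟨by norm_num⟩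
  exact orderOf_eq_prime (by decide +kernel) (by decide +kernel)

theorem cycleType_seven (a : Equiv.Perm (Fin 12)) (ha : orderOf a = 7) : a.cycleType = {7} := by
  have hl : ∀ n ∈ a.cycleType, n = 7 := fun n hn => by
    have h1 : n ∣ 7 := ha ▸ Equiv.Perm.dvd_of_mem_cycleType hn
    have h2 := Equiv.Perm.two_le_of_mem_cycleType hn
    rcases (Nat.dvd_prime (by norm_num : Nat.Prime 7)).1 h1 with h | h <;> omega
  have hsum : a.cycleType.sum ≤ 12 := by
    rw [Equiv.Perm.sum_cycleType]
    exact (Finset.card_le_univ _).trans (by simp)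
  have hrep : a.cycleType = Multiset.replicate (Multiset.card a.cycleType) 7 :=
    Multiset.eq_replicate.2 ⟨rfl, hl⟩
  rw [hrep, Multiset.sum_replicate, smul_eq_mul] at hsum
  have hne : Multiset.card a.cycleType ≠ 0 := fun h => by
    rw [Multiset.card_eq_zero, Equiv.Perm.cycleType_eq_zero] at h
    rw [h, orderOf_one] at ha
    norm_num at ha
  rw [hrep, show Multiset.card a.cycleType = 1 by omega]
  rfl

/-- twenty-five does not divide the normalizer of a seven-cycle -/
theorem card_normalizer_seven (a : alternatingGroup (Fin 12)) (ha : orderOf a = 7) :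
    ¬ 5 ^ 2 ∣ Nat.card (Subgroup.normalizer
      ((Subgroup.zpowers a : Subgroup (alternatingGroup (Fin 12))) : Set (alternatingGroup (Fin 12)))) := by
  set Z := Subgroup.zpowers a
  set N := Subgroup.normalizer (Z : Set (alternatingGroup (Fin 12)))
  intro h
  let C := (Z.normalizerMonoidHom).ker
  have hC : Nat.card C ∣ 840 := by
    let φ : ↥C →* ↥(Subgroup.centralizer ({(a : Equiv.Perm (Fin 12))} : Set (Equiv.Perm (Fin 12)))) :=
      ((alternatingGroup (Fin 12)).subtype.comp (N.subtype.comp C.subtype)).codRestrict _ fun c => by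
        have hc : c.1 ∈ Z.normalizerMonoidHom.ker := c.2
        rw [Subgroup.normalizerMonoidHom_ker, Subgroup.mem_subgroupOf, Subgroup.mem_centralizer_iff] at hc
        rw [Subgroup.mem_centralizer_iff]
        rintro _ rfl
        exact congrArg Subtype.val (hc a (Subgroup.mem_zpowers a))
    have hφ : Function.Injective φ := fun x y e =>
      Subtype.ext (Subtype.ext (Subtype.ext (congrArg Subtype.val e :)))
    refine (Subgroup.card_dvd_of_injective φ hφ).trans (dvd_of_eq ?_)
    rw [Equiv.Perm.nat_card_centralizer, cycleType_seven _ (by rw [Subgroup.orderOf_coe]; exact ha)]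
    decide +kernel
  have hI : Nat.card (Z.normalizerMonoidHom).range ∣ 6 := by
    refine (Subgroup.card_subgroup_dvd_card _).trans (dvd_of_eq ?_)
    rw [IsCyclic.card_mulAut, Nat.card_zpowers, ha]
    decide
  have h1 := Subgroup.card_mul_index C
  rw [Subgroup.index_ker] at h1
  rw [← h1] at h
  have h2 := h.trans (Nat.mul_dvd_mul hC hI)
  norm_num at h2

theorem result {F : Type*} [Field F] [Fintype F] (p : ℕ) [Fact p.Prime] [CharP F p]
    (r : ℕ) (H : Subgroup ↥(Cfsg.Lie.chevF4.group F)) (K : Subgroup ↥H) [K.Normal]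
    (h : Nonempty (↥H ⧸ K ≃* ↥(alternatingGroup (Fin r)))) :
    r ≤ 10 + (if p = 11 then 1 else 0) := by
  classical
  have hcomm := commOne_of_commCheck F4.checked F4.comm_ok F4.short_ok
  obtain ⟨N, hN⟩ := cartan_det
  by_contra hlt
  haveI : Fact (Nat.Prime 11) := ⟨by norm_num⟩
  haveI : Fact (Nat.Prime 7) := ⟨by norm_num⟩
  haveI : Fact (Nat.Prime 5) := ⟨by norm_num⟩
  split at hlt
  · rename_i h11
    obtain ⟨H', f, hf⟩ := exists_alt_section h (m := 12) (by omega)
    obtain ⟨E, _, _, ι, k₁, k₂, hS₁, hS₂⟩ := exists_split_ext₂ F4.checked (F := F) (p := p) (ℓ₁ := 7) (ℓ₂ := 5)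
      (by omega) (by omega) ⟨N, 1, by norm_num, hN⟩ ⟨N, 1, by norm_num, hN⟩
      (fun J hJ => by rw [wsum_F4_one J hJ]; norm_num) (fun J hJ => by rw [wsum_F4_one J hJ]; norm_num)
    obtain ⟨x1, m1, i1⟩ := split_torus_spec F4.checked hcomm hS₁
    obtain ⟨x2, m2, i2⟩ := split_torus_spec F4.checked hcomm hS₂
    obtain ⟨a, b, t, ha, hb, hab, hta, htb⟩ := exists_seven_five
    let e := H'.equivMapOfInjective (groupMap F4.checked ι) (groupMap_injective F4.checked ι)
    obtain ⟨π, hπ, ⟨y, -, y1, y2, y3⟩, z, -, z1, z2, z3⟩ := exists_eigen_pair F4.checked hcomm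
      (chevF4.group E) le_rfl _ _ x1 x2 m1 m2 i1 i2
      (fun π hπ => ⟨fun hd => by have := hd.trans (orderOf_dvd_weyl hπ); norm_num at this,
        fun hd => by have := hd.trans (orderOf_dvd_weyl hπ); norm_num at this⟩)
      ha hb (by rw [nat_card_alternatingGroup, Nat.card_fin]; decide)
      (card_normalizer_seven a ha) hab hta htb
      (H'.map (groupMap F4.checked ι)) (f.comp e.symm.toMonoidHom) (hf.comp e.symm.surjective)
    exact no_both hπ y1 y2 y3 z1 z2 z3
  · rename_i h11
    obtain ⟨H', f, hf⟩ := exists_alt_section h (m := 11) (by omega)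
    obtain ⟨a, t, ha, hat⟩ := exists_eleven
    refine no_section_of_char F4.checked hcomm (p := p) (ℓ := 11) h11 ⟨N, 1, by norm_num, hN⟩
      (fun J hJ => by rw [wsum_F4_one J hJ]; norm_num) (a := a) (t := t) (u' := 3) ha
      (by rw [nat_card_alternatingGroup, Nat.card_fin]; decide) hat ?_ H' f hf
    intro π hπ hmod
    have h5 := order_three
    have h3 : ((3 : ℕ) : ZMod 11) ^ orderOf π = 1 := by
      rw [← Nat.cast_pow, (ZMod.natCast_eq_natCast_iff _ 1 11).2 hmod, Nat.cast_one]
    have h55 : 5 ∣ orderOf π := h5 ▸ orderOf_dvd_of_pow_eq_one (by exact_mod_cast h3)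
    have := h55.trans (orderOf_dvd_weyl hπ)
    norm_num at this

end Cfsg.Agent.S2657
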