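import Cfsg.Prelude.Def_ChevG2
import Cfsg.Agent.Lib.Chev.OrderCases
import Cfsg.Agent.Lib.Chev.Comm
import Cfsg.Agent.Lib.AltSection.Extend
import Cfsg.Agent.Lib.AltSection.AltEight
import Cfsg.Agent.Lib.ReeG2.WZero

/-!
# S2658: alternating sections of the groups of type G₂

For `p ≠ 5` an element of `A₇` raising a five-cycle to its square needs a Weyl element of order
divisible by four.  For `p = 5` the Sylow two-subgroup has an abelian subgroup of rank two and index
four, which rules out `A₈`.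
-/

set_option autoImplicit false
set_option linter.unusedSectionVars false

open scoped MatrixGroups

namespace Cfsg.Agent.S2658

open Cfsg.Lie CfsgLib.Chev CfsgLib.ChevCent CfsgLib.AltSection

theorem weyl_six (L : List (Fin chevG2.rank)) : permOf G2.checked L ^ 6 = 1 := by
  obtain ⟨C, hC, h⟩ := CfsgLib.ReeG2.exists_canon L
  have e : permOf G2.checked L = permOf G2.checked C := Equiv.ext fun r => Fin.ext (h r)
  have six : ∀ C ∈ CfsgLib.ReeG2.canon, ∀ r : Fin 12,
      sigs chevG2 G2.tabs (C ++ C ++ C ++ C ++ C ++ C) r.val = r.val := by decide +kernel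
  refine e ▸ Equiv.ext fun r => Fin.ext ?_
  have := six C hC r
  simp only [sigs_append] at this
  exact this

theorem cartan_adj : ∀ i j : Fin chevG2.rank,
    ∑ a, (![![2, 3], ![1, 2]] : Fin 2 → Fin 2 → ℤ) i a * cm chevG2 a j = if i = j then ((1 : ℕ) : ℤ) else 0 := by
  decide +kernel

theorem wsum_twelve (J : List (Fin chevG2.rank)) (hJ : ∀ i, i ∈ J) : wsum G2.checked J 1 = 12 := by
  rw [← card_weylGrp G2.checked hJ, card_weylGrp G2.checked
    (J := [(⟨0, by decide⟩ : Fin chevG2.rank), (⟨1, by decide⟩ : Fin chevG2.rank)]) (by decide), wsum_G2]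
  decide

variable {F : Type*} [Field F] [Fintype F]

/-- a permutation raising a five-cycle to its square -/
theorem exists_five_square : ∃ a t : alternatingGroup (Fin 7), orderOf a = 5 ∧ t * a * t⁻¹ = a ^ 2 := by
  haveI : Fact (Nat.Prime 5) := ⟨by norm_num⟩
  refine ⟨⟨Equiv.swap 0 1 * Equiv.swap 1 2 * Equiv.swap 2 3 * Equiv.swap 3 4, by
      rw [Equiv.Perm.mem_alternatingGroup]; decide +kernel⟩,
    ⟨(Equiv.swap 1 2 * Equiv.swap 2 4 * Equiv.swap 4 3) * Equiv.swap 5 6, by
      rw [Equiv.Perm.mem_alternatingGroup]; decide +kernel⟩, orderOf_eq_prime ?_ ?_, ?_⟩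
  · decide +kernel
  · decide +kernel
  · decide +kernel

theorem no_alt_seven (p : ℕ) [Fact p.Prime] [CharP F p] (hp : p ≠ 5) (H : Subgroup ↥(chevG2.group F))
    (f : H →* alternatingGroup (Fin 7)) (hf : Function.Surjective f) : False := by
  haveI : Fact (Nat.Prime 5) := ⟨by norm_num⟩
  obtain ⟨a', t', ha5, hta⟩ := exists_five_square
  refine no_section_of_char G2.checked (commOne_of_wordCheck G2.checked G2.comm_ok) (p := p) (ℓ := 5) hp
    ⟨_, 1, by norm_num, cartan_adj⟩ (fun J hJ => by rw [wsum_twelve J hJ]; norm_num)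
    (a := a') (t := t') (u' := 2) ha5 ?_ hta ?_ H f hf
  · rw [nat_card_alternatingGroup, Nat.card_fin]; decide
  · rintro π ⟨L, rfl⟩ h
    have h6 : orderOf (permOf G2.checked L) ∣ 6 := orderOf_dvd_of_pow_eq_one (weyl_six L)
    have := Nat.le_of_dvd (by norm_num) h6
    have hpos := orderOf_pos (permOf G2.checked L)
    revert h h6 hpos this
    generalize orderOf (permOf G2.checked L) = o
    intro h h6 h7 h8
    interval_cases o <;> simp_all [Nat.ModEq]

theorem no_alt_eight' [CharP F 5] (H : Subgroup ↥(chevG2.group F))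
    (f : H →* alternatingGroup (Fin 8)) (hf : Function.Surjective f) : False := by
  classical
  haveI : Fact (Nat.Prime 2) := ⟨Nat.prime_two⟩
  haveI : Fact (Nat.Prime 5) := ⟨by norm_num⟩
  have hc := G2.checked
  obtain ⟨n, -, hn⟩ := FiniteField.card F 5
  set q := Fintype.card F with hq
  have hq4 : q % 4 = 1 := by rw [hn, Nat.pow_mod]; simp
  have hq2 : 2 ≤ q := hq ▸ Fintype.one_lt_card
  set v := (q - 1).factorization 2
  set e := (q - 1) / 2 ^ v with he
  have hve : q - 1 = 2 ^ v * e := (Nat.ordProj_mul_ordCompl_eq_self (q - 1) 2).symm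
  have he2 : ¬ 2 ∣ e := Nat.not_dvd_ordCompl Nat.prime_two (by omega)
  set Dg : Subgroup ↥(chevG2.group F) :=
    (chevG2.diagonalSubgroup F).subgroupOf (chevG2.group F)
  have hDcard : Nat.card Dg = (q - 1) ^ 2 := by
    have h := card_diagonal_G2 (F := F)
    rw [pow_zero, one_mul] at h
    rw [hq, ← h]
    exact Nat.card_congr (Subgroup.subgroupOfEquivOfLe (diagonal_le_group hc)).toEquiv
  obtain ⟨T₀⟩ : Nonempty (Sylow 2 Dg) := inferInstance
  set T : Subgroup ↥(chevG2.group F) := (T₀ : Subgroup Dg).map Dg.subtype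
  have hTle : T ≤ Dg := Subgroup.map_subtype_le _
  have hTcard : Nat.card T = 2 ^ (2 * v) := by
    rw [Subgroup.card_map_of_injective Dg.subtype_injective, Sylow.card_eq_multiplicity, hDcard,
      Nat.factorization_pow]
    simp [v]
  have hrange : ∀ x ∈ Dg, ∃ y : Fin chevG2.rank → Fˣ,
      (x : GL chevG2.Idx F) = torus chevG2 G2.tabs F y := fun x hx => by
    obtain ⟨y, hy⟩ := (mem_diagonal hc).1 hx
    exact ⟨_, hy.symm⟩
  refine no_alt_eight T (T₀.isPGroup'.map _) ?_ ?_ ?_ H f hf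
  · intro hdvd
    rw [hTcard, card_group_G2 (F := F) hq.symm] at hdvd
    obtain ⟨o, ho⟩ : ∃ o, q + 1 = 2 * (2 * o + 1) := ⟨q / 4, by omega⟩
    have h1 : q ^ 2 - 1 = (q - 1) * (q + 1) := by
      rw [mul_comm, ← Nat.sq_sub_sq]
    have h3 : q ^ 6 - 1 = (q ^ 2 - 1) * (q ^ 4 + q ^ 2 + 1) := by
      zify [Nat.one_le_pow 6 q (by omega), Nat.one_le_pow 2 q (by omega)]; ring
    rw [h3, h1, ho, hve, show q ^ 6 * (2 ^ v * e * (2 * (2 * o + 1))) *
        (2 ^ v * e * (2 * (2 * o + 1)) * (q ^ 4 + q ^ 2 + 1)) =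
        4 * 2 ^ (2 * v) * (q ^ 6 * (q ^ 4 + q ^ 2 + 1) * (e * e) * ((2 * o + 1) * (2 * o + 1))) by
      rw [two_mul v, pow_add]; ring, show 8 * 2 ^ (2 * v) = 4 * 2 ^ (2 * v) * 2 by ring,
      Nat.mul_dvd_mul_iff_left (by positivity)] at hdvd
    have hqo : q % 2 = 1 := by omega
    have heo : e % 2 = 1 := by omega
    revert hdvd
    simp [Nat.dvd_iff_mod_eq_zero, Nat.mul_mod, Nat.pow_mod, Nat.add_mod, hqo, heo]
  · intro x hx y hy
    obtain ⟨x', hx'⟩ := hrange x (hTle hx)
    obtain ⟨y', hy'⟩ := hrange y (hTle hy)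
    refine Subtype.ext ?_
    rw [Subgroup.coe_mul, Subgroup.coe_mul, hx', hy', ← map_mul, ← map_mul, mul_comm]
  · intro B hB
    let c : (Fˣ × Fˣ) →* (Fin chevG2.rank → Fˣ) :=
      { toFun := fun z => hPar chevG2 F (![z.1, z.2] : Fin 2 → Fˣ)
        map_one' := by
          funext j
          show ∏ i : Fin 2, (![1, 1] : Fin 2 → Fˣ) i ^ cm chevG2 i j = 1
          simp [Fin.prod_univ_two]
        map_mul' := fun z w => by
          funext j
          show ∏ i : Fin 2, (![z.1 * w.1, z.2 * w.2] : Fin 2 → Fˣ) i ^ cm chevG2 i j =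
            (∏ i : Fin 2, (![z.1, z.2] : Fin 2 → Fˣ) i ^ cm chevG2 i j) *
              ∏ i : Fin 2, (![w.1, w.2] : Fin 2 → Fˣ) i ^ cm chevG2 i j
          simp [Fin.prod_univ_two, mul_zpow]; ac_rfl }
    have hcD : ∀ z, torus chevG2 G2.tabs F (c z) ∈ chevG2.diagonalSubgroup F := fun z =>
      (mem_diagonal hc).2 ⟨_, rfl⟩
    let φ : (Fˣ × Fˣ) →* ↥(chevG2.group F) :=
      ((torus chevG2 G2.tabs F).comp c).codRestrict _ fun z => diagonal_le_group hc (hcD z)
    refine exists_pair_closure φ fun x hx => ?_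
    obtain ⟨y, hy⟩ := (mem_diagonal hc).1 (hTle (hB hx) : (x : GL chevG2.Idx F) ∈ _)
    refine ⟨(y (⟨0, by decide⟩ : Fin chevG2.rank), y (⟨1, by decide⟩ : Fin chevG2.rank)), Subtype.ext ?_⟩
    refine Eq.trans ?_ hy
    show torus chevG2 G2.tabs F (c _) = _
    refine congrArg (torus chevG2 G2.tabs F) ?_
    show hPar chevG2 F _ = hPar chevG2 F y
    congr 1
    funext i
    match i with
    | ⟨0, _⟩ => rfl
    | ⟨1, _⟩ => rfl

theorem result {F : Type*} [Field F] [Fintype F] (p : ℕ) [Fact p.Prime] [CharP F p]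
    (r : ℕ) (H : Subgroup ↥(Cfsg.Lie.chevG2.group F)) (K : Subgroup ↥H) [K.Normal]
    (h : Nonempty (↥H ⧸ K ≃* ↥(alternatingGroup (Fin r)))) :
    r ≤ 6 + (if p = 5 then 1 else 0) := by
  by_contra hlt
  split at hlt
  · rename_i h5
    subst h5
    obtain ⟨H', f, hf⟩ := exists_alt_section h (m := 8) (by omega)
    exact no_alt_eight' H' f hf
  · rename_i h5
    obtain ⟨H', f, hf⟩ := exists_alt_section h (m := 7) (by omega)
    exact no_alt_seven p h5 H' f hf

end Cfsg.Agent.S2658
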