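import Cfsg.Prelude.Def_LieTwisted
import Cfsg.Agent.Lib.Twisted.D4Order
import Cfsg.Agent.Lib.ChevReg.D4Cyclic
import Cfsg.Agent.Lib.AltSection.Extend
import Cfsg.Agent.Lib.AltSection.RootSums
import Cfsg.Agent.Lib.AltSection.AltEight

/-!
# S2660: alternating sections of the triality groups

For `p ≠ 5` an extension of degree four gives `q ≡ 1 (mod 5)`; a five-cycle of `A₇` conjugate to its
square would give a triality-fixed torus element of order five mapped to its square by a Weyl element,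
excluded by the quadratic invariant of the roots.  For `p = 5` the Sylow two-subgroup has an abelian
two-generated subgroup of index four, which excludes `A₈`.
-/

set_option autoImplicit false
set_option linter.unusedSectionVars false

open scoped MatrixGroups

namespace Cfsg.Agent.S2660

open Cfsg.Lie CfsgLib.Chev CfsgLib.ChevCent CfsgLib.AltSection
open CfsgLib.ChevField (glMap glMap_injective)
open CfsgLib.Twisted (tauPar fixPar mem_fixPar torus_fixPar_mem exists_frob iterate_frob_card)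
open CfsgLib.Twisted.D4 (sym sym_test sym_nodeTest sym_bnTest orbit_ok twistedD4_eq card_group_twisted
  card_diagonal_twisted)

/-- the embedding of twisted groups given by an extension of fields -/
theorem glMap_twisted {K E : Type*} [Field K] [Field E] (ι : K →+* E) (q q' : ℕ)
    (hfix : ∀ t : K, t ^ q = t → t ^ q' = t) (h1 : ∀ t : K, t ^ q' = t ^ q) (h2 : ∀ t : K, t ^ q' ^ 2 = t ^ q ^ 2)
    {g : GL chevD4.Idx K} (hg : g ∈ twistedD4 K q) : glMap chevD4 ι g ∈ twistedD4 E q' := by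
  suffices h : twistedD4 K q ≤ (twistedD4 E q').comap (glMap chevD4 ι) from h hg
  rw [twistedD4, ChevalleyDatum.genSubgroup]
  refine (Subgroup.closure_le _).2 ?_
  rintro g ⟨w, hw, hg⟩
  show glMap chevD4 ι g ∈ twistedD4 E q'
  refine Subgroup.subset_closure ⟨w.map fun x => (x.1, ι x.2), ?_, ?_⟩
  · rcases hw with ⟨t, ht, r, hr, rfl⟩ | ⟨t, rs, hrs, rfl⟩
    · exact Or.inl ⟨ι t, by rw [← map_pow, hfix t ht], r, hr, rfl⟩
    · exact Or.inr ⟨ι t, rs, hrs, by simp [← map_pow, h1, h2]⟩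
  · rw [CfsgLib.ChevField.glMap_coe, hg, CfsgLib.Chevalley.wordMat_map_ringHom]

theorem no_eigen_exp : ∀ a b : ZMod 5,
    sumsZero chevD4 CfsgLib.Chev.D4.tabs 2 [2] (parExp chevD4 (![a, b, a, a] : Fin chevD4.rank → ZMod 5)) = true →
      a = 0 ∧ b = 0 := by decide +kernel

theorem thirty_six : (36 : ZMod 5) ≠ 0 := by decide

theorem node_pre : CfsgLib.Twisted.preNode sym_test (⟨2, by decide⟩ : Fin chevD4.rank) = ⟨0, by decide⟩ ∧
    CfsgLib.Twisted.preNode sym_test (⟨3, by decide⟩ : Fin chevD4.rank) = ⟨2, by decide⟩ ∧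
    CfsgLib.Twisted.preNode sym_test (⟨0, by decide⟩ : Fin chevD4.rank) = ⟨3, by decide⟩ ∧
    CfsgLib.Twisted.preNode sym_test (⟨1, by decide⟩ : Fin chevD4.rank) = ⟨1, by decide⟩ := by decide +kernel

/-- a five-cycle conjugate to its square -/
theorem exists_five_square : ∃ a t : alternatingGroup (Fin 7), orderOf a = 5 ∧ t * a * t⁻¹ = a ^ 2 := by
  haveI : Fact (Nat.Prime 5) := ⟨by norm_num⟩
  refine ⟨⟨Equiv.swap 0 1 * Equiv.swap 1 2 * Equiv.swap 2 3 * Equiv.swap 3 4, by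
      rw [Equiv.Perm.mem_alternatingGroup]; decide +kernel⟩,
    ⟨(Equiv.swap 1 2 * Equiv.swap 2 4 * Equiv.swap 4 3) * Equiv.swap 5 6, by
      rw [Equiv.Perm.mem_alternatingGroup]; decide +kernel⟩, orderOf_eq_prime ?_ ?_, ?_⟩
  · decide +kernel
  · decide +kernel
  · decide +kernel

theorem no_alt_seven {K : Type*} [Field K] [Fintype K] (p : ℕ) [Fact p.Prime] [CharP K p] {q : ℕ}
    (hqp : IsPrimePow q) (hq5 : ¬ 5 ∣ q) (hK : Fintype.card K = q ^ 3) (H : Subgroup ↥(twistedD4 K q))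
    (f : H →* alternatingGroup (Fin 7)) (hf : Function.Surjective f) : False := by
  classical
  haveI : Fact (Nat.Prime 5) := ⟨by norm_num⟩
  have hr : Nat.Prime 5 := Fact.out
  let E := FiniteField.Extension K p 4
  letI : Fintype E := Fintype.ofFinite E
  set Q := q ^ 4 with hQ
  have hE : Fintype.card E = Q ^ 3 := by
    rw [← Nat.card_eq_fintype_card, FiniteField.natCard_extension, Nat.card_eq_fintype_card, hK, hQ,
      ← pow_mul q, ← pow_mul q]
  have hQp : IsPrimePow Q := hqp.pow (by norm_num)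
  -- pass to the extension
  have hfK : ∀ t : K, t ^ Q = t ^ q := fun t => by
    rw [hQ, show q ^ 4 = q ^ 3 * q by ring, pow_mul, ← hK, FiniteField.pow_card]
  have hfix : ∀ t : K, t ^ q = t → t ^ Q = t := fun t ht => by rw [hfK, ht]
  have h2 : ∀ t : K, t ^ Q ^ 2 = t ^ q ^ 2 := fun t => by
    rw [pow_two, pow_mul, hfK, ← pow_mul, mul_comm, pow_mul, hfK, ← pow_mul, ← pow_two]
  let θ : ↥(twistedD4 K q) →* ↥(twistedD4 E Q) :=
    ((glMap chevD4 (algebraMap K E)).comp (twistedD4 K q).subtype).codRestrict _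
      fun g => glMap_twisted _ _ _ hfix hfK h2 g.2
  have hθ : Function.Injective θ := fun g g' h => Subtype.ext (glMap_injective _ (congrArg Subtype.val h :))
  let eH := H.equivMapOfInjective θ hθ
  have hf' : Function.Surjective (f.comp eH.symm.toMonoidHom) := hf.comp eH.symm.surjective
  obtain ⟨φ, hφ⟩ := exists_frob hQp three_ne_zero hE
  -- the arithmetic
  have hQ5 : (Q : ZMod 5) = 1 := by
    rw [hQ, Nat.cast_pow]
    exact ZMod.pow_card_sub_one_eq_one fun h => hq5 ((ZMod.natCast_eq_zero_iff q 5).1 h)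
  set k := (Q - 1).factorization 5
  set N := 5 ^ k with hN
  have hQ1 : 1 < Q := hQp.one_lt
  obtain ⟨e, hQe, he5⟩ : ∃ e, Q - 1 = N * e ∧ ¬ 5 ∣ e :=
    ⟨(Q - 1) / 5 ^ k, (Nat.ordProj_mul_ordCompl_eq_self (Q - 1) 5).symm, Nat.not_dvd_ordCompl hr (by omega)⟩
  -- powers of exponent dividing `N` are fixed by the Frobenius
  have hfr : ∀ u : Eˣ, u ^ N = 1 → Units.map φ.toRingHom.toMonoidHom u = u := fun u hu => by
    have h1 : u ^ Q = u := by
      rw [show Q = N * e + 1 by omega, pow_succ, pow_mul, hu, one_pow, one_mul]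
    refine Units.ext ?_
    show φ (u : E) = _
    rw [hφ, ← Units.val_pow_eq_pow_val, h1]
  let C : Subgroup (Fin chevD4.rank → Eˣ) := (powMonoidHom N).ker ⊓ fixPar sym_test φ
  let T₀ : Subgroup (Fin chevD4.rank → Eˣ) := C.map (hPar chevD4 E)
  have hC : ∀ c, c ∈ C ↔ c ^ N = 1 ∧ tauPar sym_test φ c = c := fun c => Iff.rfl
  have hhalf : ∀ c : Fin chevD4.rank → Eˣ, c ^ N = 1 → hPar chevD4 E c = 1 → c = 1 := fun c h1 h2 => by
    have h3 : c ^ 2 = 1 := CfsgLib.Twisted.ker_pow_eq_one CfsgLib.Twisted.D4.invCart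
      CfsgLib.Twisted.D4.invCart_ok h2
    have h4 : c ^ Nat.gcd 2 N = 1 := pow_gcd_eq_one.2 ⟨h3, h1⟩
    have h5 : Nat.Coprime 2 N := (show Nat.Coprime 2 5 by norm_num).pow_right k
    rwa [h5, pow_one] at h4
  have hexp : ∀ y ∈ T₀, y ^ 5 ^ k = 1 := by
    rintro y ⟨c, hc', rfl⟩
    rw [← map_pow, ← hN, ((hC c).1 hc').1, map_one]
  have hmem : ∀ y ∈ T₀, torus chevD4 CfsgLib.Chev.D4.tabs E y ∈ twistedD4 E Q ∧
      torus chevD4 CfsgLib.Chev.D4.tabs E y ∈ chevD4.diagonalSubgroup E := by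
    rintro y ⟨c, hc', rfl⟩
    refine ⟨?_, (mem_diagonal CfsgLib.Chev.D4.checked).2 ⟨c, rfl⟩⟩
    rw [twistedD4_eq hE φ hφ]
    exact torus_fixPar_mem CfsgLib.Chev.D4.checked sym_test φ orbit_ok sym_nodeTest sym_bnTest
      ((mem_fixPar).2 ((hC c).1 hc').2)
  have horb : ∀ c ∈ C, c ⟨2, by decide⟩ = c ⟨0, by decide⟩ ∧ c ⟨3, by decide⟩ = c ⟨0, by decide⟩ := by
    intro c hc'
    obtain ⟨hcN, hfx⟩ := (hC c).1 hc'
    obtain ⟨n2, n3, -, -⟩ := node_pre
    have e2 := congrFun hfx (⟨2, by decide⟩ : Fin chevD4.rank)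
    have e3 := congrFun hfx (⟨3, by decide⟩ : Fin chevD4.rank)
    change Units.map φ.toRingHom.toMonoidHom (c (CfsgLib.Twisted.preNode sym_test _)) = _ at e2 e3
    rw [n2, hfr _ (congrFun hcN _)] at e2
    rw [n3, hfr _ (congrFun hcN _), ← e2] at e3
    exact ⟨e2.symm, e3.symm⟩
  have hT0 : Nat.card T₀ = N ^ 2 := by
    let M0 : Subgroup Eˣ := (powMonoidHom N).ker
    have hM0 : Nat.card M0 = N := by
      rw [IsCyclic.card_powMonoidHom_ker, Nat.card_units, Nat.card_eq_fintype_card, hE,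
        Nat.gcd_comm, Nat.gcd_eq_left]
      refine dvd_trans ⟨e, hQe⟩ ?_
      have := Nat.sub_dvd_pow_sub_pow Q 1 3
      simpa using this
    have hinj : Nat.card T₀ = Nat.card C := by
      refine (Nat.card_congr (Equiv.ofBijective (fun c : C => (⟨hPar chevD4 E c.1, c.1, c.2, rfl⟩ : T₀))
        ⟨fun c c' h => ?_, fun y => ?_⟩)).symm
      · have h' : hPar chevD4 E (c.1 * c'.1⁻¹) = 1 := by
          rw [map_mul, map_inv, show hPar chevD4 E c.1 = hPar chevD4 E c'.1 from congrArg Subtype.val h,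
            mul_inv_cancel]
        exact Subtype.ext (mul_inv_eq_one.1 (hhalf _ ((hC _).1 (C.mul_mem c.2 (C.inv_mem c'.2))).1 h'))
      · obtain ⟨c, hc', he⟩ := y.2
        exact ⟨⟨c, hc'⟩, Subtype.ext he⟩
    let mk : ↥M0 × ↥M0 → Fin chevD4.rank → Eˣ := fun p j => if j.val = 1 then p.2.1 else p.1.1
    have hmk : ∀ p, mk p ∈ C := fun p => by
      refine (hC _).2 ⟨funext fun j => ?_, funext fun j => ?_⟩
      · show mk p j ^ N = 1
        simp only [mk]
        split_ifs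
        · exact p.2.2
        · exact p.1.2
      · show Units.map φ.toRingHom.toMonoidHom (mk p (CfsgLib.Twisted.preNode sym_test j)) = mk p j
        obtain ⟨n2, n3, n0, n1⟩ := node_pre
        obtain ⟨j, hj⟩ := j
        have hj' : j < 4 := hj
        interval_cases j <;> simp only [n0, n1, n2, n3, mk] <;>
          first
            | exact hfr _ p.1.2
            | exact hfr _ p.2.2
    rw [hinj]
    refine (Nat.card_congr (Equiv.ofBijective (fun p => (⟨mk p, hmk p⟩ : C)) ⟨fun p p' h => ?_, ?_⟩)).symm.trans ?_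
    · have e' := congrArg Subtype.val h
      exact Prod.ext (Subtype.ext (congrFun e' ⟨0, by decide⟩)) (Subtype.ext (congrFun e' ⟨1, by decide⟩))
    · rintro ⟨c, hc'⟩
      obtain ⟨hcN, -⟩ := (hC c).1 hc'
      obtain ⟨o2, o3⟩ := horb c hc'
      refine ⟨(⟨c ⟨0, by decide⟩, congrFun hcN _⟩, ⟨c ⟨1, by decide⟩, congrFun hcN _⟩),
        Subtype.ext (funext fun j => ?_)⟩
      obtain ⟨j, hj⟩ := j
      have hj' : j < 4 := hj
      interval_cases j
      · rfl
      · rfl
      · exact o2.symm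
      · exact o3.symm
    · rw [Nat.card_prod, hM0, pow_two]
  have hidx : ¬ 5 * Nat.card T₀ ∣ Nat.card ↥(twistedD4 E Q) := by
    have h21 : Q ^ 2 - 1 = (Q - 1) * (Q + 1) := by
      zify [Nat.one_le_pow 2 Q (by omega), show 1 ≤ Q by omega]; ring
    have h61 : Q ^ 6 - 1 = (Q - 1) * (Q ^ 5 + Q ^ 4 + Q ^ 3 + Q ^ 2 + Q + 1) := by
      zify [Nat.one_le_pow 6 Q (by omega), show 1 ≤ Q by omega]; ring
    rw [card_group_twisted hQp hE, hT0, h21, h61, hQe]
    intro h
    rw [show Q ^ 12 * (N * e * (Q + 1)) * (N * e * (Q ^ 5 + Q ^ 4 + Q ^ 3 + Q ^ 2 + Q + 1)) * (Q ^ 8 + Q ^ 4 + 1) =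
      N ^ 2 * (e * e * (Q ^ 12 * (Q + 1) * (Q ^ 5 + Q ^ 4 + Q ^ 3 + Q ^ 2 + Q + 1) * (Q ^ 8 + Q ^ 4 + 1))) by ring,
      mul_comm 5, Nat.mul_dvd_mul_iff_left (by positivity)] at h
    rcases hr.dvd_mul.1 h with h' | h'
    · rcases hr.dvd_mul.1 h' with h'' | h'' <;> exact he5 h''
    · rw [← ZMod.natCast_eq_zero_iff] at h'
      push_cast at h'
      rw [hQ5] at h'
      norm_num at h'
      exact thirty_six h'
  obtain ⟨a', t, ha5, hat⟩ := exists_five_square
  have hle : twistedD4 E Q ≤ chevD4.group E := CfsgLib.ChevReg.D4.twisted_le_group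
  obtain ⟨π, hπ, y, ⟨c, hc', rfl⟩, hy5, hy1, hw⟩ := exists_eigen CfsgLib.Chev.D4.checked
    CfsgLib.Twisted.D4.comm_one (twistedD4 E Q) hle T₀ hexp hmem hidx ha5
    (by rw [nat_card_alternatingGroup, Nat.card_fin]; decide) hat (H.map θ) (f.comp eH.symm.toMonoidHom) hf'
  have hc5 : c ^ 5 = 1 := hhalf _ (by rw [← pow_mul, mul_comm, pow_mul, ((hC c).1 hc').1, one_pow])
    (by rw [map_pow]; exact hy5)
  have hc1 : c ≠ 1 := fun h => hy1 (by rw [h, map_one])
  obtain ⟨η, x, hη, hx0, hx⟩ := exists_exponents hc5 hc1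
  have hinj5 : ∀ i j, c i = c j → x i = x j := fun i j h => by
    rw [hx, hx] at h
    have h2 := pow_eq_pow_iff_modEq.1 h
    rw [hη, ← ZMod.natCast_eq_natCast_iff, ZMod.natCast_rightInverse, ZMod.natCast_rightInverse] at h2
    exact h2
  obtain ⟨o2, o3⟩ := horb c hc'
  have hform : x = (![x ⟨0, by decide⟩, x ⟨1, by decide⟩, x ⟨0, by decide⟩, x ⟨0, by decide⟩] :
      Fin chevD4.rank → ZMod 5) := by
    funext j
    obtain ⟨j, hj⟩ := j
    have hj' : j < 4 := hj
    interval_cases j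
    · rfl
    · rfl
    · exact hinj5 _ _ o2
    · exact hinj5 _ _ o3
  have hsum := sumsZero_of_eigen CfsgLib.Chev.D4.checked hπ hη (hPar_exponents hη hx) hw [2]
  rw [hform] at hsum
  obtain ⟨z0, z1⟩ := no_eigen_exp _ _ hsum
  refine hx0 ?_
  rw [hform, z0, z1]
  funext j
  obtain ⟨j, hj⟩ := j
  have hj' : j < 4 := hj
  interval_cases j <;> rfl

theorem no_alt_eight' {K : Type*} [Field K] [Fintype K] {q : ℕ} (hqp : IsPrimePow q)
    (hq4 : q % 4 = 1) (hK : Fintype.card K = q ^ 3) (H : Subgroup ↥(twistedD4 K q))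
    (f : H →* alternatingGroup (Fin 8)) (hf : Function.Surjective f) : False := by
  classical
  haveI : Fact (Nat.Prime 2) := ⟨Nat.prime_two⟩
  have hc := CfsgLib.Chev.D4.checked
  have hq1 : 1 < q := hqp.one_lt
  obtain ⟨φ, hφ⟩ := exists_frob hqp three_ne_zero hK
  set v := (q - 1).factorization 2
  set e := (q - 1) / 2 ^ v with he
  have hve : q - 1 = 2 ^ v * e := (Nat.ordProj_mul_ordCompl_eq_self (q - 1) 2).symm
  have he2 : ¬ 2 ∣ e := Nat.not_dvd_ordCompl Nat.prime_two (by omega)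
  set Dg : Subgroup ↥(twistedD4 K q) := (chevD4.diagonalSubgroup K).subgroupOf (twistedD4 K q)
  have hDcard : Nat.card Dg = (q - 1) ^ 2 * (q ^ 2 + q + 1) := by
    rw [← card_diagonal_twisted (K := K) hqp hK]
    exact Nat.card_congr (Equiv.mk (fun x => ⟨(x.1 : GL chevD4.Idx K), x.2, x.1.2⟩)
      (fun y => ⟨⟨y.1, y.2.2⟩, y.2.1⟩) (fun _ => rfl) fun _ => rfl)
  obtain ⟨T₁⟩ : Nonempty (Sylow 2 Dg) := inferInstance
  set T : Subgroup ↥(twistedD4 K q) := (T₁ : Subgroup Dg).map Dg.subtype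
  have hTle : T ≤ Dg := Subgroup.map_subtype_le _
  have hodd : ¬ 2 ∣ q ^ 2 + q + 1 := by
    simp [Nat.dvd_iff_mod_eq_zero, Nat.pow_mod, Nat.add_mod, show q % 2 = 1 by omega]
  have hTcard : Nat.card T = 2 ^ (2 * v) := by
    rw [Subgroup.card_map_of_injective Dg.subtype_injective, Sylow.card_eq_multiplicity, hDcard,
      Nat.factorization_mul (by simp; omega) (by omega), Finsupp.add_apply,
      Nat.factorization_eq_zero_of_not_dvd hodd, add_zero, Nat.factorization_pow]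
    simp [v]
  have hrange : ∀ x ∈ Dg, ∃ y : Fin chevD4.rank → Kˣ,
      (x : GL chevD4.Idx K) = torus chevD4 CfsgLib.Chev.D4.tabs K y := fun x hx => by
    obtain ⟨y, hy⟩ := (mem_diagonal hc).1 hx
    exact ⟨_, hy.symm⟩
  refine no_alt_eight T (T₁.isPGroup'.map _) ?_ ?_ ?_ H f hf
  · intro hdvd
    rw [hTcard, card_group_twisted hqp hK] at hdvd
    obtain ⟨o, ho⟩ : ∃ o, q + 1 = 2 * (2 * o + 1) := ⟨q / 4, by omega⟩
    have h1 : q ^ 2 - 1 = (q - 1) * (q + 1) := by
      rw [mul_comm, ← Nat.sq_sub_sq]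
    have h3 : q ^ 6 - 1 = (q ^ 2 - 1) * (q ^ 4 + q ^ 2 + 1) := by
      zify [Nat.one_le_pow 6 q (by omega), Nat.one_le_pow 2 q (by omega)]; ring
    rw [h3, h1, ho, hve, show q ^ 12 * (2 ^ v * e * (2 * (2 * o + 1))) *
        (2 ^ v * e * (2 * (2 * o + 1)) * (q ^ 4 + q ^ 2 + 1)) * (q ^ 8 + q ^ 4 + 1) =
        4 * 2 ^ (2 * v) * (q ^ 12 * (q ^ 4 + q ^ 2 + 1) * (q ^ 8 + q ^ 4 + 1) * (e * e) *
          ((2 * o + 1) * (2 * o + 1))) by
      rw [two_mul v, pow_add]; ring, show 8 * 2 ^ (2 * v) = 4 * 2 ^ (2 * v) * 2 by ring,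
      Nat.mul_dvd_mul_iff_left (by positivity)] at hdvd
    have heo : e % 2 = 1 := by omega
    revert hdvd
    simp [Nat.dvd_iff_mod_eq_zero, Nat.mul_mod, Nat.pow_mod, Nat.add_mod, show q % 2 = 1 by omega, heo]
  · intro x hx y hy
    obtain ⟨x', hx'⟩ := hrange x (hTle hx)
    obtain ⟨y', hy'⟩ := hrange y (hTle hy)
    refine Subtype.ext ?_
    rw [Subgroup.coe_mul, Subgroup.coe_mul, hx', hy', ← map_mul, ← map_mul, mul_comm]
  · intro B hB
    let U : Kˣ →* Kˣ := Units.map φ.toRingHom.toMonoidHom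
    have hU3 : ∀ u, U (U (U u)) = u := fun u => Units.ext (iterate_frob_card hφ hK (u : K))
    let C2 : Subgroup Kˣ := MonoidHom.eqLocus U (MonoidHom.id _)
    let c : (Kˣ × ↥C2) →* (Fin chevD4.rank → Kˣ) :=
      { toFun := fun z j => if j.val = 1 then z.2.1 else if j.val = 0 then z.1 else if j.val = 2 then U z.1 else U (U z.1)
        map_one' := by funext j; simp
        map_mul' := fun z w => by funext j; simp only [Pi.mul_apply]; split_ifs <;> simp }
    have hcfix : ∀ z, tauPar sym_test φ (c z) = c z := fun z => by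
      funext j
      show U (c z (CfsgLib.Twisted.preNode sym_test j)) = c z j
      obtain ⟨n2, n3, n0, n1⟩ := node_pre
      obtain ⟨j, hj⟩ := j
      have hj' : j < 4 := hj
      interval_cases j
      · rw [n0]; exact hU3 z.1
      · rw [n1]; exact z.2.2
      · rw [n2]; rfl
      · rw [n3]; rfl
    let φ' : (Kˣ × ↥C2) →* ↥(twistedD4 K q) :=
      (((torus chevD4 CfsgLib.Chev.D4.tabs K).comp (hPar chevD4 K)).comp c).codRestrict _ fun z => by
        rw [twistedD4_eq hK φ hφ]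
        exact torus_fixPar_mem hc sym_test φ orbit_ok sym_nodeTest sym_bnTest ((mem_fixPar).2 (hcfix z))
    refine exists_pair_closure φ' fun x hx => ?_
    have hxd : (x : GL chevD4.Idx K) ∈ chevD4.diagonalSubgroup K ⊓ CfsgLib.Twisted.twistGrp sym_test φ :=
      Subgroup.mem_inf.2 ⟨hTle (hB hx), by rw [← twistedD4_eq hK φ hφ]; exact x.2⟩
    rw [CfsgLib.Twisted.diag_inf_twist hc sym_test φ orbit_ok sym_nodeTest sym_bnTest
      (CfsgLib.Twisted.exists_ker_three hc sym_test φ (CfsgLib.Twisted.D4.tau_three hK φ hφ)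
        CfsgLib.Twisted.D4.ker_sq)] at hxd
    obtain ⟨y, hy, hyx⟩ := hxd
    have hfy : ∀ j, U (y (CfsgLib.Twisted.preNode sym_test j)) = y j := fun j => congrFun (mem_fixPar.1 hy) j
    obtain ⟨n2, n3, n0, n1⟩ := node_pre
    refine ⟨(y ⟨0, by decide⟩, ⟨y ⟨1, by decide⟩, ?_⟩), Subtype.ext (Eq.trans ?_ hyx)⟩
    · show U (y ⟨1, by decide⟩) = y ⟨1, by decide⟩
      have := hfy (⟨1, by decide⟩ : Fin chevD4.rank)
      rwa [n1] at this
    · refine congrArg (fun w => torus chevD4 CfsgLib.Chev.D4.tabs K (hPar chevD4 K w)) (funext fun j => ?_)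
      obtain ⟨j, hj⟩ := j
      have hj' : j < 4 := hj
      have h := hfy ⟨j, hj⟩
      interval_cases j
      · rfl
      · rfl
      · rw [n2] at h; exact h
      · rw [n3] at h
        have h' := hfy ⟨2, by decide⟩
        rw [n2] at h'
        rw [← h'] at h; exact h

theorem result {K : Type*} [Field K] [Fintype K] (p a : ℕ) [Fact p.Prime] [CharP K p]
    (ha : 1 ≤ a) (hK : Fintype.card K = (p ^ a) ^ 3) (r : ℕ) (H : Subgroup ↥(Cfsg.Lie.twistedD4 K (p ^ a))) (N : Subgroup ↥H) [N.Normal]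
    (h : Nonempty (↥H ⧸ N ≃* ↥(alternatingGroup (Fin r)))) :
    r ≤ 6 + (if p = 5 then 1 else 0) := by
  by_contra hlt
  split at hlt
  · rename_i h5
    subst h5
    obtain ⟨H', f, hf⟩ := exists_alt_section h (m := 8) (by omega)
    exact no_alt_eight' ((Nat.prime_five).isPrimePow.pow (by omega))
      (by rw [Nat.pow_mod]; simp) hK H' f hf
  · rename_i h5
    obtain ⟨H', f, hf⟩ := exists_alt_section h (m := 7) (by omega)
    exact no_alt_seven p ((Fact.out : p.Prime).isPrimePow.pow (by omega))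
      (fun hd => h5 ((Nat.prime_dvd_prime_iff_eq Nat.prime_five Fact.out).1
        (Nat.prime_five.dvd_of_dvd_pow hd)).symm) hK H' f hf

end Cfsg.Agent.S2660
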