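import Cfsg.Prelude.Def_LieTwisted
import Cfsg.Agent.Lib.Twisted.F4Bruhat
import Cfsg.Agent.Lib.AltSection.Extend
import Cfsg.Agent.Lib.AltSection.RootSums

/-!
# S2661: alternating sections of the large Ree groups

After an extension of degree three the order of the field is congruent to one modulo seven and the
Sylow seven-subgroup lies in the split torus.  A seven-cycle of `A₇` conjugate to its square would give a
fixed torus element of order seven mapped to its square by a Weyl element; the quadratic invariant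
of the roots excludes this.
-/

set_option autoImplicit false
set_option linter.unusedSectionVars false

open scoped MatrixGroups

namespace Cfsg.Agent.S2661

open Cfsg.Lie CfsgLib.Chev CfsgLib.ChevCent CfsgLib.AltSection CfsgLib.ReeF4
open CfsgLib.ChevField (glMap glMap_injective glMap_elX)

/-- the embedding of twisted groups given by an extension of fields -/
theorem glMap_twisted {K E : Type*} [Field K] [Field E] (ι : K →+* E) (e e' : ℕ) (he : ∀ t : K, t ^ e' = t ^ e)
    {g : GL chevF4.Idx K} (hg : g ∈ twistedF4 K e) : glMap chevF4 ι g ∈ twistedF4 E e' := by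
  suffices h : twistedF4 K e ≤ (twistedF4 E e').comap (glMap chevF4 ι) from h hg
  rw [twistedF4, ChevalleyDatum.genSubgroup]
  refine (Subgroup.closure_le _).2 ?_
  rintro g ⟨w, hw, hg⟩
  show glMap chevF4 ι g ∈ twistedF4 E e'
  refine Subgroup.subset_closure ⟨w.map fun x => (x.1, ι x.2), ?_, ?_⟩
  · rcases hw with ⟨t, rfl | rfl⟩ | ⟨t, u, rfl | rfl⟩
    · exact Or.inl ⟨ι t, Or.inl (by simp [f4PairWord, ← map_pow, he])⟩
    · exact Or.inl ⟨ι t, Or.inr (by simp [f4PairWord, ← map_pow, he])⟩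
    · exact Or.inr ⟨ι t, ι u, Or.inl (by simp [b2ClassWord, pow_succ, mul_comm 2, pow_mul, ← map_pow, ← map_mul, ← map_add, he])⟩
    · exact Or.inr ⟨ι t, ι u, Or.inr (by simp [b2ClassWord, pow_succ, mul_comm 2, pow_mul, ← map_pow, ← map_mul, ← map_add, he])⟩
  · rw [CfsgLib.ChevField.glMap_coe, hg, CfsgLib.Chevalley.wordMat_map_ringHom]

theorem no_eigen_exp : ∀ a b : ZMod 7,
    sumsZero chevF4 tb 2 [2] (parExp chevF4 (![a, b, 4 * b, 4 * a] : Fin chevF4.rank → ZMod 7)) = true →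
      a = 0 ∧ b = 0 := by decide +kernel

theorem two_ne : (2 : ZMod 7) ≠ 0 := by decide

/-- a seven-cycle conjugate to its square -/
theorem exists_seven_square : ∃ a t : alternatingGroup (Fin 7), orderOf a = 7 ∧ t * a * t⁻¹ = a ^ 2 := by
  haveI : Fact (Nat.Prime 7) := ⟨by norm_num⟩
  refine ⟨⟨Equiv.swap 0 1 * Equiv.swap 1 2 * Equiv.swap 2 3 * Equiv.swap 3 4 * Equiv.swap 4 5 * Equiv.swap 5 6, by
      rw [Equiv.Perm.mem_alternatingGroup]; decide +kernel⟩,
    ⟨Equiv.swap 1 2 * Equiv.swap 2 4 * (Equiv.swap 3 6 * Equiv.swap 6 5), by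
      rw [Equiv.Perm.mem_alternatingGroup]; decide +kernel⟩, orderOf_eq_prime ?_ ?_, ?_⟩
  · decide +kernel
  · decide +kernel
  · decide +kernel

theorem no_alt_seven {K : Type*} [Field K] [Fintype K] {m : ℕ} (hK : Fintype.card K = 2 ^ (2 * m + 1))
    (H : Subgroup ↥(twistedF4 K (2 ^ m))) (f : H →* alternatingGroup (Fin 7)) (hf : Function.Surjective f) :
    False := by
  classical
  haveI : Fact (Nat.Prime 7) := ⟨by norm_num⟩
  haveI : Fact (Nat.Prime 2) := ⟨Nat.prime_two⟩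
  haveI : CharP K 2 := charP_two hK
  let E := FiniteField.Extension K 2 3
  letI : Fintype E := Fintype.ofFinite E
  set M := 3 * m + 1 with hM
  have hE : Fintype.card E = 2 ^ (2 * M + 1) := by
    rw [← Nat.card_eq_fintype_card, FiniteField.natCard_extension, Nat.card_eq_fintype_card, hK, ← pow_mul]
    congr 1; omega
  -- pass to the extension
  have he : ∀ t : K, t ^ 2 ^ M = t ^ 2 ^ m := fun t => by
    rw [show M = (2 * m + 1) + m by omega, pow_add, pow_mul, ← hK, FiniteField.pow_card]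
  let θ : ↥(twistedF4 K (2 ^ m)) →* ↥(twistedF4 E (2 ^ M)) :=
    ((glMap chevF4 (algebraMap K E)).comp (twistedF4 K (2 ^ m)).subtype).codRestrict _
      fun g => glMap_twisted _ _ _ he g.2
  have hθ : Function.Injective θ := fun g g' h => Subtype.ext (glMap_injective _ (congrArg Subtype.val h :))
  let eH := H.equivMapOfInjective θ hθ
  have hf' : Function.Surjective (f.comp eH.symm.toMonoidHom) := hf.comp eH.symm.surjective
  obtain ⟨σ, hσ⟩ := exists_sigma hE
  have hfix := fix_eq hσ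
  -- the arithmetic
  set Q := Fintype.card E with hQ
  have hQ7 : (Q : ZMod 7) = 1 := by
    rw [hE, show 2 * M + 1 = 3 * (2 * m + 1) by omega, pow_mul]
    push_cast
    simp only [show (8 : ZMod 7) = 1 from rfl, one_pow]
  have hpow2 : ((2 ^ M : ℕ) : ZMod 7) = 2 := by
    rw [hM, pow_succ, pow_mul]
    push_cast
    simp only [show (8 : ZMod 7) = 1 from rfl, one_pow, one_mul]
  set k := (Q - 1).factorization 7
  set N := 7 ^ k with hN
  have hQ1 : 1 < Q := hQ ▸ Fintype.one_lt_card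
  obtain ⟨e, hQe, he7⟩ : ∃ e, Q - 1 = N * e ∧ ¬ 7 ∣ e :=
    ⟨(Q - 1) / 7 ^ k, (Nat.ordProj_mul_ordCompl_eq_self (Q - 1) 7).symm, Nat.not_dvd_ordCompl (by norm_num) (by omega)⟩
  -- the parameters
  let C : Subgroup (Fin chevF4.rank → Eˣ) :=
    (powMonoidHom N).ker ⊓ MonoidHom.eqLocus (tauF E M) (MonoidHom.id _)
  let T₀ : Subgroup (Fin chevF4.rank → Eˣ) := C.map (hPar chevF4 E)
  have hC : ∀ c, c ∈ C ↔ c ^ N = 1 ∧ tauF E M c = c := fun c => Iff.rfl
  have hexp : ∀ y ∈ T₀, y ^ 7 ^ k = 1 := by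
    rintro y ⟨c, hc', rfl⟩
    rw [← map_pow, ← hN, ((hC c).1 hc').1, map_one]
  have hmem : ∀ y ∈ T₀, torus chevF4 tb E y ∈ twistedF4 E (2 ^ M) ∧
      torus chevF4 tb E y ∈ chevF4.diagonalSubgroup E := by
    rintro y ⟨c, hc', rfl⟩
    exact ⟨diag_le hσ (Subgroup.mem_inf.2 ⟨hh_mem c, (hh_fixed_iff hσ c).2 ((hC c).1 hc').2⟩), hh_mem c⟩
  have hnode : ∀ j : Fin chevF4.rank, (Fin.rev j).val = 3 - j.val ∧
      rexp (chevF4.simple (Fin.rev j).val) = if 2 ≤ j.val then 2 else 1 := by decide +kernel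
  have hpc : ∀ u : Eˣ, u ^ (2 * 2 ^ M * 2 ^ M) = u := fun u => Units.ext (by
    rw [Units.val_pow_eq_pow_val]; exact pow_cycle hσ (u : E))
  have hT0 : Nat.card T₀ = N ^ 2 := by
    rw [Subgroup.card_map_of_injective hPar_injective]
    let M0 : Subgroup Eˣ := (powMonoidHom N).ker
    have hM0 : Nat.card M0 = N := by
      rw [IsCyclic.card_powMonoidHom_ker, Nat.card_units, Nat.card_eq_fintype_card, ← hQ, hQe,
        Nat.gcd_comm, Nat.gcd_eq_left (dvd_mul_right N e)]
    let mk : ↥M0 × ↥M0 → Fin chevF4.rank → Eˣ := fun p j =>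
      if j.val = 0 then p.1.1 else if j.val = 1 then p.2.1
        else if j.val = 2 then p.2.1 ^ (2 * 2 ^ M) else p.1.1 ^ (2 * 2 ^ M)
    have hmk : ∀ p, mk p ∈ C := fun p => by
      refine (hC _).2 ⟨funext fun j => ?_, funext fun j => ?_⟩
      · show mk p j ^ N = 1
        have h1 : p.1.1 ^ N = 1 := p.1.2
        have h2 : p.2.1 ^ N = 1 := p.2.2
        simp only [mk]
        split_ifs
        · exact h1
        · exact h2
        · rw [← pow_mul, mul_comm, pow_mul, h2, one_pow]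
        · rw [← pow_mul, mul_comm, pow_mul, h1, one_pow]
      · show mk p (Fin.rev j) ^ _ = _
        obtain ⟨j, hj⟩ := j
        obtain ⟨h1, h2⟩ := hnode ⟨j, hj⟩
        have hj' : j < 4 := hj
        rw [h2]
        simp only [mk, h1]
        interval_cases j <;> simp [← pow_mul, hpc]
    refine (Nat.card_congr (Equiv.ofBijective (fun p => (⟨mk p, hmk p⟩ : C)) ⟨fun p p' h => ?_, ?_⟩)).symm.trans ?_
    · have e' := congrArg Subtype.val h
      exact Prod.ext (Subtype.ext (congrFun e' ⟨0, by decide⟩)) (Subtype.ext (congrFun e' ⟨1, by decide⟩))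
    · rintro ⟨c, hc'⟩
      obtain ⟨hcN, hfx⟩ := (hC c).1 hc'
      refine ⟨(⟨c ⟨0, by decide⟩, congrFun hcN _⟩, ⟨c ⟨1, by decide⟩, congrFun hcN _⟩),
        Subtype.ext (funext fun j => ?_)⟩
      obtain ⟨j, hj⟩ := j
      have hj' : j < 4 := hj
      have h := congrFun hfx ⟨j, hj⟩
      obtain ⟨h1, h2⟩ := hnode ⟨j, hj⟩
      change c (Fin.rev ⟨j, hj⟩) ^ _ = _ at h
      rw [h2, show Fin.rev (⟨j, hj⟩ : Fin chevF4.rank) = ⟨3 - j, show 3 - j < 4 by omega⟩ from Fin.ext h1] at h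
      interval_cases j <;> simp [mk] at h ⊢ <;> exact h
    · rw [Nat.card_prod, hM0, pow_two]
  have hidx : ¬ 7 * Nat.card T₀ ∣ Nat.card ↥(twistedF4 E (2 ^ M)) := by
    rw [show twistedF4 E (2 ^ M) = fixF σ from hfix.symm, card_fix hσ, hT0, ← hQ, hQe]
    intro h
    set S := ∑ x : DihedralGroup 8, Q ^ dimI (dihIdx x).1 (dihIdx x).2
    rw [show Q ^ 12 * (N * e) ^ 2 * S = N ^ 2 * (Q ^ 12 * e ^ 2 * S) by ring, mul_comm 7,
      Nat.mul_dvd_mul_iff_left (by positivity), ← ZMod.natCast_eq_zero_iff] at h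
    have hS : (S : ZMod 7) = 2 := by
      simp only [S, Nat.cast_sum, Nat.cast_pow, hQ7, one_pow, Finset.sum_const, Finset.card_univ,
        DihedralGroup.card, nsmul_one]
      rfl
    rw [Nat.cast_mul, Nat.cast_mul, Nat.cast_pow, Nat.cast_pow, hQ7, hS, one_pow, one_mul] at h
    rcases mul_eq_zero.1 h with h' | h'
    · exact he7 ((ZMod.natCast_eq_zero_iff e 7).1 (eq_zero_of_pow_eq_zero h'))
    · exact two_ne h'
  obtain ⟨a, t, ha, hat⟩ := exists_seven_square
  obtain ⟨π, hπ, y, ⟨c, hc', rfl⟩, hy7, hy1, hw⟩ := exists_eigen CfsgLib.ReeF4.hc hcomm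
    (twistedF4 E (2 ^ M)) (hfix.symm.trans_le fixF_le_group) T₀ hexp hmem hidx ha
    (by rw [nat_card_alternatingGroup, Nat.card_fin]; decide) hat (H.map θ) (f.comp eH.symm.toMonoidHom) hf'
  have hc7 : c ^ 7 = 1 := hPar_injective (by rw [map_pow, map_one]; exact hy7)
  have hc1 : c ≠ 1 := fun h => hy1 (by rw [h, map_one])
  obtain ⟨η, x, hη, hx0, hx⟩ := exists_exponents hc7 hc1
  have hfixc := ((hC c).1 hc').2
  have hx2 : ∀ j : Fin chevF4.rank, x j =
      (((rexp (chevF4.simple (Fin.rev j).val) : ℕ) : ZMod 7) * 2) * x (Fin.rev j) := by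
    intro j
    have h := congrFun hfixc j
    change c (Fin.rev j) ^ _ = c j at h
    rw [hx, hx, ← pow_mul] at h
    have h2 := pow_eq_pow_iff_modEq.1 h
    rw [hη, ← ZMod.natCast_eq_natCast_iff, Nat.cast_mul, Nat.cast_mul, hpow2, ZMod.natCast_rightInverse,
      ZMod.natCast_rightInverse] at h2
    rw [← h2]; ring
  have hform : x = (![x ⟨0, by decide⟩, x ⟨1, by decide⟩, 4 * x ⟨1, by decide⟩, 4 * x ⟨0, by decide⟩] :
      Fin chevF4.rank → ZMod 7) := by
    funext j
    obtain ⟨j, hj⟩ := j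
    have hj' : j < 4 := hj
    have h := hx2 ⟨j, hj⟩
    obtain ⟨h1, h2⟩ := hnode ⟨j, hj⟩
    rw [h2, show Fin.rev (⟨j, hj⟩ : Fin chevF4.rank) = ⟨3 - j, show 3 - j < 4 by omega⟩ from Fin.ext h1] at h
    interval_cases j
    · rfl
    · rfl
    · rw [h]; norm_num; rfl
    · rw [h]; norm_num; rfl
  have hsum := sumsZero_of_eigen CfsgLib.ReeF4.hc hπ hη (hPar_exponents hη hx) hw [2]
  rw [hform] at hsum
  obtain ⟨z0, z1⟩ := no_eigen_exp _ _ hsum
  refine hx0 ?_
  rw [hform, z0, z1]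
  funext j
  obtain ⟨j, hj⟩ := j
  have hj' : j < 4 := hj
  interval_cases j <;> rfl

theorem result {K : Type*} [Field K] [Fintype K] {m : ℕ} (hm : 1 ≤ m)
    (hK : Fintype.card K = 2 ^ (2 * m + 1)) (r : ℕ) (H : Subgroup ↥(Cfsg.Lie.twistedF4 K (2 ^ m))) (N : Subgroup ↥H) [N.Normal]
    (h : Nonempty (↥H ⧸ N ≃* ↥(alternatingGroup (Fin r)))) :
    r ≤ 6 := by
  by_contra hlt
  obtain ⟨H', f, hf⟩ := exists_alt_section h (m := 7) (by omega)
  exact no_alt_seven hK H' f hf

end Cfsg.Agent.S2661
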