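import Cfsg.Statements.S2665


set_option autoImplicit false
open scoped MatrixGroups
open Cfsg

namespace Cfsg.Agent.S2665

section
variable {K : Type*} [Field K] [IsAlgClosed K] {q : ℕ} {σ : K →+* K} {n : ℕ}

/-- A `σ`-semilinear injective endomorphism of `K ^ n` has a spanning set of fixed vectors. -/
lemma span_fixed (hq : 1 < q) (hσ : ∀ a, σ a = a ^ q) (T : (Fin n → K) →ₛₗ[σ] (Fin n → K))
    (hT : Function.Injective T) : Submodule.span K {v | T v = v} = ⊤ := by
  classical
  set W := Submodule.span K {v | T v = v}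
  have hroot : ∀ c : K, ∃ t : K, t ^ q + c = t := by
    intro c
    have hd : (Polynomial.X ^ q - Polynomial.X + Polynomial.C c).natDegree = q := by
      rw [Polynomial.natDegree_add_C, Polynomial.natDegree_sub_eq_left_of_natDegree_lt] <;> simp [hq]
    obtain ⟨t, ht⟩ := IsAlgClosed.exists_root (Polynomial.X ^ q - Polynomial.X + Polynomial.C c)
      (fun h => by
        have := Polynomial.natDegree_eq_zero_iff_degree_le_zero.2 h.le
        omega)
    refine ⟨t, ?_⟩
    simp at ht
    linear_combination ht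
  -- `W` is the preimage of itself
  have hpre : ∀ y ∈ W, ∀ c : K, ∃ z ∈ W, T z = c • y := by
    intro y hy
    induction hy using Submodule.span_induction with
    | mem b hb =>
      intro c
      obtain ⟨t, ht⟩ := IsAlgClosed.exists_pow_nat_eq c (show 0 < q by omega)
      refine ⟨t • b, W.smul_mem _ (Submodule.subset_span hb), ?_⟩
      rw [LinearMap.map_smulₛₗ, hσ, ht, show T b = b from hb]
    | zero => exact fun c => ⟨0, W.zero_mem, by simp⟩
    | add u v _ _ hu hv =>
      intro c
      obtain ⟨z, hz, hz'⟩ := hu c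
      obtain ⟨z', hz2, hz2'⟩ := hv c
      exact ⟨z + z', W.add_mem hz hz2, by rw [map_add, hz', hz2', smul_add]⟩
    | smul a u _ hu => intro c; rw [smul_smul]; exact hu _
  have hpre' : ∀ v, T v ∈ W → v ∈ W := by
    intro v hv
    obtain ⟨z, hz, hz'⟩ := hpre _ hv 1
    rw [one_smul] at hz'
    exact hT hz' ▸ hz
  -- solving `T t + y = t` in `W`
  have hsolve : ∀ y ∈ W, ∀ c : K, ∃ z ∈ W, T z + c • y = z := by
    intro y hy
    induction hy using Submodule.span_induction with
    | mem b hb =>
      intro c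
      obtain ⟨t, ht⟩ := hroot c
      refine ⟨t • b, W.smul_mem _ (Submodule.subset_span hb), ?_⟩
      rw [LinearMap.map_smulₛₗ, hσ, show T b = b from hb, ← add_smul, ht]
    | zero => exact fun c => ⟨0, W.zero_mem, by simp⟩
    | add u v _ _ hu hv =>
      intro c
      obtain ⟨z, hz, hz'⟩ := hu c
      obtain ⟨z', hz2, hz2'⟩ := hv c
      refine ⟨z + z', W.add_mem hz hz2, ?_⟩
      conv_rhs => rw [← hz', ← hz2']
      rw [map_add, smul_add]; abel
    | smul a u _ hu => intro c; rw [smul_smul]; exact hu _
  by_contra hne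
  obtain ⟨v, hv⟩ : ∃ v, v ∉ W := by
    by_contra! h
    exact hne (Submodule.eq_top_iff'.2 h)
  let s : ℕ → (Fin n → K) := fun i => T^[i] v
  have hs : ∀ i, T (s i) = s (i + 1) := fun i => (Function.iterate_succ_apply' T i v).symm
  let P : ℕ → Prop := fun m => s m ∈ W ⊔ Submodule.span K (s '' Set.Iio m)
  have hex : ∃ m, P m := by
    by_contra h
    push Not at h
    have hli : LinearIndependent K (fun i : Fin (n + 1) => s i) := by
      have : ∀ m, LinearIndependent K (fun i : Fin m => s i) := by
        intro m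
        induction m with
        | zero => exact linearIndependent_empty_type
        | succ m ih =>
          rw [linearIndependent_fin_succ']
          refine ⟨ih, fun hmem => h m (Submodule.mem_sup_right ?_)⟩
          refine Submodule.span_mono ?_ hmem
          rintro _ ⟨i, rfl⟩
          exact ⟨_, (Fin.castSucc_lt_last i), rfl⟩
      exact this _
    have := hli.fintype_card_le_finrank
    simp at this
  let m := Nat.find hex
  have hm : P m := Nat.find_spec hex
  have hmin : ∀ j < m, ¬ P j := fun j hj => Nat.find_min hex hj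
  obtain ⟨k, hk⟩ : ∃ k, m = k + 1 := by
    refine Nat.exists_eq_succ_of_ne_zero fun h0 => hv ?_
    rw [h0] at hm
    simpa [P, s] using hm
  obtain ⟨w, hw, u, hu, hwu⟩ := Submodule.mem_sup.1 hm
  rw [hk] at hu
  have hIio : s '' Set.Iio (k + 1) = Set.range (fun i : Fin (k + 1) => s i) := by
    ext y
    simp only [Set.mem_image, Set.mem_Iio, Set.mem_range]
    exact ⟨fun ⟨i, hi, e⟩ => ⟨⟨i, hi⟩, e⟩, fun ⟨i, e⟩ => ⟨i, i.2, e⟩⟩
  rw [hIio, Submodule.mem_span_range_iff_exists_fun] at hu
  obtain ⟨a, ha⟩ := hu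
  -- the first coefficient does not vanish
  have ha0 : a 0 ≠ 0 := by
    intro h0
    have hr : ∀ i : Fin k, ∃ b : K, b ^ q = a i.succ := fun i =>
      IsAlgClosed.exists_pow_nat_eq _ (by omega)
    choose b hb using hr
    refine hmin k (by omega) ?_
    have h1 : T (s k - ∑ i : Fin k, b i • s i) = w := by
      rw [map_sub, map_sum, hs, ← hk, ← hwu, ← ha, Fin.sum_univ_succ, h0, zero_smul, zero_add]
      simp only [LinearMap.map_smulₛₗ, hσ, hb, hs, Fin.val_succ]
      abel
    have h2 : s k - ∑ i : Fin k, b i • s i ∈ W := hpre' _ (h1 ▸ hw)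
    rw [show P k ↔ s k ∈ W ⊔ Submodule.span K (s '' Set.Iio k) from Iff.rfl,
      show s k = (s k - ∑ i : Fin k, b i • s i) + ∑ i : Fin k, b i • s i by abel]
    exact Submodule.add_mem_sup h2 (Submodule.sum_mem _ fun i _ =>
      Submodule.smul_mem _ _ (Submodule.subset_span ⟨i, i.2, rfl⟩))
  -- the polynomials giving the coefficients
  let a' : ℕ → K := fun i => if h : i < k + 1 then a ⟨i, h⟩ else 0
  let R : ℕ → Polynomial K := fun i => Nat.rec (Polynomial.C (a' 0) * Polynomial.X ^ q)
    (fun i Pi => Pi ^ q + Polynomial.C (a' (i + 1)) * Polynomial.X ^ q) i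
  have hR : ∀ i, (R i).natDegree = q ^ (i + 1) ∧ (R i).coeff 0 = 0 ∧ (R i).coeff 1 = 0 := by
    intro i
    induction i with
    | zero =>
      show (Polynomial.C (a' 0) * Polynomial.X ^ q).natDegree = _ ∧ _
      have h0 : a' 0 ≠ 0 := by simp only [a', Nat.succ_pos, dite_true]; exact ha0
      refine ⟨by rw [Polynomial.natDegree_C_mul_X_pow q _ h0, pow_one], ?_, ?_⟩
      · show (Polynomial.C (a' 0) * Polynomial.X ^ q).coeff 0 = 0
        rw [Polynomial.coeff_C_mul_X_pow, if_neg (by omega)]
      · show (Polynomial.C (a' 0) * Polynomial.X ^ q).coeff 1 = 0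
        rw [Polynomial.coeff_C_mul_X_pow, if_neg (by omega)]
    | succ i ih =>
      show (R i ^ q + Polynomial.C (a' (i + 1)) * Polynomial.X ^ q).natDegree = _ ∧
        (R i ^ q + Polynomial.C (a' (i + 1)) * Polynomial.X ^ q).coeff 0 = 0 ∧
        (R i ^ q + Polynomial.C (a' (i + 1)) * Polynomial.X ^ q).coeff 1 = 0
      have hXdvd : Polynomial.X ∣ R i := Polynomial.X_dvd_iff.2 ih.2.1
      have hpow : Polynomial.X ^ q ∣ R i ^ q := pow_dvd_pow_of_dvd hXdvd q
      refine ⟨?_, ?_, ?_⟩
      · have hlt : q < q ^ (i + 1) * q := by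
          have : 1 < q ^ (i + 1) := Nat.one_lt_pow (Nat.succ_ne_zero i) hq
          exact lt_mul_of_one_lt_left (by omega) this
        rw [Polynomial.natDegree_add_eq_left_of_natDegree_lt, Polynomial.natDegree_pow, ih.1, pow_succ' q (i + 1)]
        rw [Polynomial.natDegree_pow, ih.1]
        refine lt_of_le_of_lt (Polynomial.natDegree_C_mul_X_pow_le _ _) ?_
        rwa [mul_comm]
      · rw [Polynomial.coeff_add, Polynomial.X_pow_dvd_iff.1 hpow 0 (by omega),
          Polynomial.coeff_C_mul_X_pow, if_neg (by omega), add_zero]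
      · rw [Polynomial.coeff_add, Polynomial.X_pow_dvd_iff.1 hpow 1 hq,
          Polynomial.coeff_C_mul_X_pow, if_neg (by omega), add_zero]
  obtain ⟨S, hS⟩ : Polynomial.X ∣ R k - Polynomial.X :=
    Polynomial.X_dvd_iff.2 (by simp [(hR k).2.1])
  have hbig : 1 < q ^ (k + 1) := Nat.one_lt_pow (Nat.succ_ne_zero k) hq
  have hdeg : (R k - Polynomial.X).natDegree = q ^ (k + 1) := by
    rw [Polynomial.natDegree_sub_eq_left_of_natDegree_lt (by simp [(hR k).1, hbig]), (hR k).1]
  have hS0 : S ≠ 0 := by
    rintro rfl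
    rw [hS, mul_zero, Polynomial.natDegree_zero] at hdeg
    omega
  have hSd : 0 < S.natDegree := by
    rw [hS, Polynomial.natDegree_mul Polynomial.X_ne_zero hS0, Polynomial.natDegree_X] at hdeg
    omega
  obtain ⟨x, hx⟩ := IsAlgClosed.exists_root S (fun h => by
    rw [Polynomial.natDegree_eq_zero_iff_degree_le_zero.2 h.le] at hSd; omega)
  have hx0 : x ≠ 0 := by
    rintro rfl
    have h1 : S.coeff 0 = -1 := by
      have := congrArg (fun P => Polynomial.coeff P 1) hS
      simpa [(hR k).2.2, Polynomial.coeff_X_mul] using this.symm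
    have h2 : S.coeff 0 = 0 := by rw [Polynomial.coeff_zero_eq_eval_zero]; exact hx
    rw [h2] at h1; simp at h1
  have hxk : (R k).eval x = x := by
    have := congrArg (Polynomial.eval x) hS
    rw [Polynomial.eval_mul, show S.eval x = 0 from hx, mul_zero, Polynomial.eval_sub,
      Polynomial.eval_X] at this
    exact sub_eq_zero.1 this
  let c : ℕ → K := fun i => (R i).eval x
  have hc0 : c 0 = a' 0 * x ^ q := by simp [c, R]
  have hcs : ∀ i, c (i + 1) = c i ^ q + a' (i + 1) * x ^ q := by intro i; simp [c, R]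
  set U := ∑ i ∈ Finset.range (k + 1), c i • s i
  -- `T U - U` lies in `W`
  have hTU : T U - U = x ^ q • w := by
    have hwu' : s (k + 1) = w + ∑ i ∈ Finset.range (k + 1), a' i • s i := by
      rw [show s (k + 1) = s m by rw [hk], ← hwu, ← ha, Finset.sum_range]
      refine congrArg (w + ·) ?_
      exact Fintype.sum_congr _ _ fun i => by simp only [a']; rw [dif_pos i.2]
    have hck : c k = x := hxk
    simp only [U, map_sum, LinearMap.map_smulₛₗ, hσ, hs]
    rw [Finset.sum_range_succ (fun i => c i ^ q • s (i + 1)), hck, hwu', smul_add, Finset.smul_sum,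
      Finset.sum_range_succ' (fun i => c i • s i), hc0,
      Finset.sum_range_succ' (fun i => x ^ q • a' i • s i)]
    simp only [hcs, add_smul, Finset.sum_add_distrib, smul_smul, mul_comm (x ^ q)]
    abel
  obtain ⟨t, ht, ht'⟩ := hsolve (x ^ q • w) (W.smul_mem _ hw) 1
  rw [one_smul] at ht'
  have hfix : T (U + t) = U + t := by
    have e : T U = U + x ^ q • w := by rw [← hTU]; abel
    rw [map_add, e]
    nth_rewrite 2 [← ht']
    abel
  have hUW : U ∈ W := by
    have : U + t ∈ W := Submodule.subset_span hfix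
    simpa using W.sub_mem this ht
  refine hmin k (by omega) ?_
  have hsum : U = ∑ i ∈ Finset.range k, c i • s i + x • s k := by
    simp only [U, Finset.sum_range_succ]
    rw [show c k = x from hxk]
  have hmem : x • s k ∈ W ⊔ Submodule.span K (s '' Set.Iio k) := by
    rw [show x • s k = U + -(∑ i ∈ Finset.range k, c i • s i) by rw [hsum]; abel]
    exact Submodule.add_mem_sup hUW (Submodule.neg_mem _ (Submodule.sum_mem _ fun i hi =>
      Submodule.smul_mem _ _ (Submodule.subset_span ⟨i, Finset.mem_range.1 hi, rfl⟩)))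
  exact (Submodule.smul_mem_iff _ hx0).1 hmem

/-- The Lang map of `GL n` is surjective. -/
lemma exists_lang (hq : 1 < q) (σ : K →+* K) (hσ : ∀ a, σ a = a ^ q) (g : GL (Fin n) K) :
    ∃ x : GL (Fin n) K, g = x * (Matrix.GeneralLinearGroup.map σ x)⁻¹ := by
  classical
  let T : (Fin n → K) →ₛₗ[σ] (Fin n → K) :=
    { toFun := fun v => (g : Matrix (Fin n) (Fin n) K).mulVec (σ ∘ v)
      map_add' := fun u v => by
        rw [show σ ∘ (u + v) = σ ∘ u + σ ∘ v by ext i; simp, Matrix.mulVec_add]
      map_smul' := fun c v => by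
        rw [show σ ∘ (c • v) = σ c • (σ ∘ v) by ext i; simp, Matrix.mulVec_smul] }
  have hT : Function.Injective T := by
    intro u v h
    funext i
    have h1 := Matrix.mulVec_injective_iff_isUnit.2 g.isUnit h
    exact σ.injective (congrFun h1 i)
  have hspan := span_fixed hq hσ T hT
  obtain ⟨b, hb, hbspan, hbli⟩ := exists_linearIndependent K {v | T v = v}
  rw [hspan] at hbspan
  let B := Module.Basis.mk hbli (by rw [Subtype.range_coe_subtype, Set.setOf_mem_eq, hbspan])
  have := Module.Finite.finite_basis B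
  let _ := Fintype.ofFinite b
  let e : ↥b ≃ Fin n := Fintype.equivFinOfCardEq (by
    rw [← Module.finrank_eq_card_basis B, Module.finrank_fin_fun])
  let M : Matrix (Fin n) (Fin n) K := Matrix.of fun i j => ((e.symm j : ↥b) : Fin n → K) i
  have hM : IsUnit M := by
    rw [← Matrix.linearIndependent_cols_iff_isUnit]
    show LinearIndependent K (fun j => ((e.symm j : ↥b) : Fin n → K))
    exact hbli.comp _ e.symm.injective
  refine ⟨hM.unit, eq_mul_inv_iff_mul_eq.2 (Units.ext (Matrix.ext fun i j => ?_))⟩
  exact congrFun (hb (e.symm j).2) i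

end


/-- The Lang–Steinberg Theorem for the general linear group. Let `K` be an algebraically closed field of prime characteristic `p`, let `q = p^f` with `f ≥ 1`, and let `σ` be the endomorphism of GL_n(K) raising every matrix entry to the `q`-th power. Then every element `g` of GL_n(K) can be written `g = x · σ(x)⁻¹` for some `x` in GL_n(K): the map `x ↦ x σ(x)⁻¹` is surjective. -/
theorem result {K : Type*} [Field K] [IsAlgClosed K] (p : ℕ) [Fact p.Prime] [CharP K p]
    (f : ℕ) (hf : 1 ≤ f) (n : ℕ) (g : GL (Fin n) K) :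
    ∃ x : GL (Fin n) K, g = x * (Matrix.GeneralLinearGroup.map (iterateFrobenius K p f) x)⁻¹ := by
  classical
  obtain ⟨x, hx⟩ := exists_lang (K := K) (q := p ^ f)
    (Nat.one_lt_pow (by omega) (Fact.out : p.Prime).one_lt) (iterateFrobenius K p f)
    (fun a => iterateFrobenius_def p f a) g
  exact ⟨x, hx⟩

end Cfsg.Agent.S2665
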