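import Cfsg.Statements.S2669
import Cfsg.Agent.Lib.Shintani.Basic

set_option autoImplicit false
open Cfsg

namespace Cfsg.Agent.S2669

/-- Shintani descent preserves numbers of fixed points on coset spaces (abstract form). Let `σ` be an automorphism of a group `X` and `e ≥ 1`; write `G` for the fixed points of `σᵉ` and `H` for the fixed points of `σ`, and assume `G` is finite. Let `Y` be a `σ`-stable subgroup of `X` on which the maps `a ↦ a σ(a)⁻¹` and `a ↦ a σᵉ(a)⁻¹` are surjective (as for a closed connected `σ`-stable subgroup of an algebraic group). Let `g ∈ G`, let `a ∈ X` satisfy `g = a σ(a)⁻¹` and put `x = σᵉ(a)⁻¹ a` (the Shintani image, an element of `H`). The element `g σ` of the semidirect product acts on the cosets of `Y ∩ G` in `G` by `k (Y ∩ G) ↦ g σ(k) (Y ∩ G)`, fixing that coset exactly when `k⁻¹ g σ(k) ∈ Y`; and `x` fixes the coset `h (Y ∩ H)` of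 `H` exactly when `h⁻¹ x h ∈ Y`. Then the two numbers of fixed cosets agree; in cross-multiplied form, `#{k ∈ G : k⁻¹ g σ(k) ∈ Y} · |Y ∩ H| = #{h ∈ H : h⁻¹ x h ∈ Y} · |Y ∩ G|`. -/
theorem result {X : Type*} [Group X] (σ : MulAut X) (e : ℕ) (he : 1 ≤ e)
    [Finite ↥((MulEquiv.toMonoidHom (σ ^ e)).eqLocus (MonoidHom.id X))]
    (Y : Subgroup X) (hY : ∀ y : X, y ∈ Y ↔ σ y ∈ Y)
    (hYL : ∀ y ∈ Y, ∃ a ∈ Y, y = a * (σ a)⁻¹) (hYLe : ∀ y ∈ Y, ∃ a ∈ Y, y = a * ((σ ^ e) a)⁻¹)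
    (g : X) (hg : g ∈ (MulEquiv.toMonoidHom (σ ^ e)).eqLocus (MonoidHom.id X)) (a : X) (ha : g = a * (σ a)⁻¹) :
    Nat.card {k : ↥((MulEquiv.toMonoidHom (σ ^ e)).eqLocus (MonoidHom.id X)) // (k : X)⁻¹ * g * σ k ∈ Y} *
        Nat.card ↥(Y ⊓ (MulEquiv.toMonoidHom σ).eqLocus (MonoidHom.id X)) =
      Nat.card {h : ↥((MulEquiv.toMonoidHom σ).eqLocus (MonoidHom.id X)) // (h : X)⁻¹ * (((σ ^ e) a)⁻¹ * a) * h ∈ Y} *
        Nat.card ↥(Y ⊓ (MulEquiv.toMonoidHom (σ ^ e)).eqLocus (MonoidHom.id X)) := by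
  classical
  set x := ((σ ^ e) a)⁻¹ * a with hx
  let G := (MulEquiv.toMonoidHom (σ ^ e)).eqLocus (MonoidHom.id X)
  let H := (MulEquiv.toMonoidHom σ).eqLocus (MonoidHom.id X)
  let A := {k : ↥G // (k : X)⁻¹ * g * σ k ∈ Y}
  let B := {h : ↥H // (h : X)⁻¹ * x * h ∈ Y}
  -- pairs covering both sides
  let P := {p : X × X // (σ ^ e) p.1 = p.1 ∧ p.2 ∈ Y ∧ p.1⁻¹ * g * σ p.1 = p.2 * (σ p.2)⁻¹}
  have hpow : ∀ (m : ℕ) (y : X), y ∈ Y → (σ ^ m) y ∈ Y := by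
    intro m y hy
    induction m with
    | zero => simpa using hy
    | succ m ih => rw [CfsgLib.Shintani.pow_succ_apply]; exact (hY _).1 ih
  have hC : ∀ p : P, σ (a⁻¹ * p.1.1 * p.1.2) = a⁻¹ * p.1.1 * p.1.2 := by
    intro p
    have h1 : σ p.1.1 = g⁻¹ * p.1.1 * (p.1.2 * (σ p.1.2)⁻¹) := by rw [← p.2.2.2]; group
    rw [map_mul, map_mul, map_inv, h1, show g⁻¹ = σ a * a⁻¹ by rw [ha]; group]
    group
  have hD : ∀ p : P, ((σ ^ e) p.1.2)⁻¹ * p.1.2 =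
      (a⁻¹ * p.1.1 * p.1.2)⁻¹ * x * (a⁻¹ * p.1.1 * p.1.2) := by
    intro p
    have h1 := CfsgLib.Shintani.pow_fix_of_fix σ (hC p) e
    rw [map_mul, map_mul, map_inv, p.2.1] at h1
    calc ((σ ^ e) p.1.2)⁻¹ * p.1.2
        = (((σ ^ e) a)⁻¹ * p.1.1 * (σ ^ e) p.1.2)⁻¹ * x * (a⁻¹ * p.1.1 * p.1.2) := by
          rw [hx]; group
      _ = _ := by rw [h1]
  let fA : P → A := fun p => ⟨⟨p.1.1, p.2.1⟩, by
    show p.1.1⁻¹ * g * σ p.1.1 ∈ Y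
    rw [p.2.2.2]
    exact Y.mul_mem p.2.2.1 (Y.inv_mem ((hY _).1 p.2.2.1))⟩
  let fB : P → B := fun p => ⟨⟨a⁻¹ * p.1.1 * p.1.2, hC p⟩, by
    show (a⁻¹ * p.1.1 * p.1.2)⁻¹ * x * (a⁻¹ * p.1.1 * p.1.2) ∈ Y
    rw [← hD p]
    exact Y.mul_mem (Y.inv_mem (hpow _ _ p.2.2.1)) p.2.2.1⟩
  have key1 : ∀ k : A, ∃ y ∈ Y, (k.1 : X)⁻¹ * g * σ k.1 = y * (σ y)⁻¹ := fun k => hYL _ k.2
  choose y₁ hy₁Y hy₁ using key1
  have key2 : ∀ h : B, ∃ y ∈ Y, ((σ ^ e) y)⁻¹ * y = (h.1 : X)⁻¹ * x * h.1 := by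
    intro h
    obtain ⟨c, hcY, hc⟩ := hYLe _ (Y.inv_mem h.2)
    refine ⟨c⁻¹, Y.inv_mem hcY, ?_⟩
    rw [← inv_inv ((h.1 : X)⁻¹ * x * h.1), hc, map_inv]; group
  choose y₂ hy₂Y hy₂ using key2
  let E₁ : A × ↥(Y ⊓ H) ≃ P :=
    { toFun := fun p => ⟨((p.1.1 : X), y₁ p.1 * (p.2 : X)), by
        refine ⟨p.1.1.2, Y.mul_mem (hy₁Y _) p.2.2.1, ?_⟩
        have hc : σ (p.2 : X) = p.2 := p.2.2.2
        show _ = y₁ p.1 * (p.2 : X) * (σ (y₁ p.1 * (p.2 : X)))⁻¹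
        rw [map_mul, hc, hy₁]; group⟩
      invFun := fun p => (fA p, ⟨(y₁ (fA p))⁻¹ * p.1.2, by
          refine ⟨Y.mul_mem (Y.inv_mem (hy₁Y _)) p.2.2.1, ?_⟩
          have h1 := (hy₁ (fA p)).symm.trans p.2.2.2
          generalize y₁ _ = y at h1 ⊢
          show σ (y⁻¹ * p.1.2) = y⁻¹ * p.1.2
          have h2 : σ p.1.2 = σ y * y⁻¹ * p.1.2 := by
            calc σ p.1.2 = (p.1.2 * (σ p.1.2)⁻¹)⁻¹ * p.1.2 := by group
              _ = _ := by rw [← h1]; group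
          rw [map_mul, map_inv, h2]; group⟩)
      left_inv := fun p => Prod.ext rfl (Subtype.ext (inv_mul_cancel_left (y₁ p.1) (p.2 : X)))
      right_inv := fun p => Subtype.ext (Prod.ext rfl (mul_inv_cancel_left _ _)) }
  let E₂ : B × ↥(Y ⊓ G) ≃ P :=
    { toFun := fun p => ⟨(a * (p.1.1 : X) * ((p.2 : X) * y₂ p.1)⁻¹, (p.2 : X) * y₂ p.1), by
        have hc : (σ ^ e) (p.2 : X) = p.2 := p.2.2.2
        have hh : σ (p.1.1 : X) = p.1.1 := p.1.1.2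
        refine ⟨?_, Y.mul_mem p.2.2.1 (hy₂Y _), ?_⟩
        · show (σ ^ e) _ = _
          rw [map_mul, map_mul, map_inv, map_mul, hc, CfsgLib.Shintani.pow_fix_of_fix σ hh]
          have h2 : (σ ^ e) (y₂ p.1) = y₂ p.1 * ((p.1.1 : X)⁻¹ * x * p.1.1)⁻¹ := by
            rw [← hy₂]; group
          rw [h2, CfsgLib.Shintani.pow_apply_eq σ hx.symm]; group
        · show (a * (p.1.1 : X) * ((p.2 : X) * y₂ p.1)⁻¹)⁻¹ * g *
              σ (a * (p.1.1 : X) * ((p.2 : X) * y₂ p.1)⁻¹) = _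
          rw [map_mul σ, map_mul σ, map_inv σ, hh, ha]; group⟩
      invFun := fun p => (fB p, ⟨p.1.2 * (y₂ (fB p))⁻¹, by
          refine ⟨Y.mul_mem p.2.2.1 (Y.inv_mem (hy₂Y _)), ?_⟩
          have h2 := (hy₂ (fB p)).trans (hD p).symm
          generalize y₂ _ = y at h2 ⊢
          show (σ ^ e) (p.1.2 * y⁻¹) = p.1.2 * y⁻¹
          rw [map_mul, map_inv]
          calc (σ ^ e) p.1.2 * ((σ ^ e) y)⁻¹
              = (σ ^ e) p.1.2 * (((σ ^ e) y)⁻¹ * y) * y⁻¹ := by group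
            _ = _ := by rw [h2]; group⟩)
      left_inv := fun p => by
        have e1 : a⁻¹ * (a * (p.1.1 : X) * ((p.2 : X) * y₂ p.1)⁻¹) * ((p.2 : X) * y₂ p.1)
            = p.1.1 := by group
        have e2 : ∀ q : P, a⁻¹ * q.1.1 * q.1.2 = (p.1.1 : X) → fB q = p.1 :=
          fun q h => Subtype.ext (Subtype.ext h)
        refine Prod.ext (e2 _ e1) (Subtype.ext ?_)
        show (p.2 : X) * y₂ p.1 * (y₂ _)⁻¹ = p.2
        rw [e2 _ e1]; group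
      right_inv := fun p => by
        refine Subtype.ext (Prod.ext ?_ ?_)
        · show a * (a⁻¹ * p.1.1 * p.1.2) * (p.1.2 * (y₂ (fB p))⁻¹ * y₂ (fB p))⁻¹ = p.1.1
          group
        · show p.1.2 * (y₂ (fB p))⁻¹ * y₂ (fB p) = p.1.2
          group }
  show Nat.card A * Nat.card ↥(Y ⊓ H) = Nat.card B * Nat.card ↥(Y ⊓ G)
  calc _ = Nat.card P := by rw [← Nat.card_prod]; exact Nat.card_congr E₁
    _ = _ := by rw [← Nat.card_prod]; exact (Nat.card_congr E₂).symm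

end Cfsg.Agent.S2669
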