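import Cfsg.Statements.S2671
import Cfsg.Agent.Lib.RootCount.Unitary

set_option autoImplicit false
open Cfsg

namespace Cfsg.Agent.S2671

/-- Number of conjugacy classes of elements of odd prime order r in the general unitary group GU_n(q), for r not dividing q(q + 1): let i be the multiplicative order of q modulo r, b = i if i is odd and b = i/2 if i is even, and s = (r − 1)/b. If i ≢ 2 (mod 4) the eigenvalue orbits pair off into dual pairs of totally isotropic blocks and there are C(⌊n/(2b)⌋ + s/2, s/2) − 1 classes; if i ≡ 2 (mod 4) each orbit gives a non-degenerate block of dimension i/2 and there are C(⌊2n/i⌋ + s, s) − 1 classes. -/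
theorem result {K : Type*} [Field K] [Fintype K] {p q n r i b s : ℕ} [Fact p.Prime] [CharP K p] (hK : Fintype.card K = q ^ 2) (hr : r.Prime) (hr2 : r ≠ 2) (hrp : r ≠ p) (hi : i = orderOf (q : ZMod r)) (hi2 : i ≠ 2) (hb : b = if Odd i then i else i / 2) (hs : s * b = r - 1) : Nat.card {C : ConjClasses ↥(Cfsg.GU n K q) // ∃ g : ↥(Cfsg.GU n K q), ConjClasses.mk g = C ∧ orderOf g = r} = if i % 4 = 2 then Nat.choose (2 * n / i + s) s - 1 else Nat.choose (n / (2 * b) + s / 2) (s / 2) - 1 := by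
  classical
  have : Fact r.Prime := ⟨hr⟩
  have : NeZero (r : K) := ⟨by
    rw [Ne, CharP.cast_eq_zero_iff K p, Nat.prime_dvd_prime_iff_eq Fact.out hr]
    exact Ne.symm hrp⟩
  have hq : (q : ZMod r) ≠ 0 := by
    rw [Ne, CharP.cast_eq_zero_iff (ZMod r) r]
    intro hd
    obtain ⟨a, hp, ha⟩ := FiniteField.card K p
    have : r ∣ p ^ (a : ℕ) := ha ▸ hK ▸ hd.trans (dvd_pow_self q two_ne_zero)
    exact hrp ((Nat.prime_dvd_prime_iff_eq hr hp).1 (hr.dvd_of_dvd_pow this))
  let x : ZMod r := (q : ZMod r)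
  have hi0 : i ≠ 0 := by
    rw [hi, ← Nat.pos_iff_ne_zero, orderOf_pos_iff]
    exact isOfFinOrder_iff_pow_eq_one.2 ⟨r - 1, by have := hr.two_le; omega, ZMod.pow_card_sub_one_eq_one hq⟩
  have hdvd : orderOf (-(q : ZMod r)) ∣ r - 1 :=
    orderOf_dvd_of_pow_eq_one (ZMod.pow_card_sub_one_eq_one (neg_ne_zero.2 hq))
  by_cases h4 : i % 4 = 2
  · obtain ⟨k, rfl⟩ : ∃ k, i = 2 * k := ⟨i / 2, by omega⟩
    have hk : Odd k := Nat.odd_iff.2 (by omega)
    have hord : orderOf (-(q : ZMod r)) = k := by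
      rw [CfsgLib.RootCount.orderOf_neg_of_even hr2 _ hi.symm (by omega), if_pos hk]
    rw [if_neg (Nat.not_odd_iff_even.2 ⟨k, two_mul k⟩), Nat.mul_div_cancel_left _ two_pos] at hb
    subst hb
    rw [if_pos h4, CfsgLib.RootCount.card_classes_gu hK hq hord.symm hs, Nat.mul_div_mul_left _ _ two_pos]
  · have hord : orderOf (-(q : ZMod r)) = 2 * b := by
      rcases Nat.even_or_odd' i with ⟨k, rfl | rfl⟩
      · rw [CfsgLib.RootCount.orderOf_neg_of_even hr2 _ hi.symm (by omega),
          if_neg (Nat.not_odd_iff_even.2 (Nat.even_iff.2 (by omega))), hb,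
          if_neg (Nat.not_odd_iff_even.2 ⟨k, two_mul k⟩), Nat.mul_div_cancel_left _ two_pos]
      · rw [CfsgLib.RootCount.orderOf_neg_of_odd hr2 _ (hi ▸ odd_two_mul_add_one k), ← hi, hb,
          if_pos (odd_two_mul_add_one k)]
    obtain ⟨c, hc⟩ := hdvd
    rw [hord] at hc
    have hs2 : s / 2 * (2 * b) = r - 1 := by
      have hb0 : 0 < b := by
        rcases Nat.eq_zero_or_pos b with h | h
        · have := hr.two_le; rw [h] at hc; simp at hc; omega
        · exact h
      have : s = 2 * c := Nat.eq_of_mul_eq_mul_right hb0 (by rw [hs, hc]; ring)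
      rw [this, Nat.mul_div_cancel_left _ two_pos, hc]; ring
    rw [if_neg h4, CfsgLib.RootCount.card_classes_gu hK hq hord.symm hs2]

end Cfsg.Agent.S2671
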