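import Cfsg.Statements.S2673
import Cfsg.Agent.Lib.RootCount.Orth
import Cfsg.Agent.Lib.RootCount.OrthCount

set_option autoImplicit false
open Cfsg

namespace Cfsg.Agent.S2673

/-- Number of conjugacy classes of elements of odd prime order r ≠ p in the orthogonal group O_(2m+1)(q) of x_0² + Σ x_j y_j, q odd: with i the multiplicative order of q mod r and t = (r − 1)/i, there are C(⌊m/i⌋ + t/2, t/2) − 1 classes if i is odd (dual pairs of totally singular i-blocks) and C(⌊(2m+1)/i⌋ + t, t) − 1 if i is even (elliptic i-blocks). -/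
theorem result {F : Type*} [Field F] [Fintype F] {p q : ℕ} [Fact p.Prime] [CharP F p] (hF : Fintype.card F = q) (hq : Odd q) (m r i t : ℕ) (hr : r.Prime) (hr2 : r ≠ 2) (hrp : r ≠ p) (hi : i = orderOf (q : ZMod r)) (ht : t * i = r - 1) : Nat.card {C : ConjClasses ↥(Cfsg.isometryGroup F (Cfsg.quadFormOdd m F)) // ∃ g : ↥(Cfsg.isometryGroup F (Cfsg.quadFormOdd m F)), ConjClasses.mk g = C ∧ orderOf g = r} = if Odd i then Nat.choose (m / i + t / 2) (t / 2) - 1 else Nat.choose ((2 * m + 1) / i + t) t - 1 := by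
  classical
  have : Fact r.Prime := ⟨hr⟩
  have : NeZero (r : F) := ⟨by
    rw [Ne, CharP.cast_eq_zero_iff F p, Nat.prime_dvd_prime_iff_eq Fact.out hr]
    exact Ne.symm hrp⟩
  subst hF
  have hi0 : i ≠ 0 := fun h => by rw [h, mul_zero] at ht; have := hr.two_le; omega
  obtain ⟨u, hu⟩ : IsUnit (Fintype.card F : ZMod r) :=
    Ne.isUnit fun h0 => hi0 (by rw [hi, h0, orderOf_zero])
  have hiu : i = orderOf (u : ZMod r) := by rw [hu, hi]
  rw [CfsgLib.RootCount.card_classes_orth_odd hr2 (CfsgLib.Classical.Quad.two_ne_zero_iff_odd.2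
    (by rwa [Nat.card_eq_fintype_card])) m]
  have h := CfsgLib.RootCount.card_sym_inv hr2 u hiu ht rfl rfl (2 * m + 1) (by omega) True
  simp only [not_true_eq_false, false_and, if_false, Nat.sub_zero] at h
  simp only [imp_true_iff, hu] at h
  rw [h]
  split_ifs with ho
  · rw [← Nat.div_div_eq_div_mul, show (2 * m + 1) / 2 = m by omega]
  · rfl

end Cfsg.Agent.S2673
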