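import Cfsg.Statements.S2674
import Cfsg.Agent.Lib.RootCount.Orth
import Cfsg.Agent.Lib.RootCount.OrthCount

set_option autoImplicit false
open Cfsg

namespace Cfsg.Agent.S2674

/-- Number of conjugacy classes of elements of odd prime order r ≠ p in the orthogonal group O⁺_2m(q) of Σ x_j y_j (m ≥ 1): with i the multiplicative order of q mod r and t = (r − 1)/i — if i is odd, C(⌊m/i⌋ + t/2, t/2) − 1; if i is even, C(⌊2m/i⌋ + t, t) − 1 minus, when i divides 2m with odd quotient, the C(2m/i + t − 1, t − 1) tuples using the whole space (an odd number of elliptic i-blocks fills an elliptic, not a hyperbolic, space). -/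
theorem result {F : Type*} [Field F] [Fintype F] {p q : ℕ} [Fact p.Prime] [CharP F p] (hF : Fintype.card F = q) (m r i t : ℕ) (hm : 1 ≤ m) (hr : r.Prime) (hr2 : r ≠ 2) (hrp : r ≠ p) (hi : i = orderOf (q : ZMod r)) (ht : t * i = r - 1) : Nat.card {C : ConjClasses ↥(Cfsg.isometryGroup F (Cfsg.quadFormPlus m F)) // ∃ g : ↥(Cfsg.isometryGroup F (Cfsg.quadFormPlus m F)), ConjClasses.mk g = C ∧ orderOf g = r} = if Odd i then Nat.choose (m / i + t / 2) (t / 2) - 1 else Nat.choose (2 * m / i + t) t - 1 - (if i ∣ 2 * m ∧ Odd (2 * m / i) then Nat.choose (2 * m / i + t - 1) (t - 1) else 0) := by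
  classical
  have : Fact r.Prime := ⟨hr⟩
  have : NeZero (r : F) := ⟨by
    rw [Ne, CharP.cast_eq_zero_iff F p, Nat.prime_dvd_prime_iff_eq Fact.out hr]
    exact Ne.symm hrp⟩
  subst hF
  have hi0 : i ≠ 0 := fun h => by rw [h, mul_zero] at ht; have := hr.two_le; omega
  obtain ⟨u, hu⟩ : IsUnit (Fintype.card F : ZMod r) :=
    Ne.isUnit fun h0 => hi0 (by rw [hi, h0, orderOf_zero])
  have hiu : i = orderOf (u : ZMod r) := by rw [hu, hi]
  have hnd := CfsgLib.OrthCrit.ndPolar_plusForm (F := F) m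
  have hcard : Fintype.card (Fin m ⊕ Fin m) = 2 * m := by simp [two_mul]
  have hplus : CfsgLib.RootCount.IsPlus (CfsgLib.OrthCrit.plusForm m F) :=
    ⟨CfsgLib.OrthCrit.halfSpace F m, CfsgLib.OrthCrit.halfSpace_singular, by
      rw [CfsgLib.OrthCrit.finrank_halfSpace]; simp [two_mul]⟩
  have h1 := CfsgLib.RootCount.card_classes_orth_even (r := r) hr2 (CfsgLib.OrthCrit.plusForm m F) hnd hm hcard hi
  refine h1.trans ?_
  rw [hcard]
  have h := CfsgLib.RootCount.card_sym_inv hr2 u hiu ht rfl rfl (2 * m) (by omega)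
    (CfsgLib.RootCount.IsPlus (CfsgLib.OrthCrit.plusForm m F) ↔ (Odd i ∨ Even (2 * m / i)))
  rw [hu] at h
  rw [h]
  by_cases ho : Odd i
  · rw [if_pos ho, if_pos ho, if_pos ho, if_neg (fun hc => hc.1 (iff_of_true hplus (Or.inl ho))), Nat.sub_zero,
      Nat.mul_div_mul_left _ _ two_pos]
  · rw [if_neg ho, if_neg ho, if_neg ho]
    congr 1
    refine if_congr ?_ rfl rfl
    rw [and_comm]
    refine and_congr_right fun _ => ?_
    simp [hplus, ho, Nat.not_even_iff_odd]

end Cfsg.Agent.S2674
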