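import Cfsg.Statements.S2676
import Cfsg.Agent.Lib.SpUnipClass.Count

set_option autoImplicit false
open Classical
open Cfsg

namespace Cfsg.Agent.S2676

/-- Number of conjugacy classes of elements of order p in Sp_2m(q), q a power of the odd prime p: the classes correspond to the signed partitions of 2m — partitions with all parts at most p in which every odd part has even multiplicity, each even part size that occurs carrying a sign — other than the all-ones partition; so the count is the sum over such partitions of 2^(number of distinct even parts), minus one. -/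
theorem result {F : Type*} [Field F] [Fintype F] {p : ℕ} [Fact p.Prime] [CharP F p] (hp : p ≠ 2) (m : ℕ) : Nat.card {C : ConjClasses ↥(Matrix.symplecticGroup (Fin m) F) // ∃ g : Matrix.symplecticGroup (Fin m) F, ConjClasses.mk g = C ∧ orderOf g = p} = (∑ μ ∈ Finset.univ.filter (fun μ : Nat.Partition (2 * m) => (∀ a ∈ μ.parts, a ≤ p) ∧ ∀ j : ℕ, Odd j → Even (μ.parts.count j)), 2 ^ ((μ.parts.toFinset.filter (fun j : ℕ => Even j)).card)) - 1 := by
  have key : Nat.card {C : ConjClasses ↥(Matrix.symplecticGroup (Fin m) F) //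
      ∃ g : Matrix.symplecticGroup (Fin m) F, ConjClasses.mk g = C ∧ g ^ p = 1} =
      ∑ μ ∈ Finset.univ.filter (fun μ : Nat.Partition (2 * m) => (∀ a ∈ μ.parts, a ≤ p) ∧
        ∀ j : ℕ, Odd j → Even (μ.parts.count j)),
        2 ^ ((μ.parts.toFinset.filter (fun j : ℕ => Even j)).card) := by
    rw [CfsgLib.SpUnip.card_pow_classes hp, CfsgLib.SpUnip.card_signed]
  have hsplit : {C : ConjClasses ↥(Matrix.symplecticGroup (Fin m) F) |
      ∃ g : Matrix.symplecticGroup (Fin m) F, ConjClasses.mk g = C ∧ orderOf g = p} =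
      {C | ∃ g : Matrix.symplecticGroup (Fin m) F, ConjClasses.mk g = C ∧ g ^ p = 1} \
        {ConjClasses.mk 1} := by
    ext C
    simp only [Set.mem_setOf_eq, Set.mem_sdiff, Set.mem_singleton_iff]
    constructor
    · rintro ⟨g, rfl, hg⟩
      refine ⟨⟨g, rfl, by rw [← hg, pow_orderOf_eq_one]⟩, fun h => ?_⟩
      rw [ConjClasses.mk_eq_mk_iff_isConj, isConj_one_left] at h
      rw [h, orderOf_one] at hg
      exact (Fact.out : p.Prime).one_lt.ne hg
    · rintro ⟨⟨g, rfl, hg⟩, h⟩
      exact ⟨g, rfl, orderOf_eq_prime hg fun h' => h (by rw [h'])⟩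
  have h1 := congrArg Set.ncard hsplit
  rw [Set.ncard_diff_singleton_of_mem (s := {C | ∃ g : Matrix.symplecticGroup (Fin m) F,
    ConjClasses.mk g = C ∧ g ^ p = 1}) ⟨1, rfl, one_pow p⟩] at h1
  simp only [← Nat.card_coe_set_eq, Set.coe_setOf] at h1
  rw [key] at h1
  exact h1

end Cfsg.Agent.S2676
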