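import Cfsg.Statements.S2678
import Cfsg.Agent.Lib.AutPSL.FiniteFieldEmb

set_option autoImplicit false
open Cfsg

namespace Cfsg.Agent.S2678

open Matrix in
/-- Restriction of scalars along `R : K →+* Matrix κ κ F` turns symplectic matrices into symplectic matrices. -/
private lemma restrict_scalars_symplectic {K F ι κ : Type*} [CommRing K] [CommRing F] [Fintype ι] [DecidableEq ι]
    [Fintype κ] [DecidableEq κ] [Nontrivial F] [Nonempty κ] (R : K →+* Matrix κ κ F) (hR : Function.Injective R)
    (T U : Matrix κ κ F) (hTU : T * U = 1) (hUT : U * T = 1) (hU : Uᵀ = U) (hT : Tᵀ = T)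
    (hsym : ∀ x, U * (R x)ᵀ = R x * U) :
    ∃ φ : ↥(Matrix.symplecticGroup ι K) →* ↥(Matrix.symplecticGroup (ι × κ) F), Function.Injective φ := by
  let C : ι ⊕ ι → Matrix κ κ F := Sum.elim (fun _ => 1) (fun _ => T)
  let C' : ι ⊕ ι → Matrix κ κ F := Sum.elim (fun _ => 1) (fun _ => U)
  have hC : Matrix.diagonal C' * Matrix.diagonal C = 1 := by
    rw [Matrix.diagonal_mul_diagonal, ← Matrix.diagonal_one]
    congr 1; funext i; cases i <;> simp [C, C', hUT]
  have hC2 : Matrix.diagonal C * Matrix.diagonal C' = 1 := by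
    rw [Matrix.diagonal_mul_diagonal, ← Matrix.diagonal_one]
    congr 1; funext i; cases i <;> simp [C, C', hTU]
  let c := Matrix.compRingEquiv (I := ι ⊕ ι) (J := κ) (R := F)
  let ψ : Matrix (ι ⊕ ι) (ι ⊕ ι) K →* Matrix ((ι × κ) ⊕ (ι × κ)) ((ι × κ) ⊕ (ι × κ)) F :=
    { toFun := fun M => Matrix.reindex (Equiv.sumProdDistrib ι ι κ) (Equiv.sumProdDistrib ι ι κ)
        (c (Matrix.diagonal C * R.mapMatrix M * Matrix.diagonal C'))
      map_one' := by
        simp only [map_one, mul_one, hC2]
        exact Matrix.submatrix_one_equiv _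
      map_mul' := fun M N => by
        have : Matrix.diagonal C * R.mapMatrix (M * N) * Matrix.diagonal C' =
            (Matrix.diagonal C * R.mapMatrix M * Matrix.diagonal C') *
              (Matrix.diagonal C * R.mapMatrix N * Matrix.diagonal C') := by
          rw [map_mul]
          calc _ = Matrix.diagonal C * R.mapMatrix M * 1 * (R.mapMatrix N * Matrix.diagonal C') := by
                simp only [mul_one, mul_assoc]
            _ = _ := by rw [← hC]; simp only [mul_assoc]
        rw [this, map_mul]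
        simp only [Matrix.reindex_apply]
        exact (Matrix.submatrix_mul_equiv _ _ _ _ _).symm }
  have hψinj : Function.Injective ψ := by
    intro M N h
    have h' := c.injective ((Matrix.reindex _ _).injective h)
    have h'' := congrArg (fun X => Matrix.diagonal C' * X * Matrix.diagonal C) h'
    simp only [← mul_assoc, hC, one_mul] at h''
    simp only [mul_assoc, hC, mul_one] at h''
    ext i j
    exact hR (congrFun (congrFun h'' i) j)
  let JR : Matrix (ι ⊕ ι) (ι ⊕ ι) (Matrix κ κ F) := R.mapMatrix (Matrix.J ι K)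
  have hJR : JR = Matrix.fromBlocks 0 (-1) 1 0 := by
    simp [JR, Matrix.J, Matrix.fromBlocks_map, Matrix.map_zero, Matrix.map_one, Matrix.map_neg]
  let dag : Matrix (ι ⊕ ι) (ι ⊕ ι) (Matrix κ κ F) → Matrix (ι ⊕ ι) (ι ⊕ ι) (Matrix κ κ F) :=
    fun A => (A.map Matrix.transpose)ᵀ
  have hdagc : ∀ A, (c A)ᵀ = c (dag A) := fun A => rfl
  have hdag_mul : ∀ A B, dag (A * B) = dag B * dag A := by
    intro A B
    apply c.injective
    rw [← hdagc, map_mul, Matrix.transpose_mul, hdagc, hdagc, map_mul]
  have hdagdiag : ∀ D : ι ⊕ ι → Matrix κ κ F, dag (Matrix.diagonal D) = Matrix.diagonal fun i => (D i)ᵀ := by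
    intro D
    show ((Matrix.diagonal D).map Matrix.transpose)ᵀ = _
    rw [Matrix.diagonal_map Matrix.transpose_zero, Matrix.diagonal_transpose]
  have hCJ : Matrix.diagonal C' * JR * dag (Matrix.diagonal C') = JR * Matrix.diagonal (fun _ => U) := by
    rw [hdagdiag, hJR]
    ext (i | i) (j | j) <;> by_cases hij : i = j <;>
      simp [C', hij, hU, Matrix.one_apply]
  have hCJ2 : Matrix.diagonal C * (JR * Matrix.diagonal (fun _ => U)) * dag (Matrix.diagonal C) = JR := by
    rw [hdagdiag, hJR]
    ext (i | i) (j | j) <;> by_cases hij : i = j <;>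
      simp [C, hij, hT, hTU, hUT, Matrix.one_apply]
  have hUM : ∀ M : Matrix (ι ⊕ ι) (ι ⊕ ι) K,
      Matrix.diagonal (fun _ => U) * dag (R.mapMatrix M) = R.mapMatrix Mᵀ * Matrix.diagonal (fun _ => U) := by
    intro M
    refine Matrix.ext fun i j => ?_
    rw [Matrix.diagonal_mul, Matrix.mul_diagonal]
    exact hsym _
  have hmem : ∀ M ∈ Matrix.symplecticGroup ι K, ψ M ∈ Matrix.symplecticGroup (ι × κ) F := by
    intro M hM
    rw [SymplecticGroup.mem_iff] at hM ⊢
    have hJ : Matrix.J (ι × κ) F =
        Matrix.reindex (Equiv.sumProdDistrib ι ι κ) (Equiv.sumProdDistrib ι ι κ) (c JR) := by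
      rw [hJR]
      ext (⟨i, x⟩ | ⟨i, x⟩) (⟨j, y⟩ | ⟨j, y⟩) <;> by_cases hij : i = j <;> by_cases hxy : x = y <;>
        simp [c, Matrix.J, hij, hxy, Matrix.one_apply]
    show (Matrix.reindex _ _ (c _)) * _ * (Matrix.reindex _ _ (c _))ᵀ = _
    rw [hJ, Matrix.transpose_reindex, hdagc]
    simp only [Matrix.reindex_apply]
    rw [Matrix.submatrix_mul_equiv, Matrix.submatrix_mul_equiv, ← map_mul, ← map_mul]
    congr 2
    rw [hdag_mul, hdag_mul]
    calc _ = Matrix.diagonal C * (R.mapMatrix M * (Matrix.diagonal C' * JR * dag (Matrix.diagonal C'))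
          * dag (R.mapMatrix M)) * dag (Matrix.diagonal C) := by simp only [mul_assoc]
      _ = Matrix.diagonal C * (R.mapMatrix M * JR * (Matrix.diagonal (fun _ => U) * dag (R.mapMatrix M)))
          * dag (Matrix.diagonal C) := by rw [hCJ]; simp only [mul_assoc]
      _ = Matrix.diagonal C * (R.mapMatrix (M * Matrix.J ι K * Mᵀ) * Matrix.diagonal (fun _ => U))
          * dag (Matrix.diagonal C) := by rw [hUM, map_mul, map_mul]; simp only [JR, mul_assoc]
      _ = JR := by rw [hM]; exact hCJ2
  refine ⟨(ψ.comp (Matrix.symplecticGroup ι K).subtype).codRestrict _ (fun M => hmem M M.2), ?_⟩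
  intro M N h
  exact Subtype.ext (hψinj (congrArg Subtype.val h))

open Matrix in
private lemma symplectic_reindex {F α β : Type*} [CommRing F] [Fintype α] [DecidableEq α] [Fintype β] [DecidableEq β]
    (e : α ≃ β) : ∃ φ : ↥(Matrix.symplecticGroup α F) →* ↥(Matrix.symplecticGroup β F), Function.Injective φ := by
  let ψ := (Matrix.reindexAlgEquiv F F (e.sumCongr e)).toMulEquiv.toMonoidHom
  have hJ : ψ (Matrix.J α F) = Matrix.J β F := by
    ext (i | i) (j | j) <;> simp [ψ, Matrix.J, Matrix.one_apply]
  refine ⟨(ψ.comp (Matrix.symplecticGroup α F).subtype).codRestrict _ (fun M => ?_), ?_⟩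
  · have h := congrArg ψ (SymplecticGroup.mem_iff.mp M.2)
    rw [map_mul, map_mul, hJ] at h
    exact SymplecticGroup.mem_iff.mpr h
  · intro M N h
    exact Subtype.ext ((Matrix.reindexAlgEquiv F F (e.sumCongr e)).injective (congrArg Subtype.val h))

/-- Field-extension embedding of symplectic groups: for a field K with q² elements and a field F with q elements there is an injective homomorphism Sp_2a(K) → Sp_4a(F). -/
theorem result {K F : Type*} [Field K] [Fintype K] [Field F] [Fintype F] {q : ℕ} (hK : Fintype.card K = q ^ 2) (hF : Fintype.card F = q) (a : ℕ) : ∃ φ : ↥(Matrix.symplecticGroup (Fin a) K) →* ↥(Matrix.symplecticGroup (Fin (2 * a)) F), Function.Injective φ := by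
  classical
  obtain ⟨i⟩ := CfsgLib.AutPSL.exists_ringHom_of_card_pow (F := F) (K := K) (r := 2) (by rw [hK, hF])
  algebraize [i]
  have hfr : Module.finrank F K = 2 := by
    apply Nat.pow_right_injective (a := Fintype.card F) Fintype.one_lt_card
    show Fintype.card F ^ _ = Fintype.card F ^ 2
    rw [← Module.card_eq_pow_finrank, hK, hF]
  let b : Module.Basis (Fin 2) F K := Module.finBasisOfFinrankEq F K hfr
  set R := (Algebra.leftMulMatrix b).toRingHom with hRdef
  set T := Algebra.traceMatrix F b with hTdef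
  have hdet : IsUnit T.det := by
    rw [hTdef, Algebra.traceMatrix_of_basis]
    exact (det_traceForm_ne_zero b).isUnit
  have hT : T.transpose = T := by
    ext x y
    simp [T, Algebra.traceMatrix_apply, Algebra.traceForm_apply, mul_comm]
  have hsymT : ∀ x, T * R x = (R x).transpose * T := by
    intro x
    have key : ∀ y z, (T * R x) y z = Algebra.trace F K (b y * (x * b z)) := by
      intro y z
      rw [Matrix.mul_apply]
      conv_rhs => rw [← b.sum_repr (x * b z), Finset.mul_sum, map_sum]
      refine Finset.sum_congr rfl fun w _ => ?_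
      rw [mul_smul_comm, map_smul, smul_eq_mul, mul_comm]
      congr 1
      exact (Algebra.leftMulMatrix_eq_repr_mul b x w z)
    ext y z
    rw [key]
    have h' : ((R x).transpose * T) y z = (T * R x) z y := by
      conv_lhs => rw [← hT, ← Matrix.transpose_mul]
      rfl
    rw [h', key]
    congr 1
    ring
  have hU : T⁻¹.transpose = T⁻¹ := by rw [Matrix.transpose_nonsing_inv, hT]
  have hsym : ∀ x, T⁻¹ * (R x).transpose = R x * T⁻¹ := by
    intro x
    calc _ = T⁻¹ * ((R x).transpose * T) * T⁻¹ := by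
          rw [mul_assoc T⁻¹ ((R x).transpose * T), mul_assoc (R x).transpose, Matrix.mul_nonsing_inv _ hdet, mul_one]
      _ = _ := by rw [← hsymT, ← mul_assoc T⁻¹ T, Matrix.nonsing_inv_mul _ hdet, one_mul]
  obtain ⟨φ, hφ⟩ := restrict_scalars_symplectic (ι := Fin a) R (Algebra.leftMulMatrix_injective b) T T⁻¹
    (Matrix.mul_nonsing_inv _ hdet) (Matrix.nonsing_inv_mul _ hdet) hU hT hsym
  obtain ⟨ψ, hψ⟩ := symplectic_reindex (F := F) ((Equiv.prodComm (Fin a) (Fin 2)).trans finProdFinEquiv)
  exact ⟨ψ.comp φ, hψ.comp hφ⟩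

end Cfsg.Agent.S2678
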