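import Cfsg.Statements.S2679
-- import your own Cfsg.Agent.* helpers here

set_option autoImplicit false
open Cfsg

namespace Cfsg.Agent.S2679

open Matrix

/-- A matrix over a ring whose associated quadratic map vanishes identically is alternating. -/
private lemma quad_zero_alt {F ι : Type*} [CommRing F] [Fintype ι] [DecidableEq ι] (D : Matrix ι ι F)
    (h : ∀ x : ι → F, x ⬝ᵥ (D *ᵥ x) = 0) : ∀ i j, D i i = 0 ∧ D i j + D j i = 0 := by
  have hd : ∀ i, D i i = 0 := by
    intro i
    have := h (Pi.single i 1)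
    simpa using this
  intro i j
  refine ⟨hd i, ?_⟩
  by_cases hij : i = j
  · subst hij; rw [hd]; simp
  · have := h (Pi.single i 1 + Pi.single j 1)
    simp only [Matrix.mulVec_add, add_dotProduct, dotProduct_add, Matrix.mulVec_single_one,
      single_dotProduct, Matrix.col_apply, one_mul, hd, zero_add, add_zero] at this
    linear_combination this

/-- An alternating matrix has zero quadratic map. -/
private lemma alt_quad_zero {F ι : Type*} [CommRing F] [Fintype ι] [DecidableEq ι] (D : Matrix ι ι F)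
    (h : ∀ i j, D i i = 0 ∧ D i j + D j i = 0) (x : ι → F) : x ⬝ᵥ (D *ᵥ x) = 0 := by
  have : x ⬝ᵥ (D *ᵥ x) = ∑ p : ι × ι, x p.1 * (D p.1 p.2 * x p.2) := by
    simp only [dotProduct, Matrix.mulVec, Finset.mul_sum, Fintype.sum_prod_type]
  rw [this]
  refine Finset.sum_involution (fun p _ => (p.2, p.1)) ?_ ?_ (fun _ _ => Finset.mem_univ _) (fun _ _ => rfl)
  · intro p _
    linear_combination (x p.1 * x p.2) * (h p.1 p.2).2
  · intro p _ hp heq
    apply hp
    have : p.1 = p.2 := (Prod.ext_iff.mp heq).2
    rw [← this, (h p.1 p.1).1]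
    ring

private lemma dot_mul_quad {F ι : Type*} [CommRing F] [Fintype ι] (B G : Matrix ι ι F) (x : ι → F) :
    (G *ᵥ x) ⬝ᵥ (B *ᵥ (G *ᵥ x)) = x ⬝ᵥ ((Gᵀ * B * G) *ᵥ x) := by
  rw [Matrix.mulVec_mulVec, ← Matrix.vecMul_transpose, ← Matrix.dotProduct_mulVec, Matrix.mulVec_mulVec,
    Matrix.mul_assoc]

/-- The upper triangular Gram matrix of the minus-type form. -/
private def gramMinus (k : ℕ) {F : Type*} [Field F] (a c : F) :
    Matrix ((Fin k ⊕ Fin k) ⊕ Fin 2) ((Fin k ⊕ Fin k) ⊕ Fin 2) F :=
  Matrix.fromBlocks (Matrix.fromBlocks 0 1 0 0) 0 0 !![1, a; 0, c]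

private lemma gramMinus_spec (k : ℕ) {F : Type*} [Field F] (a c : F) (v : (Fin k ⊕ Fin k) ⊕ Fin 2 → F) :
    v ⬝ᵥ (gramMinus k a c *ᵥ v) = Cfsg.quadFormMinus k F a c v := by
  simp only [gramMinus, Cfsg.quadFormMinus, Matrix.fromBlocks_mulVec]
  simp [dotProduct, Fintype.sum_sum_type, Fin.sum_univ_two, Matrix.mulVec, Matrix.vecHead, Matrix.vecTail,
    Matrix.one_apply]
  ring

private lemma isometry_base_change {F K : Type*} [Field F] [Field K] (f : F →+* K) (k : ℕ) (a c : F)
    (G : Matrix ((Fin k ⊕ Fin k) ⊕ Fin 2) ((Fin k ⊕ Fin k) ⊕ Fin 2) F)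
    (hG : ∀ v, Cfsg.quadFormMinus k F a c (G *ᵥ v) = Cfsg.quadFormMinus k F a c v)
    (v : (Fin k ⊕ Fin k) ⊕ Fin 2 → K) :
    Cfsg.quadFormMinus k K (f a) (f c) (G.map f *ᵥ v) = Cfsg.quadFormMinus k K (f a) (f c) v := by
  have hB : gramMinus k (f a) (f c) = (gramMinus k a c).map f := by
    have h2 : (!![1, f a; 0, f c] : Matrix (Fin 2) (Fin 2) K) = (!![1, a; 0, c] : Matrix _ _ F).map f := by
      ext i j; fin_cases i <;> fin_cases j <;> simp
    simp [gramMinus, Matrix.fromBlocks_map, Matrix.map_zero, Matrix.map_one, h2]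
  have h0 : ∀ x, x ⬝ᵥ ((Gᵀ * gramMinus k a c * G - gramMinus k a c) *ᵥ x) = 0 := by
    intro x
    rw [Matrix.sub_mulVec, dotProduct_sub, ← dot_mul_quad, gramMinus_spec, gramMinus_spec, hG, sub_self]
  have h1 := alt_quad_zero ((Gᵀ * gramMinus k a c * G - gramMinus k a c).map f)
    (fun i j => by
      obtain ⟨e1, e2⟩ := quad_zero_alt _ h0 i j
      constructor
      · rw [Matrix.map_apply, e1, map_zero]
      · rw [Matrix.map_apply, Matrix.map_apply, ← map_add, e2, map_zero]) v
  have hmap : (Gᵀ * gramMinus k a c * G - gramMinus k a c).map f =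
      (G.map f)ᵀ * (gramMinus k a c).map f * G.map f - (gramMinus k a c).map f := by
    show f.mapMatrix _ = _
    simp only [map_sub, map_mul]
    rfl
  rw [hmap, ← hB, Matrix.sub_mulVec, dotProduct_sub, ← dot_mul_quad, gramMinus_spec, gramMinus_spec,
    sub_eq_zero] at h1
  exact h1

/-- Isometry groups embed along a field homomorphism and an isometry of forms. -/
private lemma embed_of_conj {F K : Type*} [Field F] [Field K] {ι κ : Type} [Fintype ι] [DecidableEq ι] [Fintype κ]
    [DecidableEq κ] (f : F →+* K) (QF : (ι → F) → F) (QK : (ι → K) → K) (QK' : (κ → K) → K)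
    (A : Matrix κ ι K) (B : Matrix ι κ K) (hBA : B * A = 1) (hAB : A * B = 1)
    (hbase : ∀ G : Matrix ι ι F, (∀ v, QF (G *ᵥ v) = QF v) → ∀ v, QK (G.map f *ᵥ v) = QK v)
    (hQ : ∀ v, QK' (A *ᵥ v) = QK v) :
    ∃ φ : ↥(Cfsg.isometryGroup F QF) →* ↥(Cfsg.isometryGroup K QK'), Function.Injective φ := by
  let ψ : Matrix ι ι F →* Matrix κ κ K :=
    { toFun := fun G => A * G.map f * B
      map_one' := by rw [Matrix.map_one f (map_zero f) (map_one f), Matrix.mul_one, hAB]
      map_mul' := fun G H => by
        rw [Matrix.map_mul]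
        calc A * (G.map f * H.map f) * B = A * G.map f * (1 : Matrix ι ι K) * (H.map f * B) := by
              rw [Matrix.mul_one]; simp only [Matrix.mul_assoc]
          _ = A * G.map f * (B * A) * (H.map f * B) := by rw [hBA]
          _ = _ := by simp only [Matrix.mul_assoc] }
  let φ₀ := (Units.map ψ).comp (Cfsg.isometryGroup F QF).subtype
  have hmem : ∀ g, φ₀ g ∈ Cfsg.isometryGroup K QK' := by
    intro g u v
    show QK' ((A * (g : GL ι F).1.map f * B) *ᵥ u) = QK' u
    rw [← Matrix.mulVec_mulVec, ← Matrix.mulVec_mulVec, hQ,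
      hbase (g : GL ι F).1 (fun x => g.2 x x), ← hQ, Matrix.mulVec_mulVec, hAB, Matrix.one_mulVec]
  refine ⟨φ₀.codRestrict _ hmem, ?_⟩
  intro g h hgh
  have h1 : A * (g : GL ι F).1.map f * B = A * (h : GL ι F).1.map f * B :=
    congrArg (fun x => Units.val (Subtype.val x)) hgh
  have h2 := congrArg (fun X => B * X * A) h1
  simp only [← Matrix.mul_assoc, hBA, Matrix.one_mul] at h2
  simp only [Matrix.mul_assoc, hBA, Matrix.mul_one] at h2
  refine Subtype.ext (Units.ext ?_)
  ext i j
  exact f.injective (congrFun (congrFun h2 i) j)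

/-- An elliptic orthogonal group embeds in the hyperbolic orthogonal group of the same dimension over the quadratic extension: for a field F with q elements and a field K with q² elements there is an injective homomorphism from O⁻_2m(F) (isometries of Σ_(j<m−1) x_j y_j + z₁² + a z₁z₂ + c z₂², binary part anisotropic) to O⁺_2m(K) (isometries of Σ_(j<m) x_j y_j over K). -/
theorem result {F K : Type*} [Field F] [Fintype F] [Field K] [Fintype K] {q : ℕ} (hF : Fintype.card F = q) (hK : Fintype.card K = q ^ 2) {m : ℕ} (hm : 1 ≤ m) (a c : F) (hac : ∀ z₁ z₂ : F, z₁ ^ 2 + a * z₁ * z₂ + c * z₂ ^ 2 = 0 → z₁ = 0 ∧ z₂ = 0) : ∃ φ : ↥(Cfsg.isometryGroup F (Cfsg.quadFormMinus (m - 1) F a c)) →* ↥(Cfsg.isometryGroup K (Cfsg.quadFormPlus m K)), Function.Injective φ := by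
  classical
  obtain ⟨k, rfl⟩ : ∃ k, m = k + 1 := ⟨m - 1, by omega⟩
  show ∃ φ : ↥(Cfsg.isometryGroup F (Cfsg.quadFormMinus k F a c)) →* _, Function.Injective φ
  -- a root of the binary part in `K`
  let P : Polynomial F := Polynomial.X ^ 2 + Polynomial.C a * Polynomial.X + Polynomial.C c
  have hPm : P.Monic := by simp only [P]; monicity!
  have hPd : P.natDegree = 2 := by simp only [P]; compute_degree!
  have hirr : Irreducible P := by
    rw [Polynomial.irreducible_iff_roots_eq_zero_of_degree_le_three (by omega) (by omega),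
      Multiset.eq_zero_iff_forall_notMem]
    intro x hx
    have hx' := (Polynomial.mem_roots'.mp hx).2
    simp only [P, Polynomial.IsRoot, Polynomial.eval_add, Polynomial.eval_pow, Polynomial.eval_mul,
      Polynomial.eval_X, Polynomial.eval_C] at hx'
    exact one_ne_zero (hac x 1 (by linear_combination hx')).2
  haveI : Fact (Irreducible P) := ⟨hirr⟩
  haveI : Module.Finite F (AdjoinRoot P) := hPm.finite_adjoinRoot
  haveI : Finite (AdjoinRoot P) := Module.finite_of_finite F
  letI : Fintype (AdjoinRoot P) := Fintype.ofFinite _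
  have hcard : Fintype.card (AdjoinRoot P) = Fintype.card K := by
    rw [hK, ← hF, Module.card_eq_pow_finrank (K := F) (V := AdjoinRoot P),
      (AdjoinRoot.powerBasis hPm.ne_zero).finrank, AdjoinRoot.powerBasis_dim, hPd]
  let e : AdjoinRoot P ≃+* K := FiniteField.ringEquivOfCardEq hcard
  let f : F →+* K := e.toRingHom.comp (AdjoinRoot.of P)
  let α : K := e (AdjoinRoot.root P)
  have hα : α ^ 2 + f a * α + f c = 0 := by
    have h := congrArg e (AdjoinRoot.eval₂_root P)
    simp only [P, Polynomial.eval₂_add, Polynomial.eval₂_pow, Polynomial.eval₂_mul, Polynomial.eval₂_X,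
      Polynomial.eval₂_C, map_add, map_mul, map_pow, map_zero] at h
    exact h
  let β : K := -f a - α
  have hnot : ∀ x : F, α ≠ f x := by
    intro x hx
    have h1 : f (x ^ 2 + a * x + c) = 0 := by
      simp only [map_add, map_mul, map_pow, ← hx]; linear_combination hα
    have h2 : x ^ 2 + a * x + c = 0 := f.injective (by rw [h1, map_zero])
    exact one_ne_zero (hac x 1 (by linear_combination h2)).2
  have hne : α ≠ β := by
    intro h
    have h2 : 2 * α = -f a := by simp only [β] at h; linear_combination h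
    by_cases hchar : (2 : F) = 0
    · -- in characteristic two `a = 0`, and `c` is a square
      have ha : a = 0 := f.injective (by
        have h2K : (2 : K) = 0 := by rw [← map_ofNat f 2, hchar, map_zero]
        rw [map_zero]; linear_combination h2 - α * h2K)
      haveI : CharP F 2 := by
        rw [CharP.charP_iff_prime_eq_zero Nat.prime_two]
        exact_mod_cast hchar
      obtain ⟨r, hr⟩ := FiniteField.isSquare_of_char_two (F := F) (ringChar.eq F 2) c
      exact one_ne_zero (hac r 1 (by subst ha; linear_combination hr + (r ^ 2) * hchar)).2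
    · refine hnot (-a / 2) ?_
      have h2K : (2 : K) ≠ 0 := by
        rw [← map_ofNat f 2]; exact fun h => hchar (f.injective (by rw [h, map_zero]))
      rw [map_div₀, map_neg, map_ofNat, eq_div_iff h2K]
      linear_combination h2
  let L : ((Fin k ⊕ Fin k) ⊕ Fin 2 → K) →ₗ[K] (Fin (k + 1) ⊕ Fin (k + 1) → K) :=
    { toFun := fun v => Sum.elim (Fin.snoc (fun i => v (.inl (.inl i))) (v (.inr 0) - α * v (.inr 1)))
        (Fin.snoc (fun i => v (.inl (.inr i))) (v (.inr 0) - β * v (.inr 1)))
      map_add' := fun u v => by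
        funext i
        rcases i with i | i <;> induction i using Fin.lastCases <;> simp <;> ring
      map_smul' := fun r v => by
        funext i
        rcases i with i | i <;> induction i using Fin.lastCases <;> simp <;> ring }
  have hL : Function.Injective L := by
    intro u v h
    have hx := fun i => congrFun h (.inl i)
    have hy := fun i => congrFun h (.inr i)
    have h1 := hx (Fin.last k)
    have h2 := hy (Fin.last k)
    simp [L] at h1 h2
    have h3 : u (.inr 1) = v (.inr 1) := by
      have : (α - β) * (u (.inr 1) - v (.inr 1)) = 0 := by linear_combination h2 - h1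
      exact sub_eq_zero.mp ((mul_eq_zero.mp this).resolve_left (sub_ne_zero.mpr hne))
    have h4 : u (.inr 0) = v (.inr 0) := by linear_combination h1 + α * h3
    funext i
    rcases i with (i | i) | i
    · simpa [L] using hx i.castSucc
    · simpa [L] using hy i.castSucc
    · fin_cases i
      · exact h4
      · exact h3
  let Le : ((Fin k ⊕ Fin k) ⊕ Fin 2 → K) ≃ₗ[K] (Fin (k + 1) ⊕ Fin (k + 1) → K) :=
    LinearEquiv.ofBijective L ⟨hL, (LinearMap.injective_iff_surjective_of_finrank_eq_finrank
      (by rw [Module.finrank_fintype_fun_eq_card, Module.finrank_fintype_fun_eq_card]; simp; omega)).mp hL⟩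
  have hQ : ∀ v, Cfsg.quadFormPlus (k + 1) K (L v) = Cfsg.quadFormMinus k K (f a) (f c) v := by
    intro v
    simp [L, Cfsg.quadFormPlus, Cfsg.quadFormMinus, Fin.sum_univ_castSucc]
    simp only [β]
    linear_combination -(v (.inr 1) ^ 2) * hα
  let Lmat := LinearMap.toMatrix' Le.toLinearMap
  let Lmat' := LinearMap.toMatrix' Le.symm.toLinearMap
  have hLL : Lmat' * Lmat = 1 := by
    rw [← LinearMap.toMatrix'_comp, LinearEquiv.symm_comp, LinearMap.toMatrix'_id]
  have hLL' : Lmat * Lmat' = 1 := by
    rw [← LinearMap.toMatrix'_comp, LinearEquiv.comp_symm, LinearMap.toMatrix'_id]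
  exact embed_of_conj f (Cfsg.quadFormMinus k F a c) (Cfsg.quadFormMinus k K (f a) (f c))
    (Cfsg.quadFormPlus (k + 1) K) Lmat Lmat' hLL hLL'
    (fun G hG v => isometry_base_change f k a c G hG v)
    (fun v => (congrArg (Cfsg.quadFormPlus (k + 1) K) (LinearMap.toMatrix'_mulVec _ v)).trans (hQ v))

end Cfsg.Agent.S2679
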