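import Cfsg.Statements.S2684
import Cfsg.Agent.Lib.SpInvolCent.OrthFinal

set_option autoImplicit false
open Cfsg

namespace Cfsg.Agent.S2684

/-- For the hyperbolic form Q = Σ x_j y_j on F^(2m) over a finite field with q elements, q even (excluding m = 2 over the field of two elements), and an involution x ≠ 1 of the orthogonal group with s = rank(x − 1) even and Q vanishing on the image of x − 1 (equivalently f(v, xv) = 0 for all v, where f(u, w) = Q(u + w) − Q(u) − Q(w) is the bilinear form of Q; type a_s, which lies in Ω): its centraliser in Ω (the commutator subgroup of the orthogonal group) has order q^(2ms − (3s² + s)/2) · |Sp_s(q)| · |Ω⁺_(2m−2s)(q)|, where |Ω⁺_2k(q)| = q^(k(k−1)) (q^k − 1) Π_(i=1)^(k−1) (q^(2i) − 1) for k ≥ 1 and the last factor is 1 when s = m. -/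
theorem result {F : Type*} [Field F] [Fintype F] [CharP F 2] {q : ℕ} (hF : Fintype.card F = q) {m s : ℕ} (h : Fintype.card F ≠ 2 ∨ m ≠ 2) (x : ↥(Cfsg.isometryGroup F (Cfsg.quadFormPlus m F))) (hx : x ^ 2 = 1) (hx1 : x ≠ 1) (hs : (((x : Matrix.GeneralLinearGroup (Fin m ⊕ Fin m) F) : Matrix (Fin m ⊕ Fin m) (Fin m ⊕ Fin m) F) - 1).rank = s) (heven : Even s) (halt : ∀ v : Fin m ⊕ Fin m → F, Cfsg.quadFormPlus m F ((((x : Matrix.GeneralLinearGroup (Fin m ⊕ Fin m) F) : Matrix (Fin m ⊕ Fin m) (Fin m ⊕ Fin m) F) - 1).mulVec v) = 0) : Nat.card {g : ↥(Cfsg.Omega F (Cfsg.quadFormPlus m F)) // (g : ↥(Cfsg.isometryGroup F (Cfsg.quadFormPlus m F))) * x = x * (g : ↥(Cfsg.isometryGroup F (Cfsg.quadFormPlus m F)))} = q ^ (2 * m * s - (3 * s ^ 2 + s) / 2) * ((q : ℕ) ^ ((s / 2) ^ 2) * ∏ i : Fin (s / 2), (q ^ (2 * ((i : ℕ) + 1)) - 1)) * (if s = m then 1 else q ^ ((m - s) * (m - s - 1)) * (q ^ (m - s) - 1) * ∏ i : Fin (m - s - 1), (q ^ (2 * ((i : ℕ) +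 1)) - 1)) := by
  revert x
  rw [← CfsgLib.CharTwoInv.plusQ_coe]
  intro x hx hx1 hs halt
  have hs1 : 1 ≤ s := by
    rcases Nat.eq_zero_or_pos s with rfl | h1
    · exfalso; apply hx1
      exact Subtype.ext (Units.ext (sub_eq_zero.1 (CfsgLib.SpInvolCent.eq_zero_of_rank hs)))
    · exact h1
  have hx' : x * x = 1 := (pow_two x).symm.trans hx
  obtain ⟨hsm, hcase⟩ := CfsgLib.SpInvolCent.omega_centralizer_orders x hx' hs hs1 h
  have hq0 : 0 < q := hF ▸ Fintype.card_pos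
  simp only [Fin.prod_univ_eq_prod_range (fun i => q ^ (2 * (i + 1)) - 1)]
  rcases hcase with ⟨-, k, rfl, hlt, heq⟩ | ⟨h', -⟩
  · rw [show 2 * k / 2 = k by omega]
    simp only [CfsgLib.SpInvolCent.spOrd, hF] at hlt heq
    by_cases he : 2 * k = m
    · rw [if_pos he, mul_one]
      refine Nat.eq_of_mul_eq_mul_right (pow_pos hq0 m) ((heq he).trans ?_)
      subst he
      simp only [Nat.sub_self, Finset.range_zero, Finset.prod_empty, mul_zero, add_zero, mul_one, pow_two]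
      have e2 := congrArg (q ^ ·) (CfsgLib.SpInvolCent.exp_orth_alt (2 * k) k le_rfl)
      simp only [Nat.sub_self, mul_zero, add_zero, pow_add, pow_two] at e2
      linear_combination (q ^ (k * k) * ∏ i ∈ Finset.range k, (q ^ (2 * (i + 1)) - 1)) * e2.symm
    · rw [if_neg he]
      refine Nat.eq_of_mul_eq_mul_right (Nat.mul_pos (pow_pos hq0 m) (Nat.succ_pos _)) ((hlt (by omega)).trans ?_)
      obtain ⟨l, rfl⟩ : ∃ l, m = 2 * k + (l + 1) := ⟨m - 2 * k - 1, by omega⟩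
      rw [Nat.add_sub_cancel_left, Nat.add_sub_cancel, Finset.prod_range_succ]
      have e2 := congrArg (q ^ ·) (CfsgLib.SpInvolCent.exp_orth_alt (2 * k + (l + 1)) k (by omega))
      rw [Nat.add_sub_cancel_left] at e2
      simp only [pow_add] at e2
      obtain ⟨A, hA⟩ : ∃ A, q ^ (l + 1) = A + 1 := ⟨_, (Nat.succ_pred (pow_pos hq0 (l + 1)).ne').symm⟩
      rw [pow_mul' q 2 (l + 1), hA, show (A + 1) ^ 2 - 1 = A * (A + 2) from Nat.sub_eq_of_eq_add (by ring),
        Nat.add_sub_cancel, show (l + 1) ^ 2 = (l + 1) * l + (l + 1) by ring]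
      simp only [pow_add] at hA ⊢
      rw [hA, Nat.succ_eq_add_one]
      linear_combination (q ^ ((l + 1) * l) * (A + 1) * A * (A + 2) * (∏ i ∈ Finset.range l, (q ^ (2 * (i + 1)) - 1)) *
        (q ^ (k ^ 2) * ∏ i ∈ Finset.range k, (q ^ (2 * (i + 1)) - 1))) * e2.symm
  · exact absurd halt h'

end Cfsg.Agent.S2684
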