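import Cfsg.Statements.S2685
import Cfsg.Agent.Lib.SpInvolCent.OrthFinal

set_option autoImplicit false
open Cfsg

namespace Cfsg.Agent.S2685

/-- For the hyperbolic form Q = Σ x_j y_j on F^(2m) over a finite field with q elements, q even (excluding m = 2 over the field of two elements), and an involution x of the orthogonal group with s = rank(x − 1) even and Q not vanishing on the image of x − 1 (f(v, xv) ≠ 0 for some v, where f(u, w) = Q(u + w) − Q(u) − Q(w) is the bilinear form of Q; type c_s, which lies in Ω): its centraliser in Ω (the commutator subgroup of the orthogonal group) has order q^(2m(s−1) − (3s² − 5s)/2 − 1) · |Sp_(s−2)(q)| · |Sp_(2m−2s)(q)|. -/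
theorem result {F : Type*} [Field F] [Fintype F] [CharP F 2] {q : ℕ} (hF : Fintype.card F = q) {m s : ℕ} (h : Fintype.card F ≠ 2 ∨ m ≠ 2) (x : ↥(Cfsg.isometryGroup F (Cfsg.quadFormPlus m F))) (hx : x ^ 2 = 1) (hs : (((x : Matrix.GeneralLinearGroup (Fin m ⊕ Fin m) F) : Matrix (Fin m ⊕ Fin m) (Fin m ⊕ Fin m) F) - 1).rank = s) (heven : Even s) (hna : ∃ v : Fin m ⊕ Fin m → F, Cfsg.quadFormPlus m F ((((x : Matrix.GeneralLinearGroup (Fin m ⊕ Fin m) F) : Matrix (Fin m ⊕ Fin m) (Fin m ⊕ Fin m) F) - 1).mulVec v) ≠ 0) : Nat.card {g : ↥(Cfsg.Omega F (Cfsg.quadFormPlus m F)) // (g : ↥(Cfsg.isometryGroup F (Cfsg.quadFormPlus m F))) * x = x * (g : ↥(Cfsg.isometryGroup F (Cfsg.quadFormPlus m F)))} = q ^ (2 * m * (s - 1) - (3 * s ^ 2 - 5 * s) / 2 - 1) * ((q : ℕ) ^ (((s - 2) / 2) ^ 2) * ∏ i : Fin ((s - 2) / 2), (q ^ (2 * ((i : ℕ) + 1)) - 1)) * ((q : ℕ) ^ ((m - s) ^ 2) * ∏ i : Fin (m - s), (q ^ (2 * ((i : ℕ) + 1)) - 1)) :=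 by
  revert x
  rw [← CfsgLib.CharTwoInv.plusQ_coe]
  intro x hx hs hna
  have hs1 : 1 ≤ s := by
    obtain ⟨v, hv⟩ := hna
    rcases Nat.eq_zero_or_pos s with rfl | h1
    · exfalso; apply hv
      rw [show ((x.1 : Matrix (Fin m ⊕ Fin m) (Fin m ⊕ Fin m) F) - 1) = 0 from
        CfsgLib.SpInvolCent.eq_zero_of_rank hs, Matrix.zero_mulVec, map_zero]
    · exact h1
  have hx' : x * x = 1 := (pow_two x).symm.trans hx
  obtain ⟨hsm, hcase⟩ := CfsgLib.SpInvolCent.omega_centralizer_orders x hx' hs hs1 h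
  have hq0 : 0 < q := hF ▸ Fintype.card_pos
  simp only [Fin.prod_univ_eq_prod_range (fun i => q ^ (2 * (i + 1)) - 1)]
  rcases hcase with ⟨h', -⟩ | ⟨-, c, hc, ⟨k, rfl, -⟩ | ⟨k, rfl, rfl⟩⟩
  · obtain ⟨v, hv⟩ := hna
    exact absurd (h' v) hv
  · rw [Nat.even_iff] at heven; omega
  · simp only [CfsgLib.SpInvolCent.spOrd, hF] at hc
    rw [show (2 * k + 2 - 2) / 2 = k by omega]
    refine Nat.eq_of_mul_eq_mul_right (pow_pos hq0 (2 * m - (2 * k + 2))) (hc.trans ?_)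
    have he := CfsgLib.SpInvolCent.exp_orth_even m k hsm
    have e2 := congrArg (q ^ ·) he
    simp only [pow_add] at e2 ⊢
    linear_combination (q ^ (k ^ 2) * (∏ i ∈ Finset.range k, (q ^ (2 * (i + 1)) - 1)) *
      (q ^ ((m - (2 * k + 2)) ^ 2) * ∏ i ∈ Finset.range (m - (2 * k + 2)), (q ^ (2 * (i + 1)) - 1))) * e2.symm

end Cfsg.Agent.S2685
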