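import Cfsg.Statements.S2719
import Cfsg.Agent.Lib.PGOQuot.MinusGraph

set_option autoImplicit false
open Cfsg

namespace Cfsg.Agent.S2719

/-- Let T = PΩ⁻_{2m+2}(F) with m ≥ 3 and |F| = q odd (form with anisotropic binary part z₁² + a z₁ z₂ + b z₂²), G = Inndiag(T), and γ an involutory graph automorphism of T (an automorphism in the image of the semisimilarity group, not inner-diagonal, of order 2). Then the G-class of γ is either a single T-class or the union of exactly two T-classes, and it is the union of two unless m is even and q ≡ 1 (mod 4). -/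
theorem result {F : Type*} [Field F] [Fintype F] (hodd : Odd (Fintype.card F)) {m : ℕ} (hm : 3 ≤ m) (a b : F) (hab : (∀ z₁ z₂ : F, z₁ ^ 2 + a * z₁ * z₂ + b * z₂ ^ 2 = 0 → z₁ = 0 ∧ z₂ = 0)) (γ : MulAut (Cfsg.POmega F (Cfsg.quadFormMinus m F a b))) (hγ : Cfsg.IsGraphAutClassPOmegaMinus m a b γ) (hγ2 : orderOf γ = 2) :
    (Cfsg.splitClassCount (Cfsg.inndiagPOmegaMinus m F a b) (Cfsg.Inn (Cfsg.POmega F (Cfsg.quadFormMinus m F a b))) γ = 1 ∨ Cfsg.splitClassCount (Cfsg.inndiagPOmegaMinus m F a b) (Cfsg.Inn (Cfsg.POmega F (Cfsg.quadFormMinus m F a b))) γ = 2) ∧ (¬ (Even m ∧ Fintype.card F % 4 = 1) → Cfsg.splitClassCount (Cfsg.inndiagPOmegaMinus m F a b) (Cfsg.Inn (Cfsg.POmega F (Cfsg.quadFormMinus m F a b))) γ = 2) := by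
  classical
  obtain ⟨hgam, hnin, -⟩ := hγ
  have hsq : γ * γ = 1 := (pow_two γ).symm.trans (orderOf_dvd_iff_pow_eq_one.mp hγ2.dvd)
  obtain ⟨g, rfl⟩ := CfsgLib.PGOQuot.Minus.involution_eq_simAut hodd hm hab hgam hsq
  obtain ⟨S, -⟩ := CfsgLib.PGOQuot.Minus.exists_sim (F := F) hodd hm hab
  set C := CfsgLib.PGOQuot.Minus.ctx (F := F) hodd hm hab
  rw [CfsgLib.PGOQuot.Minus.inndiag_eq (F := F) hodd hm hab] at hnin ⊢
  have heps : C.eps g = -1 := (S.eps_sq g).resolve_left fun h => hnin ⟨g, h, rfl⟩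
  obtain ⟨h1, h3⟩ := S.graph_split_count g heps hsq
  obtain ⟨hth1, hth2⟩ := CfsgLib.PGOQuot.Minus.th_negI (F := F) hodd hm hab
  refine ⟨h1, fun hne => ?_⟩
  by_cases hA : Even m ∧ Fintype.card F % 4 = 3
  · exact h3 (hth1 hA)
  · refine S.graph_split_two_of_even ?_ (hth2 hA) g heps hsq
    show Even (m + 1)
    have : Fintype.card F % 4 = 1 ∨ Fintype.card F % 4 = 3 := by
      have := Nat.odd_iff.mp hodd; omega
    exact Nat.even_add_one.mpr fun he => this.elim (fun h => hne ⟨he, h⟩) fun h => hA ⟨he, h⟩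

end Cfsg.Agent.S2719
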