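import Cfsg.Statements.S2738
-- import your own Cfsg.Agent.* helpers here

set_option autoImplicit false
open Cfsg

namespace Cfsg.Agent.S2738

/-- The special linear group SL(3, 4) has centre of order 3 and does not split over it: no subgroup is a complement to the centre (so SL(3, 4) is a non-split central extension of PSL(3, 4) by a group of order 3). -/
theorem result (F : Type*) [Field F] [Fintype F] (hF : Fintype.card F = 4) : Nat.card ↥(Subgroup.center (Matrix.SpecialLinearGroup (Fin 3) F)) = 3 ∧ ¬ ∃ K : Subgroup (Matrix.SpecialLinearGroup (Fin 3) F), Subgroup.IsComplement' (Subgroup.center (Matrix.SpecialLinearGroup (Fin 3) F)) K := by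
  classical
  have hdiag : ∀ d : Fin 3 → F, d 0 * d 1 * d 2 = 1 → Matrix.det (Matrix.diagonal d) = 1 := by
    intro d hd
    rw [Matrix.det_diagonal, Fin.prod_univ_three]; exact hd
  have hZ : Nat.card ↥(Subgroup.center (Matrix.SpecialLinearGroup (Fin 3) F)) = 3 := by
    rw [Nat.card_congr (Matrix.SpecialLinearGroup.center_equiv_rootsOfUnity' (n := Fin 3) (R := F) 0).toEquiv,
      rootsOfUnity_eq_ker, IsCyclic.card_powMonoidHom_ker, Nat.card_units, Nat.card_eq_fintype_card, hF]
    rfl
  refine ⟨hZ, ?_⟩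
  rintro ⟨K, hK⟩
  haveI : Fact (Nat.Prime 3) := ⟨Nat.prime_three⟩
  obtain ⟨w, hw⟩ := exists_prime_orderOf_dvd_card' (G := Fˣ) 3
    (by rw [Nat.card_units, Nat.card_eq_fintype_card, hF])
  have hw3 : w ^ 3 = 1 := by rw [← hw]; exact pow_orderOf_eq_one w
  have hw3' : (w : F) ^ 3 = 1 := by rw [← Units.val_pow_eq_pow_val, hw3]; rfl
  have hw1 : (w : F) ≠ 1 := by
    intro h
    have : w = 1 := Units.ext h
    rw [this, orderOf_one] at hw
    omega
  let a : Matrix.SpecialLinearGroup (Fin 3) F :=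
    ⟨Matrix.diagonal ![1, (w : F), (w : F) ^ 2], hdiag _ (by simp; linear_combination hw3')⟩
  let b : Matrix.SpecialLinearGroup (Fin 3) F :=
    ⟨!![0, 1, 0; 0, 0, 1; 1, 0, 0], by simp [Matrix.det_fin_three]⟩
  let z : Matrix.SpecialLinearGroup (Fin 3) F :=
    ⟨Matrix.diagonal ![(w : F), (w : F), (w : F)], hdiag _ (by simp; linear_combination hw3')⟩
  have hz : z ∈ Subgroup.center (Matrix.SpecialLinearGroup (Fin 3) F) := by
    rw [Matrix.SpecialLinearGroup.mem_center_iff]
    refine ⟨(w : F), by simpa using hw3', ?_⟩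
    ext i j
    fin_cases i <;> fin_cases j <;> simp [z]
  have hrel : b * a = z * (a * b) := by
    apply Subtype.ext
    simp only [Matrix.SpecialLinearGroup.coe_mul]
    show !![0, 1, 0; 0, 0, 1; 1, 0, 0] * Matrix.diagonal ![(1 : F), (w : F), (w : F) ^ 2] =
      Matrix.diagonal ![(w : F), (w : F), (w : F)] *
        (Matrix.diagonal ![(1 : F), (w : F), (w : F) ^ 2] * !![0, 1, 0; 0, 0, 1; 1, 0, 0])
    ext i j
    fin_cases i <;> fin_cases j <;> simp [Matrix.mul_apply, Fin.sum_univ_three, Matrix.diagonal]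
    all_goals first | linear_combination (0 : F) * hw3' | linear_combination hw3' | linear_combination -hw3'
  have hdec : ∀ g, ∃ c ∈ Subgroup.center (Matrix.SpecialLinearGroup (Fin 3) F), ∃ k ∈ K, g = c * k := by
    intro g
    obtain ⟨⟨c, k⟩, h⟩ := (hK.existsUnique g).exists
    exact ⟨c, c.2, k, k.2, h.symm⟩
  obtain ⟨c, hc, k, hk, hak⟩ := hdec a
  obtain ⟨d, hd, l, hl, hbl⟩ := hdec b
  have hc' : ∀ g, g * c = c * g := fun g => Subgroup.mem_center_iff.mp hc g
  have hd' : ∀ g, g * d = d * g := fun g => Subgroup.mem_center_iff.mp hd g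
  have hzk : z = (l * k) * (k * l)⁻¹ := by
    rw [eq_mul_inv_iff_mul_eq]
    have h1 : b * a = (d * c) * (l * k) := by
      rw [hak, hbl, mul_assoc d l, ← mul_assoc l c, hc' l]; simp only [mul_assoc]
    have h2 : a * b = (d * c) * (k * l) := by
      rw [hak, hbl, mul_assoc c k, ← mul_assoc k d, hd' k, ← mul_assoc, ← mul_assoc, hd' c]
      simp only [mul_assoc]
    rw [h1, h2, ← mul_assoc z, ← (Subgroup.mem_center_iff.mp hz (d * c)), mul_assoc (d * c) z] at hrel
    exact (mul_left_cancel hrel).symm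
  have : z = 1 := by
    have := Subgroup.disjoint_def.mp hK.disjoint hz
      (hzk ▸ K.mul_mem (K.mul_mem hl hk) (K.inv_mem (K.mul_mem hk hl)))
    exact this
  apply hw1
  have h00 := congrArg (fun g : Matrix.SpecialLinearGroup (Fin 3) F => (g : Matrix (Fin 3) (Fin 3) F) 0 0) this
  simpa [z] using h00

end Cfsg.Agent.S2738
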