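import Cfsg.Statements.S2739
-- import your own Cfsg.Agent.* helpers here

set_option autoImplicit false
open scoped Pointwise
open Cfsg

namespace Cfsg.Agent.S2739

open Matrix Polynomial

private lemma cube_eq_one {F : Type*} [Field F] [Fintype F] (hF : Fintype.card F = 4) {a : F} (ha : a ≠ 0) :
    a ^ 3 = 1 := by
  have := FiniteField.pow_card_sub_one_eq_one a ha
  rwa [hF] at this

private lemma exists_omega {F : Type*} [Field F] [Fintype F] (hF : Fintype.card F = 4) :
    ∃ w : F, w ≠ 0 ∧ w ≠ 1 ∧ w ^ 2 + w + 1 = 0 := by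
  classical
  obtain ⟨w, hw⟩ : ∃ w : F, w ∉ ({0, 1} : Finset F) := by
    refine Finset.exists_mem_notMem_of_card_lt_card (t := Finset.univ) ?_ |>.imp fun _ h => h.2
    refine lt_of_le_of_lt Finset.card_le_two ?_
    rw [Finset.card_univ, hF]
    omega
  simp only [Finset.mem_insert, Finset.mem_singleton, not_or] at hw
  refine ⟨w, hw.1, hw.2, ?_⟩
  have h3 := cube_eq_one hF hw.1
  have : (w - 1) * (w ^ 2 + w + 1) = 0 := by linear_combination h3
  exact (mul_eq_zero.mp this).resolve_left (sub_ne_zero.mpr hw.2)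

private lemma two_eq_zero {F : Type*} [Field F] [Fintype F] (hF : Fintype.card F = 4) : (2 : F) = 0 := by
  have h := Nat.cast_card_eq_zero F
  rw [hF] at h
  have : (2 : F) * 2 = 0 := by push_cast at h; linear_combination h
  simpa using this

private lemma exists_conj_diag {F : Type*} [Field F] [Fintype F] (hF : Fintype.card F = 4) {w : F}
    (hw0 : w ≠ 0) (hw1 : w ≠ 1) (hw : w ^ 2 + w + 1 = 0) (g : Matrix (Fin 3) (Fin 3) F)
    (hg : g * g * g = 1) (hdet : g.det = 1) (hns : ∀ a : F, g ≠ a • (1 : Matrix (Fin 3) (Fin 3) F)) :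
    ∃ P : Matrix.SpecialLinearGroup (Fin 3) F, g * P.1 = P.1 * Matrix.diagonal ![1, w, w ^ 2] := by
  classical
  have h2 := two_eq_zero hF
  set S : Set (Fin 3 → F) := {v | ∃ a : F, g *ᵥ v = a • v} with hS
  have hspan : Submodule.span F S = ⊤ := by
    refine eq_top_iff.mpr fun v _ => ?_
    have hev : ∀ a : F, a ^ 3 = 1 → v + a ^ 2 • (g *ᵥ v) + a • (g *ᵥ (g *ᵥ v)) ∈ S := by
      intro a ha
      refine ⟨a, ?_⟩
      have hgv : g *ᵥ (g *ᵥ (g *ᵥ v)) = v := by
        rw [Matrix.mulVec_mulVec, Matrix.mulVec_mulVec, hg, Matrix.one_mulVec]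
      simp only [Matrix.mulVec_add, Matrix.mulVec_smul, hgv, smul_add, smul_smul]
      ext i
      simp only [Pi.add_apply, Pi.smul_apply, smul_eq_mul]
      linear_combination -(g *ᵥ v) i * ha
    have hw3 : w ^ 3 = 1 := cube_eq_one hF hw0
    have hsum : v = (v + (1 : F) ^ 2 • (g *ᵥ v) + (1 : F) • (g *ᵥ (g *ᵥ v))) +
        (v + w ^ 2 • (g *ᵥ v) + w • (g *ᵥ (g *ᵥ v))) +
        (v + (w ^ 2) ^ 2 • (g *ᵥ v) + w ^ 2 • (g *ᵥ (g *ᵥ v))) := by
      ext i
      simp only [Pi.add_apply, Pi.smul_apply, smul_eq_mul]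
      linear_combination -(g *ᵥ v) i * hw - (g *ᵥ (g *ᵥ v)) i * hw - v i * h2 -
        (g *ᵥ v) i * w * hw3
    rw [hsum]
    refine Submodule.add_mem _ (Submodule.add_mem _ ?_ ?_) ?_
    · exact Submodule.subset_span (hev 1 (one_pow 3))
    · exact Submodule.subset_span (hev w hw3)
    · exact Submodule.subset_span (hev (w ^ 2) (by linear_combination (w ^ 3 + 1) * hw3))
  obtain ⟨b, hbS, hbspan, hbli⟩ := exists_linearIndependent F S
  let B := Module.Basis.mk hbli (by rw [Subtype.range_coe, hbspan, hspan])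
  haveI : Fintype b := FiniteDimensional.fintypeBasisIndex B
  have hb3 : Fintype.card b = 3 := by
    rw [← Module.finrank_eq_card_basis B, Module.finrank_fin_fun]
  let e : Fin 3 ≃ b := (Fintype.equivFinOfCardEq hb3).symm
  choose a ha using fun i : Fin 3 => (hbS (e i).2)
  let M : Matrix (Fin 3) (Fin 3) F := Matrix.of fun i j => (e j).1 i
  have hMu : IsUnit M := by
    rw [← Matrix.linearIndependent_cols_iff_isUnit]
    exact hbli.comp e e.injective
  have hMdet : M.det ≠ 0 := (Matrix.isUnit_iff_isUnit_det M).mp hMu |>.ne_zero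
  have hgM : g * M = M * Matrix.diagonal a := by
    ext i j
    rw [Matrix.mul_diagonal]
    have := congrFun (ha j) i
    simp only [Matrix.mulVec, dotProduct, Pi.smul_apply, smul_eq_mul] at this
    rw [Matrix.mul_apply, mul_comm]
    exact this
  have hprod : a 0 * a 1 * a 2 = 1 := by
    have := congrArg Matrix.det hgM
    rw [Matrix.det_mul, Matrix.det_mul, hdet, Matrix.det_diagonal, Fin.prod_univ_three, one_mul] at this
    have h' : M.det * (a 0 * a 1 * a 2 - 1) = 0 := by linear_combination -this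
    exact sub_eq_zero.mp ((mul_eq_zero.mp h').resolve_left hMdet)
  have ha3 : ∀ i, a i ≠ 0 := by
    intro i hi
    fin_cases i <;> simp_all
  have hc := fun i => cube_eq_one hF (ha3 i)
  have heq : ∀ i j k : Fin 3, a i * a j * a k = 1 → a i = a j → a k = a i := by
    intro i j k h hij
    rw [← hij] at h
    linear_combination (a i) * h - (a k) * hc i
  have hconst : (a 0 = a 1 ∨ a 0 = a 2 ∨ a 1 = a 2) → a 1 = a 0 ∧ a 2 = a 0 := by
    rintro (h | h | h)
    · exact ⟨h.symm, heq 0 1 2 hprod h⟩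
    · exact ⟨heq 0 2 1 (by linear_combination hprod) h, h.symm⟩
    · have := heq 1 2 0 (by linear_combination hprod) h
      exact ⟨this.symm, h.symm.trans this.symm⟩
  have hinj : Function.Injective a := by
    intro i j hij
    by_contra hne
    have h01 : a 0 = a 1 ∨ a 0 = a 2 ∨ a 1 = a 2 := by
      match i, j with
      | 0, 0 => exact absurd rfl hne
      | 1, 1 => exact absurd rfl hne
      | 2, 2 => exact absurd rfl hne
      | 0, 1 => exact Or.inl hij
      | 1, 0 => exact Or.inl hij.symm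
      | 0, 2 => exact Or.inr (Or.inl hij)
      | 2, 0 => exact Or.inr (Or.inl hij.symm)
      | 1, 2 => exact Or.inr (Or.inr hij)
      | 2, 1 => exact Or.inr (Or.inr hij.symm)
    obtain ⟨k1, k2⟩ := hconst h01
    apply hns (a 0)
    have hd : Matrix.diagonal a = a 0 • (1 : Matrix (Fin 3) (Fin 3) F) := by
      rw [Matrix.smul_one_eq_diagonal]
      congr 1
      funext k
      match k with
      | 0 => rfl
      | 1 => exact k1
      | 2 => exact k2
    rw [hd, Matrix.mul_smul, Matrix.mul_one] at hgM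
    apply hMu.mul_right_cancel
    rw [hgM, Matrix.smul_mul, Matrix.one_mul]
  have hroot : ∀ i, a i = 1 ∨ a i = w ∨ a i = w ^ 2 := by
    intro i
    have : (a i - 1) * ((a i - w) * (a i - w ^ 2)) = 0 := by
      linear_combination hc i - (a i ^ 2 - a i) * hw - (1 + (a i - 1) * (-1)) * 0 + (a i - 1) * (cube_eq_one hF hw0)
    rcases mul_eq_zero.mp this with h | h
    · exact Or.inl (sub_eq_zero.mp h)
    · rcases mul_eq_zero.mp h with h | h
      · exact Or.inr (Or.inl (sub_eq_zero.mp h))
      · exact Or.inr (Or.inr (sub_eq_zero.mp h))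
  have hsurj : ∀ c ∈ ({1, w, w ^ 2} : Finset F), ∃ i, a i = c := by
    have hle : (Finset.univ.image a) ⊆ ({1, w, w ^ 2} : Finset F) := by
      intro c hc
      simp only [Finset.mem_image, Finset.mem_univ, true_and] at hc
      obtain ⟨i, rfl⟩ := hc
      simp only [Finset.mem_insert, Finset.mem_singleton]
      exact hroot i
    have hcard : ({1, w, w ^ 2} : Finset F).card ≤ (Finset.univ.image a).card := by
      rw [Finset.card_image_of_injective _ hinj, Finset.card_univ, Fintype.card_fin]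
      exact Finset.card_le_three
    intro c hc
    rw [← Finset.eq_of_subset_of_card_le hle hcard] at hc
    simpa using hc
  obtain ⟨i0, hi0⟩ := hsurj 1 (by simp)
  obtain ⟨i1, hi1⟩ := hsurj w (by simp)
  obtain ⟨i2, hi2⟩ := hsurj (w ^ 2) (by simp)
  have hπ : Function.Bijective ![i0, i1, i2] := by
    rw [Fintype.bijective_iff_injective_and_card]
    refine ⟨?_, rfl⟩
    intro i j h
    have hww : w ^ 2 ≠ 1 := fun h => hw0 (by linear_combination hw - h - h2)
    have hwx : w ^ 2 ≠ w := fun h => hw1 (mul_left_cancel₀ hw0 (by linear_combination h))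
    have hinj' : Function.Injective ![(1 : F), w, w ^ 2] := by
      intro k l hkl
      match k, l with
      | 0, 0 => rfl
      | 1, 1 => rfl
      | 2, 2 => rfl
      | 0, 1 => exact absurd (Eq.symm hkl) hw1
      | 1, 0 => exact absurd hkl hw1
      | 0, 2 => exact absurd (Eq.symm hkl) hww
      | 2, 0 => exact absurd hkl hww
      | 1, 2 => exact absurd (Eq.symm hkl) hwx
      | 2, 1 => exact absurd hkl hwx
    apply hinj'
    have hval : ∀ k, a (![i0, i1, i2] k) = ![(1 : F), w, w ^ 2] k := by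
      intro k
      match k with
      | 0 => exact hi0
      | 1 => exact hi1
      | 2 => exact hi2
    rw [← hval, ← hval, h]
  let π := Equiv.ofBijective _ hπ
  let N : Matrix (Fin 3) (Fin 3) F := M.submatrix id π
  have hN : g * N = N * Matrix.diagonal ![1, w, w ^ 2] := by
    have haπ : ∀ j, a (π j) = ![1, w, w ^ 2] j := by
      intro j; fin_cases j <;> simp [π, hi0, hi1, hi2]
    ext i j
    have := congrFun (congrFun hgM i) (π j)
    rw [Matrix.mul_diagonal, haπ] at this
    rw [Matrix.mul_diagonal]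
    show (g * N) i j = M i (π j) * _
    rw [← this]
    simp [N, Matrix.mul_apply]
  have hNdet : N.det ≠ 0 := by
    rw [Matrix.det_permute' π M]
    exact mul_ne_zero ((Units.isUnit _).map (Int.castRingHom F) |>.ne_zero) hMdet
  let D : Matrix (Fin 3) (Fin 3) F := Matrix.diagonal ![N.det⁻¹, 1, 1]
  refine ⟨⟨N * D, ?_⟩, ?_⟩
  · rw [Matrix.det_mul, Matrix.det_diagonal, Fin.prod_univ_three]
    simp [hNdet]
  · show g * (N * D) = N * D * _
    rw [← Matrix.mul_assoc, hN, Matrix.mul_assoc, Matrix.mul_assoc]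
    congr 1
    simp only [D, Matrix.diagonal_mul_diagonal]
    congr 1
    funext i
    ring

private lemma exists_conj_mk {F : Type*} [Field F] [Fintype F] (hF : Fintype.card F = 4) {w : F}
    (hw0 : w ≠ 0) (hw1 : w ≠ 1) (hw : w ^ 2 + w + 1 = 0) (d : Matrix.SpecialLinearGroup (Fin 3) F)
    (hd : d.1 = Matrix.diagonal ![1, w, w ^ 2])
    (x : Matrix.ProjectiveSpecialLinearGroup (Fin 3) F) (hx : orderOf x = 3) :
    ∃ h : Matrix.ProjectiveSpecialLinearGroup (Fin 3) F, x = h * QuotientGroup.mk d * h⁻¹ := by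
  obtain ⟨g, rfl⟩ := QuotientGroup.mk_surjective x
  have h3 : g ^ 3 ∈ Subgroup.center (Matrix.SpecialLinearGroup (Fin 3) F) := by
    rw [← QuotientGroup.eq_one_iff, QuotientGroup.mk_pow]
    exact orderOf_dvd_iff_pow_eq_one.mp hx.dvd
  obtain ⟨r, hr, hgr⟩ := Matrix.SpecialLinearGroup.mem_center_iff.mp h3
  rw [Fintype.card_fin] at hr
  have hg3 : g.1 ^ 3 = r • (1 : Matrix (Fin 3) (Fin 3) F) := by
    rw [Matrix.smul_one_eq_diagonal, ← Matrix.scalar_apply, hgr, Matrix.SpecialLinearGroup.coe_pow]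
  have hr0 : r ≠ 0 := by rintro rfl; simp at hr
  have hr1 : r = 1 := by
    by_contra hne
    have hirr : Irreducible (X ^ 3 - C r : F[X]) := by
      have hdeg : (X ^ 3 - C r : F[X]).natDegree = 3 := natDegree_X_pow_sub_C
      rw [Polynomial.irreducible_iff_roots_eq_zero_of_degree_le_three (by omega) (by omega),
        Multiset.eq_zero_iff_forall_notMem]
      intro a ha
      rw [Polynomial.mem_roots', Polynomial.IsRoot, eval_sub, eval_pow, eval_X, eval_C] at ha
      by_cases h0 : a = 0
      · subst h0; exact hr0 (by linear_combination -ha.2)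
      · exact hne (by linear_combination cube_eq_one hF h0 - ha.2)
    have haev : aeval g.1 (X ^ 3 - C r : F[X]) = 0 := by
      rw [map_sub, map_pow, aeval_X, aeval_C, hg3, Algebra.algebraMap_eq_smul_one, sub_self]
    have hmin : (X ^ 3 - C r : F[X]) = minpoly F g.1 :=
      minpoly.eq_of_irreducible_of_monic hirr haev (monic_X_pow_sub_C r (by norm_num))
    have hchar : g.1.charpoly = X ^ 3 - C r := by
      refine (Polynomial.eq_of_monic_of_dvd_of_natDegree_le (monic_X_pow_sub_C r (by norm_num))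
        (Matrix.charpoly_monic g.1) (hmin ▸ Matrix.minpoly_dvd_charpoly g.1) ?_)
      rw [Matrix.charpoly_natDegree_eq_dim, natDegree_X_pow_sub_C, Fintype.card_fin]
    have hdet : g.1.det = r := by
      rw [Matrix.det_eq_sign_charpoly_coeff, hchar, coeff_sub, coeff_X_pow, coeff_C_zero, Fintype.card_fin]
      simp [two_eq_zero hF]
      ring
    exact hne (hdet.symm.trans g.2)
  subst hr1
  rw [one_smul] at hg3
  have hns : ∀ a : F, g.1 ≠ a • (1 : Matrix (Fin 3) (Fin 3) F) := by
    intro a ha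
    have : (QuotientGroup.mk g : Matrix.ProjectiveSpecialLinearGroup (Fin 3) F) = 1 := by
      rw [QuotientGroup.eq_one_iff, Matrix.SpecialLinearGroup.mem_center_iff]
      refine ⟨a, ?_, ?_⟩
      · have := g.2
        rw [ha, Matrix.det_smul, Matrix.det_one, mul_one] at this
        exact this
      · rw [ha, Matrix.smul_one_eq_diagonal]; rfl
    rw [this, orderOf_one] at hx
    omega
  obtain ⟨P, hP⟩ := exists_conj_diag hF hw0 hw1 hw g.1
    (by rw [← hg3, pow_succ, sq]) g.2 hns
  refine ⟨QuotientGroup.mk P, ?_⟩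
  rw [← QuotientGroup.mk_inv, ← QuotientGroup.mk_mul, ← QuotientGroup.mk_mul]
  congr 1
  rw [eq_mul_inv_iff_mul_eq]
  apply Subtype.ext
  rw [Matrix.SpecialLinearGroup.coe_mul, Matrix.SpecialLinearGroup.coe_mul, hd]
  exact hP

/-- In the projective special linear group PSL(3, 4) all subgroups of order 3 are conjugate. -/
theorem result (F : Type*) [Field F] [Fintype F] (hF : Fintype.card F = 4) (X Y : Subgroup (Matrix.ProjectiveSpecialLinearGroup (Fin 3) F)) (hX : Nat.card ↥X = 3) (hY : Nat.card ↥Y = 3) : ∃ g : Matrix.ProjectiveSpecialLinearGroup (Fin 3) F, MulAut.conj g • X = Y := by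
  classical
  obtain ⟨w, hw0, hw1, hw⟩ := exists_omega hF
  let d : Matrix.SpecialLinearGroup (Fin 3) F := ⟨Matrix.diagonal ![1, w, w ^ 2], by
    rw [Matrix.det_diagonal, Fin.prod_univ_three]
    simp
    linear_combination cube_eq_one hF hw0⟩
  haveI : Fact (Nat.Prime 3) := ⟨Nat.prime_three⟩
  have key : ∀ Z : Subgroup (Matrix.ProjectiveSpecialLinearGroup (Fin 3) F), Nat.card ↥Z = 3 →
      ∃ h : Matrix.ProjectiveSpecialLinearGroup (Fin 3) F,
        Z = MulAut.conj h • Subgroup.zpowers (QuotientGroup.mk d) := by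
    intro Z hZ
    obtain ⟨z, hz⟩ := exists_prime_orderOf_dvd_card' (G := ↥Z) 3 (by rw [hZ])
    have hz' : orderOf (z : Matrix.ProjectiveSpecialLinearGroup (Fin 3) F) = 3 := by
      rw [Subgroup.orderOf_coe, hz]
    obtain ⟨h, hh⟩ := exists_conj_mk hF hw0 hw1 hw d rfl _ hz'
    refine ⟨h, ?_⟩
    have hZz : Subgroup.zpowers (z : Matrix.ProjectiveSpecialLinearGroup (Fin 3) F) = Z := by
      refine Subgroup.eq_of_le_of_card_ge (Subgroup.zpowers_le.mpr z.2) ?_
      rw [hZ, Nat.card_zpowers, hz']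
    rw [← hZz, hh, Subgroup.pointwise_smul_def]
    exact (MonoidHom.map_zpowers (MulAut.conj h).toMonoidHom (QuotientGroup.mk d)).symm
  obtain ⟨h, hh⟩ := key X hX
  obtain ⟨k, hk⟩ := key Y hY
  refine ⟨k * h⁻¹, ?_⟩
  rw [hh, hk, smul_smul, ← map_mul, inv_mul_cancel_right]

end Cfsg.Agent.S2739
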