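import Cfsg.Statements.S2751
import Cfsg.Agent.Lib.Amalgam33.Main
import Cfsg.Agent.Lib.Solvable.Core
-- import your own Cfsg.Agent.* helpers here

set_option autoImplicit false
set_option linter.style.haveILetI false
open Cfsg

namespace Cfsg.Agent.S2751

/-- Goldschmidt's bound for amalgams of index (3, 3): let M₁ and M₂ be finite subgroups of a group G such that M₁ ⊓ M₂ is a Sylow 2-subgroup of both M₁ and M₂, each quotient Mᵢ / O₂(Mᵢ) is isomorphic to the symmetric group of degree 3, and no nontrivial subgroup of M₁ ⊓ M₂ is normal in both M₁ and M₂. Then M₁ ⊓ M₂ has order at most 2^7. -/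
theorem result {G : Type*} [Group G] (M₁ M₂ : Subgroup G) [Finite M₁] [Finite M₂] (ha₁ : ∃ P : Sylow 2 M₁, (P : Subgroup M₁) = (M₁ ⊓ M₂).subgroupOf M₁) (ha₂ : ∃ P : Sylow 2 M₂, (P : Subgroup M₂) = (M₁ ⊓ M₂).subgroupOf M₂) (hb₁ : Nonempty (M₁ ⧸ Cfsg.pCore 2 M₁ ≃* Equiv.Perm (Fin 3))) (hb₂ : Nonempty (M₂ ⧸ Cfsg.pCore 2 M₂ ≃* Equiv.Perm (Fin 3))) (hc : ∀ N : Subgroup G, N ≤ M₁ ⊓ M₂ → (N.subgroupOf M₁).Normal → (N.subgroupOf M₂).Normal → N = ⊥) : Nat.card ↥(M₁ ⊓ M₂) ≤ 2 ^ 7 := by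
  classical
  set X : Subgroup G := M₁ ⊔ M₂
  have h1 : M₁ ≤ X := le_sup_left
  have h2 : M₂ ≤ X := le_sup_right
  set N₁ := M₁.subgroupOf X
  set N₂ := M₂.subgroupOf X
  let e₁ := Subgroup.subgroupOfEquivOfLe h1
  let e₂ := Subgroup.subgroupOfEquivOfLe h2
  haveI : Finite ↥N₁ := Finite.of_equiv _ e₁.symm.toEquiv
  haveI : Finite ↥N₂ := Finite.of_equiv _ e₂.symm.toEquiv
  have hgen : N₁ ⊔ N₂ = ⊤ := by
    rw [← Subgroup.subgroupOf_sup h1 h2, Subgroup.subgroupOf_self]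
  have hsyl : ∀ (M : Subgroup G) (N : Subgroup ↥X) (hN : N = M.subgroupOf X) (e : ↥N ≃* ↥M),
      (∀ p : ↥N, ((e p : ↥M) : G) = ((p : ↥X) : G)) →
      (∃ P : Sylow 2 ↥M, (P : Subgroup ↥M) = (M₁ ⊓ M₂).subgroupOf M) →
      ∃ P : Sylow 2 ↥N, (P : Subgroup ↥N) = (N₁ ⊓ N₂).subgroupOf N := by
    rintro M N - e he ⟨P, hP⟩
    have hinj : Function.Injective e.toMonoidHom := e.injective
    have hrange : (P : Subgroup ↥M) ≤ e.toMonoidHom.range := fun m _ => by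
      rw [MonoidHom.mem_range]
      exact ⟨e.symm m, e.apply_symm_apply m⟩
    refine ⟨P.comapOfInjective e.toMonoidHom hinj hrange, ?_⟩
    rw [Sylow.coe_comapOfInjective, hP]
    ext p
    simp only [Subgroup.mem_comap, Subgroup.mem_subgroupOf, Subgroup.mem_inf, N₁, N₂]
    rw [show ((e.toMonoidHom p : ↥M) : G) = ((p : ↥X) : G) from he p]
  have hquot : ∀ (A B : Type _) [Group A] [Group B] (e : A ≃* B),
      Nonempty (B ⧸ Cfsg.pCore 2 B ≃* Equiv.Perm (Fin 3)) →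
      Nonempty (A ⧸ Cfsg.pCore 2 A ≃* Equiv.Perm (Fin 3)) := by
    rintro A B _ _ e ⟨f⟩
    haveI : (Cfsg.pCore 2 A).Normal := CfsgLib.CharP.pCore_normal'
    haveI : (Cfsg.pCore 2 B).Normal := CfsgLib.CharP.pCore_normal'
    exact ⟨(QuotientGroup.congr _ _ e (CfsgLib.Solvable.map_pCore_mulEquiv (p := 2) e)).trans f⟩
  have hcore : ∀ N : Subgroup ↥X, N ≤ N₁ ⊓ N₂ → (∀ g ∈ N₁, ∀ n ∈ N, g * n * g⁻¹ ∈ N) →
      (∀ g ∈ N₂, ∀ n ∈ N, g * n * g⁻¹ ∈ N) → N = ⊥ := by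
    intro N hN hn1 hn2
    have hmap : N.map X.subtype = ⊥ := by
      refine hc _ ?_ ⟨fun n hn g => ?_⟩ ⟨fun n hn g => ?_⟩
      · rintro _ ⟨n, hn, rfl⟩
        exact ⟨(hN hn).1, (hN hn).2⟩
      · rw [Subgroup.mem_subgroupOf] at hn ⊢
        obtain ⟨m, hm, hmn⟩ := hn
        exact ⟨⟨g, h1 g.2⟩ * m * ⟨g, h1 g.2⟩⁻¹, hn1 _ g.2 m hm, by simp [← hmn]⟩
      · rw [Subgroup.mem_subgroupOf] at hn ⊢
        obtain ⟨m, hm, hmn⟩ := hn
        exact ⟨⟨g, h2 g.2⟩ * m * ⟨g, h2 g.2⟩⁻¹, hn2 _ g.2 m hm, by simp [← hmn]⟩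
    rwa [Subgroup.map_eq_bot_iff_of_injective _ X.subtype_injective] at hmap
  have hmain := CfsgLib.A33.card_le_of_gen hgen hcore (hsyl M₁ N₁ rfl e₁ (fun p => rfl) ha₁)
    (hsyl M₂ N₂ rfl e₂ (fun p => rfl) ha₂) (hquot _ _ e₁ hb₁) (hquot _ _ e₂ hb₂)
  have hX : M₁ ⊓ M₂ ≤ X := inf_le_left.trans h1
  refine le_trans (le_of_eq ?_) (le_trans hmain (by norm_num))
  exact (Nat.card_congr (Subgroup.subgroupOfEquivOfLe hX).toEquiv).symm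

end Cfsg.Agent.S2751
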