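import Cfsg.Statements.S2752
import Cfsg.Agent.Lib.LocalEven.SquareBound.Fixed
import Cfsg.Agent.Lib.LocalEven.SquareBound.Inverter
import Mathlib.Algebra.Module.ZMod
open scoped commutatorElement
open CfsgLib.LocalEven

set_option autoImplicit false
universe u
open Cfsg

namespace Cfsg.Agent.S2752

/-- Let M be an elementary abelian 2-subgroup of a finite group L and G a subgroup of L acting faithfully on M by conjugation (G normalizes M and meets C(M) trivially). Assume O₂(G) = 1, the symmetric group of degree 3 is not involved in G, and every non-abelian composition factor of G is a Suzuki group Sz(2^(2n+1)) or a group PSL₂(3^(2n+1)). Then every elementary abelian 2-subgroup A of G satisfies |M / C_M(A)| ≥ |A|² and |[M, A]| ≥ |A|². -/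
theorem result {L : Type u} [Group L] [Finite L] (M G : Subgroup L) (hM : Cfsg.IsElementaryAbelian 2 M) (hGM : G ≤ Subgroup.normalizer (M : Set L)) (hf : G ⊓ Subgroup.centralizer (M : Set L) = ⊥) (ha : Cfsg.pCore 2 ↥G = ⊥) (hb : ¬ Cfsg.Involves (Equiv.Perm (Fin 3)) ↥G) (hc : Cfsg.IsCompositionKGroupWith Cfsg.IsSuzukiOrPSL2OddPowerThree ↥G) (A : Subgroup L) (hA : A ≤ G) (hAe : Cfsg.IsElementaryAbelian 2 A) : Nat.card A ^ 2 * Nat.card ↥(M ⊓ Subgroup.centralizer (A : Set L)) ≤ Nat.card M ∧ Nat.card A ^ 2 ≤ Nat.card ↥⁅M, A⁆ := by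
  classical
  haveI : Fact (Nat.Prime 2) := ⟨Nat.prime_two⟩
  haveI := hM.1
  haveI := hAe.1
  letI : CommGroup ↥M := { (inferInstance : Group ↥M) with mul_comm := fun a b => mul_comm' a b }
  letI : Module (ZMod 2) (Additive ↥M) := AddCommGroup.zmodModule (fun x => by
    rw [two_nsmul]
    show Additive.ofMul (x.toMul * x.toMul) = Additive.ofMul 1
    congr 1
    exact Subtype.ext (by rw [Subgroup.coe_mul, ← pow_two]; exact hM.2 _ x.toMul.2))
  let act : ↥G →* MulAut ↥M := (Subgroup.normalizerMonoidHom M).comp (Subgroup.inclusion hGM)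
  let ρ : Representation (ZMod 2) ↥G (Additive ↥M) :=
    { toFun := fun g => (act g).toMonoidHom.toAdditive.toZModLinearMap 2
      map_one' := LinearMap.ext fun v => by
        show Additive.ofMul ((act 1) v.toMul) = v
        rw [map_one]; rfl
      map_mul' := fun g h => LinearMap.ext fun v => by
        show Additive.ofMul ((act (g * h)) v.toMul) = Additive.ofMul (act g (act h v.toMul))
        rw [map_mul]; rfl }
  have hact : ∀ (g : ↥G) (v : Additive ↥M), ((ρ g v).toMul : L) = (g : L) * (v.toMul : L) * (g : L)⁻¹ :=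
    fun g v => rfl
  have hρ : Function.Injective ρ := by
    intro g h hgh
    have hmem : g⁻¹ * h ∈ (⊥ : Subgroup ↥G) := by
      refine Subgroup.mem_bot.2 (Subtype.ext ?_)
      have : ((g⁻¹ * h : ↥G) : L) ∈ G ⊓ Subgroup.centralizer (M : Set L) := by
        refine ⟨(g⁻¹ * h).2, fun m hm => ?_⟩
        have h1 : (g : L) * m * (g : L)⁻¹ = (h : L) * m * (h : L)⁻¹ := by
          have := congrArg (fun v : Additive ↥M => ((v.toMul : ↥M) : L)) (LinearMap.congr_fun hgh (Additive.ofMul ⟨m, hm⟩))
          simpa [hact] using this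
        show m * ((g : L)⁻¹ * (h : L)) = (g : L)⁻¹ * (h : L) * m
        calc m * ((g : L)⁻¹ * (h : L)) = (g : L)⁻¹ * ((g : L) * m * (g : L)⁻¹) * (h : L) := by group
          _ = (g : L)⁻¹ * (h : L) * m := by rw [h1]; group
      rw [hf, Subgroup.mem_bot] at this
      exact this
    rw [Subgroup.mem_bot, inv_mul_eq_one] at hmem
    exact hmem
  set A' := A.subgroupOf G
  have hA' : Cfsg.IsElementaryAbelian 2 A' :=
    ⟨⟨⟨fun a b => Subtype.ext (Subtype.ext (setLike_mul_comm (show ((a:↥G):L) ∈ A from a.2) (show ((b:↥G):L) ∈ A from b.2)))⟩⟩,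
      fun a ha => Subtype.ext (by simpa using hAe.2 _ ha)⟩
  have hinv : ∀ B : Subgroup ↥G, Cfsg.IsElementaryAbelian 2 B → B ≠ ⊥ → SquareBound.Inverter B :=
    fun B hB hB1 => SquareBound.exists_inverter ha hb hc hB hB1
  obtain ⟨n, hn⟩ := (show IsPGroup 2 ↥A' from fun z => ⟨1, Subtype.ext (by rw [pow_one]; exact hA'.2 _ z.2)⟩).exists_card_eq
  have hcardA : Nat.card A = 2 ^ n := by
    rw [← hn]; exact Nat.card_congr (Subgroup.subgroupOfEquivOfLe hA).symm.toEquiv
  have hcardV : Nat.card M = 2 ^ Module.finrank (ZMod 2) (Additive ↥M) := by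
    rw [show Nat.card M = Nat.card (Additive ↥M) from rfl, Module.natCard_eq_pow_finrank (K := ZMod 2), Nat.card_zmod]
  constructor
  · have h1 := SquareBound.fix_bound ρ hρ hinv n A' hA' hn
    have h2 : Nat.card ↥(M ⊓ Subgroup.centralizer (A : Set L)) = 2 ^ Module.finrank (ZMod 2) (SquareBound.fix ρ A') := by
      have h3 : Nat.card ↥(M ⊓ Subgroup.centralizer (A : Set L)) = Nat.card (SquareBound.fix ρ A') := by
        refine Nat.card_congr
          ⟨fun m => ⟨Additive.ofMul ⟨m.1, m.2.1⟩, (SquareBound.mem_fix ρ).2 fun a ha' => ?_⟩,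
           fun v => ⟨(v.1.toMul : L), v.1.toMul.2, fun a ha' => ?_⟩, fun m => rfl, fun v => rfl⟩
        · refine Additive.toMul.injective (Subtype.ext ?_)
          rw [hact]
          exact mul_inv_eq_iff_eq_mul.2 (m.2.2 a.1 ha')
        · have h4 := congrArg (fun w : Additive ↥M => ((w.toMul : ↥M) : L))
            ((SquareBound.mem_fix ρ).1 v.2 ⟨a, hA ha'⟩ ha')
          simp only [hact] at h4
          exact mul_inv_eq_iff_eq_mul.1 h4
      rw [h3, Module.natCard_eq_pow_finrank (K := ZMod 2), Nat.card_zmod]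
    rw [hcardA, h2, hcardV, ← pow_mul, ← pow_add]
    exact Nat.pow_le_pow_right two_pos (by omega)
  · have h1 := SquareBound.comm_bound ρ hρ hinv hA' hn
    have hle : ⁅M, A⁆ ≤ M := by
      rw [Subgroup.commutator_le]
      intro m hm a ha'
      have := (Subgroup.mem_normalizer_iff.1 (hGM (hA ha')) m⁻¹).1 (M.inv_mem hm)
      rw [commutatorElement_def]
      have e : m * a * m⁻¹ * a⁻¹ = m * (a * m⁻¹ * a⁻¹) := by group
      rw [e]
      exact M.mul_mem hm this
    set W : Submodule (ZMod 2) (Additive ↥M) :=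
      AddSubgroup.toZModSubmodule 2 (Subgroup.toAddSubgroup (⁅M, A⁆.subgroupOf M))
    have hcomm : SquareBound.comm ρ A' ≤ W := by
      refine iSup_le fun a => ?_
      rintro _ ⟨v, rfl⟩
      show ((ρ a v - v).toMul : L) ∈ ⁅M, A⁆
      have e : ((ρ a v - v).toMul : L) = ⁅((v.toMul : ↥M) : L)⁻¹, ((a : ↥G) : L)⁆ := by
        rw [toMul_sub, Subgroup.coe_div, hact, commutatorElement_def, inv_inv, div_eq_mul_inv]
        have hcm : ∀ x y : ↥M, (x : L) * y = y * x := fun x y => congrArg Subtype.val (mul_comm x y)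
        set m := v.toMul
        have hc' : ((a : ↥G) : L) * (m : L) * ((a : ↥G) : L)⁻¹ ∈ M :=
          (Subgroup.mem_normalizer_iff.1 (hGM a.1.2) _).1 m.2
        have h5 := hcm ⟨_, hc'⟩ m⁻¹
        simp only [Subgroup.coe_inv] at h5
        rw [h5]
        group
      rw [e]
      exact Subgroup.commutator_mem_commutator (M.inv_mem v.toMul.2) a.2
    have h2 : Nat.card ↥⁅M, A⁆ = 2 ^ Module.finrank (ZMod 2) W := by
      have h3 : Nat.card W = Nat.card ↥⁅M, A⁆ :=
        Nat.card_congr ?_
      · rw [← h3, Module.natCard_eq_pow_finrank (K := ZMod 2), Nat.card_zmod]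
      · exact (Subgroup.subgroupOfEquivOfLe hle).toEquiv
    rw [hcardA, h2, ← pow_mul]
    exact Nat.pow_le_pow_right two_pos (by have := Submodule.finrank_mono hcomm; omega)

end Cfsg.Agent.S2752
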