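import Cfsg.Statements.S2755
import Cfsg.Agent.Lib.Goldschmidt.Families
import Cfsg.Agent.Lib.Goldschmidt.JankoOne
import Cfsg.Agent.Lib.Goldschmidt.Unitary
import Cfsg.Agent.Lib.Goldschmidt.ReeCentral

set_option autoImplicit false
open Cfsg

namespace Cfsg.Agent.S2755

/-- Every finite Goldschmidt group is S₄-free (the symmetric group of degree 4 is not involved in it); and for a finite Goldschmidt group G, the symmetric group of degree 3 is not involved in G exactly when G is a Suzuki group or PSL₂ over a field with 3^(2n+1) elements. -/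
theorem result {G : Type*} [Group G] [Finite G] (hG : Cfsg.IsGoldschmidtGroup G) : ¬ Cfsg.Involves (Equiv.Perm (Fin 4)) G ∧ (¬ Cfsg.Involves (Equiv.Perm (Fin 3)) G ↔ Cfsg.IsSuzukiOrPSL2OddPowerThree G) := by
  have hfree : Cfsg.IsSuzukiOrPSL2OddPowerThree G → ¬ Cfsg.Involves (Equiv.Perm (Fin 3)) G := by
    rintro (hS | ⟨F, _, _, n, hF, ⟨e⟩⟩)
    · exact CfsgLib.Goldschmidt.not_involves_of_not_three (by
        rw [Nat.card_perm, Nat.card_fin]; norm_num [Nat.factorial])
        (CfsgLib.Goldschmidt.suzuki_facts hS)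
    · exact fun h => CfsgLib.Goldschmidt.not_involves_three_psl hF
        (CfsgLib.Goldschmidt.involves_congr e.symm h)
  suffices h : ¬ Cfsg.Involves (Equiv.Perm (Fin 4)) G ∧
      (Cfsg.Involves (Equiv.Perm (Fin 3)) G ∨ Cfsg.IsSuzukiOrPSL2OddPowerThree G) from
    ⟨h.1, ⟨h.2.resolve_left, hfree⟩⟩
  rcases hG with hR | ⟨F, _, _, n, hn, hF, ⟨e⟩⟩ | hS | ⟨F, _, _, n, hn, hF, ⟨e⟩⟩ |
    ⟨F, _, _, q, hF, hq5, hq, ⟨e⟩⟩ | ⟨⟨e⟩⟩
  · exact ⟨CfsgLib.Goldschmidt.not_involves_four_of_ree hR,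
      Or.inl (CfsgLib.Goldschmidt.involves_three_of_ree hR)⟩
  · refine ⟨fun h => CfsgLib.Goldschmidt.not_involves_four_of_abelian
      (CfsgLib.Goldschmidt.comm_sylow_psl_two_pow (by omega) hF)
      (CfsgLib.Goldschmidt.involves_congr e.symm h),
      Or.inl (CfsgLib.Goldschmidt.involves_congr e
        (CfsgLib.Goldschmidt.involves_three_psl fun h3 => ?_))⟩
    haveI : CharP F 2 := charP_of_card_eq_prime_pow (hp := ⟨Nat.prime_two⟩) hF
    have h2 : (2 : F) = 0 := CharTwo.two_eq_zero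
    exact one_ne_zero (α := F) (by linear_combination h3 - h2)
  · exact ⟨CfsgLib.Goldschmidt.not_involves_of_not_three (by
      rw [Nat.card_perm, Nat.card_fin]; norm_num [Nat.factorial])
      (CfsgLib.Goldschmidt.suzuki_facts hS), Or.inr (Or.inl hS)⟩
  · have hF' : Fintype.card F = (2 ^ n) ^ 2 := by
      rw [hF, ← pow_mul, mul_comm, pow_mul]; norm_num
    exact ⟨fun h => CfsgLib.Goldschmidt.not_involves_four_psu n hF'
      (CfsgLib.Goldschmidt.involves_congr e.symm h),
      Or.inl (CfsgLib.Goldschmidt.involves_congr e (CfsgLib.Goldschmidt.involves_three_psu n hF'))⟩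
  · refine ⟨fun h => CfsgLib.Goldschmidt.not_involves_four_of_abelian
      (CfsgLib.Goldschmidt.comm_sylow_psl_odd hF hq)
      (CfsgLib.Goldschmidt.involves_congr e.symm h), ?_⟩
    rcases CfsgLib.Goldschmidt.psl_odd_cases hF hq with ⟨m, hm⟩ | h3
    · exact Or.inr (Or.inr ⟨F, inferInstance, inferInstance, m, hm, ⟨e⟩⟩)
    · exact Or.inl (CfsgLib.Goldschmidt.involves_congr e (CfsgLib.Goldschmidt.involves_three_psl h3))
  · exact ⟨fun h => CfsgLib.Goldschmidt.not_involves_four_of_abelian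
      CfsgLib.Goldschmidt.comm_sylow_janko (CfsgLib.Goldschmidt.involves_congr e.symm h),
      Or.inl (CfsgLib.Goldschmidt.involves_congr e CfsgLib.Goldschmidt.involves_three_janko)⟩

end Cfsg.Agent.S2755
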