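import Cfsg.Statements.S2756
import Cfsg.Agent.Lib.LocalEven.InvertedZJ
import Cfsg.Agent.Lib.Invol.BaerSuzuki

set_option autoImplicit false
set_option linter.style.haveILetI false
open Cfsg Subgroup
open CfsgLib.LocalEven.Inverted

namespace Cfsg.Agent.S2756


theorem normal_sylow_two_subgroup {G : Type*} [Group G] [Finite G]
    (h : ∀ P : Sylow 2 G, (P : Subgroup G).Normal) (N : Subgroup G) (P : Sylow 2 N) :
    (P : Subgroup N).Normal := by
  haveI : Fact (Nat.Prime 2) := ⟨Nat.prime_two⟩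
  obtain ⟨R, hR⟩ := (P.isPGroup'.map N.subtype).exists_le_sylow
  haveI := h R
  have e : (R : Subgroup G).subgroupOf N = (P : Subgroup N) :=
    P.is_maximal' R.isPGroup'.comap_subtype fun x hx => hR (mem_map_of_mem _ hx)
  rw [← e]
  infer_instance

theorem not_inverted {K : Type*} [Group K] [Finite K] (h : ∀ P : Sylow 2 K, (P : Subgroup K).Normal)
    {q : ℕ} (hqo : Odd q) {x g : K} {k : ℕ} (hk : x ^ q ^ k = 1) (hgx : g * x * g⁻¹ = x⁻¹) : x = 1 := by
  haveI : Fact (Nat.Prime 2) := ⟨Nat.prime_two⟩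
  obtain ⟨m, hm, j, hj⟩ := exists_two_part g
  have he := pow_conj_of_odd hgx hm
  set y := g ^ m
  have hy : IsPGroup 2 (zpowers y) := by
    rintro ⟨z, hz⟩
    obtain ⟨i, rfl⟩ := mem_zpowers_iff.1 hz
    refine ⟨j, Subtype.ext ?_⟩
    show (y ^ i) ^ 2 ^ j = 1
    rw [← zpow_natCast, ← zpow_mul, mul_comm, zpow_mul, zpow_natCast, hj, one_zpow]
  obtain ⟨P, hP⟩ := hy.exists_le_sylow
  have hyP : y ∈ (P : Subgroup K) := hP (mem_zpowers y)
  have hxx : x * x ∈ (P : Subgroup K) := by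
    rw [show x * x = x * y * x⁻¹ * y⁻¹ from by
      rw [show x * y * x⁻¹ * y⁻¹ = x * (y * x⁻¹ * y⁻¹) by group,
        show y * x⁻¹ * y⁻¹ = (y * x * y⁻¹)⁻¹ by group, he, inv_inv]]
    exact mul_mem ((h P).conj_mem _ hyP x) (inv_mem hyP)
  obtain ⟨l, hl⟩ := P.isPGroup' ⟨x * x, hxx⟩
  have h1 : x ^ 2 ^ (l + 1) = 1 := by
    rw [pow_succ', pow_mul, pow_two]; exact congrArg Subtype.val hl
  refine orderOf_eq_one_iff.1 (Nat.eq_one_of_dvd_coprimes ?_ (orderOf_dvd_of_pow_eq_one h1)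
    (orderOf_dvd_of_pow_eq_one hk))
  exact Nat.Coprime.pow _ _ (Nat.coprime_two_left.2 hqo)

theorem exists_bad {G : Type*} [Group G] [Finite G] {P : Sylow 2 G} (hP : ¬ (P : Subgroup G).Normal) :
    ∃ q : ℕ, q.Prime ∧ q ≠ 2 ∧ (∀ _ : Fact q.Prime, Bad q (⊤ : Subgroup G)) := by
  haveI : Fact (Nat.Prime 2) := ⟨Nat.prime_two⟩
  set O := Cfsg.pCore 2 G with hO
  haveI : O.Normal := CfsgLib.Solvable.pCore_normal 2 G
  obtain ⟨p, hp, hpO⟩ : ∃ p ∈ (P : Subgroup G), p ∉ O := by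
    by_contra hcon
    push Not at hcon
    have e : O = (P : Subgroup G) :=
      P.is_maximal' (CfsgLib.Solvable.pCore_isPGroup 2 G) hcon
    exact hP (e ▸ inferInstance)
  have heven : 2 ∣ Nat.card (G ⧸ O) := by
    obtain ⟨i, hi⟩ := P.isPGroup' ⟨p, hp⟩
    obtain ⟨j, -, hj⟩ := (Nat.dvd_prime_pow Nat.prime_two).1
      ((orderOf_map_dvd (QuotientGroup.mk' O) p).trans
        (orderOf_dvd_of_pow_eq_one (congrArg Subtype.val hi)))
    rcases Nat.eq_zero_or_pos j with rfl | hj0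
    · exact absurd ((QuotientGroup.eq_one_iff p).1 (orderOf_eq_one_iff.1 (by rw [pow_zero] at hj; exact hj))) hpO
    · have h2 : 2 ∣ orderOf (QuotientGroup.mk' O p) := by rw [hj]; exact dvd_pow_self 2 hj0.ne'
      exact h2.trans (orderOf_dvd_natCard _)
  obtain ⟨t, ht⟩ := exists_prime_orderOf_dvd_card' 2 heven
  obtain ⟨h, hh1, hodd, hth⟩ := CfsgLib.Invol.exists_odd_inverted_of_notMem_normal_two ht fun N hN hN2 htN => by
    have := CfsgLib.PLoc.le_pCore_of hN hN2 htN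
    rw [CfsgLib.Solvable.pCore_quotient_eq_bot (p := 2) O rfl, mem_bot] at this
    rw [this, orderOf_one] at ht
    exact absurd ht (by norm_num)
  obtain ⟨q, hq, hqd⟩ := Nat.exists_prime_and_dvd (fun e => hh1 (orderOf_eq_one_iff.1 e))
  have hq2 : q ≠ 2 := fun e => Nat.not_even_iff_odd.2 hodd (even_iff_two_dvd.2 (e ▸ hqd))
  refine ⟨q, hq, hq2, fun hF => ?_⟩
  obtain ⟨c, hc⟩ := hqd
  refine bad_of_quotient (hq.odd_of_ne_two hq2) (QuotientGroup.mk' O) (QuotientGroup.mk'_surjective O)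
    ⟨h ^ c, mem_top _, ?_, ⟨1, by rw [pow_one, ← pow_mul, mul_comm, ← hc, pow_orderOf_eq_one]⟩,
      t, mem_top _, by rw [← conj_pow, hth, inv_pow]⟩
  intro e
  have h1 := orderOf_dvd_of_pow_eq_one e
  have hc0 : 0 < c := Nat.pos_of_ne_zero fun e0 => by
    rw [e0, mul_zero] at hc; exact (orderOf_pos h).ne' hc
  exact absurd (Nat.le_of_dvd hc0 h1) (by rw [hc]; nlinarith [hq.two_le])

/-- For a finite group G the following are equivalent: (a) G has a normal Sylow 2-subgroup; (b) for every odd prime q dividing the order of G and every Sylow q-subgroup T, the normalizer of Z(J(T)) has a normal Sylow 2-subgroup; (c) for every odd prime q and every Sylow q-subgroup T, no nonidentity element of T is inverted by an element of the normalizer of Z(J(T)). Here J(T) is the Thompson subgroup generated by the abelian subgroups of T of largest order. Stated as the two equivalences (a) ⇔ (b) and (a) ⇔ (c). -/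
theorem result {G : Type*} [Group G] [Finite G] : ((∀ P : Sylow 2 G, (P : Subgroup G).Normal) ↔ ∀ (q : ℕ) [Fact q.Prime], q ≠ 2 → q ∣ Nat.card G → ∀ T : Sylow q G, ∀ P : Sylow 2 ↥(Subgroup.normalizer (Cfsg.centerThompsonAOf (T : Subgroup G) : Set G)), (P : Subgroup ↥(Subgroup.normalizer (Cfsg.centerThompsonAOf (T : Subgroup G) : Set G))).Normal) ∧ ((∀ P : Sylow 2 G, (P : Subgroup G).Normal) ↔ ∀ (q : ℕ) [Fact q.Prime], q ≠ 2 → ∀ T : Sylow q G, ∀ x ∈ (T : Subgroup G), x ≠ 1 → ∀ g ∈ Subgroup.normalizer (Cfsg.centerThompsonAOf (T : Subgroup G) : Set G), g * x * g⁻¹ ≠ x⁻¹) := by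
  have hab : (∀ P : Sylow 2 G, (P : Subgroup G).Normal) →
      ∀ (N : Subgroup G) (P : Sylow 2 N), (P : Subgroup N).Normal := normal_sylow_two_subgroup
  have hc : (∀ (q : ℕ) [Fact q.Prime], q ≠ 2 → ∀ T : Sylow q G, ∀ x ∈ (T : Subgroup G), x ≠ 1 →
      ∀ g ∈ Subgroup.normalizer (Cfsg.centerThompsonAOf (T : Subgroup G) : Set G), g * x * g⁻¹ ≠ x⁻¹) →
      ∀ P : Sylow 2 G, (P : Subgroup G).Normal := by
    intro h P
    by_contra hP
    obtain ⟨q, hq, hq2, hbad⟩ := exists_bad hP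
    haveI : Fact q.Prime := ⟨hq⟩
    obtain ⟨T⟩ : Nonempty (Sylow q G) := inferInstance
    obtain ⟨x, hx, hx1, ⟨k, hk⟩, g, hg, hgx⟩ :=
      CfsgLib.LocalEven.InvertedZJ.zjStatement q hq2 _ G rfl (hbad ⟨hq⟩) T
    have hTN : (T : Subgroup G) ≤ normalizer (CfsgLib.PLoc.interMaxAb 0 (T : Subgroup G) : Set G) :=
      (le_normalizer.trans (CfsgLib.PLoc.normalizer_le_normalizer_joinMaxAb 0 _)).trans
        (CfsgLib.PLoc.normalizer_join_le_normalizer_interMaxAb 0 _)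
    have hmax : MaxIn q (normalizer (CfsgLib.PLoc.interMaxAb 0 (T : Subgroup G) : Set G)) (T : Subgroup G) :=
      ⟨hTN, T.isPGroup', fun _ hS hle _ => T.is_maximal' hS hle⟩
    obtain ⟨e, he, hex⟩ := hmax.exists_conj_le (zpowers_le.2 hx) (fun ⟨y, hy⟩ => by
      obtain ⟨i, rfl⟩ := mem_zpowers_iff.1 hy
      refine ⟨k, Subtype.ext ?_⟩
      show (x ^ i) ^ q ^ k = 1
      rw [← zpow_natCast, ← zpow_mul, mul_comm, zpow_mul, zpow_natCast, hk, one_zpow])
    refine h q hq2 T (e * x * e⁻¹) (hex x (mem_zpowers x)) (fun h1 => hx1 (conj_eq_one_iff.1 h1))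
      (e * g * e⁻¹) (by rw [CfsgLib.PLoc.centerThompsonAOf_eq]; exact mul_mem (mul_mem he hg) (inv_mem he)) ?_
    rw [show e * g * e⁻¹ * (e * x * e⁻¹) * (e * g * e⁻¹)⁻¹ = e * (g * x * g⁻¹) * e⁻¹ by group, hgx]
    group
  have hbc : (∀ (q : ℕ) [Fact q.Prime], q ≠ 2 → q ∣ Nat.card G → ∀ T : Sylow q G,
      ∀ P : Sylow 2 ↥(Subgroup.normalizer (Cfsg.centerThompsonAOf (T : Subgroup G) : Set G)),
      (P : Subgroup ↥(Subgroup.normalizer (Cfsg.centerThompsonAOf (T : Subgroup G) : Set G))).Normal) →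
      ∀ (q : ℕ) [Fact q.Prime], q ≠ 2 → ∀ T : Sylow q G, ∀ x ∈ (T : Subgroup G), x ≠ 1 →
      ∀ g ∈ Subgroup.normalizer (Cfsg.centerThompsonAOf (T : Subgroup G) : Set G), g * x * g⁻¹ ≠ x⁻¹ := by
    intro h q _ hq2 T x hx hx1 g hg hgx
    obtain ⟨k, hk⟩ := T.isPGroup' ⟨x, hx⟩
    have hk' : x ^ q ^ k = 1 := congrArg Subtype.val hk
    have hdvd : q ∣ Nat.card G := by
      obtain ⟨i, -, hi⟩ := (Nat.dvd_prime_pow (Fact.out (p := q.Prime))).1 (orderOf_dvd_of_pow_eq_one hk')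
      rcases Nat.eq_zero_or_pos i with rfl | hi0
      · exact absurd (orderOf_eq_one_iff.1 (by rw [hi, pow_zero])) hx1
      · exact (dvd_pow_self q hi0.ne').trans (hi ▸ orderOf_dvd_natCard x)
    have hxN : x ∈ Subgroup.normalizer (Cfsg.centerThompsonAOf (T : Subgroup G) : Set G) := by
      rw [CfsgLib.PLoc.centerThompsonAOf_eq]
      exact CfsgLib.PLoc.normalizer_join_le_normalizer_interMaxAb 0 _
        (CfsgLib.PLoc.normalizer_le_normalizer_joinMaxAb 0 _ (le_normalizer hx))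
    exact hx1 (congrArg Subtype.val (not_inverted (h q hq2 hdvd T) ((Fact.out : q.Prime).odd_of_ne_two hq2)
      (x := ⟨x, hxN⟩) (g := ⟨g, hg⟩) (k := k) (Subtype.ext hk') (Subtype.ext hgx)))
  exact ⟨⟨fun h q _ _ _ T P => hab h _ P, fun h => hc (hbc h)⟩,
    ⟨fun h => hbc fun q _ _ _ T P => hab h _ P, hc⟩⟩

end Cfsg.Agent.S2756
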