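import Cfsg.Statements.S2758
import Cfsg.Agent.Lib.LocalEven.Involves

set_option autoImplicit false
open Cfsg CfsgLib.LocalEven

namespace Cfsg.Agent.S2758

/-- For an odd prime p and a finite group G the following are equivalent: the dihedral group of order 2p is involved in G; some element of 2-power order normalizes but does not centralize some p-subgroup of G; some element of 2-power order inverts some nonidentity element of p-power order. -/
theorem result {G : Type*} [Group G] [Finite G] {p : ℕ} [Fact p.Prime] (hp : p ≠ 2) : (Cfsg.Involves (DihedralGroup p) G ↔ ∃ (x : G) (P : Subgroup G), (∃ k : ℕ, orderOf x = 2 ^ k) ∧ IsPGroup p ↥P ∧ x ∈ Subgroup.normalizer (P : Set G) ∧ x ∉ Subgroup.centralizer (P : Set G)) ∧ (Cfsg.Involves (DihedralGroup p) G ↔ ∃ x y : G, (∃ k : ℕ, orderOf x = 2 ^ k) ∧ (∃ k : ℕ, orderOf y = p ^ k) ∧ y ≠ 1 ∧ x * y * x⁻¹ = y⁻¹) := by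
  have h1 : Cfsg.Involves (DihedralGroup p) G → ∃ x y : G, (∃ k : ℕ, orderOf x = 2 ^ k) ∧
      (∃ k : ℕ, orderOf y = p ^ k) ∧ y ≠ 1 ∧ x * y * x⁻¹ = y⁻¹ := by
    intro h
    obtain ⟨K, f, hf⟩ := exists_surjective_of_involves h
    obtain ⟨x, y, hx, hy, hfy, hxy⟩ := exists_inverted hp f hf
    refine ⟨x, y, by rwa [Subgroup.orderOf_coe], by rwa [Subgroup.orderOf_coe],
      fun h => hfy (by rw [OneMemClass.coe_eq_one.1 h, map_one]), ?_⟩
    exact congrArg Subtype.val hxy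
  refine ⟨⟨fun h => ?_, ?_⟩, h1, fun ⟨x, y, hx, hy, hy1, hxy⟩ => involves_dihedral hp hx hy hy1 hxy⟩
  · obtain ⟨x, y, hx, ⟨k, hk⟩, hy1, hxy⟩ := h1 h
    refine ⟨x, Subgroup.zpowers y, hx, IsPGroup.of_card (n := k) (by rw [Nat.card_zpowers, hk]),
      ?_, fun hc => hy1 ?_⟩
    · rw [Subgroup.mem_normalizer_iff_map_conj_eq, MonoidHom.map_zpowers]
      change Subgroup.zpowers (x * y * x⁻¹) = _
      rw [hxy, Subgroup.zpowers_inv]
    · refine eq_one_of_inv_eq_self hp ⟨k, hk⟩ ?_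
      rw [← hxy, ← hc y (Subgroup.mem_zpowers y)]
      group
  · rintro ⟨x, P, ⟨k, hk⟩, hP, hxP, hxc⟩
    have hex : ∃ j, x ^ 2 ^ j ∈ Subgroup.centralizer (P : Set G) :=
      ⟨k, by rw [← hk, pow_orderOf_eq_one]; exact one_mem _⟩
    classical
    set j := Nat.find hex
    have hj : j ≠ 0 := fun h => hxc (by
      have := Nat.find_spec hex
      rwa [show Nat.find hex = 0 from h, pow_zero, pow_one] at this)
    obtain ⟨i, hi⟩ := Nat.exists_eq_succ_of_ne_zero hj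
    set s := x ^ 2 ^ i with hs
    have hsc : s ∉ Subgroup.centralizer (P : Set G) := Nat.find_min hex (show i < j by omega)
    have hs2 : s ^ 2 ∈ Subgroup.centralizer (P : Set G) := by
      rw [hs, ← pow_mul, ← pow_succ]
      have := Nat.find_spec hex
      rwa [show Nat.find hex = i + 1 from hi] at this
    obtain ⟨v, hv, hvs⟩ : ∃ v ∈ P, v * s ≠ s * v := by
      by_contra h
      exact hsc fun v hv => by_contra fun hc => h ⟨v, hv, hc⟩
    have hmem : v⁻¹ * (s * v * s⁻¹) ∈ P :=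
      mul_mem (inv_mem hv) ((Subgroup.mem_normalizer_iff.1 (pow_mem hxP _) v).1 hv)
    have hfix : s ^ 2 * v * (s ^ 2)⁻¹ = v := by rw [← hs2 v hv, mul_inv_cancel_right]
    refine involves_dihedral hp (x := s) (y := v⁻¹ * (s * v * s⁻¹)) ?_ ?_ ?_ ?_
    · obtain ⟨m, -, hm⟩ := (Nat.dvd_prime_pow Nat.prime_two).1
        (hk ▸ orderOf_pow_dvd (2 ^ i) : orderOf s ∣ 2 ^ k)
      exact ⟨m, hm⟩
    · obtain ⟨m, hm⟩ := IsPGroup.iff_orderOf.1 hP ⟨_, hmem⟩
      exact ⟨m, by rwa [Subgroup.orderOf_mk] at hm⟩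
    · intro h
      rw [inv_mul_eq_one, eq_mul_inv_iff_mul_eq] at h
      exact hvs h
    · calc s * (v⁻¹ * (s * v * s⁻¹)) * s⁻¹ = s * v⁻¹ * s⁻¹ * (s ^ 2 * v * (s ^ 2)⁻¹) := by
            rw [pow_two]; group
        _ = (v⁻¹ * (s * v * s⁻¹))⁻¹ := by rw [hfix]; group

end Cfsg.Agent.S2758
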