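import Cfsg.Statements.S2762
import Cfsg.Agent.Lib.LocalEven.QdOver

set_option autoImplicit false
open Cfsg CfsgLib.LocalEven.QdOver

namespace Cfsg.Agent.S2762

/-- Structure of Qd over a finite field F of characteristic p (the affine subgroup of SL₃(F)): its largest normal p-subgroup is the group of translations (matrices with upper-left block the identity), the block-diagonal matrices form a complement isomorphic to SL₂(F), and the translation subgroup is a natural SL₂(F)-module for that complement. -/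
theorem result {F : Type*} [Field F] [Fintype F] {p : ℕ} [Fact p.Prime] [CharP F p] : (∀ M : ↥(Cfsg.qdOver F), M ∈ Cfsg.pCore p ↥(Cfsg.qdOver F) ↔ ((M : Matrix.SpecialLinearGroup (Fin 3) F) : Matrix (Fin 3) (Fin 3) F) 0 0 = 1 ∧ ((M : Matrix.SpecialLinearGroup (Fin 3) F) : Matrix (Fin 3) (Fin 3) F) 0 1 = 0 ∧ ((M : Matrix.SpecialLinearGroup (Fin 3) F) : Matrix (Fin 3) (Fin 3) F) 1 0 = 0 ∧ ((M : Matrix.SpecialLinearGroup (Fin 3) F) : Matrix (Fin 3) (Fin 3) F) 1 1 = 1) ∧ ∃ K : Subgroup ↥(Cfsg.qdOver F), (∀ M : ↥(Cfsg.qdOver F), M ∈ K ↔ ((M : Matrix.SpecialLinearGroup (Fin 3) F) : Matrix (Fin 3) (Fin 3) F) 0 2 = 0 ∧ ((M : Matrix.SpecialLinearGroup (Fin 3) F) : Matrix (Fin 3) (Fin 3) F) 1 2 = 0) ∧ K ⊓ Cfsg.pCore p ↥(Cfsg.qdOver F) = ⊥ ∧ K ⊔ Cfsg.pCore p ↥(Cfsg.qdOver F) = ⊤ ∧ Nonempty (↥K ≃* Matrix.SpecialLinearGroup (Fin 2) F) ∧ Cfsg.IsNaturalSL2Module F (Cfsg.pCore p ↥(Cfsg.qdOver F)) K := by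
  rw [pCore_eq_trans p]
  refine ⟨fun M => mem_trans_iff, linSub F, fun M => ?_, linSub_inf_trans, trans_sup_linSub,
    ⟨linSubEquiv⟩, ?_⟩
  · rw [mem_linSub, funext_iff, Fin.forall_fin_two]
    rfl
  · haveI : (trans F).Normal := MonoidHom.normal_ker _
    refine ⟨fun l _ => by rw [Subgroup.normalizer_eq_top]; trivial,
      MulEquiv.toMonoidHom (linSubEquiv (F := F)),
      transEquiv, MulEquiv.surjective (linSubEquiv (F := F)), ?_, fun l v => ?_⟩
    · rw [(MonoidHom.ker_eq_bot_iff _).2 (MulEquiv.injective (linSubEquiv (F := F))), eq_comm, eq_bot_iff]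
      intro l hl
      apply linSubEquiv.injective
      rw [map_one]
      refine Subtype.ext (Matrix.ext fun i j => ?_)
      have key : ∀ v : Fin 2 → F, (linPart l.1).1.mulVec v = v := fun v => by
        have h : (mkAff 1 v : Cfsg.qdOver F) * l.1 = l.1 * mkAff 1 v := hl _ (linPart_mkAff 1 v)
        have := congrArg traPart h
        rw [traPart_mul, traPart_mul, traPart_mkAff, mem_linSub.1 l.2, linPart_mkAff,
          Matrix.mulVec_zero, zero_add, add_zero] at this
        exact this.symm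
      have := congrFun (key (Pi.single j 1)) i
      rw [Matrix.mulVec_single_one] at this
      simp only [linSubEquiv_apply]
      rw [show (linPart l.1).1 i j = _ from this, Matrix.SpecialLinearGroup.coe_one, Matrix.one_apply,
        Pi.single_apply]
    · refine ⟨⟨l.1 * v.1 * l.1⁻¹, Subgroup.Normal.conj_mem inferInstance _ v.2 _⟩, rfl, ?_⟩
      rw [transEquiv_apply, transEquiv_apply]
      exact traPart_conj l.2 v.2

end Cfsg.Agent.S2762
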