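import Cfsg.Statements.S2769
import Cfsg.Agent.Lib.LocalEven.Baumann

set_option autoImplicit false
set_option linter.style.haveILetI false
open scoped commutatorElement
open Cfsg

namespace Cfsg.Agent.S2769

/-- Let G be a finite group and p a prime with C_G(O_p(G)) ≤ O_p(G), S a Sylow p-subgroup lying in exactly one maximal subgroup of G, and G/K ≅ PSL₂(p^n) for some normal K and n ≥ 1. Let J(S) be generated by the abelian subgroups of S of largest order. If [Z(J(S)), S] ≠ 1, then either [Z(J(S)), S] ∩ Z(S) is normal in G or C_S(Z(J(S))) is normal in G. -/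
theorem result {G : Type*} [Group G] [Finite G] {p : ℕ} [Fact p.Prime] (S : Sylow p G) (hE₁ : Subgroup.centralizer (Cfsg.pCore p G : Set G) ≤ Cfsg.pCore p G) (hE₂ : ∃! M : Subgroup G, IsCoatom M ∧ (S : Subgroup G) ≤ M) (K : Subgroup G) [K.Normal] (F : Type) [Field F] [Fintype F] (n : ℕ) (hn : 1 ≤ n) (hF : Fintype.card F = p ^ n) (hE₃ : Nonempty (G ⧸ K ≃* Matrix.ProjectiveSpecialLinearGroup (Fin 2) F)) (h : ⁅(Cfsg.centerThompsonAOf (S : Subgroup G)), (S : Subgroup G)⁆ ≠ ⊥) : (⁅(Cfsg.centerThompsonAOf (S : Subgroup G)), (S : Subgroup G)⁆ ⊓ ((S : Subgroup G) ⊓ Subgroup.centralizer ((S : Subgroup G) : Set G))).Normal ∨ (((S : Subgroup G) ⊓ Subgroup.centralizer (Cfsg.centerThompsonAOf (S : Subgroup G) : Set G))).Normal := by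
  obtain ⟨e⟩ := hE₃
  have hR : CfsgLib.LocalEven.Baumann.RankOne p S K F n := ⟨hE₁, hE₂, hn, hF,
    e.toMonoidHom.comp (QuotientGroup.mk' K), e.surjective.comp (QuotientGroup.mk'_surjective K), by
      ext x
      simp⟩
  simp only [CfsgLib.PLoc.centerThompsonAOf_eq]
  set V := CfsgLib.PLoc.interMaxAb 0 (S : Subgroup G) with hV
  have hSV : (S : Subgroup G) ≤ Subgroup.normalizer (V : Set G) :=
    (Subgroup.le_normalizer.trans (CfsgLib.PLoc.normalizer_le_normalizer_joinMaxAb 0 _)).trans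
      (CfsgLib.PLoc.normalizer_join_le_normalizer_interMaxAb 0 _)
  have hVS : ⁅V, (S : Subgroup G)⁆ ≤ V := Subgroup.le_normalizer_iff_commutator_le_left.1 hSV
  by_cases hZ : ((S : Subgroup G) ⊓ Subgroup.centralizer ((S : Subgroup G) : Set G)).Normal
  · exact Or.inl (CfsgLib.LocalEven.Baumann.normal_of_zs_normal hR hZ inf_le_right)
  by_cases hJ : CfsgLib.PLoc.joinMaxAb 0 (S : Subgroup G) ≤ Cfsg.pCore p G
  · rcases CfsgLib.LocalEven.Baumann.normal_or_of_join_le hR hJ with h1 | h1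
    · exact Or.inr h1
    · exact Or.inl (h1 _ inf_le_right (inf_le_left.trans hVS))
  obtain ⟨A, hA, hAQ⟩ : ∃ A, CfsgLib.PLoc.IsMaxAb 0 (S : Subgroup G) A ∧ ¬ A ≤ Cfsg.pCore p G := by
    by_contra hne
    push Not at hne
    exact hJ (sSup_le hne)
  haveI := CfsgLib.LocalEven.Baumann.commutator_normal hR hZ hA hAQ
  haveI := hA.comm
  have hAN : A ≤ Subgroup.centralizer ((⁅V, (S : Subgroup G)⁆ : Subgroup G) : Set G) := fun a ha z hz =>
    setLike_mul_comm (CfsgLib.PLoc.interMaxAb_le hA (hVS hz)) ha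
  refine Or.inl (CfsgLib.LocalEven.Baumann.central_of_not_le hR
    (N := Subgroup.centralizer ((⁅V, (S : Subgroup G)⁆ : Subgroup G) : Set G)) Subgroup.normal_centralizer
    (fun h1 => hAQ ((le_inf hA.le hAN).trans h1)) inf_le_right
    (Subgroup.centralizer_le inf_le_left))

end Cfsg.Agent.S2769
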