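import Cfsg.Statements.S2770
import Cfsg.Agent.Lib.LocalEven.Baumann

set_option autoImplicit false
set_option linter.style.haveILetI false
open Cfsg

namespace Cfsg.Agent.S2770

/-- Let G be a finite group and p a prime with C_G(O_p(G)) ≤ O_p(G), S a Sylow p-subgroup lying in exactly one maximal subgroup of G, and G/K ≅ PSL₂(p^n) for some normal K and n ≥ 1. If Z(S) is not elementary abelian, then either ℧¹(Z(S)) (the subgroup generated by the p-th powers of the elements of Z(S)) is normal in G or C_S(Z(J(S))) is normal in G, J(S) being generated by the abelian subgroups of S of largest order. -/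
theorem result {G : Type*} [Group G] [Finite G] {p : ℕ} [Fact p.Prime] (S : Sylow p G) (hE₁ : Subgroup.centralizer (Cfsg.pCore p G : Set G) ≤ Cfsg.pCore p G) (hE₂ : ∃! M : Subgroup G, IsCoatom M ∧ (S : Subgroup G) ≤ M) (K : Subgroup G) [K.Normal] (F : Type) [Field F] [Fintype F] (n : ℕ) (hn : 1 ≤ n) (hF : Fintype.card F = p ^ n) (hE₃ : Nonempty (G ⧸ K ≃* Matrix.ProjectiveSpecialLinearGroup (Fin 2) F)) (h : ¬ Cfsg.IsElementaryAbelian p ((S : Subgroup G) ⊓ Subgroup.centralizer ((S : Subgroup G) : Set G))) : (Cfsg.powerClosure p 1 ((S : Subgroup G) ⊓ Subgroup.centralizer ((S : Subgroup G) : Set G))).Normal ∨ (((S : Subgroup G) ⊓ Subgroup.centralizer (Cfsg.centerThompsonAOf (S : Subgroup G) : Set G))).Normal := by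
  obtain ⟨e⟩ := hE₃
  have hR : CfsgLib.LocalEven.Baumann.RankOne p S K F n := ⟨hE₁, hE₂, hn, hF,
    e.toMonoidHom.comp (QuotientGroup.mk' K), e.surjective.comp (QuotientGroup.mk'_surjective K), by
      ext x
      simp⟩
  simp only [CfsgLib.PLoc.centerThompsonAOf_eq]
  have hpc : Cfsg.powerClosure p 1 ((S : Subgroup G) ⊓ Subgroup.centralizer ((S : Subgroup G) : Set G)) ≤
      (S : Subgroup G) ⊓ Subgroup.centralizer ((S : Subgroup G) : Set G) :=
    (Subgroup.closure_le _).2 fun y ⟨x, hx, e⟩ => e ▸ pow_mem hx _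
  by_cases hZ : ((S : Subgroup G) ⊓ Subgroup.centralizer ((S : Subgroup G) : Set G)).Normal
  · exact Or.inl (CfsgLib.LocalEven.Baumann.normal_of_zs_normal hR hZ hpc)
  by_cases hJ : CfsgLib.PLoc.joinMaxAb 0 (S : Subgroup G) ≤ Cfsg.pCore p G
  · rcases CfsgLib.LocalEven.Baumann.normal_or_of_join_le hR hJ with h1 | h1
    · exact Or.inr h1
    · refine Or.inl (h1 _ hpc (hpc.trans fun x hx => ?_))
      exact Subgroup.mem_sInf.2 fun A hA => CfsgLib.PLoc.mem_of_commute hA hx.1 (pow_zero x)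
        fun a ha => hx.2 a (hA.le ha)
  obtain ⟨A, hA, hAQ⟩ : ∃ A, CfsgLib.PLoc.IsMaxAb 0 (S : Subgroup G) A ∧ ¬ A ≤ Cfsg.pCore p G := by
    by_contra hne
    push Not at hne
    exact hJ (sSup_le hne)
  have hc : Cfsg.powerClosure p 1 ((S : Subgroup G) ⊓ Subgroup.centralizer ((S : Subgroup G) : Set G)) ≤
      Subgroup.center G := (Subgroup.closure_le _).2 fun y ⟨x, hx, e⟩ => by
    rw [e, pow_one]
    exact CfsgLib.LocalEven.Baumann.pow_central hR hZ hA hAQ hx
  exact Or.inl ⟨fun y hy g => by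
    rw [(Subgroup.mem_center_iff.1 (hc hy) g), mul_inv_cancel_right]; exact hy⟩

end Cfsg.Agent.S2770
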