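import Cfsg.Statements.S2772
import Cfsg.Agent.Lib.DihedralPush.Setup

set_option autoImplicit false
open Cfsg

namespace Cfsg.Agent.S2772

/-- Sims' Theorem in local form: let H be a finite non-abelian simple group and G a maximal subgroup of H with C_G(O₂(G)) ≤ O₂(G), such that N_H(S) is not contained in G for a Sylow 2-subgroup S of G and G/O₂(G) is dihedral of order 2q for a prime q. Then G is isomorphic to the symmetric group of degree 4 or to its direct product with a group of order 2. -/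
theorem result {H : Type*} [Group H] [Finite H] [IsSimpleGroup H] (hna : ¬ IsMulCommutative H) (G : Subgroup H) (hG : IsCoatom G) (hchar : Subgroup.centralizer (Cfsg.pCore 2 ↥G : Set ↥G) ≤ Cfsg.pCore 2 ↥G) (S : Sylow 2 ↥G) (hN : ¬ Subgroup.normalizer (((S : Subgroup ↥G).map G.subtype : Subgroup H) : Set H) ≤ G) (q : ℕ) (hq : q.Prime) (hD : Nonempty (↥G ⧸ Cfsg.pCore 2 ↥G ≃* DihedralGroup q)) : Nonempty (↥G ≃* Equiv.Perm (Fin 4)) ∨ Nonempty (↥G ≃* Equiv.Perm (Fin 4) × Multiplicative (ZMod 2)) := by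
  haveI : (Cfsg.pCore 2 ↥G).Normal := CfsgLib.Solvable.pCore_normal 2 _
  haveI : Fact (Nat.Prime 2) := ⟨Nat.prime_two⟩
  obtain ⟨e⟩ := hD
  set P : Subgroup H := (S : Subgroup ↥G).map G.subtype with hPdef
  have hPG : P ≤ G := Subgroup.map_subtype_le _
  have hP : IsPGroup 2 P := S.isPGroup'.map _
  have hsyl : ¬ 2 ∣ P.relIndex G := by
    have : P.subgroupOf G = (S : Subgroup ↥G) :=
      Subgroup.comap_map_eq_self_of_injective G.subtype_injective _
    rw [Subgroup.relIndex, this]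
    exact S.not_dvd_index
  obtain ⟨Q, c, hQdef, hQP, hQn, hcM, hodd, hidx, hinv, hdec, hoc, hc1⟩ :=
    CfsgLib.DihedralPush.exists_data hq.ne_zero e hPG hP hsyl
  obtain ⟨y, hyP, hyG, hy2⟩ : ∃ y ∈ Subgroup.normalizer (P : Set H), y ∉ G ∧
      (y ^ 2 ∈ Subgroup.normalizer (Q : Set H) ∨ Odd (orderOf y)) := by
    obtain ⟨z, hz, hzG⟩ := SetLike.not_le_iff_exists.mp hN
    obtain ⟨a, l, hl, hal⟩ := Nat.exists_eq_two_pow_mul_odd (n := orderOf z) (orderOf_pos z).ne'
    by_cases hz' : z ^ (2 ^ a) ∈ G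
    · -- the odd part lies in `G`
      have hex : ∃ j, z ^ (2 ^ j) ∈ G := ⟨a, hz'⟩
      classical
      obtain ⟨j, hj⟩ : ∃ j, Nat.find hex = j + 1 := by
        refine Nat.exists_eq_succ_of_ne_zero fun h0 => hzG ?_
        have := Nat.find_spec hex
        rwa [h0, pow_zero, pow_one] at this
      refine ⟨z ^ (2 ^ j), pow_mem hz _, Nat.find_min hex (by omega), Or.inl (hQn ?_)⟩
      have := Nat.find_spec hex
      rwa [hj, pow_succ, pow_mul] at this
    · refine ⟨z ^ (2 ^ a), pow_mem hz _, hz', Or.inr (Odd.of_dvd_nat hl (orderOf_dvd_of_pow_eq_one ?_))⟩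
      rw [← pow_mul, ← hal, pow_orderOf_eq_one]
  have hlt : ∀ K : Subgroup H, G ≤ K → y ∈ K → K = ⊤ := fun K hGK hyK =>
    (hG.le_iff.mp hGK).resolve_right fun hKG => hyG (hKG ▸ hyK)
  have hcore : ∀ N : Subgroup H, N ≤ P → G ≤ Subgroup.normalizer (N : Set H) →
      y ∈ Subgroup.normalizer (N : Set H) → N = ⊥ := by
    intro N hN hGN hyN
    have hn : N.Normal := Subgroup.normalizer_eq_top_iff.mp (hlt _ hGN hyN)
    rcases Subgroup.Normal.eq_bot_or_eq_top hn with h | h
    · exact h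
    · exact absurd (top_le_iff.mp (h ▸ hN.trans hPG)) hG.1
  have hdisj : ∀ v ∈ P, v ∈ Subgroup.centralizer (G : Set H) →
      y * v * y⁻¹ ∈ Subgroup.centralizer (G : Set H) → v = 1 := by
    intro v hv h1 h2
    by_contra hv1
    have hcent : ∀ w : H, w ≠ 1 → w ∈ Subgroup.centralizer (G : Set H) →
        Subgroup.centralizer {w} = G := by
      intro w hw hwC
      refine (hG.le_iff.mp fun g hg => ?_).resolve_left fun htop => hw ?_
      · exact Subgroup.mem_centralizer_singleton_iff.mpr ((Subgroup.mem_centralizer_iff.mp hwC) g hg)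
      · have hwz : w ∈ Subgroup.center H := Subgroup.mem_center_iff.mpr fun g =>
          Subgroup.mem_centralizer_singleton_iff.mp (htop ▸ Subgroup.mem_top g)
        rcases Subgroup.Normal.eq_bot_or_eq_top (inferInstance : (Subgroup.center H).Normal) with h | h
        · exact Subgroup.mem_bot.mp (h ▸ hwz)
        · exact absurd ⟨⟨fun a b => ((Subgroup.mem_center_iff.mp (h ▸ Subgroup.mem_top a)) b).symm⟩⟩ hna
    have hw1 : y * v * y⁻¹ ≠ 1 := fun h => hv1 (conj_eq_one_iff.mp h)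
    have hyn : y⁻¹ ∈ Subgroup.normalizer (G : Set H) :=
      CfsgLib.DihedralPush.mem_normalizer_of fun g hg => by
        have hg' : Commute g (y * v * y⁻¹) := (Subgroup.mem_centralizer_iff.mp h2) g hg
        rw [← hcent v hv1 h1, Subgroup.mem_centralizer_singleton_iff]
        have := ((Commute.conj_iff y⁻¹).mpr hg').eq
        simpa [mul_assoc] using this
    have hn : G.Normal := Subgroup.normalizer_eq_top_iff.mp
      (hlt _ Subgroup.le_normalizer (inv_mem_iff.mp hyn))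
    rcases Subgroup.Normal.eq_bot_or_eq_top hn with h | h
    · exact hv1 (Subgroup.mem_bot.mp (h ▸ hPG hv))
    · exact hG.1 h
  have hne : Q ≠ ⊥ := by
    rw [hQdef, Ne, Subgroup.map_eq_bot_iff_of_injective _ G.subtype_injective]
    intro hO
    have htop : ∀ g : ↥G, g = 1 := fun g => by
      have : g ∈ Subgroup.centralizer (Cfsg.pCore 2 ↥G : Set ↥G) :=
        Subgroup.mem_centralizer_iff.mpr fun x hx => by
          rw [hO] at hx
          rw [Subgroup.mem_bot.mp hx, one_mul, mul_one]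
      exact Subgroup.mem_bot.mp (hO ▸ hchar this)
    haveI : Subsingleton ↥G := ⟨fun a b => by rw [htop a, htop b]⟩
    have h2 : Nat.card (↥G ⧸ Cfsg.pCore 2 ↥G) ≤ 1 := Finite.card_le_one_iff_subsingleton.mpr inferInstance
    rw [Nat.card_congr e.toEquiv, DihedralGroup.nat_card] at h2
    have := hq.two_le
    omega
  have h : CfsgLib.DihedralPush.Push G P Q c y :=
    ⟨hP, hPG, hQP, hQn, hcM, hodd, hidx, hinv, hdec, hyP, hcore, hdisj, hne⟩
  have hcentQ : ∀ x : ↥G, (∀ w ∈ Q, Commute (x : H) w) → (x : H) ∈ Q := fun x hx => by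
    rw [hQdef]
    exact ⟨x, hchar (Subgroup.mem_centralizer_iff.mpr fun w hw =>
      Subtype.ext (hx w (hQdef ▸ Subgroup.mem_map_of_mem G.subtype hw)).symm), rfl⟩
  have hnc : ¬ ∀ w ∈ Q, Commute c w := fun hcomm =>
    hq.ne_one (hc1 (hcentQ ⟨c, hcM⟩ hcomm))
  have key : ∀ {X : Type} [Group X] (ψ : ↥G →* X), Function.Surjective ψ →
      (∀ z : ↥G, z ∈ ψ.ker ↔ ((z : H) ∈ Subgroup.zpowers c ∧ ∀ w ∈ Q, Commute (z : H) w)) →
      Nonempty (↥G ≃* X) := by
    intro X _ ψ hs hk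
    refine ⟨MulEquiv.ofBijective ψ ⟨(MonoidHom.ker_eq_bot_iff ψ).mp (eq_bot_iff.mpr fun z hz => ?_), hs⟩⟩
    obtain ⟨h1, h2⟩ := (hk z).mp hz
    obtain ⟨k, hk'⟩ := Subgroup.mem_zpowers_iff.mp h1
    refine Subgroup.mem_bot.mpr (Subtype.ext ?_)
    rw [← hk']
    exact h.eq_one_of_zpow_mem (hk' ▸ hQP (hcentQ z h2))
  rcases h.structure_cases hnc hy2 with ⟨ψ, hs, hk⟩ | ⟨ψ, hs, hk⟩
  · exact Or.inl (key ψ hs hk)
  · exact Or.inr (key ψ hs hk)

end Cfsg.Agent.S2772
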