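import Cfsg.Statements.S2779
import Cfsg.Agent.Lib.LocalEven.NatModule

set_option autoImplicit false
open Cfsg CfsgLib.LocalEven Subgroup
open scoped commutatorElement

namespace Cfsg.Agent.S2779

/-- Let L act on the elementary abelian p-group V (inside a finite group, by conjugation, faithfully) as SL₂(F) on its natural module, F a field with p^n elements, and let S be a Sylow p-subgroup of L. Then [V, S, S] = 1; |V| = p^(2n) and |C_V(S)| = p^n; and for every nonidentity s ∈ S and every v ∈ V outside C_V(S): C_V(s) = C_V(S) = [V, S] = [V, s] = the subgroup generated by the commutators [v, t], t ∈ S. -/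
theorem result {G : Type*} [Group G] [Finite G] {p : ℕ} [Fact p.Prime] {F : Type*} [Field F] [Fintype F] (n : ℕ) (hF : Fintype.card F = p ^ n) (V L : Subgroup G) (hnat : Cfsg.IsNaturalSL2Module F V L) (hf : L ⊓ Subgroup.centralizer (V : Set G) = ⊥) (S : Sylow p ↥L) (T : Subgroup G) (hT : T = ((S : Subgroup ↥L).map L.subtype)) : ⁅⁅V, T⁆, T⁆ = ⊥ ∧ Nat.card V = p ^ (2 * n) ∧ Nat.card ↥(V ⊓ Subgroup.centralizer ((T : Subgroup G) : Set G)) = p ^ n ∧ ∀ s ∈ T, s ≠ 1 → (V ⊓ Subgroup.centralizer ({s} : Set G)) = (V ⊓ Subgroup.centralizer ((T : Subgroup G) : Set G)) ∧ ⁅V, T⁆ = (V ⊓ Subgroup.centralizer ((T : Subgroup G) : Set G)) ∧ ⁅V, Subgroup.zpowers s⁆ = (V ⊓ Subgroup.centralizer ((T : Subgroup G) : Set G)) ∧ ∀ v ∈ V, v ∉ Subgroup.centralizer (T : Set G) → Subgroup.closure {x : G | ∃ t ∈ T, x = v * t * v⁻¹ * t⁻¹} = (V ⊓ Subgroup.centralizer ((T : Subgroup G) : Set G)) := by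
  subst hT
  obtain ⟨c⟩ := exists_natCoord hF hnat hf S
  set T := (S : Subgroup ↥L).map L.subtype with hTdef
  set C := V ⊓ centralizer (T : Set G) with hC
  -- commutators of `v ∈ V` with `t ∈ T`
  have key : ∀ (v : V) (t : G) (ht : t ∈ T), ∃ hd : (v : G) * t * (v : G)⁻¹ * t⁻¹ ∈ V,
      c.f ⟨_, hd⟩ = ![-((c.e ⟨t, c.T_le ht⟩).1 0 1) * c.f v 1, 0] := by
    intro v t ht
    have hm := c.conj_mem ⟨t, c.T_le ht⟩ v⁻¹
    have he : (v : G) * t * (v : G)⁻¹ * t⁻¹ = ((v * ⟨_, hm⟩ : V) : G) := by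
      simp [mul_assoc]
    have hd : (v : G) * t * (v : G)⁻¹ * t⁻¹ ∈ V := by rw [he]; exact (v * ⟨_, hm⟩ : V).2
    refine ⟨hd, ?_⟩
    have heq : (⟨_, hd⟩ : V) = v * ⟨_, hm⟩ := Subtype.ext he
    rw [heq, c.f_mul, c.f_conj ⟨t, c.T_le ht⟩ v⁻¹ ⟨_, hm⟩ rfl,
      upperUni_mulVec ((c.mem_T _).1 ht), c.f_inv]
    funext i
    fin_cases i <;> simp
  have hcommT : ∀ v ∈ V, ∀ t ∈ T, v * t * v⁻¹ * t⁻¹ ∈ C := fun v hv t ht => by
    obtain ⟨hd, hfd⟩ := key ⟨v, hv⟩ t ht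
    exact Subgroup.mem_inf.2 ⟨hd, (c.mem_centralizer_T ⟨_, hd⟩).2 (by rw [hfd]; rfl)⟩
  have hle : ⁅V, T⁆ ≤ C := commutator_le.2 fun v hv t ht => hcommT v hv t ht
  have hclos : ∀ v (hv : v ∈ V), v ∉ centralizer (T : Set G) →
      C ≤ Subgroup.closure {x : G | ∃ t ∈ T, x = v * t * v⁻¹ * t⁻¹} := by
    intro v hv hvc x hx
    rw [c.mem_centralizer_T ⟨v, hv⟩] at hvc
    obtain ⟨l, hl⟩ := c.e.surjective (sl2Of 1 (-(c.f ⟨x, hx.1⟩ 0) / c.f ⟨v, hv⟩ 1) 0 1 (by ring))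
    have hlT : (l : G) ∈ T := (c.mem_T l).2 (hl ▸ sl2Of_mem_upperUni _)
    refine subset_closure ⟨l, hlT, ?_⟩
    obtain ⟨hd, hfd⟩ := key ⟨v, hv⟩ l hlT
    have : (⟨x, hx.1⟩ : V) = ⟨_, hd⟩ := by
      apply c.f_bij.1
      rw [hfd, show (⟨(l : G), c.T_le hlT⟩ : L) = l from rfl, hl]
      funext i
      fin_cases i
      · simp [sl2Of, hvc]
      · exact (c.mem_centralizer_T ⟨x, hx.1⟩).1 hx.2
    exact congrArg Subtype.val this
  refine ⟨?_, ?_, ?_, fun s hs hs1 => ?_⟩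
  · rw [commutator_eq_bot_iff_le_centralizer]
    exact hle.trans inf_le_right
  · rw [c.card_V, Nat.card_eq_fintype_card, hF, ← pow_mul, mul_comm]
  · rw [c.card_fixed, Nat.card_eq_fintype_card, hF]
  have ha : (c.e ⟨s, c.T_le hs⟩).1 0 1 ≠ 0 := upperUni_entry_ne_zero ((c.mem_T _).1 hs) fun h => hs1
    (congrArg Subtype.val (c.e.injective (h.trans (map_one c.e).symm)))
  refine ⟨le_antisymm (fun v hv => ?_) (inf_le_inf_left _ (centralizer_le (by simpa using hs))), ?_, ?_,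
    fun v hv hvc => le_antisymm ((closure_le _).2 ?_) (hclos v hv hvc)⟩
  · refine Subgroup.mem_inf.2 ⟨hv.1, (c.mem_centralizer_T ⟨v, hv.1⟩).2 ?_⟩
    have h := (c.commute_iff ⟨s, c.T_le hs⟩ ⟨v, hv.1⟩).1 (hv.2 s rfl)
    rw [upperUni_mulVec ((c.mem_T _).1 hs)] at h
    have h0 := congrFun h 0
    simpa [ha] using h0
  · refine le_antisymm hle fun x hx => ?_
    obtain ⟨v, hv⟩ := c.f_bij.2 ![0, 1]
    have hvc : (v : G) ∉ centralizer (T : Set G) := by rw [c.mem_centralizer_T]; simp [hv]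
    refine (closure_le _).2 ?_ (hclos v v.2 hvc hx)
    rintro _ ⟨t, ht, rfl⟩
    exact commutator_mem_commutator v.2 ht
  · refine le_antisymm ((commutator_mono le_rfl (zpowers_le.2 hs)).trans hle) fun x hx => ?_
    obtain ⟨v, hv⟩ := c.f_bij.2 ![0, -(c.f ⟨x, hx.1⟩ 0) / (c.e ⟨s, c.T_le hs⟩).1 0 1]
    obtain ⟨hd, hfd⟩ := key v s hs
    have : (⟨x, hx.1⟩ : V) = ⟨_, hd⟩ := by
      apply c.f_bij.1
      rw [hfd, hv]
      funext i
      fin_cases i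
      · simp [mul_div_cancel₀ _ ha]
      · exact (c.mem_centralizer_T ⟨x, hx.1⟩).1 hx.2
    rw [show x = (v : G) * s * (v : G)⁻¹ * s⁻¹ from congrArg Subtype.val this]
    exact commutator_mem_commutator v.2 (mem_zpowers s)
  · rintro _ ⟨t, ht, rfl⟩
    exact hcommT v hv t ht

end Cfsg.Agent.S2779
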