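import Cfsg.Statements.S2780
import Cfsg.Agent.Lib.LocalEven.NatModule

set_option autoImplicit false
open Cfsg CfsgLib.LocalEven Subgroup

namespace Cfsg.Agent.S2780

/-- Let L act on the elementary abelian p-group V (inside a finite group, faithfully) as SL₂(F) on its natural module, F a field with p^n elements, S a Sylow p-subgroup of L. Then: for every g ∈ L not normalizing S, V is the internal direct product of C_V(S) and C_V(gSg⁻¹); every nonidentity element of L of order prime to p acts on V without nonidentity fixed points; and C_V(S) and V/C_V(S) are irreducible for N_L(S): the only N_L(S)-invariant subgroups of C_V(S) are 1 and C_V(S), and the only N_L(S)-invariant subgroups between C_V(S) and V are those two. -/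
theorem result {G : Type*} [Group G] [Finite G] {p : ℕ} [Fact p.Prime] {F : Type*} [Field F] [Fintype F] (n : ℕ) (hF : Fintype.card F = p ^ n) (V L : Subgroup G) (hnat : Cfsg.IsNaturalSL2Module F V L) (hf : L ⊓ Subgroup.centralizer (V : Set G) = ⊥) (S : Sylow p ↥L) (T : Subgroup G) (hT : T = ((S : Subgroup ↥L).map L.subtype)) : (∀ g ∈ L, g ∉ Subgroup.normalizer (T : Set G) → Cfsg.IsInternalDirectProduct (V ⊓ Subgroup.centralizer ((T : Subgroup G) : Set G)) (V ⊓ Subgroup.centralizer ((T.map (MulAut.conj g).toMonoidHom : Subgroup G) : Set G)) V) ∧ (∀ x ∈ L, x ≠ 1 → (orderOf x).Coprime p → (V ⊓ Subgroup.centralizer ({x} : Set G)) = ⊥) ∧ (∀ U : Subgroup G, U ≤ (V ⊓ Subgroup.centralizer ((T : Subgroup G) : Set G)) → L ⊓ Subgroup.normalizer (T : Set G) ≤ Subgroup.normalizer (U : Set G) → U = ⊥ ∨ U = (V ⊓ Subgroup.centralizer ((T : Subgroup G) : Set G))) ∧ (∀ U : Subgroup G, (V ⊓ Subgroup.centralizer ((T : Subgroup G) :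 Set G)) ≤ U → U ≤ V → L ⊓ Subgroup.normalizer (T : Set G) ≤ Subgroup.normalizer (U : Set G) → U = (V ⊓ Subgroup.centralizer ((T : Subgroup G) : Set G)) ∨ U = V) := by
  subst hT
  obtain ⟨c⟩ := exists_natCoord hF hnat hf S
  haveI := charP_of_card_eq_pow hF
  set T := (S : Subgroup ↥L).map L.subtype with hTdef
  -- diagonal action
  have hdiag : ∀ (U : Subgroup G), L ⊓ normalizer (T : Set G) ≤ normalizer (U : Set G) →
      ∀ (v : V), (v : G) ∈ U → ∀ t : F, t ≠ 0 →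
        ∃ w : V, (w : G) ∈ U ∧ c.f w = ![t * c.f v 0, t⁻¹ * c.f v 1] := by
    intro U hU v hv t ht
    obtain ⟨l, hl⟩ := c.e.surjective (sl2Of t 0 0 t⁻¹ (by rw [mul_inv_cancel₀ ht]; ring))
    have hlN : (l : G) ∈ normalizer (T : Set G) := by rw [c.mem_normalizer_T, hl]; rfl
    refine ⟨⟨_, c.conj_mem l v⟩,
      (mem_normalizer_iff.1 (hU (Subgroup.mem_inf.2 ⟨l.2, hlN⟩)) _).1 hv, ?_⟩
    rw [c.f_conj l v ⟨_, c.conj_mem l v⟩ rfl, hl]
    funext i
    fin_cases i <;> simp [sl2Of, Matrix.mulVec, dotProduct, Fin.sum_univ_two]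
  refine ⟨fun g hg hgN => ?_, fun x hx hx1 hcop => ?_, fun U hU hUN => ?_, fun U hU hUV hUN => ?_⟩
  · rw [c.mem_normalizer_T ⟨g, hg⟩] at hgN
    set γ := (c.e ⟨g, hg⟩).1 1 0 with hγ
    set α := (c.e ⟨g, hg⟩).1 0 0 with hα
    have hconj : ∀ v : V, (v : G) ∈ centralizer ((T.map (MulAut.conj g).toMonoidHom : Subgroup G) : Set G) ↔
        ∃ w : V, c.f w 1 = 0 ∧ c.f v = (c.e ⟨g, hg⟩).1.mulVec (c.f w) := by
      intro v
      constructor
      · intro h
        have hm := c.conj_mem ⟨g, hg⟩⁻¹ v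
        refine ⟨⟨_, hm⟩, (c.mem_centralizer_T _).1 fun t ht => ?_, ?_⟩
        · have h' := h (g * t * g⁻¹) ⟨t, ht, rfl⟩
          show t * (g⁻¹ * v * g⁻¹⁻¹) = g⁻¹ * v * g⁻¹⁻¹ * t
          calc t * (g⁻¹ * v * g⁻¹⁻¹) = g⁻¹ * (g * t * g⁻¹ * v) * g := by group
            _ = g⁻¹ * (v * (g * t * g⁻¹)) * g := by rw [h']
            _ = g⁻¹ * v * g⁻¹⁻¹ * t := by group
        · exact c.f_conj ⟨g, hg⟩ ⟨_, hm⟩ v (by simp [mul_assoc])
      · rintro ⟨w, hw, hvw⟩ _ ⟨t, ht, rfl⟩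
        have hv : v = ⟨_, c.conj_mem ⟨g, hg⟩ w⟩ :=
          c.f_bij.1 (hvw.trans (c.f_conj ⟨g, hg⟩ w ⟨_, c.conj_mem ⟨g, hg⟩ w⟩ rfl).symm)
        have h' := (c.mem_centralizer_T w).2 hw t ht
        show g * t * g⁻¹ * v = v * (g * t * g⁻¹)
        rw [hv]
        show g * t * g⁻¹ * (g * w * g⁻¹) = g * w * g⁻¹ * (g * t * g⁻¹)
        calc g * t * g⁻¹ * (g * w * g⁻¹) = g * (t * w) * g⁻¹ := by group
          _ = g * ((w : G) * t) * g⁻¹ := by rw [h']
          _ = g * w * g⁻¹ * (g * t * g⁻¹) := by group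
    refine ⟨inf_le_left, inf_le_left, fun a ha b hb => ?_, ?_, le_antisymm (sup_le inf_le_left inf_le_left) ?_⟩
    · have : (⟨a, ha.1⟩ : V) * ⟨b, hb.1⟩ = ⟨b, hb.1⟩ * ⟨a, ha.1⟩ :=
        c.f_bij.1 (by rw [c.f_mul, c.f_mul, add_comm])
      exact congrArg Subtype.val this
    · rw [eq_bot_iff]
      intro v hv
      obtain ⟨w, hw, hvw⟩ := (hconj ⟨v, hv.1.1⟩).1 hv.2.2
      have h1 := (c.mem_centralizer_T ⟨v, hv.1.1⟩).1 hv.1.2
      rw [hvw] at h1
      have hw0 : c.f w 0 = 0 := by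
        have h2 : γ = 0 ∨ c.f w 0 = 0 := by
          simpa [Matrix.mulVec, dotProduct, Fin.sum_univ_two, hw, hγ] using h1
        exact h2.resolve_left hgN
      have hv0 : c.f ⟨v, hv.1.1⟩ = c.f 1 := by
        rw [hvw, c.f_one, show c.f w = 0 by funext i; fin_cases i <;> assumption, Matrix.mulVec_zero]
      exact congrArg Subtype.val (c.f_bij.1 hv0)
    · intro v hv
      set x0 := c.f ⟨v, hv⟩ 0
      set x1 := c.f ⟨v, hv⟩ 1
      obtain ⟨w, hw⟩ := c.f_bij.2 ![x1 / γ, 0]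
      obtain ⟨a, ha⟩ := c.f_bij.2 ![x0 - x1 / γ * α, 0]
      have hm := c.conj_mem ⟨g, hg⟩ w
      have hfm := c.f_conj ⟨g, hg⟩ w ⟨_, hm⟩ rfl
      have h1 : (⟨_, hm⟩ : V).1 ∈ centralizer ((T.map (MulAut.conj g).toMonoidHom : Subgroup G) : Set G) :=
        (hconj ⟨_, hm⟩).2 ⟨w, by simp [hw], hfm⟩
      have h2 : (⟨v, hv⟩ : V) = a * ⟨_, hm⟩ := c.f_bij.1 (by
        rw [c.f_mul, hfm, ha, hw]
        funext i
        fin_cases i <;> simp [Matrix.mulVec, dotProduct, Fin.sum_univ_two, x0, x1, ← hα, ← hγ]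
        · ring
        · field_simp)
      rw [show v = (a : G) * _ from congrArg Subtype.val h2]
      exact mul_mem (mem_sup_left (Subgroup.mem_inf.2 ⟨a.2, (c.mem_centralizer_T a).2 (by simp [ha])⟩))
        (mem_sup_right (Subgroup.mem_inf.2 ⟨hm, h1⟩))
  · rw [eq_bot_iff]
    intro v hv
    by_contra hv1
    have h := (c.commute_iff ⟨x, hx⟩ ⟨v, hv.1⟩).1 (hv.2 x rfl)
    have hne : c.f ⟨v, hv.1⟩ ≠ 0 := fun h0 =>
      hv1 (congrArg Subtype.val (c.f_bij.1 (h0.trans c.f_one.symm)))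
    have hp1 := pow_char_eq_one_of_fixed p hne h
    rw [← map_pow, ← map_one c.e, c.e.injective.eq_iff] at hp1
    have hxp : x ^ p = 1 := congrArg Subtype.val hp1
    exact hx1 (orderOf_eq_one_iff.1 (Nat.eq_one_of_dvd_coprimes hcop dvd_rfl (orderOf_dvd_of_pow_eq_one hxp)))
  · by_cases hb : U = ⊥
    · exact Or.inl hb
    refine Or.inr (le_antisymm hU fun x hx => ?_)
    obtain ⟨u, hu, hu1⟩ := (bot_or_exists_ne_one U).resolve_left hb
    have huV := hU hu
    set uu : V := ⟨u, huV.1⟩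
    have hu11 : c.f uu 1 = 0 := (c.mem_centralizer_T uu).1 huV.2
    have hu0 : c.f uu 0 ≠ 0 := fun h0 => hu1 (congrArg Subtype.val (c.f_bij.1
      (show c.f uu = c.f 1 by rw [c.f_one]; funext i; fin_cases i <;> assumption)))
    set xx : V := ⟨x, hx.1⟩
    have hx11 : c.f xx 1 = 0 := (c.mem_centralizer_T xx).1 hx.2
    by_cases hx0 : c.f xx 0 = 0
    · have : xx = 1 := c.f_bij.1 (by rw [c.f_one]; funext i; fin_cases i <;> assumption)
      rw [show x = 1 from congrArg Subtype.val this]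
      exact one_mem _
    obtain ⟨w, hwU, hw⟩ := hdiag U hUN uu hu (c.f xx 0 / c.f uu 0) (div_ne_zero hx0 hu0)
    have : w = xx := c.f_bij.1 (by
      rw [hw, hu11]
      funext i
      fin_cases i
      · simp [div_mul_cancel₀ _ hu0]
      · simp [hx11])
    rw [this] at hwU
    exact hwU
  · by_cases hb : U ≤ V ⊓ centralizer (T : Set G)
    · exact Or.inl (le_antisymm hb hU)
    refine Or.inr (le_antisymm hUV fun x hx => ?_)
    obtain ⟨u, hu, huc⟩ := SetLike.not_le_iff_exists.1 hb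
    have hu1 : c.f ⟨u, hUV hu⟩ 1 ≠ 0 := fun h => huc (Subgroup.mem_inf.2
      ⟨hUV hu, (c.mem_centralizer_T ⟨u, hUV hu⟩).2 h⟩)
    set xx : V := ⟨x, hx⟩
    -- find an element of `U` with the same second coordinate
    obtain ⟨w, hwU, hw⟩ : ∃ w : V, (w : G) ∈ U ∧ c.f w 1 = c.f xx 1 := by
      by_cases hx1 : c.f xx 1 = 0
      · exact ⟨1, one_mem _, by rw [c.f_one, hx1]; rfl⟩
      obtain ⟨w, hwU, hw⟩ := hdiag U hUN ⟨u, hUV hu⟩ hu (c.f ⟨u, hUV hu⟩ 1 / c.f xx 1)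
        (div_ne_zero hu1 hx1)
      exact ⟨w, hwU, by rw [hw]; simp [div_mul_cancel₀ _ hu1]⟩
    have hd : ((w⁻¹ * xx : V) : G) ∈ U := hU (Subgroup.mem_inf.2 ⟨(w⁻¹ * xx).2,
      (c.mem_centralizer_T _).2 (by rw [c.f_mul, c.f_inv]; simp [hw])⟩)
    have := mul_mem hwU hd
    simpa [xx] using this

end Cfsg.Agent.S2780
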