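import Cfsg.Statements.S2781
import Cfsg.Agent.Lib.LocalEven.Kieler
import Cfsg.Agent.Lib.LocalEven.PReducedSubnormal
import Mathlib.Tactic.Group

set_option autoImplicit false
open Cfsg CfsgLib.LocalEven
open scoped commutatorElement

namespace Cfsg.Agent.S2781

/-- Let H act faithfully by conjugation on the elementary abelian p-subgroup V of a finite group, let O^p(H) be the subgroup of H generated by its elements of order prime to p, and T a Sylow p-subgroup of O^p(H). If V is generated by the H-conjugates of C_V(T) (V is the smallest H-invariant subgroup containing C_V(T)), then V = [V, O^p(H)]·C_V(O^p(H)). -/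
theorem result {G : Type*} [Group G] [Finite G] {p : ℕ} [Fact p.Prime] (V H : Subgroup G) (hV : Cfsg.IsElementaryAbelian p V) (hHV : H ≤ Subgroup.normalizer (V : Set G)) (hf : H ⊓ Subgroup.centralizer (V : Set G) = ⊥) (R : Subgroup G) (hR : R = (Cfsg.pResidual p ↥H).map H.subtype) (S : Sylow p ↥R) (T : Subgroup G) (hT : T = ((S : Subgroup ↥R).map R.subtype)) (hgen : ∀ W : Subgroup G, H ≤ Subgroup.normalizer (W : Set G) → (V ⊓ Subgroup.centralizer ((T : Subgroup G) : Set G)) ≤ W → V ≤ W) : ⁅V, R⁆ ⊔ (V ⊓ Subgroup.centralizer ((R : Subgroup G) : Set G)) = V := by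
  have hRH : R ≤ H := hR ▸ Subgroup.map_subtype_le _
  have hHR : H ≤ Subgroup.normalizer (R : Set G) := by
    subst hR
    haveI : (pResidual p ↥H).Normal := pResidual_normal _
    have := Subgroup.le_normalizer_map (H := pResidual p ↥H) H.subtype
    rwa [Subgroup.normalizer_eq_top, ← MonoidHom.range_eq_map, Subgroup.range_subtype] at this
  have hsyl : IsSylOf p T R := hT ▸ CfsgLib.LocalEven.Sylow.isSylOf S
  have hCV : V ⊓ Subgroup.centralizer (R : Set G) ≤ V := inf_le_left
  refine le_antisymm (sup_le ?_ hCV) (hgen _ ?_ ?_)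
  · refine Subgroup.commutator_le.2 fun v hv r hr => ?_
    rw [commutatorElement_def, show v * r * v⁻¹ * r⁻¹ = v * (r * v⁻¹ * r⁻¹) by group]
    exact mul_mem hv ((Subgroup.mem_normalizer_iff.1 (hHV (hRH hr)) v⁻¹).1 (inv_mem hv))
  · refine le_normalizer_of_le_normalizer_cj fun g hg => ?_
    rw [cj, Subgroup.map_sup, Subgroup.map_commutator, ← cj, ← cj, ← cj, cj_inf, cj_centralizer,
      mem_normalizer_iff_cj.1 (hHV hg), mem_normalizer_iff_cj.1 (hHR hg)]
  · intro v hv
    obtain ⟨N, hN1, -, -, hN4, -⟩ := exists_avg V R T hV.1 (hRH.trans hHV) hsyl.1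
    have hfix : FixedIn V T v := ⟨hv.1, fun t ht => fixed_of_centralizer ht hv.2⟩
    have h4 := hN4 v ⁅V, R⁆ hfix fun r hr => by
      have h := inv_mem (Subgroup.commutator_mem_commutator hv.1 hr)
      rw [commutatorElement_def] at h
      simpa [mul_assoc] using h
    have h1 : N v ∈ V ⊓ Subgroup.centralizer (R : Set G) :=
      ⟨(hN1 v hfix).1, fun r hr => mul_inv_eq_iff_eq_mul.1 ((hN1 v hfix).2 r hr)⟩
    refine pow_mem_imp (hV.2 v hv.1) hsyl.relIndex_coprime ?_
    rw [show v ^ T.relIndex R = (N v * (v ^ T.relIndex R)⁻¹)⁻¹ * N v by group]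
    exact mul_mem (Subgroup.mem_sup_left (inv_mem h4)) (Subgroup.mem_sup_right h1)

end Cfsg.Agent.S2781
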