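import Cfsg.Statements.S2787
import Cfsg.Agent.Lib.LocalEven.QuadPSLRee

set_option autoImplicit false
open Cfsg
open scoped commutatorElement
set_option linter.style.haveILetI false

namespace Cfsg.Agent.S2787

/-- Let p be a prime and let H act by conjugation on the elementary abelian p-subgroup V of a finite group, irreducibly (no H-invariant subgroups of V other than 1 and V) and nontrivially, and suppose H/C_H(V) is isomorphic to PSL₂(F) for a field F with p^n elements, p^n odd, or p = 3 and H/C_H(V) is isomorphic to a Ree group ²G₂(3^(2m+1)), m ≥ 1. Then no subgroup A of H acting nontrivially on V acts quadratically: [V, A, A] = 1 forces [V, A] = 1. -/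
theorem result {G : Type*} [Group G] [Finite G] {p : ℕ} [Fact p.Prime] (V H : Subgroup G) (hV : Cfsg.IsElementaryAbelian p V) (hHV : H ≤ Subgroup.normalizer (V : Set G)) (hirr : ∀ U : Subgroup G, U ≤ V → H ≤ Subgroup.normalizer (U : Set G) → U = ⊥ ∨ U = V) (hnt : ¬ H ≤ Subgroup.centralizer (V : Set G)) [hn : ((Subgroup.centralizer (V : Set G)).subgroupOf H).Normal] (hq : (∃ (F : Type) (_ : Field F) (_ : Fintype F) (n : ℕ), Fintype.card F = p ^ n ∧ Odd (Fintype.card F) ∧ Nonempty (↥H ⧸ (Subgroup.centralizer (V : Set G)).subgroupOf H ≃* Matrix.ProjectiveSpecialLinearGroup (Fin 2) F)) ∨ (p = 3 ∧ Cfsg.Lie.IsoRee (↥H ⧸ (Subgroup.centralizer (V : Set G)).subgroupOf H))) (A : Subgroup G) (hA : A ≤ H) (hquad : ⁅⁅V, A⁆, A⁆ = ⊥) : ⁅V, A⁆ = ⊥ := by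
  classical
  letI : CommGroup V := { (inferInstance : Group V) with
    mul_comm := fun x y => Subtype.ext ((CfsgLib.PLocal.commute_of_mem_comm hV.1 x.2 y.2).eq) }
  have hmem : ∀ (h : H) (x : V), (h : G) * x * (h : G)⁻¹ ∈ V := fun h x =>
    (Subgroup.mem_normalizer_iff.1 (hHV h.2) _).1 x.2
  let σ : ↥H →* AddMonoid.End (Additive V) :=
    { toFun := fun h =>
        { toFun := fun x => Additive.ofMul ⟨_, hmem h (Additive.toMul x)⟩
          map_zero' := by apply Additive.toMul.injective; ext; simp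
          map_add' := fun x y => by apply Additive.toMul.injective; ext; simp [mul_assoc] }
      map_one' := by
        refine AddMonoidHom.ext fun x => congrArg Additive.ofMul (Subtype.ext ?_)
        show ((1 : H) : G) * (Additive.toMul x : V) * ((1 : H) : G)⁻¹ = (Additive.toMul x : V)
        simp
      map_mul' := fun g h => by
        refine AddMonoidHom.ext fun x => congrArg Additive.ofMul (Subtype.ext ?_)
        show ((g * h : H) : G) * (Additive.toMul x : V) * ((g * h : H) : G)⁻¹ =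
          (g : G) * ((h : G) * (Additive.toMul x : V) * (h : G)⁻¹) * (g : G)⁻¹
        simp [mul_assoc] }
  set C := (Subgroup.centralizer (V : Set G)).subgroupOf H
  have hker : ∀ h : H, σ h = 1 ↔ h ∈ C := by
    intro h
    constructor
    · intro e v hv
      have := congrArg Subtype.val (congrArg Additive.toMul
        (DFunLike.congr_fun e (Additive.ofMul (⟨v, hv⟩ : V))))
      change (h : G) * v * (h : G)⁻¹ = v at this
      exact (mul_inv_eq_iff_eq_mul.1 this).symm
    · intro e
      refine AddMonoidHom.ext fun x => congrArg Additive.ofMul (Subtype.ext ?_)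
      show (h : G) * (Additive.toMul x : V) * (h : G)⁻¹ = (Additive.toMul x : V)
      have e' : (h : G) ∈ Subgroup.centralizer (V : Set G) := e
      rw [← e' _ (Additive.toMul x : V).2, mul_inv_cancel_right]
  let ρ : ↥H ⧸ C →* AddMonoid.End (Additive V) := QuotientGroup.lift C σ fun h hh => (hker h).2 hh
  have hρ : Function.Injective ρ := (injective_iff_map_eq_one ρ).2 fun d hd => by
    obtain ⟨g, rfl⟩ := QuotientGroup.mk'_surjective C d
    exact (QuotientGroup.eq_one_iff g).2 ((hker g).1 hd)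
  have hA' : ∀ x : Additive V, p • x = 0 := fun x => congrArg Additive.ofMul (Subtype.ext (hV.2 _ (Additive.toMul x : V).2))
  have hV0 : V ≠ ⊥ := fun e => hnt fun h _ v hv => by
    rw [e, SetLike.mem_coe, Subgroup.mem_bot] at hv
    rw [hv, one_mul, mul_one]
  have hcore : Cfsg.pCore p (↥H ⧸ C) = ⊥ := by
    haveI hPn : (Cfsg.pCore p (↥H ⧸ C)).Normal := CfsgLib.Solvable.pCore_normal p _
    set P := Cfsg.pCore p (↥H ⧸ C) with hP
    let _act : MulAction P (Additive V) :=
      { smul := fun d x => ρ d x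
        one_smul := fun x => by show ρ ((1 : P) : ↥H ⧸ C) x = x; rw [OneMemClass.coe_one, map_one]; rfl
        mul_smul := fun c d x => by
          show ρ ((c * d : P) : ↥H ⧸ C) x = ρ c (ρ d x)
          rw [Subgroup.coe_mul, map_mul]; rfl }
    have hdvd : p ∣ Nat.card (Additive V) := by
      haveI := (Subgroup.nontrivial_iff_ne_bot V).mpr hV0
      obtain ⟨n, hn, hcard⟩ := (IsPGroup.nontrivial_iff_card (p := p) (G := V)
        (fun x => ⟨1, Subtype.ext (by rw [pow_one]; exact hV.2 _ x.2)⟩)).mp inferInstance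
      exact ⟨p ^ (n - 1), by
        show Nat.card V = _
        rw [hcard, ← pow_succ', Nat.sub_add_cancel hn]⟩
    obtain ⟨x, hx, hx0⟩ :=
      (CfsgLib.Solvable.pCore_isPGroup p (↥H ⧸ C)).exists_fixed_point_of_prime_dvd_card_of_fixed_point
        (Additive V) hdvd (a := 0) (fun d => map_zero (ρ d))
    let U : Subgroup G :=
      { carrier := {v | ∃ hv : v ∈ V, ∀ d ∈ P, ρ d (Additive.ofMul ⟨v, hv⟩) = Additive.ofMul ⟨v, hv⟩}
        one_mem' := ⟨one_mem _, fun d _ => map_zero (ρ d)⟩
        mul_mem' := fun {a b} ha hb => ⟨mul_mem ha.1 hb.1, fun d hd => by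
          have := map_add (ρ d) (Additive.ofMul ⟨a, ha.1⟩) (Additive.ofMul ⟨b, hb.1⟩)
          rw [ha.2 d hd, hb.2 d hd] at this
          exact this⟩
        inv_mem' := fun {a} ha => ⟨inv_mem ha.1, fun d hd => by
          have := map_neg (ρ d) (Additive.ofMul ⟨a, ha.1⟩)
          rw [ha.2 d hd] at this
          exact this⟩ }
    have hUV : U ≤ V := fun v hv => hv.1
    have hstep : ∀ g ∈ H, ∀ v ∈ U, g * v * g⁻¹ ∈ U := by
      rintro g hg v ⟨hv, hfix⟩
      refine ⟨hmem ⟨g, hg⟩ ⟨v, hv⟩, fun d hd => ?_⟩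
      show ρ d (σ ⟨g, hg⟩ (Additive.ofMul ⟨v, hv⟩)) = σ ⟨g, hg⟩ (Additive.ofMul ⟨v, hv⟩)
      set q : ↥H ⧸ C := QuotientGroup.mk' C ⟨g, hg⟩
      have e : ρ d * ρ q = ρ q * ρ (q⁻¹ * d * q) := by rw [← map_mul, ← map_mul]; congr 1; group
      calc ρ d (σ ⟨g, hg⟩ (Additive.ofMul ⟨v, hv⟩)) = (ρ d * ρ q) (Additive.ofMul ⟨v, hv⟩) := rfl
        _ = ρ q (ρ (q⁻¹ * d * q) (Additive.ofMul ⟨v, hv⟩)) := by rw [e]; rfl
        _ = _ := by
          rw [hfix _ (by simpa using hPn.conj_mem d hd q⁻¹)]
          rfl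
    have hUN : H ≤ Subgroup.normalizer (U : Set G) := fun g hg =>
      Subgroup.mem_normalizer_iff.2 fun v => ⟨hstep g hg v, fun h => by
        have := hstep g⁻¹ (inv_mem hg) _ h
        simpa [mul_assoc] using this⟩
    rcases hirr U hUV hUN with e | e
    · exfalso
      have hxU : ((Additive.toMul x : V) : G) ∈ U :=
        ⟨(Additive.toMul x : V).2, fun d hd => hx ⟨d, hd⟩⟩
      rw [e, Subgroup.mem_bot] at hxU
      exact hx0 (congrArg Additive.ofMul (Subtype.ext hxU : (Additive.toMul x : V) = 1)).symm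
    · refine eq_bot_iff.2 fun d hd => Subgroup.mem_bot.2 (hρ (AddMonoidHom.ext fun y => ?_))
      rw [map_one]
      have hy : ((Additive.toMul y : V) : G) ∈ U := by rw [e]; exact (Additive.toMul y : V).2
      exact hy.2 d hd
  rw [Subgroup.commutator_eq_bot_iff_le_centralizer, Subgroup.le_centralizer_iff]
  intro a ha
  have hquad' : ∀ x : Additive V, ρ (QuotientGroup.mk' C ⟨a, hA ha⟩)
      (ρ (QuotientGroup.mk' C ⟨a, hA ha⟩) x - x) = ρ (QuotientGroup.mk' C ⟨a, hA ha⟩) x - x := by
    intro x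
    refine congrArg Additive.ofMul (Subtype.ext ?_)
    set v : G := ((Additive.toMul x : V) : G)
    show a * (a * v * a⁻¹ / v) * a⁻¹ = a * v * a⁻¹ / v
    have h1 := Subgroup.commutator_mem_commutator
      (Subgroup.commutator_mem_commutator (Additive.toMul x : V).2 ha) ha
    rw [hquad, Subgroup.mem_bot, commutatorElement_eq_one_iff_mul_comm] at h1
    have h2 : a * v * a⁻¹ / v = ⁅v, a⁆⁻¹ := by
      rw [commutatorElement_inv, commutatorElement_def, div_eq_mul_inv]
    rw [h2, ← (Commute.inv_left h1).eq, mul_inv_cancel_right]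
  suffices h : (QuotientGroup.mk' C ⟨a, hA ha⟩) = 1 from
    (show (⟨a, hA ha⟩ : H) ∈ C from (QuotientGroup.eq_one_iff (⟨a, hA ha⟩ : H)).1 h)
  rcases hq with ⟨F, _, _, n, hcard, hodd, ⟨e⟩⟩ | ⟨hp3, hree⟩
  · have hn0 : n ≠ 0 := fun h => by
      rw [h, pow_zero] at hcard
      exact absurd Fintype.one_lt_card (by rw [hcard]; omega)
    have hp2 : p ≠ 2 := fun h => by
      rw [hcard, h] at hodd
      exact Nat.not_even_iff_odd.2 hodd ((Nat.even_pow' hn0).2 even_two)
    haveI : CharP F p := by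
      obtain ⟨r, hr⟩ := CharP.exists F
      obtain ⟨k, hk1, hk2⟩ := FiniteField.card F r
      have h : p ∣ r ^ (k : ℕ) := by rw [← hk2, hcard]; exact dvd_pow_self p hn0
      rwa [(Nat.prime_dvd_prime_iff_eq Fact.out hk1).mp ((Fact.out : p.Prime).dvd_of_dvd_pow h)]
    haveI : Finite (↥H ⧸ C) := Finite.of_equiv _ e.toEquiv.symm
    by_contra ha1
    obtain ⟨t, ht1, htt, hta⟩ := CfsgLib.LocalEven.EvenCentralizer.exists_invol_commute hp2
      hA' ρ hρ hcore ha1 hquad'
    have hap : (QuotientGroup.mk' C ⟨a, hA ha⟩) ^ p = 1 := by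
      apply hρ
      rw [map_one, map_pow]
      set r := ρ (QuotientGroup.mk' C ⟨a, hA ha⟩)
      have hr : (r - 1) * (r - 1) = 0 := AddMonoidHom.ext fun x => by
        show r (r x - x) - (r x - x) = 0
        rw [hquad', sub_self]
      have hpow : ∀ k : ℕ, r ^ k = 1 + k • (r - 1) := by
        intro k
        induction k with
        | zero => simp
        | succ k ih =>
          have e1 : r = 1 + (r - 1) := (add_sub_cancel _ _).symm
          rw [pow_succ, ih, succ_nsmul]
          nth_rw 2 [e1]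
          rw [add_mul, one_mul, mul_add, mul_one, smul_mul_assoc, hr, smul_zero, add_zero]
          abel
      rw [hpow, show p • (r - 1) = 0 from AddMonoidHom.ext fun x => hA' ((r - 1) x), add_zero]
    refine CfsgLib.LocalEven.QuadPSLRee.psl2_not_commute hp2 (x := e (QuotientGroup.mk' C ⟨a, hA ha⟩))
      (y := e t) (by rw [← map_pow, hap, map_one]) (fun h => ha1 (e.map_eq_one_iff.1 h))
      (by rw [← map_mul, htt, map_one]) (fun h => ht1 (e.map_eq_one_iff.1 h)) ?_
    rw [← map_mul, ← map_mul, hta]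
  · subst hp3
    haveI : Finite (↥H ⧸ C) := by
      obtain ⟨K, _, _, m, -, hK, ⟨e⟩⟩ := id hree
      exact Finite.of_equiv _ e.toEquiv.symm
    obtain ⟨h8, x, y, hx, hx1, hy, hy1, hxy, hne⟩ := CfsgLib.LocalEven.QuadPSLRee.ree_klein hree
    exact CfsgLib.LocalEven.QuadPSLRee.no_quadratic_of_klein (by norm_num) hA' ρ hρ hcore h8 hx hx1
      hy hy1 hxy hne hquad'

end Cfsg.Agent.S2787
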