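import Cfsg.Statements.S2788
import Cfsg.Agent.Lib.LocalEven.SL2Bound
import Cfsg.Agent.Lib.LocalEven.PReduced

set_option autoImplicit false
open Cfsg CfsgLib.LocalEven CfsgLib.LocalEven.FixBound

namespace Cfsg.Agent.S2788

/-- Let H act faithfully by conjugation on the elementary abelian p-subgroup V of a finite group with H ≅ SL₂(F), F a field with p^n elements, S a Sylow p-subgroup of H, and A ≤ S a subgroup of order at least 3 acting quadratically on V ([V, A, A] = 1). Then |V/C_V(a)| ≥ p^n for every nonidentity a ∈ A. -/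
theorem result {G : Type*} [Group G] [Finite G] {p : ℕ} [Fact p.Prime] (V H : Subgroup G) (hV : Cfsg.IsElementaryAbelian p V) (hHV : H ≤ Subgroup.normalizer (V : Set G)) (hf : H ⊓ Subgroup.centralizer (V : Set G) = ⊥) {F : Type*} [Field F] [Fintype F] (n : ℕ) (hF : Fintype.card F = p ^ n) (hiso : Nonempty (↥H ≃* Matrix.SpecialLinearGroup (Fin 2) F)) (S : Sylow p ↥H) (T : Subgroup G) (hT : T = ((S : Subgroup ↥H).map H.subtype)) (A : Subgroup G) (hA : A ≤ T) (hA3 : 3 ≤ Nat.card A) (hquad : ⁅⁅V, A⁆, A⁆ = ⊥) : ∀ a ∈ A, a ≠ 1 → p ^ n ≤ ((V ⊓ Subgroup.centralizer ({a} : Set G))).relIndex V := by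
  intro a ha ha1
  obtain ⟨e⟩ := hiso
  have hn : 1 ≤ n := by
    rcases Nat.eq_zero_or_pos n with rfl | h
    · have := hF ▸ Fintype.one_lt_card (α := F); simp at this
    · exact h
  obtain ⟨R, hR, -, hgen⟩ := exists_bound_data hn hF
  have haT := hA ha
  rw [hT] at haT
  obtain ⟨s, hsS, rfl⟩ := haT
  obtain ⟨j, hj⟩ := S.isPGroup' ⟨s, hsS⟩
  have hj' : s ^ p ^ j = 1 := congrArg Subtype.val hj
  obtain ⟨y, d, hd, hdR⟩ := hgen (e s) (fun h => ha1 (by
    rw [(MulEquiv.map_eq_one_iff e).1 h, map_one])) ⟨j, by rw [← map_pow, hj', map_one]⟩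
  have h := (prod_bound_of_surjective (isPGroup_elemAb hV) hHV hf hR e.toMonoidHom e.surjective s [1, y]
    ⟨d, hd, hdR⟩).1
  rw [mul_comm, pow_mul] at h
  exact (Nat.pow_le_pow_iff_left two_ne_zero).1 h

end Cfsg.Agent.S2788
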