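import Cfsg.Statements.S2793
import Cfsg.Agent.Lib.ZJFusion.Main

set_option autoImplicit false
open Cfsg

namespace Cfsg.Agent.S2793

/-- Let p be an odd prime, S a Sylow p-subgroup of the finite group G, J(S) the subgroup generated by the abelian subgroups of S of largest order, and suppose Z(J(S)) does not control strong fusion in G. Put H = N_G(Z(J(S))). Then the group F(p) of upper triangular 3 × 3 matrices (a b c; 0 a⁻¹ d; 0 0 1) over the field with p elements is involved in H, and Z(J(S)) contains a subgroup C of order p with |N_H(C) : C_H(C)| = p − 1. -/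
theorem result {G : Type*} [Group G] [Finite G] {p : ℕ} [Fact p.Prime] (hp : p ≠ 2) (S : Sylow p G) (h : ¬ Cfsg.ControlsStrongFusion p (Cfsg.centerThompsonAOf (S : Subgroup G))) (H : Subgroup G) (hH : H = Subgroup.normalizer ((Cfsg.centerThompsonAOf (S : Subgroup G)) : Set G)) : Cfsg.Involves ↥(Cfsg.fOver (ZMod p)) ↥H ∧ ∃ C : Subgroup G, C ≤ (Cfsg.centerThompsonAOf (S : Subgroup G)) ∧ Nat.card C = p ∧ (H ⊓ Subgroup.centralizer (C : Set G)).relIndex (H ⊓ Subgroup.normalizer (C : Set G)) = p - 1 := by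
  subst hH
  classical
  set Y := Cfsg.centerThompsonAOf (S : Subgroup G) with hYdef
  set J := CfsgLib.PLoc.joinMaxAb 0 (S : Subgroup G) with hJdef
  have hYJ : Y = J ⊓ Subgroup.centralizer (J : Set G) := by
    rw [hYdef, Cfsg.centerThompsonAOf, CfsgLib.PLoc.joinMaxAb_zero]
  have hYS : Y ≤ (S : Subgroup G) := hYJ ▸ inf_le_left.trans (CfsgLib.PLoc.joinMaxAb_le 0 _)
  have hYA : ∀ A, CfsgLib.PLoc.IsMaxAb 0 (S : Subgroup G) A → Y ≤ A := fun A hA =>
    (CfsgLib.PLoc.centerThompsonAOf_eq _).le.trans (CfsgLib.PLoc.interMaxAb_le hA)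
  have hYc : IsMulCommutative Y := IsMulCommutative.of_setLike_mul_comm fun a ha b hb => by
    rw [hYJ] at ha hb
    exact Subgroup.mem_centralizer_iff.1 hb.2 a ha.1
  have hJY : Subgroup.normalizer (J : Set G) ≤ Subgroup.normalizer (Y : Set G) := fun g hg => by
    rw [hYJ]
    exact CfsgLib.FusionControl.mem_normalizer_inf hg
      (CfsgLib.FusionControl.mem_normalizer_centralizer hg)
  have hJS : (S : Subgroup G) ≤ Subgroup.normalizer (J : Set G) := by
    intro g hg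
    refine Subgroup.mem_normalizer_fintype fun x hx => ?_
    have hle : J ≤ J.comap (MulAut.conj g).toMonoidHom := by
      refine sSup_le fun A hA => Subgroup.map_le_iff_le_comap.1 (CfsgLib.PLoc.le_joinMaxAb ⟨?_, ?_, ?_, ?_⟩)
      · rintro _ ⟨a, ha, rfl⟩
        exact Subgroup.mul_mem _ (Subgroup.mul_mem _ hg (hA.le ha)) (Subgroup.inv_mem _ hg)
      · haveI := hA.comm
        infer_instance
      · exact fun a _ => pow_zero a
      · intro B h1 h2 h3
        rw [Subgroup.card_map_of_injective (MulAut.conj g).injective]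
        exact hA.max B h1 h2 h3
    exact hle hx
  have hSY := hJS.trans hJY
  have hd : CfsgLib.ZJFusion.HasDatum p (S : Subgroup G) Y := by
    by_contra hnd
    refine h ⟨S, hYS, fun A hA => ⟨hA, fun g hg => ?_⟩⟩
    by_cases hY : Y = ⊥
    · exact ⟨g, by rw [hY, Subgroup.normalizer_eq_top]; trivial, fun a _ => rfl⟩
    have hle := CfsgLib.ZJFusion.le_ySystem_of_not_hasDatum hp hYS hYc hSY hY hYA hJY hnd
    set P := Subgroup.closure A
    have hPS : P ≤ (S : Subgroup G) := (Subgroup.closure_le _).2 hA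
    have hPg : P ≤ (S : Subgroup G).comap (MulAut.conj g).toMonoidHom :=
      (Subgroup.closure_le _).2 fun a ha => hg ⟨a, ha, rfl⟩
    have hφ : Cfsg.conjHom P g ∈ (Cfsg.groupFusionSystem (S : Subgroup G)).Hom P :=
      ⟨hPS, fun x => hPg x.2, g, fun _ => rfl⟩
    obtain ⟨k, hk, hkv⟩ := CfsgLib.ZJFusion.ySystem_conj hYS hSY (hle P hφ)
    exact ⟨k, hk, fun a ha => hkv ⟨a, Subgroup.subset_closure ha⟩⟩
  obtain ⟨Q, D, D', a, n, u, w, y, s, t, hd⟩ := hd
  refine ⟨?_, ?_⟩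
  · have hDH : D ≤ Subgroup.normalizer (Y : Set G) := hd.D_le.trans (hd.Q_le.trans hSY)
    set H := Subgroup.normalizer (Y : Set G)
    have hu : u ∈ D := hd.gen ▸ Subgroup.mem_sup_left (Subgroup.mem_sup_right (Subgroup.mem_zpowers u))
    have hw : w ∈ D := hd.gen ▸ Subgroup.mem_sup_right (Subgroup.mem_zpowers w)
    have hnorm : ∀ (g : H) (K : Subgroup G), (g : G) ∈ Subgroup.normalizer (K : Set G) →
        g ∈ Subgroup.normalizer ((K.subgroupOf H : Subgroup H) : Set H) := fun g K hg =>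
      Subgroup.mem_normalizer_fintype fun x hx => (Subgroup.mem_normalizer_iff.1 hg _).1 hx
    refine CfsgLib.ZJFusion.involves_fOver hp (G := H) (D := D.subgroupOf H) (D' := D'.subgroupOf H)
      (a := ⟨a, hd.a_Y⟩) (n := ⟨n, hd.n_Y⟩) (u := ⟨u, hDH hu⟩) (w := ⟨w, hDH hw⟩) (s := s) (t := t)
      ((S.2.to_le (hd.D_le.trans hd.Q_le)).comap_of_injective H.subtype H.subtype_injective)
      (Subgroup.comap_mono hd.D'_le) (hnorm _ _ hd.a_D) (hnorm _ _ hd.n_D) (hnorm _ _ hd.a_D')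
      (hnorm _ _ hd.n_D') ?_ ?_ hd.s_ord hd.st hd.u_not hd.u_pow hd.w_pow hd.a_u hd.a_w hd.n_u hd.n_w
    · rw [Subgroup.commutator_le]
      intro x hx z hz
      exact hd.comm (Subgroup.commutator_mem_commutator hx hz)
    · apply Subgroup.map_injective H.subtype_injective
      rw [Subgroup.map_sup, Subgroup.map_sup, MonoidHom.map_zpowers, MonoidHom.map_zpowers,
        Subgroup.subgroupOf_map_subtype, Subgroup.subgroupOf_map_subtype, inf_of_le_left hDH,
        inf_of_le_left (hd.D'_le.trans hDH)]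
      exact hd.gen
  · have hnA : ∀ x ∈ Y ⊓ Q, n * x * n⁻¹ ∈ Y ⊓ Q := fun x hx =>
      ⟨(Subgroup.mem_normalizer_iff.1 hd.n_Y _).1 hx.1, (Subgroup.mem_normalizer_iff.1 hd.n_Q _).1 hx.2⟩
    have hnA' : ∀ x ∈ Y ⊓ D', n * x * n⁻¹ ∈ Y ⊓ D' := fun x hx =>
      ⟨(Subgroup.mem_normalizer_iff.1 hd.n_Y _).1 hx.1, (Subgroup.mem_normalizer_iff.1 hd.n_D' _).1 hx.2⟩
    obtain ⟨c, hc, hc1, hcp, hnc⟩ := CfsgLib.ZJFusion.exists_eigen (p := p) (A := Y ⊓ Q) (A' := Y ⊓ D')
      (S.2.to_le (inf_le_left.trans hYS))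
      (IsMulCommutative.of_setLike_mul_comm fun a ha b hb => setLike_mul_comm (s := Y) ha.1 hb.1)
      (inf_le_inf_left _ (hd.D'_le.trans hd.D_le)) hnA hnA' ⟨hd.y_mem, hd.y_Q⟩
      (fun e => hd.y_not e.2) (s := s)
      ⟨Y.mul_mem (hnA y ⟨hd.y_mem, hd.y_Q⟩).1 (Y.inv_mem (Y.pow_mem hd.y_mem s)), hd.n_y⟩
    obtain ⟨hcard, hidx⟩ := CfsgLib.ZJFusion.relIndex_of_conj (p := p)
      (H := Subgroup.normalizer (Y : Set G)) hd.n_Y hc1 hcp hd.s_ord hnc
    exact ⟨Subgroup.zpowers c, Subgroup.zpowers_le.2 hc.1, hcard, hidx⟩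

end Cfsg.Agent.S2793
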