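import Cfsg.Statements.S2794
import Cfsg.Agent.Lib.LocEven.QdNoControl
import Cfsg.Agent.Lib.LocEven.FusionRel
import Cfsg.Agent.Lib.LocEven.ZJClosed
import Cfsg.Agent.Lib.Fusion.ZJCenter
import Cfsg.Agent.S3081

set_option autoImplicit false
open Cfsg

namespace Cfsg.Agent.S2794

/-- For an odd prime p and a finite group G, the group Qd(p) is not involved in G if and only if in every section K/R of G, for every Sylow p-subgroup S* of K/R, the centre of J(S*) (J generated by the abelian subgroups of largest order) controls strong fusion in K/R. -/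
theorem result {G : Type*} [Group G] [Finite G] {p : ℕ} [Fact p.Prime] (hp : p ≠ 2) : ¬ Cfsg.Involves ↥(Cfsg.qd p) G ↔ ∀ (K R : Subgroup G) [hR : (R.subgroupOf K).Normal], ∀ T : Sylow p (K ⧸ R.subgroupOf K), Cfsg.ControlsStrongFusion p (Cfsg.centerThompsonAOf (T : Subgroup (K ⧸ R.subgroupOf K))) := by
  constructor
  · intro h K R hR T
    have hq : ¬ Cfsg.Involves ↥(Cfsg.qd p) (↥K ⧸ R.subgroupOf K) := fun hq => h
      (CfsgLib.PLoc.hasQdSection_of_subgroup K
        (CfsgLib.PLoc.hasQdSection_of_surjective (QuotientGroup.mk'_surjective (R.subgroupOf K)) hq))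
    refine ⟨T, inf_le_left.trans ?_, (Cfsg.Agent.S3081.result hp T (T : Subgroup (↥K ⧸ R.subgroupOf K))
      ?_ hq).1⟩
    · exact Subgroup.map_subtype_le _
    · exact ⟨le_rfl, fun g x hx hgx => hgx⟩
  · rintro hall ⟨K, R, hR, ⟨e⟩⟩
    refine CfsgLib.LocEven.not_controls_of_char_of_equiv_qd e Cfsg.centerThompsonAOf ?_ (hall K R)
    intro T
    rw [CfsgLib.LocEven.ZJClosed.centerThompsonAOf_eq_zj]
    have hqdne : (T : Subgroup (↥K ⧸ R.subgroupOf K)) ≠ ⊥ := by
      intro hT
      have h1 := T.card_eq_multiplicity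
      rw [hT, Subgroup.card_bot] at h1
      have hd : p ∣ Nat.card (↥K ⧸ R.subgroupOf K) := by
        haveI : NeZero p := ⟨(Fact.out : p.Prime).ne_zero⟩
        haveI : Finite ↥(Cfsg.qd p) := Finite.of_equiv _ e.toEquiv
        obtain ⟨T₀, hT₀⟩ := CfsgLib.ConjFunctor.qdUpper_isSylow (p := p)
        rw [Nat.card_congr e.toEquiv]
        refine dvd_trans ?_ (Subgroup.card_subgroup_dvd_card (CfsgLib.ConjFunctor.qdUpper p))
        rw [← hT₀]
        have hx := CfsgLib.ConjFunctor.tra_mem_qdUpper (p := p) 1 0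
        rw [← hT₀] at hx
        obtain ⟨n, hn⟩ := T₀.isPGroup'.exists_card_eq
        rw [hn]
        refine dvd_pow_self p fun h0 => ?_
        rw [h0, pow_zero] at hn
        rw [Subgroup.eq_bot_of_card_eq _ hn, Subgroup.mem_bot, ← CfsgLib.Qd.mk_one, CfsgLib.Qd.tra,
          CfsgLib.Qd.mk_inj] at hx
        exact one_ne_zero hx.2.2.2.2.1
      have h2 := (Fact.out : p.Prime).factorization_pos_of_dvd Nat.card_pos.ne' hd
      exact absurd h1.symm (Nat.one_lt_pow h2.ne' (Fact.out : p.Prime).one_lt).ne'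
    refine ⟨CfsgLib.ZJCenter.zj_ne_bot (Or.inl rfl) T.isPGroup' hqdne, ?_, fun φ => ?_⟩
    · exact inf_le_left.trans (CfsgLib.PLoc.joinMaxAb_le 0 _)
    · rw [CfsgLib.ZJCenter.zj_map φ.injective]
      set S' := (T : Subgroup (↥K ⧸ R.subgroupOf K)).map φ.toMonoidHom
      rw [Subgroup.characteristic_iff_map_eq]
      intro ψ
      apply Subgroup.map_injective S'.subtype_injective
      have hz : ((CfsgLib.ZJCenter.zj 0 S').subgroupOf S') = CfsgLib.ZJCenter.zj 0 (⊤ : Subgroup S') := by
        apply Subgroup.map_injective S'.subtype_injective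
        rw [Subgroup.map_subgroupOf_eq_of_le (show CfsgLib.ZJCenter.zj 0 S' ≤ S' from
            inf_le_left.trans (CfsgLib.PLoc.joinMaxAb_le 0 _)),
          CfsgLib.ZJCenter.zj_map S'.subtype_injective, ← MonoidHom.range_eq_map, Subgroup.range_subtype]
      rw [hz, CfsgLib.ZJCenter.zj_map ψ.injective, ← MonoidHom.range_eq_map,
        MonoidHom.range_eq_top.2 ψ.surjective]

end Cfsg.Agent.S2794
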