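import Cfsg.Statements.S2795
import Cfsg.Agent.Lib.LocalEven.QdOver
import Cfsg.Agent.Lib.LocalEven.NatModule
import Cfsg.Agent.Lib.PLocal.QdStable

set_option autoImplicit false
open Cfsg CfsgLib.LocalEven CfsgLib.LocalEven.QdOver Subgroup
open scoped commutatorElement

namespace Cfsg.Agent.S2795

/-- `Qd(p)` is not `p`-stable in the normalizer form. -/
theorem not_stable {Q : Type*} [Group Q] [Finite Q] {p : ℕ} [Fact p.Prime]
    (e : Q ≃* ↥(Cfsg.qd p)) : ¬ Cfsg.IsNormalizerPStable p Q := by
  intro hst
  set e' : Q ≃* ↥(Cfsg.qdOver (ZMod p)) := e.trans (MulEquiv.subgroupCongr (rfl : Cfsg.qd p = Cfsg.qdOver (ZMod p)))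
  set P := (trans (ZMod p)).comap e'.toMonoidHom
  haveI : (trans (ZMod p)).Normal := MonoidHom.normal_ker _
  haveI hPn : P.Normal := Subgroup.Normal.comap inferInstance _
  have hP : IsPGroup p P := (isPGroup_trans (F := ZMod p) p).comap_of_injective _ e'.injective
  have htopN : normalizer (P : Set Q) = ⊤ := normalizer_eq_top P
  set u : ↥(Cfsg.qdOver (ZMod p)) := mkAff (sl2Of 1 1 0 1 (by ring)) 0
  have hu : u ∈ linSub (ZMod p) := traPart_mkAff _ _
  set g := e'.symm u
  have hg : g ∈ normalizer (P : Set Q) := by rw [htopN]; trivial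
  -- the elements fixed by `g`
  have hfix : ∀ w ∈ trans (ZMod p), traPart w 1 = 0 → u * w = w * u := by
    intro w hw h1
    have h2 : traPart (u * w * u⁻¹) = traPart w := by
      rw [traPart_conj hu hw, linPart_mkAff, upperUni_mulVec (sl2Of_mem_upperUni 1)]
      funext i; fin_cases i <;> simp [h1]
    have h3 : u * w * u⁻¹ = w := by
      refine ext_parts ?_ h2
      rw [map_mul, map_mul, map_inv, mem_trans.1 hw, mul_one, mul_inv_cancel]
    exact mul_inv_eq_iff_eq_mul.1 h3
  have hzc : ∀ z ∈ zpowers g, ∀ w ∈ trans (ZMod p), traPart w 1 = 0 → Commute (e' z) w := by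
    intro z hz w hw h1
    obtain ⟨n, rfl⟩ := mem_zpowers_iff.1 hz
    rw [map_zpow, e'.apply_symm_apply]
    exact (show Commute u w from hfix w hw h1).zpow_left n
  have hq : ⁅⁅P, zpowers g⁆, zpowers g⁆ = ⊥ := by
    rw [commutator_eq_bot_iff_le_centralizer, commutator_le]
    intro v hv z hz z' hz'
    have hcz : traPart (e' ⁅v, z⁆) 1 = 0 ∧ e' ⁅v, z⁆ ∈ trans (ZMod p) := by
      obtain ⟨n, rfl⟩ := mem_zpowers_iff.1 hz
      have hv' : linPart (e' v) = 1 := hv
      have hvt : (e' v)⁻¹ ∈ trans (ZMod p) := inv_mem hv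
      have hzl : e' (g ^ n) ∈ linSub (ZMod p) := by
        rw [map_zpow, e'.apply_symm_apply]; exact zpow_mem hu n
      have hup : linPart (e' (g ^ n)) ∈ upperUni (ZMod p) := by
        rw [map_zpow, e'.apply_symm_apply, map_zpow, linPart_mkAff]
        exact zpow_mem (sl2Of_mem_upperUni 1) n
      have hc : ⁅v, g ^ n⁆ = v * (g ^ n * v⁻¹ * (g ^ n)⁻¹) := by
        rw [commutatorElement_def]; group
      refine ⟨?_, ?_⟩
      · rw [hc, map_mul, map_mul, map_mul, map_inv, map_inv, traPart_mul, hv',
          show ((1 : Matrix.SpecialLinearGroup (Fin 2) (ZMod p))).1 = 1 from rfl, Matrix.one_mulVec,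
          traPart_conj hzl hvt, upperUni_mulVec hup]
        have h0 := traPart_mul (e' v)⁻¹ (e' v)
        rw [inv_mul_cancel, traPart_one, map_inv, hv', inv_one,
          show ((1 : Matrix.SpecialLinearGroup (Fin 2) (ZMod p))).1 = 1 from rfl, Matrix.one_mulVec] at h0
        have h1 := congrFun h0 1
        simp at h1 ⊢
        linear_combination -h1
      · rw [mem_trans, hc]
        simp only [map_mul, map_inv, hv']
        simp
    apply e'.injective
    rw [map_mul, map_mul]
    exact (hzc z' hz' _ hcz.2 hcz.1).eq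
  have hmem := hst P hP g hg hq
  -- but the linear part of `g` is not in `O_p`
  set N := normalizer (P : Set Q)
  set ψ : N →* Matrix.SpecialLinearGroup (Fin 2) (ZMod p) := linPart.comp (e'.toMonoidHom.comp N.subtype)
  have hker : (centralizer (P : Set Q)).subgroupOf N ≤ ψ.ker := by
    intro z hz
    refine Subtype.ext (Matrix.ext fun i j => ?_)
    set l := e' (z : Q)
    have key : ∀ v : Fin 2 → ZMod p, (linPart l).1.mulVec v = v := fun v => by
      have hm : e'.symm (mkAff 1 v) ∈ P := by
        show linPart (e' (e'.symm (mkAff 1 v))) = 1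
        rw [e'.apply_symm_apply, linPart_mkAff]
      have h := congrArg e' (hz _ hm)
      rw [map_mul, map_mul, e'.apply_symm_apply] at h
      have h' := congrArg traPart h
      rw [traPart_mul, traPart_mul, traPart_mkAff, linPart_mkAff,
        show ((1 : Matrix.SpecialLinearGroup (Fin 2) (ZMod p))).1 = 1 from rfl, Matrix.one_mulVec] at h'
      exact (add_right_cancel ((add_comm _ _).trans h')).symm
    have := congrFun (key (Pi.single j 1)) i
    rw [Matrix.mulVec_single_one] at this
    show (linPart l).1 i j = _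
    rw [show (linPart l).1 i j = _ from this, Matrix.SpecialLinearGroup.coe_one, Matrix.one_apply,
      Pi.single_apply]
  set ψ' := QuotientGroup.lift ((centralizer (P : Set Q)).subgroupOf N) ψ hker
  have hsurj : Function.Surjective ψ' := fun M => ⟨QuotientGroup.mk ⟨e'.symm (mkAff M 0), by
    show _ ∈ normalizer (P : Set Q); rw [normalizer_eq_top]; trivial⟩, by
      show linPart (e' (e'.symm (mkAff M 0))) = M
      rw [e'.apply_symm_apply, linPart_mkAff]⟩
  haveI := pCore_normal' p (↥N ⧸ (centralizer (P : Set Q)).subgroupOf N)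
  haveI : ((Cfsg.pCore p (↥N ⧸ (centralizer (P : Set Q)).subgroupOf N)).map ψ').Normal :=
    Normal.map inferInstance _ hsurj
  have hbot := normal_pGroup_eq_bot (p := p) ((pCore_isPGroup' (p := p) _).map ψ'
    (H := Cfsg.pCore p (↥N ⧸ (centralizer (P : Set Q)).subgroupOf N)))
  have hlin : linPart (e' g) = 1 := (mem_bot.1 (hbot ▸ mem_map_of_mem ψ' hmem))
  rw [e'.apply_symm_apply, linPart_mkAff] at hlin
  have := congrArg (fun M : Matrix.SpecialLinearGroup (Fin 2) (ZMod p) => M.1 0 1) hlin
  simp [sl2Of] at this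

/-- For an odd prime p and a finite group G, the group Qd(p) is not involved in G if and only if every section of G is p-stable in the normalizer form (for every p-subgroup P of the section and every g in its normalizer acting quadratically on P, the image of g in N(P)/C(P) lies in O_p(N(P)/C(P))). -/
theorem result {G : Type*} [Group G] [Finite G] {p : ℕ} [Fact p.Prime] (hp : p ≠ 2) : ¬ Cfsg.Involves ↥(Cfsg.qd p) G ↔ ∀ (K R : Subgroup G) [hR : (R.subgroupOf K).Normal], Cfsg.IsNormalizerPStable p (K ⧸ R.subgroupOf K) := by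
  constructor
  · intro h K R hR
    refine (CfsgLib.PLoc.isNormalizerPStable_or_qd hp _).resolve_right fun hs => h ?_
    obtain ⟨A, B, hB, he⟩ := CfsgLib.PLoc.hasQdSection_of_subgroup K
      (CfsgLib.PLoc.hasQdSection_of_surjective (QuotientGroup.mk'_surjective (R.subgroupOf K)) hs)
    exact ⟨A, B, hB, he⟩
  · rintro h ⟨K, R, hR, ⟨e⟩⟩
    exact not_stable e (h K R)

end Cfsg.Agent.S2795
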