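import Cfsg.Statements.S2796
import Cfsg.Agent.S1997
import Cfsg.Agent.Lib.TwoFact.Functors

set_option autoImplicit false
universe u
open Cfsg CfsgLib.TwoFact

namespace Cfsg.Agent.S2796

/-- Let G be a finite group in which the symmetric group of degree 4 is not involved, such that for every section K/R of G with C(O₂(K/R)) ≤ O₂(K/R) every non-abelian composition factor of K/R is a Suzuki group Sz(2^(2n+1)) or PSL₂ over a field with 3^(2n+1) elements. Let S be a Sylow 2-subgroup, J_e(S) the subgroup generated by its elementary abelian subgroups of largest order, and A the normal closure of Ω₁(Z(S)) in N_G(J_e(S)). Then A is an elementary abelian subgroup of S, strongly closed in S with respect to G, and A controls strong fusion in G. -/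
theorem result {G : Type u} [Group G] [Finite G] (hfree : ¬ Cfsg.Involves (Equiv.Perm (Fin 4)) G) (hsec : ∀ (K R : Subgroup G) [hR : (R.subgroupOf K).Normal], Subgroup.centralizer (Cfsg.pCore 2 (K ⧸ R.subgroupOf K) : Set (K ⧸ R.subgroupOf K)) ≤ Cfsg.pCore 2 (K ⧸ R.subgroupOf K) → Cfsg.IsCompositionKGroupWith Cfsg.IsSuzukiOrPSL2OddPowerThree (K ⧸ R.subgroupOf K)) (S : Sylow 2 G) (N : Subgroup G) (hN : N = Subgroup.normalizer (Cfsg.thompsonSubgroupOf 2 (S : Subgroup G) : Set G)) (A : Subgroup G) (hA : A = (Subgroup.normalClosure (((Cfsg.omegaOne 2 ((S : Subgroup G) ⊓ Subgroup.centralizer ((S : Subgroup G) : Set G))).subgroupOf N : Subgroup ↥N) : Set ↥N)).map N.subtype) : A ≤ S ∧ Cfsg.IsElementaryAbelian 2 A ∧ Cfsg.IsStronglyClosed A (S : Subgroup G) ∧ Cfsg.ControlsStrongFusion 2 A := by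
  haveI : Fact (Nat.Prime 2) := ⟨Nat.prime_two⟩
  have hfreeX : ∀ (K R : Subgroup G) [hR : (R.subgroupOf K).Normal],
      ¬ Cfsg.Involves (Equiv.Perm (Fin 4)) (↥K ⧸ R.subgroupOf K) := fun K R _ h =>
    hfree (CfsgLib.LocalEven.ThompsonA.involves_of_injective K.subtype K.subtype_injective
      (CfsgLib.LocalEven.ThompsonA.involves_of_quotient _ (QuotientGroup.mk'_surjective _) h))
  refine Cfsg.Agent.S1997.result S jFunctor wFunctor jFunctor_isCharP wFunctor_isCharP
    (fun K R hR hchar T => ?_) ?_ N hN A hA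
  · have hS3 := s3Free_of_sFourFree hchar (hfreeX K R)
    have hK := kEven_of_composition (hsec K R hchar)
    refine ⟨fun x => ?_, fun x => ?_, fun x => ?_⟩
    · obtain ⟨c, hc, n, hn, -, rfl⟩ := part_one hchar hS3 hK T x
      exact ⟨c, Subgroup.centralizer_le (SetLike.coe_subset_coe.2 (CfsgLib.PLocal.omegaOne_le 2 _)) hc, n, hn, rfl⟩
    · obtain ⟨c, hc, n, -, hn, rfl⟩ := part_one hchar hS3 hK T x
      refine ⟨c, Subgroup.centralizer_le (SetLike.coe_subset_coe.2 (CfsgLib.PLocal.omegaOne_le 2 _)) hc, n, ?_, rfl⟩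
      rw [inducedFunctor_wFunctor]
      exact normalizer_le_normalizer_omegaZ _ hn
    · obtain ⟨c, hc, n, hn, hx⟩ := part_three _ _ rfl hchar hS3 hK T x⁻¹
      refine ⟨n⁻¹, inv_mem hn, c⁻¹, inv_mem ?_, by rw [← mul_inv_rev, ← hx, inv_inv]⟩
      rw [inducedFunctor_wFunctor]
      exact Subgroup.centralizer_le_normalizer _ hc
  · refine le_inf (omegaZ_le_thompson _) ?_
    rw [inducedFunctor_wFunctor]
    exact omegaZ_le_omegaZ_jHatOf _

end Cfsg.Agent.S2796
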