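import Cfsg.Statements.S2799
import Cfsg.Agent.Lib.LocalEven.S4FreeFix
import Cfsg.Agent.Lib.ConjFunctor.PthPowers
import Cfsg.Agent.Lib.LocEven.Replacement
import Cfsg.Agent.Lib.PLocal.ZJ

set_option autoImplicit false
open Cfsg

namespace Cfsg.Agent.S2799

open CfsgLib.ConjFunctor
open CfsgLib.PLoc (joinMaxAb IsMaxAb)

section
variable {G : Type*} [Group G] [Finite G] {p : ℕ} [Fact p.Prime]

/-- The join of the abelian subgroups of largest order is a conjugacy functor. -/
theorem isConjugacyFunctor_join : Cfsg.IsConjugacyFunctor p (fun P : Subgroup G => joinMaxAb 0 P) :=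
  fun P hP => ⟨CfsgLib.PLoc.joinMaxAb_le 0 P,
    fun h => CfsgLib.LocalEven.ThompsonA.joinMaxAb_ne_bot (p := p) hP h,
    fun g => CfsgLib.PLoc.joinMaxAb_map _ (MulAut.conj g).injective 0 P⟩

theorem inf_centralizer_le (P : Subgroup G) :
    P ⊓ Subgroup.centralizer (P : Set G) ≤ joinMaxAb 0 P := by
  obtain ⟨A, hA⟩ := CfsgLib.PLoc.exists_isMaxAb 0 P
  exact (CfsgLib.LocalEven.ThompsonA.center_le_interMaxAb P).trans
    ((CfsgLib.PLoc.interMaxAb_le hA).trans (CfsgLib.PLoc.le_joinMaxAb hA))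

/-- If `J(T)` is not normal in `H`, it is not inside `O_p(H)`. -/
theorem join_not_le {H T : Subgroup G} (hT : IsSyl p T H)
    (hn : ¬ H ≤ Subgroup.normalizer ((joinMaxAb 0 T : Subgroup G) : Set G)) :
    ¬ joinMaxAb 0 T ≤ Cfsg.pCoreOf p H := by
  intro hle
  refine hn fun h hh => cj_eq_self_iff.1 ?_
  rw [← CfsgLib.PLoc.joinMaxAb_eq_of_le (pCoreOf_le_isSyl hT) hle]
  show (joinMaxAb 0 _).map _ = _
  rw [← CfsgLib.PLoc.joinMaxAb_map _ (MulAut.conj h).injective]
  congr 1
  haveI := CfsgLib.Solvable.pCore_normal p H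
  refine Subgroup.eq_of_le_of_card_ge ?_ (card_cj h _).ge
  rintro _ ⟨_, ⟨y, hy, rfl⟩, rfl⟩
  exact ⟨⟨h, hh⟩ * y * ⟨h, hh⟩⁻¹, Subgroup.Normal.conj_mem inferInstance y hy _, rfl⟩

/-- Thompson replacement gives a quadratic element outside `O_p(H)`. -/
theorem exists_quadratic {H T : Subgroup G} (hT : IsSyl p T H)
    (hn : ¬ H ≤ Subgroup.normalizer ((joinMaxAb 0 T : Subgroup G) : Set G)) :
    ∃ g : G, g ∈ T ∧ g ∉ Cfsg.pCoreOf p H ∧
      ⁅⁅Cfsg.pCoreOf p H ⊓ Subgroup.centralizer ((Cfsg.pCoreOf p H : Subgroup G) : Set G),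
        Subgroup.zpowers g⁆, Subgroup.zpowers g⁆ = ⊥ := by
  set Q := Cfsg.pCoreOf p H with hQ
  set V := Q ⊓ Subgroup.centralizer (Q : Set G) with hV
  have hVT : V ≤ T := inf_le_left.trans (pCoreOf_le_isSyl hT)
  have hHV : ∀ h ∈ H, ∀ v ∈ V, h * v * h⁻¹ ∈ V := by
    intro h hh v hv
    haveI := CfsgLib.Solvable.pCore_normal p H
    have hQn : ∀ h ∈ H, ∀ y ∈ Q, h * y * h⁻¹ ∈ Q := by
      rintro h hh _ ⟨y, hy, rfl⟩
      exact ⟨⟨h, hh⟩ * y * ⟨h, hh⟩⁻¹, Subgroup.Normal.conj_mem inferInstance y hy _, rfl⟩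
    refine ⟨hQn h hh v hv.1, Subgroup.mem_centralizer_iff.2 fun y hy => ?_⟩
    have h1 := Subgroup.mem_centralizer_iff.1 hv.2 _ (hQn h⁻¹ (H.inv_mem hh) y hy)
    calc y * (h * v * h⁻¹) = h * (h⁻¹ * y * h⁻¹⁻¹ * v) * h⁻¹ := by group
      _ = h * (v * (h⁻¹ * y * h⁻¹⁻¹)) * h⁻¹ := by rw [h1]
      _ = _ := by group
  obtain ⟨A0, hA0, hA0Q⟩ : ∃ A, IsMaxAb 0 T A ∧ ¬ A ≤ Q := by
    by_contra h
    push Not at h
    exact join_not_le hT hn (sSup_le fun A hA => h A hA)
  obtain ⟨A, ⟨hA, hAQ⟩, hmax⟩ := Set.exists_max_image {A : Subgroup G | IsMaxAb 0 T A ∧ ¬ A ≤ Q}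
    (fun A => Nat.card ↥(A ⊓ V)) (Set.toFinite _) ⟨A0, hA0, hA0Q⟩
  have hVA : ∀ v ∈ V, v ∈ Subgroup.normalizer (A : Set G) := by
    by_contra hcon
    have hD : ¬ V.subgroupOf T ≤ Subgroup.normalizer ((A.subgroupOf T : Subgroup T) : Set T) := by
      intro h
      apply hcon
      intro v hv
      have h1 := h (show (⟨v, hVT hv⟩ : T) ∈ V.subgroupOf T from hv)
      refine Subgroup.mem_normalizer_iff.2 fun a => ⟨fun ha => ?_, fun ha => ?_⟩
      · exact ((Subgroup.mem_normalizer_iff.1 h1 ⟨a, hA.le ha⟩).1 ha)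
      · have haT : a ∈ T := by
          have := T.mul_mem (T.mul_mem (T.inv_mem (hVT hv)) (hA.le ha)) (hVT hv)
          simpa [mul_assoc] using this
        exact (Subgroup.mem_normalizer_iff.1 h1 ⟨a, haT⟩).2 ha
    haveI : Group.IsNilpotent T := hT.isPGroup.isNilpotent
    haveI : (V.subgroupOf T).Normal := ⟨fun v hv t => hHV _ (hT.le t.2) _ hv⟩
    have hA' : A.subgroupOf T ∈ Cfsg.maxAbelianSubgroups T := by
      obtain ⟨B, hB, hBA⟩ := (CfsgLib.PLoc.isMaxAb_zero_iff T A).2 hA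
      rw [← hBA, Subgroup.subgroupOf, Subgroup.comap_map_eq_self_of_injective T.subtype_injective]
      exact hB
    obtain ⟨B, hB, hlt, hBn, -, -⟩ := CfsgLib.LocEven.thompson_replacement_abelian hA'
      (D := V.subgroupOf T) (IsMulCommutative.of_setLike_mul_comm fun a ha b hb => Subtype.ext
        ((Subgroup.mem_centralizer_iff.1 (Subgroup.mem_inf.1 hb).2 _ (Subgroup.mem_inf.1 ha).1))) hD
    set B' := B.map T.subtype with hB'
    have hB'max : IsMaxAb 0 T B' := (CfsgLib.PLoc.isMaxAb_zero_iff T B').1 ⟨B, hB, rfl⟩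
    have hcard : Nat.card ↥(A ⊓ V) < Nat.card ↥(B' ⊓ V) := by
      have h1 := Subgroup.map_subgroupOf_eq_of_le (inf_le_left.trans hA.le : A ⊓ V ≤ T)
      have h2 : B' ⊓ V = (B ⊓ V.subgroupOf T).map T.subtype := by
        rw [Subgroup.map_inf _ _ _ T.subtype_injective, Subgroup.map_subgroupOf_eq_of_le hVT]
      rw [← h1, h2, Subgroup.card_map_of_injective T.subtype_injective,
        Subgroup.card_map_of_injective T.subtype_injective]
      exact lt_of_not_ge fun hge => hlt.ne (Subgroup.eq_of_le_of_card_ge hlt.le hge)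
    have hB'Q : B' ≤ Q := by
      by_contra h
      exact absurd (hmax B' ⟨hB'max, h⟩) (not_le.2 hcard)
    apply hD
    refine le_trans ?_ hBn
    intro v hv
    have h1 : (v : G) ∈ B' := CfsgLib.PLoc.mem_of_commute hB'max v.2 (pow_zero _) fun a ha =>
      Subgroup.mem_centralizer_iff.1 (Subgroup.mem_inf.1 hv).2 a (hB'Q ha)
    obtain ⟨b, hb, hbv⟩ := h1
    rwa [show v = b from Subtype.ext hbv.symm]
  obtain ⟨g, hgA, hgQ⟩ := SetLike.not_le_iff_exists.1 hAQ
  refine ⟨g, hA.le hgA, hgQ, ?_⟩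
  have h1 : ⁅V, Subgroup.zpowers g⁆ ≤ A := by
    refine (Subgroup.commutator_mono le_rfl (Subgroup.zpowers_le.2 hgA)).trans ?_
    rw [Subgroup.commutator_le]
    intro v hv a ha
    rw [commutatorElement_def]
    exact A.mul_mem ((Subgroup.mem_normalizer_iff.1 (hVA v hv) a).1 ha) (A.inv_mem ha)
  rw [Subgroup.commutator_eq_bot_iff_le_centralizer]
  exact h1.trans (((Subgroup.le_centralizer_iff_isMulCommutative (K := A)).2 hA.comm).trans
    (Subgroup.centralizer_le (Subgroup.zpowers_le.2 hgA)))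

/-- The local input for `S₄`-free groups. -/
theorem fixLocal_of_s4Free {G : Type*} [Group G] [Finite G]
    (hS4 : ¬ Cfsg.Involves (Equiv.Perm (Fin 4)) G) (A : Subgroup G) :
    FixLocal 2 (fun P : Subgroup G => joinMaxAb 0 P) A (Subgroup.centralizer (A : Set G))
      (fun T => A ≤ Subgroup.centralizer (T : Set G)) := by
  haveI : Fact (Nat.Prime 2) := ⟨Nat.prime_two⟩
  intro H T hT hAT hAd hn hAP hM h hh
  obtain ⟨S, hST, hS⟩ := exists_sylow_map hT
  obtain ⟨B, hB, hBQ⟩ : ∃ B, IsMaxAb 0 (S : Subgroup H) B ∧ ¬ B ≤ Cfsg.pCore 2 H := by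
    by_contra hcon
    push Not at hcon
    apply join_not_le hT hn
    rw [← hST, CfsgLib.PLoc.joinMaxAb_map _ H.subtype_injective]
    exact Subgroup.map_mono (sSup_le fun B hB => hcon B hB)
  refine Subgroup.mem_centralizer_iff.2 fun a ha => ?_
  have hmem := mem_coreCenter hT (a := ⟨a, hT.le (hAT ha)⟩) (hAP ha) (hAd ha)
  have hc := CfsgLib.LocalEven.S4FreeFix.commute_of_offender
    (fun h4 => hS4 (CfsgLib.LocalEven.ThompsonA.involves_of_injective H.subtype H.subtype_injective h4))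
    S hB hBQ hmem (fun N hSN hN n hn' => ?_) ⟨h, hh⟩
  · exact (congrArg Subtype.val hc.eq).symm
  · refine Subtype.ext ((Subgroup.mem_centralizer_iff.1 (hM (N.map H.subtype)
      (hST ▸ Subgroup.map_mono hSN) (lt_of_le_of_ne (Subgroup.map_subtype_le _) fun he => hN
        (eq_top_iff.2 fun x _ => ?_)) ⟨n, hn', rfl⟩) a ha).symm)
    obtain ⟨y, hy, hyx⟩ := he.ge x.2
    rwa [show x = y from Subtype.ext hyx.symm]

end

/-- Let S be a Sylow p-subgroup of the finite group G, J(S) the subgroup generated by the abelian subgroups of S of largest order, and x an element of S lying in the centre of N_G(J(S)). Assume that p is odd, or that x is a p-th power of an element of Z(S), or that the symmetric group of degree 4 is not involved in G. Then x is weakly closed in S with respect to G: every G-conjugate of x that lies in S equals x. -/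
theorem result {G : Type*} [Group G] [Finite G] {p : ℕ} [Fact p.Prime] (S : Sylow p G) (x : G) (hxS : x ∈ (S : Subgroup G)) (hxZ : x ∈ (Subgroup.center ↥(Subgroup.normalizer ((Cfsg.thompsonSubgroupAOf (S : Subgroup G)) : Set G))).map (Subgroup.normalizer ((Cfsg.thompsonSubgroupAOf (S : Subgroup G)) : Set G)).subtype) (h : p ≠ 2 ∨ (∃ z ∈ (S : Subgroup G) ⊓ Subgroup.centralizer ((S : Subgroup G) : Set G), z ^ p = x) ∨ ¬ Cfsg.Involves (Equiv.Perm (Fin 4)) G) : ∀ g : G, g * x * g⁻¹ ∈ (S : Subgroup G) → g * x * g⁻¹ = x := by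
  classical
  rw [CfsgLib.PLoc.joinMaxAb_zero] at hxZ
  have hW := isConjugacyFunctor_join (G := G) (p := p)
  have hWZ : ∀ P : Subgroup G, IsPGroup p ↥P →
      P ⊓ Subgroup.centralizer (P : Set G) ≤ joinMaxAb 0 P := fun P _ => inf_centralizer_le P
  obtain ⟨x', hx', rfl⟩ := hxZ
  have hxN : ∀ n ∈ Subgroup.normalizer ((joinMaxAb 0 (S : Subgroup G) : Subgroup G) : Set G),
      n * (x' : G) = (x' : G) * n := fun n hn =>
    congrArg Subtype.val (Subgroup.mem_center_iff.1 hx' ⟨n, hn⟩)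
  set x : G := (x' : G) with hx
  change x ∈ (S : Subgroup G) at hxS
  have hSN : (S : Subgroup G) ≤
      Subgroup.normalizer ((joinMaxAb 0 (S : Subgroup G) : Subgroup G) : Set G) := by
    intro s hs
    refine cj_eq_self_iff.1 ?_
    show (joinMaxAb 0 _).map _ = _
    rw [← CfsgLib.PLoc.joinMaxAb_map _ (MulAut.conj s).injective]
    exact congrArg _ (cj_eq_self_of_mem hs)
  by_cases hpow : ∃ z ∈ (S : Subgroup G) ⊓ Subgroup.centralizer ((S : Subgroup G) : Set G), z ^ p = x
  · obtain ⟨z, hz, hzx⟩ := hpow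
    exact (pthPowers_weaklyClosed S hW hWZ (fun H T hT hn => exists_quadratic hT hn) rfl).1 x
      ⟨Subgroup.subset_closure ⟨z, hz, hzx⟩, Subgroup.mem_centralizer_iff.2 fun n hn => hxN n hn⟩
  have hKA : Subgroup.centralizer ((Subgroup.zpowers x : Subgroup G) : Set G) ≤
      Subgroup.normalizer ((Subgroup.zpowers x : Subgroup G) : Set G) :=
    Subgroup.centralizer_le_normalizer _
  have hfix : FixLocal p (fun P : Subgroup G => joinMaxAb 0 P) (Subgroup.zpowers x)
      (Subgroup.centralizer ((Subgroup.zpowers x : Subgroup G) : Set G))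
      (fun T => Subgroup.zpowers x ≤ Subgroup.centralizer (T : Set G)) := by
    by_cases hp : p = 2
    · subst hp
      exact fixLocal_of_s4Free ((h.resolve_left (fun h' => h' rfl)).resolve_left hpow) _
    · refine fixLocal_of_engel _ (fun H T hT hn => ?_) _
      obtain ⟨g, hg, hgP, h2⟩ := exists_quadratic hT hn
      refine ⟨g, hg, hgP, fun U V _ hU => ?_⟩
      have hp3 : 2 ≤ p - 1 := by
        have h2p := (Fact.out : p.Prime).two_le
        omega
      obtain ⟨k, hk⟩ := Nat.exists_eq_add_of_le hp3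
      have hz : ∀ k, Cfsg.iterCommutator (U.map H.subtype) (Subgroup.zpowers g) (2 + k) = ⊥ := by
        intro k
        induction k with
        | zero => exact le_bot_iff.1 ((Subgroup.commutator_mono
            (Subgroup.commutator_mono hU le_rfl) le_rfl).trans h2.le)
        | succ k ih =>
          show ⁅Cfsg.iterCommutator (U.map H.subtype) (Subgroup.zpowers g) (2 + k), _⁆ = ⊥
          rw [ih, Subgroup.commutator_bot_left]
      rw [hk, hz k]
      exact bot_le
  intro g hg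
  have hxc : Subgroup.zpowers x ≤ Subgroup.centralizer ((S : Subgroup G) : Set G) :=
    Subgroup.zpowers_le.2 (Subgroup.mem_centralizer_iff.2 fun s hs => hxN s (hSN hs))
  have hgC := weakClosure_of_local hW hWZ hKA (fun T hT => hT)
    (fun T R hR _ hT => hT.trans (Subgroup.centralizer_le hR)) hfix ⊤ S (isSyl_top S)
    (Subgroup.zpowers_le.2 hxS) hxc (fun n hn => Subgroup.mem_centralizer_iff.2 fun y hy => by
      obtain ⟨m, rfl⟩ := Subgroup.mem_zpowers_iff.1 hy
      exact ((show Commute n x from hxN n hn.2).zpow_right m).eq.symm) g (Subgroup.mem_top g) (by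
      show (Subgroup.zpowers x).map _ ≤ _
      rw [MonoidHom.map_zpowers, Subgroup.zpowers_le]
      simpa using hg)
  show g * x * g⁻¹ = x
  rw [← Subgroup.mem_centralizer_iff.1 hgC x (Subgroup.mem_zpowers x), mul_inv_cancel_right]

end Cfsg.Agent.S2799
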