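import Cfsg.Statements.S2802
import Cfsg.Agent.Lib.LocalEven.PReduced

set_option autoImplicit false
open Cfsg CfsgLib.LocalEven

namespace Cfsg.Agent.S2802

/-- Let L be a finite group and p a prime with C_L(O_p(L)) ≤ O_p(L), T a Sylow p-subgroup of L and R a subgroup with T ≤ R. If X is a p-reduced normal subgroup of R (normal in R, elementary abelian, O_p(R/C_R(X)) = 1), then the normal closure of X in L is a p-reduced normal subgroup of L. -/
theorem result {L : Type*} [Group L] [Finite L] {p : ℕ} [Fact p.Prime] (hchar : Subgroup.centralizer (Cfsg.pCore p L : Set L) ≤ Cfsg.pCore p L) (T : Sylow p L) (R : Subgroup L) (hTR : (T : Subgroup L) ≤ R) (X : Subgroup ↥R) (hX : Cfsg.IsPReducedNormal p X) : Cfsg.IsPReducedNormal p (Subgroup.normalClosure ((X.map R.subtype : Subgroup L) : Set L)) := by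
  haveI : Finite ↥R := inferInstance
  haveI := pCore_normal' p L
  have hPT : pCore p L ≤ (T : Subgroup L) := (pCore_isPGroup' L).le_sylow_of_normal T
  have hPR : (pCore p L).subgroupOf R ≤ pCore p ↥R :=
    le_pCore' inferInstance (pCore_isPGroup' L).comap_subtype
  have hWc : pCore p L ≤ Subgroup.centralizer ((X.map R.subtype : Subgroup L) : Set L) := by
    rintro z hz _ ⟨w, hw, rfl⟩
    exact congrArg Subtype.val
      (pCore_le_centralizer hX (hPR (show (⟨z, hTR (hPT hz)⟩ : R) ∈ _ from hz)) w hw)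
  have hW : X.map R.subtype ≤ pCore p L := fun w hw =>
    hchar fun z hz => (hWc hz w hw).symm
  refine pReduced_normalClosure_aux T hW hWc ?_ fun N hN _ hm => ?_
  · rintro _ ⟨w, hw, rfl⟩
    rw [← map_pow, hX.2.1.2 w hw, map_one]
  · have hle : N.subgroupOf R ≤ Subgroup.centralizer (X : Set R) := by
      refine pReduced_le_centralizer hX (hN.comap _) fun x hx => ?_
      obtain ⟨k, hk⟩ := hm x hx
      refine ⟨k, fun w hw => Subtype.ext ?_⟩
      exact hk (w : L) (Subgroup.subset_normalClosure ⟨w, hw, rfl⟩)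
    rintro t ⟨ht, htN⟩ _ ⟨w, hw, rfl⟩
    exact congrArg Subtype.val (hle (show (⟨t, hTR ht⟩ : R) ∈ N.subgroupOf R from htN) w hw)

end Cfsg.Agent.S2802
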