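import Cfsg.Statements.S2804
import Cfsg.Agent.Lib.LocalEven.PReducedSubnormal
import Mathlib.Tactic.Group

set_option autoImplicit false
open Cfsg CfsgLib.LocalEven
open scoped commutatorElement

namespace Cfsg.Agent.S2804

/-- Let L be a finite group and p a prime with C_L(O_p(L)) ≤ O_p(L), V a p-reduced normal subgroup of L and K a subnormal subgroup of L. Then [V, O^p(K)] is contained in K and is a p-reduced normal subgroup of K, where O^p(K) is the subgroup of K generated by its elements of order prime to p. -/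
theorem result {L : Type*} [Group L] [Finite L] {p : ℕ} [Fact p.Prime] (hchar : Subgroup.centralizer (Cfsg.pCore p L : Set L) ≤ Cfsg.pCore p L) (V : Subgroup L) (hV : Cfsg.IsPReducedNormal p V) (K : Subgroup L) (hK : K.IsSubnormal) : ⁅V, (Cfsg.pResidual p ↥K).map K.subtype⁆ ≤ K ∧ Cfsg.IsPReducedNormal p ((⁅V, (Cfsg.pResidual p ↥K).map K.subtype⁆).subgroupOf K) := by
  set R := (pResidual p ↥K).map K.subtype with hRdef
  have hRK : R ≤ K := Subgroup.map_subtype_le _
  have hgenR : ∀ x ∈ K, (orderOf x).Coprime p → x ∈ R := fun x hx hc =>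
    ⟨⟨x, hx⟩, Subgroup.subset_closure (show Nat.Coprime _ p by rwa [Subgroup.orderOf_mk]), rfl⟩
  have hVV : ⁅V, R⁆ ≤ V := by
    haveI := hV.1
    exact Subgroup.commutator_le_left V R
  have hle : ⁅V, R⁆ ≤ K := by
    refine Subgroup.commutator_le.2 fun v hv r hr => ?_
    obtain ⟨r, hr, rfl⟩ := hr
    induction hr using Subgroup.closure_induction generalizing v with
    | mem x hx =>
      have h := inv_mem (commutator_mem_subnormal hV.1 hV.2.1 hK (x : L) x.2
        (by rwa [Subgroup.orderOf_coe]) v hv)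
      rw [commutatorElement_def]
      simpa [mul_assoc] using h
    | one => simp
    | mul a b _ _ iha ihb =>
      rw [map_mul, show ⁅v, K.subtype a * K.subtype b⁆ = ⁅v, K.subtype a⁆ *
        (K.subtype a * ⁅v, K.subtype b⁆ * (K.subtype a)⁻¹) by
          simp only [commutatorElement_def]; group]
      exact mul_mem (iha v hv) (mul_mem (mul_mem a.2 (ihb v hv)) (inv_mem a.2))
    | inv a _ iha =>
      rw [map_inv, show ⁅v, (K.subtype a)⁻¹⁆ =
          (K.subtype a)⁻¹ * ⁅v, K.subtype a⁆⁻¹ * K.subtype a by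
        simp only [commutatorElement_def]; group]
      exact mul_mem (mul_mem (inv_mem a.2) (inv_mem (iha v hv))) a.2
  refine ⟨hle, ?_⟩
  set Z := ⁅V, R⁆ with hZ
  have hZn : K ≤ Subgroup.normalizer (Z : Set L) := by
    intro g hg
    rw [mem_normalizer_iff_cj, cj, hZ, Subgroup.map_commutator]
    congr 1
    · exact mem_normalizer_iff_cj.1 (Subgroup.normalizer_eq_top_iff.2 hV.1 ▸ Subgroup.mem_top g)
    · refine mem_normalizer_iff_cj.1 ?_
      haveI : (pResidual p ↥K).Normal := pResidual_normal _
      have := Subgroup.le_normalizer_map (H := pResidual p ↥K) K.subtype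
      rw [Subgroup.normalizer_eq_top, ← MonoidHom.range_eq_map, Subgroup.range_subtype] at this
      exact this hg
  have hZK : Z.subgroupOf K |>.Normal :=
    (Subgroup.normal_subgroupOf_iff_le_normalizer hle).2 hZn
  -- `C_K(Z) = C_K(V)`
  have hkey : ∀ x ∈ K, (orderOf x).Coprime p → x ∈ Subgroup.centralizer (Z : Set L) →
      x ∈ Subgroup.centralizer (V : Set L) := by
    intro x hx hc hxZ v hv
    have hd : v⁻¹ * (x * v * x⁻¹) ∈ Z := by
      have h := Subgroup.commutator_mem_commutator (inv_mem hv) (hgenR x hx hc)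
      rw [commutatorElement_def, inv_inv] at h
      rwa [show v⁻¹ * (x * v * x⁻¹) = v⁻¹ * x * v * x⁻¹ by group]
    exact (commute_of_series_step (isPGroup_elemAb hV.2.1) hc (hVV hd) (hxZ _ hd).symm).symm
  haveI : (Subgroup.centralizer (V : Set L)).Normal :=
    haveI := hV.1; Subgroup.normal_centralizer
  refine pReduced_mk hZK ⟨?_, fun a ha => Subtype.ext (hV.2.1.2 _ (hVV ha))⟩ fun N hN hCN hm => ?_
  · constructor
    constructor
    intro a b
    refine Subtype.ext (Subtype.ext ?_)
    have := congrArg Subtype.val (hV.2.1.1.is_comm.comm (⟨_, hVV a.2⟩ : V) ⟨_, hVV b.2⟩)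
    simpa using this
  · have hle2 : N.map K.subtype ≤ Subgroup.centralizer (V : Set L) := by
      refine subnormal_pMod_le hV hK (Subgroup.map_subtype_le _)
        (by rwa [Subgroup.subgroupOf, Subgroup.comap_map_eq_self_of_injective K.subtype_injective]) ?_
      rintro _ ⟨x, hx, rfl⟩
      obtain ⟨k, hk⟩ := hm x hx
      set y := x ^ p ^ k with hy
      have hyZ : (y : L) ∈ Subgroup.centralizer (Z : Set L) := fun z hz =>
        congrArg Subtype.val (hk (⟨z, hle hz⟩ : K) hz)
      obtain ⟨e, j, hj, hej⟩ := Nat.exists_eq_pow_mul_and_not_dvd (orderOf_pos (y : L)).ne' p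
        (Fact.out : p.Prime).ne_one
      refine ⟨k + e, ?_⟩
      rw [pow_add, pow_mul]
      refine hkey _ (pow_mem (by simpa [hy] using y.2) _) ?_ (pow_mem (by simpa [hy] using hyZ) _)
      rw [show (K.subtype x) ^ p ^ k = (y : L) by simp [hy],
        orderOf_pow_of_dvd (pow_ne_zero _ (Fact.out : p.Prime).ne_zero) ⟨j, hej⟩, hej,
        Nat.mul_div_cancel_left _ (pow_pos (Fact.out : p.Prime).pos e)]
      exact ((Nat.Prime.coprime_iff_not_dvd Fact.out).2 hj).symm
    intro n hn z hz
    exact Subtype.ext (hle2 ⟨n, hn, rfl⟩ _ (hVV hz))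

end Cfsg.Agent.S2804
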