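import Cfsg.Statements.S2806
import Cfsg.Agent.Lib.LocalEven.PReducedSubnormal
import Cfsg.Agent.Lib.LocalEven.Kieler
import Cfsg.Agent.Lib.Amalgam.PClosure
import Cfsg.Agent.Lib.LocEven.SubnormalJoin
import Cfsg.Agent.Lib.LocEven.SubnormalSylow
import Cfsg.Agent.Lib.Subnormal.Join

set_option autoImplicit false
open Cfsg CfsgLib.LocalEven CfsgLib.Amalgam

namespace Cfsg.Agent.S2806

theorem subnormal_subgroupOf {G : Type*} [Group G] {L : Subgroup G} (hL : L.IsSubnormal)
    (A : Subgroup G) : (L.subgroupOf A).IsSubnormal := by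
  induction hL with
  | top => rw [Subgroup.top_subgroupOf]; exact Subgroup.IsSubnormal.top
  | step H K hle _ hN ih =>
    have hle2 : H.subgroupOf A ≤ K.subgroupOf A := Subgroup.comap_mono hle
    refine Subgroup.IsSubnormal.step _ _ hle2 ih ?_
    rw [Subgroup.normal_subgroupOf_iff_le_normalizer hle2]
    exact (Subgroup.comap_mono ((Subgroup.normal_subgroupOf_iff_le_normalizer hle).1 hN)).trans
      (Subgroup.le_normalizer_comap _)

theorem pointStabilizer_eq {G : Type*} [Group G] [Finite G] {p : ℕ} [Fact p.Prime]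
    (hG : IsOfLocalCharacteristic p G) (T : Sylow p G) {L : Subgroup G} (hL : L.IsSubnormal) :
    pointStabilizer p L ((T : Subgroup G) ⊓ L) =
      pElementClosure p (L ⊓ Subgroup.centralizer (omegaZ p (T : Subgroup G) : Set G)) := by
  obtain ⟨-, hS, hK⟩ := kieler_local hG T hL
  by_cases hne : (T : Subgroup G) ⊓ L = ⊥
  · have h : ∀ x ∈ L, (∃ k : ℕ, orderOf x = p ^ k) → x = 1 := by
      rintro x hx ⟨k, hk⟩
      have := hS.of_isPGroup_ge (P := Subgroup.zpowers x)
        (IsPGroup.of_card (n := k) (by rw [Nat.card_zpowers, hk])) (by rw [hne]; exact bot_le)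
        (Subgroup.zpowers_le.2 hx)
      rw [hne, Subgroup.zpowers_eq_bot] at this
      exact this
    have h1 : ∀ A : Subgroup G, A ≤ L → pElementClosure p A = ⊥ := fun A hA => by
      rw [eq_bot_iff, pElementClosure, Subgroup.closure_le]
      rintro x ⟨hx, hk⟩
      exact Subgroup.mem_bot.2 (h x (hA hx) hk)
    change pElementClosure p _ = pElementClosure p _
    rw [h1 _ inf_le_left, h1 _ inf_le_left]
  · change pElementClosure p _ = pElementClosure p _
    rw [hK hne]

/-- Let H be a finite group of local characteristic p, T a Sylow p-subgroup, and L₁, L₂ subnormal subgroups of H generating the subgroup L. Then the point stabilizer of L with respect to T ∩ L is generated by the point stabilizers of L₁ and L₂ with respect to T ∩ L₁ and T ∩ L₂ (point stabilizer of X w.r.t. R: the subgroup generated by the p-elements of X centralizing Ω₁(Z(R))). -/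
theorem result {H : Type*} [Group H] [Finite H] {p : ℕ} [Fact p.Prime] (hH : Cfsg.IsOfLocalCharacteristic p H) (T : Sylow p H) (L₁ L₂ : Subgroup H) (h₁ : L₁.IsSubnormal) (h₂ : L₂.IsSubnormal) : Cfsg.pointStabilizer p (L₁ ⊔ L₂) ((T : Subgroup H) ⊓ (L₁ ⊔ L₂)) = Cfsg.pointStabilizer p L₁ ((T : Subgroup H) ⊓ L₁) ⊔ Cfsg.pointStabilizer p L₂ ((T : Subgroup H) ⊓ L₂) := by
  have hJ : (L₁ ⊔ L₂).IsSubnormal := CfsgLib.Subnormal.isSubnormal_sup h₁ h₂
  rw [pointStabilizer_eq hH T hJ, pointStabilizer_eq hH T h₁, pointStabilizer_eq hH T h₂]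
  set Z := omegaZ p (T : Subgroup H) with hZ
  set A := (L₁ ⊔ L₂) ⊓ Subgroup.centralizer (Z : Set H) with hA
  set P₁ := pElementClosure p (L₁ ⊓ Subgroup.centralizer (Z : Set H))
  set P₂ := pElementClosure p (L₂ ⊓ Subgroup.centralizer (Z : Set H))
  have hA1 : L₁ ⊓ Subgroup.centralizer (Z : Set H) ≤ A := inf_le_inf_right _ le_sup_left
  have hA2 : L₂ ⊓ Subgroup.centralizer (Z : Set H) ≤ A := inf_le_inf_right _ le_sup_right
  have hP1 : P₁ ≤ A := (pElementClosure_le_self _).trans hA1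
  have hP2 : P₂ ≤ A := (pElementClosure_le_self _).trans hA2
  refine le_antisymm ?_ (sup_le (Subgroup.closure_mono fun x hx => ⟨hA1 hx.1, hx.2⟩)
    (Subgroup.closure_mono fun x hx => ⟨hA2 hx.1, hx.2⟩))
  have hTc := le_centralizer_omegaZ (p := p) (T : Subgroup H)
  have hTP : ∀ L : Subgroup H, (T : Subgroup H) ⊓ L ≤
      pElementClosure p (L ⊓ Subgroup.centralizer (Z : Set H)) := fun L =>
    le_pElementClosure_of_isPGroup (T.isPGroup'.to_le inf_le_left)
      (le_inf inf_le_right (inf_le_left.trans hTc))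
  have hTJ : (T : Subgroup H) ⊓ (L₁ ⊔ L₂) ≤ P₁ ⊔ P₂ := by
    rw [inf_comm, CfsgLib.LocEven.sylow_inf_sup_subnormal T h₁ h₂, inf_comm L₁, inf_comm L₂]
    exact sup_le_sup (hTP L₁) (hTP L₂)
  have hsn : ∀ L : Subgroup H, L.IsSubnormal → L ≤ L₁ ⊔ L₂ →
      ((pElementClosure p (L ⊓ Subgroup.centralizer (Z : Set H))).subgroupOf A).IsSubnormal := by
    intro L hL hle
    have e : (L ⊓ Subgroup.centralizer (Z : Set H)).subgroupOf A = L.subgroupOf A := by
      ext x
      exact ⟨fun h => h.1, fun h => ⟨h, x.2.2⟩⟩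
    have hle' : (pElementClosure p (L ⊓ Subgroup.centralizer (Z : Set H))).subgroupOf A ≤
        (L ⊓ Subgroup.centralizer (Z : Set H)).subgroupOf A :=
      Subgroup.comap_mono (pElementClosure_le_self _)
    refine Subgroup.IsSubnormal.step _ _ hle' (by rw [e]; exact subnormal_subgroupOf hL A) ?_
    rw [Subgroup.normal_subgroupOf_iff_le_normalizer hle']
    exact (Subgroup.comap_mono (le_normalizer_pElementClosure _)).trans
      (Subgroup.le_normalizer_comap _)
  have hPsn : ((P₁ ⊔ P₂).subgroupOf A).IsSubnormal := by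
    rw [Subgroup.subgroupOf_sup hP1 hP2]
    exact CfsgLib.Subnormal.isSubnormal_sup (hsn L₁ h₁ le_sup_left) (hsn L₂ h₂ le_sup_right)
  have hTA : IsSylOf p ((T : Subgroup H) ⊓ (L₁ ⊔ L₂)) A :=
    (kieler_local hH T hJ).2.1.of_le (le_inf inf_le_right (inf_le_left.trans hTc)) inf_le_left
  obtain ⟨S, hS⟩ := hTA.exists_sylow
  have hSP : (S : Subgroup A) ≤ (P₁ ⊔ P₂).subgroupOf A := by
    intro s hs
    exact hTJ (hS.ge ⟨s, hs, rfl⟩)
  rw [pElementClosure, Subgroup.closure_le]
  rintro x ⟨hx, k, hk⟩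
  obtain ⟨S', hxS⟩ := (IsPGroup.of_card (n := k) (G := Subgroup.zpowers (⟨x, hx⟩ : A))
    (by rw [Nat.card_zpowers, Subgroup.orderOf_mk, hk])).exists_le_sylow
  obtain ⟨W, hW⟩ := CfsgLib.LocEven.exists_sylow_eq_inf S' hPsn
  obtain ⟨W0, hW0⟩ := CfsgLib.LocEven.exists_sylow_eq_inf S hPsn
  have hcard : Nat.card ↥((S' : Subgroup A) ⊓ (P₁ ⊔ P₂).subgroupOf A) =
      Nat.card (S' : Subgroup A) := by
    calc Nat.card ↥((S' : Subgroup A) ⊓ (P₁ ⊔ P₂).subgroupOf A)
        = Nat.card (W : Subgroup ↥((P₁ ⊔ P₂).subgroupOf A)) := by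
          rw [hW, ← Subgroup.inf_subgroupOf_right (S' : Subgroup A),
            Nat.card_congr (Subgroup.subgroupOfEquivOfLe inf_le_right).toEquiv]
      _ = Nat.card (W0 : Subgroup ↥((P₁ ⊔ P₂).subgroupOf A)) := by rw [W.card_eq_multiplicity, W0.card_eq_multiplicity]
      _ = Nat.card (S : Subgroup A) := by
          rw [hW0, Nat.card_congr (Subgroup.subgroupOfEquivOfLe hSP).toEquiv]
      _ = Nat.card (S' : Subgroup A) := by rw [S.card_eq_multiplicity, S'.card_eq_multiplicity]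
  exact (inf_eq_left.1 (Subgroup.eq_of_le_of_card_ge inf_le_left hcard.ge)
    (hxS (Subgroup.mem_zpowers _)) : (⟨x, hx⟩ : A) ∈ (P₁ ⊔ P₂).subgroupOf A)

end Cfsg.Agent.S2806
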