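import Cfsg.Statements.S2808
import Cfsg.Agent.Lib.LocalEven.PUPair.Reduce

set_option autoImplicit false
universe u
open Cfsg

namespace Cfsg.Agent.S2808

/-- Let p be a prime and S a finite p-group with J(S) generated by the abelian subgroups of largest order, Z(J(S)) its centre and J̃(S) = C_S(Z(J(S))). Put S₀ = [Φ(S), S]·Φ(Φ(S)) if p = 2, S₀ = [[Φ(S), S], S]·Φ(Φ(S)) if p = 3, and S₀ = [Φ(S), S]·℧¹(S) if p > 3. If [Z(J(S)), S] ≠ 1 or S₀ ≠ 1, then S has nontrivial characteristic subgroups S₁ ≤ Z(S) and S₂ ≤ J̃(S), with S₂ characteristic in J̃(S), such that in every finite group G containing S as a Sylow p-subgroup with C_G(O_p(G)) ≤ O_p(G), S in exactly one maximal subgroup of G, and G/K ≅ PSL₂(p^n) for some normal K and n ≥ 1, at least one of S₁, S₂ is normal. -/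
theorem result {S : Type u} [Group S] [Finite S] {p : ℕ} [Fact p.Prime] (hS : IsPGroup p S) (S₀ : Subgroup S) (hS₀ : S₀ = if p = 2 then ⁅frattini S, (⊤ : Subgroup S)⁆ ⊔ (frattini ↥(frattini S)).map (frattini S).subtype else if p = 3 then ⁅⁅frattini S, (⊤ : Subgroup S)⁆, (⊤ : Subgroup S)⁆ ⊔ (frattini ↥(frattini S)).map (frattini S).subtype else ⁅frattini S, (⊤ : Subgroup S)⁆ ⊔ Cfsg.powerClosure p 1 (⊤ : Subgroup S)) (h : ⁅Cfsg.thompsonSubgroupA S ⊓ Subgroup.centralizer (Cfsg.thompsonSubgroupA S : Set S), (⊤ : Subgroup S)⁆ ≠ ⊥ ∨ S₀ ≠ ⊥) : ∃ S₁ S₂ : Subgroup S, S₁ ≠ ⊥ ∧ S₂ ≠ ⊥ ∧ S₁.Characteristic ∧ S₂.Characteristic ∧ S₁ ≤ Subgroup.center S ∧ S₂ ≤ Subgroup.centralizer ((Cfsg.thompsonSubgroupA S ⊓ Subgroup.centralizer (Cfsg.thompsonSubgroupA S : Set S) : Subgroup S) : Set S) ∧ (S₂.subgroupOf (Subgroup.centralizer ((Cfsg.thompsonSubgroupA S ⊓ Subgroup.centralizer (Cfsg.thompsonSubgroupA S : Set S) : Subgroup S) : Set S))).Characteristic ∧ ∀ (G : Type u) [Group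 G] [Finite G] (τ : S →* G), Function.Injective τ → (∃ P : Sylow p G, (P : Subgroup G) = τ.range) → Subgroup.centralizer (Cfsg.pCore p G : Set G) ≤ Cfsg.pCore p G → (∃! M : Subgroup G, IsCoatom M ∧ τ.range ≤ M) → (∃ (K : Subgroup G) (_ : K.Normal) (F : Type) (_ : Field F) (_ : Fintype F) (n : ℕ), 1 ≤ n ∧ Fintype.card F = p ^ n ∧ Nonempty (G ⧸ K ≃* Matrix.ProjectiveSpecialLinearGroup (Fin 2) F)) → (S₁.map τ).Normal ∨ (S₂.map τ).Normal := by
  cases subsingleton_or_nontrivial S with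
  | inl hs =>
    exfalso
    haveI := hs
    rcases h with h | h <;> exact h (Subsingleton.elim _ _)
  | inr hn =>
    haveI := hn
    rcases CfsgLib.LocalEven.PUPair.pair_or_exceptional hS with
      ⟨S₁, S₂, h1, h2, h3, h4, h5, h6, h7, -, h9⟩ | ⟨-, e2, e3, ⟨e4c, e4p⟩, e5, e6, e7, -, -⟩
    · refine ⟨S₁, S₂, h1, h2, h3, h4, h5, h6, h7, fun G _ _ τ hτ hP hC hu hK => ?_⟩
      obtain ⟨P, hP⟩ := hP
      obtain ⟨K, hKn, F, _, _, n, hn1, hF, ⟨e⟩⟩ := hK
      refine h9 G P K F n ⟨hC, by rwa [hP], hn1, hF,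
        e.toMonoidHom.comp (QuotientGroup.mk' K),
        e.surjective.comp (QuotientGroup.mk'_surjective K), by ext x; simp⟩ τ ⟨hτ, hP.symm⟩
    · exfalso
      rcases h with h | h
      · refine h (Subgroup.commutator_eq_bot_iff_le_centralizer.2 ?_)
        rw [e2, top_inf_eq, Subgroup.coe_top]
      · refine h ?_
        haveI := e4c
        have hz : ∀ {X : Subgroup S}, X ≤ Subgroup.center S → ⁅X, (⊤ : Subgroup S)⁆ = ⊥ := by
          intro X hX
          rw [Subgroup.commutator_eq_bot_iff_le_centralizer, Subgroup.coe_top,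
            Subgroup.centralizer_univ]
          exact hX
        have hff : (frattini ↥(frattini S)).map (frattini S).subtype = ⊥ := by
          rw [Subgroup.map_eq_bot_iff_of_injective _ (Subgroup.subtype_injective _),
            CfsgLib.Transfer.frattini_eq_commutator_sup_pow (hS.to_subgroup _), sup_eq_bot_iff]
          refine ⟨Subgroup.commutator_eq_bot_iff_le_centralizer.2
            fun a _ b _ => mul_comm' b a, ?_⟩
          rw [Subgroup.closure_eq_bot_iff]
          rintro _ ⟨x, rfl⟩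
          exact Subtype.ext (e4p x x.2)
        rw [hS₀]
        split_ifs with h2 h3
        · rw [hff, hz (e5 h2), sup_bot_eq]
        · rw [hff, sup_bot_eq]
          refine hz (Subgroup.commutator_le.2 fun x hx y _ => ?_)
          have := Subgroup.mem_upperCentralSeries_succ_iff.1 (e6 h3 hx) y
          rwa [Subgroup.upperCentralSeries_one] at this
        · have h5 : 3 < p := by have := (Fact.out : p.Prime).two_le; omega
          obtain ⟨hle, hexp⟩ := e7 h5
          rw [hz hle, bot_sup_eq, Cfsg.powerClosure, Subgroup.closure_eq_bot_iff]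
          rintro _ ⟨x, -, rfl⟩
          rw [pow_one, Set.mem_singleton_iff, ← hexp, Monoid.pow_exponent_eq_one]

end Cfsg.Agent.S2808
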