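import Cfsg.Statements.S2810
import Cfsg.Agent.Lib.LocalStr.Irreducible
import Mathlib.Tactic.Group
import Mathlib.Tactic.Ring
-- import your own Cfsg.Agent.* helpers here

set_option autoImplicit false
open Cfsg

set_option autoImplicit false
set_option linter.style.haveILetI false

namespace Cfsg.Agent.S2810
open Subgroup CfsgLib CfsgLib.LocalStr
open CfsgLib.LocalEven (IsSylOf)
open scoped commutatorElement


/-- Let H be a finite group of characteristic p and L a subgroup of H centralizing every factor of some H-invariant chain 1 = A₀ ≤ A₁ ≤ … ≤ Aₙ = O_p(H) of normal subgroups (that is, [A_{i+1}, L] ≤ Aᵢ for each i). Then L ≤ O_p(H). -/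
theorem result {H : Type*} [Group H] [Finite H] {p : ℕ} [Fact p.Prime] (hchar : Subgroup.centralizer (Cfsg.pCore p H : Set H) ≤ Cfsg.pCore p H) (L : Subgroup H) (n : ℕ) (A : Fin (n + 1) → Subgroup H) (h0 : A 0 = ⊥) (hn : A (Fin.last n) = Cfsg.pCore p H) (hmono : Monotone A) (hnorm : ∀ i, (A i).Normal) (hcent : ∀ i : Fin n, ⁅A i.succ, L⁆ ≤ A i.castSucc) : L ≤ Cfsg.pCore p H := by
  set O := pCore p H
  set C : Subgroup H := ⨅ i : Fin n,
    ⨅ a ∈ A i.succ, ((centralizer ({QuotientGroup.mk' (A i.castSucc) a} : Set _)).comap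
      (QuotientGroup.mk' (A i.castSucc))) with hC
  have hmem : ∀ x, x ∈ C ↔ ∀ i : Fin n, ∀ a ∈ A i.succ, ⁅a, x⁆ ∈ A i.castSucc := by
    intro x
    simp only [hC, Subgroup.mem_iInf, mem_comap]
    refine forall_congr' fun i => forall_congr' fun a => forall_congr' fun _ => ?_
    rw [mem_centralizer_singleton_iff, ← QuotientGroup.eq_one_iff (N := A i.castSucc)]
    rw [← QuotientGroup.mk'_apply, map_commutatorElement, commutatorElement_eq_one_iff_mul_comm]
    exact eq_comm
  have hCn : C.Normal := by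
    refine ⟨fun x hx g => (hmem _).mpr fun i a ha => ?_⟩
    have h1 := (hmem x).mp hx i _ ((hnorm i.succ).conj_mem a ha g⁻¹)
    have h2 := (hnorm i.castSucc).conj_mem _ h1 g
    have h3 : g * ⁅g⁻¹ * a * g⁻¹⁻¹, x⁆ * g⁻¹ = ⁅a, g * x * g⁻¹⁆ := by
      simp only [commutatorElement_def]; group
    rwa [h3] at h2
  have hLC : L ≤ C := fun x hx => (hmem x).mpr fun i a ha =>
    hcent i (commutator_mem_commutator ha hx)
  refine hLC.trans (Components.le_pCore_of_normal hCn (pRes_eq_bot_iff.mp (le_bot_iff.mp ?_)))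
  refine pRes_le_iff.mpr fun c hc hcop => ?_
  have hfix : ∀ i, ∀ a ∈ A i, c * a = a * c := by
    intro i
    induction i using Fin.induction with
    | zero => intro a ha; rw [h0, mem_bot] at ha; simp [ha]
    | succ i ih =>
      intro a ha
      have h1 : a⁻¹ * (c * a * c⁻¹) ∈ A i.castSucc := by
        have h2 := (hmem c).mp hc i _ (inv_mem ha)
        have h3 : ⁅a⁻¹, c⁆ = a⁻¹ * (c * a * c⁻¹) := by simp only [commutatorElement_def]; group
        rwa [h3] at h2
      refine CharP.commute_of_stab (Components.isPGroup_pCore p) hcop ?_ (ih _ h1)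
      exact ((hmono (Fin.le_last _)).trans hn.le) h1
  have hcO : c ∈ O := hchar (mem_centralizer_iff.mpr fun a ha =>
    (hfix (Fin.last n) a (hn ▸ ha)).symm)
  obtain ⟨k, hk⟩ := Components.isPGroup_pCore (G := H) p ⟨c, hcO⟩
  exact coprime_of_mem_pRes_of_pGroup (k := k) hcop (by
    rw [show c ^ p ^ k = 1 from congrArg Subtype.val hk]; exact one_mem _)

end Cfsg.Agent.S2810
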