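import Cfsg.Statements.S2812
import Cfsg.Agent.Lib.LocalStr.GenFitAction
-- import your own Cfsg.Agent.* helpers here

set_option autoImplicit false
open Cfsg

set_option autoImplicit false
set_option linter.style.haveILetI false

namespace Cfsg.Agent.S2812
open Subgroup CfsgLib CfsgLib.LocalStr
open CfsgLib.LocalEven (IsSylOf)
open scoped commutatorElement


/-- Let H be a subgroup of the finite group G with O_p(H) = 1, Y a p-subgroup of G normalizing H, and L a subgroup of the generalized Fitting subgroup F*(H) that is subnormal in H and normalized by Y. Then L = [L, Y]·C_L(Y) and [L, Y] = [L, Y, Y]. -/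
theorem result {G : Type*} [Group G] [Finite G] {p : ℕ} [Fact p.Prime] (H : Subgroup G) (hO : Cfsg.pCore p ↥H = ⊥) (Y : Subgroup G) (hY : IsPGroup p ↥Y) (hYH : Y ≤ Subgroup.normalizer (H : Set G)) (L : Subgroup G) (hLF : L ≤ (Cfsg.generalizedFittingSubgroup ↥H).map H.subtype) (hLsn : (L.subgroupOf H).IsSubnormal) (hYL : Y ≤ Subgroup.normalizer (L : Set G)) : ⁅L, Y⁆ ⊔ (L ⊓ Subgroup.centralizer (Y : Set G)) = L ∧ ⁅L, Y⁆ = ⁅⁅L, Y⁆, Y⁆ := by
  exact genFit_decomp hO hY hYH hLF hLsn hYL

end Cfsg.Agent.S2812
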