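import Cfsg.Statements.S2813
import Cfsg.Agent.Lib.LocalStr.Irreducible
import Mathlib.Tactic.Group
import Mathlib.Tactic.Ring
-- import your own Cfsg.Agent.* helpers here

set_option autoImplicit false
open Cfsg

set_option autoImplicit false
set_option linter.style.haveILetI false

namespace Cfsg.Agent.S2813
open Subgroup CfsgLib CfsgLib.LocalStr
open CfsgLib.LocalEven (IsSylOf)
open scoped commutatorElement


/-- Let K be a subgroup of the finite group H with O_p(K) = 1 and Y a p-subgroup of N_H(K) with [K, Y, Y] = 1. Then [K, Y] = 1. -/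
theorem result {H : Type*} [Group H] [Finite H] {p : ℕ} [Fact p.Prime] (K : Subgroup H) (hO : Cfsg.pCore p ↥K = ⊥) (Y : Subgroup H) (hY : IsPGroup p ↥Y) (hYK : Y ≤ Subgroup.normalizer (K : Set H)) (hq : ⁅⁅K, Y⁆, Y⁆ = ⊥) : ⁅K, Y⁆ = ⊥ := by
  set W := ⁅K, Y⁆ with hWdef
  have hWK : W ≤ K := le_normalizer_iff_commutator_le_left.mp hYK
  have hKW : K ≤ normalizer (W : Set H) := normalizer_commutator_ge_left K Y
  have hWW : ⁅W, W⁆ = ⊥ := by
    have h1 : ⁅⁅W, K⁆, Y⁆ = ⊥ := le_bot_iff.mp ((commutator_mono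
      (le_normalizer_iff_commutator_le_left.mp hKW) le_rfl).trans hq.le)
    have h2 : ⁅⁅Y, W⁆, K⁆ = ⊥ := by
      rw [commutator_comm Y W, hq, commutator_bot_left]
    exact commutator_commutator_eq_bot_of_rotate h2 h1
  have hcomm : W ≤ centralizer (W : Set H) := commutator_eq_bot_iff_le_centralizer.mp hWW
  have hWp : ∀ w ∈ W, ∀ k : ℕ, w ^ p ^ k = 1 → w = 1 := by
    intro w hw k hk
    have hzp : IsPGroup p (zpowers w) := by
      obtain ⟨j, -, hj⟩ := (Nat.dvd_prime_pow Fact.out).mp (orderOf_dvd_of_pow_eq_one hk)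
      exact IsPGroup.of_card (n := j) (by rw [Nat.card_zpowers, hj])
    have hle : zpowers w ≤ W := zpowers_le.mpr hw
    have hn : W ≤ normalizer ((zpowers w : Subgroup H) : Set H) :=
      hcomm.trans ((centralizer_le (SetLike.coe_subset_coe.mpr hle)).trans (centralizer_le_normalizer _))
    have := le_pCoreOf_of_isSubnormal (hle.trans hWK)
      (IsSubnormal.step _ (W.subgroupOf K) (comap_mono hle)
        ((subgroupOf_normal hKW).isSubnormal) (by
          refine normal_subgroupOf_of_le_normalizer fun x hx => ?_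
          exact mem_normalizer_iff.mpr fun y => mem_normalizer_iff.mp (hn hx) (y : H))) hzp
    rw [pCore_eq_bot_iff_pCoreOf.mp hO, le_bot_iff, zpowers_eq_bot] at this
    exact this
  rw [← le_bot_iff, hWdef, commutator_le]
  intro k hk y hy
  have hpow : ∀ m : ℕ, ⁅k, y ^ m⁆ = ⁅k, y⁆ ^ m := by
    intro m
    induction m with
    | zero => simp
    | succ m ih =>
      have hc : y ^ m * ⁅k, y⁆ = ⁅k, y⁆ * y ^ m :=
        mem_centralizer_iff.mp (commutator_eq_bot_iff_le_centralizer.mp hq
          (commutator_mem_commutator hk hy)) _ (pow_mem hy m)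
      rw [pow_succ, commutatorElement_mul_right_eq_mul_conj, ih, pow_succ, mul_assoc _ (y ^ m),
        hc, ← mul_assoc, mul_inv_cancel_right]
  obtain ⟨j, hj⟩ := hY ⟨y, hy⟩
  rw [mem_bot]
  refine hWp _ (commutator_mem_commutator hk hy) j ?_
  rw [← hpow, show y ^ p ^ j = 1 from congrArg Subtype.val hj, commutatorElement_one_right]

end Cfsg.Agent.S2813
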