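import Cfsg.Statements.S2814
import Cfsg.Agent.Lib.LocalStr.Basic
import Mathlib.Tactic.Group
-- import your own Cfsg.Agent.* helpers here

set_option autoImplicit false
open Cfsg

set_option autoImplicit false
set_option linter.style.haveILetI false

namespace Cfsg.Agent.S2814
open Subgroup CfsgLib CfsgLib.LocalStr
open CfsgLib.LocalEven (IsSylOf)
open scoped commutatorElement


/-- Let A be a subgroup of the finite group H and K the subnormal closure of A (intersection of the subnormal subgroups containing A). Then K is the normal closure of A inside K and N_H(A) ≤ N_H(K); K = A·O^p(K), O^p(K) being generated by the elements of K of order prime to p; and if A is a p-group, O^p(K) = [O^p(K), A]. -/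
theorem result {H : Type*} [Group H] [Finite H] {p : ℕ} [Fact p.Prime] (A : Subgroup H) (K : Subgroup H) (hK : K = Cfsg.subnormalClosure A) : (Subgroup.normalClosure ((A.subgroupOf K : Subgroup ↥K) : Set ↥K)).map K.subtype = K ∧ Subgroup.normalizer (A : Set H) ≤ Subgroup.normalizer (K : Set H) ∧ A ⊔ (Cfsg.pResidual p ↥K).map K.subtype = K ∧ (IsPGroup p ↥A → ⁅(Cfsg.pResidual p ↥K).map K.subtype, A⁆ = (Cfsg.pResidual p ↥K).map K.subtype) := by
  have hKs : K.IsSubnormal := by
    rw [hK, subnormalClosure]
    obtain ⟨t, ht⟩ : ∃ t : Finset (Subgroup H), ∀ X, X ∈ t ↔ A ≤ X ∧ X.IsSubnormal :=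
      ⟨(Set.toFinite {X : Subgroup H | A ≤ X ∧ X.IsSubnormal}).toFinset, fun X => Set.Finite.mem_toFinset _⟩
    have : sInf {X : Subgroup H | A ≤ X ∧ X.IsSubnormal} = t.inf id := by
      refine le_antisymm (Finset.le_inf fun X hX => sInf_le ((ht X).mp hX)) (le_sInf fun X hX => ?_)
      exact Finset.inf_le (f := id) ((ht X).mpr hX)
    rw [this]
    have key : ∀ s : Finset (Subgroup H), (∀ X ∈ s, X.IsSubnormal) → (s.inf id).IsSubnormal := by
      classical
      intro s
      induction s using Finset.induction with
      | empty => intro _; exact IsSubnormal.top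
      | insert a s _ ih =>
        intro hs
        rw [Finset.inf_insert]
        exact (hs a (Finset.mem_insert_self a s)).inf (ih fun X hX => hs X (Finset.mem_insert_of_mem hX))
    exact key t fun X hX => ((ht X).mp hX).2
  have hAK : A ≤ K := hK ▸ le_sInf fun X hX => hX.1
  have hmin : ∀ X : Subgroup H, X ≤ K → A ≤ X → (X.subgroupOf K).IsSubnormal → X = K := by
    intro X hXK hAX hX
    refine le_antisymm hXK ?_
    have h1 : ((X.subgroupOf K).map K.subtype).IsSubnormal := hX.trans' hKs
    rw [map_subgroupOf_eq_of_le hXK] at h1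
    exact hK.le.trans (sInf_le ⟨hAX, h1⟩)
  set R := pRes p K with hR
  have hAR : A ⊔ R = K := hmin _ (sup_le hAK (pRes_le K)) le_sup_left
    (isSubnormal_subgroupOf_of_pRes_le le_sup_right)
  have hsub : ∀ g : H, (K.map (MulAut.conj g).toMonoidHom).IsSubnormal := fun g =>
    Components.isSubnormal_map_conj hKs g
  refine ⟨hmin _ (map_subtype_le _) ?_ ?_, ?_, hAR, fun hAp => ?_⟩
  · exact (map_subgroupOf_eq_of_le hAK).ge.trans (map_mono subset_normalClosure)
  · rw [subgroupOf, comap_map_eq_self_of_injective K.subtype_injective]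
    exact Subgroup.Normal.isSubnormal normalClosure_normal
  · rw [le_normalizer_iff_map_le]
    intro g hg
    have h1 : K ≤ K.map (MulAut.conj g).toMonoidHom :=
      hK.le.trans (sInf_le ⟨(map_conj_eq_iff.mpr hg).ge.trans (map_mono hAK), hsub g⟩)
    exact (eq_of_le_of_card_ge h1 (Components.card_map_conj g K).le).ge
  · set N := ⁅R, A⁆ with hN
    have hRA : A ≤ normalizer (R : Set H) := hAK.trans (le_normalizer_pRes_self K)
    have hNR : N ≤ R := le_normalizer_iff_commutator_le_left.mp hRA
    refine le_antisymm hNR ?_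
    have hAn : A ≤ normalizer (N : Set H) := normalizer_commutator_ge_right R A
    have hKn : K ≤ normalizer ((N ⊔ A : Subgroup H) : Set H) := by
      conv_lhs => rw [← hAR]
      refine sup_le ((le_sup_right : A ≤ N ⊔ A).trans le_normalizer) ?_
      rw [le_normalizer_iff_map_le]
      intro r hr
      rw [Subgroup.map_sup]
      refine sup_le ((map_conj_eq_iff.mpr (normalizer_commutator_ge_left R A hr)).le.trans
        le_sup_left) ?_
      rintro _ ⟨a, ha, rfl⟩
      show r * a * r⁻¹ ∈ _
      rw [show r * a * r⁻¹ = ⁅r, a⁆ * a by simp [commutatorElement_def]]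
      exact mul_mem (mem_sup_left (commutator_mem_commutator hr ha)) (mem_sup_right ha)
    have hNA : N ⊔ A = K := hmin _ (sup_le (hNR.trans (pRes_le K)) hAK) le_sup_right
      (subgroupOf_normal hKn).isSubnormal
    calc R = pRes p (N ⊔ A) := by rw [hNA]
      _ = pRes p N := pRes_sup_pGroup hAp hAn
      _ ≤ N := pRes_le N

end Cfsg.Agent.S2814
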