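import Cfsg.Statements.S2815
import Cfsg.Agent.Lib.LocalStr.GenFitAction
import Cfsg.Agent.Lib.LocalStr.Irreducible
import Mathlib.Tactic.Group
-- import your own Cfsg.Agent.* helpers here

set_option autoImplicit false
open Cfsg

set_option autoImplicit false
set_option linter.style.haveILetI false

namespace Cfsg.Agent.S2815
open Subgroup CfsgLib CfsgLib.LocalStr
open CfsgLib.LocalEven (IsSylOf)
open scoped commutatorElement


/-- Let H be a finite group and p a prime dividing its order with O_p(H) = 1, and suppose K = O^p(H) (generated by the elements of order prime to p) is quasisimple. Then K = F*(H); for every nontrivial p-subgroup Y of H, K = [K, Y] and K lies in the subgroup generated by the K-conjugates of Y; every normal subgroup of H not containing K has order prime to p; and H is p-irreducible. -/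
theorem result {H : Type*} [Group H] [Finite H] {p : ℕ} [Fact p.Prime] (hp : p ∣ Nat.card H) (hO : Cfsg.pCore p H = ⊥) (hq : Cfsg.IsQuasisimple ↥(Cfsg.pResidual p H)) : Cfsg.pResidual p H = Cfsg.generalizedFittingSubgroup H ∧ (∀ Y : Subgroup H, IsPGroup p ↥Y → Y ≠ ⊥ → ⁅Cfsg.pResidual p H, Y⁆ = Cfsg.pResidual p H ∧ Cfsg.pResidual p H ≤ ⨆ k : ↥(Cfsg.pResidual p H), Y.map (MulAut.conj (k : H)).toMonoidHom) ∧ (∀ C : Subgroup H, C.Normal → ¬ Cfsg.pResidual p H ≤ C → (Nat.card ↥C).Coprime p) ∧ Cfsg.IsPIrreducible p H := by
  set K := pResidual p H with hK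
  haveI hKn : K.Normal := pResidual_normal H p
  have hKc : IsComponent K := ⟨Subgroup.Normal.isSubnormal inferInstance, hq⟩
  haveI : (fittingSubgroup H).Normal := inferInstance
  have hcopK : ∀ N : Subgroup H, (Nat.card ↥N).Coprime p → N ≤ K := fun N hN x hx => by
    refine subset_closure (?_ : (orderOf x).Coprime p)
    exact hN.coprime_dvd_left (by
      rw [← orderOf_mk (a := x) (ha := hx)]
      exact orderOf_dvd_natCard _)
  have hFcop := coprime_card_of_isNilpotent hO (Solvable.fittingSubgroup_isNilpotent H)
  have hFeq : K = generalizedFittingSubgroup H := by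
    refine le_antisymm (Components.component_le_genFitting hKc) (sup_le (sSup_le fun L hL => ?_)
      (hcopK _ hFcop))
    rcases Components.component_le_or_commutator hL hKc.1 with h | h
    · exact h
    exfalso
    haveI := pResidual_normal H p
    have hp' := isPGroup_quotient_pResidual H p
    have himg : IsPGroup p ↥(L.map (QuotientGroup.mk' K)) := hp'.to_subgroup _
    haveI := himg.isNilpotent
    have hsolv : Group.IsSolvable ↥(L.map (QuotientGroup.mk' K)) := inferInstance
    have hperf : ⁅L, L⁆ = L := Components.component_commutator_self hL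
    have h1 : L.map (QuotientGroup.mk' K) = ⊥ := by
      by_contra hne
      haveI : Nontrivial ↥(L.map (QuotientGroup.mk' K)) := (nontrivial_iff_ne_bot _).mpr hne
      refine (Group.IsSolvable.commutator_lt_top_of_nontrivial ↥(L.map (QuotientGroup.mk' K))).ne ?_
      refine map_injective (L.map (QuotientGroup.mk' K)).subtype_injective ?_
      rw [map_subtype_commutator, ← map_commutator, hperf, ← MonoidHom.range_eq_map, range_subtype]
    rw [Subgroup.map_eq_bot_iff, QuotientGroup.ker_mk'] at h1
    exact Components.component_commutator_self_ne_bot hL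
      (le_bot_iff.mp ((commutator_mono le_rfl h1).trans h.le))
  have hZ : K ⊓ centralizer (K : Set H) ≤ fittingSubgroup H :=
    Components.le_fitting_of_normal inferInstance (Components.isNilpotent_of_commutator_commutator (by
      rw [commutator_eq_bot_iff_le_centralizer.mpr
        (inf_le_right.trans (centralizer_le inf_le_left)), commutator_bot_left]))
  have hcK : centralizer (K : Set H) ≤ K := by
    rw [hFeq]; exact Components.centralizer_genFitting_le
  have hper : ⁅K, K⁆ = K := Components.component_commutator_self hKc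
  have hY' : ∀ Y : Subgroup H, IsPGroup p ↥Y → Y ≠ ⊥ → ⁅K, Y⁆ = K ∧
      K ≤ ⨆ k : ↥K, Y.map (MulAut.conj (k : H)).toMonoidHom := by
    intro Y hY hY1
    have hWK : ⁅K, Y⁆ ≤ K := commutator_le_left K Y
    have hYK : ⁅K, Y⁆ = K := by
      rcases Components.quasisimple_normal_top_or_central hq
        (subgroupOf_normal (normalizer_commutator_ge_left K Y)) with h | h
      · exact le_antisymm hWK (subgroupOf_eq_top.mp h)
      exfalso
      apply hY1
      have h1 : ⁅⁅K, Y⁆, K⁆ = ⊥ := by
        rw [commutator_eq_bot_iff_le_centralizer]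
        intro x hx
        refine mem_centralizer_iff.mpr fun k hk => ?_
        exact congrArg Subtype.val (mem_center_iff.mp (h (show (⟨x, hWK hx⟩ : K) ∈
          (⁅K, Y⁆).subgroupOf K from hx)) ⟨k, hk⟩)
      have h2 : ⁅⁅K, K⁆, Y⁆ = ⊥ :=
        commutator_commutator_eq_bot_of_rotate h1 (by rwa [commutator_comm Y K])
      rw [hper, commutator_comm, commutator_eq_bot_iff_le_centralizer] at h2
      refine le_bot_iff.mp fun y hy => mem_bot.mpr ?_
      have hyF : y ∈ fittingSubgroup H := hZ ⟨hcK (h2 hy), h2 hy⟩
      have hc : (orderOf y).Coprime p := hFcop.coprime_dvd_left (by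
        rw [← orderOf_mk (a := y) (ha := hyF)]; exact orderOf_dvd_natCard _)
      obtain ⟨j, hj⟩ := hY ⟨y, hy⟩
      have h3 : y ∈ (⊥ : Subgroup H) := coprime_of_mem_pRes_of_pGroup (k := j) hc
        (mem_bot.mpr (congrArg Subtype.val hj))
      exact mem_bot.mp h3
    refine ⟨hYK, ?_⟩
    conv_lhs => rw [← hYK]
    rw [commutator_le]
    intro k hk y hy
    rw [commutatorElement_def]
    refine mul_mem (mem_iSup_of_mem (⟨k, hk⟩ : ↥K) ⟨y, hy, rfl⟩) (inv_mem ?_)
    exact mem_iSup_of_mem (1 : ↥K) ⟨y, hy, by simp⟩
  have hC : ∀ C : Subgroup H, C.Normal → ¬ K ≤ C → (Nat.card ↥C).Coprime p := by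
    intro C hC hKC
    have hcen : C ⊓ K ≤ centralizer (K : Set H) := by
      rcases Components.quasisimple_normal_top_or_central hq
        (inferInstance : (C.subgroupOf K).Normal) with h | h
      · exact absurd (subgroupOf_eq_top.mp h) hKC
      intro x hx
      refine mem_centralizer_iff.mpr fun k hk => ?_
      exact congrArg Subtype.val (mem_center_iff.mp (h (show (⟨x, hx.2⟩ : K) ∈ C.subgroupOf K
        from hx.1)) ⟨k, hk⟩)
    have h1 : ⁅⁅K, C⁆, K⁆ = ⊥ := by
      rw [commutator_eq_bot_iff_le_centralizer]
      exact (le_inf (commutator_le_right K C) (commutator_le_left K C)).trans hcen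
    have h2 : ⁅⁅K, K⁆, C⁆ = ⊥ :=
      commutator_commutator_eq_bot_of_rotate h1 (by rwa [commutator_comm C K])
    rw [hper, commutator_comm, commutator_eq_bot_iff_le_centralizer] at h2
    exact hFcop.coprime_dvd_left (card_dvd_of_le ((le_inf (h2.trans hcK) h2).trans hZ))
  refine ⟨hFeq, hY', hC, fun hcl => ?_, fun N hN hNc => ?_⟩
  · obtain ⟨S⟩ : Nonempty (Sylow p H) := inferInstance
    have h := Components.le_pCore_of_normal (hcl S) S.isPGroup'
    rw [hO, le_bot_iff] at h
    obtain ⟨n, hn⟩ : ∃ n, Nat.card (S : Subgroup H) = p ^ n := S.isPGroup'.exists_card_eq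
    exact S.not_dvd_index (by rwa [h, index_bot])
  · by_contra h
    exact hNc (isPClosed_of_not_dvd ((Nat.Prime.coprime_iff_not_dvd Fact.out).mp (hC N hN h).symm))

end Cfsg.Agent.S2815
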