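import Cfsg.Statements.S2816
import Cfsg.Agent.Lib.LocalStr.GenFitAction
import Mathlib.Tactic.Group
-- import your own Cfsg.Agent.* helpers here

set_option autoImplicit false
open Cfsg

set_option autoImplicit false
set_option linter.style.haveILetI false

namespace Cfsg.Agent.S2816
open Subgroup CfsgLib CfsgLib.LocalStr
open CfsgLib.LocalEven (IsSylOf)
open scoped commutatorElement


/-- Let H be a finite group and p a prime with O_p(H) = 1, and Y a p-subgroup of H. Then for every subnormal subgroup K of H containing Y, [F*(H), Y] = [F*(K), Y] = [F*(K), Y, Y]; and if Y₀ ≤ Y with [F*(H), Y, Y₀] = 1 then Y₀ = 1 (in particular [F*(H), Y] = 1 forces Y = 1). -/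
theorem result {H : Type*} [Group H] [Finite H] {p : ℕ} [Fact p.Prime] (hO : Cfsg.pCore p H = ⊥) (Y : Subgroup H) (hY : IsPGroup p ↥Y) : (∀ K : Subgroup H, K.IsSubnormal → Y ≤ K → ⁅Cfsg.generalizedFittingSubgroup H, Y⁆ = ⁅(Cfsg.generalizedFittingSubgroup ↥K).map K.subtype, Y⁆ ∧ ⁅(Cfsg.generalizedFittingSubgroup ↥K).map K.subtype, Y⁆ = ⁅⁅(Cfsg.generalizedFittingSubgroup ↥K).map K.subtype, Y⁆, Y⁆) ∧ (∀ Y₀ : Subgroup H, Y₀ ≤ Y → ⁅⁅Cfsg.generalizedFittingSubgroup H, Y⁆, Y₀⁆ = ⊥ → Y₀ = ⊥) := by
  set F := generalizedFittingSubgroup H with hF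
  have hOT : pCore p ↥(⊤ : Subgroup H) = ⊥ := by
    have h := Components.pCore_map_equiv p (topEquiv : (⊤ : Subgroup H) ≃* H)
    rw [hO] at h
    exact (map_eq_bot_iff_of_injective _ (topEquiv : (⊤ : Subgroup H) ≃* H).injective).mp h
  have hFT : (generalizedFittingSubgroup ↥(⊤ : Subgroup H)).map (⊤ : Subgroup H).subtype = F :=
    Components.genFitting_map_equiv (topEquiv : (⊤ : Subgroup H) ≃* H)
  have hbase : ∀ Z : Subgroup H, IsPGroup p ↥Z → ⁅F, Z⁆ = ⁅⁅F, Z⁆, Z⁆ := fun Z hZ =>
    (genFit_decomp hOT hZ (le_top.trans (by rw [normalizer_eq_top])) hFT.ge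
      (Subgroup.Normal.isSubnormal (subgroupOf_normal le_normalizer_of_normal))
      le_normalizer_of_normal).2
  refine ⟨fun K hK hYK => ?_, fun Y0 hY0 h => ?_⟩
  · set W := ⁅F, Y⁆ with hW
    have hWK : W ≤ K := by
      have key : ∀ A : Subgroup H, A.IsSubnormal → Y ≤ A → W ≤ A := by
        intro A hA
        induction hA with
        | top => intro _; exact le_top
        | step A B hAB _ hn ih =>
          intro hYA
          rw [hW, hbase Y hY]
          exact (commutator_mono (ih (hYA.trans hAB)) hYA).trans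
            (le_normalizer_iff_commutator_le_right.mp
              ((normal_subgroupOf_iff_le_normalizer hAB).mp hn))
      exact key K hK hYK
    have hWF : W ≤ F := commutator_le_left F Y
    have hFK : (generalizedFittingSubgroup ↥K).map K.subtype ≤ F := by
      rw [generalizedFittingSubgroup, Subgroup.map_sup, Components.layer_subnormal_eq hK,
        GenFittingSub.map_fitting_of_subnormal hK]
      exact sup_le (sSup_le fun L hL => Components.component_le_genFitting hL.1)
        (inf_le_left.trans Components.fitting_le_genFitting)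
    have hKF : F ⊓ K ≤ (generalizedFittingSubgroup ↥K).map K.subtype := by
      have hs : (F ⊓ K).IsSubnormal := ((inferInstance : F.Normal).isSubnormal).inf hK
      rw [generalizedFittingSubgroup, Subgroup.map_sup, Components.layer_subnormal_eq hK,
        GenFittingSub.map_fitting_of_subnormal hK, GenFittingSub.subnormal_le_genFitting_eq hs
          inf_le_left]
      exact sup_le_sup (sSup_le_sSup fun L hL => ⟨hL.1, hL.2.trans inf_le_right⟩)
        (inf_le_inf le_rfl inf_le_right)
    have h1 : ⁅(generalizedFittingSubgroup ↥K).map K.subtype, Y⁆ = W := by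
      refine le_antisymm (commutator_mono hFK le_rfl) ?_
      rw [hW, hbase Y hY]
      exact commutator_mono ((le_inf hWF hWK).trans hKF) le_rfl
    exact ⟨h1.symm, by rw [h1, hW]; exact hbase Y hY⟩
  · have hY0p : IsPGroup p ↥Y0 := hY.to_le hY0
    have h1 : ⁅F, Y0⁆ = ⊥ := by
      rw [hbase Y0 hY0p]
      exact le_bot_iff.mp ((commutator_mono (commutator_mono le_rfl hY0) le_rfl).trans h.le)
    have hc : Y0 ≤ centralizer (F : Set H) := by
      rw [commutator_comm, commutator_eq_bot_iff_le_centralizer] at h1
      exact h1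
    have hA : Y0 ≤ F ⊓ centralizer (F : Set H) :=
      le_inf (hc.trans Components.centralizer_genFitting_le) hc
    have hsn : Y0.IsSubnormal := Components.isSubnormal_of_le_normalizer hA (fun a ha => by
        refine centralizer_le_normalizer _ (mem_centralizer_iff.mpr fun y hy => ?_)
        exact mem_centralizer_iff.mp ha.2 y (hA hy).1)
      ((inferInstance : (F ⊓ centralizer (F : Set H)).Normal).isSubnormal)
    have h2 := Components.le_pCore_of_isSubnormal hsn hY0p
    rwa [hO, le_bot_iff] at h2

end Cfsg.Agent.S2816
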