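import Cfsg.Statements.S2817
import Cfsg.Agent.Lib.LocalStr.GenFitAction
import Cfsg.Agent.Lib.LocalStr.Large
import Cfsg.Agent.Lib.LocalEven.Kieler
import Mathlib.Tactic.Group
-- import your own Cfsg.Agent.* helpers here

set_option autoImplicit false
open Cfsg

set_option autoImplicit false
set_option linter.style.haveILetI false

namespace Cfsg.Agent.S2817
open Subgroup CfsgLib CfsgLib.LocalStr
open CfsgLib.LocalEven (IsSylOf)
open scoped commutatorElement


/-- Let H be a finite group and p a prime with O_p(H) = 1, Q a p-subgroup of H, L = [F*(H), Q], and F the largest normal subgroup of F*(H) centralized by Q (a normal subgroup of F*(H) centralized by Q and containing every such). Then F = C_{F*(H)}(LQ); L = [L, Q]; L ∩ F ≤ Φ(L); every p-subgroup B of N_H(Q) with [L, B] ≤ F satisfies [L, B] = 1; and C_H(FL) has order prime to p. -/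
theorem result {H : Type*} [Group H] [Finite H] {p : ℕ} [Fact p.Prime] (hO : Cfsg.pCore p H = ⊥) (Q : Subgroup H) (hQ : IsPGroup p ↥Q) (L : Subgroup H) (hL : L = ⁅Cfsg.generalizedFittingSubgroup H, Q⁆) (F : Subgroup H) (hF : F ≤ Cfsg.generalizedFittingSubgroup H ∧ Cfsg.generalizedFittingSubgroup H ≤ Subgroup.normalizer (F : Set H) ∧ Q ≤ Subgroup.centralizer (F : Set H) ∧ ∀ N : Subgroup H, N ≤ Cfsg.generalizedFittingSubgroup H → Cfsg.generalizedFittingSubgroup H ≤ Subgroup.normalizer (N : Set H) → Q ≤ Subgroup.centralizer (N : Set H) → N ≤ F) : F = Cfsg.generalizedFittingSubgroup H ⊓ Subgroup.centralizer ((L ⊔ Q : Subgroup H) : Set H) ∧ ⁅L, Q⁆ = L ∧ L ⊓ F ≤ (frattini ↥L).map L.subtype ∧ (∀ B : Subgroup H, IsPGroup p ↥B → B ≤ Subgroup.normalizer (Q : Set H) → ⁅L, B⁆ ≤ F → ⁅L, B⁆ = ⊥) ∧ (Nat.card ↥(Subgroup.centralizer ((F ⊔ L : Subgroup H) : Set H))).Coprime p := by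
  set Fg := generalizedFittingSubgroup H with hFg
  obtain ⟨hFle, hFn, hFQ, hFmax⟩ := hF
  have hOT : pCore p ↥(⊤ : Subgroup H) = ⊥ := by
    have h := Components.pCore_map_equiv p (topEquiv : (⊤ : Subgroup H) ≃* H)
    rw [hO] at h
    exact (map_eq_bot_iff_of_injective _ (topEquiv : (⊤ : Subgroup H) ≃* H).injective).mp h
  have hFT : (generalizedFittingSubgroup ↥(⊤ : Subgroup H)).map (⊤ : Subgroup H).subtype = Fg :=
    Components.genFitting_map_equiv (topEquiv : (⊤ : Subgroup H) ≃* H)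
  have hbase : ∀ Z : Subgroup H, IsPGroup p ↥Z → _ := fun Z hZ =>
    genFit_decomp hOT hZ (le_top.trans (by rw [normalizer_eq_top])) hFT.ge
      (Subgroup.Normal.isSubnormal (subgroupOf_normal le_normalizer_of_normal))
      le_normalizer_of_normal
  obtain ⟨hdec, hbQ⟩ := hbase Q hQ
  subst hL
  set L := ⁅Fg, Q⁆ with hL
  set U0 := Fg ⊓ centralizer (Q : Set H) with hU0
  have hLFg : L ≤ Fg := commutator_le_left Fg Q
  have hFgL : Fg ≤ normalizer (L : Set H) := normalizer_commutator_ge_left Fg Q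
  have hQL : Q ≤ normalizer (L : Set H) := normalizer_commutator_ge_right Fg Q
  have hFL : ⁅F, L⁆ = ⊥ := by
    have hFQ' : ⁅F, Q⁆ = ⊥ := by
      rw [commutator_comm, commutator_eq_bot_iff_le_centralizer]; exact hFQ
    have h1 : ⁅⁅Q, F⁆, Fg⁆ = ⊥ := by rw [commutator_comm Q F, hFQ', commutator_bot_left]
    have h2 : ⁅⁅F, Fg⁆, Q⁆ = ⊥ := le_bot_iff.mp ((commutator_mono
      (le_normalizer_iff_commutator_le_left.mp hFn) le_rfl).trans hFQ'.le)
    rw [commutator_comm]
    exact commutator_commutator_eq_bot_of_rotate h1 (by rwa [commutator_comm F Fg] at h2 ⊢)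
  have hFc : F ≤ centralizer (L : Set H) := commutator_eq_bot_iff_le_centralizer.mp hFL
  have hC : F = Fg ⊓ centralizer ((L ⊔ Q : Subgroup H) : Set H) := by
    refine le_antisymm (le_inf hFle ?_) (hFmax _ inf_le_left ?_ ?_)
    · rw [le_centralizer_iff]
      exact sup_le (le_centralizer_iff.mp hFc) hFQ
    · conv_lhs => rw [← hdec]
      refine sup_le ?_ ?_
      · have h : L ≤ centralizer ((Fg ⊓ centralizer ((L ⊔ Q : Subgroup H) : Set H) : Subgroup H) : Set H) :=
          le_centralizer_iff.mp (inf_le_right.trans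
            (centralizer_le (SetLike.coe_subset_coe.mpr le_sup_left)))
        exact h.trans (centralizer_le_normalizer _)
      · refine LocalEven.le_normalizer_inf le_normalizer_of_normal
          (LocalEven.le_normalizer_centralizer' ?_)
        intro u hu
        refine map_conj_eq_iff.mp ?_
        rw [Subgroup.map_sup, map_conj_eq_iff.mpr (hFgL hu.1),
          map_conj_eq_iff.mpr (centralizer_le_normalizer _ hu.2)]
    · exact le_centralizer_iff.mp (inf_le_right.trans
        (centralizer_le (SetLike.coe_subset_coe.mpr le_sup_right)))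
  have hLQ : ⁅L, Q⁆ = L := hbQ.symm
  set Z := L ⊓ F with hZ
  have hZc : Z ≤ centralizer (L : Set H) := inf_le_right.trans hFc
  have hZQ : Q ≤ centralizer (Z : Set H) := hFQ.trans (centralizer_le (SetLike.coe_subset_coe.mpr inf_le_right))
  have hZcop : (Nat.card ↥Z).Coprime p := by
    refine coprime_card_of_isNilpotent_subnormal hO ?_ ?_
    · exact Components.isSubnormal_of_le_normalizer (inf_le_right.trans hFle)
        (LocalEven.le_normalizer_inf hFgL hFn) ((inferInstance : Fg.Normal).isSubnormal)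
    · letI : CommGroup ↥Z := { (inferInstance : Group ↥Z) with
        mul_comm := fun a b => Subtype.ext (mem_centralizer_iff.mp (hZc b.2) a a.2.1) }
      infer_instance
  -- a homomorphism on `L` killed by all `[l, q]` is trivial
  have hkill : ∀ {A : Type _} [Group A] (φ : ↥L →* A),
      (∀ l : ↥L, ∀ q (hq : q ∈ Q), φ ⟨q * l * q⁻¹, (mem_normalizer_iff.mp (hQL hq) l).mp l.2⟩ = φ l) →
      ∀ l, φ l = 1 := by
    intro A _ φ hφ l
    have hle : ⁅L, Q⁆ ≤ φ.ker.map L.subtype := by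
      rw [commutator_le]
      intro a ha q hq
      refine ⟨⟨a, ha⟩ * ⟨q * a⁻¹ * q⁻¹, (mem_normalizer_iff.mp (hQL hq) _).mp (inv_mem ha)⟩, ?_, ?_⟩
      · rw [SetLike.mem_coe, MonoidHom.mem_ker, map_mul]
        have := hφ (⟨a, ha⟩ : ↥L)⁻¹ q hq
        simp only [InvMemClass.coe_inv] at this
        rw [this, map_inv, mul_inv_cancel]
      · rw [commutatorElement_def]
        simp [mul_assoc]
    rw [hLQ] at hle
    obtain ⟨y, hy, hyl⟩ := hle l.2
    rwa [← Subtype.ext (show (y : H) = l from hyl)]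
  refine ⟨hC, hLQ, ?_, ?_, ?_⟩
  · -- `L ∩ F ≤ Φ(L)`
    classical
    haveI : Fintype ↥Q := Fintype.ofFinite _
    let ψ : ↥Q → (↥L →* ↥L) := fun q => MonoidHom.mk'
      (fun l => ⟨(q : H) * l * (q : H)⁻¹, (mem_normalizer_iff.mp (hQL q.2) l).mp l.2⟩)
      (fun a b => Subtype.ext (by simp [mul_assoc]))
    let φ : ↥L →* Abelianization ↥L := ∏ q : ↥Q, Abelianization.of.comp (ψ q)
    have hφ : ∀ l, φ l = 1 := by
      refine hkill φ fun l q hq => ?_
      simp only [φ, MonoidHom.finsetProd_apply, MonoidHom.comp_apply]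
      refine Fintype.prod_equiv (Equiv.mulRight (⟨q, hq⟩ : ↥Q)) _ _ fun r => ?_
      refine congrArg _ (Subtype.ext ?_)
      simp [ψ, mul_assoc]
    intro z hz
    have hzc := hZc hz
    have h1 : φ ⟨z, hz.1⟩ = Abelianization.of (⟨z, hz.1⟩ : ↥L) ^ Fintype.card ↥Q := by
      simp only [φ, MonoidHom.finsetProd_apply, MonoidHom.comp_apply]
      rw [Finset.prod_eq_pow_card (b := Abelianization.of (⟨z, hz.1⟩ : ↥L)) (fun q _ => ?_),
        Finset.card_univ]
      refine congrArg _ (Subtype.ext ?_)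
      show (q : H) * z * (q : H)⁻¹ = z
      rw [← mem_centralizer_iff.mp (hZQ q.2) z hz, mul_inv_cancel_right]
    rw [hφ, ← map_pow, eq_comm, ← MonoidHom.mem_ker, Abelianization.ker_of] at h1
    have hzL' : (⟨z, hz.1⟩ : ↥L) ∈ commutator ↥L := by
      obtain ⟨n, hn⟩ := hQ.exists_card_eq
      rw [← Nat.card_eq_fintype_card, hn] at h1
      refine coprime_of_mem_pRes_of_pGroup (k := n) ?_ h1
      rw [← orderOf_coe]
      refine hZcop.coprime_dvd_left ?_
      show orderOf z ∣ _
      rw [← Subgroup.orderOf_mk (a := z) (ha := hz)]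
      exact orderOf_dvd_natCard _
    refine ⟨⟨z, hz.1⟩, mem_iInf.mpr fun M => mem_iInf.mpr fun (hM : IsCoatom M) => ?_, rfl⟩
    by_contra hzM
    have hcen : (⟨z, hz.1⟩ : ↥L) ∈ center ↥L :=
      mem_center_iff.mpr fun g => Subtype.ext (mem_centralizer_iff.mp hzc g g.2)
    have hsup : zpowers (⟨z, hz.1⟩ : ↥L) ⊔ M = ⊤ :=
      hM.2 _ (lt_of_le_of_ne le_sup_right fun h => hzM (h ▸ mem_sup_left (mem_zpowers _)))
    have hMn : M.Normal := normalizer_eq_top_iff.mp (top_le_iff.mp (hsup.ge.trans (sup_le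
      ((zpowers_le.mpr hcen).trans ((center_le_centralizer _).trans (centralizer_le_normalizer _)))
      le_normalizer)))
    haveI := hMn
    refine hzM ((?_ : commutator ↥L ≤ M) hzL')
    rw [commutator_def, commutator_le]
    have hgen : ∀ g : ↥L, ∃ i : ℤ, ∃ m ∈ M, g = (⟨z, hz.1⟩ : ↥L) ^ i * m := by
      intro g
      have hg : g ∈ ((zpowers (⟨z, hz.1⟩ : ↥L) ⊔ M : Subgroup ↥L) : Set ↥L) := by rw [hsup]; trivial
      rw [Subgroup.mul_normal] at hg
      obtain ⟨a, ha, m, hm, rfl⟩ := Set.mem_mul.mp hg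
      obtain ⟨i, rfl⟩ := mem_zpowers_iff.mp ha
      exact ⟨i, m, hm, rfl⟩
    intro a _ b _
    rw [← QuotientGroup.eq_one_iff, ← QuotientGroup.mk'_apply, map_commutatorElement,
      commutatorElement_eq_one_iff_mul_comm]
    obtain ⟨i, m, hm, rfl⟩ := hgen a
    obtain ⟨j, m', hm', rfl⟩ := hgen b
    have e : ∀ m ∈ M, QuotientGroup.mk' M m = 1 := fun m hm => (QuotientGroup.eq_one_iff m).mpr hm
    rw [map_mul, map_mul, e m hm, e m' hm', mul_one, mul_one, map_zpow, map_zpow, ← zpow_add,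
      ← zpow_add, add_comm]
  · -- `[L, B] ≤ F` implies `[L, B] = 1`
    intro B hB hBQ hLB
    have hBL : B ≤ normalizer (L : Set H) := by
      intro b hb
      refine map_conj_eq_iff.mp ?_
      rw [hL, map_commutator, map_conj_eq_iff.mpr (hBQ hb),
        map_conj_eq_iff.mpr (le_normalizer_of_normal (H := Fg) (K := ⊤) trivial)]
    have hZn : ∀ x ∈ normalizer (L : Set H), (∀ l ∈ L, ⁅l, x⁆ ∈ Z) →
        ∀ a ∈ L, ∀ b ∈ L, ⁅a * b, x⁆ = ⁅a, x⁆ * ⁅b, x⁆ := by
      intro x _ hx a ha b hb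
      rw [show ⁅a * b, x⁆ = a * ⁅b, x⁆ * a⁻¹ * ⁅a, x⁆ by
        simp only [commutatorElement_def]; group,
        mem_centralizer_iff.mp (hZc (hx b hb)) a ha, mul_inv_cancel_right,
        ← mem_centralizer_iff.mp (hZc (hx a ha)) _ (hx b hb).1]
    have hQc : ∀ x ∈ Q, (∀ l ∈ L, ⁅l, x⁆ ∈ Z) → ∀ l ∈ L, ⁅l, x⁆ = 1 := by
      intro x hx hxZ l hl
      obtain ⟨k, hk⟩ := hQ ⟨x, hx⟩
      have hpow : ∀ m : ℕ, ⁅l, x ^ m⁆ = ⁅l, x⁆ ^ m := by
        intro m
        induction m with
        | zero => simp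
        | succ m ih =>
          rw [pow_succ, commutatorElement_mul_right_eq_mul_conj, ih, pow_succ, mul_assoc _ (x ^ m),
            ← mem_centralizer_iff.mp (pow_mem (hZQ hx) m) _ (hxZ l hl), ← mul_assoc,
            mul_inv_cancel_right]
      have h2 := hpow (p ^ k)
      rw [show x ^ p ^ k = 1 from congrArg Subtype.val hk, commutatorElement_one_right] at h2
      have h3 : ⁅l, x⁆ ∈ (⊥ : Subgroup H) := coprime_of_mem_pRes_of_pGroup (k := k) (by
        refine hZcop.coprime_dvd_left ?_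
        rw [← Subgroup.orderOf_mk (a := ⁅l, x⁆) (ha := hxZ l hl)]
        exact orderOf_dvd_natCard _) (mem_bot.mpr h2.symm)
      exact mem_bot.mp h3
    rw [← le_bot_iff, commutator_le]
    intro l hl b hb
    have hbZ : ∀ l ∈ L, ⁅l, b⁆ ∈ Z := fun l hl =>
      ⟨(le_normalizer_iff_commutator_le_left.mp hBL) (commutator_mem_commutator hl hb),
        hLB (commutator_mem_commutator hl hb)⟩
    let φ : ↥L →* ↥Z := MonoidHom.mk' (fun l => ⟨⁅(l : H), b⁆, hbZ l l.2⟩) fun a c =>
      Subtype.ext (hZn b (hBL hb) hbZ a a.2 c c.2)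
    have := hkill φ ?_ ⟨l, hl⟩
    · exact mem_bot.mpr (congrArg Subtype.val this)
    intro a q hq
    refine Subtype.ext ?_
    show ⁅q * (a : H) * q⁻¹, b⁆ = ⁅(a : H), b⁆
    set c := b⁻¹ * (q⁻¹ * b * q) with hc
    have hcQ : c ∈ Q := by
      rw [show c = (b⁻¹ * q⁻¹ * b⁻¹⁻¹) * q by rw [hc]; group]
      exact mul_mem ((mem_normalizer_iff.mp (hBQ (inv_mem hb)) _).mp (inv_mem hq)) hq
    have hcon : ∀ l ∈ L, ⁅l, q⁻¹ * b * q⁆ ∈ Z := by
      intro l hl
      have h1 := hbZ _ ((mem_normalizer_iff.mp (hQL hq) l).mp hl)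
      have h3 : q⁻¹ * ⁅q * l * q⁻¹, b⁆ * q = ⁅l, q⁻¹ * b * q⁆ := by
        simp only [commutatorElement_def]; group
      rw [← h3, mul_assoc, mem_centralizer_iff.mp (hZQ hq) _ h1, inv_mul_cancel_left]
      exact h1
    have hcZ : ∀ l ∈ L, ⁅l, c⁆ ∈ Z := by
      intro l hl
      have hbn : b⁻¹ ∈ normalizer (Z : Set H) := inv_mem (LocalEven.le_normalizer_inf hBL (by
        intro g hg
        refine map_conj_eq_iff.mp ?_
        rw [hC, Subgroup.map_inf _ _ _ (MulAut.conj g).injective,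
          map_conj_eq_iff.mpr (le_normalizer_of_normal (H := Fg) (K := ⊤) trivial)]
        congr 1
        refine map_conj_eq_iff.mpr (LocalEven.le_normalizer_centralizer' ?_ (mem_zpowers g))
        rw [zpowers_le]
        refine map_conj_eq_iff.mp ?_
        rw [Subgroup.map_sup, map_conj_eq_iff.mpr (hBL hg), map_conj_eq_iff.mpr (hBQ hg)]) hb)
      rw [hc, commutatorElement_mul_right_eq_mul_conj, mul_assoc ⁅l, b⁻¹⁆ b⁻¹, mul_assoc]
      refine mul_mem ?_ ((mem_normalizer_iff.mp hbn _).mp (hcon l hl))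
      have h4 := (mem_normalizer_iff.mp hbn _).mp (inv_mem (hbZ l hl))
      rwa [show b⁻¹ * ⁅l, b⁆⁻¹ * b⁻¹⁻¹ = ⁅l, b⁻¹⁆ by simp only [commutatorElement_def]; group] at h4
    have h5 := hQc c hcQ hcZ a a.2
    calc ⁅q * (a : H) * q⁻¹, b⁆ = q * ⁅(a : H), q⁻¹ * b * q⁆ * q⁻¹ := by
          simp only [commutatorElement_def]; group
      _ = ⁅(a : H), q⁻¹ * b * q⁆ := by
          rw [← mem_centralizer_iff.mp (hZQ hq) _ (hcon a a.2), mul_inv_cancel_right]
      _ = ⁅(a : H), b * c⁆ := by rw [hc, mul_inv_cancel_left]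
      _ = ⁅(a : H), b⁆ := by rw [commutatorElement_mul_right_eq_mul_conj, h5]; group
  · -- `C_H(FL)` has order prime to `p`
    set C := centralizer ((F ⊔ L : Subgroup H) : Set H) with hCdef
    refine Nat.Coprime.symm ((Nat.Prime.coprime_iff_not_dvd Fact.out).mpr fun hd => ?_)
    have hQC : Q ≤ normalizer (C : Set H) := LocalEven.le_normalizer_centralizer' (by
      intro g hg
      refine map_conj_eq_iff.mp ?_
      rw [Subgroup.map_sup, map_conj_eq_iff.mpr (hQL hg),
        map_conj_eq_iff.mpr (centralizer_le_normalizer _ (hFQ hg))])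
    obtain ⟨U, hU, hQU⟩ := LocalEven.exists_isSylOf_ge hQ (le_sup_right : Q ≤ C ⊔ Q)
    have hUC := LocalEven.IsSylOf.inf_normal hU (le_sup_left : C ≤ C ⊔ Q)
      (sup_le le_normalizer hQC)
    have hne : U ⊓ C ≠ ⊥ := by
      intro h
      rw [h] at hUC
      have h1 := hUC.2
      rw [card_bot] at h1
      have h2 : 0 < (Nat.card ↥C).factorization p :=
        (Fact.out : p.Prime).factorization_pos_of_dvd Nat.card_pos.ne' hd
      exact absurd h1.symm (Nat.one_lt_pow h2.ne' (Fact.out : p.Prime).one_lt).ne'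
    obtain ⟨b, hb, hbQ', hb1⟩ := exists_ne_one_centralized hQ (hU.isPGroup.to_le inf_le_left)
      (LocalEven.le_normalizer_inf (hQU.trans le_normalizer) hQC) hne
    set B := zpowers b with hBdef
    have hBp : IsPGroup p ↥B := hU.isPGroup.to_le (zpowers_le.mpr hb.1)
    have hBQ : B ≤ centralizer (Q : Set H) := zpowers_le.mpr hbQ'
    have hBFL : B ≤ C := zpowers_le.mpr hb.2
    have hLB : L ≤ centralizer (B : Set H) :=
      le_sup_right.trans (le_centralizer_iff.mp hBFL)
    have hBU : B ≤ normalizer (U0 : Set H) := LocalEven.le_normalizer_inf le_normalizer_of_normal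
      (LocalEven.le_normalizer_centralizer' (hBQ.trans (centralizer_le_normalizer _)))
    have hW0 : ⁅U0, B⁆ ≤ U0 := le_normalizer_iff_commutator_le_left.mp hBU
    have hW0L : ⁅⁅U0, B⁆, L⁆ = ⊥ := by
      have hLB' : ⁅L, B⁆ = ⊥ := commutator_eq_bot_iff_le_centralizer.mpr hLB
      have hUL : ⁅L, U0⁆ ≤ L := le_normalizer_iff_commutator_le_left.mp (inf_le_left.trans hFgL)
      have h1 : ⁅⁅B, L⁆, U0⁆ = ⊥ := by rw [commutator_comm B L, hLB', commutator_bot_left]
      have h2 : ⁅⁅L, U0⁆, B⁆ = ⊥ := le_bot_iff.mp ((commutator_mono hUL le_rfl).trans hLB'.le)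
      exact commutator_commutator_eq_bot_of_rotate h1 h2
    have hWle : ⁅Fg, B⁆ ≤ U0 := by
      rw [commutator_le]
      intro x hx c hc
      have hx' : x ∈ (↑(L ⊔ U0) : Set H) := hdec.ge hx
      rw [coe_mul_of_right_le_normalizer_left _ _ (inf_le_left.trans hFgL)] at hx'
      obtain ⟨l, hl, u, hu, rfl⟩ := Set.mem_mul.mp hx'
      have h3 := commutator_mem_commutator hu hc
      rw [show ⁅l * u, c⁆ = l * ⁅u, c⁆ * l⁻¹ * ⁅l, c⁆ by simp only [commutatorElement_def]; group,
        show ⁅l, c⁆ = 1 from commutatorElement_eq_one_iff_mul_comm.mpr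
          (mem_centralizer_iff.mp (hLB hl) c hc).symm, mul_one,
        mem_centralizer_iff.mp (commutator_eq_bot_iff_le_centralizer.mp hW0L h3) l hl,
        mul_inv_cancel_right]
      exact hW0 h3
    have hWF : ⁅Fg, B⁆ ≤ F := hFmax _ (hWle.trans inf_le_left) (normalizer_commutator_ge_left Fg B)
      (le_centralizer_iff.mp (hWle.trans inf_le_right))
    have hW1 : ⁅Fg, B⁆ = ⊥ := by
      rw [(hbase B hBp).2]
      exact le_bot_iff.mp ((commutator_mono hWF le_rfl).trans (commutator_eq_bot_iff_le_centralizer.mpr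
        (le_sup_left.trans (le_centralizer_iff.mp hBFL))).le)
    rw [commutator_comm, commutator_eq_bot_iff_le_centralizer] at hW1
    have hA : B ≤ Fg ⊓ centralizer (Fg : Set H) :=
      le_inf (hW1.trans Components.centralizer_genFitting_le) hW1
    have hsn : B.IsSubnormal := Components.isSubnormal_of_le_normalizer hA (fun a ha => by
        refine centralizer_le_normalizer _ (mem_centralizer_iff.mpr fun y hy => ?_)
        exact mem_centralizer_iff.mp ha.2 y (hA hy).1)
      ((inferInstance : (Fg ⊓ centralizer (Fg : Set H)).Normal).isSubnormal)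
    have h2 := Components.le_pCore_of_isSubnormal hsn hBp
    rw [hO, le_bot_iff, hBdef, zpowers_eq_bot] at h2
    exact hb1 h2

end Cfsg.Agent.S2817
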