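import Cfsg.Statements.S2818
import Cfsg.Agent.Lib.LocalStr.Basic
import Cfsg.Agent.Lib.FGS73.Basic
import Mathlib.Tactic.Group
-- import your own Cfsg.Agent.* helpers here

set_option autoImplicit false
open Cfsg

set_option autoImplicit false
set_option linter.style.haveILetI false

namespace Cfsg.Agent.S2818
open Subgroup CfsgLib CfsgLib.LocalStr
open CfsgLib.LocalEven (IsSylOf)
open scoped commutatorElement


/-- Let P be a finite p-subgroup of a group G and H a subgroup of N_G(P) with [P, H] ≤ Ω₁(Z(P)) (the elements of order dividing p in the centre of P). Then H centralizes the Frattini subgroup of P. -/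
theorem result {G : Type*} [Group G] [Finite G] {p : ℕ} [Fact p.Prime] (P : Subgroup G) (hP : IsPGroup p ↥P) (H : Subgroup G) (hH : H ≤ Subgroup.normalizer (P : Set G)) (h : ⁅P, H⁆ ≤ Cfsg.omegaOne p (P ⊓ Subgroup.centralizer (P : Set G))) : ⁅(frattini ↥P).map P.subtype, H⁆ = ⊥ := by
  set Z := omegaOne p (P ⊓ centralizer (P : Set G)) with hZdef
  have hZP : Z ≤ P ⊓ centralizer (P : Set G) := LocalEven.omegaOne_le _
  have hZe : ∀ z ∈ Z, z ^ p = 1 := by
    intro z hz
    suffices h : z ^ p = 1 ∧ z ∈ P ⊓ centralizer (P : Set G) from h.1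
    rw [hZdef, omegaOne] at hz
    induction hz using closure_induction with
    | mem x hx => exact ⟨hx.2, hx.1⟩
    | one => exact ⟨one_pow _, one_mem _⟩
    | mul a b _ _ ha hb =>
      refine ⟨?_, mul_mem ha.2 hb.2⟩
      have : Commute a b := mem_centralizer_iff.mp hb.2.2 a ha.2.1
      rw [this.mul_pow, ha.1, hb.1, one_mul]
    | inv a _ ha => exact ⟨by rw [inv_pow, ha.1, inv_one], inv_mem ha.2⟩
  rw [commutator_eq_bot_iff_le_centralizer]
  set N : Subgroup ↥P := (centralizer (H : Set G)).subgroupOf P with hN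
  have hcong : ∀ x ∈ P, ∀ h ∈ H, ∃ z ∈ Z, h * x * h⁻¹ = z * x := by
    intro x hx g hg
    refine ⟨⁅g, x⁆, h ?_, by simp [commutatorElement_def, mul_assoc]⟩
    rw [commutator_comm]
    exact commutator_mem_commutator hg hx
  have hc : ∀ a b : ↥P, a * b * (b * a)⁻¹ ∈ N := by
    intro a b
    refine mem_subgroupOf.mpr (mem_centralizer_iff.mpr fun g hg => ?_)
    obtain ⟨u, hu, hua⟩ := hcong a a.2 g hg
    obtain ⟨v, hv, hvb⟩ := hcong b b.2 g hg
    have hu' := mem_centralizer_iff.mp (hZP hu).2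
    have hv' := mem_centralizer_iff.mp (hZP hv).2
    have h1 : g * ((a : G) * b * (b * a : G)⁻¹) * g⁻¹ = (a : G) * b * (b * a : G)⁻¹ := by
      have e1 : g * ((a : G) * b * (b * a : G)⁻¹) * g⁻¹ =
          (g * a * g⁻¹) * (g * b * g⁻¹) * ((g * b * g⁻¹) * (g * a * g⁻¹))⁻¹ := by group
      rw [e1, hua, hvb]
      have e2 : u * (a : G) * (v * b) = u * v * (a * b) := by
        rw [mul_assoc, ← mul_assoc (a : G), hv' a a.2]; group
      have e3 : v * (b : G) * (u * a) = u * v * (b * a) := by
        rw [mul_assoc, ← mul_assoc (b : G), hu' b b.2]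
        have := hu' v (hZP hv).1
        calc v * (u * (b : G) * a) = v * u * (b * a) := by group
          _ = u * v * (b * a) := by rw [this]
      rw [e2, e3]
      have e4 : ((a : G) * b * (b * a : G)⁻¹) ∈ P :=
        mul_mem (mul_mem a.2 b.2) (inv_mem (mul_mem b.2 a.2))
      have huv : u * v ∈ centralizer (P : Set G) := mul_mem (hZP hu).2 (hZP hv).2
      calc u * v * ((a : G) * b) * (u * v * ((b : G) * a))⁻¹
          = u * v * ((a : G) * b * (b * a : G)⁻¹) * (u * v)⁻¹ := by group
        _ = (a : G) * b * (b * a : G)⁻¹ := by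
          rw [← mem_centralizer_iff.mp huv _ e4, mul_inv_cancel_right]
    simp only [Subgroup.coe_mul, InvMemClass.coe_inv]
    exact mul_inv_eq_iff_eq_mul.mp h1
  have he : ∀ a : ↥P, a ^ p ∈ N := by
    intro a
    refine mem_subgroupOf.mpr (mem_centralizer_iff.mpr fun g hg => ?_)
    obtain ⟨u, hu, hua⟩ := hcong a a.2 g hg
    have hcm : Commute u (a : G) := (mem_centralizer_iff.mp (hZP hu).2 a a.2).symm
    have h1 : g * (a : G) ^ p * g⁻¹ = (a : G) ^ p := by
      rw [← conj_pow, hua, hcm.mul_pow, hZe u hu, one_mul]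
    rw [SubgroupClass.coe_pow]
    exact mul_inv_eq_iff_eq_mul.mp h1
  haveI : N.Normal := ⟨fun x hx g => by
    have := N.mul_mem (hc g x) hx
    rwa [show g * x * (x * g)⁻¹ * x = g * x * g⁻¹ by group] at this⟩
  refine le_trans ?_ (show N.map P.subtype ≤ _ by rintro x ⟨y, hy, rfl⟩; exact hy)
  exact map_mono (FGS73.frattini_le_of_elementary_quotient Fact.out N hc he)

end Cfsg.Agent.S2818
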