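import Cfsg.Statements.S2819
import Cfsg.Agent.Lib.LocalStr.Large
import Cfsg.Agent.Lib.LocalEven.Kieler
import Cfsg.Agent.Lib.FGS73.Basic
import Mathlib.Tactic.Group
-- import your own Cfsg.Agent.* helpers here

set_option autoImplicit false
open Cfsg

set_option autoImplicit false
set_option linter.style.haveILetI false

namespace Cfsg.Agent.S2819
open Subgroup CfsgLib CfsgLib.LocalStr
open CfsgLib.LocalEven (IsSylOf)
open scoped commutatorElement


/-- Let P be a finite p-subgroup of a group G, H a subgroup of N_G(P), and Y a subgroup of H centralizing the derived subgroup P' such that [P, Y] is elementary abelian. Then O^p(⟨Y^H⟩), the subgroup of the normal closure of Y in H generated by its elements of order prime to p, centralizes the Frattini subgroup of P. -/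
theorem result {G : Type*} [Group G] [Finite G] {p : ℕ} [Fact p.Prime] (P : Subgroup G) (hP : IsPGroup p ↥P) (H : Subgroup G) (hH : H ≤ Subgroup.normalizer (P : Set G)) (Y : Subgroup G) (hYH : Y ≤ H) (hYc : Y ≤ Subgroup.centralizer ((⁅P, P⁆ : Subgroup G) : Set G)) (hel : Cfsg.IsElementaryAbelian p ⁅P, Y⁆) (NY : Subgroup G) (hNY : NY = (Subgroup.normalClosure ((Y.subgroupOf H : Subgroup ↥H) : Set ↥H)).map H.subtype) : (Cfsg.pResidual p ↥NY).map NY.subtype ≤ Subgroup.centralizer (((frattini ↥P).map P.subtype : Subgroup G) : Set G) := by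
  set P' := ⁅P, P⁆ with hP'
  set F := (frattini ↥P).map P.subtype with hF
  have hnorm : ∀ {g : G}, g ∈ normalizer (P : Set G) → g ∈ normalizer (P' : Set G) := fun {g} hg =>
    map_conj_eq_iff.mp (by rw [hP', map_commutator, map_conj_eq_iff.mpr hg])
  have hHF : H ≤ normalizer (F : Set G) := le_normalizer_map_of_characteristic inferInstance hH
  have hP'P : P' ≤ P := le_normalizer_iff_commutator_le_left.mp le_normalizer
  have hPP' : P ≤ normalizer (P' : Set G) := fun g hg => hnorm (le_normalizer hg)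
  set S := stabilizerOfQuotient F P' ⊓ centralizer (P' : Set G) with hS
  have hYS : Y ≤ S := by
    intro y hy
    have hyP := hH (hYH hy)
    refine ⟨⟨hHF (hYH hy), hnorm hyP, ?_⟩, hYc hy⟩
    rintro _ ⟨φ, hφ, rfl⟩
    let X : Subgroup ↥P :=
      { carrier := {x | ⁅y, (x : G)⁆ ∈ P'}
        one_mem' := by simp
        mul_mem' := by
          intro a b ha hb
          show ⁅y, (a : G) * b⁆ ∈ P'
          rw [show ⁅y, (a : G) * b⁆ = ⁅y, (a : G)⁆ * ((a : G) * ⁅y, (b : G)⁆ * (a : G)⁻¹) by
            simp only [commutatorElement_def]; group]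
          exact P'.mul_mem ha ((mem_normalizer_iff.mp (hPP' a.2) _).mp hb)
        inv_mem' := by
          intro a ha
          show ⁅y, (a : G)⁻¹⁆ ∈ P'
          rw [show ⁅y, (a : G)⁻¹⁆ = (a : G)⁻¹ * ⁅y, (a : G)⁆⁻¹ * a by
            simp only [commutatorElement_def]; group]
          exact (mem_normalizer_iff''.mp (hPP' a.2) _).mp (P'.inv_mem ha) }
    have hX : P'.subgroupOf P ≤ X := fun x hx => by
      show ⁅y, (x : G)⁆ ∈ P'
      rw [commutatorElement_eq_one_iff_mul_comm.mpr (mem_centralizer_iff.mp (hYc hy) x hx).symm]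
      exact one_mem _
    have hc : ∀ a b : ↥P, a * b * (b * a)⁻¹ ∈ X := fun a b => hX (mem_subgroupOf.mpr (by
      have := commutator_mem_commutator (G := G) a.2 b.2
      rw [commutatorElement_def] at this
      simpa [mul_assoc] using this))
    haveI : X.Normal := ⟨fun x hx g => by
      have := X.mul_mem (hc g x) hx
      rwa [show g * x * (x * g)⁻¹ * x = g * x * g⁻¹ by group] at this⟩
    have he : ∀ a : ↥P, a ^ p ∈ X := fun a => by
      show ⁅y, ((a ^ p : ↥P) : G)⁆ ∈ P'
      have hyaP : y * a * y⁻¹ ∈ P := (mem_normalizer_iff.mp hyP a).mp a.2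
      set c : ↥P := ⟨y * a * y⁻¹, hyaP⟩ * a⁻¹ with hcdef
      have hcY : (c : G) ∈ ⁅P, Y⁆ := by
        rw [commutator_comm]
        exact commutator_mem_commutator hy a.2
      have hcp : c ^ p = 1 := Subtype.ext (by
        rw [coe_pow]; exact hel.2 _ hcY)
      have hab : Abelianization.of ((c * a) ^ p * (a ^ p)⁻¹) = 1 := by
        rw [map_mul, map_pow, map_mul, mul_pow, ← map_pow, ← map_pow, hcp, map_one, one_mul,
          map_inv, mul_inv_cancel]
      rw [← MonoidHom.mem_ker, Abelianization.ker_of] at hab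
      have hmem := mem_map_of_mem P.subtype hab
      rw [map_subtype_commutator] at hmem
      convert hmem using 1
      rw [hcdef, inv_mul_cancel_right, commutatorElement_def]
      simp [← conj_pow]
    exact FGS73.frattini_le_of_elementary_quotient Fact.out X hc he hφ
  have hHS : H ≤ normalizer (S : Set G) := by
    refine LocalEven.le_normalizer_inf ?_ (LocalEven.le_normalizer_centralizer' fun g hg => hnorm (hH hg))
    intro g hg
    have key : ∀ g ∈ H, ∀ x ∈ stabilizerOfQuotient F P', g * x * g⁻¹ ∈ stabilizerOfQuotient F P' := by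
      rintro g hg x ⟨a1, a2, a3⟩
      refine ⟨mul_mem (mul_mem (hHF hg) a1) (inv_mem (hHF hg)),
        mul_mem (mul_mem (hnorm (hH hg)) a2) (inv_mem (hnorm (hH hg))), fun o ho => ?_⟩
      have h4 := (mem_normalizer_iff.mp (hnorm (hH hg)) _).mp
        (a3 _ ((mem_normalizer_iff''.mp (hHF hg) o).mp ho))
      rwa [show g * ⁅x, g⁻¹ * o * g⁆ * g⁻¹ = ⁅g * x * g⁻¹, o⁆ by
        simp only [commutatorElement_def]; group] at h4
    refine mem_normalizer_iff.mpr fun x => ⟨key g hg x, fun hx => ?_⟩
    have := key g⁻¹ (inv_mem hg) _ hx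
    simpa [mul_assoc] using this
  have hNS : NY ≤ S := by
    rw [hNY, map_le_iff_le_comap]
    haveI : (S.comap H.subtype).Normal := ⟨fun x hx g =>
      (mem_normalizer_iff.mp (hHS g.2) x).mp hx⟩
    exact normalClosure_le_normal fun y hy => hYS hy
  refine pRes_le_iff.mpr fun g hg hc => mem_centralizer_iff.mpr fun φ hφ => ?_
  obtain ⟨⟨hgF, hgP', hst⟩, hgc⟩ := hNS hg
  have hd : φ⁻¹ * (g * φ * g⁻¹) ∈ P' := by
    have h1 := hst _ (inv_mem hφ)
    have h2 := inv_mem h1
    rwa [show ⁅g, φ⁻¹⁆⁻¹ = φ⁻¹ * (g * φ * g⁻¹) by simp only [commutatorElement_def]; group] at h2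
  exact (CharP.commute_of_stab hP hc (hP'P hd) (mem_centralizer_iff.mp hgc _ hd).symm).symm

end Cfsg.Agent.S2819
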