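import Cfsg.Statements.S2820
import Cfsg.Agent.Lib.LocalStr.Irreducible
import Mathlib.Tactic.Group
import Mathlib.Tactic.Ring
-- import your own Cfsg.Agent.* helpers here

set_option autoImplicit false
open Cfsg

set_option autoImplicit false
set_option linter.style.haveILetI false

namespace Cfsg.Agent.S2820
open Subgroup CfsgLib CfsgLib.LocalStr
open CfsgLib.LocalEven (IsSylOf)
open scoped commutatorElement


/-- Let A and B be subnormal subgroups of the finite group H with A a p-group and B = O^p(B) (B generated by its elements of order prime to p). Then A normalizes B and B = O^p(AB), the subgroup of ⟨A, B⟩ generated by its elements of order prime to p. -/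
theorem result {H : Type*} [Group H] [Finite H] {p : ℕ} [Fact p.Prime] (A B : Subgroup H) (hA : A.IsSubnormal) (hB : B.IsSubnormal) (hAp : IsPGroup p ↥A) (hBres : (Cfsg.pResidual p ↥B).map B.subtype = B) : A ≤ Subgroup.normalizer (B : Set H) ∧ (Cfsg.pResidual p ↥(A ⊔ B)).map (A ⊔ B).subtype = B := by
  set Q := pCore p H with hQ
  have hAQ : A ≤ Q := Components.le_pCore_of_isSubnormal hA hAp
  have hQp : IsPGroup p Q := Components.isPGroup_pCore p
  have hBQn : B ≤ normalizer (Q : Set H) := le_normalizer_of_normal
  set U := Q ⊔ B with hU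
  have hsub : (B.subgroupOf U).IsSubnormal := hB.comap U.subtype
  obtain ⟨n, hn⟩ := hQp.exists_card_eq
  have hidx : B.relIndex U ∣ p ^ n := by
    have h1 : Q.relIndex U = Q.relIndex B := Solvable.relIndex_sup_of_le_normalizer hBQn
    have h2 := relIndex_mul_relIndex (⊥ : Subgroup H) Q U bot_le le_sup_left
    have h3 := relIndex_mul_relIndex (⊥ : Subgroup H) B U bot_le le_sup_right
    have h4 := relIndex_mul_relIndex (⊥ : Subgroup H) (Q ⊓ B) B bot_le inf_le_right
    rw [relIndex_bot_left, relIndex_bot_left, h1] at h2
    rw [relIndex_bot_left, relIndex_bot_left] at h3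
    rw [relIndex_bot_left, relIndex_bot_left, inf_relIndex_right] at h4
    have h5 : Nat.card (Q ⊓ B : Subgroup H) * B.relIndex U = Nat.card Q := by
      have hne : Q.relIndex B ≠ 0 := fun h =>
        Nat.card_pos.ne' (h4.symm.trans (by rw [h, mul_zero]))
      refine mul_right_cancel₀ hne ?_
      rw [h2, ← h3, ← h4]; ring
    rw [← hn, ← h5]
    exact dvd_mul_left _ _
  obtain ⟨k, -, hk⟩ := (Nat.dvd_prime_pow Fact.out).mp hidx
  have hres : pRes p U = B := by
    conv_rhs => rw [← hBres]
    refine pRes_eq_of le_sup_right fun g hg hc => ?_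
    exact mem_of_isSubnormal_of_index (K := B.subgroupOf U) hsub hk (g := ⟨g, hg⟩)
      (by rwa [orderOf_mk])
  refine ⟨(hAQ.trans le_sup_left).trans (hres ▸ le_normalizer_pRes_self U), ?_⟩
  refine le_antisymm ((pRes_mono (sup_le (hAQ.trans le_sup_left) le_sup_right)).trans hres.le) ?_
  exact hBres.ge.trans (pRes_mono le_sup_right)

end Cfsg.Agent.S2820
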