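import Cfsg.Statements.S2823
import Cfsg.Agent.Lib.LocalStr.PReduced
import Mathlib.Tactic.Group
-- import your own Cfsg.Agent.* helpers here

set_option autoImplicit false
open Cfsg

set_option autoImplicit false
set_option linter.style.haveILetI false

namespace Cfsg.Agent.S2823
open Subgroup CfsgLib CfsgLib.LocalStr
open CfsgLib.LocalEven (IsSylOf omegaZ)
open scoped commutatorElement


/-- Let H be a finite group, p a prime, T a Sylow p-subgroup and L a subgroup of characteristic p containing T; let Z_L be the subgroup generated by the Ω₁(Z(S)) over the Sylow p-subgroups S of L and O^p(L) the subgroup generated by the elements of L of order prime to p. Then Z_L = Ω₁(Z(L))·[Z_L, O^p(L)] and [Z_L, L] = [Z_L, O^p(L)]. -/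
theorem result {H : Type*} [Group H] [Finite H] {p : ℕ} [Fact p.Prime] (T : Sylow p H) (L : Subgroup H) (hTL : (T : Subgroup H) ≤ L) (hL : Subgroup.centralizer (Cfsg.pCore p ↥L : Set ↥L) ≤ Cfsg.pCore p ↥L) : Cfsg.sylowCenterClosure p L = (Cfsg.omegaOne p (L ⊓ Subgroup.centralizer ((L : Subgroup H) : Set H))) ⊔ ⁅Cfsg.sylowCenterClosure p L, (Cfsg.pResidual p ↥L).map L.subtype⁆ ∧ ⁅Cfsg.sylowCenterClosure p L, L⁆ = ⁅Cfsg.sylowCenterClosure p L, (Cfsg.pResidual p ↥L).map L.subtype⁆ := by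
  set A := omegaZ p (T : Subgroup H) with hA
  set Z := sylowCenterClosure p L with hZ
  set R := pRes p L with hR
  set U := ⁅Z, R⁆ with hU
  set B := omegaOne p (L ⊓ centralizer (L : Set H)) with hB
  have hTs : IsSylOf p (T : Subgroup H) L := (sylow_isSylOf_top T).of_le hTL le_top
  have hZY : Z ≤ largestPReducedOf p L := sylowCenterClosure_le_largest T hTL hL
  have hYe := (pRedIn_largest (p := p) L).elem
  have hZe : IsElementaryAbelian p Z := ⟨⟨⟨fun a b => Subtype.ext (congrArg Subtype.val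
    (hYe.1.is_comm.comm ⟨a, hZY a.2⟩ ⟨b, hZY b.2⟩) :)⟩⟩, fun a ha => hYe.2 a (hZY ha)⟩
  have hLZ : L ≤ normalizer (Z : Set H) := LocalEven.le_normalizer_sylowCenterClosure L
  have hLR : L ≤ normalizer (R : Set H) := le_normalizer_pRes_self L
  have hLU : L ≤ normalizer (U : Set H) := fun g hg => map_conj_eq_iff.mp (by
    rw [hU, map_commutator, map_conj_eq_iff.mpr (hLZ hg), map_conj_eq_iff.mpr (hLR hg)])
  have hAZ : A ≤ Z := hTs.omegaZ_le
  have hlA : ∀ a ∈ A, ∀ l ∈ L, l * a * l⁻¹ * a⁻¹ ∈ U := by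
    intro a ha l hl
    rw [← pRes_sup_of_isSylOf hTs, ← SetLike.mem_coe,
      coe_mul_of_right_le_normalizer_left _ _ (hTL.trans hLR)] at hl
    obtain ⟨r, hr, t, ht, rfl⟩ := Set.mem_mul.mp hl
    have hta : t * a * t⁻¹ = a := LocalEven.fixed_of_centralizer ht (LocalEven.omegaZ_spec ha).2.1
    rw [show r * t * a * (r * t)⁻¹ * a⁻¹ = r * (t * a * t⁻¹) * r⁻¹ * a⁻¹ by group, hta, hU,
      commutator_comm]
    exact commutator_mem_commutator hr (hAZ ha)
  have hBZ : ∀ b ∈ Z, b ∈ centralizer (L : Set H) → b ∈ B := fun b hb hbc =>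
    subset_closure ⟨⟨(pRedIn_largest (p := p) L).le (hZY hb), hbc⟩, hZe.2 b hb⟩
  have hA' : A ≤ B ⊔ U := fun a ha => by
    obtain ⟨b, u, hb, hbc, hu, rfl⟩ := mem_sup_fixed hTs hZe hLZ (hAZ ha)
      (fun t ht => LocalEven.fixed_of_centralizer ht (LocalEven.omegaZ_spec ha).2.1) (hlA a ha)
    exact mul_mem (mem_sup_left (hBZ b hb hbc)) (mem_sup_right hu)
  have hZle : Z ≤ B ⊔ U := LocalEven.sylowCenterClosure_le fun S hS => by
    obtain ⟨g, hg, hgS⟩ := hTs.exists_conj hS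
    rw [← hgS, ← LocalEven.cj_omegaZ]
    rintro _ ⟨a, ha, rfl⟩
    show g * a * g⁻¹ ∈ _
    rw [show g * a * g⁻¹ = (g * a * g⁻¹ * a⁻¹) * a by group]
    exact mul_mem (mem_sup_right (hlA a ha g hg)) (hA' ha)
  have hUZ : U ≤ Z := le_normalizer_iff_commutator_le_left.mp ((pRes_le L).trans hLZ)
  have hBLc : B ≤ centralizer (L : Set H) := (LocalEven.omegaOne_le _).trans inf_le_right
  refine ⟨le_antisymm hZle (sup_le ?_ hUZ), le_antisymm ?_ (commutator_mono le_rfl (pRes_le L))⟩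
  · intro b hb
    obtain ⟨hbL, hbc, hbp⟩ : b ∈ L ∧ b ∈ centralizer (L : Set H) ∧ b ^ p = 1 :=
      LocalEven.omegaZ_spec hb
    refine hAZ (LocalEven.mem_omegaZ (hTs.pCoreOf_le ?_)
      (centralizer_le (SetLike.coe_subset_coe.mpr hTL) hbc) hbp)
    refine le_pCoreOf (zpowers_le.mpr hbL) ?_ ?_ (mem_zpowers b)
    · exact (le_centralizer_iff.mp (zpowers_le.mpr hbc)).trans (centralizer_le_normalizer _)
    · intro x
      obtain ⟨i, hi⟩ := mem_zpowers_iff.mp x.2
      exact ⟨1, Subtype.ext (by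
        rw [coe_pow, ← hi, pow_one, ← zpow_natCast, zpow_comm, zpow_natCast, hbp, one_zpow]
        rfl)⟩
  · rw [commutator_le]
    intro z hz l hl
    have hz' : z ∈ (↑(B ⊔ U) : Set H) := hZle hz
    rw [coe_mul_of_left_le_normalizer_right _ _ ((LocalEven.omegaOne_le _).trans
      (inf_le_left.trans hLU))] at hz'
    obtain ⟨b, hb, u, hu, rfl⟩ := Set.mem_mul.mp hz'
    have hbl : b * l = l * b := (mem_centralizer_iff.mp (hBLc hb) l hl).symm
    have hbL : b ∈ L := (LocalEven.omegaOne_le _ hb).1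
    have e : ⁅b * u, l⁆ = b * (u * (l * u⁻¹ * l⁻¹)) * b⁻¹ * (b * l * b⁻¹ * l⁻¹) := by
      rw [commutatorElement_def]; group
    rw [e, show b * l * b⁻¹ * l⁻¹ = 1 by rw [hbl]; group, mul_one]
    exact (mem_normalizer_iff.mp (hLU hbL) _).mp
      (mul_mem hu ((mem_normalizer_iff.mp (hLU hl) _).mp (inv_mem hu)))

end Cfsg.Agent.S2823
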