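import Cfsg.Statements.S2825
import Cfsg.Agent.Lib.LocalStr.PReducedSub
import Mathlib.Tactic.Group
-- import your own Cfsg.Agent.* helpers here

set_option autoImplicit false
open Cfsg

set_option autoImplicit false
set_option linter.style.haveILetI false

namespace Cfsg.Agent.S2825
open Subgroup CfsgLib CfsgLib.LocalStr
open CfsgLib.LocalEven (IsSylOf omegaZ)
open scoped commutatorElement


/-- Let L be a subnormal subgroup of the finite group H, p a prime, Y_H and Y_L the largest p-reduced normal subgroups. Then Y_H ∩ L = Y_H ∩ Y_L and this subgroup is a p-reduced normal subgroup of L; C_L(Y_L) = C_L(Y_H) = C_L(Y_H ∩ L); and if O^p(H) ≤ L, then [Y_L, L] = 1 if and only if [Y_H, H] = 1. -/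
theorem result {H : Type*} [Group H] [Finite H] {p : ℕ} [Fact p.Prime] (L : Subgroup H) (hL : L.IsSubnormal) : Cfsg.largestPReduced p H ⊓ L = Cfsg.largestPReduced p H ⊓ (Cfsg.largestPReducedOf p L) ∧ Cfsg.IsPReducedNormal p ((Cfsg.largestPReduced p H ⊓ L).subgroupOf L) ∧ L ⊓ Subgroup.centralizer ((Cfsg.largestPReducedOf p L : Subgroup H) : Set H) = L ⊓ Subgroup.centralizer (Cfsg.largestPReduced p H : Set H) ∧ L ⊓ Subgroup.centralizer (Cfsg.largestPReduced p H : Set H) = L ⊓ Subgroup.centralizer ((Cfsg.largestPReduced p H ⊓ L : Subgroup H) : Set H) ∧ (Cfsg.pResidual p H ≤ L → (⁅(Cfsg.largestPReducedOf p L), L⁆ = ⊥ ↔ ⁅Cfsg.largestPReduced p H, (⊤ : Subgroup H)⁆ = ⊥)) := by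
  set Y := largestPReduced p H with hY
  set Z := largestPReducedOf p L with hZ
  have hYp : IsPReducedNormal p Y := LocalEven.pReduced_sSup fun _ h => h
  haveI := hYp.1
  have hD : L ⊓ centralizer ((Y ⊓ L : Subgroup H) : Set H) ≤ centralizer (Y : Set H) := by
    set D := L ⊓ centralizer ((Y ⊓ L : Subgroup H) : Set H) with hDdef
    have hDn : L ≤ normalizer (D : Set H) := LocalEven.le_normalizer_inf le_normalizer
      (LocalEven.le_normalizer_centralizer' (LocalEven.le_normalizer_inf le_normalizer_of_normal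
        le_normalizer))
    refine LocalEven.subnormal_pMod_le hYp hL inf_le_left (subgroupOf_normal hDn)
      (isPMod_of_coprime fun x hx hc => mem_centralizer_iff.mpr fun v hv => ?_)
    have h1 : v⁻¹ * (x * v * x⁻¹) ∈ Y ⊓ L := by
      refine ⟨Y.mul_mem (Y.inv_mem hv) (hYp.1.conj_mem v hv x), ?_⟩
      have h2 := LocalEven.commutator_mem_subnormal hYp.1 hYp.2.1 hL x hx.1 hc v hv
      have h3 : x * v * x⁻¹ * v⁻¹ = v⁻¹ * (x * v * x⁻¹) :=
        congrArg Subtype.val (hYp.2.1.1.is_comm.comm (⟨x * v * x⁻¹, hYp.1.conj_mem v hv x⟩ : Y)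
          ⟨v⁻¹, inv_mem hv⟩)
      rwa [h3] at h2
    exact (CharP.commute_of_stab (LocalEven.isPGroup_elemAb hYp.2.1) hc h1.1
      (mem_centralizer_iff.mp hx.2 _ h1).symm).symm
  have hred : PRedIn p L (Y ⊓ L) := by
    refine ⟨inf_le_right, LocalEven.le_normalizer_inf le_normalizer_of_normal le_normalizer,
      ⟨⟨⟨fun a b => Subtype.ext (congrArg Subtype.val
        (hYp.2.1.1.is_comm.comm ⟨a, a.2.1⟩ ⟨b, b.2.1⟩) :)⟩⟩, fun a ha => hYp.2.1.2 a ha.1⟩,
      fun N hNL hN hm => ?_⟩
    refine le_trans (LocalEven.subnormal_pMod_le hYp hL hNL (subgroupOf_normal hN) fun x hx => ?_)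
      (centralizer_le (SetLike.coe_subset_coe.mpr inf_le_left))
    obtain ⟨k, hk⟩ := hm x hx
    exact ⟨k, hD ⟨pow_mem (hNL hx) _, hk⟩⟩
  have hYLZ : Y ⊓ L ≤ Z := le_largest hred
  have e1 : L ⊓ centralizer (Y : Set H) = L ⊓ centralizer ((Y ⊓ L : Subgroup H) : Set H) :=
    le_antisymm (inf_le_inf le_rfl (centralizer_le (SetLike.coe_subset_coe.mpr inf_le_left)))
      (le_inf inf_le_left hD)
  have e2 : L ⊓ centralizer (Z : Set H) = L ⊓ centralizer (Y : Set H) :=
    le_antisymm (le_inf inf_le_left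
      ((inf_le_inf le_rfl (centralizer_le (SetLike.coe_subset_coe.mpr hYLZ))).trans hD))
      (le_inf inf_le_left (inf_centralizer_largest_le_subnormal hL))
  refine ⟨le_antisymm (le_inf inf_le_left hYLZ) (inf_le_inf le_rfl (pRedIn_largest L).le),
    hred.subtype, e2, e1, fun hres => ?_⟩
  rw [commutator_eq_bot_iff_le_centralizer, commutator_eq_bot_iff_le_centralizer]
  constructor
  · intro h
    have h1 : L ≤ centralizer (Y : Set H) := le_trans (le_inf le_rfl (le_centralizer_iff.mp h))
      (e2.le.trans inf_le_right)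
    refine le_centralizer_iff.mp (LocalEven.pReduced_le_centralizer hYp inferInstance
      (isPMod_of_coprime fun x _ hc => h1 (hres (subset_closure hc))))
  · intro h
    refine le_centralizer_iff.mp (le_trans (le_inf le_rfl ?_) (e2.ge.trans inf_le_right))
    exact (le_centralizer_iff.mp h).trans' le_top

end Cfsg.Agent.S2825
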