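import Cfsg.Statements.S2826
import Cfsg.Agent.Lib.LocalStr.PReduced
import Mathlib.Tactic.Group
-- import your own Cfsg.Agent.* helpers here

set_option autoImplicit false
open Cfsg

set_option autoImplicit false
set_option linter.style.haveILetI false

namespace Cfsg.Agent.S2826
open Subgroup CfsgLib CfsgLib.LocalStr
open CfsgLib.LocalEven (IsSylOf omegaZ)
open scoped commutatorElement


/-- Let H be a finite group of characteristic p, T a Sylow p-subgroup, and V a normal elementary abelian p-subgroup of H containing Ω₁(Z(T)). Then C_H(Ω₁(Z(T))) = C_H([V, O^p(H)] ∩ Ω₁(Z(T))), O^p(H) being generated by the elements of order prime to p. -/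
theorem result {H : Type*} [Group H] [Finite H] {p : ℕ} [Fact p.Prime] (hH : Subgroup.centralizer (Cfsg.pCore p H : Set H) ≤ Cfsg.pCore p H) (T : Sylow p H) (V : Subgroup H) [V.Normal] (hV : Cfsg.IsElementaryAbelian p V) (hZV : (Cfsg.omegaOne p ((T : Subgroup H) ⊓ Subgroup.centralizer (((T : Subgroup H) : Subgroup H) : Set H))) ≤ V) : Subgroup.centralizer ((Cfsg.omegaOne p ((T : Subgroup H) ⊓ Subgroup.centralizer (((T : Subgroup H) : Subgroup H) : Set H))) : Set H) = Subgroup.centralizer (((⁅V, Cfsg.pResidual p H⁆ ⊓ (Cfsg.omegaOne p ((T : Subgroup H) ⊓ Subgroup.centralizer (((T : Subgroup H) : Subgroup H) : Set H)))) : Subgroup H) : Set H) := by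
  set R := pResidual p H with hR
  set A := omegaZ p (T : Subgroup H) with hA
  set U := ⁅V, R⁆ with hU
  have hTs := sylow_isSylOf_top (p := p) T
  haveI := pResidual_normal H p
  refine le_antisymm (centralizer_le (SetLike.coe_subset_coe.mpr inf_le_right)) ?_
  intro x hx
  rw [mem_centralizer_iff]
  intro a ha
  have hta : ∀ t ∈ (T : Subgroup H), t * a * t⁻¹ = a := fun t ht =>
    LocalEven.fixed_of_centralizer ht (LocalEven.omegaZ_spec ha).2.1
  have hla : ∀ l ∈ (⊤ : Subgroup H), l * a * l⁻¹ * a⁻¹ ∈ U := by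
    intro l _
    have hl : l ∈ ((R ⊔ (T : Subgroup H) : Subgroup H) : Set H) := by
      rw [pResidual_sup_sylow T]; trivial
    rw [coe_mul_of_right_le_normalizer_left _ _ le_normalizer_of_normal] at hl
    obtain ⟨r, hr, t, ht, rfl⟩ := Set.mem_mul.mp hl
    rw [show r * t * a * (r * t)⁻¹ * a⁻¹ = r * (t * a * t⁻¹) * r⁻¹ * a⁻¹ by group, hta t ht, hU,
      commutator_comm]
    exact commutator_mem_commutator hr (hZV ha)
  obtain ⟨b, u, hb, hbc, hu, rfl⟩ := mem_sup_fixed (L := ⊤) hTs hV le_normalizer_of_normal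
    (hZV ha) hta hla
  have huV : u ∈ V := commutator_le_left V R hu
  have hVT : V ≤ (T : Subgroup H) :=
    (LocalEven.isPGroup_elemAb hV).le_sylow_of_normal T
  have huA : u ∈ A := by
    refine LocalEven.mem_omegaZ (hVT huV) ?_ (hV.2 u huV)
    have h1 : b * u ∈ centralizer ((T : Subgroup H) : Set H) := (LocalEven.omegaZ_spec ha).2.1
    have h2 : b ∈ centralizer ((T : Subgroup H) : Set H) :=
      centralizer_le (SetLike.coe_subset_coe.mpr le_top) hbc
    simpa using mul_mem (inv_mem h2) h1
  have hxu : u * x = x * u := mem_centralizer_iff.mp hx u ⟨hu, huA⟩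
  have hxb : x * b = b * x := mem_centralizer_iff.mp hbc x (mem_top x)
  rw [mul_assoc, hxu, ← mul_assoc, ← hxb, mul_assoc]

end Cfsg.Agent.S2826
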