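import Cfsg.Statements.S2827
import Cfsg.Agent.Lib.LocalStr.Irreducible
-- import your own Cfsg.Agent.* helpers here

set_option autoImplicit false
open Cfsg

set_option autoImplicit false
set_option linter.style.haveILetI false

namespace Cfsg.Agent.S2827
open Subgroup CfsgLib CfsgLib.LocalStr
open CfsgLib.LocalEven (IsSylOf)
open scoped commutatorElement


/-- Let H be a finite p-irreducible group (not p-closed, and O^p(H) lies in every normal subgroup that is not p-closed) and T a Sylow p-subgroup. Then H is generated by the conjugates of T and H = H'·T; O^p(H) ≤ H'; and for every normal subgroup Y of T not contained in O_p(H), O^p(H) = [O^p(H), Y] and O^p(H) is contained in the normal closure of Y in H. -/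
theorem result {H : Type*} [Group H] [Finite H] {p : ℕ} [Fact p.Prime] (hH : Cfsg.IsPIrreducible p H) (T : Sylow p H) : Subgroup.normalClosure ((T : Subgroup H) : Set H) = ⊤ ∧ commutator H ⊔ (T : Subgroup H) = ⊤ ∧ Cfsg.pResidual p H ≤ commutator H ∧ ∀ Y : Subgroup H, Y ≤ (T : Subgroup H) → (T : Subgroup H) ≤ Subgroup.normalizer (Y : Set H) → ¬ Y ≤ Cfsg.pCore p H → ⁅Cfsg.pResidual p H, Y⁆ = Cfsg.pResidual p H ∧ Cfsg.pResidual p H ≤ Subgroup.normalClosure (Y : Set H) := by
  haveI := pResidual_normal H p
  refine ⟨IsPIrreducible.sylow_normalClosure hH T,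
    commutator_sup_eq_top_of_normalClosure (IsPIrreducible.sylow_normalClosure hH T),
    IsPIrreducible.pResidual_le_commutator hH, fun Y hYT hTY hY => ?_⟩
  have hRN := IsPIrreducible.pResidual_le_normalClosure hH (T.isPGroup'.to_le hYT) hY
  refine ⟨le_antisymm (commutator_le_left _ _) ?_, hRN⟩
  have hYn : Y ≤ normalizer ((⁅pResidual p H, Y⁆ : Subgroup H) : Set H) :=
    normalizer_commutator_ge_right _ _
  have hT : (T : Subgroup H) ≤ normalizer ((⁅pResidual p H, Y⁆ : Subgroup H) : Set H) :=
    le_normalizer_iff_map_le.mpr fun t ht => by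
      rw [map_commutator, map_conj_eq_iff.mpr (le_normalizer_of_normal (H := pResidual p H) (K := ⊤) trivial),
        map_conj_eq_iff.mpr (hTY ht)]
  have hn : (⁅pResidual p H, Y⁆ ⊔ Y).Normal := by
    refine normalizer_eq_top_iff.mp (top_le_iff.mp ?_)
    rw [← pResidual_sup_sylow T, sup_le_iff, le_normalizer_iff_commutator_le_right,
      le_normalizer_iff_commutator_le_right]
    constructor
    · refine le_normalizer_iff_commutator_le_right.mp ?_
      rw [le_normalizer_iff_map_le]
      intro r hr
      rw [Subgroup.map_sup]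
      refine sup_le ((mem_normalizer_iff_map_conj_eq.mp
        (normalizer_commutator_ge_left _ _ hr)).le.trans le_sup_left) ?_
      rintro x ⟨y, hy, rfl⟩
      show r * y * r⁻¹ ∈ _
      rw [show r * y * r⁻¹ = ⁅r, y⁆ * y by simp [commutatorElement_def]]
      exact mul_mem (mem_sup_left (commutator_mem_commutator hr hy)) (mem_sup_right hy)
    · refine le_normalizer_iff_commutator_le_right.mp ?_
      rw [le_normalizer_iff_map_le]
      intro t ht
      rw [Subgroup.map_sup]
      exact sup_le ((mem_normalizer_iff_map_conj_eq.mp (hT ht)).le.trans le_sup_left)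
        ((mem_normalizer_iff_map_conj_eq.mp (hTY ht)).le.trans le_sup_right)
  have hR : pResidual p H ≤ ⁅pResidual p H, Y⁆ ⊔ Y :=
    hRN.trans (normalClosure_le_normal (SetLike.coe_subset_coe.mpr le_sup_right))
  refine (pRes_top (G := H)).ge.trans (pRes_le_iff.mpr fun g hg hc => ?_)
  refine mem_of_mem_sup_pGroup (T.isPGroup'.to_le hYT) hYn (hR ?_) hc
  exact subset_closure hc

end Cfsg.Agent.S2827
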