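import Cfsg.Statements.S2828
import Cfsg.Agent.Lib.LocalStr.Irreducible
-- import your own Cfsg.Agent.* helpers here

set_option autoImplicit false
open Cfsg

set_option autoImplicit false
set_option linter.style.haveILetI false

namespace Cfsg.Agent.S2828
open Subgroup CfsgLib CfsgLib.LocalStr
open CfsgLib.LocalEven (IsSylOf)
open scoped commutatorElement


/-- Let H be a finite group, p a prime and D a normal p-subgroup of H. Then H is p-irreducible if and only if H/D is p-irreducible, and H is strongly p-irreducible if and only if H/D is strongly p-irreducible. -/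
theorem result {H : Type*} [Group H] [Finite H] {p : ℕ} [Fact p.Prime] (D : Subgroup H) [D.Normal] (hD : IsPGroup p ↥D) : (Cfsg.IsPIrreducible p H ↔ Cfsg.IsPIrreducible p (H ⧸ D)) ∧ (Cfsg.IsStronglyPIrreducible p H ↔ Cfsg.IsStronglyPIrreducible p (H ⧸ D)) := by
  set f := QuotientGroup.mk' D with hf
  have hfs : Function.Surjective f := QuotientGroup.mk'_surjective D
  have hker : IsPGroup p f.ker := by rwa [hf, QuotientGroup.ker_mk']
  have hcl : IsPClosed p H ↔ IsPClosed p (H ⧸ D) :=
    ⟨isPClosed_of_surjective hfs, isPClosed_of_quotient D hD⟩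
  have hN : ∀ N : Subgroup H, IsPClosed p ↥N ↔ IsPClosed p ↥(N.map f) := fun N =>
    ⟨isPClosed_of_surjective (f.subgroupMap_surjective N),
      isPClosed_of_ker_isPGroup (f.subgroupMap N) (by
        refine (hker.comap_of_injective N.subtype N.subtype_injective).to_le ?_
        intro x hx
        exact congrArg Subtype.val (show f.subgroupMap N x = 1 from hx))⟩
  have hR : ∀ N : Subgroup H, N.Normal → pResidual p (H ⧸ D) ≤ N.map f →
      pResidual p H ≤ N := by
    intro N hNn h
    rw [← map_pResidual_eq hfs, Subgroup.map_le_map_iff] at h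
    rw [← pRes_top]
    refine pRes_le_iff.mpr fun g hg hc => mem_of_mem_sup_pGroup hker
      (le_normalizer_of_normal) (h (subset_closure hc)) hc
  have hR' : ∀ N : Subgroup (H ⧸ D), pResidual p H ≤ N.comap f →
      pResidual p (H ⧸ D) ≤ N := by
    intro N h
    rw [← map_pResidual_eq hfs]
    exact map_le_iff_le_comap.mpr h
  refine ⟨and_congr (not_congr hcl) ⟨fun h N hNn hNc => hR' N ?_, fun h N hNn hNc => hR N hNn ?_⟩,
    and_congr (not_congr hcl) ⟨fun h N hNn hNc => hR' N ?_, fun h N hNn hNc => hR N hNn ?_⟩⟩
  · exact h _ (hNn.comap f) fun hc => hNc (by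
      have := (hN (N.comap f)).mp hc
      rwa [map_comap_eq_self_of_surjective hfs] at this)
  · exact h _ (hNn.map f hfs) fun hc => hNc ((hN N).mpr hc)
  · refine h _ (hNn.comap f) fun hle => hNc ?_
    calc ⁅N, (⊤ : Subgroup (H ⧸ D))⁆ = ⁅(N.comap f).map f, (⊤ : Subgroup H).map f⁆ := by
          rw [map_comap_eq_self_of_surjective hfs, map_top_of_surjective f hfs]
      _ = ⁅N.comap f, (⊤ : Subgroup H)⁆.map f := (map_commutator _ _ f).symm
      _ ≤ pCore p (H ⧸ D) := by
          rw [map_le_iff_le_comap, hf, pCore_quotient D hD]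
          exact hle
  · refine h _ (hNn.map f hfs) fun hle => hNc ?_
    rw [← map_top_of_surjective f hfs, ← map_commutator, map_le_iff_le_comap, hf,
      pCore_quotient D hD] at hle
    exact hle

end Cfsg.Agent.S2828
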