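import Cfsg.Statements.S2830
import Cfsg.Agent.Lib.LocalStr.Irreducible
-- import your own Cfsg.Agent.* helpers here

set_option autoImplicit false
open Cfsg

set_option autoImplicit false
set_option linter.style.haveILetI false

namespace Cfsg.Agent.S2830
open Subgroup CfsgLib CfsgLib.LocalStr
open CfsgLib.LocalEven (IsSylOf)
open scoped commutatorElement


/-- Let H act by conjugation on the elementary abelian p-subgroup V of a finite group G (H ≤ N(V)), with H p-irreducible and O^p(H) not centralizing V. Then C_H(V) is p-closed and C_T(V) ≤ O_p(H) for every p-subgroup T of H. If in addition O_p(H) centralizes V, then C_T(V) = T ∩ O_p(H) for every p-subgroup T of H, and V is p-reduced for H: O_p(H/C_H(V)) = 1. -/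
theorem result {G : Type*} [Group G] [Finite G] {p : ℕ} [Fact p.Prime] (V H : Subgroup G) (hV : Cfsg.IsElementaryAbelian p V) (hHV : H ≤ Subgroup.normalizer (V : Set G)) (hH : Cfsg.IsPIrreducible p ↥H) (hnc : ¬ (Cfsg.pResidual p ↥H).map H.subtype ≤ Subgroup.centralizer (V : Set G)) [hn : ((Subgroup.centralizer (V : Set G)).subgroupOf H).Normal] : Cfsg.IsPClosed p ↥(H ⊓ Subgroup.centralizer (V : Set G)) ∧ (∀ T : Subgroup G, T ≤ H → IsPGroup p ↥T → T ⊓ Subgroup.centralizer (V : Set G) ≤ Cfsg.pCoreOf p H) ∧ (Cfsg.pCoreOf p H ≤ Subgroup.centralizer (V : Set G) → (∀ T : Subgroup G, T ≤ H → IsPGroup p ↥T → T ⊓ Subgroup.centralizer (V : Set G) = T ⊓ Cfsg.pCoreOf p H) ∧ Cfsg.pCore p (↥H ⧸ (Subgroup.centralizer (V : Set G)).subgroupOf H) = ⊥) := by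
  set C := (centralizer (V : Set G)).subgroupOf H with hC
  have hCc : IsPClosed p ↥C := by
    by_contra h
    refine hnc ((map_mono (hH.2 C hn h)).trans ?_)
    rintro x ⟨y, hy, rfl⟩
    exact hy
  have hTC : ∀ T : Subgroup G, T ≤ H → IsPGroup p ↥T →
      T ⊓ centralizer (V : Set G) ≤ pCoreOf p H := by
    intro T hTH hT
    have h1 : (T ⊓ centralizer (V : Set G)).subgroupOf H ≤ pCore p H :=
      le_pCore_of_le_pClosed hCc (comap_mono inf_le_right)
        ((hT.to_le inf_le_left).of_equiv (subgroupOfEquivOfLe (inf_le_left.trans hTH)).symm)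
    rw [← map_subgroupOf_eq_of_le (inf_le_left.trans hTH : T ⊓ centralizer (V : Set G) ≤ H)]
    exact map_mono h1
  refine ⟨isPClosed_of_injective
    (f := ((inclusion (inf_le_left : H ⊓ centralizer (V : Set G) ≤ H)).codRestrict C
      fun x => mem_subgroupOf.mpr x.2.2)) ?_ hCc, hTC, fun hO => ⟨fun T hTH hT => ?_, ?_⟩⟩
  · intro a b hab
    exact inclusion_injective _ (congrArg Subtype.val hab)
  · exact le_antisymm (le_inf inf_le_left (hTC T hTH hT)) (le_inf inf_le_left (inf_le_right.trans hO))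
  · set D := (pCore p (↥H ⧸ C)).comap (QuotientGroup.mk' C) with hD
    have hCD : C ≤ D := by
      intro x hx
      show (QuotientGroup.mk' C x) ∈ pCore p (↥H ⧸ C)
      rw [QuotientGroup.mk'_apply, (QuotientGroup.eq_one_iff x).mpr hx]
      exact one_mem _
    have hpw : ∀ x ∈ D, ∃ k : ℕ, x ^ p ^ k ∈ C := by
      intro x hx
      obtain ⟨k, hk⟩ := Components.isPGroup_pCore (G := ↥H ⧸ C) p ⟨_, hx⟩
      exact ⟨k, (QuotientGroup.eq_one_iff _).mp (by simpa using congrArg Subtype.val hk)⟩
    have hDc : IsPClosed p ↥D := by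
      by_contra h
      refine hnc ?_
      show pRes p H ≤ _
      refine pRes_le_iff.mpr fun g hg hc => ?_
      have hgD : (⟨g, hg⟩ : H) ∈ D := hH.2 D inferInstance h (subset_closure (by rwa [Set.mem_setOf_eq, orderOf_mk]))
      obtain ⟨k, hk⟩ := hpw _ hgD
      exact coprime_of_mem_pRes_of_pGroup (k := k) hc hk
    have hpc : pCore p ↥H ≤ C := fun x hx => hO ⟨x, hx, rfl⟩
    have hDC : D ≤ C := fun x hx => by
      obtain ⟨k, hk⟩ := hpw x hx
      refine mem_of_forall_pElement (fun m hm => hpc ?_) hk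
      exact le_pCore_of_le_pClosed hDc (zpowers_le.mpr (pow_mem hx m)) hm (mem_zpowers _)
    refine (eq_bot_iff_forall _).mpr fun q hq => ?_
    obtain ⟨x, rfl⟩ := QuotientGroup.mk'_surjective C q
    exact (QuotientGroup.eq_one_iff x).mpr (hDC hq)

end Cfsg.Agent.S2830
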