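import Cfsg.Statements.S2831
import Cfsg.Agent.Lib.LocalStr.Irreducible
-- import your own Cfsg.Agent.* helpers here

set_option autoImplicit false
open Cfsg

set_option autoImplicit false
set_option linter.style.haveILetI false

namespace Cfsg.Agent.S2831
open Subgroup CfsgLib CfsgLib.LocalStr
open CfsgLib.LocalEven (IsSylOf)
open scoped commutatorElement


/-- Let H be a finite group with Sylow p-subgroup T such that H is T-minimal (H is generated by the conjugates of T and T lies in exactly one maximal subgroup of H). Then H is p-irreducible: H is not p-closed and O^p(H) lies in every normal subgroup of H that is not p-closed. -/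
theorem result {H : Type*} [Group H] [Finite H] {p : ℕ} [Fact p.Prime] (T : Sylow p H) (hmin : Cfsg.IsMinimalOver (T : Subgroup H)) : Cfsg.IsPIrreducible p H := by
  obtain ⟨hgen, M, ⟨hM, hTM⟩, huniq⟩ := hmin
  have hTnn : ¬ (T : Subgroup H).Normal := fun h => hM.1 (top_le_iff.mp (by
    rw [← hgen]
    exact (normalClosure_le_normal (le_refl _)).trans hTM))
  refine ⟨fun h => hTnn (h T), fun N hN hNc => ?_⟩
  haveI := hN
  have hover : ∀ X : Subgroup H, (T : Subgroup H) ≤ X → X ≠ ⊤ → X ≤ M := by
    intro X hX hne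
    obtain ⟨Y, hY, hXY⟩ := (eq_top_or_exists_le_coatom X).resolve_left hne
    exact huniq Y ⟨hY, hX.trans hXY⟩ ▸ hXY
  have hP := inf_isSylOf (N := N) (sylow_isSylOf_top T)
  obtain ⟨S, hS⟩ := hP.exists_sylow
  have hfr := Sylow.normalizer_sup_eq_top S
  rw [← hS] at hfr
  have hne : normalizer (((T : Subgroup H) ⊓ N : Subgroup H) : Set H) ≠ ⊤ := by
    intro h
    haveI : ((T : Subgroup H) ⊓ N).Normal := normalizer_eq_top_iff.mp h
    refine hNc ((sylow_le_pCore_iff S).mp ?_)
    have h1 := pCoreOf_inf_le (p := p) (K := N) (H := (⊤ : Subgroup H)) le_top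
    intro x hx
    have h2 : (x : H) ∈ pCoreOf p N := h1 ⟨by
      rw [pCoreOf_top]
      exact Components.le_pCore_of_normal inferInstance (T.isPGroup'.to_le inf_le_left)
        (hS.ge (mem_map_of_mem _ hx)), x.2⟩
    exact (mem_pCoreOf x.2).mp h2
  have hTP : (T : Subgroup H) ≤ normalizer (((T : Subgroup H) ⊓ N : Subgroup H) : Set H) :=
    fun t ht => mem_normalizer_iff.mpr fun h => and_congr
      (mem_normalizer_iff.mp (le_normalizer ht) h)
      (mem_normalizer_iff.mp (normalizer_eq_top (H := N) ▸ mem_top t : t ∈ normalizer (N : Set H)) h)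
  have hNT : N ⊔ (T : Subgroup H) = ⊤ := by
    by_contra h
    refine hM.1 (top_le_iff.mp ?_)
    rw [← hfr]
    exact sup_le (hover _ hTP hne) (le_sup_left.trans (hover _ le_sup_right h))
  rw [← pRes_top]
  refine pRes_le_iff.mpr fun g hg hc => ?_
  exact mem_of_mem_sup_pGroup T.isPGroup' le_normalizer_of_normal (hNT ▸ hg) hc

end Cfsg.Agent.S2831
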