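import Cfsg.Statements.S2832
import Cfsg.Agent.Lib.LocalStr.Irreducible
-- import your own Cfsg.Agent.* helpers here

set_option autoImplicit false
open Cfsg

set_option autoImplicit false
set_option linter.style.haveILetI false

namespace Cfsg.Agent.S2832
open Subgroup CfsgLib CfsgLib.LocalStr
open CfsgLib.LocalEven (IsSylOf)
open scoped commutatorElement


/-- Let H be a finite group with Sylow p-subgroup T such that H is T-minimal (generated by the conjugates of T, with T in exactly one maximal subgroup), and let N be a normal subgroup of H. Then either H/N is a p-group or H/N is minimal over the image of T in the same sense. -/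
theorem result {H : Type*} [Group H] [Finite H] {p : ℕ} [Fact p.Prime] (T : Sylow p H) (hmin : Cfsg.IsMinimalOver (T : Subgroup H)) (N : Subgroup H) [N.Normal] : IsPGroup p (H ⧸ N) ∨ Cfsg.IsMinimalOver ((T : Subgroup H).map (QuotientGroup.mk' N)) := by
  obtain ⟨hgen, M, ⟨hM, hTM⟩, huniq⟩ := hmin
  set f := QuotientGroup.mk' N with hf
  have hfs : Function.Surjective f := QuotientGroup.mk'_surjective N
  by_cases hNM : N ≤ M
  · right
    have hcm : (M.map f).comap f = M := by
      rw [comap_map_eq, hf, QuotientGroup.ker_mk', sup_eq_left.mpr hNM]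
    refine ⟨?_, M.map f, ⟨⟨fun h => hM.1 ?_, fun b hb => ?_⟩, map_mono hTM⟩, fun M' hM' => ?_⟩
    · rw [coe_map, ← map_normalClosure _ _ hfs, hgen, map_top_of_surjective f hfs]
    · rw [← hcm, h, comap_top]
    · have h1 : M < b.comap f := by
        rw [← hcm]
        exact (comap_lt_comap_of_surjective hfs).mpr hb
      rw [← map_comap_eq_self_of_surjective hfs b, hM.2 _ h1, map_top_of_surjective f hfs]
    · rw [← map_comap_eq_self_of_surjective hfs M', huniq (M'.comap f)
        ⟨isCoatom_comap_of_surjective hfs hM'.1, map_le_iff_le_comap.mp hM'.2⟩]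
  · left
    refine isPGroup_quotient_of_sup_eq_top T.isPGroup' ?_
    by_contra h
    obtain ⟨Y, hY, hXY⟩ := (eq_top_or_exists_le_coatom _).resolve_left h
    exact hNM (huniq Y ⟨hY, le_sup_right.trans hXY⟩ ▸ le_sup_left.trans hXY)

end Cfsg.Agent.S2832
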