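import Cfsg.Statements.S2833
import Mathlib.Tactic.Group
-- import your own Cfsg.Agent.* helpers here

set_option autoImplicit false
open Cfsg

set_option autoImplicit false
set_option linter.style.haveILetI false

namespace Cfsg.Agent.S2833
open Subgroup
open scoped commutatorElement

/-- Let V be a subgroup of a finite group G normalized by the subgroup L, let X ≤ L and g ∈ L with [V, X, X] = 1 and L generated by X and gXg⁻¹. Put W = [V, L]. Then W = [V, X]·[V, gXg⁻¹], C_W(X) = [V, X], and C_W(L) = [V, X] ∩ [V, gXg⁻¹]. -/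
theorem result {G : Type*} [Group G] [Finite G] (V L : Subgroup G) (hLV : L ≤ Subgroup.normalizer (V : Set G)) (X : Subgroup G) (hX : X ≤ L) (g : G) (hg : g ∈ L) (hq : ⁅⁅V, X⁆, X⁆ = ⊥) (hgen : X ⊔ X.map (MulAut.conj g).toMonoidHom = L) (W : Subgroup G) (hW : W = ⁅V, L⁆) : ⁅V, X⁆ ⊔ ⁅V, X.map (MulAut.conj g).toMonoidHom⁆ = W ∧ W ⊓ Subgroup.centralizer (X : Set G) = ⁅V, X⁆ ∧ W ⊓ Subgroup.centralizer (L : Set G) = ⁅V, X⁆ ⊓ ⁅V, X.map (MulAut.conj g).toMonoidHom⁆ := by
  set c := (MulAut.conj g).toMonoidHom with hc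
  set X' := X.map c with hX'
  have hgV : g ∈ normalizer (V : Set G) := hLV hg
  have hVmap : V.map c = V := mem_normalizer_iff_map_conj_eq.mp hgV
  have hX'L : X' ≤ L := hgen ▸ le_sup_right
  have hB : ⁅V, X⁆.map c = ⁅V, X'⁆ := by rw [map_commutator, hVmap]
  have hAW : ⁅V, X⁆ ≤ W := hW ▸ commutator_mono le_rfl hX
  have hBW : ⁅V, X'⁆ ≤ W := hW ▸ commutator_mono le_rfl hX'L
  have hVA : ∀ Y : Subgroup G, Y ≤ L → ⁅V, Y⁆ ≤ V := fun Y hY =>
    le_normalizer_iff_commutator_le_left.mp (hY.trans hLV)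
  have hAc : ⁅V, X⁆ ≤ centralizer (X : Set G) := commutator_eq_bot_iff_le_centralizer.mp hq
  have hBc : ⁅V, X'⁆ ≤ centralizer (X' : Set G) := by
    refine commutator_eq_bot_iff_le_centralizer.mp ?_
    rw [← hB, hX', ← map_commutator, hq, Subgroup.map_bot]
  -- `X` and `X'` normalise the product
  set D := ⁅V, X⁆ ⊔ ⁅V, X'⁆ with hD
  have hDV : D ≤ V := sup_le (hVA X hX) (hVA X' hX'L)
  have hXD : ∀ Y : Subgroup G, ⁅V, Y⁆ ≤ D → Y ≤ normalizer (D : Set G) := by
    intro Y hY
    rw [le_normalizer_iff_commutator_le_right]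
    refine (commutator_mono le_rfl hDV).trans ?_
    rwa [commutator_comm]
  have hLD : L ≤ normalizer (D : Set G) :=
    hgen ▸ sup_le (hXD X le_sup_left) (hXD X' le_sup_right)
  have hWD : W ≤ D := by
    rw [hW, commutator_le]
    intro v hv l hl
    rw [← hgen, ← closure_eq X, ← closure_eq X', ← closure_union] at hl
    suffices h : l ∈ normalizer (D : Set G) ∧ ⁅v, l⁆ ∈ D from h.2
    induction hl using closure_induction with
    | mem y hy =>
      rcases hy with hy | hy
      · exact ⟨hLD (hX hy), mem_sup_left (commutator_mem_commutator hv hy)⟩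
      · exact ⟨hLD (hX'L hy), mem_sup_right (commutator_mem_commutator hv hy)⟩
    | one => exact ⟨one_mem _, by simp⟩
    | mul a b _ _ ha hb =>
      refine ⟨mul_mem ha.1 hb.1, ?_⟩
      rw [commutatorElement_mul_right_eq_mul_conj,
        show ⁅v, a⁆ * a * ⁅v, b⁆ * a⁻¹ = ⁅v, a⁆ * (a * ⁅v, b⁆ * a⁻¹) by group]
      exact D.mul_mem ha.2 ((mem_normalizer_iff.mp ha.1 _).mp hb.2)
    | inv a _ ha =>
      refine ⟨inv_mem ha.1, ?_⟩
      rw [commutatorElement_inv_right]
      refine (mem_normalizer_iff''.mp ha.1 _).mp ?_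
      rw [← commutatorElement_inv]
      exact D.inv_mem ha.2
  have hWeq : D = W := le_antisymm (sup_le hAW hBW) hWD
  have hVnA : V ≤ normalizer ((⁅V, X⁆ : Subgroup G) : Set G) := normalizer_commutator_ge_left V X
  have hfix : ∀ w ∈ W, w ∈ centralizer (X : Set G) → w ∈ ⁅V, X⁆ := by
    intro w hw hwX
    have hw' : w ∈ (↑(⁅V, X⁆ ⊔ ⁅V, X'⁆) : Set G) := hWD hw
    rw [coe_mul_of_right_le_normalizer_left _ _ ((hVA X' hX'L).trans hVnA)] at hw'
    obtain ⟨a, ha, b, hb, rfl⟩ := Set.mem_mul.mp hw'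
    have hbX : b ∈ centralizer (X : Set G) := by
      have := (centralizer (X : Set G)).mul_mem (inv_mem (hAc ha)) hwX
      simpa using this
    have hbL : L ≤ centralizer ({b} : Set G) := by
      rw [← hgen]
      refine sup_le (fun x hx => ?_) (fun x hx => ?_)
      · exact mem_centralizer_singleton_iff.mpr (mem_centralizer_iff.mp hbX x hx)
      · exact mem_centralizer_singleton_iff.mpr (mem_centralizer_iff.mp (hBc hb) x hx)
    have hgb := mem_centralizer_singleton_iff.mp (hbL hg)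
    obtain ⟨a', ha', hab⟩ : b ∈ ⁅V, X⁆.map c := hB ▸ hb
    have : a' = b := by
      have h1 : g * a' * g⁻¹ = b := hab
      calc a' = g⁻¹ * (g * a' * g⁻¹) * g := by group
        _ = g⁻¹ * (g * b) := by rw [h1, hgb]; group
        _ = b := by group
    exact mul_mem ha (this ▸ ha')
  refine ⟨hWeq, le_antisymm (fun w hw => hfix w hw.1 hw.2) (le_inf hAW hAc), ?_⟩
  refine le_antisymm ?_ ?_
  · intro w hw
    refine ⟨hfix w hw.1 (centralizer_le (by exact_mod_cast hX) hw.2), ?_⟩
    have hw1 := hfix (g⁻¹ * w * g) ?_ ?_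
    · rw [← hB]
      exact ⟨_, hw1, by simp [hc, mul_assoc]⟩
    · have h1 : g * w = w * g := mem_centralizer_iff.mp hw.2 g hg
      rw [mul_assoc, ← h1, inv_mul_cancel_left]
      exact hw.1
    · have h1 : g * w = w * g := mem_centralizer_iff.mp hw.2 g hg
      rw [mul_assoc, ← h1, inv_mul_cancel_left]
      exact centralizer_le (by exact_mod_cast hX) hw.2
  · intro w hw
    refine ⟨hAW hw.1, ?_⟩
    rw [← hgen]
    refine mem_centralizer_iff.mpr fun x hx => ?_
    exact mem_centralizer_singleton_iff.mp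
      ((sup_le (fun y hy => mem_centralizer_singleton_iff.mpr
          (mem_centralizer_iff.mp (hAc hw.1) y hy))
        (fun y hy => mem_centralizer_singleton_iff.mpr
          (mem_centralizer_iff.mp (hBc hw.2) y hy)) : X ⊔ X' ≤ centralizer ({w} : Set G)) hx)

end Cfsg.Agent.S2833
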