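import Cfsg.Statements.S2835
import Cfsg.Agent.Lib.LocalStr.Irreducible
import Mathlib.Tactic.Group
import Mathlib.Tactic.Ring
-- import your own Cfsg.Agent.* helpers here

set_option autoImplicit false
open Cfsg

set_option autoImplicit false
set_option linter.style.haveILetI false

namespace Cfsg.Agent.S2835
open Subgroup CfsgLib CfsgLib.LocalStr
open CfsgLib.LocalEven (IsSylOf)
open scoped commutatorElement


/-- Let L be a finite group, L₀ a maximal subgroup, T a Sylow p-subgroup of L₀ and Y ≤ T, and suppose L is Y-minimal (generated by the conjugates of Y, with Y in exactly one maximal subgroup, necessarily L₀). Then N_L(T) ≤ L₀, O_p(L) ≤ L₀ and T is a Sylow p-subgroup of L; N_L(L₀) = L₀; L = ⟨Y, gYg⁻¹⟩ for each g ∈ L outside L₀; and if Y is abelian then Y ∩ gYg⁻¹ = C_Y(L) for each such g. -/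
theorem result {L : Type*} [Group L] [Finite L] {p : ℕ} [Fact p.Prime] (L₀ : Subgroup L) (hL₀ : IsCoatom L₀) (T : Sylow p ↥L₀) (Y : Subgroup L) (hYT : Y ≤ (T : Subgroup ↥L₀).map L₀.subtype) (hmin : Cfsg.IsMinimalOver Y) : Subgroup.normalizer (((T : Subgroup ↥L₀).map L₀.subtype : Subgroup L) : Set L) ≤ L₀ ∧ Cfsg.pCore p L ≤ L₀ ∧ (∃ P : Sylow p L, (P : Subgroup L) = (T : Subgroup ↥L₀).map L₀.subtype) ∧ Subgroup.normalizer (L₀ : Set L) = L₀ ∧ (∀ g : L, g ∉ L₀ → Y ⊔ Y.map (MulAut.conj g).toMonoidHom = ⊤) ∧ (IsMulCommutative ↥Y → ∀ g : L, g ∉ L₀ → Y ⊓ Y.map (MulAut.conj g).toMonoidHom = Y ⊓ Subgroup.center L) := by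
  obtain ⟨hgen, M, hM, huniq⟩ := hmin
  set T' := (T : Subgroup ↥L₀).map L₀.subtype with hT'
  have hT'L : T' ≤ L₀ := map_subtype_le _
  have hYL : Y ≤ L₀ := hYT.trans hT'L
  have hover : ∀ X : Subgroup L, Y ≤ X → X ≠ ⊤ → X ≤ L₀ := by
    intro X hX hne
    obtain ⟨Z, hZ, hXZ⟩ := (eq_top_or_exists_le_coatom X).resolve_left hne
    rwa [(huniq Z ⟨hZ, hX.trans hXZ⟩).trans (huniq L₀ ⟨hL₀, hYL⟩).symm] at hXZ
  have hnoN : ∀ X : Subgroup L, X.Normal → Y ≤ X → X = ⊤ := fun X hX hYX =>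
    top_le_iff.mp (hgen ▸ normalClosure_le_normal (SetLike.coe_subset_coe.mpr hYX))
  have hNT : normalizer (T' : Set L) ≤ L₀ := by
    refine hover _ (hYT.trans le_normalizer) fun h => hL₀.1 (top_le_iff.mp ?_)
    rw [← hnoN T' (normalizer_eq_top_iff.mp h) hYT]
    exact hT'L
  have hTs : IsSylOf p T' L₀ := LocalEven.Sylow.isSylOf T
  obtain ⟨P, hP⟩ : ∃ P : Sylow p L, T' ≤ P := hTs.isPGroup.exists_le_sylow
  have hPT : (P : Subgroup L) = T' := by
    refine le_antisymm ?_ hP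
    by_contra hlt
    haveI := P.isPGroup'.isNilpotent
    have hne : T'.subgroupOf (P : Subgroup L) < ⊤ :=
      lt_top_iff_ne_top.mpr fun h => hlt (subgroupOf_eq_top.mp h)
    obtain ⟨x, hxn, hx⟩ := SetLike.exists_of_lt (Group.normalizerCondition_of_isNilpotent _ hne)
    have hxN : (x : L) ∈ normalizer (T' : Set L) := by
      refine map_conj_eq_iff.mp (le_antisymm ?_ ?_) <;>
      · intro z hz
        first
        | (obtain ⟨t, ht, rfl⟩ := hz
           exact (mem_normalizer_iff.mp hxn ⟨t, hP ht⟩).mp ht)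
        | exact ⟨(x : L)⁻¹ * z * x, (mem_normalizer_iff''.mp hxn ⟨z, hP hz⟩).mp hz,
            by simp [mul_assoc]⟩
    have hsup := hTs.of_isPGroup_ge (P := T' ⊔ zpowers (x : L))
      (P.isPGroup'.to_le (sup_le hP (zpowers_le.mpr x.2))) le_sup_left
      (sup_le hT'L (zpowers_le.mpr (hNT hxN)))
    exact hx (hsup ▸ mem_sup_right (mem_zpowers (x : L)))
  have hNL : normalizer (L₀ : Set L) = L₀ := by
    refine le_antisymm (fun g hg => ?_) le_normalizer
    by_contra hgL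
    refine hL₀.1 (hnoN L₀ (normalizer_eq_top_iff.mp ?_) hYL)
    exact hL₀.2 _ (lt_of_le_of_ne le_normalizer fun h => hgL (h ▸ hg))
  have hgen2 : ∀ g : L, g ∉ L₀ → Y ⊔ Y.map (MulAut.conj g).toMonoidHom = ⊤ := by
    intro g hg
    by_contra h
    have hle := (le_sup_right.trans (hover _ le_sup_left h) :
      Y.map (MulAut.conj g).toMonoidHom ≤ L₀)
    have h2 : Y ≤ L₀.map (MulAut.conj g⁻¹).toMonoidHom := by
      rw [← map_conj_inv_conj g Y]
      exact map_mono hle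
    have h3 : IsCoatom (L₀.map (MulAut.conj g⁻¹).toMonoidHom) :=
      (OrderIso.isCoatom_iff ((MulAut.conj g⁻¹).mapSubgroup) L₀).mpr hL₀
    have h4 := map_conj_eq_iff.mp ((huniq _ ⟨h3, h2⟩).trans (huniq L₀ ⟨hL₀, hYL⟩).symm)
    rw [hNL] at h4
    exact hg (inv_inv g ▸ inv_mem h4)
  refine ⟨hNT, ?_, ⟨P, hPT⟩, hNL, hgen2, fun hab g hg => le_antisymm ?_ ?_⟩
  · exact (((Components.isPGroup_pCore p).le_sylow_of_normal P).trans hPT.le).trans hT'L
  · intro z hz
    refine ⟨hz.1, mem_center_iff.mpr fun w => ?_⟩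
    have hcz : Y ⊔ Y.map (MulAut.conj g).toMonoidHom ≤ centralizer ({z} : Set L) := by
      refine sup_le (fun y hy => ?_) ?_
      · refine mem_centralizer_singleton_iff.mpr ?_
        exact congrArg Subtype.val (hab.is_comm.comm ⟨y, hy⟩ ⟨z, hz.1⟩)
      · rintro _ ⟨y, hy, rfl⟩
        obtain ⟨y', hy', rfl⟩ := hz.2
        refine mem_centralizer_singleton_iff.mpr ?_
        show MulAut.conj g y * MulAut.conj g y' = MulAut.conj g y' * MulAut.conj g y
        rw [← map_mul, ← map_mul, show y * y' = y' * y from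
          congrArg Subtype.val (hab.is_comm.comm ⟨y, hy⟩ ⟨y', hy'⟩)]
    rw [hgen2 g hg] at hcz
    exact mem_centralizer_singleton_iff.mp (hcz (mem_top w))
  · intro z hz
    refine ⟨hz.1, z, hz.1, ?_⟩
    show g * z * g⁻¹ = z
    rw [mem_center_iff.mp hz.2 g, mul_inv_cancel_right]

end Cfsg.Agent.S2835
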