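import Cfsg.Statements.S2836
import Cfsg.Agent.S2835
import Cfsg.Agent.Lib.LocalStr.Irreducible
import Cfsg.Agent.Lib.Solvable.CoprimeAction

set_option autoImplicit false
open Cfsg

namespace Cfsg.Agent.S2836

open Subgroup CfsgLib CfsgLib.LocalStr
open CfsgLib.LocalEven (IsSylOf)

/-- Let L be a finite group, L₀ a maximal subgroup, T a Sylow p-subgroup of L₀, Y ≤ T, and suppose L is Y-minimal. Let D be the intersection of the conjugates of L₀ (the core of L₀). Then D contains O_p(L) and D/O_p(L) is the Frattini subgroup of L/O_p(L), so D is p-closed; and every normal subgroup N of L contained in L₀ is p-closed with N/O_p(N) a nilpotent group of order prime to p. -/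
theorem result {L : Type*} [Group L] [Finite L] {p : ℕ} [Fact p.Prime] (L₀ : Subgroup L) (hL₀ : IsCoatom L₀) (T : Sylow p ↥L₀) (Y : Subgroup L) (hYT : Y ≤ (T : Subgroup ↥L₀).map L₀.subtype) (hmin : Cfsg.IsMinimalOver Y) : (Cfsg.pCore p L ≤ L₀.normalCore ∧ (L₀.normalCore).map (QuotientGroup.mk' (Cfsg.pCore p L)) = frattini (L ⧸ Cfsg.pCore p L) ∧ Cfsg.IsPClosed p ↥(L₀.normalCore)) ∧ ∀ (N : Subgroup L) [N.Normal], N ≤ L₀ → Cfsg.IsPClosed p ↥N ∧ Group.IsNilpotent (↥N ⧸ Cfsg.pCore p ↥N) ∧ (Nat.card (↥N ⧸ Cfsg.pCore p ↥N)).Coprime p := by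
  obtain ⟨-, hOp, ⟨P, hPT⟩, -, -, -⟩ := Cfsg.Agent.S2835.result L₀ hL₀ T Y hYT hmin
  have hYL : Y ≤ L₀ := hYT.trans (map_subtype_le _)
  have hYP : Y ≤ (P : Subgroup L) := hYT.trans hPT.ge
  have hYp : IsPGroup p Y := P.isPGroup'.to_le hYP
  have hover : ∀ X : Subgroup L, Y ≤ X → X ≠ ⊤ → X ≤ L₀ := by
    intro X hX hne
    obtain ⟨M, -, huniq⟩ := hmin.2
    obtain ⟨Z, hZ, hXZ⟩ := (eq_top_or_exists_le_coatom X).resolve_left hne
    rwa [(huniq Z ⟨hZ, hX.trans hXZ⟩).trans (huniq L₀ ⟨hL₀, hYL⟩).symm] at hXZ
  -- normal subgroups inside `L₀`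
  have main : ∀ (N : Subgroup L) [N.Normal], N ≤ L₀ →
      IsPClosed p ↥N ∧ Group.IsNilpotent (↥N ⧸ pCore p ↥N) ∧
        (Nat.card (↥N ⧸ pCore p ↥N)).Coprime p := by
    intro N _ hN
    obtain ⟨S, hS⟩ := (inf_isSylOf (N := N) (sylow_isSylOf_top P)).exists_sylow
    have hTn : (P : Subgroup L) ⊓ N = ((S : Subgroup N).map N.subtype) := hS
    set R := (P : Subgroup L) ⊓ N with hR
    have hRn : R.Normal := by
      refine normalizer_eq_top_iff.mp ?_
      by_contra hne
      have h2 : normalizer (R : Set L) ≤ L₀ := by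
        refine hover _ (hYP.trans fun x hx => ?_) hne
        exact inf_normalizer_le_normalizer_inf
          ⟨le_normalizer hx, le_normalizer_of_normal (mem_top x)⟩
      have h3 := Sylow.normalizer_sup_eq_top S
      rw [← hTn] at h3
      exact hL₀.1 (top_le_iff.mp (h3 ▸ sup_le h2 hN))
    have hSn : (S : Subgroup N).Normal := by
      rw [← comap_map_eq_self_of_injective N.subtype_injective (S : Subgroup N), ← hTn]
      infer_instance
    have hcl := isPClosed_of_normal S hSn
    have hcore : pCore p ↥N = (S : Subgroup N) :=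
      le_antisymm ((Components.isPGroup_pCore p).le_sylow_of_normal S) ((sylow_le_pCore_iff S).mpr hcl)
    have hcop : (Nat.card (↥N ⧸ pCore p ↥N)).Coprime p := by
      rw [← index_eq_card, hcore]
      exact (((Fact.out : p.Prime).coprime_iff_not_dvd).mpr S.not_dvd_index).symm
    refine ⟨hcl, ?_, hcop⟩
    set f := QuotientGroup.mk' R with hf
    set g : ↥N →* L ⧸ R := f.comp N.subtype with hg
    have hker : pCore p ↥N = g.ker := by
      rw [hg, ← MonoidHom.comap_ker, hf, QuotientGroup.ker_mk', hcore, hTn,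
        comap_map_eq_self_of_injective N.subtype_injective]
    let e : (↥N ⧸ pCore p ↥N) ≃* g.range :=
      (QuotientGroup.quotientMulEquivOfEq hker).trans (QuotientGroup.quotientKerEquivRange g)
    suffices h : Group.IsNilpotent g.range from Group.nilpotent_of_mulEquiv e.symm
    have hK : g.range = N.map f := by rw [hg, MonoidHom.range_comp, range_subtype]
    have hKn : g.range.Normal := hK ▸ (inferInstance : N.Normal).map f (QuotientGroup.mk'_surjective R)
    refine (Group.isNilpotent_of_finite_tfae.out 3 0 rfl rfl).mp fun r hr U => ?_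
    set A := Y.map f with hA
    have hAp : IsPGroup p A := hYp.map f
    have hcA : (Nat.card A).Coprime (Nat.card g.range) := by
      obtain ⟨k, hk⟩ := hAp.exists_card_eq
      rw [hk, ← Nat.card_congr e.toEquiv]
      exact (hcop.symm).pow_left k
    have hAK : A ≤ normalizer (g.range : Set (L ⧸ R)) := le_normalizer_of_normal
    obtain ⟨U₀, hU₀⟩ := Solvable.exists_invariant_sylow hAK hcA
      (Or.inl (by have := hAp.isNilpotent; infer_instance)) r
    have htop : normalizer ((((U₀ : Subgroup g.range).map g.range.subtype : Subgroup (L ⧸ R))) :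
        Set (L ⧸ R)) = ⊤ := by
      have h1 := Sylow.normalizer_sup_eq_top U₀
      set X := normalizer ((((U₀ : Subgroup g.range).map g.range.subtype : Subgroup (L ⧸ R))) :
        Set (L ⧸ R)) with hX
      by_contra hne
      have hX1 : X.comap f ≠ ⊤ := fun h => hne (by
        rw [← map_comap_eq_self_of_surjective (QuotientGroup.mk'_surjective R) X, ← hf, h, hf,
          map_top_of_surjective _ (QuotientGroup.mk'_surjective R)])
      have hX2 := hover _ (map_le_iff_le_comap.mp hU₀) hX1
      have h2 : (⊤ : Subgroup (L ⧸ R)) ≤ L₀.map f := by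
        rw [← h1]
        refine sup_le ?_ (hK ▸ map_mono hN)
        rw [← map_comap_eq_self_of_surjective (QuotientGroup.mk'_surjective R) X]
        exact map_mono hX2
      refine hL₀.1 (top_le_iff.mp ?_)
      have h3 := comap_mono (f := f) h2
      rw [comap_top, comap_map_eq, hf, QuotientGroup.ker_mk'] at h3
      exact h3.trans (sup_le le_rfl (inf_le_right.trans hN))
    have hU₀n : (U₀ : Subgroup g.range).Normal := by
      rw [← comap_map_eq_self_of_injective g.range.subtype_injective (U₀ : Subgroup g.range)]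
      exact (normalizer_eq_top_iff.mp htop).comap _
    haveI := Sylow.unique_of_normal U₀ hU₀n
    rw [Subsingleton.elim U U₀]
    exact hU₀n
  refine ⟨?_, main⟩
  -- the core of `L₀`
  set O := pCore p L with hO
  set D := L₀.normalCore with hD
  have hOD : O ≤ D := normal_le_normalCore.mpr hOp
  obtain ⟨hDc, -, -⟩ := main D L₀.normalCore_le
  refine ⟨hOD, ?_, hDc⟩
  set f := QuotientGroup.mk' O with hf
  have hsurj : Function.Surjective f := QuotientGroup.mk'_surjective O
  have hcomap : ∀ X : Subgroup L, O ≤ X → (X.map f).comap f = X := fun X hX => by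
    rw [comap_map_eq, hf, QuotientGroup.ker_mk', sup_eq_left.mpr hX]
  have hidx : ¬ p ∣ O.relIndex D := by
    intro h
    obtain ⟨S, hS⟩ := (inf_isSylOf (N := D) (sylow_isSylOf_top P)).exists_sylow
    have hSO : (P : Subgroup L) ⊓ D ≤ O :=
      le_pCore_of_le_pClosed hDc inf_le_right (P.isPGroup'.to_le inf_le_left)
    have h2 : ((P : Subgroup L) ⊓ D).relIndex D = (S : Subgroup D).index := by
      rw [hS, relIndex, subgroupOf, comap_map_eq_self_of_injective D.subtype_injective]
    exact S.not_dvd_index (h2 ▸ h.trans (relIndex_dvd_of_le_left D hSO))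
  refine le_antisymm ?_ ?_
  · rw [map_le_iff_le_comap]
    show D ≤ (frattini (L ⧸ O)).comap f
    rw [frattini, Order.radical, comap_iInf]
    refine le_iInf fun X => ?_
    rw [comap_iInf]
    refine le_iInf fun hX => ?_
    set M := X.comap f with hM
    have hMc : IsCoatom M := isCoatom_comap_of_surjective hsurj hX
    have hOM : O ≤ M := by
      intro x hx
      rw [hM, mem_comap, hf, QuotientGroup.mk'_apply, (QuotientGroup.eq_one_iff x).mpr hx]
      exact one_mem _
    by_contra hDM
    have hMD : M ⊔ D = ⊤ := hMc.2 _ (left_lt_sup.mpr hDM)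
    have h1 : (M ⊓ D).relIndex D = M.index := by
      have a : (M ⊓ D).relIndex M = D.index := by
        rw [inf_relIndex_left, ← relIndex_sup_right (H := M) (K := D), hMD, relIndex_top_right]
      have b1 := relIndex_mul_index (inf_le_left : M ⊓ D ≤ M)
      have b2 := relIndex_mul_index (inf_le_right : M ⊓ D ≤ D)
      rw [a, ← b2, mul_comm] at b1
      exact (Nat.eq_of_mul_eq_mul_right (Nat.pos_of_ne_zero index_ne_zero_of_finite) b1).symm
    have hMp : ¬ p ∣ M.index := fun h =>
      hidx (h.trans (h1 ▸ relIndex_dvd_of_le_left D (le_inf hOM hOD)))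
    obtain ⟨SM⟩ : Nonempty (Sylow p M) := inferInstance
    obtain ⟨S', hS'⟩ := (SM.isPGroup'.map M.subtype).exists_le_sylow
    have hS'M : (S' : Subgroup L) ≤ M := by
      have h2 : (S' : Subgroup L) = (SM : Subgroup M).map M.subtype := by
        refine (eq_of_le_of_card_ge hS' (le_of_eq ?_)).symm
        rw [card_subtype, S'.card_eq_multiplicity, SM.card_eq_multiplicity, ← card_mul_index M,
          Nat.factorization_mul Nat.card_pos.ne' index_ne_zero_of_finite, Finsupp.add_apply,
          Nat.factorization_eq_zero_of_not_dvd hMp, add_zero]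
      rw [h2]
      exact map_subtype_le _
    obtain ⟨x, hx⟩ := MulAction.exists_smul_eq L S' P
    have hYM : Y ≤ M.map (MulAut.conj x).toMonoidHom := by
      refine hYP.trans ?_
      rw [← hx]
      exact map_mono hS'M
    have hMx : IsCoatom (M.map (MulAut.conj x).toMonoidHom) :=
      (OrderIso.isCoatom_iff ((MulAut.conj x).mapSubgroup) M).mpr hMc
    have hDx := L₀.normalCore_le.trans
      (le_of_eq ((hmin.2.unique ⟨hL₀, hYL⟩ ⟨hMx, hYM⟩)))
    refine hDM fun d hd => ?_
    obtain ⟨m, hm, hmd⟩ := hDx ((inferInstance : D.Normal).conj_mem d hd x)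
    have : m = d := (MulAut.conj x).injective hmd
    exact this ▸ hm
  · rw [← map_comap_eq_self_of_surjective hsurj (frattini (L ⧸ O))]
    refine map_mono (normal_le_normalCore.mpr ?_)
    have hc : IsCoatom (L₀.map f) :=
      ⟨fun h => hL₀.1 (by rw [← hcomap L₀ hOp, h, comap_top]), fun K hK => by
        rw [← map_comap_eq_self_of_surjective hsurj K]
        rw [← comap_lt_comap_of_surjective hsurj, hcomap L₀ hOp] at hK
        rw [hL₀.2 _ hK, map_top_of_surjective f hsurj]⟩
    exact (comap_mono (frattini_le_coatom hc)).trans (hcomap L₀ hOp).le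

end Cfsg.Agent.S2836
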