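import Cfsg.Statements.S2834
import Cfsg.Agent.S2835
import Cfsg.Agent.S2836
import Cfsg.Agent.Lib.LocalStr.Irreducible
import Cfsg.Agent.Lib.LocalEven.Kieler

set_option autoImplicit false
open Cfsg

namespace Cfsg.Agent.S2834

open Subgroup CfsgLib CfsgLib.LocalStr
open CfsgLib.LocalEven (IsSylOf cj)

theorem cj_sup {H : Type*} [Group H] (g : H) (X Y : Subgroup H) :
    cj g (X ⊔ Y) = cj g X ⊔ cj g Y := Subgroup.map_sup _ _ _

theorem cj_iSup {H : Type*} [Group H] {ι : Sort*} (g : H) (X : ι → Subgroup H) :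
    cj g (⨆ i, X i) = ⨆ i, cj g (X i) := Subgroup.map_iSup _ _

/-- The `L`-lemma when `O_p(H) ≤ A`. -/
theorem core {H : Type*} [Group H] [Finite H] {p : ℕ} [Fact p.Prime] (T : Sylow p H)
    (hmin : Cfsg.IsMinimalOver (T : Subgroup H)) (M : Subgroup H)
    (hM : IsCoatom M ∧ (T : Subgroup H) ≤ M) (A : Subgroup H) (hAT : A ≤ (T : Subgroup H))
    (hOA : pCore p H ≤ A) (hA : ¬ A ≤ Cfsg.pCore p H) :
    ∃ L : Subgroup H, A ≤ L ∧ ∃ g : H,
      A ⊔ pCoreOf p L ≤ cj g M ∧ ¬ L ≤ cj g M ∧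
      (∀ X : Subgroup H, A ⊔ pCoreOf p L ≤ X → X < L → X ≤ cj g M) ∧
      ∀ x ∈ L, x ∉ cj g M → (A ⊔ cj x A) ⊔ pCoreOf p L = L := by
  classical
  have hTs : ((T.subtype hM.2 : Sylow p M) : Subgroup M).map M.subtype = (T : Subgroup H) :=
    map_subgroupOf_eq_of_le hM.2
  obtain ⟨-, -, -, hNM, -, -⟩ :=
    Cfsg.Agent.S2835.result M hM.1 (T.subtype hM.2) (T : Subgroup H) hTs.ge hmin
  obtain ⟨⟨-, -, hcl⟩, -⟩ :=
    Cfsg.Agent.S2836.result M hM.1 (T.subtype hM.2) (T : Subgroup H) hTs.ge hmin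
  have cjcj : ∀ (a b : H) (X : Subgroup H), cj a (cj b X) = cj (a * b) X := LocalEven.cj_cj
  have cjinv : ∀ (a : H) (X : Subgroup H), cj a⁻¹ (cj a X) = X := fun a X => by
    rw [cjcj, inv_mul_cancel, LocalEven.cj_one]
  -- the coatoms above conjugates of `T`
  have huniq : ∀ (h : H) (X : Subgroup H), cj h (T : Subgroup H) ≤ X → X ≠ ⊤ → X ≤ cj h M := by
    intro h X hX hne
    obtain ⟨Z, hZ, hXZ⟩ := (eq_top_or_exists_le_coatom X).resolve_left hne
    have h1 : IsCoatom (cj h⁻¹ Z) := (OrderIso.isCoatom_iff ((MulAut.conj h⁻¹).mapSubgroup) Z).mpr hZ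
    have h2 : (T : Subgroup H) ≤ cj h⁻¹ Z :=
      (cjinv h _).ge.trans (LocalEven.cj_le_cj (hX.trans hXZ))
    rw [← hmin.2.unique ⟨h1, h2⟩ hM, cjcj, mul_inv_cancel, LocalEven.cj_one]
    exact hXZ
  -- `p`-subgroups lie under conjugates of `T`
  have hsyl : ∀ {g : H} {X : Subgroup H}, IsPGroup p X → X ≤ cj g M →
      ∃ h, cj h M = cj g M ∧ X ≤ cj h (T : Subgroup H) := by
    intro g X hX hXM
    obtain ⟨U, hU, hXU⟩ := LocalEven.exists_isSylOf_ge hX hXM
    obtain ⟨m, hm, hmU⟩ := (((sylow_isSylOf_top T).of_le hM.2 le_top).cj g).exists_conj hU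
    exact ⟨m * g, by rw [← cjcj]; exact LocalEven.cj_of_mem hm, by rw [← cjcj, hmU]; exact hXU⟩
  let gens : Subgroup H → Prop := fun C => C = ⨆ h : {h : H // cj h A ≤ C}, cj (h : H) A
  let two : Subgroup H → Prop := fun C => ∃ a b : H, C ≤ cj a M ∧ C ≤ cj b M ∧ cj a M ≠ cj b M
  have hAbot : A ≠ ⊥ := fun h => hA (h.le.trans bot_le)
  have hTne : (T : Subgroup H) ≠ ⊤ := fun h => hM.1.1 (top_le_iff.mp (h.ge.trans hM.2))
  have hex : ∃ a : H, cj a M ≠ M := by
    by_contra h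
    simp only [not_exists, not_not] at h
    refine hM.1.1 (hNM ▸ top_le_iff.mp fun x _ => ?_)
    exact map_conj_eq_iff.mp (h x)
  obtain ⟨C, -, hC⟩ := (Set.toFinite {C : Subgroup H | IsPGroup p C ∧ gens C ∧ two C}).exists_le_maximal
    (a := (⊥ : Subgroup H)) ⟨IsPGroup.of_bot, (le_antisymm bot_le (iSup_le fun h => h.2)),
      hex.choose, 1, bot_le, bot_le, by rw [LocalEven.cj_one]; exact hex.choose_spec⟩
  obtain ⟨hCp, hCg, a, b, haC, hbC, hab⟩ := hC.prop
  obtain ⟨a', ha', hCa⟩ := hsyl hCp haC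
  obtain ⟨b', hb', hCb⟩ := hsyl hCp hbC
  rw [← ha'] at hab haC
  rw [← hb'] at hab hbC
  clear ha' hb'
  -- maximality
  have hmax : ∀ D : Subgroup H, IsPGroup p D → gens D → C ≤ D → ¬ D ≤ C → ∀ u v : H,
      D ≤ cj u M → D ≤ cj v M → cj u M = cj v M := fun D hDp hDg hCD hne u v hu hv => by
    by_contra h
    exact hne (hC.2 ⟨hDp, hDg, u, v, hu, hv, h⟩ hCD)
  -- some conjugate of `A` normalises `C` without lying in it
  have step : ∀ t u : H, C ≤ cj t (T : Subgroup H) → C ≤ cj u (T : Subgroup H) →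
      cj t M ≠ cj u M → ∃ h : H, cj h A ≤ cj t (T : Subgroup H) ∧
        cj h A ≤ normalizer (C : Set H) ∧ ¬ cj h A ≤ C := by
    intro t u ht hu htu
    by_contra hno
    simp only [not_exists, not_and, not_not] at hno
    set N := cj t (T : Subgroup H) ⊓ normalizer (C : Set H) with hN
    have hNT : cj t (T : Subgroup H) ≤ normalizer (C : Set H) := by
      by_contra hlt
      haveI := (T.isPGroup'.map (MulAut.conj t).toMonoidHom).isNilpotent
      have hlt' : N.subgroupOf (cj t (T : Subgroup H)) < ⊤ := lt_top_iff_ne_top.mpr fun h =>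
        hlt ((subgroupOf_eq_top.mp h).trans inf_le_right)
      obtain ⟨x, hxn, hx⟩ := SetLike.exists_of_lt (Group.normalizerCondition_of_isNilpotent _ hlt')
      refine hx ⟨x.2, ?_⟩
      refine map_conj_eq_iff.mp (eq_of_le_of_card_ge ?_ (LocalEven.card_cj (x : H) C).ge)
      conv_lhs => rw [hCg]
      rw [Subgroup.map_iSup]
      refine iSup_le fun h => ?_
      show cj (x : H) (cj (h : H) A) ≤ C
      rw [cjcj]
      have h1 : cj ((x : H) * h) A ≤ N := by
        rw [← cjcj]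
        refine (LocalEven.cj_le_cj (h.2.trans (le_inf ht le_normalizer))).trans ?_
        rintro _ ⟨r, hr, rfl⟩
        exact (mem_normalizer_iff.mp hxn ⟨r, hr.1⟩).mp hr
      exact hno _ (h1.trans inf_le_left) (h1.trans inf_le_right)
    have hin : ∀ h : H, cj h A ≤ cj t (T : Subgroup H) → cj h A ≤ C := fun h hh =>
      hno h hh (hh.trans hNT)
    -- so `C` is generated by the conjugates of `A` in the Sylow subgroup, and likewise at `u`
    have hu' : ∀ h : H, cj h A ≤ cj u (T : Subgroup H) → cj h A ≤ C := by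
      intro h hh
      have hle : cj (u * t⁻¹) C ≤ cj u (T : Subgroup H) := by
        rw [← cjcj]
        exact LocalEven.cj_le_cj ((LocalEven.cj_le_cj ht).trans (cjinv t _).le)
      have hge : C ≤ cj (u * t⁻¹) C := by
        conv_lhs => rw [hCg]
        refine iSup_le fun k => ?_
        have h1 : cj (t * u⁻¹ * k) A ≤ C := by
          refine hin _ ?_
          rw [← cjcj, ← cjcj t u⁻¹]
          exact LocalEven.cj_le_cj ((LocalEven.cj_le_cj (k.2.trans hu)).trans (cjinv u _).le)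
        refine le_trans (le_of_eq ?_) (LocalEven.cj_le_cj h1)
        rw [cjcj]
        congr 1
        group
      have heq : C = cj (u * t⁻¹) C := eq_of_le_of_card_ge hge (LocalEven.card_cj _ C).le
      have h2 : cj (t * u⁻¹ * h) A ≤ C := by
        refine hin _ ?_
        rw [← cjcj, ← cjcj t u⁻¹]
        exact LocalEven.cj_le_cj ((LocalEven.cj_le_cj hh).trans (cjinv u _).le)
      rw [heq]
      refine le_trans (le_of_eq ?_) (LocalEven.cj_le_cj h2)
      rw [cjcj]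
      congr 1
      group
    have hNu : cj u (T : Subgroup H) ≤ normalizer (C : Set H) := by
      rw [le_normalizer_iff_map_le]
      intro x hx
      show cj x C ≤ C
      conv_lhs => rw [hCg]
      rw [cj_iSup]
      refine iSup_le fun k => ?_
      show cj x (cj (k : H) A) ≤ C
      rw [cjcj]
      refine hu' _ ?_
      rw [← cjcj]
      exact (LocalEven.cj_le_cj (k.2.trans hu)).trans (LocalEven.cj_of_mem hx).le
    by_cases htop : normalizer (C : Set H) = ⊤
    · haveI := normalizer_eq_top_iff.mp htop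
      refine hA ?_
      have h1 : cj t A ≤ C := hin t (LocalEven.cj_le_cj hAT)
      have h2 : cj t⁻¹ C ≤ C := (map_conj_eq_iff.mpr (htop ▸ mem_top t⁻¹)).le
      exact ((cjinv t A).ge.trans ((LocalEven.cj_le_cj h1).trans h2)).trans
        (Components.le_pCore_of_normal inferInstance hCp)
    · have hcoat : IsCoatom (cj t M) := (OrderIso.isCoatom_iff ((MulAut.conj t).mapSubgroup) M).mpr hM.1
      have hcoat' : IsCoatom (cj u M) := (OrderIso.isCoatom_iff ((MulAut.conj u).mapSubgroup) M).mpr hM.1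
      have h3 := huniq u (cj t M) (hNu.trans (huniq t _ hNT htop)) hcoat.1
      exact htu (hcoat.le_iff_eq hcoat'.1 |>.mp h3).symm
  obtain ⟨h₁, h₁T, h₁N, h₁C⟩ := step a' b' hCa hCb hab
  obtain ⟨h₂, h₂T, h₂N, h₂C⟩ := step b' a' hCb hCa hab.symm
  set C₁ := C ⊔ cj h₁ A with hC₁
  have hgen₁ : ∀ h : H, gens (C ⊔ cj h A) := fun h =>
    le_antisymm (sup_le (by
      conv_lhs => rw [hCg]
      exact iSup_le fun k => le_iSup_of_le
        (⟨k, k.2.trans le_sup_left⟩ : {k : H // cj k A ≤ C ⊔ cj h A}) le_rfl)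
      (le_iSup_of_le (⟨h, le_sup_right⟩ : {k : H // cj k A ≤ C ⊔ cj h A}) le_rfl))
      (iSup_le fun k => k.2)
  have hC₁T : C₁ ≤ cj a' (T : Subgroup H) := sup_le hCa h₁T
  have hC₁M : C₁ ≤ cj a' M := hC₁T.trans (LocalEven.cj_le_cj hM.2)
  have hC₁u : ∀ v : H, C₁ ≤ cj v M → cj v M = cj a' M := fun v hv =>
    hmax C₁ ((T.isPGroup'.map _).to_le hC₁T) (hgen₁ h₁) le_sup_left
      (fun h => h₁C (le_sup_right.trans h)) v a' hv hC₁M
  have hNnot : ¬ normalizer (C : Set H) ≤ cj a' M := by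
    intro h
    refine hab (hmax (C ⊔ cj h₂ A) ((T.isPGroup'.map _).to_le (sup_le hCb h₂T)) (hgen₁ h₂)
      le_sup_left (fun h' => h₂C (le_sup_right.trans h')) a' b' (sup_le haC (h₂N.trans h))
      ((sup_le hCb h₂T).trans (LocalEven.cj_le_cj hM.2)))
  obtain ⟨L, hLN, hL⟩ := exists_minimal_le_of_wellFoundedLT
    (fun L : Subgroup H => C₁ ≤ L ∧ ¬ L ≤ cj a' M) (normalizer (C : Set H))
    ⟨sup_le le_normalizer h₁N, hNnot⟩
  have hCO : C ≤ pCoreOf p L := le_pCoreOf (le_sup_left.trans hL.prop.1) hLN hCp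
  have hXsmall : ∀ X : Subgroup H, cj h₁ A ⊔ pCoreOf p L ≤ X → X < L → X ≤ cj a' M := by
    intro X hX hlt
    by_contra hn
    exact hlt.not_ge (hL.2 ⟨sup_le (hCO.trans (le_sup_right.trans hX)) (le_sup_left.trans hX), hn⟩ hlt.le)
  have hAL : cj h₁ A ≤ L := le_sup_right.trans hL.prop.1
  have hPO : cj h₁ A ⊔ pCoreOf p L ≤ cj a' M := by
    have hp' : IsPGroup p ↥(cj h₁ A ⊔ pCoreOf p L) :=
      Components.isPGroup_sup ((T.isPGroup'.to_le hAT).map _) (isPGroup_pCoreOf L)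
        (hAL.trans (le_normalizer_pCoreOf L))
    obtain ⟨U, hU⟩ := hp'.exists_le_sylow
    obtain ⟨v, hv⟩ := MulAction.exists_smul_eq H T U
    have h1 : cj h₁ A ⊔ pCoreOf p L ≤ cj v M := by
      refine hU.trans ?_
      rw [← hv]
      exact LocalEven.cj_le_cj hM.2
    rwa [hC₁u v (sup_le (hCO.trans (le_sup_right.trans h1)) (le_sup_left.trans h1))] at h1
  -- translate back to `A`
  refine ⟨cj h₁⁻¹ L, (cjinv h₁ A).ge.trans (LocalEven.cj_le_cj hAL), h₁⁻¹ * a', ?_, ?_, ?_, ?_⟩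
  · have h1 := LocalEven.cj_le_cj (g := h₁⁻¹) hPO
    rwa [cj_sup, cjinv, LocalEven.pCoreOf_cj, cjcj] at h1
  · intro h
    refine hL.prop.2 ?_
    have h1 := LocalEven.cj_le_cj (g := h₁) h
    rwa [cjcj, cjcj, mul_inv_cancel, LocalEven.cj_one, mul_inv_cancel_left] at h1
  · intro X hX hlt
    have h1 : cj h₁ A ⊔ pCoreOf p L ≤ cj h₁ X := by
      have h2 := LocalEven.cj_le_cj (g := h₁) hX
      rwa [cj_sup, LocalEven.pCoreOf_cj, cjcj h₁ h₁⁻¹ L, mul_inv_cancel,
        LocalEven.cj_one] at h2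
    have h2 : cj h₁ X < L := by
      have h3 : cj h₁ X < cj h₁ (cj h₁⁻¹ L) :=
        (map_lt_map_iff_of_injective (MulAut.conj h₁).injective).mpr hlt
      rwa [cjcj, mul_inv_cancel, LocalEven.cj_one] at h3
    have h3 := LocalEven.cj_le_cj (g := h₁⁻¹) (hXsmall _ h1 h2)
    rwa [cjinv, cjcj] at h3
  · intro x hx hxM
    obtain ⟨y, hy, rfl⟩ := hx
    set x' := (MulAut.conj h₁⁻¹).toMonoidHom y with hx'
    have hyx : y = h₁ * x' * h₁⁻¹ := by simp [hx', mul_assoc]
    by_contra hne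
    set Z := (A ⊔ cj x' A) ⊔ pCoreOf p (cj h₁⁻¹ L) with hZ
    have hle : cj h₁ Z ≤ L := by
      rw [hZ, cj_sup, cj_sup, LocalEven.pCoreOf_cj, cjcj h₁ h₁⁻¹ L,
        mul_inv_cancel, LocalEven.cj_one]
      refine sup_le (sup_le hAL ?_) (pCoreOf_le L)
      show cj h₁ (cj x' A) ≤ L
      rw [cjcj, show h₁ * x' = y * h₁ by rw [hyx]; group, ← cjcj]
      exact (LocalEven.cj_le_cj hAL).trans (LocalEven.cj_of_mem hy).le
    have hlt : cj h₁ Z < L := lt_of_le_of_ne hle fun h => hne (by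
      rw [← cjinv h₁ Z, h])
    have h1 : cj h₁ A ⊔ pCoreOf p L ≤ cj h₁ Z := by
      rw [hZ, cj_sup, cj_sup, LocalEven.pCoreOf_cj, cjcj h₁ h₁⁻¹ L,
        mul_inv_cancel, LocalEven.cj_one]
      exact sup_le_sup_right le_sup_left _
    have hZM := hXsmall _ h1 hlt
    have h4 : cj y C₁ ≤ cj a' M := by
      refine le_trans ?_ hZM
      rw [hC₁, cj_sup]
      refine sup_le ?_ ?_
      · have h5 : cj y C = C := map_conj_eq_iff.mpr (hLN hy)
        exact h5.le.trans (hCO.trans (le_sup_right.trans h1))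
      · show cj y (cj h₁ A) ≤ _
        rw [cjcj, show y * h₁ = h₁ * x' by rw [hyx]; group, ← cjcj, hZ]
        exact LocalEven.cj_le_cj (le_sup_right.trans le_sup_left)
    have h5 : cj (y⁻¹ * a') M = cj a' M := by
      refine hC₁u _ ?_
      rw [← cjcj]
      exact (cjinv y C₁).ge.trans (LocalEven.cj_le_cj h4)
    have h6 : a'⁻¹ * y⁻¹ * a' ∈ M := by
      have h7 : a'⁻¹ * y⁻¹ * a' ∈ normalizer (M : Set H) := map_conj_eq_iff.mp (by
        show cj _ M = M
        rw [mul_assoc, ← cjcj, h5, cjinv])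
      rwa [hNM] at h7
    refine hxM ⟨a'⁻¹ * y * a', ?_, ?_⟩
    · have := inv_mem h6
      simpa [mul_assoc] using this
    · simp [hx', mul_assoc]

/-- The L-Lemma: let H be a finite group with Sylow p-subgroup T such that H is T-minimal (generated by the conjugates of T, T in exactly one maximal subgroup M), and let A ≤ T with A not contained in O_p(H). Then there is a subgroup L of H containing A·O_p(H) such that (a) A·O_p(L) lies in exactly one maximal subgroup L₀ of L, and L₀ = L ∩ gMg⁻¹ for some g ∈ H; (b) L = ⟨A, xAx⁻¹⟩·O_p(L) for every x ∈ L outside L₀. -/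
theorem result {H : Type*} [Group H] [Finite H] {p : ℕ} [Fact p.Prime] (T : Sylow p H) (hmin : Cfsg.IsMinimalOver (T : Subgroup H)) (M : Subgroup H) (hM : IsCoatom M ∧ (T : Subgroup H) ≤ M) (A : Subgroup H) (hAT : A ≤ (T : Subgroup H)) (hA : ¬ A ≤ Cfsg.pCore p H) : ∃ L : Subgroup H, A ⊔ Cfsg.pCore p H ≤ L ∧ ∃ L₀ : Subgroup H, A ⊔ (Cfsg.pCoreOf p L) ≤ L₀ ∧ L₀ < L ∧ (∀ X : Subgroup H, A ⊔ (Cfsg.pCoreOf p L) ≤ X → X < L → X ≤ L₀) ∧ (∃ g : H, L₀ = L ⊓ ((M : Subgroup H).map (MulAut.conj (g : H)).toMonoidHom)) ∧ ∀ x ∈ L, x ∉ L₀ → (A ⊔ ((A : Subgroup H).map (MulAut.conj (x : H)).toMonoidHom)) ⊔ (Cfsg.pCoreOf p L) = L := by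
  have hOT : pCore p H ≤ (T : Subgroup H) :=
    (Components.isPGroup_pCore p).le_sylow_of_normal T
  obtain ⟨L, hAL, g, h1, h2, h3, h4⟩ := core T hmin M hM (A ⊔ pCore p H)
    (sup_le hAT hOT) le_sup_right (fun h => hA (le_sup_left.trans h))
  have hOL : pCore p H ≤ pCoreOf p L :=
    le_pCoreOf (le_sup_right.trans hAL) le_normalizer_of_normal (Components.isPGroup_pCore p)
  have habs : ∀ X : Subgroup H, (X ⊔ pCore p H) ⊔ pCoreOf p L = X ⊔ pCoreOf p L := fun X => by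
    rw [sup_assoc, sup_eq_right.mpr hOL]
  rw [habs] at h1 h3
  refine ⟨L, hAL, L ⊓ cj g M, le_inf ?_ h1, lt_of_le_of_ne inf_le_left fun h => h2 (h.ge.trans inf_le_right),
    fun X hX hlt => le_inf hlt.le (h3 X hX hlt), ⟨g, rfl⟩, fun x hx hx0 => ?_⟩
  · exact sup_le (le_sup_left.trans hAL) (pCoreOf_le L)
  · have h5 := h4 x hx fun h => hx0 ⟨hx, h⟩
    refine le_antisymm ?_ (h5.ge.trans ?_)
    · refine sup_le (sup_le (le_sup_left.trans hAL) ?_) (pCoreOf_le L)
      exact (map_mono (le_sup_left.trans hAL)).trans (LocalEven.cj_of_mem hx).le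
    · refine sup_le (sup_le (sup_le (le_sup_left.trans le_sup_left) (hOL.trans le_sup_right)) ?_)
        le_sup_right
      show cj x (A ⊔ pCore p H) ≤ _
      rw [cj_sup, show cj x (pCore p H) = pCore p H from
        map_conj_eq_iff.mpr (le_normalizer_of_normal (mem_top x))]
      exact sup_le (le_sup_right.trans le_sup_left) (hOL.trans le_sup_right)

end Cfsg.Agent.S2834
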