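import Cfsg.Statements.S2837
import Cfsg.Agent.S2835
import Cfsg.Agent.Lib.LocalStr.Irreducible
import Cfsg.Agent.Lib.Transfer.PGroup
import Cfsg.Agent.Lib.Solvable.Basic

set_option autoImplicit false
open Cfsg

namespace Cfsg.Agent.S2837

open Subgroup CfsgLib CfsgLib.LocalStr
open scoped commutatorElement

/-- Let L be a finite group of characteristic p, L₀ a maximal subgroup, Y an elementary abelian p-subgroup of L₀ with L Y-minimal and O_p(L) ≤ N_L(Y). Put A = the normal closure of O_p(L) ∩ Y in L. Then for every g ∈ L outside L₀: Φ(A) = A' = [A ∩ Y, A] = [A ∩ Y, A ∩ gYg⁻¹] ≤ C_Y(L), and Y ∩ gYg⁻¹ = (A ∩ Y) ∩ (A ∩ gYg⁻¹) = C_Y(L) = C_A(L). -/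
theorem result {L : Type*} [Group L] [Finite L] {p : ℕ} [Fact p.Prime] (hchar : Subgroup.centralizer (Cfsg.pCore p L : Set L) ≤ Cfsg.pCore p L) (L₀ : Subgroup L) (hL₀ : IsCoatom L₀) (Y : Subgroup L) (hYL₀ : Y ≤ L₀) (hYel : Cfsg.IsElementaryAbelian p Y) (hmin : Cfsg.IsMinimalOver Y) (hOY : Cfsg.pCore p L ≤ Subgroup.normalizer (Y : Set L)) (A : Subgroup L) (hA : A = Subgroup.normalClosure (((Cfsg.pCore p L ⊓ Y : Subgroup L)) : Set L)) (g : L) (hg : g ∉ L₀) : (frattini ↥A).map A.subtype = ⁅A, A⁆ ∧ ⁅A, A⁆ = ⁅A ⊓ Y, A⁆ ∧ ⁅A ⊓ Y, A⁆ = ⁅A ⊓ Y, A ⊓ Y.map (MulAut.conj g).toMonoidHom⁆ ∧ ⁅A ⊓ Y, A⁆ ≤ Y ⊓ Subgroup.center L ∧ Y ⊓ Y.map (MulAut.conj g).toMonoidHom = Y ⊓ Subgroup.center L ∧ (A ⊓ Y) ⊓ (A ⊓ Y.map (MulAut.conj g).toMonoidHom) = Y ⊓ Subgroup.center L ∧ A ⊓ Subgroup.center L = Y ⊓ Subgroup.center L := by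
  have hYp : IsPGroup p Y := fun y =>
    ⟨1, Subtype.ext (by simpa using hYel.2 _ y.2)⟩
  obtain ⟨T, hT⟩ := (hYp.of_equiv (subgroupOfEquivOfLe hYL₀).symm).exists_le_sylow
  obtain ⟨-, -, -, -, hgen, hcap⟩ := Cfsg.Agent.S2835.result L₀ hL₀ T Y
    ((map_subgroupOf_eq_of_le hYL₀).ge.trans (map_mono hT)) hmin
  set O := pCore p L with hO
  set Z := Y ⊓ center L with hZ
  set Y' := Y.map (MulAut.conj g).toMonoidHom with hY'
  have hcapg : Y ⊓ Y' = Z := hcap hYel.1 g hg
  have htop : Y ⊔ Y' = ⊤ := hgen g hg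
  have hYc : Y ≤ centralizer (Y : Set L) := le_centralizer_iff_isMulCommutative.mpr hYel.1
  have hY'c : Y' ≤ centralizer (Y' : Set L) := by
    rintro _ ⟨y, hy, rfl⟩
    refine mem_centralizer_iff.mpr ?_
    rintro _ ⟨z, hz, rfl⟩
    show MulAut.conj g z * MulAut.conj g y = MulAut.conj g y * MulAut.conj g z
    rw [← map_mul, ← map_mul, mem_centralizer_iff.mp (hYc hy) z hz]
  have hOY' : O ≤ normalizer (Y' : Set L) := by
    have h := (map_mono (f := (MulAut.conj g).toMonoidHom) hOY).trans (le_normalizer_map _)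
    rwa [map_conj_eq_iff.mpr (le_normalizer_of_normal (mem_top g))] at h
  -- `B` and `B'`
  set B := O ⊓ Y with hB
  set B' := O ⊓ Y' with hB'
  have hOn : ∀ X : Subgroup L, X ≤ normalizer (O : Set L) := fun X => le_normalizer_of_normal
  have hB'B : B' = B.map (MulAut.conj g).toMonoidHom := by
    rw [hB', hB, Subgroup.map_inf _ _ _ (MulAut.conj g).injective,
      map_conj_eq_iff.mpr (hOn ⊤ (mem_top g))]
  have hnorm : (B ⊔ B').Normal := by
    refine normalizer_eq_top_iff.mp (top_le_iff.mp (htop ▸ sup_le ?_ ?_))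
    · rw [le_normalizer_iff_commutator_le_right, commutator_le]
      intro y hy x hx
      refine mem_sup_left ⟨(le_normalizer_iff_commutator_le_right.mp (hOn Y))
        (commutator_mem_commutator hy ((sup_le inf_le_left inf_le_left : B ⊔ B' ≤ O) hx)), ?_⟩
      exact (le_normalizer_iff_commutator_le_left.mp
        ((sup_le inf_le_left inf_le_left : B ⊔ B' ≤ O).trans hOY)) (commutator_mem_commutator hy hx)
    · rw [le_normalizer_iff_commutator_le_right, commutator_le]
      intro y hy x hx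
      refine mem_sup_right ⟨(le_normalizer_iff_commutator_le_right.mp (hOn Y'))
        (commutator_mem_commutator hy ((sup_le inf_le_left inf_le_left : B ⊔ B' ≤ O) hx)), ?_⟩
      exact (le_normalizer_iff_commutator_le_left.mp
        ((sup_le inf_le_left inf_le_left : B ⊔ B' ≤ O).trans hOY')) (commutator_mem_commutator hy hx)
  have hAB : A = B ⊔ B' := by
    refine le_antisymm (hA ▸ normalClosure_le_normal (SetLike.coe_subset_coe.mpr le_sup_left))
      (hA ▸ sup_le subset_normalClosure ?_)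
    rw [hB'B]
    refine (map_mono subset_normalClosure).trans ?_
    exact (map_conj_eq_iff.mpr (le_normalizer_of_normal (mem_top g))).le
  have hAn : A.Normal := hAB ▸ hnorm
  have hAO : A ≤ O := hAB ▸ sup_le inf_le_left inf_le_left
  have hAY : A ⊓ Y = B := le_antisymm (inf_le_inf_right _ hAO)
    (le_inf (hAB ▸ le_sup_left) inf_le_right)
  have hAY' : A ⊓ Y' = B' := le_antisymm (inf_le_inf_right _ hAO)
    (le_inf (hAB ▸ le_sup_right) inf_le_right)
  have hZn : Z.Normal := ⟨fun z hz x => by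
    rwa [mem_center_iff.mp hz.2 x, mul_inv_cancel_right]⟩
  have hZO : Z ≤ O := Components.le_pCore_of_normal hZn (hYp.to_le inf_le_left)
  have hBB : B ⊓ B' = Z := le_antisymm ((inf_le_inf inf_le_right inf_le_right).trans hcapg.le)
    (le_inf (le_inf hZO inf_le_left) (le_inf hZO (hcapg ▸ inf_le_right)))
  set W := ⁅B, B'⁆ with hW
  have hWZ : W ≤ Z := by
    refine (le_inf ?_ ?_).trans hcapg.le
    · exact (commutator_mono inf_le_right inf_le_left).trans
        (le_normalizer_iff_commutator_le_left.mp hOY)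
    · exact (commutator_mono inf_le_left inf_le_right).trans
        (le_normalizer_iff_commutator_le_right.mp hOY')
  have hWn : W.Normal := ⟨fun z hz x => by
    rwa [mem_center_iff.mp (hWZ hz).2 x, mul_inv_cancel_right]⟩
  -- `A / W` is elementary abelian
  set f := QuotientGroup.mk' W with hf
  have hfW : ∀ {x : L}, f x = 1 ↔ x ∈ W := fun {x} => QuotientGroup.eq_one_iff x
  have hbot : ∀ {H K : Subgroup L}, ⁅H, K⁆ ≤ W → ⁅H.map f, K.map f⁆ = ⊥ := fun {H K} h => by
    rw [← map_commutator, Subgroup.map_eq_bot_iff, hf, QuotientGroup.ker_mk']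
    exact h
  have habel : ⁅A, A⁆ ≤ W := by
    suffices h : A.map f ≤ centralizer (A.map f : Set (L ⧸ W)) by
      have h1 := commutator_eq_bot_iff_le_centralizer.mpr h
      rwa [← map_commutator, Subgroup.map_eq_bot_iff, hf, QuotientGroup.ker_mk'] at h1
    have e : A.map f = B.map f ⊔ B'.map f := by rw [hAB, Subgroup.map_sup]
    have hb : B.map f ≤ centralizer (B.map f : Set (L ⧸ W)) :=
      commutator_eq_bot_iff_le_centralizer.mp (hbot ((commutator_mono inf_le_right inf_le_right).trans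
        ((commutator_eq_bot_iff_le_centralizer.mpr hYc).le.trans bot_le)))
    have hb' : B'.map f ≤ centralizer (B'.map f : Set (L ⧸ W)) :=
      commutator_eq_bot_iff_le_centralizer.mp (hbot ((commutator_mono inf_le_right inf_le_right).trans
        ((commutator_eq_bot_iff_le_centralizer.mpr hY'c).le.trans bot_le)))
    have hbb : B.map f ≤ centralizer (B'.map f : Set (L ⧸ W)) :=
      commutator_eq_bot_iff_le_centralizer.mp (hbot le_rfl)
    rw [e]
    exact sup_le (le_centralizer_iff.mp (sup_le hb (le_centralizer_iff.mp hbb)))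
      (le_centralizer_iff.mp (sup_le hbb hb'))
  have hAp : IsPGroup p A := (Components.isPGroup_pCore p).to_le hAO
  have hpow : ∀ a ∈ A, a ^ p ∈ W := by
    intro a ha
    rw [hAB, Subgroup.sup_eq_closure] at ha
    refine hfW.mp ?_
    induction ha using Subgroup.closure_induction with
    | mem x hx =>
      rcases hx with hx | hx
      · rw [hYel.2 x hx.2, map_one]
      · obtain ⟨y, hy, rfl⟩ := hx.2
        rw [← map_pow, hYel.2 y hy, map_one, map_one]
    | one => simp
    | mul x y hx hy ihx ihy =>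
      rw [← Subgroup.sup_eq_closure, ← hAB] at hx hy
      have hc : Commute (f x) (f y) := by
        rw [← commutatorElement_eq_one_iff_commute, ← map_commutatorElement]
        exact hfW.mpr (habel (commutator_mem_commutator hx hy))
      rw [map_pow, map_mul, hc.mul_pow, ← map_pow, ← map_pow, ihx, ihy, one_mul]
    | inv x _ ih => rw [inv_pow, map_inv, ih, inv_one]
  have hBA : B ≤ A := hAB ▸ le_sup_left
  have hB'A : B' ≤ A := hAB ▸ le_sup_right
  have hBAW : ⁅B, A⁆ = W :=
    le_antisymm ((commutator_mono hBA le_rfl).trans habel) (commutator_mono le_rfl hB'A)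
  have hAAW : ⁅A, A⁆ = W := le_antisymm habel (commutator_mono hBA hB'A)
  rw [hAY, hAY']
  refine ⟨?_, hAAW.trans hBAW.symm, hBAW, hBAW ▸ hWZ, hcapg, hBB, ?_⟩
  · have := hAp.isNilpotent
    have hcm : (commutator A).map A.subtype = ⁅A, A⁆ := by
      rw [_root_.commutator_def, map_commutator, ← MonoidHom.range_eq_map, range_subtype]
    refine le_antisymm ?_ (hcm.ge.trans (map_mono Transfer.commutator_le_frattini))
    rw [hAAW, map_le_iff_le_comap]
    refine Transfer.frattini_le_of_quotient_elementary (p := p) _ ?_ fun x => hpow _ x.2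
    rw [← map_le_iff_le_comap, hcm]
    exact habel
  · refine le_antisymm ?_ (le_inf ((le_inf hZO inf_le_left).trans hBA)
      inf_le_right)
    rintro x ⟨hxA, hxc⟩
    refine ⟨?_, hxc⟩
    have hB'N : B' ≤ normalizer (B : Set L) :=
      (le_inf (hOn B') (inf_le_left.trans hOY)).trans inf_normalizer_le_normalizer_inf
    rw [hAB] at hxA
    obtain ⟨b, hb, b', hb', rfl⟩ := (Solvable.mem_sup_of_le_normalizer hB'N).mp hxA
    refine mul_mem hb.2 ((hcapg ▸ ⟨?_, hb'.2⟩ : b' ∈ Z).1)
    -- `b'` commutes with `Y` and with `Y'`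
    have h1 : Y ⊔ Y' ≤ centralizer ({b'} : Set L) := by
      refine sup_le (fun y hy => mem_centralizer_singleton_iff.mpr ?_)
        (fun y hy => mem_centralizer_singleton_iff.mpr ?_)
      · have e1 : y * (b * b') = b * b' * y := mem_center_iff.mp hxc y
        rw [← mul_assoc, mem_centralizer_iff.mp (hYc hb.2) y hy, mul_assoc, mul_assoc] at e1
        exact mul_left_cancel e1
      · exact mem_centralizer_iff.mp (hY'c hb'.2) y hy
    rw [htop] at h1
    obtain ⟨y, hy, hyb⟩ := hb'.2
    have hc : b' ∈ center L := mem_center_iff.mpr fun w => mem_centralizer_singleton_iff.mp (h1 (mem_top w))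
    have : y = b' := by
      have h2 : g * y * g⁻¹ = b' := hyb
      calc y = g⁻¹ * b' * g := by rw [← h2]; group
        _ = b' := by rw [mem_center_iff.mp hc g⁻¹, inv_mul_cancel_right]
    exact this ▸ hy

end Cfsg.Agent.S2837
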