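import Cfsg.Statements.S2838
import Cfsg.Agent.Lib.LocalStr.WeaklyClosed
import Mathlib.Tactic.Group
-- import your own Cfsg.Agent.* helpers here

set_option autoImplicit false
open Cfsg

set_option autoImplicit false
set_option linter.style.haveILetI false

namespace Cfsg.Agent.S2838
open Subgroup CfsgLib CfsgLib.LocalStr
open CfsgLib.LocalEven (IsSylOf)
open scoped commutatorElement


/-- For a nontrivial p-subgroup Q of a finite group H the following are equivalent: Q is a weakly closed subgroup (it is the only H-conjugate of itself inside some Sylow p-subgroup containing it); Q = P for every conjugate P of Q with [Q, P] ≤ Q ∩ P; Q is normal in N_H(R) for every p-subgroup R of H containing Q. -/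
theorem result {H : Type*} [Group H] [Finite H] {p : ℕ} [Fact p.Prime] (Q : Subgroup H) (hQp : IsPGroup p ↥Q) (hQ1 : Q ≠ ⊥) : (Cfsg.IsWeaklyClosedSubgroup p Q ↔ ∀ g : H, ⁅Q, ((Q : Subgroup H).map (MulAut.conj (g : H)).toMonoidHom)⁆ ≤ Q ⊓ ((Q : Subgroup H).map (MulAut.conj (g : H)).toMonoidHom) → ((Q : Subgroup H).map (MulAut.conj (g : H)).toMonoidHom) = Q) ∧ (Cfsg.IsWeaklyClosedSubgroup p Q ↔ ∀ R : Subgroup H, IsPGroup p ↥R → Q ≤ R → Subgroup.normalizer ((R : Subgroup H) : Set H) ≤ Subgroup.normalizer ((Q : Subgroup H) : Set H)) := by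
  have h23 : (∀ g : H, ⁅Q, Q.map (MulAut.conj g).toMonoidHom⁆ ≤ Q ⊓ Q.map (MulAut.conj g).toMonoidHom →
      Q.map (MulAut.conj g).toMonoidHom = Q) →
      ∀ R : Subgroup H, IsPGroup p ↥R → Q ≤ R →
        normalizer (R : Set H) ≤ normalizer (Q : Set H) := by
    intro h2
    have hmut : ∀ g : H, Q.map (MulAut.conj g).toMonoidHom ≤ normalizer (Q : Set H) →
        Q ≤ normalizer ((Q.map (MulAut.conj g).toMonoidHom : Subgroup H) : Set H) →
        g ∈ normalizer (Q : Set H) := fun g ha hb => map_conj_eq_iff.mp (h2 g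
      (le_inf (le_normalizer_iff_commutator_le_left.mp ha)
        (le_normalizer_iff_commutator_le_right.mp hb)))
    have hN : ∀ R : Subgroup H, IsPGroup p ↥R → Q ≤ R → R ≤ normalizer (Q : Set H) := by
      intro R hR hQR
      by_contra hR'
      set S := R ⊓ normalizer (Q : Set H) with hS
      have hQS : Q ≤ S := le_inf hQR le_normalizer
      haveI := hR.isNilpotent
      have hlt : S.subgroupOf R < ⊤ :=
        lt_top_iff_ne_top.mpr fun h => hR' ((subgroupOf_eq_top.mp h).trans inf_le_right)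
      obtain ⟨x, hxn, hx⟩ := SetLike.exists_of_lt (Group.normalizerCondition_of_isNilpotent _ hlt)
      have hcS : Q.map (MulAut.conj (x : H)).toMonoidHom ≤ S := by
        rintro _ ⟨q, hq, rfl⟩
        exact (mem_normalizer_iff.mp hxn ⟨q, hQR hq⟩).mp (hQS hq)
      refine hx (mem_subgroupOf.mpr ⟨x.2, hmut x (hcS.trans inf_le_right) ?_⟩)
      refine fun q hq => map_conj_eq_iff.mp ?_
      rw [map_conj_conj]
      have hy : (x : H)⁻¹ * q * x ∈ normalizer (Q : Set H) :=
        ((mem_normalizer_iff''.mp hxn ⟨q, hQR hq⟩).mp (hQS hq)).2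
      rw [show (q : H) * x = x * ((x : H)⁻¹ * q * x) by group, ← map_conj_conj,
        map_conj_eq_iff.mpr hy]
    intro R hR hQR g hg
    have hgR : Q.map (MulAut.conj g).toMonoidHom ≤ R :=
      (map_mono hQR).trans (map_conj_eq_iff.mpr hg).le
    refine hmut g (hgR.trans (hN R hR hQR)) (hQR.trans ?_)
    intro r hr
    refine map_conj_eq_iff.mp ?_
    have hy : g⁻¹ * r * g ∈ normalizer (Q : Set H) :=
      hN R hR hQR ((mem_normalizer_iff''.mp hg r).mp hr)
    rw [map_conj_conj, show r * g = g * (g⁻¹ * r * g) by group, ← map_conj_conj,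
      map_conj_eq_iff.mpr hy]
  have h12 : IsWeaklyClosedSubgroup p Q →
      ∀ g : H, ⁅Q, Q.map (MulAut.conj g).toMonoidHom⁆ ≤ Q ⊓ Q.map (MulAut.conj g).toMonoidHom →
        Q.map (MulAut.conj g).toMonoidHom = Q := fun h g hg =>
    wc_pGroup h (Components.isPGroup_sup hQp (hQp.map _)
      (le_normalizer_iff_commutator_le_right.mpr (hg.trans inf_le_right))) le_sup_left le_sup_right
  exact ⟨⟨h12, fun h => wc_of_normalizer_le hQp (h23 h)⟩,
    ⟨fun h R hR hQR => wc_normalizer_le h hR hQR, wc_of_normalizer_le hQp⟩⟩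

end Cfsg.Agent.S2838
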