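import Cfsg.Statements.S2839
import Cfsg.Agent.Lib.LocalStr.WeaklyClosed
import Mathlib.Tactic.Group
-- import your own Cfsg.Agent.* helpers here

set_option autoImplicit false
open Cfsg

set_option autoImplicit false
set_option linter.style.haveILetI false

namespace Cfsg.Agent.S2839
open Subgroup CfsgLib CfsgLib.LocalStr
open CfsgLib.LocalEven (IsSylOf)
open scoped commutatorElement


/-- Let Q be a nontrivial p-subgroup of the finite group H that is a weakly closed subgroup, K a subgroup containing Q and N a normal subgroup of H. Then Q is a weakly closed subgroup of K; every H-conjugate of Q contained in K is a K-conjugate of Q; N_K(Q) contains a Sylow p-subgroup of K; N = N_N(Q)·O^p(N); and QN/N is a weakly closed subgroup of H/N. -/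
theorem result {H : Type*} [Group H] [Finite H] {p : ℕ} [Fact p.Prime] (Q : Subgroup H) (hQp : IsPGroup p ↥Q) (hQ1 : Q ≠ ⊥) (hwc : Cfsg.IsWeaklyClosedSubgroup p Q) (K : Subgroup H) (hQK : Q ≤ K) (N' : Subgroup H) [N'.Normal] : Cfsg.IsWeaklyClosedSubgroup p (Q.subgroupOf K) ∧ (∀ g : H, ((Q : Subgroup H).map (MulAut.conj (g : H)).toMonoidHom) ≤ K → ∃ k ∈ K, ((Q : Subgroup H).map (MulAut.conj (g : H)).toMonoidHom) = ((Q : Subgroup H).map (MulAut.conj (k : H)).toMonoidHom)) ∧ Cfsg.IsParabolic p ((Subgroup.normalizer ((Q : Subgroup H) : Set H)).subgroupOf K) ∧ (N' ⊓ Subgroup.normalizer ((Q : Subgroup H) : Set H)) ⊔ (Cfsg.pResidual p ↥N').map N'.subtype = N' ∧ Cfsg.IsWeaklyClosedSubgroup p (Q.map (QuotientGroup.mk' N')) := by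
  refine ⟨wc_subgroupOf hwc hQK, fun g hg => wc_conj_in_subgroup hwc hQK hg, ?_, ?_, ?_⟩
  · obtain ⟨U, hU⟩ := (hQp.of_equiv (subgroupOfEquivOfLe hQK).symm).exists_le_sylow
    refine ⟨U, fun x hx => mem_subgroupOf.mpr (wc_le_normalizer hwc (U.isPGroup'.map K.subtype) ?_
      (mem_map_of_mem _ hx))⟩
    exact (map_subgroupOf_eq_of_le hQK).ge.trans (map_mono hU)
  · obtain ⟨S, hQS, hSN⟩ := wc_exists_sylow_le_normalizer hwc
    refine le_antisymm (sup_le inf_le_left (pRes_le N')) ?_
    conv_lhs => rw [← pRes_sup_of_isSylOf (inf_isSylOf (N := N') (sylow_isSylOf_top S))]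
    exact sup_le le_sup_right ((le_inf inf_le_right (inf_le_left.trans hSN)).trans le_sup_left)
  · obtain ⟨S, hQS, hSN⟩ := wc_exists_sylow_le_normalizer hwc
    refine ⟨S.mapSurjective (QuotientGroup.mk'_surjective N'), ?_⟩
    rw [Sylow.coe_mapSurjective]
    refine ⟨map_mono hQS, fun g hg => ?_⟩
    obtain ⟨g, rfl⟩ := QuotientGroup.mk'_surjective N' g
    set f := QuotientGroup.mk' N'
    have hcf : ∀ a : H, (Q.map f).map (MulAut.conj (f a)).toMonoidHom =
        (Q.map (MulAut.conj a).toMonoidHom).map f := by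
      intro a
      rw [map_map, map_map]
      congr 1
    rw [hcf] at hg ⊢
    have hg' : Q.map (MulAut.conj g).toMonoidHom ≤ (S : Subgroup H) ⊔ N' := by
      have := map_le_iff_le_comap.mp hg
      rwa [comap_map_eq, QuotientGroup.ker_mk'] at this
    obtain ⟨k, hk, hgk⟩ := wc_conj_in_subgroup hwc (hQS.trans le_sup_left) hg'
    rw [← SetLike.mem_coe, Subgroup.mul_normal] at hk
    obtain ⟨s, hs, n, hn, rfl⟩ := Set.mem_mul.mp hk
    rw [hgk, ← hcf, map_mul, show f n = 1 from (QuotientGroup.eq_one_iff n).mpr hn, mul_one, hcf,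
      map_conj_eq_iff.mpr (hSN hs)]

end Cfsg.Agent.S2839
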