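import Cfsg.Statements.S2840
import Cfsg.Agent.Lib.LocalStr.WeaklyClosed
import Mathlib.Tactic.Group
-- import your own Cfsg.Agent.* helpers here

set_option autoImplicit false
open Cfsg

set_option autoImplicit false
set_option linter.style.haveILetI false

namespace Cfsg.Agent.S2840
open Subgroup CfsgLib CfsgLib.LocalStr
open CfsgLib.LocalEven (IsSylOf)
open scoped commutatorElement


/-- Let Q be a nontrivial p-subgroup of the finite group H that is a weakly closed subgroup and K a subgroup containing Q; let K° be the weak closure of Q in K (generated by the H-conjugates of Q inside K). Then K° is generated by the K-conjugates of Q, and K° is the subnormal closure of Q in K. -/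
theorem result {H : Type*} [Group H] [Finite H] {p : ℕ} [Fact p.Prime] (Q : Subgroup H) (hQp : IsPGroup p ↥Q) (hQ1 : Q ≠ ⊥) (hwc : Cfsg.IsWeaklyClosedSubgroup p Q) (K : Subgroup H) (hQK : Q ≤ K) (Kc : Subgroup H) (hKc : Kc = Cfsg.weakClosure Q K) : Kc = ⨆ k : ↥K, ((Q : Subgroup H).map (MulAut.conj ((k : H) : H)).toMonoidHom) ∧ Kc = (Cfsg.subnormalClosure (Q.subgroupOf K)).map K.subtype := by
  subst hKc
  refine ⟨weakClosure_eq_iSup hwc hQK, le_antisymm ?_ ?_⟩
  · have hle : (weakClosure Q K).subgroupOf K ≤ subnormalClosure (Q.subgroupOf K) := by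
      refine le_sInf fun Y hY => ?_
      obtain ⟨hQY, hYs⟩ := hY
      intro x hx
      have h1 := weakClosure_le_of_isSubnormal hwc (K := K) (X := Y.map K.subtype)
        ((map_subgroupOf_eq_of_le hQK).ge.trans (map_mono hQY)) (map_subtype_le _)
        (by rwa [subgroupOf, comap_map_eq_self_of_injective K.subtype_injective]) hx
      obtain ⟨y, hy, hyx⟩ := h1
      rwa [← Subtype.ext (show (y : H) = x from hyx)]
    exact (map_subgroupOf_eq_of_le (weakClosure_le Q K)).ge.trans (map_mono hle)
  · refine le_trans (map_mono (sInf_le ⟨comap_mono (le_weakClosure hQK), ?_⟩))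
      (map_subgroupOf_eq_of_le (weakClosure_le Q K)).le
    exact (subgroupOf_normal (le_normalizer_weakClosure le_normalizer)).isSubnormal

end Cfsg.Agent.S2840
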