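import Cfsg.Statements.S2841
import Cfsg.Agent.Lib.LocalStr.WeaklyClosed
import Mathlib.Tactic.Group
-- import your own Cfsg.Agent.* helpers here

set_option autoImplicit false
open Cfsg

set_option autoImplicit false
set_option linter.style.haveILetI false

namespace Cfsg.Agent.S2841
open Subgroup CfsgLib CfsgLib.LocalStr
open CfsgLib.LocalEven (IsSylOf)
open scoped commutatorElement


/-- Let Q be a nontrivial p-subgroup of the finite group H that is a weakly closed subgroup and N a normal subgroup of H. Then N = N_N(Q)·[N, Q] and [N, Q] = (Q ∩ [N, Q])·[N, Q, Q]. -/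
theorem result {H : Type*} [Group H] [Finite H] {p : ℕ} [Fact p.Prime] (Q : Subgroup H) (hQp : IsPGroup p ↥Q) (hQ1 : Q ≠ ⊥) (hwc : Cfsg.IsWeaklyClosedSubgroup p Q) (N' : Subgroup H) [N'.Normal] : (∀ n : H, n ∈ N' → ∃ a ∈ N' ⊓ Subgroup.normalizer ((Q : Subgroup H) : Set H), ∃ b ∈ ⁅N', Q⁆, n = a * b) ∧ (∀ c : H, c ∈ ⁅N', Q⁆ → ∃ a ∈ Q ⊓ ⁅N', Q⁆, ∃ b ∈ ⁅⁅N', Q⁆, Q⁆, c = a * b) := by
  set W := ⁅N', Q⁆ with hW
  have hQN : Q ≤ normalizer (N' : Set H) := le_normalizer_of_normal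
  have hWN : W ≤ N' := le_normalizer_iff_commutator_le_left.mp hQN
  have hQW : Q ≤ normalizer (W : Set H) := normalizer_commutator_ge_right N' Q
  have hfact : ∀ n ∈ N', ∃ a ∈ N' ⊓ normalizer (Q : Set H), ∃ b ∈ W, n = a * b := by
    intro n hn
    have hsub : Q.map (MulAut.conj n).toMonoidHom ≤ W ⊔ Q := by
      rintro _ ⟨q, hq, rfl⟩
      show n * q * n⁻¹ ∈ _
      rw [show n * q * n⁻¹ = ⁅n, q⁆ * q by simp [commutatorElement_def]]
      exact mul_mem (mem_sup_left (commutator_mem_commutator hn hq)) (mem_sup_right hq)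
    obtain ⟨k, hk, hnk⟩ := wc_conj_in_subgroup hwc le_sup_right hsub
    rw [← SetLike.mem_coe, coe_mul_of_right_le_normalizer_left _ _ hQW] at hk
    obtain ⟨b, hb, q, hq, rfl⟩ := Set.mem_mul.mp hk
    have hbn : b⁻¹ * n ∈ normalizer (Q : Set H) := by
      refine map_conj_eq_iff.mp ?_
      rw [← map_conj_conj, hnk, ← map_conj_conj b q Q, map_conj_eq_iff.mpr (le_normalizer hq),
        map_conj_inv_conj]
    have hbN : b⁻¹ * n ∈ N' := mul_mem (inv_mem (hWN hb)) hn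
    refine ⟨_, ⟨hbN, hbn⟩, (b⁻¹ * n)⁻¹ * b * (b⁻¹ * n), ?_, by group⟩
    exact (mem_normalizer_iff''.mp (normalizer_commutator_ge_left N' Q hbN) b).mp hb
  refine ⟨hfact, fun c hc => ?_⟩
  set U := ⁅W, Q⁆ with hU
  have hUW : U ≤ W := le_normalizer_iff_commutator_le_left.mp hQW
  have hWU : W ≤ normalizer (U : Set H) := normalizer_commutator_ge_left W Q
  have hle : W ≤ (Q ⊓ W) ⊔ U := by
    conv_lhs => rw [hW]
    rw [commutator_le]
    intro n hn q hq
    obtain ⟨a, ⟨haN, haQ⟩, b, hb, rfl⟩ := hfact n hn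
    rw [show ⁅a * b, q⁆ = (a * ⁅b, q⁆ * a⁻¹) * ⁅a, q⁆ by simp only [commutatorElement_def]; group]
    refine mul_mem (mem_sup_right ?_) (mem_sup_left ⟨?_, commutator_mem_commutator haN hq⟩)
    · rw [conjugate_commutatorElement]
      refine commutator_mem_commutator ((mem_normalizer_iff.mp
        (normalizer_commutator_ge_left N' Q haN) b).mp hb) ((mem_normalizer_iff.mp haQ q).mp hq)
    · rw [commutatorElement_def]
      exact Q.mul_mem ((mem_normalizer_iff.mp haQ q).mp hq) (Q.inv_mem hq)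
  have hc' : c ∈ (↑((Q ⊓ W) ⊔ U) : Set H) := hle hc
  rw [coe_mul_of_left_le_normalizer_right _ _ (inf_le_right.trans hWU)] at hc'
  obtain ⟨a, ha, b, hb, rfl⟩ := Set.mem_mul.mp hc'
  exact ⟨a, ha, b, hb, rfl⟩

end Cfsg.Agent.S2841
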