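import Cfsg.Statements.S2842
import Cfsg.Agent.Lib.LocalStr.Large
import Mathlib.Tactic.Group
-- import your own Cfsg.Agent.* helpers here

set_option autoImplicit false
open Cfsg

set_option autoImplicit false
set_option linter.style.haveILetI false

namespace Cfsg.Agent.S2842
open Subgroup CfsgLib CfsgLib.LocalStr
open CfsgLib.LocalEven (IsSylOf)
open scoped commutatorElement


/-- Let Q be a nontrivial p-subgroup of the finite group H that is a weakly closed subgroup with C_H(Q) ≤ Q, and Q ≤ L ≤ H. Suppose H has characteristic p, or more generally that C_H(y) has characteristic p for some nonidentity y ∈ C_{O_p(L)}(Q). Then [Q, C_H(O_p(L))] ≤ Q ∩ O_p(L), C_H(O_p(L)) is a p-group, and L has characteristic p. -/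
theorem result {H : Type*} [Group H] [Finite H] {p : ℕ} [Fact p.Prime] (Q : Subgroup H) (hQp : IsPGroup p ↥Q) (hQ1 : Q ≠ ⊥) (hwc : Cfsg.IsWeaklyClosedSubgroup p Q) (hCQ : Subgroup.centralizer ((Q : Subgroup H) : Set H) ≤ Q) (L : Subgroup H) (hQL : Q ≤ L) (hyp : Subgroup.centralizer (Cfsg.pCore p H : Set H) ≤ Cfsg.pCore p H ∨ ∃ y : H, y ≠ 1 ∧ y ∈ (Cfsg.pCoreOf p L) ⊓ Subgroup.centralizer ((Q : Subgroup H) : Set H) ∧ Subgroup.centralizer (Cfsg.pCore p ↥(Subgroup.centralizer ({y} : Set H)) : Set ↥(Subgroup.centralizer ({y} : Set H))) ≤ Cfsg.pCore p ↥(Subgroup.centralizer ({y} : Set H))) : ⁅Q, Subgroup.centralizer (((Cfsg.pCoreOf p L) : Subgroup H) : Set H)⁆ ≤ Q ⊓ (Cfsg.pCoreOf p L) ∧ IsPGroup p ↥(Subgroup.centralizer (((Cfsg.pCoreOf p L) : Subgroup H) : Set H)) ∧ Subgroup.centralizer (Cfsg.pCore p ↥L : Set ↥L) ≤ Cfsg.pCore p ↥L := by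
  rcases hyp with hH | ⟨y, hy1, hy, hK⟩
  · have h := wc_centralizer_pCoreOf hwc hCQ hQL (K := ⊤) (fun x _ hx => ?_) le_top le_top
    · exact ⟨h.1, h.2.1, centralizer_pCore_le_iff.mpr h.2.2⟩
    · rw [pCoreOf_top] at hx ⊢
      exact hH hx
  · have h := wc_centralizer_pCoreOf hwc hCQ hQL (K := centralizer ({y} : Set H))
      (centralizer_pCore_le_iff.mp hK) (fun q hq => mem_centralizer_singleton_iff.mpr
        (mem_centralizer_iff.mp hy.2 q hq))
      (centralizer_le (Set.singleton_subset_iff.mpr hy.1))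
    exact ⟨h.1, h.2.1, centralizer_pCore_le_iff.mpr h.2.2⟩

end Cfsg.Agent.S2842
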