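import Cfsg.Statements.S2843
import Cfsg.Agent.Lib.LocalStr.Large
import Mathlib.Tactic.Group
-- import your own Cfsg.Agent.* helpers here

set_option autoImplicit false
open Cfsg

set_option autoImplicit false
set_option linter.style.haveILetI false

namespace Cfsg.Agent.S2843
open Subgroup CfsgLib CfsgLib.LocalStr
open CfsgLib.LocalEven (IsSylOf)
open scoped commutatorElement


/-- Let Q be a nontrivial large p-subgroup of the finite group H, Q ≤ L ≤ H, and Y a nontrivial p-subgroup of H normalized by L. Let L° be the weak closure of Q in L (generated by the conjugates of Q inside L). Then L° equals the weak closure of Q in L·C_H(Y), and [L°, C_H(Y)] ≤ O_p(L°); in particular C_H(Y) normalizes L°. -/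
theorem result {H : Type*} [Group H] [Finite H] {p : ℕ} [Fact p.Prime] (Q : Subgroup H) (hQp : IsPGroup p ↥Q) (hQ1 : Q ≠ ⊥) (hL : Cfsg.IsLarge Q) (L : Subgroup H) (hQL : Q ≤ L) (Y : Subgroup H) (hYp : IsPGroup p ↥Y) (hY1 : Y ≠ ⊥) (hLY : L ≤ Subgroup.normalizer ((Y : Subgroup H) : Set H)) : Cfsg.weakClosure Q L = Cfsg.weakClosure Q (L ⊔ Subgroup.centralizer ((Y : Subgroup H) : Set H)) ∧ ⁅Cfsg.weakClosure Q L, Subgroup.centralizer ((Y : Subgroup H) : Set H)⁆ ≤ (Cfsg.pCoreOf p (Cfsg.weakClosure Q L)) ∧ Subgroup.centralizer ((Y : Subgroup H) : Set H) ≤ Subgroup.normalizer (((Cfsg.weakClosure Q L) : Subgroup H) : Set H) := by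
  set C := centralizer (Y : Set H) with hC
  set Lc := weakClosure Q L with hLc
  have hwc := large_wc hL hQp hQ1
  have hLCn : L ≤ normalizer (C : Set H) := le_normalizer_centralizer hLY
  have hCN : C ≤ normalizer (Q : Set H) := large_centralizer_le hL hQp hYp hY1 (hQL.trans hLY)
  have hCg : ∀ g : H, Q.map (MulAut.conj g).toMonoidHom ≤ L →
      C ≤ normalizer ((Q.map (MulAut.conj g).toMonoidHom : Subgroup H) : Set H) := fun g hg =>
    large_centralizer_le (large_conj hL g) (hQp.map _) hYp hY1 (hg.trans hLY)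
  have hCLc : C ≤ normalizer (Lc : Set H) := by
    rw [le_normalizer_iff_map_le]
    intro c hc
    rw [hLc, weakClosure, Subgroup.map_iSup]
    refine iSup_le fun g => ?_
    rw [map_conj_eq_iff.mpr (hCg g g.2 hc)]
    exact conj_le_weakClosure g.2
  refine ⟨le_antisymm (weakClosure_mono le_sup_left) (iSup_le fun g => ?_), ?_, hCLc⟩
  · obtain ⟨k, hk, hgk⟩ := wc_conj_in_subgroup hwc (hQL.trans le_sup_left) g.2
    rw [← SetLike.mem_coe, coe_mul_of_left_le_normalizer_right _ _ hLCn] at hk
    obtain ⟨l, hl, c, hc, rfl⟩ := Set.mem_mul.mp hk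
    rw [hgk, ← map_conj_conj, map_conj_eq_iff.mpr (hCN hc)]
    exact conj_le_weakClosure (map_conj_le_of_mem hQL hl)
  · set O := pCoreOf p Lc with hO
    have hLcC : Lc ≤ normalizer (C : Set H) := (weakClosure_le Q L).trans hLCn
    have hgen : ∀ g : H, Q.map (MulAut.conj g).toMonoidHom ≤ L →
        ⁅Q.map (MulAut.conj g).toMonoidHom, C⁆ ≤ O := by
      intro g hg
      set Q' := Q.map (MulAut.conj g).toMonoidHom with hQ'
      have h1 : ⁅Q', C⁆ ≤ pCoreOf p C := by
        refine (le_inf (le_normalizer_iff_commutator_le_left.mp (hCg g hg))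
          (le_normalizer_iff_commutator_le_right.mp (hg.trans hLCn))).trans ?_
        exact le_pCoreOf inf_le_right (fun c hc => map_conj_eq_iff.mp (by
          rw [Subgroup.map_inf _ _ _ (MulAut.conj c).injective,
            map_conj_eq_iff.mpr (hCg g hg hc), map_conj_eq_iff.mpr (le_normalizer hc)]))
          ((hQp.map _).to_le inf_le_left)
      have h2 : ⁅Q', C⁆ ≤ Lc := by
        refine (commutator_mono (conj_le_weakClosure hg) le_rfl).trans ?_
        exact le_normalizer_iff_commutator_le_left.mp hCLc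
      refine (le_inf h1 h2).trans (le_pCoreOf inf_le_right (fun c hc => map_conj_eq_iff.mp ?_)
        ((isPGroup_pCoreOf C).to_le inf_le_left))
      rw [Subgroup.map_inf _ _ _ (MulAut.conj c).injective,
        map_conj_eq_iff.mpr (le_normalizer_pCoreOf' hLcC hc), map_conj_eq_iff.mpr (le_normalizer hc)]
    rw [commutator_le]
    intro x hx c hc
    rw [hLc, weakClosure, ← SetLike.mem_coe] at hx
    induction hx using Subgroup.iSup_induction' with
    | hp g x hx => exact hgen g g.2 (commutator_mem_commutator hx hc)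
    | h1 => simp
    | hmul a b ha _ iha ihb =>
      rw [show ⁅a * b, c⁆ = (a * ⁅b, c⁆ * a⁻¹) * ⁅a, c⁆ by simp only [commutatorElement_def]; group]
      exact mul_mem ((mem_normalizer_iff.mp (le_normalizer_pCoreOf Lc ha) _).mp ihb) iha

end Cfsg.Agent.S2843
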