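import Cfsg.Statements.S2844
import Cfsg.Agent.Lib.LocalStr.Large
import Mathlib.Tactic.Group
-- import your own Cfsg.Agent.* helpers here

set_option autoImplicit false
open Cfsg

set_option autoImplicit false
set_option linter.style.haveILetI false

namespace Cfsg.Agent.S2844
open Subgroup CfsgLib CfsgLib.LocalStr
open CfsgLib.LocalEven (IsSylOf)
open scoped commutatorElement


/-- Let Q be a nontrivial large p-subgroup of the finite group H and Q• = O_p(N_H(Q)). Then for every g ∈ H outside N_H(Q): C_H(Q) ∩ C_H(gQg⁻¹) = 1, C_H(Q•) ∩ C_H(gQ•g⁻¹) = 1, Z(Q) ∩ Z(gQg⁻¹) = 1 and Z(Q•) ∩ Z(gQ•g⁻¹) = 1; moreover N_H(Q) = N_H(Q•) and Q• is large in H. -/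
theorem result {H : Type*} [Group H] [Finite H] {p : ℕ} [Fact p.Prime] (Q : Subgroup H) (hQp : IsPGroup p ↥Q) (hQ1 : Q ≠ ⊥) (hL : Cfsg.IsLarge Q) (Qb : Subgroup H) (hQb : Qb = Cfsg.largeBullet p Q) : (∀ g : H, g ∉ Subgroup.normalizer ((Q : Subgroup H) : Set H) → Subgroup.centralizer ((Q : Subgroup H) : Set H) ⊓ Subgroup.centralizer ((((Q : Subgroup H).map (MulAut.conj (g : H)).toMonoidHom) : Subgroup H) : Set H) = ⊥ ∧ Subgroup.centralizer ((Qb : Subgroup H) : Set H) ⊓ Subgroup.centralizer ((((Qb : Subgroup H).map (MulAut.conj (g : H)).toMonoidHom) : Subgroup H) : Set H) = ⊥ ∧ (Q ⊓ Subgroup.centralizer ((Q : Subgroup H) : Set H)) ⊓ (((Q : Subgroup H).map (MulAut.conj (g : H)).toMonoidHom) ⊓ Subgroup.centralizer ((((Q : Subgroup H).map (MulAut.conj (g : H)).toMonoidHom) : Subgroup H) : Set H)) = ⊥ ∧ (Qb ⊓ Subgroup.centralizer ((Qb : Subgroup H) : Set H)) ⊓ (((Qb : Subgroup H).map (MulAut.conj (g : H)).toMonoidHom) ⊓ Subgroup.centralizer ((((Qb : Subgroup H).map (MulAut.conj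 (g : H)).toMonoidHom) : Subgroup H) : Set H)) = ⊥) ∧ Subgroup.normalizer ((Q : Subgroup H) : Set H) = Subgroup.normalizer ((Qb : Subgroup H) : Set H) ∧ Cfsg.IsLarge Qb := by
  subst hQb
  set Qb := largeBullet p Q with hQbdef
  have hwc := large_wc hL hQp hQ1
  have hQQb : Q ≤ Qb := le_pCoreOf le_normalizer le_rfl hQp
  have hQbp : IsPGroup p Qb := isPGroup_pCoreOf _
  have hc : centralizer (Qb : Set H) ≤ centralizer (Q : Set H) :=
    centralizer_le (SetLike.coe_subset_coe.mpr hQQb)
  have hN : normalizer (Q : Set H) = normalizer (Qb : Set H) :=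
    le_antisymm (le_normalizer_pCoreOf _) (wc_normalizer_le hwc hQbp hQQb)
  have key : ∀ g : H, g ∉ normalizer (Q : Set H) → centralizer (Q : Set H) ⊓
      centralizer ((Q.map (MulAut.conj g).toMonoidHom : Subgroup H) : Set H) = ⊥ := by
    intro g hg
    by_contra hU
    set P := Q.map (MulAut.conj g).toMonoidHom with hP
    set U := centralizer (Q : Set H) ⊓ centralizer (P : Set H) with hUdef
    have h1 : Q ≤ normalizer (P : Set H) := by
      refine le_trans ?_ ((large_conj hL g).2 U inf_le_right hU)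
      exact (le_centralizer_iff.mp (inf_le_left : U ≤ centralizer (Q : Set H))).trans
        (centralizer_le_normalizer _)
    exact hg (map_conj_eq_iff.mp (wc_pGroup hwc (Components.isPGroup_sup hQp (hQp.map _) h1)
      le_sup_left le_sup_right))
  have hcb : ∀ g : H, centralizer ((Qb.map (MulAut.conj g).toMonoidHom : Subgroup H) : Set H) ≤
      centralizer ((Q.map (MulAut.conj g).toMonoidHom : Subgroup H) : Set H) := fun g =>
    centralizer_le (SetLike.coe_subset_coe.mpr (map_mono hQQb))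
  refine ⟨fun g hg => ⟨key g hg, le_bot_iff.mp ((inf_le_inf hc (hcb g)).trans (key g hg).le),
    le_bot_iff.mp ((inf_le_inf inf_le_right inf_le_right).trans (key g hg).le),
    le_bot_iff.mp ((inf_le_inf (inf_le_right.trans hc) (inf_le_right.trans (hcb g))).trans
      (key g hg).le)⟩, hN, (hc.trans hL.1).trans hQQb, fun U hU hU1 => ?_⟩
  exact (hL.2 U (hU.trans hc) hU1).trans hN.le

end Cfsg.Agent.S2844
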