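import Cfsg.Statements.S2845
import Cfsg.Agent.Lib.LocalStr.Large
import Mathlib.Tactic.Group
-- import your own Cfsg.Agent.* helpers here

set_option autoImplicit false
open Cfsg

set_option autoImplicit false
set_option linter.style.haveILetI false

namespace Cfsg.Agent.S2845
open Subgroup CfsgLib CfsgLib.LocalStr
open CfsgLib.LocalEven (IsSylOf)
open scoped commutatorElement


/-- Let Q be a nontrivial large p-subgroup of the finite group H. Then for every subgroup L ≥ Q with O_p(L) ≠ 1, C_H(O_p(L)) is a p-group and L has characteristic p, and either the weak closure L° of Q in L equals Q or C_H(L°) = 1; for every subgroup R of H containing a Sylow p-subgroup of H with O_p(R) ≠ 1, C_H(O_p(R)) ≤ O_p(R); and H has parabolic characteristic p. -/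
theorem result {H : Type*} [Group H] [Finite H] {p : ℕ} [Fact p.Prime] (Q : Subgroup H) (hQp : IsPGroup p ↥Q) (hQ1 : Q ≠ ⊥) (hL : Cfsg.IsLarge Q) : (∀ L : Subgroup H, Q ≤ L → Cfsg.pCore p ↥L ≠ ⊥ → IsPGroup p ↥(Subgroup.centralizer (((Cfsg.pCoreOf p L) : Subgroup H) : Set H)) ∧ Subgroup.centralizer (Cfsg.pCore p ↥L : Set ↥L) ≤ Cfsg.pCore p ↥L ∧ (Cfsg.weakClosure Q L = Q ∨ Subgroup.centralizer (((Cfsg.weakClosure Q L) : Subgroup H) : Set H) = ⊥)) ∧ (∀ R : Subgroup H, Cfsg.IsParabolic p R → Cfsg.pCore p ↥R ≠ ⊥ → Subgroup.centralizer (((Cfsg.pCoreOf p R) : Subgroup H) : Set H) ≤ (Cfsg.pCoreOf p R)) ∧ Cfsg.IsOfParabolicCharacteristic p H := by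
  have hwc := large_wc hL hQp hQ1
  have hO : ∀ L : Subgroup H, pCore p ↥L ≠ ⊥ → pCoreOf p L ≠ ⊥ := fun L h h' =>
    h (pCore_eq_bot_iff_pCoreOf.mpr h')
  have hR : ∀ R : Subgroup H, IsParabolic p R → pCore p ↥R ≠ ⊥ →
      centralizer (pCoreOf p R : Set H) ≤ pCoreOf p R := by
    rintro R ⟨T, hTR⟩ hne
    obtain ⟨S, hS⟩ := hQp.exists_le_sylow
    obtain ⟨g, hg⟩ := MulAction.exists_smul_eq H S T
    have hgT : Q.map (MulAut.conj g).toMonoidHom ≤ T := by
      rw [← hg]
      exact map_mono hS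
    have hq1 : Q.map (MulAut.conj g).toMonoidHom ≠ ⊥ := fun h =>
      hQ1 ((map_eq_bot_iff_of_injective _ (MulAut.conj g).injective).mp h)
    obtain ⟨hCp, hC⟩ := large_pCoreOf (large_conj hL g) (hQp.map _) hq1 (hgT.trans hTR) (hO R hne)
    have hRC : R ≤ normalizer (centralizer (pCoreOf p R : Set H) : Set H) :=
      le_normalizer_centralizer (le_normalizer_pCoreOf R)
    have hle : centralizer (pCoreOf p R : Set H) ≤ T := by
      have := T.is_maximal' (Components.isPGroup_sup T.isPGroup' hCp (hTR.trans hRC)) le_sup_left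
      exact le_sup_right.trans this.le
    exact fun x hx => hC x (hTR (hle hx)) hx
  refine ⟨fun L hQL hne => ?_, hR, fun R hRp hR1 hpar => ?_⟩
  · obtain ⟨hCp, hC⟩ := large_pCoreOf hL hQp hQ1 hQL (hO L hne)
    refine ⟨hCp, centralizer_pCore_le_iff.mpr hC, or_iff_not_imp_right.mpr fun hU => ?_⟩
    refine le_antisymm (iSup_le fun g => ?_) (le_weakClosure hQL)
    set U := centralizer (weakClosure Q L : Set H) with hUdef
    have hN : weakClosure Q L ≤ normalizer (Q : Set H) := by
      refine le_trans ?_ (hL.2 U (centralizer_le (SetLike.coe_subset_coe.mpr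
        (le_weakClosure hQL))) hU)
      exact (le_centralizer_iff.mp (le_refl U)).trans (centralizer_le_normalizer _)
    exact (wc_pGroup hwc (Components.isPGroup_sup (hQp.map _) hQp
      ((conj_le_weakClosure g.2).trans hN)) le_sup_right le_sup_left).le
  · refine centralizer_pCore_le_iff.mpr fun x _ hx => hR _ hpar (fun h => hR1 ?_) hx
    exact le_bot_iff.mp ((le_pCoreOf le_normalizer le_rfl hRp).trans
      (pCore_eq_bot_iff_pCoreOf.mp h).le)

end Cfsg.Agent.S2845
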