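import Cfsg.Statements.S2846
import Cfsg.Agent.Lib.LocalStr.BasicProperty
import Cfsg.Agent.S2843

set_option autoImplicit false
open Cfsg

namespace Cfsg.Agent.S2846

open Subgroup CfsgLib CfsgLib.LocalStr

/-- Let Q be a nontrivial large p-subgroup of the finite group H, S a Sylow p-subgroup containing Q, and L a subgroup containing S with O_p(L) ≠ 1 and C_H(O_p(L)) ≤ O_p(L). Then there are a subgroup M containing S having the basic property (M ∈ 𝔐_H, writing Y_X for the largest p-reduced normal subgroup of X and 𝓛_H for the set of subgroups X with O_p(X) ≠ 1 and C_H(O_p(X)) ≤ O_p(X): M ∈ 𝓛_H, M·C_H(Y_M) is the only maximal member of 𝓛_H containing M and its largest p-reduced normal subgroup is again Y_M, C_M(Y_M) is p-closed, and the image of C_M(Y_M) in M/O_p(M) lies in the Frattini subgroup of M/O_p(M)) and a subgroup L* with S ≤ L* ≤ M, O_p(L*) ≠ 1, C_H(O_p(L*)) ≤ O_p(L*), such that L·C_H(Y_L) = L*·C_H(Y_L), the weak closures of Q in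 L and in L* agree and lie in that of M, and Y_L = Y_{L*} ≤ Y_M. If moreover Q is not normal in L, then Q is normal in neither L* nor M. -/
theorem result {H : Type*} [Group H] [Finite H] {p : ℕ} [Fact p.Prime] (Q : Subgroup H) (hQp : IsPGroup p ↥Q) (hQ1 : Q ≠ ⊥) (hLg : Cfsg.IsLarge Q) (S : Sylow p H) (hQS : Q ≤ (S : Subgroup H)) (L : Subgroup H) (hSL : (S : Subgroup H) ≤ L) (hL : L ∈ Cfsg.charPSubgroups p H) : ∃ M Ls : Subgroup H, (S : Subgroup H) ≤ M ∧ Cfsg.IsInFrakM p M ∧ (S : Subgroup H) ≤ Ls ∧ Ls ≤ M ∧ Ls ∈ Cfsg.charPSubgroups p H ∧ L ⊔ Subgroup.centralizer (((Cfsg.largestPReducedOf p L) : Subgroup H) : Set H) = Ls ⊔ Subgroup.centralizer (((Cfsg.largestPReducedOf p L) : Subgroup H) : Set H) ∧ Cfsg.weakClosure Q L = Cfsg.weakClosure Q Ls ∧ Cfsg.weakClosure Q Ls ≤ Cfsg.weakClosure Q M ∧ (Cfsg.largestPReducedOf p L) = (Cfsg.largestPReducedOf p Ls) ∧ (Cfsg.largestPReducedOf p Ls) ≤ (Cfsg.largestPReducedOf p M) ∧ (¬ L ≤ Subgroup.normalizer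 ((Q : Subgroup H) : Set H) → ¬ Ls ≤ Subgroup.normalizer ((Q : Subgroup H) : Set H) ∧ ¬ M ≤ Subgroup.normalizer ((Q : Subgroup H) : Set H)) := by
  have hwc := Cfsg.Agent.S2843.result Q hQp hQ1 hLg
  have hpar : ∀ X : Subgroup H, (S : Subgroup H) ≤ X → pCoreOf p X ≠ ⊥ → X ∈ charPSubgroups p H := by
    intro X hSX hX
    refine mem_charP_of_large hLg hQp hQ1 (hQS.trans hSX) hX ?_
    set O := pCoreOf p X with hO
    set N := normalizer (O : Set H) with hN
    have hXN : X ≤ N := le_normalizer_pCoreOf X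
    refine le_trans (le_pCoreOf (centralizer_le_normalizer _) (le_normalizer_centralizer le_rfl)
      (large_pCoreOf hLg hQp hQ1 (hQS.trans hSX) hX).1 : centralizer (O : Set H) ≤ pCoreOf p N) ?_
    exact ((sylow_isSylOf_top S).of_le (hSX.trans hXN) le_top).pCoreOf_le.trans hSX
  obtain ⟨M, Ls, h1, h2, h3, h4, h5, h6, h7, hLsY, h8⟩ :=
    exists_frakM_above S hpar hSL hL
  set Y := largestPReducedOf p L with hY
  have hY1 : Y ≠ ⊥ := fun h => omegaZ_sylow_ne_bot S hQS hQ1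
    (le_bot_iff.mp (h ▸ omegaZ_le_largest S hSL (charP_of_mem hL)))
  have hw : Cfsg.weakClosure Q L = Cfsg.weakClosure Q Ls := by
    rw [(hwc L (hQS.trans hSL) Y (pRedIn_largest L).isPGroup hY1 (pRedIn_largest L).norm).1, h8,
      ← (hwc Ls (hQS.trans h3) Y (pRedIn_largest L).isPGroup hY1 hLsY).1]
  refine ⟨M, Ls, h1, h2, h3, h4, h5, h8, hw, weakClosure_mono h4, h6, h6 ▸ h7, fun hn => ?_⟩
  have hLs : ¬ Ls ≤ normalizer (Q : Set H) := fun h => hn <| le_trans le_sup_left <| h8.le.trans <|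
    sup_le h (large_centralizer_le hLg hQp (pRedIn_largest L).isPGroup hY1
      ((hQS.trans hSL).trans (pRedIn_largest L).norm))
  exact ⟨hLs, fun h => hLs (h4.trans h)⟩

end Cfsg.Agent.S2846
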