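import Cfsg.Statements.S2847
import Cfsg.Agent.Lib.LocalStr.BasicProperty

set_option autoImplicit false
open Cfsg

namespace Cfsg.Agent.S2847

open Subgroup CfsgLib CfsgLib.LocalStr

/-- Let H be a finite group of parabolic characteristic p, T a Sylow p-subgroup and L a subgroup containing T with O_p(L) ≠ 1 and C_H(O_p(L)) ≤ O_p(L). Then there are M ≥ T with the basic property (M ∈ 𝔐_H) and L* with T ≤ L* ≤ M, O_p(L*) ≠ 1, C_H(O_p(L*)) ≤ O_p(L*), such that Y_L = Y_{L*} ≤ Y_M and L·C_H(Y_L) = L*·C_H(Y_L), Y denoting largest p-reduced normal subgroups. -/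
theorem result {H : Type*} [Group H] [Finite H] {p : ℕ} [Fact p.Prime] (hH : Cfsg.IsOfParabolicCharacteristic p H) (T : Sylow p H) (L : Subgroup H) (hTL : (T : Subgroup H) ≤ L) (hL : L ∈ Cfsg.charPSubgroups p H) : ∃ M Ls : Subgroup H, (T : Subgroup H) ≤ M ∧ Cfsg.IsInFrakM p M ∧ (T : Subgroup H) ≤ Ls ∧ Ls ≤ M ∧ Ls ∈ Cfsg.charPSubgroups p H ∧ (Cfsg.largestPReducedOf p L) = (Cfsg.largestPReducedOf p Ls) ∧ (Cfsg.largestPReducedOf p L) ≤ (Cfsg.largestPReducedOf p M) ∧ L ⊔ Subgroup.centralizer (((Cfsg.largestPReducedOf p L) : Subgroup H) : Set H) = Ls ⊔ Subgroup.centralizer (((Cfsg.largestPReducedOf p L) : Subgroup H) : Set H) := by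
  have hpar : ∀ X : Subgroup H, (T : Subgroup H) ≤ X → pCoreOf p X ≠ ⊥ → X ∈ charPSubgroups p H := by
    intro X hTX hX
    set O := pCoreOf p X with hO
    have hXN : X ≤ normalizer (O : Set H) := le_normalizer_pCoreOf X
    set N := normalizer (O : Set H) with hN
    have hchar := charPIn_of (hH O (isPGroup_pCoreOf X) hX ⟨T, hTX.trans hXN⟩)
    have hON : pCoreOf p N ≤ O := by
      refine le_pCoreOf ?_ (hXN.trans (le_normalizer_pCoreOf N)) (isPGroup_pCoreOf N)
      exact ((sylow_isSylOf_top T).of_le (hTX.trans hXN) le_top).pCoreOf_le.trans hTX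
    refine mem_charP_iff.mpr ⟨hX, fun x hx => hON (hchar x (centralizer_le_normalizer _ hx) ?_)⟩
    exact centralizer_le (SetLike.coe_subset_coe.mpr hON) hx
  obtain ⟨M, Ls, h1, h2, h3, h4, h5, h6, h7, -, h8⟩ :=
    exists_frakM_above T hpar hTL hL
  exact ⟨M, Ls, h1, h2, h3, h4, h5, h6, h7, h8⟩

end Cfsg.Agent.S2847
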