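import Cfsg.Statements.S2850
import Cfsg.Agent.Lib.LocalStr.Asymmetric

set_option autoImplicit false
open Cfsg

namespace Cfsg.Agent.S2850

open Subgroup CfsgLib CfsgLib.LocalStr

/-- Standing hypotheses: G a finite group, S a Sylow p-subgroup, Q a nontrivial large p-subgroup of G contained in S (C_G(Q) ≤ Q and N_G(U) ≤ N_G(Q) for all nontrivial U ≤ C_G(Q)), and M a subgroup containing S with the basic property (M ∈ 𝔐_G(S)); Y_M denotes the largest p-reduced normal subgroup of M and M† = M·C_G(Y_M). Suppose Y_M is asymmetric in G. Then N_G(L) ≤ N_G(O_p(M)) ≤ M† for every p-subgroup L containing O_p(M); O_p(M) is a weakly closed subgroup of G; for every subgroup L containing O_p(M), L ∩ M† contains a Sylow p-subgroup of L; and two elements of Y_M conjugate in G are conjugate in M. -/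
theorem result {G : Type*} [Group G] [Finite G] {p : ℕ} [Fact p.Prime] (S : Sylow p G) (Q : Subgroup G) (hQp : IsPGroup p ↥Q) (hQ1 : Q ≠ ⊥) (hQS : Q ≤ (S : Subgroup G)) (hQ : Cfsg.IsLarge Q) (M : Subgroup G) (hSM : (S : Subgroup G) ≤ M) (hM : Cfsg.IsInFrakM p M) (hasym : ¬ Cfsg.IsSymmetricIn (Cfsg.largestPReducedOf p M)) : (∀ L : Subgroup G, IsPGroup p ↥L → (Cfsg.pCoreOf p M) ≤ L → Subgroup.normalizer ((L : Subgroup G) : Set G) ≤ Subgroup.normalizer (((Cfsg.pCoreOf p M) : Subgroup G) : Set G) ∧ Subgroup.normalizer (((Cfsg.pCoreOf p M) : Subgroup G) : Set G) ≤ (M ⊔ Subgroup.centralizer (((Cfsg.largestPReducedOf p M) : Subgroup G) : Set G))) ∧ Cfsg.IsWeaklyClosedSubgroup p (Cfsg.pCoreOf p M) ∧ (∀ L : Subgroup G, (Cfsg.pCoreOf p M) ≤ L → Cfsg.IsParabolic p ((L ⊓ (M ⊔ Subgroup.centralizer (((Cfsg.largestPReducedOf p M) : Subgroup G) : Set G))).subgroupOf L)) ∧ (∀ x ∈ (Cfsg.largestPReducedOf p M), ∀ g : G, g * x * g⁻¹ ∈ (Cfsg.largestPReducedOf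 p M) → ∃ m ∈ M, m * x * m⁻¹ = g * x * g⁻¹) := by
  have hwc := pCoreOf_wc_of_asymmetric hQ hQp hQ1 S hQS hSM hM hasym
  refine ⟨fun L hL hPL => ⟨wc_normalizer_le hwc hL hPL,
    normalizer_pCoreOf_le_dagger hQ hQp hQ1 S hQS hSM hM⟩, hwc, fun L hPL => ?_, ?_⟩
  · obtain ⟨U, hU, -, hUD⟩ := exists_sylOf_le_dagger hQ hQp hQ1 S hQS hSM hM hasym hPL
    obtain ⟨T, rfl⟩ := hU.exists_sylow
    exact ⟨T, fun x hx => mem_subgroupOf.mpr ⟨x.2, hUD ⟨x, hx, rfl⟩⟩⟩
  · intro x hx g hgx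
    set P := pCoreOf p M with hP
    set Y := largestPReducedOf p M with hY
    have hPC : P ≤ centralizer (Y : Set G) := (pRedIn_largest M).pCoreOf_le_centralizer
    have h1 : P.map (MulAut.conj g).toMonoidHom ≤ centralizer ({g * x * g⁻¹} : Set G) := by
      rintro _ ⟨y, hy, rfl⟩
      refine mem_centralizer_singleton_iff.mpr ?_
      show MulAut.conj g y * MulAut.conj g x = MulAut.conj g x * MulAut.conj g y
      rw [← map_mul, ← map_mul, mem_centralizer_iff.mp (hPC hy) x hx]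
    have h2 : P ≤ centralizer ({g * x * g⁻¹} : Set G) :=
      hPC.trans (centralizer_le (Set.singleton_subset_iff.mpr hgx))
    obtain ⟨k, hk, hkP⟩ := wc_conj_in_subgroup hwc h2 h1
    have hn : k⁻¹ * g ∈ daggerOf p M :=
      normalizer_pCoreOf_le_dagger hQ hQp hQ1 S hQS hSM hM (map_conj_eq_iff.mp (by
        rw [← map_conj_conj, ← hP, hkP, map_conj_inv_conj]))
    rw [← SetLike.mem_coe, coe_mul_of_left_le_normalizer_right _ _
      (LocalEven.le_normalizer_centralizer' (pRedIn_largest M).norm)] at hn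
    obtain ⟨m, hm, c, hc, hmc⟩ := Set.mem_mul.mp hn
    refine ⟨m, hm, ?_⟩
    have e1 : c * x * c⁻¹ = x := by
      rw [← mem_centralizer_iff.mp hc x hx, mul_inv_cancel_right]
    have e2 : k⁻¹ * (g * x * g⁻¹) * k = g * x * g⁻¹ := by
      rw [mul_assoc, ← mem_centralizer_singleton_iff.mp hk, inv_mul_cancel_left]
    calc m * x * m⁻¹ = (m * c) * x * (m * c)⁻¹ := by
          conv_lhs => rw [← e1]
          group
      _ = k⁻¹ * (g * x * g⁻¹) * k := by rw [hmc]; group
      _ = g * x * g⁻¹ := e2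

end Cfsg.Agent.S2850
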