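import Cfsg.Statements.S2851
import Cfsg.Agent.Lib.LocalStr.FittingDetect

set_option autoImplicit false
open Cfsg

namespace Cfsg.Agent.S2851

open Subgroup CfsgLib CfsgLib.LocalStr
open CfsgLib.LocalEven (IsSylOf)

/-- Standing hypotheses: G a finite group, S a Sylow p-subgroup, Q a nontrivial large p-subgroup of G contained in S, M a subgroup containing S with the basic property (M ∈ 𝔐_G(S)); Y_M the largest p-reduced normal subgroup of M and M† = M·C_G(Y_M). Let F be the preimage in M† of the generalized Fitting subgroup of M†/C_{M†}(Y_M). If Y_M is asymmetric in G and H is a subgroup of characteristic p containing F, then Y_M ≤ Y_H. -/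
theorem result {G : Type*} [Group G] [Finite G] {p : ℕ} [Fact p.Prime] (S : Sylow p G) (Q : Subgroup G) (hQp : IsPGroup p ↥Q) (hQ1 : Q ≠ ⊥) (hQS : Q ≤ (S : Subgroup G)) (hQ : Cfsg.IsLarge Q) (M : Subgroup G) (hSM : (S : Subgroup G) ≤ M) (hM : Cfsg.IsInFrakM p M) (hasym : ¬ Cfsg.IsSymmetricIn (Cfsg.largestPReducedOf p M)) [hn : ((Subgroup.centralizer (((Cfsg.largestPReducedOf p M) : Subgroup G) : Set G)).subgroupOf (M ⊔ Subgroup.centralizer (((Cfsg.largestPReducedOf p M) : Subgroup G) : Set G))).Normal] (F : Subgroup G) (hF : F = ((Cfsg.generalizedFittingSubgroup (↥(M ⊔ Subgroup.centralizer (((Cfsg.largestPReducedOf p M) : Subgroup G) : Set G)) ⧸ (Subgroup.centralizer (((Cfsg.largestPReducedOf p M) : Subgroup G) : Set G)).subgroupOf (M ⊔ Subgroup.centralizer (((Cfsg.largestPReducedOf p M) : Subgroup G) : Set G)))).comap (QuotientGroup.mk' ((Subgroup.centralizer (((Cfsg.largestPReducedOf p M) : Subgroup G) : Set G)).subgroupOf (M ⊔ Subgroup.centralizer (((Cfsg.largestPReducedOf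 p M) : Subgroup G) : Set G))))).map ((M ⊔ Subgroup.centralizer (((Cfsg.largestPReducedOf p M) : Subgroup G) : Set G))).subtype) (H : Subgroup G) (hFH : F ≤ H) (hH : Subgroup.centralizer (Cfsg.pCore p ↥H : Set ↥H) ≤ Cfsg.pCore p ↥H) : (Cfsg.largestPReducedOf p M) ≤ Cfsg.largestPReducedOf p H := by
  set Y := largestPReducedOf p M with hY
  set C := centralizer (Y : Set G) with hC
  set D := daggerOf p M with hD
  set P := pCoreOf p M with hP
  have hwc := pCoreOf_wc_of_asymmetric hQ hQp hQ1 S hQS hSM hM hasym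
  have hND := normalizer_pCoreOf_le_dagger hQ hQp hQ1 S hQS hSM hM
  have hCF : C ≤ F := by
    rw [hF]
    intro x hx
    refine ⟨⟨x, mem_sup_right hx⟩, mem_comap.mpr ?_, rfl⟩
    rw [QuotientGroup.mk'_apply, (QuotientGroup.eq_one_iff _).mpr (mem_subgroupOf.mpr hx)]
    exact one_mem _
  have hPC : P ≤ C := (pRedIn_largest M).pCoreOf_le_centralizer
  have hPH : P ≤ H := hPC.trans (hCF.trans hFH)
  have hYC : Y ≤ C := ((pRedIn_largest M).le_pCoreOf).trans hPC
  have hYH : Y ≤ H := hYC.trans (hCF.trans hFH)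
  set O := pCoreOf p H with hO
  have hFn : ∀ A : Subgroup G, H ≤ normalizer (A : Set G) → A ≤ D →
      LocalEven.IsPMod p C A → A ≤ C := fun A hA hAD hm =>
    le_centralizer_of_genFitting hM hAD hm (hF ▸ hFH.trans hA)
  -- `O_p(H) ≤ C(Y)` and `Y ≤ Z(O_p(H))`
  have hOD : O ≤ D := by
    refine le_trans ?_ hND
    exact le_sup_left.trans (wc_le_normalizer hwc (Components.isPGroup_sup (isPGroup_pCoreOf M)
      (isPGroup_pCoreOf H) (hPH.trans (le_normalizer_pCoreOf H)) |>
        fun h => sup_comm (a := P) (b := O) ▸ h) le_sup_right)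
  have hOC : O ≤ C := hFn O (le_normalizer_pCoreOf H) hOD
    (LocalEven.IsPGroup.isPMod (isPGroup_pCoreOf H) _)
  set Z := O ⊓ centralizer (O : Set G) with hZ
  have hYZ : Y ≤ Z := by
    have h1 : Y ≤ centralizer (O : Set G) := le_centralizer_iff.mp hOC
    exact le_inf (fun y hy => charPIn_of hH y (hYH hy) (h1 hy)) h1
  have hHZ : H ≤ normalizer (Z : Set G) := LocalEven.le_normalizer_inf (le_normalizer_pCoreOf H)
    (LocalEven.le_normalizer_centralizer' (le_normalizer_pCoreOf H))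
  set X := sSup {B : Subgroup G | ∃ h ∈ H, B = Y.map (MulAut.conj h).toMonoidHom} with hX
  have hXZ : X ≤ Z := by
    refine sSup_le ?_
    rintro B ⟨h, hh, rfl⟩
    exact (map_mono hYZ).trans (map_conj_eq_iff.mpr (hHZ hh)).le
  have hXH : H ≤ normalizer (X : Set G) := by
    intro h hh
    refine map_conj_eq_iff.mp (eq_of_le_of_card_ge ?_ (Components.card_map_conj h X).ge)
    rw [map_le_iff_le_comap, hX]
    refine sSup_le ?_
    rintro B ⟨a, ha, rfl⟩
    rw [← map_le_iff_le_comap, map_conj_conj]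
    exact le_sSup ⟨h * a, mul_mem hh ha, rfl⟩
  have hYX : Y ≤ X := le_sSup ⟨1, one_mem H, (LocalEven.cj_one Y).symm⟩
  have hXe : IsElementaryAbelian p X := by
    refine LocalEven.elemAb_sSup ?_ ?_
    · rintro B ⟨h, -, rfl⟩ _ ⟨y, hy, rfl⟩
      rw [← map_pow, (pRedIn_largest M).elem.2 y hy, map_one]
    · rintro B ⟨a, ha, rfl⟩ E ⟨b, hb, rfl⟩ u hu v hv
      have hu' := hXZ (le_sSup (s := {B : Subgroup G | ∃ h ∈ H, B = Y.map (MulAut.conj h).toMonoidHom})
        ⟨a, ha, rfl⟩ hu)
      have hv' := hXZ (le_sSup (s := {B : Subgroup G | ∃ h ∈ H, B = Y.map (MulAut.conj h).toMonoidHom})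
        ⟨b, hb, rfl⟩ hv)
      exact (mem_centralizer_iff.mp hu'.2 v hv'.1).symm
  refine hYX.trans (le_largest ⟨(hXZ.trans inf_le_left).trans (pCoreOf_le H), hXH, hXe,
    fun N hNH hN hm => ?_⟩)
  have hmC : LocalEven.IsPMod p C N := fun x hx => by
    obtain ⟨k, hk⟩ := hm x hx
    exact ⟨k, centralizer_le (SetLike.coe_subset_coe.mpr hYX) hk⟩
  have hND' : N ⊓ D ≤ C := by
    refine le_centralizer_of_genFitting hM inf_le_right (fun x hx => hmC x hx.1) ?_
    rw [← hF]
    refine LocalEven.le_normalizer_inf (hFH.trans hN) ?_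
    rw [hF]
    exact (map_subtype_le _).trans le_normalizer
  have hNC : N ≤ C := by
    obtain ⟨U, hU, -, hUD⟩ := exists_sylOf_le_dagger hQ hQp hQ1 S hQS hSM hM hasym
      (L := N ⊔ P) le_sup_right
    have hUN := hU.inf_normal (L := N) le_sup_left (sup_le le_normalizer (hPH.trans hN))
    rw [← pRes_sup_of_isSylOf hUN]
    refine sup_le (pRes_le_iff.mpr fun x hx hc => ?_) (le_trans (le_inf inf_le_right
      (inf_le_left.trans hUD)) hND')
    obtain ⟨k, hk⟩ := hmC x hx
    exact coprime_of_mem_pRes_of_pGroup (k := k) hc hk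
  refine le_centralizer_iff.mp (sSup_le ?_)
  rintro B ⟨h, hh, rfl⟩
  refine le_centralizer_iff.mp ?_
  have h2 := (map_mono (f := (MulAut.conj h).toMonoidHom) hNC).trans
    (LocalEven.cj_centralizer h Y).le
  rwa [map_conj_eq_iff.mpr (hN hh)] at h2

end Cfsg.Agent.S2851
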