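import Cfsg.Statements.S2852
import Cfsg.Agent.Lib.LocalStr.Asymmetric

set_option autoImplicit false
open Cfsg

namespace Cfsg.Agent.S2852

open Subgroup CfsgLib CfsgLib.LocalStr

/-- Standing hypotheses: G a finite group, S a Sylow p-subgroup, Q a nontrivial large p-subgroup of G contained in S, M a subgroup containing S with the basic property (M ∈ 𝔐_G(S)); Y_M the largest p-reduced normal subgroup of M. If Y_M is char-p-tall and asymmetric in G, then some subgroup H of G lies in ℌ_G(O_p(M)): H has characteristic p, O_p(M) ≤ H, Y_M ≰ O_p(H), and Y_M ≤ O_p(P) for every proper subgroup P of H containing O_p(M). -/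
theorem result {G : Type*} [Group G] [Finite G] {p : ℕ} [Fact p.Prime] (S : Sylow p G) (Q : Subgroup G) (hQp : IsPGroup p ↥Q) (hQ1 : Q ≠ ⊥) (hQS : Q ≤ (S : Subgroup G)) (hQ : Cfsg.IsLarge Q) (M : Subgroup G) (hSM : (S : Subgroup G) ≤ M) (hM : Cfsg.IsInFrakM p M) (htall : Cfsg.IsCharPTall p (Cfsg.largestPReducedOf p M)) (hasym : ¬ Cfsg.IsSymmetricIn (Cfsg.largestPReducedOf p M)) : ∃ H : Subgroup G, Cfsg.IsInFrakH p M H := by
  set Y := largestPReducedOf p M with hY
  set P := pCoreOf p M with hP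
  obtain ⟨T, L, hTL, hL, hYL⟩ := htall
  have hsyl : LocalEven.IsSylOf p P (centralizer (Y : Set G)) := by
    rw [hP, pCoreOf_eq_inf_centralizer S hSM hM]
    exact inf_centralizer_isSylOf S (hSM.trans (pRedIn_largest M).norm)
  obtain ⟨c, hc, hcT⟩ := (LocalEven.Sylow.isSylOf T).exists_conj hsyl
  set L' := LocalEven.cj c L with hL'
  have hcY : LocalEven.cj c Y = Y :=
    map_conj_eq_iff.mpr (centralizer_le_normalizer _ hc)
  have hPL : P ≤ L' := hcT.ge.trans (LocalEven.cj_le_cj hTL)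
  have hYL' : ¬ Y ≤ pCoreOf p L' := by
    intro h
    refine hYL ?_
    rw [← hcY, hL', ← LocalEven.pCoreOf_cj] at h
    exact (map_le_map_iff_of_injective (MulAut.conj c).injective).mp h
  have hL'c : centralizer (pCore p ↥L' : Set ↥L') ≤ pCore p ↥L' := by
    refine centralizer_pCore_le_iff.mpr fun x hx hxc => ?_
    rw [hL', ← LocalEven.pCoreOf_cj] at hxc ⊢
    obtain ⟨y, hy, rfl⟩ := hx
    refine mem_map_of_mem _ (charPIn_of hL y hy (mem_centralizer_iff.mpr fun z hz => ?_))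
    refine (MulAut.conj c).injective ?_
    rw [map_mul, map_mul]
    exact mem_centralizer_iff.mp hxc _ (mem_map_of_mem _ hz)
  obtain ⟨H, hHL, hH⟩ := exists_minimal_le_of_wellFoundedLT
    (fun H : Subgroup G => P ≤ H ∧ ¬ Y ≤ pCoreOf p H) L' ⟨hPL, hYL'⟩
  refine ⟨H, charP_of_le_charP (pCoreOf_wc_of_asymmetric hQ hQp hQ1 S hQS hSM hM hasym)
    (mem_charP_iff.mp hM.1).2 hL'c hH.prop.1 hHL, hH.prop.1, hH.prop.2, fun X hX hlt => ?_⟩
  by_contra hn
  exact hlt.not_ge (hH.2 ⟨hX, hn⟩ hlt.le)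

end Cfsg.Agent.S2852
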