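import Cfsg.Statements.S2853
import Cfsg.Agent.Lib.LocalStr.Asymmetric

set_option autoImplicit false
open Cfsg

namespace Cfsg.Agent.S2853

open Subgroup CfsgLib CfsgLib.LocalStr

/-- Standing hypotheses: G a finite group, S a Sylow p-subgroup, Q a nontrivial large p-subgroup of G contained in S, M a subgroup containing S with the basic property (M ∈ 𝔐_G(S)); Y_M the largest p-reduced normal subgroup of M and M† = M·C_G(Y_M). Suppose Y_M is char-p-tall and asymmetric in G and H ∈ ℌ_G(O_p(M)). Then every Sylow p-subgroup of H ∩ M† is a Sylow p-subgroup of H; O_p(H) normalizes O_p(M) and Y_M; O^p(H) = [O^p(H), Y_M] and H = O^p(H)·O_p(M); O^p(H)·Y_M is the normal closure of Y_M in H; and H is the normal closure of O_p(M) in H. Here O^p(H) is the subgroup generated by the elements of H of order prime to p. -/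
theorem result {G : Type*} [Group G] [Finite G] {p : ℕ} [Fact p.Prime] (S : Sylow p G) (Q : Subgroup G) (hQp : IsPGroup p ↥Q) (hQ1 : Q ≠ ⊥) (hQS : Q ≤ (S : Subgroup G)) (hQ : Cfsg.IsLarge Q) (M : Subgroup G) (hSM : (S : Subgroup G) ≤ M) (hM : Cfsg.IsInFrakM p M) (htall : Cfsg.IsCharPTall p (Cfsg.largestPReducedOf p M)) (hasym : ¬ Cfsg.IsSymmetricIn (Cfsg.largestPReducedOf p M)) (H : Subgroup G) (hH : Cfsg.IsInFrakH p M H) (R : Subgroup G) (hR : R = (Cfsg.pResidual p ↥H).map H.subtype) : (∀ T : Sylow p ↥(H ⊓ (M ⊔ Subgroup.centralizer (((Cfsg.largestPReducedOf p M) : Subgroup G) : Set G))), ∃ P : Sylow p ↥H, ((P : Subgroup ↥H).map H.subtype) = (T : Subgroup ↥(H ⊓ (M ⊔ Subgroup.centralizer (((Cfsg.largestPReducedOf p M) : Subgroup G) : Set G)))).map (H ⊓ (M ⊔ Subgroup.centralizer (((Cfsg.largestPReducedOf p M) : Subgroup G) : Set G))).subtype) ∧ Cfsg.pCoreOf p H ≤ Subgroup.normalizer (((Cfsg.pCoreOf p M) : Subgroup G) : Set G) ⊓ Subgroup.normalizer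 (((Cfsg.largestPReducedOf p M) : Subgroup G) : Set G) ∧ ⁅R, (Cfsg.largestPReducedOf p M)⁆ = R ∧ R ⊔ (Cfsg.pCoreOf p M) = H ∧ R ⊔ (Cfsg.largestPReducedOf p M) = (Subgroup.normalClosure ((((Cfsg.largestPReducedOf p M)).subgroupOf H : Subgroup ↥H) : Set ↥H)).map H.subtype ∧ (Subgroup.normalClosure ((((Cfsg.pCoreOf p M)).subgroupOf H : Subgroup ↥H) : Set ↥H)).map H.subtype = H := by
  subst hR
  have hwc := pCoreOf_wc_of_asymmetric hQ hQp hQ1 S hQS hSM hM hasym
  obtain ⟨hRP, hWR, hcl⟩ := frakH_structure hH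
  obtain ⟨-, hPH, hY, hprop⟩ := hH
  set Y := largestPReducedOf p M with hYdef
  set P := pCoreOf p M with hP
  have hYP : Y ≤ P := (pRedIn_largest M).le_pCoreOf
  have hYH : Y ≤ H := hYP.trans hPH
  have hON : pCoreOf p H ≤ normalizer (P : Set G) := by
    refine le_trans le_sup_left (wc_le_normalizer hwc ?_ le_sup_right)
    rw [sup_comm]
    exact Components.isPGroup_sup (isPGroup_pCoreOf M) (isPGroup_pCoreOf H)
      (hPH.trans (le_normalizer_pCoreOf H))
  refine ⟨fun T => ?_, le_inf hON ?_, hWR, hRP, le_antisymm (sup_le ?_ ?_) ?_, ?_⟩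
  · obtain ⟨U, hU, -, hUD⟩ := exists_sylOf_le_dagger hQ hQp hQ1 S hQS hSM hM hasym hPH
    have hT := LocalEven.Sylow.isSylOf T
    have hU' := hU.of_le (C := H ⊓ daggerOf p M) (le_inf hU.1 hUD) inf_le_left
    have hT' : LocalEven.IsSylOf p ((T : Subgroup ↥(H ⊓ daggerOf p M)).map (H ⊓ daggerOf p M).subtype) H :=
      ⟨hT.1.trans inf_le_left, by rw [hT.2, ← hU'.2, hU.2]⟩
    obtain ⟨Pp, hPp⟩ := hT'.exists_sylow
    exact ⟨Pp, hPp.symm⟩
  · exact hON.trans ((normalizer_pCoreOf_le_dagger hQ hQp hQ1 S hQS hSM hM).trans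
      (daggerOf_le_normalizer M))
  · refine hWR.ge.trans ?_
    rw [commutator_le]
    intro r hr y hy
    have hrH : r ∈ H := pRes_le H hr
    refine ⟨(⟨r, hrH⟩ : H) * ⟨y, hYH hy⟩ * ⟨r, hrH⟩⁻¹ * ⟨y, hYH hy⟩⁻¹, ?_, rfl⟩
    exact mul_mem (normalClosure_normal.conj_mem _ (subset_normalClosure (mem_subgroupOf.mpr hy)) _)
      (inv_mem (subset_normalClosure (mem_subgroupOf.mpr hy)))
  · exact (map_subgroupOf_eq_of_le hYH).ge.trans (map_mono subset_normalClosure)
  · rw [map_le_iff_le_comap]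
    have hn : (comap H.subtype (pRes p H ⊔ Y)).Normal := subgroupOf_normal hcl
    exact @normalClosure_le_normal _ _ _ _ hn (comap_mono le_sup_right)
  · by_contra hne
    set N := (normalClosure ((P.subgroupOf H : Subgroup H) : Set H)).map H.subtype with hN
    have hPN : P ≤ N := (map_subgroupOf_eq_of_le hPH).ge.trans (map_mono subset_normalClosure)
    exact hY ((hprop N hPN (lt_of_le_of_ne (map_subtype_le _) hne)).trans
      (pCoreOf_le_pCoreOf_of_normal (map_subtype_le _) (map_subtype_le_normalizer normalClosure_normal)))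

end Cfsg.Agent.S2853
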