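import Cfsg.Statements.S2854
import Cfsg.Agent.Lib.LocalStr.Asymmetric
import Cfsg.Agent.Lib.LocalStr.QuotientTrick

set_option autoImplicit false
open Cfsg

namespace Cfsg.Agent.S2854

open Subgroup CfsgLib CfsgLib.LocalStr
open CfsgLib.LocalEven (IsSylOf)
open scoped commutatorElement

/-- Standing hypotheses: G a finite group, S a Sylow p-subgroup, Q a nontrivial large p-subgroup of G contained in S, M a subgroup containing S with the basic property (M ∈ 𝔐_G(S)); Y_M the largest p-reduced normal subgroup of M and M† = M·C_G(Y_M). Suppose Y_M is asymmetric in G, H ∈ ℌ_G(O_p(M)), and H ≤ N_G(gQg⁻¹) for some g ∈ G. Then gQg⁻¹ ≤ O_p(H·gQg⁻¹) ≤ N_G(O_p(M)) ≤ N_G(Y_M) = M†; H is normal in H·gQg⁻¹ with O^p(H) = O^p(H·gQg⁻¹); and H·gQg⁻¹ is p-irreducible. -/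
theorem result {G : Type*} [Group G] [Finite G] {p : ℕ} [Fact p.Prime] (S : Sylow p G) (Q : Subgroup G) (hQp : IsPGroup p ↥Q) (hQ1 : Q ≠ ⊥) (hQS : Q ≤ (S : Subgroup G)) (hQ : Cfsg.IsLarge Q) (M : Subgroup G) (hSM : (S : Subgroup G) ≤ M) (hM : Cfsg.IsInFrakM p M) (hasym : ¬ Cfsg.IsSymmetricIn (Cfsg.largestPReducedOf p M)) (H : Subgroup G) (hH : Cfsg.IsInFrakH p M H) (g : G) (hHQ : H ≤ Subgroup.normalizer ((((Q : Subgroup G).map (MulAut.conj (g : G)).toMonoidHom) : Subgroup G) : Set G)) : ((Q : Subgroup G).map (MulAut.conj (g : G)).toMonoidHom) ≤ Cfsg.pCoreOf p (H ⊔ ((Q : Subgroup G).map (MulAut.conj (g : G)).toMonoidHom)) ∧ Cfsg.pCoreOf p (H ⊔ ((Q : Subgroup G).map (MulAut.conj (g : G)).toMonoidHom)) ≤ Subgroup.normalizer (((Cfsg.pCoreOf p M) : Subgroup G) : Set G) ∧ Subgroup.normalizer (((Cfsg.pCoreOf p M) : Subgroup G) : Set G) ≤ Subgroup.normalizer (((Cfsg.largestPReducedOf p M) : Subgroup G) : Set G) ∧ Subgroup.normalizer (((Cfsg.largestPReducedOf p M) : Subgroup G) : Set G) =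 (M ⊔ Subgroup.centralizer (((Cfsg.largestPReducedOf p M) : Subgroup G) : Set G)) ∧ (H.subgroupOf (H ⊔ ((Q : Subgroup G).map (MulAut.conj (g : G)).toMonoidHom))).Normal ∧ (Cfsg.pResidual p ↥H).map H.subtype = (Cfsg.pResidual p ↥(H ⊔ ((Q : Subgroup G).map (MulAut.conj (g : G)).toMonoidHom))).map (H ⊔ ((Q : Subgroup G).map (MulAut.conj (g : G)).toMonoidHom)).subtype ∧ Cfsg.IsPIrreducible p ↥(H ⊔ ((Q : Subgroup G).map (MulAut.conj (g : G)).toMonoidHom)) := by
  set Qg := Q.map (MulAut.conj g).toMonoidHom with hQg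
  set J := H ⊔ Qg with hJ
  set Y := largestPReducedOf p M with hYdef
  set P := pCoreOf p M with hP
  have hwc := pCoreOf_wc_of_asymmetric hQ hQp hQ1 S hQS hSM hM hasym
  obtain ⟨hRP, hWR, hcl⟩ := frakH_structure hH
  obtain ⟨-, hPH, hY, hprop⟩ := hH
  set R := pRes p H with hR
  have hND := normalizer_pCoreOf_le_dagger hQ hQp hQ1 S hQS hSM hM
  have hPNY : normalizer (P : Set G) ≤ normalizer (Y : Set G) :=
    hND.trans (daggerOf_le_normalizer M)
  have hYP : Y ≤ P := (pRedIn_largest M).le_pCoreOf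
  have hHJ : H ≤ J := le_sup_left
  have hQgp : IsPGroup p Qg := hQp.map _
  have hQgn : J ≤ normalizer (Qg : Set G) := sup_le hHQ le_normalizer
  have hQgO : Qg ≤ pCoreOf p J := le_pCoreOf le_sup_right hQgn hQgp
  have hON : pCoreOf p J ≤ normalizer (P : Set G) := by
    refine le_trans le_sup_left (wc_le_normalizer hwc ?_ le_sup_right)
    rw [sup_comm]
    exact Components.isPGroup_sup (isPGroup_pCoreOf M) (isPGroup_pCoreOf J)
      ((hPH.trans hHJ).trans (le_normalizer_pCoreOf J))
  have hQgP : Qg ≤ normalizer (P : Set G) := hQgO.trans hON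
  -- `H` is normal in `J`
  set X := (normalClosure ((Y.subgroupOf H : Subgroup H) : Set H)).map H.subtype with hX
  have hXR : X ≤ R ⊔ Y := by
    rw [hX, map_le_iff_le_comap]
    have hn : (comap H.subtype (R ⊔ Y)).Normal := subgroupOf_normal hcl
    exact @normalClosure_le_normal _ _ _ _ hn (comap_mono le_sup_right)
  have hYX : Y ≤ X :=
    (map_subgroupOf_eq_of_le (hYP.trans hPH)).ge.trans (map_mono subset_normalClosure)
  have hRX : R ≤ X := by
    refine hWR.ge.trans ?_
    rw [commutator_le]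
    intro r hr y hy
    rw [show ⁅r, y⁆ = r * y * r⁻¹ * y⁻¹ from commutatorElement_def r y]
    exact mul_mem ((mem_normalizer_iff.mp
      (map_subtype_le_normalizer normalClosure_normal (pRes_le H hr)) y).mp (hYX hy))
      (inv_mem (hYX hy))
  have hXeq : X = R ⊔ Y := le_antisymm hXR (sup_le hRX hYX)
  have hQgX : Qg ≤ normalizer (X : Set G) := by
    rw [le_normalizer_iff_map_le]
    intro q hq
    rw [hX]
    conv_lhs => rw [normalClosure, MonoidHom.map_closure, MonoidHom.map_closure]
    rw [closure_le]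
    rintro _ ⟨_, ⟨z, hz, rfl⟩, rfl⟩
    obtain ⟨y, hy, hyz⟩ := Group.mem_conjugatesOfSet_iff.mp hz
    obtain ⟨c, rfl⟩ := isConj_iff.mp hyz
    have h1 : (c : G)⁻¹ * q * c ∈ Qg := (mem_normalizer_iff''.mp (hHQ c.2) q).mp hq
    have h2 := (mem_normalizer_iff.mp (hPNY (hQgP h1)) (y : G)).mp (mem_subgroupOf.mp hy)
    refine ⟨c * ⟨(c : G)⁻¹ * q * c * y * ((c : G)⁻¹ * q * c)⁻¹, hYP.trans hPH h2⟩ * c⁻¹, ?_, ?_⟩
    · exact normalClosure_normal.conj_mem _ (subset_normalClosure (mem_subgroupOf.mpr h2)) c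
    · show (c : G) * ((c : G)⁻¹ * q * c * y * ((c : G)⁻¹ * q * c)⁻¹) * (c : G)⁻¹ =
        q * ((c : G) * y * (c : G)⁻¹) * q⁻¹
      group
  have hRX' : pRes p X = R := by
    rw [hXeq, pRes_sup_pGroup (pRedIn_largest M).isPGroup
      ((hYP.trans hPH).trans (le_normalizer_pRes_self H)), hR, pRes_pRes]
  have hQgR : Qg ≤ normalizer (R : Set G) := hRX' ▸ le_normalizer_pRes hQgX
  have hHn : J ≤ normalizer (H : Set G) := by
    refine sup_le le_normalizer (le_normalizer_iff_map_le.mpr fun q hq => ?_)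
    rw [← hRP, Subgroup.map_sup, map_conj_eq_iff.mpr (hQgR hq), map_conj_eq_iff.mpr (hQgP hq)]
  have hres : pRes p J = R := pRes_sup_pGroup hQgp (le_sup_right.trans hHn)
  refine ⟨hQgO, hON, hPNY, normalizer_largest_eq hQ hQp hQ1 S hQS hSM hM, subgroupOf_normal hHn,
    hres.symm, fun hcl' => hY ?_, fun N hN hNc => ?_⟩
  · have h1 : IsPClosed p ↥H :=
      (isPClosed_mulEquiv (subgroupOfEquivOfLe hHJ)).mp
        (isPClosed_of_le (le_top : H.subgroupOf J ≤ ⊤) ((isPClosed_mulEquiv topEquiv).mpr hcl'))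
    refine (map_subgroupOf_eq_of_le (hYP.trans hPH)).ge.trans ?_
    exact map_mono (isPClosed_iff_le_pCore.mp h1 _
      ((pRedIn_largest M).isPGroup.of_equiv (subgroupOfEquivOfLe (hYP.trans hPH)).symm))
  · suffices h : R ≤ N.map J.subtype by
      refine (map_le_map_iff_of_injective J.subtype_injective).mp ?_
      exact hres.trans_le h
    by_contra hRN
    set N0 := N.map J.subtype with hN0
    have hN0J : N0 ≤ J := map_subtype_le N
    have hN0n : J ≤ normalizer (N0 : Set G) := map_subtype_le_normalizer hN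
    set K := (N0 ⊓ R) ⊔ P with hK
    have hPn : P ≤ normalizer ((N0 ⊓ R : Subgroup G) : Set G) := LocalEven.le_normalizer_inf
      ((hPH.trans hHJ).trans hN0n) (hPH.trans (le_normalizer_pRes_self H))
    have hKlt : K < H := by
      refine lt_of_le_of_ne (sup_le (inf_le_right.trans (pRes_le H)) hPH) fun h => hRN ?_
      rw [hR, ← h, pRes_sup_pGroup (isPGroup_pCoreOf M) hPn]
      exact (pRes_le _).trans inf_le_left
    have hYK : Y ≤ pCoreOf p K := hprop K le_sup_right hKlt
    set O := pCoreOf p J with hO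
    have hAY : ⁅N0 ⊓ R, Y⁆ ≤ O := by
      have h1 : ⁅N0 ⊓ R, Y⁆ ≤ N0 ⊓ R :=
        le_normalizer_iff_commutator_le_left.mp (hYP.trans hPn)
      have h2 : ⁅N0 ⊓ R, Y⁆ ≤ pCoreOf p K := (commutator_mono le_rfl hYK).trans
        (le_normalizer_iff_commutator_le_right.mp (le_sup_left.trans (le_normalizer_pCoreOf K)))
      refine (le_inf h2 h1).trans ((pCoreOf_inf_le le_sup_left).trans
        (pCoreOf_le_pCoreOf_of_normal (inf_le_left.trans hN0J) ?_))
      exact LocalEven.le_normalizer_inf hN0n (hres ▸ le_normalizer_pRes_self J)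
    -- a Sylow subgroup of `J` above `P`
    obtain ⟨T, hT, hPT⟩ := LocalEven.exists_isSylOf_ge (isPGroup_pCoreOf M) (hPH.trans hHJ)
    have hTN : T ≤ normalizer (P : Set G) := wc_le_normalizer hwc hT.isPGroup hPT
    set U := T ⊓ N0 with hU
    have hUN := hT.inf_normal hN0J hN0n
    -- into the quotient
    set f := QuotientGroup.mk' (pCore p ↥J) with hf
    have hsurj : Function.Surjective f := QuotientGroup.mk'_surjective _
    let im : Subgroup G → Subgroup (↥J ⧸ pCore p ↥J) := fun A => (A.subgroupOf J).map f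
    have him_bot : ∀ {A : Subgroup G}, A ≤ J → (im A = ⊥ ↔ A ≤ O) := fun {A} hA => by
      rw [Subgroup.map_eq_bot_iff, hf, QuotientGroup.ker_mk']
      refine ⟨fun h => ?_, fun h x hx => (mem_pCoreOf x.2).mp (h hx)⟩
      rw [← map_subgroupOf_eq_of_le hA]
      exact map_mono h
    have him_comm : ∀ {A B : Subgroup G}, A ≤ J → B ≤ J →
        ∀ {C : Subgroup G}, ⁅A, B⁆ ≤ C → ⁅im A, im B⁆ ≤ im C := fun {A B} _ _ {C} h => by
      rw [← map_commutator]
      refine map_mono ?_
      rw [commutator_le]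
      intro a ha b hb
      exact mem_subgroupOf.mpr (h (commutator_mem_commutator ha hb))
    have hnorm : ∀ {A : Subgroup G}, J ≤ normalizer (A : Set G) → (im A).Normal :=
      fun h => (subgroupOf_normal h).map f hsurj
    have hnormT : ∀ {A : Subgroup G}, T ≤ normalizer (A : Set G) →
        im T ≤ normalizer (im A : Set _) := fun h =>
      (map_mono ((comap_mono h).trans (le_normalizer_comap J.subtype))).trans (le_normalizer_map f)
    have hpg : ∀ {A : Subgroup G}, IsPGroup p A → IsPGroup p (im A) := fun h =>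
      (h.comap_of_injective _ J.subtype_injective).map f
    have hsup : ∀ {A B : Subgroup G}, A ≤ J → B ≤ J → im (A ⊔ B) = im A ⊔ im B := fun hA hB => by
      show _ = (_ : Subgroup _).map f ⊔ (_ : Subgroup _).map f
      rw [← Subgroup.map_sup, ← subgroupOf_sup hA hB]
    have hQbot : pCore p (↥J ⧸ pCore p ↥J) = ⊥ := by
      rw [← map_comap_eq_self_of_surjective hsurj (pCore p (↥J ⧸ pCore p ↥J)), hf,
        pCore_quotient _ (Components.isPGroup_pCore p), Subgroup.map_eq_bot_iff, QuotientGroup.ker_mk']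
    have hYJ : Y ≤ J := (hYP.trans hPH).trans hHJ
    have hRJ : R ≤ J := hres ▸ pRes_le J
    haveI := hnorm (A := R) (hres ▸ le_normalizer_pRes_self J)
    haveI := hnorm (A := N0) hN0n
    haveI := hnorm (A := N0 ⊓ R)
      (LocalEven.le_normalizer_inf hN0n (hres ▸ le_normalizer_pRes_self J))
    have hUbot : im U = ⊥ := by
      refine eq_bot_of_centralizing (R := im R) (T := im T) (Y := im Y) (N := im N0)
        (A := im (N0 ⊓ R)) (V := im (Y ⊓ N0)) hQbot ?_ ?_ (map_mono (comap_mono inf_le_right))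
        ?_ ?_ (map_mono (comap_mono inf_le_right))
        (hpg ((pRedIn_largest M).isPGroup.to_le inf_le_left)) ?_
        (hnormT (LocalEven.le_normalizer_inf (hTN.trans hPNY) (hT.1.trans hN0n))) ?_ ?_
        (hpg hUN.isPGroup) (map_mono (comap_mono inf_le_right))
        (hnormT (LocalEven.le_normalizer_inf le_normalizer (hT.1.trans hN0n)))
      · rw [← hsup hRJ hT.1, ← hres, pRes_sup_of_isSylOf hT]
        show (J.subgroupOf J).map f = ⊤
        rw [subgroupOf_self, map_top_of_surjective f hsurj]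
      · refine ((map_mono ?_).trans (le_of_eq
          (map_normalClosure ((Y.subgroupOf J : Subgroup J) : Set J) f hsurj))).trans (le_of_eq ?_)
        · refine le_trans (comap_mono hRX) ?_
          intro x hx
          obtain ⟨z, hz, hzx⟩ := (mem_subgroupOf.mp hx : (x : G) ∈ X)
          have h3 : (normalClosure ((Y.subgroupOf H : Subgroup H) : Set H)).map (inclusion hHJ) ≤
              normalClosure ((Y.subgroupOf J : Subgroup J) : Set J) := by
            rw [map_le_iff_le_comap]
            exact normalClosure_le_normal fun y hy => subset_normalClosure (mem_subgroupOf.mpr hy)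
          exact (Subtype.ext hzx : inclusion hHJ z = x) ▸ h3 (mem_map_of_mem _ hz)
        · rfl
      · exact le_bot_iff.mp ((him_comm (inf_le_left.trans hN0J) hYJ hAY).trans
          ((him_bot (pCoreOf_le J)).mpr le_rfl).le)
      · exact him_comm hN0J hRJ (le_inf (le_normalizer_iff_commutator_le_left.mp (hRJ.trans hN0n))
          (le_normalizer_iff_commutator_le_right.mp (hN0J.trans (hres ▸ le_normalizer_pRes_self J))))
      · exact le_bot_iff.mp ((him_comm (inf_le_left.trans hN0J) (inf_le_left.trans hYJ)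
          ((commutator_mono le_rfl inf_le_left).trans hAY)).trans
          ((him_bot (pCoreOf_le J)).mpr le_rfl).le)
      · rw [← hsup (inf_le_left.trans hN0J) (inf_le_right.trans hN0J)]
        refine map_mono (comap_mono ((pRes_sup_of_isSylOf hUN).ge.trans (sup_le_sup_right ?_ _)))
        exact le_inf (pRes_le N0) ((pRes_mono hN0J).trans hres.le)
      · exact him_comm (inf_le_right.trans hN0J) hYJ (le_inf
          (le_normalizer_iff_commutator_le_right.mp ((inf_le_left.trans hTN).trans hPNY))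
          ((commutator_mono inf_le_right le_rfl).trans
            (le_normalizer_iff_commutator_le_left.mp (hYJ.trans hN0n))))
    -- so `N` would be `p`-closed
    refine hNc ?_
    refine (isPClosed_mulEquiv (equivMapOfInjective N _ J.subtype_injective)).mpr ?_
    have hUO : U ≤ pCoreOf p N0 :=
      (le_inf ((him_bot (inf_le_right.trans hN0J)).mp hUbot) inf_le_right).trans (pCoreOf_inf_le hN0J)
    obtain ⟨Us, hUs⟩ := hUN.exists_sylow
    refine (sylow_le_pCore_iff Us).mp fun x hx => ?_
    exact (mem_pCoreOf x.2).mp (hUO (by rw [hU, hUs]; exact mem_map_of_mem N0.subtype hx))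

end Cfsg.Agent.S2854
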