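import Cfsg.Statements.S2855
import Cfsg.Agent.Lib.LocalStr.TransitiveFamily

set_option autoImplicit false
open Cfsg

namespace Cfsg.Agent.S2855

open Subgroup CfsgLib CfsgLib.LocalStr
open CfsgLib.LocalEven (IsSylOf cj)

/-- Let H be a finite group, p a prime, and 𝒦 a nonempty set of subgroups of H permuted transitively by conjugation, with R the subgroup generated by the members of 𝒦. Suppose O^p(H) ≤ R, each E ∈ 𝒦 has E·O_p(H) normal in R·O_p(H), and each E ∈ 𝒦 is p-minimal (generated by the conjugates of a Sylow p-subgroup T_E of E, with T_E in exactly one maximal subgroup of E). Then H is p-minimal in the same sense. If instead each E ∈ 𝒦 is strongly p-irreducible, then H is p-irreducible and, for E, K ∈ 𝒦, either O^p(E·O_p(H)) = O^p(K·O_p(H)) or [E, K] ≤ O_p(H). -/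
theorem result {H : Type*} [Group H] [Finite H] {p : ℕ} [Fact p.Prime] (𝒦 : Set (Subgroup H)) (hne : 𝒦.Nonempty) (hinv : ∀ h : H, ∀ E ∈ 𝒦, E.map (MulAut.conj h).toMonoidHom ∈ 𝒦) (htr : ∀ E ∈ 𝒦, ∀ K ∈ 𝒦, ∃ h : H, K = E.map (MulAut.conj h).toMonoidHom) (hres : Cfsg.pResidual p H ≤ sSup 𝒦) (hnorm : ∀ E ∈ 𝒦, sSup 𝒦 ⊔ Cfsg.pCore p H ≤ Subgroup.normalizer ((E ⊔ Cfsg.pCore p H : Subgroup H) : Set H)) : ((∀ E ∈ 𝒦, ∀ T : Sylow p ↥E, Cfsg.IsMinimalOver (T : Subgroup ↥E)) → ∀ T : Sylow p H, Cfsg.IsMinimalOver (T : Subgroup H)) ∧ ((∀ E ∈ 𝒦, Cfsg.IsStronglyPIrreducible p ↥E) → Cfsg.IsPIrreducible p H ∧ ∀ E ∈ 𝒦, ∀ K ∈ 𝒦, (Cfsg.pResidual p ↥(E ⊔ Cfsg.pCore p H)).map (E ⊔ Cfsg.pCore p H).subtype = (Cfsg.pResidual p ↥(K ⊔ Cfsg.pCore p H)).map (K ⊔ Cfsg.pCore p H).subtype ∨ ⁅E, K⁆ ≤ Cfsg.pCore p H) := by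
  refine ⟨fun hmin T => family_minimal hne hinv htr hres hnorm hmin T, fun hstr => ?_⟩
  set O := pCore p H with hO
  set R := sSup 𝒦 with hR
  set f := QuotientGroup.mk' O with hf
  have hsurj : Function.Surjective f := QuotientGroup.mk'_surjective O
  have hker : f.ker = O := QuotientGroup.ker_mk' O
  have hOp : IsPGroup p O := Components.isPGroup_pCore p
  have hRn : R.Normal := normalizer_eq_top_iff.mp (top_le_iff.mp (le_normalizer_sSup hinv))
  haveI : (R ⊔ O).Normal := Subgroup.sup_normal R O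
  -- the images form a family in `H / O`
  have hbot : pCore p (H ⧸ O) = ⊥ := by
    rw [← map_comap_eq_self_of_surjective hsurj (pCore p (H ⧸ O)), hf,
      pCore_quotient _ hOp, Subgroup.map_eq_bot_iff, QuotientGroup.ker_mk']
  have hcjf : ∀ (h : H) (E : Subgroup H), cj (f h) (E.map f) = (cj h E).map f := fun h E => by
    show Subgroup.map _ (E.map f) = Subgroup.map f (Subgroup.map _ E)
    rw [map_map, map_map]
    congr 1
  set 𝒦' := Subgroup.map f '' 𝒦 with h𝒦'
  have hsSup : sSup 𝒦' = R.map f := by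
    rw [h𝒦', sSup_image, hR, (Subgroup.gc_map_comap f).l_sSup]
  have hinv' : ∀ q : H ⧸ O, ∀ E ∈ 𝒦', cj q E ∈ 𝒦' := by
    rintro q _ ⟨E, hE, rfl⟩
    obtain ⟨h, rfl⟩ := hsurj q
    exact ⟨_, hinv h E hE, (hcjf h E).symm⟩
  have htr' : ∀ E ∈ 𝒦', ∀ K ∈ 𝒦', ∃ q : H ⧸ O, K = cj q E := by
    rintro _ ⟨E, hE, rfl⟩ _ ⟨K, hK, rfl⟩
    obtain ⟨h, rfl⟩ := htr E hE K hK
    exact ⟨f h, (hcjf h E).symm⟩
  have hres' : pResidual p (H ⧸ O) ≤ sSup 𝒦' := by
    rw [hsSup, ← map_pResidual_eq hsurj]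
    exact map_mono hres
  have hnorm' : ∀ E ∈ 𝒦', sSup 𝒦' ≤ normalizer (E : Set (H ⧸ O)) := by
    rintro _ ⟨E, hE, rfl⟩
    rw [hsSup]
    have h := (map_mono (f := f) (le_sup_left.trans (hnorm E hE))).trans (le_normalizer_map f)
    rwa [Subgroup.map_sup, show O.map f = ⊥ from (Subgroup.map_eq_bot_iff O).mpr hker.ge,
      sup_bot_eq] at h
  have hcore : ∀ E ∈ 𝒦, pCoreOf p E ≤ O := by
    intro E hE
    have hE' : E.map f ∈ 𝒦' := ⟨E, hE, rfl⟩
    have h1 : (pCoreOf p E).map f ≤ pCore p (H ⧸ O) :=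
      Components.le_pCore_of_isSubnormal
        (Components.isSubnormal_of_le_normalizer (map_mono (pCoreOf_le E))
          ((map_mono (le_normalizer_pCoreOf E)).trans (le_normalizer_map f))
          (Components.isSubnormal_of_le_normalizer (le_sSup hE') (hnorm' _ hE')
            (Normal.isSubnormal (hsSup ▸ hRn.map f hsurj))))
        ((isPGroup_pCoreOf E).map f)
    rw [hbot, le_bot_iff, Subgroup.map_eq_bot_iff, hker] at h1
    exact h1
  have hirr' : ∀ E ∈ 𝒦', ¬ IsPClosed p ↥E ∧ ∀ N : Subgroup (H ⧸ O), N ≤ E →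
      E ≤ normalizer (N : Set (H ⧸ O)) → ⁅N, E⁆ ≠ ⊥ → pRes p E ≤ N := by
    rintro _ ⟨E, hE, rfl⟩
    refine ⟨fun h => (hstr E hE).1 (isPClosed_of_ker_isPGroup (f.subgroupMap E) ?_ h), ?_⟩
    · refine (hOp.comap_of_injective E.subtype E.subtype_injective).to_le fun x hx => ?_
      exact hker.le (congrArg Subtype.val hx)
    · intro N hNE hN hne'
      set N' := N.comap f ⊓ E with hN'
      have hN'n : E ≤ normalizer (N' : Set H) := LocalEven.le_normalizer_inf
        ((map_le_iff_le_comap.mp hN).trans (le_normalizer_comap f)) le_normalizer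
      have hmap : N'.map f = N := by
        refine le_antisymm (map_le_iff_le_comap.mpr inf_le_left) fun n hn => ?_
        obtain ⟨e, he, rfl⟩ := hNE hn
        exact mem_map_of_mem f ⟨hn, he⟩
      have hnot : ¬ ⁅N'.subgroupOf E, (⊤ : Subgroup E)⁆ ≤ pCore p ↥E := by
        intro h
        refine hne' ?_
        rw [← hmap, ← map_commutator, Subgroup.map_eq_bot_iff, hker]
        have h2 := map_mono (f := E.subtype) h
        rw [map_commutator, map_subgroupOf_eq_of_le inf_le_right, ← MonoidHom.range_eq_map,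
          range_subtype] at h2
        exact h2.trans (hcore E hE)
      have h3 := map_mono (f := E.subtype) ((hstr E hE).2 _ (subgroupOf_normal hN'n) hnot)
      rw [map_subgroupOf_eq_of_le inf_le_right] at h3
      rw [← map_pRes, ← hmap]
      exact map_mono h3
  obtain ⟨hirred, hdich⟩ := family_irreducible hbot hinv' htr' hres' hnorm' hirr'
  refine ⟨⟨fun hcl => ?_, fun N hN hNc => ?_⟩, fun E hE K hK => ?_⟩
  · obtain ⟨E, hE⟩ := hne
    exact (hstr E hE).1 (isPClosed_of_injective (f := E.subtype) E.subtype_injective hcl)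
  · haveI := hN
    haveI : (N ⊔ O).Normal := Subgroup.sup_normal N O
    have h1 : ¬ IsPClosed p ↥(N ⊔ O) := fun h => hNc (isPClosed_of_le le_sup_left h)
    have h2 : pResidual p (H ⧸ O) ≤ (N ⊔ O).map f := by
      refine hirred _ (Normal.map inferInstance f hsurj) fun h => h1 ?_
      refine isPClosed_of_ker_isPGroup (f.subgroupMap (N ⊔ O)) ?_ h
      refine (hOp.comap_of_injective (N ⊔ O).subtype (N ⊔ O).subtype_injective).to_le fun x hx => ?_
      exact hker.le (congrArg Subtype.val hx)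
    have h3 : pResidual p H ≤ N ⊔ O := by
      have h4 := comap_mono (f := f) ((map_pResidual_le f).trans h2)
      rw [comap_map_eq, comap_map_eq, hker, sup_assoc, sup_idem] at h4
      exact le_sup_left.trans h4
    rw [← pRes_top]
    refine pRes_le_iff.mpr fun g _ hc => ?_
    exact mem_of_mem_sup_pGroup hOp le_normalizer_of_normal (h3 (subset_closure hc)) hc
  · rcases hdich _ ⟨E, hE, rfl⟩ _ ⟨K, hK, rfl⟩ with h | h
    · left
      rw [← map_pRes, ← map_pRes] at h
      have h4 := congrArg (Subgroup.comap f) h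
      rw [comap_map_eq, comap_map_eq, hker] at h4
      have key : ∀ X : Subgroup H, pRes p (X ⊔ O) = pRes p (pRes p X ⊔ O) := fun X => by
        refine le_antisymm ((pRes_pRes _).ge.trans (pRes_mono ?_))
          (pRes_mono (sup_le_sup_right (pRes_le X) O))
        have h5 : (pRes p (X ⊔ O)).map f = (pRes p X).map f := by
          rw [map_pRes, map_pRes, Subgroup.map_sup,
            show O.map f = ⊥ from (Subgroup.map_eq_bot_iff O).mpr hker.ge, sup_bot_eq]
        have h6 := (le_comap_map f (pRes p (X ⊔ O))).trans (comap_mono h5.le)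
        rwa [comap_map_eq, hker] at h6
      show pRes p (E ⊔ O) = pRes p (K ⊔ O)
      rw [key E, key K, h4]
    · right
      rw [← map_commutator, Subgroup.map_eq_bot_iff, hker] at h
      exact h

end Cfsg.Agent.S2855
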