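import Cfsg.Statements.S2856
import Cfsg.Agent.Lib.Amalgam.Iter

set_option autoImplicit false
open Cfsg

namespace Cfsg.Agent.S2856

open Subgroup CfsgLib.Amalgam CfsgLib.LocalEven

/-- Let (M₁, M₂) be an amalgam pair in X satisfying the rank-two standing hypothesis (characteristic p, the normalizers in M₁ and in M₂ of a Sylow p-subgroup of M₁ ∩ M₂ equal and contained in M₁ ∩ M₂, and strongly p-embedded residues), λ a vertex of the coset graph, L_λ the subgroup of its stabilizer generated by the p-elements, Q_λ = O_p of the stabilizer, O^p(L_λ) the subgroup of L_λ generated by its elements of order prime to p, and V_λ^{(k)} the subgroup generated by the Z_μ over the vertices μ at distance at most k from λ (Z_μ being generated by the Ω₁(Z(S)), S a Sylow p-subgroup of the stabilizer of μ). If n ≥ 1 and V_λ^{(n)} ≤ Q_λ, then O^p(L_λ) does not centralize V_λ^{(n)}/[V_λ^{(n)}, Q_λ], that is, [V_λ^{(n)}, O^p(L_λ)] is not contained in [V_λ^{(n)}, Q_λ]. -/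
theorem result {X : Type*} [Group X] {p : ℕ} [Fact p.Prime] (M₁ M₂ : Subgroup X) (h : Cfsg.IsSpeAmalgamPair p M₁ M₂) (lam : Cfsg.CosetVertex M₁ M₂) (n : ℕ) (hn : 1 ≤ n) (V : Subgroup X) (hV : V = Cfsg.vertexVIter p M₁ M₂ n lam) (hVQ : V ≤ Cfsg.vertexQ p lam) : ¬ ⁅V, ((Cfsg.pResidual p ↥(Cfsg.pElementClosure p (MulAction.stabilizer X lam))).map (Cfsg.pElementClosure p (MulAction.stabilizer X lam)).subtype)⁆ ≤ ⁅V, Cfsg.vertexQ p lam⁆ := by
  subst hV
  intro hle
  obtain ⟨b, hab⟩ := exists_adj lam
  obtain ⟨hWV, hVW⟩ := exists_vertexVIter_sup h hab hn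
  set V := vertexVIter p M₁ M₂ n lam with hVdef
  set W := vertexVIter p M₁ M₂ (n - 1) b with hWdef
  set Q := vertexQ p lam with hQ
  haveI := finite_stabilizer h.1 lam
  haveI : Finite Q :=
    Finite.of_injective _ (inclusion_injective (pCoreOf_le_self (MulAction.stabilizer X lam)))
  haveI : Group.IsNilpotent Q := (pCoreOf_isPGroup (p := p) (MulAction.stabilizer X lam)).isNilpotent
  have hQW : Q ≤ normalizer (W : Set X) := fun g hg =>
    stabilizer_le_normalizer_vertexVIter h.1 (n - 1) b
      ((mem_neighbourKernel.1 (vertexQ_le_neighbourKernel h.1 lam hg)).2 b hab)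
  haveI := normal_subgroupOf_of_le_normalizer hQW
  have key : V.subgroupOf Q ≤ W.subgroupOf Q := by
    refine CfsgLib.Transfer.le_of_le_sup_commutator ?_
    rw [← map_le_map_iff_of_injective Q.subtype_injective, Subgroup.map_sup, map_commutator,
      map_subgroupOf_eq_of_le hVQ, map_subgroupOf_eq_of_le (hWV.trans hVQ),
      ← MonoidHom.range_eq_map, range_subtype]
    exact hVW.trans (sup_le_sup_left hle W)
  have hVW' : V ≤ W := by
    rw [← map_subgroupOf_eq_of_le hVQ, ← map_subgroupOf_eq_of_le (hWV.trans hVQ)]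
    exact map_mono key
  rcases vertexVIter_not_le h hab hVQ with hc | hc
  · exact hc hVW'
  · exact hc hWV

end Cfsg.Agent.S2856
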