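import Cfsg.Statements.S2859
import Cfsg.Agent.Lib.LocalStr.Large
import Cfsg.Agent.Lib.LocalEven.Kieler
import Mathlib.Tactic.Group
-- import your own Cfsg.Agent.* helpers here

set_option autoImplicit false
open Cfsg

set_option autoImplicit false
set_option linter.style.haveILetI false

namespace Cfsg.Agent.S2859
open Subgroup CfsgLib CfsgLib.LocalStr
open CfsgLib.LocalEven (IsSylOf)
open scoped commutatorElement

theorem commutator_le_of_rotate_mod {G : Type*} [Group G] {A B C O : Subgroup G}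
    (hA : A ≤ normalizer (O : Set G)) (hB : B ≤ normalizer (O : Set G))
    (hC : C ≤ normalizer (O : Set G)) (h1 : ⁅⁅B, C⁆, A⁆ ≤ O) (h2 : ⁅⁅C, A⁆, B⁆ ≤ O) :
    ⁅⁅A, B⁆, C⁆ ≤ O := by
  set N := normalizer (O : Set G) with hN
  haveI : (O.subgroupOf N).Normal := normal_subgroupOf_of_le_normalizer le_rfl
  set f := QuotientGroup.mk' (O.subgroupOf N)
  have key : ∀ X Y Z : Subgroup G, X ≤ N → Y ≤ N → Z ≤ N →
      (⁅⁅X, Y⁆, Z⁆ ≤ O ↔ ⁅⁅(X.subgroupOf N).map f, (Y.subgroupOf N).map f⁆,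
        (Z.subgroupOf N).map f⁆ = ⊥) := by
    intro X Y Z hX hY hZ
    rw [← map_commutator, ← map_commutator, Subgroup.map_eq_bot_iff, QuotientGroup.ker_mk',
      ← map_le_map_iff_of_injective N.subtype_injective, map_commutator, map_commutator,
      map_subgroupOf_eq_of_le hX, map_subgroupOf_eq_of_le hY, map_subgroupOf_eq_of_le hZ,
      map_subgroupOf_eq_of_le (le_normalizer : O ≤ N)]
  exact (key A B C hA hB hC).mpr (commutator_commutator_eq_bot_of_rotate
    ((key B C A hB hC hA).mp h1) ((key C A B hC hA hB).mp h2))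

/-- Let Q be a nontrivial p-subgroup of the finite group H that is a weakly closed subgroup, H° the weak closure of Q in H (generated by the conjugates of Q) and H_∘ = O^p(H°). Suppose H₁, H₂ are normal subgroups of H° with H° = H₁H₂ and [H₁, H₂] ≤ N_H(Q), and put Kᵢ = O^p of the weak closure of Q in HᵢQ. Then for i = 1, 2: Kᵢ = [Kᵢ, Q] = [Kᵢ, Hᵢ] ≤ Hᵢ′ and Kᵢ is normal in H°; H_∘ = K₁K₂; and [K₁, K₂] ≤ O_p(H°). -/
theorem result {G : Type*} [Group G] [Finite G] {p : ℕ} [Fact p.Prime] (Q : Subgroup G) (hQp : IsPGroup p ↥Q) (hQ1 : Q ≠ ⊥) (hwc : Cfsg.IsWeaklyClosedSubgroup p Q) (Hc : Subgroup G) (hHc : Hc = Cfsg.weakClosure Q ⊤) (H₁ H₂ : Subgroup G) (hn₁ : H₁ ≤ Hc ∧ Hc ≤ Subgroup.normalizer ((H₁ : Subgroup G) : Set G)) (hn₂ : H₂ ≤ Hc ∧ Hc ≤ Subgroup.normalizer ((H₂ : Subgroup G) : Set G)) (hprod : H₁ ⊔ H₂ = Hc) (hcomm : ⁅H₁, H₂⁆ ≤ Subgroup.normalizer ((Q : Subgroup G) : Set G)) (K₁ K₂ : Subgroup G) (hK₁ : K₁ = ((Cfsg.pResidual p ↥(Cfsg.weakClosure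 Q (H₁ ⊔ Q))).map ((Cfsg.weakClosure Q (H₁ ⊔ Q))).subtype)) (hK₂ : K₂ = ((Cfsg.pResidual p ↥(Cfsg.weakClosure Q (H₂ ⊔ Q))).map ((Cfsg.weakClosure Q (H₂ ⊔ Q))).subtype)) : (⁅K₁, Q⁆ = K₁ ∧ ⁅K₁, H₁⁆ = K₁ ∧ K₁ ≤ ⁅H₁, H₁⁆ ∧ Hc ≤ Subgroup.normalizer ((K₁ : Subgroup G) : Set G)) ∧ (⁅K₂, Q⁆ = K₂ ∧ ⁅K₂, H₂⁆ = K₂ ∧ K₂ ≤ ⁅H₂, H₂⁆ ∧ Hc ≤ Subgroup.normalizer ((K₂ : Subgroup G) : Set G)) ∧ K₁ ⊔ K₂ = ((Cfsg.pResidual p ↥Hc).map (Hc).subtype) ∧ ⁅K₁, K₂⁆ ≤ (Cfsg.pCoreOf p Hc) := by
  subst hHc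
  set Hc := weakClosure Q (⊤ : Subgroup G) with hHc
  set O := pCoreOf p Hc with hO
  have hQHc : Q ≤ Hc := le_weakClosure le_top
  have hOn : Hc ≤ normalizer (O : Set G) := le_normalizer_pCoreOf Hc
  set N0 := ⁅H₁, H₂⁆ with hN0
  have hN0H : N0 ≤ Hc := (le_normalizer_iff_commutator_le_left.mp (hn₂.1.trans hn₁.2)).trans hn₁.1
  have hN0n : Hc ≤ normalizer (N0 : Set G) := fun g hg => map_conj_eq_iff.mp (by
    rw [hN0, map_commutator, map_conj_eq_iff.mpr (hn₁.2 hg), map_conj_eq_iff.mpr (hn₂.2 hg)])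
  have hN0c : ⁅N0, Hc⁆ ≤ O := by
    have hgen : ∀ g : G, ⁅N0, Q.map (MulAut.conj g).toMonoidHom⁆ ≤ O := by
      intro g
      have hgH : Q.map (MulAut.conj g).toMonoidHom ≤ Hc := conj_le_weakClosure le_top
      obtain ⟨k, hk, hgk⟩ := wc_conj_in_subgroup hwc hQHc hgH
      rw [hgk] at hgH ⊢
      have hnQ : N0 ≤ normalizer ((Q.map (MulAut.conj k).toMonoidHom : Subgroup G) : Set G) := by
        intro n hn
        refine map_conj_eq_iff.mp ?_
        have h1 : k⁻¹ * n * k ∈ normalizer (Q : Set G) :=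
          hcomm ((mem_normalizer_iff''.mp (hN0n hk) n).mp hn)
        rw [map_conj_conj, show n * k = k * (k⁻¹ * n * k) by group, ← map_conj_conj,
          map_conj_eq_iff.mpr h1]
      refine ((le_inf (le_normalizer_iff_commutator_le_right.mp hnQ)
        (le_normalizer_iff_commutator_le_left.mp (hgH.trans hN0n))).trans
        (le_pCoreOf inf_le_right (LocalEven.le_normalizer_inf hnQ le_normalizer)
          ((hQp.map _).to_le inf_le_left))).trans (pCoreOf_le_pCoreOf_of_normal hN0H hN0n)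
    rw [commutator_comm, commutator_le]
    intro x hx n hn
    rw [hHc, weakClosure, ← SetLike.mem_coe] at hx
    induction hx using Subgroup.iSup_induction' with
    | hp g x hx =>
      have h := hgen g
      rw [commutator_comm] at h
      exact h (commutator_mem_commutator hx hn)
    | h1 => simp
    | hmul a b ha _ iha ihb =>
      rw [show ⁅a * b, n⁆ = (a * ⁅b, n⁆ * a⁻¹) * ⁅a, n⁆ by simp only [commutatorElement_def]; group]
      exact mul_mem ((mem_normalizer_iff.mp (hOn ha) _).mp ihb) iha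
  have key : ∀ A B : Subgroup G, (A ≤ Hc ∧ Hc ≤ normalizer (A : Set G)) →
      (B ≤ Hc ∧ Hc ≤ normalizer (B : Set G)) → A ⊔ B = Hc → ⁅A, B⁆ = N0 →
      ⁅pRes p (weakClosure Q (A ⊔ Q)), Q⁆ = pRes p (weakClosure Q (A ⊔ Q)) ∧
      ⁅pRes p (weakClosure Q (A ⊔ Q)), A⁆ = pRes p (weakClosure Q (A ⊔ Q)) ∧
      pRes p (weakClosure Q (A ⊔ Q)) ≤ ⁅A, A⁆ ∧
      Hc ≤ normalizer (pRes p (weakClosure Q (A ⊔ Q)) : Set G) ∧
      pRes p (weakClosure Q (A ⊔ Q)) ≤ A ∧
      weakClosure Q (A ⊔ Q) ≤ pRes p (weakClosure Q (A ⊔ Q)) ⊔ Q ∧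
      ⁅pRes p (weakClosure Q (A ⊔ Q)), B⁆ ≤ O := by
    intro A B hA hB hAB hABN
    set W := weakClosure Q (A ⊔ Q) with hW
    set K := pRes p W with hK
    have hQA : Q ≤ normalizer (A : Set G) := hQHc.trans hA.2
    have hQW : Q ≤ W := le_weakClosure le_sup_right
    have hWn : A ⊔ Q ≤ normalizer (W : Set G) := le_normalizer_weakClosure le_normalizer
    have hKn : A ⊔ Q ≤ normalizer (K : Set G) := le_normalizer_pRes hWn
    have hKA : K ≤ A := (pRes_mono (weakClosure_le _ _)).trans (by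
      rw [pRes_sup_pGroup hQp hQA]; exact pRes_le A)
    have hKH : K ≤ Hc := hKA.trans hA.1
    have hWw : weakClosure Q W = W := weakClosure_weakClosure Q _
    have hKQn : Q ≤ normalizer ((⁅K, Q⁆ : Subgroup G) : Set G) := normalizer_commutator_ge_right K Q
    have hWle : W ≤ ⁅K, Q⁆ ⊔ Q := by
      obtain ⟨T, hT, hQT⟩ := LocalEven.exists_isSylOf_ge hQp hQW
      have hTQ : T ≤ normalizer (Q : Set G) := wc_le_normalizer hwc hT.isPGroup hQT
      conv_lhs => rw [← hWw, weakClosure_eq_iSup hwc hQW]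
      refine iSup_le fun w => ?_
      have hw : (w : G) ∈ (↑(K ⊔ T) : Set G) := by
        rw [hK, pRes_sup_of_isSylOf hT]; exact w.2
      rw [coe_mul_of_right_le_normalizer_left _ _
        ((hT.1.trans (weakClosure_le _ _)).trans hKn)] at hw
      obtain ⟨k, hk, t, ht, hkt⟩ := Set.mem_mul.mp hw
      rw [← hkt, ← map_conj_conj, map_conj_eq_iff.mpr (hTQ ht)]
      rintro _ ⟨q, hq, rfl⟩
      show k * q * k⁻¹ ∈ _
      rw [show k * q * k⁻¹ = ⁅k, q⁆ * q by simp [commutatorElement_def]]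
      exact mul_mem (mem_sup_left (commutator_mem_commutator hk hq)) (mem_sup_right hq)
    have hQK : Q ≤ normalizer (K : Set G) := le_sup_right.trans hKn
    have hKQ : ⁅K, Q⁆ = K := by
      refine le_antisymm (le_normalizer_iff_commutator_le_left.mp hQK) ?_
      calc K ≤ pRes p (⁅K, Q⁆ ⊔ Q) := pRes_mono hWle
        _ = pRes p ⁅K, Q⁆ := pRes_sup_pGroup hQp hKQn
        _ ≤ ⁅K, Q⁆ := pRes_le _
    set M := ⁅K, A⁆ with hM
    have hMK : M ≤ K := le_normalizer_iff_commutator_le_left.mp (le_sup_left.trans hKn)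
    have hMA : A ≤ normalizer (M : Set G) := normalizer_commutator_ge_right K A
    have hMQ : Q ≤ normalizer (M : Set G) := fun g hg => map_conj_eq_iff.mp (by
      rw [hM, map_commutator, map_conj_eq_iff.mpr (hQK hg), map_conj_eq_iff.mpr (hQA hg)])
    set P := K ⊓ O with hP
    have hPn : K ≤ normalizer (P : Set G) :=
      LocalEven.le_normalizer_inf le_normalizer (hKH.trans hOn)
    have hPMn : P ≤ normalizer (M : Set G) := (inf_le_left.trans hKA).trans hMA
    -- `K ≤ M (K ∩ N₀)`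
    have hKN0 : ∀ k ∈ K, ∃ m ∈ M, ∃ n ∈ K ⊓ N0, k = m * n := by
      have hle : K ≤ M ⊔ N0 := by
        conv_lhs => rw [← hKQ]
        rw [commutator_le]
        intro k hk q hq
        have hq' : q ∈ (↑(A ⊔ B) : Set G) := by rw [hAB]; exact hQHc hq
        rw [coe_mul_of_right_le_normalizer_left _ _ (hB.1.trans hA.2)] at hq'
        obtain ⟨a, ha, b, hb, rfl⟩ := Set.mem_mul.mp hq'
        rw [show ⁅k, a * b⁆ = ⁅k, a⁆ * (a * ⁅k, b⁆ * a⁻¹) by
          simp only [commutatorElement_def]; group]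
        refine mul_mem (mem_sup_left (commutator_mem_commutator hk ha)) (mem_sup_right ?_)
        exact (mem_normalizer_iff.mp (hN0n (hA.1 ha)) _).mp
          (hABN ▸ commutator_mem_commutator (hKA hk) hb)
      intro k hk
      have hk' : k ∈ (↑(M ⊔ N0) : Set G) := hle hk
      rw [coe_mul_of_left_le_normalizer_right _ _ ((hMK.trans hKH).trans hN0n)] at hk'
      obtain ⟨m, hm, n, hn, rfl⟩ := Set.mem_mul.mp hk'
      exact ⟨m, hm, n, ⟨(K.mul_mem_cancel_left (hMK hm)).mp hk, hn⟩, rfl⟩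
    have hKM : K = M := by
      refine le_antisymm ?_ hMK
      have hle : K ≤ M ⊔ P := by
        conv_lhs => rw [← hKQ]
        rw [commutator_le]
        intro k hk q hq
        obtain ⟨m, hm, n, hn, rfl⟩ := hKN0 k hk
        rw [show ⁅m * n, q⁆ = (m * ⁅n, q⁆ * m⁻¹) * ⁅m, q⁆ by
          simp only [commutatorElement_def]; group]
        refine mul_mem (mem_sup_right ((mem_normalizer_iff.mp (hPn (hMK hm)) _).mp ⟨?_, ?_⟩))
          (mem_sup_left ((le_normalizer_iff_commutator_le_left.mp hMQ)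
            (commutator_mem_commutator hm hq)))
        · exact (le_normalizer_iff_commutator_le_left.mp hQK) (commutator_mem_commutator hn.1 hq)
        · exact hN0c (commutator_mem_commutator hn.2 (hQHc hq))
      calc K = pRes p K := (pRes_pRes W).symm
        _ ≤ pRes p (M ⊔ P) := pRes_mono hle
        _ = pRes p M := pRes_sup_pGroup ((isPGroup_pCoreOf Hc).to_le inf_le_right) hPMn
        _ ≤ M := pRes_le M
    have hKB : ⁅K, B⁆ ≤ O := by
      rw [hKM]
      refine commutator_le_of_rotate_mod (hKH.trans hOn) (hA.1.trans hOn) (hB.1.trans hOn) ?_ ?_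
      · rw [hABN]
        exact (commutator_mono le_rfl hKH).trans hN0c
      · refine (commutator_mono ?_ hA.1).trans hN0c
        rw [commutator_comm, ← hABN]
        exact commutator_mono hKA le_rfl
    have hBn : B ≤ normalizer (K : Set G) := by
      rw [le_normalizer_iff_map_le]
      intro b hb
      have hsub : K.map (MulAut.conj b).toMonoidHom ≤ K ⊔ O := by
        rintro _ ⟨k, hk, rfl⟩
        show b * k * b⁻¹ ∈ _
        rw [show b * k * b⁻¹ = (⁅k, b⁆)⁻¹ * k by rw [commutatorElement_def]; group]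
        exact mul_mem (mem_sup_right (inv_mem (hKB (commutator_mem_commutator hk hb))))
          (mem_sup_left hk)
      have hQO : Q ≤ normalizer (O : Set G) := hQHc.trans hOn
      have hOQ : O ≤ normalizer (Q : Set G) := le_sup_right.trans (wc_le_normalizer hwc
        (Components.isPGroup_sup hQp (isPGroup_pCoreOf Hc) hQO) le_sup_left)
      have hOK : O ≤ normalizer (K : Set G) := le_normalizer_pRes (le_normalizer_weakClosure
        (fun g hg => map_conj_eq_iff.mp (by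
          rw [Subgroup.map_sup, map_conj_eq_iff.mpr (hA.2 (pCoreOf_le Hc hg)),
            map_conj_eq_iff.mpr (hOQ hg)])))
      calc K.map (MulAut.conj b).toMonoidHom
          = (pRes p K).map (MulAut.conj b).toMonoidHom := by rw [hK, pRes_pRes]
        _ = pRes p (K.map (MulAut.conj b).toMonoidHom) := pRes_map_conj b K
        _ ≤ pRes p (K ⊔ O) := pRes_mono hsub
        _ = pRes p K := pRes_sup_pGroup (isPGroup_pCoreOf Hc) hOK
        _ ≤ K := pRes_le K
    refine ⟨hKQ, hKM.symm, hKM.le.trans (commutator_mono hKA le_rfl),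
      hAB ▸ sup_le (le_sup_left.trans hKn) hBn, hKA, ?_, hKB⟩
    rwa [hKQ] at hWle
  obtain ⟨a1, a2, a3, a4, a5, a6, a7⟩ := key H₁ H₂ hn₁ hn₂ hprod rfl
  obtain ⟨b1, b2, b3, b4, b5, b6, b7⟩ :=
    key H₂ H₁ hn₂ hn₁ (by rw [sup_comm, hprod]) (commutator_comm _ _)
  subst hK₁ hK₂
  refine ⟨⟨a1, a2, a3, a4⟩, ⟨b1, b2, b3, b4⟩, le_antisymm ?_ ?_,
    (commutator_mono le_rfl b5).trans a7⟩
  · exact sup_le (pRes_mono (weakClosure_mono le_top)) (pRes_mono (weakClosure_mono le_top))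
  · set N := pRes p (weakClosure Q (H₁ ⊔ Q)) ⊔ pRes p (weakClosure Q (H₂ ⊔ Q)) with hN
    have hNn : Hc ≤ normalizer (N : Set G) := fun g hg => map_conj_eq_iff.mp (by
      rw [hN, Subgroup.map_sup, map_conj_eq_iff.mpr (a4 hg), map_conj_eq_iff.mpr (b4 hg)])
    have hstep : ∀ A : Subgroup G, A ≤ Hc → weakClosure Q (A ⊔ Q) ≤ N ⊔ Q →
        A ≤ normalizer ((N ⊔ Q : Subgroup G) : Set G) := by
      intro A hA hW
      rw [le_normalizer_iff_map_le]
      intro g hg
      rw [Subgroup.map_sup, map_conj_eq_iff.mpr (hNn (hA hg))]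
      refine sup_le le_sup_left ((conj_le_weakClosure ?_).trans hW)
      exact map_conj_le_of_mem le_sup_right (mem_sup_left hg)
    have hnorm : Hc ≤ normalizer ((N ⊔ Q : Subgroup G) : Set G) := by
      conv_lhs => rw [← hprod]
      exact sup_le (hstep H₁ hn₁.1 (a6.trans (sup_le_sup le_sup_left le_rfl)))
        (hstep H₂ hn₂.1 (b6.trans (sup_le_sup le_sup_right le_rfl)))
    have hle : Hc ≤ N ⊔ Q := by
      conv_lhs => rw [hHc, ← weakClosure_weakClosure, weakClosure_eq_iSup hwc hQHc]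
      exact iSup_le fun k => (map_mono le_sup_right).trans (map_conj_eq_iff.mpr (hnorm k.2)).le
    calc pRes p Hc ≤ pRes p (N ⊔ Q) := pRes_mono hle
      _ = pRes p N := pRes_sup_pGroup hQp (hQHc.trans hNn)
      _ ≤ N := pRes_le N

end Cfsg.Agent.S2859
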