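import Cfsg.Statements.S2860
import Cfsg.Agent.Lib.LocalStr.Large
import Cfsg.Agent.Lib.LocalEven.Kieler
import Cfsg.Agent.Lib.LocalEven.PReduced
import Cfsg.Agent.S2815
import Cfsg.Agent.Lib.Components.Quasisimple
import Mathlib.Tactic.Group
-- import your own Cfsg.Agent.* helpers here

set_option autoImplicit false
open Cfsg

set_option autoImplicit false
set_option linter.style.haveILetI false

namespace Cfsg.Agent.S2860
open Subgroup CfsgLib CfsgLib.LocalStr
open CfsgLib.LocalEven (IsSylOf)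
open scoped commutatorElement


/-- Let Q be a nontrivial large p-subgroup of the finite group H, U a nontrivial elementary abelian p-subgroup of H, and Q ≤ E ≤ N_H(U) with Q not normal in E. Suppose O_p(E/C_E(U)) = 1 and O^p(E)·C_E(U)/C_E(U) is quasisimple. Let E° be the weak closure of Q in E (generated by the conjugates of Q inside E) and E_∘ = O^p(E°). Then O^p(E)·C_E(U) = E_∘·C_E(U); E_∘ is perfect and equals O^p(E_∘); E_∘/C_{E_∘}(U) and E_∘/O_p(E_∘) are quasisimple; and E_∘ = [E_∘, Y] for every p-subgroup Y of E not centralizing U. -/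
theorem result {G : Type*} [Group G] [Finite G] {p : ℕ} [Fact p.Prime] (Q : Subgroup G) (hQp : IsPGroup p ↥Q) (hQ1 : Q ≠ ⊥) (hQ : Cfsg.IsLarge Q) (U : Subgroup G) (hU : Cfsg.IsElementaryAbelian p U) (hU1 : U ≠ ⊥) (E : Subgroup G) (hQE : Q ≤ E) (hEU : E ≤ Subgroup.normalizer ((U : Subgroup G) : Set G)) (hQn : ¬ E ≤ Subgroup.normalizer ((Q : Subgroup G) : Set G)) [hn : ((Subgroup.centralizer ((U : Subgroup G) : Set G)).subgroupOf E).Normal] (hred : Cfsg.pCore p (↥E ⧸ (Subgroup.centralizer ((U : Subgroup G) : Set G)).subgroupOf E) = ⊥) (hqs : Cfsg.IsQuasisimple ↥(((Cfsg.pResidual p ↥E) ⊔ (Subgroup.centralizer ((U : Subgroup G) : Set G)).subgroupOf E).map (QuotientGroup.mk' ((Subgroup.centralizer ((U : Subgroup G) : Set G)).subgroupOf E)))) (Er : Subgroup G) (hEr : Er = ((Cfsg.pResidual p ↥(Cfsg.weakClosure Q E)).map ((Cfsg.weakClosure Q E)).subtype)) [hn2 : ((Subgroup.centralizer ((U : Subgroup G) : Set G)).subgroupOf Er).Normal] : ((Cfsg.pResidual p ↥E).map (E).subtype)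 ⊔ (E ⊓ Subgroup.centralizer ((U : Subgroup G) : Set G)) = Er ⊔ (E ⊓ Subgroup.centralizer ((U : Subgroup G) : Set G)) ∧ ⁅Er, Er⁆ = Er ∧ ((Cfsg.pResidual p ↥Er).map (Er).subtype) = Er ∧ Cfsg.IsQuasisimple (↥Er ⧸ (Subgroup.centralizer ((U : Subgroup G) : Set G)).subgroupOf Er) ∧ Cfsg.IsQuasisimple (↥Er ⧸ Cfsg.pCore p ↥Er) ∧ ∀ Y : Subgroup G, Y ≤ E → IsPGroup p ↥Y → ¬ Y ≤ Subgroup.centralizer ((U : Subgroup G) : Set G) → ⁅Er, Y⁆ = Er := by
  subst hEr
  set W := weakClosure Q E with hWdef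
  set Er := pRes p W with hErdef
  set C := centralizer (U : Set G) with hCdef
  set CE := E ⊓ C with hCE
  set R := pRes p E with hR
  have hwc := large_wc hQ hQp hQ1
  have hUp : IsPGroup p ↥U := LocalEven.isPGroup_elemAb hU
  have hCQ : C ≤ normalizer (Q : Set G) := large_centralizer_le hQ hQp hUp hU1 (hQE.trans hEU)
  have hEC : E ≤ normalizer (C : Set G) := LocalEven.le_normalizer_centralizer' hEU
  have hECE : E ≤ normalizer (CE : Set G) := LocalEven.le_normalizer_inf le_normalizer hEC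
  set f : ↥E →* ↥E ⧸ C.subgroupOf E := QuotientGroup.mk' _ with hf
  have hfs : Function.Surjective f := QuotientGroup.mk'_surjective _
  have himg : ∀ {X : Subgroup G}, X ≤ E → ∀ {Y : Subgroup G}, Y ≤ E →
      ((X.subgroupOf E).map f ≤ (Y.subgroupOf E).map f ↔ X ≤ Y ⊔ CE) := by
    intro X hX Y hY
    rw [map_le_iff_le_comap, comap_map_eq, hf, QuotientGroup.ker_mk',
      show C.subgroupOf E = CE.subgroupOf E by rw [hCE, inf_subgroupOf_left],
      ← subgroupOf_sup hY inf_le_left]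
    constructor
    · intro h x hx
      exact h (show (⟨x, hX hx⟩ : ↥E) ∈ X.subgroupOf E from hx)
    · exact fun h x hx => h hx
  -- `Q` does not centralise `U`
  have hQC : ¬ Q ≤ C := by
    intro h
    have h1 : Q ≤ pCoreOf p CE := le_pCoreOf (le_inf hQE h) (inf_le_right.trans hCQ) hQp
    have h2 : Q ≤ pCoreOf p E := h1.trans (pCoreOf_le_pCoreOf_of_normal inf_le_left hECE)
    exact hQn ((le_normalizer_pCoreOf E).trans (wc_normalizer_le hwc (isPGroup_pCoreOf E) h2))
  have hWE : W ≤ E := weakClosure_le Q E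
  have hQW : Q ≤ W := le_weakClosure hQE
  have hEW : E ≤ normalizer (W : Set G) := le_normalizer_weakClosure le_normalizer
  have hEEr : E ≤ normalizer (Er : Set G) := le_normalizer_pRes hEW
  have hErE : Er ≤ E := (pRes_le W).trans hWE
  have hQEr : Q ≤ normalizer (Er : Set G) := hQE.trans hEEr
  -- `W ≤ [Er, Q] Q`
  have hWle : W ≤ ⁅Er, Q⁆ ⊔ Q := by
    obtain ⟨T, hT, hQT⟩ := LocalEven.exists_isSylOf_ge hQp hQW
    have hTQ : T ≤ normalizer (Q : Set G) := wc_le_normalizer hwc hT.isPGroup hQT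
    conv_lhs => rw [hWdef, ← weakClosure_weakClosure, weakClosure_eq_iSup hwc hQW]
    refine iSup_le fun w => ?_
    have hw : (w : G) ∈ (↑(Er ⊔ T) : Set G) := by
      rw [hErdef, pRes_sup_of_isSylOf hT]; exact w.2
    rw [coe_mul_of_right_le_normalizer_left _ _ ((hT.1.trans hWE).trans hEEr)] at hw
    obtain ⟨k, hk, t, ht, hkt⟩ := Set.mem_mul.mp hw
    rw [← hkt, ← map_conj_conj, map_conj_eq_iff.mpr (hTQ ht)]
    rintro _ ⟨q, hq, rfl⟩
    show k * q * k⁻¹ ∈ _
    rw [show k * q * k⁻¹ = ⁅k, q⁆ * q by simp [commutatorElement_def]]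
    exact mul_mem (mem_sup_left (commutator_mem_commutator hk hq)) (mem_sup_right hq)
  have hErQ : ⁅Er, Q⁆ = Er := by
    refine le_antisymm (le_normalizer_iff_commutator_le_left.mp hQEr) ?_
    calc Er ≤ pRes p (⁅Er, Q⁆ ⊔ Q) := pRes_mono hWle
      _ = pRes p ⁅Er, Q⁆ := pRes_sup_pGroup hQp (normalizer_commutator_ge_right Er Q)
      _ ≤ ⁅Er, Q⁆ := pRes_le _
  -- the quotient
  have hRmap : (R.subgroupOf E).map f = pResidual p (↥E ⧸ C.subgroupOf E) := by
    rw [← map_pResidual_eq hfs, show R.subgroupOf E = pResidual p ↥E from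
      comap_map_eq_self_of_injective E.subtype_injective _]
  have hqs' : IsQuasisimple ↥(pResidual p (↥E ⧸ C.subgroupOf E)) := by
    have : (pResidual p ↥E ⊔ C.subgroupOf E).map f = pResidual p (↥E ⧸ C.subgroupOf E) := by
      rw [Subgroup.map_sup, map_pResidual_eq hfs, hf, QuotientGroup.map_mk'_self, sup_bot_eq]
    rwa [← this]
  have hQb : (Q.subgroupOf E).map f ≠ ⊥ := by
    intro h
    rw [Subgroup.map_eq_bot_iff, hf, QuotientGroup.ker_mk'] at h
    exact hQC fun q hq => h (show (⟨q, hQE hq⟩ : ↥E) ∈ Q.subgroupOf E from hq)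
  have hpdvd : p ∣ Nat.card (↥E ⧸ C.subgroupOf E) := by
    obtain ⟨n, hn⟩ := ((hQp.of_equiv (subgroupOfEquivOfLe hQE).symm).map f).exists_card_eq
    have h0 : n ≠ 0 := fun h => hQb (card_eq_one.mp (by rw [hn, h, pow_zero]))
    exact ((dvd_pow_self p h0).trans (dvd_of_eq hn.symm)).trans (card_subgroup_dvd_card _)
  obtain ⟨-, hYact, -, -⟩ := Cfsg.Agent.S2815.result hpdvd hred hqs'
  -- `R C = Er C`
  have hRle : R ≤ Er ⊔ CE := by
    have h1 := (hYact _ ((hQp.of_equiv (subgroupOfEquivOfLe hQE).symm).map f) hQb).2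
    have h2 : (R.subgroupOf E).map f ≤ ((Er ⊔ Q).subgroupOf E).map f := by
      rw [hRmap]
      refine h1.trans (iSup_le fun k => ?_)
      obtain ⟨e, he⟩ := hfs (k : ↥E ⧸ C.subgroupOf E)
      rw [← he]
      rintro _ ⟨_, ⟨q, hq, rfl⟩, rfl⟩
      refine ⟨e * q * e⁻¹, ?_, by simp⟩
      refine mem_subgroupOf.mpr ((hWle.trans (by rw [hErQ])) ?_)
      exact conj_le_weakClosure (map_conj_le_of_mem hQE e.2) ⟨q, hq, rfl⟩
    rw [himg (pRes_le E) (sup_le hErE hQE)] at h2
    have h3 : Er ⊔ Q ⊔ CE = (Er ⊔ CE) ⊔ Q := by rw [sup_assoc, sup_comm Q CE, sup_assoc]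
    calc R = pRes p R := (pRes_pRes E).symm
      _ ≤ pRes p ((Er ⊔ CE) ⊔ Q) := pRes_mono (h3 ▸ h2)
      _ = pRes p (Er ⊔ CE) := pRes_sup_pGroup hQp (fun g hg => map_conj_eq_iff.mp (by
          rw [Subgroup.map_sup, map_conj_eq_iff.mpr (hQEr hg),
            map_conj_eq_iff.mpr (hECE (hQE hg))]))
      _ ≤ Er ⊔ CE := pRes_le _
  have hErR : Er ≤ R := pRes_mono hWE
  have hEK : (Er.subgroupOf E).map f = (R.subgroupOf E).map f :=
    le_antisymm (map_mono (comap_mono hErR)) ((himg (pRes_le E) hErE).mpr hRle)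
  set C0 := Er ⊓ C with hC0
  set O := pCoreOf p Er with hO
  have hOn : E ≤ normalizer (O : Set G) := le_normalizer_pCoreOf' hEEr
  have hC0n : E ≤ normalizer (C0 : Set G) := LocalEven.le_normalizer_inf hEEr hEC
  have hC0Q : ⁅C0, Q⁆ ≤ O := by
    have h1 : C0 ≤ normalizer (Q : Set G) := inf_le_right.trans hCQ
    have h2 : ⁅C0, Q⁆ ≤ Q ⊓ C0 := le_inf (le_normalizer_iff_commutator_le_right.mp h1)
      (le_normalizer_iff_commutator_le_left.mp (hQE.trans hC0n))
    refine h2.trans ((le_pCoreOf inf_le_right (LocalEven.le_normalizer_inf h1 le_normalizer)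
      (hQp.to_le inf_le_left)).trans (pCoreOf_le_pCoreOf_of_normal inf_le_left ?_))
    exact hErE.trans hC0n
  have hC0W : ⁅C0, Er⁆ ≤ O := by
    rw [commutator_le]
    intro c hc x hx
    suffices h : ∀ w ∈ W, ∀ c ∈ C0, ⁅c, w⁆ ∈ O from h x (pRes_le W hx) c hc
    intro w hw
    rw [hWdef, weakClosure, ← SetLike.mem_coe] at hw
    induction hw using Subgroup.iSup_induction' with
    | hp g x hx =>
      intro c hc
      obtain ⟨k, hk, hgk⟩ := wc_conj_in_subgroup hwc hQE g.2
      rw [hgk] at hx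
      obtain ⟨q, hq, rfl⟩ := hx
      show ⁅c, k * q * k⁻¹⁆ ∈ O
      rw [show ⁅c, k * q * k⁻¹⁆ = k * ⁅k⁻¹ * c * k, q⁆ * k⁻¹ by
        simp only [commutatorElement_def]; group]
      exact (mem_normalizer_iff.mp (hOn hk) _).mp
        (hC0Q (commutator_mem_commutator ((mem_normalizer_iff''.mp (hC0n hk) c).mp hc) hq))
    | h1 => intro c _; simp
    | hmul a b ha _ iha ihb =>
      intro c hc
      rw [show ⁅c, a * b⁆ = ⁅c, a⁆ * (a * ⁅c, b⁆ * a⁻¹) by
        simp only [commutatorElement_def]; group]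
      exact mul_mem (iha c hc) ((mem_normalizer_iff.mp (hOn (hWE ha)) _).mp (ihb c hc))
  have hC0sup : ∀ {M : Subgroup G}, M ≤ Er → Er ≤ M ⊔ CE → Er ≤ M ⊔ C0 := by
    intro M hM h x hx
    have hx' : x ∈ (↑(M ⊔ CE) : Set G) := h hx
    rw [coe_mul_of_left_le_normalizer_right _ _ ((hM.trans hErE).trans hECE)] at hx'
    obtain ⟨m, hm, c, hc, rfl⟩ := Set.mem_mul.mp hx'
    exact mul_mem (mem_sup_left hm)
      (mem_sup_right ⟨(Er.mul_mem_cancel_left (hM hm)).mp hx, hc.2⟩)
  -- a normal subgroup covering `Er` modulo `C` is `Er`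
  have hcover : ∀ {M : Subgroup G}, M ≤ Er → Er ≤ normalizer (M : Set G) →
      Q ≤ normalizer (M : Set G) → Er ≤ M ⊔ CE → Er ≤ M := by
    intro M hM hMn hMQ h
    have h1 : Er ≤ M ⊔ O := by
      conv_lhs => rw [← hErQ]
      rw [commutator_le]
      intro x hx q hq
      have hx' : x ∈ (↑(M ⊔ C0) : Set G) := hC0sup hM h hx
      rw [coe_mul_of_left_le_normalizer_right _ _ ((hM.trans hErE).trans hC0n)] at hx'
      obtain ⟨m, hm, c, hc, rfl⟩ := Set.mem_mul.mp hx'
      rw [show ⁅m * c, q⁆ = (m * ⁅c, q⁆ * m⁻¹) * ⁅m, q⁆ by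
        simp only [commutatorElement_def]; group]
      exact mul_mem (mem_sup_right ((mem_normalizer_iff.mp (hOn (hErE (hM hm))) _).mp
        (hC0Q (commutator_mem_commutator hc hq))))
        (mem_sup_left ((le_normalizer_iff_commutator_le_left.mp hMQ)
          (commutator_mem_commutator hm hq)))
    calc Er = pRes p Er := (pRes_pRes W).symm
      _ ≤ pRes p (M ⊔ O) := pRes_mono h1
      _ = pRes p M := pRes_sup_pGroup (isPGroup_pCoreOf Er) ((pCoreOf_le Er).trans hMn)
      _ ≤ M := pRes_le M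
  have hKper : ⁅(R.subgroupOf E).map f, (R.subgroupOf E).map f⁆ = (R.subgroupOf E).map f := by
    haveI := hqs'.1
    rw [hRmap, ← map_subtype_commutator, Group.IsPerfect.commutator_eq_top, ← MonoidHom.range_eq_map,
      range_subtype]
  have hperf : ⁅Er, Er⁆ = Er := by
    have hD : ⁅Er, Er⁆ ≤ Er := le_normalizer_iff_commutator_le_left.mp le_normalizer
    have hDn : ∀ {g : G}, g ∈ normalizer (Er : Set G) → g ∈ normalizer ((⁅Er, Er⁆ : Subgroup G) : Set G) :=
      fun {g} hg => map_conj_eq_iff.mp (by rw [map_commutator, map_conj_eq_iff.mpr hg])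
    refine le_antisymm hD (hcover hD (fun g hg => hDn (le_normalizer hg))
      (fun g hg => hDn (hQEr hg)) ((himg hErE (hD.trans hErE)).mp ?_))
    conv_lhs => rw [hEK, ← hKper, ← hEK, ← map_commutator]
    refine map_mono fun x hx => mem_subgroupOf.mpr ?_
    have := mem_map_of_mem E.subtype hx
    rwa [map_commutator, map_subgroupOf_eq_of_le hErE] at this
  set φ : ↥Er →* ↥E ⧸ C.subgroupOf E := f.comp (inclusion hErE) with hφ
  have hφker : φ.ker = C.subgroupOf Er := by
    ext x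
    rw [MonoidHom.mem_ker, hφ, MonoidHom.comp_apply, hf, QuotientGroup.mk'_apply,
      QuotientGroup.eq_one_iff, mem_subgroupOf, mem_subgroupOf]
    rfl
  have hφrange : φ.range = pResidual p (↥E ⧸ C.subgroupOf E) := by
    rw [hφ, MonoidHom.range_comp, inclusion_range, hEK, hRmap]
  have hq1 : IsQuasisimple (↥Er ⧸ C.subgroupOf Er) := by
    have e : ↥Er ⧸ φ.ker ≃* ↥φ.range := QuotientGroup.quotientKerEquivRange φ
    refine (Components.quasisimple_congr ((QuotientGroup.quotientMulEquivOfEq hφker.symm).trans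
      (e.trans (MulEquiv.subgroupCongr hφrange)))).mpr hqs'
  have hperf' : ∀ (N : Subgroup ↥Er) [N.Normal], Group.IsPerfect (↥Er ⧸ N) := by
    intro N hN
    haveI : Group.IsPerfect ↥Er := ⟨map_injective Er.subtype_injective (by
      rw [map_subtype_commutator, hperf, ← MonoidHom.range_eq_map, range_subtype])⟩
    exact Group.IsPerfect.ofSurjective (QuotientGroup.mk'_surjective N)
  have hq2 : IsQuasisimple (↥Er ⧸ pCore p ↥Er) := by
    have hle : pCore p ↥Er ≤ C.subgroupOf Er := by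
      intro x hx
      have h1 : O ≤ pCoreOf p E := pCoreOf_le_pCoreOf_of_normal hErE hEEr
      have h2 : (pCore p ↥E).map f ≤ pCore p (↥E ⧸ C.subgroupOf E) :=
        Components.le_pCore_of_normal ((inferInstance : (pCore p ↥E).Normal).map f hfs)
          ((Components.isPGroup_pCore p).map f)
      rw [hred, le_bot_iff, Subgroup.map_eq_bot_iff, hf, QuotientGroup.ker_mk'] at h2
      obtain ⟨y, hy, hyx⟩ := h1 ⟨x, hx, rfl⟩
      have := h2 hy
      rw [mem_subgroupOf] at this ⊢
      rwa [← show (y : G) = ((x : ↥Er) : G) from hyx]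
    set g : ↥Er ⧸ pCore p ↥Er →* ↥Er ⧸ C.subgroupOf Er :=
      QuotientGroup.map _ _ (MonoidHom.id _) (by rwa [comap_id]) with hg
    have hgs : Function.Surjective g := fun y => by
      obtain ⟨x, rfl⟩ := QuotientGroup.mk'_surjective _ y
      exact ⟨QuotientGroup.mk' _ x, rfl⟩
    have hgc : g.ker ≤ center _ := by
      intro y hy
      obtain ⟨x, rfl⟩ := QuotientGroup.mk'_surjective _ y
      have hxC : (x : G) ∈ C0 := ⟨x.2, mem_subgroupOf.mp ((QuotientGroup.eq_one_iff x).mp hy)⟩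
      refine mem_center_iff.mpr fun z => ?_
      obtain ⟨z, rfl⟩ := QuotientGroup.mk'_surjective _ z
      have h3 : ⁅x, z⁆ ∈ pCore p ↥Er := by
        obtain ⟨w, hw, hwe⟩ := hC0W (commutator_mem_commutator hxC z.2)
        have : w = ⁅x, z⁆ := Subtype.ext (hwe.trans (by simp [commutatorElement_def]))
        rwa [← this]
      have h4 := (QuotientGroup.eq_one_iff _).mpr h3
      rw [← QuotientGroup.mk'_apply, map_commutatorElement,
        commutatorElement_eq_one_iff_mul_comm] at h4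
      exact h4.symm
    haveI := hperf' (pCore p ↥Er)
    haveI := Components.quasisimple_nontrivial hq1
    refine Components.isQuasisimple_of inferInstance hgs.nontrivial fun N hN => ?_
    rcases Components.quasisimple_normal_top_or_central hq1 (hN.map g hgs) with h | h
    · left
      refine Components.eq_top_of_sup_center_eq_top hN (top_le_iff.mp ?_)
      calc (⊤ : Subgroup _) = N ⊔ g.ker := by rw [← comap_map_eq, h, comap_top]
        _ ≤ N ⊔ center _ := sup_le_sup le_rfl hgc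
    · right
      have h5 : ⁅⁅N, (⊤ : Subgroup (↥Er ⧸ pCore p ↥Er))⁆, (⊤ : Subgroup (↥Er ⧸ pCore p ↥Er))⁆ = ⊥ := by
        rw [commutator_eq_bot_iff_le_centralizer]
        have h6 : ⁅N, (⊤ : Subgroup _)⁆ ≤ g.ker := by
          rw [commutator_le]
          intro a ha b _
          rw [MonoidHom.mem_ker, map_commutatorElement, commutatorElement_eq_one_iff_mul_comm]
          exact (mem_center_iff.mp (h (mem_map_of_mem g ha)) (g b)).symm
        exact fun a ha => mem_centralizer_iff.mpr fun b _ => mem_center_iff.mp (hgc (h6 ha)) b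
      have h7 : ⁅⁅(⊤ : Subgroup (↥Er ⧸ pCore p ↥Er)), ⊤⁆, N⁆ = ⊥ :=
        commutator_commutator_eq_bot_of_rotate (by rwa [commutator_comm ⊤ N]) h5
      rw [← commutator_def, Group.IsPerfect.commutator_eq_top, commutator_comm,
        commutator_eq_bot_iff_le_centralizer] at h7
      exact fun a ha => mem_center_iff.mpr fun b =>
        mem_centralizer_iff.mp (h7 ha) b (mem_top b)
  refine ⟨le_antisymm (sup_le hRle le_sup_right) (sup_le_sup hErR le_rfl), hperf, pRes_pRes W,
    hq1, hq2, fun Y hYE hYp hYC => ?_⟩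
  have hYb : (Y.subgroupOf E).map f ≠ ⊥ := by
    intro h
    rw [Subgroup.map_eq_bot_iff, hf, QuotientGroup.ker_mk'] at h
    exact hYC fun y hy => h (show (⟨y, hYE hy⟩ : ↥E) ∈ Y.subgroupOf E from hy)
  have hk := (hYact _ ((hYp.of_equiv (subgroupOfEquivOfLe hYE).symm).map f) hYb).1
  set M := ⁅Er, Y⁆ with hM
  have hME : M ≤ Er := le_normalizer_iff_commutator_le_left.mp (hYE.trans hEEr)
  have hMc : Er ≤ M ⊔ CE := by
    refine (himg hErE (hME.trans hErE)).mp ?_
    conv_lhs => rw [hEK, hRmap, ← hk, ← hRmap, ← hEK, ← map_commutator]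
    refine map_mono fun x hx => mem_subgroupOf.mpr ?_
    have := mem_map_of_mem E.subtype hx
    rwa [map_commutator, map_subgroupOf_eq_of_le hErE, map_subgroupOf_eq_of_le hYE] at this
  refine le_antisymm hME ?_
  have hMn : Er ≤ normalizer (M : Set G) := normalizer_commutator_ge_left Er Y
  have h1 : Er ≤ M ⊔ O := by
    conv_lhs => rw [← hperf]
    rw [commutator_le]
    intro x hx z hz
    have hx' : x ∈ (↑(M ⊔ C0) : Set G) := hC0sup hME hMc hx
    rw [coe_mul_of_left_le_normalizer_right _ _ ((hME.trans hErE).trans hC0n)] at hx'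
    obtain ⟨m, hm, c, hc, rfl⟩ := Set.mem_mul.mp hx'
    rw [show ⁅m * c, z⁆ = (m * ⁅c, z⁆ * m⁻¹) * ⁅m, z⁆ by
      simp only [commutatorElement_def]; group]
    exact mul_mem (mem_sup_right ((mem_normalizer_iff.mp (hOn (hErE (hME hm))) _).mp
      (hC0W (commutator_mem_commutator hc hz))))
      (mem_sup_left ((le_normalizer_iff_commutator_le_left.mp hMn)
        (commutator_mem_commutator hm hz)))
  calc Er = pRes p Er := (pRes_pRes W).symm
    _ ≤ pRes p (M ⊔ O) := pRes_mono h1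
    _ = pRes p M := pRes_sup_pGroup (isPGroup_pCoreOf Er) ((pCoreOf_le Er).trans hMn)
    _ ≤ M := pRes_le M

end Cfsg.Agent.S2860
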