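import Cfsg.Statements.S2861
import Cfsg.Agent.Lib.LocalStr.FrakMember
-- import your own Cfsg.Agent.* helpers here

set_option autoImplicit false
open Cfsg

set_option autoImplicit false
set_option linter.style.haveILetI false

namespace Cfsg.Agent.S2861
open Subgroup CfsgLib CfsgLib.LocalStr CfsgLib.LocalStr.FrakL


/-- Standing hypotheses: G a finite group, S a Sylow p-subgroup, Q a nontrivial large p-subgroup of G contained in S, M a subgroup containing S with the basic property (M ∈ 𝔐_G(S)); Y_M the largest p-reduced normal subgroup of M and M† = M·C_G(Y_M). Let L ∈ 𝔏_G(Y_M) (L ∈ 𝔏_G(Y_M): Y_M ≤ L; O_p(L) is the normal closure in L of Y_M ∩ O_p(L) and normalizes Y_M; L is Y_M-minimal of characteristic p with N_L(Y_M) its unique maximal subgroup over Y_M; and L/O_p(L) ≅ SL₂(q) with q = |Y_M : Y_M ∩ O_p(L)|, or p = 2 and L/O_p(L) is a Suzuki group Sz(q) or dihedral of order 2r, r an odd prime) and A = O_p(L). Then Y_M·A/A is the unique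 nontrivial elementary abelian normal p-subgroup of N_L(Y_M)/A. -/
theorem result {G : Type*} [Group G] [Finite G] {p : ℕ} [Fact p.Prime] (S : Sylow p G) (Q : Subgroup G) (hQp : IsPGroup p ↥Q) (hQ1 : Q ≠ ⊥) (hQS : Q ≤ (S : Subgroup G)) (hQ : Cfsg.IsLarge Q) (M : Subgroup G) (hSM : (S : Subgroup G) ≤ M) (hM : Cfsg.IsInFrakM p M) (L : Subgroup G) (hL : Cfsg.IsInFrakL p M L) (NL : Subgroup G) (hNL : NL = L ⊓ Subgroup.normalizer (((Cfsg.largestPReducedOf p M) : Subgroup G) : Set G)) [hn : (((Cfsg.pCoreOf p L)).subgroupOf NL).Normal] : let Ybar : Subgroup (↥NL ⧸ ((Cfsg.pCoreOf p L)).subgroupOf NL) := (((Cfsg.largestPReducedOf p M)).subgroupOf NL).map (QuotientGroup.mk' (((Cfsg.pCoreOf p L)).subgroupOf NL)); Ybar ≠ ⊥ ∧ Ybar.Normal ∧ Cfsg.IsElementaryAbelian p Ybar ∧ ∀ (V : Subgroup (↥NL ⧸ ((Cfsg.pCoreOf p L)).subgroupOf NL)), V.Normal → Cfsg.IsElementaryAbelian p V → V ≠ ⊥ → V = Ybar := by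
  intro Ybar
  obtain ⟨hI, hMod⟩ := member_data hL
  have hYL := hL.1
  set Y := largestPReducedOf p M with hYdef
  set O := pCore p ↥L with hOdef
  set f := QuotientGroup.mk' O with hf
  set Yb := (Y.subgroupOf L).map f with hYb
  set W := (pCoreOf p L).subgroupOf NL with hW
  have hNLL : NL ≤ L := hNL ▸ inf_le_left
  have hYN : Y ≤ NL := hNL ▸ le_inf hYL le_normalizer
  set ψ : ↥NL →* ↥L ⧸ O := f.comp (inclusion hNLL) with hψ
  have hOsub : (pCoreOf p L).subgroupOf L = O :=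
    comap_map_eq_self_of_injective L.subtype_injective _
  have hker : ψ.ker = W := by
    ext x
    rw [hψ, MonoidHom.mem_ker, MonoidHom.comp_apply, hf, QuotientGroup.mk'_apply,
      QuotientGroup.eq_one_iff, ← hOsub, hW, mem_subgroupOf, mem_subgroupOf]
    rfl
  set g := QuotientGroup.lift W ψ hker.ge with hg
  have hginj : Function.Injective g := by
    rw [injective_iff_map_eq_one]
    intro x hx
    obtain ⟨x, rfl⟩ := QuotientGroup.mk'_surjective W x
    exact (QuotientGroup.eq_one_iff x).mpr (hker.le hx)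
  have hgY : Ybar.map g = Yb := by
    ext z
    constructor
    · rintro ⟨_, ⟨y, hy, rfl⟩, rfl⟩
      exact ⟨inclusion hNLL y, hy, rfl⟩
    · rintro ⟨y, hy, rfl⟩
      exact ⟨_, ⟨⟨y, hYN hy⟩, hy, rfl⟩, rfl⟩
  have hmem : ∀ {l : ↥L}, f l ∈ normalizer (Yb : Set (↥L ⧸ O)) ↔ (l : G) ∈ NL := by
    intro l
    have h : l ∈ normalizer ((Y.subgroupOf L : Subgroup ↥L) : Set ↥L) ↔ (l : G) ∈ NL := by
      rw [← subgroupOf_normalizer_eq hYL, mem_subgroupOf, hNL]
      exact ⟨fun h => ⟨l.2, h⟩, fun h => h.2⟩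
    rw [← h, ← hI.comap_normalizer]
    exact Iff.rfl
  have hgN : (⊤ : Subgroup (↥NL ⧸ W)).map g = normalizer (Yb : Set (↥L ⧸ O)) := by
    ext z
    constructor
    · rintro ⟨x, -, rfl⟩
      obtain ⟨x, rfl⟩ := QuotientGroup.mk'_surjective W x
      exact hmem.mpr x.2
    · intro hz
      obtain ⟨l, rfl⟩ := QuotientGroup.mk'_surjective O z
      exact ⟨QuotientGroup.mk' W ⟨l, hmem.mp hz⟩, mem_top _, rfl⟩
  have hgnorm : ∀ {X : Subgroup (↥NL ⧸ W)}, X.Normal →
      normalizer (Yb : Set (↥L ⧸ O)) ≤ normalizer ((X.map g : Subgroup (↥L ⧸ O)) : Set (↥L ⧸ O)) := by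
    intro X hX
    rw [← hgN]
    refine le_trans ?_ (le_normalizer_map g)
    exact map_mono (by rw [normalizer_eq_top_iff.mpr hX])
  refine ⟨fun h => hI.ne_bot ?_, ⟨fun y hy x => ?_⟩, ?_, fun V hVn hVe hV1 => ?_⟩
  · show Yb = ⊥; rw [← hgY, h, Subgroup.map_bot]
  · have h1 : g x * g y * (g x)⁻¹ ∈ Yb :=
      (mem_normalizer_iff.mp (hgN ▸ mem_map_of_mem g (mem_top x) :
        g x ∈ normalizer (Yb : Set (↥L ⧸ O))) _).mp (hgY ▸ mem_map_of_mem g hy)
    rw [← map_inv, ← map_mul, ← map_mul, ← hgY] at h1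
    obtain ⟨z, hz, hzx⟩ := h1
    exact hginj hzx ▸ hz
  · rw [← isElementaryAbelian_map hginj, hgY]
    exact hI.elem
  · refine map_injective hginj ((hMod.uniq (V.map g) ?_ (hgnorm hVn) ?_ ?_).trans hgY.symm)
    · rw [← hgN]; exact map_mono le_top
    · exact (isElementaryAbelian_map hginj).mpr hVe
    · exact fun h => hV1 ((map_eq_bot_iff_of_injective _ hginj).mp h)

end Cfsg.Agent.S2861
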