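import Cfsg.Statements.S2862
import Cfsg.Agent.S2845
import Cfsg.Agent.Lib.LocalStr.AsymLMain
import Cfsg.Agent.Lib.LocalStr.PReduced
-- import your own Cfsg.Agent.* helpers here

set_option autoImplicit false
open Cfsg

set_option autoImplicit false
set_option linter.style.haveILetI false

namespace Cfsg.Agent.S2862
open Subgroup CfsgLib CfsgLib.LocalStr
open CfsgLib.LocalEven (IsSylOf cj cj_le_cj cj_centralizer)
open scoped commutatorElement


/-- Standing hypotheses: G a finite group, S a Sylow p-subgroup, Q a nontrivial large p-subgroup of G contained in S, M a subgroup containing S with the basic property (M ∈ 𝔐_G(S)); Y_M the largest p-reduced normal subgroup of M and M† = M·C_G(Y_M). Suppose Y_M is char-p-tall and asymmetric in G, H ∈ ℌ_G(O_p(M)), and L is minimal among the subgroups of H containing Y_M with Y_M ≰ O_p(L). Then H = ⟨L, O_p(M)⟩ = ⟨hY_Mh⁻¹, O_p(M)⟩ for every h ∈ L outside N_L(Y_M); L is Y_M-minimal and of characteristic p, with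 N_L(Y_M) the unique maximal subgroup of L containing Y_M; [V, O^p(L)] ≠ 1 for every noncentral chief factor V/W of H inside O_p(H) (that is, O^p(L) does not act trivially on V/W); and the normal closure of O_p(L) ∩ Y_M in L lies in O_p(H). -/
theorem result {G : Type*} [Group G] [Finite G] {p : ℕ} [Fact p.Prime] (S : Sylow p G) (Q : Subgroup G) (hQp : IsPGroup p ↥Q) (hQ1 : Q ≠ ⊥) (hQS : Q ≤ (S : Subgroup G)) (hQ : Cfsg.IsLarge Q) (M : Subgroup G) (hSM : (S : Subgroup G) ≤ M) (hM : Cfsg.IsInFrakM p M) (htall : Cfsg.IsCharPTall p (Cfsg.largestPReducedOf p M)) (hasym : ¬ Cfsg.IsSymmetricIn (Cfsg.largestPReducedOf p M)) (H : Subgroup G) (hH : Cfsg.IsInFrakH p M H) (L : Subgroup G) (hLH : L ≤ H) (hYL : (Cfsg.largestPReducedOf p M) ≤ L) (hYO : ¬ (Cfsg.largestPReducedOf p M) ≤ (Cfsg.pCoreOf p L)) (hmin : ∀ L' : Subgroup G, L' ≤ L → (Cfsg.largestPReducedOf p M) ≤ L' → ¬ (Cfsg.largestPReducedOf p M) ≤ (Cfsg.pCoreOf p L') → L' = L) : (L ⊔ (Cfsg.pCoreOf p M)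 = H ∧ ∀ h ∈ L, h ∉ Subgroup.normalizer (((Cfsg.largestPReducedOf p M) : Subgroup G) : Set G) → (((Cfsg.largestPReducedOf p M) : Subgroup G).map (MulAut.conj (h : G)).toMonoidHom) ⊔ (Cfsg.pCoreOf p M) = H) ∧ (Cfsg.IsMinimalOver (((Cfsg.largestPReducedOf p M)).subgroupOf L) ∧ Subgroup.centralizer (Cfsg.pCore p ↥L : Set ↥L) ≤ Cfsg.pCore p ↥L ∧ L ⊓ Subgroup.normalizer (((Cfsg.largestPReducedOf p M) : Subgroup G) : Set G) < L ∧ ∀ X : Subgroup G, (Cfsg.largestPReducedOf p M) ≤ X → X < L → X ≤ L ⊓ Subgroup.normalizer (((Cfsg.largestPReducedOf p M) : Subgroup G) : Set G)) ∧ (∀ V W' : Subgroup G, V ≤ (Cfsg.pCoreOf p H) → H ≤ Subgroup.normalizer ((V : Subgroup G) : Set G) → H ≤ Subgroup.normalizer ((W' : Subgroup G) : Set G) → W' < V → (∀ Z' : Subgroup G, H ≤ Subgroup.normalizer ((Z' : Subgroup G) : Set G) → W' ≤ Z' → Z' ≤ V → Z' = W' ∨ Z' = V) → ¬ ⁅V, H⁆ ≤ W' → ¬ ⁅V, ((Cfsg.pResidual p ↥L).map (L).subtype)⁆ ≤ W') ∧ (Subgroup.normalClosure (((((Cfsg.pCoreOf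 p L) ⊓ (Cfsg.largestPReducedOf p M)).subgroupOf L : Subgroup ↥L)) : Set ↥L)).map L.subtype ≤ (Cfsg.pCoreOf p H) := by
  obtain ⟨hM1, hM2, hM3, hM4, hM5, -⟩ := hM
  obtain ⟨hH1, hH2, hH3, hH4⟩ := hH
  set Y := largestPReducedOf p M with hYd
  set P := pCoreOf p M with hPd
  set U := pCoreOf p H with hUd
  have hY := pRedIn_largest (p := p) M
  rw [← hYd] at hY
  set N := M ⊔ centralizer (Y : Set G) with hNd
  have hNY : N ≤ normalizer (Y : Set G) := hM4 ▸ (pRedIn_largest (p := p) N).norm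
  have hloc : ∀ R : Subgroup G, R ≠ ⊥ → IsPGroup p R → M ≤ normalizer (R : Set G) →
      normalizer (R : Set G) ≤ normalizer (Y : Set G) := by
    intro R hR1 hRp hMR
    set X := normalizer (R : Set G) with hX
    have hI'' : pCore p ↥X ≠ ⊥ := fun h => hR1 (le_bot_iff.mp
      ((LocalStr.le_pCoreOf (H := X) le_normalizer le_rfl hRp).trans
        (pCore_eq_bot_iff_pCoreOf.mp h).le))
    have hchar := (S2845.result Q hQp hQ1 hQ).2.1 X ⟨S, hSM.trans hMR⟩ hI''
    obtain ⟨X', hRX, hX'⟩ := (Set.toFinite (charPSubgroups p G)).exists_le_maximal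
      (show X ∈ charPSubgroups p G from ⟨hI'', hchar⟩)
    have hXm : X' ∈ maxCharPSubgroups p G :=
      ⟨hX'.prop, fun L hL hle => (hX'.eq_of_le hL hle).symm⟩
    exact (hRX.trans (hM3 X' hXm (hMR.trans hRX)).le).trans hNY
  have hYne : Y ≠ ⊥ := fun e => hH3 (e ▸ bot_le)
  have hPM : M ≤ normalizer (P : Set G) := le_normalizer_pCoreOf M
  have hP1 : P ≠ ⊥ := fun e => hYne (le_bot_iff.mp (hY.le_pCoreOf.trans e.le))
  have hasym' : ∀ g : G, Y ≤ normalizer (cj g Y : Set G) → cj g Y ≤ normalizer (Y : Set G) →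
      Y ≤ centralizer (cj g Y : Set G) := fun g h1 h2 => by
    rw [← commutator_eq_bot_iff_le_centralizer]
    by_contra hne
    exact hasym ⟨g, hne, commutator_le.mpr fun a ha b hb =>
      ⟨commutator_mem_right (h2 hb) ha, commutator_mem_left (h1 ha) hb⟩⟩
  have hPmax : ∀ R : Subgroup G, IsPGroup p R → R ≤ centralizer (Y : Set G) → P ≤ R → R = P := by
    intro R hR hRC hPR
    have hT := inf_centralizer_isSylOf S (hSM.trans hY.norm)
    have hle : (S : Subgroup G) ⊓ centralizer (Y : Set G) ≤ P := by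
      set C := M ⊓ centralizer (Y : Set G) with hC
      have hSC : (S : Subgroup G) ⊓ centralizer (Y : Set G) ≤ C := inf_le_inf_right _ hSM
      have h1 := isPClosed_iff_le_pCore.mp hM5
        (((S : Subgroup G) ⊓ centralizer (Y : Set G)).subgroupOf C)
        ((S.isPGroup'.to_le inf_le_left).of_equiv (subgroupOfEquivOfLe hSC).symm)
      refine ((map_subgroupOf_eq_of_le hSC).ge.trans (map_mono h1)).trans ?_
      exact pCoreOf_le_pCoreOf_of_normal inf_le_left
        (LocalEven.le_normalizer_inf le_normalizer (LocalStr.le_normalizer_centralizer hY.norm))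
    obtain ⟨T, hT', hRT⟩ := LocalEven.exists_isSylOf_ge hR hRC
    refine (eq_of_le_of_card_ge hPR ?_).symm
    calc Nat.card R ≤ Nat.card T := card_le_of_le hRT
      _ = Nat.card ↥((S : Subgroup G) ⊓ centralizer (Y : Set G)) := by rw [hT'.2, hT.2]
      _ ≤ Nat.card P := card_le_of_le hle
  have hA : AsymL p Y P U H L :=
    { base := ⟨isPGroup_pCoreOf M, hY.le_pCoreOf,
        hloc P hP1 (isPGroup_pCoreOf M) hPM, hY.pCoreOf_le_centralizer, hPmax, hasym',
        fun R hR1 hRp hPR => hloc R hR1 hRp (hPM.trans hPR), hYne⟩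
      elem := hY.elem
      Up := isPGroup_pCoreOf H
      UH := pCoreOf_le H
      HU := le_normalizer_pCoreOf H
      CHU := fun x hx hxc => charPIn_of hH1 x hx hxc
      PH := hH2
      prop := hH4
      LH := hLH
      YL := hYL
      YO := hYO
      maxU := fun X hX hn hp => LocalStr.le_pCoreOf hX hn hp
      min := hmin }
  refine ⟨⟨hA.sup_eq, fun h hL hN => hA.sup_conj_eq hL hN⟩,
    ⟨hA.isMinimalOver, hA.charP, hA.inf_normalizer_lt,
      fun X hX hXL => le_inf hXL.le (hA.le_normalizer_of_lt hX hXL)⟩,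
    fun V W' hV hHV hHW hWV hch hne => hA.not_commutator_pRes_le
      ⟨hV, hHV, hHW, hWV, hch⟩ hne, ?_⟩
  haveI : (U.subgroupOf L).Normal := subgroupOf_normal (hLH.trans (le_normalizer_pCoreOf H))
  refine (map_mono (normalClosure_le_normal (N := U.subgroupOf L) fun x hx => ?_)).trans
    (by rw [subgroupOf_map_subtype]; exact inf_le_left)
  exact hA.inter_pCoreOf_le hx.2 hx.1

end Cfsg.Agent.S2862
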