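import Cfsg.Statements.S2863
import Cfsg.Agent.Lib.LocalStr.FrakMember
import Cfsg.Agent.Lib.LocalStr.Large
import Mathlib.Tactic.Group
-- import your own Cfsg.Agent.* helpers here

set_option autoImplicit false
open Cfsg

set_option autoImplicit false
set_option linter.style.haveILetI false

namespace Cfsg.Agent.S2863
open Subgroup CfsgLib CfsgLib.LocalStr CfsgLib.LocalStr.FrakL
open scoped commutatorElement

theorem commute_of_mem_elemAb {G : Type*} [Group G] {p : ℕ} {A : Subgroup G}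
    (h : IsElementaryAbelian p A) {a b : G} (ha : a ∈ A) (hb : b ∈ A) : a * b = b * a :=
  congrArg Subtype.val (h.1.is_comm.comm ⟨a, ha⟩ ⟨b, hb⟩)

theorem mem_normalizer_of_map_conj_le {G : Type*} [Group G] [Finite G] {H : Subgroup G} {g : G}
    (h : H.map (MulAut.conj g).toMonoidHom ≤ H) : g ∈ normalizer (H : Set G) :=
  map_conj_eq_iff.mp (eq_of_le_of_card_ge h (card_map_of_injective (MulAut.conj g).injective).ge)

theorem fixed_point_free {K : Type*} [Group K] [Finite K] {p : ℕ} [Fact p.Prime] {A : Subgroup K}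
    [A.Normal] (hAp : IsPGroup p ↥A) {Y : Subgroup K} (hY : IsElementaryAbelian p Y)
    (hAY : A ≤ normalizer (Y : Set K)) (hAgen : A = normalClosure ((Y ⊓ A : Subgroup K) : Set K))
    (hgen : normalClosure (Y : Set K) = ⊤)
    (hnt : normalizer (Y : Set K) ≠ ⊤)
    (hmax : ∀ X : Subgroup K, Y ≤ X → X ≠ ⊤ → X ≤ normalizer (Y : Set K))
    (hI : Image p A Y) (hM : Model p (Y.map (QuotientGroup.mk' A))) :
    ∀ h : K, (¬ ∃ k : ℕ, orderOf h = p ^ k) → ∀ a ∈ A,
      ⁅h, a⁆ ∈ Y ⊓ center K → a ∈ Y ⊓ center K := by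
  set C := Y ⊓ center K with hC
  haveI hCn : C.Normal := ⟨fun c hc g => by
    have : g * c * g⁻¹ = c := by rw [mem_center_iff.mp hc.2 g, mul_inv_cancel_right]
    rwa [this]⟩
  set π := QuotientGroup.mk' C with hπ
  have hπs : Function.Surjective π := QuotientGroup.mk'_surjective C
  have hπ1 : ∀ {g : K}, π g = 1 ↔ g ∈ C := fun {g} => QuotientGroup.eq_one_iff g
  set N := normalizer (Y : Set K) with hN
  set f := QuotientGroup.mk' A with hf
  have hf1 : ∀ {g : K}, f g = 1 ↔ g ∈ A := fun {g} => QuotientGroup.eq_one_iff g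
  have hfN : ∀ {g : K}, f g ∈ normalizer ((Y.map f : Subgroup (K ⧸ A)) : Set (K ⧸ A)) ↔ g ∈ N :=
    fun {g} => by rw [hN, ← hI.comap_normalizer]; rfl
  have hYp : IsPGroup p ↥Y := LocalEven.isPGroup_elemAb hY
  obtain ⟨y₀, hy₀, hy₀A⟩ : ∃ y ∈ Y, y ∉ A := by
    by_contra h
    push Not at h
    exact hI.ne_bot (by rw [Subgroup.map_eq_bot_iff, QuotientGroup.ker_mk']; exact h)
  -- a subgroup containing `Y` and a conjugate outside `N` is everything
  have hgen2 : ∀ (X : Subgroup K) {g y : K}, Y ≤ X → y ∈ Y → y ∉ A → g * y * g⁻¹ ∈ X → g ∉ N →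
      X = ⊤ := by
    intro X g y hX hy hyA hgy hgN
    by_contra hXt
    refine hgN (hfN.mp (hM.ti _ (mem_map_of_mem f hy) (fun h => hyA (hf1.mp h)) _ ?_))
    rw [← map_inv, ← map_mul, ← map_mul]
    exact hfN.mpr (hmax X hX hXt hgy)
  have hgen3 : ∀ {g : K}, g ∉ N → ∀ X : Subgroup K, Y ≤ X →
      Y.map (MulAut.conj g).toMonoidHom ≤ X → X = ⊤ := fun hg X hX hX' =>
    hgen2 X hX hy₀ hy₀A (hX' ⟨y₀, hy₀, rfl⟩) hg
  have hYconj : ∀ {g : K}, g ∈ N → Y.map (MulAut.conj g).toMonoidHom = Y := fun hg =>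
    map_conj_eq_iff.mpr hg
  -- two different conjugates meet in `C`
  have hmeet : ∀ {g z : K}, g ∉ N → z ∈ Y → g⁻¹ * z * g ∈ Y → z ∈ C := by
    intro g z hg hz hz'
    have htop := hgen3 hg (centralizer ({z} : Set K))
      (fun y hy => mem_centralizer_singleton_iff.mpr (commute_of_mem_elemAb hY hy hz))
      (by
        rintro _ ⟨y, hy, rfl⟩
        refine mem_centralizer_singleton_iff.mpr ?_
        show g * y * g⁻¹ * z = z * (g * y * g⁻¹)
        calc g * y * g⁻¹ * z = g * (y * (g⁻¹ * z * g)) * g⁻¹ := by group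
          _ = _ := by rw [commute_of_mem_elemAb hY hy hz']; group)
    exact ⟨hz, mem_center_iff.mpr fun k => mem_centralizer_singleton_iff.mp (htop ▸ mem_top k)⟩
  -- commutators of conjugates
  set B := Y ⊓ A with hB
  have hBA : ∀ {b : K}, b ∈ B → ∀ g : K, g * b * g⁻¹ ∈ A := fun hb g =>
    (inferInstance : A.Normal).conj_mem _ hb.2 g
  have hnormY : ∀ {a y : K}, a ∈ A → y ∈ Y → ∀ g : K, a * (g * y * g⁻¹) * a⁻¹ ∈
      Y.map (MulAut.conj g).toMonoidHom := by
    intro a y ha hy g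
    have ha' : g⁻¹ * a * g ∈ N := hAY (by
      simpa using (inferInstance : A.Normal).conj_mem _ ha g⁻¹)
    refine ⟨g⁻¹ * a * g * y * (g⁻¹ * a * g)⁻¹, (mem_normalizer_iff.mp ha' y).mp hy, ?_⟩
    show g * _ * g⁻¹ = _
    group
  have hcommB : ∀ {b b' : K} (g g' : K), b ∈ B → b' ∈ B →
      ⁅g * b * g⁻¹, g' * b' * g'⁻¹⁆ ∈ C := by
    intro b b' g g' hb hb'
    set u := g * b * g⁻¹ with hu
    set w := g' * b' * g'⁻¹ with hw
    obtain ⟨z, hz, hz'⟩ := hnormY (hBA hb g) hb'.1 g'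
    obtain ⟨z2, hz2, hz2'⟩ := hnormY (hBA hb' g') (inv_mem hb.1) g
    have hz' : g' * z * g'⁻¹ = u * w * u⁻¹ := hz'
    have hz2' : g * z2 * g⁻¹ = w * (g * b⁻¹ * g⁻¹) * w⁻¹ := hz2'
    have e1 : ⁅u, w⁆ = g' * (z * b'⁻¹) * g'⁻¹ := by
      rw [commutatorElement_def, ← hz', hw]; group
    have e2 : ⁅u, w⁆ = g * (b * z2) * g⁻¹ := by
      calc ⁅u, w⁆ = g * b * g⁻¹ * (w * (g * b⁻¹ * g⁻¹) * w⁻¹) := by
            rw [commutatorElement_def, hu]; group
        _ = _ := by rw [← hz2']; group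
    by_cases hgg : g⁻¹ * g' ∈ N
    · have h1 : (g⁻¹ * g') * b' * (g⁻¹ * g')⁻¹ ∈ Y := (mem_normalizer_iff.mp hgg b').mp hb'.1
      have h2 : ⁅b, (g⁻¹ * g') * b' * (g⁻¹ * g')⁻¹⁆ = 1 :=
        commutatorElement_eq_one_iff_mul_comm.mpr (commute_of_mem_elemAb hY hb.1 h1)
      have h3 : ⁅u, w⁆ = g * ⁅b, (g⁻¹ * g') * b' * (g⁻¹ * g')⁻¹⁆ * g⁻¹ := by
        simp only [commutatorElement_def, hu, hw]; group
      rw [h3, h2]
      simp
    · have hzC : b * z2 ∈ C := by
        refine hmeet hgg (mul_mem hb.1 hz2) ?_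
        rw [show (g⁻¹ * g')⁻¹ * (b * z2) * (g⁻¹ * g') = g'⁻¹ * (g * (b * z2) * g⁻¹) * g' by group,
          ← e2, e1, show g'⁻¹ * (g' * (z * b'⁻¹) * g'⁻¹) * g' = z * b'⁻¹ by group]
        exact mul_mem hz (inv_mem hb'.1)
      rw [e2]
      exact hCn.conj_mem _ hzC g
  -- the module `V`
  set S : Set (K ⧸ C) := {v | ∃ b ∈ B, ∃ g : K, v = π (g * b * g⁻¹)} with hS
  set V := A.map π with hV
  have hVS : V = closure S := by
    rw [hV, hAgen, normalClosure, MonoidHom.map_closure]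
    congr 1
    ext v
    constructor
    · rintro ⟨x, hx, rfl⟩
      obtain ⟨b, hb, hc⟩ := Group.mem_conjugatesOfSet_iff.mp hx
      obtain ⟨c, rfl⟩ := isConj_iff.mp hc
      exact ⟨b, hb, c, rfl⟩
    · rintro ⟨b, hb, g, rfl⟩
      exact ⟨_, Group.mem_conjugatesOfSet_iff.mpr ⟨b, hb, isConj_iff.mpr ⟨g, rfl⟩⟩, rfl⟩
  have hScomm : ∀ u ∈ S, ∀ w ∈ S, u * w = w * u := by
    rintro _ ⟨b, hb, g, rfl⟩ _ ⟨b', hb', g', rfl⟩
    rw [← commutatorElement_eq_one_iff_mul_comm, ← map_commutatorElement, hπ1]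
    exact hcommB g g' hb hb'
  have hVcomm : ∀ u ∈ V, ∀ w ∈ V, u * w = w * u := by
    intro u hu w hw
    rw [hVS] at hu hw
    induction hu, hw using Subgroup.closure_induction₂ with
    | mem x y hx hy => exact hScomm x hx y hy
    | one_left x _ => simp
    | one_right x _ => simp
    | mul_left x y z _ _ _ h₁ h₂ => exact (Commute.mul_left h₁ h₂ : Commute _ _)
    | mul_right x y z _ _ _ h₁ h₂ => exact (Commute.mul_right h₁ h₂ : Commute _ _)
    | inv_left x y _ _ h => exact (Commute.inv_left h : Commute _ _)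
    | inv_right x y _ _ h => exact (Commute.inv_right h : Commute _ _)
  have hVconj : ∀ {v : K ⧸ C}, v ∈ V → ∀ g : K, π g * v * (π g)⁻¹ ∈ V := fun hv g =>
    ((inferInstance : A.Normal).map π hπs).conj_mem _ hv (π g)
  -- the images of the conjugates of `B`
  set Bq : K → Subgroup (K ⧸ C) := fun g => (B.map (MulAut.conj g).toMonoidHom).map π with hBq
  have hBqmem : ∀ {g : K} {v : K ⧸ C}, v ∈ Bq g ↔ ∃ b ∈ B, π (g * b * g⁻¹) = v := by
    intro g v
    constructor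
    · rintro ⟨_, ⟨b, hb, rfl⟩, rfl⟩; exact ⟨b, hb, rfl⟩
    · rintro ⟨b, hb, rfl⟩; exact ⟨_, ⟨b, hb, rfl⟩, rfl⟩
  have hBqV : ∀ g, Bq g ≤ V := fun g v hv => by
    obtain ⟨b, hb, rfl⟩ := hBqmem.mp hv
    exact mem_map_of_mem π (hBA hb g)
  have hfixY : ∀ {g y : K}, y ∈ Y → ∀ v ∈ Bq g, π (g * y * g⁻¹) * v = v * π (g * y * g⁻¹) := by
    intro g y hy v hv
    obtain ⟨b, hb, rfl⟩ := hBqmem.mp hv
    rw [← map_mul, ← map_mul]
    congr 1
    calc g * y * g⁻¹ * (g * b * g⁻¹) = g * (y * b) * g⁻¹ := by group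
      _ = _ := by rw [commute_of_mem_elemAb hY hy hb.1]; group
  have hmoveY : ∀ {g y : K}, y ∈ Y → ∀ v ∈ V,
      π (g * y * g⁻¹) * v * (π (g * y * g⁻¹))⁻¹ * v⁻¹ ∈ Bq g := by
    rintro g y hy _ ⟨a, ha, rfl⟩
    set a' := g⁻¹ * a * g with ha'
    have haA : a' ∈ A := by simpa [ha'] using (inferInstance : A.Normal).conj_mem _ ha g⁻¹
    refine hBqmem.mpr ⟨y * a' * y⁻¹ * a'⁻¹, ⟨?_, ?_⟩, ?_⟩
    · rw [show y * a' * y⁻¹ * a'⁻¹ = y * (a' * y⁻¹ * a'⁻¹) by group]
      exact mul_mem hy ((mem_normalizer_iff.mp (hAY haA) _).mp (inv_mem hy))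
    · show _ ∈ A
      exact mul_mem ((inferInstance : A.Normal).conj_mem _ haA y) (inv_mem haA)
    · simp only [← map_inv, ← map_mul]
      congr 1
      rw [ha']; group
  -- conjugating fixed points
  have hcen : ∀ {g : K}, g ∉ N → ∀ v : K ⧸ C, (∀ y ∈ Y, π y * v = v * π y) →
      (∀ y ∈ Y, π (g * y * g⁻¹) * v = v * π (g * y * g⁻¹)) → ∀ k : K, π k * v = v * π k := by
    intro g hg v h1 h2 k
    have htop := hgen3 hg ((centralizer ({v} : Set (K ⧸ C))).comap π)
      (fun y hy => mem_centralizer_singleton_iff.mpr (h1 y hy))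
      (by rintro _ ⟨y, hy, rfl⟩; exact mem_centralizer_singleton_iff.mpr (h2 y hy))
    exact mem_centralizer_singleton_iff.mp (htop ▸ mem_top k : k ∈ (centralizer {v}).comap π)
  have hcenB : ∀ {g : K}, ∀ v ∈ Bq g, (∀ k : K, π k * v = v * π k) → v = 1 := by
    intro g v hv hall
    obtain ⟨b, hb, rfl⟩ := hBqmem.mp hv
    have hbk : ∀ k : K, ⁅b, k⁆ ∈ C := by
      intro k
      rw [← hπ1, map_commutatorElement, commutatorElement_eq_one_iff_mul_comm]
      have hgg := hall g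
      have hk := hall k
      have e : π (g * b * g⁻¹) = π b := by
        rw [map_mul, map_mul, map_inv] at hgg ⊢
        calc π g * π b * (π g)⁻¹ = (π g)⁻¹ * (π g * (π g * π b * (π g)⁻¹)) := by group
          _ = (π g)⁻¹ * (π g * π b * (π g)⁻¹ * π g) := by rw [hgg]
          _ = π b := by group
      rw [e] at hk
      exact hk.symm
    set φ : K →* K := MonoidHom.mk' (fun k => ⁅b, k⁆) (fun k l => by
      have hl : ⁅b, l⁆ ∈ center K := (hbk l).2
      calc ⁅b, k * l⁆ = ⁅b, k⁆ * (k * ⁅b, l⁆ * k⁻¹) := by simp only [commutatorElement_def]; group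
        _ = ⁅b, k⁆ * ⁅b, l⁆ := by rw [mem_center_iff.mp hl k, mul_inv_cancel_right]) with hφ
    have hker : φ.ker = ⊤ := top_le_iff.mp (hgen.ge.trans (normalClosure_le_normal fun y hy =>
      commutatorElement_eq_one_iff_mul_comm.mpr (commute_of_mem_elemAb hY hb.1 hy)))
    have hbC : b ∈ C := ⟨hb.1, mem_center_iff.mpr fun k =>
      (commutatorElement_eq_one_iff_mul_comm.mp (show φ k = 1 from φ.mem_ker.mp (hker ▸ mem_top k))).symm⟩
    exact hπ1.mpr (hCn.conj_mem _ hbC g)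
  have hsplitV : ∀ {g : K}, g ∉ N → ∀ v ∈ V, ∃ b ∈ Bq 1, ∃ b' ∈ Bq g, v = b * b' := by
    intro g hg v hv
    set X := Bq 1 ⊔ Bq g with hX
    have hXV : X ≤ V := sup_le (hBqV 1) (hBqV g)
    have hinv : ∀ k : K, ∀ w ∈ X, π k * w * (π k)⁻¹ ∈ X := by
      intro k
      have htop := hgen3 hg ((normalizer (X : Set (K ⧸ C))).comap π) ?_ ?_
      · intro w hw
        exact (mem_normalizer_iff.mp (htop ▸ mem_top k : k ∈ (normalizer (X : Set (K ⧸ C))).comap π) w).mp hw
      · intro y hy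
        show π y ∈ normalizer (X : Set (K ⧸ C))
        refine mem_normalizer_of_map_conj_le ?_
        rintro _ ⟨w, hw, rfl⟩
        show π y * w * (π y)⁻¹ ∈ X
        have h := hmoveY (g := 1) hy w (hXV hw)
        simp only [one_mul, inv_one, mul_one] at h
        have := mul_mem (mem_sup_left (T := Bq g) h) hw
        rwa [inv_mul_cancel_right] at this
      · rintro _ ⟨y, hy, rfl⟩
        show π (g * y * g⁻¹) ∈ normalizer (X : Set (K ⧸ C))
        refine mem_normalizer_of_map_conj_le ?_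
        rintro _ ⟨w, hw, rfl⟩
        show π (g * y * g⁻¹) * w * (π (g * y * g⁻¹))⁻¹ ∈ X
        have := mul_mem (mem_sup_right (S := Bq 1) (hmoveY (g := g) hy w (hXV hw))) hw
        rwa [inv_mul_cancel_right] at this
    have hVX : V ≤ X := by
      rw [hVS, closure_le]
      rintro _ ⟨b, hb, k, rfl⟩
      rw [map_mul, map_mul, map_inv]
      exact hinv k _ (mem_sup_left (hBqmem.mpr ⟨b, hb, by simp⟩))
    have hle : Bq g ≤ normalizer (Bq 1 : Set (K ⧸ C)) := fun w hw =>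
      mem_normalizer_of_map_conj_le (by
        rintro _ ⟨u, hu, rfl⟩
        show w * u * w⁻¹ ∈ Bq 1
        rw [hVcomm w (hBqV g hw) u (hBqV 1 hu), mul_inv_cancel_right]
        exact hu)
    have hv' : v ∈ (↑(Bq 1 ⊔ Bq g) : Set (K ⧸ C)) := hVX hv
    rw [coe_mul_of_right_le_normalizer_left _ _ hle] at hv'
    obtain ⟨b, hb, b', hb', rfl⟩ := Set.mem_mul.mp hv'
    exact ⟨b, hb, b', hb', rfl⟩
  obtain ⟨g₁, hg₁⟩ : ∃ g : K, g ∉ N := by
    by_contra h
    push Not at h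
    exact hnt (top_le_iff.mp fun g _ => h g)
  -- transport of fixed points along conjugation
  have hconjfix : ∀ (g : K) {k : K} {v : K ⧸ C}, π (g * k * g⁻¹) * v = v * π (g * k * g⁻¹) →
      π k * ((π g)⁻¹ * v * π g) = (π g)⁻¹ * v * π g * π k := by
    intro g k v h
    simp only [map_mul, map_inv] at h
    calc π k * ((π g)⁻¹ * v * π g) = (π g)⁻¹ * (π g * π k * (π g)⁻¹ * v) * π g := by group
      _ = _ := by rw [h]; group
  have hinter : ∀ {g g' : K}, g⁻¹ * g' ∉ N → ∀ z ∈ Bq g, z ∈ Bq g' → z = 1 := by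
    intro g g' hgg z hz hz'
    refine hcenB z hz fun k => ?_
    have hw := hcen hgg ((π g)⁻¹ * z * π g) (fun y hy => hconjfix g (hfixY hy z hz))
      (fun y hy => by
        refine hconjfix g ?_
        rw [show g * (g⁻¹ * g' * y * (g⁻¹ * g')⁻¹) * g⁻¹ = g' * y * g'⁻¹ by group]
        exact hfixY hy z hz') (g⁻¹ * k * g)
    simp only [map_mul, map_inv] at hw
    calc π k * z = π g * ((π g)⁻¹ * π k * π g * ((π g)⁻¹ * z * π g)) * (π g)⁻¹ := by group
      _ = _ := by rw [hw]; group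
  have hfix1 : ∀ {y : K}, y ∈ Y → y ∉ A → ∀ v ∈ V, π y * v = v * π y → v ∈ Bq 1 := by
    intro y hy hyA v hv hyv
    obtain ⟨b, hb, b', hb', rfl⟩ := hsplitV hg₁ v hv
    have hyb : π y * b = b * π y := by
      have := hfixY (g := 1) hy b hb
      simpa using this
    have hyb' : π y * b' = b' * π y := by
      refine mul_left_cancel (a := b) ?_
      rw [← mul_assoc b (π y), ← hyb, mul_assoc, hyv, mul_assoc]
    set w := (π g₁)⁻¹ * b' * π g₁ with hw
    have htop := hgen2 ((centralizer ({w} : Set (K ⧸ C))).comap π) (g := g₁⁻¹) (y := y)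
      (fun z hz => mem_centralizer_singleton_iff.mpr (hconjfix g₁ (hfixY hz b' hb')))
      hy hyA ?_ (fun h => hg₁ (inv_mem_iff.mp h))
    · have hb1 : b' = 1 := by
        refine hcenB b' hb' fun k => ?_
        have hk : π (g₁⁻¹ * k * g₁) * w = w * π (g₁⁻¹ * k * g₁) :=
          mem_centralizer_singleton_iff.mp
            (htop ▸ mem_top (g₁⁻¹ * k * g₁) : g₁⁻¹ * k * g₁ ∈ (centralizer {w}).comap π)
        simp only [map_mul, map_inv, hw] at hk
        calc π k * b' = π g₁ * ((π g₁)⁻¹ * π k * π g₁ * ((π g₁)⁻¹ * b' * π g₁)) * (π g₁)⁻¹ := by group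
          _ = _ := by rw [hk]; group
      rw [hb1, mul_one]; exact hb
    · refine mem_centralizer_singleton_iff.mpr (hconjfix g₁ ?_)
      rw [show g₁ * (g₁⁻¹ * y * g₁⁻¹⁻¹) * g₁⁻¹ = y by group]
      exact hyb'
  have hfixg : ∀ {g y : K}, y ∈ Y → y ∉ A → ∀ v ∈ V,
      π (g * y * g⁻¹) * v = v * π (g * y * g⁻¹) → v ∈ Bq g := by
    intro g y hy hyA v hv h
    have hw : (π g)⁻¹ * v * π g ∈ V := by simpa using hVconj hv g⁻¹
    obtain ⟨b, hb, hbw⟩ := hBqmem.mp (hfix1 hy hyA _ hw (hconjfix g h))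
    refine hBqmem.mpr ⟨b, hb, ?_⟩
    simp only [one_mul, inv_one, mul_one] at hbw
    rw [map_mul, map_mul, map_inv, hbw]; group
  have hactA : ∀ {a : K}, a ∈ A → ∀ v ∈ V, π a * v = v * π a := fun ha v hv =>
    hVcomm _ (mem_map_of_mem π ha) v hv
  -- a split element has no fixed points
  have hsplit : ∀ x : K, Split (Y.map f) (f x) → ∀ v ∈ V, π x * v = v * π x → v = 1 := by
    rintro x ⟨G₁, G₂, _, _, ⟨y, hy, rfl⟩, hy1, ⟨y', hy', rfl⟩, hy1', hgg, hx⟩ v hv hxv
    obtain ⟨g, rfl⟩ := QuotientGroup.mk'_surjective A G₁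
    obtain ⟨g', rfl⟩ := QuotientGroup.mk'_surjective A G₂
    have hgg' : g⁻¹ * g' ∉ N := fun h => hgg (by rw [← map_inv, ← map_mul]; exact hfN.mpr h)
    set a := (g * y * g⁻¹ * (g' * y' * g'⁻¹))⁻¹ * x with ha
    have haA : a ∈ A := hf1.mp (by
      rw [ha, map_mul, map_inv, hx]
      simp only [map_mul, map_inv]
      exact inv_mul_cancel _)
    set y₁ := π (g * y * g⁻¹) with hy₁
    set y₂ := π (g' * y' * g'⁻¹) with hy₂
    have h12 : y₁ * y₂ * v = v * (y₁ * y₂) := by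
      refine mul_right_cancel (b := π a) ?_
      have e : π x = y₁ * y₂ * π a := by
        rw [hy₁, hy₂, ← map_mul, ← map_mul, ha, mul_inv_cancel_left]
      rw [e] at hxv
      rw [mul_assoc _ v, ← hactA haA v hv, ← mul_assoc, hxv, mul_assoc v]
    have hd : y₂ * v * y₂⁻¹ * v⁻¹ = 1 := by
      refine hinter hgg' _ ?_ (hmoveY hy' v hv)
      have h1 := hmoveY (g := g) (inv_mem hy) v hv
      have e : π (g * y⁻¹ * g⁻¹) = y₁⁻¹ := by rw [hy₁, ← map_inv]; congr 1; group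
      rw [e, inv_inv] at h1
      rwa [show y₂ * v * y₂⁻¹ = y₁⁻¹ * v * y₁ by
        calc y₂ * v * y₂⁻¹ = y₁⁻¹ * (y₁ * y₂ * v) * y₂⁻¹ := by group
          _ = _ := by rw [h12]; group]
    have h2 : y₂ * v = v * y₂ := by
      rw [mul_inv_eq_one, mul_inv_eq_iff_eq_mul] at hd
      exact hd
    have h1 : y₁ * v = v * y₁ := by
      refine mul_right_cancel (b := y₂) ?_
      rw [mul_assoc, ← h2, ← mul_assoc, h12, mul_assoc]
    exact hinter hgg' v
      (hfixg hy (fun h => hy1 (hf1.mpr h)) v hv h1)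
      (hfixg hy' (fun h => hy1' (hf1.mpr h)) v hv h2)
  -- conclusion
  intro h hnp a ha hfix
  have hv : π a ∈ V := mem_map_of_mem π ha
  have hhv : π h * π a = π a * π h := by
    rw [← commutatorElement_eq_one_iff_mul_comm, ← map_commutatorElement, hπ1]; exact hfix
  set n := orderOf (f h) with hn
  obtain ⟨r, hr, hrn, hrp⟩ : ∃ r, r.Prime ∧ r ∣ n ∧ r ≠ p := by
    by_contra hcon
    push Not at hcon
    obtain ⟨j, hj⟩ : ∃ j, n = p ^ j :=
      ⟨_, Nat.eq_prime_pow_of_unique_prime_dvd (orderOf_pos _).ne' fun {d} hd hdn => hcon d hd hdn⟩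
    obtain ⟨i, hi⟩ := hAp ⟨h ^ n, hf1.mp (by rw [map_pow, hn, pow_orderOf_eq_one])⟩
    refine hnp (((Nat.dvd_prime_pow Fact.out).mp (orderOf_dvd_of_pow_eq_one (n := p ^ (j + i)) ?_)).imp
      fun k hk => hk.2)
    rw [pow_add, pow_mul, ← hj]
    exact congrArg Subtype.val hi
  set x := h ^ (n / r) with hx
  have hxo : orderOf (f x) = r := by
    rw [hx, map_pow, hn]
    exact orderOf_pow_orderOf_div (orderOf_pos _).ne' hrn
  have hxv : π x * π a = π a * π x := by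
    rw [hx, map_pow]; exact (show Commute (π h) (π a) from hhv).pow_left _
  by_contra haC
  have hv1 : π a ≠ 1 := fun h1 => haC (hπ1.mp h1)
  rcases hM.split (f x) (hxo ▸ hr) (hxo ▸ hrp) with hs | ⟨hxc, _, ⟨y, hy, rfl⟩, hy1, hs⟩
  · exact hv1 (hsplit x hs _ hv hxv)
  · set W := V ⊓ centralizer ({π x} : Set (K ⧸ C)) with hW
    have hWn : Y.map π ≤ normalizer (W : Set (K ⧸ C)) := by
      rintro _ ⟨z, hz, rfl⟩
      refine mem_normalizer_of_map_conj_le ?_
      rintro _ ⟨w, hw, rfl⟩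
      show π z * w * (π z)⁻¹ ∈ W
      refine ⟨hVconj hw.1 z, mem_centralizer_singleton_iff.mpr ?_⟩
      set c := x⁻¹ * (z⁻¹ * x * z) with hc
      have hcA : c ∈ A := hf1.mp (by
        simp only [hc, map_mul, map_inv]
        rw [mul_assoc (f z)⁻¹, ← mem_center_iff.mp hxc (f z), inv_mul_cancel_left, inv_mul_cancel])
      have e : π (z⁻¹ * x * z) = π x * π c := by rw [← map_mul, hc, mul_inv_cancel_left]
      have h1 : π x * π c * w = w * (π x * π c) := by
        rw [mul_assoc, hactA hcA w hw.1, ← mul_assoc, ← mem_centralizer_singleton_iff.mp hw.2,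
          mul_assoc]
      rw [← e] at h1
      simp only [map_mul, map_inv] at h1
      calc π z * w * (π z)⁻¹ * π x = π z * (w * ((π z)⁻¹ * π x * π z)) * (π z)⁻¹ := by group
        _ = _ := by rw [← h1]; group
    have hW1 : W ≠ ⊥ := fun h1 => hv1 (mem_bot.mp (h1 ▸
      (⟨hv, mem_centralizer_singleton_iff.mpr hxv.symm⟩ : π a ∈ W)))
    obtain ⟨w, hw, hwY, hw1⟩ := exists_ne_one_centralized (hYp.map π)
      ((hAp.map π).to_le inf_le_left : IsPGroup p ↥W) hWn hW1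
    have hyw : π y * w = w * π y := hwY _ (mem_map_of_mem π hy)
    refine hw1 (hsplit (x * y) (by rw [map_mul]; exact hs) w hw.1 ?_)
    rw [map_mul]
    exact (show Commute (π x * π y) w from Commute.mul_left
      (mem_centralizer_singleton_iff.mp hw.2).symm hyw)


/-- Standing hypotheses: G a finite group, S a Sylow p-subgroup, Q a nontrivial large p-subgroup of G contained in S, M a subgroup containing S with the basic property (M ∈ 𝔐_G(S)); Y_M the largest p-reduced normal subgroup of M and M† = M·C_G(Y_M). Let L ∈ 𝔏_G(Y_M) (L ∈ 𝔏_G(Y_M): Y_M ≤ L; O_p(L) is the normal closure in L of Y_M ∩ O_p(L) and normalizes Y_M; L is Y_M-minimal of characteristic p with N_L(Y_M) its unique maximal subgroup over Y_M; and L/O_p(L) ≅ SL₂(q) with q = |Y_M : Y_M ∩ O_p(L)|, or p = 2 and L/O_p(L) is a Suzuki group Sz(q) or dihedral of order 2r, r an odd prime), A = O_p(L), and C = C_{Y_M}(L). Then every element h of L whose order is not a power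 of p acts without nontrivial fixed points on A/C: for a ∈ A, hah⁻¹a⁻¹ ∈ C implies a ∈ C. -/
theorem result {G : Type*} [Group G] [Finite G] {p : ℕ} [Fact p.Prime] (S : Sylow p G) (Q : Subgroup G) (hQp : IsPGroup p ↥Q) (hQ1 : Q ≠ ⊥) (hQS : Q ≤ (S : Subgroup G)) (hQ : Cfsg.IsLarge Q) (M : Subgroup G) (hSM : (S : Subgroup G) ≤ M) (hM : Cfsg.IsInFrakM p M) (L : Subgroup G) (hL : Cfsg.IsInFrakL p M L) (h : G) (hh : h ∈ L) (hnp : ¬ ∃ k : ℕ, orderOf h = p ^ k) : ∀ a ∈ (Cfsg.pCoreOf p L), h * a * h⁻¹ * a⁻¹ ∈ (Cfsg.largestPReducedOf p M) ⊓ Subgroup.centralizer ((L : Subgroup G) : Set G) → a ∈ (Cfsg.largestPReducedOf p M) ⊓ Subgroup.centralizer ((L : Subgroup G) : Set G) := by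
  obtain ⟨hI, hMod⟩ := member_data hL
  obtain ⟨hYL, hAgen, hAN, ⟨hgen, -⟩, -, ⟨hlt, hmax⟩, -⟩ := hL
  set Y := largestPReducedOf p M with hYdef
  set Ys := Y.subgroupOf L with hYs
  have hYse : IsElementaryAbelian p Ys := by
    rw [← isElementaryAbelian_map L.subtype_injective, map_subgroupOf_eq_of_le hYL]
    exact (pRedIn_largest M).elem
  have hNs : normalizer (Ys : Set ↥L) = (normalizer (Y : Set G)).subgroupOf L :=
    (subgroupOf_normalizer_eq hYL).symm
  have hA : (pCoreOf p L).subgroupOf L = pCore p ↥L :=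
    comap_map_eq_self_of_injective L.subtype_injective _
  rintro _ ⟨a, ha, rfl⟩ hfix
  have hCmem : ∀ z : ↥L, z ∈ Ys ⊓ center ↥L ↔ (z : G) ∈ Y ⊓ centralizer (L : Set G) := fun z =>
    ⟨fun hz => ⟨hz.1, fun k hk => congrArg Subtype.val (mem_center_iff.mp hz.2 ⟨k, hk⟩)⟩,
      fun hz => ⟨hz.1, mem_center_iff.mpr fun k => Subtype.ext (hz.2 k k.2)⟩⟩
  refine (hCmem a).mp (fixed_point_free (Components.isPGroup_pCore p) hYse ?_ ?_ hgen ?_ ?_ hI hMod
    ⟨h, hh⟩ (by rwa [Subgroup.orderOf_mk]) a ha ((hCmem _).mpr ?_))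
  · rw [hNs]; exact fun x hx => mem_subgroupOf.mpr (hAN ⟨x, hx, rfl⟩)
  · conv_lhs => rw [← hA, hAgen, subgroupOf, comap_map_eq_self_of_injective L.subtype_injective]
    rw [hYs, ← hA, subgroupOf, subgroupOf, subgroupOf, comap_inf]
  · refine fun h' => hlt.not_ge fun x hx => ⟨hx, ?_⟩
    have : (⟨x, hx⟩ : ↥L) ∈ normalizer (Ys : Set ↥L) := h' ▸ mem_top _
    rwa [hNs, mem_subgroupOf] at this
  · intro X hX hXt
    rw [hNs]
    intro x hx
    refine mem_subgroupOf.mpr ((hmax (X.map L.subtype) ?_ (lt_of_le_of_ne (map_subtype_le X)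
      fun h' => hXt ?_) ⟨x, hx, rfl⟩).2)
    · rw [← map_subgroupOf_eq_of_le hYL]; exact map_mono hX
    · exact map_injective L.subtype_injective (by rw [h', ← MonoidHom.range_eq_map, range_subtype])
  · simpa [commutatorElement_def] using hfix

end Cfsg.Agent.S2863
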