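import Cfsg.Statements.S2864
import Cfsg.Agent.S2845
import Cfsg.Agent.Lib.LocalStr.Irreducible
import Cfsg.Agent.Lib.LocalStr.Large
import Cfsg.Agent.Lib.Solvable.CoprimeAction
import Cfsg.Agent.Lib.LocalEven.Kieler
import Cfsg.Agent.Lib.PGroup.Basic
import Mathlib.Tactic.Group
-- import your own Cfsg.Agent.* helpers here

set_option autoImplicit false
open Cfsg

set_option autoImplicit false
set_option linter.style.haveILetI false

namespace Cfsg.Agent.S2864
open Subgroup CfsgLib CfsgLib.LocalStr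
open CfsgLib.LocalEven (IsSylOf)
open scoped commutatorElement

variable {H : Type*} [Group H]

theorem le_normalizer_stabilizer [Finite H] {O Z X : Subgroup H} (hO : X ≤ normalizer (O : Set H))
    (hZ : X ≤ normalizer (Z : Set H)) :
    X ≤ normalizer (stabilizerOfQuotient O Z : Set H) := by
  refine le_normalizer_iff_map_le.mpr fun l hl => ?_
  rintro _ ⟨k, ⟨hk1, hk2, hk3⟩, rfl⟩
  refine ⟨mul_mem (mul_mem (hO hl) hk1) (inv_mem (hO hl)),
    mul_mem (mul_mem (hZ hl) hk2) (inv_mem (hZ hl)), fun o ho => ?_⟩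
  have h1 := hk3 _ ((mem_normalizer_iff''.mp (hO hl) o).mp ho)
  have h2 := (mem_normalizer_iff.mp (hZ hl) _).mp h1
  rwa [show l * ⁅k, l⁻¹ * o * l⁆ * l⁻¹ = ⁅(MulAut.conj l).toMonoidHom k, o⁆ by
    simp only [commutatorElement_def, MulEquiv.coe_toMonoidHom, MulAut.conj_apply]; group] at h2

theorem mem_centralizer_of_fix_mod_commutator [Finite H] {p : ℕ} [Fact p.Prime] {A : Subgroup H}
    (hA : IsPGroup p ↥A) {z : H} (hz : (orderOf z).Coprime p)
    (hzA : z ∈ stabilizerOfQuotient A ⁅A, A⁆) : z ∈ centralizer (A : Set H) := by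
  have hX : zpowers z ≤ stabilizerOfQuotient A ⁅A, A⁆ := zpowers_le.mpr hzA
  have hXA : zpowers z ≤ normalizer (A : Set H) := fun x hx => (hX hx).1
  have hcop : (Nat.card ↥(zpowers z)).Coprime (Nat.card ↥A) := by
    obtain ⟨k, hk⟩ := hA.exists_card_eq
    rw [Nat.card_zpowers, hk]
    exact hz.pow_right k
  haveI : Group.IsNilpotent ↥A := hA.isNilpotent
  have h1 := Solvable.commutator_sup_centralizer hXA hcop (Or.inr inferInstance)
  have h2 : ⁅A, zpowers z⁆ ≤ ⁅A, A⁆ := commutator_le.mpr fun a ha x hx => by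
    rw [← commutatorElement_inv]
    exact inv_mem ((hX hx).2.2 a ha)
  have h3 : (A ⊓ centralizer (zpowers z : Set H)).subgroupOf A ⊔ frattini ↥A = ⊤ := by
    refine top_le_iff.mp (le_trans ?_ (sup_le_sup le_rfl (PGroup.commutator_le_frattini hA)))
    refine (map_le_map_iff_of_injective A.subtype_injective).mp ?_
    rw [Subgroup.map_sup, map_subgroupOf_eq_of_le inf_le_left, map_subtype_commutator,
      ← MonoidHom.range_eq_map, range_subtype]
    exact h1.symm.le.trans (sup_le (h2.trans le_sup_right) le_sup_left)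
  have h4 := frattini_nongenerating h3
  rw [subgroupOf_eq_top] at h4
  exact fun a ha => ((h4 ha).2 z (mem_zpowers z)).symm

theorem le_normalizer_commutator_self [Finite H] {A X : Subgroup H}
    (hX : X ≤ normalizer (A : Set H)) : X ≤ normalizer ((⁅A, A⁆ : Subgroup H) : Set H) :=
  fun x hx => map_conj_eq_iff.mp (by rw [map_commutator, map_conj_eq_iff.mpr (hX hx)])



/-- Standing hypotheses: G a finite group, S a Sylow p-subgroup, Q a nontrivial large p-subgroup of G contained in S, M a subgroup containing S with the basic property (M ∈ 𝔐_G(S)); Y_M the largest p-reduced normal subgroup of M and M† = M·C_G(Y_M). Let I be a nontrivial normal p-subgroup of M and Y ≤ O_p(M†); let L be a subgroup of G containing Y and A a normal p-subgroup of L with I ≤ A ≤ M. If [Y, A] ≤ [I, A], then Y ≤ O_p(L). -/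
theorem result {G : Type*} [Group G] [Finite G] {p : ℕ} [Fact p.Prime] (S : Sylow p G) (Q : Subgroup G) (hQp : IsPGroup p ↥Q) (hQ1 : Q ≠ ⊥) (hQS : Q ≤ (S : Subgroup G)) (hQ : Cfsg.IsLarge Q) (M : Subgroup G) (hSM : (S : Subgroup G) ≤ M) (hM : Cfsg.IsInFrakM p M) (I : Subgroup G) (hI1 : I ≠ ⊥) (hIp : IsPGroup p ↥I) (hIM : I ≤ M ∧ M ≤ Subgroup.normalizer ((I : Subgroup G) : Set G)) (Y : Subgroup G) (hY : Y ≤ (Cfsg.pCoreOf p (M ⊔ Subgroup.centralizer (((Cfsg.largestPReducedOf p M) : Subgroup G) : Set G)))) (L : Subgroup G) (hYL : Y ≤ L) (A : Subgroup G) (hAp : IsPGroup p ↥A) (hAL : A ≤ L ∧ L ≤ Subgroup.normalizer ((A : Subgroup G) : Set G)) (hIA : I ≤ A) (hAM : A ≤ M) (hc : ⁅Y, A⁆ ≤ ⁅I, A⁆) : Y ≤ (Cfsg.pCoreOf p L) := by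
  obtain ⟨hM1, hM2, hM3, -, -, -⟩ := hM
  set N := M ⊔ centralizer (largestPReducedOf p M : Set G) with hNd
  have hCI : centralizer (I : Set G) ≤ N := by
    set R := normalizer (I : Set G) with hR
    have hI' : pCoreOf p R ≠ ⊥ := fun h =>
      hI1 (le_bot_iff.mp ((le_pCoreOf (H := R) le_normalizer le_rfl hIp).trans h.le))
    have hI'' : pCore p ↥R ≠ ⊥ := fun h => hI' (pCore_eq_bot_iff_pCoreOf.mp h)
    have hchar := (S2845.result Q hQp hQ1 hQ).2.1 R ⟨S, hSM.trans hIM.2⟩ hI''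
    obtain ⟨X, hRX, hX⟩ := (Set.toFinite (charPSubgroups p G)).exists_le_maximal
      (show R ∈ charPSubgroups p G from ⟨hI'', hchar⟩)
    have hXm : X ∈ maxCharPSubgroups p G := ⟨hX.prop, fun L hL hle => (hX.eq_of_le hL hle).symm⟩
    refine ((centralizer_le_normalizer _).trans hRX).trans ?_
    exact (hM3 X hXm (hIM.2.trans hRX)).le
  set C := L ⊓ centralizer (A : Set G) with hC
  set W := pCoreOf p L with hW
  have hCN : C ≤ N := inf_le_right.trans ((centralizer_le (SetLike.coe_subset_coe.mpr hIA)).trans hCI)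
  have hLC : L ≤ normalizer (C : Set G) :=
    LocalEven.le_normalizer_inf le_normalizer (le_normalizer_centralizer hAL.2)
  have hLA' : L ≤ normalizer ((⁅A, A⁆ : Subgroup G) : Set G) := le_normalizer_commutator_self hAL.2
  have hLW : L ≤ normalizer (W : Set G) := le_normalizer_pCoreOf L
  set K := L ⊓ stabilizerOfQuotient A ⁅A, A⁆ ⊓ stabilizerOfQuotient C W with hK
  have hLK : L ≤ normalizer (K : Set G) :=
    LocalEven.le_normalizer_inf (LocalEven.le_normalizer_inf le_normalizer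
      (le_normalizer_stabilizer hAL.2 hLA')) (le_normalizer_stabilizer hLC hLW)
  have hKL : K ≤ L := inf_le_left.trans inf_le_left
  have hYK : Y ≤ K := fun y hy => by
    refine ⟨⟨hYL hy, hAL.2 (hYL hy), hLA' (hYL hy), fun a ha =>
      (hc.trans (commutator_mono hIA le_rfl)) (commutator_mem_commutator hy ha)⟩,
      hLC (hYL hy), hLW (hYL hy), fun c hcC => ?_⟩
    refine pCoreOf_le_pCoreOf_of_normal inf_le_left hLC (pCoreOf_inf_le hCN ⟨?_, ?_⟩)
    · have h1 := (mem_normalizer_iff.mp (le_normalizer_pCoreOf N (hCN hcC)) _).mp (inv_mem (hY hy))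
      rw [commutatorElement_def, show y * c * y⁻¹ * c⁻¹ = y * (c * y⁻¹ * c⁻¹) by group]
      exact mul_mem (hY hy) h1
    · show _ ∈ C; exact mul_mem ((mem_normalizer_iff.mp (hLC (hYL hy)) c).mp hcC) (inv_mem hcC)
  have hYp : IsPGroup p ↥Y := (isPGroup_pCoreOf _).to_le hY
  have hWK : IsPGroup p ↥(W ⊓ K) := (isPGroup_pCoreOf _).to_le inf_le_left
  have hYWp : IsPGroup p ↥(Y ⊔ W ⊓ K) := Components.isPGroup_sup hYp hWK
    (LocalEven.le_normalizer_inf (hYL.trans hLW) ((hYK.trans hKL).trans hLK))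
  obtain ⟨P, hP, hle⟩ := LocalEven.exists_isSylOf_ge hYWp (sup_le hYK inf_le_right)
  have hz : ∀ z ∈ K, (orderOf z).Coprime p → z ∈ normalizer (P : Set G) := by
    intro z hz hzc
    have hzC : z ∈ C := ⟨hKL hz, mem_centralizer_of_fix_mod_commutator hAp hzc hz.1.2⟩
    refine map_conj_eq_iff.mp (eq_of_le_of_card_ge ?_
      (card_map_of_injective (K := P) (MulAut.conj z).injective).ge)
    rintro _ ⟨y, hy, rfl⟩
    have hyW : ⁅z, y⁆ ∈ W := by
      rw [← commutatorElement_inv]; exact inv_mem ((hP.1 hy).2.2.2 z hzC)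
    have hyK : ⁅z, y⁆ ∈ K :=
      mul_mem (mul_mem (mul_mem hz (hP.1 hy)) (inv_mem hz)) (inv_mem (hP.1 hy))
    have h2 := mul_mem (hle (mem_sup_right ⟨hyW, hyK⟩)) hy
    rwa [show ⁅z, y⁆ * y = (MulAut.conj z).toMonoidHom y by
      simp only [commutatorElement_def, MulEquiv.coe_toMonoidHom, MulAut.conj_apply]; group] at h2
  have hKP : K ≤ normalizer (P : Set G) := by
    refine (pRes_sup_of_isSylOf hP).symm.le.trans (sup_le (pRes_le_iff.mpr hz) le_normalizer)
  refine le_trans ?_ (pCoreOf_le_pCoreOf_of_normal hKL hLK)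
  exact (le_sup_left.trans hle).trans (le_pCoreOf hP.1 hKP hP.isPGroup)

end Cfsg.Agent.S2864
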