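import Cfsg.Statements.S2872
import Cfsg.Agent.Lib.LocalStr.Basic
import Cfsg.Agent.Lib.LocalEven.Kieler
import Cfsg.Agent.Lib.Fusion.ThompsonTransfer
import Cfsg.Agent.Lib.TwoFusion.TwoGroupCoatom
import Mathlib.Tactic.Group
-- import your own Cfsg.Agent.* helpers here

set_option autoImplicit false
open Cfsg

set_option autoImplicit false
set_option linter.style.haveILetI false

namespace Cfsg.Agent.S2872
open Subgroup CfsgLib CfsgLib.LocalStr
open CfsgLib.LocalEven (IsSylOf)
open scoped commutatorElement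


/-- Let S be a Sylow 2-subgroup of the finite group G. Then G has a proper normal subgroup of 2-power index (O²(G) ≠ G), or Ω₁(Z(S)) is contained in the Frattini subgroup of S, or N_G(S) acts nontrivially on Ω₁(Z(S)) by conjugation. -/
theorem result {G : Type*} [Group G] [Finite G] (S : Sylow 2 G) : Cfsg.pResidual 2 G ≠ ⊤ ∨ Cfsg.omegaOne 2 ((S : Subgroup G) ⊓ Subgroup.centralizer ((S : Subgroup G) : Set G)) ≤ (frattini ↥(S : Subgroup G)).map (S : Subgroup G).subtype ∨ ∃ g ∈ Subgroup.normalizer ((S : Subgroup G) : Set G), ∃ z ∈ Cfsg.omegaOne 2 ((S : Subgroup G) ⊓ Subgroup.centralizer ((S : Subgroup G) : Set G)), g * z * g⁻¹ ≠ z := by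
  classical
  by_contra hcon
  push Not at hcon
  obtain ⟨hres, hnle, hfix⟩ := hcon
  obtain ⟨z, hz, hzΦ⟩ := SetLike.not_le_iff_exists.mp hnle
  obtain ⟨hzS, hzc, hz2⟩ : z ∈ (S : Subgroup G) ∧
      z ∈ centralizer ((S : Subgroup G) : Set G) ∧ z ^ 2 = 1 := LocalEven.omegaZ_spec hz
  have hex : ∃ M : Subgroup ↥(S : Subgroup G), IsCoatom M ∧ (⟨z, hzS⟩ : ↥(S : Subgroup G)) ∉ M := by
    by_contra h
    push Not at h
    exact hzΦ ⟨⟨z, hzS⟩, mem_iInf.mpr fun M => mem_iInf.mpr fun hM => h M hM, rfl⟩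
  obtain ⟨M, hM, hzM⟩ := hex
  have hMi : M.index = 2 := TwoFusion.index_eq_two_of_isCoatom S.isPGroup' hM
  let φ : ↥(S : Subgroup G) →* ℤˣ := ThompsonTransfer.indexTwoSign M hMi
  have hφval : ∀ x, φ x = if x ∈ M then 1 else -1 := fun x => rfl
  let v : G →* ℤˣ := MonoidHom.transfer φ
  have hv : v z = 1 := by
    have hker : pResidual 2 G ≤ v.ker := by
      show Subgroup.closure _ ≤ v.ker
      rw [closure_le]
      intro g hg
      rcases Int.units_eq_one_or (v g) with h | h
      · exact h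
      exfalso
      have h1 : orderOf (v g) ∣ orderOf g := orderOf_map_dvd v g
      rw [h] at h1
      have h2 : orderOf (-1 : ℤˣ) = 2 := by
        rw [orderOf_units.symm]
        simp
      rw [h2] at h1
      exact absurd (Nat.eq_one_of_dvd_coprimes hg h1 dvd_rfl) (by norm_num)
    rw [hres] at hker
    exact hker (mem_top z)
  have hcong : ∀ (x : G) (s : ↥(S : Subgroup G)) (h1 : x⁻¹ * z * x ∈ (S : Subgroup G)),
      (s : G)⁻¹ * (x⁻¹ * z * x) * s ∈ (S : Subgroup G) := fun x s h1 =>
    mul_mem (mul_mem (inv_mem s.2) h1) s.2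
  let Bad : G ⧸ (S : Subgroup G) → Prop := fun q =>
    ∃ x : G, QuotientGroup.mk x = q ∧ ∃ h : x⁻¹ * z * x ∈ (S : Subgroup G),
      (⟨x⁻¹ * z * x, h⟩ : ↥(S : Subgroup G)) ∉ M
  have hBad : ∀ (q : G ⧸ (S : Subgroup G)) (x : G), QuotientGroup.mk x = q →
      (Bad q ↔ ∃ h : x⁻¹ * z * x ∈ (S : Subgroup G), (⟨x⁻¹ * z * x, h⟩ : ↥(S : Subgroup G)) ∉ M) := by
    intro q x hx
    refine ⟨?_, fun h => ⟨x, hx, h⟩⟩
    rintro ⟨y, hy, hyS, hyM⟩
    rw [← hx, QuotientGroup.eq] at hy
    set s : ↥(S : Subgroup G) := ⟨y⁻¹ * x, hy⟩ with hs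
    have e : x⁻¹ * z * x = (s : G)⁻¹ * (y⁻¹ * z * y) * s := by rw [hs]; group
    refine ⟨e ▸ hcong y s hyS, fun hm => hyM ?_⟩
    haveI : M.Normal := Subgroup.normal_of_index_eq_two hMi
    have h2 := (inferInstance : M.Normal).conj_mem _ hm s
    have e2 : s * (⟨x⁻¹ * z * x, e ▸ hcong y s hyS⟩ : ↥(S : Subgroup G)) * s⁻¹ =
        ⟨y⁻¹ * z * y, hyS⟩ := Subtype.ext (by
      simp only [Subgroup.coe_mul, InvMemClass.coe_inv]; rw [e]; group)
    rwa [e2] at h2
  have hfixz : ∀ q : G ⧸ (S : Subgroup G), Bad q → z • q = q := by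
    rintro q ⟨x, rfl, hx, -⟩
    show QuotientGroup.mk (z * x) = QuotientGroup.mk x
    rw [QuotientGroup.eq]
    · rw [show (z * x)⁻¹ * x = (x⁻¹ * z * x)⁻¹ by group]
      exact inv_mem hx
  let A : SubMulAction ↥(S : Subgroup G) (G ⧸ (S : Subgroup G)) :=
    { carrier := {q | Bad q}
      smul_mem' := by
        rintro s q ⟨x, rfl, hx, hxM⟩
        have hcz : (s : G) * z = z * s := mem_centralizer_iff.mp hzc s s.2
        have e : ((s : G) * x)⁻¹ * z * ((s : G) * x) = x⁻¹ * z * x := by
          calc ((s : G) * x)⁻¹ * z * ((s : G) * x) = x⁻¹ * ((s : G)⁻¹ * (z * s)) * x := by group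
            _ = x⁻¹ * z * x := by rw [← hcz]; group
        refine ⟨(s : G) * x, rfl, e.symm ▸ hx, ?_⟩
        simp only [e]
        exact hxM }
  have hidx : Odd (S : Subgroup G).index := by
    rw [Nat.odd_iff, ← Nat.not_even_iff, even_iff_two_dvd]
    exact S.not_dvd_index
  have hAfix : ∀ q : G ⧸ (S : Subgroup G), (∀ s : ↥(S : Subgroup G), s • q = q) → Bad q := by
    intro q hq
    obtain ⟨x, rfl⟩ := QuotientGroup.mk_surjective q
    have hxN : x ∈ normalizer ((S : Subgroup G) : Set G) := by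
      have h1 : (S : Subgroup G).map (MulAut.conj x⁻¹).toMonoidHom ≤ S := by
        rintro _ ⟨s, hs, rfl⟩
        have h2 := QuotientGroup.eq.mp ((hq ⟨s⁻¹, inv_mem hs⟩).trans rfl :
          QuotientGroup.mk (s⁻¹ * x) = QuotientGroup.mk x)
        simpa [mul_assoc] using h2
      have h3 := map_conj_eq_iff.mp (eq_of_le_of_card_ge h1 (Components.card_map_conj _ _).ge)
      simpa using inv_mem h3
    have e : x⁻¹ * z * x = z := by
      have h4 := hfix x⁻¹ (inv_mem hxN) z hz
      simpa using h4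
    exact ⟨x, rfl, e.symm ▸ hzS, by simpa [e] using hzM⟩
  have hodd : Odd (Nat.card A) := by
    have h1 := S.isPGroup'.card_modEq_card_fixedPoints (α := A)
    have h2 := S.isPGroup'.card_modEq_card_fixedPoints (α := G ⧸ (S : Subgroup G))
    have h3 : Nat.card (MulAction.fixedPoints ↥(S : Subgroup G) A) =
        Nat.card (MulAction.fixedPoints ↥(S : Subgroup G) (G ⧸ (S : Subgroup G))) := by
      refine Nat.card_congr
        { toFun := fun a => ⟨(a.1 : G ⧸ (S : Subgroup G)), fun s => congrArg Subtype.val (a.2 s)⟩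
          invFun := fun q => ⟨⟨q.1, hAfix q.1 q.2⟩, fun s => Subtype.ext (q.2 s)⟩
          left_inv := fun _ => rfl
          right_inv := fun _ => rfl }
    rw [← index_eq_card] at h2
    rw [h3] at h1
    rw [Nat.odd_iff] at hidx ⊢
    have h4 : Nat.card A % 2 = (S : Subgroup G).index % 2 := h1.trans h2.symm
    exact h4.trans hidx
  have hneg : v z = (-1 : ℤˣ) ^ Nat.card A := by
    let := (S : Subgroup G).fintypeQuotientOfFiniteIndex
    show MonoidHom.transfer φ z = _
    rw [MonoidHom.transfer_eq_prod_quotient_orbitRel_zpowers_quot]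
    have hterm : ∀ q : Quotient (MulAction.orbitRel (zpowers z) (G ⧸ (S : Subgroup G))),
        φ ⟨q.out.out⁻¹ * z ^ Function.minimalPeriod (z • ·) q.out * q.out.out,
            QuotientGroup.out_conj_pow_minimalPeriod_mem (S : Subgroup G) z q.out⟩ =
          if Bad q.out then -1 else 1 := by
      intro q
      have hper : Function.IsPeriodicPt (z • ·) 2 q.out := by
        show (z • ·)^[2] q.out = q.out
        rw [smul_iterate]
        simp [hz2]
      rw [hφval]
      rcases (Nat.dvd_prime Nat.prime_two).1 hper.minimalPeriod_dvd with h | h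
      · have hb := hBad q.out q.out.out (QuotientGroup.out_eq' _)
        have hmem := QuotientGroup.out_conj_pow_minimalPeriod_mem (S : Subgroup G) z q.out
        simp only [h, pow_one] at hmem ⊢
        by_cases hm : (⟨_, hmem⟩ : ↥(S : Subgroup G)) ∈ M
        · rw [if_pos hm, if_neg fun hbad => ?_]
          obtain ⟨_, h5⟩ := hb.mp hbad
          exact h5 hm
        · rw [if_neg hm, if_pos (hb.mpr ⟨hmem, hm⟩)]
      · rw [if_pos ?_, if_neg fun hbad => ?_]
        · have h6 : Function.minimalPeriod (z • ·) q.out = 1 :=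
            Function.minimalPeriod_eq_one_iff_isFixedPt.mpr (hfixz _ hbad)
          omega
        · convert M.one_mem
          rw [h, hz2, mul_one, inv_mul_cancel]
          rfl
    rw [Finset.prod_congr rfl (fun q _ => hterm q), Finset.prod_ite, Finset.prod_const,
      Finset.prod_const_one, mul_one]
    congr 1
    rw [← Fintype.card_subtype, ← Nat.card_eq_fintype_card]
    refine Nat.card_congr
      { toFun := fun q => ⟨q.1.out, q.2⟩
        invFun := fun a => ⟨Quotient.mk _ a.1, ?_⟩
        left_inv := fun q => Subtype.ext (Quotient.out_eq _)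
        right_inv := fun a => Subtype.ext ?_ }
    all_goals
      have hout : (Quotient.mk (MulAction.orbitRel (zpowers z) (G ⧸ (S : Subgroup G))) a.1).out
          = a.1 := by
        have h7 := Quotient.mk_out
          (s := MulAction.orbitRel (zpowers z) (G ⧸ (S : Subgroup G))) a.1
        obtain ⟨⟨w, hw⟩, hwe⟩ := h7
        rw [← hwe]
        obtain ⟨n, rfl⟩ := mem_zpowers_iff.mp hw
        exact (MulAction.mem_stabilizer_iff.mp (zpow_mem
          (MulAction.mem_stabilizer_iff.mpr (hfixz _ a.2)) n) : z ^ n • a.1 = a.1)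
    · rw [hout]; exact a.2
    · exact hout
  rw [hv, hodd.neg_one_pow] at hneg
  exact absurd hneg (by decide)

end Cfsg.Agent.S2872
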