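import Cfsg.Statements.S2873
import Cfsg.Agent.Lib.LocalStr.Basic
import Cfsg.Agent.Lib.LocalStr.Large
import Cfsg.Agent.Lib.Solvable.CoprimeAction
import Cfsg.Agent.Lib.PGroup.Basic
import Mathlib.Tactic.Group
import Mathlib.Tactic.Ring
import Mathlib.Tactic.LinearCombination
import Mathlib.Tactic.NormNum
-- import your own Cfsg.Agent.* helpers here

set_option autoImplicit false
open Cfsg

set_option autoImplicit false
set_option linter.style.haveILetI false

namespace Cfsg.Agent.S2873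
open Subgroup CfsgLib
open scoped commutatorElement
open DihedralGroup in
theorem dihedral_conj_sr {n : ℕ} {u : ZMod n} (hu : 2 * u = 1) (i j : ZMod n) :
    ∃ g : DihedralGroup n, g * sr i * g⁻¹ = sr j := by
  refine ⟨r (u * (i - j)), ?_⟩
  rw [inv_r, r_mul_sr, sr_mul_r]
  congr 1
  linear_combination (-(i - j)) * hu

/-- The elementary abelian layer: fixed points have square-root order and are all commutators. -/
theorem layer {H : Type*} [Group H] [Finite H] {V : Subgroup H} {a x : H} {k : ℕ}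
    (hVn : ∀ g : H, g ∈ ({a, x} : Set H) → g ∈ normalizer (V : Set H)) (hV : ∀ v ∈ V, v * v = 1)
    (ha : a * a = 1) (hax : a * x * a = x⁻¹) (hxk : x ^ (2 * k + 1) = 1)
    (hCx : ∀ v ∈ V, v * x = x * v → v = 1) :
    Nat.card ↥(V ⊓ centralizer {a}) ^ 2 = Nat.card ↥V ∧
      ∀ v ∈ V ⊓ centralizer {a}, ∃ w ∈ V, v = ⁅w, a⁆ := by
  set C := V ⊓ centralizer ({a} : Set H) with hC
  have hinv : ∀ v ∈ V, v⁻¹ = v := fun v hv => inv_eq_of_mul_eq_one_right (hV v hv)
  have hcomm : ∀ v ∈ V, ∀ w ∈ V, v * w = w * v := fun v hv w hw => by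
    rw [← hinv _ (mul_mem hv hw), mul_inv_rev, hinv v hv, hinv w hw]
  have ha' : a⁻¹ = a := inv_eq_of_mul_eq_one_right ha
  have haV : ∀ v ∈ V, a * v * a ∈ V := fun v hv => by
    have := (mem_normalizer_iff.mp (hVn a (by simp)) v).mp hv
    rwa [ha'] at this
  have hwa : ∀ w ∈ V, ⁅w, a⁆ ∈ V := fun w hw => by
    rw [commutatorElement_def, ha', show w * a * w⁻¹ * a = w * (a * w⁻¹ * a) by group]
    exact mul_mem hw (haV _ (inv_mem hw))
  set φ : ↥V →* ↥V :=
    { toFun := fun w => ⟨⁅(w : H), a⁆, hwa _ w.2⟩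
      map_one' := by ext; simp
      map_mul' := fun v w => by
        ext
        show ⁅(v : H) * w, a⁆ = ⁅(v : H), a⁆ * ⁅(w : H), a⁆
        rw [hcomm _ (hwa _ v.2) _ (hwa _ w.2)]
        calc ⁅(v : H) * w, a⁆ = v * ⁅(w : H), a⁆ * (v : H)⁻¹ * ⁅(v : H), a⁆ := by
              simp only [commutatorElement_def]; group
          _ = ⁅(w : H), a⁆ * ⁅(v : H), a⁆ := by
              rw [hcomm _ v.2 _ (hwa _ w.2), mul_inv_cancel_right] } with hφ
  have hker : φ.ker = C.subgroupOf V := by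
    ext w
    simp only [MonoidHom.mem_ker, mem_subgroupOf, hC, mem_inf, mem_centralizer_singleton_iff,
      SetLike.coe_mem, true_and, hφ, MonoidHom.coe_mk, OneHom.coe_mk, ← OneMemClass.coe_eq_one,
      commutatorElement_eq_one_iff_mul_comm]
  have hkc : Nat.card ↥φ.ker = Nat.card ↥C := by
    rw [hker]; exact Nat.card_congr (subgroupOfEquivOfLe inf_le_left).toEquiv
  set R := φ.range.map V.subtype with hR
  have hRC : R ≤ C := by
    rintro _ ⟨_, ⟨w, rfl⟩, rfl⟩
    refine ⟨hwa _ w.2, mem_centralizer_singleton_iff.mpr ?_⟩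
    show ⁅(w : H), a⁆ * a = a * ⁅(w : H), a⁆
    have h1 : a * ⁅(w : H), a⁆ * a = ⁅(w : H), a⁆⁻¹ := by
      simp only [commutatorElement_def, ha', mul_inv_rev, inv_inv, mul_assoc, ha, mul_one]
    rw [hinv _ (hwa _ w.2)] at h1
    nth_rw 1 [← h1]
    rw [mul_assoc, ha, mul_one]
  have hcardR : Nat.card ↥R = Nat.card ↥φ.range := card_map_of_injective V.subtype_injective
  have hV' : Nat.card ↥V = Nat.card ↥R * Nat.card ↥C := by
    rw [hcardR, ← hkc, ← index_ker, mul_comm, card_mul_index]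
  -- the conjugate involution
  set y := x ^ (k + 1) with hy
  have hyV : y ∈ normalizer (V : Set H) := pow_mem (hVn x (by simp)) _
  have hay : a * y * a = y⁻¹ := by
    have h := map_pow (MulAut.conj a).toMonoidHom x (k + 1)
    simp only [MulEquiv.coe_toMonoidHom, MulAut.conj_apply, ha', hax] at h
    rw [hy, h, inv_pow]
  have hyy : y * y = x := by
    rw [hy, ← pow_add, show k + 1 + (k + 1) = (2 * k + 1) + 1 by ring, pow_succ, hxk, one_mul]
  have haxy : a * x = y⁻¹ * a * y := by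
    rw [← hay, ← hyy]; simp only [mul_assoc]
    rw [← mul_assoc a a, ha, one_mul]
  set C' := C.map (MulAut.conj y⁻¹).toMonoidHom with hC'
  have hC'V : C' ≤ V := by
    rintro _ ⟨c, hc, rfl⟩
    exact (mem_normalizer_iff.mp (inv_mem hyV) c).mp hc.1
  have hmeet : C ⊓ C' = ⊥ := by
    rw [eq_bot_iff]
    rintro _ ⟨h1, c, hc, rfl⟩
    refine mem_bot.mpr (hCx _ h1.1 ?_)
    set v := (MulAut.conj y⁻¹).toMonoidHom c with hv
    have e1 : v * a = a * v := mem_centralizer_singleton_iff.mp h1.2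
    have e2 : v * (a * x) = a * x * v := by
      rw [haxy, show y⁻¹ * a * y = (MulAut.conj y⁻¹).toMonoidHom a by simp, hv, ← map_mul,
        ← map_mul, mem_centralizer_singleton_iff.mp hc.2]
    rw [← mul_assoc, e1, mul_assoc, mul_assoc] at e2
    exact mul_left_cancel e2
  have hle : Nat.card ↥C * Nat.card ↥C ≤ Nat.card ↥V := by
    have hinj : Function.Injective (fun q : ↥C × ↥C' =>
        (⟨(q.1 : H) * q.2, mul_mem q.1.2.1 (hC'V q.2.2)⟩ : ↥V)) := by
      rintro ⟨c, d⟩ ⟨c', d'⟩ h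
      have h' : (c : H) * d = c' * d' := congrArg Subtype.val h
      exact mul_injective_of_disjoint (disjoint_iff.mpr hmeet) h'
    have := Nat.card_le_card_of_injective _ hinj
    rwa [Nat.card_prod, hC', card_map_of_injective (MulAut.conj y⁻¹).injective] at this
  have hRC' : R = C := eq_of_le_of_card_ge hRC
    (Nat.le_of_mul_le_mul_right (hle.trans hV'.le) Nat.card_pos)
  refine ⟨by rw [hV', hRC', sq], fun v hv => ?_⟩
  rw [← hRC'] at hv
  obtain ⟨_, ⟨w, rfl⟩, rfl⟩ := hv
  exact ⟨w, w.2, rfl⟩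

theorem card_map_mul {G H : Type*} [Group G] [Group H] (f : G →* H) (C : Subgroup G) :
    Nat.card ↥(C.map f) * Nat.card ↥(C ⊓ f.ker) = Nat.card ↥C := by
  have h1 : (f.comp C.subtype).range = C.map f := by
    rw [MonoidHom.range_comp, range_subtype]
  have h2 : (f.comp C.subtype).ker = (C ⊓ f.ker).subgroupOf C := by
    ext c; simp [mem_subgroupOf, MonoidHom.mem_ker]
  rw [← Nat.card_congr (subgroupOfEquivOfLe (inf_le_left : C ⊓ f.ker ≤ C)).toEquiv, ← h2, ← h1,
    ← index_ker, mul_comm, card_mul_index]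

theorem main_induction {G : Type*} [Group G] [Finite G] {a x : G} {k : ℕ}
    (ha : a * a = 1) (hax : a * x * a = x⁻¹) (hxk : x ^ (2 * k + 1) = 1) :
    ∀ (n : ℕ) (M : Subgroup G), Nat.card ↥M ≤ n → M.Normal → IsPGroup 2 ↥M →
      (∀ v ∈ M, v * x = x * v → v = 1) →
      Nat.card ↥(M ⊓ centralizer {a}) ^ 2 = Nat.card ↥M ∧
        ∀ o ∈ M, o * a * (o * a) = 1 → ∃ u ∈ M, o * a = u * a * u⁻¹ := by
  haveI : Fact (Nat.Prime 2) := ⟨Nat.prime_two⟩
  intro n
  induction n with
  | zero => exact fun M hM => absurd hM (by simpa using Nat.card_pos.ne')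
  | succ n ih =>
    intro M hMn hMnorm hM2 hCx
    by_cases hMb : M = ⊥
    · subst hMb
      refine ⟨by simp, fun o ho _ => ⟨1, one_mem _, by simp [mem_bot.mp ho]⟩⟩
    haveI : Nontrivial ↥M := (nontrivial_iff_ne_bot M).mpr hMb
    set M' := (frattini ↥M).map M.subtype with hM'
    have hM'M : M' ≤ M := map_subtype_le _
    haveI hn' : M'.Normal := normalizer_eq_top_iff.mp (top_le_iff.mp
      (LocalStr.le_normalizer_map_of_characteristic inferInstance
        (X := (⊤ : Subgroup G)) (by rw [normalizer_eq_top_iff.mpr hMnorm])))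
    haveI : Group.IsNilpotent ↥M := hM2.isNilpotent
    have hlt : Nat.card ↥M' ≤ n := by
      have : M' < M := by
        refine lt_of_le_of_ne hM'M fun h => ?_
        have h' : frattini ↥M = ⊤ := map_injective M.subtype_injective
          (by rw [← MonoidHom.range_eq_map, range_subtype]; exact h)
        exact bot_ne_top (frattini_nongenerating (by rw [bot_sup_eq, h']))
      have hl : Nat.card ↥M' < Nat.card ↥M := lt_of_le_of_ne (card_le_of_le hM'M)
        fun h => this.ne (eq_of_le_of_card_ge hM'M h.ge)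
      omega
    obtain ⟨ih1, ih2⟩ := ih M' hlt hn' (hM2.to_le hM'M) fun v hv => hCx v (hM'M hv)
    set f := QuotientGroup.mk' M' with hf
    have hfsurj : Function.Surjective f := QuotientGroup.mk'_surjective M'
    have hf1 : ∀ {g : G}, f g = 1 ↔ g ∈ M' := fun {g} => QuotientGroup.eq_one_iff g
    set V := M.map f with hVd
    haveI : V.Normal := hMnorm.map f hfsurj
    have hV : ∀ v ∈ V, v * v = 1 := by
      rintro _ ⟨u, hu, rfl⟩
      rw [← map_mul, hf1, hM']
      refine ⟨⟨u, hu⟩ * ⟨u, hu⟩, ?_, rfl⟩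
      rw [SetLike.mem_coe, ← sq]
      exact PGroup.pow_mem_frattini hM2 _
    have hxcop : (orderOf x).Coprime 2 := by
      have h1 := orderOf_dvd_of_pow_eq_one hxk
      exact (Nat.coprime_two_right.mpr ⟨k, rfl⟩).coprime_dvd_left h1
    have hVx : ∀ v ∈ V, v * f x = f x * v → v = 1 := by
      rintro _ ⟨u, hu, rfl⟩ hc
      obtain ⟨j, hj⟩ := hM2.exists_card_eq
      obtain ⟨c, hc', huc⟩ := Solvable.exists_fixed_of_fixed_mod (A := zpowers x) (K := M) (N := M')
        le_normalizer_of_normal (by rw [Nat.card_zpowers, hj]; exact hxcop.pow_right j)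
        (Or.inr inferInstance) hM'M le_normalizer_of_normal le_normalizer_of_normal hu
        (fun b hb => by
          obtain ⟨i, rfl⟩ := mem_zpowers_iff.mp hb
          rw [← hf1]
          have h2 : Commute (f u) (f (x ^ i)) := by rw [map_zpow]; exact Commute.zpow_right hc i
          simp only [map_mul, map_inv]
          rw [← h2.eq]; group)
      have hc1 : c = 1 := hCx c hc'.1 (hc'.2 x (mem_zpowers x)).symm
      rw [hc1, mul_one] at huc
      exact hf1.mpr (inv_mem_iff.mp huc)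
    have hfa : f a * f a = 1 := by rw [← map_mul, ha, map_one]
    obtain ⟨hl1, hl2⟩ := layer (V := V) (a := f a) (x := f x) (k := k)
      (fun g _ => by rw [normalizer_eq_top]; trivial) hV hfa
      (by rw [← map_mul, ← map_mul, hax, map_inv]) (by rw [← map_pow, hxk, map_one]) hVx
    have hlift : ∀ o ∈ M, o * a * (o * a) = 1 → ∃ u ∈ M, o * a = u * a * u⁻¹ := by
      intro o ho hoa
      have hfo : f o ∈ V := mem_map_of_mem f ho
      have h0 : f o * f a * (f o * f a) = 1 := by rw [← map_mul, ← map_mul, hoa, map_one]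
      have hfoa : f o * f a = f a * f o := by
        calc f o * f a = (f o * f a)⁻¹ := (inv_eq_of_mul_eq_one_right h0).symm
          _ = f a * f o := by
            rw [mul_inv_rev, inv_eq_of_mul_eq_one_right hfa,
              inv_eq_of_mul_eq_one_right (hV _ hfo)]
      obtain ⟨w', ⟨w, hw, rfl⟩, hfw⟩ := hl2 (f o)
        ⟨hfo, mem_centralizer_singleton_iff.mpr hfoa⟩
      have hd : w⁻¹ * o * a * w * a ∈ M' := by
        rw [← hf1]
        simp only [map_mul, map_inv]
        rw [hfw, commutatorElement_def, inv_eq_of_mul_eq_one_right hfa]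
        simp only [mul_assoc]
        rw [← mul_assoc (f a) (f a), hfa, one_mul, inv_mul_cancel_left, inv_mul_cancel_left, hfa]
      have hda : w⁻¹ * o * a * w * a * a = w⁻¹ * (o * a) * w := by
        rw [mul_assoc _ a a, ha, mul_one]; group
      obtain ⟨u, hu, hu'⟩ := ih2 _ hd (by
        rw [hda, show w⁻¹ * (o * a) * w * (w⁻¹ * (o * a) * w) = w⁻¹ * (o * a * (o * a)) * w by
          group, hoa]; group)
      refine ⟨w * u, mul_mem hw (hM'M hu), ?_⟩
      rw [hda] at hu'
      calc o * a = w * (w⁻¹ * (o * a) * w) * w⁻¹ := by group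
        _ = _ := by rw [hu']; group
    refine ⟨?_, hlift⟩
    have hmapC : (M ⊓ centralizer ({a} : Set G)).map f = V ⊓ centralizer ({f a} : Set (G ⧸ M')) := by
      refine le_antisymm ?_ ?_
      · rintro _ ⟨c, hc, rfl⟩
        refine ⟨mem_map_of_mem f hc.1, mem_centralizer_singleton_iff.mpr ?_⟩
        rw [← map_mul, ← map_mul, mem_centralizer_singleton_iff.mp hc.2]
      · rintro _ ⟨⟨u, hu, rfl⟩, hua⟩
        have hua' : f u * f a = f a * f u := mem_centralizer_singleton_iff.mp hua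
        have hd : u⁻¹ * a * u * a ∈ M' := by
          rw [← hf1]; simp only [map_mul, map_inv]
          rw [mul_assoc (f u)⁻¹ (f a) (f u), ← hua', inv_mul_cancel_left, hfa]
        have hda : u⁻¹ * a * u * a * a = u⁻¹ * a * u := by rw [mul_assoc _ a a, ha, mul_one]
        obtain ⟨w, hw, hw'⟩ := ih2 _ hd (by
          rw [hda, show u⁻¹ * a * u * (u⁻¹ * a * u) = u⁻¹ * (a * a) * u by group, ha]; group)
        rw [hda] at hw'
        refine ⟨u * w, ⟨mul_mem hu (hM'M hw), mem_centralizer_singleton_iff.mpr ?_⟩, ?_⟩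
        · calc u * w * a = u * (w * a * w⁻¹) * w := by group
            _ = a * (u * w) := by rw [← hw']; group
        · rw [map_mul, hf1.mpr hw, mul_one]
    have e1 := card_map_mul f (M ⊓ centralizer ({a} : Set G))
    have e2 := card_map_mul f M
    rw [hf, QuotientGroup.ker_mk', ← hf] at e1 e2
    rw [hmapC, inf_assoc, inf_comm (centralizer ({a} : Set G)) M', ← inf_assoc,
      inf_eq_right.mpr hM'M] at e1
    rw [inf_eq_right.mpr hM'M, ← hVd] at e2
    rw [← e1, mul_pow, hl1, ih1, e2]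


/-- Let G be a finite group and r an odd prime such that G ⧸ O₂(G) is dihedral of order 2r, and let R be a Sylow r-subgroup of G with C_{O₂(G)}(R) = 1. Then N_G(R) is dihedral of order 2r; for any involution a of N_G(R), every involution of G outside O₂(G) is conjugate to a; and |C_{O₂(G)}(a)|² = |O₂(G)|. -/
theorem result {G : Type*} [Group G] [Finite G] {r : ℕ} [Fact r.Prime] (hr : r ≠ 2) [hN : (Cfsg.pCore 2 G).Normal] (hquot : Nonempty (G ⧸ Cfsg.pCore 2 G ≃* DihedralGroup r)) (R : Sylow r G) (hC : Cfsg.pCore 2 G ⊓ Subgroup.centralizer ((R : Subgroup G) : Set G) = ⊥) : Nonempty (↥(Subgroup.normalizer ((R : Subgroup G) : Set G)) ≃* DihedralGroup r) ∧ ∀ a : G, a ∈ Subgroup.normalizer ((R : Subgroup G) : Set G) → orderOf a = 2 → (∀ b : G, orderOf b = 2 → b ∉ Cfsg.pCore 2 G → ∃ g : G, g * a * g⁻¹ = b) ∧ Nat.card ↥(Cfsg.pCore 2 G ⊓ Subgroup.centralizer ({a} : Set G)) ^ 2 = Nat.card ↥(Cfsg.pCore 2 G) := by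
  have hOn := hN
  obtain ⟨e⟩ := hquot
  set O := pCore 2 G with hOd
  set x₁ : DihedralGroup r := DihedralGroup.r 1 with hx₁
  set ψ : G →* DihedralGroup r := e.toMonoidHom.comp (QuotientGroup.mk' O) with hψd
  have hψ : Function.Surjective ψ := e.surjective.comp (QuotientGroup.mk'_surjective O)
  have hψker : ψ.ker = O := by
    ext g; simp [hψd, MonoidHom.mem_ker, QuotientGroup.eq_one_iff]
  have hO2 : IsPGroup 2 ↥O := Components.isPGroup_pCore 2
  have hrne : (2 : ZMod r) ≠ 0 := by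
    intro h
    have h' : ((2 : ℕ) : ZMod r) = 0 := by exact_mod_cast h
    rw [ZMod.natCast_eq_zero_iff] at h'
    exact hr ((Nat.prime_dvd_prime_iff_eq Fact.out Nat.prime_two).mp h')
  have hrodd : r.Coprime 2 := (Nat.coprime_primes Fact.out Nat.prime_two).mpr hr
  have hinv2 : ∀ (i : ZMod r) (g : G), orderOf g = 2 → ψ g = DihedralGroup.r i → ψ g = 1 := by
    intro i g hg hgi
    have h1 : ψ g * ψ g = 1 := by rw [← map_mul, ← sq, ← hg, pow_orderOf_eq_one, map_one]
    rw [hgi, DihedralGroup.r_mul_r, DihedralGroup.one_def] at h1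
    injection h1 with h1
    rw [hgi, (mul_eq_zero.mp ((two_mul i).trans h1)).resolve_left hrne, DihedralGroup.r_zero]
  have hsr2 : ∀ g ∈ (R : Subgroup G), ψ g ∈ zpowers x₁ := by
    intro g hg
    obtain ⟨k, hk⟩ := R.isPGroup' ⟨g, hg⟩
    have hk' : ψ g ^ (r ^ k) = 1 := by
      rw [← map_pow, show g ^ (r ^ k) = 1 from congrArg Subtype.val hk, map_one]
    cases hgi : ψ g with
    | r i => exact ⟨i.cast, by simp [hx₁, DihedralGroup.r_one_zpow]⟩
    | sr i =>
      rw [hgi] at hk'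
      have h2 := orderOf_dvd_of_pow_eq_one hk'
      rw [DihedralGroup.orderOf_sr, Nat.Prime.coprime_iff_not_dvd Nat.prime_two |>.mp
        (hrodd.symm.pow_right k) |> fun h => iff_false_intro h] at h2
      exact h2.elim
  have hRO : ∀ g ∈ (R : Subgroup G), g ∈ O → g = 1 := fun g hg hgO =>
    LocalStr.eq_one_of_coprime_of_mem_pGroup R.isPGroup' hg (by
      obtain ⟨k, hk⟩ := hO2 ⟨g, hgO⟩
      exact ((Nat.Coprime.pow_left k hrodd.symm).coprime_dvd_left
        (orderOf_dvd_of_pow_eq_one (congrArg Subtype.val hk))))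
  have hRne : (R : Subgroup G) ≠ ⊥ := by
    refine R.ne_bot_of_dvd_card ?_
    have h1 := Subgroup.card_dvd_of_surjective ψ hψ
    rw [DihedralGroup.nat_card] at h1
    exact (Dvd.intro_left 2 rfl).trans h1
  have hx₁card : Nat.card ↥(zpowers x₁) = r := by
    rw [Nat.card_zpowers, hx₁, DihedralGroup.orderOf_r_one]
  have hψR : (R : Subgroup G).map ψ = zpowers x₁ := by
    have hle : (R : Subgroup G).map ψ ≤ zpowers x₁ := fun _ ⟨g, hg, h⟩ => h ▸ hsr2 g hg
    refine eq_of_le_of_card_ge hle ?_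
    rcases (Nat.dvd_prime Fact.out).mp (hx₁card ▸ card_dvd_of_le hle) with h | h
    · refine absurd (le_bot_iff.mp fun g hg => mem_bot.mpr (hRO g hg ?_)) hRne
      rw [← hψker, MonoidHom.mem_ker]
      exact mem_bot.mp ((eq_bot_of_card_eq _ h).le (mem_map_of_mem ψ hg))
    · rw [hx₁card, h]
  set M := (zpowers x₁).comap ψ with hMd
  haveI : (zpowers x₁).Normal := by
    refine normal_of_index_eq_two ?_
    have h1 := card_mul_index (zpowers x₁)
    rw [hx₁card, DihedralGroup.nat_card, mul_comm 2 r] at h1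
    exact Nat.eq_of_mul_eq_mul_left (Nat.Prime.pos Fact.out) h1
  have hRM : (R : Subgroup G) ≤ M := fun g hg => hsr2 g hg
  have hfr := Sylow.normalizer_sup_eq_top' R hRM
  set N := normalizer ((R : Subgroup G) : Set G) with hN
  have hMle : M ≤ N ⊔ O := by
    rw [hMd, ← hψR, comap_map_eq, hψker]
    exact sup_le_sup_right le_normalizer _
  have hNO : N ⊔ O = ⊤ := top_le_iff.mp (hfr.ge.trans (sup_le le_sup_left hMle))
  set φ : ↥N →* DihedralGroup r := ψ.comp N.subtype with hφd
  have hφsurj : Function.Surjective φ := by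
    rw [← MonoidHom.range_eq_top, hφd, MonoidHom.range_comp, range_subtype]
    have h1 : (N ⊔ O).map ψ = N.map ψ := by
      rw [Subgroup.map_sup, ← hψker, (Subgroup.map_eq_bot_iff _).mpr le_rfl, sup_bot_eq]
    rw [← h1, hNO, map_top_of_surjective ψ hψ]
  have hφinj : Function.Injective φ := by
    rw [injective_iff_map_eq_one]
    intro n hn
    have hnO : (n : G) ∈ O := hψker.le hn
    have hmem : (n : G) ∈ O ⊓ centralizer ((R : Subgroup G) : Set G) := by
      refine ⟨hnO, fun g hg => ?_⟩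
      have h1 : ⁅(n : G), g⁆ ∈ (R : Subgroup G) :=
        mul_mem ((mem_normalizer_iff.mp n.2 g).mp hg) (inv_mem hg)
      have h2 : ⁅(n : G), g⁆ ∈ O := by
        rw [commutatorElement_def, show (n : G) * g * (n : G)⁻¹ * g⁻¹ =
          n * (g * (n : G)⁻¹ * g⁻¹) by group]
        exact mul_mem hnO (hOn.conj_mem _ (inv_mem hnO) g)
      exact (commutatorElement_eq_one_iff_mul_comm.mp (hRO _ h1 h2)).symm
    rw [hC, mem_bot] at hmem
    exact Subtype.ext hmem
  let E : ↥N ≃* DihedralGroup r := MulEquiv.ofBijective φ ⟨hφinj, hφsurj⟩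
  refine ⟨⟨E⟩, fun a haN ha2 => ?_⟩
  have hinvol : ∀ n : ↥N, orderOf (n : G) = 2 → ∃ i, φ n = DihedralGroup.sr i := by
    intro n hn
    cases hi : φ n with
    | sr i => exact ⟨i, rfl⟩
    | r i =>
      exfalso
      have := hφinj ((hinv2 i n hn hi).trans (map_one φ).symm)
      rw [this, OneMemClass.coe_one, orderOf_one] at hn
      exact absurd hn (by norm_num)
  obtain ⟨i, hi⟩ := hinvol ⟨a, haN⟩ ha2
  obtain ⟨⟨x, hxR⟩, hxne⟩ : ∃ x : ↥(R : Subgroup G), x ≠ 1 := by
    haveI := (nontrivial_iff_ne_bot (R : Subgroup G)).mpr hRne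
    exact exists_ne 1
  have hxN : x ∈ N := le_normalizer hxR
  have haa : a * a = 1 := by rw [← sq, ← ha2, pow_orderOf_eq_one]
  obtain ⟨j, hj⟩ := hsr2 x hxR
  have hφx : φ ⟨x, hxN⟩ = x₁ ^ j := hj.symm
  have hax : a * x * a = x⁻¹ := by
    have h : (⟨a, haN⟩ : ↥N) * ⟨x, hxN⟩ * ⟨a, haN⟩ = ⟨x, hxN⟩⁻¹ := hφinj (by
      rw [map_mul, map_mul, map_inv, hi, hφx, hx₁, DihedralGroup.r_one_zpow, DihedralGroup.inv_r,
        DihedralGroup.sr_mul_r, DihedralGroup.sr_mul_sr]
      congr 1
      ring)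
    exact congrArg Subtype.val h
  have hRr : Nat.card ↥(R : Subgroup G) = r := by
    have := card_map_mul ψ (R : Subgroup G)
    rw [hψR, hx₁card, hψker, show (R : Subgroup G) ⊓ O = ⊥ from
      le_bot_iff.mp fun g hg => mem_bot.mpr (hRO g hg.1 hg.2), card_bot, mul_one] at this
    exact this.symm
  obtain ⟨k, hk⟩ := (Nat.Prime.odd_of_ne_two Fact.out hr : Odd r)
  have hxk : x ^ (2 * k + 1) = 1 := by
    have h := congrArg Subtype.val (pow_card_eq_one' (x := (⟨x, hxR⟩ : ↥(R : Subgroup G))))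
    rw [hRr] at h
    rw [← hk]
    exact h
  have hzx : zpowers x = (R : Subgroup G) := by
    refine eq_of_le_of_card_ge (zpowers_le.mpr hxR) ?_
    rw [hRr, Nat.card_zpowers]
    refine (orderOf_eq_prime ?_ fun h => hxne (Subtype.ext h)).ge
    exact (congrArg (x ^ ·) hk).trans hxk
  have hCx : ∀ v ∈ O, v * x = x * v → v = 1 := by
    intro v hv hvx
    rw [← mem_bot, ← hC]
    refine ⟨hv, ?_⟩
    rw [← hzx]
    intro g hg
    obtain ⟨i', rfl⟩ := mem_zpowers_iff.mp hg
    exact ((Commute.zpow_right hvx i').eq).symm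
  obtain ⟨hcard, hconj⟩ := main_induction haa hax hxk _ O le_rfl hOn hO2 hCx
  refine ⟨fun b hb2 hbO => ?_, hcard⟩
  have hb : b ∈ N ⊔ O := hNO ▸ mem_top b
  rw [← SetLike.mem_coe, Subgroup.mul_normal] at hb
  obtain ⟨n, hn, o, ho, rfl⟩ := Set.mem_mul.mp hb
  have hψn : φ ⟨n, hn⟩ = ψ (n * o) := by
    rw [map_mul, show ψ o = 1 from hψker.ge ho, mul_one]; rfl
  have hn2 : orderOf n = 2 := by
    refine orderOf_eq_prime ?_ fun h => hbO (by rw [h, one_mul]; exact ho)
    have h1 : (⟨n, hn⟩ : ↥N) ^ 2 = 1 := hφinj (by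
      rw [map_pow, hψn, ← map_pow, ← hb2, pow_orderOf_eq_one, map_one, map_one])
    exact congrArg Subtype.val h1
  obtain ⟨j', hj'⟩ := hinvol ⟨n, hn⟩ hn2
  obtain ⟨g₀, hg₀⟩ := dihedral_conj_sr (u := (2 : ZMod r)⁻¹) (mul_inv_cancel₀ hrne) i j'
  obtain ⟨g, rfl⟩ := hφsurj g₀
  rw [← hi, ← hj', ← map_inv, ← map_mul, ← map_mul] at hg₀
  have hgn : (g : G) * a * (g : G)⁻¹ = n := congrArg Subtype.val (hφinj hg₀)
  set o' := a * ((g : G)⁻¹ * o * g) * a with ho'
  have ho'O : o' ∈ O := by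
    have := hOn.conj_mem _ (hOn.conj_mem _ ho (g : G)⁻¹) a
    rwa [inv_inv, inv_eq_of_mul_eq_one_right haa] at this
  have hbg : (g : G)⁻¹ * (n * o) * g = o' * a := by
    rw [← hgn, ho', mul_assoc _ a a, haa]; group
  have hbb : n * o * (n * o) = 1 := by rw [← sq, ← hb2, pow_orderOf_eq_one]
  obtain ⟨u, -, hu⟩ := hconj o' ho'O (by
    rw [← hbg, show (g : G)⁻¹ * (n * o) * g * ((g : G)⁻¹ * (n * o) * g) =
      (g : G)⁻¹ * (n * o * (n * o)) * g by group, hbb]; group)
  refine ⟨(g : G) * u, ?_⟩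
  calc (g : G) * u * a * ((g : G) * u)⁻¹ = g * (u * a * u⁻¹) * (g : G)⁻¹ := by group
    _ = n * o := by rw [← hu, ← hbg]; group

end Cfsg.Agent.S2873
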