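import Cfsg.Statements.S2874
import Mathlib.Data.ZMod.Basic
import Mathlib.GroupTheory.SpecificGroups.Alternating
import Mathlib.LinearAlgebra.Matrix.GeneralLinearGroup.Defs
import Mathlib.LinearAlgebra.Matrix.NonsingularInverse
import Mathlib.Tactic.NoncommRing
import Mathlib.Tactic.Module
import Mathlib.Tactic.Ring
import Mathlib.Tactic.LinearCombination
import Mathlib.Tactic.FinCases
import Mathlib.Tactic.NormNum
-- import your own Cfsg.Agent.* helpers here

set_option autoImplicit false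
open Cfsg

set_option autoImplicit false
set_option linter.style.haveILetI false

namespace Cfsg.Agent.S2874
open Subgroup Matrix

abbrev A4 := ↥(alternatingGroup (Fin 4))

theorem a4_order_three : ∃ w : A4, w ^ 3 = 1 ∧ w ≠ 1 := by decide +kernel

theorem a4_rel : ∀ w t : A4, w ^ 3 = 1 → w ≠ 1 → t * t = 1 →
    t * (w * t * w⁻¹) * (w⁻¹ * t * w) = 1 ∧ t * (w * t * w⁻¹) = w * t * w⁻¹ * t := by
  decide +kernel

theorem a4_gen : ∀ w x : A4, w ^ 3 = 1 → w ≠ 1 →
    ∃ v, v * v = 1 ∧ (x = v ∨ x = v * w ∨ x = v * (w * w)) := by decide +kernel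

theorem a4_card_sq : Fintype.card {t : A4 // t * t = 1} = 4 := by decide +kernel

abbrev M2 := Matrix (Fin 2) (Fin 2) (ZMod 2)

/-- The order three matrix over `F₂`. -/
abbrev om : M2 := !![0, 1; 1, 1]

theorem f2_involution : ∀ m : M2, m * m = 1 →
    m * (om * m * (om * om)) = om * m * (om * om) * m → m = 1 := by decide +kernel

theorem f2_idem : ∀ m : M2, m * m + m = 0 →
    m + om * m * (om * om) + om * om * m * om = 0 → m = 0 := by decide +kernel

theorem f2_card : Fintype.card {m : M2 // m + om * m * (om * om) + om * om * m * om = 0} = 4 := by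
  decide +kernel

theorem f2_three : ∀ m : M2, m * m * m = 1 → m ≠ 1 → m 1 0 = 1 ∧ (m - 1).det = 1 := by
  decide +kernel

section Ring

variable {k : ℕ} (hk : 0 < k)

/-- Reduction mod 2. -/
def red : ZMod (2 ^ k) →+* ZMod 2 := ZMod.castHom (dvd_pow_self 2 hk.ne') (ZMod 2)

/-- Reduction mod 2 on matrices. -/
def redM : Matrix (Fin 2) (Fin 2) (ZMod (2 ^ k)) →+* M2 := (red hk).mapMatrix

theorem red_natCast (n : ℕ) : red hk (n : ZMod (2 ^ k)) = n := map_natCast _ n

theorem isUnit_of_red {x : ZMod (2 ^ k)} (h : red hk x = 1) : IsUnit x := by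
  obtain ⟨n, rfl⟩ := ZMod.natCast_zmod_surjective x
  rw [red_natCast, ← Nat.cast_one, ZMod.natCast_eq_natCast_iff'] at h
  rw [ZMod.isUnit_iff_coprime]
  exact Nat.Coprime.pow_right k (Nat.coprime_two_right.mpr (Nat.odd_iff.mpr h))

theorem exists_two_mul {x : ZMod (2 ^ k)} (h : red hk x = 0) : ∃ y, x = 2 * y := by
  obtain ⟨n, rfl⟩ := ZMod.natCast_zmod_surjective x
  rw [red_natCast, ZMod.natCast_eq_zero_iff] at h
  obtain ⟨m, rfl⟩ := h
  exact ⟨m, by push_cast; ring⟩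

theorem red_eq_zero_of_mul {i : ℕ} (hi : i < k) {x : ZMod (2 ^ k)} (h : 2 ^ i * x = 0) :
    red hk x = 0 := by
  obtain ⟨n, rfl⟩ := ZMod.natCast_zmod_surjective x
  rw [red_natCast, ZMod.natCast_eq_zero_iff]
  have h' : ((2 ^ i * n : ℕ) : ZMod (2 ^ k)) = 0 := by push_cast; exact h
  rw [ZMod.natCast_eq_zero_iff] at h'
  have h2 : 2 ^ i * 2 ∣ 2 ^ i * n := by
    rw [← pow_succ]; exact (pow_dvd_pow 2 hi).trans h'
  exact Nat.dvd_of_mul_dvd_mul_left (by positivity) h2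

theorem mul_eq_zero_of_red {x : ZMod (2 ^ k)} (h : red hk x = 0) :
    (2 : ZMod (2 ^ k)) ^ (k - 1) * x = 0 := by
  obtain ⟨y, rfl⟩ := exists_two_mul hk h
  rw [← mul_assoc, ← pow_succ, Nat.sub_add_cancel hk]
  have h2 : (2 : ZMod (2 ^ k)) ^ k = ((2 ^ k : ℕ) : ZMod (2 ^ k)) := by push_cast; rfl
  rw [h2, ZMod.natCast_self, zero_mul]

theorem redM_apply (A : Matrix (Fin 2) (Fin 2) (ZMod (2 ^ k))) (i j : Fin 2) :
    redM hk A i j = red hk (A i j) := rfl

theorem redM_smul (c : ZMod (2 ^ k)) (A : Matrix (Fin 2) (Fin 2) (ZMod (2 ^ k))) :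
    redM hk (c • A) = red hk c • redM hk A := by
  ext i j; simp [redM_apply]

theorem red_two_pow {i : ℕ} (hi : 0 < i) : red hk ((2 : ZMod (2 ^ k)) ^ i) = 0 := by
  rw [map_pow, map_ofNat, show ((2 : ZMod 2)) = 0 from rfl, zero_pow hi.ne']

theorem isUnit_of_redM {A : Matrix (Fin 2) (Fin 2) (ZMod (2 ^ k))}
    (h : (redM hk A).det = 1) : IsUnit A := by
  rw [Matrix.isUnit_iff_isUnit_det]
  refine isUnit_of_red hk ?_
  rw [RingHom.map_det]
  exact h

theorem exists_two_smul {A : Matrix (Fin 2) (Fin 2) (ZMod (2 ^ k))} (h : redM hk A = 0) :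
    ∃ M, A = (2 : ZMod (2 ^ k)) • M := by
  have h' : ∀ i j, ∃ y, A i j = 2 * y := fun i j =>
    exists_two_mul hk (by rw [← redM_apply hk, h]; rfl)
  choose y hy using h'
  exact ⟨Matrix.of y, by ext i j; simp [hy]⟩

theorem redM_eq_zero_of_smul {i : ℕ} (hi : i < k) {A : Matrix (Fin 2) (Fin 2) (ZMod (2 ^ k))}
    (h : (2 : ZMod (2 ^ k)) ^ i • A = 0) : redM hk A = 0 := by
  ext a b
  exact red_eq_zero_of_mul hk hi (by
    have := congrFun (congrFun h a) b
    simpa using this)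

theorem smul_eq_zero_of_redM {A : Matrix (Fin 2) (Fin 2) (ZMod (2 ^ k))} (h : redM hk A = 0) :
    (2 : ZMod (2 ^ k)) ^ (k - 1) • A = 0 := by
  ext a b
  simp only [Matrix.smul_apply, smul_eq_mul, Matrix.zero_apply]
  exact mul_eq_zero_of_red hk (by rw [← redM_apply hk, h]; rfl)

/-- The standard element of order three. -/
def W0 (n : ℕ) : GL (Fin 2) (ZMod n) where
  val := !![0, -1; 1, -1]
  inv := !![-1, 1; -1, 0]
  val_inv := by
    rw [Matrix.mul_fin_two, Matrix.one_fin_two]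
    simp
  inv_val := by
    rw [Matrix.mul_fin_two, Matrix.one_fin_two]
    simp

theorem redM_W0 : redM hk (W0 (2 ^ k) : Matrix (Fin 2) (Fin 2) (ZMod (2 ^ k))) = om ∧
    redM hk ((W0 (2 ^ k))⁻¹ : GL (Fin 2) (ZMod (2 ^ k))).val = om * om := by
  have h1 : (-1 : ZMod 2) = 1 := by decide
  have h2 : (om * om : M2) = !![1, 1; 1, 0] := by decide +kernel
  constructor
  · ext i j
    rw [redM_apply]
    show red hk ((!![0, -1; 1, -1] : Matrix (Fin 2) (Fin 2) (ZMod (2 ^ k))) i j) = om i j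
    fin_cases i <;> fin_cases j <;> simp [h1]
  · rw [h2]
    ext i j
    rw [redM_apply]
    show red hk ((!![-1, 1; -1, 0] : Matrix (Fin 2) (Fin 2) (ZMod (2 ^ k))) i j) = _
    fin_cases i <;> fin_cases j <;> simp [h1]

theorem expand_three (c : ZMod (2 ^ k)) (A B C : Matrix (Fin 2) (Fin 2) (ZMod (2 ^ k))) :
    (1 + c • A) * (1 + c • B) * (1 + c • C) =
      1 + c • ((A + B + C) + c • (A * B + A * C + B * C + c • (A * B * C))) := by
  simp only [add_mul, mul_add, smul_mul_assoc, mul_smul_comm, smul_add, smul_smul, mul_assoc,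
    one_mul, mul_one]
  abel

end Ring

variable {k : ℕ}

/-- The facts used about a subgroup isomorphic to `A₄`. -/
theorem subgroup_facts {G : Type*} [Group G] {H : Subgroup G} (e : ↥H ≃* A4) :
    (∃ w ∈ H, w ^ 3 = 1 ∧ w ≠ 1) ∧
    (∀ w t, w ∈ H → t ∈ H → w ^ 3 = 1 → w ≠ 1 → t * t = 1 →
      t * (w * t * w⁻¹) * (w⁻¹ * t * w) = 1 ∧ t * (w * t * w⁻¹) = w * t * w⁻¹ * t) ∧
    (∀ w x, w ∈ H → x ∈ H → w ^ 3 = 1 → w ≠ 1 →
      ∃ v ∈ H, v * v = 1 ∧ (x = v ∨ x = v * w ∨ x = v * (w * w))) ∧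
    {t : G | t ∈ H ∧ t * t = 1}.ncard = 4 := by
  have hne : ∀ {w : ↥H}, (w : G) ≠ 1 → e w ≠ 1 := fun {w} hw h =>
    hw (by rw [e.map_eq_one_iff] at h; rw [h]; rfl)
  refine ⟨?_, ?_, ?_, ?_⟩
  · obtain ⟨w, hw, hw1⟩ := a4_order_three
    refine ⟨e.symm w, (e.symm w).2, ?_, fun h => hw1 ?_⟩
    · rw [← SubmonoidClass.coe_pow, ← map_pow, hw, map_one]; rfl
    · have : e.symm w = 1 := Subtype.ext h
      simpa using congrArg e this
  · intro w t hw ht hw3 hw1 htt
    obtain ⟨h1, h2⟩ := a4_rel (e ⟨w, hw⟩) (e ⟨t, ht⟩)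
      (by rw [← map_pow, ← map_one e]; exact congrArg e (Subtype.ext hw3)) (hne hw1)
      (by rw [← map_mul, ← map_one e]; exact congrArg e (Subtype.ext htt))
    simp only [← map_inv, ← map_mul] at h1 h2
    rw [← map_one e] at h1
    exact ⟨congrArg Subtype.val (e.injective h1), congrArg Subtype.val (e.injective h2)⟩
  · intro w x hw hx hw3 hw1
    obtain ⟨v, hv, h⟩ := a4_gen (e ⟨w, hw⟩) (e ⟨x, hx⟩)
      (by rw [← map_pow, ← map_one e]; exact congrArg e (Subtype.ext hw3)) (hne hw1)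
    obtain ⟨v, rfl⟩ := e.surjective v
    simp only [← map_mul] at hv h
    rw [← map_one e] at hv
    exact ⟨v, v.2, congrArg Subtype.val (e.injective hv),
      h.imp (fun h => congrArg Subtype.val (e.injective h))
        (Or.imp (fun h => congrArg Subtype.val (e.injective h))
          (fun h => congrArg Subtype.val (e.injective h)))⟩
  · rw [← Nat.card_coe_set_eq, ← a4_card_sq, ← Nat.card_eq_fintype_card]
    refine Nat.card_congr
      { toFun := fun t => ⟨e ⟨t.1, t.2.1⟩, by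
          rw [← map_mul, ← map_one e]; exact congrArg e (Subtype.ext t.2.2)⟩
        invFun := fun t => ⟨e.symm t.1, (e.symm t.1).2, by
          rw [← Subgroup.coe_mul, ← map_mul, t.2, map_one]; rfl⟩
        left_inv := fun t => by simp
        right_inv := fun t => by simp }

/-- Some conjugate of an `A₄` contains the standard element of order three. -/
theorem exists_conj_W0 (hk : 2 ≤ k) (H : Subgroup (GL (Fin 2) (ZMod (2 ^ k)))) (e : ↥H ≃* A4) :
    ∃ g : GL (Fin 2) (ZMod (2 ^ k)), W0 (2 ^ k) ∈ H.map (MulAut.conj g).toMonoidHom := by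
  have hk0 : 0 < k := by omega
  obtain ⟨⟨w, hwH, hw3, hw1⟩, -⟩ := subgroup_facts e
  set A := (w : Matrix (Fin 2) (Fin 2) (ZMod (2 ^ k))) with hA
  have hA3 : A * A * A = 1 := by
    have := congrArg Units.val hw3
    rwa [Units.val_pow_eq_pow_val, pow_three', Units.val_one] at this
  have hb3 : redM hk0 A * redM hk0 A * redM hk0 A = 1 := by rw [← map_mul, ← map_mul, hA3, map_one]
  have hb1 : redM hk0 A ≠ 1 := by
    intro hb
    have hu : IsUnit (A * A + A + 1) := by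
      refine isUnit_of_redM hk0 ?_
      rw [map_add, map_add, map_mul, map_one, hb]
      decide +kernel
    refine hw1 (Units.ext ?_)
    have h0 : (A - 1) * (A * A + A + 1) = 0 := by
      calc (A - 1) * (A * A + A + 1) = A * A * A - 1 := by noncomm_ring
        _ = 0 := by rw [hA3, sub_self]
    exact sub_eq_zero.mp ((hu.mul_left_eq_zero).mp h0)
  obtain ⟨h10, hdet⟩ := f2_three _ hb3 hb1
  have hq : A * A + A + 1 = 0 := by
    have hu : IsUnit (A - 1) := isUnit_of_redM hk0 (by rwa [map_sub, map_one])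
    refine hu.mul_right_eq_zero.mp ?_
    calc (A - 1) * (A * A + A + 1) = A * A * A - 1 := by noncomm_ring
      _ = 0 := by rw [hA3, sub_self]
  obtain ⟨g, hg⟩ : IsUnit (!![1, A 0 0; 0, A 1 0] : Matrix (Fin 2) (Fin 2) (ZMod (2 ^ k))) := by
    rw [Matrix.isUnit_iff_isUnit_det, Matrix.det_fin_two_of]
    refine isUnit_of_red hk0 ?_
    simp only [map_sub, map_mul, map_one, map_zero, ← redM_apply hk0 A 1 0, h10]
    ring
  refine ⟨g⁻¹, w, hwH, ?_⟩
  have hq' : ∀ i j, (A * A + A + 1) i j = 0 := fun i j => by rw [hq]; rfl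
  have key : A * (g : Matrix (Fin 2) (Fin 2) (ZMod (2 ^ k))) = (g : Matrix _ _ _) * !![0, -1; 1, -1] := by
    rw [hg]
    have h0 := hq' 0 0
    have h1 := hq' 1 0
    simp only [Matrix.add_apply, Matrix.mul_apply, Fin.sum_univ_two, Matrix.one_apply_eq,
      Matrix.one_apply_ne (show (1 : Fin 2) ≠ 0 by decide)] at h0 h1
    rw [Matrix.mul_fin_two]
    ext i j
    fin_cases i <;> fin_cases j <;> simp [Matrix.mul_apply, Fin.sum_univ_two] <;>
      first | linear_combination h0 | linear_combination h1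
  have key' : w * g = g * W0 (2 ^ k) := Units.ext key
  show g⁻¹ * w * g⁻¹⁻¹ = W0 (2 ^ k)
  rw [inv_inv, mul_assoc, key', inv_mul_cancel_left]

/-- The involutions of an `A₄` containing `W0`. -/
theorem involution_form (hk : 2 ≤ k) (H : Subgroup (GL (Fin 2) (ZMod (2 ^ k)))) (e : ↥H ≃* A4)
    (hW : W0 (2 ^ k) ∈ H) {t : GL (Fin 2) (ZMod (2 ^ k))} (ht : t ∈ H) (htt : t * t = 1) :
    ∃ M : Matrix (Fin 2) (Fin 2) (ZMod (2 ^ k)),
      (t : Matrix _ _ _) = 1 + (2 : ZMod (2 ^ k)) ^ (k - 1) • M ∧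
      redM (by omega : 0 < k) M + om * redM (by omega : 0 < k) M * (om * om) +
        om * om * redM (by omega : 0 < k) M * om = 0 := by
  have hk0 : 0 < k := by omega
  obtain ⟨-, hrel, -, -⟩ := subgroup_facts e
  obtain ⟨hWb, hWib⟩ := redM_W0 hk0
  set W : Matrix (Fin 2) (Fin 2) (ZMod (2 ^ k)) := (W0 (2 ^ k)).val with hWd
  set Wi : Matrix (Fin 2) (Fin 2) (ZMod (2 ^ k)) := ((W0 (2 ^ k))⁻¹ : GL _ _).val with hWid
  have hWWi : W * Wi = 1 := (W0 (2 ^ k)).mul_inv
  have hWiW : Wi * W = 1 := (W0 (2 ^ k)).inv_mul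
  have hW1 : W0 (2 ^ k) ≠ 1 := by
    intro h
    have h' : redM hk0 W = 1 := by rw [hWd, h, Units.val_one, map_one]
    rw [hWb] at h'
    revert h'; decide +kernel
  have hW3 : W0 (2 ^ k) ^ 3 = 1 := by
    ext : 1
    rw [Units.val_pow_eq_pow_val, pow_three']
    show (!![0, -1; 1, -1] : Matrix (Fin 2) (Fin 2) (ZMod (2 ^ k))) * !![0, -1; 1, -1] *
      !![0, -1; 1, -1] = 1
    rw [Matrix.mul_fin_two, Matrix.mul_fin_two, Matrix.one_fin_two]
    simp
  obtain ⟨hprod, hcomm⟩ := hrel _ t hW ht hW3 hW1 htt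
  set T := (t : Matrix (Fin 2) (Fin 2) (ZMod (2 ^ k))) with hT
  have hprod' : T * (W * T * Wi) * (Wi * T * W) = 1 := congrArg Units.val hprod
  have hcomm' : T * (W * T * Wi) = W * T * Wi * T := congrArg Units.val hcomm
  have hTT : T * T = 1 := congrArg Units.val htt
  -- congruent to 1 mod 2
  have hTb : redM hk0 T = 1 := by
    refine f2_involution _ (by rw [← map_mul, hTT, map_one]) ?_
    have := congrArg (redM hk0) hcomm'
    simpa only [map_mul, hWb, hWib] using this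
  -- consequence of the product relation
  have hsum : ∀ (j : ℕ) (M : Matrix (Fin 2) (Fin 2) (ZMod (2 ^ k))), 0 < j → j < k →
      T = 1 + (2 : ZMod (2 ^ k)) ^ j • M →
      redM hk0 M + om * redM hk0 M * (om * om) + om * om * redM hk0 M * om = 0 := by
    intro j M hj hjk hM
    have e1 : W * T * Wi = 1 + (2 : ZMod (2 ^ k)) ^ j • (W * M * Wi) := by
      rw [hM, mul_add, add_mul, mul_one, hWWi, mul_smul_comm, smul_mul_assoc]
    have e2 : Wi * T * W = 1 + (2 : ZMod (2 ^ k)) ^ j • (Wi * M * W) := by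
      rw [hM, mul_add, add_mul, mul_one, hWiW, mul_smul_comm, smul_mul_assoc]
    have h := hprod'
    rw [e1, e2, hM, expand_three, add_eq_left] at h
    have h2 := redM_eq_zero_of_smul hk0 hjk h
    rw [map_add, redM_smul, red_two_pow hk0 hj, zero_smul, add_zero] at h2
    simpa only [map_add, map_mul, hWb, hWib] using h2
  obtain ⟨N, hN⟩ := exists_two_smul hk0 (A := T - 1) (by rw [map_sub, hTb, map_one, sub_self])
  have hN' : T = 1 + (2 : ZMod (2 ^ k)) ^ 1 • N := by rw [pow_one, ← hN]; abel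
  suffices ∃ M, T = 1 + (2 : ZMod (2 ^ k)) ^ (k - 1) • M by
    obtain ⟨M, hM⟩ := this
    exact ⟨M, hM, hsum (k - 1) M (by omega) (by omega) hM⟩
  by_cases hk2 : k = 2
  · subst hk2; exact ⟨N, hN'⟩
  -- congruent to 1 mod 4
  have hsq : (2 : ZMod (2 ^ k)) ^ 2 • (N * N + N) = 0 := by
    have h := hTT
    rw [hN', pow_one] at h
    rw [sq]
    calc (2 * 2 : ZMod (2 ^ k)) • (N * N + N)
        = (1 + (2 : ZMod (2 ^ k)) • N) * (1 + (2 : ZMod (2 ^ k)) • N) - 1 := by
          simp only [add_mul, mul_add, smul_mul_assoc, mul_smul_comm, smul_smul, one_mul, mul_one,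
            smul_add]
          module
      _ = 0 := by rw [h, sub_self]
  have hNb : redM hk0 N = 0 := by
    refine f2_idem _ ?_ (hsum 1 N one_pos (by omega) hN')
    have := redM_eq_zero_of_smul hk0 (by omega : 2 < k) hsq
    simpa only [map_add, map_mul] using this
  obtain ⟨N2, rfl⟩ := exists_two_smul hk0 hNb
  -- now `T = 1 + 4 N2`, so `8 N2 = 0`
  have h8 : (2 : ZMod (2 ^ k)) ^ 3 • N2 = 0 := by
    have hu : IsUnit (1 + (2 : ZMod (2 ^ k)) • N2) := by
      refine isUnit_of_redM hk0 ?_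
      rw [map_add, map_one, redM_smul, ← pow_one (2 : ZMod (2 ^ k)), red_two_pow hk0 one_pos,
        zero_smul, add_zero, Matrix.det_one]
    refine hu.mul_left_eq_zero.mp ?_
    have h := hsq
    simp only [smul_mul_assoc, mul_smul_comm, smul_smul, smul_add] at h
    simp only [mul_add, mul_one, smul_mul_assoc, mul_smul_comm, smul_smul]
    rw [show ((2 : ZMod (2 ^ k)) ^ 3) = 2 ^ 2 * 2 by ring,
      show ((2 : ZMod (2 ^ k)) * (2 ^ 2 * 2)) = 2 ^ 2 * (2 * 2) by ring]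
    rw [add_comm]
    exact h
  by_cases hk3 : k = 3
  · subst hk3
    exact ⟨N2, by rw [hN', pow_one, smul_smul, ← sq]⟩
  obtain ⟨y, hy⟩ : ∃ y : Matrix (Fin 2) (Fin 2) (ZMod (2 ^ k)),
      (2 : ZMod (2 ^ k)) ^ 2 • N2 = (2 : ZMod (2 ^ k)) ^ (k - 1) • y := by
    have h' : ∀ a b, ∃ z : ZMod (2 ^ k), 2 ^ 2 * N2 a b = 2 ^ (k - 1) * z := by
      intro a b
      have h1 : (2 : ZMod (2 ^ k)) ^ 3 * N2 a b = 0 := by
        have := congrFun (congrFun h8 a) b
        simpa using this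
      obtain ⟨n, hn⟩ := ZMod.natCast_zmod_surjective (N2 a b)
      rw [← hn] at h1 ⊢
      have h2 : ((2 ^ 3 * n : ℕ) : ZMod (2 ^ k)) = 0 := by
        rw [Nat.cast_mul, Nat.cast_pow, Nat.cast_ofNat]; exact h1
      rw [ZMod.natCast_eq_zero_iff] at h2
      have h3 : 2 ^ (k - 3) ∣ n := by
        refine Nat.dvd_of_mul_dvd_mul_left (k := 2 ^ 3) (by norm_num) ?_
        rwa [← pow_add, Nat.add_sub_cancel' (by omega : 3 ≤ k)]
      obtain ⟨m, rfl⟩ := h3
      refine ⟨m, ?_⟩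
      push_cast
      rw [← mul_assoc, ← pow_add]
      congr 2
      omega
    choose z hz using h'
    exact ⟨Matrix.of z, by ext a b; simp [hz]⟩
  exact ⟨y, by rw [hN', pow_one, smul_smul, ← sq, hy]⟩


/-- For k ≥ 2, any two subgroups of GL₂(ℤ/2ᵏℤ) (the automorphism group of the homocyclic group ℤ/2ᵏ × ℤ/2ᵏ) that are isomorphic to the alternating group of degree 4 are conjugate. -/
theorem result (k : ℕ) (hk : 2 ≤ k) (H₁ H₂ : Subgroup (GL (Fin 2) (ZMod (2 ^ k)))) (h₁ : Nonempty (↥H₁ ≃* ↥(alternatingGroup (Fin 4)))) (h₂ : Nonempty (↥H₂ ≃* ↥(alternatingGroup (Fin 4)))) : ∃ g : GL (Fin 2) (ZMod (2 ^ k)), H₂ = H₁.map (MulAut.conj g).toMonoidHom := by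
  obtain ⟨e₁⟩ := h₁
  obtain ⟨e₂⟩ := h₂
  have hk0 : 0 < k := by omega
  obtain ⟨g₁, hg₁⟩ := exists_conj_W0 hk H₁ e₁
  obtain ⟨g₂, hg₂⟩ := exists_conj_W0 hk H₂ e₂
  set K₁ := H₁.map (MulAut.conj g₁).toMonoidHom with hK₁
  set K₂ := H₂.map (MulAut.conj g₂).toMonoidHom with hK₂
  let f₁ : ↥K₁ ≃* A4 := ((MulAut.conj g₁).subgroupMap H₁).symm.trans e₁
  let f₂ : ↥K₂ ≃* A4 := ((MulAut.conj g₂).subgroupMap H₂).symm.trans e₂
  classical
  let lift : M2 → Matrix (Fin 2) (Fin 2) (ZMod (2 ^ k)) := fun m =>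
    Matrix.of fun i j => ((m i j).val : ZMod (2 ^ k))
  have hlift : ∀ m, redM hk0 (lift m) = m := fun m => by
    ext i j
    rw [redM_apply]
    show red hk0 ((m i j).val : ZMod (2 ^ k)) = m i j
    rw [red_natCast, ZMod.natCast_zmod_val]
  set T : Set (Matrix (Fin 2) (Fin 2) (ZMod (2 ^ k))) :=
    (fun m => 1 + (2 : ZMod (2 ^ k)) ^ (k - 1) • lift m) ''
      {m : M2 | m + om * m * (om * om) + om * om * m * om = 0} with hT
  have hTc : T.ncard ≤ 4 := by
    refine (Set.ncard_image_le (Set.toFinite _)).trans ?_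
    rw [← Nat.card_coe_set_eq, Nat.card_eq_fintype_card]
    exact f2_card.le
  have hset : ∀ (K : Subgroup (GL (Fin 2) (ZMod (2 ^ k)))), (↥K ≃* A4) → W0 (2 ^ k) ∈ K →
      Units.val '' {t | t ∈ K ∧ t * t = 1} = T := by
    intro K f hW
    refine Set.eq_of_subset_of_ncard_le ?_ ?_ (Set.toFinite _)
    · rintro _ ⟨t, ⟨ht, htt⟩, rfl⟩
      obtain ⟨M, hM, hMs⟩ := involution_form hk K f hW ht htt
      refine ⟨redM hk0 M, hMs, ?_⟩
      rw [hM, add_right_inj, ← sub_eq_zero, ← smul_sub]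
      exact smul_eq_zero_of_redM hk0 (by rw [map_sub, hlift, sub_self])
    · rw [Set.ncard_image_of_injective _ Units.val_injective, (subgroup_facts f).2.2.2]
      exact hTc
  have hle : ∀ (K K' : Subgroup (GL (Fin 2) (ZMod (2 ^ k)))), (↥K ≃* A4) → (↥K' ≃* A4) →
      W0 (2 ^ k) ∈ K → W0 (2 ^ k) ∈ K' → K ≤ K' := by
    intro K K' f f' hW hW' x hx
    have hW1 : W0 (2 ^ k) ≠ 1 := by
      intro h
      have h' := congrArg (fun u : GL (Fin 2) (ZMod (2 ^ k)) => redM hk0 u.val) h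
      simp only [(redM_W0 hk0).1, Units.val_one, map_one] at h'
      revert h'; decide +kernel
    have hW3 : W0 (2 ^ k) ^ 3 = 1 := by
      ext : 1
      rw [Units.val_pow_eq_pow_val, pow_three']
      show (!![0, -1; 1, -1] : Matrix (Fin 2) (Fin 2) (ZMod (2 ^ k))) * !![0, -1; 1, -1] *
        !![0, -1; 1, -1] = 1
      rw [Matrix.mul_fin_two, Matrix.mul_fin_two, Matrix.one_fin_two]
      simp
    obtain ⟨v, hv, hvv, h⟩ := (subgroup_facts f).2.2.1 _ x hW hx hW3 hW1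
    have hv' : v ∈ K' := by
      have h1 : (v : Matrix _ _ _) ∈ T := hset K f hW ▸ ⟨v, ⟨hv, hvv⟩, rfl⟩
      rw [← hset K' f' hW'] at h1
      obtain ⟨u, hu, huv⟩ := h1
      exact Units.val_injective huv ▸ hu.1
    rcases h with rfl | rfl | rfl
    · exact hv'
    · exact mul_mem hv' hW'
    · exact mul_mem hv' (mul_mem hW' hW')
  have heq : K₁ = K₂ := le_antisymm (hle _ _ f₁ f₂ hg₁ hg₂) (hle _ _ f₂ f₁ hg₂ hg₁)
  refine ⟨g₂⁻¹ * g₁, ?_⟩
  have hcomp : ∀ (a b : GL (Fin 2) (ZMod (2 ^ k))) (H : Subgroup (GL (Fin 2) (ZMod (2 ^ k)))),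
      (H.map (MulAut.conj b).toMonoidHom).map (MulAut.conj a).toMonoidHom =
        H.map (MulAut.conj (a * b)).toMonoidHom := fun a b H => by
    rw [Subgroup.map_map]
    congr 1
    ext x
    simp [mul_assoc]
  rw [← hcomp, ← hK₁, heq, hK₂, hcomp, inv_mul_cancel]
  ext x
  simp

end Cfsg.Agent.S2874
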