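import Cfsg.Statements.S2879
import Cfsg.Agent.Lib.Transfer.Quaternion
import Cfsg.Agent.Lib.Solvable.UniqueInvolution
import Cfsg.Agent.Lib.Solvable.Core
import Cfsg.Agent.Lib.TwoFusion.LocalAut
import Cfsg.Agent.Lib.TwoFusion.QuasiDihedralMax
import Cfsg.Agent.Lib.Components.Subnormal
import Cfsg.Agent.Lib.LocalStr.Large
import Mathlib.GroupTheory.SpecificGroups.Dihedral
import Mathlib.GroupTheory.SpecificGroups.Quaternion
import Mathlib.Tactic.Group
import Mathlib.Tactic.Ring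
import Mathlib.Tactic.LinearCombination
import Mathlib.Tactic.NormNum
-- import your own Cfsg.Agent.* helpers here

set_option autoImplicit false
open Cfsg

set_option autoImplicit false
set_option linter.style.haveILetI false

namespace Cfsg.Agent.S2879
open Subgroup CfsgLib

/-- The facts about `S` used below: a cyclic subgroup with all other elements of small order. -/
structure Facts {S : Type*} [Group S] (X : Subgroup S) : Prop where
  cyc : IsCyclic ↥X
  cen : ∀ c ∈ center S, c ∈ X ∧ c * c = 1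
  four : ∀ t, t ∉ X → t ^ 4 = 1
  prod : ∀ t u, t ∉ X → u ∉ X → t * u ∈ X
  inv : ∀ v x, v ∉ X → v * v = 1 → x ∈ X → x ^ 4 = 1 → v * x * v = x⁻¹

theorem facts_dihedral {n : ℕ} (hn : 4 ≤ n) :
    Facts (zpowers (DihedralGroup.r (1 : ZMod n))) := by
  have hr : ∀ i : ZMod n, DihedralGroup.r i ∈ zpowers (DihedralGroup.r (1 : ZMod n)) := fun i =>
    ⟨i.cast, by simp [DihedralGroup.r_one_zpow]⟩
  have hsr : ∀ t, t ∉ zpowers (DihedralGroup.r (1 : ZMod n)) → ∃ i, t = DihedralGroup.sr i := by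
    intro t ht
    cases t with
    | r i => exact absurd (hr i) ht
    | sr i => exact ⟨i, rfl⟩
  refine ⟨inferInstance, fun c hc => ?_, fun t ht => ?_, fun t u ht hu => ?_, ?_⟩
  · cases c with
    | r i =>
      refine ⟨hr i, ?_⟩
      have h := mem_center_iff.mp hc (DihedralGroup.sr 0)
      rw [DihedralGroup.sr_mul_r, DihedralGroup.r_mul_sr] at h
      injection h with h
      rw [DihedralGroup.r_mul_r, DihedralGroup.one_def]
      congr 1
      linear_combination h
    | sr i =>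
      exfalso
      have h := mem_center_iff.mp hc (DihedralGroup.r 1)
      rw [DihedralGroup.sr_mul_r, DihedralGroup.r_mul_sr] at h
      injection h with h
      have h2 : ((2 : ℕ) : ZMod n) = 0 := by push_cast; linear_combination -h
      rw [ZMod.natCast_eq_zero_iff] at h2
      have := Nat.le_of_dvd (by norm_num) h2
      omega
  · obtain ⟨i, rfl⟩ := hsr t ht
    rw [show (4 : ℕ) = 2 * 2 from rfl, pow_mul, sq (DihedralGroup.sr i), DihedralGroup.sr_mul_self,
      one_pow]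
  · obtain ⟨i, rfl⟩ := hsr t ht
    obtain ⟨j, rfl⟩ := hsr u hu
    rw [DihedralGroup.sr_mul_sr]
    exact hr _
  · intro v x hv _ hx _
    obtain ⟨i, rfl⟩ := hsr v hv
    obtain ⟨j, hj⟩ := hx
    obtain rfl : x = DihedralGroup.r 1 ^ j := hj.symm
    rw [DihedralGroup.r_one_zpow, DihedralGroup.inv_r, DihedralGroup.sr_mul_r,
      DihedralGroup.sr_mul_sr]
    congr 1
    ring

theorem facts_qd {S : Type*} [Group S] [Finite S] (D : TwoFusion.QDGens S) : Facts (zpowers D.x) := by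
  have hout : ∀ t, t ∉ zpowers D.x → ∃ i : ℤ, t = D.x ^ i * D.y := by
    intro t ht
    obtain ⟨i, rfl | rfl⟩ := D.normalForm t
    · exact absurd ⟨i, rfl⟩ ht
    · exact ⟨i, rfl⟩
  refine ⟨inferInstance, fun c hc => ?_, fun t ht => ?_, fun t u ht hu => ?_, ?_⟩
  · rw [D.center_eq] at hc
    obtain ⟨k, rfl⟩ := hc
    refine ⟨zpow_mem (zpow_mem (mem_zpowers _) _) _, ?_⟩
    show D.c ^ k * D.c ^ k = 1
    rw [← (Commute.refl D.c).mul_zpow, D.c_mul_c, one_zpow]
  · obtain ⟨i, rfl⟩ := hout t ht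
    rw [show (4 : ℕ) = 2 * 2 from rfl, pow_mul, D.sq_zy, ← zpow_natCast, ← zpow_mul,
      D.zpow_eq_one_iff]
    exact ⟨i, by push_cast; ring⟩
  · obtain ⟨i, rfl⟩ := hout t ht
    obtain ⟨j, rfl⟩ := hout u hu
    rw [D.zy_mul_zy]
    exact ⟨_, rfl⟩
  · intro v x hv hvv hx hx4
    obtain ⟨i, rfl⟩ := hout v hv
    obtain ⟨k, rfl⟩ := hx
    have hx4' : (D.x ^ k) ^ (4 : ℕ) = 1 := hx4
    nth_rw 2 [← inv_eq_of_mul_eq_one_right hvv]
    show D.x ^ i * D.y * D.x ^ k * (D.x ^ i * D.y)⁻¹ = (D.x ^ k)⁻¹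
    rw [D.zy_conj_zpow, ← zpow_neg, D.zpow_eq_iff]
    rw [← zpow_natCast, ← zpow_mul, D.zpow_eq_one_iff] at hx4'
    obtain ⟨s, hs⟩ := hx4'
    push_cast at hs
    exact ⟨D.P * s, by linear_combination D.P * hs⟩

theorem facts_comap {S D : Type*} [Group S] [Group D] {X : Subgroup S} (h : Facts X)
    (ι : D →* S) (hι : Function.Injective ι) :
    IsCyclic ↥(X.comap ι) ∧ (∀ t, t ∉ X.comap ι → t ^ 4 = 1) ∧
      (∀ t u, t ∉ X.comap ι → u ∉ X.comap ι → t * u ∈ X.comap ι) ∧
      ∀ v x, v ∉ X.comap ι → v * v = 1 → x ∈ X.comap ι → x ^ 4 = 1 → v * x * v = x⁻¹ := by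
  haveI := h.cyc
  refine ⟨isCyclic_of_injective ((ι.comp (X.comap ι).subtype).codRestrict X fun c => c.2)
    (fun a b hab => Subtype.ext (hι (congrArg Subtype.val hab))), fun t ht => hι ?_,
    fun t u ht hu => ?_, fun v x hv hvv hx hx4 => hι ?_⟩
  · rw [map_pow, map_one]; exact h.four _ ht
  · show ι (t * u) ∈ X
    rw [map_mul]; exact h.prod _ _ ht hu
  · rw [map_mul, map_mul, map_inv]
    exact h.inv _ _ hv (by rw [← map_mul, hvv, map_one]) hx (by rw [← map_pow, hx4, map_one])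

theorem unique_involution_of_cyclic {C : Type*} [Group C] [Finite C] [IsCyclic C] {u w : C}
    (hu : u * u = 1) (hu1 : u ≠ 1) (hw : w * w = 1) (hw1 : w ≠ 1) : u = w := by
  classical
  haveI := Fintype.ofFinite C
  by_contra hne
  have h := IsCyclic.card_pow_eq_one_le (α := C) (n := 2) two_pos
  have h3 : ({1, u, w} : Finset C) ⊆ Finset.univ.filter (fun a => a ^ 2 = 1) := by
    intro a ha
    simp only [Finset.mem_insert, Finset.mem_singleton] at ha
    rcases ha with rfl | rfl | rfl <;> simp [sq, hu, hw]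
  have h4 := (Finset.card_le_card h3).trans h
  rw [Finset.card_eq_three.mpr ⟨1, u, w, hu1.symm, hw1.symm, hne, rfl⟩] at h4
  omega

/-- A nontrivial odd automorphism fixing an involution forces that involution to be unique. -/
theorem unique_of_oddAut {D : Type*} [Group D] [Finite D] (hD : IsPGroup 2 D) {X : Subgroup D}
    [IsCyclic ↥X] (hfour : ∀ t, t ∉ X → t ^ 4 = 1) (hprod : ∀ t u, t ∉ X → u ∉ X → t * u ∈ X)
    (hinv : ∀ v x, v ∉ X → v * v = 1 → x ∈ X → x ^ 4 = 1 → v * x * v = x⁻¹)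
    {σ : MulAut D} {m : ℕ} (hm : σ ^ m = 1) (hodd : Odd m) (hσ : σ ≠ 1)
    {z : D} (hzX : z ∈ X) (hz : z * z = 1) (hz1 : z ≠ 1) (hσz : σ z = z) :
    ∀ v : D, v * v = 1 → v ≠ 1 → v = z := by
  intro v hvv hv1
  by_contra hvz
  have hvX : v ∉ X := fun hv => hvz (congrArg Subtype.val (unique_involution_of_cyclic
    (C := ↥X) (u := ⟨v, hv⟩) (w := ⟨z, hzX⟩) (Subtype.ext hvv) (fun h => hv1 (congrArg Subtype.val h))
    (Subtype.ext hz) (fun h => hz1 (congrArg Subtype.val h))))
  obtain ⟨⟨c, hc⟩, hgen⟩ := IsCyclic.exists_generator (α := ↥X)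
  have hgen' : ∀ x ∈ X, ∃ k : ℤ, c ^ k = x := fun x hx => by
    obtain ⟨k, hk⟩ := hgen ⟨x, hx⟩
    exact ⟨k, congrArg Subtype.val hk⟩
  have hσc : σ c ∈ X := by
    by_contra ht
    have ht4 : c ^ 4 = 1 := σ.injective (by rw [map_pow, map_one]; exact hfour _ ht)
    by_cases hc2 : c * c = 1
    · have hc1 : c ≠ 1 := by
        rintro rfl
        obtain ⟨k, hk⟩ := hgen' z hzX
        exact hz1 (by rw [← hk, one_zpow])
      have : (⟨c, hc⟩ : ↥X) = ⟨z, hzX⟩ := unique_involution_of_cyclic (Subtype.ext hc2)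
        (fun h => hc1 (congrArg Subtype.val h)) (Subtype.ext hz)
        (fun h => hz1 (congrArg Subtype.val h))
      have hcz : c = z := congrArg Subtype.val this
      rw [hcz, hσz] at ht
      exact ht hzX
    · have hvt := hprod v (σ c) hvX ht
      obtain ⟨k, hk⟩ := hgen' _ hvt
      have hk4 : (v * σ c) ^ 4 = 1 := by
        rw [← hk, ← zpow_natCast, zpow_comm, zpow_natCast, ht4, one_zpow]
      have h := hinv v (v * σ c) hvX hvv hvt hk4
      rw [← mul_assoc v v, hvv, one_mul, mul_inv_rev, inv_eq_of_mul_eq_one_right hvv,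
        mul_left_inj] at h
      refine hc2 (σ.injective ?_)
      rw [map_mul, map_one]
      nth_rw 1 [h]
      exact inv_mul_cancel _
  have hinvX : ∀ x ∈ X, σ x ∈ X := fun x hx => by
    obtain ⟨k, rfl⟩ := hgen' x hx
    rw [map_zpow]
    exact zpow_mem hσc k
  have hXfix := Transfer.fix_cyclic_two_subgroup σ hm hodd (hD.to_subgroup X) hinvX
  have hσv : σ v ∉ X := fun h => hvX (by
    have := σ.injective (hXfix _ h)
    rwa [this] at h)
  have hα : v⁻¹ * σ v ∈ X := hprod _ _ (fun h => hvX (inv_mem_iff.mp h)) hσv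
  have hcop : (orderOf (v⁻¹ * σ v)).Coprime m := by
    obtain ⟨s, hs⟩ := IsPGroup.iff_orderOf.mp hD (v⁻¹ * σ v)
    rw [hs]
    exact Nat.Coprime.pow_left _ (Nat.coprime_two_left.mpr hodd)
  have hvfix : σ v = v :=
    Transfer.fix_of_mul_fixed σ hm (mul_inv_cancel_left v (σ v)).symm (hXfix _ hα) hcop
  refine hσ (MulEquiv.ext fun d => ?_)
  show σ d = d
  by_cases hd : d ∈ X
  · exact hXfix d hd
  · have h := hXfix _ (hprod _ _ hvX hd)
    rwa [map_mul, hvfix, mul_right_inj] at h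

/-- With a unique involution and a nontrivial odd automorphism, the group is quaternion of order 8. -/
theorem quaternion_of_oddAut {D : Type*} [Group D] [Finite D] (hD : IsPGroup 2 D)
    {σ : MulAut D} {m : ℕ} (hm : σ ^ m = 1) (hodd : Odd m) (hσ : σ ≠ 1)
    (huniq : ∀ u v : D, u ^ 2 = 1 → u ≠ 1 → v ^ 2 = 1 → v ≠ 1 → u = v) :
    Nonempty (D ≃* QuaternionGroup 2) ∧ σ ^ 3 = 1 := by
  rcases Solvable.isCyclic_or_quaternion_of_unique_involution hD huniq with h | ⟨k, ⟨e⟩⟩
  · haveI := h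
    haveI : IsCyclic ↥(⊤ : Subgroup D) := (topEquiv (G := D)).isCyclic.mpr h
    exact absurd (MulEquiv.ext fun d => Transfer.fix_cyclic_two_subgroup σ hm hodd
      (hD.to_subgroup _) (fun x _ => mem_top (σ x)) d (mem_top d)) hσ
  haveI : NeZero (2 ^ k) := ⟨(pow_pos two_pos k).ne'⟩
  obtain ⟨a, y, -, -, ha, -, -, hy, hcov, h3⟩ :=
    Transfer.quaternion_subgroup_config ⟨k, rfl⟩ e.toMonoidHom e.injective σ hm hodd hσ
  have hle : Nat.card D ≤ 8 := by
    have hsurj : Function.Surjective (fun t : ↥(zpowers a) × Bool =>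
        (t.1 : D) * if t.2 then y else 1) := by
      intro d
      rcases hcov d with h | h
      · exact ⟨(⟨d, h⟩, false), by simp⟩
      · exact ⟨(⟨d * y⁻¹, h⟩, true), by simp⟩
    have := Nat.card_le_card_of_surjective _ hsurj
    rwa [Nat.card_prod, Nat.card_zpowers, ha, Nat.card_eq_fintype_card (α := Bool), Fintype.card_bool] at this
  have hlt : 4 < Nat.card D := by
    have h1 : Nat.card ↥(zpowers a) < Nat.card D := by
      refine lt_of_le_of_ne (card_le_card_group _) fun h => hy ?_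
      rw [eq_top_of_card_eq _ h]
      exact mem_top y
    rwa [Nat.card_zpowers, ha] at h1
  rw [Nat.card_congr e.toEquiv, Nat.card_eq_fintype_card, QuaternionGroup.card] at hle hlt
  have hk : k = 1 := by
    rcases k with _ | _ | k
    · norm_num at hlt
    · rfl
    · have : 2 ^ 2 ≤ 2 ^ (k + 1 + 1) := Nat.pow_le_pow_right two_pos (by omega)
      omega
  subst hk
  exact ⟨⟨e⟩, h3⟩

theorem quat_center_card : Nat.card (center (QuaternionGroup 2)) = 2 := by
  rw [← Nat.card_congr (Equiv.subtypeEquivRight fun q => (mem_center_iff (z := q)).symm),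
    Nat.card_eq_fintype_card]
  decide

theorem exists_mulEquiv_sl {G : Type*} [Group G] [Finite G] (Q : Subgroup G) [Q.Normal]
    (e : Q ≃* QuaternionGroup 2) (g : G) (hg : g ^ 3 = 1)
    (hgQ : g ∉ Subgroup.centralizer (Q : Set G)) :
    ∃ M : Subgroup G, Nat.card M = 24 ∧
      Nonempty (M ≃* Matrix.SpecialLinearGroup (Fin 2) (ZMod 3)) := by
  let σ : MulAut Q := MulAut.conjNormal g
  have hσ1 : σ ≠ 1 := fun h => hgQ (Subgroup.mem_centralizer_iff.2 fun q hq => by
    have h' := congrArg Subtype.val (DFunLike.congr_fun h ⟨q, hq⟩)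
    rw [MulAut.conjNormal_apply] at h'
    exact (mul_inv_eq_iff_eq_mul.1 h').symm)
  have hσ3 : σ ^ 3 = 1 := by rw [← map_pow, hg, map_one]
  obtain ⟨a, y, hay, hyy, ha4, hy2, hya, -, hcov, -⟩ :=
    CfsgLib.Transfer.quaternion_subgroup_config ⟨1, rfl⟩ e.toMonoidHom e.injective σ hσ3
      (by decide) hσ1
  let M : Subgroup G := Subgroup.closure {(a : G), g}
  have haM : (a : G) ∈ M := Subgroup.subset_closure (by simp)
  have hgM : g ∈ M := Subgroup.subset_closure (by simp)
  have hga : g * (a : G) * g⁻¹ = (y : G) :=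
    (MulAut.conjNormal_apply g a).symm.trans (congrArg Subtype.val hay)
  have hgy : g * (y : G) * g⁻¹ = (a : G) * y :=
    (MulAut.conjNormal_apply g y).symm.trans (congrArg Subtype.val hyy)
  have hyM : (y : G) ∈ M := hga ▸ mul_mem (mul_mem haM hgM |> fun _ => mul_mem hgM haM) (inv_mem hgM)
  have hQM : Q ≤ M := by
    intro q hq
    have hzp : ∀ u : Q, u ∈ Subgroup.zpowers a → (u : G) ∈ M := fun u hu => by
      obtain ⟨k, rfl⟩ := Subgroup.mem_zpowers_iff.1 hu
      rw [Subgroup.coe_zpow]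
      exact zpow_mem haM k
    rcases hcov ⟨q, hq⟩ with h | h
    · exact hzp _ h
    · have := mul_mem (hzp _ h) hyM
      simpa using this
  have ha4' : (a : G) ^ 4 = 1 := by rw [← ha4, ← Subgroup.orderOf_coe, pow_orderOf_eq_one]
  have h8 : 8 ∣ Nat.card M := by
    have := Subgroup.card_dvd_of_le hQM
    rwa [Nat.card_congr e.toEquiv, Nat.card_eq_fintype_card, QuaternionGroup.card] at this
  have hgo : orderOf g = 3 := orderOf_eq_prime hg fun h => hgQ (h ▸ one_mem _)
  have h3 : 3 ∣ Nat.card M := hgo ▸ Subgroup.orderOf_dvd_natCard M hgM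
  have hcard : 24 ≤ Nat.card M :=
    Nat.le_of_dvd Nat.card_pos (Nat.Coprime.mul_dvd_of_dvd_of_dvd (by decide : Nat.Coprime 8 3) h8 h3)
  obtain ⟨iso⟩ := CfsgLib.Transfer.nonempty_mulEquiv_sl_two_three (M := M) (a := ⟨a, haM⟩)
    (y := ⟨y, hyM⟩) (g := ⟨g, hgM⟩) (Subtype.ext ha4')
    (Subtype.ext (show (y : G) ^ 2 = (a : G) ^ 2 from congrArg Subtype.val hy2))
    (Subtype.ext (show (y : G) * a * (y : G)⁻¹ = (a : G)⁻¹ from congrArg Subtype.val hya))
    (Subtype.ext hga) (Subtype.ext hgy) (Subtype.ext hg)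
    (by
      rw [eq_top_iff]
      rintro ⟨x, hx⟩ -
      induction hx using Subgroup.closure_induction with
      | mem x hx =>
        refine Subgroup.subset_closure ?_
        rcases hx with rfl | rfl
        · exact Or.inl rfl
        · exact Or.inr rfl
      | one => exact one_mem _
      | mul x y _ _ hx hy => exact mul_mem hx hy
      | inv x _ hx => exact inv_mem hx) hcard
  refine ⟨M, ?_, ⟨iso⟩⟩
  rw [Nat.card_congr iso.toEquiv, Nat.card_eq_fintype_card,
    CfsgLib.Transfer.sl_two_three_facts.2.2.2.2.2.2.2]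


/-- Let G be a finite solvable group with O(G) = 1 whose Sylow 2-subgroup T is dihedral of order at least 8 or semidihedral, with G ≠ T and Z(T) normal in G. Then G has a normal subgroup isomorphic to SL₂(3). -/
theorem result {G : Type*} [Group G] [Finite G] (hsol : IsSolvable G) (hO : Cfsg.oddCore G = ⊥) (T : Sylow 2 G) (hT : (∃ n : ℕ, 4 ≤ n ∧ Nonempty (↥(T : Subgroup G) ≃* DihedralGroup n)) ∨ Cfsg.IsQuasiDihedral ↥(T : Subgroup G)) (hne : (T : Subgroup G) ≠ ⊤) (hZ : ((T : Subgroup G) ⊓ Subgroup.centralizer ((T : Subgroup G) : Set G)).Normal) : ∃ U : Subgroup G, U.Normal ∧ Nonempty (↥U ≃* Matrix.SpecialLinearGroup (Fin 2) (ZMod 3)) := by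
  haveI : Fact (Nat.Prime 2) := ⟨Nat.prime_two⟩
  haveI : Group.IsSolvable G := hsol
  obtain ⟨X, hX⟩ : ∃ X : Subgroup ↥(T : Subgroup G), Facts X := by
    rcases hT with ⟨n, hn, ⟨e⟩⟩ | hqd
    · have h := facts_dihedral hn
      obtain ⟨h1, h2, h3, h4⟩ := facts_comap h e.toMonoidHom e.injective
      refine ⟨_, h1, fun c hc => ?_, h2, h3, h4⟩
      have hec : e c ∈ center (DihedralGroup n) := mem_center_iff.mpr fun q => by
        obtain ⟨q, rfl⟩ := e.surjective q
        rw [← map_mul, ← map_mul, mem_center_iff.mp hc q]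
      obtain ⟨h5, h6⟩ := h.cen _ hec
      exact ⟨h5, e.injective (by rw [map_mul, map_one, h6])⟩
    · obtain ⟨D⟩ := TwoFusion.exists_qdGens hqd
      exact ⟨_, facts_qd D⟩
  -- the central involution
  have hTne : (T : Subgroup G) ≠ ⊥ := by
    intro h
    rcases hT with ⟨n, hn, ⟨e⟩⟩ | ⟨n, -, hcard, -⟩
    · have hc := Nat.card_congr e.toEquiv
      rw [h, card_bot, DihedralGroup.nat_card] at hc
      omega
    · rw [h, card_bot] at hcard
      exact absurd hcard.symm (Nat.one_lt_two_pow (by omega)).ne'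
  haveI : Nontrivial ↥(T : Subgroup G) := (nontrivial_iff_ne_bot _).mpr hTne
  haveI : Nontrivial ↥(center ↥(T : Subgroup G)) := T.isPGroup'.center_nontrivial
  obtain ⟨⟨zT, hzc⟩, hzne⟩ := exists_ne (1 : ↥(center ↥(T : Subgroup G)))
  obtain ⟨hzX, hzz⟩ := hX.cen zT hzc
  have hz1 : zT ≠ 1 := fun h => hzne (Subtype.ext h)
  haveI := hX.cyc
  set Z := (T : Subgroup G) ⊓ centralizer ((T : Subgroup G) : Set G) with hZd
  have hZz : ∀ w ∈ Z, w ≠ 1 → w = (zT : G) := by
    intro w hw hw1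
    have hwc : (⟨w, hw.1⟩ : ↥(T : Subgroup G)) ∈ center ↥(T : Subgroup G) :=
      mem_center_iff.mpr fun q => Subtype.ext (hw.2 q q.2)
    obtain ⟨hwX, hww⟩ := hX.cen _ hwc
    have := unique_involution_of_cyclic (C := ↥X) (u := ⟨_, hwX⟩) (w := ⟨_, hzX⟩) (Subtype.ext hww)
      (fun h => hw1 (congrArg (fun t : ↥X => ((t : ↥(T : Subgroup G)) : G)) h))
      (Subtype.ext hzz) (fun h => hz1 (congrArg Subtype.val h))
    exact congrArg (fun t : ↥X => ((t : ↥(T : Subgroup G)) : G)) this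
  have hzZ : (zT : G) ∈ Z :=
    ⟨zT.2, fun q hq => congrArg Subtype.val (mem_center_iff.mp hzc ⟨q, hq⟩)⟩
  have hz1G : (zT : G) ≠ 1 := fun h => hz1 (Subtype.ext h)
  have hzconj : ∀ g : G, g * (zT : G) * g⁻¹ = zT := fun g =>
    hZz _ (hZ.conj_mem _ hzZ g) (fun h => hz1G (conj_eq_one_iff.mp h))
  -- the Fitting subgroup
  set F := fittingSubgroup G with hF
  haveI hFn : F.Normal := Solvable.fittingSubgroup_normal G
  have hFp : F ≤ pCore 2 G := by
    rw [hF, Solvable.fittingSubgroup_eq_iSup_pCore]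
    refine iSup_le fun q => ?_
    by_cases hq : (q : ℕ) = 2
    · rw [hq]
    · haveI : Fact (q : ℕ).Prime := ⟨(Nat.mem_primeFactors.1 q.2).1⟩
      refine le_trans (Solvable.le_pPrimeCore inferInstance ?_) (hO.le.trans bot_le)
      obtain ⟨j, hj⟩ := (Components.isPGroup_pCore (G := G) q).exists_card_eq
      rw [hj]
      exact Nat.Coprime.pow_left _ ((Nat.coprime_primes Fact.out Nat.prime_two).mpr hq)
  have hF2 : IsPGroup 2 ↥F := (Components.isPGroup_pCore 2).to_le hFp
  have hCF : centralizer (F : Set G) ≤ F := Solvable.centralizer_fittingSubgroup_le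
  have hFT : F ≤ (T : Subgroup G) := hF2.le_sylow_of_normal T
  have hzF : (zT : G) ∈ F := hCF fun f _ => by
    rw [← mul_inv_eq_iff_eq_mul]; exact hzconj f
  have hfix : ∀ g : G, Odd (orderOf g) → g ∈ F → g = 1 := fun g hg hgF => by
    obtain ⟨j, hj⟩ := IsPGroup.iff_orderOf.mp hF2 ⟨g, hgF⟩
    rw [Subgroup.orderOf_mk] at hj
    rw [hj] at hg
    rw [← orderOf_eq_one_iff, hj]
    rcases j with _ | j
    · exact pow_zero 2
    · exact absurd hg (Nat.not_odd_iff_even.mpr (Nat.even_pow.mpr ⟨even_two, by omega⟩))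
  obtain ⟨g, hg2, hg1⟩ : ∃ g : G, Odd (orderOf g) ∧ g ≠ 1 := by
    obtain ⟨q, hq, hqd⟩ := Nat.exists_prime_and_dvd (n := (T : Subgroup G).index)
      (fun h => hne (index_eq_one.mp h))
    haveI := Fact.mk hq
    have hq2 : q ≠ 2 := fun h => T.not_dvd_index (h ▸ hqd)
    obtain ⟨g, hg⟩ := exists_prime_orderOf_dvd_card' (G := G) q
      (hqd.trans (index_dvd_card _))
    exact ⟨g, hg ▸ hq.odd_of_ne_two hq2, fun h => by rw [h, orderOf_one] at hg; exact hq.ne_one hg.symm⟩
  set σ : MulAut ↥F := MulAut.conjNormal g with hσd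
  have hσ : σ ≠ 1 := fun h => hg1 (hfix g hg2 (hCF fun f hf => by
    have h1 := congrArg Subtype.val (DFunLike.congr_fun h ⟨f, hf⟩)
    rw [MulAut.conjNormal_apply] at h1
    exact (mul_inv_eq_iff_eq_mul.mp h1).symm))
  have hσm : σ ^ orderOf g = 1 := by rw [hσd, ← map_pow, pow_orderOf_eq_one, map_one]
  obtain ⟨hXc, h2, h3, h4⟩ := facts_comap hX (Subgroup.inclusion hFT) (inclusion_injective hFT)
  haveI := hXc
  have huniq := unique_of_oddAut hF2 h2 h3 h4 hσm hg2 hσ (z := (⟨zT, hzF⟩ : ↥F)) hzX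
    (Subtype.ext (show (zT : G) * zT = 1 from congrArg Subtype.val hzz)) (fun h => hz1G (congrArg Subtype.val h))
    (Subtype.ext (hzconj g))
  obtain ⟨⟨eF⟩, hσ3⟩ := quaternion_of_oddAut hF2 hσm hg2 hσ (fun u v hu hu1 hv hv1 =>
    (huniq u (by rwa [← sq]) hu1).trans (huniq v (by rwa [← sq]) hv1).symm)
  have hg3 : g ^ 3 = 1 := by
    refine hfix _ (hg2.of_dvd_nat (orderOf_pow_dvd 3)) (hCF fun f hf => ?_)
    have h1 := congrArg Subtype.val (DFunLike.congr_fun hσ3 ⟨f, hf⟩)
    rw [hσd, ← map_pow, MulAut.conjNormal_apply] at h1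
    exact (mul_inv_eq_iff_eq_mul.mp h1).symm
  obtain ⟨M, hM, hiso⟩ := exists_mulEquiv_sl F eF g hg3 (fun h => hg1 (hfix g hg2 (hCF h)))
  refine ⟨M, ?_, hiso⟩
  -- `G` has order dividing 48
  let j : G →* ↥(normalizer (F : Set G)) :=
    (MonoidHom.id G).codRestrict _ fun x => by rw [normalizer_eq_top_iff.mpr hFn]; trivial
  set ψ := (TwoFusion.LocalAut.quotPerm F).comp j with hψ
  have hcardQ : Nat.card ↥F = 8 := by
    rw [Nat.card_congr eF.toEquiv, Nat.card_eq_fintype_card, QuaternionGroup.card]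
  have hcardC : Nat.card ↥(center ↥F) = 2 := by
    rw [Nat.card_congr (Subgroup.centerCongr eF).toEquiv, quat_center_card]
  have hα : Nat.card {q : ↥F ⧸ center ↥F // q ≠ 1} = 3 := by
    classical
    haveI := Fintype.ofFinite (↥F ⧸ center ↥F)
    have h1 := card_eq_card_quotient_mul_card_subgroup (center ↥F)
    rw [hcardQ, hcardC, Nat.card_eq_fintype_card] at h1
    rw [Nat.card_eq_fintype_card, Fintype.card_subtype_compl, Fintype.card_subtype_eq]
    omega
  have hker : IsPGroup 2 ↥ψ.ker := by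
    refine LocalStr.isPGroup_of_forall_coprime fun x hx hxc => ?_
    have hxo : Odd (orderOf x) := Nat.coprime_two_right.mp hxc
    refine hfix x hxo (hCF fun f hf => ?_)
    set τ := F.normalizerMonoidHom (j x) with hτ
    have hτm : τ ^ orderOf x = 1 := by
      rw [hτ, ← map_pow, ← map_pow, pow_orderOf_eq_one, map_one, map_one]
    have hmem := (TwoFusion.LocalAut.quotPerm_eq_one_iff F (j x)).mp (MonoidHom.mem_ker.mp hx) ⟨f, hf⟩
    rw [← hτ] at hmem
    have hcen : ∀ w ∈ center ↥F, τ w = w := by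
      intro w hw
      by_cases hw1 : w = 1
      · rw [hw1, map_one]
      have hzc' : (⟨zT, hzF⟩ : ↥F) ∈ center ↥F := mem_center_iff.mpr fun q =>
        Subtype.ext (mul_inv_eq_iff_eq_mul.mp (hzconj q))
      have hw2 : w * w = 1 := by
        have h1 : (⟨w, hw⟩ : ↥(center ↥F)) ^ 2 = 1 := hcardC ▸ pow_card_eq_one'
        rw [← sq]
        exact congrArg Subtype.val h1
      rw [huniq w hw2 hw1]
      exact Subtype.ext (hzconj x)
    have h1 := Transfer.fix_of_mul_fixed τ hτm (mul_inv_cancel_left (⟨f, hf⟩ : ↥F) _).symm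
      (hcen _ hmem) (by
        obtain ⟨s, hs⟩ := IsPGroup.iff_orderOf.mp hF2 ((⟨f, hf⟩ : ↥F)⁻¹ * τ ⟨f, hf⟩)
        rw [hs]
        exact Nat.Coprime.pow_left _ (Nat.coprime_two_left.mpr hxo))
    exact (mul_inv_eq_iff_eq_mul.mp (congrArg Subtype.val h1)).symm
  have hkerF : ψ.ker ≤ F :=
    Solvable.le_fittingSubgroup inferInstance hker.isNilpotent
  have h48 : Nat.card G ∣ 48 := by
    rw [← card_mul_index ψ.ker, index_ker]
    exact (Nat.mul_dvd_mul (hcardQ ▸ card_dvd_of_le hkerF)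
      (TwoFusion.LocalAut.card_range_dvd_six ψ hα))
  have hidx : M.index ∣ 2 := by
    rw [← card_mul_index M, hM] at h48
    exact Nat.dvd_of_mul_dvd_mul_left (by norm_num : 0 < 24) h48
  rcases (Nat.dvd_prime Nat.prime_two).mp hidx with h | h
  · rw [index_eq_one.mp h]; infer_instance
  · exact normal_of_index_eq_two h

end Cfsg.Agent.S2879
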