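import Cfsg.Statements.S2880
import Cfsg.Agent.Lib.KSteps.Extraspecial
import Cfsg.Agent.Lib.Extraspecial.Card
import Mathlib.Tactic.Group
import Mathlib.Tactic.Ring
import Mathlib.Tactic.NormNum
-- import your own Cfsg.Agent.* helpers here

set_option autoImplicit false
open Cfsg

set_option autoImplicit false
set_option linter.style.haveILetI false

namespace Cfsg.Agent.S2880
open Subgroup CfsgLib
open scoped commutatorElement

variable {E : Type*} [Group E]

theorem commutator_inv_mul_right {A : Subgroup E} [IsMulCommutative ↥A] {x a b : E} (ha : a ∈ A)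
    (hb : b ∈ A) (hc : ⁅x⁻¹, a⁆ ∈ center E) : ⁅(x * b)⁻¹, a⁆ = ⁅x⁻¹, a⁆ := by
  have hab : a * b = b * a := congrArg Subtype.val (mul_comm' (⟨a, ha⟩ : A) ⟨b, hb⟩)
  calc ⁅(x * b)⁻¹, a⁆ = b⁻¹ * ⁅x⁻¹, a⁆ * (a * b) * a⁻¹ := by
        simp only [commutatorElement_def]; group
    _ = ⁅x⁻¹, a⁆ * b⁻¹ * (a * b) * a⁻¹ := by rw [(mem_center_iff.mp hc b⁻¹)]
    _ = ⁅x⁻¹, a⁆ := by rw [hab]; group


/-- Let E be an extraspecial 2-group of order 2^(2m+1) of plus type, that is, containing an elementary abelian subgroup of order 2^(m+1) (equivalently, a central product of m dihedral groups of order 8). Then E has exactly 2^(2m) − 2^m elements of order 4. -/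
theorem result {E : Type*} [Group E] [Finite E] (m : ℕ) (hm : 1 ≤ m) (hE : Cfsg.IsExtraspecial 2 E) (hcard : Nat.card E = 2 ^ (2 * m + 1)) (hplus : ∃ A : Subgroup E, Cfsg.IsElementaryAbelian 2 A ∧ Nat.card A = 2 ^ (m + 1)) : Nat.card {x : E // orderOf x = 4} = 2 ^ (2 * m) - 2 ^ m := by
  haveI : Fact (Nat.Prime 2) := ⟨Nat.prime_two⟩
  obtain ⟨A, hA, hAc⟩ := hplus
  obtain ⟨hZ, hcomm⟩ := KSteps.extraspecial_data hE
  have hcl : commutator E ≤ center E := hcomm.le
  -- the centre lies in `A`, and `A` is self-centralising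
  have hKA : ∀ K : Subgroup E, IsMulCommutative ↥K → center E ≤ K →
      Nat.card ↥K ^ 2 ≤ 2 * Nat.card E := fun K hK hle => by
    rw [sq, ← KSteps.centralizer_mul_card hZ hcl hle]
    exact Nat.mul_le_mul_right _ (card_le_of_le fun k hk k' hk' =>
      congrArg Subtype.val (hK.is_comm.comm (⟨k', hk'⟩ : K) ⟨k, hk⟩))
  haveI := hA.1
  have hZA : center E ≤ A := by
    set K := A ⊔ center E with hK
    have hKc : IsMulCommutative ↥K := by
      have h1 : K ≤ centralizer (A : Set E) :=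
        sup_le (fun a ha a' ha' => congrArg Subtype.val (mul_comm' (⟨a', ha'⟩ : A) ⟨a, ha⟩))
          (center_le_centralizer _)
      have h2 : K ≤ centralizer (K : Set E) := by
        refine le_centralizer_iff.mp ?_
        exact sup_le (le_centralizer_iff.mp h1) (center_le_centralizer _)
      exact ⟨⟨fun a b => Subtype.ext (h2 b.2 a a.2)⟩⟩
    have h := hKA K hKc le_sup_right
    rw [hcard, ← pow_succ', show 2 * m + 1 + 1 = (m + 1) * 2 by ring, pow_mul] at h
    have h' : Nat.card ↥K ≤ 2 ^ (m + 1) := (Nat.pow_le_pow_iff_left two_ne_zero).mp h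
    have hAK : A = K := eq_of_le_of_card_ge le_sup_left (h'.trans hAc.ge)
    exact hAK ▸ le_sup_right
  have hCA : centralizer (A : Set E) = A := by
    refine (eq_of_le_of_card_ge (H := A) (K := centralizer (A : Set E)) (fun a ha a' ha' =>
      congrArg Subtype.val (mul_comm' (⟨a', ha'⟩ : A) ⟨a, ha⟩)) ?_).symm
    refine le_of_eq (Nat.eq_of_mul_eq_mul_right (Nat.card_pos (α := ↥A)) ?_)
    rw [KSteps.centralizer_mul_card hZ hcl hZA, hAc, hcard, ← pow_add, ← pow_succ']
    congr 1; ring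
  have hsq : ∀ x : E, x ^ 2 ∈ center E := Extraspecial.pow_mem_center hE
  have hfour : ∀ x : E, x ^ 4 = 1 := fun x => by
    simpa using Extraspecial.pow_sq_eq_one hE x
  -- flipping within each coset of `A`
  have hflip : ∀ q : E ⧸ A, ∃ a ∈ A, ∀ x : E, x ∉ A → (x : E ⧸ A) = q →
      ((x * a) ^ 2 = 1 ↔ x ^ 2 ≠ 1) := by
    intro q
    by_cases hq : q.out ∈ A
    · refine ⟨1, one_mem _, fun x hx hxq => absurd ?_ hx⟩
      rw [← QuotientGroup.out_eq' q, QuotientGroup.eq] at hxq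
      simpa using A.mul_mem_cancel_right hq |>.mp hxq
    obtain ⟨a, ha, hane⟩ : ∃ a ∈ A, ⁅q.out⁻¹, a⁆ ≠ 1 := by
      by_contra h
      push Not at h
      exact hq (inv_mem_iff.mp (hCA.le fun a ha =>
        (commutatorElement_eq_one_iff_mul_comm.mp (h a ha)).symm))
    refine ⟨a, ha, fun x hx hxq => ?_⟩
    rw [← QuotientGroup.out_eq' q, QuotientGroup.eq] at hxq
    have hc : ⁅x⁻¹, a⁆ ∈ center E := KSteps.comm_mem_center hcl _ _
    have hne : ⁅x⁻¹, a⁆ ≠ 1 := by
      rw [← commutator_inv_mul_right ha hxq hc, mul_inv_cancel_left]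
      exact hane
    have ha2 : a⁻¹ = a := inv_eq_of_mul_eq_one_right (by rw [← sq]; exact hA.2 a ha)
    have hxa : (x * a) ^ 2 = x ^ 2 * ⁅x⁻¹, a⁆ := by
      rw [sq, sq, commutatorElement_def, ha2]; group
    rw [hxa]
    refine ⟨fun h1 h2 => hne (by rwa [h2, one_mul] at h1), fun h1 => ?_⟩
    rcases KSteps.eq_one_or_eq_of_card_two hZ hc (hsq x) h1 with h | h
    · exact absurd h hne
    · rw [h]; exact KSteps.mul_self_eq_one_of_card_two hZ (hsq x)
  choose a haA ha using hflip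
  have hcoset : ∀ x : E, ((x * a x : E) : E ⧸ A) = x := fun x =>
    (QuotientGroup.eq.mpr (by simpa using haA x)).symm
  have hinv : ∀ x : E, x * a x * a ((x * a x : E) : E ⧸ A) = x := fun x => by
    rw [hcoset, mul_assoc, ← sq, hA.2 _ (haA _), mul_one]
  have e : {x : E // x ∉ A ∧ x ^ 2 = 1} ≃ {x : E // x ∉ A ∧ x ^ 2 ≠ 1} :=
    { toFun := fun x => ⟨x * a x, fun h => x.2.1 ((A.mul_mem_cancel_right (haA _)).mp h),
        fun h => (ha _ _ x.2.1 rfl).mp h x.2.2⟩
      invFun := fun x => ⟨x * a x, fun h => x.2.1 ((A.mul_mem_cancel_right (haA _)).mp h),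
        (ha _ _ x.2.1 rfl).mpr x.2.2⟩
      left_inv := fun x => Subtype.ext (hinv x)
      right_inv := fun x => Subtype.ext (hinv x) }
  have h4 : ∀ x : E, orderOf x = 4 ↔ (x ∉ A ∧ x ^ 2 ≠ 1) := by
    intro x
    refine ⟨fun h => ?_, fun h => ?_⟩
    · have : x ^ 2 ≠ 1 := fun h2 => by
        have h3 := orderOf_dvd_of_pow_eq_one h2
        rw [h] at h3; norm_num at h3
      exact ⟨fun hxA => this (hA.2 x hxA), this⟩
    · exact orderOf_eq_prime_pow (p := 2) (n := 1) (by simpa using h.2) (hfour x)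
  classical
  haveI := Fintype.ofFinite E
  rw [Nat.card_congr (Equiv.subtypeEquivRight h4)]
  have h1 := Nat.card_congr (Equiv.sumCompl fun x : E => x ∈ A)
  rw [Nat.card_sum] at h1
  have h2 : Nat.card {x : E // x ∉ A} =
      Nat.card {x : E // x ∉ A ∧ x ^ 2 = 1} + Nat.card {x : E // x ∉ A ∧ x ^ 2 ≠ 1} := by
    rw [← Nat.card_sum]
    exact Nat.card_congr (((Equiv.sumCompl fun y : {x : E // x ∉ A} => (y : E) ^ 2 = 1)).symm.trans
      (Equiv.sumCongr (Equiv.subtypeSubtypeEquivSubtypeInter _ (fun x : E => x ^ 2 = 1))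
        (Equiv.subtypeSubtypeEquivSubtypeInter _ (fun x : E => x ^ 2 ≠ 1))))
  rw [Nat.card_congr e] at h2
  change Nat.card ↥A + _ = _ at h1
  rw [h2, hAc, hcard, show 2 ^ (2 * m + 1) = 2 * 2 ^ (2 * m) from pow_succ' _ _,
    show 2 ^ (m + 1) = 2 * 2 ^ m from pow_succ' _ _] at h1
  omega

end Cfsg.Agent.S2880
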