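import Cfsg.Statements.S2881
import Cfsg.Agent.Lib.CharP.Basic
import Mathlib.GroupTheory.Perm.Cycle.Type
import Mathlib.Data.Nat.ModEq
import Mathlib.Tactic.Group
import Mathlib.Tactic.Ring
import Mathlib.Algebra.BigOperators.Ring.Finset

set_option autoImplicit false
open Cfsg CfsgLib.CharP

namespace Cfsg.Agent.S2881

open Finset in
/-- Half-splitting: an involutive-free map exchanging two parts of a finite type. -/
theorem two_mul_card_filter {α : Type*} [Fintype α] (q : α → Prop) [DecidablePred q] (f : α → α)
    (hf : Function.Injective f) (h : ∀ a, q (f a) ↔ ¬ q a) :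
    2 * (univ.filter q).card = Fintype.card α := by
  have h1 : (univ.filter q).card ≤ (univ.filter fun a => ¬ q a).card :=
    card_le_card_of_injOn f (fun a ha => by simp_all) hf.injOn
  have h2 : (univ.filter fun a => ¬ q a).card ≤ (univ.filter q).card :=
    card_le_card_of_injOn f (fun a ha => by simp_all) hf.injOn
  have h3 := card_filter_add_card_filter_not (s := (univ : Finset α)) q
  rw [card_univ] at h3
  omega

theorem two_pow_mod_five (k : ℕ) : 2 ^ k % 5 = 2 ^ (k % 4) % 5 := by
  conv_lhs => rw [← Nat.div_add_mod k 4, pow_add, pow_mul]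
  norm_num [Nat.mul_mod, Nat.pow_mod]

open Finset in
theorem result {E : Type*} [Group E] [Finite E] (m : ℕ) (hm : 1 ≤ m) (hE : Cfsg.IsExtraspecial 2 E) (hcard : Nat.card E = 2 ^ (2 * m + 1)) (hplus : ∃ A : Subgroup E, Cfsg.IsElementaryAbelian 2 A ∧ Nat.card A = 2 ^ (m + 1)) (ω : E ≃* E) (hω : orderOf ω = 5) (hfix : ∀ x : E, ω x = x ↔ x ∈ Subgroup.center E) : 4 ∣ m := by
  classical
  haveI : Fintype E := Fintype.ofFinite E
  obtain ⟨⟨-, -, hder⟩, hZ⟩ := hE
  obtain ⟨A₀, ⟨hA₀c, hA₀e⟩, hA₀card⟩ := hplus
  obtain ⟨z, hzZ, hzo⟩ : ∃ z ∈ Subgroup.center E, orderOf z = 2 :=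
    exists_orderOf_eq_prime (Subgroup.center E) (IsPGroup.of_card (n := 1) (by rw [hZ, pow_one]))
      (fun h => by rw [h] at hZ; simp at hZ)
  have hz1 : z ≠ 1 := fun h => by rw [h, orderOf_one] at hzo; omega
  have hzz : z * z = 1 := by rw [← pow_two, ← hzo]; exact pow_orderOf_eq_one z
  have hz : ∀ c ∈ Subgroup.center E, c = 1 ∨ c = z := by
    intro c hc
    have : Subgroup.zpowers z = Subgroup.center E :=
      Subgroup.eq_of_le_of_card_ge (Subgroup.zpowers_le.mpr hzZ) (by rw [Nat.card_zpowers, hzo, hZ])
    rw [← this, Subgroup.mem_zpowers_iff] at hc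
    obtain ⟨k, rfl⟩ := hc
    rcases Int.even_or_odd k with ⟨j, rfl⟩ | ⟨j, rfl⟩
    · left; rw [zpow_add, ← (Commute.refl z).mul_zpow, hzz, one_zpow]
    · right; rw [two_mul, zpow_add, zpow_add, ← (Commute.refl z).mul_zpow, hzz, one_zpow, one_mul, zpow_one]
  have hzc : ∀ e : E, e * z = z * e := fun e => Subgroup.mem_center_iff.mp hzZ e
  have hconj : ∀ a b : E, a * b = b * a ∨ a * b = z * (b * a) := by
    intro a b
    have hcm : a * b * a⁻¹ * b⁻¹ ∈ Subgroup.center E := by
      rw [← hder]
      exact Subgroup.commutator_mem_commutator (Subgroup.mem_top a) (Subgroup.mem_top b)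
    rcases hz _ hcm with h | h
    · left; calc a * b = (a * b * a⁻¹ * b⁻¹) * (b * a) := by group
        _ = b * a := by rw [h, one_mul]
    · right; calc a * b = (a * b * a⁻¹ * b⁻¹) * (b * a) := by group
        _ = z * (b * a) := by rw [h]
  have hzne : ∀ c : E, z * c ≠ c := fun c h => hz1 (by simpa using h)
  -- multiplying by an element not commuting with `e` flips commutation with `e`
  have flip : ∀ e u v : E, u * e ≠ e * u → ((v * u) * e = e * (v * u) ↔ ¬ v * e = e * v) := by
    intro e u v hu
    have hu' : u * e = z * (e * u) := (hconj u e).resolve_left hu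
    have hswap : ∀ a b : E, a * (z * b) = z * (a * b) := fun a b => by
      rw [← mul_assoc, hzc, mul_assoc]
    rcases hconj v e with hv | hv
    · refine iff_of_false ?_ (not_not.mpr hv)
      rw [mul_assoc, hu', hswap, ← mul_assoc v e u, hv, mul_assoc]
      exact hzne _
    · refine iff_of_true ?_ (fun h => hzne (e * v) (hv.symm.trans h))
      rw [mul_assoc, hu', hswap, ← mul_assoc v e u, hv, mul_assoc z (e * v) u, ← mul_assoc z z,
        hzz, one_mul, mul_assoc]
  have hsq : ∀ x : E, x * x = 1 ∨ x * x = z := by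
    intro x
    refine hz _ (Subgroup.mem_center_iff.mpr fun y => ?_)
    rcases hconj x y with h | h
    · calc y * (x * x) = (y * x) * x := by group
        _ = (x * y) * x := by rw [h]
        _ = x * (y * x) := by group
        _ = x * (x * y) := by rw [h]
        _ = x * x * y := by group
    · symm
      calc x * x * y = x * (x * y) := by group
        _ = x * (z * (y * x)) := by rw [h]
        _ = (x * z) * (y * x) := by group
        _ = z * (x * y) * x := by rw [hzc]; group
        _ = z * (z * (y * x)) * x := by rw [h]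
        _ = (z * z) * (y * (x * x)) := by group
        _ = y * (x * x) := by rw [hzz, one_mul]
  -- the subgroup `B`
  set B : Subgroup E := A₀ ⊔ Subgroup.zpowers z with hB
  have hBprop : ∀ b ∈ B, b * b = 1 ∧ ∀ a ∈ A₀, a * b = b * a := by
    intro b hb
    rw [hB, Subgroup.sup_eq_closure] at hb
    induction hb using Subgroup.closure_induction with
    | mem y hy =>
      rcases hy with hy | hy
      · refine ⟨by rw [← pow_two]; exact hA₀e y hy, fun a ha => ?_⟩
        exact congrArg Subtype.val (hA₀c.is_comm.comm ⟨a, ha⟩ ⟨y, hy⟩)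
      · have hy' : y ∈ Subgroup.center E := (Subgroup.zpowers_le.mpr hzZ) hy
        refine ⟨?_, fun a _ => Subgroup.mem_center_iff.mp hy' a⟩
        rcases hz y hy' with rfl | rfl
        · exact one_mul 1
        · exact hzz
    | one => exact ⟨one_mul 1, fun a _ => by simp⟩
    | mul u v hu hv ihu ihv =>
      refine ⟨?_, fun a ha => by rw [← mul_assoc, ihu.2 a ha, mul_assoc, ihv.2 a ha, mul_assoc]⟩
      rw [← Subgroup.sup_eq_closure] at hu
      have huv : u * v = v * u := by
        refine Subgroup.mem_centralizer_singleton_iff.mp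
          ((sup_le (fun a ha => Subgroup.mem_centralizer_singleton_iff.mpr (ihv.2 a ha))
            (Subgroup.zpowers_le.mpr (Subgroup.mem_centralizer_singleton_iff.mpr (hzc v).symm))) hu)
      calc u * v * (u * v) = u * (v * u) * v := by group
        _ = u * (u * v) * v := by rw [huv]
        _ = (u * u) * (v * v) := by group
        _ = 1 := by rw [ihu.1, ihv.1, one_mul]
    | inv u _ ihu =>
      have : u⁻¹ = u := inv_eq_of_mul_eq_one_right ihu.1
      rw [this]; exact ihu
  have hBc : ∀ a ∈ B, ∀ b ∈ B, a * b = b * a := fun a ha b hb =>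
    Subgroup.mem_centralizer_singleton_iff.mp
      ((sup_le (fun x hx => Subgroup.mem_centralizer_singleton_iff.mpr ((hBprop b hb).2 x hx))
        (Subgroup.zpowers_le.mpr (Subgroup.mem_centralizer_singleton_iff.mpr (hzc b).symm))) ha)
  have hzB : z ∈ B := Subgroup.mem_sup_right (Subgroup.mem_zpowers z)
  -- double counting commuting pairs
  set C : Finset E := univ.filter fun e => ∀ b ∈ B, b * e = e * b with hC
  set Z2 : Finset B := univ.filter fun b : B => ∀ e : E, e * b = b * e with hZ2
  have hZ2c : Z2.card = 2 := by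
    have : Z2 = {(⟨1, B.one_mem⟩ : B), ⟨z, hzB⟩} := by
      ext b
      simp only [hZ2, mem_filter, mem_univ, true_and, mem_insert, mem_singleton]
      constructor
      · intro h
        rcases hz b (Subgroup.mem_center_iff.mpr h) with h' | h'
        · exact Or.inl (Subtype.ext h')
        · exact Or.inr (Subtype.ext h')
      · rintro (rfl | rfl)
        · intro e; simp
        · exact hzc
    rw [this, card_pair]
    exact fun h => hz1 (congrArg Subtype.val h).symm
  have hdc : 2 * ∑ b : B, (univ.filter fun e : E => (b : E) * e = e * b).card =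
      2 * ∑ e : E, (univ.filter fun b : B => (b : E) * e = e * b).card := by
    simp only [card_filter]
    rw [sum_comm]
  rw [mul_sum, mul_sum] at hdc
  have hl : ∀ b : B, 2 * (univ.filter fun e : E => (b : E) * e = e * b).card =
      Fintype.card E + if b ∈ Z2 then Fintype.card E else 0 := by
    intro b
    by_cases hb : b ∈ Z2
    · rw [if_pos hb, filter_true_of_mem (fun e _ => ?_), card_univ, two_mul]
      exact ((mem_filter.mp hb).2 e).symm
    · rw [if_neg hb, add_zero]
      obtain ⟨u, hu⟩ : ∃ u : E, u * b ≠ b * u := by simpa [hZ2] using hb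
      refine two_mul_card_filter _ (fun e => e * u) (mul_left_injective u) fun e => ?_
      rw [eq_comm, flip (b : E) u e hu, eq_comm]
  have hr : ∀ e : E, 2 * (univ.filter fun b : B => (b : E) * e = e * b).card =
      Fintype.card B + if e ∈ C then Fintype.card B else 0 := by
    intro e
    by_cases he : e ∈ C
    · rw [if_pos he, filter_true_of_mem (fun b _ => ?_), card_univ, two_mul]
      exact (mem_filter.mp he).2 b b.2
    · rw [if_neg he, add_zero]
      obtain ⟨u, huB, hu⟩ : ∃ u ∈ B, u * e ≠ e * u := by simpa [hC] using he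
      refine two_mul_card_filter _ (fun b => b * ⟨u, huB⟩) (mul_left_injective _) fun b => ?_
      exact flip e u (b : E) hu
  simp only [hl, hr, sum_add_distrib, sum_const, card_univ, smul_eq_mul, sum_ite_mem, univ_inter,
    hZ2c] at hdc
  have hEc : Fintype.card E = 2 ^ (2 * m + 1) := by rw [← Nat.card_eq_fintype_card, hcard]
  have hBge : 2 ^ (m + 1) ≤ Fintype.card B := by
    rw [← hA₀card, ← Nat.card_eq_fintype_card]
    exact Subgroup.card_le_of_le le_sup_left
  have hBC : (univ.filter fun e : E => e ∈ B) ⊆ C := by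
    intro e he
    simp only [mem_filter, mem_univ, true_and] at he
    simp only [hC, mem_filter, mem_univ, true_and]
    exact fun b hb => hBc b hb e he
  have hBcard : (univ.filter fun e : E => e ∈ B).card = Fintype.card B := (Fintype.card_subtype _).symm
  have hBC' := card_le_card hBC
  rw [hBcard] at hBC'
  have hpow : 2 ^ (m + 1) * 2 ^ (m + 1) = 2 * 2 ^ (2 * m + 1) := by
    rw [← pow_add, ← pow_succ']; congr 1; omega
  have hprod : Fintype.card B * C.card = 2 ^ (m + 1) * 2 ^ (m + 1) := by
    rw [hpow, ← hEc]; linarith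
  have hB2 : Fintype.card B = 2 ^ (m + 1) := by
    nlinarith [Nat.mul_le_mul_left (Fintype.card B) hBC', Nat.mul_le_mul hBge hBge]
  have hC2 : C.card = 2 ^ (m + 1) := by
    rw [hB2] at hprod; exact Nat.eq_of_mul_eq_mul_left (by positivity) hprod
  have hCB : (univ.filter fun e : E => e ∈ B) = C := eq_of_subset_of_card_le hBC (by rw [hBcard]; omega)
  -- count the solutions of `x * x = 1`
  set T : Finset E := univ.filter fun x : E => x * x = 1 with hT
  have hswap : ∑ e : E, (univ.filter fun b : B => (e * b) * (e * b) = 1).card =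
      ∑ _b : B, T.card := by
    simp only [card_filter]
    rw [sum_comm]
    refine sum_congr rfl fun b _ => ?_
    rw [hT, card_filter]
    exact Equiv.sum_comp (Equiv.mulRight (b : E)) (fun x : E => if x * x = 1 then 1 else 0)
  have ht : ∀ e : E, 2 * (univ.filter fun b : B => (e * b) * (e * b) = 1).card =
      Fintype.card B + if e ∈ C then Fintype.card B else 0 := by
    intro e
    by_cases he : e ∈ C
    · rw [if_pos he, filter_true_of_mem (fun b _ => ?_), card_univ, two_mul]
      have heB : e ∈ B := by
        rw [← hCB] at he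
        simpa using he
      exact (hBprop _ (B.mul_mem heB b.2)).1
    · rw [if_neg he, add_zero]
      obtain ⟨u, huB, hu⟩ : ∃ u ∈ B, u * e ≠ e * u := by simpa [hC] using he
      refine two_mul_card_filter _ (fun b => b * ⟨u, huB⟩) (mul_left_injective _) fun b => ?_
      have hu' : u * e = z * (e * u) := (hconj u e).resolve_left hu
      have key : (e * (b * u)) * (e * (b * u)) = z * ((e * b) * (e * b)) := by
        have h1 : (b : E) * u = u * b := hBc b b.2 u huB
        calc (e * (b * u)) * (e * (b * u)) = e * (b : E) * (u * e) * (b * u) := by group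
          _ = e * (b : E) * (z * (e * u)) * (u * b) := by rw [hu', h1]
          _ = (e * b * z) * e * (u * u) * b := by group
          _ = z * ((e * b) * (e * b)) := by rw [hzc, (hBprop u huB).1]; group
      show (e * (b * u)) * (e * (b * u)) = 1 ↔ _
      rw [key]
      rcases hsq (e * b) with h | h
      · simp [h, hz1]
      · simp [h, hzz, hz1]
  have hTcount : 2 * (Fintype.card B * T.card) = Fintype.card E * Fintype.card B + C.card * Fintype.card B := by
    have := congrArg (fun k => 2 * k) hswap
    simp only [mul_sum] at this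
    rw [sum_congr rfl (fun e _ => ht e)] at this
    simp only [sum_add_distrib, sum_const, card_univ, smul_eq_mul, sum_ite_mem, univ_inter] at this
    rw [this]
    ring
  have hTc : T.card = 2 ^ (2 * m) + 2 ^ m := by
    rw [hB2, hC2, hEc] at hTcount
    have e : 2 * (2 ^ (m + 1) * T.card) = 2 * (2 ^ (m + 1) * (2 ^ (2 * m) + 2 ^ m)) := by
      rw [hTcount]; ring
    exact Nat.eq_of_mul_eq_mul_left (by positivity) (Nat.eq_of_mul_eq_mul_left two_pos e)
  -- the automorphism permutes `T`
  have hwT : ∀ t : {x : E // x * x = 1}, ω t * ω t = 1 := fun t => by rw [← map_mul, t.2, map_one]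
  let f : Function.End {x : E // x * x = 1} := fun t => ⟨ω t, hwT t⟩
  have hfk : ∀ k : ℕ, ∀ t : {x : E // x * x = 1}, ((f ^ k : Function.End _) t : E) = (ω ^ k) t := by
    intro k
    induction k with
    | zero => intro t; rfl
    | succ k ih =>
      intro t
      rw [pow_succ', pow_succ']
      show ω ((f ^ k : Function.End _) t : E) = ω ((ω ^ k) t)
      rw [ih]
  have hf5 : f ^ 5 ^ 1 = 1 := by
    funext t
    apply Subtype.ext
    rw [hfk, pow_one, ← hω, pow_orderOf_eq_one]
    rfl
  haveI : Fact (Nat.Prime 5) := ⟨Nat.prime_five⟩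
  have hmod := Equiv.Perm.card_fixedPoints_modEq hf5
  have hfp : Fintype.card (Function.fixedPoints f) = 2 := by
    rw [← Nat.card_eq_fintype_card, Nat.card_eq_two_iff]
    refine ⟨⟨⟨1, one_mul 1⟩, Subtype.ext (map_one ω)⟩, ⟨⟨z, hzz⟩, Subtype.ext ((hfix z).mpr hzZ)⟩,
      fun h => hz1 (congrArg (fun t => t.1.1) h).symm, ?_⟩
    refine Set.eq_univ_iff_forall.mpr fun t => ?_
    rcases hz t.1.1 ((hfix t.1.1).mp (congrArg Subtype.val t.2)) with h' | h'
    · exact Or.inl (Subtype.ext (Subtype.ext h'))
    · exact Or.inr (Subtype.ext (Subtype.ext h'))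
  rw [hfp, Fintype.card_subtype, ← hT, hTc] at hmod
  have h1 : (2 ^ (2 * m) % 5 + 2 ^ m % 5) % 5 = 2 := by rw [← Nat.add_mod]; exact hmod
  rw [two_pow_mod_five (2 * m), two_pow_mod_five m] at h1
  have h2 : 2 ^ (2 * m + 1) % 5 = 2 ^ ((2 * m + 1) % 4) % 5 := two_pow_mod_five _
  have hE5 : Fintype.card E % 5 = 2 := by
    let g : Function.End E := fun x => ω x
    have hgk : ∀ k : ℕ, ∀ t : E, (g ^ k : Function.End E) t = (ω ^ k) t := by
      intro k
      induction k with
      | zero => intro t; rfl
      | succ k ih =>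
        intro t
        rw [pow_succ', pow_succ', MulAut.mul_apply, ← ih]
        rfl
    have hg5 : g ^ 5 ^ 1 = 1 := by
      funext t
      rw [hgk, pow_one, ← hω, pow_orderOf_eq_one]
      rfl
    have hmod2 := Equiv.Perm.card_fixedPoints_modEq hg5
    have : Fintype.card (Function.fixedPoints g) = 2 := by
      rw [← hZ, Nat.card_eq_fintype_card]
      refine (Nat.card_eq_fintype_card (α := Function.fixedPoints g)).symm.trans ?_
      rw [← Nat.card_eq_fintype_card]
      exact Nat.card_congr (Equiv.subtypeEquivRight hfix)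
    rw [this] at hmod2
    exact hmod2
  rw [hEc, h2] at hE5
  have hcases : m % 4 = 0 ∨ m % 4 = 1 ∨ m % 4 = 2 ∨ m % 4 = 3 := by omega
  rcases hcases with h | h | h | h
  · omega
  · rw [show (2 * m + 1) % 4 = 3 by omega] at hE5; norm_num at hE5
  · rw [show (2 * m) % 4 = 0 by omega, h] at h1; norm_num at h1
  · rw [show (2 * m + 1) % 4 = 3 by omega] at hE5; norm_num at hE5

end Cfsg.Agent.S2881
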