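import Cfsg.Statements.S2882
import Cfsg.Agent.Lib.M24Stab.Octad
import Cfsg.Agent.Lib.SymTwo.SylowTwo

set_option autoImplicit false
open Cfsg CfsgLib
open scoped Pointwise

namespace Cfsg.Agent.S2882

open CfsgLib.M24Stab in
theorem result (S : Sylow 2 ↥Cfsg.M24) : Subgroup.normalizer ((S : Subgroup ↥Cfsg.M24) : Set ↥Cfsg.M24) = (S : Subgroup ↥Cfsg.M24) := by
  classical
  haveI : Fact (Nat.Prime 2) := ⟨Nat.prime_two⟩
  refine le_antisymm ?_ Subgroup.le_normalizer
  have hScard : Nat.card S = 1024 := by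
    rw [Sylow.card_eq_multiplicity, Golay.card_M24]
    have h : (244823040 : ℕ).factorization 2 = 10 := by
      rw [show (244823040 : ℕ) = 2 ^ 10 * 239085 by norm_num, Nat.factorization_mul (by norm_num) (by norm_num),
        Nat.factorization_pow]
      simp [Nat.prime_two.factorization_self,
        Nat.factorization_eq_zero_of_not_dvd (show ¬ 2 ∣ 239085 by norm_num)]
    rw [h]; norm_num
  -- an octad fixed by `S`
  obtain ⟨o, ho, hSo⟩ : ∃ o ∈ Cfsg.octads, ∀ s ∈ (S : Subgroup ↥M24),
      (s : Equiv.Perm GolayPt) • o = o := by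
    have ho0 := Golay.octad0_mem
    set H := setStab Golay.octad0
    obtain ⟨P⟩ : Nonempty (Sylow 2 ↥H) := inferInstance
    have hPc : Nat.card P = 1024 := by
      rw [Sylow.card_eq_multiplicity, card_setStab ho0]
      have h : (322560 : ℕ).factorization 2 = 10 := by
        rw [show (322560 : ℕ) = 2 ^ 10 * 315 by norm_num, Nat.factorization_mul (by norm_num) (by norm_num),
          Nat.factorization_pow]
        simp [Nat.prime_two.factorization_self,
          Nat.factorization_eq_zero_of_not_dvd (show ¬ 2 ∣ 315 by norm_num)]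
      rw [h]; norm_num
    have hHM : H ≤ M24 := fun g hg => (mem_setStab.1 hg).1
    set P1 := (P : Subgroup ↥H).map (Subgroup.inclusion hHM) with hP1
    have hP1c : Nat.card P1 = Nat.card S := by
      rw [hP1, Subgroup.card_map_of_injective (Subgroup.inclusion_injective hHM), hPc, hScard]
    obtain ⟨Q, hQ⟩ := (P.2.map (Subgroup.inclusion hHM)).exists_le_sylow
    obtain ⟨g, hg⟩ := MulAction.exists_smul_eq ↥M24 Q S
    refine ⟨(g : Equiv.Perm GolayPt) • Golay.octad0, M24Orbits.smul_mem_octads g ho0, fun s hs => ?_⟩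
    have hPQ : P1 = (Q : Subgroup ↥M24) := by
      refine SetLike.coe_injective (Set.eq_of_subset_of_ncard_le hQ ?_)
      rw [← Nat.card_coe_set_eq, ← Nat.card_coe_set_eq]
      show Nat.card ↥(Q : Subgroup ↥M24) ≤ Nat.card P1
      rw [hP1c]
      exact le_of_eq (Sylow.card_eq_multiplicity Q |>.trans (Sylow.card_eq_multiplicity S).symm)
    rw [← hg] at hs
    obtain ⟨q, hq, rfl⟩ := (show s ∈ (Q : Subgroup ↥M24).map (MulAut.conj g).toMonoidHom from hs)
    rw [← hPQ] at hq
    obtain ⟨h, -, rfl⟩ := hq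
    show ((g : Equiv.Perm GolayPt) * (h : Equiv.Perm GolayPt) * (g : Equiv.Perm GolayPt)⁻¹) • _ = _
    rw [mul_smul, inv_smul_smul, mul_smul, (mem_setStab.1 h.2).2]
  have hoc : o.card = 8 := (Golay.mem_octads.1 ho).2
  have hmem : ∀ s ∈ (S : Subgroup ↥M24), (s : Equiv.Perm GolayPt) ∈ setStab o := fun s hs =>
    mem_setStab.2 ⟨s.2, hSo s hs⟩
  set H := setStab o
  have hHM : H ≤ M24 := fun g hg => (mem_setStab.1 hg).1
  set S1 : Subgroup ↥H := (S : Subgroup ↥M24).comap (Subgroup.inclusion hHM) with hS1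
  have hS1c : Nat.card S1 = 1024 := by
    rw [← hScard]
    exact Nat.card_congr
      { toFun := fun x => ⟨Subgroup.inclusion hHM x.1, x.2⟩
        invFun := fun x => ⟨⟨(x.1 : Equiv.Perm GolayPt), hmem x.1 x.2⟩, x.2⟩
        left_inv := fun x => rfl
        right_inv := fun x => rfl }
  have hS1p : IsPGroup 2 S1 := IsPGroup.of_card (n := 10) (by rw [hS1c]; norm_num)
  -- the pointwise stabiliser lies in `S`
  set K := (onSet o).ker with hK
  have hKc : Nat.card K = 16 := by
    rw [← (Golay.octad_pointwise ho).1]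
    exact Nat.card_congr
      { toFun := fun x => ⟨(x : H), ker_onSet.1 x.2⟩
        invFun := fun x => ⟨⟨x, ptStab_le x.2⟩, ker_onSet.2 x.2⟩
        left_inv := fun x => rfl
        right_inv := fun x => rfl }
  have hKS : K ≤ S1 := by
    have hKp : IsPGroup 2 K := IsPGroup.of_card (n := 4) (by rw [hKc]; norm_num)
    have h2 : IsPGroup 2 ↥(S1 ⊔ K) := hS1p.to_sup_of_normal_right hKp
    obtain ⟨k, hk⟩ := IsPGroup.iff_card.mp h2
    have hdvd : Nat.card ↥(S1 ⊔ K) ∣ 322560 := by
      rw [← card_setStab ho]; exact Subgroup.card_subgroup_dvd_card _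
    rw [hk] at hdvd
    have hk10 : k ≤ 10 := by
      by_contra h
      exact absurd ((pow_dvd_pow 2 (Nat.lt_of_not_le h)).trans hdvd) (by norm_num)
    have heq : S1 = S1 ⊔ K := by
      refine SetLike.coe_injective (Set.eq_of_subset_of_ncard_le (fun z hz => Subgroup.mem_sup_left hz) ?_)
      rw [← Nat.card_coe_set_eq, ← Nat.card_coe_set_eq]
      show Nat.card ↥(S1 ⊔ K) ≤ Nat.card S1
      rw [hk, hS1c]
      exact (Nat.pow_le_pow_right (by norm_num) hk10).trans (by norm_num)
    exact heq ▸ le_sup_right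
  -- the image is a Sylow subgroup of the alternating group of `o`
  have hrange := range_onSet ho
  let f : ↥H →* ↥(alternatingGroup ↥o) :=
    (onSet o).codRestrict _ fun x => hrange ▸ ⟨x, rfl⟩
  have hf : Function.Surjective f := fun y => by
    obtain ⟨x, hx⟩ : (y : Equiv.Perm ↥o) ∈ (onSet o).range := hrange.symm ▸ y.2
    exact ⟨x, Subtype.ext hx⟩
  have hfker : f.ker = K := (MonoidHom.ker_codRestrict _ _ _).trans rfl
  set I := S1.map f with hI
  have hIc : Nat.card I = 64 := by
    have h1 := Subgroup.card_mul_index (K.subgroupOf S1)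
    have h2 : (K.subgroupOf S1).index = Nat.card I := by
      have h3 := Subgroup.index_ker (f.comp S1.subtype)
      rw [← MonoidHom.comap_ker, hfker] at h3
      rw [show K.subgroupOf S1 = K.comap S1.subtype from rfl, h3, MonoidHom.range_comp, Subgroup.range_subtype]
    rw [Nat.card_congr (Subgroup.subgroupOfEquivOfLe hKS).toEquiv, hKc, h2, hS1c] at h1
    omega
  have hAcard : Nat.card ↥(alternatingGroup ↥o) = 20160 := by
    haveI : Nontrivial ↥o := Fintype.one_lt_card_iff_nontrivial.mp (by rw [Fintype.card_coe, hoc]; norm_num)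
    rw [nat_card_alternatingGroup, Nat.card_eq_fintype_card, Fintype.card_coe, hoc]
    decide
  obtain ⟨PI, hPI⟩ : ∃ PI : Sylow 2 ↥(alternatingGroup ↥o), (PI : Subgroup _) = I := by
    refine ⟨Sylow.ofCard I ?_, rfl⟩
    rw [hIc, hAcard]
    have h : (20160 : ℕ).factorization 2 = 6 := by
      rw [show (20160 : ℕ) = 2 ^ 6 * 315 by norm_num, Nat.factorization_mul (by norm_num) (by norm_num),
        Nat.factorization_pow]
      simp [Nat.prime_two.factorization_self,
        Nat.factorization_eq_zero_of_not_dvd (show ¬ 2 ∣ 315 by norm_num)]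
    rw [h]; norm_num
  -- `S` is transitive on `o`
  have htrans : ∀ a b : ↥o, ∃ s ∈ S1, ((s : H) : Equiv.Perm GolayPt) a = b := by
    intro a b
    haveI : MulAction.IsPretransitive ↥(alternatingGroup ↥o) ↥o :=
      alternatingGroup.isPretransitive_of_three_le_card _ (by
        rw [Nat.card_eq_fintype_card, Fintype.card_coe, hoc]; norm_num)
    have hst : Nat.card ↥(MulAction.stabilizer ↥(alternatingGroup ↥o) a) = 2520 := by
      have h := Subgroup.card_mul_index (MulAction.stabilizer ↥(alternatingGroup ↥o) a)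
      rw [MulAction.index_stabilizer_of_transitive _ a, Nat.card_eq_fintype_card (α := ↥o), Fintype.card_coe,
        hoc, hAcard] at h
      omega
    have hd1 : Nat.card ↥(MulAction.stabilizer ↥I a) ∣ 64 := hIc ▸ Subgroup.card_subgroup_dvd_card _
    have hd2 : Nat.card ↥(MulAction.stabilizer ↥I a) ∣ 2520 := by
      rw [← hst]
      exact Subgroup.card_dvd_of_injective
        (((I.subtype).comp (MulAction.stabilizer ↥I a).subtype).codRestrict _ fun x => x.2)
        (fun x y h => Subtype.ext (Subtype.ext ((congrArg Subtype.val h :) : _)))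
    have hd : Nat.card ↥(MulAction.stabilizer ↥I a) ∣ 8 := Nat.dvd_gcd hd1 hd2
    have horb : MulAction.orbit ↥I a = Set.univ := by
      refine Set.eq_univ_of_forall fun x => ?_
      have h := Subgroup.card_mul_index (MulAction.stabilizer ↥I a)
      rw [MulAction.index_stabilizer, hIc] at h
      have h8 : (MulAction.orbit ↥I a).ncard ≤ 8 :=
        (Set.ncard_le_ncard (Set.subset_univ _) Set.finite_univ).trans_eq (by
          rw [Set.ncard_univ, Nat.card_eq_fintype_card, Fintype.card_coe, hoc])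
      have hle := Nat.le_of_dvd (by norm_num) hd
      have hge : 8 ≤ (MulAction.orbit ↥I a).ncard := by nlinarith
      have huniv : MulAction.orbit ↥I a = Set.univ := by
        refine Set.eq_of_subset_of_ncard_le (Set.subset_univ _) ?_ Set.finite_univ
        rw [Set.ncard_univ, Nat.card_eq_fintype_card, Fintype.card_coe, hoc]
        exact hge
      rw [huniv]; trivial
    obtain ⟨⟨i, hi⟩, hib⟩ := (Set.eq_univ_iff_forall.mp horb b)
    obtain ⟨s, hs, rfl⟩ := hi
    exact ⟨s, hs, congrArg Subtype.val hib⟩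
  -- the normaliser fixes `o`
  intro x hx
  have hxo : (x : Equiv.Perm GolayPt) • o = o := by
    set o' := (x : Equiv.Perm GolayPt) • o with ho'
    have hinv : ∀ s ∈ S1, ∀ y, y ∈ o' → ((s : H) : Equiv.Perm GolayPt) y ∈ o' := by
      intro s hs y hy
      have hc : x⁻¹ * Subgroup.inclusion hHM s * x ∈ (S : Subgroup ↥M24) := by
        simpa using (Subgroup.mem_normalizer_iff.mp (inv_mem hx) (Subgroup.inclusion hHM s)).mp hs
      have h := hSo _ hc
      have h2 : ((s : H) : Equiv.Perm GolayPt) • o' = o' := by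
        rw [ho', ← mul_smul, show ((s : H) : Equiv.Perm GolayPt) * (x : Equiv.Perm GolayPt) =
          (x : Equiv.Perm GolayPt) * ((x⁻¹ * Subgroup.inclusion hHM s * x : ↥M24) : Equiv.Perm GolayPt) by
            simp [mul_assoc], mul_smul, h]
      rw [← h2]
      exact Finset.smul_mem_smul_finset hy
    have ho'8 : o'.card = 8 := by rw [ho', Finset.card_smul_finset, hoc]
    refine (Finset.eq_of_subset_of_card_le ?_ (by rw [hoc, ho'8])).symm
    by_contra hsub
    obtain ⟨a, hao, hao'⟩ := Finset.not_subset.mp hsub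
    -- no point of `o` is in `o'`
    have hdis : ∀ y ∈ o', y ∉ o := by
      intro y hy hyo
      obtain ⟨s, hs, hsy⟩ := htrans ⟨y, hyo⟩ ⟨a, hao⟩
      have h := hinv s hs y hy
      rw [show ((s : H) : Equiv.Perm GolayPt) y = a from hsy] at h
      exact hao' h
    obtain ⟨y, hy⟩ := Finset.card_pos.mp (by rw [ho'8]; norm_num : 0 < o'.card)
    obtain ⟨hreg, -⟩ := regular ho (hdis y hy)
    have hall : Finset.univ \ o ⊆ o' := by
      intro q hq
      obtain ⟨g, hg, hgq⟩ := hreg q (Finset.mem_sdiff.mp hq).2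
      rw [← hgq]
      exact hinv ⟨g, ptStab_le hg⟩ (hKS (ker_onSet.2 hg)) y hy
    have hcard := Finset.card_le_card hall
    rw [ho'8, Finset.card_sdiff, Finset.inter_univ, Finset.card_univ, hoc] at hcard
    have h24 : Fintype.card GolayPt = 24 := rfl
    omega
  -- the image normalises the Sylow subgroup
  set X : ↥H := ⟨x, mem_setStab.2 ⟨x.2, hxo⟩⟩
  have hXn : f X ∈ Subgroup.normalizer (I : Set ↥(alternatingGroup ↥o)) := by
    refine Subgroup.le_normalizer_map f ⟨X, ?_, rfl⟩
    rw [SetLike.mem_coe, Subgroup.mem_normalizer_iff]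
    intro y
    exact Subgroup.mem_normalizer_iff.mp hx (Subgroup.inclusion hHM y)
  have h6 : 6 ≤ Fintype.card ↥o := by rw [Fintype.card_coe, hoc]; norm_num
  rw [← hPI] at hXn
  have hfX := SymTwo.sylow_two_alt_normalizer_le h6 PI hXn
  rw [hPI] at hfX
  obtain ⟨s, hs, hsX⟩ := hfX
  have hker : s⁻¹ * X ∈ K := by
    rw [← hfker, MonoidHom.mem_ker, map_mul, map_inv, hsX, inv_mul_cancel]
  have hXS := S1.mul_mem hs (hKS hker)
  rw [mul_inv_cancel_left] at hXS
  exact hXS

end Cfsg.Agent.S2882
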