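import Cfsg.Statements.S2896
import Cfsg.Agent.Lib.CharP.Parabolic
import Cfsg.Agent.Lib.Components.GenFitting

set_option autoImplicit false
open Cfsg CfsgLib.CharP CfsgLib.Components

namespace Cfsg.Agent.S2896

theorem result {G : Type*} [Group G] [Finite G] {p : ℕ} [Fact p.Prime] (hdiv : p ∣ Nat.card G) (S : Sylow p G) (X : Subgroup G) (hX : X ≤ (S : Subgroup G)) : (∀ z : G, z ≠ 1 → z ∈ X → (∀ x ∈ X, x * z = z * x) → Cfsg.generalizedFittingSubgroup ↥(Subgroup.centralizer ({z} : Set G)) = Cfsg.pCore p ↥(Subgroup.centralizer ({z} : Set G)) → Cfsg.generalizedFittingSubgroup ↥(Subgroup.normalizer (X : Set G)) = Cfsg.pCore p ↥(Subgroup.normalizer (X : Set G))) ∧ (Cfsg.IsOfParabolicCharacteristic p G ↔ ∀ z : G, z ≠ 1 → z ∈ Cfsg.omegaOne p ((S : Subgroup G) ⊓ Subgroup.centralizer ((S : Subgroup G) : Set G)) → Cfsg.generalizedFittingSubgroup ↥(Subgroup.centralizer ({z} : Set G)) = Cfsg.pCore p ↥(Subgroup.centralizer ({z} : Set G))) ∧ ((∀ z : G, z ∈ (S : Subgroup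 G) → orderOf z = p → Cfsg.generalizedFittingSubgroup ↥(Subgroup.centralizer ({z} : Set G)) = Cfsg.pCore p ↥(Subgroup.centralizer ({z} : Set G))) → Cfsg.IsOfLocalCharacteristic p G) := by
  refine ⟨fun z _ hzX hz h => ?_, ⟨fun hG z hz1 hz => ?_, fun h => ?_⟩, fun h => ⟨hdiv, ?_⟩⟩
  · exact (genFitting_eq_pCore_iff p).mpr (charP_normalizer_of_central (S.isPGroup'.to_le hX) hzX hz
      ((genFitting_eq_pCore_iff p).mp h))
  · obtain ⟨h1, h2⟩ := omegaOne_le _ hz
    exact (genFitting_eq_pCore_iff p).mpr (parabolic_centralizer hG S hz1 h1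
      (fun s hs => Subgroup.mem_centralizer_iff.mp h2 s hs))
  · refine parabolic_of_centralizers S fun z hz ho hc => (genFitting_eq_pCore_iff p).mp (h z ?_ ?_)
    · intro h1
      rw [h1, orderOf_one] at ho
      exact (Fact.out : p.Prime).one_lt.ne ho
    · exact mem_omegaOne_of ⟨hz, Subgroup.mem_centralizer_iff.mpr hc⟩ (by rw [← ho, pow_orderOf_eq_one])
  · intro T hT hT1
    obtain ⟨z, hz, ho, hc⟩ := exists_center_orderOf_eq_prime T hT hT1
    obtain ⟨P, hP⟩ := hT.exists_le_sylow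
    obtain ⟨g, hg⟩ := MulAction.exists_smul_eq G S P
    have hzS : g⁻¹ * z * g ∈ (S : Subgroup G) := by
      have := hP hz
      rw [← hg, Sylow.coe_subgroup_smul, Subgroup.mem_pointwise_smul_iff_inv_smul_mem] at this
      simpa [MulAut.smul_def] using this
    have hC := charP_centralizer_conj g _ ((genFitting_eq_pCore_iff p).mp
      (h _ hzS (by rw [← ho]; simpa using (MulAut.conj g⁻¹).orderOf_eq z)))
    rw [show g * (g⁻¹ * z * g) * g⁻¹ = z by group] at hC
    exact charP_normalizer_of_central hT hz hc hC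

end Cfsg.Agent.S2896
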