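import Cfsg.Statements.S2897
import Cfsg.Agent.Lib.CharP.Parabolic

set_option autoImplicit false
open Cfsg CfsgLib.CharP

namespace Cfsg.Agent.S2897

theorem result {G : Type*} [Group G] [Finite G] {p : ℕ} [Fact p.Prime] (hdiv : p ∣ Nat.card G) (hG : Cfsg.IsOfParabolicCharacteristic p G) (S : Sylow p G) (G₁ : Subgroup G) [G₁.Normal] (hne : Cfsg.omegaOne p (((S : Subgroup G) ⊓ G₁) ⊓ Subgroup.centralizer (((S : Subgroup G) ⊓ G₁ : Subgroup G) : Set G)) ≠ ⊥) (hle : Cfsg.omegaOne p (((S : Subgroup G) ⊓ G₁) ⊓ Subgroup.centralizer (((S : Subgroup G) ⊓ G₁ : Subgroup G) : Set G)) ≤ Cfsg.omegaOne p ((S : Subgroup G) ⊓ Subgroup.centralizer ((S : Subgroup G) : Set G))) : Cfsg.IsOfParabolicCharacteristic p ↥G₁ := by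
  -- the trace of `S` on `G₁` is a Sylow subgroup
  have hpg : IsPGroup p ↥((S : Subgroup G).subgroupOf G₁) :=
    S.isPGroup'.comap_of_injective _ G₁.subtype_injective
  obtain ⟨P, hP⟩ := hpg.exists_le_sylow
  have hPeq : ∀ x : ↥G₁, x ∈ P → (x : G) ∈ (S : Subgroup G) := by
    obtain ⟨Q, hQ⟩ := (P.isPGroup'.map G₁.subtype).exists_le_sylow
    obtain ⟨g, hg⟩ := MulAction.exists_smul_eq G Q S
    -- conjugating by `g` maps `P` injectively into `S ∩ G₁`
    have hc : ((P : Subgroup G₁).map G₁.subtype).map (MulAut.conj g).toMonoidHom ≤ (S : Subgroup G) ⊓ G₁ := by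
      intro x hx
      rw [mem_map_conj] at hx
      refine ⟨?_, ?_⟩
      · change x ∈ (S : Subgroup G)
        rw [← hg, Sylow.coe_subgroup_smul, Subgroup.mem_pointwise_smul_iff_inv_smul_mem]
        simpa [MulAut.smul_def] using hQ hx
      · simpa [mul_assoc] using Subgroup.Normal.conj_mem inferInstance _ (Subgroup.map_subtype_le _ hx) g
    have h1 : Nat.card (P : Subgroup G₁) ≤ Nat.card ↥((S : Subgroup G) ⊓ G₁) := by
      refine le_of_eq_of_le ?_ (Subgroup.card_le_of_le hc)
      rw [Subgroup.card_map_of_injective (MulAut.conj g).injective]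
      exact Nat.card_congr ((P : Subgroup G₁).equivMapOfInjective _ G₁.subtype_injective).toEquiv
    have h2 : Nat.card ↥((S : Subgroup G).subgroupOf G₁) = Nat.card ↥((S : Subgroup G) ⊓ G₁) := by
      refine (Nat.card_congr (((S : Subgroup G).subgroupOf G₁).equivMapOfInjective _
        G₁.subtype_injective).toEquiv).trans ?_
      rw [Subgroup.subgroupOf_map_subtype]
    intro x hx
    rw [← h2] at h1
    have := Subgroup.eq_of_le_of_card_ge hP h1
    change x ∈ (P : Subgroup G₁) at hx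
    rw [← this] at hx
    exact hx
  refine parabolic_of_centralizers P fun z hzP ho hc => ?_
  have hzS : (z : G) ∈ (S : Subgroup G) ⊓ G₁ := ⟨hPeq z hzP, z.2⟩
  have hzmem : (z : G) ∈ omegaOne p (((S : Subgroup G) ⊓ G₁) ⊓
      Subgroup.centralizer (((S : Subgroup G) ⊓ G₁ : Subgroup G) : Set G)) := by
    refine mem_omegaOne_of ⟨hzS, Subgroup.mem_centralizer_iff.mpr fun s hs => ?_⟩ ?_
    · exact congrArg Subtype.val (hc ⟨s, hs.2⟩ (hP (show (⟨s, hs.2⟩ : ↥G₁) ∈ _ from hs.1)))
    · rw [← Subgroup.coe_pow, ← ho, pow_orderOf_eq_one, Subgroup.coe_one]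
  obtain ⟨h1, h2⟩ := omegaOne_le _ (hle hzmem)
  have hC := parabolic_centralizer hG S (z := (z : G)) (by
    intro h0
    rw [← Subgroup.orderOf_coe, h0, orderOf_one] at ho
    exact (Fact.out : p.Prime).one_lt.ne ho) h1 (fun s hs => Subgroup.mem_centralizer_iff.mp h2 s hs)
  have hK := charP_of_normal (K := G₁ ⊓ Subgroup.centralizer ({(z : G)} : Set G)) hC inf_le_right (by
    intro c hc
    rw [Subgroup.mem_normalizer_iff]
    intro n
    simp only [Subgroup.mem_inf]
    rw [Subgroup.mem_normalizer_iff.mp (Subgroup.le_normalizer hc) n]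
    refine and_congr_left fun _ => ⟨fun hn => Subgroup.Normal.conj_mem inferInstance n hn c, fun hn => ?_⟩
    simpa [mul_assoc] using Subgroup.Normal.conj_mem inferInstance _ hn c⁻¹)
  have e : (Subgroup.centralizer ({z} : Set ↥G₁)).map G₁.subtype =
      G₁ ⊓ Subgroup.centralizer ({(z : G)} : Set G) := by
    ext x
    simp only [Subgroup.mem_map, Subgroup.mem_inf, Subgroup.mem_centralizer_singleton_iff]
    constructor
    · rintro ⟨y, hy, rfl⟩
      exact ⟨y.2, congrArg Subtype.val hy⟩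
    · rintro ⟨hx, hxz⟩
      exact ⟨⟨x, hx⟩, Subtype.ext hxz, rfl⟩
  rw [← e] at hK
  exact charP_of_equiv ((Subgroup.centralizer ({z} : Set ↥G₁)).equivMapOfInjective _
    G₁.subtype_injective).symm hK

end Cfsg.Agent.S2897
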