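import Cfsg.Statements.S2898
import Cfsg.Agent.Lib.CharP.Parabolic
import Cfsg.Agent.Lib.CharP.SylowTrace
import Cfsg.Agent.Lib.Components.Subnormal
import Cfsg.Agent.Lib.Components.GenFitting

set_option autoImplicit false
open Cfsg CfsgLib.CharP CfsgLib.Components

namespace Cfsg.Agent.S2898

theorem result {G : Type*} [Group G] [Finite G] (h2 : 2 ∣ Nat.card G) (hG : Cfsg.IsOfParabolicCharacteristic 2 G) [hN : (Cfsg.oddCore G).Normal] (hZ : Subgroup.center (G ⧸ Cfsg.oddCore G) = ⊥) : Cfsg.oddCore G = ⊥ := by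
  haveI : Fact (Nat.Prime 2) := ⟨Nat.prime_two⟩
  set O := Cfsg.oddCore G with hO
  have hcop : (Nat.card O).Coprime 2 := coprime_card_pPrimeCore 2
  have hoddx : ∀ x ∈ O, (orderOf x).Coprime 2 := fun x hx =>
    Nat.Coprime.coprime_dvd_left (Subgroup.orderOf_dvd_natCard O hx) hcop
  obtain ⟨S⟩ : Nonempty (Sylow 2 G) := inferInstance
  have hS : (S : Subgroup G) ≠ ⊥ := S.ne_bot_of_dvd_card h2
  -- involutions central in `S` invert `O`
  have key : ∀ z ∈ (S : Subgroup G), orderOf z = 2 → (∀ s ∈ (S : Subgroup G), s * z = z * s) →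
      ∀ x ∈ O, z * x * z⁻¹ = x⁻¹ := by
    intro z hzS ho hc
    have hz1 : z ≠ 1 := fun h => by rw [h, orderOf_one] at ho; omega
    have hzz : z⁻¹ = z := inv_eq_of_mul_eq_one_right (by rw [← pow_two, ← ho, pow_orderOf_eq_one])
    have hC := parabolic_centralizer hG S hz1 hzS hc
    set C := Subgroup.centralizer ({z} : Set G)
    set Q := (Cfsg.pCore 2 ↥C).map C.subtype
    have hQp : IsPGroup 2 Q := pCore_isPGroup'.map _
    have hfp : ∀ x ∈ O, x * z = z * x → x = 1 := by
      intro x hx hxz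
      have hxC : x ∈ C := Subgroup.mem_centralizer_singleton_iff.mpr hxz
      refine eq_one_of_mem_pgroup hQp (mem_pCore_map_of_charP hC hxC fun q hq => ?_) (hoddx x hx)
      have hd : q⁻¹ * (x * q * x⁻¹) = 1 := eq_one_of_mem_pgroup hQp
        (Q.mul_mem (Q.inv_mem hq) ((Subgroup.mem_normalizer_iff.mp (le_normalizer_pCore_map C hxC) q).mp hq))
        (hoddx _ (by
          have := O.mul_mem (hN.conj_mem x hx q⁻¹) (O.inv_mem hx)
          simpa [mul_assoc] using this))
      calc q * x = q * (q⁻¹ * (x * q * x⁻¹)) * x := by rw [hd, mul_one]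
        _ = x * q := by group
    let f : O → O := fun x => ⟨(x : G)⁻¹ * (z * x * z⁻¹), O.mul_mem (O.inv_mem x.2) (hN.conj_mem x x.2 z)⟩
    have hf : Function.Injective f := by
      intro a b hab
      have e : (a : G)⁻¹ * (z * a * z⁻¹) = (b : G)⁻¹ * (z * b * z⁻¹) := congrArg Subtype.val hab
      have h1 : ((b : G) * (a : G)⁻¹) * z = z * ((b : G) * (a : G)⁻¹) := by
        calc ((b : G) * (a : G)⁻¹) * z
            = (b : G) * ((a : G)⁻¹ * (z * a * z⁻¹)) * (z * (a : G)⁻¹) := by group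
          _ = (b : G) * ((b : G)⁻¹ * (z * b * z⁻¹)) * (z * (a : G)⁻¹) := by rw [e]
          _ = z * ((b : G) * (a : G)⁻¹) := by group
      have := hfp _ (O.mul_mem b.2 (O.inv_mem a.2)) h1
      exact Subtype.ext (mul_inv_eq_one.mp this).symm
    intro x hx
    obtain ⟨a, ha⟩ := (Finite.injective_iff_surjective.mp hf) ⟨x, hx⟩
    have ha' : (a : G)⁻¹ * (z * a * z⁻¹) = x := congrArg Subtype.val ha
    rw [← ha']
    calc z * ((a : G)⁻¹ * (z * a * z⁻¹)) * z⁻¹ = z * (a : G)⁻¹ * z⁻¹ * ((z * z) * a * (z * z)⁻¹) := by group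
      _ = z * (a : G)⁻¹ * z⁻¹ * a := by
          rw [show z * z = 1 by rw [← pow_two, ← ho, pow_orderOf_eq_one]]; group
      _ = ((a : G)⁻¹ * (z * a * z⁻¹))⁻¹ := by group
  haveI : O.Normal := hN
  set C := Subgroup.centralizer (O : Set G) with hC
  haveI : C.Normal := Subgroup.normal_centralizer
  by_cases hSC : ((S : Subgroup G) ⊓ C) = ⊥
  · exfalso
    -- `C` has odd order, so lies in `O`
    have hCO : C ≤ O := by
      obtain ⟨P, hP⟩ := sylow_trace_normal S C
      refine le_pPrimeCore_of_normal inferInstance ?_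
      refine Nat.Coprime.symm (Nat.prime_two.coprime_iff_not_dvd.mpr fun hd => P.ne_bot_of_dvd_card hd ?_)
      rw [hP, Subgroup.subgroupOf_eq_bot, disjoint_iff, hSC]
    obtain ⟨z, hzS, ho, hc⟩ := exists_center_orderOf_eq_prime _ S.isPGroup' hS
    have hinv := key z hzS ho hc
    have hcen : (QuotientGroup.mk z : G ⧸ O) ∈ Subgroup.center (G ⧸ O) := by
      refine Subgroup.mem_center_iff.mpr fun q => ?_
      obtain ⟨g, rfl⟩ := QuotientGroup.mk_surjective q
      rw [← QuotientGroup.mk_mul, ← QuotientGroup.mk_mul, QuotientGroup.eq]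
      refine hCO (Subgroup.mem_centralizer_iff.mpr fun x hx => ?_)
      have h1 : g * x * g⁻¹ ∈ O := hN.conj_mem x hx g
      have e : ((g * z)⁻¹ * (z * g)) * x * ((g * z)⁻¹ * (z * g))⁻¹ = x := by
        calc ((g * z)⁻¹ * (z * g)) * x * ((g * z)⁻¹ * (z * g))⁻¹
            = z⁻¹ * (g⁻¹ * (z * (g * x * g⁻¹) * z⁻¹) * g) * z := by group
          _ = z⁻¹ * (g⁻¹ * (g * x * g⁻¹)⁻¹ * g) * z := by rw [hinv _ h1]
          _ = (z⁻¹ * x * z)⁻¹ := by group
          _ = (z * x * z⁻¹)⁻¹ := by rw [inv_eq_of_mul_eq_one_right (show z * z = 1 by rw [← pow_two, ← ho, pow_orderOf_eq_one])]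
          _ = x := by rw [hinv x hx, inv_inv]
      calc x * ((g * z)⁻¹ * (z * g)) = ((g * z)⁻¹ * (z * g)) * x * ((g * z)⁻¹ * (z * g))⁻¹ * ((g * z)⁻¹ * (z * g)) := by rw [e]
        _ = ((g * z)⁻¹ * (z * g)) * x := by group
    rw [hZ, Subgroup.mem_bot, QuotientGroup.eq_one_iff] at hcen
    have := hoddx z hcen
    rw [ho] at this
    simp at this
  · have hn : (S : Subgroup G) ≤ Subgroup.normalizer (((S : Subgroup G) ⊓ C : Subgroup G) : Set G) := by
      intro s hs
      rw [Subgroup.mem_normalizer_iff]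
      intro n
      simp only [Subgroup.mem_inf]
      rw [Subgroup.mem_normalizer_iff.mp (Subgroup.le_normalizer hs) n]
      refine and_congr_right fun _ => ⟨fun h => Subgroup.Normal.conj_mem inferInstance n h s, fun h => ?_⟩
      simpa [mul_assoc] using Subgroup.Normal.conj_mem inferInstance _ h s⁻¹
    haveI : (((S : Subgroup G) ⊓ C).subgroupOf (S : Subgroup G)).Normal :=
      Subgroup.normal_subgroupOf_of_le_normalizer hn
    haveI : Group.IsNilpotent ↥(S : Subgroup G) := S.isPGroup'.isNilpotent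
    have hne : ((S : Subgroup G) ⊓ C).subgroupOf (S : Subgroup G) ≠ ⊥ := by
      rw [Ne, Subgroup.subgroupOf_eq_bot]
      exact fun hd => hSC (eq_bot_iff.mpr fun x hx => hd.le_bot ⟨hx, hx.1⟩)
    have hmeet : ((S : Subgroup G) ⊓ C).subgroupOf (S : Subgroup G) ⊓ Subgroup.center ↥(S : Subgroup G) ≠ ⊥ := by
      obtain ⟨w, hw, hw1, hwc⟩ := exists_central S hne
      exact fun h => hw1 ((Subgroup.mem_bot).mp (h ▸ ⟨hw, hwc⟩))
    obtain ⟨w, hw, hwo⟩ := exists_orderOf_eq_prime _ (S.isPGroup'.to_subgroup _) hmeet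
    have hinv := key (w : G) w.2 (by rw [Subgroup.orderOf_coe]; exact hwo)
      (fun s hs => congrArg Subtype.val (Subgroup.mem_center_iff.mp hw.2 ⟨s, hs⟩))
    refine eq_bot_iff.mpr fun x hx => ?_
    have hwC : (w : G) ∈ C := hw.1.2
    have h1 := hinv x hx
    rw [← Subgroup.mem_centralizer_iff.mp hwC x hx, mul_inv_cancel_right] at h1
    rw [Subgroup.mem_bot, ← orderOf_eq_one_iff]
    exact Nat.eq_one_of_dvd_coprimes (hoddx x hx) dvd_rfl
      (orderOf_dvd_of_pow_eq_one (by rw [pow_two]; nth_rw 2 [h1]; exact mul_inv_cancel x))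
where
  exists_central {G : Type _} [Group G] [Finite G] (S : Sylow 2 G) {M : Subgroup ↥(S : Subgroup G)}
      [hM : M.Normal] (hne : M ≠ ⊥) :
      ∃ w ∈ M, w ≠ 1 ∧ w ∈ Subgroup.center ↥(S : Subgroup G) := by
    haveI : Fact (Nat.Prime 2) := ⟨Nat.prime_two⟩
    have hp : 2 ∣ Nat.card M := by
      obtain ⟨x, hx, ho⟩ := exists_orderOf_eq_prime M (S.isPGroup'.to_subgroup _) hne
      have := Subgroup.orderOf_dvd_natCard _ hx
      rwa [ho] at this
    have hact : IsPGroup 2 (ConjAct ↥(S : Subgroup G)) := S.isPGroup'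
    obtain ⟨z, hz, hz1⟩ := hact.exists_fixed_point_of_prime_dvd_card_of_fixed_point M hp
      (show (1 : M) ∈ MulAction.fixedPoints (ConjAct ↥(S : Subgroup G)) _ from fun t => smul_one t)
    refine ⟨z, z.2, fun hh => hz1 (Subtype.ext hh).symm, Subgroup.mem_center_iff.mpr fun t => ?_⟩
    have h2 : t * (z : ↥(S : Subgroup G)) * t⁻¹ = z := congrArg Subtype.val (hz (ConjAct.toConjAct t))
    calc t * (z : ↥(S : Subgroup G)) = t * z * t⁻¹ * t := by group
      _ = _ := by rw [h2]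

end Cfsg.Agent.S2898
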