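import Cfsg.Statements.S2905
import Cfsg.Agent.Lib.CharP.PMinimal

set_option autoImplicit false
open Cfsg CfsgLib.CharP CfsgLib.Transfer

namespace Cfsg.Agent.S2905

theorem card_sup_dvd_of_normalizes {G : Type*} [Group G] {A B : Subgroup G}
    (h : A ≤ Subgroup.normalizer (B : Set G)) : Nat.card ↥(A ⊔ B) ∣ Nat.card A * Nat.card B :=
  CfsgLib.Components.card_sup_dvd h

theorem result {P : Type*} [Group P] [Finite P] {p : ℕ} [Fact p.Prime] (hP : Cfsg.IsPMinimal p P) (S : Sylow p P) (M : Subgroup P) (hM : IsCoatom M) (hSM : (S : Subgroup P) ≤ M) [hF : M.normalCore.Normal] : (∀ N : Subgroup P, N.IsSubnormal → N ≤ M → N ⊓ (S : Subgroup P) ≤ Cfsg.pCore p P) ∧ ((∀ T : Sylow p ↥(Cfsg.pResidual p P), (T : Subgroup ↥(Cfsg.pResidual p P)).Normal) → (Nat.card P).primeFactors.card ≤ 2) ∧ (∀ N : Subgroup P, N.Normal → Cfsg.pResidual p P ≤ N ∨ N ≤ M.normalCore) ∧ (∀ N : Subgroup P, N.Normal → M.normalCore ≤ N → N ≤ Cfsg.pResidual p P ⊔ M.normalCore → N = M.normalCore ∨ N = Cfsg.pResidual p P ⊔ M.normalCore) ∧ M.normalCore < Cfsg.pResidual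 p P ⊔ M.normalCore := by
  classical
  have hp : p.Prime := Fact.out
  set E := Cfsg.pResidual p P with hE
  have hES : (S : Subgroup P) ⊔ E = ⊤ := sylow_sup_pResidual S
  have h3 : ∀ N : Subgroup P, N.Normal → E ≤ N ∨ N ≤ M.normalCore := by
    intro N hN
    rcases le_normalCore_or_sup_eq_top hP hM hSM N with h | h
    · exact Or.inr h
    · exact Or.inl (pResidual_le_of_sup_eq_top h)
  have hEM : ¬ E ≤ M := fun h => hM.1 (top_le_iff.mp (hES ▸ sup_le hSM h))
  refine ⟨fun N hN hNM => subnormal_inf_sylow_le hP hM hSM hN hNM, ?_, h3, fun N hN hFN hNle => ?_, ?_⟩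
  · intro hT
    obtain ⟨T⟩ : Nonempty (Sylow p ↥E) := inferInstance
    haveI := hT T
    set T' : Subgroup P := (T : Subgroup ↥E).map E.subtype with hT'
    haveI : (T : Subgroup ↥E).Characteristic := T.characteristic_of_normal inferInstance
    haveI hEn : E.Normal := pResidual_normal' P p
    haveI hT'n : T'.Normal := ConjAct.normal_of_characteristic_of_normal
    -- for every prime `q` a Sylow subgroup of `E` is `S`-invariant modulo `T'`
    have key : ∀ q : ℕ, q.Prime → q ≠ p → ∃ Y : Subgroup P, (S : Subgroup P) ≤ Y ∧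
        (∀ r : ℕ, r.Prime → r ∣ Nat.card Y → r = p ∨ r = q) ∧
        q ^ (Nat.card E).factorization q ∣ Nat.card ↥(E ⊓ Y) := by
      intro q hq hqp
      haveI : Fact q.Prime := ⟨hq⟩
      obtain ⟨Q⟩ : Nonempty (Sylow q ↥E) := inferInstance
      set Q' : Subgroup P := (Q : Subgroup ↥E).map E.subtype with hQ'
      have hfr : Subgroup.normalizer (Q' : Set P) ⊔ E = ⊤ := Sylow.normalizer_sup_eq_top Q
      set X := Subgroup.normalizer (Q' : Set P) ⊔ T' with hX
      have hXE : X ⊔ E = ⊤ := top_le_iff.mp (hfr ▸ sup_le_sup_right le_sup_left E)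
      have hidx : ¬ p ∣ X.index := by
        have h1 : X.index = (X ⊓ E).relIndex E := by
          have e1 := Subgroup.relIndex_mul_index (inf_le_left : X ⊓ E ≤ X)
          have e2 := Subgroup.relIndex_mul_index (inf_le_right : X ⊓ E ≤ E)
          have e3 : (X ⊓ E).relIndex X = E.index := by
            rw [inf_comm, Subgroup.inf_relIndex_right, ← Subgroup.relIndex_sup_right X E, hXE, Subgroup.relIndex_top_right]
          rw [e3, ← e2, Nat.mul_comm] at e1
          exact Nat.eq_of_mul_eq_mul_right (Nat.pos_of_ne_zero Subgroup.index_ne_zero_of_finite) e1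
        rw [h1]
        intro hd
        have hTX : T' ≤ X ⊓ E := le_inf le_sup_right (Subgroup.map_subtype_le _)
        refine T.not_dvd_index (hd.trans ?_)
        have e : (T : Subgroup ↥E).index = T'.relIndex E := by
          rw [hT', Subgroup.relIndex, Subgroup.subgroupOf, Subgroup.comap_map_eq_self_of_injective E.subtype_injective]
        rw [e]
        exact Subgroup.relIndex_dvd_of_le_left _ hTX
      obtain ⟨R⟩ : Nonempty (Sylow p ↥X) := inferInstance
      have hRc : Nat.card ↥((R : Subgroup ↥X).map X.subtype) = p ^ (Nat.card P).factorization p := by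
        rw [Subgroup.card_map_of_injective X.subtype_injective, R.card_eq_multiplicity]
        congr 1
        rw [← Subgroup.card_mul_index X, Nat.factorization_mul Nat.card_pos.ne' Subgroup.index_ne_zero_of_finite,
          Finsupp.add_apply, Nat.factorization_eq_zero_of_not_dvd hidx, add_zero]
      obtain ⟨g, hg⟩ := MulAction.exists_smul_eq P (Sylow.ofCard _ hRc) S
      set c := (MulAut.conj g).toMonoidHom with hc
      have hSX : (S : Subgroup P) ≤ X.map c := by
        rw [← hg, Sylow.coe_subgroup_smul, Sylow.coe_ofCard]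
        intro x hx
        rw [Subgroup.mem_pointwise_smul_iff_inv_smul_mem] at hx
        rw [hc, mem_map_conj]
        simpa [MulAut.smul_def] using Subgroup.map_subtype_le _ hx
      -- `X` normalizes `Q' ⊔ T'`
      have hXn : X ≤ Subgroup.normalizer ((Q' ⊔ T' : Subgroup P) : Set P) := by
        refine sup_le ?_ (le_sup_right.trans Subgroup.le_normalizer)
        intro x hx
        have e1 : Q'.map (MulAut.conj x).toMonoidHom = Q' :=
          CfsgLib.Components.map_conj_eq_of_mem_normalizer hx
        have e2 : T'.map (MulAut.conj x).toMonoidHom = T' :=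
          CfsgLib.Components.map_conj_eq_of_mem_normalizer (by rw [Subgroup.normalizer_eq_top]; trivial)
        rw [Subgroup.mem_normalizer_iff_map_conj_eq]
        show (Q' ⊔ T').map (MulAut.conj x).toMonoidHom = _
        rw [Subgroup.map_sup, e1, e2]
      set B := (Q' ⊔ T').map c with hB
      have hSB : (S : Subgroup P) ≤ Subgroup.normalizer (B : Set P) :=
        hSX.trans ((Subgroup.map_mono hXn).trans (Subgroup.le_normalizer_map c))
      refine ⟨(S : Subgroup P) ⊔ B, le_sup_left, fun r hr hrd => ?_, ?_⟩
      · have h1 := hrd.trans (card_sup_dvd_of_normalizes hSB)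
        rw [hB, Subgroup.card_map_of_injective (MulAut.conj g).injective] at h1
        have h2 : r ∣ Nat.card (S : Subgroup P) * (Nat.card Q' * Nat.card T') :=
          h1.trans (Nat.mul_dvd_mul_left _ (card_sup_dvd_of_normalizes (fun x _ => by
            rw [Subgroup.normalizer_eq_top]; trivial)))
        have pow_case : ∀ (s : ℕ) (K : Subgroup P), s.Prime → IsPGroup s K → r ∣ Nat.card K → r = s := by
          intro s K hs hK hd
          haveI : Fact s.Prime := ⟨hs⟩
          obtain ⟨n, hn⟩ := hK.exists_card_eq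
          exact (Nat.prime_dvd_prime_iff_eq hr hs).mp (hr.dvd_of_dvd_pow (hn ▸ hd))
        rcases hr.dvd_mul.mp h2 with h | h
        · exact Or.inl (pow_case p _ hp S.isPGroup' h)
        rcases hr.dvd_mul.mp h with h | h
        · exact Or.inr (pow_case q _ hq (Q.isPGroup'.map _) h)
        · exact Or.inl (pow_case p _ hp (T.isPGroup'.map _) h)
      · have hQE : Q'.map c ≤ E := by
          rintro _ ⟨x, hx, rfl⟩
          exact hEn.conj_mem x (Subgroup.map_subtype_le _ hx) g
        refine dvd_trans ?_ (Subgroup.card_dvd_of_le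
          (le_inf hQE ((Subgroup.map_mono le_sup_left).trans le_sup_right)))
        rw [Subgroup.card_map_of_injective (MulAut.conj g).injective, hQ',
          Subgroup.card_map_of_injective E.subtype_injective, Q.card_eq_multiplicity]
    by_contra hmany
    push Not at hmany
    refine hEM (inf_eq_left.mp (Subgroup.eq_of_le_of_card_ge inf_le_left ?_))
    refine Nat.le_of_dvd Nat.card_pos ((Nat.dvd_iff_prime_pow_dvd_dvd _ _).mpr fun q k hq hqk => ?_)
    have hk : k ≤ (Nat.card E).factorization q := (hq.pow_dvd_iff_le_factorization Nat.card_pos.ne').mp hqk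
    refine (Nat.pow_dvd_pow q hk).trans ?_
    by_cases hqp : q = p
    · subst hqp
      have hTS : T' ≤ (S : Subgroup P) := by
        have h1 : IsPGroup q ↥((S : Subgroup P) ⊔ T') :=
          IsPGroup.to_sup_of_normal_right S.isPGroup' (T.isPGroup'.map _)
        exact le_sup_right.trans (S.is_maximal' h1 le_sup_left).le
      refine dvd_trans ?_ (Subgroup.card_dvd_of_le (le_inf (Subgroup.map_subtype_le _) (hTS.trans hSM)) :
        Nat.card T' ∣ Nat.card ↥(E ⊓ M))
      rw [hT', Subgroup.card_map_of_injective E.subtype_injective, T.card_eq_multiplicity]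
    · obtain ⟨Y, hSY, hYp, hYd⟩ := key q hq hqp
      have hY : Y ≠ ⊤ := by
        intro h
        have hsub : (Nat.card P).primeFactors ⊆ {p, q} := fun r hr => by
          obtain ⟨hr1, hr2, -⟩ := Nat.mem_primeFactors.mp hr
          rcases hYp r hr1 (by rwa [h, Subgroup.card_top]) with rfl | rfl <;> simp
        exact absurd ((Finset.card_le_card hsub).trans Finset.card_le_two) (by omega)
      exact hYd.trans (Subgroup.card_dvd_of_le (inf_le_inf_left _ (le_of_isPMinimal hP hM hSM hSY hY)))
  · rcases h3 N hN with h | h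
    · exact Or.inr (le_antisymm hNle (sup_le h hFN))
    · exact Or.inl (le_antisymm h hFN)
  · refine lt_of_le_of_ne le_sup_right fun h => hEM ?_
    exact le_trans (le_sup_left.trans h.ge) M.normalCore_le
where
  pResidual_normal' (P : Type _) [Group P] (p : ℕ) : (Cfsg.pResidual p P).Normal := by
    have hc : ∀ g : P, ∀ x ∈ Cfsg.pResidual p P, g * x * g⁻¹ ∈ Cfsg.pResidual p P := by
      intro g x hx
      have : (Cfsg.pResidual p P).map (MulAut.conj g).toMonoidHom ≤ Cfsg.pResidual p P :=
        map_pResidual_le _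
      exact this ⟨x, hx, rfl⟩
    exact ⟨fun n hn g => hc g n hn⟩

end Cfsg.Agent.S2905
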