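import Cfsg.Statements.S2906
import Cfsg.Agent.Lib.CharP.PMinimal
import Cfsg.Agent.Lib.CharP.Locals
import Cfsg.Agent.Lib.Components.GenFitting
import Cfsg.Agent.S2905

set_option autoImplicit false
open Cfsg CfsgLib.CharP CfsgLib.Components CfsgLib.Transfer
open scoped commutatorElement

namespace Cfsg.Agent.S2906

theorem perfect_le_pResidual {G : Type*} [Group G] [Finite G] {p : ℕ} [Fact p.Prime] {K : Subgroup G}
    (hK : IsComponent K) : K ≤ pResidual p G := by
  rcases component_le_or_commutator hK (Subgroup.Normal.isSubnormal (pResidual_normal (p := p) (G := G))) with h | h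
  · exact h
  · exfalso
    refine component_not_isSolvable hK ?_
    have hp := (isPGroup_quotient_pResidual (p := p) (G := G))
    have := hp.isNilpotent
    -- `K` centralises the residual and maps into a nilpotent quotient
    set π := QuotientGroup.mk' (pResidual p G)
    have hker : (π.comp K.subtype).ker ≤ Subgroup.center K := by
      intro x hx
      have hxE : (x : G) ∈ pResidual p G := (QuotientGroup.eq_one_iff _).mp hx
      refine Subgroup.mem_center_iff.mpr fun y => Subtype.ext ?_
      exact (Subgroup.mem_centralizer_iff.mp (le_centralizer_of_commutator_eq_bot h y.2) _ hxE).symm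
    have hs : Group.IsSolvable (MonoidHom.range (π.comp K.subtype)) := inferInstance
    haveI : Group.IsSolvable (Subgroup.center K) :=
      Group.isSolvable_of_comm fun a b => Subtype.ext (Subgroup.mem_center_iff.mp b.2 a.1)
    exact Group.isSolvable_of_ker_le_range (Subgroup.center K).subtype (π.comp K.subtype).rangeRestrict
      (by rw [MonoidHom.ker_rangeRestrict, Subgroup.range_subtype]; exact hker)

theorem result {P : Type*} [Group P] [Finite P] {p : ℕ} [Fact p.Prime] (hP : Cfsg.IsPMinimal p P) (hOp : Cfsg.pCore p P = ⊥) (S : Sylow p P) (K : Subgroup P) (hK : Cfsg.IsComponent K) : Cfsg.pResidual p P = Cfsg.generalizedFittingSubgroup P ∧ Cfsg.generalizedFittingSubgroup P = Cfsg.layer P ∧ Cfsg.layer P = ⨆ s : ↥(S : Subgroup P), K.map (MulAut.conj (s : P)).toMonoidHom ∧ Cfsg.IsPMinimal p ↥(K ⊔ ((S : Subgroup P) ⊓ Subgroup.normalizer (K : Set P))) := by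
  classical
  have hp : p.Prime := Fact.out
  obtain ⟨-, M, ⟨hM, hSM⟩, -⟩ := hP S
  set E := pResidual p P with hE
  set F := M.normalCore with hF
  -- `F` is a nilpotent `p'`-group
  have hFp : ¬ p ∣ Nat.card F := by
    intro hd
    obtain ⟨R, hR⟩ := sylow_trace_normal S F
    have hle : ((R : Subgroup F).map F.subtype) = ⊥ := by
      rw [hR, Subgroup.subgroupOf_map_subtype, eq_bot_iff, ← hOp, inf_comm]
      exact normal_inf_sylow_le hP hM hSM F M.normalCore_le
    exact R.ne_bot_of_dvd_card hd ((Subgroup.map_eq_bot_iff_of_injective _ F.subtype_injective).mp hle)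
  have hFnil : Group.IsNilpotent F := by
    refine (isNilpotent_of_finite_tfae.out 0 3).mpr fun q hq Q => ?_
    haveI := hq
    have hfr : Subgroup.normalizer (((Q : Subgroup F).map F.subtype : Subgroup P) : Set P) ⊔ F = ⊤ :=
      Sylow.normalizer_sup_eq_top Q
    set Q' := (Q : Subgroup F).map F.subtype with hQ'
    set N := Subgroup.normalizer (Q' : Set P) with hN
    have hidx : ¬ p ∣ N.index := by
      intro hd
      have e1 := Subgroup.relIndex_mul_index (inf_le_left : N ⊓ F ≤ N)
      have e2 := Subgroup.relIndex_mul_index (inf_le_right : N ⊓ F ≤ F)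
      have e3 : (N ⊓ F).relIndex N = F.index := by
        rw [inf_comm, Subgroup.inf_relIndex_right, ← Subgroup.relIndex_sup_right N F, hfr, Subgroup.relIndex_top_right]
      rw [e3, ← e2, Nat.mul_comm] at e1
      rw [Nat.eq_of_mul_eq_mul_right (Nat.pos_of_ne_zero Subgroup.index_ne_zero_of_finite) e1] at hd
      exact hFp (hd.trans (Subgroup.index_dvd_card _))
    have htop : N = ⊤ := by
      by_contra h
      obtain ⟨R⟩ : Nonempty (Sylow p ↥N) := inferInstance
      have hRc : Nat.card ↥((R : Subgroup ↥N).map N.subtype) = p ^ (Nat.card P).factorization p := by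
        rw [Subgroup.card_map_of_injective N.subtype_injective, R.card_eq_multiplicity]
        congr 1
        rw [← Subgroup.card_mul_index N, Nat.factorization_mul Nat.card_pos.ne' Subgroup.index_ne_zero_of_finite,
          Finsupp.add_apply, Nat.factorization_eq_zero_of_not_dvd hidx, add_zero]
      obtain ⟨g, hg⟩ := MulAction.exists_smul_eq P (Sylow.ofCard _ hRc) S
      set c := (MulAut.conj g).toMonoidHom with hc
      have hSN : (S : Subgroup P) ≤ N.map c := by
        rw [← hg, Sylow.coe_subgroup_smul, Sylow.coe_ofCard]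
        intro x hx
        rw [Subgroup.mem_pointwise_smul_iff_inv_smul_mem] at hx
        rw [hc, CfsgLib.CharP.mem_map_conj]
        simpa [MulAut.smul_def] using Subgroup.map_subtype_le _ hx
      have hNne : N.map c ≠ ⊤ := by
        intro h'
        refine h (Subgroup.map_injective (MulAut.conj g).injective (h'.trans ?_))
        exact (Subgroup.map_top_of_surjective _ (MulAut.conj g).surjective).symm
      have hFc : F.map c = F := CfsgLib.Components.map_conj_eq_of_mem_normalizer (by rw [Subgroup.normalizer_eq_top]; trivial)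
      have htop' : N.map c ⊔ F = ⊤ := by
        have := congrArg (Subgroup.map c) hfr
        rwa [Subgroup.map_sup, hFc, Subgroup.map_top_of_surjective _ (MulAut.conj g).surjective] at this
      exact hM.1 (top_le_iff.mp (htop' ▸ sup_le (le_of_isPMinimal hP hM hSM hSN hNne) M.normalCore_le))
    have hn : Q'.Normal := Subgroup.normalizer_eq_top_iff.mp htop
    have := hn.subgroupOf F
    rwa [hQ', Subgroup.subgroupOf, Subgroup.comap_map_eq_self_of_injective F.subtype_injective] at this
  have hdich : ∀ N : Subgroup P, N.Normal → E ≤ N ∨ N ≤ F := fun N hN =>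
    (S2905.result hP S M hM hSM).2.2.1 N hN
  have hKF : ¬ K ≤ F := fun h => component_not_le_of_isSolvable hK inferInstance h
  have hKE : K ≤ E := perfect_le_pResidual hK
  have hEM : ¬ E ≤ M := fun h => hKF ((hKE.trans (Subgroup.normal_le_normalCore.mpr h)))
  -- the conjugates of `K` under `S`
  set U := ⨆ s : ↥(S : Subgroup P), K.map (MulAut.conj (s : P)).toMonoidHom with hU
  have hUlayer : U ≤ layer P := iSup_le fun s => component_le_layer (component_map_conj hK _)
  have hKU : K ≤ U := by
    refine le_trans ?_ (le_iSup (fun s : ↥(S : Subgroup P) => K.map (MulAut.conj (s : P)).toMonoidHom) 1)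
    intro x hx
    exact ⟨x, hx, by simp⟩
  set C := Subgroup.normalClosure (K : Set P) with hC
  haveI : C.Normal := Subgroup.normalClosure_normal
  have hEC : E ≤ C := (hdich C inferInstance).resolve_right fun h => hKF (Subgroup.subset_normalClosure.trans h)
  have hlayerE : layer P ≤ E := sSup_le fun L hL => perfect_le_pResidual hL
  have hClayer : C ≤ layer P := Subgroup.normalClosure_le_normal (component_le_layer hK)
  have hCS : C ⊔ (S : Subgroup P) = ⊤ := by
    rw [eq_top_iff, ← sylow_sup_pResidual (p := p) S]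
    exact sup_le le_sup_right (hEC.trans le_sup_left)
  have hCU : C ≤ U := by
    refine (Subgroup.closure_le _).mpr fun y hy => ?_
    obtain ⟨l, hl, hconj⟩ := Group.mem_conjugatesOfSet_iff.mp hy
    obtain ⟨g, rfl⟩ := isConj_iff.mp hconj
    have hg : g ∈ (S : Subgroup P) ⊔ C := by rw [sup_comm, hCS]; trivial
    obtain ⟨s, hs, k, hk, rfl⟩ := Subgroup.mem_sup_of_normal_right.mp hg
    refine Subgroup.mem_iSup_of_mem ⟨s, hs⟩ ⟨k * l * k⁻¹,
      (Subgroup.mem_normalizer_iff.mp (layer_le_normalizer_component hK (hClayer hk)) l).mp hl, ?_⟩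
    simp [mul_assoc]
  have hEL : E = layer P := le_antisymm (hEC.trans hClayer) hlayerE
  have hfit : fittingSubgroup P ≤ E := by
    have hfF : fittingSubgroup P ≤ F := by
      refine (hdich _ inferInstance).resolve_left fun h => ?_
      exact component_not_le_of_isSolvable hK isSolvable_fitting (hKE.trans h)
    intro x hx
    exact mem_pResidual_of_coprime ((Nat.Coprime.symm (hp.coprime_iff_not_dvd.mpr fun hd =>
      hFp (hd.trans (Subgroup.orderOf_dvd_natCard F (hfF hx))))))
  have hGF : generalizedFittingSubgroup P = layer P := by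
    show layer P ⊔ fittingSubgroup P = layer P
    exact sup_eq_left.mpr (hfit.trans hEL.le)
  refine ⟨hEL.trans hGF.symm, hGF, le_antisymm (hlayerE.trans (hEC.trans hCU)) hUlayer, ?_⟩
  -- local `p`-minimality
  set N := (S : Subgroup P) ⊓ Subgroup.normalizer (K : Set P) with hN
  set H := K ⊔ N with hH
  have hNK : N ≤ Subgroup.normalizer (K : Set P) := inf_le_right
  have hKH : K ≤ H := le_sup_left
  have hNH : N ≤ H := le_sup_right
  obtain ⟨R, hR⟩ := sylow_trace_subnormal S K hK.1
  have hKS : (S : Subgroup P) ⊓ K ≤ N := inf_le_inf_left _ Subgroup.le_normalizer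
  have hmemH : ∀ h ∈ H, ∃ k ∈ K, ∃ n ∈ N, k * n = h := by
    intro h hh
    have : (h : P) ∈ (↑(N ⊔ K) : Set P) := by rw [sup_comm]; exact hh
    rw [Subgroup.coe_mul_of_left_le_normalizer_right N K hNK] at this
    obtain ⟨n, hn, k, hk, rfl⟩ := Set.mem_mul.mp this
    exact ⟨n * k * n⁻¹, (Subgroup.mem_normalizer_iff.mp (hNK hn) k).mp hk, n, hn, by group⟩
  have hNp : IsPGroup p ↥(N.subgroupOf H) :=
    (S.isPGroup'.to_le inf_le_left).comap_of_injective _ H.subtype_injective
  obtain ⟨T, hT⟩ := hNp.exists_le_sylow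
  have hTeq : ∀ x : ↥H, x ∈ (T : Subgroup ↥H) → (x : P) ∈ N := by
    intro x hx
    obtain ⟨k, hk, n, hn, hkn⟩ := hmemH x x.2
    have hkT : (⟨k, hKH hk⟩ : ↥H) ∈ (T : Subgroup ↥H) := by
      have := (T : Subgroup ↥H).mul_mem hx
        ((T : Subgroup ↥H).inv_mem (hT (show (⟨n, hNH hn⟩ : ↥H) ∈ N.subgroupOf H from hn)))
      convert this using 1
      exact Subtype.ext (by show k = (x : P) * n⁻¹; rw [← hkn]; group)
    -- `T ∩ K` is a `p`-subgroup containing the Sylow subgroup `S ∩ K`
    have hTK : ((T : Subgroup ↥H).map H.subtype).subgroupOf K = (R : Subgroup ↥K) := by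
      refine R.is_maximal' ((T.isPGroup'.map _).comap_of_injective _ K.subtype_injective) fun r hr => ?_
      have : (r : P) ∈ (S : Subgroup P) ⊓ K := hR ▸ (⟨r, hr, rfl⟩ : (r : P) ∈ (R : Subgroup ↥K).map K.subtype)
      exact ⟨⟨r, hKH r.2⟩, hT (hKS this), rfl⟩
    have hkS : k ∈ (S : Subgroup P) ⊓ K := by
      rw [← hR]
      refine ⟨⟨k, hk⟩, ?_, rfl⟩
      rw [← hTK]
      exact ⟨_, hkT, rfl⟩
    rw [← hkn]
    exact N.mul_mem (hKS hkS) hn
  have hTeq' : (T : Subgroup ↥H) = N.subgroupOf H := le_antisymm hTeq hT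
  -- not normal
  have hnn : ¬ (N.subgroupOf H).Normal := by
    intro hn
    have hKR : ((R : Subgroup ↥K)).Normal := by
      have hconj : ∀ k ∈ K, ∀ r ∈ (S : Subgroup P) ⊓ K, k * r * k⁻¹ ∈ (S : Subgroup P) ⊓ K := by
        intro k hk r hr
        refine ⟨?_, K.mul_mem (K.mul_mem hk hr.2) (K.inv_mem hk)⟩
        exact (hn.conj_mem ⟨r, hKH hr.2⟩ (hKS hr) ⟨k, hKH hk⟩).1
      refine ⟨fun r hr k => ?_⟩
      have : (r : P) ∈ (S : Subgroup P) ⊓ K := hR ▸ (⟨r, hr, rfl⟩ : (r : P) ∈ (R : Subgroup ↥K).map K.subtype)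
      have h2 := hconj k k.2 _ this
      rw [← hR] at h2
      obtain ⟨y, hy, he⟩ := h2
      exact (Subtype.ext he : y = k * r * k⁻¹) ▸ hy
    have hR1 : (R : Subgroup ↥K) = ⊥ := by
      haveI := hKR
      have hsub : ((R : Subgroup ↥K).map K.subtype).IsSubnormal :=
        (Subgroup.Normal.isSubnormal hKR).trans' hK.1
      have h1 := le_pCore_of_isSubnormal hsub (R.isPGroup'.map _)
      rw [hOp] at h1
      exact (Subgroup.map_eq_bot_iff_of_injective _ K.subtype_injective).mp (eq_bot_iff.mpr h1)
    -- so all conjugates of `K`, hence the residual, have order prime to `p`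
    have hKp : ¬ p ∣ Nat.card K := fun hd => R.ne_bot_of_dvd_card hd hR1
    have hEp : ¬ p ∣ Nat.card E := by
      intro hd
      obtain ⟨Q, hQ⟩ := sylow_trace_normal S E
      refine Q.ne_bot_of_dvd_card hd ?_
      rw [hQ, Subgroup.subgroupOf_eq_bot, disjoint_iff]
      -- a `p`-element of the layer is trivial
      have hcop : (Nat.card ↥(pPrimeCore p P)).Coprime p := coprime_card_pPrimeCore p
      refine eq_bot_iff.mpr fun x hx => ?_
      have hxO : x ∈ pPrimeCore p P := by
        have : U ≤ pPrimeCore p P := iSup_le fun s =>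
          le_pPrimeCore_of_isSubnormal (isSubnormal_map_conj hK.1 _) (by
            rw [card_map_conj]; exact Nat.Coprime.symm (hp.coprime_iff_not_dvd.mpr hKp))
        exact this (hCU (hEC hx.2))
      exact (Subgroup.mem_bot).mpr (eq_one_of_mem_pgroup S.isPGroup' hx.1
        (Nat.Coprime.coprime_dvd_left (Subgroup.orderOf_dvd_natCard _ hxO) hcop))
    have hcard := (S2905.result hP S M hM hSM).2.1 (fun T' => by
      have : (T' : Subgroup ↥E) = ⊥ := by
        by_contra h
        obtain ⟨y, hy, hyo⟩ := exists_orderOf_eq_prime _ T'.isPGroup' h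
        exact hEp (hyo ▸ orderOf_dvd_natCard y)
      rw [this]; infer_instance)
    -- `K` would be a group of prime power order
    have hKpp : (Nat.card K).primeFactors.card ≤ 1 := by
      have hpP : p ∣ Nat.card P := by
        by_contra hd
        refine (hP S).1 ?_
        have : (S : Subgroup P) = ⊥ := by
          by_contra h
          obtain ⟨y, hy, hyo⟩ := exists_orderOf_eq_prime _ S.isPGroup' h
          exact hd (hyo ▸ orderOf_dvd_natCard y)
        rw [this]; infer_instance
      have hsub : (Nat.card K).primeFactors ⊆ (Nat.card P).primeFactors.erase p := by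
        intro q hq
        obtain ⟨hq1, hq2, -⟩ := Nat.mem_primeFactors.mp hq
        exact Finset.mem_erase.mpr ⟨fun h => hKp (h ▸ hq2),
          Nat.mem_primeFactors.mpr ⟨hq1, hq2.trans (Subgroup.card_subgroup_dvd_card K), Nat.card_pos.ne'⟩⟩
      have := Finset.card_le_card hsub
      rw [Finset.card_erase_of_mem (Nat.mem_primeFactors.mpr ⟨hp, hpP, Nat.card_pos.ne'⟩)] at this
      omega
    refine component_not_isSolvable hK ?_
    rcases (Nat.card K).primeFactors.eq_empty_or_nonempty with h | ⟨q, hq⟩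
    · haveI : Subsingleton K := by
        rcases Nat.primeFactors_eq_empty.mp h with h | h
        · exact absurd h Nat.card_pos.ne'
        · exact (Nat.card_eq_one_iff_unique.mp h).1
      infer_instance
    · haveI : Fact q.Prime := ⟨(Nat.mem_primeFactors.mp hq).1⟩
      have : IsPGroup q K := IsPGroup.of_card (n := (Nat.card K).factorization q) (by
        refine Nat.eq_pow_of_factorization_eq_single Nat.card_pos.ne' ?_
        ext r
        rw [Finsupp.single_apply]
        by_cases hr : q = r
        · rw [if_pos hr, hr]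
        · rw [if_neg hr]
          refine Finsupp.notMem_support_iff.mp fun h' => hr (Finset.card_le_one.mp hKpp q hq r ?_)
          rwa [← Nat.support_factorization])
      haveI := this.isNilpotent
      infer_instance
  -- the key point: proper overgroups of `N` in `H` meet `K` inside `M`
  have key : ∀ X : Subgroup P, N ≤ X → ¬ K ≤ X → X ⊓ K ≤ M := by
    intro X hNX hKX
    set Zk := (Subgroup.center ↥K).map K.subtype with hZk
    set X₁ := (X ⊓ K) ⊔ Zk with hX1
    have hZc : ∀ z ∈ Zk, ∀ k ∈ K, z * k = k * z := by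
      rintro _ ⟨z, hz, rfl⟩ k hk
      exact congrArg Subtype.val (Subgroup.mem_center_iff.mp hz ⟨k, hk⟩).symm
    have hX1K : X₁ ≤ K := sup_le inf_le_right (Subgroup.map_subtype_le _)
    have hX1ne : ¬ K ≤ X₁ := by
      intro h
      refine hKX ?_
      haveI := hK.2.1
      have hn : ((X ⊓ K).subgroupOf K).Normal := by
        refine ⟨fun a ha k => ?_⟩
        have hmem : (k : P) ∈ (X ⊓ K) ⊔ Zk := h k.2
        have hle : Zk ≤ Subgroup.normalizer ((X ⊓ K : Subgroup P) : Set P) := fun z hz =>
          Subgroup.centralizer_le_normalizer _ (Subgroup.mem_centralizer_iff.mpr fun y hy => (hZc z hz y hy.2).symm)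
        exact (Subgroup.mem_normalizer_iff.mp (sup_le Subgroup.le_normalizer hle hmem) a).mp ha
      have hsup : (X ⊓ K).subgroupOf K ⊔ Subgroup.center ↥K = ⊤ := by
        apply Subgroup.map_injective K.subtype_injective
        rw [Subgroup.map_sup, Subgroup.map_subgroupOf_eq_of_le inf_le_right,
          ← MonoidHom.range_eq_map, Subgroup.range_subtype]
        exact le_antisymm hX1K h
      intro k hk
      exact (Subgroup.subgroupOf_eq_top.mp (eq_top_of_sup_center_eq_top hn hsup) hk).1
    have hX1N : N ≤ Subgroup.normalizer (X₁ : Set P) := by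
      intro n hn
      rw [Subgroup.mem_normalizer_iff_map_conj_eq]
      show X₁.map (MulAut.conj n).toMonoidHom = X₁
      have e1 : (X ⊓ K).map (MulAut.conj n).toMonoidHom = X ⊓ K := by
        rw [Subgroup.map_inf _ _ _ (MulAut.conj n).injective,
          CfsgLib.Components.map_conj_eq_of_mem_normalizer (Subgroup.le_normalizer (hNX hn)),
          CfsgLib.Components.map_conj_eq_of_mem_normalizer (hNK hn)]
      have e2 : Zk.map (MulAut.conj n).toMonoidHom = Zk := by
        refine Subgroup.eq_of_le_of_card_ge ?_ (card_map_conj n Zk).ge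
        rintro _ ⟨z, hz, rfl⟩
        have hzK : n * z * n⁻¹ ∈ K := (Subgroup.mem_normalizer_iff.mp (hNK hn) z).mp (Subgroup.map_subtype_le _ hz)
        refine ⟨⟨_, hzK⟩, Subgroup.mem_center_iff.mpr fun y => Subtype.ext ?_, rfl⟩
        have hy : n⁻¹ * (y : P) * n ∈ K := (Subgroup.mem_normalizer_iff''.mp (hNK hn) _).mp y.2
        show (y : P) * (n * z * n⁻¹) = n * z * n⁻¹ * y
        calc (y : P) * (n * z * n⁻¹) = n * ((n⁻¹ * y * n) * z) * n⁻¹ := by group
          _ = n * (z * (n⁻¹ * y * n)) * n⁻¹ := by rw [hZc z hz _ hy]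
          _ = n * z * n⁻¹ * y := by group
      rw [hX1, Subgroup.map_sup, e1, e2]
    -- the `S`-conjugates of `X₁`
    set Xs := ⨆ s : ↥(S : Subgroup P), X₁.map (MulAut.conj (s : P)).toMonoidHom with hXs
    have hSXs : (S : Subgroup P) ≤ Subgroup.normalizer (Xs : Set P) := by
      intro t ht
      rw [Subgroup.mem_normalizer_iff_map_conj_eq]
      show Xs.map (MulAut.conj t).toMonoidHom = Xs
      refine Subgroup.eq_of_le_of_card_ge ?_ (card_map_conj t Xs).ge
      rw [hXs, Subgroup.map_iSup]
      refine iSup_le fun s => le_iSup_of_le ⟨t * s, (S : Subgroup P).mul_mem ht s.2⟩ ?_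
      rintro _ ⟨_, ⟨x, hx, rfl⟩, rfl⟩
      exact ⟨x, hx, by simp [mul_assoc]⟩
    set CK := Subgroup.centralizer (K : Set P) with hCK
    have hXsle : Xs ≤ X₁ ⊔ CK := iSup_le fun s => by
      by_cases hs : (s : P) ∈ Subgroup.normalizer (K : Set P)
      · rw [CfsgLib.Components.map_conj_eq_of_mem_normalizer (hX1N ⟨s.2, hs⟩)]
        exact le_sup_left
      · refine le_trans ?_ le_sup_right
        refine (Subgroup.map_mono hX1K).trans ?_
        refine le_centralizer_of_commutator_eq_bot (component_commutator_of_ne (component_map_conj hK _) hK fun h => hs ?_)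
        rw [Subgroup.mem_normalizer_iff_map_conj_eq]
        exact h
    by_contra hXM
    have htop : Xs ⊔ (S : Subgroup P) = ⊤ := by
      refine sup_eq_top_of_not_le hP hM hSM fun h => hXM (le_trans ?_ h)
      refine le_trans (le_sup_left : X ⊓ K ≤ X₁) (le_trans ?_ (le_iSup (fun s : ↥(S : Subgroup P) => X₁.map (MulAut.conj (s : P)).toMonoidHom) 1))
      intro x hx
      exact ⟨x, hx, by simp⟩
    refine hX1ne fun k hk => ?_
    -- write `k = u r`
    have hk' : k ∈ (S : Subgroup P) ⊔ Xs := by rw [sup_comm, htop]; trivial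
    have hk'' : k ∈ (↑((S : Subgroup P) ⊔ Xs) : Set P) := hk'
    rw [Subgroup.coe_mul_of_left_le_normalizer_right _ Xs hSXs] at hk''
    obtain ⟨r, hr, u, hu, hru⟩ := Set.mem_mul.mp hk''
    have hXsE : Xs ≤ layer P := iSup_le fun s => (Subgroup.map_mono hX1K).trans
      (component_le_layer (component_map_conj hK _))
    have hrL : r ∈ layer P := by
      have := (layer P).mul_mem (component_le_layer hK hk) ((layer P).inv_mem (hXsE hu))
      rwa [← hru, mul_inv_cancel_right] at this
    have hrN : r ∈ N := ⟨hr, layer_le_normalizer_component hK hrL⟩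
    have hX1C : X₁ ≤ Subgroup.normalizer (CK : Set P) := fun x hx =>
      normalizer_le_normalizer_centralizer K (Subgroup.le_normalizer (hX1K hx))
    have hu' : u ∈ (↑(X₁ ⊔ CK) : Set P) := hXsle hu
    rw [Subgroup.coe_mul_of_left_le_normalizer_right _ CK hX1C] at hu'
    obtain ⟨x, hx, c, hc, hxc⟩ := Set.mem_mul.mp hu'
    -- `k x⁻¹ = r x c x⁻¹ ∈ K ∩ R C(K)`
    set W := ((N ⊔ CK) ⊓ K).subgroupOf K with hW
    have hkW : (⟨k * x⁻¹, K.mul_mem hk (K.inv_mem (hX1K hx))⟩ : ↥K) ∈ W := by
      refine ⟨?_, K.mul_mem hk (K.inv_mem (hX1K hx))⟩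
      have e : k * x⁻¹ = r * (x * c * x⁻¹) := by rw [← hru, ← hxc]; group
      show k * x⁻¹ ∈ N ⊔ CK
      rw [e]
      exact Subgroup.mul_mem _ (Subgroup.mem_sup_left hrN)
        (Subgroup.mem_sup_right ((Subgroup.mem_normalizer_iff.mp (hX1C hx) c).mp hc))
    set π := QuotientGroup.mk' (Subgroup.center ↥K) with hπ
    have hsurj : Function.Surjective π := QuotientGroup.mk'_surjective _
    have hWp : IsPGroup p ↥(W.map π) := by
      rintro ⟨_, w, hw, rfl⟩
      have hnC : N ≤ Subgroup.normalizer (CK : Set P) := fun n hn =>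
        normalizer_le_normalizer_centralizer K (hNK hn)
      have hw' : (w : P) ∈ (↑(N ⊔ CK) : Set P) := hw.1
      rw [Subgroup.coe_mul_of_left_le_normalizer_right N CK hnC] at hw'
      obtain ⟨n, hn, d, hd, hnd⟩ := Set.mem_mul.mp hw'
      obtain ⟨j, hj⟩ := (S.isPGroup'.to_le inf_le_left : IsPGroup p N) ⟨n, hn⟩
      have hj' : n ^ p ^ j = 1 := congrArg Subtype.val hj
      refine ⟨j, Subtype.ext ?_⟩
      rw [Subgroup.coe_pow, ← map_pow, Subgroup.coe_one]
      refine (QuotientGroup.eq_one_iff _).mpr ?_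
      have hmem : ((w ^ p ^ j : ↥K) : P) ∈ CK := by
        have hpow : ∀ i : ℕ, ∃ d' ∈ CK, (w : P) ^ i = n ^ i * d' := by
          intro i
          induction i with
          | zero => exact ⟨1, CK.one_mem, by simp⟩
          | succ i ih =>
            obtain ⟨d', hd', he⟩ := ih
            refine ⟨(n⁻¹ * d' * n) * d, CK.mul_mem ((Subgroup.mem_normalizer_iff''.mp (hnC hn) d').mp hd') hd, ?_⟩
            rw [pow_succ, pow_succ, he, ← hnd]; group
        obtain ⟨d', hd', he⟩ := hpow (p ^ j)
        rw [Subgroup.coe_pow, he, hj', one_mul]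
        exact hd'
      refine Subgroup.mem_center_iff.mpr fun y => Subtype.ext ?_
      exact Subgroup.mem_centralizer_iff.mp hmem y y.2
    have hmaps : (((R.mapSurjective hsurj) : Sylow p _) : Subgroup (↥K ⧸ Subgroup.center ↥K)) ≤ W.map π := by
      rintro _ ⟨r', hr', rfl⟩
      refine ⟨r', ⟨Subgroup.mem_sup_left (hKS ?_), r'.2⟩, rfl⟩
      exact hR ▸ ⟨r', hr', rfl⟩
    have heq := (R.mapSurjective hsurj).is_maximal' hWp hmaps
    have hmem : π ⟨k * x⁻¹, K.mul_mem hk (K.inv_mem (hX1K hx))⟩ ∈
        (((R.mapSurjective hsurj) : Sylow p _) : Subgroup (↥K ⧸ Subgroup.center ↥K)) :=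
      heq ▸ ⟨_, hkW, rfl⟩
    obtain ⟨r', hr', he⟩ := hmem
    rw [QuotientGroup.mk'_eq_mk'] at he
    obtain ⟨z, hz, he'⟩ := he
    have h1 : k * x⁻¹ ∈ X₁ := by
      have : k * x⁻¹ = (r' : P) * (z : P) := (congrArg Subtype.val he').symm
      rw [this]
      have hr'S : (r' : P) ∈ (S : Subgroup P) ⊓ K := hR ▸ ⟨r', hr', rfl⟩
      exact X₁.mul_mem (Subgroup.mem_sup_left ⟨hNX (hKS hr'S), hr'S.2⟩) (Subgroup.mem_sup_right ⟨z, hz, rfl⟩)
    simpa using X₁.mul_mem h1 hx
  -- the unique maximal subgroup
  set MH := ((M ⊓ K) ⊔ N).subgroupOf H with hMH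
  have hmax : ∀ X : Subgroup ↥H, N.subgroupOf H ≤ X → X ≠ ⊤ → X ≤ MH := by
    intro X hX hX1 x hx
    obtain ⟨k, hk, n, hn, hkn⟩ := hmemH x x.2
    set X' := X.map H.subtype with hX'
    have hNX' : N ≤ X' := fun y hy => ⟨⟨y, hNH hy⟩, hX hy, rfl⟩
    have hKX' : ¬ K ≤ X' := by
      intro h
      refine hX1 (eq_top_iff.mpr fun y _ => ?_)
      obtain ⟨k', hk', n', hn', he⟩ := hmemH y y.2
      obtain ⟨z, hz, hze⟩ := X'.mul_mem (h hk') (hNX' hn')
      exact (Subtype.ext (hze.trans he) : z = y) ▸ hz
    have hkX : k ∈ X' := by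
      have := X'.mul_mem ⟨x, hx, rfl⟩ (X'.inv_mem (hNX' hn))
      simpa [← hkn] using this
    show (x : P) ∈ (M ⊓ K) ⊔ N
    rw [← hkn]
    exact Subgroup.mul_mem _ (Subgroup.mem_sup_left ⟨key X' hNX' hKX' ⟨hkX, hk⟩, hk⟩) (Subgroup.mem_sup_right hn)
  have hMH1 : MH ≠ ⊤ := by
    intro h
    rw [hMH, Subgroup.subgroupOf_eq_top] at h
    have : K ≤ M := (hKH.trans h).trans (sup_le inf_le_left (inf_le_left.trans hSM))
    exact hEM (hEC.trans (hCU.trans (iSup_le fun s => by
      rintro _ ⟨y, hy, rfl⟩
      exact M.mul_mem (M.mul_mem (hSM s.2) (this hy)) (M.inv_mem (hSM s.2)))))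
  have hMHco : IsCoatom MH := ⟨hMH1, fun X hX => by
    by_contra h
    have hle : N.subgroupOf H ≤ MH := fun y hy => Subgroup.mem_sup_right hy
    exact hX.not_ge (hmax X (hle.trans hX.le) h)⟩
  have hres : ∀ T' : Sylow p ↥H, ¬ (T' : Subgroup ↥H).Normal ∧
      ∃! M' : Subgroup ↥H, IsCoatom M' ∧ (T' : Subgroup ↥H) ≤ M' := by
    intro T'
    obtain ⟨g, hg⟩ := MulAction.exists_smul_eq ↥H T T'
    have hcoe : (T' : Subgroup ↥H) = (N.subgroupOf H).map (MulAut.conj g).toMonoidHom := by
      rw [← hg, Sylow.coe_subgroup_smul, hTeq']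
      rfl
    refine ⟨fun h => hnn ?_, MH.map (MulAut.conj g).toMonoidHom, ⟨?_, ?_⟩, fun M' ⟨hM'1, hM'2⟩ => ?_⟩
    · rw [hcoe] at h
      have := h.comap (MulAut.conj g).toMonoidHom
      rwa [Subgroup.comap_map_eq_self_of_injective (MulAut.conj g).injective] at this
    · exact (MulEquiv.mapSubgroup (MulAut.conj g)).isCoatom_iff MH |>.mpr hMHco
    · rw [hcoe]
      exact Subgroup.map_mono fun y hy => Subgroup.mem_sup_right hy
    · set M'' := M'.comap (MulAut.conj g).toMonoidHom with hM''
      have h1 : N.subgroupOf H ≤ M'' := by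
        rw [hM'', ← Subgroup.map_le_iff_le_comap, ← hcoe]; exact hM'2
      have hsurj : Function.Surjective (MulAut.conj g).toMonoidHom := (MulAut.conj g).surjective
      have hback : M''.map (MulAut.conj g).toMonoidHom = M' := Subgroup.map_comap_eq_self_of_surjective hsurj _
      have h2 : M'' ≠ ⊤ := fun h => hM'1.1 (by rw [← hback, h, Subgroup.map_top_of_surjective _ hsurj])
      have h3 := hmax M'' h1 h2
      rcases hM'1.le_iff.mp ((hback.symm.le.trans (Subgroup.map_mono h3))) with h | h
      · exfalso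
        refine hMH1 (Subgroup.map_injective (f := (MulAut.conj g).toMonoidHom) (MulAut.conj g).injective ?_)
        rw [Subgroup.map_top_of_surjective _ hsurj]; exact h
      · exact h.symm
  exact hres

end Cfsg.Agent.S2906
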