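import Cfsg.Statements.S2907
import Cfsg.Agent.Lib.CharP.Basic
import Mathlib.GroupTheory.Index
import Mathlib.GroupTheory.Commutator.Basic
import Mathlib.Order.Atoms
import Mathlib.Tactic.Group

set_option autoImplicit false
open Cfsg CfsgLib.CharP

namespace Cfsg.Agent.S2907

theorem result {X : Type*} [Group X] [Finite X] {p : ℕ} [Fact p.Prime] (hX : Cfsg.IsSemiExtraspecial p X) (x : X) (hx : x ∉ Subgroup.center X) : (Subgroup.centralizer ({x} : Set X)).index = Nat.card ↥(Subgroup.center X) ∧ {z : X | ∃ y : X, z = x * y * x⁻¹ * y⁻¹} = (Subgroup.center X : Set X) := by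
  obtain ⟨⟨-, -, hder⟩, hsemi⟩ := hX
  set Z := Subgroup.center X with hZ
  have hcm : ∀ a b : X, a * b * a⁻¹ * b⁻¹ ∈ Z := fun a b => by
    rw [← hder]
    exact Subgroup.commutator_mem_commutator (Subgroup.mem_top a) (Subgroup.mem_top b)
  let f : X →* Z :=
    { toFun := fun y => ⟨x * y * x⁻¹ * y⁻¹, hcm x y⟩
      map_one' := Subtype.ext (by simp)
      map_mul' := fun y y' => Subtype.ext (by
        have := Subgroup.mem_center_iff.mp (hcm x y') y⁻¹
        show x * (y * y') * x⁻¹ * (y * y')⁻¹ = x * y * x⁻¹ * y⁻¹ * (x * y' * x⁻¹ * y'⁻¹)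
        calc x * (y * y') * x⁻¹ * (y * y')⁻¹ = x * y * x⁻¹ * ((x * y' * x⁻¹ * y'⁻¹) * y⁻¹) := by group
          _ = x * y * x⁻¹ * (y⁻¹ * (x * y' * x⁻¹ * y'⁻¹)) := by rw [this]
          _ = _ := by group) }
  have hker : f.ker = Subgroup.centralizer ({x} : Set X) := by
    ext y
    rw [MonoidHom.mem_ker, Subgroup.mem_centralizer_singleton_iff]
    constructor
    · intro h
      have h' : x * y * x⁻¹ * y⁻¹ = 1 := congrArg Subtype.val h
      calc y * x = (x * y * x⁻¹ * y⁻¹) * (y * x) := by rw [h', one_mul]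
        _ = x * y := by group
    · intro h
      refine Subtype.ext ?_
      show x * y * x⁻¹ * y⁻¹ = 1
      rw [← h]; group
  have hsurj : Function.Surjective f := by
    rw [← MonoidHom.range_eq_top]
    by_contra hne
    obtain ⟨M, hM, hle⟩ := (eq_top_or_exists_le_coatom f.range).resolve_left hne
    set Y : Subgroup X := M.map Z.subtype with hY
    have hYZ : Y ≤ Z := Subgroup.map_subtype_le _
    have hMY : Y.subgroupOf Z = M := Subgroup.comap_map_eq_self_of_injective Z.subtype_injective M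
    obtain ⟨hYn, hE⟩ := hsemi Y hYZ (hMY ▸ hM)
    haveI := hYn
    have hZq : Nat.card (Subgroup.center (X ⧸ Y)) = p := hE.2
    have hle' : Z.map (QuotientGroup.mk' Y) ≤ Subgroup.center (X ⧸ Y) := by
      rintro _ ⟨z, hz, rfl⟩
      refine Subgroup.mem_center_iff.mpr fun q => ?_
      obtain ⟨g, rfl⟩ := QuotientGroup.mk'_surjective Y q
      rw [← map_mul, ← map_mul, Subgroup.mem_center_iff.mp hz g]
    have hne' : Z.map (QuotientGroup.mk' Y) ≠ ⊥ := by
      rw [Ne, Subgroup.map_eq_bot_iff, QuotientGroup.ker_mk']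
      intro h
      refine hM.1 ?_
      rw [← hMY, Subgroup.subgroupOf_eq_top]
      exact h
    have heq : Z.map (QuotientGroup.mk' Y) = Subgroup.center (X ⧸ Y) := by
      refine Subgroup.eq_of_le_of_card_ge hle' ?_
      have hd := Subgroup.card_dvd_of_le hle'
      rw [hZq] at hd ⊢
      rcases (Nat.dvd_prime (Fact.out : p.Prime)).mp hd with h | h
      · exact absurd (Subgroup.card_eq_one.mp h) hne'
      · exact h.ge
    have hxc : QuotientGroup.mk' Y x ∈ Subgroup.center (X ⧸ Y) := by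
      refine Subgroup.mem_center_iff.mpr fun q => ?_
      obtain ⟨g, rfl⟩ := QuotientGroup.mk'_surjective Y q
      have h1 : x * g * x⁻¹ * g⁻¹ ∈ Y := ⟨f g, hle ⟨g, rfl⟩, rfl⟩
      rw [← map_mul, ← map_mul, QuotientGroup.mk'_eq_mk']
      refine ⟨(g * x)⁻¹ * (x * g), ?_, by group⟩
      have := hYn.conj_mem _ h1 (g * x)⁻¹
      simpa [mul_assoc] using this
    rw [← heq] at hxc
    obtain ⟨z, hz, hzx⟩ := hxc
    rw [QuotientGroup.mk'_eq_mk'] at hzx
    obtain ⟨y, hy, rfl⟩ := hzx
    exact hx (Z.mul_mem hz (hYZ hy))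
  refine ⟨?_, ?_⟩
  · rw [← hker, Subgroup.index_ker, MonoidHom.range_eq_top.mpr hsurj, Subgroup.card_top]
  · ext c
    constructor
    · rintro ⟨y, rfl⟩
      exact hcm x y
    · intro hc
      obtain ⟨y, hy⟩ := hsurj ⟨c, hc⟩
      exact ⟨y, (congrArg Subtype.val hy).symm⟩

end Cfsg.Agent.S2907
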