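import Cfsg.Statements.S2908
import Cfsg.Agent.Lib.CharP.Coprime
import Mathlib.GroupTheory.Commutator.Basic

set_option autoImplicit false
open Cfsg CfsgLib.CharP
open scoped commutatorElement

namespace Cfsg.Agent.S2908

variable {G : Type*} [Group G]

/-- Three subgroup lemma modulo a normalised subgroup. -/
theorem three_mod {A B C N : Subgroup G} (hA : A ≤ Subgroup.normalizer (N : Set G))
    (hB : B ≤ Subgroup.normalizer (N : Set G)) (hC : C ≤ Subgroup.normalizer (N : Set G))
    (h1 : ⁅⁅B, C⁆, A⁆ ≤ N) (h2 : ⁅⁅C, A⁆, B⁆ ≤ N) : ⁅⁅A, B⁆, C⁆ ≤ N := by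
  set K := Subgroup.normalizer (N : Set G)
  haveI : (N.subgroupOf K).Normal := Subgroup.normal_subgroupOf_of_le_normalizer le_rfl
  have hmap : ∀ X Y Z : Subgroup G, X ≤ K → Y ≤ K → Z ≤ K →
      ((⁅⁅X.subgroupOf K, Y.subgroupOf K⁆, Z.subgroupOf K⁆).map (QuotientGroup.mk' (N.subgroupOf K)) = ⊥ ↔
        ⁅⁅X, Y⁆, Z⁆ ≤ N) := by
    intro X Y Z hX hY hZ
    rw [Subgroup.map_eq_bot_iff, QuotientGroup.ker_mk']
    have e : ((⁅⁅X.subgroupOf K, Y.subgroupOf K⁆, Z.subgroupOf K⁆).map K.subtype) = ⁅⁅X, Y⁆, Z⁆ := by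
      rw [Subgroup.map_commutator, Subgroup.map_commutator, Subgroup.map_subgroupOf_eq_of_le hX,
        Subgroup.map_subgroupOf_eq_of_le hY, Subgroup.map_subgroupOf_eq_of_le hZ]
    rw [← e, Subgroup.map_le_iff_le_comap]
    rfl
  rw [← hmap A B C hA hB hC]
  rw [← hmap B C A hB hC hA] at h1
  rw [← hmap C A B hC hA hB] at h2
  simp only [Subgroup.map_commutator] at h1 h2 ⊢
  exact Subgroup.commutator_commutator_eq_bot_of_rotate h1 h2

theorem normalizes_comm {A X Y : Subgroup G} (hX : A ≤ Subgroup.normalizer (X : Set G))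
    (hY : A ≤ Subgroup.normalizer (Y : Set G)) : A ≤ Subgroup.normalizer ((⁅X, Y⁆ : Subgroup G) : Set G) := by
  have key : ∀ a ∈ A, (⁅X, Y⁆ : Subgroup G).map (MulAut.conj a).toMonoidHom = ⁅X, Y⁆ := by
    intro a ha
    have e : ∀ Z : Subgroup G, A ≤ Subgroup.normalizer (Z : Set G) → Z.map (MulAut.conj a).toMonoidHom = Z := by
      intro Z hZ
      ext z
      rw [mem_map_conj]
      exact (Subgroup.mem_normalizer_iff''.mp (hZ ha) z).symm
    rw [Subgroup.map_commutator, e X hX, e Y hY]
  intro a ha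
  rw [Subgroup.mem_normalizer_iff]
  intro n
  conv_rhs => rw [← key a ha, mem_map_conj]
  simp [mul_assoc]

theorem result {G : Type*} [Group G] [Finite G] {p : ℕ} [Fact p.Prime] (P A B : Subgroup G) (hP : IsPGroup p ↥P) (hA : IsPGroup p ↥A) (hB : ¬ p ∣ Nat.card ↥B) (hnA : A ≤ Subgroup.normalizer (P : Set G)) (hnB : B ≤ Subgroup.normalizer (P : Set G)) (hAB : ⁅A, B⁆ = ⊥) (hcomm : ⁅P, B⁆ ≤ ⁅P, A⁆) : ⁅P, B⁆ = ⊥ := by
  set L := A ⊔ P with hL
  have hLp : IsPGroup p L := IsPGroup.to_sup_of_normal_right' hA hP hnA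
  have hLP : L ≤ Subgroup.normalizer (P : Set G) := sup_le hnA Subgroup.le_normalizer
  have hBc : ∀ a ∈ A, ∀ b ∈ B, a * b = b * a := fun a ha b hb =>
    (Subgroup.mem_centralizer_iff.mp (Subgroup.commutator_eq_bot_iff_le_centralizer.mp hAB ha) b hb).symm
  have hBA : B ≤ Subgroup.normalizer (A : Set G) := fun b hb =>
    Subgroup.centralizer_le_normalizer _ (Subgroup.mem_centralizer_iff.mpr fun a ha => hBc a ha b hb)
  have hBL : B ≤ Subgroup.normalizer (L : Set G) := by
    intro b hb
    have e : ∀ Z : Subgroup G, b ∈ Subgroup.normalizer (Z : Set G) → Z.map (MulAut.conj b).toMonoidHom = Z := by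
      intro Z hZ
      ext z
      rw [mem_map_conj]
      exact (Subgroup.mem_normalizer_iff''.mp hZ z).symm
    have h2 : L.map (MulAut.conj b).toMonoidHom = L := by
      rw [hL, Subgroup.map_sup, e A (hBA hb), e P (hnB hb)]
    rw [Subgroup.mem_normalizer_iff]
    intro n
    conv_rhs => rw [← h2, mem_map_conj]
    simp [mul_assoc]
  obtain ⟨S, hS0, hSs⟩ : ∃ S : ℕ → Subgroup G, S 0 = P ∧ ∀ i, S (i + 1) = ⁅S i, L⁆ :=
    ⟨fun i => Nat.rec P (fun _ X => ⁅X, L⁆) i, rfl, fun _ => rfl⟩
  have hLS : ∀ i, L ≤ Subgroup.normalizer (S i : Set G) := by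
    intro i
    induction i with
    | zero => rw [hS0]; exact hLP
    | succ i ih => rw [hSs]; exact normalizes_comm ih Subgroup.le_normalizer
  have hBS : ∀ i, B ≤ Subgroup.normalizer (S i : Set G) := by
    intro i
    induction i with
    | zero => rw [hS0]; exact hnB
    | succ i ih => rw [hSs]; exact normalizes_comm ih hBL
  have hdec : ∀ i, S (i + 1) ≤ S i := fun i => by
    rw [hSs, Subgroup.commutator_le]
    intro x hx l hl
    rw [commutatorElement_def]
    have h1 : l * x⁻¹ * l⁻¹ ∈ S i :=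
      (Subgroup.mem_normalizer_iff.mp (hLS i hl) _).mp ((S i).inv_mem hx)
    simpa [mul_assoc] using (S i).mul_mem hx h1
  have hSP : ∀ i, S i ≤ P := by
    intro i
    induction i with
    | zero => exact hS0.le
    | succ i ih => exact (hdec i).trans ih
  obtain ⟨n, hn⟩ : ∃ n, S n = ⊥ := by
    haveI := hLp.isNilpotent
    obtain ⟨n, hn⟩ := (Subgroup.isNilpotent_iff_lowerCentralSeries (S := L)).mp inferInstance
    refine ⟨n, eq_bot_iff.mpr ?_⟩
    rw [← hn]
    clear hn
    induction n with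
    | zero => rw [hS0, Subgroup.lowerCentralSeries_zero]; exact le_sup_right
    | succ i ih =>
      rw [hSs, Subgroup.lowerCentralSeries_succ]
      exact Subgroup.commutator_mono ih le_rfl
  have h1L : ⁅L, B⁆ ≤ S 1 := by
    have hPB : ⁅P, B⁆ ≤ S 1 := (hcomm.trans (Subgroup.commutator_mono le_rfl le_sup_left)).trans (by rw [hSs 0, hS0])
    rw [Subgroup.commutator_le]
    intro x hx b hb
    have hall : ∀ x ∈ L, ∀ b ∈ B, ⁅x, b⁆ ∈ S 1 := by
      intro x hx
      rw [hL, Subgroup.sup_eq_closure] at hx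
      induction hx using Subgroup.closure_induction with
      | mem y hy =>
        intro b hb
        rcases hy with hy | hy
        · rw [commutatorElement_eq_one_iff_mul_comm.mpr (hBc y hy b hb)]
          exact (S 1).one_mem
        · exact hPB (Subgroup.commutator_mem_commutator hy hb)
      | one => intro b _; rw [commutatorElement_one_left]; exact (S 1).one_mem
      | mul y z hy _ ihy ihz =>
        intro b hb
        rw [← Subgroup.sup_eq_closure, ← hL] at hy
        have h3 := (Subgroup.mem_normalizer_iff.mp (hLS 1 hy) _).mp (ihz b hb)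
        have e : ⁅y * z, b⁆ = y * ⁅z, b⁆ * y⁻¹ * ⁅y, b⁆ := by
          simp only [commutatorElement_def]; group
        rw [e]
        exact (S 1).mul_mem h3 (ihy b hb)
      | inv y hy ihy =>
        intro b hb
        rw [← Subgroup.sup_eq_closure, ← hL] at hy
        have h3 := (Subgroup.mem_normalizer_iff.mp (hLS 1 (inv_mem hy)) _).mp ((S 1).inv_mem (ihy b hb))
        have e : ⁅y⁻¹, b⁆ = y⁻¹ * ⁅y, b⁆⁻¹ * (y⁻¹)⁻¹ := by
          simp only [commutatorElement_def]; group
        rw [e]
        exact h3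
    exact hall x hx b hb
  have hP1 : ∀ i, ⁅S 1, S i⁆ ≤ S (i + 2) := by
    intro i
    have hn1 : P ≤ Subgroup.normalizer (S (i + 2) : Set G) := le_sup_right.trans (hLS _)
    rw [hSs 0, hS0]
    refine three_mod hn1 (hLS _) (((hSP i).trans hn1)) ?_ ?_
    · rw [Subgroup.commutator_comm L (S i), ← hSs i, hSs (i + 1)]
      exact Subgroup.commutator_mono le_rfl le_sup_right
    · rw [hSs (i + 1), hSs i]
      exact Subgroup.commutator_mono (Subgroup.commutator_mono le_rfl le_sup_right) le_rfl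
  have hmain : ∀ i, ⁅S i, B⁆ ≤ S (i + 1) := by
    intro i
    induction i with
    | zero => rw [hSs 0, hS0]; exact hcomm.trans (Subgroup.commutator_mono le_rfl le_sup_left)
    | succ i ih =>
      conv_lhs => rw [hSs i]
      refine three_mod (((hSP i).trans le_sup_right).trans (hLS _)) (hLS _) (hBS _) ?_ ?_
      · exact (Subgroup.commutator_mono h1L le_rfl).trans (hP1 i)
      · rw [Subgroup.commutator_comm B (S i), hSs (i + 1)]
        exact Subgroup.commutator_mono ih le_rfl
  have hfin : ∀ k, k ≤ n → ∀ q ∈ S (n - k), ∀ b ∈ B, b * q = q * b := by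
    intro k
    induction k with
    | zero =>
      intro _ q hq b _
      rw [Nat.sub_zero, hn, Subgroup.mem_bot] at hq
      simp [hq]
    | succ k ih =>
      intro hk q hq b hb
      have hcop : (orderOf b).Coprime p := by
        refine Nat.Coprime.symm ((Fact.out : p.Prime).coprime_iff_not_dvd.mpr fun hd => hB ?_)
        exact hd.trans (Subgroup.orderOf_dvd_natCard B hb)
      have hd : q⁻¹ * (b * q * b⁻¹) ∈ S (n - k) := by
        have := hmain (n - (k + 1)) (Subgroup.commutator_mem_commutator ((S _).inv_mem hq) hb)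
        rw [show n - (k + 1) + 1 = n - k by omega, commutatorElement_def] at this
        simpa [mul_assoc] using this
      exact commute_of_stab hP hcop (hSP _ hd) (ih (by omega) _ hd b hb)
  rw [Subgroup.commutator_eq_bot_iff_le_centralizer]
  intro q hq
  rw [Subgroup.mem_centralizer_iff]
  intro b hb
  exact hfin n le_rfl q (by rw [Nat.sub_self, hS0]; exact hq) b hb

end Cfsg.Agent.S2908
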