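import Cfsg.Statements.S2909
import Cfsg.Agent.S0058
import Cfsg.Agent.S2908
import Cfsg.Agent.Lib.Solvable.CoprimeAction
import Cfsg.Agent.Lib.CharP.Coprime

set_option autoImplicit false
open Cfsg CfsgLib.CharP
open scoped commutatorElement

namespace Cfsg.Agent.S2909

theorem result {G : Type*} [Group G] [Finite G] {p : ℕ} [Fact p.Prime] (E : Subgroup G) [E.Normal] (hE : IsPGroup p ↥E) (U : Subgroup G) (hU : Cfsg.IsElementaryAbelian p U) (hnc : ¬ IsCyclic ↥U) (hcond : (∀ u ∈ U, u ≠ 1 → E ⊓ Subgroup.centralizer (U : Set G) = E ⊓ Subgroup.centralizer ({u} : Set G)) ∨ (∀ u ∈ U, u ≠ 1 → ⁅E, U⁆ = ⁅E, Subgroup.zpowers u⁆)) (R : Subgroup G) (hR : ¬ p ∣ Nat.card ↥R) (hRU : U ≤ Subgroup.normalizer (R : Set G)) : ⁅R, U⁆ ≤ Subgroup.centralizer (E : Set G) := by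
  obtain ⟨hUc, hUe⟩ := hU
  have hp : p.Prime := Fact.out
  haveI := hUc
  have hUp : IsPGroup p U := fun x => ⟨1, Subtype.ext (by rw [pow_one]; exact hUe x x.2)⟩
  have hcop : (Nat.card U).Coprime (Nat.card R) := by
    obtain ⟨n, hn⟩ := hUp.exists_card_eq
    rw [hn]
    exact Nat.Coprime.pow_left n (hp.coprime_iff_not_dvd.mpr hR)
  have hgen := Cfsg.Agent.S0058.result U R hnc hRU hcop
  have hUU : ∀ u ∈ U, ∀ v ∈ U, u * v = v * u := fun u hu v hv =>
    congrArg Subtype.val (hUc.is_comm.comm ⟨u, hu⟩ ⟨v, hv⟩)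
  set C := Subgroup.centralizer (E : Set G) with hC
  haveI : C.Normal := Subgroup.normal_centralizer
  have key : ∀ u ∈ U, u ≠ 1 → ∀ r ∈ R, r * u = u * r → ∀ v ∈ U, r * v * r⁻¹ * v⁻¹ ∈ C := by
    intro u hu hu1 r hr hru v hv
    set c := r * v * r⁻¹ * v⁻¹ with hcdef
    have hcR : c ∈ R := by
      have := R.mul_mem hr ((Subgroup.mem_normalizer_iff.mp (hRU hv) r⁻¹).mp (R.inv_mem hr))
      simpa [hcdef, mul_assoc] using this
    have hcu : c * u = u * c := by
      have h1 : Commute u v := hUU u hu v hv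
      have h2 : Commute u r := hru.symm
      exact (((h2.mul_right h1).mul_right h2.inv_right).mul_right h1.inv_right).symm.eq
    have hccop : (orderOf c).Coprime p :=
      Nat.Coprime.symm (hp.coprime_iff_not_dvd.mpr fun hd => hR (hd.trans (Subgroup.orderOf_dvd_natCard R hcR)))
    have hconjE : ∀ g : G, ∀ e ∈ E, g * e * g⁻¹ ∈ E := fun g e he => Subgroup.Normal.conj_mem inferInstance e he g
    have hNE : ∀ g : G, g ∈ Subgroup.normalizer (E : Set G) := fun g => by
      rw [Subgroup.normalizer_eq_top]; trivial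
    rcases hcond with h1 | h2
    · refine Subgroup.mem_centralizer_iff.mpr fun e he => pxq (B := Subgroup.zpowers u)
        (hUp.to_le (Subgroup.zpowers_le.mpr hu)) hE (fun g _ => hNE g) hccop (hNE c) ?_ ?_ e he
      · intro b hb
        obtain ⟨k, rfl⟩ := Subgroup.mem_zpowers_iff.mp hb
        exact (Commute.zpow_left (show Commute u c from hcu.symm) k).eq
      · intro e he heu
        have hfix : ∀ e' ∈ E, e' * u = u * e' → ∀ w ∈ U, w * e' = e' * w := by
          intro e' he' he'u w hw
          have : e' ∈ E ⊓ Subgroup.centralizer ({u} : Set G) :=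
            ⟨he', Subgroup.mem_centralizer_singleton_iff.mpr he'u⟩
          rw [← h1 u hu hu1] at this
          exact Subgroup.mem_centralizer_iff.mp this.2 w hw
        have heu' : e * u = u * e := (heu u (Subgroup.mem_zpowers u)).symm
        have hve : v * e = e * v := hfix e he heu' v hv
        have hru' : (r⁻¹ * e * r) * u = u * (r⁻¹ * e * r) := by
          calc (r⁻¹ * e * r) * u = r⁻¹ * e * (r * u) := by group
            _ = r⁻¹ * e * (u * r) := by rw [hru]
            _ = r⁻¹ * (e * u) * r := by group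
            _ = r⁻¹ * (u * e) * r := by rw [heu']
            _ = r⁻¹ * (u * r) * (r⁻¹ * e * r) := by group
            _ = r⁻¹ * (r * u) * (r⁻¹ * e * r) := by rw [hru]
            _ = u * (r⁻¹ * e * r) := by group
        have hve' := hfix _ (by simpa using hconjE r⁻¹ e he) hru' v hv
        symm
        calc c * e = r * v * r⁻¹ * (v⁻¹ * (e * v)) * v⁻¹ := by rw [hcdef]; group
          _ = r * v * r⁻¹ * (v⁻¹ * (v * e)) * v⁻¹ := by rw [hve]
          _ = r * (v * (r⁻¹ * e * r)) * r⁻¹ * v⁻¹ := by group
          _ = r * ((r⁻¹ * e * r) * v) * r⁻¹ * v⁻¹ := by rw [hve']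
          _ = e * c := by rw [hcdef]; group
    · set M := ⁅E, U⁆ with hM
      have hEM : E ≤ Subgroup.normalizer (M : Set G) := CfsgLib.Solvable.le_normalizer_commutator_left E U
      have hUM : U ≤ Subgroup.normalizer (M : Set G) := CfsgLib.Solvable.le_normalizer_commutator_right E U
      have hrM : r ∈ Subgroup.normalizer (M : Set G) := by
        rw [h2 u hu hu1]
        refine S2908.normalizes_comm (A := Subgroup.zpowers r) (fun g _ => hNE g) ?_ (Subgroup.mem_zpowers r)
        refine Subgroup.zpowers_le.mpr (Subgroup.centralizer_le_normalizer _ ?_)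
        exact Subgroup.mem_centralizer_iff.mpr fun b hb => by
          obtain ⟨k, rfl⟩ := Subgroup.mem_zpowers_iff.mp hb
          exact (Commute.zpow_left (show Commute u r from hru.symm) k).eq
      have hconjM : ∀ g ∈ Subgroup.normalizer (M : Set G), ∀ m ∈ M, g * m * g⁻¹ ∈ M := fun g hg m hm =>
        (Subgroup.mem_normalizer_iff.mp hg m).mp hm
      have hstep : ∀ w ∈ U, ∀ e ∈ E, w * e * w⁻¹ * e⁻¹ ∈ M := fun w hw e he => by
        have := M.inv_mem (Subgroup.commutator_mem_commutator he hw : ⁅e, w⁆ ∈ M)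
        simpa [commutatorElement_def, mul_assoc] using this
      have hcM : ∀ e ∈ E, c * e * c⁻¹ * e⁻¹ ∈ M := by
        intro e he
        have e2E : r⁻¹ * e * r ∈ E := by simpa using hconjE r⁻¹ e he
        have m1 := hstep v⁻¹ (U.inv_mem hv) e he
        have m2 := hstep v hv _ e2E
        have hr' := (Subgroup.normalizer (M : Set G)).inv_mem hrM
        have m1' := hconjM _ hrM _ (hconjM v (hUM hv) _ (hconjM _ hr' _ m1))
        have := M.mul_mem m1' (hconjM _ hrM _ m2)
        rw [hcdef]
        simpa [mul_assoc] using this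
      have hle : ⁅E, Subgroup.zpowers c⁆ ≤ ⁅E, Subgroup.zpowers u⁆ := by
        rw [← h2 u hu hu1, Subgroup.commutator_le]
        intro e he g hg
        have hgM : ∀ e' ∈ E, g * e' * g⁻¹ * e'⁻¹ ∈ M := by
          intro e' he'
          obtain ⟨k, rfl⟩ := (mem_powers_iff_mem_zpowers.trans Iff.rfl).mpr hg
          clear hg
          simp only []
          induction k with
          | zero => simp
          | succ k ih =>
            have hcn : c ∈ Subgroup.normalizer (M : Set G) := by
              rw [hcdef]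
              exact Subgroup.mul_mem _ (Subgroup.mul_mem _ (Subgroup.mul_mem _ hrM (hUM hv))
                (Subgroup.inv_mem _ hrM)) (Subgroup.inv_mem _ (hUM hv))
            have := M.mul_mem (hconjM c hcn _ ih) (hcM e' he')
            simpa [pow_succ', mul_assoc] using this
        have := M.inv_mem (hgM e he)
        simpa [commutatorElement_def, mul_assoc] using this
      have hB : ¬ p ∣ Nat.card ↥(Subgroup.zpowers c) := by
        rw [Nat.card_zpowers]
        exact hp.coprime_iff_not_dvd.mp hccop.symm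
      have hcom : ⁅Subgroup.zpowers u, Subgroup.zpowers c⁆ = ⊥ := by
        rw [Subgroup.commutator_eq_bot_iff_le_centralizer, Subgroup.zpowers_le, centralizer_zp]
        exact Subgroup.mem_centralizer_singleton_iff.mpr hcu.symm
      have hres := S2908.result E (Subgroup.zpowers u) (Subgroup.zpowers c) hE
        (hUp.to_le (Subgroup.zpowers_le.mpr hu)) hB (fun g _ => hNE g) (fun g _ => hNE g) hcom hle
      rw [Subgroup.commutator_eq_bot_iff_le_centralizer, centralizer_zp] at hres
      exact Subgroup.mem_centralizer_iff.mpr fun e he =>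
        Subgroup.mem_centralizer_singleton_iff.mp (hres he)
  have hle : R ≤ (Subgroup.centralizer ((U.map (QuotientGroup.mk' C) : Subgroup (G ⧸ C)) : Set (G ⧸ C))).comap
      (QuotientGroup.mk' C) := by
    conv_lhs => rw [← hgen]
    refine iSup₂_le fun u hu r hr => ?_
    rw [Subgroup.mem_comap, Subgroup.mem_centralizer_iff]
    rintro _ ⟨v, hv, rfl⟩
    have h := key u hu.1 hu.2 r hr.1 (Subgroup.mem_centralizer_singleton_iff.mp hr.2) v hv
    rw [← QuotientGroup.eq_one_iff] at h
    change QuotientGroup.mk' C (r * v * r⁻¹ * v⁻¹) = 1 at h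
    rw [map_mul, map_mul, map_mul, map_inv, map_inv, mul_inv_eq_one, mul_inv_eq_iff_eq_mul] at h
    exact h.symm
  rw [Subgroup.commutator_le]
  intro r hr v hv
  have h := Subgroup.mem_centralizer_iff.mp (hle hr) _ ⟨v, hv, rfl⟩
  rw [← QuotientGroup.eq_one_iff]
  change QuotientGroup.mk' C ⁅r, v⁆ = 1
  rw [map_commutatorElement, commutatorElement_eq_one_iff_mul_comm]
  exact h.symm
where
  centralizer_zp {G : Type _} [Group G] {z : G} :
      Subgroup.centralizer ((Subgroup.zpowers z : Subgroup G) : Set G) = Subgroup.centralizer ({z} : Set G) := by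
    rw [Subgroup.zpowers_eq_closure, Subgroup.centralizer_closure]

end Cfsg.Agent.S2909
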