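import Cfsg.Statements.S2910
import Cfsg.Agent.S0120
import Cfsg.Agent.Lib.Transfer.Tate

set_option autoImplicit false
open Cfsg

namespace Cfsg.Agent.S2910

/-- Let p be an odd prime dividing the order of the finite group G and P a Sylow p-subgroup of G. If Ω₁(P) (generated by the elements of order dividing p) is contained in the centre of G, then G has a normal p-complement. In particular, if G is quasisimple then Ω₁(P) is not central in G. -/
theorem result {G : Type*} [Group G] [Finite G] {p : ℕ} [Fact p.Prime] (hp : p ≠ 2) (hdiv : p ∣ Nat.card G) (P : Sylow p G) (hZ : Cfsg.omegaOne p (P : Subgroup G) ≤ Subgroup.center G) : Cfsg.HasNormalPComplement p G ∧ ¬ Cfsg.IsQuasisimple G := by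
  have hpp : p.Prime := Fact.out
  have hcent : ∀ D : Subgroup G, IsPGroup p D → ∀ x ∈ D, x ^ p = 1 → x ∈ Subgroup.center G := by
    intro D hD x hx hxp
    obtain ⟨Q, hQ⟩ := hD.exists_le_sylow
    obtain ⟨g, hg⟩ := MulAction.exists_smul_eq G P Q
    have h1 : x ∈ ((g • P : Sylow p G) : Subgroup G) := by rw [hg]; exact hQ hx
    rw [Sylow.smul_def, Sylow.pointwise_smul_def, Subgroup.mem_pointwise_smul_iff_inv_smul_mem] at h1
    have h2 : g⁻¹ * x * g ∈ (P : Subgroup G) := by simpa using h1
    have h3 : g⁻¹ * x * g ∈ Subgroup.center G := by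
      refine hZ (Subgroup.subset_closure ⟨h2, ?_⟩)
      have h4 := conj_pow (i := p) (a := g⁻¹) (b := x)
      rw [inv_inv] at h4
      rw [h4, hxp, mul_one, inv_mul_cancel]
    have h5 := Subgroup.mem_center_iff.mp h3 g
    have h6 : g⁻¹ * x * g = x := by
      have : g * (g⁻¹ * x * g) * g⁻¹ = g⁻¹ * x * g * g * g⁻¹ := by rw [h5]
      calc g⁻¹ * x * g = g⁻¹ * x * g * g * g⁻¹ := by group
        _ = g * (g⁻¹ * x * g) * g⁻¹ := this.symm
        _ = x := by group
    rwa [h6] at h3
  have hcomp : Cfsg.HasNormalPComplement p G := by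
    refine CfsgLib.Transfer.hasNormalPComplement_of_frobenius fun D hD g hg hgc => ?_
    have ha : Nat.Coprime (orderOf (Subgroup.normalizerMonoidHom D ⟨g, hg⟩)) p := by
      refine Nat.Coprime.of_dvd_left ?_ hgc
      have h := orderOf_map_dvd (Subgroup.normalizerMonoidHom D) ⟨g, hg⟩
      rwa [Subgroup.orderOf_mk] at h
    have hfix : ∀ x : D, x ^ p = 1 → Subgroup.normalizerMonoidHom D ⟨g, hg⟩ x = x := by
      intro x hx
      have hxc := hcent D hD (x : G) x.2 (by
        have := congrArg Subtype.val hx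
        simpa using this)
      apply Subtype.ext
      show g * (x : G) * g⁻¹ = x
      rw [Subgroup.mem_center_iff.mp hxc g, mul_inv_cancel_right]
    have h1 := Cfsg.Agent.S0120.result hp hD _ ha hfix
    rw [Subgroup.mem_centralizer_iff]
    intro d hd
    have h2 : Subgroup.normalizerMonoidHom D ⟨g, hg⟩ ⟨d, hd⟩ = ⟨d, hd⟩ := by rw [h1]; rfl
    have h3 : g * d * g⁻¹ = d := congrArg Subtype.val h2
    calc d * g = g * d * g⁻¹ * g := by rw [h3]
      _ = g * d := by group
  refine ⟨hcomp, ?_⟩
  rintro ⟨hperf, -⟩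
  obtain ⟨Q, N, hN, hc⟩ := hcomp
  haveI := hN
  haveI hpg : IsPGroup p (G ⧸ N) := by
    refine IsPGroup.of_card (n := (Nat.card G).factorization p) ?_
    rw [← Subgroup.index_eq_card, hc.symm.index_eq_card, Q.card_eq_multiplicity]
  haveI : Group.IsNilpotent (G ⧸ N) := hpg.isNilpotent
  have hq : Subsingleton (G ⧸ N) := by
    by_contra hne
    rw [not_subsingleton_iff_nontrivial] at hne
    have hlt : commutator (G ⧸ N) < ⊤ := IsSolvable.commutator_lt_top_of_nontrivial (G ⧸ N)
    have htop : commutator (G ⧸ N) = ⊤ := by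
      have h := Subgroup.map_commutator (⊤ : Subgroup G) ⊤ (QuotientGroup.mk' N)
      rw [Subgroup.map_top_of_surjective _ (QuotientGroup.mk'_surjective N)] at h
      rw [commutator_def, ← h, ← commutator_def, hperf.commutator_eq_top,
        Subgroup.map_top_of_surjective _ (QuotientGroup.mk'_surjective N)]
    exact hlt.ne htop
  have h1 : N.index = 1 := by rw [Subgroup.index_eq_card]; exact Nat.card_eq_one_iff_unique.mpr ⟨hq, inferInstance⟩
  rw [hc.symm.index_eq_card, Q.card_eq_multiplicity, pow_eq_one_iff_right hpp.one_lt.ne'] at h1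
  have h2 := Nat.Prime.factorization_pos_of_dvd hpp (Nat.card_pos).ne' hdiv
  omega

end Cfsg.Agent.S2910
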