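import Cfsg.Statements.S2911
import Cfsg.Agent.Lib.Fusion.ThompsonTransfer
import Mathlib.GroupTheory.SpecificGroups.Dihedral
import Mathlib.Algebra.BigOperators.Group.Finset.Basic
import Mathlib.Tactic.Group

set_option autoImplicit false
open Cfsg CfsgLib.ThompsonTransfer

namespace Cfsg.Agent.S2911

open Subgroup MulAction in
/-- A central involution of a Sylow 2-subgroup fixed by its normalizer lies outside a normal
subgroup of index 2 as soon as it lies outside an index 2 subgroup of that Sylow subgroup. -/
theorem index_two_of_fixed {G : Type*} [Group G] [Finite G] (P : Sylow 2 G) (φ : ↥(P : Subgroup G) →* ℤˣ)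
    (u : ↥(P : Subgroup G)) (hu : u ^ 2 = 1) (hφ : φ u = -1)
    (hcen : ∀ t ∈ (P : Subgroup G), t * (u : G) = u * t)
    (hN : ∀ g : G, g ∈ normalizer ((P : Subgroup G) : Set G) → g⁻¹ * u * g = u) :
    ∃ H : Subgroup G, H.index = 2 := by
  classical
  haveI : Fact (Nat.Prime 2) := ⟨Nat.prime_two⟩
  let f : G →* ℤˣ := MonoidHom.transfer φ
  let := (P : Subgroup G).fintypeQuotientOfFiniteIndex
  -- the weight of a coset fixed by `u`
  let w : G ⧸ (P : Subgroup G) → ℤˣ := fun x =>
    if h : x.out⁻¹ * u * x.out ∈ (P : Subgroup G) then φ ⟨_, h⟩ else 1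
  have hout : ∀ x : G ⧸ (P : Subgroup G), (u : G) • x = x ↔ x.out⁻¹ * u * x.out ∈ (P : Subgroup G) := by
    intro x
    conv_lhs => rw [← QuotientGroup.out_eq' x]
    rw [MulAction.Quotient.smul_mk, eq_comm, QuotientGroup.eq]
    simp [mul_assoc]
  have hfu : f u = ∏ x, w x := by
    show MonoidHom.transfer φ (u : G) = _
    rw [MonoidHom.transfer_eq_prod_quotient_orbitRel_zpowers_quot,
      ← Fintype.prod_fiberwise (fun x : G ⧸ (P : Subgroup G) =>
        (Quotient.mk (orbitRel (zpowers (u : G)) (G ⧸ (P : Subgroup G))) x)) w]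
    refine Finset.prod_congr rfl fun q _ => ?_
    have hper : Function.IsPeriodicPt ((u : G) • ·) 2 q.out := by
      show ((u : G) • ·)^[2] q.out = q.out
      rw [smul_iterate]
      have : (u : G) ^ 2 = 1 := by rw [← Subgroup.coe_pow, hu, Subgroup.coe_one]
      simp [this]
    rcases (Nat.dvd_prime Nat.prime_two).1 hper.minimalPeriod_dvd with h | h
    · have hfx : (u : G) • q.out = q.out := by
        have := Function.isPeriodicPt_minimalPeriod ((u : G) • ·) q.out
        rw [h] at this
        exact this
      have hall : ∀ x, Quotient.mk (orbitRel (zpowers (u : G)) (G ⧸ (P : Subgroup G))) x = q → x = q.out := by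
        intro x hx
        have hr : (orbitRel (zpowers (u : G)) (G ⧸ (P : Subgroup G))) x q.out :=
          Quotient.exact (hx.trans q.out_eq.symm)
        obtain ⟨⟨v, hv⟩, hvx⟩ := MulAction.mem_orbit_iff.mp hr
        obtain ⟨k, rfl⟩ := Subgroup.mem_zpowers_iff.mp hv
        rw [← hvx]
        exact MulAction.mem_stabilizer_iff.mp
          ((MulAction.stabilizer G q.out).zpow_mem (MulAction.mem_stabilizer_iff.mpr hfx) k)
      have hu1 : q.out.out⁻¹ * (u : G) * q.out.out ∈ (P : Subgroup G) := (hout _).mp hfx
      rw [Fintype.prod_eq_single (⟨q.out, q.out_eq⟩ : {x // Quotient.mk _ x = q})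
        (fun x hx => absurd (Subtype.ext (hall x.1 x.2)) hx)]
      show φ _ = w q.out
      simp only [w, dif_pos hu1]
      congr 1
      exact Subtype.ext (by simp [h])
    · have hone : ∀ x, Quotient.mk (orbitRel (zpowers (u : G)) (G ⧸ (P : Subgroup G))) x = q → w x = 1 := by
        intro x hx
        simp only [w]
        rw [dif_neg]
        intro hmem
        have hfx := (hout x).mpr hmem
        have hr : (orbitRel (zpowers (u : G)) (G ⧸ (P : Subgroup G))) q.out x :=
          Quotient.exact (q.out_eq.trans hx.symm)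
        obtain ⟨⟨v, hv⟩, hvx⟩ := MulAction.mem_orbit_iff.mp hr
        obtain ⟨k, rfl⟩ := Subgroup.mem_zpowers_iff.mp hv
        have hxq : q.out = x := by
          rw [← hvx]
          exact MulAction.mem_stabilizer_iff.mp
            ((MulAction.stabilizer G x).zpow_mem (MulAction.mem_stabilizer_iff.mpr hfx) k)
        have h1 : Function.IsPeriodicPt ((u : G) • ·) 1 q.out := by
          show (u : G) • q.out = q.out
          rw [hxq]; exact hfx
        have := h1.minimalPeriod_dvd
        rw [h] at this
        norm_num at this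
      rw [Finset.prod_eq_one fun x _ => hone x.1 x.2]
      refine Eq.trans (congrArg φ (Subtype.ext ?_)) (map_one φ)
      show q.out.out⁻¹ * (u : G) ^ Function.minimalPeriod ((u : G) • ·) q.out * q.out.out = 1
      have : (u : G) ^ 2 = 1 := by rw [← Subgroup.coe_pow, hu, Subgroup.coe_one]
      rw [h, this, mul_one, inv_mul_cancel]
  -- the weight is invariant under `P`
  have hinv : ∀ t : ↥(P : Subgroup G), ∀ x, w (t • x) = -1 ↔ w x = -1 := by
    have key : ∀ t : ↥(P : Subgroup G), ∀ x, w x = -1 → w (t • x) = -1 := by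
      intro t x hx
      simp only [w] at hx ⊢
      by_cases h : x.out⁻¹ * u * x.out ∈ (P : Subgroup G)
      · rw [dif_pos h] at hx
        have hq : (QuotientGroup.mk ((t • x).out) : G ⧸ (P : Subgroup G)) = QuotientGroup.mk ((t : G) * x.out) := by
          rw [QuotientGroup.out_eq']
          show (t : G) • x = _
          conv_lhs => rw [← QuotientGroup.out_eq' x]
          rw [MulAction.Quotient.smul_mk]
          rfl
        rw [QuotientGroup.eq] at hq
        set g := (t • x).out with hg
        set p' : ↥(P : Subgroup G) := ⟨_, hq⟩ with hp'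
        have he : g⁻¹ * (u : G) * g = (p' : G) * (x.out⁻¹ * u * x.out) * (p' : G)⁻¹ := by
          show g⁻¹ * (u : G) * g = g⁻¹ * ((t : G) * x.out) * (x.out⁻¹ * u * x.out) * (g⁻¹ * ((t : G) * x.out))⁻¹
          calc g⁻¹ * (u : G) * g = g⁻¹ * ((u : G) * t) * (t : G)⁻¹ * g := by group
            _ = g⁻¹ * ((t : G) * u) * (t : G)⁻¹ * g := by rw [hcen t t.2]
            _ = _ := by group
        have hmem : g⁻¹ * (u : G) * g ∈ (P : Subgroup G) := by
          rw [he]
          exact mul_mem (mul_mem p'.2 h) (inv_mem p'.2)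
        rw [dif_pos hmem]
        have e2 : (⟨_, hmem⟩ : ↥(P : Subgroup G)) = p' * ⟨_, h⟩ * p'⁻¹ := Subtype.ext he
        rw [e2, map_mul, map_mul, map_inv, mul_comm (φ p'), mul_inv_cancel_right, hx]
      · rw [dif_neg h] at hx
        exact absurd hx (by decide)
    intro t x
    exact ⟨fun h => by simpa using key t⁻¹ _ h, key t x⟩
  -- parity
  let N : SubMulAction ↥(P : Subgroup G) (G ⧸ (P : Subgroup G)) :=
    { carrier := {x | w x = -1}, smul_mem' := fun t x hx => (hinv t x).mpr hx }
  have hfix : ∀ x : G ⧸ (P : Subgroup G), x ∈ fixedPoints ↥(P : Subgroup G) (G ⧸ (P : Subgroup G)) → w x = -1 := by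
    intro x hx
    have hN' : x.out ∈ normalizer ((P : Subgroup G) : Set G) := by
      refine Subgroup.mem_normalizer_iff''.mpr ?_
      have hall : ∀ t ∈ (P : Subgroup G), x.out⁻¹ * t * x.out ∈ (P : Subgroup G) := by
        intro t ht
        have h1 : t • x = x := hx ⟨t, ht⟩
        conv_lhs at h1 => rw [← QuotientGroup.out_eq' x]
        conv_rhs at h1 => rw [← QuotientGroup.out_eq' x]
        rw [MulAction.Quotient.smul_mk, eq_comm, QuotientGroup.eq] at h1
        simpa [mul_assoc] using h1
      have heq : (P : Subgroup G).map (MulAut.conj x.out⁻¹).toMonoidHom = P := by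
        refine Subgroup.eq_of_le_of_card_ge ?_ (Subgroup.card_map_of_injective (MulAut.conj _).injective).ge
        rintro _ ⟨t, ht, rfl⟩
        simpa using hall t ht
      intro n
      refine ⟨fun hn => hall n hn, fun hn => ?_⟩
      obtain ⟨m, hm, hmn⟩ := Subgroup.mem_map.mp (heq.ge hn)
      simp only [MulEquiv.coe_toMonoidHom, MulAut.conj_apply, inv_inv] at hmn
      rwa [← mul_left_cancel (mul_right_cancel hmn)]
    simp only [w]
    have hu1 := hN _ hN'
    rw [dif_pos (by rw [hu1]; exact u.2)]
    rw [← hφ]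
    exact congrArg φ (Subtype.ext hu1)
  have hcount : Odd (Finset.univ.filter fun x => w x = -1).card := by
    have h1 := P.isPGroup'.card_modEq_card_fixedPoints (↥N)
    have h2 := P.isPGroup'.card_modEq_card_fixedPoints (G ⧸ (P : Subgroup G))
    have e : Nat.card (fixedPoints ↥(P : Subgroup G) ↥N) =
        Nat.card (fixedPoints ↥(P : Subgroup G) (G ⧸ (P : Subgroup G))) := by
      refine Nat.card_congr
        { toFun := fun x => ⟨x.1.1, fun t => congrArg Subtype.val (x.2 t)⟩
          invFun := fun x => ⟨⟨x.1, hfix x.1 x.2⟩, fun t => Subtype.ext (x.2 t)⟩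
          left_inv := fun x => rfl
          right_inv := fun x => rfl }
    have h3 : Nat.card ↥N = (Finset.univ.filter fun x => w x = -1).card := by
      rw [← Fintype.card_subtype, Nat.card_eq_fintype_card]
      exact Fintype.card_congr (Equiv.refl _)
    rw [h3, e] at h1
    have hodd : ¬ 2 ∣ Nat.card (G ⧸ (P : Subgroup G)) := P.not_dvd_index
    rw [Nat.odd_iff]
    unfold Nat.ModEq at h1 h2
    omega
  have hprod : f u = -1 := by
    rw [hfu, ← Finset.prod_filter_mul_prod_filter_not Finset.univ (fun x => w x = -1),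
      Finset.prod_congr rfl (fun x hx => (Finset.mem_filter.mp hx).2), Finset.prod_const,
      Finset.prod_eq_one (s := Finset.univ.filter fun x => ¬ w x = -1) (fun x hx =>
        (Int.units_eq_one_or (w x)).resolve_right (Finset.mem_filter.mp hx).2),
      mul_one, hcount.neg_one_pow]
  refine ⟨f.ker, ?_⟩
  have hsurj : Function.Surjective f := by
    intro z
    rcases Int.units_eq_one_or z with rfl | rfl
    · exact ⟨1, map_one f⟩
    · exact ⟨u, hprod⟩
  rw [Subgroup.index, Nat.card_congr (QuotientGroup.quotientKerEquivOfSurjective f hsurj).toEquiv,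
    Nat.card_eq_fintype_card, Fintype.card_units_int]

/-- The model group. -/
abbrev D := Multiplicative (ZMod 2) × DihedralGroup 4

theorem center_model : ∀ x : D, (∀ y : D, x * y = y * x) →
    x = 1 ∨ x = (1, DihedralGroup.r 2) ∨ x = (Multiplicative.ofAdd 1, 1) ∨
      x = (Multiplicative.ofAdd 1, DihedralGroup.r 2) := by decide

theorem square_model : ∀ x : D, x * x = 1 ∨ x * x = (1, DihedralGroup.r 2) := by decide

theorem central_a : ∀ y : D, (Multiplicative.ofAdd (1 : ZMod 2), (1 : DihedralGroup 4)) * y =
    y * (Multiplicative.ofAdd (1 : ZMod 2), (1 : DihedralGroup 4)) := by decide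

theorem result {G : Type*} [Group G] [Finite G] (S : Sylow 2 G) (hS : Nonempty (↥(S : Subgroup G) ≃* Multiplicative (ZMod 2) × DihedralGroup 4)) : ∃ H : Subgroup G, H.index = 2 := by
  obtain ⟨e⟩ := hS
  haveI : Fact (Nat.Prime 2) := ⟨Nat.prime_two⟩
  let ε : Multiplicative (ZMod 2) →* ℤˣ :=
    { toFun := fun v => if Multiplicative.toAdd v = 0 then 1 else -1
      map_one' := by decide
      map_mul' := by decide }
  let φ : ↥(S : Subgroup G) →* ℤˣ := (ε.comp (MonoidHom.fst _ _)).comp e.toMonoidHom
  let A : D := (Multiplicative.ofAdd 1, 1)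
  let C : D := (1, DihedralGroup.r 2)
  let u : ↥(S : Subgroup G) := e.symm A
  have hA2 : A ^ 2 = 1 := by decide
  have hφ : φ u = -1 := by
    show ε (e (e.symm A)).1 = -1
    rw [e.apply_symm_apply]
    decide
  have hcen : ∀ t ∈ (S : Subgroup G), t * (u : G) = u * t := by
    intro t ht
    have : (⟨t, ht⟩ : ↥(S : Subgroup G)) * u = u * ⟨t, ht⟩ := by
      apply e.injective
      rw [map_mul, map_mul, e.apply_symm_apply]
      exact (central_a _).symm
    exact congrArg Subtype.val this
  refine index_two_of_fixed S φ u (by rw [← map_pow, hA2, map_one]) hφ hcen fun g hg => ?_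
  set N := Subgroup.normalizer ((S : Subgroup G) : Set G) with hNdef
  -- conjugation by normalising elements
  let σ : ∀ h : G, h ∈ N → ↥(S : Subgroup G) → D := fun h hh x =>
    e ⟨h * (x : G) * h⁻¹, (Subgroup.mem_normalizer_iff.mp hh (x : G)).mp x.2⟩
  have hσmul : ∀ h (hh : h ∈ N) x y, σ h hh (x * y) = σ h hh x * σ h hh y := by
    intro h hh x y
    show e _ = e _ * e _
    rw [← map_mul]
    exact congrArg e (Subtype.ext (by simp [mul_assoc]))
  have hcases : ∀ h (hh : h ∈ N), σ h hh u = A ∨ σ h hh u = A * C := by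
    intro h hh
    have hcenter : ∀ y : D, σ h hh u * y = y * σ h hh u := by
      intro y
      have hy : σ h⁻¹ (inv_mem hh) (e.symm y) = e ⟨_, (Subgroup.mem_normalizer_iff.mp (inv_mem hh) _).mp (e.symm y).2⟩ := rfl
      have h1 := hcen (h⁻¹ * (e.symm y : G) * h)
        ((Subgroup.mem_normalizer_iff''.mp hh _).mp (e.symm y).2)
      have h2 : (⟨h * (u : G) * h⁻¹, (Subgroup.mem_normalizer_iff.mp hh _).mp u.2⟩ : ↥(S : Subgroup G)) * e.symm y =
          e.symm y * ⟨h * (u : G) * h⁻¹, (Subgroup.mem_normalizer_iff.mp hh _).mp u.2⟩ := by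
        refine Subtype.ext ?_
        show h * (u : G) * h⁻¹ * (e.symm y : G) = (e.symm y : G) * (h * u * h⁻¹)
        calc h * (u : G) * h⁻¹ * (e.symm y : G) = h * ((u : G) * (h⁻¹ * (e.symm y : G) * h)) * h⁻¹ := by group
          _ = h * ((h⁻¹ * (e.symm y : G) * h) * u) * h⁻¹ := by rw [h1]
          _ = _ := by group
      have h3 := congrArg e h2
      rw [map_mul, map_mul, e.apply_symm_apply] at h3
      exact h3
    have hC : σ h hh (e.symm C) = C := by
      obtain ⟨r, hr⟩ : ∃ r : D, C = r * r := ⟨(1, DihedralGroup.r 1), by decide⟩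
      rcases square_model (σ h hh (e.symm r)) with h' | h'
      · exfalso
        rw [← hσmul h hh, ← map_mul, ← hr] at h'
        have h4 : h * (e.symm C : G) * h⁻¹ = 1 := congrArg Subtype.val (e.map_eq_one_iff.mp h')
        rw [conj_eq_one_iff] at h4
        have : e.symm C = 1 := Subtype.ext h4
        rw [e.symm.map_eq_one_iff] at this
        exact absurd this (by decide)
      · rw [← hσmul h hh, ← map_mul, ← hr] at h'
        exact h'
    have hinj : ∀ x y, σ h hh x = σ h hh y → x = y := fun x y hxy => by
      have := congrArg Subtype.val (e.injective hxy)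
      exact Subtype.ext (mul_left_cancel (mul_right_cancel this))
    rcases center_model _ hcenter with h' | h' | h' | h'
    · exfalso
      have h1 : σ h hh 1 = 1 := by
        show e _ = 1
        rw [e.map_eq_one_iff]; exact Subtype.ext (by simp)
      have : e.symm A = 1 := hinj _ _ (h'.trans h1.symm)
      rw [e.symm.map_eq_one_iff] at this
      exact absurd this (by decide)
    · exfalso
      have : e.symm A = e.symm C := hinj _ _ (h'.trans hC.symm)
      exact absurd (e.symm.injective this) (by decide)
    · exact Or.inl h'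
    · refine Or.inr (h'.trans ?_); decide
  -- composition
  have hCfix : ∀ h (hh : h ∈ N), h * (e.symm C : G) * h⁻¹ = (e.symm C : G) := by
    intro h hh
    obtain ⟨r, hr⟩ : ∃ r : D, C = r * r := ⟨(1, DihedralGroup.r 1), by decide⟩
    rcases square_model (σ h hh (e.symm r)) with h' | h'
    · exfalso
      rw [← hσmul h hh, ← map_mul, ← hr] at h'
      have h4 : h * (e.symm C : G) * h⁻¹ = 1 := congrArg Subtype.val (e.map_eq_one_iff.mp h')
      rw [conj_eq_one_iff] at h4
      have : e.symm C = 1 := Subtype.ext h4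
      rw [e.symm.map_eq_one_iff] at this
      exact absurd this (by decide)
    · rw [← hσmul h hh, ← map_mul, ← hr] at h'
      have := congrArg e.symm h'
      rw [e.symm_apply_apply] at this
      exact congrArg Subtype.val this
  have hval : ∀ h (hh : h ∈ N), h * (u : G) * h⁻¹ = u ∨ h * (u : G) * h⁻¹ = u * (e.symm C : G) := by
    intro h hh
    rcases hcases h hh with h' | h'
    · left
      have := congrArg e.symm h'
      rw [e.symm_apply_apply] at this
      exact congrArg Subtype.val this
    · right
      have := congrArg e.symm h'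
      rw [e.symm_apply_apply, map_mul] at this
      exact congrArg Subtype.val this
  by_contra hne
  have hmove : g * (u : G) * g⁻¹ = u * (e.symm C : G) := (hval g hg).resolve_left fun h => hne (by
    calc g⁻¹ * (u : G) * g = g⁻¹ * (g * u * g⁻¹) * g := by rw [h]
      _ = u := by group)
  have hCC : (e.symm C : G) * (e.symm C : G) = 1 := by
    rw [← Subgroup.coe_mul, ← map_mul, show C * C = 1 by decide, map_one, Subgroup.coe_one]
  have hpow : ∀ k : ℕ, g ^ k * (u : G) * (g ^ k)⁻¹ = u * (e.symm C : G) ^ k := by
    intro k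
    induction k with
    | zero => simp
    | succ k ih =>
      calc g ^ (k + 1) * (u : G) * (g ^ (k + 1))⁻¹ = g * (g ^ k * u * (g ^ k)⁻¹) * g⁻¹ := by
            rw [pow_succ']; group
        _ = g * (u * (e.symm C : G) ^ k) * g⁻¹ := by rw [ih]
        _ = (g * u * g⁻¹) * (g * (e.symm C : G) ^ k * g⁻¹) := by group
        _ = u * (e.symm C : G) * (e.symm C : G) ^ k := by rw [hmove, ← conj_pow, hCfix g hg]
        _ = u * (e.symm C : G) ^ (k + 1) := by rw [pow_succ', mul_assoc]
  haveI : ((S : Subgroup G).subgroupOf N).Normal := Subgroup.normal_in_normalizer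
  set m := ((S : Subgroup G).subgroupOf N).index with hm
  have hmS : g ^ m ∈ (S : Subgroup G) := Subgroup.pow_index_mem ((S : Subgroup G).subgroupOf N) ⟨g, hg⟩
  have hodd : Odd m := by
    rw [Nat.odd_iff, ← Nat.two_dvd_ne_zero]
    intro h2
    refine S.not_dvd_index (h2.trans ?_)
    exact Subgroup.relIndex_dvd_index_of_le Subgroup.le_normalizer
  have h1 := hpow m
  rw [hcen _ hmS] at h1
  obtain ⟨j, hj⟩ := hodd
  rw [mul_inv_cancel_right, hj, pow_succ (e.symm C : G), pow_mul (e.symm C : G), pow_two (e.symm C : G), hCC, one_pow, one_mul] at h1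
  have h2 : e.symm C = 1 := Subtype.ext (left_eq_mul.mp h1)
  rw [e.symm.map_eq_one_iff] at h2
  exact absurd h2 (by decide)

end Cfsg.Agent.S2911
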