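import Cfsg.Statements.S2912
import Mathlib.RingTheory.AdjoinRoot
import Mathlib.RingTheory.Polynomial.Cyclotomic.Basic
import Mathlib.LinearAlgebra.FiniteDimensional.Basic
import Mathlib.LinearAlgebra.LinearIndependent.Defs
import Mathlib.RingTheory.LittleWedderburn
import Mathlib.FieldTheory.Finiteness

set_option autoImplicit false
open Cfsg
open scoped commutatorElement
open Polynomial

namespace Cfsg.Agent.S2912

/-- A group of class two acting by operators with scalar faithful centre has
`|E / Z(E)| ≤ dim²`. -/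
theorem index_center_le {K V E : Type*} [Field K] [AddCommGroup V] [Module K V] [FiniteDimensional K V]
    [Nontrivial V] [Group E] [Finite E] (hcomm : ∀ g e : E, ⁅g, e⁆ ∈ Subgroup.center E)
    (ρ : E →* Module.End K V) (s : E → K)
    (hs : ∀ c ∈ Subgroup.center E, ρ c = s c • (1 : Module.End K V))
    (hinj : ∀ c ∈ Subgroup.center E, ρ c = 1 → c = 1) :
    (Subgroup.center E).index ≤ (Module.finrank K V) ^ 2 := by
  classical
  haveI : Nontrivial (Module.End K V) := Module.End.instNontrivial
  have hs_inj : ∀ a b : K, a • (1 : Module.End K V) = b • (1 : Module.End K V) → a = b :=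
    fun a b h => smul_left_injective K (one_ne_zero (α := Module.End K V)) h
  have hs1 : s 1 = 1 := hs_inj _ _ (by rw [← hs 1 (one_mem _), map_one, one_smul])
  have hsmul : ∀ a b : E, a ∈ Subgroup.center E → b ∈ Subgroup.center E → s (a * b) = s a * s b := by
    intro a b ha hb
    refine hs_inj _ _ ?_
    rw [← hs _ (mul_mem ha hb), map_mul, hs a ha, hs b hb, smul_mul_smul_comm, one_mul]
  -- the character attached to an element
  have hchar : ∀ e g h : E, ⁅g * h, e⁆ = ⁅g, e⁆ * ⁅h, e⁆ := by
    intro e g h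
    have h1 : ⁅g * h, e⁆ = g * ⁅h, e⁆ * g⁻¹ * ⁅g, e⁆ := by
      simp only [commutatorElement_def]; group
    rw [h1, Subgroup.mem_center_iff.mp (hcomm h e) g, mul_inv_cancel_right]
    exact (Subgroup.mem_center_iff.mp (hcomm h e) ⁅g, e⁆).symm
  let χ : E → (E →* K) := fun e =>
    { toFun := fun g => s ⁅g, e⁆
      map_one' := by simp [commutatorElement_def, hs1]
      map_mul' := fun g h => by rw [hchar, hsmul _ _ (hcomm g e) (hcomm h e)] }
  have hχeq : ∀ e e' : E, χ e = χ e' → e⁻¹ * e' ∈ Subgroup.center E := by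
    intro e e' h
    rw [Subgroup.mem_center_iff]
    intro g
    have h1 : s ⁅g, e⁆ = s ⁅g, e'⁆ := DFunLike.congr_fun h g
    have h2 : ρ (⁅g, e⁆⁻¹ * ⁅g, e'⁆) = 1 := by
      rw [map_mul, hs _ (hcomm g e'), ← h1, ← hs _ (hcomm g e), ← map_mul, inv_mul_cancel, map_one]
    have h3 : ⁅g, e⁆ = ⁅g, e'⁆ := inv_mul_eq_one.mp (hinj _ (mul_mem (inv_mem (hcomm g e)) (hcomm g e')) h2)
    simp only [commutatorElement_def] at h3
    have h4 : g * e * g⁻¹ = g * e' * g⁻¹ * e'⁻¹ * e := by rw [← h3]; group
    calc g * (e⁻¹ * e') = (g * e * g⁻¹)⁻¹ * (g * e' * g⁻¹) * g := by group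
      _ = (g * e' * g⁻¹ * e'⁻¹ * e)⁻¹ * (g * e' * g⁻¹) * g := by rw [h4]
      _ = e⁻¹ * e' * g := by group
  have hρ : ∀ g e : E, ρ g * ρ e * ρ g⁻¹ = χ e g • ρ e := by
    intro g e
    have h1 : g * e * g⁻¹ = ⁅g, e⁆ * e := by simp [commutatorElement_def]
    rw [← map_mul, ← map_mul, h1, map_mul, hs _ (hcomm g e), smul_mul_assoc, one_mul]
    rfl
  have : Fintype (E ⧸ Subgroup.center E) := Fintype.ofFinite _
  let rep : E ⧸ Subgroup.center E → E := Quotient.out
  have hrep : ∀ c, (rep c : E ⧸ Subgroup.center E) = c := Quotient.out_eq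
  have hχinj : Function.Injective fun c => χ (rep c) := by
    intro c d h
    rw [← hrep c, ← hrep d, QuotientGroup.eq]
    exact hχeq _ _ h
  have hli : LinearIndependent K fun c => ρ (rep c) := by
    rw [Fintype.linearIndependent_iff]
    intro a ha c
    have hne : ρ (rep c) ≠ 0 := by
      intro h0
      have h1 : (1 : Module.End K V) = ρ (rep c) * ρ (rep c)⁻¹ := by rw [← map_mul, mul_inv_cancel, map_one]
      rw [h0, zero_mul] at h1
      exact one_ne_zero h1
    obtain ⟨v, hv⟩ : ∃ v, ρ (rep c) v ≠ 0 := by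
      by_contra hall
      push_neg at hall
      exact hne (LinearMap.ext fun v => by simpa using hall v)
    obtain ⟨φ, hφ⟩ : ∃ φ : V →ₗ[K] K, φ (ρ (rep c) v) ≠ 0 := by
      by_contra hall
      push_neg at hall
      exact hv ((Module.forall_dual_apply_eq_zero_iff K _).mp hall)
    have hchars : LinearIndependent K fun c => (χ (rep c) : E → K) :=
      (linearIndependent_monoidHom E K).comp (fun c => χ (rep c)) hχinj
    have h := Fintype.linearIndependent_iff.mp hchars (fun d => a d * φ (ρ (rep d) v)) (by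
      funext g
      have h1 : (ρ g * (∑ d, a d • ρ (rep d)) * ρ g⁻¹) v = 0 := by rw [ha]; simp
      rw [Finset.mul_sum, Finset.sum_mul] at h1
      have h2 : ∀ d, ρ g * (a d • ρ (rep d)) * ρ g⁻¹ = (a d * χ (rep d) g) • ρ (rep d) := by
        intro d
        rw [mul_smul_comm, smul_mul_assoc, hρ, smul_smul]
      simp only [h2, LinearMap.sum_apply, LinearMap.smul_apply] at h1
      have h3 := congrArg φ h1
      simp only [map_sum, map_smul, map_zero, smul_eq_mul] at h3
      simp only [Finset.sum_apply, Pi.smul_apply, smul_eq_mul, Pi.zero_apply]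
      rw [← h3]
      exact Finset.sum_congr rfl fun d _ => by ring) c
    exact (mul_eq_zero.mp h).resolve_right hφ
  have h := hli.fintype_card_le_finrank
  rw [Module.finrank_linearMap, ← sq] at h
  rwa [Subgroup.index_eq_card, Nat.card_eq_fintype_card]

theorem exists_irreducible_ker {F V : Type*} [Field F] [AddCommGroup V] [Module F V]
    (T : Module.End F V) (f : F[X]) (hf : f ≠ 0) (v : V) (hv : v ≠ 0) (hfv : aeval T f v = 0) :
    ∃ q : F[X], Irreducible q ∧ q ∣ f ∧ ∃ w : V, w ≠ 0 ∧ aeval T q w = 0 := by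
  induction f using UniqueFactorizationMonoid.induction_on_prime generalizing v with
  | h₁ => exact absurd rfl hf
  | h₂ u hu =>
    obtain ⟨u', rfl⟩ := hu
    have h1 : aeval T ((u'⁻¹ : (F[X])ˣ) : F[X]) * aeval T (u' : F[X]) = 1 := by
      rw [← map_mul, Units.inv_mul, map_one]
    have h2 := congrArg (fun L : Module.End F V => L v) h1
    simp only [Module.End.mul_apply, Module.End.one_apply, hfv, map_zero] at h2
    exact absurd h2.symm hv
  | h₃ a q ha hq ih =>
    by_cases h0 : aeval T a v = 0
    · obtain ⟨q', h1, h2, h3⟩ := ih ha v hv h0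
      exact ⟨q', h1, h2.mul_left q, h3⟩
    · refine ⟨q, hq.irreducible, dvd_mul_right q a, _, h0, ?_⟩
      rwa [map_mul, Module.End.mul_apply] at hfv

theorem module_bound {V E : Type*} {p r : ℕ} [Fact p.Prime] [hr : Fact r.Prime] [AddCommGroup V]
    [Module (ZMod r) V] [Finite V] [Group E] [Finite E] (hpr : p ≠ r)
    (ρ : E →* Module.End (ZMod r) V) (hρ1 : ∀ e : E, ρ e = 1 → e = 1)
    (hE : Cfsg.IsExtraspecial p E) (w : ℕ) (hEcard : Nat.card E = p ^ (2 * w + 1)) (n : ℕ)
    (hmin : ∀ k : ℕ, 1 ≤ k → p ∣ r ^ k - 1 → n ≤ k) :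
    r ^ (n * p ^ w) ≤ Nat.card V := by
  classical
  have hpp : p.Prime := Fact.out
  have hrp : r.Prime := hr.out
  haveI : Module.Finite (ZMod r) V := Module.Finite.of_finite
  obtain ⟨⟨hEp, -, hEc⟩, hZc⟩ := hE
  -- a generator of the centre
  obtain ⟨z, hz⟩ : ∃ z : Subgroup.center E, ∀ c, c ∈ Subgroup.zpowers z := by
    haveI : Nontrivial (Subgroup.center E) := Finite.one_lt_card_iff_nontrivial.mp (by rw [hZc]; exact hpp.one_lt)
    haveI : IsCyclic (Subgroup.center E) := isCyclic_of_prime_card hZc
    exact IsCyclic.exists_generator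
  have hzord : orderOf z = p := by
    rw [orderOf_eq_card_of_forall_mem_zpowers hz, hZc]
  set T := ρ (z : E) with hT
  have hzp : (z : E) ^ p = 1 := by
    rw [← SubmonoidClass.coe_pow, ← hzord, pow_orderOf_eq_one]; rfl
  have hTne : T ≠ 1 := fun h => by
    have := hρ1 _ h
    rw [← Subgroup.orderOf_coe, this, orderOf_one] at hzord
    exact hpp.one_lt.ne hzord
  obtain ⟨u, hu⟩ : ∃ u, T u - u ≠ 0 := by
    by_contra hall
    push_neg at hall
    exact hTne (LinearMap.ext fun u => by simpa using sub_eq_zero.mp (hall u))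
  have hΦv : aeval T (cyclotomic p (ZMod r)) (T u - u) = 0 := by
    have h1 : aeval T (cyclotomic p (ZMod r) * (X - 1)) = 0 := by
      rw [cyclotomic_prime_mul_X_sub_one, map_sub, map_pow, aeval_X, map_one, hT, ← map_pow, hzp,
        map_one, sub_self]
    have h2 := LinearMap.congr_fun h1 u
    simpa [map_mul, map_sub, Module.End.mul_apply] using h2
  obtain ⟨q, hq, hqΦ, w₀, hw₀, hqw⟩ :=
    exists_irreducible_ker T _ (cyclotomic_ne_zero p _) _ hu hΦv
  haveI := Fact.mk hq
  set W := LinearMap.ker (aeval T q) with hW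
  -- E stabilises W
  have hcommT : ∀ e, Commute (ρ e) (aeval T q) := by
    intro e
    have h1 : Commute (ρ e) T := by
      rw [hT, Commute, SemiconjBy, ← map_mul, ← map_mul,
        Subgroup.mem_center_iff.mp z.2 e]
    have hall : ∀ f : (ZMod r)[X], Commute (ρ e) (aeval T f) := by
      intro f
      induction f using Polynomial.induction_on' with
      | add f g hf hg => rw [map_add]; exact hf.add_right hg
      | monomial k a => rw [aeval_monomial]; exact (Algebra.commute_algebraMap_right a _).mul_right (h1.pow_right k)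
    exact hall q
  have hinv : ∀ e, ∀ v ∈ W, ρ e v ∈ W := by
    intro e v hv
    rw [hW, LinearMap.mem_ker] at hv ⊢
    rw [← Module.End.mul_apply, ← (hcommT e).eq, Module.End.mul_apply, hv, map_zero]
  let σ : E →* Module.End (ZMod r) ↥W :=
    { toFun := fun e => (ρ e).restrict (hinv e)
      map_one' := by ext v; simp
      map_mul' := fun e f => by ext v; simp [map_mul] }
  set T' := σ (z : E) with hT'
  have hT'q : aeval T' q = 0 := by
    refine LinearMap.ext fun v => Subtype.ext ?_
    have key : ∀ f : (ZMod r)[X], ((aeval T' f v : ↥W) : V) = aeval T f v := by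
      intro f
      induction f using Polynomial.induction_on' with
      | add f g hf hg => simp [map_add, hf, hg]
      | monomial k a =>
        rw [aeval_monomial, aeval_monomial, Module.End.mul_apply, Module.End.mul_apply,
          Module.algebraMap_end_apply, Module.algebraMap_end_apply, hT', hT, ← map_pow, ← map_pow]
        rfl
    rw [key]
    exact v.2
  let φ : AdjoinRoot q →ₐ[ZMod r] Module.End (ZMod r) ↥W :=
    Ideal.Quotient.liftₐ (Ideal.span {q}) (aeval T') (fun a ha => by
      obtain ⟨b, rfl⟩ := Ideal.mem_span_singleton'.mp ha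
      rw [map_mul, hT'q, mul_zero])
  have hφroot : φ (AdjoinRoot.root q) = T' := by
    show aeval T' X = T'
    exact aeval_X T'
  letI : Module (AdjoinRoot q) ↥W := Module.compHom ↥W φ.toRingHom
  haveI : Nontrivial ↥W := ⟨⟨⟨w₀, hqw⟩, 0, fun h => hw₀ (congrArg Subtype.val h)⟩⟩
  haveI : Finite ↥W := inferInstance
  haveI : Module.Finite (AdjoinRoot q) ↥W := Module.Finite.of_finite
  have hcomm' : ∀ e (a : AdjoinRoot q) (v : ↥W), σ e (a • v) = a • σ e v := by
    intro e a v
    induction a using AdjoinRoot.induction_on with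
    | _ f =>
      show σ e (φ (AdjoinRoot.mk q f) v) = φ (AdjoinRoot.mk q f) (σ e v)
      show σ e (aeval T' f v) = aeval T' f (σ e v)
      have h1 : Commute (σ e) T' := by
        rw [hT', Commute, SemiconjBy, ← map_mul, ← map_mul, Subgroup.mem_center_iff.mp z.2 e]
      have h2 : Commute (σ e) (aeval T' f) := by
        induction f using Polynomial.induction_on' with
        | add f g hf hg => rw [map_add]; exact hf.add_right hg
        | monomial k a => rw [aeval_monomial]; exact (Algebra.commute_algebraMap_right a _).mul_right (h1.pow_right k)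
      exact LinearMap.congr_fun h2.eq v
  let τ : E →* Module.End (AdjoinRoot q) ↥W :=
    { toFun := fun e =>
        { toFun := fun v => σ e v
          map_add' := fun v v' => map_add _ v v'
          map_smul' := fun a v => hcomm' e a v }
      map_one' := by
        refine LinearMap.ext fun v => ?_
        show σ 1 v = v
        rw [map_one]; rfl
      map_mul' := fun e f => by
        refine LinearMap.ext fun v => ?_
        show σ (e * f) v = σ e (σ f v)
        rw [map_mul]; rfl }
  -- the root is a primitive p-th root of unity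
  have hrootp : AdjoinRoot.root q ^ p = 1 := by
    refine φ.toRingHom.injective ?_
    show φ (AdjoinRoot.root q ^ p) = φ 1
    rw [map_pow, hφroot, map_one, hT', ← map_pow, hzp, map_one]
  have hroot1 : AdjoinRoot.root q ≠ 1 := by
    intro h1
    have h2 : AdjoinRoot.mk q (X - 1) = 0 := by
      rw [map_sub, AdjoinRoot.mk_X, map_one, h1, sub_self]
    obtain ⟨g, hg⟩ := AdjoinRoot.mk_eq_zero.mp h2
    have h3 : q.eval 1 * g.eval 1 = 0 := by rw [← eval_mul, ← hg]; simp
    obtain ⟨g', hg'⟩ := hqΦ
    have hΦ1 : (cyclotomic p (ZMod r)).eval 1 ≠ 0 := by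
      rw [eval_one_cyclotomic_prime, Ne, ZMod.natCast_eq_zero_iff]
      exact fun h => hpr ((Nat.prime_dvd_prime_iff_eq hrp hpp).mp h).symm
    rcases mul_eq_zero.mp h3 with h4 | h4
    · exact hΦ1 (by rw [hg', eval_mul, h4, zero_mul])
    · have hu : IsUnit g := by
        have hirr : Irreducible (X - 1 : (ZMod r)[X]) := by
          have := irreducible_X_sub_C (1 : ZMod r); rwa [map_one] at this
        exact (hirr.isUnit_or_isUnit hg).resolve_left hq.not_isUnit
      exact (hu.map (evalRingHom (1 : ZMod r))).ne_zero h4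
  have hordroot : orderOf (AdjoinRoot.root q) = p := orderOf_eq_prime hrootp hroot1
  let B := AdjoinRoot.powerBasis hq.ne_zero
  haveI : Module.Finite (ZMod r) (AdjoinRoot q) := B.finite
  haveI : Finite (AdjoinRoot q) := Module.finite_of_finite (ZMod r)
  have hcardK : Nat.card (AdjoinRoot q) = r ^ q.natDegree := by
    rw [Module.natCard_eq_pow_finrank (K := ZMod r), B.finrank, AdjoinRoot.powerBasis_dim,
      Nat.card_zmod]
  have hnd : n ≤ q.natDegree := by
    refine hmin _ hq.natDegree_pos ?_
    have : Fintype (AdjoinRoot q) := Fintype.ofFinite _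
    rw [← hcardK, Nat.card_eq_fintype_card, ← hordroot, orderOf_dvd_iff_pow_eq_one]
    refine FiniteField.pow_card_sub_one_eq_one _ fun h0 => ?_
    rw [h0, zero_pow hpp.ne_zero] at hrootp
    exact zero_ne_one hrootp
  -- the dimension bound
  have hcenter : ∀ c ∈ Subgroup.center E, ∃ k : ℕ, c = (z : E) ^ k := by
    intro c hc
    obtain ⟨k, hk⟩ := (mem_powers_iff_mem_zpowers.mpr (hz ⟨c, hc⟩) : (⟨c, hc⟩ : Subgroup.center E) ∈ Submonoid.powers z)
    exact ⟨k, (congrArg Subtype.val hk).symm⟩
  have hτz : ∀ k : ℕ, τ ((z : E) ^ k) = (AdjoinRoot.root q ^ k) • (1 : Module.End (AdjoinRoot q) ↥W) := by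
    intro k
    refine LinearMap.ext fun v => ?_
    show σ ((z : E) ^ k) v = φ (AdjoinRoot.root q ^ k) v
    rw [map_pow φ, hφroot, map_pow, ← hT']
  let s : E → AdjoinRoot q := fun c =>
    if hc : c ∈ Subgroup.center E then AdjoinRoot.root q ^ (Classical.choose (hcenter c hc)) else 0
  have hs : ∀ c ∈ Subgroup.center E, τ c = s c • (1 : Module.End (AdjoinRoot q) ↥W) := by
    intro c hc
    have he := Classical.choose_spec (hcenter c hc)
    simp only [s, dif_pos hc]
    conv_lhs => rw [he]
    exact hτz _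
  have hinjc : ∀ c ∈ Subgroup.center E, τ c = 1 → c = 1 := by
    intro c hc h1
    obtain ⟨k, rfl⟩ := hcenter c hc
    rw [hτz] at h1
    have h2 : AdjoinRoot.root q ^ k = 1 :=
      smul_left_injective (AdjoinRoot q) (one_ne_zero (α := Module.End (AdjoinRoot q) ↥W))
        (h1.trans (one_smul _ _).symm)
    rw [← orderOf_dvd_iff_pow_eq_one, hordroot] at h2
    obtain ⟨m, rfl⟩ := h2
    rw [pow_mul, hzp, one_pow]
  have hcomm : ∀ g e : E, ⁅g, e⁆ ∈ Subgroup.center E := by
    intro g e
    rw [← hEc, commutator_def]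
    exact Subgroup.commutator_mem_commutator (Subgroup.mem_top g) (Subgroup.mem_top e)
  have hdim := index_center_le hcomm τ s hs hinjc
  have hidx : (Subgroup.center E).index = p ^ (2 * w) := by
    have h := Subgroup.card_mul_index (Subgroup.center E)
    rw [hZc, hEcard, pow_succ'] at h
    exact Nat.eq_of_mul_eq_mul_left hpp.pos h
  rw [hidx, mul_comm 2 w, pow_mul] at hdim
  have hdim' : p ^ w ≤ Module.finrank (AdjoinRoot q) ↥W :=
    (Nat.pow_le_pow_iff_left two_ne_zero).mp hdim
  calc r ^ (n * p ^ w) ≤ r ^ (q.natDegree * Module.finrank (AdjoinRoot q) ↥W) :=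
        Nat.pow_le_pow_right hrp.pos (Nat.mul_le_mul hnd hdim')
    _ = Nat.card ↥W := by rw [Module.natCard_eq_pow_finrank (K := AdjoinRoot q), hcardK, pow_mul]
    _ ≤ Nat.card V := Nat.card_le_card_of_injective _ Subtype.val_injective


theorem comm_group_bound {A E : Type*} {p r : ℕ} [Fact p.Prime] [Fact r.Prime] [CommGroup A] [Finite A]
    [Group E] [Finite E] (hpr : p ≠ r) (hAe : ∀ a : A, a ^ r = 1) (act : E →* MulAut A)
    (hinj : ∀ e : E, (∀ a : A, act e a = a) → e = 1) (hE : Cfsg.IsExtraspecial p E) (w : ℕ)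
    (hEcard : Nat.card E = p ^ (2 * w + 1)) (n : ℕ)
    (hmin : ∀ k : ℕ, 1 ≤ k → p ∣ r ^ k - 1 → n ≤ k) :
    r ^ (n * p ^ w) ≤ Nat.card A := by
  letI : Module (ZMod r) (Additive A) := AddCommGroup.zmodModule (n := r) fun v =>
    congrArg Additive.ofMul (hAe (Additive.toMul v))
  let ρ : E →* Module.End (ZMod r) (Additive A) :=
    { toFun := fun e => (MonoidHom.toAdditive (act e).toMonoidHom).toZModLinearMap r
      map_one' := by
        refine LinearMap.ext fun v => ?_
        show Additive.ofMul (act 1 (Additive.toMul v)) = v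
        rw [map_one]; rfl
      map_mul' := fun e f => by
        refine LinearMap.ext fun v => ?_
        show Additive.ofMul (act (e * f) (Additive.toMul v)) =
          Additive.ofMul (act e (act f (Additive.toMul v)))
        rw [map_mul]; rfl }
  refine module_bound (V := Additive A) hpr ρ (fun e he => hinj e fun a => ?_) hE w hEcard n hmin
  exact Additive.ofMul.injective (LinearMap.congr_fun he (Additive.ofMul a))

/-- Let p and r be distinct primes, let E be an extraspecial subgroup of order p^(2w+1) acting faithfully on an elementary abelian r-group A; then |A| is at least r^(n p^w). -/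
theorem result {G : Type*} [Group G] [Finite G] {p r : ℕ} [Fact p.Prime] [hr : Fact r.Prime] (hpr : p ≠ r) (E A : Subgroup G) (w : ℕ) (hE : Cfsg.IsExtraspecial p ↥E) (hEcard : Nat.card ↥E = p ^ (2 * w + 1)) (hA : Cfsg.IsElementaryAbelian r A) (hnorm : E ≤ Subgroup.normalizer (A : Set G)) (hfaith : E ⊓ Subgroup.centralizer (A : Set G) = ⊥) (n : ℕ) (hn : 1 ≤ n) (hdiv : p ∣ r ^ n - 1) (hmin : ∀ k : ℕ, 1 ≤ k → p ∣ r ^ k - 1 → n ≤ k) : r ^ (n * p ^ w) ≤ Nat.card ↥A := by
  obtain ⟨hAc, hAe⟩ := hA
  letI : CommGroup ↥A := { (inferInstance : Group ↥A) with mul_comm := fun a b => mul_comm' a b }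
  refine comm_group_bound (A := ↥A) hpr
    (fun a => Subtype.ext (by simpa using hAe (a : G) a.2))
    ((Subgroup.normalizerMonoidHom A).comp (Subgroup.inclusion hnorm)) (fun e he => ?_) hE w hEcard n hmin
  have hmem : (e : G) ∈ E ⊓ Subgroup.centralizer (A : Set G) := by
    refine ⟨e.2, Subgroup.mem_centralizer_iff.mpr fun a ha => ?_⟩
    have h2 : (e : G) * a * (e : G)⁻¹ = a := congrArg Subtype.val (he ⟨a, ha⟩)
    calc a * (e : G) = (e : G) * a * (e : G)⁻¹ * e := by rw [h2]
      _ = (e : G) * a := by group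
  rw [hfaith] at hmem
  exact Subtype.ext hmem

end Cfsg.Agent.S2912
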