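import Cfsg.Statements.S2922
import Cfsg.Agent.Lib.CharP.Locals
import Cfsg.Agent.Lib.Components.GenFitting

set_option autoImplicit false
open Cfsg CfsgLib.CharP CfsgLib.Components

namespace Cfsg.Agent.S2922

theorem result {X : Type*} [Group X] [Finite X] {p : ℕ} [Fact p.Prime] (B C : Subgroup X) (hB : IsPGroup p ↥B) (hCB : C ≤ B) (hCn : (C.subgroupOf B).Normal) (hC : Cfsg.generalizedFittingSubgroup ↥(Subgroup.normalizer (C : Set X)) = Cfsg.pCore p ↥(Subgroup.normalizer (C : Set X))) : Cfsg.generalizedFittingSubgroup ↥(Subgroup.normalizer (B : Set X)) = Cfsg.pCore p ↥(Subgroup.normalizer (B : Set X)) ∧ Cfsg.generalizedFittingSubgroup ↥(Subgroup.centralizer (B : Set X)) = Cfsg.pCore p ↥(Subgroup.centralizer (B : Set X)) := by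
  obtain ⟨h1, h2⟩ := charP_normalizer_of_normal hB hCB
    ((Subgroup.normal_subgroupOf_iff_le_normalizer hCB).mp hCn) ((genFitting_eq_pCore_iff p).mp hC)
  exact ⟨(genFitting_eq_pCore_iff p).mpr h1, (genFitting_eq_pCore_iff p).mpr h2⟩

end Cfsg.Agent.S2922
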