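import Cfsg.Statements.S2923
import Cfsg.Agent.Lib.CharP.Coprime
import Cfsg.Agent.Lib.CharP.PCore

set_option autoImplicit false
open Cfsg CfsgLib.CharP

namespace Cfsg.Agent.S2923

theorem normal_case {X : Type*} [Group X] [Finite X] {p : ℕ} [Fact p.Prime]
    (hX : Subgroup.centralizer (Cfsg.pCore p X : Set X) ≤ Cfsg.pCore p X) (Y : Subgroup X) [hYn : Y.Normal] :
    Subgroup.centralizer (Cfsg.pCore p ↥Y : Set ↥Y) ≤ Cfsg.pCore p ↥Y := by
  haveI := pCore_normal' (G := X) (p := p)
  haveI := pCore_normal' (G := ↥Y) (p := p)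
  haveI := pCore_characteristic' (G := ↥Y) (p := p)
  set Q := Cfsg.pCore p X with hQ
  set C := Subgroup.centralizer (Cfsg.pCore p ↥Y : Set ↥Y) with hC
  haveI : C.Normal := Subgroup.normal_centralizer
  have hQY : Q.subgroupOf Y ≤ Cfsg.pCore p ↥Y :=
    le_pCore' inferInstance (pCore_isPGroup'.comap_of_injective _ Y.subtype_injective)
  refine le_pCore' inferInstance (fun c => ?_)
  -- elements of order prime to p in C are trivial
  have key : ∀ w : ↥Y, w ∈ C → (orderOf (w : X)).Coprime p → (w : X) = 1 := by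
    intro w hw hcop
    have hwQ : (w : X) ∈ Q := by
      refine hX (Subgroup.mem_centralizer_iff.mpr fun q hq => ?_)
      set d := q⁻¹ * ((w : X) * q * (w : X)⁻¹) with hd
      have hdQ : d ∈ Q := Q.mul_mem (Q.inv_mem hq) (Subgroup.Normal.conj_mem inferInstance q hq _)
      have hdY : d ∈ Y := by
        have := Y.mul_mem (hYn.conj_mem _ w.2 q⁻¹) (Y.inv_mem w.2)
        simpa [hd, mul_assoc] using this
      have hdfix : (w : X) * d = d * w :=
        (congrArg Subtype.val (Subgroup.mem_centralizer_iff.mp hw ⟨d, hdY⟩ (hQY hdQ))).symm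
      exact (commute_of_stab pCore_isPGroup' hcop hdQ hdfix).symm
    obtain ⟨m, hm⟩ := (pCore_isPGroup' (G := X) (p := p)) ⟨_, hwQ⟩
    have h3 : (w : X) ^ p ^ m = 1 := congrArg Subtype.val hm
    rw [← orderOf_eq_one_iff]
    exact Nat.eq_one_of_dvd_coprimes (hcop.pow_right m) dvd_rfl (orderOf_dvd_of_pow_eq_one h3)
  obtain ⟨c, hc⟩ := c
  refine ⟨(orderOf (c : X)).factorization p, Subtype.ext (Subtype.ext ?_)⟩
  have hp : p.Prime := Fact.out
  have hk := key (c ^ p ^ (orderOf (c : X)).factorization p) (C.pow_mem hc _) (by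
    rw [Subgroup.coe_pow, orderOf_pow_of_dvd (pow_ne_zero _ hp.ne_zero) (Nat.ordProj_dvd _ _)]
    exact (Nat.coprime_ordCompl hp (orderOf_pos _).ne').symm)
  simpa using hk

theorem result {X : Type*} [Group X] [Finite X] {p : ℕ} [Fact p.Prime] (hX : Subgroup.centralizer (Cfsg.pCore p X : Set X) ≤ Cfsg.pCore p X) (Y : Subgroup X) (hY : Y.IsSubnormal) : Subgroup.centralizer (Cfsg.pCore p ↥Y : Set ↥Y) ≤ Cfsg.pCore p ↥Y := by
  induction hY with
  | top => exact normal_case hX ⊤
  | step H K hle _ hn ih =>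
    haveI := hn
    exact of_equiv (Subgroup.subgroupOfEquivOfLe hle) (normal_case ih (H.subgroupOf K))
where
  of_equiv {A B : Type _} [Group A] [Group B] [Finite A] [Finite B] {p : ℕ} (e : A ≃* B)
      (hA : Subgroup.centralizer (Cfsg.pCore p A : Set A) ≤ Cfsg.pCore p A) :
      Subgroup.centralizer (Cfsg.pCore p B : Set B) ≤ Cfsg.pCore p B := by
    have he : ∀ a : A, a ∈ Cfsg.pCore p A → e a ∈ Cfsg.pCore p B := fun a ha =>
      le_pCore' (pCore_normal'.map e.toMonoidHom e.surjective) (pCore_isPGroup'.map _) ⟨a, ha, rfl⟩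
    intro b hb
    have h1 : e.symm b ∈ Cfsg.pCore p A := hA (Subgroup.mem_centralizer_iff.mpr fun a ha => e.injective (by
      simpa using Subgroup.mem_centralizer_iff.mp hb (e a) (he a ha)))
    simpa using he _ h1

end Cfsg.Agent.S2923
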