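import Cfsg.Statements.S2924
import Cfsg.Agent.Lib.CharP.Locals
import Cfsg.Agent.Lib.CharP.Parabolic
import Cfsg.Agent.Lib.Components.GenFitting

set_option autoImplicit false
open Cfsg CfsgLib.CharP CfsgLib.Components

namespace Cfsg.Agent.S2924

variable {X : Type*} [Group X]

theorem inv_eq_self_of_sq {z : X} (hz : z ^ 2 = 1) : z⁻¹ = z :=
  inv_eq_of_mul_eq_one_right (by rw [← pow_two]; exact hz)

theorem inverts_of_fpf [Finite X] {O : Subgroup X} {z : X} (hz : z ^ 2 = 1)
    (hn : ∀ x ∈ O, z * x * z⁻¹ ∈ O) (hfp : ∀ x ∈ O, x * z = z * x → x = 1) :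
    ∀ x ∈ O, z * x * z⁻¹ = x⁻¹ := by
  let f : O → O := fun x => ⟨(x : X)⁻¹ * (z * x * z⁻¹), O.mul_mem (O.inv_mem x.2) (hn x x.2)⟩
  have hf : Function.Injective f := by
    intro a b hab
    have e : (a : X)⁻¹ * (z * a * z⁻¹) = (b : X)⁻¹ * (z * b * z⁻¹) := congrArg Subtype.val hab
    have h1 : ((b : X) * (a : X)⁻¹) * z = z * ((b : X) * (a : X)⁻¹) := by
      calc ((b : X) * (a : X)⁻¹) * z
          = (b : X) * ((a : X)⁻¹ * (z * a * z⁻¹)) * (z * (a : X)⁻¹) := by group
        _ = (b : X) * ((b : X)⁻¹ * (z * b * z⁻¹)) * (z * (a : X)⁻¹) := by rw [e]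
        _ = z * ((b : X) * (a : X)⁻¹) := by group
    exact Subtype.ext (mul_inv_eq_one.mp (hfp _ (O.mul_mem b.2 (O.inv_mem a.2)) h1)).symm
  intro x hx
  obtain ⟨a, ha⟩ := (Finite.injective_iff_surjective.mp hf) ⟨x, hx⟩
  have ha' : (a : X)⁻¹ * (z * a * z⁻¹) = x := congrArg Subtype.val ha
  rw [← ha']
  calc z * ((a : X)⁻¹ * (z * a * z⁻¹)) * z⁻¹ = z * (a : X)⁻¹ * z⁻¹ * ((z * z) * a * (z * z)⁻¹) := by group
    _ = z * (a : X)⁻¹ * z⁻¹ * a := by rw [← pow_two, hz]; group
    _ = ((a : X)⁻¹ * (z * a * z⁻¹))⁻¹ := by group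

theorem commute_of_sq [Finite X] {x y : X} (hx : (orderOf x).Coprime 2) (h : x ^ 2 * y = y * x ^ 2) :
    x * y = y * x := by
  obtain ⟨k, hk⟩ : x ∈ Subgroup.zpowers (x ^ 2) := by
    rw [(zpowers_pow_eq_zpowers hx)]
    exact Subgroup.mem_zpowers x
  change (x ^ 2) ^ k = x at hk
  rw [← hk]
  exact (Commute.zpow_left (show Commute (x ^ 2) y from h) k).eq
where
  zpowers_pow_eq_zpowers {x : X} (hx : (orderOf x).Coprime 2) :
      Subgroup.zpowers (x ^ 2) = Subgroup.zpowers x := by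
    refine Subgroup.eq_of_le_of_card_ge (Subgroup.zpowers_le.mpr (pow_mem (Subgroup.mem_zpowers x) 2)) ?_
    rw [Nat.card_zpowers, Nat.card_zpowers, Nat.Coprime.orderOf_pow hx]

/-- The cores. -/
theorem theta_le (a : X) :
    (oddCore ↥(Subgroup.centralizer ({a} : Set X))).map (Subgroup.centralizer ({a} : Set X)).subtype ≤
      Subgroup.centralizer ({a} : Set X) := Subgroup.map_subtype_le _

theorem theta_conj (a : X) {c x : X} (hc : c ∈ Subgroup.centralizer ({a} : Set X))
    (hx : x ∈ (oddCore ↥(Subgroup.centralizer ({a} : Set X))).map (Subgroup.centralizer ({a} : Set X)).subtype) :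
    c * x * c⁻¹ ∈ (oddCore ↥(Subgroup.centralizer ({a} : Set X))).map (Subgroup.centralizer ({a} : Set X)).subtype := by
  obtain ⟨y, hy, rfl⟩ := hx
  exact ⟨⟨c, hc⟩ * y * ⟨c, hc⟩⁻¹, Subgroup.Normal.conj_mem inferInstance y hy ⟨c, hc⟩, rfl⟩

theorem theta_odd [Finite X] (a : X) {x : X}
    (hx : x ∈ (oddCore ↥(Subgroup.centralizer ({a} : Set X))).map (Subgroup.centralizer ({a} : Set X)).subtype) :
    (orderOf x).Coprime 2 := by
  obtain ⟨y, hy, rfl⟩ := hx
  rw [Subgroup.coe_subtype, Subgroup.orderOf_coe]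
  exact Nat.Coprime.coprime_dvd_left (Subgroup.orderOf_dvd_natCard _ hy) (coprime_card_pPrimeCore 2)

theorem result {X : Type*} [Group X] [Finite X] (Y : Subgroup X) (hY : Cfsg.IsElementaryAbelian 2 Y) (h8 : 8 ≤ Nat.card ↥Y) (hE : ∀ x ∈ Y, x ≠ 1 → Cfsg.layer ↥(Subgroup.centralizer ({x} : Set X)) = ⊥) (hz : ∃ z ∈ Y, z ≠ 1 ∧ Cfsg.generalizedFittingSubgroup ↥(Subgroup.centralizer ({z} : Set X)) = Cfsg.pCore 2 ↥(Subgroup.centralizer ({z} : Set X))) : Odd (Nat.card ↥(⨆ y : {y : X // y ∈ Y ∧ y ≠ 1}, (Cfsg.oddCore ↥(Subgroup.centralizer ({(y : X)} : Set X))).map (Subgroup.centralizer ({(y : X)} : Set X)).subtype)) ∧ Subgroup.normalizer (Y : Set X) ≤ Subgroup.normalizer ((⨆ y : {y : X // y ∈ Y ∧ y ≠ 1}, (Cfsg.oddCore ↥(Subgroup.centralizer ({(y : X)} : Set X))).map (Subgroup.centralizer ({(y : X)} : Set X)).subtype : Subgroup X) : Set X) := by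
  classical
  haveI : Fact (Nat.Prime 2) := ⟨Nat.prime_two⟩
  obtain ⟨hYc, hYe⟩ := hY
  obtain ⟨z, hzY, -, hzF⟩ := hz
  have hzC := (genFitting_eq_pCore_iff 2).mp hzF
  set Cz := Subgroup.centralizer ({z} : Set X) with hCz
  let θ : X → Subgroup X := fun a =>
    (oddCore ↥(Subgroup.centralizer ({a} : Set X))).map (Subgroup.centralizer ({a} : Set X)).subtype
  have hYcomm : ∀ a ∈ Y, ∀ b ∈ Y, a * b = b * a := fun a ha b hb =>
    congrArg Subtype.val (hYc.is_comm.comm ⟨a, ha⟩ ⟨b, hb⟩)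
  have hYC : ∀ a ∈ Y, ∀ b ∈ Y, a ∈ Subgroup.centralizer ({b} : Set X) := fun a ha b hb =>
    Subgroup.mem_centralizer_singleton_iff.mpr (hYcomm a ha b hb)
  -- `z` inverts every core
  have hinv : ∀ a ∈ Y, ∀ x ∈ θ a, z * x * z⁻¹ = x⁻¹ := by
    intro a ha
    refine inverts_of_fpf (hYe z hzY) (fun x hx => theta_conj a (hYC z hzY a ha) hx) fun x hx hxz => ?_
    have haC : a ∈ Cz := hYC a ha z hzY
    have hza : IsPGroup 2 (Subgroup.zpowers a) := by
      rintro ⟨y, hy⟩
      refine ⟨1, Subtype.ext ?_⟩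
      rw [pow_one]
      exact hYe y (Subgroup.zpowers_le.mpr ha hy)
    set M := Cz ⊓ Subgroup.centralizer ((Subgroup.zpowers a : Subgroup X) : Set X) with hM
    have hchar : Subgroup.centralizer (Cfsg.pCore 2 ↥M : Set ↥M) ≤ Cfsg.pCore 2 ↥M := by
      refine charP_of_normal (charP_inf_normalizer hzC hza (Subgroup.zpowers_le.mpr haC))
        (inf_le_inf_left _ (Subgroup.centralizer_le_normalizer _)) fun g hg => ?_
      rw [Subgroup.mem_normalizer_iff]
      intro n
      rw [hM, Subgroup.mem_inf, Subgroup.mem_inf, Subgroup.mem_normalizer_iff.mp (Subgroup.le_normalizer hg.1) n,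
        Subgroup.mem_normalizer_iff.mp (normalizer_le_normalizer_centralizer _ hg.2) n]
    have hxM : x ∈ M := ⟨Subgroup.mem_centralizer_singleton_iff.mpr hxz, by
      rw [centralizer_zpowers_eq]; exact theta_le a hx⟩
    set Q := (Cfsg.pCore 2 ↥M).map M.subtype
    have hQp : IsPGroup 2 Q := pCore_isPGroup'.map _
    refine eq_one_of_mem_pgroup hQp (mem_pCore_map_of_charP hchar hxM fun q hq => ?_) (theta_odd a hx)
    have hqa : q ∈ Subgroup.centralizer ({a} : Set X) := by
      have h1 : q ∈ M := Subgroup.map_subtype_le _ hq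
      rw [hM, centralizer_zpowers_eq] at h1
      exact h1.2
    have h1 : x * q * x⁻¹ * q⁻¹ = 1 := by
      refine eq_one_of_mem_pgroup hQp
        (Q.mul_mem ((Subgroup.mem_normalizer_iff.mp (le_normalizer_pCore_map M hxM) q).mp hq) (Q.inv_mem hq)) ?_
      refine theta_odd a ?_
      have := (θ a).mul_mem hx (theta_conj a hqa ((θ a).inv_mem hx))
      simpa [θ, mul_assoc] using this
    calc q * x = q * x * (x⁻¹ * (x * q * x⁻¹ * q⁻¹) * x) := by rw [h1]; group
      _ = q * (x * q * x⁻¹) * q⁻¹ * x := by group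
      _ = q * ((x * q * x⁻¹ * q⁻¹) * q) * q⁻¹ * x := by group
      _ = q * x := by rw [h1]; group
      _ = (x * q * x⁻¹ * q⁻¹)⁻¹ * (x * q) := by group
      _ = x * q := by rw [h1]; group
  have hab : ∀ a ∈ Y, ∀ x ∈ θ a, ∀ y ∈ θ a, x * y = y * x := by
    intro a ha x hx y hy
    have h := hinv a ha _ ((θ a).mul_mem hx hy)
    have e : z * (x * y) * z⁻¹ = (z * x * z⁻¹) * (z * y * z⁻¹) := by group
    rw [e, hinv a ha x hx, hinv a ha y hy, ← mul_inv_rev, inv_inj] at h
    exact h.symm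
  -- balance
  have hbal : ∀ a ∈ Y, ∀ b ∈ Y, b ≠ 1 → ∀ x ∈ θ a, x * b = b * x → x ∈ θ b := by
    intro a ha b hb hb1 x hx hxb
    set D := Subgroup.centralizer ({b} : Set X) with hD
    have hxD : x ∈ D := Subgroup.mem_centralizer_singleton_iff.mpr hxb
    have haD : a ∈ D := hYC a ha b hb
    have hoddD : IsPGroup 2 ↥((Cfsg.pCore 2 ↥D).map D.subtype) := pCore_isPGroup'.map _
    have hx2 : ∀ u ∈ (Cfsg.pCore 2 ↥D).map D.subtype, u * x = x * u := by
      refine pxq (B := Subgroup.zpowers a) ?_ hoddD ?_ (theta_odd a hx) (le_normalizer_pCore_map D hxD) ?_ ?_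
      · rintro ⟨y, hy⟩
        refine ⟨1, Subtype.ext ?_⟩
        rw [pow_one]
        exact hYe y (Subgroup.zpowers_le.mpr ha hy)
      · exact Subgroup.zpowers_le.mpr (le_normalizer_pCore_map D haD)
      · intro c hc
        obtain ⟨k, rfl⟩ := Subgroup.mem_zpowers_iff.mp hc
        exact (Commute.zpow_left (show Commute a x from
          (Subgroup.mem_centralizer_singleton_iff.mp (theta_le a hx)).symm) k).eq
      · intro u hu hua
        have hua' : u ∈ Subgroup.centralizer ({a} : Set X) :=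
          Subgroup.mem_centralizer_singleton_iff.mpr (hua a (Subgroup.mem_zpowers a)).symm
        set Q := (Cfsg.pCore 2 ↥D).map D.subtype
        have h1 : x * u * x⁻¹ * u⁻¹ = 1 := by
          refine eq_one_of_mem_pgroup hoddD
            (Q.mul_mem ((Subgroup.mem_normalizer_iff.mp (le_normalizer_pCore_map D hxD) u).mp hu) (Q.inv_mem hu)) ?_
          refine theta_odd a ?_
          have := (θ a).mul_mem hx (theta_conj a hua' ((θ a).inv_mem hx))
          simpa [θ, mul_assoc] using this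
        calc u * x = (x * u * x⁻¹ * u⁻¹) * (u * x) := by rw [h1]; group
          _ = x * u := by group
    have hxθ : ∀ y ∈ θ b, x * y = y * x := by
      intro y hy
      refine commute_of_sq (theta_odd a hx) ?_
      have hconj : x * y * x⁻¹ ∈ θ b := theta_conj b hxD hy
      have h := hinv b hb _ hconj
      have e : z * (x * y * x⁻¹) * z⁻¹ = (z * x * z⁻¹) * (z * y * z⁻¹) * (z * x * z⁻¹)⁻¹ := by group
      rw [e, hinv a ha x hx, hinv b hb y hy, inv_inv] at h
      have h' : x⁻¹ * y⁻¹ * x = x * y⁻¹ * x⁻¹ := by rw [h]; group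
      have h'' : x⁻¹ * y * x = x * y * x⁻¹ := by simpa [mul_inv_rev, mul_assoc] using congrArg Inv.inv h'
      calc x ^ 2 * y = x * (x * y * x⁻¹) * x := by rw [pow_two]; group
        _ = x * (x⁻¹ * y * x) * x := by rw [h'']
        _ = y * x ^ 2 := by rw [pow_two]; group
    -- `x` centralises `F(D)`
    set xD : ↥D := ⟨x, hxD⟩
    have hmemO : ∀ y : ↥D, y ∈ oddCore ↥D → (y : X) ∈ θ b := fun y hy => ⟨y, hy, rfl⟩
    have hF : Cfsg.fittingSubgroup ↥D ≤ Subgroup.centralizer ({xD} : Set ↥D) := by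
      refine fitting_le_of_pCore_le fun q hq => ?_
      intro y hy
      refine Subgroup.mem_centralizer_singleton_iff.mpr (Subtype.ext ?_)
      show (y : X) * x = x * (y : X)
      by_cases h2 : q = 2
      · subst h2
        exact hx2 y ⟨y, hy, rfl⟩
      · haveI : Fact q.Prime := ⟨hq⟩
        refine (hxθ y (hmemO y (le_pPrimeCore_of_normal (p := 2) inferInstance ?_ hy))).symm
        obtain ⟨n, hn⟩ := (isPGroup_pCore (G := ↥D) q).exists_card_eq
        rw [hn]
        exact Nat.Coprime.pow_left n ((Nat.coprime_primes hq Nat.prime_two).mpr h2)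
    have hxF : xD ∈ Cfsg.fittingSubgroup ↥D :=
      centralizer_fitting_le_iff.mpr (hE b hb hb1) (Subgroup.mem_centralizer_iff.mpr fun y hy =>
        Subgroup.mem_centralizer_singleton_iff.mp (hF hy))
    have hle : Cfsg.fittingSubgroup ↥D ≤ Cfsg.pCore 2 ↥D ⊔ oddCore ↥D := by
      refine fitting_le_of_pCore_le fun q hq => ?_
      by_cases h2 : q = 2
      · subst h2; exact le_sup_left
      · haveI : Fact q.Prime := ⟨hq⟩
        refine le_trans (le_pPrimeCore_of_normal (p := 2) inferInstance ?_) le_sup_right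
        obtain ⟨n, hn⟩ := (isPGroup_pCore (G := ↥D) q).exists_card_eq
        rw [hn]
        exact Nat.Coprime.pow_left n ((Nat.coprime_primes hq Nat.prime_two).mpr h2)
    obtain ⟨u, hu, r, hr, hur⟩ := Subgroup.mem_sup_of_normal_right.mp (hle hxF)
    haveI : (oddCore ↥D).Normal := inferInstance
    have hmk : (QuotientGroup.mk xD : ↥D ⧸ oddCore ↥D) = QuotientGroup.mk u := by
      rw [← hur, QuotientGroup.mk_mul, (QuotientGroup.eq_one_iff r).mpr hr, mul_one]
    have hone : (QuotientGroup.mk xD : ↥D ⧸ oddCore ↥D) = 1 := by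
      rw [← orderOf_eq_one_iff]
      obtain ⟨m, hm⟩ := (isPGroup_pCore (G := ↥D) 2) ⟨u, hu⟩
      have hm' : u ^ 2 ^ m = 1 := congrArg Subtype.val hm
      refine Nat.eq_one_of_dvd_coprimes ((theta_odd a hx).pow_right m) ?_ ?_
      · have := orderOf_map_dvd (QuotientGroup.mk' (oddCore ↥D)) xD
        rwa [Subgroup.orderOf_mk] at this
      · rw [hmk]
        exact orderOf_dvd_of_pow_eq_one (by rw [← QuotientGroup.mk_pow, hm', QuotientGroup.mk_one])
    exact hmemO xD ((QuotientGroup.eq_one_iff xD).mp hone)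
  -- splitting along a four-group
  have hgen : ∀ a ∈ Y, ∀ c ∈ Y, ∀ d ∈ Y, ∀ x ∈ θ a, ∀ g : X,
      (∀ v, (v = c ∨ v = d ∨ v = c * d) → ∀ u ∈ θ a, u * v = v * u → g * u = u * g) →
      g * x = x * g := by
    intro a ha c hc d hd x hx g hg
    have hcn : ∀ v ∈ Y, ∀ u ∈ θ a, v * u * v⁻¹ ∈ θ a := fun v hv u hu => theta_conj a (hYC v hv a ha) hu
    have hfix : ∀ v ∈ Y, ∀ u ∈ θ a, (u * (v * u * v⁻¹)) * v = v * (u * (v * u * v⁻¹)) := by
      intro v hv u hu
      have hv2 : v⁻¹ = v := inv_eq_self_of_sq (hYe v hv)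
      have h1 := hab a ha u hu _ (hcn v hv u hu)
      calc (u * (v * u * v⁻¹)) * v = u * v * u := by group
        _ = v * ((v * u * v⁻¹) * u) := by
            conv_rhs => rw [hv2]
            rw [show v * (v * u * v * u) = (v * v) * (u * v * u) by group,
              show v * v = 1 by rw [← pow_two]; exact hYe v hv, one_mul]
        _ = v * (u * (v * u * v⁻¹)) := by rw [h1]
    set y₁ := x * (c * x * c⁻¹) with hy₁
    set y₂ := x * (d * x * d⁻¹) with hy₂
    set y₃ := x * (c * d * x * (c * d)⁻¹) with hy₃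
    have h1θ : y₁ ∈ θ a := (θ a).mul_mem hx (hcn c hc x hx)
    have h2θ : y₂ ∈ θ a := (θ a).mul_mem hx (hcn d hd x hx)
    have h3θ : y₃ ∈ θ a := (θ a).mul_mem hx (hcn _ (Y.mul_mem hc hd) x hx)
    set P := y₂ * (c * y₂ * c⁻¹) with hP
    have hPθ : P ∈ θ a := (θ a).mul_mem h2θ (hcn c hc _ h2θ)
    have g1 := hg c (Or.inl rfl) _ h1θ (hfix c hc x hx)
    have g2 := hg d (Or.inr (Or.inl rfl)) _ h2θ (hfix d hd x hx)
    have g3 := hg (c * d) (Or.inr (Or.inr rfl)) _ h3θ (hfix _ (Y.mul_mem hc hd) x hx)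
    have g4 := hg c (Or.inl rfl) _ hPθ (hfix c hc y₂ h2θ)
    have hA : x * x = y₁ * y₂ * y₃ * P⁻¹ := by
      have hxc := hcn c hc x hx
      have hxd := hcn d hd x hx
      have hxcd := hcn _ (Y.mul_mem hc hd) x hx
      have hPe : P = (x * (d * x * d⁻¹)) * ((c * x * c⁻¹) * (c * d * x * (c * d)⁻¹)) := by
        rw [hP, hy₂]; group
      -- everything lives in the abelian group `θ a`
      letI : CommGroup (θ a) := { (inferInstance : Group (θ a)) with
        mul_comm := fun u v => Subtype.ext (hab a ha u u.2 v v.2) }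
      have key : ∀ A B C' D' : θ a, A * A = (A * B) * (A * C') * (A * D') * ((A * C') * (B * D'))⁻¹ := by
        intro A B C' D'
        rw [eq_mul_inv_iff_mul_eq]
        simp only [mul_comm, mul_left_comm, mul_assoc]
      have := congrArg Subtype.val (key ⟨x, hx⟩ ⟨_, hxc⟩ ⟨_, hxd⟩ ⟨_, hxcd⟩)
      simp only [Subgroup.coe_mul, Subgroup.coe_inv] at this
      rw [hPe]
      exact this
    have hcom : Commute g (x * x) := by
      rw [hA]
      exact ((Commute.mul_right (show Commute g y₁ from g1) g2).mul_right g3).mul_right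
        (Commute.inv_right (show Commute g P from g4))
    exact (commute_of_sq (theta_odd a hx) (by rw [pow_two]; exact hcom.symm.eq)).symm
  -- all cores commute with one another
  have hcommall : ∀ a ∈ Y, a ≠ 1 → ∀ b ∈ Y, b ≠ 1 → ∀ x ∈ θ a, ∀ y ∈ θ b, y * x = x * y := by
    intro a ha ha1 b hb hb1 x hx y hy
    obtain ⟨c, hc, hc1, hca⟩ : ∃ c ∈ Y, c ≠ 1 ∧ c ≠ a := by
      by_contra hcon
      have hsub : ((Y : Set X)) ⊆ {1, a} := fun c hc => by
        by_contra hc'
        simp only [Set.mem_insert_iff, Set.mem_singleton_iff, not_or] at hc'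
        exact hcon ⟨c, hc, hc'.1, hc'.2⟩
      have := Set.ncard_le_ncard hsub (Set.toFinite _)
      have h2 : ({1, a} : Set X).ncard ≤ 2 := by
        refine (Set.ncard_insert_le _ _).trans ?_; simp
      rw [← Nat.card_coe_set_eq] at this
      change Nat.card ↥Y ≤ _ at this
      omega
    obtain ⟨d, hd, hd1, hda, hdc, hdac⟩ : ∃ d ∈ Y, d ≠ 1 ∧ d ≠ a ∧ d ≠ c ∧ d ≠ a * c := by
      by_contra hcon
      have hsub : ((Y : Set X)) ⊆ {1, a, c, a * c} := fun d hd => by
        by_contra hd'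
        simp only [Set.mem_insert_iff, Set.mem_singleton_iff, not_or] at hd'
        exact hcon ⟨d, hd, hd'.1, hd'.2.1, hd'.2.2.1, hd'.2.2.2⟩
      have := Set.ncard_le_ncard hsub (Set.toFinite _)
      have h2 : ({1, a, c, a * c} : Set X).ncard ≤ 4 := by
        refine (Set.ncard_insert_le _ _).trans (Nat.add_le_add_right ?_ 1)
        refine (Set.ncard_insert_le _ _).trans (Nat.add_le_add_right ?_ 1)
        refine (Set.ncard_insert_le _ _).trans ?_; simp
      rw [← Nat.card_coe_set_eq] at this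
      change Nat.card ↥Y ≤ _ at this
      omega
    refine hgen a ha c hc d hd x hx y fun v hv u hu huv => ?_
    have hvY : v ∈ Y := by rcases hv with rfl | rfl | rfl; exacts [hc, hd, Y.mul_mem hc hd]
    have hva : v ≠ 1 ∧ v ≠ a := by
      rcases hv with rfl | rfl | rfl
      · exact ⟨hc1, hca⟩
      · exact ⟨hd1, hda⟩
      · refine ⟨fun h => hdc ?_, fun h => hdac ?_⟩
        · calc d = c⁻¹ * (c * d) := by group
            _ = c := by rw [h, mul_one, inv_eq_self_of_sq (hYe c hc)]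
        · calc d = c⁻¹ * (c * d) := by group
            _ = a * c := by rw [h, inv_eq_self_of_sq (hYe c hc), hYcomm c hc a ha]
    refine (hgen b hb a ha v hvY y hy u fun t ht w hw hwt => ?_).symm
    have hua : u * a = a * u := Subgroup.mem_centralizer_singleton_iff.mp (theta_le a hu)
    have htY : t ∈ Y := by rcases ht with rfl | rfl | rfl; exacts [ha, hvY, Y.mul_mem ha hvY]
    have ht1 : t ≠ 1 := by
      rcases ht with rfl | rfl | rfl
      · exact ha1
      · exact hva.1
      · intro h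
        refine hva.2 ?_
        calc v = a⁻¹ * (a * v) := by group
          _ = a := by rw [h, mul_one, inv_eq_self_of_sq (hYe a ha)]
    have hut : u * t = t * u := by
      rcases ht with rfl | rfl | rfl
      · exact hua
      · exact huv
      · exact (Commute.mul_right (show Commute u a from hua) huv).eq
    exact hab t htY u (hbal a ha t htY ht1 u hu hut) w (hbal b hb t htY ht1 w hw hwt)
  refine ⟨?_, ?_⟩
  · set W := ⨆ y : {y : X // y ∈ Y ∧ y ≠ 1}, θ y with hW
    have hWW : ∀ u ∈ W, ∀ v ∈ W, u * v = v * u := by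
      have h1 : ∀ a : {y : X // y ∈ Y ∧ y ≠ 1}, θ a ≤ Subgroup.centralizer (W : Set X) := by
        intro a x hx
        have : W ≤ Subgroup.centralizer ({x} : Set X) := iSup_le fun b y hy =>
          Subgroup.mem_centralizer_singleton_iff.mpr (hcommall a a.2.1 a.2.2 b b.2.1 b.2.2 x hx y hy)
        exact Subgroup.mem_centralizer_iff.mpr fun v hv => Subgroup.mem_centralizer_singleton_iff.mp (this hv)
      intro u hu v hv
      exact (Subgroup.mem_centralizer_iff.mp ((iSup_le h1 : W ≤ _) hu) v hv).symm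
    have hodd : ∀ u ∈ W, (orderOf u).Coprime 2 := by
      intro u hu
      have key : u ∈ W ∧ (orderOf u).Coprime 2 := by
        refine Subgroup.iSup_induction (C := fun u => u ∈ W ∧ (orderOf u).Coprime 2)
          (fun y : {y : X // y ∈ Y ∧ y ≠ 1} => θ y) hu ?_ ?_ ?_
        · exact fun a x hx => ⟨Subgroup.mem_iSup_of_mem a hx, theta_odd _ hx⟩
        · exact ⟨W.one_mem, by simp⟩
        · rintro u v ⟨hu, hu'⟩ ⟨hv, hv'⟩
          exact ⟨W.mul_mem hu hv, Nat.Coprime.coprime_dvd_left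
            ((Commute.orderOf_mul_dvd_lcm (hWW u hu v hv)).trans (Nat.lcm_dvd_mul _ _)) (hu'.mul_left hv')⟩
      exact key.2
    show Odd (Nat.card ↥W)
    rw [Nat.odd_iff, ← Nat.two_dvd_ne_zero]
    intro h2
    obtain ⟨w, hw⟩ := exists_prime_orderOf_dvd_card' (G := W) 2 h2
    have := hodd w w.2
    rw [Subgroup.orderOf_coe, hw] at this
    norm_num at this
  · intro g hg
    have hle : ∀ a : {y : X // y ∈ Y ∧ y ≠ 1},
        (θ a).map (MulAut.conj g).toMonoidHom ≤ ⨆ y : {y : X // y ∈ Y ∧ y ≠ 1}, θ y := by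
      rintro ⟨a, ha, ha1⟩
      have ha' : g * a * g⁻¹ ∈ Y ∧ g * a * g⁻¹ ≠ 1 :=
        ⟨(Subgroup.mem_normalizer_iff.mp hg a).mp ha, fun h => ha1 (by simpa using h)⟩
      refine le_iSup_of_le (⟨_, ha'⟩ : {y : X // y ∈ Y ∧ y ≠ 1}) ?_
      show (θ a).map (MulAut.conj g).toMonoidHom ≤ θ (g * a * g⁻¹)
      set D := Subgroup.centralizer ({g * a * g⁻¹} : Set X) with hD
      set N := (θ a).map (MulAut.conj g).toMonoidHom with hN
      have hND : N ≤ D := by
        intro x hx
        rw [hN, CfsgLib.CharP.mem_map_conj] at hx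
        have h1 := Subgroup.mem_centralizer_singleton_iff.mp (theta_le a hx)
        refine Subgroup.mem_centralizer_singleton_iff.mpr ?_
        calc x * (g * a * g⁻¹) = g * (g⁻¹ * x * g * a) * g⁻¹ := by group
          _ = g * (a * (g⁻¹ * x * g)) * g⁻¹ := by rw [h1]
          _ = g * a * g⁻¹ * x := by group
      have hNn : (N.subgroupOf D).Normal := by
        refine ⟨fun n hn c => ?_⟩
        rw [Subgroup.mem_subgroupOf, hN, CfsgLib.CharP.mem_map_conj] at hn ⊢
        have hc : g⁻¹ * (c : X) * g ∈ Subgroup.centralizer ({a} : Set X) := by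
          refine Subgroup.mem_centralizer_singleton_iff.mpr ?_
          have hc := Subgroup.mem_centralizer_singleton_iff.mp c.2
          calc g⁻¹ * (c : X) * g * a = g⁻¹ * ((c : X) * (g * a * g⁻¹)) * g := by group
            _ = g⁻¹ * (g * a * g⁻¹ * c) * g := by rw [hc]
            _ = _ := by group
        have := theta_conj a hc hn
        simpa [θ, mul_assoc] using this
      intro x hx
      refine ⟨⟨x, hND hx⟩, le_pPrimeCore_of_normal (p := 2) hNn ?_ hx, rfl⟩
      rw [Nat.card_congr (Subgroup.subgroupOfEquivOfLe hND).toEquiv, hN,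
        Subgroup.card_map_of_injective (MulAut.conj g).injective]
      show (Nat.card ↥((oddCore _).map _)).Coprime 2
      rw [Subgroup.card_map_of_injective (Subgroup.subtype_injective _)]
      exact coprime_card_pPrimeCore 2
    rw [Subgroup.mem_normalizer_iff]
    intro n
    have hW : (⨆ y : {y : X // y ∈ Y ∧ y ≠ 1}, θ y).map (MulAut.conj g).toMonoidHom =
        ⨆ y : {y : X // y ∈ Y ∧ y ≠ 1}, θ y :=
      Subgroup.eq_of_le_of_card_ge (by rw [Subgroup.map_iSup]; exact iSup_le hle)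
        (Subgroup.card_map_of_injective (MulAut.conj g).injective).ge
    show n ∈ (⨆ y : {y : X // y ∈ Y ∧ y ≠ 1}, θ y) ↔ g * n * g⁻¹ ∈ _
    conv_rhs => rw [← hW, CfsgLib.CharP.mem_map_conj]
    simp [mul_assoc]

end Cfsg.Agent.S2924
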