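import Cfsg.Statements.S2925
import Cfsg.Agent.Lib.CharP.SylowTrace
import Cfsg.Agent.Lib.Components.Layer

set_option autoImplicit false
open Cfsg CfsgLib.CharP CfsgLib.Components

namespace Cfsg.Agent.S2925

theorem result {X : Type*} [Group X] [Finite X] (K : Subgroup X) (hK : Cfsg.IsComponent K) (T : Sylow 2 X) (Y : Subgroup X) (hYT : Y ≤ (T : Subgroup X)) (hYn : (Y.subgroupOf (T : Subgroup X)).Normal) (hYab : IsMulCommutative ↥Y) (hnot : ¬ Y ≤ Subgroup.normalizer (K : Set X)) (P : Sylow 2 (↥K ⧸ Subgroup.center ↥K)) : IsMulCommutative ↥(P : Subgroup (↥K ⧸ Subgroup.center ↥K)) := by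
  obtain ⟨y, hyY, hy⟩ := SetLike.not_le_iff_exists.mp hnot
  set K' := K.map (MulAut.conj y).toMonoidHom with hK'
  have hK'c : IsComponent K' := component_map_conj hK y
  have hne : K ≠ K' := by
    intro h
    apply hy
    rw [Subgroup.mem_normalizer_iff]
    intro n
    conv_rhs => rw [h, hK', CfsgLib.CharP.mem_map_conj]
    simp [mul_assoc]
  have hcomm : ∀ a ∈ K, ∀ b ∈ K', b * a = a * b := fun a ha b hb =>
    Subgroup.mem_centralizer_iff.mp (Subgroup.commutator_eq_bot_iff_le_centralizer.mp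
      (component_commutator_of_ne hK hK'c hne) ha) b hb
  have hTn : (T : Subgroup X) ≤ Subgroup.normalizer (Y : Set X) :=
    (Subgroup.normal_subgroupOf_iff_le_normalizer hYT).mp hYn
  obtain ⟨R, hR⟩ := sylow_trace_subnormal T K hK.1
  have hmem : ∀ s : ↥K, s ∈ (R : Subgroup ↥K) → (s : X) * (y * (s : X)⁻¹ * y⁻¹) ∈ Y := by
    intro s hs
    have hsT : (s : X) ∈ (T : Subgroup X) := by
      have : (s : X) ∈ (R : Subgroup ↥K).map K.subtype := ⟨s, hs, rfl⟩
      rw [hR] at this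
      exact this.1
    have := Y.mul_mem ((Subgroup.mem_normalizer_iff.mp (hTn hsT) y).mp hyY) (Y.inv_mem hyY)
    simpa [mul_assoc] using this
  have hcentral : ∀ s t : ↥K, s ∈ (R : Subgroup ↥K) → t ∈ (R : Subgroup ↥K) →
      s * t * s⁻¹ * t⁻¹ ∈ Subgroup.center ↥K := by
    intro s t hs ht
    have hc := congrArg Subtype.val (hYab.is_comm.comm ⟨_, hmem s hs⟩ ⟨_, hmem t ht⟩)
    simp only [Subgroup.coe_mul] at hc
    set a : X := y * (s : X)⁻¹ * y⁻¹ with ha
    set b : X := y * (t : X)⁻¹ * y⁻¹ with hb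
    have haK : a ∈ K' := by
      rw [hK', CfsgLib.CharP.mem_map_conj, ha]
      simp [mul_assoc]
    have hbK : b ∈ K' := by
      rw [hK', CfsgLib.CharP.mem_map_conj, hb]
      simp [mul_assoc]
    have h1 := hcomm t t.2 a haK
    have h2 := hcomm s s.2 b hbK
    have key : (s : X) * t * (s : X)⁻¹ * (t : X)⁻¹ = b * a * b⁻¹ * a⁻¹ := by
      have h3 : (s : X) * t * (a * b) = t * s * (b * a) := by
        calc (s : X) * t * (a * b) = s * ((t : X) * a) * b := by group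
          _ = s * (a * t) * b := by rw [h1]
          _ = (s * a) * ((t : X) * b) := by group
          _ = (t * b) * (s * a) := hc
          _ = t * (b * s) * a := by group
          _ = t * (s * b) * a := by rw [h2]
          _ = _ := by group
      have hst_comm : Commute ((s : X) * t * (s : X)⁻¹ * (t : X)⁻¹) (b * a * b⁻¹ * a⁻¹) :=
        (hcomm _ (K.mul_mem (K.mul_mem (K.mul_mem s.2 t.2) (K.inv_mem s.2)) (K.inv_mem t.2)) _
          (K'.mul_mem (K'.mul_mem (K'.mul_mem hbK haK) (K'.inv_mem hbK)) (K'.inv_mem haK))).symm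
      have hc1 : Commute (b * a * b⁻¹ * a⁻¹) ((s : X)⁻¹ * (t : X)⁻¹) :=
        hcomm _ (K.mul_mem (K.inv_mem s.2) (K.inv_mem t.2)) _
          (K'.mul_mem (K'.mul_mem (K'.mul_mem hbK haK) (K'.inv_mem hbK)) (K'.inv_mem haK))
      calc (s : X) * t * (s : X)⁻¹ * (t : X)⁻¹
          = (s : X) * t * (a * b) * (a * b)⁻¹ * ((s : X)⁻¹ * (t : X)⁻¹) := by group
        _ = t * s * (b * a) * (a * b)⁻¹ * ((s : X)⁻¹ * (t : X)⁻¹) := by rw [h3]
        _ = t * s * ((b * a * b⁻¹ * a⁻¹) * ((s : X)⁻¹ * (t : X)⁻¹)) := by group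
        _ = t * s * (((s : X)⁻¹ * (t : X)⁻¹) * (b * a * b⁻¹ * a⁻¹)) := by rw [hc1.eq]
        _ = _ := by group
    refine Subgroup.mem_center_iff.mpr fun k => Subtype.ext ?_
    show (k : X) * ((s : X) * t * (s : X)⁻¹ * (t : X)⁻¹) = (s : X) * t * (s : X)⁻¹ * (t : X)⁻¹ * k
    rw [key]
    exact (hcomm k k.2 _ (K'.mul_mem (K'.mul_mem (K'.mul_mem hbK haK) (K'.inv_mem hbK)) (K'.inv_mem haK))).symm
  -- transfer to the given Sylow subgroup of the quotient
  have hsurj : Function.Surjective (QuotientGroup.mk' (Subgroup.center ↥K)) := QuotientGroup.mk'_surjective _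
  obtain ⟨g, hg⟩ := MulAction.exists_smul_eq (↥K ⧸ Subgroup.center ↥K) (R.mapSurjective hsurj) P
  have hRc : IsMulCommutative ↥((R.mapSurjective hsurj : Sylow 2 _) : Subgroup (↥K ⧸ Subgroup.center ↥K)) := by
    refine ⟨⟨?_⟩⟩
    rintro ⟨_, s, hs, rfl⟩ ⟨_, t, ht, rfl⟩
    refine Subtype.ext ?_
    show QuotientGroup.mk' (Subgroup.center ↥K) s * QuotientGroup.mk' (Subgroup.center ↥K) t =
      QuotientGroup.mk' (Subgroup.center ↥K) t * QuotientGroup.mk' (Subgroup.center ↥K) s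
    rw [← map_mul, ← map_mul, QuotientGroup.mk'_eq_mk']
    refine ⟨(s * t)⁻¹ * (t * s), ?_, by group⟩
    have := hcentral t⁻¹ s⁻¹ (inv_mem ht) (inv_mem hs)
    simpa [mul_assoc] using this
  refine ⟨⟨?_⟩⟩
  rintro ⟨u, hu⟩ ⟨v, hv⟩
  rw [← hg, Sylow.coe_subgroup_smul, Subgroup.mem_pointwise_smul_iff_inv_smul_mem] at hu hv
  have h1 := congrArg Subtype.val (hRc.is_comm.comm ⟨_, hu⟩ ⟨_, hv⟩)
  simp only [Subgroup.coe_mul] at h1
  rw [← smul_mul', ← smul_mul'] at h1
  exact Subtype.ext (smul_left_cancel _ h1)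

end Cfsg.Agent.S2925
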