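import Cfsg.Statements.S2929
import Cfsg.Agent.Lib.PermGen.ThreeCycleFStar

set_option autoImplicit false
open Cfsg

namespace Cfsg.Agent.S2929

/-- Let n ≥ 5 and let H be a subgroup of the symmetric group of degree n whose generalized Fitting subgroup F*(H) is quasisimple. If H contains a Sylow 3-subgroup of the symmetric group, then F*(H) is isomorphic to an alternating group of degree m for some m ∈ {n − 2, n − 1, n}. -/
theorem result (n : ℕ) (hn : 5 ≤ n) (H : Subgroup (Equiv.Perm (Fin n))) (hF : Cfsg.IsQuasisimple ↥(Cfsg.generalizedFittingSubgroup ↥H)) (hS : ∃ P : Sylow 3 (Equiv.Perm (Fin n)), (P : Subgroup (Equiv.Perm (Fin n))) ≤ H) : ∃ m : ℕ, (m = n - 2 ∨ m = n - 1 ∨ m = n) ∧ Nonempty (↥(Cfsg.generalizedFittingSubgroup ↥H) ≃* ↥(alternatingGroup (Fin m))) := by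
  classical
  open CfsgLib.AltAut CfsgLib.PermGen Equiv.Perm in
  have main : ∃ Δ : Finset (Fin n), 5 ≤ Δ.card ∧ n ≤ Δ.card + 2 ∧
      (Cfsg.generalizedFittingSubgroup H).map H.subtype = altOn Δ := by
    obtain ⟨P, hP⟩ := hS
    haveI : Fact (Nat.Prime 3) := ⟨Nat.prime_three⟩
    let pt : Fin (n / 3) → Fin 3 → Fin n := fun i j =>
      ⟨3 * i.val + j.val, by have := i.isLt; have := j.isLt; omega⟩
    have hpt : ∀ i j k l, pt i j = pt k l → i = k ∧ j = l := fun i j k l h => by
      have h1 : 3 * i.val + j.val = 3 * k.val + l.val := congrArg Fin.val h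
      have := j.isLt
      have := l.isLt
      exact ⟨Fin.ext (by omega), Fin.ext (by omega)⟩
    have hne : ∀ i j l, j ≠ l → pt i j ≠ pt i l := fun i j l h e => h (hpt _ _ _ _ e).2
    let c : Fin (n / 3) → Equiv.Perm (Fin n) := fun i => cyc (pt i 0) (pt i 1) (pt i 2)
    have hc3 : ∀ i, (c i).IsThreeCycle := fun i =>
      cyc_isThreeCycle (hne i _ _ (by decide)) (hne i _ _ (by decide)) (hne i _ _ (by decide))
    have hcs : ∀ i, (c i).support = {pt i 0, pt i 1, pt i 2} := fun i =>
      cyc_mem_support (hne i _ _ (by decide)) (hne i _ _ (by decide)) (hne i _ _ (by decide))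
    have hdisj : ∀ i k, i ≠ k → Disjoint (c i).support (c k).support := fun i k hik => by
      rw [hcs, hcs, Finset.disjoint_left]
      intro z hz hz'
      simp only [Finset.mem_insert, Finset.mem_singleton] at hz hz'
      rcases hz with rfl | rfl | rfl <;> rcases hz' with e | e | e <;> exact hik (hpt _ _ _ _ e).1
    have hcomm : ∀ a ∈ Set.range c, ∀ b ∈ Set.range c, a * b = b * a := by
      rintro _ ⟨i, rfl⟩ _ ⟨k, rfl⟩
      by_cases hik : i = k
      · rw [hik]
      · exact (disjoint_iff_disjoint_support.2 (hdisj i k hik)).commute.eq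
    haveI : IsMulCommutative (Subgroup.closure (Set.range c)) := Subgroup.isMulCommutative_closure hcomm
    have hE : IsPGroup 3 (Subgroup.closure (Set.range c)) := by
      intro g
      refine ⟨1, Subtype.ext ?_⟩
      rw [pow_one, Subgroup.coe_pow, OneMemClass.coe_one]
      have key : ∀ g ∈ Subgroup.closure (Set.range c), g ^ 3 = 1 := by
        intro g hg
        induction hg using Subgroup.closure_induction with
        | mem a ha => obtain ⟨i, rfl⟩ := ha; exact threeCycle_pow_three (hc3 i)
        | one => exact one_pow 3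
        | mul a b ha hb iha ihb =>
          have hab : Commute a b := congrArg Subtype.val
            (mul_comm' (⟨a, ha⟩ : Subgroup.closure (Set.range c)) ⟨b, hb⟩)
          rw [hab.mul_pow, iha, ihb, one_mul]
        | inv a _ ih => rw [inv_pow, ih, inv_one]
      exact key g g.2
    obtain ⟨Q, hQ⟩ := hE.exists_le_sylow
    obtain ⟨g, hg⟩ := MulAction.exists_smul_eq (Equiv.Perm (Fin n)) P Q
    let y : Fin (n / 3) → Equiv.Perm (Fin n) := fun i => g⁻¹ * c i * g
    have hy3 : ∀ i, (y i).IsThreeCycle := fun i => by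
      show cycleType _ = _
      have := cycleType_conj (σ := c i) (τ := g⁻¹)
      rw [inv_inv] at this
      rw [this]
      exact hc3 i
    have hyH : ∀ i, y i ∈ H := fun i => by
      refine hP ?_
      have h1 : c i ∈ (Q : Subgroup (Equiv.Perm (Fin n))) := hQ (Subgroup.subset_closure ⟨i, rfl⟩)
      rw [← hg, Sylow.coe_subgroup_smul, Subgroup.mem_pointwise_smul_iff_inv_smul_mem] at h1
      simpa [y, MulAut.inv_def] using h1
    let i0 : Fin (n / 3) := ⟨0, by omega⟩
    obtain ⟨Δ, h5, -, hFΔ⟩ := genFitting_equiv_alternating hF (hy3 i0) (hyH i0)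
    have hsub : ∀ i, (y i).support ⊆ Δ := by
      intro i
      obtain ⟨Δ', -, hsupp, hFΔ'⟩ := genFitting_equiv_alternating hF (hy3 i) (hyH i)
      intro z hz
      by_contra hzn
      have h := mem_altOn (hy3 i) hsupp
      rw [← hFΔ', hFΔ] at h
      exact mem_support.1 hz (altOn_fix h hzn)
    refine ⟨Δ, h5, ?_, hFΔ⟩
    have hu : (Finset.univ.biUnion fun i => (y i).support).card = n / 3 * 3 := by
      rw [Finset.card_biUnion]
      · simp [fun i => (hy3 i).card_support]
      · intro i _ k _ hik
        show Disjoint (y i).support (y k).support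
        rw [Finset.disjoint_left]
        intro z hz hz'
        rw [mem_support] at hz hz'
        refine Finset.disjoint_left.1 (hdisj i k hik) (show g z ∈ (c i).support from mem_support.2 fun e => hz ?_)
          (mem_support.2 fun e => hz' ?_)
        · simp [y, e]
        · simp [y, e]
    have := Finset.card_le_card (Finset.biUnion_subset.2 fun i (_ : i ∈ (Finset.univ : Finset (Fin (n / 3)))) => hsub i)
    omega
  obtain ⟨Δ, h5, hn2, hFΔ⟩ := main
  have hle : Δ.card ≤ n := (Finset.card_le_univ Δ).trans (le_of_eq (Fintype.card_fin n))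
  refine ⟨Δ.card, by omega, ?_⟩
  obtain ⟨e⟩ := CfsgLib.PermGen.altOn_equiv Δ
  exact ⟨((((Cfsg.generalizedFittingSubgroup H).equivMapOfInjective _ H.subtype_injective).trans
    (MulEquiv.subgroupCongr hFΔ)).trans e.symm).trans (Equiv.altCongrHom Δ.equivFin)⟩

end Cfsg.Agent.S2929
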