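import Cfsg.Statements.S2931
import Cfsg.Agent.Lib.SylowIso.Models
import Cfsg.Agent.S0246
import Cfsg.Agent.Lib.Linear.SympCard
import Cfsg.Agent.Lib.Classical.SmallIso.Core

set_option autoImplicit false
open Cfsg

namespace Cfsg.Agent.S2931

/-- The Sylow 2-subgroups of the alternating group of degree 8 and of PSp₄(3) are isomorphic, and so are the Sylow 2-subgroups of the symmetric group of degree 8 and of the full isometry group of a non-degenerate quadratic form of minus type in dimension 6 over the field with 2 elements. -/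
theorem result (F : Type) [Field F] [Fintype F] (hF : Fintype.card F = 3) (K : Type) [Field K] [Fintype K] (hK : Fintype.card K = 2) (a b : K) (hab : ∀ z₁ z₂ : K, z₁ ^ 2 + a * z₁ * z₂ + b * z₂ ^ 2 = 0 → z₁ = 0 ∧ z₂ = 0) (P : Sylow 2 ↥(alternatingGroup (Fin 8))) (Q : Sylow 2 (Cfsg.PSp 2 F)) (P' : Sylow 2 (Equiv.Perm (Fin 8))) (Q' : Sylow 2 ↥(Cfsg.isometryGroup K (Cfsg.quadFormMinus 2 K a b))) : Nonempty (↥(P : Subgroup ↥(alternatingGroup (Fin 8))) ≃* ↥(Q : Subgroup (Cfsg.PSp 2 F))) ∧ Nonempty (↥(P' : Subgroup (Equiv.Perm (Fin 8))) ≃* ↥(Q' : Subgroup ↥(Cfsg.isometryGroup K (Cfsg.quadFormMinus 2 K a b)))) := by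
  classical
  haveI : Fact (Nat.Prime 2) := ⟨Nat.prime_two⟩
  haveI : Fact (Nat.Prime 3) := ⟨Nat.prime_three⟩
  haveI : CharP F 3 := charP_of_card_eq_prime hF
  haveI : CharP K 2 := charP_of_card_eq_prime hK
  have hA8 : Nat.card ↥(alternatingGroup (Fin 8)) = 2 ^ 6 * 315 := by
    rw [nat_card_alternatingGroup, Nat.card_fin]; rfl
  have hS8 : Nat.card (Equiv.Perm (Fin 8)) = 2 ^ 7 * 315 := by
    rw [Nat.card_perm, Nat.card_fin]; rfl
  have hSp : Nat.card (Cfsg.PSp 2 F) = 2 ^ 6 * 405 := by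
    have h := Subgroup.card_eq_card_quotient_mul_card_subgroup
      (Subgroup.center (Matrix.symplecticGroup (Fin 2) F))
    rw [CfsgLib.Linear.Symp.card_symplectic, Cfsg.Agent.S0246.result hF 2 one_le_two, hF] at h
    norm_num [Finset.prod_range_succ] at h
    rw [← Nat.card_eq_fintype_card] at h
    have h' : 51840 = Nat.card (Cfsg.PSp 2 F) * 2 := h
    omega
  have hO : Nat.card ↥(Cfsg.isometryGroup K (Cfsg.quadFormMinus 2 K a b)) = 2 ^ 7 * 405 := by
    rw [CfsgLib.Classical.SmallIso.card_isometryGroup_minus hab, Nat.card_eq_fintype_card, hK]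
    norm_num [Finset.prod_range_succ]
  refine ⟨?_, ?_⟩
  · obtain ⟨A, f, hA, hle, hf⟩ := CfsgLib.SylowIso.exists_hom_alt (F := F)
    let e := Subgroup.subgroupOfEquivOfLe hle
    refine CfsgLib.SylowIso.nonempty_equiv_sylow hA8 (by norm_num) hSp (by norm_num)
      (A.subgroupOf (alternatingGroup (Fin 8))) ?_ (f.comp e.toMonoidHom) (hf.comp e.injective) P Q
    rw [Nat.card_congr e.toEquiv, hA]
    norm_num
  · obtain ⟨A, f, hA, hf⟩ := CfsgLib.SylowIso.exists_hom_sym hK a b hab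
    exact CfsgLib.SylowIso.nonempty_equiv_sylow hS8 (by norm_num) hO (by norm_num)
      A (by rw [hA]; norm_num) f hf P' Q'

end Cfsg.Agent.S2931
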