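import Cfsg.Statements.S2932
import Cfsg.Agent.Lib.NaturalSL2Embed.FourCase

set_option autoImplicit false
open Cfsg

namespace Cfsg.Agent.S2932

/-- Let p be a prime. Inside a finite ambient group let V be an elementary abelian p-subgroup and G a subgroup normalizing V and acting faithfully on it (G ∩ C(V) = 1), and let L ≤ G act on V as SL₂(F) on its natural module, F a finite field of characteristic p, with L ≅ SL₂(F). If every Sylow p-subgroup of N_G(L) is a Sylow p-subgroup of G, then either L is normal in G, or F has 4 elements and G is isomorphic to the alternating group of degree 7. -/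
theorem result {X : Type*} [Group X] [Finite X] {p : ℕ} [Fact p.Prime] (F : Type) [Field F] [Fintype F] [CharP F p] (V G L : Subgroup X) (hV : Cfsg.IsElementaryAbelian p V) (hGV : G ≤ Subgroup.normalizer (V : Set X)) (hfaith : G ⊓ Subgroup.centralizer (V : Set X) = ⊥) (hLG : L ≤ G) (hnat : Cfsg.IsNaturalSL2Module F V L) (hLiso : Nonempty (↥L ≃* Matrix.SpecialLinearGroup (Fin 2) F)) (hSyl : ∀ S : Sylow p ↥(G ⊓ Subgroup.normalizer (L : Set X)), ∀ P : Sylow p ↥G, Nat.card S = Nat.card P) : (L.subgroupOf G).Normal ∨ (Fintype.card F = 4 ∧ Nonempty (↥G ≃* ↥(alternatingGroup (Fin 7)))) := by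
  classical
  obtain ⟨hLV, θ, ψ, hsurj, hker, hact⟩ := hnat
  have hθinj : Function.Injective θ := by
    rw [← MonoidHom.ker_eq_bot_iff, hker, Subgroup.eq_bot_iff_forall]
    intro l hl
    refine Subtype.ext ?_
    have : (l : X) ∈ G ⊓ Subgroup.centralizer (V : Set X) := ⟨hLG l.2, hl⟩
    rwa [hfaith, Subgroup.mem_bot] at this
  let Θ := MulEquiv.ofBijective θ ⟨hθinj, hsurj⟩
  let c : ↥G →* MulAut ↥V := V.normalizerMonoidHom.comp (Subgroup.inclusion hGV)
  have hc : ∀ (g : ↥G) (v : ↥V), ((c g v : ↥V) : X) = (g : X) * (v : X) * (g : X)⁻¹ := fun g v => rfl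
  let ρ : ↥G →* AddMonoid.End (Fin 2 → F) :=
    { toFun := fun g => ψ.toAddMonoidHom.comp
        ((MonoidHom.toAdditive (c g).toMonoidHom).comp ψ.symm.toAddMonoidHom)
      map_one' := by
        refine AddMonoidHom.ext fun w => ?_
        show ψ (Additive.ofMul (c 1 (ψ.symm w).toMul)) = w
        rw [map_one c]
        exact ψ.apply_symm_apply w
      map_mul' := fun g h => by
        refine AddMonoidHom.ext fun w => ?_
        show ψ (Additive.ofMul (c (g * h) (ψ.symm w).toMul)) =
          ψ (Additive.ofMul (c g (ψ.symm (ψ (Additive.ofMul (c h (ψ.symm w).toMul)))).toMul))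
        rw [ψ.symm_apply_apply, map_mul c]
        rfl }
  have hρ : ∀ g v, ρ g (ψ (Additive.ofMul v)) = ψ (Additive.ofMul (c g v)) := fun g v => by
    show ψ (Additive.ofMul (c g (ψ.symm (ψ (Additive.ofMul v))).toMul)) = _
    rw [ψ.symm_apply_apply]
    rfl
  have hinj : Function.Injective ρ := by
    rw [injective_iff_map_eq_one]
    intro g hg
    refine Subtype.ext ?_
    have : (g : X) ∈ G ⊓ Subgroup.centralizer (V : Set X) := by
      refine ⟨g.2, Subgroup.mem_centralizer_iff.2 fun v hv => ?_⟩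
      have h1 : c g ⟨v, hv⟩ = ⟨v, hv⟩ := by
        refine Additive.ofMul.injective (ψ.injective ?_)
        rw [← hρ, hg]
        rfl
      have h2 := congrArg Subtype.val h1
      rw [hc] at h2
      exact (mul_inv_eq_iff_eq_mul.1 h2).symm
    rwa [hfaith, Subgroup.mem_bot] at this
  let σ : Matrix.SpecialLinearGroup (Fin 2) F →* ↥G :=
    (Subgroup.inclusion hLG).comp Θ.symm.toMonoidHom
  have hσX : ∀ A, ((σ A : ↥G) : X) ∈ L := fun A => (Θ.symm A).2
  have hσ : ∀ A w, ρ (σ A) w = (A : Matrix (Fin 2) (Fin 2) F).mulVec w := by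
    intro A w
    obtain ⟨v, rfl⟩ : ∃ v, ψ (Additive.ofMul v) = w :=
      ⟨(ψ.symm w).toMul, ψ.apply_symm_apply w⟩
    obtain ⟨w', hw', hψw⟩ := hact (Θ.symm A) v
    rw [hρ, show c (σ A) v = w' from Subtype.ext ((hc _ _).trans hw'.symm), hψw,
      show θ (Θ.symm A) = A from Θ.apply_symm_apply A]
  set N : Subgroup X := G ⊓ Subgroup.normalizer (L : Set X) with hN
  let ι : ↥N →* ↥G := Subgroup.inclusion inf_le_left
  have hι : Function.Injective ι := Subgroup.inclusion_injective _
  let K : Subgroup ↥N := ((σ.comp (CfsgLib.NaturalSL2Embed.uniHom F)).range).comap ι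
  have hK : IsPGroup p K := by
    refine IsPGroup.comap_of_injective ?_ ι hι
    rintro ⟨x, a, rfl⟩
    refine ⟨1, Subtype.ext ?_⟩
    rw [pow_one, Subgroup.coe_pow]
    show (σ.comp (CfsgLib.NaturalSL2Embed.uniHom F) a) ^ p = 1
    rw [← map_pow, show a ^ p = 1 from Multiplicative.toAdd.injective (by
      rw [toAdd_pow, nsmul_eq_mul, CharP.cast_eq_zero, zero_mul]
      rfl), map_one]
  obtain ⟨S, hS⟩ := hK.exists_le_sylow
  obtain ⟨T, hT⟩ := (S.2.map ι).exists_le_sylow
  have hTS : (T : Subgroup ↥G) = (S : Subgroup ↥N).map ι :=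
    (Subgroup.eq_of_le_of_card_ge hT (by
      rw [Subgroup.card_map_of_injective hι]
      exact (hSyl S T).ge)).symm
  let e : CfsgLib.NaturalSL2Embed.Emb p F ↥G :=
    { ρ := ρ
      inj := hinj
      σ := σ
      hσ := hσ
      T := T
      hT := fun t ht A => by
        rw [hTS] at ht
        obtain ⟨s, -, rfl⟩ := ht
        have h1 : (s : X) * ((σ A : ↥G) : X) * (s : X)⁻¹ ∈ L :=
          (Subgroup.mem_normalizer_iff.1 s.2.2 _).1 (hσX A)
        exact ⟨Θ ⟨_, h1⟩, Subtype.ext (by
          show (s : X) * ((σ A : ↥G) : X) * (s : X)⁻¹ = ((Θ.symm (Θ ⟨_, h1⟩) : ↥L) : X)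
          rw [Θ.symm_apply_apply])⟩
      hUT := fun a => by
        rw [hTS]
        refine ⟨⟨((σ (CfsgLib.NaturalSL2Embed.uni a) : ↥G) : X), (σ _).2,
          Subgroup.le_normalizer (hσX _)⟩, hS ⟨Multiplicative.ofAdd a, rfl⟩, rfl⟩ }
  refine e.normal_or_four.imp_left fun h => ?_
  have hr : σ.range = L.subgroupOf G := by
    ext g
    rw [Subgroup.mem_subgroupOf]
    constructor
    · rintro ⟨A, rfl⟩
      exact hσX A
    · intro hg
      exact ⟨Θ ⟨g, hg⟩, Subtype.ext (by
        show ((Θ.symm (Θ ⟨_, hg⟩) : ↥L) : X) = _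
        rw [Θ.symm_apply_apply])⟩
  rwa [← hr]

end Cfsg.Agent.S2932
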