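import Cfsg.Statements.S3161
import Cfsg.Agent.Lib.StdForm.SingerCoords
import Cfsg.Agent.Lib.SylowL3.General
import Cfsg.Agent.Lib.SylowU3.Model
import Cfsg.Agent.Lib.SuzukiTwo.ExtensionEquiv

set_option autoImplicit false
open Cfsg

namespace Cfsg.Agent.S3161

open CfsgLib.SylowL3 in
theorem split_case {Q : Type*} [Group Q] [Finite Q] {n : ℕ} (hn : n ≠ 0) {K : Type} [Field K] [Fintype K]
    (hK : Fintype.card K = 2 ^ n) (h2 : ∀ x : K, x + x = 0) (e r : K) (hr : r * r + r = e)
    (π : Q →* Multiplicative (K × K)) (ι : Multiplicative K →* Q) (hπ : Function.Surjective π)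
    (hι : Function.Injective ι) (hk : π.ker = ι.range) (hc : ∀ z g, g * ι z = ι z * g)
    (hq : ∀ g x y, π g = Multiplicative.ofAdd (x, y) →
      g * g = ι (Multiplicative.ofAdd (y * y + x * y + e * (x * x)))) :
    ∃ S : Sylow 2 (Matrix.ProjectiveSpecialLinearGroup (Fin 3) K),
      Nonempty (Q ≃* ↥(S : Subgroup (Matrix.ProjectiveSpecialLinearGroup (Fin 3) K))) := by
  classical
  obtain ⟨S, hS⟩ := exists_sylow_coords (K := K) hn hK
  refine ⟨S, ?_⟩
  set G := (S : Subgroup (Matrix.ProjectiveSpecialLinearGroup (Fin 3) K))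
  let mk : K × K × K → G := fun a => ⟨ptri a, (hS _).mpr ⟨a, rfl⟩⟩
  have hmk : Function.Bijective mk :=
    ⟨fun a b h => ptri_injective (congrArg Subtype.val h), fun g => by
      obtain ⟨a, ha⟩ := (hS g.1).mp g.2
      exact ⟨a, Subtype.ext ha⟩⟩
  let co := (Equiv.ofBijective mk hmk).symm
  have hmul : ∀ a b, mk a * mk b = mk (a.1 + b.1, a.2.1 + b.2.1, a.2.2 + b.2.2 + a.1 * b.2.1) :=
    fun a b => Subtype.ext (ptri_mul a b)
  have hcomk : ∀ a, co (mk a) = a := fun a => (Equiv.ofBijective mk hmk).symm_apply_apply a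
  let π₂ : G →* Multiplicative (K × K) :=
    MonoidHom.mk' (fun g => Multiplicative.ofAdd
      ((co g).1 + (co g).2.1, (co g).1 + r * ((co g).1 + (co g).2.1))) fun g g' => by
      obtain ⟨a, rfl⟩ := hmk.2 g
      obtain ⟨b, rfl⟩ := hmk.2 g'
      rw [hmul, hcomk, hcomk, hcomk, ← ofAdd_add]
      congr 1
      exact Prod.ext (add_add_add_comm _ _ _ _) (by simp only [Prod.snd_add]; ring)
  have hπ₂ : ∀ a, π₂ (mk a) = Multiplicative.ofAdd (a.1 + a.2.1, a.1 + r * (a.1 + a.2.1)) := fun a => by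
    show Multiplicative.ofAdd _ = _
    rw [hcomk]
  let ι₂ : Multiplicative K →* G :=
    MonoidHom.mk' (fun c => mk (0, 0, Multiplicative.toAdd c)) fun c d => by
      rw [hmul]
      simp
  have hι₂ : ∀ c, ι₂ (Multiplicative.ofAdd c) = mk (0, 0, c) := fun c => rfl
  refine CfsgLib.SuzukiTwo.mulEquiv_of_squares π π₂ hπ ?_ ι ι₂ hι ?_ hk ?_ hc ?_ ?_
  · intro v
    obtain ⟨⟨x, y⟩, rfl⟩ := Multiplicative.ofAdd.surjective v
    refine ⟨mk (y + r * x, x + (y + r * x), 0), ?_⟩
    rw [hπ₂]
    congr 1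
    refine Prod.ext ?_ ?_
    · linear_combination h2 (y + r * x)
    · linear_combination h2 (r * x) + h2 (r * y) + r * h2 (r * x)
  · intro c d hcd
    obtain ⟨c, rfl⟩ := Multiplicative.ofAdd.surjective c
    obtain ⟨d, rfl⟩ := Multiplicative.ofAdd.surjective d
    rw [hι₂, hι₂] at hcd
    exact congrArg Multiplicative.ofAdd (congrArg (fun a : K × K × K => a.2.2) (hmk.1 hcd))
  · ext g
    obtain ⟨⟨a, b, c⟩, rfl⟩ := hmk.2 g
    rw [MonoidHom.mem_ker, hπ₂]
    constructor
    · intro h
      have h1 := congrArg Multiplicative.toAdd h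
      have ha : a + b = 0 := congrArg Prod.fst h1
      have hb : a + r * (a + b) = 0 := congrArg Prod.snd h1
      rw [ha, mul_zero, add_zero] at hb
      subst hb
      rw [zero_add] at ha
      subst ha
      exact ⟨Multiplicative.ofAdd c, hι₂ c⟩
    · rintro ⟨d, hd⟩
      obtain ⟨d, rfl⟩ := Multiplicative.ofAdd.surjective d
      rw [hι₂] at hd
      have h1 := hmk.1 hd
      simp only [Prod.mk.injEq] at h1
      obtain ⟨rfl, rfl, -⟩ := h1
      simp
  · intro z g
    obtain ⟨z, rfl⟩ := Multiplicative.ofAdd.surjective z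
    obtain ⟨a, rfl⟩ := hmk.2 g
    rw [hι₂, hmul, hmul]
    congr 1
    simp [add_comm]
  · intro g g' hgg
    obtain ⟨a, rfl⟩ := hmk.2 g'
    rw [hπ₂] at hgg
    refine ⟨_, hq g _ _ hgg, ?_⟩
    rw [hι₂, hmul]
    congr 1
    refine Prod.ext (h2 _) (Prod.ext (h2 _) ?_)
    simp only
    linear_combination h2 a.2.2 - h2 (a.1 * a.1) - h2 (r * a.1 * (a.1 + a.2.1)) + (a.1 + a.2.1) * (a.1 + a.2.1) * hr - (r * r) * h2 ((a.1 + a.2.1) * (a.1 + a.2.1)) - r * h2 ((a.1 + a.2.1) * (a.1 + a.2.1))

open CfsgLib.SylowU3 in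
theorem nonsplit_case {Q : Type*} [Group Q] [Finite Q] {n : ℕ} (hn : n ≠ 0) {K : Type} [Field K] [Fintype K]
    (hK : Fintype.card K = 2 ^ n) (h2K : ∀ x : K, x + x = 0) (e : K) (he : ∀ r, r * r + r ≠ e)
    (π : Q →* Multiplicative (K × K)) (ι : Multiplicative K →* Q) (hπ : Function.Surjective π)
    (hι : Function.Injective ι) (hk : π.ker = ι.range) (hc : ∀ z g, g * ι z = ι z * g)
    (hq : ∀ g x y, π g = Multiplicative.ofAdd (x, y) →
      g * g = ι (Multiplicative.ofAdd (y * y + x * y + e * (x * x)))) :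
    ∃ (F : Type) (_ : Field F) (_ : Fintype F), Fintype.card F = 4 ^ n ∧
      ∃ S : Sylow 2 (Cfsg.PSU 3 F (2 ^ n)), Nonempty (Q ≃* ↥(S : Subgroup (Cfsg.PSU 3 F (2 ^ n)))) := by
  classical
  haveI : Fact (Nat.Prime 2) := ⟨Nat.prime_two⟩
  let E := GaloisField 2 (n * 2)
  haveI : Fintype E := Fintype.ofFinite E
  have hE : Fintype.card E = (2 ^ n) ^ 2 := by
    rw [← Nat.card_eq_fintype_card, GaloisField.card 2 (n * 2) (by omega), pow_mul]
  refine ⟨E, inferInstance, inferInstance, by rw [hE, ← pow_mul, mul_comm, pow_mul]; norm_num, ?_⟩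
  obtain ⟨P⟩ := (inferInstance : Nonempty (Sylow 2 (Cfsg.PSU 3 E (2 ^ n))))
  refine ⟨P, ?_⟩
  obtain ⟨s, hs, hF, ⟨co⟩⟩ := exists_coords_PSU n hE P
  set G := (P : Subgroup (Cfsg.PSU 3 E (2 ^ n)))
  haveI : Finite G := Finite.of_injective co.c co.inj
  let k0 : Subfield E := RingHom.eqLocusField s (RingHom.id E)
  haveI : Fintype k0 := Fintype.ofFinite k0
  have hk0 : Fintype.card k0 = Fintype.card K := by
    rw [← Nat.card_eq_fintype_card, hK]
    exact hF.card_fixed
  let φ0 : K ≃+* k0 := FiniteField.ringEquivOfCardEq hk0.symm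
  let φ : K →+* E := k0.subtype.comp φ0.toRingHom
  have hfix : ∀ x, s (φ x) = φ x := fun x => (φ0 x).2
  have hφs : ∀ c, s c = c → ∃ x, φ x = c := fun c hc =>
    ⟨φ0.symm ⟨c, hc⟩, congrArg Subtype.val (φ0.apply_symm_apply ⟨c, hc⟩)⟩
  -- the root of the form
  obtain ⟨ω, hω1, hω2⟩ : ∃ ω, ω + s ω = 1 ∧ ω * s ω = φ e := by
    obtain ⟨a, ha⟩ := hF.trace
    have hNa : s (a * s a) = a * s a := by rw [map_mul, hF.invol, mul_comm]
    obtain ⟨d, hd⟩ := hφs _ hNa
    let AS : K →+ K := AddMonoidHom.mk' (fun x => x * x + x) fun x y => by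
      linear_combination h2K (x * y)
    have hker : ∀ x, x ∈ AS.ker ↔ x = 0 ∨ x = 1 := by
      intro x
      rw [AddMonoidHom.mem_ker]
      constructor
      · intro h
        have h' : x * x + x = 0 := h
        have h1 : x * (x + 1) = 0 := by linear_combination h'
        rcases mul_eq_zero.mp h1 with h2 | h2
        · exact Or.inl h2
        · exact Or.inr (by linear_combination h2 - h2K 1)
      · rintro (rfl | rfl)
        · simp
        · show (1 : K) * 1 + 1 = 0
          linear_combination h2K 1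
    have hkc : Nat.card AS.ker = 2 := by
      rw [Nat.card_eq_two_iff]
      refine ⟨⟨0, (hker 0).mpr (Or.inl rfl)⟩, ⟨1, (hker 1).mpr (Or.inr rfl)⟩, ?_, ?_⟩
      · intro h
        exact zero_ne_one (congrArg Subtype.val h)
      · ext x
        simp only [Set.mem_insert_iff, Set.mem_singleton_iff, Set.mem_univ, iff_true]
        rcases (hker x.1).mp x.2 with h | h
        · exact Or.inl (Subtype.ext h)
        · exact Or.inr (Subtype.ext h)
    have hidx : AS.range.index = 2 := by
      have h1 := AS.range.card_mul_index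
      have h3 := AS.ker.card_mul_index
      rw [AddSubgroup.index_ker, hkc] at h3
      rw [← h3, mul_comm (2 : ℕ)] at h1
      exact Nat.eq_of_mul_eq_mul_left Nat.card_pos h1
    have hdnot : d ∉ AS.range := by
      rintro ⟨x, hx⟩
      have hx' : x * x + x = d := hx
      have h1 : (a + φ x) * (a + φ x + 1) = 0 := by
        have h4 : φ x * φ x + φ x = a * s a := by rw [← hd, ← hx', map_add, map_mul]
        linear_combination h4 + a * (hF.two (φ x)) + a * ha + hF.two a
      rcases mul_eq_zero.mp h1 with h3 | h3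
      · have : a = φ x := by linear_combination h3 - hF.two (φ x)
        rw [this, hfix, hF.two] at ha
        exact zero_ne_one ha
      · have : a = φ (x + 1) := by rw [map_add, map_one]; linear_combination h3 - hF.two (φ x) - hF.two 1
        rw [this, hfix, hF.two] at ha
        exact zero_ne_one ha
    have henot : e ∉ AS.range := fun ⟨x, hx⟩ => he x hx
    obtain ⟨x, hx⟩ : d + e ∈ AS.range :=
      (AddSubgroup.add_mem_iff_of_index_two hidx).mpr (iff_of_false hdnot henot)
    refine ⟨a + φ x, ?_, ?_⟩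
    · rw [map_add, hfix]
      linear_combination ha + hF.two (φ x)
    · have hx' : x * x + x = d + e := hx
      have h4 : φ x * φ x + φ x = a * s a + φ e := by rw [← hd, ← map_add, ← hx', map_add, map_mul]
      rw [map_add, hfix]
      linear_combination h4 + φ x * ha + hF.two (a * s a)
  let Φ : K × K → E := fun v => φ v.2 + φ v.1 * ω
  have hΦt : ∀ v, Φ v + s (Φ v) = φ v.1 := fun v => by
    simp only [Φ, map_add, map_mul, hfix]
    linear_combination hF.two (φ v.2) + φ v.1 * hω1
  have hΦinj : Function.Injective Φ := by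
    intro v w h
    have h1 : v.1 = w.1 := φ.injective (by rw [← hΦt, ← hΦt, h])
    have h3 : φ v.2 + φ v.1 * ω = φ w.2 + φ w.1 * ω := h
    rw [h1] at h3
    exact Prod.ext h1 (φ.injective (add_right_cancel h3))
  have hΦbij : Function.Bijective Φ := (Nat.bijective_iff_injective_and_card Φ).mpr ⟨hΦinj, by
    rw [Nat.card_prod, Nat.card_eq_fintype_card, Nat.card_eq_fintype_card, hK, hE]; ring⟩
  let Φe : K × K ≃+ E :=
    { Equiv.ofBijective Φ hΦbij with
      map_add' := fun v w => by
        show Φ (v + w) = Φ v + Φ w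
        simp only [Φ, Prod.fst_add, Prod.snd_add, map_add]
        ring }
  let π₂ : G →* Multiplicative (K × K) :=
    MonoidHom.mk' (fun g => Multiplicative.ofAdd (Φe.symm (co.c g).1)) fun g g' => by
      rw [co.mul, map_add]; rfl
  have hcen : ∀ c : K, φ c + s (φ c) = 0 * s (0 : E) := fun c => by rw [hfix, hF.two, zero_mul]
  choose el hel using fun c : K => co.surj 0 (φ c) (hcen c)
  let ι₂ : Multiplicative K →* G :=
    MonoidHom.mk' (fun c => el (Multiplicative.toAdd c)) fun c d => co.inj (by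
      rw [co.mul, hel, hel, hel]
      simp)
  have hι₂ : ∀ c, co.c (ι₂ (Multiplicative.ofAdd c)) = (0, φ c) := fun c => hel c
  refine CfsgLib.SuzukiTwo.mulEquiv_of_squares π π₂ hπ ?_ ι ι₂ hι ?_ hk ?_ hc ?_ ?_
  · intro v
    obtain ⟨v, rfl⟩ := Multiplicative.ofAdd.surjective v
    obtain ⟨g, hg⟩ := co.exists_fst hF (Φe v)
    exact ⟨g, by show Multiplicative.ofAdd _ = _; rw [hg, Φe.symm_apply_apply]⟩
  · intro c d hcd
    obtain ⟨c, rfl⟩ := Multiplicative.ofAdd.surjective c
    obtain ⟨d, rfl⟩ := Multiplicative.ofAdd.surjective d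
    have := congrArg co.c hcd
    rw [hι₂, hι₂] at this
    exact congrArg Multiplicative.ofAdd (φ.injective (congrArg Prod.snd this))
  · ext g
    rw [MonoidHom.mem_ker]
    constructor
    · intro h
      have h1 : (co.c g).1 = 0 := by
        have h2 : Φe.symm (co.c g).1 = 0 := h
        simpa using congrArg Φe h2
      have h3 := co.cond g
      rw [h1, zero_mul] at h3
      obtain ⟨c, hc'⟩ := hφs (co.c g).2 (by linear_combination h3 - hF.two (co.c g).2)
      exact ⟨Multiplicative.ofAdd c, co.inj (by rw [hι₂, hc', ← h1])⟩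
    · rintro ⟨c, rfl⟩
      obtain ⟨c, rfl⟩ := Multiplicative.ofAdd.surjective c
      show Multiplicative.ofAdd _ = _
      rw [hι₂, map_zero]
      rfl
  · intro z g
    obtain ⟨z, rfl⟩ := Multiplicative.ofAdd.surjective z
    rw [co.commute_iff, hι₂]
    simp
  · intro g g' hgg
    obtain ⟨⟨x, y⟩, hxy⟩ : ∃ v, Φe.symm (co.c g').1 = v := ⟨_, rfl⟩
    have hz : (co.c g').1 = φ y + φ x * ω := by
      rw [← Φe.apply_symm_apply (co.c g').1, hxy]; rfl
    refine ⟨_, hq g x y (hgg.trans (congrArg Multiplicative.ofAdd hxy)), co.inj ?_⟩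
    rw [hι₂, co.sq_coords hF, hz]
    refine Prod.ext rfl ?_
    simp only [map_add, map_mul, hfix]
    linear_combination (φ x * φ y) * hω1 + (φ x * φ x) * hω2

/-- Let Q be a non-abelian finite 2-group admitting commuting automorphisms α of order 2 and ρ of order 2^n − 1, where n ≥ 2, such that the fixed points of α form an elementary abelian subgroup of order 2^n on whose nonidentity elements the group generated by ρ acts transitively. Then Q is isomorphic to a Sylow 2-subgroup of the projective special unitary group of dimension 3 with parameter 2^n (realised over the field with 4^n elements) or of the projective special linear group of dimension 3 over the field with 2^n elements. -/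
theorem result {Q : Type*} [Group Q] [Finite Q] (hQ : IsPGroup 2 Q) (hna : ¬ IsMulCommutative Q) (n : ℕ) (hn : 2 ≤ n)
    (α ρ : MulAut Q) (hα : orderOf α = 2) (hρ : orderOf ρ = 2 ^ n - 1) (hc : Commute α ρ)
    (C : Subgroup Q) (hC : ∀ x : Q, x ∈ C ↔ α x = x) (hCE : Cfsg.IsElementaryAbelian 2 C ∧ Nat.card ↥C = 2 ^ n)
    (htr : ∀ x y : Q, x ∈ C → y ∈ C → x ≠ 1 → y ≠ 1 → ∃ k : ℕ, (ρ ^ k) x = y) :
    (∃ (F : Type) (_ : Field F) (_ : Fintype F), Fintype.card F = 4 ^ n ∧
        ∃ S : Sylow 2 (Cfsg.PSU 3 F (2 ^ n)), Nonempty (Q ≃* ↥(S : Subgroup (Cfsg.PSU 3 F (2 ^ n))))) ∨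
      (∃ (F : Type) (_ : Field F) (_ : Fintype F), Fintype.card F = 2 ^ n ∧
        ∃ S : Sylow 2 (Matrix.ProjectiveSpecialLinearGroup (Fin 3) F), Nonempty (Q ≃* ↥(S : Subgroup (Matrix.ProjectiveSpecialLinearGroup (Fin 3) F)))) := by
  classical
  haveI : Fact (Nat.Prime 2) := ⟨Nat.prime_two⟩
  have hS : CfsgLib.StdForm.Singer α ρ C n :=
    { pgroup := hQ
      invol := fun y => by
        have h1 : (α ^ 2) y = y := by rw [← hα, pow_orderOf_eq_one]; rfl
        rw [sq] at h1
        exact h1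
      comm := fun y => congrArg (fun φ : MulAut Q => φ y) hc.eq
      mem := hC
      sq := fun c hc' => by rw [← sq]; exact hCE.1.2 c hc'
      card := hCE.2
      two_le := hn
      trans := htr }
  obtain ⟨g, k, hgk⟩ : ∃ g k : Q, g * k ≠ k * g := by
    by_contra hall
    push Not at hall
    exact hna ⟨⟨hall⟩⟩
  have hρ' : ρ ^ (2 ^ n - 1) = 1 := by rw [← hρ]; exact pow_orderOf_eq_one ρ
  obtain ⟨e, π, ι, hπ, hι, hk, hcen, hq⟩ := hS.exists_quadratic hρ' ⟨g, k, hgk⟩
  haveI : Fintype (GaloisField 2 n) := Fintype.ofFinite _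
  have hn0 : n ≠ 0 := by omega
  have hK : Fintype.card (GaloisField 2 n) = 2 ^ n := by
    rw [← Nat.card_eq_fintype_card, GaloisField.card 2 n hn0]
  by_cases he : ∃ r, r * r + r = e
  · obtain ⟨r, hr⟩ := he
    exact Or.inr ⟨GaloisField 2 n, inferInstance, inferInstance, hK,
      split_case hn0 hK CharTwo.add_self_eq_zero e r hr π ι hπ hι hk hcen hq⟩
  · push Not at he
    exact Or.inl (nonsplit_case hn0 hK CharTwo.add_self_eq_zero e he π ι hπ hι hk hcen hq)

end Cfsg.Agent.S3161
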