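import Cfsg.Statements.S2933
import Cfsg.Agent.Lib.TwoFusion.RankTwoTrans.Main
import Cfsg.Agent.S3161


set_option autoImplicit false
open Cfsg

namespace Cfsg.Agent.S2933

open CfsgLib.TwoFusion.RankTwo

/-- An abelian `T` with an involutory automorphism `α` fixing exactly the four-group `V`, commuting
with an automorphism `ρ` cycling `V`. -/
theorem abelian_case {T : Type*} [Group T] [Finite T] (hT : IsPGroup 2 T)
    (hab : ∀ x y : T, x * y = y * x) (V : Subgroup T) (hV4 : Nat.card V = 4)
    (hV2 : ∀ v ∈ V, v * v = 1) (α ρ : MulAut T) (hα : ∀ x, α (α x) = x)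
    (hfix : ∀ x, α x = x ↔ x ∈ V) (hρ3 : ∀ x, ρ (ρ (ρ x)) = x) (hc : ∀ x, α (ρ x) = ρ (α x))
    (hρV : ∀ v ∈ V, ρ v = v → v = 1) :
    (Nat.card T = 16 ∧ ∀ x : T, x * x = 1) ∨
      ∃ n : ℕ, 1 ≤ n ∧ Nonempty (T ≃* Multiplicative (ZMod (2 ^ n) × ZMod (2 ^ n))) := by
  classical
  haveI : Fact (Nat.Prime 2) := ⟨Nat.prime_two⟩
  let Ω : Subgroup T :=
    { carrier := {x | x * x = 1}
      one_mem' := one_mul 1
      mul_mem' := fun {a b} ha hb => by
        show a * b * (a * b) = 1
        calc a * b * (a * b) = a * (b * a) * b := by group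
          _ = (a * a) * (b * b) := by rw [hab b a]; group
          _ = 1 := by rw [show a * a = 1 from ha, show b * b = 1 from hb, one_mul]
      inv_mem' := fun {a} ha => by
        show a⁻¹ * a⁻¹ = 1
        rw [← mul_inv_rev, show a * a = 1 from ha, inv_one] }
  have hVΩ : V ≤ Ω := hV2
  let N : T →* T :=
    { toFun := fun x => x * α x
      map_one' := by simp
      map_mul' := fun x y => by
        calc x * y * α (x * y) = x * (y * α x) * α y := by rw [map_mul]; group
          _ = x * α x * (y * α y) := by rw [hab y (α x)]; group }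
  have hNV : ∀ x, N x ∈ V := fun x => (hfix _).mp (by
    show α (x * α x) = x * α x
    rw [map_mul, hα, hab])
  -- `ρ` has no fixed points
  have hfp : ∀ x, ρ x = x → x = 1 := by
    intro x hx
    by_contra hx1
    set s := x ^ (orderOf x / 2) with hs
    have hs2 : orderOf s = 2 :=
      orderOf_pow_orderOf_div (orderOf_pos x).ne' (hT.dvd_orderOf hx1)
    have hss : s * s = 1 := by rw [← sq, ← hs2]; exact pow_orderOf_eq_one s
    have hρs : ρ s = s := by rw [hs, map_pow, hx]
    have h1 : N s = 1 := hρV _ (hNV s) (by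
      show ρ (s * α s) = s * α s
      rw [map_mul, ← hc, hρs])
    have h2 : α s = s :=
      (eq_inv_of_mul_eq_one_right (show s * α s = 1 from h1)).trans
        (inv_eq_of_mul_eq_one_right hss)
    have := hρV s ((hfix s).mp h2) hρs
    rw [this, orderOf_one] at hs2
    omega
  -- the involutions
  let NΩ : Ω →* V := (N.comp Ω.subtype).codRestrict V fun x => hNV x
  have hker : NΩ.ker = V.subgroupOf Ω := by
    ext x
    rw [MonoidHom.mem_ker, Subgroup.mem_subgroupOf, Subtype.ext_iff]
    show (x : T) * α x = 1 ↔ _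
    rw [← hfix]
    constructor
    · intro h
      exact (eq_inv_of_mul_eq_one_right h).trans (inv_eq_of_mul_eq_one_right x.2)
    · intro h
      rw [h]; exact x.2
  have hcardΩ : Nat.card Ω = 4 * Nat.card NΩ.range := by
    rw [← NΩ.ker.card_mul_index, Subgroup.index_ker, hker,
      Nat.card_congr (Subgroup.subgroupOfEquivOfLe hVΩ).toEquiv, hV4]
  have hrange : Nat.card NΩ.range ∣ 4 := hV4 ▸ Subgroup.card_subgroup_dvd_card NΩ.range
  have hmod := CfsgLib.StdForm.card_fpf_mod (ρ := ρ) hρ3 hfp (S := Ω) (fun y hy => by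
    show ρ y * ρ y = 1
    rw [← map_mul, show y * y = 1 from hy, map_one])
  rw [hcardΩ] at hmod
  have hle : Nat.card NΩ.range ≤ 4 := Nat.le_of_dvd (by norm_num) hrange
  rcases (show Nat.card NΩ.range = 1 ∨ Nat.card NΩ.range = 4 by
      interval_cases h : Nat.card NΩ.range <;> omega) with h1 | h4
  · -- three involutions
    right
    have hinv : Nat.card {x : T // x * x = 1} = 4 := by
      show Nat.card Ω = 4
      rw [hcardΩ, h1]
    have hΩV : Ω = V := (Subgroup.eq_of_le_of_card_ge hVΩ (by rw [hcardΩ, h1, hV4])).symm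
    refine ThreeInvol.homocyclic ⟨hT, hinv, ρ, fun s t hs hs1 ht ht1 => ?_⟩ hab
    have e0 : ρ s ≠ s := fun e => hs1 (hρV s (hΩV ▸ hs) e)
    have e1 : ρ s ≠ 1 := fun e => hs1 (ρ.injective (e.trans (map_one ρ).symm))
    have e2 : ρ (ρ s) ≠ 1 := fun e => e1 (ρ.injective (e.trans (map_one ρ).symm))
    have e3 : ρ (ρ s) ≠ ρ s := fun e => e0 (ρ.injective e)
    have e4 : ρ (ρ s) ≠ s := fun e => by
      have := congrArg ρ e
      rw [hρ3] at this
      exact e0 this.symm
    have hρsΩ : ρ s * ρ s = 1 := by rw [← map_mul, hs, map_one]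
    haveI := Fintype.ofFinite T
    have hset : ({1, s, ρ s, ρ (ρ s)} : Finset T) = Finset.univ.filter fun x => x * x = 1 := by
      refine Finset.eq_of_subset_of_card_le ?_ (le_of_eq ?_)
      · intro y hy
        simp only [Finset.mem_insert, Finset.mem_singleton] at hy
        simp only [Finset.mem_filter, Finset.mem_univ, true_and]
        rcases hy with rfl | rfl | rfl | rfl
        · exact one_mul 1
        · exact hs
        · exact hρsΩ
        · rw [← map_mul, hρsΩ, map_one]
      · rw [← Fintype.card_subtype, ← Nat.card_eq_fintype_card, hinv,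
          Finset.card_insert_of_notMem (by simp [Ne.symm hs1, e1.symm, e2.symm]),
          Finset.card_insert_of_notMem (by simp [e0.symm, e4.symm]),
          Finset.card_insert_of_notMem (by simp [e3.symm]), Finset.card_singleton]
    have hmem : t ∈ ({1, s, ρ s, ρ (ρ s)} : Finset T) := by rw [hset]; simp [ht]
    simp only [Finset.mem_insert, Finset.mem_singleton] at hmem
    rcases hmem with h | h | h | h
    · exact absurd h ht1
    · exact ⟨0, h.symm⟩
    · exact ⟨1, by rw [pow_one]; exact h.symm⟩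
    · exact ⟨2, by rw [sq]; exact h.symm⟩
  · -- sixteen involutions
    left
    have hsurj : Function.Surjective NΩ :=
      MonoidHom.range_eq_top.mp (Subgroup.eq_top_of_card_eq _ (by rw [h4, hV4]))
    have hall : ∀ x : T, x * x = 1 := by
      have key : ∀ x : T, x * x * (x * x) = 1 → x * x = 1 := by
        intro x hx
        by_contra hne
        have hsV : x * x ∈ V := by
          rw [← hfix]
          have hy : α (x * x) * α (x * x) = 1 := by rw [← map_mul, hx, map_one]
          have h1 : (x * x) * α (x * x) = 1 := by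
            calc x * x * α (x * x) = N (x * x) := rfl
              _ = N x * N x := map_mul N x x
              _ = 1 := hV2 _ (hNV x)
          exact (eq_inv_of_mul_eq_one_right h1).trans (inv_eq_of_mul_eq_one_right hx)
        obtain ⟨w, hw⟩ := hsurj ⟨x * x * N x, V.mul_mem hsV (hNV x)⟩
        have hw' : (w : T) * α w = x * x * N x := congrArg Subtype.val hw
        have hαx : α x = x⁻¹ * N x := (inv_mul_cancel_left x (α x)).symm
        have hαw : α (w : T) = (w : T) * (x * x * N x) := by
          rw [← hw', ← mul_assoc, show (w : T) * w = 1 from w.2, one_mul]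
        have hzfix : α (x * w) = x * w := by
          rw [map_mul, hαx, hαw]
          calc x⁻¹ * N x * ((w : T) * (x * x * N x))
              = x⁻¹ * N x * ((x * x * N x) * w) := by rw [hab (w : T)]
            _ = x⁻¹ * (N x * (x * x)) * N x * w := by group
            _ = x⁻¹ * (x * x) * (N x * N x) * w := by rw [hab (N x)]; group
            _ = x * w := by rw [hV2 _ (hNV x)]; group
        have hzV := hV2 _ ((hfix _).mp hzfix)
        apply hne
        calc x * x = x * x * ((w : T) * w) := by rw [show (w : T) * w = 1 from w.2, mul_one]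
          _ = x * w * (x * w) := Commute.mul_mul_mul_comm (hab x w) x w
          _ = 1 := hzV
      have hpow : ∀ (k : ℕ) (x : T), x ^ 2 ^ k = 1 → x * x = 1 := by
        intro k
        induction k with
        | zero => intro x hx; rw [pow_zero, pow_one] at hx; rw [hx, one_mul]
        | succ k ih =>
          intro x hx
          exact key x (ih (x * x) (by rw [← sq, ← pow_mul, ← pow_succ']; exact hx))
      intro x
      obtain ⟨k, hk⟩ := hT x
      exact hpow k x hk
    refine ⟨?_, hall⟩
    rw [← Subgroup.card_top, show (⊤ : Subgroup T) = Ω from (eq_top_iff.mpr fun x _ => hall x).symm,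
      hcardΩ, h4]


/-- Let T be a 2-subgroup of a finite group G, V ≤ Z(T) a four-group, and t, ρ ∈ N_G(V) ∩ N_G(T) elements of order 2 and 3 with t commuting with ρ and with V. If [V, ρ] = V and C_T(t) = V, then T is elementary abelian of order 16, or homocyclic of rank 2 (ℤ/2ⁿ × ℤ/2ⁿ for some n ≥ 1), or isomorphic to a Sylow 2-subgroup of PSL₃(4) or of PSU₃(4). -/
theorem result {G : Type*} [Group G] [Finite G] (T V : Subgroup G) (hT : IsPGroup 2 ↥T) (hVT : V ≤ T ⊓ Subgroup.centralizer (T : Set G)) (hV : Nat.card ↥V = 4 ∧ ∀ v ∈ V, v ^ 2 = 1) (t ρ : G) (ht : orderOf t = 2) (hρ : orderOf ρ = 3) (htn : t ∈ Subgroup.normalizer (V : Set G) ⊓ Subgroup.normalizer (T : Set G)) (hρn : ρ ∈ Subgroup.normalizer (V : Set G) ⊓ Subgroup.normalizer (T : Set G)) (htρ : t * ρ = ρ * t) (htV : t ∈ Subgroup.centralizer (V : Set G)) (hVρ : ⁅V, Subgroup.zpowers ρ⁆ = V) (hCt : T ⊓ Subgroup.centralizer ({t} : Set G) = V) : (Nat.card ↥T = 16 ∧ ∀ x ∈ T, x ^ 2 = 1) ∨ (∃ n : ℕ, 1 ≤ n ∧ Nonempty (↥T ≃* Multiplicative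 (ZMod (2 ^ n)) × Multiplicative (ZMod (2 ^ n)))) ∨ (∃ (F : Type) (_ : Field F) (_ : Fintype F), Fintype.card F = 4 ∧ ∀ P : Sylow 2 (Matrix.ProjectiveSpecialLinearGroup (Fin 3) F), Nonempty (↥T ≃* ↥(P : Subgroup (Matrix.ProjectiveSpecialLinearGroup (Fin 3) F)))) ∨ (∃ (F : Type) (_ : Field F) (_ : Fintype F), Fintype.card F = 16 ∧ ∀ P : Sylow 2 (Cfsg.PSU 3 F 4), Nonempty (↥T ≃* ↥(P : Subgroup (Cfsg.PSU 3 F 4)))) := by
  classical
  haveI : Fact (Nat.Prime 2) := ⟨Nat.prime_two⟩
  have hVT' : V ≤ T := hVT.trans inf_le_left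
  let α : MulAut ↥T := T.normalizerMonoidHom ⟨t, htn.2⟩
  let σ : MulAut ↥T := T.normalizerMonoidHom ⟨ρ, hρn.2⟩
  have hαa : ∀ x : ↥T, ((α x : ↥T) : G) = t * x * t⁻¹ := fun x => rfl
  have hσa : ∀ x : ↥T, ((σ x : ↥T) : G) = ρ * x * ρ⁻¹ := fun x => rfl
  have ht2 : t * t = 1 := by rw [← sq, ← ht]; exact pow_orderOf_eq_one t
  have hρ3 : ρ ^ 3 = 1 := hρ ▸ pow_orderOf_eq_one ρ
  set V' : Subgroup ↥T := V.subgroupOf T with hV'
  have hV'4 : Nat.card V' = 4 := by
    rw [hV', Nat.card_congr (Subgroup.subgroupOfEquivOfLe hVT').toEquiv, hV.1]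
  have hV'2 : ∀ v ∈ V', v * v = 1 := fun v hv => Subtype.ext (by
    have := hV.2 _ (Subgroup.mem_subgroupOf.mp hv)
    rwa [sq] at this)
  have hfix : ∀ x : ↥T, α x = x ↔ x ∈ V' := by
    intro x
    rw [hV', Subgroup.mem_subgroupOf, ← hCt, Subgroup.mem_inf,
      Subgroup.mem_centralizer_singleton_iff, Subtype.ext_iff, hαa]
    simp only [x.2, true_and]
    constructor
    · intro h
      calc (x : G) * t = t * x * t⁻¹ * t := by rw [h]
        _ = t * x := by group
    · intro h
      rw [← h, mul_inv_cancel_right]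
  have hα2 : ∀ x, α (α x) = x := fun x => Subtype.ext (by
    rw [hαa, hαa, show t⁻¹ = t from inv_eq_of_mul_eq_one_right ht2]
    calc t * (t * x * t) * t = (t * t) * x * (t * t) := by group
      _ = x := by rw [ht2, one_mul, mul_one])
  have hσ3 : ∀ x, σ (σ (σ x)) = x := fun x => Subtype.ext (by
    rw [hσa, hσa, hσa]
    calc ρ * (ρ * (ρ * x * ρ⁻¹) * ρ⁻¹) * ρ⁻¹ = ρ ^ 3 * x * (ρ ^ 3)⁻¹ := by rw [pow_three]; group
      _ = x := by rw [hρ3, one_mul, inv_one, mul_one])
  have hcomm : ∀ x, α (σ x) = σ (α x) := fun x => Subtype.ext (by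
    rw [hαa, hσa, hσa, hαa]
    calc t * (ρ * x * ρ⁻¹) * t⁻¹ = (t * ρ) * x * (t * ρ)⁻¹ := by group
      _ = ρ * (t * x * t⁻¹) * ρ⁻¹ := by rw [htρ]; group)
  have hσV : ∀ v ∈ V', σ v = v → v = 1 := by
    intro v hv hfixv
    by_contra hv1
    haveI : Finite V := inferInstance
    -- every element of `V` is fixed by `ρ`
    have hall : ∀ a ∈ V, ρ * a * ρ⁻¹ = a := by
      intro a ha
      have hvV : (v : G) ∈ V := Subgroup.mem_subgroupOf.mp hv
      have hvρ : ρ * (v : G) * ρ⁻¹ = v := by rw [← hσa, hfixv]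
      have hv1' : (v : G) ≠ 1 := fun e => hv1 (Subtype.ext e)
      have hρa : ρ * a * ρ⁻¹ ∈ V := (Subgroup.mem_normalizer_iff.mp hρn.1 a).mp ha
      by_contra hne
      have ha1 : a ≠ 1 := fun e => hne (by rw [e]; group)
      have hav : a ≠ v := fun e => hne (by rw [e, hvρ])
      have hρa1 : ρ * a * ρ⁻¹ ≠ 1 := fun e => ha1 (by
        calc a = ρ⁻¹ * (ρ * a * ρ⁻¹) * ρ := by group
          _ = 1 := by rw [e]; group)
      have hρav : ρ * a * ρ⁻¹ ≠ v := fun e => hav (by
        calc a = ρ⁻¹ * (ρ * a * ρ⁻¹) * ρ := by group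
          _ = ρ⁻¹ * (ρ * (v : G) * ρ⁻¹) * ρ := by rw [e, hvρ]
          _ = v := by group)
      have hva : a * v ∈ V := V.mul_mem ha hvV
      have hset : ({1, (v : G), a, a * v} : Finset G) = (V : Set G).toFinite.toFinset := by
        refine Finset.eq_of_subset_of_card_le ?_ (le_of_eq ?_)
        · intro y hy
          simp only [Finset.mem_insert, Finset.mem_singleton] at hy
          rw [Set.Finite.mem_toFinset]
          rcases hy with rfl | rfl | rfl | rfl
          exacts [V.one_mem, hvV, ha, hva]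
        · rw [← Nat.card_eq_card_finite_toFinset, show Nat.card (V : Set G) = 4 from hV.1,
            Finset.card_insert_of_notMem, Finset.card_insert_of_notMem,
            Finset.card_insert_of_notMem, Finset.card_singleton]
          · simp only [Finset.mem_singleton]
            exact fun e => hv1' (mul_left_cancel (a := a) (by rw [← e, mul_one]))
          · simp only [Finset.mem_insert, Finset.mem_singleton, not_or]
            exact ⟨Ne.symm hav, fun e => ha1 (mul_eq_right.mp e.symm)⟩
          · simp only [Finset.mem_insert, Finset.mem_singleton, not_or]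
            refine ⟨Ne.symm hv1', Ne.symm ha1, fun e => hav ?_⟩
            rw [eq_inv_of_mul_eq_one_left e.symm]
            exact inv_eq_of_mul_eq_one_right (by rw [← sq]; exact hV.2 _ hvV)
      have hmem : ρ * a * ρ⁻¹ ∈ ({1, (v : G), a, a * v} : Finset G) := by
        rw [hset, Set.Finite.mem_toFinset]; exact hρa
      simp only [Finset.mem_insert, Finset.mem_singleton] at hmem
      rcases hmem with e | e | e | e
      · exact hρa1 e
      · exact hρav e
      · exact hne e
      · have e3 : ρ ^ 3 * a * (ρ ^ 3)⁻¹ = a * v * v * v := by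
          calc ρ ^ 3 * a * (ρ ^ 3)⁻¹ = ρ * (ρ * (ρ * a * ρ⁻¹) * ρ⁻¹) * ρ⁻¹ := by
                rw [pow_three]; group
            _ = ρ * (ρ * (a * v) * ρ⁻¹) * ρ⁻¹ := by rw [e]
            _ = ρ * ((ρ * a * ρ⁻¹) * (ρ * v * ρ⁻¹)) * ρ⁻¹ := by group
            _ = ρ * (a * v * v) * ρ⁻¹ := by rw [e, hvρ]
            _ = (ρ * a * ρ⁻¹) * (ρ * v * ρ⁻¹) * (ρ * v * ρ⁻¹) := by group
            _ = a * v * v * v := by rw [e, hvρ]
        rw [hρ3, one_mul, inv_one, mul_one, mul_assoc (a * (v : G)),
          show (v : G) * v = 1 by rw [← sq]; exact hV.2 _ hvV, mul_one] at e3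
        exact hv1' (mul_left_cancel (a := a) (by rw [← e3, mul_one]))
    have hbot : ⁅V, Subgroup.zpowers ρ⁆ = ⊥ := by
      rw [Subgroup.commutator_eq_bot_iff_le_centralizer]
      intro a ha
      rw [Subgroup.mem_centralizer_iff]
      rintro _ ⟨k, rfl⟩
      have h : Commute ρ a := by
        show ρ * a = a * ρ
        conv_rhs => rw [← hall a ha]
        group
      exact (h.zpow_left k).eq
    rw [hVρ] at hbot
    have := hV.1
    rw [hbot, Subgroup.card_bot] at this
    omega
  by_cases hab : ∀ x y : ↥T, x * y = y * x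
  · rcases abelian_case hT hab V' hV'4 hV'2 α σ hα2 hfix hσ3 hcomm hσV with
      ⟨h16, hsq⟩ | ⟨n, hn, ⟨e⟩⟩
    · exact Or.inl ⟨h16, fun x hx => by
        rw [sq]; exact congrArg Subtype.val (hsq ⟨x, hx⟩)⟩
    · exact Or.inr (Or.inl ⟨n, hn, ⟨e.trans (MulEquiv.prodMultiplicative _ _)⟩⟩)
  · push Not at hab
    obtain ⟨x, y, hxy⟩ := hab
    have hna : ¬ IsMulCommutative ↥T := fun h => hxy (h.is_comm.comm x y)
    have hoα : orderOf α = 2 := by
      refine orderOf_eq_prime (MulEquiv.ext fun z => by rw [sq]; exact hα2 z) fun e => ?_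
      have hall : ∀ z : ↥T, (z : G) ∈ V := fun z =>
        Subgroup.mem_subgroupOf.mp ((hfix z).mp (by rw [e]; rfl))
      exact hxy (Subtype.ext (Subgroup.mem_centralizer_iff.mp (hVT (hall y)).2 x x.2))
    have hoσ : orderOf σ = 2 ^ 2 - 1 := by
      haveI : Fact (Nat.Prime 3) := ⟨Nat.prime_three⟩
      refine orderOf_eq_prime (MulEquiv.ext fun z => by
        rw [show (2 ^ 2 - 1 : ℕ) = 3 by norm_num, pow_three]; exact hσ3 z) fun e => ?_
      have : ∀ v ∈ V', v = 1 := fun v hv => hσV v hv (by rw [e]; rfl)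
      rw [Subgroup.eq_bot_iff_forall V' |>.mpr this, Subgroup.card_bot] at hV'4
      omega
    have htr : ∀ a b : ↥T, a ∈ V' → b ∈ V' → a ≠ 1 → b ≠ 1 → ∃ k : ℕ, (σ ^ k) a = b := by
      intro a b ha hb ha1 hb1
      haveI := Fintype.ofFinite ↥T
      have hσm : ∀ v ∈ V', σ v ∈ V' := fun v hv => by
        rw [hV', Subgroup.mem_subgroupOf, hσa]
        exact (Subgroup.mem_normalizer_iff.mp hρn.1 (v : G)).mp (Subgroup.mem_subgroupOf.mp hv)
      have e0 : σ a ≠ a := fun e => ha1 (hσV a ha e)
      have e1 : σ a ≠ 1 := fun e => ha1 (σ.injective (e.trans (map_one σ).symm))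
      have e2 : σ (σ a) ≠ 1 := fun e => e1 (σ.injective (e.trans (map_one σ).symm))
      have e3 : σ (σ a) ≠ σ a := fun e => e0 (σ.injective e)
      have e4 : σ (σ a) ≠ a := fun e => by
        have := congrArg σ e
        rw [hσ3] at this
        exact e0 this.symm
      have hset : ({1, a, σ a, σ (σ a)} : Finset ↥T) = Finset.univ.filter fun v => v ∈ V' := by
        refine Finset.eq_of_subset_of_card_le ?_ (le_of_eq ?_)
        · intro y hy
          simp only [Finset.mem_insert, Finset.mem_singleton] at hy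
          simp only [Finset.mem_filter, Finset.mem_univ, true_and]
          rcases hy with rfl | rfl | rfl | rfl
          exacts [V'.one_mem, ha, hσm _ ha, hσm _ (hσm _ ha)]
        · rw [← Fintype.card_subtype, ← Nat.card_eq_fintype_card, hV'4,
            Finset.card_insert_of_notMem (by simp [Ne.symm ha1, e1.symm, e2.symm]),
            Finset.card_insert_of_notMem (by simp [e0.symm, e4.symm]),
            Finset.card_insert_of_notMem (by simp [e3.symm]), Finset.card_singleton]
      have hmem : b ∈ ({1, a, σ a, σ (σ a)} : Finset ↥T) := by rw [hset]; simp [hb]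
      simp only [Finset.mem_insert, Finset.mem_singleton] at hmem
      rcases hmem with h | h | h | h
      · exact absurd h hb1
      · exact ⟨0, h.symm⟩
      · exact ⟨1, by rw [pow_one]; exact h.symm⟩
      · exact ⟨2, by rw [sq]; exact h.symm⟩
    rcases Cfsg.Agent.S3161.result hT hna 2 le_rfl α σ hoα hoσ
        (MulEquiv.ext hcomm) V' (fun z => (hfix z).symm)
        ⟨⟨⟨⟨fun a b => Subtype.ext (Subtype.ext
            (Subgroup.mem_centralizer_iff.mp (hVT (Subgroup.mem_subgroupOf.mp a.2)).2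
              _ (b : ↥T).2).symm)⟩⟩, fun v hv => by rw [sq]; exact hV'2 v hv⟩, by rw [hV'4]; norm_num⟩
        htr with ⟨F, iF, iFt, hF, S, ⟨e⟩⟩ | ⟨F, iF, iFt, hF, S, ⟨e⟩⟩
    · exact Or.inr (Or.inr (Or.inr ⟨F, iF, iFt, by rw [hF]; norm_num,
        fun P => ⟨e.trans (Sylow.equiv S P)⟩⟩))
    · exact Or.inr (Or.inr (Or.inl ⟨F, iF, iFt, by rw [hF]; norm_num,
        fun P => ⟨e.trans (Sylow.equiv S P)⟩⟩))

end Cfsg.Agent.S2933
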