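import Cfsg.Statements.S2939
import Cfsg.Agent.Lib.CharP.Basic

set_option autoImplicit false
open Cfsg CfsgLib.CharP

namespace Cfsg.Agent.S2939

variable {G : Type*} [Group G]

theorem mem_conjRight_sub {g x : G} {X : Subgroup G} :
    x ∈ subgroupConjRight g X ↔ g * x * g⁻¹ ∈ X := by
  rw [subgroupConjRight, mem_map_conj, inv_inv]

theorem conjRight_comp (a b : G) (X : Subgroup G) :
    subgroupConjRight b (subgroupConjRight a X) = subgroupConjRight (a * b) X := by
  ext x
  simp only [mem_conjRight_sub, mul_inv_rev]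
  simp [mul_assoc]

theorem conjRight_id (X : Subgroup G) : subgroupConjRight (1 : G) X = X := by
  ext x; simp [mem_conjRight_sub]

theorem conjRight_self {a : G} {X : Subgroup G} (ha : a ∈ X) : subgroupConjRight a X = X := by
  ext x
  rw [mem_conjRight_sub, Subgroup.mul_mem_cancel_right _ (X.inv_mem ha), Subgroup.mul_mem_cancel_left _ ha]

theorem coe_smul_sylow {p : ℕ} (g : G) (S : Sylow p G) :
    ((g • S : Sylow p G) : Subgroup G) = subgroupConjRight g⁻¹ (S : Subgroup G) := by
  ext x
  rw [Sylow.coe_subgroup_smul, Subgroup.mem_pointwise_smul_iff_inv_smul_mem, mem_conjRight_sub]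
  simp [MulAut.smul_def]

theorem sylowMembers_conj [Finite G] {p : ℕ} [Fact p.Prime] {𝓕 : Set (Subgroup G)}
    (h𝓕 : IsNormalSet 𝓕) {S X : Subgroup G} (g : G) (hX : X ∈ sylowMembers p 𝓕 S) :
    subgroupConjRight g X ∈ sylowMembers p 𝓕 (subgroupConjRight g S) := by
  obtain ⟨hXF, P, hP⟩ := hX
  refine ⟨h𝓕 X hXF g, ?_⟩
  have hinj : Function.Injective (MulAut.conj g⁻¹).toMonoidHom := (MulAut.conj g⁻¹).injective
  set D := subgroupConjRight g S ⊓ subgroupConjRight g X with hD
  have hDX : D ≤ subgroupConjRight g X := inf_le_right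
  have hD' : D = (S ⊓ X).map (MulAut.conj g⁻¹).toMonoidHom := by
    rw [hD, subgroupConjRight, subgroupConjRight, Subgroup.map_inf _ _ _ hinj]
  have hc : Nat.card (D.subgroupOf (subgroupConjRight g X)) =
      p ^ (Nat.card (subgroupConjRight g X)).factorization p := by
    rw [Nat.card_congr (Subgroup.subgroupOfEquivOfLe hDX).toEquiv, hD',
      Subgroup.card_map_of_injective hinj, subgroupConjRight, Subgroup.card_map_of_injective hinj,
      ← hP, Subgroup.card_map_of_injective X.subtype_injective]
    exact P.card_eq_multiplicity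
  exact ⟨Sylow.ofCard _ hc, Subgroup.map_subgroupOf_eq_of_le hDX⟩

theorem result {G : Type*} [Group G] [Finite G] {p : ℕ} [Fact p.Prime] (hdiv : p ∣ Nat.card G) (𝓕 : Set (Subgroup G)) (h𝓕 : Cfsg.IsNormalSet 𝓕) : Cfsg.ControlsSylowIntersections p 𝓕 ↔ Cfsg.FamilyStronglyControlsFusion p 𝓕 := by
  constructor
  · intro hc S A g hA ⟨a, ha, ha1⟩ hgA
    by_cases hT : g • S = S
    · refine ⟨0, fun i => i.elim0, fun i => i.elim0, g, ?_, fun i => i.elim0, by simp, fun i => i.elim0⟩
      exact Sylow.smul_eq_iff_mem_normalizer.mp hT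
    have hAT : ∀ b ∈ A, b ∈ ((g • S : Sylow p G) : Subgroup G) := by
      intro b hb
      rw [coe_smul_sylow, mem_conjRight_sub, inv_inv]
      exact hgA ⟨b, hb, rfl⟩
    have hne : (S : Subgroup G) ⊓ ((g • S : Sylow p G) : Subgroup G) ≠ ⊥ := by
      intro h0
      have : a ∈ (S : Subgroup G) ⊓ ((g • S : Sylow p G) : Subgroup G) := ⟨hA ha, hAT a ha⟩
      rw [h0, Subgroup.mem_bot] at this
      exact ha1 this
    obtain ⟨n, c, X, x, hc0, hcn, hstep⟩ := hc S (g • S) (Ne.symm hT) hne
    -- the partial products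
    let u : ℕ → G := fun i => Nat.rec 1 (fun j acc => (if h : j < n then x ⟨j, h⟩ else 1) * acc) i
    have hu0 : u 0 = 1 := rfl
    have hus : ∀ i : Fin n, u (i.val + 1) = x i * u i.val := by
      intro i
      show (if h : i.val < n then x ⟨i.val, h⟩ else 1) * u i.val = _
      rw [dif_pos i.isLt]
    have hcu : ∀ i, (h : i < n + 1) → c ⟨i, h⟩ = u i • S := by
      intro i
      induction i with
      | zero => intro h; rw [hu0, one_smul]; exact hc0
      | succ j ih =>
        intro h
        have h' : j < n := by omega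
        obtain ⟨-, -, -, hconj, -⟩ := hstep ⟨j, h'⟩
        have e : (x ⟨j, h'⟩)⁻¹ • c ⟨j + 1, h⟩ = c ⟨j, by omega⟩ := by
          apply Sylow.ext
          rw [coe_smul_sylow, inv_inv]
          exact hconj
        rw [show u (j + 1) = x ⟨j, h'⟩ * u j from hus ⟨j, h'⟩, mul_smul, ← ih (by omega), ← e,
          smul_inv_smul]
    let Y : Fin n → Subgroup G := fun i => subgroupConjRight (u i.val) (X i)
    let y : Fin n → G := fun i => (u i.val)⁻¹ * x i * u i.val
    have hprod : ∀ i, i ≤ n → ((List.ofFn y).take i).prod = u i := by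
      intro i
      induction i with
      | zero => intro _; simp [hu0]
      | succ j ih =>
        intro h
        rw [List.prod_take_succ _ _ (by simpa using h), ih (by omega), List.getElem_ofFn]
        rw [show u (j + 1) = x ⟨j, h⟩ * u j from hus ⟨j, h⟩]
        show u j * ((u j)⁻¹ * x ⟨j, h⟩ * u j) = _
        group
    have hmem : ∀ i : Fin n, Y i ∈ sylowMembers p 𝓕 (S : Subgroup G) ∧ y i ∈ Y i := by
      intro i
      obtain ⟨hX1, -, hx, -, -⟩ := hstep i
      refine ⟨?_, ?_⟩
      · have := sylowMembers_conj h𝓕 (u i.val) hX1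
        rw [show c i.castSucc = u i.val • S from hcu i.val (by omega), coe_smul_sylow, conjRight_comp,
          inv_mul_cancel, conjRight_id] at this
        exact this
      · show (u i.val)⁻¹ * x i * u i.val ∈ subgroupConjRight (u i.val) (X i)
        rw [mem_conjRight_sub]
        simpa [mul_assoc] using hx
    have hn : (List.ofFn y).prod = u n := by
      have := hprod n le_rfl
      rwa [List.take_of_length_le (by simp)] at this
    refine ⟨n, Y, y, (u n)⁻¹ * g, ?_, hmem, by rw [hn]; group, ?_⟩
    · refine Sylow.smul_eq_iff_mem_normalizer.mp ?_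
      have := hcu n (by omega)
      rw [show (⟨n, by omega⟩ : Fin (n + 1)) = Fin.last n from rfl, hcn] at this
      rw [mul_smul, this, inv_smul_smul]
    · intro i
      rw [hprod (i.val + 1) i.isLt]
      rintro _ ⟨b, hb, rfl⟩
      obtain ⟨-, -, hx, -, hle⟩ := hstep i
      obtain ⟨hb1, hb2⟩ := hle ⟨hA hb, hAT b hb⟩
      rw [show c i.succ = u (i.val + 1) • S from hcu (i.val + 1) (by omega)] at hb1
      refine ⟨?_, ?_⟩
      · change b ∈ ((u (i.val + 1) • S : Sylow p G) : Subgroup G) at hb1
        rw [coe_smul_sylow, mem_conjRight_sub, inv_inv] at hb1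
        exact hb1
      · show _ ∈ subgroupConjRight (u i.val) (X i)
        rw [mem_conjRight_sub, hus i]
        have h3 := (X i).mul_mem ((X i).mul_mem ((X i).inv_mem hx) hb2) hx
        simpa [mul_assoc] using h3
  · intro hf S T hST hne
    obtain ⟨g, hg⟩ := MulAction.exists_smul_eq G S T
    obtain ⟨a, ha, ha1⟩ : ∃ a ∈ (((S : Subgroup G) ⊓ (T : Subgroup G) : Subgroup G) : Set G), a ≠ 1 := by
      by_contra hcon
      refine hne (eq_bot_iff.mpr fun a ha => ?_)
      rw [Subgroup.mem_bot]
      by_contra h1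
      exact hcon ⟨a, ha, h1⟩
    obtain ⟨n, Y, y, y₀, hy₀, hYy, hgp, hA⟩ :=
      hf S (((S : Subgroup G) ⊓ (T : Subgroup G) : Subgroup G) : Set G) g (fun b hb => hb.1)
        ⟨a, ha, ha1⟩ (by
          rintro _ ⟨b, hb, rfl⟩
          have h2 := hb.2
          rw [← hg, coe_smul_sylow] at h2
          change b ∈ subgroupConjRight g⁻¹ (S : Subgroup G) at h2
          rw [mem_conjRight_sub, inv_inv] at h2
          exact h2)
    let u : ℕ → G := fun i => ((List.ofFn y).take i).prod
    have hus : ∀ i : Fin n, u (i.val + 1) = u i.val * y i := by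
      intro i
      show ((List.ofFn y).take (i.val + 1)).prod = _
      rw [List.prod_take_succ _ _ (by simp), List.getElem_ofFn]
    let X : Fin n → Subgroup G := fun i => subgroupConjRight (u i.val)⁻¹ (Y i)
    refine ⟨n, fun i => u i.val • S, X, fun i => u (i.val + 1) * (u i.val)⁻¹, ?_, ?_, ?_⟩
    · simp [u]
    · show u n • S = T
      have : u n = g * y₀⁻¹ := by
        rw [hgp]
        show ((List.ofFn y).take n).prod = _
        rw [List.take_of_length_le (by simp)]
        group
      rw [this, mul_smul, show y₀⁻¹ • S = S from Sylow.smul_eq_iff_mem_normalizer.mpr (inv_mem hy₀), hg]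
    · intro i
      obtain ⟨hY, hy⟩ := hYy i
      have hXeq : X i = subgroupConjRight (u (i.val + 1))⁻¹ (Y i) := by
        rw [hus i, mul_inv_rev, ← conjRight_comp, conjRight_self ((Y i).inv_mem hy)]
      have e1 : ((u i.val • S : Sylow p G) : Subgroup G) = subgroupConjRight (u i.val)⁻¹ S :=
        coe_smul_sylow _ _
      have e2 : ((u (i.val + 1) • S : Sylow p G) : Subgroup G) = subgroupConjRight (u (i.val + 1))⁻¹ S :=
        coe_smul_sylow _ _
      refine ⟨?_, ?_, ?_, ?_, ?_⟩
      · show X i ∈ sylowMembers p 𝓕 ((u i.val • S : Sylow p G) : Subgroup G)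
        rw [e1]; exact sylowMembers_conj h𝓕 _ hY
      · show X i ∈ sylowMembers p 𝓕 ((u (i.val + 1) • S : Sylow p G) : Subgroup G)
        rw [e2, hXeq]; exact sylowMembers_conj h𝓕 _ hY
      · show u (i.val + 1) * (u i.val)⁻¹ ∈ subgroupConjRight (u i.val)⁻¹ (Y i)
        rw [mem_conjRight_sub, hus i]
        simpa [mul_assoc] using hy
      · show subgroupConjRight _ ((u (i.val + 1) • S : Sylow p G) : Subgroup G) =
          ((u i.val • S : Sylow p G) : Subgroup G)
        rw [e1, e2, conjRight_comp]
        congr 1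
        group
      · intro b hb
        obtain ⟨hb1, hb2⟩ := hA i ⟨b, hb, rfl⟩
        refine ⟨?_, ?_⟩
        · show b ∈ ((u (i.val + 1) • S : Sylow p G) : Subgroup G)
          rw [e2, mem_conjRight_sub, inv_inv]
          exact hb1
        · show b ∈ X i
          rw [hXeq, mem_conjRight_sub, inv_inv]
          exact hb2

end Cfsg.Agent.S2939
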