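import Cfsg.Statements.S2940
import Cfsg.Agent.Lib.CharP.Basic

set_option autoImplicit false
open Cfsg CfsgLib.CharP

namespace Cfsg.Agent.S2940

theorem result {G : Type*} [Group G] [Finite G] {p : ℕ} [Fact p.Prime] (S : Sylow p G) (G₁ G₂ : Subgroup G) (h1 : (S : Subgroup G) ≤ G₁) (h2 : (S : Subgroup G) ≤ G₂) (hfact : ∀ g : G, ∃ g₁ ∈ G₁, ∃ g₂ ∈ G₂, g = g₁ * g₂) (g : G) : ∃ U : Sylow p G, (S : Subgroup G) ⊓ Cfsg.subgroupConjRight g (S : Subgroup G) ≤ (U : Subgroup G) ∧ (U : Subgroup G) ≤ G₁ ⊓ Cfsg.subgroupConjRight g G₂ := by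
  obtain ⟨g₁, hg₁, g₂, hg₂, hg⟩ := hfact g⁻¹
  have hg' : g = g₂⁻¹ * g₁⁻¹ := by rw [← inv_inv g, hg, mul_inv_rev]
  set K := G₁ ⊓ subgroupConjRight g G₂ with hK
  have hmemK : ∀ {x : G}, x ∈ K ↔ x ∈ G₁ ∧ g * x * g⁻¹ ∈ G₂ := by
    intro x
    rw [hK, Subgroup.mem_inf, subgroupConjRight, mem_map_conj, inv_inv]
  -- a Sylow subgroup inside `K`
  have hV : ((g₁ • S : Sylow p G) : Subgroup G) ≤ K := by
    intro x hx
    rw [Sylow.coe_subgroup_smul, Subgroup.mem_pointwise_smul_iff_inv_smul_mem] at hx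
    have hs : g₁⁻¹ * x * g₁ ∈ (S : Subgroup G) := by simpa [MulAut.smul_def] using hx
    rw [hmemK]
    refine ⟨?_, ?_⟩
    · simpa [mul_assoc] using G₁.mul_mem (G₁.mul_mem hg₁ (h1 hs)) (G₁.inv_mem hg₁)
    · rw [hg']
      simpa [mul_assoc] using G₂.mul_mem (G₂.mul_mem (G₂.inv_mem hg₂) (h2 hs)) hg₂
  set D := (S : Subgroup G) ⊓ subgroupConjRight g (S : Subgroup G) with hD
  have hDK : D ≤ K := by
    intro x hx
    rw [hD, Subgroup.mem_inf, subgroupConjRight, mem_map_conj, inv_inv] at hx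
    exact hmemK.mpr ⟨h1 hx.1, h2 hx.2⟩
  have hDp : IsPGroup p D := S.isPGroup'.to_le inf_le_left
  obtain ⟨Q, hQ⟩ := (hDp.of_equiv (Subgroup.subgroupOfEquivOfLe hDK).symm).exists_le_sylow
  obtain ⟨h, hh⟩ := MulAction.exists_smul_eq ↥K ((g₁ • S).subtype hV) Q
  rw [Sylow.smul_subtype hV] at hh
  refine ⟨h • g₁ • S, ?_, Sylow.smul_le hV h⟩
  intro x hx
  have := hQ (show (⟨x, hDK hx⟩ : K) ∈ D.subgroupOf K from hx)
  rw [← hh] at this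
  exact this

end Cfsg.Agent.S2940
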