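import Cfsg.Statements.S2953
import Cfsg.Agent.Lib.JComp.Duo
-- import your own Cfsg.Agent.* helpers here

set_option autoImplicit false
open Cfsg

namespace Cfsg.Agent.S2953

/-- Let G be a finite group of characteristic 2 type in which every 2-local subgroup is solvable and the centralizer of Ω₁(Z(S)) lies in N_G(S) for every Sylow 2-subgroup S; suppose O₂(G) = 1, fix a Sylow 2-subgroup S and a 2-local subgroup M containing N_G(J(S)) (J the Thompson subgroup generated by the elementary abelian 2-subgroups of largest order). Let T be maximal (for the order of a largest elementary abelian subgroup, then the order of J(T), then the order of T) among the nontrivial 2-subgroups of M lying in a 2-local subgroup not inside M. Then there are two distinct J(T)-components K₁, K₂ such that, with Pᵢ = ⟨Kᵢ, T⟩: C_G(O₂(Pᵢ)) ≤ O₂(Pᵢ), T is a Sylow 2-subgroup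 of Pᵢ, O₂(Pᵢ) has index 6 in Pᵢ with Pᵢ/O₂(Pᵢ) non-abelian, [Ω₁(Z(T)), Pᵢ] ≠ 1, O₂(⟨P₁, P₂⟩) = 1, and each Pᵢ lies in exactly one maximal 2-local subgroup Lᵢ of G, in which T is a Sylow 2-subgroup. -/
theorem result {G : Type*} [Group G] [Finite G] (hL : Cfsg.IsCharacteristicTwoType G) (hN : ∀ N : Subgroup G, Cfsg.IsTwoLocal N → Group.IsSolvable ↥N)
    (hZ : ∀ S : Sylow 2 G, Subgroup.centralizer (Cfsg.omegaCenterOf (S : Subgroup G) : Set G) ≤ Subgroup.normalizer ((S : Subgroup G) : Set G)) (hO : Cfsg.pCore 2 G = ⊥) (S : Sylow 2 G) (M : Subgroup G) (hM : Cfsg.IsTwoLocal M)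
    (hMJ : Subgroup.normalizer (Cfsg.thompsonSubgroupOf 2 (S : Subgroup G) : Set G) ≤ M) (T : Subgroup G) (hT : T ∈ Cfsg.maxStraddlingTwoSubgroups M) :
    ∃ K₁ K₂ : Subgroup G, K₁ ≠ K₂ ∧ Cfsg.IsJComponent T K₁ ∧ Cfsg.IsJComponent T K₂ ∧
      Cfsg.pCoreOf 2 ((K₁ ⊔ T) ⊔ (K₂ ⊔ T)) = ⊥ ∧
      ∀ P ∈ [K₁ ⊔ T, K₂ ⊔ T],
        Subgroup.centralizer (Cfsg.pCoreOf 2 P : Set G) ≤ Cfsg.pCoreOf 2 P ∧ Cfsg.IsSylowTwoIn T P ∧
        (Cfsg.pCoreOf 2 P).relIndex P = 6 ∧ ¬ ⁅P, P⁆ ≤ Cfsg.pCoreOf 2 P ∧ ⁅Cfsg.omegaCenterOf T, P⁆ ≠ ⊥ ∧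
        ∃ L : Subgroup G, Cfsg.IsMaximalTwoLocal L ∧ P ≤ L ∧ Cfsg.IsSylowTwoIn T L ∧
          ∀ L' : Subgroup G, Cfsg.IsMaximalTwoLocal L' → P ≤ L' → L' = L := by
  haveI : Fact (Nat.Prime 2) := ⟨Nat.prime_two⟩
  obtain ⟨hNJ, S', hTS', hMJ'⟩ := CfsgLib.JComp.exists_sylow_over S M hMJ T hT
  obtain ⟨K, hK⟩ := Cfsg.Agent.S2949.result hL hN hZ hO S M hM hMJ T hT
  obtain ⟨L, hLmax, hKL⟩ := CfsgLib.JComp.exists_maximalTwoLocal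
    (N := Subgroup.normalizer (Cfsg.pCoreOf 2 (K ⊔ T) : Set G))
    ⟨_, CfsgLib.JComp.pCoreOf_isPGroup _, hK.2.2, rfl⟩
  have q : CfsgLib.JComp.Pos M T K L := ⟨hL, hN, hZ, hNJ, hT, hK, hLmax,
    (sup_le_sup_left (CfsgLib.PLocal.thompsonSubgroupOf_le 2 T) K).trans
      ((Subgroup.le_normalizer.trans (CfsgLib.JComp.normalizer_le_normalizer_pCoreOf _)).trans hKL)⟩
  obtain ⟨M', K', L', d, -⟩ := q.exists_duo hO S' hTS' hMJ'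
  refine ⟨K, K', d.ne, q.comp, d.pos'.comp, d.pCoreOf_sup_sup, fun P hP => ?_⟩
  have key : ∀ {M₁ K₁ L₁ : Subgroup G}, CfsgLib.JComp.Pos M₁ T K₁ L₁ →
      T ≤ Subgroup.normalizer (K₁ : Set G) →
      Subgroup.centralizer (Cfsg.pCoreOf 2 (K₁ ⊔ T) : Set G) ≤ Cfsg.pCoreOf 2 (K₁ ⊔ T) ∧
        Cfsg.IsSylowTwoIn T (K₁ ⊔ T) ∧ (Cfsg.pCoreOf 2 (K₁ ⊔ T)).relIndex (K₁ ⊔ T) = 6 ∧
        ¬ ⁅K₁ ⊔ T, K₁ ⊔ T⁆ ≤ Cfsg.pCoreOf 2 (K₁ ⊔ T) ∧ ⁅Cfsg.omegaCenterOf T, K₁ ⊔ T⁆ ≠ ⊥ ∧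
        ∃ L₂ : Subgroup G, Cfsg.IsMaximalTwoLocal L₂ ∧ K₁ ⊔ T ≤ L₂ ∧ Cfsg.IsSylowTwoIn T L₂ ∧
          ∀ L₃ : Subgroup G, Cfsg.IsMaximalTwoLocal L₃ → K₁ ⊔ T ≤ L₃ → L₃ = L₂ := fun {M₁ K₁ L₁} p hn =>
    ⟨CfsgLib.JComp.centralizer_core_sup p hn, CfsgLib.JComp.isSylowTwoIn_sup p hn,
      CfsgLib.JComp.relIndex_core_sup p hn d.small, CfsgLib.JComp.not_commutator_le p hn,
      CfsgLib.JComp.omega_comm_ne p hn d.small, L₁, p.maxL, CfsgLib.JComp.sup_le_L p, p.sylow,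
      fun L₃ h3 hle => p.unique h3
        ((sup_le_sup_left (CfsgLib.PLocal.thompsonSubgroupOf_le 2 T) K₁).trans hle)⟩
  rcases List.mem_pair.mp hP with rfl | rfl
  · exact key q d.norm
  · exact key d.pos' d.norm'

end Cfsg.Agent.S2953
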