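import Cfsg.Statements.S2954
import Cfsg.Agent.Lib.JComp.Symmetric
-- import your own Cfsg.Agent.* helpers here

set_option autoImplicit false
open Cfsg

namespace Cfsg.Agent.S2954

/-- Let G be a finite group of characteristic 2 type in which every 2-local subgroup is solvable and the centralizer of Ω₁(Z(S)) lies in N_G(S) for every Sylow 2-subgroup S; suppose O₂(G) = 1, fix a Sylow 2-subgroup S and a 2-local subgroup M containing N_G(J(S)) (J the Thompson subgroup generated by the elementary abelian 2-subgroups of largest order). If T is maximal (for the order of a largest elementary abelian subgroup, then the order of J(T), then the order of T) among the nontrivial 2-subgroups of M lying in a 2-local subgroup not inside M, then there are two distinct maximal 2-local subgroups P₁, P₂ of G, each having T as a Sylow 2-subgroup, that are both isomorphic to the symmetric group on four letters or both isomorphic to its direct product with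 a group of order 2. -/
theorem result {G : Type*} [Group G] [Finite G] (hL : Cfsg.IsCharacteristicTwoType G) (hN : ∀ N : Subgroup G, Cfsg.IsTwoLocal N → Group.IsSolvable ↥N)
    (hZ : ∀ S : Sylow 2 G, Subgroup.centralizer (Cfsg.omegaCenterOf (S : Subgroup G) : Set G) ≤ Subgroup.normalizer ((S : Subgroup G) : Set G)) (hO : Cfsg.pCore 2 G = ⊥) (S : Sylow 2 G) (M : Subgroup G) (hM : Cfsg.IsTwoLocal M)
    (hMJ : Subgroup.normalizer (Cfsg.thompsonSubgroupOf 2 (S : Subgroup G) : Set G) ≤ M) (T : Subgroup G) (hT : T ∈ Cfsg.maxStraddlingTwoSubgroups M) :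
    ∃ P₁ P₂ : Subgroup G, P₁ ≠ P₂ ∧ Cfsg.IsMaximalTwoLocal P₁ ∧ Cfsg.IsMaximalTwoLocal P₂ ∧
      Cfsg.IsSylowTwoIn T P₁ ∧ Cfsg.IsSylowTwoIn T P₂ ∧
      ((Nonempty (↥P₁ ≃* Equiv.Perm (Fin 4)) ∧ Nonempty (↥P₂ ≃* Equiv.Perm (Fin 4))) ∨
        (Nonempty (↥P₁ ≃* Equiv.Perm (Fin 4) × Multiplicative (ZMod 2)) ∧
          Nonempty (↥P₂ ≃* Equiv.Perm (Fin 4) × Multiplicative (ZMod 2)))) := by
  haveI : Fact (Nat.Prime 2) := ⟨Nat.prime_two⟩
  obtain ⟨hNJ, S', hTS', hMJ'⟩ := CfsgLib.JComp.exists_sylow_over S M hMJ T hT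
  obtain ⟨K, hK⟩ := Cfsg.Agent.S2949.result hL hN hZ hO S M hM hMJ T hT
  obtain ⟨L, hLmax, hKL⟩ := CfsgLib.JComp.exists_maximalTwoLocal
    (N := Subgroup.normalizer (Cfsg.pCoreOf 2 (K ⊔ T) : Set G))
    ⟨_, CfsgLib.JComp.pCoreOf_isPGroup _, hK.2.2, rfl⟩
  have q : CfsgLib.JComp.Pos M T K L := ⟨hL, hN, hZ, hNJ, hT, hK, hLmax,
    (sup_le_sup_left (CfsgLib.PLocal.thompsonSubgroupOf_le 2 T) K).trans
      ((Subgroup.le_normalizer.trans (CfsgLib.JComp.normalizer_le_normalizer_pCoreOf _)).trans hKL)⟩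
  obtain ⟨M', K', L', d, hcase⟩ := q.exists_duo hO S' hTS' hMJ'
  obtain ⟨w, a, b, h⟩ : ∃ w a b, CfsgLib.JComp.Shape M M' T K K' L L' w a b := by
    rcases hcase with ⟨y, t, hy⟩ | hTS
    · obtain ⟨w, a, b, hwZ, hwW, hw1, hyw, ha, hb, hab⟩ := t.noncommute
      rw [← hy] at hb
      refine ⟨w, a, b, d, hwZ, hwW, ?_, hw1, ha, hb, hab⟩
      rw [hy, ← hyw]
      exact CfsgLib.JComp.wOf_conj_mem hwW
    · obtain ⟨w, a, b, hwZ, hwW, hwW', hw1, ha, hb, hab⟩ := d.noncommute S' hTS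
      exact ⟨w, a, b, d, hwZ, hwW, hwW', hw1, ha, hb, hab⟩
  refine ⟨L, L', d.local_ne, q.maxL, d.pos'.maxL, q.sylow, d.pos'.sylow, ?_⟩
  have hcard := CfsgLib.JComp.card_omega_eq q.two q.comp
  have hle := d.small
  have hpos : 0 < Nat.card ↥(CfsgLib.JComp.hyp T K) := Nat.card_pos
  rcases (show Nat.card ↥(Cfsg.omegaCenterOf (Cfsg.thompsonSubgroupOf 2 T)) = 2 ∨
      Nat.card ↥(Cfsg.omegaCenterOf (Cfsg.thompsonSubgroupOf 2 T)) = 4 by omega) with h2 | h4
  · exact Or.inl ⟨h.iso_two h2, h.symm.iso_two h2⟩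
  · exact Or.inr ⟨h.iso_four h4, h.symm.iso_four h4⟩

end Cfsg.Agent.S2954
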