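import Cfsg.Statements.S2955
import Cfsg.Agent.Lib.LocalEven.SylowLink

set_option autoImplicit false
open Cfsg

namespace Cfsg.Agent.S2955

/-- Let p be a prime dividing the order of the finite group G and 𝓕 a conjugation-closed family of subgroups that controls Sylow p-intersections in G. Suppose the Sylow p-subgroups of G are chain-connected: any two of them are joined by a chain of Sylow p-subgroups, consecutive ones distinct with nontrivial intersection, all containing the intersection of the two ends (equivalently, the graph on the Sylow p-subgroups whose edges are the distinct pairs meeting nontrivially is connected). Then for every Sylow p-subgroup S, G is generated by N_G(S) together with the members of 𝓕 that meet S in a Sylow p-subgroup of themselves. -/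
theorem result {G : Type*} [Group G] [Finite G] (p : ℕ) [Fact p.Prime] (hdiv : p ∣ Nat.card G)
    (𝓕 : Set (Subgroup G)) (h𝓕 : Cfsg.IsNormalSet 𝓕) (hc : Cfsg.ControlsSylowIntersections p 𝓕)
    (hconn : Cfsg.IsSylowChainConnected p G) (S : Sylow p G) :
    (⨆ X ∈ Cfsg.sylowMembers p 𝓕 (S : Subgroup G), X) ⊔ Subgroup.normalizer ((S : Subgroup G) : Set G) = ⊤ := by
  open scoped Pointwise in
  set H := (⨆ X ∈ Cfsg.sylowMembers p 𝓕 (S : Subgroup G), X) ⊔
    Subgroup.normalizer ((S : Subgroup G) : Set G) with hH
  have hmem : ∀ X ∈ Cfsg.sylowMembers p 𝓕 (S : Subgroup G), X ≤ H := fun X hX =>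
    (le_biSup (fun X => X) hX).trans le_sup_left
  have hreach : ∀ T : Sylow p G, ∃ h ∈ H, h • S = T := by
    intro T
    obtain ⟨n, c, h0, hn, -, hstep⟩ := hconn S T
    suffices h : ∀ i : Fin (n + 1), ∃ h ∈ H, h • S = c i from hn ▸ h (Fin.last n)
    intro i
    induction i using Fin.induction with
    | zero => exact ⟨1, one_mem _, by rw [one_smul, h0]⟩
    | succ i ih =>
      obtain ⟨hne, hbot⟩ := hstep i
      have hgen := CfsgLib.LocalEven.controls_iff_reflTransGen.mp hc _ _ hne hbot
      suffices h : ∀ U, Relation.ReflTransGen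
          (CfsgLib.LocalEven.SylowStep p 𝓕 ((c i.castSucc : Subgroup G) ⊓ (c i.succ : Subgroup G)))
          (c i.castSucc) U → ∃ h ∈ H, h • S = U from h _ hgen
      intro U hU
      induction hU with
      | refl => exact ih
      | @tail A B _ hAB ih' =>
        obtain ⟨h, hh, rfl⟩ := ih'
        obtain ⟨X, hX, -, x, hx, hconj, -⟩ := hAB
        obtain ⟨hXF, hXS⟩ :=
          (CfsgLib.LocalEven.mem_sylowMembers_iff_relIndex (h • S).isPGroup').mp hX
        have hX' : Cfsg.subgroupConjRight h X ∈ Cfsg.sylowMembers p 𝓕 (S : Subgroup G) := by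
          refine (CfsgLib.LocalEven.mem_sylowMembers_iff_relIndex S.isPGroup').mpr
            ⟨h𝓕 X hXF h, ?_⟩
          conv in Subgroup.relIndex _ _ => rw [← CfsgLib.LocalEven.subgroupConjRight_smul_sylow h S]
          rwa [CfsgLib.LocalEven.subgroupConjRight_eq_map, CfsgLib.LocalEven.subgroupConjRight_eq_map,
            Subgroup.relIndex_map_map_of_injective _ _ (MulEquiv.injective _)]
        have hxH : h⁻¹ * x * h ∈ H := hmem _ hX' ⟨x, hx, by simp⟩
        refine ⟨x * h, ?_, ?_⟩
        · have := mul_mem hh hxH
          simpa [mul_assoc] using this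
        · rw [CfsgLib.LocalEven.eq_smul_of_subgroupConjRight hconj, mul_smul]
  rw [eq_top_iff]
  intro g _
  obtain ⟨h, hh, hhS⟩ := hreach (g • S)
  have hn : h⁻¹ * g ∈ Subgroup.normalizer ((S : Subgroup G) : Set G) := by
    refine Sylow.smul_eq_iff_mem_normalizer.mp ?_
    rw [mul_smul, ← hhS, inv_smul_smul]
  have := mul_mem hh ((le_sup_right : _ ≤ H) hn)
  rwa [mul_inv_cancel_left] at this

end Cfsg.Agent.S2955
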