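import Cfsg.Statements.S2956
import Cfsg.Agent.Lib.LocalEven.SylowFunctor

set_option autoImplicit false
open Cfsg

namespace Cfsg.Agent.S2956

/-- Let p be a prime dividing the order of the finite group G, and f an assignment to every p-subgroup P of a set f(P) of subgroups of P, each normalized by N_G(P), compatible with conjugation, such that for P ≠ 1 the members of f(P) are nontrivial. Let 𝓕 be the family of the normalizers N_G(F) of the members F of f(S) over the Sylow p-subgroups S of G, and 𝓕' the family of the maximal p-local subgroups M of G that are singular for f (the corresponding family of normalizers inside M does not control Sylow p-intersections in M). Then 𝓕 ∪ 𝓕' controls Sylow p-intersections in G. -/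
theorem result {G : Type*} [Group G] [Finite G] (p : ℕ) [Fact p.Prime] (hdiv : p ∣ Nat.card G)
    (f : Subgroup G → Set (Subgroup G)) (hf : Cfsg.IsNormalizerFunctor p f)
    (hf1 : ∀ P : Subgroup G, IsPGroup p ↥P → P ≠ ⊥ → ∀ F ∈ f P, F ≠ ⊥)
    (𝓕 𝓕' : Set (Subgroup G)) (h𝓕 : 𝓕 = Cfsg.functorFamily p f ⊤)
    (h𝓕' : 𝓕' = {M | Cfsg.IsMaximalPLocal p M ∧ ¬ Cfsg.IsFunctorRegular p f M}) :
    Cfsg.ControlsSylowIntersections p (𝓕 ∪ 𝓕') := by
  open scoped Pointwise in
  subst h𝓕 h𝓕'
  rw [CfsgLib.LocalEven.controls_iff_reflTransGen]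
  set 𝒢 := Cfsg.functorFamily p f ⊤ ∪
    {M | Cfsg.IsMaximalPLocal p M ∧ ¬ Cfsg.IsFunctorRegular p f M} with h𝒢
  suffices H : ∀ k : ℕ, ∀ D : Subgroup G, Nat.card G - Nat.card D = k → D ≠ ⊥ →
      ∀ S T : Sylow p G, D ≤ (S : Subgroup G) → D ≤ (T : Subgroup G) →
        Relation.ReflTransGen (CfsgLib.LocalEven.SylowStep p 𝒢 D) S T from
    fun S T _ hne => H _ _ rfl hne S T inf_le_left inf_le_right
  intro k
  induction k using Nat.strong_induction_on with
  | _ k ih =>
  intro D hk hD0 S T hDS hDT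
  by_cases hST : S = T
  · subst hST; exact Relation.ReflTransGen.refl
  -- Sylow subgroups with intersection bigger than `D` are linked
  have hbig : ∀ (A B : Sylow p G) (E : Subgroup G), E ≤ (A : Subgroup G) → E ≤ (B : Subgroup G) →
      D < E → Relation.ReflTransGen (CfsgLib.LocalEven.SylowStep p 𝒢 D) A B := by
    intro A B E hA hB hlt
    have hcard : Nat.card D < Nat.card E := by
      by_contra hle
      exact hlt.ne (Subgroup.eq_of_le_of_card_ge hlt.le (not_lt.mp hle))
    have hE : Nat.card E ≤ Nat.card G := Nat.le_of_dvd Nat.card_pos (Subgroup.card_subgroup_dvd_card E)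
    exact (ih _ (by omega) E rfl (fun h => (not_lt_bot (h ▸ hlt))) A B hA hB).lift id
      fun _ _ h => CfsgLib.LocalEven.sylowStep_mono hlt.le h
  by_cases hinf : D = (S : Subgroup G) ⊓ (T : Subgroup G)
  swap
  · exact hbig S T _ inf_le_left inf_le_right (lt_of_le_of_ne (le_inf hDS hDT) hinf)
  have hDp : IsPGroup p D := S.isPGroup'.to_le hDS
  -- the normalizer grows
  have hgrow : ∀ A : Sylow p G, D ≤ (A : Subgroup G) → D ≠ (A : Subgroup G) →
      D < (A : Subgroup G) ⊓ Subgroup.normalizer (D : Set G) := by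
    intro A hA hne
    refine lt_of_le_of_ne (le_inf hA Subgroup.le_normalizer) fun heq => ?_
    have : Group.IsNilpotent (A : Subgroup G) := A.isPGroup'.isNilpotent
    have hlt : D.subgroupOf (A : Subgroup G) < ⊤ := by
      rw [lt_top_iff_ne_top, Ne, Subgroup.subgroupOf_eq_top]
      exact fun h => hne (le_antisymm hA h)
    obtain ⟨u, hu, huD⟩ := SetLike.exists_of_lt
      (normalizerCondition_of_isNilpotent (D.subgroupOf (A : Subgroup G)) hlt)
    have hn := Subgroup.le_normalizer_map (A : Subgroup G).subtype ⟨u, hu, rfl⟩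
    rw [Subgroup.map_subgroupOf_eq_of_le hA] at hn
    exact huD (Subgroup.mem_subgroupOf.mpr (heq ▸ ⟨u.2, hn⟩))
  have hSne : D ≠ (S : Subgroup G) := fun h => hST (Sylow.ext
    (S.is_maximal' T.isPGroup' (h ▸ hDT)).symm)
  have hTne : D ≠ (T : Subgroup G) := fun h => hST (Sylow.ext
    (T.is_maximal' S.isPGroup' (h ▸ hDS)))
  -- every p-local lies in a maximal one
  have hmax : ∀ N : Subgroup G, Cfsg.IsPLocal p N → ∃ M, N ≤ M ∧ Cfsg.IsMaximalPLocal p M := by
    intro N hN
    obtain ⟨M, hNM, hM⟩ := (Set.toFinite {M : Subgroup G | Cfsg.IsPLocal p M}).exists_le_maximal hN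
    exact ⟨M, hNM, hM.prop, fun L hL hML => le_antisymm (hM.2 hL hML) hML⟩
  suffices C : ∀ j : ℕ, ∀ M : Subgroup G, Cfsg.IsMaximalPLocal p M →
      Nat.card G - Nat.card ((default : Sylow p M) : Subgroup M) = j →
      ∀ A B : Sylow p G, D < (A : Subgroup G) ⊓ M → D < (B : Subgroup G) ⊓ M →
        Relation.ReflTransGen (CfsgLib.LocalEven.SylowStep p 𝒢 D) A B by
    obtain ⟨M, hNM, hM⟩ := hmax _ ⟨D, hDp, hD0, rfl⟩
    exact C _ M hM rfl S T ((hgrow S hDS hSne).trans_le (inf_le_inf_left _ hNM))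
      ((hgrow T hDT hTne).trans_le (inf_le_inf_left _ hNM))
  intro j
  induction j using Nat.strong_induction_on with
  | _ j ih2 =>
  intro M hM hj A B hA hB
  obtain ⟨P₁, hP₁⟩ := (A.isPGroup'.comap_subtype (K := M)).exists_le_sylow
  obtain ⟨P₂, hP₂⟩ := (B.isPGroup'.comap_subtype (K := M)).exists_le_sylow
  set m₁ := (P₁ : Subgroup M).map M.subtype with hm₁
  have hAle : (A : Subgroup G) ⊓ M ≤ m₁ := by
    rw [← Subgroup.subgroupOf_map_subtype]; exact Subgroup.map_mono hP₁
  have hBle : (B : Subgroup G) ⊓ M ≤ (P₂ : Subgroup M).map M.subtype := by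
    rw [← Subgroup.subgroupOf_map_subtype]; exact Subgroup.map_mono hP₂
  obtain ⟨A₁, hA₁⟩ := (P₁.isPGroup'.map M.subtype).exists_le_sylow
  have hDm₁ : D < m₁ := hA.trans_le hAle
  refine (hbig A A₁ _ inf_le_left (hAle.trans hA₁) hA).trans ?_
  suffices hmid : ∀ B' : Sylow p G, (P₂ : Subgroup M).map M.subtype ≤ (B' : Subgroup G) →
      Relation.ReflTransGen (CfsgLib.LocalEven.SylowStep p 𝒢 D) A₁ B' by
    obtain ⟨B₁, hB₁⟩ := (P₂.isPGroup'.map M.subtype).exists_le_sylow
    exact (hmid B₁ hB₁).trans (hbig B₁ B _ (hBle.trans hB₁) inf_le_left hB)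
  intro B' hB'
  by_cases hreg : Cfsg.IsFunctorRegular p f M
  swap
  · -- a singular member
    obtain ⟨x, hx⟩ := MulAction.exists_smul_eq M P₁ P₂
    have hm₂ : (P₂ : Subgroup M).map M.subtype = m₁.map (MulAut.conj (x : G)).toMonoidHom := by
      rw [← hx, hm₁, Subgroup.map_map]
      show ((P₁ : Subgroup M).map (MulAut.conj x).toMonoidHom).map M.subtype = _
      rw [Subgroup.map_map]
      congr 1
    have hle : (P₂ : Subgroup M).map M.subtype ≤ (((x : G) • A₁ : Sylow p G) : Subgroup G) := by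
      rw [hm₂]; exact Subgroup.map_mono hA₁
    have hDm₂ : D < (P₂ : Subgroup M).map M.subtype := hB.trans_le hBle
    refine Relation.ReflTransGen.head ⟨M, ?_, ?_, x, x.2,
      CfsgLib.LocalEven.subgroupConjRight_smul_sylow _ _, ?_⟩
      (hbig ((x : G) • A₁) B' _ hle hB' hDm₂)
    · refine (CfsgLib.LocalEven.mem_sylowMembers_iff_relIndex A₁.isPGroup').mpr
        ⟨Or.inr ⟨hM, hreg⟩, fun hd => P₁.not_dvd_index (hd.trans ?_)⟩
      exact Subgroup.index_dvd_of_le fun y hy =>
        Subgroup.mem_subgroupOf.mpr (hA₁ ⟨y, hy, rfl⟩)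
    · refine (CfsgLib.LocalEven.mem_sylowMembers_iff_relIndex (((x : G) • A₁).isPGroup')).mpr
        ⟨Or.inr ⟨hM, hreg⟩, fun hd => P₂.not_dvd_index (hd.trans ?_)⟩
      exact Subgroup.index_dvd_of_le fun y hy =>
        Subgroup.mem_subgroupOf.mpr (hle ⟨y, hy, rfl⟩)
    · exact le_inf (hDm₂.le.trans hle) (hDm₂.le.trans (Subgroup.map_subtype_le _))
  have hDM : D ≤ M := hA.le.trans inf_le_right
  set E : Subgroup M := D.subgroupOf M with hE
  have hmapE : E.map M.subtype = D := Subgroup.map_subgroupOf_eq_of_le hDM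
  by_cases hP : P₁ = P₂
  · exact hbig A₁ B' _ hA₁ (by subst hP; exact hB') hDm₁
  have hE₁ : E ≤ (P₁ : Subgroup M) := fun y hy => hP₁ (Subgroup.mem_subgroupOf.mpr
    (Subgroup.mem_inf.mp (hA.le (Subgroup.mem_subgroupOf.mp hy))).1)
  have hE₂ : E ≤ (P₂ : Subgroup M) := fun y hy => hP₂ (Subgroup.mem_subgroupOf.mpr
    (Subgroup.mem_inf.mp (hB.le (Subgroup.mem_subgroupOf.mp hy))).1)
  have hne : (P₁ : Subgroup M) ⊓ (P₂ : Subgroup M) ≠ ⊥ := fun h => hD0 (by
    have hE0 : E = ⊥ := le_bot_iff.mp (h ▸ le_inf hE₁ hE₂)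
    rw [← hmapE, hE0, Subgroup.map_bot])
  have hchain := CfsgLib.LocalEven.controls_iff_reflTransGen.mp hreg P₁ P₂ hP hne
  suffices hinv : ∀ c, Relation.ReflTransGen (CfsgLib.LocalEven.SylowStep p
      ((fun X : Subgroup G => X.subgroupOf M) '' Cfsg.functorFamily p f M)
      ((P₁ : Subgroup M) ⊓ (P₂ : Subgroup M))) P₁ c →
      E ≤ (c : Subgroup M) ∧ ∀ B : Sylow p G, (c : Subgroup M).map M.subtype ≤ (B : Subgroup G) →
        Relation.ReflTransGen (CfsgLib.LocalEven.SylowStep p 𝒢 D) A₁ B from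
    (hinv P₂ hchain).2 B' hB'
  intro c hc
  induction hc with
  | refl => exact ⟨hE₁, fun B hB => hbig A₁ B _ hA₁ hB hDm₁⟩
  | @tail a b _ hab ihc =>
  obtain ⟨hEa, hlink⟩ := ihc
  obtain ⟨P, F, hF, hPF, haF, hbF, hDb, x, hx, hconj⟩ :=
    CfsgLib.LocalEven.functor_step_data hf hab
  have hEb : E ≤ (b : Subgroup M) := (le_inf hE₁ hE₂).trans hDb
  refine ⟨hEb, fun B hbB => ?_⟩
  set P' := (P : Subgroup M).map M.subtype with hP'
  have hcardeq : ∀ c : Sylow p M, Nat.card ((c : Subgroup M).map M.subtype) = Nat.card m₁ := by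
    intro c
    rw [hm₁, Subgroup.card_map_of_injective M.subtype_injective,
      Subgroup.card_map_of_injective M.subtype_injective]
    exact Nat.card_congr (c.equiv P₁).toEquiv
  have hDlt : ∀ c : Sylow p M, E ≤ (c : Subgroup M) → D < (c : Subgroup M).map M.subtype := by
    intro c hc
    refine lt_of_le_of_ne (hmapE ▸ Subgroup.map_mono hc) fun h => ?_
    have h1 : Nat.card D < Nat.card m₁ := by
      by_contra hle
      exact hDm₁.ne (Subgroup.eq_of_le_of_card_ge hDm₁.le (not_lt.mp hle))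
    rw [← hcardeq c, ← h] at h1
    exact lt_irrefl _ h1
  have hP'0 : P' ≠ ⊥ := by
    intro h
    have h1 := hcardeq P
    rw [← hP', h, Subgroup.card_bot] at h1
    have h2 : m₁ = ⊥ := Subgroup.card_eq_one.mp h1.symm
    exact not_lt_bot (h2 ▸ hDm₁)
  obtain ⟨A₂, hA₂⟩ := (a.isPGroup'.map M.subtype).exists_le_sylow
  refine (hlink A₂ hA₂).trans ?_
  obtain ⟨S', hS'⟩ := (P.isPGroup'.map M.subtype).exists_le_sylow
  by_cases hfull : P' = (S' : Subgroup G)
  · -- the normalizer belongs to the family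
    have hfullc : ∀ (c : Sylow p M) (C : Sylow p G),
        (c : Subgroup M).map M.subtype ≤ (C : Subgroup G) →
        (c : Subgroup M).map M.subtype = (C : Subgroup G) := by
      intro c C h
      refine Subgroup.eq_of_le_of_card_ge h (le_of_eq ?_)
      rw [hcardeq c, ← hcardeq P, ← hP', hfull]
      exact Nat.card_congr (C.equiv S').toEquiv
    have hmem : Subgroup.normalizer (F : Set G) ∈ 𝒢 :=
      Or.inl (CfsgLib.LocalEven.normalizer_mem_functorFamily_top S' (by
        rw [← hfull]; exact hF))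
    refine Relation.ReflTransGen.single ⟨_, ?_, ?_, x, hx.2, ?_, ?_⟩
    · refine (CfsgLib.LocalEven.mem_sylowMembers_iff_relIndex A₂.isPGroup').mpr ⟨hmem, fun hd => ?_⟩
      exact A₂.not_dvd_index (hd.trans (Subgroup.relIndex_dvd_index_of_le (hfullc a A₂ hA₂ ▸ haF)))
    · refine (CfsgLib.LocalEven.mem_sylowMembers_iff_relIndex B.isPGroup').mpr ⟨hmem, fun hd => ?_⟩
      exact B.not_dvd_index (hd.trans (Subgroup.relIndex_dvd_index_of_le (hfullc b B hbB ▸ hbF)))
    · rw [← hfullc a A₂ hA₂, ← hfullc b B hbB]; exact hconj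
    · rw [← hfullc b B hbB]
      exact le_inf (hDlt b hEb).le ((hDlt b hEb).le.trans hbF)
  -- otherwise a larger local subgroup contains the step
  have hF' := hf P' (P.isPGroup'.map _)
  obtain ⟨hFP, hPN⟩ := hF'.1 F hF
  obtain ⟨M', hFM', hM'⟩ := hmax _ ⟨F, (P.isPGroup'.map _).to_le hFP,
    hf1 P' (P.isPGroup'.map _) hP'0 F hF, rfl⟩
  have hlt : Nat.card ((default : Sylow p M) : Subgroup M) <
      Nat.card ((default : Sylow p M') : Subgroup M') := by
    have : Group.IsNilpotent (S' : Subgroup G) := S'.isPGroup'.isNilpotent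
    have hlt' : P'.subgroupOf (S' : Subgroup G) < ⊤ := by
      rw [lt_top_iff_ne_top, Ne, Subgroup.subgroupOf_eq_top]
      exact fun h => hfull (le_antisymm hS' h)
    have hlt'' := normalizerCondition_of_isNilpotent (P'.subgroupOf (S' : Subgroup G)) hlt'
    set Q := (Subgroup.normalizer ((P'.subgroupOf (S' : Subgroup G) : Subgroup (S' : Subgroup G)) :
      Set (S' : Subgroup G))).map (S' : Subgroup G).subtype with hQ
    have hQM : Q ≤ M' := by
      refine le_trans ?_ (hPN.trans hFM')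
      have h := Subgroup.le_normalizer_map (S' : Subgroup G).subtype
        (H := P'.subgroupOf (S' : Subgroup G))
      rwa [Subgroup.map_subgroupOf_eq_of_le hS'] at h
    have hP'Q : P' < Q := by
      have h0 : (P'.subgroupOf (S' : Subgroup G)).map (S' : Subgroup G).subtype = P' :=
        Subgroup.map_subgroupOf_eq_of_le hS'
      rw [← h0]
      exact Subgroup.map_lt_map_iff_of_injective (S' : Subgroup G).subtype_injective |>.mpr hlt''
    obtain ⟨R, hR⟩ := ((S'.isPGroup'.to_le (Subgroup.map_subtype_le _)).comap_subtype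
      (K := M') : IsPGroup p (Q.subgroupOf M')).exists_le_sylow
    have h1 : Nat.card Q ≤ Nat.card ((default : Sylow p M') : Subgroup M') := by
      rw [← Nat.card_congr (Subgroup.subgroupOfEquivOfLe hQM).toEquiv,
        Nat.card_congr ((default : Sylow p M').equiv R).toEquiv]
      exact Nat.le_of_dvd Nat.card_pos (Subgroup.card_dvd_of_le hR)
    have h2 : Nat.card P' < Nat.card Q := by
      by_contra hle
      exact hP'Q.ne (Subgroup.eq_of_le_of_card_ge hP'Q.le (not_lt.mp hle))
    have h3 : Nat.card P' = Nat.card ((default : Sylow p M) : Subgroup M) := by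
      rw [hP', Subgroup.card_map_of_injective M.subtype_injective]
      exact Nat.card_congr (P.equiv (default : Sylow p M)).toEquiv
    omega
  have hbound : Nat.card ((default : Sylow p M') : Subgroup M') ≤ Nat.card G :=
    (Nat.le_of_dvd Nat.card_pos (Subgroup.card_subgroup_dvd_card _)).trans
      (Nat.le_of_dvd Nat.card_pos (Subgroup.card_subgroup_dvd_card M'))
  exact ih2 _ (by omega) M' hM' rfl A₂ B
    ((hDlt a hEa).trans_le (le_inf hA₂ (haF.trans hFM')))
    ((hDlt b hEb).trans_le (le_inf hbB (hbF.trans hFM')))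

end Cfsg.Agent.S2956
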