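import Cfsg.Statements.S2957
import Cfsg.Agent.Lib.LocalEven.SylowRegular

set_option autoImplicit false
open Cfsg

namespace Cfsg.Agent.S2957

/-- Let p be a prime dividing the order of the finite group G, f an equivariant assignment of a set of subgroups f(P) of P to every p-subgroup P, each normalized by N_G(P), and S a Sylow p-subgroup. If G = G₁G₂ for subgroups G₁, G₂ both containing S and both regular for f (in each Gᵢ, the family of normalizers in Gᵢ of the members of f(P), P a Sylow p-subgroup of Gᵢ, controls Sylow p-intersections), then G itself is regular for f. -/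
theorem result {G : Type*} [Group G] [Finite G] (p : ℕ) [Fact p.Prime] (hdiv : p ∣ Nat.card G)
    (f : Subgroup G → Set (Subgroup G)) (hf : Cfsg.IsNormalizerFunctor p f) (S : Sylow p G)
    (G₁ G₂ : Subgroup G) (h₁ : (S : Subgroup G) ≤ G₁) (h₂ : (S : Subgroup G) ≤ G₂)
    (hprod : ∀ g : G, ∃ g₁ ∈ G₁, ∃ g₂ ∈ G₂, g = g₁ * g₂)
    (hr₁ : Cfsg.IsFunctorRegular p f G₁) (hr₂ : Cfsg.IsFunctorRegular p f G₂) :
    Cfsg.IsFunctorRegular p f ⊤ := by
  open scoped Pointwise in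
  unfold Cfsg.IsFunctorRegular
  rw [CfsgLib.LocalEven.controls_iff_reflTransGen]
  -- work in `G` rather than in `⊤`
  suffices key : ∀ (A B : Sylow p G) (D : Subgroup G), D ≠ ⊥ → D ≤ (A : Subgroup G) →
      D ≤ (B : Subgroup G) → Relation.ReflTransGen
        (CfsgLib.LocalEven.SylowStep p (Cfsg.functorFamily p f ⊤) D) A B by
    intro A B _ hne
    exact CfsgLib.LocalEven.reflTransGen_subgroupOf_top key A B hne
  intro A B D hD0 hDA hDB
  have hnorm := CfsgLib.LocalEven.isNormalSet_functorFamily_top hf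
  -- move `A` to `S`
  obtain ⟨t, rfl⟩ := MulAction.exists_smul_eq G S A
  refine CfsgLib.LocalEven.reflTransGen_conj hnorm t⁻¹ ?_
  rw [inv_smul_smul]
  have hDS : D.map (MulAut.conj t⁻¹).toMonoidHom ≤ (S : Subgroup G) := by
    have h : ((t⁻¹ • t • S : Sylow p G) : Subgroup G) = (S : Subgroup G) := by rw [inv_smul_smul]
    rw [← h]; exact Subgroup.map_mono hDA
  have hDT : D.map (MulAut.conj t⁻¹).toMonoidHom ≤ ((t⁻¹ • B : Sylow p G) : Subgroup G) :=
    Subgroup.map_mono hDB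
  have hD0' : D.map (MulAut.conj t⁻¹).toMonoidHom ≠ ⊥ := by
    rwa [Ne, Subgroup.map_eq_bot_iff_of_injective _ (MulEquiv.injective _)]
  generalize D.map (MulAut.conj t⁻¹).toMonoidHom = E at hDS hDT hD0' ⊢
  generalize (t⁻¹ • B : Sylow p G) = T at hDT ⊢
  clear hD0 hDA hDB D B t
  obtain ⟨g, rfl⟩ := MulAction.exists_smul_eq G S T
  obtain ⟨a, ha, b, hb, hab⟩ := hprod g⁻¹
  have hg : g = b⁻¹ * a⁻¹ := by rw [← mul_inv_rev, ← hab, inv_inv]
  subst hg
  set E' := E.map (MulAut.conj b).toMonoidHom with hE'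
  have hE₁ : E' ≤ G₁ := by
    have h : ((b • (b⁻¹ * a⁻¹) • S : Sylow p G) : Subgroup G) ≤ G₁ := by
      rw [← mul_smul, mul_inv_cancel_left]
      rintro _ ⟨y, hy, rfl⟩
      exact mul_mem (mul_mem (inv_mem ha) (h₁ hy)) (inv_mem (inv_mem ha))
    exact le_trans (Subgroup.map_mono hDT) h
  have hE₂ : E' ≤ G₂ := by
    rintro _ ⟨y, hy, rfl⟩
    exact mul_mem (mul_mem hb (h₂ (hDS hy))) (inv_mem hb)
  obtain ⟨Q, hQ⟩ := ((S.isPGroup'.to_le hDS).map (MulAut.conj b).toMonoidHom |>.comap_subtype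
    (K := G₁ ⊓ G₂)).exists_le_sylow
  obtain ⟨c, rfl⟩ := MulAction.exists_smul_eq (G₁ ⊓ G₂ : Subgroup G) (S.subtype (le_inf h₁ h₂)) Q
  have hc₁ : (c : G) ∈ G₁ := c.2.1
  have hc₂ : (c : G) ∈ G₂ := c.2.2
  have hEc : E' ≤ ((c : G) • S : Sylow p G).1 := by
    intro y hy
    have h := hQ (show (⟨y, ⟨hE₁ hy, hE₂ hy⟩⟩ : (G₁ ⊓ G₂ : Subgroup G)) ∈ _ from
      Subgroup.mem_subgroupOf.mpr hy)
    rw [Sylow.smul_subtype] at h
    exact h
  have hEb : E ≤ ((b⁻¹ * (c : G)) • S : Sylow p G).1 := by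
    rw [mul_smul]
    intro y hy
    exact ⟨_, hEc ⟨y, hy, rfl⟩, by simp [mul_assoc]⟩
  refine (CfsgLib.LocalEven.reflTransGen_of_regular hf hr₂ (A := S)
    (B := (b⁻¹ * (c : G)) • S) h₂ ?_ hD0' hDS hEb).trans ?_
  · rintro _ ⟨y, hy, rfl⟩
    exact mul_mem (mul_mem (mul_mem (inv_mem hb) hc₂) (h₂ hy))
      (inv_mem (mul_mem (inv_mem hb) hc₂))
  refine CfsgLib.LocalEven.reflTransGen_conj hnorm b ?_
  rw [← mul_smul, mul_inv_cancel_left, ← mul_smul, mul_inv_cancel_left]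
  refine CfsgLib.LocalEven.reflTransGen_of_regular hf hr₁ ?_ ?_ ?_ hEc ?_
  · rintro _ ⟨y, hy, rfl⟩
    exact mul_mem (mul_mem hc₁ (h₁ hy)) (inv_mem hc₁)
  · rintro _ ⟨y, hy, rfl⟩
    exact mul_mem (mul_mem (inv_mem ha) (h₁ hy)) (inv_mem (inv_mem ha))
  · rwa [Ne, Subgroup.map_eq_bot_iff_of_injective _ (MulEquiv.injective _)]
  · have h : ((b • (b⁻¹ * a⁻¹) • S : Sylow p G) : Subgroup G) = ((a⁻¹ • S : Sylow p G) : Subgroup G) := by
      rw [← mul_smul, mul_inv_cancel_left]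
    rw [← h]
    exact Subgroup.map_mono hDT

end Cfsg.Agent.S2957
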