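import Cfsg.Statements.S2958

set_option autoImplicit false
open Cfsg

namespace Cfsg.Agent.S2958

/-- Let X, A, B be subgroups of a group G such that G is generated by the conjugates of X and every conjugate of X is contained in A or in B. Then A = G or B = G. -/
theorem result {G : Type*} [Group G] (X A B : Subgroup G) (hgen : (⨆ g : G, X.map (MulAut.conj g).toMonoidHom) = ⊤) (hcover : ∀ g : G, X.map (MulAut.conj g).toMonoidHom ≤ A ∨ X.map (MulAut.conj g).toMonoidHom ≤ B) : A = ⊤ ∨ B = ⊤ := by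
  by_contra hne
  push Not at hne
  obtain ⟨hA, hB⟩ := hne
  set c : G → Subgroup G := fun g => X.map (MulAut.conj g).toMonoidHom with hc
  set B₀ : Subgroup G := ⨆ g : {g : G // ¬ c g ≤ A}, c g with hB₀
  have hcc : ∀ a g : G, (c g).map (MulAut.conj a).toMonoidHom = c (a * g) := by
    intro a g
    simp only [hc, Subgroup.map_map]
    congr 1
    ext y
    simp [mul_assoc]
  -- some conjugate avoids `A`
  obtain ⟨g₀, hg₀⟩ : ∃ g, ¬ c g ≤ A := by
    by_contra h
    push Not at h
    exact hA (top_le_iff.mp (hgen.symm.le.trans (iSup_le h)))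
  have hA0 : ∀ a ∈ A, ∀ g, c g ≤ A → c (a * g) ≤ A := by
    intro a ha g hg
    rw [← hcc]
    rintro _ ⟨y, hy, rfl⟩
    exact mul_mem (mul_mem ha (hg hy)) (inv_mem ha)
  have hAN : A ≤ Subgroup.normalizer (B₀ : Set G) := by
    intro a ha
    have hmap : ∀ b ∈ A, B₀.map (MulAut.conj b).toMonoidHom ≤ B₀ := by
      intro b hb
      rw [hB₀, Subgroup.map_iSup]
      refine iSup_le fun g => ?_
      rw [hcc]
      refine le_iSup (fun g : {g : G // ¬ c g ≤ A} => c g) ⟨b * g, fun h => g.2 ?_⟩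
      simpa [← mul_assoc] using hA0 b⁻¹ (inv_mem hb) _ h
    rw [Subgroup.mem_normalizer_iff]
    intro y
    refine ⟨fun hy => hmap a ha (Subgroup.mem_map_of_mem _ hy), fun hy => ?_⟩
    simpa [mul_assoc] using hmap a⁻¹ (inv_mem ha) (Subgroup.mem_map_of_mem _ hy)
  have hN : Subgroup.normalizer (B₀ : Set G) = ⊤ := by
    refine top_le_iff.mp (hgen.symm.le.trans (iSup_le fun g => ?_))
    by_cases hg : c g ≤ A
    · exact hg.trans hAN
    · exact (le_iSup (fun g : {g : G // ¬ c g ≤ A} => c g) ⟨g, hg⟩).trans Subgroup.le_normalizer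
  have hn : B₀.Normal := Subgroup.normalizer_eq_top_iff.mp hN
  have hB0top : B₀ = ⊤ := by
    refine top_le_iff.mp (hgen.symm.le.trans (iSup_le fun g => ?_))
    have h := le_iSup (fun g : {g : G // ¬ c g ≤ A} => c g) ⟨g₀, hg₀⟩
    have h2 := Subgroup.map_mono (f := (MulAut.conj (g * g₀⁻¹)).toMonoidHom) h
    rw [hcc, inv_mul_cancel_right] at h2
    refine h2.trans ?_
    rintro _ ⟨y, hy, rfl⟩
    exact hn.conj_mem y hy _
  refine hB (top_le_iff.mp (hB0top.symm.le.trans (iSup_le fun g => ?_)))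
  exact (hcover g).resolve_left g.2

end Cfsg.Agent.S2958
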