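import Cfsg.Statements.S2959
import Cfsg.Agent.Lib.LocalEven.CharP

set_option autoImplicit false
open Cfsg

namespace Cfsg.Agent.S2959

/-- Let G be a finite group of characteristic p, that is C_G(O_p(G)) ≤ O_p(G), with p prime, and let L be a subgroup of G normalized by O_p(G). Then L has characteristic p: C_L(O_p(L)) ≤ O_p(L). -/
theorem result {G : Type*} [Group G] [Finite G] {p : ℕ} [Fact p.Prime] (hG : Subgroup.centralizer (Cfsg.pCore p G : Set G) ≤ Cfsg.pCore p G) (L : Subgroup G) (hL : Cfsg.pCore p G ≤ Subgroup.normalizer (L : Set G)) : Subgroup.centralizer (Cfsg.pCore p ↥L : Set ↥L) ≤ Cfsg.pCore p ↥L := by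
  have hPn := CfsgLib.LocalEven.core_normal p G
  refine CfsgLib.LocalEven.charP_of_coprime_trivial fun x hx hxo => Subtype.ext ?_
  refine CfsgLib.LocalEven.eq_one_of_charP hG (by rwa [Subgroup.orderOf_coe]) fun u hu => ?_
  have h1 : (x : G) * u * (x : G)⁻¹ * u⁻¹ ∈ L := by
    have h : u * (x : G)⁻¹ * u⁻¹ ∈ L :=
      (Subgroup.mem_normalizer_iff.mp (hL hu) _).mp (inv_mem x.2)
    simpa [mul_assoc] using mul_mem x.2 h
  have h2 : (x : G) * u * (x : G)⁻¹ * u⁻¹ ∈ pCore p G :=
    mul_mem (hPn.conj_mem u hu _) (inv_mem hu)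
  have h3 := Subgroup.mem_centralizer_iff.mp hx ⟨_, h1⟩
    (CfsgLib.LocalEven.inf_core_subgroupOf_le L (Subgroup.mem_subgroupOf.mpr h2))
  have h4 := congrArg Subtype.val h3
  simp only [Subgroup.coe_mul] at h4
  rw [← h4, mul_inv_cancel_right]

end Cfsg.Agent.S2959
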