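import Cfsg.Statements.S2961
import Cfsg.Agent.Lib.LocalEven.CharP

set_option autoImplicit false
open Cfsg

namespace Cfsg.Agent.S2961

/-- Let G be a finite group of characteristic p (C_G(O_p(G)) ≤ O_p(G)), p prime, T a Sylow p-subgroup of G and Q a normal subgroup of T with C_T(Q) ≤ Q. Then every subgroup L of G containing Q has characteristic p: C_L(O_p(L)) ≤ O_p(L). -/
theorem result {G : Type*} [Group G] [Finite G] {p : ℕ} [Fact p.Prime] (hG : Subgroup.centralizer (Cfsg.pCore p G : Set G) ≤ Cfsg.pCore p G) (T : Sylow p G) (Q : Subgroup G) (hQT : Q ≤ (T : Subgroup G)) (hQn : (T : Subgroup G) ≤ Subgroup.normalizer (Q : Set G)) (hC : (T : Subgroup G) ⊓ Subgroup.centralizer (Q : Set G) ≤ Q) (L : Subgroup G) (hQL : Q ≤ L) : Subgroup.centralizer (Cfsg.pCore p ↥L : Set ↥L) ≤ Cfsg.pCore p ↥L := by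
  have hCQ := CfsgLib.LocalEven.centralizer_le_of_sylow hG T hQT hQn hC
  have hPn := CfsgLib.LocalEven.core_normal p G
  set P := pCore p G with hPdef
  have hPT : P ≤ (T : Subgroup G) := by
    have h := (CfsgLib.LocalEven.core_isPGroup p G).to_sup_of_normal_left T.isPGroup'
    exact le_sup_left.trans (T.is_maximal' h le_sup_right).le
  have hQp : IsPGroup p Q := T.isPGroup'.to_le hQT
  set R := (pCore p ↥L).map L.subtype with hR
  have hRp : IsPGroup p R := (CfsgLib.LocalEven.core_isPGroup p ↥L).map _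
  set C := (Subgroup.centralizer (pCore p ↥L : Set ↥L)) with hCdef
  have hCn : C.Normal := by
    have := CfsgLib.LocalEven.core_normal p ↥L
    infer_instance
  -- `M` is the part of `O_p(G)` inside `Q`
  set M := P ⊓ Q with hM
  have hML : M ≤ L := inf_le_right.trans hQL
  have hMR : ∀ m (hm : m ∈ M), (⟨m, hML hm⟩ : ↥L) ∈ pCore p ↥L := fun m hm =>
    CfsgLib.LocalEven.inf_core_subgroupOf_le L (Subgroup.mem_subgroupOf.mpr hm.1)
  have hCM : ∀ c ∈ C, ∀ m ∈ M, (c : G) * m = m * c := fun c hc m hm => by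
    have := congrArg Subtype.val (Subgroup.mem_centralizer_iff.mp hc _ (hMR m hm))
    exact this.symm
  -- the elements acting trivially on `O_p(G)` modulo `M`
  let K : Subgroup G :=
    { carrier := {g | g ∈ Subgroup.normalizer (M : Set G) ∧ ∀ u ∈ P, g * u * g⁻¹ * u⁻¹ ∈ M}
      one_mem' := ⟨one_mem _, fun u _ => by simp⟩
      mul_mem' := by
        rintro a b ⟨ha, ha'⟩ ⟨hb, hb'⟩
        refine ⟨mul_mem ha hb, fun u hu => ?_⟩
        have h1 := (Subgroup.mem_normalizer_iff.mp ha _).mp (hb' u hu)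
        simpa [mul_assoc] using mul_mem h1 (ha' u hu)
      inv_mem' := by
        rintro a ⟨ha, ha'⟩
        refine ⟨inv_mem ha, fun u hu => ?_⟩
        have h1 := (Subgroup.mem_normalizer_iff.mp (inv_mem ha) _).mp (inv_mem (ha' u hu))
        simpa [mul_assoc] using h1 }
  have hQK : ∀ q ∈ Q, q ∈ K := by
    intro q hq
    have hconj : ∀ r ∈ Q, ∀ m ∈ M, r * m * r⁻¹ ∈ M := fun r hr m hm =>
      Subgroup.mem_inf.mpr ⟨hPn.conj_mem m (Subgroup.mem_inf.mp hm).1 r,
        mul_mem (mul_mem hr (Subgroup.mem_inf.mp hm).2) (inv_mem hr)⟩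
    refine ⟨Subgroup.mem_normalizer_iff.mpr fun m => ⟨hconj q hq m, fun h => ?_⟩, fun u hu => ?_⟩
    · simpa [mul_assoc] using hconj q⁻¹ (inv_mem hq) _ h
    · refine Subgroup.mem_inf.mpr ⟨mul_mem (hPn.conj_mem u hu q) (inv_mem hu), ?_⟩
      have := (Subgroup.mem_normalizer_iff.mp (hQn (hPT hu)) q⁻¹).mp (inv_mem hq)
      simpa [mul_assoc] using mul_mem hq this
  have hKC : ∀ k ∈ K, ∀ c ∈ C, (c : G) * k * (c : G)⁻¹ ∈ K := by
    rintro k ⟨hk, hk'⟩ c hc
    have hcM : (c : G) ∈ Subgroup.normalizer (M : Set G) := by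
      rw [Subgroup.mem_normalizer_iff]
      intro m
      refine ⟨fun hm => by rw [hCM c hc m hm, mul_inv_cancel_right]; exact hm, fun hm => ?_⟩
      have h := hCM c⁻¹ (inv_mem hc) _ hm
      rw [Subgroup.coe_inv] at h
      have h2 : m = (c : G) * m * (c : G)⁻¹ := by
        calc m = ((c : G)⁻¹ * ((c : G) * m * (c : G)⁻¹)) * c := by group
          _ = ((c : G) * m * (c : G)⁻¹ * (c : G)⁻¹) * c := by rw [h]
          _ = _ := by group
      rwa [← h2] at hm
    refine ⟨mul_mem (mul_mem hcM hk) (inv_mem hcM), fun u hu => ?_⟩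
    have h1 : (c : G)⁻¹ * u * c ∈ P := by simpa using hPn.conj_mem u hu (c : G)⁻¹
    have h2 := (Subgroup.mem_normalizer_iff.mp hcM _).mp (hk' _ h1)
    simpa [mul_assoc] using h2
  set D : Subgroup ↥L := C ⊓ K.subgroupOf L with hD
  have hDp : IsPGroup p D := CfsgLib.LocalEven.isPGroup_of_primeOrder_trivial fun d hd => by
    apply Subtype.ext; apply Subtype.ext
    refine CfsgLib.LocalEven.eq_one_of_charP hG (by simpa [Subgroup.orderOf_coe] using hd) ?_
    intro u hu
    have h := hCM d.1 d.2.1 _ ((Subgroup.mem_subgroupOf.mp d.2.2).2 u hu)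
    rw [h, mul_inv_cancel_right]
  have hCD : C ≤ Subgroup.normalizer (D : Set ↥L) := by
    intro c hc
    have hconj : ∀ e ∈ C, ∀ d ∈ D, e * d * e⁻¹ ∈ D := fun e he d hd =>
      ⟨hCn.conj_mem d hd.1 e, Subgroup.mem_subgroupOf.mpr
        (by simpa using hKC _ (Subgroup.mem_subgroupOf.mp hd.2) e he)⟩
    rw [Subgroup.mem_normalizer_iff]
    intro d
    refine ⟨hconj c hc d, fun h => ?_⟩
    simpa [mul_assoc] using hconj c⁻¹ (inv_mem hc) _ h
  have hDR : D ≤ pCore p ↥L := CfsgLib.LocalEven.le_core_of_normal_normal inf_le_left hDp hCD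
  refine CfsgLib.LocalEven.charP_of_coprime_trivial fun x hx hxo => Subtype.ext ?_
  refine CfsgLib.LocalEven.eq_one_of_isPGroup_of_coprime hQp (hCQ ?_)
    (by rwa [Subgroup.orderOf_coe])
  rw [Subgroup.mem_centralizer_iff]
  intro q hq
  set q' : ↥L := ⟨q, hQL hq⟩
  have hd : x * q' * x⁻¹ * q'⁻¹ ∈ D := by
    refine ⟨?_, Subgroup.mem_subgroupOf.mpr ?_⟩
    · have := mul_mem hx (hCn.conj_mem x⁻¹ (inv_mem hx) q')
      simpa [mul_assoc] using this
    · simpa using mul_mem (hKC q (hQK q hq) x hx) (inv_mem (hQK q hq))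
  have hd' := hDR hd
  have hfix : x * (x * q' * x⁻¹ * q'⁻¹) * x⁻¹ = x * q' * x⁻¹ * q'⁻¹ := by
    rw [← Subgroup.mem_centralizer_iff.mp hx _ hd', mul_inv_cancel_right]
  have h1 := CfsgLib.LocalEven.eq_one_of_conj_eq_mul (CfsgLib.LocalEven.core_isPGroup p ↥L) hxo hd'
    hfix (u := q') (by group)
  rw [mul_inv_eq_one, mul_inv_eq_iff_eq_mul] at h1
  exact (congrArg Subtype.val h1).symm

end Cfsg.Agent.S2961
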