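import Cfsg.Statements.S2963
import Mathlib.GroupTheory.Sylow
import Mathlib.GroupTheory.GroupAction.Basic
import Mathlib.Algebra.Ring.Parity
import Mathlib.Data.Fintype.Basic

set_option autoImplicit false
open Cfsg

namespace Cfsg.Agent.S2963

/-- Let n be odd. If the symmetric group of degree n is a minimal parabolic group for the prime 2, that is, a Sylow 2-subgroup is not normal and lies in exactly one maximal subgroup, then n = 2^m + 1 for some natural number m. -/
theorem result (n : ℕ) (hn : Odd n) (h : Cfsg.IsPMinimal 2 (Equiv.Perm (Fin n))) : ∃ m : ℕ, n = 2 ^ m + 1 := by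
  classical
  obtain ⟨T⟩ : Nonempty (Sylow 2 (Equiv.Perm (Fin n))) := inferInstance
  obtain ⟨hTn, M, ⟨hM, hTM⟩, huniq⟩ := h T
  have hover : ∀ H : Subgroup (Equiv.Perm (Fin n)), H ≠ ⊤ → (T : Subgroup _) ≤ H → H ≤ M := by
    intro H hH hTH
    obtain ⟨K, hK, hHK⟩ := (eq_top_or_exists_le_coatom H).resolve_left hH
    exact hHK.trans (huniq K ⟨hK, hTH.trans hHK⟩).le
  -- a point fixed by `T`
  obtain ⟨i, hi⟩ := T.isPGroup'.nonempty_fixed_point_of_prime_not_dvd_card (Fin n)
    (by rw [Nat.card_fin]; obtain ⟨k, hk⟩ := hn; omega)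
  have hfix : ∀ t ∈ (T : Subgroup (Equiv.Perm (Fin n))), t i = i := fun t ht => hi ⟨t, ht⟩
  -- a point moved by `T`
  obtain ⟨j, t, htj⟩ : ∃ j, ∃ t : (T : Subgroup (Equiv.Perm (Fin n))), t • j ≠ j := by
    by_contra hall
    push Not at hall
    refine hTn ?_
    have hbot : (T : Subgroup (Equiv.Perm (Fin n))) = ⊥ :=
      (Subgroup.eq_bot_iff_forall _).mpr fun x hx => Equiv.ext fun y => hall y ⟨x, hx⟩
    rw [hbot]
    infer_instance
  set O := MulAction.orbit (T : Subgroup (Equiv.Perm (Fin n))) j with hO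
  have hjO : j ∈ O := MulAction.mem_orbit_self j
  have hiO : i ∉ O := by
    intro hiO
    obtain ⟨s, hs⟩ := (MulAction.mem_orbit_iff.mp hiO)
    have hji : j = i := by
      have h1 : (s : Equiv.Perm (Fin n)) j = (s : Equiv.Perm (Fin n)) i := by
        rw [hfix _ s.2]; exact hs
      exact (s : Equiv.Perm (Fin n)).injective h1
    exact htj (by rw [hji]; exact hfix _ t.2)
  by_cases hall : ∀ k, k ≠ i → k ∈ O
  · -- `T` is transitive on the other points
    obtain ⟨m, hm⟩ := T.isPGroup'.card_orbit j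
    refine ⟨m, ?_⟩
    have hOset : O = {i}ᶜ := by
      ext k
      simp only [Set.mem_compl_iff, Set.mem_singleton_iff]
      exact ⟨fun hk h => hiO (h ▸ hk), hall k⟩
    rw [← hm, ← hO, hOset, Nat.card_eq_fintype_card, Fintype.card_compl_set, Fintype.card_fin,
      Set.card_singleton]
    have := Fin.pos i
    omega
  exfalso
  push Not at hall
  obtain ⟨k, hki, hkO⟩ := hall
  let H : Subgroup (Equiv.Perm (Fin n)) :=
    { carrier := {σ | ∀ y, σ y ∈ O ↔ y ∈ O}
      one_mem' := fun y => Iff.rfl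
      mul_mem' := fun {a b} ha hb y => (ha (b y)).trans (hb y)
      inv_mem' := fun {a} ha y => by
        have := ha (a⁻¹ y)
        rw [show a (a⁻¹ y) = y from a.apply_symm_apply y] at this
        exact this.symm }
  have hTH : (T : Subgroup (Equiv.Perm (Fin n))) ≤ H := fun s hs y => by
    have h1 := MulAction.smul_orbit (⟨s, hs⟩ : (T : Subgroup (Equiv.Perm (Fin n)))) j
    refine ⟨fun hy => ?_, fun hy => MulAction.mem_orbit_of_mem_orbit ⟨s, hs⟩ hy⟩
    have := MulAction.mem_orbit_of_mem_orbit (⟨s, hs⟩⁻¹ : (T : Subgroup (Equiv.Perm (Fin n)))) hy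
    rwa [show (⟨s, hs⟩⁻¹ : (T : Subgroup (Equiv.Perm (Fin n)))) • s y = y from
      s.symm_apply_apply y] at this
  have hswap : Equiv.swap i k ∈ H := fun y => by
    rcases eq_or_ne y i with rfl | hyi
    · rw [Equiv.swap_apply_left]; exact iff_of_false hkO hiO
    rcases eq_or_ne y k with rfl | hyk
    · rw [Equiv.swap_apply_right]; exact iff_of_false hiO hkO
    rw [Equiv.swap_apply_of_ne_of_ne hyi hyk]
  have hH : H ≠ ⊤ := fun htop => by
    have : Equiv.swap i j ∈ H := htop ▸ Subgroup.mem_top _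
    have h1 := (this j).mpr hjO
    rw [Equiv.swap_apply_right] at h1
    exact hiO h1
  set S := MulAction.stabilizer (Equiv.Perm (Fin n)) i with hS
  have hS1 : S ≠ ⊤ := fun htop => by
    have : Equiv.swap i k ∈ S := htop ▸ Subgroup.mem_top _
    rw [hS, MulAction.mem_stabilizer_iff, Equiv.Perm.smul_def, Equiv.swap_apply_left] at this
    exact hki this
  have hSM : S ≤ M := hover S hS1 fun s hs => MulAction.mem_stabilizer_iff.mpr (hfix s hs)
  have hkM : Equiv.swap i k ∈ M := hover H hH hTH hswap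
  refine hM.1 (eq_top_iff.mpr fun σ _ => ?_)
  rcases eq_or_ne (σ i) i with h1 | h1
  · exact hSM (MulAction.mem_stabilizer_iff.mpr h1)
  · have hτ : Equiv.swap k (σ i) ∈ M := hSM (MulAction.mem_stabilizer_iff.mpr
      (Equiv.swap_apply_of_ne_of_ne hki.symm h1.symm))
    have hs : (Equiv.swap k (σ i) * Equiv.swap i k)⁻¹ * σ ∈ M := by
      refine hSM (MulAction.mem_stabilizer_iff.mpr ?_)
      rw [Equiv.Perm.smul_def, Equiv.Perm.mul_apply, Equiv.Perm.inv_eq_iff_eq,
        Equiv.Perm.mul_apply, Equiv.swap_apply_left, Equiv.swap_apply_left]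
    have := mul_mem (mul_mem hτ hkM) hs
    rwa [mul_inv_cancel_left] at this

end Cfsg.Agent.S2963
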