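import Cfsg.Statements.S2968
import Cfsg.Agent.Lib.LocalEven.Isolated

set_option autoImplicit false
open Cfsg

namespace Cfsg.Agent.S2968

/-- Let G be a finite group, p a prime, P a Sylow p-subgroup of G and x ∈ P an element of p-power order which is isolated in G (the only conjugate of x commuting with x is x itself). Then x lies in the centre of P, and the subgroup generated by x is both strongly closed and weakly closed in P with respect to G. -/
theorem result {G : Type*} [Group G] [Finite G] {p : ℕ} [Fact p.Prime] (P : Sylow p G) (x : G) (hxP : x ∈ (P : Subgroup G)) (hx : ∃ k : ℕ, orderOf x = p ^ k) (hiso : Cfsg.IsIsolated x) : x ∈ (P : Subgroup G) ⊓ Subgroup.centralizer ((P : Subgroup G) : Set G) ∧ Cfsg.IsStronglyClosed (Subgroup.zpowers x) (P : Subgroup G) ∧ Cfsg.IsWeaklyClosed (Subgroup.zpowers x) (P : Subgroup G) := by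
  have hsc : Cfsg.IsStronglyClosed (Subgroup.zpowers x) (P : Subgroup G) := by
    refine ⟨Subgroup.zpowers_le.mpr hxP, fun y hy g hz => ?_⟩
    have hcen : g * y * g⁻¹ ∈ Subgroup.centralizer ({x} : Set G) :=
      CfsgLib.LocalEven.isolated_central_in_pSubgroup hiso P.isPGroup' hxP hz
    rw [Subgroup.mem_centralizer_singleton_iff] at hcen
    obtain ⟨j, rfl⟩ := Subgroup.mem_zpowers_iff.mp hy
    obtain ⟨h, hh, hhg⟩ := CfsgLib.LocalEven.isolated_mul_mem_centralizer (g := g) hx hiso
      (H := Subgroup.centralizer ({g * x ^ j * g⁻¹} : Set G))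
      (Subgroup.mem_centralizer_singleton_iff.mpr hcen.symm)
      (Subgroup.mem_centralizer_singleton_iff.mpr
        (((Commute.refl x).zpow_right j).map (MulAut.conj g).toMonoidHom))
    rw [Subgroup.mem_centralizer_singleton_iff] at hh hhg
    have h1 : h * g * x ^ j = x ^ j * (h * g) := (Commute.zpow_right hhg j)
    have h2 : g * x ^ j * g⁻¹ = x ^ j := by
      calc g * x ^ j * g⁻¹ = h⁻¹ * (h * (g * x ^ j * g⁻¹)) := by group
        _ = (h⁻¹ * (g * x ^ j * g⁻¹)) * h := by rw [hh]; group
        _ = g * x ^ j * g⁻¹ * (h⁻¹ * h) := by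
          rw [(Commute.inv_left hh : Commute h⁻¹ (g * x ^ j * g⁻¹)).eq]; group
        _ = h * (g * x ^ j * g⁻¹) * h⁻¹ := by rw [hh]; group
        _ = (h * g * x ^ j) * (h * g)⁻¹ := by group
        _ = x ^ j := by rw [h1]; group
    rw [h2]
    exact Subgroup.mem_zpowers_iff.mpr ⟨j, rfl⟩
  refine ⟨⟨hxP, ?_⟩, hsc, hsc.1, fun g hg => ?_⟩
  · refine Subgroup.mem_centralizer_iff.mpr fun q hq => ?_
    exact Subgroup.mem_centralizer_singleton_iff.mp
      (CfsgLib.LocalEven.isolated_central_in_pSubgroup hiso P.isPGroup' hxP hq)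
  · refine Subgroup.eq_of_le_of_card_ge ?_ (Subgroup.card_map_of_injective (MulEquiv.injective _)).ge
    rintro _ ⟨y, hy, rfl⟩
    exact hsc.2 y hy g (hg (Subgroup.mem_map_of_mem _ hy))

end Cfsg.Agent.S2968
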