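import Cfsg.Statements.S2969
import Cfsg.Agent.Lib.LocalEven.Isolated

set_option autoImplicit false
open Cfsg

namespace Cfsg.Agent.S2969

/-- Let G be a finite group, p a prime and x ∈ G an element of p-power order which is isolated in G. If R is a p-subgroup of G containing x, then N_G(R) ≤ C_G(x); in particular x lies in the centre of R. Moreover, if x lies in a normal subgroup N of a subgroup H of G, then H = N·C_H(x). -/
theorem result {G : Type*} [Group G] [Finite G] {p : ℕ} [Fact p.Prime] (x : G) (hx : ∃ k : ℕ, orderOf x = p ^ k) (hiso : Cfsg.IsIsolated x) : (∀ R : Subgroup G, IsPGroup p ↥R → x ∈ R → Subgroup.normalizer (R : Set G) ≤ Subgroup.centralizer ({x} : Set G)) ∧ (∀ H N : Subgroup G, N ≤ H → H ≤ Subgroup.normalizer (N : Set G) → x ∈ N → N ⊔ (H ⊓ Subgroup.centralizer ({x} : Set G)) = H) := by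
  refine ⟨fun R hR hxR n hn => ?_, fun H N hNH hHN hxN => ?_⟩
  · rw [Subgroup.mem_centralizer_singleton_iff]
    exact mul_inv_eq_iff_eq_mul.mp (CfsgLib.LocalEven.isolated_eq_of_conj_mem hiso hR hxR
      ((Subgroup.mem_normalizer_iff.mp hn x).mp hxR))
  · refine le_antisymm (sup_le hNH inf_le_left) fun h hh => ?_
    obtain ⟨n, hn, hnh⟩ := CfsgLib.LocalEven.isolated_mul_mem_centralizer (g := h) hx hiso hxN
      ((Subgroup.mem_normalizer_iff.mp (hHN hh) x).mp hxN)
    have := Subgroup.mul_mem_sup (inv_mem hn)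
      (show n * h ∈ H ⊓ Subgroup.centralizer ({x} : Set G) from ⟨mul_mem (hNH hn) hh, hnh⟩)
    rwa [inv_mul_cancel_left] at this

end Cfsg.Agent.S2969
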