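import Cfsg.Statements.S2970
import Cfsg.Agent.Lib.LocalEven.Isolated
import Cfsg.Agent.Lib.LocalEven.CyclicNormalizer
import Mathlib.GroupTheory.Transfer

set_option autoImplicit false
open Cfsg

namespace Cfsg.Agent.S2970

/-- Let G be a finite group, p a prime and x ∈ G an element of p-power order which is isolated in G. Then the image of x in any quotient G ⧸ N is isolated in G ⧸ N; and if x ≠ 1 and the Sylow p-subgroups of G are cyclic, then G has a normal p-complement. -/
theorem result {G : Type*} [Group G] [Finite G] {p : ℕ} [Fact p.Prime] (x : G) (hx : ∃ k : ℕ, orderOf x = p ^ k) (hiso : Cfsg.IsIsolated x) : (∀ (N : Subgroup G) [N.Normal], Cfsg.IsIsolated (QuotientGroup.mk x : G ⧸ N)) ∧ (x ≠ 1 → (∀ P : Sylow p G, IsCyclic ↥(P : Subgroup G)) → Cfsg.HasNormalPComplement p G) := by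
  refine ⟨fun N _ q hq => ?_, fun hx1 hcyc => ?_⟩
  · obtain ⟨g, rfl⟩ := QuotientGroup.mk_surjective q
    obtain ⟨h, hh, hhg⟩ := CfsgLib.LocalEven.isolated_mul_mem_centralizer (g := g) hx hiso
      (H := (Subgroup.centralizer
        ({((g : G ⧸ N) * (x : G ⧸ N) * (g : G ⧸ N)⁻¹)} : Set (G ⧸ N))).comap (QuotientGroup.mk' N))
      (by
        rw [Subgroup.mem_comap, Subgroup.mem_centralizer_singleton_iff]
        exact hq)
      (by
        rw [Subgroup.mem_comap, Subgroup.mem_centralizer_singleton_iff]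
        rfl)
    rw [Subgroup.mem_comap, Subgroup.mem_centralizer_singleton_iff] at hh
    rw [Subgroup.mem_centralizer_singleton_iff] at hhg
    have h1 : (h : G ⧸ N) * ((g : G ⧸ N) * (x : G ⧸ N) * (g : G ⧸ N)⁻¹) * (h : G ⧸ N)⁻¹
        = (g : G ⧸ N) * (x : G ⧸ N) * (g : G ⧸ N)⁻¹ := by
      rw [mul_inv_eq_iff_eq_mul]; exact hh
    have h2 : ((h * g * x * (h * g)⁻¹ : G) : G ⧸ N) = (x : G ⧸ N) := by
      rw [hhg, mul_inv_cancel_right]
    rw [← h1]
    simpa only [QuotientGroup.mk_mul, QuotientGroup.mk_inv, mul_inv_rev, mul_assoc] using h2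
  · obtain ⟨P, hP⟩ := (CfsgLib.LocalEven.zpowers_isPGroup hx).exists_le_sylow
    have hxP : x ∈ (P : Subgroup G) := hP (Subgroup.mem_zpowers x)
    have hle := CfsgLib.LocalEven.cyclic_normalizer_le_centralizer P (hcyc P) hxP hx1 fun n hn =>
      CfsgLib.LocalEven.isolated_eq_of_conj_mem hiso P.isPGroup' hxP
        ((Subgroup.mem_normalizer_iff.mp hn x).mp hxP)
    exact ⟨P, _, inferInstance, MonoidHom.ker_transferSylow_isComplement' P hle⟩

end Cfsg.Agent.S2970
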