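import Cfsg.Statements.S2971
import Cfsg.Agent.Lib.LocalEven.Isolated
import Cfsg.Agent.Lib.LocalEven.CyclicNormalizer
import Cfsg.Agent.S0016
import Mathlib.GroupTheory.Transfer

set_option autoImplicit false
open Cfsg

namespace Cfsg.Agent.S2971

/-- Let G be a finite group and p an odd prime such that G has p-rank at most 1 (no elementary abelian subgroup of order p²). If x ∈ G is an isolated element of order p, then x is central modulo the largest normal subgroup of G of order prime to p. -/
theorem result {G : Type*} [Group G] [Finite G] {p : ℕ} [Fact p.Prime] (hp : p ≠ 2) (hrk : Cfsg.PRankLE p 1 G) (x : G) (hx : orderOf x = p) (hiso : Cfsg.IsIsolated x) : Cfsg.InZStar p x := by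
  have hpp : p.Prime := Fact.out
  have hx' : ∃ k : ℕ, orderOf x = p ^ k := ⟨1, by rw [hx, pow_one]⟩
  obtain ⟨P, hP⟩ := (CfsgLib.LocalEven.zpowers_isPGroup hx').exists_le_sylow
  have hxP : x ∈ (P : Subgroup G) := hP (Subgroup.mem_zpowers x)
  have hx1 : x ≠ 1 := fun h => hpp.one_lt.ne' (by rw [← hx, h, orderOf_one])
  have hcent : ∀ y ∈ (P : Subgroup G), y * x = x * y := fun y hy =>
    Subgroup.mem_centralizer_singleton_iff.mp
      (CfsgLib.LocalEven.isolated_central_in_pSubgroup hiso P.isPGroup' hxP hy)
  have hcyc : IsCyclic (P : Subgroup G) := by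
    refine ((Cfsg.Agent.S0016.result p P.isPGroup' ?_).resolve_right fun h => hp h.1)
    -- every subgroup of order `p` is generated by `x`
    have key : ∀ H : Subgroup (P : Subgroup G), Nat.card H = p →
        H = Subgroup.zpowers ⟨x, hxP⟩ := by
      intro H hH
      set X := Subgroup.zpowers (⟨x, hxP⟩ : (P : Subgroup G)) with hX
      have hXc : Nat.card X = p := by rw [hX, Nat.card_zpowers, Subgroup.orderOf_mk, hx]
      have hHc : IsCyclic H := isCyclic_of_prime_card hH
      have hXcen : ∀ y, y ∈ X → y ∈ Subgroup.center (P : Subgroup G) := fun y hy => by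
        obtain ⟨i, rfl⟩ := Subgroup.mem_zpowers_iff.mp hy
        exact zpow_mem (Subgroup.mem_center_iff.mpr fun w => Subtype.ext (hcent w w.2)) i
      have hab : ∀ a ∈ H ⊔ X, ∀ b ∈ H ⊔ X, a * b = b * a := by
        have hle : H ⊔ X ≤ Subgroup.centralizer ((H ⊔ X : Subgroup (P : Subgroup G)) :
            Set (P : Subgroup G)) := by
          have hXle : ∀ Y : Subgroup (P : Subgroup G), X ≤ Subgroup.centralizer
              (Y : Set (P : Subgroup G)) := fun Y y hy =>
            Subgroup.mem_centralizer_iff.mpr fun w _ => Subgroup.mem_center_iff.mp (hXcen y hy) w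
          refine sup_le ?_ (hXle _)
          rw [Subgroup.le_centralizer_iff]
          refine sup_le ?_ (hXle _)
          intro a ha
          refine Subgroup.mem_centralizer_iff.mpr fun b hb => ?_
          exact congrArg Subtype.val (hHc.commutative.is_comm.comm (⟨b, hb⟩ : H) ⟨a, ha⟩)
        exact fun a ha b hb => (Subgroup.mem_centralizer_iff.mp (hle hb) a ha)
      have hpow : ∀ a ∈ H ⊔ X, a ^ p = 1 := by
        intro a ha
        rw [Subgroup.sup_eq_closure] at ha
        have hgen : ∀ b, b ∈ H ∨ b ∈ X → b ^ p = 1 := by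
          rintro b (hb | hb)
          · exact congrArg Subtype.val (show (⟨b, hb⟩ : H) ^ p = 1 from orderOf_dvd_iff_pow_eq_one.mp ((orderOf_dvd_natCard _).trans hH.dvd))
          · exact congrArg Subtype.val (show (⟨b, hb⟩ : X) ^ p = 1 from orderOf_dvd_iff_pow_eq_one.mp ((orderOf_dvd_natCard _).trans hXc.dvd))
        induction ha using Subgroup.closure_induction with
        | mem b hb => exact hgen b hb
        | one => exact one_pow p
        | mul a b ha hb iha ihb =>
          rw [← Subgroup.sup_eq_closure] at ha hb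
          rw [(show Commute a b from hab a ha b hb).mul_pow, iha, ihb, one_mul]
        | inv a _ iha => rw [inv_pow, iha, inv_one]
      have hcard := hrk ((H ⊔ X).map (P : Subgroup G).subtype)
        ⟨⟨by
          rintro ⟨_, a, ha, rfl⟩ ⟨_, b, hb, rfl⟩
          exact Subtype.ext (congrArg Subtype.val (hab a ha b hb) :)⟩⟩
        (by
          rintro _ ⟨a, ha, rfl⟩
          exact congrArg Subtype.val (hpow a ha))
      rw [pow_one, Subgroup.card_map_of_injective (P : Subgroup G).subtype_injective] at hcard
      rw [Subgroup.eq_of_le_of_card_ge (le_sup_left : H ≤ H ⊔ X) (hcard.trans hH.ge)]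
      exact (Subgroup.eq_of_le_of_card_ge (le_sup_right : X ≤ H ⊔ X) (hcard.trans hXc.ge)).symm
    exact fun H K hH hK => (key H hH).trans (key K hK).symm
  have hle := CfsgLib.LocalEven.cyclic_normalizer_le_centralizer P hcyc hxP hx1 fun n hn =>
    CfsgLib.LocalEven.isolated_eq_of_conj_mem hiso P.isPGroup' hxP
      ((Subgroup.mem_normalizer_iff.mp hn x).mp hxP)
  intro g
  refine CfsgLib.LocalEven.le_primeCore_of_normal
    (N := (MonoidHom.transferSylow P hle).ker) inferInstance ?_ ?_
  · exact (hpp.coprime_iff_not_dvd.mpr (MonoidHom.not_dvd_card_ker_transferSylow P hle)).symm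
  · have : IsMulCommutative (P : Subgroup G) :=
      ⟨⟨fun a b => Subtype.ext (hle (Subgroup.le_normalizer b.2) a a.2)⟩⟩
    rw [MonoidHom.mem_ker, map_mul, map_mul, map_mul, map_inv, map_inv]
    rw [this.is_comm.comm (MonoidHom.transferSylow P hle g) (MonoidHom.transferSylow P hle x),
      mul_inv_cancel_right, mul_inv_cancel]

end Cfsg.Agent.S2971
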