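import Cfsg.Statements.S2972
import Cfsg.Agent.Lib.LocalEven.MinCounter

set_option autoImplicit false
open Cfsg

namespace Cfsg.Agent.S2972

/-- Let G be a finite group, p a prime and x ∈ G an isolated element of order p (the only conjugate of x commuting with x is x) which is not central modulo the largest normal subgroup of order prime to p, while x is central modulo the largest normal subgroup of order prime to p in every proper subgroup containing x, and the image of x is so in every quotient of G by a nontrivial normal subgroup (a minimal counterexample to the Z*_p statement). Then the derived subgroup G' is a non-abelian simple group and G = G'⟨x⟩. -/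
theorem result {G : Type*} [Group G] [Finite G] {p : ℕ} [Fact p.Prime] (x : G) (hx : orderOf x = p) (hiso : Cfsg.IsIsolated x) (hnz : ¬ Cfsg.InZStar p x) (hmin : ∀ (H : Subgroup G) (hxH : x ∈ H), H ≠ ⊤ → Cfsg.InZStar p (⟨x, hxH⟩ : ↥H)) (hquot : ∀ (N : Subgroup G) [N.Normal], N ≠ ⊥ → Cfsg.InZStar p (QuotientGroup.mk x : G ⧸ N)) : IsSimpleGroup ↥(commutator G) ∧ ¬ IsMulCommutative ↥(commutator G) ∧ commutator G ⊔ Subgroup.zpowers x = ⊤ := by
  open scoped commutatorElement Pointwise in
  have hxk : ∃ k : ℕ, orderOf x = p ^ k := ⟨1, by rw [hx, pow_one]⟩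
  have h0 := CfsgLib.LocalEven.minCounter_primeCore_eq_bot hnz hquot
  have hsup := CfsgLib.LocalEven.minCounter_sup_eq_top hiso hnz hmin hquot
  set N := commutator G with hN
  have hNn : N.Normal := by rw [hN]; infer_instance
  have hnc := CfsgLib.LocalEven.minCounter_not_central hnz
  have hN0 : N ≠ ⊥ := by
    intro h
    refine hnc fun g => ?_
    have h1 : ⁅g, x⁆ ∈ N := by
      rw [hN, commutator_def]
      exact Subgroup.commutator_mem_commutator (Subgroup.mem_top g) (Subgroup.mem_top x)
    rw [h, Subgroup.mem_bot, commutatorElement_eq_one_iff_mul_comm] at h1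
    rw [h1, mul_inv_cancel_right]
  -- every nontrivial proper normal subgroup contains the commutator subgroup
  have hle : ∀ M : Subgroup G, M.Normal → M ≠ ⊥ → N ≤ M := by
    intro M hM hM0
    by_cases hM1 : M = ⊤
    · rw [hM1]; exact le_top
    have hs := hsup M hM0 hM1
    have hgen : ∀ g : G, ∃ j : ℤ, (g : G ⧸ M) = (x : G ⧸ M) ^ j := by
      intro g
      have hle : (⊤ : Subgroup G) ≤ (Subgroup.zpowers (x : G ⧸ M)).comap (QuotientGroup.mk' M) := by
        rw [← hs]
        refine sup_le (fun m hm => ?_) (Subgroup.zpowers_le.mpr (Subgroup.mem_zpowers _))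
        rw [Subgroup.mem_comap, QuotientGroup.mk'_apply, (QuotientGroup.eq_one_iff m).mpr hm]
        exact one_mem _
      obtain ⟨j, hj⟩ := Subgroup.mem_zpowers_iff.mp (hle (Subgroup.mem_top g))
      exact ⟨j, hj.symm⟩
    rw [hN, commutator_def, Subgroup.commutator_le]
    intro a _ b _
    rw [← QuotientGroup.eq_one_iff]
    obtain ⟨i, hi⟩ := hgen a
    obtain ⟨j, hj⟩ := hgen b
    simp only [commutatorElement_def, QuotientGroup.mk_mul, QuotientGroup.mk_inv, hi, hj]
    group
  obtain ⟨P, hP⟩ := (CfsgLib.LocalEven.zpowers_isPGroup hxk).exists_le_sylow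
  have hxP : x ∈ (P : Subgroup G) := hP (Subgroup.mem_zpowers x)
  have hPC := CfsgLib.LocalEven.isolated_central_in_pSubgroup hiso P.isPGroup' hxP
  have hnab : ¬ IsMulCommutative ↥N := by
    intro hab
    have hNp : IsPGroup p N := by
      refine CfsgLib.LocalEven.isPGroup_of_primeOrder_trivial fun n hn => Subtype.ext ?_
      have hnN : N ≤ Subgroup.normalizer (Subgroup.zpowers (n : G) : Set G) := fun m hm => by
        refine Subgroup.centralizer_le_normalizer _ (Subgroup.mem_centralizer_iff.mpr fun y hy => ?_)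
        have := congrArg Subtype.val
          (hab.is_comm.comm (⟨y, Subgroup.zpowers_le.mpr n.2 hy⟩ : N) ⟨m, hm⟩)
        simpa using this
      have h1 := CfsgLib.LocalEven.le_primeCore_of_normal_normal (p := p)
        (Subgroup.zpowers_le.mpr n.2) (by rwa [Nat.card_zpowers, Subgroup.orderOf_coe]) hnN
      rw [h0] at h1
      exact Subgroup.mem_bot.mp (h1 (Subgroup.mem_zpowers _))
    refine hnc fun g => ?_
    by_cases hN1 : N = ⊤
    · have h1 : ∀ y : G, y ∈ N := fun y => hN1 ▸ Subgroup.mem_top y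
      rw [show g * x = x * g by
        simpa using congrArg Subtype.val (hab.is_comm.comm (⟨g, h1 g⟩ : N) ⟨x, h1 x⟩),
        mul_inv_cancel_right]
    have hG : IsPGroup p (N ⊔ Subgroup.zpowers x : Subgroup G) :=
      hNp.to_sup_of_normal_left (CfsgLib.LocalEven.zpowers_isPGroup hxk)
    have hs := hsup N hN0 hN1
    exact CfsgLib.LocalEven.isolated_eq_of_conj_mem hiso hG
      (hs ▸ Subgroup.mem_top _) (hs ▸ Subgroup.mem_top _)
  refine ⟨?_, hnab, ?_⟩
  · -- a minimal normal subgroup of `N` is normal in `G`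
    have hne : ({S : Subgroup G | S ≤ N ∧ N ≤ Subgroup.normalizer (S : Set G) ∧ S ≠ ⊥}).Nonempty :=
      ⟨N, le_rfl, Subgroup.le_normalizer, hN0⟩
    have key : ∀ S : Subgroup G, S ≤ N → N ≤ Subgroup.normalizer (S : Set G) → S ≠ ⊥ → S = N := by
      intro S hSN hNS hS0
      obtain ⟨S₀, hS₀le, hS₀⟩ := (Set.toFinite {S : Subgroup G |
        S ≤ N ∧ N ≤ Subgroup.normalizer (S : Set G) ∧ S ≠ ⊥}).exists_le_minimal ⟨hSN, hNS, hS0⟩
      obtain ⟨hS₀N, hNS₀, hS₀0⟩ := hS₀.prop
      suffices hn : N ≤ S₀ from le_antisymm hSN (hn.trans hS₀le)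
      -- an element of order `p` of `S₀` inside `P`
      have hdvd : p ∣ Nat.card S₀ := by
        by_contra hnd
        have h1 := CfsgLib.LocalEven.le_primeCore_of_normal_normal (p := p) hS₀N
          (((Fact.out : p.Prime).coprime_iff_not_dvd.mpr hnd).symm) hNS₀
        rw [h0] at h1
        exact hS₀0 (le_bot_iff.mp h1)
      obtain ⟨⟨y, hy⟩, hyo⟩ := exists_prime_orderOf_dvd_card' p hdvd
      rw [Subgroup.orderOf_mk] at hyo
      obtain ⟨n, hn, hnP⟩ : ∃ n ∈ N, n * y * n⁻¹ ∈ (P : Subgroup G) := by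
        obtain ⟨Q, hQ⟩ := (CfsgLib.LocalEven.zpowers_isPGroup (p := p)
          (x := y) ⟨1, by rw [hyo, pow_one]⟩).exists_le_sylow
        obtain ⟨g, rfl⟩ := MulAction.exists_smul_eq G Q P
        by_cases hN1 : N = ⊤
        · exact ⟨g, hN1 ▸ Subgroup.mem_top g,
            Subgroup.smul_mem_pointwise_smul _ (MulAut.conj g) _ (hQ (Subgroup.mem_zpowers y))⟩
        have hg : g ∈ N ⊔ Subgroup.zpowers x := hsup N hN0 hN1 ▸ Subgroup.mem_top g
        rw [sup_comm, Subgroup.mem_sup_of_normal_right] at hg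
        obtain ⟨u, hu, n, hn, hgn⟩ := hg
        refine ⟨n, hn, ?_⟩
        have h1 := Subgroup.smul_mem_pointwise_smul _ (MulAut.conj g) _ (hQ (Subgroup.mem_zpowers y))
        have hu' : u ∈ ((g • Q : Sylow p G) : Subgroup G) := (Subgroup.zpowers_le.mpr hxP) hu
        have h2 : g * y * g⁻¹ ∈ ((g • Q : Sylow p G) : Subgroup G) := h1
        have := mul_mem (mul_mem (inv_mem hu') h2) hu'
        rw [← hgn] at this ⊢
        simpa [mul_assoc] using this
      set z := n * y * n⁻¹ with hz
      have hzS : z ∈ S₀ := (Subgroup.mem_normalizer_iff.mp (hNS₀ hn) y).mp hy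
      have hz1 : z ≠ 1 := by
        intro h
        rw [hz, conj_eq_one_iff] at h
        rw [h, orderOf_one] at hyo
        exact (Fact.out : p.Prime).ne_one hyo.symm
      set S₁ := S₀.map (MulAut.conj x).toMonoidHom with hS₁
      have hzS₁ : z ∈ S₁ := ⟨z, hzS, mul_inv_eq_iff_eq_mul.mpr
        (Subgroup.mem_centralizer_singleton_iff.mp (hPC hnP)).symm⟩
      have hNS₁ : N ≤ Subgroup.normalizer (S₁ : Set G) := by
        intro m hm
        have hm' := Subgroup.le_normalizer_map (MulAut.conj x).toMonoidHom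
          (Subgroup.mem_map_of_mem _ (hNS₀ (by simpa using hNn.conj_mem m hm x⁻¹ : x⁻¹ * m * x ∈ N)))
        simpa [hS₁, mul_assoc] using hm'
      have hinf : S₀ ⊓ S₁ = S₀ := le_antisymm inf_le_left (hS₀.2
        ⟨inf_le_left.trans hS₀N, fun m hm => Subgroup.inf_normalizer_le_normalizer_inf
          ⟨hNS₀ hm, hNS₁ hm⟩, fun h => hz1 (Subgroup.mem_bot.mp (h ▸ ⟨hzS, hzS₁⟩))⟩ inf_le_left)
      have heq : S₁ = S₀ := (Subgroup.eq_of_le_of_card_ge (inf_eq_left.mp hinf)
        (Subgroup.card_map_of_injective (MulEquiv.injective _)).le).symm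
      have hxS : x ∈ Subgroup.normalizer (S₀ : Set G) := by
        rw [Subgroup.mem_normalizer_iff]
        intro s
        refine ⟨fun hs => heq ▸ Subgroup.mem_map_of_mem _ hs, fun hs => ?_⟩
        rw [← heq] at hs
        obtain ⟨w, hw, hws⟩ := hs
        rwa [← (MulAut.conj x).injective hws]
      have hnorm : S₀.Normal := by
        rw [← Subgroup.normalizer_eq_top_iff, eq_top_iff]
        by_cases hN1 : N = ⊤
        · rw [← hN1]; exact hNS₀
        · rw [← hsup N hN0 hN1]
          exact sup_le hNS₀ (Subgroup.zpowers_le.mpr hxS)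
      exact hle S₀ hnorm hS₀0
    have : Nontrivial ↥N := (Subgroup.nontrivial_iff_ne_bot N).mpr hN0
    refine ⟨fun S hS => ?_⟩
    by_cases hS0 : S = ⊥
    · exact Or.inl hS0
    right
    have h1 := key (S.map N.subtype) (Subgroup.map_subtype_le _) (by
      have h := Subgroup.le_normalizer_map N.subtype (H := S)
      rwa [Subgroup.normalizer_eq_top, ← MonoidHom.range_eq_map, Subgroup.range_subtype] at h)
      (by rwa [Ne, Subgroup.map_eq_bot_iff_of_injective _ N.subtype_injective])
    rw [← Subgroup.comap_map_eq_self_of_injective N.subtype_injective S, h1]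
    exact Subgroup.subgroupOf_self N
  · by_cases hN1 : N = ⊤
    · rw [hN1, top_sup_eq]
    · exact hsup N hN0 hN1

end Cfsg.Agent.S2972
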