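import Cfsg.Statements.S2975
import Cfsg.Agent.Lib.LocalEven.MinCounter
import Cfsg.Agent.Lib.Solvable.CoprimeAction

set_option autoImplicit false
open Cfsg

namespace Cfsg.Agent.S2975

/-- Let G be a finite group, p a prime and x ∈ G an isolated element of order p (the only conjugate of x commuting with x is x) which is not central modulo the largest normal subgroup of order prime to p, while x is central modulo the largest normal subgroup of order prime to p in every proper subgroup containing x, and the image of x is so in every quotient of G by a nontrivial normal subgroup (a minimal counterexample to the Z*_p statement). Then for every prime q, every q-subgroup of G that is normalized by x and maximal among the q-subgroups normalized by x is either trivial or a Sylow q-subgroup of G; and C_G(x) permutes the x-invariant Sylow q-subgroups of G transitively by conjugation. -/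
theorem result {G : Type*} [Group G] [Finite G] {p : ℕ} [Fact p.Prime] (x : G) (hx : orderOf x = p) (hiso : Cfsg.IsIsolated x) (hnz : ¬ Cfsg.InZStar p x) (hmin : ∀ (H : Subgroup G) (hxH : x ∈ H), H ≠ ⊤ → Cfsg.InZStar p (⟨x, hxH⟩ : ↥H)) (hquot : ∀ (N : Subgroup G) [N.Normal], N ≠ ⊥ → Cfsg.InZStar p (QuotientGroup.mk x : G ⧸ N)) (q : ℕ) [Fact q.Prime] : (∀ Q : Subgroup G, IsPGroup q ↥Q → x ∈ Subgroup.normalizer (Q : Set G) → (∀ R : Subgroup G, IsPGroup q ↥R → x ∈ Subgroup.normalizer (R : Set G) → Q ≤ R → R = Q) → Q = ⊥ ∨ ∃ S : Sylow q G, (S : Subgroup G) = Q) ∧ (∀ S₁ S₂ : Sylow q G, x ∈ Subgroup.normalizer ((S₁ : Subgroup G) : Set G) → x ∈ Subgroup.normalizer ((S₂ : Subgroup G) : Set G) → ∃ c ∈ Subgroup.centralizer ({x} : Set G), (S₁ : Subgroup G).map (MulAut.conj c).toMonoidHom = (S₂ : Subgroup G)) := by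
  open scoped Pointwise in
  have hxk : ∃ k : ℕ, orderOf x = p ^ k := ⟨1, by rw [hx, pow_one]⟩
  have h0 := CfsgLib.LocalEven.minCounter_primeCore_eq_bot hnz hquot
  refine ⟨fun Q hQ hxQ hmax => ?_, fun S₁ S₂ h₁ h₂ => ?_⟩
  · by_cases hQ0 : Q = ⊥
    · exact Or.inl hQ0
    right
    by_cases hqp : q = p
    · subst hqp
      have hxx : x ∈ Q := by
        have hp' := hQ.to_sup_of_normal_left' (CfsgLib.LocalEven.zpowers_isPGroup hxk)
          (Subgroup.zpowers_le.mpr hxQ)
        have h := hmax (Q ⊔ Subgroup.zpowers x) hp'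
          (Subgroup.le_normalizer ((le_sup_right : _ ≤ Q ⊔ Subgroup.zpowers x)
            (Subgroup.mem_zpowers x))) le_sup_left
        exact h.le ((le_sup_right : _ ≤ Q ⊔ Subgroup.zpowers x) (Subgroup.mem_zpowers x))
      obtain ⟨S, hS⟩ := hQ.exists_le_sylow
      exact ⟨S, hmax S S.isPGroup' (Subgroup.le_normalizer (hS hxx)) hS⟩
    set H := Subgroup.normalizer (Q : Set G) with hH
    have hH1 : H ≠ ⊤ := by
      intro h
      have hn : Q.Normal := Subgroup.normalizer_eq_top_iff.mp h
      obtain ⟨k, hk⟩ := hQ.exists_card_eq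
      have h1 : Q ≤ Cfsg.pPrimeCore p G := CfsgLib.LocalEven.le_primeCore_of_normal hn
        (hk ▸ Nat.Coprime.pow_left k ((Nat.coprime_primes Fact.out Fact.out).mpr hqp))
      rw [h0] at h1
      exact hQ0 (le_bot_iff.mp h1)
    have hz := hmin H hxQ hH1
    have hQH : Q ≤ H := Subgroup.le_normalizer
    have hDn := CfsgLib.LocalEven.primeCore_normal p ↥H
    obtain ⟨S, hS⟩ := (hQ.comap_subtype (K := H)).exists_le_sylow
    set W : Subgroup ↥H := Cfsg.pPrimeCore p ↥H ⊔ (S : Subgroup ↥H) with hW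
    set A : Subgroup ↥H := Subgroup.zpowers ⟨x, hxQ⟩ with hA
    have hAW : A ≤ Subgroup.normalizer (W : Set ↥H) := by
      rw [hA, Subgroup.zpowers_le]
      have hconj : ∀ w ∈ W, (⟨x, hxQ⟩ : ↥H) * w * (⟨x, hxQ⟩ : ↥H)⁻¹ ∈ W := by
        intro w hw
        have h := mul_mem ((le_sup_left : Cfsg.pPrimeCore p ↥H ≤ W) (inv_mem (hz w))) hw
        simpa [mul_assoc] using h
      refine Subgroup.mem_normalizer_iff.mpr fun w => ⟨hconj w, fun hw => ?_⟩
      have h := mul_mem ((le_sup_left : Cfsg.pPrimeCore p ↥H ≤ W) (hz w)) hw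
      simpa [mul_assoc] using h
    have hAc : Nat.card A = p := by
      rw [hA, Nat.card_zpowers, Subgroup.orderOf_mk, hx]
    have hWc : (Nat.card A).Coprime (Nat.card W) := by
      obtain ⟨k, hk⟩ := S.isPGroup'.exists_card_eq
      have hd : Nat.card W ∣ Nat.card (Cfsg.pPrimeCore p ↥H) * Nat.card (S : Subgroup ↥H) :=
        CfsgLib.Solvable.card_sup_dvd_mul _ _
      rw [hAc]
      refine Nat.Coprime.coprime_dvd_right hd (Nat.Coprime.mul_right
        (CfsgLib.LocalEven.primeCore_coprime p ↥H).symm ?_)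
      rw [hk]
      exact Nat.Coprime.pow_right k ((Nat.coprime_primes Fact.out Fact.out).mpr (Ne.symm hqp))
    have hAsolv : Group.IsSolvable A ∨ Group.IsSolvable W := by
      left
      have := (CfsgLib.LocalEven.zpowers_isPGroup (x := (⟨x, hxQ⟩ : ↥H))
        (p := p) (by simpa [Subgroup.orderOf_mk] using hxk)).isNilpotent
      exact inferInstance
    have hQ' : Q.subgroupOf H ≤ W := hS.trans le_sup_right
    have hAQ : A ≤ Subgroup.normalizer ((Q.subgroupOf H : Subgroup ↥H) : Set ↥H) := by
      have : (Q.subgroupOf H).Normal :=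
        (Subgroup.normal_subgroupOf_iff_le_normalizer hQH).mpr le_rfl
      rw [Subgroup.normalizer_eq_top]
      exact le_top
    obtain ⟨T, hQT, hAT⟩ := CfsgLib.Solvable.exists_invariant_sylow_ge hAW hWc hAsolv q hQ'
      hQ.comap_subtype hAQ
    set U := ((T : Subgroup ↥W).map W.subtype).map H.subtype with hU
    have hQU : Q ≤ U := by
      have := Subgroup.map_mono (f := H.subtype) hQT
      rwa [Subgroup.map_subgroupOf_eq_of_le hQH] at this
    have hxU : x ∈ Subgroup.normalizer (U : Set G) :=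
      Subgroup.le_normalizer_map H.subtype
        ⟨⟨x, hxQ⟩, hAT (Subgroup.mem_zpowers _), rfl⟩
    have hUQ : U = Q := hmax U ((T.isPGroup'.map _).map _) hxU hQU
    -- so `Q` is a Sylow subgroup of its normalizer
    have hSQ : (S : Subgroup ↥H) = Q.subgroupOf H := by
      refine (Subgroup.eq_of_le_of_card_ge hS ?_).symm
      refine le_of_le_of_eq ?_ (Nat.card_congr (Subgroup.subgroupOfEquivOfLe hQH).toEquiv).symm
      rw [← hUQ, hU,
        Subgroup.card_map_of_injective H.subtype_injective,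
        Subgroup.card_map_of_injective W.subtype_injective]
      refine Nat.le_of_dvd Nat.card_pos ?_
      rw [T.card_eq_multiplicity]
      obtain ⟨k, hk⟩ := S.isPGroup'.exists_card_eq
      rw [hk]
      refine pow_dvd_pow q ?_
      have h1 : q ^ k ∣ Nat.card W := hk ▸ Subgroup.card_dvd_of_le le_sup_right
      exact (Nat.Prime.pow_dvd_iff_le_factorization Fact.out Nat.card_pos.ne').mp h1
    obtain ⟨P, hP⟩ := hQ.exists_le_sylow
    refine ⟨P, le_antisymm ?_ hP⟩
    by_contra hne
    have : Group.IsNilpotent (P : Subgroup G) := P.isPGroup'.isNilpotent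
    have hlt : Q.subgroupOf (P : Subgroup G) < ⊤ := by
      rwa [lt_top_iff_ne_top, Ne, Subgroup.subgroupOf_eq_top]
    obtain ⟨u, hu, huQ⟩ := SetLike.exists_of_lt
      (normalizerCondition_of_isNilpotent (Q.subgroupOf (P : Subgroup G)) hlt)
    have huH : (u : G) ∈ H := by
      have h := Subgroup.le_normalizer_map (P : Subgroup G).subtype ⟨u, hu, rfl⟩
      rwa [Subgroup.map_subgroupOf_eq_of_le hP] at h
    apply huQ
    have hle : Q.subgroupOf H ≤ (P : Subgroup G).subgroupOf H := fun w hw =>
      Subgroup.mem_subgroupOf.mpr (hP (Subgroup.mem_subgroupOf.mp hw))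
    have h2 := S.is_maximal' (P.isPGroup'.comap_subtype (K := H)) (hSQ ▸ hle)
    have h3 : (⟨u, huH⟩ : ↥H) ∈ (P : Subgroup G).subgroupOf H := Subgroup.mem_subgroupOf.mpr u.2
    change _ ∈ Subgroup.comap H.subtype _ at h3
    rw [h2, hSQ] at h3
    exact Subgroup.mem_subgroupOf.mpr (Subgroup.mem_subgroupOf.mp h3)
  · obtain ⟨g, hg⟩ := MulAction.exists_smul_eq G S₁ S₂
    set H := Subgroup.normalizer ((S₂ : Subgroup G) : Set G) with hH
    have hgx : g * x * g⁻¹ ∈ H := by
      rw [hH, ← hg]
      exact Subgroup.le_normalizer_map (MulAut.conj g).toMonoidHom ⟨x, h₁, rfl⟩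
    obtain ⟨h, hh, hhg⟩ := CfsgLib.LocalEven.isolated_mul_mem_centralizer hxk hiso h₂ hgx
    refine ⟨h * g, hhg, ?_⟩
    have h2 : (h * g) • S₁ = S₂ := by
      rw [mul_smul, hg]
      exact Sylow.smul_eq_iff_mem_normalizer.mpr hh
    exact congrArg (fun S : Sylow q G => (S : Subgroup G)) h2

end Cfsg.Agent.S2975
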