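import Cfsg.Statements.S2987
import Cfsg.Agent.Lib.BlockPair.Image
import Cfsg.Agent.Lib.BlockPair.Contain
import Cfsg.Agent.Lib.BlockPair.Conj

set_option autoImplicit false
open Cfsg

namespace Cfsg.Agent.S2987

open CfsgLib.LocalEven CfsgLib.LocalEven.BBlock CfsgLib.BlockNorm CfsgLib.BlockPair
open scoped commutatorElement

theorem map_conj_baumann {G : Type*} [Group G] {p : ℕ} [Fact p.Prime] (g : G) (T : Sylow p G) :
    (Cfsg.baumannSubgroupOf p (T : Subgroup G)).map (MulAut.conj g).toMonoidHom =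
      Cfsg.baumannSubgroupOf p ((g • T : Sylow p G) : Subgroup G) :=
  CfsgLib.BlockPair.map_baumannSubgroupOf (MulAut.conj g) (T : Subgroup G)

theorem normal_baumann {G : Type*} [Group G] {p : ℕ} [Fact p.Prime] :
    (Cfsg.baumannSubgroup p G).Normal := by
  refine ⟨fun x hx g => ?_⟩
  have h : Cfsg.baumannSubgroup p G ≤ (Cfsg.baumannSubgroup p G).comap (MulAut.conj g).toMonoidHom := by
    refine iSup_le fun T y hy => ?_
    have h1 : (MulAut.conj g).toMonoidHom y ∈
        (Cfsg.baumannSubgroupOf p (T : Subgroup G)).map (MulAut.conj g).toMonoidHom := ⟨y, hy, rfl⟩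
    rw [map_conj_baumann] at h1
    exact le_iSup (fun T : Sylow p G => Cfsg.baumannSubgroupOf p (T : Subgroup G)) (g • T) h1
  exact h hx

/-- A `B(T)`-block lies in the Baumann subgroup. -/
theorem le_baumann {G : Type*} [Group G] {p : ℕ} [Fact p.Prime] (T : Sylow p G) {E : Subgroup G}
    (hE : ⁅E, Cfsg.baumannSubgroupOf p (T : Subgroup G)⁆ = E) : E ≤ Cfsg.baumannSubgroup p G := by
  haveI := normal_baumann (G := G) (p := p)
  rw [← hE]
  have h : Cfsg.baumannSubgroupOf p (T : Subgroup G) ≤ Cfsg.baumannSubgroup p G :=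
    le_iSup (fun T : Sylow p G => Cfsg.baumannSubgroupOf p (T : Subgroup G)) T
  exact (Subgroup.commutator_mono le_rfl h).trans (Subgroup.commutator_le_right E _)

/-- A subnormal block is a block for every Sylow subgroup. -/
theorem block_all {G : Type*} [Group G] [Finite G] {p : ℕ} [Fact p.Prime]
    (hG : Subgroup.centralizer (Cfsg.pCore p G : Set G) ≤ Cfsg.pCore p G) {E : Subgroup G}
    {T : Sylow p G} (hT : Cfsg.IsBaumannBlock p (T : Subgroup G) E) (hEs : E.IsSubnormal)
    (T' : Sylow p G) : Cfsg.IsBaumannBlock p (T' : Subgroup G) E := by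
  classical
  have hE : IsBlock p E := ⟨T, hT⟩
  set N := Cfsg.baumannSubgroup p G with hN
  haveI : N.Normal := normal_baumann
  have hNE : N ≤ Subgroup.normalizer (E : Set G) := baumannSubgroup_le_normalizer hG hE hEs
  set B := Cfsg.baumannSubgroupOf p (T : Subgroup G) with hB
  have hBN : B ≤ N := le_iSup (fun T : Sylow p G => Cfsg.baumannSubgroupOf p (T : Subgroup G)) T
  have hBp : IsPGroup p ↥B := T.2.to_le inf_le_left
  obtain ⟨P, hP⟩ := (hBp.comap_subtype (K := N)).exists_le_sylow
  set P' := (P : Subgroup ↥N).map N.subtype with hP'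
  have hBP : B ≤ P' := fun b hb => ⟨⟨b, hBN hb⟩, hP hb, rfl⟩
  obtain ⟨S, hS⟩ := (P.2.map N.subtype).exists_le_sylow
  obtain ⟨g, hg⟩ := MulAction.exists_smul_eq G T T'
  have hfr := Sylow.normalizer_sup_eq_top P
  obtain ⟨h, hh, n', hn', hgn⟩ := Subgroup.mem_sup_of_normal_right.mp (hfr ▸ Subgroup.mem_top g)
  have hnN : g * h⁻¹ ∈ N := by
    rw [← hgn]
    exact (inferInstance : N.Normal).conj_mem n' hn' h
  have hhB : B.map (MulAut.conj h).toMonoidHom = B := by
    rw [hB, map_conj_baumann]
    rw [← baumann_eq_of_le T S (hBP.trans hS)]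
    refine (baumann_eq_of_le (h • T) S ?_).symm
    rw [← map_conj_baumann]
    rintro _ ⟨b, hb, rfl⟩
    exact hS ((Subgroup.mem_normalizer_iff.mp hh b).mp (hBP hb))
  have hB' : Cfsg.baumannSubgroupOf p (((g * h⁻¹) • T : Sylow p G) : Subgroup G) =
      Cfsg.baumannSubgroupOf p (T' : Subgroup G) := by
    rw [← map_conj_baumann, ← hB]
    conv_lhs => rw [← hhB]
    rw [Subgroup.map_map, show ((MulAut.conj (g * h⁻¹)).toMonoidHom.comp (MulAut.conj h).toMonoidHom) =
      (MulAut.conj g).toMonoidHom from MonoidHom.ext fun x => by simp [mul_assoc], hB, map_conj_baumann, hg]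
  have hblock : Cfsg.IsBaumannBlock p (((g * h⁻¹) • T : Sylow p G) : Subgroup G) E := by
    have h1 := isBaumannBlock_map (MulAut.conj (g * h⁻¹)) hT
    rwa [CfsgLib.PLocal.map_conj_eq_of_mem_normalizer (hNE hnN)] at h1
  obtain ⟨h1, h2, h3, -, h5⟩ := hblock
  rw [hB'] at h2 h5
  refine ⟨h1, h2, h3, ?_, h5⟩
  -- a central element of `T'` moving `E`
  set M := Cfsg.omegaOneCenter p (Cfsg.pCore p G) with hM
  have hMEA : Cfsg.IsElementaryAbelian p M := CfsgLib.PLocal.omegaCenter_isEA _
  have hMn : ∀ g, g ∈ Subgroup.normalizer (M : Set G) := fun g => map_conj_omegaOneCenter p (by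
    haveI := core_normal p G
    rw [Subgroup.normalizer_eq_top]; exact Subgroup.mem_top g)
  have hMT : M ≤ (T' : Subgroup G) := ((CfsgLib.PLocal.omegaOne_le p _).trans inf_le_left).trans
    (CfsgLib.Solvable.pCore_le_sylow T')
  obtain ⟨w, hwW, hwC, hwfix⟩ := exists_fixed_mem hG hE
    (T'.2.to_le (inf_le_left : (T' : Subgroup G) ⊓ Subgroup.normalizer (E : Set G) ≤ T')) inf_le_right
  have hwM : w ∈ M := bW_le_omega hE hG hwW
  letI : CommGroup ↥M :=
    { (inferInstance : Group ↥M) with
      mul_comm := fun a b => Subtype.ext (CfsgLib.PLocal.commute_of_mem_comm hMEA.1 a.2 b.2).eq }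
  let H : Subgroup ↥(T' : Subgroup G) := (Subgroup.normalizer (E : Set G)).subgroupOf (T' : Subgroup G)
  let f : ↥(T' : Subgroup G) ⧸ H → ↥M := fun q => Quotient.liftOn' q
    (fun t => (⟨(t : G) * w * (t : G)⁻¹, conj_mem' (hMn _) hwM⟩ : ↥M)) fun t t' htt => by
      have h := hwfix _ (Subgroup.mem_inf.mpr ⟨(t⁻¹ * t').2, Subgroup.mem_subgroupOf.mp (QuotientGroup.leftRel_apply.mp htt)⟩)
      refine Subtype.ext ?_
      show (t : G) * w * (t : G)⁻¹ = (t' : G) * w * (t' : G)⁻¹
      conv_lhs => rw [← h]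
      simp [mul_assoc]
  letI : Fintype (↥(T' : Subgroup G) ⧸ H) := Fintype.ofFinite _
  set z : ↥M := ∏ q, f q with hz
  have hzfix : ∀ t : ↥(T' : Subgroup G), (t : G) * z * (t : G)⁻¹ = z := by
    intro t
    let c : ↥M →* ↥M :=
      { toFun := fun m => ⟨(t : G) * m * (t : G)⁻¹, conj_mem' (hMn _) m.2⟩
        map_one' := Subtype.ext (by simp)
        map_mul' := fun a b => Subtype.ext (by simp [mul_assoc]) }
    have hc : ∀ q, c (f q) = f (t • q) := fun q => by
      induction q using QuotientGroup.induction_on with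
      | H a =>
        refine Subtype.ext ?_
        show (t : G) * ((a : G) * w * (a : G)⁻¹) * (t : G)⁻¹ = ((t * a : ↥(T' : Subgroup G)) : G) * w *
          ((t * a : ↥(T' : Subgroup G)) : G)⁻¹
        simp [mul_assoc]
    have hcz : c z = z := by
      rw [hz, map_prod]
      simp only [hc]
      exact Equiv.prod_comp (MulAction.toPerm t) f
    exact congrArg Subtype.val hcz
  have hzC : (z : G) ∉ Subgroup.centralizer (E : Set G) := by
    intro hzC
    apply hwC
    set q0 : ↥(T' : Subgroup G) ⧸ H := ((1 : ↥(T' : Subgroup G)) : ↥(T' : Subgroup G) ⧸ H) with hq0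
    have hsplit := Finset.mul_prod_erase Finset.univ f (Finset.mem_univ q0)
    have hrest : ((∏ q ∈ Finset.univ.erase q0, f q : ↥M) : G) ∈ Subgroup.centralizer (E : Set G) := by
      have h : (∏ q ∈ Finset.univ.erase q0, f q) ∈ (Subgroup.centralizer (E : Set G)).subgroupOf M := by
        refine Subgroup.prod_mem _ fun q hq => ?_
        induction q using QuotientGroup.induction_on with
        | H a =>
          have ha : (a : G) ∉ Subgroup.normalizer (E : Set G) := fun ha =>
            (Finset.mem_erase.mp hq).1 ((QuotientGroup.eq.mpr (by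
              show a⁻¹ * 1 ∈ H
              rw [mul_one]
              exact inv_mem (Subgroup.mem_subgroupOf.mpr ha))))
          have hcomm := (eq_or_commute_of_isSubnormal hG hE (hE.conj (a : G)) hEs
            (CfsgLib.Components.isSubnormal_map_conj hEs (a : G))).resolve_left
            fun h => ha (Subgroup.mem_normalizer_iff_map_conj_eq.mpr h.symm)
          exact Subgroup.mem_subgroupOf.mpr
            (CfsgLib.BlockPair.conj_mem_centralizer hcomm (bW_le hE hwW)).1
      exact Subgroup.mem_subgroupOf.mp h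
    have hf0 : (f q0 : G) = w := by
      show ((1 : ↥(T' : Subgroup G)) : G) * w * ((1 : ↥(T' : Subgroup G)) : G)⁻¹ = w
      simp
    have he := congrArg Subtype.val hsplit
    rw [← hz, Subgroup.coe_mul, hf0] at he
    rw [eq_mul_inv_of_mul_eq he]
    exact mul_mem hzC (inv_mem hrest)
  intro hbot
  apply hzC
  have hzO : (z : G) ∈ Cfsg.omegaOneCenter p (T' : Subgroup G) :=
    CfsgLib.PLocal.mem_omegaOne (Subgroup.mem_inf.mpr ⟨hMT z.2, fun t ht =>
      mul_inv_eq_iff_eq_mul.mp (hzfix ⟨t, ht⟩)⟩) (hMEA.2 _ z.2)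
  exact Subgroup.le_centralizer_iff.mp (Subgroup.commutator_eq_bot_iff_le_centralizer.mp hbot) hzO

/-- Let G be a finite group of characteristic p (C_G(O_p(G)) ≤ O_p(G)) and E a subnormal subgroup of G which is a B(T)-block for some Sylow p-subgroup T of G. Then E is a normal subgroup of the Baumann subgroup B(G) (generated by the B(T) over all Sylow p-subgroups T), E is a B(T')-block for every Sylow p-subgroup T' of G, and every subgroup F that is a B(T')-block for some Sylow p-subgroup T' satisfies F ≤ E or [F, E] = 1. -/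
theorem result {G : Type*} [Group G] [Finite G] {p : ℕ} [Fact p.Prime] (hG : Subgroup.centralizer (Cfsg.pCore p G : Set G) ≤ Cfsg.pCore p G) (E : Subgroup G) (hE : ∃ T : Sylow p G, Cfsg.IsBaumannBlock p (T : Subgroup G) E) (hEs : E.IsSubnormal) : E ≤ Cfsg.baumannSubgroup p G ∧ Cfsg.baumannSubgroup p G ≤ Subgroup.normalizer (E : Set G) ∧ (∀ T' : Sylow p G, Cfsg.IsBaumannBlock p (T' : Subgroup G) E) ∧ ∀ F : Subgroup G, (∃ T' : Sylow p G, Cfsg.IsBaumannBlock p (T' : Subgroup G) F) → F ≤ E ∨ ⁅F, E⁆ = ⊥ := by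
  obtain ⟨T, hT⟩ := hE
  have hE : IsBlock p E := ⟨T, hT⟩
  have hgood := good_of_isSubnormal hE hG hEs
  refine ⟨le_baumann T hT.2.1, baumannSubgroup_le_normalizer hG hE hEs, block_all hG hT hEs, ?_⟩
  rintro F ⟨T', hT'⟩
  have hF : IsBlock p F := ⟨T', hT'⟩
  have hFB := le_baumann T' hT'.2.1
  have hFE : F ≤ Subgroup.normalizer (E : Set G) := hFB.trans (baumannSubgroup_le_normalizer hG hE hEs)
  by_cases hFW : F ≤ Subgroup.centralizer (bW p E : Set G)
  · right
    have hEW := le_centralizer_bW hG hE hF hgood hFE hFW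
    have hEF := hEW.trans (centralizer_le_normalizer hG T' hT')
    rw [Subgroup.commutator_comm]
    exact commutator_eq_bot_of_centralizes hG hE hF hgood hEF hFE hEW hFW
  · exact Or.inl (le_of_le_sup hG hE hF hgood hFE hFW
      (le_sup_of_le_baumann hG hE hEs hT'.1 hFB))

end Cfsg.Agent.S2987
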