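import Cfsg.Statements.S2989
import Cfsg.Agent.Lib.LocalEven.CLPushing

set_option autoImplicit false
open Cfsg

namespace Cfsg.Agent.S2989

/-- Let G be a finite group and S a Sylow p-subgroup of G in the basic pushing-up situation (G ≠ 1, C_G(O_p(G)) ≤ O_p(G), S lies in a unique maximal subgroup of G, and some quotient of G is isomorphic to PSL₂ over a field of order a power of p), and suppose that S centralizes Z(J(S)), where J(S) is generated by the abelian subgroups of S of largest order (that is, J̃(S) = C_S(Z(J(S))) = S). Call a subgroup R of S centrally large if |R|·|Z(R)| is as large as possible among subgroups of S, and let S_Φ be the subgroup generated by the Frattini subgroups Φ(Q) of those minimal centrally large subgroups Q of S whose Ω₁(Z(Q)) has the largest order among minimal centrally large subgroups. Then Z(S) or S_Φ is normal in G; and if S_Φ = 1, the minimal centrally large subgroups of S are exactly the abelian subgroups of S of largest order, and at least one of them is elementary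 abelian. -/
theorem result {G : Type*} [Group G] [Finite G] {p : ℕ} [Fact p.Prime] (S : Subgroup G) (hE : Cfsg.IsPushingUpSituation p S) (hJ : S ≤ Subgroup.centralizer (Cfsg.centerThompsonAOf S : Set G)) : ((S ⊓ Subgroup.centralizer (S : Set G)).Normal ∨ ((Cfsg.frattiniOfMinimalCLJoin p ↥S).map S.subtype).Normal) ∧ (Cfsg.frattiniOfMinimalCLJoin p ↥S = ⊥ → (∀ Q : Subgroup ↥S, Cfsg.IsMinimalCentrallyLarge Q ↔ Q ∈ Cfsg.maxAbelianSubgroups ↥S) ∧ ∃ A ∈ Cfsg.maxAbelianSubgroups ↥S, Cfsg.IsElementaryAbelian p A) := by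
  obtain ⟨P, K, F, _, _, n, rfl, hR⟩ := CfsgLib.LocalEven.CLP.exists_rankOne hE
  rw [CfsgLib.PLoc.centerThompsonAOf_eq] at hJ
  refine ⟨CfsgLib.LocalEven.CLP.frattini_main hR (CfsgLib.LocalEven.CLP.emb_subtype P) hJ, fun h => ?_⟩
  obtain ⟨Q, hQ, hQm⟩ := CfsgLib.LocalEven.CLP.exists_max_omega (P := ↥(P : Subgroup G)) p
  have hle : CfsgLib.LocalEven.CLP.frat Q ≤ ⊥ := by
    rw [← h, CfsgLib.LocalEven.CLP.frattiniOfMinimalCLJoin_eq]
    exact le_iSup_of_le ⟨Q, hQ, hQm⟩ le_rfl
  rw [CfsgLib.LocalEven.CLP.frat_eq P.isPGroup', sup_le_iff] at hle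
  have hab : IsMulCommutative Q := IsMulCommutative.of_setLike_mul_comm fun a ha b hb =>
    Subgroup.commutator_eq_bot_iff_le_centralizer.mp (le_bot_iff.mp hle.1) hb a ha
  refine ⟨CfsgLib.LocalEven.mcl_iff_maxAbelian hQ hab, Q,
    (CfsgLib.LocalEven.mcl_iff_maxAbelian hQ hab Q).mp hQ, hab, fun x hx => ?_⟩
  exact Subgroup.mem_bot.mp (hle.2 (Subgroup.subset_closure ⟨x, hx, rfl⟩))

end Cfsg.Agent.S2989
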