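import Cfsg.Statements.S2998
import Mathlib.GroupTheory.Sylow
import Mathlib.Tactic.Ring

set_option autoImplicit false
open Cfsg

namespace Cfsg.Agent.S2998

/-- Let G be a finite group, p a prime, P a Sylow p-subgroup of G and x ∈ P an element such that N_G(R) ≤ C_G(x) for every nontrivial subgroup R of P. Then P ≤ C_G(x); every G-conjugate of x lying in P equals x (so g ∈ C_G(x) whenever g x g⁻¹ ∈ P); and for every normal subgroup N of G, the image of x in G ⧸ N has the same property with respect to the image of P: the normalizer of every nontrivial subgroup of the image of P centralizes the image of x. -/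
theorem result {G : Type*} [Group G] [Finite G] {p : ℕ} [Fact p.Prime] (P : Sylow p G) (x : G) (hxP : x ∈ (P : Subgroup G)) (hlc : ∀ R : Subgroup G, R ≤ (P : Subgroup G) → R ≠ ⊥ → Subgroup.normalizer (R : Set G) ≤ Subgroup.centralizer ({x} : Set G)) : (P : Subgroup G) ≤ Subgroup.centralizer ({x} : Set G) ∧ (∀ g : G, g * x * g⁻¹ ∈ (P : Subgroup G) → g * x * g⁻¹ = x) ∧ ∀ (N : Subgroup G) [N.Normal], ∀ R : Subgroup (G ⧸ N), R ≤ (P : Subgroup G).map (QuotientGroup.mk' N) → R ≠ ⊥ → Subgroup.normalizer (R : Set (G ⧸ N)) ≤ Subgroup.centralizer ({(QuotientGroup.mk x : G ⧸ N)} : Set (G ⧸ N)) := by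
  set C := Subgroup.centralizer ({x} : Set G) with hC
  have hP : (P : Subgroup G) ≤ C := by
    by_cases hb : (P : Subgroup G) = ⊥
    · rw [hb]; exact bot_le
    · exact Subgroup.le_normalizer.trans (hlc _ le_rfl hb)
  -- an element of `P` centralizes only elements centralizing `x`
  have hcen : ∀ y ∈ (P : Subgroup G), y ≠ 1 → Subgroup.centralizer ({y} : Set G) ≤ C := by
    intro y hy hy1
    refine le_trans ?_ (hlc (Subgroup.zpowers y) (Subgroup.zpowers_le.mpr hy)
      (by simpa [Subgroup.zpowers_eq_bot] using hy1))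
    rw [← Subgroup.centralizer_closure, ← Subgroup.zpowers_eq_closure]
    exact Subgroup.centralizer_le_normalizer _
  refine ⟨hP, fun g hg => ?_, fun N _ R hR hR1 => ?_⟩
  · by_cases hx1 : x = 1
    · simp [hx1]
    have hy1 : g * x * g⁻¹ ≠ 1 := by simpa [conj_eq_one_iff] using hx1
    have hyC := hcen _ hg hy1
    -- the centralizers of the two elements coincide
    have heq : C.map (MulAut.conj g).toMonoidHom = C := by
      refine Subgroup.eq_of_le_of_card_ge ?_ (Subgroup.card_map_of_injective (MulEquiv.injective _)).ge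
      rintro _ ⟨c, hc, rfl⟩
      refine hyC (Subgroup.mem_centralizer_singleton_iff.mpr ?_)
      exact Commute.map (Subgroup.mem_centralizer_singleton_iff.mp hc) (MulAut.conj g).toMonoidHom
    have hPg : ((g • P : Sylow p G) : Subgroup G) ≤ C := by
      rw [← heq]
      exact Subgroup.map_mono hP
    obtain ⟨c, hc⟩ := MulAction.exists_smul_eq C ((g • P : Sylow p G).subtype hPg) (P.subtype hP)
    rw [Sylow.smul_subtype] at hc
    have hn : (c : G) * g ∈ Subgroup.normalizer ((P : Subgroup G) : Set G) := by
      refine Sylow.smul_eq_iff_mem_normalizer.mp ?_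
      rw [mul_smul]
      exact Sylow.subtype_injective hc
    have hcg : (c : G) * g ∈ C := hlc _ le_rfl
      (fun h => hx1 (Subgroup.mem_bot.mp (h ▸ hxP))) hn
    have hgC : g ∈ C := by
      have := mul_mem (inv_mem c.2) hcg
      rwa [inv_mul_cancel_left] at this
    rw [Subgroup.mem_centralizer_singleton_iff.mp hgC, mul_inv_cancel_right]
  · -- a Sylow argument lifts `R`
    intro q hq
    obtain ⟨g, rfl⟩ := QuotientGroup.mk_surjective q
    set X := R.comap (QuotientGroup.mk' N) with hX
    set R₀ := (P : Subgroup G) ⊓ X with hR₀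
    have hNX : N ≤ X := fun n hn => by
      rw [hX, Subgroup.mem_comap, QuotientGroup.mk'_apply, (QuotientGroup.eq_one_iff n).mpr hn]
      exact one_mem R
    have hXPN : X ≤ (P : Subgroup G) ⊔ N := fun y hy => by
      obtain ⟨z, hz, hzy⟩ := hR hy
      have h1 : z⁻¹ * y ∈ N := QuotientGroup.eq.mp hzy
      have := Subgroup.mul_mem_sup hz h1
      rwa [mul_inv_cancel_left] at this
    -- decompose the elements of `X`
    have hdec : ∀ y ∈ X, ∃ r ∈ R₀, ∃ n ∈ N, y = r * n := by
      intro y hy
      obtain ⟨r, hr, n, hn, hy'⟩ := Subgroup.mem_sup_of_normal_right.mp (hXPN hy)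
      refine ⟨r, ⟨hr, ?_⟩, n, hn, hy'.symm⟩
      have h := mul_mem hy (inv_mem (hNX hn))
      rwa [← hy', mul_inv_cancel_right] at h
    have hR₀1 : R₀ ≠ ⊥ := by
      intro h
      apply hR1
      rw [eq_bot_iff]
      intro z hz
      obtain ⟨y, rfl⟩ := QuotientGroup.mk_surjective z
      obtain ⟨r, hr, n, hn, rfl⟩ := hdec y hz
      rw [h, Subgroup.mem_bot] at hr
      rw [hr, one_mul, Subgroup.mem_bot, QuotientGroup.eq_one_iff]
      exact hn
    -- `R₀` is a Sylow subgroup of `X`
    have hidx : ¬ p ∣ (R₀.subgroupOf X).index := by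
      rw [← Subgroup.relIndex, hR₀, Subgroup.inf_relIndex_right]
      have hsup : X ≤ (P : Subgroup G) ⊔ N := hXPN
      intro hd
      have h2 : (P : Subgroup G).relIndex X = ((P : Subgroup G) ⊓ N).relIndex N := by
        rw [Subgroup.inf_relIndex_right]
        have hXeq : X = R₀ ⊔ N := le_antisymm (fun y hy => by
          obtain ⟨r, hr, n, hn, rfl⟩ := hdec y hy
          exact Subgroup.mul_mem_sup hr hn) (sup_le inf_le_right hNX)
        have hR₀X : R₀.relIndex X = (P : Subgroup G).relIndex X := by
          rw [hR₀, Subgroup.inf_relIndex_right]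
        rw [← hR₀X]
        have ha : R₀.relIndex X * Nat.card R₀ = Nat.card X := by
          rw [← Subgroup.relIndex_bot_left, ← Subgroup.relIndex_bot_left (H := X), mul_comm]
          exact Subgroup.relIndex_mul_relIndex ⊥ R₀ X bot_le inf_le_right
        have hb : N.relIndex X * Nat.card N = Nat.card X := by
          rw [← Subgroup.relIndex_bot_left, ← Subgroup.relIndex_bot_left (H := X), mul_comm]
          exact Subgroup.relIndex_mul_relIndex ⊥ N X bot_le hNX
        have hc' : ((P : Subgroup G) ⊓ N).relIndex R₀ * Nat.card ((P : Subgroup G) ⊓ N : Subgroup G)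
            = Nat.card R₀ := by
          rw [← Subgroup.relIndex_bot_left, ← Subgroup.relIndex_bot_left (H := R₀), mul_comm]
          exact Subgroup.relIndex_mul_relIndex ⊥ _ R₀ bot_le (inf_le_inf_left _ hNX)
        have hd' : ((P : Subgroup G) ⊓ N).relIndex N * Nat.card ((P : Subgroup G) ⊓ N : Subgroup G)
            = Nat.card N := by
          rw [← Subgroup.relIndex_bot_left, ← Subgroup.relIndex_bot_left (H := N), mul_comm]
          exact Subgroup.relIndex_mul_relIndex ⊥ _ N bot_le inf_le_right
        have he : N.relIndex X = ((P : Subgroup G) ⊓ N).relIndex R₀ := by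
          rw [hXeq, Subgroup.relIndex_sup_right, ← Subgroup.inf_relIndex_right N R₀]
          congr 1
          rw [hR₀, inf_comm N, inf_assoc, inf_eq_right.mpr hNX]
        rw [Subgroup.inf_relIndex_right] at hd'
        rw [← hb, he, ← hd', ← hc'] at ha
        have hpos : 0 < ((P : Subgroup G) ⊓ N).relIndex R₀ *
            Nat.card ((P : Subgroup G) ⊓ N : Subgroup G) := by
          rw [hc']; exact Nat.card_pos
        exact Nat.eq_of_mul_eq_mul_right hpos (by rw [ha]; ring)
      rw [h2, Subgroup.inf_relIndex_right] at hd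
      have hcard : ∀ A B : Subgroup G, A ≤ B → A.relIndex B * Nat.card A = Nat.card B := by
        intro A B hAB
        rw [← Subgroup.relIndex_bot_left, ← Subgroup.relIndex_bot_left (H := B), mul_comm]
        exact Subgroup.relIndex_mul_relIndex ⊥ A B bot_le hAB
      have e1 := hcard _ _ (inf_le_left : (P : Subgroup G) ⊓ N ≤ P)
      have e2 := hcard _ _ (inf_le_right : (P : Subgroup G) ⊓ N ≤ N)
      have e3 := hcard _ _ (le_sup_left : (P : Subgroup G) ≤ (P : Subgroup G) ⊔ N)
      have e4 := hcard _ _ (le_sup_right : N ≤ (P : Subgroup G) ⊔ N)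
      rw [Subgroup.inf_relIndex_left] at e1
      rw [Subgroup.inf_relIndex_right] at e2
      rw [Subgroup.relIndex_sup_right, ← e3, ← e2] at e4
      have e5 : (P : Subgroup G).relIndex ((P : Subgroup G) ⊔ N) = (P : Subgroup G).relIndex N := by
        refine Nat.eq_of_mul_eq_mul_right (Nat.card_pos (α := (P : Subgroup G))) ?_
        rw [← e4, ← e1]; ring
      rw [← e5] at hd
      exact P.not_dvd_index (hd.trans (Subgroup.relIndex_dvd_index_of_le le_sup_left))
    set S : Sylow p X := ((P.isPGroup'.to_le inf_le_left).comap_subtype).toSylow hidx with hS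
    have hgX : ∀ y, y ∈ X → g * y * g⁻¹ ∈ X := fun y hy => by
      have := (Subgroup.mem_normalizer_iff.mp hq _).mp hy
      simpa [hX] using this
    -- the conjugate of `R₀` is another Sylow subgroup of `X`
    have hidx2 : ¬ p ∣ ((R₀.map (MulAut.conj g).toMonoidHom).subgroupOf X).index := by
      have hmapX : X.map (MulAut.conj g).toMonoidHom = X := by
        refine Subgroup.eq_of_le_of_card_ge ?_ (Subgroup.card_map_of_injective (MulEquiv.injective _)).ge
        rintro _ ⟨y, hy, rfl⟩
        exact hgX y hy
      rw [← Subgroup.relIndex]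
      conv in Subgroup.relIndex _ _ => rw [← hmapX]
      rwa [Subgroup.relIndex_map_map_of_injective _ _ (MulEquiv.injective _), Subgroup.relIndex]
    set S₂ : Sylow p X := (((P.isPGroup'.to_le inf_le_left).map
      (MulAut.conj g).toMonoidHom).comap_subtype).toSylow hidx2 with hS₂
    obtain ⟨y, hy⟩ := MulAction.exists_smul_eq X S₂ S
    obtain ⟨r, hr, n, hn, hrn⟩ := hdec y y.2
    have hnorm : (y : G) * g ∈ Subgroup.normalizer (R₀ : Set G) := by
      have hle : R₀.map (MulAut.conj ((y : G) * g)).toMonoidHom ≤ R₀ := by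
        rintro _ ⟨z, hz, rfl⟩
        have h1 : (⟨g * z * g⁻¹, hgX z hz.2⟩ : X) ∈ (S₂ : Subgroup X) :=
          Subgroup.mem_subgroupOf.mpr ⟨z, hz, rfl⟩
        have h2 := Subgroup.smul_mem_pointwise_smul _ (MulAut.conj y) _ h1
        open scoped Pointwise in
        have h3 : MulAut.conj y • (S₂ : Subgroup X) = (S : Subgroup X) := by
          rw [← Sylow.coe_subgroup_smul]
          exact congrArg (fun T : Sylow p X => (T : Subgroup X)) hy
        rw [h3] at h2
        have h4 := Subgroup.mem_subgroupOf.mp h2
        simpa [hR₀, MulAut.smul_def, mul_assoc] using h4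
      have heq := Subgroup.eq_of_le_of_card_ge hle
        (Subgroup.card_map_of_injective (MulEquiv.injective _)).ge
      rw [Subgroup.mem_normalizer_iff]
      intro z
      refine ⟨fun hz => hle (Subgroup.mem_map_of_mem _ hz), fun hz => ?_⟩
      rw [← heq] at hz
      obtain ⟨w, hw, hwz⟩ := hz
      rwa [← (MulAut.conj ((y : G) * g)).injective hwz]
    have hC' : (y : G) * g ∈ C := hlc R₀ inf_le_left hR₀1 hnorm
    have hrC : (r : G) ∈ C := hP hr.1
    have h1 : r⁻¹ * ((y : G) * g) ∈ C := mul_mem (inv_mem hrC) hC'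
    rw [hrn] at h1
    rw [hC, Subgroup.mem_centralizer_singleton_iff] at h1
    rw [Subgroup.mem_centralizer_singleton_iff]
    have h5 := congrArg (QuotientGroup.mk' N) h1
    have h6 : QuotientGroup.mk' N n = 1 := (QuotientGroup.eq_one_iff n).mpr hn
    rw [← mul_assoc, inv_mul_cancel_left] at h5
    simpa [show ((n : G) : G ⧸ N) = 1 from h6, mul_assoc] using h5

end Cfsg.Agent.S2998
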