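import Cfsg.Statements.S3003
import Cfsg.Agent.Lib.LocalEven.Hyperplane
import Cfsg.Agent.Lib.Solvable.CoprimeAction

set_option autoImplicit false
open Cfsg

namespace Cfsg.Agent.S3003

/-- Let G be a finite group, p a prime and Q a large p-subgroup of G: C_G(Q) ≤ Q and N_G(U) ≤ N_G(Q) for every nontrivial subgroup U of C_G(Q). Let Q ≤ G₁ ≤ G, let R be a subgroup of order prime to p normalized by G₁, and let U ≤ G₁ be a p-subgroup. If U contains a nontrivial element which is G₁-conjugate to an element of Z(Q), then C_R(U) = 1. In particular, if U is elementary abelian of order at least p² and every maximal subgroup of U contains a nontrivial element G₁-conjugate into Z(Q), then R = 1. -/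
theorem result {G : Type*} [Group G] [Finite G] {p : ℕ} [Fact p.Prime] (Q : Subgroup G) (hQp : IsPGroup p ↥Q) (hlarge : Cfsg.IsLarge Q) (G₁ : Subgroup G) (hQG : Q ≤ G₁) (R : Subgroup G) (hR : (Nat.card ↥R).Coprime p) (hGR : G₁ ≤ Subgroup.normalizer (R : Set G)) (U : Subgroup G) (hUG : U ≤ G₁) (hUp : IsPGroup p ↥U) : ((∃ x ∈ U, x ≠ 1 ∧ ∃ g ∈ G₁, g * x * g⁻¹ ∈ Q ⊓ Subgroup.centralizer (Q : Set G)) → R ⊓ Subgroup.centralizer (U : Set G) = ⊥) ∧ (Cfsg.IsElementaryAbelian p U → p ^ 2 ≤ Nat.card ↥U → (∀ U₀ : Subgroup G, U₀ ≤ U → IsCoatom (U₀.subgroupOf U) → ∃ x ∈ U₀, x ≠ 1 ∧ ∃ g ∈ G₁, g * x * g⁻¹ ∈ Q ⊓ Subgroup.centralizer (Q : Set G)) → R = ⊥) := by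
  have key : ∀ W : Subgroup G, W ≤ G₁ →
      (∃ x ∈ W, x ≠ 1 ∧ ∃ g ∈ G₁, g * x * g⁻¹ ∈ Q ⊓ Subgroup.centralizer (Q : Set G)) →
      R ⊓ Subgroup.centralizer (W : Set G) = ⊥ := by
    rintro W - ⟨x, hxW, hx1, g, hg, hz⟩
    rw [eq_bot_iff]
    rintro r ⟨hrR, hrW⟩
    set z := g * x * g⁻¹ with hzdef
    set s := g * r * g⁻¹ with hs
    have hsR : s ∈ R := (Subgroup.mem_normalizer_iff.mp (hGR hg) r).mp hrR
    have hsz : Commute s z := by
      have h : Commute x r := Subgroup.mem_centralizer_iff.mp hrW x hxW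
      exact h.symm.map (MulAut.conj g).toMonoidHom
    have hz1 : z ≠ 1 := by simpa [hzdef, conj_eq_one_iff] using hx1
    have hsN : s ∈ Subgroup.normalizer (Q : Set G) := by
      refine hlarge.2 (Subgroup.zpowers z) (Subgroup.zpowers_le.mpr hz.2)
        (by simpa [Subgroup.zpowers_eq_bot] using hz1) ?_
      refine Subgroup.centralizer_le_normalizer _ (Subgroup.mem_centralizer_iff.mpr ?_)
      intro y hy
      obtain ⟨j, rfl⟩ := Subgroup.mem_zpowers_iff.mp hy
      exact (hsz.zpow_right j).eq.symm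
    have hdisj : Disjoint R Q := by
      obtain ⟨k, hk⟩ := hQp.exists_card_eq
      exact Subgroup.disjoint_of_coprime_natCard (hk ▸ hR.pow_right k)
    have hsC : s ∈ Subgroup.centralizer (Q : Set G) := by
      rw [Subgroup.mem_centralizer_iff]
      intro q hq
      have h1 : s * q * s⁻¹ * q⁻¹ ∈ Q :=
        mul_mem ((Subgroup.mem_normalizer_iff.mp hsN q).mp hq) (inv_mem hq)
      have h2 : s * q * s⁻¹ * q⁻¹ ∈ R := by
        have := mul_mem hsR
          ((Subgroup.mem_normalizer_iff.mp (hGR (hQG hq)) s⁻¹).mp (inv_mem hsR))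
        simpa [mul_assoc] using this
      have h3 := Subgroup.disjoint_def.mp hdisj h2 h1
      rw [mul_inv_eq_one, mul_inv_eq_iff_eq_mul] at h3
      exact h3.symm
    have hs1 := Subgroup.disjoint_def.mp hdisj hsR (hlarge.1 hsC)
    rw [hs, conj_eq_one_iff] at hs1
    exact Subgroup.mem_bot.mpr hs1
  refine ⟨key U hUG, fun hU hcard hmax => ?_⟩
  by_contra hR0
  -- reduce to a `q`-group
  obtain ⟨r, hr, hrdvd⟩ := Nat.exists_prime_and_dvd
    (fun h => hR0 (Subgroup.card_eq_one.mp h) : Nat.card R ≠ 1)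
  have : Fact r.Prime := ⟨hr⟩
  have hUR : U ≤ Subgroup.normalizer (R : Set G) := hUG.trans hGR
  obtain ⟨k, hk⟩ := hUp.exists_card_eq
  have hsolv : Group.IsSolvable U ∨ Group.IsSolvable R := by
    left
    have := hUp.isNilpotent
    exact inferInstance
  obtain ⟨S, hS⟩ := CfsgLib.Solvable.exists_invariant_sylow hUR
    (hk ▸ (hR.pow_right k).symm) hsolv r
  set S' := (S : Subgroup R).map R.subtype with hS'
  have hS'R : S' ≤ R := Subgroup.map_subtype_le _
  have hS'1 : S' ≠ ⊥ := by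
    rw [hS', Ne, Subgroup.map_eq_bot_iff_of_injective _ R.subtype_injective]
    exact S.ne_bot_of_dvd_card hrdvd
  -- an abelian invariant subgroup
  set Z := (Subgroup.center S').map S'.subtype with hZ
  have hZ1 : Z ≠ ⊥ := by
    have : Nontrivial S' := (Subgroup.nontrivial_iff_ne_bot S').mpr hS'1
    rw [hZ, Ne, Subgroup.map_eq_bot_iff_of_injective _ S'.subtype_injective]
    exact (Subgroup.nontrivial_iff_ne_bot _).mp (S.isPGroup'.map R.subtype).center_nontrivial
  have hUZ : U ≤ Subgroup.normalizer (Z : Set G) :=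
    fun g hg => by
      have hZ' : Z = S' ⊓ Subgroup.centralizer (S' : Set G) := by
        refine le_antisymm ?_ fun y hy => ?_
        · rintro _ ⟨y, hy, rfl⟩
          exact Subgroup.mem_inf.mpr ⟨y.2, Subgroup.mem_centralizer_iff.mpr fun w hw =>
            congrArg Subtype.val (Subgroup.mem_center_iff.mp hy ⟨w, hw⟩)⟩
        · exact ⟨⟨y, hy.1⟩, Subgroup.mem_center_iff.mpr fun w =>
            Subtype.ext (Subgroup.mem_centralizer_iff.mp hy.2 w w.2), rfl⟩
      have hn := hS hg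
      have hconj : ∀ s ∈ Subgroup.normalizer (S' : Set G), ∀ z ∈ Z, s * z * s⁻¹ ∈ Z := by
        intro s hs z hz
        rw [hZ'] at hz ⊢
        refine Subgroup.mem_inf.mpr ⟨(Subgroup.mem_normalizer_iff.mp hs z).mp hz.1,
          Subgroup.mem_centralizer_iff.mpr fun w hw => ?_⟩
        have h1 : s⁻¹ * w * s ∈ S' := by
          simpa using (Subgroup.mem_normalizer_iff.mp (inv_mem hs) w).mp hw
        calc w * (s * z * s⁻¹) = s * ((s⁻¹ * w * s) * z) * s⁻¹ := by group
          _ = s * (z * (s⁻¹ * w * s)) * s⁻¹ := by rw [Subgroup.mem_centralizer_iff.mp hz.2 _ h1]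
          _ = s * z * s⁻¹ * w := by group
      refine Subgroup.mem_normalizer_iff.mpr fun z => ⟨hconj g hn z, fun h => ?_⟩
      simpa [mul_assoc] using hconj g⁻¹ (inv_mem hn) _ h
  have hZR : Z ≤ R := (Subgroup.map_subtype_le _).trans hS'R
  have hZc : ∀ a ∈ Z, ∀ b ∈ Z, a * b = b * a := by
    rintro _ ⟨a, ha, rfl⟩ _ ⟨b, hb, rfl⟩
    exact (congrArg Subtype.val (Subgroup.mem_center_iff.mp ha b)).symm
  obtain ⟨U₀, hU₀, hU₀max, a, ha, ha1, haC⟩ :=
    CfsgLib.LocalEven.exists_hyperplane_fixed hU hcard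
      (hR.coprime_dvd_left (Subgroup.card_dvd_of_le hZR)) hUZ hZ1 hZc
  exact ha1 (Subgroup.mem_bot.mp (key U₀ (hU₀.trans hUG) (hmax U₀ hU₀ hU₀max) ▸ ⟨hZR ha, haC⟩))

end Cfsg.Agent.S3003
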