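import Cfsg.Statements.S3008
import Cfsg.Agent.Lib.LocalEven.CDAbelian
import Cfsg.Agent.Lib.LocalEven.CDReplacement

set_option autoImplicit false
open Cfsg CfsgLib.LocalEven CfsgLib.LocEven

namespace Cfsg.Agent.S3008

/-- Let P be a finite p-group, with J(P) generated by its abelian subgroups of largest order and J̃(P) = C_P(Z(J(P))); call R ≤ P centrally large if |R|·|Z(R)| is as large as possible, and let P_MCL be generated by the minimal centrally large subgroups. Then: for every centrally large Q, Q·J(P) ⊇ J̃(P); some minimal centrally large subgroup of P is normalized by both J(P) and P_MCL; if P = J(P) and d(P)² = |P|·|Z(P)|, where d(P) is the largest order of an abelian subgroup, then every minimal centrally large subgroup of P is abelian; and if every minimal centrally large subgroup is abelian then J̃(P) = J(P). -/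
theorem result {p : ℕ} [Fact p.Prime] (P : Type*) [Group P] [Finite P] (hP : IsPGroup p P) : (∀ Q : Subgroup P, Cfsg.IsCentrallyLarge Q → Subgroup.centralizer ((Cfsg.thompsonSubgroupA P ⊓ Subgroup.centralizer (Cfsg.thompsonSubgroupA P : Set P) : Subgroup P) : Set P) ≤ Q ⊔ Cfsg.thompsonSubgroupA P) ∧ (∃ Q : Subgroup P, Cfsg.IsMinimalCentrallyLarge Q ∧ Cfsg.thompsonSubgroupA P ≤ Subgroup.normalizer (Q : Set P) ∧ Cfsg.minimalCentrallyLargeJoin P ≤ Subgroup.normalizer (Q : Set P)) ∧ (Cfsg.thompsonSubgroupA P = ⊤ → (∀ A ∈ Cfsg.maxAbelianSubgroups P, Nat.card ↥A ^ 2 = Nat.card P * Nat.card ↥(Subgroup.center P)) → ∀ Q : Subgroup P, Cfsg.IsMinimalCentrallyLarge Q → IsMulCommutative ↥Q) ∧ ((∀ Q : Subgroup P, Cfsg.IsMinimalCentrallyLarge Q → IsMulCommutative ↥Q) → Subgroup.centralizer ((Cfsg.thompsonSubgroupA P ⊓ Subgroup.centralizer (Cfsg.thompsonSubgroupA P : Set P) : Subgroup P) : Set P) = Cfsg.thompsonSubgroupA P) := by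
  refine ⟨fun Q hQ => centralizer_center_thompson_le (cl_sup_thompson hQ) le_sup_right, ?_, ?_, ?_⟩
  · have : Group.IsNilpotent P := hP.isNilpotent
    obtain ⟨Q₀, hQ₀⟩ := exists_minimal_cl (P := P)
    obtain ⟨Q, hQ, hmax⟩ := Set.exists_max_image {Q : Subgroup P | Cfsg.IsMinimalCentrallyLarge Q}
      (fun Q => flagKey (Group.nilpotencyClass P) (Subgroup.centralizer (Q : Set P)))
      (Set.toFinite _) ⟨Q₀, hQ₀⟩
    obtain ⟨hQl, -⟩ := centrallyLarge_iff.mp hQ.1
    have hN : ∀ g ∈ Subgroup.normalizer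
        ((Subgroup.centralizer (Q : Set P) : Subgroup P) : Set P),
        g ∈ Subgroup.normalizer (Q : Set P) := fun g hg => by
      have h := mem_normalizer_centralizer hg
      rwa [large_double_centralizer hQl] at h
    refine ⟨Q, hQ, sSup_le fun A hA g hg => hN g ?_, sSup_le fun R hR => ?_⟩
    · exact le_normalizer_centralizer_of_maximal hQ hmax (le_centralizer_self hA.1)
        (cl_maxAbelian hQ.1 hA).2.1 (cl_maxAbelian hQ.1 hA).2.2.2 hg
    · obtain ⟨hRl, hRc⟩ := centrallyLarge_iff.mp hR.1
      have hC := le_normalizer_centralizer_of_maximal hQ hmax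
        (B := Subgroup.centralizer (R : Set P)) (hRc.trans (le_double_centralizer R))
        (large_sup_coe hQl (large_centralizer hRl))
        (large_sup_coe (large_centralizer hQl) (large_centralizer hRl))
      calc R = (R ⊓ Q) ⊔ Subgroup.centralizer (R : Set P) := (mcl_eq_inf_sup hR hQ).symm
        _ ≤ _ := sup_le (inf_le_right.trans Subgroup.le_normalizer) fun g hg => hN g (hC hg)
  · intro hJ hA Q hQ
    obtain ⟨A, hAm⟩ := exists_maxAbelian (G := P)
    have htop : Cfsg.IsCentrallyLarge (⊤ : Subgroup P) := by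
      have h := cl_sup_thompson hQ.1
      rwa [hJ, sup_top_eq] at h
    have hC : Subgroup.centralizer ((⊤ : Subgroup P) : Set P) = Subgroup.center P := by
      rw [Subgroup.coe_top, Subgroup.centralizer_univ]
    have hM : Nat.card (⊤ : Subgroup P) * Nat.card ↥(Subgroup.centralizer ((⊤ : Subgroup P) : Set P))
        = Cfsg.maxCentralizerProduct P := (centrallyLarge_iff.mp htop).1
    rw [hC, Subgroup.card_top, ← hA A hAm, sq] at hM
    have hCA := centralizer_eq_of_mem_maxAbelian hAm
    have hAcl : Cfsg.IsCentrallyLarge A := by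
      refine centrallyLarge_iff.mpr ⟨?_, hCA.le⟩
      show _ = Cfsg.maxCentralizerProduct P
      rw [hCA, hM]
    obtain ⟨R, hRA, hR⟩ := exists_minimal_cl_le hAcl
    refine comm_of_le_centralizer (Subgroup.commutator_eq_bot_iff_le_centralizer.mp
      ((mcl_commutator_eq hQ hR).trans ?_))
    exact Subgroup.commutator_eq_bot_iff_le_centralizer.mpr
      (hRA.trans (hCA.ge.trans (Subgroup.centralizer_le hRA)))
  · intro hab
    obtain ⟨Q, hQ⟩ := exists_minimal_cl (P := P)
    have heq : {R : Subgroup P | Cfsg.IsMinimalCentrallyLarge R} = Cfsg.maxAbelianSubgroups P :=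
      Set.ext (mcl_iff_maxAbelian hQ (hab Q hQ))
    have hJ : Cfsg.IsCentrallyLarge (Cfsg.thompsonSubgroupA P) := by
      have h : Cfsg.IsCentrallyLarge (sSup {R : Subgroup P | Cfsg.IsMinimalCentrallyLarge R}) :=
        cl_sSup ⟨Q, hQ⟩ fun R hR => hR.1
      rwa [heq] at h
    obtain ⟨hl, hc⟩ := centrallyLarge_iff.mp hJ
    rw [inf_eq_right.mpr hc]
    exact large_double_centralizer hl

end Cfsg.Agent.S3008
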