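import Cfsg.Statements.S3009
import Cfsg.Agent.Lib.LocalEven.SL2Natural
import Mathlib.FieldTheory.Finite.Basic

set_option autoImplicit false
open Cfsg
open scoped commutatorElement

namespace Cfsg.Agent.S3009

/-- Let p be a prime and let G and V be subgroups of a finite group with V elementary abelian and normalized by G, and G isomorphic to SL₂(F) for a finite field F with pⁿ elements. Suppose G acts irreducibly and nontrivially on V by conjugation (no G-invariant subgroups of V other than 1 and V, and [V, G] ≠ 1), and let S be a Sylow p-subgroup of G and V₀ = C_V(S). If [V, S, S] = 1 or |V| ≤ |V₀|², then G acts on V as SL₂(F) on its natural two-dimensional module; in particular |V| = |F|². -/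
theorem result {X : Type*} [Group X] [Finite X] {p : ℕ} [Fact p.Prime] (G V : Subgroup X) (hV : Cfsg.IsElementaryAbelian p V) (hGV : G ≤ Subgroup.normalizer (V : Set X)) (F : Type) [Field F] [Fintype F] (n : ℕ) (hF : Fintype.card F = p ^ n) (hG : Nonempty (↥G ≃* Matrix.SpecialLinearGroup (Fin 2) F)) (hirr : ∀ U : Subgroup X, U ≤ V → G ≤ Subgroup.normalizer (U : Set X) → U = ⊥ ∨ U = V) (hnt : ⁅V, G⁆ ≠ ⊥) (S : Sylow p ↥G) (hyp : ⁅⁅V, (S : Subgroup ↥G).map G.subtype⁆, (S : Subgroup ↥G).map G.subtype⁆ = ⊥ ∨ Nat.card ↥V ≤ Nat.card ↥(V ⊓ Subgroup.centralizer (((S : Subgroup ↥G).map G.subtype : Subgroup X) : Set X)) ^ 2) : Cfsg.ActsAsSL2OnSection F ⊤ G V ⊥ := by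
  obtain ⟨e₀⟩ := hG
  have hp : p.Prime := Fact.out
  -- characteristic
  obtain ⟨r, hr⟩ := CharP.exists F
  have hrp : r.Prime := (CharP.char_is_prime_or_zero F r).resolve_right (CharP.char_ne_zero_of_finite F r)
  have : Fact r.Prime := ⟨hrp⟩
  obtain ⟨m, -, hm⟩ := FiniteField.card F r
  have hrdvd : r ∣ p ^ n := by
    rw [← hF, hm]; exact dvd_pow_self r (PNat.ne_zero m)
  obtain rfl : r = p := (Nat.prime_dvd_prime_iff_eq hrp hp).mp (hrp.dvd_of_dvd_pow hrdvd)
  -- move the upper root group into `S`
  have hU0 : IsPGroup r ↥((CfsgLib.RootSub.slUHom (k := F)).range.map e₀.symm.toMonoidHom) := by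
    refine IsPGroup.map ?_ _
    rintro ⟨x, t, rfl⟩
    refine ⟨1, Subtype.ext ?_⟩
    show CfsgLib.RootSub.slUHom t ^ r ^ 1 = 1
    rw [← map_pow, show t ^ r ^ 1 = 1 by
      apply Multiplicative.toAdd.injective
      rw [pow_one, toAdd_pow, toAdd_one, nsmul_eq_mul, CharP.cast_eq_zero, zero_mul], map_one]
  obtain ⟨Q, hQ⟩ := hU0.exists_le_sylow
  obtain ⟨g, hg⟩ := MulAction.exists_smul_eq G Q S
  set e : G ≃* Matrix.SpecialLinearGroup (Fin 2) F := (MulAut.conj g⁻¹).trans e₀ with he
  have hS : ∀ t : F, e.symm (CfsgLib.RootSub.slU t) ∈ (S : Subgroup G) := by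
    intro t
    have h1 : e₀.symm (CfsgLib.RootSub.slU t) ∈ (Q : Subgroup G) :=
      hQ ⟨_, ⟨Multiplicative.ofAdd t, rfl⟩, rfl⟩
    have e1 : e.symm (CfsgLib.RootSub.slU t) = g * e₀.symm (CfsgLib.RootSub.slU t) * g⁻¹ := by
      rw [MulEquiv.symm_apply_eq, he]
      simp [mul_assoc]
    rw [e1, ← hg]
    exact Subgroup.smul_mem_pointwise_smul _ (MulAut.conj g) _ h1
  -- the additive group
  let _ : CommGroup V := { (inferInstance : Group V) with mul_comm := fun a b => hV.1.is_comm.comm a b }
  have hmem : ∀ (c : G) (v : V), (c : X) * v * (c : X)⁻¹ ∈ V := fun c v =>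
    (Subgroup.mem_normalizer_iff.mp (hGV c.2) _).mp v.2
  let ρ₀ : Matrix.SpecialLinearGroup (Fin 2) F → AddMonoid.End (Additive V) := fun x =>
    AddMonoidHom.mk' (fun v => Additive.ofMul ⟨_, hmem (e.symm x) v.toMul⟩) fun v w => by
      apply Additive.toMul.injective
      apply Subtype.ext
      simp [mul_assoc]
  let ρ : Matrix.SpecialLinearGroup (Fin 2) F →* AddMonoid.End (Additive V) :=
    { toFun := ρ₀
      map_one' := by
        refine AddMonoidHom.ext fun v => ?_
        apply Additive.toMul.injective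
        apply Subtype.ext
        show (e.symm 1 : X) * v.toMul * (e.symm 1 : X)⁻¹ = v.toMul
        simp
      map_mul' := fun x y => by
        refine AddMonoidHom.ext fun v => ?_
        apply Additive.toMul.injective
        apply Subtype.ext
        show (e.symm (x * y) : X) * v.toMul * (e.symm (x * y) : X)⁻¹ =
          (e.symm x : X) * ((e.symm y : X) * v.toMul * (e.symm y : X)⁻¹) * (e.symm x : X)⁻¹
        simp [mul_assoc] }
  have hρ : ∀ (x : Matrix.SpecialLinearGroup (Fin 2) F) (v : Additive V),
      (((ρ x v).toMul : V) : X) = (e.symm x : X) * v.toMul * (e.symm x : X)⁻¹ := fun x v => rfl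
  obtain ⟨ψ, hψ⟩ := CfsgLib.LocalEven.SL2Natural.exists_natural ρ (p := r)
    (fun a => by
      apply Additive.toMul.injective
      rw [toMul_nsmul, toMul_zero]
      exact Subtype.ext (by simpa using hV.2 (a.toMul : X) a.toMul.2))
    (fun W hW => by
      rcases hirr ((AddSubgroup.toSubgroup' W).map V.subtype) (Subgroup.map_subtype_le _) (fun c hc =>
        Subgroup.mem_normalizer_iff.mpr fun x => by
          have key : ∀ c : G, ∀ x ∈ (AddSubgroup.toSubgroup' W).map V.subtype,
              (c : X) * x * (c : X)⁻¹ ∈ (AddSubgroup.toSubgroup' W).map V.subtype := by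
            rintro c _ ⟨y, hy, rfl⟩
            refine ⟨_, hW (e c) (Additive.ofMul y) hy, ?_⟩
            show (((ρ (e c) (Additive.ofMul y)).toMul : V) : X) = _
            rw [hρ, e.symm_apply_apply]
            rfl
          refine ⟨fun hx => key ⟨c, hc⟩ x hx, fun hx => ?_⟩
          simpa [mul_assoc] using key ⟨c, hc⟩⁻¹ _ hx) with h | h
      · left
        rw [Subgroup.map_eq_bot_iff_of_injective _ V.subtype_injective] at h
        exact AddSubgroup.toSubgroup'.injective (h.trans AddSubgroup.toSubgroup'.map_bot.symm)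
      · right
        rw [eq_top_iff]
        intro v _
        obtain ⟨y, hy, hyv⟩ : ((v.toMul : V) : X) ∈ (AddSubgroup.toSubgroup' W).map V.subtype :=
          h.symm ▸ v.toMul.2
        obtain rfl : y = v.toMul := Subtype.ext hyv
        exact hy)
    (by
      by_contra hcon
      push Not at hcon
      refine hnt (le_bot_iff.mp (Subgroup.commutator_le.mpr fun v hv c hc => ?_))
      have h := congrArg (fun z => ((z.toMul : V) : X)) (hcon (e ⟨c, hc⟩) (Additive.ofMul ⟨v, hv⟩))
      simp only [hρ, e.symm_apply_apply, toMul_ofMul] at h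
      rw [Subgroup.mem_bot, commutatorElement_eq_one_iff_mul_comm]
      exact (mul_inv_eq_iff_eq_mul.mp h).symm)
    (by
      rcases hyp with h | h
      · left
        intro s t v
        have hs : (e.symm (CfsgLib.RootSub.slU s) : X) ∈ (S : Subgroup G).map G.subtype :=
          ⟨_, hS s, rfl⟩
        have ht : (e.symm (CfsgLib.RootSub.slU t) : X) ∈ (S : Subgroup G).map G.subtype :=
          ⟨_, hS t, rfl⟩
        apply Additive.toMul.injective
        apply Subtype.ext
        rw [hρ]
        set x := (e.symm (CfsgLib.RootSub.slU t) : X)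
        set y := (e.symm (CfsgLib.RootSub.slU s) : X)
        have e1 : ((((ρ (CfsgLib.RootSub.slU t) v - v : Additive V)).toMul : V) : X) =
            ⁅(v.toMul : X), x⁆⁻¹ := by
          rw [toMul_sub, Subgroup.coe_div, hρ, div_eq_mul_inv, commutatorElement_inv,
            commutatorElement_def]
        rw [e1]
        have h2 : ⁅⁅(v.toMul : X), x⁆, y⁆ = 1 := Subgroup.mem_bot.mp
          (h ▸ Subgroup.commutator_mem_commutator
            (Subgroup.commutator_mem_commutator v.toMul.2 ht) hs)
        rw [commutatorElement_eq_one_iff_mul_comm] at h2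
        rw [mul_inv_eq_iff_eq_mul]
        exact ((show Commute ⁅(v.toMul : X), x⁆ y from h2).inv_left.symm).eq
      · right
        rw [show Nat.card (Additive V) = Nat.card V from rfl]
        refine h.trans (Nat.pow_le_pow_left (Nat.card_le_card_of_injective
          (fun u => (⟨Additive.ofMul ⟨u.1, u.2.1⟩, fun t => ?_⟩ :
            CfsgLib.LocalEven.SL2Natural.fixU ρ)) (fun u u' huu => ?_)) 2)
        · apply Additive.toMul.injective
          apply Subtype.ext
          rw [hρ]
          exact mul_inv_eq_iff_eq_mul.mpr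
            (Subgroup.mem_centralizer_iff.mp u.2.2 _ ⟨_, hS t, rfl⟩)
        · exact Subtype.ext (congrArg (fun z => ((Additive.toMul z.1 : V) : X)) huu :))
  refine ⟨hGV, bot_le, e.toMonoidHom, MonoidHom.mk' (fun u => Multiplicative.ofAdd (ψ (Additive.ofMul u)))
    (fun u w => by rw [ofMul_mul, map_add, ofAdd_add]), MonoidHom.range_eq_top.mpr e.surjective, ?_,
    fun u => ?_, fun c u => ?_⟩
  · intro c
    refine ⟨(ψ.symm c.toAdd).toMul, ?_⟩
    simp
  · rw [Subgroup.mem_bot]
    simp
  · refine ⟨⟨_, hmem c u⟩, rfl, ?_⟩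
    show ψ _ = _
    rw [MonoidHom.mk'_apply, toAdd_ofAdd]
    have h := hψ (e c) (Additive.ofMul u)
    rw [show Additive.ofMul (⟨_, hmem c u⟩ : V) = ρ (e c) (Additive.ofMul u) from
      Additive.toMul.injective (Subtype.ext (by rw [hρ, e.symm_apply_apply]; rfl))]
    exact h

end Cfsg.Agent.S3009
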