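import Cfsg.Statements.S3011
import Cfsg.Agent.Lib.Invol.BaerSuzuki
import Cfsg.Agent.Lib.LocalEven.Cores

set_option autoImplicit false
open Cfsg

namespace Cfsg.Agent.S3011

/-- Let G be a finite group and V a nontrivial elementary abelian 2-subgroup of G of order at most 4 such that, whenever an element of V inverts an element h of G of odd order, some nontrivial element of V commutes with h. Then V meets O₂(G) nontrivially. (The case of order at most 4 has a short argument from the Baer–Suzuki theorem.) -/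
theorem result {G : Type*} [Group G] [Finite G] (V : Subgroup G) (hV : Cfsg.IsElementaryAbelian 2 V) (hV1 : V ≠ ⊥) (hS : Cfsg.IsSidkiPair V) (h4 : Nat.card V ≤ 4) : V ⊓ Cfsg.pCore 2 G ≠ ⊥ := by
  have hsq : ∀ v ∈ V, v * v = 1 := fun v hv => by rw [← pow_two]; exact hV.2 v hv
  have hcomm : ∀ v ∈ V, ∀ w ∈ V, v * w = w * v := fun v hv w hw => by
    simpa using congrArg Subtype.val (hV.1.is_comm.comm (⟨v, hv⟩ : V) ⟨w, hw⟩)
  have hinvol : ∀ v ∈ V, v⁻¹ = v := fun v hv => inv_eq_of_mul_eq_one_right (hsq v hv)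
  -- only the identity of odd order is inverted and centralized
  have hone : ∀ v h : G, Odd (orderOf h) → v * h * v⁻¹ = h⁻¹ → v * h = h * v → h = 1 := by
    intro v h ho hi hc
    rw [hc, mul_inv_cancel_right] at hi
    have h2 : orderOf h ∣ 2 :=
      orderOf_dvd_of_pow_eq_one (by rw [pow_two]; nth_rewrite 2 [hi]; exact mul_inv_cancel h)
    rcases (Nat.dvd_prime Nat.prime_two).mp h2 with h1 | h1
    · exact orderOf_eq_one_iff.mp h1
    · rw [h1] at ho; exact absurd ho (by decide)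
  have hthird : ∀ a ∈ V, ∀ b ∈ V, ∀ h : G, a * h * a⁻¹ = h⁻¹ → b * h = h * b →
      (a * b) * h * (a * b)⁻¹ = h⁻¹ := by
    intro a _ b _ h hi hc
    calc a * b * h * (a * b)⁻¹ = a * (b * h * b⁻¹) * a⁻¹ := by group
      _ = h⁻¹ := by rw [hc, mul_inv_cancel_right, hi]
  have htri : ∀ x ∈ V, ∀ y ∈ V, x ≠ 1 → y ≠ 1 → x ≠ y → ∀ w ∈ V, w ≠ 1 →
      w = x ∨ w = y ∨ w = x * y := by
    intro x hx y hy hx1 hy1 hxy w hw hw1
    have hne1 : x * y ≠ 1 := fun h => hxy (by rw [← hinvol x hx, inv_eq_of_mul_eq_one_right h])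
    have hne2 : x * y ≠ x := fun h => hy1 (mul_eq_left.mp h)
    have hne3 : x * y ≠ y := fun h => hx1 (mul_eq_right.mp h)
    have hs : ({1, x, y, x * y} : Set G) = (V : Set G) := by
      refine Set.eq_of_subset_of_ncard_le ?_ ?_ (Set.toFinite _)
      · intro z hz
        simp only [Set.mem_insert_iff, Set.mem_singleton_iff] at hz
        rcases hz with rfl | rfl | rfl | rfl
        · exact V.one_mem
        · exact hx
        · exact hy
        · exact mul_mem hx hy
      · rw [Set.ncard_insert_of_notMem (by simp [Ne.symm hx1, Ne.symm hy1, Ne.symm hne1]),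
          Set.ncard_insert_of_notMem (by simp [hxy, Ne.symm hne2]), Set.ncard_pair (Ne.symm hne3)]
        rw [← Nat.card_coe_set_eq]
        exact h4
    have hw' : w ∈ ({1, x, y, x * y} : Set G) := by rw [hs]; exact hw
    simp only [Set.mem_insert_iff, Set.mem_singleton_iff] at hw'
    tauto
  -- elements centralized by different involutions commute
  have hfact1 : ∀ a ∈ V, ∀ b ∈ V, a ≠ 1 → b ≠ 1 → a ≠ b → ∀ h k : G,
      Odd (orderOf h) → a * h * a⁻¹ = h⁻¹ → b * h = h * b →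
      Odd (orderOf k) → b * k * b⁻¹ = k⁻¹ → a * k = k * a → h * k = k * h := by
    intro a ha b hb ha1 hb1 hab h k hho hai hbc hko hbi hac
    have hhk : orderOf (k * h * k⁻¹) = orderOf h :=
      orderOf_injective (MulAut.conj k).toMonoidHom (MulAut.conj k).injective h
    have hai' : a * (k * h * k⁻¹) * a⁻¹ = (k * h * k⁻¹)⁻¹ := by
      calc a * (k * h * k⁻¹) * a⁻¹ = (a * k * a⁻¹) * (a * h * a⁻¹) * (a * k * a⁻¹)⁻¹ := by group
        _ = (k * h * k⁻¹)⁻¹ := by rw [hai, hac, mul_inv_cancel_right]; group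
    have hodd2 : ∀ w : G, w * k ^ 2 = k ^ 2 * w → w * k = k * w := by
      intro w hw
      obtain ⟨m, hm⟩ := hko
      have hk' : k = (k ^ 2) ^ (m + 1) := by
        rw [← pow_mul, show 2 * (m + 1) = orderOf k + 1 by omega, pow_succ, pow_orderOf_eq_one,
          one_mul]
      rw [hk']
      exact (Commute.pow_right hw _)
    have hkb : k⁻¹ * b * k = b * k ^ 2 := by
      have e : k⁻¹ = b * k * b⁻¹ := hbi.symm
      rw [e, inv_mul_cancel_right, pow_two, mul_assoc]
    obtain ⟨w, hw, hw1, hwc⟩ := hS (k * h * k⁻¹) a ha (hhk ▸ hho) hai'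
    have hwc' : Commute (k⁻¹ * w * k) h := by
      have := congrArg (fun z => k⁻¹ * z * k) hwc
      show k⁻¹ * w * k * h = h * (k⁻¹ * w * k)
      calc k⁻¹ * w * k * h = k⁻¹ * (w * (k * h * k⁻¹)) * k := by group
        _ = k⁻¹ * (k * h * k⁻¹ * w) * k := this
        _ = h * (k⁻¹ * w * k) := by group
    rcases htri a ha b hb ha1 hb1 hab w hw hw1 with e | e | e <;> rw [e] at hwc hwc'
    · have h1 := hone _ _ (hhk ▸ hho) hai' hwc
      have : h = 1 := by
        calc h = k⁻¹ * (k * h * k⁻¹) * k := by group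
          _ = 1 := by rw [h1]; group
      rw [this, one_mul, mul_one]
    · rw [hkb] at hwc'
      have hk2 : Commute (k ^ 2) h := by
        have h1 := (Commute.inv_left (show Commute b h from hbc)).mul_left hwc'
        rwa [inv_mul_cancel_left] at h1
      exact (hodd2 h hk2.symm.eq)
    · have hkc : k⁻¹ * (a * b) * k = a * (b * k ^ 2) := by
        rw [← hkb]
        calc k⁻¹ * (a * b) * k = k⁻¹ * (a * k) * (k⁻¹ * b * k) := by group
          _ = a * (k⁻¹ * b * k) := by rw [hac]; group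
      rw [hkc] at hwc'
      -- `k ^ 2` inverts `h`
      have hk2 : k ^ 2 * h * (k ^ 2)⁻¹ = h⁻¹ := by
        calc k ^ 2 * h * (k ^ 2)⁻¹
            = (a * b)⁻¹ * ((a * (b * k ^ 2)) * h * (a * (b * k ^ 2))⁻¹) * (a * b) := by group
          _ = (a * b)⁻¹ * h * (a * b) := by rw [hwc'.eq, mul_inv_cancel_right]
          _ = h⁻¹ := by
              have h3 := hthird a ha b hb h hai hbc
              rw [hinvol _ (mul_mem ha hb)] at h3 ⊢
              exact h3
      have hk4 : Commute (k ^ 2 * k ^ 2) h := by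
        show k ^ 2 * k ^ 2 * h = h * (k ^ 2 * k ^ 2)
        rw [← mul_inv_eq_iff_eq_mul]
        calc k ^ 2 * k ^ 2 * h * (k ^ 2 * k ^ 2)⁻¹ = k ^ 2 * (k ^ 2 * h * (k ^ 2)⁻¹) * (k ^ 2)⁻¹ := by group
          _ = (k ^ 2 * h * (k ^ 2)⁻¹)⁻¹ := by nth_rewrite 1 [hk2]; group
          _ = h := by rw [hk2, inv_inv]
      have hc : Commute (k ^ 2) h := by
        obtain ⟨m, hm⟩ := hko
        have hk' : k ^ 2 = (k ^ 2 * k ^ 2) ^ (m + 1) := by
          rw [← pow_add, ← pow_mul, show (2 + 2) * (m + 1) = orderOf k * 2 + 2 by omega, pow_add,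
            pow_mul, pow_orderOf_eq_one, one_pow, one_mul]
        rw [hk']
        exact hk4.pow_left _
      exact hodd2 h hc.symm.eq
  have hfact2 : ∀ a ∈ V, ∀ b ∈ V, a ≠ 1 → b ≠ 1 → a ≠ b → ∀ h h' : G,
      Odd (orderOf h) → a * h * a⁻¹ = h⁻¹ → b * h = h * b →
      Odd (orderOf h') → a * h' * a⁻¹ = h'⁻¹ → (a * b) * h' = h' * (a * b) → h = 1 ∨ h' = 1 := by
    intro a ha b hb ha1 hb1 hab h h' hho hai hbc hho' hai' hcc'
    have hc1 : a * b ≠ 1 := fun e => hab (by rw [← hinvol a ha, inv_eq_of_mul_eq_one_right e])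
    have hcb : a * b ≠ b := fun e => ha1 (mul_eq_right.mp e)
    have hbi' : b * h' * b⁻¹ = h'⁻¹ := by
      have h3 := hthird a ha (a * b) (mul_mem ha hb) h' hai' hcc'
      rwa [← mul_assoc, hsq a ha, one_mul] at h3
    have hcm : Commute h h' := hfact1 (a * b) (mul_mem ha hb) b hb hc1 hb1 hcb h h' hho
      (hthird a ha b hb h hai hbc) hbc hho' hbi' hcc'
    have hinv : a * (h * h') * a⁻¹ = (h * h')⁻¹ := by
      calc a * (h * h') * a⁻¹ = (a * h * a⁻¹) * (a * h' * a⁻¹) := by group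
        _ = (h' * h)⁻¹ := by rw [hai, hai', mul_inv_rev]
        _ = (h * h')⁻¹ := by rw [hcm.eq]
    have hodd : Odd (orderOf (h * h')) :=
      Odd.of_dvd_nat (hho.mul hho') (hcm.orderOf_mul_dvd_lcm.trans (Nat.lcm_dvd_mul _ _))
    obtain ⟨w, hw, hw1, hwc⟩ := hS (h * h') a ha hodd hinv
    have hc' : ∀ x : G, Commute x h → Commute x (h * h') → Commute x h' := by
      intro x e1 e2
      have := (Commute.inv_right e1).mul_right e2
      rwa [inv_mul_cancel_left] at this
    rcases htri a ha b hb ha1 hb1 hab w hw hw1 with e | e | e <;> rw [e] at hwc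
    · have h1 := hone _ _ hodd hinv hwc
      have e : h' = h⁻¹ := eq_inv_of_mul_eq_one_right h1
      refine Or.inr (hone b h' hho' hbi' ?_)
      rw [e]
      exact (Commute.inv_right (show Commute b h from hbc)).eq
    · exact Or.inr (hone _ _ hho' hbi' (hc' _ hbc hwc).eq)
    · refine Or.inl (hone (a * b) h hho (hthird a ha b hb h hai hbc) ?_)
      have := (show Commute (a * b) (h * h') from hwc).mul_right (Commute.inv_right hcc')
      rwa [mul_inv_cancel_right] at this
  intro hbot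
  have hex : ∀ v ∈ V, v ≠ 1 → ∃ h : G, h ≠ 1 ∧ Odd (orderOf h) ∧ v * h * v⁻¹ = h⁻¹ := by
    intro v hv hv1
    refine CfsgLib.Invol.exists_odd_inverted_of_notMem_normal_two
      (orderOf_eq_prime (hV.2 v hv) hv1) fun N hN hNp hvN => hv1 ?_
    exact Subgroup.mem_bot.mp (hbot ▸ ⟨hv, CfsgLib.LocalEven.le_core_of_normal hN hNp hvN⟩)
  obtain ⟨a, ha, ha1⟩ := V.ne_bot_iff_exists_ne_one.mp hV1 |> fun ⟨⟨x, hx⟩, h⟩ => (⟨x, hx, fun e => h (Subtype.ext e)⟩ : ∃ x, x ∈ V ∧ x ≠ 1)
  obtain ⟨h, hh1, hho, hai⟩ := hex a ha ha1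
  obtain ⟨b, hb, hb1, hbc⟩ := hS h a ha hho hai
  have hab : a ≠ b := by rintro rfl; exact hh1 (hone _ _ hho hai hbc)
  obtain ⟨k, hk1, hko, hbi⟩ := hex b hb hb1
  obtain ⟨z, hz, hz1, hzc⟩ := hS k b hb hko hbi
  have hzb : z ≠ b := by rintro rfl; exact hk1 (hone _ _ hko hbi hzc)
  rcases htri a ha b hb ha1 hb1 hab z hz hz1 with e | e | e
  · subst e
    rcases hfact2 (z * b) (mul_mem hz hb) b hb
      (fun e => hab (by rw [← hinvol z hz, inv_eq_of_mul_eq_one_right e]))
      hb1 (fun e => ha1 (mul_eq_right.mp e)) h k hho (hthird z hz b hb h hai hbc) hbc hko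
      (by rw [hcomm z hz b hb]; exact hthird b hb z hz k hbi hzc)
      (by rw [mul_assoc z b b, hsq b hb, mul_one]; exact hzc) with h' | h'
    exacts [hh1 h', hk1 h']
  · exact hzb e
  · subst e
    have hai2 : a * k * a⁻¹ = k⁻¹ := by
      have h3 := hthird b hb (a * b) (mul_mem ha hb) k hbi hzc
      rwa [hcomm a ha b hb, ← mul_assoc, hsq b hb, one_mul] at h3
    rcases hfact2 a ha b hb ha1 hb1 hab h k hho hai hbc hko hai2 hzc with h' | h'
    exacts [hh1 h', hk1 h']

end Cfsg.Agent.S3011
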