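import Cfsg.Statements.S3012
import Mathlib.GroupTheory.Sylow
import Mathlib.Algebra.Ring.Parity
import Mathlib.Tactic.Positivity

set_option autoImplicit false
open Cfsg

namespace Cfsg.Agent.S3012

/-- Let G be a finite group, V a nontrivial elementary abelian 2-subgroup of G satisfying the Sidki pair condition (every odd-order element inverted by an element of V commutes with a nontrivial element of V), and K a normal subgroup of G with V ∩ K = 1. Then the image of V in G/K satisfies the Sidki pair condition in G/K. -/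
theorem result {G : Type*} [Group G] [Finite G] (V K : Subgroup G) [K.Normal] (hV : Cfsg.IsElementaryAbelian 2 V) (hV1 : V ≠ ⊥) (hS : Cfsg.IsSidkiPair V) (hVK : V ⊓ K = ⊥) : Cfsg.IsSidkiPair (V.map (QuotientGroup.mk' K)) := by
  rintro hb vb hvb hodd hinv
  obtain ⟨v, hv, rfl⟩ := hvb
  obtain ⟨g, rfl⟩ := QuotientGroup.mk_surjective hb
  have hv2 : v * v = 1 := by rw [← pow_two]; exact hV.2 v hv
  set y := g * v * g⁻¹ * v⁻¹ with hy
  have hvinv : v * y * v⁻¹ = y⁻¹ := by
    have hvi : v⁻¹ = v := inv_eq_of_mul_eq_one_right hv2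
    simp only [hy, mul_inv_rev, inv_inv, hvi, mul_assoc, hv2, mul_one]
  obtain ⟨e, k, hk, hek⟩ := Nat.exists_eq_pow_mul_and_not_dvd (orderOf_pos y).ne' 2 (by norm_num)
  set u := y ^ (2 ^ e) with hu
  have hord : orderOf u = k := by
    rw [hu, orderOf_pow_of_dvd (by positivity) ⟨k, hek⟩, hek,
      Nat.mul_div_cancel_left k (by positivity)]
  obtain ⟨w, hw, hw1, hwu⟩ := hS u v hv
    (by rw [hord, Nat.odd_iff]; omega) (by rw [hu, ← conj_pow, hvinv, inv_pow])
  have hy2 : (y : G ⧸ K) = (g : G ⧸ K) ^ 2 := by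
    have h := hinv
    simp only [QuotientGroup.mk'_apply] at h
    rw [hy]
    simp only [QuotientGroup.mk_mul, QuotientGroup.mk_inv]
    calc (g : G ⧸ K) * v * (g : G ⧸ K)⁻¹ * (v : G ⧸ K)⁻¹
        = (g : G ⧸ K) * ((v : G ⧸ K) * g * (v : G ⧸ K)⁻¹)⁻¹ := by group
      _ = (g : G ⧸ K) ^ 2 := by rw [h, inv_inv, pow_two]
  refine ⟨_, Subgroup.mem_map_of_mem _ hw, fun h => hw1 ?_, ?_⟩
  · rw [QuotientGroup.mk'_apply, QuotientGroup.eq_one_iff] at h
    exact Subgroup.mem_bot.mp (hVK ▸ ⟨hw, h⟩)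
  · have hcop : Nat.Coprime (2 ^ (e + 1)) (orderOf (g : G ⧸ K)) :=
      ((Nat.coprime_two_left).mpr hodd).pow_left _
    have hc : Commute (QuotientGroup.mk' K w) ((g : G ⧸ K) ^ (2 ^ (e + 1))) := by
      have h1 := (show Commute w u from hwu).map (QuotientGroup.mk' K)
      have h2 : (QuotientGroup.mk' K) u = (g : G ⧸ K) ^ (2 ^ (e + 1)) := by
        rw [hu, map_pow, QuotientGroup.mk'_apply, hy2, ← pow_mul, pow_succ']
      rwa [h2] at h1
    obtain ⟨m, hm⟩ := exists_pow_eq_self_of_coprime hcop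
    exact (hm ▸ hc.pow_right m).eq

end Cfsg.Agent.S3012
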