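import Cfsg.Statements.S3013
import Mathlib.GroupTheory.Sylow
import Mathlib.Algebra.Ring.Parity

set_option autoImplicit false
open Cfsg

namespace Cfsg.Agent.S3013

/-- Let G be a finite group and V a nontrivial elementary abelian 2-subgroup of G satisfying the Sidki pair condition. Let v ∈ V and let x be an element of odd order inverted by v, and put C = C_G(v) ∩ C_G(x), the centralizer of the dihedral subgroup generated by v and x. Then C ∩ V is nontrivial and satisfies the Sidki pair condition inside C: every odd-order element of C inverted by an element of C ∩ V commutes with a nontrivial element of C ∩ V. -/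
theorem result {G : Type*} [Group G] [Finite G] (V : Subgroup G) (hV : Cfsg.IsElementaryAbelian 2 V) (hV1 : V ≠ ⊥) (hS : Cfsg.IsSidkiPair V) (v x : G) (hv : v ∈ V) (hx : Odd (orderOf x)) (hinv : v * x * v⁻¹ = x⁻¹) (C : Subgroup G) (hC : C = Subgroup.centralizer ({v} : Set G) ⊓ Subgroup.centralizer ({x} : Set G)) : C ⊓ V ≠ ⊥ ∧ Cfsg.IsSidkiPair ((C ⊓ V).subgroupOf C) := by
  subst hC
  have hodd_eq : ∀ {y : G}, Odd (orderOf y) → ∀ w : G, w * (y ^ 2) = (y ^ 2) * w → w * y = y * w := by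
    intro y hy w h
    obtain ⟨k, hk⟩ := hy
    have hy' : y = (y ^ 2) ^ (k + 1) := by
      rw [← pow_mul, show 2 * (k + 1) = orderOf y + 1 by omega, pow_succ, pow_orderOf_eq_one, one_mul]
    rw [hy']
    exact (Commute.pow_right h _)
  have hcomm : ∀ a ∈ V, ∀ b ∈ V, a * b = b * a := fun a ha b hb => by
    simpa using congrArg Subtype.val (hV.1.is_comm.comm (⟨a, ha⟩ : V) ⟨b, hb⟩)
  refine ⟨fun hbot => ?_, ?_⟩
  · obtain ⟨w, hw, hw1, hwx⟩ := hS x v hv hx hinv
    refine hw1 (Subgroup.mem_bot.mp (hbot ▸ ⟨⟨?_, ?_⟩, hw⟩))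
    · exact Subgroup.mem_centralizer_singleton_iff.mpr (hcomm w hw v hv)
    · exact Subgroup.mem_centralizer_singleton_iff.mpr hwx
  · rintro ⟨y, hyC⟩ ⟨u, huC⟩ hu hy hinv'
    rw [Subgroup.mem_subgroupOf] at hu
    obtain ⟨-, huV⟩ := Subgroup.mem_inf.mp hu
    rw [Subgroup.orderOf_mk] at hy
    have hinv'' : u * y * u⁻¹ = y⁻¹ := by simpa using congrArg Subtype.val hinv'
    obtain ⟨hyv, hyx⟩ := Subgroup.mem_inf.mp hyC
    obtain ⟨huv, hux⟩ := Subgroup.mem_inf.mp huC
    rw [Subgroup.mem_centralizer_singleton_iff] at hyv hyx huv hux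
    -- `u * v` inverts `x * y`
    have h1 : u * v * (x * y) * (u * v)⁻¹ = (x * y)⁻¹ := by
      calc u * v * (x * y) * (u * v)⁻¹ = u * ((v * x * v⁻¹) * (v * y * v⁻¹)) * u⁻¹ := by group
        _ = u * (x⁻¹ * y) * u⁻¹ := by rw [hinv, ← hyv, mul_inv_cancel_right]
        _ = (u * x * u⁻¹)⁻¹ * (u * y * u⁻¹) := by group
        _ = x⁻¹ * y⁻¹ := by rw [hux, mul_inv_cancel_right, hinv'']
        _ = (y * x)⁻¹ := by group
        _ = (x * y)⁻¹ := by rw [hyx]
    have hodd : Odd (orderOf (x * y)) := by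
      have hd := (show Commute x y from hyx.symm).orderOf_mul_dvd_lcm
      exact Odd.of_dvd_nat (hx.mul hy) (hd.trans (Nat.lcm_dvd_mul _ _))
    obtain ⟨w, hw, hw1, hwxy⟩ := hS (x * y) (u * v) (mul_mem huV hv) hodd h1
    have hwv := hcomm w hw v hv
    have hc1 : Commute w (x * y) := hwxy
    have hc2 : Commute w (x⁻¹ * y) := by
      have h := hc1.map (MulAut.conj v).toMonoidHom
      have e1 : (MulAut.conj v).toMonoidHom w = w := by simp [← hwv]
      have e2 : (MulAut.conj v).toMonoidHom (x * y) = x⁻¹ * y := by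
        simp only [MulEquiv.coe_toMonoidHom, MulAut.conj_apply]
        calc v * (x * y) * v⁻¹ = (v * x * v⁻¹) * (v * y * v⁻¹) := by group
          _ = x⁻¹ * y := by rw [hinv, ← hyv, mul_inv_cancel_right]
      rwa [e1, e2] at h
    have hy2 : x * y * (x⁻¹ * y) = y ^ 2 := by
      rw [pow_two, ← hyx]; group
    have hwy : w * y = y * w := hodd_eq hy w (hy2 ▸ (hc1.mul_right hc2).eq)
    have hwx : Commute w x := by
      have := hc1.mul_right (Commute.inv_right hwy)
      rwa [mul_inv_cancel_right] at this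
    refine ⟨⟨w, ⟨Subgroup.mem_centralizer_singleton_iff.mpr hwv,
      Subgroup.mem_centralizer_singleton_iff.mpr hwx.eq⟩⟩, ?_, ?_, Subtype.ext hwy⟩
    · exact Subgroup.mem_subgroupOf.mpr ⟨⟨Subgroup.mem_centralizer_singleton_iff.mpr hwv,
        Subgroup.mem_centralizer_singleton_iff.mpr hwx.eq⟩, hw⟩
    · exact fun h => hw1 (congrArg Subtype.val h)

end Cfsg.Agent.S3013
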