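import Cfsg.Statements.S3015
import Cfsg.Agent.Lib.LocalEven.MaximalChain
import Cfsg.Agent.Lib.Solvable.Basic
import Mathlib.GroupTheory.Nilpotent

set_option autoImplicit false
open Cfsg

namespace Cfsg.Agent.S3015

/-- Let G be a finite non-abelian simple group, M a maximal subgroup of G and H a normal subgroup of M of prime index in M. Then G is generated by H together with one of its conjugates. -/
theorem result {G : Type*} [Group G] [Finite G] [IsSimpleGroup G] (hG : ¬ IsMulCommutative G) (M H : Subgroup G) (hmaxM : IsCoatom M) (hHM : H ≤ M) (hHn : (H.subgroupOf M).Normal) (hidx : (H.relIndex M).Prime) : ∃ g : G, H ⊔ H.map (MulAut.conj g).toMonoidHom = ⊤ := by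
  by_contra hnone
  push Not at hnone
  have : Fact (H.relIndex M).Prime := ⟨hidx⟩
  have hidx' : H.relIndex M * Nat.card H = Nat.card M := by
    rw [← Subgroup.relIndex_bot_left, ← Subgroup.relIndex_bot_left (H := M), mul_comm]
    exact Subgroup.relIndex_mul_relIndex ⊥ H M bot_le hHM
  have hHne : H ≠ M := fun h => hidx.ne_one (by rw [h, Subgroup.relIndex_self])
  have hHne' : H ≠ ⊤ := fun h => hmaxM.1 (top_le_iff.mp (h.ge.trans hHM))
  -- subgroups of index `p` are maximal in `M`
  have hbetween : ∀ A : Subgroup G, A ≤ M → Nat.card A = Nat.card H → IsCoatom (A.subgroupOf M) := by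
    intro A hA hcA
    have hA' : A.relIndex M * Nat.card A = Nat.card M := by
      rw [← Subgroup.relIndex_bot_left, ← Subgroup.relIndex_bot_left (H := M), mul_comm]
      exact Subgroup.relIndex_mul_relIndex ⊥ A M bot_le hA
    have hAp : (A.subgroupOf M).index.Prime := by
      show (A.relIndex M).Prime
      rw [hcA, ← hidx'] at hA'
      rwa [Nat.eq_of_mul_eq_mul_right Nat.card_pos hA']
    refine ⟨fun h => hAp.ne_one (by rw [h, Subgroup.index_top]), fun K hK => ?_⟩
    rw [← Subgroup.index_eq_one]
    refine (hAp.eq_one_or_self_of_dvd _ (Subgroup.index_dvd_of_le hK.le)).resolve_right fun h => ?_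
    have h1 := Subgroup.relIndex_mul_index hK.le
    rw [h] at h1
    have h2 : (A.subgroupOf M).relIndex K = 1 :=
      Nat.eq_of_mul_eq_mul_right hAp.pos (h1.trans (one_mul _).symm)
    exact hK.not_ge (Subgroup.relIndex_eq_one.mp h2)
  have hcoH := hbetween H hHM rfl
  have hnorm : M ≤ Subgroup.normalizer (H : Set G) :=
    (Subgroup.normal_subgroupOf_iff_le_normalizer hHM).mp hHn
  by_cases hH0 : H.Normal
  · -- a normal subgroup is trivial, so `M` has prime order
    rcases IsSimpleGroup.eq_bot_or_eq_top_of_normal H hH0 with h | h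
    · -- a maximal subgroup of prime order is a central Sylow subgroup of its normalizer
      have hMcard : Nat.card M = H.relIndex M := by rw [← hidx', h, Subgroup.card_bot, mul_one]
      have hMp : IsPGroup (H.relIndex M) M := IsPGroup.of_card (n := 1) (by rw [hMcard, pow_one])
      have hcyc : IsCyclic M := isCyclic_of_prime_card hMcard
      have hM0 : M ≠ ⊥ := fun hb => hHne (by rw [h, hb])
      have hNM : Subgroup.normalizer (M : Set G) = M := by
        rcases hmaxM.le_iff.mp (Subgroup.le_normalizer (H := M)) with htop | heq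
        · rcases IsSimpleGroup.eq_bot_or_eq_top_of_normal M
            (Subgroup.normalizer_eq_top_iff.mp htop) with hb | ht
          · exact absurd hb hM0
          · exact absurd ht hmaxM.1
        · exact heq
      obtain ⟨P, hP⟩ := hMp.exists_le_sylow
      have hPM : (P : Subgroup G) = M := by
        refine le_antisymm ?_ hP
        by_contra hne
        have : Group.IsNilpotent (P : Subgroup G) := P.isPGroup'.isNilpotent
        have hlt : M.subgroupOf (P : Subgroup G) < ⊤ := by
          rwa [lt_top_iff_ne_top, Ne, Subgroup.subgroupOf_eq_top]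
        obtain ⟨u, hu, huM⟩ := SetLike.exists_of_lt
          (Group.normalizerCondition_of_isNilpotent (M.subgroupOf (P : Subgroup G)) hlt)
        have hn := Subgroup.le_normalizer_map (P : Subgroup G).subtype ⟨u, hu, rfl⟩
        rw [Subgroup.map_subgroupOf_eq_of_le hP, hNM] at hn
        exact huM (Subgroup.mem_subgroupOf.mpr hn)
      have hle : Subgroup.normalizer ((P : Subgroup G) : Set G) ≤
          Subgroup.centralizer ((P : Subgroup G) : Set G) := by
        rw [hPM, hNM]
        intro x hx
        refine Subgroup.mem_centralizer_iff.mpr fun y hy => ?_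
        obtain ⟨c, hc⟩ := hcyc.exists_generator
        obtain ⟨i, hi⟩ := Subgroup.mem_zpowers_iff.mp (hc ⟨x, hx⟩)
        obtain ⟨j, hj⟩ := Subgroup.mem_zpowers_iff.mp (hc ⟨y, hy⟩)
        exact congrArg Subtype.val (show (⟨y, hy⟩ : M) * ⟨x, hx⟩ = ⟨x, hx⟩ * ⟨y, hy⟩ by
          rw [← hi, ← hj]; exact (Commute.zpow_zpow_self c j i).eq)
      have hcompl := MonoidHom.ker_transferSylow_isComplement' P hle
      rcases IsSimpleGroup.eq_bot_or_eq_top_of_normal _
        (inferInstance : (MonoidHom.transferSylow P hle).ker.Normal) with hk | hk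
      · rw [hk] at hcompl
        exact hmaxM.1 (hPM ▸ Subgroup.isComplement'_bot_left.mp hcompl)
      · rw [hk] at hcompl
        exact hM0 (hPM ▸ Subgroup.isComplement'_top_left.mp hcompl)
    · exact hHne' h
  have hN : Subgroup.normalizer (H : Set G) = M :=
    (hmaxM.le_iff_eq (fun h => hH0 (Subgroup.normalizer_eq_top_iff.mp h))).mp hnorm
  -- no other conjugate of `H` lies in `M`
  have hins : ∀ g : G, H.map (MulAut.conj g).toMonoidHom ≤ M → g ∈ M := by
    intro g hgM
    by_contra hg
    set H' := H.map (MulAut.conj g).toMonoidHom with hH'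
    set Hi := H.map (MulAut.conj g⁻¹).toMonoidHom with hHi
    have hcard : ∀ t : G, Nat.card (H.map (MulAut.conj t).toMonoidHom) = Nat.card H := fun t =>
      Subgroup.card_map_of_injective (MulEquiv.injective _)
    have hne' : ∀ t : G, H.map (MulAut.conj t).toMonoidHom ≠ H ↔ t ∉ M := fun t => by
      rw [Ne, CfsgLib.LocalEven.conj_map_eq_iff_mem_normalizer, hN]
    have hHsub : ∀ t : G, H.map (MulAut.conj t).toMonoidHom ≤ M → t ∉ M →
        H ⊔ H.map (MulAut.conj t).toMonoidHom = M := by
      intro t ht htM
      refine (CfsgLib.LocalEven.eq_or_eq_of_coatom_between hHM hcoH le_sup_left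
        (sup_le hHM ht)).resolve_left fun h => (hne' t).mpr htM ?_
      exact Subgroup.eq_of_le_of_card_ge (le_sup_right.trans h.le) (hcard t).ge
    -- `H ⊓ H'` equals `H ⊓ Hi`
    have hD : ∀ x ∈ M, H ⊓ H.map (MulAut.conj (x * g)).toMonoidHom = H ⊓ Hi := by
      intro x hx
      set A := H.map (MulAut.conj (x * g)).toMonoidHom with hA
      have hAM : A ≤ M := by
        rintro _ ⟨y, hy, rfl⟩
        have h := hgM (Subgroup.mem_map_of_mem _ hy)
        simpa [mul_assoc] using mul_mem (mul_mem hx h) (inv_mem hx)
      have hxg : x * g ∉ M := fun h => hg ((Subgroup.mul_mem_cancel_left M hx).mp h)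
      set Mi := M.map (MulAut.conj g⁻¹).toMonoidHom with hMi
      have hHMi : H ≤ Mi := fun y hy =>
        ⟨g * y * g⁻¹, hgM ⟨y, hy, rfl⟩, by simp [mul_assoc]⟩
      have hginv : g⁻¹ ∉ M := fun h => hg (by simpa using inv_mem h)
      have hMine : Mi ≠ M := by
        intro h
        have hgN : g⁻¹ ∈ Subgroup.normalizer (M : Set G) :=
          CfsgLib.LocalEven.conj_map_eq_iff_mem_normalizer.mp h
        rcases hmaxM.le_iff.mp (Subgroup.le_normalizer (H := M)) with htop | heq
        · rcases IsSimpleGroup.eq_bot_or_eq_top_of_normal M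
            (Subgroup.normalizer_eq_top_iff.mp htop) with hb | ht
          · exact hHne (le_antisymm hHM (hb.le.trans bot_le))
          · exact hmaxM.1 ht
        · exact hginv (heq ▸ hgN)
      -- `A` is not inside `Mi`
      have hAnot : ¬ A ≤ Mi := by
        intro hle
        have hMle : M ≤ Mi := by rw [← hHsub _ hAM hxg]; exact sup_le hHMi hle
        exact hMine (Subgroup.eq_of_le_of_card_ge hMle
          (Subgroup.card_map_of_injective (MulEquiv.injective _)).le).symm
      -- hence `A ⊓ Mi ≤ Hi`
      have hkey : A ⊓ Mi ≤ Hi := by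
        by_contra hnle
        obtain ⟨a, ⟨haA, haM⟩, haH⟩ := SetLike.not_le_iff_exists.mp hnle
        have hsup : Mi ≤ Hi ⊔ A := by
          have hle1 : (Hi ⊔ Subgroup.zpowers a).map (MulAut.conj g).toMonoidHom = M := by
            refine (CfsgLib.LocalEven.eq_or_eq_of_coatom_between hHM hcoH ?_ ?_).resolve_left
              fun h => haH ?_
            · intro y hy
              exact ⟨g⁻¹ * y * g, (le_sup_left : Hi ≤ _) ⟨y, hy, by simp [mul_assoc]⟩,
                by simp [mul_assoc]⟩
            · rw [Subgroup.map_sup, sup_le_iff, MonoidHom.map_zpowers, Subgroup.zpowers_le]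
              refine ⟨?_, ?_⟩
              · rintro _ ⟨_, ⟨y, hy, rfl⟩, rfl⟩
                simpa [mul_assoc] using hHM hy
              · obtain ⟨z, hz, rfl⟩ := haM
                simpa [mul_assoc] using hz
            · have : (MulAut.conj g).toMonoidHom a ∈ H :=
                h ▸ Subgroup.mem_map_of_mem _ ((le_sup_right : _ ≤ Hi ⊔ _) (Subgroup.mem_zpowers a))
              exact ⟨_, this, by simp [mul_assoc]⟩
          intro y hy
          obtain ⟨z, hz, rfl⟩ := hy
          rw [← hle1] at hz
          obtain ⟨w, hw, rfl⟩ := hz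
          have hw' : w ∈ Hi ⊔ A :=
            (sup_le le_sup_left ((Subgroup.zpowers_le.mpr haA).trans le_sup_right)) hw
          simpa [mul_assoc] using hw'
        have hcoat : IsCoatom Mi := by
          refine ⟨fun h => hmaxM.1 ?_, fun K hK => ?_⟩
          · exact Subgroup.map_injective (MulEquiv.injective _)
              (h.trans (Subgroup.map_top_of_surjective _ (MulEquiv.surjective _)).symm)
          · have hK' : M < K.comap (MulAut.conj g⁻¹).toMonoidHom := by
              refine lt_of_le_of_ne (Subgroup.map_le_iff_le_comap.mp hK.le) fun h => hK.ne ?_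
              rw [hMi, h, Subgroup.map_comap_eq_self_of_surjective (MulEquiv.surjective _)]
            have h2 := hmaxM.2 _ hK'
            rw [← Subgroup.map_comap_eq_self_of_surjective
              (f := (MulAut.conj g⁻¹).toMonoidHom) (MulEquiv.surjective _) K, h2,
              Subgroup.map_top_of_surjective _ (MulEquiv.surjective _)]
        have htop : Hi ⊔ A = ⊤ := hcoat.2 _ (lt_of_le_of_ne hsup fun h =>
          hAnot (le_sup_right.trans h.ge))
        refine hnone (g * (x * g)) ?_
        have h2 := congrArg (Subgroup.map (MulAut.conj g).toMonoidHom) htop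
        rw [Subgroup.map_sup, Subgroup.map_top_of_surjective _ (MulEquiv.surjective _), hHi, hA,
          Subgroup.map_map, Subgroup.map_map] at h2
        rw [← h2]
        congr 1
        · conv_lhs => rw [← Subgroup.map_id H]
          congr 1
          ext y
          simp [mul_assoc]
        · congr 1
          ext y
          simp [mul_assoc]
      have hle : H ⊓ A ≤ H ⊓ Hi := le_inf inf_le_left
        ((le_inf inf_le_right (inf_le_left.trans hHMi)).trans hkey)
      refine Subgroup.eq_of_le_of_card_ge hle ?_
      -- both intersections have index `p` in `H`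
      have hsum : Hi ⊔ H ≤ Mi := sup_le (Subgroup.map_mono hHM) hHMi
      have hmap1 : Nat.card (H ⊓ Hi : Subgroup G) = Nat.card (H ⊓ H' : Subgroup G) := by
        rw [← Subgroup.card_map_of_injective (K := H ⊓ Hi) (f := (MulAut.conj g).toMonoidHom)
          (MulEquiv.injective _), Subgroup.map_inf _ _ _ (MulEquiv.injective _)]
        have h2 : Hi.map (MulAut.conj g).toMonoidHom = H := by
          rw [hHi, Subgroup.map_map]
          conv_rhs => rw [← Subgroup.map_id H]
          congr 1
          ext y
          simp [mul_assoc]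
        rw [h2, inf_comm]
      have hmap2 : ∀ B : Subgroup G, B ≤ M → H ⊔ B = M →
          (H ⊓ B).relIndex B = H.relIndex M := by
        intro B hB hsup
        rw [Subgroup.inf_relIndex_right, ← hsup]
        exact (CfsgLib.Solvable.relIndex_sup_of_le_normalizer (hB.trans hnorm)).symm
      have hc : ∀ B : Subgroup G, B ≤ M → H ⊔ B = M →
          H.relIndex M * Nat.card (H ⊓ B : Subgroup G) = Nat.card B := by
        intro B hB hsup
        rw [← hmap2 B hB hsup, ← Subgroup.relIndex_bot_left,
          ← Subgroup.relIndex_bot_left (H := B), mul_comm]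
        exact Subgroup.relIndex_mul_relIndex ⊥ _ B bot_le inf_le_right
      have e1 := hc A hAM (hHsub _ hAM hxg)
      have e2 := hc H' hgM (hHsub _ hgM hg)
      rw [hcard] at e1 e2
      rw [hmap1]
      exact le_of_eq (Nat.eq_of_mul_eq_mul_left hidx.pos (e2.trans e1.symm))
    set D := H ⊓ Hi with hDdef
    have hD' : H ⊓ H' = D := by
      have h1 := hD 1 (one_mem M)
      rwa [one_mul] at h1
    -- `D` is normal in `G`
    have hDM : M ≤ Subgroup.normalizer (D : Set G) := by
      intro x hx
      rw [← CfsgLib.LocalEven.conj_map_eq_iff_mem_normalizer]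
      conv_lhs => rw [← hD', Subgroup.map_inf _ _ _ (MulEquiv.injective _),
        CfsgLib.LocalEven.conj_map_eq_iff_mem_normalizer.mpr (hnorm hx), hH', Subgroup.map_map]
      rw [← hD x hx]
      congr 2
      ext y
      simp [mul_assoc]
    have hDg : g ∈ Subgroup.normalizer (D : Set G) := by
      rw [← CfsgLib.LocalEven.conj_map_eq_iff_mem_normalizer]
      conv_lhs => rw [hDdef, Subgroup.map_inf _ _ _ (MulEquiv.injective _), hHi, Subgroup.map_map]
      rw [← hD', inf_comm]
      congr 1
      conv_rhs => rw [← Subgroup.map_id H]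
      congr 1
      ext y
      simp [mul_assoc]
    have hDn : D.Normal := by
      rw [← Subgroup.normalizer_eq_top_iff]
      exact hmaxM.2 _ (lt_of_le_of_ne hDM fun h => hg (by rw [h]; exact hDg))
    have hD0 : D = ⊥ := (IsSimpleGroup.eq_bot_or_eq_top_of_normal D hDn).resolve_right
      fun h => hHne' (top_le_iff.mp (h.ge.trans inf_le_left))
    -- so `H` has order `p` and `M` is commutative
    have hmap2 : H'.relIndex M = H.relIndex M := by
      have h1 : H'.relIndex M * Nat.card H' = Nat.card M := by
        rw [← Subgroup.relIndex_bot_left, ← Subgroup.relIndex_bot_left (H := M), mul_comm]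
        exact Subgroup.relIndex_mul_relIndex ⊥ H' M bot_le hgM
      rw [hcard, ← hidx'] at h1
      exact Nat.eq_of_mul_eq_mul_right Nat.card_pos h1
    have hHp : Nat.card H = H.relIndex M := by
      have h1 : (H ⊓ H').relIndex H' = H.relIndex M := by
        rw [Subgroup.inf_relIndex_right, ← hHsub g hgM hg]
        exact (CfsgLib.Solvable.relIndex_sup_of_le_normalizer (hgM.trans hnorm)).symm
      rw [hD', hD0, Subgroup.relIndex_bot_left, hcard] at h1
      exact h1
    have hMp : Nat.card M = H.relIndex M ^ 2 := by rw [← hidx', hHp, pow_two]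
    have hMab := IsPGroup.commutative_of_card_eq_prime_sq hMp
    refine hg ?_
    have hMN : M ≤ Subgroup.normalizer (H' : Set G) := by
      intro x hx
      refine Subgroup.centralizer_le_normalizer _ (Subgroup.mem_centralizer_iff.mpr fun y hy => ?_)
      exact congrArg Subtype.val (hMab ⟨y, hgM hy⟩ ⟨x, hx⟩)
    have hH'n : Subgroup.normalizer (H' : Set G) = M.map (MulAut.conj g).toMonoidHom := by
      rw [hH', ← Subgroup.map_equiv_normalizer_eq, hN]
    rw [hH'n] at hMN
    have hgN : g ∈ Subgroup.normalizer (M : Set G) :=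
      CfsgLib.LocalEven.conj_map_eq_iff_mem_normalizer.mp (Subgroup.eq_of_le_of_card_ge hMN
        (Subgroup.card_map_of_injective (MulEquiv.injective _)).le).symm
    rcases hmaxM.le_iff.mp (Subgroup.le_normalizer (H := M)) with htop | heq
    · rcases IsSimpleGroup.eq_bot_or_eq_top_of_normal M
        (Subgroup.normalizer_eq_top_iff.mp htop) with hb | ht
      · exact absurd (le_antisymm hHM (hb.le.trans bot_le)) hHne
      · exact absurd ht hmaxM.1
    · exact heq ▸ hgN
  have hcl : ∀ g : G, (H ⊔ H.map (MulAut.conj g).toMonoidHom) ⊓ M = H := by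
    intro g
    refine (CfsgLib.LocalEven.eq_or_eq_of_coatom_between hHM hcoH (le_inf le_sup_left hHM)
      inf_le_right).resolve_right fun h => ?_
    have hMK := inf_eq_right.mp h
    have hKM : H ⊔ H.map (MulAut.conj g).toMonoidHom = M :=
      (hmaxM.le_iff_eq (hnone g)).mp hMK
    have hgH : H.map (MulAut.conj g).toMonoidHom = H :=
      CfsgLib.LocalEven.conj_map_eq_iff_mem_normalizer.mpr
        (hnorm (hins g (le_sup_right.trans hKM.le)))
    rw [hgH, sup_idem] at hKM
    exact hHne hKM
  have hmain := CfsgLib.LocalEven.normalClosure_inf_eq hHM hcl hcoH hmaxM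
  rcases IsSimpleGroup.eq_bot_or_eq_top_of_normal (Subgroup.normalClosure (H : Set G))
    Subgroup.normalClosure_normal with h | h
  · exact hH0 (by
      rw [le_bot_iff.mp (Subgroup.le_normalClosure.trans h.le : H ≤ ⊥)]; infer_instance)
  · rw [h, top_inf_eq] at hmain
    exact hHne hmain.symm

end Cfsg.Agent.S3015
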