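import Cfsg.Statements.S3016
import Cfsg.Agent.Lib.ExtClosed.Factor
import Cfsg.Agent.Lib.ExtClosed.Kernel

set_option autoImplicit false
set_option linter.style.haveILetI false
open Cfsg

namespace Cfsg.Agent.S3016

/-- Let G be a finite group, p an odd prime, and H an abelian p-subgroup of G that is extremely closed (for every g, the subgroup generated by H and g H g⁻¹ meets N_G(H) exactly in H). Then the normal closure of H meets N_G(H) exactly in H, and G = N_G(H) O_{p'}(G). -/
theorem result {G : Type*} [Group G] [Finite G] {p : ℕ} [Fact p.Prime] (hp : p ≠ 2) (H : Subgroup G) (hHp : IsPGroup p H) (hHab : IsMulCommutative H) (hcl : Cfsg.IsExtremelyClosed H) : Subgroup.normalClosure (H : Set G) ⊓ Subgroup.normalizer (H : Set G) = H ∧ Subgroup.normalizer (H : Set G) ⊔ Cfsg.pPrimeCore p G = ⊤ := by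
  have hE : CfsgLib.ExtClosed.EC p H := ⟨hHp, hHab, hcl⟩
  have htop := CfsgLib.ExtClosed.sup_core_eq_top hE hp
  refine ⟨?_, htop⟩
  haveI := CfsgLib.Solvable.pPrimeCore_normal p G
  set O := Cfsg.pPrimeCore p G with hO
  have hHO : H ≤ Subgroup.normalizer (O : Set G) :=
    Subgroup.le_normalizer_iff.2 fun h _ y hy => (inferInstance : O.Normal).conj_mem y hy h
  have hcop : (Nat.card H).Coprime (Nat.card O) := by
    obtain ⟨k, hk⟩ := IsPGroup.iff_card.1 hHp
    rw [hk]
    exact (CfsgLib.Solvable.pPrimeCore_card_coprime p G).symm.pow_left k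
  set M := ⁅O, H⁆ with hM
  have hMO : M ≤ O := CfsgLib.Solvable.commutator_le_of_normalizes hHO
  have hMcop : (Nat.card M).Coprime p :=
    (CfsgLib.Solvable.pPrimeCore_card_coprime p G).coprime_dvd_left (Subgroup.card_dvd_of_le hMO)
  -- `M` is normal
  have hMn : M.Normal := by
    rw [← Subgroup.normalizer_eq_top_iff, eq_top_iff, ← htop]
    refine sup_le ?_ (CfsgLib.Solvable.le_normalizer_commutator_left O H)
    intro n hn
    rw [Subgroup.mem_normalizer_iff_map_conj_eq, hM, Subgroup.map_commutator,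
      Subgroup.Normal.map_conj_eq, Subgroup.mem_normalizer_iff_map_conj_eq.1 hn]
  set U := M ⊔ H with hU
  -- the normal closure lies in `M H`
  have hXU : Subgroup.normalClosure (H : Set G) ≤ U := by
    refine Subgroup.closure_le _ |>.2 fun x hx => ?_
    obtain ⟨h, hh, hx⟩ := Group.mem_conjugatesOfSet_iff.1 hx
    obtain ⟨g, hg⟩ := isConj_iff.1 hx
    obtain ⟨n, hn, o, ho, rfl⟩ := Subgroup.mem_sup_of_normal_right.1
      (htop ▸ Subgroup.mem_top g : g ∈ Subgroup.normalizer (H : Set G) ⊔ O)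
    have hn' : n * o * n⁻¹ ∈ O := (inferInstance : O.Normal).conj_mem o ho n
    have hh' : n * h * n⁻¹ ∈ H := (Subgroup.mem_normalizer_iff.1 hn h).1 hh
    rw [← hg, show n * o * h * (n * o)⁻¹ =
      n * o * n⁻¹ * (n * h * n⁻¹) * (n * o * n⁻¹)⁻¹ * (n * h * n⁻¹)⁻¹ * (n * h * n⁻¹) by group,
      ← commutatorElement_def]
    exact mul_mem (Subgroup.mem_sup_left (Subgroup.commutator_mem_commutator hn' hh'))
      (Subgroup.mem_sup_right hh')
  refine le_antisymm ?_ (le_inf Subgroup.subset_normalClosure Subgroup.le_normalizer)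
  rintro x ⟨hxX, hxN⟩
  obtain ⟨m, hm, h, hh, rfl⟩ := Subgroup.mem_sup_of_normal_left.1 (hXU hxX)
  have hmN : m ∈ Subgroup.normalizer (H : Set G) := by
    simpa using (Subgroup.normalizer (H : Set G)).mul_mem hxN
      (Subgroup.inv_mem _ (Subgroup.le_normalizer hh))
  have hmC : ∀ y ∈ H, Commute m y := by
    intro y hy
    have h1 : m * y * m⁻¹ * y⁻¹ ∈ H :=
      mul_mem ((Subgroup.mem_normalizer_iff.1 hmN y).1 hy) (inv_mem hy)
    have h2 : m * y * m⁻¹ * y⁻¹ ∈ M := by
      rw [show m * y * m⁻¹ * y⁻¹ = m * (y * m⁻¹ * y⁻¹) by group]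
      exact mul_mem hm (hMn.conj_mem _ (inv_mem hm) y)
    have h3 := CfsgLib.ExtClosed.eq_one_of_regular hHp h1
      (CfsgLib.ExtClosed.not_dvd_orderOf_of_mem hMcop h2)
    rw [mul_inv_eq_one, mul_inv_eq_iff_eq_mul] at h3
    exact h3
  have hMU : M ≤ U := le_sup_left
  have hHU : H ≤ U := le_sup_right
  have hfix := CfsgLib.ExtClosed.fixed_eq_bot (H := H.subgroupOf U) (M := M.subgroupOf U)
    (hE.subgroupOf hHU) hp Subgroup.normal_subgroupOf
    (by rwa [Nat.card_congr (Subgroup.subgroupOfEquivOfLe hMU).toEquiv]) ?_ ?_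
  · have hm' : (⟨m, hMU hm⟩ : U) ∈
        M.subgroupOf U ⊓ Subgroup.centralizer ((H.subgroupOf U : Subgroup U) : Set U) :=
      ⟨Subgroup.mem_subgroupOf.2 hm, Subgroup.mem_centralizer_iff.2 fun y hy =>
        Subtype.ext (hmC y (Subgroup.mem_subgroupOf.1 hy)).symm.eq⟩
    rw [hfix, Subgroup.mem_bot] at hm'
    rw [show m = 1 from congrArg Subtype.val hm', one_mul]
    exact hh
  · apply Subgroup.map_injective U.subtype_injective
    rw [Subgroup.map_sup, Subgroup.map_subgroupOf_eq_of_le hMU,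
      Subgroup.map_subgroupOf_eq_of_le hHU, ← MonoidHom.range_eq_map, Subgroup.range_subtype]
  · apply Subgroup.map_injective U.subtype_injective
    rw [Subgroup.map_commutator, Subgroup.map_subgroupOf_eq_of_le hMU,
      Subgroup.map_subgroupOf_eq_of_le hHU]
    exact CfsgLib.Solvable.commutator_commutator_eq hHO hcop (Or.inl hE.isSolvable)

end Cfsg.Agent.S3016
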