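import Cfsg.Statements.S3020
import Cfsg.Agent.S3021
import Cfsg.Agent.Lib.LocalEven.CharP
import Mathlib.GroupTheory.Transfer

set_option autoImplicit false
open Cfsg

namespace Cfsg.Agent.S3020

/-- Let G be a finite group, p a prime and H an abelian p-subgroup of G that is extremely closed (for every g, the subgroup generated by H and g H g⁻¹ meets N_G(H) exactly in H). Then for every g ∈ G, the subgroup T generated by H and g H g⁻¹ is the product of H with O_{p'}(T), and H meets O_{p'}(T) trivially; that is, O_{p'}(T) is a normal p-complement of H in T. -/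
theorem result {G : Type*} [Group G] [Finite G] {p : ℕ} [Fact p.Prime] (H : Subgroup G) (hHp : IsPGroup p H) (hHab : IsMulCommutative H) (hcl : Cfsg.IsExtremelyClosed H) (g : G) (T : Subgroup G) (hT : T = H ⊔ H.map (MulAut.conj g).toMonoidHom) : H ⊔ (Cfsg.pPrimeCore p ↥T).map T.subtype = T ∧ H ⊓ (Cfsg.pPrimeCore p ↥T).map T.subtype = ⊥ := by
  have hN : T ⊓ Subgroup.normalizer (H : Set G) = H := hT ▸ hcl g
  have hHT : H ≤ T := hT ▸ le_sup_left
  have hH' : IsPGroup p (H.subgroupOf T) := hHp.comap_subtype
  obtain ⟨P, hP⟩ := hH'.exists_le_sylow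
  have hPH : (P : Subgroup T).map T.subtype = H := by
    refine le_antisymm ?_ (by
      have := Subgroup.map_mono (f := T.subtype) hP
      rwa [Subgroup.map_subgroupOf_eq_of_le hHT] at this)
    have h := (Cfsg.Agent.S3021.result H hHp hcl).1 ((P : Subgroup T).map T.subtype)
      (P.isPGroup'.map _) (by
        have := Subgroup.map_mono (f := T.subtype) hP
        rwa [Subgroup.map_subgroupOf_eq_of_le hHT] at this)
    exact (le_inf (Subgroup.map_subtype_le _) (Subgroup.le_normalizer.trans h)).trans hN.le
  have hPeq : (P : Subgroup T) = H.subgroupOf T := by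
    rw [← hPH, ← Subgroup.comap_subtype, Subgroup.comap_map_eq_self_of_injective T.subtype_injective]
  -- the normalizer of the abelian Sylow subgroup centralizes it
  have hNC : Subgroup.normalizer ((P : Subgroup T) : Set T) ≤
      Subgroup.centralizer ((P : Subgroup T) : Set T) := by
    intro n hn
    have hnH : (n : G) ∈ H := by
      refine hN.le ⟨n.2, Subgroup.mem_normalizer_iff.mpr fun y => ?_⟩
      by_cases hy : y ∈ T
      · have := Subgroup.mem_normalizer_iff.mp hn ⟨y, hy⟩
        rw [hPeq] at this
        simpa [Subgroup.mem_subgroupOf] using this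
      · refine ⟨fun h => absurd (hHT h) hy, fun h => absurd ?_ hy⟩
        have h2 := mul_mem (mul_mem (inv_mem n.2) (hHT h)) n.2
        simpa [mul_assoc] using h2
    rw [Subgroup.mem_centralizer_iff]
    intro q hq
    rw [hPeq, SetLike.mem_coe, Subgroup.mem_subgroupOf] at hq
    apply Subtype.ext
    simpa using congrArg Subtype.val (hHab.is_comm.comm (⟨q, hq⟩ : H) ⟨n, hnH⟩)
  set K := (MonoidHom.transferSylow P hNC).ker with hK
  have hcompl : K.IsComplement' (P : Subgroup T) :=
    MonoidHom.ker_transferSylow_isComplement' P hNC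
  have hKle : K ≤ pPrimeCore p T :=
    CfsgLib.LocalEven.le_primeCore_of_normal inferInstance
      ((Fact.out : p.Prime).coprime_iff_not_dvd.mpr
        (MonoidHom.not_dvd_card_ker_transferSylow P hNC)).symm
  refine ⟨le_antisymm (sup_le hHT (Subgroup.map_subtype_le _)) ?_, ?_⟩
  · have h : (⊤ : Subgroup T) ≤ H.subgroupOf T ⊔ pPrimeCore p T := by
      rw [← hcompl.sup_eq_top, sup_comm, hPeq]
      exact sup_le_sup_left hKle _
    have h2 := Subgroup.map_mono (f := T.subtype) h
    rwa [Subgroup.map_sup, Subgroup.map_subgroupOf_eq_of_le hHT, ← MonoidHom.range_eq_map,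
      Subgroup.range_subtype] at h2
  · rw [eq_bot_iff]
    rintro y ⟨hyH, hyK⟩
    refine CfsgLib.LocalEven.eq_one_of_isPGroup_of_coprime hHp hyH ?_
    obtain ⟨z, hz, rfl⟩ := hyK
    rw [Subgroup.coe_subtype, Subgroup.orderOf_coe]
    have hd : orderOf (⟨z, hz⟩ : pPrimeCore p T) ∣ Nat.card (pPrimeCore p T) := orderOf_dvd_natCard _
    rw [Subgroup.orderOf_mk] at hd
    exact (CfsgLib.LocalEven.primeCore_coprime p T).coprime_dvd_left hd

end Cfsg.Agent.S3020
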