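import Cfsg.Statements.S3023
import Cfsg.Agent.Lib.LocEven.SubnormalSylow
import Cfsg.Agent.Lib.LocEven.Measure
import Cfsg.Agent.Lib.CharP.Locals
import Cfsg.Agent.Lib.Solvable.CoprimeAction
import Cfsg.Agent.Lib.Solvable.Core

set_option autoImplicit false
open Cfsg

namespace Cfsg.Agent.S3023

open CfsgLib.CharP in
theorem charP_inf_subnormal {G : Type*} [Group G] [Finite G] {p : ℕ} [Fact p.Prime] {Y H : Subgroup G}
    (hY : Subgroup.centralizer (Cfsg.pCore p ↥Y : Set ↥Y) ≤ Cfsg.pCore p ↥Y) (hH : H.IsSubnormal) :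
    Subgroup.centralizer (Cfsg.pCore p ↥(Y ⊓ H) : Set ↥(Y ⊓ H)) ≤ Cfsg.pCore p ↥(Y ⊓ H) := by
  induction hH with
  | top => rw [inf_top_eq]; exact hY
  | step H K hle _ hN ih =>
    refine charP_of_normal ih (inf_le_inf_left Y hle) ?_
    exact (inf_le_inf Subgroup.le_normalizer ((Subgroup.normal_subgroupOf_iff_le_normalizer hle).mp hN)).trans
      Subgroup.inf_normalizer_le_normalizer_inf

open CfsgLib.CharP in
theorem pCore_map_mono_of_normal {G : Type*} [Group G] [Finite G] {p : ℕ} [Fact p.Prime]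
    {D N : Subgroup G} (hDN : D ≤ N) (hn : N ≤ Subgroup.normalizer (D : Set G)) :
    (Cfsg.pCore p ↥D).map D.subtype ≤ (Cfsg.pCore p ↥N).map N.subtype := by
  refine subgroup_le_pCore_map ((Subgroup.map_subtype_le _).trans hDN) ?_ (pCore_isPGroup'.map _)
  intro h hh
  have hmap : ((Cfsg.pCore p ↥D).map D.subtype).map (MulAut.conj h).toMonoidHom ≤
      (Cfsg.pCore p ↥D).map D.subtype := by
    refine subgroup_le_pCore_map ?_ ?_ ((pCore_isPGroup'.map _).map _)
    · intro z hz
      rw [mem_map_conj] at hz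
      exact (Subgroup.mem_normalizer_iff''.mp (hn hh) z).mpr (Subgroup.map_subtype_le _ hz)
    · intro d hd
      rw [Subgroup.mem_normalizer_iff]
      intro z
      rw [mem_map_conj, mem_map_conj]
      have hd' : h⁻¹ * d * h ∈ D := (Subgroup.mem_normalizer_iff''.mp (hn hh) d).mp hd
      rw [Subgroup.mem_normalizer_iff.mp (le_normalizer_pCore_map D hd') (h⁻¹ * z * h)]
      simp [mul_assoc]
  rw [Subgroup.mem_normalizer_iff]
  have hinv : ((Cfsg.pCore p ↥D).map D.subtype).map (MulAut.conj h).toMonoidHom =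
      (Cfsg.pCore p ↥D).map D.subtype :=
    Subgroup.eq_of_le_of_card_ge hmap (Subgroup.card_map_of_injective (MulAut.conj h).injective).ge
  intro z
  conv_rhs => rw [← hinv, mem_map_conj]
  simp [mul_assoc]

open CfsgLib.CharP in
theorem aux {G : Type*} [Group G] [Finite G] {p : ℕ} [Fact p.Prime]
    (hG : Cfsg.IsOfParabolicCharacteristic p G) (S : Sylow p G) {G₁ : Subgroup G} (hsn : G₁.IsSubnormal)
    (hle : ((S : Subgroup G) ⊓ G₁) ⊓ Subgroup.centralizer (((S : Subgroup G) ⊓ G₁ : Subgroup G) : Set G) ≤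
      (S : Subgroup G) ⊓ Subgroup.centralizer ((S : Subgroup G) : Set G))
    {R : Subgroup G} (hRG : R ≤ G₁) (hR : IsPGroup p R) (hR1 : R ≠ ⊥)
    (hSR : (S : Subgroup G) ⊓ G₁ ≤ Subgroup.normalizer (R : Set G)) :
    Subgroup.centralizer (Cfsg.pCore p ↥(G₁ ⊓ Subgroup.normalizer (R : Set G)) :
        Set ↥(G₁ ⊓ Subgroup.normalizer (R : Set G))) ≤
      Cfsg.pCore p ↥(G₁ ⊓ Subgroup.normalizer (R : Set G)) := by
  set T := (S : Subgroup G) ⊓ G₁ with hTdef
  have hTp : IsPGroup p T := S.isPGroup'.to_le inf_le_left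
  have hRT : R ≤ T := by
    have h := CfsgLib.LocEven.eq_of_isPGroup_of_subnormal S hsn
      (le_sup_right : T ≤ R ⊔ T) (sup_le hRG inf_le_right) (IsPGroup.to_sup_of_normal_left' hR hTp hSR)
    exact le_sup_left.trans h.ge
  obtain ⟨⟨z, hzT⟩, hzR, hzc, hz1⟩ : ∃ x ∈ R.subgroupOf T, x ∈ Subgroup.center T ∧ x ≠ 1 := by
    haveI : (R.subgroupOf T).Normal := Subgroup.normal_subgroupOf_of_le_normalizer hSR
    obtain ⟨x, hx, hx'⟩ := CfsgLib.Solvable.exists_ne_one_mem_inf_center_of_normal hTp (N := R.subgroupOf T) (by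
      intro h
      rw [Subgroup.subgroupOf_eq_bot, disjoint_iff, inf_eq_left.mpr hRT] at h
      exact hR1 h)
    exact ⟨x, (Subgroup.mem_inf.mp hx).1, (Subgroup.mem_inf.mp hx).2, hx'⟩
  set Z₀ := Subgroup.zpowers z with hZ₀
  have hzR' : z ∈ R := Subgroup.mem_subgroupOf.mp hzR
  have hzTc : z ∈ T ⊓ Subgroup.centralizer (T : Set G) :=
    Subgroup.mem_inf.mpr ⟨hzT, fun y hy => congrArg Subtype.val (Subgroup.mem_center_iff.mp hzc ⟨y, hy⟩)⟩
  have hSZ : (S : Subgroup G) ≤ Subgroup.centralizer (Z₀ : Set G) := by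
    rw [Subgroup.le_centralizer_iff, hZ₀, Subgroup.zpowers_le]
    exact (hle hzTc).2
  have hchar := hG Z₀ (hR.to_le ((Subgroup.zpowers_le).mpr hzR'))
    (fun h => hz1 (Subtype.ext (Subgroup.zpowers_eq_bot.mp h)))
    ⟨S, hSZ.trans (Subgroup.centralizer_le_normalizer _)⟩
  have hC : Subgroup.centralizer (Cfsg.pCore p ↥(Subgroup.centralizer (Z₀ : Set G)) :
      Set ↥(Subgroup.centralizer (Z₀ : Set G))) ≤ Cfsg.pCore p ↥(Subgroup.centralizer (Z₀ : Set G)) := by
    refine charP_of_normal hchar (Subgroup.centralizer_le_normalizer _) ?_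
    exact (Subgroup.normal_subgroupOf_iff_le_normalizer (Subgroup.centralizer_le_normalizer _)).mp
      inferInstance
  have hX := charP_inf_subnormal hC hsn
  set X := Subgroup.centralizer (Z₀ : Set G) ⊓ G₁ with hXdef
  set N := G₁ ⊓ Subgroup.normalizer (R : Set G) with hNdef
  set Q := (Cfsg.pCore p ↥X).map X.subtype with hQdef
  have hQp : IsPGroup p Q := pCore_isPGroup'.map _
  have hZR : Z₀ ≤ R := (Subgroup.zpowers_le).mpr hzR'
  have hRX : R ≤ X := le_inf (hRT.trans (inf_le_left.trans hSZ)) hRG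
  have hRN : R ≤ (Cfsg.pCore p ↥N).map N.subtype :=
    subgroup_le_pCore_map (le_inf hRG Subgroup.le_normalizer) inf_le_right hR
  set D := G₁ ⊓ Subgroup.centralizer (R : Set G) with hDdef
  have hDX : D ≤ X := le_inf (inf_le_right.trans (Subgroup.centralizer_le hZR)) inf_le_left
  have hQD : Q ⊓ Subgroup.centralizer (R : Set G) ≤ (Cfsg.pCore p ↥N).map N.subtype := by
    refine le_trans ?_ (pCore_map_mono_of_normal (D := D)
      (inf_le_inf_left G₁ (Subgroup.centralizer_le_normalizer _))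
      ((inf_le_inf Subgroup.le_normalizer ((Subgroup.normal_subgroupOf_iff_le_normalizer
        (Subgroup.centralizer_le_normalizer _)).mp inferInstance)).trans
        Subgroup.inf_normalizer_le_normalizer_inf))
    refine subgroup_le_pCore_map (inf_le_inf_right _ ((Subgroup.map_subtype_le _).trans inf_le_right))
      ?_ (hQp.to_le inf_le_left)
    exact (le_inf (hDX.trans (le_normalizer_pCore_map X)) (inf_le_right.trans Subgroup.le_normalizer)).trans
      Subgroup.inf_normalizer_le_normalizer_inf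
  refine charP_of_coprime_trivial N fun w hw hwc hcop => ?_
  have hwD : w ∈ D := Subgroup.mem_inf.mpr ⟨(Subgroup.mem_inf.mp hw).1,
    Subgroup.mem_centralizer_iff.mpr fun r hr => hwc r (hRN hr)⟩
  have hall : ∀ u ∈ Q, u * w = w * u := pxq hR hQp (hRX.trans (le_normalizer_pCore_map X)) hcop
    (le_normalizer_pCore_map X (hDX hwD)) (fun b hb => hwc b (hRN hb))
    (fun u hu hub => hwc u (hQD (Subgroup.mem_inf.mpr ⟨hu, Subgroup.mem_centralizer_iff.mpr hub⟩)))
  exact eq_one_of_mem_pgroup hQp (mem_pCore_map_of_charP hX (hDX hwD) hall) hcop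

/-- Let p be a prime, G a finite group of parabolic characteristic p (every p-local subgroup containing a Sylow p-subgroup of G has characteristic p), S a Sylow p-subgroup of G and G₁ a subnormal subgroup of G. If the centre of S ∩ G₁ is nontrivial and contained in the centre of S, then G₁ has parabolic characteristic p. -/
theorem result {G : Type*} [Group G] [Finite G] {p : ℕ} [Fact p.Prime] (hG : Cfsg.IsOfParabolicCharacteristic p G) (S : Sylow p G) (G₁ : Subgroup G) (hsn : G₁.IsSubnormal) (hne : ((S : Subgroup G) ⊓ G₁) ⊓ Subgroup.centralizer (((S : Subgroup G) ⊓ G₁ : Subgroup G) : Set G) ≠ ⊥) (hle : ((S : Subgroup G) ⊓ G₁) ⊓ Subgroup.centralizer (((S : Subgroup G) ⊓ G₁ : Subgroup G) : Set G) ≤ (S : Subgroup G) ⊓ Subgroup.centralizer ((S : Subgroup G) : Set G)) : Cfsg.IsOfParabolicCharacteristic p ↥G₁ := by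
  intro R hR hR1 hpar
  obtain ⟨T, hT⟩ := hpar
  obtain ⟨T₀, hT₀⟩ := CfsgLib.LocEven.exists_sylow_eq_inf S hsn
  obtain ⟨g, hg⟩ := MulAction.exists_smul_eq G₁ T₀ T
  set S' : Sylow p G := (g : G) • S with hS'
  have hS'c : (S' : Subgroup G) = (S : Subgroup G).map (MulAut.conj (g : G)).toMonoidHom := rfl
  have hGfix : G₁.map (MulAut.conj (g : G)).toMonoidHom = G₁ :=
    CfsgLib.LocEven.normalizer_mem_map_eq (Subgroup.le_normalizer g.2)
  have hinf : (S' : Subgroup G) ⊓ G₁ =
      ((S : Subgroup G) ⊓ G₁).map (MulAut.conj (g : G)).toMonoidHom := by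
    rw [Subgroup.map_inf _ _ _ (MulAut.conj (g : G)).injective, hGfix, ← hS'c]
  have hle' : ((S' : Subgroup G) ⊓ G₁) ⊓ Subgroup.centralizer (((S' : Subgroup G) ⊓ G₁ : Subgroup G) : Set G) ≤
      (S' : Subgroup G) ⊓ Subgroup.centralizer ((S' : Subgroup G) : Set G) := by
    rw [hinf, hS'c, CfsgLib.LocEven.centralizer_map_conj, CfsgLib.LocEven.centralizer_map_conj,
      ← Subgroup.map_inf _ _ _ (MulAut.conj (g : G)).injective,
      ← Subgroup.map_inf _ _ _ (MulAut.conj (g : G)).injective]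
    exact Subgroup.map_mono hle
  have hSR : (S' : Subgroup G) ⊓ G₁ ≤ Subgroup.normalizer ((R.map G₁.subtype : Subgroup G) : Set G) := by
    intro x hx
    obtain ⟨hxS, hxG⟩ := Subgroup.mem_inf.mp hx
    have hxT : (⟨x, hxG⟩ : G₁) ∈ (T : Subgroup G₁) := by
      rw [← hg, Sylow.coe_subgroup_smul]
      rw [hS'c] at hxS
      obtain ⟨s, hs, hsx⟩ := hxS
      refine ⟨g⁻¹ * ⟨x, hxG⟩ * g, ?_, by simp [mul_assoc]⟩
      show g⁻¹ * ⟨x, hxG⟩ * g ∈ (T₀ : Subgroup G₁)
      rw [hT₀, Subgroup.mem_subgroupOf]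
      have : s = (g : G)⁻¹ * x * g := by rw [← hsx]; simp [mul_assoc]
      rw [this] at hs
      exact hs
    have := Subgroup.le_normalizer_map G₁.subtype ⟨_, hT hxT, rfl⟩
    exact this
  have h := aux hG S' hsn hle' (Subgroup.map_subtype_le R) (hR.map _)
    (fun h => hR1 ((Subgroup.map_eq_bot_iff_of_injective R G₁.subtype_injective).mp h)) hSR
  -- transport to `↥G₁`
  set NR := Subgroup.normalizer (R : Set G₁) with hNR
  have heq : NR.map G₁.subtype = G₁ ⊓ Subgroup.normalizer ((R.map G₁.subtype : Subgroup G) : Set G) := by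
    apply le_antisymm
    · exact le_inf (Subgroup.map_subtype_le _) (Subgroup.le_normalizer_map _)
    · intro x hx
      obtain ⟨hxG, hxN⟩ := Subgroup.mem_inf.mp hx
      refine ⟨⟨x, hxG⟩, ?_, rfl⟩
      rw [hNR, SetLike.mem_coe, Subgroup.mem_normalizer_iff]
      intro n
      have := Subgroup.mem_normalizer_iff.mp hxN n
      constructor
      · intro hn
        obtain ⟨m, hm, hmn⟩ := this.mp ⟨n, hn, rfl⟩
        have : m = ⟨x, hxG⟩ * n * ⟨x, hxG⟩⁻¹ := Subtype.ext hmn
        exact this ▸ hm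
      · intro hn
        obtain ⟨m, hm, hmn⟩ := this.mpr ⟨_, hn, rfl⟩
        have : m = n := Subtype.ext hmn
        exact this ▸ hm
  rw [← heq] at h
  let e : ↥NR ≃* ↥(NR.map G₁.subtype) := NR.equivMapOfInjective _ G₁.subtype_injective
  intro x hx
  have hcore := CfsgLib.Solvable.map_pCore_mulEquiv (p := p) e
  have hmem : e x ∈ Cfsg.pCore p ↥(NR.map G₁.subtype) := by
    refine h (Subgroup.mem_centralizer_iff.mpr fun y hy => ?_)
    rw [SetLike.mem_coe, ← hcore] at hy
    obtain ⟨z, hz, rfl⟩ := hy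
    show e z * e x = e x * e z
    rw [← map_mul, ← map_mul, Subgroup.mem_centralizer_iff.mp hx z hz]
  rw [← hcore] at hmem
  obtain ⟨z, hz, hzx⟩ := hmem
  exact e.injective hzx ▸ hz


end Cfsg.Agent.S3023
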