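import Cfsg.Statements.S3025
import Cfsg.Agent.Lib.PGroup.CyclicMaximal
import Cfsg.Agent.Lib.Solvable.UniqueInvolution
import Mathlib.GroupTheory.SpecificGroups.Cyclic
import Mathlib.RingTheory.IntegralDomain

set_option autoImplicit false
open Cfsg

namespace Cfsg.Agent.S3025

open Subgroup

/-- A cyclic quotient is generated by one element over the kernel. -/
theorem exists_sup_zpowers_eq_top {F : Type*} [Group F] (C : Subgroup F) [C.Normal]
    (h : IsCyclic (F ⧸ C)) : ∃ g : F, C ⊔ zpowers g = ⊤ := by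
  obtain ⟨q, hq⟩ := h.exists_generator
  obtain ⟨g, rfl⟩ := QuotientGroup.mk'_surjective C q
  refine ⟨g, eq_top_iff.2 fun y _ => ?_⟩
  obtain ⟨k, hk⟩ := mem_zpowers_iff.1 (hq (QuotientGroup.mk' C y))
  rw [← map_zpow] at hk
  have := QuotientGroup.eq.1 hk
  have e : y = g ^ k * ((g ^ k)⁻¹ * y) := by group
  rw [e]
  exact mul_mem (mem_sup_right (zpow_mem (mem_zpowers g) k)) (mem_sup_left this)

/-- Let F be a finite group and H a nontrivial subgroup of F that is contained in every nontrivial subgroup of F which H normalizes. Then F has a nontrivial normal subgroup N contained in every nontrivial normal subgroup of F (a unique minimal normal subgroup), N is simple, and one of the following holds: C_F(N) = 1; or H = N has prime order p, C_F(N) is cyclic of order a power of p, and F/C_F(N) is cyclic of order dividing p − 1; or H = N has order 2, N is central in F, and F is a generalized quaternion group. -/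
theorem result {F : Type*} [Group F] [Finite F] (H : Subgroup F) (hH : H ≠ ⊥)
    (hmin : ∀ R : Subgroup F, R ≠ ⊥ → H ≤ Subgroup.normalizer (R : Set F) → H ≤ R) :
    ∃ N : Subgroup F, N.Normal ∧ N ≠ ⊥ ∧ (∀ M : Subgroup F, M.Normal → M ≠ ⊥ → N ≤ M) ∧ IsSimpleGroup ↥N ∧
      (Subgroup.centralizer (N : Set F) = ⊥ ∨
       (H = N ∧ (Nat.card N).Prime ∧ IsCyclic ↥(Subgroup.centralizer (N : Set F)) ∧
          (∃ k : ℕ, 1 ≤ k ∧ Nat.card ↥(Subgroup.centralizer (N : Set F)) = Nat.card N ^ k) ∧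
          (∃ g : F, Subgroup.centralizer (N : Set F) ⊔ Subgroup.zpowers g = ⊤) ∧
          (Subgroup.centralizer (N : Set F)).index ∣ Nat.card N - 1) ∨
       (H = N ∧ Nat.card N = 2 ∧ Subgroup.centralizer (N : Set F) = ⊤ ∧
          ∃ k : ℕ, 1 ≤ k ∧ Nonempty (F ≃* QuaternionGroup (2 ^ k)))) := by
  haveI hF : Nontrivial F := by
    by_contra h
    rw [not_nontrivial_iff_subsingleton] at h
    exact hH (Subsingleton.elim _ _)
  have hHn : ∀ M : Subgroup F, M.Normal → M ≠ ⊥ → H ≤ M := fun M hM hM1 =>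
    hmin M hM1 (normalizer_eq_top_iff.2 hM ▸ le_top)
  obtain ⟨N, hN, hNmin⟩ := (Set.toFinite {N : Subgroup F | N.Normal ∧ N ≠ ⊥}).exists_minimal
    ⟨⊤, inferInstance, top_ne_bot⟩
  obtain ⟨hNn, hN1⟩ := hN
  have huniq : ∀ M : Subgroup F, M.Normal → M ≠ ⊥ → N ≤ M := fun M hM hM1 =>
    le_trans (hNmin (y := M ⊓ N) ⟨inferInstance, fun h => hH (le_bot_iff.1
      (h ▸ le_inf (hHn M hM hM1) (hHn N hNn hN1)))⟩ inf_le_right) inf_le_left
  have hHN : H ≤ N := hHn N hNn hN1
  haveI : Nontrivial N := (Subgroup.nontrivial_iff_ne_bot _).2 hN1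
  have hchar : ∀ K : Subgroup N, K.Characteristic → K = ⊥ ∨ K = ⊤ := by
    intro K hK
    refine or_iff_not_imp_left.2 fun hK1 => eq_top_iff.2 fun x _ => ?_
    have h := huniq (K.map N.subtype) (ConjAct.normal_of_characteristic_of_normal)
      (fun h => hK1 ((map_eq_bot_iff_of_injective _ N.subtype_injective).1 h))
    obtain ⟨y, hy, hyx⟩ := h x.2
    rwa [← Subtype.ext hyx]
  refine ⟨N, hNn, hN1, huniq, ?_⟩
  set C := centralizer (N : Set F) with hC
  by_cases hC1 : C = ⊥
  · refine ⟨⟨fun K hK => ?_⟩, Or.inl hC1⟩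
    refine or_iff_not_imp_left.2 fun hK1 => ?_
    have hinv : H ≤ normalizer ((K.map N.subtype : Subgroup F) : Set F) :=
      hHN.trans ((le_of_eq (by rw [normalizer_eq_top_iff.2 hK, ← MonoidHom.range_eq_map,
        range_subtype])).trans (le_normalizer_map N.subtype))
    have hne : K.map N.subtype ≠ ⊥ := fun h =>
      hK1 ((map_eq_bot_iff_of_injective _ N.subtype_injective).1 h)
    have hHK := hmin _ hne hinv
    -- the normal closure of `H` in `N` lies in every such `K`; take a minimal one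
    by_contra hKt
    obtain ⟨K₀, ⟨hK₀, hK₀1⟩, hK₀min⟩ :=
      (Set.toFinite {L : Subgroup N | L.Normal ∧ L ≠ ⊥}).exists_minimal ⟨⊤, inferInstance, top_ne_bot⟩
    have hone : ∀ L : Subgroup N, L.Normal → L ≠ ⊥ → K₀ ≤ L := fun L hL hL1 => by
      refine le_trans (hK₀min (y := L ⊓ K₀) ⟨inferInstance, fun h => hH (le_bot_iff.1 ?_)⟩
        inf_le_right) inf_le_left
      rw [← map_bot N.subtype, ← h, map_inf _ _ _ N.subtype_injective]
      refine le_inf (hmin _ ?_ ?_) (hmin _ ?_ ?_)
      · exact fun h => hL1 ((map_eq_bot_iff_of_injective _ N.subtype_injective).1 h)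
      · exact hHN.trans ((le_of_eq (by rw [normalizer_eq_top_iff.2 hL, ← MonoidHom.range_eq_map,
          range_subtype])).trans (le_normalizer_map N.subtype))
      · exact fun h => hK₀1 ((map_eq_bot_iff_of_injective _ N.subtype_injective).1 h)
      · exact hHN.trans ((le_of_eq (by rw [normalizer_eq_top_iff.2 hK₀, ← MonoidHom.range_eq_map,
          range_subtype])).trans (le_normalizer_map N.subtype))
    have hK₀c : K₀.Characteristic := characteristic_iff_le_map.2 fun e => hone _
      (hK₀.map e.toMonoidHom e.surjective)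
      (fun h => hK₀1 ((map_eq_bot_iff_of_injective _ (f := e.toMonoidHom) e.injective).1 h))
    exact hKt (eq_top_iff.2 (le_of_eq_of_le ((hchar K₀ hK₀c).resolve_left hK₀1).symm
      (hone K hK hK1)))
  -- `C ≠ ⊥`: `H = N` has prime order
  have hNC : N ≤ C := huniq C inferInstance hC1
  have hcenN : ∀ R ≤ C, H ≤ normalizer (R : Set F) := fun R hR h hh =>
    centralizer_le_normalizer _ fun r hr => ((hR hr) h (hHN hh)).symm
  obtain ⟨p, hp, hdvd⟩ := Nat.exists_prime_and_dvd
    (fun h => hH (Subgroup.card_eq_one.1 h) : Nat.card H ≠ 1)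
  haveI := Fact.mk hp
  obtain ⟨x, hx⟩ := exists_prime_orderOf_dvd_card' p hdvd
  have hxo : orderOf (x : F) = p := by rwa [orderOf_coe]
  have hx1 : (x : F) ≠ 1 := fun h => hp.ne_one (by rw [← hxo, h, orderOf_one])
  have hxC : (x : F) ∈ C := hNC (hHN x.2)
  have hHx : H = zpowers (x : F) := le_antisymm
    (hmin _ (zpowers_ne_bot.2 hx1) (hcenN _ (zpowers_le.2 hxC))) (zpowers_le.2 x.2)
  have hHp : Nat.card H = p := by rw [hHx, Nat.card_zpowers, hxo]
  have hyH : ∀ y ∈ C, y ≠ 1 → H ≤ zpowers y := fun y hy hy1 =>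
    hmin _ (zpowers_ne_bot.2 hy1) (hcenN _ (zpowers_le.2 hy))
  have hCp : IsPGroup p C := by
    refine IsPGroup.of_card (n := (Nat.card C).primeFactorsList.length)
      (Nat.eq_prime_pow_of_unique_prime_dvd Nat.card_pos.ne' fun {r} hr hrC => ?_)
    haveI := Fact.mk hr
    obtain ⟨y, hy⟩ := exists_prime_orderOf_dvd_card' r hrC
    have hy1 : (y : F) ≠ 1 := fun h => hr.ne_one (by rw [← hy, ← orderOf_coe, h, orderOf_one])
    have h := card_dvd_of_le (hyH y y.2 hy1)
    rw [hHp, Nat.card_zpowers, orderOf_coe, hy] at h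
    exact ((Nat.prime_dvd_prime_iff_eq hp hr).1 h).symm
  have hyeq : ∀ y ∈ C, y ^ p = 1 → y ≠ 1 → zpowers y = H := fun y hy hyp hy1 => by
    refine (Subgroup.eq_of_le_of_card_ge (hyH y hy hy1) (le_of_eq ?_)).symm
    rw [hHp, Nat.card_zpowers, orderOf_eq_prime hyp hy1]
  have hHnorm : H.Normal := by
    refine ⟨fun h hh g => ?_⟩
    by_cases h1 : h = 1
    · subst h1; simp
    have hC' : g * h * g⁻¹ ∈ C := (inferInstance : C.Normal).conj_mem h (hNC (hHN hh)) g
    have hpow : (g * h * g⁻¹) ^ p = 1 := by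
      rw [conj_pow, ← hHp, ← SubgroupClass.coe_pow (⟨h, hh⟩ : H), pow_card_eq_one', coe_one,
        mul_one, mul_inv_cancel]
    exact hyeq _ hC' hpow (fun e => h1 (by simpa using e)) ▸ mem_zpowers _
  have hHeq : H = N := le_antisymm hHN (huniq H hHnorm hH)
  have hNp : Nat.card N = p := hHeq ▸ hHp
  haveI : IsSimpleGroup N := isSimpleGroup_of_prime_card hNp
  refine ⟨inferInstance, Or.inr ?_⟩
  haveI : IsCyclic N := isCyclic_of_prime_card hNp
  -- the action on `N`
  let φ : F →* MulAut N := MulAut.conjNormal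
  have hker : φ.ker = C := by
    ext g
    rw [MonoidHom.mem_ker, MulEquiv.ext_iff]
    refine ⟨fun h n hn => ?_, fun h n => Subtype.ext ?_⟩
    · have := congrArg Subtype.val (h ⟨n, hn⟩)
      simp only [φ, MulAut.conjNormal_apply, MulAut.one_apply] at this
      exact (mul_inv_eq_iff_eq_mul.1 this).symm
    · simp only [φ, MulAut.conjNormal_apply, MulAut.one_apply]
      rw [mul_inv_eq_iff_eq_mul]
      exact (h n n.2).symm
  let emb : F ⧸ C →* MulAut N := QuotientGroup.lift C φ hker.ge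
  have hemb : Function.Injective emb := by
    rw [injective_iff_map_eq_one]
    intro q hq
    obtain ⟨g, rfl⟩ := QuotientGroup.mk'_surjective C q
    exact (QuotientGroup.eq_one_iff g).2 (hker ▸ hq)
  have hcycQ : IsCyclic (F ⧸ C) := by
    have e := IsCyclic.mulAutMulEquiv N
    rw [hNp] at e
    haveI : IsCyclic (ZMod p)ˣ := inferInstance
    exact isCyclic_of_injective (e.toMonoidHom.comp emb) (e.injective.comp hemb)
  have hidx : C.index ∣ Nat.card N - 1 := by
    have h := Subgroup.card_dvd_of_injective emb hemb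
    rw [Nat.card_congr (IsCyclic.mulAutMulEquiv N).toEquiv, hNp, Nat.card_eq_fintype_card (α := (ZMod p)ˣ),
      ZMod.card_units_eq_totient, Nat.totient_prime hp] at h
    rw [hNp]
    exact h
  have hunq : ∀ a b : C, a ^ p = 1 → a ≠ 1 → b ^ p = 1 → b ∈ zpowers a := by
    intro a b ha ha1 hb
    by_cases hb1 : b = 1
    · rw [hb1]; exact one_mem _
    have h1 := hyeq a a.2 (congrArg Subtype.val ha) (fun h => ha1 (Subtype.ext h))
    have h2 := hyeq b b.2 (congrArg Subtype.val hb) (fun h => hb1 (Subtype.ext h))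
    obtain ⟨k, hk⟩ := mem_zpowers_iff.1 ((h1.trans h2.symm) ▸ mem_zpowers (b : F))
    exact ⟨k, Subtype.ext (by simpa using hk)⟩
  obtain ⟨k, hk⟩ := hCp.exists_card_eq
  have hk1 : 1 ≤ k := by
    refine Nat.one_le_iff_ne_zero.2 fun h0 => hC1 (Subgroup.card_eq_one.1 ?_)
    rw [hk, h0, pow_zero]
  have cyclicCase : IsCyclic C →
      (H = N ∧ (Nat.card N).Prime ∧ IsCyclic ↥C ∧
        (∃ k : ℕ, 1 ≤ k ∧ Nat.card ↥C = Nat.card N ^ k) ∧
        (∃ g : F, C ⊔ zpowers g = ⊤) ∧ C.index ∣ Nat.card N - 1) := fun h => ⟨hHeq, hNp.symm ▸ hp, h,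
    ⟨k, hk1, by rw [hNp, hk]⟩, exists_sup_zpowers_eq_top C hcycQ, hidx⟩
  rcases eq_or_ne p 2 with h2 | h2
  · subst h2
    have hCtop : C = ⊤ := by
      rw [hNp] at hidx
      exact index_eq_one.1 (Nat.dvd_one.1 hidx)
    rcases CfsgLib.Solvable.isCyclic_or_quaternion_of_unique_involution hCp (fun u v hu hu1 hv hv1 => by
      have h1 := hyeq u u.2 (congrArg Subtype.val hu) (fun h => hu1 (Subtype.ext h))
      have hm : (v : F) ∈ zpowers (u : F) := by
        rw [h1, ← hyeq v v.2 (congrArg Subtype.val hv) (fun h => hv1 (Subtype.ext h))]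
        exact mem_zpowers _
      obtain ⟨j, hj⟩ := mem_zpowers_iff.1 hm
      have hu' : u ^ (2 : ℤ) = 1 := by exact_mod_cast hu
      have hvj : v = u ^ j := Subtype.ext (by simpa using hj.symm)
      rcases Int.even_or_odd' j with ⟨i, rfl | rfl⟩
      · exact absurd (by rw [hvj, zpow_mul, hu', one_zpow]) hv1
      · rw [hvj, zpow_add, zpow_mul, hu', one_zpow, one_mul, zpow_one]) with h | ⟨m, ⟨e⟩⟩
    · exact Or.inl (cyclicCase h)
    · by_cases hm : m = 0
      · have : IsCyclic (QuaternionGroup (2 ^ m)) := by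
          subst hm; exact QuaternionGroup.quaternionGroup_one_isCyclic
        exact Or.inl (cyclicCase (isCyclic_of_surjective e.symm.toMonoidHom e.symm.surjective))
      exact Or.inr ⟨hHeq, hNp, hCtop, m, Nat.one_le_iff_ne_zero.2 hm,
        ⟨(Subgroup.topEquiv.symm.trans (MulEquiv.subgroupCongr hCtop.symm)).trans e⟩⟩
  · exact Or.inl (cyclicCase (CfsgLib.PGroup.isCyclic_of_unique_order_prime h2 hCp hunq))

end Cfsg.Agent.S3025
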