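import Cfsg.Statements.S3027
import Mathlib.GroupTheory.IsSubnormal
import Mathlib.Algebra.Group.Subgroup.Finite
import Mathlib.Data.Set.Finite.Lemmas

set_option autoImplicit false
open Cfsg
open scoped commutatorElement

namespace Cfsg.Agent.S3027

/-- Let G be a finite group and D a normal subgroup of G such that G/D is perfect (that is, G = G′D). Then among the subnormal subgroups B of G with BD = G there is a least one, and it is normal in G. -/
theorem result {G : Type*} [Group G] [Finite G] (D : Subgroup G) [D.Normal] (hperf : ⁅(⊤ : Subgroup G), (⊤ : Subgroup G)⁆ ⊔ D = ⊤) :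
    ∃ B : Subgroup G, B.Normal ∧ B ⊔ D = ⊤ ∧ ∀ B' : Subgroup G, B'.IsSubnormal → B' ⊔ D = ⊤ → B ≤ B' := by
  classical
  have hcomm : ∀ H K : Subgroup G, H ⊔ D = ⊤ → K ⊔ D = ⊤ → ⁅H, K⁆ ⊔ D = ⊤ := by
    intro H K hH hK
    let q := QuotientGroup.mk' D
    have hq : ∀ L : Subgroup G, L ⊔ D = ⊤ → L.map q = ⊤ := by
      intro L hL
      have h := congrArg (Subgroup.map q) hL
      rw [Subgroup.map_sup, Subgroup.map_top_of_surjective q (QuotientGroup.mk'_surjective D),
        QuotientGroup.map_mk'_self, sup_bot_eq] at h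
      exact h
    have h3 : ⁅H, K⁆.map q = ⊤ := by
      rw [Subgroup.map_commutator, hq H hH, hq K hK]
      have h := hq _ hperf
      rw [Subgroup.map_commutator,
        Subgroup.map_top_of_surjective q (QuotientGroup.mk'_surjective D)] at h
      exact h
    have h4 := congrArg (Subgroup.comap q) h3
    rw [Subgroup.comap_map_eq, QuotientGroup.ker_mk', Subgroup.comap_top] at h4
    exact h4
  have mono : ∀ {H K : Subgroup G}, H ≤ K → H ⊔ D = ⊤ → K ⊔ D = ⊤ :=
    fun hle h => top_le_iff.mp (h.ge.trans (sup_le_sup_right hle D))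
  -- two subnormal supplements meet in a supplement
  have main : ∀ B₁ : Subgroup G, B₁.IsSubnormal → B₁ ⊔ D = ⊤ →
      ∀ B₂ : Subgroup G, B₂.IsSubnormal → B₂ ⊔ D = ⊤ → (B₁ ⊓ B₂) ⊔ D = ⊤ := by
    intro B₁ hs1
    induction hs1 with
    | top => intro _ B₂ _ h2; rw [top_inf_eq]; exact h2
    | step H K hle hK hN outer =>
      intro h1 B₂ hs2
      induction hs2 with
      | top => intro _; rw [inf_top_eq]; exact h1
      | step H₂ K₂ hle₂ hK₂ hN₂ inner =>
        intro h2
        have ha := inner (mono hle₂ h2)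
        have hb := outer (mono hle h1) H₂ (Subgroup.IsSubnormal.step H₂ K₂ hle₂ hK₂ hN₂) h2
        refine mono ?_ (hcomm _ _ ha hb)
        rw [Subgroup.commutator_le]
        intro x hx y hy
        rw [commutatorElement_def]
        refine Subgroup.mem_inf.mpr ⟨?_, ?_⟩

        · have : y * x⁻¹ * y⁻¹ ∈ H :=
            (Subgroup.normal_subgroupOf_iff hle).mp hN x⁻¹ y (inv_mem (Subgroup.mem_inf.mp hx).1) (Subgroup.mem_inf.mp hy).1
          simpa [mul_assoc] using mul_mem (Subgroup.mem_inf.mp hx).1 this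
        · exact mul_mem ((Subgroup.normal_subgroupOf_iff hle₂).mp hN₂ y x (Subgroup.mem_inf.mp hy).2 (Subgroup.mem_inf.mp hx).2) (inv_mem (Subgroup.mem_inf.mp hy).2)
  obtain ⟨B, ⟨hBs, hBD⟩, hmin⟩ := Set.exists_min_image
    {B : Subgroup G | B.IsSubnormal ∧ B ⊔ D = ⊤} (fun B => Nat.card B) (Set.toFinite _)
    ⟨⊤, Subgroup.IsSubnormal.top, top_sup_eq _⟩
  have hle : ∀ B' : Subgroup G, B'.IsSubnormal → B' ⊔ D = ⊤ → B ≤ B' := by
    intro B' hs' hB'
    have h := Subgroup.eq_of_le_of_card_ge (inf_le_left : B ⊓ B' ≤ B)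
      (hmin _ ⟨hBs.inf hs', main B hBs hBD B' hs' hB'⟩)
    exact h ▸ inf_le_right
  refine ⟨B, ⟨fun n hn g => ?_⟩, hBD, hle⟩
  have hf : Function.Surjective (MulAut.conj g⁻¹).toMonoidHom := (MulAut.conj g⁻¹).surjective
  have hD : B.map (MulAut.conj g⁻¹).toMonoidHom ⊔ D = ⊤ := by
    have h := congrArg (Subgroup.map (MulAut.conj g⁻¹).toMonoidHom) hBD
    rw [Subgroup.map_sup, Subgroup.map_top_of_surjective _ hf] at h
    refine top_le_iff.mp (h.ge.trans (sup_le_sup_left ?_ _))
    rintro _ ⟨d, hd, rfl⟩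
    exact (inferInstance : D.Normal).conj_mem d hd g⁻¹
  obtain ⟨m, hm, hmn⟩ := hle _ (hBs.map hf) hD hn
  have : g * n * g⁻¹ = m := by
    rw [← hmn]
    simp [mul_assoc]
  rw [this]
  exact hm

end Cfsg.Agent.S3027
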