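import Cfsg.Statements.S3031
import Cfsg.Agent.Lib.Case.HSubgroups

set_option autoImplicit false
open Cfsg

namespace Cfsg.Agent.S3031

/-- Let G be a finite group, p the smallest prime dividing |G| and P a Sylow p-subgroup. Suppose that P is cyclic, or that P has a subgroup D with 1 < |D| < |P| such that every subgroup E of P of order |D|, and also every subgroup E of P of order 4 when |D| = 2, satisfies g E g⁻¹ ∩ N_G(E) ≤ E for all g ∈ G (E is strongly closed in its normalizer with respect to G). Then G has a normal p-complement. -/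
theorem result {G : Type*} [Group G] [Finite G] {p : ℕ} [Fact p.Prime] (hdiv : p ∣ Nat.card G)
    (hmin : ∀ q : ℕ, q.Prime → q ∣ Nat.card G → p ≤ q) (P : Sylow p G)
    (h : IsCyclic ↥(P : Subgroup G) ∨ ∃ D : Subgroup G, D ≤ (P : Subgroup G) ∧ 1 < Nat.card D ∧ Nat.card D < Nat.card (P : Subgroup G) ∧
      ∀ E : Subgroup G, E ≤ (P : Subgroup G) → (Nat.card E = Nat.card D ∨ (Nat.card D = 2 ∧ Nat.card E = 4)) →
        ∀ g : G, E.map (MulAut.conj g).toMonoidHom ⊓ Subgroup.normalizer (E : Set G) ≤ E) :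
    Cfsg.HasNormalPComplement p G := by
  rcases h with hcyc | ⟨D, hDP, hD1, hDlt, hE⟩
  · haveI := hcyc
    have hpm : p = (Nat.card G).minFac := by
      have h1 : (Nat.card G).minFac ≤ p := Nat.minFac_le_of_dvd (Fact.out : p.Prime).two_le hdiv
      have hne : Nat.card G ≠ 1 := fun h => (Fact.out : p.Prime).one_lt.not_ge
        (Nat.le_of_dvd one_pos (h ▸ hdiv))
      exact le_antisymm (hmin _ (Nat.minFac_prime hne) (Nat.minFac_dvd _)) h1
    have hNC := IsCyclic.normalizer_le_centralizer hpm.symm hcyc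
    exact ⟨P, _, inferInstance, MonoidHom.ker_transferSylow_isComplement' P hNC⟩
  · obtain ⟨k, hk⟩ := IsPGroup.iff_card.1 P.2
    obtain ⟨m, hmk, hm⟩ := (Nat.dvd_prime_pow (Fact.out : p.Prime)).1
      (hk ▸ Subgroup.card_dvd_of_le hDP)
    have hm1 : 1 ≤ m := by
      by_contra h
      rw [hm, show m = 0 by omega, pow_zero] at hD1
      exact lt_irrefl _ hD1
    have hmlt : m < k := by
      rw [hm, hk] at hDlt
      exact (Nat.pow_lt_pow_iff_right (Fact.out : p.Prime).one_lt).1 hDlt
    refine CfsgLib.Case.hasNormalPComplement_of_closedInNormalizer hmin P hm1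
      (hk ▸ pow_dvd_pow p hmlt) fun E hEP hEc => ?_
    exact hE E hEP (hm ▸ hEc)

end Cfsg.Agent.S3031
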