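import Cfsg.Statements.S3033
import Cfsg.Agent.S0579
import Cfsg.Agent.Lib.Supersolvable.Tower
import Cfsg.Agent.Lib.SmallOrder.Frobenius

set_option autoImplicit false
open Cfsg

namespace Cfsg.Agent.S3033

open Subgroup

universe u

/-- A finite group all of whose proper subgroups are supersolvable is solvable. -/
theorem isSolvable_of_proper {G : Type u} [Group G] [Finite G]
    (h : ∀ H : Subgroup G, H ≠ ⊤ → Cfsg.IsSupersolvable H)
    (hsol : ∀ H : Subgroup G, H ≠ ⊤ → Group.IsSolvable H) : Group.IsSolvable G := by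
  rcases subsingleton_or_nontrivial G with h' | h'
  · infer_instance
  have hone : Nat.card G ≠ 1 := fun e => absurd (Finite.one_lt_card (α := G)) (by omega)
  set p := (Nat.card G).minFac with hp
  have hpp : p.Prime := Nat.minFac_prime hone
  haveI := Fact.mk hpp
  by_cases hct : CfsgLib.SmallOrder.CoprimeTrivial p G
  · obtain ⟨P, N, hN, hNP⟩ := CfsgLib.SmallOrder.hasNormalPComplement_of_coprimeTrivial hct
    haveI := hN
    have hne : N ≠ ⊤ := by
      intro e
      have h2 := hNP.symm.index_eq_card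
      rw [e, index_top] at h2
      exact P.ne_bot_of_dvd_card (Nat.minFac_dvd _) (Subgroup.card_eq_one.1 h2.symm)
    haveI := hsol N hne
    haveI := P.2.isNilpotent
    haveI : Group.IsSolvable (P : Subgroup G) := inferInstance
    exact (Group.isSolvable_iff_subgroup_quotient N).2 ⟨inferInstance,
      Group.isSolvable_of_surjective (f := hNP.symm.QuotientMulEquiv.symm.toMonoidHom)
        (MulEquiv.surjective _)⟩
  · simp only [CfsgLib.SmallOrder.CoprimeTrivial] at hct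
    push Not at hct
    obtain ⟨Q, hQ, x, hx, hxp, q, hq, hnc⟩ := hct
    haveI := hQ.isNilpotent
    by_cases htop : Q ⊔ zpowers x = ⊤
    · haveI : Q.Normal := by
        rw [← normalizer_eq_top_iff, eq_top_iff, ← htop]
        exact sup_le le_normalizer (zpowers_le.2 hx)
      haveI : IsCyclic (G ⧸ Q) := by
        refine ⟨QuotientGroup.mk x, fun y => ?_⟩
        obtain ⟨g, rfl⟩ := QuotientGroup.mk'_surjective Q y
        have hg : g ∈ Q ⊔ zpowers x := htop ▸ mem_top g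
        obtain ⟨a, ha, b, ⟨i, rfl⟩, rfl⟩ := mem_sup_of_normal_left.1 hg
        refine ⟨i, ?_⟩
        rw [map_mul, map_zpow]
        show (QuotientGroup.mk x : G ⧸ Q) ^ i = QuotientGroup.mk' Q a * _
        rw [(QuotientGroup.eq_one_iff a).2 ha |> fun e => (show QuotientGroup.mk' Q a = 1 from e),
          one_mul]
        rfl
      exact (Group.isSolvable_iff_subgroup_quotient Q).2 ⟨inferInstance,
        Group.isSolvable_of_comm fun a b => IsCyclic.commutative.is_comm.comm a b⟩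
    · exfalso
      set H := Q ⊔ zpowers x with hH
      have hQH : Q ≤ H := le_sup_left
      have hxH : x ∈ H := mem_sup_right (mem_zpowers x)
      have h1 := Cfsg.Agent.S0579.pow_commute H p (Q.subgroupOf H) hpp
        (normal_subgroupOf_of_le_normalizer (sup_le le_normalizer (zpowers_le.2 hx)))
        (hQ.comap_of_injective H.subtype H.subtype_injective) (h H htop) ⟨x, hxH⟩
        (by rwa [orderOf_mk]) ⟨q, hQH hq⟩ hq
      have h2 : x ^ (p - 1) * q = q * x ^ (p - 1) := congrArg Subtype.val h1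
      have hcop : (p - 1).Coprime (orderOf x) := Nat.coprime_of_dvd fun r hr hr1 hr2 => by
        have h3 : p ≤ r := Nat.minFac_le_of_dvd hr.two_le (hr2.trans (orderOf_dvd_natCard x))
        have := hpp.two_le
        have h4 : r ≤ p - 1 := Nat.le_of_dvd (by omega) hr1
        omega
      obtain ⟨j, hj⟩ := exists_pow_eq_self_of_coprime hcop
      exact hnc (hj ▸ (show Commute (x ^ (p - 1)) q from h2).pow_left j)

variable {G : Type*} [Group G] [Finite G] {N : Subgroup G} {q : ℕ}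

/-- In an elementary abelian group a map fixing every cyclic subgroup is a power map. -/
theorem exists_pow_of_cyclic_invariant (hq : q.Prime) (hNc : ∀ a ∈ N, ∀ b ∈ N, Commute a b)
    (hNq : ∀ a ∈ N, a ^ q = 1) (W : Subgroup G) (hW : W ≤ N) (x : G)
    (h : ∀ w ∈ W, x * w * x⁻¹ ∈ zpowers w) : ∃ j : ℤ, ∀ w ∈ W, x * w * x⁻¹ = w ^ j := by
  rcases W.bot_or_exists_ne_one with hb | ⟨w, hw, hw1⟩
  · exact ⟨0, fun u hu => by rw [hb, mem_bot] at hu; simp [hu]⟩
  obtain ⟨j, hj⟩ := mem_zpowers_iff.1 (h w hw)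
  haveI := Fact.mk hq
  have hord : ∀ a ∈ N, a ≠ 1 → orderOf a = q := fun a ha ha1 => orderOf_eq_prime (hNq a ha) ha1
  refine ⟨j, fun u hu => ?_⟩
  by_cases huw : u ∈ zpowers w
  · obtain ⟨i, rfl⟩ := mem_zpowers_iff.1 huw
    rw [← conj_zpow, ← hj, ← zpow_mul, ← zpow_mul, mul_comm]
  obtain ⟨k, hk⟩ := mem_zpowers_iff.1 (h u hu)
  obtain ⟨l, hl⟩ := mem_zpowers_iff.1 (h (w * u) (mul_mem hw hu))
  have hc := hNc w (hW hw) u (hW hu)
  rw [hc.mul_zpow, show x * (w * u) * x⁻¹ = (x * w * x⁻¹) * (x * u * x⁻¹) by group, ← hj, ← hk] at hl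
  have e : u ^ (l - k) = w ^ (j - l) := by
    rw [zpow_sub, zpow_sub]
    calc u ^ l * (u ^ k)⁻¹ = (w ^ l)⁻¹ * (w ^ l * u ^ l) * (u ^ k)⁻¹ := by group
      _ = (w ^ l)⁻¹ * (w ^ j * u ^ k) * (u ^ k)⁻¹ := by rw [hl]
      _ = _ := by group
  have hd : (q : ℤ) ∣ l - k := by
    by_contra hd
    obtain ⟨a, b, hab⟩ : IsCoprime (q : ℤ) (l - k) :=
      (Prime.coprime_iff_not_dvd (Nat.prime_iff_prime_int.1 hq)).2 hd
    refine huw ?_
    have e2 : u = (w ^ (j - l)) ^ b := by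
      rw [← e, ← zpow_mul]
      conv_lhs => rw [← zpow_one u, ← hab, zpow_add, mul_comm a, zpow_mul, zpow_natCast,
        hNq u (hW hu), one_zpow, one_mul, mul_comm b]
    rw [e2, ← zpow_mul]
    exact zpow_mem (mem_zpowers w) _
  have hu0 : u ^ (l - k) = 1 := by
    obtain ⟨c, hc⟩ := hd
    rw [hc, zpow_mul, zpow_natCast, hNq u (hW hu), one_zpow]
  have hwd : (q : ℤ) ∣ j - l := by
    rw [← hord w (hW hw) hw1, orderOf_dvd_iff_zpow_eq_one, ← e, hu0]
  rw [← hk]
  rw [zpow_eq_zpow_iff_modEq]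
  by_cases hu1 : u = 1
  · simp [hu1, Int.ModEq]
  rw [hord u (hW hu) hu1, Int.modEq_iff_dvd]
  have : j - k = (j - l) + (l - k) := by ring
  rw [this]
  refine dvd_add hwd ?_
  rw [← hord u (hW hu) hu1, orderOf_dvd_iff_zpow_eq_one]
  exact hu0

/-- Let G be a finite group such that for every pair of distinct primes p and q, every p-element x and every q-element g of G, the order of the subgroup generated by x and g x g⁻¹ is not divisible by q². Then G is supersolvable. -/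
theorem result {G : Type*} [Group G] [Finite G]
    (h : ∀ (p q : ℕ), p.Prime → q.Prime → p ≠ q → ∀ (x g : G), (∃ a : ℕ, orderOf x = p ^ a) → (∃ b : ℕ, orderOf g = q ^ b) →
      ¬ q ^ 2 ∣ Nat.card ↥(Subgroup.zpowers x ⊔ Subgroup.zpowers (g * x * g⁻¹))) :
    Cfsg.IsSupersolvable G := by
  revert h
  refine CfsgLib.Supersolvable.groupInduction (P := fun G _ _ => (∀ (p q : ℕ), p.Prime → q.Prime →
    p ≠ q → ∀ (x g : G), (∃ a : ℕ, orderOf x = p ^ a) → (∃ b : ℕ, orderOf g = q ^ b) →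
      ¬ q ^ 2 ∣ Nat.card ↥(Subgroup.zpowers x ⊔ Subgroup.zpowers (g * x * g⁻¹))) →
    Cfsg.IsSupersolvable G) (fun G _ _ ih h => ?_) G
  rcases subsingleton_or_nontrivial G with h' | h'
  · exact CfsgLib.Supersolvable.of_subsingleton
  have hsub : ∀ H : Subgroup G, H ≠ ⊤ → Cfsg.IsSupersolvable H := by
    intro H hH
    refine ih H ?_ fun p q hp hq hpq x g hx hg hd => ?_
    · exact lt_of_le_of_ne H.card_le_card_group fun e => hH (eq_top_of_card_eq H e)
    · refine h p q hp hq hpq x g (by rwa [orderOf_coe]) (by rwa [orderOf_coe]) ?_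
      refine hd.trans (dvd_of_eq ?_)
      rw [← card_subtype H (zpowers x ⊔ zpowers (g * x * g⁻¹)), Subgroup.map_sup,
        MonoidHom.map_zpowers, MonoidHom.map_zpowers]
      rfl
  haveI hsolG : Group.IsSolvable G := isSolvable_of_proper hsub fun H hH => by
    obtain ⟨n, K, h0, hn, hnorm, hstep⟩ := hsub H hH
    suffices h : ∀ i : Fin (n + 1), Group.IsSolvable (K i) by
      have := h (Fin.last n)
      rw [hn] at this
      exact Group.isSolvable_of_surjective (f := (Subgroup.topEquiv : (⊤ : Subgroup H) ≃* H).toMonoidHom)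
        (MulEquiv.surjective _)
    intro i
    induction i using Fin.induction with
    | zero => rw [h0]; infer_instance
    | succ i ih' =>
      obtain ⟨g, hg⟩ := hstep i
      haveI := hnorm i.castSucc
      haveI := hnorm i.succ
      haveI : IsCyclic ((K i.succ) ⧸ (K i.castSucc).subgroupOf (K i.succ)) := by
        have hgm : g ∈ K i.succ := hg ▸ mem_sup_right (mem_zpowers g)
        refine ⟨QuotientGroup.mk ⟨g, hgm⟩, fun y => ?_⟩
        obtain ⟨⟨v, hv⟩, rfl⟩ := QuotientGroup.mk'_surjective _ y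
        have hv' := hv
        rw [hg] at hv'
        obtain ⟨a, ha, b, ⟨j, rfl⟩, hab⟩ := mem_sup_of_normal_left.1 hv'
        refine ⟨j, ?_⟩
        show (QuotientGroup.mk (⟨g, hgm⟩ ^ j : K i.succ) : (K i.succ) ⧸ _) = QuotientGroup.mk ⟨v, hv⟩
        rw [QuotientGroup.eq, mem_subgroupOf]
        simp only [coe_mul, InvMemClass.coe_inv, SubgroupClass.coe_zpow]
        rw [← hab, ← mul_assoc]
        exact (hnorm i.castSucc).conj_mem' a ha (g ^ j)
      haveI : Group.IsSolvable ((K i.castSucc).subgroupOf (K i.succ)) :=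
        Group.isSolvable_of_isSolvable_injective (f := (subgroupOfEquivOfLe (hg ▸ le_sup_left :
          K i.castSucc ≤ K i.succ)).toMonoidHom) (MulEquiv.injective _)
      exact (Group.isSolvable_iff_subgroup_quotient ((K i.castSucc).subgroupOf (K i.succ))).2
        ⟨inferInstance, Group.isSolvable_of_comm fun a b => IsCyclic.commutative.is_comm.comm a b⟩
  have hquot : ∀ (K : Subgroup G) [K.Normal], K ≠ ⊥ → Cfsg.IsSupersolvable (G ⧸ K) := by
    intro K _ hK
    refine ih _ (CfsgLib.Supersolvable.card_quotient_lt hK) ?_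
    intro p q hp hq hpq x g hx hg hd
    have lift : ∀ (r : ℕ), r.Prime → ∀ y : G ⧸ K, (∃ a : ℕ, orderOf y = r ^ a) →
        ∃ z : G, QuotientGroup.mk' K z = y ∧ ∃ a : ℕ, orderOf z = r ^ a := by
      rintro r hr y ⟨a, ha⟩
      obtain ⟨z, rfl⟩ := QuotientGroup.mk'_surjective K y
      set m := orderOf z / r ^ (orderOf z).factorization r with hm
      have hcop : (orderOf (QuotientGroup.mk' K z)).Coprime m :=
        ha ▸ (Nat.coprime_ordCompl hr (orderOf_pos z).ne').pow_left a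
      obtain ⟨j, hj⟩ := exists_pow_eq_self_of_coprime hcop.symm
      refine ⟨(z ^ m) ^ j, by rw [map_pow, map_pow, hj], ?_⟩
      have h2 : orderOf ((z ^ m) ^ j) ∣ r ^ (orderOf z).factorization r := by
        refine orderOf_dvd_of_pow_eq_one ?_
        rw [← pow_mul, ← pow_mul, show m * (j * r ^ (orderOf z).factorization r) =
          r ^ (orderOf z).factorization r * m * j by ring, hm,
          Nat.ordProj_mul_ordCompl_eq_self, pow_mul, pow_orderOf_eq_one, one_pow]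
      obtain ⟨c, -, hc⟩ := (Nat.dvd_prime_pow hr).1 h2
      exact ⟨c, hc⟩
    obtain ⟨x', rfl, hx'⟩ := lift p hp x hx
    obtain ⟨g', rfl, hg'⟩ := lift q hq g hg
    refine h p q hp hq hpq x' g' hx' hg' (hd.trans ?_)
    rw [← map_inv, ← map_mul, ← map_mul, ← MonoidHom.map_zpowers, ← MonoidHom.map_zpowers,
      ← Subgroup.map_sup]
    exact card_map_dvd _ _
  refine Cfsg.Agent.S0579.supersolvable G fun M hM => ?_
  by_contra hidx
  -- every minimal normal subgroup complements `M`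
  obtain ⟨N, hN, hNne, -, hmin⟩ :=
    CfsgLib.Solvable.exists_minimal_normal_le (⊤ : Subgroup G) top_ne_bot
  haveI := hN
  have hnotle : ∀ K : Subgroup G, K.Normal → K ≠ ⊥ → ¬ K ≤ M := by
    intro K hK hK1 hKM
    haveI := hK
    refine hidx ?_
    have hm : IsCoatom (M.map (QuotientGroup.mk' K)) := by
      refine ⟨fun e => hM.1 ?_, fun L hL => ?_⟩
      · rw [← comap_map_eq_self (f := QuotientGroup.mk' K) (H := M)
          (by rw [QuotientGroup.ker_mk']; exact hKM), e, comap_top]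
      · rw [← map_comap_eq_self_of_surjective (QuotientGroup.mk'_surjective K) L]
        rw [hM.2 (L.comap (QuotientGroup.mk' K)) ?_, map_top_of_surjective _
          (QuotientGroup.mk'_surjective K)]
        have h1 := comap_lt_comap_of_surjective (QuotientGroup.mk'_surjective K) |>.2 hL
        rwa [comap_map_eq_self (f := QuotientGroup.mk' K) (H := M)
          (by rw [QuotientGroup.ker_mk']; exact hKM)] at h1
    have h2 := CfsgLib.Supersolvable.index_prime_of_isCoatom (hquot K hK1) _ hm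
    rwa [← index_map_eq (H := M) (QuotientGroup.mk'_surjective K)
      (by rw [QuotientGroup.ker_mk']; exact hKM)]
  obtain ⟨hNcomm, q, hq, hNq⟩ := CfsgLib.Solvable.minimal_normal_elementary_abelian N hNne hmin
  haveI := hNcomm
  haveI := Fact.mk hq
  have hcompl := CfsgLib.Solvable.isComplement'_of_not_le N hmin hM (hnotle N hN hNne)
  have hNc : ∀ a ∈ N, ∀ b ∈ N, Commute a b := fun a ha b hb =>
    congrArg Subtype.val (mul_comm' (⟨a, ha⟩ : N) ⟨b, hb⟩)
  have hNp : IsPGroup q N := by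
    refine IsPGroup.of_card (n := (Nat.card N).primeFactorsList.length)
      (Nat.eq_prime_pow_of_unique_prime_dvd Nat.card_pos.ne' fun {r} hr hrN => ?_)
    haveI := Fact.mk hr
    obtain ⟨y, hy⟩ := exists_prime_orderOf_dvd_card' r hrN
    have hd : orderOf y ∣ q := orderOf_dvd_of_pow_eq_one (Subtype.ext (by simpa using hNq y y.2))
    exact (Nat.prime_dvd_prime_iff_eq hr hq).1 (hy ▸ hd)
  have hNM : Disjoint N M := hcompl.disjoint
  have hsupM : N ⊔ M = ⊤ := hcompl.sup_eq_top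
  have hMne : M ≠ ⊤ := hM.1
  have hMs := hsub M hMne
  -- `M` is faithful on `N`
  have hfaith : ∀ x ∈ M, (∀ n ∈ N, x * n * x⁻¹ = n) → x = 1 := by
    intro x hx hxN
    set C := M ⊓ centralizer (N : Set G) with hC
    have hCn : C.Normal := by
      rw [← normalizer_eq_top_iff, eq_top_iff, ← hsupM]
      refine sup_le (fun n hn => ?_) (fun m hm => inf_normalizer_le_normalizer_inf
        ⟨le_normalizer hm, ?_⟩)
      · refine Subgroup.mem_normalizer_fintype fun c hc => ?_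
        have e : c * n = n * c := ((mem_inf.1 hc).2 n hn).symm
        rw [show n * c * n⁻¹ = c by rw [← e, mul_inv_cancel_right]]
        exact hc
      · exact (normalizer_eq_top_iff.2 (inferInstance : (centralizer (N : Set G)).Normal)) ▸ mem_top m
    by_contra hx1
    exact hnotle C hCn (fun e => hx1 (mem_bot.1 (e ▸ (⟨hx, fun n hn =>
      (mul_inv_eq_iff_eq_mul.1 (hxN n hn)).symm⟩ : x ∈ C)))) inf_le_left
  have hNconj' : ∀ (g : G), ∀ n ∈ N, g⁻¹ * n * g ∈ N := fun g n hn => hN.conj_mem' n hn g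
  have hirr : ∀ W : Subgroup G, W ≤ N → (∀ m ∈ M, ∀ w ∈ W, m * w * m⁻¹ ∈ W) → W = ⊥ ∨ W = N := by
    intro W hW hinv
    refine hmin W ?_ hW
    rw [← normalizer_eq_top_iff, eq_top_iff, ← hsupM]
    refine sup_le (fun n hn => Subgroup.mem_normalizer_fintype fun w hw => ?_)
      (fun m hm => Subgroup.mem_normalizer_fintype fun w hw => hinv m hm w hw)
    rw [(hNc n hn w (hW hw)).eq, mul_inv_cancel_right]
    exact hw
  have hNconj : ∀ (g : G), ∀ n ∈ N, g * n * g⁻¹ ∈ N := fun g n hn => hN.conj_mem n hn g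
  -- the images `[x, N]`
  let img : G → Subgroup G := fun x =>
    { carrier := {w | ∃ n ∈ N, w = x * n * x⁻¹ * n⁻¹}
      one_mem' := ⟨1, one_mem _, by group⟩
      mul_mem' := by
        rintro _ _ ⟨a, ha, rfl⟩ ⟨b, hb, rfl⟩
        refine ⟨a * b, mul_mem ha hb, ?_⟩
        have e := (hNc a⁻¹ (inv_mem ha) _ (mul_mem (hNconj x b hb) (inv_mem hb))).eq
        calc x * a * x⁻¹ * a⁻¹ * (x * b * x⁻¹ * b⁻¹)
            = x * a * x⁻¹ * (a⁻¹ * (x * b * x⁻¹ * b⁻¹)) := by group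
          _ = x * a * x⁻¹ * (x * b * x⁻¹ * b⁻¹ * a⁻¹) := by rw [e]
          _ = _ := by group
      inv_mem' := by
        rintro _ ⟨a, ha, rfl⟩
        refine ⟨a⁻¹, inv_mem ha, ?_⟩
        have e := (hNc a ha _ (inv_mem (hNconj x a ha))).eq
        calc (x * a * x⁻¹ * a⁻¹)⁻¹ = a * (x * a * x⁻¹)⁻¹ := by group
          _ = (x * a * x⁻¹)⁻¹ * a := e
          _ = _ := by group }
  have himgN : ∀ x, img x ≤ N := by
    rintro x _ ⟨n, hn, rfl⟩
    exact mul_mem (hNconj x n hn) (inv_mem hn)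
  have star : ∀ x ∈ M, (∃ r : ℕ, r.Prime ∧ r ≠ q ∧ ∃ a : ℕ, orderOf x = r ^ a) →
      ∃ j : ℤ, ∀ w ∈ img x, x * w * x⁻¹ = w ^ j := by
    rintro x hxM ⟨r, hr, hrq, hxo⟩
    refine exists_pow_of_cyclic_invariant hq hNc hNq _ (himgN x) x ?_
    rintro w ⟨n, hn, hw⟩
    have hwN : w ∈ N := himgN x ⟨n, hn, hw⟩
    by_contra hnot
    obtain ⟨b, hb⟩ : ∃ b : ℕ, orderOf n = q ^ b := by
      obtain ⟨b, -, hb⟩ := (Nat.dvd_prime_pow hq).1 ((orderOf_dvd_of_pow_eq_one (hNq n hn)).trans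
        (dvd_pow_self q one_ne_zero))
      exact ⟨b, hb⟩
    refine h r q hr hq hrq x n hxo ⟨b, hb⟩ ?_
    set K := zpowers x ⊔ zpowers (n * x * n⁻¹) with hK
    have hwK : w ∈ K := by
      rw [show w = x * (n * x * n⁻¹)⁻¹ by rw [hw]; group]
      exact K.mul_mem (mem_sup_left (mem_zpowers x)) (K.inv_mem (mem_sup_right (mem_zpowers _)))
    have hxK : x ∈ K := mem_sup_left (mem_zpowers x)
    have hw'K : x * w * x⁻¹ ∈ K ⊓ N := ⟨K.mul_mem (K.mul_mem hxK hwK) (K.inv_mem hxK), hNconj x w hwN⟩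
    have hw1 : w ≠ 1 := fun e => hnot (by simp [e])
    have hlt : zpowers w < K ⊓ N := lt_of_le_of_ne (zpowers_le.2 ⟨hwK, hwN⟩)
      fun e => hnot (e ▸ hw'K)
    obtain ⟨c, hc⟩ := (hNp.to_le (inf_le_right : K ⊓ N ≤ N)).exists_card_eq
    have hc2 : 2 ≤ c := by
      have h1 := Set.Finite.card_lt_card (Set.toFinite _) hlt
      rw [SetLike.coe_sort_coe, SetLike.coe_sort_coe, Nat.card_zpowers,
        orderOf_eq_prime (hNq w hwN) hw1, hc] at h1
      by_contra hc2
      have : q ^ c ≤ q ^ 1 := Nat.pow_le_pow_right hq.pos (by omega)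
      rw [pow_one] at this
      omega
    exact ((pow_dvd_pow q hc2).trans hc.symm.dvd).trans (card_dvd_of_le inf_le_left)
  -- fixed points meet the image trivially
  have hfix : ∀ x : G, (orderOf x).Coprime q → ∀ w ∈ img x, x * w * x⁻¹ = w → w = 1 := by
    rintro x hx w ⟨n, hn, hw⟩ hxw
    have hwN : w ∈ N := himgN x ⟨n, hn, hw⟩
    have key : ∀ i : ℕ, x ^ i * n * (x ^ i)⁻¹ = w ^ i * n := by
      intro i
      induction i with
      | zero => simp
      | succ i ih =>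
        have e : x * w ^ i * x⁻¹ = w ^ i := by rw [← conj_pow, hxw]
        calc x ^ (i + 1) * n * (x ^ (i + 1))⁻¹ = x * (x ^ i * n * (x ^ i)⁻¹) * x⁻¹ := by
              rw [pow_succ']; group
          _ = (x * w ^ i * x⁻¹) * (x * n * x⁻¹ * n⁻¹) * n := by rw [ih]; group
          _ = w ^ (i + 1) * n := by rw [e, ← hw, pow_succ]
    have h1 := key (orderOf x)
    rw [pow_orderOf_eq_one, one_mul, inv_one, mul_one, right_eq_mul] at h1
    rw [← orderOf_eq_one_iff]
    exact Nat.eq_one_of_dvd_coprimes hx (orderOf_dvd_of_pow_eq_one h1)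
      (orderOf_dvd_of_pow_eq_one (hNq w hwN))
  -- the fixed subgroup
  let fixd : G → Subgroup G := fun x => N ⊓ centralizer ({x} : Set G)
  have memfix : ∀ x n, n ∈ fixd x ↔ n ∈ N ∧ x * n * x⁻¹ = n := fun x n => by
    simp only [fixd, mem_inf, mem_centralizer_singleton_iff, mul_inv_eq_iff_eq_mul]
    exact and_congr_right fun _ => eq_comm
  let Scal : G → Prop := fun x => ∃ j : ℤ, ∀ n ∈ N, x * n * x⁻¹ = n ^ j
  -- no fixed points forces scalar action
  have hscal : ∀ x ∈ M, (∃ r : ℕ, r.Prime ∧ r ≠ q ∧ ∃ a : ℕ, orderOf x = r ^ a) →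
      fixd x = ⊥ → Scal x := by
    intro x hx hpp hf
    obtain ⟨j, hj⟩ := star x hx hpp
    refine ⟨j, fun n hn => ?_⟩
    let φ : N → N := fun a => ⟨x * a * x⁻¹ * (a : G)⁻¹, himgN x ⟨a, a.2, rfl⟩⟩
    have hφ : Function.Injective φ := by
      intro a b hab
      have e : x * (a : G) * x⁻¹ * (a : G)⁻¹ = x * b * x⁻¹ * (b : G)⁻¹ := congrArg Subtype.val hab
      have hm : (b : G)⁻¹ * a ∈ fixd x := (memfix _ _).2 ⟨mul_mem (inv_mem b.2) a.2, by
        calc x * ((b : G)⁻¹ * a) * x⁻¹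
            = (x * b * x⁻¹ * (b : G)⁻¹ * b)⁻¹ * (x * a * x⁻¹ * (a : G)⁻¹ * a) := by group
          _ = _ := by rw [← e]; group⟩
      rw [hf, mem_bot, inv_mul_eq_one] at hm
      exact Subtype.ext hm.symm
    obtain ⟨a, ha⟩ := (Finite.injective_iff_surjective.1 hφ) ⟨n, hn⟩
    exact hj n ⟨a, a.2, (congrArg Subtype.val ha).symm⟩
  have hscomm : ∀ z, Scal z → ∀ m ∈ M, z ∈ M → z * m = m * z := by
    rintro z ⟨j, hj⟩ m hm hz
    have hzm : (z * m * z⁻¹ * m⁻¹) = 1 := by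
      refine hfaith _ (mul_mem (mul_mem (mul_mem hz hm) (inv_mem hz)) (inv_mem hm)) fun n hn => ?_
      set n' := z * n * z⁻¹ with hn'
      have a1 : ∀ v ∈ N, z⁻¹ * (v ^ j) * z = v := fun v hv => by rw [← hj v hv]; group
      calc z * m * z⁻¹ * m⁻¹ * n * (z * m * z⁻¹ * m⁻¹)⁻¹
          = z * (m * (z⁻¹ * (m⁻¹ * n * m) * z) * m⁻¹) * z⁻¹ := by group
        _ = (m * (z⁻¹ * (m⁻¹ * n * m) * z) * m⁻¹) ^ j := hj _ (hNconj m _
            (hNconj' z _ (hNconj' m n hn)))
        _ = m * (z⁻¹ * (m⁻¹ * n * m) ^ j * z) * m⁻¹ := by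
            rw [conj_zpow]; congr 2
            have := conj_zpow (i := j) (a := z⁻¹) (b := m⁻¹ * n * m)
            rw [inv_inv] at this
            exact this
        _ = n := by rw [a1 _ (hNconj' m n hn)]; group
    rwa [mul_inv_eq_one, mul_inv_eq_iff_eq_mul] at hzm
  -- the scalar subgroup of `M`
  let Z : Subgroup M :=
    { carrier := {z | Scal (z : G)}
      one_mem' := ⟨1, fun n _ => by simp⟩
      mul_mem' := by
        rintro a b ⟨i, hi⟩ ⟨j, hj⟩
        refine ⟨j * i, fun n hn => ?_⟩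
        calc ((a * b : M) : G) * n * ((a * b : M) : G)⁻¹
            = (a : G) * ((b : G) * n * (b : G)⁻¹) * (a : G)⁻¹ := by simp [mul_assoc]
          _ = _ := by rw [hj n hn, ← conj_zpow, hi n hn, ← zpow_mul, mul_comm]
      inv_mem' := by
        rintro a ⟨i, hi⟩
        have hex : ∀ k : ℕ, ∃ j : ℤ, ∀ n ∈ N, (a : G) ^ k * n * ((a : G) ^ k)⁻¹ = n ^ j := by
          intro k
          induction k with
          | zero => exact ⟨1, fun n _ => by simp⟩
          | succ k ihk =>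
            obtain ⟨j, hj⟩ := ihk
            refine ⟨j * i, fun n hn => ?_⟩
            calc (a : G) ^ (k + 1) * n * ((a : G) ^ (k + 1))⁻¹
                = (a : G) * ((a : G) ^ k * n * ((a : G) ^ k)⁻¹) * (a : G)⁻¹ := by rw [pow_succ']; group
              _ = _ := by rw [hj n hn, ← conj_zpow, hi n hn, ← zpow_mul, mul_comm]
        obtain ⟨j, hj⟩ := hex (orderOf (a : G) - 1)
        have e : (a : G) ^ (orderOf (a : G) - 1) = ((a⁻¹ : M) : G) := by
          rw [InvMemClass.coe_inv]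
          refine eq_inv_of_mul_eq_one_left ?_
          rw [← pow_succ, Nat.sub_add_cancel (orderOf_pos (a : G)), pow_orderOf_eq_one]
        exact ⟨j, fun n hn => by rw [← e]; exact hj n hn⟩ }
  haveI hZn : Z.Normal := ⟨fun z hz m => by
    have e : m * z * m⁻¹ = z := by
      rw [mul_inv_eq_iff_eq_mul]
      exact (Subtype.ext (hscomm z hz m m.2 z.2)).symm
    rw [e]; exact hz⟩
  have hZtop : Z ≠ ⊤ := by
    intro hZ
    obtain ⟨n, hn, hn1⟩ := N.bot_or_exists_ne_one.resolve_left hNne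
    have hc : zpowers n = N := by
      refine (hirr _ (zpowers_le.2 hn) fun m hm w hw => ?_).resolve_left (zpowers_ne_bot.2 hn1)
      obtain ⟨j, hj⟩ : Scal m := (hZ ▸ mem_top _ : (⟨m, hm⟩ : M) ∈ Z)
      obtain ⟨i, rfl⟩ := mem_zpowers_iff.1 hw
      rw [← conj_zpow, hj n hn, ← zpow_mul]
      exact zpow_mem (mem_zpowers n) _
    apply hidx
    rw [show M.index = Nat.card N from hcompl.index_eq_card, ← hc, Nat.card_zpowers,
      orderOf_eq_prime (hNq n hn) hn1]
    exact hq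
  haveI : Nontrivial (M ⧸ Z) := QuotientGroup.nontrivial_iff.2 hZtop
  obtain ⟨Bq, hBq, hBr⟩ := CfsgLib.Supersolvable.exists_normal_prime
    (CfsgLib.Supersolvable.quotient hMs Z)
  set r := Nat.card Bq with hr
  haveI := Fact.mk hBr
  haveI := hBq
  set B := Bq.comap (QuotientGroup.mk' Z) with hB
  obtain ⟨y, hy⟩ := exists_prime_orderOf_dvd_card' r (dvd_refl (Nat.card Bq))
  obtain ⟨b₀, hb₀⟩ := QuotientGroup.mk'_surjective Z (y : M ⧸ Z)
  set e := orderOf b₀ / r ^ (orderOf b₀).factorization r with he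
  set b := b₀ ^ e with hbdef
  have hord : orderOf b = r ^ (orderOf b₀).factorization r := by
    rw [hbdef, orderOf_pow_of_dvd (Nat.div_pos (Nat.ordProj_le r (orderOf_pos b₀).ne')
      (pow_pos hBr.pos _)).ne' (Nat.ordCompl_dvd _ _),
      Nat.div_div_self (Nat.ordProj_dvd _ _) (orderOf_pos b₀).ne']
  have hyo : orderOf (y : M ⧸ Z) = r := by rw [orderOf_coe]; exact hy
  have hymem : (y : M ⧸ Z) ^ e ≠ 1 := by
    intro h1
    have h2 : r ∣ e := hyo ▸ orderOf_dvd_of_pow_eq_one h1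
    exact Nat.not_dvd_ordCompl hBr (orderOf_pos b₀).ne' h2
  have hbB : b ∈ B := by
    rw [hB, mem_comap, map_pow, hb₀]
    exact pow_mem y.2 e
  have hbZ : b ∉ Z := fun hb => hymem (by
    rw [← hb₀, ← map_pow]; exact (QuotientGroup.eq_one_iff b).2 hb)
  have hgen : ∀ c ∈ B, ∃ i : ℤ, (b ^ i)⁻¹ * c ∈ Z := by
    intro c hc
    have hz := zpowers_eq_top_of_prime_card (G := Bq) rfl
      (g := ⟨QuotientGroup.mk' Z b, hbB⟩) (fun e => hbZ ((QuotientGroup.eq_one_iff b).1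
        (congrArg Subtype.val e)))
    obtain ⟨i, hi⟩ := mem_zpowers_iff.1 (hz ▸ mem_top (⟨QuotientGroup.mk' Z c, hc⟩ : Bq))
    refine ⟨i, (QuotientGroup.eq_one_iff _).1 (show QuotientGroup.mk' Z _ = 1 from ?_)⟩
    have := congrArg Subtype.val hi
    simp only [SubgroupClass.coe_zpow] at this
    rw [map_mul, map_inv, map_zpow, this, inv_mul_cancel]
  have hBcomm : ∀ c ∈ B, ∀ d ∈ B, c * d = d * c := by
    have hbc : ∀ c ∈ B, b * c = c * b := by
      intro c hc
      obtain ⟨i, hi⟩ := hgen c hc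
      have e : c = b ^ i * ((b ^ i)⁻¹ * c) := by group
      have h1 : b * ((b ^ i)⁻¹ * c) = ((b ^ i)⁻¹ * c) * b :=
        (Subtype.ext (hscomm _ hi b b.2 (Subtype.prop _))).symm
      rw [e]
      calc b * (b ^ i * ((b ^ i)⁻¹ * c)) = b ^ i * (b * ((b ^ i)⁻¹ * c)) := by group
        _ = b ^ i * (((b ^ i)⁻¹ * c) * b) := by rw [h1]
        _ = _ := by group
    intro c hc d hd
    obtain ⟨i, hi⟩ := hgen d hd
    have e : d = b ^ i * ((b ^ i)⁻¹ * d) := by group
    rw [e]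
    refine Commute.mul_right ((show Commute c b from (hbc c hc).symm).zpow_right i) ?_
    exact (Subtype.ext (hscomm _ hi c c.2 (Subtype.prop _))).symm
  -- `r ≠ q`
  have hrq : r ≠ q := by
    intro hrq
    have hb1 : (b : G) ≠ 1 := fun h1 => hbZ (by
      rw [show b = 1 from Subtype.ext h1]; exact one_mem _)
    set U : Subgroup G := closure {g | ∃ c : M, c ∈ B ∧ (c : G) = g ∧ ∃ i, orderOf g = q ^ i} with hU
    have hUinv : ∀ m ∈ M, ∀ g ∈ U, m * g * m⁻¹ ∈ U := by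
      intro m hm g hg
      have hle : U ≤ U.comap (MulAut.conj m).toMonoidHom := by
        refine (closure_le _).2 ?_
        rintro g ⟨c, hc, rfl, i, hi⟩
        refine subset_closure ⟨⟨m, hm⟩ * c * ⟨m, hm⟩⁻¹, (inferInstance : B.Normal).conj_mem c hc _, rfl, i, ?_⟩
        rw [← hi]
        exact orderOf_injective (MulAut.conj m).toMonoidHom (MulAut.conj m).injective _
      exact hle hg
    have hUq : IsPGroup q U := by
      have hle : U ≤ B.map M.subtype := (closure_le _).2 (by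
        rintro g ⟨c, hc, rfl, -⟩; exact ⟨c, hc, rfl⟩)
      intro u
      induction u using Subtype.recOn with
      | mk u hu =>
        suffices h : ∃ k, u ^ q ^ k = 1 by
          obtain ⟨k, hk⟩ := h; exact ⟨k, Subtype.ext hk⟩
        induction hu using closure_induction with
        | mem g hg => obtain ⟨c, -, -, i, hi⟩ := hg; exact ⟨i, hi ▸ pow_orderOf_eq_one g⟩
        | one => exact ⟨0, by simp⟩
        | mul g g' hg hg' h1 h2 =>
          obtain ⟨i, hi⟩ := h1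
          obtain ⟨j, hj⟩ := h2
          obtain ⟨c, hc, rfl⟩ := hle hg
          obtain ⟨d, hd, rfl⟩ := hle hg'
          refine ⟨i + j, ?_⟩
          simp only [coe_subtype] at hi hj ⊢
          rw [(show Commute (c : G) d from congrArg Subtype.val (hBcomm c hc d hd)).mul_pow,
            pow_add, pow_mul, hi, one_pow, one_mul, mul_comm, pow_mul, hj, one_pow]
        | inv g _ h1 => obtain ⟨i, hi⟩ := h1; exact ⟨i, by rw [inv_pow, hi, inv_one]⟩
    have hbU : (b : G) ∈ U := subset_closure ⟨b, hbB, rfl, _, by rw [orderOf_coe, hord, hrq]⟩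
    have hUM : U ≤ M := (closure_le _).2 (by rintro g ⟨c, -, rfl, -⟩; exact c.2)
    obtain ⟨k, hk⟩ := hNp.exists_card_eq
    have hk1 : k ≠ 0 := fun h0 => hNne (Subgroup.card_eq_one.1 (by rw [hk, h0, pow_zero]))
    letI : MulAction U N :=
      { smul := fun u n => ⟨(u : G) * n * (u : G)⁻¹, hNconj _ _ n.2⟩
        one_smul := fun n => Subtype.ext (show ((1 : U) : G) * n * ((1 : U) : G)⁻¹ = n by simp)
        mul_smul := fun u v n => Subtype.ext (show ((u * v : U) : G) * n * ((u * v : U) : G)⁻¹ =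
          (u : G) * ((v : G) * n * (v : G)⁻¹) * (u : G)⁻¹ by simp [mul_assoc]) }
    obtain ⟨v, hv, hv1⟩ := hUq.exists_fixed_point_of_prime_dvd_card_of_fixed_point N
      (hk ▸ dvd_pow_self q hk1) (a := 1) (fun u => Subtype.ext (show (u : G) * 1 * (u : G)⁻¹ = 1 by simp))
    set W := N ⊓ centralizer (U : Set G) with hW
    have hWN : W = N := by
      refine (hirr W inf_le_left fun m hm w hw => ⟨hNconj m w hw.1, fun u hu => ?_⟩).resolve_left ?_
      · have hu' := hUinv m⁻¹ (inv_mem hm) u hu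
        rw [inv_inv] at hu'
        have e := hw.2 _ hu'
        calc u * (m * w * m⁻¹) = m * ((m⁻¹ * u * m) * w) * m⁻¹ := by group
          _ = m * (w * (m⁻¹ * u * m)) * m⁻¹ := by rw [e]
          _ = _ := by group
      · intro hbot
        have hvW : (v : G) ∈ W := ⟨v.2, fun u hu =>
          mul_inv_eq_iff_eq_mul.1 (congrArg Subtype.val (hv ⟨u, hu⟩))⟩
        rw [hbot, mem_bot] at hvW
        exact hv1 (Subtype.ext hvW.symm)
    exact hb1 (hfaith _ b.2 fun n hn => by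
      rw [mul_inv_eq_iff_eq_mul]
      exact (hWN.ge hn).2 _ hbU)
  have hcopq : ∀ x : G, (∃ a : ℕ, orderOf x = r ^ a) → (orderOf x).Coprime q := by
    rintro x ⟨a, ha⟩
    rw [ha]; exact ((Nat.coprime_primes hBr hq).2 hrq).pow_left a
  have hbo : ∃ a : ℕ, orderOf (b : G) = r ^ a := ⟨_, by rw [orderOf_coe]; exact hord⟩
  have hbns : ¬ Scal (b : G) := hbZ
  have hfb : fixd b ≠ ⊥ := fun h1 => hbns (hscal b b.2 ⟨r, hBr, hrq, hbo⟩ h1)
  -- some conjugate of `b` has other fixed points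
  obtain ⟨m, hm, hmne⟩ : ∃ m ∈ M, fixd (m * b * m⁻¹) ≠ fixd b := by
    by_contra hall
    push Not at hall
    have : fixd b = N := (hirr _ inf_le_left fun m hm w hw => by
      obtain ⟨hwN, hw2⟩ := (memfix (b : G) w).1 hw
      have h2 := (memfix (m * b * m⁻¹) (m * w * m⁻¹)).2 ⟨hNconj m w hwN, by
        calc m * b * m⁻¹ * (m * w * m⁻¹) * (m * b * m⁻¹)⁻¹ = m * (b * w * (b : G)⁻¹) * m⁻¹ := by
              group
          _ = _ := by rw [hw2]⟩
      rw [hall m hm] at h2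
      exact h2).resolve_left hfb
    refine hbns ⟨1, fun n hn => ?_⟩
    rw [zpow_one]
    exact ((memfix _ _).1 (this.ge hn)).2
  set b' := m * b * m⁻¹ with hb'
  have hb'B : ∃ c : M, c ∈ B ∧ (c : G) = b' :=
    ⟨⟨m, hm⟩ * b * ⟨m, hm⟩⁻¹, (inferInstance : B.Normal).conj_mem b hbB _, rfl⟩
  have hb'M : b' ∈ M := mul_mem (mul_mem hm b.2) (inv_mem hm)
  have hbb' : Commute (b : G) b' := by
    obtain ⟨c, hc, hc'⟩ := hb'B
    exact hc' ▸ congrArg Subtype.val (hBcomm b hbB c hc)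
  have hb'o : ∃ a : ℕ, orderOf b' = r ^ a := by
    obtain ⟨a, ha⟩ := hbo
    exact ⟨a, ha ▸ orderOf_injective (MulAut.conj m).toMonoidHom (MulAut.conj m).injective _⟩
  have hcardfix : Nat.card (fixd b') = Nat.card (fixd b) := by
    have e : fixd b' = (fixd b).map (MulAut.conj m).toMonoidHom := by
      ext n
      rw [memfix]
      constructor
      · rintro ⟨hn, hn2⟩
        refine ⟨m⁻¹ * n * m, (memfix _ _).2 ⟨by simpa using hNconj m⁻¹ n hn, ?_⟩, by simp [mul_assoc]⟩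
        calc (b : G) * (m⁻¹ * n * m) * (b : G)⁻¹ = m⁻¹ * (b' * n * b'⁻¹) * m := by rw [hb']; group
          _ = _ := by rw [hn2]
      · rintro ⟨w, hw, rfl⟩
        obtain ⟨hwN, hw2⟩ := (memfix _ _).1 hw
        refine ⟨hNconj m w hwN, ?_⟩
        show b' * (m * w * m⁻¹) * b'⁻¹ = m * w * m⁻¹
        calc b' * (m * w * m⁻¹) * b'⁻¹ = m * ((b : G) * w * (b : G)⁻¹) * m⁻¹ := by rw [hb']; group
          _ = _ := by rw [hw2]
    rw [e, card_map_of_injective (f := (MulAut.conj m).toMonoidHom) (MulAut.conj m).injective]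
  -- eigenvectors
  obtain ⟨μ, hμ⟩ := star b' hb'M ⟨r, hBr, hrq, hb'o⟩
  obtain ⟨lam, hlam⟩ := star b b.2 ⟨r, hBr, hrq, hbo⟩
  have eig : ∀ x y : G, Commute x y → (orderOf y).Coprime q → ¬ fixd x ≤ fixd y →
      ∃ n, n ∈ fixd x ∧ n ∈ img y ∧ n ≠ 1 := by
    intro x y hxy hy hle
    obtain ⟨w, hw, hwy⟩ := SetLike.not_le_iff_exists.1 hle
    obtain ⟨hwN, hw2⟩ := (memfix _ _).1 hw
    refine ⟨y * w * y⁻¹ * w⁻¹, (memfix _ _).2 ⟨himgN y ⟨w, hwN, rfl⟩, ?_⟩, ⟨w, hwN, rfl⟩, ?_⟩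
    · have e : x * y = y * x := hxy
      calc x * (y * w * y⁻¹ * w⁻¹) * x⁻¹ = (x * y) * w * (x * y)⁻¹ * (x * w * x⁻¹)⁻¹ := by group
        _ = y * (x * w * x⁻¹) * y⁻¹ * (x * w * x⁻¹)⁻¹ := by rw [e]; group
        _ = _ := by rw [hw2]
    · intro h1
      exact hwy ((memfix _ _).2 ⟨hwN, by rwa [mul_inv_eq_one] at h1⟩)
  obtain ⟨n₁, hn₁, hn₁', hn₁1⟩ := eig b b' hbb' (hcopq _ hb'o) fun hle =>
    hmne (eq_of_le_of_card_ge hle hcardfix.le).symm
  obtain ⟨n₂, hn₂, hn₂', hn₂1⟩ := eig b' b hbb'.symm (hcopq _ hbo) fun hle =>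
    hmne (eq_of_le_of_card_ge hle hcardfix.ge)
  have a1 : (b : G) * n₁ * (b : G)⁻¹ = n₁ := ((memfix _ _).1 hn₁).2
  have a2 : b' * n₁ * b'⁻¹ = n₁ ^ μ := hμ n₁ hn₁'
  have a3 : b' * n₂ * b'⁻¹ = n₂ := ((memfix _ _).1 hn₂).2
  have a4 : (b : G) * n₂ * (b : G)⁻¹ = n₂ ^ lam := hlam n₂ hn₂'
  have hn₁N : n₁ ∈ N := himgN _ hn₁'
  have hn₂N : n₂ ∈ N := himgN _ hn₂'
  have ord1 : orderOf n₁ = q := orderOf_eq_prime (hNq _ hn₁N) hn₁1
  have ord2 : orderOf n₂ = q := orderOf_eq_prime (hNq _ hn₂N) hn₂1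
  have zeq : ∀ {n : G}, orderOf n = q → ∀ i k : ℤ, (n ^ i = n ^ k ↔ (i : ZMod q) = k) := by
    intro n hn i k
    rw [zpow_eq_zpow_iff_modEq, hn, ← ZMod.intCast_eq_intCast_iff]
  have hμ1 : (μ : ZMod q) ≠ 1 := by
    intro h1
    refine hn₁1 (hfix b' (hcopq _ hb'o) n₁ hn₁' ?_)
    rw [a2]
    nth_rewrite 2 [← zpow_one n₁]
    exact (zeq ord1 μ 1).2 (by simpa using h1)
  -- an element with eigenvector `n`, eigenvalue `≠ 1`, has it in its image
  have inimg : ∀ (x n : G) (ν : ℤ), n ∈ N → x * n * x⁻¹ = n ^ ν → orderOf n = q →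
      (ν : ZMod q) ≠ 1 → n ∈ img x := by
    intro x n ν hn hx hno hν
    have hu : IsUnit ((ν - 1 : ℤ) : ZMod q) := by
      rw [isUnit_iff_ne_zero]; push_cast; exact sub_ne_zero.2 hν
    obtain ⟨u, hu⟩ := hu
    refine ⟨n ^ ((u⁻¹ : (ZMod q)ˣ) : ZMod q).val, pow_mem hn _, ?_⟩
    rw [← conj_pow, hx, ← zpow_natCast (n ^ ν), ← zpow_natCast n, ← zpow_mul, ← zpow_neg,
      ← zpow_add]
    nth_rewrite 1 [← zpow_one n]
    rw [zeq hno]
    push_cast
    rw [ZMod.natCast_zmod_val]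
    have h2 : ((ν - 1 : ℤ) : ZMod q) * (u⁻¹ : (ZMod q)ˣ) = 1 := by rw [← hu]; exact u.mul_inv
    push_cast at h2
    linear_combination -h2
  -- products of commuting `r`-elements are `r`-elements
  have rprod : ∀ x y : G, Commute x y → (∃ a : ℕ, orderOf x = r ^ a) →
      (∃ a : ℕ, orderOf y = r ^ a) → ∃ a : ℕ, orderOf (x * y) = r ^ a := by
    rintro x y hxy ⟨i, hi⟩ ⟨k, hk⟩
    obtain ⟨a, -, ha⟩ := (Nat.dvd_prime_pow hBr).1 ((hxy.orderOf_mul_dvd_lcm).trans
      ((Nat.lcm_dvd (hi ▸ pow_dvd_pow r (le_max_left i k)) (hk ▸ pow_dvd_pow r (le_max_right i k)))))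
    exact ⟨a, ha⟩
  have act : ∀ (x y n : G) (i k : ℤ), x * n * x⁻¹ = n ^ i → y * n * y⁻¹ = n ^ k →
      (x * y) * n * (x * y)⁻¹ = n ^ (i * k) := by
    intro x y n i k hx hy
    calc (x * y) * n * (x * y)⁻¹ = x * (y * n * y⁻¹) * x⁻¹ := by group
      _ = _ := by rw [hy, ← conj_zpow, hx, ← zpow_mul]
  have hlam1 : (lam : ZMod q) ≠ 1 := by
    intro h1
    refine hn₂1 (hfix b (hcopq _ hbo) n₂ hn₂' ?_)
    rw [a4]
    nth_rewrite 2 [← zpow_one n₂]
    exact (zeq ord2 lam 1).2 (by simpa using h1)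
  have one1 : (b : G) * n₁ * (b : G)⁻¹ = n₁ ^ (1 : ℤ) := by rw [zpow_one]; exact a1
  have one2 : b' * n₂ * b'⁻¹ = n₂ ^ (1 : ℤ) := by rw [zpow_one]; exact a3
  -- all eigenvalues agree
  have same : ∀ x ∈ M, (∃ a : ℕ, orderOf x = r ^ a) → ∀ (n n' : G) (i k : ℤ), n ∈ N → n' ∈ N →
      orderOf n = q → orderOf n' = q → x * n * x⁻¹ = n ^ i → x * n' * x⁻¹ = n' ^ k →
      (i : ZMod q) ≠ 1 → (k : ZMod q) ≠ 1 → (i : ZMod q) = k := by
    intro x hxM hxo n n' i k hn hn' ho ho' hx hx' hi hk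
    obtain ⟨ν, hν⟩ := star x hxM ⟨r, hBr, hrq, hxo⟩
    have e1 := (zeq ho i ν).1 (hx.symm.trans (hν n (inimg x n i hn hx ho hi)))
    have e2 := (zeq ho' k ν).1 (hx'.symm.trans (hν n' (inimg x n' k hn' hx' ho' hk)))
    rw [e1, e2]
  have hμlam : (μ : ZMod q) = lam := by
    have h1 := same _ (mul_mem b.2 hb'M) (rprod _ _ hbb' hbo hb'o) n₁ n₂ (1 * μ) (lam * 1)
      hn₁N hn₂N ord1 ord2 (act _ _ _ _ _ one1 a2) (act _ _ _ _ _ a4 one2)
      (by simpa using hμ1) (by simpa using hlam1)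
    simpa using h1
  have hμsq : (μ : ZMod q) * μ = 1 := by
    by_contra hne
    have h1 := same _ (mul_mem (mul_mem b.2 hb'M) hb'M)
      (rprod _ _ (hbb'.mul_left (Commute.refl b')) (rprod _ _ hbb' hbo hb'o) hb'o) n₁ n₂
      (1 * μ * μ) (lam * 1 * 1) hn₁N hn₂N ord1 ord2
      (act _ _ _ _ _ (act _ _ _ _ _ one1 a2) a2) (act _ _ _ _ _ (act _ _ _ _ _ a4 one2) one2)
      (by simpa using hne) (by simpa using hlam1)
    push_cast at h1
    rw [one_mul, mul_one, mul_one, ← hμlam] at h1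
    refine hμ1 ?_
    have h0 : (μ : ZMod q) ≠ 0 := fun h0 => hn₁1 (by
      have e : b' * n₁ * b'⁻¹ = n₁ ^ (0 : ℤ) := a2.trans ((zeq ord1 μ 0).2 (by simpa using h0))
      rw [zpow_zero, mul_inv_eq_one, mul_eq_left] at e
      exact e)
    exact mul_right_cancel₀ h0 (h1.trans (one_mul _).symm)
  have hμneg : (μ : ZMod q) = -1 := (mul_self_eq_one_iff.1 hμsq).resolve_left hμ1
  have hq2 : q ≠ 2 := fun h2 => by subst h2; exact hμ1 (hμneg.trans (ZMod.neg_eq_self_mod_two 1))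
  have hneg1 : (-1 : ZMod q) ≠ 1 := fun h => hq2 (by
    have h2 : ((2 : ℕ) : ZMod q) = 0 := by push_cast; linear_combination -h
    exact ((Nat.prime_dvd_prime_iff_eq hq Nat.prime_two).1 ((ZMod.natCast_eq_zero_iff 2 q).1 h2)))
  -- involutions: a `±1` action squares to the identity
  have sq_one : ∀ x ∈ M, ∀ ν : ℤ, (∀ w ∈ img x, x * w * x⁻¹ = w ^ ν) → (ν : ZMod q) = -1 →
      x * x = 1 := by
    intro x hx ν hν hνn
    refine hfaith _ (mul_mem hx hx) fun n hn => ?_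
    set w := x * n * x⁻¹ * n⁻¹ with hw
    have e : x * w * x⁻¹ = w⁻¹ := by
      rw [hν w ⟨n, hn, rfl⟩]
      by_cases hw1 : w = 1
      · simp [hw1]
      rw [← zpow_neg_one]
      exact (zeq (orderOf_eq_prime (hNq w (himgN x ⟨n, hn, rfl⟩)) hw1) ν (-1)).2 (by simpa using hνn)
    calc x * x * n * (x * x)⁻¹ = (x * w * x⁻¹) * (x * n * x⁻¹ * n⁻¹) * n := by rw [hw]; group
      _ = n := by rw [e, ← hw]; group
  have hbsq : (b : G) * b = 1 := sq_one b b.2 lam hlam (hμlam ▸ hμneg)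
  have hr2 : r = 2 := by
    obtain ⟨a, ha⟩ := hbo
    have h2 : r ^ a ∣ 2 := ha ▸ orderOf_dvd_of_pow_eq_one (by rw [sq]; exact hbsq)
    have ha0 : a ≠ 0 := fun h0 => hbns ⟨1, fun n _ => by
      rw [orderOf_eq_one_iff.1 (ha.trans (by rw [h0, pow_zero]))]; simp⟩
    exact (Nat.prime_dvd_prime_iff_eq hBr Nat.prime_two).1 ((dvd_pow_self r ha0).trans h2)
  -- `z = b b'` inverts `N`
  set z := (b : G) * b' with hz
  have hzM : z ∈ M := mul_mem b.2 hb'M
  have hzScal : Scal z := by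
    obtain ⟨c, hc, hc'⟩ := hb'B
    obtain ⟨i, hi⟩ := hgen c hc
    have hb2 : b * b = 1 := Subtype.ext hbsq
    rcases Int.even_or_odd' i with ⟨k, rfl | rfl⟩
    · rw [zpow_mul, zpow_two, hb2, one_zpow, inv_one, one_mul] at hi
      exfalso
      obtain ⟨j, hj⟩ := hi
      have e1 := hj n₁ hn₁N
      have e2 := hj n₂ hn₂N
      rw [hc'] at e1 e2
      have f1 := (zeq ord1 μ j).1 (a2.symm.trans e1)
      have f2 := (zeq ord2 1 j).1 (one2.symm.trans e2)
      exact hμ1 (f1.trans (by simpa using f2.symm))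
    · rw [zpow_add, zpow_mul, zpow_two, hb2, one_zpow, one_mul, zpow_one] at hi
      have e : z = ((b⁻¹ * c : M) : G) := by
        rw [hz, ← hc', coe_mul, InvMemClass.coe_inv, inv_eq_of_mul_eq_one_right hbsq]
      rw [e]
      exact hi
  have hzinv : ∀ n ∈ N, z * n * z⁻¹ = n⁻¹ := by
    intro n hn
    obtain ⟨j, hj⟩ := hzScal
    have f1 := (zeq ord1 (1 * μ) j).1 ((act _ _ _ _ _ one1 a2).symm.trans (hj n₁ hn₁N))
    rw [hj n hn, ← zpow_neg_one]
    by_cases hn1 : n = 1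
    · simp [hn1]
    exact (zeq (orderOf_eq_prime (hNq n hn) hn1) j (-1)).2 (by
      rw [← f1]; push_cast; rw [one_mul, hμneg])
  have hzb : z * b = b * z := hscomm z hzScal b b.2 hzM
  have hzm : z * m = m * z := hscomm z hzScal m hm hzM
  have hb'z : b' = z * b := by rw [hzb, hz, ← mul_assoc, hbsq, one_mul]
  have hzsq : z * z = 1 := hfaith _ (mul_mem hzM hzM) fun n hn => by
    calc z * z * n * (z * z)⁻¹ = z * (z * n * z⁻¹) * z⁻¹ := by group
      _ = (z * n * z⁻¹)⁻¹ := by rw [hzinv n hn]; exact hzinv _ (inv_mem hn)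
      _ = n := by rw [hzinv n hn, inv_inv]
  -- the 2-part of `m`
  set k := orderOf m / 2 ^ (orderOf m).factorization 2 with hk
  set m₀ := m ^ k with hm₀
  have hkodd : Odd k := by
    rw [Nat.odd_iff, Nat.two_dvd_ne_zero.symm]
    exact Nat.not_dvd_ordCompl Nat.prime_two (orderOf_pos m).ne'
  have hm₀M : m₀ ∈ M := pow_mem hm k
  have hm₀o : ∃ a : ℕ, orderOf m₀ = 2 ^ a := ⟨(orderOf m).factorization 2, by
    rw [hm₀, orderOf_pow_of_dvd (Nat.div_pos (Nat.ordProj_le 2 (orderOf_pos m).ne')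
      (pow_pos two_pos _)).ne' (Nat.ordCompl_dvd _ _),
      Nat.div_div_self (Nat.ordProj_dvd _ _) (orderOf_pos m).ne']⟩
  have hmb : m * b * m⁻¹ = z * b := hb' ▸ hb'z
  have hm2 : (m * m) * b * (m * m)⁻¹ = b := by
    calc (m * m) * b * (m * m)⁻¹ = m * (m * b * m⁻¹) * m⁻¹ := by group
      _ = (z * m) * b * m⁻¹ := by rw [hmb, hzm]; group
      _ = z * (m * b * m⁻¹) := by group
      _ = b := by rw [hmb, ← mul_assoc, hzsq, one_mul]
  have hm0b : m₀ * b * m₀⁻¹ = z * b := by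
    obtain ⟨t, ht⟩ := hkodd
    have hc : Commute ((m * m) ^ t) (b : G) :=
      (show Commute (m * m) (b : G) from mul_inv_eq_iff_eq_mul.1 hm2).pow_left t
    calc m₀ * b * m₀⁻¹ = m * ((m * m) ^ t * b * ((m * m) ^ t)⁻¹) * m⁻¹ := by
          rw [hm₀, ht, show 2 * t + 1 = 1 + 2 * t by omega, pow_add, pow_one, pow_mul, sq]; group
      _ = z * b := by rw [hc.eq, mul_inv_cancel_right, hmb]
  have hz1 : z ≠ 1 := fun e => by
    have := hzinv n₁ hn₁N
    rw [e, one_mul, inv_one, mul_one] at this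
    exact hneg1 (by simpa using ((zeq ord1 1 (-1)).1 (by rw [zpow_one, zpow_neg_one]; exact this)).symm)
  have hnoScal : ∀ x ∈ M, x * b * x⁻¹ = z * b → ¬ Scal x := fun x hx e hsx => hz1 (by
    rw [hscomm x hsx b b.2 hx, mul_inv_cancel_right, right_eq_mul] at e
    exact e)
  obtain ⟨ν, hν⟩ := star m₀ hm₀M ⟨2, Nat.prime_two, Ne.symm hq2, hm₀o⟩
  obtain ⟨v, hv, hv1⟩ := (fixd m₀).bot_or_exists_ne_one.resolve_left fun hbot =>
    hnoScal m₀ hm₀M hm0b (hscal m₀ hm₀M ⟨2, Nat.prime_two, Ne.symm hq2, hm₀o⟩ hbot)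
  obtain ⟨hvN, hv2⟩ := (memfix _ _).1 hv
  set u := (b : G) * v * (b : G)⁻¹ with hu
  have huN : u ∈ N := hNconj _ _ hvN
  have hu2 : m₀ * u * m₀⁻¹ = u ^ (-1 : ℤ) := by
    calc m₀ * u * m₀⁻¹ = (m₀ * b * m₀⁻¹) * (m₀ * v * m₀⁻¹) * (m₀ * b * m₀⁻¹)⁻¹ := by
          rw [hu]; group
      _ = z * u * z⁻¹ := by rw [hm0b, hv2, hu]; group
      _ = _ := by rw [hzinv u huN, zpow_neg_one]
  have hu1 : orderOf u = q := orderOf_eq_prime (hNq u huN) fun e => hv1 (by
    rw [hu, mul_inv_eq_one, mul_eq_left] at e; exact e)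
  have hνn : (ν : ZMod q) = -1 := by
    have hi := inimg m₀ u (-1) huN hu2 hu1 (by simpa using hneg1)
    simpa using ((zeq hu1 (-1) ν).1 (hu2.symm.trans (hν u hi))).symm
  have hm0sq : m₀ * m₀ = 1 := sq_one m₀ hm₀M ν hν hνn
  set T := (b : G) * m₀ with hT
  have hTM : T ∈ M := mul_mem b.2 hm₀M
  have hm0b' : m₀ * b = z * b * m₀ := mul_inv_eq_iff_eq_mul.1 hm0b
  have hTsq : T * T = z := by
    calc T * T = (b : G) * (m₀ * b) * m₀ := by rw [hT]; group
      _ = (b : G) * z * b * (m₀ * m₀) := by rw [hm0b']; group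
      _ = z * (b * b) := by rw [hm0sq, mul_one, ← hzb, mul_assoc]
      _ = z := by rw [hbsq, mul_one]
  have hTo : ∃ a : ℕ, orderOf T = 2 ^ a := by
    obtain ⟨a, -, ha⟩ := (Nat.dvd_prime_pow Nat.prime_two).1
      (orderOf_dvd_of_pow_eq_one (show T ^ 2 ^ 2 = 1 by
        rw [show (2 : ℕ) ^ 2 = 2 * 2 by norm_num, pow_mul, sq, sq, hTsq, hzsq]))
    exact ⟨a, ha⟩
  have hTb : T * b * T⁻¹ = z * b := by
    calc T * b * T⁻¹ = (b : G) * (m₀ * b * m₀⁻¹) * (b : G)⁻¹ := by rw [hT]; group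
      _ = z * b := by rw [hm0b, ← mul_assoc, ← hzb, mul_inv_cancel_right]
  obtain ⟨t, ht, ht1⟩ := (fixd T).bot_or_exists_ne_one.resolve_left fun hbot =>
    hnoScal T hTM hTb (hscal T hTM ⟨2, Nat.prime_two, Ne.symm hq2, hTo⟩ hbot)
  obtain ⟨htN, ht2⟩ := (memfix _ _).1 ht
  have hz2 : z * t * z⁻¹ = t := by
    calc z * t * z⁻¹ = T * (T * t * T⁻¹) * T⁻¹ := by rw [← hTsq]; group
      _ = t := by rw [ht2, ht2]
  rw [hzinv t htN] at hz2
  refine hneg1 ?_
  have ho := orderOf_eq_prime (hNq t htN) ht1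
  simpa using (zeq ho (-1) 1).1 (by rw [zpow_neg_one, zpow_one]; exact hz2)

end Cfsg.Agent.S3033
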