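import Cfsg.Statements.S3036
import Cfsg.Agent.Lib.LocEven.Measure

set_option autoImplicit false
open Cfsg

namespace Cfsg.Agent.S3036

/-- Let G be a finite non-abelian simple group and A a proper nontrivial subgroup of G. Then |G| > |A| · |C_G(A)|. In particular |G| > |A|² for every nontrivial abelian subgroup A of G. -/
theorem result {G : Type*} [Group G] [Finite G] [IsSimpleGroup G] (hG : ¬ IsMulCommutative G) (A : Subgroup G) (hA1 : A ≠ ⊥) (hA2 : A ≠ ⊤) : Nat.card A * Nat.card ↥(Subgroup.centralizer (A : Set G)) < Nat.card G := by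
  classical
  let m : Subgroup G → ℕ := fun H => Nat.card H * Nat.card ↥(Subgroup.centralizer (H : Set G))
  have hcenter : Subgroup.center G = ⊥ := by
    rcases (inferInstance : (Subgroup.center G).Normal).eq_bot_or_eq_top with h | h
    · exact h
    · exact absurd ⟨⟨fun a b => (Subgroup.mem_center_iff.mp (h ▸ Subgroup.mem_top b) a)⟩⟩ hG
  have hbot : m ⊥ = Nat.card G := by
    have : Subgroup.centralizer ((⊥ : Subgroup G) : Set G) = ⊤ := by
      rw [eq_top_iff]; intro x _ y hy
      rw [Subgroup.mem_bot.mp hy, one_mul, mul_one]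
    simp only [m]
    rw [this, Subgroup.card_top, Subgroup.card_bot, one_mul]
  have htop : m ⊤ = Nat.card G := by
    simp [m, Subgroup.coe_top, Subgroup.centralizer_univ, hcenter]
  have hmul : ∀ H K, m H * m K ≤ m (H ⊓ K) * m (H ⊔ K) := by
    intro H K
    have h1 := CfsgLib.LocEven.card_mul_card_le_card_inf_mul_sup H K
    have h2 := CfsgLib.LocEven.card_inf_centralizer_mul_le ⊤ H K
    simp only [top_inf_eq] at h2
    calc m H * m K = (Nat.card H * Nat.card K) * (Nat.card ↥(Subgroup.centralizer (H : Set G))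
          * Nat.card ↥(Subgroup.centralizer (K : Set G))) := by simp only [m]; ring
      _ ≤ (Nat.card ↥(H ⊓ K) * Nat.card ↥(H ⊔ K)) *
          (Nat.card ↥(Subgroup.centralizer ((H ⊔ K : Subgroup G) : Set G))
          * Nat.card ↥(Subgroup.centralizer ((H ⊓ K : Subgroup G) : Set G))) := Nat.mul_le_mul h1 h2
      _ = m (H ⊓ K) * m (H ⊔ K) := by simp only [m]; ring
  haveI : Finite (Subgroup G) := inferInstance
  obtain ⟨H1, -, hH1'⟩ := Set.exists_max_image (Set.univ : Set (Subgroup G)) m (Set.toFinite _) ⟨⊥, trivial⟩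
  have hH1 : ∀ H, m H ≤ m H1 := fun H => hH1' H trivial
  by_contra hlt
  push_neg at hlt
  have hA : Nat.card G ≤ m A := hlt
  let 𝓜 : Set (Subgroup G) := {H | H ≠ ⊤ ∧ H ≠ ⊥ ∧ m H = m H1}
  have hne : 𝓜.Nonempty := by
    by_cases h : m A = m H1
    · exact ⟨A, hA2, hA1, h⟩
    · have : Nat.card G < m H1 := lt_of_le_of_lt hA (lt_of_le_of_ne (hH1 A) h)
      exact ⟨H1, fun e => by rw [e, htop] at this; exact lt_irrefl _ this,
        fun e => by rw [e, hbot] at this; exact lt_irrefl _ this, rfl⟩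
  obtain ⟨B, hB⟩ := Set.Finite.exists_maximal (Set.toFinite 𝓜) hne
  obtain ⟨hB2, hB1, hBm⟩ := hB.1
  have hnn : ¬ B.Normal := fun hn => (hn.eq_bot_or_eq_top).elim hB1 hB2
  apply hnn
  constructor
  intro n hn g
  set B' := B.map (MulAut.conj g).toMonoidHom with hB'def
  have hB'm : m B' = m H1 := by
    rw [← hBm]
    simp only [m, hB'def, CfsgLib.LocEven.centralizer_map_conj, CfsgLib.LocEven.card_map_conj]
  suffices B' ≤ B from this ⟨n, hn, rfl⟩
  by_contra hnle
  have hgt : B < B ⊔ B' := lt_of_le_of_ne le_sup_left fun e => hnle (e ▸ le_sup_right)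
  have hsup_m : m (B ⊔ B') = m H1 ∧ m (B ⊓ B') = m H1 := by
    have := hmul B B'
    rw [hBm, hB'm] at this
    have hpos : 0 < m H1 := lt_of_lt_of_le Nat.card_pos (hbot ▸ hH1 ⊥)
    constructor
    · refine le_antisymm (hH1 _) (Nat.le_of_mul_le_mul_left ?_ hpos)
      exact this.trans (Nat.mul_le_mul_right _ (hH1 _))
    · refine le_antisymm (hH1 _) (Nat.le_of_mul_le_mul_right ?_ hpos)
      exact this.trans (Nat.mul_le_mul_left _ (hH1 _))
  have htop' : B ⊔ B' = ⊤ := by
    by_contra h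
    exact hgt.ne' (le_antisymm (hB.2 ⟨h, fun e => by simp [e] at hgt, hsup_m.1⟩ le_sup_left)
      le_sup_left)
  -- equality in both product inequalities
  have h1 := CfsgLib.LocEven.card_mul_card_le_card_inf_mul_sup B B'
  have h2 := CfsgLib.LocEven.card_inf_centralizer_mul_le ⊤ B B'
  simp only [top_inf_eq] at h2
  have heq : (Nat.card B * Nat.card B') * (Nat.card ↥(Subgroup.centralizer (B : Set G))
          * Nat.card ↥(Subgroup.centralizer (B' : Set G))) =
      (Nat.card ↥(B ⊓ B') * Nat.card ↥(B ⊔ B')) *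
          (Nat.card ↥(Subgroup.centralizer ((B ⊔ B' : Subgroup G) : Set G))
          * Nat.card ↥(Subgroup.centralizer ((B ⊓ B' : Subgroup G) : Set G))) := by
    calc _ = m B * m B' := by simp only [m]; ring
      _ = m (B ⊓ B') * m (B ⊔ B') := by rw [hBm, hB'm, hsup_m.1, hsup_m.2]
      _ = _ := by simp only [m]; ring
  have hcard : Nat.card B * Nat.card B' = Nat.card ↥(B ⊓ B') * Nat.card G := by
    rw [htop', Subgroup.card_top] at h1
    refine le_antisymm h1 ?_
    by_contra hlt'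
    push_neg at hlt'
    rw [htop', Subgroup.card_top] at heq
    rw [htop'] at h2
    have : 0 < Nat.card ↥(Subgroup.centralizer ((⊤ : Subgroup G) : Set G))
          * Nat.card ↥(Subgroup.centralizer ((B ⊓ B' : Subgroup G) : Set G)) :=
      Nat.mul_pos Nat.card_pos Nat.card_pos
    exact absurd heq (ne_of_lt (Nat.mul_lt_mul_of_lt_of_le hlt' h2 this))
  obtain ⟨k, ⟨c, hc, hck⟩, x, hx, hgx⟩ := CfsgLib.LocEven.exists_mul_of_card_eq hcard g
  have hgB : g ∈ B := by
    have h : g = g * c * g⁻¹ * x := by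
      conv_lhs => rw [hgx, ← hck]
      rfl
    have h' : g⁻¹ = c⁻¹ * x⁻¹ := by
      calc g⁻¹ = g⁻¹ * g * g⁻¹ := by group
        _ = c⁻¹ * (g⁻¹ * (g * c * g⁻¹ * x) * x⁻¹) := by group
        _ = c⁻¹ * (g⁻¹ * g * x⁻¹) := by rw [← h]
        _ = c⁻¹ * x⁻¹ := by group
    exact inv_mem_iff.mp (h' ▸ mul_mem (inv_mem hc) (inv_mem hx))
  apply hnle
  rintro _ ⟨b, hb, rfl⟩
  exact mul_mem (mul_mem hgB hb) (inv_mem hgB)


end Cfsg.Agent.S3036
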