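import Cfsg.Statements.S3037
import Cfsg.Agent.Lib.LocEven.Measure

set_option autoImplicit false
open Cfsg

namespace Cfsg.Agent.S3037

/-- Let V and G be subgroups of a finite group with V an elementary abelian p-group (p prime) on which G acts faithfully and irreducibly by conjugation: G normalizes V, G ∩ C(V) = 1, and the only subgroups of V normalized by G are 1 and V. If for some nontrivial subgroup A of G and some real α > 0 one has |V| ≤ |A|^α · |C_V(A)|, then |V| ≤ |G|^α. -/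
theorem result {X : Type*} [Group X] [Finite X] {p : ℕ} [Fact p.Prime] (V G : Subgroup X) (hV : Cfsg.IsElementaryAbelian p V)
    (hGV : G ≤ Subgroup.normalizer (V : Set X)) (hfaith : G ⊓ Subgroup.centralizer (V : Set X) = ⊥)
    (hirr : ∀ W : Subgroup X, W ≤ V → G ≤ Subgroup.normalizer (W : Set X) → W = ⊥ ∨ W = V)
    (A : Subgroup X) (hA : A ≤ G) (hA1 : A ≠ ⊥) (α : ℝ) (hα : 0 < α)
    (hbig : (Nat.card V : ℝ) ≤ (Nat.card A : ℝ) ^ α * (Nat.card ↥(V ⊓ Subgroup.centralizer (A : Set X)) : ℝ)) :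
    (Nat.card V : ℝ) ≤ (Nat.card G : ℝ) ^ α := by
  classical
  let C : Subgroup X → ℕ := fun H => Nat.card ↥(V ⊓ Subgroup.centralizer (H : Set X))
  let m : Subgroup X → ℝ := fun H => (Nat.card H : ℝ) ^ α * (C H : ℝ)
  have hCpos : ∀ H, (0:ℝ) < C H := fun H => Nat.cast_pos.mpr Nat.card_pos
  have hHpos : ∀ H : Subgroup X, (0:ℝ) < Nat.card H := fun H => Nat.cast_pos.mpr Nat.card_pos
  have hmpos : ∀ H, 0 < m H := fun H => mul_pos (Real.rpow_pos_of_pos (hHpos H) α) (hCpos H)
  have hmul : ∀ H K, m H * m K ≤ m (H ⊓ K) * m (H ⊔ K) := by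
    intro H K
    have h1 : (Nat.card H : ℝ) * Nat.card K ≤ Nat.card ↥(H ⊓ K) * Nat.card ↥(H ⊔ K) := by
      exact_mod_cast CfsgLib.LocEven.card_mul_card_le_card_inf_mul_sup H K
    have h2 : (C H : ℝ) * C K ≤ (C (H ⊔ K) : ℝ) * C (H ⊓ K) := by
      exact_mod_cast CfsgLib.LocEven.card_inf_centralizer_mul_le V H K
    calc m H * m K = ((Nat.card H : ℝ) * Nat.card K) ^ α * ((C H : ℝ) * C K) := by
          rw [Real.mul_rpow (hHpos H).le (hHpos K).le]; simp only [m]; ring
      _ ≤ ((Nat.card ↥(H ⊓ K) : ℝ) * Nat.card ↥(H ⊔ K)) ^ α * ((C (H ⊔ K) : ℝ) * C (H ⊓ K)) :=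
          mul_le_mul (Real.rpow_le_rpow (mul_pos (hHpos H) (hHpos K)).le h1 hα.le) h2
            (mul_pos (hCpos H) (hCpos K)).le (Real.rpow_nonneg (mul_pos (hHpos _) (hHpos _)).le _)
      _ = m (H ⊓ K) * m (H ⊔ K) := by
          rw [Real.mul_rpow (hHpos _).le (hHpos _).le]; simp only [m]; ring
  let 𝒜 : Set (Subgroup X) := {H | H ≤ G}
  obtain ⟨H1, hH1G, hH1⟩ := Set.exists_max_image 𝒜 m (Set.toFinite _) ⟨A, hA⟩
  let 𝓜 : Set (Subgroup X) := {H | H ≤ G ∧ m H = m H1}
  obtain ⟨H0, hH0⟩ := Set.Finite.exists_maximal (Set.toFinite 𝓜) ⟨H1, hH1G, rfl⟩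
  have hgreat : ∀ H ∈ 𝓜, H ≤ H0 := by
    intro H hH
    have hle : H0 ⊔ H ≤ G := sup_le hH0.1.1 hH.1
    have := hmul H0 H
    rw [hH0.1.2, hH.2] at this
    have hs : m (H0 ⊔ H) = m H1 := by
      refine le_antisymm (hH1 _ hle) (le_of_mul_le_mul_left ?_ (hmpos H1))
      exact this.trans (mul_le_mul_of_nonneg_right (hH1 _ (inf_le_left.trans hH0.1.1)) (hmpos _).le)
    exact le_sup_right.trans (hH0.2 ⟨hle, hs⟩ le_sup_left)
  have hA' : (Nat.card V : ℝ) ≤ m A := hbig
  have hVM : (Nat.card V : ℝ) ≤ m H1 := hA'.trans (hH1 A hA)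
  have hH0ne : H0 ≠ ⊥ := by
    intro h0
    have hbotC : C ⊥ = Nat.card V := by
      have : Subgroup.centralizer ((⊥ : Subgroup X) : Set X) = ⊤ := by
        rw [eq_top_iff]; intro x _ y hy
        rw [Subgroup.mem_bot.mp hy, one_mul, mul_one]
      simp only [C]
      rw [this, inf_top_eq]
    have hM : m H1 = Nat.card V := by
      rw [← hH0.1.2, h0]
      simp [m, hbotC]
    exact hA1 (le_bot_iff.mp (h0 ▸ hgreat A ⟨hA, le_antisymm (hH1 A hA) (hM ▸ hA')⟩))
  have hinv : G ≤ Subgroup.normalizer ((V ⊓ Subgroup.centralizer (H0 : Set X) : Subgroup X) : Set X) := by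
    intro g hg
    have hconj : H0.map (MulAut.conj g).toMonoidHom = H0 := by
      apply Subgroup.eq_of_le_of_card_ge
      · apply hgreat
        refine ⟨?_, ?_⟩
        · rintro _ ⟨h, hh, rfl⟩
          exact mul_mem (mul_mem hg (hH0.1.1 hh)) (inv_mem hg)
        · rw [← hH0.1.2]
          have hC : V ⊓ Subgroup.centralizer ((H0.map (MulAut.conj g).toMonoidHom : Subgroup X) : Set X)
              = (V ⊓ Subgroup.centralizer (H0 : Set X)).map (MulAut.conj g).toMonoidHom := by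
            rw [Subgroup.map_inf _ _ _ (MulAut.conj g).injective,
              CfsgLib.LocEven.normalizer_mem_map_eq (hGV hg), CfsgLib.LocEven.centralizer_map_conj]
          simp only [m, C, hC, CfsgLib.LocEven.card_map_conj]
      · rw [CfsgLib.LocEven.card_map_conj]
    have hfix : (V ⊓ Subgroup.centralizer (H0 : Set X)).map (MulAut.conj g).toMonoidHom
        = V ⊓ Subgroup.centralizer (H0 : Set X) := by
      rw [Subgroup.map_inf _ _ _ (MulAut.conj g).injective,
        CfsgLib.LocEven.normalizer_mem_map_eq (hGV hg), ← CfsgLib.LocEven.centralizer_map_conj, hconj]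
    rw [Subgroup.mem_normalizer_iff]
    intro n
    conv_rhs => rw [← hfix]
    exact (Subgroup.mem_map_iff_mem (f := (MulAut.conj g).toMonoidHom)
      (MulAut.conj g).injective).symm
  rcases hirr _ inf_le_left hinv with h | h
  · have hC1 : C H0 = 1 := by simp only [C, h]; exact Subgroup.card_bot
    calc (Nat.card V : ℝ) ≤ m H0 := hH0.1.2.symm ▸ hVM
      _ = (Nat.card H0 : ℝ) ^ α := by simp [m, hC1]
      _ ≤ (Nat.card G : ℝ) ^ α := by
          exact Real.rpow_le_rpow (hHpos H0).le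
            (Nat.cast_le.mpr (Nat.le_of_dvd Nat.card_pos (Subgroup.card_dvd_of_le hH0.1.1))) hα.le
  · refine absurd ?_ hH0ne
    rw [eq_bot_iff, ← hfaith]
    refine le_inf hH0.1.1 ?_
    rw [Subgroup.le_centralizer_iff, ← h]
    exact inf_le_right


end Cfsg.Agent.S3037
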