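import Cfsg.Statements.S3038
import Cfsg.Agent.Lib.IsolatedPRankTwo.Main
import Cfsg.Agent.S0126

set_option autoImplicit false
open Cfsg

namespace Cfsg.Agent.S3038

/-- Let G be a finite group and p an odd prime with O_{p'}(G) = 1. Suppose that G has p-rank at most 2 and that some element x of order p is isolated in G and not central. Then F*(G) is a non-abelian simple group, and for every Sylow p-subgroup P of F*(G), either no conjugate of x lies in P and P is cyclic, or some conjugate of x lies in P and either P is extraspecial of order p³ and exponent p, or p = 3 and P has order 3^{2k+1} for some k ≥ 2 and is of maximal class (nilpotency class 2k). Since O_{p'}(G) = 1, such an x is not central modulo O_{p'}(G): the hypotheses describe a counterexample to the Z*_p statement in p-rank at most 2, and the conclusion records the structure it would have. -/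
theorem result {G : Type*} [Group G] [Finite G] {p : ℕ} [Fact p.Prime] (hp : p ≠ 2) (hcore : Cfsg.pPrimeCore p G = ⊥)
    (hrank : Cfsg.PRankLE p 2 G) (x : G) (hx : orderOf x = p) (hiso : Cfsg.IsIsolated x) (hnc : x ∉ Subgroup.center G) :
    IsSimpleGroup ↥(Cfsg.generalizedFittingSubgroup G) ∧ ¬ IsMulCommutative ↥(Cfsg.generalizedFittingSubgroup G) ∧
    ∀ P : Sylow p ↥(Cfsg.generalizedFittingSubgroup G),
      ((∀ g : G, g * x * g⁻¹ ∉ ((P : Subgroup ↥(Cfsg.generalizedFittingSubgroup G)).map (Cfsg.generalizedFittingSubgroup G).subtype)) ∧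
          IsCyclic ↥(P : Subgroup ↥(Cfsg.generalizedFittingSubgroup G))) ∨
      ((∃ g : G, g * x * g⁻¹ ∈ ((P : Subgroup ↥(Cfsg.generalizedFittingSubgroup G)).map (Cfsg.generalizedFittingSubgroup G).subtype)) ∧
        ((Cfsg.IsExtraspecial p ↥(P : Subgroup ↥(Cfsg.generalizedFittingSubgroup G)) ∧
            Nat.card (P : Subgroup ↥(Cfsg.generalizedFittingSubgroup G)) = p ^ 3 ∧
            ∀ y ∈ (P : Subgroup ↥(Cfsg.generalizedFittingSubgroup G)), y ^ p = 1) ∨
         (p = 3 ∧ ∃ k : ℕ, 2 ≤ k ∧ Nat.card (P : Subgroup ↥(Cfsg.generalizedFittingSubgroup G)) = 3 ^ (2 * k + 1) ∧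
            ∃ _ : Group.IsNilpotent ↥(P : Subgroup ↥(Cfsg.generalizedFittingSubgroup G)),
              Group.nilpotencyClass ↥(P : Subgroup ↥(Cfsg.generalizedFittingSubgroup G)) = 2 * k))) := by
  obtain ⟨hs, hna⟩ := CfsgLib.Case.IsolatedRankTwo.isSimpleGroup_genFitting hp hcore hrank x hx hiso hnc
  refine ⟨hs, hna, ?_⟩
  set F := Cfsg.generalizedFittingSubgroup G
  intro P
  have hpp : p.Prime := Fact.out
  have hPp : IsPGroup p ((P : Subgroup ↥F).map F.subtype) := P.isPGroup'.map _
  by_cases hc : ∀ g : G, g * x * g⁻¹ ∉ (P : Subgroup ↥F).map F.subtype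
  · refine Or.inl ⟨hc, ?_⟩
    by_contra hcyc
    obtain ⟨E, -, ⟨hEc, hEe⟩, hE⟩ := Cfsg.Agent.S0126.result hp P.isPGroup' hcyc
    obtain ⟨S, h, hPS, hxS⟩ := CfsgLib.Case.IsolatedRankTwo.exists_sylow_conj x hx hPp
    set x' := h * x * h⁻¹ with hx'
    set E' := (E.map (P : Subgroup ↥F).subtype).map F.subtype with hE'
    have hE'P : E' ≤ (P : Subgroup ↥F).map F.subtype := Subgroup.map_mono (Subgroup.map_subtype_le _)
    have hcomm : ∀ a ∈ E', ∀ b ∈ E', a * b = b * a := by
      rintro _ ⟨_, ⟨a, ha, rfl⟩, rfl⟩ _ ⟨_, ⟨b, hb, rfl⟩, rfl⟩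
      rw [← map_mul, ← map_mul, ← map_mul, ← map_mul,
        show a * b = b * a from congrArg Subtype.val (hEc.is_comm.comm (⟨a, ha⟩ : E) ⟨b, hb⟩)]
    have hexp : ∀ a ∈ E', a ^ p = 1 := by
      rintro _ ⟨_, ⟨a, ha, rfl⟩, rfl⟩
      rw [← map_pow, ← map_pow, hEe a ha, map_one, map_one]
    have hcx : ∀ a ∈ E', a * x' = x' * a := fun a ha =>
      Subgroup.mem_centralizer_singleton_iff.1 (CfsgLib.LocalEven.isolated_central_in_pSubgroup
        (CfsgLib.Case.IsolatedRankTwo.isolated_conj hiso h) S.isPGroup' hxS (hPS (hE'P ha)))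
    set T : Set G := (E' : Set G) ∪ {x'}
    haveI : IsMulCommutative (Subgroup.closure T) := Subgroup.isMulCommutative_closure (by
      rintro a (ha | rfl) b (hb | rfl)
      · exact hcomm a ha b hb
      · exact hcx a ha
      · exact (hcx b hb).symm
      · rfl)
    have hxp : x' ^ p = 1 := by rw [hx', conj_pow, ← hx, pow_orderOf_eq_one, mul_one, mul_inv_cancel]
    have hB := hrank (Subgroup.closure T) inferInstance (by
      intro a ha
      induction ha using Subgroup.closure_induction with
      | mem a ha =>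
        rcases ha with ha | rfl
        · exact hexp a ha
        · exact hxp
      | one => exact one_pow p
      | mul a b ha' hb' h1 h2 =>
        rw [(show Commute a b from congrArg Subtype.val
          ((inferInstance : IsMulCommutative (Subgroup.closure T)).is_comm.comm
            (⟨a, ha'⟩ : Subgroup.closure T) ⟨b, hb'⟩)).mul_pow, h1, h2, one_mul]
      | inv a _ h1 => rw [inv_pow, h1, inv_one])
    have hlt : E' < Subgroup.closure T := lt_of_le_of_ne
      (fun a ha => Subgroup.subset_closure (Or.inl ha))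
      fun e => hc h (hE'P (e.ge (Subgroup.subset_closure (Or.inr rfl))))
    have h1 := Set.Finite.card_lt_card (Set.toFinite _) hlt
    rw [SetLike.coe_sort_coe, SetLike.coe_sort_coe, hE',
      Subgroup.card_map_of_injective F.subtype_injective,
      Subgroup.card_map_of_injective (P : Subgroup ↥F).subtype_injective, hE] at h1
    omega
  · push Not at hc
    obtain ⟨g, hg⟩ := hc
    refine Or.inr ⟨⟨g, hg⟩, ?_⟩
    obtain ⟨y, hyP, hyg⟩ := hg
    change (y : G) = g * x * g⁻¹ at hyg
    have hy : orderOf y = p := by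
      rw [← Subgroup.orderOf_coe, hyg, show g * x * g⁻¹ = MulAut.conj g x from rfl,
        MulEquiv.orderOf_eq, hx]
    have hyiso : Cfsg.IsIsolated y := fun k hk => Subtype.ext (by
      have h1 := CfsgLib.Case.IsolatedRankTwo.isolated_conj hiso g
      rw [← hyg] at h1
      exact h1 k (hk.map F.subtype))
    haveI := hs
    have hperf : commutator ↥F = ⊤ := by
      refine ((inferInstance : (commutator ↥F).Normal).eq_bot_or_eq_top).resolve_left fun hb => ?_
      refine hna ⟨⟨fun a b => commutatorElement_eq_one_iff_mul_comm.1 ?_⟩⟩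
      rw [← Subgroup.mem_bot, ← hb]
      exact CfsgLib.PGroup.commutatorElement_mem_commutator' a b
    have hrankF : Cfsg.PRankLE p 2 ↥F := by
      intro A hA hAp
      rw [← Subgroup.card_map_of_injective (K := A) F.subtype_injective]
      refine hrank _ ⟨⟨?_⟩⟩ ?_
      · rintro ⟨_, a, ha, rfl⟩ ⟨_, b, hb, rfl⟩
        exact Subtype.ext (congrArg F.subtype
          (congrArg Subtype.val (hA.is_comm.comm (⟨a, ha⟩ : A) ⟨b, hb⟩)))
      · rintro _ ⟨a, ha, rfl⟩
        rw [← map_pow, hAp a ha, map_one]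
    rcases CfsgLib.IsolatedPRankTwo.sylow_structure P hy hyiso hyP hperf hrankF hp with
      ⟨h1, h2, h3⟩ | h1
    · exact Or.inl ⟨h1, h2, fun u hu => by simpa using congrArg Subtype.val (h3 ⟨u, hu⟩)⟩
    · exact Or.inr h1

end Cfsg.Agent.S3038
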