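import Cfsg.Statements.S3050
import Cfsg.Agent.Lib.Case.SL2FpfGroup

set_option autoImplicit false
open Cfsg

namespace Cfsg.Agent.S3050

/-- Let G be a finite group with a normal 2-subgroup Q such that G/Q is isomorphic to SL(2, 2ⁿ) with n ≥ 2, and suppose some element of G of order 3 fixes no nonidentity element of Q under conjugation. Then Q is elementary abelian and is the direct product of normal subgroups of G on each of which G acts as SL(2, 2ⁿ) acts on its natural two-dimensional module (a Galois twist of the natural action allowed). -/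
theorem result {G : Type*} [Group G] [Finite G]
    (Q : Subgroup G) [Q.Normal] (hQ : IsPGroup 2 ↥Q) (n : ℕ) (hn : 2 ≤ n)
    (K : Type*) [Field K] [Fintype K] (hK : Fintype.card K = 2 ^ n)
    (e : G ⧸ Q ≃* Matrix.SpecialLinearGroup (Fin 2) K)
    (x : G) (hx : orderOf x = 3) (hfpf : ∀ q ∈ Q, x * q * x⁻¹ = q → q = 1) :
    Cfsg.IsElementaryAbelian 2 Q ∧
      ∃ (k : ℕ) (V : Fin k → Subgroup G), (∀ i, V i ≤ Q ∧ (V i).Normal ∧
        Cfsg.ActsAsSL2OnSection K ⊤ ⊤ (V i) ⊥) ∧ iSupIndep V ∧ ⨆ i, V i = Q := by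
  classical
  haveI : CharP K 2 := CharTwo.of_one_ne_zero_of_two_eq_zero one_ne_zero (by
    have h := FiniteField.cast_card_eq_zero K
    rw [hK, Nat.cast_pow, Nat.cast_ofNat] at h
    exact pow_eq_zero_iff (by omega) |>.1 h)
  have h4F : 4 ≤ Fintype.card K := by
    rw [hK]
    calc 4 = 2 ^ 2 := rfl
      _ ≤ 2 ^ n := Nat.pow_le_pow_right (by norm_num) hn
  let φ : G →* Matrix.SpecialLinearGroup (Fin 2) K := e.toMonoidHom.comp (QuotientGroup.mk' Q)
  have hφ : Function.Surjective φ := e.surjective.comp (QuotientGroup.mk'_surjective Q)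
  have hker : φ.ker = Q := by
    ext g
    simp [φ, MonoidHom.mem_ker]
  obtain ⟨hab, hexp, k, ψ, hψ⟩ :=
    CfsgLib.Case.SL2Fpf.higman φ hφ h4F Q hker hQ x hx hfpf
  refine ⟨⟨⟨⟨fun a b => Subtype.ext (hab a a.2 b b.2)⟩⟩, hexp⟩, k, ?_⟩
  exact CfsgLib.Case.SL2Fpf.exists_summands φ hφ Q hab hψ

end Cfsg.Agent.S3050
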