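import Cfsg.Statements.S3053
import Cfsg.Agent.Lib.LocEven.Card
import Mathlib.GroupTheory.Sylow
import Mathlib.GroupTheory.Frattini
import Mathlib.GroupTheory.Exponent
import Mathlib.Data.Nat.Choose.Dvd

set_option autoImplicit false
open Cfsg

namespace Cfsg.Agent.S3053

open scoped commutatorElement

theorem pow_mul_conj_of_central {G : Type*} [Group G] {g h z : G} (hh : h * g = z * (g * h))
    (hzg : Commute z g) (hzh : Commute z h) (n : ℕ) :
    (g * h) ^ n = z ^ (n.choose 2) * (g ^ n * h ^ n) := by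
  have h2 : ∀ n : ℕ, h ^ n * g = z ^ n * (g * h ^ n) := by
    intro n
    induction n with
    | zero => simp
    | succ n ih =>
      calc h ^ (n + 1) * g = h ^ n * (h * g) := by rw [pow_succ, mul_assoc]
        _ = h ^ n * z * g * h := by rw [hh]; group
        _ = z * (h ^ n * g) * h := by rw [← (hzh.pow_right n).eq]; group
        _ = z ^ (n + 1) * (g * h ^ (n + 1)) := by rw [ih, pow_succ', pow_succ]; group
  induction n with
  | zero => simp
  | succ n ih =>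
    have e : (n + 1).choose 2 = n + n.choose 2 := by
      rw [Nat.choose_succ_succ' n 1, Nat.choose_one_right]
    calc (g * h) ^ (n + 1) = z ^ n.choose 2 * g ^ n * (h ^ n * g) * h := by
          rw [pow_succ, ih]; simp only [mul_assoc]
      _ = z ^ n.choose 2 * (g ^ n * z ^ n) * (g * h ^ n * h) := by rw [h2]; simp only [mul_assoc]
      _ = z ^ n.choose 2 * (z ^ n * g ^ n) * (g * h ^ n * h) := by rw [← (hzg.pow_pow n n).eq]
      _ = z ^ (n + 1).choose 2 * (g ^ (n + 1) * h ^ (n + 1)) := by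
          rw [e, add_comm n, pow_add, pow_succ g n, pow_succ h n]; simp only [mul_assoc]

/-- Let p be an odd prime and G a finite group with a Sylow p-subgroup P that is extraspecial of order p³ and exponent p². Then the centre of P is strongly closed in P with respect to G: a G-conjugate of an element of Z(P) that lies in P already lies in Z(P). In particular a nontrivial central element of P is conjugate in G to no noncentral element of P. -/
theorem result {G : Type*} [Group G] [Finite G]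
    {p : ℕ} [Fact p.Prime] (hp : p ≠ 2) (P : Sylow p G) (hE : Cfsg.IsExtraspecial p ↥P)
    (hcard : Nat.card P = p ^ 3) (hexp : Monoid.exponent ↥P = p ^ 2) :
    Cfsg.IsStronglyClosed ((Subgroup.center ↥P).map (P : Subgroup G).subtype) (P : Subgroup G) := by
  classical
  have hpr : p.Prime := Fact.out
  obtain ⟨k, hk⟩ : Odd p := hpr.odd_of_ne_two hp
  obtain ⟨⟨hPp, hfr, hcom⟩, hZcard⟩ := hE
  set P₀ := (P : Subgroup G) with hP₀
  change frattini ↥P₀ = Subgroup.center ↥P₀ at hfr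
  change commutator ↥P₀ = Subgroup.center ↥P₀ at hcom
  change Monoid.exponent ↥P₀ = p ^ 2 at hexp
  change Nat.card ↥(Subgroup.center ↥P₀) = p at hZcard
  set Zg := (Subgroup.center ↥P₀).map P₀.subtype with hZg
  have hZP : Zg ≤ P₀ := Subgroup.map_subtype_le _
  have hZcard' : Nat.card Zg = p := by rw [hZg, Subgroup.card_subtype]; exact hZcard
  have hZc : ∀ z ∈ Zg, ∀ x ∈ P₀, x * z = z * x := by
    rintro _ ⟨⟨z, hzP⟩, hz, rfl⟩ x hx
    exact congrArg Subtype.val (Subgroup.mem_center_iff.mp hz ⟨x, hx⟩)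
  have hcomm : ∀ x ∈ P₀, ∀ y ∈ P₀, x * y * x⁻¹ * y⁻¹ ∈ Zg := by
    intro x hx y hy
    refine ⟨⁅(⟨x, hx⟩ : P₀), (⟨y, hy⟩ : P₀)⁆, ?_, rfl⟩
    exact hcom ▸ Subgroup.commutator_mem_commutator (Subgroup.mem_top _) (Subgroup.mem_top _)
  have hpow : ∀ x ∈ P₀, x ^ p ∈ Zg := by
    intro x hx
    refine ⟨⟨x, hx⟩ ^ p, ?_, rfl⟩
    -- `x ^ p` lies in every maximal subgroup
    rw [SetLike.mem_coe, ← hfr]
    show (⟨x, hx⟩ : P₀) ^ p ∈ Order.radical (Subgroup P₀)
    simp only [Order.radical, Subgroup.mem_iInf]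
    intro M hM
    haveI : Group.IsNilpotent ↥P₀ := hPp.isNilpotent
    haveI hMn : M.Normal :=
      Subgroup.NormalizerCondition.normal_of_coatom M Group.normalizerCondition_of_isNilpotent hM
    have hidx : M.index = p := by
      obtain ⟨n, hn⟩ := (hPp.to_quotient M).exists_card_eq
      have hn0 : n ≠ 0 := by
        intro h0
        rw [h0, pow_zero] at hn
        exact hM.1 (Subgroup.index_eq_one.mp hn)
      obtain ⟨q, hq⟩ := exists_prime_orderOf_dvd_card' (G := ↥P₀ ⧸ M) p (hn ▸ dvd_pow_self p hn0)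
      have htop : Subgroup.zpowers q = ⊤ := by
        set C := (Subgroup.zpowers q).comap (QuotientGroup.mk' M) with hC
        have hMC : M < C := by
          refine lt_of_le_of_ne (fun m hm => ?_) ?_
          · show (m : ↥P₀ ⧸ M) ∈ Subgroup.zpowers q
            rw [(QuotientGroup.eq_one_iff m).mpr hm]; exact one_mem _
          · intro e
            obtain ⟨y, hy⟩ := QuotientGroup.mk'_surjective M q
            have : y ∈ C := by
              show QuotientGroup.mk' M y ∈ Subgroup.zpowers q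
              rw [hy]; exact Subgroup.mem_zpowers q
            rw [← e] at this
            have h1 : q = 1 := hy ▸ (QuotientGroup.eq_one_iff y).mpr this
            rw [h1, orderOf_one] at hq
            exact hpr.ne_one hq.symm
        have := hM.2 C hMC
        rw [eq_top_iff]
        intro y _
        obtain ⟨y', rfl⟩ := QuotientGroup.mk'_surjective M y
        exact (this.ge (Subgroup.mem_top y') : y' ∈ C)
      rw [Subgroup.index, ← Subgroup.card_top, ← htop, Nat.card_zpowers, hq]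
    have := M.pow_index_mem ⟨x, hx⟩
    rwa [hidx] at this
  have hp' : ∀ z ∈ Zg, z ^ p = 1 := fun z hz => by
    have h := pow_card_eq_one' (G := Zg) (x := ⟨z, hz⟩)
    rw [hZcard'] at h
    exact congrArg Subtype.val h
  have hmulp : ∀ x ∈ P₀, ∀ y ∈ P₀, (x * y) ^ p = x ^ p * y ^ p := by
    intro x hx y hy
    set z := y * x * y⁻¹ * x⁻¹ with hz
    have hzZ : z ∈ Zg := hcomm y hy x hx
    rw [pow_mul_conj_of_central (z := z) (by rw [hz]; group) (hZc z hzZ x hx).symm (hZc z hzZ y hy).symm]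
    have : p ∣ p.choose 2 := Nat.Prime.dvd_choose_self (Fact.out : p.Prime) (by norm_num) (by have := hpr.two_le; omega)
    obtain ⟨c, hc⟩ := this
    rw [hc, pow_mul, hp' z hzZ, one_pow, one_mul]
  -- the subgroup of elements of order dividing `p`
  let A : Subgroup G :=
    { carrier := {x | x ∈ P₀ ∧ x ^ p = 1}
      mul_mem' := fun {a b} ha hb => ⟨mul_mem ha.1 hb.1, by rw [hmulp a ha.1 b hb.1, ha.2, hb.2, one_mul]⟩
      one_mem' := ⟨one_mem _, one_pow p⟩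
      inv_mem' := fun {a} ha => ⟨inv_mem ha.1, by rw [inv_pow, ha.2, inv_one]⟩ }
  have hAP : A ≤ P₀ := fun x hx => hx.1
  have hZA : Zg ≤ A := fun z hz => ⟨hZP hz, hp' z hz⟩
  have hAnorm : ∀ a ∈ A, ∀ x ∈ P₀, x * a * x⁻¹ ∈ A := fun a ha x hx =>
    ⟨mul_mem (mul_mem hx ha.1) (inv_mem hx), by rw [conj_pow, ha.2]; group⟩
  have hAcard : Nat.card A = p ^ 2 := by
    let f : P₀ →* G :=
      { toFun := fun x => (x : G) ^ p
        map_one' := one_pow p
        map_mul' := fun x y => hmulp x x.2 y y.2 }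
    have hker : A.subgroupOf P₀ = f.ker := by
      ext x
      rw [Subgroup.mem_subgroupOf, MonoidHom.mem_ker]
      exact ⟨fun h => h.2, fun h => ⟨x.2, h⟩⟩
    have hrange : f.range = Zg := by
      refine Subgroup.eq_of_le_of_card_ge (by rintro _ ⟨x, rfl⟩; exact hpow x x.2) ?_
      rw [hZcard']
      have hne : f.range ≠ ⊥ := by
        intro h
        have hdvd : Monoid.exponent ↥P₀ ∣ p := Monoid.exponent_dvd_of_forall_pow_eq_one fun x => by
          apply Subtype.ext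
          have : f x ∈ (⊥ : Subgroup G) := h ▸ ⟨x, rfl⟩
          simpa [f] using Subgroup.mem_bot.mp this
        rw [hexp] at hdvd
        have h1 := Nat.le_of_dvd hpr.pos hdvd
        have h2 := hpr.two_le
        nlinarith
      have hd : Nat.card f.range ∣ p :=
        hZcard' ▸ Subgroup.card_dvd_of_le (by rintro _ ⟨x, rfl⟩; exact hpow x x.2)
      rcases (Nat.dvd_prime hpr).mp hd with h | h
      · exact absurd (Subgroup.eq_bot_of_card_eq _ h) hne
      · exact h.ge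
    have h := f.ker.card_mul_index
    rw [Subgroup.index_ker, hrange, hZcard', ← hker,
      Nat.card_congr (Subgroup.subgroupOfEquivOfLe hAP).toEquiv,
      show Nat.card ↥P₀ = p ^ 3 from hcard] at h
    exact Nat.eq_of_mul_eq_mul_right hpr.pos (h.trans (by ring))
  obtain ⟨z₀, hz₀, hz₀o⟩ : ∃ z ∈ Zg, orderOf z = p := by
    obtain ⟨⟨z, hz⟩, ho⟩ := exists_prime_orderOf_dvd_card' (G := Zg) p (by rw [hZcard'])
    exact ⟨z, hz, by rwa [← Subgroup.orderOf_coe] at ho⟩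
  refine ⟨hZP, fun x hx g hgP => ?_⟩
  by_contra hgZ
  set y := g * x * g⁻¹ with hy
  have hx1 : x ≠ 1 := by
    intro h
    apply hgZ
    rw [hy, h]
    simp
  have hxo : orderOf x = p := orderOf_eq_prime (hp' x hx) hx1
  have hyA : y ∈ A := ⟨hgP, by rw [hy, conj_pow, hp' x hx]; group⟩
  -- `A` is generated by `y` and the centre
  have hgenA : ∀ a ∈ A, ∃ w ∈ Zg, ∃ j : ℕ, a = w * y ^ j := by
    intro a ha
    have hn : Subgroup.zpowers y ≤ Subgroup.normalizer (Zg : Set G) := by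
      refine le_trans ?_ (Subgroup.centralizer_le_normalizer _)
      rw [Subgroup.zpowers_le]
      intro w hw
      exact (hZc w hw y hgP).symm
    have hsup : Zg ⊔ Subgroup.zpowers y = A := by
      have hle : Zg ⊔ Subgroup.zpowers y ≤ A := sup_le hZA ((Subgroup.zpowers_le).mpr hyA)
      refine Subgroup.eq_of_le_of_card_ge hle ?_
      rw [hAcard]
      have h1 := Subgroup.card_dvd_of_le hle
      rw [hAcard] at h1
      obtain ⟨i, hi, hi'⟩ := (Nat.dvd_prime_pow hpr).mp h1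
      rw [hi']
      refine Nat.pow_le_pow_right hpr.pos ?_
      by_contra hlt
      have : Zg = Zg ⊔ Subgroup.zpowers y := Subgroup.eq_of_le_of_card_ge le_sup_left (by
        rw [hi', hZcard']
        calc p ^ i ≤ p ^ 1 := Nat.pow_le_pow_right hpr.pos (by omega)
          _ = p := pow_one p)
      exact hgZ (this.ge ((le_sup_right : Subgroup.zpowers y ≤ Zg ⊔ Subgroup.zpowers y) (Subgroup.mem_zpowers y)))
    have ha' := hsup.ge ha
    rw [← SetLike.mem_coe, Subgroup.coe_mul_of_right_le_normalizer_left Zg _ hn] at ha'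
    obtain ⟨w, hw, u, hu, rfl⟩ := Set.mem_mul.mp ha'
    obtain ⟨j, rfl⟩ := mem_powers_iff_mem_zpowers.mpr hu
    exact ⟨w, hw, j, rfl⟩
  have hAcomm : ∀ a ∈ A, ∀ b ∈ A, a * b = b * a := by
    intro a ha b hb
    obtain ⟨w, hw, i, rfl⟩ := hgenA a ha
    obtain ⟨v, hv, j, rfl⟩ := hgenA b hb
    have hyy : ∀ n : ℕ, y ^ n ∈ P₀ := fun n => pow_mem hgP n
    have c1 : Commute w v := hZc v hv w (hZP hw)
    have c2 : Commute w (y ^ j) := (hZc w hw _ (hyy j)).symm
    have c3 : Commute (y ^ i) v := hZc v hv _ (hyy i)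
    have c4 : Commute (y ^ i) (y ^ j) := (Commute.refl y).pow_pow i j
    exact ((c1.mul_right c2).mul_left (c3.mul_right c4)).eq
  -- the centraliser of `A` in `P`
  have hCA : ∀ u ∈ P₀, u * y = y * u → u ∈ A := by
    intro u hu huy
    by_contra huA
    have hsup : A ⊔ Subgroup.zpowers u = P₀ := by
      have hle : A ⊔ Subgroup.zpowers u ≤ P₀ := sup_le hAP ((Subgroup.zpowers_le).mpr hu)
      refine Subgroup.eq_of_le_of_card_ge hle ?_
      have hc : Nat.card ↥P₀ = p ^ 3 := hcard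
      rw [hc]
      obtain ⟨i, -, hi⟩ := (Nat.dvd_prime_pow hpr).mp (hc ▸ Subgroup.card_dvd_of_le hle)
      rw [hi]
      refine Nat.pow_le_pow_right hpr.pos ?_
      by_contra hlt
      have : A = A ⊔ Subgroup.zpowers u := Subgroup.eq_of_le_of_card_ge le_sup_left (by
        rw [hi, hAcard]; exact Nat.pow_le_pow_right hpr.pos (by omega))
      exact huA (this.ge ((le_sup_right : Subgroup.zpowers u ≤ A ⊔ Subgroup.zpowers u) (Subgroup.mem_zpowers u)))
    have hyc : A ⊔ Subgroup.zpowers u ≤ Subgroup.centralizer ({y} : Set G) := by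
      refine sup_le (fun a ha => Subgroup.mem_centralizer_singleton_iff.mpr (hAcomm a ha y hyA)) ?_
      rw [Subgroup.zpowers_le, Subgroup.mem_centralizer_singleton_iff]
      exact huy
    rw [hsup] at hyc
    exact hgZ ⟨⟨y, hgP⟩, Subgroup.mem_center_iff.mpr fun v =>
      Subtype.ext (Subgroup.mem_centralizer_singleton_iff.mp (hyc v.2)), rfl⟩
  -- a Sylow subgroup with centre containing `y`, containing `A`
  set C := Subgroup.centralizer ({y} : Set G) with hCdef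
  have hgPC : ((g • P : Sylow p G) : Subgroup G) ≤ C := by
    rw [Sylow.coe_subgroup_smul]
    rintro _ ⟨s, hs, rfl⟩
    rw [hCdef, Subgroup.mem_centralizer_singleton_iff]
    show g * s * g⁻¹ * y = y * (g * s * g⁻¹)
    rw [hy]
    have := hZc x hx s hs
    calc g * s * g⁻¹ * (g * x * g⁻¹) = g * (s * x) * g⁻¹ := by group
      _ = g * (x * s) * g⁻¹ := by rw [this]
      _ = g * x * g⁻¹ * (g * s * g⁻¹) := by group
  obtain ⟨Tc, hTc⟩ := ((P.isPGroup'.to_le hAP).comap_of_injective C.subtype C.subtype_injective).exists_le_sylow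
  obtain ⟨c, hc⟩ := MulAction.exists_smul_eq C ((g • P).subtype hgPC) Tc
  set h := (c : G) * g with hh
  have hhy : ∀ s ∈ P₀, h * s * h⁻¹ ∈ C := fun s hs => by
    have h1 : g * s * g⁻¹ ∈ C := hgPC ⟨s, hs, rfl⟩
    simpa [hh, mul_assoc] using mul_mem (mul_mem c.2 h1) (inv_mem c.2)
  have hhA : ∀ a ∈ A, h⁻¹ * a * h ∈ A := by
    intro a ha
    have haC : a ∈ C := Subgroup.mem_centralizer_singleton_iff.mpr (hAcomm a ha y hyA)
    have h1 : (⟨a, haC⟩ : C) ∈ (Tc : Subgroup C) := hTc (Subgroup.mem_comap.mpr ha)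
    rw [← hc, Sylow.smul_subtype, Sylow.coe_subtype, Subgroup.mem_subgroupOf] at h1
    obtain ⟨s₁, hs₁, hsa⟩ := h1
    obtain ⟨s, hs, rfl⟩ := hs₁
    have e : h⁻¹ * a * h = s := by
      rw [show a = (c : G) * (g * s * g⁻¹) * (c : G)⁻¹ from hsa.symm, hh]; group
    refine ⟨e ▸ hs, ?_⟩
    have := conj_pow (a := h⁻¹) (b := a) (i := p)
    rw [inv_inv, ha.2] at this
    simpa using this
  have hmapA : A.map (MulAut.conj h⁻¹).toMonoidHom = A :=
    Subgroup.eq_of_le_of_card_ge (by rintro _ ⟨a, ha, rfl⟩; simpa using hhA a ha)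
      (Subgroup.card_map_of_injective (MulAut.conj h⁻¹).injective).ge
  have hhA' : ∀ a ∈ A, h * a * h⁻¹ ∈ A := by
    intro a ha
    rw [← hmapA] at ha
    obtain ⟨b, hb, rfl⟩ := ha
    simpa [mul_assoc] using hb
  have hz₀A : z₀ ∈ A := hZA hz₀
  -- an element of `P` moving `y` to `y z₀`
  obtain ⟨u₁, hu₁, hu₁A⟩ : ∃ u ∈ P₀, u ∉ A := by
    by_contra hcon
    push_neg at hcon
    have h1 := Subgroup.card_dvd_of_le (show P₀ ≤ A from hcon)
    rw [hAcard, show Nat.card ↥P₀ = p ^ 3 from hcard] at h1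
    have := (Nat.pow_dvd_pow_iff_le_right hpr.one_lt).mp h1
    omega
  -- a power realising a given nontrivial commutator
  have hsurj : ∀ w : G, w ≠ 1 → w ∈ Zg → ∀ v ∈ Zg, ∃ i : ℕ, w ^ i = v := by
    intro w hw hwZ v hv
    have heq : Subgroup.zpowers w = Zg := by
      refine Subgroup.eq_of_le_of_card_ge ((Subgroup.zpowers_le).mpr hwZ) ?_
      rw [hZcard', Nat.card_zpowers, orderOf_eq_prime (hp' w hwZ) hw]
    rw [← heq] at hv
    exact mem_powers_iff_mem_zpowers.mpr hv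
  have hcommpow : ∀ u ∈ P₀, ∀ b ∈ P₀, ∀ i : ℕ,
      u ^ i * b * (u ^ i)⁻¹ * b⁻¹ = (u * b * u⁻¹ * b⁻¹) ^ i := by
    intro u hu b hb i
    induction i with
    | zero => simp
    | succ i ih =>
      have hz := hcomm u hu b hb
      calc u ^ (i + 1) * b * (u ^ (i + 1))⁻¹ * b⁻¹
          = u * (u ^ i * b * (u ^ i)⁻¹ * b⁻¹) * u⁻¹ * (u * b * u⁻¹ * b⁻¹) := by rw [pow_succ']; group
        _ = (u * b * u⁻¹ * b⁻¹) ^ (i + 1) := by
            rw [ih, hZc _ (pow_mem hz i) u hu, mul_assoc _ u u⁻¹, mul_inv_cancel, mul_one, pow_succ]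
  obtain ⟨i₁, hi₁⟩ := hsurj (u₁ * y * u₁⁻¹ * y⁻¹) (fun e => hu₁A (hCA u₁ hu₁ (by
    rwa [mul_inv_eq_one, mul_inv_eq_iff_eq_mul] at e))) (hcomm u₁ hu₁ y hgP) z₀ hz₀
  set u := u₁ ^ i₁ with hu
  have huP : u ∈ P₀ := pow_mem hu₁ _
  have huy : u * y * u⁻¹ = y * z₀ := by
    have := (hcommpow u₁ hu₁ y hgP i₁).trans hi₁
    rw [mul_inv_eq_iff_eq_mul] at this
    rw [this]
    exact (hZc z₀ hz₀ y hgP).symm
  have huz : u * z₀ * u⁻¹ = z₀ := by rw [hZc z₀ hz₀ u huP]; group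
  -- an element of `hPh⁻¹` moving `z₀` to `z₀ y`
  set a₀ := h⁻¹ * z₀ * h with ha₀
  have hyZ : h⁻¹ * y * h ∈ Zg := by
    refine ⟨⟨h⁻¹ * y * h, hAP (hhA y hyA)⟩, Subgroup.mem_center_iff.mpr fun s => Subtype.ext ?_, rfl⟩
    show (s : G) * (h⁻¹ * y * h) = h⁻¹ * y * h * s
    have := Subgroup.mem_centralizer_singleton_iff.mp (hhy s s.2)
    calc (s : G) * (h⁻¹ * y * h) = h⁻¹ * ((h * s * h⁻¹) * y) * h := by group
      _ = h⁻¹ * (y * (h * s * h⁻¹)) * h := by rw [this]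
      _ = h⁻¹ * y * h * s := by group
  have ha₀Z : a₀ ∉ Zg := by
    intro ha₀Z
    have hz₀y : y ≠ 1 → ∃ i : ℕ, (h⁻¹ * y * h) ^ i = a₀ := fun hy1 => hsurj _ (by
      intro e
      apply hy1
      calc y = h * (h⁻¹ * y * h) * h⁻¹ := by group
        _ = 1 := by rw [e]; group) hyZ a₀ ha₀Z
    obtain ⟨i, hi⟩ := hz₀y fun e => hgZ (e ▸ one_mem Zg)
    have hzy : z₀ = y ^ i := by
      have h' := congrArg (fun w => h * w * h⁻¹) hi
      have e1 : (h⁻¹ * y * h) ^ i = h⁻¹ * y ^ i * h := by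
        have := conj_pow (a := h⁻¹) (b := y) (i := i)
        simpa using this
      rw [e1, ha₀] at h'
      simpa [mul_assoc] using h'.symm
    have hz1 : z₀ ≠ 1 := fun e => by rw [e, orderOf_one] at hz₀o; exact hpr.ne_one hz₀o.symm
    obtain ⟨j, hj⟩ := exists_pow_eq_self_of_coprime (x := y) (n := i) (by
      rw [orderOf_eq_prime hyA.2 (fun e => hgZ (e ▸ one_mem Zg))]
      refine (hpr.coprime_iff_not_dvd.mpr fun hd => hz1 ?_).symm
      obtain ⟨c, rfl⟩ := hd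
      rw [hzy, pow_mul, hyA.2, one_pow])
    exact hgZ (hj ▸ pow_mem (hzy ▸ hz₀) j)
  have ha₀A : a₀ ∈ A := hhA z₀ hz₀A
  obtain ⟨i₂, hi₂⟩ := hsurj (u₁ * a₀ * u₁⁻¹ * a₀⁻¹) (fun e => by
    rw [mul_inv_eq_one, mul_inv_eq_iff_eq_mul] at e
    have hgen : ∀ b ∈ A, u₁ * b = b * u₁ := by
      intro b hb
      have hsup : Zg ⊔ Subgroup.zpowers a₀ = A := by
        have hle : Zg ⊔ Subgroup.zpowers a₀ ≤ A := sup_le hZA ((Subgroup.zpowers_le).mpr ha₀A)
        refine Subgroup.eq_of_le_of_card_ge hle ?_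
        rw [hAcard]
        obtain ⟨i, hi, hi'⟩ := (Nat.dvd_prime_pow hpr).mp (hAcard ▸ Subgroup.card_dvd_of_le hle)
        rw [hi']
        refine Nat.pow_le_pow_right hpr.pos ?_
        by_contra hlt
        have : Zg = Zg ⊔ Subgroup.zpowers a₀ := Subgroup.eq_of_le_of_card_ge le_sup_left (by
          rw [hi', hZcard']
          calc p ^ i ≤ p ^ 1 := Nat.pow_le_pow_right hpr.pos (by omega)
            _ = p := pow_one p)
        exact ha₀Z (this.ge ((le_sup_right : Subgroup.zpowers a₀ ≤ Zg ⊔ Subgroup.zpowers a₀) (Subgroup.mem_zpowers a₀)))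
      have hle : Zg ⊔ Subgroup.zpowers a₀ ≤ Subgroup.centralizer ({u₁} : Set G) := by
        refine sup_le (fun w hw => Subgroup.mem_centralizer_singleton_iff.mpr (hZc w hw u₁ hu₁).symm) ?_
        rw [Subgroup.zpowers_le, Subgroup.mem_centralizer_singleton_iff]
        exact e.symm
      exact (Subgroup.mem_centralizer_singleton_iff.mp (hle (hsup.ge hb))).symm
    exact hu₁A (hCA u₁ hu₁ (hgen y hyA))) (hcomm u₁ hu₁ a₀ ha₀A.1) (h⁻¹ * y * h) hyZ
  set v := h * u₁ ^ i₂ * h⁻¹ with hv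
  have hvz : v * z₀ * v⁻¹ = z₀ * y := by
    have e := (hcommpow u₁ hu₁ a₀ ha₀A.1 i₂).trans hi₂
    rw [mul_inv_eq_iff_eq_mul] at e
    calc v * z₀ * v⁻¹ = h * (u₁ ^ i₂ * a₀ * (u₁ ^ i₂)⁻¹) * h⁻¹ := by rw [hv, ha₀]; group
      _ = h * (h⁻¹ * y * h * a₀) * h⁻¹ := by rw [e]
      _ = y * z₀ := by rw [ha₀]; group
      _ = z₀ * y := hZc z₀ hz₀ y hgP
  have hvy : v * y * v⁻¹ = y := by
    rw [Subgroup.mem_centralizer_singleton_iff.mp (hhy _ (pow_mem hu₁ i₂) : v ∈ C), mul_inv_cancel_right]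
  -- `t₀` inverts `A`
  set w := u * v⁻¹ * u with hw
  have hyz : y * z₀ = z₀ * y := hZc z₀ hz₀ y hgP
  have hvinvz : v⁻¹ * z₀ * v = z₀ * y⁻¹ := by
    calc v⁻¹ * z₀ * v = v⁻¹ * (v * z₀ * v⁻¹) * v * (v⁻¹ * y⁻¹ * v) := by rw [hvz]; group
      _ = z₀ * (v⁻¹ * (v * y * v⁻¹)⁻¹ * v) := by rw [hvy]; group
      _ = z₀ * y⁻¹ := by group
  have hwz : w * z₀ * w⁻¹ = y⁻¹ := by
    calc w * z₀ * w⁻¹ = u * (v⁻¹ * (u * z₀ * u⁻¹) * v) * u⁻¹ := by rw [hw]; group
      _ = u * (z₀ * y⁻¹) * u⁻¹ := by rw [huz, hvinvz]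
      _ = (u * z₀ * u⁻¹) * (u * y * u⁻¹)⁻¹ := by group
      _ = z₀ * (y * z₀)⁻¹ := by rw [huz, huy]
      _ = y⁻¹ := by group
  have hwy : w * y * w⁻¹ = z₀ := by
    calc w * y * w⁻¹ = u * (v⁻¹ * (u * y * u⁻¹) * v) * u⁻¹ := by rw [hw]; group
      _ = u * (v⁻¹ * (v * y * v⁻¹) * v * (v⁻¹ * z₀ * v)) * u⁻¹ := by rw [huy, hvy]; group
      _ = u * (y * (z₀ * y⁻¹)) * u⁻¹ := by rw [hvinvz]; group
      _ = u * ((y * z₀) * y⁻¹) * u⁻¹ := by group
      _ = u * ((z₀ * y) * y⁻¹) * u⁻¹ := by rw [hyz]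
      _ = z₀ := by rw [mul_inv_cancel_right]; exact huz
  set t₀ := w * w with ht₀
  have ht₀z : t₀ * z₀ * t₀⁻¹ = z₀⁻¹ := by
    calc t₀ * z₀ * t₀⁻¹ = w * (w * z₀ * w⁻¹) * w⁻¹ := by rw [ht₀]; group
      _ = (w * y * w⁻¹)⁻¹ := by rw [hwz]; group
      _ = z₀⁻¹ := by rw [hwy]
  have ht₀y : t₀ * y * t₀⁻¹ = y⁻¹ := by
    calc t₀ * y * t₀⁻¹ = w * (w * y * w⁻¹) * w⁻¹ := by rw [ht₀]; group
      _ = y⁻¹ := by rw [hwy, hwz]
  have ht₀A : ∀ a ∈ A, t₀ * a * t₀⁻¹ = a⁻¹ := by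
    intro a ha
    obtain ⟨w', hw', j, rfl⟩ := hgenA a ha
    obtain ⟨i, rfl⟩ := hsurj z₀ (fun e => by rw [e, orderOf_one] at hz₀o; exact hpr.ne_one hz₀o.symm) hz₀ w' hw'
    calc t₀ * (z₀ ^ i * y ^ j) * t₀⁻¹ = (t₀ * z₀ ^ i * t₀⁻¹) * (t₀ * y ^ j * t₀⁻¹) := by group
      _ = z₀⁻¹ ^ i * y⁻¹ ^ j := by rw [← conj_pow, ← conj_pow, ht₀z, ht₀y]
      _ = (z₀ ^ i * y ^ j)⁻¹ := by
          rw [inv_pow, inv_pow, mul_inv_rev]
          exact ((Commute.pow_pow (show Commute z₀ y from hyz.symm) i j).inv_inv).eq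
  -- correct `t₀` to normalise `P`
  set K := Subgroup.centralizer (A : Set G) with hK
  have hKn : P₀ ≤ Subgroup.normalizer (K : Set G) := by
    intro s hs
    rw [Subgroup.mem_normalizer_iff]
    intro n
    constructor
    · intro hn a ha
      have h' := hn _ (hAnorm a ha s⁻¹ (inv_mem hs))
      calc a * (s * n * s⁻¹) = s * ((s⁻¹ * a * s⁻¹⁻¹) * n) * s⁻¹ := by group
        _ = s * (n * (s⁻¹ * a * s⁻¹⁻¹)) * s⁻¹ := by rw [h']
        _ = s * n * s⁻¹ * a := by group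
    · intro hn a ha
      have h' := hn _ (hAnorm a ha s hs)
      calc a * n = s⁻¹ * ((s * a * s⁻¹) * (s * n * s⁻¹)) * s := by group
        _ = s⁻¹ * ((s * n * s⁻¹) * (s * a * s⁻¹)) * s := by rw [h']
        _ = n * a := by group
  set L := P₀ ⊔ K with hL
  have htP : ((t₀ • P : Sylow p G) : Subgroup G) ≤ L := by
    rw [Sylow.coe_subgroup_smul]
    rintro _ ⟨s, hs, rfl⟩
    show t₀ * s * t₀⁻¹ ∈ L
    have hmem : s⁻¹ * (t₀ * s * t₀⁻¹) ∈ K := by
      intro a ha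
      have h1 := ht₀A a⁻¹ (inv_mem ha)
      have h1' : t₀⁻¹ * a * t₀ = a⁻¹ := by
        calc t₀⁻¹ * a * t₀ = t₀⁻¹ * (t₀ * a⁻¹ * t₀⁻¹) * t₀ := by rw [h1, inv_inv]
          _ = a⁻¹ := by group
      have h2 := ht₀A (s * a⁻¹ * s⁻¹) (hAnorm _ (inv_mem ha) s hs)
      calc a * (s⁻¹ * (t₀ * s * t₀⁻¹)) = s⁻¹ * (s * a * s⁻¹) * (t₀ * s * t₀⁻¹) := by group
        _ = s⁻¹ * (t₀ * (s * a⁻¹ * s⁻¹) * t₀⁻¹) * (t₀ * s * t₀⁻¹) := by rw [h2]; group
        _ = s⁻¹ * t₀ * s * a⁻¹ * t₀⁻¹ := by group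
        _ = s⁻¹ * t₀ * s * (t₀⁻¹ * a * t₀) * t₀⁻¹ := by rw [h1']
        _ = s⁻¹ * (t₀ * s * t₀⁻¹) * a := by group
    have e : t₀ * s * t₀⁻¹ = s * (s⁻¹ * (t₀ * s * t₀⁻¹)) := by group
    rw [e]
    exact mul_mem ((le_sup_left : P₀ ≤ L) hs) ((le_sup_right : K ≤ L) hmem)
  obtain ⟨⟨l, hl⟩, hlP⟩ := MulAction.exists_smul_eq L ((t₀ • P).subtype htP) (P.subtype le_sup_left)
  have hl' := hl
  rw [hL, ← SetLike.mem_coe, Subgroup.coe_mul_of_left_le_normalizer_right P₀ K hKn] at hl'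
  obtain ⟨s, hs, c', hc', rfl⟩ := Set.mem_mul.mp hl'
  set t := c' * t₀ with ht
  have htnorm : ∀ r ∈ P₀, t * r * t⁻¹ ∈ P₀ := by
    intro r hr
    rw [Sylow.smul_subtype] at hlP
    have hmem : ((s * c') • (t₀ • P) : Sylow p G) = P := Sylow.subtype_injective hlP
    have h1 : (s * c') * (t₀ * r * t₀⁻¹) * (s * c')⁻¹ ∈ P₀ := by
      rw [hP₀, ← hmem, Sylow.coe_subgroup_smul, Sylow.coe_subgroup_smul]
      exact ⟨_, ⟨r, hr, rfl⟩, rfl⟩
    simpa [ht, mul_assoc] using mul_mem (mul_mem (inv_mem hs) h1) hs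
  have htA : ∀ a ∈ A, t * a * t⁻¹ = a⁻¹ := by
    intro a ha
    calc t * a * t⁻¹ = c' * (t₀ * a * t₀⁻¹) * c'⁻¹ := by rw [ht]; group
      _ = c' * a⁻¹ * c'⁻¹ := by rw [ht₀A a ha]
      _ = a⁻¹ := by rw [← hc' _ (inv_mem ha)]; group
  -- final contradiction on `u`
  set u' := t * u * t⁻¹ with hu'
  have hu'y : u' * y * u'⁻¹ = y * z₀ := by
    have e : t * y⁻¹ * t⁻¹ = y := by rw [htA _ (inv_mem hyA), inv_inv]
    calc u' * y * u'⁻¹ = t * (u * (t⁻¹ * (t * y⁻¹ * t⁻¹) * t) * u⁻¹) * t⁻¹ := by rw [e, hu']; group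
      _ = t * (u * y * u⁻¹)⁻¹ * t⁻¹ := by group
      _ = (t * (y * z₀) * t⁻¹)⁻¹ := by rw [huy]; group
      _ = y * z₀ := by rw [htA _ (mul_mem hyA hz₀A), inv_inv]
  have huu : u⁻¹ * u' ∈ A := by
    refine hCA _ (mul_mem (inv_mem huP) (htnorm u huP)) ?_
    calc u⁻¹ * u' * y = u⁻¹ * (u' * y * u'⁻¹) * u' := by group
      _ = u⁻¹ * (u * y * u⁻¹) * u' := by rw [hu'y, huy]
      _ = y * (u⁻¹ * u') := by group
  have hfix : t * u ^ p * t⁻¹ = u ^ p := by
    rw [← conj_pow, ← hu', show u' = u * (u⁻¹ * u') by group, hmulp u huP _ huu.1, huu.2, mul_one]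
  have hsq : u ^ p = 1 := by
    have h1 := htA _ (hZA (hpow u huP))
    rw [hfix] at h1
    have h2 : (u ^ p) ^ 2 = 1 := by rw [pow_two]; nth_rewrite 1 [h1]; exact inv_mul_cancel _
    have h3 := hp' _ (hpow u huP)
    have h4 : ∀ m : G, m ^ 2 = 1 → m ^ p = 1 → m = 1 := by
      intro m hm hm'
      rwa [hk, pow_succ, pow_mul, hm, one_pow, one_mul] at hm'
    exact h4 _ h2 h3
  have huA : u ∈ A := ⟨huP, hsq⟩
  have : u * y * u⁻¹ = y := by rw [hAcomm u huA y hyA]; group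
  rw [huy, mul_eq_left] at this
  rw [this, orderOf_one] at hz₀o
  exact hpr.ne_one hz₀o.symm


end Cfsg.Agent.S3053
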