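import Cfsg.Statements.S3054
import Cfsg.Agent.Lib.Case.ExtraspecialHyp

set_option autoImplicit false
open Cfsg

namespace Cfsg.Agent.S3054

/-- Let p be an odd prime and G a finite group with a Sylow p-subgroup P that is extraspecial of order p³ and exponent p. Suppose P contains three distinct subgroups A of order p² (each is elementary abelian of rank 2) such that every automorphism of A of order p is induced by conjugation by an element of G; equivalently the automorphism group induced on A by its normalizer contains the special linear group of A. Then p ≤ 13. -/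
theorem result {G : Type*} [Group G] [Finite G]
    {p : ℕ} [Fact p.Prime] (hp : p ≠ 2) (P : Sylow p G) (hE : Cfsg.IsExtraspecial p ↥P)
    (hcard : Nat.card P = p ^ 3) (hexp : Monoid.exponent ↥P = p)
    (A : Fin 3 → Subgroup G) (hA : Function.Injective A) (hAP : ∀ i, A i ≤ (P : Subgroup G))
    (hAcard : ∀ i, Nat.card ↥(A i) = p ^ 2)
    (hSL : ∀ i, ∀ φ : MulAut ↥(A i), orderOf φ = p → ∃ g : G, ∀ a : ↥(A i), (φ a : G) = g * (a : G) * g⁻¹) :
    p ≤ 13 := by
  classical
  have hexp' : ∀ x ∈ (P : Subgroup G), x ^ p = 1 := fun x hx =>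
    congrArg Subtype.val (hexp ▸ Monoid.pow_exponent_eq_one (⟨x, hx⟩ : (P : Subgroup G)))
  have hpp : p.Prime := Fact.out
  set Z := (Subgroup.center (P : Subgroup G)).map (P : Subgroup G).subtype with hZdef
  have hZc : Nat.card Z = p := by rw [hZdef, Subgroup.card_subtype]; exact hE.2
  have hy : ∀ i, ∃ a ∈ A i, a ∉ Z ∧
      ∃ y : G, y * a * y⁻¹ = a ∧ (∃ z ∈ Z, y * z * y⁻¹ ≠ z) ∧
        y ∈ Subgroup.normalizer (A i : Set G) ∧ ∃ k, orderOf y = p ^ k := by
    intro i
    have hZA : Z ≤ A i := (CfsgLib.Case.extraspecial_setup P hE hcard (hAcard i) (hAP i)).1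
    obtain ⟨z, hz, hz1⟩ : ∃ z ∈ Z, z ≠ 1 := by
      obtain ⟨⟨z, hz⟩, hz1⟩ := exists_prime_orderOf_dvd_card' p hZc.symm.dvd
      refine ⟨z, hz, fun h => hpp.ne_one ?_⟩
      rw [← hz1, Subgroup.orderOf_mk, h, orderOf_one]
    obtain ⟨a, ha, haZ⟩ : ∃ a ∈ A i, a ∉ Z := by
      by_contra! h
      have := Subgroup.card_le_of_le (show A i ≤ Z from h)
      rw [hAcard i, hZc] at this
      nlinarith [hpp.two_le]
    have hzA := hZA hz
    have haz : a ∉ Subgroup.zpowers z := fun h => haZ (Subgroup.zpowers_le.2 hz h)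
    have hap := hexp' a (hAP i ha)
    obtain ⟨φ, hφo, hφa, hφz⟩ := CfsgLib.Case.exists_shear (hAcard i) hzA ha
      (hexp' z (hAP i hzA)) hap hz1 haz
    obtain ⟨g, hg⟩ := hSL i φ hφo
    have ha1 : a ≠ 1 := fun h => haZ (h ▸ one_mem _)
    obtain ⟨y, h1, h2, h3⟩ := CfsgLib.Case.hy_of_shear (A := A i) (z := z) (g := g) hap ha1
      (by rw [← hg ⟨a, ha⟩, hφa]) (by rw [← hg ⟨z, hzA⟩, hφz]; rfl)
      fun x hx => by rw [← hg ⟨x, hx⟩]; exact Subtype.coe_prop _
    exact ⟨a, ha, haZ, y, h1, ⟨z, hz, h2⟩, h3⟩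
  obtain ⟨H, hH, t, ht, h3⟩ := CfsgLib.Case.lines_bound P hE hcard hexp' A hA hAP hAcard hy
  by_contra hp13
  have h17 : 17 ≤ p := by
    have key : ∀ q : ℕ, q.Prime → 13 < q → 17 ≤ q := by
      intro q hq h
      by_contra hlt
      interval_cases q <;> norm_num at hq
    exact key p hpp (by omega)
  refine CfsgLib.Case.three_lines_false hH t (fun i => ?_) h3 id Function.injective_id
  haveI := Nat.finite_of_card_ne_zero (fun h : Nat.card H = 0 => hH (h ▸ dvd_zero p))
  have h1 := Nat.le_of_dvd (Nat.mul_pos three_pos (orderOf_pos _))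
    (ht i _ (pow_orderOf_eq_one (t i)))
  omega

end Cfsg.Agent.S3054
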