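import Cfsg.Statements.S3055
import Cfsg.Agent.Lib.Case.ExtraspecialConj

set_option autoImplicit false
open Cfsg

namespace Cfsg.Agent.S3055

/-- Let p be an odd prime and G a finite group with a Sylow p-subgroup P that is extraspecial of order p³ and exponent p. If all nonidentity elements of P are conjugate in G, then p ≤ 7. -/
theorem result {G : Type*} [Group G] [Finite G]
    {p : ℕ} [Fact p.Prime] (hp : p ≠ 2) (P : Sylow p G) (hE : Cfsg.IsExtraspecial p ↥P)
    (hcard : Nat.card P = p ^ 3) (hexp : Monoid.exponent ↥P = p)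
    (hconj : ∀ x y : ↥P, x ≠ 1 → y ≠ 1 → ∃ g : G, g * (x : G) * g⁻¹ = (y : G)) :
    p ≤ 7 := by
  classical
  have hexp' : ∀ x ∈ (P : Subgroup G), x ^ p = 1 := fun x hx =>
    congrArg Subtype.val (hexp ▸ Monoid.pow_exponent_eq_one (⟨x, hx⟩ : (P : Subgroup G)))
  have hpp : p.Prime := Fact.out
  obtain ⟨A, hA, hAP, hAcard⟩ := CfsgLib.Case.exists_max_family P hE hcard hexp'
  obtain ⟨H, hH, t, ht, h3⟩ := CfsgLib.Case.lines_bound P hE hcard hexp' A hA hAP hAcard
    fun i => CfsgLib.Case.hy_of_conj P hE hcard hexp' hconj (hAcard i) (hAP i)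
  by_contra hp7
  haveI := Nat.finite_of_card_ne_zero (fun h : Nat.card H = 0 => hH (h ▸ dvd_zero p))
  have hd : ∀ i, p - 1 ∣ 3 * orderOf (t i) := fun i => ht i _ (pow_orderOf_eq_one (t i))
  have key : ∀ q : ℕ, q.Prime → 7 < q → q = 11 ∨ q = 13 ∨ 17 ≤ q := by
    intro q hq h
    by_contra hlt
    push Not at hlt
    obtain ⟨h1, h2, h3⟩ := hlt
    interval_cases q <;> norm_num at *
  have hinj : Function.Injective (fun i : Fin 3 => ((i : ℕ) : ZMod p)) := by
    intro i j h
    have := congrArg ZMod.val h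
    rw [ZMod.val_cast_of_lt (by omega), ZMod.val_cast_of_lt (by omega)] at this
    exact Fin.ext this
  rcases key p hpp (by omega) with h | h | h
  · refine CfsgLib.Case.three_lines_false hH t (fun i => ?_) h3 _ hinj
    have h1 := hd i
    have h10 : p - 1 = 10 := by omega
    rw [h10] at h1
    have := orderOf_pos (t i)
    omega
  · refine CfsgLib.Case.seven_lines_false hH t (fun i => ?_) h3 Finset.univ ?_
    · have h1 := hd i
      have h12 : p - 1 = 12 := by omega
      rw [h12] at h1
      omega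
    · rw [Finset.card_univ, ZMod.card]; omega
  · refine CfsgLib.Case.three_lines_false hH t (fun i => ?_) h3 _ hinj
    have h1 := Nat.le_of_dvd (Nat.mul_pos three_pos (orderOf_pos _)) (hd i)
    omega

end Cfsg.Agent.S3055
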