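import Cfsg.Statements.S3057
import Cfsg.Agent.Lib.LocEven.SylowGraph
import Cfsg.Agent.Lib.PGroup.CyclicMaximal
import Cfsg.Agent.Lib.Solvable.UniqueInvolution
import Cfsg.Agent.Lib.Solvable.CoprimeGeneration
import Cfsg.Agent.Lib.Solvable.Core
import Cfsg.Agent.Lib.LocEven.SubnormalSylow

set_option autoImplicit false
open Cfsg

namespace Cfsg.Agent.S3057

open Subgroup

/-- The elements killed by `p` in a cyclic or quaternion `p`-group lie in one subgroup of order `p`. -/
theorem exists_small_omega {Q : Type*} [Group Q] [Finite Q] [Nontrivial Q] {p : ℕ} [Fact p.Prime]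
    (hQ : IsPGroup p Q)
    (h : IsCyclic Q ∨ (p = 2 ∧ ∃ n : ℕ, Nonempty (Q ≃* QuaternionGroup (2 ^ n)))) :
    ∃ z : Q, orderOf z = p ∧ ∀ x : Q, x ^ p = 1 → x ∈ zpowers z := by
  classical
  obtain ⟨n, hn⟩ := hQ.exists_card_eq
  have hd : p ∣ Nat.card Q := by
    rw [hn]
    refine dvd_pow_self p fun h0 => ?_
    have : 1 < Nat.card Q := Finite.one_lt_card
    rw [hn, h0, pow_zero] at this
    omega
  obtain ⟨z, hz⟩ := exists_prime_orderOf_dvd_card' p hd
  refine ⟨z, hz, fun x hx => ?_⟩
  rcases h with h | ⟨rfl, m, ⟨e⟩⟩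
  · cases nonempty_fintype Q
    have hle := h.card_pow_eq_one_le (Fact.out (p := p.Prime)).pos
    by_contra hxz
    have hsub : insert x ((zpowers z : Set Q).toFinset) ⊆
        Finset.univ.filter fun a : Q => a ^ p = 1 := by
      intro a ha
      rcases Finset.mem_insert.1 ha with rfl | ha
      · simpa using hx
      · obtain ⟨i, rfl⟩ := mem_zpowers_iff.1 (Set.mem_toFinset.1 ha)
        simp only [Finset.mem_filter, Finset.mem_univ, true_and]
        rw [← zpow_natCast, ← zpow_mul, mul_comm, zpow_mul, zpow_natCast,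
          ← hz, pow_orderOf_eq_one, one_zpow]
    have h2 := (Finset.card_le_card hsub).trans hle
    rw [Finset.card_insert_of_notMem (by simpa using hxz), Set.toFinset_card,
      ← Nat.card_eq_fintype_card, SetLike.coe_sort_coe, Nat.card_zpowers, hz] at h2
    omega
  · have key : ∀ y : QuaternionGroup (2 ^ m), y ^ 2 = 1 →
        y = 1 ∨ y = QuaternionGroup.a ((2 ^ m : ℕ) : ZMod (2 * 2 ^ m)) := by
      intro y hy
      rcases y with i | i
      · rw [sq, QuaternionGroup.a_mul_a, QuaternionGroup.one_def] at hy
        injection hy with hy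
        obtain ⟨v, rfl⟩ := ZMod.natCast_zmod_surjective i
        rw [← Nat.cast_add, ZMod.natCast_eq_zero_iff] at hy
        obtain ⟨c, hc⟩ := hy
        have hv : v = 2 ^ m * c := by linarith
        subst hv
        rcases Nat.even_or_odd' c with ⟨d, rfl | rfl⟩
        · left
          rw [QuaternionGroup.one_def]
          congr 1
          rw [ZMod.natCast_eq_zero_iff]
          exact ⟨d, by ring⟩
        · right
          congr 1
          rw [show 2 ^ m * (2 * d + 1) = 2 * 2 ^ m * d + 2 ^ m by ring, Nat.cast_add,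
            Nat.cast_mul (2 * 2 ^ m) d, ZMod.natCast_self, zero_mul, zero_add]
      · exfalso
        rw [sq, QuaternionGroup.xa_mul_xa, QuaternionGroup.one_def] at hy
        injection hy with hy
        rw [add_sub_cancel_right, ZMod.natCast_eq_zero_iff] at hy
        have h1 : 0 < 2 ^ m := by positivity
        have h2 := Nat.le_of_dvd h1 hy
        omega
    have he : ∀ y : Q, y ^ 2 = 1 → y ≠ 1 →
        e y = QuaternionGroup.a ((2 ^ m : ℕ) : ZMod (2 * 2 ^ m)) := fun y hy hy1 =>
      (key (e y) (by rw [← map_pow, hy, map_one])).resolve_left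
        (fun h => hy1 (e.injective (h.trans (map_one e).symm)))
    by_cases hx1 : x = 1
    · rw [hx1]; exact one_mem _
    have hz1 : z ≠ 1 := fun h => (Nat.prime_two).ne_one (by rw [← hz, h, orderOf_one])
    rw [e.injective ((he x hx hx1).trans (he z (hz ▸ pow_orderOf_eq_one z) hz1).symm)]
    exact mem_zpowers z

/-- Let p be a prime and G a finite p-solvable group of order divisible by p, with Sylow p-subgroup P. Then the Sylow p-subgroups of G fail to be chain-connected through nontrivial intersections (equivalently, G has a strongly p-embedded subgroup) if and only if O_p(G) = 1 and P is cyclic or, for p = 2, generalized quaternion. -/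
theorem result {G : Type*} [Group G] [Finite G]
    (p : ℕ) [Fact p.Prime] (hdiv : p ∣ Nat.card G) (hsol : Cfsg.IsPSolvable p G) (P : Sylow p G) :
    ¬ Cfsg.IsSylowChainConnected p G ↔
      Cfsg.pCore p G = ⊥ ∧ (IsCyclic ↥P ∨ (p = 2 ∧ ∃ n : ℕ, Nonempty (↥P ≃* QuaternionGroup (2 ^ n)))) := by
  have hp := (Fact.out : p.Prime)
  constructor
  · intro hnc
    obtain ⟨H, hH, hpH, hse⟩ := CfsgLib.LocEven.exists_classicalSE_of_not_connected hnc
    obtain ⟨P₀, hP₀⟩ := CfsgLib.LocEven.classicalSE_exists_sylow_le hse hpH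
    have hdiv0 : p ∣ Nat.card (P₀ : Subgroup G) := P₀.dvd_card_of_dvd_card hdiv
    have hO : Cfsg.pCore p G = ⊥ := by
      by_contra hO
      obtain ⟨k, hk⟩ := (CfsgLib.Solvable.pCore_isPGroup p G).exists_card_eq
      have hd : p ∣ Nat.card (Cfsg.pCore p G) := hk ▸ dvd_pow_self p fun h0 =>
        hO (Subgroup.card_eq_one.1 (by rw [hk, h0, pow_zero]))
      haveI := CfsgLib.Solvable.pCore_normal p G
      have h := CfsgLib.LocEven.classicalSE_normalizer_le hse
        ((CfsgLib.Solvable.pCore_le_sylow P₀).trans hP₀) hd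
      rw [normalizer_eq_top_iff.2 inferInstance] at h
      exact hH (top_le_iff.1 h)
    refine ⟨hO, ?_⟩
    haveI : Nontrivial P₀ := Finite.one_lt_card_iff_nontrivial.1
      (hp.one_lt.trans_le (Nat.le_of_dvd Nat.card_pos hdiv0))
    -- `P₀` has just one subgroup of order `p`
    have huniq : ∀ a b : (P₀ : Subgroup G), a ^ p = 1 → a ≠ 1 → b ^ p = 1 → b ∈ zpowers a := by
      haveI := P₀.2.center_nontrivial
      obtain ⟨w, hw⟩ := exists_prime_orderOf_dvd_card' p (show p ∣ Nat.card (center P₀) by
        obtain ⟨k, hk⟩ := (P₀.2.to_subgroup (center P₀)).exists_card_eq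
        rw [hk]
        refine dvd_pow_self p fun h0 => ?_
        have : 1 < Nat.card (center P₀) := Finite.one_lt_card
        rw [hk, h0, pow_zero] at this
        omega)
      suffices hmain : ∀ b : (P₀ : Subgroup G), b ^ p = 1 → b ∈ zpowers (w : (P₀ : Subgroup G)) by
        intro a b ha ha1 hb
        have hao : orderOf a = p := orderOf_eq_prime ha ha1
        have : zpowers a = zpowers (w : (P₀ : Subgroup G)) := eq_of_le_of_card_ge
          (zpowers_le.2 (hmain a ha)) (le_of_eq (by
            rw [Nat.card_zpowers, Nat.card_zpowers, hao, orderOf_coe, hw]))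
        exact this ▸ hmain b hb
      intro b hb
      by_contra hbw
      set E := (zpowers (w : (P₀ : Subgroup G)) ⊔ zpowers b).map (P₀ : Subgroup G).subtype with hE
      have hwb : Commute (w : (P₀ : Subgroup G)) b := (mem_center_iff.1 w.2 b).symm
      haveI hEc : IsMulCommutative E := by
        haveI : IsMulCommutative ↥(zpowers (w : (P₀ : Subgroup G)) ⊔ zpowers b) := by
          rw [zpowers_eq_closure, zpowers_eq_closure, ← Subgroup.closure_union]
          refine isMulCommutative_closure ?_
          rintro x hx y hy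
          simp only [Set.mem_union, Set.mem_singleton_iff] at hx hy
          rcases hx with rfl | rfl <;> rcases hy with rfl | rfl <;>
            first | rfl | exact hwb.eq | exact hwb.eq.symm
        rw [hE]; infer_instance
      have hEnc : ¬ IsCyclic E := by
        intro hcyc
        have hc : IsCyclic ↥(zpowers (w : (P₀ : Subgroup G)) ⊔ zpowers b) :=
          isCyclic_of_surjective
            (Subgroup.equivMapOfInjective _ _ (P₀ : Subgroup G).subtype_injective).symm.toMonoidHom
            (MulEquiv.surjective _)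
        haveI : Nontrivial ↥(zpowers (w : (P₀ : Subgroup G)) ⊔ zpowers b) :=
          ⟨⟨⟨w, mem_sup_left (mem_zpowers _)⟩, 1, fun h => by
            have := congrArg Subtype.val h
            rw [coe_one] at this
            rw [← orderOf_coe, this, orderOf_one] at hw
            exact hp.ne_one hw.symm⟩⟩
        obtain ⟨z, hz, hzall⟩ := exists_small_omega ((P₀.2.to_subgroup _)) (Or.inl hc)
        have h1 : (⟨w, mem_sup_left (mem_zpowers _)⟩ : ↥(zpowers (w : (P₀ : Subgroup G)) ⊔ zpowers b)) ∈
            zpowers z := hzall _ (Subtype.ext (by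
              simp only [SubmonoidClass.coe_pow, coe_one]; rw [← orderOf_coe] at hw
              exact orderOf_dvd_iff_pow_eq_one.1 hw.dvd))
        have h2 := hzall ⟨b, mem_sup_right (mem_zpowers _)⟩ (Subtype.ext hb)
        have heq : zpowers z = zpowers (⟨w, mem_sup_left (mem_zpowers _)⟩ :
            ↥(zpowers (w : (P₀ : Subgroup G)) ⊔ zpowers b)) := (eq_of_le_of_card_ge
          (zpowers_le.2 h1) (le_of_eq (by
            rw [Nat.card_zpowers, Nat.card_zpowers, hz, orderOf_mk, orderOf_coe, hw]))).symm
        rw [heq] at h2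
        obtain ⟨i, hi⟩ := mem_zpowers_iff.1 h2
        exact hbw ⟨i, congrArg Subtype.val hi⟩
      have hEP : E ≤ (P₀ : Subgroup G) := map_subtype_le _
      have hEp : IsPGroup p E := P₀.2.to_le hEP
      have hgen : ∀ V : Subgroup G, V.Normal → ¬ p ∣ Nat.card V → V ≤ H := by
        intro V hV hVp
        obtain ⟨k, hk⟩ := hEp.exists_card_eq
        refine CfsgLib.Solvable.le_of_centralizer_le (A := E) hEnc
          (normalizer_eq_top_iff.2 hV ▸ le_top)
          (hk ▸ (hp.coprime_iff_not_dvd.2 hVp).pow_left k) fun a ha ha1 => ?_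
        have hza : zpowers a ≤ H := zpowers_le.2 (hP₀ (hEP ha))
        refine inf_le_right.trans (le_trans ?_ (CfsgLib.LocEven.classicalSE_normalizer_le hse hza ?_))
        · rw [← centralizer_closure, ← zpowers_eq_closure]
          exact centralizer_le_normalizer _
        · obtain ⟨i, hi⟩ := (hEp.to_le (zpowers_le.2 ha)).exists_card_eq
          rw [hi]
          refine dvd_pow_self p fun h0 => ha1 ?_
          rw [Nat.card_zpowers, h0, pow_zero] at hi
          exact orderOf_eq_one_iff.1 hi
      obtain ⟨n, K, hK0, hKn, hKm, hKnorm, hKstep⟩ := hsol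
      have : ∀ i : Fin (n + 1), ¬ p ∣ Nat.card (K i) := by
        intro i
        induction i using Fin.induction with
        | zero => rw [hK0, Subgroup.card_bot]; exact hp.not_dvd_one
        | succ i ih =>
          intro hd
          haveI := hKnorm i.succ
          haveI := hKnorm i.castSucc
          have hle : K i.castSucc ≤ K i.succ := hKm (Fin.castSucc_le_succ i)
          rcases hKstep i with ⟨m, hm⟩ | hcop
          swap
          · have hmul := relIndex_mul_relIndex ⊥ (K i.castSucc) (K i.succ) bot_le hle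
            rw [relIndex_bot_left, relIndex_bot_left] at hmul
            rw [← hmul] at hd
            exact (hp.dvd_mul.1 hd).elim ih (fun h => (hp.coprime_iff_not_dvd.1 hcop.symm) h)
          obtain ⟨T, hT⟩ := CfsgLib.LocEven.exists_sylow_eq_inf P₀ (hKnorm i.succ).isSubnormal
          set Q := (T : Subgroup (K i.succ)).map (K i.succ).subtype with hQ
          have hQP : Q ≤ (P₀ : Subgroup G) := by
            rintro _ ⟨x, hx, rfl⟩
            rw [hT] at hx
            exact hx
          have hQd : p ∣ Nat.card Q := by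
            rw [hQ, card_subtype]
            exact T.dvd_card_of_dvd_card hd
          have hN : normalizer (Q : Set G) ≤ H :=
            CfsgLib.LocEven.classicalSE_normalizer_le hse (hQP.trans hP₀) hQd
          have hVH := hgen _ (hKnorm i.castSucc) ih
          have hQK : Q ≤ K i.succ := map_subtype_le _
          have hKQ : K i.castSucc ⊔ Q = K i.succ := by
            refine le_antisymm (sup_le hle hQK) (relIndex_eq_one.1 ?_)
            refine Nat.eq_one_of_dvd_coprimes (a := Q.relIndex (K i.succ)) (b := p ^ m) ?_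
              (relIndex_dvd_of_le_left _ le_sup_right) (hm ▸ relIndex_dvd_of_le_left _ le_sup_left)
            refine (hp.coprime_iff_not_dvd.2 ?_).symm.pow_right m
            have : Q.relIndex (K i.succ) = (T : Subgroup (K i.succ)).index := by
              show (Q.subgroupOf _).index = _
              rw [hQ, subgroupOf, comap_map_eq_self_of_injective (K i.succ).subtype_injective]
            rw [this]
            exact T.not_dvd_index
          refine hH (top_le_iff.1 ?_)
          rw [← Sylow.normalizer_sup_eq_top T]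
          exact sup_le hN (hKQ ▸ sup_le hVH (hQP.trans hP₀))
      exact this (Fin.last n) (by rw [hKn, card_top]; exact hdiv)
    have hconv : IsCyclic P₀ ∨ (p = 2 ∧ ∃ n : ℕ, Nonempty (↥P₀ ≃* QuaternionGroup (2 ^ n))) := by
      rcases eq_or_ne p 2 with h2 | h2
      · subst h2
        rcases CfsgLib.Solvable.isCyclic_or_quaternion_of_unique_involution P₀.2
          (fun u v hu hu1 hv hv1 => by
            obtain ⟨j, rfl⟩ := mem_zpowers_iff.1 (huniq u v hu hu1 hv)
            rcases Int.even_or_odd' j with ⟨i, rfl | rfl⟩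
            · exact absurd (by rw [zpow_mul, zpow_two, ← sq, hu, one_zpow]) hv1
            · rw [zpow_add, zpow_mul, zpow_two, ← sq, hu, one_zpow, one_mul, zpow_one]) with h | h
        · exact Or.inl h
        · exact Or.inr ⟨rfl, h⟩
      · exact Or.inl (CfsgLib.PGroup.isCyclic_of_unique_order_prime h2 P₀.2 huniq)
    rcases hconv with h | ⟨h2, m, ⟨e⟩⟩
    · exact Or.inl (isCyclic_of_surjective (P₀.equiv P).toMonoidHom (P₀.equiv P).surjective)
    · exact Or.inr ⟨h2, m, ⟨(P.equiv P₀).trans e⟩⟩
  · rintro ⟨hO, hP⟩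
    haveI : Nontrivial P := Finite.one_lt_card_iff_nontrivial.1
      (hp.one_lt.trans_le (Nat.le_of_dvd Nat.card_pos (P.dvd_card_of_dvd_card hdiv)))
    obtain ⟨z, hz, hzall⟩ := exists_small_omega P.2 hP
    set Z := (zpowers z).map (P : Subgroup G).subtype with hZ
    have hZc : Nat.card Z = p := by rw [hZ, card_subtype, Nat.card_zpowers, hz]
    have hZP : Z ≤ (P : Subgroup G) := map_subtype_le _
    set H := normalizer (Z : Set G) with hH
    have hPH : (P : Subgroup G) ≤ H := by
      intro g hg
      refine Subgroup.mem_normalizer_fintype fun w hw => ?_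
      obtain ⟨v, hv, rfl⟩ := hw
      refine ⟨⟨g, hg⟩ * v * ⟨g, hg⟩⁻¹, hzall _ ?_, rfl⟩
      rw [conj_pow]
      obtain ⟨i, rfl⟩ := mem_zpowers_iff.1 hv
      rw [← zpow_natCast (z ^ i), ← zpow_mul, mul_comm i, zpow_mul, zpow_natCast,
        orderOf_dvd_iff_pow_eq_one.1 hz.dvd, one_zpow, mul_one, mul_inv_cancel]
    have hne : H ≠ ⊤ := by
      intro h
      have hle := CfsgLib.Solvable.le_pCore (normalizer_eq_top_iff.1 h) (P.2.to_le hZP)
      rw [hO, le_bot_iff] at hle
      rw [hle, card_bot] at hZc
      exact hp.ne_one hZc.symm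
    refine CfsgLib.LocEven.not_connected_of_classicalSE hne
      ((P.dvd_card_of_dvd_card hdiv).trans (card_dvd_of_le hPH)) fun g hg hd => hg ?_
    obtain ⟨⟨x, hx⟩, hxo⟩ := exists_prime_orderOf_dvd_card' p hd
    rw [orderOf_mk] at hxo
    obtain ⟨hxH, y, hyH, hyx⟩ := mem_inf.1 hx
    have hyo : orderOf y = p := by
      rw [← hxo, ← hyx]
      exact (orderOf_injective (MulAut.conj g).toMonoidHom (MulAut.conj g).injective y).symm
    have hfind : ∀ v ∈ H, orderOf v = p → v ∈ Z := by
      intro v hv hvo
      obtain ⟨Q, hQ⟩ := (IsPGroup.of_card (n := 1) (by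
        rw [Nat.card_zpowers, pow_one, ← orderOf_coe]; exact hvo) :
        IsPGroup p (zpowers (⟨v, hv⟩ : H))).exists_le_sylow
      obtain ⟨h, hh⟩ := MulAction.exists_smul_eq H (P.subtype hPH) Q
      obtain ⟨w, hw, hwv⟩ : (⟨v, hv⟩ : H) ∈ h • P.subtype hPH := hh ▸ hQ (mem_zpowers _)
      have hwv' : (h : G) * w * (h : G)⁻¹ = v := congrArg Subtype.val hwv
      have hwp : (⟨(w : G), hw⟩ : (P : Subgroup G)) ^ p = 1 := Subtype.ext (by
        have e : (w : G) = (h : G)⁻¹ * v * ((h : G)⁻¹)⁻¹ := by rw [← hwv']; group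
        simp only [SubmonoidClass.coe_pow, coe_one]
        rw [e, conj_pow, orderOf_dvd_iff_pow_eq_one.1 hvo.dvd, mul_one, mul_inv_cancel])
      rw [← hwv']
      exact ((mem_normalizer_iff.1 h.2) _).1 ⟨_, hzall _ hwp, rfl⟩
    have hxZ := hfind x hxH hxo
    have hyZ := hfind y hyH hyo
    have heq : ∀ v ∈ Z, orderOf v = p → zpowers v = Z := fun v hv hvo =>
      eq_of_le_of_card_ge (zpowers_le.2 hv) (le_of_eq (by rw [Nat.card_zpowers, hvo, hZc]))
    rw [hH, mem_normalizer_iff_map_conj_eq]
    conv_lhs => rw [← heq y hyZ hyo]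
    rw [MonoidHom.map_zpowers]
    exact (congrArg zpowers hyx).trans (heq x hxZ hxo)

end Cfsg.Agent.S3057
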