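import Cfsg.Statements.S3058
import Cfsg.Agent.Lib.LocEven.SylowGraph
import Cfsg.Agent.Lib.LocEven.SubnormalSylow
import Cfsg.Agent.Lib.Solvable.CoprimeGeneration

set_option autoImplicit false
open Cfsg

namespace Cfsg.Agent.S3058

/-- Let p be a prime and G a finite group whose Sylow p-subgroups are not chain-connected through nontrivial intersections (so G has a strongly p-embedded subgroup). If N and M are normal subgroups of G whose orders are both divisible by p, then the order of N ∩ M is divisible by p. Consequently, among the normal subgroups of G whose order is divisible by p there is a smallest one (the intersection of all of them). -/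
theorem result {G : Type*} [Group G] [Finite G]
    (p : ℕ) [Fact p.Prime] (hG : ¬ Cfsg.IsSylowChainConnected p G)
    (N M : Subgroup G) [N.Normal] [M.Normal] (hN : p ∣ Nat.card N) (hM : p ∣ Nat.card M) :
    p ∣ Nat.card ↥(N ⊓ M) := by
  classical
  by_contra hK
  obtain ⟨H, hH, hpH, hse⟩ := CfsgLib.LocEven.exists_classicalSE_of_not_connected hG
  obtain ⟨P, hP⟩ := CfsgLib.LocEven.classicalSE_exists_sylow_le hse hpH
  have hpr : p.Prime := Fact.out
  set K := N ⊓ M with hKdef
  have hord : ∀ L : Subgroup G, L.Normal → p ∣ Nat.card L → ∃ a ∈ (P : Subgroup G), a ∈ L ∧ orderOf a = p := by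
    intro L hL hd
    obtain ⟨T, hT⟩ := CfsgLib.LocEven.exists_sylow_eq_inf P hL.isSubnormal
    obtain ⟨⟨a, ha⟩, hao⟩ := exists_prime_orderOf_dvd_card' p (T.dvd_card_of_dvd_card hd)
    rw [hT, Subgroup.mem_subgroupOf] at ha
    refine ⟨a, ha, a.2, ?_⟩
    rw [Subgroup.orderOf_coe]
    rw [← Subgroup.orderOf_coe] at hao
    exact hao
  obtain ⟨a, haP, haN, hao⟩ := hord N inferInstance hN
  obtain ⟨b, hbP, hbM, hbo⟩ := hord M inferInstance hM
  have hNM : ∀ x ∈ N, ∀ y ∈ M, x * y * x⁻¹ * y⁻¹ ∈ K := fun x hx y hy => Subgroup.mem_inf.mpr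
    ⟨by simpa [mul_assoc] using mul_mem hx ((inferInstance : N.Normal).conj_mem _ (inv_mem hx) y),
      mul_mem ((inferInstance : M.Normal).conj_mem y hy x) (inv_mem hy)⟩
  have hPK : ∀ x ∈ (P : Subgroup G), x ∈ K → x = 1 := by
    intro x hxP hxK
    obtain ⟨n, hn⟩ := P.isPGroup'.exists_card_eq
    have h1 : orderOf x ∣ p ^ n := hn ▸ Subgroup.orderOf_dvd_natCard _ hxP
    have h2 : orderOf x ∣ Nat.card K := Subgroup.orderOf_dvd_natCard _ hxK
    rw [← orderOf_eq_one_iff]
    exact Nat.eq_one_of_dvd_coprimes ((hpr.coprime_iff_not_dvd.mpr hK).pow_left n) h1 h2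
  have hab : Commute a b := by
    have h := hPK _ (mul_mem (mul_mem (mul_mem haP hbP) (inv_mem haP)) (inv_mem hbP)) (hNM a haN b hbM)
    show a * b = b * a
    rwa [mul_inv_eq_one, mul_inv_eq_iff_eq_mul] at h
  have haM : a ∉ M := fun h => hpr.ne_one (by
    rw [← hao, hPK a haP (Subgroup.mem_inf.mpr ⟨haN, h⟩), orderOf_one])
  have hbN : b ∉ N := fun h => hpr.ne_one (by
    rw [← hbo, hPK b hbP (Subgroup.mem_inf.mpr ⟨h, hbM⟩), orderOf_one])
  set E := Subgroup.zpowers a ⊔ Subgroup.zpowers b with hE
  have hEP : E ≤ P := sup_le ((Subgroup.zpowers_le).mpr haP) ((Subgroup.zpowers_le).mpr hbP)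
  have hEc : IsMulCommutative E := by
    have h : E ≤ Subgroup.centralizer (E : Set G) := by
      have ha' : a ∈ Subgroup.centralizer (E : Set G) := by
        have : E ≤ Subgroup.centralizer ({a} : Set G) := by
          refine sup_le ?_ ?_ <;> rw [Subgroup.zpowers_le, Subgroup.mem_centralizer_singleton_iff]
          exact hab.eq.symm
        exact fun y hy => Subgroup.mem_centralizer_singleton_iff.mp (this hy)
      have hb' : b ∈ Subgroup.centralizer (E : Set G) := by
        have : E ≤ Subgroup.centralizer ({b} : Set G) := by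
          refine sup_le ?_ ?_ <;> rw [Subgroup.zpowers_le, Subgroup.mem_centralizer_singleton_iff]
          exact hab.eq
        exact fun y hy => Subgroup.mem_centralizer_singleton_iff.mp (this hy)
      exact sup_le ((Subgroup.zpowers_le).mpr ha') ((Subgroup.zpowers_le).mpr hb')
    exact ⟨⟨fun x y => Subtype.ext (h y.2 x x.2)⟩⟩
  have hnc : ¬ IsCyclic E := by
    intro hcyc
    haveI := hcyc
    haveI := hEc
    have hexp : Monoid.exponent E ∣ p := by
      apply Monoid.exponent_dvd_of_forall_pow_eq_one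
      rintro ⟨x, hx⟩
      apply Subtype.ext
      show x ^ p = 1
      have hle : E ≤ Subgroup.centralizer (E : Set G) :=
        fun u hu v hv => congrArg Subtype.val (hEc.is_comm.comm (⟨v, hv⟩ : E) ⟨u, hu⟩)
      have hn : Subgroup.zpowers b ≤ Subgroup.normalizer ((Subgroup.zpowers a : Subgroup G) : Set G) :=
        ((le_sup_right : _ ≤ E).trans hle).trans ((Subgroup.centralizer_le
          (fun u hu => (le_sup_left : Subgroup.zpowers a ≤ E) hu)).trans (Subgroup.centralizer_le_normalizer _))
      obtain ⟨u, hu, v, hv, rfl⟩ := (CfsgLib.Solvable.mem_sup_of_le_normalizer hn).mp hx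
      obtain ⟨i, rfl⟩ := Subgroup.mem_zpowers_iff.mp hu
      obtain ⟨j, rfl⟩ := Subgroup.mem_zpowers_iff.mp hv
      rw [(hab.zpow_zpow i j).mul_pow, ← zpow_natCast, ← zpow_natCast, ← zpow_mul, ← zpow_mul,
        mul_comm i, mul_comm j, zpow_mul, zpow_mul, zpow_natCast, zpow_natCast]
      have h1 : a ^ p = 1 := hao ▸ pow_orderOf_eq_one a
      have h2 : b ^ p = 1 := hbo ▸ pow_orderOf_eq_one b
      rw [h1, h2, one_zpow, one_zpow, one_mul]
    rw [IsCyclic.exponent_eq_card] at hexp
    have heq : Subgroup.zpowers a = E := Subgroup.eq_of_le_of_card_ge le_sup_left (by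
      rw [Nat.card_zpowers, hao]
      exact Nat.le_of_dvd hpr.pos hexp)
    exact hbN ((Subgroup.zpowers_le.mpr haN) (heq.ge ((le_sup_right : Subgroup.zpowers b ≤ E) (Subgroup.mem_zpowers b))))
  have hKH : K ≤ H := by
    refine CfsgLib.Solvable.le_of_centralizer_le hnc ?_ ?_ ?_
    · exact le_top.trans_eq (Subgroup.normalizer_eq_top_iff.mpr inferInstance).symm
    · obtain ⟨n, hn⟩ := (P.isPGroup'.to_le hEP).exists_card_eq
      rw [hn]
      exact (hpr.coprime_iff_not_dvd.mpr hK).pow_left n
    · intro e he he1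
      refine inf_le_right.trans (le_trans ?_ (CfsgLib.LocEven.classicalSE_normalizer_le hse
        (((Subgroup.zpowers_le).mpr (hEP he)).trans hP) ?_))
      · rw [← Subgroup.centralizer_closure, ← Subgroup.zpowers_eq_closure]
        exact Subgroup.centralizer_le_normalizer _
      · obtain ⟨n, hn⟩ := (P.isPGroup'.to_le ((Subgroup.zpowers_le).mpr (hEP he))).exists_card_eq
        rw [hn]
        refine dvd_pow_self p fun h0 => he1 ?_
        rw [h0, pow_zero, Nat.card_zpowers, orderOf_eq_one_iff] at hn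
        exact hn
  -- `M` centralises `a` modulo `K`
  have hMH : M ≤ H := by
    intro m hm
    -- `zpowers a` and its conjugate by `m` are Sylow in `K ⊔ zpowers a`
    set L := K ⊔ Subgroup.zpowers a with hL
    have hma : m * a * m⁻¹ ∈ L := by
      have : m * a * m⁻¹ = (a * m * a⁻¹ * m⁻¹)⁻¹ * a := by group
      rw [this]
      exact mul_mem ((le_sup_left : K ≤ L) (inv_mem (hNM a haN m hm)))
        ((le_sup_right : _ ≤ L) (Subgroup.mem_zpowers a))
    have hcardL : Nat.card L ∣ Nat.card K * p := by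
      have hn : Subgroup.zpowers a ≤ Subgroup.normalizer (K : Set G) :=
        le_top.trans_eq (Subgroup.normalizer_eq_top_iff.mpr inferInstance).symm
      have := CfsgLib.Solvable.card_sup_dvd hn
      rwa [Nat.card_zpowers, hao] at this
    have hsyl : ∀ c ∈ L, orderOf c = p → ∃ T : Sylow p L, (T : Subgroup L) = (Subgroup.zpowers c).subgroupOf L := by
      intro c hc hco
      have hle : Subgroup.zpowers c ≤ L := (Subgroup.zpowers_le).mpr hc
      have hcard : Nat.card ((Subgroup.zpowers c).subgroupOf L) = p := by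
        rw [Nat.card_congr (Subgroup.subgroupOfEquivOfLe hle).toEquiv, Nat.card_zpowers, hco]
      have hp' : IsPGroup p ((Subgroup.zpowers c).subgroupOf L) := IsPGroup.of_card (n := 1) (by rw [hcard, pow_one])
      refine ⟨hp'.toSylow ?_, IsPGroup.toSylow_coe _ _⟩
      intro hd
      have h := Subgroup.card_mul_index ((Subgroup.zpowers c).subgroupOf L)
      rw [hcard] at h
      have h' : p * p ∣ p * Nat.card K := by
        refine (Nat.mul_dvd_mul_left p hd).trans ?_
        rw [h, mul_comm p]
        exact hcardL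
      exact hK (Nat.dvd_of_mul_dvd_mul_left hpr.pos h')
    obtain ⟨T₁, hT₁⟩ := hsyl a ((le_sup_right : _ ≤ L) (Subgroup.mem_zpowers a)) hao
    obtain ⟨T₂, hT₂⟩ := hsyl _ hma (by
      rw [← MulAut.conj_apply, ← hao]
      exact orderOf_injective (MulAut.conj m).toMonoidHom (MulAut.conj m).injective a)
    obtain ⟨⟨l, hl⟩, hlT⟩ := MulAction.exists_smul_eq L T₂ T₁
    have hlH : l ∈ H := sup_le hKH ((Subgroup.zpowers_le).mpr (hP haP)) hl
    have hmem : l * (m * a * m⁻¹) * l⁻¹ ∈ Subgroup.zpowers a := by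
      have h : (⟨l, hl⟩ * ⟨m * a * m⁻¹, hma⟩ * ⟨l, hl⟩⁻¹ : L) ∈ (T₁ : Subgroup L) := by
        rw [← hlT, Sylow.coe_subgroup_smul]
        exact ⟨⟨m * a * m⁻¹, hma⟩, by rw [hT₂]; exact Subgroup.mem_zpowers (m * a * m⁻¹), rfl⟩
      rw [hT₁] at h
      exact h
    have hlm : l * m ∈ H := by
      refine CfsgLib.LocEven.classicalSE_normalizer_le hse (((Subgroup.zpowers_le).mpr haP).trans hP)
        (by rw [Nat.card_zpowers, hao]) ?_
      have hle : (Subgroup.zpowers a).map (MulAut.conj (l * m)).toMonoidHom ≤ Subgroup.zpowers a := by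
        rw [MonoidHom.map_zpowers, Subgroup.zpowers_le]
        simpa [mul_assoc] using hmem
      have heq := Subgroup.eq_of_le_of_card_ge hle
        (Subgroup.card_map_of_injective (MulAut.conj (l * m)).injective).ge
      rw [Subgroup.mem_normalizer_iff]
      intro n
      conv_rhs => rw [← heq]
      exact (Subgroup.mem_map_iff_mem (f := (MulAut.conj (l * m)).toMonoidHom)
        (MulAut.conj (l * m)).injective).symm
    simpa using mul_mem (inv_mem hlH) hlm
  apply hH
  rw [eq_top_iff, ← CfsgLib.LocEven.classicalSE_sup_residual_eq_top hse hpH M hM]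
  exact sup_le le_rfl (le_trans ((Subgroup.closure_le _).mpr fun g hg => hg.1) hMH)


end Cfsg.Agent.S3058
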