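import Cfsg.Statements.S3060
import Cfsg.Agent.Lib.LocEven.DStar
import Cfsg.Agent.Lib.PLocal.ZJTheorem
import Cfsg.Agent.Lib.Fusion.ZJCenter
-- import your own Cfsg.Agent.* helpers here

set_option autoImplicit false
open Cfsg

namespace Cfsg.Agent.S3060

/-- The D*-Theorem. For a finite p-group S let D*(S) be the subgroup generated by the abelian subgroups A of S such that every x ∈ S with ⟨A, x⟩ of nilpotency class at most two centralizes A. Let p be an odd prime and H a finite p-stable group with Sylow p-subgroup S. Here H is p-stable in the following sense: the largest normal p-subgroup O_p(H) contains its centralizer in H, and for every normal p-subgroup P of H, every element acting quadratically on P has image in O_p(H/C_H(P)). Then D*(S) is a normal subgroup of H. -/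
theorem result {G : Type*} [Group G] [Finite G] {p : ℕ} [Fact p.Prime] (hp : p ≠ 2)
    (hc : Subgroup.centralizer (Cfsg.pCore p G : Set G) ≤ Cfsg.pCore p G)
    (hst : ∀ (P : Subgroup G) [P.Normal], IsPGroup p P → Cfsg.IsPStableOn p P) (S : Sylow p G) :
    (Cfsg.dStarOf (S : Subgroup G)).Normal := by
  haveI := CfsgLib.Solvable.pCore_normal p G
  set Q := Cfsg.pCore p G with hQdef
  have hQS : Q ≤ (S : Subgroup G) := CfsgLib.Solvable.pCore_le_sylow S
  have hQp : IsPGroup p Q := S.isPGroup'.to_le hQS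
  -- the defining property of `D*(S)`, inside `G`
  have hfam := CfsgLib.LocEven.dStar_mem_dStarFamily S.isPGroup'
  set D := Cfsg.dStarOf (S : Subgroup G) with hDdef
  have hDS : D ≤ (S : Subgroup G) := Subgroup.map_subtype_le _
  have hDc : ∀ a ∈ D, ∀ b ∈ D, a * b = b * a := by
    rintro _ ⟨a, ha, rfl⟩ _ ⟨b, hb, rfl⟩
    exact congrArg (fun x => ((x : ↥(Cfsg.dStar ↥(S : Subgroup G))) : ↥(S : Subgroup G)).1)
      (hfam.1.is_comm.comm ⟨a, ha⟩ ⟨b, hb⟩)
  have hD2 : ∀ x ∈ (S : Subgroup G),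
      ⁅⁅D ⊔ Subgroup.zpowers x, D ⊔ Subgroup.zpowers x⁆, D ⊔ Subgroup.zpowers x⁆ = ⊥ →
      ∀ a ∈ D, a * x = x * a := by
    intro x hx h
    rintro _ ⟨a, ha, rfl⟩
    refine congrArg Subtype.val (hfam.2 ⟨x, hx⟩ ?_ a ha)
    apply Subgroup.map_injective (S : Subgroup G).subtype_injective
    rw [Subgroup.map_commutator, Subgroup.map_commutator, Subgroup.map_sup, MonoidHom.map_zpowers,
      Subgroup.map_bot]
    exact h
  have hmax : ∀ E : Subgroup G, E ≤ (S : Subgroup G) → (∀ a ∈ E, ∀ b ∈ E, a * b = b * a) →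
      (∀ x ∈ (S : Subgroup G),
        ⁅⁅E ⊔ Subgroup.zpowers x, E ⊔ Subgroup.zpowers x⁆, E ⊔ Subgroup.zpowers x⁆ = ⊥ →
        ∀ a ∈ E, a * x = x * a) → E ≤ D := by
    intro E hES hEc hE2
    have hmem : E.subgroupOf (S : Subgroup G) ∈ Cfsg.dStarFamily ↥(S : Subgroup G) := by
      refine ⟨IsMulCommutative.of_setLike_mul_comm fun a ha b hb => Subtype.ext (hEc _ ha _ hb),
        fun x hx a ha => Subtype.ext (hE2 x x.2 ?_ a ha)⟩
      have := congrArg (Subgroup.map (S : Subgroup G).subtype) hx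
      rwa [Subgroup.map_commutator, Subgroup.map_commutator, Subgroup.map_sup, MonoidHom.map_zpowers,
        Subgroup.map_bot, Subgroup.map_subgroupOf_eq_of_le hES] at this
    intro e he
    exact ⟨⟨e, hES he⟩, le_sSup hmem (Subgroup.mem_subgroupOf.2 he), rfl⟩
  -- moving the property around
  have hconj : ∀ (g x : G), g⁻¹ * x * g ∈ (S : Subgroup G) →
      ⁅⁅D.map (MulAut.conj g).toMonoidHom ⊔ Subgroup.zpowers x,
        D.map (MulAut.conj g).toMonoidHom ⊔ Subgroup.zpowers x⁆,
        D.map (MulAut.conj g).toMonoidHom ⊔ Subgroup.zpowers x⁆ = ⊥ →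
      ∀ d ∈ D, g * d * g⁻¹ * x = x * (g * d * g⁻¹) := by
    intro g x hx h d hd
    have h' := hD2 _ hx (by
      apply Subgroup.map_injective (f := (MulAut.conj g).toMonoidHom) (MulAut.conj g).injective
      rw [Subgroup.map_commutator, Subgroup.map_commutator, Subgroup.map_sup, MonoidHom.map_zpowers,
        Subgroup.map_bot]
      have he : (MulAut.conj g).toMonoidHom (g⁻¹ * x * g) = x := by simp [mul_assoc]
      rwa [he]) d hd
    calc g * d * g⁻¹ * x = g * (d * (g⁻¹ * x * g)) * g⁻¹ := by group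
      _ = x * (g * d * g⁻¹) := by rw [h']; group
  have hSN : (S : Subgroup G) ≤ Subgroup.normalizer (D : Set G) := fun s hs =>
    Subgroup.mem_normalizer_fintype fun d hd => by
      have hEc : ∀ a ∈ D.map (MulAut.conj s).toMonoidHom, ∀ b ∈ D.map (MulAut.conj s).toMonoidHom,
          a * b = b * a := by
        rintro _ ⟨a, ha, rfl⟩ _ ⟨b, hb, rfl⟩
        rw [← map_mul, ← map_mul, hDc a ha b hb]
      refine hmax (D.map (MulAut.conj s).toMonoidHom) ?_ hEc ?_ ⟨d, hd, rfl⟩
      · rintro _ ⟨a, ha, rfl⟩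
        exact mul_mem (mul_mem hs (hDS ha)) (inv_mem hs)
      · rintro x hx h _ ⟨a, ha, rfl⟩
        exact hconj s x (mul_mem (mul_mem (inv_mem hs) hx) hs) h a ha
  have hDQ : D ≤ Q := CfsgLib.PLoc.abelian_normal_in_sylow_le_pCore hc hst S
    (IsMulCommutative.of_setLike_mul_comm hDc) hDS hSN
  -- the normal closure `V` is abelian
  set V := Subgroup.normalClosure (D : Set G) with hVdef
  haveI hVn : V.Normal := Subgroup.normalClosure_normal
  have hVQ : V ≤ Q := Subgroup.normalClosure_le_normal hDQ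
  have hgen : ∀ E : Subgroup G, (∀ g : G, ∀ d ∈ D, g * d * g⁻¹ ∈ E) → V ≤ E := fun E h =>
    (Subgroup.closure_le _).2 fun v hv => by
      obtain ⟨d, hd, hdv⟩ := Group.mem_conjugatesOfSet_iff.1 hv
      obtain ⟨g, rfl⟩ := isConj_iff.1 hdv
      exact h g d hd
  have hmemQ : ∀ g : G, (D.map (MulAut.conj g).toMonoidHom).subgroupOf Q ∈ Cfsg.dStarFamily ↥Q := by
    intro g
    have hgQ : D.map (MulAut.conj g).toMonoidHom ≤ Q := by
      rintro _ ⟨a, ha, rfl⟩
      exact ‹Q.Normal›.conj_mem a (hDQ ha) g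
    refine ⟨IsMulCommutative.of_setLike_mul_comm ?_, fun x hx a ha => Subtype.ext ?_⟩
    · intro a ha b hb
      obtain ⟨a', ha', hae⟩ := Subgroup.mem_subgroupOf.1 ha
      obtain ⟨b', hb', hbe⟩ := Subgroup.mem_subgroupOf.1 hb
      refine Subtype.ext ?_
      rw [Subgroup.coe_mul, Subgroup.coe_mul, ← hae, ← hbe, ← map_mul, ← map_mul, hDc a' ha' b' hb']
    · obtain ⟨a', ha', hae⟩ := Subgroup.mem_subgroupOf.1 ha
      rw [Subgroup.coe_mul, Subgroup.coe_mul, ← hae]
      refine hconj g x (hQS (by simpa using ‹Q.Normal›.conj_mem (x : G) x.2 g⁻¹)) ?_ a' ha'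
      have := congrArg (Subgroup.map Q.subtype) hx
      rwa [Subgroup.map_commutator, Subgroup.map_commutator, Subgroup.map_sup, MonoidHom.map_zpowers,
        Subgroup.map_bot, Subgroup.map_subgroupOf_eq_of_le hgQ] at this
  have hVc : ∀ a ∈ V, ∀ b ∈ V, a * b = b * a := by
    have h1 : V ≤ Subgroup.centralizer (V : Set G) := hgen _ fun g d hd => by
      refine Subgroup.mem_centralizer_iff.2 fun v hv => ?_
      have h2 : V ≤ Subgroup.centralizer ({g * d * g⁻¹} : Set G) := hgen _ fun k e he => by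
        rw [Subgroup.mem_centralizer_singleton_iff]
        have h3 := CfsgLib.LocEven.dStarFamily_le_centralizer hQp (hmemQ k) (hmemQ g)
          (x := ⟨k * e * k⁻¹, ‹Q.Normal›.conj_mem e (hDQ he) k⟩)
          (Subgroup.mem_subgroupOf.2 ⟨e, he, rfl⟩)
          ⟨g * d * g⁻¹, ‹Q.Normal›.conj_mem d (hDQ hd) g⟩ (Subgroup.mem_subgroupOf.2 ⟨d, hd, rfl⟩)
        exact (congrArg Subtype.val h3).symm
      exact Subgroup.mem_centralizer_singleton_iff.1 (h2 hv)
    intro a ha b hb
    exact (h1 ha b hb).symm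
  -- Frattini
  set C := Subgroup.centralizer (V : Set G) with hC
  set K := CfsgLib.PLoc.stableKernel p V with hK
  haveI hKn : K.Normal := CfsgLib.PLoc.stableKernel_normal V
  set T := (S : Subgroup G) ⊓ K with hT
  have hTp : IsPGroup p (T.subgroupOf K) :=
    (S.isPGroup'.to_le inf_le_left).of_equiv (Subgroup.subgroupOfEquivOfLe inf_le_right).symm
  have hTidx : ¬ p ∣ (T.subgroupOf K).index := fun hd => by
    rw [hT, Subgroup.inf_subgroupOf_right] at hd
    exact S.not_dvd_index (hd.trans (CfsgLib.PGroup.relIndex_dvd_index_normal_right (S : Subgroup G) K))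
  have hTN : T ≤ Subgroup.normalizer (T : Set G) := Subgroup.le_normalizer
  have hKC : K ≤ C ⊔ T := by
    rw [hT]
    refine CfsgLib.ZJCenter.le_sup_sylow_inf S K C fun k hk => ?_
    obtain ⟨j, hj⟩ := CfsgLib.PLoc.pCore_pgroup p (G ⧸ C) ⟨_, hk⟩
    refine ⟨j, (QuotientGroup.eq_one_iff _).1 ?_⟩
    exact congrArg Subtype.val hj
  have htop : C ⊔ Subgroup.normalizer (T : Set G) = ⊤ := by
    have h := Sylow.normalizer_sup_eq_top (hTp.toSylow hTidx)
    rw [IsPGroup.toSylow_coe, Subgroup.map_subgroupOf_eq_of_le inf_le_right] at h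
    rw [eq_top_iff, ← h]
    exact sup_le le_sup_right (hKC.trans (sup_le le_sup_left (hTN.trans le_sup_right)))
  have hVD : V ≤ D := by
    refine hmax V (hVQ.trans hQS) hVc ?_
    intro x hx h
    have hxT : x ∈ T := by
      refine ⟨hx, ?_⟩
      refine hst V (hQp.to_le hVQ) x (le_bot_iff.1 ?_)
      rw [← h]
      exact Subgroup.commutator_mono (Subgroup.commutator_mono le_sup_left le_sup_right) le_sup_right
    suffices hVx : V ≤ Subgroup.centralizer ({x} : Set G) from
      fun a ha => Subgroup.mem_centralizer_singleton_iff.1 (hVx ha)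
    refine hgen _ fun g d hd => ?_
    obtain ⟨c, hc', n, hn, rfl⟩ := Subgroup.mem_sup_of_normal_left.1
      (htop ▸ Subgroup.mem_top g : g ∈ C ⊔ Subgroup.normalizer (T : Set G))
    have hnd : n * d * n⁻¹ ∈ V := hVn.conj_mem d (Subgroup.subset_normalClosure hd) n
    have hcd : c * n * d * (c * n)⁻¹ = n * d * n⁻¹ := by
      calc c * n * d * (c * n)⁻¹ = c * (n * d * n⁻¹) * c⁻¹ := by group
        _ = n * d * n⁻¹ := by rw [← Subgroup.mem_centralizer_iff.1 hc' _ hnd, mul_inv_cancel_right]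
    rw [hcd, Subgroup.mem_centralizer_singleton_iff]
    refine hconj n x ?_ (le_bot_iff.1 ?_) d hd
    · have := (Subgroup.mem_normalizer_iff.1 (inv_mem hn) x).1 hxT
      rw [inv_inv] at this
      exact this.1
    · rw [← h]
      have hle : D.map (MulAut.conj n).toMonoidHom ⊔ Subgroup.zpowers x ≤ V ⊔ Subgroup.zpowers x := by
        refine sup_le_sup_right ?_ _
        rintro _ ⟨a, ha, rfl⟩
        exact hVn.conj_mem a (Subgroup.subset_normalClosure ha) n
      exact Subgroup.commutator_mono (Subgroup.commutator_mono hle hle) hle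
  have hDV : D = V := le_antisymm Subgroup.le_normalClosure hVD
  rw [hDV]
  exact hVn

end Cfsg.Agent.S3060
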