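import Cfsg.Statements.S3062
import Cfsg.Agent.Lib.LocEven.DStar
import Cfsg.Agent.Lib.LocEven.Replacement

set_option autoImplicit false
open Cfsg

namespace Cfsg.Agent.S3062

/-- Let S be a finite p-group, J(S) the subgroup generated by the abelian subgroups of S of largest order and Z(J(S)) its centre. Then Z(S) ≤ D*(S) ≤ Z(J(S)), and every maximal normal abelian subgroup of S contains D*(S). -/
theorem result {S : Type*} [Group S] [Finite S] {p : ℕ} [Fact p.Prime]
    (hS : IsPGroup p S) :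
    Subgroup.center S ≤ Cfsg.dStar S ∧
    Cfsg.dStar S ≤ Cfsg.thompsonSubgroupA S ⊓ Subgroup.centralizer (Cfsg.thompsonSubgroupA S : Set S) ∧
    ∀ A : Subgroup S, A.Normal → IsMulCommutative A →
      (∀ B : Subgroup S, B.Normal → IsMulCommutative B → A ≤ B → B = A) → Cfsg.dStar S ≤ A := by
  classical
  haveI : Group.IsNilpotent S := hS.isNilpotent
  have hD := CfsgLib.LocEven.dStar_mem_dStarFamily hS
  have hDnorm : (dStar S).Normal := by
    constructor
    intro n hn g
    have h : (dStar S).map (MulAut.conj g).toMonoidHom ≤ dStar S :=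
      le_sSup (CfsgLib.LocEven.dStarFamily_map_equiv (MulAut.conj g) hD)
    exact h ⟨n, hn, rfl⟩
  haveI := hDnorm
  -- an element normalised by `D` modulo a centralised subgroup centralises `D`
  have key : ∀ a : S, (∀ d ∈ dStar S, d * a * d⁻¹ * a⁻¹ * a = a * (d * a * d⁻¹ * a⁻¹)) →
      ∀ d ∈ dStar S, d * a = a * d := by
    intro a ha
    refine hD.2 a ?_
    rw [Subgroup.commutator_eq_bot_iff_le_centralizer]
    let Z := Subgroup.centralizer ((dStar S ⊔ Subgroup.zpowers a : Subgroup S) : Set S)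
    have hgen : ∀ x ∈ dStar S ⊔ Subgroup.zpowers a, ∀ y ∈ dStar S ⊔ Subgroup.zpowers a,
        x * y * x⁻¹ * y⁻¹ ∈ dStar S ⊓ Subgroup.centralizer ({a} : Set S) := by
      intro x hx y hy
      obtain ⟨d, hd, u, hu, rfl⟩ := (Subgroup.mem_sup_of_normal_left (s := dStar S)).mp hx
      obtain ⟨d', hd', v, hv, rfl⟩ := (Subgroup.mem_sup_of_normal_left (s := dStar S)).mp hy
      have hcd : ∀ d ∈ dStar S, ∀ w ∈ Subgroup.zpowers a,
          d * w * d⁻¹ * w⁻¹ ∈ dStar S ⊓ Subgroup.centralizer ({a} : Set S) := by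
        intro d hd w hw
        have hc : d * a * d⁻¹ * a⁻¹ ∈ dStar S ⊓ Subgroup.centralizer ({a} : Set S) :=
          ⟨by simpa [mul_assoc] using mul_mem hd (hDnorm.conj_mem _ (inv_mem hd) a),
            Subgroup.mem_centralizer_singleton_iff.mpr (ha d hd)⟩
        obtain ⟨k, rfl⟩ := Subgroup.mem_zpowers_iff.mp hw
        have hpow : d * a ^ k * d⁻¹ * (a ^ k)⁻¹ = (d * a * d⁻¹ * a⁻¹) ^ k := by
          have hcomm : Commute (d * a * d⁻¹ * a⁻¹) a := ha d hd
          rw [← conj_zpow, show d * a * d⁻¹ = (d * a * d⁻¹ * a⁻¹) * a by group, hcomm.mul_zpow]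
          group
        rw [hpow]
        exact zpow_mem hc k
      have e : d * u * (d' * v) * (d * u)⁻¹ * (d' * v)⁻¹ =
          d * (u * d' * u⁻¹) * (u * v * u⁻¹) * d⁻¹ * v⁻¹ * d'⁻¹ := by group
      have huv : u * v * u⁻¹ = v := by
        obtain ⟨i, rfl⟩ := Subgroup.mem_zpowers_iff.mp hu
        obtain ⟨j, rfl⟩ := Subgroup.mem_zpowers_iff.mp hv
        group
      have hDc : ∀ {x y : S}, x ∈ dStar S → y ∈ dStar S → x * y = y * x :=
        fun hx hy => CfsgLib.LocEven.commute_of_comm hD.1 hx hy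
      rw [e, huv]
      have h1 := hcd d hd v hv
      have h2 := hcd d' hd' u hu
      have e2 : d * (u * d' * u⁻¹) * v * d⁻¹ * v⁻¹ * d'⁻¹
          = (d' * u * d'⁻¹ * u⁻¹)⁻¹ * (d * v * d⁻¹ * v⁻¹) := by
        have hu' : u * d' * u⁻¹ ∈ dStar S := hDnorm.conj_mem _ hd' u
        calc d * (u * d' * u⁻¹) * v * d⁻¹ * v⁻¹ * d'⁻¹
            = (u * d' * u⁻¹) * ((d * v * d⁻¹ * v⁻¹) * d'⁻¹) := by rw [hDc hd hu']; group
          _ = (u * d' * u⁻¹) * (d'⁻¹ * (d * v * d⁻¹ * v⁻¹)) := by rw [hDc h1.1 (inv_mem hd')]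
          _ = (d' * u * d'⁻¹ * u⁻¹)⁻¹ * (d * v * d⁻¹ * v⁻¹) := by group
      rw [e2]
      exact mul_mem (inv_mem h2) h1
    refine le_trans ((Subgroup.commutator_le).mpr hgen) ?_
    intro z hz
    rw [Subgroup.mem_centralizer_iff]
    intro y hy
    obtain ⟨d, hd, u, hu, rfl⟩ := (Subgroup.mem_sup_of_normal_left (s := dStar S)).mp hy
    obtain ⟨k, rfl⟩ := Subgroup.mem_zpowers_iff.mp hu
    have hza : Commute z a := Subgroup.mem_centralizer_singleton_iff.mp hz.2
    have hzd : Commute z d := CfsgLib.LocEven.commute_of_comm hD.1 hz.1 hd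
    exact ((hzd.mul_right (hza.zpow_right k))).symm.eq
  refine ⟨le_sSup ⟨inferInstance, fun x _ a ha => (Subgroup.mem_center_iff.mp ha x).symm⟩, ?_, ?_⟩
  · have hcent : ∀ A ∈ maxAbelianSubgroups S, dStar S ≤ Subgroup.centralizer (A : Set S) := by
      by_contra hne
      push_neg at hne
      obtain ⟨A, ⟨hA, hAD⟩, hmax⟩ := Set.exists_max_image
        {A | A ∈ maxAbelianSubgroups S ∧ ¬ dStar S ≤ Subgroup.centralizer (A : Set S)}
        (fun A => Nat.card ↥(A ⊓ dStar S)) (Set.toFinite _) hne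
      apply hAD
      by_cases hDA : dStar S ≤ Subgroup.normalizer (A : Set S)
      · intro d hd a ha
        refine (key a (fun d hd => ?_) d hd).symm
        have h1 : d * a * d⁻¹ * a⁻¹ ∈ A :=
          mul_mem ((Subgroup.mem_normalizer_iff.mp (hDA hd) a).mp ha) (inv_mem ha)
        exact CfsgLib.LocEven.commute_of_comm hA.1 h1 ha
      · exfalso
        obtain ⟨B, hB, hlt, hBN, -, -⟩ :=
          CfsgLib.LocEven.thompson_replacement_abelian hA hD.1 hDA
        have hBD : dStar S ≤ Subgroup.centralizer (B : Set S) := by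
          by_contra h
          have := hmax B ⟨hB, h⟩
          exact hlt.ne (Subgroup.eq_of_le_of_card_ge hlt.le this)
        rw [CfsgLib.LocEven.centralizer_eq_of_mem_maxAbelian hB] at hBD
        exact hDA (hBD.trans hBN)
    obtain ⟨A, hA⟩ := CfsgLib.LocEven.exists_maxAbelian (G := S)
    refine le_inf ?_ ?_
    · exact le_trans ((hcent A hA).trans_eq (CfsgLib.LocEven.centralizer_eq_of_mem_maxAbelian hA))
        (le_sSup hA)
    · rw [Subgroup.le_centralizer_iff]
      exact sSup_le fun B hB => Subgroup.le_centralizer_iff.mp (hcent B hB)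
  · intro A hAn hAc hAmax
    haveI := hAn
    have hDA : dStar S ≤ Subgroup.centralizer (A : Set S) := by
      intro d hd a ha
      refine (key a (fun d hd => ?_) d hd).symm
      have h1 : d * a * d⁻¹ * a⁻¹ ∈ A := mul_mem (hAn.conj_mem a ha d) (inv_mem ha)
      exact CfsgLib.LocEven.commute_of_comm hAc h1 ha
    have h := hAmax (A ⊔ dStar S) inferInstance
      (CfsgLib.LocEven.comm_sup hAc hD.1 (Subgroup.le_centralizer_iff.mp hDA)) le_sup_left
    exact h ▸ le_sup_right


end Cfsg.Agent.S3062
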