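import Cfsg.Statements.S3063
import Cfsg.Agent.Lib.LocEven.Replacement
import Cfsg.Agent.Lib.LocEven.Measure

set_option autoImplicit false
open Cfsg
open scoped commutatorElement

namespace Cfsg.Agent.S3063

open CfsgLib.LocEven in
/-- If `H = A (H ∩ N)` then `|H| |C(H)| ≤ |A| |(H ∩ N) C(H)|`. -/
theorem card_mul_card_centralizer_le {S : Type*} [Group S] [Finite S] {A H N : Subgroup S}
    [N.Normal] (hN : IsMulCommutative N) (hA : A ∈ maxAbelianSubgroups S) (hAH : A ≤ H)
    (hHN : H ≤ N ⊔ A) :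
    Nat.card H * Nat.card ↥(Subgroup.centralizer (H : Set S)) ≤
      Nat.card A * Nat.card ↥((H ⊓ N) ⊔ Subgroup.centralizer (H : Set S)) ∧
    IsMulCommutative ↥((H ⊓ N) ⊔ Subgroup.centralizer (H : Set S)) := by
  have hZA : Subgroup.centralizer (H : Set S) ≤ A :=
    (Subgroup.centralizer_le hAH).trans_eq (centralizer_eq_of_mem_maxAbelian hA)
  have h1 : A.relIndex H ≤ A.relIndex (H ⊓ N) := by
    let f : (H ⊓ N : Subgroup S) ⧸ A.subgroupOf (H ⊓ N) → H ⧸ A.subgroupOf H :=
      Quotient.map' (fun n => (⟨n.1, (Subgroup.mem_inf.mp n.2).1⟩ : H)) (fun x y h => by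
        rw [QuotientGroup.leftRel_apply] at h ⊢
        exact h)
    refine Nat.card_le_card_of_surjective f ?_
    intro q
    obtain ⟨⟨h, hh⟩, rfl⟩ := QuotientGroup.mk_surjective q
    obtain ⟨n, hn, a, ha, rfl⟩ := (Subgroup.mem_sup_of_normal_left (s := N)).mp (hHN hh)
    have hnH : n ∈ H := by simpa [mul_assoc] using mul_mem hh (inv_mem (hAH ha))
    refine ⟨QuotientGroup.mk ⟨n, Subgroup.mem_inf.mpr ⟨hnH, hn⟩⟩, ?_⟩
    show QuotientGroup.mk (⟨n, hnH⟩ : H) = QuotientGroup.mk (⟨n * a, hh⟩ : H)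
    rw [QuotientGroup.eq, Subgroup.mem_subgroupOf]
    simpa using ha
  have h2 := card_mul_relIndex' hAH
  have h3 := card_mul_relIndex' (inf_le_right : A ⊓ (H ⊓ N) ≤ H ⊓ N)
  rw [Subgroup.inf_relIndex_right] at h3
  have h4 := card_mul_card_le_card_inf_mul_sup (H ⊓ N) (Subgroup.centralizer (H : Set S))
  have h5 : Nat.card ↥((H ⊓ N) ⊓ Subgroup.centralizer (H : Set S)) ≤ Nat.card ↥(A ⊓ (H ⊓ N)) :=
    Nat.le_of_dvd Nat.card_pos (Subgroup.card_dvd_of_le (le_inf (inf_le_right.trans hZA) inf_le_left))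
  refine ⟨?_, ?_⟩
  · refine Nat.le_of_mul_le_mul_left ?_ (Nat.card_pos (α := ↥(A ⊓ (H ⊓ N))))
    calc Nat.card ↥(A ⊓ (H ⊓ N)) * (Nat.card H * Nat.card ↥(Subgroup.centralizer (H : Set S)))
        = Nat.card A * (Nat.card ↥(A ⊓ (H ⊓ N)) * A.relIndex H) *
            Nat.card ↥(Subgroup.centralizer (H : Set S)) := by rw [← h2]; ring
      _ ≤ Nat.card A * (Nat.card ↥(A ⊓ (H ⊓ N)) * A.relIndex (H ⊓ N)) *
            Nat.card ↥(Subgroup.centralizer (H : Set S)) := by gcongr
      _ = Nat.card A * (Nat.card ↥(H ⊓ N) * Nat.card ↥(Subgroup.centralizer (H : Set S))) := by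
            rw [h3]; ring
      _ ≤ Nat.card A * (Nat.card ↥(A ⊓ (H ⊓ N)) *
            Nat.card ↥((H ⊓ N) ⊔ Subgroup.centralizer (H : Set S))) :=
          Nat.mul_le_mul_left _ (h4.trans (Nat.mul_le_mul_right _ h5))
      _ = _ := by ring
  · refine comm_sup (comm_of_le_centralizer ((inf_le_right.trans (le_centralizer_self hN)).trans
      (Subgroup.centralizer_le (fun x (hx : x ∈ H ⊓ N) => (Subgroup.mem_inf.mp hx).2))))
      (comm_of_le_centralizer ((hZA.trans (le_centralizer_self hA.1)).trans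
        (Subgroup.centralizer_le hZA))) ?_
    rw [Subgroup.le_centralizer_iff]
    exact Subgroup.centralizer_le (fun x (hx : x ∈ H ⊓ N) => (Subgroup.mem_inf.mp hx).1)

/-- A weak replacement Theorem for metabelian p-groups: let S be a finite p-group whose derived subgroup is abelian and A an abelian subgroup of S of largest possible order. Then the normal closure of A in S contains an abelian subgroup B of the same order as A that is normal in S. -/
theorem result {S : Type*} [Group S] [Finite S] {p : ℕ} [Fact p.Prime]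
    (hS : IsPGroup p S) (hmeta : IsMulCommutative ↥(commutator S))
    (A : Subgroup S) (hA : A ∈ Cfsg.maxAbelianSubgroups S) :
    ∃ B ∈ Cfsg.maxAbelianSubgroups S, B.Normal ∧ B ≤ Subgroup.normalClosure (A : Set S) := by
  classical
  haveI : Group.IsNilpotent S := hS.isNilpotent
  obtain ⟨A₁, ⟨hA₁, hA₁le⟩, hmaxA⟩ := Set.exists_max_image
    {X : Subgroup S | X ∈ maxAbelianSubgroups S ∧ X ≤ Subgroup.normalClosure (A : Set S)}
    (fun X => Nat.card ↥(X ⊓ commutator S)) (Set.toFinite _) ⟨A, hA, Subgroup.le_normalClosure⟩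
  set N := commutator S with hNdef
  have hK₀ : Subgroup.normalClosure (A₁ : Set S) ≤ Subgroup.normalClosure (A : Set S) :=
    Subgroup.normalClosure_le_normal hA₁le
  have hnorm : N ≤ Subgroup.normalizer (A₁ : Set S) := by
    by_contra h
    obtain ⟨B, hB, hlt, -, -, hBK⟩ := CfsgLib.LocEven.thompson_replacement_abelian hA₁ hmeta h
    exact hlt.ne (Subgroup.eq_of_le_of_card_ge hlt.le (hmaxA B ⟨hB, hBK.trans hK₀⟩))
  set K := Subgroup.normalClosure (A₁ : Set S) with hK
  haveI hNA : (N ⊔ A₁).Normal := ⟨fun n hn g => by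
    have h : ⁅g, n⁆ ∈ N := Subgroup.commutator_mem_commutator (Subgroup.mem_top g) (Subgroup.mem_top n)
    have h' := mul_mem ((le_sup_left : N ≤ N ⊔ A₁) h) hn
    simpa [commutatorElement_def, mul_assoc] using h'⟩
  have hKle : K ≤ N ⊔ A₁ := Subgroup.normalClosure_le_normal (le_sup_right : A₁ ≤ N ⊔ A₁)
  -- conjugates of `A₁`
  have hconj : ∀ g : S, A₁.map (MulAut.conj g).toMonoidHom ∈ maxAbelianSubgroups S ∧
      A₁.map (MulAut.conj g).toMonoidHom ≤ K ∧
      K ≤ N ⊔ A₁.map (MulAut.conj g).toMonoidHom := by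
    intro g
    refine ⟨CfsgLib.LocEven.maxAbelian_map_equiv (MulAut.conj g) hA₁, ?_, ?_⟩
    · rintro _ ⟨a, ha, rfl⟩
      exact Subgroup.normalClosure_normal.conj_mem a (Subgroup.le_normalClosure ha) g
    · refine hKle.trans (sup_le le_sup_left ?_)
      intro a ha
      have h : ⁅g, a⁆⁻¹ * (g * a * g⁻¹) ∈ N ⊔ A₁.map (MulAut.conj g).toMonoidHom :=
        mul_mem ((le_sup_left : N ≤ N ⊔ _) (inv_mem
          (Subgroup.commutator_mem_commutator (Subgroup.mem_top g) (Subgroup.mem_top a))))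
          ((le_sup_right : A₁.map _ ≤ N ⊔ _) ⟨a, ha, rfl⟩)
      simpa [commutatorElement_def, mul_assoc] using h
  have hcardc : ∀ g : S, Nat.card ↥(A₁.map (MulAut.conj g).toMonoidHom) = Nat.card A₁ :=
    fun g => CfsgLib.LocEven.card_map_conj A₁ g
  let m : Subgroup S → ℕ := fun H => Nat.card H * Nat.card ↥(K ⊓ Subgroup.centralizer (H : Set S))
  have hbound : ∀ (g : S) (H : Subgroup S), A₁.map (MulAut.conj g).toMonoidHom ≤ H → H ≤ K →
      Nat.card H * Nat.card ↥(Subgroup.centralizer (H : Set S)) ≤ Nat.card A₁ * Nat.card A₁ := by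
    intro g H h1 h2
    obtain ⟨hle, hc⟩ := card_mul_card_centralizer_le hmeta (hconj g).1 h1 (h2.trans (hconj g).2.2)
    rw [hcardc] at hle
    exact hle.trans (Nat.mul_le_mul_left _ (hA₁.2 _ hc))
  have hm_ge : ∀ (g : S) (H : Subgroup S), A₁.map (MulAut.conj g).toMonoidHom ≤ H → H ≤ K →
      K ⊓ Subgroup.centralizer (H : Set S) = Subgroup.centralizer (H : Set S) := by
    intro g H h1 _
    refine inf_eq_right.mpr ((Subgroup.centralizer_le h1).trans ?_)
    rw [CfsgLib.LocEven.centralizer_eq_of_mem_maxAbelian (hconj g).1]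
    exact (hconj g).2.1
  have hA1 : A₁.map (MulAut.conj (1 : S)).toMonoidHom = A₁ := by
    ext x; simp
  obtain ⟨H, ⟨⟨hAH, hHK⟩, hmH⟩, hHmax⟩ := Set.exists_max_image
    {H : Subgroup S | (A₁ ≤ H ∧ H ≤ K) ∧ m H = Nat.card A₁ * Nat.card A₁}
    (fun H => Nat.card H) (Set.toFinite _) ⟨A₁, ⟨le_rfl, Subgroup.le_normalClosure⟩, by
      simp only [m]
      rw [CfsgLib.LocEven.centralizer_eq_of_mem_maxAbelian hA₁,
        inf_eq_right.mpr Subgroup.le_normalClosure]⟩
  have hall : ∀ g : S, A₁.map (MulAut.conj g).toMonoidHom ≤ H := by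
    intro g
    set A' := A₁.map (MulAut.conj g).toMonoidHom with hA'
    have h1 := CfsgLib.LocEven.card_mul_card_le_card_inf_mul_sup H A'
    have h2 := CfsgLib.LocEven.card_inf_centralizer_mul_le K H A'
    have hmA' : m A' = Nat.card A₁ * Nat.card A₁ := by
      simp only [m]
      rw [hm_ge g A' le_rfl (hconj g).2.1, CfsgLib.LocEven.centralizer_eq_of_mem_maxAbelian (hconj g).1,
        hcardc]
    have hinter : m (H ⊓ A') ≤ Nat.card A₁ * Nat.card A₁ := by
      set H' := K ⊓ Subgroup.centralizer ((H ⊓ A' : Subgroup S) : Set S) with hH'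
      have hA'H' : A' ≤ H' := le_inf (hconj g).2.1
        ((CfsgLib.LocEven.le_centralizer_self (hconj g).1.1).trans
          (Subgroup.centralizer_le (fun x (hx : x ∈ H ⊓ A') => (Subgroup.mem_inf.mp hx).2)))
      refine le_trans ?_ (hbound g H' hA'H' inf_le_left)
      calc m (H ⊓ A') = Nat.card ↥(H ⊓ A') * Nat.card H' := rfl
        _ ≤ Nat.card ↥(Subgroup.centralizer (H' : Set S)) * Nat.card H' := by
            refine Nat.mul_le_mul_right _ (Nat.le_of_dvd Nat.card_pos (Subgroup.card_dvd_of_le ?_))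
            rw [Subgroup.le_centralizer_iff]
            exact inf_le_right
        _ = _ := Nat.mul_comm _ _
    have hsupK : H ⊔ A' ≤ K := sup_le hHK (hconj g).2.1
    have hprod : m H * m A' ≤ m (H ⊓ A') * m (H ⊔ A') := by
      calc m H * m A' = (Nat.card H * Nat.card A') * (Nat.card ↥(K ⊓ Subgroup.centralizer (H : Set S))
            * Nat.card ↥(K ⊓ Subgroup.centralizer (A' : Set S))) := by simp only [m]; ring
        _ ≤ _ := Nat.mul_le_mul h1 h2
        _ = m (H ⊓ A') * m (H ⊔ A') := by simp only [m]; ring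
    have hsup : m (H ⊔ A') = Nat.card A₁ * Nat.card A₁ := by
      refine le_antisymm ?_ ?_
      · simp only [m]
        rw [hm_ge g _ le_sup_right hsupK]
        exact hbound g _ le_sup_right hsupK
      · rw [hmH, hmA'] at hprod
        exact Nat.le_of_mul_le_mul_left (hprod.trans (Nat.mul_le_mul_right _ hinter))
          (Nat.mul_pos Nat.card_pos Nat.card_pos)
    have := hHmax (H ⊔ A') ⟨⟨hAH.trans le_sup_left, hsupK⟩, hsup⟩
    exact (Subgroup.eq_of_le_of_card_ge le_sup_left this) ▸ le_sup_right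
  have hHeq : H = K := by
    refine le_antisymm hHK ?_
    rw [hK, Subgroup.normalClosure, Subgroup.closure_le]
    intro x hx
    obtain ⟨a, ha, hax⟩ := Group.mem_conjugatesOfSet_iff.mp hx
    obtain ⟨g, rfl⟩ := isConj_iff.mp hax
    exact hall g ⟨a, ha, rfl⟩
  rw [hHeq] at hmH
  obtain ⟨hle, hc⟩ := card_mul_card_centralizer_le hmeta hA₁ Subgroup.le_normalClosure hKle
  haveI : K.Normal := Subgroup.normalClosure_normal
  set B := (K ⊓ N) ⊔ Subgroup.centralizer (K : Set S) with hB
  have hmK : m K = Nat.card K * Nat.card ↥(Subgroup.centralizer (K : Set S)) := by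
    simp only [m]
    rw [hm_ge 1 K (hA1.le.trans Subgroup.le_normalClosure) le_rfl]
  have hBcard : Nat.card A₁ ≤ Nat.card B :=
    Nat.le_of_mul_le_mul_left ((hmH.symm.trans hmK).le.trans hle) Nat.card_pos
  refine ⟨B, ⟨hc, fun X hX => (hA₁.2 X hX).trans hBcard⟩, inferInstance, ?_⟩
  refine le_trans (sup_le inf_le_left ?_) hK₀
  exact (Subgroup.centralizer_le Subgroup.le_normalClosure).trans
    ((CfsgLib.LocEven.centralizer_eq_of_mem_maxAbelian hA₁).le.trans Subgroup.le_normalClosure)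


end Cfsg.Agent.S3063
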