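import Cfsg.Statements.S3064
import Cfsg.Agent.Lib.Frobenius.Theorem
import Mathlib.GroupTheory.SchurZassenhaus
-- import your own Cfsg.Agent.* helpers here

set_option autoImplicit false
open Cfsg

namespace Cfsg.Agent.S3064

universe u

open scoped Pointwise

theorem conj_mem_of_smul {G : Type*} [Group G] {g a : G} {H : Subgroup G}
    (h : a ∈ MulAut.conj g • H) : g⁻¹ * a * g ∈ H := by
  rw [Subgroup.mem_pointwise_smul_iff_inv_smul_mem, ← map_inv] at h
  simpa [MulAut.conj_apply] using h

theorem aux (p : ℕ) [hp : Fact p.Prime] : ∀ (n : ℕ) (G : Type u) [Group G] [Finite G], Nat.card G = n →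
    ∀ (S : Sylow p G) (x : G), x ∈ S →
    (∀ g : G, g⁻¹ * x * g ∈ S → g⁻¹ * x * g = x) →
    (∀ H : Subgroup G, (Nat.card H).Coprime p → (∀ h ∈ H, x * h * x⁻¹ ∈ H) → ∀ h ∈ H, x * h = h * x) →
    x ∈ Subgroup.center G := by
  intro n
  induction n using Nat.strong_induction_on with
  | _ n ih =>
  intro G _ _ hn S x hx hU hb
  by_contra hcen
  have hpp := hp.out
  obtain ⟨kx, hkx⟩ := S.isPGroup' ⟨x, hx⟩
  have hxpow : x ^ p ^ kx = 1 := congrArg Subtype.val hkx
  -- proper subgroups containing `x` centralize it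
  have hsub : ∀ H : Subgroup G, H ≠ ⊤ → x ∈ H → ∀ h ∈ H, x * h = h * x := by
    intro H hH hxH h hh
    have hlt : Nat.card H < n := by
      rw [← hn]
      by_contra hge
      exact hH (Subgroup.eq_top_of_le_card H (not_lt.1 hge))
    have hzp : IsPGroup p (Subgroup.zpowers (⟨x, hxH⟩ : H)) :=
      IsPGroup.iff_orderOf.2 fun a => by
        have h1 : orderOf (⟨x, hxH⟩ : H) ∣ p ^ kx :=
          orderOf_dvd_of_pow_eq_one (Subtype.ext hxpow)
        have h2 : orderOf a ∣ p ^ kx := by
          refine (orderOf_dvd_natCard a).trans ?_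
          rwa [Nat.card_zpowers]
        obtain ⟨j, -, hj⟩ := (Nat.dvd_prime_pow hpp).1 h2
        exact ⟨j, hj⟩
    obtain ⟨T, hT⟩ := hzp.exists_le_sylow
    obtain ⟨R, hR⟩ := (T.isPGroup'.map H.subtype).exists_le_sylow
    obtain ⟨w, hw⟩ := MulAction.exists_smul_eq G S R
    have hmem : ∀ t ∈ (T : Subgroup H), w⁻¹ * (t : G) * w ∈ S := by
      intro t ht
      have h1 : (t : G) ∈ ((w • S : Sylow p G) : Subgroup G) := by
        rw [hw]; exact hR ⟨t, ht, rfl⟩
      rw [Sylow.coe_subgroup_smul] at h1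
      exact conj_mem_of_smul h1
    have hwx : w⁻¹ * x * w = x := hU w (hmem ⟨x, hxH⟩ (hT (Subgroup.mem_zpowers _)))
    have hc := ih _ hlt H rfl T ⟨x, hxH⟩ (hT (Subgroup.mem_zpowers _)) (fun g hg => by
      have h1 := hmem _ hg
      refine Subtype.ext ?_
      push_cast at h1 ⊢
      have h2 : ((g : G) * w)⁻¹ * x * ((g : G) * w) = x := hU _ (by
        convert h1 using 1; group)
      calc (g : G)⁻¹ * x * g = w * (((g : G) * w)⁻¹ * x * ((g : G) * w)) * w⁻¹ := by group
        _ = w * (w⁻¹ * x * w) * w⁻¹ := by rw [h2, hwx]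
        _ = x := by group) (fun K hK hKn k hk => by
      refine Subtype.ext (hb (K.map H.subtype) ?_ ?_ k ⟨k, hk, rfl⟩)
      · rwa [Subgroup.card_map_of_injective H.subtype_injective]
      · rintro _ ⟨a, ha, rfl⟩
        exact ⟨_, hKn a ha, rfl⟩)
    exact (congrArg Subtype.val (Subgroup.mem_center_iff.1 hc ⟨h, hh⟩)).symm
  set M := Subgroup.centralizer ({x} : Set G) with hM
  have hMmem : ∀ {a : G}, a ∈ M ↔ x * a = a * x := by
    intro a; rw [hM, Subgroup.mem_centralizer_singleton_iff]; exact eq_comm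
  have hSM : ∀ s ∈ S, s ∈ M := fun s hs => hMmem.2 (by
    have := hU s (S.mul_mem (S.mul_mem (S.inv_mem hs) hx) hs)
    calc x * s = s * (s⁻¹ * x * s) := by group
      _ = s * x := by rw [this])
  -- a conjugate of `x` commuting with `x` is `x`
  have hcomm : ∀ g : G, g⁻¹ * x * g ∈ M → g⁻¹ * x * g = x := by
    intro g hg
    have hSle : (S : Subgroup G) ≤ M := hSM
    have hzp : IsPGroup p ((Subgroup.zpowers (g⁻¹ * x * g)).subgroupOf M) := by
      refine IsPGroup.of_equiv ?_ (Subgroup.subgroupOfEquivOfLe (Subgroup.zpowers_le.2 hg)).symm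
      refine IsPGroup.to_le (K := (S : Subgroup G).map (MulAut.conj g⁻¹).toMonoidHom) (S.isPGroup'.map _)
        (Subgroup.zpowers_le.2 ⟨x, hx, by simp⟩)
    obtain ⟨T, hT⟩ := hzp.exists_le_sylow
    obtain ⟨c, hc⟩ := MulAction.exists_smul_eq M (S.subtype hSle) T
    have h1 : (⟨_, hg⟩ : M) ∈ (T : Subgroup M) := hT (Subgroup.mem_subgroupOf.2 (Subgroup.mem_zpowers _))
    rw [← hc, Sylow.coe_subgroup_smul] at h1
    have h2 := conj_mem_of_smul h1
    rw [Sylow.coe_subtype, Subgroup.mem_subgroupOf] at h2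
    push_cast at h2
    have h3 := hU (g * (c : G)) (show _ ∈ (S : Subgroup G) by convert h2 using 1; group)
    have hcc := hMmem.1 c.2
    calc g⁻¹ * x * g = (c : G) * ((g * (c : G))⁻¹ * x * (g * (c : G))) * (c : G)⁻¹ := by group
      _ = x := by rw [h3, ← hcc, mul_inv_cancel_right]
  have hMtop : M ≠ ⊤ := fun h => hcen (Subgroup.mem_center_iff.2 fun g =>
    (hMmem.1 (h ▸ Subgroup.mem_top g)).symm)
  -- quotients
  have hquot : ∀ N : Subgroup G, ∀ _ : N.Normal, N ≠ ⊥ →
      (∀ g : G, ∀ s ∈ S, (g⁻¹ * x * g) * s⁻¹ ∈ N → ∃ m ∈ N, m⁻¹ * (g⁻¹ * x * g) * m ∈ S) →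
      (∀ H : Subgroup G, N ≤ H → (∀ h ∈ H, x * h * x⁻¹ ∈ H) →
        (Nat.card (H.map (QuotientGroup.mk' N))).Coprime p → ∀ h ∈ H, x * h = h * x) →
      ∀ g : G, x * g * x⁻¹ * g⁻¹ ∈ N := by
    intro N hN hne h1 h2
    have hlt : Nat.card (G ⧸ N) < n := by
      rw [← hn, ← Subgroup.card_mul_index N, ← Subgroup.index_eq_card]
      exact lt_mul_left (Nat.pos_of_ne_zero Subgroup.index_ne_zero_of_finite)
        (Subgroup.one_lt_card_iff_ne_bot N |>.2 hne)
    set f := QuotientGroup.mk' N with hf
    have hsurj : Function.Surjective f := QuotientGroup.mk'_surjective N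
    have hc := ih _ hlt (G ⧸ N) rfl (S.mapSurjective hsurj) (f x)
      (by
        show f x ∈ ((S.mapSurjective hsurj : Sylow p (G ⧸ N)) : Subgroup (G ⧸ N))
        rw [Sylow.coe_mapSurjective]
        exact ⟨x, hx, rfl⟩)
      (fun gb hgb => by
        obtain ⟨g, rfl⟩ := hsurj gb
        have hgb' : (f g)⁻¹ * f x * f g ∈ (S : Subgroup G).map f := by
          have : (f g)⁻¹ * f x * f g ∈ ((S.mapSurjective hsurj : Sylow p (G ⧸ N)) : Subgroup (G ⧸ N)) := hgb
          rwa [Sylow.coe_mapSurjective] at this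
        obtain ⟨s, hs, hse⟩ := hgb'
        obtain ⟨m, hm, hmS⟩ := h1 g s hs ((QuotientGroup.eq_one_iff _).1 (by
          show f (g⁻¹ * x * g * s⁻¹) = 1
          rw [map_mul, map_mul, map_mul, map_inv, map_inv, hse, mul_inv_cancel]))
        have h3 := hU (g * m) (by
          rw [show (g * m)⁻¹ * x * (g * m) = m⁻¹ * (g⁻¹ * x * g) * m by group]
          exact hmS)
        have hm1 : f m = 1 := (QuotientGroup.eq_one_iff m).2 hm
        have h4 := congrArg f h3
        simpa [hm1] using h4)
      (fun H hH hHn hb' hh => by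
        obtain ⟨h, rfl⟩ := hsurj hb'
        have := h2 (H.comap f) (fun a ha => by
            show f a ∈ H
            rw [show f a = 1 from (QuotientGroup.eq_one_iff a).2 ha]; exact one_mem H)
          (fun a ha => by
            show f (x * a * x⁻¹) ∈ H
            rw [map_mul, map_mul, map_inv]; exact hHn _ ha)
          (by rwa [Subgroup.map_comap_eq_self_of_surjective hsurj]) h hh
        rw [← map_mul, ← map_mul, this])
    intro g
    refine (QuotientGroup.eq_one_iff _).1 ?_
    show f (x * g * x⁻¹ * g⁻¹) = 1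
    rw [map_mul, map_mul, map_mul, map_inv, map_inv, ← Subgroup.mem_center_iff.1 hc (f g)]
    group
  -- no normal p'-subgroups
  have hno : ∀ N : Subgroup G, N.Normal → (Nat.card N).Coprime p → N = ⊥ := by
    intro N hN hco
    by_contra hne
    have hxN : ∀ m ∈ N, x * m = m * x := hb N hco fun m hm => hN.conj_mem m hm x
    have hq := hquot N hN hne (fun g s hs hgs => by
      -- `g⁻¹ x g` lies in `N S`
      set J := (S : Subgroup G) ⊔ N with hJ
      have hJmem : g⁻¹ * x * g ∈ J := by
        have := mul_mem (Subgroup.mem_sup_right (S := (S : Subgroup G)) hgs)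
          (Subgroup.mem_sup_left (T := N) hs)
        rwa [inv_mul_cancel_right] at this
      have hzp : IsPGroup p ((Subgroup.zpowers (g⁻¹ * x * g)).subgroupOf J) := by
        refine IsPGroup.of_equiv ?_ (Subgroup.subgroupOfEquivOfLe (Subgroup.zpowers_le.2 hJmem)).symm
        exact IsPGroup.to_le (K := (S : Subgroup G).map (MulAut.conj g⁻¹).toMonoidHom) (S.isPGroup'.map _)
          (Subgroup.zpowers_le.2 ⟨x, hx, by simp⟩)
      obtain ⟨T, hT⟩ := hzp.exists_le_sylow
      obtain ⟨c, hc⟩ := MulAction.exists_smul_eq J (S.subtype le_sup_left) T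
      have h1 : (⟨_, hJmem⟩ : J) ∈ (T : Subgroup J) := hT (Subgroup.mem_subgroupOf.2 (Subgroup.mem_zpowers _))
      rw [← hc, Sylow.coe_subgroup_smul] at h1
      have h2 := conj_mem_of_smul h1
      rw [Sylow.coe_subtype, Subgroup.mem_subgroupOf] at h2
      push_cast at h2
      obtain ⟨m, hm, s', hs', hcm⟩ := Subgroup.mem_sup_of_normal_left.1 (show (c : G) ∈ N ⊔ (S : Subgroup G) from sup_comm N (S : Subgroup G) ▸ c.2)
      refine ⟨m, hm, ?_⟩
      show _ ∈ (S : Subgroup G)
      rw [← hcm] at h2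
      have := S.mul_mem (S.mul_mem hs' h2) (S.inv_mem hs')
      convert this using 1
      group)
      (fun H hNH hHn hHco => hb H (by
        have h1 := Subgroup.card_mul_index (N.subgroupOf H)
        rw [Nat.card_congr (Subgroup.subgroupOfEquivOfLe hNH).toEquiv] at h1
        rw [← h1]
        refine Nat.Coprime.mul_left hco ?_
        rw [← Subgroup.relIndex, show N = (QuotientGroup.mk' N).ker from (QuotientGroup.ker_mk' N).symm,
          Subgroup.relIndex_ker]
        exact hHco) hHn)
    refine hcen (Subgroup.mem_center_iff.2 fun g => ?_)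
    set m := x * g * x⁻¹ * g⁻¹ with hm
    have hmN : m ∈ N := hq g
    have hk : ∀ k : ℕ, x ^ k * g * (x ^ k)⁻¹ = m ^ k * g := by
      intro k
      induction k with
      | zero => simp
      | succ k ihk =>
        have hxm : x * m ^ k = m ^ k * x := (Commute.pow_right (hxN m hmN) k).eq
        calc x ^ (k + 1) * g * (x ^ (k + 1))⁻¹ = x * (x ^ k * g * (x ^ k)⁻¹) * x⁻¹ := by
              rw [pow_succ']; group
          _ = (x * m ^ k) * g * x⁻¹ := by rw [ihk]; group
          _ = m ^ k * (x * g * x⁻¹) := by rw [hxm]; group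
          _ = m ^ (k + 1) * g := by rw [pow_succ, hm]; group
    have h1 := hk (p ^ kx)
    rw [hxpow, one_mul, inv_one, mul_one, right_eq_mul] at h1
    have hm1 : m = 1 := orderOf_eq_one_iff.1 (Nat.eq_one_of_dvd_coprimes (hco.pow_right kx)
      (Subgroup.orderOf_dvd_natCard _ hmN) (orderOf_dvd_of_pow_eq_one h1))
    rw [hm, mul_inv_eq_one, mul_inv_eq_iff_eq_mul] at hm1
    exact hm1.symm
  -- no normal p-subgroups
  have hnop : ∀ N : Subgroup G, N.Normal → IsPGroup p N → N = ⊥ := by
    intro N hN hNp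
    by_contra hne
    have hNS : N ≤ (S : Subgroup G) := hNp.le_sylow_of_normal S
    have hcenN : Subgroup.centralizer (N : Set G) = ⊤ := by
      by_contra hC
      refine hcen (Subgroup.mem_center_iff.2 fun g => ?_)
      have hxC : x ∈ Subgroup.centralizer (N : Set G) :=
        Subgroup.mem_centralizer_iff.2 fun m hm => (hMmem.1 (hSM m (hNS hm))).symm
      have hCn : (Subgroup.centralizer (N : Set G)).Normal := inferInstance
      have h1 := hcomm g (hMmem.2 (hsub _ hC hxC _ (by simpa using hCn.conj_mem x hxC g⁻¹)))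
      calc g * x = g * (g⁻¹ * x * g) := by rw [h1]
        _ = x * g := by group
    have hq := hquot N hN hne (fun g s hs hgs => ⟨1, one_mem _, by
        show _ ∈ (S : Subgroup G)
        have := S.mul_mem (hNS hgs) hs
        simpa using this⟩)
      (fun H hNH hHn hHco h hh => by
        -- `N` is a central Sylow subgroup of `H`
        haveI hn' : (N.subgroupOf H).Normal := hN.comap H.subtype
        obtain ⟨j, hj⟩ := IsPGroup.iff_card.1 hNp
        have hidx : (N.subgroupOf H).index = Nat.card (H.map (QuotientGroup.mk' N)) := by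
          rw [← Subgroup.relIndex_ker, QuotientGroup.ker_mk', Subgroup.relIndex]
        have hcN : Nat.card (N.subgroupOf H) = p ^ j :=
          (Nat.card_congr (Subgroup.subgroupOfEquivOfLe hNH).toEquiv).trans hj
        obtain ⟨K, hK⟩ := Subgroup.exists_right_complement'_of_coprime (N := N.subgroupOf H)
          (by rw [hcN, hidx]; exact (hHco.pow_right j).symm)
        have hKco : (Nat.card K).Coprime p := by
          rw [← hK.symm.index_eq_card, hidx]; exact hHco
        have hmN : ∀ m ∈ N, ∀ a : G, a * m = m * a := fun m hm a =>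
          (Subgroup.mem_centralizer_iff.1 (hcenN ▸ Subgroup.mem_top a) m hm).symm
        have hdec : ∀ a ∈ H, ∃ m ∈ N, ∃ b ∈ K.map H.subtype, a = m * b := by
          intro a ha
          obtain ⟨⟨m, b⟩, hmb⟩ := hK.2 (⟨a, ha⟩ : H)
          exact ⟨_, Subgroup.mem_subgroupOf.1 m.2, _, ⟨b, b.2, rfl⟩, (congrArg Subtype.val hmb).symm⟩
        have hcK : Nat.card (K.map H.subtype) = Nat.card K :=
          Subgroup.card_map_of_injective H.subtype_injective
        have hKn : ∀ a ∈ K.map H.subtype, x * a * x⁻¹ ∈ K.map H.subtype := by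
          intro a ha
          have haH : a ∈ H := Subgroup.map_subtype_le _ ha
          obtain ⟨m, hm, b, hb', hab⟩ := hdec _ (hHn a haH)
          have hpow : ∀ c ∈ K.map H.subtype, c ^ Nat.card K = 1 := fun c hc => by
            rw [← hcK]; exact congrArg Subtype.val (pow_card_eq_one' (G := K.map H.subtype) (x := ⟨c, hc⟩))
          have h1 : (x * a * x⁻¹) ^ Nat.card K = 1 := by
            rw [conj_pow, hpow a ha, mul_one, mul_inv_cancel]
          rw [hab, (Commute.mul_pow (show Commute m b from (hmN m hm b).symm)), hpow b hb', mul_one] at h1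
          obtain ⟨i, hi⟩ := hNp ⟨m, hm⟩
          have hm1 : m = 1 := orderOf_eq_one_iff.1 (Nat.eq_one_of_dvd_coprimes (hKco.pow_right i)
            (orderOf_dvd_of_pow_eq_one h1) (orderOf_dvd_of_pow_eq_one (congrArg Subtype.val hi)))
          rw [hab, hm1, one_mul]; exact hb'
        obtain ⟨m, hm, b, hb', rfl⟩ := hdec h hh
        have h2 := hb _ (hcK ▸ hKco) hKn b hb'
        calc x * (m * b) = m * (x * b) := by rw [← mul_assoc, hmN m hm x, mul_assoc]
          _ = m * b * x := by rw [h2, mul_assoc])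
    refine hcen (Subgroup.mem_center_iff.2 fun g => ?_)
    have h1 : g⁻¹⁻¹ * x * g⁻¹ ∈ S := by
      show _ ∈ (S : Subgroup G)
      have h2 := S.inv_mem (S.mul_mem (S.inv_mem hx) (hNS (hq g)))
      convert h2 using 1
      group
    have h3 := hU g⁻¹ h1
    rw [inv_inv, mul_inv_eq_iff_eq_mul] at h3
    exact h3
  -- Frobenius
  have hF : Cfsg.IsFrobeniusComplement M := by
    refine ⟨fun h => ?_, hMtop, fun g hg => ?_⟩
    · have : x ∈ M := hMmem.2 rfl
      rw [h, Subgroup.mem_bot] at this
      exact hcen (this ▸ one_mem _)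
    by_contra hne
    obtain ⟨q, hq, hdvd⟩ := Nat.exists_prime_and_dvd
      (fun h => hne (Subgroup.eq_bot_of_card_eq _ h))
    haveI : Fact q.Prime := ⟨hq⟩
    obtain ⟨r, hr⟩ := exists_prime_orderOf_dvd_card' q hdvd
    set R := Subgroup.zpowers (r : G) with hR
    have hrg : g⁻¹ * (r : G) * g ∈ M := conj_mem_of_smul r.2.2
    have hy : g * x * g⁻¹ ∈ Subgroup.centralizer (R : Set G) := by
      rw [hR, Subgroup.zpowers_eq_closure, Subgroup.centralizer_closure, Subgroup.mem_centralizer_singleton_iff]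
      calc g * x * g⁻¹ * (r : G) = g * (x * (g⁻¹ * (r : G) * g)) * g⁻¹ := by group
        _ = (r : G) * (g * x * g⁻¹) := by rw [hMmem.1 hrg]; group
    have hxR : x ∈ Subgroup.centralizer (R : Set G) := by
      rw [hR, Subgroup.zpowers_eq_closure, Subgroup.centralizer_closure, Subgroup.mem_centralizer_singleton_iff]
      exact hMmem.1 r.2.1
    have hRne : R ≠ ⊥ := fun h => by
      rw [hR, Subgroup.zpowers_eq_bot] at h
      rw [show r = 1 from Subtype.ext h, orderOf_one] at hr
      exact hq.ne_one hr.symm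
    have hcard : Nat.card R = q := by rw [hR, Nat.card_zpowers, Subgroup.orderOf_coe, hr]
    by_cases hNR : Subgroup.normalizer (R : Set G) = ⊤
    · have hRn := Subgroup.normalizer_eq_top_iff.1 hNR
      by_cases hqp : q = p
      · exact hRne (hnop R hRn (IsPGroup.of_card (n := 1) (by rw [hcard, hqp, pow_one])))
      · exact hRne (hno R hRn (hcard.symm ▸ (Nat.coprime_primes hq hpp).2 hqp))
    · have h1 := hsub _ hNR (Subgroup.centralizer_le_normalizer _ hxR) _
        (Subgroup.centralizer_le_normalizer _ hy)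
      have h2 := hcomm g⁻¹ (by rw [inv_inv]; exact hMmem.2 h1)
      rw [inv_inv, mul_inv_eq_iff_eq_mul] at h2
      exact hg (hMmem.2 h2.symm)
  obtain ⟨K, -, hKn, hKc⟩ := CfsgLib.Frobenius.exists_kernel_subgroup hF
  have hKco : (Nat.card K).Coprime p := by
    rw [← hKc.index_eq_card]
    refine ((Nat.Prime.coprime_iff_not_dvd hpp).2 fun hd => ?_).symm
    exact S.not_dvd_index (hd.trans (Subgroup.index_dvd_of_le hSM))
  rw [hno K hKn hKco, Subgroup.isComplement'_bot_left] at hKc
  exact hMtop hKc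


/-- Let S be a Sylow p-subgroup of the finite group G and x an element of S such that (i) x is the only G-conjugate of x lying in S, and (ii) x centralizes every subgroup of order prime to p that it normalizes. Then x lies in the centre of G. -/
theorem result {G : Type*} [Group G] [Finite G] {p : ℕ} [Fact p.Prime]
    (S : Sylow p G) (x : G) (hx : x ∈ S)
    (hU : ∀ g : G, g⁻¹ * x * g ∈ S → g⁻¹ * x * g = x)
    (hb : ∀ H : Subgroup G, (Nat.card H).Coprime p → (∀ h ∈ H, x * h * x⁻¹ ∈ H) → ∀ h ∈ H, x * h = h * x) :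
    x ∈ Subgroup.center G := by
  exact aux p _ G rfl S x hx hU hb

end Cfsg.Agent.S3064
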