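import Cfsg.Statements.S3067
import Cfsg.Agent.Lib.Invol.CoprimeFix

set_option autoImplicit false
open Cfsg

namespace Cfsg.Agent.S3067

/-- Let G be a finite non-abelian simple group, τ an involution of G, and α a nontrivial automorphism of G whose order is coprime to the order of G. Then α moves some element of the centralizer of τ: α does not fix C_G(τ) elementwise. -/
theorem result {G : Type*} [Group G] [Finite G] [IsSimpleGroup G]
    (hG : ¬ IsMulCommutative G) (τ : G) (hτ : orderOf τ = 2) (α : MulAut G) (hα : α ≠ 1)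
    (hcop : (orderOf α).Coprime (Nat.card G)) :
    ∃ c ∈ Subgroup.centralizer ({τ} : Set G), α c ≠ c := by
  by_contra hcon
  have hfix : ∀ c ∈ Subgroup.centralizer ({τ} : Set G), α c = c :=
    fun c hc => by_contra fun h => hcon ⟨c, hc, h⟩
  set n := orderOf α with hn
  have : Finite (MulAut G) := Finite.of_injective (fun e : MulAut G => (e : G → G)) DFunLike.coe_injective
  obtain ⟨p, hp, hpn⟩ := Nat.exists_prime_and_dvd
    (show n ≠ 1 from fun h => hα (orderOf_eq_one_iff.1 h))
  have : Fact p.Prime := ⟨hp⟩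
  set β := α ^ (n / p) with hβdef
  have hβp : orderOf β = p := orderOf_pow_orderOf_div (orderOf_pos α).ne' hpn
  have hβ : β ^ p = 1 := by rw [← hβp, pow_orderOf_eq_one]
  have hpG : ¬ p ∣ Nat.card G := fun h => hp.not_dvd_one (hcop ▸ Nat.dvd_gcd hpn h)
  have hfixβ : ∀ c ∈ Subgroup.centralizer ({τ} : Set G), β c = c := by
    intro c hc
    rw [hβdef]
    induction n / p with
    | zero => rfl
    | succ i ih => rw [pow_succ, MulAut.mul_apply, hfix c hc, ih]
  have hne : CfsgLib.Invol.CoprimeFix.fixedBy β ≠ ⊤ := by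
    intro h
    have : β = 1 := MulEquiv.ext fun g =>
      (CfsgLib.Invol.CoprimeFix.mem_fixedBy β).1 (h ▸ Subgroup.mem_top g)
    rw [this, orderOf_one] at hβp
    exact hp.ne_one hβp.symm
  have hiso : Cfsg.IsIsolatedInvolution τ := ⟨hτ, fun g hg =>
    CfsgLib.Invol.CoprimeFix.eq_of_fixed β hβ hpG hfixβ hτ hne (isConj_iff.2 ⟨g, rfl⟩)
      (hfixβ _ (Subgroup.mem_centralizer_singleton_iff.2 hg.symm.eq))⟩
  rcases Subgroup.Normal.eq_bot_or_eq_top (CfsgLib.Solvable.pPrimeCore_normal 2 G) with h | h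
  · have hc : τ ∈ Subgroup.center G := Subgroup.mem_center_iff.2 fun g => by
      have h' := CfsgLib.Invol.zStar hiso g
      rw [h, Subgroup.mem_bot, mul_inv_eq_one, mul_inv_eq_iff_eq_mul] at h'
      exact h'.symm
    rcases Subgroup.Normal.eq_bot_or_eq_top (Subgroup.instNormalCenter (G := G)) with h' | h'
    · rw [h', Subgroup.mem_bot] at hc
      rw [hc, orderOf_one] at hτ
      norm_num at hτ
    · exact hG ⟨⟨fun a b => (Subgroup.mem_center_iff.1 (h' ▸ Subgroup.mem_top b) a)⟩⟩
  · have h2 := CfsgLib.Solvable.pPrimeCore_card_coprime 2 G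
    rw [h, Subgroup.card_top] at h2
    exact Nat.not_even_iff_odd.2 (Nat.coprime_two_right.1 h2)
      (even_iff_two_dvd.2 (hτ ▸ orderOf_dvd_natCard τ))

end Cfsg.Agent.S3067
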