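import Cfsg.Statements.S3070
import Cfsg.Agent.Lib.ThompsonJ.Group
import Cfsg.Agent.Lib.PLocal.ZJ
import Cfsg.Agent.Lib.ConjFunctor.LocalComplement
import Cfsg.Agent.Lib.Transfer.Tate

set_option autoImplicit false
open Cfsg

namespace Cfsg.Agent.S3070

universe u

/-- The functor `J`. -/
theorem isCharPFunctor_thompsonA (p : ℕ) [Fact p.Prime] :
    Cfsg.IsCharPFunctor.{u} p (fun Q _ => Cfsg.thompsonSubgroupA Q) := by
  have key : ∀ (Q : Type u) [Group Q], Cfsg.thompsonSubgroupA Q = CfsgLib.PLoc.joinMaxAb 0 (⊤ : Subgroup Q) := by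
    intro Q _
    have h : Cfsg.thompsonSubgroupA Q = sSup (Cfsg.maxAbelianSubgroups Q) := rfl
    rw [h, CfsgLib.PLoc.joinMaxAb]
    congr 1
    ext A
    constructor
    · rintro ⟨hA, hmax⟩
      exact ⟨le_top, hA, fun _ _ => pow_zero _, fun B _ hB _ => @hmax B hB⟩
    · intro hA
      exact ⟨hA.comm, fun B hB => hA.max B le_top hB fun _ _ => pow_zero _⟩
  refine ⟨fun Q _ _ hQ _ h => ?_, fun Q R _ _ _ _ φ => ?_⟩
  · obtain ⟨A, hA⟩ := CfsgLib.PLoc.exists_isMaxAb 0 (⊤ : Subgroup Q)
    haveI := hQ.center_nontrivial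
    obtain ⟨z, hz⟩ := exists_ne (1 : Subgroup.center Q)
    have hzA : (z : Q) ∈ A := CfsgLib.PLoc.mem_of_commute hA trivial (pow_zero _) fun a _ =>
      Subgroup.mem_center_iff.1 z.2 a
    have h' : (z : Q) ∈ Cfsg.thompsonSubgroupA Q := by
      rw [key]; exact CfsgLib.PLoc.le_joinMaxAb hA hzA
    rw [show Cfsg.thompsonSubgroupA Q = ⊥ from h] at h'
    exact hz (Subtype.ext h')
  · haveI : Finite R := Finite.of_equiv Q φ.toEquiv
    show (Cfsg.thompsonSubgroupA Q).map φ.toMonoidHom = Cfsg.thompsonSubgroupA R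
    rw [key, key, ← CfsgLib.PLoc.joinMaxAb_map φ.toMonoidHom φ.injective,
      Subgroup.map_top_of_surjective _ φ.surjective]

/-- Let p ≥ 5 be a prime, S a Sylow p-subgroup of the finite group G and J(S) the subgroup generated by the abelian subgroups of S of largest order. Then G has a normal p-complement if and only if N_G(J(S))/C_G(J(S)) is a p-group (every element of N_G(J(S)) of order prime to p centralizes J(S)). -/
theorem result {G : Type*} [Group G] [Finite G] {p : ℕ} [Fact p.Prime]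
    (hp : 5 ≤ p) (S : Sylow p G) :
    Cfsg.HasNormalPComplement p G ↔
      ∀ g ∈ Subgroup.normalizer (Cfsg.thompsonSubgroupAOf (S : Subgroup G) : Set G), (orderOf g).Coprime p →
        g ∈ Subgroup.centralizer (Cfsg.thompsonSubgroupAOf (S : Subgroup G) : Set G) := by
  have hpp := (Fact.out : p.Prime)
  constructor
  · intro h g hg hco
    refine CfsgLib.Transfer.HasNormalPComplement.mem_centralizer h ?_ hg hco
    exact S.isPGroup'.to_le (Subgroup.map_subtype_le _)
  · intro h
    have hT : Cfsg.thompsonSubgroupAOf (S : Subgroup G) = CfsgLib.PLoc.joinMaxAb 0 (S : Subgroup G) :=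
      CfsgLib.PLoc.joinMaxAb_zero _
    set W : ∀ (Q : Type _) [Group Q], Subgroup Q := fun Q _ => Cfsg.thompsonSubgroupA Q with hW
    have hin : ∀ (H : Type _) [Group H] [Finite H], CfsgLib.ConjFunctor.IsSec G H →
        CfsgLib.ConjFunctor.CriticalInput p W H := by
      intro H _ _ _ hcon hnice _ T _ _ hnn
      exfalso
      apply hnn
      have e : Cfsg.inducedFunctor (G := H) W (T : Subgroup H) = CfsgLib.PLoc.joinMaxAb 0 (T : Subgroup H) :=
        CfsgLib.PLoc.joinMaxAb_zero _
      rw [e]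
      have hle : CfsgLib.PLoc.joinMaxAb 0 (T : Subgroup H) ≤ Cfsg.pCore p H :=
        sSup_le fun A hA => CfsgLib.ThompsonJ.maxAb_le_pCore hp hcon hnice T hA
      rw [← CfsgLib.PLoc.joinMaxAb_eq_of_le (CfsgLib.Solvable.pCore_le_sylow T) hle,
        ← Subgroup.normalizer_eq_top_iff, eq_top_iff]
      haveI := CfsgLib.Solvable.pCore_normal p H
      exact (Subgroup.normalizer_eq_top_iff.2 (inferInstance : (Cfsg.pCore p H).Normal)).ge.trans
        (CfsgLib.PLoc.normalizer_le_normalizer_joinMaxAb 0 _)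
    refine CfsgLib.ConjFunctor.pComplement_reduce (isCharPFunctor_thompsonA p) hin G
      CfsgLib.ConjFunctor.isSec_self S ?_
    refine CfsgLib.ConjFunctor.hasNormalPComplement_normalizer_of_centralizing S
      (Cfsg.thompsonSubgroupAOf (S : Subgroup G)) ?_ ?_ h
    · rw [hT]
      exact Subgroup.le_normalizer.trans (CfsgLib.PLoc.normalizer_le_normalizer_joinMaxAb 0 _)
    · intro x hx
      rw [hT] at hx ⊢
      obtain ⟨A, hA⟩ := CfsgLib.PLoc.exists_isMaxAb 0 (S : Subgroup G)
      refine CfsgLib.PLoc.le_joinMaxAb hA (CfsgLib.PLoc.mem_of_commute hA hx.1 (pow_zero _) fun a ha => ?_)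
      exact hx.2 a (CfsgLib.PLoc.le_joinMaxAb hA ha)

end Cfsg.Agent.S3070
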