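import Cfsg.Statements.S3072
import Cfsg.Agent.Lib.LocEven.StrongAlperin

set_option autoImplicit false
open Cfsg

namespace Cfsg.Agent.S3072

theorem exists_list {G : Type*} [Group G] {p : ℕ} {S D : Subgroup G} {Z : G}
    (h : CfsgLib.LocEven.StrongAlperin.SC p S D Z) :
    ∃ (n : ℕ) (H : Fin n → Subgroup G) (x : Fin n → G), Z = (List.ofFn x).prod ∧ ∀ i : Fin n,
      CfsgLib.LocEven.StrongAlperin.Fam p S (H i) ∧ x i ∈ CfsgLib.LocEven.StrongAlperin.stepGroup p (H i) ∧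
        ∀ d ∈ D, (((List.ofFn x).take i.val).prod)⁻¹ * d * ((List.ofFn x).take i.val).prod ∈ H i := by
  induction h with
  | nil D => exact ⟨0, Fin.elim0, Fin.elim0, by simp, fun i => i.elim0⟩
  | cons D U x Z hDU hU hx _ ih =>
    obtain ⟨n, H, xs, rfl, hi⟩ := ih
    refine ⟨n + 1, Fin.cons U H, Fin.cons x xs, by simp [List.ofFn_succ], fun i => ?_⟩
    refine Fin.cases ?_ (fun j => ?_) i
    · exact ⟨hU, hx, fun d hd => by simpa using hDU hd⟩
    · obtain ⟨h1, h2, h3⟩ := hi j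
      refine ⟨by simpa using h1, by simpa using h2, fun d hd => ?_⟩
      have h4 := h3 (x⁻¹ * d * x) (CfsgLib.ConjFunctor.mem_cj.2 (by simpa [mul_assoc] using hd))
      simpa [List.ofFn_succ, List.take_succ_cons, mul_assoc] using h4

/-- A strong form of the Alperin–Goldschmidt fusion Theorem. Let P be a Sylow p-subgroup of the finite group G, A a subset of P containing a nonidentity element, and g an element with g⁻¹Ag ⊆ P. Then g = c·x₁⋯xₙ·y with c ∈ C_G(A), y ∈ N_G(P) and, for each i, an element xᵢ and a subgroup Hᵢ ≤ P such that: N_P(Hᵢ) is a Sylow p-subgroup of N_G(Hᵢ); C_P(Hᵢ) ≤ Hᵢ; O_{p',p}(N_G(Hᵢ)) = Hᵢ·C_G(Hᵢ); the Sylow p-subgroups of N_G(Hᵢ)/Hᵢ are not chain-connected through nontrivial intersections (the quotient has a strongly p-embedded subgroup); xᵢ lies in O^p(Xᵢ), where Xᵢ/Hᵢ is the smallest normal subgroup of N_G(Hᵢ)/Hᵢ of order divisible by p; and (x₁⋯xᵢ₋₁)⁻¹A(x₁⋯xᵢ₋₁) ⊆ Hᵢ. -/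
theorem result {G : Type*} [Group G] [Finite G] {p : ℕ} [Fact p.Prime]
    (P : Sylow p G) (A : Set G) (hA : A ⊆ (P : Set G)) (hA1 : ∃ a ∈ A, a ≠ 1)
    (g : G) (hAg : (fun a => g⁻¹ * a * g) '' A ⊆ (P : Set G)) :
    ∃ (n : ℕ) (H X : Fin n → Subgroup G) (x : Fin n → G) (c y : G),
      c ∈ Subgroup.centralizer A ∧ y ∈ Subgroup.normalizer ((P : Subgroup G) : Set G) ∧
      g = c * (List.ofFn x).prod * y ∧
      ∀ i : Fin n,
        H i ≤ (P : Subgroup G) ∧
        ¬ p ∣ ((P : Subgroup G) ⊓ Subgroup.normalizer (H i : Set G)).relIndex (Subgroup.normalizer (H i : Set G)) ∧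
        (P : Subgroup G) ⊓ Subgroup.centralizer (H i : Set G) ≤ H i ∧
        (Cfsg.pPrimePCore p ↥(Subgroup.normalizer (H i : Set G))).map (Subgroup.normalizer (H i : Set G)).subtype =
          H i ⊔ Subgroup.centralizer (H i : Set G) ∧
        ¬ Cfsg.IsSylowChainConnected p
            (↥(Subgroup.normalizer (H i : Set G)) ⧸ (H i).subgroupOf (Subgroup.normalizer (H i : Set G))) ∧
        (H i ≤ X i ∧ X i ≤ Subgroup.normalizer (H i : Set G) ∧
          ((X i).subgroupOf (Subgroup.normalizer (H i : Set G))).Normal ∧ p ∣ (H i).relIndex (X i) ∧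
          ∀ Y : Subgroup G, H i ≤ Y → Y ≤ Subgroup.normalizer (H i : Set G) →
            (Y.subgroupOf (Subgroup.normalizer (H i : Set G))).Normal → p ∣ (H i).relIndex Y → X i ≤ Y) ∧
        x i ∈ (Cfsg.pResidual p ↥(X i)).map (X i).subtype ∧
        (fun a => (((List.ofFn x).take i.val).prod)⁻¹ * a * ((List.ofFn x).take i.val).prod) '' A ⊆ (H i : Set G) := by
  classical
  obtain ⟨Z₀, hgood⟩ : ∃ Z : Subgroup G, Z = Subgroup.closure A ∧
      CfsgLib.LocEven.StrongAlperin.SGood p (P : Subgroup G) Z g := by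
    refine ⟨_, rfl, CfsgLib.LocEven.StrongAlperin.sgood_all P _ g ((Subgroup.closure_le _).2 hA) ?_⟩
    rw [← CfsgLib.ConjFunctor.image_subset_iff]
    simpa [inv_inv] using hAg
  obtain ⟨rfl, c, hc, Z, hZ, y, hy, hg⟩ := hgood
  obtain ⟨n, H, x, rfl, hi⟩ := exists_list hZ
  choose X hX hmin using fun i => CfsgLib.LocEven.StrongAlperin.exists_least_over P (hi i).1
  refine ⟨n, H, X, x, c, y, Subgroup.centralizer_le Subgroup.subset_closure hc, hy, hg, fun i => ?_⟩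
  obtain ⟨hF, hx, hd⟩ := hi i
  obtain ⟨hC, hL⟩ := CfsgLib.LocEven.StrongAlperin.fam_props P hF
  have hXi := hX i
  haveI : ((H i).subgroupOf (Subgroup.normalizer (H i : Set G))).Normal := Subgroup.normal_in_normalizer
  obtain ⟨K, hK, hpK, hse⟩ := CfsgLib.LocEven.StrongAlperin.exists_classicalSE P hF _ rfl
  refine ⟨hF.1.le, hF.2.1.2.not_dvd, hC, hL,
    CfsgLib.LocEven.StrongAlperin.not_connected_of_classicalSE hse hK hpK,
    ⟨hXi.1, hXi.2.1, (Subgroup.normal_subgroupOf_iff_le_normalizer hXi.2.1).2 hXi.2.2.1, hXi.2.2.2,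
      fun Y h1 h2 h3 h4 => hmin i Y ⟨h1, h2, (Subgroup.normal_subgroupOf_iff_le_normalizer h2).1 h3, h4⟩⟩,
    ?_, ?_⟩
  · rw [CfsgLib.LocEven.StrongAlperin.stepGroup_eq hXi (hmin i)] at hx
    refine (Subgroup.closure_le _).2 ?_ hx
    rintro z ⟨hz, hzo⟩
    exact ⟨⟨z, hz⟩, Subgroup.subset_closure (by rwa [Set.mem_setOf_eq, Subgroup.orderOf_mk]), rfl⟩
  · rintro _ ⟨a, ha, rfl⟩
    exact hd a (Subgroup.subset_closure ha)

end Cfsg.Agent.S3072
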