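import Cfsg.Statements.S3074
import Cfsg.Agent.Lib.Qd.Basic
import Cfsg.Agent.Lib.Fusion.GlaubermanThompson
-- import your own Cfsg.Agent.* helpers here

set_option autoImplicit false
open Cfsg

namespace Cfsg.Agent.S3074

open CfsgLib.Qd
open scoped commutatorElement

variable {p : ℕ}

/-- A unitriangular element. -/
def u3 (s x y : ZMod p) : ↥(Cfsg.qd p) := mk 1 s 0 1 x y (by simp)

theorem u3_mul (s x y s' x' y' : ZMod p) :
    u3 s x y * u3 s' x' y' = u3 (s + s') (x + x' + s * y') (y + y') := by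
  rw [u3, u3, u3, mk_mul, mk_inj]
  exact ⟨by ring, by ring, by ring, by ring, by ring, by ring⟩

theorem u3_inj {s x y s' x' y' : ZMod p} : u3 s x y = u3 s' x' y' ↔ s = s' ∧ x = x' ∧ y = y' := by
  rw [u3, u3, mk_inj]
  exact ⟨fun h => ⟨h.2.1, h.2.2.2.2.1, h.2.2.2.2.2⟩, fun h => ⟨rfl, h.1, rfl, rfl, h.2.1, h.2.2⟩⟩

theorem u3_zero : u3 (p := p) 0 0 0 = 1 := mk_one

theorem u3_inv (s x y : ZMod p) : (u3 s x y)⁻¹ = u3 (-s) (-x + s * y) (-y) :=
  inv_eq_of_mul_eq_one_right (by
    rw [u3_mul, ← u3_zero, u3_inj]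
    exact ⟨by ring, by ring, by ring⟩)

/-- The upper unitriangular affine maps. -/
def upper (p : ℕ) : Subgroup ↥(Cfsg.qd p) where
  carrier := {g | ∃ s x y, g = u3 s x y}
  one_mem' := ⟨0, 0, 0, u3_zero.symm⟩
  mul_mem' := by rintro _ _ ⟨s, x, y, rfl⟩ ⟨s', x', y', rfl⟩; exact ⟨_, _, _, u3_mul ..⟩
  inv_mem' := by rintro _ ⟨s, x, y, rfl⟩; exact ⟨_, _, _, u3_inv ..⟩

theorem card_upper (p : ℕ) [NeZero p] : Nat.card ↥(upper p) = p ^ 3 := by
  let f : ZMod p × ZMod p × ZMod p → ↥(upper p) := fun v => ⟨u3 v.1 v.2.1 v.2.2, _, _, _, rfl⟩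
  have hf : Function.Bijective f := by
    refine ⟨fun v w h => ?_, ?_⟩
    · obtain ⟨a, b, c⟩ := u3_inj.1 (congrArg Subtype.val h)
      exact Prod.ext a (Prod.ext b c)
    · rintro ⟨_, s, x, y, rfl⟩; exact ⟨(s, x, y), rfl⟩
  rw [← Nat.card_congr (Equiv.ofBijective f hf), Nat.card_prod, Nat.card_prod, Nat.card_zmod]
  ring

theorem mk_pow_triangular {a b d x y : ZMod p} {h} (n : ℕ) :
    ∃ b' x' y' h', (mk a b 0 d x y h : ↥(Cfsg.qd p)) ^ n = mk (a ^ n) b' 0 (d ^ n) x' y' h' := by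
  induction n with
  | zero => exact ⟨0, 0, 0, by simp, by rw [pow_zero, ← mk_one]; exact mk_eq (by simp) rfl rfl (by simp) rfl rfl⟩
  | succ n ih =>
    obtain ⟨b', x', y', h', e⟩ := ih
    refine ⟨a ^ n * b + b' * d, a ^ n * x + b' * y + x', d ^ n * y + y', ?_, ?_⟩
    · have e1 : a * d = 1 := by simpa using h
      rw [pow_succ, pow_succ]
      linear_combination (a ^ n * d ^ n) * e1 + h'
    · rw [pow_succ, e, mk_mul, mk_inj]
      exact ⟨by ring, by ring, by ring, by ring, by ring, by ring⟩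

theorem isPGroup_upper (p : ℕ) [Fact p.Prime] : IsPGroup p ↥(upper p) := IsPGroup.of_card (card_upper p)

theorem eq_upper_of_le [Fact p.Prime] {V : Subgroup ↥(Cfsg.qd p)} (hV : IsPGroup p V)
    (hle : upper p ≤ V) : V = upper p := by
  refine le_antisymm ?_ hle
  by_contra hne
  haveI : Group.IsNilpotent V := hV.isNilpotent
  have hlt : (upper p).subgroupOf V < ⊤ := by
    rw [lt_top_iff_ne_top, Ne, Subgroup.subgroupOf_eq_top]
    exact hne
  obtain ⟨g, hgN, hg⟩ := SetLike.exists_of_lt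
    (Group.normalizerCondition_of_isNilpotent (G := V) _ hlt)
  obtain ⟨a, b, c, d, x, y, h, hgeq⟩ := exists_eq_mk (g : ↥(Cfsg.qd p))
  have hu : (⟨u3 1 0 0, hle (show u3 (p := p) 1 0 0 ∈ upper p from ⟨1, 0, 0, rfl⟩)⟩ : V) ∈ (upper p).subgroupOf V :=
    Subgroup.mem_subgroupOf.2 ⟨1, 0, 0, rfl⟩
  obtain ⟨s, x', y', hw⟩ := (Subgroup.mem_normalizer_iff.1 hgN _).1 hu
  simp only [Subgroup.subtype_apply, Subgroup.coe_mul, Subgroup.coe_inv] at hw
  rw [hgeq, mul_inv_eq_iff_eq_mul, u3, u3, mk_mul, mk_mul, mk_inj] at hw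
  obtain ⟨h1, h2, h3, h4, -, -⟩ := hw
  have hc : c = 0 := by linear_combination h4
  subst hc
  obtain ⟨j, hj⟩ := hV g
  obtain ⟨b', x'', y'', h', e⟩ := mk_pow_triangular (a := a) (b := b) (d := d) (x := x) (y := y) (h := h) (p ^ j)
  have hgpow : (g : ↥(Cfsg.qd p)) ^ p ^ j = 1 := congrArg Subtype.val hj
  rw [hgeq, e, ← mk_one, mk_inj, ZMod.pow_card_pow, ZMod.pow_card_pow] at hgpow
  apply hg
  rw [Subgroup.mem_subgroupOf, hgeq]
  refine ⟨b, x, y, ?_⟩
  rw [u3, mk_inj]
  exact ⟨hgpow.1, rfl, rfl, hgpow.2.2.2.1, rfl, rfl⟩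

theorem u3_commutator (s x y s' x' y' : ZMod p) :
    ⁅u3 s x y, u3 s' x' y'⁆ = u3 0 (s * y' - s' * y) 0 := by
  rw [commutatorElement_def, u3_inv, u3_inv, u3_mul, u3_mul, u3_mul, u3_inj]
  exact ⟨by ring, by ring, by ring⟩

theorem u3_pow (s x y : ZMod p) (n : ℕ) :
    u3 s x y ^ n = u3 ((n : ZMod p) * s) ((n : ZMod p) * x + (n.choose 2 : ZMod p) * (s * y)) ((n : ZMod p) * y) := by
  induction n with
  | zero => simp [u3_zero]
  | succ n ih =>
    rw [pow_succ, ih, u3_mul, u3_inj]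
    refine ⟨by push_cast; ring, ?_, by push_cast; ring⟩
    rw [Nat.choose_succ_succ' n 1, Nat.choose_one_right]
    push_cast
    ring

theorem upper_props [hp : Fact p.Prime] (hp2 : p ≠ 2) :
    Cfsg.IsExtraspecial p ↥(upper p) ∧ Monoid.exponent ↥(upper p) = p := by
  haveI : NeZero p := ⟨hp.out.ne_zero⟩
  have hP := isPGroup_upper p
  let el : ZMod p → ZMod p → ZMod p → ↥(upper p) := fun s x y => ⟨u3 s x y, _, _, _, rfl⟩
  have hsurj : ∀ g : ↥(upper p), ∃ s x y, g = el s x y := by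
    rintro ⟨_, s, x, y, rfl⟩; exact ⟨s, x, y, rfl⟩
  have helinj : ∀ {s x y s' x' y'}, el s x y = el s' x' y' → s = s' ∧ x = x' ∧ y = y' :=
    fun h => u3_inj.1 (congrArg Subtype.val h)
  have hcomm : ∀ s x y s' x' y', ⁅el s x y, el s' x' y'⁆ = el 0 (s * y' - s' * y) 0 := fun s x y s' x' y' =>
    Subtype.ext (u3_commutator s x y s' x' y')
  have hone : el 0 0 0 = 1 := Subtype.ext u3_zero
  have hcen : ∀ g, g ∈ Subgroup.center ↥(upper p) ↔ ∃ x, g = el 0 x 0 := by
    intro g
    obtain ⟨s, x, y, rfl⟩ := hsurj g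
    constructor
    · intro h
      have h1 := commutatorElement_eq_one_iff_mul_comm.2 (Subgroup.mem_center_iff.1 h (el 1 0 0))
      have h2 := commutatorElement_eq_one_iff_mul_comm.2 (Subgroup.mem_center_iff.1 h (el 0 0 1))
      rw [hcomm, ← hone] at h1 h2
      obtain ⟨-, h1, -⟩ := helinj h1
      obtain ⟨-, h2, -⟩ := helinj h2
      refine ⟨x, ?_⟩
      rw [show s = 0 by linear_combination (-1 : ZMod p) * h2, show y = 0 by linear_combination h1]
    · rintro ⟨x', h⟩
      obtain ⟨rfl, -, rfl⟩ := helinj h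
      refine Subgroup.mem_center_iff.2 fun k => commutatorElement_eq_one_iff_mul_comm.1 ?_
      obtain ⟨a, b, c, rfl⟩ := hsurj k
      rw [hcomm, ← hone]
      congr 1; ring
  have hder : commutator ↥(upper p) = Subgroup.center ↥(upper p) := by
    refine le_antisymm ?_ ?_
    · rw [commutator_def, Subgroup.commutator_le]
      intro g _ k _
      obtain ⟨s, x, y, rfl⟩ := hsurj g
      obtain ⟨s', x', y', rfl⟩ := hsurj k
      exact (hcen _).2 ⟨_, hcomm s x y s' x' y'⟩
    · intro g hg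
      obtain ⟨x, rfl⟩ := (hcen g).1 hg
      have h := Subgroup.commutator_mem_commutator (Subgroup.mem_top (el x 0 0)) (Subgroup.mem_top (el 0 0 1))
      rw [hcomm, mul_one, zero_mul, sub_zero, ← commutator_def] at h
      exact h
  have hcard : Nat.card ↥(Subgroup.center ↥(upper p)) = p := by
    let f : ZMod p → ↥(Subgroup.center ↥(upper p)) := fun x => ⟨el 0 x 0, (hcen _).2 ⟨x, rfl⟩⟩
    have hf : Function.Bijective f := by
      refine ⟨fun v w h => (helinj (congrArg Subtype.val h)).2.1, fun g => ?_⟩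
      obtain ⟨x, hx⟩ := (hcen _).1 g.2
      exact ⟨x, Subtype.ext hx.symm⟩
    rw [← Nat.card_congr (Equiv.ofBijective f hf), Nat.card_zmod]
  have hexp : Monoid.exponent ↥(upper p) = p := by
    refine (hp.out.eq_one_or_self_of_dvd _ (Monoid.exponent_dvd_of_forall_pow_eq_one fun g => ?_)).resolve_left ?_
    · obtain ⟨s, x, y, rfl⟩ := hsurj g
      refine Subtype.ext ?_
      have h2 : ((p.choose 2 : ℕ) : ZMod p) = 0 := by
        rw [ZMod.natCast_eq_zero_iff]
        exact hp.out.dvd_choose_self two_ne_zero (lt_of_le_of_ne hp.out.two_le hp2.symm)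
      rw [Subgroup.coe_pow, Subgroup.coe_one, ← u3_zero]
      show u3 s x y ^ p = _
      rw [u3_pow, u3_inj, h2, ZMod.natCast_self]
      simp
    · intro h
      rw [Monoid.exp_eq_one_iff] at h
      have h1 := helinj (Subsingleton.elim (el 0 1 0) (el 0 0 0))
      exact one_ne_zero h1.2.1
  refine ⟨⟨⟨hP, le_antisymm ?_ ?_, hder⟩, hcard⟩, hexp⟩
  · -- two maximal subgroups meet in the centre
    let φ₁ : ↥(upper p) →* Multiplicative (ZMod p) :=
      MonoidHom.mk' (fun g => Multiplicative.ofAdd ((g : ↥(Cfsg.qd p)).1.1 0 1)) fun g k => by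
        obtain ⟨s, x, y, rfl⟩ := hsurj g
        obtain ⟨s', x', y', rfl⟩ := hsurj k
        rw [← ofAdd_add]
        show Multiplicative.ofAdd ((u3 s x y * u3 s' x' y').1.1 0 1) = _
        rw [u3_mul]
        rfl
    let φ₂ : ↥(upper p) →* Multiplicative (ZMod p) :=
      MonoidHom.mk' (fun g => Multiplicative.ofAdd ((g : ↥(Cfsg.qd p)).1.1 1 2)) fun g k => by
        obtain ⟨s, x, y, rfl⟩ := hsurj g
        obtain ⟨s', x', y', rfl⟩ := hsurj k
        rw [← ofAdd_add]
        show Multiplicative.ofAdd ((u3 s x y * u3 s' x' y').1.1 1 2) = _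
        rw [u3_mul]
        rfl
    have hco : ∀ φ : ↥(upper p) →* Multiplicative (ZMod p), Function.Surjective φ →
        frattini ↥(upper p) ≤ φ.ker := by
      intro φ hφ
      refine frattini_le_coatom ⟨fun h => ?_, fun K hK => ?_⟩
      · obtain ⟨k, hk⟩ := hφ (Multiplicative.ofAdd 1)
        rw [show φ k = 1 from MonoidHom.mem_ker.1 (h.symm ▸ Subgroup.mem_top k)] at hk
        exact one_ne_zero (congrArg Multiplicative.toAdd hk).symm
      · have hidx : φ.ker.index = p := by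
          rw [Subgroup.index_ker, MonoidHom.range_eq_top.2 hφ, Subgroup.card_top,
            Nat.card_congr Multiplicative.toAdd, Nat.card_zmod]
        have h1 := Subgroup.relIndex_mul_index hK.le
        rw [hidx] at h1
        rcases hp.out.eq_one_or_self_of_dvd _ (Dvd.intro_left _ h1 : K.index ∣ p) with h2 | h2
        · exact Subgroup.index_eq_one.1 h2
        · exfalso
          rw [h2, mul_eq_right₀ hp.out.ne_zero, Subgroup.relIndex_eq_one] at h1
          exact hK.not_ge h1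
    intro g hg
    have h1 := hco φ₁ (fun v => ⟨el v.toAdd 0 0, rfl⟩) hg
    have h2 := hco φ₂ (fun v => ⟨el 0 0 v.toAdd, rfl⟩) hg
    obtain ⟨s, x, y, rfl⟩ := hsurj g
    have hs : s = 0 := congrArg Multiplicative.toAdd h1
    have hy : y = 0 := congrArg Multiplicative.toAdd h2
    subst hs hy
    exact (hcen _).2 ⟨x, rfl⟩
  · rw [← hder, commutator_def, Subgroup.commutator_le]
    exact fun g _ k _ => CfsgLib.PGroup.commutator_le_frattini hP
      (CfsgLib.PGroup.commutatorElement_mem_commutator' _ _)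

theorem isExtraspecial_of_mulEquiv {A B : Type*} [Group A] [Group B] (e : A ≃* B)
    (h : Cfsg.IsExtraspecial p A) : Cfsg.IsExtraspecial p B := by
  obtain ⟨⟨hP, hF, hD⟩, hc⟩ := h
  have hcen : (Subgroup.center A).map e.toMonoidHom = Subgroup.center B := by
    ext b
    rw [Subgroup.mem_map_equiv, Subgroup.mem_center_iff, Subgroup.mem_center_iff]
    refine ⟨fun h k => e.symm.injective ?_, fun h k => e.injective ?_⟩
    · rw [map_mul, map_mul]; exact h _
    · rw [map_mul, map_mul, e.apply_symm_apply]; exact h _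
  refine ⟨⟨hP.of_equiv e, ?_, ?_⟩, ?_⟩
  · rw [← hcen, ← hF]
    exact (e.mapSubgroup.map_radical).symm
  · rw [← hcen, ← hD, commutator_def, commutator_def, Subgroup.map_commutator,
      ← MonoidHom.range_eq_map, MonoidHom.range_eq_top.2 e.surjective]
  · rw [← hcen, Subgroup.card_map_of_injective e.injective, hc]


/-- Let p be an odd prime. A Sylow p-subgroup of Qd(p), the split extension of an elementary abelian group of order p² by SL₂(p) acting naturally, is extraspecial of order p³ and exponent p. -/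
theorem result (p : ℕ) [Fact p.Prime] (hp : p ≠ 2) (P : Sylow p ↥(Cfsg.qd p)) :
    Cfsg.IsExtraspecial p ↥P ∧ Nat.card P = p ^ 3 ∧ Monoid.exponent ↥P = p := by
  let U : Sylow p ↥(Cfsg.qd p) :=
    ⟨upper p, isPGroup_upper p, fun hV hle => eq_upper_of_le hV hle⟩
  obtain ⟨hE, hexp⟩ := upper_props (p := p) hp
  have e : ↥(upper p) ≃* ↥P := (Sylow.equiv U P)
  haveI : NeZero p := ⟨(Fact.out : p.Prime).ne_zero⟩
  exact ⟨isExtraspecial_of_mulEquiv e hE, (Nat.card_congr e.toEquiv).symm.trans (card_upper p),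
    by rw [← Monoid.exponent_eq_of_mulEquiv e, hexp]⟩

end Cfsg.Agent.S3074
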