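import Cfsg.Statements.S3075
import Cfsg.Agent.Lib.LocEven.Replacement
import Mathlib.FieldTheory.Finite.Basic

set_option autoImplicit false
open Cfsg

namespace Cfsg.Agent.S3075

/-- Let p be an odd prime and N a finite group with a normal elementary abelian subgroup A of order p² that is its own centralizer in N, such that N/A is isomorphic to SL₂(p) (over any field F with p elements). Then N splits over A: some subgroup U of N satisfies A ∩ U = 1 and AU = N. -/
theorem result {N : Type*} [Group N] [Finite N] {p : ℕ} [Fact p.Prime] (hp : p ≠ 2)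
    (A : Subgroup N) [A.Normal] (hAcomm : IsMulCommutative A) (hAcard : Nat.card A = p ^ 2) (hAexp : Monoid.exponent ↥A = p)
    (hAself : Subgroup.centralizer (A : Set N) = A)
    {F : Type*} [Field F] [Fintype F] (hF : Fintype.card F = p) (e : N ⧸ A ≃* Matrix.SpecialLinearGroup (Fin 2) F) :
    ∃ U : Subgroup N, A ⊓ U = ⊥ ∧ A ⊔ U = ⊤ := by
  classical
  have hpr : p.Prime := Fact.out
  have hodd : Odd p := hpr.odd_of_ne_two hp
  obtain ⟨k, hk⟩ := hodd
  have hFp : (p : F) = 0 := hF ▸ FiniteField.cast_card_eq_zero F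
  have h2F : (2 : F) ≠ 0 := by
    intro h
    have h' : (p : F) = 1 := by
      rw [hk]; push_cast; rw [h, zero_mul, zero_add]
    exact one_ne_zero (h'.symm.trans hFp)
  have hAp : ∀ a ∈ A, a ^ p = 1 := by
    intro a ha
    have := congrArg Subtype.val (Monoid.pow_exponent_eq_one (⟨a, ha⟩ : A))
    rwa [hAexp] at this
  have hcomm : ∀ {a b : N}, a ∈ A → b ∈ A → a * b = b * a :=
    fun ha hb => CfsgLib.LocEven.commute_of_comm hAcomm ha hb
  have hAn : A.Normal := inferInstance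
  -- a lift `t` of `-1` of order two
  obtain ⟨t₀, ht₀⟩ := QuotientGroup.mk_surjective (e.symm (-1))
  let t := t₀ ^ p
  have hm1 : (-1 : Matrix.SpecialLinearGroup (Fin 2) F) ≠ 1 := by
    intro h
    have h' := congrArg (fun M : Matrix.SpecialLinearGroup (Fin 2) F => (M : Matrix (Fin 2) (Fin 2) F) 0 0) h
    simp at h'
    apply h2F
    linear_combination -h'
  have ht : (t : N ⧸ A) = e.symm (-1) := by
    have h1 : ((t₀ ^ p : N) : N ⧸ A) = (e.symm (-1)) ^ p := by rw [← ht₀]; rfl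
    rw [h1, ← map_pow, Odd.neg_one_pow ⟨k, hk⟩]
  have htA : t ∉ A := by
    intro h
    rw [← QuotientGroup.eq_one_iff, ht] at h
    exact hm1 (by simpa using congrArg e h)
  have htt : t * t = 1 := by
    have h2 : t₀ * t₀ ∈ A := by
      rw [← QuotientGroup.eq_one_iff]
      show (t₀ : N ⧸ A) * (t₀ : N ⧸ A) = 1
      rw [ht₀, ← map_mul, neg_one_mul, neg_neg, map_one]
    calc t * t = (t₀ * t₀) ^ p := by simp only [t]; rw [← pow_add, ← pow_two, ← pow_mul]; ring_nf
      _ = 1 := hAp _ h2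
  have htinv : t⁻¹ = t := inv_eq_of_mul_eq_one_right htt
  -- conjugates of `t`
  have htconj : ∀ n : N, ∃ a ∈ A, n * t * n⁻¹ = t * a := by
    intro n
    refine ⟨t⁻¹ * (n * t * n⁻¹), ?_, by group⟩
    rw [← QuotientGroup.eq]
    show ((t : N ⧸ A)) = (n : N ⧸ A) * (t : N ⧸ A) * (n : N ⧸ A)⁻¹
    rw [ht]
    apply e.injective
    simp only [map_mul, map_inv, MulEquiv.apply_symm_apply]
    rw [mul_neg, mul_one, neg_mul, mul_inv_cancel]
  let θ : N → N := fun a => t * a * t
  have hθmul : ∀ a b, θ (a * b) = θ a * θ b := fun a b => by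
    simp only [θ]
    calc t * (a * b) * t = t * a * 1 * b * t := by group
      _ = t * a * (t * t) * b * t := by rw [htt]
      _ = t * a * t * (t * b * t) := by group
  have hθA : ∀ a ∈ A, θ a ∈ A := fun a ha => by
    have := hAn.conj_mem a ha t
    rwa [htinv] at this
  have hθinv : ∀ a, θ a⁻¹ = (θ a)⁻¹ := fun a => by
    refine eq_inv_of_mul_eq_one_left ?_
    rw [← hθmul, inv_mul_cancel]
    simp [θ, htt]
  have hθconj : ∀ n a, a ∈ A → θ (n * a * n⁻¹) = n * θ a * n⁻¹ := by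
    intro n a ha
    obtain ⟨c, hc, hct⟩ := htconj n⁻¹
    have e1 : n⁻¹ * t * n = t * c := by simpa using hct
    have e2 : θ (n * a * n⁻¹) = n * ((n⁻¹ * t * n) * a * (n⁻¹ * t * n)⁻¹) * n⁻¹ := by
      simp only [θ]
      have : (n⁻¹ * t * n)⁻¹ = n⁻¹ * t * n := by rw [mul_inv_rev, mul_inv_rev, htinv]; group
      rw [this]; group
    rw [e2, e1]
    simp only [θ]
    congr 2
    calc t * c * a * (t * c)⁻¹ = t * (c * a) * c⁻¹ * t⁻¹ := by group
      _ = t * (a * c) * c⁻¹ * t⁻¹ := by rw [hcomm hc ha]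
      _ = t * a * t := by rw [htinv]; group
  let L₁ : Subgroup N :=
    { carrier := {a | a ∈ A ∧ θ a = a}
      mul_mem' := fun {a b} ha hb => ⟨mul_mem ha.1 hb.1, by rw [hθmul, ha.2, hb.2]⟩
      one_mem' := ⟨one_mem _, by simp [θ, htt]⟩
      inv_mem' := fun {a} ha => ⟨inv_mem ha.1, by rw [hθinv, ha.2]⟩ }
  let L₂ : Subgroup N :=
    { carrier := {a | a ∈ A ∧ θ a = a⁻¹}
      mul_mem' := fun {a b} ha hb => ⟨mul_mem ha.1 hb.1, by
        rw [hθmul, ha.2, hb.2, ← mul_inv_rev, hcomm hb.1 ha.1]⟩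
      one_mem' := ⟨one_mem _, by simp [θ, htt]⟩
      inv_mem' := fun {a} ha => ⟨inv_mem ha.1, by rw [hθinv, ha.2]⟩ }
  have hdec : ∀ a ∈ A, ∃ u ∈ L₁, ∃ v ∈ L₂, a = u * v := by
    intro a ha
    refine ⟨(a * θ a) ^ (k + 1), pow_mem (show a * θ a ∈ L₁ from ⟨mul_mem ha (hθA a ha), ?_⟩) _,
      (a * (θ a)⁻¹) ^ (k + 1),
      pow_mem (show a * (θ a)⁻¹ ∈ L₂ from ⟨mul_mem ha (inv_mem (hθA a ha)), ?_⟩) _, ?_⟩
    · rw [hθmul]
      have : θ (θ a) = a := by
        simp only [θ]
        calc t * (t * a * t) * t = (t * t) * a * (t * t) := by group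
          _ = a := by rw [htt]; group
      rw [this, hcomm ha (hθA a ha)]
    · rw [hθmul, hθinv]
      have : θ (θ a) = a := by
        simp only [θ]
        calc t * (t * a * t) * t = (t * t) * a * (t * t) := by group
          _ = a := by rw [htt]; group
      rw [this, mul_inv_rev, inv_inv]
    · have hc1 : Commute (a * θ a) (a * (θ a)⁻¹) :=
        hcomm (mul_mem ha (hθA a ha)) (mul_mem ha (inv_mem (hθA a ha)))
      rw [← hc1.mul_pow]
      have e : a * θ a * (a * (θ a)⁻¹) = a ^ 2 := by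
        calc a * θ a * (a * (θ a)⁻¹) = a * (θ a * a) * (θ a)⁻¹ := by group
          _ = a * (a * θ a) * (θ a)⁻¹ := by rw [hcomm (hθA a ha) ha]
          _ = a ^ 2 := by rw [pow_two]; group
      rw [e, ← pow_mul, show 2 * (k + 1) = p + 1 by omega, pow_succ, hAp a ha, one_mul]
  have hL1 : L₁ = ⊥ := by
    by_contra hL
    have hL2 : L₂ ≠ ⊥ := by
      intro h
      apply htA
      rw [← hAself]
      intro a ha
      obtain ⟨u, hu, v, hv, rfl⟩ := hdec a ha
      rw [h, Subgroup.mem_bot] at hv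
      subst hv
      simp only [mul_one]
      have hu' := hu.2
      simp only [θ] at hu'
      calc u * t = (t * u * t) * t := by rw [hu']
        _ = t * u * (t * t) := by group
        _ = t * u := by rw [htt, mul_one]
    have hinter : ∀ a, a ∈ L₁ → a ∈ L₂ → a = 1 := by
      intro a h1 h2
      have h : a = a⁻¹ := h1.2.symm.trans h2.2
      have h' : a ^ 2 = 1 := by
        rw [pow_two]; nth_rewrite 1 [h]; exact inv_mul_cancel a
      calc a = a ^ p := by rw [hk, pow_succ, pow_mul, h', one_pow, one_mul]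
        _ = 1 := hAp a h1.1
    have hprime : ∀ L : Subgroup N, L ≤ A → L ≠ ⊥ → L ≠ A → Nat.card L = p := by
      intro L hle h1 h2
      obtain ⟨i, hi, hi'⟩ := (Nat.dvd_prime_pow hpr).mp (hAcard ▸ Subgroup.card_dvd_of_le hle)
      interval_cases i
      · exact absurd (Subgroup.eq_bot_of_card_eq L (by simpa using hi')) h1
      · simpa using hi'
      · exact absurd (Subgroup.eq_of_le_of_card_ge hle (le_of_eq (hAcard.trans hi'.symm))) h2
    have hne1 : L₁ ≠ A := fun h => hL2 <| (Subgroup.eq_bot_iff_forall _).mpr fun a ha =>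
      hinter a (h.ge ha.1) ha
    have hne2 : L₂ ≠ A := fun h => hL <| (Subgroup.eq_bot_iff_forall _).mpr fun a ha =>
      hinter a ha (h.ge ha.1)
    have hpow : ∀ L : Subgroup N, Nat.card L = p → (∀ n a, a ∈ L → n * a * n⁻¹ ∈ L) →
        ∀ n m a, a ∈ L → n * (m * a * m⁻¹) * n⁻¹ = m * (n * a * n⁻¹) * m⁻¹ := by
      intro L hL' hLn n m a ha
      haveI : IsCyclic L := isCyclic_of_prime_card hL'
      obtain ⟨g, hg⟩ := IsCyclic.exists_generator (α := L)
      obtain ⟨i, hi⟩ := Subgroup.mem_zpowers_iff.mp (hg ⟨_, hLn n g g.2⟩)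
      obtain ⟨j, hj⟩ := Subgroup.mem_zpowers_iff.mp (hg ⟨_, hLn m g g.2⟩)
      obtain ⟨l, hl⟩ := Subgroup.mem_zpowers_iff.mp (hg ⟨a, ha⟩)
      have hi' : n * (g : N) * n⁻¹ = (g : N) ^ i := (congrArg Subtype.val hi).symm
      have hj' : m * (g : N) * m⁻¹ = (g : N) ^ j := (congrArg Subtype.val hj).symm
      have hl' : a = (g : N) ^ l := (congrArg Subtype.val hl).symm
      have hn : ∀ z : ℤ, n * (g : N) ^ z * n⁻¹ = (g : N) ^ (i * z) := fun z => by
        rw [← conj_zpow, hi', ← zpow_mul]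
      have hm : ∀ z : ℤ, m * (g : N) ^ z * m⁻¹ = (g : N) ^ (j * z) := fun z => by
        rw [← conj_zpow, hj', ← zpow_mul]
      rw [hl', hm, hn, hn, hm]
      congr 1
      ring
    have hab : ∀ n m : N, n⁻¹ * m⁻¹ * (n * m) ∈ A := by
      intro n m
      rw [← hAself]
      intro a ha
      obtain ⟨u, hu, v, hv, rfl⟩ := hdec a ha
      have h1 := hpow L₁ (hprime L₁ (fun x hx => hx.1) hL hne1)
        (fun n a ha => ⟨hAn.conj_mem a ha.1 n, by rw [hθconj n a ha.1, ha.2]⟩) n m u hu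
      have h2 := hpow L₂ (hprime L₂ (fun x hx => hx.1) hL2 hne2)
        (fun n a ha => ⟨hAn.conj_mem a ha.1 n, by
          rw [hθconj n a ha.1, ha.2]; group⟩) n m v hv
      have h : (n * m) * (u * v) * (n * m)⁻¹ = (m * n) * (u * v) * (m * n)⁻¹ := by
        calc (n * m) * (u * v) * (n * m)⁻¹
            = (n * (m * u * m⁻¹) * n⁻¹) * (n * (m * v * m⁻¹) * n⁻¹) := by group
          _ = (m * (n * u * n⁻¹) * m⁻¹) * (m * (n * v * n⁻¹) * m⁻¹) := by rw [h1, h2]
          _ = (m * n) * (u * v) * (m * n)⁻¹ := by group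
      calc (u * v) * (n⁻¹ * m⁻¹ * (n * m))
          = n⁻¹ * m⁻¹ * ((m * n) * (u * v) * (m * n)⁻¹) * (n * m) := by group
        _ = n⁻¹ * m⁻¹ * ((n * m) * (u * v) * (n * m)⁻¹) * (n * m) := by rw [h]
        _ = n⁻¹ * m⁻¹ * (n * m) * (u * v) := by group
    -- but `SL₂` is not abelian
    let X : Matrix.SpecialLinearGroup (Fin 2) F := ⟨!![1, 1; 0, 1], by simp [Matrix.det_fin_two]⟩
    let Y : Matrix.SpecialLinearGroup (Fin 2) F := ⟨!![1, 0; 1, 1], by simp [Matrix.det_fin_two]⟩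
    obtain ⟨n, hn⟩ := QuotientGroup.mk_surjective (e.symm X)
    obtain ⟨m, hm⟩ := QuotientGroup.mk_surjective (e.symm Y)
    have hc : (m * n : N ⧸ A) = (n * m : N) := by
      have h := hab n m
      have hq : ((n⁻¹ * m⁻¹ * (n * m) : N) : N ⧸ A) = 1 := (QuotientGroup.eq_one_iff _).mpr h
      have hq' : ((m * n : N) : N ⧸ A) * ((n⁻¹ * m⁻¹ * (n * m) : N) : N ⧸ A) = ((n * m : N) : N ⧸ A) := by
        rw [← QuotientGroup.mk_mul]; congr 1; group
      rw [hq, mul_one] at hq'
      exact hq'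
    have hc' : Y * X = X * Y := by
      have := congrArg e hc
      simpa [QuotientGroup.mk_mul, hn, hm] using this
    have h00 := congrArg (fun M : Matrix.SpecialLinearGroup (Fin 2) F => (M : Matrix (Fin 2) (Fin 2) F) 0 0) hc'
    have h00' : ((Y : Matrix (Fin 2) (Fin 2) F) * (X : Matrix (Fin 2) (Fin 2) F)) 0 0 =
        ((X : Matrix (Fin 2) (Fin 2) F) * (Y : Matrix (Fin 2) (Fin 2) F)) 0 0 := h00
    rw [Matrix.mul_apply, Matrix.mul_apply, Fin.sum_univ_two, Fin.sum_univ_two] at h00'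
    have hX : (X : Matrix (Fin 2) (Fin 2) F) = !![1, 1; 0, 1] := rfl
    have hY : (Y : Matrix (Fin 2) (Fin 2) F) = !![1, 0; 1, 1] := rfl
    simp [hX, hY] at h00'
  have hinvert : ∀ a ∈ A, t * a * t = a⁻¹ := by
    intro a ha
    obtain ⟨u, hu, v, hv, rfl⟩ := hdec a ha
    rw [hL1, Subgroup.mem_bot] at hu
    subst hu
    simpa using hv.2
  refine ⟨Subgroup.centralizer ({t} : Set N), ?_, ?_⟩
  · rw [Subgroup.eq_bot_iff_forall]
    intro a ha
    obtain ⟨ha, hat⟩ := Subgroup.mem_inf.mp ha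
    have : a ∈ L₁ := ⟨ha, by
      show t * a * t = a
      rw [← Subgroup.mem_centralizer_singleton_iff.mp hat, mul_assoc, htt, mul_one]⟩
    rwa [hL1, Subgroup.mem_bot] at this
  · rw [eq_top_iff]
    intro n _
    obtain ⟨a, ha, hna⟩ := htconj n
    let b := (a ^ (k + 1))⁻¹
    have hb : b ∈ A := inv_mem (pow_mem ha _)
    have hbt : b * t * b⁻¹ = t * a := by
      have hi := hinvert b hb
      have haa : b⁻¹ * b⁻¹ = a := by
        simp only [b, inv_inv]
        rw [← pow_add, show k + 1 + (k + 1) = p + 1 by omega, pow_succ, hAp a ha, one_mul]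
      calc b * t * b⁻¹ = (t * t) * b * t * b⁻¹ := by rw [htt]; group
        _ = t * (t * b * t) * b⁻¹ := by group
        _ = t * (b⁻¹ * b⁻¹) := by rw [hi]; group
        _ = t * a := by rw [haa]
    have hmem : b⁻¹ * n ∈ Subgroup.centralizer ({t} : Set N) := by
      rw [Subgroup.mem_centralizer_singleton_iff]
      calc b⁻¹ * n * t = b⁻¹ * (n * t * n⁻¹) * n := by group
        _ = b⁻¹ * (b * t * b⁻¹) * n := by rw [hna, hbt]
        _ = t * (b⁻¹ * n) := by group
    have := mul_mem ((le_sup_left : A ≤ A ⊔ Subgroup.centralizer ({t} : Set N)) hb)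
      ((le_sup_right : Subgroup.centralizer ({t} : Set N) ≤ A ⊔ _) hmem)
    simpa using this


end Cfsg.Agent.S3075
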