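import Cfsg.Statements.S3076
import Cfsg.Agent.Lib.LocEven.SubnormalJoin
import Cfsg.Agent.Lib.Solvable.Core
import Cfsg.Agent.Lib.CharP.PCore
import Mathlib.GroupTheory.SchurZassenhaus

set_option autoImplicit false
open Cfsg

namespace Cfsg.Agent.S3076

theorem map_isPGroup_of_relIndex {N : Type*} [Group N] [Finite N] {p : ℕ} [Fact p.Prime]
    {M X : Subgroup N} [M.Normal] {k : ℕ} (h : M.relIndex X = p ^ k) :
    IsPGroup p (X.map (QuotientGroup.mk' M)) := by
  refine IsPGroup.of_card (n := k) ?_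
  rw [← Subgroup.relIndex_ker, QuotientGroup.ker_mk', h]

theorem relIndex_comap_pCore {N : Type*} [Group N] [Finite N] {p : ℕ} [Fact p.Prime]
    (M : Subgroup N) [M.Normal] :
    ∃ k, M.relIndex ((Cfsg.pCore p (N ⧸ M)).comap (QuotientGroup.mk' M)) = p ^ k := by
  obtain ⟨k, hk⟩ := (CfsgLib.Solvable.pCore_isPGroup p (N ⧸ M)).exists_card_eq
  refine ⟨k, ?_⟩
  rw [← hk]
  have := Subgroup.relIndex_ker (QuotientGroup.mk' M)
    (K := (Cfsg.pCore p (N ⧸ M)).comap (QuotientGroup.mk' M))
  rw [QuotientGroup.ker_mk'] at this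
  rw [this, Subgroup.map_comap_eq_self_of_surjective (QuotientGroup.mk'_surjective M)]

/-- the core of the equivalence, inside `N = N_G(H)` -/
theorem core {N : Type*} [Group N] [Finite N] {p : ℕ} [Fact p.Prime] (H C S : Subgroup N)
    [H.Normal] [C.Normal] (hHC : C = Subgroup.centralizer (H : Set N)) (hH : IsPGroup p H)
    (hS : IsPGroup p S) (hSidx : ¬ p ∣ S.index) (hHS : H ≤ S) :
    (H ≤ (Cfsg.pCore p (N ⧸ C)).comap (QuotientGroup.mk' C) ∧
      ¬ p ∣ H.relIndex ((Cfsg.pCore p (N ⧸ C)).comap (QuotientGroup.mk' C))) ↔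
    (S ⊓ C ≤ H ∧ Cfsg.pPrimePCore p N = H ⊔ C) := by
  have hpr : p.Prime := Fact.out
  set D := (Cfsg.pCore p (N ⧸ C)).comap (QuotientGroup.mk' C) with hD
  haveI hpn : (Cfsg.pCore p (N ⧸ C)).Normal := CfsgLib.Solvable.pCore_normal p _
  haveI hDn : D.Normal := Subgroup.Normal.comap hpn _
  haveI hKn : (Cfsg.pPrimeCore p N).Normal := CfsgLib.Solvable.pPrimeCore_normal p N
  set K := Cfsg.pPrimeCore p N with hK
  have hE : Cfsg.pPrimePCore p N = (Cfsg.pCore p (N ⧸ K)).comap (QuotientGroup.mk' K) := rfl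
  set E := Cfsg.pPrimePCore p N with hEdef
  haveI hEn : E.Normal := by
    rw [hE]; exact Subgroup.Normal.comap (CfsgLib.Solvable.pCore_normal p _) _
  have hCD : C ≤ D := by
    intro c hc
    show (c : N ⧸ C) ∈ Cfsg.pCore p (N ⧸ C)
    rw [(QuotientGroup.eq_one_iff c).mpr hc]
    exact one_mem _
  have hHD : H ≤ D := Subgroup.map_le_iff_le_comap.mp (CfsgLib.Solvable.le_pCore
    ((inferInstance : H.Normal).map _ (QuotientGroup.mk'_surjective C)) (hH.map _))
  have hKC : K ≤ C := by
    rw [hHC, ← Subgroup.commutator_eq_bot_iff_le_centralizer, eq_bot_iff]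
    refine (Subgroup.commutator_le_inf K H).trans ?_
    intro x hx
    obtain ⟨hxK, hxH⟩ := Subgroup.mem_inf.mp hx
    obtain ⟨n, hn⟩ := hH.exists_card_eq
    rw [Subgroup.mem_bot, ← orderOf_eq_one_iff]
    exact Nat.eq_one_of_dvd_coprimes ((CfsgLib.Solvable.pPrimeCore_card_coprime p N).pow_right n)
      (Subgroup.orderOf_dvd_natCard K hxK) (hn ▸ Subgroup.orderOf_dvd_natCard H hxH)
  obtain ⟨kD, hkD⟩ := relIndex_comap_pCore (p := p) C
  obtain ⟨kE, hkE⟩ := relIndex_comap_pCore (p := p) K
  rw [← hE] at hkE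
  rw [← hD] at hkD
  -- the `p'`-part of a coprime and `p`-power index
  have hone : ∀ X Y : Subgroup N, ¬ p ∣ X.relIndex Y → (∃ k, X.relIndex Y = p ^ k) → X ≤ Y → X = Y := by
    rintro X Y h ⟨k, hk⟩ hle
    have : k = 0 := by
      by_contra h0
      exact h (hk ▸ dvd_pow_self p h0)
    rw [this, pow_zero] at hk
    exact le_antisymm hle (Subgroup.relIndex_eq_one.mp hk)
  constructor
  · rintro ⟨-, hidx⟩
    have hDeq : H ⊔ C = D := by
      refine hone _ _ (fun h => hidx (h.trans ?_)) ?_ (sup_le hHD hCD)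
      · exact Dvd.intro_left _ (Subgroup.relIndex_mul_relIndex H (H ⊔ C) D le_sup_left (sup_le hHD hCD))
      · have := Subgroup.relIndex_mul_relIndex C (H ⊔ C) D le_sup_right (sup_le hHD hCD)
        obtain ⟨k, -, hk⟩ := (Nat.dvd_prime_pow hpr).mp (hkD ▸ Dvd.intro_left _ this)
        exact ⟨k, hk⟩
    refine ⟨?_, ?_⟩
    · have hX : IsPGroup p ↥(H ⊔ (S ⊓ C)) := hS.to_le (sup_le hHS inf_le_left)
      have hle : H ⊔ (S ⊓ C) ≤ D := sup_le hHD (inf_le_right.trans hCD)
      have : H = H ⊔ (S ⊓ C) := by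
        refine hone _ _ (fun h => hidx (h.trans ?_)) ?_ le_sup_left
        · exact Dvd.intro _ (Subgroup.relIndex_mul_relIndex H (H ⊔ (S ⊓ C)) D le_sup_left hle)
        · obtain ⟨n, hn⟩ := hX.exists_card_eq
          obtain ⟨k, -, hk⟩ := (Nat.dvd_prime_pow hpr).mp
            (hn ▸ Subgroup.relIndex_dvd_card (H := H) (K := H ⊔ (S ⊓ C)))
          exact ⟨k, hk⟩
      exact le_sup_right.trans this.ge
    · -- `C = O_{p'}(N) Z(H)`
      have hidxC : ¬ p ∣ H.relIndex C := fun h => hidx (h.trans
        (CfsgLib.LocEven.relIndex_dvd_of_le_normalizer hHD hCD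
          (le_top.trans_eq (Subgroup.normalizer_eq_top_iff.mpr inferInstance).symm)))
      have hsupC : CfsgLib.LocEven.resOf p C ⊔ (H ⊓ C) = C :=
        CfsgLib.LocEven.resOf_sup_eq inf_le_right (by rwa [Subgroup.inf_relIndex_right])
      set Z := (H ⊓ C).subgroupOf C with hZ
      have hZc : ∀ z : C, z ∈ Z → ∀ c : C, c * z = z * c := by
        intro z hz c
        apply Subtype.ext
        have hzH : (z : N) ∈ H := (Subgroup.mem_inf.mp (Subgroup.mem_subgroupOf.mp hz)).1
        have hc : (c : N) ∈ Subgroup.centralizer (H : Set N) := hHC ▸ c.2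
        exact (hc _ hzH).symm
      haveI : Z.Normal := ⟨fun z hz c => by rwa [hZc z hz c, mul_inv_cancel_right]⟩
      have hZcop : (Nat.card Z).Coprime Z.index := by
        rw [hZ, Nat.card_congr (Subgroup.subgroupOfEquivOfLe inf_le_right).toEquiv]
        obtain ⟨n, hn⟩ := (hH.to_le (inf_le_left : H ⊓ C ≤ H)).exists_card_eq
        rw [hn]
        refine Nat.Coprime.pow_left n (hpr.coprime_iff_not_dvd.mpr ?_)
        show ¬ p ∣ (H ⊓ C).relIndex C
        rwa [Subgroup.inf_relIndex_right]
      obtain ⟨K₀, hK₀⟩ := Subgroup.exists_right_complement'_of_coprime hZcop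
      have hres : (Nat.card ↥(CfsgLib.LocEven.resOf p C)).Coprime p := by
        have hcardK₀ : Nat.card K₀ = Z.index := hK₀.symm.index_eq_card.symm
        have hpK : (Nat.card K₀).Coprime p := by
          rw [hcardK₀]
          refine (hpr.coprime_iff_not_dvd.mpr ?_).symm
          show ¬ p ∣ (H ⊓ C).relIndex C
          rwa [Subgroup.inf_relIndex_right]
        refine hpK.coprime_dvd_left ?_
        have hle : CfsgLib.LocEven.resOf p C ≤ K₀.map C.subtype := by
          refine (Subgroup.closure_le _).mpr ?_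
          rintro g ⟨hg, hgo⟩
          refine ⟨⟨g, hg⟩, ?_, rfl⟩
          have hsup : (⟨g, hg⟩ : C) ∈ Z ⊔ K₀ := hK₀.sup_eq_top ▸ Subgroup.mem_top _
          obtain ⟨z, hz, k, hk, hzk⟩ := (Subgroup.mem_sup_of_normal_left (s := Z)).mp hsup
          obtain ⟨n, hn⟩ := (hH.to_le (inf_le_left : H ⊓ C ≤ H)).exists_card_eq
          have hzo : orderOf z ∣ p ^ n := by
            rw [← hn, ← Nat.card_congr (Subgroup.subgroupOfEquivOfLe (inf_le_right : H ⊓ C ≤ C)).toEquiv]
            exact Subgroup.orderOf_dvd_natCard Z hz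
          have hko : (orderOf k).Coprime p := hpK.coprime_dvd_left (Subgroup.orderOf_dvd_natCard K₀ hk)
          have hcomm : Commute z k := (hZc z hz k).symm
          have hzpow : (⟨g, hg⟩ : C) ^ orderOf k = z ^ orderOf k := by
            rw [← hzk, hcomm.mul_pow, pow_orderOf_eq_one, mul_one]
          have hgo' : (orderOf (⟨g, hg⟩ : C)).Coprime p := by rwa [← Subgroup.orderOf_coe]
          have hz1 : z ^ orderOf k = 1 := by
            rw [← orderOf_eq_one_iff]
            refine Nat.eq_one_of_dvd_coprimes (hgo'.pow_right n) ?_ (orderOf_pow_dvd (orderOf k) |>.trans hzo)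
            rw [← hzpow]
            exact orderOf_pow_dvd (orderOf k)
          have hz2 : z = 1 := by
            rw [← orderOf_eq_one_iff]
            exact Nat.eq_one_of_dvd_coprimes (hko.pow_right n) (orderOf_dvd_of_pow_eq_one hz1) hzo
          rw [hz2, one_mul] at hzk
          exact hzk ▸ hk
        rw [← Subgroup.card_subtype C K₀]
        exact Subgroup.card_dvd_of_le hle
      have hresK : CfsgLib.LocEven.resOf p C ≤ K := by
        refine CfsgLib.Solvable.le_pPrimeCore ?_ hres
        rw [← Subgroup.normalizer_eq_top_iff, eq_top_iff]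
        exact fun g _ => CfsgLib.LocEven.le_normalizer_resOf
          ((Subgroup.normalizer_eq_top_iff.mpr (inferInstance : C.Normal)).ge (Subgroup.mem_top g))
      apply le_antisymm
      · rw [hDeq, hD, ← Subgroup.map_le_iff_le_comap]
        refine CfsgLib.Solvable.le_pCore (hEn.map _ (QuotientGroup.mk'_surjective C)) ?_
        have h1 : C.relIndex E ∣ K.relIndex E := Subgroup.relIndex_dvd_of_le_left E hKC
        obtain ⟨k, -, hk⟩ := (Nat.dvd_prime_pow hpr).mp (hkE ▸ h1)
        exact map_isPGroup_of_relIndex hk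
      · have hKE : K ≤ E := by
          rw [hE]
          intro x hx
          show (x : N ⧸ K) ∈ Cfsg.pCore p (N ⧸ K)
          rw [(QuotientGroup.eq_one_iff x).mpr hx]
          exact one_mem _
        have hHE : H ≤ E := by
          rw [hE]
          exact Subgroup.map_le_iff_le_comap.mp (CfsgLib.Solvable.le_pCore
            ((inferInstance : H.Normal).map _ (QuotientGroup.mk'_surjective K)) (hH.map _))
        refine sup_le hHE ?_
        rw [← hsupC]
        exact sup_le (hresK.trans hKE) (inf_le_left.trans hHE)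
  · rintro ⟨hSC, hEHC⟩
    refine ⟨hHD, ?_⟩
    have hDE : D ≤ H ⊔ C := by
      rw [← hEHC, hE, ← Subgroup.map_le_iff_le_comap]
      refine CfsgLib.Solvable.le_pCore (hDn.map _ (QuotientGroup.mk'_surjective K)) ?_
      have hCE : C ≤ E := hEHC ▸ le_sup_right
      have h1 : K.relIndex C ∣ K.relIndex E :=
        Dvd.intro _ (Subgroup.relIndex_mul_relIndex K C E hKC hCE)
      obtain ⟨k, -, hk⟩ := (Nat.dvd_prime_pow hpr).mp (hkE ▸ h1)
      refine map_isPGroup_of_relIndex (k := k + kD) ?_
      rw [← Subgroup.relIndex_mul_relIndex K C D hKC hCD, hk, hkD, pow_add]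
    intro h
    have hDeq : D = C ⊔ H := le_antisymm (hDE.trans (sup_comm H C).le) (sup_le hCD hHD)
    have hidxS : ¬ p ∣ S.relIndex C := by
      intro h'
      refine hSidx (h'.trans ?_)
      rw [← Subgroup.relIndex_top_right]
      exact CfsgLib.LocEven.relIndex_dvd_of_le_normalizer le_top le_top
        (le_of_eq (Subgroup.normalizer_eq_top_iff.mpr inferInstance).symm)
    apply hidxS
    have e1 : H.relIndex D = H.relIndex C := by
      rw [hDeq, Subgroup.relIndex_sup_right]
    rw [e1] at h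
    refine h.trans ?_
    have hle : S ⊓ C ≤ H ⊓ C := le_inf hSC inf_le_right
    rw [← Subgroup.inf_relIndex_right S C, ← Subgroup.inf_relIndex_right H C]
    exact Subgroup.relIndex_dvd_of_le_left C hle

/-- Let P be a Sylow p-subgroup of the finite group G and H ≤ P a subgroup with N_P(H) a Sylow p-subgroup of N_G(H). Let N be the preimage in N_G(H) of O_p(N_G(H)/C_G(H)). Then H is a Sylow p-subgroup of N if and only if C_P(H) ≤ H and O_{p',p}(N_G(H)) = H·C_G(H). -/
theorem result {G : Type*} [Group G] [Finite G] {p : ℕ} [Fact p.Prime]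
    (P : Sylow p G) (H : Subgroup G) (hHP : H ≤ (P : Subgroup G))
    (hSyl : ¬ p ∣ ((P : Subgroup G) ⊓ Subgroup.normalizer (H : Set G)).relIndex (Subgroup.normalizer (H : Set G)))
    [hC : ((Subgroup.centralizer (H : Set G)).subgroupOf (Subgroup.normalizer (H : Set G))).Normal] :
    (H ≤ ((Cfsg.pCore p (↥(Subgroup.normalizer (H : Set G)) ⧸
              (Subgroup.centralizer (H : Set G)).subgroupOf (Subgroup.normalizer (H : Set G)))).comap
            (QuotientGroup.mk' _)).map (Subgroup.normalizer (H : Set G)).subtype ∧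
      ¬ p ∣ H.relIndex (((Cfsg.pCore p (↥(Subgroup.normalizer (H : Set G)) ⧸
              (Subgroup.centralizer (H : Set G)).subgroupOf (Subgroup.normalizer (H : Set G)))).comap
            (QuotientGroup.mk' _)).map (Subgroup.normalizer (H : Set G)).subtype)) ↔
    ((P : Subgroup G) ⊓ Subgroup.centralizer (H : Set G) ≤ H ∧
      (Cfsg.pPrimePCore p ↥(Subgroup.normalizer (H : Set G))).map (Subgroup.normalizer (H : Set G)).subtype =
        H ⊔ Subgroup.centralizer (H : Set G)) := by
  set N := Subgroup.normalizer (H : Set G) with hN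
  have hHN : H ≤ N := Subgroup.le_normalizer
  have hCN : Subgroup.centralizer (H : Set G) ≤ N := Subgroup.centralizer_le_normalizer _
  haveI : (H.subgroupOf N).Normal := Subgroup.normal_subgroupOf_of_le_normalizer le_rfl
  have hcent : (Subgroup.centralizer (H : Set G)).subgroupOf N =
      Subgroup.centralizer ((H.subgroupOf N : Subgroup N) : Set N) := by
    ext x
    rw [Subgroup.mem_subgroupOf, Subgroup.mem_centralizer_iff, Subgroup.mem_centralizer_iff]
    refine ⟨fun h y hy => Subtype.ext (h y (Subgroup.mem_subgroupOf.mp hy)), fun h y hy => ?_⟩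
    exact congrArg Subtype.val (h ⟨y, hHN hy⟩ (Subgroup.mem_subgroupOf.mpr hy))
  have hmain := core (p := p) (H.subgroupOf N) ((Subgroup.centralizer (H : Set G)).subgroupOf N)
    (((P : Subgroup G) ⊓ N).subgroupOf N) hcent
    ((P.isPGroup'.to_le hHP).comap_of_injective _ N.subtype_injective)
    ((P.isPGroup'.to_le inf_le_left).comap_of_injective _ N.subtype_injective)
    hSyl (fun x hx => Subgroup.mem_inf.mpr ⟨hHP hx, x.2⟩)
  set D := (Cfsg.pCore p (↥N ⧸ (Subgroup.centralizer (H : Set G)).subgroupOf N)).comap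
    (QuotientGroup.mk' _) with hD
  have hH' := Subgroup.map_subgroupOf_eq_of_le hHN
  have e1 : H ≤ D.map N.subtype ↔ H.subgroupOf N ≤ D := by
    have := Subgroup.map_le_map_iff_of_injective N.subtype_injective (K := D) (H := H.subgroupOf N)
    rw [hH'] at this; exact this
  have e2 : H.relIndex (D.map N.subtype) = (H.subgroupOf N).relIndex D := by
    have := Subgroup.relIndex_map_map_of_injective (H.subgroupOf N) D N.subtype_injective
    rw [hH'] at this; exact this
  have e3 : ((P : Subgroup G) ⊓ N).subgroupOf N ⊓ (Subgroup.centralizer (H : Set G)).subgroupOf N ≤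
      H.subgroupOf N ↔ (P : Subgroup G) ⊓ Subgroup.centralizer (H : Set G) ≤ H := by
    constructor
    · intro h x hx
      obtain ⟨hxP, hxC⟩ := Subgroup.mem_inf.mp hx
      exact h (x := ⟨x, hCN hxC⟩) (Subgroup.mem_inf.mpr ⟨Subgroup.mem_inf.mpr ⟨hxP, hCN hxC⟩, hxC⟩)
    · intro h x hx
      obtain ⟨hxP, hxC⟩ := Subgroup.mem_inf.mp hx
      exact h (Subgroup.mem_inf.mpr ⟨(Subgroup.mem_inf.mp hxP).1, hxC⟩)
  have e4 : (Cfsg.pPrimePCore p ↥N).map N.subtype = H ⊔ Subgroup.centralizer (H : Set G) ↔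
      Cfsg.pPrimePCore p ↥N = H.subgroupOf N ⊔ (Subgroup.centralizer (H : Set G)).subgroupOf N := by
    have hsup : H ⊔ Subgroup.centralizer (H : Set G) =
        (H.subgroupOf N ⊔ (Subgroup.centralizer (H : Set G)).subgroupOf N).map N.subtype := by
      rw [Subgroup.map_sup, Subgroup.map_subgroupOf_eq_of_le hHN, Subgroup.map_subgroupOf_eq_of_le hCN]
    rw [hsup]
    exact (Subgroup.map_injective N.subtype_injective).eq_iff
  rw [e1, e2, ← e3, e4]
  exact hmain


end Cfsg.Agent.S3076
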