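import Cfsg.Statements.S3084
import Cfsg.Agent.Lib.LocEven.PlusExtension
import Cfsg.Agent.Lib.Extraspecial.TwoTypes

set_option autoImplicit false
open Cfsg

namespace Cfsg.Agent.S3084

theorem isExtraspecial_of_mulEquiv {A B : Type} [Group A] [Group B] (e : A ≃* B)
    (h : Cfsg.IsExtraspecial 2 A) : Cfsg.IsExtraspecial 2 B := by
  obtain ⟨⟨hp, hf, hc⟩, hcard⟩ := h
  have hcen : (Subgroup.center A).map e.toMonoidHom = Subgroup.center B := by
    ext b
    constructor
    · rintro ⟨a, ha, rfl⟩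
      refine Subgroup.mem_center_iff.2 fun y => e.symm.injective ?_
      simpa using Subgroup.mem_center_iff.1 ha (e.symm y)
    · intro hb
      refine ⟨e.symm b, Subgroup.mem_center_iff.2 fun y => e.injective ?_, by simp⟩
      simpa using Subgroup.mem_center_iff.1 hb (e y)
  refine ⟨⟨hp.of_equiv e, ?_, ?_⟩, ?_⟩
  · rw [← hcen, ← hf]
    exact (OrderIso.map_radical e.mapSubgroup).symm
  · rw [← hcen, ← hc, commutator_def, commutator_def, Subgroup.map_commutator,
      Subgroup.map_top_of_surjective _ e.surjective]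
  · rw [← hcen, ← hcard]
    exact (Nat.card_congr (Subgroup.equivMapOfInjective _ _ e.injective).toEquiv).symm

/-- Let K be a group acting faithfully and linearly on a finite-dimensional vector space U of dimension 2n ≥ 2 over the field with two elements, preserving a quadratic form q whose polar bilinear form is non-degenerate and which vanishes on some n-dimensional subspace (a non-singular form of plus type). Then there is a finite group R with a normal extraspecial 2-subgroup Q of order 2^(2n+1), an isomorphism of R/Q with K, and a surjective homomorphism χ from Q onto (the additive group of) U with kernel the centre of Q, such that χ carries conjugation by any r in R to the action of the image of r in K, and an element a of Q squares to the identity exactly when q vanishes at χ(a). -/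
theorem result {K : Type*} [Group K] {U : Type*} [AddCommGroup U] [Module (ZMod 2) U] [Module.Finite (ZMod 2) U] (n : ℕ) (hn1 : 1 ≤ n) (hn : Module.finrank (ZMod 2) U = 2 * n) (ρ : Representation (ZMod 2) K U) (hρ : Function.Injective ρ) (q : QuadraticForm (ZMod 2) U) (hq : ∀ (k : K) (u : U), q (ρ k u) = q u) (hnd : (QuadraticMap.polarBilin q).Nondegenerate) (hplus : ∃ W : Submodule (ZMod 2) U, Module.finrank (ZMod 2) ↥W = n ∧ ∀ w ∈ W, q w = 0) : ∃ (R : Type) (_ : Group R) (_ : Finite R) (Q : Subgroup R) (hN : Q.Normal) (e : R ⧸ Q ≃* K) (χ : ↥Q →* Multiplicative U), Cfsg.IsExtraspecial 2 ↥Q ∧ Nat.card ↥Q = 2 ^ (2 * n + 1) ∧ Function.Surjective χ ∧ χ.ker = Subgroup.center ↥Q ∧ (∀ (r : R) (a : ↥Q), χ ⟨r * a * r⁻¹, hN.conj_mem (a : R) a.2 r⟩ = Multiplicative.ofAdd (ρ (e (r : R ⧸ Q)) (Multiplicative.toAdd (χ a)))) ∧ ∀ a : ↥Q, a * a = 1 ↔ q (Multiplicative.toAdd (χ a)) = 0 := by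
  obtain ⟨m, rfl⟩ : ∃ m, n = m + 1 := ⟨n - 1, by omega⟩
  obtain ⟨W, hW, hW0⟩ := hplus
  obtain ⟨Ψ, hΨ⟩ := CfsgLib.LocEven.PlusExt.exists_coord hn q hnd W hW hW0
  let σ : K → CfsgLib.ExtraTwoTypes.V m →ₗ[ZMod 2] CfsgLib.ExtraTwoTypes.V m :=
    fun k => Ψ.symm.toLinearMap ∘ₗ ρ k ∘ₗ Ψ.toLinearMap
  have hσinj : Function.Injective σ := fun k l h => hρ (LinearMap.ext fun u => by
    simpa [σ] using LinearMap.congr_fun h (Ψ.symm u))
  obtain ⟨R, hGR, hFR, ι, π, hι, hπ, hker, hconj⟩ :=
    CfsgLib.LocEven.PlusExt.exists_extension σ hσinj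
      (LinearMap.ext fun u => by simp [σ])
      (fun k l => LinearMap.ext fun u => by simp [σ])
      (fun k u => by simp [σ, ← hΨ, hq])
  let ie : CfsgLib.ExtraTwoTypes.Grp m 0 ≃* ↥π.ker :=
    (MonoidHom.ofInjective hι).trans (MulEquiv.subgroupCongr hker.symm)
  let χ₀ : CfsgLib.ExtraTwoTypes.Grp m 0 →* Multiplicative U :=
    MonoidHom.mk' (fun g => Multiplicative.ofAdd (Ψ g.v)) fun g h => by
      simp [map_add, ofAdd_add]
  have hχ₀ : ∀ g, Multiplicative.toAdd (χ₀ g) = Ψ g.v := fun g => rfl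
  refine ⟨R, hGR, hFR, π.ker, inferInstance, QuotientGroup.quotientKerEquivOfSurjective π hπ,
    χ₀.comp ie.symm.toMonoidHom, isExtraspecial_of_mulEquiv ie CfsgLib.ExtraTwoTypes.isExtraspecial,
    ?_, ?_, ?_, ?_, ?_⟩
  · rw [← Nat.card_congr ie.toEquiv, CfsgLib.ExtraTwoTypes.card_grp]
  · intro u
    refine ⟨ie ⟨Ψ.symm (Multiplicative.toAdd u), 0⟩, ?_⟩
    simp [χ₀]
  · ext a
    obtain ⟨g, rfl⟩ := ie.surjective a
    rw [MonoidHom.mem_ker, MonoidHom.comp_apply]
    simp only [MulEquiv.coe_toMonoidHom, MulEquiv.symm_apply_apply]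
    rw [show ie g ∈ Subgroup.center ↥π.ker ↔ g ∈ Subgroup.center _ from ?_,
      CfsgLib.ExtraTwoTypes.mem_center_iff]
    · constructor
      · intro h
        exact Ψ.map_eq_zero_iff.1 (congrArg Multiplicative.toAdd h)
      · intro h
        simp [χ₀, h]
    · simp only [Subgroup.mem_center_iff]
      refine ⟨fun h x => ie.injective (by simpa using h (ie x)), fun h y => ?_⟩
      obtain ⟨x, rfl⟩ := ie.surjective y
      rw [← map_mul, ← map_mul, h x]
  · intro r a
    obtain ⟨g, rfl⟩ := ie.surjective a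
    obtain ⟨c, hc⟩ := hconj r g
    have h1 : (⟨r * (ie g : R) * r⁻¹, (inferInstance : π.ker.Normal).conj_mem (ie g : R) (ie g).2 r⟩ : ↥π.ker)
        = ie ⟨σ (π r) g.v, c⟩ := Subtype.ext hc
    rw [MonoidHom.comp_apply, MonoidHom.comp_apply, h1]
    simp only [MulEquiv.coe_toMonoidHom, MulEquiv.symm_apply_apply]
    show Multiplicative.ofAdd (Ψ (Ψ.symm (ρ (π r) (Ψ g.v)))) = _
    rw [LinearEquiv.apply_symm_apply]
    rfl
  · intro a
    obtain ⟨g, rfl⟩ := ie.surjective a
    rw [← map_mul, MulEquiv.map_eq_one_iff, MonoidHom.comp_apply, MulEquiv.coe_toMonoidHom,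
      MulEquiv.symm_apply_apply, hχ₀, hΨ, ← pow_two, CfsgLib.ExtraTwoTypes.sq_eq]
    exact ⟨fun h => congrArg CfsgLib.ExtraTwoTypes.Grp.a h, fun h => CfsgLib.ExtraTwoTypes.Grp.ext rfl h⟩

end Cfsg.Agent.S3084
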