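import Cfsg.Statements.S3085
import Cfsg.Agent.Lib.Transfer.Extraspecial

set_option autoImplicit false
open Cfsg
open scoped commutatorElement

namespace Cfsg.Agent.S3085

open CfsgLib.Transfer

variable {Q : Type*} [Group Q] {z : Q}

/-- The data used throughout: class two with centre `{1, z}`. -/
structure Two (Q : Type*) [Group Q] (z : Q) : Prop where
  cp : CentreOrderP 2 Q
  zmem : z ∈ Subgroup.center Q
  zne : z ≠ 1
  mem : ∀ w ∈ Subgroup.center Q, w = 1 ∨ w = z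

theorem Two.comm_cases (h : Two Q z) (g t : Q) : ⁅g, t⁆ = 1 ∨ ⁅g, t⁆ = z :=
  h.mem _ (commutatorElement_mem_center_of_le h.cp.class_two g t)

theorem Two.zz (h : Two Q z) : z * z = 1 := by rw [← pow_two, h.cp.pow_eq_one h.zmem]

theorem Two.mul_left (h : Two Q z) (a b t : Q) : ⁅a * b, t⁆ = ⁅a, t⁆ * ⁅b, t⁆ :=
  commutatorElement_mul_left_central (commutatorElement_mem_center_of_le h.cp.class_two b t)

theorem Two.mul_right (h : Two Q z) (a b t : Q) : ⁅t, a * b⁆ = ⁅t, a⁆ * ⁅t, b⁆ :=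
  commutatorElement_mul_right_central (commutatorElement_mem_center_of_le h.cp.class_two t b)

theorem Two.comm_symm (h : Two Q z) (a b : Q) : ⁅a, b⁆ = ⁅b, a⁆ := by
  rcases h.comm_cases b a with hc | hc
  · rw [← commutatorElement_inv, hc, inv_one]
  · rw [← commutatorElement_inv, hc, inv_eq_of_mul_eq_one_right h.zz]

theorem commutator_mul (g t : Q) : g * t = ⁅g, t⁆ * (t * g) := by
  rw [commutatorElement_def]; group

theorem Two.swap (h : Two Q z) {g t : Q} (hg : ⁅g, t⁆ = z) : t * g = z * (g * t) := by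
  rw [commutator_mul g t, hg, ← mul_assoc, h.zz, one_mul]

theorem comm_one {g t : Q} (hg : ⁅g, t⁆ = 1) : t * g = g * t := by
  rw [commutator_mul g t, hg, one_mul]

open scoped Classical in
/-- The transvection in `t`. -/
noncomputable def tvFun (t g : Q) : Q := if ⁅g, t⁆ = 1 then g else g * t

theorem tvFun_fix {t g : Q} (hg : ⁅g, t⁆ = 1) : tvFun t g = g := if_pos hg

theorem tvFun_move (h : Two Q z) {t g : Q} (hg : ⁅g, t⁆ = z) : tvFun t g = g * t :=
  if_neg (hg ▸ h.zne)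

theorem tvFun_mul (h : Two Q z) {t : Q} (ht : t * t = z) (g k : Q) :
    tvFun t (g * k) = tvFun t g * tvFun t k := by
  have hgk := h.mul_left g k t
  rcases h.comm_cases g t with hg | hg <;> rcases h.comm_cases k t with hk | hk <;>
    rw [hg, hk] at hgk
  · rw [one_mul] at hgk
    rw [tvFun_fix hg, tvFun_fix hk, tvFun_fix hgk]
  · rw [one_mul] at hgk
    rw [tvFun_fix hg, tvFun_move h hk, tvFun_move h hgk, mul_assoc]
  · rw [mul_one] at hgk
    rw [tvFun_move h hg, tvFun_fix hk, tvFun_move h hgk, mul_assoc, mul_assoc, comm_one hk]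
  · rw [h.zz] at hgk
    rw [tvFun_move h hg, tvFun_move h hk, tvFun_fix hgk]
    calc g * k = g * (z * z) * k := by rw [h.zz, mul_one]
      _ = g * z * (z * k) := by simp [mul_assoc]
      _ = g * z * (k * z) := by rw [Subgroup.mem_center_iff.mp h.zmem k]
      _ = g * (z * k) * (t * t) := by rw [ht]; simp [mul_assoc]
      _ = g * (z * (k * t)) * t := by simp [mul_assoc]
      _ = g * (t * k) * t := by rw [h.swap hk]
      _ = g * t * (k * t) := by simp [mul_assoc]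

variable [Finite Q]

/-- The transvection automorphism in an element squaring to `z`. -/
noncomputable def tv (h : Two Q z) {t : Q} (ht : t * t = z) : MulAut Q :=
  MulEquiv.ofBijective (MonoidHom.mk' (tvFun t) (tvFun_mul h ht)) (by
    refine Finite.injective_iff_bijective.mp ((injective_iff_map_eq_one _).mpr fun g hg => ?_)
    change tvFun t g = 1 at hg
    rcases h.comm_cases g t with hc | hc
    · rwa [tvFun_fix hc] at hg
    · rw [tvFun_move h hc, mul_eq_one_iff_eq_inv] at hg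
      rw [hg, commutatorElement_eq_one_iff_mul_comm.mpr (by group)] at hc
      exact absurd hc.symm h.zne)

theorem tv_apply (h : Two Q z) {t : Q} (ht : t * t = z) (g : Q) : tv h ht g = tvFun t g := rfl

theorem tv_sq (h : Two Q z) {t : Q} (ht : t * t = z) : tv h ht * tv h ht = MulAut.conj t := by
  ext g
  rw [MulAut.mul_apply, tv_apply, tv_apply, MulAut.conj_apply]
  rcases h.comm_cases g t with hc | hc
  · rw [tvFun_fix hc, tvFun_fix hc, comm_one hc, mul_inv_cancel_right]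
  · rw [tvFun_move h hc]
    have : ⁅g * t, t⁆ = z := by rw [h.mul_left, hc, commutatorElement_self, mul_one]
    rw [tvFun_move h this, mul_assoc, ht, h.swap hc, mul_assoc, mul_inv_cancel_right,
      Subgroup.mem_center_iff.mp h.zmem g]

theorem tv_comm (h : Two Q z) {t s : Q} (ht : t * t = z) (hs : s * s = z) (hts : ⁅t, s⁆ = 1) :
    tv h ht * tv h hs = tv h hs * tv h ht := by
  ext g
  rw [MulAut.mul_apply, MulAut.mul_apply, tv_apply, tv_apply, tv_apply, tv_apply]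
  have hst : ⁅s, t⁆ = 1 := by rw [← commutatorElement_inv, hts, inv_one]
  have hgs : ⁅g * s, t⁆ = ⁅g, t⁆ := by rw [h.mul_left, hst, mul_one]
  have hgt : ⁅g * t, s⁆ = ⁅g, s⁆ := by rw [h.mul_left, hts, mul_one]
  rcases h.comm_cases g t with hc | hc <;> rcases h.comm_cases g s with hd | hd
  · rw [tvFun_fix hd, tvFun_fix hc, tvFun_fix hd]
  · rw [tvFun_move h hd, tvFun_fix hc, tvFun_move h hd, tvFun_fix (hgs.trans hc)]
  · rw [tvFun_fix hd, tvFun_move h hc, tvFun_fix (hgt.trans hd)]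
  · rw [tvFun_move h hd, tvFun_move h hc, tvFun_move h (hgt.trans hd), tvFun_move h (hgs.trans hc),
      mul_assoc, mul_assoc, comm_one hts]

omit [Finite Q] in
/-- A central correction. -/
theorem Two.conj_apply_mod (h : Two Q z) (q g : Q) : ∃ w ∈ Subgroup.center Q, q * g * q⁻¹ = g * w := by
  refine ⟨⁅q, g⁆, commutatorElement_mem_center_of_le h.cp.class_two q g, ?_⟩
  rw [Subgroup.mem_center_iff.mp (commutatorElement_mem_center_of_le h.cp.class_two q g) g,
    commutatorElement_def]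
  group

omit [Finite Q] in
/-- An element commuting with `a` but not with `x`. -/
theorem Two.sep1 (h : Two Q z) {a x : Q} (hx : x ∉ Subgroup.center Q)
    (hax : a * x ∉ Subgroup.center Q) : ∃ u : Q, ⁅u, a⁆ = 1 ∧ ⁅u, x⁆ = z := by
  haveI : Fact (Nat.Prime 2) := ⟨Nat.prime_two⟩
  obtain ⟨u, hu⟩ := h.cp.exists_partner hx h.zmem
  rw [h.comm_symm] at hu
  rcases h.comm_cases u a with hua | hua
  · exact ⟨u, hua, hu⟩
  obtain ⟨w, hw⟩ := h.cp.exists_partner hax h.zmem
  rw [h.comm_symm, h.mul_right] at hw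
  rcases h.comm_cases w a with hwa | hwa
  · rw [hwa, one_mul] at hw
    exact ⟨w, hwa, hw⟩
  · rw [hwa] at hw
    have hwx : ⁅w, x⁆ = 1 := mul_eq_left.mp hw
    exact ⟨u * w, by rw [h.mul_left, hua, hwa, h.zz], by rw [h.mul_left, hu, hwx, mul_one]⟩

omit [Finite Q] in
/-- An element commuting with `a` and `b` but not with `x`. -/
theorem Two.sep2 (h : Two Q z) {a b x : Q} (hb : b ∉ Subgroup.center Q)
    (hab : a * b ∉ Subgroup.center Q) (hx : x ∉ Subgroup.center Q)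
    (hax : a * x ∉ Subgroup.center Q) (hbx : b * x ∉ Subgroup.center Q)
    (habx : a * (b * x) ∉ Subgroup.center Q) :
    ∃ u : Q, ⁅u, a⁆ = 1 ∧ ⁅u, b⁆ = 1 ∧ ⁅u, x⁆ = z := by
  obtain ⟨u, hua, hux⟩ := h.sep1 hx hax
  rcases h.comm_cases u b with hub | hub
  · exact ⟨u, hua, hub, hux⟩
  obtain ⟨w, hwa, hw⟩ := h.sep1 hbx habx
  rw [h.mul_right] at hw
  rcases h.comm_cases w b with hwb | hwb
  · rw [hwb, one_mul] at hw
    exact ⟨w, hwa, hwb, hw⟩
  · rw [hwb] at hw
    have hwx : ⁅w, x⁆ = 1 := mul_eq_left.mp hw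
    exact ⟨u * w, by rw [h.mul_left, hua, hwa, one_mul], by rw [h.mul_left, hub, hwb, h.zz],
      by rw [h.mul_left, hux, hwx, mul_one]⟩

/-- Four commuting transvections whose directions multiply into the centre obstruct a complement. -/
theorem not_complement (h : Two Q z) {t₀ t₁ t₂ t₃ : Q} (h0 : t₀ * t₀ = z) (h1 : t₁ * t₁ = z)
    (h2 : t₂ * t₂ = z) (h3 : t₃ * t₃ = z) (c01 : ⁅t₀, t₁⁆ = 1) (c02 : ⁅t₀, t₂⁆ = 1)
    (c03 : ⁅t₀, t₃⁆ = 1) (hprod : t₀ * (t₁ * t₂ * t₃) ∈ Subgroup.center Q)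
    {u₀ u₁ u₂ u₃ : Q} (m0 : ⁅u₀, t₀⁆ = z) (f1 : ⁅u₁, t₀⁆ = 1) (m1 : ⁅u₁, t₁⁆ = z)
    (f2 : ⁅u₂, t₀⁆ = 1) (m2 : ⁅u₂, t₂⁆ = z) (f3 : ⁅u₃, t₀⁆ = 1) (m3 : ⁅u₃, t₃⁆ = z)
    (L : Subgroup (MulAut Q)) (hL : (Cfsg.Inn Q).IsComplement' L) : False := by
  have hdis : ∀ l ∈ L, l ∈ Cfsg.Inn Q → l = 1 := fun l hl hi => by
    have : l ∈ Cfsg.Inn Q ⊓ L := ⟨hi, hl⟩
    rwa [disjoint_iff.mp hL.disjoint, Subgroup.mem_bot] at this
  have hnorm : ∀ (f : MulAut Q), ∀ i ∈ Cfsg.Inn Q, f * i * f⁻¹ ∈ Cfsg.Inn Q := by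
    rintro f i ⟨q, rfl⟩
    refine ⟨f q, ?_⟩
    ext g
    simp
  haveI : (Cfsg.Inn Q).Normal := ⟨fun i hi f => hnorm f i hi⟩
  have hlift : ∀ f : MulAut Q, ∃ l ∈ L, f⁻¹ * l ∈ Cfsg.Inn Q := by
    intro f
    have hf : f ∈ L ⊔ Cfsg.Inn Q := by rw [sup_comm, hL.sup_eq_top]; exact Subgroup.mem_top f
    obtain ⟨l, hl, i, hi, rfl⟩ := Subgroup.mem_sup_of_normal_right.mp hf
    refine ⟨l, hl, ?_⟩
    rw [mul_inv_rev, inv_mul_cancel_right]
    exact inv_mem hi
  have happ : ∀ {f l : MulAut Q}, f⁻¹ * l ∈ Cfsg.Inn Q → ∀ g, ∃ w ∈ Subgroup.center Q, l g = f g * w := by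
    rintro f l ⟨q, hq⟩ g
    obtain ⟨w, hw, hgw⟩ := h.conj_apply_mod q g
    refine ⟨f w, ?_, ?_⟩
    · refine Subgroup.mem_center_iff.mpr fun x => ?_
      obtain ⟨y, rfl⟩ := f.surjective x
      rw [← map_mul, ← map_mul, Subgroup.mem_center_iff.mp hw y]
    · rw [eq_inv_mul_iff_mul_eq] at hq
      rw [← hq, MulAut.mul_apply, MulAut.conj_apply, hgw, map_mul]
  have hcomm : ∀ {f f' l l' : MulAut Q}, l ∈ L → l' ∈ L → f⁻¹ * l ∈ Cfsg.Inn Q →
      f'⁻¹ * l' ∈ Cfsg.Inn Q → f * f' = f' * f → l * l' = l' * l := by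
    intro f f' l l' hl hl' hf hf' hff
    rw [← commutatorElement_eq_one_iff_mul_comm]
    refine hdis _ (mul_mem (mul_mem (mul_mem hl hl') (inv_mem hl)) (inv_mem hl')) ?_
    rw [← QuotientGroup.eq_one_iff, ← QuotientGroup.mk'_apply, map_commutatorElement,
      commutatorElement_eq_one_iff_mul_comm]
    have e1 : QuotientGroup.mk' (Cfsg.Inn Q) f = QuotientGroup.mk' (Cfsg.Inn Q) l :=
      QuotientGroup.eq.mpr hf
    have e2 : QuotientGroup.mk' (Cfsg.Inn Q) f' = QuotientGroup.mk' (Cfsg.Inn Q) l' :=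
      QuotientGroup.eq.mpr hf'
    rw [← e1, ← e2, ← map_mul, ← map_mul, hff]
  obtain ⟨a, ha, ha'⟩ := hlift (tv h h0)
  have ha2 : a * a = 1 := by
    refine hdis _ (mul_mem ha ha) ?_
    rw [← QuotientGroup.eq_one_iff, ← QuotientGroup.mk'_apply, map_mul]
    have e1 : QuotientGroup.mk' (Cfsg.Inn Q) (tv h h0) = QuotientGroup.mk' (Cfsg.Inn Q) a :=
      QuotientGroup.eq.mpr ha'
    rw [← e1, ← map_mul, QuotientGroup.mk'_apply, QuotientGroup.eq_one_iff, tv_sq]
    exact ⟨t₀, rfl⟩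
  have haz : ∀ (f : MulAut Q) w, w ∈ Subgroup.center Q → f w = w := by
    intro f w hw
    have hz' : f z ∈ Subgroup.center Q := Subgroup.mem_center_iff.mpr fun x => by
      obtain ⟨y, rfl⟩ := f.surjective x
      rw [← map_mul, ← map_mul, Subgroup.mem_center_iff.mp h.zmem y]
    have hfz : f z = z :=
      (h.mem _ hz').resolve_left fun e => h.zne (f.injective (e.trans (map_one f).symm))
    rcases h.mem w hw with rfl | rfl
    · exact map_one f
    · exact hfz
  -- `a` inverts `t₀`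
  have haT : a t₀ = t₀⁻¹ := by
    obtain ⟨w, hw, hu⟩ := happ ha' u₀
    rw [tv_apply, tvFun_move h m0] at hu
    have h2' : a (a u₀) = u₀ := by rw [← MulAut.mul_apply, ha2]; rfl
    rw [hu, map_mul, map_mul, hu, haz a w hw] at h2'
    have hww : w * w = 1 := by rw [← pow_two, h.cp.pow_eq_one hw]
    have : u₀ * (t₀ * a t₀) = u₀ * 1 := by
      rw [mul_one]
      calc u₀ * (t₀ * a t₀) = u₀ * (t₀ * (w * w) * a t₀) := by rw [hww, mul_one]
        _ = u₀ * t₀ * w * (w * a t₀) := by simp [mul_assoc]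
        _ = u₀ * t₀ * w * (a t₀ * w) := by rw [Subgroup.mem_center_iff.mp hw (a t₀)]
        _ = u₀ := by rw [← mul_assoc]; exact h2'
    exact eq_inv_of_mul_eq_one_right (mul_left_cancel this)
  -- `a` fixes the other three directions
  have hfix : ∀ {t u : Q} (ht : t * t = z), ⁅t₀, t⁆ = 1 → ⁅u, t₀⁆ = 1 → ⁅u, t⁆ = z → a t = t := by
    intro t u ht hc hu0 hut
    obtain ⟨b, hb, hb'⟩ := hlift (tv h ht)
    have hab := hcomm ha hb ha' hb' (tv_comm h h0 ht hc)
    obtain ⟨w, hw, hau⟩ := happ ha' u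
    obtain ⟨v, hv, hbu⟩ := happ hb' u
    rw [tv_apply, tvFun_fix hu0] at hau
    rw [tv_apply, tvFun_move h hut] at hbu
    have h3' : a (b u) = b (a u) := by
      rw [← MulAut.mul_apply, ← MulAut.mul_apply, hab]
    rw [hau, hbu, map_mul, map_mul, map_mul, hau, hbu, haz a v hv, haz b w hw] at h3'
    have h4 : u * w * a t = u * t * w := by
      refine mul_right_cancel (b := v) ?_
      rw [h3', mul_assoc (u * t), mul_assoc (u * t), Subgroup.mem_center_iff.mp hw v]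
    rw [mul_assoc, mul_assoc, ← Subgroup.mem_center_iff.mp hw (a t)] at h4
    exact mul_right_cancel (mul_left_cancel h4)
  have hA := haz a _ hprod
  rw [map_mul, map_mul, map_mul, haT, hfix h1 c01 f1 m1, hfix h2 c02 f2 m2, hfix h3 c03 f3 m3] at hA
  have h4 : t₀⁻¹ = t₀ := mul_right_cancel hA
  rw [inv_eq_iff_mul_eq_one, h0] at h4
  exact h.zne h4

/-- Let Q be an extraspecial 2-group of order 2^(2n+1) with n ≥ 3 that is of plus type (it contains an elementary abelian subgroup of order 2^(n+1)). Then the group of inner automorphisms of Q has no complement in the full automorphism group of Q: the extension of the inner automorphism group (elementary abelian of order 2^(2n)) by the outer automorphism group (the orthogonal group of plus type) does not split. -/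
theorem result {Q : Type*} [Group Q] [Finite Q] (n : ℕ) (hn : 3 ≤ n) (hQ : Cfsg.IsExtraspecial 2 Q) (hcard : Nat.card Q = 2 ^ (2 * n + 1)) (hplus : ∃ E : Subgroup Q, Cfsg.IsElementaryAbelian 2 E ∧ Nat.card ↥E = 2 ^ (n + 1)) (L : Subgroup (MulAut Q)) : ¬ (Cfsg.Inn Q).IsComplement' L := by
  classical
  intro hL
  haveI : Fact (Nat.Prime 2) := ⟨Nat.prime_two⟩
  have hcp := centreOrderP_of_isExtraspecial hQ
  obtain ⟨z, hz, hz1⟩ := hcp.exists_center_ne_one
  have h : Two Q z := by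
    refine ⟨hcp, hz, hz1, fun w hw => ?_⟩
    by_contra hne
    push Not at hne
    haveI := Fintype.ofFinite (Subgroup.center Q)
    have : 2 < Fintype.card (Subgroup.center Q) := by
      rw [Fintype.two_lt_card_iff]
      exact ⟨⟨w, hw⟩, ⟨z, hz⟩, 1, fun e => hne.2 (congrArg Subtype.val e),
        fun e => hne.1 (congrArg Subtype.val e), fun e => hz1 (congrArg Subtype.val e)⟩
    rw [← Nat.card_eq_fintype_card, hcp.card_center] at this
    omega
  obtain ⟨E, ⟨hEc, hE2⟩, hEcard⟩ := hplus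
  have hEcomm : ∀ x ∈ E, ∀ y ∈ E, ⁅x, y⁆ = 1 := fun x hx y hy =>
    commutatorElement_eq_one_iff_mul_comm.mpr (congrArg Subtype.val (hEc.1.comm ⟨x, hx⟩ ⟨y, hy⟩))
  have hsq : ∀ x ∈ E, x * x = 1 := fun x hx => by rw [← pow_two, hE2 x hx]
  -- choose three independent elements
  have h16 : 16 ≤ Nat.card E := by
    rw [hEcard]; calc 16 = 2 ^ 4 := by norm_num
      _ ≤ _ := Nat.pow_le_pow_right (by norm_num) (by omega)
  have hpick : ∀ s : Finset Q, s.card ≤ 8 → ∃ e ∈ E, e ∉ s := by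
    intro s hs
    by_contra hcon
    push Not at hcon
    have : Nat.card E ≤ s.card := by
      rw [← Nat.card_eq_finsetCard]
      exact Nat.card_le_card_of_injective (fun e : E => (⟨e, hcon e e.2⟩ : s))
        (fun e e' he => Subtype.ext (by simpa using he))
    omega
  obtain ⟨e₁, he₁, hn1⟩ := hpick {1, z} (by
    exact (Finset.card_le_two).trans (by norm_num))
  simp only [Finset.mem_insert, Finset.mem_singleton, not_or] at hn1
  obtain ⟨e₂, he₂, hn2⟩ := hpick {1, z, e₁, e₁ * z} (by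
    exact (Finset.card_le_four).trans (by norm_num))
  simp only [Finset.mem_insert, Finset.mem_singleton, not_or] at hn2
  obtain ⟨e₃, he₃, hn3⟩ := hpick ({1, z, e₁, e₁ * z} ∪ {e₂, e₂ * z, e₁ * e₂, e₁ * e₂ * z}) (by
    exact (Finset.card_union_le _ _).trans (Nat.add_le_add Finset.card_le_four Finset.card_le_four))
  simp only [Finset.mem_union, Finset.mem_insert, Finset.mem_singleton, not_or] at hn3
  -- a product of elements of `E` avoiding the listed cosets is not central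
  have hnc : ∀ x ∈ E, ∀ y ∈ E, y ≠ x → y ≠ x * z → x * y ∉ Subgroup.center Q := by
    intro x hx y _ h1 h2 hc
    rcases h.mem _ hc with e | e
    · exact h1 (mul_left_cancel (e.trans (hsq x hx).symm))
    · exact h2 (by rw [← e, ← mul_assoc, hsq x hx, one_mul])
  have hc1 : ∀ y, y ≠ 1 → y ≠ z → y ∉ Subgroup.center Q := fun y h1 h2 hc =>
    (h.mem y hc).elim h1 h2
  have he12 : e₁ * e₂ ∈ E := mul_mem he₁ he₂
  obtain ⟨g, hg1, hg2, hg3⟩ := h.sep2 (a := e₁) (b := e₂) (x := e₃)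
    (hc1 _ hn2.1 hn2.2.1) (hnc _ he₁ _ he₂ hn2.2.2.1 hn2.2.2.2)
    (hc1 _ hn3.1.1 hn3.1.2.1) (hnc _ he₁ _ he₃ hn3.1.2.2.1 hn3.1.2.2.2)
    (hnc _ he₂ _ he₃ hn3.2.1 hn3.2.2.1)
    (by rw [← mul_assoc]; exact hnc _ he12 _ he₃ hn3.2.2.2.1 hn3.2.2.2.2)
  obtain ⟨t, ht, ht1, ht2, ht3⟩ : ∃ t : Q, t * t = z ∧ ⁅t, e₁⁆ = 1 ∧ ⁅t, e₂⁆ = 1 ∧ ⁅t, e₃⁆ = z := by
    rcases h.mem _ (hcp.pow_mem_center g) with hg | hg <;> rw [pow_two] at hg
    · refine ⟨e₃ * g, ?_, ?_, ?_, ?_⟩
      · calc e₃ * g * (e₃ * g) = e₃ * (g * e₃) * g := by simp [mul_assoc]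
          _ = e₃ * (z * (e₃ * g)) * g := by rw [← h.swap ((h.comm_symm e₃ g).trans hg3)]
          _ = e₃ * z * e₃ * (g * g) := by simp [mul_assoc]
          _ = z := by
            rw [hg, mul_one, Subgroup.mem_center_iff.mp hz e₃, mul_assoc, hsq e₃ he₃, mul_one]
      · rw [h.mul_left, hEcomm _ he₃ _ he₁, hg1, one_mul]
      · rw [h.mul_left, hEcomm _ he₃ _ he₂, hg2, one_mul]
      · rw [h.mul_left, commutatorElement_self, hg3, one_mul]
    · exact ⟨g, hg, hg1, hg2, hg3⟩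
  have htE : ∀ x ∈ E, ⁅t, x⁆ = 1 → x ∉ Subgroup.center Q →
      t * x * (t * x) = z ∧ ⁅t, t * x⁆ = 1 ∧ ∃ u : Q, ⁅u, t⁆ = 1 ∧ ⁅u, t * x⁆ = z := by
    intro x hx htx hxc
    refine ⟨?_, ?_, ?_⟩
    · calc t * x * (t * x) = t * (x * t) * x := by simp [mul_assoc]
        _ = t * (t * x) * x := by rw [comm_one htx]
        _ = (t * t) * (x * x) := by simp [mul_assoc]
        _ = z := by rw [ht, hsq x hx, mul_one]
    · rw [h.mul_right, commutatorElement_self, htx, one_mul]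
    · have htx' : t * x ∉ Subgroup.center Q := fun hc => by
        have e : t * x * (t * x) = 1 := by rw [← pow_two, hcp.pow_eq_one hc]
        rw [show t * x * (t * x) = t * (x * t) * x by simp [mul_assoc], comm_one htx,
          show t * (t * x) * x = (t * t) * (x * x) by simp [mul_assoc], ht, hsq x hx, mul_one] at e
        exact hz1 e
      obtain ⟨u, hu1, hu2⟩ := h.sep1 hxc htx'
      exact ⟨u, hu1, by rw [h.mul_right, hu1, hu2, one_mul]⟩
  obtain ⟨s1, c1, u1, f1, m1⟩ := htE e₁ he₁ ht1 (hc1 _ hn1.1 hn1.2)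
  obtain ⟨s2, c2, u2, f2, m2⟩ := htE e₂ he₂ ht2 (hc1 _ hn2.1 hn2.2.1)
  obtain ⟨s3, c3, u3, f3, m3⟩ := htE (e₁ * e₂) he12
    (by rw [h.mul_right, ht1, ht2, one_mul]) (hnc _ he₁ _ he₂ hn2.2.2.1 hn2.2.2.2)
  refine not_complement h ht s1 s2 s3 c1 c2 c3 ?_ (u₀ := e₃) (by rw [h.comm_symm, ht3]) f1 m1 f2 m2 f3 m3 L hL
  have e1 := comm_one ht1
  have : t * (t * e₁ * (t * e₂) * (t * (e₁ * e₂))) = 1 := by
    calc t * (t * e₁ * (t * e₂) * (t * (e₁ * e₂)))
        = t * t * (e₁ * t) * (e₂ * t) * (e₁ * e₂) := by simp [mul_assoc]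
      _ = t * t * (t * e₁) * (t * e₂) * (e₁ * e₂) := by rw [e1, comm_one ht2]
      _ = t * t * t * (e₁ * t) * e₂ * (e₁ * e₂) := by simp [mul_assoc]
      _ = t * t * t * (t * e₁) * e₂ * (e₁ * e₂) := by rw [e1]
      _ = (t * t) * (t * t) * ((e₁ * e₂) * (e₁ * e₂)) := by simp [mul_assoc]
      _ = 1 := by rw [ht, hsq _ he12, h.zz, mul_one]
  rw [this]; exact one_mem _

end Cfsg.Agent.S3085
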