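import Cfsg.Statements.S3086
import Cfsg.Agent.Lib.LocEven.PGV.Theorem
import Cfsg.Agent.Lib.Components.Layer
-- import your own Cfsg.Agent.* helpers here

set_option autoImplicit false
open Cfsg

namespace Cfsg.Agent.S3086

/-- The P(G,V)-theorem. Let p be a prime, G a finite group acting faithfully and linearly on a finite vector space V over the field with p elements, and A a nontrivial elementary abelian p-subgroup of G such that |A|·|C_V(A)| ≥ |B|·|C_V(B)| for every subgroup B of A. Then A normalizes every component (subnormal quasisimple subgroup) of G. -/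
theorem result {G V : Type*} [Group G] [Finite G] [AddCommGroup V] [Finite V] (p : ℕ) [Fact p.Prime] [Module (ZMod p) V]
    (ρ : Representation (ZMod p) G V) (hρ : Function.Injective ρ)
    (A : Subgroup G) (hA : A ≠ ⊥) (hAel : Cfsg.IsElementaryAbelian p A)
    (hP : ∀ B : Subgroup G, B ≤ A →
      Nat.card ↥B * Nat.card {v : V // ∀ b ∈ B, ρ b v = v} ≤ Nat.card ↥A * Nat.card {v : V // ∀ a ∈ A, ρ a v = v}) :
    ∀ K : Subgroup G, Cfsg.IsComponent K → A ≤ Subgroup.normalizer (K : Set G) := by
  intro K hK
  refine CfsgLib.LocEven.PGV.le_normalizer (ρ := ρ) ⟨?_, hAel.2, hK.2, ?_, ?_⟩ hP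
  · intro a ha b hb
    exact congrArg Subtype.val (hAel.1.1.comm ⟨a, ha⟩ ⟨b, hb⟩)
  · intro a _ hn x hx y hy
    have hne : K ≠ K.map (MulAut.conj a).toMonoidHom := by
      intro h
      apply hn
      rw [Subgroup.mem_normalizer_iff]
      intro g
      constructor
      · intro hg; rw [h]; exact ⟨g, hg, by simp⟩
      · intro hg
        rw [h] at hg
        obtain ⟨z, hz, hzg⟩ := hg
        simp at hzg
        exact hzg ▸ hz
    have h := CfsgLib.Components.component_commutator_of_ne hK
      (CfsgLib.Components.component_map_conj hK a) hne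
    exact ((Subgroup.commutator_eq_bot_iff_le_centralizer.mp h hx) _ ⟨y, hy, by simp⟩).symm
  · obtain ⟨k, hk, hk1⟩ := K.bot_or_exists_ne_one.resolve_left (CfsgLib.Components.component_ne_bot hK)
    exact ⟨k, hk, fun h => hk1 (hρ (h.trans (map_one ρ).symm))⟩

end Cfsg.Agent.S3086

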