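import Cfsg.Statements.S3087
import Cfsg.Agent.Lib.LocEven.Card

set_option autoImplicit false
open Cfsg

namespace Cfsg.Agent.S3087

/-- Let p be a prime, G a finite group acting linearly on a finite vector space V over the field with p elements, W a G-invariant subspace, and A a subgroup of G with |A|·|C_V(A)| ≥ |B|·|C_V(B)| for every subgroup B of A. Then |A|·|C_W(A)| ≥ |B|·|C_W(B)| for every subgroup B of A that contains C_A(W); that is, the image of A in the group induced on W satisfies the same maximality condition. -/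
theorem result {G V : Type*} [Group G] [Finite G] [AddCommGroup V] [Finite V] (p : ℕ) [Fact p.Prime] [Module (ZMod p) V]
    (ρ : Representation (ZMod p) G V) (W : Submodule (ZMod p) V) (hW : ∀ g : G, ∀ w ∈ W, ρ g w ∈ W)
    (A : Subgroup G)
    (hP : ∀ B : Subgroup G, B ≤ A →
      Nat.card ↥B * Nat.card {v : V // ∀ b ∈ B, ρ b v = v} ≤ Nat.card ↥A * Nat.card {v : V // ∀ a ∈ A, ρ a v = v})
    (B : Subgroup G) (hBA : B ≤ A) (hCB : ∀ a ∈ A, (∀ w ∈ W, ρ a w = w) → a ∈ B) :
    Nat.card ↥B * Nat.card {w : W // ∀ b ∈ B, ρ b w = w} ≤ Nat.card ↥A * Nat.card {w : W // ∀ a ∈ A, ρ a w = w} := by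
  classical
  haveI : Finite (Multiplicative V) := Finite.of_equiv V Multiplicative.ofAdd
  let fixV : Subgroup G → AddSubgroup V := fun H =>
    { carrier := {v | ∀ b ∈ H, ρ b v = v}
      add_mem' := fun {x y} hx hy b hb => by rw [map_add, hx b hb, hy b hb]
      zero_mem' := fun b _ => map_zero _
      neg_mem' := fun {x} hx b hb => by rw [map_neg, hx b hb] }
  have hfix : ∀ H : Subgroup G, Nat.card {v : V // ∀ b ∈ H, ρ b v = v} = Nat.card (fixV H) := fun _ => rfl
  let e : ∀ H : Subgroup G,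
      {w : W // ∀ b ∈ H, ρ b w = w} ≃ ↥(fixV H ⊓ W.toAddSubgroup) := fun H =>
    { toFun := fun w => ⟨(w.1 : V), w.2, w.1.2⟩
      invFun := fun v => ⟨⟨(v : V), v.2.2⟩, v.2.1⟩
      left_inv := fun _ => rfl
      right_inv := fun _ => rfl }
  have key := CfsgLib.LocEven.card_mul_card_le_card_inf_mul
    (H := (fixV A).toSubgroup) (K := (fixV B ⊓ W.toAddSubgroup).toSubgroup)
    (L := (fixV B).toSubgroup) (fun v hv b hb => hv b (hBA hb)) (fun v hv => hv.1)
  have heq : (fixV A).toSubgroup ⊓ (fixV B ⊓ W.toAddSubgroup).toSubgroup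
      = (fixV A ⊓ W.toAddSubgroup).toSubgroup := by
    ext v
    exact ⟨fun h => ⟨h.1, h.2.2⟩, fun h => ⟨h.1, fun b hb => h.1 b (hBA hb), h.2⟩⟩
  rw [heq] at key
  have key' : Nat.card (fixV A) * Nat.card ↥(fixV B ⊓ W.toAddSubgroup)
      ≤ Nat.card ↥(fixV A ⊓ W.toAddSubgroup) * Nat.card (fixV B) := key
  rw [Nat.card_congr (e A), Nat.card_congr (e B)]
  have h0 := hP B hBA
  rw [hfix A, hfix B] at h0
  have hpos : 0 < Nat.card (fixV B) := Nat.card_pos
  refine Nat.le_of_mul_le_mul_right ?_ hpos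
  calc Nat.card B * Nat.card ↥(fixV B ⊓ W.toAddSubgroup) * Nat.card (fixV B)
      = Nat.card B * Nat.card (fixV B) * Nat.card ↥(fixV B ⊓ W.toAddSubgroup) := by ring
    _ ≤ Nat.card A * Nat.card (fixV A) * Nat.card ↥(fixV B ⊓ W.toAddSubgroup) := by gcongr
    _ ≤ Nat.card A * (Nat.card ↥(fixV A ⊓ W.toAddSubgroup) * Nat.card (fixV B)) := by
        rw [mul_assoc]; gcongr
    _ = Nat.card A * Nat.card ↥(fixV A ⊓ W.toAddSubgroup) * Nat.card (fixV B) := by ring


end Cfsg.Agent.S3087
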