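import Cfsg.Statements.S3103
import Cfsg.Agent.Lib.StdForm.ConstrainedAut
import Cfsg.Agent.Lib.Linear.SL4Two

set_option autoImplicit false
open Cfsg

namespace Cfsg.Agent.S3103

/-- Let X be a finite 2-constrained group with no nontrivial normal subgroup of odd order such that O₂(X) has sectional 2-rank at most 4. Then X/O₂(X) is isomorphic to a subgroup of the alternating group of degree 8. -/
theorem result {X : Type*} [Group X] [Finite X] (hc : Cfsg.IsPConstrained 2 X) (hO : Cfsg.oddCore X = ⊥)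
    (h4 : Cfsg.SectionalPRankLE 2 4 ↥(Cfsg.pCore 2 X)) :
    ∃ f : X ⧸ Cfsg.pCore 2 X →* ↥(alternatingGroup (Fin 8)), Function.Injective f := by
  haveI : Fact (Nat.Prime 2) := ⟨Nat.prime_two⟩
  have hP : IsPGroup 2 ↥(Cfsg.pCore 2 X) := CfsgLib.PLoc.pCore_pgroup 2 X
  obtain ⟨g, hg, -⟩ := CfsgLib.StdForm.exists_hom_frattini_quotient hc hO
  obtain ⟨h2, hcomm⟩ := CfsgLib.StdForm.frattini_quotient_elementary hP
  have h16 := CfsgLib.StdForm.card_frattini_quotient_le hP h4
  obtain ⟨f, hf⟩ := CfsgLib.StdForm.exists_mulAut_hom_GL h2 hcomm (by simpa using h16)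
  let toSL : GL (Fin 4) (ZMod 2) →* Matrix.SpecialLinearGroup (Fin 4) (ZMod 2) :=
    { toFun := fun a => ⟨a.1, by
        have h := Matrix.GeneralLinearGroup.val_det_apply a
        rw [← h, Subsingleton.elim (Matrix.GeneralLinearGroup.det a) 1, Units.val_one]⟩
      map_one' := Subtype.ext rfl
      map_mul' := fun a b => Subtype.ext rfl }
  have htoSL : Function.Injective toSL := fun a b h => Units.ext (congrArg Subtype.val h)
  obtain ⟨eA⟩ := CfsgLib.Linear.SL4Two.equiv_A8
  exact ⟨eA.toMonoidHom.comp (toSL.comp (f.comp g)), eA.injective.comp (htoSL.comp (hf.comp hg))⟩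

end Cfsg.Agent.S3103
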