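import Cfsg.Statements.S3105
import Cfsg.Agent.Lib.RankFour.LThree.CaseA
import Cfsg.Agent.Lib.Linear.Simple
import Cfsg.Agent.Lib.Linear.Card
import Cfsg.Agent.Lib.StdForm.ConstrainedAut

set_option autoImplicit false
open Cfsg

namespace Cfsg.Agent.S3105

open Matrix CfsgLib.RankFour.LThree

theorem card_pslThree {F : Type*} [Field F] [Fintype F] (hF : Fintype.card F = 2) :
    Nat.card (Matrix.ProjectiveSpecialLinearGroup (Fin 3) F) = 168 := by
  classical
  have h1 := CfsgLib.Linear.card_PSL_mul (n := Fin 3) (F := F)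
  rw [hF, show Nat.gcd (Fintype.card (Fin 3)) (2 - 1) = 1 by simp, one_mul] at h1
  haveI : Subsingleton Fˣ := by
    rw [← Fintype.card_le_one_iff_subsingleton, Fintype.card_units, hF]
  have hbij : Function.Bijective (Matrix.SpecialLinearGroup.toGL (n := Fin 3) (R := F)) := by
    refine ⟨fun a b e => Subtype.ext (congrArg Units.val e), fun g => ⟨⟨g.1, ?_⟩, Units.ext rfl⟩⟩
    rw [← Matrix.GeneralLinearGroup.val_det_apply, Subsingleton.elim (Matrix.GeneralLinearGroup.det g) 1,
      Units.val_one]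
  rw [h1, Nat.card_congr (Equiv.ofBijective _ hbij), Matrix.card_GL_field, hF]
  simp [Fin.prod_univ_three]

theorem iso_of_concl {P : Type*} [Group P] [Finite P] (hcard : Nat.card P = 32) (hc : ∀ a b : P, a * b = b * a)
    (f : P) (hf : f ≠ 1) (hf2 : f * f = 1) (hsq : ∀ p : P, p * p = 1 ∨ p * p = f) (x : P) (hx : x * x = f)
    (hbound : ∀ H : Subgroup P, (∀ h ∈ H, h * h = 1) → Nat.card H ≤ 16) :
    Nonempty (P ≃* Multiplicative (ZMod 4) × (Fin 3 → Multiplicative (ZMod 2))) := by
  classical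
  letI : CommGroup P := { (inferInstance : Group P) with mul_comm := hc }
  let Ω : Subgroup P :=
    { carrier := {p | p * p = 1}
      one_mem' := one_mul 1
      mul_mem' := fun {a b} (ha : a * a = 1) (hb : b * b = 1) => show a * b * (a * b) = 1 by
        rw [mul_mul_mul_comm, ha, hb, one_mul]
      inv_mem' := fun {a} (ha : a * a = 1) => show a⁻¹ * a⁻¹ = 1 by rw [← _root_.mul_inv_rev, ha, inv_one] }
  have hout : ∀ p : P, p ∉ Ω → x⁻¹ * p ∈ Ω := fun p hp => by
    show x⁻¹ * p * (x⁻¹ * p) = 1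
    rw [mul_mul_mul_comm, ← _root_.mul_inv_rev, hx, (hsq p).resolve_left hp, inv_mul_cancel]
  have hΩ16 : Nat.card Ω = 16 := by
    have h1 : Nat.card Ω ≤ 16 := hbound Ω fun h hh => hh
    have hidx : Ω.index = 2 := by
      have hxΩ : x ∉ Ω := fun (hh : x * x = 1) => hf (hx ▸ hh)
      refine Subgroup.index_eq_two_iff.mpr ⟨x, fun b => ?_⟩
      by_cases hb : b ∈ Ω
      · exact Or.inr ⟨hb, fun hh => hxΩ (by simpa using mul_mem (inv_mem hb) hh)⟩
      · refine Or.inl ⟨?_, hb⟩
        show b * x * (b * x) = 1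
        rw [mul_mul_mul_comm, hx, (hsq b).resolve_left hb, hf2]
    have h2 := Subgroup.card_mul_index Ω
    rw [hidx, hcard] at h2
    omega
  -- coordinates on the elementary abelian part modulo f
  have hfΩ : Subgroup.zpowers f ≤ Ω := Subgroup.zpowers_le.mpr hf2
  let Q := Ω ⧸ (Subgroup.zpowers f).subgroupOf Ω
  have hQ2 : ∀ q : Additive Q, 2 • q = 0 := fun q => by
    rw [two_nsmul]
    show Additive.ofMul (q.toMul * q.toMul) = Additive.ofMul 1
    congr 1
    obtain ⟨w, hw⟩ := QuotientGroup.mk'_surjective ((Subgroup.zpowers f).subgroupOf Ω) q.toMul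
    rw [← hw, ← map_mul, show w * w = 1 from Subtype.ext w.2, map_one]
  letI : Module (ZMod 2) (Additive Q) := AddCommGroup.zmodModule hQ2
  have hQ8 : Nat.card Q = 8 := by
    have h := Subgroup.card_eq_card_quotient_mul_card_subgroup ((Subgroup.zpowers f).subgroupOf Ω)
    rw [hΩ16, Nat.card_congr (Subgroup.subgroupOfEquivOfLe hfΩ).toEquiv, Nat.card_zpowers,
      orderOf_eq_prime (p := 2) (by rw [sq, hf2]) hf] at h
    show Nat.card (Ω ⧸ _) = 8
    omega
  have hfr : Module.finrank (ZMod 2) (Additive Q) = 3 := by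
    have h := Module.natCard_eq_pow_finrank (K := ZMod 2) (V := Additive Q)
    rw [Nat.card_zmod, show Nat.card (Additive Q) = 8 from hQ8] at h
    exact (Nat.pow_right_injective le_rfl (show 2 ^ 3 = 2 ^ Module.finrank (ZMod 2) (Additive Q) by rw [← h])).symm
  let bs := Module.finBasisOfFinrankEq (ZMod 2) (Additive Q) hfr
  choose a ha using fun i => QuotientGroup.mk'_surjective ((Subgroup.zpowers f).subgroupOf Ω) (bs i).toMul
  have hx4 : x ^ 4 = 1 := by rw [show (4 : ℕ) = 2 * 2 from rfl, pow_mul, sq, sq, hx, hf2]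
  have hval : ∀ (m : ℕ) [NeZero m] (g : P), g ^ m = 1 → ∀ k k' : ZMod m, g ^ (k + k').val = g ^ k.val * g ^ k'.val :=
    fun m _ g hg k k' => by
      rw [ZMod.val_add, ← pow_add, ← pow_mod_orderOf, ← pow_mod_orderOf g (k.val + k'.val),
        Nat.mod_mod_of_dvd _ (orderOf_dvd_of_pow_eq_one hg)]
  have ha2 : ∀ i, (a i : P) ^ 2 = 1 := fun i => by rw [sq]; exact (a i).2
  let h : Multiplicative (ZMod 4) × (Fin 3 → Multiplicative (ZMod 2)) →* P :=
    MonoidHom.mk' (fun t => x ^ t.1.toAdd.val * ∏ i, (a i : P) ^ (t.2 i).toAdd.val) fun s t => by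
      simp only [Prod.fst_mul, Prod.snd_mul, Pi.mul_apply, toAdd_mul, hval 4 x hx4, hval 2 _ (ha2 _),
        Finset.prod_mul_distrib]
      exact mul_mul_mul_comm _ _ _ _
  have hsurj : Function.Surjective h := by
    have hΩh : Ω ≤ h.range := by
      intro w hw
      set c := bs.equivFun (Additive.ofMul (QuotientGroup.mk' ((Subgroup.zpowers f).subgroupOf Ω) ⟨w, hw⟩)) with hcd
      let v : Ω := ∏ i, a i ^ (c i).val
      have hv : QuotientGroup.mk' ((Subgroup.zpowers f).subgroupOf Ω) v
          = QuotientGroup.mk' ((Subgroup.zpowers f).subgroupOf Ω) ⟨w, hw⟩ := by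
        have e := bs.sum_equivFun (Additive.ofMul (QuotientGroup.mk' ((Subgroup.zpowers f).subgroupOf Ω) ⟨w, hw⟩))
        rw [← hcd] at e
        apply Additive.ofMul.injective
        rw [← e, map_prod, ofMul_prod]
        refine Finset.sum_congr rfl fun i _ => ?_
        rw [map_pow, ha i, ofMul_pow, ofMul_toMul, ← Nat.cast_smul_eq_nsmul (ZMod 2), ZMod.natCast_zmod_val]
      have hm := (QuotientGroup.eq.mp hv)
      rw [Subgroup.mem_subgroupOf] at hm
      have hvh : (v : P) ∈ h.range := ⟨(1, fun i => Multiplicative.ofAdd (c i)), by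
        show x ^ (0 : ZMod 4).val * ∏ i, (a i : P) ^ (c i).val = _
        rw [ZMod.val_zero, pow_zero, one_mul]
        simp [v]⟩
      have hfh : f ∈ h.range := ⟨(Multiplicative.ofAdd 2, 1), by
        show x ^ (2 : ZMod 4).val * ∏ i, (a i : P) ^ (0 : ZMod 2).val = f
        rw [show (2 : ZMod 4).val = 2 from rfl, sq, hx]
        simp⟩
      have hm' := (Subgroup.zpowers_le.mpr hfh) hm
      simpa using mul_mem hvh hm'
    have hxh : x ∈ h.range := ⟨(Multiplicative.ofAdd 1, 1), by
      show x ^ (1 : ZMod 4).val * ∏ i, (a i : P) ^ (0 : ZMod 2).val = x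
      rw [show (1 : ZMod 4).val = 1 from rfl, pow_one]
      simp⟩
    intro p
    by_cases hp : p ∈ Ω
    · exact hΩh hp
    · have := mul_mem hxh (hΩh (hout p hp))
      rwa [mul_inv_cancel_left] at this
  have hb := hsurj.bijective_of_nat_card_le (by
    rw [hcard, Nat.card_prod, Nat.card_fun]
    simp [Nat.card_congr (Multiplicative.toAdd (α := ZMod 4)), Nat.card_congr (Multiplicative.toAdd (α := ZMod 2))])
  exact ⟨(MulEquiv.ofBijective h hb).symm⟩

/-- Let X be a finite nonsolvable 2-constrained group with no nontrivial normal subgroup of odd order and of sectional 2-rank at most 4, and suppose X/O₂(X) is isomorphic to the projective special linear group of dimension 3 over the field with 2 elements. Then O₂(X) is elementary abelian of order 8 or 16, or is isomorphic to the direct product of a cyclic group of order 4 and an elementary abelian group of order 8. -/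
theorem result {X : Type*} [Group X] [Finite X] (hns : ¬ Group.IsSolvable X) (hc : Cfsg.IsPConstrained 2 X) (hO : Cfsg.oddCore X = ⊥)
    (h4 : Cfsg.SectionalPRankLE 2 4 X) {F : Type*} [Field F] [Fintype F] (hF : Fintype.card F = 2)
    (hQ : Nonempty (X ⧸ Cfsg.pCore 2 X ≃* Matrix.ProjectiveSpecialLinearGroup (Fin 3) F)) :
    (Cfsg.IsElementaryAbelian 2 (Cfsg.pCore 2 X) ∧ (Nat.card ↥(Cfsg.pCore 2 X) = 8 ∨ Nat.card ↥(Cfsg.pCore 2 X) = 16)) ∨
      Nonempty (↥(Cfsg.pCore 2 X) ≃* Multiplicative (ZMod 4) × (Fin 3 → Multiplicative (ZMod 2))) := by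
  classical
  obtain ⟨e⟩ := hQ
  set P := Cfsg.pCore 2 X with hP
  haveI : Fact (Nat.Prime 2) := ⟨Nat.prime_two⟩
  let π : X →* Matrix.ProjectiveSpecialLinearGroup (Fin 3) F := e.toMonoidHom.comp (QuotientGroup.mk' P)
  have hk : π.ker = P := by
    ext x
    show e (QuotientGroup.mk' P x) = 1 ↔ _
    rw [map_eq_one_iff e e.injective]
    exact QuotientGroup.eq_one_iff x
  have hb : Base π := by
    refine ⟨e.surjective.comp (QuotientGroup.mk'_surjective P), ?_, h4,
      CfsgLib.Linear.isSimpleGroup_PSL_fin 3 (by norm_num) (fun h => absurd h (by norm_num)), card_pslThree hF⟩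
    rw [hk]
    exact CfsgLib.PLoc.pCore_pgroup 2 X
  have hf : Faith π := fun x hx => by
    refine MonoidHom.mem_ker.mp (hk.symm ▸ CfsgLib.StdForm.centralizer_pCore_le hc hO ?_)
    rw [Subgroup.mem_centralizer_iff]
    intro p hp
    exact (hx p (hk.symm ▸ hp)).symm
  have hconcl := Base.concl _ X π rfl hb hf
  rw [hk] at hconcl
  rcases hconcl with ⟨hcard, hexp⟩ | ⟨hcard, hcomm, f, hfP, hf1, hf2, hsq, x, hx, hxf⟩
  · refine Or.inl ⟨⟨⟨⟨fun a b => Subtype.ext ?_⟩⟩, fun a ha => by rw [sq]; exact hexp a ha⟩, hcard⟩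
    have hinv : ∀ c ∈ P, c⁻¹ = c := fun c hc => inv_eq_of_mul_eq_one_left (hexp c hc)
    show (a : X) * b = b * a
    rw [← hinv _ (mul_mem a.2 b.2), _root_.mul_inv_rev, hinv _ a.2, hinv _ b.2]
  · refine Or.inr (iso_of_concl hcard (fun a b => Subtype.ext (hcomm a a.2 b b.2)) ⟨f, hfP⟩
      (fun e' => hf1 (congrArg Subtype.val e')) (Subtype.ext hf2)
      (fun p => (hsq p p.2).imp (fun e' => Subtype.ext e') fun e' => Subtype.ext e') ⟨x, hx⟩ (Subtype.ext hxf) ?_)
    intro H hH
    have hle := CfsgLib.RankFour.relIndex_le_of_sq_mem h4 (X := H.map P.subtype) (N := ⊥)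
      (fun y _ n hn => by rw [Subgroup.mem_bot] at hn ⊢; rw [hn]; group)
      (by
        rintro _ ⟨y, hy, rfl⟩
        rw [Subgroup.mem_bot, ← map_mul, hH y hy, map_one])
    rw [Subgroup.relIndex_bot_left, Subgroup.card_map_of_injective P.subtype_injective] at hle
    exact hle

end Cfsg.Agent.S3105
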