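import Cfsg.Statements.S3106
import Cfsg.Agent.Lib.RankFour.AltFiveRadical
import Cfsg.Agent.Lib.RankFour.QuatDihedral
import Cfsg.Agent.Lib.StdForm.ConstrainedAut

set_option autoImplicit false
open Cfsg

namespace Cfsg.Agent.S3106

theorem radical {X : Type*} [Group X] [Finite X] (h4 : Cfsg.SectionalPRankLE 2 4 X) (P : Subgroup X) [P.Normal]
    (hP : IsPGroup 2 ↥P) (g : X ⧸ P →* MulAut (↥P ⧸ frattini ↥P)) (hginj : Function.Injective g)
    (hg : ∀ (x : X) (k : ↥P), g (QuotientGroup.mk x) (QuotientGroup.mk k) = QuotientGroup.mk (MulAut.conjNormal x k))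
    (A : Subgroup (X ⧸ P)) (e : ↥A ≃* ↥(alternatingGroup (Fin 5))) :
    (Cfsg.IsElementaryAbelian 2 P ∧ Nat.card ↥P = 16) ∨
      (Nat.card ↥P = 32 ∧ ∃ A B : Subgroup ↥P,
        Nonempty (↥A ≃* QuaternionGroup 2) ∧ Nonempty (↥B ≃* DihedralGroup 4) ∧ (∀ a ∈ A, ∀ b ∈ B, a * b = b * a) ∧
          A ⊔ B = ⊤ ∧ A ⊓ B = Subgroup.center ↥P) := by
  classical
  haveI : Fact (Nat.Prime 2) := ⟨Nat.prime_two⟩
  let X0 : Subgroup X := A.comap (QuotientGroup.mk' P)
  have hPX : P ≤ X0 := fun x hx => by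
    show (QuotientGroup.mk' P) x ∈ A
    rw [QuotientGroup.mk'_apply, (QuotientGroup.eq_one_iff x).mpr hx]; exact one_mem A
  let π : ↥X0 →* CfsgLib.RankFour.AltFiveModule.A5 :=
    e.toMonoidHom.comp (((QuotientGroup.mk' P).comp X0.subtype).codRestrict A fun x => x.2)
  have hker : π.ker = P.subgroupOf X0 := by
    ext x
    show e _ = 1 ↔ (x : X) ∈ P
    rw [MulEquiv.map_eq_one_iff]
    exact Subtype.ext_iff.trans (QuotientGroup.eq_one_iff (x : X))
  haveI : (frattini ↥P).Characteristic := frattini_characteristic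
  let F : Subgroup ↥X0 := ((frattini ↥P).map P.subtype).subgroupOf X0
  have hsetup : CfsgLib.RankFour.AltFiveRadical.Setup π F := by
    refine ⟨?_, ?_, ?_, ?_, ?_, ?_, ?_⟩
    · intro a
      obtain ⟨x, hx⟩ := QuotientGroup.mk_surjective (e.symm a : X ⧸ P)
      refine ⟨⟨x, show (QuotientGroup.mk' P) x ∈ A by rw [QuotientGroup.mk'_apply, hx]; exact (e.symm a).2⟩, ?_⟩
      show e _ = a
      exact (congrArg e (Subtype.ext hx)).trans (e.apply_symm_apply a)
    · rw [hker]; exact hP.of_equiv (Subgroup.subgroupOfEquivOfLe hPX).symm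
    · exact CfsgLib.AltEight.Sixteen.sectional_of_section h4 X0.subtype Subtype.val_injective
        (MonoidHom.id _) Function.surjective_id
    · show (Subgroup.subgroupOf _ X0).Normal
      infer_instance
    · rw [hker]
      intro x hx
      obtain ⟨k, -, hk⟩ := Subgroup.mem_map.mp (Subgroup.mem_subgroupOf.mp hx)
      exact Subgroup.mem_subgroupOf.mpr (hk ▸ k.2)
    · rw [hker]
      intro p hp
      exact Subgroup.mem_subgroupOf.mpr ⟨_, CfsgLib.PGroup.pow_mem_frattini hP ⟨(p : X), hp⟩, by simp [pow_two]⟩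
    · by_contra hcon
      push Not at hcon
      have htriv : ∀ x ∈ X0, (QuotientGroup.mk x : X ⧸ P) = 1 := by
        intro x hx
        refine hginj ?_
        rw [map_one]
        ext k
        induction k using QuotientGroup.induction_on with
        | H k =>
          rw [hg, MulAut.one_apply]
          obtain ⟨m, hm, hmk⟩ := Subgroup.mem_map.mp (Subgroup.mem_subgroupOf.mp
            (hcon ⟨x, hx⟩ ⟨k, hPX k.2⟩ (hker.symm ▸ k.2)))
          rw [QuotientGroup.eq_iff_div_mem, div_eq_mul_inv]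
          rwa [Subtype.ext (show (MulAut.conjNormal x k * k⁻¹ : ↥P).1 = m.1 by simpa using hmk.symm)]
      obtain ⟨x, hx⟩ := QuotientGroup.mk_surjective (e.symm CfsgLib.RankFour.AltFiveModule.e1 : X ⧸ P)
      have h1 := htriv x (show (QuotientGroup.mk' P) x ∈ A by rw [QuotientGroup.mk'_apply, hx]; exact (e.symm _).2)
      rw [hx] at h1
      have h2 : CfsgLib.RankFour.AltFiveModule.e1 = 1 := by
        rw [← e.apply_symm_apply CfsgLib.RankFour.AltFiveModule.e1]
        exact (MulEquiv.map_eq_one_iff e).mpr (Subtype.ext h1)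
      exact absurd h2 (by decide)
  have hle := CfsgLib.RankFour.AltFiveRadical.card_le_two _ ↥X0 π F hsetup rfl
  have hcard := hsetup.card_ker
  let ε : ↥π.ker ≃* ↥P := (MulEquiv.subgroupCongr hker).trans (Subgroup.subgroupOfEquivOfLe hPX)
  rw [Nat.card_congr ε.toEquiv] at hcard
  have hpos : 0 < Nat.card F := Nat.card_pos
  rcases (by omega : Nat.card F = 1 ∨ Nat.card F = 2) with h1 | h2
  · left
    have hF : F = ⊥ := Subgroup.card_eq_one.mp h1
    have hsq : ∀ a : ↥P, a * a = 1 := fun a => by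
      have := hsetup.sq _ (ε.symm a).2
      rw [hF, Subgroup.mem_bot] at this
      have h' : ε.symm a * ε.symm a = 1 := Subtype.ext this
      simpa using congrArg ε h'
    refine ⟨⟨⟨⟨fun a b => ?_⟩⟩, fun a ha => ?_⟩, by rw [hcard, h1]⟩
    · have hinv : ∀ c : ↥P, c⁻¹ = c := fun c => inv_eq_of_mul_eq_one_left (hsq c)
      rw [← hinv (a * b), mul_inv_rev, hinv a, hinv b]
    · rw [pow_two]; exact congrArg Subtype.val (hsq ⟨a, ha⟩)
  · right
    refine ⟨by rw [hcard, h2], ?_⟩
    obtain ⟨⟨C, w, hw, hform⟩, -⟩ := hsetup.extraspecial h2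
    obtain ⟨B1, B2, ⟨e1⟩, ⟨e2⟩, hcomm, hsup, hinf⟩ :=
      CfsgLib.RankFour.QuatDihedral.central_product C hw hform
    refine ⟨B1.map ε.toMonoidHom, B2.map ε.toMonoidHom, ⟨(ε.subgroupMap B1).symm.trans e1⟩,
      ⟨(ε.subgroupMap B2).symm.trans e2⟩, ?_, ?_, ?_⟩
    · rintro _ ⟨a, ha, rfl⟩ _ ⟨b, hb, rfl⟩
      rw [← map_mul, ← map_mul, hcomm a ha b hb]
    · rw [← Subgroup.map_sup, hsup, Subgroup.map_top_of_surjective _ ε.surjective]
    · rw [← Subgroup.map_inf _ _ _ ε.injective, hinf]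
      ext y
      constructor
      · rintro ⟨x, hx, rfl⟩
        rw [Subgroup.mem_center_iff]
        intro z
        obtain ⟨z', rfl⟩ := ε.surjective z
        show ε z' * ε x = ε x * ε z'
        rw [← map_mul, ← map_mul, Subgroup.mem_center_iff.mp hx z']
      · intro hy
        refine ⟨ε.symm y, Subgroup.mem_center_iff.mpr fun z => ε.injective ?_, ε.apply_symm_apply y⟩
        rw [map_mul, map_mul, ε.apply_symm_apply]
        exact Subgroup.mem_center_iff.mp hy _


/-- Let X be a finite nonsolvable 2-constrained group with no nontrivial normal subgroup of odd order and of sectional 2-rank at most 4, and suppose X/O₂(X) contains a subgroup isomorphic to the alternating group of degree 5. Then O₂(X) is elementary abelian of order 16, or O₂(X) is a central product of a quaternion group of order 8 and a dihedral group of order 8 (it has order 32 and is generated by two elementwise-commuting subgroups, one quaternion of order 8 and one dihedral of order 8, meeting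 in the centre). -/
theorem result {X : Type*} [Group X] [Finite X] (hns : ¬ Group.IsSolvable X) (hc : Cfsg.IsPConstrained 2 X) (hO : Cfsg.oddCore X = ⊥)
    (h4 : Cfsg.SectionalPRankLE 2 4 X)
    (hQ : ∃ A : Subgroup (X ⧸ Cfsg.pCore 2 X), Nonempty (↥A ≃* ↥(alternatingGroup (Fin 5)))) :
    (Cfsg.IsElementaryAbelian 2 (Cfsg.pCore 2 X) ∧ Nat.card ↥(Cfsg.pCore 2 X) = 16) ∨
      (Nat.card ↥(Cfsg.pCore 2 X) = 32 ∧ ∃ A B : Subgroup ↥(Cfsg.pCore 2 X),
        Nonempty (↥A ≃* QuaternionGroup 2) ∧ Nonempty (↥B ≃* DihedralGroup 4) ∧ (∀ a ∈ A, ∀ b ∈ B, a * b = b * a) ∧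
          A ⊔ B = ⊤ ∧ A ⊓ B = Subgroup.center ↥(Cfsg.pCore 2 X)) := by
  classical
  haveI : Fact (Nat.Prime 2) := ⟨Nat.prime_two⟩
  obtain ⟨g, hginj, hg⟩ := CfsgLib.StdForm.exists_hom_frattini_quotient hc hO
  obtain ⟨A, ⟨e⟩⟩ := hQ
  have hP : IsPGroup 2 ↥(Cfsg.pCore 2 X) := CfsgLib.PLoc.pCore_pgroup 2 X
  exact radical h4 _ hP g hginj hg A e

end Cfsg.Agent.S3106
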