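import Cfsg.Statements.S3113
import Cfsg.Agent.S1172
import Cfsg.Agent.Lib.DihTimesDih.FourT

set_option autoImplicit false
open Cfsg

namespace Cfsg.Agent.S3113

open CfsgLib.DihTimesDih CfsgLib.TwoFusion.DihedralFusion in
theorem four_or_dih {G : Type*} [Group G] [Finite G] {D : Subgroup G} (hD : IsPGroup 2 D)
    {m : ℕ} (hm : 2 ≤ m) (e : D ≃* DihedralGroup m) :
    (Nat.card D = 4 ∧ ∀ b ∈ D, b * b = 1) ∨ Nonempty (Dih D) := by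
  obtain ⟨E⟩ := exists_dihGens hD hm e
  by_cases hk : 1 ≤ E.k
  · exact Or.inr (exists_dih E hk)
  have hk0 : E.k = 0 := by omega
  refine Or.inl ⟨by rw [E.card, hk0]; norm_num, fun b hb => ?_⟩
  have haa : E.a * E.a = 1 := by
    have h := pow_orderOf_eq_one E.a
    rwa [E.order_a, hk0, pow_one, pow_two] at h
  rcases E.cases b hb with ⟨i, rfl | rfl⟩
  · rw [← (Commute.refl E.a).mul_zpow, haa, one_zpow]
  · exact E.refl_sq i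

/-- Let G be a finite group with no nontrivial normal subgroup of odd order, no proper normal subgroup of odd index and no normal subgroup of index 2, whose Sylow 2-subgroup S is non-abelian and is the internal direct product of two dihedral subgroups (each of order at least 4). Then G is the internal direct product of two normal subgroups G₁ and G₂, and for a suitable such factorization of S into dihedral subgroups S₁ × S₂ the factor Sᵢ is a Sylow 2-subgroup of Gᵢ for i = 1, 2. -/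
theorem result {G : Type*} [Group G] [Finite G] (hO : Cfsg.oddCore G = ⊥) (hidx : ∀ N : Subgroup G, N.Normal → Odd N.index → N = ⊤)
    (h2 : ∀ N : Subgroup G, N.Normal → N.index ≠ 2)
    (S : Sylow 2 G) (hS : ¬ IsMulCommutative ↥(S : Subgroup G))
    (D₁ D₂ : Subgroup G) (hD : Cfsg.IsInternalDirectProduct D₁ D₂ (S : Subgroup G))
    (hD₁ : ∃ m : ℕ, 2 ≤ m ∧ Nonempty (↥D₁ ≃* DihedralGroup m)) (hD₂ : ∃ m : ℕ, 2 ≤ m ∧ Nonempty (↥D₂ ≃* DihedralGroup m)) :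
    ∃ G₁ G₂ : Subgroup G, G₁.Normal ∧ G₂.Normal ∧ Cfsg.IsInternalDirectProduct G₁ G₂ ⊤ ∧
      ∃ S₁ S₂ : Subgroup G, Cfsg.IsInternalDirectProduct S₁ S₂ (S : Subgroup G) ∧
        (∃ m : ℕ, 2 ≤ m ∧ Nonempty (↥S₁ ≃* DihedralGroup m)) ∧ (∃ m : ℕ, 2 ≤ m ∧ Nonempty (↥S₂ ≃* DihedralGroup m)) ∧
        S₁ ≤ G₁ ∧ S₂ ≤ G₂ ∧ ¬ (2 ∣ (S₁.subgroupOf G₁).index) ∧ ¬ (2 ∣ (S₂.subgroupOf G₂).index) := by
  haveI : Fact (Nat.Prime 2) := ⟨Nat.prime_two⟩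
  obtain ⟨m₁, hm₁, ⟨e₁⟩⟩ := hD₁
  obtain ⟨m₂, hm₂, ⟨e₂⟩⟩ := hD₂
  obtain ⟨T₁, T₂, hc₁, hc₂, hp, ⟨f₁⟩, ⟨f₂⟩⟩ : ∃ T₁ T₂ : Subgroup G,
      Cfsg.IsStronglyClosed T₁ (S : Subgroup G) ∧ Cfsg.IsStronglyClosed T₂ (S : Subgroup G) ∧
      Cfsg.IsInternalDirectProduct T₁ T₂ (S : Subgroup G) ∧
      Nonempty (D₁ ≃* T₁) ∧ Nonempty (D₂ ≃* T₂) := by
    rcases four_or_dih (S.isPGroup'.to_le hD.1) hm₁ e₁ with ⟨c₁, s₁⟩ | ⟨d₁⟩ <;>
      rcases four_or_dih (S.isPGroup'.to_le hD.2.1) hm₂ e₂ with ⟨c₂, s₂⟩ | ⟨d₂⟩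
    · refine absurd ⟨⟨fun x y => Subtype.ext ?_⟩⟩ hS
      show (x : G) * y = y * x
      have key : ∀ u ∈ (S : Subgroup G), u * u = 1 := by
        intro u hu
        obtain ⟨a, ha, b, hb, rfl⟩ := CfsgLib.DihTimesDih.exists_split hD hu
        rw [CfsgLib.DihTimesDih.mul_sq_of_commute (hD.2.2.1 a ha b hb), s₁ a ha, s₂ b hb, one_mul]
      have h1 : ((x : G) * y)⁻¹ = (x : G) * y :=
        inv_eq_of_mul_eq_one_right (key _ (mul_mem x.2 y.2))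
      rw [mul_inv_rev, inv_eq_of_mul_eq_one_right (key _ x.2),
        inv_eq_of_mul_eq_one_right (key _ y.2)] at h1
      exact h1.symm
    · obtain ⟨T₁, T₂, h₁, h₂', hp, ⟨f₁⟩, ⟨f₂⟩⟩ := (CfsgLib.DihTimesDih.FPair.exists_closed
        ⟨S, D₂, D₁, d₂.some, CfsgLib.DihTimesDih.internal_symm hD, s₁, c₁⟩ h2)
      exact ⟨T₂, T₁, h₂', h₁, CfsgLib.DihTimesDih.internal_symm hp, ⟨f₂⟩, ⟨f₁⟩⟩
    · exact CfsgLib.DihTimesDih.FPair.exists_closed ⟨S, D₁, D₂, d₁.some, hD, s₂, c₂⟩ h2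
    · exact CfsgLib.DihTimesDih.Pair.exists_closed ⟨S, D₁, D₂, d₁.some, d₂.some, hD⟩ h2
  obtain ⟨G₁, G₂, hn₁, hn₂, hG, R₁, R₂, hR, hR₁, hR₂, hle₁, hle₂, ho₁, ho₂⟩ :=
    Cfsg.Agent.S1172.result hO hidx S hS T₁ T₂ hp m₁ m₂ hm₁ hm₂ (f₁.symm.trans e₁)
      (f₂.symm.trans e₂) hc₁ hc₂
  refine ⟨G₁, G₂, hn₁, hn₂, hG, R₁, R₂, hR, hR₁, hR₂, hle₁, hle₂, ?_, ?_⟩
  · rw [← even_iff_two_dvd, Nat.not_even_iff_odd]; exact ho₁
  · rw [← even_iff_two_dvd, Nat.not_even_iff_odd]; exact ho₂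

end Cfsg.Agent.S3113
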