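import Cfsg.Statements.S3116
import Mathlib

set_option autoImplicit false
open Cfsg

namespace Cfsg.Agent.S3116

/-- The automorphism group of a dihedral 2-group of order at least 8, or of a quasi-dihedral (semidihedral) 2-group of order at least 16, is a 2-group. -/
theorem result {X : Type*} [Group X] [Finite X] (h2 : IsPGroup 2 X)
    (h : (∃ n : ℕ, 4 ≤ n ∧ Nonempty (X ≃* DihedralGroup n)) ∨ Cfsg.IsQuasiDihedral X) : IsPGroup 2 (MulAut X) := by
  have main : ∀ (n : ℕ) (x : X), orderOf x = 2 ^ n → (Subgroup.zpowers x).index = 2 →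
      (∀ w, orderOf w = 2 ^ n → w ∈ Subgroup.zpowers x) → IsPGroup 2 (MulAut X) := by
    intro n x hx hidx hchar α
    have hpow : ∀ β : MulAut X, ∃ u : ℕ, β x = x ^ u ∧ u.Coprime (2 ^ n) := by
      intro β
      have ho : orderOf (β x) = 2 ^ n := by rw [β.orderOf_eq x, hx]
      obtain ⟨u, hu⟩ := (isOfFinOrder_of_finite x).mem_powers_iff_mem_zpowers.mpr (hchar _ ho)
      change x ^ u = β x at hu
      refine ⟨u, hu.symm, ?_⟩
      rw [← hu, orderOf_pow, hx] at ho
      have hd : Nat.gcd (2 ^ n) u ∣ 2 ^ n := Nat.gcd_dvd_left _ _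
      have : 2 ^ n / Nat.gcd (2 ^ n) u = 2 ^ n := ho
      have h1 := (Nat.div_eq_self.mp this).resolve_left (by positivity)
      exact Nat.coprime_comm.mp h1
    obtain ⟨u, hu, huc⟩ := hpow α
    have hit : ∀ j : ℕ, (α ^ j) x = x ^ (u ^ j) := by
      intro j
      induction j with
      | zero => simp
      | succ j ih => rw [pow_succ', MulAut.mul_apply, ih, map_pow, hu, ← pow_mul, ← pow_succ']
    have hU : u ^ (Nat.totient (2 ^ n)) ≡ 1 [MOD orderOf x] := by
      rw [hx]; exact Nat.ModEq.pow_totient huc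
    have hfix : (α ^ (Nat.totient (2 ^ n))) x = x := by
      rw [hit]
      conv_rhs => rw [← pow_one x]
      exact pow_eq_pow_iff_modEq.mpr hU
    generalize hβ : α ^ (Nat.totient (2 ^ n)) = β at hfix
    have hC : ∀ c ∈ Subgroup.zpowers x, β c = c := by
      rintro c ⟨i, rfl⟩
      simp [map_zpow, hfix]
    have hstab : ∀ w : X, w⁻¹ * β w ∈ Subgroup.zpowers x := by
      intro w
      by_cases hw : w ∈ Subgroup.zpowers x
      · rw [hC w hw]; simp
      · rw [Subgroup.mul_mem_iff_of_index_two hidx, inv_mem_iff]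
        refine iff_of_false hw (fun hb => hw ?_)
        have := β.injective (hC _ hb)
        rwa [this] at hb
    have hb1 : β ^ (2 ^ n) = 1 := by
      ext w
      have key : ∀ j : ℕ, (β ^ j) w = w * (w⁻¹ * β w) ^ j := by
        intro j
        induction j with
        | zero => simp
        | succ j ih =>
          rw [pow_succ', MulAut.mul_apply, ih, map_mul, map_pow, hC _ (hstab w), pow_succ', ← mul_assoc]
          group
      rw [key, MulAut.one_apply]
      obtain ⟨i, hi⟩ := hstab w
      simp only at hi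
      rw [← hi, ← zpow_natCast (x ^ i), ← zpow_mul, mul_comm, zpow_mul, zpow_natCast, ← hx,
        pow_orderOf_eq_one, one_zpow, mul_one]
    rcases Nat.eq_zero_or_pos n with hn | hn
    · exact ⟨0, by subst hn; simpa [← hβ] using hb1⟩
    · refine ⟨(n - 1) + n, ?_⟩
      rw [pow_add, pow_mul]
      rw [Nat.totient_prime_pow Nat.prime_two hn] at hβ
      simp only [show (2 : ℕ) - 1 = 1 from rfl, mul_one] at hβ
      rw [hβ, hb1]
  rcases h with ⟨m, hm, ⟨e⟩⟩ | ⟨n, hn, hcard, x, y, hx, hy, hxy⟩
  · have hcardX : Nat.card X = 2 * m := by rw [Nat.card_congr e.toEquiv, DihedralGroup.nat_card]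
    obtain ⟨k, hk⟩ := (haveI : Fact (Nat.Prime 2) := ⟨Nat.prime_two⟩; IsPGroup.iff_card.mp h2)
    obtain ⟨j, -, hj⟩ : ∃ j ≤ k, m = 2 ^ j := (Nat.dvd_prime_pow Nat.prime_two).mp ⟨2, by rw [← hk, hcardX, mul_comm]⟩
    let x : X := e.symm (DihedralGroup.r 1)
    have hx : orderOf x = 2 ^ j := by
      rw [show x = e.symm (DihedralGroup.r 1) from rfl, e.symm.orderOf_eq, DihedralGroup.orderOf_r_one, hj]
    have hidx : (Subgroup.zpowers x).index = 2 := by
      have := (Subgroup.zpowers x).card_mul_index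
      rw [Nat.card_zpowers, hx, hcardX, ← hj, mul_comm 2 m] at this
      exact Nat.eq_of_mul_eq_mul_left (by omega) this
    refine main j x hx hidx fun w hw => ?_
    rcases hew : e w with i | i
    · haveI : NeZero m := ⟨by omega⟩
      refine ⟨(i.val : ℤ), e.injective ?_⟩
      simp [x, hew]
    · have := e.orderOf_eq w
      rw [hew, DihedralGroup.orderOf_sr, hw, ← hj] at this
      omega
  · obtain ⟨r, rfl⟩ : ∃ r, n = r + 3 := ⟨n - 3, by omega⟩
    have hidx : (Subgroup.zpowers x).index = 2 := by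
      have := (Subgroup.zpowers x).card_mul_index
      rw [Nat.card_zpowers, hx, hcard, pow_succ] at this
      exact Nat.eq_of_mul_eq_mul_left (by positivity) this
    have hs : (2 : ℕ) ^ (r + 3 - 1) - 1 = 4 * 2 ^ r - 1 := by
      rw [show r + 3 - 1 = r + 2 from rfl, pow_add]; ring_nf
    rw [hs] at hxy
    have hyn : y ∉ Subgroup.zpowers x := by
      intro hmem
      obtain ⟨i, rfl⟩ := hmem
      rw [show x ^ i * x * (x ^ i)⁻¹ = x ^ 1 by group] at hxy
      have := pow_eq_pow_iff_modEq.mp hxy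
      have hp := Nat.one_le_two_pow (n := r)
      have hN : (2 : ℕ) ^ (r + 3) = 8 * 2 ^ r := by rw [pow_add]; ring
      rw [hx, hN, Nat.ModEq, Nat.mod_eq_of_lt (by omega), Nat.mod_eq_of_lt (by omega)] at this
      omega
    refine main (r + 3) x hx hidx fun w hw => ?_
    by_contra hwn
    have hy2 : y * y = 1 := by rw [← sq, ← hy, pow_orderOf_eq_one]
    have hwy : w * y ∈ Subgroup.zpowers x := by
      rw [Subgroup.mul_mem_iff_of_index_two hidx]
      exact iff_of_false hwn hyn
    obtain ⟨i, hi⟩ := (isOfFinOrder_of_finite x).mem_powers_iff_mem_zpowers.mpr hwy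
    change x ^ i = w * y at hi
    have hwe : w = x ^ i * y := by rw [hi, mul_assoc, hy2, mul_one]
    have hconj : y * x ^ i * y = x ^ ((4 * 2 ^ r - 1) * i) := by
      have hyinv : y⁻¹ = y := inv_eq_of_mul_eq_one_left hy2
      rw [pow_mul, ← hxy, conj_pow, hyinv]
    have hw4 : w ^ 4 = 1 := by
      have h2w : w ^ 2 = x ^ (4 * 2 ^ r * i) := by
        rw [hwe, sq]
        calc x ^ i * y * (x ^ i * y) = x ^ i * (y * x ^ i * y) := by group
          _ = x ^ i * x ^ ((4 * 2 ^ r - 1) * i) := by rw [hconj]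
          _ = x ^ (4 * 2 ^ r * i) := by
            rw [← pow_add]
            congr 1
            have hp := Nat.one_le_two_pow (n := r)
            obtain ⟨c, hc⟩ : ∃ c, 4 * 2 ^ r = c + 1 := ⟨4 * 2 ^ r - 1, by omega⟩
            rw [hc]; simp [add_mul, add_comm]
      rw [show w ^ 4 = (w ^ 2) ^ 2 by rw [← pow_mul], h2w, ← pow_mul,
        show 4 * 2 ^ r * i * 2 = orderOf x * i by rw [hx, pow_add]; ring, pow_mul, pow_orderOf_eq_one, one_pow]
    have := orderOf_dvd_of_pow_eq_one hw4
    rw [hw] at this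
    have h8 : 8 ≤ 2 ^ (r + 3) := by
      calc 8 = 2 ^ 3 := rfl
        _ ≤ _ := Nat.pow_le_pow_right (by norm_num) (by omega)
    have := Nat.le_of_dvd (by norm_num) this
    omega

end Cfsg.Agent.S3116
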