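import Cfsg.Statements.S3117
import Mathlib
import Cfsg.Agent.Lib.StdForm.TwoGroupAut

set_option autoImplicit false
open Cfsg

namespace Cfsg.Agent.S3117

/-- If X is a finite 2-group containing exactly three involutions, then the automorphism group of X is solvable. -/
theorem result {X : Type*} [Group X] [Finite X] (h2 : IsPGroup 2 X) (h3 : Nat.card {x : X // orderOf x = 2} = 3) : Group.IsSolvable (MulAut X) := by
  classical
  haveI : Fact (Nat.Prime 2) := ⟨Nat.prime_two⟩
  haveI : Nontrivial X := by
    have : Nonempty {x : X // orderOf x = 2} := by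
      rw [← not_isEmpty_iff]
      intro h
      rw [Nat.card_of_isEmpty] at h3
      omega
    obtain ⟨x, hx⟩ := this
    exact ⟨⟨x, 1, fun h => by simp [h] at hx⟩⟩
  haveI := h2.center_nontrivial
  obtain ⟨k, hk⟩ := IsPGroup.iff_card.mp (h2.to_subgroup (Subgroup.center X))
  have h2d : 2 ∣ Nat.card ↥(Subgroup.center X) := by
    rw [hk]
    refine dvd_pow_self 2 fun h0 => ?_
    rw [h0, pow_zero] at hk
    exact absurd hk (Finite.one_lt_card (α := ↥(Subgroup.center X))).ne'
  obtain ⟨z, hz⟩ := exists_prime_orderOf_dvd_card' 2 h2d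
  have hz' : orderOf (z : X) = 2 := by rw [Subgroup.orderOf_coe, hz]
  have hzz : (z : X) * z = 1 := by rw [← sq, ← hz', pow_orderOf_eq_one]
  have hz1 : (z : X) ≠ 1 := fun h => by simp [h] at hz'
  have hzc : ∀ g, g * (z : X) = z * g := Subgroup.mem_center_iff.mp z.2
  have hord : ∀ x : X, x * x = 1 → x ≠ 1 → orderOf x = 2 := fun x hx hx1 =>
    orderOf_eq_prime (by rw [sq, hx]) hx1
  obtain ⟨u, hu, huz⟩ : ∃ u : X, orderOf u = 2 ∧ u ≠ z := by
    by_contra hc
    push Not at hc
    haveI : Subsingleton {x : X // orderOf x = 2} :=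
      ⟨fun a b => Subtype.ext ((hc a a.2).trans (hc b b.2).symm)⟩
    have := Finite.card_le_one_iff_subsingleton.mpr (inferInstance : Subsingleton {x : X // orderOf x = 2})
    omega
  have huu : u * u = 1 := by rw [← sq, ← hu, pow_orderOf_eq_one]
  have hu1 : u ≠ 1 := fun h => by simp [h] at hu
  have hw : u * z * (u * z) = 1 := by
    calc u * (z : X) * (u * z) = u * ((z : X) * u) * z := by group
      _ = u * (u * (z : X)) * z := by rw [hzc u]
      _ = (u * u) * ((z : X) * z) := by group
      _ = 1 := by rw [huu, hzz, one_mul]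
  have hwu : u * z ≠ u := fun h => hz1 (mul_eq_left.mp h)
  have hwz : u * z ≠ z := fun h => hu1 (mul_eq_right.mp h)
  have hw1 : u * z ≠ 1 := fun h => huz ((mul_left_cancel (a := u) (h.trans huu.symm)).symm)
  have hcases : ∀ x : X, x * x = 1 → x = 1 ∨ x = u ∨ x = z ∨ x = u * z := by
    intro x hx
    by_contra hc
    simp only [not_or] at hc
    obtain ⟨c1, c2, c3, c4⟩ := hc
    let f : Fin 4 → {y : X // orderOf y = 2} :=
      ![⟨x, hord x hx c1⟩, ⟨u, hu⟩, ⟨z, hz'⟩, ⟨u * z, hord _ hw hw1⟩]
    have hf : Function.Injective f := by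
      intro i j hij
      have h := congrArg Subtype.val hij
      revert h
      fin_cases i <;> fin_cases j <;>
        simp [f, c2, c3, c4, huz, hwu, hwz, Ne.symm c2, Ne.symm c3, Ne.symm c4, Ne.symm huz, Ne.symm hwu, Ne.symm hwz, hz1, hu1]
    have := Nat.card_le_card_of_injective f hf
    rw [h3, Nat.card_fin] at this
    omega
  let E : Subgroup X :=
    { carrier := {x | x * x = 1}
      one_mem' := one_mul 1
      mul_mem' := by
        intro a b ha hb
        have hab : b * a = a * b := by
          rcases hcases a ha with rfl | rfl | rfl | rfl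
          · simp
          · rcases hcases b hb with rfl | rfl | rfl | rfl
            · simp
            · rfl
            · exact (hzc a).symm
            · calc a * z * a = a * ((z : X) * a) := mul_assoc _ _ _
                _ = a * (a * z) := by rw [hzc]
          · exact hzc b
          · rcases hcases b hb with rfl | rfl | rfl | rfl
            · simp
            · calc b * (b * (z : X)) = b * ((z : X) * b) := by rw [hzc]
                _ = b * z * b := (mul_assoc _ _ _).symm
            · exact (hzc _).symm
            · rfl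
        show a * b * (a * b) = 1
        calc a * b * (a * b) = a * (b * a) * b := by group
          _ = a * (a * b) * b := by rw [hab]
          _ = (a * a) * (b * b) := by group
          _ = 1 := by rw [ha, hb, one_mul]
      inv_mem' := by
        intro a ha
        show a⁻¹ * a⁻¹ = 1
        rw [← mul_inv_rev, ha, inv_one] }
  have hEmem : ∀ x, x ∈ E ↔ x * x = 1 := fun x => Iff.rfl
  have hEcomm : ∀ a ∈ E, ∀ b ∈ E, a * b = b * a := by
    intro a ha b hb
    have h := E.mul_mem ha hb
    rw [hEmem] at h ha hb
    calc a * b = (a * b)⁻¹ := (inv_eq_of_mul_eq_one_left h).symm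
      _ = b * a := by rw [mul_inv_rev, inv_eq_of_mul_eq_one_left ha, inv_eq_of_mul_eq_one_left hb]
  have hEn : E.Normal := ⟨fun a ha g => by
    rw [hEmem] at ha ⊢
    calc g * a * g⁻¹ * (g * a * g⁻¹) = g * (a * a) * g⁻¹ := by group
      _ = 1 := by rw [ha]; group⟩
  have hEφ : ∀ (φ : MulAut X) (x : X), x ∈ E → φ x ∈ E := fun φ x hx => by
    rw [hEmem] at hx ⊢
    rw [← map_mul, hx, map_one]
  let C : Subgroup X := Subgroup.centralizer (E : Set X)
  have hCφ : ∀ (φ : MulAut X) (x : X), x ∈ C → φ x ∈ C := fun φ x hx => by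
    refine Subgroup.mem_centralizer_iff.mpr fun e he => ?_
    have := congrArg φ (Subgroup.mem_centralizer_iff.mp hx _ (hEφ φ.symm e he))
    simpa using this
  have hE4 : Nat.card ↥E ≤ 4 := by
    let f : ↥E → Fin 4 := fun x =>
      if (x : X) = 1 then 0 else if (x : X) = u then 1 else if (x : X) = z then 2 else 3
    have hf : Function.Injective f := by
      intro a b hab
      apply Subtype.ext
      rcases hcases a a.2 with ha | ha | ha | ha <;> rcases hcases b b.2 with hb | hb | hb | hb <;>
        simp only [f, ha, hb, hu1, hz1, hw1, huz, Ne.symm huz, hwu, hwz, if_true, if_false] at hab ⊢ <;>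
        exact absurd hab (by decide)
    simpa using Nat.card_le_card_of_injective f hf
  let inv : MulAut X →* Equiv.Perm {x : X // orderOf x = 2} :=
    { toFun := fun φ => φ.toEquiv.subtypeEquiv (fun x => by simp [MulEquiv.orderOf_eq])
      map_one' := by ext x; rfl
      map_mul' := fun a b => by ext x; rfl }
  refine CfsgLib.StdForm.isSolvable_of_ker_range inv ?_
    (CfsgLib.StdForm.isSolvable_subgroup (CfsgLib.StdForm.isSolvable_perm_of_card_le_four _ (by omega)) _)
  have hfix : ∀ φ : ↥inv.ker, ∀ e ∈ E, (φ : MulAut X) e = e := by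
    intro φ e he
    by_cases he1 : e = 1
    · simp [he1]
    exact congrArg Subtype.val (Equiv.ext_iff.mp φ.2 ⟨e, hord e ((hEmem e).mp he) he1⟩)
  let res : ↥inv.ker →* MulAut ↥C :=
    { toFun := fun φ =>
        { toFun := fun x => ⟨(φ : MulAut X) x, hCφ _ x x.2⟩
          invFun := fun x => ⟨((φ⁻¹ : ↥inv.ker) : MulAut X) x, hCφ _ x x.2⟩
          left_inv := fun x => Subtype.ext (by simp)
          right_inv := fun x => Subtype.ext (by simp)
          map_mul' := fun x y => Subtype.ext (by simp) }
      map_one' := by ext x; rfl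
      map_mul' := fun a b => by ext x; rfl }
  have hEC : E ≤ C := fun e he => Subgroup.mem_centralizer_iff.mpr fun f hf => hEcomm f hf e he
  refine CfsgLib.StdForm.isSolvable_of_ker_range res ?_ ?_
  · have hker : IsPGroup 2 ↥res.ker := by
      intro φ
      generalize hgdef : (((φ : ↥inv.ker)) : MulAut X) = γ
      have hC : ∀ c ∈ C, γ c = c := fun c hc => by
        rw [← hgdef]
        exact congrArg (fun y : ↥C => (y : X)) (MulEquiv.congr_fun φ.2 ⟨c, hc⟩)
      have hd : ∀ w : X, w⁻¹ * γ w ∈ C := by
        intro w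
        refine Subgroup.mem_centralizer_iff.mpr fun e he => ?_
        have h1 : γ (w * e * w⁻¹) = w * e * w⁻¹ := by
          rw [← hgdef]; exact hfix (φ : ↥inv.ker) _ (hEn.conj_mem e he w)
        rw [map_mul, map_mul, map_inv, hC e (hEC he)] at h1
        calc e * (w⁻¹ * γ w) = w⁻¹ * (w * e * w⁻¹) * γ w := by group
          _ = w⁻¹ * (γ w * e * (γ w)⁻¹) * γ w := by rw [h1]
          _ = w⁻¹ * γ w * e := by group
      have key : ∀ (j : ℕ) (w : X), (γ ^ j) w = w * (w⁻¹ * γ w) ^ j := by
        intro j w
        induction j with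
        | zero => simp
        | succ j ih =>
          rw [pow_succ', MulAut.mul_apply, ih, map_mul, map_pow, hC _ (hd w), pow_succ', ← mul_assoc, mul_inv_cancel_left]
      obtain ⟨m, hm⟩ := IsPGroup.iff_card.mp h2
      refine ⟨m, Subtype.ext (Subtype.ext ?_)⟩
      simp only [SubgroupClass.coe_pow, OneMemClass.coe_one, hgdef]
      refine MulEquiv.ext fun w => ?_
      rw [key, ← hm, pow_card_eq_one', mul_one, MulAut.one_apply]
    haveI := hker.isNilpotent
    infer_instance
  · refine CfsgLib.StdForm.isSolvable_of_fix_involutions (h2.to_subgroup C) (E.subgroupOf C) (fun x => ?_) ?_ ?_ res.range ?_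
    · rw [Subgroup.mem_subgroupOf, hEmem, ← Subgroup.coe_mul, OneMemClass.coe_eq_one]
    · intro e he
      exact Subgroup.mem_center_iff.mpr fun g => Subtype.ext ((Subgroup.mem_centralizer_iff.mp g.2 e he).symm)
    · rw [Nat.card_congr (Subgroup.subgroupOfEquivOfLe hEC).toEquiv]; exact hE4
    · rintro _ ⟨φ, rfl⟩ e he
      exact Subtype.ext (hfix φ e he)

end Cfsg.Agent.S3117
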