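import Cfsg.Statements.S3125
import Cfsg.Agent.Lib.KInf.SelfNormalizing
import Cfsg.Agent.Lib.Char.Burnside

set_option autoImplicit false
open Cfsg
open scoped commutatorElement

namespace Cfsg.Agent.S3125

/-- Let G be a finite group such that, for every prime p dividing the order of G, every Sylow p-subgroup of G is its own normalizer. Then G is not a non-abelian simple group. -/
theorem result {G : Type*} [Group G] [Finite G]
    (h : ∀ p : ℕ, p.Prime → p ∣ Nat.card G → ∀ P : Sylow p G, Subgroup.normalizer ((P : Subgroup G) : Set G) = P) :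
    ¬ (IsSimpleGroup G ∧ ¬ IsMulCommutative G) := by
  rintro ⟨hs, hnc⟩
  have hperf : commutator G = ⊤ := by
    rcases hs.eq_bot_or_eq_top_of_normal (commutator G) inferInstance with h1 | h1
    · refine absurd ⟨⟨fun a b => ?_⟩⟩ hnc
      have h2 : ⁅a, b⁆ ∈ commutator G := Subgroup.commutator_mem_commutator (Subgroup.mem_top a) (Subgroup.mem_top b)
      rw [h1, Subgroup.mem_bot] at h2
      exact commutatorElement_eq_one_iff_mul_comm.mp h2
    · exact h1
  have hns : ¬ Group.IsSolvable G := fun hsol => by
    haveI := hsol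
    exact (Group.IsSolvable.commutator_lt_top_of_nontrivial G).ne hperf
  obtain ⟨p, hp, hpG, h5⟩ : ∃ p : ℕ, p.Prime ∧ p ∣ Nat.card G ∧ 5 ≤ p := by
    by_contra hcon
    push Not at hcon
    refine hns (CfsgLib.Char.isSolvable_of_two_primes 2 3 Nat.prime_two Nat.prime_three _ G rfl fun r hr hrd => ?_)
    have := hcon r hr hrd
    have := hr.two_le
    interval_cases r
    · exact Or.inl rfl
    · exact Or.inr rfl
    · norm_num at hr
  haveI : Fact p.Prime := ⟨hp⟩
  obtain ⟨P⟩ : Nonempty (Sylow p G) := inferInstance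
  exact CfsgLib.KInf.not_le_commutator_of_sylow_selfNormalizing h5 _ G rfl P (P.ne_bot_of_dvd_card hpG)
    (h p hp hpG P) (hperf ▸ le_top)

end Cfsg.Agent.S3125
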