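import Cfsg.Statements.S3150
import Cfsg.Agent.Lib.CoZeroInvol.Standard

set_option autoImplicit false
open Cfsg

namespace Cfsg.Agent.S3150

/-- Let G be a finite group with no nontrivial normal subgroup of odd order and A a standard subgroup of G isomorphic to the automorphism group of the Leech lattice (the double cover of the first Conway group). If the centralizer of A in G has cyclic Sylow 2-subgroups, then A is normal in G. -/
theorem result {G : Type*} [Group G] [Finite G] (hO : Cfsg.oddCore G = ⊥) (A : Subgroup G) (hA : Cfsg.IsStandardSubgroup A)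
    (hAX : Nonempty (↥A ≃* ↥Cfsg.Co0)) (hR : ∀ R : Sylow 2 ↥(Subgroup.centralizer (A : Set G)), IsCyclic ↥(R : Subgroup ↥(Subgroup.centralizer (A : Set G)))) : A.Normal := by
  obtain ⟨e⟩ := hAX
  have hf : (A.subtype.comp e.symm.toMonoidHom).range = A := by
    rw [MonoidHom.range_comp, MonoidHom.range_eq_top.2 e.symm.surjective, ← MonoidHom.range_eq_map,
      Subgroup.range_subtype]
  have hn := (CfsgLib.CoZeroInvol.StdData.normal
    { f := A.subtype.comp e.symm.toMonoidHom
      inj := A.subtype_injective.comp e.symm.injective
      std := hf.symm ▸ hA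
      cyc := by rw [hf]; exact hR } hO)
  rwa [hf] at hn

end Cfsg.Agent.S3150
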