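import Cfsg.Statements.S3153
import Mathlib
import Cfsg.Agent.Lib.StdForm.Basic

set_option autoImplicit false
open Cfsg

namespace Cfsg.Agent.S3153

/-- Let X be a finite group and P a standard subgroup of X whose centralizer has 2-rank at most 1 and whose centre has odd order. Let S be a Sylow 2-subgroup of N_X(P) and t an involution of S centralizing P. Suppose some element g of X normalizes S, does not lie in S, has its square in S, and conjugates t into P·C_X(P). Then P commutes elementwise with the largest normal odd-order subgroup O(X) of X; consequently every t-invariant 2-component of X containing P is quasisimple. -/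
theorem result {X : Type*} [Group X] [Finite X] (P : Subgroup X) (hP : Cfsg.IsStandardSubgroup P)
    (hr : Cfsg.PRankLE 2 1 ↥(Subgroup.centralizer (P : Set X))) (hZ : Odd (Nat.card ↥(Subgroup.center ↥P)))
    (S : Sylow 2 ↥(Subgroup.normalizer (P : Set X))) (t : X) (ht : orderOf t = 2) (htS : t ∈ (S : Subgroup ↥(Subgroup.normalizer (P : Set X))).map (Subgroup.normalizer (P : Set X)).subtype)
    (htP : t ∈ Subgroup.centralizer (P : Set X))
    (g : X) (hgN : ∀ s ∈ (S : Subgroup ↥(Subgroup.normalizer (P : Set X))).map (Subgroup.normalizer (P : Set X)).subtype, g * s * g⁻¹ ∈ (S : Subgroup ↥(Subgroup.normalizer (P : Set X))).map (Subgroup.normalizer (P : Set X)).subtype)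
    (hgS : g ∉ (S : Subgroup ↥(Subgroup.normalizer (P : Set X))).map (Subgroup.normalizer (P : Set X)).subtype) (hg2 : g ^ 2 ∈ (S : Subgroup ↥(Subgroup.normalizer (P : Set X))).map (Subgroup.normalizer (P : Set X)).subtype)
    (hgt : g * t * g⁻¹ ∈ P ⊔ Subgroup.centralizer (P : Set X)) :
    ⁅P, Cfsg.oddCore X⁆ = ⊥ ∧
      ∀ L : Subgroup X, Cfsg.IsPComponent 2 L → P ≤ L → (∀ l ∈ L, t * l * t⁻¹ ∈ L) → Cfsg.IsQuasisimple ↥L := by
  classical
  haveI : Fact (Nat.Prime 2) := ⟨Nat.prime_two⟩
  obtain ⟨hq, ⟨-, htight⟩, -, hNN⟩ := hP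
  haveI := hq.1
  generalize hSdef : (S : Subgroup ↥(Subgroup.normalizer (P : Set X))).map
    (Subgroup.normalizer (P : Set X)).subtype = S₀ at htS hgN hgS hg2
  have hS2 : IsPGroup 2 ↥S₀ := hSdef ▸ S.isPGroup'.map _
  have hSN : S₀ ≤ Subgroup.normalizer (P : Set X) := hSdef ▸ Subgroup.map_subtype_le _
  have htt : t * t = 1 := by rw [← sq, ← ht, pow_orderOf_eq_one]
  have ht1 : t ≠ 1 := fun h => by simp [h] at ht
  -- `g` is not in the normalizer
  have hgnN : g ∉ Subgroup.normalizer (P : Set X) := by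
    intro hgn
    obtain ⟨k, hk⟩ := hS2 ⟨g ^ 2, hg2⟩
    have hk' : g ^ (2 ^ (k + 1)) = 1 := by
      rw [pow_succ', pow_mul]; simpa using congrArg Subtype.val hk
    let g' : ↥(Subgroup.normalizer (P : Set X)) := ⟨g, hgn⟩
    have hz : IsPGroup 2 ↥(Subgroup.zpowers g') := by
      intro x
      obtain ⟨i, hi⟩ := x.2
      simp only at hi
      refine ⟨k + 1, Subtype.ext ?_⟩
      simp only [SubgroupClass.coe_pow, OneMemClass.coe_one, ← hi]
      rw [← zpow_natCast, ← zpow_mul, mul_comm, zpow_mul, zpow_natCast,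
        show g' ^ (2 ^ (k + 1)) = 1 from Subtype.ext (by simpa [g'] using hk'), one_zpow]
    have hnorm : Subgroup.zpowers g' ≤ Subgroup.normalizer ((S : Subgroup ↥(Subgroup.normalizer (P : Set X))) : Set _) := by
      rw [Subgroup.zpowers_le]
      refine CfsgLib.StdForm.mem_normalizer_of_conj_mem fun x hx => ?_
      obtain ⟨y, hy, hye⟩ := Subgroup.mem_map.mp (hSdef ▸ hgN x (hSdef ▸ Subgroup.mem_map_of_mem _ hx))
      have : y = g' * x * g'⁻¹ := Subtype.ext (by simpa [g'] using hye)
      exact this ▸ hy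
    have := S.is_maximal' (hz.to_sup_of_normal_right' S.isPGroup' hnorm) le_sup_right
    exact hgS (hSdef ▸ Subgroup.mem_map_of_mem _ (this ▸ Subgroup.mem_sup_left (Subgroup.mem_zpowers g') : g' ∈ (S : Subgroup ↥(Subgroup.normalizer (P : Set X)))))
  -- tight embedding
  have hmeet : ∀ c : X, ∀ a : X, a ∈ Subgroup.centralizer (P : Set X) → orderOf a = 2 →
      c * a * c⁻¹ = a → c ∈ Subgroup.normalizer (P : Set X) := by
    intro c a haC ha hca
    rw [hNN]
    by_contra hc
    have hodd := htight c hc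
    have hmem : a ∈ Subgroup.centralizer (P : Set X) ⊓ (Subgroup.centralizer (P : Set X)).map (MulAut.conj c).toMonoidHom :=
      ⟨haC, Subgroup.mem_map.mpr ⟨a, haC, by simpa using hca⟩⟩
    have h2 : orderOf a ∣ Nat.card ↥(Subgroup.centralizer (P : Set X) ⊓ (Subgroup.centralizer (P : Set X)).map (MulAut.conj c).toMonoidHom) := by
      rw [← Nat.card_zpowers]
      exact Subgroup.card_dvd_of_le (Subgroup.zpowers_le.mpr hmem)
    rw [ha] at h2
    exact (Nat.not_even_iff_odd.mpr hodd) (even_iff_two_dvd.mpr h2)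
  -- commuting involutions of the centralizer coincide
  have huniq : ∀ a b : X, a ∈ Subgroup.centralizer (P : Set X) → b ∈ Subgroup.centralizer (P : Set X) →
      a * a = 1 → b * b = 1 → Commute a b → b ≠ 1 → a = 1 ∨ a = b := by
    intro a b ha hb ha2 hb2 hab hb1
    by_contra hne
    rw [not_or] at hne
    let a' : ↥(Subgroup.centralizer (P : Set X)) := ⟨a, ha⟩
    let b' : ↥(Subgroup.centralizer (P : Set X)) := ⟨b, hb⟩
    have hab' : a' * b' = b' * a' := Subtype.ext hab.eq
    let E := Subgroup.closure ({a', b'} : Set ↥(Subgroup.centralizer (P : Set X)))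
    have hEc : IsMulCommutative ↥E := Subgroup.isMulCommutative_closure (k := {a', b'}) (by
      rintro x (rfl | rfl) y (rfl | rfl)
      exacts [rfl, hab', hab'.symm, rfl])
    have hE2 : ∀ x ∈ E, x ^ 2 = 1 := by
      intro x hx
      induction hx using Subgroup.closure_induction with
      | mem x hx =>
        rcases hx with rfl | rfl
        · exact Subtype.ext (by simpa [sq, a'] using ha2)
        · exact Subtype.ext (by simpa [sq, b'] using hb2)
      | one => simp
      | mul x y hx hy h1 h2 =>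
        rw [Commute.mul_pow (congrArg Subtype.val (hEc.is_comm.comm (⟨x, hx⟩ : E) ⟨y, hy⟩)), h1, h2, one_mul]
      | inv x hx h1 => rw [inv_pow, h1, inv_one]
    have hle := hr E hEc hE2
    have : Function.Injective (fun i : Fin 3 => (![1, ⟨a', Subgroup.subset_closure (by simp)⟩, ⟨b', Subgroup.subset_closure (by simp)⟩] : Fin 3 → ↥E) i) := by
      intro i j hij
      have h := congrArg (fun e : ↥E => ((e : ↥(Subgroup.centralizer (P : Set X))) : X)) hij
      revert h
      fin_cases i <;> fin_cases j <;> simp [a', b', hne.1, hne.2, hb1, Ne.symm hne.1, Ne.symm hb1, Ne.symm hne.2]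
    have := Nat.card_le_card_of_injective _ this
    simp at this
    omega
  -- `t` is central in `S₀`
  have hCS : ∀ s ∈ S₀, ∀ c ∈ Subgroup.centralizer (P : Set X), s * c * s⁻¹ ∈ Subgroup.centralizer (P : Set X) := by
    intro s hs c hc
    have := hSN hs
    rw [hNN] at this
    exact (Subgroup.mem_normalizer_iff.mp this c).mp hc
  have hcent : ∀ s ∈ S₀, s * t * s⁻¹ = t := by
    let D : Subgroup X := S₀ ⊓ Subgroup.centralizer (P : Set X)
    have hD : IsPGroup 2 ↥D := hS2.to_le inf_le_left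
    haveI : Nontrivial ↥D := ⟨⟨⟨t, htS, htP⟩, 1, fun h => ht1 (congrArg Subtype.val h)⟩⟩
    haveI := hD.center_nontrivial
    obtain ⟨k, hk⟩ := IsPGroup.iff_card.mp (hD.to_subgroup (Subgroup.center ↥D))
    have h2d : 2 ∣ Nat.card ↥(Subgroup.center ↥D) := by
      rw [hk]
      refine dvd_pow_self 2 fun h0 => ?_
      rw [h0, pow_zero] at hk
      exact absurd hk (Finite.one_lt_card (α := ↥(Subgroup.center ↥D))).ne'
    obtain ⟨z, hz⟩ := exists_prime_orderOf_dvd_card' 2 h2d
    have hz2 : ((z : ↥D) : X) * (z : ↥D) = 1 := by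
      rw [← sq]
      have := pow_orderOf_eq_one z
      rw [hz] at this
      exact_mod_cast congrArg (fun w : ↥(Subgroup.center ↥D) => ((w : ↥D) : X)) this
    have hz1 : ((z : ↥D) : X) ≠ 1 := by
      intro h
      have : z = 1 := Subtype.ext (Subtype.ext h)
      simp [this] at hz
    have key : ∀ a : X, (hm : a ∈ D) → a * a = 1 → a ≠ 1 → a = ((z : ↥D) : X) := by
      intro a hm ha ha1
      exact (huniq a _ hm.2 (z : ↥D).2.2 ha hz2
        (congrArg Subtype.val (Subgroup.mem_center_iff.mp z.2 ⟨a, hm⟩)) hz1).resolve_left ha1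
    intro s hs
    rw [key t ⟨htS, htP⟩ htt ht1]
    refine key _ ⟨S₀.mul_mem (S₀.mul_mem hs (z : ↥D).2.1) (S₀.inv_mem hs), hCS s hs _ (z : ↥D).2.2⟩ ?_ ?_
    · calc _ = s * (((z : ↥D) : X) * (z : ↥D)) * s⁻¹ := by group
        _ = 1 := by rw [hz2]; group
    · intro h
      exact hz1 (by simpa using conj_eq_one_iff.mp h)
  obtain ⟨t', ht'def⟩ : ∃ t', g * t * g⁻¹ = t' := ⟨_, rfl⟩
  rw [ht'def] at hgt
  have ht'2 : t' * t' = 1 := by
    calc t' * t' = g * (t * t) * g⁻¹ := by rw [← ht'def]; group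
      _ = 1 := by rw [htt]; group
  have ht'S : t' ∈ S₀ := ht'def ▸ hgN t htS
  have htt' : Commute t t' := by
    have := hcent t' ht'S
    exact (mul_inv_eq_iff_eq_mul.mp this).symm
  have hne : t' ≠ t := fun h => hgnN (hmeet g t htP ht (ht'def.trans h))
  have hswap : g * t' * g⁻¹ = t := by
    rw [← ht'def]
    calc g * (g * t * g⁻¹) * g⁻¹ = g ^ 2 * t * (g ^ 2)⁻¹ := by rw [sq]; group
      _ = t := hcent _ hg2
  -- decomposition of `t'`
  have hCN : Subgroup.centralizer (P : Set X) ≤ Subgroup.normalizer (P : Set X) := by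
    rw [hNN]; exact Subgroup.le_normalizer
  obtain ⟨p₀, hp₀, c₀, hc₀, hpc⟩ := (CfsgLib.Solvable.mem_sup_of_le_normalizer hCN).mp hgt
  have hcomm : ∀ x ∈ P, ∀ c ∈ Subgroup.centralizer (P : Set X), Commute x c := fun x hx c hc =>
    (Subgroup.mem_centralizer_iff.mp hc x hx)
  generalize hm : Nat.card ↥(Subgroup.center ↥P) = m at hZ
  have hp2 : (p₀ ^ m) * (p₀ ^ m) = 1 ∧ (c₀ ^ m) * (c₀ ^ m) = 1 := by
    have h1 : p₀ ^ 2 * c₀ ^ 2 = 1 := by
      rw [← (hcomm p₀ hp₀ c₀ hc₀).mul_pow, hpc, sq, ht'2]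
    have hzc : (⟨p₀ ^ 2, P.pow_mem hp₀ 2⟩ : ↥P) ∈ Subgroup.center ↥P := by
      refine Subgroup.mem_center_iff.mpr fun y => Subtype.ext ?_
      have : p₀ ^ 2 = (c₀ ^ 2)⁻¹ := eq_inv_of_mul_eq_one_left h1
      show (y : X) * p₀ ^ 2 = p₀ ^ 2 * y
      rw [this]
      exact (hcomm y y.2 _ (Subgroup.inv_mem _ (Subgroup.pow_mem _ hc₀ 2))).eq
    have h2 : p₀ ^ (2 * m) = 1 := by
      have hh := pow_card_eq_one' (x := (⟨_, hzc⟩ : ↥(Subgroup.center ↥P)))
      rw [hm] at hh
      rw [pow_mul]
      have := congrArg (fun w : ↥(Subgroup.center ↥P) => ((w : ↥P) : X)) hh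
      simpa using this
    refine ⟨by rw [← pow_add, ← two_mul]; exact h2, ?_⟩
    rw [← pow_add, ← two_mul, pow_mul]
    rw [eq_inv_of_mul_eq_one_right h1, inv_pow, ← pow_mul, h2, inv_one]
  obtain ⟨hpp, hcc⟩ := hp2
  generalize hp'def : p₀ ^ m = p at hpp
  generalize hc'def : c₀ ^ m = c at hcc
  have hp : p ∈ P := hp'def ▸ P.pow_mem hp₀ m
  have hc : c ∈ Subgroup.centralizer (P : Set X) := hc'def ▸ Subgroup.pow_mem _ hc₀ m
  have hpc' : p * c = t' := by
    rw [← hp'def, ← hc'def, ← (hcomm p₀ hp₀ c₀ hc₀).mul_pow, hpc]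
    obtain ⟨j, rfl⟩ := hZ
    rw [pow_succ, pow_mul, sq, ht'2, one_pow, one_mul]
  have hpt : Commute p t := hcomm p hp t htP
  have hct : Commute c t := by
    have : c = p⁻¹ * t' := by rw [← hpc']; group
    rw [this]
    exact (hpt.inv_left).mul_left htt'.symm
  have hp1 : p ≠ 1 := by
    intro h
    rw [h, one_mul] at hpc'
    rcases huniq c t hc htP hcc htt hct ht1 with h' | h'
    · rw [h'] at hpc'
      apply ht1
      have : g * t * g⁻¹ = 1 := ht'def.trans hpc'.symm
      simpa using conj_eq_one_iff.mp this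
    · exact hne (hpc'.symm.trans h')
  have hpor : p = t' ∨ p = t' * t := by
    rcases huniq c t hc htP hcc htt hct ht1 with h' | h'
    · left; rw [← hpc', h', mul_one]
    · right; rw [← hpc', h', mul_assoc, htt, mul_one]
  have hpZ : (⟨p, hp⟩ : ↥P) ∉ Subgroup.center ↥P := by
    intro hh
    have h1 : (⟨⟨p, hp⟩, hh⟩ : ↥(Subgroup.center ↥P)) ^ 2 = 1 :=
      Subtype.ext (Subtype.ext (by simpa [sq] using hpp))
    have h2 := pow_card_eq_one' (x := (⟨⟨p, hp⟩, hh⟩ : ↥(Subgroup.center ↥P)))
    rw [hm] at h2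
    obtain ⟨j, rfl⟩ := hZ
    rw [pow_succ, pow_mul, h1, one_pow, one_mul] at h2
    exact hp1 (congrArg (fun w : ↥(Subgroup.center ↥P) => ((w : ↥P) : X)) h2)
  -- the odd core
  haveI hOn : (Cfsg.oddCore X).Normal := CfsgLib.Solvable.pPrimeCore_normal 2 X
  have hOodd : Odd (Nat.card ↥(Cfsg.oddCore X)) :=
    Nat.coprime_two_right.mp (CfsgLib.Solvable.pPrimeCore_card_coprime 2 X)
  have hPO : (Cfsg.oddCore X).subgroupOf P ≤ Subgroup.center ↥P := by
    rcases CfsgLib.StdForm.normal_le_center_or_eq_top hq ((Cfsg.oddCore X).subgroupOf P) with h | h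
    · exact h
    · exfalso
      rw [Subgroup.subgroupOf_eq_top] at h
      have h2 : orderOf p ∣ Nat.card ↥(Cfsg.oddCore X) := by
        rw [← Nat.card_zpowers]
        exact Subgroup.card_dvd_of_le (Subgroup.zpowers_le.mpr (h hp))
      rw [orderOf_eq_prime (by rw [sq, hpp]) hp1] at h2
      exact (Nat.not_even_iff_odd.mpr hOodd) (even_iff_two_dvd.mpr h2)
  have hCOt : ∀ o ∈ Cfsg.oddCore X, Commute t o → o ∈ Subgroup.centralizer (P : Set X) := by
    intro o ho hto
    have hoN : o ∈ Subgroup.normalizer (P : Set X) := hmeet o t htP ht (by rw [← hto.eq]; group)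
    refine CfsgLib.StdForm.mem_centralizer_of_commutator_central hq.1 fun x hx => ?_
    have hcP : o * x * o⁻¹ * x⁻¹ ∈ P :=
      P.mul_mem ((Subgroup.mem_normalizer_iff.mp hoN x).mp hx) (P.inv_mem hx)
    refine ⟨hcP, fun y hy => ?_⟩
    have hcO : o * x * o⁻¹ * x⁻¹ ∈ Cfsg.oddCore X := by
      rw [show o * x * o⁻¹ * x⁻¹ = o * (x * o⁻¹ * x⁻¹) by group]
      exact Subgroup.mul_mem _ ho (hOn.conj_mem _ (Subgroup.inv_mem _ ho) x)
    exact congrArg Subtype.val (Subgroup.mem_center_iff.mp (hPO (show (⟨_, hcP⟩ : ↥P) ∈ (Cfsg.oddCore X).subgroupOf P from hcO)) ⟨y, hy⟩)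
  have h1 : ∀ o ∈ Cfsg.oddCore X, Commute t o → Commute t' o := by
    intro o ho hto
    have hpo : Commute p o := hcomm p hp o (hCOt o ho hto)
    rcases hpor with h | h
    · rwa [h] at hpo
    · rw [show t' = p * t by rw [h, mul_assoc, htt, mul_one]]
      exact hpo.mul_left hto
  have h2 : ∀ o ∈ Cfsg.oddCore X, Commute t' o → Commute t o := by
    intro o ho hto
    have e1 : Commute t (g * o * g⁻¹) := by
      rw [← hswap]
      exact (Commute.conj_iff g).mpr hto
    have e2 := h1 _ (hOn.conj_mem o ho g) e1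
    have e3 : Commute (g * t' * g⁻¹) (g * (g * o * g⁻¹) * g⁻¹) := (Commute.conj_iff g).mpr e2
    rw [hswap, ← hcent _ hg2, show g * (g * o * g⁻¹) * g⁻¹ = g ^ 2 * o * (g ^ 2)⁻¹ by rw [sq]; group] at e3
    exact (Commute.conj_iff _).mp e3
  have hnorm : ∀ x : X, x ∈ Subgroup.normalizer ((Cfsg.oddCore X : Subgroup X) : Set X) := fun x => by
    rw [Subgroup.normalizer_eq_top_iff.mpr hOn]; exact Subgroup.mem_top x
  have hu := CfsgLib.StdForm.mul_mem_centralizer_of_inf_centralizer_le hOodd ht'2 htt htt'.symm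
    (hnorm _) (hnorm _) h1 h2
  let K : Subgroup X := Subgroup.centralizer ((Cfsg.oddCore X : Subgroup X) : Set X)
  haveI : K.Normal := by
    constructor
    intro k hk x
    refine Subgroup.mem_centralizer_iff.mpr fun o ho => ?_
    have := Subgroup.mem_centralizer_iff.mp hk _ (hOn.conj_mem' o ho x)
    calc o * (x * k * x⁻¹) = x * ((x⁻¹ * o * x) * k) * x⁻¹ := by group
      _ = x * (k * (x⁻¹ * o * x)) * x⁻¹ := by rw [this]
      _ = x * k * x⁻¹ * o := by group
  have hPK : P ≤ K := by
    haveI : (K.subgroupOf P).Normal := inferInstance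
    rcases CfsgLib.StdForm.normal_le_center_or_eq_top hq (K.subgroupOf P) with h | h
    · exfalso
      rcases hpor with hp' | hp'
      swap
      · exact hpZ (h (show p ∈ K by rw [hp']; exact hu))
      have hKp : t * p ∈ K := by
        rw [hp', htt'.eq]
        exact hu
      apply hpZ
      refine Subgroup.mem_center_iff.mpr fun y => ?_
      have hy : p ∈ Subgroup.centralizer (P : Set X) := by
        refine CfsgLib.StdForm.mem_centralizer_of_commutator_central hq.1 fun x hx => ?_
        have hcP : p * x * p⁻¹ * x⁻¹ ∈ P :=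
          P.mul_mem (P.mul_mem (P.mul_mem hp hx) (P.inv_mem hp)) (P.inv_mem hx)
        refine ⟨hcP, fun w hw => ?_⟩
        have hcK : p * x * p⁻¹ * x⁻¹ ∈ K := by
          have hxt : Commute x t := hcomm x hx t htP
          have : p * x * p⁻¹ * x⁻¹ = (t * p) * (x * (t * p)⁻¹ * x⁻¹) := by
            calc p * x * p⁻¹ * x⁻¹ = p * (x * (p⁻¹ * x⁻¹)) := by group
              _ = p * (t * t) * (x * (p⁻¹ * x⁻¹)) := by rw [htt, mul_one]
              _ = (p * t) * (t * x) * (p⁻¹ * x⁻¹) := by group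
              _ = (t * p) * (x * t) * (p⁻¹ * x⁻¹) := by rw [hpt.eq, hxt.eq]
              _ = _ := by
                have htinv : t⁻¹ = t := inv_eq_of_mul_eq_one_left htt
                have : t * p⁻¹ = p⁻¹ * t := (hpt.inv_left).symm.eq
                rw [mul_inv_rev, htinv, ← this]; group
          rw [this]
          exact K.mul_mem hKp (‹K.Normal›.conj_mem _ (K.inv_mem hKp) x)
        exact congrArg Subtype.val (Subgroup.mem_center_iff.mp (h (show (⟨_, hcP⟩ : ↥P) ∈ K.subgroupOf P from hcK)) ⟨w, hw⟩)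
      exact Subtype.ext (Subgroup.mem_centralizer_iff.mp hy y y.2)
    · exact Subgroup.subgroupOf_eq_top.mp h
  refine ⟨Subgroup.commutator_eq_bot_iff_le_centralizer.mpr hPK, ?_⟩
  intro L hL hPL _
  obtain ⟨hsub, ⟨-, hqL⟩, hmin⟩ := hL
  let f : ↥L →* ↥(L.map (QuotientGroup.mk' (Cfsg.pPrimeCore 2 X))) := (QuotientGroup.mk' _).subgroupMap L
  have hf : Function.Surjective f := MonoidHom.subgroupMap_surjective _ L
  haveI := hqL.1
  haveI : ((K.subgroupOf L).map f).Normal := Subgroup.Normal.map inferInstance f hf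
  have hLK : L ≤ K := by
    have hstep : (K ⊓ L).IsSubnormal :=
      Subgroup.IsSubnormal.step _ L inf_le_right hsub (by rw [Subgroup.inf_subgroupOf_right]; infer_instance)
    have hmap : (K.subgroupOf L).map f = ⊤ := by
      rcases CfsgLib.StdForm.normal_le_center_or_eq_top hqL ((K.subgroupOf L).map f) with h | h
      · exfalso
        let j : ↥P →* ↥(L.map (QuotientGroup.mk' (Cfsg.pPrimeCore 2 X))) := f.comp (Subgroup.inclusion hPL)
        have hj : ∀ x, j x ∈ Subgroup.center _ := fun x =>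
          h (Subgroup.mem_map_of_mem f (show Subgroup.inclusion hPL x ∈ K.subgroupOf L from hPK x.2))
        have := CfsgLib.StdForm.hom_eq_one_of_perfect hq.1 j (fun a b => Subgroup.mem_center_iff.mp (hj b) (j a)) ⟨p, hp⟩
        have hpO : p ∈ Cfsg.oddCore X := (QuotientGroup.eq_one_iff p).mp (congrArg Subtype.val this)
        exact hpZ (hPO (show (⟨p, hp⟩ : ↥P) ∈ (Cfsg.oddCore X).subgroupOf P from hpO))
      · exact h
    have := hmin (K ⊓ L) hstep inf_le_right (by
      apply le_antisymm (Subgroup.map_mono inf_le_right)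
      rintro _ ⟨l, hl, rfl⟩
      have hh : f ⟨l, hl⟩ ∈ (K.subgroupOf L).map f := hmap ▸ Subgroup.mem_top _
      obtain ⟨k, hk, hke⟩ := Subgroup.mem_map.mp hh
      exact ⟨k, ⟨hk, k.2⟩, congrArg Subtype.val hke⟩)
    exact this ▸ inf_le_left
  have hker : ∀ x : ↥L, f x = 1 → x ∈ Subgroup.center ↥L := by
    intro x hx
    have hxO : (x : X) ∈ Cfsg.oddCore X := (QuotientGroup.eq_one_iff (x : X)).mp (congrArg Subtype.val hx)
    exact Subgroup.mem_center_iff.mpr fun y => Subtype.ext ((Subgroup.mem_centralizer_iff.mp (hLK y.2) _ hxO).symm)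
  have hperf : Group.IsPerfect ↥L := by
    have hstep : ((commutator ↥L).map L.subtype).IsSubnormal :=
      Subgroup.IsSubnormal.step _ L (Subgroup.map_subtype_le _) hsub (by
        rw [Subgroup.subgroupOf, Subgroup.comap_map_eq_self_of_injective L.subtype_injective]; infer_instance)
    have htop : (commutator ↥L).map f = ⊤ := by
      rw [commutator_def, Subgroup.map_commutator, Subgroup.map_top_of_surjective f hf, ← commutator_def]
      exact hqL.1.commutator_eq_top
    have := hmin _ hstep (Subgroup.map_subtype_le _) (by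
      apply le_antisymm (Subgroup.map_mono (Subgroup.map_subtype_le _))
      rintro _ ⟨l, hl, rfl⟩
      have hh : f ⟨l, hl⟩ ∈ (commutator ↥L).map f := htop ▸ Subgroup.mem_top _
      obtain ⟨k, hk, hke⟩ := Subgroup.mem_map.mp hh
      exact ⟨k, Subgroup.mem_map_of_mem _ hk, congrArg Subtype.val hke⟩)
    refine ⟨Subgroup.map_injective L.subtype_injective ?_⟩
    rw [this, ← MonoidHom.range_eq_map, L.range_subtype]
  refine ⟨hperf, ?_⟩
  let ψ := (QuotientGroup.mk' (Subgroup.center ↥(L.map (QuotientGroup.mk' (Cfsg.pPrimeCore 2 X))))).comp f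
  have hψk : ψ.ker = Subgroup.center ↥L := by
    apply le_antisymm
    · intro x hx
      have hx' : f x ∈ Subgroup.center _ := (QuotientGroup.eq_one_iff (f x)).mp hx
      have hc := CfsgLib.StdForm.mem_centralizer_of_commutator_central (P := (⊤ : Subgroup ↥L))
        (c := x) (Group.IsPerfect.top_iff.mpr hperf) (fun y _ => ⟨Subgroup.mem_top _, fun w _ => by
          refine Subgroup.mem_center_iff.mp (hker _ ?_) w
          simp only [map_mul, map_inv]
          rw [← Subgroup.mem_center_iff.mp hx' (f y)]; group⟩)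
      exact Subgroup.mem_center_iff.mpr fun y => Subgroup.mem_centralizer_iff.mp hc y (Subgroup.mem_top y)
    · intro x hx
      refine (QuotientGroup.eq_one_iff (f x)).mpr (Subgroup.mem_center_iff.mpr fun y => ?_)
      obtain ⟨w, rfl⟩ := hf y
      rw [← map_mul, ← map_mul, Subgroup.mem_center_iff.mp hx w]
  haveI := hqL.2
  exact MulEquiv.isSimpleGroup ((QuotientGroup.quotientMulEquivOfEq hψk.symm).trans
    (QuotientGroup.quotientKerEquivOfSurjective ψ ((QuotientGroup.mk'_surjective _).comp hf)))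

end Cfsg.Agent.S3153
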