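import Cfsg.Statements.S3154
import Cfsg.Agent.Lib.SylowL3.Four
import Cfsg.Agent.Lib.StdForm.FpfThree
import Cfsg.Agent.Lib.Schur.Sylow
import Cfsg.Agent.Lib.Linear.Simple

set_option autoImplicit false
open Cfsg

namespace Cfsg.Agent.S3154

open CfsgLib.SylowL3 in
theorem exists_sylow_std {F : Type*} [Field F] [Fintype F] (hF : Fintype.card F = 4) :
    ∃ S : Sylow 2 (Matrix.ProjectiveSpecialLinearGroup (Fin 3) F),
      ∀ x, x ∈ (S : Subgroup (Matrix.ProjectiveSpecialLinearGroup (Fin 3) F)) ↔ ∃ a, qtri a = x := by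
  classical
  haveI : Fact (Nat.Prime 2) := ⟨Nat.prime_two⟩
  let R : Subgroup (Matrix.ProjectiveSpecialLinearGroup (Fin 3) F) :=
    { carrier := Set.range qtri
      one_mem' := ⟨0, qtri_zero⟩
      mul_mem' := by
        rintro _ _ ⟨a, rfl⟩ ⟨b, rfl⟩
        exact ⟨_, (qtri_mul a b).symm⟩
      inv_mem' := by
        rintro _ ⟨a, rfl⟩
        refine ⟨(-a.1, -a.2.1, -a.2.2 + a.1 * a.2.1), (inv_eq_of_mul_eq_one_right ?_).symm⟩
        rw [qtri_mul, ← qtri_zero]
        congr 1
        refine Prod.ext ?_ (Prod.ext ?_ ?_) <;> simp }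
  have hR : Nat.card R = 64 := by
    show Nat.card (Set.range (qtri : F × F × F → _)) = _
    rw [Nat.card_range_of_injective qtri_injective, Nat.card_prod, Nat.card_prod, Nat.card_eq_fintype_card, hF]
  have hP : Nat.card (Matrix.ProjectiveSpecialLinearGroup (Fin 3) F) = 20160 := by
    have h1 := CfsgLib.Linear.card_SL_mul (F := F) 3 (by norm_num)
    have h2 := CfsgLib.Linear.card_PSL_mul (F := F) (n := Fin 3)
    simp only [hF, Fintype.card_fin, Fin.prod_univ_three] at h1 h2
    rw [show Nat.gcd 3 (4 - 1) = 3 by norm_num] at h2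
    norm_num at h1
    simp only [Nat.card_eq_fintype_card] at h2 ⊢
    omega
  refine ⟨Sylow.ofCard R ?_, fun x => Iff.rfl⟩
  have hfac : (20160 : ℕ).factorization 2 = 6 := by
    rw [show (20160 : ℕ) = 2 ^ 6 * 315 by norm_num, Nat.factorization_mul (by norm_num) (by norm_num),
      Finsupp.add_apply, Nat.Prime.factorization_pow Nat.prime_two, Finsupp.single_eq_same,
      Nat.factorization_eq_zero_of_not_dvd (show ¬ 2 ∣ 315 by norm_num)]
  rw [hR, hP, hfac]
  norm_num

/-- An element of `SL₂` in characteristic two whose fourth power is one is an involution. -/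
theorem sl2_pow_four {F : Type*} [Field F] (h2 : ∀ x : F, x + x = 0)
    (g : Matrix.SpecialLinearGroup (Fin 2) F) (h : g ^ 4 = 1) : g * g = 1 := by
  set t := g 0 0 + g 1 1 with ht
  have hdet : g 0 0 * g 1 1 - g 0 1 * g 1 0 = 1 := by
    have := g.2; rwa [Matrix.det_fin_two] at this
  have hsq : (g : Matrix (Fin 2) (Fin 2) F) * g = t • (g : Matrix (Fin 2) (Fin 2) F) + 1 := by
    ext i j
    fin_cases i <;> fin_cases j <;> simp [Matrix.mul_apply, Fin.sum_univ_two, ht]
    · linear_combination -hdet - h2 1 + h2 0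
    · ring
    · ring
    · linear_combination -hdet - h2 1 + h2 0
  have h4 : (g : Matrix (Fin 2) (Fin 2) F) * g * (g * g) = 1 := by
    have h1 : g * g * (g * g) = 1 := by simpa [pow_succ, mul_assoc] using h
    exact congrArg Subtype.val h1
  have h4' : (t * t * t) • (g : Matrix (Fin 2) (Fin 2) F) + (t * t) • (1 : Matrix (Fin 2) (Fin 2) F) = 0 := by
    rw [hsq] at h4
    simp only [Matrix.mul_add, Matrix.add_mul, Matrix.mul_one, Matrix.one_mul, Matrix.smul_mul,
      Matrix.mul_smul, smul_smul, hsq, smul_add] at h4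
    ext i j
    have e := congrFun (congrFun h4 i) j
    simp at e ⊢
    linear_combination e - h2 (t * (g : Matrix (Fin 2) (Fin 2) F) i j)
  have ht0 : t = 0 := by
    by_contra hne
    have hM : ∀ i j, t * (g : Matrix (Fin 2) (Fin 2) F) i j + (1 : Matrix (Fin 2) (Fin 2) F) i j = 0 :=
      fun i j => by
        have e := congrFun (congrFun h4' i) j
        simp at e
        exact (mul_eq_zero.mp (show (t * t) * (t * (g : Matrix (Fin 2) (Fin 2) F) i j + (1 : Matrix (Fin 2) (Fin 2) F) i j) = 0 by
          linear_combination e)).resolve_left (mul_ne_zero hne hne)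
    have a0 := hM 0 0
    have a1 := hM 1 1
    simp at a0 a1
    exact hne (mul_self_eq_zero.mp (by rw [ht] at *; linear_combination a0 + a1 - h2 1))
  apply Subtype.ext
  show (g : Matrix (Fin 2) (Fin 2) F) * g = 1
  rw [hsq, ht0, zero_smul, zero_add]

/-- Let X be a finite quasisimple group whose centre is an elementary abelian 2-group and whose central quotient is isomorphic to the projective special linear group of dimension 3 over the field with 4 elements. Let T be a Sylow 2-subgroup of X and H ≠ K subgroups of T containing the centre Z(X) whose images in X/Z(X) are elementary abelian of order 16 (the two such subgroups of a Sylow 2-subgroup of the quotient). Then H and K are elementary abelian, H ∩ K is the centre of the subgroup they generate, and each of N_X(H), N_X(K) is a split extension of H, respectively K, by the projective special linear group of dimension 2 over the field with 4 elements (there is a complement isomorphic to that group). -/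
theorem result {X : Type*} [Group X] [Finite X] (hq : Cfsg.IsQuasisimple X) (hZ : Cfsg.IsElementaryAbelian 2 (Subgroup.center X))
    {F : Type*} [Field F] [Fintype F] (hF : Fintype.card F = 4) (hXL : Nonempty ((X ⧸ Subgroup.center X) ≃* Matrix.ProjectiveSpecialLinearGroup (Fin 3) F))
    (T : Sylow 2 X) (H K : Subgroup X) (hHK : H ≠ K) (hHT : H ≤ T) (hKT : K ≤ T) (hZH : Subgroup.center X ≤ H) (hZK : Subgroup.center X ≤ K)
    (hH : Cfsg.IsElementaryAbelian 2 (H.map (QuotientGroup.mk' (Subgroup.center X))) ∧ Nat.card ↥(H.map (QuotientGroup.mk' (Subgroup.center X))) = 16)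
    (hK : Cfsg.IsElementaryAbelian 2 (K.map (QuotientGroup.mk' (Subgroup.center X))) ∧ Nat.card ↥(K.map (QuotientGroup.mk' (Subgroup.center X))) = 16) :
    Cfsg.IsElementaryAbelian 2 H ∧ Cfsg.IsElementaryAbelian 2 K ∧
      H ⊓ K = (Subgroup.center ↥(H ⊔ K)).map (H ⊔ K).subtype ∧
      (∃ C : Subgroup X, C ≤ Subgroup.normalizer (H : Set X) ∧ C ⊓ H = ⊥ ∧ H ⊔ C = Subgroup.normalizer (H : Set X) ∧
        Nonempty (↥C ≃* Matrix.ProjectiveSpecialLinearGroup (Fin 2) F)) ∧
      (∃ C : Subgroup X, C ≤ Subgroup.normalizer (K : Set X) ∧ C ⊓ K = ⊥ ∧ K ⊔ C = Subgroup.normalizer (K : Set X) ∧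
        Nonempty (↥C ≃* Matrix.ProjectiveSpecialLinearGroup (Fin 2) F)) := by
  classical
  open CfsgLib.SylowL3 CfsgLib.StdForm in
  haveI : Fact (Nat.Prime 2) := ⟨Nat.prime_two⟩
  obtain ⟨S, hS⟩ := exists_sylow_std hF
  have hcube : ∀ r : F, r ≠ 0 → r ^ 3 = 1 := fun r hr => by
    have := FiniteField.pow_card_sub_one_eq_one r hr
    rwa [hF] at this
  haveI : CharP F 2 := charP_of_card_eq_prime_pow (f := 2) (by rw [hF]; norm_num)
  have h2 : ∀ x : F, x + x = 0 := CharTwo.add_self_eq_zero
  set Z := Subgroup.center X with hZdef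
  have hZc : ∀ z ∈ Z, ∀ t : X, z * t = t * z := fun z hz t => (Subgroup.mem_center_iff.mp hz t).symm
  have hZ2 : ∀ z ∈ Z, z * z = 1 := fun z hz => by rw [← sq]; exact hZ.2 z hz
  obtain ⟨e⟩ := hXL
  -- align the Sylow subgroup
  let q₀ : X →* Matrix.ProjectiveSpecialLinearGroup (Fin 3) F := e.toMonoidHom.comp (QuotientGroup.mk' Z)
  have hq₀ : Function.Surjective q₀ := e.surjective.comp (QuotientGroup.mk'_surjective Z)
  obtain ⟨c₀, hc₀⟩ := MulAction.exists_smul_eq (Matrix.ProjectiveSpecialLinearGroup (Fin 3) F)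
    (T.mapSurjective hq₀) S
  let q : X →* Matrix.ProjectiveSpecialLinearGroup (Fin 3) F := (MulAut.conj c₀).toMonoidHom.comp q₀
  have hqs : Function.Surjective q := (MulAut.conj c₀).surjective.comp hq₀
  have hker : ∀ x, q x = 1 ↔ x ∈ Z := fun x => by
    show MulAut.conj c₀ (e (QuotientGroup.mk' Z x)) = 1 ↔ _
    rw [map_eq_one_iff _ (MulAut.conj c₀).injective, map_eq_one_iff _ e.injective]
    exact QuotientGroup.eq_one_iff x
  have hqT : ∀ x ∈ T, q x ∈ (S : Subgroup (Matrix.ProjectiveSpecialLinearGroup (Fin 3) F)) := fun x hx => by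
    rw [← hc₀]
    exact ⟨q₀ x, ⟨x, hx, rfl⟩, rfl⟩
  -- images
  have himg : ∀ J : Subgroup X,
      Cfsg.IsElementaryAbelian 2 (J.map (QuotientGroup.mk' Z)) ∧ Nat.card ↥(J.map (QuotientGroup.mk' Z)) = 16 →
      J ≤ T → J.map q = CfsgLib.SylowL3.rootA ∨ J.map q = CfsgLib.SylowL3.rootB := by
    intro J hJ hJT
    have hcard : Nat.card ↥(J.map q) = 16 := by
      rw [show q = ((MulAut.conj c₀).toMonoidHom.comp e.toMonoidHom).comp (QuotientGroup.mk' Z) from rfl,
        ← Subgroup.map_map, Subgroup.card_map_of_injective ((MulAut.conj c₀).injective.comp e.injective), hJ.2]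
    have hmem : ∀ y ∈ J.map q, y ∈ CfsgLib.SylowL3.rootA ∨ y ∈ CfsgLib.SylowL3.rootB := by
      rintro _ ⟨x, hx, rfl⟩
      obtain ⟨⟨a, b, c⟩, habc⟩ := (hS _).mp (hqT x (hJT hx))
      have h1 : q x * q x = 1 := by
        rw [← map_mul, hker]
        have h3 := hJ.1.2 (QuotientGroup.mk' Z x) ⟨x, hx, rfl⟩
        rw [sq, ← map_mul] at h3
        exact (QuotientGroup.eq_one_iff _).mp h3
      rw [← habc, CfsgLib.SylowL3.qtri_mul, ← CfsgLib.SylowL3.qtri_zero] at h1
      have h3 : a * b = 0 := by
        have h4 := congrArg (fun p : F × F × F => p.2.2) (CfsgLib.SylowL3.qtri_injective h1)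
        simp only [h2, zero_add] at h4
        exact h4
      rcases mul_eq_zero.mp h3 with rfl | rfl
      · exact Or.inr ⟨b, c, habc⟩
      · exact Or.inl ⟨a, c, habc⟩
    have hsub : J.map q ≤ CfsgLib.SylowL3.rootA ∨ J.map q ≤ CfsgLib.SylowL3.rootB := by
      by_contra hno
      push Not at hno
      obtain ⟨hnA, hnB⟩ := hno
      obtain ⟨u, hu, huA⟩ := SetLike.not_le_iff_exists.mp hnA
      obtain ⟨v, hv, hvB⟩ := SetLike.not_le_iff_exists.mp hnB
      have huB := (hmem u hu).resolve_left huA
      have hvA := (hmem v hv).resolve_right hvB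
      rcases hmem _ (mul_mem hu hv) with h | h
      · exact huA (by simpa using mul_mem h (inv_mem hvA))
      · exact hvB (by simpa using mul_mem (inv_mem huB) h)
    have hAc := (CfsgLib.SylowL3.half_rootA (K := F) hcube h2).card
    have hBc := (CfsgLib.SylowL3.half_rootB (K := F) hcube h2).card
    rw [Nat.card_eq_fintype_card (α := F), hF] at hAc hBc
    rcases hsub with h | h
    · exact Or.inl (Subgroup.eq_of_le_of_card_ge h (by rw [hAc, hcard]; norm_num))
    · exact Or.inr (Subgroup.eq_of_le_of_card_ge h (by rw [hBc, hcard]; norm_num))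
  have hhalf : ∀ J : Subgroup X,
      Cfsg.IsElementaryAbelian 2 (J.map (QuotientGroup.mk' Z)) ∧ Nat.card ↥(J.map (QuotientGroup.mk' Z)) = 16 →
      J ≤ T → CfsgLib.SylowL3.Half (J.map q) := by
    intro J hJ hJT
    rcases himg J hJ hJT with h | h <;> rw [h]
    · exact CfsgLib.SylowL3.half_rootA hcube h2
    · exact CfsgLib.SylowL3.half_rootB hcube h2
  have hcomap : ∀ J : Subgroup X, Z ≤ J → (J.map q).comap q = J := fun J hZJ => by
    rw [Subgroup.comap_map_eq, sup_eq_left]
    intro x hx
    exact hZJ ((hker x).mp hx)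
  -- elementary abelian
  have helem : ∀ J : Subgroup X, Z ≤ J →
      Cfsg.IsElementaryAbelian 2 (J.map (QuotientGroup.mk' Z)) ∧ Nat.card ↥(J.map (QuotientGroup.mk' Z)) = 16 →
      J ≤ T → Cfsg.IsElementaryAbelian 2 J := by
    intro J hZJ hJ hJT
    have hh := hhalf J hJ hJT
    have hJc : Nat.card (J.map q) = 16 := by
      rw [hh.card, Nat.card_eq_fintype_card, hF]; norm_num
    have hsqZ : ∀ x ∈ J, x * x ∈ Z := fun x hx => by
      have h3 := hJ.1.2 (QuotientGroup.mk' Z x) ⟨x, hx, rfl⟩
      rw [sq, ← map_mul] at h3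
      exact (QuotientGroup.eq_one_iff _).mp h3
    have hconst : ∀ x ∈ J, ∀ y ∈ J, x ∉ Z → y ∉ Z → x * x = y * y := by
      intro x hx y hy hxZ hyZ
      obtain ⟨gb, hgb, he⟩ := hh.trans (q x) ⟨x, hx, rfl⟩ (q y) ⟨y, hy, rfl⟩
        (fun h => hxZ ((hker x).mp h)) (fun h => hyZ ((hker y).mp h))
      obtain ⟨g, rfl⟩ := hqs gb
      have hk : (g * x * g⁻¹)⁻¹ * y ∈ Z := (hker _).mp (by
        simp only [map_mul, map_inv]; rw [he]; group)
      set k := (g * x * g⁻¹)⁻¹ * y with hkdef
      have hy' : y = g * x * g⁻¹ * k := by rw [hkdef]; group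
      have e1 : y * y = g * x * g⁻¹ * (g * x * g⁻¹) * (k * k) := by
        rw [hy', mul_assoc (g * x * g⁻¹) k, ← mul_assoc k, hZc k hk (g * x * g⁻¹)]
        simp only [mul_assoc]
      rw [e1, hZ2 k hk, mul_one, show g * x * g⁻¹ * (g * x * g⁻¹) = g * (x * x) * g⁻¹ by group,
        ← hZc _ (hsqZ x hx) g, mul_inv_cancel_right]
    have hsq1 : ∀ x ∈ J, x * x = 1 := by
      intro x hx
      by_cases hxZ : x ∈ Z
      · exact hZ2 x hxZ
      -- two further elements
      have hpick : ∀ W : Finset (Matrix.ProjectiveSpecialLinearGroup (Fin 3) F), W.card ≤ 4 →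
          ∃ y ∈ J, q y ∉ W := by
        intro W hW
        by_contra hall
        push Not at hall
        have h1 : ((J.map q : Subgroup _) : Set (Matrix.ProjectiveSpecialLinearGroup (Fin 3) F)) ⊆ (W : Set _) := by
          rintro _ ⟨y, hy, rfl⟩; exact hall y hy
        have h3 := Set.ncard_le_ncard h1 (Finset.finite_toSet W)
        rw [Set.ncard_coe_finset, ← Nat.card_coe_set_eq] at h3
        have h4 : Nat.card ((J.map q : Subgroup _) : Set (Matrix.ProjectiveSpecialLinearGroup (Fin 3) F)) = 16 := hJc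
        omega
      obtain ⟨v, hv, hvW⟩ := hpick {1, q x} (Finset.card_le_two.trans (by norm_num))
      obtain ⟨w, hw, hwW⟩ := hpick {1, q x, q v, q x * q v}
        (Finset.card_le_four)
      simp only [Finset.mem_insert, Finset.mem_singleton, not_or] at hvW hwW
      have hJcm : ∀ a ∈ J, ∀ b ∈ J, comm' a b ∈ Z := fun a ha b hb => by
        rw [← hker]
        have h1 : ∀ a ∈ J, q a * q a = 1 := fun a ha => by rw [← map_mul, hker]; exact hsqZ a ha
        have hc : q a * q b = q b * q a := by
          calc q a * q b = (q a * q b)⁻¹ := (inv_eq_of_mul_eq_one_right (by rw [← map_mul]; exact h1 _ (mul_mem ha hb))).symm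
            _ = q b * q a := by
              rw [mul_inv_rev, inv_eq_of_mul_eq_one_right (h1 a ha), inv_eq_of_mul_eq_one_right (h1 b hb)]
        simp [comm', hc]
      have hB : ∀ a ∈ J, ∀ b ∈ J, a ∉ Z → b ∉ Z → a * b ∉ Z → comm' b a = x * x := by
        intro a ha b hb haZ hbZ habZ
        have e0 : a * b * (a * b) = comm' b a * (a * a * (b * b)) := by
          have h1 : a * b * (a * b) = a * (comm' b a * (a * b)) * b := by unfold comm'; group
          rw [h1, ← mul_assoc a, ← hZc _ (hJcm b hb a ha) a]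
          simp only [mul_assoc]
        rw [← hconst x hx a ha hxZ haZ, ← hconst x hx b hb hxZ hbZ,
          ← hconst x hx (a * b) (mul_mem ha hb) hxZ habZ, hZ2 _ (hsqZ x hx), mul_one] at e0
        exact e0.symm
      have hqxx : q x * q x = 1 := by rw [← map_mul, hker]; exact hsqZ x hx
      have hqvv : q v * q v = 1 := by rw [← map_mul, hker]; exact hsqZ v hv
      have hvZ : v ∉ Z := fun h => hvW.1 ((hker v).mpr h)
      have hwZ : w ∉ Z := fun h => hwW.1 ((hker w).mpr h)
      have hxv : v * x ∉ Z := fun h => hvW.2 (by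
        have h1 := (hker _).mpr h
        rw [map_mul] at h1
        rw [eq_inv_of_mul_eq_one_left h1]
        exact inv_eq_of_mul_eq_one_right hqxx)
      have hxw : w * x ∉ Z := fun h => hwW.2.1 (by
        have h1 := (hker _).mpr h
        rw [map_mul] at h1
        rw [eq_inv_of_mul_eq_one_left h1]
        exact inv_eq_of_mul_eq_one_right hqxx)
      have hvwZ : v * w ∉ Z := fun h => hwW.2.2.1 (by
        have h1 := (hker _).mpr h
        rw [map_mul] at h1
        rw [eq_inv_of_mul_eq_one_right h1]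
        exact inv_eq_of_mul_eq_one_right hqvv)
      have hvwx : v * w * x ∉ Z := fun h => hwW.2.2.2 (by
        have h1 := (hker _).mpr h
        rw [map_mul, map_mul] at h1
        have h3 : q v * q w = q x := by
          rw [eq_inv_of_mul_eq_one_left h1]; exact inv_eq_of_mul_eq_one_right hqxx
        have h4 : q w = q v * q x := by rw [← h3, ← mul_assoc, hqvv, one_mul]
        rw [h4]
        have hcmv := (hker _).mpr (hJcm v hv x hx)
        simp only [comm', map_mul, map_inv] at hcmv
        exact mul_inv_eq_iff_eq_mul.mp (mul_inv_eq_one.mp hcmv))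
      have e1 := hB v hv x hx hvZ hxZ hxv
      have e2 := hB w hw x hx hwZ hxZ hxw
      have e3 := hB (v * w) (mul_mem hv hw) x hx hvwZ hxZ hvwx
      have e4 : comm' x (v * w) = comm' x v * comm' x w := by
        have h1 : comm' x (v * w) = x * v * x⁻¹ * comm' x w * v⁻¹ := by unfold comm'; group
        rw [h1, mul_assoc, hZc _ (hJcm x hx w hw) v⁻¹, ← mul_assoc]
        rfl
      rw [e3, e1, e2] at e4
      exact mul_eq_left.mp e4.symm
    refine ⟨⟨⟨fun a b => Subtype.ext ?_⟩⟩, fun a ha => by rw [sq]; exact hsq1 a ha⟩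
    show (a : X) * b = b * a
    calc (a : X) * b = ((a : X) * b)⁻¹ := (inv_eq_of_mul_eq_one_right (hsq1 _ (mul_mem a.2 b.2))).symm
      _ = b * a := by
        rw [mul_inv_rev, inv_eq_of_mul_eq_one_right (hsq1 _ a.2), inv_eq_of_mul_eq_one_right (hsq1 _ b.2)]
  have hHe := helem H hZH hH hHT
  have hKe := helem K hZK hK hKT
  have hne : H.map q ≠ K.map q := fun h => hHK (by rw [← hcomap H hZH, h, hcomap K hZK])
  obtain ⟨hHA, hHB⟩ : (CfsgLib.SylowL3.rootA ≤ H.map q ∨ CfsgLib.SylowL3.rootA ≤ K.map q) ∧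
      (CfsgLib.SylowL3.rootB ≤ H.map q ∨ CfsgLib.SylowL3.rootB ≤ K.map q) := by
    rcases himg H hH hHT with h | h <;> rcases himg K hK hKT with k | k
    · exact absurd (h.trans k.symm) hne
    · exact ⟨Or.inl h.ge, Or.inr k.ge⟩
    · exact ⟨Or.inr k.ge, Or.inl h.ge⟩
    · exact absurd (h.trans k.symm) hne
  have hcomm : ∀ J : Subgroup X, Cfsg.IsElementaryAbelian 2 J → ∀ a ∈ J, ∀ b ∈ J, a * b = b * a :=
    fun J hJ a ha b hb => congrArg Subtype.val (hJ.1.is_comm.comm ⟨a, ha⟩ ⟨b, hb⟩)
  have hinter : H ⊓ K = (Subgroup.center ↥(H ⊔ K)).map (H ⊔ K).subtype := by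
    ext x
    constructor
    · rintro ⟨hxH, hxK⟩
      refine ⟨⟨x, Subgroup.mem_sup_left hxH⟩, Subgroup.mem_center_iff.mpr fun y => Subtype.ext ?_, rfl⟩
      have hle : H ⊔ K ≤ Subgroup.centralizer {x} := sup_le
        (fun y hy => Subgroup.mem_centralizer_singleton_iff.mpr (hcomm H hHe y hy x hxH))
        (fun y hy => Subgroup.mem_centralizer_singleton_iff.mpr (hcomm K hKe y hy x hxK))
      exact Subgroup.mem_centralizer_singleton_iff.mp (hle y.2)
    · rintro ⟨y, hy, rfl⟩
      have hyc : ∀ z ∈ H ⊔ K, q z * q y = q (y : X) * q z := fun z hz => by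
        have h1 := congrArg Subtype.val (Subgroup.mem_center_iff.mp hy ⟨z, hz⟩)
        simp only [Subgroup.coe_mul] at h1
        rw [← map_mul, ← map_mul, h1]
      obtain ⟨⟨a, b, c⟩, habc⟩ := (hS _).mp (hqT _ ((sup_le hHT hKT : H ⊔ K ≤ (T : Subgroup X)) y.2))
      have hget : ∀ p, p ∈ CfsgLib.SylowL3.rootA ∨ p ∈ CfsgLib.SylowL3.rootB →
          p * q (y : X) = q (y : X) * p := by
        intro p hp
        obtain ⟨z, hz, rfl⟩ : ∃ z ∈ H ⊔ K, q z = p := by
          rcases hp with hp | hp
          · rcases hHA with h | h <;> obtain ⟨z, hz, hzp⟩ := h hp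
            exacts [⟨z, Subgroup.mem_sup_left hz, hzp⟩, ⟨z, Subgroup.mem_sup_right hz, hzp⟩]
          · rcases hHB with h | h <;> obtain ⟨z, hz, hzp⟩ := h hp
            exacts [⟨z, Subgroup.mem_sup_left hz, hzp⟩, ⟨z, Subgroup.mem_sup_right hz, hzp⟩]
        exact hyc z hz
      have hb : b = 0 := by
        have h1 := hget _ (Or.inl ⟨1, 0, rfl⟩)
        rw [← habc, CfsgLib.SylowL3.qtri_mul, CfsgLib.SylowL3.qtri_mul] at h1
        simpa using congrArg (fun p : F × F × F => p.2.2) (CfsgLib.SylowL3.qtri_injective h1)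
      have ha : a = 0 := by
        have h1 := hget _ (Or.inr ⟨1, 0, rfl⟩)
        rw [← habc, CfsgLib.SylowL3.qtri_mul, CfsgLib.SylowL3.qtri_mul] at h1
        simpa using congrArg (fun p : F × F × F => p.2.2) (CfsgLib.SylowL3.qtri_injective h1)
      subst ha hb
      refine ⟨?_, ?_⟩
      · refine (hcomap H hZH).le (show q (y : X) ∈ H.map q from ?_)
        rcases himg H hH hHT with h | h <;> rw [h] <;> exact ⟨0, c, habc⟩
      · refine (hcomap K hZK).le (show q (y : X) ∈ K.map q from ?_)
        rcases himg K hK hKT with h | h <;> rw [h] <;> exact ⟨0, c, habc⟩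
  -- every lift of an involution is an involution
  have hlift : ∀ x, q x * q x = 1 → x * x = 1 := by
    intro x hx
    by_cases hxZ : x ∈ Z
    · exact hZ2 x hxZ
    have hp : IsPGroup 2 ↥(Subgroup.zpowers (q x)) := fun y => ⟨1, by
      obtain ⟨i, hi⟩ := y.2
      apply Subtype.ext
      rw [Subgroup.coe_pow, ← hi, pow_one, sq, ← (Commute.refl (q x)).mul_zpow, hx, one_zpow]
      rfl⟩
    obtain ⟨P, hP⟩ := hp.exists_le_sylow
    obtain ⟨g, hg⟩ := MulAction.exists_smul_eq (Matrix.ProjectiveSpecialLinearGroup (Fin 3) F) P S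
    have hmem : MulAut.conj g (q x) ∈ (S : Subgroup _) := by
      rw [← hg]
      exact ⟨q x, hP (Subgroup.mem_zpowers _), rfl⟩
    obtain ⟨⟨a, b, c⟩, habc⟩ := (hS _).mp hmem
    have h1 : MulAut.conj g (q x) * MulAut.conj g (q x) = 1 := by rw [← map_mul, hx, map_one]
    rw [← habc, CfsgLib.SylowL3.qtri_mul, ← CfsgLib.SylowL3.qtri_zero] at h1
    have h3 : a * b = 0 := by
      have h4 := congrArg (fun p : F × F × F => p.2.2) (CfsgLib.SylowL3.qtri_injective h1)
      simp only [h2, zero_add] at h4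
      exact h4
    obtain ⟨g', rfl⟩ := hqs g
    have hmemJ : q (g' * x * g'⁻¹) ∈ H.map q ∨ q (g' * x * g'⁻¹) ∈ K.map q := by
      have hconj : q (g' * x * g'⁻¹) = MulAut.conj (q g') (q x) := by simp
      rw [hconj, ← habc]
      rcases mul_eq_zero.mp h3 with rfl | rfl
      · rcases hHB with h | h
        exacts [Or.inl (h ⟨b, c, rfl⟩), Or.inr (h ⟨b, c, rfl⟩)]
      · rcases hHA with h | h
        exacts [Or.inl (h ⟨a, c, rfl⟩), Or.inr (h ⟨a, c, rfl⟩)]
    have hmemJ' : g' * x * g'⁻¹ ∈ H ∨ g' * x * g'⁻¹ ∈ K := by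
      rcases hmemJ with h | h
      · exact Or.inl (hcomap H hZH ▸ h)
      · exact Or.inr (hcomap K hZK ▸ h)
    have h4 : g' * x * g'⁻¹ * (g' * x * g'⁻¹) = 1 := by
      rw [← sq]
      rcases hmemJ' with h | h
      exacts [hHe.2 _ h, hKe.2 _ h]
    have h5 : g' * (x * x) * g'⁻¹ = 1 := by rw [← h4]; group
    exact conj_eq_one_iff.mp h5
  -- complements
  have hcompl : ∀ J : Subgroup X, Z ≤ J →
      Cfsg.IsElementaryAbelian 2 (J.map (QuotientGroup.mk' Z)) ∧ Nat.card ↥(J.map (QuotientGroup.mk' Z)) = 16 →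
      J ≤ T → ∃ C : Subgroup X, C ≤ Subgroup.normalizer (J : Set X) ∧ C ⊓ J = ⊥ ∧
        J ⊔ C = Subgroup.normalizer (J : Set X) ∧
        Nonempty (↥C ≃* Matrix.ProjectiveSpecialLinearGroup (Fin 2) F) := by
    intro J hZJ hJ hJT
    obtain ⟨L, hLn, hLA, hLsup, ⟨eL⟩⟩ := (hhalf J hJ hJT).compl
    let L2 : Subgroup X := L.comap q
    have hNJ : (Subgroup.normalizer ((J.map q : Subgroup _) : Set _)).comap q =
        Subgroup.normalizer (J : Set X) := by
      conv_rhs => rw [← hcomap J hZJ]
      exact Subgroup.comap_normalizer_eq_of_surjective (J.map q) hqs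
    let C : Subgroup X := ⁅L2, L2⁆
    have hCL : C ≤ L2 := Subgroup.commutator_le.mpr fun a ha b hb => by
      rw [commutatorElement_def]
      exact mul_mem (mul_mem (mul_mem ha hb) (inv_mem ha)) (inv_mem hb)
    -- the commutator subgroup misses the centre
    have hCZ : ∀ z ∈ C, z ∈ Z → z = 1 := by
      intro z hzC hzZ
      have hzL : z ∈ L2 := hCL hzC
      let zz : L2 := ⟨z, hzL⟩
      obtain ⟨P⟩ := (inferInstance : Nonempty (Sylow 2 L2))
      have hexp : ∀ y ∈ (P : Subgroup L2), y * y = 1 := by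
        intro y hy
        obtain ⟨k, hk⟩ := P.2 ⟨y, hy⟩
        have hk' : (y : X) ^ 2 ^ k = 1 := congrArg (fun w : (P : Subgroup L2) => ((w : L2) : X)) hk
        apply Subtype.ext
        apply hlift
        let m : Matrix.SpecialLinearGroup (Fin 2) F := eL ⟨q (y : X), y.2⟩
        have hm : m ^ 2 ^ k = 1 := by
          rw [← map_pow, map_eq_one_iff _ eL.injective]
          apply Subtype.ext
          rw [Subgroup.coe_pow]
          show q (y : X) ^ 2 ^ k = 1
          rw [← map_pow, hk', map_one]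
        have hm2 : m * m = 1 := by
          clear_value m
          clear hk hk'
          induction k with
          | zero => rw [pow_zero, pow_one] at hm; rw [hm, one_mul]
          | succ j ih =>
            rcases Nat.eq_zero_or_pos j with rfl | hj
            · rw [show (2 : ℕ) ^ (0 + 1) = 2 from rfl, pow_two] at hm; exact hm
            · apply ih
              obtain ⟨i, rfl⟩ : ∃ i, j = i + 1 := ⟨j - 1, by omega⟩
              have h4 : (m ^ 2 ^ i) ^ 4 = 1 := by
                rw [← pow_mul, show 2 ^ i * 4 = 2 ^ (i + 1 + 1) by ring]; exact hm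
              have := sl2_pow_four h2 _ h4
              rw [← pow_two, ← pow_mul, ← pow_succ] at this
              exact this
        rw [← map_mul, map_eq_one_iff _ eL.injective] at hm2
        exact congrArg Subtype.val hm2
      have hPc : _root_.commutator (P : Subgroup L2) = ⊥ := by
        rw [eq_bot_iff, commutator_def, Subgroup.commutator_le]
        intro a _ b _
        rw [Subgroup.mem_bot, commutatorElement_eq_one_iff_mul_comm]
        apply Subtype.ext
        have hi : ∀ w ∈ (P : Subgroup L2), w⁻¹ = w := fun w hw => inv_eq_of_mul_eq_one_right (hexp w hw)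
        show (a : L2) * b = b * a
        calc (a : L2) * b = ((a : L2) * b)⁻¹ := (hi _ (mul_mem a.2 b.2)).symm
          _ = b * a := by rw [mul_inv_rev, hi _ a.2, hi _ b.2]
      have hzc : zz ∈ Subgroup.center L2 := Subgroup.mem_center_iff.mpr fun w =>
        Subtype.ext (hZc z hzZ w).symm
      have hzd : zz ∈ _root_.commutator L2 := by
        have h1 : (_root_.commutator L2).map L2.subtype = C := by
          rw [commutator_def, Subgroup.map_commutator, ← MonoidHom.range_eq_map, Subgroup.range_subtype]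
        rw [← Subgroup.mem_map_iff_mem L2.subtype_injective, h1]
        exact hzC
      have hzP : zz ∈ (P : Subgroup L2) := by
        have hpz : IsPGroup 2 ↥(Subgroup.zpowers zz) := fun y => ⟨1, by
          obtain ⟨i, hi⟩ := y.2
          apply Subtype.ext
          rw [Subgroup.coe_pow, ← hi, pow_one, sq, ← (Commute.refl zz).mul_zpow,
            show zz * zz = 1 from Subtype.ext (hZ2 z hzZ), one_zpow]
          rfl⟩
        obtain ⟨P', hP'⟩ := hpz.exists_le_sylow
        obtain ⟨g, hg⟩ := MulAction.exists_smul_eq L2 P' P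
        rw [← hg]
        exact ⟨zz, hP' (Subgroup.mem_zpowers _), by
          show g * zz * g⁻¹ = zz
          rw [Subgroup.mem_center_iff.mp hzc g, mul_inv_cancel_right]⟩
      have h1 := CfsgLib.SchurSylow.center_inf_commutator_inf_sylow_le P hzc hzd hzP
      rw [hPc, Subgroup.map_bot, Subgroup.mem_bot] at h1
      exact congrArg Subtype.val h1
    have hCmap : C.map q = L := by
      rw [Subgroup.map_commutator, Subgroup.map_comap_eq_self_of_surjective hqs]
      obtain ⟨a, ha0, ha⟩ : ∃ a : F, a ≠ 0 ∧ a ^ 2 ≠ 1 := by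
        obtain ⟨w, hw⟩ : ∃ w : F, w ∉ ({0, 1} : Finset F) := by
          by_contra hall
          push Not at hall
          have h1 := Finset.card_le_card (show (Finset.univ : Finset F) ⊆ {0, 1} from fun a _ => hall a)
          rw [Finset.card_univ, hF] at h1
          have h3 := Finset.card_le_two (a := (0 : F)) (b := 1)
          omega
        simp only [Finset.mem_insert, Finset.mem_singleton, not_or] at hw
        refine ⟨w, hw.1, fun h => hw.2 ?_⟩
        have h3 : (w + 1) * (w + 1) = 0 := by linear_combination h + h2 w + h2 1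
        linear_combination mul_self_eq_zero.mp h3 - h2 1
      have hSL : _root_.commutator L = ⊤ := by
        have hS2 : _root_.commutator (Matrix.SpecialLinearGroup (Fin 2) F) = ⊤ :=
          CfsgLib.Linear.commutator_SL_eq_top (Or.inr ⟨a, ha0, ha⟩)
        apply Subgroup.map_injective eL.injective (f := eL.toMonoidHom)
        rw [commutator_def, Subgroup.map_commutator, Subgroup.map_top_of_surjective _ eL.surjective,
          ← commutator_def, hS2]
      have h1 := congrArg (Subgroup.map L.subtype) hSL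
      rwa [commutator_def, Subgroup.map_commutator, ← MonoidHom.range_eq_map, Subgroup.range_subtype] at h1
    refine ⟨C, ?_, ?_, ?_, ?_⟩
    · rw [← hNJ]; exact hCL.trans (Subgroup.comap_mono hLn)
    · rw [eq_bot_iff]
      rintro x ⟨hxC, hxJ⟩
      have h1 : q x ∈ L ⊓ J.map q := ⟨hCL hxC, ⟨x, hxJ, rfl⟩⟩
      rw [hLA, Subgroup.mem_bot, hker] at h1
      exact Subgroup.mem_bot.mpr (hCZ x hxC h1)
    · rw [← hNJ, ← hLsup, ← hCmap, ← Subgroup.map_sup, Subgroup.comap_map_eq, eq_comm, sup_eq_left]
      intro x hx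
      exact Subgroup.mem_sup_left (hZJ ((hker x).mp hx))
    · have hinj : Function.Injective (q.comp C.subtype) := by
        rw [injective_iff_map_eq_one]
        exact fun w hw => Subtype.ext (hCZ _ w.2 ((hker _).mp hw))
      have hr : (q.comp C.subtype).range = L := by rw [MonoidHom.range_comp, Subgroup.range_subtype, hCmap]
      have hcen : Subgroup.center (Matrix.SpecialLinearGroup (Fin 2) F) = ⊥ := (CfsgLib.Recog.center_sl2_eq_bot F)
      exact ⟨(MonoidHom.ofInjective hinj).trans ((MulEquiv.subgroupCongr hr).trans (eL.trans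
        (MulEquiv.ofBijective (QuotientGroup.mk' (Subgroup.center (Matrix.SpecialLinearGroup (Fin 2) F)))
          ⟨by rw [← MonoidHom.ker_eq_bot_iff, QuotientGroup.ker_mk', hcen], QuotientGroup.mk'_surjective _⟩)))⟩
  exact ⟨hHe, hKe, hinter, hcompl H hZH hH hHT, hcompl K hZK hK hKT⟩

end Cfsg.Agent.S3154
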