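import Cfsg.Statements.S3156
import Cfsg.Agent.Lib.SylowU3.Model
import Cfsg.Agent.Lib.StdForm.FpfInvolution

set_option autoImplicit false
open Cfsg

namespace Cfsg.Agent.S3156

open CfsgLib.StdForm CfsgLib.SylowU3 in
theorem fpf_aux {T : Type*} [Group T] [Finite T] {Z : Subgroup T} (hT : Nat.card T = 64)
    (hZ4 : Nat.card Z = 4) (hZc : ∀ z ∈ Z, ∀ t : T, z * t = t * z) (hsq : ∀ t : T, t * t ∈ Z)
    (hinv : ∀ t : T, t ∈ Z ↔ t * t = 1) (hroots : ∀ z ∈ Z, z ≠ 1 → Nat.card {t : T // t * t = z} = 20)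
    (ρ : MulAut T) (h3 : ∀ y, ρ (ρ (ρ y)) = y) (hne : ρ ≠ 1) (hZρ : ∀ z ∈ Z, ρ z ∈ Z) :
    ∀ y, ρ y = y → y = 1 := by
  classical
  intro y hy
  by_contra hy1
  obtain ⟨z0, hz0, hz01, hz0f⟩ : ∃ z ∈ Z, z ≠ 1 ∧ ρ z = z := by
    by_cases hyy : y * y = 1
    · exact ⟨y, (hinv y).mpr hyy, hy1, hy⟩
    · exact ⟨y * y, hsq y, hyy, by rw [map_mul, hy]⟩
  -- ρ is trivial on Z
  have hZfix : ∀ z ∈ Z, ρ z = z := by
    have hmod := card_modEq_fixed (fun a : Z => (⟨ρ a, hZρ a a.2⟩ : Z)) (fun a => Subtype.ext (h3 a))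
    rw [hZ4] at hmod
    have hle : Nat.card {a : Z // (⟨ρ a, hZρ a a.2⟩ : Z) = a} ≤ 4 := hZ4 ▸ Nat.card_le_card_of_injective _ Subtype.val_injective
    have h2 : 2 ≤ Nat.card {a : Z // (⟨ρ a, hZρ a a.2⟩ : Z) = a} := by
      haveI : Nontrivial {a : Z // (⟨ρ a, hZρ a a.2⟩ : Z) = a} :=
        ⟨⟨⟨1, Subtype.ext (map_one ρ)⟩, ⟨⟨z0, hz0⟩, Subtype.ext hz0f⟩, fun h =>
          hz01 (congrArg (fun a => ((a.1 : Z) : T)) h).symm⟩⟩
      exact Finite.one_lt_card
    have h4 : Nat.card {a : Z // (⟨ρ a, hZρ a a.2⟩ : Z) = a} = Nat.card Z := by omega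
    have hsurj := ((Nat.bijective_iff_injective_and_card _).mpr
      ⟨Subtype.val_injective, h4⟩).2
    intro z hz
    obtain ⟨a, ha⟩ := hsurj ⟨z, hz⟩
    have := congrArg Subtype.val a.2
    rw [ha] at this
    exact this
  let F : Subgroup T := ρ.toMonoidHom.eqLocus (MonoidHom.id T)
  have hFmem : ∀ t, t ∈ F ↔ ρ t = t := fun t => Iff.rfl
  -- fibres
  have hfib : ∀ z ∈ Z, z ≠ 1 → Nat.card {t : T // t * t = z ∧ ρ t = t} = 8 ∨
      Nat.card {t : T // t * t = z ∧ ρ t = t} = 20 := by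
    intro z hz hz1
    have hmap : ∀ a : {t : T // t * t = z}, ρ a * ρ a = z := fun a => by
      rw [← map_mul, a.2, hZfix z hz]
    have hmod := card_modEq_fixed (fun a : {t : T // t * t = z} => (⟨ρ a, hmap a⟩ : {t : T // t * t = z}))
      (fun a => Subtype.ext (h3 a))
    rw [hroots z hz hz1] at hmod
    have e1 : Nat.card {a : {t : T // t * t = z} // (⟨ρ a, hmap a⟩ : {t : T // t * t = z}) = a} =
        Nat.card {t : T // t * t = z ∧ ρ t = t} :=
      Nat.card_congr ((Equiv.subtypeEquivRight fun a => Subtype.ext_iff).trans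
        (Equiv.subtypeSubtypeEquivSubtypeInter (fun t : T => t * t = z) (fun t => ρ t = t)))
    rw [e1] at hmod
    have hle : Nat.card {t : T // t * t = z ∧ ρ t = t} ≤ 20 := by
      rw [← hroots z hz hz1]
      exact Nat.card_le_card_of_injective (fun a => (⟨a.1, a.2.1⟩ : {t : T // t * t = z}))
        (fun a b h => Subtype.ext (congrArg (fun c : {t : T // t * t = z} => c.1) h))
    have hdvd : 4 ∣ Nat.card {t : T // t * t = z ∧ ρ t = t} := by
      set A : Set T := {t : T | t * t = z ∧ ρ t = t} with hA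
      have hsat : (QuotientGroup.mk (s := Z)) ⁻¹' ((QuotientGroup.mk (s := Z)) '' A) = A := by
        refine Set.Subset.antisymm ?_ (Set.subset_preimage_image _ _)
        rintro t ⟨a, ⟨ha1, ha2⟩, hat⟩
        have hk := QuotientGroup.eq.mp hat
        have ht : t = a * (a⁻¹ * t) := by group
        refine ⟨?_, ?_⟩
        · rw [ht, mul_assoc, ← mul_assoc (a⁻¹ * t), hZc _ hk a, mul_assoc, (hinv _).mp hk, mul_one, ha1]
        · rw [ht, map_mul, ha2, hZfix _ hk]
      have h1 := Nat.card_congr (QuotientGroup.preimageMkEquivSubgroupProdSet Z ((QuotientGroup.mk (s := Z)) '' A))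
      rw [hsat, Nat.card_prod, hZ4] at h1
      exact ⟨_, h1⟩
    omega
  -- counting
  haveI : Fintype Z := Fintype.ofFinite Z
  let sq : F → Z := fun t => ⟨(t : T) * t, hsq _⟩
  have hF : Nat.card F = ∑ z : Z, Nat.card {t : T // t * t = z ∧ ρ t = t} := by
    rw [← Nat.card_congr (Equiv.sigmaFiberEquiv sq), Nat.card_sigma]
    refine Finset.sum_congr rfl fun z _ => Nat.card_congr ?_
    exact
      { toFun := fun a => ⟨a.1.1, congrArg Subtype.val a.2, a.1.2⟩
        invFun := fun a => ⟨⟨a.1, a.2.2⟩, Subtype.ext a.2.1⟩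
        left_inv := fun a => rfl
        right_inv := fun a => rfl }
  have hone : Nat.card {t : T // t * t = ((1 : Z) : T) ∧ ρ t = t} = 4 := by
    rw [← hZ4]
    refine Nat.card_congr (Equiv.subtypeEquivRight fun t => ?_)
    rw [OneMemClass.coe_one, ← hinv]
    exact ⟨fun h => h.1, fun h => ⟨h, hZfix t h⟩⟩
  rw [← Finset.add_sum_erase _ _ (Finset.mem_univ (1 : Z)), hone] at hF
  set a : Z → ℕ := fun z => Nat.card {t : T // t * t = z ∧ ρ t = t} with ha
  have hsum : ∑ z ∈ Finset.univ.erase (1 : Z), a z =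
      24 + 12 * ((Finset.univ.erase (1 : Z)).filter fun z => a z = 20).card := by
    have h1 : ∀ z ∈ Finset.univ.erase (1 : Z), a z = 8 + 12 * (if a z = 20 then 1 else 0) := by
      intro z hz
      rcases hfib z z.2 (fun h => (Finset.mem_erase.mp hz).1 (Subtype.ext h)) with h | h <;> simp [ha, h]
    rw [Finset.sum_congr rfl h1, Finset.sum_add_distrib, Finset.sum_const, ← Finset.mul_sum,
      Finset.sum_boole, Finset.card_erase_of_mem (Finset.mem_univ _), Finset.card_univ,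
      ← Nat.card_eq_fintype_card, hZ4]
    simp
  rw [hsum] at hF
  have hk : ((Finset.univ.erase (1 : Z)).filter fun z => a z = 20).card ≤ 3 :=
    (Finset.card_filter_le _ _).trans (by
      rw [Finset.card_erase_of_mem (Finset.mem_univ _), Finset.card_univ, ← Nat.card_eq_fintype_card, hZ4])
  have hd : Nat.card F ∣ 64 := hT ▸ Subgroup.card_subgroup_dvd_card F
  have hF64 : Nat.card F = 64 := by
    generalize ((Finset.univ.erase (1 : Z)).filter fun z => a z = 20).card = k at hF hk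
    interval_cases k <;> rw [hF] at hd ⊢ <;> norm_num at hd
  have htop : F = ⊤ := Subgroup.eq_top_of_card_eq _ (by rw [hF64, hT])
  exact hne (MulEquiv.ext fun t => (hFmem t).mp (htop ▸ Subgroup.mem_top t))

/-- If a finite group T is isomorphic to a Sylow 2-subgroup of the projective special unitary group of dimension 3 with parameter 4 (realised over the field with 16 elements), then no subgroup of the automorphism group of T is isomorphic to the symmetric group of degree 3. -/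
theorem result {T : Type*} [Group T] [Finite T] (hT : (∃ (F : Type) (_ : Field F) (_ : Fintype F), Fintype.card F = 16 ∧ ∃ S : Sylow 2 (Cfsg.PSU 3 F 4), Nonempty (T ≃* ↥(S : Subgroup (Cfsg.PSU 3 F 4))))) (H : Subgroup (MulAut T)) : ¬ Nonempty (↥H ≃* Equiv.Perm (Fin 3)) := by
  classical
  obtain ⟨F, _, _, hF, S, ⟨φ⟩⟩ := hT
  rintro ⟨e⟩
  obtain ⟨s, hs, hU, ⟨co0⟩⟩ := CfsgLib.SylowU3.exists_coords_PSU 2 (by rw [hF]; norm_num) S
  let co := co0.congr φ
  set Z := Subgroup.center T with hZdef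
  have hT : Nat.card T = 64 := by rw [co.card_eq hU]; norm_num
  have hZ4 : Nat.card Z = 4 := by rw [hZdef, co.card_center hU]; norm_num
  have hZc : ∀ z ∈ Z, ∀ t : T, z * t = t * z := fun z hz t => (Subgroup.mem_center_iff.mp hz t).symm
  have hsq : ∀ t : T, t * t ∈ Z := fun t => co.sq_mem_center hU t
  have hinv : ∀ t : T, t ∈ Z ↔ t * t = 1 := fun t => co.mem_center_iff_sq hU t
  have hZ2 : ∀ z ∈ Z, z * z = 1 := fun z hz => (hinv z).mp hz
  have hroots : ∀ z ∈ Z, z ≠ 1 → Nat.card {t : T // t * t = z} = 20 := fun z hz hz1 => by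
    rw [co.card_sq_roots hU hz hz1]; norm_num
  have hcm : ∀ u w : T, CfsgLib.StdForm.comm' u w ∈ Z := fun u w => by
    have h1 : CfsgLib.StdForm.comm' u w =
        (u * w * (u * w)) * (w⁻¹ * (u * u)⁻¹ * w) * (w * w)⁻¹ := by
      unfold CfsgLib.StdForm.comm'; group
    rw [h1]
    refine mul_mem (mul_mem (hsq _) ?_) (inv_mem (hsq w))
    have := hZc _ (inv_mem (hsq u)) w
    rw [mul_assoc, this, inv_mul_cancel_left]
    exact inv_mem (hsq u)
  have hchar : ∀ f : MulAut T, ∀ z ∈ Z, f z ∈ Z := fun f z hz => by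
    rw [hinv] at hz ⊢
    rw [← map_mul, hz, map_one]
  let ψ : Equiv.Perm (Fin 3) →* MulAut T := H.subtype.comp e.symm.toMonoidHom
  have hψ : Function.Injective ψ := H.subtype_injective.comp e.symm.injective
  let r : Equiv.Perm (Fin 3) := finRotate 3
  let w : Equiv.Perm (Fin 3) := Equiv.swap 0 1
  set ρ := ψ r with hρdef
  set x := ψ w with hxdef
  have h3 : ∀ y, ρ (ρ (ρ y)) = y := fun y => by
    have h1 : ψ (r * r * r) y = y := by rw [show r * r * r = 1 by decide, map_one]; rfl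
    rw [map_mul, map_mul] at h1
    exact h1
  have hx2 : ∀ y, x (x y) = y := fun y => by
    have h1 : ψ (w * w) y = y := by rw [show w * w = 1 by decide, map_one]; rfl
    rw [map_mul] at h1
    exact h1
  have hxρ : ∀ y, x (ρ y) = ρ (ρ (x y)) := fun y => by
    have h1 : ψ (w * r) y = ψ (r * r * w) y := by rw [show w * r = r * r * w by decide]
    simp only [map_mul] at h1
    exact h1
  have hne : ρ ≠ 1 := fun h => absurd (hψ (h.trans (map_one ψ).symm)) (by decide)
  have hfp := fpf_aux hT hZ4 hZc hsq hinv hroots ρ h3 hne (hchar ρ)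
  obtain ⟨u, v, hu, hv, huZ, hvZ, huvZ⟩ :=
    CfsgLib.StdForm.exists_two_fixed_cosets hT hZ4 hZc hcm hsq hx2 (hchar x)
  have hfix : ∀ t, x t * t⁻¹ ∈ Z → x (t * t) = t * t := fun t ht => by
    have h1 : x t = x t * t⁻¹ * t := by group
    rw [map_mul, h1]
    calc x t * t⁻¹ * t * (x t * t⁻¹ * t) = x t * t⁻¹ * (t * (x t * t⁻¹)) * t := by group
      _ = x t * t⁻¹ * (x t * t⁻¹ * t) * t := by rw [← hZc _ ht t]
      _ = x t * t⁻¹ * (x t * t⁻¹) * (t * t) := by group
      _ = t * t := by rw [hZ2 _ ht, one_mul]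
  have huv : x (u * v) * (u * v)⁻¹ ∈ Z := by
    have h1 : x (u * v) * (u * v)⁻¹ = x u * (x v * v⁻¹) * u⁻¹ := by rw [map_mul]; group
    rw [h1, ← hZc _ hv, mul_assoc]
    exact mul_mem hv hu
  have huniq : ∀ t, x t * t⁻¹ ∈ Z → t ∉ Z → t * t = u * u := fun t ht htZ =>
    CfsgLib.StdForm.fixed_unique hZ4 h3 hfp (hchar ρ) hxρ (hsq t) (fun h => htZ ((hinv t).mpr h))
      (hsq u) (fun h => huZ ((hinv u).mpr h)) (hfix t ht) (hfix u hu)
  have hvv := huniq v hv hvZ
  have huv2 := huniq _ huv huvZ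
  set c := CfsgLib.StdForm.comm' u v with hc
  have hcu : c = u * u := by
    have h1 := CfsgLib.StdForm.sq_mul' hZc hcm u v
    rw [huv2, hvv, hZ2 _ (hsq u), mul_one, CfsgLib.StdForm.comm'_symm hZc hcm hZ2] at h1
    rw [hc, ← h1]
  have hc1 : c ≠ 1 := fun h => huZ ((hinv u).mpr (hcu ▸ h))
  have hd := CfsgLib.StdForm.comm'_rho hZc hcm hZ2 h3 hfp u v
  have h1 := CfsgLib.StdForm.sq_mul' hZc hcm u (ρ v)
  rw [CfsgLib.StdForm.comm'_symm hZc hcm hZ2, hd, ← hc, ← map_mul ρ v v, hvv, ← hcu] at h1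
  have h2 : ρ (ρ c) * (c * ρ c) = 1 := by
    rw [hZc _ (hchar ρ _ (hchar ρ _ (hcm u v)))]
    exact CfsgLib.StdForm.fpf_prod_eq_one h3 hfp c
  rw [h2] at h1
  have hmem : u * ρ v ∈ Z := (hinv _).mpr h1
  have hcomm : CfsgLib.StdForm.comm' u (ρ v) = 1 := by
    rw [CfsgLib.StdForm.comm'_eq_one_iff]
    have h3' := hZc _ hmem u
    calc u * ρ v = u⁻¹ * (u * (u * ρ v)) := by group
      _ = u⁻¹ * (u * ρ v * u) := by rw [h3']
      _ = ρ v * u := by group
  rw [hd] at hcomm
  exact hc1 (ρ.injective (ρ.injective (by rw [hcomm, map_one, map_one])))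

end Cfsg.Agent.S3156
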