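import Cfsg.Statements.S3157
import Cfsg.Agent.Lib.SylowL3.Basic
import Cfsg.Agent.Lib.StdForm.OrderEight
import Cfsg.Agent.Lib.StdForm.FpfInvolution
import Mathlib.FieldTheory.Finite.GaloisField

set_option autoImplicit false
open Cfsg

namespace Cfsg.Agent.S3157

open CfsgLib.StdForm in
theorem iso_aux {T : Type*} [Group T] [Finite T] {Z : Subgroup T} (hT : Nat.card T = 64)
    (hZc : ∀ z ∈ Z, ∀ t : T, z * t = t * z) (hcm : ∀ u w : T, comm' u w ∈ Z)
    (hZ2 : ∀ z ∈ Z, z * z = 1) (ρ : MulAut T) (h3 : ∀ y, ρ (ρ (ρ y)) = y)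
    (hfp : ∀ y, ρ y = y → y = 1) (hZρ : ∀ z ∈ Z, ρ z ∈ Z) (u v : T) (hu : u * u = 1)
    (hv : v * v = 1) (hc : comm' v u ≠ 1) :
    ∃ (F : Type) (_ : Field F) (_ : Fintype F), Fintype.card F = 4 ∧
      ∃ S : Sylow 2 (Matrix.ProjectiveSpecialLinearGroup (Fin 3) F),
        Nonempty (T ≃* ↥(S : Subgroup (Matrix.ProjectiveSpecialLinearGroup (Fin 3) F))) := by
  classical
  haveI : Fact (Nat.Prime 2) := ⟨Nat.prime_two⟩
  let K := GaloisField 2 2
  haveI : Fintype K := Fintype.ofFinite K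
  have hK : Fintype.card K = 4 := by
    rw [← Nat.card_eq_fintype_card, GaloisField.card 2 2 (by norm_num)]; norm_num
  refine ⟨K, inferInstance, inferInstance, hK, ?_⟩
  obtain ⟨ω, hω⟩ : ∃ ω : K, ω ∉ ({0, 1} : Finset K) := by
    by_contra hall
    push Not at hall
    have h1 := Finset.card_le_card (show (Finset.univ : Finset K) ⊆ {0, 1} from fun a _ => hall a)
    rw [Finset.card_univ, hK] at h1
    have h2 := Finset.card_le_two (a := (0 : K)) (b := 1)
    omega
  simp only [Finset.mem_insert, Finset.mem_singleton, not_or] at hω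
  obtain ⟨hω0, hω1⟩ := hω
  have h2K : ∀ a : K, a + a = 0 := CharTwo.add_self_eq_zero
  have hadd : (ω + 1) + 1 = ω := by rw [add_assoc, h2K, add_zero]
  have hω10 : ω + 1 ≠ 0 := fun h => hω1 (by
    calc ω = (ω + 1) + 1 := hadd.symm
      _ = 1 := by rw [h, zero_add])
  have hω11 : ω + 1 ≠ 1 := fun h => hω0 (by simpa using h)
  have hω1ω : ω + 1 ≠ ω := fun h => one_ne_zero (α := K) (by simpa using h)
  have hall : ∀ a : K, a = 0 ∨ a = 1 ∨ a = ω ∨ a = ω + 1 := by
    intro a
    have h1 : ({0, 1, ω, ω + 1} : Finset K) = Finset.univ := by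
      apply Finset.eq_univ_of_card
      rw [hK, Finset.card_insert_of_notMem (by simp [Ne.symm hω0, Ne.symm hω10]),
        Finset.card_insert_of_notMem (by simp [Ne.symm hω1, Ne.symm hω11]),
        Finset.card_insert_of_notMem (by simp [Ne.symm hω1ω]), Finset.card_singleton]
    have := h1.symm ▸ Finset.mem_univ a
    simpa using this
  have hsq : ω * ω = ω + 1 := by
    rcases hall (ω * ω) with h | h | h | h
    · exact absurd h (mul_ne_zero hω0 hω0)
    · exfalso
      have : (ω + 1) * (ω + 1) = 0 := by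
        calc (ω + 1) * (ω + 1) = ω * ω + (ω + ω) + 1 := by ring
          _ = 0 := by rw [h, h2K, add_zero, h2K]
      exact hω10 (mul_self_eq_zero.mp this)
    · exact absurd (mul_left_cancel₀ hω0 (h.trans (mul_one ω).symm)) hω1
    · exact h
  -- a four group as image of the field
  let g4 : T → T → K → T := fun p q a => if a = 0 then 1 else if a = 1 then p else if a = ω then q else p * q
  have g0 : ∀ p q, g4 p q 0 = 1 := fun p q => by simp [g4]
  have g1 : ∀ p q, g4 p q 1 = p := fun p q => by simp [g4]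
  have g2 : ∀ p q, g4 p q ω = q := fun p q => by simp [g4, hω0, hω1]
  have g3 : ∀ p q, g4 p q (ω + 1) = p * q := fun p q => by simp [g4, hω10, hω11, hω1ω]
  have gadd : ∀ p q, p * p = 1 → q * q = 1 → p * q = q * p →
      ∀ a b, g4 p q (a + b) = g4 p q a * g4 p q b := by
    intro p q hp hq hpq a b
    have e1 : ω + (ω + 1) = 1 := by rw [← add_assoc, h2K, zero_add]
    have e2 : (1 : K) + ω = ω + 1 := add_comm _ _
    have e3 : 1 + (ω + 1) = ω := by rw [add_comm, hadd]
    have e4 : (ω + 1) + ω = 1 := by rw [add_comm, e1]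
    rcases hall a with rfl | rfl | rfl | rfl <;> rcases hall b with rfl | rfl | rfl | rfl <;>
      simp only [zero_add, add_zero, h2K, hadd, e1, e2, e3, e4, g0, g1, g2, g3, one_mul, mul_one]
    · exact hp.symm
    · rw [← mul_assoc, hp, one_mul]
    · exact hpq
    · exact hq.symm
    · rw [← mul_assoc, ← hpq, mul_assoc, hq, mul_one]
    · rw [mul_assoc, ← hpq, ← mul_assoc, hp, one_mul]
    · rw [mul_assoc, hq, mul_one]
    · nth_rewrite 2 [hpq]
      rw [mul_assoc, ← mul_assoc q q, hq, one_mul, hp]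
  set c := comm' v u with hcdef
  have hcZ : c ∈ Z := hcm v u
  have hcρ : c * ρ c * ρ (ρ c) = 1 := fpf_prod_eq_one h3 hfp c
  have hcρ' : c * ρ (ρ c) = ρ c := by
    have h1 : ρ (ρ c) = (c * ρ c)⁻¹ := eq_inv_of_mul_eq_one_right hcρ
    have h2 : (c * ρ c)⁻¹ = c * ρ c := inv_eq_of_mul_eq_one_right (hZ2 _ (mul_mem hcZ (hZρ _ hcZ)))
    rw [h1, h2, ← mul_assoc, hZ2 _ hcZ, one_mul]
  have hline : ∀ w : T, w * w = 1 → w * ρ w = ρ (ρ w) ∧ ρ w * ρ w = 1 := fun w hw => by
    refine ⟨?_, by rw [← map_mul, hw, map_one]⟩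
    have h1 : ρ (ρ w) * ρ (ρ w) = 1 := by rw [← map_mul, ← map_mul, hw, map_one, map_one]
    rw [eq_inv_of_mul_eq_one_left (fpf_prod_eq_one h3 hfp w)]
    exact inv_eq_of_mul_eq_one_right h1
  let L : T → K → T := fun w => g4 w (ρ w)
  let zm : K → T := g4 c (ρ (ρ c))
  have hLadd : ∀ w, w * w = 1 → ∀ a b, L w (a + b) = L w a * L w b := fun w hw =>
    gadd w (ρ w) hw (hline w hw).2 (fpf_commute h3 hfp w)
  have hzadd : ∀ a b, zm (a + b) = zm a * zm b :=
    gadd _ _ (hZ2 _ hcZ) (hZ2 _ (hZρ _ (hZρ _ hcZ))) (hZc _ hcZ _)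
  have hzZ : ∀ a, zm a ∈ Z := by
    intro a
    rcases hall a with rfl | rfl | rfl | rfl <;> simp only [zm, g0, g1, g2, g3]
    · exact one_mem Z
    · exact hcZ
    · exact hZρ _ (hZρ _ hcZ)
    · exact mul_mem hcZ (hZρ _ (hZρ _ hcZ))
  have hR : ∀ p q, comm' p (ρ q) = ρ (ρ (comm' p q)) := comm'_rho hZc hcm hZ2 h3 hfp
  have hLf : ∀ p q, comm' (ρ p) q = ρ (ρ (comm' p q)) := fun p q => by
    rw [comm'_symm hZc hcm hZ2, hR, comm'_symm hZc hcm hZ2]
  have hpair : ∀ a b, comm' (L v a) (L u b) = zm (a * b) := by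
    intro a b
    have h1 : ∀ w : T, comm' 1 w = 1 ∧ comm' w 1 = 1 := fun w => by simp [comm']
    have m1 : ω * (ω + 1) = 1 := by rw [mul_add, mul_one, hsq, add_comm, ← add_assoc, h2K, zero_add]
    have m2 : (ω + 1) * ω = 1 := by rw [mul_comm, m1]
    have m3 : (ω + 1) * (ω + 1) = ω := by
      rw [add_mul, one_mul, m1, add_comm, hadd]
    rcases hall a with rfl | rfl | rfl | rfl <;> rcases hall b with rfl | rfl | rfl | rfl <;>
      simp only [L, zm, g0, g1, g2, g3, zero_mul, mul_zero, one_mul, mul_one, hsq, m1, m2, m3,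
        (h1 _).1, (h1 _).2, (hline v hv).1, (hline u hu).1, hR, hLf, ← hcdef, h3, hcρ']
  let Φ : K × K × K → T := fun a => L u a.2.1 * L v a.1 * zm a.2.2
  have hmul : ∀ a b, Φ a * Φ b = Φ (a.1 + b.1, a.2.1 + b.2.1, a.2.2 + b.2.2 + a.1 * b.2.1) := by
    rintro ⟨x, y, z⟩ ⟨x', y', z'⟩
    simp only [Φ]
    rw [hLadd u hu, hLadd v hv, hzadd, hzadd, ← hpair x y']
    have e1 : zm z * (L u y' * L v x' * zm z') = L u y' * L v x' * (zm z * zm z') := by
      rw [← mul_assoc, hZc _ (hzZ z) (L u y' * L v x'), mul_assoc]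
    have e2 : L v x * L u y' = L u y' * L v x * comm' (L v x) (L u y') := by
      rw [← hZc _ (hcm _ _)]; exact mul_eq_comm'_mul _ _
    have e3 : comm' (L v x) (L u y') * (L v x' * (zm z * zm z')) =
        L v x' * (zm z * zm z' * comm' (L v x) (L u y')) := by
      rw [hZc _ (hcm _ _)]
      simp only [mul_assoc]
    calc L u y * L v x * zm z * (L u y' * L v x' * zm z')
        = L u y * L v x * (L u y' * L v x' * (zm z * zm z')) := by rw [mul_assoc _ (zm z), e1]
      _ = L u y * (L v x * L u y') * (L v x' * (zm z * zm z')) := by simp only [mul_assoc]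
      _ = L u y * L u y' * L v x * (comm' (L v x) (L u y') * (L v x' * (zm z * zm z'))) := by
          rw [e2]; simp only [mul_assoc]
      _ = _ := by rw [e3]; simp only [mul_assoc]
  have hzinj : ∀ a, zm a = 1 → a = 0 := by
    intro a ha
    rcases hall a with rfl | rfl | rfl | rfl <;> simp only [zm, g0, g1, g2, g3] at ha
    · rfl
    · exact absurd ha hc
    · exact absurd (ρ.injective (ρ.injective (by rw [ha, map_one, map_one]))) hc
    · rw [hcρ'] at ha
      exact absurd (ρ.injective (ha.trans (map_one ρ).symm)) hc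
  have hLu1 : L u 1 = u := g1 _ _
  have hLv1 : L v 1 = v := g1 _ _
  have hself : ∀ w a, comm' (L w a) w = 1 := by
    intro w a
    have h0 : comm' w w = 1 := by simp [comm']
    rcases hall a with rfl | rfl | rfl | rfl <;> simp only [L, g0, g1, g2, g3]
    · simp [comm']
    · exact h0
    · rw [hLf, h0, map_one, map_one]
    · rw [comm'_mul_left hZc hcm, hLf, h0, map_one, map_one, one_mul]
  have hzc : ∀ a w, comm' (zm a) w = 1 := fun a w => (comm'_eq_one_iff _ _).mpr (hZc _ (hzZ a) w)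
  have hinj : Function.Injective Φ := by
    have hker : ∀ a, Φ a = 1 → a = 0 := by
      rintro ⟨x, y, z⟩ h
      simp only [Φ] at h
      have hx : x = 0 := by
        have h1 : comm' (L u y * L v x * zm z) (L u 1) = 1 := by rw [h]; simp [comm']
        rw [comm'_mul_left hZc hcm, comm'_mul_left hZc hcm, hpair, mul_one, hzc, mul_one, hLu1,
          hself, one_mul] at h1
        exact hzinj x h1
      have hy : y = 0 := by
        have h1 : comm' (L u y * L v x * zm z) v = 1 := by rw [h]; simp [comm']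
        rw [comm'_mul_left hZc hcm, comm'_mul_left hZc hcm, hzc, mul_one, hself, mul_one,
          comm'_symm hZc hcm hZ2] at h1
        nth_rewrite 1 [← hLv1] at h1
        rw [hpair, one_mul] at h1
        exact hzinj y h1
      subst hx hy
      simp only [L, g0, one_mul] at h
      rw [hzinj z h]
      rfl
    intro a b hab
    have h1 : Φ b * Φ b * (Φ b * Φ b) = 1 := by
      rw [hmul, hmul]
      simp [Φ, L, zm, h2K, g0]
    let b' : K × K × K := (b.1, b.2.1, b.2.2 + b.1 * b.2.1)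
    have h2 : Φ a * Φ b' = 1 := by
      rw [hab, hmul]
      simp only [b', h2K]
      have : b.2.2 + (b.2.2 + b.1 * b.2.1) + b.1 * b.2.1 = 0 := by
        calc _ = (b.2.2 + b.2.2) + (b.1 * b.2.1 + b.1 * b.2.1) := by ring
          _ = 0 := by rw [h2K, h2K, add_zero]
      rw [this]
      simp [Φ, L, zm, g0]
    rw [hmul] at h2
    have h4 := hker _ h2
    simp only [b', Prod.ext_iff, Prod.fst_zero, Prod.snd_zero] at h4
    obtain ⟨k1, k2, k3⟩ := h4
    have heq : ∀ p q : K, p + q = 0 → p = q := fun p q hpq => by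
      calc p = p + (q + q) := by rw [h2K, add_zero]
        _ = q := by rw [← add_assoc, hpq, zero_add]
    have f1 := heq _ _ k1
    have f2 := heq _ _ k2
    refine Prod.ext f1 (Prod.ext f2 (heq _ _ ?_))
    rw [f1] at k3
    calc a.2.2 + b.2.2 = a.2.2 + (b.2.2 + b.1 * b.2.1) + b.1 * b.2.1 := by
          rw [← add_assoc, add_assoc _ (b.1 * b.2.1), h2K, add_zero]
      _ = 0 := k3
  have hbij : Function.Bijective Φ := (Nat.bijective_iff_injective_and_card Φ).mpr ⟨hinj, by
    rw [hT, Nat.card_prod, Nat.card_prod, Nat.card_eq_fintype_card, hK]⟩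
  exact CfsgLib.SylowL3.exists_sylow_PSL3_four hK Φ hbij hmul

open CfsgLib.StdForm in
theorem main_aux {T : Type*} [Group T] [Finite T] {Z : Subgroup T} (hT : Nat.card T = 64)
    (hZ4 : Nat.card Z = 4) (hZc : ∀ z ∈ Z, ∀ t : T, z * t = t * z) (hcm : ∀ u w : T, comm' u w ∈ Z)
    (hsq : ∀ t : T, t * t ∈ Z) (hZ2 : ∀ z ∈ Z, z * z = 1) (hcen : ∀ z, (∀ t : T, z * t = t * z) → z ∈ Z)
    (ρ x : MulAut T) (h3 : ∀ y, ρ (ρ (ρ y)) = y) (hfp : ∀ y, ρ y = y → y = 1)
    (hx2 : ∀ y, x (x y) = y) (hxρ : ∀ y, x (ρ y) = ρ (ρ (x y)))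
    (hZρ : ∀ z ∈ Z, ρ z ∈ Z) (hZx : ∀ z ∈ Z, x z ∈ Z) :
    (∃ u v : T, u * u = 1 ∧ v * v = 1 ∧ comm' v u ≠ 1) ∧
      ∀ C : Subgroup T, (∀ y : T, y ∈ C ↔ x y = y) →
        Nat.card C = 8 ∧ ∃ g h : C, g * h ≠ h * g := by
  classical
  obtain ⟨e, f, he, hf, heZ, hfZ, hefZ⟩ := exists_two_fixed_cosets hT hZ4 hZc hcm hsq hx2 hZx
  haveI hn : Z.Normal := ⟨fun k hk t => by rwa [← hZc k hk t, mul_inv_cancel_right]⟩
  let ρb : MulAut (T ⧸ Z) := QuotientGroup.congr Z Z ρ (by
    ext z
    constructor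
    · rintro ⟨w, hw, rfl⟩; exact hZρ w hw
    · intro hz; exact ⟨ρ (ρ z), hZρ _ (hZρ _ hz), h3 z⟩)
  let xb : MulAut (T ⧸ Z) := QuotientGroup.congr Z Z x (by
    ext z
    constructor
    · rintro ⟨w, hw, rfl⟩; exact hZx w hw
    · intro hz; exact ⟨x z, hZx _ hz, hx2 z⟩)
  have hρb : ∀ t : T, ρb (t : T ⧸ Z) = ((ρ t : T) : T ⧸ Z) := fun t => rfl
  have hxb : ∀ t : T, xb (t : T ⧸ Z) = ((x t : T) : T ⧸ Z) := fun t => rfl
  have h3b : ∀ y, ρb (ρb (ρb y)) = y := fun y => by
    induction y using QuotientGroup.induction_on with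
    | H t => rw [hρb, hρb, hρb, h3]
  have hfpb : ∀ y, ρb y = y → y = 1 := fun y => by
    induction y using QuotientGroup.induction_on with
    | H t =>
      intro ht
      rw [hρb] at ht
      exact (QuotientGroup.eq_one_iff t).mpr (fpf_mod_central hfp hZc hZρ (QuotientGroup.eq.mp ht.symm))
  have hxρb : ∀ y, xb (ρb y) = ρb (ρb (xb y)) := fun y => by
    induction y using QuotientGroup.induction_on with
    | H t => rw [hρb, hxb, hxρ, hxb, hρb, hρb]
  have hfixb : ∀ t, x t * t⁻¹ ∈ Z → xb (t : T ⧸ Z) = (t : T ⧸ Z) := fun t ht => by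
    have h1 : ((x t * t⁻¹ : T) : T ⧸ Z) = 1 := (QuotientGroup.eq_one_iff _).mpr ht
    rw [QuotientGroup.mk_mul, QuotientGroup.mk_inv, mul_inv_eq_one] at h1
    rw [hxb, h1]
  -- the commutator of e and f
  set c := comm' e f with hcdef
  have hR := comm'_rho hZc hcm hZ2 h3 hfp
  have hc1 : c ≠ 1 := by
    intro hc
    let ψ : T →* Z := MonoidHom.mk' (fun t => ⟨comm' e t, hcm e t⟩)
      fun a b => Subtype.ext (comm'_mul_right hZc hcm e a b)
    have hψ1 : ∀ t, t ∈ ψ.ker ↔ comm' e t = 1 := fun t => by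
      rw [MonoidHom.mem_ker]; exact Subtype.ext_iff
    obtain ⟨t, ht⟩ : ∃ t, comm' e t ≠ 1 := by
      by_contra hall
      push Not at hall
      exact heZ (hcen e fun t => (comm'_eq_one_iff _ _).mp (hall t))
    have hsurj : Function.Surjective ψ := by
      rintro ⟨z, hz⟩
      have hn1 : ρ (comm' e t) ≠ comm' e t := fun h => ht (hfp _ h)
      have hn2 : ρ (comm' e t) ≠ 1 := fun h => ht (ρ.injective (h.trans (map_one ρ).symm))
      have hn3 : ρ (ρ (comm' e t)) ≠ 1 := fun h => hn2 (ρ.injective (h.trans (map_one ρ).symm))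
      have hn4 : ρ (ρ (comm' e t)) ≠ ρ (comm' e t) := fun h => hn1 (ρ.injective h)
      have hn5 : ρ (ρ (comm' e t)) ≠ comm' e t := fun h => hn1 (by
        have := congrArg ρ h; rw [h3] at this; exact this.symm)
      let g : Fin 4 → ψ.range := fun i => ⟨ψ (![1, t, ρ (ρ t), ρ t] i), ⟨_, rfl⟩⟩
      have he1 : comm' e 1 = 1 := by simp [comm']
      have hg : Function.Injective g := by
        intro i j hij
        have h := congrArg (fun a : ψ.range => ((a : Z) : T)) hij
        fin_cases i <;> fin_cases j <;>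
          simp [g, ψ, hR, h3, he1] at h ⊢ <;>
          first
            | exact absurd h ht
            | exact absurd h.symm ht
            | exact absurd h hn1
            | exact absurd h.symm hn1
            | exact absurd h hn2
            | exact absurd h.symm hn2
            | exact absurd h hn3
            | exact absurd h.symm hn3
            | exact absurd h hn4
            | exact absurd h.symm hn4
            | exact absurd h hn5
            | exact absurd h.symm hn5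
      have h4 := Nat.card_le_card_of_injective g hg
      rw [Nat.card_fin] at h4
      have htop : ψ.range = ⊤ := Subgroup.eq_top_of_le_card _ (by rw [hZ4]; exact h4)
      exact (MonoidHom.range_eq_top.mp htop) _
    have hker : Nat.card ψ.ker = 16 := by
      have h1 := ψ.ker.card_mul_index
      rw [Subgroup.index_ker, MonoidHom.range_eq_top.mpr hsurj, Subgroup.card_top, hZ4, hT] at h1
      omega
    set Z' := ψ.ker.map (QuotientGroup.mk' Z) with hZ'
    have hle : Z ≤ ψ.ker := fun z hz => (hψ1 z).mpr ((comm'_eq_one_iff _ _).mpr (hZc z hz e).symm)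
    have hZ'4 : Nat.card Z' = 4 := by
      have h1 := ((QuotientGroup.mk' Z).comp ψ.ker.subtype).ker.card_mul_index
      rw [Subgroup.index_ker, MonoidHom.range_comp, Subgroup.range_subtype, ← hZ', hker] at h1
      have hk : Nat.card ((QuotientGroup.mk' Z).comp ψ.ker.subtype).ker = 4 := by
        rw [← hZ4]
        refine Nat.card_congr ((Equiv.subtypeEquivRight fun w => ?_).trans
          (Subgroup.subgroupOfEquivOfLe hle).toEquiv)
        rw [MonoidHom.mem_ker, Subgroup.mem_subgroupOf]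
        exact QuotientGroup.eq_one_iff _
      rw [hk] at h1
      omega
    have hZ'ρ : ∀ z ∈ Z', ρb z ∈ Z' := by
      rintro _ ⟨w, hw, rfl⟩
      refine ⟨ρ w, (hψ1 _).mpr ?_, (hρb w).symm⟩
      rw [hR, (hψ1 w).mp hw, map_one, map_one]
    have hee : (e : T ⧸ Z) = (f : T ⧸ Z) := fixed_unique hZ'4 h3b hfpb hZ'ρ hxρb
      ⟨e, (hψ1 e).mpr (by simp [comm']), rfl⟩ (fun h => heZ ((QuotientGroup.eq_one_iff e).mp h))
      ⟨f, (hψ1 f).mpr hc, rfl⟩ (fun h => hfZ ((QuotientGroup.eq_one_iff f).mp h)) (hfixb e he) (hfixb f hf)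
    have h1 := QuotientGroup.eq.mp hee
    exact hefZ (by
      have : e * f = e * e * (e⁻¹ * f) := by group
      rw [this]; exact mul_mem (hsq e) h1)
  -- fixed elements in the cosets
  have hsqfix : ∀ t, x t * t⁻¹ ∈ Z → x (t * t) = t * t := fun t ht => by
    have h1 : x t = x t * t⁻¹ * t := by group
    rw [map_mul, h1]
    calc x t * t⁻¹ * t * (x t * t⁻¹ * t) = x t * t⁻¹ * (t * (x t * t⁻¹)) * t := by group
      _ = x t * t⁻¹ * (x t * t⁻¹ * t) * t := by rw [← hZc _ ht t]
      _ = x t * t⁻¹ * (x t * t⁻¹) * (t * t) := by group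
      _ = t * t := by rw [hZ2 _ ht, one_mul]
  have hxc : x c = c := by
    obtain ⟨k, hk, hxe⟩ : ∃ k ∈ Z, x e = k * e := ⟨_, he, by group⟩
    obtain ⟨l, hl, hxf⟩ : ∃ l ∈ Z, x f = l * f := ⟨_, hf, by group⟩
    rw [hcdef, map_comm', hxe, hxf, comm'_mul_left hZc hcm, (comm'_eq_one_iff k _).mpr (hZc k hk _),
      one_mul, comm'_mul_right hZc hcm, (comm'_eq_one_iff e l).mpr (hZc l hl e).symm, one_mul]
  have hcZ : c ∈ Z := hcm e f
  have hval : ∀ t, x t * t⁻¹ ∈ Z → t * t ≠ 1 → t * t = c := fun t ht ht1 =>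
    fixed_unique hZ4 h3 hfp hZρ hxρ (hsq t) ht1 hcZ hc1 (hsqfix t ht) hxc
  have hprod : ρ (ρ c) * (c * ρ c) = 1 := by
    rw [hZc _ (hZρ _ (hZρ _ hcZ))]
    exact fpf_prod_eq_one h3 hfp c
  have hcρ : c * ρ c * ρ (ρ c) = 1 := fpf_prod_eq_one h3 hfp c
  have hS := comm'_symm hZc hcm hZ2
  have hsqm := sq_mul' hZc hcm
  constructor
  · by_cases h1 : e * e = 1
    · by_cases h2 : f * f = 1
      · exact ⟨e, f, h1, h2, by rw [hS]; exact hc1⟩
      · refine ⟨e, e * f, h1, ?_, ?_⟩
        · rw [hsqm, h1, hval f hf h2, hS, one_mul, hZ2 _ hcZ]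
        · rw [hS, comm'_mul_right hZc hcm, show comm' e e = 1 by simp [comm'], one_mul]
          exact hc1
    · by_cases h2 : f * f = 1
      · refine ⟨f, e * f, h2, ?_, ?_⟩
        · rw [hsqm, h2, hval e he h1, hS, mul_one, hZ2 _ hcZ]
        · rw [comm'_mul_left hZc hcm, show comm' f f = 1 by simp [comm'], mul_one]
          exact hc1
      · have hee := hval e he h1
        have hff := hval f hf h2
        refine ⟨e * ρ f, e * ρ (ρ f), ?_, ?_, ?_⟩
        · rw [hsqm, hS, hR, ← map_mul, hee, hff]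
          exact hprod
        · rw [hsqm, hS, hR, hR, h3, ← map_mul, ← map_mul, hee, hff, ← hcdef,
            ← mul_assoc, ← hZc _ hcZ]
          exact hcρ
        · have a1 : comm' e (ρ f) = ρ (ρ c) := by rw [hR]
          have a2 : comm' (ρ (ρ f)) e = ρ c := by rw [hS, hR, hR, h3]
          have a3 : comm' (ρ (ρ f)) (ρ f) = 1 := by
            rw [hS]
            rw [← map_comm', hR, show comm' f f = 1 by simp [comm'], map_one, map_one, map_one]
          rw [comm'_mul_left hZc hcm, comm'_mul_right hZc hcm, comm'_mul_right hZc hcm, a1, a2, a3,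
            show comm' e e = 1 by simp [comm'], one_mul, mul_one]
          intro h
          rw [hZc _ (hZρ _ (hZρ _ hcZ))] at h
          rw [mul_assoc, h, mul_one] at hcρ
          exact hc1 hcρ
  intro C hC
  have hlift : ∀ t, x t * t⁻¹ ∈ Z → ∃ t', x t' = t' ∧ ∃ z ∈ Z, t' = t * z := by
    intro t ht
    set k := x t * t⁻¹ with hk
    have hxt : x t = k * t := by rw [hk]; group
    by_cases hk1 : k = 1
    · exact ⟨t, by rw [hxt, hk1, one_mul], 1, one_mem Z, (mul_one t).symm⟩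
    · have hxk : x k = k := by
        have h1 : x (x t) = t := hx2 t
        rw [hxt, map_mul, hxt, ← mul_assoc] at h1
        have h4 : x k * k = 1 := mul_eq_right.mp h1
        exact mul_right_cancel (h4.trans (hZ2 k ht).symm)
      have hkc : k = c := fixed_unique hZ4 h3 hfp hZρ hxρ ht hk1 hcZ hc1 hxk hxc
      refine ⟨t * ρ c, ?_, ρ c, hZρ _ hcZ, rfl⟩
      rw [map_mul, hxt, hxρ, hxc, hkc, mul_assoc, hZc c hcZ, mul_assoc]
      congr 1
      have h5 : c * ρ (ρ c) * (c * ρ (ρ c)) = 1 := hZ2 _ (mul_mem hcZ (hZρ _ (hZρ _ hcZ)))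
      have h6 : ρ c * (c * ρ (ρ c)) = 1 := by
        rw [← mul_assoc, ← hZc _ hcZ]; exact hcρ
      rw [← hZc _ hcZ]
      exact (mul_right_cancel (h6.trans h5.symm)).symm
  obtain ⟨e', he', ze, hze, hee'⟩ := hlift e he
  obtain ⟨f', hf', zf, hzf, hff'⟩ := hlift f hf
  let π : C →* T ⧸ Z := (QuotientGroup.mk' Z).comp C.subtype
  have hπ : ∀ a : C, xb (π a) = π a := fun a => by
    show xb ((a : T) : T ⧸ Z) = ((a : T) : T ⧸ Z)
    rw [hxb, (hC a).mp a.2]
  have hker : Nat.card π.ker = 2 := by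
    have h1 : ∀ a : C, a ∈ π.ker ↔ (a : T) ∈ Z := fun a => QuotientGroup.eq_one_iff _
    rw [Nat.card_eq_two_iff]
    refine ⟨1, ⟨⟨c, (hC c).mpr hxc⟩, (h1 _).mpr hcZ⟩, ?_, ?_⟩
    · intro h
      exact hc1 (congrArg (fun a : π.ker => ((a : C) : T)) h).symm
    · ext a
      simp only [Set.mem_insert_iff, Set.mem_singleton_iff, Set.mem_univ, iff_true]
      by_cases ha : ((a : C) : T) = 1
      · exact Or.inl (Subtype.ext (Subtype.ext ha))
      · exact Or.inr (Subtype.ext (Subtype.ext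
          (fixed_unique hZ4 h3 hfp hZρ hxρ ((h1 _).mp a.2) ha hcZ hc1 ((hC _).mp (a : C).2) hxc)))
  have hQ : Nat.card (T ⧸ Z) = 16 := by
    have := Z.card_mul_index
    rw [hZ4, hT, Subgroup.index] at this
    omega
  have hmax : Nat.card π.range ≤ 4 := by
    let g : π.range × π.range → T ⧸ Z := fun p => (p.1 : T ⧸ Z) * ρb p.2
    have hg : Function.Injective g := by
      rintro ⟨⟨a, a0, rfl⟩, ⟨b, b0, rfl⟩⟩ ⟨⟨a', a1, rfl⟩, ⟨b', b1, rfl⟩⟩ h
      simp only [g] at h
      have h1 : (π a1)⁻¹ * π a0 = ρb (π b1 * (π b0)⁻¹) := by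
        rw [map_mul, map_inv, eq_mul_inv_iff_mul_eq, mul_assoc, h, inv_mul_cancel_left]
      have h2 : xb ((π a1)⁻¹ * π a0) = (π a1)⁻¹ * π a0 := by rw [map_mul, map_inv, hπ, hπ]
      rw [h1, hxρb, map_mul, map_inv xb, hπ, hπ] at h2
      have h4 : π b1 * (π b0)⁻¹ = 1 := hfpb _ (ρb.injective h2)
      rw [h4, map_one] at h1
      exact Prod.ext (Subtype.ext (inv_mul_eq_one.mp h1).symm) (Subtype.ext (mul_inv_eq_one.mp h4).symm)
    have h1 := Nat.card_le_card_of_injective g hg
    rw [Nat.card_prod, hQ] at h1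
    by_contra hlt
    push Not at hlt
    nlinarith
  have hmin : 3 ≤ Nat.card π.range := by
    have h1 : (e' : T ⧸ Z) = (e : T ⧸ Z) := by rw [hee', QuotientGroup.mk_mul_of_mem e hze]
    have h2 : (f' : T ⧸ Z) = (f : T ⧸ Z) := by rw [hff', QuotientGroup.mk_mul_of_mem f hzf]
    let g : Fin 3 → π.range := ![⟨π 1, ⟨_, rfl⟩⟩, ⟨π ⟨e', (hC _).mpr he'⟩, ⟨_, rfl⟩⟩,
      ⟨π ⟨f', (hC _).mpr hf'⟩, ⟨_, rfl⟩⟩]
    have k1 : (e : T ⧸ Z) ≠ 1 := fun h => heZ ((QuotientGroup.eq_one_iff e).mp h)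
    have k2 : (f : T ⧸ Z) ≠ 1 := fun h => hfZ ((QuotientGroup.eq_one_iff f).mp h)
    have k3 : (e : T ⧸ Z) ≠ (f : T ⧸ Z) := fun h => hefZ (by
      rw [show e * f = e * e * (e⁻¹ * f) by group]
      exact mul_mem (hsq e) (QuotientGroup.eq.mp h))
    have hg : Function.Injective g := by
      intro i j h
      have h' := congrArg Subtype.val h
      fin_cases i <;> fin_cases j <;>
        simp [g, π, h1, h2, k1, k2, k3, k1.symm, k2.symm, k3.symm] at h' ⊢
    simpa using Nat.card_le_card_of_injective g hg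
  have hdvd : Nat.card π.range ∣ 16 := hQ ▸ Subgroup.card_subgroup_dvd_card _
  have hcard : Nat.card C = 8 := by
    have h1 := π.ker.card_mul_index
    rw [Subgroup.index_ker, hker] at h1
    generalize hr : Nat.card π.range = r at hdvd hmax hmin h1
    interval_cases r <;> norm_num at hdvd
    omega
  refine ⟨hcard, ⟨e', (hC _).mpr he'⟩, ⟨f', (hC _).mpr hf'⟩, fun h => ?_⟩
  have h1 : comm' e' f' = 1 := (comm'_eq_one_iff _ _).mpr (congrArg Subtype.val h)
  rw [hee', hff', comm'_mul_left hZc hcm, (comm'_eq_one_iff ze _).mpr (hZc ze hze _), mul_one,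
    comm'_mul_right hZc hcm, (comm'_eq_one_iff e zf).mpr (hZc zf hzf e).symm, mul_one] at h1
  exact hc1 h1

/-- Let T be a non-abelian group of order 64 admitting automorphisms ρ of order 3 and x of order 2 with x ρ x⁻¹ = ρ⁻¹ (so they generate a symmetric group of degree 3), where ρ fixes only the identity. Then T is isomorphic to a Sylow 2-subgroup of the projective special linear group of dimension 3 over the field with 4 elements, and the subgroup of fixed points of x is dihedral of order 8 or quaternion of order 8. -/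
theorem result {T : Type*} [Group T] [Finite T] (hT : Nat.card T = 64) (hna : ¬ IsMulCommutative T) (ρ x : MulAut T) (hρ : orderOf ρ = 3) (hx : orderOf x = 2)
    (hxr : x * ρ * x⁻¹ = ρ⁻¹) (hfp : ∀ y : T, ρ y = y → y = 1) (C : Subgroup T) (hC : ∀ y : T, y ∈ C ↔ x y = y) :
    (∃ (F : Type) (_ : Field F) (_ : Fintype F), Fintype.card F = 4 ∧
        ∃ S : Sylow 2 (Matrix.ProjectiveSpecialLinearGroup (Fin 3) F), Nonempty (T ≃* ↥(S : Subgroup (Matrix.ProjectiveSpecialLinearGroup (Fin 3) F)))) ∧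
      (Nonempty (↥C ≃* DihedralGroup 4) ∨ Nonempty (↥C ≃* QuaternionGroup 2)) := by
  obtain ⟨g, h, hgh⟩ : ∃ g h : T, g * h ≠ h * g := by
    by_contra hall
    push Not at hall
    exact hna ⟨⟨hall⟩⟩
  have h3 : ∀ y, ρ (ρ (ρ y)) = y := fun y => by
    have h1 : (ρ ^ 3) y = y := by rw [← hρ, pow_orderOf_eq_one]; rfl
    exact h1
  have hx2 : ∀ y, x (x y) = y := fun y => by
    have h1 : (x ^ 2) y = y := by rw [← hx, pow_orderOf_eq_one]; rfl
    rw [sq] at h1
    exact h1
  have hxρ : ∀ y, x (ρ y) = ρ (ρ (x y)) := fun y => by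
    have h1 : x * ρ = ρ * ρ * x := by
      have h2 : ρ⁻¹ = ρ * ρ := inv_eq_of_mul_eq_one_right (by
        rw [← pow_orderOf_eq_one ρ, hρ, pow_succ', pow_two])
      rw [← h2, ← hxr, inv_mul_cancel_right]
    exact congrArg (fun a : MulAut T => a y) h1
  obtain ⟨hZ4, hsq, hZ2⟩ := CfsgLib.StdForm.structure_sixty_four hT hgh h3 hfp
  set Z := Subgroup.center T with hZdef
  have hZc : ∀ z ∈ Z, ∀ t : T, z * t = t * z := fun z hz t => (Subgroup.mem_center_iff.mp hz t).symm
  have hcm : ∀ u w : T, CfsgLib.StdForm.comm' u w ∈ Z := fun u w => by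
    have h1 : CfsgLib.StdForm.comm' u w =
        (u * w * (u * w)) * (w⁻¹ * (u * u)⁻¹ * w) * (w * w)⁻¹ := by
      unfold CfsgLib.StdForm.comm'; group
    rw [h1]
    refine mul_mem (mul_mem (hsq _) ?_) (inv_mem (hsq w))
    rw [mul_assoc, hZc _ (inv_mem (hsq u)) w, inv_mul_cancel_left]
    exact inv_mem (hsq u)
  have hchar : ∀ f : MulAut T, ∀ z ∈ Z, f z ∈ Z := fun f z hz => by
    rw [hZdef, Subgroup.mem_center_iff]
    intro t
    obtain ⟨t', rfl⟩ := f.surjective t
    rw [← map_mul, ← map_mul, Subgroup.mem_center_iff.mp hz t']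
  obtain ⟨⟨u, v, hu, hv, huv⟩, hC'⟩ := main_aux hT hZ4 hZc hcm hsq hZ2
    (fun z hz => Subgroup.mem_center_iff.mpr fun t => (hz t).symm) ρ x h3 hfp hx2 hxρ (hchar ρ) (hchar x)
  obtain ⟨hc8, g', h', hgh'⟩ := hC' C hC
  exact ⟨iso_aux hT hZc hcm hZ2 ρ h3 hfp (hchar ρ) u v hu hv huv,
    CfsgLib.StdForm.dihedral_or_quaternion_of_card_eight hc8 hgh'⟩

end Cfsg.Agent.S3157
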