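import Cfsg.Statements.S3158
import Mathlib

set_option autoImplicit false
open Cfsg

namespace Cfsg.Agent.S3158

/-- Let U be a group of order q² with q = 2^n ≥ 2, and y an automorphism of U of order q − 1 all of whose nontrivial powers fix only the identity. Let V be a proper normal y-invariant subgroup of U such that V and U/V are elementary abelian 2-groups and there is an isomorphism from V to U/V commuting with the actions of y. Then U is abelian. -/
theorem result {U : Type*} [Group U] [Finite U] (n : ℕ) (hn : 1 ≤ n) (hU : Nat.card U = (2 ^ n) ^ 2)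
    (y : MulAut U) (hy : orderOf y = 2 ^ n - 1) (hfp : ∀ k : ℕ, y ^ k ≠ 1 → ∀ u : U, (y ^ k) u = u → u = 1)
    (V : Subgroup U) [V.Normal] (hV : V ≠ ⊤) (hyV : ∀ v ∈ V, y v ∈ V)
    (hVe : ∀ v ∈ V, v ^ 2 = 1) (hQe : ∀ u : U, u ^ 2 ∈ V) (hQc : ∀ u w : U, u * w * u⁻¹ * w⁻¹ ∈ V)
    (φ : ↥V ≃* U ⧸ V) (hφ : ∀ (v : ↥V) (u : U), (QuotientGroup.mk u : U ⧸ V) = φ v → φ ⟨y v, hyV v v.2⟩ = QuotientGroup.mk (y u)) :
    IsMulCommutative U := by
  classical
  obtain ⟨m, rfl⟩ : ∃ m, n = m + 1 := ⟨n - 1, by omega⟩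
  have hcardV : Nat.card V * Nat.card V = (2 ^ (m + 1)) ^ 2 := by
    rw [← hU, Subgroup.card_eq_card_quotient_mul_card_subgroup V, Nat.card_congr φ.toEquiv]
  have hV' : Nat.card V = 2 ^ (m + 1) := Nat.pow_left_injective (n := 2) (by norm_num) (by simpa [sq] using hcardV)
  have hinv : ∀ (k : ℕ), ∀ v ∈ V, (y ^ k) v ∈ V := by
    intro k
    induction k with
    | zero => intro v hv; simpa using hv
    | succ k ih => intro v hv; rw [pow_succ]; exact ih _ (hyV v hv)
  obtain ⟨v₀, hv₀⟩ : ∃ v₀ : V, v₀ ≠ 1 := by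
    have : Nontrivial V := by
      rw [← Finite.one_lt_card_iff_nontrivial, hV']
      exact Nat.one_lt_two_pow (by omega)
    exact exists_ne 1
  have hfix : ∀ k, (y ^ k) (v₀ : U) = v₀ → y ^ k = 1 := by
    intro k hk; by_contra hne
    exact hv₀ (Subtype.ext (hfp k hne _ hk))
  have hnz : ∀ k, (⟨(y ^ k) v₀, hinv k _ v₀.2⟩ : V) ≠ 1 := fun k hk =>
    hv₀ (Subtype.ext ((y ^ k).injective (by simpa using congrArg Subtype.val hk)))
  have htrans : ∀ v : V, v ≠ 1 → ∃ k, (y ^ k) (v₀ : U) = v := by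
    intro v hv
    let f : Fin (2 ^ (m+1) - 1) → {w : V // w ≠ 1} := fun k => ⟨⟨(y ^ (k : ℕ)) v₀, hinv k _ v₀.2⟩, hnz k⟩
    have hf : Function.Injective f := by
      have key : ∀ i j : Fin (2 ^ (m+1) - 1), (i : ℕ) ≤ j → f i = f j → i = j := by
        intro i j hij he
        have he' : (y ^ (i : ℕ)) (v₀ : U) = (y ^ (j : ℕ)) v₀ := congrArg (fun w : {w : V // w ≠ 1} => ((w : V) : U)) he
        have : y ^ ((j : ℕ) - i) = 1 := hfix _ (by
          apply (y ^ (i : ℕ)).injective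
          rw [← MulAut.mul_apply, ← pow_add, Nat.add_sub_cancel' hij]; exact he'.symm)
        have hd := orderOf_dvd_of_pow_eq_one this
        rw [hy] at hd
        ext
        have := Nat.eq_zero_of_dvd_of_lt hd (by omega)
        omega
      intro i j he
      rcases le_total (i : ℕ) j with h | h
      · exact key i j h he
      · exact (key j i h he.symm).symm
    have := Fintype.ofFinite V
    have hcard : Fintype.card (Fin (2 ^ (m+1) - 1)) = Fintype.card {w : V // w ≠ 1} := by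
      rw [Fintype.card_subtype_compl, ← Nat.card_eq_fintype_card (α := V), hV']; simp
    obtain ⟨k, hk⟩ := ((Fintype.bijective_iff_injective_and_card f).mpr ⟨hf, hcard⟩).2 ⟨v, hv⟩
    exact ⟨k, congrArg (fun w : {w : V // w ≠ 1} => ((w : V) : U)) hk⟩
  have hequiv : ∀ (k : ℕ) (v : V) (u : U), (QuotientGroup.mk u : U ⧸ V) = φ v →
      φ ⟨(y ^ k) v, hinv k _ v.2⟩ = QuotientGroup.mk ((y ^ k) u) := by
    intro k
    induction k with
    | zero => intro v u h; simpa using h.symm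
    | succ k ih =>
      intro v u h
      simp only [pow_succ', MulAut.mul_apply]
      exact hφ ⟨(y ^ k) v, hinv k _ v.2⟩ _ (ih v u h).symm
  have h2 : IsPGroup 2 U := IsPGroup.of_card (n := 2 * (m+1)) (by rw [hU, ← pow_mul]; ring_nf)
  have hne : V ≠ ⊥ := fun hb => hv₀ (Subtype.ext (Subgroup.mem_bot.mp (le_of_eq hb v₀.2)))
  have hVc : V ≤ Subgroup.center U := by
    obtain ⟨v, hv1, hvc⟩ : ∃ v : V, v ≠ 1 ∧ (v : U) ∈ Subgroup.center U := by
      have hp : Fact (Nat.Prime 2) := ⟨Nat.prime_two⟩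
      have hca : IsPGroup 2 (ConjAct U) := h2.of_equiv ConjAct.toConjAct
      have hdvd : 2 ∣ Nat.card V := by rw [hV']; exact dvd_pow_self 2 (by omega)
      obtain ⟨w, hw, hw1⟩ := hca.exists_fixed_point_of_prime_dvd_card_of_fixed_point V hdvd
        (a := (1 : V)) (fun g => smul_one g)
      refine ⟨w, fun e => hw1 e.symm, Subgroup.mem_center_iff.mpr fun g => ?_⟩
      have hh := congrArg Subtype.val (hw (ConjAct.toConjAct g))
      replace hh : g * (w : U) * g⁻¹ = w := hh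
      calc g * (w : U) = (g * w * g⁻¹) * g := by group
        _ = w * g := by rw [hh]
    obtain ⟨i, hi⟩ := htrans v hv1
    have hc : ∀ (e : MulAut U) (c : U), e c ∈ Subgroup.center U ↔ c ∈ Subgroup.center U := by
      intro e c
      simp only [Subgroup.mem_center_iff]
      constructor
      · intro h g; apply e.injective; simpa using h (e g)
      · intro h g; simpa using congrArg e (h (e.symm g))
    have h0 : (v₀ : U) ∈ Subgroup.center U := (hc (y ^ i) _).mp (by rw [hi]; exact hvc)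
    intro w hw
    by_cases hw1 : w = 1
    · simp [hw1]
    obtain ⟨j, hj⟩ := htrans ⟨w, hw⟩ (fun e => hw1 (congrArg Subtype.val e))
    have h5 := (hc (y ^ j) _).mpr h0
    rw [hj] at h5
    exact h5
  have hsq : ∀ u v : U, v ∈ V → (u * v) ^ 2 = u ^ 2 := by
    intro u v hv
    rw [Commute.mul_pow ((Subgroup.mem_center_iff.mp (hVc hv)) u), hVe v hv, mul_one]
  obtain ⟨u₀, hu₀⟩ := QuotientGroup.mk_surjective (φ v₀)
  have hdec : ∀ u : U, u ∈ V ∨ ∃ k, ∃ v ∈ V, u = (y ^ k) u₀ * v := by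
    intro u
    by_cases hu : u ∈ V
    · exact Or.inl hu
    right
    have hne : φ.symm (QuotientGroup.mk u) ≠ 1 := by simpa using hu
    obtain ⟨k, hk⟩ := htrans _ hne
    have e1 : φ ⟨(y ^ k) v₀, hinv k _ v₀.2⟩ = QuotientGroup.mk u := by
      rw [show (⟨(y ^ k) v₀, hinv k _ v₀.2⟩ : V) = φ.symm (QuotientGroup.mk u) from Subtype.ext hk]; simp
    rw [hequiv k v₀ u₀ hu₀] at e1
    exact ⟨k, _, QuotientGroup.eq.mp e1, by group⟩
  suffices ∀ a b : U, (a * b) ^ 2 = a ^ 2 * b ^ 2 by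
    refine ⟨⟨fun a b => ?_⟩⟩
    have h := this a b
    rw [sq, sq, sq] at h
    have : a * (b * a) * b = a * (a * b) * b := by simpa [mul_assoc] using h
    exact (mul_left_cancel (mul_right_cancel this)).symm
  by_cases hz : u₀ ^ 2 = 1
  · have hall : ∀ u : U, u ^ 2 = 1 := by
      intro u
      rcases hdec u with hu | ⟨k, v, hv, rfl⟩
      · exact hVe u hu
      · rw [hsq _ _ hv, ← map_pow, hz, map_one]
    intro a b; simp [hall]
  · obtain ⟨j, hj⟩ := htrans ⟨u₀ ^ 2, hQe u₀⟩ (fun e => hz (congrArg Subtype.val e))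
    have hQ : ∀ u : U, u ^ 2 = (y ^ j) (φ.symm (QuotientGroup.mk u) : V) := by
      intro u
      rcases hdec u with hu | ⟨k, v, hv, rfl⟩
      · rw [hVe u hu, (QuotientGroup.eq_one_iff u).mpr hu]; simp
      · rw [hsq _ _ hv, ← map_pow, QuotientGroup.mk_mul_of_mem _ hv,
          ← hequiv k v₀ u₀ hu₀, MulEquiv.symm_apply_apply]
        show (y ^ k) (u₀ ^ 2) = (y ^ j) ((y ^ k) (v₀ : U))
        rw [show (u₀ ^ 2) = (y ^ j) (v₀ : U) from hj.symm, ← MulAut.mul_apply, ← MulAut.mul_apply, ← pow_add, ← pow_add, add_comm]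
    intro a b
    rw [hQ, hQ, hQ, QuotientGroup.mk_mul, map_mul, Subgroup.coe_mul, map_mul]

end Cfsg.Agent.S3158
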