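import Cfsg.Statements.S3163
import Mathlib

set_option autoImplicit false
open Cfsg

namespace Cfsg.Agent.S3163

/-- Let S be a non-abelian finite 2-group which is the product S = AB of two elementary abelian subgroups A and B, and suppose that the centralizer in S of every element of A outside B is exactly A. Then the centralizer of every element of B outside A is exactly B; A and B are maximal elementary abelian subgroups of S and the only ones; the centre of S is A ∩ B; and every element of S outside A ∪ B has centralizer of order at most min(|A|, |B|). -/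
theorem result {S : Type*} [Group S] [Finite S] (hS : IsPGroup 2 S) (hna : ¬ IsMulCommutative S) (A B : Subgroup S)
    (hA : Cfsg.IsElementaryAbelian 2 A) (hB : Cfsg.IsElementaryAbelian 2 B) (hAB : ∀ s : S, ∃ a ∈ A, ∃ b ∈ B, s = a * b)
    (hC : ∀ a ∈ A, a ∉ B → Subgroup.centralizer ({a} : Set S) = A) :
    (∀ b ∈ B, b ∉ A → Subgroup.centralizer ({b} : Set S) = B) ∧
      (∀ E : Subgroup S, Cfsg.IsElementaryAbelian 2 E → (∀ E' : Subgroup S, Cfsg.IsElementaryAbelian 2 E' → E ≤ E' → E' = E) → E = A ∨ E = B) ∧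
      (∀ E' : Subgroup S, Cfsg.IsElementaryAbelian 2 E' → A ≤ E' → E' = A) ∧ (∀ E' : Subgroup S, Cfsg.IsElementaryAbelian 2 E' → B ≤ E' → E' = B) ∧
      Subgroup.center S = A ⊓ B ∧
      (∀ x : S, x ∉ A → x ∉ B → Nat.card ↥(Subgroup.centralizer ({x} : Set S)) ≤ min (Nat.card ↥A) (Nat.card ↥B)) := by
  have hAne : ∃ a ∈ A, a ∉ B := by
    by_contra hcon
    push Not at hcon
    apply hna
    refine ⟨⟨fun x y => ?_⟩⟩
    obtain ⟨a, ha, b, hb, rfl⟩ := hAB x
    obtain ⟨a', ha', b', hb', rfl⟩ := hAB y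
    exact congrArg Subtype.val (hB.1.is_comm.comm (⟨a * b, B.mul_mem (hcon a ha) hb⟩ : B) ⟨a' * b', B.mul_mem (hcon a' ha') hb'⟩)
  obtain ⟨a₀, ha₀, ha₀'⟩ := hAne
  have cA : ∀ u ∈ A, ∀ v ∈ A, u * v = v * u := fun u hu v hv =>
    congrArg Subtype.val (hA.1.is_comm.comm (⟨u, hu⟩ : A) ⟨v, hv⟩)
  have cB : ∀ u ∈ B, ∀ v ∈ B, u * v = v * u := fun u hu v hv =>
    congrArg Subtype.val (hB.1.is_comm.comm (⟨u, hu⟩ : B) ⟨v, hv⟩)
  have cent : ∀ a ∈ A, a ∉ B → ∀ x : S, a * x = x * a → x ∈ A := by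
    intro a ha ha' x hx
    rw [← hC a ha ha']
    exact Subgroup.mem_centralizer_singleton_iff.mpr hx.symm
  have hCB : ∀ b ∈ B, b ∉ A → Subgroup.centralizer ({b} : Set S) = B := by
    intro b hb hb'
    refine le_antisymm (fun x hx => ?_) (fun x hx => Subgroup.mem_centralizer_singleton_iff.mpr (cB x hx b hb))
    have hx' := Subgroup.mem_centralizer_singleton_iff.mp hx
    obtain ⟨a, ha, c, hc, rfl⟩ := hAB x
    by_cases haB : a ∈ B
    · exact B.mul_mem haB hc
    · exfalso
      apply hb'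
      apply cent a ha haB
      apply mul_right_cancel (b := c)
      calc a * b * c = a * (c * b) := by rw [mul_assoc, cB b hb c hc]
        _ = a * c * b := (mul_assoc _ _ _).symm
        _ = b * (a * c) := hx'
        _ = b * a * c := (mul_assoc _ _ _).symm
  have hBA : ∀ s : S, ∃ b ∈ B, ∃ a ∈ A, s = b * a := by
    intro s
    obtain ⟨a, ha, b, hb, h⟩ := hAB s⁻¹
    exact ⟨b⁻¹, B.inv_mem hb, a⁻¹, A.inv_mem ha, by rw [← mul_inv_rev, ← h, inv_inv]⟩
  have hcen : ∀ z ∈ A, z ∈ B → z ∈ Subgroup.center S := by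
    intro z hzA hzB
    refine Subgroup.mem_center_iff.mpr fun g => ?_
    obtain ⟨a, ha, b, hb, rfl⟩ := hAB g
    rw [mul_assoc, cB b hb z hzB, ← mul_assoc, cA a ha z hzA, mul_assoc]
  have hZ : Subgroup.center S = A ⊓ B := by
    refine le_antisymm (fun z hz => ?_) (fun z hz => hcen z hz.1 hz.2)
    have hzA := cent a₀ ha₀ ha₀' z (Subgroup.mem_center_iff.mp hz a₀)
    refine ⟨hzA, ?_⟩
    by_contra hzB
    apply hna
    refine ⟨⟨fun x y => ?_⟩⟩
    exact cA x (cent z hzA hzB x (Subgroup.mem_center_iff.mp hz x).symm)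
      y (cent z hzA hzB y (Subgroup.mem_center_iff.mp hz y).symm)
  obtain ⟨b₀, hb₀, hb₀'⟩ : ∃ b ∈ B, b ∉ A := by
    by_contra hcon
    push Not at hcon
    apply hna
    refine ⟨⟨fun x y => ?_⟩⟩
    obtain ⟨a, ha, b, hb, rfl⟩ := hAB x
    obtain ⟨a', ha', b', hb', rfl⟩ := hAB y
    exact cA _ (A.mul_mem ha (hcon b hb)) _ (A.mul_mem ha' (hcon b' hb'))
  have hmaxA : ∀ E' : Subgroup S, IsElementaryAbelian 2 E' → A ≤ E' → E' = A := fun E' hE' hle =>
    le_antisymm (fun x hx => cent a₀ ha₀ ha₀' x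
      (congrArg Subtype.val (hE'.1.is_comm.comm (⟨a₀, hle ha₀⟩ : E') ⟨x, hx⟩))) hle
  have hmaxB : ∀ E' : Subgroup S, IsElementaryAbelian 2 E' → B ≤ E' → E' = B := fun E' hE' hle =>
    le_antisymm (fun x hx => hCB b₀ hb₀ hb₀' ▸ Subgroup.mem_centralizer_singleton_iff.mpr
      (congrArg Subtype.val (hE'.1.is_comm.comm (⟨x, hx⟩ : E') ⟨b₀, hle hb₀⟩))) hle
  refine ⟨hCB, ?_, hmaxA, hmaxB, hZ, ?_⟩
  · intro E hE hmax
    have hsub : ∀ x ∈ E, x ∈ A ∨ x ∈ B := by
      intro x hx
      obtain ⟨a, ha, b, hb, rfl⟩ := hAB x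
      by_cases haB : a ∈ B
      · exact Or.inr (B.mul_mem haB hb)
      refine Or.inl (A.mul_mem ha (cent a ha haB b ?_))
      have h2 := hE.2 _ hx
      have ha2 := hA.2 a ha
      have hb2 := hB.2 b hb
      rw [sq] at h2 ha2 hb2
      calc a * b = (b * a) * ((a * b) * (a * b)) := by
            rw [mul_assoc b a, ← mul_assoc a (a * b), ← mul_assoc a a b, ha2, one_mul, ← mul_assoc b b, hb2, one_mul]
        _ = b * a := by rw [h2, mul_one]
    by_cases hEA : E ≤ A
    · exact Or.inl (hmax A hA hEA).symm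
    · obtain ⟨x, hx, hxA⟩ := SetLike.not_le_iff_exists.mp hEA
      refine Or.inr (hmax B hB fun y hy => ?_).symm
      rcases hsub y hy with hyA | hyB
      · have hxB := (hsub x hx).resolve_left hxA
        rcases hsub (y * x) (E.mul_mem hy hx) with h1 | h1
        · exact absurd (by simpa using A.mul_mem (A.inv_mem hyA) h1) hxA
        · simpa using B.mul_mem h1 (B.inv_mem hxB)
      · exact hyB
  · intro x hxA hxB
    have key : ∀ P Q : Subgroup S, (∀ a ∈ P, a ∉ Q → Subgroup.centralizer ({a} : Set S) = P) →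
        (∀ s : S, ∃ q ∈ Q, ∃ a ∈ P, s = q * a) → x ∉ P →
        Nat.card ↥(Subgroup.centralizer ({x} : Set S)) ≤ Nat.card ↥Q := by
      intro P Q hP hQP hxP
      let C := Subgroup.centralizer ({x} : Set S)
      have hle : P ⊓ C ≤ P ⊓ Q := by
        intro c hc
        refine ⟨hc.1, ?_⟩
        by_contra hcQ
        apply hxP
        rw [← hP c hc.1 hcQ]
        exact Subgroup.mem_centralizer_singleton_iff.mpr (Subgroup.mem_centralizer_singleton_iff.mp hc.2).symm
      have hsur : Function.Surjective (fun q : Q ⧸ P.subgroupOf Q =>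
          Quotient.liftOn' q (fun q : Q => (QuotientGroup.mk (q : S) : S ⧸ P))
            (fun q r h => by
              rw [QuotientGroup.leftRel_apply] at h
              exact QuotientGroup.eq.mpr h)) := by
        intro s
        induction s using QuotientGroup.induction_on with
        | H s =>
          obtain ⟨q, hq, a, ha, rfl⟩ := hQP s
          exact ⟨QuotientGroup.mk ⟨q, hq⟩, (QuotientGroup.mk_mul_of_mem q ha).symm⟩
      have h1 : P.index ≤ P.relIndex Q := Nat.card_le_card_of_surjective _ hsur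
      have h2 : P.relIndex C ≤ P.index := Subgroup.relIndex_top_right P ▸
        Subgroup.relIndex_le_of_le_right le_top (by rw [Subgroup.relIndex_top_right]; exact Subgroup.index_ne_zero_of_finite)
      have e : ∀ T : Subgroup S, Nat.card T = Nat.card ↥(P ⊓ T) * P.relIndex T := by
        intro T
        rw [← Subgroup.relIndex_bot_left (P ⊓ T), ← Subgroup.inf_relIndex_right P T,
          Subgroup.relIndex_mul_relIndex _ _ _ bot_le inf_le_right, Subgroup.relIndex_bot_left]
      calc Nat.card C = Nat.card ↥(P ⊓ C) * P.relIndex C := e C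
        _ ≤ Nat.card ↥(P ⊓ Q) * P.relIndex Q :=
          Nat.mul_le_mul (Subgroup.card_le_of_le hle) (h2.trans h1)
        _ = Nat.card Q := (e Q).symm
    exact le_min (key B A (fun b hb hb' => hCB b hb hb') hAB hxB) (key A B hC hBA hxA)

end Cfsg.Agent.S3163
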