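import Cfsg.Statements.S3166
import Mathlib

set_option autoImplicit false
open Cfsg

namespace Cfsg.Agent.S3166

/-- Let q = 2^n with n ≥ 1. If q⁴ − q³ + q² − q + 1 is a power p^m of a prime p, then m = 1: the value is never a prime power with exponent greater than 1. -/
theorem result (n p m : ℕ) (hn : 1 ≤ n) (hp : p.Prime) (h : (2 ^ n) ^ 4 - (2 ^ n) ^ 3 + (2 ^ n) ^ 2 - 2 ^ n + 1 = p ^ m) : m = 1 := by
  have hq2 : 2 ≤ 2 ^ n := le_self_pow₀ (a := 2) (by norm_num) (by omega)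
  have hqe : Even (2 ^ n) := even_two.pow_of_ne_zero (by omega)
  generalize hqd : 2 ^ n = q at h hq2 hqe
  have hp2 := hp.two_le
  have hint : ((p : ℤ) ^ m) = (q : ℤ) ^ 4 - (q : ℤ) ^ 3 + (q : ℤ) ^ 2 - q + 1 := by
    have a1 : q ^ 3 ≤ q ^ 4 := Nat.pow_le_pow_right (by omega) (by norm_num)
    have a2 : q ≤ q ^ 4 - q ^ 3 + q ^ 2 := le_trans (Nat.le_self_pow (by norm_num) q) (Nat.le_add_left _ _)
    have := congrArg (fun k : ℕ => (k : ℤ)) h
    push_cast [Nat.cast_sub a1, Nat.cast_sub a2] at this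
    linarith
  have hqz : (2 : ℤ) ≤ q := by exact_mod_cast hq2
  have hpz : (2 : ℤ) ≤ p := by exact_mod_cast hp2
  have hsq : ∀ w : ℤ, 0 ≤ w → w ^ 2 ≠ (q : ℤ) ^ 4 - (q : ℤ) ^ 3 + (q : ℤ) ^ 2 - q + 1 := by
    intro w hw he
    have l : 2 * (q : ℤ) ^ 2 - q < 2 * w := by nlinarith
    have u : 2 * w < 2 * (q : ℤ) ^ 2 - q + 1 := by
      by_contra hc
      have hb : (0 : ℤ) ≤ 2 * (q : ℤ) ^ 2 - q + 1 := by nlinarith
      have := pow_le_pow_left₀ hb (not_lt.mp hc) 2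
      nlinarith
    omega
  rcases Nat.even_or_odd m with ⟨k, hk⟩ | hmo
  · exfalso
    refine hsq ((p : ℤ) ^ k) (by positivity) ?_
    rw [← hint, hk]; ring
  by_contra hm1
  have hm3 : 3 ≤ m := by obtain ⟨k, rfl⟩ := hmo; omega
  have hpodd : Odd (p : ℤ) := by
    have hN : Odd ((p : ℤ) ^ m) := by
      rw [hint]
      have : Even (q : ℤ) := by exact_mod_cast hqe
      simp [parity_simps, this]
    exact (Int.odd_pow' (by omega)).mp hN
  let s : ℤ := ∑ i ∈ Finset.range m, (p : ℤ) ^ i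
  have hgeom : s * ((p : ℤ) - 1) = (p : ℤ) ^ m - 1 := geom_sum_mul _ _
  have hsodd : Odd s := by
    have key : ∀ j : ℕ, Odd (∑ i ∈ Finset.range j, (p : ℤ) ^ i) ↔ Odd j := by
      intro j
      induction j with
      | zero => simp
      | succ j ih =>
        have hp1 : ¬ Even ((p : ℤ) ^ j) := Int.not_even_iff_odd.mpr hpodd.pow
        rw [Finset.sum_range_succ, Int.odd_add, ih]
        simp [hp1, Nat.odd_add_one]
    exact (key m).mpr hmo
  have hdiv : (q : ℤ) ∣ (p : ℤ) - 1 := by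
    have hcop : IsCoprime (q : ℤ) s := by
      rw [← hqd]; push_cast
      apply IsCoprime.pow_left
      exact (Int.prime_two.coprime_iff_not_dvd).mpr (fun hd => (Int.not_even_iff_odd.mpr hsodd) (even_iff_two_dvd.mpr hd))
    refine hcop.dvd_of_dvd_mul_left (⟨(q : ℤ) ^ 3 - (q : ℤ) ^ 2 + q - 1, ?_⟩)
    rw [hgeom, hint]; ring
  obtain ⟨k, hk⟩ := hdiv
  have hk1 : 1 ≤ k := by nlinarith
  have hN4 : (p : ℤ) ^ m < (q : ℤ) ^ 4 := by rw [hint]; nlinarith
  have hmle : m = 3 := by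
    by_contra hne
    have h4 : (p : ℤ) ^ 4 ≤ (p : ℤ) ^ m := pow_le_pow_right₀ (by omega) (by omega)
    have h5 : (q : ℤ) ^ 4 ≤ (p : ℤ) ^ 4 := pow_le_pow_left₀ (by omega) (by nlinarith) 4
    omega
  subst hmle
  have hp' : (p : ℤ) = 1 + q * k := by linarith
  rw [hp'] at hint hN4
  have key : (q : ℤ) * (k ^ 3 * q + 3 * k ^ 2 - (q : ℤ) ^ 2 + q - 1) = -1 - 3 * k := by
    have h0 : (q : ℤ) * ((q : ℤ) * (k ^ 3 * q + 3 * k ^ 2 - (q : ℤ) ^ 2 + q - 1) - (-1 - 3 * k)) = 0 := by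
      linear_combination hint
    rcases mul_eq_zero.mp h0 with h1 | h1 <;> linarith
  have hge : (q : ℤ) ≤ 3 * k + 1 := Int.le_of_dvd (by linarith)
    ⟨-(k ^ 3 * q + 3 * k ^ 2 - (q : ℤ) ^ 2 + q - 1), by linarith⟩
  have hk3 : k ^ 3 < q := by nlinarith [pow_pos (show (0 : ℤ) < q by omega) 3]
  have hksmall : k ≤ 2 := by nlinarith
  obtain rfl | rfl : k = 1 ∨ k = 2 := by omega
  · have : (q : ℤ) ≤ 4 := by linarith
    interval_cases (q : ℤ) <;> omega
  · omega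

end Cfsg.Agent.S3166
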