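import Cfsg.Statements.S3171
import Cfsg.Agent.Lib.M24Elt.SylTwo
-- import your own Cfsg.Agent.* helpers here

set_option autoImplicit false
open Cfsg

open CfsgLib.M24Elt

namespace Cfsg.Agent.S3171

/-- Let P be a Sylow 2-subgroup of the Mathieu group of degree 24 and S the quotient of P by its centre. Then the centre of every maximal subgroup of S has order at most 8; S has an elementary abelian subgroup of order 64; and S has only one abelian subgroup of order 64. -/
theorem result (P : Sylow 2 ↥Cfsg.M24) :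
    (∀ M : Subgroup (↥(P : Subgroup ↥Cfsg.M24) ⧸ Subgroup.center ↥(P : Subgroup ↥Cfsg.M24)), IsCoatom M →
        Nat.card ↥(Subgroup.center ↥M) ≤ 8) ∧
      (∃ A : Subgroup (↥(P : Subgroup ↥Cfsg.M24) ⧸ Subgroup.center ↥(P : Subgroup ↥Cfsg.M24)),
        Cfsg.IsElementaryAbelian 2 A ∧ Nat.card ↥A = 64) ∧
      ∀ A B : Subgroup (↥(P : Subgroup ↥Cfsg.M24) ⧸ Subgroup.center ↥(P : Subgroup ↥Cfsg.M24)),
        IsMulCommutative ↥A → Nat.card ↥A = 64 → IsMulCommutative ↥B → Nat.card ↥B = 64 → A = B := by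
  obtain ⟨e⟩ := SylTwo.nonempty_quot_equiv P
  obtain ⟨A₀, hA₀, hA₀c, hA₀m⟩ := SylTwo.exists_elementary
  refine ⟨fun M hM => ?_, ?_, fun A B hA hAc hB hBc => ?_⟩
  · have h := SylTwo.card_center_coatom ((OrderIso.isCoatom_iff e.mapSubgroup M).2 hM)
    refine le_of_eq_of_le ?_ h
    exact Nat.card_congr (Subgroup.centerCongr (e.subgroupMap M)).toEquiv
  · refine ⟨A₀.map e.symm.toMonoidHom, ⟨?_, ?_⟩,
      (Subgroup.card_map_of_injective e.symm.injective).trans hA₀c⟩
    · haveI := hA₀.1
      infer_instance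
    · rintro _ ⟨a, ha, rfl⟩
      rw [← map_pow, hA₀.2 a ha, map_one]
  · haveI := hA
    haveI := hB
    have h1 := SylTwo.eq_of_abelian hA₀m hA₀c (A := A.map e.toMonoidHom) inferInstance
      ((Subgroup.card_map_of_injective e.injective).trans hAc)
    have h2 := SylTwo.eq_of_abelian hA₀m hA₀c (A := B.map e.toMonoidHom) inferInstance
      ((Subgroup.card_map_of_injective e.injective).trans hBc)
    exact Subgroup.map_injective (f := e.toMonoidHom) e.injective (h1.trans h2.symm)

end Cfsg.Agent.S3171
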