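import Cfsg.Statements.S3175
import Cfsg.Agent.Lib.InvChar.UpperFourStruct
import Mathlib.GroupTheory.SchurZassenhaus

set_option autoImplicit false
open Cfsg

namespace Cfsg.Agent.S3175

open scoped commutatorElement
open CfsgLib.InvChar.UpperFour

section

variable {P : Type*} [Group P] [Finite P] {W : Subgroup P}

local notation "Z" => Subgroup.upperCentralSeries P

/-- An automorphism of odd order fixing `t⁻¹ φ t` fixes `t`. -/
theorem fix_step (hP : IsPGroup 2 P) (φ : P ≃* P) {k : ℕ} (hk : Odd k) (hφ : φ ^ k = 1) {t : P}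
    (hc : φ (t⁻¹ * φ t) = t⁻¹ * φ t) : φ t = t := by
  set c := t⁻¹ * φ t with hcdef
  have hj : ∀ j : ℕ, (φ ^ j) t = t * c ^ j := by
    intro j
    induction j with
    | zero => simp
    | succ j ih =>
      rw [pow_succ', MulAut.mul_apply, ih, map_mul, map_pow, hc, pow_succ',
        show φ t = t * c by simp [hcdef], mul_assoc]
  have h1 := hj k
  rw [hφ, MulAut.one_apply] at h1
  have h2 : c ^ k = 1 := (left_eq_mul.mp h1)
  obtain ⟨m, hm⟩ := IsPGroup.iff_orderOf.mp hP c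
  have hd := orderOf_dvd_of_pow_eq_one h2
  have : c = 1 := by
    rcases Nat.eq_zero_or_pos m with rfl | hm0
    · simpa using hm
    · rw [hm] at hd
      exact absurd (even_iff_two_dvd.mpr ((dvd_pow_self 2 hm0.ne').trans hd)) (Nat.not_even_iff_odd.mpr hk)
  exact (inv_mul_eq_one.mp this).symm

theorem fixed (h : Hyp P W) (φ : P ≃* P) {k : ℕ} (hk : Odd k) (hφ : φ ^ k = 1) : ∀ t, φ t = t := by
  haveI := Fact.mk Nat.prime_two
  have hchar : ∀ (i : ℕ) (z : P), φ z ∈ Z i ↔ z ∈ Z i := fun i z => by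
    have h1 := Subgroup.Characteristic.fixed (H := Z i) inferInstance φ
    exact (SetLike.ext_iff.mp h1 z)
  have hZ : ∀ i ≤ 4, ∀ z ∈ Z i, φ z = z := by
    intro i
    induction i with
    | zero => intro _ z hz; rw [Subgroup.upperCentralSeries_zero, Subgroup.mem_bot] at hz; simp [hz]
    | succ i ih =>
      intro hi z hz
      by_cases hzi : z ∈ Z i
      · exact ih (by omega) z hzi
      · exact fix_step h.isP φ hk hφ (ih (by omega) _
          (h.Z_step (by omega) hz ((hchar _ z).mpr hz) hzi (fun h0 => hzi ((hchar _ z).mp h0))))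
  have hTW : ∀ t, t⁻¹ * φ t ∈ W := by
    intro t
    refine (SetLike.ext_iff.mp h.eq _).mpr fun z hz => ?_
    have hn : t * z * t⁻¹ ∈ Z 3 := Subgroup.Normal.conj_mem inferInstance z hz t
    have h1 := hZ 3 (by omega) _ hn
    rw [map_mul, map_mul, map_inv, hZ 3 (by omega) z hz] at h1
    calc z * (t⁻¹ * φ t) = t⁻¹ * (t * z * t⁻¹) * φ t := by simp [mul_assoc]
      _ = t⁻¹ * (φ t * z * (φ t)⁻¹) * φ t := by rw [h1]
      _ = t⁻¹ * φ t * z := by simp [mul_assoc]
  haveI := h.normal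
  have habel : ∀ a ∈ W, ∀ b ∈ W, QuotientGroup.mk' (Z 3) a * QuotientGroup.mk' (Z 3) b =
      QuotientGroup.mk' (Z 3) b * QuotientGroup.mk' (Z 3) a := fun a ha b hb => by
    rw [← commutatorElement_eq_one_iff_mul_comm, ← map_commutatorElement]
    exact (QuotientGroup.eq_one_iff _).mpr (h.phi_eq ▸ h.comm_mem_phi ha hb)
  have hWφ : ∀ x ∈ W, φ x ∈ W := fun x hx => by simpa using W.mul_mem hx (hTW x)
  let δ : ↥W →* P ⧸ Z 3 :=
    { toFun := fun x => QuotientGroup.mk' (Z 3) ((x : P)⁻¹ * φ x)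
      map_one' := by simp
      map_mul' := fun x y => by
        show QuotientGroup.mk' (Z 3) (((x : P) * y)⁻¹ * φ ((x : P) * y)) =
          QuotientGroup.mk' (Z 3) ((x : P)⁻¹ * φ x) * QuotientGroup.mk' (Z 3) ((y : P)⁻¹ * φ y)
        rw [map_mul φ, mul_inv_rev, ← map_mul (QuotientGroup.mk' (Z 3))]
        calc QuotientGroup.mk' (Z 3) ((y : P)⁻¹ * (x : P)⁻¹ * (φ x * φ y))
            = QuotientGroup.mk' (Z 3) (y : P)⁻¹ * QuotientGroup.mk' (Z 3) ((x : P)⁻¹ * φ x) *
              QuotientGroup.mk' (Z 3) (φ y) := by simp [mul_assoc]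
          _ = QuotientGroup.mk' (Z 3) ((x : P)⁻¹ * φ x) * QuotientGroup.mk' (Z 3) (y : P)⁻¹ *
              QuotientGroup.mk' (Z 3) (φ y) := by
            rw [habel _ (W.inv_mem y.2) _ (W.mul_mem (W.inv_mem x.2) (hWφ x x.2))]
          _ = QuotientGroup.mk' (Z 3) ((x : P)⁻¹ * φ x * ((y : P)⁻¹ * φ y)) := by simp [mul_assoc] }
  have hδn : δ.range.Normal := ⟨by
    rintro _ ⟨x, rfl⟩ g
    obtain ⟨t, rfl⟩ := QuotientGroup.mk'_surjective _ g
    refine ⟨⟨t * x * t⁻¹, Subgroup.Normal.conj_mem inferInstance _ x.2 t⟩, ?_⟩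
    show QuotientGroup.mk' (Z 3) ((t * (x : P) * t⁻¹)⁻¹ * φ (t * x * t⁻¹)) = _
    have hc := habel _ (hWφ x x.2) _ (hTW t)
    have e : φ (t * x * t⁻¹) = t * (t⁻¹ * φ t) * φ x * (t⁻¹ * φ t)⁻¹ * t⁻¹ := by simp [mul_assoc]
    have e' : QuotientGroup.mk' (Z 3) (φ (t * x * t⁻¹)) = QuotientGroup.mk' (Z 3) t *
        QuotientGroup.mk' (Z 3) (φ x) * (QuotientGroup.mk' (Z 3) t)⁻¹ := by
      rw [e, map_mul, map_mul, map_mul, map_mul, map_inv, map_inv, mul_assoc (QuotientGroup.mk' (Z 3) t),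
        ← hc, ← mul_assoc, mul_inv_cancel_right]
    rw [map_mul, e', map_inv]
    show _ = QuotientGroup.mk' (Z 3) t * QuotientGroup.mk' (Z 3) ((x : P)⁻¹ * φ x) * (QuotientGroup.mk' (Z 3) t)⁻¹
    simp [mul_assoc]⟩
  have hWfix : ∀ x ∈ W, φ x = x := by
    intro x hx
    refine fix_step h.isP φ hk hφ (hZ 3 (by omega) _ ((QuotientGroup.eq_one_iff _).mp ?_))
    show δ ⟨x, hx⟩ = 1
    by_contra hne
    obtain ⟨w, hw, hw1, hwc⟩ := CfsgLib.InvChar.exists_ne_one_mem_center_of_normal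
      (h.isP.to_quotient (Z 3)) δ.range (fun h0 => hne (Subgroup.mem_bot.mp (h0 ▸ ⟨_, rfl⟩)))
    obtain ⟨y, rfl⟩ := hw
    have h4 : (y : P)⁻¹ * φ y ∈ Z 4 := by
      rw [Subgroup.mem_upperCentralSeries_succ_iff]
      intro t
      rw [← QuotientGroup.eq_one_iff]
      show QuotientGroup.mk' (Z 3) ⁅(y : P)⁻¹ * φ y, t⁆ = 1
      rw [map_commutatorElement, commutatorElement_eq_one_iff_mul_comm]
      exact (Subgroup.mem_center_iff.mp hwc _).symm
    apply hw1
    show QuotientGroup.mk' (Z 3) ((y : P)⁻¹ * φ y) = 1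
    rw [fix_step h.isP φ hk hφ (hZ 4 le_rfl _ h4), inv_mul_cancel, map_one]
  exact fun t => fix_step h.isP φ hk hφ (hWfix _ (hTW t))

end

/-- Let G be a finite group whose Sylow 2-subgroup T has order at least 2^14 and whose upper central series has fourth term of order 16; let W be the centralizer in T of the third term, and suppose the Frattini subgroup of W has order at most 8 and lies in every subgroup of W of index at most 16. Then the normalizer of T in G has a normal 2-complement, and W is weakly closed in T with respect to G. -/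
theorem result {G : Type*} [Group G] [Finite G]
    (T : Sylow 2 G) (ha : 2 ^ 14 ≤ Nat.card ↥(T : Subgroup G))
    (hb : Nat.card ↥(Subgroup.upperCentralSeries ↥(T : Subgroup G) 4) = 16)
    (W : Subgroup ↥(T : Subgroup G))
    (hW : W = Subgroup.centralizer ((Subgroup.upperCentralSeries ↥(T : Subgroup G) 3 : Subgroup ↥(T : Subgroup G)) : Set ↥(T : Subgroup G)))
    (hc : Nat.card ↥(frattini ↥W) ≤ 8)
    (hd : ∀ U : Subgroup ↥W, U.index ≤ 16 → frattini ↥W ≤ U) :
    Cfsg.HasNormalPComplement 2 ↥(Subgroup.normalizer ((T : Subgroup G) : Set G)) ∧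
      Cfsg.IsWeaklyClosed (W.map (T : Subgroup G).subtype) (T : Subgroup G) := by
  classical
  haveI := Fact.mk Nat.prime_two
  have h : Hyp ↥(T : Subgroup G) W := ⟨T.isPGroup', ha, hb, hW, hc, hd⟩
  set N := Subgroup.normalizer ((T : Subgroup G) : Set G) with hNdef
  have hTN : (T : Subgroup G) ≤ N := Subgroup.le_normalizer
  refine ⟨?_, ?_, ?_⟩
  · let T' : Sylow 2 ↥N := T.subtype hTN
    haveI hn' : ((T : Subgroup G).subgroupOf N).Normal :=
      (Subgroup.normal_subgroupOf_iff_le_normalizer hTN).mpr le_rfl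
    have hcop : (Nat.card ↥((T : Subgroup G).subgroupOf N)).Coprime ((T : Subgroup G).subgroupOf N).index :=
      (T'.card_coprime_index)
    obtain ⟨K, hK⟩ := Subgroup.exists_right_complement'_of_coprime hcop
    have hKodd : Odd (Nat.card ↥K) := by
      rw [← hK.symm.index_eq_card, Nat.odd_iff, ← Nat.two_dvd_ne_zero]
      exact T'.not_dvd_index
    have hcomm : ∀ x ∈ K, ∀ t ∈ (T : Subgroup G), (x : G) * t * (x : G)⁻¹ = t := by
      intro x hx t ht
      let φ : ↥(T : Subgroup G) ≃* ↥(T : Subgroup G) :=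
        { toFun := fun u => ⟨(x : G) * u * (x : G)⁻¹, (Subgroup.mem_normalizer_iff.mp x.2 _).mp u.2⟩
          invFun := fun u => ⟨(x : G)⁻¹ * u * x, (Subgroup.mem_normalizer_iff.mp x.2 _).mpr (by simp [mul_assoc])⟩
          left_inv := fun u => Subtype.ext (by simp [mul_assoc])
          right_inv := fun u => Subtype.ext (by simp [mul_assoc])
          map_mul' := fun u v => Subtype.ext (by simp [mul_assoc]) }
      have hpow : ∀ (j : ℕ) (u : ↥(T : Subgroup G)), (((φ ^ j) u : ↥(T : Subgroup G)) : G) =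
          (x : G) ^ j * u * ((x : G) ^ j)⁻¹ := by
        intro j
        induction j with
        | zero => simp
        | succ j ih =>
          intro u
          rw [pow_succ', MulAut.mul_apply]
          show (x : G) * ((φ ^ j) u : ↥(T : Subgroup G)) * (x : G)⁻¹ = _
          rw [ih, pow_succ']; simp [mul_assoc]
      have hk : Odd (orderOf x) := hKodd.of_dvd_nat (Subgroup.orderOf_dvd_natCard K hx)
      have hφ : φ ^ orderOf x = 1 := MulEquiv.ext fun u => Subtype.ext (by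
        rw [hpow, ← Subgroup.coe_pow, pow_orderOf_eq_one]; simp)
      exact congrArg Subtype.val (fixed h φ hk hφ ⟨t, ht⟩)
    refine ⟨T', K, ⟨fun y hy n => ?_⟩, hK.symm⟩
    obtain ⟨⟨⟨t, ht⟩, ⟨x, hx⟩⟩, rfl⟩ := hK.2 n
    have e : t * (x * y * x⁻¹) * t⁻¹ = x * y * x⁻¹ := by
      apply Subtype.ext
      have h1 := hcomm _ (K.mul_mem (K.mul_mem hx hy) (K.inv_mem hx)) t (Subgroup.mem_subgroupOf.mp ht)
      rw [mul_inv_eq_iff_eq_mul] at h1
      simp only [Subgroup.coe_mul, Subgroup.coe_inv] at h1 ⊢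
      rw [← h1, mul_inv_cancel_right]
    show t * x * y * (t * x)⁻¹ ∈ K
    rw [show t * x * y * (t * x)⁻¹ = t * (x * y * x⁻¹) * t⁻¹ by simp [mul_assoc], e]
    exact K.mul_mem (K.mul_mem hx hy) (K.inv_mem hx)
  · exact Subgroup.map_subtype_le W
  intro g hg
  obtain ⟨h8, hZW, h11, h14⟩ := h.main
  haveI := h.normal
  set c := (MulAut.conj g).toMonoidHom with hc'
  set Z3 := Subgroup.upperCentralSeries ↥(T : Subgroup G) 3 with hZ3
  set WG := W.map (T : Subgroup G).subtype with hWG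
  set U₀ := (WG.map c).subgroupOf (T : Subgroup G) with hU₀
  set Zg := ((Z3.map (T : Subgroup G).subtype).map c).subgroupOf (T : Subgroup G) with hZg
  have hU₀c : Nat.card ↥U₀ = 2 ^ 11 := by
    rw [hU₀, Nat.card_congr (Subgroup.subgroupOfEquivOfLe hg).toEquiv,
      Subgroup.card_map_of_injective (MulEquiv.injective _), Subgroup.card_map_of_injective (Subgroup.subtype_injective _), h11]
  have hconj : ∀ {w : ↥(T : Subgroup G)}, w ∈ U₀ → ∃ v ∈ W, g * (v : G) * g⁻¹ = (w : G) := by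
    intro w hw
    obtain ⟨_, ⟨v, hv, rfl⟩, hv'⟩ := Subgroup.mem_map.mp (Subgroup.mem_subgroupOf.mp hw)
    exact ⟨v, hv, hv'⟩
  set D := W ⊓ U₀ with hD
  have hDc : 2 ^ 8 ≤ Nat.card ↥D := by
    have h1 : W.relIndex U₀ ∣ W.index := Subgroup.relIndex_dvd_index_of_normal W U₀
    have h2 := Subgroup.relIndex_mul_relIndex ⊥ D U₀ bot_le inf_le_right
    rw [Subgroup.relIndex_bot_left, Subgroup.relIndex_bot_left, hD, Subgroup.inf_relIndex_right, hU₀c, ← hD] at h2
    have h3 := Nat.le_of_dvd (by rw [h8]; norm_num) h1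
    rw [h8] at h3
    nlinarith
  have hZD : Z3 ≤ D := by
    have hidx : (D.subgroupOf W).index ≤ 16 := by
      have h1 := Subgroup.card_mul_index (D.subgroupOf W)
      rw [Nat.card_congr (Subgroup.subgroupOfEquivOfLe inf_le_left).toEquiv, h11] at h1
      nlinarith
    intro z hz
    obtain ⟨z', hz', rfl⟩ : z ∈ Phi W := h.phi_eq ▸ hz
    exact Subgroup.mem_subgroupOf.mp (hd _ hidx hz')
  have hsqZ : ∀ v ∈ W, v * v ∈ Z3 := fun v hv => by
    have := h.sq_mem_phi hv
    rwa [h.phi_eq] at this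
  have hsq : ∀ w ∈ D, w * w ∈ Z3 ⊓ Zg := by
    intro w hw
    refine ⟨hsqZ _ hw.1, Subgroup.mem_subgroupOf.mpr ?_⟩
    obtain ⟨v, hv, hvw⟩ := hconj hw.2
    refine ⟨_, Subgroup.mem_map_of_mem _ (hsqZ _ hv), ?_⟩
    show g * ((v * v : ↥(T : Subgroup G)) : G) * g⁻¹ = ((w * w : ↥(T : Subgroup G)) : G)
    rw [Subgroup.coe_mul, Subgroup.coe_mul, ← hvw]; simp [mul_assoc]
  have hle : Z3 ≤ Z3 ⊓ Zg := by
    by_contra hne
    exact h.no_small D (Z3 ⊓ Zg) inf_le_left hZD inf_le_left hne hsq (by rw [h11]; omega)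
  have hZ3c : Z3 = Zg := by
    refine Subgroup.eq_of_le_of_card_ge (le_trans hle inf_le_right) ?_
    have hle' : (Z3.map (T : Subgroup G).subtype).map c ≤ (T : Subgroup G) :=
      le_trans (Subgroup.map_mono (Subgroup.map_mono hZW)) hg
    rw [hZg, Nat.card_congr (Subgroup.subgroupOfEquivOfLe hle').toEquiv,
      Subgroup.card_map_of_injective (MulEquiv.injective _), Subgroup.card_map_of_injective (Subgroup.subtype_injective _)]
  have hUW : U₀ ≤ W := by
    intro u hu
    refine (SetLike.ext_iff.mp h.eq u).mpr fun z hz => ?_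
    obtain ⟨v, hv, hvu⟩ := hconj hu
    obtain ⟨_, ⟨y, hy, rfl⟩, hyz⟩ := Subgroup.mem_map.mp (Subgroup.mem_subgroupOf.mp (hZ3c ▸ hz : z ∈ Zg))
    have hcy := congrArg Subtype.val (h.comm_Z3 hv hy)
    apply Subtype.ext
    have hyz' : g * (y : G) * g⁻¹ = (z : G) := hyz
    simp only [Subgroup.coe_mul] at hcy ⊢
    rw [← hvu, ← hyz']
    calc g * (y : G) * g⁻¹ * (g * v * g⁻¹) = g * ((y : G) * v) * g⁻¹ := by simp [mul_assoc]
      _ = g * ((v : G) * y) * g⁻¹ := by rw [hcy]
      _ = g * v * g⁻¹ * (g * y * g⁻¹) := by simp [mul_assoc]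
  have heq : U₀ = W := Subgroup.eq_of_le_of_card_ge hUW (by rw [hU₀c, h11])
  have hfin := congrArg (Subgroup.map (T : Subgroup G).subtype) heq
  rw [hU₀, Subgroup.subgroupOf_map_subtype, inf_eq_left.mpr hg] at hfin
  exact hfin

end Cfsg.Agent.S3175
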