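import Cfsg.Statements.S3178
import Cfsg.Agent.Lib.PNilpotent.Basic
import Cfsg.Agent.Lib.InvChar.Basic

set_option autoImplicit false
open Cfsg

namespace Cfsg.Agent.S3178

variable {G : Type*} [Group G] [Finite G]

/-- If an element of odd order moves `x` to `x w` and fixes the 2-element `w`, then `w = 1`. -/
theorem fix_of_shift {g x w : G} (hg : Odd (orderOf g)) (hgx : g * x * g⁻¹ = x * w) (hgw : Commute g w)
    (hw : ∃ k, w ^ (2 ^ k) = 1) : Commute g x := by
  have h1 : ∀ m : ℕ, g ^ m * x * (g ^ m)⁻¹ = x * w ^ m := by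
    intro m
    induction m with
    | zero => simp
    | succ m ih =>
      calc g ^ (m + 1) * x * (g ^ (m + 1))⁻¹ = g * (g ^ m * x * (g ^ m)⁻¹) * g⁻¹ := by
            rw [pow_succ']; simp [mul_assoc]
        _ = (g * x * g⁻¹) * (g * w ^ m * g⁻¹) := by rw [ih]; simp [mul_assoc]
        _ = x * w ^ (m + 1) := by
            rw [hgx, (hgw.pow_right m).eq, mul_inv_cancel_right, pow_succ', mul_assoc]
  have h2 := h1 (orderOf g)
  rw [pow_orderOf_eq_one, one_mul, inv_one, mul_one, left_eq_mul] at h2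
  obtain ⟨k, hk⟩ := hw
  have hw1 : w = 1 := by
    rw [← orderOf_eq_one_iff]
    exact Nat.Coprime.eq_one_of_dvd
      (Nat.Coprime.coprime_dvd_left (orderOf_dvd_of_pow_eq_one h2)
        ((Nat.coprime_two_right.mpr hg).pow_right k))
      (orderOf_dvd_of_pow_eq_one hk)
  rw [hw1, mul_one, mul_inv_eq_iff_eq_mul] at hgx
  exact hgx

/-- An element of odd order normalising a cyclic 2-group centralises it. -/
theorem commute_of_conj_mem_zpowers {g : G} (hg : Odd (orderOf g)) :
    ∀ (k : ℕ) (x : G), orderOf x = 2 ^ k → g * x * g⁻¹ ∈ Subgroup.zpowers x → Commute g x := by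
  intro k
  induction k with
  | zero =>
    intro x hx _
    rw [pow_zero, orderOf_eq_one_iff] at hx
    rw [hx]; exact Commute.one_right g
  | succ k ih =>
    intro x hx hmem
    obtain ⟨l, hl⟩ := Subgroup.mem_zpowers_iff.mp hmem
    have hx2 : orderOf (x * x) = 2 ^ k := by
      rw [← pow_two, orderOf_pow_of_dvd two_ne_zero (hx ▸ dvd_pow_self 2 (by omega)), hx, pow_succ,
        Nat.mul_div_cancel _ two_pos]
    have hc : Commute g (x * x) := by
      refine ih _ hx2 ⟨l, ?_⟩
      show (x * x) ^ l = _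
      rw [(Commute.refl x).mul_zpow, hl]
      simp [mul_assoc]
    rcases Int.even_or_odd l with ⟨e, rfl⟩ | ⟨e, rfl⟩
    · exfalso
      have h1 : orderOf (g * x * g⁻¹) ∣ 2 ^ k := by
        rw [← hl, zpow_add, ← (Commute.refl x).mul_zpow, ← hx2]
        apply orderOf_dvd_of_pow_eq_one
        rw [← zpow_natCast, ← zpow_mul, mul_comm, zpow_mul, zpow_natCast, pow_orderOf_eq_one, one_zpow]
      rw [show g * x * g⁻¹ = MulAut.conj g x from rfl, MulEquiv.orderOf_eq, hx] at h1
      have := Nat.le_of_dvd (Nat.two_pow_pos k) h1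
      rw [pow_succ] at this
      have := Nat.two_pow_pos k
      omega
    · refine fix_of_shift hg (w := (x * x) ^ e) ?_ (hc.zpow_right e) ⟨k + 1, ?_⟩
      · rw [← hl, zpow_add, zpow_one, zpow_mul, zpow_two]
        exact (((Commute.refl x).mul_right (Commute.refl x)).zpow_right e).eq.symm
      · rw [← hx, (Commute.refl x).mul_zpow, ← zpow_add, ← zpow_natCast, ← zpow_mul, mul_comm, zpow_mul,
          zpow_natCast, pow_orderOf_eq_one, one_zpow]

theorem result {G : Type*} [Group G] [Finite G]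
    (S : Sylow 2 G) (n : ℕ) (hn : 3 ≤ n) (hS : Nat.card ↥(S : Subgroup G) = 2 ^ (n + 1))
    (a b : G) (ha : a ∈ (S : Subgroup G)) (hb : b ∈ (S : Subgroup G))
    (hao : orderOf a = 2 ^ n) (hbo : orderOf b = 2) (hrel : b * a * b⁻¹ = a ^ (2 ^ (n - 1) + 1)) :
    Cfsg.HasNormalPComplement 2 G := by
  have : Fact (Nat.Prime 2) := ⟨Nat.prime_two⟩
  have hbb : b * b = 1 := by rw [← pow_two, ← hbo]; exact pow_orderOf_eq_one b
  set z : G := a ^ (2 ^ (n - 1)) with hz
  have hzz : z * z = 1 := by
    rw [hz, ← pow_add, ← two_mul, ← pow_succ', Nat.sub_add_cancel (by omega), ← hao, pow_orderOf_eq_one]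
  have hzo : orderOf z = 2 := by
    rw [hz, orderOf_pow_of_dvd (by positivity) (hao ▸ pow_dvd_pow 2 (by omega)), hao,
      Nat.pow_div (by omega) (by omega), show n - (n - 1) = 1 by omega, pow_one]
  have hz1 : z ≠ 1 := fun h => by rw [h, orderOf_one] at hzo; omega
  have hba : b * a * b⁻¹ = a * z := by rw [hrel, hz, pow_succ']
  have haz : Commute a z := (Commute.refl a).pow_right _
  -- conjugation by b on powers of a
  have hpow : ∀ i : ℤ, b * a ^ i * b⁻¹ = a ^ i * z ^ i := fun i => by
    rw [← conj_zpow, hba, haz.mul_zpow]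
  have hbz : Commute b z := by
    have h := hpow (2 ^ (n - 1) : ℕ)
    rw [zpow_natCast, zpow_natCast, ← hz] at h
    have : z ^ (2 ^ (n - 1)) = 1 := by
      rw [show 2 ^ (n - 1) = 2 * 2 ^ (n - 2) by rw [← pow_succ']; congr 1; omega, pow_mul, pow_two,
        hzz, one_pow]
    rw [this, mul_one, mul_inv_eq_iff_eq_mul] at h
    exact h
  have hbA : b ∉ Subgroup.zpowers a := by
    intro h
    obtain ⟨i, hi⟩ := Subgroup.mem_zpowers_iff.mp h
    have h1 : b * a * b⁻¹ = a := by
      rw [← hi]; rw [(Commute.refl a).zpow_left i |>.eq, mul_inv_cancel_right]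
    rw [hba, mul_eq_left] at h1
    exact hz1 h1
  have hA2 : (Subgroup.zpowers a).relIndex (S : Subgroup G) = 2 := by
    have hle : Subgroup.zpowers a ≤ (S : Subgroup G) := Subgroup.zpowers_le.mpr ha
    have := ((Subgroup.zpowers a).subgroupOf (S : Subgroup G)).card_mul_index
    rw [Nat.card_congr (Subgroup.subgroupOfEquivOfLe hle).toEquiv, Nat.card_zpowers, hao, hS, pow_succ] at this
    exact Nat.eq_of_mul_eq_mul_left (Nat.two_pow_pos n) this
  have hform : ∀ s ∈ (S : Subgroup G), s ∉ Subgroup.zpowers a → ∃ j : ℤ, s = a ^ j * b := by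
    intro s hs hsA
    have h := (Subgroup.mul_mem_iff_of_index_two (H := (Subgroup.zpowers a).subgroupOf (S : Subgroup G)) hA2
      (a := ⟨s, hs⟩) (b := ⟨b, hb⟩)).mpr (iff_of_false hsA hbA)
    obtain ⟨j, hj⟩ := Subgroup.mem_zpowers_iff.mp (Subgroup.mem_subgroupOf.mp h)
    refine ⟨j, ?_⟩
    rw [hj]
    show s = s * b * b
    rw [mul_assoc, hbb, mul_one]
  have hsq : ∀ j : ℤ, (a ^ j * b) * (a ^ j * b) = a ^ (2 * j) * z ^ j := by
    intro j
    calc (a ^ j * b) * (a ^ j * b) = a ^ j * (b * a ^ j * b⁻¹) * (b * b) := by simp [mul_assoc]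
      _ = _ := by rw [hpow, hbb, mul_one, ← mul_assoc, ← zpow_add, two_mul]
  -- an involution of `⟨a⟩` is `z`
  have hinvA : ∀ x ∈ Subgroup.zpowers a, x * x = 1 → x = 1 ∨ x = z := by
    intro x hx h
    obtain ⟨i, rfl⟩ := Subgroup.mem_zpowers_iff.mp hx
    rw [← zpow_add, ← orderOf_dvd_iff_zpow_eq_one, hao] at h
    obtain ⟨d, hd⟩ := h
    have hP : ((2 ^ n : ℕ) : ℤ) = 2 * ((2 ^ (n - 1) : ℕ) : ℤ) := by
      norm_cast; rw [← pow_succ', Nat.sub_add_cancel (by omega)]
    have hi : i = ((2 ^ (n - 1) : ℕ) : ℤ) * d := by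
      have : 2 * i = 2 * (((2 ^ (n - 1) : ℕ) : ℤ) * d) := by
        rw [← mul_assoc, ← hP, ← hd, two_mul]
      omega
    rw [hi, zpow_mul, zpow_natCast, ← hz]
    rcases Int.even_or_odd d with ⟨e, rfl⟩ | ⟨e, rfl⟩
    · left; rw [zpow_add, ← (Commute.refl z).mul_zpow, hzz, one_zpow]
    · right; rw [zpow_add, zpow_mul, zpow_two, hzz, one_zpow, one_mul, zpow_one]
  have hsqA : ∀ s ∈ (S : Subgroup G), s * s ∈ Subgroup.zpowers a := by
    intro s hs
    by_cases hsA : s ∈ Subgroup.zpowers a
    · exact Subgroup.mul_mem _ hsA hsA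
    · obtain ⟨j, rfl⟩ := hform s hs hsA
      rw [hsq]
      exact Subgroup.mul_mem _ (Subgroup.zpow_mem _ (Subgroup.mem_zpowers a) _)
        (Subgroup.zpow_mem _ (Subgroup.pow_mem _ (Subgroup.mem_zpowers a) _) _)
  -- the only involution which is a square in S is z
  have hzsq : ∀ g : G, ∀ s ∈ (S : Subgroup G), g * z * g⁻¹ = s * s → g * z * g⁻¹ = z := by
    intro g s hs h
    rcases hinvA _ (h ▸ hsqA s hs) (by rw [conj_mul, hzz, mul_one, mul_inv_cancel]) with h1 | h1
    · rw [mul_inv_eq_one] at h1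
      exact absurd (mul_left_cancel (h1.trans (mul_one g).symm)) hz1
    · exact h1
  refine ⟨S, CfsgLib.PNilpotent.exists_normal_complement
    (CfsgLib.PNilpotent.primeToPCentralizes_of_sylow S ?_) S⟩
  intro Q hQS g hgQ hgo
  have hg : Odd (orderOf g) := Nat.coprime_two_right.mp hgo
  rw [Subgroup.mem_centralizer_iff]
  have conjQ : ∀ q ∈ Q, g * q * g⁻¹ ∈ Q := fun q hq => (Subgroup.mem_normalizer_iff.mp hgQ q).mp hq
  -- cyclic subgroups are centralised
  have hcyc : ∀ c : G, Q = Subgroup.zpowers c → ∀ q ∈ Q, Commute g q := by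
    intro c hc q hq
    obtain ⟨k, hk⟩ := IsPGroup.iff_orderOf.mp S.isPGroup' ⟨c, hQS (hc ▸ Subgroup.mem_zpowers c)⟩
    rw [Subgroup.orderOf_mk] at hk
    have h1 := commute_of_conj_mem_zpowers hg k c hk (hc ▸ conjQ c (hc ▸ Subgroup.mem_zpowers c))
    rw [hc] at hq
    obtain ⟨i, rfl⟩ := Subgroup.mem_zpowers_iff.mp hq
    exact h1.zpow_right i
  suffices h : ∀ q ∈ Q, Commute g q from fun q hq => (h q hq).eq.symm
  by_cases hQA : Q ≤ Subgroup.zpowers a
  · obtain ⟨⟨c, hc⟩, hgen⟩ := IsCyclic.exists_generator (α := ↥(Q.subgroupOf (Subgroup.zpowers a)))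
    refine hcyc (c : G) (le_antisymm (fun q hq => ?_) (Subgroup.zpowers_le.mpr hc))
    obtain ⟨i, hi⟩ := Subgroup.mem_zpowers_iff.mp (hgen ⟨⟨q, hQA hq⟩, hq⟩)
    exact ⟨i, congrArg (fun w : ↥(Q.subgroupOf (Subgroup.zpowers a)) => ((w : ↥(Subgroup.zpowers a)) : G)) hi⟩
  obtain ⟨d, hdQ, hdA⟩ := SetLike.not_le_iff_exists.mp hQA
  obtain ⟨⟨⟨c, hcA⟩, hcQ⟩, hgen⟩ := IsCyclic.exists_generator (α := ↥(Q.subgroupOf (Subgroup.zpowers a)))
  have hcgen : ∀ x ∈ Q, x ∈ Subgroup.zpowers a → x ∈ Subgroup.zpowers c := fun x hx hxA => by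
    obtain ⟨i, hi⟩ := Subgroup.mem_zpowers_iff.mp (hgen ⟨⟨x, hxA⟩, hx⟩)
    exact ⟨i, congrArg (fun w : ↥(Q.subgroupOf (Subgroup.zpowers a)) => ((w : ↥(Subgroup.zpowers a)) : G)) hi⟩
  have hcd : ∀ x ∈ Q, x ∈ Subgroup.zpowers c ∨ x * d ∈ Subgroup.zpowers c := by
    intro x hx
    by_cases hxA : x ∈ Subgroup.zpowers a
    · exact Or.inl (hcgen x hx hxA)
    · refine Or.inr (hcgen _ (Q.mul_mem hx hdQ) ?_)
      exact Subgroup.mem_subgroupOf.mp
        ((Subgroup.mul_mem_iff_of_index_two (H := (Subgroup.zpowers a).subgroupOf (S : Subgroup G)) hA2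
          (a := ⟨x, hQS hx⟩) (b := ⟨d, hQS hdQ⟩)).mpr (iff_of_false hxA hdA))
  obtain ⟨j, rfl⟩ := hform d (hQS hdQ) hdA
  have hred : ∀ x y : ℤ, ((2 ^ n : ℕ) : ℤ) ∣ y - x → a ^ x = a ^ y := fun x y h => by
    rw [zpow_eq_zpow_iff_modEq, hao, Int.modEq_iff_dvd]; exact h
  -- the square of `a^j b` generates the same subgroup as `a^(2j)`
  have h2j : ∀ i : ℤ, ∃ α : ℤ, a ^ (2 * i) = ((a ^ i * b) * (a ^ i * b)) ^ α := by
    intro i
    set o : ℤ := 1 + 2 ^ (n - 2) with ho
    have hd2' : (a ^ i * b) * (a ^ i * b) = a ^ (2 * i * o) := by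
      rw [hsq, hz, ← zpow_natCast a (2 ^ (n - 1)), ← zpow_mul, ← zpow_add]
      congr 1
      rw [ho, show n - 1 = (n - 2) + 1 by omega]
      push_cast [pow_succ]
      ring
    have hco : IsCoprime o ((2 ^ n : ℕ) : ℤ) := by
      push_cast
      apply IsCoprime.pow_right
      exact ⟨1, -(2 ^ (n - 3)), by rw [ho, show n - 2 = (n - 3) + 1 by omega, pow_succ]; ring⟩
    obtain ⟨α, β, hαβ⟩ := hco
    refine ⟨α, ?_⟩
    rw [hd2', ← zpow_mul]
    exact hred _ _ ⟨-2 * i * β, by linear_combination (2 * i) * hαβ⟩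
  obtain ⟨i, hi⟩ : ∃ i, orderOf c = 2 ^ i := by
    obtain ⟨k, hk⟩ := IsPGroup.iff_orderOf.mp S.isPGroup' ⟨c, hQS hcQ⟩
    exact ⟨k, by rwa [Subgroup.orderOf_mk] at hk⟩
  have hdiv : ∀ x ∈ Subgroup.zpowers a, x ^ (2 ^ i) = 1 → x ∈ Subgroup.zpowers c := by
    have hin : i ≤ n := by
      have : orderOf c ∣ orderOf a := orderOf_dvd_of_mem_zpowers hcA
      rw [hi, hao] at this
      exact (Nat.pow_dvd_pow_iff_le_right one_lt_two).mp this
    set B := Subgroup.zpowers (a ^ (2 ^ (n - i))) with hB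
    have hmemB : ∀ x ∈ Subgroup.zpowers a, x ^ (2 ^ i) = 1 → x ∈ B := by
      intro x hx h
      obtain ⟨t, rfl⟩ := Subgroup.mem_zpowers_iff.mp hx
      rw [← zpow_natCast, ← zpow_mul, ← orderOf_dvd_iff_zpow_eq_one, hao] at h
      have h' : ((2 ^ (n - i) : ℕ) : ℤ) * ((2 ^ i : ℕ) : ℤ) ∣ t * ((2 ^ i : ℕ) : ℤ) := by
        rw [← Nat.cast_mul, ← pow_add, Nat.sub_add_cancel hin]
        exact h
      obtain ⟨e, he⟩ := (mul_dvd_mul_iff_right
        (by exact_mod_cast (Nat.two_pow_pos i).ne' : ((2 ^ i : ℕ) : ℤ) ≠ 0)).mp h'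
      rw [he, zpow_mul, zpow_natCast]
      exact Subgroup.zpow_mem _ (Subgroup.mem_zpowers _) e
    have heq : Subgroup.zpowers c = B := by
      refine Subgroup.eq_of_le_of_card_ge (Subgroup.zpowers_le.mpr (hmemB c hcA
        (by rw [← hi]; exact pow_orderOf_eq_one c))) ?_
      rw [Nat.card_zpowers, Nat.card_zpowers, hi,
        orderOf_pow_of_dvd (by positivity) (hao ▸ pow_dvd_pow 2 (by omega)), hao,
        Nat.pow_div (by omega) (by omega), show n - (n - i) = i by omega]
    intro x hx h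
    rw [heq]; exact hmemB x hx h
  by_cases hjc : a ^ j ∈ Subgroup.zpowers c
  · -- now `b ∈ Q` and `Q = ⟨c⟩⟨b⟩`
    have hcQ' : Subgroup.zpowers c ≤ Q := Subgroup.zpowers_le.mpr hcQ
    have hbQ : b ∈ Q := (Subgroup.mul_mem_cancel_left _ (hcQ' hjc)).mp hdQ
    have hQform : ∀ x ∈ Q, ∃ l : ℤ, x = c ^ l ∨ x = c ^ l * b := by
      intro x hx
      rcases hcd x hx with h | h
      · obtain ⟨l, hl⟩ := Subgroup.mem_zpowers_iff.mp h
        exact ⟨l, Or.inl hl.symm⟩
      · -- `x (a^j b) ∈ ⟨c⟩`
        by_cases hxA : x ∈ Subgroup.zpowers a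
        · obtain ⟨l, hl⟩ := Subgroup.mem_zpowers_iff.mp (hcgen x hx hxA)
          exact ⟨l, Or.inl hl.symm⟩
        · have h2 : x * b ∈ Subgroup.zpowers c := hcgen _ (Q.mul_mem hx hbQ)
            (Subgroup.mem_subgroupOf.mp
              ((Subgroup.mul_mem_iff_of_index_two (H := (Subgroup.zpowers a).subgroupOf (S : Subgroup G)) hA2
                (a := ⟨x, hQS hx⟩) (b := ⟨b, hb⟩)).mpr (iff_of_false hxA hbA)))
          obtain ⟨l, hl⟩ := Subgroup.mem_zpowers_iff.mp h2
          exact ⟨l, Or.inr (by rw [hl, mul_assoc, hbb, mul_one])⟩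
    by_cases hc1 : c = 1
    · refine hcyc b (le_antisymm (fun x hx => ?_) (Subgroup.zpowers_le.mpr hbQ))
      obtain ⟨l, rfl | rfl⟩ := hQform x hx <;> simp [hc1]
    obtain ⟨m, hm⟩ := Subgroup.mem_zpowers_iff.mp hcA
    have hi1 : 1 ≤ i := by
      by_contra h0
      apply hc1
      rw [← orderOf_eq_one_iff, hi, show i = 0 by omega, pow_zero]
    have hzc : z ∈ Subgroup.zpowers c :=
      hdiv z (Subgroup.pow_mem _ (Subgroup.mem_zpowers a) _) (by
        rw [show 2 ^ i = 2 * 2 ^ (i - 1) by rw [← pow_succ']; congr 1; omega, pow_mul, pow_two, hzz, one_pow])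
    have hgz : Commute g z := by
      suffices h : g * z * g⁻¹ = z from mul_inv_eq_iff_eq_mul.mp h
      by_cases hi2 : 2 ≤ i
      · have hze : ∃ r ∈ Q, z = r * r := by
          refine ⟨c ^ 2 ^ (i - 2), Q.pow_mem hcQ _, ?_⟩
          set w := c ^ 2 ^ (i - 2) * c ^ 2 ^ (i - 2) with hw
          have hwo : orderOf w = 2 := by
            rw [hw, ← pow_add, ← two_mul, ← pow_succ',
              orderOf_pow_of_dvd (by positivity) (hi ▸ pow_dvd_pow 2 (by omega)), hi,
              Nat.pow_div (by omega) (by omega), show i - (i - 2 + 1) = 1 by omega, pow_one]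
          rcases hinvA w (Subgroup.mul_mem _ (Subgroup.pow_mem _ hcA _) (Subgroup.pow_mem _ hcA _))
            (by rw [← pow_two, ← hwo]; exact pow_orderOf_eq_one w) with h | h
          · rw [h, orderOf_one] at hwo; omega
          · exact h.symm
        obtain ⟨r, hr, hrz⟩ := hze
        refine hzsq g (g * r * g⁻¹) (hQS (conjQ r hr)) ?_
        rw [hrz]; simp [mul_assoc]
      · -- `Q` is a four-group
        set C := Subgroup.centralizer (Q : Set G) with hC
        set N := Subgroup.normalizer (Q : Set G) with hN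
        have hi1' : i = 1 := by omega
        have hQV : ∀ x ∈ Q, x = 1 ∨ x = z ∨ x = b ∨ x = z * b := by
          intro x hx
          have hcz : c = z := by
            rcases hinvA c hcA (by
              have := pow_orderOf_eq_one c
              rwa [hi, hi1', pow_one, pow_two] at this) with h | h
            · exact absurd h hc1
            · exact h
          obtain ⟨l, hl⟩ := hQform x hx
          rw [hcz] at hl
          rcases Int.even_or_odd l with ⟨e, rfl⟩ | ⟨e, rfl⟩
          · rw [zpow_add, ← (Commute.refl z).mul_zpow, hzz, one_zpow, one_mul] at hl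
            tauto
          · rw [zpow_add, zpow_mul, zpow_two, hzz, one_zpow, one_mul, zpow_one] at hl
            tauto
        have hzQ : z ∈ Q := hcQ' hzc
        have hSN : (S : Subgroup G) ≤ N := by
          have haN : a ∈ N := by
            have hab : a * b * a⁻¹ = z * b := by
              have h1 : b * a = a * z * b := mul_inv_eq_iff_eq_mul.mp hba
              have h2 : a * b = b * a * z := by
                rw [h1, mul_assoc (a * z) b z, hbz.eq, ← mul_assoc (a * z) z b, mul_assoc a z z, hzz, mul_one]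
              calc a * b * a⁻¹ = b * a * z * a⁻¹ := by rw [h2]
                _ = b * (a * z * a⁻¹) := by simp [mul_assoc]
                _ = z * b := by rw [haz.eq, mul_inv_cancel_right, hbz.eq]
            have hazc : a * z * a⁻¹ = z := by rw [haz.eq, mul_inv_cancel_right]
            have hle : Q.map (MulAut.conj a).toMonoidHom ≤ Q := by
              rintro _ ⟨x, hx, rfl⟩
              show a * x * a⁻¹ ∈ Q
              rcases hQV x hx with rfl | rfl | rfl | rfl
              · simp
              · rw [hazc]; exact hzQ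
              · rw [hab]; exact Q.mul_mem hzQ hbQ
              · rw [conj_mul.symm, hazc, hab, ← mul_assoc, hzz, one_mul]; exact hbQ
            have heq := Subgroup.eq_of_le_of_card_ge hle
              (Subgroup.card_map_of_injective (MulAut.conj a).injective).ge
            rw [hN, Subgroup.mem_normalizer_iff]
            intro x
            refine ⟨fun hx => hle ⟨x, hx, rfl⟩, fun hx => ?_⟩
            rw [← heq] at hx
            obtain ⟨y, hy, hye⟩ := hx
            rwa [← (MulAut.conj a).injective hye]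
          intro x hx
          by_cases hxA : x ∈ Subgroup.zpowers a
          · exact (Subgroup.zpowers_le.mpr haN) hxA
          · obtain ⟨e, rfl⟩ := hform x hx hxA
            exact N.mul_mem (N.zpow_mem haN e) (Subgroup.le_normalizer hbQ)
        set r := a ^ 2 ^ (n - 2) with hr
        have hrr : r * r = z := by
          rw [hr, hz, ← pow_add, ← two_mul, ← pow_succ']; congr 2; omega
        have hrb : Commute b r := by
          have h := hpow (2 ^ (n - 2) : ℕ)
          rw [zpow_natCast, zpow_natCast, ← hr, show 2 ^ (n - 2) = 2 * 2 ^ (n - 3) by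
            rw [← pow_succ']; congr 1; omega, pow_mul z, pow_two, hzz, one_pow, mul_one,
            mul_inv_eq_iff_eq_mul] at h
          exact h
        have hrC : r ∈ (S : Subgroup G) ⊓ C := by
          refine ⟨Subgroup.pow_mem _ ha _, ?_⟩
          show r ∈ Subgroup.centralizer (Q : Set G)
          rw [Subgroup.mem_centralizer_iff]
          intro x hx
          have hrz : Commute z r := (haz.pow_left _).symm
          rcases hQV x hx with rfl | rfl | rfl | rfl
          · simp
          · exact hrz.eq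
          · exact hrb.eq
          · exact (hrz.mul_left hrb).eq
        have hconjC : ∀ m ∈ N, ∀ x ∈ C, m * x * m⁻¹ ∈ C := by
          intro m hm x hx
          rw [hC, Subgroup.mem_centralizer_iff]
          intro q hq
          have h1 : m⁻¹ * q * m ∈ Q := by
            have := (Subgroup.mem_normalizer_iff.mp (N.inv_mem hm) q).mp hq
            simpa using this
          have h2 := congrArg (fun y => m * y * m⁻¹) (Subgroup.mem_centralizer_iff.mp hx _ h1)
          simpa [mul_assoc] using h2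
        have hRp : IsPGroup 2 ↥((S : Subgroup G) ⊓ C : Subgroup G) := IsPGroup.to_le S.isPGroup' inf_le_left
        have hgR : CfsgLib.InvChar.conjSub g ((S : Subgroup G) ⊓ C) ≤ C := by
          intro x hx
          have := hconjC g hgQ _ (CfsgLib.InvChar.mem_conjSub.mp hx).2
          simpa [mul_assoc] using this
        obtain ⟨k, hk, W, hW, hWC, hSW, hgW⟩ := CfsgLib.InvChar.exists_join_pGroup hRp inf_le_right
          (CfsgLib.InvChar.isPGroup_conjSub hRp g) hgR
        obtain ⟨m, hm, W', hW', -, hSW', hmW⟩ := CfsgLib.InvChar.exists_join_pGroup S.isPGroup' hSN hW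
          (hWC.trans (Subgroup.centralizer_le_normalizer _))
        rw [S.is_maximal' hW' hSW'] at hmW
        have hWeq : W = (S : Subgroup G) ⊓ C := by
          refine (Subgroup.eq_of_le_of_card_ge hSW ?_).symm
          rw [← CfsgLib.InvChar.card_conjSub m W]
          refine Subgroup.card_le_of_le (le_inf hmW fun x hx => ?_)
          have := hconjC m hm _ (hWC (CfsgLib.InvChar.mem_conjSub.mp hx))
          simpa [mul_assoc] using this
        have hkr : k * (g * r * g⁻¹) * k⁻¹ ∈ (S : Subgroup G) := by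
          have h1 := hgW (CfsgLib.InvChar.conj_mem_conjSub (CfsgLib.InvChar.conj_mem_conjSub hrC))
          rw [hWeq] at h1
          exact h1.1
        refine hzsq g _ hkr ?_
        have h2 : g * z * g⁻¹ * k = k * (g * z * g⁻¹) :=
          Subgroup.mem_centralizer_iff.mp hk _ (conjQ z hzQ)
        calc g * z * g⁻¹ = k * (g * z * g⁻¹) * k⁻¹ := by rw [← h2, mul_inv_cancel_right]
          _ = k * (g * (r * r) * g⁻¹) * k⁻¹ := by rw [hrr]
          _ = _ := by simp [mul_assoc]
    have htwo : ∀ w ∈ (S : Subgroup G), ∃ k, w ^ (2 ^ k) = 1 := fun w hw => by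
      obtain ⟨k, hk⟩ := S.isPGroup' ⟨w, hw⟩
      exact ⟨k, congrArg Subtype.val hk⟩
    have hgb : Commute g b := by
      have hx := conjQ b hbQ
      have hx2 : (g * b * g⁻¹) * (g * b * g⁻¹) = 1 := by rw [conj_mul, hbb, mul_one, mul_inv_cancel]
      obtain ⟨l, hl | hl⟩ := hQform _ hx
      · exfalso
        have hmem : c ^ l ∈ Subgroup.zpowers a := Subgroup.zpow_mem _ hcA l
        rcases hinvA _ hmem (hl ▸ hx2) with h | h
        · rw [← hl, mul_inv_eq_one] at h
          have hb1 : b = 1 := mul_left_cancel (h.trans (mul_one g).symm)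
          exact hbA (hb1 ▸ Subgroup.one_mem _)
        · rw [← hl, mul_inv_eq_iff_eq_mul, ← hgz.eq] at h
          exact hbA (mul_left_cancel h ▸ Subgroup.pow_mem _ (Subgroup.mem_zpowers a) _)
      · obtain ⟨t, ht⟩ : ∃ t : ℤ, c ^ l = a ^ t := ⟨m * l, by rw [zpow_mul, hm]⟩
        rw [hl, ht] at hx2
        obtain ⟨α, hα⟩ := h2j t
        rw [hx2, one_zpow] at hα
        rw [ht] at hl
        rcases hinvA _ (Subgroup.zpow_mem _ (Subgroup.mem_zpowers a) t)
          (by rw [← zpow_add, ← two_mul, hα]) with h | h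
        · rw [h, one_mul, mul_inv_eq_iff_eq_mul] at hl
          exact hl
        · exact fix_of_shift hg (w := z) (by rw [hl, h, hbz.eq]) hgz (htwo z (Subgroup.pow_mem _ ha _))
    -- squares of Q lie in `⟨c²⟩`
    have hsqQ : ∀ l : ℤ, (c ^ l * b) * (c ^ l * b) = (c * c) ^ l * z ^ (m * l) := by
      intro l
      rw [← hm, ← zpow_mul, hsq, ← zpow_add, ← zpow_mul]
      congr 2; ring
    have hgcc : Commute g (c * c) := by
      obtain ⟨k, hk⟩ := IsPGroup.iff_orderOf.mp S.isPGroup'
        ⟨c * c, (S : Subgroup G).mul_mem (hQS hcQ) (hQS hcQ)⟩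
      rw [Subgroup.orderOf_mk] at hk
      refine commute_of_conj_mem_zpowers hg k _ hk ?_
      rw [← conj_mul]
      obtain ⟨l, hl | hl⟩ := hQform _ (conjQ c hcQ)
      · rw [hl, ← zpow_add, ← two_mul, zpow_mul, zpow_two]
        exact Subgroup.zpow_mem _ (Subgroup.mem_zpowers _) l
      · rw [hl, hsqQ]
        refine Subgroup.mul_mem _ (Subgroup.zpow_mem _ (Subgroup.mem_zpowers _) l) ?_
        rcases Int.even_or_odd (m * l) with ⟨e, he⟩ | ⟨e, he⟩
        · rw [he, zpow_add, ← (Commute.refl z).mul_zpow, hzz, one_zpow]; exact Subgroup.one_mem _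
        · obtain ⟨e', he'⟩ : ∃ e' : ℤ, m = 2 * e' + 1 := (Int.odd_mul.mp ⟨e, he⟩).1
          have hco : IsCoprime ((2 ^ n : ℕ) : ℤ) m := by
            push_cast
            exact IsCoprime.pow_left ⟨-e', 1, by rw [he']; ring⟩
          obtain ⟨β, α, hαβ⟩ := hco
          have hz' : z = (c * c) ^ (((2 ^ (n - 2) : ℕ) : ℤ) * α) := by
            rw [← hm, ← zpow_add, ← zpow_mul, hz, ← zpow_natCast]
            refine hred _ _ ⟨-((2 ^ (n - 1) : ℕ) : ℤ) * β, ?_⟩
            have h2 : ((2 ^ (n - 1) : ℕ) : ℤ) = 2 * ((2 ^ (n - 2) : ℕ) : ℤ) := by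
              norm_cast; rw [← pow_succ']; congr 1; omega
            rw [h2]; linear_combination (2 * ((2 ^ (n - 2) : ℕ) : ℤ)) * hαβ
          exact Subgroup.zpow_mem _ (hz' ▸ Subgroup.zpow_mem _ (Subgroup.mem_zpowers _) _) _
    have hgc : Commute g c := by
      have hx := conjQ c hcQ
      by_cases hi2 : 2 ≤ i
      · have hodd : ∀ l : ℤ, (c * c) ^ l = c * c → Odd l := by
          intro l hl
          rw [← Int.not_even_iff_odd]
          rintro ⟨e, rfl⟩
          have h1 : c ^ (2 * (e + e - 1)) = 1 := by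
            rw [zpow_mul, zpow_two, zpow_sub_one, hl, mul_inv_cancel]
          rw [← orderOf_dvd_iff_zpow_eq_one, hi] at h1
          have h4 : (4 : ℤ) ∣ 2 * (e + e - 1) := by
            refine dvd_trans ?_ h1
            exact_mod_cast (show (4 : ℕ) ∣ 2 ^ i from pow_dvd_pow 2 hi2)
          omega
        have hsame : (g * c * g⁻¹) * (g * c * g⁻¹) = c * c := by
          rw [conj_mul, hgcc.eq, mul_inv_cancel_right]
        have hshift : ∀ e : ℤ, c ^ (2 * e + 1) = c * (c * c) ^ e := by
          intro e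
          rw [add_comm, zpow_add, zpow_one, zpow_mul, zpow_two]
        obtain ⟨l, hl | hl⟩ := hQform _ hx
        · rw [hl, ← zpow_add, ← two_mul, zpow_mul, zpow_two] at hsame
          obtain ⟨e, rfl⟩ := hodd l hsame
          rw [hshift] at hl
          exact fix_of_shift hg hl (hgcc.zpow_right e)
            (htwo _ (Subgroup.zpow_mem _ ((S : Subgroup G).mul_mem (hQS hcQ) (hQS hcQ)) e))
        · rw [hl, hsqQ] at hsame
          have hl' : Odd l := by
            rcases Int.even_or_odd l with ⟨e, he⟩ | h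
            · apply hodd
              rw [he, show m * (e + e) = 2 * (m * e) by ring, zpow_mul z, zpow_two, hzz, one_zpow, mul_one,
                ← he] at hsame
              exact hsame
            · exact h
          obtain ⟨e, rfl⟩ := hl'
          rw [hshift, mul_assoc c] at hl
          exact fix_of_shift hg hl ((hgcc.zpow_right e).mul_right hgb)
            (htwo _ ((S : Subgroup G).mul_mem
              (Subgroup.zpow_mem _ ((S : Subgroup G).mul_mem (hQS hcQ) (hQS hcQ)) e) hb))
      · rcases hinvA c hcA (by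
          have := pow_orderOf_eq_one c
          rwa [hi, show i = 1 by omega, pow_one, pow_two] at this) with h | h
        · exact absurd h hc1
        · rw [h]; exact hgz
    intro q hq
    obtain ⟨l, rfl | rfl⟩ := hQform q hq
    · exact hgc.zpow_right l
    · exact (hgc.zpow_right l).mul_right hgb
  · -- Q is cyclic, generated by `a^j b`
    refine hcyc (a ^ j * b) (le_antisymm ?_ (Subgroup.zpowers_le.mpr hdQ))
    have hcd2 : Subgroup.zpowers c ≤ Subgroup.zpowers (a ^ j * b) := by
      rw [Subgroup.zpowers_le]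
      have hlt : ¬ orderOf (a ^ j) ∣ 2 ^ i := fun h =>
        hjc (hdiv _ (Subgroup.zpow_mem _ (Subgroup.mem_zpowers a) j) (orderOf_dvd_iff_pow_eq_one.mp h))
      obtain ⟨t, ht⟩ := (Nat.dvd_prime_pow Nat.prime_two).mp
        (hao ▸ orderOf_dvd_of_mem_zpowers (Subgroup.zpow_mem _ (Subgroup.mem_zpowers a) j) : orderOf (a ^ j) ∣ 2 ^ n)
      have hit : i < t := by
        by_contra h
        exact hlt (ht.2 ▸ pow_dvd_pow 2 (by omega))
      obtain ⟨α, hα⟩ := h2j j
      -- `c` lies in `⟨a^(2j)⟩`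
      have hca : c ∈ Subgroup.zpowers (a ^ (2 * j)) := by
        have hx : a ^ (2 * j) = (a ^ j) ^ (2 : ℕ) := by rw [← zpow_natCast, ← zpow_mul, mul_comm]; rfl
        have ho : orderOf (a ^ (2 * j)) = 2 ^ (t - 1) := by
          rw [hx, orderOf_pow_of_dvd two_ne_zero (ht.2 ▸ dvd_pow_self 2 (by omega)), ht.2]
          conv_lhs => rw [show t = t - 1 + 1 by omega, pow_succ]
          exact Nat.mul_div_cancel _ two_pos
        have hle : Subgroup.zpowers (a ^ (2 * j)) ≤ Subgroup.zpowers c := by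
          rw [Subgroup.zpowers_le, hα]
          exact Subgroup.zpow_mem _ (hcgen _ (Q.mul_mem hdQ hdQ) (hsqA _ (hQS hdQ))) α
        rw [Subgroup.eq_of_le_of_card_ge hle (by
          rw [Nat.card_zpowers, Nat.card_zpowers, ho, hi]; exact Nat.pow_le_pow_right (by omega) (by omega))]
        exact Subgroup.mem_zpowers c
      rw [hα] at hca
      refine (Subgroup.zpowers_le.mpr ?_) hca
      exact Subgroup.zpow_mem _ (Subgroup.mul_mem _ (Subgroup.mem_zpowers _) (Subgroup.mem_zpowers _)) α
    intro x hx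
    rcases hcd x hx with h | h
    · exact hcd2 h
    · exact (Subgroup.mul_mem_cancel_right _ (Subgroup.mem_zpowers _)).mp (hcd2 h)

end Cfsg.Agent.S3178
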