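import Cfsg.Statements.S3179
import Cfsg.Agent.Lib.Linear.Card
import Cfsg.Agent.Lib.SL2Trace.Orders
import Cfsg.Agent.Lib.Classical.Herm.Apps
import Cfsg.Agent.Lib.SuzukiMatrix.Bridge

set_option autoImplicit false
open Cfsg

namespace Cfsg.Agent.S3179

theorem card_gl52 : Nat.card (GL (Fin 5) (ZMod 2)) = 9999360 := by
  rw [Matrix.card_GL_field, ZMod.card]
  simp [Fin.prod_univ_succ]

def matA : Matrix (Fin 5) (Fin 5) (ZMod 2) :=
  !![0, 1, 0, 0, 0; 1, 1, 0, 0, 0; 0, 0, 1, 0, 0; 0, 0, 0, 1, 0; 0, 0, 0, 0, 1]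

def matB : Matrix (Fin 5) (Fin 5) (ZMod 2) :=
  !![1, 0, 0, 0, 0; 0, 1, 0, 0, 0; 0, 0, 0, 1, 0; 0, 0, 1, 1, 0; 0, 0, 0, 0, 1]

def gA : GL (Fin 5) (ZMod 2) := ⟨matA, matA * matA, by decide, by decide⟩

def gB : GL (Fin 5) (ZMod 2) := ⟨matB, matB * matB, by decide, by decide⟩

def elemHom : Multiplicative (ZMod 3 × ZMod 3) →* GL (Fin 5) (ZMod 2) where
  toFun x := gA ^ (Multiplicative.toAdd x).1.val * gB ^ (Multiplicative.toAdd x).2.val
  map_one' := by simp
  map_mul' := fun x y => by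
    have hA : gA ^ 3 = 1 := Units.ext (by decide)
    have hB : gB ^ 3 = 1 := Units.ext (by decide)
    have hc : Commute gA gB := Units.ext (by decide)
    simp only [toAdd_mul, Prod.fst_add, Prod.snd_add, ZMod.val_add]
    rw [← pow_eq_pow_mod _ hA, ← pow_eq_pow_mod _ hB, pow_add, pow_add]
    exact (hc.pow_pow _ _).mul_mul_mul_comm _ _

theorem elemHom_injective : Function.Injective elemHom := by
  refine (injective_iff_map_eq_one _).mpr fun x hx => ?_
  have h := congrArg (fun g : GL (Fin 5) (ZMod 2) => (g : Matrix (Fin 5) (Fin 5) (ZMod 2))) hx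
  revert h
  clear hx
  revert x
  decide

theorem cube_eq_one : ∀ x : Multiplicative (ZMod 3 × ZMod 3), x ^ 3 = 1 := by decide

/-- `GL(5,2)` has no element of order `9`. -/
theorem orderOf_ne_nine (g : GL (Fin 5) (ZMod 2)) : orderOf g ≠ 9 := by
  intro hg
  haveI : Fact (Nat.Prime 3) := ⟨Nat.prime_three⟩
  have hcard : Nat.card ↥elemHom.range = 3 ^ 2 := by
    rw [← Nat.card_congr (MonoidHom.ofInjective elemHom_injective).toEquiv]
    simp
  have hfac : (Nat.card (GL (Fin 5) (ZMod 2))).factorization 3 = 2 := by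
    rw [card_gl52, show 9999360 = 3 ^ 2 * 1111040 from rfl, Nat.factorization_mul (by norm_num) (by norm_num),
      Nat.Prime.factorization_pow Nat.prime_three]
    simp [Nat.factorization_eq_zero_of_not_dvd (show ¬ 3 ∣ 1111040 by norm_num)]
  let P : Sylow 3 (GL (Fin 5) (ZMod 2)) := Sylow.ofCard elemHom.range (by rw [hcard, hfac])
  obtain ⟨Q, hQ⟩ := (IsPGroup.of_card (p := 3) (n := 2)
    (show Nat.card ↥(Subgroup.zpowers g) = 3 ^ 2 by rw [Nat.card_zpowers, hg]; norm_num)).exists_le_sylow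
  obtain ⟨c, hc⟩ := MulAction.exists_smul_eq (GL (Fin 5) (ZMod 2)) P Q
  have hmem : g ∈ (Q : Subgroup (GL (Fin 5) (ZMod 2))) := hQ (Subgroup.mem_zpowers g)
  rw [← hc] at hmem
  have h1 : c⁻¹ * g * c⁻¹⁻¹ ∈ (P : Subgroup (GL (Fin 5) (ZMod 2))) := by
    have h := Subgroup.mem_pointwise_smul_iff_inv_smul_mem.mp hmem
    simpa using h
  obtain ⟨x, hx⟩ := (show c⁻¹ * g * c⁻¹⁻¹ ∈ elemHom.range from h1)
  have h3 : x ^ 3 = 1 := cube_eq_one x
  have h4 : g ^ 3 = 1 := by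
    have e := congrArg elemHom h3
    rw [map_pow, map_one, hx, conj_pow, mul_inv_eq_one, mul_eq_left] at e
    exact e
  have := orderOf_dvd_of_pow_eq_one h4
  rw [hg] at this
  omega

theorem dvd_card_section {H : Subgroup (GL (Fin 5) (ZMod 2))} (K : Subgroup ↥H) [K.Normal] :
    Nat.card (↥H ⧸ K) ∣ 9999360 := by
  rw [← card_gl52]
  exact (Subgroup.card_quotient_dvd_card K).trans (Subgroup.card_subgroup_dvd_card H)

/-- Let X be a section of the general linear group GL(5, 2), that is, a quotient of a subgroup of it. If X is isomorphic to PSL(2, 2^n) for some n ≥ 2, to a Suzuki group over the field with 2^(2m+1) elements for some m ≥ 1, or to PSU(3, 2^n) for some n ≥ 2, then X is isomorphic to PSL(2, 4). -/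
theorem result {H : Subgroup (GL (Fin 5) (ZMod 2))}
    {K : Subgroup ↥H} [K.Normal]
    (hX : (∃ (n : ℕ) (F : Type) (_ : Field F) (_ : Fintype F), 2 ≤ n ∧ Fintype.card F = 2 ^ n ∧
        Nonempty (↥H ⧸ K ≃* Matrix.ProjectiveSpecialLinearGroup (Fin 2) F)) ∨
      (∃ (m : ℕ) (F : Type) (_ : Field F) (_ : Fintype F), 1 ≤ m ∧ Fintype.card F = 2 ^ (2 * m + 1) ∧
        Nonempty (↥H ⧸ K ≃* ↥(Cfsg.Lie.Sz F (2 ^ (m + 1))))) ∨
      (∃ (n : ℕ) (F : Type) (_ : Field F) (_ : Fintype F), 2 ≤ n ∧ Fintype.card F = 4 ^ n ∧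
        Nonempty (↥H ⧸ K ≃* Cfsg.PSU 3 F (2 ^ n)))) :
    ∃ (F : Type) (_ : Field F) (_ : Fintype F), Fintype.card F = 4 ∧
      Nonempty (↥H ⧸ K ≃* Matrix.ProjectiveSpecialLinearGroup (Fin 2) F) := by
  have hdvd := dvd_card_section K
  rcases hX with ⟨n, F, i1, i2, hn, hF, ⟨e⟩⟩ | ⟨m, F, i1, i2, hm, hF, ⟨e⟩⟩ | ⟨n, F, i1, i2, hn, hF, ⟨e⟩⟩
  · have hodd : Nat.gcd 2 (Fintype.card F - 1) = 1 := by
      have hev : 2 ∣ Fintype.card F := hF ▸ dvd_pow_self 2 (by omega)
      have hpos := Fintype.card_pos (α := F)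
      rw [Nat.gcd_rec, show (Fintype.card F - 1) % 2 = 1 by omega, Nat.gcd_one_left]
    have hc := CfsgLib.Linear.card_PSL_mul (F := F) (n := Fin 2)
    rw [Fintype.card_fin, hodd, one_mul, CfsgLib.Linear.card_SL_two, ← Nat.card_congr e.toEquiv, hF] at hc
    rw [hc] at hdvd
    have hn' : n ≤ 23 := by
      by_contra h
      have h1 := Nat.le_of_dvd (by norm_num) ((Dvd.intro _ rfl).trans hdvd : 2 ^ n ∣ 9999360)
      have h2 : 2 ^ 24 ≤ 2 ^ n := Nat.pow_le_pow_right (by norm_num) (by omega)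
      omega
    have hn3 : n = 2 ∨ n = 3 := by interval_cases n <;> first | omega | (norm_num at hdvd)
    rcases hn3 with rfl | rfl
    · exact ⟨F, i1, i2, by rw [hF]; norm_num, ⟨e⟩⟩
    · exfalso
      obtain ⟨τ, hτ⟩ := CfsgLib.SL2Trace.exists_anisotropic_trace (F := F)
      have hτ4 : τ ^ 2 ≠ 4 := fun h => hτ (CfsgLib.SL2Trace.exists_root_of_sq_eq_four τ h)
      obtain ⟨x, hx⟩ := CfsgLib.SL2Trace.exists_orderOf_toPSL τ hτ4 9
        (by rw [(CfsgLib.SL2Trace.card_centralizer_comp τ hτ4).2 hτ, hF]; norm_num) (by rw [hF]; norm_num)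
      rw [hodd, Nat.div_one] at hx
      obtain ⟨y, hy⟩ := QuotientGroup.mk'_surjective K (e.symm x)
      have h9 : 9 ∣ orderOf (y : GL (Fin 5) (ZMod 2)) := by
        rw [Subgroup.orderOf_coe]
        refine (dvd_of_eq ?_).trans (orderOf_map_dvd (QuotientGroup.mk' K) y)
        rw [hy, MulEquiv.orderOf_eq, hx]
      exact orderOf_ne_nine _ (orderOf_pow_orderOf_div (orderOf_pos _).ne' h9)
  · exfalso
    rw [Nat.card_congr e.toEquiv, CfsgLib.SuzukiMatrix.card_lieSz ⟨hm, hF⟩] at hdvd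
    have hm' : m ≤ 11 := by
      by_contra h
      have h1 := Nat.le_of_dvd (by norm_num) (((Dvd.intro _ rfl).trans (Dvd.intro _ rfl)).trans hdvd :
        (2 ^ (2 * m + 1)) ^ 2 ∣ 9999360)
      have h2 : 2 ^ 24 ≤ (2 ^ (2 * m + 1)) ^ 2 := by
        rw [← pow_mul]; exact Nat.pow_le_pow_right (by norm_num) (by omega)
      omega
    interval_cases m <;> norm_num at hdvd
  · exfalso
    have hF2 : Fintype.card F = (2 ^ n) ^ 2 := by rw [hF, ← pow_mul, mul_comm, pow_mul]; norm_num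
    have hc := CfsgLib.Classical.Herm.card_psu hF2 (n := 3) (by norm_num)
    rw [← Nat.card_congr e.toEquiv] at hc
    have hd2 : (2 ^ n) ^ (3 * (3 - 1) / 2) * ∏ i ∈ Finset.range 3,
        (if Even i then (2 ^ n) ^ (i + 1) + 1 else (2 ^ n) ^ (i + 1) - 1) ∣
        Nat.gcd 3 (2 ^ n + 1) * ((2 ^ n + 1) * 9999360) := by
      rw [← hc]; exact mul_dvd_mul_left _ (mul_dvd_mul_left _ hdvd)
    simp [Finset.prod_range_succ, show Even 2 by decide, show ¬ Even 1 by decide] at hd2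
    have hn' : n ≤ 8 := by
      by_contra h
      have hcop : Nat.Coprime ((2 ^ n) ^ 3) (2 ^ n + 1) := by
        refine Nat.Coprime.pow_left 3 (Nat.Coprime.pow_left n (Nat.coprime_two_left.mpr ?_))
        exact Even.add_one (Nat.even_pow.mpr ⟨even_two, by omega⟩)
      have h1 : (2 ^ n) ^ 3 ∣ Nat.gcd 3 (2 ^ n + 1) * ((2 ^ n + 1) * 9999360) := (Dvd.intro _ rfl).trans hd2
      have hg : Nat.gcd 3 (2 ^ n + 1) ∣ 3 := Nat.gcd_dvd_left _ _
      have h3 := Nat.Coprime.dvd_of_dvd_mul_left hcop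
        (by rw [mul_left_comm] at h1; exact h1.trans (mul_dvd_mul_left _ (mul_dvd_mul_right hg _)))
      have h4 := Nat.le_of_dvd (by norm_num) h3
      have h5 : 2 ^ 27 ≤ (2 ^ n) ^ 3 := by
        rw [← pow_mul]; exact Nat.pow_le_pow_right (by norm_num) (by omega)
      omega
    interval_cases n <;> norm_num at hd2

end Cfsg.Agent.S3179
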