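import Cfsg.Statements.S3180
import Cfsg.Agent.Lib.InvChar.Basic

set_option autoImplicit false
open Cfsg

namespace Cfsg.Agent.S3180

open CfsgLib.InvChar

theorem result {J : Type*} [Group J] [Finite J]
    {p : ℕ} [Fact p.Prime] (P : Sylow p J) (P₁ : Subgroup J) (hW : Cfsg.IsWeaklyClosed P₁ (P : Subgroup J))
    {Ω : Type*} [MulAction J Ω] (x y : Ω) (hx : ∀ g ∈ P₁, g • x = x) (hy : ∀ g ∈ P₁, g • y = y)
    (hc : ∃ g : J, g • x = y) :
    ∃ g ∈ Subgroup.normalizer (P₁ : Set J), g • x = y := by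
  obtain ⟨hle, hw⟩ := hW
  obtain ⟨g, hg⟩ := hc
  let K : Subgroup J := MulAction.stabilizer J y
  have h1 : P₁ ≤ K := fun a ha => MulAction.mem_stabilizer_iff.mpr (hy a ha)
  have h2 : conjSub g P₁ ≤ K := by
    intro a ha
    have ha' := hx _ (mem_conjSub.mp ha)
    rw [MulAction.mem_stabilizer_iff]
    have h3 : g⁻¹ • (a • y) = x := by rw [← hg, smul_smul, smul_smul]; exact ha'
    rw [← hg]
    calc a • g • x = g • (g⁻¹ • (a • y)) := by rw [hg, smul_inv_smul]
      _ = g • x := by rw [h3]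
  have hp : IsPGroup p ↥P₁ := IsPGroup.to_le P.isPGroup' hle
  obtain ⟨k, hk, R, hR, -, hR1, hR2⟩ :=
    exists_join_pGroup hp h1 (isPGroup_conjSub hp g) h2
  obtain ⟨m, hm⟩ := exists_conjSub_le_sylow hR P
  rw [conjSub_mul] at hR2
  have e1 : conjSub m P₁ = P₁ := hw m ((conjSub_mono m hR1).trans hm)
  have e2 : conjSub (m * (k * g)) P₁ = P₁ := by
    refine hw _ (le_trans ?_ hm)
    have := conjSub_mono m hR2
    rwa [conjSub_mul] at this
  refine ⟨k * g, ?_, ?_⟩
  · rw [mem_normalizer_iff_conjSub]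
    have : conjSub (k * g) P₁ = conjSub m⁻¹ (conjSub (m * (k * g)) P₁) := by
      rw [conjSub_mul, inv_mul_cancel_left]
    rw [this, e2]
    conv_lhs => rw [← e1, conjSub_mul, inv_mul_cancel, conjSub_one]
  · rw [mul_smul, hg]
    exact MulAction.mem_stabilizer_iff.mp hk

end Cfsg.Agent.S3180
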