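import Cfsg.Statements.S3183
import Cfsg.Agent.Lib.InvChar.Basic
import Mathlib.GroupTheory.Nilpotent

set_option autoImplicit false
open Cfsg

namespace Cfsg.Agent.S3183

open CfsgLib.InvChar

variable {G : Type*} [Group G] [Finite G]

/-- The centre of a subgroup, viewed in the ambient group. -/
theorem mem_centerMap {U : Subgroup G} {x : G} :
    x ∈ (Subgroup.center ↥U).map U.subtype ↔ x ∈ U ∧ ∀ u ∈ U, u * x = x * u := by
  constructor
  · rintro ⟨a, ha, rfl⟩
    exact ⟨a.2, fun u hu => congrArg Subtype.val (Subgroup.mem_center_iff.mp ha ⟨u, hu⟩)⟩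
  · rintro ⟨hx, h⟩
    exact ⟨⟨x, hx⟩, Subgroup.mem_center_iff.mpr fun u => Subtype.ext (h u u.2), rfl⟩

theorem inter_le_center
    (hCI : ∀ S T : Sylow 2 G, S ≠ T → ∃ U : Sylow 2 G,
      (S : Subgroup G) ⊓ (T : Subgroup G) ≤ (Subgroup.center ↥(U : Subgroup G)).map (U : Subgroup G).subtype) :
    ∀ (n : ℕ) (S T : Sylow 2 G), S ≠ T →
      Nat.card G ≤ n + Nat.card ↥((S : Subgroup G) ⊓ (T : Subgroup G)) →
      (S : Subgroup G) ⊓ (T : Subgroup G) ≤ (Subgroup.center ↥(S : Subgroup G)).map (S : Subgroup G).subtype := by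
  intro n
  induction n using Nat.strong_induction_on with
  | _ n ih =>
  intro S T hST hn
  set D := (S : Subgroup G) ⊓ (T : Subgroup G) with hD
  have hDS : D ≤ (S : Subgroup G) := inf_le_left
  have hne : D ≠ (S : Subgroup G) := by
    intro h
    have hle : (S : Subgroup G) ≤ (T : Subgroup G) := h ▸ inf_le_right
    exact hST (Sylow.ext (S.is_maximal' T.isPGroup' hle).symm)
  obtain ⟨U, hU⟩ := hCI S T hST
  let K := Subgroup.normalizer (D : Set G)
  have hUK : (U : Subgroup G) ≤ K := by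
    refine le_trans ?_ (Subgroup.centralizer_le_normalizer _)
    intro u hu
    rw [Subgroup.mem_centralizer_iff]
    exact fun d hd => ((mem_centerMap.mp (hU hd)).2 u hu).symm
  -- N_S(D) is bigger than D
  have hcond : NormalizerCondition ↥(S : Subgroup G) :=
    have : Group.IsNilpotent ↥(S : Subgroup G) := IsPGroup.isNilpotent S.isPGroup'
    Group.normalizerCondition_of_isNilpotent
  have hlt : D.subgroupOf (S : Subgroup G) < ⊤ := by
    rw [lt_top_iff_ne_top]
    intro h
    exact hne (le_antisymm hDS (Subgroup.subgroupOf_eq_top.mp h))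
  obtain ⟨x, hxN, hxD⟩ := SetLike.exists_of_lt (hcond _ hlt)
  have hxK : (x : G) ∈ K := by
    rw [Subgroup.mem_normalizer_iff]
    intro d
    constructor
    · intro hd
      exact ((Subgroup.mem_normalizer_iff.mp hxN) ⟨d, hDS hd⟩).mp hd
    · intro hd
      have hdS : d ∈ (S : Subgroup G) := by
        have := Subgroup.mul_mem _ (Subgroup.mul_mem _ (Subgroup.inv_mem _ x.2) (hDS hd)) x.2
        simpa [mul_assoc] using this
      exact ((Subgroup.mem_normalizer_iff.mp hxN) ⟨d, hdS⟩).mpr hd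
  obtain ⟨k, hk, R, hR, -, hSR, hUR⟩ := exists_join_pGroup (K := K)
    (P := (S : Subgroup G) ⊓ K) (Q := (U : Subgroup G))
    (IsPGroup.to_le S.isPGroup' inf_le_left) inf_le_right U.isPGroup' hUK
  have hV : R = ((k • U : Sylow 2 G) : Subgroup G) := (k • U).is_maximal' hR hUR
  have hDV : D ≤ (Subgroup.center ↥((k • U : Sylow 2 G) : Subgroup G)).map
      ((k • U : Sylow 2 G) : Subgroup G).subtype := by
    intro d hd
    have hd' : k⁻¹ * d * k ∈ D := by
      have := (Subgroup.mem_normalizer_iff.mp (K.inv_mem hk) d).mp hd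
      simpa using this
    obtain ⟨h1, h2⟩ := mem_centerMap.mp (hU hd')
    rw [mem_centerMap]
    refine ⟨(mem_conjSub (g := k) (H := (U : Subgroup G))).mpr h1, fun u hu => ?_⟩
    have hu' : k⁻¹ * u * k ∈ (U : Subgroup G) := (mem_conjSub (g := k)).mp hu
    have h3 := congrArg (fun a => k * a * k⁻¹) (h2 _ hu')
    simpa [mul_assoc] using h3
  by_cases hSV : k • U = S
  · rw [hSV] at hDV; exact hDV
  · have hle : (S : Subgroup G) ⊓ K ≤ (S : Subgroup G) ⊓ ((k • U : Sylow 2 G) : Subgroup G) :=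
      le_inf inf_le_left (hV ▸ hSR)
    have hlt' : D < (S : Subgroup G) ⊓ ((k • U : Sylow 2 G) : Subgroup G) := by
      refine lt_of_lt_of_le ?_ hle
      rw [lt_iff_le_not_ge]
      exact ⟨le_inf hDS (Subgroup.le_normalizer), fun h => hxD (h ⟨x.2, hxK⟩)⟩
    have hc : Nat.card ↥D < Nat.card ↥((S : Subgroup G) ⊓ ((k • U : Sylow 2 G) : Subgroup G)) := by
      apply lt_of_not_ge
      intro hge
      exact hlt'.ne (Subgroup.eq_of_le_of_card_ge hlt'.le hge)
    have hG : Nat.card ↥((S : Subgroup G) ⊓ ((k • U : Sylow 2 G) : Subgroup G)) ≤ Nat.card G :=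
      Subgroup.card_le_card_group _
    exact hlt'.le.trans (ih (Nat.card G - Nat.card ↥((S : Subgroup G) ⊓ ((k • U : Sylow 2 G) : Subgroup G)))
      (by omega) S (k • U) (fun h => hSV h.symm) (by omega))

theorem result {G : Type*} [Group G] [Finite G]
    (hCI : ∀ S T : Sylow 2 G, S ≠ T → ∃ U : Sylow 2 G,
      (S : Subgroup G) ⊓ (T : Subgroup G) ≤ (Subgroup.center ↥(U : Subgroup G)).map (U : Subgroup G).subtype)
    (S : Sylow 2 G) :
    (∀ x ∈ (S : Subgroup G), ∀ P : Subgroup G, IsPGroup 2 ↥P → P ≤ Subgroup.centralizer ({x} : Set G) →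
        Nat.card ↥P ≤ Nat.card ↥((S : Subgroup G) ⊓ Subgroup.centralizer ({x} : Set G))) ∧
    (∀ T : Sylow 2 G, T ≠ S →
        (S : Subgroup G) ⊓ (T : Subgroup G) ≤
          (Subgroup.center ↥(S : Subgroup G)).map (S : Subgroup G).subtype ⊓
            (Subgroup.center ↥(T : Subgroup G)).map (T : Subgroup G).subtype) := by
  have key : ∀ S T : Sylow 2 G, S ≠ T →
      (S : Subgroup G) ⊓ (T : Subgroup G) ≤ (Subgroup.center ↥(S : Subgroup G)).map (S : Subgroup G).subtype :=
    fun S T h => inter_le_center hCI (Nat.card G) S T h le_self_add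
  refine ⟨fun x hx P hP hPC => ?_, fun T hT => le_inf (key S T hT.symm) (inf_comm (S : Subgroup G) _ ▸ key T S hT)⟩
  have hxz : IsPGroup 2 ↥(Subgroup.zpowers x) :=
    IsPGroup.to_le S.isPGroup' ((Subgroup.zpowers_le).mpr hx)
  have hPn : P ≤ Subgroup.normalizer ((Subgroup.zpowers x : Subgroup G) : Set G) := by
    refine le_trans ?_ (Subgroup.centralizer_le_normalizer _)
    intro p hp
    rw [Subgroup.mem_centralizer_iff]
    intro z hz
    obtain ⟨k, rfl⟩ := Subgroup.mem_zpowers_iff.mp hz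
    exact ((show Commute x p from (Subgroup.mem_centralizer_singleton_iff.mp (hPC hp)).symm).zpow_left k).eq
  have hsup : IsPGroup 2 ↥(P ⊔ Subgroup.zpowers x) := hP.to_sup_of_normal_right' hxz hPn
  obtain ⟨T, hT⟩ := hsup.exists_le_sylow
  have hxT : x ∈ (T : Subgroup G) := hT (Subgroup.mem_sup_right (Subgroup.mem_zpowers x))
  have hPT : P ≤ (T : Subgroup G) := le_sup_left.trans hT
  by_cases hTS : T = S
  · subst hTS
    exact Subgroup.card_le_of_le (le_inf hPT hPC)
  · have hS : (S : Subgroup G) ≤ Subgroup.centralizer ({x} : Set G) := fun s hs =>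
      Subgroup.mem_centralizer_singleton_iff.mpr ((mem_centerMap.mp (key S T (Ne.symm hTS) ⟨hx, hxT⟩)).2 s hs)
    rw [inf_eq_left.mpr hS]
    calc Nat.card ↥P ≤ Nat.card ↥(T : Subgroup G) := Subgroup.card_le_of_le hPT
      _ = Nat.card ↥(S : Subgroup G) := Nat.card_congr (T.equiv S).toEquiv

end Cfsg.Agent.S3183
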