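import Cfsg.Statements.S3189
import Cfsg.Agent.Lib.Case.Eight.Local
import Cfsg.Agent.Lib.Case.Eight.Moments
import Cfsg.Agent.Lib.Transfer.AbelianSylow
import Cfsg.Agent.Lib.BlockReg.Integral

set_option autoImplicit false
set_option linter.style.haveILetI false
open Cfsg

namespace Cfsg.Agent.S3189

/-- Let G be a non-abelian finite simple group whose Sylow 2-subgroup S is elementary abelian of order 8, and suppose the centralizer of every involution of G is solvable. Then the normalizer of S modulo the centralizer of S has order 7. -/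
theorem result {G : Type*} [Group G] [Finite G]
    [IsSimpleGroup G] (hG : ¬ IsMulCommutative G) (S : Sylow 2 G)
    (hS : Cfsg.IsElementaryAbelian 2 (S : Subgroup G)) (hS8 : Nat.card ↥(S : Subgroup G) = 8)
    (hC : ∀ t : G, orderOf t = 2 → Group.IsSolvable ↥(Subgroup.centralizer ({t} : Set G))) :
    (Subgroup.centralizer ((S : Subgroup G) : Set G)).relIndex (Subgroup.normalizer ((S : Subgroup G) : Set G)) = 7 := by
  classical
  haveI : Fact (Nat.Prime 2) := ⟨Nat.prime_two⟩
  haveI : Fact (Nat.Prime 3) := ⟨Nat.prime_three⟩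
  haveI : Fact (Nat.Prime 7) := ⟨by norm_num⟩
  cases nonempty_fintype G
  have hSc : IsMulCommutative (S : Subgroup G) := hS.1
  have hSE : CfsgLib.Case.Eight.IsEight (S : Subgroup G) :=
    ⟨hS8, fun x => Subtype.ext (hS.2 x x.2), fun a b => mul_comm' a b⟩
  have hderived : commutator G = ⊤ :=
    (inferInstance : (commutator G).Normal).eq_bot_or_eq_top.resolve_left fun h =>
      hG ⟨⟨fun a b => commutatorElement_eq_one_iff_mul_comm.1 (Subgroup.mem_bot.1
        (h ▸ Subgroup.commutator_mem_commutator (Subgroup.mem_top a) (Subgroup.mem_top b)))⟩⟩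
  have hcenter : Subgroup.center G = ⊥ :=
    (inferInstance : (Subgroup.center G).Normal).eq_bot_or_eq_top.resolve_right fun h =>
      hG ⟨⟨fun a b => (Subgroup.mem_center_iff.1 (h ▸ Subgroup.mem_top b : b ∈ Subgroup.center G) a)⟩⟩
  set N := Subgroup.normalizer ((S : Subgroup G) : Set G) with hN
  let f : N →* MulAut (S : Subgroup G) := (S : Subgroup G).normalizerMonoidHom
  have happ : ∀ (n : N) (s : (S : Subgroup G)),
      ((f n) s : G) = (n : G) * (s : G) * (n : G)⁻¹ := fun n s => rfl
  have hr : (Subgroup.centralizer ((S : Subgroup G) : Set G)).relIndex N = Nat.card f.range := by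
    rw [← Subgroup.index_ker, Subgroup.normalizerMonoidHom_ker]
    rfl
  have hnofix : ∀ x : (S : Subgroup G), (∀ n : N, f n x = x) → x = 1 := fun x hx =>
    Subtype.ext (CfsgLib.Transfer.abelian_sylow_centralPart_inf_commutator S hSc x.2
      (Subgroup.mem_centralizer_iff.2 fun n hn => by
        have h := congrArg Subtype.val (hx ⟨n, hn⟩)
        rw [happ, mul_inv_eq_iff_eq_mul] at h
        exact h)
      (hderived ▸ Subgroup.mem_top _))
  have hodd : ¬ 2 ∣ Nat.card f.range := by
    intro h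
    refine (S.subtype Subgroup.le_normalizer).not_dvd_index (h.trans ?_)
    rw [← Subgroup.index_ker]
    refine Subgroup.index_dvd_of_le fun x hx => MonoidHom.mem_ker.2 (MulEquiv.ext fun s =>
      Subtype.ext ?_)
    show (x : G) * (s : G) * (x : G)⁻¹ = s
    rw [mul_inv_eq_iff_eq_mul]
    exact congrArg Subtype.val (hSE.comm ⟨x, hx⟩ s)
  have hd := CfsgLib.Case.Eight.card_dvd_21 hSE f.range hodd
  have h1 : Nat.card f.range ≠ 1 := by
    intro h
    haveI : Nontrivial (S : Subgroup G) := Finite.one_lt_card_iff_nontrivial.1 (by omega)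
    obtain ⟨x, hx⟩ := exists_ne (1 : (S : Subgroup G))
    refine hx (hnofix x fun n => ?_)
    have : f n ∈ f.range := ⟨n, rfl⟩
    rw [Subgroup.card_eq_one.1 h, Subgroup.mem_bot] at this
    rw [this]
    rfl
  have h3 : Nat.card f.range ≠ 3 := by
    intro h
    obtain ⟨σ, hσ⟩ := exists_prime_orderOf_dvd_card' (G := f.range) 3 h.symm.dvd
    have hσ' : orderOf (σ : MulAut (S : Subgroup G)) = 3 := by rw [Subgroup.orderOf_coe, hσ]
    have h2 := CfsgLib.Case.Eight.fixed_three hSE (hσ' ▸ pow_orderOf_eq_one _) (fun he => by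
      rw [he, orderOf_one] at hσ'; norm_num at hσ')
    haveI : Nontrivial (CfsgLib.Case.Eight.fixedBy (σ : MulAut (S : Subgroup G))) :=
      Finite.one_lt_card_iff_nontrivial.1 (by omega)
    obtain ⟨x, hx⟩ := exists_ne (1 : CfsgLib.Case.Eight.fixedBy (σ : MulAut (S : Subgroup G)))
    refine hx (Subtype.ext (hnofix x fun n => ?_))
    obtain ⟨k, hk⟩ := Subgroup.mem_zpowers_iff.1
      (mem_zpowers_of_prime_card (g' := (⟨f n, n, rfl⟩ : f.range)) h fun he => by
        rw [he, orderOf_one] at hσ; norm_num at hσ : (⟨f n, n, rfl⟩ : f.range) ∈ Subgroup.zpowers σ)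
    have hle : Subgroup.zpowers (σ : MulAut (S : Subgroup G)) ≤
        MulAction.stabilizer (MulAut (S : Subgroup G)) (x : (S : Subgroup G)) :=
      Subgroup.zpowers_le.2 x.2
    exact hle (show f n ∈ _ from ⟨k, by simpa using congrArg Subtype.val hk⟩)
  have h21 : Nat.card f.range ≠ 21 := by
    intro h
    obtain ⟨σ, hσ⟩ := exists_prime_orderOf_dvd_card' (G := f.range) 7 (by rw [h]; norm_num)
    obtain ⟨τ, hτ⟩ := exists_prime_orderOf_dvd_card' (G := f.range) 3 (by rw [h]; norm_num)
    have hσ' : orderOf (σ : MulAut (S : Subgroup G)) = 7 := by rw [Subgroup.orderOf_coe, hσ]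
    have hτ' : orderOf (τ : MulAut (S : Subgroup G)) = 3 := by rw [Subgroup.orderOf_coe, hτ]
    obtain ⟨n₀, hn₀⟩ := τ.2
    obtain ⟨a, b, hb, hab⟩ := Nat.exists_eq_two_pow_mul_odd (orderOf_pos n₀).ne'
    set n := n₀ ^ 2 ^ a with hn
    have hn2 : ¬ 2 ∣ orderOf n := by
      rw [hn, orderOf_pow_of_dvd (by positivity) (hab ▸ dvd_mul_right _ _), hab,
        Nat.mul_div_cancel_left _ (by positivity)]
      exact hb.not_two_dvd_nat
    have hfn : f n = (τ : MulAut (S : Subgroup G)) ^ 2 ^ a := by rw [hn, map_pow, hn₀]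
    have hne : f n ≠ 1 := by
      rw [hfn]
      intro he
      have h' := (orderOf_dvd_of_pow_eq_one he)
      rw [hτ'] at h'
      have := Nat.Prime.dvd_of_dvd_pow Nat.prime_three h'
      norm_num at this
    have hc3 : f n ^ 3 = 1 := by
      rw [hfn, ← pow_mul, mul_comm, pow_mul, ← hτ', pow_orderOf_eq_one, one_pow]
    have h2 := CfsgLib.Case.Eight.fixed_three hSE hc3 hne
    haveI : Nontrivial (CfsgLib.Case.Eight.fixedBy (f n)) :=
      Finite.one_lt_card_iff_nontrivial.1 (by omega)
    obtain ⟨t, ht⟩ := exists_ne (1 : CfsgLib.Case.Eight.fixedBy (f n))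
    have ht' : ((t : (S : Subgroup G)) : G) ≠ 1 := fun he =>
      ht (Subtype.ext (Subtype.ext he))
    have hord : orderOf ((t : (S : Subgroup G)) : G) = 2 :=
      orderOf_eq_prime (hS.2 _ t.1.2) ht'
    obtain ⟨O, hO, ⟨D⟩⟩ := CfsgLib.Case.Eight.exists_local S hSE ht' t.1.2 (hC _ hord)
      (n := n) hn2 hne hc3 (congrArg Subtype.val t.2 :)
    obtain ⟨M, hM⟩ := CfsgLib.BlockReg.exists_isPModular Nat.prime_two
    refine CfsgLib.Case.Eight.false_of_data D hM (S : Subgroup G) hS8 (fun x hx hx1 => ?_)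
      inferInstance (fun hz => ht' (Subgroup.mem_bot.1 (hcenter ▸ hz)))
    obtain ⟨k, hk⟩ := CfsgLib.Case.Eight.exists_pow_eq hSE (hσ' ▸ pow_orderOf_eq_one _)
      (fun he => by rw [he, orderOf_one] at hσ'; norm_num at hσ')
      (x := (t : (S : Subgroup G))) (y := ⟨x, hx⟩) (fun he => ht' (congrArg Subtype.val he))
      (fun he => hx1 (congrArg Subtype.val he))
    obtain ⟨m, hm⟩ := σ.2
    refine isConj_iff.2 ⟨((m ^ k : N) : G), ?_⟩
    rw [← happ, map_pow, hm, hk]
  rw [hr]
  have := Nat.le_of_dvd (by norm_num) hd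
  interval_cases hq : Nat.card f.range <;> omega

end Cfsg.Agent.S3189
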