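import Cfsg.Statements.S3190
import Mathlib.GroupTheory.PGroup
import Cfsg.Agent.Lib.InvChar.Basic

set_option autoImplicit false
open Cfsg

namespace Cfsg.Agent.S3190

theorem result {X : Type*} [Group X] [Finite X]
    {p : ℕ} (hp : p.Prime) (hodd : Odd p) (P T R : Subgroup X) (hP : IsPGroup p ↥P) (hT : IsKleinFour ↥T)
    (hTP : T ≤ Subgroup.normalizer (P : Set X)) (hRP : R ≤ P) (hRn : (R.subgroupOf P).Normal)
    (hTR : T ≤ Subgroup.normalizer (R : Set X)) (hfac : R ⊔ (P ⊓ Subgroup.centralizer (T : Set X)) = P)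
    (hZ : T ≤ Subgroup.centralizer (((Subgroup.center ↥P).map P.subtype : Subgroup X) : Set X)) :
    T ≤ Subgroup.centralizer (((Subgroup.center ↥R).map R.subtype : Subgroup X) : Set X) := by
  have := Fact.mk hp
  have := hT
  intro t ht
  have ht2 : t * t = 1 := congrArg Subtype.val (IsKleinFour.mul_self (⟨t, ht⟩ : ↥T))
  have htinv : t⁻¹ = t := inv_eq_of_mul_eq_one_right ht2
  rw [Subgroup.mem_centralizer_iff]
  rintro z ⟨z', hz', rfl⟩
  change (z' : X) * t = t * z'
  by_contra hne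
  -- elements of Z(R) inverted by t
  let W : Subgroup ↥P :=
    { carrier := {a | (a : X) ∈ R ∧ (∀ r ∈ R, r * (a : X) = a * r) ∧ t * (a : X) * t⁻¹ = (a : X)⁻¹}
      one_mem' := ⟨R.one_mem, by simp, by simp⟩
      mul_mem' := by
        rintro a b ⟨ha, ca, ia⟩ ⟨hb, cb, ib⟩
        refine ⟨R.mul_mem ha hb, fun r hr => ?_, ?_⟩
        · push_cast
          rw [← mul_assoc, ca r hr, mul_assoc, cb r hr, mul_assoc]
        · push_cast
          calc t * ((a : X) * b) * t⁻¹ = (t * a * t⁻¹) * (t * b * t⁻¹) := by simp [mul_assoc]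
            _ = (a : X)⁻¹ * (b : X)⁻¹ := by rw [ia, ib]
            _ = ((b : X) * a)⁻¹ := (mul_inv_rev _ _).symm
            _ = ((a : X) * b)⁻¹ := by rw [ca _ hb]
      inv_mem' := by
        rintro a ⟨ha, ca, ia⟩
        refine ⟨R.inv_mem ha, fun r hr => ?_, ?_⟩
        · push_cast
          have h' : Commute r (a : X) := ca r hr
          exact h'.inv_right.eq
        · push_cast
          rw [inv_inv]
          have h' := congrArg Inv.inv ia
          simpa [mul_assoc] using h' }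
  have hzR : (z' : X) ∈ R := z'.2
  have hzc : ∀ r ∈ R, r * (z' : X) = z' * r := fun r hr =>
    congrArg Subtype.val (Subgroup.mem_center_iff.mp hz' ⟨r, hr⟩)
  have hconjR : ∀ x ∈ R, t * x * t⁻¹ ∈ R := fun x hx =>
    (Subgroup.mem_normalizer_iff.mp (hTR ht) x).mp hx
  have hwR : (z' : X)⁻¹ * (t * z' * t⁻¹) ∈ R := R.mul_mem (R.inv_mem hzR) (hconjR _ hzR)
  have hwc : ∀ r ∈ R, Commute r (t * (z' : X) * t⁻¹) := by
    intro r hr
    have h1 : t * r * t⁻¹ ∈ R := hconjR r hr
    have h2 := hzc _ h1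
    rw [htinv] at h2 ⊢
    show r * (t * z' * t) = t * z' * t * r
    calc r * (t * (z' : X) * t) = (t * t) * r * (t * z' * t) := by rw [ht2, one_mul]
      _ = t * ((t * r * t) * z') * t := by simp only [mul_assoc]
      _ = t * ((z' : X) * (t * r * t)) * t := by rw [h2]
      _ = t * z' * t * r * (t * t) := by simp only [mul_assoc]
      _ = t * z' * t * r := by rw [ht2, mul_one]
  let w : ↥P := ⟨(z' : X)⁻¹ * (t * z' * t⁻¹), hRP hwR⟩
  have hwW : w ∈ W := by
    refine ⟨hwR, fun r hr => ?_, ?_⟩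
    · exact ((show Commute r (z' : X) from hzc r hr).inv_right.mul_right (hwc r hr)).eq
    · show t * ((z' : X)⁻¹ * (t * z' * t⁻¹)) * t⁻¹ = ((z' : X)⁻¹ * (t * z' * t⁻¹))⁻¹
      rw [mul_inv_rev, inv_inv]
      rw [htinv]
      have e : (t * (z' : X) * t)⁻¹ = t * (z' : X)⁻¹ * t := by
        rw [mul_inv_rev, mul_inv_rev, htinv, ← mul_assoc]
      rw [e]
      calc t * ((z' : X)⁻¹ * (t * z' * t)) * t = t * (z' : X)⁻¹ * t * z' * (t * t) := by
            simp only [mul_assoc]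
        _ = t * (z' : X)⁻¹ * t * z' := by rw [ht2, mul_one]
  have hwne : (w : X) ≠ 1 := by
    intro h
    apply hne
    have h1 : t * (z' : X) * t⁻¹ = z' := by
      have h' : (z' : X)⁻¹ * (t * z' * t⁻¹) = 1 := h
      rw [inv_mul_eq_one] at h'
      exact h'.symm
    conv_lhs => rw [← h1]
    simp [mul_assoc]
  have hPW : P ≤ Subgroup.normalizer ((W.map P.subtype : Subgroup X) : Set X) := by
    have hcomm : R ≤ Subgroup.centralizer ((W.map P.subtype : Subgroup X) : Set X) := by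
      intro r hr
      rw [Subgroup.mem_centralizer_iff]
      rintro x ⟨a, ha, rfl⟩
      exact (ha.2.1 r hr).symm
    have key : ∀ g ∈ P ⊓ Subgroup.centralizer (T : Set X), ∀ a ∈ W.map P.subtype,
        g * a * g⁻¹ ∈ W.map P.subtype := by
      rintro g ⟨hg, hgT⟩ _ ⟨a, ⟨ha, ca, ia⟩, rfl⟩
      refine ⟨⟨g, hg⟩ * a * ⟨g, hg⟩⁻¹, ⟨?_, ?_, ?_⟩, rfl⟩
      · exact hRn.conj_mem ⟨(a : X), a.2⟩ ha ⟨g, hg⟩
      · intro r hr
        have hr' : g⁻¹ * r * g ∈ R := by
          have := hRn.conj_mem ⟨r, hRP hr⟩ hr (⟨g, hg⟩⁻¹)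
          simpa [Subgroup.mem_subgroupOf] using this
        have := ca _ hr'
        show r * (g * (a : X) * g⁻¹) = g * (a : X) * g⁻¹ * r
        calc r * (g * (a : X) * g⁻¹) = g * ((g⁻¹ * r * g) * a) * g⁻¹ := by simp [mul_assoc]
          _ = g * ((a : X) * (g⁻¹ * r * g)) * g⁻¹ := by rw [this]
          _ = g * (a : X) * g⁻¹ * r := by simp [mul_assoc]
      · have hc : t * g = g * t := Subgroup.mem_centralizer_iff.mp hgT t ht
        show t * (g * (a : X) * g⁻¹) * t⁻¹ = (g * (a : X) * g⁻¹)⁻¹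
        calc t * (g * (a : X) * g⁻¹) * t⁻¹ = (t * g) * a * (t * g)⁻¹ := by simp [mul_assoc]
          _ = (g * t) * a * (g * t)⁻¹ := by rw [hc]
          _ = g * (t * a * t⁻¹) * g⁻¹ := by simp [mul_assoc]
          _ = g * (a : X)⁻¹ * g⁻¹ := by rw [ia]
          _ = (g * (a : X) * g⁻¹)⁻¹ := by simp [mul_assoc]
    refine hfac.symm.le.trans (sup_le ?_ ?_)
    · exact hcomm.trans (Subgroup.centralizer_le_normalizer _)
    · intro g hg
      rw [Subgroup.mem_normalizer_iff]
      intro a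
      refine ⟨key g hg a, fun h => ?_⟩
      have := key g⁻¹ (Subgroup.inv_mem _ hg) _ h
      simpa [mul_assoc] using this
  have hWn : W.Normal := by
    refine ⟨fun a ha g => ?_⟩
    have := (Subgroup.mem_normalizer_iff.mp (hPW g.2) (a : X)).mp ⟨a, ha, rfl⟩
    obtain ⟨b, hb, hbe⟩ := this
    have : b = g * a * g⁻¹ := Subtype.ext hbe
    rwa [← this]
  have hWbot : W ≠ ⊥ := by
    intro h
    exact hwne (congrArg Subtype.val (Subgroup.mem_bot.mp (h ▸ hwW)))
  -- W meets the centre of P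
  obtain ⟨v, hvW, hv1, hvZ⟩ := CfsgLib.InvChar.exists_ne_one_mem_center_of_normal hP W hWbot
  have hv : t * (v : X) * t⁻¹ = v := by
    have hc : (v : X) * t = t * v := Subgroup.mem_centralizer_iff.mp (hZ ht) _ ⟨v, hvZ, rfl⟩
    rw [← hc, mul_assoc, mul_inv_cancel, mul_one]
  have hv2 : (v : ↥P) ^ 2 = 1 := by
    apply Subtype.ext
    have := hvW.2.2
    rw [hv] at this
    rw [pow_two]
    push_cast
    exact mul_eq_one_iff_eq_inv.mpr this
  apply hv1
  have hcop : Nat.Coprime 2 (orderOf v) := by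
    obtain ⟨k, hk⟩ := IsPGroup.iff_orderOf.mp hP v
    rw [hk]
    exact Nat.Coprime.pow_right k (Nat.coprime_two_left.mpr hodd)
  have h2 : orderOf v ∣ 2 := orderOf_dvd_of_pow_eq_one hv2
  exact orderOf_eq_one_iff.mp (Nat.Coprime.eq_one_of_dvd hcop.symm h2)

end Cfsg.Agent.S3190
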