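import Cfsg.Statements.S5748
import Cfsg.Agent.S1230
import Cfsg.Agent.Lib.CA.EvenOrder
import Cfsg.Agent.Lib.CA.Suzuki
import Cfsg.Agent.Lib.SEmb.ProjLineRel
import Cfsg.Agent.Lib.Invol.BrauerFowler
import Mathlib.GroupTheory.Transfer
import Mathlib.GroupTheory.SpecificGroups.Cyclic
import Mathlib.Algebra.CharP.Two
import Mathlib.Data.Matrix.Basic

set_option autoImplicit false
open Cfsg

namespace Cfsg.Agent.S5748

open CfsgLib

theorem commute_of_commute_nonscalar {F : Type*} [Field F] {a b c : Matrix (Fin 2) (Fin 2) F}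
    (hb : b 0 1 ≠ 0 ∨ b 1 0 ≠ 0 ∨ b 0 0 ≠ b 1 1) (hab : a * b = b * a) (hbc : b * c = c * b) :
    a * c = c * a := by
  have e : ∀ {m : Matrix (Fin 2) (Fin 2) F}, m * b = b * m →
      m 0 1 * b 1 0 = b 0 1 * m 1 0 ∧
      m 0 1 * (b 0 0 - b 1 1) = b 0 1 * (m 0 0 - m 1 1) ∧
      m 1 0 * (b 0 0 - b 1 1) = b 1 0 * (m 0 0 - m 1 1) := by
    intro m h
    have h00 := congrFun (congrFun h 0) 0
    have h01 := congrFun (congrFun h 0) 1
    have h10 := congrFun (congrFun h 1) 0
    simp only [Matrix.mul_apply, Fin.sum_univ_two] at h00 h01 h10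
    exact ⟨by linear_combination h00, by linear_combination -h01, by linear_combination h10⟩
  obtain ⟨a1, a2, a3⟩ := e hab
  obtain ⟨c1, c2, c3⟩ := e hbc.symm
  have k : a 0 1 * c 1 0 = c 0 1 * a 1 0 ∧
      a 0 1 * (c 0 0 - c 1 1) = c 0 1 * (a 0 0 - a 1 1) ∧
      a 1 0 * (c 0 0 - c 1 1) = c 1 0 * (a 0 0 - a 1 1) := by
    rcases hb with h | h | h
    · refine ⟨mul_left_cancel₀ h ?_, mul_left_cancel₀ h ?_, mul_left_cancel₀ h ?_⟩
      · linear_combination c 0 1 * a1 - a 0 1 * c1
      · linear_combination c 0 1 * a2 - a 0 1 * c2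
      · refine mul_left_cancel₀ h ?_
        linear_combination (-b 0 1 * (c 0 0 - c 1 1)) * a1 - a 0 1 * b 1 0 * c2 +
          b 0 1 * (a 0 0 - a 1 1) * c1 + c 0 1 * b 1 0 * a2
    · refine ⟨mul_left_cancel₀ h ?_, mul_left_cancel₀ h ?_, mul_left_cancel₀ h ?_⟩
      · linear_combination c 1 0 * a1 - a 1 0 * c1
      · refine mul_left_cancel₀ h ?_
        linear_combination b 1 0 * (c 0 0 - c 1 1) * a1 - a 1 0 * b 0 1 * c3 -
          b 1 0 * (a 0 0 - a 1 1) * c1 + c 1 0 * b 0 1 * a3
      · linear_combination c 1 0 * a3 - a 1 0 * c3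
    · have h' : b 0 0 - b 1 1 ≠ 0 := sub_ne_zero.mpr h
      refine ⟨mul_left_cancel₀ h' (mul_left_cancel₀ h' ?_), mul_left_cancel₀ h' ?_,
        mul_left_cancel₀ h' ?_⟩
      · linear_combination c 1 0 * (b 0 0 - b 1 1) * a2 + b 0 1 * (a 0 0 - a 1 1) * c3 -
          a 1 0 * (b 0 0 - b 1 1) * c2 - b 0 1 * (c 0 0 - c 1 1) * a3
      · linear_combination (c 0 0 - c 1 1) * a2 - (a 0 0 - a 1 1) * c2
      · linear_combination (c 0 0 - c 1 1) * a3 - (a 0 0 - a 1 1) * c3
  obtain ⟨k1, k2, k3⟩ := k
  ext i j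
  fin_cases i <;> fin_cases j <;> simp [Matrix.mul_apply, Fin.sum_univ_two]
  · linear_combination k1
  · linear_combination -k2
  · linear_combination k3
  · linear_combination -k1

theorem commute_trans_SL2 {F : Type*} [Field F] (h2 : ∀ x : F, x + x = 0)
    {a b c : Matrix.SpecialLinearGroup (Fin 2) F} (hb : b ≠ 1) (hab : Commute a b)
    (hbc : Commute b c) : Commute a c := by
  refine Subtype.ext (commute_of_commute_nonscalar ?_ (congrArg Subtype.val hab)
    (congrArg Subtype.val hbc))
  by_contra hs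
  push Not at hs
  refine hb (Subgroup.mem_bot.mp ((SEmb.ProjLine.center_eq_bot h2) ▸
    (Subgroup.mem_center_iff.mpr fun g => Subtype.ext ?_)))
  show (g : Matrix (Fin 2) (Fin 2) F) * (b : Matrix (Fin 2) (Fin 2) F) =
    (b : Matrix (Fin 2) (Fin 2) F) * (g : Matrix (Fin 2) (Fin 2) F)
  ext i j
  fin_cases i <;> fin_cases j <;> simp [Matrix.mul_apply, Fin.sum_univ_two, hs.1, hs.2.1, hs.2.2] <;>
    ring

/-- A finite non-abelian simple group in which commuting is a transitive relation on the non-identity elements (equivalently, every non-identity element has abelian centraliser) is isomorphic to PSL₂ over a field with 2^f elements for some f ≥ 2; conversely these groups have that property. -/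
theorem result {G : Type*} [Group G] [Finite G] [IsSimpleGroup G] (hG : ¬ IsMulCommutative G) :
    (∀ a b c : G, a ≠ 1 → b ≠ 1 → c ≠ 1 → Commute a b → Commute b c → Commute a c) ↔
    ∃ (F : Type) (_ : Field F) (_ : Fintype F) (f : ℕ), 2 ≤ f ∧ Fintype.card F = 2 ^ f ∧ Nonempty (G ≃* Matrix.ProjectiveSpecialLinearGroup (Fin 2) F) := by
  classical
  constructor
  · intro hCT
    cases nonempty_fintype G
    have hCA : ∀ x : G, x ≠ 1 → ∀ a ∈ Subgroup.centralizer ({x} : Set G),
        ∀ b ∈ Subgroup.centralizer ({x} : Set G), a * b = b * a := by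
      intro x hx a ha b hb
      rcases eq_or_ne a 1 with rfl | ha1
      · simp
      rcases eq_or_ne b 1 with rfl | hb1
      · simp
      exact hCT a x b ha1 hx hb1 (Subgroup.mem_centralizer_singleton_iff.mp ha)
        (Subgroup.mem_centralizer_singleton_iff.mp hb).symm
    have heven : Even (Nat.card G) := by
      by_contra h
      exact hG ⟨⟨IsSimpleGroup.comm_iff_isSolvable.mpr
        (CA.isSolvable_of_ca (Nat.not_even_iff_odd.mp h) hCA)⟩⟩
    obtain ⟨t, ht⟩ := Invol.exists_involution_of_even (G := G) heven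
    have hconj : ∀ u v : G, orderOf u = 2 → orderOf v = 2 → IsConj u v := fun u v hu hv =>
      CA.Even.isConj_of_involutions hG hCA hu hv
    have key : ∀ u : G, orderOf u = 2 →
        (∀ c ∈ Subgroup.centralizer ({u} : Set G), c ^ 2 = 1) ∧
        3 ≤ Nat.card (Subgroup.centralizer ({u} : Set G)) := by
      intro u hu
      set A := Subgroup.centralizer ({u} : Set G) with hAdef
      have hA : CA.SelfCent A := CA.selfCent_centralizer hCA (Invol.ne_one_of_invol hu)
      have huA : u ∈ A := Subgroup.mem_centralizer_singleton_iff.mpr rfl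
      have huT : (⟨u, huA⟩ : A) ∈ CA.Even.invs A := CA.Even.mem_invs_iff_orderOf.mpr hu
      have hodd := CA.Even.odd_card_invs hA huT
      have h2 : 2 ≤ (CA.Even.invs A).card := by
        by_contra h
        have h1 : (CA.Even.invs A).card = 1 := by
          obtain ⟨k, hk⟩ := hodd
          omega
        have hN := CA.Even.card_normalizer hA hconj huT
        rw [h1, mul_one] at hN
        have hNA : A = Subgroup.normalizer (A : Set G) :=
          Subgroup.eq_of_le_of_card_ge Subgroup.le_normalizer hN.le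
        have hpg : IsPGroup 2 (Subgroup.zpowers u) :=
          IsPGroup.of_card (n := 1) (by rw [Nat.card_zpowers, hu, pow_one])
        obtain ⟨S, hS⟩ := hpg.exists_le_sylow
        have huS : u ∈ S := hS (Subgroup.mem_zpowers u)
        have hSnt : Nontrivial S := Subgroup.nontrivial_iff_exists_ne_one _ |>.mpr
          ⟨u, huS, Invol.ne_one_of_invol hu⟩
        obtain ⟨⟨z, hz⟩, hz1⟩ := (@Subgroup.nontrivial_iff_exists_ne_one _ _ _).mp S.2.center_nontrivial
        have hzc : ∀ s ∈ S, s * (z : G) = (z : G) * s := fun s hs =>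
          congrArg Subtype.val (Subgroup.mem_center_iff.mp hz1.1 ⟨s, hs⟩)
        have hzne : (z : G) ≠ 1 := fun h => hz1.2 (Subtype.ext h)
        have hzA : (z : G) ∈ A := Subgroup.mem_centralizer_singleton_iff.mpr (hzc u huS).symm
        have hSA : (S : Subgroup G) ≤ A := fun s hs => hA.mem_of_commute hzA hzne (hzc s hs)
        have hNS : Subgroup.normalizer ((S : Subgroup G) : Set G) ≤
            Subgroup.centralizer ((S : Subgroup G) : Set G) := by
          intro g hg
          have hgA : g ∈ A := hNA.ge (hA.mem_normalizer_of_conj_mem huA (Invol.ne_one_of_invol hu)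
            (hSA ((Subgroup.mem_normalizer_iff.mp hg u).mp huS)))
          exact Subgroup.mem_centralizer_iff.mpr fun s hs => hA.comm (hSA hs) hgA
        have hc := MonoidHom.ker_transferSylow_isComplement' S hNS
        rcases Subgroup.Normal.eq_bot_or_eq_top
          (inferInstance : (MonoidHom.transferSylow S hNS).ker.Normal) with hk | hk
        · rw [hk, Subgroup.isComplement'_bot_left] at hc
          exact hG ⟨⟨fun x y => hA.comm (hSA (hc ▸ Subgroup.mem_top x)) (hSA (hc ▸ Subgroup.mem_top y))⟩⟩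
        · rw [hk, Subgroup.isComplement'_top_left] at hc
          exact Invol.ne_one_of_invol hu (Subgroup.mem_bot.mp (hc ▸ huS))
      have hcent : Subgroup.centralizer ({((⟨u, huA⟩ : A) : G)} : Set G) = A := hAdef.symm
      have ha := CA.Even.card_eq_card_invs_succ hG hconj hA huT hcent h2
      refine ⟨fun c hc => ?_, by omega⟩
      have htop : CA.Even.omega hA = ⊤ :=
        Subgroup.eq_top_of_card_eq _ (by rw [CA.Even.card_omega hA, ha])
      have hmem : (⟨c, hc⟩ : A) ∈ CA.Even.omega hA := htop ▸ Subgroup.mem_top _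
      rw [pow_two]
      exact congrArg Subtype.val hmem
    obtain ⟨T⟩ : Nonempty (Sylow 2 G) := inferInstance
    obtain ⟨hexp, hcard3⟩ := key t ht
    have hAp : IsPGroup 2 (Subgroup.centralizer ({t} : Set G)) := fun g =>
      ⟨1, Subtype.ext (by simpa using hexp g g.2)⟩
    obtain ⟨S, hS⟩ := hAp.exists_le_sylow
    have hST : Nat.card S = Nat.card T := Nat.card_congr (Sylow.equiv S T).toEquiv
    have hT3 : 3 ≤ Nat.card T := hST ▸ hcard3.trans (Subgroup.card_le_of_le hS)
    have hnc : ¬ IsCyclic (T : Subgroup G) := by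
      intro hcyc
      have : IsCyclic (S : Subgroup G) := isCyclic_of_surjective (Sylow.equiv T S) (MulEquiv.surjective _)
      have : IsCyclic (Subgroup.centralizer ({t} : Set G)) := isCyclic_of_injective (Subgroup.inclusion hS) (Subgroup.inclusion_injective hS)
      have h := Monoid.exponent_dvd_of_forall_pow_eq_one (G := Subgroup.centralizer ({t} : Set G))
        (n := 2) fun g => Subtype.ext (by simpa using hexp g g.2)
      rw [IsCyclic.exponent_eq_card] at h
      have := Nat.le_of_dvd (by norm_num) h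
      omega
    have hnn : ¬ (T : Subgroup G).Normal := by
      intro hn
      rcases Subgroup.Normal.eq_bot_or_eq_top hn with h | h
      · have h1 : Nat.card (T : Subgroup G) = 1 := by rw [h, Subgroup.card_bot]
        have : (3 : ℕ) ≤ 1 := hT3.trans_eq h1
        omega
      · apply hG
        have hp : IsPGroup 2 G := by
          have h' := T.2
          rw [h] at h'
          exact h'.of_equiv Subgroup.topEquiv
        have := hp.isNilpotent
        exact ⟨⟨IsSimpleGroup.comm_iff_isSolvable.mpr inferInstance⟩⟩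
    obtain ⟨F, instF, instFin, hcard, he⟩ := Cfsg.Agent.S1230.result T hnc hnn fun u hu =>
      ⟨⟨⟨fun a b => Subtype.ext (hCA u (Invol.ne_one_of_invol hu) a a.2 b b.2)⟩⟩, (key u hu).1⟩
    obtain ⟨f, hf⟩ := IsPGroup.iff_card.mp T.2
    refine ⟨F, instF, instFin, f, ?_, hcard.trans hf, he⟩
    by_contra hlt
    have : 2 ^ f ≤ 2 := (Nat.pow_le_pow_right (by norm_num) (by omega : f ≤ 1)).trans_eq (pow_one 2)
    rw [← hf] at this
    exact absurd (hT3.trans this) (by norm_num)
  · rintro ⟨F, instF, instFin, f, hf, hcard, ⟨e⟩⟩ a b c _ hb _ hab hbc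
    have hp : CharP F 2 := by
      have : Fact (Nat.Prime 2) := ⟨Nat.prime_two⟩
      obtain ⟨p, hp⟩ := CharP.exists F
      obtain ⟨k, hpp, hk⟩ := FiniteField.card F p
      rw [hk] at hcard
      have : p = 2 := (Nat.prime_dvd_prime_iff_eq hpp Nat.prime_two).mp
        (hpp.dvd_of_dvd_pow (hcard ▸ dvd_pow_self p k.pos.ne'))
      exact this ▸ hp
    have h2 : ∀ x : F, x + x = 0 := fun x => CharTwo.add_self_eq_zero x
    let ψ : Matrix.SpecialLinearGroup (Fin 2) F ≃* Matrix.ProjectiveSpecialLinearGroup (Fin 2) F :=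
      MulEquiv.ofBijective (QuotientGroup.mk' (Subgroup.center (Matrix.SpecialLinearGroup (Fin 2) F)))
        ⟨by rw [← MonoidHom.ker_eq_bot_iff, QuotientGroup.ker_mk', SEmb.ProjLine.center_eq_bot h2],
          QuotientGroup.mk'_surjective _⟩
    let φ : G ≃* Matrix.SpecialLinearGroup (Fin 2) F := e.trans ψ.symm
    refine Commute.of_map φ.injective (commute_trans_SL2 h2 ?_ (hab.map φ) (hbc.map φ))
    exact fun h => hb (φ.injective (h.trans (map_one φ).symm))

end Cfsg.Agent.S5748
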