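import Cfsg.Statements.S3192
import Cfsg.Agent.Lib.ConjRankThree.Antichain
import Cfsg.Agent.Lib.ConjRankThree.Chain
import Cfsg.Agent.Lib.PSLTwoClasses.Basic
import Cfsg.Agent.S5748
import Cfsg.Agent.Lib.Linear.Simple

set_option autoImplicit false

open Cfsg

namespace Cfsg.Agent.S3192

open CfsgLib CfsgLib.ConjRankThree

theorem three_of_ncard {G : Type*} [Group G] [Finite G] [IsSimpleGroup G] (hne : ¬ IsMulCommutative G)
    (h : Set.ncard {m : ℕ | ∃ x : G, x ∉ Subgroup.center G ∧
      m = (Subgroup.centralizer ({x} : Set G)).index} = 3) :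
    ∀ x y : G, x ≠ 1 → y ≠ 1 → cc x ∣ cc y → cc x = cc y := by
  classical
  intro x y hx hy hd
  by_contra hne'
  set M := {d : ℕ | ∃ z : G, z ≠ 1 ∧ cc z = d} with hM
  have hfin : M.Finite :=
    (Set.finite_range (fun z : G => cc z)).subset fun d ⟨z, _, hz⟩ => ⟨z, hz⟩
  have hMcard : M.ncard = 3 := by
    rw [← h, show M = (fun i => Nat.card G / i) '' {m : ℕ | ∃ x : G, x ∉ Subgroup.center G ∧
        m = (Subgroup.centralizer ({x} : Set G)).index} from ?_]
    · refine Set.InjOn.ncard_image ?_
      rintro i ⟨u, -, rfl⟩ j ⟨v, -, rfl⟩ hij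
      have e1 : ∀ u : G, Nat.card G / (Cent u).index = cc u := fun u => by
        rw [← cc_mul_index u, Nat.mul_div_cancel _ (Nat.pos_of_ne_zero Subgroup.index_ne_zero_of_finite)]
      have e2 : cc u = cc v := by rw [← e1, ← e1]; exact hij
      refine Nat.eq_of_mul_eq_mul_left (n := cc u) Nat.card_pos ?_
      show cc u * (Cent u).index = cc u * (Cent v).index
      rw [cc_mul_index, e2, cc_mul_index]
    · have e1 : ∀ u : G, Nat.card G / (Cent u).index = cc u := fun u => by
        rw [← cc_mul_index u, Nat.mul_div_cancel _ (Nat.pos_of_ne_zero Subgroup.index_ne_zero_of_finite)]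
      ext d
      simp only [hM, Set.mem_ofPred_eq, Set.mem_image, center_eq_bot hne, Subgroup.mem_bot]
      constructor
      · rintro ⟨z, hz, rfl⟩
        exact ⟨_, ⟨z, hz, rfl⟩, e1 z⟩
      · rintro ⟨_, ⟨z, hz, rfl⟩, rfl⟩
        exact ⟨z, hz, (e1 z).symm⟩
  obtain ⟨p, q, r, hpq, hpr, hqr, hMeq⟩ := Set.ncard_eq_three.1 hMcard
  have hxM : cc x ∈ M := ⟨x, hx, rfl⟩
  have hyM : cc y ∈ M := ⟨y, hy, rfl⟩
  obtain ⟨c, hcM, hcx, hcy⟩ : ∃ c ∈ M, c ≠ cc x ∧ c ≠ cc y := by
    rw [hMeq] at hxM hyM ⊢
    simp only [Set.mem_insert_iff, Set.mem_singleton_iff] at hxM hyM ⊢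
    by_contra hno
    push Not at hno
    have h1 := hno p (.inl rfl)
    have h2 := hno q (.inr (.inl rfl))
    have h3 := hno r (.inr (.inr rfl))
    omega
  refine ChainData.false_of hne (a := cc x) (b := cc y) (c := c)
    ⟨fun z hz => ?_, ⟨x, hx, rfl⟩, ⟨y, hy, rfl⟩, hcM, hd, hne', hcx.symm, hcy.symm⟩
  have hzM : cc z ∈ M := ⟨z, hz, rfl⟩
  rw [hMeq] at hxM hyM hcM hzM
  simp only [Set.mem_insert_iff, Set.mem_singleton_iff] at hxM hyM hcM hzM
  omega

/-- Simple groups of conjugate type rank three. For a finite group G consider the set of indices of the centralizers of the non-central elements of G. Then G is a non-abelian simple group for which this set has exactly three members if and only if G is isomorphic to PSL(2, 2^m) for some m ≥ 2. -/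
theorem result (G : Type*) [Group G] [Finite G] :
    (IsSimpleGroup G ∧ ¬ IsMulCommutative G ∧
        Set.ncard {m : ℕ | ∃ x : G, x ∉ Subgroup.center G ∧ m = (Subgroup.centralizer ({x} : Set G)).index} = 3) ↔
      ∃ (m : ℕ) (F : Type) (_ : Field F) (_ : Fintype F), 2 ≤ m ∧ Fintype.card F = 2 ^ m ∧
        Nonempty (G ≃* Matrix.ProjectiveSpecialLinearGroup (Fin 2) F) := by
  constructor
  · rintro ⟨hS, hne, h⟩
    have hanti := three_of_ncard hne h
    obtain ⟨F, iF, iFF, f, hf, hcard, he⟩ := (Cfsg.Agent.S5748.result hne).1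
      (fun a b c _ hb _ hab hbc =>
        commute_cent_of_antichain hanti hb a (mem_cent.2 hab) c (mem_cent.2 hbc.symm))
    exact ⟨f, F, iF, iFF, hf, hcard, he⟩
  · rintro ⟨m, F, iF, iFF, hm, hcard, ⟨e⟩⟩
    have h4 : 4 ≤ Fintype.card F := by
      rw [hcard]
      exact (by norm_num : 4 = 2 ^ 2).trans_le (Nat.pow_le_pow_right (by norm_num) hm)
    have : IsSimpleGroup (Matrix.ProjectiveSpecialLinearGroup (Fin 2) F) := by
      exact CfsgLib.Linear.isSimpleGroup_PSL_fin 2 le_rfl fun _ => by rwa [Nat.card_eq_fintype_card]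
    have hS : IsSimpleGroup G := e.isSimpleGroup
    have h2 : 2 ∣ Fintype.card F := hcard ▸ dvd_pow_self 2 (by omega)
    have hrange := PSLTwoClasses.range_even (F := F) h2 h4
    set q := Fintype.card F with hq
    have hidx : ∀ x : G, (Subgroup.centralizer ({x} : Set G)).index =
        (Subgroup.centralizer ({e x} : Set (Matrix.ProjectiveSpecialLinearGroup (Fin 2) F))).index := by
      intro x
      rw [show Subgroup.centralizer ({e x} : Set (Matrix.ProjectiveSpecialLinearGroup (Fin 2) F)) =
        (Subgroup.centralizer ({x} : Set G)).map e.toMonoidHom from ?_,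
        Subgroup.index_map_of_bijective e.bijective]
      ext y
      rw [Subgroup.mem_map_equiv, Subgroup.mem_centralizer_singleton_iff,
        Subgroup.mem_centralizer_singleton_iff]
      constructor
      · intro h; exact e.injective (by rw [map_mul, map_mul, e.apply_symm_apply]; exact h)
      · intro h; simpa using congrArg e h
    have hset : {i : ℕ | ∃ x : G, x ∉ Subgroup.center G ∧
        i = (Subgroup.centralizer ({x} : Set G)).index} = {q * (q - 1), q ^ 2 - 1, q * (q + 1)} := by
      ext i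
      simp only [Set.mem_ofPred_eq, Set.mem_insert_iff, Set.mem_singleton_iff]
      have hcen : ∀ x : G, x ∉ Subgroup.center G ↔ (Subgroup.centralizer ({x} : Set G)).index ≠ 1 := by
        intro x
        rw [not_iff_not, Subgroup.index_eq_one, Subgroup.eq_top_iff', Subgroup.mem_center_iff]
        exact forall_congr' fun g => Subgroup.mem_centralizer_singleton_iff.symm
      constructor
      · rintro ⟨x, hx, rfl⟩
        have h1 : (Subgroup.centralizer ({x} : Set G)).index ∈
            ({1, q * (q - 1), q ^ 2 - 1, q * (q + 1)} : Set ℕ) := by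
          rw [← hrange, hidx]; exact ⟨e x, rfl⟩
        simp only [Set.mem_insert_iff, Set.mem_singleton_iff] at h1
        exact h1.resolve_left ((hcen x).1 hx)
      · intro hi
        obtain ⟨g, hg⟩ : i ∈ Set.range (fun g : Matrix.ProjectiveSpecialLinearGroup (Fin 2) F =>
            (Subgroup.centralizer ({g} : Set (Matrix.ProjectiveSpecialLinearGroup (Fin 2) F))).index) := by
          rw [hrange]
          exact Set.mem_insert_of_mem _ (by simpa using hi)
        refine ⟨e.symm g, (hcen _).2 ?_, by rw [hidx, e.apply_symm_apply, ← hg]⟩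
        rw [hidx, e.apply_symm_apply]
        rcases hi with h | h | h <;> (rw [show (Subgroup.centralizer ({g} : Set _)).index = i from hg, h])
        · exact ne_of_gt (by nlinarith [Nat.sub_add_cancel (show 1 ≤ q by omega)])
        · have : 4 * 4 ≤ q ^ 2 := by nlinarith
          omega
        · nlinarith
    have hq1 : q * (q - 1) < q ^ 2 - 1 := by
      obtain ⟨k, hk⟩ : ∃ k, q = k + 1 := ⟨q - 1, by omega⟩
      rw [hk, show (k + 1) ^ 2 = (k + 1) * k + k + 1 by ring, Nat.add_sub_cancel, Nat.add_sub_cancel]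
      omega
    have hq2 : q ^ 2 - 1 < q * (q + 1) := by
      rw [show q * (q + 1) = q ^ 2 + q by ring]; omega
    refine ⟨hS, fun hc => ?_, ?_⟩
    · obtain ⟨g, hg⟩ : q * (q + 1) ∈ {i : ℕ | ∃ x : G, x ∉ Subgroup.center G ∧
          i = (Subgroup.centralizer ({x} : Set G)).index} := by rw [hset]; simp
      exact hg.1 (Subgroup.mem_center_iff.2 fun y => hc.is_comm.comm y g)
    · rw [hset, Set.ncard_eq_three]
      exact ⟨_, _, _, hq1.ne, (hq1.trans hq2).ne, hq2.ne, rfl⟩

end Cfsg.Agent.S3192
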