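import Cfsg.Statements.S3195
import Cfsg.Agent.Lib.InvChar.Basic
import Cfsg.Agent.Lib.Invol.BaerSuzuki
import Cfsg.Agent.Lib.Invol.Dihedral

set_option autoImplicit false
open Cfsg

namespace Cfsg.Agent.S3195

variable {G : Type*} [Group G] [Finite G]

theorem eq_one_of_sq_of_odd {w : G} (hw : Odd (orderOf w)) (h : w * w = 1) : w = 1 := by
  have hd : orderOf w ∣ 2 := orderOf_dvd_of_pow_eq_one (by rw [pow_two, h])
  exact orderOf_eq_one_iff.mp (Nat.Coprime.eq_one_of_dvd (Nat.coprime_two_right.mpr hw) hd)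

theorem exists_sqrt_of_odd {w : G} (hw : Odd (orderOf w)) : ∃ s ∈ Subgroup.zpowers w, s * s = w := by
  obtain ⟨k, hk⟩ := hw
  refine ⟨w ^ (k + 1), Subgroup.pow_mem _ (Subgroup.mem_zpowers w) _, ?_⟩
  rw [← pow_add, show k + 1 + (k + 1) = orderOf w + 1 by omega, pow_succ, pow_orderOf_eq_one, one_mul]

theorem isPGroup_pair {a b : G} (ha : a * a = 1) (hb : b * b = 1) {k : ℕ}
    (hab : (a * b) ^ (2 ^ k) = 1) : IsPGroup 2 ↥(Subgroup.closure ({a, b} : Set G)) := by
  rintro ⟨d, hd⟩
  obtain ⟨i, h | h⟩ := (CfsgLib.Invol.mem_closure_pair_iff ha hb).mp hd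
  · refine ⟨k, Subtype.ext ?_⟩
    show d ^ (2 ^ k) = 1
    rw [h, ← zpow_natCast, ← zpow_mul, mul_comm, zpow_mul, zpow_natCast, hab, one_zpow]
  · refine ⟨1, Subtype.ext ?_⟩
    show d ^ (2 ^ 1) = 1
    have hinv : a * (a * b) * a⁻¹ = (a * b)⁻¹ := by
      rw [mul_inv_rev, inv_eq_of_mul_eq_one_right ha, inv_eq_of_mul_eq_one_right hb]
      simp [← mul_assoc, ha]
    rw [h, pow_one, pow_two, mul_assoc, ← mul_assoc ((a * b) ^ i) a,
      CfsgLib.Invol.zpow_mul_of_inverts hinv i]
    simp [← mul_assoc, ha]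

theorem result {G : Type*} [Group G] [Finite G]
    (A : Subgroup G) (hA : IsKleinFour ↥A)
    (h : ∀ a ∈ A, a ≠ 1 → ∀ g : G, A ⊓ Subgroup.centralizer ({g * a * g⁻¹} : Set G) ≠ ⊥) :
    A ⊓ Cfsg.pCore 2 G ≠ ⊥ := by
  intro hbot
  have := hA
  have hsq : ∀ a ∈ A, a * a = 1 := fun a ha => congrArg Subtype.val (IsKleinFour.mul_self (⟨a, ha⟩ : ↥A))
  have hcom : ∀ a ∈ A, ∀ b ∈ A, Commute a b := fun a ha b hb => by
    have h1 : a * b * (a * b) = 1 := hsq _ (A.mul_mem ha hb)
    have h2 := inv_eq_of_mul_eq_one_right h1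
    rw [mul_inv_rev, inv_eq_of_mul_eq_one_right (hsq a ha), inv_eq_of_mul_eq_one_right (hsq b hb)] at h2
    exact h2.symm
  have hwit : ∀ a ∈ A, a ≠ 1 → ∃ a' ∈ A, a' ≠ 1 ∧ a' ≠ a ∧
      ∃ w : G, w ≠ 1 ∧ Odd (orderOf w) ∧ a * w * a⁻¹ = w⁻¹ ∧ Commute a' w := by
    intro a ha ha1
    have haO : a ∉ Cfsg.pCore 2 G := fun hc => ha1 (Subgroup.mem_bot.mp (hbot ▸ ⟨ha, hc⟩))
    have hp : IsPGroup 2 ↥(Subgroup.zpowers a) := fun x => ⟨1, Subtype.ext (by
      obtain ⟨i, hi⟩ := Subgroup.mem_zpowers_iff.mp x.2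
      show (x : G) ^ (2 ^ 1) = 1
      rw [← hi, pow_one, pow_two, ← (Commute.refl a).mul_zpow, hsq a ha, one_zpow])⟩
    have hex : ∃ g : G, ¬ IsPGroup 2 ↥(Subgroup.zpowers a ⊔ (Subgroup.zpowers a).map (MulAut.conj g).toMonoidHom) := by
      by_contra hcon
      push Not at hcon
      obtain ⟨N, hN, hNp, hle⟩ := CfsgLib.Invol.baer_suzuki _ hcon
      exact haO ((le_sSup ⟨hN, hNp⟩ : N ≤ Cfsg.pCore 2 G) (hle (Subgroup.mem_zpowers a)))
    obtain ⟨g, hg⟩ := hex
    set b := g * a * g⁻¹ with hb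
    have hb2 : b * b = 1 := by rw [hb, conj_mul, hsq a ha, mul_one, mul_inv_cancel]
    have hnp : ∀ k : ℕ, (a * b) ^ (2 ^ k) ≠ 1 := by
      intro k hk
      apply hg
      refine (isPGroup_pair (hsq a ha) hb2 hk).to_le (sup_le ?_ ?_)
      · exact Subgroup.zpowers_le.mpr (Subgroup.subset_closure (Or.inl rfl))
      · rw [MonoidHom.map_zpowers]
        exact Subgroup.zpowers_le.mpr (Subgroup.subset_closure (Or.inr rfl))
    obtain ⟨k, m, hm, hkm⟩ := Nat.exists_eq_two_pow_mul_odd (orderOf_pos (a * b)).ne'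
    obtain ⟨⟨a', ha', ha'C⟩, hne⟩ := Subgroup.ne_bot_iff_exists_ne_one.mp (h a ha ha1 g)
    have hc : Commute a' b := Subgroup.mem_centralizer_singleton_iff.mp ha'C
    refine ⟨a', ha', fun h1 => hne (Subtype.ext h1), ?_, (a * b) ^ (2 ^ k), hnp k, ?_, ?_, ?_⟩
    · rintro rfl
      apply hnp 1
      rw [pow_one, hc.mul_pow, pow_two, pow_two, hsq a' ha, hb2, one_mul]
    · rw [orderOf_pow, hkm, Nat.gcd_eq_right (dvd_mul_right _ _), Nat.mul_div_cancel_left _ (Nat.two_pow_pos k)]
      exact hm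
    · rw [← inv_pow, ← conj_pow]
      congr 1
      rw [mul_inv_rev, inv_eq_of_mul_eq_one_right (hsq a ha), inv_eq_of_mul_eq_one_right hb2]
      simp [← mul_assoc, hsq a ha]
    · exact ((hcom a' ha' a ha).mul_right hc).pow_right _
  -- a configuration with two crossed odd elements is impossible
  have key : ∀ x ∈ A, ∀ y ∈ A, x ≠ 1 → y ≠ 1 → x ≠ y → ∀ u v : G, u ≠ 1 → v ≠ 1 →
      Odd (orderOf u) → Odd (orderOf v) → x * u * x⁻¹ = u⁻¹ → Commute y u →
      Commute x v → y * v * y⁻¹ = v⁻¹ → False := by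
    intro x hx y hy hx1 hy1 hxy u v hu hv huo hvo hxu hyu hxv hyv
    have hxi : x⁻¹ = x := inv_eq_of_mul_eq_one_right (hsq x hx)
    have hyi : y⁻¹ = y := inv_eq_of_mul_eq_one_right (hsq y hy)
    have exu : x * u = u⁻¹ * x := by rw [← hxu]; simp [mul_assoc]
    have eyv : y * v = v⁻¹ * y := by rw [← hyv]; simp [mul_assoc]
    have exy : x * y = y * x := (hcom x hx y hy).eq
    have hz1 : x * y ≠ 1 := fun h1 => hxy (by rw [← hyi]; exact eq_inv_of_mul_eq_one_left h1)
    have ezu : x * y * u = u⁻¹ * (x * y) := by rw [mul_assoc, hyu.eq, ← mul_assoc, exu, mul_assoc]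
    have ezv : x * y * v = v⁻¹ * (x * y) := by
      rw [mul_assoc, eyv, ← mul_assoc, hxv.inv_right.eq, mul_assoc]
    obtain ⟨s, hs, hs2⟩ := exists_sqrt_of_odd huo
    obtain ⟨r, hr, hr2⟩ := exists_sqrt_of_odd hvo
    -- conjugating an inverting involution by a square root
    have sqconj : ∀ (c w q : G), q ∈ Subgroup.zpowers w → q * q = w → c * w = w⁻¹ * c →
        q * c * q⁻¹ = w * c := by
      intro c w q hq hq2 hcw
      obtain ⟨i, hi⟩ := Subgroup.mem_zpowers_iff.mp hq
      have hcq : c * q⁻¹ = q * c := by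
        have h1 : SemiconjBy c w w⁻¹ := hcw
        have h2 := (h1.zpow_right i).inv_right
        rw [hi] at h2
        rw [show (w⁻¹ ^ i)⁻¹ = q by rw [inv_zpow, inv_inv, hi]] at h2
        exact h2
      rw [mul_assoc, hcq, ← mul_assoc, hq2]
    have rfix : r * x * r⁻¹ = x := by
      obtain ⟨i, hi⟩ := Subgroup.mem_zpowers_iff.mp hr
      rw [← hi, ← (hxv.zpow_right i).eq, mul_inv_cancel_right]
    have ry : r * y * r⁻¹ = v * y := sqconj y v r hr hr2 eyv
    have rz : r * (x * y) * r⁻¹ = v * (x * y) := sqconj (x * y) v r hr hr2 ezv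
    -- a conjugate of an involution of A commutes with an element of `r A r⁻¹`
    have hline : ∀ c ∈ A, c ≠ 1 → ∀ q : G,
        Commute (q * c * q⁻¹) x ∨ Commute (q * c * q⁻¹) (v * y) ∨ Commute (q * c * q⁻¹) (v * (x * y)) := by
      intro c hc hc1 q
      obtain ⟨⟨e, he, heC⟩, hne⟩ := Subgroup.ne_bot_iff_exists_ne_one.mp (h c hc hc1 (r⁻¹ * q))
      have he1 : e ≠ 1 := fun h1 => hne (Subtype.ext h1)
      have hcomm : Commute e (r⁻¹ * q * c * (r⁻¹ * q)⁻¹) := Subgroup.mem_centralizer_singleton_iff.mp heC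
      have h3 : Commute (q * c * q⁻¹) (r * e * r⁻¹) := by
        have := (hcomm.map (MulAut.conj r)).symm
        simpa [mul_assoc] using this
      have he' : e = x ∨ e = y ∨ e = x * y := by
        by_contra hcon
        push Not at hcon
        obtain ⟨hx', hy', hz'⟩ := hcon
        let f : Fin 5 → ↥A := ![1, ⟨x, hx⟩, ⟨y, hy⟩, ⟨x * y, A.mul_mem hx hy⟩, ⟨e, he⟩]
        have hf : Function.Injective f := by
          have n1 : x * y ≠ x := by simp [hy1]
          have n2 : x * y ≠ y := by simp [hx1]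
          intro i j hij
          fin_cases i <;> fin_cases j <;>
            simp [f, Subtype.ext_iff, hx1, hy1, hz1, he1, hxy, n1, n2, hx', hy', hz', hx'.symm, hy'.symm,
              hz'.symm, Ne.symm hx1, Ne.symm hy1, Ne.symm hz1, Ne.symm he1, Ne.symm hxy, Ne.symm n1,
              Ne.symm n2] at hij ⊢
        have := Nat.card_le_card_of_injective f hf
        rw [hA.card_four, Nat.card_fin] at this
        omega
      rcases he' with rfl | rfl | rfl
      · rw [rfix] at h3; exact Or.inl h3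
      · rw [ry] at h3; exact Or.inr (Or.inl h3)
      · rw [rz] at h3; exact Or.inr (Or.inr h3)
    have hu2 : u ≠ u⁻¹ := fun h1 => hu (eq_one_of_sq_of_odd huo (mul_eq_one_iff_eq_inv.mpr h1))
    have hv2 : v ≠ v⁻¹ := fun h1 => hv (eq_one_of_sq_of_odd hvo (mul_eq_one_iff_eq_inv.mpr h1))
    have hcomm_uv : Commute u v := by
      have h1 := hline x hx hx1 s
      rw [sqconj x u s hs hs2 exu] at h1
      rcases h1 with h1 | h1 | h1
      · exfalso
        apply hu2
        have h2 : u * x * x = x * (u * x) := h1.eq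
        rw [← mul_assoc, exu, mul_assoc, hsq x hx, mul_one, mul_assoc, hsq x hx, mul_one] at h2
        exact h2
      · have h2 : u * x * (v * y) = v * y * (u * x) := h1.eq
        have e1 : u * x * (v * y) = u * v * (x * y) := by
          rw [mul_assoc u, ← mul_assoc x, hxv.eq]; simp only [mul_assoc]
        have e2 : v * y * (u * x) = v * u * (x * y) := by
          rw [mul_assoc v, ← mul_assoc y, hyu.eq, mul_assoc u, ← exy]; simp only [mul_assoc]
        rw [e1, e2] at h2
        exact mul_right_cancel h2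
      · exfalso
        have h2 : u * x * (v * (x * y)) = v * (x * y) * (u * x) := h1.eq
        have e1 : u * x * (v * (x * y)) = u * v * y := by
          rw [mul_assoc u, ← mul_assoc x, hxv.eq, mul_assoc v, ← mul_assoc x, hsq x hx, one_mul,
            mul_assoc]
        have e2 : v * (x * y) * (u * x) = v * u⁻¹ * y := by
          rw [mul_assoc v, ← mul_assoc (x * y) u, ezu, mul_assoc u⁻¹, mul_assoc x, ← exy,
            ← mul_assoc x, hsq x hx, one_mul, mul_assoc]
        rw [e1, e2] at h2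
        have h3 : SemiconjBy v u⁻¹ u := (mul_right_cancel h2).symm
        have h4 : SemiconjBy v u u⁻¹ := by simpa using h3.inv_right
        have h5 : Commute (v * v) u := h3.mul_left h4
        obtain ⟨i, hi⟩ := hvo
        have h6 : Commute v u := by
          have hv' : (v * v) ^ (i + 1) = v := by
            rw [← pow_two, ← pow_mul, show 2 * (i + 1) = orderOf v + 1 by omega, pow_succ,
              pow_orderOf_eq_one, one_mul]
          have := h5.pow_left (i + 1)
          rwa [hv'] at this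
        apply hu2
        have h7 : v * u⁻¹ = v * u := h3.eq.trans h6.eq.symm
        exact (mul_left_cancel h7).symm
    have h1 := hline (x * y) (A.mul_mem hx hy) hz1 s
    rw [sqconj (x * y) u s hs hs2 ezu] at h1
    rcases h1 with h1 | h1 | h1
    · apply hu2
      have h2 : u * (x * y) * x = x * (u * (x * y)) := h1.eq
      have e1 : u * (x * y) * x = u * y := by
        rw [exy, mul_assoc, mul_assoc y, hsq x hx, mul_one]
      have e2 : x * (u * (x * y)) = u⁻¹ * y := by
        rw [← mul_assoc, exu, mul_assoc, ← mul_assoc x, hsq x hx, one_mul]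
      rw [e1, e2] at h2
      exact mul_right_cancel h2
    · apply hv2
      have h2 : u * (x * y) * (v * y) = v * y * (u * (x * y)) := h1.eq
      have e1 : u * (x * y) * (v * y) = u * v⁻¹ * x := by
        rw [mul_assoc u, ← mul_assoc (x * y), ezv, mul_assoc v⁻¹, mul_assoc x, hsq y hy, mul_one,
          mul_assoc]
      have e2 : v * y * (u * (x * y)) = v * u * x := by
        rw [mul_assoc v, ← mul_assoc y, hyu.eq, mul_assoc u, exy, ← mul_assoc y, hsq y hy, one_mul,
          mul_assoc]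
      rw [e1, e2, ← hcomm_uv.eq] at h2
      exact (mul_left_cancel (mul_right_cancel h2)).symm
    · have h2 : u * (x * y) * (v * (x * y)) = v * (x * y) * (u * (x * y)) := h1.eq
      have e1 : u * (x * y) * (v * (x * y)) = u * v⁻¹ := by
        rw [mul_assoc u, ← mul_assoc (x * y), ezv, mul_assoc v⁻¹, hsq _ (A.mul_mem hx hy), mul_one]
      have e2 : v * (x * y) * (u * (x * y)) = v * u⁻¹ := by
        rw [mul_assoc v, ← mul_assoc (x * y), ezu, mul_assoc u⁻¹, hsq _ (A.mul_mem hx hy), mul_one]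
      rw [e1, e2] at h2
      have h3 : u = v := by
        have hsq' : (u * v⁻¹) * (u * v⁻¹) = 1 := by
          conv_lhs => arg 2; rw [h2]
          simp [mul_assoc]
        have hodd : Odd (orderOf (u * v⁻¹)) := by
          have h4 : orderOf (u * v⁻¹) ∣ Nat.lcm (orderOf u) (orderOf v⁻¹) :=
            (hcomm_uv.inv_right).orderOf_mul_dvd_lcm
          rw [orderOf_inv] at h4
          exact (huo.mul hvo).of_dvd_nat (h4.trans (Nat.lcm_dvd_mul _ _))
        exact mul_inv_eq_one.mp (eq_one_of_sq_of_odd hodd hsq')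
      apply hv2
      rw [← hyv, ← h3, hyu.eq, mul_inv_cancel_right]
  -- find the configuration
  obtain ⟨a, ha, ha1⟩ : ∃ a ∈ A, a ≠ 1 := by
    have : A ≠ ⊥ := by
      intro h1
      have h4 := hA.card_four
      rw [h1, Subgroup.card_bot] at h4
      omega
    obtain ⟨⟨a, ha⟩, ha1⟩ := Subgroup.ne_bot_iff_exists_ne_one.mp this
    exact ⟨a, ha, fun h1 => ha1 (Subtype.ext h1)⟩
  obtain ⟨b, hb, hb1, hba, u, hu, huo, hau, hbu⟩ := hwit a ha ha1
  obtain ⟨c, hc, hc1, hcb, v, hv, hvo, hbv, hcv⟩ := hwit b hb hb1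
  by_cases hca : c = a
  · subst hca
    exact key c hc b hb hc1 hb1 hba.symm u v hu hv huo hvo hau hbu hcv hbv
  · have hcu : c * u * c⁻¹ = u⁻¹ := by
      have hz1 : a * b ≠ 1 := fun h1 => hba (by
        rw [← inv_eq_of_mul_eq_one_right h1, inv_eq_of_mul_eq_one_right (hsq a ha)])
      have hc' : c = a * b := by
        by_contra hne
        let f : Fin 5 → ↥A := ![1, ⟨a, ha⟩, ⟨b, hb⟩, ⟨a * b, A.mul_mem ha hb⟩, ⟨c, hc⟩]
        have hf : Function.Injective f := by
          have n1 : a * b ≠ a := by simp [hb1]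
          have n2 : a * b ≠ b := by simp [ha1]
          intro i j hij
          fin_cases i <;> fin_cases j <;>
            simp [f, Subtype.ext_iff, ha1, hb1, hz1, hc1, hba, n1, n2, hca, hcb, hne, Ne.symm hca,
              Ne.symm hcb, Ne.symm hne, Ne.symm ha1, Ne.symm hb1, Ne.symm hz1, Ne.symm hc1,
              Ne.symm hba, Ne.symm n1, Ne.symm n2] at hij ⊢
        have := Nat.card_le_card_of_injective f hf
        rw [hA.card_four, Nat.card_fin] at this
        omega
      rw [hc', mul_inv_rev]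
      calc a * b * u * (b⁻¹ * a⁻¹) = a * (b * u * b⁻¹) * a⁻¹ := by simp only [mul_assoc]
        _ = a * u * a⁻¹ := by rw [hbu.eq, mul_inv_cancel_right]
        _ = u⁻¹ := hau
    exact key c hc b hb hc1 hb1 hcb u v hu hv huo hvo hcu hbu hcv hbv

end Cfsg.Agent.S3195
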