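import Cfsg.Statements.S3196
import Cfsg.Agent.Lib.InvChar.Basic
import Mathlib.GroupTheory.SpecificGroups.Cyclic

set_option autoImplicit false
open Cfsg

namespace Cfsg.Agent.S3196

open CfsgLib.InvChar

variable {G : Type*} [Group G] [Finite G] {p : ℕ}

/-- Elementwise commutation of subgroups. -/
def Comm (X Y : Subgroup G) : Prop := ∀ x ∈ X, ∀ y ∈ Y, x * y = y * x

omit [Finite G] in
theorem Comm.symm {X Y : Subgroup G} (h : Comm X Y) : Comm Y X := fun y hy x hx => (h x hx y hy).symm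

omit [Finite G] in
theorem comm_iff {X Y : Subgroup G} : Comm X Y ↔ X ≤ Subgroup.centralizer (Y : Set G) := by
  constructor
  · intro h x hx
    exact Subgroup.mem_centralizer_iff.mpr fun y hy => (h x hx y hy).symm
  · intro h x hx y hy
    exact (Subgroup.mem_centralizer_iff.mp (h hx) y hy).symm

omit [Finite G] in
theorem comm_mono {X X' Y : Subgroup G} (hle : X' ≤ X) (h : Comm X Y) : Comm X' Y :=
  fun x hx => h x (hle hx)

omit [Finite G] in
theorem comm_sup {X X' Y : Subgroup G} (h : Comm X Y) (h' : Comm X' Y) : Comm (X ⊔ X') Y :=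
  comm_iff.mpr (sup_le (comm_iff.mp h) (comm_iff.mp h'))

theorem eq_zpowers [hp : Fact p.Prime] {X : Subgroup G} (hX : Nat.card ↥X = p) {x : G} (hx : x ∈ X)
    (hx1 : x ≠ 1) : Subgroup.zpowers x = X := by
  refine Subgroup.eq_of_le_of_card_ge (Subgroup.zpowers_le.mpr hx) ?_
  rw [Nat.card_zpowers, hX]
  have h := Subgroup.orderOf_dvd_natCard X hx
  rw [hX, Nat.dvd_prime hp.out] at h
  rcases h with h | h
  · exact absurd (orderOf_eq_one_iff.mp h) hx1
  · rw [h]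

theorem exists_gen [hp : Fact p.Prime] {X : Subgroup G} (hX : Nat.card ↥X = p) :
    ∃ x ∈ X, x ≠ 1 := by
  have h : X ≠ ⊥ := by
    intro h
    rw [h, Subgroup.card_bot] at hX
    exact hp.out.one_lt.ne hX
  obtain ⟨⟨x, hx⟩, hx1⟩ := Subgroup.ne_bot_iff_exists_ne_one.mp h
  exact ⟨x, hx, fun h => hx1 (Subtype.ext h)⟩

theorem eq_of_mem [Fact p.Prime] {X Y : Subgroup G} (hX : Nat.card ↥X = p) (hY : Nat.card ↥Y = p)
    {x : G} (h1 : x ∈ X) (h2 : x ∈ Y) (hx : x ≠ 1) : X = Y :=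
  (eq_zpowers hX h1 hx).symm.trans (eq_zpowers hY h2 hx)

theorem comm_self [hp : Fact p.Prime] {X : Subgroup G} (hX : Nat.card ↥X = p) : Comm X X := by
  obtain ⟨x, hx, hx1⟩ := exists_gen hX
  intro a ha b hb
  rw [← eq_zpowers hX hx hx1] at ha hb
  obtain ⟨i, rfl⟩ := Subgroup.mem_zpowers_iff.mp ha
  obtain ⟨j, rfl⟩ := Subgroup.mem_zpowers_iff.mp hb
  exact ((Commute.refl x).zpow_zpow i j).eq

omit [Finite G] in
/-- Elements of the join of two commuting subgroups. -/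
theorem mem_sup_comm {X Y : Subgroup G} (h : Comm X Y) {z : G} (hz : z ∈ X ⊔ Y) :
    ∃ x ∈ X, ∃ y ∈ Y, x * y = z := by
  have hn : X ≤ Subgroup.normalizer (Y : Set G) :=
    (comm_iff.mp h).trans (Subgroup.centralizer_le_normalizer _)
  rw [← SetLike.mem_coe, Subgroup.coe_mul_of_left_le_normalizer_right _ _ hn] at hz
  exact hz

/-- A line is spanned by any two of its points. -/
theorem span_line [hp : Fact p.Prime] {X Y Z : Subgroup G} (hX : Nat.card ↥X = p)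
    (hY : Nat.card ↥Y = p) (hZ : Nat.card ↥Z = p) (hc : Comm X Y) (hle : Z ≤ X ⊔ Y) (hne : Z ≠ X) :
    Y ≤ X ⊔ Z := by
  obtain ⟨z, hz, hz1⟩ := exists_gen hZ
  obtain ⟨x, hx, y, hy, hxy⟩ := mem_sup_comm hc (hle hz)
  have hy1 : y ≠ 1 := by
    rintro rfl
    rw [mul_one] at hxy
    exact hne (eq_of_mem hZ hX hz (hxy ▸ hx) hz1)
  rw [← eq_zpowers hY hy hy1, Subgroup.zpowers_le]
  have : y = x⁻¹ * z := by rw [← hxy, inv_mul_cancel_left]
  rw [this]
  exact Subgroup.mul_mem_sup (X.inv_mem hx) hz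

/-- The hypotheses of the lemma, without the ambient conjugation invariance. -/
structure Good (p : ℕ) (K : Set (Subgroup G)) : Prop where
  card : ∀ X ∈ K, Nat.card ↥X = p
  conj : ∀ X ∈ K, ∀ W ∈ K, ∀ w ∈ W, conjSub w X ∈ K
  line : ∀ X ∈ K, ∀ Y ∈ K, X ≠ Y → Comm X Y →
      ∀ Z : Subgroup G, Z ≤ X ⊔ Y → Nat.card ↥Z = p → Z ∈ K
  meet : ∀ X ∈ K, ∀ Y ∈ K, X ≠ Y → Comm X Y → ∀ W ∈ K, ∃ Z ∈ K, Z ≤ X ⊔ Y ∧ Comm Z W

theorem exists_central [hp : Fact p.Prime] :
    ∀ (n : ℕ) (K : Set (Subgroup G)), K.ncard ≤ n → Good p K →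
      (∃ X ∈ K, ∃ Y ∈ K, X ≠ Y ∧ Comm X Y) → ∃ V ∈ K, ∀ W ∈ K, Comm V W := by
  intro n
  induction n using Nat.strong_induction_on with
  | _ n ih =>
  intro K hn hK hex
  have hcard := hK.card
  by_cases hind : ∃ X ∈ K, ∃ Y ∈ K, ¬ Comm X Y ∧
      ∃ A ∈ K, ∃ B ∈ K, A ≠ B ∧ Comm A B ∧ Comm A X ∧ Comm A Y ∧ Comm B X ∧ Comm B Y
  · obtain ⟨X, hX, Y, hY, hXY, A, hA, B, hB, hAB, hAB', hAX, hAY, hBX, hBY⟩ := hind
    let K' : Set (Subgroup G) := {Z | Z ∈ K ∧ Comm Z X ∧ Comm Z Y}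
    have hlt : K'.ncard < K.ncard :=
      Set.ncard_lt_ncard ⟨fun Z hZ => hZ.1, fun h => hXY ((h hX).2.2)⟩ (Set.toFinite K)
    have hK' : Good p K' := by
      refine ⟨fun Z hZ => hcard Z hZ.1, ?_, ?_, ?_⟩
      · intro Z hZ W hW w hw
        have key : ∀ U : Subgroup G, Comm Z U → Comm W U → Comm (conjSub w Z) U := by
          intro U h1 h2
          rw [comm_iff]
          intro a ha
          rw [mem_conjSub] at ha
          have hwc := comm_iff.mp h2 hw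
          have := Subgroup.mul_mem _ (Subgroup.mul_mem _ hwc (comm_iff.mp h1 ha)) (Subgroup.inv_mem _ hwc)
          simpa [mul_assoc] using this
        exact ⟨hK.conj Z hZ.1 W hW.1 w hw, key X hZ.2.1 hW.2.1, key Y hZ.2.2 hW.2.2⟩
      · intro U hU V hV hne hc Z hle hZc
        exact ⟨hK.line U hU.1 V hV.1 hne hc Z hle hZc, comm_mono hle (comm_sup hU.2.1 hV.2.1),
          comm_mono hle (comm_sup hU.2.2 hV.2.2)⟩
      · intro U hU V hV hne hc W hW
        obtain ⟨Z, hZ, hle, hZW⟩ := hK.meet U hU.1 V hV.1 hne hc W hW.1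
        exact ⟨Z, ⟨hZ, comm_mono hle (comm_sup hU.2.1 hV.2.1),
          comm_mono hle (comm_sup hU.2.2 hV.2.2)⟩, hle, hZW⟩
    obtain ⟨V, ⟨hV, hVX, hVY⟩, hVc⟩ := ih K'.ncard (lt_of_lt_of_le hlt hn) K' le_rfl hK'
      ⟨A, ⟨hA, hAX, hAY⟩, B, ⟨hB, hBX, hBY⟩, hAB, hAB'⟩
    -- step one
    have step : ∀ P ∈ K, ∀ Q ∈ K, ¬ Comm P Q → Comm V P →
        (∀ Z ∈ K, Comm Z P → Comm Z Q → Comm V Z) → ∀ W ∈ K, Comm W P → Comm V W := by
      intro P hP Q hQ hPQ hVP hc W hW hWP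
      by_cases hWeq : W = P
      · exact hWeq ▸ hVP
      obtain ⟨Z, hZ, hle, hZQ⟩ := hK.meet P hP W hW (Ne.symm hWeq) hWP.symm Q hQ
      have hZP : Z ≠ P := fun h => hPQ (h ▸ hZQ)
      have hWle := span_line (hcard P hP) (hcard W hW) (hcard Z hZ) hWP.symm hle hZP
      have hZc : Comm Z P := comm_mono hle (comm_sup (comm_self (hcard P hP)) hWP)
      exact (comm_mono hWle (comm_sup hVP.symm (hc Z hZ hZc hZQ).symm)).symm
    have stepX := step X hX Y hY hXY hVX (fun Z hZ h1 h2 => hVc Z ⟨hZ, h1, h2⟩)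
    have stepY := step Y hY X hX (fun h => hXY h.symm) hVY (fun Z hZ h1 h2 => hVc Z ⟨hZ, h2, h1⟩)
    refine ⟨V, hV, fun Z hZ => ?_⟩
    by_contra hVZ
    have hVne : V ≠ X := fun h => hXY (h ▸ hVY)
    obtain ⟨P, hP, hPle, hPZ⟩ := hK.meet V hV X hX hVne hVX Z hZ
    have hPV : P ≠ V := fun h => hVZ (h ▸ hPZ)
    have hPY : ¬ Comm P Y := fun h => hXY
      (comm_mono (span_line (hcard V hV) (hcard X hX) (hcard P hP) hVX hPle hPV) (comm_sup hVY h))
    have hVP : Comm P V := comm_mono hPle (comm_sup (comm_self (hcard V hV)) hVX.symm)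
    have hZP : Z ≠ P := fun h => hVZ (h ▸ hVP.symm)
    obtain ⟨R, hR, hRle, hRY⟩ := hK.meet P hP Z hZ (Ne.symm hZP) hPZ Y hY
    have hRP : R ≠ P := fun h => hPY (h ▸ hRY)
    exact hVZ (comm_mono (span_line (hcard P hP) (hcard Z hZ) (hcard R hR) hPZ hRle hRP)
      (comm_sup hVP (stepY R hR hRY).symm)).symm
  · by_contra hno
    have hnc : ∀ V ∈ K, ∃ W ∈ K, ¬ Comm V W := fun V hV => by
      by_contra h
      exact hno ⟨V, hV, fun W hW => by_contra fun hc => h ⟨W, hW, hc⟩⟩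
    -- the common neighbours of a line are its points
    have F2 : ∀ X ∈ K, ∀ U ∈ K, ∀ W ∈ K, X ≠ U → Comm X U → Comm W X → Comm W U → W ≤ X ⊔ U := by
      intro X hX U hU W hW hne hc hWX hWU
      by_contra hle
      obtain ⟨Z, hZ, hXZ⟩ := hnc X hX
      obtain ⟨P, hP, hPle, hPZ⟩ := hK.meet X hX U hU hne hc Z hZ
      have hWX' : X ≠ W := fun h => hle (h ▸ le_sup_left)
      obtain ⟨Q, hQ, hQle, hQZ⟩ := hK.meet X hX W hW hWX' hWX.symm Z hZ
      have hPX : P ≠ X := fun h => hXZ (h ▸ hPZ)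
      have hQX : Q ≠ X := fun h => hXZ (h ▸ hQZ)
      have hPQ : P ≠ Q := fun h => hle
        ((span_line (hcard X hX) (hcard W hW) (hcard Q hQ) hWX.symm hQle hQX).trans
          (sup_le le_sup_left (h ▸ hPle)))
      have cXX := comm_self (hcard X hX)
      refine hind ⟨X, hX, Z, hZ, hXZ, P, hP, Q, hQ, hPQ, ?_, ?_, hPZ, ?_, hQZ⟩
      · refine comm_mono hPle (comm_sup ?_ ?_)
        · exact (comm_mono hQle (comm_sup cXX hWX)).symm
        · exact (comm_mono hQle (comm_sup hc hWU)).symm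
      · exact comm_mono hPle (comm_sup cXX hc.symm)
      · exact comm_mono hQle (comm_sup cXX hWX)
    obtain ⟨X, hX, U, hU, hXU, hXUc⟩ := hex
    obtain ⟨Z, hZ, hXZ⟩ := hnc X hX
    obtain ⟨Q, hQ, hQle, hQZ⟩ := hK.meet X hX U hU hXU hXUc Z hZ
    obtain ⟨T, hT, hQT⟩ := hnc Q hQ
    obtain ⟨P, hP, hPle, hPT⟩ := hK.meet X hX U hU hXU hXUc T hT
    have hLX : Comm (X ⊔ U) X := comm_sup (comm_self (hcard X hX)) hXUc.symm
    have hLU : Comm (X ⊔ U) U := comm_sup hXUc (comm_self (hcard U hU))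
    have hLL : Comm (X ⊔ U) (X ⊔ U) := comm_sup hLX.symm hLU.symm
    have hQZne : Q ≠ Z := fun h => hXZ (h ▸ comm_mono hQle hLX).symm
    obtain ⟨R, hR, hRle, hRT⟩ := hK.meet Q hQ Z hZ hQZne hQZ T hT
    have hPQne : P ≠ Q := fun h => hQT (h ▸ hPT)
    have hRQne : R ≠ Q := fun h => hQT (h ▸ hRT)
    have hRQ : Comm R Q := comm_mono hRle (comm_sup (comm_self (hcard Q hQ)) hQZ.symm)
    have hPQ : Comm P Q := comm_mono hPle fun a ha b hb => hLL a ha b (hQle hb)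
    have hZle : Z ≤ Q ⊔ R := span_line (hcard Q hQ) (hcard Z hZ) (hcard R hR) hQZ hRle hRQne
    have hRT' : R ≠ T := fun h => hQT ((show T ≤ Q ⊔ Z from h ▸ hRle) |> fun hle =>
      (comm_mono hle (comm_sup (comm_self (hcard Q hQ)) hQZ.symm)).symm)
    have hPR : ¬ Comm P R := fun h => by
      have hRL : R ≤ X ⊔ U :=
        (F2 Q hQ P hP R hR hPQne.symm hPQ.symm hRQ h.symm).trans (sup_le hQle hPle)
      exact hXZ (comm_mono (hZle.trans (sup_le hQle hRL)) hLX).symm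
    -- two skew lines `Q P` and `R T`
    obtain ⟨q, hq, hq1⟩ := exists_gen (hcard Q hQ)
    obtain ⟨s, hs, hs1⟩ := exists_gen (hcard P hP)
    have hqs : q * s = s * q := hPQ.symm q hq s hs
    have hqs1 : q * s ≠ 1 := fun h => hPQne (eq_of_mem (hcard P hP) (hcard Q hQ)
      (show q ∈ P from eq_inv_of_mul_eq_one_left h ▸ P.inv_mem hs) hq hq1)
    let X3 : Subgroup G := Subgroup.zpowers (q * s)
    have hX3c : Nat.card ↥X3 = p := by
      rw [Nat.card_zpowers]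
      apply orderOf_eq_prime _ hqs1
      have e1 : q ^ p = 1 := orderOf_dvd_iff_pow_eq_one.mp
        (hcard Q hQ ▸ Subgroup.orderOf_dvd_natCard Q hq)
      have e2 : s ^ p = 1 := orderOf_dvd_iff_pow_eq_one.mp
        (hcard P hP ▸ Subgroup.orderOf_dvd_natCard P hs)
      rw [(show Commute q s from hqs).mul_pow, e1, e2, one_mul]
    have hX3le : X3 ≤ Q ⊔ P := Subgroup.zpowers_le.mpr (Subgroup.mul_mem_sup hq hs)
    have hX3 : X3 ∈ K := hK.line Q hQ P hP hPQne.symm hPQ.symm X3 hX3le hX3c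
    have hX3Q : X3 ≠ Q := fun h => hPQne (eq_of_mem (hcard P hP) (hcard Q hQ) hs
      ((Subgroup.mul_mem_cancel_left Q hq).mp (h ▸ Subgroup.mem_zpowers (q * s) : q * s ∈ Q)) hs1)
    have hX3P : X3 ≠ P := fun h => hPQne (eq_of_mem (hcard P hP) (hcard Q hQ)
      ((Subgroup.mul_mem_cancel_right P hs).mp (h ▸ Subgroup.mem_zpowers (q * s) : q * s ∈ P)) hq hq1)
    obtain ⟨Y, hY, hYle, hYX3⟩ := hK.meet R hR T hT hRT' hRT X3 hX3
    have hYR : Y ≠ R := fun h => hPR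
      (comm_mono (span_line (hcard Q hQ) (hcard P hP) hX3c hPQ.symm hX3le hX3Q)
        (comm_sup hRQ.symm (h ▸ hYX3 : Comm R X3).symm))
    have hYT : Y ≠ T := fun h => hQT
      (comm_mono (span_line (hcard P hP) (hcard Q hQ) hX3c hPQ
        (hX3le.trans (sup_comm Q P).le) hX3P)
        (comm_sup hPT (h ▸ hYX3 : Comm T X3).symm))
    have hRTR : Comm (R ⊔ T) R := comm_sup (comm_self (hcard R hR)) hRT.symm
    have hRTT : Comm (R ⊔ T) T := comm_sup hRT (comm_self (hcard T hT))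
    let Y' : Subgroup G := conjSub q Y
    have hY'K : Y' ∈ K := hK.conj Y hY Q hQ q hq
    have hY'R : Comm Y' R := by
      intro a ha b hb
      rw [mem_conjSub] at ha
      have h1 := comm_mono hYle hRTR _ ha b hb
      have h2 : b * q = q * b := hRQ b hb q hq
      calc a * b = q * (q⁻¹ * a * q) * (q⁻¹ * b) := by simp [mul_assoc]
        _ = q * (q⁻¹ * a * q) * (b * q⁻¹) := by
            rw [show q⁻¹ * b = b * q⁻¹ from ((show Commute b q from h2).inv_right.symm).eq]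
        _ = q * ((q⁻¹ * a * q) * b) * q⁻¹ := by simp only [mul_assoc]
        _ = q * (b * (q⁻¹ * a * q)) * q⁻¹ := by rw [h1]
        _ = (q * b) * (q⁻¹ * a) := by simp [mul_assoc]
        _ = b * a := by rw [← h2]; simp [mul_assoc]
    have hY'eq : ∀ a ∈ Y', s * a * s⁻¹ ∈ Y := by
      intro a ha
      rw [mem_conjSub] at ha
      have h1 : (q * s) * (q⁻¹ * a * q) = (q⁻¹ * a * q) * (q * s) :=
        hYX3.symm _ (Subgroup.mem_zpowers _) _ ha
      have h2 : s * a * s⁻¹ = q⁻¹ * a * q := by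
        calc s * a * s⁻¹ = (s * q) * (q⁻¹ * a * q) * (s * q)⁻¹ := by simp [mul_assoc]
          _ = (q * s) * (q⁻¹ * a * q) * (q * s)⁻¹ := by rw [← hqs]
          _ = q⁻¹ * a * q := by rw [h1]; simp [mul_assoc]
      rw [h2]; exact ha
    have hY'T : Comm Y' T := by
      intro a ha b hb
      have h1 := comm_mono hYle hRTT _ (hY'eq a ha) b hb
      have h2 : s * b = b * s := hPT s hs b hb
      apply mul_left_cancel (a := s)
      calc s * (a * b) = s * a * s⁻¹ * (s * b) := by simp [mul_assoc]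
        _ = s * a * s⁻¹ * b * s := by rw [h2]; simp [mul_assoc]
        _ = b * (s * a * s⁻¹) * s := by rw [h1]
        _ = (b * s) * a := by simp [mul_assoc]
        _ = s * (b * a) := by rw [← h2, mul_assoc]
    have hY'le : Y' ≤ R ⊔ T := F2 R hR T hT Y' hY'K hRT' hRT hY'R hY'T
    have hY'X3 : Comm Y' X3 := by
      intro a ha b hb
      rw [mem_conjSub] at ha
      have hqb : Commute q b := by
        obtain ⟨i, rfl⟩ := Subgroup.mem_zpowers_iff.mp hb
        exact ((Commute.refl q).mul_right (show Commute q s from hqs)).zpow_right i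
      have h1 : Commute (q⁻¹ * a * q) b := hYX3 _ ha b hb
      have := (hqb.mul_left h1).mul_left hqb.inv_left
      simpa [mul_assoc] using this.eq
    have heq : Y' = Y := by
      by_contra hne
      have hRY : R ≤ Y ⊔ Y' := by
        have h1 : T ≤ R ⊔ Y := span_line (hcard R hR) (hcard T hT) (hcard Y hY) hRT hYle hYR
        have h2 : Y' ≤ Y ⊔ R := hY'le.trans (sup_le le_sup_right (h1.trans (sup_comm R Y).le))
        exact span_line (hcard Y hY) (hcard R hR) (hcard Y' hY'K)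
          (comm_mono hYle hRTR) h2 hne
      exact hPR (comm_mono (span_line (hcard Q hQ) (hcard P hP) hX3c hPQ.symm hX3le hX3Q)
        (comm_sup hRQ.symm (comm_mono hRY (comm_sup hYX3 hY'X3)).symm))
    -- so `q` centralises `Y`
    obtain ⟨y, hy, hy1⟩ := exists_gen (hcard Y hY)
    have hqn : Subgroup.zpowers q ≤ Subgroup.normalizer (Y : Set G) :=
      Subgroup.zpowers_le.mpr (mem_normalizer_iff_conjSub.mpr heq)
    let H : Subgroup G := Subgroup.zpowers q ⊔ Y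
    have hqp : IsPGroup p ↥(Subgroup.zpowers q) := by
      rw [eq_zpowers (hcard Q hQ) hq hq1]
      exact IsPGroup.of_card (n := 1) (by rw [hcard Q hQ, pow_one])
    have hYp : IsPGroup p ↥Y := IsPGroup.of_card (n := 1) (by rw [hcard Y hY, pow_one])
    have hH : IsPGroup p ↥H := hqp.to_sup_of_normal_right' hYp hqn
    have hYn : (Y.subgroupOf H).Normal :=
      Subgroup.normal_subgroupOf_of_le_normalizer (sup_le hqn Subgroup.le_normalizer)
    have hYb : Y.subgroupOf H ≠ ⊥ := by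
      intro h
      have h' : (⟨y, Subgroup.mem_sup_right hy⟩ : ↥H) ∈ Y.subgroupOf H := hy
      rw [h, Subgroup.mem_bot] at h'
      exact hy1 (congrArg Subtype.val h')
    obtain ⟨z, hzY, hz1, hzc⟩ := exists_ne_one_mem_center_of_normal hH _ hYb
    have hqz : Commute q (z : G) :=
      congrArg Subtype.val (Subgroup.mem_center_iff.mp hzc ⟨q, Subgroup.mem_sup_left (Subgroup.mem_zpowers q)⟩)
    have hYQ : Comm Y Q := by
      intro a ha b hb
      rw [← eq_zpowers (hcard Y hY) (show (z : G) ∈ Y from hzY)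
        (fun h : (z : G) = 1 => hz1 (Subtype.ext h))] at ha
      rw [← eq_zpowers (hcard Q hQ) hq hq1] at hb
      obtain ⟨i, rfl⟩ := Subgroup.mem_zpowers_iff.mp ha
      obtain ⟨j, rfl⟩ := Subgroup.mem_zpowers_iff.mp hb
      exact (hqz.symm.zpow_zpow i j).eq
    exact hQT (comm_mono (span_line (hcard R hR) (hcard T hT) (hcard Y hY) hRT hYle hYR)
      (comm_sup hRQ hYQ)).symm

theorem result {G : Type*} [Group G] [Finite G]
    {p : ℕ} (hp : p.Prime) (K : Set (Subgroup G)) (hK : ∀ X ∈ K, Nat.card ↥X = p)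
    (hKc : ∀ X ∈ K, ∀ g : G, X.map (MulAut.conj g).toMonoidHom ∈ K)
    (hex : ∃ X ∈ K, ∃ Y ∈ K, X ≠ Y ∧ ∀ x ∈ X, ∀ y ∈ Y, x * y = y * x)
    (ha : ∀ X ∈ K, ∀ Y ∈ K, X ≠ Y → (∀ x ∈ X, ∀ y ∈ Y, x * y = y * x) →
      ∀ Z : Subgroup G, Z ≤ X ⊔ Y → Nat.card ↥Z = p → Z ∈ K)
    (hb : ∀ X ∈ K, ∀ Y ∈ K, X ≠ Y → (∀ x ∈ X, ∀ y ∈ Y, x * y = y * x) →
      ∀ W ∈ K, (X ⊔ Y) ⊓ Subgroup.centralizer (W : Set G) ≠ ⊥) :
    (∃ V ∈ K, (∀ W ∈ K, ∀ v ∈ V, ∀ w ∈ W, v * w = w * v) ∧ V ≤ Cfsg.pCore p G) ∧ ¬ IsSimpleGroup G := by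
  have := Fact.mk hp
  have hgood : Good p K := by
    refine ⟨hK, fun X hX _ _ w _ => hKc X hX w, ha, ?_⟩
    intro X hX Y hY hne hc W hW
    obtain ⟨⟨e, he, heW⟩, he1⟩ := Subgroup.ne_bot_iff_exists_ne_one.mp (hb X hX Y hY hne hc W hW)
    have he1' : e ≠ 1 := fun h => he1 (Subtype.ext h)
    obtain ⟨x, hx, y, hy, rfl⟩ := mem_sup_comm hc he
    have hle : Subgroup.zpowers (x * y) ≤ X ⊔ Y := Subgroup.zpowers_le.mpr he
    have hcard : Nat.card ↥(Subgroup.zpowers (x * y)) = p := by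
      rw [Nat.card_zpowers]
      apply orderOf_eq_prime _ he1'
      rw [(show Commute x y from hc x hx y hy).mul_pow,
        orderOf_dvd_iff_pow_eq_one.mp (hK X hX ▸ Subgroup.orderOf_dvd_natCard X hx),
        orderOf_dvd_iff_pow_eq_one.mp (hK Y hY ▸ Subgroup.orderOf_dvd_natCard Y hy), one_mul]
    exact ⟨_, ha X hX Y hY hne hc _ hle hcard, hle, comm_iff.mpr (Subgroup.zpowers_le.mpr heW)⟩
  obtain ⟨V, hV, hVc⟩ := exists_central K.ncard K le_rfl hgood hex
  -- the conjugation-closed span of `K`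
  let L : Subgroup G := sSup K
  have hLn : L.Normal := by
    refine ⟨fun a ha g => ?_⟩
    have hle : conjSub g L ≤ L := by
      rw [conjSub_le_iff]
      refine sSup_le fun X hX => conjSub_le_iff.mp ?_
      exact le_sSup (hKc X hX g)
    exact hle (conj_mem_conjSub ha)
  let Z : Subgroup G := L ⊓ Subgroup.centralizer (L : Set G)
  have hVZ : V ≤ Z := by
    refine le_inf (le_sSup hV) ?_
    intro v hv
    rw [Subgroup.mem_centralizer_iff]
    intro l hl
    have hle : L ≤ Subgroup.centralizer ({v} : Set G) := sSup_le fun W hW w hw =>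
      Subgroup.mem_centralizer_singleton_iff.mpr (hVc W hW v hv w hw).symm
    exact Subgroup.mem_centralizer_singleton_iff.mp (hle hl)
  have hconjZ : ∀ g a : G, a ∈ Z → g * a * g⁻¹ ∈ Z := by
    intro g a ha
    refine ⟨hLn.conj_mem a ha.1 g, Subgroup.mem_centralizer_iff.mpr fun l hl => ?_⟩
    have h1 : g⁻¹ * l * g ∈ L := by
      simpa using hLn.conj_mem l hl g⁻¹
    have h2 := congrArg (fun b => g * b * g⁻¹) (Subgroup.mem_centralizer_iff.mp ha.2 _ h1)
    simpa [mul_assoc] using h2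
  let Zp : Subgroup G :=
    { carrier := {a | a ∈ Z ∧ a ^ p = 1}
      one_mem' := ⟨Z.one_mem, one_pow _⟩
      mul_mem' := by
        rintro a b ⟨ha, hap⟩ ⟨hb, hbp⟩
        refine ⟨Z.mul_mem ha hb, ?_⟩
        rw [(show Commute a b from Subgroup.mem_centralizer_iff.mp hb.2 a ha.1).mul_pow, hap, hbp, one_mul]
      inv_mem' := by
        rintro a ⟨ha, hap⟩
        exact ⟨Z.inv_mem ha, by rw [inv_pow, hap, inv_one]⟩ }
  have hZpn : Zp.Normal := ⟨fun a ha g => ⟨hconjZ g a ha.1, by rw [conj_pow, ha.2, mul_one, mul_inv_cancel]⟩⟩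
  have hZpp : IsPGroup p ↥Zp := fun a => ⟨1, Subtype.ext (by rw [pow_one]; exact a.2.2)⟩
  have hVO : V ≤ Cfsg.pCore p G := by
    refine le_trans ?_ (le_sSup ⟨hZpn, hZpp⟩)
    intro v hv
    exact ⟨hVZ hv, orderOf_dvd_iff_pow_eq_one.mp (hK V hV ▸ Subgroup.orderOf_dvd_natCard V hv)⟩
  refine ⟨⟨V, hV, hVc, hVO⟩, fun hsimple => ?_⟩
  obtain ⟨v, hv, hv1⟩ := exists_gen (hK V hV)
  have hvZp : v ∈ Zp := ⟨hVZ hv, orderOf_dvd_iff_pow_eq_one.mp (hK V hV ▸ Subgroup.orderOf_dvd_natCard V hv)⟩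
  have hGp : IsPGroup p G := by
    rcases hsimple.eq_bot_or_eq_top_of_normal Zp hZpn with h | h
    · exact absurd (Subgroup.mem_bot.mp (h ▸ hvZp)) hv1
    · exact (h ▸ hZpp : IsPGroup p ↥(⊤ : Subgroup G)).of_equiv Subgroup.topEquiv
  have : Nontrivial G := hsimple.toNontrivial
  have hZ : Subgroup.center G = ⊤ :=
    ((hsimple.eq_bot_or_eq_top_of_normal _ inferInstance).resolve_left (hGp.bot_lt_center).ne')
  obtain ⟨X, hX, Y, hY, hne, -⟩ := hex
  obtain ⟨x, hx, hx1⟩ := exists_gen (hK X hX)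
  have hXn : X.Normal := ⟨fun a ha g => by
    have : g * a = a * g := Subgroup.mem_center_iff.mp (hZ ▸ Subgroup.mem_top a) g
    rwa [this, mul_inv_cancel_right]⟩
  rcases hsimple.eq_bot_or_eq_top_of_normal X hXn with h | h
  · exact hx1 (Subgroup.mem_bot.mp (h ▸ hx))
  · refine hne (le_antisymm ?_ (h ▸ le_top))
    refine (Subgroup.eq_of_le_of_card_ge (h ▸ le_top : Y ≤ X) ?_).ge
    rw [hK X hX, hK Y hY]

end Cfsg.Agent.S3196
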