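import Cfsg.Statements.S3200
import Cfsg.Agent.Lib.Char.Burnside
import Cfsg.Agent.Lib.Solvable.Hall
import Mathlib.GroupTheory.IndexNormal

set_option autoImplicit false
open Cfsg

namespace Cfsg.Agent.S3200

open scoped Pointwise

universe w

theorem exists_two_pow {n : ℕ} (hn : n ≠ 0) (h : ∀ p : ℕ, p.Prime → p ∣ n → p = 2) : ∃ k, n = 2 ^ k :=
  ⟨_, Nat.eq_prime_pow_of_unique_prime_dvd hn (fun {d} hd hdn => h d hd hdn)⟩

theorem two_pow_of_dvd {n k : ℕ} (h : n ∣ 2 ^ k) : ∃ j, n = 2 ^ j := by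
  obtain ⟨j, -, hj⟩ := (Nat.dvd_prime_pow Nat.prime_two).mp h
  exact ⟨j, hj⟩

/-- An abelian subgroup of odd order and 2-power index. -/
def HasAC (H : Type w) [Group H] : Prop :=
  ∃ D : Subgroup H, IsMulCommutative ↥D ∧ Odd (Nat.card ↥D) ∧ ∃ k, D.index = 2 ^ k

theorem HasAC.quotient {H : Type w} [Group H] [Finite H] (h : HasAC H) (N : Subgroup H) [N.Normal] :
    HasAC (H ⧸ N) := by
  obtain ⟨D, hD, hodd, k, hk⟩ := h
  haveI := hD
  exact ⟨D.map (QuotientGroup.mk' N), inferInstance, hodd.of_dvd_nat (Subgroup.card_map_dvd _ _),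
    two_pow_of_dvd (hk ▸ Subgroup.index_map_dvd D (QuotientGroup.mk'_surjective N))⟩

theorem HasAC.normal {H : Type w} [Group H] [Finite H] (h : HasAC H) (N : Subgroup H) [N.Normal] :
    HasAC ↥N := by
  obtain ⟨D, hD, hodd, k, hk⟩ := h
  haveI := hD
  refine ⟨D.subgroupOf N, ⟨⟨fun a b => ?_⟩⟩, ?_, ?_⟩
  · apply Subtype.ext; apply Subtype.ext
    simp only [Subgroup.coe_mul]
    exact congrArg Subtype.val (hD.is_comm.comm (⟨((a : ↥N) : H), a.2⟩ : ↥D) ⟨((b : ↥N) : H), b.2⟩)
  · exact hodd.of_dvd_nat (Subgroup.card_comap_dvd_of_injective D N.subtype N.subtype_injective)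
  · refine two_pow_of_dvd (k := k) ?_
    rw [← hk]
    show D.relIndex N ∣ D.index
    suffices e : D.relIndex (D ⊔ N) = D.relIndex N from
      e ▸ Dvd.intro _ (Subgroup.relIndex_mul_index le_sup_left)
    have h1 := Subgroup.relIndex_mul_relIndex ⊥ (D ⊓ N) N bot_le inf_le_right
    have h2 := Subgroup.relIndex_mul_relIndex ⊥ (D ⊓ N) D bot_le inf_le_left
    have h3 := Subgroup.relIndex_mul_relIndex ⊥ D (D ⊔ N) bot_le le_sup_left
    have h4 := Subgroup.relIndex_mul_relIndex ⊥ N (D ⊔ N) bot_le le_sup_right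
    rw [Subgroup.relIndex_bot_left, Subgroup.relIndex_bot_left, Subgroup.inf_relIndex_right] at h1
    rw [Subgroup.relIndex_bot_left, Subgroup.relIndex_bot_left, Subgroup.inf_relIndex_left] at h2
    rw [Subgroup.relIndex_bot_left, Subgroup.relIndex_bot_left] at h3 h4
    rw [Subgroup.relIndex_sup_right] at h4
    have hpos : 0 < Nat.card ↥D := Nat.card_pos
    refine Nat.eq_of_mul_eq_mul_left hpos ?_
    calc Nat.card ↥D * D.relIndex (D ⊔ N) = Nat.card ↥N * N.relIndex D := by rw [h3, h4]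
      _ = Nat.card ↥(D ⊓ N) * N.relIndex D * D.relIndex N := by rw [← h1]; ring
      _ = Nat.card ↥D * D.relIndex N := by rw [h2]

theorem HasAC.solvable : ∀ (n : ℕ) (H : Type w) [Group H] [Finite H], Nat.card H ≤ n → HasAC H →
    Group.IsSolvable H := by
  intro n
  induction n with
  | zero => intro H _ _ hn; have := Nat.card_pos (α := H); omega
  | succ n ih =>
    intro H _ _ hn h
    rcases subsingleton_or_nontrivial H with hs | hs
    · infer_instance
    by_cases hsimple : IsSimpleGroup H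
    · obtain ⟨D, hD, hodd, k, hk⟩ := h
      haveI := hD
      haveI : Fact (Nat.Prime 2) := ⟨Nat.prime_two⟩
      rcases Subgroup.bot_or_exists_ne_one D with hbot | ⟨c, hc, hc1⟩
      · rw [hbot, Subgroup.index_bot] at hk
        haveI : Group.IsNilpotent H := (IsPGroup.of_card (p := 2) (n := k) hk).isNilpotent
        infer_instance
      · have hle : D ≤ Subgroup.centralizer ({c} : Set H) := fun d hd =>
          Subgroup.mem_centralizer_singleton_iff.mpr
            (congrArg Subtype.val (hD.is_comm.comm (⟨d, hd⟩ : ↥D) ⟨c, hc⟩))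
        obtain ⟨j, hj⟩ := two_pow_of_dvd (hk ▸ Subgroup.index_dvd_of_le hle)
        have hp := CfsgLib.Char.card_prime_of_prime_pow_class 2 j Nat.prime_two c hc1 hj
        haveI := Fact.mk hp
        haveI : IsCyclic H := isCyclic_of_prime_card (p := Nat.card H) rfl
        letI : CommGroup H := IsCyclic.commGroup
        infer_instance
    · obtain ⟨N, hN, hNb, hNt⟩ : ∃ N : Subgroup H, N.Normal ∧ N ≠ ⊥ ∧ N ≠ ⊤ := by
        by_contra hno
        push Not at hno
        exact hsimple ⟨fun N hN => or_iff_not_imp_left.mpr fun hb => hno N hN hb⟩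
      haveI := hN
      have hmul := Subgroup.card_mul_index N
      have h1 : 1 < Nat.card ↥N := (Subgroup.one_lt_card_iff_ne_bot N).mpr hNb
      have h2 : 1 < N.index := Subgroup.one_lt_index_of_ne_top hNt
      haveI := ih ↥N (by nlinarith) (h.normal N)
      haveI := ih (H ⧸ N) (by rw [← Subgroup.index_eq_card]; nlinarith) (h.quotient N)
      exact Group.isSolvable_of_ker_le_range N.subtype (QuotientGroup.mk' N) (by simp)

theorem HasAC.complement {H : Type w} [Group H] [Finite H] (h : HasAC H) :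
    ∃ (P : Sylow 2 H) (D : Subgroup H), IsMulCommutative ↥D ∧ Subgroup.IsComplement' (P : Subgroup H) D := by
  obtain ⟨D, hD, hodd, k, hk⟩ := h
  haveI : Fact (Nat.Prime 2) := ⟨Nat.prime_two⟩
  let P : Sylow 2 H := default
  obtain ⟨j, hj⟩ := IsPGroup.iff_card.mp P.isPGroup'
  have e1 : 2 ^ j * (P : Subgroup H).index = Nat.card H := hj ▸ Subgroup.card_mul_index _
  have e2 : Nat.card ↥D * 2 ^ k = Nat.card H := hk ▸ Subgroup.card_mul_index _
  have c1 : Nat.Coprime (2 ^ j) (Nat.card ↥D) := (Nat.coprime_two_left.mpr hodd).pow_left j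
  have c2 : Nat.Coprime (2 ^ k) (P : Subgroup H).index :=
    ((Nat.Prime.coprime_iff_not_dvd Nat.prime_two).mpr P.not_dvd_index).pow_left k
  have e3 : 2 ^ j = 2 ^ k := Nat.dvd_antisymm
    (c1.dvd_of_dvd_mul_left (e2 ▸ Dvd.intro _ e1)) (c2.dvd_of_dvd_mul_right (e1 ▸ Dvd.intro_left _ e2))
  refine ⟨P, D, hD, Subgroup.isComplement'_of_coprime ?_ ?_⟩
  · rw [hj, ← e2, e3, mul_comm]
  · rw [hj]; exact c1

/-- Let H be a finite group in which a Sylow 2-subgroup has an abelian complement (an abelian subgroup meeting it trivially whose product with it is all of H). Then H is solvable, and every subgroup and every quotient group of H again has a Sylow 2-subgroup with an abelian complement. -/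
theorem result {H : Type*} [Group H] [Finite H]
    (S : Sylow 2 H) (C : Subgroup H) (hC : IsMulCommutative ↥C) (hSC : Subgroup.IsComplement' (S : Subgroup H) C) :
    Group.IsSolvable H ∧
    (∀ L : Subgroup H, ∃ (P : Sylow 2 ↥L) (D : Subgroup ↥L), IsMulCommutative ↥D ∧ Subgroup.IsComplement' (P : Subgroup ↥L) D) ∧
    (∀ (N : Subgroup H) [N.Normal], ∃ (P : Sylow 2 (H ⧸ N)) (D : Subgroup (H ⧸ N)),
      IsMulCommutative ↥D ∧ Subgroup.IsComplement' (P : Subgroup (H ⧸ N)) D) := by
  haveI : Fact (Nat.Prime 2) := ⟨Nat.prime_two⟩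
  obtain ⟨k, hk⟩ := IsPGroup.iff_card.mp S.isPGroup'
  have hCodd : Odd (Nat.card ↥C) := by
    rw [← hSC.symm.index_eq_card, Nat.odd_iff, ← Nat.two_dvd_ne_zero]
    exact S.not_dvd_index
  have hAC : HasAC H := ⟨C, hC, hCodd, k, by rw [hSC.index_eq_card, hk]⟩
  have hsol : Group.IsSolvable H := HasAC.solvable _ H le_rfl hAC
  haveI := hsol
  haveI := hC
  refine ⟨hsol, fun L => HasAC.complement ?_, fun N _ => (hAC.quotient N).complement⟩
  haveI : Group.IsSolvable ↥L := inferInstance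
  obtain ⟨D, hD1, hD2⟩ := CfsgLib.Solvable.exists_isPiHall (G := ↥L) {q | q ≠ 2}
  have hCH : Cfsg.IsPiHall {q | q ≠ 2} C := by
    refine ⟨fun q _ h h2 => Nat.not_even_iff_odd.mpr hCodd (even_iff_two_dvd.mpr (h2 ▸ h)),
      fun q hq h h' => h ?_⟩
    rw [hSC.index_eq_card, hk] at h'
    exact (Nat.prime_dvd_prime_iff_eq hq Nat.prime_two).mp (hq.dvd_of_dvd_pow h')
  have hcard : Nat.card ↥(D.map L.subtype) = Nat.card ↥D :=
    Subgroup.card_map_of_injective L.subtype_injective
  obtain ⟨g, hg⟩ := CfsgLib.Solvable.exists_conj_le_isPiHall hCH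
    (K := D.map L.subtype) (fun q hq h => hD1 q hq (hcard ▸ h))
  refine ⟨D, ⟨⟨fun a b => ?_⟩⟩, ?_, exists_two_pow Subgroup.index_ne_zero_of_finite
    (fun q hq h => by_contra fun h2 => hD2 q hq h2 h)⟩
  · have ha := hg (Subgroup.smul_mem_pointwise_smul _ (MulAut.conj g) _ (Subgroup.mem_map_of_mem L.subtype a.2))
    have hb := hg (Subgroup.smul_mem_pointwise_smul _ (MulAut.conj g) _ (Subgroup.mem_map_of_mem L.subtype b.2))
    have h := congrArg Subtype.val (hC.is_comm.comm (⟨_, ha⟩ : ↥C) ⟨_, hb⟩)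
    simp only [Subgroup.coe_mul, MulAut.smul_def, ← map_mul] at h
    exact Subtype.ext (Subtype.ext ((MulAut.conj g).injective h))
  · rw [← Nat.not_even_iff_odd, even_iff_two_dvd]
    exact fun h => hD1 2 Nat.prime_two h rfl

end Cfsg.Agent.S3200
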