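import Cfsg.Statements.S3201
import Cfsg.Agent.Lib.InvChar.OneInvolution

set_option autoImplicit false
open Cfsg

namespace Cfsg.Agent.S3201

theorem result {S : Type*} [Group S] [Finite S]
    (hS : IsPGroup 2 S) (n : ℕ) (hn : 2 ≤ n) (C : Fin n → Subgroup ↥(Subgroup.center S))
    (hCmax : ∀ i, IsCoatom (C i)) (hCinj : Function.Injective C) (hCint : ⨅ i, C i = ⊥)
    (hCq : ∀ i, ∃ (_ : ((C i).map (Subgroup.center S).subtype).Normal),
      ¬ IsMulCommutative (S ⧸ (C i).map (Subgroup.center S).subtype) ∧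
      ∃! x : S ⧸ (C i).map (Subgroup.center S).subtype, orderOf x = 2) :
    ∃ E Q : Subgroup S, Cfsg.IsInternalDirectProduct E Q ⊤ ∧ Cfsg.IsElementaryAbelian 2 E ∧
      ¬ IsMulCommutative ↥Q ∧ ∃! x : ↥Q, orderOf x = 2 := by
  classical
  have : Fact (Nat.Prime 2) := ⟨Nat.prime_two⟩
  set D : Fin n → Subgroup S := fun i => (C i).map (Subgroup.center S).subtype with hDdef
  have hDc : ∀ i, D i ≤ Subgroup.center S := fun i => Subgroup.map_subtype_le _
  -- the centre mod `C i` has order two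
  have hidx : ∀ i, (C i).index = 2 := by
    intro i
    have hn' : (C i).Normal := inferInstance
    have hp : IsPGroup 2 ↥(Subgroup.center S) := hS.to_subgroup _
    obtain ⟨m, hm⟩ := hp.index (C i)
    rcases Nat.eq_zero_or_pos m with h0 | h0
    · subst h0; exact absurd (Subgroup.index_eq_one.mp hm) (hCmax i).1
    obtain ⟨z, hz⟩ := exists_prime_orderOf_dvd_card' (G := ↥(Subgroup.center S) ⧸ C i) 2
      (by rw [← Subgroup.index_eq_card, hm]; exact dvd_pow_self 2 h0.ne')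
    have hcard : Nat.card ↥(Subgroup.zpowers z) = 2 := by rw [Nat.card_zpowers, hz]
    rcases eq_or_lt_of_le (show C i ≤ (Subgroup.zpowers z).comap (QuotientGroup.mk' (C i)) from
      fun c hc => by
        rw [Subgroup.mem_comap, QuotientGroup.mk'_apply, (QuotientGroup.eq_one_iff c).mpr hc]
        exact Subgroup.one_mem _) with h | h
    · exfalso
      obtain ⟨w, rfl⟩ := QuotientGroup.mk_surjective z
      have hw : w ∈ C i := by rw [h]; exact Subgroup.mem_zpowers _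
      rw [(QuotientGroup.eq_one_iff w).mpr hw, orderOf_one] at hz
      omega
    · have h2 := (hCmax i).2 _ h
      have h3 : Subgroup.zpowers z = ⊤ := by
        rw [← Subgroup.comap_top (QuotientGroup.mk' (C i))] at h2
        exact Subgroup.comap_injective (QuotientGroup.mk'_surjective _) h2
      rw [Subgroup.index_eq_card, ← Subgroup.card_top, ← h3, hcard]
  have hmemD : ∀ i (z : ↥(Subgroup.center S)), (z : S) ∈ D i ↔ z ∈ C i := by
    intro i z
    constructor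
    · rintro ⟨w, hw, hwe⟩; rwa [← Subtype.ext hwe]
    · exact fun h => ⟨z, h, rfl⟩
  have hZ2 : ∀ z ∈ Subgroup.center S, z * z = 1 := by
    intro z hz
    have h : (⟨z, hz⟩ * ⟨z, hz⟩ : ↥(Subgroup.center S)) ∈ ⨅ i, C i :=
      Subgroup.mem_iInf.mpr fun i => (Subgroup.mul_mem_iff_of_index_two (hidx i)).mpr Iff.rfl
    rw [hCint, Subgroup.mem_bot] at h
    exact congrArg Subtype.val h
  have heqZ : ∀ u v : S, u ∈ Subgroup.center S → v ∈ Subgroup.center S →
      (∀ i, u ∉ D i) → (∀ i, v ∉ D i) → u = v := by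
    intro u v hu hv hu' hv'
    have h : (⟨u, hu⟩ * ⟨v, hv⟩ : ↥(Subgroup.center S)) ∈ ⨅ i, C i :=
      Subgroup.mem_iInf.mpr fun i => (Subgroup.mul_mem_iff_of_index_two (hidx i)).mpr
        (iff_of_false (fun h => hu' i ((hmemD i _).mpr h)) (fun h => hv' i ((hmemD i _).mpr h)))
    rw [hCint, Subgroup.mem_bot] at h
    have h' : u * v = 1 := congrArg Subtype.val h
    rw [eq_inv_of_mul_eq_one_left h', inv_eq_of_mul_eq_one_right (hZ2 v hv)]
  -- squares landing in the centre avoid every `C i`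
  have hnotin : ∀ u : S, u ∉ Subgroup.center S → ∀ i, u * u ∉ D i := by
    intro u hu i h
    obtain ⟨hn', -, huniq⟩ := hCq i
    apply hu
    have hlt : C i < ⊤ := lt_top_iff_ne_top.mpr (hCmax i).1
    obtain ⟨z, -, hz⟩ := SetLike.exists_of_lt hlt
    have hz2 : orderOf ((z : S) : S ⧸ D i) = 2 := by
      apply orderOf_eq_prime
      · rw [pow_two, ← QuotientGroup.mk_mul, hZ2 _ z.2, QuotientGroup.mk_one]
      · intro h1
        exact hz ((hmemD i z).mp ((QuotientGroup.eq_one_iff _).mp h1))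
    by_cases h1 : (u : S ⧸ D i) = 1
    · exact hDc i ((QuotientGroup.eq_one_iff u).mp h1)
    · have h2 : orderOf (u : S ⧸ D i) = 2 := orderOf_eq_prime
        (by rw [pow_two, ← QuotientGroup.mk_mul]; exact (QuotientGroup.eq_one_iff _).mpr h) h1
      have h3 := huniq.unique h2 hz2
      rw [QuotientGroup.eq] at h3
      have h4 := hDc i h3
      have h5 : u⁻¹ ∈ Subgroup.center S := (Subgroup.mul_mem_cancel_right _ z.2).mp h4
      exact (Subgroup.inv_mem_iff _).mp h5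
  -- a reference quotient
  set i₀ : Fin n := ⟨0, by omega⟩
  obtain ⟨hn₀, hna, huniq⟩ := hCq i₀
  obtain ⟨k, a, hk, hka, hidx₀, hinv⟩ :=
    CfsgLib.InvChar.exists_cyclic_index_two_of_unique_involution (hS.to_quotient (D i₀)) hna huniq
  obtain ⟨x, rfl⟩ := QuotientGroup.mk_surjective a
  have hne : Subgroup.zpowers (x : S ⧸ D i₀) ≠ ⊤ := by
    intro h; rw [h, Subgroup.index_top] at hidx₀; omega
  obtain ⟨b, -, hb⟩ := SetLike.exists_of_lt (lt_top_iff_ne_top.mpr hne)
  obtain ⟨y, rfl⟩ := QuotientGroup.mk_surjective b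
  have hkey : (x : S ⧸ D i₀) ^ 2 ^ (k - 1) * (x : S ⧸ D i₀) ^ 2 ^ (k - 1) = 1 := by
    rw [← pow_add, ← two_mul, ← pow_succ', Nat.sub_add_cancel (by omega), ← hka, pow_orderOf_eq_one]
  have hinvol : orderOf ((x : S ⧸ D i₀) ^ 2 ^ (k - 1)) = 2 := by
    apply orderOf_eq_prime (by rw [pow_two, hkey])
    intro h
    have := Nat.le_of_dvd (Nat.two_pow_pos _) (orderOf_dvd_of_pow_eq_one h)
    rw [hka] at this
    have : 2 ^ (k - 1) < 2 ^ k := Nat.pow_lt_pow_right one_lt_two (by omega)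
    omega
  -- elements mapping to the involution are central
  have hlift : ∀ u : S, (u : S ⧸ D i₀) = (x : S ⧸ D i₀) ^ 2 ^ (k - 1) → u ∈ Subgroup.center S := by
    intro u hu
    by_contra hc
    apply hnotin u hc i₀
    rw [← QuotientGroup.eq_one_iff, QuotientGroup.mk_mul, hu, hkey]
  have hcen : ∀ u : S, u ∈ Subgroup.center S → ((u : S ⧸ D i₀)) * (u : S ⧸ D i₀) = 1 := fun u hu => by
    rw [← QuotientGroup.mk_mul, hZ2 u hu, QuotientGroup.mk_one]
  have hxZ : x ^ 2 ^ (k - 2) ∉ Subgroup.center S := by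
    intro h
    have h1 := hcen _ h
    rw [← QuotientGroup.mk_mul, ← pow_add, ← two_mul, ← pow_succ', show k - 2 + 1 = k - 1 by omega,
      QuotientGroup.mk_pow] at h1
    rw [h1, orderOf_one] at hinvol
    omega
  have hone : (x : S ⧸ D i₀) ^ 2 ^ (k - 1) ≠ 1 := fun h => by rw [h, orderOf_one] at hinvol; omega
  have hyZ : y ∉ Subgroup.center S := fun h => hone (by rw [← (hinv _ hb).2, hcen y h])
  have hxy : (x : S ⧸ D i₀) * y ∉ Subgroup.zpowers (x : S ⧸ D i₀) := fun h =>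
    hb ((Subgroup.mul_mem_cancel_left _ (Subgroup.mem_zpowers _)).mp h)
  have hxyZ : x * y ∉ Subgroup.center S := fun h => hone (by
    rw [← (hinv _ hxy).2, ← QuotientGroup.mk_mul, hcen _ h])
  set s := x ^ 2 ^ (k - 1) with hs
  have hs' : s = x ^ 2 ^ (k - 2) * x ^ 2 ^ (k - 2) := by
    rw [hs, ← pow_add]; congr 1; rw [← two_mul, ← pow_succ']; congr 1; omega
  have hsZ : s ∈ Subgroup.center S := hlift s (by rw [hs, QuotientGroup.mk_pow])
  have hsD : ∀ i, s ∉ D i := fun i => hs' ▸ hnotin _ hxZ i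
  have hy2 : y * y = s := heqZ _ _ (hlift _ (by rw [QuotientGroup.mk_mul, (hinv _ hb).2])) hsZ
    (hnotin y hyZ) hsD
  have hxy2 : (x * y) * (x * y) = s := heqZ _ _
    (hlift _ (by rw [QuotientGroup.mk_mul, QuotientGroup.mk_mul, (hinv _ hxy).2])) hsZ
    (hnotin _ hxyZ) hsD
  have hyx : y * x * y⁻¹ = x⁻¹ := by
    have h1 : x * y * x = y := by
      apply mul_right_cancel (b := y)
      rw [mul_assoc _ x y, hy2, hxy2]
    rw [mul_inv_eq_iff_eq_mul, eq_inv_mul_iff_mul_eq, ← mul_assoc, h1]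
  have hxord : x ^ 2 ^ k = 1 := by
    rw [show 2 ^ k = 2 ^ (k - 1) + 2 ^ (k - 1) by
      rw [← two_mul, ← pow_succ', Nat.sub_add_cancel (by omega)], pow_add, ← hs, hZ2 s hsZ]
  -- the quaternion factor
  set X := Subgroup.zpowers x with hX
  have hyn : Subgroup.zpowers y ≤ Subgroup.normalizer (X : Set S) := by
    rw [Subgroup.zpowers_le]
    have hmap : X.map (MulAut.conj y).toMonoidHom = X := by
      rw [hX, MonoidHom.map_zpowers]
      show Subgroup.zpowers (y * x * y⁻¹) = _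
      rw [hyx, Subgroup.zpowers_inv]
    rw [Subgroup.mem_normalizer_iff]
    intro z
    constructor
    · intro hz; rw [← hmap]; exact ⟨z, hz, rfl⟩
    · intro hz
      rw [← hmap] at hz
      obtain ⟨w, hw, hwe⟩ := hz
      have : w = z := (MulAut.conj y).injective hwe
      rwa [← this]
  set Q := Subgroup.zpowers y ⊔ X with hQ
  have hxQ : x ∈ Q := Subgroup.mem_sup_right (Subgroup.mem_zpowers x)
  have hyQ : y ∈ Q := Subgroup.mem_sup_left (Subgroup.mem_zpowers y)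
  have hsX : s ∈ X := Subgroup.pow_mem _ (Subgroup.mem_zpowers x) _
  have hinj : ∀ q ∈ Q, q ∈ D i₀ → q = 1 := by
    intro q hq hqD
    rw [← SetLike.mem_coe, hQ, Subgroup.coe_mul_of_left_le_normalizer_right _ _ hyn] at hq
    obtain ⟨u, hu, v, hv, rfl⟩ := hq
    obtain ⟨e, rfl⟩ := Subgroup.mem_zpowers_iff.mp hu
    have h1 : ((y ^ e * v : S) : S ⧸ D i₀) = 1 := (QuotientGroup.eq_one_iff _).mpr hqD
    rcases Int.even_or_odd e with ⟨f, rfl⟩ | ⟨f, rfl⟩
    · have hyeX : y ^ (f + f) ∈ X := by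
        rw [zpow_add, ← (Commute.refl y).mul_zpow, hy2]
        exact Subgroup.zpow_mem _ hsX _
      obtain ⟨j, hj⟩ := Subgroup.mem_zpowers_iff.mp (Subgroup.mul_mem _ hyeX hv)
      rw [← hj, QuotientGroup.mk_zpow] at h1
      show y ^ (f + f) * v = 1
      rw [← hj]
      have h2 : ((2 ^ k : ℕ) : ℤ) ∣ j := hka ▸ orderOf_dvd_iff_zpow_eq_one.mpr h1
      obtain ⟨c, rfl⟩ := h2
      rw [zpow_mul, zpow_natCast, hxord, one_zpow]
    · exfalso
      apply hb
      obtain ⟨j, rfl⟩ := Subgroup.mem_zpowers_iff.mp hv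
      have h2 : (y : S ⧸ D i₀) ^ (2 * f + 1) ∈ Subgroup.zpowers (x : S ⧸ D i₀) := by
        rw [QuotientGroup.mk_mul, QuotientGroup.mk_zpow, QuotientGroup.mk_zpow] at h1
        rw [eq_inv_of_mul_eq_one_left h1]
        exact Subgroup.inv_mem _ (Subgroup.zpow_mem _ (Subgroup.mem_zpowers _) _)
      have h3 : (y : S ⧸ D i₀) ^ (2 * f) ∈ Subgroup.zpowers (x : S ⧸ D i₀) := by
        rw [zpow_mul, zpow_two, (hinv _ hb).2]
        exact Subgroup.zpow_mem _ (Subgroup.pow_mem _ (Subgroup.mem_zpowers _) _) _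
      rw [zpow_add, zpow_one] at h2
      exact (Subgroup.mul_mem_cancel_left _ h3).mp h2
  -- Q maps onto the quotient
  have hsurj : ∀ g : S, ∃ q ∈ Q, (q : S ⧸ D i₀) = g := by
    intro g
    by_cases hg : (g : S ⧸ D i₀) ∈ Subgroup.zpowers (x : S ⧸ D i₀)
    · obtain ⟨j, hj⟩ := Subgroup.mem_zpowers_iff.mp hg
      exact ⟨x ^ j, Q.zpow_mem hxQ j, by rw [QuotientGroup.mk_zpow, hj]⟩
    · have h1 : (g : S ⧸ D i₀) * y ∈ Subgroup.zpowers (x : S ⧸ D i₀) :=
        (Subgroup.mul_mem_iff_of_index_two hidx₀).mpr (iff_of_false hg hb)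
      obtain ⟨j, hj⟩ := Subgroup.mem_zpowers_iff.mp h1
      exact ⟨x ^ j * y⁻¹, Q.mul_mem (Q.zpow_mem hxQ j) (Q.inv_mem hyQ), by
        rw [QuotientGroup.mk_mul, QuotientGroup.mk_zpow, QuotientGroup.mk_inv, hj, mul_inv_cancel_right]⟩
  let e : ↥Q ≃* S ⧸ D i₀ :=
    MulEquiv.ofBijective ((QuotientGroup.mk' (D i₀)).comp Q.subtype)
      ⟨(injective_iff_map_eq_one _).mpr fun q hq =>
        Subtype.ext (hinj q q.2 ((QuotientGroup.eq_one_iff _).mp hq)),
       fun g => by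
        obtain ⟨g, rfl⟩ := QuotientGroup.mk_surjective g
        obtain ⟨q, hq, hqe⟩ := hsurj g
        exact ⟨⟨q, hq⟩, hqe⟩⟩
  refine ⟨D i₀, Q, ⟨le_top, le_top, ?_, ?_, ?_⟩, ⟨⟨⟨?_⟩⟩, ?_⟩, ?_, ?_⟩
  · intro d hd q _
    exact (Subgroup.mem_center_iff.mp (hDc i₀ hd) q).symm
  · rw [eq_bot_iff]
    rintro q ⟨hqD, hqQ⟩
    exact Subgroup.mem_bot.mpr (hinj q hqQ hqD)
  · rw [eq_top_iff]
    intro g _
    obtain ⟨q, hq, hqe⟩ := hsurj g
    rw [QuotientGroup.eq] at hqe
    rw [sup_comm]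
    simpa using Subgroup.mul_mem_sup hq hqe
  · rintro ⟨u, hu⟩ ⟨v, hv⟩
    exact Subtype.ext (Subgroup.mem_center_iff.mp (hDc i₀ hv) u)
  · intro u hu
    rw [pow_two]; exact hZ2 u (hDc i₀ hu)
  · intro hc
    apply hna
    refine ⟨⟨fun u v => ?_⟩⟩
    obtain ⟨u, rfl⟩ := e.surjective u
    obtain ⟨v, rfl⟩ := e.surjective v
    rw [← map_mul, ← map_mul, mul_comm']
  · obtain ⟨t, ht, htu⟩ := huniq
    refine ⟨e.symm t, (e.symm.orderOf_eq t).trans ht, fun u hu => ?_⟩
    apply e.injective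
    rw [e.apply_symm_apply]
    exact htu _ ((e.orderOf_eq u).trans hu)

end Cfsg.Agent.S3201
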