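import Cfsg.Statements.S3202
import Cfsg.Agent.Lib.InvChar.OneInvolution

set_option autoImplicit false
open Cfsg

namespace Cfsg.Agent.S3202

open scoped commutatorElement

theorem result {S : Type*} [Group S]
    [Finite S] (hS : IsPGroup 2 S) (hr2 : Cfsg.PRankLE 2 2 S) (hr1 : ¬ Cfsg.PRankLE 2 1 S)
    (D : Subgroup ↥(Subgroup.center S)) (hD : IsCoatom D)
    (hq : ∃ (_ : (D.map (Subgroup.center S).subtype).Normal),
      ¬ IsMulCommutative (S ⧸ D.map (Subgroup.center S).subtype) ∧
      ∃! x : S ⧸ D.map (Subgroup.center S).subtype, orderOf x = 2) :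
    ∃ C : Subgroup S, C ≠ ⊥ ∧ IsCyclic ↥C ∧ C.Characteristic := by
  obtain ⟨hn, hna, huniq⟩ := hq
  set D' := D.map (Subgroup.center S).subtype with hD'
  have hDc : D' ≤ Subgroup.center S := Subgroup.map_subtype_le _
  obtain ⟨k, a, hk, hka, hidx, hinv⟩ :=
    CfsgLib.InvChar.exists_cyclic_index_two_of_unique_involution (hS.to_quotient D') hna huniq
  obtain ⟨x, rfl⟩ := QuotientGroup.mk_surjective a
  have hne : Subgroup.zpowers (x : S ⧸ D') ≠ ⊤ := by
    intro h; rw [h, Subgroup.index_top] at hidx; omega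
  obtain ⟨b, -, hb⟩ := SetLike.exists_of_lt (lt_top_iff_ne_top.mpr hne)
  obtain ⟨y, rfl⟩ := QuotientGroup.mk_surjective b
  -- `y x y⁻¹ = x⁻¹ d`
  have hd : x * (y * x * y⁻¹) ∈ D' := by
    rw [← QuotientGroup.eq_one_iff]
    have := (hinv _ hb).1
    simp only [QuotientGroup.mk_mul, QuotientGroup.mk_inv] at this ⊢
    rw [this, mul_inv_cancel]
  obtain ⟨d, hdD, hyx⟩ : ∃ d ∈ D', y * x * y⁻¹ = x⁻¹ * d := ⟨_, hd, by simp [mul_assoc]⟩
  have hdc : ∀ g : S, Commute g d := fun g => Subgroup.mem_center_iff.mp (hDc hdD) g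
  set c : S := y * x * y⁻¹ * x⁻¹ with hc
  have hcx : Commute x c := by
    rw [hc, hyx]
    exact (((Commute.refl x).inv_right).mul_right (hdc x)).mul_right ((Commute.refl x).inv_right)
  have hcy : y * c * y⁻¹ = c⁻¹ := by
    have hd1 : y * d * y⁻¹ = d := by rw [(hdc y).eq, mul_inv_cancel_right]
    rw [hc, hyx]
    calc y * (x⁻¹ * d * x⁻¹) * y⁻¹ = (y * x * y⁻¹)⁻¹ * (y * d * y⁻¹) * (y * x * y⁻¹)⁻¹ := by
          simp [mul_assoc]
      _ = (x⁻¹ * d)⁻¹ * d * (x⁻¹ * d)⁻¹ := by rw [hd1, hyx]
      _ = d⁻¹ * x * d * d⁻¹ * x := by simp [mul_assoc]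
      _ = d⁻¹ * (x * x) := by simp [mul_assoc]
      _ = (x * x) * d⁻¹ := ((hdc (x * x)).inv_right.eq).symm
      _ = x * (d⁻¹ * x) := by rw [mul_assoc, (hdc x).inv_right.eq]
      _ = (x⁻¹ * d * x⁻¹)⁻¹ := by simp [mul_assoc]
  set K := Subgroup.closure (({x, y} : Set S) ∪ (D' : Set S)) with hK
  have hgen : K = ⊤ := by
    rw [eq_top_iff]
    intro g _
    have hxK : x ∈ K := Subgroup.subset_closure (Or.inl (Or.inl rfl))
    have hyK : y ∈ K := Subgroup.subset_closure (Or.inl (Or.inr rfl))
    have key : ∀ h : S, (h : S ⧸ D') ∈ Subgroup.zpowers (x : S ⧸ D') → h ∈ K := by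
      intro h hh
      obtain ⟨i, hi⟩ := Subgroup.mem_zpowers_iff.mp hh
      rw [← QuotientGroup.mk_zpow, QuotientGroup.eq] at hi
      have := K.mul_mem (K.zpow_mem hxK i)
        (Subgroup.subset_closure (Or.inr hi : (x ^ i)⁻¹ * h ∈ ({x, y} : Set S) ∪ (D' : Set S)))
      simpa using this
    by_cases hg : (g : S ⧸ D') ∈ Subgroup.zpowers (x : S ⧸ D')
    · exact key g hg
    · have h1 : ((g * y : S) : S ⧸ D') ∈ Subgroup.zpowers (x : S ⧸ D') := by
        rw [QuotientGroup.mk_mul, Subgroup.mul_mem_iff_of_index_two hidx]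
        exact iff_of_false hg hb
      simpa using K.mul_mem (key _ h1) (K.inv_mem hyK)
  set N := Subgroup.zpowers c with hN
  have hNn : N.Normal := by
    have h1 : K ≤ Subgroup.normalizer (N : Set S) := by
      rw [hK, Subgroup.closure_le]
      have hcomm : ∀ g : S, Commute g c → g ∈ Subgroup.normalizer (N : Set S) := fun g hg =>
        Subgroup.centralizer_le_normalizer _ (Subgroup.mem_centralizer_iff.mpr fun z hz => by
          obtain ⟨i, rfl⟩ := Subgroup.mem_zpowers_iff.mp hz
          exact (hg.zpow_right i).symm.eq)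
      rintro g ((rfl | rfl) | hg)
      · exact hcomm g hcx
      · have hmap : N.map (MulAut.conj g).toMonoidHom = N := by
          rw [hN, MonoidHom.map_zpowers]
          show Subgroup.zpowers (g * c * g⁻¹) = _
          rw [hcy, Subgroup.zpowers_inv]
        rw [SetLike.mem_coe, Subgroup.mem_normalizer_iff]
        intro z
        constructor
        · intro hz; rw [← hmap]; exact ⟨z, hz, rfl⟩
        · intro hz
          rw [← hmap] at hz
          obtain ⟨w, hw, hwe⟩ := hz
          have : w = z := (MulAut.conj g).injective hwe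
          rwa [← this]
      · exact hcomm g ((Subgroup.mem_center_iff.mp (hDc hg) c).symm)
    rw [hgen] at h1
    exact ⟨fun z hz g => (Subgroup.mem_normalizer_iff.mp (h1 (Subgroup.mem_top g)) z).mp hz⟩
  have hcm : commutator S = N := by
    apply le_antisymm
    · -- everything commutes modulo `N`
      let Z : Subgroup (S ⧸ N) := Subgroup.center (S ⧸ N)
      have hK1 : K ≤ Z.comap (QuotientGroup.mk' N) := by
        have hgc : ∀ g : S, (∀ h ∈ ({x, y} : Set S) ∪ (D' : Set S), (g : S ⧸ N) * h = h * g) →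
            g ∈ Z.comap (QuotientGroup.mk' N) := by
          intro g hg
          rw [Subgroup.mem_comap, Subgroup.mem_center_iff]
          intro q
          obtain ⟨h, rfl⟩ := QuotientGroup.mk_surjective q
          have hh : h ∈ (Subgroup.centralizer ({((g : S) : S ⧸ N)} : Set (S ⧸ N))).comap (QuotientGroup.mk' N) := by
            have hle : K ≤ (Subgroup.centralizer ({((g : S) : S ⧸ N)} : Set (S ⧸ N))).comap (QuotientGroup.mk' N) := by
              rw [hK, Subgroup.closure_le]
              intro h hh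
              rw [SetLike.mem_coe, Subgroup.mem_comap, Subgroup.mem_centralizer_singleton_iff]
              exact (hg h hh).symm
            exact hle (hgen ▸ Subgroup.mem_top h)
          exact Subgroup.mem_centralizer_singleton_iff.mp (Subgroup.mem_comap.mp hh)
        have hyxN : (y : S ⧸ N) * x = x * y := by
          have : ((c : S) : S ⧸ N) = 1 := (QuotientGroup.eq_one_iff c).mpr (Subgroup.mem_zpowers c)
          rw [hc] at this
          simp only [QuotientGroup.mk_mul, QuotientGroup.mk_inv] at this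
          rw [mul_inv_eq_one, mul_inv_eq_iff_eq_mul] at this
          exact this
        rw [hK, Subgroup.closure_le]
        intro g hg
        apply hgc
        intro h hh
        rcases hg with (rfl | rfl) | hg
        · rcases hh with (rfl | rfl) | hh
          · rfl
          · exact hyxN.symm
          · rw [← QuotientGroup.mk_mul, ← QuotientGroup.mk_mul, Subgroup.mem_center_iff.mp (hDc hh) g]
        · rcases hh with (rfl | rfl) | hh
          · exact hyxN
          · rfl
          · rw [← QuotientGroup.mk_mul, ← QuotientGroup.mk_mul, Subgroup.mem_center_iff.mp (hDc hh) g]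
        · rw [← QuotientGroup.mk_mul, ← QuotientGroup.mk_mul, Subgroup.mem_center_iff.mp (hDc hg) h]
      rw [commutator_def, Subgroup.commutator_le]
      intro g _ h _
      rw [← QuotientGroup.eq_one_iff]
      have h1 : (g : S ⧸ N) ∈ Z := hK1 (hgen ▸ Subgroup.mem_top g)
      have h2 := Subgroup.mem_center_iff.mp h1 (h : S ⧸ N)
      rw [commutatorElement_def]
      simp only [QuotientGroup.mk_mul, QuotientGroup.mk_inv]
      rw [← h2]; simp [mul_assoc]
    · rw [hN, Subgroup.zpowers_le, hc, ← commutatorElement_def]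
      exact Subgroup.commutator_mem_commutator (Subgroup.mem_top _) (Subgroup.mem_top _)
  refine ⟨N, ?_, inferInstance, ?_⟩
  · rw [hN, Ne, Subgroup.zpowers_eq_bot]
    intro h1
    have h2 : ((x : S ⧸ D')) ^ 2 = 1 := by
      have := congrArg (fun g : S => (g : S ⧸ D')) h1
      rw [hc] at this
      simp only [QuotientGroup.mk_mul, QuotientGroup.mk_inv, QuotientGroup.mk_one] at this
      rw [(hinv _ hb).1, ← mul_inv_rev, inv_eq_one] at this
      rw [pow_two, this]
    have := Nat.le_of_dvd two_pos (orderOf_dvd_of_pow_eq_one h2)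
    rw [hka] at this
    have : 4 ≤ 2 ^ k := by
      calc 4 = 2 ^ 2 := rfl
        _ ≤ _ := Nat.pow_le_pow_right (by norm_num) hk
    omega
  · rw [← hcm]; infer_instance

end Cfsg.Agent.S3202
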