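import Cfsg.Statements.S3203
import Cfsg.Agent.Lib.InvChar.Basic
import Mathlib.GroupTheory.Nilpotent

set_option autoImplicit false
open Cfsg

namespace Cfsg.Agent.S3203

open CfsgLib.InvChar

theorem isElementaryAbelian_map {X Y : Type*} [Group X] [Group Y] (f : X →* Y) {A : Subgroup X}
    (hA : IsElementaryAbelian 2 A) : IsElementaryAbelian 2 (A.map f) := by
  refine ⟨⟨⟨?_⟩⟩, ?_⟩
  · rintro ⟨_, a, ha, rfl⟩ ⟨_, b, hb, rfl⟩
    apply Subtype.ext
    show f a * f b = f b * f a
    have := hA.1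
    rw [← map_mul, ← map_mul, setLike_mul_comm ha hb]
  · rintro _ ⟨a, ha, rfl⟩
    rw [← map_pow, hA.2 a ha, map_one]

theorem isElementaryAbelian_comap {X Y : Type*} [Group X] [Group Y] (f : X →* Y)
    (hf : Function.Injective f) {A : Subgroup Y} (hA : IsElementaryAbelian 2 A) :
    IsElementaryAbelian 2 (A.comap f) := by
  refine ⟨⟨⟨?_⟩⟩, ?_⟩
  · rintro ⟨a, ha⟩ ⟨b, hb⟩
    apply Subtype.ext
    apply hf
    show f (a * b) = f (b * a)
    have := hA.1
    rw [map_mul, map_mul, setLike_mul_comm (show f a ∈ A from ha) (show f b ∈ A from hb)]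
  · intro a ha
    apply hf
    rw [map_pow, hA.2 _ ha, map_one]

theorem exists_maximal_ge {X : Type*} [Group X] [Finite X] {C : Subgroup X}
    (hC : IsElementaryAbelian 2 C) :
    ∃ M : Subgroup X, IsElementaryAbelian 2 M ∧ C ≤ M ∧
      ∀ D : Subgroup X, IsElementaryAbelian 2 D → M ≤ D → D = M := by
  obtain ⟨M, hM⟩ := Set.Finite.exists_maximal (Set.toFinite {D : Subgroup X | IsElementaryAbelian 2 D ∧ C ≤ D})
    ⟨C, hC, le_rfl⟩
  exact ⟨M, hM.prop.1, hM.prop.2, fun D hD hle => le_antisymm (hM.le_of_ge ⟨hD, hM.prop.2.trans hle⟩ hle) hle⟩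

/-- The conjugate of a maximal elementary abelian subgroup is maximal. -/
theorem conj_isMax {X : Type*} [Group X] {A : Subgroup X}
    (hA : IsElementaryAbelian 2 A ∧ ∀ C : Subgroup X, IsElementaryAbelian 2 C → A ≤ C → C = A) (s : X) :
    IsElementaryAbelian 2 (conjSub s A) ∧
      ∀ C : Subgroup X, IsElementaryAbelian 2 C → conjSub s A ≤ C → C = conjSub s A := by
  refine ⟨isElementaryAbelian_map _ hA.1, fun C hC hle => ?_⟩
  have h1 := conjSub_mono s⁻¹ hle
  rw [conjSub_mul, inv_mul_cancel, conjSub_one] at h1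
  have h2 : conjSub s⁻¹ C = A := hA.2 _ (isElementaryAbelian_map _ hC) h1
  rw [← h2, conjSub_mul, mul_inv_cancel, conjSub_one]

theorem result {G : Type*} [Group G] [Finite G] (S : Sylow 2 G)
    (A B : Subgroup ↥(S : Subgroup G)) (hAB : A ≠ B)
    (hA : Cfsg.IsElementaryAbelian 2 A ∧ ∀ C : Subgroup ↥(S : Subgroup G), Cfsg.IsElementaryAbelian 2 C → A ≤ C → C = A)
    (hB : Cfsg.IsElementaryAbelian 2 B ∧ ∀ C : Subgroup ↥(S : Subgroup G), Cfsg.IsElementaryAbelian 2 C → B ≤ C → C = B)
    (honly : ∀ C : Subgroup ↥(S : Subgroup G), Cfsg.IsElementaryAbelian 2 C →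
      (∀ D : Subgroup ↥(S : Subgroup G), Cfsg.IsElementaryAbelian 2 D → C ≤ D → D = C) → C = A ∨ C = B)
    (hprod : ∀ s : ↥(S : Subgroup G), ∃ a ∈ A, ∃ b ∈ B, a * b = s)
    (A' B' : Subgroup G) (hA' : A' = A.map (S : Subgroup G).subtype) (hB' : B' = B.map (S : Subgroup G).subtype) :
    Cfsg.IsWeaklyClosed A' (S : Subgroup G) ∧ Cfsg.IsWeaklyClosed B' (S : Subgroup G) ∧
      Subgroup.normalizer ((S : Subgroup G) : Set G) ≤ Subgroup.normalizer (A' : Set G) ⊓ Subgroup.normalizer (B' : Set G) := by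
  have fix : ∀ (C : Subgroup ↥(S : Subgroup G)), ∀ c ∈ C, conjSub c C = C := fun C c hc =>
    mem_normalizer_iff_conjSub.mp (Subgroup.le_normalizer hc)
  have inj : ∀ (s : ↥(S : Subgroup G)) {C D : Subgroup ↥(S : Subgroup G)}, conjSub s C = conjSub s D → C = D :=
    fun s C D h => by
      have := congrArg (conjSub s⁻¹) h
      rwa [conjSub_mul, conjSub_mul, inv_mul_cancel, conjSub_one, conjSub_one] at this
  have hnA : ∀ s, conjSub s A = A := by
    intro s
    obtain ⟨a, ha, b, hb, rfl⟩ := hprod s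
    have hb' : conjSub b A = A := by
      rcases honly _ (conj_isMax hA b).1 (conj_isMax hA b).2 with h | h
      · exact h
      · exact absurd (inj b (h.trans (fix B b hb).symm)) hAB
    rw [← conjSub_mul, hb', fix A a ha]
  have hnB : ∀ s, conjSub s B = B := by
    intro s
    obtain ⟨a, ha, b, hb, rfl⟩ := hprod s
    rw [← conjSub_mul, fix B b hb]
    rcases honly _ (conj_isMax hB a).1 (conj_isMax hB a).2 with h | h
    · exact absurd (inj a (h.trans (fix A a ha).symm)).symm hAB
    · exact h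
  have hSn : ∀ C : Subgroup ↥(S : Subgroup G), (∀ s, conjSub s C = C) →
      (S : Subgroup G) ≤ Subgroup.normalizer ((C.map (S : Subgroup G).subtype : Subgroup G) : Set G) := by
    intro C hC s hs
    rw [mem_normalizer_iff_conjSub]
    conv_rhs => rw [← hC ⟨s, hs⟩]
    rw [conjSub, conjSub, Subgroup.map_map, Subgroup.map_map]
    rfl
  -- move a subgroup of S back into S
  have back : ∀ E : Subgroup G, E ≤ (S : Subgroup G) → IsElementaryAbelian 2 E →
      E ≤ A' ∨ E ≤ B' := by
    intro E hE hEa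
    obtain ⟨M, hM, hle, hmax⟩ := exists_maximal_ge
      (isElementaryAbelian_comap _ (S : Subgroup G).subtype_injective hEa)
    have h2 : E ≤ M.map (S : Subgroup G).subtype := fun e he => ⟨⟨e, hE he⟩, hle he, rfl⟩
    rcases honly M hM hmax with rfl | rfl
    · left; rw [hA']; exact h2
    · right; rw [hB']; exact h2
  have hA'e : IsElementaryAbelian 2 A' := hA' ▸ isElementaryAbelian_map _ hA.1
  have hB'e : IsElementaryAbelian 2 B' := hB' ▸ isElementaryAbelian_map _ hB.1
  have hA'S : A' ≤ (S : Subgroup G) := hA' ▸ Subgroup.map_subtype_le _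
  have hB'S : B' ≤ (S : Subgroup G) := hB' ▸ Subgroup.map_subtype_le _
  have hA'B' : A' ≠ B' := fun h => hAB (Subgroup.map_injective (S : Subgroup G).subtype_injective
    (hA'.symm.trans (h.trans hB')))
  have hmaxA : ∀ E : Subgroup G, E ≤ (S : Subgroup G) → IsElementaryAbelian 2 E → A' ≤ E → E = A' := by
    intro E hE hEa hle
    rcases back E hE hEa with h | h
    · exact le_antisymm h hle
    · refine absurd (hA.2 B hB.1 ?_).symm hAB
      intro a ha
      have : (a : G) ∈ B' := h (hle (hA' ▸ ⟨a, ha, rfl⟩))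
      rw [hB'] at this
      obtain ⟨b, hb, hbe⟩ := this
      rwa [← Subtype.ext hbe]
  have hmaxB : ∀ E : Subgroup G, E ≤ (S : Subgroup G) → IsElementaryAbelian 2 E → B' ≤ E → E = B' := by
    intro E hE hEa hle
    rcases back E hE hEa with h | h
    · refine absurd (hB.2 A hA.1 ?_) hAB
      intro b hb
      have : (b : G) ∈ A' := h (hle (hB' ▸ ⟨b, hb, rfl⟩))
      rw [hA'] at this
      obtain ⟨a, ha, hae⟩ := this
      rwa [← Subtype.ext hae]
    · exact le_antisymm h hle
  have hNSA : (S : Subgroup G) ≤ Subgroup.normalizer (A' : Set G) := hA' ▸ hSn A hnA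
  have hNSB : (S : Subgroup G) ≤ Subgroup.normalizer (B' : Set G) := hB' ▸ hSn B hnB
  -- N(S) fixes a maximal one
  have hNS : ∀ C D : Subgroup G, C ≤ (S : Subgroup G) → D ≤ (S : Subgroup G) →
      IsElementaryAbelian 2 C → IsElementaryAbelian 2 D →
      (∀ E : Subgroup G, E ≤ (S : Subgroup G) → IsElementaryAbelian 2 E → C ≤ E → E = C) →
      (∀ E : Subgroup G, E ≤ (S : Subgroup G) → IsElementaryAbelian 2 E → E ≤ C ∨ E ≤ D) →
      (∀ E : Subgroup G, E ≤ (S : Subgroup G) → IsElementaryAbelian 2 E → D ≤ E → E = D) →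
      (S : Subgroup G) ≤ Subgroup.normalizer (C : Set G) → C ≠ D →
      Subgroup.normalizer ((S : Subgroup G) : Set G) ≤ Subgroup.normalizer (C : Set G) := by
    intro C D hC hD hCe hDe hCm hcd hDm hSC hne n hn
    have himg : ∀ E : Subgroup G, E ≤ (S : Subgroup G) → IsElementaryAbelian 2 E →
        (∀ F : Subgroup G, F ≤ (S : Subgroup G) → IsElementaryAbelian 2 F → E ≤ F → F = E) →
        conjSub n E = C ∨ conjSub n E = D := by
      intro E hE hEe hEm
      have h1 : conjSub n E ≤ (S : Subgroup G) := by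
        rw [← mem_normalizer_iff_conjSub.mp hn]; exact conjSub_mono n hE
      have h2 : ∀ F : Subgroup G, F ≤ (S : Subgroup G) → IsElementaryAbelian 2 F → conjSub n E ≤ F → F = conjSub n E := by
        intro F hF hFe hle
        have h3 := conjSub_mono n⁻¹ hle
        rw [conjSub_mul, inv_mul_cancel, conjSub_one] at h3
        have h4 : conjSub n⁻¹ F ≤ (S : Subgroup G) := by
          rw [← mem_normalizer_iff_conjSub.mp (Subgroup.inv_mem _ hn)]; exact conjSub_mono _ hF
        rw [← hEm _ h4 (isElementaryAbelian_map _ hFe) h3, conjSub_mul, mul_inv_cancel, conjSub_one]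
      rcases hcd _ h1 (isElementaryAbelian_map _ hEe) with h | h
      · exact Or.inl (h2 C hC hCe h).symm
      · exact Or.inr (h2 D hD hDe h).symm
    have hn2 : n ^ 2 ∈ Subgroup.normalizer (C : Set G) := by
      rw [mem_normalizer_iff_conjSub, pow_two, ← conjSub_mul]
      rcases himg C hC hCe hCm with h | h
      · rw [h, h]
      · rw [h]
        rcases himg D hD hDe hDm with h' | h'
        · exact h'
        · refine absurd ?_ hne
          have := congrArg (conjSub n⁻¹) (h.trans h'.symm)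
          rwa [conjSub_mul, conjSub_mul, inv_mul_cancel, conjSub_one, conjSub_one] at this
    obtain ⟨k, m, hm, hkm⟩ := Nat.exists_eq_two_pow_mul_odd (orderOf_pos n).ne'
    have hnm : n ^ m ∈ Subgroup.normalizer (C : Set G) := by
      apply hSC
      have hp : IsPGroup 2 ↥(Subgroup.zpowers (n ^ m)) := by
        refine IsPGroup.of_card_dvd_pow (n := k) ?_
        rw [Nat.card_zpowers]
        apply orderOf_dvd_of_pow_eq_one
        rw [← pow_mul, mul_comm, ← hkm, pow_orderOf_eq_one]
      have hle : Subgroup.zpowers (n ^ m) ≤ Subgroup.normalizer ((S : Subgroup G) : Set G) :=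
        Subgroup.zpowers_le.mpr (Subgroup.pow_mem _ hn m)
      have h2 := hp.to_sup_of_normal_right' S.isPGroup' hle
      rw [← S.is_maximal' h2 le_sup_right]
      exact Subgroup.mem_sup_left (Subgroup.mem_zpowers _)
    obtain ⟨r, rfl⟩ := hm
    rw [pow_succ, pow_mul] at hnm
    exact (Subgroup.mul_mem_cancel_left _ (Subgroup.pow_mem _ hn2 r)).mp hnm
  have hNA := hNS A' B' hA'S hB'S hA'e hB'e hmaxA back hmaxB hNSA hA'B'
  have hNB := hNS B' A' hB'S hA'S hB'e hA'e hmaxB (fun E h1 h2 => (back E h1 h2).symm) hmaxA hNSB hA'B'.symm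
  -- weak closure
  have hweak : ∀ C D : Subgroup G, C ≤ (S : Subgroup G) → D ≤ (S : Subgroup G) →
      IsElementaryAbelian 2 D →
      (∀ E : Subgroup G, E ≤ (S : Subgroup G) → IsElementaryAbelian 2 E → C ≤ E → E = C) →
      (∀ E : Subgroup G, E ≤ (S : Subgroup G) → IsElementaryAbelian 2 E → E ≤ C ∨ E ≤ D) →
      IsElementaryAbelian 2 C →
      (S : Subgroup G) ≤ Subgroup.normalizer (C : Set G) → (S : Subgroup G) ≤ Subgroup.normalizer (D : Set G) →
      Subgroup.normalizer ((S : Subgroup G) : Set G) ≤ Subgroup.normalizer (D : Set G) → C ≠ D →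
      Cfsg.IsWeaklyClosed C (S : Subgroup G) := by
    intro C D hC hD hDe hCm hcd hCe hSC hSD hND hne
    refine ⟨hC, fun g hg => ?_⟩
    rcases hcd _ hg (isElementaryAbelian_map _ hCe) with h | h
    · exact conjSub_eq_of_le h le_rfl
    · exfalso
      have hD2 : IsPGroup 2 ↥D := IsPGroup.to_le S.isPGroup' hD
      have h1 : C ≤ conjSub g⁻¹ D := conjSub_le_iff.mp h
      have hDn : conjSub g⁻¹ D ≤ Subgroup.normalizer (C : Set G) := by
        refine le_trans ?_ (Subgroup.centralizer_le_normalizer _)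
        intro x hx
        rw [Subgroup.mem_centralizer_iff]
        intro c hc
        have := (isElementaryAbelian_map (MulAut.conj g⁻¹).toMonoidHom hDe).1
        exact setLike_mul_comm (h1 hc) hx
      obtain ⟨k, hk, R, hR, -, hSR, hDR⟩ :=
        exists_join_pGroup S.isPGroup' hSC (isPGroup_conjSub hD2 g⁻¹) hDn
      rw [S.is_maximal' hR hSR] at hDR
      have hCk : C ≤ conjSub k (conjSub g⁻¹ D) := by
        rw [← mem_normalizer_iff_conjSub.mp hk]; exact conjSub_mono k h1
      have heq := hCm _ hDR (isElementaryAbelian_map _ (isElementaryAbelian_map _ hDe)) hCk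
      rw [conjSub_mul] at heq
      set l := k * g⁻¹
      have hS2 : conjSub l (S : Subgroup G) ≤ Subgroup.normalizer (C : Set G) := by
        intro x hx
        rw [mem_conjSub] at hx
        rw [mem_normalizer_iff_conjSub, ← heq, conjSub_mul]
        have hx' := mem_normalizer_iff_conjSub.mp (hSD hx)
        have := congrArg (conjSub l) hx'
        rw [conjSub_mul] at this
        rwa [show l * (l⁻¹ * x * l) = x * l by simp [mul_assoc]] at this
      obtain ⟨k2, hk2, R2, hR2, -, hSR2, hlR⟩ :=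
        exists_join_pGroup S.isPGroup' hSC (isPGroup_conjSub S.isPGroup' l) hS2
      rw [S.is_maximal' hR2 hSR2, conjSub_mul] at hlR
      have hN : k2 * l ∈ Subgroup.normalizer ((S : Subgroup G) : Set G) :=
        mem_normalizer_iff_conjSub.mpr (conjSub_eq_of_le hlR le_rfl)
      have h5 := mem_normalizer_iff_conjSub.mp (hND hN)
      rw [← conjSub_mul, heq, mem_normalizer_iff_conjSub.mp hk2] at h5
      exact hne h5
  exact ⟨hweak A' B' hA'S hB'S hB'e hmaxA back hA'e hNSA hNSB hNB hA'B',
    hweak B' A' hB'S hA'S hA'e hmaxB (fun E h1 h2 => (back E h1 h2).symm) hB'e hNSB hNSA hNA hA'B'.symm,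
    le_inf hNA hNB⟩

end Cfsg.Agent.S3203
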