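import Cfsg.Statements.S3206
import Cfsg.Agent.Lib.JankoRee.Main
import Cfsg.Agent.Lib.JankoRee.Auto

set_option autoImplicit false
open Cfsg
open scoped Pointwise

namespace Cfsg.Agent.S3206

/-- Let G be a non-abelian finite simple group with abelian Sylow 2-subgroups, and let t be an involution of G whose centralizer is a maximal subgroup of G and is the direct product of the subgroup generated by t with a subgroup E having a normal subgroup isomorphic to PSL(2, q), q odd and greater than 3, with trivial centralizer in E. Then every finite perfect group having a central 2-subgroup with quotient isomorphic to G has that central subgroup trivial (G has no nontrivial perfect central extension by a 2-group), and every automorphism of G of 2-power order that fixes every element of some Sylow 2-subgroup of G is inner. -/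
theorem result {G : Type*} [Group G] [Finite G] [IsSimpleGroup G]
    (hG : ¬ IsMulCommutative G) (hab : ∀ S : Sylow 2 G, IsMulCommutative ↥(S : Subgroup G))
    (t : G) (ht : orderOf t = 2) (hmax : IsCoatom (Subgroup.centralizer ({t} : Set G)))
    (E : Subgroup G) (hE : Cfsg.IsInternalDirectProduct (Subgroup.zpowers t) E (Subgroup.centralizer ({t} : Set G)))
    {F : Type*} [Field F] [Fintype F] (hFo : Odd (Fintype.card F)) (hF3 : 3 < Fintype.card F)
    (N : Subgroup ↥E) [N.Normal] (hN : Nonempty (↥N ≃* Matrix.ProjectiveSpecialLinearGroup (Fin 2) F))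
    (hNc : Subgroup.centralizer (N : Set ↥E) = ⊥) :
    (∀ (L : Type) (_ : Group L) (_ : Finite L) (Z : Subgroup L) (_ : Z.Normal), commutator L = ⊤ → Z ≤ Subgroup.center L →
        IsPGroup 2 ↥Z → Nonempty (L ⧸ Z ≃* G) → Z = ⊥) ∧
    (∀ (φ : G ≃* G) (k : ℕ), φ ^ (2 ^ k) = 1 → (∃ S : Sylow 2 G, ∀ s ∈ (S : Subgroup G), φ s = s) →
        ∃ g : G, ∀ x : G, φ x = g * x * g⁻¹) := by
  haveI : Fact (Nat.Prime 2) := ⟨Nat.prime_two⟩
  obtain ⟨e⟩ := hN
  obtain ⟨hzle, hEle, hcomm, hdisj, hsup⟩ := hE
  set C := Subgroup.centralizer ({t} : Set G) with hC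
  set M : Subgroup G := N.map E.subtype with hM
  have hME : M ≤ E := Subgroup.map_subtype_le N
  have hdec : ∀ c ∈ C, ∃ i : ℤ, ∃ x ∈ E, c = t ^ i * x := by
    intro c hc
    have hc' : c ∈ ((Subgroup.zpowers t ⊔ E : Subgroup G) : Set G) := by rw [hsup]; exact hc
    rw [Subgroup.coe_mul_of_left_le_normalizer_right _ _ (fun z hz =>
      Subgroup.centralizer_le_normalizer _ (Subgroup.mem_centralizer_iff.mpr fun x hx =>
        (hcomm z hz x hx).symm))] at hc'
    obtain ⟨a, ha, x, hx, hax⟩ := hc'
    obtain ⟨i, rfl⟩ := Subgroup.mem_zpowers_iff.mp ha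
    exact ⟨i, x, hx, hax.symm⟩
  have hti : ∀ (i : ℤ) (x : G), x ∈ E → t ^ i * x = x * t ^ i := fun i x hx =>
    hcomm _ (Subgroup.zpow_mem_zpowers t i) x hx
  let D : CfsgLib.JankoRee.Setup F t M :=
    { simple := inferInstance
      noncomm := hG
      hab := hab
      ht := ht
      hmax := hmax
      hFo := hFo
      hF3 := hF3
      hMC := hME.trans hEle
      hMn := by
        intro c hc
        obtain ⟨i, x, hx, rfl⟩ := hdec c hc
        apply Subgroup.mem_normalizer_fintype
        rintro _ ⟨m, hm, rfl⟩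
        refine ⟨⟨x, hx⟩ * m * ⟨x, hx⟩⁻¹, Subgroup.Normal.conj_mem inferInstance m hm _, ?_⟩
        show x * (m : G) * x⁻¹ = t ^ i * x * (m : G) * (t ^ i * x)⁻¹
        have h := hti i (x * (m : G) * x⁻¹) (E.mul_mem (E.mul_mem hx m.2) (E.inv_mem hx))
        calc x * (m : G) * x⁻¹ = x * (m : G) * x⁻¹ * t ^ i * (t ^ i)⁻¹ := (mul_inv_cancel_right _ _).symm
          _ = t ^ i * (x * (m : G) * x⁻¹) * (t ^ i)⁻¹ := by rw [h]
          _ = _ := by group
      hCM := by
        intro c hc hcm
        obtain ⟨i, x, hx, rfl⟩ := hdec c hc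
        have hxN : (⟨x, hx⟩ : ↥E) ∈ Subgroup.centralizer (N : Set ↥E) :=
          Subgroup.mem_centralizer_iff.mpr fun m hm => Subtype.ext (by
            show (m : G) * x = x * (m : G)
            have h1 := hcm (m : G) ⟨m, hm, rfl⟩
            have h2 := hti i (m : G) m.2
            apply mul_left_cancel (a := t ^ i)
            rw [← mul_assoc, h2, mul_assoc, ← mul_assoc (t ^ i) x, h1])
        rw [hNc, Subgroup.mem_bot] at hxN
        have hx1 : x = 1 := congrArg Subtype.val hxN
        rw [hx1, mul_one]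
        exact Subgroup.zpow_mem_zpowers t i
      equiv := (N.equivMapOfInjective E.subtype E.subtype_injective).symm.trans e }
  refine ⟨?_, ?_⟩
  · intro L _ _ Z _ hL hZc hZ2 hiso
    obtain ⟨iso⟩ := hiso
    obtain ⟨S, hS⟩ := (IsPGroup.of_card (n := 1) (p := 2) (G := ↥(Subgroup.zpowers t))
      (by rw [Nat.card_zpowers, ht]; norm_num)).exists_le_sylow
    have hker : (iso.toMonoidHom.comp (QuotientGroup.mk' Z)).ker = Z := by
      ext x
      simp [MonoidHom.mem_ker]
    have h := D.cover_trivial (S := S) (hS (Subgroup.mem_zpowers t))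
      (iso.toMonoidHom.comp (QuotientGroup.mk' Z))
      (iso.surjective.comp (QuotientGroup.mk'_surjective Z)) hL (by rw [hker]; exact hZc)
      (by rw [hker]; exact hZ2)
    rwa [hker] at h
  · rintro φ k hk ⟨S, hS⟩
    obtain ⟨T, hT⟩ := (IsPGroup.of_card (n := 1) (p := 2) (G := ↥(Subgroup.zpowers t))
      (by rw [Nat.card_zpowers, ht]; norm_num)).exists_le_sylow
    obtain ⟨g, hg⟩ := MulAction.exists_smul_eq G S T
    have hk' : (φ : MulAut G) ^ (2 ^ k) = 1 := hk
    have hpow : (MulAut.conj g * (φ : MulAut G) * (MulAut.conj g)⁻¹) ^ (2 ^ k) = 1 := by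
      rw [conj_pow, hk', mul_one, mul_inv_cancel]
    have hval : ∀ x, (MulAut.conj g * (φ : MulAut G) * (MulAut.conj g)⁻¹) x =
        g * φ (g⁻¹ * x * g) * g⁻¹ := fun x => by
      simp [mul_assoc]
    have hfix : ∀ s ∈ (T : Subgroup G),
        (MulAut.conj g * (φ : MulAut G) * (MulAut.conj g)⁻¹) s = s := by
      intro s hs
      rw [hval]
      have hs' : g⁻¹ * s * g ∈ (S : Subgroup G) := by
        rw [← hg] at hs
        have hs2 : s ∈ MulAut.conj g • (S : Subgroup G) := hs
        rw [Subgroup.mem_pointwise_smul_iff_inv_smul_mem] at hs2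
        simpa [MulAut.smul_def] using hs2
      rw [hS _ hs']
      group
    obtain ⟨a, ha⟩ := D.inner_of_fix (S := T) (hT (Subgroup.mem_zpowers t)) _ k hpow hfix
    refine ⟨g⁻¹ * a * g, fun x => ?_⟩
    have h := ha (g * x * g⁻¹)
    rw [hval] at h
    have h' : g * φ x * g⁻¹ = a * (g * x * g⁻¹) * a⁻¹ := by
      rw [← h]; congr 3; group
    calc φ x = g⁻¹ * (g * φ x * g⁻¹) * g := by group
      _ = _ := by rw [h']; group

end Cfsg.Agent.S3206
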