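import Cfsg.Statements.S3208
import Cfsg.Agent.Lib.InvChar.Basic
import Mathlib.GroupTheory.Nilpotent
import Mathlib.Tactic.IntervalCases

set_option autoImplicit false
open Cfsg

namespace Cfsg.Agent.S3208

open CfsgLib.InvChar

theorem result {G : Type*} [Group G] [Finite G]
    (j : G) (hj : orderOf j = 2) (H T : Subgroup G) (hT : T ≤ H ⊓ Subgroup.centralizer ({j} : Set G)) (h2 : IsPGroup 2 ↥T)
    (hSyl : ¬ 2 ∣ T.relIndex (H ⊓ Subgroup.centralizer ({j} : Set G))) (hjT : j ∈ T)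
    (hchar : ((Subgroup.zpowers j).subgroupOf T).Characteristic) :
    ¬ 2 ∣ T.relIndex H := by
  intro hdvd
  have hTH : T ≤ H := hT.trans inf_le_left
  have h2' : IsPGroup 2 ↥(T.subgroupOf H) := h2.comap_of_injective _ H.subtype_injective
  obtain ⟨R, hR⟩ := h2'.exists_le_sylow
  have hne : T.subgroupOf H ≠ (R : Subgroup ↥H) := by
    intro h
    apply R.not_dvd_index
    rwa [← h]
  have hRnil : NormalizerCondition ↥(R : Subgroup ↥H) :=
    have := R.isPGroup'.isNilpotent
    normalizerCondition_of_isNilpotent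
  have hlt : (T.subgroupOf H).subgroupOf (R : Subgroup ↥H) < ⊤ := by
    rw [lt_top_iff_ne_top]
    intro h
    exact hne (le_antisymm hR (Subgroup.subgroupOf_eq_top.mp h))
  obtain ⟨x, hxN, hxT⟩ := SetLike.exists_of_lt (hRnil _ hlt)
  let y : G := ((x : ↥H) : G)
  have hyH : y ∈ H := (x : ↥H).2
  have hyN : y ∈ Subgroup.normalizer (T : Set G) := by
    rw [Subgroup.mem_normalizer_iff]
    intro t
    constructor
    · intro ht
      exact ((Subgroup.mem_normalizer_iff.mp hxN) ⟨⟨t, hTH ht⟩, hR ht⟩).mp ht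
    · intro ht
      have htH : t ∈ H := by
        have := H.mul_mem (H.mul_mem (H.inv_mem hyH) (hTH ht)) hyH
        simpa [mul_assoc] using this
      have hts : (⟨t, htH⟩ : ↥H) ∈ (R : Subgroup ↥H) := by
        have h1 : (x : ↥H) * ⟨t, htH⟩ * (x : ↥H)⁻¹ ∈ (R : Subgroup ↥H) := hR ht
        have := (R : Subgroup ↥H).mul_mem ((R : Subgroup ↥H).mul_mem ((R : Subgroup ↥H).inv_mem x.2) h1) x.2
        simpa [mul_assoc] using this
      exact ((Subgroup.mem_normalizer_iff.mp hxN) ⟨⟨t, htH⟩, hts⟩).mpr ht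
  -- conjugation by y fixes j
  have hyj : y * j * y⁻¹ = j := by
    let φ : ↥T ≃* ↥T := 
      { toFun := fun t => ⟨y * t * y⁻¹, (Subgroup.mem_normalizer_iff.mp hyN t).mp t.2⟩
        invFun := fun t => ⟨y⁻¹ * t * y, by
          have := (Subgroup.mem_normalizer_iff.mp (Subgroup.inv_mem _ hyN) t).mp t.2
          simpa using this⟩
        left_inv := fun t => Subtype.ext (by simp [mul_assoc])
        right_inv := fun t => Subtype.ext (by simp [mul_assoc])
        map_mul' := fun a b => Subtype.ext (by simp [mul_assoc]) }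
    have h1 : (⟨j, hjT⟩ : ↥T) ∈ (Subgroup.zpowers j).subgroupOf T := Subgroup.mem_zpowers j
    rw [← hchar.fixed φ] at h1
    have h3 : y * j * y⁻¹ ∈ Subgroup.zpowers j := h1
    obtain ⟨k, hk⟩ := Subgroup.mem_zpowers_iff.mp h3
    rw [← zpow_mod_orderOf, hj] at hk
    rcases Int.emod_two_eq_zero_or_one k with hk2 | hk2
    · rw [show ((2 : ℕ) : ℤ) = 2 from rfl, hk2, zpow_zero] at hk
      have : j = 1 := by
        have := congrArg (fun a => y⁻¹ * a * y) hk.symm
        simpa [mul_assoc] using this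
      rw [this, orderOf_one] at hj
      exact absurd hj (by norm_num)
    · rw [show ((2 : ℕ) : ℤ) = 2 from rfl, hk2, zpow_one] at hk; exact hk.symm
  -- N_R(T) is a larger 2-subgroup of H ⊓ C(j)
  let U : Subgroup G := T ⊔ Subgroup.zpowers y
  have hUR : U ≤ ((R : Subgroup ↥H).map H.subtype) := by
    refine sup_le (fun t ht => ⟨⟨t, hTH ht⟩, hR ht, rfl⟩) ?_
    rw [Subgroup.zpowers_le]
    exact ⟨(x : ↥H), x.2, rfl⟩
  have hUC : U ≤ H ⊓ Subgroup.centralizer ({j} : Set G) := by
    refine sup_le hT ?_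
    rw [Subgroup.zpowers_le]
    refine ⟨hyH, Subgroup.mem_centralizer_singleton_iff.mpr ?_⟩
    calc y * j = y * j * y⁻¹ * y := by simp [mul_assoc]
      _ = j * y := by rw [hyj]
  have hU2 : IsPGroup 2 ↥U := (R.isPGroup'.map _).to_le hUR
  obtain ⟨n, hn⟩ := IsPGroup.index
    (hU2.of_equiv (MulEquiv.refl _)) (T.subgroupOf U)
  have hdvd' : T.relIndex U ∣ T.relIndex (H ⊓ Subgroup.centralizer ({j} : Set G)) :=
    Dvd.intro _ (Subgroup.relIndex_mul_relIndex T U _ le_sup_left hUC)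
  have hn0 : n = 0 := by
    by_contra h0
    exact hSyl ((dvd_trans (dvd_pow_self 2 h0) (hn ▸ dvd_refl _)).trans hdvd')
  rw [hn0, pow_zero] at hn
  have hUT : U ≤ T := Subgroup.relIndex_eq_one.mp hn
  exact hxT (show y ∈ T from hUT (Subgroup.mem_sup_right (Subgroup.mem_zpowers y)))

end Cfsg.Agent.S3208
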