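import Cfsg.Statements.S3210
import Cfsg.Agent.Lib.InvChar.SL2Pair

set_option autoImplicit false
open Cfsg

namespace Cfsg.Agent.S3210

open CfsgLib.InvChar

universe u v

/-- Of two commuting subgroups, the first normalised by `L`, one meets `L` in `⟨j⟩`. -/
theorem inf_le_or {G : Type*} [Group G] {F : Type*} [Field F] [Fintype F] (h : (2 : F) ≠ 0)
    {L M M' : Subgroup G} (e : ↥L ≃* Matrix.SpecialLinearGroup (Fin 2) F)
    {j : G} (hj : orderOf j = 2) (hjL : j ∈ L) (hMn : ∀ g ∈ L, ∀ x ∈ M, g * x * g⁻¹ ∈ M)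
    (hcM : ∀ x ∈ M, ∀ y ∈ M', x * y = y * x) :
    M ⊓ L ≤ Subgroup.zpowers j ∨ M' ⊓ L ≤ Subgroup.zpowers j := by
  let N := (M.subgroupOf L).map e.toMonoidHom
  let N' := (M'.subgroupOf L).map e.toMonoidHom
  have hn : N.Normal := by
    refine ⟨fun z hz U => ?_⟩
    obtain ⟨x, hx, rfl⟩ := Subgroup.mem_map.mp hz
    obtain ⟨g, rfl⟩ := e.surjective U
    refine Subgroup.mem_map.mpr ⟨g * x * g⁻¹, ?_, by simp⟩
    exact Subgroup.mem_subgroupOf.mpr (by simpa using hMn g g.2 x (Subgroup.mem_subgroupOf.mp hx))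
  have hcN : ∀ a ∈ N, ∀ b ∈ N', a * b = b * a := by
    intro a ha b hb
    obtain ⟨x, hx, rfl⟩ := Subgroup.mem_map.mp ha
    obtain ⟨y, hy, rfl⟩ := Subgroup.mem_map.mp hb
    rw [← map_mul, ← map_mul]
    exact congrArg _ (Subtype.ext (hcM x (Subgroup.mem_subgroupOf.mp hx) y (Subgroup.mem_subgroupOf.mp hy)))
  have key : ∀ K : Subgroup G, (K.subgroupOf L).map e.toMonoidHom ≤ Subgroup.center _ →
      K ⊓ L ≤ Subgroup.zpowers j := by
    intro K hK x hx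
    obtain ⟨hxK, hxL⟩ := Subgroup.mem_inf.mp hx
    have hcen := hK (Subgroup.mem_map_of_mem e.toMonoidHom
      (show (⟨x, hxL⟩ : ↥L) ∈ K.subgroupOf L from Subgroup.mem_subgroupOf.mpr hxK))
    rcases sl2iso_center h e hj hjL hxL (fun y hy => by
      have h2 : e ⟨y, hy⟩ * e ⟨x, hxL⟩ = e ⟨x, hxL⟩ * e ⟨y, hy⟩ :=
        Subgroup.mem_center_iff.mp hcen (e ⟨y, hy⟩)
      rw [← map_mul, ← map_mul] at h2
      exact (congrArg Subtype.val (e.injective h2)).symm) with rfl | rfl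
    · exact Subgroup.one_mem _
    · exact Subgroup.mem_zpowers _
  rcases sl2_central_of_commuting_normal h N N' hn hcN with h' | h'
  · exact Or.inl (key M h')
  · exact Or.inr (key M' h')

theorem result {G : Type*} [Group G] [Finite G]
    {F₁ : Type*} [Field F₁] [Fintype F₁] {F₂ : Type*} [Field F₂] [Fintype F₂]
    (hF₁ : Odd (Fintype.card F₁)) (hF₂ : Odd (Fintype.card F₂)) (L₁ L₂ : Subgroup G)
    (e₁ : ↥L₁ ≃* Matrix.SpecialLinearGroup (Fin 2) F₁) (e₂ : ↥L₂ ≃* Matrix.SpecialLinearGroup (Fin 2) F₂)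
    (hc : ∀ x ∈ L₁, ∀ y ∈ L₂, x * y = y * x) (j : G) (hj : orderOf j = 2) (hm : L₁ ⊓ L₂ = Subgroup.zpowers j)
    (hle : L₁ ⊔ L₂ ≤ Subgroup.centralizer ({j} : Set G)) (hi : (L₁ ⊔ L₂).relIndex (Subgroup.centralizer ({j} : Set G)) = 2) (n : G) (hn : n ∈ Subgroup.centralizer ({j} : Set G)) (hn' : n ∉ L₁ ⊔ L₂) :
    (L₁.map (MulAut.conj n).toMonoidHom = L₁ ∧ L₂.map (MulAut.conj n).toMonoidHom = L₂) ∨
      (L₁.map (MulAut.conj n).toMonoidHom = L₂ ∧ Fintype.card F₁ = Fintype.card F₂ ∧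
        ∃ n' ∈ Subgroup.centralizer ({j} : Set G), n' ∉ L₁ ⊔ L₂ ∧ L₁.map (MulAut.conj n').toMonoidHom = L₂ ∧ n' ^ 2 ∈ Subgroup.zpowers j) := by
  have h1 : (2 : F₁) ≠ 0 := SL2Iso.two_ne_zero' hF₁
  have h2 : (2 : F₂) ≠ 0 := SL2Iso.two_ne_zero' hF₂
  have hjm : j ∈ L₁ ⊓ L₂ := hm ▸ Subgroup.mem_zpowers j
  obtain ⟨hj1, hj2⟩ := Subgroup.mem_inf.mp hjm
  have hjj : j * j = 1 := mul_self_eq_one_of_orderOf_two hj
  set P := L₁ ⊔ L₂ with hP
  set C := Subgroup.centralizer ({j} : Set G) with hC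
  have hjc : ∀ p ∈ P, p * j = j * p := fun p hp =>
    (Subgroup.mem_centralizer_iff.mp (hle hp) j rfl).symm
  have hnP : ∀ g ∈ C, ∀ p ∈ P, g * p * g⁻¹ ∈ P := by
    intro g hg p hp
    have hN : (P.subgroupOf C).Normal := Subgroup.normal_of_index_eq_two hi
    exact Subgroup.mem_subgroupOf.mp
      (hN.conj_mem ⟨p, hle hp⟩ (Subgroup.mem_subgroupOf.mpr hp) ⟨g, hg⟩)
  have hnorm1 : ∀ g ∈ P, ∀ x ∈ L₁, g * x * g⁻¹ ∈ L₁ := by
    intro g hg x hx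
    obtain ⟨p, hp, q, hq, rfl⟩ := (mem_sup_of_commute hc).mp hg
    rw [show p * q * x * (p * q)⁻¹ = p * (q * x * q⁻¹) * p⁻¹ by simp [mul_assoc],
      show q * x * q⁻¹ = x by rw [← hc x hx q hq, mul_inv_cancel_right]]
    exact L₁.mul_mem (L₁.mul_mem hp hx) (L₁.inv_mem hp)
  have hnorm2 : ∀ g ∈ P, ∀ x ∈ L₂, g * x * g⁻¹ ∈ L₂ := by
    intro g hg x hx
    obtain ⟨p, hp, q, hq, rfl⟩ := (mem_sup_of_commute hc).mp hg
    have hy : q * x * q⁻¹ ∈ L₂ := L₂.mul_mem (L₂.mul_mem hq hx) (L₂.inv_mem hq)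
    rw [show p * q * x * (p * q)⁻¹ = p * (q * x * q⁻¹) * p⁻¹ by simp [mul_assoc],
      show p * (q * x * q⁻¹) * p⁻¹ = q * x * q⁻¹ by rw [hc p hp _ hy, mul_inv_cancel_right]]
    exact hy
  set M := L₁.map (MulAut.conj n).toMonoidHom with hMdef
  set M' := L₂.map (MulAut.conj n).toMonoidHom with hM'def
  have memM : ∀ L : Subgroup G, ∀ x, x ∈ L.map (MulAut.conj n).toMonoidHom ↔ n⁻¹ * x * n ∈ L := by
    intro L x
    rw [Subgroup.mem_map]
    constructor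
    · rintro ⟨y, hy, rfl⟩
      simpa [mul_assoc] using hy
    · intro hx
      exact ⟨_, hx, by simp [mul_assoc]⟩
  have hle' : ∀ L : Subgroup G, L ≤ P → L.map (MulAut.conj n).toMonoidHom ≤ P := by
    intro L hL x hx
    have := hnP n hn _ (hL ((memM L x).mp hx))
    simpa [mul_assoc] using this
  have hnor : ∀ L : Subgroup G, (∀ g ∈ P, ∀ x ∈ L, g * x * g⁻¹ ∈ L) → ∀ g ∈ P,
      ∀ x ∈ L.map (MulAut.conj n).toMonoidHom, g * x * g⁻¹ ∈ L.map (MulAut.conj n).toMonoidHom := by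
    intro L hL g hg x hx
    rw [memM] at hx ⊢
    have := hL _ (hnP n⁻¹ (C.inv_mem hn) g hg) _ hx
    simpa [mul_assoc] using this
  have hnormalizer : ∀ K : Subgroup G, (∀ g ∈ P, ∀ x ∈ K, g * x * g⁻¹ ∈ K) →
      P ≤ Subgroup.normalizer (K : Set G) := by
    intro K hK g hg
    rw [Subgroup.mem_normalizer_iff]
    exact fun x => ⟨hK g hg x, fun hx => by simpa [mul_assoc] using hK g⁻¹ (P.inv_mem hg) _ hx⟩
  have hMP : M ≤ P := hle' _ le_sup_left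
  have hM'P : M' ≤ P := hle' _ le_sup_right
  have hMn := hnor _ hnorm1
  have hM'n := hnor _ hnorm2
  have hcM : ∀ x ∈ M, ∀ y ∈ M', x * y = y * x := by
    rintro x hx y hy
    rw [memM] at hx hy
    have := hc _ hx _ hy
    exact mul_right_cancel (b := n) (by simpa [mul_assoc] using this)
  have hswap : ∀ p ∈ L₂ ⊔ L₁, p * j = j * p := fun p hp => hjc p (by rwa [hP, sup_comm])
  have toR : ∀ K : Subgroup G, K ≤ P → (∀ g ∈ P, ∀ x ∈ K, g * x * g⁻¹ ∈ K) →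
      K ⊓ L₁ ≤ Subgroup.zpowers j → K ≤ L₂ := fun K hK hKn hi =>
    le_right_of_inf_le h1 e₁ hc hj hj1 hj2 hjc hK (hnormalizer K hKn) hi
  have toL : ∀ K : Subgroup G, K ≤ P → (∀ g ∈ P, ∀ x ∈ K, g * x * g⁻¹ ∈ K) →
      K ⊓ L₂ ≤ Subgroup.zpowers j → K ≤ L₁ := fun K hK hKn hi =>
    le_right_of_inf_le h2 e₂ (fun x hx y hy => (hc y hy x hx).symm) hj hj2 hj1 hswap
      (by rwa [sup_comm]) (by rw [sup_comm]; exact hnormalizer K hKn) hi
  have cardM : ∀ L : Subgroup G, Nat.card ↥(L.map (MulAut.conj n).toMonoidHom) = Nat.card ↥L :=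
    fun L => (Nat.card_congr (L.equivMapOfInjective _ (MulEquiv.injective _)).toEquiv).symm
  have hsmall : ∀ K : Subgroup G, K ≤ L₁ → K ≤ L₂ → Nat.card ↥K ≤ 2 := by
    intro K hK1 hK2
    have := Nat.le_of_dvd (by rw [Nat.card_zpowers, hj]; omega) (Subgroup.card_dvd_of_le (hm ▸ le_inf hK1 hK2))
    rwa [Nat.card_zpowers, hj] at this
  have hbig1 : 2 < Nat.card ↥L₁ := by
    rw [Nat.card_congr e₁.toEquiv, CfsgLib.Linear.card_SL_two]
    have hq : 2 ≤ Fintype.card F₁ := Fintype.one_lt_card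
    have h3 : 3 ≤ Fintype.card F₁ ^ 2 - 1 := by
      have : 4 ≤ Fintype.card F₁ ^ 2 := by nlinarith
      omega
    nlinarith
  have hbig2 : 2 < Nat.card ↥L₂ := by
    rw [Nat.card_congr e₂.toEquiv, CfsgLib.Linear.card_SL_two]
    have hq : 2 ≤ Fintype.card F₂ := Fintype.one_lt_card
    have h3 : 3 ≤ Fintype.card F₂ ^ 2 - 1 := by
      have : 4 ≤ Fintype.card F₂ ^ 2 := by nlinarith
      omega
    nlinarith
  have hMM : ¬ (M ≤ L₁ ∧ M ≤ L₂) := fun h => by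
    have := hsmall M h.1 h.2; rw [cardM] at this; omega
  have hMM' : ¬ (M' ≤ L₁ ∧ M' ≤ L₂) := fun h => by
    have := hsmall M' h.1 h.2; rw [cardM] at this; omega
  have alt1 : M ≤ L₂ ∨ M' ≤ L₂ :=
    (inf_le_or h1 e₁ hj hj1 (fun g hg => hMn g (Subgroup.mem_sup_left hg)) hcM).imp
      (toR M hMP hMn) (toR M' hM'P hM'n)
  have alt2 : M ≤ L₁ ∨ M' ≤ L₁ :=
    (inf_le_or h2 e₂ hj hj2 (fun g hg => hMn g (Subgroup.mem_sup_right hg)) hcM).imp
      (toL M hMP hMn) (toL M' hM'P hM'n)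
  rcases alt1 with hA | hA
  swap
  · left
    have hB : M ≤ L₁ := alt2.resolve_right fun h => hMM' ⟨h, hA⟩
    exact ⟨Subgroup.eq_of_le_of_card_ge hB (cardM L₁).ge, Subgroup.eq_of_le_of_card_ge hA (cardM L₂).ge⟩
  right
  have hB : M' ≤ L₁ := alt2.resolve_left fun h => hMM ⟨h, hA⟩
  have c1 : Nat.card ↥L₁ ≤ Nat.card ↥L₂ := by
    rw [← cardM L₁]; exact Nat.le_of_dvd Nat.card_pos (Subgroup.card_dvd_of_le hA)
  have c2 : Nat.card ↥L₂ ≤ Nat.card ↥L₁ := by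
    rw [← cardM L₂]; exact Nat.le_of_dvd Nat.card_pos (Subgroup.card_dvd_of_le hB)
  have eM : M = L₂ := Subgroup.eq_of_le_of_card_ge hA ((cardM L₁).symm ▸ c2)
  have eM' : M' = L₁ := Subgroup.eq_of_le_of_card_ge hB ((cardM L₂).symm ▸ c1)
  have hq : Fintype.card F₁ = Fintype.card F₂ := by
    have heq := le_antisymm c1 c2
    rw [Nat.card_congr e₁.toEquiv, Nat.card_congr e₂.toEquiv, CfsgLib.Linear.card_SL_two,
      CfsgLib.Linear.card_SL_two] at heq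
    have hmono : ∀ a b : ℕ, 2 ≤ a → a < b → a * (a ^ 2 - 1) < b * (b ^ 2 - 1) := by
      intro a b ha hab
      have : a ^ 2 ≤ b ^ 2 := Nat.pow_le_pow_left hab.le 2
      calc a * (a ^ 2 - 1) < b * (a ^ 2 - 1) := by
            apply Nat.mul_lt_mul_of_pos_right hab
            have : 4 ≤ a ^ 2 := by nlinarith
            omega
        _ ≤ b * (b ^ 2 - 1) := Nat.mul_le_mul_left _ (by omega)
    rcases lt_trichotomy (Fintype.card F₁) (Fintype.card F₂) with h | h | h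
    · exact absurd heq (hmono _ _ Fintype.one_lt_card h).ne
    · exact h
    · exact absurd heq.symm (hmono _ _ Fintype.one_lt_card h).ne
  refine ⟨eM, hq, ?_⟩
  have hnn : n * n ∈ P :=
    Subgroup.mem_subgroupOf.mp (Subgroup.mul_self_mem_of_index_two hi (⟨n, hn⟩ : ↥C))
  obtain ⟨a, ha, b, hb, hab⟩ := (mem_sup_of_commute hc).mp hnn
  have haP : a ∈ P := Subgroup.mem_sup_left ha
  have t1 : ∀ x ∈ L₁, n * x * n⁻¹ ∈ L₂ := fun x hx => eM ▸ (memM L₁ _).mpr (by simpa [mul_assoc] using hx)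
  have t2 : ∀ x ∈ L₂, n * x * n⁻¹ ∈ L₁ := fun x hx => eM' ▸ (memM L₂ _).mpr (by simpa [mul_assoc] using hx)
  refine ⟨n * a⁻¹, C.mul_mem hn (hle (P.inv_mem haP)), ?_, ?_, ?_⟩
  · intro h
    exact hn' (by simpa using P.mul_mem h haP)
  · refine (Subgroup.eq_of_le_of_card_ge ?_ ?_)
    · rintro _ ⟨x, hx, rfl⟩
      have := t1 (a⁻¹ * x * a) (L₁.mul_mem (L₁.mul_mem (L₁.inv_mem ha) hx) ha)
      simpa [mul_assoc] using this
    · rw [Nat.card_congr (L₁.equivMapOfInjective _ (MulEquiv.injective _)).toEquiv.symm]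
      exact c2
  · have hsq : (n * a⁻¹) ^ 2 = (n * a⁻¹ * n⁻¹) * b := by
      rw [pow_two, show n * a⁻¹ * (n * a⁻¹) = n * a⁻¹ * n⁻¹ * (n * n * a⁻¹) by simp [mul_assoc], ← hab,
        show a * b * a⁻¹ = b by rw [hc a ha b hb, mul_inv_cancel_right]]
    have hin2 : (n * a⁻¹) ^ 2 ∈ L₂ := hsq ▸ L₂.mul_mem (t1 _ (L₁.inv_mem ha)) hb
    have hin1 : (n * a⁻¹) ^ 2 ∈ L₁ := by
      have h := t2 _ (hnorm2 a⁻¹ (P.inv_mem haP) _ hin2)
      have e : n * (a⁻¹ * (n * a⁻¹) ^ 2 * a⁻¹⁻¹) * n⁻¹ = (n * a⁻¹) ^ 2 := by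
        simp [pow_two, mul_assoc]
      rwa [e] at h
    exact hm ▸ Subgroup.mem_inf.mpr ⟨hin1, hin2⟩

end Cfsg.Agent.S3210
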