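import Cfsg.Statements.S3213
import Cfsg.Agent.Lib.InvChar.SL2Pair

set_option autoImplicit false
open Cfsg

namespace Cfsg.Agent.S3213

variable {F : Type*} [Field F] [Fintype F]

theorem three_eq_zero (hF : Fintype.card F = 3) : (3 : F) = 0 := by
  have h := FiniteField.cast_card_eq_zero F
  rw [hF] at h
  exact_mod_cast h

theorem two_ne (hF : Fintype.card F = 3) : (2 : F) ≠ 0 := by
  intro h
  have h3 := three_eq_zero hF
  exact one_ne_zero (α := F) (by linear_combination h3 - h)

theorem eq_one_of_pow_five_small {V : Type*} [AddCommGroup V] [Module F V] [FiniteDimensional F V]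
    (hF : Fintype.card F = 3) (hd : Module.finrank F V ≤ 3) (f : Module.End F V) (hf : f ^ 5 = 1) :
    f = 1 := by
  let b := Module.finBasis F V
  let M := LinearMap.toMatrixAlgEquiv b f
  have hM : M ^ 5 = 1 := by rw [← map_pow, hf, map_one]
  have hu : IsUnit M := IsUnit.of_pow_eq_one hM (by norm_num)
  let g : GL (Fin (Module.finrank F V)) F := hu.unit
  have hg : g ^ 5 = 1 := Units.ext (by simpa [g] using hM)
  have h5 := orderOf_dvd_of_pow_eq_one hg
  rcases (Nat.dvd_prime (by norm_num)).mp h5 with h | h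
  · rw [orderOf_eq_one_iff] at h
    have hM1 : M = 1 := by simpa [g] using congrArg Units.val h
    exact (LinearMap.toMatrixAlgEquiv b).injective (by rw [map_one]; exact hM1)
  · exfalso
    have hdvd : 5 ∣ Nat.card (GL (Fin (Module.finrank F V)) F) := h ▸ orderOf_dvd_natCard g
    rw [Matrix.card_GL_field, hF] at hdvd
    generalize Module.finrank F V = d at hd hdvd
    interval_cases d <;> simp [Fin.prod_univ_succ] at hdvd

theorem eq_self_of_pow_five_small {V : Type*} [AddCommGroup V] [Module F V] [FiniteDimensional F V]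
    (hF : Fintype.card F = 3) (W : Submodule F V) (hd : Module.finrank F ↥W ≤ 3) (f : Module.End F V)
    (hfW : ∀ v ∈ W, f v ∈ W) (hf : f ^ 5 = 1) (v : V) (hv : v ∈ W) : f v = v := by
  have h := eq_one_of_pow_five_small hF hd (f.restrict hfW) (by
    rw [Module.End.pow_restrict 5 hfW]
    ext w
    simp [hf])
  have h2 := congrArg (fun g : Module.End F ↥W => ((g ⟨v, hv⟩ : ↥W) : V)) h
  simpa using h2

theorem exists_triple {K : Type*} [Field K] [Fintype K] (hK : Fintype.card K = 5)
    (x : Matrix.SpecialLinearGroup (Fin 2) K) (hx : orderOf x = 3) :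
    (∃ g, (x * (g * x * g⁻¹)) * (x * (g * x * g⁻¹)) = -1) ∧
      (∃ u : Matrix.SpecialLinearGroup (Fin 2) K, u ^ 5 = 1 ∧ u ≠ 1) ∧
      (-1 : Matrix.SpecialLinearGroup (Fin 2) K) ≠ 1 := by
  have h5 : (5 : K) = 0 := by
    have h := FiniteField.cast_card_eq_zero K
    rw [hK] at h
    exact_mod_cast h
  have h2 : (2 : K) ≠ 0 := CfsgLib.Linear.two_ne_zero_of_odd_card (by rw [hK]; decide)
  refine ⟨?_, ?_, ?_⟩
  · set t := (x : Matrix (Fin 2) (Fin 2) K).trace with ht
    have hx3 : x * x * x = 1 := by rw [← pow_three', ← hx]; exact pow_orderOf_eq_one x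
    have e1 : (x : Matrix (Fin 2) (Fin 2) K) * x * x = 1 := by
      rw [← Matrix.SpecialLinearGroup.coe_mul, ← Matrix.SpecialLinearGroup.coe_mul, hx3,
        Matrix.SpecialLinearGroup.coe_one]
    rw [CfsgLib.SL2Trace.mul_self_eq, sub_mul, smul_mul_assoc, CfsgLib.SL2Trace.mul_self_eq,
      ← ht, one_mul, smul_sub, smul_smul] at e1
    have e2 : (t * t - 1) • (x : Matrix (Fin 2) (Fin 2) K) = (1 + t) • (1 : Matrix (Fin 2) (Fin 2) K) := by
      rw [sub_smul, add_smul, one_smul, one_smul]
      linear_combination (norm := module) e1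
    have hnc : ¬ x ∈ Subgroup.center (Matrix.SpecialLinearGroup (Fin 2) K) := by
      intro hc
      rcases CfsgLib.InvChar.sl2_center h2 hc with h | h
      · rw [h, orderOf_one] at hx; omega
      · rw [h] at hx3
        simp at hx3
        rw [h, hx3, orderOf_one] at hx
        omega
    have htt : t * t - 1 = 0 := by
      by_contra hne
      refine hnc (CfsgLib.SL2Trace.mem_center_iff_entries.2 ?_)
      have k00 := congrFun (congrFun e2 0) 0
      have k01 := congrFun (congrFun e2 0) 1
      have k10 := congrFun (congrFun e2 1) 0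
      have k11 := congrFun (congrFun e2 1) 1
      simp at k00 k01 k10 k11
      exact ⟨k01.resolve_left hne, k10.resolve_left hne, mul_left_cancel₀ hne (k00.trans k11.symm)⟩
    have ht1 : t = -1 := by
      have k := congrFun (congrFun e2 0) 0
      rw [htt] at k
      simp at k
      linear_combination -k
    let y : Matrix.SpecialLinearGroup (Fin 2) K :=
      CfsgLib.SL2Trace.mk2 2 (-1) 2 (-3) (by linear_combination -h5)
    have hy : (y : Matrix (Fin 2) (Fin 2) K).trace = -1 := by
      simp [y, CfsgLib.SL2Trace.coe_mk2, Matrix.trace_fin_two]; ring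
    have hne4 : (-1 : K) ^ 2 ≠ 4 := by
      intro h
      exact h2 (by linear_combination h + h5)
    have hc0 : (CfsgLib.SL2Trace.comp (-1 : K) : Matrix (Fin 2) (Fin 2) K).trace = -1 := by
      simp [CfsgLib.SL2Trace.coe_comp, Matrix.trace_fin_two]
    obtain ⟨P, hP⟩ := CfsgLib.SL2Trace.isConj_of_trace_eq (CfsgLib.SL2Trace.comp (-1 : K)) x
      (by rw [hc0]; exact hne4) (by rw [hc0, ← ht1])
    obtain ⟨Q, hQ⟩ := CfsgLib.SL2Trace.isConj_of_trace_eq (CfsgLib.SL2Trace.comp (-1 : K)) y
      (by rw [hc0]; exact hne4) (by rw [hc0, hy])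
    have hprod : (CfsgLib.SL2Trace.comp (-1 : K) * y) * (CfsgLib.SL2Trace.comp (-1 : K) * y) = -1 := by
      apply Subtype.ext
      ext i j
      fin_cases i <;> fin_cases j <;>
        simp [y, CfsgLib.SL2Trace.coe_mk2, CfsgLib.SL2Trace.coe_comp, Matrix.mul_apply, Fin.sum_univ_two] <;>
        first
          | ring1
          | linear_combination h5
          | linear_combination -h5
    refine ⟨P * Q * P⁻¹, ?_⟩
    have e3 : P * Q * P⁻¹ * x * (P * Q * P⁻¹)⁻¹ = P * y * P⁻¹ := by rw [hP, hQ]; group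
    rw [e3, hP, show P * CfsgLib.SL2Trace.comp (-1 : K) * P⁻¹ * (P * y * P⁻¹) =
      P * (CfsgLib.SL2Trace.comp (-1 : K) * y) * P⁻¹ by group, conj_mul, hprod]
    simp
  · refine ⟨CfsgLib.SL2Trace.mk2 1 1 0 1 (by ring), ?_, ?_⟩
    · apply Subtype.ext
      ext i j
      fin_cases i <;> fin_cases j <;>
        simp [pow_succ, CfsgLib.SL2Trace.coe_mk2, Matrix.mul_apply, Fin.sum_univ_two] <;>
        linear_combination h5
    · intro h
      have := CfsgLib.Linear.SL2_entry_congr h 0 1
      simp [CfsgLib.SL2Trace.coe_mk2] at this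
  · intro h
    have := CfsgLib.Linear.SL2_entry_congr h 0 0
    simp at this
    exact h2 (by linear_combination -this)

theorem finrank_range_pow_succ {V : Type*} [AddCommGroup V] [Module F V] [FiniteDimensional F V]
    (N : Module.End F V) (p : Submodule F V) :
    Module.finrank F ↥p ≤ Module.finrank F ↥(p.map N) + Module.finrank F ↥(LinearMap.ker N) := by
  have h := LinearMap.finrank_range_add_finrank_ker (N.domRestrict p)
  rw [LinearMap.range_domRestrict] at h
  have h2 : Module.finrank F ↥(LinearMap.ker (N.domRestrict p)) ≤ Module.finrank F ↥(LinearMap.ker N) := by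
    refine LinearMap.finrank_le_finrank_of_injective
      (f := (p.subtype.comp (LinearMap.ker (N.domRestrict p)).subtype).codRestrict (LinearMap.ker N)
        (fun c => c.2)) ?_
    intro a b h
    have h' := congrArg (fun c : ↥(LinearMap.ker N) => (c : V)) h
    apply Subtype.ext
    apply Subtype.ext
    exact h'
  omega


/-- Let F be the field with 3 elements and K the field with 5 elements. For every injective homomorphism φ from SL₂(K) into the symplectic group Sp₄(F) (4 × 4 matrices g with g J gᵀ = J for the standard alternating matrix J) and every element x of order 3 of SL₂(K), the vectors of F⁴ fixed by φ(x) form a 2-dimensional subspace that is totally isotropic for the alternating form defined by J. -/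
theorem result {F : Type*} [Field F] [Fintype F] (hF : Fintype.card F = 3)
    {K : Type*} [Field K] [Fintype K] (hK : Fintype.card K = 5)
    (φ : Matrix.SpecialLinearGroup (Fin 2) K →* ↥(Matrix.symplecticGroup (Fin 2) F)) (hφ : Function.Injective φ)
    (x : Matrix.SpecialLinearGroup (Fin 2) K) (hx : orderOf x = 3) :
    Module.finrank F ↥(LinearMap.ker (Matrix.toLin' ((φ x : Matrix (Fin 2 ⊕ Fin 2) (Fin 2 ⊕ Fin 2) F)) - LinearMap.id)) = 2 ∧
      ∀ v w : Fin 2 ⊕ Fin 2 → F, (φ x : Matrix (Fin 2 ⊕ Fin 2) (Fin 2 ⊕ Fin 2) F).mulVec v = v →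
        (φ x : Matrix (Fin 2 ⊕ Fin 2) (Fin 2 ⊕ Fin 2) F).mulVec w = w →
          dotProduct v ((Matrix.J (Fin 2) F).mulVec w) = 0 := by
  classical
  obtain ⟨⟨g, hgg⟩, ⟨u, hu5, hune⟩, hne1⟩ := exists_triple hK x hx
  let ρ : Matrix.SpecialLinearGroup (Fin 2) K →* Module.End F (Fin 2 ⊕ Fin 2 → F) :=
    (Matrix.toLinAlgEquiv' : Matrix (Fin 2 ⊕ Fin 2) (Fin 2 ⊕ Fin 2) F ≃ₐ[F] _).toAlgHom.toMonoidHom.comp
      ((Matrix.symplecticGroup (Fin 2) F).subtype.comp φ)
  have hρ : ∀ a v, ρ a v = (φ a : Matrix (Fin 2 ⊕ Fin 2) (Fin 2 ⊕ Fin 2) F).mulVec v := fun a v => rfl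
  have hinj : Function.Injective ρ := fun a b h =>
    hφ (Subtype.ext (Matrix.toLinAlgEquiv'.injective h))
  have hmul : ∀ a b v, ρ (a * b) v = ρ a (ρ b v) := fun a b v => by rw [map_mul]; rfl
  set Z := ρ (-1) with hZdef
  have hZZ : ∀ v, Z (Z v) = v := fun v => by
    rw [hZdef, ← hmul, neg_mul_neg, one_mul, map_one]; rfl
  have hZc : ∀ a v, Z (ρ a v) = ρ a (Z v) := fun a v => by
    rw [hZdef, ← hmul, ← hmul, neg_one_mul, mul_neg, mul_one]
  have h2 := two_ne hF
  have hV : Module.finrank F (Fin 2 ⊕ Fin 2 → F) = 4 := by simp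
  have hZneg : ∀ v, Z v = -v := by
    let Wp := LinearMap.ker (Z - LinearMap.id)
    let Wm := LinearMap.ker (Z + LinearMap.id)
    have mp : ∀ v, v ∈ Wp ↔ Z v = v := fun v => by simp [Wp, sub_eq_zero]
    have mm : ∀ v, v ∈ Wm ↔ Z v = -v := fun v => by simp [Wm, add_eq_zero_iff_eq_neg]
    by_contra hcon
    push Not at hcon
    obtain ⟨v₀, hv₀⟩ := hcon
    have hm : ∃ v, Z v ≠ v := by
      by_contra h
      push Not at h
      exact hne1 (hinj (LinearMap.ext fun v => by rw [map_one]; exact h v))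
    obtain ⟨v₁, hv₁⟩ := hm
    have hp3 : Module.finrank F ↥Wp ≤ 3 := by
      have : Wp ≠ ⊤ := fun h => hv₁ ((mp v₁).mp (h ▸ Submodule.mem_top))
      have := Submodule.finrank_lt this
      omega
    have hm3 : Module.finrank F ↥Wm ≤ 3 := by
      have : Wm ≠ ⊤ := fun h => hv₀ ((mm v₀).mp (h ▸ Submodule.mem_top))
      have := Submodule.finrank_lt this
      omega
    have hu' : (ρ u) ^ 5 = 1 := by rw [← map_pow, hu5, map_one]
    refine hune (hinj (LinearMap.ext fun v => ?_))
    rw [map_one, Module.End.one_apply]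
    have k1 := eq_self_of_pow_five_small hF Wp hp3 (ρ u)
      (fun w hw => (mp _).mpr (by rw [hZc, (mp w).mp hw])) hu' (v + Z v)
      ((mp _).mpr (by rw [map_add, hZZ, add_comm]))
    have k2 := eq_self_of_pow_five_small hF Wm hm3 (ρ u)
      (fun w hw => (mm _).mpr (by rw [hZc, (mm w).mp hw, map_neg])) hu' (v - Z v)
      ((mm _).mpr (by rw [map_sub, hZZ, neg_sub]))
    have k : (2 : F) • (ρ u v) = (2 : F) • v := by
      rw [map_add] at k1; rw [map_sub] at k2
      linear_combination (norm := module) k1 + k2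
    exact smul_right_injective _ h2 k
  set U := ρ x with hUdef
  set N := U - LinearMap.id with hNdef
  have hN : ∀ v, N v = U v - v := fun v => rfl
  have hU3 : ∀ v, U (U (U v)) = v := fun v => by
    rw [hUdef, ← hmul, ← hmul, ← pow_three', ← hx, pow_orderOf_eq_one, map_one]; rfl
  have hN3 : ∀ v, N (N (N v)) = 0 := fun v => by
    have h3 := three_eq_zero hF
    simp only [hN, map_sub, hU3]
    have : ∀ w : Fin 2 ⊕ Fin 2 → F, (3 : F) • w = 0 := fun w => by rw [h3, zero_smul]
    linear_combination (norm := module) -(this (U (U v))) + this (U v)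
  have hker : ∀ v, v ∈ LinearMap.ker N ↔ U v = v := fun v => by simp [hN, sub_eq_zero]
  have hle2 : Module.finrank F ↥(LinearMap.ker N) ≤ 2 := by
    by_contra hcon
    push Not at hcon
    set W := (LinearMap.ker N).map (ρ g) with hW
    have hWd : Module.finrank F ↥W = Module.finrank F ↥(LinearMap.ker N) := by
      refine (Submodule.equivMapOfInjective (ρ g) ?_ _).finrank_eq.symm
      intro a b h
      have := congrArg (ρ g⁻¹) h
      rwa [← hmul, ← hmul, inv_mul_cancel, map_one] at this
    have hsum := Submodule.finrank_sup_add_finrank_inf_eq (LinearMap.ker N) W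
    have hle := Submodule.finrank_le (LinearMap.ker N ⊔ W)
    have hpos : 0 < Module.finrank F ↥(LinearMap.ker N ⊓ W) := by omega
    obtain ⟨v, hv⟩ := Module.finrank_pos_iff_exists_ne_zero.mp hpos
    obtain ⟨hv1, w, hw, hwv⟩ := v.2
    have e1 : ρ x (v : Fin 2 ⊕ Fin 2 → F) = v := (hker _).mp hv1
    have e2 : ρ (g * x * g⁻¹) (v : Fin 2 ⊕ Fin 2 → F) = v := by
      rw [← hwv, ← hmul, inv_mul_cancel_right, hmul]
      exact congrArg _ ((hker w).mp hw)
    have e3 : Z (v : Fin 2 ⊕ Fin 2 → F) = v := by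
      have e4 : ρ (x * (g * x * g⁻¹)) (v : Fin 2 ⊕ Fin 2 → F) = v := by rw [hmul, e2, e1]
      rw [hZdef, ← hgg, hmul, e4, e4]
    rw [hZneg] at e3
    refine hv (Subtype.ext (smul_right_injective _ h2 (show (2 : F) • (v : Fin 2 ⊕ Fin 2 → F) = (2 : F) • 0 from ?_)))
    linear_combination (norm := module) -e3
  have hge2 : 2 ≤ Module.finrank F ↥(LinearMap.ker N) := by
    by_contra hcon
    have a1 := finrank_range_pow_succ N ⊤
    have a2 := finrank_range_pow_succ N (Submodule.map N ⊤)
    have a3 := finrank_range_pow_succ N (Submodule.map N (Submodule.map N ⊤))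
    have hz : Submodule.map N (Submodule.map N (Submodule.map N ⊤)) = ⊥ := by
      rw [eq_bot_iff]
      rintro _ ⟨_, ⟨_, ⟨v, -, rfl⟩, rfl⟩, rfl⟩
      exact (Submodule.mem_bot F).mpr (hN3 v)
    rw [hz, finrank_bot] at a3
    rw [finrank_top] at a1
    omega
  have hfin : Module.finrank F ↥(LinearMap.ker N) = 2 := le_antisymm hle2 hge2
  refine ⟨hfin, fun v w hv hw => ?_⟩
  let B : (Fin 2 ⊕ Fin 2 → F) → (Fin 2 ⊕ Fin 2 → F) → F :=
    fun a b => dotProduct a ((Matrix.J (Fin 2) F).mulVec b)
  have hBU : ∀ a b, B (U a) (U b) = B a b := fun a b => by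
    have hmem := SymplecticGroup.mem_iff'.mp (φ x).2
    show dotProduct _ _ = dotProduct _ _
    rw [hρ, hρ]
    conv_rhs => rw [← hmem]
    rw [← Matrix.mulVec_mulVec, ← Matrix.mulVec_mulVec, Matrix.dotProduct_mulVec a, Matrix.vecMul_transpose]
  have halt : ∀ a, B a a = 0 := fun a => by
    simp [B, Matrix.J, Matrix.mulVec, dotProduct, Fintype.sum_sum_type, Fin.sum_univ_two,
      Matrix.fromBlocks, Matrix.one_apply]
    ring
  have hsymm : ∀ a b, B b a = -B a b := fun a b => by
    have h := halt (a + b)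
    have e : B (a + b) (a + b) = B a a + B a b + B b a + B b b := by
      simp [B, Matrix.mulVec_add, dotProduct_add, add_dotProduct]; ring
    rw [e, halt, halt] at h
    linear_combination h
  obtain ⟨r, hr, hrne, z, hrz⟩ : ∃ r, U r = r ∧ r ≠ 0 ∧ ∃ z, N z = r := by
    by_cases h : ∀ v, N (N v) = 0
    · obtain ⟨z, hz⟩ : ∃ z, N z ≠ 0 := by
        by_contra hall
        push Not at hall
        have : LinearMap.ker N = ⊤ := by
          rw [eq_top_iff]; exact fun v _ => LinearMap.mem_ker.mpr (hall v)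
        rw [this, finrank_top, hV] at hfin
        omega
      exact ⟨N z, (hker _).mp (LinearMap.mem_ker.mpr (h z)), hz, z, rfl⟩
    · push Not at h
      obtain ⟨z, hz⟩ := h
      exact ⟨N (N z), (hker _).mp (LinearMap.mem_ker.mpr (hN3 z)), hz, N z, rfl⟩
  have horth : ∀ k, U k = k → B k r = 0 := fun k hk => by
    rw [← hrz, hN]
    show dotProduct _ _ = 0
    rw [Matrix.mulVec_sub, dotProduct_sub, sub_eq_zero]
    exact ((congrArg (fun q => B q (U z)) hk).symm).trans (hBU k z)
  by_contra hBne
  have hv' : U v = v := (hρ x v).trans hv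
  have hw' : U w = w := (hρ x w).trans hw
  have hli : LinearIndependent F
      (fun i : Fin 3 => (![⟨r, (hker r).mpr hr⟩, ⟨v, (hker v).mpr hv'⟩, ⟨w, (hker w).mpr hw'⟩] i :
        ↥(LinearMap.ker N))) := by
    rw [Fintype.linearIndependent_iff]
    intro c hcsum
    have hsum : c 0 • r + c 1 • v + c 2 • w = 0 := by
      have := congrArg Subtype.val hcsum
      simpa [Fin.sum_univ_three] using this
    have lin : ∀ t, B t (c 0 • r + c 1 • v + c 2 • w) = c 0 * B t r + c 1 * B t v + c 2 * B t w := fun t => by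
      simp [B, Matrix.mulVec_add, Matrix.mulVec_smul, dotProduct_add, dotProduct_smul]
    have hz0 : ∀ t, B t 0 = 0 := fun t => by simp [B]
    have l1 := lin v; rw [hsum, hz0, horth v hv', halt] at l1
    have l2 := lin w; rw [hsum, hz0, horth w hw', halt, hsymm v w] at l2
    have c2 : c 2 = 0 := (mul_eq_zero.1 (show c 2 * B v w = 0 by linear_combination -l1)).resolve_right hBne
    have c1 : c 1 = 0 := (mul_eq_zero.1 (show c 1 * B v w = 0 by linear_combination l2)).resolve_right hBne
    rw [c1, c2, zero_smul, zero_smul, add_zero, add_zero] at hsum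
    have c0 : c 0 = 0 := (smul_eq_zero.1 hsum).resolve_right hrne
    intro i; fin_cases i <;> assumption
  have := hli.fintype_card_le_finrank
  rw [Fintype.card_fin, hfin] at this
  omega

end Cfsg.Agent.S3213
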