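import Cfsg.Statements.S3215
import Cfsg.Agent.S3246
import Cfsg.Agent.Lib.InvChar.SolvableCore
import Cfsg.Agent.Lib.InvChar.OneInvolution
import Cfsg.Agent.Lib.PLocal.HallHigman
import Cfsg.Agent.Lib.Frobenius.Fpf
import Cfsg.Agent.Lib.Frobenius.ComplementSylow
import Cfsg.Agent.Lib.Solvable.Hall
import Mathlib.GroupTheory.SpecificGroups.ZGroup

set_option autoImplicit false
open Cfsg

namespace Cfsg.Agent.S3215

/-- Let H be a finite solvable group with no nontrivial normal subgroup of odd order in which the centralizer of every involution has a normal 2-complement. Let X be a Hall 2'-subgroup of H (odd order, index a power of 2) and Y = O₂(H). Then no non-identity element of X commutes with a non-identity element of Y (so for X ≠ 1 the group XY is a Frobenius group with kernel Y), every Sylow subgroup of X is cyclic, XY is normal in H, and H/XY is a cyclic 2-group. -/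
theorem result {H : Type*} [Group H] [Finite H] (hsol : Group.IsSolvable H)
    (hO : Cfsg.oddCore H = ⊥)
    (hI : ∀ t : H, orderOf t = 2 → Cfsg.HasNormalPComplement 2 ↥(Subgroup.centralizer ({t} : Set H)))
    (X : Subgroup H) (hXodd : Odd (Nat.card X)) (hXidx : ∃ k : ℕ, X.index = 2 ^ k) :
    (∀ x ∈ X, x ≠ 1 → ∀ y ∈ Cfsg.pCore 2 H, y ≠ 1 → x * y ≠ y * x) ∧
      (∀ (p : ℕ) [Fact p.Prime] (P : Sylow p ↥X), IsCyclic ↥(P : Subgroup ↥X)) ∧
      (X ⊔ Cfsg.pCore 2 H).Normal ∧
      ∀ hN : (X ⊔ Cfsg.pCore 2 H).Normal, IsCyclic (H ⧸ (X ⊔ Cfsg.pCore 2 H)) ∧ IsPGroup 2 (H ⧸ (X ⊔ Cfsg.pCore 2 H)) := by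
  classical
  haveI := hsol
  haveI : Fact (Nat.Prime 2) := ⟨Nat.prime_two⟩
  set Y := Cfsg.pCore 2 H with hYdef
  haveI hYn : Y.Normal := CfsgLib.Solvable.pCore_normal 2 H
  have hYp : IsPGroup 2 ↥Y := CfsgLib.Solvable.pCore_isPGroup 2 H
  have hC : Subgroup.centralizer (Y : Set H) ≤ Y := CfsgLib.InvChar.centralizer_pCore_two_le hO
  have hXo : ∀ x ∈ X, Odd (orderOf x) := fun x hx =>
    hXodd.of_dvd_nat (Subgroup.orderOf_dvd_natCard X hx)
  have hYX : ∀ u, u ∈ Y → Odd (orderOf u) → u = 1 := fun u hu ho => by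
    obtain ⟨k, hk⟩ := IsPGroup.iff_orderOf.mp hYp ⟨u, hu⟩
    rw [Subgroup.orderOf_mk] at hk
    rcases Nat.eq_zero_or_pos k with rfl | hk0
    · simpa using hk
    · exfalso
      rw [hk] at ho
      exact Nat.not_even_iff_odd.mpr ho (even_iff_two_dvd.mpr (dvd_pow_self 2 hk0.ne'))
  have fixd : ∀ x t : H, Odd (orderOf x) → orderOf t = 2 → x * t = t * x →
      ∀ y ∈ Y, t * y = y * t → x * y = y * x := by
    intro x t hxo ht hxt y hy hty
    set C := Subgroup.centralizer ({t} : Set H) with hCdef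
    obtain ⟨P, N, hNn, hNP⟩ := hI t ht
    haveI := hNn
    obtain ⟨k, hk⟩ := IsPGroup.iff_card.mp P.isPGroup'
    have hNodd : Odd (Nat.card ↥N) := by
      rw [← hNP.index_eq_card, Nat.odd_iff, ← Nat.two_dvd_ne_zero]
      exact P.not_dvd_index
    let xC : ↥C := ⟨x, Subgroup.mem_centralizer_singleton_iff.mpr hxt⟩
    let yC : ↥C := ⟨y, Subgroup.mem_centralizer_singleton_iff.mpr hty.symm⟩
    have hxN : xC ∈ N := by
      have h2 : (QuotientGroup.mk' N xC) = 1 := by
        rw [← orderOf_eq_one_iff]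
        apply Nat.eq_one_of_dvd_coprimes (show Nat.Coprime (orderOf x) (2 ^ k) from
          Nat.Coprime.pow_right k (Nat.coprime_two_right.mpr hxo))
        · have := orderOf_map_dvd (QuotientGroup.mk' N) xC
          rwa [show orderOf xC = orderOf x from (Subgroup.orderOf_coe xC).symm] at this
        · refine (orderOf_dvd_natCard _).trans ?_
          rw [← Subgroup.index_eq_card, hNP.symm.index_eq_card, hk]
      exact (QuotientGroup.eq_one_iff xC).mp h2
    have hmN : xC * yC * xC⁻¹ * yC⁻¹ ∈ N := by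
      have := N.mul_mem hxN (hNn.conj_mem _ (N.inv_mem hxN) yC)
      simpa [mul_assoc] using this
    have hmY : x * y * x⁻¹ * y⁻¹ ∈ Y := Y.mul_mem (hYn.conj_mem y hy x) (Y.inv_mem hy)
    refine mul_inv_eq_iff_eq_mul.mp (mul_inv_eq_one.mp (hYX _ hmY ?_))
    have h3 := hNodd.of_dvd_nat (Subgroup.orderOf_dvd_natCard N hmN)
    rwa [show orderOf (xC * yC * xC⁻¹ * yC⁻¹) = orderOf (x * y * x⁻¹ * y⁻¹) from
      (Subgroup.orderOf_coe _).symm] at h3
  have fpf : ∀ x ∈ X, x ≠ 1 → ∀ y ∈ Y, y ≠ 1 → x * y ≠ y * x := by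
    intro x hx hx1 y hy hy1 hxy
    obtain ⟨k, hk⟩ := IsPGroup.iff_orderOf.mp hYp ⟨y, hy⟩
    rw [Subgroup.orderOf_mk] at hk
    have hk0 : k ≠ 0 := fun h => hy1 (by rw [h, pow_zero, orderOf_eq_one_iff] at hk; exact hk)
    set t := y ^ 2 ^ (k - 1) with htdef
    have ht : orderOf t = 2 := by
      refine orderOf_eq_prime ?_ ?_
      · rw [htdef, ← pow_mul, ← pow_succ, Nat.sub_add_cancel (Nat.pos_of_ne_zero hk0), ← hk, pow_orderOf_eq_one]
      · rw [htdef]
        exact pow_ne_one_of_lt_orderOf (by positivity)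
          (by rw [hk]; exact Nat.pow_lt_pow_right one_lt_two (by omega))
    have hxt : Commute x t := (show Commute x y from hxy).pow_right _
    have hxc : x ∈ Subgroup.centralizer ((Subgroup.zpowers t : Subgroup H) : Set H) := by
      intro u hu
      obtain ⟨m, rfl⟩ := Subgroup.mem_zpowers_iff.mp hu
      exact (hxt.zpow_right m).eq.symm
    have hYc := CfsgLib.PLoc.commute_of_pxq (p := 2) (P := Subgroup.zpowers t) (Q := Y) (x := x)
      (IsPGroup.of_card (n := 1) (by rw [Nat.card_zpowers, ht, pow_one])) hYp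
      (by rw [Subgroup.normalizer_eq_top]; exact le_top)
      (by rw [Subgroup.normalizer_eq_top]; exact Subgroup.mem_top _) hxc
      (Nat.coprime_two_right.mpr (hXo x hx))
      (fun u hu => Subgroup.mem_centralizer_singleton_iff.mpr
        (fixd x t (hXo x hx) ht hxt u hu.1 (hu.2 t (Subgroup.mem_zpowers t))).symm)
    exact hx1 (hYX x (hC fun u hu => Subgroup.mem_centralizer_singleton_iff.mp (hYc hu)) (hXo x hx))
  have hYne : X ≠ ⊥ → Y ≠ ⊥ := by
    intro hX hY
    obtain ⟨x, hx, hx1⟩ := (Subgroup.bot_or_exists_ne_one X).resolve_left hX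
    refine hx1 (hYX x (hC fun u hu => ?_) (hXo x hx))
    rw [hY, SetLike.mem_coe, Subgroup.mem_bot] at hu
    simp [hu]
  have hcyc : ∀ (p : ℕ) [Fact p.Prime] (P : Sylow p ↥X), IsCyclic ↥(P : Subgroup ↥X) := by
    intro p hp P
    rcases subsingleton_or_nontrivial ↥(P : Subgroup ↥X) with hP | hP
    · exact isCyclic_of_subsingleton
    have hX : X ≠ ⊥ := by
      intro h
      obtain ⟨u, hu⟩ := exists_ne (1 : ↥(P : Subgroup ↥X))
      exact hu (Subtype.ext (Subtype.ext (Subgroup.mem_bot.mp (h ▸ (u : ↥X).2))))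
    set V := (Subgroup.center ↥Y).map Y.subtype with hV
    haveI hVc : IsMulCommutative ↥V := by rw [hV]; infer_instance
    have hVne : V ≠ ⊥ := by
      rw [hV, Ne, Subgroup.map_eq_bot_iff_of_injective _ Y.subtype_injective]
      haveI : Nontrivial ↥Y := (Subgroup.nontrivial_iff_ne_bot Y).mpr (hYne hX)
      haveI := hYp.center_nontrivial
      exact (Subgroup.nontrivial_iff_ne_bot _).mp inferInstance
    haveI hVn : V.Normal := CfsgLib.Solvable.normal_map_subtype_of_characteristic Y _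
    obtain ⟨z, hz⟩ : ∃ z : ↥(Subgroup.center ↥(P : Subgroup ↥X)), orderOf z = p := by
      haveI := P.isPGroup'.center_nontrivial
      obtain ⟨n, hn, hnc⟩ := (P.isPGroup'.to_subgroup (Subgroup.center ↥(P : Subgroup ↥X))).nontrivial_iff_card.mp
        inferInstance
      exact exists_prime_orderOf_dvd_card' p (hnc ▸ dvd_pow_self p hn.ne')
    have key : ∀ K : Subgroup ↥(P : Subgroup ↥X), Nat.card K = p → K = Subgroup.zpowers (z : ↥(P : Subgroup ↥X)) := by
      intro K hK
      let A : Subgroup ↥(P : Subgroup ↥X) := K ⊔ Subgroup.zpowers (z : ↥(P : Subgroup ↥X))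
      let φ : ↥(P : Subgroup ↥X) →* H := X.subtype.comp (P : Subgroup ↥X).subtype
      have hφ : Function.Injective φ := X.subtype_injective.comp (Subgroup.subtype_injective _)
      haveI : IsCyclic ↥K := isCyclic_of_prime_card hK
      haveI : IsMulCommutative ↥K := IsCyclic.isMulCommutative
      haveI hAc : IsMulCommutative ↥A := by
        have hK' : K ≤ Subgroup.centralizer (K : Set ↥(P : Subgroup ↥X)) :=
          Subgroup.le_centralizer_iff_isMulCommutative.mpr inferInstance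
        have hZ : Subgroup.zpowers (z : ↥(P : Subgroup ↥X)) ≤ Subgroup.center _ := Subgroup.zpowers_le.mpr z.2
        rw [← Subgroup.le_centralizer_iff_isMulCommutative]
        refine sup_le ?_ (hZ.trans (Subgroup.center_le_centralizer _))
        rw [Subgroup.le_centralizer_iff]
        exact sup_le hK' (hZ.trans (Subgroup.center_le_centralizer _))
      haveI : IsMulCommutative ↥(A.map φ) := inferInstance
      haveI hcy : IsCyclic ↥(A.map φ) := by
        refine CfsgLib.Frobenius.isCyclic_of_commutative_fpf (V := V) hVne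
          (by rw [Subgroup.normalizer_eq_top]; exact le_top) ?_
        intro a ha ha1
        rw [eq_bot_iff]
        rintro v ⟨hv, hva⟩
        obtain ⟨a', -, rfl⟩ := Subgroup.mem_map.mp ha
        rw [Subgroup.mem_bot]
        by_contra hv1
        exact fpf (φ a') (a' : ↥X).2 ha1 v (Subgroup.map_subtype_le _ hv) hv1
          (Subgroup.mem_centralizer_singleton_iff.mp hva).symm
      haveI : IsCyclic ↥A := (A.equivMapOfInjective φ hφ).isCyclic.mpr hcy
      have hz' : Nat.card ↥(Subgroup.zpowers (z : ↥(P : Subgroup ↥X))) = p := by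
        rw [Nat.card_zpowers, Subgroup.orderOf_coe, hz]
      have e := CfsgLib.Frobenius.eq_of_card_eq_prime_of_isCyclic (C := ↥A) (p := p) Fact.out
        (X := K.subgroupOf A) (Y := (Subgroup.zpowers (z : ↥(P : Subgroup ↥X))).subgroupOf A)
        (by rw [Nat.card_congr (Subgroup.subgroupOfEquivOfLe le_sup_left).toEquiv, hK])
        (by rw [Nat.card_congr (Subgroup.subgroupOfEquivOfLe le_sup_right).toEquiv, hz'])
      have e' := congrArg (Subgroup.map A.subtype) e
      rwa [Subgroup.subgroupOf_map_subtype, Subgroup.subgroupOf_map_subtype, inf_eq_left.mpr le_sup_left,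
        inf_eq_left.mpr le_sup_right] at e'
    rcases Cfsg.Agent.S0016.result p P.isPGroup' (fun A B hA hB => (key A hA).trans (key B hB).symm) with h | ⟨hp2, -⟩
    · exact h
    · exfalso
      obtain ⟨n, hn, hnc⟩ := P.isPGroup'.nontrivial_iff_card.mp hP
      have h2 : p ∣ Nat.card ↥X := (hnc ▸ dvd_pow_self p hn.ne' : p ∣ Nat.card ↥(P : Subgroup ↥X)).trans
        (Subgroup.card_subgroup_dvd_card _)
      rw [hp2] at h2
      exact Nat.not_even_iff_odd.mpr hXodd (even_iff_two_dvd.mpr h2)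
  -- work modulo `Y`
  set π := QuotientGroup.mk' Y with hπ
  have hπs : Function.Surjective π := QuotientGroup.mk'_surjective _
  have hXZ : IsZGroup ↥X := ⟨fun p hp P => by haveI := Fact.mk hp; exact hcyc p P⟩
  set Xb := X.map π with hXb
  haveI hXbZ : IsZGroup ↥Xb := IsZGroup.of_surjective (π.subgroupMap_surjective X)
  have hXbodd : Odd (Nat.card ↥Xb) := hXodd.of_dvd_nat (Subgroup.card_map_dvd _ _)
  have hXbidx : ∃ k, Xb.index = 2 ^ k := by
    obtain ⟨k, hk⟩ := hXidx
    obtain ⟨i, -, hi⟩ := (Nat.dvd_prime_pow Nat.prime_two).mp (hk ▸ Subgroup.index_map_dvd X hπs)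
    exact ⟨i, hi⟩
  set F := Cfsg.fittingSubgroup (H ⧸ Y) with hF
  have hFX : F ≤ Xb := by
    rw [hF, CfsgLib.Solvable.fittingSubgroup_eq_iSup_pCore]
    refine iSup_le fun q => ?_
    have hq : (q : ℕ).Prime := (Nat.mem_primeFactors.1 q.2).1
    haveI : Fact (q : ℕ).Prime := ⟨hq⟩
    by_cases h : (q : ℕ) = 2
    · rw [h, CfsgLib.Solvable.pCore_quotient_eq_bot (p := 2) Y rfl]; exact bot_le
    · obtain ⟨k, hk⟩ := CfsgLib.Solvable.card_pCore (p := (q : ℕ)) (G := H ⧸ Y)
      haveI := CfsgLib.Solvable.pCore_normal (q : ℕ) (H ⧸ Y)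
      set W := Cfsg.pCore (q : ℕ) (H ⧸ Y)
      have h2 := Subgroup.relIndex_mul_relIndex ⊥ Xb (W ⊔ Xb) bot_le le_sup_right
      rw [Subgroup.relIndex_bot_left, Subgroup.relIndex_bot_left] at h2
      have h3 := CfsgLib.PLoc.card_sup_dvd_of_normal W Xb
      rw [← h2, mul_comm (Nat.card ↥W) _] at h3
      have h4 : Xb.relIndex (W ⊔ Xb) ∣ Nat.card ↥W := Nat.dvd_of_mul_dvd_mul_left Nat.card_pos h3
      have h5 : Xb.relIndex (W ⊔ Xb) ∣ Xb.index := Dvd.intro _ (Subgroup.relIndex_mul_index le_sup_right)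
      obtain ⟨i, hi⟩ := hXbidx
      rw [hk] at h4; rw [hi] at h5
      have h6 := Nat.eq_one_of_dvd_coprimes
        ((Nat.coprime_primes hq Nat.prime_two).mpr h |>.pow k i) h4 h5
      exact le_trans le_sup_left (Subgroup.relIndex_eq_one.mp h6)
  haveI hFn : F.Normal := CfsgLib.Solvable.fittingSubgroup_normal _
  haveI : Group.IsNilpotent ↥F := CfsgLib.Solvable.fittingSubgroup_isNilpotent _
  haveI : IsZGroup ↥F := IsZGroup.of_injective (f := Subgroup.inclusion hFX) (Subgroup.inclusion_injective hFX)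
  haveI hFcyc : IsCyclic ↥F := inferInstance
  have hCF : Subgroup.centralizer (F : Set (H ⧸ Y)) ≤ F := CfsgLib.Solvable.centralizer_fittingSubgroup_le
  have hsup : X ⊔ Y = Xb.comap π := by
    rw [hXb, Subgroup.comap_map_eq, hπ, QuotientGroup.ker_mk']
  have hder : ∀ a b : H, a * b * a⁻¹ * b⁻¹ ∈ X ⊔ Y := by
    intro a b
    rw [hsup, Subgroup.mem_comap, map_mul, map_mul, map_mul, map_inv, map_inv]
    refine hFX (hCF ?_)
    obtain ⟨⟨f, hfF⟩, hf⟩ := IsCyclic.exists_generator (α := ↥F)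
    have hconj : ∀ g : H ⧸ Y, ∃ i : ℤ, ∀ n : ℤ, g * f ^ n * g⁻¹ = f ^ (i * n) := by
      intro g
      obtain ⟨i, hi⟩ := Subgroup.mem_zpowers_iff.mp (hf ⟨_, hFn.conj_mem f hfF g⟩)
      have hi' : f ^ i = g * f * g⁻¹ := by simpa using congrArg Subtype.val hi
      exact ⟨i, fun n => by rw [← conj_zpow, ← hi', ← zpow_mul]⟩
    intro u hu
    obtain ⟨n, hn⟩ := Subgroup.mem_zpowers_iff.mp (hf ⟨u, hu⟩)
    have hn' : f ^ n = u := by simpa using congrArg Subtype.val hn
    obtain ⟨i, hia⟩ := hconj (π a)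
    obtain ⟨k, hkb⟩ := hconj (π b)
    obtain ⟨i', hia'⟩ := hconj (π a)⁻¹
    obtain ⟨k', hkb'⟩ := hconj (π b)⁻¹
    have e : π a * π b * (π a)⁻¹ * (π b)⁻¹ * u * (π a * π b * (π a)⁻¹ * (π b)⁻¹)⁻¹ = u := by
      have r1 : f ^ (i' * (i * n)) = f ^ n := by rw [← hia', ← hia]; simp [mul_assoc]
      have r2 : f ^ (k * (k' * n)) = f ^ n := by rw [← hkb, ← hkb']; simp [mul_assoc]
      calc π a * π b * (π a)⁻¹ * (π b)⁻¹ * u * (π a * π b * (π a)⁻¹ * (π b)⁻¹)⁻¹
          = π a * (π b * ((π a)⁻¹ * ((π b)⁻¹ * f ^ n * ((π b)⁻¹)⁻¹) * ((π a)⁻¹)⁻¹) * (π b)⁻¹) * (π a)⁻¹ := by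
            rw [hn']; simp [mul_assoc]
        _ = f ^ (i * (k * (i' * (k' * n)))) := by rw [hkb', hia', hkb, hia]
        _ = f ^ (i' * (i * (k * (k' * n)))) := by congr 1; ring
        _ = f ^ (k * (k' * n)) := by
            rw [← hia' (i * (k * (k' * n))), ← hia (k * (k' * n))]; simp [mul_assoc]
        _ = u := by rw [r2, hn']
    exact (mul_inv_eq_iff_eq_mul.mp e).symm
  have hnormal : (X ⊔ Y).Normal := ⟨fun w hw g => by
    have := (X ⊔ Y).mul_mem (hder g w) hw
    simpa using this⟩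
  refine ⟨fpf, hcyc, hnormal, fun hN => ?_⟩
  haveI := hN
  have hQp : IsPGroup 2 (H ⧸ (X ⊔ Y)) := by
    obtain ⟨k, hk⟩ := hXidx
    obtain ⟨i, -, hi⟩ := (Nat.dvd_prime_pow Nat.prime_two).mp
      (hk ▸ Subgroup.index_dvd_of_le (le_sup_left : X ≤ X ⊔ Y))
    exact IsPGroup.of_card (n := i) (by rw [← Subgroup.index_eq_card, hi])
  refine ⟨?_, hQp⟩
  by_cases hX : X = ⊥
  · have hH : IsPGroup 2 H := by
      obtain ⟨k, hk⟩ := hXidx
      exact IsPGroup.of_card (n := k) (by rw [← hk, hX, Subgroup.index_bot])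
    have : X ⊔ Y = ⊤ := by
      rw [hYdef, CfsgLib.Solvable.pCore_eq_top_of_isPGroup hH, sup_top_eq]
    haveI : Subsingleton (H ⧸ (X ⊔ Y)) := by rw [this]; exact QuotientGroup.subsingleton_quotient_top
    exact isCyclic_of_subsingleton
  rcases subsingleton_or_nontrivial (H ⧸ (X ⊔ Y)) with hsub | hnt
  · exact isCyclic_of_subsingleton
  have hdis : ∀ u, u ∈ X → u ∈ Y → u = 1 := fun u hu hu' => hYX u hu' (hXo u hu)
  have hNX : ∀ w ∈ X ⊔ Y, w ∈ Subgroup.normalizer (X : Set H) → w ∈ X := by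
    intro w hw hwn
    rw [← SetLike.mem_coe, Subgroup.coe_mul_of_left_le_normalizer_right X Y
      (by rw [Subgroup.normalizer_eq_top]; exact le_top)] at hw
    obtain ⟨x, hx, y, hy, rfl⟩ := hw
    have hyn : y ∈ Subgroup.normalizer (X : Set H) := by
      have := mul_mem (inv_mem (Subgroup.le_normalizer hx)) hwn
      simpa using this
    have hy1 : y = 1 := by
      obtain ⟨a, ha, ha1⟩ := (Subgroup.bot_or_exists_ne_one X).resolve_left hX
      by_contra hy1
      refine fpf a ha ha1 y hy hy1 ?_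
      have h1 : y * a * y⁻¹ * a⁻¹ ∈ X := X.mul_mem ((Subgroup.mem_normalizer_iff.mp hyn a).mp ha) (X.inv_mem ha)
      have h2 : y * a * y⁻¹ * a⁻¹ ∈ Y := by
        have := Y.mul_mem hy (hYn.conj_mem _ (Y.inv_mem hy) a)
        simpa [mul_assoc] using this
      exact (mul_inv_eq_iff_eq_mul.mp (mul_inv_eq_one.mp (hdis _ h1 h2))).symm
    show x * y ∈ X; rw [hy1, mul_one]; exact hx
  have frattini : ∀ g : H, ∃ n ∈ Subgroup.normalizer (X : Set H),
      QuotientGroup.mk' (X ⊔ Y) n = QuotientGroup.mk' (X ⊔ Y) g := by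
    intro g
    let W := X ⊔ Y
    let X₁ : Subgroup ↥W := X.subgroupOf W
    let X₂ : Subgroup ↥W := (X.map (MulAut.conj g).toMonoidHom).subgroupOf W
    have hX2W : X.map (MulAut.conj g).toMonoidHom ≤ W := by
      rintro _ ⟨x, hx, rfl⟩
      exact hnormal.conj_mem x (Subgroup.mem_sup_left hx) g
    have hc1 : Nat.card ↥X₁ = Nat.card ↥X :=
      Nat.card_congr (Subgroup.subgroupOfEquivOfLe le_sup_left).toEquiv
    have hc2 : Nat.card ↥X₂ = Nat.card ↥X := by
      rw [Nat.card_congr (Subgroup.subgroupOfEquivOfLe hX2W).toEquiv]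
      exact Nat.card_congr (X.equivMapOfInjective _ (MulEquiv.injective _)).toEquiv.symm
    have hi : ∃ i, X.relIndex W = 2 ^ i := by
      obtain ⟨k, hk⟩ := hXidx
      obtain ⟨i, -, hi⟩ := (Nat.dvd_prime_pow Nat.prime_two).mp
        (hk ▸ Dvd.intro _ (Subgroup.relIndex_mul_index (le_sup_left : X ≤ W)))
      exact ⟨i, hi⟩
    obtain ⟨i, hi⟩ := hi
    have hcard : Nat.card ↥W = Nat.card ↥X * 2 ^ i := by
      rw [← hi, ← hc1, Subgroup.relIndex, Subgroup.card_mul_index]
    have hcop : (Nat.card ↥X).Coprime (2 ^ i) := (Nat.coprime_two_right.mpr hXodd).pow_right i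
    haveI : Group.IsSolvable ↥W := inferInstance
    obtain ⟨w, hw⟩ := CfsgLib.Solvable.isPiHall_conj (CfsgLib.Solvable.isPiHall_of_card hcard hcop hc1)
      (CfsgLib.Solvable.isPiHall_of_card hcard hcop hc2)
    have hmem : ∀ u : H, u ∈ X ↔ (w : H) * u * (w : H)⁻¹ ∈ X.map (MulAut.conj g).toMonoidHom := by
      intro u
      constructor
      · intro hu
        have h := hw ▸ Subgroup.smul_mem_pointwise_smul (⟨u, Subgroup.mem_sup_left hu⟩ : ↥W) (MulAut.conj w) X₁
          (Subgroup.mem_subgroupOf.mpr hu)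
        exact Subgroup.mem_subgroupOf.mp h
      · intro hu
        have huW : u ∈ W := by
          have := W.mul_mem (W.mul_mem (W.inv_mem w.2) (hX2W hu)) w.2
          simpa [mul_assoc] using this
        have h : w * ⟨u, huW⟩ * w⁻¹ ∈ X₂ := Subgroup.mem_subgroupOf.mpr hu
        rw [← hw, ← MulAut.conj_apply] at h
        exact Subgroup.mem_subgroupOf.mp (Subgroup.smul_mem_pointwise_smul_iff.mp h)
    refine ⟨(w : H)⁻¹ * g, ?_, ?_⟩
    · rw [Subgroup.mem_normalizer_iff]
      intro u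
      rw [hmem ((w : H)⁻¹ * g * u * ((w : H)⁻¹ * g)⁻¹)]
      have e : (w : H) * ((w : H)⁻¹ * g * u * ((w : H)⁻¹ * g)⁻¹) * (w : H)⁻¹ = g * u * g⁻¹ := by simp [mul_assoc]
      rw [e, Subgroup.mem_map]
      constructor
      · exact fun hu => ⟨u, hu, by simp⟩
      · rintro ⟨v, hv, hvu⟩
        simp only [MulEquiv.coe_toMonoidHom, MulAut.conj_apply] at hvu
        rwa [← mul_left_cancel (mul_right_cancel hvu)]
    · have : QuotientGroup.mk' (X ⊔ Y) (w : H) = 1 := (QuotientGroup.eq_one_iff _).mpr w.2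
      rw [map_mul, map_inv, this, inv_one, one_mul]
  have lift : ∀ q : H ⧸ (X ⊔ Y), orderOf q = 2 → ∃ t : H, orderOf t = 2 ∧
      t ∈ Subgroup.normalizer (X : Set H) ∧ QuotientGroup.mk' (X ⊔ Y) t = q := by
    intro q hq
    obtain ⟨g, rfl⟩ := QuotientGroup.mk'_surjective _ q
    obtain ⟨n, hn, hng⟩ := frattini g
    rw [← hng] at hq ⊢
    have h2 : QuotientGroup.mk' (X ⊔ Y) (n * n) = 1 := by
      rw [map_mul, ← pow_two, ← hq, pow_orderOf_eq_one]
    have hnX : n * n ∈ X := hNX _ ((QuotientGroup.eq_one_iff _).mp h2) (mul_mem hn hn)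
    obtain ⟨m, hm⟩ := hXo _ hnX
    have hmap : QuotientGroup.mk' (X ⊔ Y) (n ^ orderOf (n * n)) = QuotientGroup.mk' (X ⊔ Y) n := by
      rw [map_pow, hm, pow_succ, pow_mul, pow_two, ← map_mul, h2, one_pow, one_mul]
    refine ⟨n ^ orderOf (n * n), orderOf_eq_prime ?_ ?_, pow_mem hn _, hmap⟩
    · rw [← pow_mul, mul_comm, pow_mul, pow_two, pow_orderOf_eq_one]
    · intro h
      rw [h, map_one] at hmap
      rw [← hmap, orderOf_one] at hq
      omega
  have inv : ∀ t : H, orderOf t = 2 → t ∈ Subgroup.normalizer (X : Set H) → ∀ x ∈ X, t * x * t = x⁻¹ := by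
    intro t ht htn
    have htt : t * t = 1 := by rw [← pow_two, ← ht]; exact pow_orderOf_eq_one t
    have hti : t⁻¹ = t := inv_eq_of_mul_eq_one_right htt
    obtain ⟨y, hy, hy1, hty⟩ : ∃ y ∈ Y, y ≠ 1 ∧ t * y = y * t := by
      by_contra hno
      push Not at hno
      have hi := Cfsg.Agent.S3246.inverts htt Y
        (fun y hy => by simpa [hti] using hYn.conj_mem y hy t)
        (fun y hy h => by_contra fun h1 => hno y hy h1 h)
      haveI : Nontrivial ↥Y := (Subgroup.nontrivial_iff_ne_bot Y).mpr (hYne hX)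
      obtain ⟨n, hn, hnc⟩ := hYp.nontrivial_iff_card.mp inferInstance
      obtain ⟨⟨y, hy⟩, hy2⟩ := exists_prime_orderOf_dvd_card' (G := ↥Y) 2 (hnc ▸ dvd_pow_self 2 hn.ne')
      rw [Subgroup.orderOf_mk] at hy2
      have hyy : y⁻¹ = y := inv_eq_of_mul_eq_one_right (by rw [← pow_two, ← hy2]; exact pow_orderOf_eq_one y)
      have h := hi y hy
      rw [hyy] at h
      refine hno y hy (fun h1 => by rw [h1, orderOf_one] at hy2; omega) ?_
      calc t * y = t * y * (t * t) := by rw [htt, mul_one]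
        _ = (t * y * t) * t := by simp [mul_assoc]
        _ = y * t := by rw [h]
    refine Cfsg.Agent.S3246.inverts htt X
      (fun x hx => by simpa [hti] using (Subgroup.mem_normalizer_iff.mp htn x).mp hx) ?_
    intro x hx hxt
    by_contra hx1
    exact fpf x hx hx1 y hy hy1 (fixd x t (hXo x hx) ht hxt.symm y hy hty)
  have huniq : ∀ q₁ q₂ : H ⧸ (X ⊔ Y), orderOf q₁ = 2 → orderOf q₂ = 2 → q₁ = q₂ := by
    intro q₁ q₂ h1 h2
    obtain ⟨t, ht, htn, rfl⟩ := lift q₁ h1
    obtain ⟨s, hs, hsn, rfl⟩ := lift q₂ h2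
    have hss : s * s = 1 := by rw [← pow_two, ← hs]; exact pow_orderOf_eq_one s
    have htt : t * t = 1 := by rw [← pow_two, ← ht]; exact pow_orderOf_eq_one t
    have hc : t * s ∈ X ⊔ Y := by
      rw [hsup, Subgroup.mem_comap]
      refine hFX (hCF fun u hu => ?_)
      obtain ⟨x, hx, rfl⟩ := Subgroup.mem_map.mp (hFX hu)
      rw [← map_mul, ← map_mul]
      congr 1
      have e1 := inv s hs hsn x hx
      have e2 := inv t ht htn x⁻¹ (X.inv_mem hx)
      rw [inv_inv] at e2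
      calc x * (t * s) = t * x⁻¹ * t * t * s := by rw [e2]; simp [mul_assoc]
        _ = t * (x⁻¹ * s) := by rw [mul_assoc (t * x⁻¹) t t, htt]; simp [mul_assoc]
        _ = t * (s * x * s * s) := by rw [e1]
        _ = t * s * x := by rw [mul_assoc (s * x) s s, hss]; simp [mul_assoc]
    have h3 : QuotientGroup.mk' (X ⊔ Y) (t * s) = 1 := (QuotientGroup.eq_one_iff _).mpr hc
    rw [map_mul, mul_eq_one_iff_eq_inv] at h3
    rw [h3, inv_eq_of_mul_eq_one_right (by rw [← map_mul, hss, map_one])]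
  obtain ⟨n, hn, hnc⟩ := hQp.nontrivial_iff_card.mp hnt
  obtain ⟨q, hq⟩ := exists_prime_orderOf_dvd_card' (G := H ⧸ (X ⊔ Y)) 2 (hnc ▸ dvd_pow_self 2 hn.ne')
  haveI : IsMulCommutative ↥(⊤ : Subgroup (H ⧸ (X ⊔ Y))) := by
    refine ⟨⟨fun a b => Subtype.ext ?_⟩⟩
    obtain ⟨a', ha⟩ := QuotientGroup.mk'_surjective _ (a : H ⧸ (X ⊔ Y))
    obtain ⟨b', hb⟩ := QuotientGroup.mk'_surjective _ (b : H ⧸ (X ⊔ Y))
    rw [Subgroup.coe_mul, Subgroup.coe_mul, ← ha, ← hb]
    have := (QuotientGroup.eq_one_iff (a' * b' * a'⁻¹ * b'⁻¹)).mpr (hder a' b')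
    change QuotientGroup.mk' (X ⊔ Y) (a' * b' * a'⁻¹ * b'⁻¹) = 1 at this
    rw [map_mul, map_mul, map_mul, map_inv, map_inv, mul_inv_eq_one, mul_inv_eq_iff_eq_mul] at this
    exact this
  obtain ⟨a, ha⟩ := CfsgLib.InvChar.exists_zpowers_eq_of_commutative hQp
    ⟨q, hq, fun q' hq' => huniq q' q hq' hq⟩ ⊤ inferInstance
  exact ⟨⟨a, fun b => Subgroup.mem_zpowers_iff.mp (by rw [ha]; exact Subgroup.mem_top b)⟩⟩

end Cfsg.Agent.S3215
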