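import Cfsg.Statements.S3216
import Cfsg.Agent.Lib.JankoThompson.Concl
import Cfsg.Agent.Lib.JankoThompson.Even
import Cfsg.Agent.Lib.JankoThompson.Odd
import Cfsg.Agent.Lib.Linear.Simple

set_option autoImplicit false
open Cfsg

namespace Cfsg.Agent.S3216

/-- Let G be a finite non-abelian simple group and t an involution of G; write C = C_G(t) and C̄ = C/O(C). If the subgroup of C̄ generated by its 2-elements (the smallest normal subgroup of C̄ of odd index) is isomorphic to Z₂ × PSL₂(q) for some prime power q > 3, then the Sylow 2-subgroups of G are elementary abelian of order 8. -/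
theorem result {G : Type*} [Group G] [Finite G] [IsSimpleGroup G]
    (hG : ¬ IsMulCommutative G) (t : G) (ht : orderOf t = 2) {F : Type*} [Field F] [Fintype F] (hF : 3 < Fintype.card F)
    (hL : Nonempty (↥(Subgroup.closure {x : (↥(Subgroup.centralizer ({t} : Set G)) ⧸ Cfsg.oddCore ↥(Subgroup.centralizer ({t} : Set G))) | ∃ k : ℕ, orderOf x = 2 ^ k}) ≃*
      (Multiplicative (ZMod 2) × Matrix.ProjectiveSpecialLinearGroup (Fin 2) F))) (S : Sylow 2 G) :
    Nat.card ↥(S : Subgroup G) = 8 ∧ ∀ x ∈ (S : Subgroup G), x ^ 2 = 1 := by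
  classical
  haveI : Fact (Nat.Prime 2) := ⟨Nat.prime_two⟩
  obtain ⟨e⟩ := hL
  have htt : t * t = 1 := by rw [← pow_two, ← ht, pow_orderOf_eq_one]
  have ht1 : t ≠ 1 := fun h => by rw [h, orderOf_one] at ht; omega
  haveI hPS : IsSimpleGroup (Matrix.ProjectiveSpecialLinearGroup (Fin 2) F) :=
    CfsgLib.Linear.isSimpleGroup_PSL_fin 2 le_rfl fun _ => by rw [Nat.card_eq_fintype_card]; omega
  have hperf : commutator (Matrix.ProjectiveSpecialLinearGroup (Fin 2) F) = ⊤ :=
    CfsgLib.Linear.commutator_PSL_eq_top (Or.inr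
      (CfsgLib.Linear.exists_sq_ne_one_of_four_le_card (by rw [Nat.card_eq_fintype_card]; omega)))
  have hZ : ∀ z : Matrix.ProjectiveSpecialLinearGroup (Fin 2) F, (∀ y, z * y = y * z) → z = 1 := by
    intro z hz
    rcases IsSimpleGroup.eq_bot_or_eq_top_of_normal
      (Subgroup.center (Matrix.ProjectiveSpecialLinearGroup (Fin 2) F)) inferInstance with h | h
    · exact Subgroup.mem_bot.mp (h ▸ Subgroup.mem_center_iff.mpr fun y => (hz y).symm)
    · exfalso
      have hle : commutator (Matrix.ProjectiveSpecialLinearGroup (Fin 2) F) ≤ ⊥ := by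
        rw [commutator_def, Subgroup.commutator_le]
        intro x _ y _
        have hx : x ∈ Subgroup.center (Matrix.ProjectiveSpecialLinearGroup (Fin 2) F) := h ▸ Subgroup.mem_top x
        rw [Subgroup.mem_bot, commutatorElement_eq_one_iff_mul_comm]
        exact (Subgroup.mem_center_iff.mp hx y).symm
      rw [hperf] at hle
      exact not_subsingleton (Matrix.ProjectiveSpecialLinearGroup (Fin 2) F)
        ⟨fun a b => (Subgroup.mem_bot.mp (hle (Subgroup.mem_top a))).trans
          (Subgroup.mem_bot.mp (hle (Subgroup.mem_top b))).symm⟩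
  by_cases h2 : ringChar F = 2
  · haveI : CharP F 2 := ringChar.of_eq h2
    have h2q : 2 ∣ Fintype.card F := by
      obtain ⟨n, -, hn⟩ := FiniteField.card F 2
      rw [hn]
      exact dvd_pow_self 2 n.ne_zero
    have hU2 : IsPGroup 2 (CfsgLib.JankoThompson.upperPS F).range := by
      refine CfsgLib.JankoThompson.pGroup_of_sq ?_
      rintro _ ⟨c, rfl⟩
      rw [← map_mul, show c * c = 1 from Multiplicative.toAdd.injective (CharTwo.add_self_eq_zero _), map_one]
    have hidx : ¬ 2 ∣ (CfsgLib.JankoThompson.upperPS F).range.index := by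
      rw [CfsgLib.JankoThompson.upperPS, MonoidHom.range_comp,
        Subgroup.index_map_of_bijective ⟨CfsgLib.JankoThompson.mkPS_injective,
          QuotientGroup.mk'_surjective _⟩]
      exact CfsgLib.Balance.not_dvd_index_upper F h2q
    obtain ⟨j, Fr⟩ := CfsgLib.JankoThompson.exists_frame hZ htt ht1 e (hU2.toSylow hidx)
    obtain ⟨E, W, n, l, h, a, hM⟩ :=
      CfsgLib.JankoThompson.even_elem inferInstance hG htt ht1 hF (IsPGroup.toSylow_coe _ _) Fr
    exact h.sylow_eight a (fun _ => hM) S
  · have hodd : Fintype.card F % 2 = 1 := FiniteField.odd_card_of_char_ne_two h2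
    have hconj := fun a b ha hb => Cfsg.Agent.S5317.involutions_conj (F := F) hodd a b ha hb
    by_cases h16 : 16 ∣ Fintype.card F ^ 2 - 1
    · exfalso
      obtain ⟨P⟩ : Nonempty (Sylow 2 (Matrix.ProjectiveSpecialLinearGroup (Fin 2) F)) := inferInstance
      obtain ⟨k, hk, ⟨ek⟩⟩ := Cfsg.Agent.S5317.exists_dihedral_sylow hodd h16 P
      obtain ⟨j, Fr⟩ := CfsgLib.JankoThompson.exists_frame hZ htt ht1 e P
      obtain ⟨d, T, D, h⟩ := CfsgLib.JankoThompson.dihedral_data inferInstance hG htt ht1 P hk ek hconj Fr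
      exact h.elim
    · have h2' : (2 : F) ≠ 0 := CfsgLib.Linear.two_ne_zero_of_odd_card (Nat.odd_iff.2 hodd)
      have hpos : 0 < Nat.card {V : Subgroup (Matrix.ProjectiveSpecialLinearGroup (Fin 2) F) // IsKleinFour V} := by
        by_contra h0
        have h := CfsgLib.PSL2Sub.twelve_mul_card_klein h2'
        rw [Nat.eq_zero_of_not_pos h0, mul_zero] at h
        exact Nat.card_pos.ne h
      obtain ⟨⟨V, hV⟩⟩ := (Nat.card_pos_iff.mp hpos).1
      have hidx : ¬ 2 ∣ V.index := by
        have h1 := CfsgLib.PSL2Sub.gcd_mul_card_PS (F := F)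
        rw [show Nat.gcd 2 (Fintype.card F - 1) = 2 from
          Nat.gcd_eq_left (Nat.dvd_of_mod_eq_zero (by omega))] at h1
        have h3 := V.card_mul_index
        rw [hV.card_four] at h3
        rw [← h3] at h1
        have h8 : 8 ∣ Fintype.card F ^ 2 - 1 := by
          obtain ⟨r, hr⟩ : Odd (Fintype.card F) := Nat.odd_iff.2 hodd
          obtain ⟨s, hs⟩ := Nat.even_mul_succ_self r
          refine ⟨s, ?_⟩
          rw [hr, show (2 * r + 1) ^ 2 = 4 * (r * (r + 1)) + 1 by ring, hs]
          omega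
        obtain ⟨m, hm⟩ := h8
        rw [hm] at h1 h16
        have h4 : V.index = Fintype.card F * m := by nlinarith
        rw [h4, Nat.prime_two.dvd_mul]
        rintro (hd | hd)
        · omega
        · exact h16 (Nat.mul_dvd_mul_left 8 hd)
      have hV2 : IsPGroup 2 V := IsPGroup.of_card (n := 2) (by rw [hV.card_four]; rfl)
      obtain ⟨j, Fr⟩ := CfsgLib.JankoThompson.exists_frame hZ htt ht1 e (hV2.toSylow hidx)
      obtain ⟨E, W, l, h, a⟩ := CfsgLib.JankoThompson.klein_elem inferInstance hG htt ht1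
        (hV2.toSylow hidx) (by rw [IsPGroup.toSylow_coe]; exact hV) hconj Fr
      exact h.sylow_eight (F := F) a (fun h4 => absurd h4 (by norm_num)) S

end Cfsg.Agent.S3216
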