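import Cfsg.Statements.S3221
import Cfsg.Agent.Lib.U42Recog.Label
import Cfsg.Agent.Lib.U42Recog.Psp

set_option autoImplicit false
open Cfsg

namespace Cfsg.Agent.S3221

open CfsgLib.U42Recog

/-- Let F be the field with 3 elements and t₀ an involution of PSp₄(3) = PSp₄(F) lying in the centre of a Sylow 2-subgroup. If G is a finite group of even order that has no subgroup of index 2 and contains an involution t whose centralizer C_G(t) is isomorphic to C_{PSp₄(3)}(t₀), then G ≅ PSp₄(3). -/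
theorem result {G : Type*} [Group G] [Finite G] (hev : Even (Nat.card G))
    (hG : ∀ H : Subgroup G, H.index ≠ 2) {F : Type*} [Field F] [Fintype F] (hF : Fintype.card F = 3)
    (U : Sylow 2 (Cfsg.PSp 2 F)) (t₀ : Cfsg.PSp 2 F) (ht₀ : orderOf t₀ = 2) (ht₀U : t₀ ∈ (U : Subgroup (Cfsg.PSp 2 F)))
    (ht₀c : ∀ u ∈ (U : Subgroup (Cfsg.PSp 2 F)), u * t₀ = t₀ * u) (t : G) (ht : orderOf t = 2)
    (e : ↥(Subgroup.centralizer ({t} : Set G)) ≃* ↥(Subgroup.centralizer ({t₀} : Set (Cfsg.PSp 2 F)))) :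
    Nonempty (G ≃* Cfsg.PSp 2 F) := by
  haveI : Finite (Cfsg.PSp 2 F) := by infer_instance
  obtain ⟨P⟩ := exists_pre_PSp (F := F) hF
  -- `t₀` is conjugate to the involution of the model
  obtain ⟨Q, hQ⟩ := P.exists_sylow_eq
  obtain ⟨g, hg⟩ := MulAction.exists_smul_eq (Cfsg.PSp 2 F) U Q
  have hgt : g * t₀ * g⁻¹ ∈ (Q : Subgroup (Cfsg.PSp 2 F)) := by
    rw [← hg, Sylow.coe_subgroup_smul]
    exact Subgroup.smul_mem_pointwise_smul _ (MulAut.conj g) _ ht₀U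
  rw [hQ] at hgt
  obtain ⟨c, -, hc⟩ := hgt
  have hsq : t₀ * t₀ = 1 := CfsgLib.Invol.mul_self_eq_one ht₀
  have hc2 : c * c = 1 := P.inj (by
    rw [map_mul, map_one, hc]
    calc g * t₀ * g⁻¹ * (g * t₀ * g⁻¹) = g * (t₀ * t₀) * g⁻¹ := by group
      _ = 1 := by rw [hsq]; group)
  have hc1 : c ≠ 1 := fun h => CfsgLib.Invol.ne_one_of_invol ht₀ (by
    rw [h, map_one] at hc
    calc t₀ = g⁻¹ * (g * t₀ * g⁻¹) * g := by group
      _ = 1 := by rw [← hc]; group)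
  have hcz : c = CG.z0 := Pre.central_in_sylC hc2 hc1 fun x hx => P.inj (by
    have hxQ : P.emb x ∈ (Q : Subgroup (Cfsg.PSp 2 F)) := hQ ▸ ⟨x, hx, rfl⟩
    rw [← hg, Sylow.coe_subgroup_smul] at hxQ
    obtain ⟨y, hy, hyx⟩ := hxQ
    change g * y * g⁻¹ = P.emb x at hyx
    rw [map_mul, map_mul, hc, ← hyx]
    calc g * y * g⁻¹ * (g * t₀ * g⁻¹) = g * (y * t₀) * g⁻¹ := by group
      _ = g * (t₀ * y) * g⁻¹ := by rw [ht₀c y hy]
      _ = g * t₀ * g⁻¹ * (g * y * g⁻¹) := by group)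
  rw [hcz, P.map_z0] at hc
  let P₀ : Pre (Cfsg.PSp 2 F) := P.mapIso (MulAut.conj g⁻¹)
  have hP₀ : P₀.t = t₀ := by
    show g⁻¹ * P.t * g⁻¹⁻¹ = t₀
    rw [hc]; group
  -- pull the model back to `G`
  let f : CG →* Subgroup.centralizer ({t₀} : Set (Cfsg.PSp 2 F)) :=
    P₀.emb.codRestrict _ fun x => Subgroup.mem_centralizer_singleton_iff.2 (by
      rw [← hP₀]; exact P₀.emb_comm_t x)
  have hf : Function.Surjective f := fun y => by
    obtain ⟨x, hx⟩ := (P₀.cent (y : Cfsg.PSp 2 F)).1 (by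
      rw [hP₀]; exact Subgroup.mem_centralizer_singleton_iff.1 y.2)
    exact ⟨x, Subtype.ext hx⟩
  have hfi : Function.Injective f := fun a b h => P₀.inj (congrArg Subtype.val h)
  let j : CG →* G := (Subgroup.centralizer ({t} : Set G)).subtype.comp (e.symm.toMonoidHom.comp f)
  have hj : Function.Injective j :=
    Subtype.val_injective.comp (e.symm.injective.comp hfi)
  have hjs : ∀ x : G, x * t = t * x ↔ ∃ a, j a = x := fun x => by
    refine ⟨fun hx => ?_, fun ⟨a, ha⟩ => ha ▸ Subgroup.mem_centralizer_singleton_iff.1 (e.symm (f a)).2⟩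
    obtain ⟨a, ha⟩ := hf (e ⟨x, Subgroup.mem_centralizer_singleton_iff.2 hx⟩)
    exact ⟨a, by simp [j, ha]⟩
  obtain ⟨a, ha⟩ := (hjs t).1 rfl
  have ha2 : a * a = 1 := hj (by rw [map_mul, map_one, ha, CfsgLib.Invol.mul_self_eq_one ht])
  have ha1 : a ≠ 1 := fun h => CfsgLib.Invol.ne_one_of_invol ht (by rw [← ha, h, map_one])
  have haz : a = CG.z0 := Pre.central_in_sylC ha2 ha1 fun x _ => hj (by
    rw [map_mul, map_mul, ha]
    exact (hjs (j x)).2 ⟨x, rfl⟩)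
  let PG : Pre G := ⟨t, j, hj, haz ▸ ha, hjs, hG⟩
  obtain ⟨S⟩ := PG.exists_setting
  obtain ⟨T⟩ := P.exists_setting
  exact nonempty_mulEquiv S T

end Cfsg.Agent.S3221
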