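import Cfsg.Statements.S3222

import Cfsg.Agent.Lib.TwoS4.Cases

set_option autoImplicit false
open Cfsg

namespace Cfsg.Agent.S3222

/-- Let G be a finite group of even order such that (1) some involution t lying in the centre of a Sylow 2-subgroup of G has C_G(t) ≅ Z₂ × S₄, and (2) every Sylow 2-subgroup S of G satisfies C_G(S′) = S, where S′ is the derived subgroup of S. Then G = C_G(t) if G is solvable, and G ≅ S₆ otherwise. -/
theorem result {G : Type*} [Group G] [Finite G] (hev : Even (Nat.card G))
    (t : G) (ht : orderOf t = 2) (T : Sylow 2 G) (htT : t ∈ (T : Subgroup G)) (htc : ∀ s ∈ (T : Subgroup G), s * t = t * s)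
    (e : ↥(Subgroup.centralizer ({t} : Set G)) ≃* (Multiplicative (ZMod 2) × Equiv.Perm (Fin 4)))
    (h2 : ∀ S : Sylow 2 G, Subgroup.centralizer ((⁅(S : Subgroup G), (S : Subgroup G)⁆ : Subgroup G) : Set G) = (S : Subgroup G)) :
    (Group.IsSolvable G → Subgroup.centralizer ({t} : Set G) = ⊤) ∧
      (¬ Group.IsSolvable G → Nonempty (G ≃* Equiv.Perm (Fin 6))) := by
  classical
  haveI : Fact (Nat.Prime 2) := ⟨Nat.prime_two⟩
  set C := Subgroup.centralizer ({t} : Set G) with hC
  have htC : t ∈ C := Subgroup.mem_centralizer_singleton_iff.mpr rfl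
  let i : CfsgLib.TwoS4.Mdl →* G := C.subtype.comp e.symm.toMonoidHom
  have hinj : Function.Injective i := C.subtype_injective.comp e.symm.injective
  have hit : i CfsgLib.TwoS4.cM = t := by
    have hcen : ∀ x, e ⟨t, htC⟩ * x = x * e ⟨t, htC⟩ := by
      intro x
      obtain ⟨⟨y, hy⟩, rfl⟩ := e.surjective x
      rw [← map_mul, ← map_mul]
      refine congrArg e (Subtype.ext ?_)
      show t * y = y * t
      exact (Subgroup.mem_centralizer_singleton_iff.mp hy).symm
    rcases CfsgLib.TwoS4.center_M _ hcen with h | h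
    · exfalso
      have h1 : (⟨t, htC⟩ : C) = 1 := e.injective (h.trans (map_one e).symm)
      have h3 : t = 1 := congrArg Subtype.val h1
      rw [h3, orderOf_one] at ht
      omega
    · show ((e.symm CfsgLib.TwoS4.cM : C) : G) = t
      rw [← h, e.symm_apply_apply]
  have hrange : i.range = C := by
    ext y
    constructor
    · rintro ⟨m, rfl⟩
      exact (e.symm m).2
    · intro hy
      exact ⟨e ⟨y, hy⟩, congrArg Subtype.val (e.symm_apply_apply ⟨y, hy⟩)⟩
  have hcardC : Nat.card C = 48 := by
    rw [Nat.card_congr e.toEquiv, Nat.card_eq_fintype_card, CfsgLib.TwoS4.card_M]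
  set S0 : Subgroup G := (Subgroup.centralizer ({CfsgLib.TwoS4.zM} : Set CfsgLib.TwoS4.Mdl)).map i
    with hS0
  have hS0card : Nat.card S0 = 16 := by
    rw [hS0, Subgroup.card_map_of_injective hinj, ← CfsgLib.TwoS4.card_centralizer_z,
      ← Nat.card_eq_fintype_card]
    exact Nat.card_congr (Equiv.subtypeEquivRight fun m => CfsgLib.TwoS4.mem_cent_M _ m)
  have hTC : (T : Subgroup G) ≤ C := fun s hs =>
    Subgroup.mem_centralizer_singleton_iff.mpr (htc s hs)
  have hidx : ¬ 2 ∣ S0.index := by
    have h1 : ¬ 2 ∣ C.index := fun h => T.not_dvd_index (h.trans (Subgroup.index_dvd_of_le hTC))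
    have h3 : S0.index = 3 * C.index := by
      have h4 := S0.card_mul_index
      have h5 := C.card_mul_index
      rw [hS0card] at h4
      rw [hcardC] at h5
      omega
    omega
  have hp : IsPGroup 2 S0 := IsPGroup.of_card (n := 4) (by rw [hS0card]; norm_num)
  let S : Sylow 2 G := hp.toSylow hidx
  let D : CfsgLib.TwoS4.Emb G :=
    { i := i
      inj := hinj
      range_eq := by rw [hit]; exact hrange
      S := S
      S_eq := rfl
      hCS := h2 S }
  have hDt : D.t = t := hit
  have hkey : C = ⊤ ∨ Nonempty (G ≃* Equiv.Perm (Fin 6)) := by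
    rcases D.center_or_conj with h | ⟨D', hD't, hh⟩
    · left
      rw [hDt] at h
      exact h
    · right
      obtain ⟨H, hHn, hH2, htH⟩ := D'.exists_index_two hh
      exact D'.sym_six hh H hH2 htH
  constructor
  · intro hsol
    rcases hkey with h | ⟨⟨f⟩⟩
    · exact h
    · exfalso
      have h6 : Group.IsSolvable (Equiv.Perm (Fin 6)) :=
        Group.isSolvable_of_surjective (f := f.toMonoidHom) f.surjective
      exact Equiv.Perm.not_solvable (Fin 6) (by simp; norm_num) h6
  · intro hns
    rcases hkey with h | h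
    · exfalso
      refine hns ?_
      haveI : Group.IsSolvable (Equiv.Perm (Fin 4)) := CfsgLib.PermGen.perm_four_isSolvable
      exact Group.isSolvable_of_surjective (f := i)
        (MonoidHom.range_eq_top.mp (hrange.trans h))
    · exact h

end Cfsg.Agent.S3222
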