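import Cfsg.Statements.S3225
import Mathlib.GroupTheory.Transfer
import Mathlib.GroupTheory.Index
import Mathlib.Data.ZMod.Basic

set_option autoImplicit false
open Cfsg

namespace Cfsg.Agent.S3225

theorem result {G : Type*} [Group G] [Finite G] (hev : Even (Nat.card G))
    (hG : ∀ H : Subgroup G, H.index ≠ 2) (S : Sylow 2 G) (M : Subgroup G) (hMS : M ≤ (S : Subgroup G)) (hM : M.relIndex (S : Subgroup G) = 2)
    (n : ℕ) (hn : 1 ≤ n) (hord : ∀ y ∈ (S : Subgroup G), y ∉ M → 2 ^ (n - 1) < orderOf y)
    (x : G) (hx : x ∈ (S : Subgroup G)) (hxn : orderOf x = 2 ^ n) :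
    ∃ g : G, g * x * g⁻¹ ∈ M := by
  classical
  by_contra hne
  push Not at hne
  let a : Multiplicative (ZMod 2) := Multiplicative.ofAdd 1
  have ha2 : a * a = 1 := by decide
  let φ : ↥(S : Subgroup G) →* Multiplicative (ZMod 2) :=
    { toFun := fun s => if (s : G) ∈ M then 1 else a
      map_one' := by rw [if_pos]; exact M.one_mem
      map_mul' := fun s t => by
        have hkey : ((s * t : ↥(S : Subgroup G)) : G) ∈ M ↔ ((s : G) ∈ M ↔ (t : G) ∈ M) :=
          Subgroup.mul_mem_iff_of_index_two (H := M.subgroupOf (S : Subgroup G)) hM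
        by_cases hs : (s : G) ∈ M <;> by_cases ht : (t : G) ∈ M
        · rw [if_pos (hkey.mpr (iff_of_true hs ht)), if_pos hs, if_pos ht, mul_one]
        · rw [if_neg (fun h => ht ((hkey.mp h).mp hs)), if_pos hs, if_neg ht, one_mul]
        · rw [if_neg (fun h => hs ((hkey.mp h).mpr ht)), if_neg hs, if_pos ht, mul_one]
        · rw [if_pos (hkey.mpr (iff_of_false hs ht)), if_neg hs, if_neg ht, ha2] }
  let := (S : Subgroup G).fintypeQuotientOfFiniteIndex
  let := Fintype.ofFinite (Quotient (MulAction.orbitRel (Subgroup.zpowers x) (G ⧸ (S : Subgroup G))))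
  let per : Quotient (MulAction.orbitRel (Subgroup.zpowers x) (G ⧸ (S : Subgroup G))) → ℕ :=
    fun q => Function.minimalPeriod (x • ·) q.out
  have hper : ∀ q, per q ∣ 2 ^ n := by
    intro q
    rw [← hxn]
    apply Function.IsPeriodicPt.minimalPeriod_dvd
    show (x • ·)^[orderOf x] q.out = q.out
    rw [smul_iterate, pow_orderOf_eq_one]
    exact one_smul _ _
  have hterm : ∀ q, φ ⟨q.out.out⁻¹ * x ^ per q * q.out.out,
      QuotientGroup.out_conj_pow_minimalPeriod_mem (S : Subgroup G) x q.out⟩ = a ^ per q := by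
    intro q
    obtain ⟨i, hi, hpi⟩ := (Nat.dvd_prime_pow Nat.prime_two).mp (hper q)
    rcases Nat.eq_zero_or_pos i with h0 | h0
    · rw [h0, pow_zero] at hpi
      have h1 : q.out.out⁻¹ * x ^ per q * q.out.out ∉ M := by
        rw [hpi, pow_one]
        simpa using hne (q.out.out)⁻¹
      show (if _ then _ else _) = _
      rw [if_neg h1, hpi, pow_one]
    · have h1 : q.out.out⁻¹ * x ^ per q * q.out.out ∈ M := by
        by_contra h
        have h2 := hord _ (QuotientGroup.out_conj_pow_minimalPeriod_mem (S : Subgroup G) x q.out) h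
        have h3 : (q.out.out⁻¹ * x ^ per q * q.out.out) ^ (2 ^ (n - 1)) = 1 := by
          have h4 : (x ^ per q) ^ (2 ^ (n - 1)) = 1 := by
            rw [← pow_mul, hpi, ← pow_add]
            apply orderOf_dvd_iff_pow_eq_one.mp
            rw [hxn]
            exact pow_dvd_pow 2 (by omega)
          have := conj_pow (a := q.out.out⁻¹) (b := x ^ per q) (i := 2 ^ (n - 1))
          rw [inv_inv] at this
          rw [this, h4, mul_one, inv_mul_cancel]
        exact absurd (orderOf_le_of_pow_eq_one (Nat.two_pow_pos _) h3) (not_le.mpr h2)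
      show (if _ then _ else _) = _
      rw [if_pos h1, hpi, ← Nat.succ_pred_eq_of_pos h0, pow_succ, mul_comm, pow_mul, pow_two, ha2, one_pow]
  have htr : MonoidHom.transfer φ x = a := by
    rw [MonoidHom.transfer_eq_prod_quotient_orbitRel_zpowers_quot]
    refine (Finset.prod_congr rfl fun q _ => hterm q).trans ?_
    rw [Finset.prod_pow_eq_pow_sum]
    have hidx : ∑ q, per q = (S : Subgroup G).index := (Subgroup.index_eq_sum_minimalPeriod _ x).symm
    obtain ⟨m, hm⟩ : Odd (∑ q, per q) := by
      rw [hidx, ← Nat.not_even_iff_odd, even_iff_two_dvd]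
      exact S.not_dvd_index
    rw [hm, pow_succ, pow_mul, pow_two, ha2, one_pow, one_mul]
  apply hG (MonoidHom.transfer φ).ker
  rw [Subgroup.index_ker]
  have h : Nat.card ↥(MonoidHom.transfer φ).range ∣ 2 := by
    have := Subgroup.card_subgroup_dvd_card (MonoidHom.transfer φ).range
    simpa using this
  rcases (Nat.dvd_prime Nat.prime_two).mp h with h' | h'
  · exfalso
    have h2 : (MonoidHom.transfer φ).range = ⊥ := Subgroup.card_eq_one.mp h'
    have h3 : a ∈ (MonoidHom.transfer φ).range := ⟨x, htr⟩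
    rw [h2, Subgroup.mem_bot] at h3
    exact absurd h3 (by decide)
  · exact h'

end Cfsg.Agent.S3225
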