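import Cfsg.Statements.S3244
import Cfsg.Agent.Lib.InvChar.EarlyCharTwo
import Cfsg.Agent.S0215

set_option autoImplicit false
open Cfsg

namespace Cfsg.Agent.S3244

/-- Say that a finite group G is of characteristic 2 type in the early sense when a Sylow 2-subgroup S of G has a self-centralizing normal subgroup of rank at least 3, S normalizes no nontrivial subgroup of odd order, and every 2-local subgroup of G is 2-constrained. If G is a non-abelian simple group of characteristic 2 type in this sense, then for some maximal 2-local subgroup M of G the centre of O₂(M) is not cyclic. -/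
theorem result {G : Type*} [Group G] [Finite G] [IsSimpleGroup G]
    (hG : ¬ IsMulCommutative G) (S : Sylow 2 G) (A : Subgroup G) (hA : Cfsg.IsSCN (S : Subgroup G) A) (hA3 : ¬ Cfsg.PRankLE 2 2 ↥A)
    (hinv : ∀ X : Subgroup G, Odd (Nat.card ↥X) → (S : Subgroup G) ≤ Subgroup.normalizer (X : Set G) → X = ⊥)
    (hcon : ∀ T : Subgroup G, IsPGroup 2 ↥T → T ≠ ⊥ → Cfsg.IsPConstrained 2 ↥(Subgroup.normalizer (T : Set G))) :
    ∃ M : Subgroup G, Cfsg.IsMaximalTwoLocal M ∧ ¬ IsCyclic ↥(Subgroup.center ↥(Cfsg.pCore 2 ↥M)) := by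
  classical
  obtain ⟨hAS, hSA, hSC⟩ := hA
  by_contra hcyc
  push Not at hcyc
  -- the elements of order at most two of `A`
  have hAcomm : ∀ a ∈ A, ∀ b ∈ A, a * b = b * a := fun a ha b hb => by
    rw [← hSC] at hb
    exact hb.2 a ha
  let V : Subgroup G :=
    { carrier := {v | v ∈ A ∧ v * v = 1}
      one_mem' := ⟨A.one_mem, mul_one _⟩
      mul_mem' := fun {a b} ha hb => ⟨A.mul_mem ha.1 hb.1, by
        rw [(show Commute b a from hAcomm b hb.1 a ha.1).mul_mul_mul_comm, ha.2, hb.2, mul_one]⟩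
      inv_mem' := fun {a} ha => ⟨A.inv_mem ha.1, by rw [← mul_inv_rev, ha.2, inv_one]⟩ }
  have hVn : (S : Subgroup G) ≤ Subgroup.normalizer (V : Set G) := by
    intro s hs
    rw [Subgroup.mem_normalizer_iff]
    intro v
    refine and_congr (Subgroup.mem_normalizer_iff.mp (hSA hs) v) ?_
    rw [conj_mul, conj_eq_one_iff]
  have hVS : V ≤ (S : Subgroup G) := fun v hv => hAS hv.1
  have hVcard : 4 < Nat.card ↥V := by
    obtain ⟨E, hE, hEp, hEcard⟩ : ∃ E : Subgroup ↥A, IsMulCommutative ↥E ∧ (∀ a ∈ E, a ^ 2 = 1) ∧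
        4 < Nat.card ↥E := by
      simpa [Cfsg.PRankLE] using hA3
    refine lt_of_lt_of_le hEcard (Nat.card_le_card_of_injective
      (fun a : ↥E => (⟨((a : ↥A) : G), (a : ↥A).2, by
        have := congrArg (Subtype.val) (hEp a a.2)
        simpa [pow_two] using this⟩ : ↥V)) ?_)
    intro a b hab
    exact Subtype.ext (Subtype.ext (congrArg (fun v : ↥V => (v : G)) hab))
  have hSp : IsPGroup 2 ↥(S : Subgroup G) := S.isPGroup'
  have : (V.subgroupOf (S : Subgroup G)).Normal :=
    (Subgroup.normal_subgroupOf_iff_le_normalizer hVS).mpr hVn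
  obtain ⟨z', hzV', hz1', hzC'⟩ := CfsgLib.InvChar.exists_ne_one_mem_center_of_normal hSp
    (V.subgroupOf (S : Subgroup G)) (fun h0 => by
      rw [Subgroup.subgroupOf_eq_bot, disjoint_iff, inf_eq_left.mpr hVS] at h0
      rw [h0, Subgroup.card_bot] at hVcard
      omega)
  set z : G := (z' : G) with hzdef
  have h : CfsgLib.InvChar.Early.Setup S V z :=
    { le := hVS, normal := hVn, sq := fun v hv => hv.2, card := hVcard
      z_mem := Subgroup.mem_subgroupOf.mp hzV'
      z_ne := fun h0 => hz1' (Subtype.ext h0)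
      z_central := fun s hs => congrArg Subtype.val (Subgroup.mem_center_iff.mp hzC' ⟨s, hs⟩)
      inv := hinv, con := hcon }
  have hzz : z * z = 1 := h.sq z h.z_mem
  have hzS : z ∈ (S : Subgroup G) := z'.2
  -- every maximal 2-local is the centraliser of a conjugate of `z`
  have hmax : ∀ M : Subgroup G, Cfsg.IsMaximalTwoLocal M → ∀ P : Subgroup G, IsPGroup 2 ↥P → P ≤ M →
      ∃ g : G, P ≤ CfsgLib.InvChar.conjSub g (S : Subgroup G) ∧
        M = Subgroup.centralizer ({g * z * g⁻¹} : Set G) := by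
    intro M hM P hP hPM
    obtain ⟨⟨T, hT, hT1, hMT⟩, hMmax⟩ := hM
    have hcQ : Subgroup.centralizer (Cfsg.pCore 2 ↥M : Set ↥M) ≤ Cfsg.pCore 2 ↥M := by
      rw [hMT]; exact h.centralizer_pCore_le hT hT1
    set Q : Subgroup G := (Cfsg.pCore 2 ↥M).map M.subtype with hQ
    have hQM : Q ≤ M := Subgroup.map_subtype_le _
    have hcent : ∀ x ∈ M, (∀ q ∈ Q, q * x = x * q) → x ∈ Q := fun x hx hq =>
      ⟨⟨x, hx⟩, hcQ (fun y hy => Subtype.ext (hq (y : G) (Subgroup.mem_map_of_mem M.subtype hy))), rfl⟩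
    have hQn : ∀ m ∈ M, ∀ q ∈ Q, m * q * m⁻¹ ∈ Q := by
      rintro m hm _ ⟨q, hq, rfl⟩
      exact ⟨⟨m, hm⟩ * q * ⟨m, hm⟩⁻¹,
        (CfsgLib.Solvable.pCore_normal 2 ↥M).conj_mem q hq _, by simp⟩
    have hQnt : Nontrivial ↥(Cfsg.pCore 2 ↥M) := by
      rw [Subgroup.nontrivial_iff_ne_bot]
      intro h0
      refine hT1 (le_bot_iff.mp ?_)
      have hTM : T ≤ M := hMT ▸ Subgroup.le_normalizer
      have hTn : (T.subgroupOf M).Normal :=
        (Subgroup.normal_subgroupOf_iff_le_normalizer hTM).mpr hMT.le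
      have := CfsgLib.Solvable.le_pCore hTn (hT.comap_subtype : IsPGroup 2 ↥(T.subgroupOf M))
      rw [h0, le_bot_iff, Subgroup.subgroupOf_eq_bot, disjoint_iff, inf_eq_left.mpr hTM] at this
      exact this.le
    have hQp := CfsgLib.Solvable.pCore_isPGroup 2 ↥M
    have : IsCyclic ↥(Subgroup.center ↥(Cfsg.pCore 2 ↥M)) :=
      hcyc M ⟨⟨T, hT, hT1, hMT⟩, hMmax⟩
    have hZnt : Nontrivial ↥(Subgroup.center ↥(Cfsg.pCore 2 ↥M)) := hQp.center_nontrivial
    obtain ⟨u, hu⟩ := exists_prime_orderOf_dvd_card' (G := ↥(Subgroup.center ↥(Cfsg.pCore 2 ↥M))) 2 (by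
      obtain ⟨k, hk, hkc⟩ := (hQp.to_subgroup (Subgroup.center ↥(Cfsg.pCore 2 ↥M))).nontrivial_iff_card.mp hZnt
      exact hkc ▸ dvd_pow_self 2 hk.ne')
    -- `w` is the only involution of the centre of `Q`
    set w : G := (((u : ↥(Cfsg.pCore 2 ↥M)) : ↥M) : G) with hw
    have hwo : orderOf w = 2 := by
      rw [hw, Subgroup.orderOf_coe, Subgroup.orderOf_coe, Subgroup.orderOf_coe, hu]
    have hww : w * w = 1 := by rw [← pow_two, ← hwo]; exact pow_orderOf_eq_one w
    have hw1 : w ≠ 1 := fun h0 => by rw [h0, orderOf_one] at hwo; omega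
    have hwQ : w ∈ Q := Subgroup.mem_map_of_mem M.subtype (u : ↥(Cfsg.pCore 2 ↥M)).2
    have hwc : ∀ q ∈ Q, q * w = w * q := by
      rintro _ ⟨q, hq, rfl⟩
      have := Subgroup.mem_center_iff.mp u.2 ⟨q, hq⟩
      exact congrArg (fun x : ↥(Cfsg.pCore 2 ↥M) => ((x : ↥M) : G)) this
    have huniq : ∀ y ∈ Q, (∀ q ∈ Q, q * y = y * q) → y * y = 1 → y ≠ 1 → y = w := by
      rintro _ ⟨y, hy, rfl⟩ hyc hyy hy1
      have hyz : (⟨y, hy⟩ : ↥(Cfsg.pCore 2 ↥M)) ∈ Subgroup.center ↥(Cfsg.pCore 2 ↥M) :=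
        Subgroup.mem_center_iff.mpr fun q => Subtype.ext (Subtype.ext
          (hyc ((q : ↥M) : G) (Subgroup.mem_map_of_mem M.subtype q.2)))
      set y' : ↥(Subgroup.center ↥(Cfsg.pCore 2 ↥M)) := ⟨⟨y, hy⟩, hyz⟩ with hy'
      have := Fintype.ofFinite ↥(Subgroup.center ↥(Cfsg.pCore 2 ↥M))
      have hle := IsCyclic.card_pow_eq_one_le (α := ↥(Subgroup.center ↥(Cfsg.pCore 2 ↥M))) (n := 2) (by norm_num)
      by_contra hne
      have h3 : ({1, u, y'} : Finset ↥(Subgroup.center ↥(Cfsg.pCore 2 ↥M))).card = 3 := by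
        rw [Finset.card_eq_three]
        refine ⟨1, u, y', fun h0 => ?_, fun h0 => ?_, fun h0 => ?_, rfl⟩
        · rw [← h0, orderOf_one] at hu; omega
        · exact hy1 (congrArg (fun x : ↥(Subgroup.center ↥(Cfsg.pCore 2 ↥M)) =>
            (((x : ↥(Cfsg.pCore 2 ↥M)) : ↥M) : G)) h0.symm)
        · exact hne (congrArg (fun x : ↥(Subgroup.center ↥(Cfsg.pCore 2 ↥M)) =>
            (((x : ↥(Cfsg.pCore 2 ↥M)) : ↥M) : G)) h0.symm)
      have h4 := Finset.card_le_card (s := ({1, u, y'} : Finset ↥(Subgroup.center ↥(Cfsg.pCore 2 ↥M))))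
        (t := Finset.univ.filter fun a => a ^ 2 = 1) (by
          intro a ha
          rw [Finset.mem_filter]
          refine ⟨Finset.mem_univ _, ?_⟩
          simp only [Finset.mem_insert, Finset.mem_singleton] at ha
          rcases ha with rfl | rfl | rfl
          · exact one_pow 2
          · have hp := pow_orderOf_eq_one a
            rwa [hu] at hp
          · exact Subtype.ext (Subtype.ext (Subtype.ext (by simpa [pow_two] using hyy))))
      omega
    have hconjw : ∀ m : G, (∀ q ∈ Q, q * (m * w * m⁻¹) = m * w * m⁻¹ * q) → m * w * m⁻¹ ∈ M →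
        m * w * m⁻¹ = w := fun m hq hm =>
      huniq _ (hcent _ hm hq) hq (by rw [conj_mul, hww, mul_one, mul_inv_cancel])
        (fun h0 => hw1 (conj_eq_one_iff.mp h0))
    have hMw : M ≤ Subgroup.centralizer ({w} : Set G) := by
      intro m hm
      rw [Subgroup.mem_centralizer_singleton_iff, ← mul_inv_eq_iff_eq_mul]
      refine hconjw m (fun q hq => ?_) (hQM (hQn m hm w hwQ))
      have h1 := hwc _ (hQn m⁻¹ (inv_mem hm) q hq)
      rw [inv_inv] at h1
      calc q * (m * w * m⁻¹) = m * (m⁻¹ * q * m * w) * m⁻¹ := by simp [mul_assoc]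
        _ = m * (w * (m⁻¹ * q * m)) * m⁻¹ := by rw [h1]
        _ = m * w * m⁻¹ * q := by simp [mul_assoc]
    have hCM : Subgroup.centralizer ({w} : Set G) = M :=
      hMmax _ ⟨Subgroup.zpowers w, CfsgLib.InvChar.Early.isPGroup_zpowers_of_mul_self hww,
        by simpa using hw1, CfsgLib.InvChar.Early.centralizer_eq_normalizer_zpowers hww⟩ hMw
    -- a Sylow subgroup of `M` containing `P` is one of `G`
    obtain ⟨R0, hR0⟩ := (hP.comap_subtype : IsPGroup 2 ↥(P.subgroupOf M)).exists_le_sylow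
    set R : Subgroup G := (R0 : Subgroup ↥M).map M.subtype with hR
    have hRM : R ≤ M := Subgroup.map_subtype_le _
    have hRp : IsPGroup 2 ↥R := R0.isPGroup'.map _
    have hPR : P ≤ R := fun p hp => ⟨⟨p, hPM hp⟩, hR0 (Subgroup.mem_subgroupOf.mpr hp), rfl⟩
    have hQR : Q ≤ R := Subgroup.map_mono (CfsgLib.Solvable.pCore_le_sylow R0)
    have hRmax : ∀ K : Subgroup G, IsPGroup 2 ↥K → K ≤ M → R ≤ K → K ≤ R := by
      intro K hK hKM hRK
      have := R0.3 (hK.comap_subtype : IsPGroup 2 ↥(K.subgroupOf M))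
        (fun x hx => hRK (Subgroup.mem_map_of_mem M.subtype hx))
      intro x hx
      exact ⟨⟨x, hKM hx⟩, this.le (Subgroup.mem_subgroupOf.mpr hx), rfl⟩
    obtain ⟨R1, hR1⟩ := hRp.exists_le_sylow
    have hRR1 : (R1 : Subgroup G) ≤ R := by
      by_contra hne
      obtain ⟨x, hxR1, hxR, hxn⟩ : ∃ x ∈ (R1 : Subgroup G), x ∉ R ∧
          x ∈ Subgroup.normalizer (R : Set G) := by
        have : Group.IsNilpotent ↥(R1 : Subgroup G) := R1.isPGroup'.isNilpotent
        have hlt : R.subgroupOf (R1 : Subgroup G) < ⊤ := lt_top_iff_ne_top.mpr fun h0 =>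
          hne (Subgroup.subgroupOf_eq_top.mp h0)
        obtain ⟨x, hxn, hxR⟩ := SetLike.exists_of_lt (Group.normalizerCondition_of_isNilpotent _ hlt)
        refine ⟨x, x.2, fun h0 => hxR (Subgroup.mem_subgroupOf.mpr h0), ?_⟩
        rw [Subgroup.mem_normalizer_iff]
        intro r
        constructor
        · intro hr
          exact Subgroup.mem_subgroupOf.mp ((Subgroup.mem_normalizer_iff.mp hxn ⟨r, hR1 hr⟩).mp
            (Subgroup.mem_subgroupOf.mpr hr))
        · intro hr
          have hr1 : r ∈ (R1 : Subgroup G) := by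
            have := mul_mem (mul_mem (inv_mem x.2) (hR1 hr)) x.2
            simpa [mul_assoc] using this
          exact Subgroup.mem_subgroupOf.mp ((Subgroup.mem_normalizer_iff.mp hxn ⟨r, hr1⟩).mpr
            (Subgroup.mem_subgroupOf.mpr hr))
      have hwR : x * w * x⁻¹ ∈ R := (Subgroup.mem_normalizer_iff.mp hxn w).mp (hQR hwQ)
      have hxw : x * w * x⁻¹ = w := hconjw x (fun q hq => by
        have h1 := (Subgroup.mem_normalizer_iff.mp (inv_mem hxn) q).mp (hQR hq)
        rw [inv_inv] at h1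
        have h2 := Subgroup.mem_centralizer_singleton_iff.mp (hMw (hRM h1))
        calc q * (x * w * x⁻¹) = x * (x⁻¹ * q * x * w) * x⁻¹ := by simp [mul_assoc]
          _ = x * (w * (x⁻¹ * q * x)) * x⁻¹ := by rw [h2]
          _ = x * w * x⁻¹ * q := by simp [mul_assoc]) (hRM hwR)
      have hxM : x ∈ M := by
        rw [← hCM, Subgroup.mem_centralizer_singleton_iff]
        exact mul_inv_eq_iff_eq_mul.mp hxw
      exact hxR (hRmax _ (R1.isPGroup'.to_le (sup_le hR1 (Subgroup.zpowers_le.mpr hxR1)))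
        (sup_le hRM (Subgroup.zpowers_le.mpr hxM)) le_sup_left (Subgroup.mem_sup_right (Subgroup.mem_zpowers x)))
    obtain ⟨g, hg⟩ := CfsgLib.InvChar.exists_conjSub_le_sylow R1.isPGroup' S
    have hgeq : CfsgLib.InvChar.conjSub g (R1 : Subgroup G) = (S : Subgroup G) :=
      CfsgLib.InvChar.conjSub_eq_of_le hg (by rw [Sylow.card_eq_multiplicity, Sylow.card_eq_multiplicity])
    have hSR : CfsgLib.InvChar.conjSub g⁻¹ (S : Subgroup G) = R := by
      rw [← hgeq, CfsgLib.InvChar.conjSub_mul, inv_mul_cancel, CfsgLib.InvChar.conjSub_one]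
      exact le_antisymm hRR1 hR1
    refine ⟨g⁻¹, hSR.symm ▸ hPR, ?_⟩
    have hzR : g⁻¹ * z * g⁻¹⁻¹ ∈ R := hSR ▸ CfsgLib.InvChar.conj_mem_conjSub hzS
    rw [huniq (g⁻¹ * z * g⁻¹⁻¹) (hcent _ (hRM hzR) ?_) ?_ (by rw [conj_mul, hzz, mul_one, mul_inv_cancel])
      (fun h0 => h.z_ne (conj_eq_one_iff.mp h0)), hCM] <;>
    · intro q hq
      have h1 := hQR hq
      rw [← hSR, CfsgLib.InvChar.mem_conjSub, inv_inv] at h1
      have h2 := h.z_central _ h1
      calc q * (g⁻¹ * z * g⁻¹⁻¹) = g⁻¹ * (g * q * g⁻¹ * z) * g := by simp [mul_assoc]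
        _ = g⁻¹ * (z * (g * q * g⁻¹)) * g := by rw [h2]
        _ = g⁻¹ * z * g⁻¹⁻¹ * q := by simp [mul_assoc]
  -- descending induction: the normalisers of the nontrivial subgroups of `S` centralise `z`
  have hnorm : ∀ n : ℕ, ∀ T : Subgroup G, T ≤ (S : Subgroup G) → T ≠ ⊥ →
      Nat.card ↥(S : Subgroup G) - Nat.card ↥T ≤ n →
      Subgroup.normalizer (T : Set G) ≤ Subgroup.centralizer ({z} : Set G) := by
    intro n
    induction n using Nat.strong_induction_on with
    | _ n ih =>
    intro T hTS hT1 hn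
    obtain ⟨M, hle, hMl, hmaxM⟩ := (Set.toFinite {M : Subgroup G | Cfsg.IsTwoLocal M}).exists_le_maximal
      (a := Subgroup.normalizer (T : Set G)) ⟨T, hSp.to_le hTS, hT1, rfl⟩
    set P := (S : Subgroup G) ⊓ Subgroup.normalizer (T : Set G) with hP
    obtain ⟨g, hPg, hMg⟩ := hmax M ⟨hMl, fun N hN hMN => le_antisymm (hmaxM hN hMN) hMN⟩ P
      (hSp.to_le inf_le_left) (inf_le_right.trans hle)
    suffices hgz : g * z * g⁻¹ = z by
      rw [hgz] at hMg
      exact hle.trans hMg.le
    by_cases hTP : (T : Subgroup G) < P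
    · have hlt : Nat.card ↥T < Nat.card ↥P := by
        refine lt_of_le_of_ne (Subgroup.card_le_of_le hTP.le) fun h0 => ?_
        exact hTP.ne (Subgroup.eq_of_le_of_card_ge hTP.le h0.ge)
      have hchain : ∀ (B : Set G) (k : G), CfsgLib.AlperinGroup.Chain S B k →
          Nat.card ↥T < B.ncard → k * z = z * k := by
        intro B k hk
        induction hk with
        | one B => intro _; rw [one_mul, mul_one]
        | cons B x k Q hB _ hx _ ihk =>
          intro hc
          have h2 := ihk (by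
            rwa [Set.ncard_image_of_injective]
            intro a b hab
            simpa using hab)
          set T' := (S : Subgroup G) ⊓ (Q : Subgroup G) with hT'
          have h3 : Nat.card ↥T < Nat.card ↥T' := by
            refine lt_of_lt_of_le hc (le_of_le_of_eq (Set.ncard_le_ncard hB (Set.toFinite _)) ?_)
            rw [← Nat.card_coe_set_eq]
            rfl
          have h4 : Nat.card ↥T' ≤ Nat.card ↥(S : Subgroup G) := Subgroup.card_le_of_le inf_le_left
          have h5 := ih (Nat.card ↥(S : Subgroup G) - Nat.card ↥T') (by omega) T' inf_le_left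
            (fun h0 => by
              rw [h0, Subgroup.card_bot] at h3
              have : 0 < Nat.card ↥T := Nat.card_pos
              omega) le_rfl hx
          rw [Subgroup.mem_centralizer_singleton_iff] at h5
          rw [mul_assoc, h2, ← mul_assoc, h5, mul_assoc]
      have h6 := hchain _ g (CfsgLib.AlperinGroup.alperin S (P : Set G) g
        (fun a ha => ha.1) (by
          rintro _ ⟨a, ha, rfl⟩
          exact CfsgLib.InvChar.mem_conjSub.mp (hPg ha))) (by
            rw [← Nat.card_coe_set_eq]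
            exact hlt)
      rw [h6, mul_inv_cancel_right]
    · have hTS' : (S : Subgroup G) ≤ T := by
        by_contra hne
        apply hTP
        have : Group.IsNilpotent ↥(S : Subgroup G) := hSp.isNilpotent
        have hlt : T.subgroupOf (S : Subgroup G) < ⊤ := lt_top_iff_ne_top.mpr fun h0 =>
          hne (Subgroup.subgroupOf_eq_top.mp h0)
        obtain ⟨x, hxn, hxT⟩ := SetLike.exists_of_lt (Group.normalizerCondition_of_isNilpotent _ hlt)
        refine SetLike.lt_iff_le_and_exists.mpr ⟨le_inf hTS Subgroup.le_normalizer, (x : G), (Subgroup.mem_inf.mpr ⟨x.2, ?_⟩ : (x : G) ∈ (S : Subgroup G) ⊓ Subgroup.normalizer (T : Set G)),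
          fun h0 => hxT (Subgroup.mem_subgroupOf.mpr h0)⟩
        rw [Subgroup.mem_normalizer_iff]
        intro r
        constructor
        · intro hr
          exact Subgroup.mem_subgroupOf.mp ((Subgroup.mem_normalizer_iff.mp hxn ⟨r, hTS hr⟩).mp
            (Subgroup.mem_subgroupOf.mpr hr))
        · intro hr
          have hr1 : r ∈ (S : Subgroup G) := by
            have := mul_mem (mul_mem (inv_mem x.2) (hTS hr)) x.2
            simpa [mul_assoc] using this
          exact Subgroup.mem_subgroupOf.mp ((Subgroup.mem_normalizer_iff.mp hxn ⟨r, hr1⟩).mpr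
            (Subgroup.mem_subgroupOf.mpr hr))
      have hTeq : T = (S : Subgroup G) := le_antisymm hTS hTS'
      have hSP : (S : Subgroup G) ≤ P := le_inf le_rfl (hTeq ▸ Subgroup.le_normalizer)
      have hgS : CfsgLib.InvChar.conjSub g (S : Subgroup G) = (S : Subgroup G) :=
        (Subgroup.eq_of_le_of_card_ge (hSP.trans hPg) (CfsgLib.InvChar.card_conjSub g _).le).symm
      have hgM : g ∈ M := hle (by rw [hTeq]; exact CfsgLib.InvChar.mem_normalizer_iff_conjSub.mpr hgS)
      rw [hMg, Subgroup.mem_centralizer_singleton_iff] at hgM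
      have h7 : g * (g * z * g⁻¹) = g * z := by rw [hgM]; simp [mul_assoc]
      exact mul_left_cancel h7
  -- `z` is isolated in `S`
  have hiso : ∀ g : G, g * z * g⁻¹ ∈ S → g * z * g⁻¹ = z := by
    intro g hg
    have hchain : ∀ (B : Set G) (k : G), CfsgLib.AlperinGroup.Chain S B k → z ∈ B → k * z = z * k := by
      intro B k hk
      induction hk with
      | one B => intro _; rw [one_mul, mul_one]
      | cons B x k Q hB _ hx _ ihk =>
        intro hz
        have hzT := hB hz
        have h5 := hnorm _ _ inf_le_left (fun h0 => h.z_ne (Subgroup.mem_bot.mp (h0 ▸ hzT))) le_rfl hx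
        rw [Subgroup.mem_centralizer_singleton_iff] at h5
        have h2 := ihk ⟨z, hz, by
          show x⁻¹ * z * x = z
          rw [mul_assoc, ← h5, inv_mul_cancel_left]⟩
        rw [mul_assoc, h2, ← mul_assoc, h5, mul_assoc]
    have h6 := hchain {z} g⁻¹ (CfsgLib.AlperinGroup.alperin S {z} g⁻¹ (Set.singleton_subset_iff.mpr hzS)
      (by simpa using hg)) rfl
    rw [mul_assoc, ← h6, mul_inv_cancel_left]
  have hzo : orderOf z = 2 := orderOf_eq_prime (by rw [pow_two, hzz]) h.z_ne
  obtain ⟨N, hNn, hNodd, hNcomm⟩ := Cfsg.Agent.S0215.result S z hzo hzS hiso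
  rcases hNn.eq_bot_or_eq_top with hN | hN
  · have hzc : z ∈ Subgroup.center G := Subgroup.mem_center_iff.mpr fun g => by
      have h8 := hNcomm g
      rw [hN, Subgroup.mem_bot, mul_inv_eq_one, mul_inv_eq_iff_eq_mul] at h8
      exact h8.symm
    rcases (inferInstance : (Subgroup.center G).Normal).eq_bot_or_eq_top with hc | hc
    · rw [hc, Subgroup.mem_bot] at hzc
      exact h.z_ne hzc
    · exact hG ⟨⟨fun a b => Subgroup.mem_center_iff.mp (hc ▸ Subgroup.mem_top b) a⟩⟩
  · rw [hN, Subgroup.card_top] at hNodd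
    have h9 : 2 ∣ Nat.card G := hzo ▸ orderOf_dvd_natCard z
    exact (Nat.not_even_iff_odd.mpr hNodd) (even_iff_two_dvd.mpr h9)

end Cfsg.Agent.S3244
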