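import Cfsg.Statements.S3250
import Cfsg.Agent.Lib.MaxSylow128.Dihedral
import Cfsg.Agent.Lib.PSL2Sub.Maximal
import Cfsg.Agent.S0508

set_option autoImplicit false
open Cfsg

namespace Cfsg.Agent.S3250

open CfsgLib.MaxSyl CfsgLib.PSL2Sub in
theorem card_field {G : Type*} [Group G] [Finite G] (X : Setup G) {F : Type} [Field F] [Fintype F]
    (hodd : Odd (Fintype.card F)) (e : G ≃* PS F) : Fintype.card F = 127 := by
  haveI : Fact (Nat.Prime 2) := ⟨Nat.prime_two⟩
  set q := Fintype.card F with hq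
  obtain ⟨p, -, n, hp, hpn⟩ := FiniteField.card' F
  have hq3 : 3 ≤ q := by
    have h := Fintype.one_lt_card (α := F)
    obtain ⟨m, hm⟩ := hodd
    omega
  have hgcd : Nat.gcd 2 (q - 1) = 2 := by
    obtain ⟨m, hm⟩ := hodd
    rw [hm, Nat.add_sub_cancel, Nat.gcd_mul_right_right]
  have hcard := gcd_mul_card_PS (F := F)
  rw [← hq, hgcd, ← Nat.card_congr e.toEquiv, ← Subgroup.card_mul_index (X.S : Subgroup G), X.card] at hcard
  have hsmall : q ∉ ({2, 3, 5, 7, 9, 11} : Finset ℕ) := by
    simp only [Finset.mem_insert, Finset.mem_singleton]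
    rintro (h | h | h | h | h | h) <;> rw [h] at hcard <;> norm_num at hcard <;> omega
  have hsmall' : q ∉ ({2, 7, 9} : Finset ℕ) := fun h => hsmall (by
    simp only [Finset.mem_insert, Finset.mem_singleton] at h ⊢
    tauto)
  -- a maximal subgroup of order divisible by 128 is a Sylow subgroup
  have key : ∀ M : Subgroup (PS F), IsCoatom M → 2 ^ 7 ∣ Nat.card M → Nat.card M = 128 := by
    intro M hM hd
    set M' := M.map e.symm.toMonoidHom with hM'
    have hc : Nat.card M' = Nat.card M := Subgroup.card_map_of_injective e.symm.injective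
    obtain ⟨P, hP⟩ := Sylow.exists_subgroup_card_pow_prime (G := M') 2 (hc.symm ▸ hd)
    have hPc : Nat.card (P.map M'.subtype) = 2 ^ 7 := by
      rw [Subgroup.card_map_of_injective M'.subtype_injective, hP]
    obtain ⟨Q, hQ⟩ := (IsPGroup.of_card hPc).exists_le_sylow
    have hQc : Nat.card (Q : Subgroup G) = 2 ^ 7 := by
      rw [Q.card_eq_multiplicity, ← X.S.card_eq_multiplicity, X.card]
    have heq : P.map M'.subtype = Q := Subgroup.eq_of_le_of_card_ge hQ (by rw [hPc, hQc])
    have hQM : (Q : Subgroup G) ≤ M' := heq ▸ Subgroup.map_subtype_le P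
    let X' : Setup G := ⟨Q, hQc, X.nine, X.simple, X.nab⟩
    rcases X'.eq_of_le hQM with h | h
    · rw [← hc, h]
      show Nat.card (Q : Subgroup G) = 128
      rw [hQc]; norm_num
    · exfalso
      apply hM.1
      rw [eq_top_iff]
      intro x _
      have hx : e.symm x ∈ M' := h ▸ Subgroup.mem_top _
      obtain ⟨y, hy, hyx⟩ := hx
      exact (e.symm.injective hyx) ▸ hy
  obtain ⟨m, hm⟩ := hodd
  have hsq : q ^ 2 - 1 = (q + 1) * (q - 1) := by simpa using Nat.sq_sub_sq q 1
  rw [hsq, show q + 1 = 2 * (m + 1) by omega, show q - 1 = 2 * m by omega] at hcard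
  have h256 : 2 ^ 6 ∣ (m + 1) * m := by
    refine (Nat.Coprime.pow_left 6 (Nat.coprime_two_left.2 ⟨m, hm⟩)).dvd_of_dvd_mul_left (m := q) ?_
    have : q * ((m + 1) * m) * 4 = 2 * (2 ^ 7 * (X.S : Subgroup G).index) := by
      rw [hcard]; ring
    exact ⟨(X.S : Subgroup G).index, by omega⟩
  rcases Nat.even_or_odd m with he | ho
  · have h : 2 ^ 6 ∣ m := (Nat.Coprime.pow_left 6 (Nat.coprime_two_left.2 he.add_one)).dvd_of_dvd_mul_left h256
    obtain ⟨M, hM, ⟨d⟩⟩ := exists_maximal_dihedral_minus (F := F) hsmall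
    have hc : Nat.card M = q - 1 := by
      rw [Nat.card_congr d.toEquiv, DihedralGroup.nat_card, ← hq, hgcd]; omega
    have h128 := key M hM (by
      rw [hc, show q - 1 = 2 * m by omega, pow_succ']
      exact Nat.mul_dvd_mul_left 2 h)
    exfalso
    have h129 : q = 129 := by omega
    rw [← hq] at hpn
    have h3 : 3 ∣ p ^ (n : ℕ) := by rw [← hpn, h129]; norm_num
    have h43 : 43 ∣ p ^ (n : ℕ) := by rw [← hpn, h129]; norm_num
    have e3 := (Nat.prime_dvd_prime_iff_eq Nat.prime_three hp).1 (Nat.prime_three.dvd_of_dvd_pow h3)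
    have e43 := (Nat.prime_dvd_prime_iff_eq (by norm_num) hp).1 ((by norm_num : Nat.Prime 43).dvd_of_dvd_pow h43)
    omega
  · have h : 2 ^ 6 ∣ m + 1 := (Nat.Coprime.pow_left 6 (Nat.coprime_two_left.2 ho)).dvd_of_dvd_mul_right h256
    obtain ⟨M, hM, ⟨d⟩⟩ := exists_maximal_dihedral_plus (F := F) hsmall'
    have hc : Nat.card M = q + 1 := by
      rw [Nat.card_congr d.toEquiv, DihedralGroup.nat_card, ← hq, hgcd]; omega
    have h128 := key M hM (by
      rw [hc, show q + 1 = 2 * (m + 1) by omega, pow_succ']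
      exact Nat.mul_dvd_mul_left 2 h)
    omega

/-- With the length of a finite group defined as the maximum n for which there is a chain G = G₀ > G₁ > ⋯ > G_n = 1 of subgroups: a finite non-abelian simple group of length exactly 8 whose Sylow 2-subgroups have order 2⁷ is isomorphic to PSL₂(127). -/
theorem result {G : Type*} [Group G] [Finite G] [IsSimpleGroup G]
    (hG : ¬ IsMulCommutative G) (h8 : ∃ c : Fin 9 → Subgroup G, StrictAnti c) (h9 : ∀ c : Fin 10 → Subgroup G, ¬ StrictAnti c)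
    (S : Sylow 2 G) (hS : Nat.card ↥(S : Subgroup G) = 2 ^ 7) :
    ∃ (F : Type) (_ : Field F) (_ : Fintype F), Fintype.card F = 127 ∧ Nonempty (G ≃* Matrix.ProjectiveSpecialLinearGroup (Fin 2) F) := by
  haveI : Fact (Nat.Prime 2) := ⟨Nat.prime_two⟩
  let X : CfsgLib.MaxSyl.Setup G :=
    ⟨S, hS, fun c hc => h9 (c ∘ Fin.rev) (hc.comp_strictAnti Fin.rev_strictAnti), inferInstance, hG⟩
  obtain ⟨t, htS, ht1, htt, htZ⟩ := X.exists_center
  have hC : Subgroup.centralizer ({t} : Set G) = (S : Subgroup G) := X.centralizer_eq htS htZ ht1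
  have hO : (Cfsg.oddCore (Subgroup.centralizer ({t} : Set G))).map
      (Subgroup.centralizer ({t} : Set G)).subtype = ⊥ := by
    rw [Subgroup.map_eq_bot_iff_of_injective _ (Subgroup.subtype_injective _), Cfsg.oddCore,
      Cfsg.pPrimeCore, sSup_eq_bot]
    intro N hN
    have hp : IsPGroup 2 N := by
      refine IsPGroup.to_subgroup ?_ N
      rw [hC]; exact S.isPGroup'
    obtain ⟨k, hk⟩ := IsPGroup.iff_card.1 hp
    refine Subgroup.eq_bot_of_card_eq _ ?_
    have h2 := hN.2
    rw [hk] at h2 ⊢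
    rcases Nat.eq_zero_or_pos k with rfl | hk0
    · simp
    · rw [Nat.coprime_pow_left_iff hk0] at h2
      norm_num at h2
  obtain ⟨F, hF, hFi, hodd, ⟨e⟩⟩ := Cfsg.Agent.S0508.result S 64 (by norm_num) X.dihedral t
    (orderOf_eq_prime (by rw [pow_two]; exact htt) ht1) htS htZ _ rfl
    (fun h => absurd hO h)
    (fun s _ hs => absurd (by
      rw [hO, Subgroup.mem_centralizer_iff]
      intro y hy
      rw [Subgroup.mem_bot.1 hy, one_mul, mul_one]) hs)
    (fun Y hY hY1 => absurd (le_bot_iff.1 (hO ▸ hY)) hY1)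
  exact ⟨F, hF, hFi, card_field X hodd e, ⟨e⟩⟩

end Cfsg.Agent.S3250
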