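import Cfsg.Statements.S3257
import Cfsg.Agent.Lib.PairGen.Main
import Cfsg.Agent.Lib.PairGen.Lines

set_option autoImplicit false
open Cfsg

namespace Cfsg.Agent.S3257

/-- Let p be an odd prime and G a finite non-abelian group generated by a G-invariant set D of subgroups of order p such that any two distinct members of D generate a subgroup isomorphic to one fixed group of odd order. Then G/Z(G) is a Frobenius group of odd order. -/
theorem result {G : Type*} [Group G] [Finite G] (hG : ¬ IsMulCommutative G)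
    (p : ℕ) (hp : p.Prime) (hp2 : p ≠ 2) (D : Set (Subgroup G)) (hDp : ∀ A ∈ D, Nat.card ↥A = p)
    (hDinv : ∀ A ∈ D, ∀ g : G, A.map (MulAut.conj g).toMonoidHom ∈ D) (hDgen : sSup D = ⊤)
    {F : Type*} [Group F] [Finite F] (hF : Odd (Nat.card F)) (hpair : ∀ A ∈ D, ∀ B ∈ D, A ≠ B → Nonempty (↥(A ⊔ B) ≃* F)) :
    Odd (Nat.card (G ⧸ Subgroup.center G)) ∧ ∃ H : Subgroup (G ⧸ Subgroup.center G), Cfsg.IsFrobeniusComplement H := by
  obtain ⟨q, hq, hq2, hqp, hcase⟩ := CfsgLib.PairGen.lines hG hp hp2 hDp hDinv hDgen hF hpair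
  obtain ⟨A, hA⟩ : D.Nonempty := by
    by_contra hne
    rw [Set.not_nonempty_iff_eq_empty] at hne
    rw [hne, sSup_empty] at hDgen
    refine hG ⟨⟨fun a b => ?_⟩⟩
    have h : ∀ x : G, x = 1 := fun x => Subgroup.mem_bot.1 (hDgen ▸ Subgroup.mem_top x)
    rw [h a, h b]
  rcases hcase with hP | hfrob
  · obtain ⟨R, hRn, hR, hRA⟩ := hP.split hDgen hA
    have := hRn
    refine CfsgLib.PairGen.conclusion hG hp hp2 (hDp A hA) hq hq2 hqp R hR hRA ?_
    have hflat : CfsgLib.PairGen.Flat q D ⊤ A R := by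
      refine ⟨hA, hR, by rw [Subgroup.normalizer_eq_top], hRA, ?_⟩
      rw [show CfsgLib.PairGen.inside D ⊤ = D from
        Set.ext fun B => ⟨fun h => h.1, fun h => ⟨h, le_top⟩⟩]
      exact hDgen
    intro x hx
    have h := hflat.zc_le hP hx
    exact Subgroup.mem_center_iff.2 fun g => Subgroup.mem_centralizer_iff.1 h g (Subgroup.mem_top g)
  · obtain ⟨R, hRn, hR, hRA, hbot⟩ := hfrob A hA
    have := hRn
    exact CfsgLib.PairGen.conclusion hG hp hp2 (hDp A hA) hq hq2 hqp R hR hRA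
      (by rw [hbot]; exact bot_le)

end Cfsg.Agent.S3257
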