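import Cfsg.Statements.S3261
import Cfsg.Agent.Lib.DihedralEight.Simple
import Cfsg.Agent.Lib.Linear.PSL2Nine

set_option autoImplicit false
open Cfsg

namespace Cfsg.Agent.S3261

open Equiv DihedralGroup

/-- The rotation. -/
def rot : Perm (Fin 6) := swap 0 2 * swap 2 1 * swap 1 3 * swap 4 5

/-- The reflection. -/
def refl' : Perm (Fin 6) := swap 2 3 * swap 4 5

/-- The double transposition. -/
def std : Perm (Fin 6) := swap 0 1 * swap 2 3

/-- The elements of the centralizer of `std`. -/
def toA6 : DihedralGroup 4 → Perm (Fin 6)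
  | .r i => rot ^ i.val
  | .sr i => refl' * rot ^ i.val

theorem toA6_mul : ∀ x y, toA6 (x * y) = toA6 x * toA6 y := by decide +kernel

theorem toA6_sign : ∀ x, toA6 x ∈ alternatingGroup (Fin 6) := by
  simp only [Perm.mem_alternatingGroup]; decide +kernel

theorem toA6_injective : Function.Injective toA6 := by decide +kernel

theorem toA6_comm : ∀ x, toA6 x * std = std * toA6 x := by decide +kernel

theorem toA6_surj : ∀ σ : Perm (Fin 6), Perm.sign σ = 1 → σ * std = std * σ →
    ∃ d, toA6 d = σ := by decide +kernel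

theorem std_cycleType : std.cycleType = {2, 2} := by decide +kernel

/-- The centralizer of a double transposition in `A₆` is dihedral of order eight. -/
theorem centralizer_iso (αt : ↥(alternatingGroup (Fin 6))) (hαt : orderOf αt = 2)
    (hsupp : (αt : Perm (Fin 6)).support.card = 4) :
    Nonempty (↥(Subgroup.centralizer ({αt} : Set ↥(alternatingGroup (Fin 6)))) ≃* DihedralGroup 4) := by
  have ho : orderOf (αt : Perm (Fin 6)) = 2 := by rwa [Subgroup.orderOf_coe]
  haveI : Fact (Nat.Prime 2) := ⟨Nat.prime_two⟩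
  obtain ⟨n, hn⟩ := Perm.cycleType_prime_order (σ := (αt : Perm (Fin 6))) (by rw [ho]; exact Nat.prime_two)
  have hsum := (αt : Perm (Fin 6)).sum_cycleType
  rw [hn, Multiset.sum_replicate, hsupp, ho] at hsum
  obtain rfl : n = 1 := by simp at hsum; omega
  obtain ⟨c, hc⟩ := isConj_iff.mp ((Perm.isConj_iff_cycleType_eq (σ := std) (τ := (αt : Perm (Fin 6)))).mpr
    (by rw [std_cycleType, hn, ho]; rfl))
  let f : DihedralGroup 4 →* ↥(alternatingGroup (Fin 6)) :=
    (MulAut.conjNormal c).toMonoidHom.comp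
      (MonoidHom.mk' (fun x => (⟨toA6 x, toA6_sign x⟩ : ↥(alternatingGroup (Fin 6))))
        (fun x y => Subtype.ext (toA6_mul x y)))
  have hf : Function.Injective f := (MulAut.conjNormal c).injective.comp
    (fun x y h => toA6_injective (congrArg Subtype.val h))
  have hr : f.range = Subgroup.centralizer ({αt} : Set ↥(alternatingGroup (Fin 6))) := by
    ext x
    constructor
    · rintro ⟨d, rfl⟩
      rw [Subgroup.mem_centralizer_singleton_iff]
      apply Subtype.ext
      show c * toA6 d * c⁻¹ * (αt : Perm (Fin 6)) = αt * (c * toA6 d * c⁻¹)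
      rw [← hc, show c * toA6 d * c⁻¹ * (c * std * c⁻¹) = c * (toA6 d * std) * c⁻¹ by group, toA6_comm]
      group
    · intro hx
      have hx' : (x : Perm (Fin 6)) * αt = αt * x :=
        congrArg Subtype.val (Subgroup.mem_centralizer_singleton_iff.mp hx)
      obtain ⟨d, hd⟩ := toA6_surj (c⁻¹ * x * c) (by
          rw [map_mul, map_mul, map_inv, Perm.mem_alternatingGroup.mp x.2, mul_one, inv_mul_cancel])
        (by
          calc c⁻¹ * x * c * std = c⁻¹ * ((x : Perm (Fin 6)) * (c * std * c⁻¹)) * c := by group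
            _ = c⁻¹ * ((c * std * c⁻¹) * (x : Perm (Fin 6))) * c := by rw [hc, hx']
            _ = std * (c⁻¹ * x * c) := by group)
      refine ⟨d, Subtype.ext ?_⟩
      show c * toA6 d * c⁻¹ = (x : Perm (Fin 6))
      rw [hd]; group
  exact ⟨((MonoidHom.ofInjective hf).trans (MulEquiv.subgroupCongr hr)).symm⟩

/-- Let α̃ be an involution of the alternating group A₆ that is a product of two disjoint transpositions (it lies in the centre of a Sylow 2-subgroup of A₆; its centralizer is dihedral of order 8). Let G be a finite group that has no subgroup of index 2 and contains an involution α, central in some Sylow 2-subgroup of G, with C_G(α) ≅ C_{A₆}(α̃). Then G is isomorphic to A₆ or to PSL₂(7). -/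
theorem result {G : Type*} [Group G] [Finite G]
    (hG : ∀ H : Subgroup G, H.index ≠ 2)
    (αt : ↥(alternatingGroup (Fin 6))) (hαt : orderOf αt = 2) (hsupp : (αt : Equiv.Perm (Fin 6)).support.card = 4)
    (α : G) (hα : orderOf α = 2) (S : Sylow 2 G) (hαS : α ∈ (S : Subgroup G)) (hαc : ∀ s ∈ (S : Subgroup G), s * α = α * s)
    (e : ↥(Subgroup.centralizer ({α} : Set G)) ≃* ↥(Subgroup.centralizer ({αt} : Set ↥(alternatingGroup (Fin 6))))) :
    Nonempty (G ≃* ↥(alternatingGroup (Fin 6))) ∨
      (∃ (F : Type) (_ : Field F) (_ : Fintype F), Fintype.card F = 7 ∧ Nonempty (G ≃* Matrix.ProjectiveSpecialLinearGroup (Fin 2) F)) := by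
  obtain ⟨d⟩ := centralizer_iso αt hαt hsupp
  obtain ⟨F, iF, fF, hF, ⟨iso⟩⟩ := CfsgLib.DihedralEight.exists_psl_iso (e.trans d) hα
    (fun u hu => CfsgLib.DihedralEight.isConj_of_no_index_two (e.trans d) hα hG hu)
  rcases hF with h7 | h9
  · exact Or.inr ⟨F, iF, fF, h7, ⟨iso⟩⟩
  · obtain ⟨i⟩ := CfsgLib.Linear.PSL2Nine.exists_PSL2_equiv_A6 h9
    exact Or.inl ⟨iso.trans i⟩

end Cfsg.Agent.S3261
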