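import Cfsg.Statements.S3265
import Cfsg.Agent.Lib.InvChar.OddMid
import Cfsg.Agent.Lib.InvChar.GraphDiam
import Cfsg.Agent.Lib.Invol.Dihedral
import Mathlib.GroupTheory.Perm.Cycle.Type

set_option autoImplicit false
open Cfsg

namespace Cfsg.Agent.S3265

open CfsgLib.InvChar.OddMid

variable {n : ℕ}

theorem inv_of_sq {p : Equiv.Perm (Fin n)} (hp : p * p = 1) : Inv Finset.univ (⇑p) :=
  ⟨fun v _ => Finset.mem_univ _, fun v _ => by
    rw [← Equiv.Perm.mul_apply, hp]; rfl⟩

theorem mv_univ (p : Equiv.Perm (Fin n)) : mv Finset.univ (⇑p) = p.support := by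
  ext v; simp [mv]

theorem odd_orderOf {p : Equiv.Perm (Fin n)} (h : OddPer (⇑p) Finset.univ) : Odd (orderOf p) := by
  classical
  choose k hk hkv using fun v => h v (Finset.mem_univ v)
  refine Odd.of_dvd_nat (n := ∏ v, k v)
    (Finset.prod_induction _ Odd (fun _ _ => Odd.mul) odd_one (fun v _ => hk v))
    (orderOf_dvd_of_pow_eq_one (Equiv.ext fun v => ?_))
  obtain ⟨c, hc⟩ := Finset.dvd_prod_of_mem k (Finset.mem_univ v)
  rw [hc, pow_mul, Equiv.Perm.coe_one, id]
  have h1 : (p ^ k v) v = v := by rw [Equiv.Perm.coe_pow]; exact hkv v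
  exact (congrFun (Equiv.Perm.coe_pow (p ^ k v) c) v).trans (Function.iterate_fixed h1 c)

theorem isConj_of_support {p q : Equiv.Perm (Fin n)} (hp : p * p = 1) (hp1 : p ≠ 1)
    (hq : q * q = 1) (hq1 : q ≠ 1) (h : p.support.card = q.support.card) : IsConj p q := by
  haveI : Fact (Nat.Prime 2) := ⟨Nat.prime_two⟩
  rw [Equiv.Perm.isConj_iff_cycleType_eq]
  have key : ∀ {r : Equiv.Perm (Fin n)}, r * r = 1 → r ≠ 1 →
      r.cycleType = Multiset.replicate (r.support.card / 2) 2 := by
    intro r hr hr1
    have ho : orderOf r = 2 := orderOf_eq_prime (by rw [pow_two, hr]) hr1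
    obtain ⟨m, hm⟩ := Equiv.Perm.cycleType_prime_order (σ := r) (by rw [ho]; exact Nat.prime_two)
    rw [ho] at hm
    have hs := Equiv.Perm.sum_cycleType r
    rw [hm, Multiset.sum_replicate, smul_eq_mul] at hs
    rw [hm, ← hs]
    congr 1
    omega
  rw [key hp hp1, key hq hq1, h]

/-- A class of involutions of `Sₙ`, `n ≥ 5`, has odd product diameter two. -/
theorem result (n : ℕ) (hn : 5 ≤ n) (t : Equiv.Perm (Fin n)) (ht : orderOf t = 2) :
    (SimpleGraph.fromRel fun x y : {x : Equiv.Perm (Fin n) // IsConj t x} =>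
        Odd (orderOf (x.1 * y.1))).Connected ∧
      (SimpleGraph.fromRel fun x y : {x : Equiv.Perm (Fin n) // IsConj t x} =>
        Odd (orderOf (x.1 * y.1))).diam = 2 := by
  classical
  have hsq : ∀ x : {x : Equiv.Perm (Fin n) // IsConj t x}, x.1 * x.1 = 1 ∧ x.1 ≠ 1 := fun x => by
    obtain ⟨g, hg⟩ := isConj_iff.1 x.2
    have ho : orderOf x.1 = 2 := by rw [← hg, CfsgLib.Invol.orderOf_conj, ht]
    exact ⟨CfsgLib.Invol.mul_self_eq_one ho, CfsgLib.Invol.ne_one_of_invol ho⟩
  have hcard : ∀ x : {x : Equiv.Perm (Fin n) // IsConj t x}, x.1.support.card = t.support.card :=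
    fun x => by
      rw [← Equiv.Perm.sum_cycleType, ← Equiv.Perm.sum_cycleType,
        (Equiv.Perm.isConj_iff_cycleType_eq.1 x.2)]
  have ht2 := CfsgLib.Invol.mul_self_eq_one ht
  have ht1 := CfsgLib.Invol.ne_one_of_invol ht
  refine CfsgLib.InvChar.connected_and_diam_two ?_ ?_
  · intro x y hxy hna
    obtain ⟨z, hz, hzc, hxz, hyz⟩ := exists_sol (α := Fin n) _ Finset.univ x.1 y.1 rfl
      (inv_of_sq (hsq x).1) (inv_of_sq (hsq y).1)
      (by rw [mv_univ, mv_univ, hcard, hcard]) (fun h => by
        have := h.1; rw [Finset.card_univ, Fintype.card_fin] at this; omega)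
    have hinvol : Function.Involutive z := fun v => hz.2 v (Finset.mem_univ v)
    set q : Equiv.Perm (Fin n) := hinvol.toPerm z with hq
    have hqz : ⇑q = z := rfl
    have hq2 : q * q = 1 := Equiv.ext fun v => hinvol v
    have hqs : q.support.card = t.support.card := by
      rw [← mv_univ, hqz, hzc, mv_univ, hcard]
    have hq1 : q ≠ 1 := fun h => ht1 (by
      rw [h, Equiv.Perm.support_one, Finset.card_empty] at hqs
      exact Equiv.Perm.support_eq_empty_iff.1 (Finset.card_eq_zero.1 hqs.symm))
    have hconj : IsConj t q := isConj_of_support ht2 ht1 hq2 hq1 hqs.symm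
    have ox : Odd (orderOf (x.1 * q)) := odd_orderOf (by rw [Equiv.Perm.coe_mul, hqz]; exact hxz)
    have oy : Odd (orderOf (y.1 * q)) := odd_orderOf (by rw [Equiv.Perm.coe_mul, hqz]; exact hyz)
    refine ⟨⟨q, hconj⟩, ?_, ?_⟩
    · by_cases h : x = ⟨q, hconj⟩
      · exfalso
        refine hna ((SimpleGraph.fromRel_adj _ _ _).2 ⟨hxy, Or.inr ?_⟩)
        rw [h]; exact oy
      · exact (SimpleGraph.fromRel_adj _ _ _).2 ⟨h, Or.inl ox⟩
    · by_cases h : (⟨q, hconj⟩ : {x : Equiv.Perm (Fin n) // IsConj t x}) = y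
      · exfalso
        refine hna ((SimpleGraph.fromRel_adj _ _ _).2 ⟨hxy, Or.inl ?_⟩)
        rw [← h]; exact ox
      · exact (SimpleGraph.fromRel_adj _ _ _).2 ⟨h, Or.inr oy⟩
  · -- a commuting conjugate
    obtain ⟨a, ha⟩ := Finset.nonempty_of_ne_empty
      (fun h => ht1 (Equiv.Perm.support_eq_empty_iff.1 h))
    rw [Equiv.Perm.mem_support] at ha
    set b := t a with hb
    have tb : t b = a := by rw [hb, ← Equiv.Perm.mul_apply, ht2]; rfl
    obtain ⟨y, hy, hne, hcomm⟩ : ∃ y : Equiv.Perm (Fin n), IsConj t y ∧ y ≠ t ∧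
        (t * y) * (t * y) = 1 := by
      by_cases hbig : ∃ c, t c ≠ c ∧ c ≠ a ∧ c ≠ b
      · obtain ⟨c, hc, hca, hcb⟩ := hbig
        set d := t c with hd
        have td : t d = c := by rw [hd, ← Equiv.Perm.mul_apply, ht2]; rfl
        have hda : d ≠ a := fun e => hcb (by rw [← td, e])
        have hdb : d ≠ b := fun e => hca (by rw [← td, e, tb])
        set y := Equiv.swap b c * t * (Equiv.swap b c)⁻¹ with hy
        have ey : ∀ v, y v = Equiv.swap b c (t (Equiv.swap b c v)) := fun v => by simp [hy]
        have ya : y a = c := by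
          rw [ey, Equiv.swap_apply_of_ne_of_ne ha.symm hca.symm, ← hb, Equiv.swap_apply_left]
        have yc : y c = a := by
          rw [ey, Equiv.swap_apply_right, tb, Equiv.swap_apply_of_ne_of_ne ha.symm hca.symm]
        have yb : y b = d := by
          rw [ey, Equiv.swap_apply_left, ← hd, Equiv.swap_apply_of_ne_of_ne hdb hc]
        have yd : y d = b := by
          rw [ey, Equiv.swap_apply_of_ne_of_ne hdb hc, td, Equiv.swap_apply_right]
        refine ⟨y, isConj_iff.2 ⟨_, rfl⟩, fun e => hcb (by rw [← ya, e]), Equiv.ext fun v => ?_⟩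
        simp only [Equiv.Perm.mul_apply, Equiv.Perm.coe_one, id]
        by_cases h1 : v = a
        · subst h1; rw [ya, ← hd, yd, tb]
        by_cases h2 : v = b
        · subst h2; rw [yb, td, yc, ← hb]
        by_cases h3 : v = c
        · subst h3; rw [yc, ← hb, yb, td]
        by_cases h4 : v = d
        · subst h4; rw [yd, tb, ya, ← hd]
        have hyv : ∀ w, w ≠ a → w ≠ b → w ≠ c → w ≠ d → y w = t w := fun w k1 k2 k3 k4 => by
          rw [ey, Equiv.swap_apply_of_ne_of_ne k2 k3, Equiv.swap_apply_of_ne_of_ne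
            (fun e => k1 (by rw [← t.injective (e.trans hb)]))
            (fun e => k4 (t.injective (e.trans td.symm)))]
        have htt : ∀ w, t (t w) = w := fun w => by rw [← Equiv.Perm.mul_apply, ht2]; rfl
        rw [hyv v h1 h2 h3 h4, htt, hyv v h1 h2 h3 h4, htt]
      · push Not at hbig
        obtain ⟨c, -, hc⟩ := Finset.exists_mem_notMem_of_card_lt_card
          (s := ({a, b} : Finset (Fin n))) (t := Finset.univ)
          (by rw [Finset.card_univ, Fintype.card_fin]; exact lt_of_le_of_lt Finset.card_le_two (by omega))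
        obtain ⟨d, -, hd⟩ := Finset.exists_mem_notMem_of_card_lt_card
          (s := ({a, b, c} : Finset (Fin n))) (t := Finset.univ)
          (by rw [Finset.card_univ, Fintype.card_fin]
              exact lt_of_le_of_lt Finset.card_le_three (by omega))
        simp only [Finset.mem_insert, Finset.mem_singleton, not_or] at hc hd
        have htc : t c = c := by
          by_contra h; exact hc.2 (hbig c h hc.1)
        have htd : t d = d := by
          by_contra h; exact hd.2.1 (hbig d h hd.1)
        have hcd : c ≠ d := fun e => hd.2.2 e.symm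
        have hsupp : t.support = {a, b} := by
          ext v
          simp only [Equiv.Perm.mem_support, Finset.mem_insert, Finset.mem_singleton]
          refine ⟨fun h => or_iff_not_imp_left.2 (hbig v h), ?_⟩
          rintro (rfl | rfl)
          · exact ha
          · rw [tb]; exact ha.symm
        refine ⟨Equiv.swap c d, isConj_of_support ht2 ht1 (Equiv.swap_mul_self c d) ?_ ?_, ?_,
          Equiv.ext fun v => ?_⟩
        · intro h; exact hcd (Equiv.swap_eq_one_iff.1 h)
        · rw [hsupp, Equiv.Perm.card_support_swap hcd, Finset.card_pair ha.symm]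
        · intro h
          have := congrFun (congrArg DFunLike.coe h) c
          rw [Equiv.swap_apply_left, htc] at this
          exact hcd this.symm
        · simp only [Equiv.Perm.mul_apply, Equiv.Perm.coe_one, id]
          have htt : ∀ w, t (t w) = w := fun w => by rw [← Equiv.Perm.mul_apply, ht2]; rfl
          by_cases h3 : v = c
          · subst h3; simp [htd, htc]
          by_cases h4 : v = d
          · subst h4; simp [htd, htc]
          rw [Equiv.swap_apply_of_ne_of_ne h3 h4, Equiv.swap_apply_of_ne_of_ne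
            (fun e => h3 (t.injective (e.trans htc.symm)))
            (fun e => h4 (t.injective (e.trans htd.symm))), htt]
    have hty : orderOf (t * y) = 2 :=
      orderOf_eq_prime (by rw [pow_two, hcomm]) (fun h => hne (by
        rw [← inv_eq_of_mul_eq_one_right h, CfsgLib.Invol.inv_eq_self ht]))
    have hyt : orderOf (y * t) = 2 := by
      rw [← CfsgLib.Invol.orderOf_conj t (y * t), mul_assoc, mul_assoc, mul_inv_cancel, mul_one, hty]
    refine ⟨⟨t, IsConj.refl t⟩, ⟨y, hy⟩, fun h => hne (congrArg Subtype.val h).symm, fun h => ?_⟩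
    rcases ((SimpleGraph.fromRel_adj _ _ _).1 h).2 with h | h
    · exact absurd h (by rw [hty]; decide)
    · exact absurd h (by rw [hyt]; decide)

end Cfsg.Agent.S3265
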