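import Cfsg.Statements.S3266
import Cfsg.Agent.Lib.SL2Trace.Orders
import Cfsg.Agent.Lib.Invol.Dihedral
import Cfsg.Agent.Lib.InvChar.GraphDiam

set_option autoImplicit false
open Cfsg

namespace Cfsg.Agent.S3266

open Matrix CfsgLib.SL2Trace

variable {F : Type*} [Field F]

local notation "tr" M => Matrix.trace (M : Matrix (Fin 2) (Fin 2) F)

theorem sq_mem_center {M : SpecialLinearGroup (Fin 2) F} (h : (tr M) = 0) :
    M * M ∈ Subgroup.center (SpecialLinearGroup (Fin 2) F) := by
  refine mem_center_of_scalar (-1) ?_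
  rw [Matrix.SpecialLinearGroup.coe_mul, mul_self_eq, h, zero_smul, zero_sub, map_neg, map_one]

theorem orderOf_toPSL_eq_two {M : SpecialLinearGroup (Fin 2) F} (h : (tr M) = 0)
    (hM : M ∉ Subgroup.center (SpecialLinearGroup (Fin 2) F)) : orderOf (toPSL M) = 2 := by
  refine orderOf_eq_prime ?_ ?_
  · rw [pow_two, toPSL, ← QuotientGroup.mk_mul, QuotientGroup.eq_one_iff]
    exact sq_mem_center h
  · rw [toPSL, ne_eq, QuotientGroup.eq_one_iff]
    exact hM

/-- Lifts of involutions have trace zero. -/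
theorem exists_lift {x : ProjectiveSpecialLinearGroup (Fin 2) F} (hx : orderOf x = 2) :
    ∃ M : SpecialLinearGroup (Fin 2) F, toPSL M = x ∧ (tr M) = 0 ∧
      M ∉ Subgroup.center (SpecialLinearGroup (Fin 2) F) := by
  obtain ⟨M, rfl⟩ := QuotientGroup.mk_surjective x
  have hM : M ∉ Subgroup.center (SpecialLinearGroup (Fin 2) F) := fun h => by
    rw [(QuotientGroup.eq_one_iff M).2 h, orderOf_one] at hx
    omega
  refine ⟨M, rfl, ?_, hM⟩
  have h2 : M * M ∈ Subgroup.center (SpecialLinearGroup (Fin 2) F) := by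
    rw [← QuotientGroup.eq_one_iff, QuotientGroup.mk_mul, ← pow_two]
    have h := pow_orderOf_eq_one (QuotientGroup.mk M : ProjectiveSpecialLinearGroup (Fin 2) F)
    rwa [hx] at h
  obtain ⟨h01, h10, h00⟩ := mem_center_iff_entries.1 h2
  rw [Matrix.SpecialLinearGroup.coe_mul, mul_self_eq] at h01 h10 h00
  simp at h01 h10 h00
  by_contra ht
  exact hM (mem_center_iff_entries.2
    ⟨h01.resolve_left ht, h10.resolve_left ht, h00.resolve_right ht⟩)

/-- The criterion for the product of two trace-zero elements to have odd order. -/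
def Good (τ : F) : Prop :=
  ((2 : F) = 0 → τ ≠ 0) ∧
    ((2 : F) ≠ 0 → ¬ ∃ v : F, v ≠ 0 ∧ τ ^ 2 + v ^ 2 = 4)

theorem odd_orderOf_of_pow {M : SpecialLinearGroup (Fin 2) F} {n : ℕ} (hn : Odd n)
    (h : M ^ n ∈ Subgroup.center (SpecialLinearGroup (Fin 2) F)) : Odd (orderOf (toPSL M)) := by
  refine Odd.of_dvd_nat hn (orderOf_dvd_of_pow_eq_one ?_)
  rw [toPSL, ← QuotientGroup.mk_pow, QuotientGroup.eq_one_iff]
  exact h

variable [Fintype F]

theorem odd_orderOf {M : SpecialLinearGroup (Fin 2) F} (h : Good (tr M)) :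
    Odd (orderOf (toPSL M)) := by
  have h2iff : ringChar F = 2 ↔ (2 : F) = 0 := by
    refine ⟨fun hc => ?_, fun h0 => ?_⟩
    · haveI : CharP F 2 := ringChar.of_eq hc
      exact CharTwo.two_eq_zero
    · by_contra hc
      exact Ring.two_ne_zero hc h0
  by_cases h2 : (2 : F) = 0
  · have ht := h.1 h2
    have hreg : (tr M) ^ 2 ≠ 4 := by
      rw [show (4 : F) = 2 * 2 by norm_num, h2, mul_zero]
      exact pow_ne_zero 2 ht
    have hev : Fintype.card F % 2 = 0 := FiniteField.even_card_of_char_two (h2iff.2 h2)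
    have hpos := Fintype.card_pos (α := F)
    obtain ⟨hr, hn⟩ := pow_eq_one_of_regular M hreg
    by_cases hroot : ∃ u : F, u ^ 2 - (tr M) * u + 1 = 0
    · exact odd_orderOf_of_pow (n := Fintype.card F - 1) (Nat.odd_iff.2 (by omega))
        (by rw [hr hroot]; exact one_mem _)
    · exact odd_orderOf_of_pow (n := Fintype.card F + 1) (Nat.odd_iff.2 (by omega))
        (by rw [hn hroot]; exact one_mem _)
  · have hgood := h.2 h2
    have hc : ringChar F ≠ 2 := fun hc => h2 (h2iff.1 hc)
    have hodd : Fintype.card F % 2 = 1 := FiniteField.odd_card_of_char_ne_two hc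
    by_cases hreg : (tr M) ^ 2 = 4
    · obtain ⟨n, hp, hn⟩ := FiniteField.card F (ringChar F)
      haveI : Fact (ringChar F).Prime := ⟨hp⟩
      exact odd_orderOf_of_pow (hp.odd_of_ne_two hc) (pow_char_mem_center (ringChar F) M hreg)
    obtain ⟨hr, hn⟩ := pow_eq_one_of_regular M hreg
    have h1 : IsSquare (-1 : F) ↔ Fintype.card F % 4 ≠ 3 := FiniteField.isSquare_neg_one_iff
    have key : ∀ k : ℕ, M ^ (k + k) = 1 → M ^ k ∈ Subgroup.center (SpecialLinearGroup (Fin 2) F) :=
      fun k hk => mem_center_of_sq_eq_one h2 (by rw [← pow_add, hk])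
    by_cases hroot : ∃ u : F, u ^ 2 - (tr M) * u + 1 = 0
    · have h4 : Fintype.card F % 4 = 3 := by
        by_contra h4
        obtain ⟨i, hi⟩ := h1.2 h4
        obtain ⟨u, hu⟩ := hroot
        refine hgood ⟨i * (2 * u - (tr M)), mul_ne_zero (fun h0 => ?_) (fun h0 => hreg ?_), ?_⟩
        · rw [h0, mul_zero] at hi
          exact neg_ne_zero.2 one_ne_zero hi
        · linear_combination -4 * hu + (2 * u - (tr M)) * h0
        · linear_combination (-(2 * u - (tr M)) ^ 2) * hi - 4 * hu
      exact odd_orderOf_of_pow (n := (Fintype.card F - 1) / 2) (Nat.odd_iff.2 (by omega))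
        (key _ (by
          rw [show (Fintype.card F - 1) / 2 + (Fintype.card F - 1) / 2 = Fintype.card F - 1 by omega]
          exact hr hroot))
    · have h4 : Fintype.card F % 4 = 1 := by
        by_contra h4
        have hns : ¬ IsSquare (-1 : F) := fun hs => h1.1 hs (by omega)
        have hd : ¬ IsSquare ((tr M) ^ 2 - 4) := by
          rintro ⟨s, hs⟩
          refine hroot ⟨((tr M) + s) / 2, ?_⟩
          field_simp
          linear_combination -hs
        -- the product of two nonsquares is a square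
        classical
        have hq1 := quadraticChar_neg_one_iff_not_isSquare.2 hns
        have hq2 := quadraticChar_neg_one_iff_not_isSquare.2 hd
        have hne : 4 - (tr M) ^ 2 ≠ 0 := fun h0 => hreg (by linear_combination -h0)
        have hsq : IsSquare (4 - (tr M) ^ 2) := by
          rw [← quadraticChar_one_iff_isSquare hne,
            show 4 - (tr M) ^ 2 = (-1) * ((tr M) ^ 2 - 4) by ring, map_mul, hq1, hq2]
          norm_num
        obtain ⟨v, hv⟩ := hsq
        exact hgood ⟨v, fun h0 => hne (by rw [hv, h0, mul_zero]), by linear_combination -hv⟩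
      exact odd_orderOf_of_pow (n := (Fintype.card F + 1) / 2) (Nat.odd_iff.2 (by omega))
        (key _ (by
          rw [show (Fintype.card F + 1) / 2 + (Fintype.card F + 1) / 2 = Fintype.card F + 1 by omega]
          exact hn hroot))

theorem exists_sqrt (h2 : (2 : F) = 0) (a : F) : ∃ r : F, r * r = a := by
  have hc : ringChar F = 2 := by
    by_contra hc
    exact Ring.two_ne_zero hc h2
  obtain ⟨r, hr⟩ := FiniteField.isSquare_of_char_two hc a
  exact ⟨r, hr.symm⟩

/-- The common neighbour in characteristic two. -/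
theorem exists_mid_two (h2 : (2 : F) = 0) {A B : SpecialLinearGroup (Fin 2) F}
    (hA : (tr A) = 0) (hA' : A ∉ Subgroup.center (SpecialLinearGroup (Fin 2) F))
    (hB : (tr B) = 0) (hB' : B ∉ Subgroup.center (SpecialLinearGroup (Fin 2) F)) :
    ∃ C : SpecialLinearGroup (Fin 2) F, (tr C) = 0 ∧
      C ∉ Subgroup.center (SpecialLinearGroup (Fin 2) F) ∧ (tr (A * C)) ≠ 0 ∧ (tr (B * C)) ≠ 0 := by
  have hneg : ∀ a : F, -a = a := fun a => by linear_combination -a * h2
  have hdiag : ∀ A : SpecialLinearGroup (Fin 2) F, (tr A) = 0 →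
      (A : Matrix (Fin 2) (Fin 2) F) 1 1 = (A : Matrix (Fin 2) (Fin 2) F) 0 0 := fun A h => by
    rw [trace_fin_two] at h
    linear_combination h - (A : Matrix (Fin 2) (Fin 2) F) 0 0 * h2
  have hoff : ∀ A : SpecialLinearGroup (Fin 2) F, (tr A) = 0 →
      A ∉ Subgroup.center (SpecialLinearGroup (Fin 2) F) →
      (A : Matrix (Fin 2) (Fin 2) F) 0 1 ≠ 0 ∨ (A : Matrix (Fin 2) (Fin 2) F) 1 0 ≠ 0 := by
    intro A h hn
    by_contra hc
    push Not at hc
    exact hn (mem_center_iff_entries.2 ⟨hc.1, hc.2, (hdiag A h).symm⟩)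
  obtain ⟨y, z, hyz, hy1, hy2⟩ : ∃ y z : F, (y ≠ 0 ∨ z ≠ 0) ∧
      (A : Matrix (Fin 2) (Fin 2) F) 0 1 * z + (A : Matrix (Fin 2) (Fin 2) F) 1 0 * y ≠ 0 ∧
      (B : Matrix (Fin 2) (Fin 2) F) 0 1 * z + (B : Matrix (Fin 2) (Fin 2) F) 1 0 * y ≠ 0 := by
    by_cases hc1 : (A : Matrix (Fin 2) (Fin 2) F) 1 0 = 0
    · have hb1 := (hoff A hA hA').resolve_right (not_not.2 hc1)
      by_cases hb2 : (B : Matrix (Fin 2) (Fin 2) F) 0 1 = 0
      · exact ⟨1, 1, Or.inl one_ne_zero, by simpa [hc1] using hb1,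
          by simpa [hb2] using (hoff B hB hB').resolve_left (not_not.2 hb2)⟩
      · exact ⟨0, 1, Or.inr one_ne_zero, by simpa using hb1, by simpa using hb2⟩
    · by_cases hc2 : (B : Matrix (Fin 2) (Fin 2) F) 1 0 = 0
      · have hb2 := (hoff B hB hB').resolve_right (not_not.2 hc2)
        by_cases hb1 : (A : Matrix (Fin 2) (Fin 2) F) 0 1 = 0
        · exact ⟨1, 1, Or.inl one_ne_zero, by simpa [hb1] using hc1, by simpa [hc2] using hb2⟩
        · exact ⟨0, 1, Or.inr one_ne_zero, by simpa using hb1, by simpa using hb2⟩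
      · exact ⟨1, 0, Or.inl one_ne_zero, by simpa using hc1, by simpa using hc2⟩
  obtain ⟨x, hx⟩ := exists_sqrt h2 (1 + y * z)
  refine ⟨mk2 x y z x (by linear_combination hx), ?_, ?_, ?_, ?_⟩
  · rw [coe_mk2, trace_fin_two]; simp; linear_combination x * h2
  · intro h
    obtain ⟨h1, h2', -⟩ := mem_center_iff_entries.1 h
    simp [coe_mk2] at h1 h2'
    rcases hyz with h | h
    · exact h h1
    · exact h h2'
  · rw [coe_mk2, trace_fin_two]
    simp [Matrix.mul_apply, Fin.sum_univ_two]
    rw [hdiag A hA]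
    intro h
    exact hy1 (by linear_combination h - (A : Matrix (Fin 2) (Fin 2) F) 0 0 * x * h2)
  · rw [coe_mk2, trace_fin_two]
    simp [Matrix.mul_apply, Fin.sum_univ_two]
    rw [hdiag B hB]
    intro h
    exact hy2 (by linear_combination h - (B : Matrix (Fin 2) (Fin 2) F) 0 0 * x * h2)

/-- A line meets a nondegenerate circle at most twice. -/
theorem card_line_circle [DecidableEq F] (d α β κ : F) (hd : d ≠ 0) (hαβ : α ≠ 0 ∨ β ≠ 0)
    (h2 : (2 : F) ≠ 0) :
    ((Finset.univ : Finset (F × F)).filter fun p =>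
      p.1 ^ 2 + p.2 ^ 2 = d ∧ α * p.1 + β * p.2 = κ).card ≤ 2 := by
  by_contra hgt
  obtain ⟨p, hp, q, hq, r, hr, hpq, hpr, hqr⟩ := Finset.two_lt_card.1 (not_le.1 hgt)
  simp only [Finset.mem_filter, Finset.mem_univ, true_and] at hp hq hr
  have param : ∀ q : F × F, α * q.1 + β * q.2 = κ → ∃ s : F,
      q.1 = p.1 - s * β ∧ q.2 = p.2 + s * α := by
    intro q hq
    by_cases hα : α = 0
    · have hβ := hαβ.resolve_left (not_not.2 hα)
      refine ⟨(p.1 - q.1) / β, by field_simp; ring, ?_⟩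
      have : β * (q.2 - p.2) = 0 := by rw [hα] at hp hq; linear_combination hq - hp.2
      rw [hα, mul_zero, add_zero]
      exact sub_eq_zero.1 ((mul_eq_zero.1 this).resolve_left hβ)
    · refine ⟨(q.2 - p.2) / α, ?_, by field_simp; ring⟩
      field_simp
      linear_combination hq - hp.2
  obtain ⟨s, hs1, hs2⟩ := param q hq.2
  obtain ⟨t, ht1, ht2⟩ := param r hr.2
  have hs0 : s ≠ 0 := fun h => hpq (Prod.ext (by simp [hs1, h]) (by simp [hs2, h]))
  have ht0 : t ≠ 0 := fun h => hpr (Prod.ext (by simp [ht1, h]) (by simp [ht2, h]))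
  have hst : s ≠ t := fun h => hqr (Prod.ext (by rw [hs1, ht1, h]) (by rw [hs2, ht2, h]))
  have e1 : s * (s * (α ^ 2 + β ^ 2) + 2 * (p.2 * α - p.1 * β)) = 0 := by
    have := hq.1
    rw [hs1, hs2] at this
    linear_combination this - hp.1
  have e2 : t * (t * (α ^ 2 + β ^ 2) + 2 * (p.2 * α - p.1 * β)) = 0 := by
    have := hr.1
    rw [ht1, ht2] at this
    linear_combination this - hp.1
  have f1 := (mul_eq_zero.1 e1).resolve_left hs0
  have f2 := (mul_eq_zero.1 e2).resolve_left ht0
  have hA : α ^ 2 + β ^ 2 = 0 :=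
    (mul_eq_zero.1 (show (s - t) * (α ^ 2 + β ^ 2) = 0 by linear_combination f1 - f2)).resolve_left
      (sub_ne_zero.2 hst)
  have hB : p.2 * α - p.1 * β = 0 :=
    (mul_eq_zero.1 (show 2 * (p.2 * α - p.1 * β) = 0 by
      linear_combination f1 - s * hA)).resolve_left h2
  have hβ : β ≠ 0 := fun h => by
    rw [h] at hA
    exact hαβ.elim (fun hα => hα (pow_eq_zero_iff two_ne_zero |>.1 (by linear_combination hA)))
      (fun hb => hb h)
  have : β ^ 2 * d = 0 := by
    linear_combination -β ^ 2 * hp.1 + p.2 ^ 2 * hA - (p.2 * α + p.1 * β) * hB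
  exact hd ((mul_eq_zero.1 this).resolve_left (pow_ne_zero 2 hβ))

/-- The common neighbour of the standard involution and another in odd characteristic. -/
theorem exists_mid_comp (h4 : 4 ≤ Fintype.card F) (h2 : (2 : F) ≠ 0)
    {B : SpecialLinearGroup (Fin 2) F} (hB : (tr B) = 0)
    (hne : toPSL B ≠ toPSL (comp (0 : F))) :
    ∃ C : SpecialLinearGroup (Fin 2) F, (tr C) = 0 ∧ Good (tr (comp (0 : F) * C)) ∧
      Good (tr (B * C)) := by
  classical
  have hfour : (4 : F) ≠ 0 := by
    rw [show (4 : F) = 2 * 2 by norm_num]; exact mul_ne_zero h2 h2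
  obtain ⟨τ, hreg, hτ⟩ : ∃ τ : F, τ ^ 2 ≠ 4 ∧ ¬ ∃ v : F, v ≠ 0 ∧ τ ^ 2 + v ^ 2 = 4 := by
    by_cases hs : IsSquare (-1 : F)
    · obtain ⟨τ, hτ⟩ := exists_anisotropic_trace (F := F)
      obtain ⟨i, hi⟩ := hs
      refine ⟨τ, fun h => hτ (exists_root_of_sq_eq_four τ h), fun ⟨v, _, hv⟩ => hτ ?_⟩
      refine ⟨(τ + i * v) / 2, ?_⟩
      field_simp
      linear_combination -hv - v ^ 2 * hi
    · obtain ⟨τ, hreg, u, hu⟩ := exists_isotropic_trace (F := F) h4
      refine ⟨τ, hreg, fun ⟨v, hv0, hv⟩ => hs ⟨(2 * u - τ) / v, ?_⟩⟩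
      field_simp
      linear_combination -4 * hu - hv
  have hd : τ ^ 2 / 4 - 1 ≠ 0 := by
    intro h
    refine hreg ?_
    field_simp at h
    linear_combination h
  -- the entries of `B`
  set a := (B : Matrix (Fin 2) (Fin 2) F) 0 0 with ha
  set b := (B : Matrix (Fin 2) (Fin 2) F) 0 1 with hb
  set c := (B : Matrix (Fin 2) (Fin 2) F) 1 0 with hc
  have hd' : (B : Matrix (Fin 2) (Fin 2) F) 1 1 = -a := by
    rw [trace_fin_two] at hB; linear_combination hB
  have hdet := det_coe B
  rw [hd', ← ha, ← hb, ← hc] at hdet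
  have hαβ : 2 * a ≠ 0 ∨ b + c ≠ 0 := by
    by_contra h
    push Not at h
    obtain ⟨hα, hβ⟩ := h
    have ha0 : a = 0 := (mul_eq_zero.1 hα).resolve_left h2
    have hb2 : b * b = 1 := by linear_combination hdet + b * hβ + a * ha0
    apply hne
    rw [toPSL, toPSL, QuotientGroup.eq]
    refine mem_center_of_scalar (-b) ?_
    rw [Matrix.SpecialLinearGroup.coe_mul, Matrix.SpecialLinearGroup.coe_inv, coe_comp, adjugate_fin_two, hd',
      ← ha, ← hb, ← hc]
    have hc' : c = -b := by linear_combination hβ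
    ext i j
    fin_cases i <;> fin_cases j <;>
      simp [Matrix.mul_apply, Fin.sum_univ_two, ha0, hc']
  -- the circle, and the comparison with the bad set
  set d := τ ^ 2 / 4 - 1 with hddef
  set P := (Finset.univ : Finset (F × F)).filter fun p => p.1 ^ 2 + p.2 ^ 2 = d with hP
  set Q := (Finset.univ : Finset (F × F)).filter fun p => p.1 ^ 2 + p.2 ^ 2 = 4 with hQ
  obtain ⟨x₀, y₀, h0⟩ := exists_quad_eq (1 : F) 0 1 (d / 4) (by simp [hfour])
  have hQP : Q.card ≤ P.card := by
    refine Finset.card_le_card_of_injOn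
      (fun p => (p.1 * x₀ - p.2 * y₀, p.1 * y₀ + p.2 * x₀)) ?_ ?_
    · intro p hp
      simp only [hQ, hP, Finset.coe_filter, Finset.mem_univ, true_and, Set.mem_setOf_eq] at hp ⊢
      calc (p.1 * x₀ - p.2 * y₀) ^ 2 + (p.1 * y₀ + p.2 * x₀) ^ 2
          = (p.1 ^ 2 + p.2 ^ 2) * (1 * x₀ ^ 2 + 0 * x₀ * y₀ + 1 * y₀ ^ 2) := by ring
        _ = d := by rw [hp, h0]; field_simp
    · intro p _ q _ h
      simp only [Prod.mk.injEq] at h
      have hn : x₀ ^ 2 + y₀ ^ 2 = d / 4 := by linear_combination h0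
      have hn0 : x₀ ^ 2 + y₀ ^ 2 ≠ 0 := by rw [hn]; exact div_ne_zero hd hfour
      refine Prod.ext (mul_right_cancel₀ hn0 ?_) (mul_right_cancel₀ hn0 ?_)
      · linear_combination x₀ * h.1 + y₀ * h.2
      · linear_combination (-y₀) * h.1 + x₀ * h.2
  set Bad := (Finset.univ : Finset F).filter fun t => ∃ v : F, v ≠ 0 ∧ t ^ 2 + v ^ 2 = 4 with hBad
  have hBadQ : Bad.card * 2 < Q.card := by
    have h1 : ∀ t ∈ Bad, 2 ≤ (Q.filter fun p => p.1 = t).card := by
      intro t ht
      simp only [hBad, Finset.mem_filter, Finset.mem_univ, true_and] at ht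
      obtain ⟨v, hv, htv⟩ := ht
      refine Finset.one_lt_card.2 ⟨(t, v), by simp [hQ, htv], (t, -v), by simp [hQ, htv], ?_⟩
      intro h
      have : v = -v := (Prod.ext_iff.1 h).2
      exact hv ((mul_eq_zero.1 (show 2 * v = 0 by linear_combination this)).resolve_left h2)
    have h2' : Bad.card * 2 ≤ ∑ t ∈ Bad, (Q.filter fun p => p.1 = t).card := by
      have := Finset.card_nsmul_le_sum Bad _ 2 h1
      simpa [smul_eq_mul] using this
    have h3 : (∑ t ∈ Bad, (Q.filter fun p => p.1 = t).card) + 1 ≤ Q.card := by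
      rw [← Finset.card_eq_sum_card_fiberwise (f := Prod.fst) (s := Q.filter fun p => p.1 ∈ Bad)
        (t := Bad) (fun p hp => by simp at hp; exact hp.2) |>.trans (Finset.sum_congr rfl ?_)]
      · have : (2, 0) ∈ Q ∧ (2, 0) ∉ Q.filter (fun p => p.1 ∈ Bad) := by
          refine ⟨by simp [hQ]; norm_num, ?_⟩
          simp only [hBad, Finset.mem_filter, Finset.mem_univ, true_and, not_and, not_exists]
          intro _ v hv h
          refine hv ((pow_eq_zero_iff two_ne_zero).1 ?_)
          linear_combination h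
        exact Finset.card_lt_card (Finset.ssubset_iff_of_subset (Finset.filter_subset _ _) |>.2
          ⟨(2, 0), this⟩)
      · intro t ht
        congr 1
        ext p
        simp only [Finset.mem_filter]
        exact ⟨fun h => ⟨h.1.1, h.2⟩, fun h => ⟨⟨h.1, h.2 ▸ ht⟩, h.2⟩⟩
    omega
  -- a point of the circle outside the bad lines
  obtain ⟨p, hpP, hpv⟩ : ∃ p ∈ P,
      2 * a * p.1 + b * (p.2 - τ / 2) + c * (p.2 + τ / 2) ∉ Bad := by
    by_contra h
    push Not at h
    have h1 := Finset.card_le_mul_card_image_of_maps_to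
      (f := fun p : F × F => 2 * a * p.1 + b * (p.2 - τ / 2) + c * (p.2 + τ / 2))
      (s := P) (t := Bad) h 2 (fun t _ => by
        refine le_trans (Finset.card_le_card ?_)
          (card_line_circle d (2 * a) (b + c) (t + (b - c) * (τ / 2)) hd hαβ h2)
        intro p hp
        simp only [hP, Finset.mem_filter, Finset.mem_univ, true_and] at hp ⊢
        exact ⟨hp.1, by linear_combination hp.2⟩)
    omega
  simp only [hP, Finset.mem_filter, Finset.mem_univ, true_and] at hpP
  refine ⟨mk2 p.1 (p.2 + τ / 2) (p.2 - τ / 2) (-p.1) ?_, ?_, ?_, ?_⟩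
  · have : p.1 ^ 2 + p.2 ^ 2 = τ ^ 2 / 4 - 1 := hpP
    field_simp at this ⊢
    linear_combination -this
  · simp [coe_mk2, trace_fin_two]
  · have : (tr (comp (0 : F) * mk2 p.1 (p.2 + τ / 2) (p.2 - τ / 2) (-p.1) (by
      have : p.1 ^ 2 + p.2 ^ 2 = τ ^ 2 / 4 - 1 := hpP
      field_simp at this ⊢
      linear_combination -this))) = τ := by
      rw [coe_comp, coe_mk2, trace_fin_two]
      simp [Matrix.mul_apply, Fin.sum_univ_two]
      field_simp; ring
    rw [this]
    exact ⟨fun h => absurd h h2, fun _ => hτ⟩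
  · refine ⟨fun h => absurd h h2, fun _ => ?_⟩
    rw [coe_mk2, trace_fin_two]
    simp [Matrix.mul_apply, Fin.sum_univ_two, hd', ← ha, ← hb, ← hc]
    intro v hv h
    refine hpv ?_
    simp only [hBad, Finset.mem_filter, Finset.mem_univ, true_and]
    exact ⟨v, hv, by rw [← h]; ring⟩

theorem good_ne (h : Good (0 : F)) : False := by
  by_cases h2 : (2 : F) = 0
  · exact h.1 h2 rfl
  · exact h.2 h2 ⟨2, h2, by norm_num⟩

/-- Two distinct involutions with trace zero product. -/
theorem exists_orthogonal (h4 : 4 ≤ Fintype.card F) :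
    ∃ A B : SpecialLinearGroup (Fin 2) F, (tr A) = 0 ∧ (tr B) = 0 ∧ (tr (A * B)) = 0 ∧
      A ∉ Subgroup.center (SpecialLinearGroup (Fin 2) F) ∧
      B ∉ Subgroup.center (SpecialLinearGroup (Fin 2) F) ∧ toPSL A ≠ toPSL B := by
  classical
  by_cases h2 : (2 : F) = 0
  · obtain ⟨l, -, hl⟩ := Finset.exists_mem_notMem_of_card_lt_card
      (s := ({0, 1} : Finset F)) (t := Finset.univ) (by
        rw [Finset.card_univ]; exact lt_of_le_of_lt Finset.card_le_two (by omega))
    simp only [Finset.mem_insert, Finset.mem_singleton, not_or] at hl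
    refine ⟨mk2 1 1 0 1 (by ring), mk2 1 l 0 1 (by ring), ?_, ?_, ?_, ?_, ?_, ?_⟩
    · simp [coe_mk2, trace_fin_two]; linear_combination h2
    · simp [coe_mk2, trace_fin_two]; linear_combination h2
    · skip
      simp [coe_mk2, trace_fin_two, Matrix.mul_apply, Fin.sum_univ_two]
      linear_combination h2
    · intro h; simpa [coe_mk2] using (mem_center_iff_entries.1 h).1
    · intro h; exact hl.1 (by simpa [coe_mk2] using (mem_center_iff_entries.1 h).1)
    · rw [toPSL, toPSL, ne_eq, QuotientGroup.eq]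
      intro h
      have := (mem_center_iff_entries.1 h).1
      rw [Matrix.SpecialLinearGroup.coe_mul, Matrix.SpecialLinearGroup.coe_inv] at this
      simp [coe_mk2, adjugate_fin_two, Matrix.mul_apply, Fin.sum_univ_two] at this
      exact hl.2 (by linear_combination this)
  · have hfour : (4 : F) ≠ 0 := by
      rw [show (4 : F) = 2 * 2 by norm_num]; exact mul_ne_zero h2 h2
    obtain ⟨x, y, hxy⟩ := exists_quad_eq (1 : F) 0 1 (-1) (by simp [hfour])
    refine ⟨comp 0, mk2 x y y (-x) (by linear_combination -hxy), ?_, ?_, ?_, ?_, ?_, ?_⟩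
    · simp [coe_comp, trace_fin_two]
    · simp [coe_mk2, trace_fin_two]
    · skip
      simp [coe_mk2, coe_comp, trace_fin_two, Matrix.mul_apply, Fin.sum_univ_two]
    · intro h; simpa [coe_comp] using (mem_center_iff_entries.1 h).1
    · intro h
      obtain ⟨h1, -, h3⟩ := mem_center_iff_entries.1 h
      simp [coe_mk2] at h1 h3
      have hx : x = 0 := (mul_eq_zero.1 (show 2 * x = 0 by linear_combination h3)).resolve_left h2
      rw [hx, h1] at hxy
      simp at hxy
    · rw [toPSL, toPSL, ne_eq, QuotientGroup.eq]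
      intro h
      obtain ⟨h1, -, h3⟩ := mem_center_iff_entries.1 h
      rw [Matrix.SpecialLinearGroup.coe_mul, Matrix.SpecialLinearGroup.coe_inv] at h1 h3
      simp [coe_comp, coe_mk2, adjugate_fin_two, Matrix.mul_apply, Fin.sum_univ_two] at h1 h3
      have hy : y = 0 := (mul_eq_zero.1 (show 2 * y = 0 by linear_combination h3)).resolve_left h2
      rw [h1, hy] at hxy
      simp at hxy

/-- Any two involutions of `PSL₂` are conjugate. -/
theorem isConj_invol {x y : ProjectiveSpecialLinearGroup (Fin 2) F} (hx : orderOf x = 2)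
    (hy : orderOf y = 2) : IsConj x y := by
  obtain ⟨A, rfl, hA, hA'⟩ := exists_lift hx
  obtain ⟨B, rfl, hB, hB'⟩ := exists_lift hy
  by_cases h2 : (2 : F) = 0
  · -- a common neighbour in the odd product graph
    obtain ⟨C, hC, hC', h1, h3⟩ := exists_mid_two h2 hA hA' hB hB'
    have key : ∀ {A : SpecialLinearGroup (Fin 2) F}, (tr A) = 0 →
        A ∉ Subgroup.center (SpecialLinearGroup (Fin 2) F) → (tr (A * C)) ≠ 0 →
        IsConj (toPSL A) (toPSL C) := fun {A} hA hA' h1 => by
      refine CfsgLib.Invol.isConj_of_odd (CfsgLib.Invol.mul_self_eq_one (orderOf_toPSL_eq_two hA hA'))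
        (CfsgLib.Invol.mul_self_eq_one (orderOf_toPSL_eq_two hC hC')) ?_
      rw [toPSL, toPSL, ← QuotientGroup.mk_mul]
      exact odd_orderOf ⟨fun _ => h1, fun h => absurd h2 h⟩
    exact (key hA hA' h1).trans (key hB hB' h3).symm
  · have hfour : ((0 : F)) ^ 2 ≠ 4 := by
      rw [show (4 : F) = 2 * 2 by norm_num]; simp [h2]
    obtain ⟨U, hU⟩ := isConj_of_trace_eq A B (by rw [hA]; exact hfour) (hB.trans hA.symm)
    exact isConj_iff.2 ⟨toPSL U, by rw [hU]; rfl⟩

/-- The odd product graph on the involutions of PSL(2,q) is connected of diameter two. -/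
theorem result {F : Type*} [Field F] [Fintype F] (hF : 4 ≤ Fintype.card F)
    (t : Matrix.ProjectiveSpecialLinearGroup (Fin 2) F) (ht : orderOf t = 2) :
    (SimpleGraph.fromRel fun x y : {x : Matrix.ProjectiveSpecialLinearGroup (Fin 2) F // IsConj t x} =>
        Odd (orderOf (x.1 * y.1))).Connected ∧
      (SimpleGraph.fromRel fun x y : {x : Matrix.ProjectiveSpecialLinearGroup (Fin 2) F // IsConj t x} =>
        Odd (orderOf (x.1 * y.1))).diam = 2 := by
  have hinv : ∀ x : {x : Matrix.ProjectiveSpecialLinearGroup (Fin 2) F // IsConj t x},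
      orderOf x.1 = 2 := by
    rintro ⟨x, hx⟩
    obtain ⟨g, rfl⟩ := isConj_iff.1 hx
    rw [CfsgLib.Invol.orderOf_conj, ht]
  refine CfsgLib.InvChar.connected_and_diam_two ?_ ?_
  · intro x y hxy hna
    obtain ⟨A, hAx, hA, hA'⟩ := exists_lift (hinv x)
    obtain ⟨B, hBy, hB, hB'⟩ := exists_lift (hinv y)
    obtain ⟨C, hC, hC', hAC, hBC⟩ : ∃ C : SpecialLinearGroup (Fin 2) F,
        (Matrix.trace (C : Matrix (Fin 2) (Fin 2) F)) = 0 ∧
        C ∉ Subgroup.center (SpecialLinearGroup (Fin 2) F) ∧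
        Good (Matrix.trace ((A * C : SpecialLinearGroup (Fin 2) F) : Matrix (Fin 2) (Fin 2) F)) ∧
        Good (Matrix.trace ((B * C : SpecialLinearGroup (Fin 2) F) : Matrix (Fin 2) (Fin 2) F)) := by
      by_cases h2 : (2 : F) = 0
      · obtain ⟨C, h1, h3, h4, h5⟩ := exists_mid_two h2 hA hA' hB hB'
        exact ⟨C, h1, h3, ⟨fun _ => h4, fun h => absurd h2 h⟩, ⟨fun _ => h5, fun h => absurd h2 h⟩⟩
      · have hfour : ((0 : F)) ^ 2 ≠ 4 := by
          rw [show (4 : F) = 2 * 2 by norm_num]; simp [h2]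
        have htc : Matrix.trace (comp (0 : F) : Matrix (Fin 2) (Fin 2) F) = 0 := by
          simp [coe_comp, trace_fin_two]
        obtain ⟨U, hU⟩ := isConj_of_trace_eq (comp (0 : F)) A (by rw [htc]; exact hfour)
          (hA.trans htc.symm)
        obtain ⟨C, h1, h3, h4⟩ := exists_mid_comp (B := U⁻¹ * B * U) hF h2 (by
          have := trace_mul_mul_inv (G := U⁻¹) B
          rw [inv_inv] at this
          rw [this, hB]) (by
          intro h
          apply hxy
          apply Subtype.ext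
          rw [← hAx, ← hBy, hU, show B = U * (U⁻¹ * B * U) * U⁻¹ by group]
          simp only [toPSL, QuotientGroup.mk_mul] at h ⊢
          rw [h])
        refine ⟨U * C * U⁻¹, by rw [trace_mul_mul_inv, h1], ?_, ?_, ?_⟩
        · intro h
          have hh := Subgroup.Normal.conj_mem inferInstance _ h U⁻¹
          rw [show U⁻¹ * (U * C * U⁻¹) * U⁻¹⁻¹ = C by group] at hh
          have := trace_sq_of_mem_center hh
          rw [h1] at this
          exact hfour this
        · rw [hU, show U * comp 0 * U⁻¹ * (U * C * U⁻¹) = U * (comp 0 * C) * U⁻¹ by group,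
            trace_mul_mul_inv]
          exact h3
        · rw [show B * (U * C * U⁻¹) = U * (U⁻¹ * B * U * C) * U⁻¹ by group, trace_mul_mul_inv]
          exact h4
    have hz : IsConj t (toPSL C) := x.2.trans (isConj_invol (hinv x) (orderOf_toPSL_eq_two hC hC'))
    have hne : ∀ {D : SpecialLinearGroup (Fin 2) F},
        Good (Matrix.trace ((D * C : SpecialLinearGroup (Fin 2) F) : Matrix (Fin 2) (Fin 2) F)) →
        Odd (orderOf (toPSL D * toPSL C)) := fun {D} h => by
      rw [toPSL, toPSL, ← QuotientGroup.mk_mul]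
      exact odd_orderOf h
    refine ⟨⟨toPSL C, hz⟩, ?_, ?_⟩
    · by_cases hxz : x = ⟨toPSL C, hz⟩
      · exfalso
        refine hna (SimpleGraph.fromRel_adj _ _ _ |>.2 ⟨hxy, Or.inr ?_⟩)
        rw [← hBy, hxz]
        exact hne hBC
      · exact (SimpleGraph.fromRel_adj _ _ _).2 ⟨hxz, Or.inl (hAx ▸ hne hAC)⟩
    · by_cases hzy : (⟨toPSL C, hz⟩ : {x // IsConj t x}) = y
      · exfalso
        refine hna (SimpleGraph.fromRel_adj _ _ _ |>.2 ⟨hxy, Or.inl ?_⟩)
        rw [← hAx, ← hzy]
        exact hne hAC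
      · exact (SimpleGraph.fromRel_adj _ _ _).2 ⟨hzy, Or.inr (hBy ▸ hne hBC)⟩
  · obtain ⟨A, B, hA, hB, hAB, hA', hB', hne⟩ := exists_orthogonal hF
    have hA2 := orderOf_toPSL_eq_two hA hA'
    have hB2 := orderOf_toPSL_eq_two hB hB'
    refine ⟨⟨toPSL A, isConj_invol ht hA2⟩, ⟨toPSL B, isConj_invol ht hB2⟩,
      fun h => hne (congrArg Subtype.val h), fun h => ?_⟩
    have hev : orderOf (toPSL A * toPSL B) = 2 := by
      rw [toPSL, toPSL, ← QuotientGroup.mk_mul]
      refine orderOf_toPSL_eq_two hAB fun hc => hne ?_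
      have h1 : toPSL A * toPSL B = 1 := by
        rw [toPSL, toPSL, ← QuotientGroup.mk_mul]; exact (QuotientGroup.eq_one_iff _).2 hc
      rw [← inv_eq_of_mul_eq_one_right h1, CfsgLib.Invol.inv_eq_self hA2]
    have hev' : orderOf (toPSL B * toPSL A) = 2 := by
      rw [← CfsgLib.Invol.orderOf_conj (toPSL A) (toPSL B * toPSL A), mul_assoc, mul_assoc,
        mul_inv_cancel, mul_one, hev]
    rcases ((SimpleGraph.fromRel_adj _ _ _).1 h).2 with h | h
    · exact absurd h (by rw [hev]; decide)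
    · exact absurd h (by rw [hev']; decide)

end Cfsg.Agent.S3266
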