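import Cfsg.Statements.S3269
import Cfsg.Agent.Lib.Invol.CentralFixed
import Cfsg.Agent.Lib.Invol.QuaternionSylow

set_option autoImplicit false
open Cfsg

namespace Cfsg.Agent.S3269

open scoped IsMulCommutative

theorem exists_commutator_power (n : ℕ) (hn : 1 ≤ n) :
    ∃ x y : QuaternionGroup (2 ^ n), ∃ k : ℕ, (x * y * x⁻¹ * y⁻¹) ^ k ≠ 1 ∧
      (x * y * x⁻¹ * y⁻¹) ^ k * (x * y * x⁻¹ * y⁻¹) ^ k = 1 := by
  refine ⟨QuaternionGroup.a 1, QuaternionGroup.xa 0, 2 ^ (n - 1), ?_⟩
  have hc : QuaternionGroup.a 1 * QuaternionGroup.xa 0 * (QuaternionGroup.a 1)⁻¹ *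
      (QuaternionGroup.xa 0)⁻¹ = (QuaternionGroup.a 1 : QuaternionGroup (2 ^ n)) ^ 2 := by
    rw [mul_inv_eq_iff_eq_mul, mul_inv_eq_iff_eq_mul, sq]
    simp [QuaternionGroup.a_mul_a, QuaternionGroup.a_mul_xa, QuaternionGroup.xa_mul_a]
  rw [hc, ← pow_mul, ← pow_add]
  have h2 : 2 * 2 ^ (n - 1) = 2 ^ n := by rw [← pow_succ', Nat.sub_add_cancel hn]
  rw [h2]
  constructor
  · intro h
    have := orderOf_dvd_of_pow_eq_one h
    rw [QuaternionGroup.orderOf_a_one] at this
    have := Nat.le_of_dvd (by positivity) this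
    have : 0 < 2 ^ n := by positivity
    omega
  · rw [← two_mul]
    exact QuaternionGroup.a_one_pow_n

/-- Let G be a finite group whose Sylow 2-subgroup S is an internal direct product Q × R with Q generalized quaternion (of order at least 8) and R a subgroup all of whose involutions are central in R. Then G is not simple. In particular no finite simple group has a Sylow 2-subgroup that is a direct product of one or more generalized quaternion groups. -/
theorem result {G : Type*} [Group G] [Finite G]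
    (S : Sylow 2 G) (Q R : Subgroup G) (hQR : Cfsg.IsInternalDirectProduct Q R (S : Subgroup G))
    (n : ℕ) (hn : 1 ≤ n) (eQ : ↥Q ≃* QuaternionGroup (2 ^ n))
    (hR : ∀ r ∈ R, orderOf r = 2 → ∀ s ∈ R, r * s = s * r) :
    ¬ IsSimpleGroup G := by
  classical
  intro hsimple
  have : Fact (Nat.Prime 2) := ⟨Nat.prime_two⟩
  obtain ⟨hQS, hRS, hcomm, hinf, hsup⟩ := hQR
  let φ : Q × R →* S :=
    MonoidHom.noncommCoprod (Subgroup.inclusion hQS) (Subgroup.inclusion hRS)
      fun a b => Subtype.ext (hcomm a a.2 b b.2)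
  have hφ : Function.Bijective φ := by
    constructor
    · refine (injective_iff_map_eq_one φ).2 fun x hx => ?_
      have h : (x.1 : G) * x.2 = 1 := congrArg Subtype.val hx
      have h1 : (x.1 : G) ∈ Q ⊓ R := Subgroup.mem_inf.2 ⟨x.1.2, by rw [eq_inv_of_mul_eq_one_left h]; exact inv_mem x.2.2⟩
      rw [hinf, Subgroup.mem_bot] at h1
      rw [h1, one_mul] at h
      exact Prod.ext (Subtype.ext h1) (Subtype.ext h)
    · intro s
      have hs : (s : G) ∈ (φ.range.map (S : Subgroup G).subtype) := by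
        refine (show Q ⊔ R ≤ _ from sup_le (fun a ha => ?_) fun b hb => ?_) (hsup.symm ▸ s.2)
        · exact ⟨⟨a, hQS ha⟩, ⟨(⟨a, ha⟩, 1), Subtype.ext (mul_one a)⟩, rfl⟩
        · exact ⟨⟨b, hRS hb⟩, ⟨(1, ⟨b, hb⟩), Subtype.ext (one_mul b)⟩, rfl⟩
      obtain ⟨_, ⟨x, rfl⟩, h⟩ := hs
      exact ⟨x, Subtype.ext h⟩
  let e : Q × R ≃* S := MulEquiv.ofBijective φ hφ
  have he : ∀ x, ((e x : S) : G) = x.1 * x.2 := fun x => rfl
  obtain ⟨x₀, y₀, k, hz1, hz2⟩ := exists_commutator_power n hn
  set q₀ : Q := eQ.symm x₀ with hq₀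
  set q₁ : Q := eQ.symm y₀ with hq₁
  set z : Q := eQ.symm ((x₀ * y₀ * x₀⁻¹ * y₀⁻¹) ^ k) with hzdef
  have hzc : z = (q₀ * q₁ * q₀⁻¹ * q₁⁻¹) ^ k := by
    simp only [hzdef, hq₀, hq₁, map_pow, map_mul, map_inv]
  have hzne : z ≠ 1 := fun h => hz1 (by
    simpa using congrArg eQ (hzdef ▸ h : eQ.symm ((x₀ * y₀ * x₀⁻¹ * y₀⁻¹) ^ k) = 1))
  have hz2' : z * z = 1 := by rw [hzdef, ← map_mul, hz2, map_one]
  have huniq : ∀ x : Q, x * x = 1 → x ≠ 1 → x = z := by
    intro x hx hx1
    refine eQ.injective ((CfsgLib.Invol.QuatSylow.eq_of_mul_self _ (by rw [← map_mul, hx, map_one])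
      fun h => hx1 (eQ.injective (h.trans (map_one eQ).symm))).trans ?_)
    rw [hzdef, MulEquiv.apply_symm_apply]
    exact (CfsgLib.Invol.QuatSylow.eq_of_mul_self _ hz2 hz1).symm
  have hzQ : ∀ q : Q, z * q = q * z := fun q => by
    have h : q * z * q⁻¹ = z := huniq _ (by rw [← sq, conj_pow, sq, hz2', mul_one, mul_inv_cancel])
      fun h => hzne (conj_eq_one_iff.1 h)
    calc z * q = q * z * q⁻¹ * q := by rw [h]
      _ = q * z := inv_mul_cancel_right _ _
  set Z : Subgroup G := (S : Subgroup G) ⊓ Subgroup.centralizer ((S : Subgroup G) : Set G) with hZ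
  have hinvC : ∀ s ∈ (S : Subgroup G), s * s = 1 → s ∈ Z := by
    intro s hs hs2
    refine Subgroup.mem_inf.2 ⟨hs, Subgroup.mem_centralizer_iff.2 fun t ht => ?_⟩
    obtain ⟨⟨a, b⟩, hab⟩ := e.surjective ⟨s, hs⟩
    obtain ⟨⟨c, d⟩, hcd⟩ := e.surjective ⟨t, ht⟩
    have h2 : (a * a, b * b) = ((1 : Q), (1 : R)) := e.injective (by
      rw [show ((a * a, b * b) : Q × R) = (a, b) * (a, b) from rfl, map_mul, hab,
        show ((1 : Q), (1 : R)) = 1 from rfl, map_one]
      exact Subtype.ext hs2)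
    have ha : a * c = c * a := by
      by_cases h : a = 1
      · rw [h, one_mul, mul_one]
      · rw [huniq a (Prod.ext_iff.1 h2).1 h, hzQ]
    have hb : b * d = d * b := by
      by_cases h : b = 1
      · rw [h, one_mul, mul_one]
      · exact Subtype.ext (hR b b.2 (orderOf_eq_prime (p := 2) (by
          rw [sq]; exact congrArg Subtype.val (Prod.ext_iff.1 h2).2) fun h' => h (Subtype.ext h'))
          d d.2)
    have h3 : (⟨t, ht⟩ : S) * ⟨s, hs⟩ = ⟨s, hs⟩ * ⟨t, ht⟩ := by
      rw [← hab, ← hcd, ← map_mul, ← map_mul, Prod.mk_mul_mk, Prod.mk_mul_mk, ha, hb]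
    exact congrArg Subtype.val h3
  have : IsMulCommutative Z := ⟨⟨fun a b =>
    Subtype.ext (Subgroup.mem_centralizer_iff.1 b.2.2 a a.2.1)⟩⟩
  have hzS : (z : G) ∈ (S : Subgroup G) := hQS z.2
  have hzG : (z : G) * z = 1 := congrArg Subtype.val hz2'
  let a₀ : Z := ⟨z, hinvC _ hzS hzG⟩
  obtain ⟨O, hO, hOfix, -⟩ := CfsgLib.Invol.CentralFixed.exists_orbit
    (Subgroup.normalizer ((S : Subgroup G) : Set G)) Z (fun m hm x hx => by
      refine Subgroup.mem_inf.2 ⟨(Subgroup.mem_normalizer_iff.1 hm x).1 hx.1,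
        Subgroup.mem_centralizer_iff.2 fun t ht => ?_⟩
      have ht' : m⁻¹ * t * m ∈ (S : Subgroup G) := by
        have := (Subgroup.mem_normalizer_iff.1 (inv_mem hm) t).1 ht
        rwa [inv_inv] at this
      have h := Subgroup.mem_centralizer_iff.1 hx.2 _ ht'
      calc t * (m * x * m⁻¹) = m * (m⁻¹ * t * m * x) * m⁻¹ := by group
        _ = _ := by rw [h]; group) a₀
  let π : Z →* Q :=
    ((MonoidHom.fst Q R).comp e.symm.toMonoidHom).comp (Subgroup.inclusion inf_le_left)
  have hπ : ∀ o ∈ O, π o ≠ 1 → (o : G) = z := by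
    intro o ho hne
    obtain ⟨m, hm, hom⟩ := (hO o).1 ho
    change (o : G) = m * (z : G) * m⁻¹ at hom
    have hmS : ∀ q : Q, m * (q : G) * m⁻¹ ∈ (S : Subgroup G) := fun q =>
      (Subgroup.mem_normalizer_iff.1 hm _).1 (hQS q.2)
    let c : Q →* S :=
      { toFun := fun q => ⟨m * q * m⁻¹, hmS q⟩
        map_one' := Subtype.ext (by simp)
        map_mul' := fun a b => Subtype.ext (by simp only [Subgroup.coe_mul]; group) }
    let p : Q →* Q := (MonoidHom.fst Q R).comp (e.symm.toMonoidHom.comp c)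
    let ρ : Q →* R := (MonoidHom.snd Q R).comp (e.symm.toMonoidHom.comp c)
    have hpz : p z ≠ 1 := by
      have : Subgroup.inclusion (inf_le_left : Z ≤ (S : Subgroup G)) o = c z := Subtype.ext hom
      intro h
      exact hne (by show (e.symm (Subgroup.inclusion _ o)).1 = 1; rw [this]; exact h)
    have hpinj : Function.Injective p := by
      refine (injective_iff_map_eq_one p).2 fun q hq => by_contra fun hq1 => ?_
      obtain ⟨i, hi⟩ := IsPGroup.iff_orderOf.1 (S.2.to_le hQS) q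
      rcases Nat.eq_zero_or_pos i with h | h
      · rw [h, pow_zero, orderOf_eq_one_iff] at hi; exact hq1 hi
      · have hz' : q ^ 2 ^ (i - 1) = z := by
          refine huniq _ ?_ ?_
          · rw [← pow_add, ← two_mul, ← pow_succ', Nat.sub_add_cancel h, ← hi, pow_orderOf_eq_one]
          · exact pow_ne_one_of_lt_orderOf (by positivity)
              (hi ▸ Nat.pow_lt_pow_right one_lt_two (by omega))
        exact hpz (by rw [← hz', map_pow, hq, one_pow])
    have hρc : ∀ q : Q, ∀ r : R, ρ q * r = r * ρ q := by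
      intro q r
      -- the commutator lies in `R` and in the conjugate of `Q`
      set t : S := Subgroup.inclusion hRS r with ht
      have ht' : m⁻¹ * (t : G) * m ∈ (S : Subgroup G) := by
        have := (Subgroup.mem_normalizer_iff.1 (inv_mem hm) (t : G)).1 t.2
        rwa [inv_inv] at this
      obtain ⟨⟨a, b⟩, hab⟩ := e.surjective ⟨_, ht'⟩
      have hab' : (a : G) * b = m⁻¹ * (t : G) * m := congrArg Subtype.val hab
      have hcm : c (a * q * a⁻¹ * q⁻¹) = t * c q * t⁻¹ * (c q)⁻¹ := Subtype.ext (by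
        show m * ((a : G) * q * (a : G)⁻¹ * (q : G)⁻¹) * m⁻¹ =
          (t : G) * (m * q * m⁻¹) * (t : G)⁻¹ * (m * q * m⁻¹)⁻¹
        have hbq : (b : G) * q * (b : G)⁻¹ = q := by rw [← hcomm q q.2 b b.2]; group
        have h : (t : G) = m * ((a : G) * b) * m⁻¹ := by rw [hab']; group
        rw [h]
        calc m * ((a : G) * q * (a : G)⁻¹ * (q : G)⁻¹) * m⁻¹
            = m * ((a : G) * ((b : G) * q * (b : G)⁻¹) * (a : G)⁻¹ * (q : G)⁻¹) * m⁻¹ := by
              rw [hbq]
          _ = _ := by group)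
      have het : e.symm t = (1, r) := by
        rw [MulEquiv.symm_apply_eq]; exact Subtype.ext (one_mul _).symm
      have hf : e.symm (c (a * q * a⁻¹ * q⁻¹)) = (1, r * ρ q * r⁻¹ * (ρ q)⁻¹) := by
        rw [hcm, map_mul, map_mul, map_mul, map_inv, map_inv, het]
        refine Prod.ext ?_ rfl
        show 1 * p q * (1 : Q)⁻¹ * (p q)⁻¹ = 1
        simp
      have h1 : a * q * a⁻¹ * q⁻¹ = 1 := hpinj (by
        rw [map_one]; exact congrArg Prod.fst hf)
      rw [h1, map_one, map_one] at hf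
      have h2 : r * ρ q * r⁻¹ * (ρ q)⁻¹ = 1 := (congrArg Prod.snd hf).symm
      rw [mul_inv_eq_one, mul_inv_eq_iff_eq_mul] at h2
      exact h2.symm
    have hρz : ρ z = 1 := by
      rw [hzc, map_pow, map_mul, map_mul, map_mul, map_inv, map_inv, hρc q₀ (ρ q₁)]
      simp
    have hpz' : p z = z := huniq _ (by rw [← map_mul, hz2', map_one]) hpz
    have hcz : c z = e (z, 1) := by
      rw [← e.symm_apply_eq]
      exact Prod.ext hpz' hρz
    rw [hom]
    exact (congrArg Subtype.val hcz).trans (mul_one _)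
  have hπz : π a₀ = z := by
    have : e.symm ⟨z, hzS⟩ = (z, 1) := by
      rw [MulEquiv.symm_apply_eq]; exact Subtype.ext (mul_one _).symm
    exact congrArg Prod.fst this
  have ha₀ : a₀ ∈ O := (hO a₀).2 ⟨1, one_mem _, by simp [a₀]⟩
  set u : Z := ∏ o ∈ O, o with hu
  have hπu : π u = z := by
    rw [← hπz, hu, ← Finset.mul_prod_erase O _ ha₀, map_mul,
      Finset.prod_induction _ (fun x : Z => π x = 1) (fun a b ha hb => by rw [map_mul, ha, hb, one_mul])
        (map_one π) (fun o ho => by_contra fun h =>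
          (Finset.mem_erase.1 ho).1 (Subtype.ext (hπ o (Finset.mem_erase.1 ho).2 h))), mul_one]
  have huu : u * u = 1 := by
    rw [hu, ← Finset.prod_mul_distrib]
    refine Finset.prod_eq_one fun o ho => Subtype.ext ?_
    obtain ⟨m, -, hom⟩ := (hO o).1 ho
    show (o : G) * o = 1
    rw [hom, ← sq, conj_pow, sq]
    show m * ((z : G) * z) * m⁻¹ = 1
    rw [hzG, mul_one, mul_inv_cancel]
  have hu2 : orderOf (u : G) = 2 := orderOf_eq_prime (by
      rw [sq]; exact congrArg Subtype.val huu) fun h =>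
    hzne (by rw [← hπu, show u = 1 from Subtype.ext h, map_one])
  obtain ⟨N, hN, hodd, hcN⟩ := CfsgLib.Invol.zStar_sylow S (u : G) hu2 fun g hg =>
    CfsgLib.Invol.CentralFixed.conj_eq_of_fixed S u.2.2 hOfix
      (Subgroup.mem_inf.1 (hinvC _ hg (by
        rw [← sq, conj_pow, sq, show (u : G) * u = 1 from congrArg Subtype.val huu, mul_one,
          mul_inv_cancel]))).2
  rcases hN.eq_bot_or_eq_top with h | h
  · have hc : (u : G) ∈ Subgroup.center G := Subgroup.mem_center_iff.2 fun g => by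
      have h' := hcN g
      rw [h, Subgroup.mem_bot, mul_inv_eq_one, mul_inv_eq_iff_eq_mul] at h'
      exact h'.symm
    rcases Subgroup.Normal.eq_bot_or_eq_top (Subgroup.instNormalCenter (G := G)) with h' | h'
    · rw [h', Subgroup.mem_bot] at hc
      rw [hc, orderOf_one] at hu2
      norm_num at hu2
    · refine hzne ?_
      rw [hzc]
      have : q₀ * q₁ = q₁ * q₀ := Subtype.ext
        (Subgroup.mem_center_iff.1 (show (q₁ : G) ∈ Subgroup.center G from h'.symm ▸ Subgroup.mem_top _) (q₀ : G))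
      rw [this]
      simp
  · rw [h, Subgroup.card_top] at hodd
    exact Nat.not_even_iff_odd.2 hodd (even_iff_two_dvd.2 (hu2 ▸ orderOf_dvd_natCard (u : G)))

end Cfsg.Agent.S3269
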