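import Cfsg.Statements.S3276
import Cfsg.Agent.Lib.InvChar.NormalClosureElem

set_option autoImplicit false
open Cfsg

namespace Cfsg.Agent.S3276

/-- A nonconjugate involution class with the star condition generates an elementary abelian normal subgroup. -/
theorem result {G : Type*} [Group G] [Finite G] (x y : G) (hx : orderOf x = 2) (hy : orderOf y = 2)
    (hxy : Commute x y) (hnc : ¬ IsConj x y)
    (hstar : ∀ u : G, orderOf u = 2 → Commute u x → ∀ g : G, Commute (g * y * g⁻¹) u → Commute (g * y * g⁻¹) y) :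
    Subgroup.normalClosure ({y} : Set G) ≠ ⊤ ∧ Cfsg.IsElementaryAbelian 2 (Subgroup.normalClosure ({y} : Set G)) ∧
      ((∀ u ∈ Subgroup.normalClosure ({y} : Set G), orderOf u = 2 → Commute u x → u = y) →
        Nat.card ↥(Subgroup.normalClosure ({y} : Set G)) ≤ 4) := by
  have hel := CfsgLib.InvChar.elementary_normalClosure hx hy hnc hstar
  refine ⟨fun htop => ?_, hel, fun h => CfsgLib.InvChar.card_le_four_of_fixed hel hx h⟩
  have hc := Subgroup.le_centralizer_iff_isMulCommutative.2 hel.1
  rw [htop] at hc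
  have hle : Subgroup.normalClosure ({y} : Set G) ≤ Subgroup.zpowers y := by
    have : (Subgroup.zpowers y).Normal := ⟨fun a ha g => by
      have hga := Subgroup.mem_centralizer_iff.1 (hc (Subgroup.mem_top a)) g (Subgroup.mem_top g)
      rw [hga, mul_inv_cancel_right]
      exact ha⟩
    exact Subgroup.normalClosure_le_normal (Set.singleton_subset_iff.2 (Subgroup.mem_zpowers y))
  rw [htop] at hle
  obtain ⟨k, hk⟩ := Subgroup.mem_zpowers_iff.1 (hle (Subgroup.mem_top x))
  have hy1 : y ^ (2 : ℤ) = 1 := by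
    rw [show (2 : ℤ) = ((2 : ℕ) : ℤ) from rfl, zpow_natCast, ← hy, pow_orderOf_eq_one]
  rcases Int.even_or_odd' k with ⟨m, rfl | rfl⟩
  · rw [zpow_mul, hy1, one_zpow] at hk
    exact CfsgLib.Invol.ne_one_of_invol hx hk.symm
  · rw [zpow_add, zpow_mul, hy1, one_zpow, one_mul, zpow_one] at hk
    exact hnc (hk ▸ IsConj.refl y)

end Cfsg.Agent.S3276
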