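import Cfsg.Statements.S3279
import Cfsg.Agent.Lib.Invol.SmallInvolCentralizer
import Cfsg.Agent.Lib.Invol.CentralFixed
import Cfsg.Agent.Lib.Transfer.Focal

set_option autoImplicit false
open Cfsg

namespace Cfsg.Agent.S3279

open CfsgLib.Invol
open scoped Pointwise

/-- At most three involutions in a centralizer: any four of them are not distinct. -/
theorem eq_or_eq_or_eq {G : Type*} [Group G] [Finite G] {x : G}
    (h3 : Nat.card {u : ↥(Subgroup.centralizer ({x} : Set G)) // orderOf u = 2} ≤ 3)
    {a b c d : G} (ha : orderOf a = 2) (hb : orderOf b = 2) (hc : orderOf c = 2) (hd : orderOf d = 2)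
    (hax : Commute a x) (hbx : Commute b x) (hcx : Commute c x) (hdx : Commute d x)
    (hab : a ≠ b) (hac : a ≠ c) (hbc : b ≠ c) : d = a ∨ d = b ∨ d = c := by
  by_contra hne
  push Not at hne
  let f : Fin 4 → {u : ↥(Subgroup.centralizer ({x} : Set G)) // orderOf u = 2} :=
    ![⟨⟨a, Subgroup.mem_centralizer_singleton_iff.2 hax.eq⟩, by rwa [← Subgroup.orderOf_coe]⟩,
      ⟨⟨b, Subgroup.mem_centralizer_singleton_iff.2 hbx.eq⟩, by rwa [← Subgroup.orderOf_coe]⟩,
      ⟨⟨c, Subgroup.mem_centralizer_singleton_iff.2 hcx.eq⟩, by rwa [← Subgroup.orderOf_coe]⟩,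
      ⟨⟨d, Subgroup.mem_centralizer_singleton_iff.2 hdx.eq⟩, by rwa [← Subgroup.orderOf_coe]⟩]
  have hf : Function.Injective f := by
    intro i j h
    fin_cases i <;> fin_cases j <;>
      simp [f, hab, hac, hbc, hne.1, hne.2.1, hne.2.2, Ne.symm hab, Ne.symm hac, Ne.symm hbc,
        Ne.symm hne.1, Ne.symm hne.2.1, Ne.symm hne.2.2] at h ⊢
  have := Nat.card_le_card_of_injective f hf
  rw [Nat.card_fin] at this
  omega

theorem pResidual_eq_top {G : Type*} [Group G] [Finite G] [IsSimpleGroup G]
    (hne : Subgroup.center G ≠ ⊤) : Cfsg.pResidual 2 G = ⊤ := by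
  have : Fact (Nat.Prime 2) := ⟨Nat.prime_two⟩
  rcases Subgroup.Normal.eq_bot_or_eq_top
    (inferInstance : (Cfsg.pResidual 2 G).Normal) with h | h
  · exfalso
    have hG : IsPGroup 2 G := (CfsgLib.Transfer.isPGroup_quotient_pResidual (p := 2) (G := G)).of_equiv
      ((QuotientGroup.quotientMulEquivOfEq h).trans QuotientGroup.quotientBot)
    rcases Subgroup.Normal.eq_bot_or_eq_top (Subgroup.instNormalCenter (G := G)) with h' | h'
    · have := hG.center_nontrivial
      exact (Subgroup.nontrivial_iff_ne_bot _).1 this h'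
    · exact hne h'
  · exact h

theorem center_ne_top {G : Type*} [Group G] [Finite G] [IsSimpleGroup G] {u v : G}
    (hu : orderOf u = 2) (hv : orderOf v = 2) (huv : u ≠ v) : Subgroup.center G ≠ ⊤ := by
  intro h
  have hn : (Subgroup.zpowers u).Normal := ⟨fun n hn g => by
    have hnc : n ∈ Subgroup.center G := h ▸ Subgroup.mem_top n
    rwa [Subgroup.mem_center_iff.1 hnc g, mul_inv_cancel_right]⟩
  rcases hn.eq_bot_or_eq_top with h' | h'
  · rw [Subgroup.zpowers_eq_bot] at h'
    exact ne_one_of_invol hu h'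
  · have hm : v ∈ Subgroup.zpowers u := h' ▸ Subgroup.mem_top v
    classical
    obtain ⟨i, hi, hiv⟩ :=
      Finset.mem_image.1 ((mem_zpowers_iff_mem_range_orderOf (x := u)).1 hm)
    rw [Finset.mem_range, hu] at hi
    interval_cases i
    · rw [pow_zero] at hiv; exact ne_one_of_invol hv hiv.symm
    · rw [pow_one] at hiv; exact huv hiv

/-- In a simple group an involution is not isolated, unless it is alone. -/
theorem exists_conj_ne {G : Type*} [Group G] [Finite G] [IsSimpleGroup G] (S : Sylow 2 G) {z : G}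
    (hz : orderOf z = 2) (hne : Subgroup.center G ≠ ⊤) :
    ∃ g : G, g * z * g⁻¹ ∈ (S : Subgroup G) ∧ g * z * g⁻¹ ≠ z := by
  by_contra h
  push Not at h
  have hiso := isIsolatedInvolution_of_sylow S hz fun g hg => h g hg
  rcases Subgroup.Normal.eq_bot_or_eq_top (CfsgLib.Solvable.pPrimeCore_normal 2 G) with h' | h'
  · have hc : z ∈ Subgroup.center G := Subgroup.mem_center_iff.2 fun g => by
      have h1 := zStar hiso g
      rw [h', Subgroup.mem_bot, mul_inv_eq_one, mul_inv_eq_iff_eq_mul] at h1
      exact h1.symm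
    rcases Subgroup.Normal.eq_bot_or_eq_top (Subgroup.instNormalCenter (G := G)) with h1 | h1
    · rw [h1, Subgroup.mem_bot] at hc
      exact ne_one_of_invol hz hc
    · exact hne h1
  · have h2 := CfsgLib.Solvable.pPrimeCore_card_coprime 2 G
    rw [h', Subgroup.card_top] at h2
    exact Nat.not_even_iff_odd.2 (Nat.coprime_two_right.1 h2)
      (even_iff_two_dvd.2 (hz ▸ orderOf_dvd_natCard z))

/-- A Sylow subgroup centralizes `x`. -/
theorem exists_sylow {G : Type*} [Group G] [Finite G] [IsSimpleGroup G] (x : G) (hx : orderOf x = 2)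
    (h3 : Nat.card {u : ↥(Subgroup.centralizer ({x} : Set G)) // orderOf u = 2} ≤ 3) :
    ∃ S : Sylow 2 G, (S : Subgroup G) ≤ Subgroup.centralizer ({x} : Set G) := by
  classical
  by_contra hno
  push Not at hno
  have : Fact (Nat.Prime 2) := ⟨Nat.prime_two⟩
  have hconjC : ∀ g : G, ∀ T : Sylow 2 G,
      ¬ (T : Subgroup G) ≤ Subgroup.centralizer ({g * x * g⁻¹} : Set G) := by
    intro g T hT
    obtain ⟨Q, hQ⟩ : ∃ Q : Sylow 2 G, ∀ t : G, t ∈ (Q : Subgroup G) ↔ g * t * g⁻¹ ∈ (T : Subgroup G) :=
      ⟨g⁻¹ • T, fun t => by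
        show t ∈ MulAut.conj g⁻¹ • (T : Subgroup G) ↔ _
        rw [Subgroup.mem_pointwise_smul_iff_inv_smul_mem, map_inv, inv_inv]
        rfl⟩
    refine hno Q fun t ht => Subgroup.mem_centralizer_singleton_iff.2 ?_
    have h := Subgroup.mem_centralizer_singleton_iff.1 (hT ((hQ t).1 ht))
    calc t * x = g⁻¹ * (g * t * g⁻¹ * (g * x * g⁻¹)) * g := by group
      _ = x * t := by rw [h]; group
  obtain ⟨S, hS⟩ := (IsPGroup.of_card (G := Subgroup.zpowers x) (p := 2) (n := 1)
    (by rw [Nat.card_zpowers, hx, pow_one])).exists_le_sylow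
  have hxS : x ∈ (S : Subgroup G) := hS (Subgroup.mem_zpowers x)
  -- a central involution of `S`
  have hS1 : (⊤ : Subgroup ↥(S : Subgroup G)) ≠ ⊥ := by
    intro h
    have h' : (⟨x, hxS⟩ : ↥(S : Subgroup G)) ∈ (⊥ : Subgroup ↥(S : Subgroup G)) :=
      h ▸ Subgroup.mem_top _
    rw [Subgroup.mem_bot] at h'
    exact ne_one_of_invol hx (congrArg Subtype.val h')
  obtain ⟨c, -, hcc, hc1⟩ := exists_mem_center_ne_one S.2 _ hS1
  obtain ⟨n, hn⟩ := IsPGroup.iff_orderOf.1 S.2 c
  have hn0 : n ≠ 0 := fun h => hc1 (orderOf_eq_one_iff.1 (by rw [hn, h, pow_zero]))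
  set z : (S : Subgroup G) := c ^ 2 ^ (n - 1) with hzdef
  have hz : orderOf z = 2 := by
    rw [hzdef, orderOf_pow' c (by positivity), hn, Nat.gcd_eq_right (pow_dvd_pow 2 (Nat.sub_le n 1)),
      Nat.pow_div (Nat.sub_le n 1) two_pos, show n - (n - 1) = 1 by omega, pow_one]
  have hzc : z ∈ Subgroup.center (S : Subgroup G) := pow_mem hcc _
  set xS : (S : Subgroup G) := ⟨x, hxS⟩ with hxSdef
  have hxS2 : orderOf xS = 2 := by rwa [Subgroup.orderOf_mk]
  have hzS : ∀ s ∈ (S : Subgroup G), s * (z : G) = (z : G) * s := fun s hs =>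
    congrArg Subtype.val (Subgroup.mem_center_iff.1 hzc ⟨s, hs⟩)
  have hzle : (S : Subgroup G) ≤ Subgroup.centralizer ({(z : G)} : Set G) := fun s hs =>
    Subgroup.mem_centralizer_singleton_iff.2 (hzS s hs)
  have hzconj : ∀ g : G, g * x * g⁻¹ ≠ (z : G) := fun g h => hconjC g S (h ▸ hzle)
  have hxc : xS ∉ Subgroup.center (S : Subgroup G) := fun h => hno S fun s hs =>
    Subgroup.mem_centralizer_singleton_iff.2 (congrArg Subtype.val (Subgroup.mem_center_iff.1 h ⟨s, hs⟩))
  have hz2 : orderOf (z : G) = 2 := by rwa [Subgroup.orderOf_coe]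
  have hzx : (z : G) ≠ x := fun h => hxc (by
    rw [show xS = z from Subtype.ext h.symm]; exact hzc)
  have hne : Subgroup.center G ≠ ⊤ := center_ne_top hz2 hx hzx
  have hres := pResidual_eq_top hne
  -- three involutions in the centralizer of any conjugate of `x`
  have hthree : ∀ g : G, ∀ v : G, v = g * x * g⁻¹ → v ∈ (S : Subgroup G) →
      ∀ s : (S : Subgroup G), orderOf s = 2 → Commute (s : G) v →
        (s : G) = v ∨ (s : G) = z ∨ (s : G) = v * z := by
    intro g v hv hvS s hs hsv
    set φ := MulAut.conj g⁻¹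
    have hφ : φ v = x := by simp [φ, hv, mul_assoc]
    have hcv : Commute (z : G) v := (hzS v hvS).symm
    have hv2 : orderOf v = 2 := by rw [hv, orderOf_conj, hx]
    have hvz : v ≠ z := fun h => hzconj g (hv.symm.trans h)
    have hmul : orderOf (v * (z : G)) = 2 := orderOf_eq_two (fun h => hvz (by
      rw [eq_inv_of_mul_eq_one_left h, inv_eq_of_mul_eq_one_right (mul_self_eq_one hz2)]))
      (by rw [hcv.mul_mul_mul_comm, mul_self_eq_one hv2, mul_self_eq_one hz2, one_mul])
    have ho : ∀ a : G, orderOf (φ a) = orderOf a := fun a => by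
      show orderOf (g⁻¹ * a * g⁻¹⁻¹) = _
      rw [orderOf_conj]
    have hcm : ∀ a : G, Commute a v → Commute (φ a) x := fun a ha => hφ ▸ ha.map φ.toMonoidHom
    rcases eq_or_eq_or_eq h3 (a := φ v) (b := φ z) (c := φ (v * z)) (d := φ s)
      (by rw [ho, hv2]) (by rw [ho, hz2]) (by rw [ho, hmul])
      (by rw [ho, Subgroup.orderOf_coe, hs])
      (hcm _ (Commute.refl v)) (hcm _ hcv)
      (hcm _ ((Commute.refl v).mul_left hcv)) (hcm _ hsv)
      (fun h => hvz (φ.injective h))
      (fun h => ne_one_of_invol hz2 (left_eq_mul.1 (φ.injective h)))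
      (fun h => ne_one_of_invol hv2 (by simpa using (φ.injective h).symm)) with h | h | h
    · exact Or.inl (φ.injective h)
    · exact Or.inr (Or.inl (φ.injective h))
    · exact Or.inr (Or.inr (φ.injective h))
  have htransfer : ∀ M : Subgroup (S : Subgroup G), M.index = 2 → ∀ g : G,
      ∃ g' : G, ∃ m ∈ M, (m : G) = g' * x * g'⁻¹ ∧ orderOf m = 2 := by
    intro M hM g
    obtain ⟨g', hg', hmem⟩ := CfsgLib.Transfer.exists_conj_mem_of_pResidual_eq_top S hres M hM x
      (by rw [← hx, pow_orderOf_eq_one])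
    exact ⟨g', _, hmem, rfl, by rw [← Subgroup.orderOf_coe, orderOf_conj, hx]⟩
  rcases SmallCent.pair_or_maximal S.2 hzc hz hxS2 hxc (fun v hv hcv => by
      rcases hthree 1 x (by group) hxS v hv (hcv.map (S : Subgroup G).subtype) with h | h | h
      · exact Or.inl (Subtype.ext h)
      · exact Or.inr (Or.inl (Subtype.ext h))
      · exact Or.inr (Or.inr (Subtype.ext h))) with ⟨w, hw, hwz, hwconj⟩ | ⟨M, hM, -, hMone⟩
  swap
  · obtain ⟨g', m, hm, hmx, hm2⟩ := htransfer M hM 1
    exact hzconj g' (hmx.symm.trans (congrArg Subtype.val (hMone m hm hm2)))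
  -- a normal four-group `⟨z, w⟩`
  set M := Subgroup.centralizer ({w} : Set (S : Subgroup G)) with hMdef
  have hzgS : ∀ s : (S : Subgroup G), s * z = z * s := Subgroup.mem_center_iff.1 hzc
  have hzz : z * z = 1 := mul_self_eq_one hz
  have hww : w * w = 1 := mul_self_eq_one hw
  have hwc : w ∉ Subgroup.center (S : Subgroup G) := by
    intro hc
    rcases hthree 1 x (by group) hxS w hw
      ((show Commute xS w from Subgroup.mem_center_iff.1 hc xS).symm.map (S : Subgroup G).subtype) with h | h | h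
    · exact hxc (by rw [show xS = w from Subtype.ext h.symm]; exact hc)
    · exact hwz (Subtype.ext h)
    · refine hxc ?_
      rw [show xS = w * z⁻¹ from eq_mul_inv_of_mul_eq (Subtype.ext h.symm)]
      exact mul_mem hc (inv_mem hzc)
  obtain ⟨s₀, hs₀⟩ : ∃ s, s * w * s⁻¹ = z * w := by
    by_contra h
    push Not at h
    refine hwc (Subgroup.mem_center_iff.2 fun g => ?_)
    exact mul_inv_eq_iff_eq_mul.1 ((hwconj g).resolve_right (h g))
  have hmemM : ∀ s, s ∈ M ↔ s * w * s⁻¹ = w := fun s => by
    rw [hMdef, Subgroup.mem_centralizer_singleton_iff, mul_inv_eq_iff_eq_mul]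
  have hzw : z * w ≠ w := fun h => ne_one_of_invol hz (mul_eq_right.1 h)
  have hout : ∀ a b, a ∉ M → b ∉ M → a * b ∈ M := by
    intro a b ha hb
    rw [hmemM]
    have ha' := (hwconj a).resolve_left fun h => ha ((hmemM a).2 h)
    have hb' := (hwconj b).resolve_left fun h => hb ((hmemM b).2 h)
    calc a * b * w * (a * b)⁻¹ = a * (b * w * b⁻¹) * a⁻¹ := by group
      _ = (a * z * a⁻¹) * (a * w * a⁻¹) := by rw [hb']; group
      _ = w := by rw [ha', hzgS a, mul_inv_cancel_right, ← mul_assoc, hzz, one_mul]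
  have hs₀M : s₀ ∉ M := fun h => hzw (hs₀.symm.trans ((hmemM s₀).1 h))
  have hM2 : M.index = 2 := Subgroup.index_eq_two_iff.2 ⟨s₀, fun b => by
    by_cases hb : b ∈ M
    · exact Or.inr ⟨hb, fun h => hs₀M (by simpa using mul_mem (inv_mem hb) h)⟩
    · exact Or.inl ⟨hout b s₀ hb hs₀M, hb⟩⟩
  -- `w` is conjugate to `x`
  obtain ⟨gw, hgw⟩ : ∃ g : G, (w : G) = g * x * g⁻¹ := by
    have hwz' : ∀ g : G, (w : G) * z = g * x * g⁻¹ → ∃ g' : G, (w : G) = g' * x * g'⁻¹ := by
      intro g h
      refine ⟨(s₀ : G) * g, ?_⟩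
      calc (w : G) = ((z * w) * z : (S : Subgroup G)) := by
            congr 1; rw [hzgS, ← mul_assoc, hzz, one_mul]
        _ = ((s₀ * w * s₀⁻¹) * (s₀ * z * s₀⁻¹) : (S : Subgroup G)) := by
            rw [hs₀, hzgS s₀, mul_inv_cancel_right]
        _ = (s₀ : G) * ((w : G) * z) * (s₀ : G)⁻¹ := by push_cast; group
        _ = _ := by rw [h]; group
    by_cases hxM : xS ∈ M
    · rcases hthree 1 x (by group) hxS w hw (Commute.map
        (show Commute w xS from (Subgroup.mem_centralizer_singleton_iff.1 hxM).symm)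
        (S : Subgroup G).subtype) with h | h | h
      · exact ⟨1, by rw [h]; group⟩
      · exact absurd (Subtype.ext h) hwz
      · exact hwz' 1 (by
          rw [h, mul_assoc, ← Subgroup.coe_mul, hzz, Subgroup.coe_one, mul_one]; group)
    · obtain ⟨g', m, hm, hmx, hm2⟩ := htransfer M hM2 1
      rcases hthree g' (m : G) hmx m.2 w hw (Commute.map
        (show Commute w m from (Subgroup.mem_centralizer_singleton_iff.1 hm).symm)
        (S : Subgroup G).subtype) with h | h | h
      · exact ⟨g', by rw [h, hmx]⟩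
      · exact absurd (Subtype.ext h) hwz
      · exact hwz' g' (by
          rw [h, mul_assoc, ← Subgroup.coe_mul, hzz, Subgroup.coe_one, mul_one, hmx])
  -- involutions of `M`
  have hMinv : ∀ m ∈ M, m * m = 1 → m = 1 ∨ m = w ∨ m = z ∨ m = w * z := by
    intro m hm hmm
    by_cases h1 : m = 1
    · exact Or.inl h1
    · rcases hthree gw (w : G) hgw w.2 m (orderOf_eq_two h1 hmm) (Commute.map
        (show Commute m w from Subgroup.mem_centralizer_singleton_iff.1 hm)
        (S : Subgroup G).subtype) with h | h | h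
      · exact Or.inr (Or.inl (Subtype.ext h))
      · exact Or.inr (Or.inr (Or.inl (Subtype.ext h)))
      · exact Or.inr (Or.inr (Or.inr (Subtype.ext h)))
  -- conjugates of `z` in `S` lie outside `M`
  have hconjz : ∀ g : G, ∀ y : (S : Subgroup G), (y : G) = g * (z : G) * g⁻¹ → y ≠ z → y ∉ M := by
    intro g y hy hyz hyM
    have hy2 : orderOf y = 2 := by rw [← Subgroup.orderOf_coe, hy, orderOf_conj, hz2]
    have key : ∀ g' : G, (y : G) = g' * x * g'⁻¹ → False := fun g' h => hzconj (g⁻¹ * g') (by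
      calc g⁻¹ * g' * x * (g⁻¹ * g')⁻¹ = g⁻¹ * (g' * x * g'⁻¹) * g := by group
        _ = z := by rw [← h, hy]; group)
    rcases hMinv y hyM (mul_self_eq_one hy2) with h | h | h | h
    · exact ne_one_of_invol hy2 h
    · exact key gw (by rw [h, hgw])
    · exact hyz h
    · refine key ((s₀ : G) * gw) ?_
      rw [h, hzgS, ← hs₀]
      push_cast
      rw [hgw]; group
  obtain ⟨g, hgS, hgz⟩ := exists_conj_ne S hz2 hne
  set y : (S : Subgroup G) := ⟨g * z * g⁻¹, hgS⟩ with hy
  have hyz : y ≠ z := fun h => hgz (congrArg Subtype.val h)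
  have hyM : y ∉ M := hconjz g y rfl hyz
  have hy2 : orderOf y = 2 := by rw [Subgroup.orderOf_mk, orderOf_conj, hz2]
  -- extremal conjugation
  have hexp : ∀ q ∈ M, q * y = y * q → q * q = 1 := by
    intro q hq hqy
    by_contra hqq
    obtain ⟨k, hk⟩ := SmallCent.exists_four_power S.2 hqq
    have hky : q ^ k * y = y * q ^ k := (Commute.pow_left (show Commute q y from hqy) k).eq
    have hi2 : q ^ k * q ^ k = z := by
      have hne1 : q ^ k * q ^ k ≠ 1 := fun h => by
        have := orderOf_dvd_of_pow_eq_one (show (q ^ k) ^ 2 = 1 by rw [sq, h])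
        rw [hk] at this
        norm_num at this
      rcases hMinv _ (mul_mem (pow_mem hq k) (pow_mem hq k)) (by
          calc q ^ k * q ^ k * (q ^ k * q ^ k) = (q ^ k) ^ 4 := by
                rw [show 4 = 2 + 2 from rfl, pow_add, sq]
            _ = 1 := hk ▸ pow_orderOf_eq_one (q ^ k)) with h | h | h | h
      · exact absurd h hne1
      · exfalso
        have hc : y * w = w * y := by
          rw [← h]; exact ((Commute.mul_left hky hky).symm).eq
        exact hyM (Subgroup.mem_centralizer_singleton_iff.2 hc)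
      · exact h
      · exfalso
        have hc : y * (w * z) = (w * z) * y := by
          rw [← h]; exact ((Commute.mul_left hky hky).symm).eq
        have hc' : y * w = w * y := by
          rw [← mul_assoc, mul_assoc w z y, ← hzgS y, ← mul_assoc w y z] at hc
          exact mul_right_cancel hc
        exact hyM (Subgroup.mem_centralizer_singleton_iff.2 hc')
    -- move `C_S(y)` into `S`
    set Cy : Subgroup G := (S : Subgroup G) ⊓ Subgroup.centralizer ({(y : G)} : Set G) with hCy
    set Cz := Subgroup.centralizer ({(z : G)} : Set G) with hCz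
    have hmap : ∀ a : G, a ∈ Cy → g⁻¹ * a * g ∈ Cz := fun a ha => by
      refine Subgroup.mem_centralizer_singleton_iff.2 ?_
      have h : a * (g * z * g⁻¹) = g * z * g⁻¹ * a :=
        Subgroup.mem_centralizer_singleton_iff.1 ha.2
      calc g⁻¹ * a * g * z = g⁻¹ * (a * (g * z * g⁻¹)) * g := by group
        _ = z * (g⁻¹ * a * g) := by rw [h]; group
    let f : Cy →* Cz :=
      { toFun := fun a => ⟨g⁻¹ * a * g, hmap a a.2⟩
        map_one' := Subtype.ext (by simp)
        map_mul' := fun a b => Subtype.ext (by simp only [Subgroup.coe_mul]; group) }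
    obtain ⟨T, hT⟩ := ((IsPGroup.of_surjective (S.2.to_le (inf_le_left : Cy ≤ (S : Subgroup G)))
      f.rangeRestrict f.rangeRestrict_surjective) : IsPGroup 2 f.range).exists_le_sylow
    obtain ⟨h, hh⟩ := MulAction.exists_smul_eq Cz T (S.subtype hzle)
    set k' : G := (h : G) * g⁻¹ with hk'
    have hmove : ∀ a : (S : Subgroup G), a * y = y * a → k' * a * k'⁻¹ ∈ (S : Subgroup G) := by
      intro a ha
      have haC : (a : G) ∈ Cy := ⟨a.2, Subgroup.mem_centralizer_singleton_iff.2 (congrArg Subtype.val ha)⟩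
      have hmem : f ⟨a, haC⟩ ∈ (T : Subgroup Cz) := hT ⟨⟨a, haC⟩, rfl⟩
      have := Subgroup.smul_mem_pointwise_smul _ (MulAut.conj h) (T : Subgroup Cz) hmem
      rw [show MulAut.conj h • (T : Subgroup Cz) = ((h • T : Sylow 2 Cz) : Subgroup Cz) from rfl, hh,
        Sylow.coe_subtype, Subgroup.mem_subgroupOf] at this
      convert this using 1
      show k' * (a : G) * k'⁻¹ = (h : G) * (g⁻¹ * a * g) * (h : G)⁻¹
      rw [hk']; group
    have hky' : k' * (y : G) * k'⁻¹ = z := by
      have hh' : (h : G) * z = z * h := Subgroup.mem_centralizer_singleton_iff.1 h.2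
      calc k' * (g * z * g⁻¹) * k'⁻¹ = (h : G) * z * (h : G)⁻¹ := by rw [hk']; group
        _ = z := by rw [hh', mul_inv_cancel_right]
    set v : (S : Subgroup G) := ⟨k' * z * k'⁻¹, hmove z (hzgS y).symm⟩ with hv
    have hvz : v ≠ z := fun h' => hyz (Subtype.ext (by
      have h1 : k' * (z : G) * k'⁻¹ = z := congrArg Subtype.val h'
      exact mul_left_cancel (mul_right_cancel (hky'.trans h1.symm))))
    refine hconjz k' v rfl hvz ?_
    have hv' : v = ⟨_, hmove _ hky⟩ * ⟨_, hmove _ hky⟩ := Subtype.ext (by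
      show k' * (z : G) * k'⁻¹ = k' * ((q ^ k : (S : Subgroup G)) : G) * k'⁻¹ *
        (k' * ((q ^ k : (S : Subgroup G)) : G) * k'⁻¹)
      rw [← hi2, Subgroup.coe_mul]; group)
    rw [hv']
    by_cases hm : (⟨_, hmove _ hky⟩ : (S : Subgroup G)) ∈ M
    · exact mul_mem hm hm
    · exact hout _ _ hm hm
  have hyy : y * y = 1 := mul_self_eq_one hy2
  have hyw : y * w * y⁻¹ = z * w := (hwconj y).resolve_left fun h => hyM ((hmemM y).2 h)
  have hyi : y⁻¹ = y := inv_eq_of_mul_eq_one_right hyy
  have hwM : w ∈ M := (hmemM w).2 (by group)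
  have hzM : z ∈ M := (hmemM z).2 (by rw [← hzgS w, mul_inv_cancel_right])
  set U : Subgroup (S : Subgroup G) := Subgroup.closure {z, w} with hU
  have hUM : U ≤ M := (Subgroup.closure_le _).2 (by
    rintro a (rfl | rfl)
    · exact hzM
    · exact hwM)
  have hUsq : ∀ m ∈ M, m * m = 1 → m ∈ U := by
    intro m hm hmm
    have h1 : z ∈ U := Subgroup.subset_closure (Or.inl rfl)
    have h2 : w ∈ U := Subgroup.subset_closure (Or.inr rfl)
    rcases hMinv m hm hmm with h | h | h | h <;> rw [h]
    · exact one_mem U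
    · exact h2
    · exact h1
    · exact mul_mem h2 h1
  have hUcase : ∀ u ∈ U, u = 1 ∨ u = w ∨ u = z ∨ u = w * z := by
    intro u hu
    refine hMinv u (hUM hu) ?_
    have hcomm : Commute w z := hzgS w
    induction hu using Subgroup.closure_induction with
    | mem a ha =>
      rcases ha with rfl | rfl
      · exact hzz
      · exact hww
    | one => exact one_mul 1
    | mul a b ha hb iha ihb =>
      have hab : Commute b a := by
        rcases hMinv a (hUM ha) iha with rfl | rfl | rfl | rfl
        · exact Commute.one_right b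
        · exact Subgroup.mem_centralizer_singleton_iff.1 (hUM hb)
        · exact hzgS b
        · exact Commute.mul_right (Subgroup.mem_centralizer_singleton_iff.1 (hUM hb)) (hzgS b)
      rw [hab.mul_mul_mul_comm, iha, ihb, one_mul]
    | inv a ha iha => rw [← mul_inv_rev, iha, inv_one]
  have hUc : ∀ u ∈ U, ∀ m ∈ M, m * u = u * m := by
    intro u hu m hm
    have h1 : Commute m w := Subgroup.mem_centralizer_singleton_iff.1 hm
    rcases hUcase u hu with rfl | rfl | rfl | rfl
    · exact (Commute.one_right m).eq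
    · exact h1.eq
    · exact hzgS m
    · exact (h1.mul_right (hzgS m)).eq
  have hUn : U.Normal := ⟨fun u hu a => by
    have hmem : ∀ e : (S : Subgroup G), e * w * e⁻¹ ∈ U := fun e => by
      rcases hwconj e with h | h <;> rw [h]
      · exact Subgroup.subset_closure (Or.inr rfl)
      · exact mul_mem (Subgroup.subset_closure (Or.inl rfl)) (Subgroup.subset_closure (Or.inr rfl))
    have hz' : a * z * a⁻¹ = z := by rw [hzgS a, mul_inv_cancel_right]
    rcases hUcase u hu with rfl | rfl | rfl | rfl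
    · simp
    · exact hmem a
    · rw [hz']; exact Subgroup.subset_closure (Or.inl rfl)
    · rw [show a * (w * z) * a⁻¹ = (a * w * a⁻¹) * (a * z * a⁻¹) by group, hz']
      exact mul_mem (hmem a) (Subgroup.subset_closure (Or.inl rfl))⟩
  by_cases hMU : M ≤ U
  · -- `S` is dihedral of order eight
    set c' := y * w with hc'
    have hcc' : c' * c' = z := by
      calc y * w * (y * w) = (y * w * y⁻¹) * (y * y) * w := by group
        _ = z := by rw [hyw, hyy, mul_one, mul_assoc, hww, mul_one]
    have hc'M : c' ∉ M := fun h => hyM (by simpa [hc'] using mul_mem h (inv_mem hwM))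
    have hc4 : orderOf c' = 4 := by
      refine orderOf_eq_prime_pow (p := 2) (n := 1) ?_ ?_
      · rw [pow_one, sq, hcc']; exact ne_one_of_invol hz
      · rw [show (2 : ℕ) ^ (1 + 1) = 2 + 2 from rfl, pow_add, sq, hcc', hzz]
    have hcardM : Nat.card M = 4 := by
      have : (M : Set (S : Subgroup G)) = {1, w, z, w * z} := by
        ext m
        constructor
        · intro hm; simpa using hUcase m (hMU hm)
        · rintro (rfl | rfl | rfl | rfl)
          · exact one_mem M
          · exact hwM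
          · exact hzM
          · exact mul_mem hwM hzM
      rw [← SetLike.coe_sort_coe, this, Nat.card_coe_set_eq]
      have h1 : w ≠ 1 := ne_one_of_invol hw
      have h2 : z ≠ 1 := ne_one_of_invol hz
      have h3 : w * z ≠ 1 := fun h => hwz (by
        rw [eq_inv_of_mul_eq_one_left h, inv_eq_of_mul_eq_one_right hzz])
      rw [Set.ncard_insert_of_notMem (by simp [Ne.symm h1, Ne.symm h2, Ne.symm h3]),
        Set.ncard_insert_of_notMem (by simp [hwz, h2, Ne.symm h2, fun h : w = w * z => h2 (left_eq_mul.1 h)]),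
        Set.ncard_pair (fun h : z = w * z => h1 (by simpa using h))]
    have hK : (Subgroup.zpowers c').index = 2 := by
      have e1 := M.card_mul_index
      have e2 := (Subgroup.zpowers c').card_mul_index
      rw [hcardM, hM2] at e1
      rw [Nat.card_zpowers, hc4, ← e1] at e2
      omega
    obtain ⟨g', m, hm, hmx, hm2⟩ := htransfer _ hK 1
    refine hzconj g' (hmx.symm.trans (congrArg Subtype.val ?_))
    classical
    obtain ⟨i, hi, rfl⟩ := Finset.mem_image.1 ((mem_zpowers_iff_mem_range_orderOf (x := c')).1 hm)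
    rw [Finset.mem_range, hc4] at hi
    interval_cases i
    · simp at hm2
    · rw [pow_one, hc4] at hm2; norm_num at hm2
    · rw [sq, hcc']
    · rw [orderOf_pow' c' (by norm_num), hc4] at hm2; norm_num at hm2
  · haveI := hUn
    haveI : M.Normal := Subgroup.normal_of_index_eq_two hM2
    obtain ⟨a, haM, haU, hacomm⟩ := exists_mem_commutator_le S.2 U M hMU
    obtain ⟨n', hn'⟩ := IsPGroup.iff_orderOf.1 S.2 a
    have hP : ∃ k, a ^ 2 ^ k ∈ U := ⟨n', by rw [← hn', pow_orderOf_eq_one]; exact one_mem U⟩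
    have hk := Nat.find_spec hP
    have hk0 : Nat.find hP ≠ 0 := fun h => haU (by simpa [h] using hk)
    set m := a ^ 2 ^ (Nat.find hP - 1) with hm
    have hmU : m ∉ U := Nat.find_min hP (show Nat.find hP - 1 < Nat.find hP by omega)
    have hmM : m ∈ M := pow_mem haM _
    have hmm : m * m ∈ U := by
      rw [hm, ← pow_add, ← two_mul, ← pow_succ', Nat.sub_add_cancel (Nat.pos_of_ne_zero hk0)]
      exact hk
    have hvm : y * m * y⁻¹ * m⁻¹ ∈ U := by
      rw [hm, ← conj_pow, show y * a * y⁻¹ = (y * a * y⁻¹ * a⁻¹) * a by group,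
        (hUc _ (hacomm y) a haM).symm |> fun h => Commute.mul_pow h, mul_inv_cancel_right]
      exact pow_mem (hacomm y) _
    set u := y * m * y⁻¹ * m⁻¹ with hu
    have hym : y * m * y⁻¹ = u * m := by rw [hu, inv_mul_cancel_right]
    have husq : ∀ u' ∈ U, u' * u' = 1 := by
      intro u' hu'
      rcases hUcase u' hu' with rfl | rfl | rfl | rfl
      · exact one_mul 1
      · exact hww
      · exact hzz
      · rw [(show Commute z w from (hzgS w).symm).mul_mul_mul_comm, hww, hzz, one_mul]
    have hmz : m * m = z := by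
      have hfix : y * (m * m) * y⁻¹ = m * m := by
        calc y * (m * m) * y⁻¹ = (y * m * y⁻¹) * (y * m * y⁻¹) := by group
          _ = u * (m * u) * m := by rw [hym]; group
          _ = u * u * (m * m) := by rw [hUc u hvm m hmM]; group
          _ = m * m := by rw [husq u hvm, one_mul]
      rcases hUcase _ hmm with h | h | h | h
      · exact absurd (hUsq m hmM h) hmU
      · rw [h, hyw] at hfix; exact absurd hfix hzw
      · exact h
      · exfalso
        have hyz' : y * z * y⁻¹ = z := by rw [hzgS y, mul_inv_cancel_right]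
        rw [h, show y * (w * z) * y⁻¹ = (y * w * y⁻¹) * (y * z * y⁻¹) by group, hyw, hyz'] at hfix
        exact hzw (mul_right_cancel hfix)
    have hyu : y * u * y⁻¹ = u := by
      have h1 : y * (y * m * y⁻¹) * y⁻¹ = m := by
        calc y * (y * m * y⁻¹) * y⁻¹ = (y * y) * m * (y * y)⁻¹ := by group
          _ = m := by rw [hyy]; group
      rw [hym, show y * (u * m) * y⁻¹ = (y * u * y⁻¹) * (y * m * y⁻¹) by group, hym, ← mul_assoc] at h1
      calc y * u * y⁻¹ = (y * u * y⁻¹ * u) * u⁻¹ := by group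
        _ = u := by rw [mul_eq_right.1 h1, one_mul, inv_eq_of_mul_eq_one_right (husq u hvm)]
    have hfixed : ∀ t ∈ M, y * t * y⁻¹ = t → t * t = z → False := by
      intro t ht hfix h
      have := hexp t ht (mul_inv_eq_iff_eq_mul.1 hfix).symm
      exact ne_one_of_invol hz (h ▸ this)
    rcases hUcase u hvm with h | h | h | h
    · exact hfixed m hmM (by rw [hym, h, one_mul]) hmz
    · rw [h, hyw] at hyu; exact hzw hyu
    · refine hfixed (m * w) (mul_mem hmM hwM) ?_ ?_
      · rw [show y * (m * w) * y⁻¹ = (y * m * y⁻¹) * (y * w * y⁻¹) by group, hym, hyw, h,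
          ← hzgS m, mul_assoc m z, ← mul_assoc z z w, hzz, one_mul]
      · rw [(show Commute w m from (hUc w (Subgroup.subset_closure (Or.inr rfl)) m hmM).symm).mul_mul_mul_comm,
          hmz, hww, mul_one]
    · have hyz' : y * z * y⁻¹ = z := by rw [hzgS y, mul_inv_cancel_right]
      rw [h, show y * (w * z) * y⁻¹ = (y * w * y⁻¹) * (y * z * y⁻¹) by group, hyw, hyz'] at hyu
      exact hzw (mul_right_cancel hyu)

/-- Let G be a finite simple group and x an involution of G whose centralizer contains at most three involutions. Then C_G(x) contains a Sylow 2-subgroup of G, and all involutions of G are conjugate. -/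
theorem result {G : Type*} [Group G] [Finite G] [IsSimpleGroup G] (x : G) (hx : orderOf x = 2)
    (h3 : Nat.card {u : ↥(Subgroup.centralizer ({x} : Set G)) // orderOf u = 2} ≤ 3) :
    (∃ S : Sylow 2 G, (S : Subgroup G) ≤ Subgroup.centralizer ({x} : Set G)) ∧
      ∀ u v : G, orderOf u = 2 → orderOf v = 2 → IsConj u v := by
  classical
  have : Fact (Nat.Prime 2) := ⟨Nat.prime_two⟩
  obtain ⟨S, hS⟩ := exists_sylow x hx h3
  refine ⟨⟨S, hS⟩, ?_⟩
  obtain ⟨g₀, hg₀⟩ : ∃ g : G, g * x * g⁻¹ ∈ (S : Subgroup G) := by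
    obtain ⟨Q, hQ⟩ := (IsPGroup.of_card (G := Subgroup.zpowers x) (p := 2) (n := 1)
      (by rw [Nat.card_zpowers, hx, pow_one])).exists_le_sylow
    obtain ⟨g, hg⟩ := MulAction.exists_smul_eq G Q S
    exact ⟨g, hg ▸ Subgroup.smul_mem_pointwise_smul x (MulAut.conj g) (Q : Subgroup G)
      (hQ (Subgroup.mem_zpowers x))⟩
  by_cases hne : Subgroup.center G = ⊤
  · intro u v hu hv
    by_cases huv : u = v
    · rw [huv]
    · exact absurd hne (center_ne_top hu hv huv)
  -- `x` lies in `S`
  have hxS : x ∈ (S : Subgroup G) := by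
    by_contra hx'
    have hcomm : ∀ s ∈ (S : Subgroup G), s * x = x * s := fun s hs =>
      Subgroup.mem_centralizer_singleton_iff.1 (hS hs)
    have hle : Subgroup.zpowers x ≤ Subgroup.normalizer ((S : Subgroup G) : Set G) :=
      Subgroup.zpowers_le.2 (Subgroup.mem_normalizer_iff.2 fun s => by
        constructor <;> intro hs
        · rwa [← hcomm s hs, mul_inv_cancel_right]
        · have h := hcomm _ hs
          rwa [show s = x⁻¹ * (x * s * x⁻¹ * x) by group, h, inv_mul_cancel_left])
    have hp : IsPGroup 2 (Subgroup.zpowers x : Subgroup G) :=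
      IsPGroup.of_card (n := 1) (by rw [Nat.card_zpowers, hx, pow_one])
    have := hp.inf_normalizer_sylow S
    have h4 : x ∈ Subgroup.zpowers x ⊓ (S : Subgroup G) :=
      this ▸ Subgroup.mem_inf.2 ⟨Subgroup.mem_zpowers x, hle (Subgroup.mem_zpowers x)⟩
    exact hx' h4.2
  have hxS' : ∀ s ∈ (S : Subgroup G), Commute s x := fun s hs =>
    Subgroup.mem_centralizer_singleton_iff.1 (hS hs)
  obtain ⟨g, hgS, hgx⟩ := exists_conj_ne S hx hne
  set u := g * x * g⁻¹ with hu
  have hu2 : orderOf u = 2 := by rw [hu, orderOf_conj, hx]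
  have hxu : orderOf (x * u) = 2 := orderOf_eq_two
    (fun h => hgx (by
      rw [eq_inv_of_mul_eq_one_right h, inv_eq_of_mul_eq_one_right (mul_self_eq_one hx)]))
    (by rw [(hxS' u hgS).mul_mul_mul_comm, mul_self_eq_one hx, mul_self_eq_one hu2, one_mul])
  have hall : ∀ s ∈ (S : Subgroup G), orderOf s = 2 → s = x ∨ s = u ∨ s = x * u := fun s hs hs2 =>
    eq_or_eq_or_eq h3 hx hu2 hxu hs2 (Commute.refl x) (hxS' u hgS)
      ((Commute.refl x).mul_left (hxS' u hgS)) (hxS' s hs) (Ne.symm hgx)
      (fun h => ne_one_of_invol hu2 (left_eq_mul.1 h))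
      (fun h => ne_one_of_invol hx (right_eq_mul.1 h))
  have hxconj : IsConj x u := isConj_iff.2 ⟨g, rfl⟩
  have hxuconj : IsConj x (x * u) := by
    by_cases huc : ∀ s ∈ (S : Subgroup G), s * u = u * s
    · set Z : Subgroup G := (S : Subgroup G) ⊓ Subgroup.centralizer ((S : Subgroup G) : Set G)
      have : IsMulCommutative Z := ⟨⟨fun a b =>
        Subtype.ext (Subgroup.mem_centralizer_iff.1 b.2.2 a a.2.1)⟩⟩
      have hxZ : x ∈ Z := ⟨hxS, Subgroup.mem_centralizer_iff.2 fun s hs => (hxS' s hs).eq⟩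
      have huZ : u ∈ Z := ⟨hgS, Subgroup.mem_centralizer_iff.2 fun s hs => huc s hs⟩
      set N := Subgroup.normalizer ((S : Subgroup G) : Set G) with hN
      obtain ⟨O, hO, -, hcard⟩ := CfsgLib.Invol.CentralFixed.exists_orbit N Z
        (fun m hm s hs => ⟨(Subgroup.mem_normalizer_iff.1 hm s).1 hs.1,
          Subgroup.mem_centralizer_iff.2 fun t ht => by
            have ht' : m⁻¹ * t * m ∈ (S : Subgroup G) := by
              have := (Subgroup.mem_normalizer_iff.1 (inv_mem hm) t).1 ht
              rwa [inv_inv] at this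
            have h := Subgroup.mem_centralizer_iff.1 hs.2 _ ht'
            calc t * (m * s * m⁻¹) = m * (m⁻¹ * t * m * s) * m⁻¹ := by group
              _ = _ := by rw [h]; group⟩) ⟨x, hxZ⟩
      have hodd : ¬ 2 ∣ O.card := fun h => S.not_dvd_index (by
        rw [hcard] at h
        exact (h.trans (Subgroup.relIndex_dvd_of_le_left _ hS)).trans
          (Subgroup.relIndex_dvd_index_of_le Subgroup.le_normalizer))
      obtain ⟨n, hn, hnu⟩ := S.conj_eq_normalizer_conj_of_mem_centralizer x g⁻¹ hxZ.2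
        (by rw [inv_inv]; exact huZ.2)
      have huO : (⟨u, huZ⟩ : Z) ∈ O := (hO _).2 ⟨n⁻¹, inv_mem hn, by
        rw [inv_inv]; rw [inv_inv] at hnu; exact hnu⟩
      have hxO : (⟨x, hxZ⟩ : Z) ∈ O := (hO _).2 ⟨1, one_mem _, by group⟩
      obtain ⟨o, ho, hox, hou⟩ : ∃ o ∈ O, o ≠ ⟨x, hxZ⟩ ∧ o ≠ ⟨u, huZ⟩ := by
        by_contra h
        push Not at h
        refine hodd ?_
        have : O = {⟨x, hxZ⟩, ⟨u, huZ⟩} := by
          ext o
          simp only [Finset.mem_insert, Finset.mem_singleton]
          exact ⟨fun ho => or_iff_not_imp_left.2 (h o ho),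
            fun ho => ho.elim (fun h => h ▸ hxO) (fun h => h ▸ huO)⟩
        rw [this, Finset.card_pair (fun h => hgx (congrArg Subtype.val h).symm)]
      obtain ⟨m, -, hm⟩ := (hO o).1 ho
      have hm' : (o : G) = m * x * m⁻¹ := hm
      rcases hall o o.2.1 (by rw [hm', orderOf_conj, hx]) with h | h | h
      · exact absurd (Subtype.ext h) hox
      · exact absurd (Subtype.ext h) hou
      · exact isConj_iff.2 ⟨m, hm'.symm.trans h⟩
    · push Not at huc
      obtain ⟨s, hs, hsu⟩ := huc
      have hmem : s * u * s⁻¹ ∈ (S : Subgroup G) := mul_mem (mul_mem hs hgS) (inv_mem hs)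
      rcases hall _ hmem (by rw [orderOf_conj, hu2]) with h | h | h
      · exfalso
        refine hgx ?_
        have : s * u * s⁻¹ = s * x * s⁻¹ := by rw [h, (hxS' s hs).eq, mul_inv_cancel_right]
        exact mul_left_cancel (mul_right_cancel this)
      · exact absurd (mul_inv_eq_iff_eq_mul.1 h) hsu
      · exact hxconj.trans (isConj_iff.2 ⟨s, h⟩)
  have hto : ∀ v : G, orderOf v = 2 → IsConj x v := by
    intro v hv
    obtain ⟨Q, hQ⟩ := (IsPGroup.of_card (G := Subgroup.zpowers v) (p := 2) (n := 1)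
      (by rw [Nat.card_zpowers, hv, pow_one])).exists_le_sylow
    obtain ⟨a, ha⟩ := MulAction.exists_smul_eq G Q S
    have hmem : a * v * a⁻¹ ∈ (S : Subgroup G) :=
      ha ▸ Subgroup.smul_mem_pointwise_smul v (MulAut.conj a) (Q : Subgroup G)
        (hQ (Subgroup.mem_zpowers v))
    have hconj : IsConj v (a * v * a⁻¹) := isConj_iff.2 ⟨a, rfl⟩
    rcases hall _ hmem (by rw [orderOf_conj, hv]) with h | h | h <;> rw [h] at hconj
    · exact hconj.symm
    · exact hxconj.trans hconj.symm
    · exact hxuconj.trans hconj.symm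
  exact fun u v hu hv => (hto u hu).symm.trans (hto v hv)

end Cfsg.Agent.S3279
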