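import Cfsg.Statements.S3285
import Cfsg.Agent.Lib.TwoTimesAlt.Reduce
import Cfsg.Agent.Lib.TwoTimesAlt.A4.Identify
import Cfsg.Agent.Lib.Sporadic.J1.Recog.Recognition

set_option autoImplicit false
open Cfsg

namespace Cfsg.Agent.S3285

/-- Let G be a finite non-solvable group with no normal subgroup of index 2, and J an involution lying in the centre of a Sylow 2-subgroup of G whose centralizer is the internal direct product of ⟨J⟩ with a subgroup isomorphic to the alternating group of degree m. Then either m = 4 and G is isomorphic to the automorphism group PΓL(2, 8) of PSL(2, 8), or m = 5 and G is isomorphic to the first Janko group. -/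
theorem result {G : Type*} [Group G] [Finite G] (hns : ¬ Group.IsSolvable G) (h2 : ∀ N : Subgroup G, N.Normal → N.index ≠ 2)
    (J : G) (hJ : Cfsg.IsTwoCentralInvolution J) (m : ℕ) (T : Subgroup G)
    (hT : Nonempty (↥T ≃* ↥(alternatingGroup (Fin m))))
    (hd : Cfsg.IsInternalDirectProduct (Subgroup.zpowers J) T (Subgroup.centralizer ({J} : Set G))) :
    (m = 4 ∧ ∃ (F : Type) (_ : Field F) (_ : Fintype F), Fintype.card F = 8 ∧
        Nonempty (G ≃* MulAut (Matrix.ProjectiveSpecialLinearGroup (Fin 2) F))) ∨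
      (m = 5 ∧ Cfsg.Spor.IsoJ1 G) := by
  obtain ⟨hJ2, S, hJS, hS⟩ := hJ
  rcases CfsgLib.TwoTimesAlt.degree_cases hns h2 hJ2 S hJS hS hT hd with rfl | rfl
  · left
    refine ⟨rfl, ?_⟩
    obtain ⟨j, hj, hrange, hjJ⟩ := CfsgLib.TwoTimesAlt.exists_iso hJ2 hT hd
    obtain ⟨g, hg⟩ := CfsgLib.TwoTimesAlt.exists_conj_mem h2 hJ2 S hJS hS hd
    have hJT : J ∉ T := fun h => by
      have h' : J ∈ Subgroup.zpowers J ⊓ T := Subgroup.mem_inf.mpr ⟨Subgroup.mem_zpowers J, h⟩
      rw [hd.2.2.2.1, Subgroup.mem_bot] at h'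
      rw [h', orderOf_one] at hJ2
      norm_num at hJ2
    exact CfsgLib.TwoTimesAlt.A4.Four.identify
      { j := j
        inj := hj
        range_eq := by rw [show j CfsgLib.TwoTimesAlt.A4.z0 = J from hjJ]; exact hrange
        S := S
        S_le := fun x hx => hrange ▸ Subgroup.mem_centralizer_singleton_iff.mpr (hS x hx)
        moved := ⟨g, by
          rw [show j CfsgLib.TwoTimesAlt.A4.z0 = J from hjJ]
          exact ⟨hrange ▸ hd.2.1 hg, fun h => hJT (h ▸ hg)⟩⟩
        hns := hns }
  · right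
    refine ⟨rfl, ?_⟩
    obtain ⟨j, hj, hrange, -⟩ := CfsgLib.TwoTimesAlt.exists_iso hJ2 hT hd
    let e : Subgroup.centralizer ({J} : Set G) ≃* Multiplicative (ZMod 2) × alternatingGroup (Fin 5) :=
      (MulEquiv.subgroupCongr hrange).trans (MonoidHom.ofInjective hj).symm
    exact CfsgLib.J1Recog.recognition_of_no_index_two h2 J hJ2
      (CfsgLib.J1Recog.not_sixteen_of_central S hS e) e

end Cfsg.Agent.S3285
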