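import Cfsg.Statements.S3294
import Cfsg.Agent.Lib.InvChar.SolvableCore

set_option autoImplicit false
open Cfsg

namespace Cfsg.Agent.S3294

open QuaternionGroup

variable {m : ℕ}

theorem mem_zpowers_a_one [NeZero m] (i : ZMod (2 * m)) :
    (a i : QuaternionGroup m) ∈ Subgroup.zpowers (a 1) := by
  rw [← ZMod.natCast_zmod_val i, ← a_one_pow]
  exact Subgroup.npow_mem_zpowers _ _

theorem orderOf_of_notMem [NeZero m] {u : QuaternionGroup m}
    (h : u ∉ Subgroup.zpowers (a 1 : QuaternionGroup m)) : orderOf u = 4 := by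
  rcases u with i | i
  · exact absurd (mem_zpowers_a_one i) h
  · exact orderOf_xa i

theorem sq_eq_one_of_commute [NeZero m] {u v : QuaternionGroup m}
    (hu : u ∈ Subgroup.zpowers (a 1 : QuaternionGroup m))
    (hv : v ∉ Subgroup.zpowers (a 1 : QuaternionGroup m)) (hc : u * v = v * u) : u ^ 2 = 1 := by
  obtain ⟨k, rfl⟩ := Subgroup.mem_zpowers_iff.1 hu
  rcases v with j | j
  · exact absurd (mem_zpowers_a_one j) hv
  · obtain ⟨i, hi⟩ : ∃ i, (a 1 : QuaternionGroup m) ^ k = a i := by
      rcases h : (a 1 : QuaternionGroup m) ^ k with i | i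
      · exact ⟨i, rfl⟩
      · exfalso
        have h4 := congrArg orderOf h
        have hm : (a 1 : QuaternionGroup m) ^ k ∈ Subgroup.zpowers (a 1) :=
          Subgroup.zpow_mem_zpowers _ _
        rw [h] at hm
        obtain ⟨l, hl⟩ := mem_powers_iff_mem_zpowers.2 hm
        simp only at hl
        rw [a_one_pow] at hl
        simp at hl
    rw [hi, a_mul_xa, xa_mul_a] at hc
    have h2 : j - i = j + i := QuaternionGroup.xa.inj hc
    rw [hi, pow_two, a_mul_a, ← a_zero]
    congr 1
    calc i + i = (j + i) - (j - i) := by abel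
      _ = 0 := by rw [h2, sub_self]

/-- A normal subgroup of a group embedded in a quaternion group has small automizer. -/
theorem automizer_dichotomy {G : Type*} [Group G] [Finite G] [NeZero m] (Q : Subgroup G) [Q.Normal]
    (hQ : IsPGroup 2 Q) (g : Q →* QuaternionGroup m) (hg : Function.Injective g)
    (hC : Subgroup.centralizer (Q : Set G) ≤ Q) :
    IsPGroup 2 G ∨ Nat.card G ≤ 48 := by
  haveI : Fact (Nat.Prime 2) := ⟨Nat.prime_two⟩
  obtain ⟨b, hb⟩ := IsPGroup.iff_card.1 (hQ.to_le hC)
  by_cases hcyc : IsCyclic Q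
  · obtain ⟨a', ha⟩ := CfsgLib.InvChar.exists_index_centralizer_eq_two_pow Q hQ
    exact Or.inl (CfsgLib.InvChar.isPGroup_two_of_card_eq ⟨b, hb⟩ ⟨a', ha⟩
      (Subgroup.card_mul_index _).symm)
  set A : Subgroup (QuaternionGroup m) := Subgroup.zpowers (a 1) with hA
  set A' : Subgroup Q := A.comap g with hA'
  have hA'c : IsCyclic A' :=
    isCyclic_of_injective (g.subgroupComap A)
      (fun y z hyz => Subtype.ext (hg (congrArg Subtype.val hyz)))
  obtain ⟨c, hc⟩ : ∃ c : Q, Subgroup.zpowers c = A' :=
    (Subgroup.isCyclic_iff_exists_zpowers_eq_top A').1 hA'c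
  obtain ⟨x, hx⟩ : ∃ x : Q, x ∉ A' := by
    by_contra h
    push_neg at h
    refine hcyc ⟨⟨c, fun y => ?_⟩⟩
    exact Subgroup.mem_zpowers_iff.1 (hc ▸ h y)
  have hord : ∀ y : Q, y ∉ A' → orderOf y = 4 := fun y hy => by
    rw [← orderOf_injective g hg y]
    exact orderOf_of_notMem hy
  have hAi : A.index = 2 := by
    have h := Subgroup.card_mul_index A
    have hc2 : Nat.card A = 2 * m := by rw [hA, Nat.card_zpowers, orderOf_a_one]
    rw [hc2, Nat.card_eq_fintype_card (α := QuaternionGroup m), QuaternionGroup.card] at h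
    exact Nat.eq_of_mul_eq_mul_left (show 0 < 2 * m by have := NeZero.pos m; omega)
      (h.trans (by ring))
  haveI : A.Normal := Subgroup.normal_of_index_eq_two hAi
  have hA'i : A'.index = 2 := by
    rw [hA', Subgroup.index_comap]
    have h1 : A.relIndex g.range ∣ 2 := hAi ▸ Subgroup.relIndex_dvd_index_of_normal _ _
    rcases (Nat.dvd_prime Nat.prime_two).1 h1 with h2 | h2
    · exfalso
      rw [← Subgroup.index_comap, ← hA', Subgroup.index_eq_one] at h2
      exact hx (h2 ▸ Subgroup.mem_top x)
    · exact h2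
  have hcardQ : Nat.card Q = 2 * orderOf c := by
    rw [← Subgroup.card_mul_index A', hA'i, ← hc, Nat.card_zpowers]
    ring
  have hcov : ∀ y : Q, y ∈ A' ∨ x * y ∈ A' := by
    intro y
    by_cases hy : y ∈ A'
    · exact Or.inl hy
    · right
      rw [Subgroup.mul_mem_iff_of_index_two hA'i]
      exact iff_of_false hx hy
  have hgen : ∀ y : Q, y ∈ Subgroup.closure ({c, x} : Set Q) := by
    have h1 : A' ≤ Subgroup.closure ({c, x} : Set Q) := by
      rw [← hc, Subgroup.zpowers_le]
      exact Subgroup.subset_closure (by simp)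
    intro y
    rcases hcov y with h | h
    · exact h1 h
    · have := Subgroup.mul_mem _ (Subgroup.inv_mem _
        (Subgroup.subset_closure (show x ∈ ({c, x} : Set Q) by simp))) (h1 h)
      simpa using this
  have hc3 : 3 ≤ orderOf c := by
    by_contra h
    refine hcyc (isCyclic_of_orderOf_eq_card x ?_)
    have h4 := hord x hx
    have hd : orderOf x ∣ Nat.card Q := orderOf_dvd_natCard x
    have := Nat.le_of_dvd Nat.card_pos hd
    omega
  have hCQ : ∀ (γ : G) (hγ : γ ∈ Subgroup.centralizer (Q : Set G)) (y : Q),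
      (⟨γ, hC hγ⟩ : Q) * y = y * ⟨γ, hC hγ⟩ := fun γ hγ y =>
    Subtype.ext (Subgroup.mem_centralizer_iff.1 hγ y y.2).symm
  -- the centralizer of `Q` consists of elements squaring to one inside the cyclic subgroup
  have hCA : ∀ (γ : G) (hγ : γ ∈ Subgroup.centralizer (Q : Set G)),
      (⟨γ, hC hγ⟩ : Q) ∈ A' ∧ (⟨γ, hC hγ⟩ : Q) ^ 2 = 1 := by
    intro γ hγ
    have hmem : (⟨γ, hC hγ⟩ : Q) ∈ A' := by
      by_contra h
      have h2 : g c ^ 2 = 1 := sq_eq_one_of_commute
        (show c ∈ A' from hc ▸ Subgroup.mem_zpowers c) h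
        (by rw [← map_mul, ← map_mul, hCQ γ hγ c])
      rw [← map_pow] at h2
      have := Nat.le_of_dvd (by norm_num)
        (orderOf_dvd_of_pow_eq_one (hg (h2.trans (map_one g).symm)))
      omega
    refine ⟨hmem, hg ?_⟩
    rw [map_pow, map_one]
    exact sq_eq_one_of_commute hmem hx (by rw [← map_mul, ← map_mul, hCQ γ hγ x])
  have hker : (MulAut.conjNormal : G →* MulAut Q).ker = Subgroup.centralizer (Q : Set G) := by
    ext γ
    rw [MonoidHom.mem_ker, Subgroup.mem_centralizer_iff]
    constructor
    · intro h q hq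
      have := congrArg (fun φ : MulAut Q => ((φ ⟨q, hq⟩ : Q) : G)) h
      simp only [MulAut.conjNormal_apply, MulAut.one_apply] at this
      exact (mul_inv_eq_iff_eq_mul.1 this).symm
    · intro h
      ext q
      rw [MulAut.conjNormal_apply, MulAut.one_apply, mul_inv_eq_iff_eq_mul]
      exact (h q q.2).symm
  by_cases h8 : orderOf c ≤ 4
  · -- `Q` of order at most eight
    right
    have h4c : orderOf c = 4 := by
      obtain ⟨k, hk⟩ := hQ c
      have h1 : orderOf c ∣ 2 ^ k := orderOf_dvd_of_pow_eq_one hk
      obtain ⟨j, -, hj⟩ := (Nat.dvd_prime_pow Nat.prime_two).1 h1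
      rcases j with _ | _ | _ | j
      · rw [pow_zero] at hj; omega
      · simp at hj; omega
      · simpa using hj
      · have : 2 ^ 3 ≤ orderOf c := hj ▸ Nat.pow_le_pow_right (by norm_num) (by omega)
        omega
    have hC2 : Nat.card (Subgroup.centralizer (Q : Set G)) ≤ 2 := by
      classical
      haveI := Fintype.ofFinite A'
      have h2 : (Finset.univ.filter fun y : A' => y ^ 2 = 1).card ≤ 2 :=
        IsCyclic.card_pow_eq_one_le (by norm_num)
      refine le_trans ?_ h2
      rw [← Fintype.card_coe, ← Nat.card_eq_fintype_card]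
      refine Nat.card_le_card_of_injective
        (fun γ => ⟨⟨⟨γ.1, hC γ.2⟩, (hCA γ.1 γ.2).1⟩, by
          rw [Finset.mem_filter]
          exact ⟨Finset.mem_univ _, Subtype.ext (hCA γ.1 γ.2).2⟩⟩) ?_
      intro γ δ h
      simp only [Subtype.mk.injEq] at h
      exact Subtype.ext h
    have hAut : Nat.card (MulAut Q) ≤ 24 := by
      classical
      haveI := Fintype.ofFinite Q
      have hq8 : Fintype.card Q = 8 := by
        rw [← Nat.card_eq_fintype_card, hcardQ, h4c]
      let S : Finset (Σ _ : Q, Q) := (Finset.univ.filter fun u : Q => orderOf u = 4).sigma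
        fun u => Finset.univ.filter fun v : Q => v ∉ Subgroup.zpowers u
      have hS : S.card ≤ 24 := by
        rw [Finset.card_sigma]
        have hu : (Finset.univ.filter fun u : Q => orderOf u = 4).card ≤ 6 := by
          have hsub : (Finset.univ.filter fun u : Q => orderOf u = 4) ⊆
              Finset.univ \ {1, c ^ 2} := by
            intro u hu
            simp only [Finset.mem_filter, Finset.mem_univ, true_and] at hu
            simp only [Finset.mem_sdiff, Finset.mem_univ, true_and, Finset.mem_insert,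
              Finset.mem_singleton, not_or]
            refine ⟨fun h => by simp [h] at hu, fun h => ?_⟩
            rw [h, orderOf_pow' c (by norm_num), h4c] at hu
            norm_num at hu
          refine (Finset.card_le_card hsub).trans ?_
          rw [Finset.card_sdiff_of_subset (Finset.subset_univ _), Finset.card_univ, hq8,
            Finset.card_pair]
          intro h
          have := Nat.le_of_dvd (by norm_num) (orderOf_dvd_of_pow_eq_one h.symm)
          omega
        have hv : ∀ u ∈ (Finset.univ.filter fun u : Q => orderOf u = 4),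
            (Finset.univ.filter fun v : Q => v ∉ Subgroup.zpowers u).card ≤ 4 := by
          intro u hu
          simp only [Finset.mem_filter, Finset.mem_univ, true_and] at hu
          have h1 : (Finset.univ.filter fun v : Q => v ∈ Subgroup.zpowers u).card = 4 := by
            rw [← hu, ← Nat.card_zpowers, Nat.card_eq_fintype_card, Fintype.card_subtype]
          have h2 := Finset.card_filter_add_card_filter_not (s := (Finset.univ : Finset Q))
            (fun v : Q => v ∈ Subgroup.zpowers u)
          rw [Finset.card_univ, hq8, h1] at h2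
          omega
        refine (Finset.sum_le_card_nsmul _ _ 4 hv).trans ?_
        rw [smul_eq_mul]
        omega
      refine le_trans ?_ hS
      rw [← Fintype.card_coe, ← Nat.card_eq_fintype_card]
      refine Nat.card_le_card_of_injective (fun φ => ⟨⟨φ c, φ x⟩, ?_⟩) ?_
      · simp only [S, Finset.mem_sigma, Finset.mem_filter, Finset.mem_univ, true_and]
        refine ⟨by rw [MulEquiv.orderOf_eq, h4c], fun h => ?_⟩
        obtain ⟨k, hk⟩ := Subgroup.mem_zpowers_iff.1 h
        rw [← map_zpow] at hk
        exact hx (hc ▸ ⟨k, φ.injective hk⟩)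
      · intro φ ψ h
        simp only [Subtype.mk.injEq, Sigma.mk.injEq, heq_eq_eq] at h
        ext y : 1
        induction hgen y using Subgroup.closure_induction with
        | mem z hz =>
          rcases hz with rfl | hz
          · exact h.1
          · rw [Set.mem_singleton_iff] at hz; subst hz; exact h.2
        | one => simp
        | mul u v _ _ hu hv => simp [hu, hv]
        | inv u _ hu => simp [hu]
    have hidx : (Subgroup.centralizer (Q : Set G)).index ≤ 24 := by
      rw [← hker, Subgroup.index_ker]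
      exact le_trans (Subgroup.card_le_card_group _) hAut
    rw [← Subgroup.card_mul_index (Subgroup.centralizer (Q : Set G))]
    exact Nat.mul_le_mul hC2 hidx
  · -- the cyclic subgroup is normal in `G`
    left
    set D : Subgroup G := A'.map Q.subtype with hD
    have hDz : D = Subgroup.zpowers (c : G) := by
      rw [hD, ← hc, MonoidHom.map_zpowers]; rfl
    have hDn : D.Normal := by
      refine ⟨fun d hd γ => ?_⟩
      rw [hDz] at hd ⊢
      obtain ⟨k, rfl⟩ := Subgroup.mem_zpowers_iff.1 hd
      have hmem : γ * (c : G) * γ⁻¹ ∈ D := by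
        refine ⟨MulAut.conjNormal γ c, ?_, MulAut.conjNormal_apply γ c⟩
        by_contra h
        have := hord _ h
        rw [MulEquiv.orderOf_eq] at this
        omega
      rw [hDz] at hmem
      have := Subgroup.zpow_mem _ hmem k
      rwa [conj_zpow] at this
    haveI := hDn
    haveI : IsCyclic D := by rw [hDz]; infer_instance
    obtain ⟨a', ha⟩ := CfsgLib.InvChar.exists_index_centralizer_eq_two_pow D
      (hQ.to_le (Subgroup.map_subtype_le _))
    set C := Subgroup.centralizer (D : Set G) with hCdef
    have hDC : D ≤ C := by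
      rw [hCdef, hDz]
      intro d hd
      rw [Subgroup.mem_centralizer_iff]
      intro e he
      obtain ⟨i, rfl⟩ := Subgroup.mem_zpowers_iff.1 hd
      obtain ⟨j, rfl⟩ := Subgroup.mem_zpowers_iff.1 he
      exact zpow_mul_comm _ _ _
    have hδ : ∀ γ : C, (x : G)⁻¹ * ((γ : G) * x * (γ : G)⁻¹) ∈ D := by
      intro γ
      refine ⟨x⁻¹ * MulAut.conjNormal (γ : G) x, ?_, by simp⟩
      show x⁻¹ * MulAut.conjNormal (γ : G) x ∈ A'
      rw [Subgroup.mul_mem_iff_of_index_two hA'i]
      refine iff_of_false (fun h => hx (inv_mem_iff.1 h)) fun h => hx ?_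
      obtain ⟨k, hk⟩ := Subgroup.mem_zpowers_iff.1 (hc.symm ▸ h)
      have hcfix : (γ : G) * (c : G) = (c : G) * γ :=
        (Subgroup.mem_centralizer_iff.1 γ.2 (c : G)
          (hDz ▸ Subgroup.mem_zpowers (c : G))).symm
      have hc' : MulAut.conjNormal (γ : G) c = c :=
        Subtype.ext (by rw [MulAut.conjNormal_apply, hcfix, mul_inv_cancel_right])
      rw [← hc', ← map_zpow] at hk
      exact hc ▸ ⟨k, (MulAut.conjNormal (γ : G)).injective hk⟩
    let f : C →* D :=
      { toFun := fun γ => ⟨(x : G)⁻¹ * ((γ : G) * x * (γ : G)⁻¹), hδ γ⟩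
        map_one' := by ext; simp
        map_mul' := fun γ δ => by
          ext
          have hfix := Subgroup.mem_centralizer_iff.1 γ.2 _ (hδ δ)
          simp only [Subgroup.coe_mul, mul_inv_rev]
          calc (x : G)⁻¹ * ((γ : G) * δ * x * ((δ : G)⁻¹ * (γ : G)⁻¹))
              = (x : G)⁻¹ * (γ : G) * x * ((x : G)⁻¹ * ((δ : G) * x * (δ : G)⁻¹)) * (γ : G)⁻¹ := by
                group
            _ = (x : G)⁻¹ * (γ : G) * x *
                (((x : G)⁻¹ * ((δ : G) * x * (δ : G)⁻¹)) * (γ : G)⁻¹) := by group
            _ = (x : G)⁻¹ * (γ : G) * x *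
                ((γ : G)⁻¹ * ((x : G)⁻¹ * ((δ : G) * x * (δ : G)⁻¹))) := by
                congr 1
                rw [eq_inv_mul_iff_mul_eq, ← mul_assoc, ← hfix, mul_inv_cancel_right]
            _ = (x : G)⁻¹ * ((γ : G) * x * (γ : G)⁻¹) *
                ((x : G)⁻¹ * ((δ : G) * x * (δ : G)⁻¹)) := by group }
    obtain ⟨r, hr⟩ : ∃ r, Nat.card f.range = 2 ^ r :=
      IsPGroup.iff_card.1 ((hQ.to_le (Subgroup.map_subtype_le A')).to_subgroup f.range)
    have hk : f.ker.map C.subtype ≤ Subgroup.centralizer (Q : Set G) := by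
      rintro _ ⟨γ, hγ, rfl⟩
      rw [Subgroup.mem_centralizer_iff]
      intro q hq
      have hfx : (x : G)⁻¹ * ((γ : G) * x * (γ : G)⁻¹) = 1 := congrArg Subtype.val hγ
      have hx' : (γ : G) * x = x * γ := by
        rw [inv_mul_eq_one] at hfx
        exact (mul_inv_eq_iff_eq_mul.1 hfx.symm)
      have hall : ∀ y : Q, (γ : G) * (y : G) = y * γ := by
        intro y
        induction hgen y using Subgroup.closure_induction with
        | mem z hz =>
          rcases hz with rfl | hz
          · exact (Subgroup.mem_centralizer_iff.1 γ.2 (z : G)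
              (hDz ▸ Subgroup.mem_zpowers (z : G))).symm
          · rw [Set.mem_singleton_iff] at hz; subst hz; exact hx'
        | one => simp
        | mul u v _ _ hu hv => exact (Commute.mul_right (show Commute (γ : G) u from hu) hv)
        | inv u _ hu => exact (show Commute (γ : G) u from hu).inv_right
      exact (hall ⟨q, hq⟩).symm
    obtain ⟨s, hs⟩ := CfsgLib.InvChar.exists_card_eq_two_pow_of_le (hQ.to_le hC) hk
    rw [Subgroup.card_map_of_injective C.subtype_injective] at hs
    have hcardC : Nat.card C = 2 ^ (s + r) := by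
      rw [← Subgroup.card_mul_index f.ker, Subgroup.index_ker, hs, hr, pow_add]
    exact CfsgLib.InvChar.isPGroup_two_of_card_eq ⟨_, hcardC⟩ ⟨a', ha⟩
      (Subgroup.card_mul_index _).symm

/-- A finite solvable group with generalized quaternion Sylow 2-subgroup of order at least 32 has a normal 2-complement. -/
theorem result {G : Type*} [Group G] [Finite G] (hsol : Group.IsSolvable G) (T : Sylow 2 G) (n : ℕ) (hn : 3 ≤ n) (hT : Nonempty ((T : Subgroup G) ≃* QuaternionGroup (2 ^ n))) : Cfsg.HasNormalPComplement 2 G := by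
  haveI : Fact (Nat.Prime 2) := ⟨Nat.prime_two⟩
  obtain ⟨e⟩ := hT
  set O := Cfsg.oddCore G with hOdef
  haveI hOn : O.Normal := CfsgLib.Solvable.pPrimeCore_normal 2 G
  have hcop : (Nat.card O).Coprime 2 := CfsgLib.Solvable.pPrimeCore_card_coprime 2 G
  refine CfsgLib.InvChar.hasNormalPComplement_of_quotient O hcop ?_
  have hO : Cfsg.oddCore (G ⧸ O) = ⊥ := CfsgLib.Solvable.pPrimeCore_quotient_eq_bot _ hOdef
  haveI : Group.IsSolvable (G ⧸ O) := inferInstance
  haveI := CfsgLib.Solvable.pCore_normal 2 (G ⧸ O)
  -- the Sylow subgroup of the quotient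
  set f := (QuotientGroup.mk' O).comp (T : Subgroup G).subtype with hf
  have hfi : Function.Injective f := by
    rw [injective_iff_map_eq_one]
    intro t ht
    have h1 : (t : G) ∈ O := (QuotientGroup.eq_one_iff _).1 ht
    obtain ⟨k, hk⟩ := T.isPGroup' t
    have h2 : orderOf (t : G) ∣ 2 ^ k := by
      rw [Subgroup.orderOf_coe]; exact orderOf_dvd_of_pow_eq_one hk
    have h3 : orderOf (t : G) ∣ Nat.card O := by
      have := orderOf_dvd_natCard (⟨(t : G), h1⟩ : O)
      rwa [← Subgroup.orderOf_coe] at this
    exact Subtype.ext (orderOf_eq_one_iff.1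
      (Nat.eq_one_of_dvd_coprimes (hcop.pow_right k) h3 h2))
  let T' : Sylow 2 (G ⧸ O) := T.mapSurjective (QuotientGroup.mk'_surjective O)
  have hT' : (T' : Subgroup (G ⧸ O)) = f.range := by
    rw [hf, MonoidHom.range_comp, Subgroup.range_subtype]
    rfl
  let e' : f.range ≃* QuaternionGroup (2 ^ n) := (MonoidHom.ofInjective hfi).symm.trans e
  let g : Cfsg.pCore 2 (G ⧸ O) →* QuaternionGroup (2 ^ n) :=
    e'.toMonoidHom.comp (Subgroup.inclusion (hT' ▸ CfsgLib.Solvable.pCore_le_sylow T'))
  rcases automizer_dichotomy _ (CfsgLib.Solvable.pCore_isPGroup 2 (G ⧸ O)) g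
    (e'.injective.comp (Subgroup.inclusion_injective _))
    (CfsgLib.InvChar.centralizer_pCore_two_le hO) with h | h
  · exact h
  · have h32 : 2 ^ (n + 2) ∣ Nat.card (G ⧸ O) := by
      have h1 : Nat.card f.range = 2 ^ (n + 2) := by
        rw [Nat.card_congr e'.toEquiv, Nat.card_eq_fintype_card, QuaternionGroup.card, pow_add]
        ring
      exact h1 ▸ Subgroup.card_subgroup_dvd_card _
    obtain ⟨k, hk⟩ := h32
    refine IsPGroup.of_card (n := n + 2) ?_
    have hpos : 0 < Nat.card (G ⧸ O) := Nat.card_pos
    have hk1 : k = 1 := by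
      have : 2 ^ 5 ≤ 2 ^ (n + 2) := Nat.pow_le_pow_right (by norm_num) (by omega)
      rcases k with _ | _ | k
      · simp [hk] at hpos
      · rfl
      · exfalso
        nlinarith [Nat.zero_le k, hk, h]
    rw [hk, hk1, mul_one]

end Cfsg.Agent.S3294
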