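import Cfsg.Statements.S3299
import Cfsg.Agent.Lib.LargeExtra.Hyp

set_option autoImplicit false
open Cfsg

namespace Cfsg.Agent.S3299

open CfsgLib.LargeExtra

/-- Let G be a finite group with no nontrivial 2-group quotient (O^2(G) = G), z an involution of G with H = C_G(z), and suppose E = O_2(H) is extraspecial with C_G(E) ≤ E and of order 2^(2n+1) with n ≥ 2. Then E is contained in every normal subgroup of H of index 2. -/
theorem result {G : Type*} [Group G] [Finite G] (hres : Cfsg.pResidual 2 G = ⊤) (z : G) (hz : orderOf z = 2)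
    (E : Subgroup G) (hE : E = (Cfsg.pCore 2 ↥(Subgroup.centralizer ({z} : Set G))).map (Subgroup.centralizer ({z} : Set G)).subtype)
    (hext : Cfsg.IsExtraspecial 2 ↥E) (hcent : Subgroup.centralizer (E : Set G) ≤ E) (n : ℕ) (hn : 2 ≤ n) (hcard : Nat.card ↥E = 2 ^ (2 * n + 1))
    (K : Subgroup G) (hKH : K ≤ Subgroup.centralizer ({z} : Set G))
    (hKn : ∀ h ∈ Subgroup.centralizer ({z} : Set G), K.map (MulAut.conj h).toMonoidHom = K)
    (hKi : K.relIndex (Subgroup.centralizer ({z} : Set G)) = 2) : E ≤ K := by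
  have h := setting_of_hyp hz hE hext hcent
  have := Fintype.ofFinite (G ⧸ Subgroup.centralizer ({z} : Set G))
  classical
  set H := Subgroup.centralizer ({z} : Set G) with hH
  intro x hx
  have hxH : x ∈ H := mem_centralizer_z.2 (h.le_cent x hx)
  have hmul : ∀ a ∈ H, ∀ b ∈ H, (a * b ∈ K ↔ (a ∈ K ↔ b ∈ K)) := fun a ha b hb =>
    Subgroup.mul_mem_iff_of_index_two (a := (⟨a, ha⟩ : H)) (b := (⟨b, hb⟩ : H)) hKi
  let ψ : G → ZMod 2 := fun a => if a ∈ K then 0 else 1
  have hψ : ∀ a ∈ H, ∀ b ∈ H, ψ (a * b) = ψ a + ψ b := by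
    intro a ha b hb
    simp only [ψ, hmul a ha b hb]
    by_cases h1 : a ∈ K <;> by_cases h2 : b ∈ K <;> simp [h1, h2, zadd_self]
  have h32 : 32 ≤ Nat.card E := by
    rw [hcard]
    exact le_trans (by norm_num : 32 ≤ 2 ^ 5) (Nat.pow_le_pow_right two_pos (by omega))
  have hzero : ψ x = 0 := psi_eq_zero h hres ψ hψ hxH
    (fun g hg => Or.inr ⟨hx, fun _ => psi_commutator hψ
      (conj_z_mem_commutator h g (by omega) (by omega)).2⟩)
    (fun g _ => Or.inl hx)
  by_contra hxK
  simp [ψ, hxK] at hzero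

end Cfsg.Agent.S3299
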