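import Cfsg.Statements.S3301
import Cfsg.Agent.Lib.LargeExtra.Hyp
import Cfsg.Agent.Lib.LargeExtra.Small

set_option autoImplicit false
open Cfsg

namespace Cfsg.Agent.S3301

open CfsgLib.LargeExtra

theorem exists_char {A : Type*} [CommGroup A] [Finite A] {q : A} (hq : ∃ k, orderOf q = 2 ^ k)
    (hq2 : q ^ 2 ≠ 1) :
    ∃ χ : A → ZMod 2, (∀ a b, χ (a * b) = χ a + χ b) ∧ (∀ a, a * a = 1 → χ a = 0) ∧ ∃ a, χ a ≠ 0 := by
  classical
  have := Fact.mk Nat.prime_two
  set S := (powMonoidHom 2 : A →* A).range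
  obtain ⟨k, hk⟩ := hq
  set N := Nat.card A
  set T := (powMonoidHom (2 ^ N) : S →* S).range
  have hQ : IsPGroup 2 (S ⧸ T) := by
    intro x
    obtain ⟨s, rfl⟩ := QuotientGroup.mk_surjective x
    exact ⟨N, by rw [← QuotientGroup.mk_pow, QuotientGroup.eq_one_iff]; exact ⟨s, rfl⟩⟩
  let s₀ : S := ⟨q ^ 2, q, rfl⟩
  have hs : ((s₀ : S ⧸ T)) ≠ 1 := by
    intro e
    rw [QuotientGroup.eq_one_iff] at e
    obtain ⟨y, hy⟩ := e
    apply hq2
    have hy' : ((y : A)) ^ 2 ^ N = q ^ 2 := congrArg Subtype.val hy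
    have hk1 : k ≤ N := by
      have h1 : 2 ^ k ≤ Nat.card A := hk ▸ Nat.le_of_dvd Nat.card_pos (orderOf_dvd_natCard q)
      exact (Nat.lt_two_pow_self).le.trans h1
    -- the order of the power is odd
    have h1 : ∃ j, orderOf (q ^ 2) = 2 ^ j := by
      obtain ⟨j, -, hj⟩ := (Nat.dvd_prime_pow Nat.prime_two).1 (hk ▸ orderOf_pow_dvd (x := q) 2)
      exact ⟨j, hj⟩
    obtain ⟨a, m, hm, ham⟩ := Nat.exists_eq_two_pow_mul_odd (orderOf_pos (y : A)).ne'
    have ha : a ≤ N := by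
      have h1 : orderOf (y : A) ≤ N := Nat.le_of_dvd Nat.card_pos (orderOf_dvd_natCard _)
      have h2 : 2 ^ a ≤ orderOf (y : A) := by rw [ham]; exact Nat.le_mul_of_pos_right _ hm.pos
      exact Nat.lt_two_pow_self.le.trans (h2.trans h1)
    have h2 : (q ^ 2) ^ m = 1 := by
      rw [← hy', ← pow_mul, ← orderOf_dvd_iff_pow_eq_one, ham]
      exact Nat.mul_dvd_mul_right (pow_dvd_pow 2 ha) m
    obtain ⟨j, hj⟩ := h1
    have h3 := orderOf_dvd_of_pow_eq_one h2
    rw [← orderOf_eq_one_iff, hj]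
    exact Nat.eq_one_of_dvd_coprimes (Nat.Coprime.pow_left j (hm.coprime_two_left)) dvd_rfl (hj ▸ h3)
  obtain ⟨n, hn⟩ := IsPGroup.iff_card.1 hQ
  have hn0 : n ≠ 0 := fun e => by
    rw [e, pow_zero, Nat.card_eq_one_iff_unique] at hn
    exact hs (hn.1.elim _ _)
  obtain ⟨K, hK⟩ := Sylow.exists_subgroup_card_pow_prime 2 (n := n - 1) (G := S ⧸ T)
    (hn ▸ pow_dvd_pow 2 (Nat.sub_le n 1))
  have hK2 : K.index = 2 := by
    have h1 := K.card_mul_index
    rw [hK, hn] at h1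
    have : 2 ^ n = 2 ^ (n - 1) * 2 := by rw [← pow_succ]; congr 1; omega
    rw [this] at h1
    exact Nat.eq_of_mul_eq_mul_left (pow_pos two_pos _) h1
  let π : A → S ⧸ T := fun a => ((⟨a ^ 2, a, rfl⟩ : S) : S ⧸ T)
  have hπ : ∀ a b, π (a * b) = π a * π b := fun a b => by
    show _ = ((_ : S) : S ⧸ T) * _
    rw [← QuotientGroup.mk_mul]
    exact congrArg _ (Subtype.ext (mul_pow a b 2))
  refine ⟨fun a => if π a ∈ K then 0 else 1, fun a b => ?_, fun a ha => ?_, ?_⟩
  · simp only [hπ, Subgroup.mul_mem_iff_of_index_two hK2]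
    by_cases h1 : π a ∈ K <;> by_cases h2 : π b ∈ K <;> simp [h1, h2, zadd_self]
  · have : π a = 1 := by
      rw [QuotientGroup.eq_one_iff]
      convert T.one_mem using 1
      exact Subtype.ext (show a ^ 2 = 1 by rw [pow_two, ha])
    simp [this]
  · obtain ⟨y, hy, -⟩ := Subgroup.index_eq_two_iff_exists_notMem_and'.1 hK2
    obtain ⟨⟨_, a, rfl⟩, rfl⟩ := QuotientGroup.mk_surjective y
    have : π a ∉ K := hy
    exact ⟨a, by simp [this]⟩

/-- Let G be a finite group with no nontrivial 2-group quotient (O^2(G) = G), z an involution of G with H = C_G(z), and suppose E = O_2(H) is extraspecial with C_G(E) ≤ E. Then the Sylow 2-subgroups of H/[H, H] are elementary abelian: every element of 2-power order of the abelianization of H has order at most 2. -/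
theorem result {G : Type*} [Group G] [Finite G] (hres : Cfsg.pResidual 2 G = ⊤) (z : G) (hz : orderOf z = 2)
    (E : Subgroup G) (hE : E = (Cfsg.pCore 2 ↥(Subgroup.centralizer ({z} : Set G))).map (Subgroup.centralizer ({z} : Set G)).subtype)
    (hext : Cfsg.IsExtraspecial 2 ↥E) (hcent : Subgroup.centralizer (E : Set G) ≤ E) :
    ∀ q : Abelianization ↥(Subgroup.centralizer ({z} : Set G)), (∃ k : ℕ, orderOf q = 2 ^ k) → q ^ 2 = 1 := by
  have h := setting_of_hyp hz hE hext hcent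
  have := Fintype.ofFinite (G ⧸ Subgroup.centralizer ({z} : Set G))
  classical
  set H := Subgroup.centralizer ({z} : Set G) with hH
  intro q hq
  have hcomm : ∀ a : H, ((a : G) ∈ ⁅H, H⁆ ↔ Abelianization.of a = 1) := by
    intro a
    rw [← Subgroup.map_subtype_commutator, ← MonoidHom.mem_ker, Abelianization.ker_of]
    exact Subgroup.mem_map_iff_mem H.subtype_injective
  rcases card_cases hext with h8 | h32
  · -- `|E| = 8`
    obtain ⟨x, rfl⟩ : ∃ x, Abelianization.of x = q := QuotientGroup.mk_surjective q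
    obtain ⟨a, m, hm, ham⟩ := Nat.exists_eq_two_pow_mul_odd (orderOf_pos x).ne'
    have hsq : ((x ^ m : H) : G) * ((x ^ m : H) : G) ∈ ⁅H, H⁆ := by
      refine sq_mem_commutator h8 h (fun K hEK hKH hKn hK2 => ?_) (x ^ m).2 ⟨a, ?_⟩
      · refine le_antisymm (fun k hk => ?_) hEK
        rw [hE]
        refine ⟨⟨k, hKH hk⟩, CfsgLib.Solvable.le_pCore (N := K.subgroupOf H)
          ⟨fun n hn g => hKn g g.2 n hn⟩ (hK2.of_equiv (Subgroup.subgroupOfEquivOfLe hKH).symm) hk, rfl⟩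
      · rw [Subgroup.orderOf_coe, orderOf_pow' x hm.pos.ne', ham,
          Nat.gcd_eq_right (dvd_mul_left m (2 ^ a)), Nat.mul_div_cancel _ hm.pos]
    rw [← Subgroup.coe_mul, hcomm, ← pow_two, ← pow_mul, map_pow] at hsq
    obtain ⟨k, hk⟩ := hq
    rw [← orderOf_dvd_iff_pow_eq_one]
    refine Nat.Coprime.dvd_of_dvd_mul_left ?_ (orderOf_dvd_of_pow_eq_one hsq)
    rw [hk]
    exact Nat.Coprime.pow_left k hm.coprime_two_left
  have : Finite (Abelianization H) := inferInstanceAs (Finite (H ⧸ commutator H))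
  by_contra hq2
  obtain ⟨χ, hχ, hχ2, a₀, ha₀⟩ := exists_char hq hq2
  obtain ⟨x, rfl⟩ : ∃ x, Abelianization.of x = a₀ := QuotientGroup.mk_surjective a₀
  let ψ : G → ZMod 2 := fun a => if ha : a ∈ H then χ (Abelianization.of ⟨a, ha⟩) else 0
  have hψv : ∀ a : H, ψ a = χ (Abelianization.of a) := fun a => dif_pos a.2
  have hψ : ∀ a ∈ H, ∀ b ∈ H, ψ (a * b) = ψ a + ψ b := by
    intro a ha b hb
    rw [show a * b = ((⟨a, ha⟩ * ⟨b, hb⟩ : H) : G) from rfl, hψv, map_mul, hχ, ← hψv, ← hψv]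
  -- elements whose square is a commutator are killed
  have hkill : ∀ a ∈ H, a * a ∈ ⁅H, H⁆ → ψ a = 0 := by
    intro a ha haa
    rw [show a = ((⟨a, ha⟩ : H) : G) from rfl, hψv]
    refine hχ2 _ ?_
    rw [← map_mul, ← hcomm]
    exact haa
  have hbc : ∀ g : G, z ∈ stab z E g → ψ (g⁻¹ * z * g) = 0 := by
    intro g hg
    refine hkill _ (mem_stab.1 hg).2 ?_
    convert one_mem ⁅H, H⁆
    rw [show g⁻¹ * z * g * (g⁻¹ * z * g) = g⁻¹ * (z * z) * g by group, h.sq_one]
    group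
  refine ha₀ ((hψv x).symm.trans (psi_eq_zero h hres ψ hψ x.2 (fun g hg => Or.inl fun u hu => ?_)
    (fun g _ => Or.inr (hbc g))))
  refine hkill _ (mem_stab.1 hu).2 ?_
  rw [show g⁻¹ * u * g * (g⁻¹ * u * g) = g⁻¹ * (u * u) * g by group]
  rcases h.sq u (stab_le g hu) with e | e <;> rw [e]
  · rw [mul_one, inv_mul_cancel]
    exact one_mem _
  · exact (conj_z_mem_commutator h g (by omega) (by omega)).2

end Cfsg.Agent.S3301
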