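import Cfsg.Statements.S3303
import Cfsg.Agent.Lib.InvChar.SylowInter
import Cfsg.Agent.Lib.InvChar.SolvableCore

set_option autoImplicit false
open Cfsg

namespace Cfsg.Agent.S3303

/-- A solvable group with cyclic intersections of distinct Sylow 2-subgroups is 2-closed modulo its odd core. -/
theorem result {G : Type*} [Group G] [Finite G] (hs : Group.IsSolvable G)
    (hC : ∀ S T : Sylow 2 G, S ≠ T → IsCyclic ↥((S : Subgroup G) ⊓ (T : Subgroup G))) :
    ∃ P : Sylow 2 (G ⧸ Cfsg.oddCore G), (P : Subgroup (G ⧸ Cfsg.oddCore G)).Normal := by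
  haveI : Fact (Nat.Prime 2) := ⟨Nat.prime_two⟩
  haveI : (Cfsg.oddCore G).Normal := CfsgLib.Solvable.pPrimeCore_normal 2 G
  have hO : Cfsg.oddCore (G ⧸ Cfsg.oddCore G) = ⊥ :=
    CfsgLib.Solvable.pPrimeCore_quotient_eq_bot _ rfl
  haveI : Group.IsSolvable (G ⧸ Cfsg.oddCore G) := inferInstance
  inhabit Sylow 2 (G ⧸ Cfsg.oddCore G)
  refine ⟨default, ?_⟩
  set P : Sylow 2 (G ⧸ Cfsg.oddCore G) := default
  by_cases h : ∃ T : Sylow 2 (G ⧸ Cfsg.oddCore G), P ≠ T
  · obtain ⟨T, hT⟩ := h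
    have hc := CfsgLib.InvChar.cyclic_inter_of_surjective (QuotientGroup.mk'_surjective _) hC P T hT
    have hQ : IsCyclic (Cfsg.pCore 2 (G ⧸ Cfsg.oddCore G)) :=
      Subgroup.isCyclic_of_le (le_inf (CfsgLib.Solvable.pCore_le_sylow P)
        (CfsgLib.Solvable.pCore_le_sylow T))
    have hp := CfsgLib.InvChar.isPGroup_of_cyclic_pCore hO hQ
    exact absurd (Sylow.ext ((P.is_maximal' (hp.to_subgroup ⊤) le_top).symm.trans
      (T.is_maximal' (hp.to_subgroup ⊤) le_top))) hT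
  · push_neg at h
    haveI : Subsingleton (Sylow 2 (G ⧸ Cfsg.oddCore G)) := ⟨fun a b => (h a).symm.trans (h b)⟩
    exact Sylow.normal_of_subsingleton P

end Cfsg.Agent.S3303
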