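import Cfsg.Statements.S3309
import Cfsg.Agent.Lib.Fusion.ThompsonTransfer
import Mathlib.GroupTheory.SpecificGroups.Dihedral
import Mathlib.Tactic.Group

set_option autoImplicit false
set_option synthInstance.maxSize 2000
open Cfsg
open scoped Pointwise

namespace Cfsg.Agent.S3309

/-- The model `C₂ × D₈`. -/
abbrev X : Type := Multiplicative (ZMod 2) × DihedralGroup 4

/-- The square of the rotation. -/
def zX : X := (1, DihedralGroup.r 2)

/-- The generator of the direct factor. -/
def aX : X := (Multiplicative.ofAdd 1, 1)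

/-- The homomorphisms to `ZMod 2` nontrivial on the factor. -/
def phi (α β : ZMod 2) : X → ZMod 2
  | (t, DihedralGroup.r i) => Multiplicative.toAdd t + β * (i.val : ZMod 2)
  | (t, DihedralGroup.sr i) => Multiplicative.toAdd t + α + β * (i.val : ZMod 2)

theorem phi_mul : ∀ α β : ZMod 2, ∀ p q : X, phi α β (p * q) = phi α β p + phi α β q := by decide

/-- Central element test. -/
abbrev Cen (p : X) : Prop := ∀ q : X, q * p = p * q

/-- The main first subgroup, avoiding noncentral involutions. -/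
def M₀ : Subgroup X where
  carrier := {p | ∃ i : ZMod 4, p.2 = DihedralGroup.r i}
  one_mem' := ⟨0, rfl⟩
  mul_mem' := by
    rintro p q ⟨i, hi⟩ ⟨j, hj⟩
    exact ⟨i + j, by rw [Prod.snd_mul, hi, hj, DihedralGroup.r_mul_r]⟩
  inv_mem' := by
    rintro p ⟨i, hi⟩
    exact ⟨-i, by rw [Prod.snd_inv, hi, DihedralGroup.inv_r]⟩

instance M₀decMem : DecidablePred (· ∈ M₀) := fun p =>
  inferInstanceAs (Decidable (∃ i : ZMod 4, p.2 = DihedralGroup.r i))

/-- The kernel of `phi α β`. -/
def Mker (α β : ZMod 2) : Subgroup X where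
  carrier := {p | phi α β p = 0}
  one_mem' := by
    have := phi_mul α β 1 1
    rw [mul_one] at this
    exact left_eq_add.1 this
  mul_mem' := fun {p q} hp hq => by
    show phi α β (p * q) = 0
    rw [phi_mul, show phi α β p = 0 from hp, show phi α β q = 0 from hq, add_zero]
  inv_mem' := fun {p} hp => by
    show phi α β p⁻¹ = 0
    have h := phi_mul α β p p⁻¹
    rw [mul_inv_cancel, show phi α β p = 0 from hp, zero_add] at h
    rw [← h]
    have := phi_mul α β 1 1
    rw [mul_one] at this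
    exact left_eq_add.1 this

theorem central_inv : ∀ p : X, p * p = 1 → p ≠ 1 → Cen p → p = zX ∨ p = aX ∨ p = aX * zX := by
  decide
theorem not_square : ∀ p : X, p * p ≠ aX ∧ p * p ≠ aX * zX := by decide
theorem zX_square : ∃ p : X, p * p = zX := by decide
theorem zX_facts : Cen zX ∧ Cen aX ∧ Cen (aX * zX) ∧ zX * zX = 1 ∧ aX * aX = 1 ∧ zX ≠ aX ∧
    aX ≠ aX * zX ∧ zX ≠ aX * zX ∧ zX ≠ 1 ∧ aX ≠ 1 ∧ aX * zX ≠ 1 ∧ aX * zX * zX = aX := by decide
theorem inv_in_M₀ : ∀ p : X, p * p = 1 → p ∈ M₀ → Cen p := by decide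
theorem nonCen_conj : ∀ p : X, p * p = 1 → ¬ Cen p → ∃ q : X, q * p * q⁻¹ = p * zX := by decide
theorem cent_elem : ∀ u : X, u * u = 1 → ¬ Cen u → ∀ p : X, p * u = u * p → p * p = 1 := by decide
theorem cent_comm : ∀ u : X, u * u = 1 → ¬ Cen u → ∀ p : X, p * u = u * p → ∀ q : X, q * u = u * q →
    p * q = q * p := by decide
theorem cent_normal : ∀ u : X, u * u = 1 → ¬ Cen u → ∀ p : X, p * u = u * p → ∀ q : X,
    (q * p * q⁻¹) * u = u * (q * p * q⁻¹) := by decide
theorem kernel_choice : ∀ x : X, x * x = 1 → ¬ Cen x → ∀ y : X, y * y = 1 → ¬ Cen y →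
    x * y ≠ y * x → ∃ α β : ZMod 2, phi α β aX = 1 ∧ ∀ p : X, p * p = 1 → p ≠ 1 → phi α β p = 0 →
      p = zX ∨ p = x ∨ p = x * zX ∨ p = y ∨ p = y * zX := by decide
theorem other_inv : ∀ x : X, x * x = 1 → ¬ Cen x →
    ∃ y : X, y * y = 1 ∧ ¬ Cen y ∧ x * y ≠ y * x := by decide

variable {G : Type*} [Group G] [Finite G]

/-- Contradiction from a Sylow subgroup of type `C₂ × D₈` and no subgroup of index two. -/
theorem no_group (S : Sylow 2 G) (e : X ≃* (S : Subgroup G))
    (hG : ∀ M : Subgroup G, M.Normal → M.index ≠ 2) : False := by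
  haveI : Fact (Nat.Prime 2) := ⟨Nat.prime_two⟩
  set ι : X →* G := (S : Subgroup G).subtype.comp e.toMonoidHom with hι
  have hinj : Function.Injective ι := (S : Subgroup G).subtype_injective.comp e.injective
  have hmem : ∀ p, ι p ∈ (S : Subgroup G) := fun p => (e p).2
  have hsurj : ∀ g ∈ (S : Subgroup G), ∃ p, ι p = g := fun g hg =>
    ⟨e.symm ⟨g, hg⟩, by simp [hι]⟩
  -- transfer
  have transfer : ∀ (M : Subgroup X), M.index = 2 → ∀ u : X, u * u = 1 →
      ∃ (g : G) (m : X), m ∈ M ∧ g * ι u * g⁻¹ = ι m := by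
    intro M hM u hu
    by_contra h
    push Not at h
    have hodd : Odd (S : Subgroup G).index := Nat.odd_iff.2 (by
      have := S.not_dvd_index
      omega)
    have hQi : (M.map ι).relIndex (S : Subgroup G) = 2 := by
      have hrange : ι.range = (S : Subgroup G) :=
        le_antisymm (by rintro _ ⟨p, rfl⟩; exact hmem p) (fun g hg => hsurj g hg)
      rw [← hrange, ← Subgroup.index_comap, Subgroup.comap_map_eq_self_of_injective hinj, hM]
    obtain ⟨N, hN, hN2, -⟩ := CfsgLib.ThompsonTransfer.exists_normal_index_two (S : Subgroup G)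
      (M.map ι) hodd hQi (ι u) (by rw [pow_two, ← map_mul, hu, map_one]) (fun g hg => by
        obtain ⟨m, hm, hme⟩ := hg
        exact h g m hm hme.symm)
    exact hG N hN hN2
  -- odd powers of normalizing elements
  have oddPow : ∀ g : G, g ∈ Subgroup.normalizer ((S : Subgroup G) : Set G) →
      ∃ m : ℕ, Odd m ∧ g ^ m ∈ (S : Subgroup G) := by
    intro g hg
    obtain ⟨k, m, hm, hgo⟩ := Nat.exists_eq_pow_mul_and_not_dvd (orderOf_pos g).ne' 2 (by norm_num)
    refine ⟨m, Nat.odd_iff.2 (by omega), ?_⟩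
    have hp : IsPGroup 2 (Subgroup.zpowers (g ^ m)) := by
      have h1 : orderOf (g ^ m) ∣ 2 ^ k := orderOf_dvd_of_pow_eq_one (by
        rw [← pow_mul, mul_comm, ← hgo, pow_orderOf_eq_one])
      obtain ⟨j, -, hj⟩ := (Nat.dvd_prime_pow Nat.prime_two).1 h1
      exact IsPGroup.of_card (n := j) (by rw [Nat.card_zpowers, hj])
    have hsup := IsPGroup.to_sup_of_normal_right' hp S.isPGroup'
      (Subgroup.zpowers_le.2 (Subgroup.pow_mem _ hg m))
    exact (S.is_maximal' hsup le_sup_right).le
      (Subgroup.mem_sup_left (Subgroup.mem_zpowers _))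
  -- the three central involutions are pairwise nonconjugate
  have central_sep : ∀ p q : X, p * p = 1 → p ≠ 1 → Cen p → Cen q → ∀ g : G,
      g * ι p * g⁻¹ = ι q → p = q := by
    intro p q hp hp1 hpc hqc g hg
    have hcent : ∀ r : X, Cen r → ι r ∈ Subgroup.centralizer ((S : Subgroup G) : Set G) := by
      intro r hr
      rw [Subgroup.mem_centralizer_iff]
      intro s hs
      obtain ⟨s', rfl⟩ := hsurj s hs
      rw [← map_mul, ← map_mul, hr s']
    obtain ⟨n, hn, he⟩ := S.conj_eq_normalizer_conj_of_mem_centralizer (ι p) g⁻¹ (hcent p hpc)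
      (by rw [inv_inv, hg]; exact hcent q hqc)
    rw [inv_inv, hg] at he
    -- `n⁻¹` sends `ι p` to `ι q` and normalizes `S`
    set k := n⁻¹ with hk
    have hk' : k ∈ Subgroup.normalizer ((S : Subgroup G) : Set G) := Subgroup.inv_mem _ hn
    have hkp : k * ι p * k⁻¹ = ι q := by rw [he, hk, inv_inv]
    have hq : q * q = 1 := hinj (by rw [map_mul, map_one, ← hkp,
      show k * ι p * k⁻¹ * (k * ι p * k⁻¹) = k * (ι p * ι p) * k⁻¹ by group, ← map_mul, hp,
      map_one, mul_one, mul_inv_cancel])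
    have hq1 : q ≠ 1 := fun h => hp1 (hinj (by
      rw [h, map_one, mul_inv_eq_one, mul_eq_left] at hkp
      rw [hkp, map_one]))
    have hz : ∀ n' ∈ Subgroup.normalizer ((S : Subgroup G) : Set G),
        n' * ι zX * n'⁻¹ ≠ ι aX ∧ n' * ι zX * n'⁻¹ ≠ ι (aX * zX) := by
      intro n' hn'
      obtain ⟨s, hs⟩ := zX_square
      obtain ⟨s', hs'⟩ := hsurj _ ((Subgroup.mem_normalizer_iff.1 hn' _).1 (hmem s))
      have : n' * ι zX * n'⁻¹ = ι (s' * s') := by
        rw [map_mul, hs', ← hs, map_mul]; group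
      rw [this]
      exact ⟨fun h => (not_square s').1 (hinj h), fun h => (not_square s').2 (hinj h)⟩
    by_contra hne
    obtain ⟨-, -, -, hzz, haa, hza, haz, hzaz, -, -, -, hzz'⟩ := zX_facts
    -- `k` exchanges `aX` and `aX * zX`, and fixes `zX`
    have hswap : ∀ r : X, r = aX ∨ r = aX * zX → ∀ r' : X, r' = aX ∨ r' = aX * zX →
        k * ι r * k⁻¹ = ι r' → r = r' := by
      intro r hr r' hr' hrr
      by_contra hne'
      obtain ⟨m, hmo, hm⟩ := oddPow k hk'
      have hkz : k * ι zX * k⁻¹ = ι zX := by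
        obtain ⟨y, hy⟩ := hsurj _ ((Subgroup.mem_normalizer_iff.1 hk' _).1 (hmem zX))
        have hy2 : y * y = 1 := hinj (by
          rw [map_mul, map_one, hy, show k * ι zX * k⁻¹ * (k * ι zX * k⁻¹) =
            k * (ι zX * ι zX) * k⁻¹ by group, ← map_mul, hzz, map_one, mul_one, mul_inv_cancel])
        have hy1 : y ≠ 1 := fun h => zX_facts.2.2.2.2.2.2.2.2.1 (hinj (by
          rw [h, map_one] at hy
          rw [map_one]
          calc ι zX = k⁻¹ * (k * ι zX * k⁻¹) * k := by group
            _ = 1 := by rw [← hy]; group))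
        have hyc : Cen y := fun s => hinj (by
          obtain ⟨s', hs'⟩ := hsurj _ ((Subgroup.mem_normalizer_iff''.1 hk' _).1 (hmem s))
          rw [map_mul, map_mul, hy]
          have hc := congrArg ι (zX_facts.1 s')
          rw [map_mul, map_mul, hs'] at hc
          calc ι s * (k * ι zX * k⁻¹) = k * (k⁻¹ * ι s * k * ι zX) * k⁻¹ := by group
            _ = k * (ι zX * (k⁻¹ * ι s * k)) * k⁻¹ := by rw [hc]
            _ = k * ι zX * k⁻¹ * ι s := by group)
        rcases central_inv y hy2 hy1 hyc with h | h | h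
        · rw [← hy, h]
        · exact absurd (hy.symm.trans (congrArg ι h)) (hz k hk').1
        · exact absurd (hy.symm.trans (congrArg ι h)) (hz k hk').2
      have hrz : r * zX = r' ∧ r' * zX = r := by
        rcases hr with rfl | rfl <;> rcases hr' with rfl | rfl
        · exact absurd rfl hne'
        · exact ⟨rfl, hzz'⟩
        · exact ⟨hzz', rfl⟩
        · exact absurd rfl hne'
      have hrr' : k * ι r' * k⁻¹ = ι r := by
        rw [← hrz.1, map_mul, show k * (ι r * ι zX) * k⁻¹ =
          (k * ι r * k⁻¹) * (k * ι zX * k⁻¹) by group, hrr, hkz, ← map_mul, hrz.2]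
      have hpow : ∀ j : ℕ, k ^ (2 * j) * ι r * (k ^ (2 * j))⁻¹ = ι r := by
        intro j
        induction j with
        | zero => simp
        | succ j ih =>
          rw [show k ^ (2 * (j + 1)) * ι r * (k ^ (2 * (j + 1)))⁻¹ =
            k * (k * (k ^ (2 * j) * ι r * (k ^ (2 * j))⁻¹) * k⁻¹) * k⁻¹ by
              rw [show 2 * (j + 1) = 1 + (1 + 2 * j) by omega, pow_add, pow_add, pow_one]; group,
            ih, hrr, hrr']
      obtain ⟨j, hj⟩ := hmo
      have h1 : k ^ m * ι r * (k ^ m)⁻¹ = ι r' := by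
        rw [hj, show k ^ (2 * j + 1) * ι r * (k ^ (2 * j + 1))⁻¹ =
          k * (k ^ (2 * j) * ι r * (k ^ (2 * j))⁻¹) * k⁻¹ by
            rw [show 2 * j + 1 = 1 + 2 * j by omega, pow_add, pow_one]; group, hpow, hrr]
      obtain ⟨s, hs⟩ := hsurj _ hm
      have hrc : Cen r := by
        rcases hr with rfl | rfl
        · exact zX_facts.2.1
        · exact zX_facts.2.2.1
      rw [← hs, ← map_mul, ← map_inv, ← map_mul, hrc s, mul_inv_cancel_right] at h1
      exact hne' (hinj h1)
    rcases central_inv p hp hp1 hpc with h1 | h1 | h1 <;>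
      rcases central_inv q hq hq1 hqc with h2 | h2 | h2
    · exact hne (h1.trans h2.symm)
    · exact (hz k hk').1 (by rw [← h1, hkp, h2])
    · exact (hz k hk').2 (by rw [← h2, ← hkp, h1])
    · exact (hz _ hn).1 (by rw [← h1, ← h2, ← hkp, hk]; group)
    · exact hne (h1.trans h2.symm)
    · exact hne (hswap p (Or.inl h1) q (Or.inr h2) hkp)
    · exact (hz _ hn).2 (by rw [← h1, ← h2, ← hkp, hk]; group)
    · exact hne (hswap p (Or.inr h1) q (Or.inl h2) hkp)
    · exact hne (h1.trans h2.symm)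
  -- every noncentral involution `u` has a conjugate of `zX` among the noncentral ones in `C(u)`
  have hfuse : ∀ u : X, u * u = 1 → ¬ Cen u →
      ∃ (v : X) (g : G), v * v = 1 ∧ ¬ Cen v ∧ v * u = u * v ∧ g * ι zX * g⁻¹ = ι v := by
    intro u hu hnu
    have hu1 : u ≠ 1 := fun h => hnu (fun q => by rw [h, mul_one, one_mul])
    have hM₀ : M₀.index = 2 := by
      rw [Subgroup.index_eq_two_iff]
      refine ⟨(1, DihedralGroup.sr 0), ?_⟩
      decide
    obtain ⟨g, c, hc, hgc⟩ := transfer M₀ hM₀ u hu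
    have hc2 : c * c = 1 := hinj (by
      rw [map_mul, map_one, ← hgc,
        show g * ι u * g⁻¹ * (g * ι u * g⁻¹) = g * (ι u * ι u) * g⁻¹ by group, ← map_mul, hu,
        map_one, mul_one, mul_inv_cancel])
    have hcc : Cen c := inv_in_M₀ c hc2 hc
    -- the centralizer of `u` in `X`
    let Cu : X → Subgroup X := fun w => Subgroup.centralizer ({w} : Set X)
    have hCu : ∀ w p : X, p ∈ Cu w ↔ p * w = w * p := fun w p =>
      Subgroup.mem_centralizer_singleton_iff
    set E : Subgroup G := (Cu u).map ι with hE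
    -- move it into `S`, inside the centralizer of the central element
    have hEC : E.map (MulAut.conj g).toMonoidHom ≤ Subgroup.centralizer ({ι c} : Set G) := by
      rintro _ ⟨_, ⟨p, hp, rfl⟩, rfl⟩
      rw [Subgroup.mem_centralizer_singleton_iff, ← hgc]
      have hp' := congrArg ι ((hCu u p).1 hp)
      rw [map_mul, map_mul] at hp'
      simp only [MulEquiv.coe_toMonoidHom, MulAut.conj_apply]
      calc g * ι p * g⁻¹ * (g * ι u * g⁻¹) = g * (ι p * ι u) * g⁻¹ := by group
        _ = g * (ι u * ι p) * g⁻¹ := by rw [hp']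
        _ = g * ι u * g⁻¹ * (g * ι p * g⁻¹) := by group
    set C := Subgroup.centralizer ({ι c} : Set G) with hC
    have hSC : (S : Subgroup G) ≤ C := by
      intro s hs
      obtain ⟨s', rfl⟩ := hsurj s hs
      rw [hC, Subgroup.mem_centralizer_singleton_iff, ← map_mul, ← map_mul, hcc s']
    set E' := E.map (MulAut.conj g).toMonoidHom with hE'
    have hE'p : IsPGroup 2 E' := by
      have hX : IsPGroup 2 X := IsPGroup.of_card (n := 4) (by
        rw [Nat.card_prod, Nat.card_eq_fintype_card, Nat.card_eq_fintype_card]; rfl)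
      exact ((hX.to_subgroup _).map ι).map _
    obtain ⟨T, hT⟩ := (hE'p.comap_of_injective C.subtype C.subtype_injective).exists_le_sylow
    obtain ⟨h, hh⟩ := MulAction.exists_smul_eq C T (S.subtype hSC)
    set w : G := (h : G) * g with hw
    have hwu : w * ι u * w⁻¹ = ι c := by
      rw [hw, show (h : G) * g * ι u * ((h : G) * g)⁻¹ = h * (g * ι u * g⁻¹) * (h : G)⁻¹ by group,
        hgc]
      have := (Subgroup.mem_centralizer_singleton_iff.1 h.2 : (h : G) * ι c = ι c * h)
      rw [this, mul_inv_cancel_right]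
    have hwS : ∀ p ∈ Cu u, ∃ q : X, w * ι p * w⁻¹ = ι q := by
      intro p hp
      have h1 : g * ι p * g⁻¹ ∈ E' := ⟨ι p, ⟨p, hp, rfl⟩, rfl⟩
      have h2 : (⟨_, hEC h1⟩ : C) ∈ (T : Subgroup C) := hT h1
      have h3 : h * ⟨_, hEC h1⟩ * h⁻¹ ∈ ((S.subtype hSC : Sylow 2 C) : Subgroup C) := by
        rw [← hh, Sylow.coe_subgroup_smul]
        exact ⟨_, h2, rfl⟩
      obtain ⟨q, hq⟩ := hsurj _ h3
      exact ⟨q, by rw [hq, hw]; simp [mul_assoc]⟩
    choose f hf using hwS
    have hcu : c ∈ Cu u := (hCu u c).2 (hcc u).symm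
    have hzu : zX ∈ Cu u := (hCu u zX).2 (zX_facts.1 u).symm
    have hau : aX ∈ Cu u := (hCu u aX).2 (zX_facts.2.1 u).symm
    have fsq : ∀ p hp, f p hp * f p hp = 1 := fun p hp => hinj (by
      rw [map_mul, map_one, ← hf p hp,
        show w * ι p * w⁻¹ * (w * ι p * w⁻¹) = w * (ι p * ι p) * w⁻¹ by group, ← map_mul,
        cent_elem u hu hnu p ((hCu u p).1 hp), map_one, mul_one, mul_inv_cancel])
    have fcomm : ∀ p hp q hq, f p hp * f q hq = f q hq * f p hp := fun p hp q hq => hinj (by
      rw [map_mul, map_mul, ← hf p hp, ← hf q hq]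
      have := congrArg ι (cent_comm u hu hnu p ((hCu u p).1 hp) q ((hCu u q).1 hq))
      rw [map_mul, map_mul] at this
      calc w * ι p * w⁻¹ * (w * ι q * w⁻¹) = w * (ι p * ι q) * w⁻¹ := by group
        _ = w * (ι q * ι p) * w⁻¹ := by rw [this]
        _ = w * ι q * w⁻¹ * (w * ι p * w⁻¹) := by group)
    -- `zX` cannot be fixed, so goes to a noncentral involution
    set v := f zX hzu with hv
    have hv1 : v ≠ 1 := fun h' => by
      have := hf zX hzu
      rw [← hv, h', map_one, mul_inv_eq_one, mul_eq_left] at this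
      exact zX_facts.2.2.2.2.2.2.2.2.1 (hinj (this.trans (map_one ι).symm))
    have hvnc : ¬ Cen v := by
      intro hvc
      have hvz : v = zX := (central_sep zX v zX_facts.2.2.2.1 zX_facts.2.2.2.2.2.2.2.2.1 zX_facts.1
        hvc w (hf zX hzu)).symm
      obtain ⟨q, hq⟩ := nonCen_conj u hu hnu
      -- `u * zX` is conjugate to `u`, hence `c * zX` to `c`
      have h1 : w * ι (u * zX) * w⁻¹ = ι (c * zX) := by
        rw [map_mul, map_mul, show w * (ι u * ι zX) * w⁻¹ =
          (w * ι u * w⁻¹) * (w * ι zX * w⁻¹) by group, hwu, hf zX hzu, ← hv, hvz]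
      rw [← hq, map_mul, map_mul, map_inv] at h1
      have h2 : (w * ι q * w⁻¹) * ι c * (w * ι q * w⁻¹)⁻¹ = ι (c * zX) := by
        rw [← h1, ← hwu]; group
      have hc1 : c ≠ 1 := fun h' => hu1 (hinj (by
        rw [h', map_one, mul_inv_eq_one, mul_eq_left] at hwu
        rw [hwu, map_one]))
      have h3 := central_sep c (c * zX) hc2 hc1 hcc (fun s => by
        rw [← mul_assoc, hcc s, mul_assoc, zX_facts.1 s, ← mul_assoc]) _ h2
      exact zX_facts.2.2.2.2.2.2.2.2.1 (left_eq_mul.1 h3)
    -- the moved centralizer is the centralizer of `v`; it equals that of `u`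
    have hle : ∀ p hp, f p hp ∈ Cu v := fun p hp =>
      (hCu v _).2 (fcomm p hp zX hzu)
    have hvu : v * u = u * v := by
      by_contra hvu
      -- the conjugation by `w` maps `Cu u` onto `Cu v`
      let F : Cu u → Cu v := fun p => ⟨f p p.2, hle p p.2⟩
      have hFi : Function.Injective F := fun p q hpq => Subtype.ext (hinj (by
        have h1 := hf p p.2
        rw [show f p p.2 = f q q.2 from congrArg Subtype.val hpq, ← hf q q.2] at h1
        exact mul_left_cancel (mul_right_cancel h1)))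
      have hcard : ∀ x : X, x * x = 1 → ¬ Cen x →
          (Finset.univ.filter fun p : X => p * x = x * p).card = 8 := by decide
      have hFs : Function.Surjective F := by
        refine (hFi.bijective_of_nat_card_le (le_of_eq ?_)).2
        rw [Nat.card_congr (Equiv.subtypeEquivRight (hCu v)),
          Nat.card_congr (Equiv.subtypeEquivRight (hCu u)), Nat.card_eq_fintype_card,
          Nat.card_eq_fintype_card, Fintype.card_subtype, Fintype.card_subtype,
          hcard v (fsq zX hzu) hvnc, hcard u hu hnu]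
      -- both images are normalized by `S`
      set E₂ : Subgroup G := (Cu v).map ι with hE₂
      have hEw : E.map (MulAut.conj w).toMonoidHom = E₂ := by
        apply le_antisymm
        · rintro _ ⟨_, ⟨p, hp, rfl⟩, rfl⟩
          exact ⟨f p hp, hle p hp, (hf p hp).symm⟩
        · rintro _ ⟨p, hp, rfl⟩
          obtain ⟨q, hq⟩ := hFs ⟨p, hp⟩
          exact ⟨ι q, ⟨q, q.2, rfl⟩, (hf q q.2).trans (congrArg ι (congrArg Subtype.val hq))⟩
      have hSN : ∀ x : X, x * x = 1 → ¬ Cen x →
          (S : Subgroup G) ≤ Subgroup.normalizer (((Cu x).map ι : Subgroup G) : Set G) := by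
        intro x hx hnx s hs
        obtain ⟨s', rfl⟩ := hsurj s hs
        rw [Subgroup.mem_normalizer_iff]
        intro y
        constructor
        · rintro ⟨p, hp, rfl⟩
          exact ⟨s' * p * s'⁻¹, (hCu x _).2 (cent_normal x hx hnx p ((hCu x p).1 hp) s'),
            by simp [map_mul]⟩
        · rintro ⟨p, hp, he⟩
          refine ⟨s'⁻¹ * p * s'⁻¹⁻¹, (hCu x _).2 (cent_normal x hx hnx p ((hCu x p).1 hp) s'⁻¹), ?_⟩
          simp [map_mul, map_inv, he, mul_assoc]
      set N := Subgroup.normalizer (E₂ : Set G) with hN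
      have hS₂ : (S : Subgroup G) ≤ N := hSN v (fsq zX hzu) hvnc
      have hSw : ((MulAut.conj w • S : Sylow 2 G) : Subgroup G) ≤ N := by
        intro z hz
        rw [Sylow.pointwise_smul_def, Subgroup.mem_pointwise_smul_iff_inv_smul_mem, ← map_inv,
          MulAut.smul_def, MulAut.conj_apply, inv_inv] at hz
        obtain ⟨s, hs, rfl⟩ : ∃ s ∈ (S : Subgroup G), w * s * w⁻¹ = z :=
          ⟨_, hz, by group⟩
        rw [hN, Subgroup.mem_normalizer_iff]
        intro y
        have h1 := Subgroup.mem_normalizer_iff.1 (hSN u hu hnu hs) (w⁻¹ * y * w)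
        have hmem' : ∀ y, y ∈ E₂ ↔ w⁻¹ * y * w ∈ E := fun y => by
          rw [← hEw, Subgroup.mem_map_equiv]; simp [mul_assoc]
        rw [hmem', hmem', h1,
          show w⁻¹ * (w * s * w⁻¹ * y * (w * s * w⁻¹)⁻¹) * w = s * (w⁻¹ * y * w) * s⁻¹ by group]
      obtain ⟨k, hk⟩ := MulAction.exists_smul_eq N ((MulAut.conj w • S : Sylow 2 G).subtype hSw)
        (S.subtype hS₂)
      set n : G := (k : G) * w with hn
      have hnS : n ∈ Subgroup.normalizer ((S : Subgroup G) : Set G) := by
        refine Sylow.smul_eq_iff_mem_normalizer.1 ?_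
        rw [Sylow.smul_def]
        apply Sylow.ext
        ext y
        have hk' := congrArg (fun P : Sylow 2 N => (P : Subgroup N)) hk
        simp only [Sylow.coe_subgroup_smul, Sylow.coe_subtype] at hk'
        rw [Sylow.pointwise_smul_def, Subgroup.mem_pointwise_smul_iff_inv_smul_mem,
          ← map_inv, MulAut.smul_def, MulAut.conj_apply]
        constructor
        · intro hy
          have hy' : (k : G)⁻¹ * y * k ∈ ((MulAut.conj w • S : Sylow 2 G) : Subgroup G) := by
            rw [Sylow.pointwise_smul_def, Subgroup.mem_pointwise_smul_iff_inv_smul_mem, ← map_inv,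
              MulAut.smul_def, MulAut.conj_apply]
            convert hy using 1
            rw [hn]; group
          have hyN : y ∈ N := by
            have := N.mul_mem (N.mul_mem k.2 (hSw hy')) (N.inv_mem k.2)
            rwa [show (k : G) * ((k : G)⁻¹ * y * k) * (k : G)⁻¹ = y by group] at this
          have h4 : (⟨y, hyN⟩ : N) ∈ MulAut.conj k •
              ((MulAut.conj w • S : Sylow 2 G) : Subgroup G).subgroupOf N := by
            rw [Subgroup.mem_pointwise_smul_iff_inv_smul_mem, ← map_inv, MulAut.smul_def,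
              MulAut.conj_apply, Subgroup.mem_subgroupOf]
            simpa using hy'
          rw [hk'] at h4
          exact h4
        · intro hy
          have h4 : (⟨y, hS₂ hy⟩ : N) ∈ (S : Subgroup G).subgroupOf N := hy
          rw [← hk', Subgroup.mem_pointwise_smul_iff_inv_smul_mem, ← map_inv, MulAut.smul_def,
            MulAut.conj_apply, Subgroup.mem_subgroupOf] at h4
          simp only [Subgroup.coe_mul, Subgroup.coe_inv, inv_inv] at h4
          rw [Sylow.pointwise_smul_def, Subgroup.mem_pointwise_smul_iff_inv_smul_mem, ← map_inv,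
            MulAut.smul_def, MulAut.conj_apply] at h4
          convert h4 using 1
          rw [hn]; group
      -- `n` maps `E` to `E₂`; an odd power lies in `S`
      have hnE : ∀ y : G, y ∈ E ↔ n * y * n⁻¹ ∈ E₂ := by
        intro y
        have h1 := Subgroup.mem_normalizer_iff.1 k.2 (w * y * w⁻¹)
        rw [← hEw] at h1 ⊢
        rw [hn, show (k : G) * w * y * ((k : G) * w)⁻¹ = k * (w * y * w⁻¹) * (k : G)⁻¹ by group,
          ← h1, Subgroup.mem_map_equiv]
        simp [mul_assoc]
      -- elements of `N(S)` permute the two groups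
      have hperm : ∀ y : G, y ∈ E₂ ↔ n * y * n⁻¹ ∈ E := by
        -- `n` fixes the set of noncentral involution centralizers, of which there are two
        have htwo : ∀ x : X, x * x = 1 → ¬ Cen x → x * v = v * x ∨ x * u = u * x := by
          have : ∀ u : X, u * u = 1 → ¬ Cen u → ∀ v : X, v * v = 1 → ¬ Cen v → v * u ≠ u * v →
              ∀ x : X, x * x = 1 → ¬ Cen x → x * v = v * x ∨ x * u = u * x := by decide
          exact this u hu hnu v (fsq zX hzu) hvnc hvu
        have hsame : ∀ x : X, x * x = 1 → ¬ Cen x → ∀ x' : X, x' * x' = 1 → ¬ Cen x' →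
            x * x' = x' * x → ∀ p : X, p * x = x * p → p * x' = x' * p := fun x hx hnx x' _ _ hc p hp =>
          (cent_comm x hx hnx p hp x' hc.symm)
        have hnX : ∀ p : X, ∃ q : X, n * ι p * n⁻¹ = ι q := fun p => by
          obtain ⟨q, hq⟩ := hsurj _ ((Subgroup.mem_normalizer_iff.1 hnS _).1 (hmem p))
          exact ⟨q, hq.symm⟩
        obtain ⟨x, hx⟩ := hnX v
        have hx2 : x * x = 1 := hinj (by
          rw [map_mul, map_one, ← hx, show n * ι v * n⁻¹ * (n * ι v * n⁻¹) =
            n * (ι v * ι v) * n⁻¹ by group, ← map_mul, fsq zX hzu, map_one, mul_one,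
            mul_inv_cancel])
        have hxc : ¬ Cen x := fun hxc => hvnc fun q => hinj (by
          obtain ⟨q', hq'⟩ := hnX q
          have h1 := congrArg ι (hxc q')
          rw [map_mul, map_mul, ← hq', ← hx] at h1
          rw [map_mul, map_mul]
          calc ι q * ι v = n⁻¹ * (n * ι q * n⁻¹ * (n * ι v * n⁻¹)) * n := by group
            _ = n⁻¹ * (n * ι v * n⁻¹ * (n * ι q * n⁻¹)) * n := by rw [h1]
            _ = ι v * ι q := by group)
        have hxu : x * u = u * x := by
          refine (htwo x hx2 hxc).resolve_left fun hxv => hvu ?_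
          -- then `v` would lie in `E`
          have h1 : n * ι v * n⁻¹ ∈ E₂ := hx ▸ ⟨x, (hCu v x).2 hxv, rfl⟩
          obtain ⟨p, hp, hpe⟩ := (hnE _).2 h1
          rw [← hinj hpe]
          exact (hCu u p).1 hp
        intro y
        constructor
        · rintro ⟨p, hp, rfl⟩
          obtain ⟨q, hq⟩ := hnX p
          refine ⟨q, (hCu u q).2 (hsame x hx2 hxc u hu hnu hxu q (hinj ?_)), hq.symm⟩
          have hp' := congrArg ι ((hCu v p).1 hp)
          rw [map_mul, map_mul] at hp'
          rw [map_mul, map_mul, ← hq, ← hx]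
          calc n * ι p * n⁻¹ * (n * ι v * n⁻¹) = n * (ι p * ι v) * n⁻¹ := by group
            _ = n * (ι v * ι p) * n⁻¹ := by rw [hp']
            _ = n * ι v * n⁻¹ * (n * ι p * n⁻¹) := by group
        · rintro ⟨q, hq, he⟩
          obtain ⟨p, hp⟩ := hsurj y (by
            have h1 : n * y * n⁻¹ ∈ (S : Subgroup G) := he ▸ hmem q
            exact (Subgroup.mem_normalizer_iff.1 hnS y).2 h1)
          subst hp
          refine ⟨p, (hCu v p).2 (hinj ?_), rfl⟩
          have hq' := congrArg ι (hsame u hu hnu x hx2 hxc hxu.symm q ((hCu u q).1 hq))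
          rw [map_mul, map_mul, he, ← hx] at hq'
          rw [map_mul, map_mul]
          calc ι p * ι v = n⁻¹ * (n * ι p * n⁻¹ * (n * ι v * n⁻¹)) * n := by group
            _ = n⁻¹ * (n * ι v * n⁻¹ * (n * ι p * n⁻¹)) * n := by rw [hq']
            _ = ι v * ι p := by group
      have hpow : ∀ j : ℕ, ∀ y : G, y ∈ E ↔ n ^ (2 * j + 1) * y * (n ^ (2 * j + 1))⁻¹ ∈ E₂ := by
        intro j
        induction j with
        | zero => intro y; simpa using hnE y
        | succ j ih =>
          intro y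
          rw [ih y, hperm, hnE]
          rw [show 2 * (j + 1) + 1 = 1 + (1 + (2 * j + 1)) by omega, pow_add n 1, pow_add n 1,
            pow_one]
          group
      obtain ⟨m, ⟨j, rfl⟩, hm⟩ := oddPow n hnS
      refine hvu ?_
      have h1 := (hpow j ((n ^ (2 * j + 1))⁻¹ * ι v * n ^ (2 * j + 1))).2 (by
        rw [show n ^ (2 * j + 1) * ((n ^ (2 * j + 1))⁻¹ * ι v * n ^ (2 * j + 1)) *
          (n ^ (2 * j + 1))⁻¹ = ι v by group]
        exact ⟨v, (hCu v v).2 rfl, rfl⟩)
      have h2 := (Subgroup.mem_normalizer_iff''.1 ((hSN u hu hnu) (Subgroup.inv_mem _ hm)) _).1 h1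
      rw [inv_inv, show n ^ (2 * j + 1) * ((n ^ (2 * j + 1))⁻¹ * ι v * n ^ (2 * j + 1)) *
        (n ^ (2 * j + 1))⁻¹ = ι v by group] at h2
      obtain ⟨p, hp, hpe⟩ := h2
      rw [← hinj hpe]
      exact (hCu u p).1 hp
    exact ⟨v, w, fsq zX hzu, hvnc, hvu, hf zX hzu⟩
  -- two transverse noncentral involutions conjugate to `zX`
  obtain ⟨u₁, hu₁, hu₁'⟩ : ∃ u : X, u * u = 1 ∧ ¬ Cen u := by decide
  obtain ⟨x, gx, hx, hxn, -, hgx⟩ := hfuse u₁ hu₁ hu₁'
  obtain ⟨u₂, hu₂, hu₂n, hu₂x⟩ := other_inv x hx hxn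
  obtain ⟨y, gy, hy, hyn, hyu, hgy⟩ := hfuse u₂ hu₂ hu₂n
  have hxy : x * y ≠ y * x := fun h =>
    hu₂x (cent_comm y hy hyn x h u₂ hyu.symm)
  obtain ⟨α, β, haφ, hker⟩ := kernel_choice x hx hxn y hy hyn hxy
  have hMi : (Mker α β).index = 2 := by
    rw [Subgroup.index_eq_two_iff]
    refine ⟨aX, fun b => ?_⟩
    show Xor (phi α β (b * aX) = 0) (phi α β b = 0)
    rw [phi_mul, haφ, xor_iff_iff_not]
    have : ∀ c : ZMod 2, (c + 1 = 0) ↔ ¬ (c = 0) := by decide
    exact this _
  obtain ⟨g, m, hm, hgm⟩ := transfer (Mker α β) hMi aX zX_facts.2.2.2.2.1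
  have hm2 : m * m = 1 := hinj (by
    rw [map_mul, map_one, ← hgm,
      show g * ι aX * g⁻¹ * (g * ι aX * g⁻¹) = g * (ι aX * ι aX) * g⁻¹ by group, ← map_mul,
      zX_facts.2.2.2.2.1, map_one, mul_one, mul_inv_cancel])
  have hm1 : m ≠ 1 := fun h => zX_facts.2.2.2.2.2.2.2.2.2.1 (hinj (by
    rw [h, map_one, mul_inv_eq_one, mul_eq_left] at hgm
    rw [hgm, map_one]))
  -- `aX` would be conjugate to `zX`
  have hconj : ∃ k : G, k * ι zX * k⁻¹ = ι m := by
    have hxz : ∀ t : X, t * t = 1 → ¬ Cen t → ∀ g' : G, g' * ι zX * g'⁻¹ = ι t →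
        ∃ k : G, k * ι zX * k⁻¹ = ι (t * zX) := by
      intro t ht htn g' hg'
      obtain ⟨q, hq⟩ := nonCen_conj t ht htn
      refine ⟨ι q * g', ?_⟩
      rw [← hq, map_mul, map_mul, map_inv, ← hg']; group
    rcases hker m hm2 hm1 hm with h | h | h | h | h
    · exact ⟨1, by rw [h]; group⟩
    · exact ⟨gx, h ▸ hgx⟩
    · exact h ▸ hxz x hx hxn gx hgx
    · exact ⟨gy, h ▸ hgy⟩
    · exact h ▸ hxz y hy hyn gy hgy
  obtain ⟨k, hk⟩ := hconj
  refine zX_facts.2.2.2.2.2.1 (central_sep zX aX zX_facts.2.2.2.1 zX_facts.2.2.2.2.2.2.2.2.1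
    zX_facts.1 zX_facts.2.1 (g⁻¹ * k) ?_)
  rw [show g⁻¹ * k * ι zX * (g⁻¹ * k)⁻¹ = g⁻¹ * (k * ι zX * k⁻¹) * g by group, hk, ← hgm]
  group

/-- No simple group has Sylow 2-subgroup `C₂ × D₈`. -/
theorem result {G : Type*} [Group G] [Finite G] (S : Sylow 2 G) (hS : Nonempty (↥(S : Subgroup G) ≃* Multiplicative (ZMod 2) × DihedralGroup 4))
    [IsSimpleGroup G] (hG : ¬ IsMulCommutative G) : False := by
  obtain ⟨e⟩ := hS
  refine no_group S e.symm fun M hM hM2 => ?_
  rcases hM.eq_bot_or_eq_top with h | h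
  · rw [h, Subgroup.index_bot] at hM2
    haveI : Fact (Nat.Prime 2) := ⟨Nat.prime_two⟩
    haveI := isCyclic_of_prime_card hM2
    exact hG ⟨⟨fun a b => IsCyclic.commGroup.mul_comm a b⟩⟩
  · rw [h, Subgroup.index_top] at hM2
    omega

end Cfsg.Agent.S3309
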