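import Cfsg.Statements.S3313
import Cfsg.Agent.Lib.InvChar.J2Order.CountZ
import Cfsg.Agent.Lib.KSteps.GFit
import Cfsg.Agent.Lib.Components.GenFitting

set_option autoImplicit false
open Cfsg

namespace Cfsg.Agent.S3313

/-- The order of a simple group with the involution pattern of the Hall–Janko group. Let G be a non-abelian finite simple group with exactly two conjugacy classes of involutions, represented by z and t, such that: F*(C_G(z)) is an extraspecial 2-group; Q = O₂(C_G(z)) has order 32 and C_G(z) is the semidirect product of Q by a subgroup isomorphic to A₅; every involution of Q is conjugate to z and every other involution of C_G(z) is conjugate to t; C_G(t) is an internal direct product V × B with V a four-group containing t and B ≅ A₅; every involution of B is conjugate to z and every other involution of C_G(t) is conjugate to t. Then |G| = 604800. -/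
theorem result {G : Type*} [Group G] [Finite G]
    [IsSimpleGroup G] (hna : ¬ IsMulCommutative G) (z t : G) (hz : orderOf z = 2) (ht : orderOf t = 2)
    (hzt : ¬ IsConj z t) (hcl : ∀ x : G, orderOf x = 2 → IsConj x z ∨ IsConj x t)
    (hex : Cfsg.IsExtraspecial 2 ↥(Cfsg.generalizedFittingSubgroup ↥(Subgroup.centralizer ({z} : Set G))))
    (hQ : Nat.card ↥(Cfsg.pCore 2 ↥(Subgroup.centralizer ({z} : Set G))) = 32)
    (K : Subgroup G) (hK : Nonempty (↥K ≃* alternatingGroup (Fin 5)))
    (hKC : K ⊔ (Cfsg.pCore 2 ↥(Subgroup.centralizer ({z} : Set G))).map (Subgroup.centralizer ({z} : Set G)).subtype = Subgroup.centralizer ({z} : Set G))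
    (hKQ : K ⊓ (Cfsg.pCore 2 ↥(Subgroup.centralizer ({z} : Set G))).map (Subgroup.centralizer ({z} : Set G)).subtype = ⊥)
    (hQz : ∀ x ∈ (Cfsg.pCore 2 ↥(Subgroup.centralizer ({z} : Set G))).map (Subgroup.centralizer ({z} : Set G)).subtype, orderOf x = 2 → IsConj x z)
    (hCz : ∀ x ∈ Subgroup.centralizer ({z} : Set G), orderOf x = 2 →
      x ∉ (Cfsg.pCore 2 ↥(Subgroup.centralizer ({z} : Set G))).map (Subgroup.centralizer ({z} : Set G)).subtype → IsConj x t)
    (V B : Subgroup G) (hVB : Cfsg.IsInternalDirectProduct V B (Subgroup.centralizer ({t} : Set G)))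
    (hV : Nat.card ↥V = 4) (hV2 : ∀ v ∈ V, v ^ 2 = 1) (htV : t ∈ V) (hB : Nonempty (↥B ≃* alternatingGroup (Fin 5)))
    (hBz : ∀ x ∈ B, orderOf x = 2 → IsConj x z)
    (hCt : ∀ x ∈ Subgroup.centralizer ({t} : Set G), orderOf x = 2 → x ∉ B → IsConj x t) :
    Nat.card G = 604800 := by
  classical
  haveI : Fact (Nat.Prime 2) := ⟨Nat.prime_two⟩
  set C := Subgroup.centralizer ({z} : Set G) with hC
  have htH : CfsgLib.InvChar.J2Order.CtHyp z t V B := ⟨hz, ht, hzt, hVB, hV, hV2, htV, hB, hBz, hCt⟩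
  have hzC : z ∈ C := Subgroup.mem_centralizer_singleton_iff.2 rfl
  set P := Cfsg.pCore 2 ↥C with hPdef
  haveI : P.Normal := CfsgLib.Solvable.pCore_normal 2 ↥C
  -- the generalized Fitting subgroup is the 2-core
  have hF : Cfsg.generalizedFittingSubgroup ↥C = P := by
    refine le_antisymm ?_ ?_
    · exact CfsgLib.Solvable.le_pCore (CfsgLib.KSteps.gfit_normal _) hex.1.1
    · exact (CfsgLib.Solvable.pCore_le_fittingSubgroup (G := ↥C)).trans le_sup_right
  have hexP : Cfsg.IsExtraspecial 2 ↥P := hF ▸ hex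
  have hfaithP : Subgroup.centralizer (P : Set ↥C) ≤ P := by
    have h := CfsgLib.Components.centralizer_genFitting_le (G := ↥C)
    rwa [hF] at h
  have hzP : (⟨z, hzC⟩ : ↥C) ∈ P := hF ▸ CfsgLib.KSteps.center_le_gfit _
    (Subgroup.mem_center_iff.2 fun g => Subtype.ext (Subgroup.mem_centralizer_singleton_iff.1 g.2))
  -- the quotient
  set Q := P.map C.subtype with hQdef
  have hmemQ : ∀ h : ↥C, (h : G) ∈ Q ↔ h ∈ P := fun h => by
    constructor
    · rintro ⟨p, hp, he⟩
      rwa [show h = p from Subtype.ext he.symm]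
    · exact fun hh => ⟨h, hh, rfl⟩
  have hKle : K ≤ C := hKC ▸ le_sup_left
  have hQle : Q ≤ C := Subgroup.map_subtype_le P
  have hbij : Function.Bijective fun k : K => (QuotientGroup.mk (⟨k, hKle k.2⟩ : ↥C) : ↥C ⧸ P) := by
    constructor
    · intro a b hab
      have h1 := QuotientGroup.eq.1 hab
      have h2 : (a : G)⁻¹ * b ∈ K ⊓ Q :=
        ⟨K.mul_mem (K.inv_mem a.2) b.2, (hmemQ _).2 h1⟩
      rw [hKQ, Subgroup.mem_bot, inv_mul_eq_one] at h2
      exact Subtype.ext h2
    · intro c
      induction c using QuotientGroup.induction_on with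
      | H h =>
        have hn : K ≤ Subgroup.normalizer (Q : Set G) := fun k hk =>
          Subgroup.mem_normalizer_fintype fun q hq => by
            obtain ⟨p, hp, rfl⟩ := hq
            exact ⟨⟨k, hKle hk⟩ * p * ⟨k, hKle hk⟩⁻¹,
              (inferInstance : P.Normal).conj_mem p hp _, rfl⟩
        have hh : (h : G) ∈ (K ⊔ Q : Subgroup G) := by rw [hKC]; exact h.2
        rw [← SetLike.mem_coe, Subgroup.coe_mul_of_left_le_normalizer_right K Q hn] at hh
        obtain ⟨k, hk, q, hq, hkq⟩ := hh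
        refine ⟨⟨k, hk⟩, QuotientGroup.eq.2 ((hmemQ _).1 ?_)⟩
        show k⁻¹ * (h : G) ∈ Q
        rw [← hkq]
        show k⁻¹ * (k * q) ∈ Q
        rwa [inv_mul_cancel_left]
  obtain ⟨eK⟩ := hK
  let e : K ≃* ↥C ⧸ P := MulEquiv.ofBijective
    ((QuotientGroup.mk' P).comp (Subgroup.inclusion hKle)) hbij
  let f : ↥C →* alternatingGroup (Fin 5) :=
    ((e.symm.trans eK).toMonoidHom).comp (QuotientGroup.mk' P)
  have hker : ∀ h, f h = 1 ↔ (h : G) ∈ Q := fun h => by
    rw [hmemQ]
    show (e.symm.trans eK) (QuotientGroup.mk h) = 1 ↔ _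
    rw [MulEquiv.map_eq_one_iff, QuotientGroup.eq_one_iff]
  have hlift : ∀ a : alternatingGroup (Fin 5), a * a = 1 → a ≠ 1 → ∃ h, f h = a ∧ h * h = 1 := by
    intro a ha _
    refine ⟨⟨eK.symm a, hKle (eK.symm a).2⟩, ?_, Subtype.ext ?_⟩
    · show eK (e.symm (e (eK.symm a))) = a
      rw [e.symm_apply_apply, eK.apply_symm_apply]
    · show ((eK.symm a : K) : G) * (eK.symm a : K) = 1
      rw [← Subgroup.coe_mul, ← map_mul, ha, map_one, Subgroup.coe_one]
  have hQ32 : Nat.card Q = 32 := by
    rw [hQdef, Subgroup.card_map_of_injective C.subtype_injective]; exact hQ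
  have hz1 : z ≠ 1 := fun h => by rw [h, orderOf_one] at hz; omega
  -- extraspecial facts
  have hcen : ∀ p : ↥P, p ∈ Subgroup.center ↥P → p = 1 ∨ p = ⟨⟨z, hzC⟩, hzP⟩ := by
    intro p hp
    have hzc : (⟨⟨z, hzC⟩, hzP⟩ : ↥P) ∈ Subgroup.center ↥P := Subgroup.mem_center_iff.2 fun g =>
      Subtype.ext (Subtype.ext (Subgroup.mem_centralizer_singleton_iff.1 g.1.2))
    by_cases hp1 : p = 1
    · exact Or.inl hp1
    right
    by_contra hne
    have h2 := hexP.2
    haveI := Fintype.ofFinite (Subgroup.center ↥P)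
    rw [Nat.card_eq_fintype_card] at h2
    have := Finset.card_le_univ ({1, ⟨p, hp⟩, ⟨_, hzc⟩} : Finset (Subgroup.center ↥P))
    rw [Finset.card_insert_of_notMem, Finset.card_pair, h2] at this
    · omega
    · exact fun h => hne (congrArg Subtype.val h)
    · simp only [Finset.mem_insert, Finset.mem_singleton, not_or]
      refine ⟨fun h => hp1 (congrArg Subtype.val h).symm, fun h => hz1 ?_⟩
      exact (congrArg (fun c : Subgroup.center ↥P => ((c.1.1 : ↥C) : G)) h).symm
  have hcomm' : ∀ p q : ↥P, p * q = q * p ∨ p * q = q * p * ⟨⟨z, hzC⟩, hzP⟩ := by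
    intro p q
    have hm : p⁻¹ * q⁻¹ * p * q ∈ Subgroup.center ↥P := by
      rw [← hexP.1.2.2, commutator_def]
      have := Subgroup.commutator_mem_commutator (H₁ := (⊤ : Subgroup ↥P)) (H₂ := ⊤)
        (Subgroup.mem_top p⁻¹) (Subgroup.mem_top q⁻¹)
      simpa [commutatorElement_def] using this
    rcases hcen _ hm with h | h
    · left
      have := congrArg (fun c => q * p * c) h
      simpa [mul_assoc] using this
    · right
      have := congrArg (fun c => q * p * c) h
      simpa [mul_assoc] using this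
  have hsq' : ∀ p : ↥P, p * p = 1 ∨ p * p = ⟨⟨z, hzC⟩, hzP⟩ := by
    intro p
    refine hcen _ (Subgroup.mem_center_iff.2 fun g => ?_)
    rcases hcomm' g p with h | h
    · calc g * (p * p) = g * p * p := (mul_assoc _ _ _).symm
        _ = p * g * p := by rw [h]
        _ = p * (g * p) := mul_assoc _ _ _
        _ = p * (p * g) := by rw [h]
        _ = p * p * g := (mul_assoc _ _ _).symm
    · set c : ↥P := ⟨⟨z, hzC⟩, hzP⟩
      have hcc : c * c = 1 := Subtype.ext (Subtype.ext (CfsgLib.Invol.mul_self_eq_one hz))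
      have hcp : Commute c p := Subtype.ext (Subtype.ext
        (Subgroup.mem_centralizer_singleton_iff.1 p.1.2).symm)
      calc g * (p * p) = g * p * p := (mul_assoc _ _ _).symm
        _ = p * g * (c * p) := by rw [h, mul_assoc]
        _ = p * g * (p * c) := by rw [hcp.eq]
        _ = p * (g * p) * c := by group
        _ = p * p * g * (c * c) := by rw [h]; group
        _ = p * p * g := by rw [hcc, mul_one]
  have hcz : CfsgLib.InvChar.J2Order.CzHyp z t Q f :=
    { hQle := hQle
      hker := hker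
      hsurj := fun a => ⟨⟨eK.symm a, hKle (eK.symm a).2⟩, by
        show eK (e.symm (e (eK.symm a))) = a
        rw [e.symm_apply_apply, eK.apply_symm_apply]⟩
      hlift := hlift
      hQ := hQ32
      hzQ := (hmemQ ⟨z, hzC⟩).2 hzP
      hsq := by
        rintro _ ⟨q, hq, rfl⟩
        rcases hsq' ⟨q, hq⟩ with h | h
        · exact Or.inl (congrArg (fun c : ↥P => ((c.1 : ↥C) : G)) h)
        · exact Or.inr (congrArg (fun c : ↥P => ((c.1 : ↥C) : G)) h)
      hcomm := by
        rintro _ ⟨p, hp, rfl⟩ _ ⟨q, hq, rfl⟩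
        rcases hcomm' ⟨p, hp⟩ ⟨q, hq⟩ with h | h
        · exact Or.inl (congrArg (fun c : ↥P => ((c.1 : ↥C) : G)) h)
        · exact Or.inr (congrArg (fun c : ↥P => ((c.1 : ↥C) : G)) h)
      hcent := by
        rintro _ ⟨p, hp, rfl⟩ hall
        rcases hcen ⟨p, hp⟩ (Subgroup.mem_center_iff.2 fun g =>
          Subtype.ext (Subtype.ext (hall _ ((hmemQ g.1).2 g.2)).symm)) with h | h
        · exact Or.inl (congrArg (fun c : ↥P => ((c.1 : ↥C) : G)) h)
        · exact Or.inr (congrArg (fun c : ↥P => ((c.1 : ↥C) : G)) h)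
      hQz := hQz
      hCz := hCz
      hfaith := fun h hh => (hmemQ h).2 (hfaithP (Subgroup.mem_centralizer_iff.2 fun q hq =>
        Subtype.ext (hh _ ((hmemQ q).2 hq)).eq.symm)) }
  have hCt240 : Nat.card ↥(Subgroup.centralizer ({t} : Set G)) = 240 := by
    obtain ⟨eB⟩ := hB
    have hBc : Nat.card B = 60 := by
      rw [Nat.card_congr eB.toEquiv, Nat.card_eq_fintype_card, CfsgLib.InvChar.J2Order.alt_card]
    have : Nat.card (V × B) = 240 := by rw [Nat.card_prod, hV, hBc]
    rw [← this]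
    refine (Nat.card_eq_of_bijective (fun p => (⟨(p.1 : G) * (p.2 : G),
      htH.mem_cent_iff.2 ⟨_, p.1.2, _, p.2.2, rfl⟩⟩ : ↥(Subgroup.centralizer ({t} : Set G)))) ⟨?_, ?_⟩).symm
    · intro p q hpq
      obtain ⟨h1, h2⟩ := htH.decomp_unique p.1.2 q.1.2 p.2.2 q.2.2 (congrArg Subtype.val hpq)
      exact Prod.ext (Subtype.ext h1) (Subtype.ext h2)
    · rintro ⟨c, hc⟩
      obtain ⟨v, hv, b, hb, rfl⟩ := htH.mem_cent_iff.1 hc
      exact ⟨(⟨v, hv⟩, ⟨b, hb⟩), rfl⟩
  have hCz1920 : Nat.card ↥C = 1920 := by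
    rw [← P.card_mul_index, Subgroup.index_eq_card, hQ, ← Nat.card_congr e.toEquiv,
      Nat.card_congr eK.toEquiv, Nat.card_eq_fintype_card, CfsgLib.InvChar.J2Order.alt_card]
  rw [CfsgLib.InvChar.OrderFormula.card_group z t hz ht hzt hcl, hcz.count_z htH, htH.count_t, hCt240,
    hCz1920]

end Cfsg.Agent.S3313
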