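import Cfsg.Statements.S3322
import Cfsg.Agent.Lib.DGroupCent.Elementary
import Cfsg.Agent.Lib.DGroupCent.RankTwo
import Cfsg.Agent.Lib.DGroupCent.OneQD
import Cfsg.Agent.Lib.GW.KleinFinal

set_option autoImplicit false
open Cfsg

namespace Cfsg.Agent.S3322

open Subgroup CfsgLib.DGroupCent

universe v

/-- The recognition theorem in the form used here. -/
theorem fourFreeRec : FourFreeRec.{v} := by
  intro X _ _ hs _ T n hn hT hfree
  refine CfsgLib.GW.FpfFour.psl_of_fourFree T n hn hT fun V hV x hx hodd => ?_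
  have := hV
  have hsq : ∀ a ∈ V, a * a = 1 := fun a ha =>
    congrArg Subtype.val (IsKleinFour.mul_self (⟨a, ha⟩ : V))
  obtain ⟨⟨u, huV⟩, ⟨v, hvV⟩, hu, hv, huv⟩ : ∃ u v : V, u ≠ 1 ∧ v ≠ 1 ∧ u ≠ v := by
    have : Nontrivial V := Finite.one_lt_card_iff_nontrivial.mp (by rw [hV.card_four]; norm_num)
    obtain ⟨u, hu⟩ := exists_ne (1 : V)
    by_contra! h
    have hle : Nat.card V ≤ Nat.card Bool := by
      classical
      refine Nat.card_le_card_of_injective (fun a : V => decide (a = 1)) fun a b e => ?_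
      simp only [decide_eq_decide] at e
      by_cases ha : a = 1
      · rw [ha, e.mp ha]
      · exact h a b ha fun hb => ha (e.mpr hb)
    rw [hV.card_four, Nat.card_eq_fintype_card, Fintype.card_bool] at hle
    omega
  have hu1 : u ≠ 1 := fun e => hu (Subtype.ext e)
  have hv1 : v ≠ 1 := fun e => hv (Subtype.ext e)
  have hxc : ∀ a ∈ V, Commute x a := fun a ha => (Subgroup.mem_centralizer_iff.mp hx a ha).symm
  have huvc : Commute u v := congrArg Subtype.val
    (IsKleinFour.isMulCommutative.is_comm.comm (⟨u, huV⟩ : V) ⟨v, hvV⟩)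
  obtain ⟨r, hr⟩ := hfree u v x (CfsgLib.Invol.orderOf_eq_two hu1 (hsq u huV))
    (CfsgLib.Invol.orderOf_eq_two hv1 (hsq v hvV)) (fun e => huv (Subtype.ext e)) huvc
    (hxc u huV) (hxc v hvV)
  exact orderOf_eq_one_iff.mp (Nat.eq_one_of_dvd_coprimes
    ((Nat.coprime_two_right.mpr hodd).pow_right r) dvd_rfl (orderOf_dvd_of_pow_eq_one hr))


/-- Call a group a D-group when it has a proper subgroup outside of which every element x satisfies x² = 1 (for instance a dihedral group, or an elementary abelian 2-group). Let G be a finite group with a subgroup H that is a D-group (witnessed by a proper subgroup A of H) of order divisible by 4, such that H = C_G(j) for every involution j in the centre of H. If G is not solvable, then G has a normal subgroup N whose order is odd or twice an odd number with G/N isomorphic to PSL(2, q) or PGL(2, q) for some prime power q > 3 (q may be even). -/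
theorem result
    {G : Type*} [Group G] [Finite G] (H A : Subgroup G) (hAH : A < H) (hD : ∀ x ∈ H, x ∉ A → x ^ 2 = 1)
    (h4 : 4 ∣ Nat.card ↥H)
    (hC : ∀ j ∈ H, orderOf j = 2 → (∀ h ∈ H, h * j = j * h) → Subgroup.centralizer ({j} : Set G) = H)
    (hns : ¬ Group.IsSolvable G) :
    ∃ (N : Subgroup G) (_ : N.Normal), (Odd (Nat.card ↥N) ∨ ∃ m : ℕ, Odd m ∧ Nat.card ↥N = 2 * m) ∧
      ∃ (F : Type) (_ : Field F) (_ : Fintype F), 3 < Fintype.card F ∧
        (Nonempty (G ⧸ N ≃* Matrix.ProjectiveSpecialLinearGroup (Fin 2) F) ∨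
          Nonempty (G ⧸ N ≃* Matrix.ProjGenLinGroup (Fin 2) F)) := by
  obtain ⟨r, hr, hrA⟩ := SetLike.exists_of_lt hAH
  have hle : A ≤ H := hAH.le
  have hinvol : ∀ x ∈ H, x ∉ A → x * x = 1 := fun x hx hxA => by rw [← pow_two]; exact hD x hx hxA
  have hinverts : ∀ x ∈ H, x ∉ A → ∀ a ∈ A, x * a * x⁻¹ = a⁻¹ := fun x hx hxA a ha => by
    have h := hinvol (x * a) (H.mul_mem hx (hle ha))
      fun h => hxA ((A.mul_mem_cancel_right ha).mp h)
    rw [inv_eq_of_mul_eq_one_right (hinvol x hx hxA)]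
    exact eq_inv_of_mul_eq_one_left (by rw [← h]; group)
  by_cases hexp : ∀ x ∈ H, x * x = 1
  · -- `H` is elementary abelian
    have hcomm : ∀ x ∈ H, ∀ y ∈ H, x * y = y * x := fun x hx y hy => by
      calc x * y = (x * y)⁻¹ := (inv_eq_of_mul_eq_one_right (hexp _ (H.mul_mem hx hy))).symm
        _ = y * x := by rw [mul_inv_rev, inv_eq_of_mul_eq_one_right (hexp x hx),
          inv_eq_of_mul_eq_one_right (hexp y hy)]
    obtain ⟨F, i1, i2, h3, ⟨e⟩⟩ := nonempty_equiv_PSL_of_elementary H hexp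
      (Nat.le_of_dvd Nat.card_pos h4)
      (fun j hj hj1 => hC j hj (CfsgLib.Invol.orderOf_eq_two hj1 (hexp j hj))
        fun x hx => hcomm x hx j hj) hns
    exact ⟨⊥, inferInstance, Or.inl (by rw [Subgroup.card_bot]; exact odd_one),
      F, i1, i2, h3, Or.inl ⟨QuotientGroup.quotientBot.trans e⟩⟩
  obtain ⟨a₀, ha₀, ha₀2⟩ : ∃ a ∈ A, a * a ≠ 1 := by
    by_contra! hno
    exact hexp fun x hx => (em (x ∈ A)).elim (hno x) (hinvol x hx)
  have hidx : ∀ x ∈ H, x ∉ A → ∀ y ∈ H, y ∉ A → x * y ∈ A := by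
    intro x hx hxA y hy hyA
    by_contra hxy
    refine ha₀2 (eq_inv_iff_mul_eq_one.mp ?_)
    have h := hinverts (x * y) (H.mul_mem hx hy) hxy a₀ ha₀
    rw [show x * y * a₀ * (x * y)⁻¹ = x * (y * a₀ * y⁻¹) * x⁻¹ by group, hinverts y hy hyA a₀ ha₀,
      hinverts x hx hxA _ (A.inv_mem ha₀), inv_inv] at h
    exact h
  have hcent : ∀ j ∈ A, j * j = 1 → j ≠ 1 → Subgroup.centralizer ({j} : Set G) = H := by
    intro j hj hj2 hj1
    refine hC j (hle hj) (CfsgLib.Invol.orderOf_eq_two hj1 hj2) fun x hx => ?_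
    by_cases hxA : x ∈ A
    · have h1 := hinverts r hr hrA _ (A.mul_mem hxA hj)
      rw [show r * (x * j) * r⁻¹ = (r * x * r⁻¹) * (r * j * r⁻¹) by group,
        hinverts r hr hrA x hxA, hinverts r hr hrA j hj, ← mul_inv_rev, inv_inj] at h1
      exact h1.symm
    · have h1 := hinverts x hx hxA j hj
      rw [inv_eq_of_mul_eq_one_right hj2] at h1
      exact mul_inv_eq_iff_eq_mul.mp h1
  obtain ⟨z, hzA, hz⟩ : ∃ z ∈ A, orderOf z = 2 := by
    have hA2 : (A.subgroupOf H).index = 2 := by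
      rw [Subgroup.index_eq_two_iff]
      refine ⟨⟨r, hr⟩, fun b => ?_⟩
      simp only [Subgroup.mem_subgroupOf, Subgroup.coe_mul]
      by_cases hb : (b : G) ∈ A
      · exact Or.inr ⟨hb, fun h => hrA ((A.mul_mem_cancel_left hb).mp h)⟩
      · exact Or.inl ⟨hidx b b.2 hb r hr hrA, hb⟩
    have h2 : 2 ∣ Nat.card A := by
      have h := Subgroup.index_mul_card (A.subgroupOf H)
      rw [hA2, Nat.card_congr (Subgroup.subgroupOfEquivOfLe hle).toEquiv] at h
      omega
    have : Fact (Nat.Prime 2) := ⟨Nat.prime_two⟩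
    obtain ⟨z, hz⟩ := exists_prime_orderOf_dvd_card' (G := A) 2 h2
    exact ⟨z, z.2, by rwa [Subgroup.orderOf_coe]⟩
  have hzz : z * z = 1 := CfsgLib.Invol.mul_self_eq_one hz
  have hz1 : z ≠ 1 := ne_one_of_order_two hz
  by_cases htwo : ∃ w ∈ A, w * w = 1 ∧ w ≠ 1 ∧ z ≠ w
  · obtain ⟨w, hwA, hw2, hw1, hzw⟩ := htwo
    have s : Setup H A :=
      ⟨hAH, hinvol, hidx, hinverts, ⟨a₀, ha₀, ha₀2⟩, hcent,
        ⟨z, w, hzA, hzz, hz1, hwA, hw2, hw1, hzw⟩, hns⟩
    obtain ⟨N, hN, hcard, F, i1, i2, h3, he⟩ := s.exists_quotient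
    exact ⟨N, hN, Or.inr hcard, F, i1, i2, h3, Or.inl he⟩
  have s : One H A z :=
    ⟨hz, hzA, hAH, hinvol, hidx, hinverts,
      fun a ha ha2 => or_iff_not_imp_left.mpr fun ha1 => by
        by_contra haz
        exact htwo ⟨a, ha, ha2, ha1, fun e => haz e.symm⟩,
      hcent z hzA hzz hz1, hns⟩
  have hn : (Cfsg.oddCore G).Normal := CfsgLib.Solvable.pPrimeCore_normal 2 G
  have hodd : Odd (Nat.card (Cfsg.oddCore G)) :=
    Nat.coprime_two_right.1 (CfsgLib.Solvable.pPrimeCore_card_coprime 2 G)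
  have q := s.quotient (Cfsg.oddCore G) hodd
  have hO : Cfsg.oddCore (G ⧸ Cfsg.oddCore G) = ⊥ :=
    CfsgLib.Solvable.pPrimeCore_quotient_eq_bot _ rfl
  obtain ⟨S, ρ, hρ, hρA, hzS, hρS⟩ := q.exists_sylow
  rcases q.sylow_type S hzS hρS hρ hρA with ⟨n, hn2, ⟨e⟩⟩ | hqd
  · obtain ⟨F, i1, i2, h3, -, hcase⟩ := q.dihedral_case fourFreeRec hO hzS hn2 e
    exact ⟨_, hn, Or.inl hodd, F, i1, i2, h3, hcase⟩
  · exact absurd hqd (q.not_quasiDihedral fourFreeRec hO hzS hρS hρ hρA)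

end Cfsg.Agent.S3322
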