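import Cfsg.Statements.S3335
import Cfsg.Agent.Lib.Present.AltCosets
import Mathlib.GroupTheory.PresentedGroup
import Mathlib.GroupTheory.SpecificGroups.Alternating
import Mathlib.Tactic

set_option autoImplicit false
open Cfsg

namespace Cfsg.Agent.S3335

open Equiv

/-- the adjacent transposition `(k, k+1)` -/
def adj (m k : ℕ) : Perm (Fin (m + 3)) :=
  Equiv.swap (Fin.ofNat (m + 3) k) (Fin.ofNat (m + 3) (k + 1))

theorem adj_mul_self (m k : ℕ) : adj m k * adj m k = 1 := Equiv.swap_mul_self _ _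

theorem ofNat_ne (m : ℕ) {a b : ℕ} (ha : a < m + 3) (hb : b < m + 3) (h : a ≠ b) :
    (Fin.ofNat (m + 3) a : Fin (m + 3)) ≠ Fin.ofNat (m + 3) b := by
  intro e
  have := congrArg Fin.val e
  simp [Fin.ofNat, Nat.mod_eq_of_lt ha, Nat.mod_eq_of_lt hb] at this
  exact h this

theorem adj_sign (m : ℕ) {k : ℕ} (hk : k < m + 2) : Equiv.Perm.sign (adj m k) = -1 :=
  Equiv.Perm.sign_swap (ofNat_ne m (by omega) (by omega) (by omega))

theorem adj_comm (m : ℕ) {a b : ℕ} (hb : b < m + 2) (h : a + 1 < b) :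
    adj m a * adj m b = adj m b * adj m a := by
  apply Equiv.Perm.Disjoint.commute
  rw [adj, adj, Equiv.Perm.disjoint_iff_disjoint_support, Equiv.Perm.support_swap (ofNat_ne m (by omega) (by omega) (by omega)),
    Equiv.Perm.support_swap (ofNat_ne m (by omega) (by omega) (by omega))]
  simp only [Finset.disjoint_insert_left, Finset.disjoint_singleton_left, Finset.mem_insert, Finset.mem_singleton, not_or]
  exact ⟨⟨ofNat_ne m (by omega) (by omega) (by omega), ofNat_ne m (by omega) (by omega) (by omega)⟩,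
    ofNat_ne m (by omega) (by omega) (by omega), ofNat_ne m (by omega) (by omega) (by omega)⟩

theorem adj_braid (m : ℕ) {a : ℕ} (ha : a + 1 < m + 2) : (adj m a * adj m (a + 1)) ^ 3 = 1 := by
  have h3 : Equiv.Perm.IsThreeCycle (adj m a * adj m (a + 1)) := by
    rw [adj, adj, Equiv.swap_comm (Fin.ofNat (m + 3) a)]
    exact Equiv.Perm.isThreeCycle_swap_mul_swap_same (ofNat_ne m (by omega) (by omega) (by omega))
      (ofNat_ne m (by omega) (by omega) (by omega)) (ofNat_ne m (by omega) (by omega) (by omega))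
  exact (congrArg ((adj m a * adj m (a + 1)) ^ ·) h3.orderOf).symm.trans (pow_orderOf_eq_one _)

/-- images of the generators: `x i ↦ (0 1)(i+1 i+2)` -/
def img (m i : ℕ) : Perm (Fin (m + 3)) := adj m 0 * adj m (i + 1)

theorem altPresentation (m : ℕ) : Nonempty (PresentedGroup
      ({g : FreeGroup (Fin (m + 3 - 2)) | ∃ i : Fin (m + 3 - 2), i.val = 0 ∧ g = FreeGroup.of i ^ 3} ∪
       {g | ∃ i : Fin (m + 3 - 2), 1 ≤ i.val ∧ g = FreeGroup.of i ^ 2} ∪
       {g | ∃ i j : Fin (m + 3 - 2), j.val = i.val + 1 ∧ g = (FreeGroup.of i * FreeGroup.of j) ^ 3} ∪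
       {g | ∃ i j : Fin (m + 3 - 2), i.val + 1 < j.val ∧ g = (FreeGroup.of i * FreeGroup.of j) ^ 2})
      ≃* alternatingGroup (Fin (m + 3))) := by
  classical
  set rels : Set (FreeGroup (Fin (m + 3 - 2))) :=
    ({g : FreeGroup (Fin (m + 3 - 2)) | ∃ i : Fin (m + 3 - 2), i.val = 0 ∧ g = FreeGroup.of i ^ 3} ∪
       {g | ∃ i : Fin (m + 3 - 2), 1 ≤ i.val ∧ g = FreeGroup.of i ^ 2} ∪
       {g | ∃ i j : Fin (m + 3 - 2), j.val = i.val + 1 ∧ g = (FreeGroup.of i * FreeGroup.of j) ^ 3} ∪
       {g | ∃ i j : Fin (m + 3 - 2), i.val + 1 < j.val ∧ g = (FreeGroup.of i * FreeGroup.of j) ^ 2}) with hrels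
  have hmem : ∀ i : Fin (m + 3 - 2), img m i ∈ alternatingGroup (Fin (m + 3)) := fun i => by
    rw [Equiv.Perm.mem_alternatingGroup, img, map_mul, adj_sign m (by omega), adj_sign m (by omega)]
    rfl
  let f : Fin (m + 3 - 2) → alternatingGroup (Fin (m + 3)) := fun i => ⟨img m i, hmem i⟩
  have hc2 : ∀ k, 2 ≤ k → k < m + 2 → adj m 0 * adj m k = adj m k * adj m 0 :=
    fun k h1 h2 => adj_comm m h2 (by omega)
  have hf : ∀ r ∈ rels, FreeGroup.lift f r = 1 := by
    intro r hr
    apply Subtype.ext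
    rcases hr with ((⟨i, hi, rfl⟩ | ⟨i, hi, rfl⟩) | ⟨i, j, hij, rfl⟩) | ⟨i, j, hij, rfl⟩
    · rw [map_pow, FreeGroup.lift_apply_of, SubgroupClass.coe_pow]
      change img m i ^ 3 = 1
      rw [hi]
      exact adj_braid m (by omega)
    · rw [map_pow, FreeGroup.lift_apply_of, SubgroupClass.coe_pow]
      change img m i ^ 2 = 1
      have h := hc2 (i + 1) (by omega) (by omega)
      rw [img, pow_two, mul_assoc, ← mul_assoc (adj m (i + 1)), ← h, mul_assoc, adj_mul_self, mul_one,
        adj_mul_self]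
    · rw [map_pow, map_mul, FreeGroup.lift_apply_of, FreeGroup.lift_apply_of, SubgroupClass.coe_pow]
      change (img m i * img m j) ^ 3 = 1
      have hj2 := hc2 (j + 1) (by omega) (by omega)
      rw [img, img, hj2, mul_assoc, ← mul_assoc (adj m (i + 1)),
        show adj m 0 * (adj m (i + 1) * adj m (j + 1) * adj m 0) =
          adj m 0 * (adj m (i + 1) * adj m (j + 1)) * (adj m 0)⁻¹ by
            rw [show (adj m 0)⁻¹ = adj m 0 from Equiv.swap_inv _ _]; group,
        conj_pow, hij, adj_braid m (by omega), mul_one, mul_inv_cancel]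
    · rw [map_pow, map_mul, FreeGroup.lift_apply_of, FreeGroup.lift_apply_of, SubgroupClass.coe_pow]
      change (img m i * img m j) ^ 2 = 1
      have hj2 := hc2 (j + 1) (by omega) (by omega)
      have hij2 := adj_comm m (a := i + 1) (b := j + 1) (by omega) (by omega)
      rw [img, img, hj2, mul_assoc, ← mul_assoc (adj m (i + 1)),
        show adj m 0 * (adj m (i + 1) * adj m (j + 1) * adj m 0) =
          adj m 0 * (adj m (i + 1) * adj m (j + 1)) * (adj m 0)⁻¹ by
            rw [show (adj m 0)⁻¹ = adj m 0 from Equiv.swap_inv _ _]; group,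
        conj_pow, pow_two, mul_assoc (adj m (i + 1)), ← mul_assoc (adj m (j + 1)), ← hij2,
        mul_assoc (adj m (i + 1)), adj_mul_self, mul_one, adj_mul_self, mul_one, mul_inv_cancel]
  let φ : PresentedGroup rels →* alternatingGroup (Fin (m + 3)) := PresentedGroup.toGroup hf
  have hφ : ∀ i, φ (PresentedGroup.of i) = f i := fun i => PresentedGroup.toGroup.of hf
  -- the bound
  let x : ℕ → PresentedGroup rels := fun i => if h : i < m + 3 - 2 then PresentedGroup.of ⟨i, h⟩ else 1
  have hx : ∀ i (h : i < m + 3 - 2), x i = PresentedGroup.of ⟨i, h⟩ := fun i h => dif_pos h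
  have hone : ∀ r ∈ rels, PresentedGroup.mk rels r = 1 :=
    fun r hr => PresentedGroup.one_of_mem hr
  have hrel : CfsgLib.Present.AltRel x (m + 3 - 2) := by
    refine ⟨fun h => ?_, fun i h1 h2 => ?_, fun i h => ?_, fun i j h1 h2 => ?_⟩
    · rw [hx 0 h, PresentedGroup.of, ← map_pow]
      exact hone _ (Or.inl (Or.inl (Or.inl ⟨⟨0, h⟩, rfl, rfl⟩)))
    · rw [hx i h2, ← pow_two, PresentedGroup.of, ← map_pow]
      exact hone _ (Or.inl (Or.inl (Or.inr ⟨⟨i, h2⟩, h1, rfl⟩)))
    · rw [hx i (by omega), hx (i + 1) h, PresentedGroup.of, PresentedGroup.of, ← map_mul, ← map_pow]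
      exact hone _ (Or.inl (Or.inr ⟨⟨i, by omega⟩, ⟨i + 1, h⟩, rfl, rfl⟩))
    · rw [hx i (by omega), hx j h2, PresentedGroup.of, PresentedGroup.of, ← map_mul, ← map_pow]
      exact hone _ (Or.inr ⟨⟨i, by omega⟩, ⟨j, h2⟩, h1, rfl⟩)
  obtain ⟨hfin, hbound⟩ := CfsgLib.Present.firstGen_bound hrel _ le_rfl
  have htop : CfsgLib.Present.firstGen x (m + 3 - 2) = ⊤ := by
    rw [eq_top_iff, ← PresentedGroup.closure_range_of rels, Subgroup.closure_le]
    rintro _ ⟨i, rfl⟩
    rw [show PresentedGroup.of i = x i.val from (hx i i.2).symm]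
    exact CfsgLib.Present.mem_firstGen x i.2
  rw [htop, Subgroup.coe_top] at hfin hbound
  rw [Set.ncard_univ] at hbound
  have : Finite (PresentedGroup rels) := Set.finite_univ_iff.mp hfin
  -- surjectivity
  let R : Subgroup (Perm (Fin (m + 3))) := φ.range.map (alternatingGroup (Fin (m + 3))).subtype
  have himg : ∀ k, k < m + 2 → adj m 0 * adj m k ∈ R := by
    intro k hk
    rcases Nat.eq_zero_or_pos k with rfl | hk0
    · rw [adj_mul_self]; exact one_mem _
    · refine ⟨f ⟨k - 1, by omega⟩, ⟨_, hφ _⟩, ?_⟩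
      change img m (k - 1) = _
      rw [img, show k - 1 + 1 = k by omega]
  have himg' : ∀ k, k < m + 2 → adj m k * adj m 0 ∈ R := fun k hk => by
    have := inv_mem (himg k hk)
    rwa [mul_inv_rev, show (adj m k)⁻¹ = adj m k from Equiv.swap_inv _ _,
      show (adj m 0)⁻¹ = adj m 0 from Equiv.swap_inv _ _] at this
  have hall : ∀ σ : Perm (Fin (m + 3)), (Equiv.Perm.sign σ = 1 → σ ∈ R) ∧
      (Equiv.Perm.sign σ = -1 → σ * adj m 0 ∈ R) := by
    intro σ
    have hσ : σ ∈ Submonoid.closure (Set.range fun i : Fin (m + 2) => Equiv.swap i.castSucc i.succ) := by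
      rw [Equiv.Perm.mclosure_swap_castSucc_succ]; trivial
    induction hσ using Submonoid.closure_induction_right with
    | one => exact ⟨fun _ => one_mem _, fun h => by simp at h⟩
    | mul_right τ _ s hs ih =>
      obtain ⟨k, rfl⟩ := hs
      have e : Equiv.swap k.castSucc k.succ = adj m k.val := by
        have h1 := Nat.mod_eq_of_lt (show k.val < m + 3 by omega)
        have h2 := Nat.mod_eq_of_lt (show k.val + 1 < m + 3 by omega)
        rw [adj]; congr 1 <;> ext <;> simp [Fin.ofNat, h1, h2]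
      simp only [e, map_mul, adj_sign m k.2, mul_neg, mul_one, neg_neg]
      refine ⟨fun h => ?_, fun h => ?_⟩
      · rw [show τ * adj m k = (τ * adj m 0) * (adj m 0 * adj m k) by
          rw [mul_assoc, ← mul_assoc (adj m 0), adj_mul_self, one_mul]]
        exact mul_mem (ih.2 (by simpa [neg_eq_iff_eq_neg] using h)) (himg k k.2)
      · rw [mul_assoc]
        exact mul_mem (ih.1 (by simpa using h)) (himg' k k.2)
  have hsurj : Function.Surjective φ := by
    intro a
    obtain ⟨b, ⟨c, hc⟩, hb⟩ := (hall a).1 (Equiv.Perm.mem_alternatingGroup.mp a.2)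
    exact ⟨c, Subtype.ext (hc ▸ hb)⟩
  refine ⟨MulEquiv.ofBijective φ (hsurj.bijective_of_nat_card_le ?_)⟩
  have h2 : 2 * Nat.card (alternatingGroup (Fin (m + 3))) = (m + 3).factorial := by
    rw [Nat.card_eq_fintype_card, two_mul_card_alternatingGroup, Fintype.card_perm, Fintype.card_fin]
  rw [show m + 3 - 2 + 2 = m + 3 by omega] at hbound
  omega

/-- A presentation of the alternating group of degree n ≥ 3 on generators x_1, …, x_{n−2} (indexed here by 0, …, n−3): the first generator cubes to 1, every other generator squares to 1, the product of two consecutive generators has order dividing 3, and the product of two generators at distance at least 2 has order dividing 2. The group so presented is isomorphic to the alternating group of degree n. -/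
theorem result (n : ℕ) (hn : 3 ≤ n) :
    Nonempty (PresentedGroup
      ({g : FreeGroup (Fin (n - 2)) | ∃ i : Fin (n - 2), i.val = 0 ∧ g = FreeGroup.of i ^ 3} ∪
       {g | ∃ i : Fin (n - 2), 1 ≤ i.val ∧ g = FreeGroup.of i ^ 2} ∪
       {g | ∃ i j : Fin (n - 2), j.val = i.val + 1 ∧ g = (FreeGroup.of i * FreeGroup.of j) ^ 3} ∪
       {g | ∃ i j : Fin (n - 2), i.val + 1 < j.val ∧ g = (FreeGroup.of i * FreeGroup.of j) ^ 2})
      ≃* alternatingGroup (Fin n)) := by
  obtain ⟨m, rfl⟩ : ∃ m, n = m + 3 := ⟨n - 3, by omega⟩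
  exact altPresentation m

end Cfsg.Agent.S3335
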