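import Cfsg.Statements.S3349
import Mathlib.Tactic
import Mathlib.GroupTheory.PGroup
import Mathlib.GroupTheory.Abelianization.Defs

set_option autoImplicit false
open Cfsg

namespace Cfsg.Agent.S3349

/-- Let Q be a finite extraspecial p-group and α an automorphism of Q fixing every element of some maximal abelian subgroup of Q. Then the order of α is a power of p. -/
theorem result {Q : Type*} [Group Q] [Finite Q]
    (p : ℕ) [Fact p.Prime] (hQ : Cfsg.IsExtraspecial p Q) (α : MulAut Q)
    (A : Subgroup Q) (hA : IsMulCommutative A) (hmax : ∀ B : Subgroup Q, A ≤ B → IsMulCommutative B → B = A)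
    (hfix : ∀ a ∈ A, α a = a) :
    ∃ k : ℕ, orderOf α = p ^ k := by
  classical
  obtain ⟨⟨hP, hfr, hcm⟩, hcard⟩ := hQ
  have hZA : Subgroup.center Q ≤ A := by
    have h : IsMulCommutative (A ⊔ Subgroup.center Q : Subgroup Q) := by
      rw [← Subgroup.le_centralizer_iff_isMulCommutative]
      refine sup_le ?_ ((Subgroup.center_le_centralizer _))
      rw [Subgroup.le_centralizer_iff]
      refine sup_le ?_ ((Subgroup.center_le_centralizer _))
      exact Subgroup.le_centralizer_iff_isMulCommutative.mpr hA
    exact le_sup_right.trans (le_of_eq (hmax _ le_sup_left h))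
  have hAn : A.Normal := by
    constructor
    intro a ha g
    have h : g * a * g⁻¹ * a⁻¹ ∈ A :=
      hZA (hcm ▸ Subgroup.commutator_mem_commutator (Subgroup.mem_top g) (Subgroup.mem_top a))
    simpa using A.mul_mem h ha
  have hCA : Subgroup.centralizer (A : Set Q) ≤ A := by
    intro c hc
    have h : IsMulCommutative (A ⊔ Subgroup.zpowers c : Subgroup Q) := by
      rw [← Subgroup.le_centralizer_iff_isMulCommutative]
      have h1 : Subgroup.zpowers c ≤ Subgroup.centralizer (A : Set Q) := Subgroup.zpowers_le.mpr hc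
      refine sup_le ?_ ?_
      · rw [Subgroup.le_centralizer_iff]
        exact sup_le (Subgroup.le_centralizer_iff_isMulCommutative.mpr hA) h1
      · rw [Subgroup.le_centralizer_iff]
        refine sup_le ?_ ?_
        · exact Subgroup.le_centralizer_iff.mp h1
        · exact Subgroup.le_centralizer_iff_isMulCommutative.mpr inferInstance
    rw [← hmax _ le_sup_left h]
    exact (le_sup_right : Subgroup.zpowers c ≤ A ⊔ Subgroup.zpowers c) (Subgroup.mem_zpowers c)
  have hc : ∀ x : Q, x⁻¹ * α x ∈ A := by
    intro x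
    apply hCA
    rw [Subgroup.mem_centralizer_iff]
    intro a ha
    have h1 : x * a * x⁻¹ ∈ A := hAn.conj_mem a ha x
    have h2 := hfix _ h1
    rw [map_mul, map_mul, map_inv, hfix a ha] at h2
    calc a * (x⁻¹ * α x) = x⁻¹ * (x * a * x⁻¹) * α x := by group
      _ = x⁻¹ * (α x * a * (α x)⁻¹) * α x := by rw [h2]
      _ = x⁻¹ * α x * a := by group
  have hpow : ∀ (k : ℕ) (x : Q), (α ^ k) x = x * (x⁻¹ * α x) ^ k := by
    intro k
    induction k with
    | zero => simp
    | succ k ih =>
      intro x
      rw [pow_succ', MulAut.mul_apply, ih, map_mul, map_pow, hfix _ (hc x), pow_succ', ← mul_assoc,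
        mul_inv_cancel_left]
  obtain ⟨k, hk⟩ := IsPGroup.iff_card.mp hP
  have h1 : α ^ (p ^ k) = 1 := by
    ext x
    rw [hpow, ← hk, pow_card_eq_one', mul_one, MulAut.one_apply]
  obtain ⟨j, -, hj⟩ := (Nat.dvd_prime_pow (Fact.out)).mp (orderOf_dvd_of_pow_eq_one h1)
  exact ⟨j, hj⟩

end Cfsg.Agent.S3349
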