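import Cfsg.Statements.S3356

set_option autoImplicit false
open Cfsg

namespace Cfsg.Agent.S3356

/-- If all stabilisers have order `c` and the group has order `s * c` then `s` divides the number
of points. -/
theorem dvd_card_of_stabilizers {S X : Type*} [Group S] [MulAction S X] [Finite S] [Finite X]
    (s c : ℕ) (hc : ∀ x : X, Nat.card (MulAction.stabilizer S x) = c) (hS : Nat.card S = s * c) :
    s ∣ Nat.card X := by
  classical
  haveI := Fintype.ofFinite (MulAction.orbitRel.Quotient S X)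
  rw [Nat.card_congr (MulAction.selfEquivSigmaOrbits S X), Nat.card_sigma]
  refine Finset.dvd_sum fun w _ => ?_
  have h := Nat.card_congr (MulAction.orbitProdStabilizerEquivGroup S w.out)
  rw [Nat.card_prod, hc, hS] at h
  have hc0 : 0 < c := hc w.out ▸ Nat.card_pos
  exact dvd_of_eq (Nat.eq_of_mul_eq_mul_right hc0 h).symm

variable {G Ω : Type*} [Group G] [MulAction G Ω]

/-- The two-point stabiliser. -/
def two (a b : Ω) : Subgroup G := MulAction.stabilizer G a ⊓ MulAction.stabilizer G b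

theorem mem_two {a b : Ω} {g : G} : g ∈ two (G := G) a b ↔ g • a = a ∧ g • b = b := by
  simp [two, MulAction.mem_stabilizer_iff]

theorem card_two_stab (S : Subgroup G) (a b : Ω) (h : two a b ≤ S)
    (hS : S ≤ MulAction.stabilizer G a) :
    Nat.card (MulAction.stabilizer S b) = Nat.card (two (G := G) a b) := by
  refine Nat.card_congr ⟨fun g => ⟨g.1.1, mem_two.2 ⟨?_, ?_⟩⟩,
    fun g => ⟨⟨g.1, h g.2⟩, ?_⟩, fun g => rfl, fun g => rfl⟩
  · exact MulAction.mem_stabilizer_iff.1 (hS g.1.2)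
  · exact MulAction.mem_stabilizer_iff.1 g.2
  · exact MulAction.mem_stabilizer_iff.2 (mem_two.1 g.2).2

variable [Finite G] [Finite Ω]

theorem block_eq (a : Ω) (c t : ℕ) (hc : ∀ b : Ω, b ≠ a → Nat.card (two (G := G) a b) = c)
    (ht : Nat.card (MulAction.stabilizer G a) = t * c) (hcop : t.Coprime (Nat.card Ω))
    (T : Set Ω) (ha : a ∉ T) (hT : Nat.card T ∣ Nat.card Ω)
    (hblock : ∀ g : G, g • a = a → ∀ z ∈ T, g • z ∈ T → ∀ w ∈ T, g • w ∈ T)
    {x y : Ω} (hx : x ∈ T) (hy : y ∈ T) : two (G := G) a x = two a y := by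
  let S : Subgroup G :=
    { carrier := {g | g • a = a ∧ ∀ z, g • z ∈ T ↔ z ∈ T}
      one_mem' := by simp
      mul_mem' := by
        rintro g h ⟨g1, g2⟩ ⟨h1, h2⟩
        exact ⟨by rw [mul_smul, h1, g1], fun z => by rw [mul_smul, g2, h2]⟩
      inv_mem' := by
        rintro g ⟨g1, g2⟩
        refine ⟨?_, fun z => ?_⟩
        · rw [inv_smul_eq_iff, g1]
        · rw [← g2 (g⁻¹ • z), smul_inv_smul] }
  have hSH : S ≤ MulAction.stabilizer G a := fun g hg => MulAction.mem_stabilizer_iff.2 hg.1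
  have hle : ∀ z ∈ T, two a z ≤ S := by
    intro z hz g hg
    obtain ⟨g1, g2⟩ := mem_two.1 hg
    have g1' : g⁻¹ • a = a := by rw [inv_smul_eq_iff, g1]
    have g2' : g⁻¹ • z ∈ T := by rw [inv_smul_eq_iff.2 g2.symm]; exact hz
    refine ⟨g1, fun w => ⟨fun hw => ?_, fun hw => hblock g g1 z hz (g2.symm ▸ hz) w hw⟩⟩
    have := hblock g⁻¹ g1' z hz g2' _ hw
    rwa [inv_smul_smul] at this
  have hzne : ∀ z ∈ T, z ≠ a := fun z hz e => ha (e ▸ hz)
  obtain ⟨s, hs⟩ : c ∣ Nat.card S := hc x (hzne x hx) ▸ Subgroup.card_dvd_of_le (hle x hx)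
  let sm : SubMulAction S Ω := ⟨T, fun g z hz => (g.2.2 z).2 hz⟩
  have hcard : Nat.card sm = Nat.card T := rfl
  have hsT : s ∣ Nat.card T := by
    rw [← hcard]
    refine dvd_card_of_stabilizers (S := S) s c (fun z => ?_) (hs.trans (mul_comm c s))
    rw [← hc z.1 (hzne z.1 z.2), ← card_two_stab S a z.1 (hle z.1 z.2) hSH]
    exact congrArg (fun K : Subgroup S => Nat.card K) (SubMulAction.stabilizer_of_subMul z)
  have hc0 : 0 < c := hc x (hzne x hx) ▸ Nat.card_pos
  have hst : s ∣ t := by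
    have := Subgroup.card_dvd_of_le hSH
    rw [hs, ht, mul_comm t] at this
    exact Nat.dvd_of_mul_dvd_mul_left hc0 this
  have hs1 : s = 1 := Nat.eq_one_of_dvd_coprimes hcop hst (hsT.trans hT)
  have heq : ∀ z ∈ T, two a z = S := fun z hz =>
    Subgroup.eq_of_le_of_card_ge (hle z hz) (by rw [hs, hs1, mul_one, hc z (hzne z hz)])
  rw [heq x hx, heq y hy]

end Cfsg.Agent.S3356

namespace Cfsg.Agent.S3356

/-- Let G be a finite 3/2-transitive permutation group: G acts faithfully and transitively on a finite set, the point stabilizers are non-trivial, and for each point a all orbits of G_a on the remaining points have the same size. Suppose G has a regular normal subgroup N and G is not a Frobenius group (some two-point stabilizer is non-trivial). Then N is an elementary abelian p-group for some prime p, and every non-trivial normal subgroup of G contains N (so N is the unique minimal normal subgroup). -/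
theorem result {G Ω : Type*} [Group G] [Finite G]
    [MulAction G Ω] [FaithfulSMul G Ω] [Finite Ω] (htrans : MulAction.IsPretransitive G Ω)
    (hne : ∀ a : Ω, MulAction.stabilizer G a ≠ ⊥)
    (hhalf : ∀ a b c : Ω, b ≠ a → c ≠ a →
      Nat.card (MulAction.orbit (MulAction.stabilizer G a) b) = Nat.card (MulAction.orbit (MulAction.stabilizer G a) c))
    (N : Subgroup G) [hN : N.Normal] (hNt : MulAction.IsPretransitive N Ω) (hNr : ∀ a : Ω, MulAction.stabilizer N a = ⊥)
    (hnotF : ∃ a b : Ω, a ≠ b ∧ MulAction.stabilizer G a ⊓ MulAction.stabilizer G b ≠ ⊥) :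
    (∃ p : ℕ, p.Prime ∧ IsMulCommutative N ∧ ∀ x ∈ N, x ^ p = 1) ∧
    (∀ M : Subgroup G, M.Normal → M ≠ ⊥ → N ≤ M) := by
  classical
  obtain ⟨a, b₀, hab, hK⟩ := hnotF
  haveI := htrans
  haveI := hNt
  let f : N → Ω := fun n => n • a
  have hfinj : Function.Injective f := by
    intro m n h
    have h' : n⁻¹ * m ∈ MulAction.stabilizer N a := by
      rw [MulAction.mem_stabilizer_iff, mul_smul]
      exact inv_smul_eq_iff.2 h
    rw [hNr a, Subgroup.mem_bot, inv_mul_eq_one] at h'
    exact h'.symm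
  have hfsurj : Function.Surjective f := fun b => MulAction.exists_smul_eq N a b
  have hf1 : f 1 = a := one_smul _ a
  have hne1 : ∀ n : N, n ≠ 1 → f n ≠ a := fun n hn e => hn (hfinj (e.trans hf1.symm))
  have hcardN : Nat.card N = Nat.card Ω := Nat.card_congr (Equiv.ofBijective f ⟨hfinj, hfsurj⟩)
  have hconj : ∀ g : G, g • a = a → ∀ n : N,
      g • f n = f ⟨g * n * g⁻¹, hN.conj_mem _ n.2 g⟩ := by
    intro g hg n
    have hg' : g⁻¹ • a = a := inv_smul_eq_iff.2 hg.symm
    change g • (n : G) • a = (g * n * g⁻¹ : G) • a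
    rw [mul_smul, mul_smul, hg']
  -- all two-point stabilisers at `a` have the same order
  set H := MulAction.stabilizer G a with hH
  set c := Nat.card (two (G := G) a b₀) with hc
  set t := Nat.card (MulAction.orbit H b₀) with ht'
  have horb : ∀ b : Ω, Nat.card (MulAction.orbit H b) * Nat.card (two (G := G) a b) = Nat.card H := by
    intro b
    rw [← card_two_stab H a b inf_le_left le_rfl, ← Nat.card_prod]
    exact Nat.card_congr (MulAction.orbitProdStabilizerEquivGroup H b)
  have ht0 : 0 < t := by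
    haveI : Nonempty (MulAction.orbit H b₀) := ⟨⟨b₀, MulAction.mem_orbit_self b₀⟩⟩
    exact Nat.card_pos
  have hceq : ∀ b : Ω, b ≠ a → Nat.card (two (G := G) a b) = c := by
    intro b hb
    have h1 := horb b
    rw [hhalf a b b₀ hb hab.symm, ← horb b₀] at h1
    exact Nat.eq_of_mul_eq_mul_left ht0 h1
  have ht : Nat.card H = t * c := (horb b₀).symm
  have hc1 : 1 < c := Finite.one_lt_card_iff_nontrivial.2 ((Subgroup.nontrivial_iff_ne_bot _).2 hK)
  have hcop : t.Coprime (Nat.card Ω) := by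
    let sm : SubMulAction H Ω := ⟨{b | b ≠ a}, fun g b (hb : b ≠ a) e => hb (by
      have hga : g • a = a := g.2
      exact MulAction.injective g (e.trans hga.symm))⟩
    have hdvd : t ∣ Nat.card sm := by
      refine dvd_card_of_stabilizers (S := H) t c (fun z => ?_) ht
      rw [← hceq z.1 z.2, ← card_two_stab H a z.1 inf_le_left le_rfl]
      exact congrArg (fun K : Subgroup H => Nat.card K) (SubMulAction.stabilizer_of_subMul z)
    have hsm : Nat.card sm + 1 = Nat.card Ω := by
      have h1 := Set.ncard_add_ncard_compl ({b : Ω | b ≠ a})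
      have h2 : ({b : Ω | b ≠ a})ᶜ = {a} := by ext; simp
      rw [h2, Set.ncard_singleton] at h1
      exact h1
    rw [← hsm]
    exact Nat.Coprime.coprime_dvd_left hdvd
      (Nat.coprime_self_add_right.2 (Nat.coprime_one_right _))
  -- no two-point stabiliser fixes everything
  have hall : ∀ b : Ω, b ≠ a → ¬ ∀ z : Ω, z ≠ a → two (G := G) a b = two a z := by
    intro b hb h
    have hbot : two (G := G) a b = ⊥ := by
      rw [Subgroup.eq_bot_iff_forall]
      intro g hg
      refine eq_of_smul_eq_smul (α := Ω) fun z => ?_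
      rw [one_smul]
      by_cases hz : z = a
      · rw [hz]; exact (mem_two.1 hg).1
      · rw [h z hz] at hg; exact (mem_two.1 hg).2
    have := hceq b hb
    rw [hbot, Subgroup.card_bot] at this
    omega
  -- a stabiliser is constant on the classes of `N`
  have hclass : ∀ n m : N, n ≠ 1 → two (G := G) a (f n) = two a (f (m * n * m⁻¹)) := by
    intro n m hn
    refine block_eq a c t hceq ht hcop (Set.range fun k : N => f (k * n * k⁻¹)) ?_ ?_ ?_
      ⟨1, by simp⟩ ⟨m, rfl⟩
    · rintro ⟨k, hk⟩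
      exact hne1 _ (fun e => hn (conj_eq_one_iff.1 e)) hk
    · have e : (Set.range fun k : N => f (k * n * k⁻¹)) = f '' MulAction.orbit (ConjAct N) n := by
        ext z
        constructor
        · rintro ⟨k, rfl⟩
          exact ⟨_, ⟨ConjAct.toConjAct k, rfl⟩, rfl⟩
        · rintro ⟨_, ⟨k, rfl⟩, rfl⟩
          exact ⟨ConjAct.ofConjAct k, rfl⟩
      rw [Nat.card_coe_set_eq, e, Set.ncard_image_of_injective _ hfinj,
        ← MulAction.index_stabilizer, ← hcardN]
      exact Subgroup.index_dvd_card (G := ConjAct N) _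
    · rintro g hg _ ⟨k, rfl⟩ ⟨k', hk'⟩ _ ⟨l, rfl⟩
      dsimp only at hk' ⊢
      rw [hconj g hg] at hk'
      have hk'' : ((k' * n * k'⁻¹ : N) : G) = g * ((k * n * k⁻¹ : N) : G) * g⁻¹ :=
        congrArg Subtype.val (hfinj hk')
      refine ⟨⟨g * ((l * k⁻¹ : N) : G) * g⁻¹, hN.conj_mem _ (l * k⁻¹).2 g⟩ * k', ?_⟩
      rw [hconj g hg]
      refine congrArg f (Subtype.ext ?_)
      simp only [Subgroup.coe_mul, Subgroup.coe_inv] at hk'' ⊢
      calc g * (↑l * (↑k)⁻¹) * g⁻¹ * ↑k' * ↑n * (g * (↑l * (↑k)⁻¹) * g⁻¹ * ↑k')⁻¹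
          = g * (↑l * (↑k)⁻¹) * g⁻¹ * (↑k' * ↑n * (↑k')⁻¹) * (g * (↑l * (↑k)⁻¹) * g⁻¹)⁻¹ := by
            group
        _ = g * (↑l * ↑n * (↑l)⁻¹) * g⁻¹ := by rw [hk'']; group
  have htwo : ∀ g : G, ∀ n : N, g ∈ two (G := G) a (f n) ↔ g • a = a ∧ g * n = n * g := by
    intro g n
    rw [mem_two]
    refine and_congr_right fun hg => ?_
    rw [hconj g hg, hfinj.eq_iff]
    constructor
    · intro h
      exact mul_inv_eq_iff_eq_mul.1 (congrArg Subtype.val h)
    · intro h
      exact Subtype.ext (mul_inv_eq_iff_eq_mul.2 h)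
  -- the stabiliser classes are normal subgroups
  have hcomp : ∀ n : N, n ≠ 1 → ∃ P : Subgroup N, P.Normal ∧ n ∈ P ∧
      ∀ y : N, y ≠ 1 → (y ∈ P ↔ two (G := G) a (f y) = two a (f n)) := by
    intro n hn
    have key : ∀ y : N, y ≠ 1 → (y ∈ (Subgroup.centralizer
        (two (G := G) a (f n) : Set G)).subgroupOf N ↔ two (G := G) a (f y) = two a (f n)) := by
      intro y hy
      rw [Subgroup.mem_subgroupOf, Subgroup.mem_centralizer_iff]
      constructor
      · intro h
        refine (Subgroup.eq_of_le_of_card_ge (fun g hg => (htwo g y).2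
          ⟨((htwo g n).1 hg).1, h g hg⟩) ?_).symm
        rw [hceq _ (hne1 y hy), hceq _ (hne1 n hn)]
      · intro h g hg
        exact ((htwo g y).1 (h.symm ▸ hg)).2
    refine ⟨_, ⟨fun y hy m => ?_⟩, (key n hn).2 rfl, key⟩
    by_cases hy1 : y = 1
    · subst hy1; simp
    · exact (key _ (fun e => hy1 (conj_eq_one_iff.1 e))).2 ((hclass y m hy1).symm.trans ((key y hy1).1 hy))
  have hab' : ∀ x y : N, x * y = y * x := by
    intro x y
    by_cases hx : x = 1
    · simp [hx]
    obtain ⟨P, hPn, hxP, hP⟩ := hcomp x hx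
    have hout : ∀ w : N, w ∉ P → x * w = w * x := by
      intro w hw
      have hw1 : w ≠ 1 := fun e => hw (e ▸ one_mem P)
      obtain ⟨Q, hQn, hwQ, hQ⟩ := hcomp w hw1
      have hdis : Disjoint P Q := by
        rw [Subgroup.disjoint_def]
        intro z hzP hzQ
        by_contra hz
        exact hw ((hP w hw1).2 (((hQ z hz).1 hzQ).symm.trans ((hP z hz).1 hzP)))
      exact Subgroup.commute_of_normal_of_disjoint P Q hPn hQn hdis x w hxP hwQ
    by_cases hy : y ∈ P
    · obtain ⟨w, hw⟩ : ∃ w, w ∉ P := by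
        by_contra hcon
        push Not at hcon
        refine hall (f x) (hne1 x hx) fun z hz => ?_
        obtain ⟨k, rfl⟩ := hfsurj z
        exact ((hP k (fun e => hz (e ▸ hf1))).1 (hcon k)).symm
      have h1 := hout w hw
      have h2 := hout (y * w) (fun h => hw ((Subgroup.mul_mem_cancel_left P hy).1 h))
      refine mul_right_cancel (b := w) ?_
      rw [mul_assoc, h2, mul_assoc y x w, h1, mul_assoc]
    · exact hout y hy
  -- no proper non-trivial invariant subgroup
  have hmin : ∀ L : Subgroup G, L.Normal → L ≤ N → L ≠ ⊥ → L = N := by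
    intro L hL hLN hL0
    by_contra hne'
    obtain ⟨y, hyN, hyL⟩ := SetLike.exists_of_lt (lt_of_le_of_ne hLN hne')
    obtain ⟨⟨l, hlL⟩, hl1⟩ := Subgroup.ne_bot_iff_exists_ne_one.1 hL0
    have hl1' : (⟨l, hLN hlL⟩ : N) ≠ 1 := fun e => hl1 (Subtype.ext (congrArg (Subtype.val : N → G) e))
    have key : ∀ w : N, (w : G) ∉ L → ∀ k : N, (k : G) ∈ L → k ≠ 1 →
        two (G := G) a (f w) = two a (f k) := by
      intro w hw k hk hk1
      have hw1 : w ≠ 1 := fun e => hw (e ▸ one_mem L)
      have e := block_eq a c t hceq ht hcop (f '' {z : N | (z : G) * (w : G)⁻¹ ∈ L}) ?_ ?_ ?_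
        ⟨w, by simp, rfl⟩ ⟨k * w, by simpa using hk, rfl⟩
      · refine Subgroup.eq_of_le_of_card_ge (fun g hg => ?_) ?_
        · have h2 := e ▸ hg
          rw [htwo] at hg h2 ⊢
          refine ⟨hg.1, mul_right_cancel (b := (w : G)) ?_⟩
          calc g * k * w = g * ((k * w : N) : G) := by rw [Subgroup.coe_mul, mul_assoc]
            _ = ((k * w : N) : G) * g := h2.2
            _ = k * g * w := by rw [Subgroup.coe_mul, mul_assoc, ← hg.2, mul_assoc]
        · rw [hceq _ (hne1 w hw1), hceq _ (hne1 k hk1)]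
      · rintro ⟨z, hz, hza⟩
        have hz1 : z = 1 := hfinj (hza.trans hf1.symm)
        subst hz1
        simp at hz
        exact hw hz
      · rw [Nat.card_coe_set_eq, Set.ncard_image_of_injective _ hfinj, ← hcardN]
        refine dvd_trans (dvd_of_eq ?_) (Subgroup.card_subgroup_dvd_card (L.subgroupOf N))
        rw [← Nat.card_coe_set_eq]
        refine Nat.card_congr ⟨fun z => ⟨z.1 * w⁻¹, z.2⟩,
          fun z => ⟨z.1 * w, show ((z.1 * w : N) : G) * (w : G)⁻¹ ∈ L by
          simpa using Subgroup.mem_subgroupOf.1 z.2⟩, fun z => by simp, fun z => by simp⟩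
      · rintro g hg _ ⟨z, hz, rfl⟩ ⟨z', hz', he⟩ _ ⟨v, hv, rfl⟩
        rw [hconj g hg] at he
        have he' : (z' : G) = g * z * g⁻¹ := congrArg Subtype.val (hfinj he)
        refine ⟨⟨g * v * g⁻¹, hN.conj_mem _ v.2 g⟩, ?_, (hconj g hg v).symm⟩
        change g * v * g⁻¹ * (w : G)⁻¹ ∈ L
        have hvz : (v : G) * (z : G)⁻¹ ∈ L := by
          have hz0 : (z : G) * (w : G)⁻¹ ∈ L := hz
          have hv0 : (v : G) * (w : G)⁻¹ ∈ L := hv
          have := mul_mem hv0 (inv_mem hz0)
          simpa [mul_assoc] using this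
        have hz0' : (z' : G) * (w : G)⁻¹ ∈ L := hz'
        have := mul_mem (hL.conj_mem _ hvz g) hz0'
        rw [he'] at this
        simpa [mul_assoc] using this
    refine hall (f ⟨l, hLN hlL⟩) (hne1 _ hl1') fun z hz => ?_
    obtain ⟨k, rfl⟩ := hfsurj z
    have hk1 : k ≠ 1 := fun e => hz (e ▸ hf1)
    rw [← key ⟨y, hyN⟩ hyL ⟨l, hLN hlL⟩ hlL hl1']
    by_cases hk : (k : G) ∈ L
    · exact key ⟨y, hyN⟩ hyL k hk hk1
    · rw [key k hk ⟨l, hLN hlL⟩ hlL hl1', ← key ⟨y, hyN⟩ hyL ⟨l, hLN hlL⟩ hlL hl1']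
  haveI hNnt : Nontrivial N := by
    obtain ⟨x, hx⟩ := hfsurj b₀
    exact ⟨x, 1, fun e => hab.symm (hx.symm.trans (e ▸ hf1))⟩
  constructor
  · obtain ⟨p, hp, hpdvd⟩ := Nat.exists_prime_and_dvd (Finite.one_lt_card (α := N)).ne'
    haveI : Fact p.Prime := ⟨hp⟩
    obtain ⟨x, hx⟩ := exists_prime_orderOf_dvd_card' p hpdvd
    have hcomm : ∀ u v : G, u ∈ N → v ∈ N → Commute u v := fun u v hu hv =>
      congrArg Subtype.val (hab' ⟨u, hu⟩ ⟨v, hv⟩)
    let L : Subgroup G :=
      { carrier := {g | g ∈ N ∧ g ^ p = 1}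
        one_mem' := ⟨one_mem N, one_pow p⟩
        mul_mem' := by
          rintro u v ⟨hu, hu'⟩ ⟨hv, hv'⟩
          exact ⟨mul_mem hu hv, by rw [(hcomm u v hu hv).mul_pow, hu', hv', one_mul]⟩
        inv_mem' := by
          rintro u ⟨hu, hu'⟩
          exact ⟨inv_mem hu, by rw [inv_pow, hu', inv_one]⟩ }
    have hLn : L.Normal := ⟨fun u hu g => ⟨hN.conj_mem _ hu.1 g, by
      rw [conj_pow, hu.2, mul_one, mul_inv_cancel]⟩⟩
    have hxp : (x : G) ^ p = 1 := by
      have h := pow_orderOf_eq_one x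
      rw [hx] at h
      simpa using congrArg Subtype.val h
    have hL0 : L ≠ ⊥ := by
      intro e
      have hxL : (x : G) ∈ L := ⟨x.2, hxp⟩
      rw [e, Subgroup.mem_bot] at hxL
      rw [show x = 1 from Subtype.ext hxL, orderOf_one] at hx
      exact hp.one_lt.ne hx
    have hLN := hmin L hLn (fun u hu => hu.1) hL0
    exact ⟨p, hp, ⟨⟨hab'⟩⟩, fun u hu => (hLN.symm ▸ hu : u ∈ L).2⟩
  · intro M hM hM0
    by_cases hMN : M ⊓ N = ⊥
    · exfalso
      have hcm : ∀ m ∈ M, ∀ n ∈ N, Commute m n := fun m hm n hn =>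
        Subgroup.commute_of_normal_of_disjoint M N hM hN (disjoint_iff.2 hMN) m n hm hn
      refine hM0 ((Subgroup.eq_bot_iff_forall _).2 fun m hm => ?_)
      obtain ⟨n, hn⟩ := hfsurj (m • a)
      have hmn : m = (n : G) := by
        refine eq_of_smul_eq_smul (α := Ω) fun z => ?_
        obtain ⟨k, rfl⟩ := hfsurj z
        change m • (k : G) • a = (n : G) • (k : G) • a
        rw [← mul_smul, (hcm m hm k k.2).eq, mul_smul, ← hn, ← mul_smul,
          show (n : G) * k = k * n from congrArg Subtype.val (hab' n k), mul_smul]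
        rfl
      have : m ∈ M ⊓ N := ⟨hm, hmn ▸ n.2⟩
      rwa [hMN, Subgroup.mem_bot] at this
    · haveI := hM
      exact (hmin (M ⊓ N) inferInstance inf_le_right hMN) ▸ inf_le_left

end Cfsg.Agent.S3356
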