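import Cfsg.Statements.S3357
import Cfsg.Agent.Lib.Frobenius.Theorem
import Cfsg.Agent.Lib.Frobenius.Fpf
import Cfsg.Agent.Lib.Frobenius.FpfRep
import Mathlib.Tactic

set_option autoImplicit false
open Cfsg

namespace Cfsg.Agent.S3357

/-- Let G be a finite group that occurs as a Frobenius complement. Then G has a faithful irreducible representation over an algebraic closure of the rationals in which no non-identity element of G has 1 as an eigenvalue: there are n ≥ 1 and an injective homomorphism ρ from G to GL(n) over that field, with no invariant subspace other than 0 and the whole space, such that for g ≠ 1 the only vector fixed by ρ(g) is 0. -/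
theorem result {G : Type*} [Group G] [Finite G]
    (hFC : ∃ (L : Type) (_ : Group L) (_ : Finite L) (H : Subgroup L), Cfsg.IsFrobeniusComplement H ∧ Nonempty (G ≃* H)) :
    ∃ (n : ℕ) (ρ : G →* GL (Fin n) (AlgebraicClosure ℚ)), 0 < n ∧ Function.Injective ρ ∧
      (∀ W : Submodule (AlgebraicClosure ℚ) (Fin n → AlgebraicClosure ℚ),
        (∀ g : G, ∀ w ∈ W, ((ρ g : GL (Fin n) (AlgebraicClosure ℚ)) : Matrix (Fin n) (Fin n) (AlgebraicClosure ℚ)).mulVec w ∈ W) → W = ⊥ ∨ W = ⊤) ∧
      ∀ g : G, g ≠ 1 → ∀ v : Fin n → AlgebraicClosure ℚ,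
        ((ρ g : GL (Fin n) (AlgebraicClosure ℚ)) : Matrix (Fin n) (Fin n) (AlgebraicClosure ℚ)).mulVec v = v → v = 0 := by
  obtain ⟨L, _, _, H, hH, ⟨e⟩⟩ := hFC
  obtain ⟨K, -, hKn, hc⟩ := CfsgLib.Frobenius.exists_kernel_subgroup hH
  have hfpf : ∀ h ∈ H, h ≠ 1 → K ⊓ Subgroup.centralizer {h} = ⊥ := fun h hh h1 =>
    CfsgLib.Frobenius.fpf_of_isFrobeniusComplement hc hH hh h1
  have hKcard : Nat.card K ≠ 1 := by
    rw [← hc.index_eq_card]
    have := CfsgLib.Frobenius.index_ge_two hH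
    omega
  obtain ⟨q, hq, hqK⟩ := Nat.exists_prime_and_dvd hKcard
  have : Fact q.Prime := ⟨hq⟩
  obtain ⟨V, hVK, hVne, hVc, hVp, hHV⟩ :=
    CfsgLib.Frobenius.exists_invariant_abelian hc hH.1 hfpf hqK
  have hqG : ¬ q ∣ Nat.card G := by
    rw [Nat.card_congr e.toEquiv]
    intro hd
    have h1 := CfsgLib.Frobenius.coprime_card_index hH
    rw [hc.index_eq_card] at h1
    exact hq.one_lt.ne' (Nat.eq_one_of_dvd_coprimes h1 hd hqK)
  obtain ⟨d, hd, ρ, hρ⟩ := CfsgLib.Frobenius.exists_fpf_modp q V hVne hVc hVp H hHV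
    (fun h hh h1 => le_bot_iff.mp ((inf_le_inf_right _ hVK).trans (hfpf h hh h1).le)) e.toMonoidHom e.injective
  exact CfsgLib.Frobenius.exists_fpf_qbar q hqG d hd ρ hρ

end Cfsg.Agent.S3357
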