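import Cfsg.Statements.S3358
import Cfsg.Agent.Lib.Frobenius.Metacyclic
import Cfsg.Agent.Lib.Frobenius.ComplementSolvable
import Cfsg.Agent.Lib.Frobenius.Theorem
import Cfsg.Agent.Lib.Frobenius.Fpf
import Cfsg.Agent.Lib.Frobenius.FpfRep
import Cfsg.Agent.Lib.Zassenhaus.Transfer

set_option autoImplicit false
set_option linter.style.haveILetI false
open Cfsg

namespace Cfsg.Agent.S3358

/-- Structure of solvable Frobenius complements. Let G be a finite solvable group that occurs as a Frobenius complement. Then G has a normal subgroup G₀ such that G/G₀ is isomorphic to a subgroup of Sym(4) (G₀ is the kernel of a homomorphism to Sym(4)), all Sylow subgroups of G₀ are cyclic, and G₀ has a presentation ⟨x, y | x^n = 1, y^m = 1, x⁻¹ y x = y^r⟩ with n, m ≥ 1, gcd(r − 1, m) = gcd(n, m) = 1 and r^(n/n′) ≡ 1 (mod m), where n′ is the product of the distinct primes dividing n. -/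
theorem result {G : Type*} [Group G] [Finite G] (hsol : Group.IsSolvable G)
    (hFC : ∃ (L : Type) (_ : Group L) (_ : Finite L) (H : Subgroup L), Cfsg.IsFrobeniusComplement H ∧ Nonempty (G ≃* H)) :
    ∃ G₀ : Subgroup G, G₀.Normal ∧
      (∃ f : G →* Equiv.Perm (Fin 4), f.ker = G₀) ∧
      (∀ (p : ℕ) [Fact p.Prime] (P : Sylow p G₀), IsCyclic P) ∧
      ∃ n m r : ℕ, 0 < n ∧ 0 < m ∧ Nat.Coprime (r - 1) m ∧ Nat.Coprime n m ∧ 1 ≤ r ∧
        r ^ (n / ∏ p ∈ n.primeFactors, p) % m = 1 % m ∧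
        Nonempty (G₀ ≃* PresentedGroup
          ({FreeGroup.of (0 : Fin 2) ^ n, FreeGroup.of (1 : Fin 2) ^ m,
            (FreeGroup.of (0 : Fin 2))⁻¹ * FreeGroup.of 1 * FreeGroup.of 0 * (FreeGroup.of (1 : Fin 2) ^ r)⁻¹} :
            Set (FreeGroup (Fin 2)))) := by
  haveI := hsol
  obtain ⟨L, _, _, H, hH, ⟨e⟩⟩ := hFC
  have hG : CfsgLib.Zassenhaus.HasFpf G :=
    (CfsgLib.Zassenhaus.HasFpf.of_isFrobeniusComplement hH).of_injective e.toMonoidHom e.injective
  obtain ⟨K, -, hKn, hc⟩ := CfsgLib.Frobenius.exists_kernel_subgroup hH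
  have hfpf : ∀ h ∈ H, h ≠ 1 → K ⊓ Subgroup.centralizer {h} = ⊥ := fun h hh h1 =>
    CfsgLib.Frobenius.fpf_of_isFrobeniusComplement hc hH hh h1
  have hKcard : Nat.card K ≠ 1 := by
    rw [← hc.index_eq_card]
    have := CfsgLib.Frobenius.index_ge_two hH
    omega
  obtain ⟨q, hq, hqK⟩ := Nat.exists_prime_and_dvd hKcard
  have : Fact q.Prime := ⟨hq⟩
  obtain ⟨V, hVK, hVne, hVc, hVp, hHV⟩ :=
    CfsgLib.Frobenius.exists_invariant_abelian hc hH.1 hfpf hqK
  obtain ⟨d, hd, ρ, hρ⟩ := CfsgLib.Frobenius.exists_fpf_modp q V hVne hVc hVp H hHV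
    (fun h hh h1 => le_bot_iff.mp ((inf_le_inf_right _ hVK).trans (hfpf h hh h1).le))
    e.toMonoidHom e.injective
  haveI : Nonempty (Fin d) := ⟨⟨0, hd⟩⟩
  letI : DistribMulAction G (Fin d → ZMod q) :=
    { smul := fun g v => (ρ g : Matrix (Fin d) (Fin d) (ZMod q)).mulVec v
      one_smul := fun v => by show Matrix.mulVec _ v = v; rw [map_one, Units.val_one, Matrix.one_mulVec]
      mul_smul := fun g h v => by
        show Matrix.mulVec _ v = Matrix.mulVec _ (Matrix.mulVec _ v)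
        rw [map_mul, Units.val_mul, Matrix.mulVec_mulVec]
      smul_zero := fun g => Matrix.mulVec_zero _
      smul_add := fun g v w => Matrix.mulVec_add _ v w }
  obtain ⟨f, hf⟩ := CfsgLib.Frobenius.exists_perm_small hG (V := Fin d → ZMod q)
    (fun v hv g hg => by
      by_contra hg1
      exact hv (hρ g hg1 v hg))
  haveI hZ : IsZGroup f.ker := hG.isZGroup hf
  exact ⟨f.ker, inferInstance, ⟨f, rfl⟩, fun p hp P => hZ.isZGroup p hp.out P,
    CfsgLib.Frobenius.exists_zgroup_presentation (hG.subgroup f.ker)⟩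

end Cfsg.Agent.S3358
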