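import Cfsg.Statements.S3362
import Cfsg.Agent.Lib.PermGen.M12Data
import Mathlib.GroupTheory.GroupAction.MultipleTransitivity
-- import your own Cfsg.Agent.* helpers here

set_option autoImplicit false
open Cfsg

open CfsgLib.Comp CfsgLib.PermGen

namespace Cfsg.Agent.S3362

/-- The span of the eight codes. -/
noncomputable def big : Subgroup (Equiv.Perm (Fin 12)) := PermCode.span 12 M12Data.m12Gens

theorem span_eq (gens : List ℕ) :
    PermCode.span 12 gens = Subgroup.closure {g | g ∈ gens.map (PermCode.val 12)} := by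
  simp only [PermCode.span, List.mem_map]

theorem levels_check : (Nat.beq M12Data.levels.length 5 && PermCode.allLt 5 (fun k =>
    (M12Data.levels.getD k []).all (fun c => PermCode.okb 12 c &&
      PermCode.sift 12 M12Data.m12Chain c && PermCode.allLt k (fun j => Nat.beq (PermCode.get c j) j)) &&
    PermCode.allLt 12 (fun x => Nat.blt x k ||
      (M12Data.levels.getD k []).any fun c => Nat.beq (PermCode.get c k) x))) = true := by
  decide +kernel

/-- The elements fixing the first `k` points are transitive on the others. -/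
theorem level_spec {k : ℕ} (hk : k < 5) {x : Fin 12} (hx : k ≤ x.val) :
    ∃ g ∈ big, (∀ j : Fin 12, j.val < k → g j = j) ∧ g ⟨k, by omega⟩ = x := by
  have h := levels_check
  rw [Bool.and_eq_true] at h
  have h2 := PermCode.allLt_spec h.2 k hk
  rw [Bool.and_eq_true, List.all_eq_true] at h2
  have h3 := PermCode.allLt_spec h2.2 x x.2
  rw [Bool.or_eq_true, Nat.blt_eq, List.any_eq_true] at h3
  obtain ⟨c, hc, hcx⟩ := h3.resolve_left (by omega)
  have h4 := h2.1 c hc
  simp only [Bool.and_eq_true] at h4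
  refine ⟨PermCode.val 12 c, PermCode.mem_span M12Data.m12_check h4.1.1 h4.1.2, fun j hj => Fin.ext ?_,
    Fin.ext ?_⟩
  · rw [PermCode.val_apply (PermCode.ok_of_okb h4.1.1)]
    exact Nat.eq_of_beq_eq_true (PermCode.allLt_spec h4.2 _ hj)
  · rw [PermCode.val_apply (PermCode.ok_of_okb h4.1.1)]
    exact Nat.eq_of_beq_eq_true hcx

theorem exists_to_initial : ∀ k, k ≤ 5 → ∀ z : Fin k → Fin 12, Function.Injective z →
    ∃ g ∈ big, ∀ i : Fin k, (g (z i)).val = i.val
  | 0, _, z, _ => ⟨1, one_mem _, fun i => i.elim0⟩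
  | k + 1, hk, z, hz => by
    obtain ⟨g, hg, hgz⟩ := exists_to_initial k (by omega) (fun i => z i.castSucc)
      (hz.comp (Fin.castSucc_injective _))
    have hge : k ≤ (g (z (Fin.last k))).val := by
      by_contra hlt
      push Not at hlt
      have he := hz (g.injective (Fin.ext (hgz ⟨_, hlt⟩) :
        g (z (Fin.castSucc ⟨_, hlt⟩)) = g (z (Fin.last k))))
      exact (Fin.castSucc_lt_last _).ne he
    obtain ⟨t, ht, htfix, htk⟩ := level_spec (k := k) (by omega) hge
    refine ⟨t⁻¹ * g, mul_mem (inv_mem ht) hg, fun i => ?_⟩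
    rw [Equiv.Perm.mul_apply]
    rcases Fin.eq_castSucc_or_eq_last i with ⟨j, rfl⟩ | rfl
    · have hj := hgz j
      have hlt : (g (z j.castSucc)).val < k := by omega
      rw [Equiv.Perm.inv_eq_iff_eq.2 (htfix _ hlt).symm]
      simpa using hj
    · rw [← htk, show t⁻¹ (t ⟨k, by omega⟩) = ⟨k, by omega⟩ from t.symm_apply_apply _]
      simp

theorem pretransitive_five : MulAction.IsMultiplyPretransitive big (Fin 12) 5 := by
  rw [MulAction.isMultiplyPretransitive_iff]
  intro x y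
  obtain ⟨a, ha, hax⟩ := exists_to_initial 5 le_rfl x x.injective
  obtain ⟨b, hb, hby⟩ := exists_to_initial 5 le_rfl y y.injective
  refine ⟨⟨b⁻¹ * a, mul_mem (inv_mem hb) ha⟩, ?_⟩
  ext i : 1
  show b⁻¹ (a (x i)) = y i
  rw [Equiv.Perm.inv_eq_iff_eq]
  exact Fin.ext ((hax i).trans (hby i).symm)

/-- An explicit construction of the Mathieu groups of degrees 11 and 12. On the points 0, …, 11 let s = (3 4 5)(6 7 8)(9 10 11), t = (3 6 9)(4 7 10)(5 8 11), u = (4 6 5 9)(7 8 11 10), v = (4 7 5 11)(6 10 9 8), w = (4 10 5 8)(6 11 9 7), x₁ = (0 3)(6 7)(8 10)(9 11), x₂ = (0 1)(6 9)(7 10)(8 11), x₃ = (1 2)(6 11)(7 9)(8 10) (each written as a product of transpositions). Then the group M₁₂ generated by all eight permutations is sharply 5-transitive on the 12 points and has order 95040, and the group M₁₁ generated by the first seven has order 7920 and is the stabilizer of the point 2 in M₁₂. -/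
theorem result
    (s t u v w x₁ x₂ x₃ : Equiv.Perm (Fin 12))
    (hs : s = Equiv.swap (3 : Fin 12) 5 * Equiv.swap (3 : Fin 12) 4 * Equiv.swap (6 : Fin 12) 8 * Equiv.swap (6 : Fin 12) 7 * Equiv.swap (9 : Fin 12) 11 * Equiv.swap (9 : Fin 12) 10) (ht : t = Equiv.swap (3 : Fin 12) 9 * Equiv.swap (3 : Fin 12) 6 * Equiv.swap (4 : Fin 12) 10 * Equiv.swap (4 : Fin 12) 7 * Equiv.swap (5 : Fin 12) 11 * Equiv.swap (5 : Fin 12) 8)
    (hu : u = Equiv.swap (4 : Fin 12) 9 * Equiv.swap (4 : Fin 12) 5 * Equiv.swap (4 : Fin 12) 6 * Equiv.swap (7 : Fin 12) 10 * Equiv.swap (7 : Fin 12) 11 * Equiv.swap (7 : Fin 12) 8) (hv : v = Equiv.swap (4 : Fin 12) 11 * Equiv.swap (4 : Fin 12) 5 * Equiv.swap (4 : Fin 12) 7 * Equiv.swap (6 : Fin 12) 8 * Equiv.swap (6 : Fin 12) 9 * Equiv.swap (6 : Fin 12) 10) (hw : w = Equiv.swap (4 : Fin 12) 8 * Equiv.swap (4 : Fin 12) 5 * Equiv.swap (4 : Fin 12) 10 * Equiv.swap (6 : Fin 12) 7 * Equiv.swap (6 : Fin 12) 9 * Equiv.swap (6 : Fin 12) 11)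
    (hx₁ : x₁ = Equiv.swap (0 : Fin 12) 3 * Equiv.swap (6 : Fin 12) 7 * Equiv.swap (8 : Fin 12) 10 * Equiv.swap (9 : Fin 12) 11) (hx₂ : x₂ = Equiv.swap (0 : Fin 12) 1 * Equiv.swap (6 : Fin 12) 9 * Equiv.swap (7 : Fin 12) 10 * Equiv.swap (8 : Fin 12) 11)
    (hx₃ : x₃ = Equiv.swap (1 : Fin 12) 2 * Equiv.swap (6 : Fin 12) 11 * Equiv.swap (7 : Fin 12) 9 * Equiv.swap (8 : Fin 12) 10)
    (M₁₂ M₁₁ : Subgroup (Equiv.Perm (Fin 12))) (hM₁₂ : M₁₂ = Subgroup.closure {s, t, u, v, w, x₁, x₂, x₃})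
    (hM₁₁ : M₁₁ = Subgroup.closure {s, t, u, v, w, x₁, x₂}) :
    MulAction.IsMultiplyPretransitive M₁₂ (Fin 12) 5 ∧ (∀ y : Fin 5 ↪ Fin 12, MulAction.stabilizer M₁₂ y = ⊥) ∧
    Nat.card M₁₂ = 95040 ∧ Nat.card M₁₁ = 7920 ∧
    M₁₁ = M₁₂ ⊓ MulAction.stabilizer (Equiv.Perm (Fin 12)) (2 : Fin 12) := by
  have hcodes : M12Data.m12Gens.map (PermCode.val 12) = [s, t, u, v, w, x₁, x₂, x₃] := by
    simp only [M12Data.m12Gens, List.map_cons, List.map_nil, List.cons.injEq, and_true]
    subst hs ht hu hv hw hx₁ hx₂ hx₃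
    refine ⟨?_, ?_, ?_, ?_, ?_, ?_, ?_, ?_⟩ <;>
      exact PermCode.val_eq_of (by decide +kernel) _ (by decide +kernel)
  have hcodes' : M12Data.m11Gens.map (PermCode.val 12) = [s, t, u, v, w, x₁, x₂] := by
    rw [show M12Data.m11Gens = M12Data.m12Gens.take 7 by decide +kernel, List.map_take, hcodes]
    rfl
  have h12 : M₁₂ = big := by
    rw [hM₁₂, big, span_eq, hcodes]
    congr 1
    ext g
    simp
  have h11 : M₁₁ = PermCode.span 12 M12Data.m11Gens := by
    rw [hM₁₁, span_eq, hcodes']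
    congr 1
    ext g
    simp
  subst h12
  have hcard : Nat.card big = 95040 := M12Data.m12_card
  haveI htrans : MulAction.IsPretransitive big (Fin 5 ↪ Fin 12) := pretransitive_five
  have hsharp : ∀ y : Fin 5 ↪ Fin 12, MulAction.stabilizer big y = ⊥ := by
    intro y
    have h1 := (MulAction.stabilizer big y).index_mul_card
    rw [MulAction.index_stabilizer, @MulAction.orbit_eq_univ big _ _ _ htrans y, Set.ncard_univ, hcard,
      Nat.card_eq_fintype_card, Fintype.card_embedding_eq, Fintype.card_fin, Fintype.card_fin] at h1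
    refine Subgroup.eq_bot_of_card_eq _ ?_
    have e : Nat.descFactorial 12 5 = 95040 := by decide +kernel
    rw [e] at h1
    omega
  refine ⟨pretransitive_five, hsharp, hcard, by rw [h11]; exact M12Data.m11_card, ?_⟩
  have hle : M₁₁ ≤ big ⊓ MulAction.stabilizer (Equiv.Perm (Fin 12)) (2 : Fin 12) := by
    rw [h11, PermCode.span, Subgroup.closure_le]
    rintro _ ⟨c, hc, rfl⟩
    refine ⟨PermCode.one_le 12 _ ((List.take_subset 7 _) ((show M12Data.m11Gens = M12Data.m12Gens.take 7 by decide +kernel) ▸ hc)), ?_⟩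
    show PermCode.val 12 c 2 = 2
    have h1 : ∀ c ∈ M12Data.m11Gens, PermCode.okb 12 c = true ∧ PermCode.get c 2 = 2 := by decide +kernel
    exact Fin.ext (by rw [PermCode.val_apply (PermCode.ok_of_okb (h1 c hc).1)]; exact (h1 c hc).2)
  refine Subgroup.eq_of_le_of_card_ge hle ?_
  rw [h11, M12Data.m11_card]
  haveI : MulAction.IsPretransitive big (Fin 12) :=
    MulAction.isPretransitive_of_is_two_pretransitive
      (h2 := @MulAction.isMultiplyPretransitive_of_le _ _ _ _ 2 5 pretransitive_five (by norm_num) (by simp) inferInstance)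
  have h1 := (MulAction.stabilizer big (2 : Fin 12)).index_mul_card
  rw [MulAction.index_stabilizer, MulAction.orbit_eq_univ, Set.ncard_univ, hcard,
    Nat.card_eq_fintype_card, Fintype.card_fin] at h1
  have h2 : Nat.card ↥(big ⊓ MulAction.stabilizer (Equiv.Perm (Fin 12)) (2 : Fin 12)) =
      Nat.card (MulAction.stabilizer big (2 : Fin 12)) := Nat.card_congr
    { toFun := fun g => ⟨⟨g.1, g.2.1⟩, g.2.2⟩
      invFun := fun g => ⟨g.1.1, g.1.2, g.2⟩
      left_inv := fun g => rfl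
      right_inv := fun g => rfl }
  omega

end Cfsg.Agent.S3362
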