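import Cfsg.Statements.S3365
import Cfsg.Agent.Lib.FixityFour.LowFix
import Cfsg.Agent.Lib.FixityFour.Four
import Cfsg.Agent.Lib.FixityFour.Odd

set_option autoImplicit false
open Cfsg

namespace Cfsg.Agent.S3365


/-- Finite simple groups acting with fixity 4. Let G be a finite non-abelian simple group acting faithfully and transitively on a finite set so that every non-identity element fixes at most 4 points and some non-identity element fixes exactly 4 (fixity 4). Let P be a Sylow 3-subgroup, S a Sylow 2-subgroup, f the largest number of fixed points of an involution of G, and a a point. Then one of the following holds: (1) f ≥ 1 and G has a strongly embedded subgroup; (2) 1 ≤ f ≤ 3 and S is dihedral or semidihedral; (3) f = 4 and G has sectional 2-rank at most 4; (4) the point stabilizer G_a has odd order divisible by 3 and either G has a strongly 3-embedded subgroup (a proper subgroup H of order divisible by 3 such that H ∩ gHg⁻¹ has order prime to 3 for every element g outside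 H), or |P| = 3 and a Sylow 2-subgroup of N_G(P) has order at most 4, or P is elementary abelian of order 9, or P is extraspecial of order 27 and exponent 3, or P is isomorphic to a Sylow 3-subgroup of Sym(9) (the wreath product C₃ ≀ C₃); (5) G_a has order prime to 6. -/
theorem result {G Ω : Type*} [Group G] [Finite G] [IsSimpleGroup G] (hna : ¬ IsMulCommutative G)
    [MulAction G Ω] [FaithfulSMul G Ω] [Finite Ω] (htrans : MulAction.IsPretransitive G Ω)
    (hfix : ∀ g : G, g ≠ 1 → Nat.card (MulAction.fixedBy Ω g) ≤ 4)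
    (hfix4 : ∃ g : G, g ≠ 1 ∧ Nat.card (MulAction.fixedBy Ω g) = 4)
    (P : Sylow 3 G) (S : Sylow 2 G) (f : ℕ)
    (hf : ∀ g : G, orderOf g = 2 → Nat.card (MulAction.fixedBy Ω g) ≤ f)
    (hf' : ∃ g : G, orderOf g = 2 ∧ Nat.card (MulAction.fixedBy Ω g) = f) (a : Ω) :
    (1 ≤ f ∧ ∃ H : Subgroup G, Cfsg.IsStronglyEmbedded H) ∨
    (1 ≤ f ∧ f ≤ 3 ∧ ((∃ n : ℕ, Nonempty ((S : Subgroup G) ≃* DihedralGroup n)) ∨ Cfsg.IsQuasiDihedral (S : Subgroup G))) ∨
    (f = 4 ∧ Cfsg.SectionalPRankLE 2 4 G) ∨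
    (Odd (Nat.card (MulAction.stabilizer G a)) ∧ 3 ∣ Nat.card (MulAction.stabilizer G a) ∧
      ((∃ H : Subgroup G, H ≠ ⊤ ∧ 3 ∣ Nat.card H ∧ ∀ g : G, g ∉ H → ¬ 3 ∣ Nat.card ↥(H ⊓ H.map (MulAut.conj g).toMonoidHom)) ∨
       (Nat.card P = 3 ∧ ∀ T : Sylow 2 (Subgroup.normalizer ((P : Subgroup G) : Set G)), Nat.card T ≤ 4) ∨
       (Nat.card P = 9 ∧ ∀ x ∈ (P : Subgroup G), x ^ 3 = 1) ∨
       (Nat.card P = 27 ∧ Cfsg.IsExtraspecial 3 (P : Subgroup G) ∧ ∀ x ∈ (P : Subgroup G), x ^ 3 = 1) ∨
       (∃ T : Sylow 3 (Equiv.Perm (Fin 9)), Nonempty ((P : Subgroup G) ≃* (T : Subgroup (Equiv.Perm (Fin 9))))))) ∨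
    (Nat.card (MulAction.stabilizer G a)).Coprime 6 := by
  haveI := htrans
  have h : CfsgLib.FixityFour.Hyp G Ω := ⟨hna, htrans, hfix⟩
  rcases Nat.even_or_odd (Nat.card (MulAction.stabilizer G a)) with heven | hodd
  · haveI := Fact.mk Nat.prime_two
    obtain ⟨t, ht⟩ := exists_prime_orderOf_dvd_card' (G := MulAction.stabilizer G a) 2
      (even_iff_two_dvd.1 heven)
    have ht2 : orderOf (t : G) = 2 := by rw [Subgroup.orderOf_coe, ht]
    have hf1 : 1 ≤ f := by
      refine le_trans ?_ (hf _ ht2)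
      rw [Nat.card_coe_set_eq]
      exact (Set.ncard_pos (Set.toFinite _)).2 ⟨a, t.2⟩
    obtain ⟨u, hu, huf⟩ := hf'
    have hf4 : f ≤ 4 := huf ▸ hfix u (CfsgLib.Invol.ne_one_of_invol hu)
    rcases Nat.lt_or_ge f 4 with hlt | hge
    · rcases CfsgLib.FixityFour.low_fix hna htrans hfix S f hf1 (by omega) hf ⟨u, hu, huf⟩ with hse | hd
      · exact Or.inl ⟨hf1, hse⟩
      · exact Or.inr (Or.inl ⟨hf1, by omega, hd⟩)
    · have hf : f = 4 := by omega
      subst hf
      rw [Nat.card_coe_set_eq] at huf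
      have hpu := CfsgLib.FixityFour.involution_parity (Ω := Ω) hna hu
      rw [huf] at hpu
      rcases CfsgLib.FixityFour.four_case h S (fun s hs => by
          have hle := h.ncard_le (CfsgLib.Invol.ne_one_of_invol hs)
          have hp := CfsgLib.FixityFour.involution_parity (Ω := Ω) hna hs
          omega) ⟨u, hu, huf⟩ with hse | hr
      · exact Or.inl ⟨hf1, hse⟩
      · exact Or.inr (Or.inr (Or.inl ⟨rfl, hr⟩))
  · by_cases h3 : 3 ∣ Nat.card (MulAction.stabilizer G a)
    · refine Or.inr (Or.inr (Or.inr (Or.inl ⟨hodd, h3, ?_⟩)))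
      rcases CfsgLib.FixityFour.odd_branch hna htrans hfix P a hodd h3 with h1 | h1 | h1
      · exact Or.inl h1
      · exact Or.inr (Or.inl h1)
      · exact Or.inr (Or.inr (Or.inl h1))
    · refine Or.inr (Or.inr (Or.inr (Or.inr ?_)))
      show Nat.Coprime _ (2 * 3)
      refine Nat.Coprime.mul_right ?_ ?_
      · exact (Nat.coprime_two_left.2 hodd).symm
      · exact ((Nat.prime_three.coprime_iff_not_dvd).2 h3).symm

end Cfsg.Agent.S3365
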