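import Cfsg.Statements.S3366
import Cfsg.Agent.Lib.ShapeThree.Structure

set_option autoImplicit false
open Cfsg
open scoped commutatorElement

namespace Cfsg.Agent.S3366

/-- Let X be a finite group with O₃(X) extraspecial of order 27 and exponent 3, X/O₃(X) isomorphic to SL(2,3), O₂(X) = 1, and a Sylow 3-subgroup of X containing an elementary abelian subgroup of order 27. Then X is isomorphic to the centralizer in PSp(4,3) of a 3-central element of order 3 (an element of order 3 in the centre of a Sylow 3-subgroup). -/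
theorem result {X : Type*} [Group X] [Finite X]
    (hR : Cfsg.IsExtraspecial 3 (Cfsg.pCore 3 X)) (hRcard : Nat.card (Cfsg.pCore 3 X) = 27)
    (hRexp : ∀ r ∈ Cfsg.pCore 3 X, r ^ 3 = 1)
    (e : X ⧸ Cfsg.pCore 3 X ≃* Matrix.SpecialLinearGroup (Fin 2) (ZMod 3))
    (hO2 : Cfsg.pCore 2 X = ⊥)
    (hE : ∃ E : Subgroup X, IsMulCommutative E ∧ (∀ a ∈ E, a ^ 3 = 1) ∧ Nat.card E = 27)
    (F : Type*) [Field F] [Fintype F] (hF : Fintype.card F = 3) :
    ∃ (c : Cfsg.PSp 2 F) (S : Sylow 3 (Cfsg.PSp 2 F)), orderOf c = 3 ∧ c ∈ (S : Subgroup (Cfsg.PSp 2 F)) ∧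
      c ∈ Subgroup.centralizer ((S : Subgroup (Cfsg.PSp 2 F)) : Set (Cfsg.PSp 2 F)) ∧
      Nonempty (X ≃* Subgroup.centralizer ({c} : Set (Cfsg.PSp 2 F))) := by
  classical
  haveI : Fact (Nat.Prime 3) := ⟨Nat.prime_three⟩
  set R := Cfsg.pCore 3 X with hRdef
  haveI : R.Normal := CfsgLib.CharP.pCore_normal'
  let ψ : ZMod 3 ≃+* F := ZMod.ringEquivOfPrime F Nat.prime_three hF
  -- a pair of generators
  obtain ⟨a, ha, b, hb, hab⟩ : ∃ a ∈ R, ∃ b ∈ R, a * b ≠ b * a := by
    by_contra h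
    push Not at h
    have htop : Subgroup.center ↥R = ⊤ := by
      rw [Subgroup.eq_top_iff']
      exact fun g => Subgroup.mem_center_iff.2 fun y => Subtype.ext (h y y.2 g g.2)
    have h3 := hR.2
    rw [htop, Subgroup.card_top, hRcard] at h3
    omega
  have hcenR : ∀ r ∈ R, ∀ s ∈ R, ∀ t ∈ R,
      Commute (r * s * r⁻¹ * s⁻¹) t := by
    intro r hr s hs t ht
    have hmem : ⁅(⟨r, hr⟩ : R), (⟨s, hs⟩ : R)⁆ ∈ Subgroup.center ↥R := by
      rw [← hR.1.2.2]
      exact Subgroup.commutator_mem_commutator (Subgroup.mem_top _) (Subgroup.mem_top _)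
    exact (congrArg Subtype.val (Subgroup.mem_center_iff.1 hmem ⟨t, ht⟩)).symm
  let P : CfsgLib.ShapeThree.Pair R :=
    { a := a
      b := b
      z := b * a * b⁻¹ * a⁻¹
      ha := ha
      hb := hb
      hz := mul_mem (mul_mem (mul_mem hb ha) (inv_mem hb)) (inv_mem ha)
      exp := hRexp
      hzc := fun r hr => hcenR b hb a ha r hr
      hba := by group
      hz1 := fun h => hab (by
        calc a * b = (b * a * b⁻¹ * a⁻¹) * (a * b) := by rw [h, one_mul]
          _ = b * a := by group)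
      hcard := hRcard }
  -- the elementary abelian subgroup
  obtain ⟨E, hEc, hE3, hEcard⟩ := hE
  have hEcomm : ∀ x ∈ E, ∀ y ∈ E, x * y = y * x := fun x hx y hy =>
    congrArg Subtype.val (hEc.is_comm.comm ⟨x, hx⟩ ⟨y, hy⟩)
  have hER : ¬ E ≤ R := by
    intro h
    have he : E = R := Subgroup.eq_of_le_of_card_ge h (by rw [hEcard, hRcard])
    exact hab (hEcomm a (he ▸ ha) b (he ▸ hb))
  obtain ⟨e0, he0E, he0R⟩ := SetLike.not_le_iff_exists.1 hER
  let ψh : E →* Matrix.SpecialLinearGroup (Fin 2) (ZMod 3) :=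
    e.toMonoidHom.comp ((QuotientGroup.mk' R).comp E.subtype)
  have hrange : Nat.card ψh.range ≤ 3 := by
    have h1 : Nat.card ψh.range ∣ 27 := hEcard ▸ Subgroup.card_range_dvd ψh
    have h2 : Nat.card ψh.range ∣ 24 := by
      have := Subgroup.card_subgroup_dvd_card ψh.range
      rwa [Nat.card_eq_fintype_card (α := Matrix.SpecialLinearGroup (Fin 2) (ZMod 3)),
        CfsgLib.ShapeThree.card_S2] at this
    exact Nat.le_of_dvd (by norm_num) (Nat.dvd_gcd h1 h2)
  have hker : 9 ≤ Nat.card ψh.ker := by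
    have h := ψh.ker.index_mul_card
    rw [Subgroup.index_ker, hEcard] at h
    by_contra hlt
    push Not at hlt
    have : Nat.card ψh.range * Nat.card ψh.ker ≤ 3 * 8 := Nat.mul_le_mul hrange (by omega)
    omega
  have hkerR : ∀ x : E, x ∈ ψh.ker → (x : X) ∈ R := fun x hx => by
    rw [← QuotientGroup.eq_one_iff, ← e.injective.eq_iff, map_one]
    exact hx
  have hne : ∃ a1 ∈ R, P.pi a1 ≠ 0 ∧ ∃ e0 : X, e0 ∉ R ∧ e0 ^ 3 = 1 ∧ e0 * a1 = a1 * e0 := by
    by_contra hcon
    push Not at hcon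
    have hall : ∀ x : ψh.ker, ∃ c : ZMod 3, P.phi 0 c = ((x : E) : X) := by
      intro x
      obtain ⟨v, c, hvc⟩ := P.exists_phi (hkerR x x.2)
      have hv : P.pi ((x : E) : X) = 0 := by
        by_contra hv
        exact hcon _ (hkerR x x.2) hv e0 he0R (hE3 e0 he0E) (hEcomm e0 he0E _ (x : E).2)
      rw [← hvc, P.pi_phi] at hv
      exact ⟨c, by rw [← hv]; exact hvc⟩
    choose g hg using hall
    have hginj : Function.Injective g := fun x y h =>
      Subtype.ext (Subtype.ext (by rw [← hg x, ← hg y, h]))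
    have := Nat.card_le_card_of_injective g hginj
    rw [Nat.card_zmod] at this
    omega
  obtain ⟨m, hmbij, hmlaw⟩ := CfsgLib.ShapeThree.exists_coords_group P e hO2 hne
  obtain ⟨c0, S0, hc0, hc0S, hc0C, m', hm'bij, hm'law⟩ := CfsgLib.ShapeThree.target
  let eX : CfsgLib.ShapeThree.Trip ≃ X := Equiv.ofBijective m hmbij
  let eC := Equiv.ofBijective m' hm'bij
  let Φ : X ≃* Subgroup.centralizer ({c0} : Set (Cfsg.PSp 2 (ZMod 3))) :=
    { toEquiv := eX.symm.trans eC
      map_mul' := fun x y => by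
        obtain ⟨s, rfl⟩ := eX.surjective x
        obtain ⟨t, rfl⟩ := eX.surjective y
        show eC (eX.symm (m s * m t)) = eC (eX.symm (eX s)) * eC (eX.symm (eX t))
        rw [← hmlaw, Equiv.symm_apply_apply, Equiv.symm_apply_apply,
          show m (CfsgLib.ShapeThree.tmul s t) = eX (CfsgLib.ShapeThree.tmul s t) from rfl,
          Equiv.symm_apply_apply]
        exact hm'law s t }
  -- transfer to `F`
  let φ : Matrix.symplecticGroup (Fin 2) (ZMod 3) →* Matrix.symplecticGroup (Fin 2) F :=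
    { toFun := fun A ↦ ⟨ψ.toRingHom.mapMatrix A.1, SymplecticGroup.map_mem A.2 ψ.toRingHom⟩
      map_one' := Subtype.ext (map_one ψ.toRingHom.mapMatrix)
      map_mul' := fun A B ↦ Subtype.ext (map_mul ψ.toRingHom.mapMatrix A.1 B.1) }
  have hφ : Function.Bijective φ :=
    ⟨fun a b h ↦ Subtype.ext (Matrix.map_injective ψ.injective (congrArg Subtype.val h)),
      fun a ↦ ⟨⟨ψ.symm.toRingHom.mapMatrix a.1, SymplecticGroup.map_mem a.2 ψ.symm.toRingHom⟩,
        Subtype.ext (by ext i j; simp [φ])⟩⟩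
  let Ψ : Cfsg.PSp 2 (ZMod 3) ≃* Cfsg.PSp 2 F :=
    QuotientGroup.congr _ _ (MulEquiv.ofBijective φ hφ) (by
      ext y
      constructor
      · rintro ⟨x, hx, rfl⟩
        rw [Subgroup.mem_center_iff]
        intro g
        obtain ⟨g', rfl⟩ := (MulEquiv.ofBijective φ hφ).surjective g
        show MulEquiv.ofBijective φ hφ g' * MulEquiv.ofBijective φ hφ x =
          MulEquiv.ofBijective φ hφ x * MulEquiv.ofBijective φ hφ g'
        rw [← map_mul, ← map_mul, Subgroup.mem_center_iff.1 hx g']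
      · intro hy
        refine ⟨(MulEquiv.ofBijective φ hφ).symm y, Subgroup.mem_center_iff.2 fun g => ?_,
          (MulEquiv.ofBijective φ hφ).apply_symm_apply y⟩
        refine (MulEquiv.ofBijective φ hφ).injective ?_
        rw [map_mul, map_mul, MulEquiv.apply_symm_apply]
        exact Subgroup.mem_center_iff.1 hy _)
  refine ⟨Ψ c0, S0.mapSurjective (f := Ψ.toMonoidHom) Ψ.surjective, by rw [MulEquiv.orderOf_eq, hc0],
    ⟨c0, hc0S, rfl⟩, ?_, ⟨Φ.trans ?_⟩⟩
  · rw [Subgroup.mem_centralizer_iff]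
    rintro _ ⟨y, hy, rfl⟩
    show Ψ y * Ψ c0 = Ψ c0 * Ψ y
    rw [← map_mul, ← map_mul, Subgroup.mem_centralizer_iff.1 hc0C y hy]
  · refine
      { toFun := fun x => ⟨Ψ x.1, ?_⟩
        invFun := fun x => ⟨Ψ.symm x.1, ?_⟩
        left_inv := fun x => Subtype.ext (Ψ.symm_apply_apply _)
        right_inv := fun x => Subtype.ext (Ψ.apply_symm_apply _)
        map_mul' := fun x y => Subtype.ext (map_mul Ψ _ _) }
    · rw [Subgroup.mem_centralizer_singleton_iff, ← map_mul, ← map_mul,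
        Subgroup.mem_centralizer_singleton_iff.1 x.2]
    · rw [Subgroup.mem_centralizer_singleton_iff]
      refine Ψ.injective ?_
      rw [map_mul, map_mul, Ψ.apply_symm_apply]
      exact Subgroup.mem_centralizer_singleton_iff.1 x.2

end Cfsg.Agent.S3366
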