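import Cfsg.Statements.S3370
import Cfsg.Agent.Lib.Semilinear.RegularSolvable
import Cfsg.Agent.Lib.PGroup.Basic

set_option autoImplicit false
open Cfsg
set_option linter.style.haveILetI false

namespace Cfsg.Agent.S3370

open CfsgLib.Semilinear

theorem natAbs_geom_eq_one {x : ℤ} {n k : ℕ} (hx : Odd x) (hn : Odd n)
    (h : (∑ i ∈ Finset.range n, x ^ i).natAbs ∣ 2 ^ k) :
    (∑ i ∈ Finset.range n, x ^ i).natAbs = 1 := by
  obtain ⟨j, -, hj⟩ := (Nat.dvd_prime_pow Nat.prime_two).1 h
  rcases Nat.eq_zero_or_pos j with rfl | hj'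
  · exact hj
  exfalso
  have h2 : (2 : ℤ) ∣ ∑ i ∈ Finset.range n, x ^ i := by
    have : (2 : ℕ) ∣ (∑ i ∈ Finset.range n, x ^ i).natAbs := hj ▸ dvd_pow_self 2 hj'.ne'
    exact Int.natCast_dvd.2 this
  have h3 : ((∑ i ∈ Finset.range n, x ^ i : ℤ) : ZMod 2) = 0 :=
    (ZMod.intCast_zmod_eq_zero_iff_dvd _ 2).2 h2
  have hx1 : (x : ZMod 2) = 1 := by
    obtain ⟨a, rfl⟩ := hx
    push_cast
    rw [show (2 : ZMod 2) = 0 by decide, zero_mul, zero_add]
  push_cast at h3
  rw [Finset.sum_congr rfl (fun i _ => by rw [hx1, one_pow])] at h3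
  simp only [Finset.sum_const, Finset.card_range, nsmul_eq_mul, mul_one] at h3
  obtain ⟨a, rfl⟩ := hn
  push_cast at h3
  rw [show (2 : ZMod 2) = 0 by decide, zero_mul, zero_add] at h3
  exact absurd h3 one_ne_zero

theorem mersenne_exp {n p k : ℕ} (hn : 2 ≤ n) (hp : p.Prime) (h : 2 ^ n - 1 = p ^ k) : k = 1 := by
  have hp2 : p ≠ 2 := by
    rintro rfl
    have h2 : 2 ∣ 2 ^ n := dvd_pow_self 2 (by omega)
    have h4 : 4 ≤ 2 ^ n := le_trans (by norm_num) (Nat.pow_le_pow_right two_pos hn)
    rcases Nat.eq_zero_or_pos k with rfl | hk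
    · rw [pow_zero] at h; omega
    · have : 2 ∣ 2 ^ k := dvd_pow_self 2 hk.ne'
      omega
  have hpo : Odd p := hp.odd_of_ne_two hp2
  have h4 : 4 ∣ 2 ^ n := ⟨2 ^ (n - 2), by rw [show (4 : ℕ) = 2 ^ 2 from rfl, ← pow_add]; congr 1; omega⟩
  have hsum : p ^ k + 1 = 2 ^ n := by
    have := Nat.one_le_two_pow (n := n)
    omega
  rcases Nat.even_or_odd k with ⟨j, rfl⟩ | hk
  · exfalso
    obtain ⟨a, ha⟩ := hpo.pow (n := j)
    obtain ⟨c, hc⟩ := h4
    rw [pow_add, ha] at hsum
    have : (2 * a + 1) * (2 * a + 1) = 4 * (a * a + a) + 1 := by ring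
    omega
  · have hg := geom_sum_mul (-(p : ℤ)) k
    have hg' : (∑ i ∈ Finset.range k, (-(p : ℤ)) ^ i) * ((p : ℤ) + 1) = (2 : ℤ) ^ n := by
      have : ((2 : ℤ) ^ n) = ((p : ℤ)) ^ k + 1 := by exact_mod_cast hsum.symm
      rw [this, hk.neg_pow] at *
      linarith
    have hS : (∑ i ∈ Finset.range k, (-(p : ℤ)) ^ i).natAbs = 1 := by
      refine natAbs_geom_eq_one (k := n) ?_ hk ⟨p + 1, ?_⟩
      · exact (Int.odd_coe_nat p).2 hpo |>.neg
      · have := congrArg Int.natAbs hg'
        rw [Int.natAbs_mul, Int.natAbs_pow, show ((p : ℤ) + 1).natAbs = p + 1 by omega] at this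
        simpa using this.symm
    have h' := congrArg Int.natAbs hg'
    rw [Int.natAbs_mul, hS, one_mul, Int.natAbs_pow] at h'
    have h'' : p + 1 = 2 ^ n := by exact_mod_cast h'
    have hk1 : p ^ k = p ^ 1 := by rw [pow_one]; omega
    exact Nat.pow_right_injective hp.two_le hk1

theorem pred_two_pow {q n k : ℕ} (hq : 3 ≤ q) (hodd : Odd q) (hn : 1 ≤ n) (h : q ^ n - 1 = 2 ^ k) :
    n = 1 ∨ (q = 3 ∧ n = 2) := by
  rcases Nat.even_or_odd n with ⟨i, rfl⟩ | hno
  · right
    have hi : 1 ≤ i := by omega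
    have h3 : 3 ≤ q ^ i := le_trans hq (Nat.le_self_pow (by omega) q)
    have hsp : q ^ (i + i) - 1 = (q ^ i + 1) * (q ^ i - 1) := by
      rw [← two_mul, mul_comm, pow_mul, ← Nat.sq_sub_sq, one_pow]
    rw [hsp] at h
    obtain ⟨a, -, ha⟩ := (Nat.dvd_prime_pow Nat.prime_two).1 (Dvd.intro _ h)
    obtain ⟨b, -, hb⟩ := (Nat.dvd_prime_pow Nat.prime_two).1 (Dvd.intro_left _ h)
    have hb1 : b = 1 := by
      rcases (show b = 0 ∨ b = 1 ∨ 2 ≤ b by omega) with rfl | rfl | hb2
      · rw [pow_zero] at hb; omega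
      · rfl
      · exfalso
        have ha2 : 2 ≤ a := by
          by_contra hlt
          have : 2 ^ a ≤ 2 ^ 1 := Nat.pow_le_pow_right two_pos (by omega)
          omega
        obtain ⟨u, hu⟩ : 4 ∣ 2 ^ a := pow_dvd_pow 2 ha2
        obtain ⟨v, hv⟩ : 4 ∣ 2 ^ b := pow_dvd_pow 2 hb2
        omega
    subst hb1
    have hqi : q ^ i = 3 := by omega
    have hq3 : q = 3 := by
      have := Nat.le_self_pow (show i ≠ 0 by omega) q
      omega
    subst hq3
    have hi1 : i = 1 := Nat.pow_right_injective (by norm_num) (hqi.trans (pow_one 3).symm)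
    omega
  · left
    have hg := geom_sum_mul (q : ℤ) n
    have h1 : ((q : ℤ) ^ n - 1) = (2 : ℤ) ^ k := by
      have h1' : q ^ n = 2 ^ k + 1 := by
        have := Nat.one_le_pow n q (by omega)
        omega
      have : ((q : ℤ)) ^ n = 2 ^ k + 1 := by exact_mod_cast h1'
      linarith
    rw [h1] at hg
    have hg' := congrArg Int.natAbs hg
    rw [Int.natAbs_mul, Int.natAbs_pow] at hg'
    have hS := natAbs_geom_eq_one (k := k) ((Int.odd_coe_nat q).2 hodd) hno ⟨((q : ℤ) - 1).natAbs, hg'.symm⟩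
    rw [hS, one_mul, show ((q : ℤ) - 1).natAbs = q - 1 by omega, show (2 : ℤ).natAbs = 2 from rfl] at hg'
    have : q ^ n = q ^ 1 := by
      rw [pow_one]
      have := Nat.one_le_pow n q (by omega)
      omega
    exact Nat.pow_right_injective (by omega) this

/-- Let q be a prime, V a non-trivial finite vector space over the field with q elements, and G a non-trivial finite p-group (p prime) acting faithfully and linearly on V and transitively on the non-zero vectors. Then either q = 2 and G has prime order p = |V| − 1; or p = 2, V has q elements with q = 2^m + 1 and G is cyclic of order 2^m; or p = 2, q = 3, V has 9 elements and G is cyclic of order 8, quaternion of order 8, or semidihedral of order 16. -/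
theorem result (q : ℕ) [Fact q.Prime] {V : Type*} [AddCommGroup V] [Module (ZMod q) V] [Finite V] [Nontrivial V]
    {G : Type*} [Group G] [Finite G] [Nontrivial G] (p : ℕ) [Fact p.Prime] (hG : IsPGroup p G)
    (ρ : G →* (V ≃ₗ[ZMod q] V)) (hρ : Function.Injective ρ)
    (htrans : ∀ v w : V, v ≠ 0 → w ≠ 0 → ∃ g : G, ρ g v = w) :
    (q = 2 ∧ p = Nat.card V - 1 ∧ Nat.card G = p) ∨
    (p = 2 ∧ Nat.card V = q ∧ (∃ m : ℕ, q = 2 ^ m + 1 ∧ Nat.card G = 2 ^ m) ∧ IsCyclic G) ∨
    (p = 2 ∧ q = 3 ∧ Nat.card V = 9 ∧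
      ((IsCyclic G ∧ Nat.card G = 8) ∨ Nonempty (G ≃* QuaternionGroup 2) ∨ (Cfsg.IsQuasiDihedral G ∧ Nat.card G = 16))) := by
  classical
  letI : DistribMulAction G V := DistribMulAction.compHom V ρ
  have hfaith : ∀ g : G, (∀ v : V, g • v = v) → g = 1 := fun g h =>
    hρ (LinearEquiv.ext fun v => by
      rw [map_one]
      exact h v)
  have htr : ∀ v w : V, v ≠ 0 → w ≠ 0 → ∃ g : G, g • v = w := htrans
  have hq : q.Prime := Fact.out
  have hp : p.Prime := Fact.out
  haveI : Fintype V := Fintype.ofFinite V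
  have horb : ∀ v : V, v ≠ 0 →
      Nat.card G = (Nat.card V - 1) * Nat.card (MulAction.stabilizer G v) := by
    intro v hv
    have horb : MulAction.orbit G v = ({0}ᶜ : Set V) := by
      ext w
      constructor
      · rintro ⟨g, rfl⟩ h
        exact hv ((smul_eq_zero_iff_eq g).1 h)
      · intro hw
        obtain ⟨g, hg⟩ := htr v w hv hw
        exact ⟨g, hg⟩
    rw [← Subgroup.index_mul_card (MulAction.stabilizer G v), MulAction.index_stabilizer, horb,
      Set.ncard_compl, Set.ncard_singleton]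
  obtain ⟨v0, hv0⟩ := exists_ne (0 : V)
  obtain ⟨A, -, hAmax⟩ := exists_maximal_ge_of_wellFoundedGT
    (fun B : Subgroup G => B.Normal ∧ IsMulCommutative B) ⊥ ⟨inferInstance, inferInstance⟩
  obtain ⟨hAn, hAcomm⟩ := hAmax.prop
  haveI := hAn
  have hAc : ∀ a ∈ A, ∀ b ∈ A, a * b = b * a := fun a ha b hb =>
    congrArg Subtype.val (mul_comm' (⟨a, ha⟩ : A) ⟨b, hb⟩)
  have hCA := CfsgLib.PGroup.centralizer_eq_of_maximal_normal_abelian hG A hAcomm
    (fun B hB hBc hAB => le_antisymm (hAmax.2 ⟨hB, hBc⟩ hAB) hAB)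
  obtain ⟨F, iF, iFF, φ, σ, ι, hφ, hsemi, hι, hker⟩ :=
    exists_field_of_abelian_normal htr hfaith A hAc
  haveI : CharP F q := by
    have hq0 : (q : F) = 0 := by
      by_contra h
      refine hv0 (hφ (q : F) h ?_)
      rw [map_natCast, map_zero]
      show q • v0 = 0
      rw [← Nat.cast_smul_eq_nsmul (ZMod q), ZMod.natCast_self, zero_smul]
    exact (CharP.charP_iff_prime_eq_zero hq).2 hq0
  obtain ⟨d', -, hFcard'⟩ := FiniteField.card F q
  obtain ⟨d, hd, hFcard⟩ : ∃ d : ℕ, 1 ≤ d ∧ Fintype.card F = q ^ d := ⟨d', d'.pos, hFcard'⟩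
  obtain ⟨hcyc, hAut⟩ := isCyclic_ringEquiv_and_card (q := q) (d := d) hFcard
  letI : Module F V := Module.compHom V φ
  obtain ⟨m, hVcard⟩ : ∃ m, Nat.card V = (q ^ d) ^ m := by
    refine ⟨Module.finrank F V, ?_⟩
    rw [Nat.card_eq_fintype_card, Module.card_eq_pow_finrank (K := F), hFcard]
  have hQ : 2 ≤ q ^ d := le_trans hq.two_le (Nat.le_self_pow (by omega) q)
  have hιinj : Function.Injective ι := fun a b h => Subtype.ext (by
    refine (inv_mul_eq_one.1 (hfaith ((b : G)⁻¹ * a) fun v => ?_)).symm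
    rw [mul_smul, ← hι, h, hι, inv_smul_smul])
  have hιu : Function.Injective ι.toHomUnits := fun a b h => hιinj (congrArg Units.val h)
  haveI hAcyc : IsCyclic A := isCyclic_of_injective ι.toHomUnits hιu
  have hAdvd : Nat.card A ∣ q ^ d - 1 := by
    have h := Subgroup.card_dvd_of_injective ι.toHomUnits hιu
    rwa [Nat.card_units, Nat.card_eq_fintype_card (α := F), hFcard] at h
  haveI : Finite (F ≃+* F) := Finite.of_injective _ DFunLike.coe_injective
  have hrange : Nat.card σ.range ∣ d := hAut ▸ Subgroup.card_subgroup_dvd_card σ.range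
  have hGA : Nat.card G = Nat.card σ.range * Nat.card A := by
    rw [Subgroup.card_eq_card_quotient_mul_card_subgroup σ.ker,
      Nat.card_congr (QuotientGroup.quotientKerEquivRange σ).toEquiv, hker, hCA]
  have hVdvd : Nat.card V - 1 ∣ Nat.card G := ⟨_, horb v0 hv0⟩
  have hm1 : m = 1 := by
    rcases (show m = 0 ∨ m = 1 ∨ 2 ≤ m by omega) with rfl | rfl | hm2
    · have := Finite.one_lt_card (α := V)
      rw [hVcard, pow_zero] at this
      omega
    · rfl
    · exfalso
      have hle : Nat.card V - 1 ≤ d * (q ^ d - 1) := (Nat.le_of_dvd Nat.card_pos hVdvd).trans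
        (hGA ▸ Nat.mul_le_mul (Nat.le_of_dvd hd hrange) (Nat.le_of_dvd (by omega) hAdvd))
      rw [hVcard] at hle
      have h2 : (q ^ d) ^ 2 ≤ (q ^ d) ^ m := Nat.pow_le_pow_right (by omega) hm2
      have hdlt : d < q ^ d := Nat.lt_pow_self hq.one_lt
      obtain ⟨k, hk⟩ : ∃ k, q ^ d = k + 1 := ⟨_, (Nat.sub_add_cancel (by omega)).symm⟩
      rw [hk] at h2 hle hdlt hQ
      rw [Nat.add_sub_cancel] at hle
      have h3 : (k + 1) ^ 2 ≤ d * k + 1 := by omega
      nlinarith
  subst hm1
  rw [pow_one] at hVcard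
  rw [hVcard] at hVdvd
  obtain ⟨e, he⟩ := hG.exists_card_eq
  obtain ⟨k, -, hk⟩ := (Nat.dvd_prime_pow hp).1 (he ▸ hVdvd)
  have hGne : Nat.card G ≠ 1 := by
    have := Finite.one_lt_card (α := G)
    omega
  rcases hq.eq_two_or_odd' with rfl | hqo
  · -- the case `q = 2`
    left
    have hd2 : 2 ≤ d := by
      by_contra hlt
      obtain rfl : d = 1 := by omega
      rw [pow_one] at hAdvd
      rw [hGA, Nat.dvd_one.1 hrange, Nat.dvd_one.1 (show Nat.card A ∣ 1 from hAdvd)] at hGne
      exact hGne rfl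
    obtain rfl : k = 1 := mersenne_exp hd2 hp hk
    rw [pow_one] at hk
    refine ⟨rfl, by rw [hVcard, hk], ?_⟩
    have hdp : d < p := by
      have : d + 1 < 2 ^ d := by
        have : ∀ i, 2 ≤ i → i + 1 < 2 ^ i := by
          intro i hi
          induction i, hi using Nat.le_induction with
          | base => norm_num
          | succ i hi ih => rw [pow_succ]; omega
        exact this d hd2
      omega
    have hr1 : Nat.card σ.range = 1 := by
      obtain ⟨j, -, hj⟩ := (Nat.dvd_prime_pow hp).1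
        (he ▸ (show Nat.card σ.range ∣ Nat.card G from ⟨_, hGA⟩))
      rcases Nat.eq_zero_or_pos j with rfl | hj'
      · exact hj.trans (pow_zero p)
      · exfalso
        have h1 := Nat.le_of_dvd (by omega) hrange
        have h2 : p ≤ p ^ j := Nat.le_self_pow hj'.ne' p
        omega
    rw [hr1, one_mul] at hGA
    rw [hk, ← hGA] at hAdvd
    exact Nat.dvd_antisymm hAdvd (hk ▸ hVdvd)
  · right
    have hq3 : 3 ≤ q := by
      obtain ⟨a, rfl⟩ := hqo
      have := hq.two_le
      omega
    have hk1 : 1 ≤ k := by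
      by_contra h0
      obtain rfl : k = 0 := by omega
      have : 3 ≤ q ^ d := le_trans hq3 (Nat.le_self_pow (by omega) q)
      rw [pow_zero] at hk
      omega
    have hp2 : p = 2 := by
      obtain ⟨a, ha⟩ := hqo.pow (n := d)
      have h2 : 2 ∣ p ^ k := ⟨a, by omega⟩
      exact ((Nat.prime_dvd_prime_iff_eq Nat.prime_two hp).1 (Nat.prime_two.dvd_of_dvd_pow h2)).symm
    subst hp2
    rcases pred_two_pow hq3 hqo hd hk with rfl | ⟨rfl, rfl⟩
    · left
      rw [pow_one] at hVcard hk hVdvd hAdvd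
      have hr1 : Nat.card σ.range = 1 := Nat.dvd_one.1 hrange
      rw [hr1, one_mul] at hGA
      have hcard : Nat.card G = q - 1 := Nat.dvd_antisymm (hGA ▸ hAdvd) hVdvd
      refine ⟨rfl, hVcard, ⟨k, by omega, by omega⟩, ?_⟩
      have hAtop : A = ⊤ := Subgroup.eq_top_of_card_eq A hGA.symm
      exact isCyclic_of_surjective A.subtype (fun g => ⟨⟨g, hAtop ▸ Subgroup.mem_top g⟩, rfl⟩)
    · right
      refine ⟨rfl, rfl, by rw [hVcard]; norm_num, ?_⟩
      norm_num at hVdvd hAdvd
      have hG816 : Nat.card G = 8 ∨ (Nat.card G = 16 ∧ Nat.card A = 8) := by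
        have hA8 := Nat.le_of_dvd (by norm_num) hAdvd
        have hr2 := Nat.le_of_dvd (by norm_num) hrange
        have hle : Nat.card G ≤ 16 := by
          rw [hGA]
          exact Nat.mul_le_mul hr2 hA8
        obtain ⟨c, hc⟩ := hVdvd
        rcases (show c ≤ 2 by omega).eq_or_lt with rfl | hlt
        · refine Or.inr ⟨by omega, ?_⟩
          rw [hGA] at hc
          have : Nat.card σ.range * Nat.card A ≤ 2 * Nat.card A := Nat.mul_le_mul_right _ hr2
          omega
        · left
          have := Nat.card_pos (α := G)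
          interval_cases c <;> omega
      rcases hG816 with h8 | ⟨h16, hA8⟩
      · have hfree : ∀ v : V, v ≠ 0 → ∀ g : G, g • v = v → g = 1 := by
          intro v hv g hg
          have h := horb v hv
          rw [h8, hVcard, show (3 : ℕ) ^ 2 - 1 = 8 from rfl] at h
          have hmem : g ∈ MulAction.stabilizer G v := hg
          rwa [Subgroup.eq_bot_of_card_eq _ (by omega : Nat.card (MulAction.stabilizer G v) = 1),
            Subgroup.mem_bot] at hmem
        rcases CfsgLib.Solvable.isCyclic_or_quaternion_of_unique_involution hG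
          (fun u v hu hu1 hv hv1 => involution_unique (V := V) hfree
            (by rwa [← pow_two]) hu1 (by rwa [← pow_two]) hv1) with hc | ⟨j, ⟨iso⟩⟩
        · exact Or.inl ⟨hc, h8⟩
        · right; left
          haveI : NeZero (2 ^ j) := ⟨(Nat.two_pow_pos j).ne'⟩
          have hj : (2 : ℕ) ^ j = 2 := by
            have h := Nat.card_congr iso.toEquiv
            rw [h8, Nat.card_eq_fintype_card, QuaternionGroup.card] at h
            omega
          rw [hj] at iso
          exact ⟨iso⟩
      · right; right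
        refine ⟨?_, h16⟩
        obtain ⟨a, ha⟩ := hAcyc.exists_generator
        have hao : orderOf (a : G) = 8 := by
          rw [Subgroup.orderOf_coe, orderOf_eq_card_of_forall_mem_zpowers ha, hA8]
        have hst : Nat.card (MulAction.stabilizer G v0) = 2 := by
          have h := horb v0 hv0
          rw [h16, hVcard, show (3 : ℕ) ^ 2 - 1 = 8 from rfl] at h
          omega
        haveI : Fact (Nat.Prime 2) := ⟨Nat.prime_two⟩
        obtain ⟨t, ht⟩ := exists_prime_orderOf_dvd_card' (G := MulAction.stabilizer G v0) 2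
          (by rw [hst])
        rw [← Subgroup.orderOf_coe] at ht
        have htA : (t : G) ∉ A := by
          intro htA
          have h1 : φ (ι ⟨t, htA⟩ - 1) v0 = 0 := by
            rw [map_sub, map_one]
            show φ (ι ⟨t, htA⟩) v0 - v0 = 0
            rw [hι, sub_eq_zero]
            exact t.2
          by_cases hne : ι ⟨t, htA⟩ - 1 = 0
          · have h2 : (⟨t, htA⟩ : A) = 1 := hιinj (by rw [map_one]; exact sub_eq_zero.1 hne)
            have h3 : (t : G) = 1 := congrArg Subtype.val h2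
            rw [h3, orderOf_one] at ht
            omega
          · exact hv0 (hφ _ hne (h1.trans (map_zero _).symm))
        have hσt : σ (t : G) ≠ 1 := fun h => htA (by
          rw [← hCA, ← hker]
          exact h)
        haveI : Fact (Nat.Prime 3) := ⟨Nat.prime_three⟩
        have hfr : frobeniusEquiv F 3 ≠ (1 : F ≃+* F) := by
          intro h
          have h1 : (ι a) ^ 3 = ι a := DFunLike.congr_fun h (ι a)
          have h2 : a ^ 3 = a := hιinj (by rw [map_pow]; exact h1)
          have h3 : (a : G) ^ 2 = 1 := by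
            have h' : (a : G) ^ 2 * a = 1 * a := by
              rw [one_mul, ← pow_succ]
              exact congrArg Subtype.val h2
            exact mul_right_cancel h'
          have h4 := orderOf_dvd_of_pow_eq_one h3
          rw [hao] at h4
          norm_num at h4
        have hσeq : σ (t : G) = frobeniusEquiv F 3 := by
          haveI : Fintype (F ≃+* F) := Fintype.ofFinite _
          by_contra hne
          have h3 : ({1, σ (t : G), frobeniusEquiv F 3} : Finset (F ≃+* F)).card ≤ 2 :=
            le_trans (Finset.card_le_univ _) (le_of_eq (by rw [← Nat.card_eq_fintype_card, hAut]))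
          rw [Finset.card_insert_of_notMem (by simp [hσt.symm, hfr.symm]),
            Finset.card_insert_of_notMem (by simp [hne]), Finset.card_singleton] at h3
          omega
        refine ⟨3, le_rfl, h16, a, t, hao, ht, ?_⟩
        refine eq_of_mul_inv_eq_one (hfaith _ fun v => ?_)
        have hkey : ∀ w : V, ((t : G) * a * (t : G)⁻¹) • w = ((a : G) ^ 3) • w := by
          intro w
          rw [mul_smul, mul_smul, ← hι, hsemi, hσeq, smul_inv_smul,
            show (frobeniusEquiv F 3) (ι a) = ι a ^ 3 from rfl, ← map_pow ι a 3, hι]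
          rfl
        show ((t : G) * a * (t : G)⁻¹ * ((a : G) ^ 3)⁻¹) • v = v
        rw [mul_smul, hkey, smul_inv_smul]

end Cfsg.Agent.S3370
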