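import Cfsg.Statements.S3371
import Cfsg.Agent.Lib.HalfTransitive.NormalAbelian
import Cfsg.Agent.Lib.HalfTransitive.Dihedral
import Cfsg.Agent.Lib.Semilinear.RegularSolvable
import Cfsg.Agent.Lib.Invol.QuaternionSylow
import Cfsg.Agent.S0519

set_option autoImplicit false
open Cfsg
set_option linter.style.haveILetI false

namespace Cfsg.Agent.S3371

/-- Let q be a prime, V a non-trivial finite vector space over the field with q elements, and G a finite p-group (p prime) acting faithfully and linearly on V such that all G-orbits on the non-zero vectors have the same size. Then one of the following holds: G is cyclic or generalized quaternion and acts semiregularly on the non-zero vectors; or V has q² elements with q = 2^m − 1 and G is dihedral of order 2^(m+1) or semidihedral of order 2^(m+2); or V has q² elements with q = 2^m + 1 and, in suitable coordinates V = F_q², G is exactly the group of maps (x, y) ↦ (a x, ± a⁻¹ y) and (x, y) ↦ (± a⁻¹ y, a x) with a ≠ 0; or V has 81 elements (q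 = 3) and G is a 2-group. -/
theorem result (q : ℕ) [Fact q.Prime] {V : Type*} [AddCommGroup V] [Module (ZMod q) V] [Finite V] [Nontrivial V]
    {G : Type*} [Group G] [Finite G] (p : ℕ) [Fact p.Prime] (hG : IsPGroup p G)
    (ρ : G →* (V ≃ₗ[ZMod q] V)) (hρ : Function.Injective ρ)
    (hhalf : ∀ v w : V, v ≠ 0 → w ≠ 0 → Nat.card {u : V | ∃ g : G, ρ g v = u} = Nat.card {u : V | ∃ g : G, ρ g w = u}) :
    ((IsCyclic G ∨ ∃ n : ℕ, Nonempty (G ≃* QuaternionGroup n)) ∧ ∀ v : V, v ≠ 0 → ∀ g : G, ρ g v = v → g = 1) ∨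
    (Nat.card V = q ^ 2 ∧ ∃ m : ℕ, q = 2 ^ m - 1 ∧
      (Nonempty (G ≃* DihedralGroup (2 ^ m)) ∨ (Cfsg.IsQuasiDihedral G ∧ Nat.card G = 2 ^ (m + 2)))) ∨
    (Nat.card V = q ^ 2 ∧ (∃ m : ℕ, q = 2 ^ m + 1) ∧
      ∃ e : V ≃ₗ[ZMod q] (Fin 2 → ZMod q), ∀ f : (Fin 2 → ZMod q) ≃ₗ[ZMod q] (Fin 2 → ZMod q),
        (∃ g : G, f = e.symm.trans ((ρ g).trans e)) ↔
        ∃ a s : ZMod q, a ≠ 0 ∧ (s = 1 ∨ s = -1) ∧
          ((∀ v, f v = ![a * v 0, s * a⁻¹ * v 1]) ∨ (∀ v, f v = ![s * a⁻¹ * v 1, a * v 0]))) ∨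
    (Nat.card V = 81 ∧ q = 3 ∧ p = 2) := by
  classical
  letI : DistribMulAction G V :=
    { smul := fun g v => ρ g v
      one_smul := fun v => by show ρ 1 v = v; rw [map_one]; rfl
      mul_smul := fun g h v => by show ρ (g * h) v = ρ g (ρ h v); rw [map_mul]; rfl
      smul_zero := fun g => map_zero (ρ g)
      smul_add := fun g => map_add (ρ g) }
  have hlin : ∀ (h : G) (c : ZMod q) (v : V), h • (c • v) = c • (h • v) := fun h => map_smul (ρ h)
  have hf : ∀ g : G, (∀ v : V, g • v = v) → g = 1 := fun g hg =>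
    hρ (by rw [map_one]; exact LinearEquiv.ext hg)
  have hq : q.Prime := Fact.out
  have hp : p.Prime := Fact.out
  have hE : CfsgLib.HalfTransitive.EqualStab G V := by
    intro v w hv hw
    have h1 := (MulAction.stabilizer G v).card_mul_index
    have h2 := (MulAction.stabilizer G w).card_mul_index
    rw [MulAction.index_stabilizer, ← Nat.card_coe_set_eq] at h1 h2
    have horb : Nat.card (MulAction.orbit G v) = Nat.card (MulAction.orbit G w) := hhalf v w hv hw
    rw [← horb, ← h1] at h2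
    have hpos : 0 < Nat.card (MulAction.orbit G v) := by
      haveI : Nonempty (MulAction.orbit G v) := ⟨⟨v, MulAction.mem_orbit_self v⟩⟩
      exact Nat.card_pos
    exact (Nat.eq_of_mul_eq_mul_right hpos h2).symm
  by_cases hsr : ∀ v : V, v ≠ 0 → ∀ g : G, g • v = v → g = 1
  · refine Or.inl ⟨?_, hsr⟩
    rcases CfsgLib.Semilinear.pGroup_cyclic_or_quaternion (V := V) hsr (p := p) ⊤
        (hG.to_subgroup ⊤) with h | ⟨-, n, ⟨φ⟩⟩
    · exact Or.inl (Subgroup.topEquiv.isCyclic.1 h)
    · exact Or.inr ⟨_, ⟨(Subgroup.topEquiv (G := G)).symm.trans φ⟩⟩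
  push Not at hsr
  obtain ⟨v1, hv1, g1, hg1, hg11⟩ := hsr
  have hns : ∀ v : V, v ≠ 0 → MulAction.stabilizer G v ≠ ⊥ := by
    intro v hv hbot
    have h := hE v v1 hv hv1
    rw [hbot, Subgroup.card_bot] at h
    haveI := (Nat.card_eq_one_iff_unique.1 h.symm).1
    exact hg11 (congrArg Subtype.val (Subsingleton.elim (⟨g1, hg1⟩ : MulAction.stabilizer G v1) 1))
  have hpq : p ≠ q := by
    rintro rfl
    have hdvd : p ∣ Nat.card V := by
      rw [Module.natCard_eq_pow_finrank (K := ZMod p), Nat.card_zmod]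
      exact dvd_pow_self p (Module.finrank_pos).ne'
    obtain ⟨v, hv, hv0⟩ := hG.exists_fixed_point_of_prime_dvd_card_of_fixed_point V hdvd
      (a := (0 : V)) (fun g => smul_zero g)
    refine hg11 (hf g1 fun w => ?_)
    by_cases hw : w = 0
    · rw [hw, smul_zero]
    have htop : MulAction.stabilizer G v = ⊤ := eq_top_iff.2 fun g _ => hv g
    have htop' : MulAction.stabilizer G w = ⊤ := by
      rw [← Subgroup.card_eq_iff_eq_top, hE w v hw (Ne.symm hv0), htop, Subgroup.card_top]
    have h := Subgroup.mem_top g1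
    rw [← htop'] at h
    exact h
  have hcop : ∀ v : V, p • v = 0 → v = 0 := fun v hv => by
    rw [← Nat.cast_smul_eq_nsmul (ZMod q)] at hv
    refine (smul_eq_zero.1 hv).resolve_left ?_
    intro h
    rw [ZMod.natCast_eq_zero_iff] at h
    exact hpq ((Nat.prime_dvd_prime_iff_eq hq hp).1 h).symm
  haveI : Nontrivial G := nontrivial_of_ne g1 1 hg11
  by_cases hA : ∀ A : Subgroup G, A.Normal → IsMulCommutative A → IsCyclic A
  swap
  · -- a non-cyclic normal abelian subgroup
    push Not at hA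
    obtain ⟨A, hAn, hAc, hAcyc⟩ := hA
    haveI := hAn
    obtain ⟨rfl, ⟨B⟩⟩ := CfsgLib.HalfTransitive.twoBlocks_of_noncyclic hE hf hcop hG hAc hAcyc hns
    have hq2 : q ≠ 2 := Ne.symm hpq
    right; right
    rcases B.classify hcop hE hG hf hq2 hlin hns with ⟨h81, h3⟩ | ⟨hcard, hm, u, w, hbij, hall, hex⟩
    · exact Or.inr ⟨h81, h3, rfl⟩
    left
    refine ⟨hcard, hm, ?_⟩
    obtain ⟨L, hL⟩ : ∃ L : (Fin 2 → ZMod q) ≃ₗ[ZMod q] V, ∀ f, L f = f 0 • u + f 1 • w := by
      let L₀ : (Fin 2 → ZMod q) →ₗ[ZMod q] V :=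
        { toFun := fun f => f 0 • u + f 1 • w
          map_add' := fun f g => by simp [add_smul]; abel
          map_smul' := fun c f => by simp [smul_add, smul_smul] }
      have hb : Function.Bijective L₀ := by
        constructor
        · intro f g h
          have h' := hbij.1 (a₁ := (f 0, f 1)) (a₂ := (g 0, g 1)) h
          funext i
          fin_cases i
          · exact congrArg Prod.fst h'
          · exact congrArg Prod.snd h'
        · intro v
          obtain ⟨⟨a, b⟩, hab⟩ := hbij.2 v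
          exact ⟨![a, b], by simpa [L₀] using hab⟩
      exact ⟨LinearEquiv.ofBijective L₀ hb, fun f => rfl⟩
    have hcomb : ∀ a b : ZMod q, L ![a, b] = a • u + b • w := fun a b => by rw [hL]; simp
    refine ⟨L.symm, fun f => ⟨?_, ?_⟩⟩
    · rintro ⟨g, rfl⟩
      obtain ⟨a, s, ha, hs, hcase⟩ := hall g
      refine ⟨a, s, ha, hs, ?_⟩
      have hkey : ∀ v : Fin 2 → ZMod q,
          (L.symm.symm.trans ((ρ g).trans L.symm)) v = L.symm (v 0 • (g • u) + v 1 • (g • w)) := fun v => by
        show L.symm (g • L v) = _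
        rw [hL, smul_add, hlin, hlin]
      rcases hcase with ⟨h1, h2⟩ | ⟨h1, h2⟩
      · left; intro v
        rw [hkey, h1, h2, LinearEquiv.symm_apply_eq, hcomb, smul_smul, smul_smul, mul_comm (v 0), mul_comm (v 1)]
      · right; intro v
        rw [hkey, h1, h2, LinearEquiv.symm_apply_eq, hcomb, smul_smul, smul_smul, mul_comm (v 0), mul_comm (v 1),
          add_comm]
    · rintro ⟨a, s, ha, hs, hcase⟩
      obtain ⟨⟨h, h1, h2⟩, ⟨h', h1', h2'⟩⟩ := hex a s ha hs
      rcases hcase with hc | hc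
      · refine ⟨h, LinearEquiv.ext fun v => ?_⟩
        show f v = L.symm (h • L v)
        rw [hc, LinearEquiv.eq_symm_apply, hcomb, hL, smul_add, hlin, hlin, h1, h2, smul_smul, smul_smul,
          mul_comm (v 0), mul_comm (v 1)]
      · refine ⟨h', LinearEquiv.ext fun v => ?_⟩
        show f v = L.symm (h' • L v)
        rw [hc, LinearEquiv.eq_symm_apply, hcomb, hL, smul_add, hlin, hlin, h1', h2', smul_smul, smul_smul,
          mul_comm (v 0), mul_comm (v 1), add_comm]
  -- all normal abelian subgroups are cyclic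
  haveI := hG.center_nontrivial
  obtain ⟨⟨z, hz⟩, hzo⟩ : ∃ z : Subgroup.center G, orderOf z = p :=
    exists_prime_orderOf_dvd_card' p (by
      obtain ⟨n, hn0, hn⟩ := ((hG.to_subgroup (Subgroup.center G)).nontrivial_iff_card).1 inferInstance
      rw [hn]; exact dvd_pow_self p hn0.ne')
  rw [← Subgroup.orderOf_coe] at hzo
  replace hzo : orderOf z = p := hzo
  have hzp : z ^ p = 1 := by rw [← hzo]; exact pow_orderOf_eq_one z
  have hz1 : z ≠ 1 := fun h => hp.ne_one (by rw [← hzo, h, orderOf_one])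
  obtain ⟨⟨e', he'⟩, he'o⟩ : ∃ e' : MulAction.stabilizer G v1, orderOf e' = p :=
    exists_prime_orderOf_dvd_card' p (by
      haveI := (Subgroup.nontrivial_iff_ne_bot _).2 (hns v1 hv1)
      obtain ⟨n, hn0, hn⟩ := ((hG.to_subgroup (MulAction.stabilizer G v1)).nontrivial_iff_card).1 inferInstance
      rw [hn]; exact dvd_pow_self p hn0.ne')
  rw [← Subgroup.orderOf_coe] at he'o
  replace he'o : orderOf e' = p := he'o
  have hze : e' ∉ Subgroup.zpowers z := by
    intro h
    obtain ⟨hc, hcp⟩ := CfsgLib.HalfTransitive.pow_mem_center_prop hE hf hcop hz hzo h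
    refine hv1 (CfsgLib.HalfTransitive.central_free hE hf hcop hc hcp ?_ he')
    intro h1
    rw [h1, orderOf_one] at he'o
    exact hp.ne_one he'o.symm
  have hm : ∃ B : Subgroup G, IsMulCommutative B ∧ ¬ IsCyclic B := by
    have hcl : ∀ a ∈ ({e', z} : Set G), ∀ b ∈ ({e', z} : Set G), a * b = b * a := by
      have hez := Subgroup.mem_center_iff.1 hz e'
      rintro a (rfl | rfl) b (rfl | rfl) <;> first | rfl | exact hez | exact hez.symm
    refine ⟨Subgroup.closure {e', z}, Subgroup.isMulCommutative_closure hcl, fun hcyc => ?_⟩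
    set B := Subgroup.closure ({e', z} : Set G)
    haveI := hcyc
    haveI := Fintype.ofFinite B
    have he'B : e' ∈ B := Subgroup.subset_closure (Or.inl rfl)
    have hzB : z ∈ B := Subgroup.subset_closure (Or.inr rfl)
    have hle := IsCyclic.card_pow_eq_one_le (α := B) (n := p) hp.pos
    have hsub : insert (⟨e', he'B⟩ : B) ((Finset.range p).image fun k => (⟨z, hzB⟩ : B) ^ k) ⊆
        Finset.univ.filter (fun a : B => a ^ p = 1) := by
      intro a ha
      rw [Finset.mem_filter]
      refine ⟨Finset.mem_univ a, Subtype.ext ?_⟩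
      rcases Finset.mem_insert.1 ha with rfl | ha
      · simp [← he'o, pow_orderOf_eq_one]
      · obtain ⟨k, -, rfl⟩ := Finset.mem_image.1 ha
        simp only [SubgroupClass.coe_pow, Subgroup.coe_one]
        rw [← pow_mul, mul_comm k, pow_mul, hzp, one_pow]
    have h3 := Finset.card_le_card hsub
    rw [Finset.card_insert_of_notMem, Finset.card_image_of_injOn, Finset.card_range] at h3
    · omega
    · intro i hi j hj hij
      refine pow_injOn_Iio_orderOf (x := z) ?_ ?_ (congrArg Subtype.val hij)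
      · rw [Set.mem_Iio, hzo]; exact Finset.mem_range.1 hi
      · rw [Set.mem_Iio, hzo]; exact Finset.mem_range.1 hj
    · intro hmem
      obtain ⟨k, -, hk⟩ := Finset.mem_image.1 hmem
      have h9 := congrArg Subtype.val hk
      simp only [SubgroupClass.coe_pow] at h9
      exact hze (h9 ▸ Subgroup.npow_mem_zpowers z k)
  obtain ⟨rfl, hshape⟩ := Cfsg.Agent.S0519.result p hG hA hm
  have hq2 : q ≠ 2 := Ne.symm hpq
  rcases hshape with ⟨n, ⟨φ⟩⟩ | ⟨n, hn8, ⟨φ⟩⟩ | ⟨n, hn3, hcard, x, y, hx, hy, hconj⟩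
  · -- quaternion groups have one involution
    exfalso
    haveI : NeZero n := ⟨fun h => by
      subst h
      haveI : Infinite (ZMod (2 * 0)) := inferInstanceAs (Infinite ℤ)
      exact not_injective_infinite_finite (fun i : ZMod (2 * 0) => φ.symm (QuaternionGroup.a i))
        (fun i j h => QuaternionGroup.a.inj (φ.symm.injective h))⟩
    refine hze ?_
    have key : ∀ t : G, orderOf t = 2 → φ t = QuaternionGroup.a (n : ZMod (2 * n)) := fun t ht => by
      refine CfsgLib.Invol.QuatSylow.eq_of_mul_self _ ?_ ?_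
      · rw [← map_mul, ← sq, ← ht, pow_orderOf_eq_one, map_one]
      · intro h1
        rw [← map_one φ] at h1
        rw [φ.injective h1, orderOf_one] at ht
        omega
    rw [φ.injective ((key e' he'o).trans (key z hzo).symm)]
    exact Subgroup.mem_zpowers z
  · -- dihedral
    have hcard : Nat.card G = 2 * n := by rw [Nat.card_congr φ.toEquiv, DihedralGroup.nat_card]
    obtain ⟨k, hk⟩ := IsPGroup.iff_card.1 hG
    obtain ⟨j, rfl⟩ : ∃ j, n = 2 ^ j := by
      rcases k with _ | k
      · simp at hk; omega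
      · exact ⟨k, by rw [hk, pow_succ] at hcard; omega⟩
    have hj : 3 ≤ j := (Nat.pow_le_pow_iff_right (by norm_num : 1 < 2)).1 hn8
    set x := φ.symm (DihedralGroup.r 1) with hxdef
    set y := φ.symm (DihedralGroup.sr 0) with hydef
    have hxo : orderOf x = 2 ^ j := by rw [hxdef, MulEquiv.orderOf_eq, DihedralGroup.orderOf_r_one]
    have hy2 : y * y = 1 := by rw [hydef, ← map_mul, DihedralGroup.sr_mul_self, map_one]
    have hyx : y ∉ Subgroup.zpowers x := by
      intro h
      obtain ⟨i, hi⟩ := Subgroup.mem_zpowers_iff.1 h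
      rw [hxdef, hydef, ← map_zpow] at hi
      have h2 := φ.symm.injective hi
      rw [DihedralGroup.r_one_zpow] at h2
      cases h2
    have hconj : y * x * y⁻¹ = x ^ (2 ^ j - 1) := by
      have h1 : y * x * y⁻¹ = x⁻¹ := by
        rw [hxdef, hydef, ← map_inv, ← map_inv, ← map_mul, ← map_mul]
        congr 1
        rw [DihedralGroup.inv_sr, DihedralGroup.sr_mul_r, DihedralGroup.sr_mul_sr, DihedralGroup.inv_r]
        congr 1
        abel
      rw [h1]
      refine inv_eq_of_mul_eq_one_right ?_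
      rw [← pow_succ', Nat.sub_add_cancel Nat.one_le_two_pow, ← hxo, pow_orderOf_eq_one]
    obtain ⟨h1, h2⟩ := CfsgLib.HalfTransitive.axis_count (q := q) (j := j) (m := j) hq2 hE hf hns
      (by omega) le_rfl hxo hy2 hyx hcard hconj
    exact Or.inr (Or.inl ⟨h1, j, h2, Or.inl ⟨φ⟩⟩)
  · -- semidihedral
    have hy2 : y * y = 1 := by rw [← sq, ← hy, pow_orderOf_eq_one]
    have hyx : y ∉ Subgroup.zpowers x := by
      intro h
      obtain ⟨i, hi⟩ := Subgroup.mem_zpowers_iff.1 h
      have hc : y * x * y⁻¹ = x := by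
        rw [← hi, ((Commute.refl x).zpow_left i).eq, mul_inv_cancel_right]
      rw [hc] at hconj
      have hlt : 2 ^ (n - 1) < 2 ^ n := Nat.pow_lt_pow_right (by norm_num) (by omega)
      have h4 : 2 ^ 2 ≤ 2 ^ (n - 1) := Nat.pow_le_pow_right two_pos (by omega)
      have h1 := pow_injOn_Iio_orderOf (x := x) (x₁ := 1) (x₂ := 2 ^ (n - 1) - 1)
        (by rw [Set.mem_Iio, hx]; omega) (by rw [Set.mem_Iio, hx]; omega) (by simp only [pow_one]; exact hconj)
      omega
    have hcard' : Nat.card G = 2 * 2 ^ n := by rw [hcard, pow_succ, mul_comm]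
    obtain ⟨h1, h2⟩ := CfsgLib.HalfTransitive.axis_count (q := q) (j := n) (m := n - 1) hq2 hE hf hns
      (by omega) (by omega) hx hy2 hyx hcard' hconj
    refine Or.inr (Or.inl ⟨h1, n - 1, h2, Or.inr ⟨⟨n, hn3, hcard, x, y, hx, hy, hconj⟩, ?_⟩⟩)
    rw [hcard]
    congr 1
    omega

end Cfsg.Agent.S3371
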