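import Cfsg.Statements.S3374
import Cfsg.Agent.Lib.Present.BinIcosahedral
import Cfsg.Agent.Lib.Frobenius.Basic
import Mathlib.GroupTheory.SemidirectProduct
import Mathlib.Tactic

set_option autoImplicit false
open Cfsg

namespace Cfsg.Agent.S3374

/-- generator of order 3 -/
def m11X : Matrix.SpecialLinearGroup (Fin 2) (ZMod 11) := ⟨!![0, -1; 1, -1], by decide +kernel⟩

/-- generator of order 5 -/
def m11Y : Matrix.SpecialLinearGroup (Fin 2) (ZMod 11) := ⟨!![0, 3; 7, 7], by decide +kernel⟩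

/-- the central involution -/
def m11Z : Matrix.SpecialLinearGroup (Fin 2) (ZMod 11) := ⟨!![-1, 0; 0, -1], by decide +kernel⟩

theorem sl25_card : Nat.card (Matrix.SpecialLinearGroup (Fin 2) (ZMod 5)) = 120 := by
  rw [Nat.card_eq_fintype_card]; decide +kernel

theorem unique_involution : ∀ u v : Matrix.SpecialLinearGroup (Fin 2) (ZMod 5),
    u ^ 2 = 1 → u ≠ 1 → v ^ 2 = 1 → v ≠ 1 → u = v := by
  have h : ∀ u : Matrix.SpecialLinearGroup (Fin 2) (ZMod 5), u ^ 2 = 1 →
      u = 1 ∨ (u : Matrix (Fin 2) (Fin 2) (ZMod 5)) = -1 := by decide +kernel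
  intro u v hu hu1 hv hv1
  exact Subtype.ext (((h u hu).resolve_left hu1).trans ((h v hv).resolve_left hv1).symm)

theorem injective_of_range (ρ : Matrix.SpecialLinearGroup (Fin 2) (ZMod 5) →* Matrix.SpecialLinearGroup (Fin 2) (ZMod 11))
    (h : m11X ∈ ρ.range ∧ m11Y ∈ ρ.range) : Function.Injective ρ := by
  have hor : ∀ (g : Matrix.SpecialLinearGroup (Fin 2) (ZMod 11)) (n : ℕ), g ∈ ρ.range → orderOf g = n → n ∣ Nat.card ρ.range :=
    fun g n hg hn => hn ▸ Subgroup.orderOf_dvd_natCard _ hg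
  have h3 := hor _ 3 h.1 (orderOf_eq_prime (hp := ⟨by norm_num⟩) (by decide +kernel) (by decide +kernel))
  have h5 := hor _ 5 h.2 (orderOf_eq_prime (hp := ⟨by norm_num⟩) (by decide +kernel) (by decide +kernel))
  have h4 := hor _ 4 (mul_mem h.1 h.2) (orderOf_eq_prime_pow (p := 2) (n := 1) (hp := ⟨by norm_num⟩)
    (by decide +kernel) (by decide +kernel))
  have h60 : 60 ∣ Nat.card ρ.range := by omega
  have hmul : Nat.card ρ.range * Nat.card ρ.ker = 120 := by
    rw [← sl25_card, ← Subgroup.index_ker, Subgroup.index_mul_card]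
  rw [← MonoidHom.ker_eq_bot_iff, ← Subgroup.card_eq_one]
  obtain ⟨k, hk⟩ := h60
  by_contra hne
  have hk2 : Nat.card ρ.ker = 2 := by
    have h1 : k * Nat.card ρ.ker = 2 := by
      have hm : 60 * (k * Nat.card ρ.ker) = 120 := by rw [← mul_assoc, ← hk, hmul]
      omega
    exact ((Nat.dvd_prime Nat.prime_two).mp ⟨k, h1.symm.trans (mul_comm _ _)⟩).resolve_left hne
  obtain ⟨u, hu⟩ := Subgroup.ne_bot_iff_exists_ne_one.mp (fun e : ρ.ker = ⊥ => hne (Subgroup.card_eq_one.mpr e))
  have hu2 : (u : Matrix.SpecialLinearGroup (Fin 2) (ZMod 5)) ^ 2 = 1 := by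
    have := pow_card_eq_one' (x := u)
    rw [hk2] at this
    exact congrArg Subtype.val this
  obtain ⟨a, ha⟩ := mul_mem h.1 h.2
  have ha4 : a ^ 4 = 1 ∨ a ^ 4 ≠ 1 := em _
  have hsq : ρ (a ^ 2) ≠ 1 := by rw [map_pow, ha]; decide +kernel
  have ha2 : (a ^ 2) ^ 2 = 1 ∨ (a ^ 2) ^ 2 = (u : Matrix.SpecialLinearGroup (Fin 2) (ZMod 5)) := by
    have hk : (a ^ 2) ^ 2 ∈ ρ.ker := by
      rw [MonoidHom.mem_ker, map_pow, map_pow, ha]; decide +kernel
    by_cases h1 : (a ^ 2) ^ 2 = 1
    · exact Or.inl h1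
    · obtain ⟨_, h2⟩ := (Nat.card_eq_two_iff' (1 : ρ.ker)).mp hk2
      exact Or.inr (congrArg Subtype.val ((h2.2 ⟨_, hk⟩ (fun e => h1 (congrArg Subtype.val e))).trans
        (h2.2 u hu).symm))
  rcases ha2 with h2 | h2
  · have := unique_involution _ u h2 (fun e => hsq (by rw [e, map_one])) hu2 (fun e => hu (Subtype.ext e))
    exact hsq (this ▸ u.2)
  · -- an element of order 8 does not exist
    have hno : ∀ w : Matrix.SpecialLinearGroup (Fin 2) (ZMod 5), (w ^ 4) ^ 2 = 1 → w ^ 4 = 1 := by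
      decide +kernel
    have e4 : a ^ 4 = (a ^ 2) ^ 2 := by rw [← pow_mul]
    have := hno a (by rw [e4, h2, hu2])
    rw [e4, h2] at this
    exact hu (Subtype.ext this)

theorem no_fixed (ρ : Matrix.SpecialLinearGroup (Fin 2) (ZMod 5) →* Matrix.SpecialLinearGroup (Fin 2) (ZMod 11))
    (hρ : Function.Injective ρ) (g : Matrix.SpecialLinearGroup (Fin 2) (ZMod 5)) (hg : g ≠ 1)
    (v : Fin 2 → ZMod 11) (hv : (ρ g : Matrix (Fin 2) (Fin 2) (ZMod 11)).mulVec v = v) : v = 0 := by
  have : Fact (Nat.Prime 11) := ⟨by norm_num⟩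
  by_contra hv0
  set A := (ρ g : Matrix (Fin 2) (Fin 2) (ZMod 11)) with hA
  have hdet := (ρ g).2
  rw [← hA, Matrix.det_fin_two] at hdet
  have h0 := congrFun hv 0
  have h1 := congrFun hv 1
  simp only [Matrix.mulVec, dotProduct, Fin.sum_univ_two] at h0 h1
  have htr : A 0 0 + A 1 1 = 2 := by
    by_contra hne
    apply hv0
    have hne' : A 0 0 + A 1 1 - 2 ≠ 0 := sub_ne_zero.mpr hne
    ext i
    fin_cases i
    · exact (mul_eq_zero.mp (by linear_combination (1 - A 1 1) * h0 + A 0 1 * h1 + v 0 * hdet :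
        (A 0 0 + A 1 1 - 2) * v 0 = 0)).resolve_left hne'
    · exact (mul_eq_zero.mp (by linear_combination A 1 0 * h0 + (1 - A 0 0) * h1 + v 1 * hdet :
        (A 0 0 + A 1 1 - 2) * v 1 = 0)).resolve_left hne'
  have hN : (A - 1) * (A - 1) = 0 := by
    ext i j
    fin_cases i <;> fin_cases j <;> simp [Matrix.mul_apply, Fin.sum_univ_two]
    · linear_combination (-1 : ZMod 11) * hdet + A 0 0 * htr
    · linear_combination A 0 1 * htr
    · linear_combination A 1 0 * htr
    · linear_combination (-1 : ZMod 11) * hdet + A 1 1 * htr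
  have hpow : ∀ n : ℕ, A ^ n = 1 + n • (A - 1) := by
    intro n
    induction n with
    | zero => simp
    | succ n ih =>
      calc A ^ (n + 1) = A ^ n * (1 + (A - 1)) := by rw [pow_succ, add_sub_cancel]
        _ = (1 + n • (A - 1)) + (A - 1) + n • ((A - 1) * (A - 1)) := by
            rw [ih, mul_add, mul_one, add_mul, one_mul, smul_mul_assoc]; abel
        _ = 1 + (n + 1) • (A - 1) := by rw [hN, smul_zero, add_zero, succ_nsmul]; abel
  have h11 : g ^ 11 = 1 := by
    apply hρ
    apply Subtype.ext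
    rw [map_pow, map_one, Matrix.SpecialLinearGroup.coe_pow, ← hA, hpow, Matrix.SpecialLinearGroup.coe_one,
      ← Nat.cast_smul_eq_nsmul (ZMod 11), ZMod.natCast_self, zero_smul, add_zero]
  apply hg
  rw [← orderOf_eq_one_iff]
  exact Nat.eq_one_of_dvd_coprimes (a := 11) (b := 120) (by norm_num) (orderOf_dvd_of_pow_eq_one h11)
    (sl25_card ▸ orderOf_dvd_natCard g)

theorem exists_complement (ρ : Matrix.SpecialLinearGroup (Fin 2) (ZMod 5) →* Matrix.SpecialLinearGroup (Fin 2) (ZMod 11))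
    (hρ : Function.Injective ρ)
    (hfix : ∀ g, g ≠ 1 → ∀ v, (ρ g : Matrix (Fin 2) (Fin 2) (ZMod 11)).mulVec v = v → v = 0) :
    ∃ (L : Type) (_ : Group L) (_ : Finite L) (H : Subgroup L),
      Cfsg.IsFrobeniusComplement H ∧ Nonempty (H ≃* Matrix.SpecialLinearGroup (Fin 2) (ZMod 5)) := by
  let φ : Matrix.SpecialLinearGroup (Fin 2) (ZMod 5) →* MulAut (Multiplicative (Fin 2 → ZMod 11)) :=
    MonoidHom.mk' (fun g =>
      { toFun := fun v => .ofAdd ((ρ g : Matrix (Fin 2) (Fin 2) (ZMod 11)).mulVec v.toAdd)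
        invFun := fun v => .ofAdd ((ρ g⁻¹ : Matrix (Fin 2) (Fin 2) (ZMod 11)).mulVec v.toAdd)
        left_inv := fun v => by
          simp only [toAdd_ofAdd, Matrix.mulVec_mulVec, ← Matrix.SpecialLinearGroup.coe_mul, ← map_mul, inv_mul_cancel,
            map_one, Matrix.SpecialLinearGroup.coe_one, Matrix.one_mulVec, ofAdd_toAdd]
        right_inv := fun v => by
          simp only [toAdd_ofAdd, Matrix.mulVec_mulVec, ← Matrix.SpecialLinearGroup.coe_mul, ← map_mul, mul_inv_cancel,
            map_one, Matrix.SpecialLinearGroup.coe_one, Matrix.one_mulVec, ofAdd_toAdd]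
        map_mul' := fun v w => by
          apply Multiplicative.toAdd.injective
          exact Matrix.mulVec_add (ρ g : Matrix (Fin 2) (Fin 2) (ZMod 11)) v.toAdd w.toAdd })
      (fun g h => MulEquiv.ext fun v => by
        apply Multiplicative.toAdd.injective
        change (ρ (g * h) : Matrix (Fin 2) (Fin 2) (ZMod 11)).mulVec v.toAdd =
          (ρ g : Matrix (Fin 2) (Fin 2) (ZMod 11)).mulVec ((ρ h : Matrix (Fin 2) (Fin 2) (ZMod 11)).mulVec v.toAdd)
        rw [Matrix.mulVec_mulVec, map_mul, Matrix.SpecialLinearGroup.coe_mul])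
  let L := Multiplicative (Fin 2 → ZMod 11) ⋊[φ] Matrix.SpecialLinearGroup (Fin 2) (ZMod 5)
  have : Finite L := Finite.of_equiv _ SemidirectProduct.equivProd.symm
  let H : Subgroup L := SemidirectProduct.inr.range
  refine ⟨L, inferInstance, this, H, ?_, ⟨(MonoidHom.ofInjective SemidirectProduct.inr_injective).symm⟩⟩
  have hc : Subgroup.IsComplement' (SemidirectProduct.rightHom : L →* _).ker H := by
    refine Subgroup.isComplement'_of_disjoint_and_mul_eq_univ ?_ ?_
    · rw [disjoint_iff, eq_bot_iff]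
      rintro x ⟨hx, ⟨g, rfl⟩⟩
      have : g = 1 := by simpa using hx
      simp [this]
    · rw [Set.eq_univ_iff_forall]
      intro x
      exact ⟨SemidirectProduct.inl x.left, SemidirectProduct.rightHom_inl _, SemidirectProduct.inr x.right,
        ⟨_, rfl⟩, SemidirectProduct.inl_left_mul_inr_right x⟩
  refine CfsgLib.Frobenius.isFrobeniusComplement_of_fpf hc ?_ ?_ ?_
  · intro hb
    have h : (SemidirectProduct.inl (Multiplicative.ofAdd (![1, 0] : Fin 2 → ZMod 11)) : L) ∈ (⊥ : Subgroup L) :=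
      hb ▸ SemidirectProduct.rightHom_inl _
    rw [Subgroup.mem_bot, ← map_one (SemidirectProduct.inl : _ →* L)] at h
    have h2 := congrFun (congrArg Multiplicative.toAdd (SemidirectProduct.inl_injective h)) 0
    simp only [toAdd_ofAdd, toAdd_one, Matrix.cons_val_zero, Pi.zero_apply] at h2
    exact absurd h2 (by decide)
  · intro hb
    have h : (SemidirectProduct.inr CfsgLib.Present.slX : L) ∈ (⊥ : Subgroup L) := hb ▸ ⟨_, rfl⟩
    rw [Subgroup.mem_bot, ← map_one (SemidirectProduct.inr : _ →* L)] at h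
    exact absurd (SemidirectProduct.inr_injective h) (by decide +kernel)
  · rintro _ ⟨g, rfl⟩ hg
    rw [eq_bot_iff]
    rintro k ⟨hk, hkc⟩
    obtain ⟨v, rfl⟩ : ∃ v, SemidirectProduct.inl v = k :=
      ⟨k.left, SemidirectProduct.ext (by simp) (MonoidHom.mem_ker.mp hk).symm⟩
    have h1 := Subgroup.mem_centralizer_singleton_iff.mp hkc
    have h2 : φ g v = v := by
      apply SemidirectProduct.inl_injective (φ := φ)
      rw [SemidirectProduct.inl_aut, map_inv, ← h1, mul_inv_cancel_right]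
    have h3 := hfix g (fun e => hg (by rw [e, map_one])) v.toAdd (congrArg Multiplicative.toAdd h2)
    rw [Subgroup.mem_bot, show v = 1 from Multiplicative.toAdd.injective h3, map_one]

/-- SL(2,5) occurs as a Frobenius complement: there is a finite group L with a subgroup H isomorphic to SL(2,5) which is a non-trivial proper subgroup meeting each conjugate gHg⁻¹ with g outside H trivially. -/
theorem result :
    ∃ (L : Type) (_ : Group L) (_ : Finite L) (H : Subgroup L),
      Cfsg.IsFrobeniusComplement H ∧ Nonempty (H ≃* Matrix.SpecialLinearGroup (Fin 2) (ZMod 5)) := by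
  classical
  obtain ⟨e⟩ := CfsgLib.Present.binPresented_equiv_sl25
  obtain ⟨ψ, hX, hY, hZ⟩ := CfsgLib.Present.exists_hom m11X m11Y m11Z (by decide +kernel) (by decide +kernel)
    (by decide +kernel) (by decide +kernel) (by decide +kernel) (by decide +kernel)
  let ρ : Matrix.SpecialLinearGroup (Fin 2) (ZMod 5) →* Matrix.SpecialLinearGroup (Fin 2) (ZMod 11) :=
    ψ.comp e.symm.toMonoidHom
  have hρ : Function.Injective ρ := injective_of_range ρ (by
    rw [MonoidHom.range_comp, MonoidHom.range_eq_top.mpr e.symm.surjective, ← MonoidHom.range_eq_map]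
    exact ⟨hX, hY⟩)
  obtain ⟨L, i1, i2, H, hH, e'⟩ := exists_complement ρ hρ (fun g hg v hv => no_fixed ρ hρ g hg v hv)
  exact ⟨L, i1, i2, H, hH, e'⟩

end Cfsg.Agent.S3374
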