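import Cfsg.Statements.S3375
import Mathlib.Tactic
import Mathlib.GroupTheory.Index
import Mathlib.GroupTheory.OrderOfElement

set_option autoImplicit false
open Cfsg

namespace Cfsg.Agent.S3375

theorem pow_two_apply {H : Type*} [Group H] (γ : MulAut H) (hγ : orderOf γ = 2) (x : H) :
    γ (γ x) = x := by
  have h : γ ^ 2 = 1 := hγ ▸ pow_orderOf_eq_one γ
  rw [pow_two] at h
  exact DFunLike.congr_fun h x

theorem inverts_of_fixed_point_free {H : Type*} [Group H] [Finite H] (γ : MulAut H)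
    (hγ : ∀ x, γ (γ x) = x) (M : Subgroup H) (hM : ∀ x ∈ M, γ x ∈ M)
    (hfix : ∀ x ∈ M, γ x = x → x = 1) : ∀ x ∈ M, γ x = x⁻¹ := by
  let f : M → M := fun x => ⟨(x : H)⁻¹ * γ x, M.mul_mem (M.inv_mem x.2) (hM x x.2)⟩
  have hinj : Function.Injective f := by
    intro x y h
    have h1 : (x : H)⁻¹ * γ x = (y : H)⁻¹ * γ y := congrArg Subtype.val h
    have h2 : γ ((y : H) * (x : H)⁻¹) = (y : H) * (x : H)⁻¹ := by
      rw [map_mul, map_inv]
      calc γ (y : H) * (γ (x : H))⁻¹ = (y : H) * ((y : H)⁻¹ * γ y) * (γ (x : H))⁻¹ := by group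
        _ = (y : H) * ((x : H)⁻¹ * γ x) * (γ (x : H))⁻¹ := by rw [h1]
        _ = (y : H) * (x : H)⁻¹ := by group
    have h3 := hfix _ (M.mul_mem y.2 (M.inv_mem x.2)) h2
    exact Subtype.ext (mul_inv_eq_one.mp h3).symm
  intro x hx
  obtain ⟨y, hy⟩ := (Finite.injective_iff_surjective.mp hinj) ⟨x, hx⟩
  have h1 : (y : H)⁻¹ * γ y = x := congrArg Subtype.val hy
  rw [← h1, map_mul, map_inv, hγ, mul_inv_rev, inv_inv]

theorem exists_invariant {H : Type*} [Group H] (γ : MulAut H) (hγ : ∀ x, γ (γ x) = x)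
    (M : Subgroup H) (hM : M.index = 2) :
    ∃ K : Subgroup H, K.index = 2 ∧ ∀ x ∈ K, γ x ∈ K := by
  by_cases h : ∀ x ∈ M, γ x ∈ M
  · exact ⟨M, hM, h⟩
  push Not at h
  obtain ⟨c, hc, hc'⟩ := h
  let K : Subgroup H :=
    { carrier := {x | x ∈ M ↔ γ x ∈ M}
      one_mem' := by simp
      mul_mem' := by
        intro a b ha hb
        simp only [Set.mem_setOf_eq] at *
        rw [map_mul, Subgroup.mul_mem_iff_of_index_two hM, Subgroup.mul_mem_iff_of_index_two hM]
        tauto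
      inv_mem' := by
        intro a ha
        simpa using ha }
  refine ⟨K, ?_, fun x hx => ?_⟩
  · rw [Subgroup.index_eq_two_iff]
    refine ⟨c, fun b => ?_⟩
    change Xor (b * c ∈ M ↔ γ (b * c) ∈ M) (b ∈ M ↔ γ b ∈ M)
    rw [map_mul, Subgroup.mul_mem_iff_of_index_two hM, Subgroup.mul_mem_iff_of_index_two hM,
      xor_iff_not_iff]
    tauto
  · change γ x ∈ M ↔ γ (γ x) ∈ M
    rw [hγ]
    exact hx.symm

theorem inverts_index_two {H : Type*} [Group H] [Finite H] (γ : MulAut H) (hγ : ∀ x, γ (γ x) = x)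
    (hcard : Nat.card {h : H // γ h = h} = 2) (M : Subgroup H) (hM : M.index = 2)
    (hMinv : ∀ x ∈ M, γ x ∈ M) : ∀ x ∈ M, γ x = x⁻¹ := by
  classical
  by_cases hfix : ∀ x ∈ M, γ x = x → x = 1
  · exact inverts_of_fixed_point_free γ hγ M hMinv hfix
  push Not at hfix
  obtain ⟨z, hzM, hz, hz1⟩ := hfix
  have hfixM : ∀ x, γ x = x → x = 1 ∨ x = z := by
    intro x hx
    obtain ⟨_, h2⟩ := (Nat.card_eq_two_iff' (⟨1, map_one γ⟩ : {h : H // γ h = h})).mp hcard
    by_cases h : x = 1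
    · exact Or.inl h
    · right
      have e1 := h2.2 ⟨x, hx⟩ (fun hh => h (congrArg Subtype.val hh))
      have e2 := h2.2 ⟨z, hz⟩ (fun hh => hz1 (congrArg Subtype.val hh))
      exact congrArg Subtype.val (e1.trans e2.symm)
  have hmem : ∀ x : H, x⁻¹ * γ x ∈ M := by
    intro x
    rw [Subgroup.mul_mem_iff_of_index_two hM, inv_mem_iff]
    exact ⟨hMinv x, fun h => hγ x ▸ hMinv _ h⟩
  let f : H → M := fun x => ⟨x⁻¹ * γ x, hmem x⟩
  have : Fintype H := Fintype.ofFinite H
  have hfib : ∀ m ∈ Finset.univ.image f, (Finset.univ.filter fun x => f x = m).card ≤ 2 := by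
    intro m hm
    obtain ⟨y, -, rfl⟩ := Finset.mem_image.mp hm
    refine le_trans (Finset.card_le_card ?_) (Finset.card_le_two (a := y) (b := z * y))
    intro x hx
    rw [Finset.mem_filter] at hx
    have h1 : x⁻¹ * γ x = y⁻¹ * γ y := congrArg Subtype.val hx.2
    have h2 : γ (x * y⁻¹) = x * y⁻¹ := by
      rw [map_mul, map_inv]
      calc γ x * (γ y)⁻¹ = x * (x⁻¹ * γ x) * (γ y)⁻¹ := by group
        _ = x * (y⁻¹ * γ y) * (γ y)⁻¹ := by rw [h1]
        _ = x * y⁻¹ := by group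
    rw [Finset.mem_insert, Finset.mem_singleton]
    rcases hfixM _ h2 with h | h
    · exact Or.inl (mul_inv_eq_one.mp h)
    · exact Or.inr (mul_inv_eq_iff_eq_mul.mp h)
  have h1 := Finset.card_le_mul_card_image (f := f) Finset.univ 2 hfib
  have h2 : Nat.card H = 2 * Nat.card M := by rw [← M.index_mul_card, hM]
  rw [Finset.card_univ, ← Nat.card_eq_fintype_card, h2] at h1
  have h3 : Finset.univ.image f = Finset.univ := by
    apply Finset.eq_univ_of_card
    have h4 := Finset.card_le_univ (Finset.univ.image f)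
    rw [← Nat.card_eq_fintype_card] at h4 ⊢
    omega
  intro x hx
  obtain ⟨y, -, hy⟩ := Finset.mem_image.mp (h3 ▸ Finset.mem_univ (⟨x, hx⟩ : M))
  have h4 : y⁻¹ * γ y = x := congrArg Subtype.val hy
  rw [← h4, map_mul, map_inv, hγ, mul_inv_rev, inv_inv]

/-- Let γ be an automorphism of order 2 of a finite group H. (i) If γ fixes only the identity, then H is abelian and γ inverts every element. (ii) If γ has exactly two fixed points and H has a subgroup of index 2, then H has a γ-invariant abelian subgroup of index 2 on which γ acts by inversion. -/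
theorem result {H : Type*} [Group H] [Finite H] (γ : MulAut H) (hγ : orderOf γ = 2) :
    ((∀ h : H, γ h = h → h = 1) → (∀ a b : H, a * b = b * a) ∧ ∀ h : H, γ h = h⁻¹) ∧
    ((Nat.card {h : H // γ h = h} = 2 ∧ ∃ M : Subgroup H, M.index = 2) →
      ∃ A : Subgroup H, A.index = 2 ∧ IsMulCommutative A ∧ (∀ a ∈ A, γ a ∈ A) ∧ ∀ a ∈ A, γ a = a⁻¹) := by
  refine ⟨fun hfix => ?_, ?_⟩
  · have hinv : ∀ h : H, γ h = h⁻¹ := by
      intro h
      have := inverts_of_fixed_point_free γ (fun x => pow_two_apply γ hγ x) ⊤ (fun _ _ => trivial)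
        (fun x _ hx => hfix x hx) h trivial
      exact this
    refine ⟨fun a b => ?_, hinv⟩
    have h := hinv (a * b)
    rw [map_mul, hinv, hinv, mul_inv_rev] at h
    calc a * b = (b⁻¹ * a⁻¹)⁻¹ := by group
      _ = (a⁻¹ * b⁻¹)⁻¹ := by rw [h]
      _ = b * a := by group
  · rintro ⟨hcard, M0, hM0⟩
    have hγγ := fun x => pow_two_apply γ hγ x
    obtain ⟨M, hM, hMinv⟩ := exists_invariant γ hγγ M0 hM0
    have hall : ∀ x ∈ M, γ x = x⁻¹ := inverts_index_two γ hγγ hcard M hM hMinv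
    refine ⟨M, hM, ⟨⟨fun a b => ?_⟩⟩, hMinv, hall⟩
    apply Subtype.ext
    change (a : H) * b = b * a
    have h := hall _ (M.mul_mem a.2 b.2)
    rw [map_mul, hall _ a.2, hall _ b.2, mul_inv_rev] at h
    calc (a : H) * b = ((b : H)⁻¹ * (a : H)⁻¹)⁻¹ := by group
      _ = ((a : H)⁻¹ * (b : H)⁻¹)⁻¹ := by rw [h]
      _ = b * a := by group

end Cfsg.Agent.S3375
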