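import Cfsg.Statements.S3376
import Mathlib
import Cfsg.Agent.Lib.Solvable.Gaschutz
import Cfsg.Agent.Lib.Transfer.PGroup

set_option autoImplicit false
open Cfsg
open scoped Pointwise

namespace Cfsg.Agent.S3376

/-- A central subgroup of order three of an elementary abelian three-group has a complement. -/
theorem exists_inner_complement {G : Type*} [Group G] [Finite G] (J Z : Subgroup G)
    [IsMulCommutative J] (hexp : ∀ a ∈ J, a ^ 3 = 1) (hZJ : Z ≤ J) :
    ∃ A : Subgroup G, A ≤ J ∧ A ⊓ Z = ⊥ ∧ Z ⊔ A = J := by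
  classical
  obtain ⟨A, ⟨hAJ, hAZ⟩, hmax⟩ := Set.Finite.exists_maximal
    (Set.toFinite {A : Subgroup G | A ≤ J ∧ A ⊓ Z = ⊥}) ⟨⊥, bot_le, bot_inf_eq Z⟩
  refine ⟨A, hAJ, hAZ, le_antisymm (sup_le hZJ hAJ) fun x hx => ?_⟩
  by_contra hnot
  have hle : A ⊔ Subgroup.zpowers x ≤ J := sup_le hAJ (Subgroup.zpowers_le.2 hx)
  have hd : (A ⊔ Subgroup.zpowers x) ⊓ Z = ⊥ := by
    rw [eq_bot_iff]
    rintro u ⟨hu, huZ⟩
    have hcomm : Subgroup.zpowers x ≤ Subgroup.normalizer (A : Set G) := by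
      refine le_trans ?_ (Subgroup.centralizer_le_normalizer (A : Set G))
      rw [Subgroup.zpowers_le, Subgroup.mem_centralizer_iff]
      exact fun y hy => setLike_mul_comm (hAJ hy) hx
    change u ∈ ((A ⊔ Subgroup.zpowers x : Subgroup G) : Set G) at hu
    rw [Subgroup.coe_mul_of_right_le_normalizer_left A _ hcomm] at hu
    obtain ⟨a, ha, v, hv, rfl⟩ := hu
    obtain ⟨k, rfl⟩ := Subgroup.mem_zpowers_iff.1 hv
    by_cases hk : (3 : ℤ) ∣ k
    · obtain ⟨c, rfl⟩ := hk
      have h1 : x ^ (3 * c : ℤ) = 1 := by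
        rw [zpow_mul, show x ^ (3 : ℤ) = 1 from mod_cast hexp x hx, one_zpow]
      simp only [h1, mul_one] at huZ ⊢
      exact (le_of_eq hAZ) ⟨ha, huZ⟩
    · refine absurd ?_ hnot
      have hxk : x ^ k ∈ Z ⊔ A := by
        have := mul_mem (Subgroup.mem_sup_right (S := Z) (inv_mem ha)) (Subgroup.mem_sup_left (T := A) huZ)
        simpa using this
      obtain ⟨u', v', huv⟩ := (Int.prime_three.coprime_iff_not_dvd.2 hk)
      have : x ^ (u' * 3 + v' * k) = x := by rw [huv, zpow_one]
      rw [← this, zpow_add, mul_comm u', zpow_mul, show x ^ (3 : ℤ) = 1 from mod_cast hexp x hx,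
        one_zpow, one_mul, mul_comm, zpow_mul]
      exact zpow_mem hxk _
  have hAx : A ⊔ Subgroup.zpowers x ≤ A := hmax ⟨hle, hd⟩ le_sup_left
  exact hnot (Subgroup.mem_sup_right (hAx (Subgroup.mem_sup_right (Subgroup.mem_zpowers x))))

/-- In the group `JT` of order 54 the central subgroup `Z` has a complement. -/
theorem exists_eighteen {G : Type*} [Group G] [Finite G] (J Z : Subgroup G)
    [IsMulCommutative J] [Z.Normal] (hexp : ∀ a ∈ J, a ^ 3 = 1) (hZJ : Z ≤ J)
    (hZc : Nat.card Z = 3) (hidx : J.index = 2) :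
    ∃ H : Subgroup G, Subgroup.IsComplement' Z H := by
  haveI : IsMulCommutative Z := ⟨⟨fun a b => Subtype.ext (setLike_mul_comm (hZJ a.2) (hZJ b.2))⟩⟩
  obtain ⟨A, -, hAZ, hsup⟩ := exists_inner_complement J Z hexp hZJ
  exact CfsgLib.Solvable.exists_isComplement'_of_le hZJ (by rw [hZc, hidx]; decide) hAZ hsup

/-- Cycle type of a fixed point free element of order three on nine points. -/
theorem cycleType_free (σ : Equiv.Perm (Fin 9)) (h3 : σ ^ 3 = 1) (hf : ∀ x, σ x ≠ x) :
    σ.cycleType = Multiset.replicate 3 3 := by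
  haveI : Fact (Nat.Prime 3) := ⟨Nat.prime_three⟩
  have hne : σ ≠ 1 := fun e => hf 0 (by rw [e]; rfl)
  obtain ⟨n, hn⟩ := Equiv.Perm.cycleType_prime_order
    (show (orderOf σ).Prime by rw [orderOf_eq_prime h3 hne]; exact Nat.prime_three)
  rw [orderOf_eq_prime h3 hne] at hn
  have hsum := σ.sum_cycleType
  have hsupp : σ.support = Finset.univ := Finset.eq_univ_iff_forall.2 fun x => Equiv.Perm.mem_support.2 (hf x)
  rw [hn, hsupp, Multiset.sum_replicate, Finset.card_univ, Fintype.card_fin, smul_eq_mul] at hsum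
  rw [hn, show n + 1 = 3 by omega]

/-- Let G be a group of order 162 = 3⁴·2 with Sylow 3-subgroup S and Sylow 2-subgroup T, having an elementary abelian normal subgroup J of order 27, such that Z = Z(S) has order 3, Z centralizes T, and C_S(T) ≠ S. Then G is isomorphic to the centralizer in Sym(9) of a product of three disjoint 3-cycles. -/
theorem result {G : Type*} [Group G] [Finite G] (hG : Nat.card G = 162)
    (S : Sylow 3 G) (T : Sylow 2 G) (J : Subgroup G) [hJn : J.Normal] (hJcomm : IsMulCommutative J)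
    (hJexp : ∀ a ∈ J, a ^ 3 = 1) (hJcard : Nat.card J = 27)
    (Z : Subgroup G) (hZ : Z = (S : Subgroup G) ⊓ Subgroup.centralizer ((S : Subgroup G) : Set G)) (hZcard : Nat.card Z = 3)
    (hZT : Z ≤ Subgroup.centralizer ((T : Subgroup G) : Set G))
    (hST : (S : Subgroup G) ⊓ Subgroup.centralizer ((T : Subgroup G) : Set G) ≠ S) :
    Nonempty (G ≃* Subgroup.centralizer ({Equiv.swap (0 : Fin 9) 1 * Equiv.swap 1 2 * Equiv.swap 3 4 * Equiv.swap 4 5 * Equiv.swap 6 7 * Equiv.swap 7 8} : Set (Equiv.Perm (Fin 9)))) := by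
  classical
  haveI : Fact (Nat.Prime 3) := ⟨Nat.prime_three⟩
  haveI : Fact (Nat.Prime 2) := ⟨Nat.prime_two⟩
  haveI := hJcomm
  have hSc : Nat.card (S : Subgroup G) = 81 := by
    rw [S.card_eq_multiplicity, hG, show (162 : ℕ) = 3 ^ 4 * 2 by norm_num,
      Nat.factorization_mul (by norm_num) (by norm_num), Finsupp.add_apply,
      Nat.Prime.factorization_pow Nat.prime_three, Finsupp.single_eq_same,
      Nat.factorization_eq_zero_of_not_dvd (by norm_num)]
    norm_num
  have hTc : Nat.card (T : Subgroup G) = 2 := by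
    rw [T.card_eq_multiplicity, hG, show (162 : ℕ) = 2 ^ 1 * 81 by norm_num,
      Nat.factorization_mul (by norm_num) (by norm_num), Finsupp.add_apply,
      Nat.Prime.factorization_pow Nat.prime_two, Finsupp.single_eq_same,
      Nat.factorization_eq_zero_of_not_dvd (by norm_num)]
    norm_num
  have hSi : (S : Subgroup G).index = 2 := by
    have := (S : Subgroup G).index_mul_card
    rw [hSc, hG] at this
    omega
  haveI hSn : (S : Subgroup G).Normal := Subgroup.normal_of_index_eq_two hSi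
  have hJS : J ≤ S := by
    obtain ⟨P, hP⟩ := (show IsPGroup 3 J from IsPGroup.of_card (n := 3) (by rw [hJcard]; norm_num)).exists_le_sylow
    haveI := Sylow.unique_of_normal S hSn
    rwa [Subsingleton.elim P S] at hP
  have hST' : (S : Subgroup G) ⊔ T = ⊤ := by
    refine Subgroup.eq_top_of_card_eq _ (le_antisymm (Subgroup.card_le_card_group _) ?_)
    rw [hG]
    refine Nat.le_of_dvd Nat.card_pos ?_
    have h1 := Subgroup.card_dvd_of_le (le_sup_left : (S : Subgroup G) ≤ (S : Subgroup G) ⊔ T)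
    have h2 := Subgroup.card_dvd_of_le (le_sup_right : (T : Subgroup G) ≤ (S : Subgroup G) ⊔ T)
    rw [hSc] at h1
    rw [hTc] at h2
    exact Nat.Coprime.mul_dvd_of_dvd_of_dvd (by norm_num : Nat.Coprime 81 2) h1 h2
  -- `Z` is central in `G`
  have hZcent : Z ≤ Subgroup.center G := by
    intro z hz
    have h1 : z ∈ Subgroup.centralizer ((S : Subgroup G) : Set G) := by
      rw [hZ] at hz; exact hz.2
    have h2 : z ∈ Subgroup.centralizer ((T : Subgroup G) : Set G) := hZT hz
    rw [Subgroup.mem_center_iff]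
    intro g
    have hg : g ∈ (S : Subgroup G) ⊔ T := by rw [hST']; trivial
    have hle : (S : Subgroup G) ⊔ T ≤ Subgroup.centralizer ({z} : Set G) := sup_le
      (fun a ha => Subgroup.mem_centralizer_singleton_iff.2 (Subgroup.mem_centralizer_iff.1 h1 a ha))
      (fun a ha => Subgroup.mem_centralizer_singleton_iff.2 (Subgroup.mem_centralizer_iff.1 h2 a ha))
    exact Subgroup.mem_centralizer_singleton_iff.1 (hle hg)
  haveI hZn : Z.Normal := ⟨fun z hz g => by
    rw [Subgroup.mem_center_iff.1 (hZcent hz) g, mul_inv_cancel_right]; exact hz⟩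
  have hZS : Z ≤ (S : Subgroup G) := by rw [hZ]; exact inf_le_left
  have hJne : J ≠ ⊥ := fun e => by rw [e, Subgroup.card_bot] at hJcard; omega
  have hmeet : ∀ N : Subgroup G, N.Normal → N ≤ S → N ≠ ⊥ → Z ≤ N := by
    intro N hN hNS hNne
    have hne' : N.subgroupOf (S : Subgroup G) ≠ ⊥ := by
      rwa [Ne, Subgroup.subgroupOf_eq_bot, disjoint_iff, inf_eq_left.2 hNS]
    haveI : Group.IsNilpotent (S : Subgroup G) := S.2.isNilpotent
    haveI : (N.subgroupOf (S : Subgroup G)).Normal := hN.subgroupOf _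
    obtain ⟨u, hu⟩ := (Subgroup.ne_bot_iff_exists_ne_one.1 (CfsgLib.Transfer.inf_center_ne_bot hne'))
    have huZ : ((u : (S : Subgroup G)) : G) ∈ Z := by
      rw [hZ]
      refine ⟨(u : (S : Subgroup G)).2, Subgroup.mem_centralizer_iff.2 fun b hb => ?_⟩
      exact congrArg Subtype.val (Subgroup.mem_center_iff.1 u.2.2 ⟨b, hb⟩)
    have hdvd := Subgroup.card_dvd_of_le (inf_le_left : Z ⊓ N ≤ Z)
    rw [hZcard, Nat.dvd_prime Nat.prime_three] at hdvd
    rcases hdvd with h | h
    · refine absurd ?_ hu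
      have : ((u : (S : Subgroup G)) : G) ∈ Z ⊓ N := ⟨huZ, Subgroup.mem_subgroupOf.1 u.2.1⟩
      rw [Subgroup.card_eq_one.1 h, Subgroup.mem_bot] at this
      exact Subtype.ext (Subtype.ext this)
    · exact inf_eq_left.1 (Subgroup.eq_of_le_of_card_ge inf_le_left (by rw [h, hZcard]))
  have hZJ : Z ≤ J := hmeet J hJn hJS hJne
  -- the subgroup `JT`
  let M : Subgroup G := J ⊔ T
  have hJT : Disjoint J (T : Subgroup G) := disjoint_iff.2 (Subgroup.inf_eq_bot_of_coprime (by rw [hJcard, hTc]; norm_num))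
  have hMc : Nat.card M = 54 := by
    rw [← SetLike.coe_sort_coe, Subgroup.normal_mul J (T : Subgroup G)]
    refine (Nat.card_congr (Equiv.ofBijective (fun q : J × (T : Subgroup G) =>
      (⟨(q.1 : G) * q.2, Set.mul_mem_mul q.1.2 q.2.2⟩ : ↥((J : Set G) * ((T : Subgroup G) : Set G))))
      ⟨fun a b hab => Subgroup.mul_injective_of_disjoint hJT (congrArg Subtype.val hab), ?_⟩)).symm.trans ?_
    · rintro ⟨_, a, ha, b, hb, rfl⟩
      exact ⟨(⟨a, ha⟩, ⟨b, hb⟩), rfl⟩
    · rw [Nat.card_prod, hJcard, hTc]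
  haveI : IsMulCommutative (J.subgroupOf M) :=
    ⟨⟨fun a b => Subtype.ext (Subtype.ext (setLike_mul_comm (Subgroup.mem_subgroupOf.1 a.2) (Subgroup.mem_subgroupOf.1 b.2)))⟩⟩
  have hJM : J ≤ M := le_sup_left
  haveI : (Z.subgroupOf M).Normal := hZn.subgroupOf M
  obtain ⟨H', hH'⟩ := exists_eighteen (J.subgroupOf M) (Z.subgroupOf M)
    (fun a ha => Subtype.ext (by simpa using hJexp _ (Subgroup.mem_subgroupOf.1 ha)))
    (Subgroup.comap_mono hZJ)
    (by rw [Nat.card_congr (Subgroup.subgroupOfEquivOfLe (hZJ.trans hJM)).toEquiv, hZcard])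
    (by
      have := (J.subgroupOf M).index_mul_card
      rw [Nat.card_congr (Subgroup.subgroupOfEquivOfLe hJM).toEquiv, hJcard, hMc] at this
      omega)
  let H : Subgroup G := H'.map M.subtype
  have hHc : Nat.card H = 18 := by
    have := hH'.card_mul
    rw [Nat.card_congr (Subgroup.subgroupOfEquivOfLe (hZJ.trans hJM)).toEquiv, hZcard, hMc] at this
    rw [Subgroup.card_map_of_injective M.subtype_injective]
    omega
  have hHZ : H ⊓ Z = ⊥ := by
    rw [eq_bot_iff]
    rintro _ ⟨⟨u, hu, rfl⟩, huZ⟩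
    have : u ∈ Z.subgroupOf M ⊓ H' := ⟨huZ, hu⟩
    rw [hH'.disjoint.eq_bot, Subgroup.mem_bot] at this
    rw [this]
    rfl
  have hcore : H.normalCore = ⊥ := by
    have hNS : H.normalCore ⊓ (S : Subgroup G) = ⊥ := by
      by_contra hne
      have h1 := hmeet _ inferInstance inf_le_right hne
      have h2 : Z ≤ H ⊓ Z := le_inf (h1.trans (inf_le_left.trans H.normalCore_le)) le_rfl
      rw [hHZ, le_bot_iff] at h2
      rw [h2, Subgroup.card_bot] at hZcard
      omega
    by_contra hne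
    have hcard2 : Nat.card H.normalCore ≤ 2 := by
      rw [← hSi]
      refine Nat.card_le_card_of_injective (fun u : H.normalCore => (QuotientGroup.mk (u : G) : G ⧸ (S : Subgroup G))) ?_
      intro a b hab
      have h1 : (a : G)⁻¹ * b ∈ H.normalCore ⊓ (S : Subgroup G) :=
        Subgroup.mem_inf.2 ⟨H.normalCore.mul_mem (H.normalCore.inv_mem a.2) b.2, QuotientGroup.eq.1 hab⟩
      rw [hNS, Subgroup.mem_bot, inv_mul_eq_one] at h1
      exact Subtype.ext h1
    have hN2 : Nat.card H.normalCore = 2 := by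
      have : Nat.card H.normalCore ≠ 1 := fun e => hne (Subgroup.card_eq_one.1 e)
      have := Nat.card_pos (α := H.normalCore)
      omega
    have hp : IsPGroup 2 H.normalCore := IsPGroup.of_card (n := 1) (by rw [hN2]; norm_num)
    have hNT : H.normalCore ≤ T := by
      obtain ⟨P, hP⟩ := hp.exists_le_sylow
      obtain ⟨g, rfl⟩ := MulAction.exists_smul_eq G P T
      intro u hu
      rw [Sylow.coe_subgroup_smul]
      exact ⟨g⁻¹ * u * g, hP (by simpa using Subgroup.Normal.conj_mem inferInstance u hu g⁻¹), by simp [mul_assoc]⟩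
    have hNTe : H.normalCore = T := Subgroup.eq_of_le_of_card_ge hNT (by rw [hN2, hTc])
    refine hST (inf_eq_left.2 fun a ha => Subgroup.mem_centralizer_iff.2 fun b hb => ?_)
    rw [← hNTe] at hb
    exact Subgroup.commute_of_normal_of_disjoint _ _ inferInstance hSn (disjoint_iff.2 hNS) b a hb ha
  -- the action on the nine cosets
  have hidx : Nat.card (G ⧸ H) = Nat.card (Fin 9) := by
    have := Subgroup.card_eq_card_quotient_mul_card_subgroup H
    rw [hG, hHc] at this
    rw [Nat.card_fin]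
    omega
  obtain ⟨e⟩ : Nonempty (G ⧸ H ≃ Fin 9) := ⟨(Finite.equivFinOfCardEq (hidx.trans (Nat.card_fin 9)))⟩
  let φ : G →* Equiv.Perm (Fin 9) := e.permCongrHom.toMonoidHom.comp (MulAction.toPermHom G (G ⧸ H))
  have hφ : Function.Injective φ := by
    refine e.permCongrHom.injective.comp ?_
    rw [← MonoidHom.ker_eq_bot_iff, ← Subgroup.normalCore_eq_ker, hcore]
  obtain ⟨z, hz1⟩ := (Subgroup.ne_bot_iff_exists_ne_one.1 (fun h => by
    rw [h, Subgroup.card_bot] at hZcard; omega) : ∃ a : Z, a ≠ 1)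
  have hzH : (z : G) ∉ H := fun h => hz1 (Subtype.ext ((le_of_eq hHZ) ⟨h, z.2⟩))
  have hz3 : (z : G) ^ 3 = 1 := hJexp _ (hZJ z.2)
  have hfree : ∀ x, φ z x ≠ x := by
    intro x hx
    obtain ⟨g, hg⟩ := QuotientGroup.mk_surjective (e.symm x)
    have hx' : ((z : G) • e.symm x : G ⧸ H) = e.symm x := by
      apply e.injective
      rw [e.apply_symm_apply]
      exact hx
    rw [← hg] at hx'
    have h2 : ((z : G) * g)⁻¹ * g ∈ H := QuotientGroup.eq.1 hx'
    rw [← Subgroup.mem_center_iff.1 (hZcent z.2) g, mul_inv_rev, mul_assoc, inv_mul_cancel, mul_one] at h2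
    exact hzH ((Subgroup.inv_mem_iff H).1 h2)
  set σ : Equiv.Perm (Fin 9) := Equiv.swap (0 : Fin 9) 1 * Equiv.swap 1 2 * Equiv.swap 3 4 *
    Equiv.swap 4 5 * Equiv.swap 6 7 * Equiv.swap 7 8 with hσ
  have hσc : σ.cycleType = Multiset.replicate 3 3 :=
    cycleType_free σ (by rw [hσ]; decide) (by rw [hσ]; decide)
  have hzc : (φ z).cycleType = Multiset.replicate 3 3 :=
    cycleType_free _ (by rw [← map_pow, hz3, map_one]) hfree
  obtain ⟨c, hc⟩ := isConj_iff.1 (Equiv.Perm.isConj_iff_cycleType_eq.2 (hzc.trans hσc.symm))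
  let ψ : G →* Equiv.Perm (Fin 9) := (MulAut.conj c).toMonoidHom.comp φ
  have hψ : ∀ g, ψ g ∈ Subgroup.centralizer ({σ} : Set (Equiv.Perm (Fin 9))) := by
    intro g
    rw [Subgroup.mem_centralizer_singleton_iff, ← hc]
    show ψ g * ψ (z : G) = ψ z * ψ g
    rw [← map_mul, ← map_mul, Subgroup.mem_center_iff.1 (hZcent z.2) g]
  let ψ' := ψ.codRestrict _ hψ
  have hψi : Function.Injective ψ' := fun a b hab =>
    hφ ((MulAut.conj c).injective (congrArg Subtype.val hab))
  have hcard : Nat.card (Subgroup.centralizer ({σ} : Set (Equiv.Perm (Fin 9)))) = 162 := by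
    rw [Equiv.Perm.nat_card_centralizer, hσc]
    rfl
  exact ⟨MulEquiv.ofBijective ψ' (hψi.bijective_of_nat_card_le (by rw [hcard, hG]))⟩

end Cfsg.Agent.S3376
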