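import Cfsg.Statements.S3379
import Mathlib.Tactic
import Mathlib.GroupTheory.SpecificGroups.ZGroup
import Mathlib.GroupTheory.SchurZassenhaus

set_option autoImplicit false
open Cfsg

namespace Cfsg.Agent.S3379

/-- Let G be a finite group all of whose Sylow subgroups are cyclic. Then G is generated by two elements x and y of coprime orders n and m with x⁻¹yx = y^r, where gcd(r − 1, m) = 1 and r^n ≡ 1 (mod m). -/
theorem result {G : Type*} [Group G] [Finite G]
    (hZ : ∀ (p : ℕ) [Fact p.Prime] (P : Sylow p G), IsCyclic (P : Subgroup G)) :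
    ∃ (x y : G) (n m r : ℕ), Subgroup.closure {x, y} = ⊤ ∧ orderOf x = n ∧ orderOf y = m ∧
      x⁻¹ * y * x = y ^ r ∧ Nat.Coprime (r - 1) m ∧ Nat.Coprime n m ∧ 1 ≤ r ∧ r ^ n % m = 1 % m := by
  classical
  have hZG : IsZGroup G := ⟨fun p hp P => @hZ p ⟨hp⟩ P⟩
  have hcyc : IsCyclic (commutator G) := IsZGroup.isCyclic_commutator G
  have hco := IsZGroup.coprime_commutator_index (G := G)
  obtain ⟨H, hH⟩ := Subgroup.exists_right_complement'_of_coprime hco
  have hHcyc : IsCyclic H := by
    have hab : IsCyclic (G ⧸ commutator G) := IsZGroup.isCyclic_abelianization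
    exact isCyclic_of_surjective hH.symm.QuotientMulEquiv hH.symm.QuotientMulEquiv.surjective
  obtain ⟨⟨y, hy⟩, hyg⟩ := hcyc.exists_generator
  obtain ⟨⟨x, hx⟩, hxg⟩ := hHcyc.exists_generator
  have hyz : commutator G = Subgroup.zpowers y := by
    ext z
    refine ⟨fun hz => ?_, fun hz => (Subgroup.zpowers_le.mpr hy) hz⟩
    obtain ⟨k, hk⟩ := Subgroup.mem_zpowers_iff.mp (hyg ⟨z, hz⟩)
    exact ⟨k, congrArg Subtype.val hk⟩
  have hxz : H = Subgroup.zpowers x := by
    ext z
    refine ⟨fun hz => ?_, fun hz => (Subgroup.zpowers_le.mpr hx) hz⟩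
    obtain ⟨k, hk⟩ := Subgroup.mem_zpowers_iff.mp (hxg ⟨z, hz⟩)
    exact ⟨k, congrArg Subtype.val hk⟩
  have hn : orderOf x = (commutator G).index := by
    rw [← Nat.card_zpowers, ← hxz, hH.symm.index_eq_card]
  have hm : orderOf y = Nat.card (commutator G) := by rw [hyz, Nat.card_zpowers]
  have hgen : Subgroup.closure {x, y} = ⊤ := by
    rw [eq_top_iff, ← hH.sup_eq_top, hyz, hxz]
    exact sup_le (Subgroup.zpowers_le.mpr (Subgroup.subset_closure (by simp)))
      (Subgroup.zpowers_le.mpr (Subgroup.subset_closure (by simp)))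
  have hmem : x⁻¹ * y * x ∈ Subgroup.zpowers y := by
    rw [← hyz]
    simpa using (inferInstance : (commutator G).Normal).conj_mem y hy x⁻¹
  obtain ⟨r0, hr0⟩ := (mem_powers_iff_mem_zpowers).mpr hmem
  simp only at hr0
  have cpz : ∀ (z : G) (i : ℤ), x⁻¹ * z ^ i * x = (x⁻¹ * z * x) ^ i := fun z i => by
    have := conj_zpow (a := x⁻¹) (b := z) (i := i)
    rw [inv_inv] at this
    exact this.symm
  have cp : ∀ (z : G) (i : ℕ), x⁻¹ * z ^ i * x = (x⁻¹ * z * x) ^ i := fun z i => by
    have := cpz z i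
    simpa only [zpow_natCast] using this
  obtain ⟨r, hr1, hr⟩ : ∃ r : ℕ, 1 ≤ r ∧ x⁻¹ * y * x = y ^ r :=
    ⟨r0 + orderOf y, by have := orderOf_pos y; omega,
      by rw [pow_add, pow_orderOf_eq_one, mul_one, hr0]⟩
  refine ⟨x, y, orderOf x, orderOf y, r, hgen, rfl, rfl, hr, ?_, ?_, hr1, ?_⟩
  · -- the commutator subgroup is generated by `y ^ (r - 1)`
    set d := y ^ (r - 1) with hd
    have hdr : x⁻¹ * d * x = d ^ r := by
      have : x⁻¹ * d * x = (x⁻¹ * y * x) ^ (r - 1) := cp y (r - 1)
      rw [this, hr, hd, ← pow_mul, ← pow_mul, mul_comm]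
    have hdn : (Subgroup.zpowers d).Normal := by
      rw [← Subgroup.normalizer_eq_top_iff, eq_top_iff, ← hgen, Subgroup.closure_le]
      have hx' : x⁻¹ ∈ Subgroup.normalizer (Subgroup.zpowers d : Set G) := by
        apply Subgroup.mem_normalizer_fintype
        intro w hw
        obtain ⟨k, rfl⟩ := hw
        refine ⟨(r : ℤ) * k, ?_⟩
        dsimp only
        rw [zpow_mul, zpow_natCast, ← hdr, inv_inv]
        exact (cpz d k).symm
      rintro z (rfl | rfl)
      · simpa using inv_mem hx'
      · apply Subgroup.mem_normalizer_fintype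
        intro w hw
        obtain ⟨k, rfl⟩ := hw
        refine ⟨k, ?_⟩
        have hc : Commute z (d ^ k) := ((Commute.self_pow z (r - 1))).zpow_right k
        dsimp only
        rw [hc.eq, mul_inv_cancel_right]
    have hle : commutator G ≤ Subgroup.zpowers d := by
      refine Subgroup.Normal.quotient_commutative_iff_commutator_le.mp ⟨⟨?_⟩⟩
      set f := QuotientGroup.mk' (Subgroup.zpowers d)
      have hxy : f x * f y = f y * f x := by
        rw [← map_mul, ← map_mul, QuotientGroup.mk'_eq_mk']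
        refine ⟨(x⁻¹ * y * x * y⁻¹), ?_, ?_⟩
        · rw [hr, show r = (r - 1) + 1 by omega, pow_succ, mul_inv_cancel_right]
          exact Subgroup.mem_zpowers d
        · rw [hr]
          calc x * y * (y ^ r * y⁻¹) = x * y ^ r := by
                rw [mul_assoc, ← mul_assoc y, ← pow_succ', pow_succ, mul_inv_cancel_right]
            _ = x * (x⁻¹ * y * x) := by rw [hr]
            _ = y * x := by group
      have hall : ∀ g : G, f g ∈ Subgroup.closure {f x, f y} := by
        intro g
        have : g ∈ Subgroup.closure ({x, y} : Set G) := hgen ▸ Subgroup.mem_top g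
        have := Subgroup.mem_map_of_mem f this
        rwa [MonoidHom.map_closure, Set.image_pair] at this
      have hcomm : ∀ a ∈ ({f x, f y} : Set _), ∀ b ∈ ({f x, f y} : Set _), a * b = b * a := by
        rintro a (rfl | rfl) b (rfl | rfl)
        · rfl
        · exact hxy
        · exact hxy.symm
        · rfl
      intro a b
      obtain ⟨a, rfl⟩ := QuotientGroup.mk'_surjective _ a
      obtain ⟨b, rfl⟩ := QuotientGroup.mk'_surjective _ b
      have hcl := Subgroup.isMulCommutative_closure hcomm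
      exact congrArg Subtype.val (hcl.is_comm.comm ⟨_, hall a⟩ ⟨_, hall b⟩)
    have h1 : y ∈ Submonoid.powers d := mem_powers_iff_mem_zpowers.mpr (hle hy)
    obtain ⟨j, hj⟩ := h1
    simp only at hj
    rw [hd, ← pow_mul] at hj
    have h2 : (r - 1) * j ≡ 1 [MOD orderOf y] := pow_eq_pow_iff_modEq.mp (by rw [hj, pow_one])
    exact Nat.Coprime.coprime_mul_right (k := j) (by
      rw [Nat.coprime_iff_gcd_eq_one, h2.gcd_eq]; simp)
  · rw [hn, hm]; exact hco.symm
  · have h1 : ∀ k : ℕ, (x ^ k)⁻¹ * y * x ^ k = y ^ (r ^ k) := by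
      intro k
      induction k with
      | zero => simp
      | succ k ih =>
        calc (x ^ (k + 1))⁻¹ * y * x ^ (k + 1) = x⁻¹ * ((x ^ k)⁻¹ * y * x ^ k) * x := by
              rw [pow_succ, mul_inv_rev]; group
          _ = (x⁻¹ * y * x) ^ (r ^ k) := by
              rw [ih]; exact cp y (r ^ k)
          _ = y ^ (r ^ (k + 1)) := by rw [hr, ← pow_mul, pow_succ']
    have h2 := h1 (orderOf x)
    rw [pow_orderOf_eq_one, inv_one, one_mul, mul_one] at h2
    exact pow_eq_pow_iff_modEq.mp (h2.symm.trans (pow_one y).symm)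

end Cfsg.Agent.S3379
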