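import Cfsg.Statements.S3380
import Cfsg.Agent.Lib.PGroup.IrreducibleSplit
set_option linter.style.haveILetI false

set_option autoImplicit false
open Cfsg

namespace Cfsg.Agent.S3380

/-- Let a finite p-group G act faithfully and irreducibly on a non-trivial finite vector space V over the field with q elements (q prime), and suppose G is not cyclic, generalized quaternion, dihedral or semidihedral. Then G has a subgroup H of index p and V is the direct sum of p subspaces, each invariant under H, on none of which H acts faithfully, and which every element of G outside H permutes in a single p-cycle. -/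
theorem result
    (q : ℕ) [Fact q.Prime] {V : Type*} [AddCommGroup V] [Module (ZMod q) V] [Finite V] [Nontrivial V]
    {G : Type*} [Group G] [Finite G] (p : ℕ) [Fact p.Prime] (hG : IsPGroup p G)
    (ρ : G →* (V ≃ₗ[ZMod q] V)) (hρ : Function.Injective ρ)
    (hirr : ∀ W : Submodule (ZMod q) V, (∀ g : G, ∀ w ∈ W, ρ g w ∈ W) → W = ⊥ ∨ W = ⊤)
    (hnc : ¬ IsCyclic G) (hnq : ∀ n : ℕ, ¬ Nonempty (G ≃* QuaternionGroup n))
    (hnd : ∀ n : ℕ, ¬ Nonempty (G ≃* DihedralGroup n)) (hnsd : ¬ Cfsg.IsQuasiDihedral G) :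
    ∃ (H : Subgroup G) (W : Fin p → Submodule (ZMod q) V), H.index = p ∧
      iSup W = ⊤ ∧ iSupIndep W ∧
      (∀ h ∈ H, ∀ i, ∀ w ∈ W i, ρ h w ∈ W i) ∧
      (∀ i, ∃ h ∈ H, h ≠ 1 ∧ ∀ w ∈ W i, ρ h w = w) ∧
      ∀ g : G, g ∉ H → ∃ σ : Equiv.Perm (Fin p), orderOf σ = p ∧ ∀ i, (W i).map (ρ g : V →ₗ[ZMod q] V) = W (σ i) := by
  open Subgroup CfsgLib.PGroup.IrredSplit in
  classical
  -- an abelian group acting without fixed vectors is cyclic
  have hcyc : ∀ B : Subgroup G, IsMulCommutative B →
      (∀ b ∈ B, b ≠ 1 → ∀ v : V, ρ b v = v → v = 0) → IsCyclic B := by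
    intro B hB hfree
    open scoped IsMulCommutative in
    exact CfsgLib.Gagola.isCyclic_of_fpf_addEnd (B := B) (Nat.card V) le_rfl
      ({ toFun := fun b => ((ρ (b : G)) : V →ₗ[ZMod q] V).toAddMonoidHom
         map_one' := AddMonoidHom.ext fun v => by
           show ρ ((1 : B) : G) v = v
           rw [Subgroup.coe_one, map_one]; rfl
         map_mul' := fun a b => AddMonoidHom.ext fun v => by
           show ρ ((a * b : B) : G) v = ρ (a : G) (ρ (b : G) v)
           rw [Subgroup.coe_mul, map_mul]; rfl } : B →* AddMonoid.End V)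
      fun b hb v h => hfree b b.2 (fun h1 => hb (Subtype.ext h1)) v h
  have hfreec : ∀ z ∈ center G, z ≠ 1 → ∀ v : V, ρ z v = v → v = 0 := by
    intro z hz hz1 v hv
    rcases hirr (fix ρ z) (fun g w hw => by
      rw [mem_fix] at hw ⊢
      rw [← LinearEquiv.mul_apply, ← map_mul, (mem_center_iff.1 hz g).symm, map_mul,
        LinearEquiv.mul_apply, hw]) with h | h
    · exact (Submodule.mem_bot _).1 (h ▸ (mem_fix ρ).2 hv)
    · refine absurd (hρ (LinearEquiv.ext fun w => ?_ : ρ z = ρ 1)) hz1
      rw [map_one]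
      exact (mem_fix ρ).1 (h.symm ▸ Submodule.mem_top)
  have hna : ¬ IsMulCommutative G := by
    intro hc
    have hct : ∀ x : G, x ∈ center G := fun x => mem_center_iff.2 fun y => mul_comm' y x
    haveI := hcyc ⊤ (IsMulCommutative.of_setLike_mul_comm fun a _ b _ => mul_comm' a b)
      fun b _ hb => hfreec b (hct b) hb
    exact hnc (isCyclic_of_surjective (Subgroup.topEquiv : (⊤ : Subgroup G) ≃* G).toMonoidHom
      (MulEquiv.surjective _))
  obtain ⟨E, hEn, hEc, hexp, hE⟩ := exists_normal_sq hG hna hnq hnd hnsd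
  haveI := hEn
  have hEcen : ¬ E ≤ center G := by
    intro h
    haveI := hcyc E hEc fun b hb hb1 => hfreec b (h hb) hb1
    obtain ⟨g, hg⟩ := IsCyclic.exists_generator (α := E)
    have h1 := orderOf_eq_card_of_forall_mem_zpowers hg
    have h2 : orderOf g ∣ p := orderOf_dvd_of_pow_eq_one (Subtype.ext (hexp g g.2))
    rw [h1, hE] at h2
    have := Nat.le_of_dvd (Fact.out : p.Prime).pos h2
    have := (Fact.out : p.Prime).two_le
    nlinarith
  obtain ⟨z, e, hz, hzE, hzo, heE, hec, hconj⟩ := exists_pair hG hE hEcen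
  have hz1 : z ≠ 1 := fun h => (Fact.out : p.Prime).ne_one (by rw [← hzo, h, orderOf_one])
  have hzp : z ^ p = 1 := hzo ▸ pow_orderOf_eq_one z
  have hpq : p ≠ q := by
    rintro rfl
    haveI : Fact p.Prime := inferInstance
    have hdvd : p ∣ Nat.card V := by
      rw [Module.natCard_eq_pow_finrank (K := ZMod p) (V := V), Nat.card_zmod]
      exact dvd_pow_self p (Module.finrank_pos (R := ZMod p) (M := V)).ne'
    letI : MulAction (zpowers z) V :=
      MulAction.compHom V ((ρ.comp (zpowers z).subtype))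
    have hzG : IsPGroup p (zpowers z) := IsPGroup.of_card (n := 1) (by
      rw [Nat.card_zpowers, hzo, pow_one])
    obtain ⟨v, hv, hv0⟩ := hzG.exists_fixed_point_of_prime_dvd_card_of_fixed_point V hdvd
      (a := (0 : V)) (fun g => by
        show ρ (g : G) 0 = 0
        simp)
    exact hv0 (hfreec z hz hz1 v (hv ⟨z, mem_zpowers z⟩)).symm
  have hpK : (p : ZMod q) ≠ 0 := by
    rw [Ne, ZMod.natCast_eq_zero_iff]
    exact fun h => hpq ((Nat.prime_dvd_prime_iff_eq (Fact.out : q.Prime) Fact.out).1 h).symm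
  obtain ⟨hsup, hind⟩ := split ρ hz hzo (hexp e heE) hpK (hfreec z hz hz1)
  set H := centralizer ({e} : Set G) with hH
  -- conjugation shifts the exponent
  have hshift : ∀ g : G, ∃ k : Fin p, g * e * g⁻¹ = e * z ^ (k : ℕ) := fun g => by
    obtain ⟨k, hk⟩ := hconj g
    refine ⟨⟨k % p, Nat.mod_lt _ (Fact.out : p.Prime).pos⟩, ?_⟩
    rw [hk, ← pow_mod_orderOf, hzo]
  choose k hk using hshift
  have hkH : ∀ g : G, g ∈ H ↔ (k g : ℕ) = 0 := by
    intro g
    rw [hH, mem_centralizer_singleton_iff]
    constructor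
    · intro h
      have h1 : z ^ (k g : ℕ) = 1 := by
        have h2 := hk g
        rw [h, mul_inv_cancel_right] at h2
        exact mul_eq_left.1 h2.symm
      exact Nat.eq_zero_of_dvd_of_lt ((dvd_of_eq hzo.symm).trans (orderOf_dvd_of_pow_eq_one h1)) (k g).2
    · intro h
      have h2 := hk g
      rw [h, pow_zero, mul_one] at h2
      exact mul_inv_eq_iff_eq_mul.1 h2
  have hinj : Function.Injective fun x : G ⧸ H => k x.out := by
    intro x y h
    rw [← QuotientGroup.out_eq' x, ← QuotientGroup.out_eq' y, QuotientGroup.eq]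
    refine mem_centralizer_singleton_iff.2 ?_
    have h1 : x.out * e * x.out⁻¹ = y.out * e * y.out⁻¹ := by
      rw [hk, hk, show k x.out = k y.out from h]
    calc x.out⁻¹ * y.out * e = x.out⁻¹ * (y.out * e * y.out⁻¹) * y.out := by group
      _ = x.out⁻¹ * (x.out * e * x.out⁻¹) * y.out := by rw [h1]
      _ = e * (x.out⁻¹ * y.out) := by group
  have hidx : H.index = p := by
    have hle : H.index ≤ p := by
      rw [Subgroup.index_eq_card]
      exact (Nat.card_le_card_of_injective _ hinj).trans (by simp)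
    obtain ⟨j, hj⟩ := hG.index H
    have hne : H.index ≠ 1 := fun h => hec (mem_center_iff.2 fun g =>
      mem_centralizer_singleton_iff.1 ((Subgroup.index_eq_one.1 h) ▸ mem_top g : g ∈ H))
    rcases j with _ | _ | j
    · exact absurd (by simpa using hj) hne
    · simpa using hj
    · exfalso
      have hp2 := (Fact.out : p.Prime).two_le
      have : p ^ 2 ≤ p ^ (j + 1 + 1) := Nat.pow_le_pow_right (by omega) (by omega)
      nlinarith
  have hcz : ∀ (g : G) (i : ℕ), g * (e * z ^ i) * g⁻¹ = g * e * g⁻¹ * z ^ i := fun g i => by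
    have h : z ^ i * g⁻¹ = g⁻¹ * z ^ i := (mem_center_iff.1 (pow_mem hz i) g⁻¹).symm
    simp only [mul_assoc, h]
  refine ⟨H, fun i => fix ρ (e * z ^ (i : ℕ)), hidx, hsup, hind, fun h hh i w hw => ?_,
    fun i => ⟨e * z ^ (i : ℕ), ?_, ?_, fun w hw => (mem_fix ρ).1 hw⟩, fun g hg => ?_⟩
  · have : ρ h w ∈ (fix ρ (e * z ^ (i : ℕ))).map (ρ h : V →ₗ[ZMod q] V) := ⟨w, hw, rfl⟩
    rwa [fix_map, hcz, mul_inv_eq_iff_eq_mul.2 (mem_centralizer_singleton_iff.1 hh)] at this
  · rw [hH, mem_centralizer_singleton_iff, mul_assoc, ← mem_center_iff.1 (pow_mem hz _) e]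
  · intro h
    exact hec (by rw [eq_inv_of_mul_eq_one_left h]; exact inv_mem (pow_mem hz _))
  · have hk0 : k g ≠ ⟨0, (Fact.out : p.Prime).pos⟩ := fun h =>
      hg ((hkH g).2 (congrArg Fin.val h))
    haveI : NeZero p := ⟨(Fact.out : p.Prime).ne_zero⟩
    refine ⟨Equiv.addRight (k g), ?_, fun i => ?_⟩
    · refine orderOf_eq_prime ?_ ?_
      · ext i
        have hn : ∀ n : ℕ, ((Equiv.addRight (k g)) ^ n) i = i + n • k g := by
          intro n
          induction n with
          | zero => simp
          | succ n ih =>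
            rw [pow_succ', Equiv.Perm.mul_apply, ih]
            show i + n • k g + k g = i + (n + 1) • k g
            rw [succ_nsmul, add_assoc]
        have h0 : p • k g = 0 := by
          have h := card_nsmul_eq_zero' (x := k g)
          rwa [Nat.card_fin] at h
        rw [hn, h0, add_zero]
        rfl
      · intro h
        have h' := Equiv.ext_iff.1 h 0
        change 0 + k g = 0 at h'
        rw [zero_add] at h'
        exact hk0 (h'.trans (Fin.ext rfl))
    · show _ = fix ρ (e * z ^ ((i + k g : Fin p) : ℕ))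
      rw [fix_map, hcz, hk, mul_assoc, ← pow_add, Fin.val_add, add_comm (i : ℕ)]
      congr 2
      have hmod := pow_mod_orderOf z ((k g : ℕ) + (i : ℕ))
      rw [hzo] at hmod
      exact hmod.symm

end Cfsg.Agent.S3380
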