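import Cfsg.Statements.S3381
import Mathlib.Tactic
import Mathlib.GroupTheory.OrderOfElement
import Mathlib.LinearAlgebra.FiniteDimensional.Basic
import Mathlib.FieldTheory.Finiteness

set_option autoImplicit false
open Cfsg

namespace Cfsg.Agent.S3381

theorem two_ne (q : ℕ) [Fact q.Prime] (hq : q ≠ 2) : (2 : ZMod q) ≠ 0 := by
  intro h
  have h1 : ((2 : ℕ) : ZMod q) = 0 := by exact_mod_cast h
  rw [ZMod.natCast_eq_zero_iff] at h1
  exact hq ((Nat.prime_dvd_prime_iff_eq Fact.out Nat.prime_two).mp h1)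

theorem neg_eq_self_iff (q : ℕ) [Fact q.Prime] (hq : q ≠ 2) {V : Type*} [AddCommGroup V]
    [Module (ZMod q) V] (v : V) : -v = v ↔ v = 0 := by
  refine ⟨fun h => ?_, fun h => by simp [h]⟩
  have h1 : (2 : ZMod q) • v = 0 := by
    rw [two_smul]; nth_rewrite 1 [← h]; exact neg_add_cancel v
  exact (smul_eq_zero.mp h1).resolve_left (two_ne q hq)

theorem central_neg (q : ℕ) [Fact q.Prime] {V : Type*} [AddCommGroup V] [Module (ZMod q) V]
    [Nontrivial V] {G : Type*} [Group G] (ρ : G →* (V ≃ₗ[ZMod q] V)) (hρ : Function.Injective ρ)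
    (hstab : ∀ v : V, v ≠ 0 → Nat.card {g : G // ρ g v = v} = 2)
    (z : G) (hz : orderOf z = 2) (hzc : z ∈ Subgroup.center G) :
    (∀ v, ρ z v = -v) ∧ q ≠ 2 := by
  have hz1 : z ≠ 1 := fun h => by simp [h] at hz
  have hzz : ∀ v, ρ z (ρ z v) = v := by
    intro v
    rw [← LinearEquiv.mul_apply, ← map_mul, ← pow_two, ← hz, pow_orderOf_eq_one, map_one]
    rfl
  have hnofix : ∀ v, ρ z v = v → v = 0 := by
    intro v hv
    by_contra hv0
    obtain ⟨w, hw⟩ : ∃ w, ρ z w ≠ w := by
      by_contra h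
      push Not at h
      exact hz1 (hρ (by ext w; rw [h w, map_one]; rfl))
    set d := ρ z w - w with hd
    have hd0 : d ≠ 0 := sub_ne_zero.mpr hw
    have hzd : ρ z d = -d := by rw [hd, map_sub, hzz, neg_sub]
    have hvd : v + d ≠ 0 := by
      intro h
      have h1 : d = -v := eq_neg_of_add_eq_zero_right h
      have h2 : v + w ≠ 0 := by
        intro h'
        rw [eq_neg_of_add_eq_zero_right h', map_neg, hv] at hw
        exact hw rfl
      have h3 : ρ z d = d := by rw [h1, map_neg, hv]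
      -- here necessarily q = 2; use the stabilizer of v + w
      obtain ⟨⟨t, ht⟩, htne⟩ : ∃ g : {g : G // ρ g (v + w) = v + w}, (g : G) ≠ 1 := by
        by_contra h'
        push Not at h'
        have : Subsingleton {g : G // ρ g (v + w) = v + w} :=
          ⟨fun a b => Subtype.ext ((h' a).trans (h' b).symm)⟩
        have := Nat.card_of_subsingleton (⟨1, by simp⟩ : {g : G // ρ g (v + w) = v + w})
        have := hstab _ h2
        omega
      have hcomm : ∀ x, ρ t (ρ z x) = ρ z (ρ t x) := by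
        intro x
        rw [← LinearEquiv.mul_apply, ← LinearEquiv.mul_apply, ← map_mul, ← map_mul,
          Subgroup.mem_center_iff.mp hzc t]
      have h4 : ρ t d = d := by
        have h5 : d = ρ z (v + w) - (v + w) := by rw [map_add, hv, hd]; abel
        rw [h5, map_sub, hcomm, ht]
      obtain ⟨_, hu⟩ := (Nat.card_eq_two_iff' (⟨1, by simp⟩ : {g : G // ρ g d = d})).mp (hstab d hd0)
      have e1 := hu.2 ⟨t, h4⟩ (fun e => htne (congrArg Subtype.val e))
      have e2 := hu.2 ⟨z, h3⟩ (fun e => hz1 (congrArg Subtype.val e))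
      have e3 : t = z := congrArg Subtype.val (e1.trans e2.symm)
      rw [e3, map_add, hv] at ht
      exact hw (add_left_cancel ht)
    obtain ⟨⟨t, ht⟩, htne⟩ : ∃ g : {g : G // ρ g (v + d) = v + d}, (g : G) ≠ 1 := by
      by_contra h'
      push Not at h'
      have : Subsingleton {g : G // ρ g (v + d) = v + d} :=
        ⟨fun a b => Subtype.ext ((h' a).trans (h' b).symm)⟩
      have := Nat.card_of_subsingleton (⟨1, by simp⟩ : {g : G // ρ g (v + d) = v + d})
      have := hstab _ hvd
      omega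
    by_cases h2 : q = 2
    · -- characteristic 2: the vector d is fixed by z
      subst h2
      have hdd : -d = d := by
        rw [neg_eq_iff_add_eq_zero, ← two_smul (ZMod 2) d, show (2 : ZMod 2) = 0 from rfl, zero_smul]
      rw [hdd] at hzd
      have h2 : v + w ≠ 0 := by
        intro h'
        rw [eq_neg_of_add_eq_zero_right h', map_neg, hv] at hw
        exact hw rfl
      obtain ⟨⟨t, ht⟩, htne⟩ : ∃ g : {g : G // ρ g (v + w) = v + w}, (g : G) ≠ 1 := by
        by_contra h'
        push Not at h'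
        have : Subsingleton {g : G // ρ g (v + w) = v + w} :=
          ⟨fun a b => Subtype.ext ((h' a).trans (h' b).symm)⟩
        have := Nat.card_of_subsingleton (⟨1, by simp⟩ : {g : G // ρ g (v + w) = v + w})
        have := hstab _ h2
        omega
      have h4 : ρ t d = d := by
        have h5 : d = ρ z (v + w) - (v + w) := by rw [map_add, hv, hd]; abel
        rw [h5, map_sub]
        conv_lhs => rw [← LinearEquiv.mul_apply, ← map_mul, Subgroup.mem_center_iff.mp hzc t,
          map_mul, LinearEquiv.mul_apply, ht]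
      obtain ⟨_, hu⟩ := (Nat.card_eq_two_iff' (⟨1, by simp⟩ : {g : G // ρ g d = d})).mp (hstab d hd0)
      have e1 := hu.2 ⟨t, h4⟩ (fun e => htne (congrArg Subtype.val e))
      have e2 := hu.2 ⟨z, hzd⟩ (fun e => hz1 (congrArg Subtype.val e))
      have e3 : t = z := congrArg Subtype.val (e1.trans e2.symm)
      rw [e3, map_add, hv] at ht
      exact hw (add_left_cancel ht)
    · have h4 : ρ t (v - d) = v - d := by
        have h5 : v - d = ρ z (v + d) := by rw [map_add, hv, hzd, sub_eq_add_neg]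
        rw [h5]
        conv_lhs => rw [← LinearEquiv.mul_apply, ← map_mul, Subgroup.mem_center_iff.mp hzc t,
          map_mul, LinearEquiv.mul_apply, ht]
      have h6 : ρ t v = v := by
        have h7 : (2 : ZMod q) • v = (v + d) + (v - d) := by rw [two_smul]; abel
        have h8 : ρ t ((2 : ZMod q) • v) = (2 : ZMod q) • v := by rw [h7, map_add, ht, h4]
        rw [map_smul] at h8
        exact smul_right_injective V (two_ne q h2) h8
      obtain ⟨_, hu⟩ := (Nat.card_eq_two_iff' (⟨1, by simp⟩ : {g : G // ρ g v = v})).mp (hstab v hv0)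
      have e1 := hu.2 ⟨t, h6⟩ (fun e => htne (congrArg Subtype.val e))
      have e2 := hu.2 ⟨z, hv⟩ (fun e => hz1 (congrArg Subtype.val e))
      have e3 : t = z := congrArg Subtype.val (e1.trans e2.symm)
      rw [e3, map_add, hv, hzd] at ht
      exact hd0 ((neg_eq_self_iff q h2 d).mp (add_left_cancel ht))
  have hneg : ∀ v, ρ z v = -v := by
    intro v
    have := hnofix (v + ρ z v) (by rw [map_add, hzz, add_comm])
    exact (neg_eq_of_add_eq_zero_right this).symm
  refine ⟨hneg, ?_⟩
  rintro rfl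
  obtain ⟨v, hv⟩ := exists_ne (0 : V)
  apply hv
  apply hnofix
  rw [hneg, neg_eq_iff_add_eq_zero, ← two_smul (ZMod 2) v, show (2 : ZMod 2) = 0 from rfl, zero_smul]

/-- Let G be a finite group acting faithfully and linearly on a non-trivial finite vector space V over the field with q elements (q prime) so that every non-zero vector has a stabilizer of order 2, and suppose G has a central involution. Then V has q^(2r) elements for some r and G contains exactly q^r + 1 non-central involutions. -/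
theorem result
    (q : ℕ) [Fact q.Prime] {V : Type*} [AddCommGroup V] [Module (ZMod q) V] [Finite V] [Nontrivial V]
    {G : Type*} [Group G] [Finite G] (ρ : G →* (V ≃ₗ[ZMod q] V)) (hρ : Function.Injective ρ)
    (hstab : ∀ v : V, v ≠ 0 → Nat.card {g : G // ρ g v = v} = 2)
    (z : G) (hz : orderOf z = 2) (hzc : z ∈ Subgroup.center G) :
    ∃ r : ℕ, Nat.card V = q ^ (2 * r) ∧
      Nat.card {g : G // orderOf g = 2 ∧ g ∉ Subgroup.center G} = q ^ r + 1 := by
  classical
  have hz1 : z ≠ 1 := fun h => by simp [h] at hz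
  obtain ⟨hneg, hq⟩ := central_neg q ρ hρ hstab z hz hzc
  have hinv : ∀ g : G, orderOf g = 2 → ∀ v, ρ g (ρ g v) = v := by
    intro g hg v
    rw [← LinearEquiv.mul_apply, ← map_mul, ← pow_two, ← hg, pow_orderOf_eq_one, map_one]
    rfl
  let I := {g : G // orderOf g = 2 ∧ g ∉ Subgroup.center G}
  let E : G → Submodule (ZMod q) V := fun g => LinearMap.ker ((ρ g : V →ₗ[ZMod q] V) - LinearMap.id)
  let E' : G → Submodule (ZMod q) V := fun g => LinearMap.ker ((ρ g : V →ₗ[ZMod q] V) + LinearMap.id)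
  have hE : ∀ g v, v ∈ E g ↔ ρ g v = v := by
    intro g v; simp [E, sub_eq_zero]
  have hE' : ∀ g v, v ∈ E' g ↔ ρ g v = -v := by
    intro g v; simp [E', add_eq_zero_iff_eq_neg]
  have huniq : ∀ v : V, v ≠ 0 → ∀ g h : G, g ≠ 1 → h ≠ 1 → ρ g v = v → ρ h v = v → g = h := by
    intro v hv g h hg hh hgv hhv
    obtain ⟨_, h2⟩ := (Nat.card_eq_two_iff' (⟨1, by simp⟩ : {g : G // ρ g v = v})).mp (hstab v hv)
    have e1 := h2.2 ⟨g, hgv⟩ (fun e => hg (congrArg Subtype.val e))
    have e2 := h2.2 ⟨h, hhv⟩ (fun e => hh (congrArg Subtype.val e))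
    exact congrArg Subtype.val (e1.trans e2.symm)
  have hzz : ∀ g : G, ρ (z * g) = ρ z * ρ g := map_mul ρ z
  have hIne : ∀ t : I, (t : G) ≠ 1 := fun t h => by have := t.2.1; simp [h] at this
  have hzI : ∀ t : I, orderOf (z * (t : G)) = 2 ∧ z * (t : G) ∉ Subgroup.center G := by
    intro t
    have hnc : z * (t : G) ∉ Subgroup.center G := fun h =>
      t.2.2 (by simpa using Subgroup.mul_mem _ (Subgroup.inv_mem _ hzc) h)
    refine ⟨orderOf_eq_prime ?_ fun h => hnc (h ▸ Subgroup.one_mem _), hnc⟩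
    rw [(show Commute z (t : G) from (Subgroup.mem_center_iff.mp hzc (t : G)).symm).mul_pow,
      show z ^ 2 = 1 by rw [← hz]; exact pow_orderOf_eq_one z,
      show (t : G) ^ 2 = 1 from (congrArg ((t : G) ^ ·) t.2.1).symm.trans (pow_orderOf_eq_one (t : G)), one_mul]
  let zt : I → I := fun t => ⟨z * t, hzI t⟩
  have hEz : ∀ t : I, E' (t : G) = E (z * t : G) := by
    intro t; ext v
    rw [hE', hE, hzz, LinearEquiv.mul_apply, hneg]
    constructor
    · intro h; rw [h, neg_neg]
    · intro h; exact neg_eq_iff_eq_neg.mp h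
  -- every nonzero vector lies in the fixed space of exactly one such involution
  have hcover : ∀ v : V, v ≠ 0 → ∃ t : I, v ∈ E t := by
    intro v hv
    obtain ⟨⟨g, hg⟩, hg1⟩ : ∃ g : {g : G // ρ g v = v}, (g : G) ≠ 1 := by
      by_contra h
      push Not at h
      have : Subsingleton {g : G // ρ g v = v} := ⟨fun a b => Subtype.ext ((h a).trans (h b).symm)⟩
      have := Finite.card_le_one_iff_subsingleton.mpr this
      have := hstab v hv
      omega
    have hgg : g * g = 1 := by
      by_contra h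
      have := huniq v hv (g * g) g h hg1 (by rw [map_mul, LinearEquiv.mul_apply, hg, hg]) hg
      exact hg1 (mul_eq_left.mp this)
    have hg2 : orderOf g = 2 := orderOf_eq_prime (by rw [pow_two, hgg]) hg1
    refine ⟨⟨g, hg2, fun hc => ?_⟩, (hE _ _).mpr hg⟩
    obtain ⟨hgneg, -⟩ := central_neg q ρ hρ hstab g hg2 hc
    rw [hgneg] at hg
    exact hv ((neg_eq_self_iff q hq v).mp hg)
  have hdisj : ∀ t u : I, t ≠ u → Disjoint (E t) (E u) := by
    intro t u htu
    rw [Submodule.disjoint_def]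
    intro v hvt hvu
    by_contra hv
    exact htu (Subtype.ext (huniq v hv t u (hIne t) (hIne u) ((hE _ _).mp hvt) ((hE _ _).mp hvu)))
  have hprod : ∀ A B : Submodule (ZMod q) V, Disjoint A B → Nat.card A * Nat.card B ≤ Nat.card V := by
    intro A B h
    rw [← Nat.card_prod]
    refine Nat.card_le_card_of_injective (fun x => (x.1 : V) + x.2) ?_
    rintro ⟨a, b⟩ ⟨a', b'⟩ h'
    simp only at h'
    have h1 : (a : V) - a' = b' - b := by
      rw [sub_eq_sub_iff_add_eq_add, h', add_comm]
    have h2 : (a : V) - a' ∈ A ⊓ B := ⟨A.sub_mem a.2 a'.2, h1 ▸ B.sub_mem b'.2 b.2⟩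
    rw [h.eq_bot, Submodule.mem_bot] at h2
    have hb : (b' : V) - b = 0 := h1 ▸ h2
    exact Prod.ext (Subtype.ext (sub_eq_zero.mp h2)) (Subtype.ext (sub_eq_zero.mp hb).symm)
  have hztne : ∀ t : I, zt t ≠ t := by
    intro t h
    exact hz1 (mul_eq_right.mp (congrArg Subtype.val h))
  have hfull : ∀ t : I, Nat.card (E t) * Nat.card (E (zt t : G)) = Nat.card V := by
    intro t
    rw [← hEz, ← Nat.card_prod]
    refine Nat.card_eq_of_bijective (fun x => (x.1 : V) + x.2) ⟨?_, ?_⟩
    · rintro ⟨a, b⟩ ⟨a', b'⟩ h'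
      simp only at h'
      have hdis := hdisj t (zt t) (fun h => hztne t h.symm)
      rw [show (E (zt t : G)) = E' (t : G) from (hEz t).symm] at hdis
      have h1 : (a : V) - a' = b' - b := by
        rw [sub_eq_sub_iff_add_eq_add, h', add_comm]
      have h2 : (a : V) - a' ∈ E (t : G) ⊓ E' (t : G) :=
        ⟨Submodule.sub_mem _ a.2 a'.2, h1 ▸ Submodule.sub_mem _ b'.2 b.2⟩
      rw [hdis.eq_bot, Submodule.mem_bot] at h2
      have hb : (b' : V) - b = 0 := h1 ▸ h2
      exact Prod.ext (Subtype.ext (sub_eq_zero.mp h2)) (Subtype.ext (sub_eq_zero.mp hb).symm)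
    · intro v
      refine ⟨(⟨(2 : ZMod q)⁻¹ • (v + ρ t v), (hE _ _).mpr ?_⟩,
        ⟨(2 : ZMod q)⁻¹ • (v - ρ t v), (hE' _ _).mpr ?_⟩), ?_⟩
      · rw [map_smul, map_add, hinv _ t.2.1, add_comm]
      · rw [map_smul, map_sub, hinv _ t.2.1, ← smul_neg, neg_sub]
      · simp only
        rw [← smul_add, show v + ρ t v + (v - ρ t v) = (2 : ZMod q) • v by rw [two_smul]; abel,
          inv_smul_smul₀ (two_ne q hq)]
  obtain ⟨v0, hv0⟩ := exists_ne (0 : V)
  obtain ⟨t0, ht0⟩ := hcover v0 hv0
  have hpos : ∀ t : I, ∃ v ∈ E t, v ≠ 0 := by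
    intro t
    by_contra h
    push Not at h
    apply t.2.2
    have h1 : ρ (t : G) = ρ z := by
      ext v
      have h2 := h (v + ρ t v) ((hE _ _).mpr (by rw [map_add, hinv _ t.2.1, add_comm]))
      rw [hneg]
      exact (neg_eq_of_add_eq_zero_right h2).symm
    exact hρ h1 ▸ hzc
  obtain ⟨u0, hu1, hu2⟩ : ∃ u : I, u ≠ t0 ∧ u ≠ zt t0 := by
    by_contra h
    push Not at h
    obtain ⟨a, ha, ha0⟩ := hpos t0
    obtain ⟨b, hb, hb0⟩ := hpos (zt t0)
    have hd := hdisj t0 (zt t0) (fun h => hztne t0 h.symm)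
    have hab : a + b ≠ 0 := fun e => ha0 (Submodule.disjoint_def.mp hd a ha
      (by rw [eq_neg_of_add_eq_zero_left e]; exact Submodule.neg_mem _ hb))
    obtain ⟨u, hu⟩ := hcover _ hab
    by_cases hu' : u = t0
    · subst hu'
      exact hb0 (Submodule.disjoint_def.mp hd b (by simpa using Submodule.sub_mem _ hu ha) hb)
    · rw [h u hu'] at hu
      exact ha0 (Submodule.disjoint_def.mp hd a ha (by simpa using Submodule.sub_mem _ hu hb))
  set a := Nat.card (E t0) with haa
  have hapos : 0 < a := Nat.card_pos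
  have heq : ∀ t u : I, t ≠ u → t ≠ zt u → Nat.card (E t) ≤ Nat.card (E u) := by
    intro t u h1 h2
    have h3 := hprod _ _ (hdisj t (zt u) h2)
    rw [← hfull u] at h3
    exact Nat.le_of_mul_le_mul_right h3 Nat.card_pos
  have hztzt : ∀ t : I, zt (zt t) = t := by
    intro t
    apply Subtype.ext
    change z * (z * (t : G)) = t
    rw [← mul_assoc, ← pow_two, show z ^ 2 = 1 by rw [← hz]; exact pow_orderOf_eq_one z, one_mul]
  have h_eq2 : ∀ t u : I, t ≠ u → t ≠ zt u → Nat.card (E t) = Nat.card (E u) := by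
    intro t u h1 h2
    refine le_antisymm (heq t u h1 h2) (heq u t h1.symm fun h => h2 ?_)
    rw [h, hztzt]
  have haz : Nat.card (E (zt t0 : G)) = a := by
    rw [← h_eq2 u0 (zt t0) hu2 (by rw [hztzt]; exact hu1), h_eq2 u0 t0 hu1 hu2]
  have hall : ∀ t : I, Nat.card (E t) = a := by
    intro t
    by_cases h1 : t = t0
    · rw [h1]
    by_cases h2 : t = zt t0
    · rw [h2, haz]
    exact h_eq2 t t0 h1 h2
  have hVcard : Nat.card V = a * a := by rw [← hfull t0, haz]
  obtain ⟨r, -, hr⟩ : ∃ r ≤ Module.finrank (ZMod q) (E t0), a = q ^ r :=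
    ⟨_, le_rfl, by rw [haa, Module.natCard_eq_pow_finrank (K := ZMod q), Nat.card_zmod]⟩
  refine ⟨r, by rw [hVcard, hr, ← pow_add, two_mul], ?_⟩
  -- count the nonzero vectors
  have hsig : Nat.card (Σ t : I, {v : E (t : G) // v ≠ 0}) = Nat.card {v : V // v ≠ 0} := by
    refine Nat.card_eq_of_bijective
      (fun x => ⟨x.2.1.1, fun h => x.2.2 (Subtype.ext h)⟩) ⟨?_, ?_⟩
    · rintro ⟨t, ⟨⟨v, hv⟩, hv0⟩⟩ ⟨u, ⟨⟨w, hw⟩, hw0⟩⟩ h
      obtain rfl : v = w := congrArg Subtype.val h
      obtain rfl : t = u := by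
        by_contra htu
        exact hv0 (Subtype.ext (Submodule.disjoint_def.mp (hdisj t u htu) v hv hw))
      rfl
    · rintro ⟨v, hv⟩
      obtain ⟨t, ht⟩ := hcover v hv
      exact ⟨⟨t, ⟨⟨v, ht⟩, fun h => hv (congrArg Subtype.val h)⟩⟩, rfl⟩
  have hsub : ∀ {W : Type _} [AddCommGroup W] [Finite W], Nat.card {v : W // v ≠ 0} + 1 = Nat.card W := by
    intro W _ _
    have : Fintype W := Fintype.ofFinite W
    rw [Nat.card_eq_fintype_card, Nat.card_eq_fintype_card, Fintype.card_subtype_compl,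
      Fintype.card_subtype_eq]
    have := Fintype.card_pos (α := W)
    omega
  have hVsub : Nat.card {v : V // v ≠ 0} + 1 = Nat.card V := hsub
  have : Fintype I := Fintype.ofFinite _
  rw [Nat.card_sigma] at hsig
  have hterm : ∀ t : I, Nat.card {v : E (t : G) // v ≠ 0} = a - 1 := by
    intro t
    have h : Nat.card {v : E (t : G) // v ≠ 0} + 1 = Nat.card (E (t : G)) := hsub
    rw [hall t] at h
    omega
  simp only [hterm, Finset.sum_const, Finset.card_univ, smul_eq_mul, ← Nat.card_eq_fintype_card] at hsig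
  rw [← hsig, hVcard] at hVsub
  rw [← hr]
  have ha1 : 2 ≤ a := by
    obtain ⟨v, hv, hv0⟩ := hpos t0
    have : Nontrivial (E (t0 : G)) := ⟨⟨⟨v, hv⟩, 0, fun h => hv0 (congrArg Subtype.val h)⟩⟩
    exact Finite.one_lt_card
  have hkey : Nat.card I * (a - 1) = (a + 1) * (a - 1) := by
    have h1 : (a + 1) * (a - 1) + 1 = a * a := by
      obtain ⟨k, hk⟩ : ∃ k, a = k + 1 := ⟨a - 1, by omega⟩
      rw [hk]; simp; ring
    omega
  exact Nat.eq_of_mul_eq_mul_right (by omega) hkey

end Cfsg.Agent.S3381
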