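import Cfsg.Statements.S3382
import Mathlib

set_option autoImplicit false
open Cfsg

namespace Cfsg.Agent.S3382

/-- An automorphism of odd order of a two-group which fixes a subgroup of index at most two is
trivial. -/
theorem eq_one_of_fix {T : Type*} [Group T] [Finite T] (hT : IsPGroup 2 T) (N : Subgroup T)
    (hN : N.index ≤ 2) (α : MulAut T) {r : ℕ} (hr : Odd r) (hα : α ^ r = 1)
    (hfix : ∀ n ∈ N, α n = n) : α = 1 := by
  have hpos : N.index ≠ 0 := Subgroup.index_ne_zero_of_finite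
  refine MulEquiv.ext fun w => ?_
  by_cases hw : w ∈ N
  · exact hfix w hw
  have h2 : N.index = 2 := by
    rcases (show N.index = 1 ∨ N.index = 2 by omega) with h | h
    · exact absurd (by rw [Subgroup.index_eq_one.1 h]; trivial) hw
    · exact h
  have hαw : α w ∉ N := by
    intro h
    have h' := hfix _ h
    exact hw (α.injective h' ▸ h)
  have hn : w⁻¹ * α w ∈ N := by
    rw [Subgroup.mul_mem_iff_of_index_two h2, inv_mem_iff]
    exact iff_of_false hw hαw
  have hpow : ∀ k : ℕ, (α ^ k) w = w * (w⁻¹ * α w) ^ k := by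
    intro k
    induction k with
    | zero => simp
    | succ k ih =>
      rw [pow_succ', MulAut.mul_apply, ih, map_mul, map_pow, hfix _ hn, pow_succ', ← mul_assoc,
        mul_inv_cancel_left]
  have h1 := hpow r
  rw [hα, MulAut.one_apply, left_eq_mul] at h1
  obtain ⟨k, hk⟩ := hT (w⁻¹ * α w)
  have hord : orderOf (w⁻¹ * α w) ∣ 1 := by
    rw [← (show Nat.Coprime r (2 ^ k) from (Nat.coprime_two_right.2 hr).pow_right k)]
    exact Nat.dvd_gcd (orderOf_dvd_of_pow_eq_one h1) (orderOf_dvd_of_pow_eq_one hk)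
  have := orderOf_eq_one_iff.1 (Nat.dvd_one.1 hord)
  rw [MulAut.one_apply]
  exact (inv_mul_eq_one.1 this).symm

/-- An odd power fixing, and at most two possible values. -/
theorem fixed_of_two_values {T : Type*} [Group T] (α : MulAut T) {r : ℕ} (hr : Odd r)
    (hα : α ^ r = 1) (P : T → Prop) (hP : ∀ u, P u → P (α u)) (u u' : T) (hu : P u)
    (hall : ∀ v, P v → v = u ∨ v = u') : α u = u := by
  rcases hall _ (hP u hu) with h | h
  · exact h
  rcases hall _ (hP _ (hP u hu)) with h2 | h2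
  · obtain ⟨k, rfl⟩ := hr
    have hk : ∀ k : ℕ, (α ^ (2 * k)) u = u := by
      intro k
      induction k with
      | zero => simp
      | succ k ih => rw [show 2 * (k + 1) = 2 + 2 * k by ring, pow_add, MulAut.mul_apply, ih,
          pow_two, MulAut.mul_apply, h2]
    have h4 : (α ^ (2 * k + 1)) u = α u := by rw [pow_succ', MulAut.mul_apply, hk k]
    rw [hα, MulAut.one_apply] at h4
    exact h4.symm
  · rw [h] at h2 ⊢
    exact (α.injective (h.trans h2.symm)).symm

variable {q : ℕ} [Fact q.Prime]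

/-- The diagonal (`b = false`) and monomial (`b = true`) maps. -/
def act (b : Bool) (a s : ZMod q) (v : Fin 2 → ZMod q) : Fin 2 → ZMod q :=
  cond b ![s * a⁻¹ * v 1, a * v 0] ![a * v 0, s * a⁻¹ * v 1]

theorem act_apply_zero (b : Bool) (a s : ZMod q) (v : Fin 2 → ZMod q) :
    act b a s v 0 = cond b (s * a⁻¹ * v 1) (a * v 0) := by cases b <;> rfl

theorem act_apply_one (b : Bool) (a s : ZMod q) (v : Fin 2 → ZMod q) :
    act b a s v 1 = cond b (a * v 0) (s * a⁻¹ * v 1) := by cases b <;> rfl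

theorem act_comp (b c : Bool) {a s x t : ZMod q} (ha : a ≠ 0) (hx : x ≠ 0) (hs : s = 1 ∨ s = -1)
    (ht : t = 1 ∨ t = -1) (v : Fin 2 → ZMod q) :
    act b a s (act c x t v) =
      act (xor b c) (cond c (s * x / a) (a * x)) (s * t) v := by
  have hs0 : s ≠ 0 := by rcases hs with rfl | rfl <;> simp
  have ht0 : t ≠ 0 := by rcases ht with rfl | rfl <;> simp
  funext i
  cases b <;> cases c <;> fin_cases i <;>
    rcases hs with rfl | rfl <;> rcases ht with rfl | rfl <;>
    simp [act] <;> field_simp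


/-- A subgroup with two cosets. -/
theorem index_le_two {T : Type*} [Group T] (N : Subgroup T) (y : T)
    (h : ∀ f, f ∈ N ∨ y⁻¹ * f ∈ N) : N.index ≤ 2 := by
  rw [Subgroup.index_eq_card]
  refine le_of_le_of_eq (Nat.card_le_card_of_surjective
    (fun b : Bool => (QuotientGroup.mk (cond b y 1) : T ⧸ N)) fun Q => ?_) (by simp)
  obtain ⟨f, rfl⟩ := QuotientGroup.mk_surjective Q
  rcases h f with h | h
  · exact ⟨false, QuotientGroup.eq.2 (by simpa using h)⟩
  · exact ⟨true, QuotientGroup.eq.2 (by simpa using h)⟩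

/-- The map `f` has the parameters `(b, a, s)`. -/
def Is (f : (Fin 2 → ZMod q) ≃ₗ[ZMod q] (Fin 2 → ZMod q)) (b : Bool) (a s : ZMod q) : Prop :=
  ∀ v, f v = act b a s v

theorem Is.unique {f g : (Fin 2 → ZMod q) ≃ₗ[ZMod q] (Fin 2 → ZMod q)} {b : Bool} {a s : ZMod q}
    (hf : Is f b a s) (hg : Is g b a s) : f = g :=
  LinearEquiv.ext fun v => (hf v).trans (hg v).symm

theorem Is.inj {f : (Fin 2 → ZMod q) ≃ₗ[ZMod q] (Fin 2 → ZMod q)} {b c : Bool} {a s x t : ZMod q}
    (ha : a ≠ 0) (hx : x ≠ 0) (hs : s ≠ 0) (hf : Is f b a s) (hg : Is f c x t) :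
    b = c ∧ a = x ∧ s = t := by
  have h0 := (hf ![1, 0]).symm.trans (hg ![1, 0])
  have h1 := (hf ![0, 1]).symm.trans (hg ![0, 1])
  have e00 := congrFun h0 0
  have e01 := congrFun h0 1
  have e10 := congrFun h1 0
  have e11 := congrFun h1 1
  simp only [act_apply_zero, act_apply_one] at e00 e01 e10 e11
  cases b <;> cases c <;> simp at e00 e01 e10 e11
  · exact ⟨rfl, e00, by subst e00; simpa [ha] using e11⟩
  · exact absurd e00 ha
  · exact absurd e01 ha
  · exact ⟨rfl, e01, by subst e01; simpa [ha] using e10⟩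

theorem Is.mul {f g : (Fin 2 → ZMod q) ≃ₗ[ZMod q] (Fin 2 → ZMod q)} {b c : Bool} {a s x t : ZMod q}
    (ha : a ≠ 0) (hx : x ≠ 0) (hs : s = 1 ∨ s = -1) (ht : t = 1 ∨ t = -1)
    (hf : Is f b a s) (hg : Is g c x t) :
    Is (f * g) (xor b c) (cond c (s * x / a) (a * x)) (s * t) := fun v => by
  show f (g v) = _
  rw [hg, hf, act_comp b c ha hx hs ht]

theorem Is.one : Is (1 : (Fin 2 → ZMod q) ≃ₗ[ZMod q] (Fin 2 → ZMod q)) false 1 1 := fun v => by
  funext i
  fin_cases i <;> simp [act]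

theorem sign_pow {s : ZMod q} (hs : s = 1 ∨ s = -1) (n : ℕ) : s ^ n = 1 ∨ s ^ n = -1 := by
  rcases hs with rfl | rfl
  · exact Or.inl (one_pow n)
  · exact neg_one_pow_eq_or _ n

theorem Is.pow {f : (Fin 2 → ZMod q) ≃ₗ[ZMod q] (Fin 2 → ZMod q)} {a s : ZMod q}
    (ha : a ≠ 0) (hs : s = 1 ∨ s = -1) (hf : Is f false a s) (n : ℕ) :
    Is (f ^ n) false (a ^ n) (s ^ n) := by
  induction n with
  | zero => simpa using Is.one
  | succ n ih =>
    rw [pow_succ, pow_succ, pow_succ]
    simpa using Is.mul (pow_ne_zero n ha) ha (sign_pow hs n) hs ih hf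

theorem Is.sq_swap {f : (Fin 2 → ZMod q) ≃ₗ[ZMod q] (Fin 2 → ZMod q)} {a s : ZMod q}
    (ha : a ≠ 0) (hs : s = 1 ∨ s = -1) (hf : Is f true a s) : Is (f * f) false s 1 := by
  have h := Is.mul ha ha hs hs hf hf
  have h1 : s * s = 1 := by rcases hs with rfl | rfl <;> ring
  have h2 : s * a / a = s := mul_div_cancel_right₀ s ha
  simpa [h1, h2] using h

theorem exists_is (b : Bool) {a s : ZMod q} (ha : a ≠ 0) (hs : s ≠ 0) :
    ∃ f, Is f b a s := by
  let L : (Fin 2 → ZMod q) →ₗ[ZMod q] (Fin 2 → ZMod q) :=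
    { toFun := act b a s
      map_add' := fun v w => by funext i; cases b <;> fin_cases i <;> simp [act] <;> ring
      map_smul' := fun c v => by funext i; cases b <;> fin_cases i <;> simp [act] <;> ring }
  have hinj : Function.Injective L := fun v w h => by
    have e0 := congrFun h 0
    have e1 := congrFun h 1
    change act b a s v 0 = act b a s w 0 at e0
    change act b a s v 1 = act b a s w 1 at e1
    rw [act_apply_zero, act_apply_zero] at e0
    rw [act_apply_one, act_apply_one] at e1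
    funext i
    cases b <;> simp [ha, hs] at e0 e1 <;> fin_cases i <;> assumption
  exact ⟨LinearEquiv.ofBijective L (Finite.injective_iff_bijective.1 hinj), fun v => rfl⟩

set_option maxHeartbeats 1600000 in
/-- Let q = 2^m + 1 be a prime other than 5. Then the automorphism group of the group of linear maps of F_q² of the forms (x, y) ↦ (a x, ± a⁻¹ y) and (x, y) ↦ (± a⁻¹ y, a x) with a ≠ 0 is itself a 2-group. -/
theorem result (q m : ℕ) [Fact q.Prime] (hq : q = 2 ^ m + 1) (hq5 : q ≠ 5)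
    (T : Subgroup ((Fin 2 → ZMod q) ≃ₗ[ZMod q] (Fin 2 → ZMod q)))
    (hT : ∀ f, f ∈ T ↔ ∃ a s : ZMod q, a ≠ 0 ∧ (s = 1 ∨ s = -1) ∧
      ((∀ v, f v = ![a * v 0, s * a⁻¹ * v 1]) ∨ (∀ v, f v = ![s * a⁻¹ * v 1, a * v 0]))) :
    IsPGroup 2 (MulAut T) := by
  classical
  have hp : q.Prime := Fact.out
  haveI : Fact (Nat.Prime 2) := ⟨Nat.prime_two⟩
  have hne1 : (-1 : ZMod q) ≠ 0 := neg_ne_zero.2 one_ne_zero
  have hform : ∀ f : T, ∃ b a s, a ≠ 0 ∧ (s = 1 ∨ s = -1) ∧ Is (f : _ ≃ₗ[ZMod q] _) b a s := by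
    intro f
    obtain ⟨a, s, ha, hs, h | h⟩ := (hT f).1 f.2
    · exact ⟨false, a, s, ha, hs, h⟩
    · exact ⟨true, a, s, ha, hs, h⟩
  have hmk : ∀ b a s, a ≠ 0 → (s = 1 ∨ s = -1) → ∃ f : T, Is (f : _ ≃ₗ[ZMod q] _) b a s := by
    intro b a s ha hs
    obtain ⟨f, hf⟩ := exists_is b ha (show s ≠ 0 by rcases hs with rfl | rfl <;> simp)
    refine ⟨⟨f, (hT f).2 ⟨a, s, ha, hs, ?_⟩⟩, hf⟩
    cases b
    · exact Or.inl hf
    · exact Or.inr hf
  have hext : ∀ (f g : T) {b a s}, Is (f : _ ≃ₗ[ZMod q] _) b a s →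
      Is (g : _ ≃ₗ[ZMod q] _) b a s → f = g := fun f g _ _ _ h h' => Subtype.ext (h.unique h')
  have hone : ∀ (f : T) {b a s}, a ≠ 0 → (s = 1 ∨ s = -1) → Is (f : _ ≃ₗ[ZMod q] _) b a s →
      f = 1 → b = false ∧ a = 1 ∧ s = 1 := fun f b a s ha hs h hf => by
    subst hf
    exact Is.inj ha one_ne_zero (by rcases hs with rfl | rfl <;> simp) h Is.one
  have hferm : ∀ a : ZMod q, a ≠ 0 → a ^ (2 ^ m) = 1 := fun a ha => by
    have := ZMod.pow_card_sub_one_eq_one ha
    rwa [show q - 1 = 2 ^ m by rw [hq]; exact Nat.add_sub_cancel _ _] at this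
  have hswap4 : ∀ (f : T) {a s}, a ≠ 0 → (s = 1 ∨ s = -1) → Is (f : _ ≃ₗ[ZMod q] _) true a s →
      f ^ 4 = 1 := fun f a s ha hs h => by
    refine hext _ 1 ?_ Is.one
    have h2 := Is.sq_swap ha hs h
    have hs0 : s ≠ 0 := by rcases hs with rfl | rfl <;> simp
    have h3 := Is.pow hs0 (Or.inl rfl) h2 2
    rw [show (f ^ 4 : T) = (f * f) ^ 2 by rw [← pow_two, ← pow_mul]]
    simp only [SubmonoidClass.coe_pow, Subgroup.coe_mul]
    convert h3 using 1
    · rcases hs with rfl | rfl <;> ring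
    · ring
  have hTp : IsPGroup 2 T := by
    intro f
    refine ⟨m + 2, ?_⟩
    obtain ⟨b, a, s, ha, hs, h⟩ := hform f
    cases b
    · refine hext _ 1 ?_ Is.one
      have h2 := Is.pow ha hs h (2 ^ (m + 2))
      simp only [SubmonoidClass.coe_pow]
      convert h2 using 1
      · rw [pow_add, pow_mul, hferm a ha, one_pow]
      · rcases hs with rfl | rfl
        · rw [one_pow]
        · exact (Even.neg_one_pow (Nat.even_pow.2 ⟨even_two, by omega⟩)).symm
    · rw [pow_add, mul_comm, pow_mul, show 2 ^ 2 = 4 by norm_num, hswap4 f ha hs h, one_pow]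
  haveI : Finite ((Fin 2 → ZMod q) ≃ₗ[ZMod q] (Fin 2 → ZMod q)) :=
    Finite.of_injective (fun f => ⇑f) DFunLike.coe_injective
  haveI : Finite T := inferInstance
  haveI : Finite (MulAut T) := Finite.of_injective (fun f => ⇑f) DFunLike.coe_injective
  let N : Subgroup T :=
    { carrier := {f | ∃ a s, a ≠ 0 ∧ (s = 1 ∨ s = -1) ∧ Is (f : _ ≃ₗ[ZMod q] _) false a s}
      one_mem' := ⟨1, 1, one_ne_zero, Or.inl rfl, Is.one⟩
      mul_mem' := fun {f g} ⟨a, s, ha, hs, h⟩ ⟨x, t, hx, ht, h'⟩ => ⟨a * x, s * t, mul_ne_zero ha hx,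
        by rcases hs with rfl | rfl <;> rcases ht with rfl | rfl <;> simp,
        by simpa using Is.mul ha hx hs ht h h'⟩
      inv_mem' := fun {f} ⟨a, s, ha, hs, h⟩ => by
        have h1 : f⁻¹ = f ^ (orderOf f - 1) := by
          refine (eq_inv_of_mul_eq_one_left ?_).symm
          rw [← pow_succ, Nat.sub_add_cancel (orderOf_pos f), pow_orderOf_eq_one]
        refine ⟨a ^ (orderOf f - 1), s ^ (orderOf f - 1), pow_ne_zero _ ha, sign_pow hs _, ?_⟩
        rw [h1, SubmonoidClass.coe_pow]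
        exact Is.pow ha hs h _ }
  obtain ⟨w, hw⟩ := hmk true 1 1 one_ne_zero (Or.inl rfl)
  have hwinv : w⁻¹ = w := by
    refine inv_eq_of_mul_eq_one_right (hext _ 1 ?_ Is.one)
    exact Is.sq_swap one_ne_zero (Or.inl rfl) hw
  have hNi : N.index ≤ 2 := index_le_two N w fun f => by
    obtain ⟨b, a, s, ha, hs, h⟩ := hform f
    cases b
    · exact Or.inl ⟨a, s, ha, hs, h⟩
    · refine Or.inr ⟨a, s, ha, hs, ?_⟩
      rw [hwinv, Subgroup.coe_mul]
      simpa using Is.mul one_ne_zero ha (Or.inl rfl) hs hw h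
  -- it is enough to treat automorphisms of odd order
  suffices H : ∀ (α : MulAut T) (r : ℕ), Odd r → α ^ r = 1 → α = 1 by
    have hc : Nat.card (MulAut T) ≠ 0 := Nat.card_pos.ne'
    obtain ⟨k, hk⟩ : ∃ k, Nat.card (MulAut T) = 2 ^ k :=
      ⟨_, Nat.eq_prime_pow_of_unique_prime_dvd hc fun {d} hd hdvd => by
        by_contra hd2
        haveI : Fact d.Prime := ⟨hd⟩
        obtain ⟨α, hα⟩ := exists_prime_orderOf_dvd_card' d hdvd
        have := H α d (hd.odd_of_ne_two hd2) (hα ▸ pow_orderOf_eq_one α)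
        rw [this, orderOf_one] at hα
        exact hd.one_lt.ne hα⟩
    exact IsPGroup.of_card hk
  intro α r hr hα
  have hm2 : m ≠ 2 := fun h => hq5 (by rw [hq, h]; norm_num)
  rcases (show m = 0 ∨ m = 1 ∨ 3 ≤ m by omega) with rfl | rfl | hm
  · -- two points
    have hall : ∀ a : ZMod q, a ≠ 0 → a = 1 := fun a ha => by simpa using hferm a ha
    refine eq_one_of_fix hTp N hNi α hr hα fun n ⟨a, s, ha, hs, h⟩ => ?_
    have hn : n = 1 := hext _ _ h (by
      rw [hall a ha, hall s (by rcases hs with rfl | rfl <;> simp)]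
      exact Is.one)
    rw [hn, map_one]
  · -- nine points
    have hall : ∀ a : ZMod q, a ≠ 0 → a = 1 ∨ a = -1 := fun a ha =>
      mul_self_eq_one_iff.1 (by simpa [pow_two] using hferm a ha)
    have hs0 : ∀ {s : ZMod q}, s = 1 ∨ s = -1 → s ≠ 0 := fun h => by rcases h with rfl | rfl <;> simp
    haveI : Fact (2 < q) := ⟨by rw [hq]; norm_num⟩
    have h11 : (-1 : ZMod q) ≠ 1 := ZMod.neg_one_ne_one
    obtain ⟨c, hc⟩ := hmk true 1 (-1) one_ne_zero (Or.inr rfl)
    obtain ⟨c', hc'⟩ := hmk true (-1) (-1) hne1 (Or.inr rfl)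
    obtain ⟨y, hy⟩ := hmk false 1 (-1) one_ne_zero (Or.inr rfl)
    have hsq : ∀ v : T, v * v ≠ 1 → v = c ∨ v = c' := by
      intro v hv
      obtain ⟨b, a, s, ha, hs, h⟩ := hform v
      cases b
      · refine absurd (hext _ 1 ?_ Is.one) hv
        have := Is.mul ha ha hs hs h h
        rcases hall a ha with rfl | rfl <;> rcases hs with rfl | rfl <;> simpa using this
      · rcases hs with rfl | rfl
        · exact absurd (hext _ 1 (Is.sq_swap ha (Or.inl rfl) h) Is.one) hv
        · rcases hall a ha with rfl | rfl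
          · exact Or.inl (hext _ _ h hc)
          · exact Or.inr (hext _ _ h hc')
    have hcc : c * c ≠ 1 := fun h =>
      h11 (hone _ hne1 (Or.inl rfl) (Is.sq_swap one_ne_zero (Or.inr rfl) hc) h).2.1
    have hfix := fixed_of_two_values α hr hα (fun v => v * v ≠ 1)
      (fun v hv h => hv (α.injective (by rwa [map_mul, map_one]))) c c' hcc hsq
    have hmem : ∀ v : T, (∃ a, a ≠ 0 ∧ Is (v : _ ≃ₗ[ZMod q] _) false a 1) ∨
        (∃ a, a ≠ 0 ∧ Is (v : _ ≃ₗ[ZMod q] _) true a (-1)) → v ∈ Subgroup.zpowers c := by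
      rintro v (⟨a, ha, h⟩ | ⟨a, ha, h⟩)
      · rcases hall a ha with rfl | rfl
        · rw [hext v 1 h Is.one]; exact one_mem _
        · rw [hext v (c * c) h (Is.sq_swap one_ne_zero (Or.inr rfl) hc)]
          exact mul_mem (Subgroup.mem_zpowers c) (Subgroup.mem_zpowers c)
      · rcases hall a ha with rfl | rfl
        · rw [hext v c h hc]; exact Subgroup.mem_zpowers c
        · rw [hext v (c * c * c) h (by
            simpa using Is.mul hne1 one_ne_zero (Or.inl rfl) (Or.inr rfl)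
              (Is.sq_swap one_ne_zero (Or.inr rfl) hc) hc)]
          exact mul_mem (mul_mem (Subgroup.mem_zpowers c) (Subgroup.mem_zpowers c)) (Subgroup.mem_zpowers c)
    refine eq_one_of_fix hTp (Subgroup.zpowers c) (index_le_two _ y fun f => ?_) α hr hα ?_
    · have hyinv : y⁻¹ = y := inv_eq_of_mul_eq_one_right (hext _ 1 (by
        simpa using Is.mul one_ne_zero one_ne_zero (Or.inr rfl) (Or.inr rfl) hy hy) Is.one)
      obtain ⟨b, a, s, ha, hs, h⟩ := hform f
      cases b <;> rcases hs with rfl | rfl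
      · exact Or.inl (hmem f (Or.inl ⟨a, ha, h⟩))
      · refine Or.inr (hmem _ (Or.inl ⟨a, ha, ?_⟩))
        rw [hyinv, Subgroup.coe_mul]
        simpa using Is.mul one_ne_zero ha (Or.inr rfl) (Or.inr rfl) hy h
      · refine Or.inr (hmem _ (Or.inr ⟨-a, neg_ne_zero.2 ha, ?_⟩))
        rw [hyinv, Subgroup.coe_mul]
        simpa using Is.mul one_ne_zero ha (Or.inr rfl) (Or.inl rfl) hy h
      · exact Or.inl (hmem f (Or.inr ⟨a, ha, h⟩))
    · intro n hn
      obtain ⟨k, rfl⟩ := Subgroup.mem_zpowers_iff.1 hn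
      rw [map_zpow, hfix]
  · -- at least seventeen points
    obtain ⟨gu, hgu⟩ := IsCyclic.exists_ofOrder_eq_natCard (α := (ZMod q)ˣ)
    set g : ZMod q := (gu : ZMod q) with hgdef
    have hg : orderOf g = 2 ^ m := by
      rw [hgdef, orderOf_units, hgu, Nat.card_eq_fintype_card, ZMod.card_units, hq]
      exact Nat.add_sub_cancel _ _
    have hg0 : g ≠ 0 := gu.ne_zero
    have h8 : 8 ≤ 2 ^ m := le_trans (by norm_num) (Nat.pow_le_pow_right (n := 2) (by norm_num) hm)
    have hg4 : g ^ 4 ≠ 1 := fun h => by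
      have := Nat.le_of_dvd (by norm_num) (orderOf_dvd_of_pow_eq_one h)
      omega
    obtain ⟨x, hx⟩ := hmk false g 1 hg0 (Or.inl rfl)
    obtain ⟨y, hy⟩ := hmk false 1 (-1) one_ne_zero (Or.inr rfl)
    obtain ⟨z, hz⟩ := hmk false (-1) 1 hne1 (Or.inl rfl)
    have hout : ∀ u : T, u ^ 4 ≠ 1 → α u ∈ N := by
      intro u hu
      obtain ⟨b, a, s, ha, hs, h⟩ := hform (α u)
      cases b
      · exact ⟨a, s, ha, hs, h⟩
      · exact absurd (α.injective (by rw [map_pow, hswap4 _ ha hs h, map_one])) hu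
    have hx4 : x ^ 4 ≠ 1 := fun h => hg4 (hone (x ^ 4) (pow_ne_zero 4 hg0) (Or.inl (one_pow 4))
      (by simpa using Is.pow hg0 (Or.inl rfl) hx 4) h).2.1
    have hxy : Is ((x * y : T) : _ ≃ₗ[ZMod q] _) false g (-1) := by
      simpa using Is.mul hg0 one_ne_zero (Or.inl rfl) (Or.inr rfl) hx hy
    have hxy4 : (x * y) ^ 4 ≠ 1 := fun h => hg4 (hone ((x * y) ^ 4) (pow_ne_zero 4 hg0)
      (sign_pow (Or.inr rfl) 4) (by simpa using Is.pow hg0 (Or.inr rfl) hxy 4) h).2.1
    obtain ⟨b, t, hb, ht, hαx⟩ := hout x hx4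
    have hαy : α y ∈ N := by
      have h := N.mul_mem (N.inv_mem (⟨b, t, hb, ht, hαx⟩ : α x ∈ N)) (hout _ hxy4)
      rwa [map_mul, inv_mul_cancel_left] at h
    have hlog : ∀ a : ZMod q, a ≠ 0 → ∃ i : ℕ, g ^ i = a := fun a ha => by
      haveI : NeZero (orderOf g) := ⟨by rw [hg]; positivity⟩
      obtain ⟨i, -, hi⟩ := ((IsPrimitiveRoot.orderOf g).eq_pow_of_pow_eq_one (ξ := a)
        (by rw [hg]; exact hferm a ha))
      exact ⟨i, hi⟩
    have hgenN : ∀ (f : T) {a s}, a ≠ 0 → (s = 1 ∨ s = -1) → Is (f : _ ≃ₗ[ZMod q] _) false a s →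
        ∃ i, g ^ i = a ∧ (f = x ^ i ∨ f = x ^ i * y) := by
      intro f a s ha hs h
      obtain ⟨i, rfl⟩ := hlog a ha
      refine ⟨i, rfl, ?_⟩
      rcases hs with rfl | rfl
      · exact Or.inl (hext _ _ h (by simpa using Is.pow hg0 (Or.inl rfl) hx i))
      · refine Or.inr (hext _ _ h ?_)
        simpa using Is.mul (pow_ne_zero i hg0) one_ne_zero (sign_pow (Or.inl rfl) i) (Or.inr rfl)
          (Is.pow hg0 (Or.inl rfl) hx i) hy
    have hαN : ∀ f : T, f ∈ N → α f ∈ N := by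
      rintro f ⟨a, s, ha, hs, h⟩
      obtain ⟨i, -, rfl | rfl⟩ := hgenN f ha hs h
      · rw [map_pow]; exact N.pow_mem ⟨b, t, hb, ht, hαx⟩ i
      · rw [map_mul, map_pow]; exact N.mul_mem (N.pow_mem ⟨b, t, hb, ht, hαx⟩ i) hαy
    -- the half power
    have heven : Even (2 ^ (m - 1)) := Nat.even_pow.2 ⟨even_two, by omega⟩
    have hhalf : 2 ^ (m - 1) * 2 = 2 ^ m := by rw [← pow_succ]; congr 1; omega
    have hgn : g ^ 2 ^ (m - 1) = -1 := by
      have h2 : g ^ 2 ^ (m - 1) * g ^ 2 ^ (m - 1) = 1 := by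
        rw [← pow_add, ← mul_two, hhalf, ← hg]; exact pow_orderOf_eq_one g
      refine (mul_self_eq_one_iff.1 h2).resolve_left fun h => ?_
      have h3 := Nat.le_of_dvd (Nat.two_pow_pos _) (orderOf_dvd_of_pow_eq_one h)
      rw [hg, ← hhalf] at h3
      have := Nat.two_pow_pos (m - 1)
      omega
    have hzx : z = x ^ 2 ^ (m - 1) := hext _ _ hz (by
      simpa [hgn] using Is.pow hg0 (Or.inl rfl) hx (2 ^ (m - 1)))
    have hz1 : z ≠ 1 := fun h => by
      have h2 := (hone z hne1 (Or.inl rfl) hz h).2.1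
      have h3 := orderOf_dvd_of_pow_eq_one (show g ^ 2 ^ (m - 1) = 1 by rw [hgn, h2])
      have h4 := Nat.le_of_dvd (Nat.two_pow_pos _) h3
      rw [hg, ← hhalf] at h4
      have := Nat.two_pow_pos (m - 1)
      omega
    have hαz : α z = z := by
      have hpow := Is.pow hb ht hαx (2 ^ (m - 1))
      have ht1 : t ^ 2 ^ (m - 1) = 1 := by
        rcases ht with rfl | rfl
        · exact one_pow _
        · exact heven.neg_one_pow
      rw [ht1] at hpow
      have h2 : b ^ 2 ^ (m - 1) * b ^ 2 ^ (m - 1) = 1 := by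
        rw [← pow_add, ← mul_two, hhalf]; exact hferm b hb
      rcases mul_self_eq_one_iff.1 h2 with h | h <;> rw [h] at hpow
      · refine absurd (α.injective ?_) hz1
        rw [map_one, hzx, map_pow]
        exact hext _ 1 (by rwa [SubmonoidClass.coe_pow]) Is.one
      · conv_lhs => rw [hzx, map_pow]
        exact hext _ _ (by rwa [SubmonoidClass.coe_pow]) hz
    have hy1 : y ≠ 1 := fun h => by
      have h2 := (hone y one_ne_zero (Or.inr rfl) hy h).2.2
      rw [← hgn] at h2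
      have h4 := Nat.le_of_dvd (Nat.two_pow_pos _) (orderOf_dvd_of_pow_eq_one h2)
      rw [hg, ← hhalf] at h4
      have := Nat.two_pow_pos (m - 1)
      omega
    have hyy : y * y = 1 := hext _ 1 (by
      simpa using Is.mul one_ne_zero one_ne_zero (Or.inr rfl) (Or.inr rfl) hy hy) Is.one
    have hyz : y ≠ z := fun h => by
      have h2 := (Is.inj (f := (y : _ ≃ₗ[ZMod q] _)) one_ne_zero hne1 hne1 hy (h ▸ hz)).2.1
      have h4 := Nat.le_of_dvd (Nat.two_pow_pos _) (orderOf_dvd_of_pow_eq_one (hgn.trans h2.symm))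
      rw [hg, ← hhalf] at h4
      have := Nat.two_pow_pos (m - 1)
      omega
    have hfy : α y = y := by
      refine fixed_of_two_values α hr hα (fun u => u ∈ N ∧ u * u = 1 ∧ u ≠ 1 ∧ u ≠ z) ?_ y (z * y)
        ⟨⟨1, -1, one_ne_zero, Or.inr rfl, hy⟩, hyy, hy1, hyz⟩ ?_
      · rintro u ⟨hu, h2, h1, h3⟩
        exact ⟨hαN u hu, by rw [← map_mul, h2, map_one], fun h => h1 (α.injective (by rw [h, map_one])),
          fun h => h3 (α.injective (h.trans hαz.symm))⟩
      · rintro u ⟨⟨a, s, ha, hs, h⟩, h2, h1, h3⟩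
        have ha2 := (hone (u * u) (mul_ne_zero ha ha)
          (by rcases hs with rfl | rfl <;> simp : s * s = 1 ∨ s * s = -1)
          (by simpa using Is.mul ha ha hs hs h h) h2).2.1
        rcases mul_self_eq_one_iff.1 ha2 with rfl | rfl <;> rcases hs with rfl | rfl
        · exact absurd (hext u 1 h Is.one) h1
        · exact Or.inl (hext _ _ h hy)
        · exact absurd (hext _ _ h hz) h3
        · exact Or.inr (hext _ _ h (by simpa using Is.mul hne1 one_ne_zero (Or.inl rfl) (Or.inr rfl) hz hy))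
    obtain ⟨i, rfl⟩ := hlog b hb
    have hstep : ∀ (f : T) {a s}, a ≠ 0 → (s = 1 ∨ s = -1) → Is (f : _ ≃ₗ[ZMod q] _) false a s →
        ∃ s', (s' = 1 ∨ s' = -1) ∧ Is ((α f : T) : _ ≃ₗ[ZMod q] _) false (a ^ i) s' := by
      intro f a s ha hs h
      obtain ⟨j, rfl, rfl | rfl⟩ := hgenN f ha hs h
      · refine ⟨t ^ j, sign_pow ht j, ?_⟩
        rw [map_pow, ← pow_mul, mul_comm, pow_mul]
        exact Is.pow hb ht hαx j
      · refine ⟨t ^ j * -1, by rcases sign_pow ht j with e | e <;> simp [e], ?_⟩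
        rw [map_mul, map_pow, hfy, ← pow_mul, mul_comm j, pow_mul, Subgroup.coe_mul]
        simpa using Is.mul (pow_ne_zero j hb) one_ne_zero (sign_pow ht j) (Or.inr rfl)
          (Is.pow hb ht hαx j) hy
    have hiter : ∀ k : ℕ, ∃ s, (s = 1 ∨ s = -1) ∧
        Is (((α ^ k) x : T) : _ ≃ₗ[ZMod q] _) false (g ^ i ^ k) s := by
      intro k
      induction k with
      | zero => exact ⟨1, Or.inl rfl, by simpa using hx⟩
      | succ k ih =>
        obtain ⟨s, hs, h⟩ := ih
        obtain ⟨s', hs', h'⟩ := hstep _ (pow_ne_zero _ hg0) hs h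
        refine ⟨s', hs', ?_⟩
        rw [pow_succ' α, MulAut.mul_apply, pow_succ, pow_mul]
        exact h'
    have hgi : g ^ i = g := by
      obtain ⟨s, hs, h⟩ := hiter r
      rw [hα, MulAut.one_apply] at h
      have h1 := (Is.inj hg0 (pow_ne_zero _ hg0) one_ne_zero hx h).2.1
      have hmod : i ^ r ≡ 1 [MOD 2 ^ m] := by
        rw [← hg]
        have h2 : gu ^ i ^ r = gu ^ 1 := Units.ext (by
          rw [Units.val_pow_eq_pow_val, pow_one]; exact h1.symm)
        rw [hgdef, orderOf_units]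
        exact pow_eq_pow_iff_modEq.1 h2
      haveI : NeZero (2 ^ m) := ⟨by positivity⟩
      have h3 : (i : ZMod (2 ^ m)) ^ r = 1 := by
        have := (ZMod.natCast_eq_natCast_iff _ _ _).2 hmod
        rwa [Nat.cast_pow, Nat.cast_one] at this
      have h4 : orderOf (Units.ofPowEqOne _ r h3 hr.pos.ne') = 1 := by
        refine Nat.dvd_one.1 ?_
        rw [← (show Nat.Coprime r (2 ^ (m - 1)) from (Nat.coprime_two_right.2 hr).pow_right _)]
        refine Nat.dvd_gcd (orderOf_dvd_of_pow_eq_one (Units.ext (by simpa using h3))) ?_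
        have hc : Fintype.card (ZMod (2 ^ m))ˣ = 2 ^ (m - 1) := by
          rw [ZMod.card_units_eq_totient, Nat.totient_prime_pow Nat.prime_two (by omega)]
          norm_num
        rw [← hc]
        exact orderOf_dvd_card
      have h5 : (i : ZMod (2 ^ m)) = (1 : ℕ) := by
        rw [Nat.cast_one]
        simpa using congrArg Units.val (orderOf_eq_one_iff.1 h4)
      have h6 := (ZMod.natCast_eq_natCast_iff _ _ _).1 h5
      rw [← hg, hgdef, orderOf_units] at h6
      have h7 := congrArg Units.val (pow_eq_pow_iff_modEq.2 h6)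
      rwa [Units.val_pow_eq_pow_val, pow_one] at h7
    have hfx : α x = x := by
      rw [hgi] at hαx
      refine fixed_of_two_values α hr hα (fun u => u = x ∨ u = x * y) ?_ x (x * y) (Or.inl rfl) fun v hv => hv
      rintro u (rfl | rfl) <;> rcases ht with rfl | rfl
      · exact Or.inl (hext _ _ hαx hx)
      · exact Or.inr (hext _ _ hαx hxy)
      · exact Or.inr (by rw [map_mul, hfy, hext _ _ hαx hx])
      · exact Or.inl (by rw [map_mul, hfy, hext _ _ hαx hxy, mul_assoc, hyy, mul_one])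
    refine eq_one_of_fix hTp N hNi α hr hα fun n ⟨a, s, ha, hs, h⟩ => ?_
    obtain ⟨j, -, rfl | rfl⟩ := hgenN n ha hs h
    · rw [map_pow, hfx]
    · rw [map_mul, map_pow, hfx, hfy]

end Cfsg.Agent.S3382
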