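import Cfsg.Statements.S3383
import Cfsg.Agent.Lib.Frobenius.Theorem
import Mathlib.Tactic

set_option autoImplicit false
open Cfsg

namespace Cfsg.Agent.S3383

/-- Let H be a Frobenius complement in a finite group L and K the Frobenius kernel (as a subgroup). Then K is characteristic in L, and every normal subgroup of L either contains K or is contained in K. -/
theorem result {L : Type*} [Group L] [Finite L]
    (H : Subgroup L) (hH : Cfsg.IsFrobeniusComplement H)
    (K : Subgroup L) (hK : (K : Set L) = Cfsg.frobeniusKernel H) :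
    K.Characteristic ∧ ∀ N : Subgroup L, N.Normal → K ≤ N ∨ N ≤ K := by
  obtain ⟨N0, hN0, hN0n, hc⟩ := CfsgLib.Frobenius.exists_kernel_subgroup hH
  obtain rfl : N0 = K := SetLike.coe_injective (hN0.trans hK.symm)
  refine ⟨Subgroup.characteristic_iff_comap_eq.mpr fun φ => ?_, fun N hN => ?_⟩
  · have hle : ∀ ψ : L ≃* L, ∀ x ∈ N0, ψ x ∈ N0 := fun ψ x hx => by
      rw [← SetLike.mem_coe, hK]
      refine Classical.byContradiction fun h => ?_
      simp only [Cfsg.frobeniusKernel, Set.mem_setOf_eq, not_or, not_forall, not_not] at h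
      obtain ⟨h1, g, hg⟩ := h
      apply h1
      rw [← orderOf_eq_one_iff]
      refine Nat.eq_one_of_dvd_coprimes (CfsgLib.Frobenius.coprime_card_index hH) ?_ ?_
      · rw [← CfsgLib.Frobenius.card_conjSMul g H]
        exact Subgroup.orderOf_dvd_natCard _ hg
      · rw [hc.index_eq_card, show orderOf (ψ x) = orderOf x from orderOf_injective ψ.toMonoidHom ψ.injective x]
        exact Subgroup.orderOf_dvd_natCard _ hx
    ext x
    refine ⟨fun h => ?_, fun h => hle φ x h⟩
    have h2 := hle φ.symm _ h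
    simpa using h2
  · by_contra hne
    push Not at hne
    obtain ⟨hKN, hNK⟩ := hne
    obtain ⟨x, hxN, hxK⟩ := SetLike.not_le_iff_exists.mp hNK
    have hx : x ∉ (N0 : Set L) := hxK
    rw [hK] at hx
    simp only [Cfsg.frobeniusKernel, Set.mem_setOf_eq, not_or, not_forall, not_not] at hx
    obtain ⟨hx1, g, hg⟩ := hx
    set h := g⁻¹ * x * g with hh
    have hhH : h ∈ H := CfsgLib.Frobenius.mem_conjSMul_iff.mp hg
    have hhN : h ∈ N := by simpa [hh] using hN.conj_mem x hxN g⁻¹
    have hh1 : h ≠ 1 := fun e => hx1 (by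
      have : x = g * h * g⁻¹ := by rw [hh]; group
      rw [this, e, mul_one, mul_inv_cancel])
    let f : N0 → N0 := fun k => ⟨(k : L)⁻¹ * (h * k * h⁻¹),
      N0.mul_mem (N0.inv_mem k.2) (hN0n.conj_mem k k.2 h)⟩
    have hinj : Function.Injective f := by
      intro k l e
      have e1 : (k : L)⁻¹ * (h * k * h⁻¹) = (l : L)⁻¹ * (h * l * h⁻¹) := congrArg Subtype.val e
      have hcomm : Commute ((l : L) * (k : L)⁻¹) h := by
        calc (l : L) * (k : L)⁻¹ * h = l * ((k : L)⁻¹ * (h * k * h⁻¹)) * h * (k : L)⁻¹ := by group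
          _ = l * ((l : L)⁻¹ * (h * l * h⁻¹)) * h * (k : L)⁻¹ := by rw [e1]
          _ = h * ((l : L) * (k : L)⁻¹) := by group
      have := CfsgLib.Frobenius.commute_of_fpf (fun a ha ha1 =>
        CfsgLib.Frobenius.fpf_of_isFrobeniusComplement hc hH ha ha1) hhH hh1
        (N0.mul_mem l.2 (N0.inv_mem k.2)) hcomm
      exact Subtype.ext (mul_inv_eq_one.mp this).symm
    apply hKN
    intro z hz
    obtain ⟨k, hk⟩ := Finite.injective_iff_surjective.mp hinj ⟨z, hz⟩
    have e1 : (k : L)⁻¹ * (h * k * h⁻¹) = z := congrArg Subtype.val hk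
    rw [← e1, ← mul_assoc, ← mul_assoc]
    refine N.mul_mem ?_ (N.inv_mem hhN)
    simpa using hN.conj_mem h hhN (k : L)⁻¹

end Cfsg.Agent.S3383
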