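import Cfsg.Statements.S3389
import Mathlib.Tactic
import Mathlib.GroupTheory.Sylow
import Mathlib.GroupTheory.GroupAction.Quotient
import Mathlib.GroupTheory.PGroup

set_option autoImplicit false
open Cfsg

namespace Cfsg.Agent.S3389

theorem center_dvd_fixed {G : Type*} [Group G] [Finite G] {Ω : Type*} [Fintype Ω] [MulAction G Ω]
    [FaithfulSMul G Ω] (htr : MulAction.IsPretransitive G Ω) (g : G) :
    Nat.card (Subgroup.center G) ∣ Nat.card (MulAction.fixedBy Ω g) := by
  classical
  let X : SubMulAction (Subgroup.center G) Ω :=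
    { carrier := MulAction.fixedBy Ω g
      smul_mem' := fun z {x} hx => by
        rw [MulAction.mem_fixedBy] at hx ⊢
        change g • (z : G) • x = (z : G) • x
        rw [smul_smul, Subgroup.mem_center_iff.mp z.2 g, mul_smul, hx] }
  have hfree : ∀ b : X, MulAction.stabilizer (Subgroup.center G) b = ⊥ := by
    intro b
    rw [Subgroup.eq_bot_iff_forall]
    intro z hz
    have hz' : (z : G) • (b : Ω) = b := congrArg Subtype.val hz
    apply Subtype.ext
    apply eq_of_smul_eq_smul (α := Ω)
    intro ω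
    obtain ⟨h, hh⟩ := htr.exists_smul_eq (b : Ω) ω
    rw [OneMemClass.coe_one, one_smul, ← hh, smul_smul, ← Subgroup.mem_center_iff.mp z.2 h,
      mul_smul, hz']
  have h := Nat.card_congr (MulAction.selfEquivOrbitsQuotientProd hfree)
  rw [Nat.card_prod] at h
  exact ⟨_, (h.trans (mul_comm _ _))⟩

theorem two_dvd_card {G : Type*} [Group G] [Finite G] {Ω : Type*} [Fintype Ω] [MulAction G Ω]
    (htr : MulAction.IsPretransitive G Ω) (hfix : ∀ g : G, g ≠ 1 → Nat.card (MulAction.fixedBy Ω g) ≤ 2)
    (hex : ∃ g : G, g ≠ 1 ∧ Nat.card (MulAction.fixedBy Ω g) = 2) : 2 ∣ Nat.card G := by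
  classical
  by_contra hodd
  obtain ⟨g, hg1, hg2⟩ := hex
  obtain ⟨⟨a, ha⟩, ⟨b, hb⟩, hab'⟩ := Finite.one_lt_card_iff_nontrivial.mp
    (show 1 < Nat.card (MulAction.fixedBy Ω g) by omega)
  have hab : a ≠ b := fun h => hab' (Subtype.ext h)
  set H := MulAction.stabilizer G a ⊓ MulAction.stabilizer G b with hH
  have hHne : Nat.card H ≠ 1 := by
    intro h
    have := Subgroup.card_eq_one.mp h
    exact hg1 (this.le (show g ∈ H from ⟨ha, hb⟩))
  obtain ⟨p, hp, hpH⟩ := Nat.exists_prime_and_dvd hHne
  have : Fact p.Prime := ⟨hp⟩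
  let P0 : Sylow p H := default
  set P : Subgroup G := (P0 : Subgroup H).map H.subtype with hP
  have hPH : P ≤ H := Subgroup.map_subtype_le _
  obtain ⟨x, hxP, hx1⟩ : ∃ x ∈ P, x ≠ 1 := by
    have : P ≠ ⊥ := by
      rw [hP, Ne, Subgroup.map_eq_bot_iff_of_injective _ H.subtype_injective]
      exact P0.ne_bot_of_dvd_card hpH
    obtain ⟨⟨x, hx⟩, hne⟩ := Subgroup.ne_bot_iff_exists_ne_one.mp this
    exact ⟨x, hx, fun h => hne (Subtype.ext h)⟩
  -- the common fixed points of P are a and b
  have honly : ∀ c, (∀ y ∈ P, y • c = c) → c = a ∨ c = b := by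
    intro c hc
    by_contra hne
    push Not at hne
    have h3 : ({a, b, c} : Finset Ω).card = 3 :=
      Finset.card_eq_three.mpr ⟨a, b, c, hab, hne.1.symm, hne.2.symm, rfl⟩
    have h4 : ({a, b, c} : Finset Ω).card ≤ Nat.card (MulAction.fixedBy Ω x) := by
      rw [← Fintype.card_coe, ← Nat.card_eq_fintype_card]
      refine Nat.card_le_card_of_injective (fun w => ⟨w.1, ?_⟩) (fun u v h => Subtype.ext (congrArg (fun z : MulAction.fixedBy Ω x => (z : Ω)) h))
      have hw := w.2
      simp only [Finset.mem_insert, Finset.mem_singleton] at hw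
      rcases hw with h | h | h <;> rw [h]
      · exact (hPH hxP).1
      · exact (hPH hxP).2
      · exact hc x hxP
    have := hfix x hx1
    omega
  have hN : Subgroup.normalizer (P : Set G) ≤ H := by
    intro h hh
    have hperm : ∀ c : Ω, (∀ y ∈ P, y • c = c) → ∀ y ∈ P, y • h • c = h • c := by
      intro c hc y hy
      have h1 : h⁻¹ * y * h ∈ P := by
        have := (Subgroup.mem_normalizer_iff.mp ((Subgroup.normalizer (P : Set G)).inv_mem hh) y).mp hy
        simpa using this
      have := hc _ h1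
      rw [mul_smul, mul_smul, inv_smul_eq_iff] at this
      exact this
    have hA : ∀ y ∈ P, y • a = a := fun y hy => (hPH hy).1
    have hB : ∀ y ∈ P, y • b = b := fun y hy => (hPH hy).2
    have hsq : h ^ 2 ∈ H := by
      refine ⟨show (h ^ 2) • a = a from ?_, show (h ^ 2) • b = b from ?_⟩ <;> rw [pow_two, mul_smul]
      · rcases honly _ (hperm a hA) with h1 | h1
        · rw [h1, h1]
        · rcases honly _ (hperm b hB) with h2 | h2
          · rw [h1, h2]
          · exact absurd (MulAction.injective h (h1.trans h2.symm)) hab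
      · rcases honly _ (hperm b hB) with h1 | h1
        · rcases honly _ (hperm a hA) with h2 | h2
          · exact absurd (MulAction.injective h (h2.trans h1.symm)) hab
          · rw [h1, h2]
        · rw [h1, h1]
    obtain ⟨k, hk⟩ : Odd (orderOf h) := by
      rw [← Nat.not_even_iff_odd, even_iff_two_dvd]
      exact fun h2 => hodd (h2.trans (orderOf_dvd_natCard h))
    have : h = (h ^ 2) ^ (k + 1) := by
      rw [← pow_mul, show 2 * (k + 1) = orderOf h + 1 by omega, pow_succ, pow_orderOf_eq_one, one_mul]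
    rw [this]
    exact H.pow_mem hsq _
  have hPc : Nat.card P = Nat.card (P0 : Subgroup H) :=
    (Nat.card_congr ((P0 : Subgroup H).equivMapOfInjective _ H.subtype_injective).toEquiv).symm
  obtain ⟨n, hn⟩ := IsPGroup.iff_card.mp P0.isPGroup'
  have hmax : ¬ p ^ (n + 1) ∣ Nat.card G := by
    intro hd
    have h1 : p ∣ (P.subgroupOf (Subgroup.normalizer (P : Set G))).index :=
      Sylow.prime_dvd_card_quotient_normalizer hd (H := P) (by rw [hPc, hn])
    have h2 : P.relIndex (Subgroup.normalizer (P : Set G)) ∣ P.relIndex H :=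
      ⟨_, (Subgroup.relIndex_mul_relIndex _ _ _ Subgroup.le_normalizer hN).symm⟩
    have h3 : P.relIndex H = (P0 : Subgroup H).index := by
      rw [Subgroup.relIndex, hP]
      congr 1
      exact Subgroup.comap_map_eq_self_of_injective H.subtype_injective _
    exact P0.not_dvd_index (h3 ▸ h1.trans h2)
  have hSyl : Nat.card P = p ^ (Nat.card G).factorization p := by
    rw [hPc, hn]
    congr 1
    apply le_antisymm
    · apply (hp.pow_dvd_iff_le_factorization Nat.card_pos.ne').mp
      rw [← hn, ← hPc]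
      exact P.card_subgroup_dvd_card
    · by_contra h
      exact hmax ((hp.pow_dvd_iff_le_factorization Nat.card_pos.ne').mpr (by omega))
  obtain ⟨t, ht⟩ := htr.exists_smul_eq a b
  -- both P and its conjugate are Sylow subgroups of the stabilizer of b
  set B := MulAction.stabilizer G b with hB
  have hPB : P ≤ B := hPH.trans inf_le_right
  have hPB' : P.map (MulAut.conj t).toMonoidHom ≤ B := by
    rintro _ ⟨y, hy, rfl⟩
    change (MulAut.conj t y) • b = b
    rw [MulAut.conj_apply, mul_smul, mul_smul, inv_smul_eq_iff.mpr ht.symm, (hPH hy).1, ht]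
  have hvB : (Nat.card B).factorization p = n := by
    apply le_antisymm
    · by_contra h
      exact hmax (dvd_trans ((hp.pow_dvd_iff_le_factorization Nat.card_pos.ne').mpr (by omega))
        B.card_subgroup_dvd_card)
    · apply (hp.pow_dvd_iff_le_factorization Nat.card_pos.ne').mp
      rw [← hn, ← hPc]
      exact Subgroup.card_dvd_of_le hPB
  let Q1 : Sylow p B := Sylow.ofCard ((P.map (MulAut.conj t).toMonoidHom).subgroupOf B)
    (by rw [Nat.card_congr (Subgroup.subgroupOfEquivOfLe hPB').toEquiv, hvB, ← hn, ← hPc]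
        exact (Nat.card_congr (P.equivMapOfInjective _ (MulAut.conj t).injective).toEquiv).symm)
  let Q2 : Sylow p B := Sylow.ofCard (P.subgroupOf B)
    (by rw [Nat.card_congr (Subgroup.subgroupOfEquivOfLe hPB).toEquiv, hvB, hPc, hn])
  obtain ⟨s, hs⟩ := MulAction.exists_smul_eq B Q1 Q2
  have hs' : (Q1 : Subgroup B).map (MulAut.conj s).toMonoidHom = (Q2 : Subgroup B) :=
    congrArg (fun Q : Sylow p B => (Q : Subgroup B)) hs
  have hmem : (s : G) * t ∈ Subgroup.normalizer (P : Set G) := by
    apply Subgroup.mem_normalizer_fintype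
    intro y hy
    have hy' : MulAut.conj t y ∈ B := hPB' ⟨y, hy, rfl⟩
    have h1 : MulAut.conj s (⟨_, hy'⟩ : B) ∈ (Q2 : Subgroup B) := by
      rw [← hs']
      exact ⟨_, ⟨y, hy, rfl⟩, rfl⟩
    have h2 : (s : G) * (t * y * t⁻¹) * (s : G)⁻¹ ∈ P := h1
    simpa [mul_assoc] using h2
  have h1 := (hN hmem).1
  replace h1 : ((s : G) * t) • a = a := h1
  rw [mul_smul, ht] at h1
  exact hab ((s.2 : (s : G) • b = b) ▸ h1).symm

/-- Let G be a finite group acting faithfully and transitively on a finite set Ω with fixity k ≥ 1: every non-identity element fixes at most k points and some non-identity element fixes exactly k points. Then |Z(G)| divides k; if k = 2 then |G| is even; and for every prime p > k dividing |G| and every point α, either p does not divide |G_α| or G_α contains a Sylow p-subgroup of G. -/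
theorem result {G : Type*} [Group G] [Finite G] {Ω : Type*} [Fintype Ω] [MulAction G Ω] [FaithfulSMul G Ω]
    (htr : MulAction.IsPretransitive G Ω) (k : ℕ) (hk : 1 ≤ k)
    (hfix : ∀ g : G, g ≠ 1 → Nat.card (MulAction.fixedBy Ω g) ≤ k) (hex : ∃ g : G, g ≠ 1 ∧ Nat.card (MulAction.fixedBy Ω g) = k) :
    Nat.card (Subgroup.center G) ∣ k ∧ (k = 2 → 2 ∣ Nat.card G) ∧
      ∀ (p : ℕ), p.Prime → k < p → p ∣ Nat.card G → ∀ α : Ω,
        ¬ p ∣ Nat.card (MulAction.stabilizer G α) ∨ ¬ p ∣ (MulAction.stabilizer G α).index := by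
  classical
  refine ⟨?_, ?_, ?_⟩
  · obtain ⟨g, -, hgk⟩ := hex
    exact hgk ▸ center_dvd_fixed htr g
  · rintro rfl
    exact two_dvd_card htr hfix hex
  · intro p hp hkp hpG α
    have : Fact p.Prime := ⟨hp⟩
    by_contra hcon
    push Not at hcon
    obtain ⟨hpS, hpI⟩ := hcon
    rw [MulAction.index_stabilizer_of_transitive G α, Nat.card_eq_fintype_card] at hpI
    let Q : Sylow p (MulAction.stabilizer G α) := default
    obtain ⟨⟨x, hxQ⟩, hx1⟩ : ∃ x : (Q : Subgroup (MulAction.stabilizer G α)), x ≠ 1 :=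
      (Subgroup.ne_bot_iff_exists_ne_one).mp (Q.ne_bot_of_dvd_card hpS)
    have hmod := (Q.isPGroup').card_modEq_card_fixedPoints Ω
    rw [Nat.card_eq_fintype_card (α := Ω)] at hmod
    have hdvd : p ∣ Nat.card (MulAction.fixedPoints (Q : Subgroup (MulAction.stabilizer G α)) Ω) :=
      (Nat.ModEq.dvd_iff hmod dvd_rfl).mp hpI
    have hα : α ∈ MulAction.fixedPoints (Q : Subgroup (MulAction.stabilizer G α)) Ω := fun q => q.1.2
    have : Nonempty (MulAction.fixedPoints (Q : Subgroup (MulAction.stabilizer G α)) Ω) := ⟨⟨α, hα⟩⟩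
    have h1 : p ≤ Nat.card (MulAction.fixedPoints (Q : Subgroup (MulAction.stabilizer G α)) Ω) :=
      Nat.le_of_dvd Nat.card_pos hdvd
    have hx : (x : G) ≠ 1 := fun h => hx1 (Subtype.ext (Subtype.ext h))
    have h2 : Nat.card (MulAction.fixedPoints (Q : Subgroup (MulAction.stabilizer G α)) Ω) ≤
        Nat.card (MulAction.fixedBy Ω (x : G)) :=
      Nat.card_mono (Set.toFinite _) (fun ω hω => hω ⟨x, hxQ⟩)
    have := hfix _ hx
    omega

end Cfsg.Agent.S3389
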