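import Cfsg.Statements.S3391
import Cfsg.Agent.Lib.Suzuki.Summary
import Cfsg.Agent.Lib.Suzuki.Subgroups
import Cfsg.Agent.Lib.SuzukiMatrix.Action
import Cfsg.Agent.Lib.Frobenius.ComplementSylow

set_option autoImplicit false
open Cfsg
set_option linter.style.haveILetI false

namespace Cfsg.Agent.S3391

open CfsgLib.Suzuki

section Fixity

variable {S X : Type*} [Group S] [Finite S] [MulAction S X] [Finite X]

/-- If every element of `H` maps `β` to a fixed point of `g ≠ 1`, then `|H : H_β| ≤ 2`. -/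
theorem relIndex_le_two (hfix : ∀ g : S, g ≠ 1 → Nat.card (MulAction.fixedBy X g) ≤ 2)
    (H : Subgroup S) {g : S} (hg : g ≠ 1) {β : X} (h : ∀ c ∈ H, g • c • β = c • β) :
    (MulAction.stabilizer S β).relIndex H ≤ 2 := by
  have he : (MulAction.stabilizer S β).subgroupOf H = MulAction.stabilizer H β := by
    ext x
    rfl
  rw [Subgroup.relIndex, he, MulAction.index_stabilizer]
  refine le_trans (Set.ncard_le_ncard ?_ (Set.toFinite _)) (by
    rw [← Nat.card_coe_set_eq]; exact hfix g hg)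
  rintro _ ⟨c, rfl⟩
  exact h c c.2

theorem card_eq_relIndex_mul (M H : Subgroup S) :
    Nat.card H = M.relIndex H * Nat.card (M ⊓ H : Subgroup S) := by
  rw [← Subgroup.inf_relIndex_right, mul_comm, Subgroup.relIndex,
    ← Nat.card_congr (Subgroup.subgroupOfEquivOfLe (inf_le_right : M ⊓ H ≤ H)).toEquiv,
    Subgroup.card_mul_index]

end Fixity

variable {F : Type} [Field F] [Fintype F] {m : ℕ}

theorem odd_pred_pow : Odd (2 ^ (2 * m + 1) - 1) := by
  obtain ⟨a, ha⟩ : Even (2 ^ (2 * m + 1)) := (Nat.even_pow' (by omega)).2 even_two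
  have := Nat.two_pow_pos (2 * m + 1)
  exact ⟨a - 1, by omega⟩

/-- A stabilizer containing a translation of order two is the Borel subgroup. -/
theorem stabilizer_eq_borel (h : SzHyp F m) {X : Type*} [Finite X]
    [MulAction (Cfsg.Sz F m) X] (hfix : ∀ g : Cfsg.Sz F m, g ≠ 1 → Nat.card (MulAction.fixedBy X g) ≤ 2)
    (hne : ∀ β : X, MulAction.stabilizer (Cfsg.Sz F m) β ≠ ⊤) {β : X} {b : F} (hb : b ≠ 0)
    (hz : tS h 0 b • β = β) : MulAction.stabilizer (Cfsg.Sz F m) β = borel F m := by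
  classical
  set M := MulAction.stabilizer (Cfsg.Sz F m) β with hM
  have hz1 : tS h 0 b ≠ 1 := fun e => hb ((tS_eq_one h).1 e).2
  have hcT : ∀ c ∈ tGroup h, ∀ v : F, tS h 0 v * c = c * tS h 0 v := by
    rintro _ ⟨a, d, rfl⟩ v
    rw [tS_mul, tS_mul, sig_zero, zero_mul, mul_zero, add_zero, add_zero, zero_add, add_zero,
      add_comm v d]
  have hTfix : ∀ c ∈ tGroup h, tS h 0 b • c • β = c • β := fun c hc => by
    rw [← mul_smul, hcT c hc b, mul_smul, hz]
  have hrelT : M.relIndex (tGroup h) ≤ 2 := relIndex_le_two hfix _ hz1 hTfix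
  -- the centre of `T` lies in `M`
  have hcen : ∀ v : F, tS h 0 v ∈ M := by
    intro v
    have hinj : Function.Injective (fun c : F => sig m c * c) := by
      intro c d e
      simp only at e
      by_cases hd : d = 0
      · subst hd
        rw [mul_zero] at e
        rcases mul_eq_zero.1 e with e | e
        exacts [sig_eq_zero.1 e, e]
      · have hne' : sig m d ≠ 0 := fun e => hd (sig_eq_zero.1 e)
        have : c / d * sig m (c / d) = 1 := by
          rw [sig_div]
          field_simp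
          linear_combination e
        exact (div_eq_one_iff_eq hd).1 (h.eq_one_of_mul_sig this)
    obtain ⟨c, hc⟩ := (Finite.injective_iff_surjective.1 hinj) v
    simp only at hc
    rw [← hc, ← tS_sq h c 0]
    rcases (show M.relIndex (tGroup h) = 1 ∨ M.relIndex (tGroup h) = 2 by
      have : M.relIndex (tGroup h) ≠ 0 := Subgroup.index_ne_zero_of_finite
      omega) with h1 | h2
    · have := Subgroup.relIndex_eq_one.1 h1 (tS_mem_tGroup h c 0)
      exact mul_mem this this
    · exact Subgroup.sq_mem_of_index_two (H := M.subgroupOf (tGroup h)) h2 ⟨_, tS_mem_tGroup h c 0⟩ |>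
        fun h' => by simpa [Subgroup.mem_subgroupOf, pow_two] using h'
  -- `T ≤ M`
  have hT : tGroup h ≤ M := by
    by_contra hTM
    obtain ⟨c, hc, hcM⟩ := SetLike.not_le_iff_exists.1 hTM
    let O : Set X := {β, c • β}
    have hcβ : c • β ≠ β := hcM
    have hO : ∀ y : X, tS h 0 b • y = y → y = β ∨ y = c • β := by
      intro y hy
      by_contra hy'
      push Not at hy'
      have h3 : ({β, c • β, y} : Finset X).card ≤ 2 := by
        refine le_trans ?_ (hfix _ hz1)
        rw [← Nat.card_eq_finsetCard]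
        refine Nat.card_le_card_of_injective (fun u => ⟨u.1, ?_⟩) fun u w e =>
          Subtype.ext (congrArg Subtype.val e :)
        have hu := u.2
        simp only [Finset.mem_insert, Finset.mem_singleton] at hu
        rcases hu with hu | hu | hu <;> show tS h 0 b • u.1 = u.1 <;> rw [hu]
        exacts [hz, hTfix c hc, hy]
      rw [Finset.card_insert_of_notMem (by simp [hcβ.symm, hy'.1.symm]),
        Finset.card_insert_of_notMem (by simp [hy'.2.symm]), Finset.card_singleton] at h3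
      omega
    have hfixO : ∀ v : F, tS h 0 v • β = β ∧ tS h 0 v • c • β = c • β := fun v =>
      ⟨hcen v, by rw [← mul_smul, hcT c hc v, mul_smul, hcen v]⟩
    have hd : ∀ k : Fˣ, dS h k ∈ M := by
      intro k
      have key : ∀ y, (y = β ∨ y = c • β) → dS h k • y = β ∨ dS h k • y = c • β := by
        intro y hy
        apply hO
        have e : tS h 0 b * dS h k = dS h k * tS h 0 ((k : F)⁻¹ * (sig m (k : F))⁻¹ * b) := by
          have hk0 : (k : F) ≠ 0 := k.ne_zero
          have hs0 : sig m (k : F) ≠ 0 := fun e => hk0 (sig_eq_zero.1 e)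
          have hk := dS_conj h k 0 ((k : F)⁻¹ * (sig m (k : F))⁻¹ * b)
          rw [mul_zero, show (k : F) * sig m (k : F) * ((k : F)⁻¹ * (sig m (k : F))⁻¹ * b) = b by
            field_simp] at hk
          exact (mul_inv_eq_iff_eq_mul.1 hk).symm
        rw [← mul_smul, e, mul_smul]
        rcases hy with rfl | rfl
        · rw [(hfixO _).1]
        · rw [(hfixO _).2]
      have h2 : dS h k • dS h k • β = β := by
        rcases key β (Or.inl rfl) with e | e
        · rw [e, e]
        · rw [e]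
          rcases key (c • β) (Or.inr rfl) with e' | e'
          · exact e'
          · exact absurd (MulAction.injective (dS h k) (e'.trans e.symm)) hcβ
      have hmem : dS h k ^ 2 ∈ M := by
        rw [pow_two]; show (dS h k * dS h k) • β = β; rw [mul_smul]; exact h2
      have hco : (Nat.card (torus h)).Coprime 2 := by
        rw [card_torus h]; exact odd_pred_pow.coprime_two_right
      obtain ⟨i, hi⟩ := exists_pow_eq_self_of_coprime (x := dS h k) (n := 2)
        ((Nat.Coprime.coprime_dvd_left ((torus h).orderOf_dvd_natCard ⟨k, rfl⟩) hco).symm)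
      rw [← hi]
      exact pow_mem hmem i
    have hAll : ∀ a d : F, tS h a d ∈ M → a ≠ 0 → ∀ a' d' : F, tS h a' d' ∈ M := by
      intro a d had ha a' d'
      by_cases ha' : a' = 0
      · subst ha'; exact hcen d'
      · have hu := hd (Units.mk0 (a' / a) (div_ne_zero ha' ha))
        have h1 := mul_mem (mul_mem hu had) (inv_mem hu)
        rw [dS_conj, Units.val_mk0, div_mul_cancel₀ _ ha] at h1
        set e := a' / a * sig m (a' / a) * d
        have h2 := mul_mem h1 (hcen (e + d'))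
        rw [tS_mul, add_zero, mul_zero, add_zero] at h2
        rwa [show e + (e + d') = d' by rw [← add_assoc, h.add_self, zero_add]] at h2
    by_cases hex : ∃ a d, tS h a d ∈ M ∧ a ≠ 0
    · obtain ⟨a, d, had, ha⟩ := hex
      obtain ⟨a', d', rfl⟩ := hc
      exact hcM (hAll a d had ha a' d')
    · push Not at hex
      have hle : Nat.card (M ⊓ tGroup h : Subgroup _) ≤ 2 ^ (2 * m + 1) := by
        rw [← h.card, ← Nat.card_eq_fintype_card]
        refine Nat.card_le_card_of_surjective (fun v : F => ⟨tS h 0 v, hcen v, tS_mem_tGroup h _ _⟩) ?_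
        rintro ⟨_, hu, a, d, rfl⟩
        obtain rfl := hex a d hu
        exact ⟨d, rfl⟩
      have h1 := card_eq_relIndex_mul M (tGroup h)
      rw [card_tGroup h] at h1
      have h4 : 4 ≤ 2 ^ (2 * m + 1) := by
        have := h.four_lt_card; rw [h.card] at this; omega
      have h5 : 2 ^ (2 * (2 * m + 1)) ≤ 2 * 2 ^ (2 * m + 1) := h1 ▸ Nat.mul_le_mul hrelT hle
      rw [two_mul (2 * m + 1), pow_add] at h5
      nlinarith
  -- `M` is the Borel subgroup
  have hMB : M ≤ borel F m := by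
    by_contra hcon
    exact hne β (eq_top_of_tGroup_not_le_borel h hT hcon)
  have hrelB : M.relIndex (borel F m) ≤ 2 := by
    refine relIndex_le_two hfix _ hz1 fun c hc => ?_
    rw [← CfsgLib.SuzukiMatrix.normalizer_tGroup h] at hc
    have h1 : c⁻¹ * tS h 0 b * c ∈ tGroup h :=
      (Subgroup.mem_normalizer_iff''.1 hc (tS h 0 b)).1 (tS_mem_tGroup h 0 b)
    have h2 : (c⁻¹ * tS h 0 b * c) • β = β := hT h1
    rwa [mul_smul, mul_smul, inv_smul_eq_iff] at h2
  refine le_antisymm hMB (Subgroup.relIndex_eq_one.1 ?_)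
  have h1 : (tGroup h).relIndex M * M.relIndex (borel F m) = (tGroup h).relIndex (borel F m) :=
    Subgroup.relIndex_mul_relIndex _ _ _ hT hMB
  have h2 : (tGroup h).relIndex (borel F m) = 2 ^ (2 * m + 1) - 1 := by
    have h3 := card_eq_relIndex_mul (tGroup h) (borel F m)
    rw [inf_eq_left.2 (tGroup_le_borel h), card_tGroup h, card_stab h, ← pow_mul,
      mul_comm (2 * m + 1) 2, mul_comm] at h3
    exact (Nat.eq_of_mul_eq_mul_right (Nat.two_pow_pos _) h3).symm
  rw [h2] at h1
  rcases (show M.relIndex (borel F m) = 0 ∨ M.relIndex (borel F m) = 1 ∨ M.relIndex (borel F m) = 2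
    by omega) with e | e | e
  · exact absurd e Subgroup.index_ne_zero_of_finite
  · exact e
  · obtain ⟨k, hk⟩ := odd_pred_pow (m := m)
    rw [e] at h1
    omega

/-- A prime dividing the order of a stabilizer of odd order divides `q - 1`, and then `q - 1` does. -/
theorem prime_dvd_stabilizer (h : SzHyp F m) {X : Type*} [Finite X]
    [MulAction (Cfsg.Sz F m) X] (hfix : ∀ g : Cfsg.Sz F m, g ≠ 1 → Nat.card (MulAction.fixedBy X g) ≤ 2)
    (hodd : ∀ β : X, ¬ 2 ∣ Nat.card (MulAction.stabilizer (Cfsg.Sz F m) β))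
    {β : X} {p : ℕ} (hp : p.Prime) (hpM : p ∣ Nat.card (MulAction.stabilizer (Cfsg.Sz F m) β)) :
    ¬ p ∣ (2 ^ (2 * m + 1)) ^ 2 + 1 ∧
      2 ^ (2 * m + 1) - 1 ∣ Nat.card (MulAction.stabilizer (Cfsg.Sz F m) β) := by
  classical
  haveI : Fact p.Prime := ⟨hp⟩
  have hp2 : p ≠ 2 := fun e => hodd β (e ▸ hpM)
  obtain ⟨v', hv'⟩ := exists_prime_orderOf_dvd_card' p hpM
  obtain ⟨v, hv, hvβ⟩ : ∃ v : Cfsg.Sz F m, orderOf v = p ∧ v • β = β :=
    ⟨v', by rw [Subgroup.orderOf_coe, hv'], v'.2⟩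
  have hv1 : v ≠ 1 := fun e => hp.one_lt.ne (by rw [← hv, e, orderOf_one])
  -- a subgroup normalising `⟨w⟩` meets the stabilizer in index at most two
  have key : ∀ (U : Subgroup (Cfsg.Sz F m)) (w : Cfsg.Sz F m) (γ : X), IsCyclic U → w ∈ U →
      orderOf w = p → w • γ = γ →
      (MulAction.stabilizer (Cfsg.Sz F m) γ).relIndex
        (Subgroup.normalizer (U : Set (Cfsg.Sz F m))) ≤ 2 := by
    intro U w γ hU hwU hw hwγ
    have hw1 : w ≠ 1 := fun e => hp.one_lt.ne (by rw [← hw, e, orderOf_one])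
    refine relIndex_le_two hfix _ hw1 fun c hc => ?_
    have hcU : c⁻¹ * w * c ∈ U := (Subgroup.mem_normalizer_iff''.1 hc w).1 hwU
    have ho : orderOf (c⁻¹ * w * c) = p := by
      rw [show c⁻¹ * w * c = MulAut.conj c⁻¹ w by simp, MulEquiv.orderOf_eq, hw]
    haveI := hU
    have heq : (Subgroup.zpowers (⟨_, hcU⟩ : U)) = Subgroup.zpowers (⟨w, hwU⟩ : U) :=
      CfsgLib.Frobenius.eq_of_card_eq_prime_of_isCyclic hp
        (by rw [Nat.card_zpowers, ← Subgroup.orderOf_coe]; exact ho)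
        (by rw [Nat.card_zpowers, ← Subgroup.orderOf_coe]; exact hw)
    have hm' : (⟨_, hcU⟩ : U) ∈ Subgroup.zpowers (⟨w, hwU⟩ : U) := heq ▸ Subgroup.mem_zpowers _
    obtain ⟨i, hi⟩ := Subgroup.mem_zpowers_iff.1 hm'
    have hi' : w ^ i = c⁻¹ * w * c := by simpa using congrArg Subtype.val hi
    have hfix' : w ^ i ∈ MulAction.stabilizer (Cfsg.Sz F m) γ := zpow_mem hwγ i
    rw [hi', MulAction.mem_stabilizer_iff, mul_smul, mul_smul, inv_smul_eq_iff] at hfix'
    exact hfix'
  by_cases hpQ : p ∣ (2 ^ (2 * m + 1)) ^ 2 + 1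
  · exfalso
    have hU : IsExcTorus (Subgroup.centralizer ({v} : Set (Cfsg.Sz F m))) :=
      ⟨v, p, hp, hpQ, hv, rfl⟩
    set U := Subgroup.centralizer ({v} : Set (Cfsg.Sz F m))
    set N := Subgroup.normalizer (U : Set (Cfsg.Sz F m))
    have hle : (MulAction.stabilizer (Cfsg.Sz F m) β).relIndex N ≤ 2 := key U v β (hU.isCyclic h) (Subgroup.mem_centralizer_singleton_iff.2 rfl) hv hvβ
    have h1 := card_eq_relIndex_mul (MulAction.stabilizer (Cfsg.Sz F m) β) N
    rw [card_normalizer_exc h hU] at h1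
    have hno : ¬ 2 ∣ Nat.card (MulAction.stabilizer (Cfsg.Sz F m) β ⊓ N : Subgroup _) :=
      fun e => hodd β (e.trans (Subgroup.card_dvd_of_le inf_le_left))
    rcases (show (MulAction.stabilizer (Cfsg.Sz F m) β).relIndex N = 0 ∨
      (MulAction.stabilizer (Cfsg.Sz F m) β).relIndex N = 1 ∨
      (MulAction.stabilizer (Cfsg.Sz F m) β).relIndex N = 2 by omega) with e | e | e
    · exact Subgroup.index_ne_zero_of_finite e
    · rw [e, one_mul] at h1
      exact hno ⟨2 * Nat.card U, by omega⟩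
    · rw [e] at h1
      exact hno ⟨Nat.card U, by omega⟩
  · refine ⟨hpQ, ?_⟩
    obtain ⟨pt, hpt, hvpt⟩ := exists_fix_of_prime h hv hpQ
    obtain ⟨x, hx⟩ := exists_normal_form h hpt hvpt
    have hxo : orderOf (x⁻¹ * v * x) = p := by
      rw [show x⁻¹ * v * x = MulAut.conj x⁻¹ v by simp, MulEquiv.orderOf_eq, hv]
    rcases hx with hx | ⟨k, hk, hx⟩
    · exfalso
      obtain ⟨i, hi⟩ := (isPGroup_tGroup h).exists_card_eq
      have h1 := (tGroup h).orderOf_dvd_natCard hx
      rw [hxo, hi] at h1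
      exact hp2 ((Nat.prime_dvd_prime_iff_eq hp Nat.prime_two).1 (hp.dvd_of_dvd_pow h1))
    · have hfixx : (x⁻¹ * v * x) • (x⁻¹ • β) = x⁻¹ • β := by
        rw [mul_smul, smul_inv_smul, mul_smul, hvβ]
      set γ := x⁻¹ • β
      have hle := key (torus h) (x⁻¹ * v * x) γ (isCyclic_torus h) (hx ▸ ⟨k, rfl⟩) hxo hfixx
      set N := Subgroup.normalizer (torus h : Set (Cfsg.Sz F m))
      set Mγ := MulAction.stabilizer (Cfsg.Sz F m) γ with hMγ
      have hcardγ : Nat.card Mγ = Nat.card (MulAction.stabilizer (Cfsg.Sz F m) β) :=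
        (Nat.card_congr (MulAction.stabilizerEquivStabilizer
          (show γ = x⁻¹ • β from rfl)).toEquiv).symm
      have hno : ¬ 2 ∣ Nat.card (Mγ ⊓ N : Subgroup _) :=
        fun e => hodd γ (e.trans (Subgroup.card_dvd_of_le inf_le_left))
      have h1 := card_eq_relIndex_mul Mγ N
      rw [card_normalizer_torus h] at h1
      rw [← hcardγ]
      rcases (show Mγ.relIndex N = 0 ∨ Mγ.relIndex N = 1 ∨ Mγ.relIndex N = 2 by omega) with e | e | e
      · exact absurd e Subgroup.index_ne_zero_of_finite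
      · rw [e, one_mul] at h1
        exact absurd ⟨_, h1.symm⟩ hno
      · rw [e] at h1
        rw [Nat.eq_of_mul_eq_mul_left two_pos h1]
        exact Subgroup.card_dvd_of_le inf_le_left

/-- Let q = 2^{2m+1} ≥ 8 and let G be isomorphic to the Suzuki group Sz(q). If G acts faithfully and transitively on a finite set Ω with fixity 2 (every non-identity element fixes at most two points, and some fixes exactly two), then either |Ω| = q² + 1 and the action is 2-transitive, or |Ω| = q²(q² + 1) and the point stabilizers have order q − 1. -/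
theorem result {G : Type*} [Group G] [Finite G] (F : Type) [Field F] [Fintype F] (m : ℕ) (hm : 1 ≤ m) (hF : Fintype.card F = 2 ^ (2 * m + 1))
    (e : G ≃* ↥(Cfsg.Lie.Sz F (2 ^ (m + 1)))) {Ω : Type*} [Fintype Ω] [MulAction G Ω] [FaithfulSMul G Ω] (htr : MulAction.IsPretransitive G Ω)
    (hfix : ∀ g : G, g ≠ 1 → Nat.card (MulAction.fixedBy Ω g) ≤ 2) (hex : ∃ g : G, g ≠ 1 ∧ Nat.card (MulAction.fixedBy Ω g) = 2) :
    (Fintype.card Ω = Fintype.card F ^ 2 + 1 ∧ MulAction.IsMultiplyPretransitive G Ω 2) ∨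
    (Fintype.card Ω = Fintype.card F ^ 2 * (Fintype.card F ^ 2 + 1) ∧ ∀ α : Ω, Nat.card (MulAction.stabilizer G α) = Fintype.card F - 1) := by
  classical
  have h : SzHyp F m := ⟨hm, hF⟩
  let φ : Cfsg.Sz F m ≃* G := (CfsgLib.SuzukiMatrix.szEquiv h).trans e.symm
  letI : MulAction (Cfsg.Sz F m) Ω := MulAction.compHom Ω φ.toMonoidHom
  have hsm : ∀ (s : Cfsg.Sz F m) (w : Ω), s • w = φ s • w := fun _ _ => rfl
  have hfixS : ∀ s : Cfsg.Sz F m, s ≠ 1 → Nat.card (MulAction.fixedBy Ω s) ≤ 2 := fun s hs => by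
    rw [show MulAction.fixedBy Ω s = MulAction.fixedBy Ω (φ s) from rfl]
    exact hfix _ fun he => hs (φ.map_eq_one_iff.1 he)
  haveI : MulAction.IsPretransitive (Cfsg.Sz F m) Ω := ⟨fun a c => by
    obtain ⟨g, hg⟩ := htr.exists_smul_eq a c
    exact ⟨φ.symm g, by rw [hsm, φ.apply_symm_apply, hg]⟩⟩
  obtain ⟨g0, hg0, hg02⟩ := hex
  have hneX : Nonempty (MulAction.fixedBy Ω g0) := by
    by_contra hh
    rw [not_nonempty_iff] at hh
    rw [Nat.card_of_isEmpty] at hg02
    omega
  obtain ⟨⟨β0, hβ0⟩⟩ := hneX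
  have hcardM : ∀ a c : Ω, Nat.card (MulAction.stabilizer (Cfsg.Sz F m) a) =
      Nat.card (MulAction.stabilizer (Cfsg.Sz F m) c) := by
    intro a c
    obtain ⟨s, hs⟩ := MulAction.exists_smul_eq (Cfsg.Sz F m) a c
    exact Nat.card_congr (MulAction.stabilizerEquivStabilizer hs.symm).toEquiv
  have hGS : ∀ a : Ω, Nat.card (MulAction.stabilizer G a) =
      Nat.card (MulAction.stabilizer (Cfsg.Sz F m) a) := fun a =>
    (Nat.card_congr (φ.toEquiv.subtypeEquiv fun s => Iff.rfl)).symm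
  have hΩ : ∀ a : Ω, Fintype.card Ω * Nat.card (MulAction.stabilizer (Cfsg.Sz F m) a) =
      Nat.card (Cfsg.Sz F m) := fun a => by
    rw [← Nat.card_eq_fintype_card, ← MulAction.index_stabilizer_of_transitive (Cfsg.Sz F m) a,
      Subgroup.index_mul_card]
  have hnetop : ∀ β : Ω, MulAction.stabilizer (Cfsg.Sz F m) β ≠ ⊤ := by
    intro β htop
    refine hg0 (FaithfulSMul.eq_of_smul_eq_smul (α := Ω) fun w => ?_)
    have hb : ∀ g : G, g • β = β := fun g => by
      have : φ.symm g ∈ MulAction.stabilizer (Cfsg.Sz F m) β := htop ▸ Subgroup.mem_top _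
      rw [MulAction.mem_stabilizer_iff, hsm, φ.apply_symm_apply] at this
      exact this
    obtain ⟨g, rfl⟩ := htr.exists_smul_eq β w
    rw [hb, hb, one_smul]
  have hq : 2 ≤ 2 ^ (2 * m + 1) := Nat.le_self_pow (by omega) 2
  by_cases heven : ∃ β : Ω, 2 ∣ Nat.card (MulAction.stabilizer (Cfsg.Sz F m) β)
  · left
    obtain ⟨β1, h2⟩ := heven
    haveI : Fact (Nat.Prime 2) := ⟨Nat.prime_two⟩
    obtain ⟨z, hz⟩ := exists_prime_orderOf_dvd_card' 2 h2
    rw [← Subgroup.orderOf_coe] at hz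
    obtain ⟨P, hP⟩ := (IsPGroup.of_card (p := 2) (n := 1)
      (show Nat.card (Subgroup.zpowers (z : Cfsg.Sz F m)) = 2 ^ 1 by
        rw [Nat.card_zpowers, hz, pow_one])).exists_le_sylow
    obtain ⟨x, hx⟩ := exists_map_tGroup h P
    have hzT : x⁻¹ * (z : Cfsg.Sz F m) * x ∈ tGroup h :=
      mem_map_conj.1 (hx ▸ hP (Subgroup.mem_zpowers _))
    obtain ⟨a, b, hab⟩ := hzT
    have hfixz : tS h a b • (x⁻¹ • β1) = x⁻¹ • β1 := by
      rw [← hab, mul_smul, smul_inv_smul, mul_smul, show (z : Cfsg.Sz F m) • β1 = β1 from z.2]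
    have hz2 : (z : Cfsg.Sz F m) * z = 1 := by rw [← pow_two, ← hz, pow_orderOf_eq_one]
    have hz1 : (z : Cfsg.Sz F m) ≠ 1 := fun e => by rw [e, orderOf_one] at hz; omega
    have hsq : tS h a b * tS h a b = 1 := by
      rw [← hab]
      calc x⁻¹ * ↑z * x * (x⁻¹ * ↑z * x) = x⁻¹ * (↑z * ↑z) * x := by group
        _ = 1 := by rw [hz2]; group
    rw [tS_sq, tS_eq_one] at hsq
    have ha0 : a = 0 := by
      rcases mul_eq_zero.1 hsq.2 with e | e
      exacts [sig_eq_zero.1 e, e]
    subst ha0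
    have hb0 : b ≠ 0 := by
      rintro rfl
      rw [tS_zero] at hab
      exact hz1 (by
        calc (z : Cfsg.Sz F m) = x * (x⁻¹ * ↑z * x) * x⁻¹ := by group
          _ = 1 := by rw [hab]; group)
    have hB := stabilizer_eq_borel h hfixS hnetop hb0 hfixz
    obtain ⟨β, hβ⟩ : ∃ β, β = x⁻¹ • β1 := ⟨_, rfl⟩
    rw [← hβ] at hB
    have hcard : Fintype.card Ω = Fintype.card F ^ 2 + 1 := by
      have h1 := hΩ β
      rw [hB, card_stab h, CfsgLib.Suzuki.card h, mul_right_comm _ ((2 ^ (2 * m + 1)) ^ 2 + 1),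
        mul_comm ((2 ^ (2 * m + 1)) ^ 2 * (2 ^ (2 * m + 1) - 1))] at h1
      rw [hF]
      exact Nat.eq_of_mul_eq_mul_right (Nat.mul_pos (Nat.pow_pos (by omega)) (by omega)) h1
    refine ⟨hcard, ?_⟩
    rw [MulAction.is_two_pretransitive_iff]
    intro a c a' c' hac hac'
    obtain ⟨s, hs⟩ := MulAction.exists_smul_eq (Cfsg.Sz F m) β a
    obtain ⟨t, ht⟩ := MulAction.exists_smul_eq (Cfsg.Sz F m) β c
    obtain ⟨s', hs'⟩ := MulAction.exists_smul_eq (Cfsg.Sz F m) β a'
    obtain ⟨t', ht'⟩ := MulAction.exists_smul_eq (Cfsg.Sz F m) β c'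
    let pt : Cfsg.suzukiOvoid F m := ⟨_, pInf_mem⟩
    have hsame : ∀ u w : Cfsg.Sz F m, u • β = w • β ↔ u • pt = w • pt := by
      intro u w
      rw [← inv_smul_eq_iff, ← inv_smul_eq_iff (g := w), ← mul_smul, ← mul_smul,
        ← MulAction.mem_stabilizer_iff, ← MulAction.mem_stabilizer_iff, hB, stabilizer_coe]
    have h1 : s • pt ≠ t • pt := fun e => hac (by rw [← hs, ← ht]; exact (hsame s t).2 e)
    have h2 : s' • pt ≠ t' • pt := fun e => hac' (by rw [← hs', ← ht']; exact (hsame s' t').2 e)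
    obtain ⟨g, hg1, hg2⟩ := (MulAction.is_two_pretransitive_iff.1 (isTwoPretransitive h)) h1 h2
    rw [← mul_smul] at hg1 hg2
    have e1 := (hsame _ _).2 hg1
    have e2 := (hsame _ _).2 hg2
    rw [mul_smul, hs, hs'] at e1
    rw [mul_smul, ht, ht'] at e2
    exact ⟨φ g, by rw [← hsm]; exact e1, by rw [← hsm]; exact e2⟩
  · right
    push Not at heven
    have hM0 : MulAction.stabilizer (Cfsg.Sz F m) β0 ≠ ⊥ := fun hb => by
      have hm0 : φ.symm g0 ∈ MulAction.stabilizer (Cfsg.Sz F m) β0 := by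
        rw [MulAction.mem_stabilizer_iff, hsm, φ.apply_symm_apply]
        exact hβ0
      rw [hb, Subgroup.mem_bot] at hm0
      exact hg0 (φ.symm.map_eq_one_iff.1 hm0)
    have hstab : ∀ a : Ω, Nat.card (MulAction.stabilizer (Cfsg.Sz F m) a) = 2 ^ (2 * m + 1) - 1 := by
      intro a
      rw [hcardM a β0]
      obtain ⟨p, hp, hpM⟩ := Nat.exists_prime_and_dvd
        (fun h1 => hM0 (Subgroup.card_eq_one.1 h1))
      refine Nat.dvd_antisymm ?_ (prime_dvd_stabilizer h hfixS heven hp hpM).2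
      have hdvd := Subgroup.card_subgroup_dvd_card (MulAction.stabilizer (Cfsg.Sz F m) β0)
      rw [CfsgLib.Suzuki.card h] at hdvd
      refine Nat.Coprime.dvd_of_dvd_mul_left ?_ hdvd
      refine Nat.coprime_of_dvd fun r hr h1 h2 => ?_
      rcases hr.dvd_mul.1 h2 with h3 | h3
      · have := (Nat.prime_dvd_prime_iff_eq hr Nat.prime_two).1
          (hr.dvd_of_dvd_pow (hr.dvd_of_dvd_pow h3))
        exact heven β0 (this ▸ h1)
      · exact (prime_dvd_stabilizer h hfixS heven hr h1).1 h3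
    refine ⟨?_, fun a => by rw [hGS, hstab, hF]⟩
    have h1 := hΩ β0
    rw [hstab, CfsgLib.Suzuki.card h] at h1
    rw [hF]
    exact Nat.eq_of_mul_eq_mul_right (by omega) h1

end Cfsg.Agent.S3391
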