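import Cfsg.Statements.S3401
import Mathlib.GroupTheory.GroupAction.MultipleTransitivity
import Mathlib.GroupTheory.GroupAction.Primitive
import Mathlib.GroupTheory.Transfer
import Mathlib.GroupTheory.Sylow
import Mathlib.GroupTheory.Perm.Cycle.Type
import Mathlib.Tactic

set_option autoImplicit false
open Cfsg
open scoped Pointwise

namespace Cfsg.Agent.S3401

theorem exists_conj_of_card {G : Type*} [Group G] [Finite G] (K A B : Subgroup G) (hA : A ≤ K)
    (hB : B ≤ K) (hAc : Nat.card A = 2 ^ (Nat.card K).factorization 2)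
    (hBc : Nat.card B = 2 ^ (Nat.card K).factorization 2) :
    ∃ k ∈ K, MulAut.conj k • A = B := by
  have : Fact (Nat.Prime 2) := ⟨Nat.prime_two⟩
  let A' : Sylow 2 K := Sylow.ofCard (A.subgroupOf K)
    (by rw [Nat.card_congr (Subgroup.subgroupOfEquivOfLe hA).toEquiv, hAc])
  let B' : Sylow 2 K := Sylow.ofCard (B.subgroupOf K)
    (by rw [Nat.card_congr (Subgroup.subgroupOfEquivOfLe hB).toEquiv, hBc])
  obtain ⟨k, hk⟩ := MulAction.exists_smul_eq K A' B'
  refine ⟨k, k.2, ?_⟩
  have h1 : MulAut.conj k • (A.subgroupOf K) = B.subgroupOf K :=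
    congrArg (fun P : Sylow 2 K => (P : Subgroup K)) hk
  ext x
  rw [Subgroup.mem_pointwise_smul_iff_inv_smul_mem]
  constructor
  · intro hx
    have hxA : (k : G)⁻¹ * x * k ∈ A := by simpa [MulAut.smul_def] using hx
    have hxK : x ∈ K := by
      have := K.mul_mem (K.mul_mem k.2 (hA hxA)) (K.inv_mem k.2)
      simpa [mul_assoc] using this
    have h2 : (⟨x, hxK⟩ : K) ∈ MulAut.conj k • (A.subgroupOf K) := by
      rw [Subgroup.mem_pointwise_smul_iff_inv_smul_mem]
      simpa [MulAut.smul_def, Subgroup.mem_subgroupOf] using hxA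
    rw [h1] at h2
    exact h2
  · intro hx
    have h2 : (⟨x, hB hx⟩ : K) ∈ B.subgroupOf K := hx
    rw [← h1, Subgroup.mem_pointwise_smul_iff_inv_smul_mem] at h2
    simpa [MulAut.smul_def, Subgroup.mem_subgroupOf] using h2

theorem card_le_of_two_group {G : Type*} [Group G] [Finite G] (K A : Subgroup G) (hA : A ≤ K)
    (h2 : IsPGroup 2 A) : Nat.card A ∣ 2 ^ (Nat.card K).factorization 2 := by
  have : Fact (Nat.Prime 2) := ⟨Nat.prime_two⟩
  obtain ⟨j, hj⟩ := IsPGroup.iff_card.mp h2
  rw [hj]
  exact Nat.pow_dvd_pow 2 ((Nat.prime_two.pow_dvd_iff_le_factorization Nat.card_pos.ne').mp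
    (hj ▸ Subgroup.card_dvd_of_le hA))

theorem card_stab_conj {G : Type*} [Group G] [Finite G] {Ω : Type*} [MulAction G Ω]
    (M : Subgroup G) (hM : M.Normal) (g : G) (a : Ω) :
    MulAut.conj g • (M ⊓ MulAction.stabilizer G a) = M ⊓ MulAction.stabilizer G (g • a) := by
  ext x
  rw [Subgroup.mem_pointwise_smul_iff_inv_smul_mem]
  simp only [MulAut.smul_def, MulAut.conj_inv_apply, Subgroup.mem_inf,
    MulAction.mem_stabilizer_iff, mul_smul]
  constructor
  · rintro ⟨hx, hfix⟩
    refine ⟨?_, ?_⟩
    · simpa [mul_assoc] using hM.conj_mem _ hx g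
    · rwa [inv_smul_eq_iff] at hfix
  · rintro ⟨hx, hfix⟩
    refine ⟨?_, by rw [hfix, inv_smul_smul]⟩
    simpa [mul_assoc] using hM.conj_mem _ hx g⁻¹

theorem normal_two_transitive {G : Type*} [Group G] [Finite G] {Ω : Type*} [Fintype Ω] [MulAction G Ω]
    [FaithfulSMul G Ω] (h2 : MulAction.IsMultiplyPretransitive G Ω 2) (hn : Fintype.card Ω % 4 = 2)
    (hn2 : 2 < Fintype.card Ω) (M : Subgroup G) [hMN : M.Normal] (hM : M ≠ ⊥) :
    MulAction.IsMultiplyPretransitive M Ω 2 := by
  classical
  have : Fact (Nat.Prime 2) := ⟨Nat.prime_two⟩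
  have h2' : ∀ {a b c d : Ω}, a ≠ b → c ≠ d → ∃ g : G, g • a = c ∧ g • b = d :=
    MulAction.is_two_pretransitive_iff.mp h2
  have hprim : MulAction.IsPreprimitive G Ω := MulAction.isPreprimitive_of_is_two_pretransitive h2
  have hMt : MulAction.IsPretransitive M Ω := by
    apply MulAction.IsQuasiPreprimitive.isPretransitive_of_normal
    intro h
    apply hM
    rw [Subgroup.eq_bot_iff_forall]
    intro m hm
    apply eq_of_smul_eq_smul (α := Ω)
    intro ω
    have h3 : ω ∈ MulAction.fixedPoints M Ω := h ▸ Set.mem_univ ω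
    rw [one_smul]
    exact h3 ⟨m, hm⟩
  obtain ⟨a⟩ : Nonempty Ω := Fintype.card_pos_iff.mp (by omega)
  set Ma : Subgroup G := M ⊓ MulAction.stabilizer G a with hMa
  set v := (Nat.card Ma).factorization 2 with hv
  have hMcard : Nat.card M = Fintype.card Ω * Nat.card Ma := by
    have h1 := (MulAction.stabilizer M a).index_mul_card
    rw [MulAction.index_stabilizer_of_transitive M a, Nat.card_eq_fintype_card (α := Ω)] at h1
    rw [← h1]
    congr 1
    refine Nat.card_congr
      { toFun := fun x => ⟨((x : M) : G), (x : M).2, x.2⟩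
        invFun := fun x => ⟨⟨x.1, x.2.1⟩, x.2.2⟩
        left_inv := fun x => rfl
        right_inv := fun x => rfl }
  have hvM : (Nat.card M).factorization 2 = v + 1 := by
    rw [hMcard, Nat.factorization_mul (by omega) Nat.card_pos.ne', Finsupp.add_apply, ← hv]
    have h1 : Fintype.card Ω = 2 * (Fintype.card Ω / 2) := by omega
    have h2 : ¬ 2 ∣ Fintype.card Ω / 2 := by omega
    rw [h1, Nat.factorization_mul (by norm_num) (by omega), Finsupp.add_apply,
      Nat.prime_two.factorization_self, Nat.factorization_eq_zero_of_not_dvd h2]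
    omega
  -- a Sylow 2-subgroup of the point stabilizer
  obtain ⟨T, hT, hTcard⟩ : ∃ T : Subgroup G, T ≤ Ma ∧ Nat.card T = 2 ^ v := by
    obtain ⟨T0, hT0⟩ := Sylow.exists_subgroup_card_pow_prime (G := Ma) 2 (Nat.ordProj_dvd _ 2)
    refine ⟨T0.map Ma.subtype, Subgroup.map_subtype_le T0, ?_⟩
    rw [Nat.card_congr (T0.equivMapOfInjective _ Ma.subtype_injective).toEquiv.symm, hT0]
  have hTM : T ≤ M := hT.trans inf_le_left
  obtain ⟨S0, hS0card, hS0T⟩ := Sylow.exists_subgroup_card_pow_succ (G := M) (p := 2) (n := v)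
    (by rw [← hvM]; exact Nat.ordProj_dvd _ 2) (H := T.subgroupOf M)
    (by rw [Nat.card_congr (Subgroup.subgroupOfEquivOfLe hTM).toEquiv, hTcard])
  set S : Subgroup G := S0.map M.subtype with hS
  have hSM : S ≤ M := Subgroup.map_subtype_le S0
  have hScard : Nat.card S = 2 ^ (v + 1) := by
    rw [hS, Nat.card_congr (S0.equivMapOfInjective _ M.subtype_injective).toEquiv.symm, hS0card]
  have hTS : T ≤ S := by
    intro t ht
    exact ⟨⟨t, hTM ht⟩, hS0T ht, rfl⟩
  have hidx : (T.subgroupOf S).index = 2 := by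
    have h1 := (T.subgroupOf S).index_mul_card
    rw [Nat.card_congr (Subgroup.subgroupOfEquivOfLe hTS).toEquiv, hTcard, hScard, pow_succ'] at h1
    exact Nat.eq_of_mul_eq_mul_right (by positivity) h1
  have hTnS : S ≤ Subgroup.normalizer (T : Set G) := by
    have : (T.subgroupOf S).Normal := Subgroup.normal_of_index_eq_two hidx
    exact Subgroup.normal_subgroupOf_iff_le_normalizer hTS |>.mp this
  obtain ⟨s, hsS, hsT⟩ : ∃ s ∈ S, s ∉ T := by
    by_contra h
    push Not at h
    have := Subgroup.card_le_of_le (h : S ≤ T)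
    rw [hScard, hTcard, pow_succ] at this
    have : 0 < 2 ^ v := by positivity
    omega
  -- fixed points of T
  set F : Set Ω := {x | ∀ t ∈ T, t • x = x} with hF
  have haF : a ∈ F := fun t ht => (hT ht).2
  have hFinv : ∀ h ∈ Subgroup.normalizer (T : Set G), ∀ x ∈ F, h • x ∈ F := by
    intro h hh x hx t ht
    have h1 : h⁻¹ * t * h ∈ T := by
      have := (Subgroup.mem_normalizer_iff.mp ((Subgroup.normalizer (T : Set G)).inv_mem hh) t).mp ht
      simpa using this
    have h2 := hx _ h1
    rw [mul_smul, mul_smul, inv_smul_eq_iff] at h2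
    exact h2
  have hcardconj : ∀ g : G, Nat.card (MulAut.conj g • T : Subgroup G) = 2 ^ v := by
    intro g
    rw [← hTcard]
    exact (Nat.card_congr (Subgroup.equivSMul (MulAut.conj g) T).toEquiv).symm
  have hMxcard : ∀ x : Ω, (Nat.card ↥(M ⊓ MulAction.stabilizer G x)).factorization 2 = v := by
    intro x
    obtain ⟨g, hg⟩ := hMt.exists_smul_eq a x
    rw [hv, hMa, ← hg, show g • a = (g : G) • a from rfl, ← card_stab_conj M hMN,
      ← Nat.card_congr (Subgroup.equivSMul (MulAut.conj (g : G)) _).toEquiv]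
  have hsfix : ∀ x ∈ F, s • x ≠ x := by
    intro x hx hfix
    have hle : S ≤ M ⊓ MulAction.stabilizer G x := by
      intro y hy
      refine ⟨hSM hy, ?_⟩
      by_cases hyT : y ∈ T
      · exact hx y hyT
      · have h1 : s⁻¹ * y ∈ T := by
          have := (Subgroup.index_eq_two_iff.mp hidx)
          have h2 := Subgroup.mul_mem_iff_of_index_two (a := (⟨s⁻¹, S.inv_mem hsS⟩ : S))
            (b := ⟨y, hy⟩) hidx
          rw [Subgroup.mem_subgroupOf, Subgroup.mem_subgroupOf, Subgroup.mem_subgroupOf] at h2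
          apply h2.mpr
          simp [hyT, hsT]
        have h3 := hx _ h1
        rw [mul_smul, inv_smul_eq_iff, hfix] at h3
        exact h3
    have h1 := card_le_of_two_group _ _ hle (IsPGroup.of_card hScard)
    rw [hScard, hMxcard, Nat.pow_dvd_pow_iff_le_right (by norm_num)] at h1
    omega
  set b := s • a with hb
  have hbF : b ∈ F := hFinv s (hTnS hsS) a haF
  have hab : a ≠ b := fun h => hsfix a haF h.symm
  -- the normalizer of T is 2-transitive on F
  have hvab : (Nat.card ↥(M ⊓ MulAction.stabilizer G a ⊓ MulAction.stabilizer G b)).factorization 2 = v := by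
    apply le_antisymm
    · rw [hv]
      exact (Nat.factorization_le_iff_dvd Nat.card_pos.ne' Nat.card_pos.ne').mpr
        (Subgroup.card_dvd_of_le inf_le_left) 2
    · apply (Nat.prime_two.pow_dvd_iff_le_factorization Nat.card_pos.ne').mp
      rw [← hTcard]
      exact Subgroup.card_dvd_of_le fun t ht => ⟨hT ht, hbF t ht⟩
  have hNtr : ∀ x ∈ F, ∀ y ∈ F, x ≠ y →
      ∃ h ∈ Subgroup.normalizer (T : Set G), h • a = x ∧ h • b = y := by
    intro x hx y hy hxy
    obtain ⟨g, hgx, hgy⟩ := h2' hab hxy
    have hconj : MulAut.conj g • (M ⊓ MulAction.stabilizer G a ⊓ MulAction.stabilizer G b)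
        = M ⊓ MulAction.stabilizer G x ⊓ MulAction.stabilizer G y := by
      rw [show M ⊓ MulAction.stabilizer G a ⊓ MulAction.stabilizer G b =
          (M ⊓ MulAction.stabilizer G a) ⊓ (M ⊓ MulAction.stabilizer G b) by
            rw [inf_inf_inf_comm, inf_idem, inf_assoc],
        Subgroup.smul_inf, card_stab_conj M hMN, card_stab_conj M hMN, hgx, hgy]
      rw [inf_inf_inf_comm, inf_idem, inf_assoc]
    have hv' : (Nat.card ↥(M ⊓ MulAction.stabilizer G x ⊓ MulAction.stabilizer G y)).factorization 2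
        = v := by
      rw [← hconj, ← Nat.card_congr (Subgroup.equivSMul (MulAut.conj g) _).toEquiv, hvab]
    have hle1 : MulAut.conj g • T ≤ M ⊓ MulAction.stabilizer G x ⊓ MulAction.stabilizer G y := by
      rw [← hconj]
      exact Subgroup.pointwise_smul_le_pointwise_smul_iff.mpr fun t ht => ⟨hT ht, hbF t ht⟩
    obtain ⟨m, hm, hmT⟩ := exists_conj_of_card _ (MulAut.conj g • T) T hle1
      (fun t ht => ⟨⟨hTM ht, hx t ht⟩, hy t ht⟩) (by rw [hv', hcardconj]) (by rw [hv', hTcard])
    refine ⟨m * g, ?_, ?_, ?_⟩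
    · rw [smul_smul, ← map_mul] at hmT
      rw [Subgroup.mem_normalizer_iff]
      intro t
      conv_rhs => rw [← hmT, Subgroup.mem_pointwise_smul_iff_inv_smul_mem]
      simp [MulAut.smul_def, mul_assoc]
    · rw [mul_smul, hgx]; exact hm.1.2
    · rw [mul_smul, hgy]; exact hm.2
  -- F = {a, b}
  set N := Subgroup.normalizer (T : Set G) with hN
  let F' : SubMulAction N Ω :=
    { carrier := F
      smul_mem' := fun h {x} hx => hFinv h h.2 x hx }
  have hFeq : ∀ c ∈ F, c = a ∨ c = b := by
    let φ : N →* Equiv.Perm F' := MulAction.toPermHom N F'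
    let H := φ.range
    let L : Subgroup N := M.subgroupOf N
    let ψ : N →* H := φ.rangeRestrict
    let X : Subgroup H := L.map ψ
    have hXn : X.Normal := (hMN.subgroupOf N).map ψ φ.rangeRestrict_surjective
    let sN : N := ⟨s, hTnS hsS⟩
    have hsX : ψ sN ∈ X := Subgroup.mem_map_of_mem ψ (show sN ∈ L from hSM hsS)
    have hker : ∀ t : N, (t : G) ∈ T → ψ t = 1 := by
      intro t ht
      apply Subtype.ext
      apply Equiv.ext
      intro x
      exact Subtype.ext (x.2 t ht)
    have hs2 : ψ sN ^ 2 = 1 := by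
      rw [← map_pow]
      apply hker
      have := Subgroup.sq_mem_of_index_two hidx (⟨s, hsS⟩ : S)
      simpa [Subgroup.mem_subgroupOf] using this
    have hsne : ∀ x : F', ((ψ sN : H) : Equiv.Perm F') x ≠ x := by
      intro x h
      exact hsfix x x.2 (congrArg Subtype.val h)
    have hXdvd : Nat.card X * 2 ^ v ∣ Nat.card M := by
      have h1 : Nat.card X * Nat.card (ψ.domRestrict L).ker = Nat.card L := by
        rw [show X = (ψ.domRestrict L).range from (MonoidHom.domRestrict_range L ψ).symm,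
          ← Subgroup.index_ker, Subgroup.index_mul_card]
      have h2 : Nat.card T ∣ Nat.card (ψ.domRestrict L).ker := by
        let f : T →* (ψ.domRestrict L).ker :=
          { toFun := fun t => ⟨⟨⟨t, Subgroup.le_normalizer t.2⟩, hTM t.2⟩, hker _ t.2⟩
            map_one' := rfl
            map_mul' := fun _ _ => rfl }
        exact Subgroup.card_dvd_of_injective f
          fun t t' h => Subtype.ext (congrArg (fun z : (ψ.domRestrict L).ker => (((z : L) : N) : G)) h)
      rw [← hTcard]
      calc _ ∣ Nat.card X * Nat.card (ψ.domRestrict L).ker := Nat.mul_dvd_mul_left _ h2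
        _ ∣ Nat.card M := by
          rw [h1]
          let ι : L →* M :=
            { toFun := fun z => ⟨((z : N) : G), z.2⟩
              map_one' := rfl
              map_mul' := fun _ _ => rfl }
          exact Subgroup.card_dvd_of_injective ι
            fun z z' h => Subtype.ext (Subtype.ext (congrArg (fun w : M => (w : G)) h))
    have h4 : ¬ 4 ∣ Nat.card X := by
      intro h
      have h1 : 2 ^ (v + 2) ∣ Nat.card M := by
        rw [pow_add, mul_comm]
        exact dvd_trans (Nat.mul_dvd_mul_right (by simpa using h) _) hXdvd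
      have := (Nat.prime_two.pow_dvd_iff_le_factorization Nat.card_pos.ne').mp h1
      omega
    have hsord : orderOf (⟨ψ sN, hsX⟩ : X) = 2 := by
      apply orderOf_eq_prime
      · exact Subtype.ext hs2
      · intro h
        have : ψ sN = 1 := congrArg Subtype.val h
        exact hsne ⟨a, haF⟩ (by rw [this]; rfl)
    have h2X : 2 ∣ Nat.card X := hsord ▸ orderOf_dvd_natCard _
    obtain ⟨m, hm⟩ := h2X
    have hmodd : ¬ 2 ∣ m := fun ⟨k, hk⟩ => h4 ⟨k, by rw [hm, hk]; ring⟩
    let P : Sylow 2 X := default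
    have hPc : Nat.card (P : Subgroup X) = 2 := by
      rw [P.card_eq_multiplicity, hm, Nat.factorization_mul (by norm_num) (by omega), Finsupp.add_apply,
        Nat.prime_two.factorization_self, Nat.factorization_eq_zero_of_not_dvd hmodd]
      norm_num
    have hPcyc : IsCyclic (P : Subgroup X) := isCyclic_of_prime_card hPc
    have hNC := IsCyclic.normalizer_le_centralizer (P := P)
      (by rw [Nat.minFac_eq_two_iff, hm]; exact dvd_mul_right 2 m) hPcyc
    let τ := MonoidHom.transferSylow P hNC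
    have hcompl := MonoidHom.ker_transferSylow_isComplement' P hNC
    have hKc : Nat.card τ.ker = m := by
      have := hcompl.card_mul_card
      rw [hPc, hm] at this
      exact Nat.eq_of_mul_eq_mul_right two_pos (this.trans (mul_comm 2 m))
    let O : Subgroup H := τ.ker.map X.subtype
    have hOc : Nat.card O = m := by
      rw [← hKc]
      exact (Nat.card_congr (τ.ker.equivMapOfInjective _ X.subtype_injective).toEquiv).symm
    have hKmem : ∀ x : X, x ∈ τ.ker ↔ x ^ m = 1 := by
      intro x
      constructor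
      · intro hx
        rw [← hKc]
        exact congrArg Subtype.val (pow_card_eq_one' (x := (⟨x, hx⟩ : τ.ker)))
      · intro hx
        rw [MonoidHom.mem_ker, ← orderOf_eq_one_iff]
        apply Nat.eq_one_of_dvd_coprimes (a := 2) (b := m)
          ((Nat.prime_two.coprime_iff_not_dvd).mpr hmodd)
        · exact (orderOf_dvd_natCard (τ x)).trans (dvd_of_eq hPc)
        · exact orderOf_dvd_of_pow_eq_one (by rw [← map_pow, hx, map_one])
    have hOn : O.Normal := by
      constructor
      rintro _ ⟨x, hx, rfl⟩ h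
      refine ⟨⟨h * x * h⁻¹, hXn.conj_mem _ x.2 h⟩, ?_, rfl⟩
      apply (hKmem _).mpr
      apply Subtype.ext
      have h1 : ((x : X) : H) ^ m = 1 := congrArg Subtype.val ((hKmem x).mp hx)
      change (h * (x : H) * h⁻¹) ^ m = 1
      rw [conj_pow, h1, mul_one, mul_inv_cancel]
    let : MulAction H F' := MulAction.compHom F' H.subtype
    have hfaith : FaithfulSMul H F' := ⟨fun h => Subtype.ext (Equiv.ext h)⟩
    have hH2 : MulAction.IsMultiplyPretransitive H F' 2 := by
      rw [MulAction.is_two_pretransitive_iff]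
      intro x y z w hxy hzw
      obtain ⟨g, hg, hga, hgb⟩ := hNtr x x.2 y y.2 (fun h => hxy (Subtype.ext h))
      obtain ⟨g', hg', hga', hgb'⟩ := hNtr z z.2 w w.2 (fun h => hzw (Subtype.ext h))
      refine ⟨ψ (⟨g', hg'⟩ * ⟨g, hg⟩⁻¹), Subtype.ext ?_, Subtype.ext ?_⟩
      · change (g' * g⁻¹) • (x : Ω) = z
        rw [← hga, mul_smul, inv_smul_smul, hga']
      · change (g' * g⁻¹) • (y : Ω) = w
        rw [← hgb, mul_smul, inv_smul_smul, hgb']
    have hHprim : MulAction.IsPreprimitive H F' := MulAction.isPreprimitive_of_is_two_pretransitive hH2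
    have hnorm : ∀ (Y : Subgroup H), Y.Normal → Y ≠ ⊥ → MulAction.IsPretransitive Y F' := by
      intro Y hY hYb
      apply MulAction.IsQuasiPreprimitive.isPretransitive_of_normal
      intro h
      apply hYb
      rw [Subgroup.eq_bot_iff_forall]
      intro y hy
      apply hfaith.eq_of_smul_eq_smul
      intro x
      have h3 : x ∈ MulAction.fixedPoints Y F' := h ▸ Set.mem_univ x
      rw [one_smul]
      exact h3 ⟨y, hy⟩
    have hFeven : 2 ∣ Nat.card F' := by
      have : Fintype F' := Fintype.ofFinite _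
      rw [Nat.card_eq_fintype_card]
      by_contra h
      obtain ⟨x, hx⟩ := Equiv.Perm.exists_fixed_point_of_prime (p := 2) (n := 1) h
        (σ := ((ψ sN : H) : Equiv.Perm F'))
        (by rw [pow_one, ← Subgroup.coe_pow, hs2]; rfl)
      exact hsne x hx
    have hObot : O = ⊥ := by
      by_contra h
      have := hnorm O hOn h
      have hdvd : Nat.card F' ∣ Nat.card O := by
        rw [← MulAction.index_stabilizer_of_transitive O (⟨a, haF⟩ : F')]
        exact Subgroup.index_dvd_card _
      exact hmodd (hOc ▸ hFeven.trans hdvd)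
    have hm1 : m = 1 := by rw [← hOc, hObot]; exact Subgroup.card_bot
    have hXne : X ≠ ⊥ := by
      intro h
      rw [h, Subgroup.card_bot] at hm
      omega
    have := hnorm X hXn hXne
    intro c hc
    obtain ⟨x, hx⟩ := MulAction.exists_smul_eq X (⟨a, haF⟩ : F') ⟨c, hc⟩
    have hX2 : x = 1 ∨ x = ⟨ψ sN, hsX⟩ := by
      by_cases h : x = 1
      · exact Or.inl h
      · right
        have h2 : Nat.card X = 2 := by omega
        obtain ⟨_, h3⟩ := (Nat.card_eq_two_iff' (1 : X)).mp h2
        exact (h3.2 x h).trans (h3.2 _ (fun hh => by simp [hh] at hsord)).symm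
    rcases hX2 with rfl | rfl
    · left
      exact (congrArg Subtype.val hx).symm.trans rfl
    · right
      exact (congrArg Subtype.val hx).symm.trans rfl
  -- the stabilizer of a in M is transitive on the other points
  have hkey : ∀ c, c ≠ a → ∃ m ∈ Ma, m • b = c := by
    intro c hc
    obtain ⟨g, hga, hgb⟩ := h2' hab hc.symm
    have hle : MulAut.conj g • T ≤ Ma := by
      have : MulAut.conj g • Ma = Ma := by rw [hMa, card_stab_conj M hMN, hga]
      rw [← this]
      exact Subgroup.pointwise_smul_le_pointwise_smul_iff.mpr hT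
    obtain ⟨m, hm, hmT⟩ := exists_conj_of_card Ma (MulAut.conj g • T) T hle hT (hcardconj g) hTcard
    have hh : m * g ∈ N := by
      rw [smul_smul, ← map_mul] at hmT
      rw [hN, Subgroup.mem_normalizer_iff]
      intro t
      conv_rhs => rw [← hmT, Subgroup.mem_pointwise_smul_iff_inv_smul_mem]
      simp [MulAut.smul_def, mul_assoc]
    have hha : (m * g) • a = a := by rw [mul_smul, hga]; exact hm.2
    rcases hFeq _ (hFinv _ hh b hbF) with h | h
    · exact absurd (MulAction.injective (m * g) (h.trans hha.symm)) hab.symm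
    · refine ⟨m⁻¹, Ma.inv_mem hm, ?_⟩
      rw [mul_smul, hgb] at h
      rw [← h, inv_smul_smul]
  rw [MulAction.is_two_pretransitive_iff]
  have hto : ∀ x y : Ω, x ≠ y → ∃ m : M, m • a = x ∧ m • b = y := by
    intro x y hxy
    obtain ⟨m, hm⟩ := hMt.exists_smul_eq a x
    obtain ⟨m', hm', hm'b⟩ := hkey (m⁻¹ • y) (by
      rintro h
      exact hxy (by rw [← hm, ← h, smul_inv_smul]))
    refine ⟨m * ⟨m', hm'.1⟩, ?_, ?_⟩
    · rw [mul_smul, show (⟨m', hm'.1⟩ : M) • a = a from hm'.2, hm]
    · rw [mul_smul, show (⟨m', hm'.1⟩ : M) • b = m⁻¹ • y from hm'b, smul_inv_smul]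
  intro x y z w hxy hzw
  obtain ⟨g, hgx, hgy⟩ := hto x y hxy
  obtain ⟨g', hgz, hgw⟩ := hto z w hzw
  exact ⟨g' * g⁻¹, by rw [← hgx, mul_smul, inv_smul_smul, hgz],
    by rw [← hgy, mul_smul, inv_smul_smul, hgw]⟩

theorem centralizer_eq_bot {G : Type*} [Group G] {Ω : Type*} [Fintype Ω] [MulAction G Ω]
    [FaithfulSMul G Ω] (hn2 : 2 < Fintype.card Ω) (M : Subgroup G)
    (h2 : MulAction.IsMultiplyPretransitive M Ω 2) :
    Subgroup.centralizer (M : Set G) = ⊥ := by
  classical
  rw [Subgroup.eq_bot_iff_forall]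
  intro c hc
  apply eq_of_smul_eq_smul (α := Ω)
  intro a
  rw [one_smul]
  by_contra hca
  obtain ⟨d, hd⟩ : ∃ d, d ∉ ({a, c • a} : Finset Ω) := by
    by_contra h
    push Not at h
    have := Finset.card_le_card (fun x (_ : x ∈ Finset.univ) => h x)
    have := Finset.card_le_two (a := a) (b := c • a)
    rw [Finset.card_univ] at *
    omega
  simp only [Finset.mem_insert, Finset.mem_singleton, not_or] at hd
  obtain ⟨m, hma, hmb⟩ := MulAction.is_two_pretransitive_iff.mp h2 (Ne.symm hca) (Ne.symm hd.1)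
  apply hd.2
  rw [← hmb]
  change (m : G) • c • a = c • a
  rw [smul_smul, Subgroup.mem_centralizer_iff.mp hc m m.2, mul_smul]
  exact congrArg (c • ·) hma

theorem exists_least_normal {G : Type*} [Group G] [Finite G] {Ω : Type*} [Fintype Ω] [MulAction G Ω]
    [FaithfulSMul G Ω] (h2 : MulAction.IsMultiplyPretransitive G Ω 2) (hn : Fintype.card Ω % 4 = 2)
    (hn2 : 2 < Fintype.card Ω) :
    ∃ M : Subgroup G, M.Normal ∧ M ≠ ⊥ ∧ (∀ N : Subgroup G, N.Normal → N ≠ ⊥ → M ≤ N) ∧
      MulAction.IsMultiplyPretransitive M Ω 2 ∧ Subgroup.centralizer (M : Set G) = ⊥ := by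
  have hnt : Nontrivial G := by
    by_contra h
    rw [not_nontrivial_iff_subsingleton] at h
    obtain ⟨a, b, hab⟩ := Fintype.exists_pair_of_one_lt_card (α := Ω) (by omega)
    obtain ⟨g, hg, hg'⟩ := MulAction.is_two_pretransitive_iff.mp h2 hab hab.symm
    rw [Subsingleton.elim g 1, one_smul] at hg
    exact hab hg
  obtain ⟨M, hM⟩ := (Set.toFinite {N : Subgroup G | N.Normal ∧ N ≠ ⊥}).exists_minimal
    ⟨⊤, inferInstance, top_ne_bot⟩
  have := hM.prop.1
  have hMt := normal_two_transitive h2 hn hn2 M hM.prop.2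
  have hC := centralizer_eq_bot hn2 M hMt
  refine ⟨M, this, hM.prop.2, ?_, hMt, hC⟩
  intro N hN hNb
  by_contra hle
  have hinf : M ⊓ N = ⊥ := by
    by_contra h
    exact hle ((hM.le_of_le ⟨inferInstance, h⟩ inf_le_left).trans inf_le_right)
  apply hNb
  rw [eq_bot_iff, ← hC]
  intro x hx
  rw [Subgroup.mem_centralizer_iff]
  intro m hm
  exact Subgroup.commute_of_normal_of_disjoint M N this hN (disjoint_iff.mpr hinf) m x hm hx

/-- Let G be a doubly transitive permutation group on a finite set Ω with |Ω| ≡ 2 mod 4 and |Ω| > 2. Then G has a unique minimal normal subgroup M (a nontrivial normal subgroup contained in every nontrivial normal subgroup); M is simple and doubly transitive on Ω, and its centralizer in G is trivial (so G embeds in Aut(M)). -/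
theorem result {G : Type*} [Group G] [Finite G] {Ω : Type*} [Fintype Ω] [MulAction G Ω] [FaithfulSMul G Ω]
    (h2 : MulAction.IsMultiplyPretransitive G Ω 2) (hn : Fintype.card Ω % 4 = 2) (hn2 : 2 < Fintype.card Ω) :
    ∃ M : Subgroup G, M.Normal ∧ M ≠ ⊥ ∧ (∀ N : Subgroup G, N.Normal → N ≠ ⊥ → M ≤ N) ∧
      IsSimpleGroup ↥M ∧ MulAction.IsMultiplyPretransitive ↥M Ω 2 ∧ Subgroup.centralizer (M : Set G) = ⊥ := by
  obtain ⟨M, hMn, hMb, hmin, hM2, hC⟩ := exists_least_normal h2 hn hn2
  refine ⟨M, hMn, hMb, hmin, ?_, hM2, hC⟩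
  obtain ⟨K, hKn, hKb, hKmin, -, -⟩ := exists_least_normal (G := M) hM2 hn hn2
  -- K is normal in G
  have hKG : (K.map M.subtype).Normal := by
    constructor
    rintro _ ⟨k, hk, rfl⟩ g
    let e : M ≃* M := MulAut.conjNormal g
    have h1 : (K.map e.toMonoidHom).Normal := hKn.map _ e.surjective
    have h2 : K.map e.toMonoidHom ≠ ⊥ := by
      exact fun h => hKb ((Subgroup.map_eq_bot_iff_of_injective K (f := e.toMonoidHom) e.injective).mp h)
    have h3 : K = K.map e.toMonoidHom := Subgroup.eq_of_le_of_card_ge (hKmin _ h1 h2)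
      (le_of_eq (Nat.card_congr (K.equivMapOfInjective _ e.injective).toEquiv).symm)
    refine ⟨e k, ?_, MulAut.conjNormal_apply g k⟩
    rw [h3]
    exact Subgroup.mem_map_of_mem _ hk
  have hKtop : K = ⊤ := by
    rw [eq_top_iff]
    intro x _
    have := hmin _ hKG (by rwa [Ne, Subgroup.map_eq_bot_iff_of_injective _ M.subtype_injective]) x.2
    obtain ⟨k, hk, hkx⟩ := this
    rwa [← Subtype.ext hkx]
  have : Nontrivial M := (Subgroup.nontrivial_iff_ne_bot M).mpr hMb
  exact ⟨fun N hN => or_iff_not_imp_left.mpr fun hNb => top_le_iff.mp (hKtop ▸ hKmin N hN hNb)⟩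

end Cfsg.Agent.S3401
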