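import Cfsg.Statements.S3412
import Cfsg.Agent.Lib.CommGraph.L33
import Cfsg.Agent.Lib.Linear.Simple

set_option autoImplicit false
open Cfsg

namespace Cfsg.Agent.S3412

/-- Let H be a finite group whose commuting graph (vertices the non-identity elements, two joined when they commute) is isomorphic to that of PSL_3(3): there is a bijection between the non-identity elements of H and of PSL_3(3) under which two elements commute exactly when their images do. Then H ≅ PSL_3(3). -/
theorem result {H : Type*} [Group H] [Finite H]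
    (f : {h : H // h ≠ 1} ≃ {g : Matrix.ProjectiveSpecialLinearGroup (Fin 3) (ZMod 3) // g ≠ 1})
    (hf : ∀ x y : {h : H // h ≠ 1}, (x : H) * y = y * x ↔ ((f x) : Matrix.ProjectiveSpecialLinearGroup (Fin 3) (ZMod 3)) * (f y) = (f y) * (f x)) :
    Nonempty (H ≃* Matrix.ProjectiveSpecialLinearGroup (Fin 3) (ZMod 3)) := by
  classical
  have hbot : Subgroup.center (Matrix.SpecialLinearGroup (Fin 3) (ZMod 3)) = ⊥ := by
    rw [← Subgroup.card_eq_one, CfsgLib.Linear.card_center_SL]
    simp
  obtain ⟨F, hF1, hF⟩ := CfsgLib.CommGraph.exists_extend f hf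
  let e : Matrix.ProjectiveSpecialLinearGroup (Fin 3) (ZMod 3) ≃*
      Matrix.SpecialLinearGroup (Fin 3) (ZMod 3) :=
    (QuotientGroup.quotientMulEquivOfEq hbot).trans QuotientGroup.quotientBot
  obtain ⟨a, ha⟩ := CfsgLib.CommGraph.l33_exists_hom (F.trans e.toEquiv)
    (by simp [hF1]) fun x y => by
      refine (hF x y).trans ?_
      show _ ↔ e (F x) * e (F y) = e (F y) * e (F x)
      rw [← map_mul e, ← map_mul e]
      exact e.injective.eq_iff.symm
  obtain ⟨b, hb⟩ := CfsgLib.CommGraph.l33_exists_hom
    (Equiv.refl (Matrix.SpecialLinearGroup (Fin 3) (ZMod 3))) rfl fun _ _ => Iff.rfl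
  have hc := CfsgLib.CommGraph.l33_card
  have hcH : Nat.card H = 16 * 351 := (Nat.card_congr (F.trans e.toEquiv)).trans hc
  have hra : Nat.card a.range = 16 * 351 := by
    rw [← hcH]; exact (Nat.card_congr (MonoidHom.ofInjective ha).toEquiv).symm
  have hrb : Nat.card b.range = 16 * 351 := by
    rw [← hc]; exact (Nat.card_congr (MonoidHom.ofInjective hb).toEquiv).symm
  have hidx : a.range.index ≤ 2 := by
    have h1 := a.range.index_mul_card
    have h2 := CfsgLib.CommGraph.l33_rigid
    rw [hra] at h1
    omega
  have hpos : a.range.index ≠ 0 := Subgroup.index_ne_zero_of_finite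
  have hcomm : ∀ x y, x * y * x⁻¹ * y⁻¹ ∈ a.range := by
    intro x y
    rcases (show a.range.index = 1 ∨ a.range.index = 2 by omega) with h | h
    · rw [Subgroup.index_eq_one.1 h]; trivial
    · simp only [Subgroup.mul_mem_iff_of_index_two h, inv_mem_iff]
      tauto
  have hle : b.range ≤ a.range := by
    rw [MonoidHom.range_eq_map, ← CfsgLib.Linear.commutator_SL_eq_top (n := Fin 3) (F := ZMod 3)
      (Or.inl (by simp)), commutator_def, Subgroup.map_commutator, Subgroup.commutator_le]
    intro x _ y _
    exact hcomm x y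
  have heq : b.range = a.range := Subgroup.eq_of_le_of_card_ge hle (by rw [hra, hrb])
  exact ⟨((MonoidHom.ofInjective ha).trans ((MulEquiv.subgroupCongr heq.symm).trans
    (MonoidHom.ofInjective hb).symm)).trans e.symm⟩

end Cfsg.Agent.S3412
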