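import Cfsg.Statements.S3413
import Cfsg.Agent.Lib.CommGraph.M11

set_option autoImplicit false
open Cfsg

namespace Cfsg.Agent.S3413

/-- Let H be a finite group whose commuting graph (vertices the non-identity elements, two joined when they commute) is isomorphic to that of the Mathieu group M_11: there is a bijection between the non-identity elements of H and of M_11 under which two elements commute exactly when their images do. Then H ≅ M_11. -/
theorem result {H : Type*} [Group H] [Finite H]
    (f : {h : H // h ≠ 1} ≃ {g : ↥Cfsg.Spor.M11 // g ≠ 1})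
    (hf : ∀ x y : {h : H // h ≠ 1}, (x : H) * y = y * x ↔ ((f x) : ↥Cfsg.Spor.M11) * (f y) = (f y) * (f x)) :
    Nonempty (H ≃* ↥Cfsg.Spor.M11) := by
  classical
  obtain ⟨F, hF1, hF⟩ := CfsgLib.CommGraph.exists_extend f hf
  obtain ⟨a, ha⟩ := CfsgLib.CommGraph.m11_exists_hom F hF1 hF
  obtain ⟨b, hb⟩ := CfsgLib.CommGraph.m11_exists_hom (Equiv.refl ↥Cfsg.Spor.M11) rfl fun _ _ => Iff.rfl
  have hc := CfsgLib.FusionCert.Mathieu.card_M11
  have hb' : Function.Bijective b := hb.bijective_of_nat_card_le (by
    rw [hc]; exact CfsgLib.CommGraph.m11_rigid)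
  have ha' : Function.Bijective a := ha.bijective_of_nat_card_le (by
    rw [Nat.card_congr F, hc]; exact CfsgLib.CommGraph.m11_rigid)
  exact ⟨(MulEquiv.ofBijective a ha').trans (MulEquiv.ofBijective b hb').symm⟩

end Cfsg.Agent.S3413
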