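import Cfsg.Statements.S3419
import Cfsg.Agent.Lib.AltSpec.BigPrimes
import Mathlib.Tactic

set_option autoImplicit false
open Cfsg

namespace Cfsg.Agent.S3419

/-- Let n ≥ 5 and let G be a finite group with the same order and the same set of element orders as the alternating group of degree n. Then G is not solvable. -/
theorem result {G : Type*} [Group G] [Finite G] (n : ℕ) (hn : 5 ≤ n)
    (hcard : Nat.card G = Nat.card ↥(alternatingGroup (Fin n)))
    (hspec : Set.range (orderOf : G → ℕ) = Set.range (orderOf : ↥(alternatingGroup (Fin n)) → ℕ)) :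
    ¬ Group.IsSolvable G := by
  classical
  intro hs
  have hA : ∀ k, 2 ≤ k → 2 * Nat.card (alternatingGroup (Fin k)) = k.factorial := fun k hk => by
    have : Nontrivial (Fin k) := Fin.nontrivial_iff_two_le.mpr hk
    rw [two_mul_nat_card_alternatingGroup, Nat.card_perm, Nat.card_fin]
  by_cases h610 : n = 6 ∨ n = 10
  · rcases h610 with rfl | rfl
    · have h := hA 6 (by norm_num)
      rw [← hcard, show Nat.factorial 6 = 2 * (3 ^ 2 * 5 * 8) by decide] at h
      exact CfsgLib.AltSpec.not_solvable_of_small (p := 3) (q := 5) (m := 8) (by norm_num) (by norm_num) (by norm_num)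
        (by norm_num) (by norm_num) (by intro d hd h1; have := Nat.le_of_dvd (by norm_num) hd; interval_cases d <;> omega)
        (by omega) (by norm_num) hspec hs
    · have h := hA 10 (by norm_num)
      rw [← hcard, show Nat.factorial 10 = 2 * (5 ^ 2 * 7 * 10368) by decide] at h
      exact CfsgLib.AltSpec.not_solvable_of_small (p := 5) (q := 7) (m := 10368) (by norm_num) (by norm_num) (by norm_num)
        (by norm_num) (by norm_num) (by intro d hd h1; have := Nat.le_of_dvd (by norm_num) hd; interval_cases d <;> omega)
        (by omega) (by norm_num) hspec hs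
  have htwo : CfsgLib.AltSpec.TwoPrimesIn n := by
    by_cases h11 : 11 ≤ n
    · exact CfsgLib.AltSpec.exists_two_primes n h11
    push Not at h610 h11
    obtain ⟨h6, h10⟩ := h610
    by_cases h7 : n < 7
    · exact ⟨3, 5, by norm_num, by norm_num, by norm_num, by omega, hn⟩
    · exact ⟨5, 7, by norm_num, by norm_num, by norm_num, by omega, by omega⟩
  obtain ⟨N, H, hN, -, -, hsimple, hnc, -⟩ := CfsgLib.AltSpec.simple_factor_big_primes hn htwo hcard hspec
  exact hnc ⟨⟨IsSimpleGroup.comm_iff_isSolvable.mpr inferInstance⟩⟩

end Cfsg.Agent.S3419
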