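import Cfsg.Statements.S3421
import Cfsg.Agent.Lib.PSL2Spec.Main
import Cfsg.Agent.S2475
-- import your own Cfsg.Agent.* helpers here

set_option autoImplicit false
open Cfsg

namespace Cfsg.Agent.S3421

/-- Let F be a finite field with more than 3 elements. A finite group G is isomorphic to PSL(2, F) if and only if G has the same set of element orders and the same order as PSL(2, F). -/
theorem result {G : Type*} [Group G] [Finite G] {F : Type*} [Field F] [Fintype F] (hF : 3 < Fintype.card F) :
    Nonempty (G ≃* Matrix.ProjectiveSpecialLinearGroup (Fin 2) F) ↔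
      (Set.range (orderOf : G → ℕ) = Set.range (orderOf : Matrix.ProjectiveSpecialLinearGroup (Fin 2) F → ℕ) ∧
        Nat.card G = Nat.card (Matrix.ProjectiveSpecialLinearGroup (Fin 2) F)) := by
  constructor
  · rintro ⟨φ⟩
    refine ⟨?_, Nat.card_congr φ.toEquiv⟩
    ext m
    constructor
    · rintro ⟨x, rfl⟩; exact ⟨φ x, φ.orderOf_eq x⟩
    · rintro ⟨x, rfl⟩; exact ⟨φ.symm x, φ.symm.orderOf_eq x⟩
  · rintro ⟨hord, hcard⟩
    obtain ⟨p, hp⟩ := CharP.exists F
    haveI : Fact p.Prime := ⟨CharP.char_is_prime F p⟩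
    rw [Cfsg.Agent.S2475.result p hF] at hord
    rcases eq_or_ne p 2 with rfl | hp2
    · exact CfsgLib.PSL2Spec.nonempty_equiv_even hF hord hcard
    · exact CfsgLib.PSL2Spec.nonempty_equiv_odd hp2 hF hord hcard

end Cfsg.Agent.S3421
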