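import Cfsg.Statements.S3427
import Cfsg.Agent.Lib.UThreeRecog.Recog
import Cfsg.Agent.Lib.UThreeRecog.Outer
import Cfsg.Agent.Lib.Chev.OrderCases
import Cfsg.Agent.Lib.Chev.Comm
import Cfsg.Agent.Lib.Steinberg.KerTorus

set_option autoImplicit false
open Cfsg

namespace Cfsg.Agent.S3427

open CfsgLib.UThreeRecog

theorem sparse_chev {F : Type*} [Field F] [Fintype F] (hF : Fintype.card F = 2) :
    Nat.card ↥(Cfsg.Lie.chevG2.group F) = 12096 ∧ Sparse ↥(Cfsg.Lie.chevG2.group F) := by
  classical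
  have hM : Nat.card ↥(Cfsg.Lie.chevG2.group F) = 12096 := (CfsgLib.Chev.card_group_G2 hF).trans (by norm_num)
  have : Finite ↥(Cfsg.Lie.chevG2.group F) := Nat.finite_of_card_ne_zero (by rw [hM]; norm_num)
  have : Fact (Nat.Prime 3) := ⟨Nat.prime_three⟩
  have := Fintype.ofFinite (GaloisField 3 2)
  have hK : Fintype.card (GaloisField 3 2) = 9 := by
    rw [← Nat.card_eq_fintype_card, GaloisField.card 3 2 two_ne_zero]; norm_num
  obtain ⟨e⟩ := CfsgLib.Chev.G2Small.derived_equiv (K := GaloisField 3 2) hF hK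
  let D := commutator ↥(Cfsg.Lie.chevG2.group F)
  have hD : Nat.card D = 6048 := (Nat.card_congr e.toEquiv).trans (card_psu_three_three hK)
  have hsD : Sparse D := by
    have h := sparse_psu hK
    exact ⟨fun g => (e.orderOf_eq g) ▸ h.nine _, fun g => (e.orderOf_eq g) ▸ h.fourteen _,
      fun g => (e.orderOf_eq g) ▸ h.twentyone _⟩
  have := simple_psu_three_three hK
  have : IsSimpleGroup D := e.isSimpleGroup
  have hi : D.index = 2 := by
    have := D.card_mul_index; rw [hD, hM] at this; omega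
  have hodd : ∀ g : ↥(Cfsg.Lie.chevG2.group F), ¬ 2 ∣ orderOf g →
      ∃ d : D, orderOf d = orderOf g := fun g hg =>
    ⟨⟨g * g, Subgroup.mul_self_mem_of_index_two hi g⟩, by
      rw [Subgroup.orderOf_mk, ← pow_two]
      exact Nat.Coprime.orderOf_pow ((Nat.Prime.coprime_iff_not_dvd Nat.prime_two).2 hg).symm⟩
  refine ⟨hM, fun g hg => ?_, fun g hg => ?_, fun g hg => ?_⟩
  · obtain ⟨d, hd⟩ := hodd g (by rw [hg]; norm_num)
    exact hsD.nine d (hd.trans hg)
  · have hs : orderOf (g ^ 7) = 2 := by rw [orderOf_pow, hg]; norm_num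
    have hu : orderOf (g ^ 2) = 7 := by rw [orderOf_pow, hg]; norm_num
    let u : D := ⟨g ^ 2, by rw [pow_two]; exact Subgroup.mul_self_mem_of_index_two hi g⟩
    have hs2 : g ^ 7 * g ^ 7 = 1 := by rw [← pow_two, ← hs, pow_orderOf_eq_one]
    have hu' : orderOf u = 7 := by rw [← Subgroup.orderOf_coe]; exact hu
    have hsn : g ^ 7 ∉ D := fun hm => hsD.not_commute_seven (Or.inl rfl) hu'
      (x := ⟨g ^ 7, hm⟩) (by rw [← Subgroup.orderOf_coe]; exact hs) (Subtype.ext ((Commute.refl g).pow_pow 2 7))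
    have hα := aut_eq_one hD hsD (MulAut.conjNormal (g ^ 7))
      (by rw [← map_mul, hs2, map_one]) hu'
      (Subtype.ext (by
        rw [MulAut.conjNormal_apply]
        show g ^ 7 * g ^ 2 * (g ^ 7)⁻¹ = g ^ 2
        rw [((Commute.refl g).pow_pow 7 2).eq, mul_inv_cancel_right]))
    have hcD : ∀ d ∈ D, d * g ^ 7 = g ^ 7 * d := fun d hd => by
      have h2 := congrArg Subtype.val (DFunLike.congr_fun hα (⟨d, hd⟩ : D))
      rw [MulAut.conjNormal_apply] at h2
      exact (mul_inv_eq_iff_eq_mul.1 h2).symm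
    have hcen : ∀ m : ↥(Cfsg.Lie.chevG2.group F), m * g ^ 7 = g ^ 7 * m := fun m => by
      by_cases hm : m ∈ D
      · exact hcD m hm
      · have h2 := hcD _ ((Subgroup.mul_mem_iff_of_index_two hi).2 (iff_of_false hsn hm))
        exact mul_left_cancel (a := g ^ 7) (by rw [← mul_assoc, h2])
    obtain ⟨T, hc, hcomm⟩ := CfsgLib.Chev.exists_checked' (D := Cfsg.Lie.chevG2) (by simp)
    have h1 := CfsgLib.Steinberg.group_center_trivial (K := F) hc hcomm (g ^ 7).2
      (fun k hk => congrArg Subtype.val (hcen ⟨k, hk⟩))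
    rw [show g ^ 7 = 1 from Subtype.ext h1, orderOf_one] at hs
    norm_num at hs
  · obtain ⟨d, hd⟩ := hodd g (by rw [hg]; norm_num)
    exact hsD.twentyone d (hd.trans hg)

/-- Let F be the field with 2 elements and let M be the Chevalley group of type G₂ over F (a non-simple group of order 12096 whose derived subgroup, of index 2, is isomorphic to PSU(3, 3)). A finite group G is isomorphic to M if and only if G has the same set of element orders and the same order as M. -/
theorem result {G : Type*} [Group G] [Finite G] {F : Type*} [Field F] [Fintype F] (hF : Fintype.card F = 2) :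
    Nonempty (G ≃* ↥(Cfsg.Lie.chevG2.group F)) ↔
      (Set.range (orderOf : G → ℕ) = Set.range (orderOf : ↥(Cfsg.Lie.chevG2.group F) → ℕ) ∧ Nat.card G = Nat.card ↥(Cfsg.Lie.chevG2.group F)) := by
  classical
  obtain ⟨hM, hsM⟩ := sparse_chev hF
  constructor
  · rintro ⟨e⟩
    refine ⟨?_, Nat.card_congr e.toEquiv⟩
    rw [← e.surjective.range_comp (orderOf : ↥(Cfsg.Lie.chevG2.group F) → ℕ)]
    exact congrArg Set.range (funext fun g => (e.orderOf_eq g).symm)
  · rintro ⟨hr, hc⟩
    have hnot : ∀ n : ℕ, (∀ m : ↥(Cfsg.Lie.chevG2.group F), orderOf m ≠ n) → ∀ g : G, orderOf g ≠ n :=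
      fun n hn g hg => by
        obtain ⟨m, hm⟩ := hr ▸ (show n ∈ Set.range (orderOf : G → ℕ) from ⟨g, hg⟩)
        exact hn m hm
    have hsG : Sparse G := ⟨hnot 9 hsM.nine, hnot 14 hsM.fourteen, hnot 21 hsM.twentyone⟩
    have : Finite ↥(Cfsg.Lie.chevG2.group F) := Nat.finite_of_card_ne_zero (by rw [hM]; norm_num)
    have : Fact (Nat.Prime 3) := ⟨Nat.prime_three⟩
    have := Fintype.ofFinite (GaloisField 3 2)
    have hK : Fintype.card (GaloisField 3 2) = 9 := by
      rw [← Nat.card_eq_fintype_card, GaloisField.card 3 2 two_ne_zero]; norm_num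
    obtain ⟨a⟩ := nonempty_equiv_aut (hc.trans hM) hsG hK
    obtain ⟨b⟩ := nonempty_equiv_aut hM hsM hK
    exact ⟨a.trans b.symm⟩

end Cfsg.Agent.S3427
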