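import Cfsg.Statements.S3430
import Mathlib
import Cfsg.Agent.Lib.Zsigmondy.Basic

set_option autoImplicit false
open Cfsg

namespace Cfsg.Agent.S3430

open CfsgLib.Zsigmondy

theorem cyclotomicValue_two (a : ℕ) : cyclotomicValue a 2 = a + 1 := by
  rw [cyclotomicValue, Polynomial.cyclotomic_two]
  simp only [Polynomial.eval_add, Polynomial.eval_X, Polynomial.eval_one]
  omega

theorem cyclotomicValue_reduce (d : ℕ) : ∀ (t : ℕ), 0 < t → ∀ a : ℕ,
    (∀ s : ℕ, s.Prime → s ∣ t → s ∣ d) → cyclotomicValue a (d * t) = cyclotomicValue (a ^ t) d := by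
  intro t
  induction t using Nat.strong_induction_on with
  | _ t ih =>
    intro ht a h
    by_cases h1 : t = 1
    · subst h1; simp
    obtain ⟨s, hs, c, rfl⟩ := Nat.exists_prime_and_dvd h1
    have hc0 : 0 < c := Nat.pos_of_ne_zero fun h0 => by simp [h0] at ht
    rw [show d * (s * c) = d * c * s by ring,
      cyclotomicValue_mul_of_dvd a hs ((h s hs (dvd_mul_right s c)).mul_right c),
      ih c (lt_mul_of_one_lt_left hc0 hs.one_lt) hc0 (a ^ s) (fun u hu hd => h u hu (hd.mul_left s)),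
      ← pow_mul]

theorem cyclotomicValue_lower {a m r : ℕ} (ha : 2 ≤ a) (hm : 2 ≤ m) (hr : r.Prime) (hr3 : 3 ≤ r)
    (hrm : ¬ r ∣ m) : (a ^ (r - 2) * (a - 1)) ^ m.totient ≤ cyclotomicValue a (m * r) := by
  have h1 := cyclotomicValue_mul_of_not_dvd a hr hrm
  have h2 : 2 ≤ a ^ r := ha.trans (Nat.le_self_pow hr.ne_zero a)
  have h3 := sub_one_pow_totient_lt (a := a ^ r) (n := m) (by omega) (by omega)
  have h4 := le_add_one_pow_totient (a := a) (by omega) m
  have h5 : a ^ (r - 2) * (a - 1) * (a + 1) ≤ a ^ r - 1 := by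
    have e : (a - 1) * (a + 1) = a ^ 2 - 1 := by
      rw [mul_comm, show a ^ 2 - 1 = (a + 1) * (a - 1) by simpa using Nat.sq_sub_sq a 1]
    rw [mul_assoc, e, Nat.mul_sub_one, ← pow_add, show r - 2 + 2 = r by omega]
    have : 1 ≤ a ^ (r - 2) := Nat.one_le_pow _ _ (by omega)
    omega
  refine Nat.le_of_mul_le_mul_right (c := (a + 1) ^ m.totient) ?_ (pow_pos (by omega) _)
  calc (a ^ (r - 2) * (a - 1)) ^ m.totient * (a + 1) ^ m.totient
      = (a ^ (r - 2) * (a - 1) * (a + 1)) ^ m.totient := (mul_pow _ _ _).symm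
    _ ≤ (a ^ r - 1) ^ m.totient := Nat.pow_le_pow_left h5 _
    _ ≤ cyclotomicValue a (m * r) * cyclotomicValue a m := by rw [h1]; exact h3.le
    _ ≤ _ := Nat.mul_le_mul_left _ h4

theorem prod_primes_le : ∀ S : Finset ℕ, (∀ s ∈ S, s.Prime ∧ 3 ≤ s) →
    (∏ s ∈ S, s) ≤ 2 ^ (∏ s ∈ S, (s - 1)) ∧ (S.Nonempty → 2 ≤ ∏ s ∈ S, (s - 1)) := by
  intro S
  induction S using Finset.induction_on with
  | empty => intro _; simp
  | @insert p S hp ih =>
    intro h
    obtain ⟨-, hp3⟩ := h p (Finset.mem_insert_self p S)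
    obtain ⟨ih1, ih2⟩ := ih (fun s hs => h s (Finset.mem_insert_of_mem hs))
    rw [Finset.prod_insert hp, Finset.prod_insert hp]
    have hpos : 1 ≤ ∏ s ∈ S, (s - 1) := Finset.one_le_prod' fun s hs => by
      have := (h s (Finset.mem_insert_of_mem hs)).2
      omega
    refine ⟨?_, fun _ => le_trans (show 2 ≤ p - 1 by omega) (Nat.le_mul_of_pos_right _ hpos)⟩
    rcases S.eq_empty_or_nonempty with rfl | hne
    · simp only [Finset.prod_empty, mul_one]
      have := Nat.lt_two_pow_self (n := p - 1)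
      omega
    · have hA := ih2 hne
      have h2 := Nat.lt_two_pow_self (n := p - 1)
      have h3 : p ≤ 2 ^ ((p - 2) * ∏ s ∈ S, (s - 1)) :=
        le_trans (show p ≤ 2 ^ (p - 1) by omega) (Nat.pow_le_pow_right (by norm_num) (le_trans (show p - 1 ≤ (p - 2) * 2 by omega) (Nat.mul_le_mul_left _ hA)))
      calc p * ∏ s ∈ S, s ≤ 2 ^ ((p - 2) * ∏ s ∈ S, (s - 1)) * 2 ^ (∏ s ∈ S, (s - 1)) := Nat.mul_le_mul h3 ih1
        _ = 2 ^ ((p - 1) * ∏ s ∈ S, (s - 1)) := by
            rw [← pow_add, show p - 1 = (p - 2) + 1 by omega, add_mul, one_mul]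

theorem totient_prod_primes : ∀ S : Finset ℕ, (∀ s ∈ S, s.Prime) →
    (∏ s ∈ S, s).totient = ∏ s ∈ S, (s - 1) := by
  intro S
  induction S using Finset.induction_on with
  | empty => intro _; simp
  | @insert p S hp ih =>
    intro h
    have hpp := h p (Finset.mem_insert_self p S)
    rw [Finset.prod_insert hp, Finset.prod_insert hp, Nat.totient_mul, Nat.totient_prime hpp,
      ih (fun s hs => h s (Finset.mem_insert_of_mem hs))]
    rw [hpp.coprime_iff_not_dvd]
    intro hd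
    obtain ⟨s, hs, hps⟩ := (hpp.prime.dvd_finsetProd_iff _).mp hd
    exact hp ((Nat.prime_dvd_prime_iff_eq hpp (h s (Finset.mem_insert_of_mem hs))).mp hps ▸ hs)

/-- The growth in the exponent. -/
theorem growth {r m x t₀ : ℕ} (hr : 3 ≤ r) (hx : 1 ≤ x) (ht₀ : 1 ≤ t₀)
    (h : (t₀ * m * r + 1) * r < ((2 ^ t₀) ^ (r - 2) * (2 ^ t₀ - 1)) ^ x) :
    ∀ t, t₀ ≤ t → (t * m * r + 1) * r < ((2 ^ t) ^ (r - 2) * (2 ^ t - 1)) ^ x := by
  intro t ht
  induction t, ht using Nat.le_induction with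
  | base => exact h
  | succ t ht ih =>
    have h1 : ((t + 1) * m * r + 1) * r ≤ 2 * ((t * m * r + 1) * r) := by
      have : m * r ≤ t * m * r := Nat.mul_le_mul_right r (Nat.le_mul_of_pos_left m (by omega))
      calc ((t + 1) * m * r + 1) * r ≤ (2 * (t * m * r + 1)) * r := Nat.mul_le_mul_right r (by
            rw [show (t + 1) * m * r = t * m * r + m * r by ring]; omega)
        _ = _ := by ring
    have h2 : 2 * ((2 ^ t) ^ (r - 2) * (2 ^ t - 1)) ≤ (2 ^ (t + 1)) ^ (r - 2) * (2 ^ (t + 1) - 1) := by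
      rw [mul_left_comm]
      refine Nat.mul_le_mul (Nat.pow_le_pow_left (Nat.pow_le_pow_right (by norm_num) (by omega)) _) ?_
      have := Nat.one_le_two_pow (n := t)
      rw [pow_succ]; omega
    calc ((t + 1) * m * r + 1) * r ≤ 2 * ((t * m * r + 1) * r) := h1
      _ < 2 * ((2 ^ t) ^ (r - 2) * (2 ^ t - 1)) ^ x := by omega
      _ ≤ 2 ^ x * ((2 ^ t) ^ (r - 2) * (2 ^ t - 1)) ^ x := Nat.mul_le_mul_right _ (Nat.le_self_pow (by omega) 2)
      _ = (2 * ((2 ^ t) ^ (r - 2) * (2 ^ t - 1))) ^ x := (mul_pow _ _ _).symm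
      _ ≤ _ := Nat.pow_le_pow_left h2 _

theorem mono_base {a q t r x : ℕ} (ha : a ≤ q) :
    ((a ^ t) ^ (r - 2) * (a ^ t - 1)) ^ x ≤ ((q ^ t) ^ (r - 2) * (q ^ t - 1)) ^ x :=
  Nat.pow_le_pow_left (Nat.mul_le_mul (Nat.pow_le_pow_left (Nat.pow_le_pow_left ha t) _)
    (Nat.sub_le_sub_right (Nat.pow_le_pow_left ha t) 1)) _

theorem three_mul_sq_lt_two_pow : ∀ j : ℕ, 3 * (j + 13) ^ 2 < 2 ^ (j + 10) := by
  intro j
  induction j with
  | zero => norm_num
  | succ j ih =>
    rw [show j + 1 + 10 = (j + 10) + 1 by omega, pow_succ 2 (j + 10)]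
    have : 3 * (j + 1 + 13) ^ 2 ≤ 2 * (3 * (j + 13) ^ 2) := by ring_nf; omega
    omega

theorem dvd_six_cases {m : ℕ} (h : m ∣ 6) (h2 : 2 ∣ m) : m = 2 ∨ m = 6 := by
  have : m ∈ ({1, 2, 3, 6} : Finset ℕ) := by
    rw [← show Nat.divisors 6 = {1, 2, 3, 6} from by decide]; exact Nat.mem_divisors.mpr ⟨h, by norm_num⟩
  simp only [Finset.mem_insert, Finset.mem_singleton] at this
  omega

theorem dvd_thirty_cases {m : ℕ} (h : m ∣ 30) (h2 : 2 ∣ m) : m = 2 ∨ m = 6 ∨ m = 10 ∨ m = 30 := by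
  have : m ∈ ({1, 2, 3, 5, 6, 10, 15, 30} : Finset ℕ) := by
    rw [← show Nat.divisors 30 = {1, 2, 3, 5, 6, 10, 15, 30} from by decide]
    exact Nat.mem_divisors.mpr ⟨h, by norm_num⟩
  simp only [Finset.mem_insert, Finset.mem_singleton] at this
  omega

theorem dvd_twoten_cases {m : ℕ} (h : m ∣ 210) (h2 : 2 ∣ m) :
    m = 2 ∨ m = 6 ∨ m = 10 ∨ m = 14 ∨ m = 30 ∨ m = 42 ∨ m = 70 ∨ m = 210 := by
  obtain ⟨c, rfl⟩ := h2
  have hc : c ∣ 105 := by
    have h' : 2 * c ∣ 2 * 105 := h
    exact Nat.dvd_of_mul_dvd_mul_left (by norm_num) h'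
  have : c ∈ ({1, 3, 5, 7, 15, 21, 35, 105} : Finset ℕ) := by
    rw [← show Nat.divisors 105 = {1, 3, 5, 7, 15, 21, 35, 105} from by decide +kernel]
    exact Nat.mem_divisors.mpr ⟨hc, by norm_num⟩
  simp only [Finset.mem_insert, Finset.mem_singleton] at this
  omega

theorem value_six_four : cyclotomicValue 4 6 = 13 := by
  have h := cyclotomicValue_mul_of_not_dvd 4 Nat.prime_three (show ¬ (3 ∣ 2) by norm_num)
  rw [cyclotomicValue_two, cyclotomicValue_two] at h
  norm_num at h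
  omega

theorem value_ten_three : cyclotomicValue 3 10 = 61 := by
  have h := cyclotomicValue_mul_of_not_dvd 3 Nat.prime_five (show ¬ (5 ∣ 2) by norm_num)
  rw [cyclotomicValue_two, cyclotomicValue_two] at h
  norm_num at h
  omega

theorem value_thirty_two : cyclotomicValue 2 30 = 331 := by
  have h := cyclotomicValue_mul_of_not_dvd 2 Nat.prime_five (show ¬ (5 ∣ 6) by norm_num)
  have h1 := cyclotomicValue_mul_of_not_dvd 2 Nat.prime_three (show ¬ (3 ∣ 2) by norm_num)
  have h2 := cyclotomicValue_mul_of_not_dvd (2 ^ 5) Nat.prime_three (show ¬ (3 ∣ 2) by norm_num)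
  simp only [cyclotomicValue_two] at h1 h2
  norm_num at h h1 h2
  have h3 : cyclotomicValue 2 6 = 3 := by omega
  have h4 : cyclotomicValue 32 6 = 993 := by omega
  rw [h3, h4] at h
  omega


/-- Let q, n ≥ 2 be integers. Unless (n = 2 and q + 1 = 2^s·3^t for some s ≥ 0 and t ≤ 1), or (q = 2 and n ∈ {4, 6, 10, 12, 18}), or (q = 3 and n ∈ {4, 6}), or (q, n) = (5, 6), there is a prime p dividing q^n − 1 but no q^i − 1 with 1 ≤ i < n (a primitive prime divisor), such that p > n + 1 or p² divides q^n − 1. -/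
theorem result (q n : ℕ) (hq : 2 ≤ q) (hn : 2 ≤ n)
    (h1 : ¬ (n = 2 ∧ ∃ s t : ℕ, t ≤ 1 ∧ q + 1 = 2 ^ s * 3 ^ t))
    (h2 : ¬ (q = 2 ∧ (n = 4 ∨ n = 6 ∨ n = 10 ∨ n = 12 ∨ n = 18)))
    (h3 : ¬ (q = 3 ∧ (n = 4 ∨ n = 6))) (h4 : ¬ (q = 5 ∧ n = 6)) :
    ∃ p : ℕ, p.Prime ∧ p ∣ q ^ n - 1 ∧ (∀ i : ℕ, 1 ≤ i → i < n → ¬ p ∣ q ^ i - 1) ∧ (n + 1 < p ∨ p ^ 2 ∣ q ^ n - 1) := by
  by_contra hcon
  have hno : ∀ p : ℕ, p.Prime → p ∣ q ^ n - 1 → (∀ i : ℕ, 1 ≤ i → i < n → ¬ p ∣ q ^ i - 1) →
      p ≤ n + 1 ∧ ¬ p ^ 2 ∣ q ^ n - 1 := fun p hp hd hmin =>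
    ⟨le_of_not_gt fun h => hcon ⟨p, hp, hd, hmin, Or.inl h⟩, fun h => hcon ⟨p, hp, hd, hmin, Or.inr h⟩⟩
  have heq : q ^ 2 - 1 = (q + 1) * (q - 1) := by simpa using Nat.sq_sub_sq q 1
  rcases (show n = 2 ∨ 2 < n by omega) with rfl | hn3
  · refine h1 ⟨rfl, ?_⟩
    obtain ⟨s, c, hc2, hsc⟩ := Nat.exists_eq_pow_mul_and_not_dvd (show q + 1 ≠ 0 by omega) 2 (by norm_num)
    have hprim : ∀ p : ℕ, p.Prime → p ∣ c → p = 3 ∧ ¬ p ^ 2 ∣ q + 1 := by
      intro p hp hpc
      have hp2 : p ≠ 2 := fun h => hc2 (h ▸ hpc)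
      have hd : p ∣ q + 1 := hsc ▸ hpc.mul_left _
      obtain ⟨hle, hsq⟩ := hno p hp (heq ▸ hd.mul_right _) (fun i hi hi2 hdi => hp2 (by
        rw [show i = 1 by omega, pow_one] at hdi
        have h := Nat.dvd_sub hd hdi
        rw [show q + 1 - (q - 1) = 2 by omega] at h
        exact (Nat.prime_dvd_prime_iff_eq hp Nat.prime_two).mp h))
      have := hp.two_le
      exact ⟨by omega, fun h => hsq (heq ▸ h.mul_right _)⟩
    by_cases hc1 : c = 1
    · exact ⟨s, 0, by norm_num, by rw [hsc, hc1, pow_zero]⟩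
    · obtain ⟨p, hp, d, hd⟩ := Nat.exists_prime_and_dvd hc1
      obtain ⟨rfl, hsq⟩ := hprim p hp ⟨d, hd⟩
      have hd1 : d = 1 := by
        by_contra hd1
        obtain ⟨p', hp', hp'd⟩ := Nat.exists_prime_and_dvd hd1
        obtain ⟨rfl, -⟩ := hprim p' hp' (hd ▸ hp'd.mul_left _)
        obtain ⟨e, rfl⟩ := hp'd
        exact hsq ⟨2 ^ s * e, by rw [hsc, hd]; ring⟩
      exact ⟨s, 1, le_rfl, by rw [hsc, hd, hd1, mul_one, pow_one]⟩
  obtain ⟨P, hP, hPd, hPmin⟩ := exists_primitive_prime_divisor (a := q) (n := n) hq (by omega)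
    (fun h => h2 ⟨h.1, Or.inr (Or.inl h.2)⟩) (fun h => by omega)
  have hPeq : P = n + 1 := by
    haveI := Fact.mk hP
    have h := (dvd_sub_one_of_primitive (by omega) (by omega) hPd hPmin).2
    have := Nat.le_of_dvd (by have := hP.two_le; omega) h
    have := (hno P hP hPd hPmin).1
    omega
  have hn1 : (n + 1).Prime := hPeq ▸ hP
  have heven : 2 ∣ n := by
    rcases hn1.eq_two_or_odd with h | h <;> omega
  obtain ⟨r, hrmem, hrmax⟩ : ∃ r ∈ n.primeFactors, ∀ s ∈ n.primeFactors, s ≤ r := by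
    have hne : n.primeFactors.Nonempty :=
      ⟨2, Nat.mem_primeFactors.mpr ⟨Nat.prime_two, heven, by omega⟩⟩
    exact ⟨_, Finset.max'_mem _ hne, fun s hs => Finset.le_max' _ s hs⟩
  have hr := Nat.prime_of_mem_primeFactors hrmem
  have hrn := Nat.dvd_of_mem_primeFactors hrmem
  set V := cyclotomicValue q n with hV
  have hVd : V ∣ (n + 1) * r := by
    have hcase : ∀ s : ℕ, s.Prime → s ∣ V → (s = n + 1 ∨ s = r) ∧ ¬ s ^ 2 ∣ V := by
      intro s hs hsV
      haveI := Fact.mk hs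
      by_cases hsn : s ∣ n
      · refine ⟨Or.inr (le_antisymm (hrmax s (Nat.mem_primeFactors.mpr ⟨hs, hsn, by omega⟩))
          (le_of_dvd_both (by omega) hsV hsn hr hrn)), sq_not_dvd hq hn3 hsn hsV⟩
      · obtain ⟨k, m, hnm, -, hord, -⟩ := orderOf_of_dvd (by omega) hsV
        have : n = m := by
          rcases k with _ | k
          · simpa using hnm
          · exact absurd (hnm ▸ (dvd_pow_self s (Nat.succ_ne_zero k)).mul_right m) hsn
        obtain ⟨hd, hmin⟩ := primitive_of_orderOf (a := q) (by omega) (hord.trans this.symm)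
        obtain ⟨hle, hsq⟩ := hno s hs hd hmin
        have h' := (dvd_sub_one_of_primitive (by omega) (by omega) hd hmin).2
        have := Nat.le_of_dvd (by have := hs.two_le; omega) h'
        exact ⟨Or.inl (by omega), fun h => hsq (h.trans (cyclotomicValue_dvd_pow_sub_one (by omega) n))⟩
    have hne : V ≠ 0 := by
      have := one_lt_cyclotomicValue (a := q) hq (show 1 < n by omega)
      omega
    have hsf : Squarefree V := Nat.squarefree_iff_prime_squarefree.mpr fun s hs h =>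
      (hcase s hs ((dvd_mul_right s s).trans h)).2 (by rw [pow_two]; exact h)
    rw [← Nat.prod_primeFactors_of_squarefree hsf]
    refine (Finset.prod_dvd_prod_of_subset _ ({n + 1, r} : Finset ℕ) _ fun s hs => ?_).trans ?_
    · rcases (hcase s (Nat.prime_of_mem_primeFactors hs) (Nat.dvd_of_mem_primeFactors hs)).1 with h | h <;> simp [h]
    · rw [Finset.prod_pair (fun h => by
        have := Nat.le_of_dvd (by omega) hrn
        omega)]
  have hVle : V ≤ (n + 1) * r := Nat.le_of_dvd (Nat.mul_pos (by omega) hr.pos) hVd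
  by_cases hr2 : r = 2
  · subst hr2
    have hpow := Nat.eq_prime_pow_of_unique_prime_dvd (show n ≠ 0 by omega) (p := 2) (fun {d} hd hdn => by
      have := hrmax d (Nat.mem_primeFactors.mpr ⟨hd, hdn, by omega⟩)
      have := hd.two_le
      omega)
    set k := n.primeFactorsList.length
    have hk : 2 ≤ k := by
      by_contra hk
      have : n ≤ 2 ^ 1 := hpow ▸ Nat.pow_le_pow_right (by norm_num) (by omega)
      omega
    set t := 2 ^ (k - 1) with ht
    have hnt : n = 2 * t := by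
      rw [hpow, ht, ← pow_succ']; congr 1; omega
    have ht2 : 2 ≤ t := Nat.le_self_pow (by omega) 2
    have hVval : V = q ^ t + 1 := by
      rw [hV, hnt, cyclotomicValue_reduce 2 t (by omega) q
        (fun s hs hst => ((Nat.prime_dvd_prime_iff_eq hs Nat.prime_two).mp (hs.dvd_of_dvd_pow hst)) ▸ dvd_rfl),
        cyclotomicValue_two]
    rcases (show t = 2 ∨ 3 ≤ t by omega) with h | h
    · have hn4 : n = 4 := by omega
      rw [hVval, h, hn4] at hVle
      have hq3 : q ≤ 3 := by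
        by_contra hlt
        have := Nat.pow_le_pow_left (show 4 ≤ q by omega) 2
        norm_num at this
        omega
      rcases (show q = 2 ∨ q = 3 by omega) with hq2 | hq2
      · exact h2 ⟨hq2, Or.inl hn4⟩
      · exact h3 ⟨hq2, Or.inl hn4⟩
    · have hk4 : 4 ≤ k := by
        by_contra hk4
        rcases (show k = 2 ∨ k = 3 by omega) with h' | h' <;> rw [h'] at ht <;> norm_num at ht
        · omega
        · rw [hnt, ht] at hn1
          norm_num at hn1
      have ht8 : 8 ≤ t := by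
        rw [ht]
        calc 8 = 2 ^ 3 := by norm_num
          _ ≤ _ := Nat.pow_le_pow_right (by norm_num) (by omega)
      have hgrow : ∀ u, 8 ≤ u → 4 * u + 2 ≤ 2 ^ u := by
        intro u hu
        induction u, hu using Nat.le_induction with
        | base => norm_num
        | succ u hu ih => rw [pow_succ]; omega
      have := hgrow t ht8
      have : 2 ^ t ≤ q ^ t := Nat.pow_le_pow_left hq t
      omega
  have hr3 : 3 ≤ r := by have := hr.two_le; omega
  set S := n.primeFactors.erase r with hS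
  set m := ∏ s ∈ S, s with hm
  have hSp : ∀ s ∈ S, s.Prime ∧ s < r ∧ s ∣ n := fun s hs => by
    obtain ⟨hne, hmem⟩ := Finset.mem_erase.mp hs
    exact ⟨Nat.prime_of_mem_primeFactors hmem, lt_of_le_of_ne (hrmax s hmem) hne, Nat.dvd_of_mem_primeFactors hmem⟩
  have h2S : 2 ∈ S := Finset.mem_erase.mpr ⟨by omega, Nat.mem_primeFactors.mpr ⟨Nat.prime_two, heven, by omega⟩⟩
  have h2m : 2 ∣ m := Finset.dvd_prod_of_mem _ h2S
  have hmpos : 0 < m := Finset.prod_pos fun s hs => (hSp s hs).1.pos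
  have hm2 : 2 ≤ m := Nat.le_of_dvd hmpos h2m
  have hrm : ¬ r ∣ m := fun h => by
    obtain ⟨s, hs, hrs⟩ := (hr.prime.dvd_finsetProd_iff _).mp h
    have := (Nat.prime_dvd_prime_iff_eq hr (hSp s hs).1).mp hrs
    exact absurd (hSp s hs).2.1 (by omega)
  have hmr : m * r = ∏ s ∈ n.primeFactors, s := Finset.prod_erase_mul _ _ hrmem
  obtain ⟨t, ht⟩ : m * r ∣ n := hmr ▸ Nat.prod_primeFactors_dvd n
  have ht0 : 0 < t := Nat.pos_of_ne_zero fun h => by rw [h, mul_zero] at ht; omega
  have hVred : V = cyclotomicValue (q ^ t) (m * r) := by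
    rw [hV, ht]
    refine cyclotomicValue_reduce _ t ht0 q fun s hs hst => ?_
    rw [hmr]
    exact Finset.dvd_prod_of_mem _ (Nat.mem_primeFactors.mpr ⟨hs, ht ▸ hst.mul_left _, by omega⟩)
  have hlow := cyclotomicValue_lower (a := q ^ t) (m := m) (le_trans hq (Nat.le_self_pow (by omega) q)) hm2 hr hr3 hrm
  rw [← hVred] at hlow
  set x := m.totient with hx
  have hx1 : 1 ≤ x := Nat.totient_pos.mpr hmpos
  have hnle : ∀ t₀, 1 ≤ t₀ → (t₀ * m * r + 1) * r < ((2 ^ t₀) ^ (r - 2) * (2 ^ t₀ - 1)) ^ x → t < t₀ := by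
    intro t₀ ht₀ h
    by_contra hlt
    push Not at hlt
    have h' := growth hr3 hx1 ht₀ h t hlt
    have h'' := (mono_base (t := t) (r := r) (x := x) hq).trans (hlow.trans hVle)
    rw [ht, show m * r * t = t * m * r by ring] at h''
    omega
  have hbig : (2 ^ 1) ^ (r - 2) * (2 ^ 1 - 1) = 2 ^ (r - 2) := by norm_num
  have hqub : ∀ q₀, q₀ ≤ q → ((q₀ ^ t) ^ (r - 2) * (q₀ ^ t - 1)) ^ x ≤ (n + 1) * r := fun q₀ h =>
    (mono_base h).trans (hlow.trans hVle)
  by_cases hr13 : 13 ≤ r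
  · refine absurd (hnle 1 le_rfl ?_) (by omega)
    have hS2 : (∏ s ∈ S.erase 2, s) ≤ 2 ^ x := by
      have hprop : ∀ s ∈ S.erase 2, s.Prime ∧ 3 ≤ s := fun s hs => by
        obtain ⟨hne, hmem⟩ := Finset.mem_erase.mp hs
        have := (hSp s hmem).1.two_le
        exact ⟨(hSp s hmem).1, by omega⟩
      refine (prod_primes_le _ hprop).1.trans (Nat.pow_le_pow_right (by norm_num) ?_)
      rw [hx, hm, totient_prod_primes S (fun s hs => (hSp s hs).1), ← Finset.mul_prod_erase S _ h2S]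
      simp
    have hmle : m ≤ 2 * 2 ^ x := by
      rw [hm, ← Finset.mul_prod_erase S _ h2S]
      exact Nat.mul_le_mul_left 2 hS2
    rw [hbig, ← pow_mul, one_mul]
    have h3r : 3 * r ^ 2 < 2 ^ (r - 3) := by
      have := three_mul_sq_lt_two_pow (r - 13)
      rwa [show r - 13 + 13 = r by omega, show r - 13 + 10 = r - 3 by omega] at this
    calc (m * r + 1) * r ≤ (3 * r ^ 2) * 2 ^ x := by
          have : 1 ≤ 2 ^ x := Nat.one_le_two_pow
          have h1' : m * r + 1 ≤ 2 * 2 ^ x * r + 2 ^ x * r := by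
            have : m * r ≤ 2 * 2 ^ x * r := Nat.mul_le_mul_right r hmle
            have : 1 ≤ 2 ^ x * r := Nat.mul_pos (by omega) (by omega)
            omega
          calc (m * r + 1) * r ≤ (2 * 2 ^ x * r + 2 ^ x * r) * r := Nat.mul_le_mul_right r h1'
            _ = (3 * r ^ 2) * 2 ^ x := by ring
      _ < 2 ^ (r - 3) * 2 ^ x := Nat.mul_lt_mul_of_pos_right h3r (pow_pos (by norm_num) x)
      _ ≤ 2 ^ ((r - 2) * x) := by
          rw [← pow_add]
          refine Nat.pow_le_pow_right (by norm_num) ?_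
          rw [show r - 2 = (r - 3) + 1 by omega, add_mul, one_mul]
          have : r - 3 ≤ (r - 3) * x := Nat.le_mul_of_pos_right _ hx1
          omega
  have hmdvd : ∀ T : Finset ℕ, (∀ s, s.Prime → s < r → s ∈ T) → m ∣ ∏ s ∈ T, s := fun T hT =>
    Finset.prod_dvd_prod_of_subset _ _ _ fun s hs => hT s (hSp s hs).1 (hSp s hs).2.1
  have hsmall : ∀ s : ℕ, s.Prime → s < 11 → s = 2 ∨ s = 3 ∨ s = 5 ∨ s = 7 := by
    intro s hs hlt
    interval_cases s <;> norm_num at hs <;> omega
  rcases (show r = 3 ∨ r = 5 ∨ r = 7 ∨ r = 11 by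
    rcases (show r < 11 ∨ r = 11 ∨ r = 12 by omega) with h | h | h
    · have := hsmall r hr h; omega
    · exact Or.inr (Or.inr (Or.inr h))
    · exact absurd (h ▸ hr) (by norm_num)) with hr' | hr' | hr' | hr'
  · have hmv : m = 2 := by
      have := Nat.le_of_dvd (by norm_num) (show m ∣ 2 by
        simpa using hmdvd {2} (fun s hs hlt => by
          rcases hsmall s hs (by omega) with h | h | h | h <;> simp <;> omega))
      omega
    have hxv : x = 1 := by rw [hx, hmv]; decide +kernel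
    have ht4 := hnle 4 (by norm_num) (by rw [hmv, hr', hxv]; norm_num)
    rcases (show t = 1 ∨ t = 2 ∨ t = 3 by omega) with h | h | h
    · have hn6 : n = 6 := by rw [ht, hmv, hr', h]
      have hq5 : q ≤ 5 := by
        by_contra hlt
        have := hqub 6 (by omega)
        rw [hxv, hr', h, hn6] at this
        norm_num at this
      rcases (show q = 2 ∨ q = 3 ∨ q = 4 ∨ q = 5 by omega) with e | e | e | e
      · exact h2 ⟨e, Or.inr (Or.inl hn6)⟩
      · exact h3 ⟨e, Or.inr hn6⟩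
      · rw [hV, e, hn6, value_six_four, hr'] at hVd
        norm_num at hVd
      · exact h4 ⟨e, hn6⟩
    · have hn12 : n = 12 := by rw [ht, hmv, hr', h]
      by_cases e : q = 2
      · exact h2 ⟨e, Or.inr (Or.inr (Or.inr (Or.inl hn12)))⟩
      · have := hqub 3 (by omega)
        rw [hxv, hr', h, hn12] at this
        norm_num at this
    · have hn18 : n = 18 := by rw [ht, hmv, hr', h]
      by_cases e : q = 2
      · exact h2 ⟨e, Or.inr (Or.inr (Or.inr (Or.inr hn18)))⟩
      · have := hqub 3 (by omega)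
        rw [hxv, hr', h, hn18] at this
        norm_num at this
  · rcases dvd_six_cases (show m ∣ 6 by
      simpa using hmdvd {2, 3} (fun s hs hlt => by
        rcases hsmall s hs (by omega) with h | h | h | h <;> simp <;> omega)) h2m with hmv | hmv
    · have hxv : x = 1 := by rw [hx, hmv]; decide +kernel
      have ht3 := hnle 3 (by norm_num) (by rw [hmv, hr', hxv]; norm_num)
      rcases (show t = 1 ∨ t = 2 by omega) with h | h
      · have hn10 : n = 10 := by rw [ht, hmv, hr', h]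
        rcases (show q = 2 ∨ q = 3 ∨ 4 ≤ q by omega) with e | e | e
        · exact h2 ⟨e, Or.inr (Or.inr (Or.inl hn10))⟩
        · rw [hV, e, hn10, value_ten_three, hr'] at hVd
          norm_num at hVd
        · have := hqub 4 e
          rw [hxv, hr', h, hn10] at this
          norm_num at this
      · rw [ht, hmv, hr', h] at hn1
        norm_num at hn1
    · have hxv : x = 2 := by rw [hx, hmv]; decide +kernel
      have ht2 := hnle 2 (by norm_num) (by rw [hmv, hr', hxv]; norm_num)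
      have hn30 : n = 30 := by rw [ht, hmv, hr', show t = 1 by omega]
      by_cases e : q = 2
      · rw [hV, e, hn30, value_thirty_two, hr'] at hVd
        norm_num at hVd
      · have := hqub 3 (by omega)
        rw [hxv, hr', show t = 1 by omega, hn30] at this
        norm_num at this
  · rcases dvd_thirty_cases (show m ∣ 30 by
      simpa using hmdvd {2, 3, 5} (fun s hs hlt => by
        rcases hsmall s hs (by omega) with h | h | h | h <;> simp <;> omega)) h2m with hmv | hmv | hmv | hmv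
    · have hxv : x = 1 := by rw [hx, hmv]; decide +kernel
      have ht2 := hnle 2 (by norm_num) (by rw [hmv, hr', hxv]; norm_num)
      rw [ht, hmv, hr', show t = 1 by omega] at hn1
      norm_num at hn1
    all_goals
      have := hnle 1 le_rfl (by
        rw [hx, hmv, hr']
        decide +kernel)
      omega
  · rcases dvd_twoten_cases (show m ∣ 210 by
      simpa using hmdvd {2, 3, 5, 7} (fun s hs hlt => by
        rcases hsmall s hs (by omega) with h | h | h | h <;> simp <;> omega)) h2m with hmv | hmv | hmv | hmv | hmv | hmv | hmv | hmv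
    all_goals
      have := hnle 1 le_rfl (by
        rw [hx, hmv, hr']
        decide +kernel)
      omega

end Cfsg.Agent.S3430
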