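import Cfsg.Statements.S3431
import Cfsg.Agent.Lib.Recog.CountsAlt
import Cfsg.Agent.Lib.Recog.AltFiveOrders
import Cfsg.Agent.Lib.Recog.AffineSLTwoFour

set_option autoImplicit false
open Cfsg

namespace Cfsg.Agent.S3431

open CfsgLib.Recog CfsgLib.Recog.OrderCounts

set_option maxRecDepth 100000

theorem altFour_pow_cases : ∀ g : Equiv.Perm (Fin 4), Equiv.Perm.sign g = 1 → g ^ 2 = 1 ∨ g ^ 3 = 1 := by
  decide +kernel

theorem cnt_alt_four : cnt (alternatingGroup (Fin 4)) 2 = 3 ∧ cnt (alternatingGroup (Fin 4)) 3 = 8 := by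
  rw [cnt_eq_card_filter (by norm_num), cnt_eq_card_filter (by norm_num)]
  decide +kernel

theorem cnt_alt_five : cnt (alternatingGroup (Fin 5)) 2 = 15 ∧ cnt (alternatingGroup (Fin 5)) 3 = 20 ∧
    cnt (alternatingGroup (Fin 5)) 5 = 24 := by
  rw [cnt_eq_card_filter (by norm_num), cnt_eq_card_filter (by norm_num), cnt_eq_card_filter (by norm_num)]
  decide +kernel

theorem cnt_alt_six : cnt (alternatingGroup (Fin 6)) 2 = 45 ∧ cnt (alternatingGroup (Fin 6)) 3 = 80 ∧
    cnt (alternatingGroup (Fin 6)) 4 = 90 ∧ cnt (alternatingGroup (Fin 6)) 5 = 144 := by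
  rw [cnt_eq_card_filter (by norm_num), cnt_eq_card_filter (by norm_num), cnt_eq_card_filter (by norm_num),
    cnt_eq_card_filter (by norm_num)]
  decide +kernel

theorem altFour_range : Set.range (orderOf : alternatingGroup (Fin 4) → ℕ) = {1, 2, 3} := by
  ext m
  simp only [Set.mem_range, Set.mem_insert_iff, Set.mem_singleton_iff]
  constructor
  · rintro ⟨x, rfl⟩
    rw [← Subgroup.orderOf_coe]
    rcases altFour_pow_cases x x.2 with h | h <;>
      rcases (Nat.dvd_prime (by norm_num)).mp (orderOf_dvd_of_pow_eq_one h) with h | h <;> tauto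
  · rintro (rfl | rfl | rfl)
    · exact ⟨1, orderOf_one⟩
    · exact cnt_pos_iff.mp (by rw [cnt_alt_four.1]; norm_num)
    · exact cnt_pos_iff.mp (by rw [cnt_alt_four.2]; norm_num)

theorem altFive_range : Set.range (orderOf : alternatingGroup (Fin 5) → ℕ) = {1, 2, 3, 5} := by
  ext m
  simp only [Set.mem_range, Set.mem_insert_iff, Set.mem_singleton_iff]
  constructor
  · rintro ⟨x, rfl⟩
    exact altFive_orderOf x
  · exact altFive_exists_orderOf

/-- Let n be 4, 5 or 6 and let G be a finite group whose set of sizes of same-order classes (the set of numbers #{g : o(g) = m} over the element orders m of G) equals that of the alternating group of degree n. Then G is isomorphic to that alternating group. -/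
theorem result {G : Type*} [Group G] [Finite G] (n : ℕ) (hn : n = 4 ∨ n = 5 ∨ n = 6)
    (h : ((fun m : ℕ => Nat.card {g : G // orderOf g = m}) '' Set.range (orderOf : G → ℕ)) = ((fun m : ℕ => Nat.card {g : ↥(alternatingGroup (Fin n)) // orderOf g = m}) '' Set.range (orderOf : ↥(alternatingGroup (Fin n)) → ℕ))) :
    Nonempty (G ≃* ↥(alternatingGroup (Fin n))) := by
  classical
  have key : ∀ V : Set ℕ, ((fun m : ℕ => cnt G m) '' Set.range (orderOf : G → ℕ)) = V →
      (∀ m, cnt G m = 0 ∨ cnt G m ∈ V) ∧ ∀ v ∈ V, ∃ m, cnt G m = v := by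
    intro V hV
    refine ⟨fun m => ?_, fun v hv => ?_⟩
    · rcases Nat.eq_zero_or_pos (cnt G m) with h | h
      · exact Or.inl h
      · exact Or.inr (hV ▸ ⟨m, cnt_pos_iff.mp h, rfl⟩)
    · rw [← hV] at hv
      obtain ⟨m, -, hm⟩ := hv
      exact ⟨m, hm⟩
  have h' : ((fun m : ℕ => cnt G m) '' Set.range (orderOf : G → ℕ)) =
      ((fun m : ℕ => cnt (alternatingGroup (Fin n)) m) '' Set.range (orderOf : alternatingGroup (Fin n) → ℕ)) := h
  rcases hn with rfl | rfl | rfl
  · have he : ((fun m : ℕ => cnt (alternatingGroup (Fin 4)) m) ''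
        Set.range (orderOf : alternatingGroup (Fin 4) → ℕ)) = {1, 3, 8} := by
      rw [altFour_range]
      simp [Set.image_insert_eq, cnt_one, cnt_alt_four.1, cnt_alt_four.2]
    obtain ⟨h1, h2⟩ := key _ (h'.trans he)
    exact CountsAlt.iso_four (fun m => by simpa [or_assoc] using h1 m) (h2 3 (by simp)) (h2 8 (by simp))
  · have he : ((fun m : ℕ => cnt (alternatingGroup (Fin 5)) m) ''
        Set.range (orderOf : alternatingGroup (Fin 5) → ℕ)) = {1, 15, 20, 24} := by
      rw [altFive_range]
      simp [Set.image_insert_eq, cnt_one, cnt_alt_five.1, cnt_alt_five.2.1, cnt_alt_five.2.2]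
    obtain ⟨h1, h2⟩ := key _ (h'.trans he)
    exact CountsAlt.iso_five (fun m => by simpa [or_assoc] using h1 m) (h2 15 (by simp)) (h2 20 (by simp))
      (h2 24 (by simp))
  · have he : ((fun m : ℕ => cnt (alternatingGroup (Fin 6)) m) ''
        Set.range (orderOf : alternatingGroup (Fin 6) → ℕ)) = {1, 45, 80, 90, 144} := by
      rw [altSix_spectrum]
      simp [Set.image_insert_eq, cnt_one, cnt_alt_six.1, cnt_alt_six.2.1, cnt_alt_six.2.2.1, cnt_alt_six.2.2.2]
    obtain ⟨h1, h2⟩ := key _ (h'.trans he)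
    exact CountsAlt.iso_six (fun m => by simpa [or_assoc] using h1 m) (h2 45 (by simp)) (h2 144 (by simp))

end Cfsg.Agent.S3431
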