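import Cfsg.Statements.S3992
import Cfsg.Agent.Lib.Counting.ThreePrimes
import Cfsg.Agent.Lib.Frobenius.Fpf
import Cfsg.Agent.Lib.Solvable.Hall
import Cfsg.Agent.Lib.Solvable.Core
import Cfsg.Agent.Lib.FusionPStable.Local
import Mathlib

set_option autoImplicit false
open Cfsg
open Subgroup

namespace Cfsg.Agent.S3992

universe u

/-- Every element has prime power order. -/
def EPPO (G : Type u) [Group G] : Prop :=
  ∀ (g : G) (p q : ℕ), p.Prime → q.Prime → p ∣ orderOf g → q ∣ orderOf g → p = q

variable {G : Type u} [Group G] [Finite G]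

theorem eppo_of_isPrimePow (h : ∀ g : G, g ≠ 1 → IsPrimePow (orderOf g)) : EPPO G := by
  intro g p q hp hq hpd hqd
  have hg : g ≠ 1 := fun e => by rw [e, orderOf_one] at hpd; exact hp.not_dvd_one hpd
  obtain ⟨r, k, hr, -, hrk⟩ := h g hg
  rw [← hrk] at hpd hqd
  rw [(Nat.prime_dvd_prime_iff_eq hp hr.nat_prime).mp (hp.dvd_of_dvd_pow hpd),
    (Nat.prime_dvd_prime_iff_eq hq hr.nat_prime).mp (hq.dvd_of_dvd_pow hqd)]

theorem EPPO.quotient (h : EPPO G) (N : Subgroup G) [N.Normal] : EPPO (G ⧸ N) := by
  intro g p q hp hq hpd hqd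
  obtain ⟨x, rfl⟩ := QuotientGroup.mk'_surjective N g
  exact h x p q hp hq (hpd.trans (orderOf_map_dvd _ x)) (hqd.trans (orderOf_map_dvd _ x))

theorem EPPO.not_commute (h : EPPO G) {p q : ℕ} (hp : p.Prime) (hq : q.Prime) (hpq : p ≠ q) {x y : G}
    (hx : orderOf x = p) (hy : orderOf y = q) : ¬ Commute x y := fun hc =>
  hpq (h (x * y) p q hp hq
    (by rw [CfsgLib.ThreePrimes.orderOf_eq_mul hp hq hpq hx hy hc]; exact dvd_mul_right p q)
    (by rw [CfsgLib.ThreePrimes.orderOf_eq_mul hp hq hpq hx hy hc]; exact dvd_mul_left q p))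

/-- Two commuting disjoint normal subgroups: one of them has prime power order. -/
theorem EPPO.disjoint_normal (h : EPPO G) {A B : Subgroup G} (hA : A.Normal) (hB : B.Normal)
    (hAB : Disjoint A B) (hA1 : A ≠ ⊥) : ∃ p : ℕ, p.Prime ∧ IsPGroup p B := by
  obtain ⟨p, hp, hpd⟩ := Nat.exists_prime_and_dvd (n := Nat.card A) fun e => hA1 (card_eq_one.mp e)
  refine ⟨p, hp, ?_⟩
  by_contra hB'
  obtain ⟨q, hq, hqp, hqd⟩ : ∃ q, q.Prime ∧ q ≠ p ∧ q ∣ Nat.card B := by
    by_contra hno
    push Not at hno
    refine hB' ?_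
    have := Nat.eq_prime_pow_of_unique_prime_dvd (n := Nat.card B) (p := p) Nat.card_pos.ne'
      (fun {d} hd hdd => by_contra fun hne => hno d hd hne hdd)
    exact IsPGroup.of_card this
  have := Fact.mk hp
  have := Fact.mk hq
  obtain ⟨x, hx⟩ := exists_prime_orderOf_dvd_card' (G := A) p hpd
  obtain ⟨y, hy⟩ := exists_prime_orderOf_dvd_card' (G := B) q hqd
  rw [← Subgroup.orderOf_coe] at hx hy
  exact h.not_commute hp hq hqp.symm hx hy (commute_of_normal_of_disjoint A B hA hB hAB _ _ x.2 y.2)

theorem minimal_normal_solvable (N : Subgroup G) [N.Normal] (hN : N ≠ ⊥) (hsol : Group.IsSolvable N)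
    (hmin : ∀ M : Subgroup G, M.Normal → M ≤ N → M = ⊥ ∨ M = N) :
    IsMulCommutative N ∧ ∃ p : ℕ, p.Prime ∧ ∀ x ∈ N, x ^ p = 1 := by
  have hab : IsMulCommutative N := by
    have : Nontrivial N := (nontrivial_iff_ne_bot N).mpr hN
    have h1 : commutator N < ⊤ := Group.IsSolvable.commutator_lt_top_of_nontrivial N
    rcases hmin ((commutator N).map N.subtype) inferInstance (map_subtype_le _) with h | h
    · rw [map_eq_bot_iff_of_injective _ N.subtype_injective, commutator_def,
        commutator_eq_bot_iff_le_centralizer] at h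
      exact ⟨⟨fun a b => ((mem_centralizer_iff.mp (h (mem_top a))) b (mem_top b)).symm⟩⟩
    · exfalso
      exact h1.ne (map_injective N.subtype_injective (h.trans (by
        rw [← MonoidHom.range_eq_map, range_subtype])))
  refine ⟨hab, ?_⟩
  obtain ⟨q, hq, hqd⟩ := Nat.exists_prime_and_dvd (n := Nat.card N)
    (fun h => hN (Subgroup.card_eq_one.1 h))
  have := Fact.mk hq
  obtain ⟨x, hx⟩ := exists_prime_orderOf_dvd_card' (G := N) q hqd
  let M : Subgroup G :=
    { carrier := {y | y ∈ N ∧ y ^ q = 1}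
      one_mem' := ⟨N.one_mem, one_pow _⟩
      mul_mem' := fun {a b} ha hb => ⟨N.mul_mem ha.1 hb.1, by
        have hab : Commute a b := setLike_mul_comm ha.1 hb.1
        rw [hab.mul_pow, ha.2, hb.2, one_mul]⟩
      inv_mem' := fun {a} ha => ⟨N.inv_mem ha.1, by rw [inv_pow, ha.2, inv_one]⟩ }
  have hM : M.Normal := ⟨fun y hy g => ⟨Subgroup.Normal.conj_mem ‹_› y hy.1 g, by
    rw [conj_pow, hy.2, mul_one, mul_inv_cancel]⟩⟩
  refine ⟨q, hq, fun y hy => ?_⟩
  have hMN : M = N := by
    refine (hmin M hM fun y hy => hy.1).resolve_left fun hbot => ?_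
    have hx' : (x : G) ∈ M := ⟨x.2, by
      rw [← Subgroup.coe_pow, ← hx, pow_orderOf_eq_one, Subgroup.coe_one]⟩
    rw [hbot, Subgroup.mem_bot] at hx'
    rw [orderOf_eq_one_iff.2 (Subtype.ext hx')] at hx
    exact hq.one_lt.ne hx
  rw [← hMN] at hy
  exact hy.2

theorem solvable_le (H K : Subgroup G) (h : H ≤ K) (hK : Group.IsSolvable K) : Group.IsSolvable H :=
  Group.isSolvable_of_isSolvable_injective (Subgroup.inclusion_injective h)

/-- Let G be a finite non-solvable group in which every element has prime-power order, and let R be its largest solvable normal subgroup. Then R is a p-group for some prime p; G/R has a non-abelian simple normal subgroup contained in every nontrivial normal subgroup of G/R (its unique minimal normal subgroup); and the order of every solvable subgroup of G has at most two prime divisors. -/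
theorem result {G : Type*} [Group G] [Finite G] (hns : ¬ Group.IsSolvable G) (hpp : ∀ g : G, g ≠ 1 → IsPrimePow (orderOf g))
    (R : Subgroup G) [R.Normal] (hRs : Group.IsSolvable ↥R) (hRmax : ∀ N : Subgroup G, N.Normal → Group.IsSolvable ↥N → N ≤ R) :
    (∃ p : ℕ, p.Prime ∧ IsPGroup p ↥R) ∧
      (∃ M : Subgroup (G ⧸ R), M.Normal ∧ IsSimpleGroup ↥M ∧ ¬ IsMulCommutative ↥M ∧
        ∀ N : Subgroup (G ⧸ R), N.Normal → N ≠ ⊥ → M ≤ N) ∧
      ∀ H : Subgroup G, Group.IsSolvable ↥H → (Nat.card ↥H).primeFactors.card ≤ 2 := by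
  have hE : EPPO G := eppo_of_isPrimePow hpp
  refine ⟨?_, ?_, ?_⟩
  · by_cases hR1 : R = ⊥
    · exact ⟨2, Nat.prime_two, IsPGroup.of_card (n := 0) (by rw [hR1, card_bot, pow_zero])⟩
    obtain ⟨V, hVn, hV1, hVR, hVmin⟩ := CfsgLib.Solvable.exists_minimal_normal_le R hR1
    obtain ⟨hVc, p, hp, hVp⟩ := minimal_normal_solvable V hV1 (solvable_le V R hVR hRs) hVmin
    have := Fact.mk hp
    set P := Cfsg.pCore p G with hP
    have hPn : P.Normal := CfsgLib.Solvable.pCore_normal p G
    have hPp := CfsgLib.Solvable.pCore_isPGroup p G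
    have hPR : P ≤ R := hRmax P hPn (by have := hPp.isNilpotent; infer_instance)
    refine ⟨p, hp, ?_⟩
    by_cases heq : R = P
    · rw [heq]; exact hPp
    exfalso
    set π := QuotientGroup.mk' P with hπ
    have hπs : Function.Surjective π := QuotientGroup.mk'_surjective P
    have hRb : R.map π ≠ ⊥ := fun h => heq (le_antisymm (by
      rw [Subgroup.map_eq_bot_iff, QuotientGroup.ker_mk'] at h; exact h) hPR)
    have hRbn : (R.map π).Normal := ‹R.Normal›.map π hπs
    obtain ⟨W, hWn, hW1, hWR, hWmin⟩ := CfsgLib.Solvable.exists_minimal_normal_le (R.map π) hRb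
    have hRbs : Group.IsSolvable (R.map π) :=
      Group.isSolvable_of_surjective (π.subgroupMap_surjective R)
    obtain ⟨hWc, q, hq, hWq⟩ := minimal_normal_solvable W hW1 (solvable_le W _ hWR hRbs) hWmin
    have := Fact.mk hq
    have hWpg : IsPGroup q W := fun x => ⟨1, Subtype.ext (by simpa using hWq x x.2)⟩
    have hqp : q ≠ p := by
      rintro rfl
      exact hW1 (CfsgLib.Solvable.pCore_eq_bot_iff.mp
        (CfsgLib.Solvable.pCore_quotient_eq_bot P rfl) W hWn hWpg)
    set M := W.comap π with hM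
    have hMn : M.Normal := hWn.comap π
    have hMR : M ≤ R := by
      intro x hx
      obtain ⟨r, hr, hrx⟩ := hWR hx
      have : r⁻¹ * x ∈ P := QuotientGroup.eq.mp hrx
      simpa using mul_mem hr (hPR this)
    obtain ⟨Q⟩ := (inferInstance : Nonempty (Sylow q M))
    set Q' := (Q : Subgroup M).map M.subtype with hQ'
    have hQp : IsPGroup q Q' := Q.2.map _
    have hdisj : Disjoint Q' P := IsPGroup.disjoint_of_ne q p hqp _ _ hQp hPp
    let f : Q' →* W := (π.comp Q'.subtype).codRestrict W fun x => by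
      obtain ⟨y, -, hy⟩ := x.2
      exact (hy ▸ y.2 : (x : G) ∈ M)
    have hfi : Function.Injective f := by
      rw [injective_iff_map_eq_one]
      intro x hx
      exact Subtype.ext (Subgroup.disjoint_def.mp hdisj x.2
        ((QuotientGroup.eq_one_iff _).mp (congrArg Subtype.val hx)))
    have hexp : ∀ x ∈ Q', x ^ q = 1 := fun x hx => by
      have h1 : f (⟨x, hx⟩ ^ q) = 1 := by
        rw [map_pow]
        exact Subtype.ext (hWq _ (f ⟨x, hx⟩).2)
      exact congrArg Subtype.val (hfi (h1.trans (map_one f).symm))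
    have hfpf : ∀ a ∈ Q', a ≠ 1 → V ⊓ Subgroup.centralizer {a} = ⊥ := by
      intro a ha ha1
      rw [eq_bot_iff]
      rintro v hv'
      obtain ⟨hv, hvc⟩ := Subgroup.mem_inf.mp hv'
      rw [Subgroup.mem_bot]
      by_contra hv1
      exact hE.not_commute hp hq hqp.symm (orderOf_eq_prime (hVp v hv) hv1)
        (orderOf_eq_prime (hexp a ha) ha1) (Subgroup.mem_centralizer_singleton_iff.mp hvc)
    have hQ1 : Q' ≠ ⊥ := by
      rw [Ne, map_eq_bot_iff_of_injective _ M.subtype_injective]
      refine Q.ne_bot_of_dvd_card ?_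
      rw [CfsgLib.Solvable.card_comap_mk']
      exact dvd_mul_of_dvd_right (hWpg.card_eq_or_dvd.resolve_left fun h => hW1 (card_eq_one.mp h)) _
    obtain ⟨k, hk⟩ := IsPGroup.iff_card.mp hQp
    have hk1 : k = 1 := by
      by_contra hk1
      have hk0 : k ≠ 0 := fun h => hQ1 (card_eq_one.mp (by rw [hk, h, pow_zero]))
      obtain ⟨A, hA⟩ := Sylow.exists_subgroup_card_pow_prime (G := Q') q
        (n := 2) (by rw [hk]; exact pow_dvd_pow q (by omega))
      refine hV1 (CfsgLib.Frobenius.eq_bot_of_elementary_fpf (A := A.map Q'.subtype)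
        ((normalizer_eq_top_iff.mpr hVn).symm ▸ le_top) (fun a ha => hfpf a (map_subtype_le A ha)) hq
        (by rw [card_map_of_injective Q'.subtype_injective, hA]) fun a ha => hexp a (map_subtype_le A ha))
    rw [hk1, pow_one] at hk
    have hQcyc : IsCyclic Q' := isCyclic_of_prime_card hk
    -- the normalizer of `Q'` is solvable
    set N := normalizer (Q' : Set G) with hN
    let ψ : N →* MulAut Q' := Q'.normalizerMonoidHom
    have hker : IsPGroup q ψ.ker := by
      refine IsPGroup.of_card (Nat.eq_prime_pow_of_unique_prime_dvd (n := Nat.card ψ.ker) (p := q)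
        Nat.card_pos.ne' ?_)
      intro d hd hdd
      have := Fact.mk hd
      by_contra hdq
      obtain ⟨x, hx⟩ := exists_prime_orderOf_dvd_card' (G := ψ.ker) d hdd
      obtain ⟨z, hz, hz1⟩ := (Q'.bot_or_exists_ne_one).resolve_left hQ1
      refine hE.not_commute hd hq hdq (x := ((x : N) : G)) (y := z)
        (by rw [Subgroup.orderOf_coe, Subgroup.orderOf_coe, hx]) (orderOf_eq_prime (hexp z hz) hz1) ?_
      have h1 : ψ (x : N) ⟨z, hz⟩ = ⟨z, hz⟩ := by rw [MonoidHom.mem_ker.mp x.2]; rfl
      exact mul_inv_eq_iff_eq_mul.mp (congrArg Subtype.val h1)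
    have hNs : Group.IsSolvable N := by
      have h1 : Group.IsSolvable ψ.ker := by have := hker.isNilpotent; infer_instance
      have h2 : Group.IsSolvable (MulAut Q') :=
        Group.isSolvable_of_comm fun a b => (CfsgLib.FusionPStable.mulAut_commute_of_isCyclic hQcyc a b).eq
      exact Group.isSolvable_of_ker_le_range ψ.ker.subtype ψ (by simp)
    have htop : N ⊔ M = ⊤ := Sylow.normalizer_sup_eq_top Q
    refine hns ?_
    have h3 : Group.IsSolvable (G ⧸ M) := by
      refine Group.isSolvable_of_surjective (f := (QuotientGroup.mk' M).comp N.subtype) fun x => ?_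
      obtain ⟨g, rfl⟩ := QuotientGroup.mk'_surjective M x
      obtain ⟨n, hn, m, hm, rfl⟩ := (Subgroup.mem_sup_of_normal_right.mp (htop ▸ mem_top g))
      refine ⟨⟨n, hn⟩, QuotientGroup.eq.mpr ?_⟩
      show n⁻¹ * (n * m) ∈ M
      rwa [inv_mul_cancel_left]
    have h4 : Group.IsSolvable M := solvable_le M R hMR hRs
    exact Group.isSolvable_of_ker_le_range M.subtype (QuotientGroup.mk' M) (by simp)
  · set π := QuotientGroup.mk' R with hπ
    have hπs : Function.Surjective π := QuotientGroup.mk'_surjective R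
    have hEq : EPPO (G ⧸ R) := hE.quotient R
    have hnosolv : ∀ N : Subgroup (G ⧸ R), N.Normal → Group.IsSolvable N → N = ⊥ := by
      intro N hNn hNs
      let f : N.comap π →* N := (π.comp (N.comap π).subtype).codRestrict N fun x => x.2
      have hle : N.comap π ≤ R := hRmax _ (hNn.comap π) <| by
        refine Group.isSolvable_of_ker_le_range (Subgroup.inclusion (?_ : R ≤ N.comap π)) f ?_
        · intro x hx
          rw [mem_comap, show π x = 1 from (QuotientGroup.eq_one_iff x).mpr hx]
          exact one_mem N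
        · intro x hx
          exact ⟨⟨x, (QuotientGroup.eq_one_iff _).mp (congrArg Subtype.val hx)⟩, rfl⟩
      rw [eq_bot_iff]
      intro x hx
      obtain ⟨g, rfl⟩ := hπs x
      exact mem_bot.mpr ((QuotientGroup.eq_one_iff g).mpr (hle hx))
    have hnopg : ∀ (N : Subgroup (G ⧸ R)) (p : ℕ), p.Prime → N.Normal → IsPGroup p N → N = ⊥ :=
      fun N p hp hNn hNp => hnosolv N hNn (by have := Fact.mk hp; have := hNp.isNilpotent; infer_instance)
    have htop : (⊤ : Subgroup (G ⧸ R)) ≠ ⊥ := fun h => by
      refine hns ?_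
      have hs : Group.IsSolvable (G ⧸ R) := Group.isSolvable_of_comm fun a b => by
        rw [mem_bot.mp (h ▸ mem_top a : a ∈ (⊥ : Subgroup (G ⧸ R))), mem_bot.mp (h ▸ mem_top b : b ∈ (⊥ : Subgroup (G ⧸ R)))]
      exact Group.isSolvable_of_ker_le_range R.subtype π (by simp [hπ])
    obtain ⟨M, hMn, hM1, -, hMmin⟩ :=
      CfsgLib.Solvable.exists_minimal_normal_le (⊤ : Subgroup (G ⧸ R)) htop
    have hMab : ¬ IsMulCommutative M := fun h => hM1 (hnosolv M hMn
      (Group.isSolvable_of_comm fun a b => h.is_comm.comm a b))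
    refine ⟨M, hMn, ?_, hMab, fun N hNn hN1 => ?_⟩
    · have hsimple : ∀ A : Subgroup M, A.Normal → A = ⊥ ∨ A = ⊤ := by
        by_contra hno
        push Not at hno
        obtain ⟨A, hAn, hA1, hA2⟩ := hno
        obtain ⟨A0, hA0n, hA01, hA0A, hA0min⟩ := CfsgLib.Solvable.exists_minimal_normal_le A hA1
        have hA0t : A0 ≠ ⊤ := fun h => hA2 (top_le_iff.mp (h ▸ hA0A))
        obtain ⟨g, hg⟩ : ∃ g : G ⧸ R, A0.map (MulAut.conjNormal g).toMonoidHom ≠ A0 := by
          by_contra hall
          push Not at hall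
          have hn : (A0.map M.subtype).Normal := ⟨by
            rintro _ ⟨a, ha, rfl⟩ g
            exact ⟨MulAut.conjNormal g a, (hall g).le (mem_map_of_mem _ ha), rfl⟩⟩
          rcases hMmin _ hn (map_subtype_le _) with h | h
          · exact hA01 (map_eq_bot_iff_of_injective _ M.subtype_injective |>.mp h)
          · exact hA0t (map_injective M.subtype_injective (h.trans (by
              rw [← MonoidHom.range_eq_map, range_subtype])))
        set e : M ≃* M := MulAut.conjNormal g with he
        set B := A0.map e.toMonoidHom with hB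
        have hBn : B.Normal := hA0n.map _ e.surjective
        have hdisj : Disjoint A0 B := by
          rw [disjoint_iff]
          have hn : (A0 ⊓ B).Normal := inferInstance
          refine (hA0min _ hn inf_le_left).resolve_right fun h => hg ?_
          refine (eq_of_le_of_card_ge (inf_eq_left.mp h) ?_).symm
          rw [hB, card_map_of_injective (show Function.Injective e.toMonoidHom from e.injective)]
        have hB1 : B ≠ ⊥ := by
          rw [hB, Ne, map_eq_bot_iff_of_injective _ (show Function.Injective e.toMonoidHom from e.injective)]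
          exact hA01
        obtain ⟨p, hp, hA0p⟩ : ∃ p : ℕ, p.Prime ∧ IsPGroup p A0 := by
          have hEM : EPPO M := fun x p q hp hq h1 h2 =>
            hEq x p q hp hq (by rwa [Subgroup.orderOf_coe]) (by rwa [Subgroup.orderOf_coe])
          exact hEM.disjoint_normal hBn hA0n hdisj.symm hB1
        have := Fact.mk hp
        have h1 : Cfsg.pCore p M ≠ ⊥ := fun h =>
          hA01 (CfsgLib.Solvable.pCore_eq_bot_iff.mp h A0 hA0n hA0p)
        have := CfsgLib.Solvable.pCore_characteristic p M
        have h2 := hnopg ((Cfsg.pCore p M).map M.subtype) p hp inferInstance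
          ((CfsgLib.Solvable.pCore_isPGroup p M).map _)
        exact h1 (map_eq_bot_iff_of_injective _ M.subtype_injective |>.mp h2)
      have : Nontrivial M := (nontrivial_iff_ne_bot M).mpr hM1
      exact { eq_bot_or_eq_top_of_normal := hsimple }
    · by_contra hle
      have hdisj : Disjoint M N := disjoint_iff.mpr <| by
        haveI := hMn
        haveI := hNn
        exact (hMmin (M ⊓ N) inferInstance inf_le_left).resolve_right fun h => hle (inf_eq_left.mp h)
      obtain ⟨p, hp, hNp⟩ := hEq.disjoint_normal hMn hNn hdisj hM1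
      exact hN1 (hnopg N p hp hNn hNp)
  · intro H hH
    by_contra hcard
    obtain ⟨p, q, r, hp, hq, hr, hpq, hpr, hqr⟩ := Finset.two_lt_card_iff.mp (not_le.mp hcard)
    rw [Nat.mem_primeFactors] at hp hq hr
    obtain ⟨g, hg | hg | hg⟩ := CfsgLib.ThreePrimes.exists_adjacent (G := H) hp.1 hq.1 hr.1
      hpq hpr hqr hp.2.1 hq.2.1 hr.2.1
    all_goals rw [← Subgroup.orderOf_coe] at hg
    · exact hpq (hE g p q hp.1 hq.1 (hg ▸ dvd_mul_right p q) (hg ▸ dvd_mul_left q p))
    · exact hpr (hE g p r hp.1 hr.1 (hg ▸ dvd_mul_right p r) (hg ▸ dvd_mul_left r p))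
    · exact hqr (hE g q r hq.1 hr.1 (hg ▸ dvd_mul_right q r) (hg ▸ dvd_mul_left r q))

end Cfsg.Agent.S3992
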