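import Cfsg.Statements.S3433
import Cfsg.Agent.S0494
import Cfsg.Agent.S0497
import Cfsg.Agent.S1475
import Cfsg.Agent.S3992
import Cfsg.Agent.Lib.Components.Subnormal
import Cfsg.Agent.Lib.Char.Burnside
import Cfsg.Agent.Lib.SpecFive.Order
import Cfsg.Agent.Lib.SpecFive.Top
import Cfsg.Agent.Lib.SpecFive.Lifting
-- import your own Cfsg.Agent.* helpers here

set_option autoImplicit false
open Cfsg

namespace Cfsg.Agent.S3433

open CfsgLib.SpecFive

theorem exists_solvable_max (G : Type*) [Group G] [Finite G] :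
    ∃ R : Subgroup G, R.Normal ∧ Group.IsSolvable R ∧
      ∀ N : Subgroup G, N.Normal → Group.IsSolvable N → N ≤ R := by
  obtain ⟨R, ⟨hRn, hRs⟩, hmax⟩ := Set.exists_max_image {N : Subgroup G | N.Normal ∧ Group.IsSolvable N}
    (fun N => Nat.card N) (Set.toFinite _) ⟨⊥, inferInstance, inferInstance⟩
  refine ⟨R, hRn, hRs, fun N hN hNs => ?_⟩
  have hs := CfsgLib.Components.isSolvable_sup hNs hRs (le_of_le_of_eq le_top
    (Subgroup.normalizer_eq_top R).symm)
  have hle := hmax (N ⊔ R) ⟨inferInstance, hs⟩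
  have heq : R = N ⊔ R := Subgroup.eq_of_le_of_card_ge le_sup_right hle
  exact heq ▸ le_sup_left

theorem main {G : Type*} [Group G] [Finite G]
    (h : Set.range (orderOf : G → ℕ) = {k : ℕ | 1 ≤ k ∧ k ≤ 5}) :
    ∃ (R : Subgroup G) (_ : R.Normal),
      (R = ⊥ ∧ Nonempty (G ⧸ R ≃* ↥(alternatingGroup (Fin 6)))) ∨
      (Cfsg.IsElementaryAbelian 2 R ∧ Nonempty (G ⧸ R ≃* ↥(alternatingGroup (Fin 5)))) := by
  classical
  have hs : CfsgLib.SpecFive.Small G := fun g => (h ▸ Set.mem_range_self g : orderOf g ∈ {k : ℕ | 1 ≤ k ∧ k ≤ 5}).2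
  have hex : ∀ k, 1 ≤ k → k ≤ 5 → k ∣ Nat.card G := by
    intro k h1 h5
    obtain ⟨g, rfl⟩ : k ∈ Set.range (orderOf : G → ℕ) := by rw [h]; exact ⟨h1, h5⟩
    exact orderOf_dvd_natCard g
  have hpp : ∀ g : G, g ≠ 1 → IsPrimePow (orderOf g) := by
    intro g hg
    rcases hs.cases g with h' | h' | h' | h' | h'
    · exact absurd (orderOf_eq_one_iff.1 h') hg
    · rw [h']; exact Nat.prime_two.isPrimePow
    · rw [h']; exact Nat.prime_three.isPrimePow
    · rw [h']; exact ⟨2, 2, Nat.prime_two.prime, two_pos, rfl⟩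
    · rw [h']; exact (by norm_num : Nat.Prime 5).isPrimePow
  have hns : ¬ Group.IsSolvable G := by
    intro hsol
    have hle := Cfsg.Agent.S1475.result (G := G) fun g => (eq_or_ne g 1).symm.imp (hpp g) id
    have hsub : ({2, 3, 5} : Finset ℕ) ⊆ (Nat.card G).primeFactors := by
      intro p hp
      simp only [Finset.mem_insert, Finset.mem_singleton] at hp
      rw [Nat.mem_primeFactors]
      rcases hp with rfl | rfl | rfl
      · exact ⟨Nat.prime_two, hex 2 (by norm_num) (by norm_num), Nat.card_pos.ne'⟩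
      · exact ⟨Nat.prime_three, hex 3 (by norm_num) (by norm_num), Nat.card_pos.ne'⟩
      · exact ⟨by norm_num, hex 5 (by norm_num) (by norm_num), Nat.card_pos.ne'⟩
    have h3 := Finset.card_le_card hsub
    rw [show ({2, 3, 5} : Finset ℕ).card = 3 from rfl] at h3
    omega
  obtain ⟨R, hRn, hRs, hRmax⟩ := exists_solvable_max G
  haveI := hRn
  obtain ⟨⟨p, hp, hRp⟩, ⟨M, hMn, hMs, hMne, -⟩, -⟩ :=
    Cfsg.Agent.S3992.result hns hpp R hRs hRmax
  haveI := hMn
  haveI := hMs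
  have hQ : CfsgLib.SpecFive.Small (G ⧸ R) := hs.quotient R
  have hMsmall : CfsgLib.SpecFive.Small M := hQ.subgroup M
  have hMns : ¬ Group.IsSolvable M := fun hsol => hMne
    ⟨⟨(IsSimpleGroup.comm_iff_isSolvable (G := M)).2 hsol⟩⟩
  have hthree : ∀ r, r = 2 ∨ r = 3 ∨ r = 5 → r ∣ Nat.card M := by
    intro r hr
    by_contra hnd
    apply hMns
    have hcases : ∀ s : ℕ, s.Prime → s ∣ Nat.card M → s ≠ r ∧ (s = 2 ∨ s = 3 ∨ s = 5) :=
      fun s hs' hd => ⟨fun e => hnd (e ▸ hd), prime_cases hMsmall hs' hd⟩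
    rcases hr with rfl | rfl | rfl
    · exact CfsgLib.Char.isSolvable_of_two_primes 3 5 Nat.prime_three (by norm_num) _ M rfl
        fun s h1 h2 => (hcases s h1 h2).2.resolve_left (hcases s h1 h2).1
    · exact CfsgLib.Char.isSolvable_of_two_primes 2 5 Nat.prime_two (by norm_num) _ M rfl
        fun s h1 h2 => by have := hcases s h1 h2; omega
    · exact CfsgLib.Char.isSolvable_of_two_primes 2 3 Nat.prime_two Nat.prime_three _ M rfl
        fun s h1 h2 => by have := hcases s h1 h2; omega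
  haveI := Fintype.ofFinite M
  have hcard := card_simple (G := M)
    ⟨hMsmall, hMne, hthree 2 (Or.inl rfl), hthree 3 (Or.inr (Or.inl rfl)), hthree 5 (Or.inr (Or.inr rfl))⟩
  obtain rfl := normal_simple_eq_top hQ hcard
  let e : (⊤ : Subgroup (G ⧸ R)) ≃* (G ⧸ R) := Subgroup.topEquiv
  haveI : IsSimpleGroup (G ⧸ R) := e.symm.isSimpleGroup
  have hne : ¬ IsMulCommutative (G ⧸ R) := fun hc => hMne ⟨⟨fun a b => e.injective (by
    rw [map_mul, map_mul]; exact hc.is_comm.comm _ _)⟩⟩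
  rw [Nat.card_congr e.toEquiv] at hcard
  have h2 : 2 ∣ Nat.card (G ⧸ R) := by rcases hcard with h' | h' <;> rw [h'] <;> norm_num
  have hR2 : IsPGroup 2 R := by
    by_cases hR1 : R = ⊥
    · exact IsPGroup.of_card (n := 0) (by rw [hR1, Subgroup.card_bot, pow_zero])
    · exact radical_two hs R hne hp hRp h2 hR1 ▸ hRp
  rcases hcard with h' | h'
  · obtain ⟨hc, hsq⟩ := radical_elementary hs R hR2 h'
    exact ⟨R, hRn, Or.inr ⟨⟨⟨⟨fun a b => Subtype.ext (hc a a.2 b b.2)⟩⟩,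
      fun a ha => (pow_two a).trans (hsq a ha)⟩, Cfsg.Agent.S0494.result h'⟩⟩
  · exact ⟨R, hRn, Or.inl ⟨radical_eq_bot hs R hR2 h', Cfsg.Agent.S0497.result h'⟩⟩

/-- A finite group whose set of element orders is exactly {1, 2, 3, 4, 5} is isomorphic to the alternating group of degree 6, or has a normal elementary abelian 2-subgroup with quotient isomorphic to the alternating group of degree 5. -/
theorem result {G : Type*} [Group G] [Finite G] (h : Set.range (orderOf : G → ℕ) = {k : ℕ | 1 ≤ k ∧ k ≤ 5}) :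
    Nonempty (G ≃* ↥(alternatingGroup (Fin 6))) ∨
      ∃ (N : Subgroup G) (_ : N.Normal), Cfsg.IsElementaryAbelian 2 N ∧ Nonempty (G ⧸ N ≃* ↥(alternatingGroup (Fin 5))) := by
  obtain ⟨R, hR, ⟨rfl, ⟨e⟩⟩ | hR'⟩ := main h
  · exact Or.inl ⟨QuotientGroup.quotientBot.symm.trans e⟩
  · exact Or.inr ⟨R, hR, hR'⟩

end Cfsg.Agent.S3433
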