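import Cfsg.Statements.S3437
import Cfsg.Agent.Lib.Recog.SmallSpectra
import Cfsg.Agent.Lib.Recog.CubicRecurrence

set_option autoImplicit false
open Cfsg

namespace Cfsg.Agent.S3437

open CfsgLib.Recog CfsgLib.Recog.Cubic CfsgLib.Recog.SmallSpectra

/-- There is a finite solvable group with exactly the same set of element orders as the simple group PSL(3,3). -/
theorem result {F : Type*} [Field F] [Fintype F] (hF : Fintype.card F = 3) :
    ∃ (H : Type) (_ : Group H) (_ : Fintype H), Group.IsSolvable H ∧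
      Set.range (orderOf : H → ℕ) = Set.range (orderOf : Matrix.ProjectiveSpecialLinearGroup (Fin 3) F → ℕ) := by
  classical
  obtain ⟨H, i1, i2, hs, hr⟩ := exists_solvable_spectrum_thirteen
  refine ⟨H, i1, i2, hs, hr.trans ?_⟩
  haveI : Fact (Nat.Prime 3) := ⟨by norm_num⟩
  haveI : CharP F 3 := charP_of_card_eq_prime (by rw [hF])
  let ψ : ZMod 3 →+* F := ZMod.castHom dvd_rfl F
  have hψs : Function.Surjective ψ :=
    ((Fintype.bijective_iff_injective_and_card ψ).mpr ⟨ψ.injective, by rw [ZMod.card, hF]⟩).2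
  have hZ : Subgroup.center (Matrix.SpecialLinearGroup (Fin 3) F) = ⊥ := by
    rw [eq_bot_iff]
    intro A hA
    obtain ⟨r, hr3, hA'⟩ := Matrix.SpecialLinearGroup.mem_center_iff.mp hA
    have hr1 : r = 1 := by
      have h := FiniteField.pow_card r
      rw [hF] at h
      rw [Fintype.card_fin] at hr3
      exact h.symm.trans hr3
    rw [Subgroup.mem_bot]
    exact Subtype.ext (hA'.symm.trans (by rw [hr1, map_one]; rfl))
  let e : Matrix.ProjectiveSpecialLinearGroup (Fin 3) F ≃* Matrix.SpecialLinearGroup (Fin 3) F :=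
    (QuotientGroup.quotientMulEquivOfEq hZ).trans QuotientGroup.quotientBot
  symm
  refine range_orderOf_eq_divisors _ (fun x => ?_) (fun N hN => ?_)
  · obtain ⟨t, ht⟩ := hψs (e x).1.trace
    obtain ⟨s, hs'⟩ := hψs (e x).1.adjugate.trace
    obtain ⟨N, hN, hP⟩ := three_pows t s
    refine ⟨N, hN, e.injective ?_⟩
    rw [map_pow, map_one]
    refine sl_pow_eq_one _ ?_
    rw [← ht, ← hs', cubicPow_map, hP]
    simp
  · have key : ∀ l : Matrix.SpecialLinearGroup (Fin 3) (ZMod 3),
        orderOf (e.symm (Matrix.SpecialLinearGroup.map ψ l)) = orderOf l := fun l => by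
      rw [MulEquiv.orderOf_eq, orderOf_injective _ (Cubic.map_injective ψ ψ.injective)]
    simp only [Finset.mem_insert, Finset.mem_singleton] at hN
    rcases hN with rfl | rfl | rfl
    · exact ⟨by norm_num, _, (key l13).trans orderOf_l13⟩
    · exact ⟨by norm_num, _, (key l8).trans orderOf_l8⟩
    · exact ⟨by norm_num, _, (key l6).trans orderOf_l6⟩

end Cfsg.Agent.S3437
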