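import Cfsg.Statements.S3438
import Cfsg.Agent.Lib.Recog.SmallSpectra
import Cfsg.Agent.Lib.Recog.CubicRecurrence

set_option autoImplicit false
open Cfsg

namespace Cfsg.Agent.S3438

open CfsgLib.Recog CfsgLib.Recog.Cubic CfsgLib.Recog.SmallSpectra

/-- There is a finite solvable group with exactly the same set of element orders as the simple group PSU(3,3) (realised over the field with 9 elements). -/
theorem result {F : Type*} [Field F] [Fintype F] (hF : Fintype.card F = 9) :
    ∃ (H : Type) (_ : Group H) (_ : Fintype H), Group.IsSolvable H ∧ Set.range (orderOf : H → ℕ) = Set.range (orderOf : Cfsg.PSU 3 F 3 → ℕ) := by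
  classical
  obtain ⟨H, i1, i2, hs, hr⟩ := exists_solvable_spectrum_seven
  refine ⟨H, i1, i2, hs, hr.trans ?_⟩
  haveI : Fact (Nat.Prime 3) := ⟨by norm_num⟩
  haveI : CharP F 3 := charP_of_card_eq_prime_pow (f := 2) (by rw [hF]; norm_num)
  letI : Algebra (ZMod 3) F := ZMod.algebra F 3
  obtain ⟨i, hi⟩ : IsSquare (-1 : F) := FiniteField.isSquare_neg_one_iff.mpr (by rw [hF]; norm_num)
  let ψ : R9 →+* F := (QuadraticAlgebra.lift ⟨i, by simp [← hi]⟩).toRingHom
  have hψi : Function.Injective ψ := by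
    rw [injective_iff_map_eq_zero]
    intro z hz
    by_contra h
    obtain ⟨w, hw⟩ := r9_inv z h
    have := congrArg ψ hw
    rw [map_mul, hz, zero_mul, map_one] at this
    exact zero_ne_one this
  have hψs : Function.Surjective ψ :=
    ((Fintype.bijective_iff_injective_and_card ψ).mpr ⟨hψi, by rw [r9_card, hF]⟩).2
  have hF' : Fintype.card F = 3 ^ 2 := by rw [hF]; norm_num
  have hZ : Subgroup.center (Cfsg.SU 3 F 3) = ⊥ :=
    Subgroup.eq_bot_of_card_eq _ (by rw [CfsgLib.Classical.Herm.card_center_su' hF' (by norm_num)]; decide)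
  let e : Cfsg.PSU 3 F 3 ≃* Cfsg.SU 3 F 3 :=
    (QuotientGroup.quotientMulEquivOfEq hZ).trans QuotientGroup.quotientBot
  let φ : F →+* F := frobenius F 3
  have hφ : ∀ x, φ x = x ^ 3 := fun x => frobenius_def 3 x
  symm
  refine range_orderOf_eq_divisors _ (fun x => ?_) (fun N hN => ?_)
  · obtain ⟨t, ht⟩ := hψs ((e x).1).1.trace
    obtain ⟨N, hN, hP⟩ := r9_pows t
    refine ⟨N, hN, e.injective ?_⟩
    rw [map_pow, map_one]
    refine Subtype.ext ?_
    rw [Subgroup.coe_pow, Subgroup.coe_one]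
    refine sl_pow_eq_one _ ?_
    rw [trace_adjugate_of_su φ _ (e x).1.2 (of_mem_su 3 (by norm_num) φ hφ (e x).2), hφ, ← ht,
      ← map_pow, cubicPow_map, hP]
    simp
  · have key : ∀ u : Matrix.SpecialLinearGroup (Fin 3) R9,
        u.1.transpose * u.1.map (fun x => x * x * x) = 1 → ∃ g : Cfsg.PSU 3 F 3, orderOf g = orderOf u := by
      intro u hu
      have hm : Matrix.SpecialLinearGroup.map ψ u ∈ Cfsg.SU 3 F 3 := by
        refine mem_su_of 3 φ hφ _ ?_
        have h := congrArg (fun M => M.map ψ) hu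
        simp only [Matrix.map_mul, Matrix.map_one _ (map_zero ψ) (map_one ψ), ← Matrix.transpose_map] at h
        refine Eq.trans ?_ h
        congr 1
        ext a b
        simp [Matrix.SpecialLinearGroup.map, hφ, pow_succ]
        rfl
      refine ⟨e.symm ⟨_, hm⟩, ?_⟩
      rw [MulEquiv.orderOf_eq, Subgroup.orderOf_mk, orderOf_injective _ (Cubic.map_injective ψ hψi)]
    simp only [Finset.mem_insert, Finset.mem_singleton] at hN
    rcases hN with rfl | rfl | rfl
    · obtain ⟨g, hg⟩ := key _ u7_unitary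
      exact ⟨by norm_num, g, hg.trans orderOf_u7⟩
    · obtain ⟨g, hg⟩ := key _ u12_unitary
      exact ⟨by norm_num, g, hg.trans orderOf_u12⟩
    · obtain ⟨g, hg⟩ := key _ u8_unitary
      exact ⟨by norm_num, g, hg.trans orderOf_u8⟩

end Cfsg.Agent.S3438
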