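import Cfsg.Statements.S3443
import Mathlib.GroupTheory.QuotientGroup.Basic
import Mathlib.Tactic.Group
import Mathlib.Data.Nat.Prime.Basic

set_option autoImplicit false
open Cfsg

namespace Cfsg.Agent.S3443

theorem lcm_eq_left_or_right {p : ℕ} (hp : p.Prime) {m a b : ℕ} (hm : m ≠ 0)
    (ha1 : m ∣ a) (ha2 : a ∣ m * p) (hb1 : m ∣ b) (hb2 : b ∣ m * p) :
    Nat.lcm a b = a ∨ Nat.lcm a b = b := by
  obtain ⟨c, rfl⟩ := ha1
  obtain ⟨d, rfl⟩ := hb1
  have hc : c ∣ p := Nat.dvd_of_mul_dvd_mul_left (Nat.pos_of_ne_zero hm) ha2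
  have hd : d ∣ p := Nat.dvd_of_mul_dvd_mul_left (Nat.pos_of_ne_zero hm) hb2
  rcases (Nat.dvd_prime hp).mp hc with rfl | rfl
  · right; exact Nat.lcm_eq_right (Nat.mul_dvd_mul_left m (one_dvd d))
  · left; exact Nat.lcm_eq_left (Nat.mul_dvd_mul_left m hd)


/-- Let G be a finite group and V a normal elementary abelian subgroup of G (abelian of prime exponent p, possibly trivial). Then the semidirect product V ⋊ G, with G acting on V by conjugation, has exactly the same set of element orders as G. -/
theorem result {G : Type*} [Group G] [Finite G] (V : Subgroup G) [V.Normal] (p : ℕ) (hp : p.Prime)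
    (hcomm : ∀ x y : V, x * y = y * x) (hexp : ∀ x : V, x ^ p = 1) :
    Set.range (orderOf : V ⋊[MulAut.conjNormal] G → ℕ) = Set.range (orderOf : G → ℕ) := by
  let Φ : V ⋊[MulAut.conjNormal] G →* G :=
    { toFun := fun x => (x.left : G) * x.right
      map_one' := by simp
      map_mul' := fun x y => by
        simp only [SemidirectProduct.mul_left, SemidirectProduct.mul_right, Subgroup.coe_mul,
          MulAut.conjNormal_apply]
        group }
  let π : V ⋊[MulAut.conjNormal] G →* G := SemidirectProduct.rightHom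
  have hinj : Function.Injective (Φ.prod π) := by
    intro x y hxy
    have h1 : Φ x = Φ y := congrArg Prod.fst hxy
    have h2 : π x = π y := congrArg Prod.snd hxy
    simp only [π, SemidirectProduct.rightHom_eq_right] at h2
    change (x.left : G) * x.right = (y.left : G) * y.right at h1
    rw [h2] at h1
    exact SemidirectProduct.ext (Subtype.ext (mul_right_cancel h1)) h2
  have hpow : ∀ a : G, ∀ m : ℕ, a ^ m ∈ V → orderOf a ∣ m * p := fun a m ha => by
    rw [orderOf_dvd_iff_pow_eq_one, pow_mul]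
    exact congrArg Subtype.val (hexp ⟨_, ha⟩)
  ext n
  constructor
  · rintro ⟨x, rfl⟩
    rw [← orderOf_injective _ hinj x, Prod.orderOf]
    change Nat.lcm (orderOf (Φ x)) (orderOf (π x)) ∈ _
    set q := QuotientGroup.mk' V with hq
    have hqeq : q (Φ x) = q (π x) := by
      change q ((x.left : G) * x.right) = q x.right
      have h1 : q (x.left : G) = 1 := (QuotientGroup.eq_one_iff _).mpr x.left.2
      rw [map_mul, h1, one_mul]
    set m := orderOf (q (π x)) with hm
    have hmem : ∀ a : G, q a = q (π x) → m ∣ orderOf a ∧ orderOf a ∣ m * p := fun a ha => by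
      refine ⟨hm ▸ ha ▸ orderOf_map_dvd q a, hpow a m ?_⟩
      rw [← QuotientGroup.eq_one_iff]
      change q (a ^ m) = 1
      rw [map_pow, ha, hm, pow_orderOf_eq_one]
    obtain ⟨ha1, ha2⟩ := hmem (Φ x) hqeq
    obtain ⟨hb1, hb2⟩ := hmem (π x) rfl
    rcases lcm_eq_left_or_right hp (orderOf_pos _).ne' ha1 ha2 hb1 hb2 with h | h
    · exact ⟨Φ x, h.symm⟩
    · exact ⟨π x, h.symm⟩
  · rintro ⟨g, rfl⟩
    exact ⟨SemidirectProduct.inr g, orderOf_injective _ SemidirectProduct.inr_injective g⟩

end Cfsg.Agent.S3443
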