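import Cfsg.Statements.S3444
import Cfsg.Agent.S3443
import Mathlib

set_option autoImplicit false
open Cfsg

namespace Cfsg.Agent.S3444

theorem range_orderOf_mulEquiv {A B : Type*} [Monoid A] [Monoid B] (e : A ≃* B) :
    Set.range (orderOf : A → ℕ) = Set.range (orderOf : B → ℕ) := by
  ext n
  exact ⟨fun ⟨a, ha⟩ => ⟨e a, by rw [MulEquiv.orderOf_eq, ha]⟩,
    fun ⟨b, hb⟩ => ⟨e.symm b, by rw [MulEquiv.orderOf_eq, hb]⟩⟩

theorem exists_elementary_abelian {H : Type*} [Group H] [Finite H] (K : Subgroup H) [K.Normal]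
    (hK : K ≠ ⊥) (hs : Group.IsSolvable K) :
    ∃ (V : Subgroup H) (p : ℕ), V.Normal ∧ V ≠ ⊥ ∧ p.Prime ∧ (∀ x y : V, x * y = y * x) ∧
      ∀ x : V, x ^ p = 1 := by
  obtain ⟨M, hMK, hMn, hM, hmin⟩ : ∃ M : Subgroup H, M ≤ K ∧ M.Normal ∧ M ≠ ⊥ ∧
      ∀ L : Subgroup H, L.Normal → L ≤ M → L ≠ ⊥ → L = M := by
    obtain ⟨M, hle, ⟨hn, hne⟩, hmin⟩ :=
      exists_minimal_le_of_wellFoundedLT (fun L : Subgroup H => L.Normal ∧ L ≠ ⊥) K ⟨inferInstance, hK⟩
    exact ⟨M, hle, hn, hne, fun L h1 h2 h3 => le_antisymm h2 (hmin ⟨h1, h3⟩ h2)⟩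
  haveI : Group.IsSolvable M := Group.isSolvable_of_isSolvable_injective (Subgroup.inclusion_injective hMK)
  haveI : Nontrivial M := (Subgroup.nontrivial_iff_ne_bot M).mpr hM
  have hcomm : ∀ x ∈ M, ∀ y ∈ M, x * y = y * x := by
    intro x hx y hy
    have hbot : ⁅M, M⁆ = ⊥ := by
      by_contra hne
      have heq := hmin ⁅M, M⁆ inferInstance (Subgroup.commutator_le_right M M) hne
      have hlt := Group.IsSolvable.commutator_lt_top_of_nontrivial (G := M)
      refine hlt.ne (Subgroup.map_injective M.subtype_injective ?_)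
      rw [commutator_def, Subgroup.map_commutator, ← MonoidHom.range_eq_map, Subgroup.range_subtype]
      exact heq
    have := hbot ▸ Subgroup.commutator_mem_commutator hx hy
    rw [Subgroup.mem_bot, commutatorElement_eq_one_iff_mul_comm] at this
    exact this
  obtain ⟨p, hp, hpd⟩ := Nat.exists_prime_and_dvd (fun h : Nat.card M = 1 => hM (Subgroup.card_eq_one.mp h))
  let V : Subgroup H :=
    { carrier := {x | x ∈ M ∧ x ^ p = 1}
      one_mem' := ⟨M.one_mem, one_pow p⟩
      mul_mem' := fun {a b} ha hb => ⟨M.mul_mem ha.1 hb.1, by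
        rw [(show Commute a b from hcomm a ha.1 b hb.1).mul_pow, ha.2, hb.2, one_mul]⟩
      inv_mem' := fun {a} ha => ⟨M.inv_mem ha.1, by rw [inv_pow, ha.2, inv_one]⟩ }
  refine ⟨V, p, ⟨fun x hx g => ⟨hMn.conj_mem x hx.1 g, by rw [conj_pow, hx.2]; simp⟩⟩, fun hV => ?_, hp,
    fun x y => Subtype.ext (hcomm _ x.2.1 _ y.2.1), fun x => Subtype.ext x.2.2⟩
  haveI := Fact.mk hp
  obtain ⟨x, hx⟩ := exists_prime_orderOf_dvd_card' p hpd
  have hmem : (x : H) ∈ V := ⟨x.2, by rw [← hx, ← Subgroup.orderOf_coe, pow_orderOf_eq_one]⟩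
  rw [hV, Subgroup.mem_bot] at hmem
  rw [← Subgroup.orderOf_coe, hmem, orderOf_one] at hx
  exact hp.one_lt.ne hx


/-- A finite group with a non-trivial solvable normal subgroup is not determined by its set of element orders, not even up to finitely many possibilities: for every bound N there is a finite group of order greater than N with exactly the same set of element orders. -/
theorem result {G : Type*} [Group G] [Finite G] (K : Subgroup G) [K.Normal] (hK : K ≠ ⊥)
    (hs : Group.IsSolvable K) (N : ℕ) :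
    ∃ (H : Type) (_ : Group H) (_ : Fintype H), N < Fintype.card H ∧ Set.range (orderOf : H → ℕ) = Set.range (orderOf : G → ℕ) := by
  suffices h : ∀ n : ℕ, ∃ (H : Type) (_ : Group H) (_ : Finite H), n < Nat.card H ∧
      Set.range (orderOf : H → ℕ) = Set.range (orderOf : G → ℕ) ∧
      ∃ L : Subgroup H, L.Normal ∧ L ≠ ⊥ ∧ Group.IsSolvable L by
    obtain ⟨H, _, _, hn, hr, -⟩ := h N
    exact ⟨H, inferInstance, Fintype.ofFinite H, by rwa [← @Nat.card_eq_fintype_card H (Fintype.ofFinite H)], hr⟩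
  intro n
  induction n with
  | zero =>
    haveI : Small.{0} G := Countable.toSmall G
    let e : G ≃* Shrink.{0} G := (Shrink.mulEquiv (α := G)).symm
    haveI : Finite (Shrink.{0} G) := Finite.of_equiv G e.toEquiv
    haveI : Group.IsSolvable K := hs
    refine ⟨Shrink.{0} G, inferInstance, inferInstance, Nat.card_pos, range_orderOf_mulEquiv e.symm,
      K.map e.toMonoidHom, Subgroup.Normal.map inferInstance _ e.surjective, ?_, ?_⟩
    · rwa [Ne, Subgroup.map_eq_bot_iff_of_injective _ e.injective]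
    · exact Group.isSolvable_of_surjective (e.toMonoidHom.subgroupMap_surjective K)
  | succ n ih =>
    obtain ⟨H, _, _, hn, hr, L, hLn, hL, hLs⟩ := ih
    obtain ⟨V, p, hVn, hV, hp, hcomm, hexp⟩ := exists_elementary_abelian L hL hLs
    haveI : Finite (V ⋊[MulAut.conjNormal] H) := Finite.of_equiv _ SemidirectProduct.equivProd.symm
    refine ⟨V ⋊[MulAut.conjNormal] H, inferInstance, inferInstance, ?_,
      (Cfsg.Agent.S3443.result V p hp hcomm hexp).trans hr,
      (SemidirectProduct.inl : V →* V ⋊[MulAut.conjNormal] H).range, ?_, ?_, ?_⟩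
    · rw [Nat.card_congr SemidirectProduct.equivProd, Nat.card_prod]
      have h1 : 1 < Nat.card V := (Subgroup.one_lt_card_iff_ne_bot V).mpr hV
      nlinarith [(Nat.card_pos : 0 < Nat.card H)]
    · rw [SemidirectProduct.range_inl_eq_ker_rightHom]; infer_instance
    · intro h
      refine hV ((Subgroup.eq_bot_iff_forall _).mpr fun x hx => ?_)
      have : SemidirectProduct.inl (⟨x, hx⟩ : V) ∈ (⊥ : Subgroup (V ⋊[MulAut.conjNormal] H)) := h ▸ ⟨_, rfl⟩
      rw [Subgroup.mem_bot, map_eq_one_iff _ SemidirectProduct.inl_injective] at this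
      exact congrArg Subtype.val this
    · haveI : Group.IsSolvable V := Group.isSolvable_of_comm hcomm
      exact Group.isSolvable_of_surjective (MonoidHom.rangeRestrict_surjective _)

end Cfsg.Agent.S3444
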