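import Cfsg.Statements.S3448
import Cfsg.Agent.Lib.Recog.AltFiveOrders

set_option autoImplicit false
open Cfsg

namespace Cfsg.Agent.S3448


/-- The set of element orders of the direct product of two copies of the alternating group of degree 5 is {1, 2, 3, 5, 6, 10, 15}. (It is shared by the direct product of two Frobenius groups of orders 50 and 75, so this direct product is not determined by its element orders.) -/
theorem result : Set.range (orderOf : alternatingGroup (Fin 5) × alternatingGroup (Fin 5) → ℕ) = {1, 2, 3, 5, 6, 10, 15} := by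
  ext n
  constructor
  · rintro ⟨⟨a, b⟩, rfl⟩
    rw [Prod.orderOf]
    rcases CfsgLib.Recog.altFive_orderOf a with h1 | h1 | h1 | h1 <;>
      rcases CfsgLib.Recog.altFive_orderOf b with h2 | h2 | h2 | h2 <;>
      simp [h1, h2, Nat.lcm]
  · intro hn
    obtain ⟨p, q, hp, hq, rfl⟩ : ∃ p q, (p = 1 ∨ p = 2 ∨ p = 3 ∨ p = 5) ∧
        (q = 1 ∨ q = 2 ∨ q = 3 ∨ q = 5) ∧ Nat.lcm p q = n := by
      simp only [Set.mem_insert_iff, Set.mem_singleton_iff] at hn
      rcases hn with rfl | rfl | rfl | rfl | rfl | rfl | rfl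
      exacts [⟨1, 1, by simp⟩, ⟨2, 1, by simp⟩, ⟨3, 1, by simp⟩, ⟨5, 1, by simp⟩,
        ⟨2, 3, by simp; rfl⟩, ⟨2, 5, by simp; rfl⟩, ⟨3, 5, by simp; rfl⟩]
    obtain ⟨a, ha⟩ := CfsgLib.Recog.altFive_exists_orderOf hp
    obtain ⟨b, hb⟩ := CfsgLib.Recog.altFive_exists_orderOf hq
    exact ⟨(a, b), by rw [Prod.orderOf, ha, hb]⟩

end Cfsg.Agent.S3448
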