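import Cfsg.Statements.S3449
import Cfsg.Agent.Lib.Recog.AltFiveOrders
import Mathlib.GroupTheory.SpecificGroups.Cyclic
import Mathlib.NumberTheory.Divisors

set_option autoImplicit false
open Cfsg

namespace Cfsg.Agent.S3449


/-- The direct product of three copies of the alternating group of degree 5 has exactly the same set of element orders as the cyclic group of order 30, namely the divisors of 30; in particular a direct power of a non-abelian simple group need not be determined by its element orders. -/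
theorem result : Set.range (orderOf : alternatingGroup (Fin 5) × alternatingGroup (Fin 5) × alternatingGroup (Fin 5) → ℕ) =
      Set.range (orderOf : Multiplicative (ZMod 30) → ℕ) := by
  ext n
  constructor
  · rintro ⟨⟨a, b, c⟩, rfl⟩
    have h : ∀ x : alternatingGroup (Fin 5), orderOf x ∣ 30 := fun x => by
      rcases CfsgLib.Recog.altFive_orderOf x with h | h | h | h <;> rw [h] <;> norm_num
    rw [Prod.orderOf, Prod.orderOf]
    have hd : Nat.lcm (orderOf a) (Nat.lcm (orderOf b) (orderOf c)) ∣ 30 :=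
      Nat.lcm_dvd (h a) (Nat.lcm_dvd (h b) (h c))
    obtain ⟨g, hg⟩ := IsCyclic.exists_generator (α := Multiplicative (ZMod 30))
    have hg30 : orderOf g = 30 := by
      rw [orderOf_eq_card_of_forall_mem_zpowers hg, Nat.card_eq_fintype_card]; rfl
    obtain ⟨e, he⟩ := hd
    refine ⟨g ^ e, ?_⟩
    have he0 : e ≠ 0 := by rintro rfl; simp at he
    rw [orderOf_pow_of_dvd he0 (by rw [hg30, he]; exact dvd_mul_left _ _), hg30, he,
      Nat.mul_div_cancel _ (Nat.pos_of_ne_zero he0)]
  · rintro ⟨x, rfl⟩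
    have hd : orderOf x ∣ 30 := by
      have := orderOf_dvd_natCard x
      rwa [Nat.card_eq_fintype_card] at this
    have hn : orderOf x ∈ Nat.divisors 30 := Nat.mem_divisors.mpr ⟨hd, by norm_num⟩
    obtain ⟨p, q, r, hp, hq, hr, hx⟩ : ∃ p q r, (p = 1 ∨ p = 2) ∧ (q = 1 ∨ q = 3) ∧ (r = 1 ∨ r = 5) ∧
        Nat.lcm p (Nat.lcm q r) = orderOf x := by
      have hl : Nat.divisors 30 = {1, 2, 3, 5, 6, 10, 15, 30} := by decide
      simp only [hl, Finset.mem_insert, Finset.mem_singleton] at hn
      rcases hn with h | h | h | h | h | h | h | h <;> rw [h]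
      exacts [⟨1, 1, 1, by simp⟩, ⟨2, 1, 1, by simp⟩, ⟨1, 3, 1, by simp⟩, ⟨1, 1, 5, by simp⟩,
        ⟨2, 3, 1, by simp; rfl⟩, ⟨2, 1, 5, by simp; rfl⟩, ⟨1, 3, 5, by simp; rfl⟩,
        ⟨2, 3, 5, by simp; rfl⟩]
    obtain ⟨a, ha⟩ := CfsgLib.Recog.altFive_exists_orderOf (n := p) (by tauto)
    obtain ⟨b, hb⟩ := CfsgLib.Recog.altFive_exists_orderOf (n := q) (by tauto)
    obtain ⟨c, hc⟩ := CfsgLib.Recog.altFive_exists_orderOf (n := r) (by tauto)
    exact ⟨(a, b, c), by rw [Prod.orderOf, Prod.orderOf, ha, hb, hc, hx]⟩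

end Cfsg.Agent.S3449
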