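import Cfsg.Statements.S3452
import Cfsg.Agent.Lib.AlmostAll.PGLTwoOrders
import Cfsg.Agent.Lib.AlmostAll.CuspModule
import Cfsg.Agent.Lib.AlmostAll.SmallFrobenius

set_option autoImplicit false
open Cfsg

namespace Cfsg.Agent.S3452

/-- The divisor description of a small spectrum. -/
theorem div_set {r a b B : ℕ} {L : List ℕ} (ha : 0 < a) (hb : 0 < b)
    (hB : r < B ∧ a < B ∧ b < B ∧ ∀ n ∈ L, n < B) (h : ∀ n < B, (n = r ∨ n ∣ a ∨ n ∣ b) ↔ n ∈ L) :
    {n | n = r ∨ n ∣ a ∨ n ∣ b} = {n | n ∈ L} := by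
  obtain ⟨h1, h2, h3, h4⟩ := hB
  ext n
  constructor
  · intro hn
    refine (h n ?_).1 hn
    rcases hn with hn | hn | hn
    · omega
    · have := Nat.le_of_dvd ha hn; omega
    · have := Nat.le_of_dvd hb hn; omega
  · intro hn
    exact (h n (h4 n hn)).2 hn

/-- The element orders over two elements. -/
theorem orders_two {F : Type*} [Field F] [Fintype F] (h2 : Fintype.card F = 2) :
    Set.range (orderOf : CfsgLib.PGLTwoOrders.P F → ℕ) = {n | n ∈ [2, 1, 3]} := by
  classical
  have hall : ∀ a : F, a = 0 ∨ a = 1 := by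
    intro a
    by_contra h
    push Not at h
    have h3 : ({a, 0, 1} : Finset F).card = 3 := by simp [h.1, h.2]
    have := Finset.card_le_univ ({a, 0, 1} : Finset F)
    omega
  haveI : Fact (Nat.Prime 2) := ⟨Nat.prime_two⟩
  haveI : CharP F 2 := by
    obtain ⟨p, hp⟩ := CharP.exists F
    obtain ⟨n, hpp, hn⟩ := FiniteField.card F p
    have : p = 2 := (Nat.prime_dvd_prime_iff_eq hpp Nat.prime_two).1 (h2 ▸ hn ▸ dvd_pow_self p n.pos.ne')
    exact this ▸ hp
  ext n
  constructor
  · rintro ⟨x, rfl⟩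
    obtain ⟨g, rfl⟩ := QuotientGroup.mk_surjective x
    have hd : (g : Matrix (Fin 2) (Fin 2) F).det = 1 :=
      (hall _).resolve_left (Matrix.GeneralLinearGroup.det g).ne_zero
    have hsq := CfsgLib.TwoDim.sq_eq (g : Matrix (Fin 2) (Fin 2) F)
    rw [hd, one_smul] at hsq
    have h23 : (QuotientGroup.mk g : CfsgLib.PGLTwoOrders.P F) ^ 2 = 1 ∨
        (QuotientGroup.mk g : CfsgLib.PGLTwoOrders.P F) ^ 3 = 1 := by
      simp only [CfsgLib.PGLTwoOrders.mk_pow_eq_one_iff]
      rcases hall (g : Matrix (Fin 2) (Fin 2) F).trace with ht | ht <;> rw [ht] at hsq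
      · exact Or.inl ⟨-1, by rw [sq, hsq]; simp⟩
      · refine Or.inr ⟨-1, ?_⟩
        rw [one_smul] at hsq
        rw [pow_succ, sq, hsq, sub_mul, one_mul, hsq]
        simp
    simp only [List.mem_cons, List.not_mem_nil, or_false, Set.mem_ofPred_eq]
    rcases h23 with h | h
    · rcases (Nat.dvd_prime Nat.prime_two).1 (orderOf_dvd_of_pow_eq_one h) with h' | h' <;> simp [h']
    · rcases (Nat.dvd_prime Nat.prime_three).1 (orderOf_dvd_of_pow_eq_one h) with h' | h' <;> simp [h']
  · intro hn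
    simp only [List.mem_cons, List.not_mem_nil, or_false, Set.mem_ofPred_eq] at hn
    rcases hn with rfl | rfl | rfl
    · exact CfsgLib.PGLTwoOrders.exists_char 2
    · exact ⟨1, orderOf_one⟩
    · obtain ⟨x, hx⟩ := CfsgLib.PGLTwoOrders.exists_add_one (F := F) 2
      exact ⟨x, by rw [hx, h2]⟩

/-- For F a finite field whose number of elements is a prime or equals 9, the group PGL(2,F) = GL(2,F)/Z(GL(2,F)) is not determined by its set of element orders: for every bound N there is a finite group of order greater than N with exactly the same set of element orders as PGL(2,F). -/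
theorem result {F : Type*} [Field F] [Fintype F] (hF : (Fintype.card F).Prime ∨ Fintype.card F = 9) (N : ℕ) :
    ∃ (H : Type) (_ : Group H) (_ : Fintype H), N < Fintype.card H ∧
      Set.range (orderOf : H → ℕ) = Set.range (orderOf : Matrix.GeneralLinearGroup (Fin 2) F ⧸ Subgroup.center (Matrix.GeneralLinearGroup (Fin 2) F) → ℕ) := by
  have finish : ∀ (X W : Type) [Group X] [AddCommGroup W] [DistribMulAction X W] [Finite X] [Finite W] (w : W),
      w ≠ 0 → ∀ S : Set ℕ, Set.range (orderOf : CfsgLib.ModuleExt.Ext X W (N + 1) → ℕ) = S →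
      Set.range (orderOf : CfsgLib.PGLTwoOrders.P F → ℕ) = S →
      ∃ (H : Type) (_ : Group H) (_ : Fintype H), N < Fintype.card H ∧
        Set.range (orderOf : H → ℕ) = Set.range (orderOf : CfsgLib.PGLTwoOrders.P F → ℕ) := by
    intro X W _ _ _ _ _ w hw S h1 h2
    letI : Fintype (CfsgLib.ModuleExt.Ext X W (N + 1)) := Fintype.ofFinite _
    refine ⟨CfsgLib.ModuleExt.Ext X W (N + 1), inferInstance, inferInstance, ?_, h1.trans h2.symm⟩
    rw [← Nat.card_eq_fintype_card]
    exact CfsgLib.ModuleExt.le_card hw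
  have hk : 0 < N + 1 := Nat.succ_pos N
  obtain ⟨p, hp, hchar, hodd⟩ : ∃ p : ℕ, p.Prime ∧ CharP F p ∧
      ((Fintype.card F = p ∨ p = 3 ∧ Fintype.card F = 9) ∧ (p ≠ 2 → Odd (Fintype.card F))) := by
    obtain ⟨p, hp⟩ := CharP.exists F
    obtain ⟨n, hpp, hn⟩ := FiniteField.card F p
    refine ⟨p, hpp, hp, ?_, fun h2 => ?_⟩
    · rcases hF with h | h
      · exact Or.inl ((Nat.prime_dvd_prime_iff_eq hpp h).1 (hn ▸ dvd_pow_self p n.pos.ne')).symm
      · refine Or.inr ⟨(Nat.prime_dvd_prime_iff_eq hpp Nat.prime_three).1 (hpp.dvd_of_dvd_pow (n := 2) ?_), h⟩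
        rw [show (3 : ℕ) ^ 2 = Fintype.card F by rw [h]; norm_num, hn]
        exact dvd_pow_self p n.pos.ne'
    · rw [hn]; exact (hpp.odd_of_ne_two h2).pow
  obtain ⟨hcard, hodd⟩ := hodd
  haveI := Fact.mk hp
  by_cases h2 : p = 2
  · subst h2
    have hF2 : Fintype.card F = 2 := hcard.resolve_right (by omega)
    refine finish _ _ ((1, 0) : CfsgLib.SmallFrobenius.W2) (by simp [Prod.ext_iff]) _ (CfsgLib.SmallFrobenius.range3 hk) ?_
    exact orders_two hF2
  have hrange := CfsgLib.PGLTwoOrders.range_orderOf (F := F) p (hodd h2)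
  rcases hcard with hc | ⟨rfl, h9⟩
  · by_cases h3 : p = 3
    · subst h3
      refine finish _ _ ((1, 0) : CfsgLib.SmallFrobenius.W3) (by simp [Prod.ext_iff]) _ (CfsgLib.SmallFrobenius.range4 hk) ?_
      rw [hrange, hc]
      exact div_set (B := 5) (by norm_num) (by norm_num) (by decide) (by decide)
    · have h5 : 5 ≤ p := by
        have := hp.two_le
        rcases (show p = 4 ∨ 5 ≤ p by omega) with h | h
        · subst h; exact absurd hp (by decide)
        · exact h
      haveI : NeZero p := ⟨hp.ne_zero⟩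
      obtain ⟨f, hf⟩ := CfsgLib.CuspModule.exists_ne_zero (p := p) h5
      refine finish _ _ f hf _ (CfsgLib.CuspModule.range_ext h5 hk) ?_
      rw [hrange, hc]
  · refine finish _ _ ((1, 0, 0, 0) : CfsgLib.SmallFrobenius.W81) (by simp [Prod.ext_iff]) _
      (CfsgLib.SmallFrobenius.range40 hk) ?_
    rw [hrange, h9]
    exact div_set (B := 11) (by norm_num) (by norm_num) (by decide) (by decide)

end Cfsg.Agent.S3452
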