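import Cfsg.Statements.S3466
import Cfsg.Agent.Lib.PSpFourSpec.NaturalWitness
import Cfsg.Agent.Lib.PSpFourSpec.TwistedWitness
import Cfsg.Agent.Lib.PSpFourSpec.FiveWitness

set_option autoImplicit false
open Cfsg

namespace Cfsg.Agent.S3466

/-- Let F be a finite field with q ≥ 3 elements such that q is not of the form 3^(2t+1) with t ≥ 1. Then PSp(4,F) is not determined by its set of element orders, not even up to finitely many groups: for every bound N there is a finite group of order greater than N with exactly the same set of element orders as PSp(4,F). -/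
theorem result {F : Type*} [Field F] [Fintype F] (h3 : 3 ≤ Fintype.card F) (hq : ∀ t : ℕ, 1 ≤ t → Fintype.card F ≠ 3 ^ (2 * t + 1)) (N : ℕ) :
    ∃ (H : Type) (_ : Group H) (_ : Fintype H), N < Fintype.card H ∧ Set.range (orderOf : H → ℕ) = Set.range (orderOf : Cfsg.PSp 2 F → ℕ) := by
  classical
  obtain ⟨p, hp⟩ := CharP.exists F
  obtain ⟨m, hpr, hqm⟩ := FiniteField.card F p
  haveI := Fact.mk hpr
  rw [CfsgLib.PSpFourSpec.range_orderOf_psp_four p, hqm]
  have hm0 := m.pos
  let K := GaloisField p ((m : ℕ) * 2)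
  haveI : Fintype K := Fintype.ofFinite K
  have hK : Fintype.card K = p ^ ((m : ℕ) * 2) := by
    rw [← Nat.card_eq_fintype_card, GaloisField.card p ((m : ℕ) * 2) (by omega)]
  rcases le_or_gt 5 p with h5 | h5
  · exact CfsgLib.PSpFourSpec.witness_five (K := K) p m h5 hm0 hK N
  have hp23 : p = 2 ∨ p = 3 :=
    (show ∀ r < 5, Nat.Prime r → r = 2 ∨ r = 3 by decide) p h5 hpr
  rcases hp23 with rfl | rfl
  · refine CfsgLib.PSpFourSpec.witness_two (K := K) m ?_ hK N
    by_contra hm
    rw [hqm, show (m : ℕ) = 1 by omega] at h3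
    norm_num at h3
  rcases Nat.even_or_odd (m : ℕ) with hm | ⟨t, ht⟩
  · refine CfsgLib.PSpFourSpec.witness_three (K := K) m ?_ hm hK N
    obtain ⟨s, hs⟩ := hm
    omega
  · have ht0 : t = 0 := by
      by_contra h
      exact hq t (by omega) (by rw [hqm, ht])
    rw [ht, ht0]
    exact CfsgLib.PSpFourSpec.witness_q_three N

end Cfsg.Agent.S3466
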