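import Cfsg.Statements.S3488
import Cfsg.Agent.Lib.Recog.AffineSLTwoFour
import Mathlib.Tactic.FinCases

set_option autoImplicit false
open Cfsg

namespace Cfsg.Agent.S3488

variable {F : Type*} [Field F]

/-- The block matrix of an affine map of the plane. -/
def blockMat (x : CfsgLib.Recog.AffinePlanes F 1) : Matrix (Fin 3) (Fin 3) F :=
  !![x.right.1 0 0, x.right.1 0 1, x.left.toAdd 0 0;
     x.right.1 1 0, x.right.1 1 1, x.left.toAdd 0 1; 0, 0, 1]

theorem blockMat_mul (x y : CfsgLib.Recog.AffinePlanes F 1) :
    blockMat (x * y) = blockMat x * blockMat y := by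
  ext i j
  fin_cases i <;> fin_cases j <;>
    simp [blockMat, Matrix.mul_apply, Fin.sum_univ_three, Fin.sum_univ_two, CfsgLib.Recog.planesAction,
      Matrix.mulVec, dotProduct, Matrix.SpecialLinearGroup.coe_mul] <;> ring

theorem det_blockMat (x : CfsgLib.Recog.AffinePlanes F 1) : (blockMat x).det = 1 := by
  have := x.right.2
  rw [Matrix.det_fin_two] at this
  rw [blockMat, Matrix.det_fin_three]
  simp
  linear_combination this

/-- The embedding of the affine group of the plane into `SL₃(F)`. -/
def affineEmb : CfsgLib.Recog.AffinePlanes F 1 →* Matrix.SpecialLinearGroup (Fin 3) F :=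
  MonoidHom.mk' (fun x => ⟨blockMat x, det_blockMat x⟩) (fun x y => Subtype.ext (blockMat_mul x y))

theorem affineEmb_coe (x : CfsgLib.Recog.AffinePlanes F 1) :
    (affineEmb x : Matrix (Fin 3) (Fin 3) F) = blockMat x := rfl

theorem affineEmb_injective : Function.Injective (affineEmb (F := F)) := by
  intro x y h
  have e : ∀ i j, blockMat x i j = blockMat y i j := fun i j => by
    rw [← affineEmb_coe, ← affineEmb_coe, h]
  refine SemidirectProduct.ext (Multiplicative.toAdd.injective ?_) (Subtype.ext ?_)
  · funext i j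
    fin_cases i
    fin_cases j
    · exact e 0 2
    · exact e 1 2
  · ext i j
    fin_cases i <;> fin_cases j
    · exact e 0 0
    · exact e 0 1
    · exact e 1 0
    · exact e 1 1

theorem affineEmb_range :
    Subgroup.closure {M : Matrix.SpecialLinearGroup (Fin 3) F |
      (M : Matrix (Fin 3) (Fin 3) F) 2 0 = 0 ∧ (M : Matrix (Fin 3) (Fin 3) F) 2 1 = 0 ∧
      (M : Matrix (Fin 3) (Fin 3) F) 2 2 = 1} = (affineEmb (F := F)).range := by
  refine le_antisymm ((Subgroup.closure_le _).mpr ?_) ?_
  · rintro M ⟨h20, h21, h22⟩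
    have hd : (!![M.1 0 0, M.1 0 1; M.1 1 0, M.1 1 1] : Matrix (Fin 2) (Fin 2) F).det = 1 := by
      have := M.2
      rw [Matrix.det_fin_three, h20, h21, h22] at this
      rw [Matrix.det_fin_two_of]
      linear_combination this
    refine ⟨⟨Multiplicative.ofAdd fun _ => ![M.1 0 2, M.1 1 2], ⟨_, hd⟩⟩, Subtype.ext ?_⟩
    rw [affineEmb_coe]
    ext i j
    fin_cases i <;> fin_cases j
    all_goals first
      | rfl
      | exact h20.symm
      | exact h21.symm
      | exact h22.symm
  · rintro M ⟨x, rfl⟩
    exact Subgroup.subset_closure ⟨rfl, rfl, rfl⟩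


/-- Let F be the field with four elements. The affine group F² ⋊ SL(2,F), realised as the subgroup of SL(3,F) of matrices with last row (0, 0, 1), has exactly the same set of element orders as the alternating group of degree 6 (namely {1, 2, 3, 4, 5}); so the alternating group of degree 6 is not determined by its element orders. -/
theorem result {F : Type*} [Field F] [Fintype F] (hF : Fintype.card F = 4) :
    Set.range (orderOf : Subgroup.closure {M : Matrix.SpecialLinearGroup (Fin 3) F |
        (M : Matrix (Fin 3) (Fin 3) F) 2 0 = 0 ∧ (M : Matrix (Fin 3) (Fin 3) F) 2 1 = 0 ∧ (M : Matrix (Fin 3) (Fin 3) F) 2 2 = 1} → ℕ) =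
      Set.range (orderOf : alternatingGroup (Fin 6) → ℕ) := by
  rw [affineEmb_range, CfsgLib.Recog.altSix_spectrum, ← CfsgLib.Recog.affinePlanes_spectrum hF 1 one_pos]
  ext n
  constructor
  · rintro ⟨⟨_, x, rfl⟩, rfl⟩
    refine ⟨x, ?_⟩
    rw [← orderOf_injective affineEmb affineEmb_injective x, ← Subgroup.orderOf_coe]
  · rintro ⟨x, rfl⟩
    refine ⟨affineEmb.rangeRestrict x, ?_⟩
    rw [← Subgroup.orderOf_coe, MonoidHom.coe_rangeRestrict, orderOf_injective affineEmb affineEmb_injective]

end Cfsg.Agent.S3488
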