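import Cfsg.Statements.S3489
import Cfsg.Agent.Lib.AlmostAll.FPFExtension
import Cfsg.Agent.Lib.AltOrders.Basic

set_option autoImplicit false
open Cfsg

namespace Cfsg.Agent.S3489

/-- reachable lcm and parity pairs by total -/
def tab : ℕ → List (ℕ × ℕ)
  | 0 => [(1, 0)]
  | 1 => []
  | 2 => [(2, 1)]
  | 3 => [(3, 0)]
  | 4 => [(2, 0), (4, 1)]
  | 5 => [(5, 0), (6, 1)]
  | 6 => [(2, 1), (3, 0), (4, 0), (6, 1)]
  | 7 => [(6, 0), (7, 0), (10, 1), (12, 1)]
  | 8 => [(2, 0), (4, 0), (4, 1), (6, 0), (6, 1), (8, 1), (15, 0)]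
  | 9 => [(3, 0), (6, 1), (9, 0), (10, 0), (12, 0), (14, 1), (20, 1)]
  | 10 => [(2, 1), (4, 0), (4, 1), (5, 0), (6, 0), (6, 1), (8, 0), (10, 1), (12, 0), (12, 1), (21, 0), (30, 1)]
  | _ => []

/-- one step of the table -/
theorem step : ∀ t a : Fin 11, 2 ≤ a.val → t.val + a.val ≤ 10 → ((tab t.val).all fun p =>
    (tab (t.val + a.val)).contains (Nat.lcm a.val p.1, (p.2 + a.val + 1) % 2)) = true := by
  decide +kernel

theorem reach (s : Multiset ℕ) : (∀ a ∈ s, 2 ≤ a) → s.sum ≤ 10 →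
    (s.lcm, (s.sum + Multiset.card s) % 2) ∈ tab s.sum := by
  induction s using Multiset.induction with
  | empty => intro _ _; simp [tab]
  | cons a t ih =>
    intro h hs
    rw [Multiset.sum_cons] at hs
    have h' := List.all_eq_true.1
      (step ⟨t.sum, by omega⟩ ⟨a, by omega⟩ (h a (Multiset.mem_cons_self a t)) (by simp only; omega)) _
      (ih (fun b hb => h b (Multiset.mem_cons_of_mem hb)) (by omega))
    rw [List.contains_iff_mem] at h'
    change (Nat.lcm a t.lcm, ((t.sum + Multiset.card t) % 2 + a + 1) % 2) ∈ tab (t.sum + a) at h'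
    rw [Multiset.sum_cons, Multiset.lcm_cons, Multiset.card_cons, Nat.add_comm a t.sum]
    rw [show (t.sum + a + (Multiset.card t + 1)) % 2 = ((t.sum + Multiset.card t) % 2 + a + 1) % 2 by omega,
      lcm_eq_nat_lcm]
    exact h'

theorem even_tab : ∀ t : Fin 11, ((tab t.val).all fun p =>
    !Nat.beq p.2 0 || [1, 2, 3, 4, 5, 6, 7, 8, 9, 10, 12, 15, 21].contains p.1) = true := by
  decide +kernel

theorem specAlt (m : ℕ) : m ∈ [1, 2, 3, 4, 5, 6, 7, 8, 9, 10, 12, 15, 21] ↔
    ∃ s : Multiset ℕ, (∀ a ∈ s, 2 ≤ a) ∧ s.sum ≤ 10 ∧ Even (s.sum + Multiset.card s) ∧ s.lcm = m := by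
  constructor
  · intro hm
    simp only [List.mem_cons, List.not_mem_nil, or_false] at hm
    rcases hm with rfl | rfl | rfl | rfl | rfl | rfl | rfl | rfl | rfl | rfl | rfl | rfl | rfl
    · exact ⟨∅, by decide⟩
    · exact ⟨{2, 2}, by decide⟩
    · exact ⟨{3}, by decide⟩
    · exact ⟨{4, 2}, by decide⟩
    · exact ⟨{5}, by decide⟩
    · exact ⟨{3, 2, 2}, by decide⟩
    · exact ⟨{7}, by decide⟩
    · exact ⟨{8, 2}, by decide⟩
    · exact ⟨{9}, by decide⟩
    · exact ⟨{5, 2, 2}, by decide⟩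
    · exact ⟨{4, 3, 2}, by decide⟩
    · exact ⟨{5, 3}, by decide⟩
    · exact ⟨{7, 3}, by decide⟩
  · rintro ⟨s, h2, hs, he, rfl⟩
    have h' := List.all_eq_true.1 (even_tab ⟨s.sum, by omega⟩) _ (reach s h2 hs)
    simpa [Nat.even_iff.1 he] using h'

/-- The alternating group of degree 10 is not determined by its set of element orders, not even up to finitely many groups: for every bound N there is a finite group of order greater than N with exactly the same set of element orders as the alternating group of degree 10. -/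
theorem result (N : ℕ) : ∃ (H : Type) (_ : Group H) (_ : Fintype H), N < Fintype.card H ∧ Set.range (orderOf : H → ℕ) = Set.range (orderOf : alternatingGroup (Fin 10) → ℕ) := by
  letI : Fintype (CfsgLib.TwoS5.Ext (N + 1)) := Fintype.ofFinite _
  refine ⟨CfsgLib.TwoS5.Ext (N + 1), inferInstance, inferInstance, ?_, ?_⟩
  · rw [← Nat.card_eq_fintype_card]
    exact CfsgLib.TwoS5.le_card (N + 1)
  · ext m
    rw [CfsgLib.AltOrders.mem_range_orderOf_iff, ← specAlt m]
    constructor
    · rintro ⟨x, rfl⟩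
      exact CfsgLib.TwoS5.orderOf_mem x
    · intro hm
      exact CfsgLib.TwoS5.exists_orderOf (Nat.succ_pos N) m hm

end Cfsg.Agent.S3489
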