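import Cfsg.Statements.S3491
import Cfsg.Agent.Lib.Recog.AffineSLTwoFour
import Mathlib.FieldTheory.Finite.GaloisField

set_option autoImplicit false
open Cfsg

namespace Cfsg.Agent.S3491


/-- The alternating group of degree 6 is not determined by its set of element orders, not even up to finitely many groups: for every bound N there is a finite group of order greater than N with exactly the same set of element orders as the alternating group of degree 6. -/
theorem result (N : ℕ) : ∃ (H : Type) (_ : Group H) (_ : Fintype H), N < Fintype.card H ∧ Set.range (orderOf : H → ℕ) = Set.range (orderOf : alternatingGroup (Fin 6) → ℕ) := by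
  classical
  let F := GaloisField 2 2
  haveI : Fintype F := Fintype.ofFinite F
  have hF : Fintype.card F = 4 := by
    rw [← Nat.card_eq_fintype_card, GaloisField.card 2 2 (by norm_num)]; rfl
  let H := CfsgLib.Recog.AffinePlanes F (N + 1)
  haveI : Finite H := Finite.of_equiv _ SemidirectProduct.equivProd.symm
  refine ⟨H, inferInstance, Fintype.ofFinite H, ?_, ?_⟩
  · rw [← @Nat.card_eq_fintype_card H (Fintype.ofFinite H),
      Nat.card_congr SemidirectProduct.equivProd, Nat.card_prod]
    refine lt_of_lt_of_le ?_ (Nat.le_mul_of_pos_right _ Nat.card_pos)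
    rw [Nat.card_congr Multiplicative.toAdd, Nat.card_eq_fintype_card, Fintype.card_fun,
      Fintype.card_fun, hF, Fintype.card_fin, Fintype.card_fin]
    exact lt_of_lt_of_le (Nat.lt_succ_self N) (Nat.lt_pow_self (by norm_num)).le
  · rw [CfsgLib.Recog.affinePlanes_spectrum hF _ (Nat.succ_pos N), CfsgLib.Recog.altSix_spectrum]

end Cfsg.Agent.S3491
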