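import Cfsg.Statements.S3495
import Cfsg.Agent.Lib.Recog.ExtremelyPrimitive

set_option autoImplicit false
open Cfsg

namespace Cfsg.Agent.S3495


/-- Let a finite group G act faithfully and primitively on a finite set Ω with non-trivial point stabilizers, each acting primitively on every one of its orbits (an extremely primitive group), and suppose G has an elementary abelian normal p-subgroup N acting regularly on Ω (affine type). Then every non-trivial subgroup M of a point stabilizer G_α that is normal in G_α has the same orbits on Ω as G_α, and normalizes no subgroup of N other than 1 and N. -/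
theorem result {G : Type*} [Group G] [Finite G] {Ω : Type*} [Fintype Ω] [MulAction G Ω] [FaithfulSMul G Ω] (hprim : MulAction.IsPreprimitive G Ω) (hH : ∀ α : Ω, MulAction.stabilizer G α ≠ ⊥) (hep : ∀ (α : Ω) (ω : Ω), MulAction.IsPreprimitive (MulAction.stabilizer G α) (MulAction.orbit (MulAction.stabilizer G α) ω))
    (N : Subgroup G) [N.Normal] (hNc : IsMulCommutative N) (p : ℕ) (hp : p.Prime) (hNp : ∀ n ∈ N, n ^ p = 1)
    (hNtr : MulAction.IsPretransitive N Ω) (hNreg : ∀ ω : Ω, MulAction.stabilizer N ω = ⊥) (α : Ω) (M : Subgroup G) (hM : M ≠ ⊥) (hMle : M ≤ MulAction.stabilizer G α)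
    (hMn : MulAction.stabilizer G α ≤ Subgroup.normalizer (M : Set G)) :
    (∀ ω : Ω, MulAction.orbit M ω = MulAction.orbit (MulAction.stabilizer G α) ω) ∧
    (∀ L : Subgroup G, L ≤ N → M ≤ Subgroup.normalizer (L : Set G) → L = ⊥ ∨ L = N) := by
  have horb := CfsgLib.Recog.orbit_eq_of_normalized hprim (hH α) (hep α) hM hMle hMn
  refine ⟨horb, fun L hLN hML => ?_⟩
  haveI := hprim
  have hcomm : ∀ a ∈ N, ∀ b ∈ N, a * b = b * a := fun a ha b hb =>
    congrArg Subtype.val (hNc.is_comm.comm ⟨a, ha⟩ ⟨b, hb⟩)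
  have hreg : ∀ a ∈ N, ∀ b ∈ N, a • α = b • α → a = b := fun a ha b hb h => by
    have h1 : (⟨b⁻¹ * a, N.mul_mem (N.inv_mem hb) ha⟩ : N) ∈ MulAction.stabilizer N α := by
      change (b⁻¹ * a) • α = α
      rw [mul_smul, h, inv_smul_smul]
    rw [hNreg, Subgroup.mem_bot] at h1
    exact (inv_mul_eq_one.mp (congrArg Subtype.val h1)).symm
  have hHL : ∀ a ∈ MulAction.stabilizer G α, ∀ l ∈ L, a * l * a⁻¹ ∈ L := by
    intro a ha l hl
    have hy : a • l • α ∈ MulAction.orbit M (l • α) := by rw [horb]; exact ⟨⟨a, ha⟩, rfl⟩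
    obtain ⟨⟨m, hm⟩, hmy⟩ := hy
    change m • l • α = a • l • α at hmy
    have hml : m * l * m⁻¹ ∈ L := ((Subgroup.mem_normalizer_iff.mp (hML hm)) l).mp hl
    rw [show a * l * a⁻¹ = m * l * m⁻¹ from hreg _ (Subgroup.Normal.conj_mem inferInstance l (hLN hl) a)
      _ (hLN hml) (by
        rw [mul_smul, mul_smul, mul_smul, mul_smul, MulAction.mem_stabilizer_iff.mp (inv_mem ha),
          MulAction.mem_stabilizer_iff.mp (inv_mem (hMle hm)), hmy])]
    exact hml
  have hLn : L.Normal := by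
    refine ⟨fun l hl g => ?_⟩
    obtain ⟨n, hn⟩ := hNtr.exists_smul_eq α (g • α)
    have ha : (n : G)⁻¹ * g ∈ MulAction.stabilizer G α := by
      rw [MulAction.mem_stabilizer_iff, mul_smul, ← hn]; exact inv_smul_smul (n : G) α
    have h1 := hHL _ ha l hl
    have h2 : g * l * g⁻¹ = (n : G) * ((n : G)⁻¹ * g * l * ((n : G)⁻¹ * g)⁻¹) * (n : G)⁻¹ := by group
    rw [h2, hcomm _ n.2 _ (hLN h1), mul_inv_cancel_right]
    exact h1
  by_cases hL : L = ⊥
  · exact Or.inl hL
  refine Or.inr (le_antisymm hLN fun x hx => ?_)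
  haveI := hLn
  obtain ⟨l, hl⟩ := (CfsgLib.Recog.normal_transitive (Ω := Ω) hprim L hL).exists_smul_eq α (x • α)
  rw [← hreg l (hLN l.2) x hx hl]
  exact l.2

end Cfsg.Agent.S3495
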