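import Cfsg.Statements.S3496
import Cfsg.Agent.Lib.Recog.ExtremelyPrimitive
import Cfsg.Agent.Lib.Recog.DerangementAffine
import Cfsg.Agent.S3444
import Cfsg.Agent.S3495

set_option autoImplicit false
open Cfsg

namespace Cfsg.Agent.S3496

open Polynomial in
/-- An irreducible operator of prime order `q` on a space of order `p ^ d` over `ZMod p`. -/
theorem operator_facts {p q d : ℕ} [Fact p.Prime] (hq : q.Prime) {V : Type*} [AddCommGroup V]
    [Module (ZMod p) V] [Finite V] [Nontrivial V] (τ : Module.End (ZMod p) V) (hτq : τ ^ q = 1)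
    (hτ1 : τ ≠ 1) (hirr : ∀ W : Submodule (ZMod p) V, (∀ x ∈ W, τ x ∈ W) → W = ⊥ ∨ W = ⊤)
    (hcard : Nat.card V = p ^ d) :
    (∀ i : ℕ, 0 < i → i < d → ¬ q ∣ p ^ i - 1) ∧
      ∀ (k : ℕ) (σ : Module.End (ZMod p) V), Function.Injective σ → σ * τ = τ ^ k * σ →
        ∃ j : ℕ, τ ^ k = τ ^ (p ^ j) := by
  classical
  let ev : (ZMod p)[X] →ₐ[ZMod p] Module.End (ZMod p) V := aeval τ
  let P : Ideal (ZMod p)[X] := RingHom.ker ev.toRingHom
  have hinv : ∀ f : (ZMod p)[X], ev f ≠ 0 → Function.Injective (ev f) := by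
    intro f hf
    rw [← LinearMap.ker_eq_bot]
    refine (hirr _ fun x hx => ?_).resolve_right fun h => hf (LinearMap.ker_eq_top.mp h)
    rw [LinearMap.mem_ker] at hx ⊢
    have : ev f * τ = τ * ev f := by
      conv_lhs => rw [show τ = ev X from (aeval_X τ).symm]
      rw [← map_mul, mul_comm, map_mul]
      simp [ev]
    rw [← Module.End.mul_apply, this, Module.End.mul_apply, hx, map_zero]
  haveI hP : P.IsPrime := by
    refine ⟨fun h => ?_, fun {f g} hfg => ?_⟩
    · have h1 : (1 : (ZMod p)[X]) ∈ P := h ▸ Submodule.mem_top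
      have h2 : ev 1 = 0 := h1
      rw [map_one] at h2
      obtain ⟨x, hx⟩ := exists_ne (0 : V)
      exact hx (LinearMap.congr_fun h2 x)
    · have h2 : ev f * ev g = 0 := by rw [← map_mul]; exact hfg
      by_cases hf : ev f = 0
      · exact Or.inl hf
      · refine Or.inr (show ev g = 0 from LinearMap.ext fun x => hinv f hf ?_)
        rw [LinearMap.zero_apply, map_zero, ← Module.End.mul_apply, h2, LinearMap.zero_apply]
  obtain ⟨x₀, hx₀⟩ := exists_ne (0 : V)
  let evx : (ZMod p)[X] →ₗ[ZMod p] V := (LinearMap.applyₗ x₀).comp ev.toLinearMap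
  have hker : ∀ f, evx f = 0 ↔ ev f = 0 := by
    refine fun f => ⟨fun h => ?_, fun h => ?_⟩
    · by_contra hf
      exact hx₀ (hinv f hf (h.trans (map_zero (ev f)).symm))
    · exact LinearMap.congr_fun h x₀
  have hsurj : Function.Surjective evx := by
    rw [← LinearMap.range_eq_top]
    refine (hirr _ ?_).resolve_left fun h => hx₀ ?_
    · rintro _ ⟨f, rfl⟩
      refine ⟨X * f, ?_⟩
      change ev (X * f) x₀ = τ (ev f x₀)
      rw [map_mul, Module.End.mul_apply]
      simp [ev]
    · have h1 : evx 1 ∈ LinearMap.range evx := ⟨1, rfl⟩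
      rw [h, Submodule.mem_bot] at h1
      change ev 1 x₀ = 0 at h1
      rwa [map_one, Module.End.one_apply] at h1
  let R := (ZMod p)[X] ⧸ P
  let t : R := Ideal.Quotient.mkₐ (ZMod p) P X
  have haev : ∀ f : (ZMod p)[X], aeval t f = Ideal.Quotient.mkₐ (ZMod p) P f := fun f => by
    rw [aeval_algHom_apply, aeval_X_left_apply]
  let e : R →ₗ[ZMod p] V :=
    (P.restrictScalars (ZMod p)).liftQ evx (fun f hf => (hker f).mpr hf)
  have hebij : Function.Bijective e := by
    refine ⟨?_, fun v => ?_⟩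
    · intro a b hab
      obtain ⟨f, rfl⟩ := Ideal.Quotient.mk_surjective a
      obtain ⟨g, rfl⟩ := Ideal.Quotient.mk_surjective b
      rw [Ideal.Quotient.eq]
      refine (hker _).mp ?_
      rw [map_sub, sub_eq_zero]
      exact hab
    · obtain ⟨f, rfl⟩ := hsurj v
      exact ⟨Ideal.Quotient.mk P f, rfl⟩
  haveI : Finite R := Finite.of_injective _ hebij.1
  have hR : Nat.card R = p ^ d := by rw [Nat.card_eq_of_bijective _ hebij, hcard]
  have hmk : ∀ m n : ℕ, t ^ m = t ^ n ↔ τ ^ m = τ ^ n := by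
    intro m n
    rw [← map_pow, ← map_pow, Ideal.Quotient.mkₐ_eq_mk, Ideal.Quotient.eq]
    change ev (X ^ m - X ^ n) = 0 ↔ _
    rw [map_sub, sub_eq_zero, map_pow, map_pow]
    simp [ev]
  have htq : orderOf t = q := by
    haveI := Fact.mk hq
    refine orderOf_eq_prime ?_ fun h => hτ1 ?_
    · rw [← pow_zero t, hmk, hτq, pow_zero]
    · have h' : t ^ 1 = t ^ 0 := by rw [pow_one, pow_zero]; exact h
      rwa [hmk, pow_one, pow_zero] at h'
  have hfin : IsOfFinOrder t := orderOf_pos_iff.mp (htq ▸ hq.pos)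
  have hfrob : ∀ (f : (ZMod p)[X]) (i : ℕ), (aeval t f) ^ (p ^ i) = aeval (t ^ (p ^ i)) f := by
    intro f i
    induction i with
    | zero => simp
    | succ i ih =>
      rw [pow_succ, pow_mul, ih, ← map_pow, ← ZMod.expand_card, expand_aeval, ← pow_mul]
  have htd : ∀ i, 0 < i → i < d → ¬ q ∣ p ^ i - 1 := by
    intro i hi hid hdvd
    have hone : t ^ (p ^ i) = t := by
      conv_rhs => rw [← pow_one t]
      rw [hfin.pow_eq_pow_iff_modEq, htq]
      exact ((Nat.modEq_iff_dvd' (Nat.one_le_pow _ _ (Fact.out : p.Prime).pos)).mpr hdvd).symm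
    have hall : ∀ r : R, r ^ (p ^ i) = r := fun r => by
      obtain ⟨f, rfl⟩ := Ideal.Quotient.mk_surjective r
      rw [← Ideal.Quotient.mkₐ_eq_mk (ZMod p), ← haev, hfrob, hone]
    haveI : Fintype R := Fintype.ofFinite R
    have hlt : 1 < p ^ i := Nat.one_lt_pow hi.ne' (Fact.out : p.Prime).one_lt
    have hdeg : ((X : R[X]) ^ (p ^ i) - X).natDegree = p ^ i := by
      rw [natDegree_sub_eq_left_of_natDegree_lt (by rw [natDegree_X_pow, natDegree_X]; exact hlt), natDegree_X_pow]
    have hne : ((X : R[X]) ^ (p ^ i) - X) ≠ 0 := fun h => by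
      rw [h, natDegree_zero] at hdeg
      omega
    have hsub : (Finset.univ : Finset R) ⊆ ((X : R[X]) ^ (p ^ i) - X).roots.toFinset := fun r _ => by
      rw [Multiset.mem_toFinset, mem_roots hne]
      simp [hall r]
    have h3 := (Finset.card_le_card hsub).trans ((Multiset.toFinset_card_le _).trans (card_roots' _))
    rw [Finset.card_univ, ← Nat.card_eq_fintype_card, hR, hdeg] at h3
    exact absurd h3 (not_le.mpr (Nat.pow_lt_pow_right (Fact.out : p.Prime).one_lt hid))
  refine ⟨htd, fun k σ hσ hστ => ?_⟩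
  have hconj : ∀ f : (ZMod p)[X], σ * aeval τ f = aeval (τ ^ k) f * σ := by
    intro f
    induction f using Polynomial.induction_on' with
    | add f g hf hg => rw [map_add, map_add, mul_add, add_mul, hf, hg]
    | monomial n a =>
      rw [aeval_monomial, aeval_monomial]
      have hn : σ * τ ^ n = (τ ^ k) ^ n * σ := by
        induction n with
        | zero => simp
        | succ n ih => rw [pow_succ, ← mul_assoc, ih, mul_assoc, hστ, ← mul_assoc, ← pow_succ]
      rw [← mul_assoc, (Algebra.commutes a σ).symm, mul_assoc, hn, mul_assoc]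
  haveI : Fintype R := Fintype.ofFinite R
  haveI : Module.Finite (ZMod p) R := Module.Finite.of_finite
  have hfr : Module.finrank (ZMod p) R = d := by
    have h := Module.natCard_eq_pow_finrank (K := ZMod p) (V := R)
    rw [hR, Nat.card_zmod] at h
    exact (Nat.pow_right_injective (Fact.out : p.Prime).two_le h).symm
  set m := minpoly (ZMod p) t with hm
  have hint : IsIntegral (ZMod p) t := IsIntegral.of_finite _ _
  have hm0 : m.map (algebraMap (ZMod p) R) ≠ 0 :=
    (Polynomial.map_ne_zero_iff (algebraMap (ZMod p) R).injective).mpr (minpoly.ne_zero hint)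
  have hroot : ∀ j, aeval (t ^ (p ^ j)) m = 0 := fun j => by
    rw [← hfrob, hm, minpoly.aeval, zero_pow (pow_ne_zero j (Fact.out : p.Prime).ne_zero)]
  have hrootk : aeval (t ^ k) m = 0 := by
    have h0 : ev m = 0 := by
      have : Ideal.Quotient.mk P m = 0 := by rw [← Ideal.Quotient.mkₐ_eq_mk (ZMod p), ← haev, hm, minpoly.aeval]
      exact Ideal.Quotient.eq_zero_iff_mem.mp this
    have h1 : aeval (τ ^ k) m = 0 := by
      have h2 := hconj m
      rw [show aeval τ m = 0 from h0, mul_zero] at h2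
      have hsσ : Function.Surjective σ := Finite.injective_iff_surjective.mp hσ
      refine LinearMap.ext fun v => ?_
      obtain ⟨w, rfl⟩ := hsσ v
      rw [← Module.End.mul_apply, ← h2, LinearMap.zero_apply, LinearMap.zero_apply]
    rw [show t ^ k = Ideal.Quotient.mkₐ (ZMod p) P (X ^ k) from (map_pow _ _ _).symm, aeval_algHom_apply,
      Ideal.Quotient.mkₐ_eq_mk, Ideal.Quotient.eq_zero_iff_mem]
    change ev (aeval (X ^ k) m) = 0
    rw [← aeval_algHom_apply, map_pow]
    simpa [ev] using h1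
  by_contra hcon
  push Not at hcon
  let S : Finset R := insert (t ^ k) ((Finset.range d).image fun j => t ^ (p ^ j))
  have hS : S.card = d + 1 := by
    rw [Finset.card_insert_of_notMem, Finset.card_image_of_injOn, Finset.card_range]
    · intro a ha b hb hab
      simp only [Finset.coe_range, Set.mem_Iio] at ha hb
      rcases lt_trichotomy a b with h | h | h
      · exfalso
        have hab' : t ^ (p ^ a) = t ^ (p ^ b) := hab
        rw [hfin.pow_eq_pow_iff_modEq, htq] at hab'
        have h2 := (Nat.modEq_iff_dvd' (Nat.pow_le_pow_right (Fact.out : p.Prime).pos h.le)).mp hab'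
        rw [show p ^ b - p ^ a = p ^ a * (p ^ (b - a) - 1) by
          rw [Nat.mul_sub_one, ← pow_add, Nat.add_sub_cancel' h.le]] at h2
        rcases hq.dvd_mul.mp h2 with h3 | h3
        · have hpq : p = q := ((Nat.prime_dvd_prime_iff_eq hq Fact.out).mp (hq.dvd_of_dvd_pow h3)).symm
          subst hpq
          have hz : (t - 1) ^ p = 0 := by
            haveI : CharP R p := charP_of_injective_algebraMap (algebraMap (ZMod p) R).injective p
            rw [sub_pow_char, one_pow, sub_eq_zero, ← pow_zero t, hmk, hτq, pow_zero]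
          have h1 : t = 1 := sub_eq_zero.mp (eq_zero_of_pow_eq_zero hz)
          rw [h1, orderOf_one] at htq
          exact hq.ne_one htq.symm
        · exact htd (b - a) (by omega) (by omega) h3
      · exact h
      · exfalso
        have hab' : t ^ (p ^ b) = t ^ (p ^ a) := hab.symm
        rw [hfin.pow_eq_pow_iff_modEq, htq] at hab'
        have h2 := (Nat.modEq_iff_dvd' (Nat.pow_le_pow_right (Fact.out : p.Prime).pos h.le)).mp hab'
        rw [show p ^ a - p ^ b = p ^ b * (p ^ (a - b) - 1) by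
          rw [Nat.mul_sub_one, ← pow_add, Nat.add_sub_cancel' h.le]] at h2
        rcases hq.dvd_mul.mp h2 with h3 | h3
        · have hpq : p = q := ((Nat.prime_dvd_prime_iff_eq hq Fact.out).mp (hq.dvd_of_dvd_pow h3)).symm
          subst hpq
          have hz : (t - 1) ^ p = 0 := by
            haveI : CharP R p := charP_of_injective_algebraMap (algebraMap (ZMod p) R).injective p
            rw [sub_pow_char, one_pow, sub_eq_zero, ← pow_zero t, hmk, hτq, pow_zero]
          have h1 : t = 1 := sub_eq_zero.mp (eq_zero_of_pow_eq_zero hz)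
          rw [h1, orderOf_one] at htq
          exact hq.ne_one htq.symm
        · exact htd (a - b) (by omega) (by omega) h3
    · rw [Finset.mem_image]
      rintro ⟨j, -, hj⟩
      exact hcon j ((hmk _ _).mp hj.symm)
  have hsub : S ⊆ (m.map (algebraMap (ZMod p) R)).roots.toFinset := fun r hr => by
    rw [Multiset.mem_toFinset, mem_roots hm0, IsRoot, eval_map, ← aeval_def]
    rcases Finset.mem_insert.mp hr with rfl | hr
    · exact hrootk
    · obtain ⟨j, -, rfl⟩ := Finset.mem_image.mp hr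
      exact hroot j
  have h4 := (Finset.card_le_card hsub).trans ((Multiset.toFinset_card_le _).trans (card_roots' _))
  rw [hS, natDegree_map] at h4
  have h5 : m.natDegree ≤ d := hfr ▸ minpoly.natDegree_le t
  omega

/-- A group of exponent-`q` automorphisms without fixed points has only one subgroup of order `q`. -/
theorem fpf_mem_zpowers {A N : Type*} [CommGroup A] [CommGroup N] {q r : ℕ} (hq : q.Prime) (hr : r.Prime)
    (hqr : q ≠ r) (f : A →* MulAut N) (hA : ∀ a : A, a ^ q = 1) (hN : ∀ n : N, n ^ r = 1)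
    (hfpf : ∀ a : A, a ≠ 1 → ∀ n : N, f a n = n → n = 1) [Nontrivial N] {a : A} (ha : a ≠ 1) (t : A) :
    t ∈ Subgroup.zpowers a := by
  by_contra ht
  have hnorm : ∀ c : A, c ≠ 1 → ∀ x : N, ∏ j ∈ Finset.range q, f (c ^ j) x = 1 := by
    intro c hc x
    refine hfpf c hc _ ?_
    rw [map_prod]
    have h1 : ∀ j, f c (f (c ^ j) x) = f (c ^ (j + 1)) x := fun j => by
      rw [pow_succ' c j, map_mul, MulAut.mul_apply]
    simp_rw [h1]
    obtain ⟨m, rfl⟩ : ∃ m, q = m + 1 := ⟨q - 1, by have := hq.pos; omega⟩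
    rw [Finset.prod_range_succ, Finset.prod_range_succ' (fun j => f (c ^ j) x) m, hA, pow_zero]
  have hx : ∀ x : N, x ^ q = 1 := by
    intro x
    have h2 : ∏ i ∈ Finset.range q, ∏ j ∈ Finset.range q, f ((t * a ^ i) ^ j) x = 1 :=
      Finset.prod_eq_one fun i _ => hnorm _ (fun h => ht (by
        rw [eq_inv_of_mul_eq_one_left h]; exact inv_mem (Subgroup.npow_mem_zpowers a i))) x
    rw [Finset.prod_comm, Finset.prod_eq_single 0] at h2
    · simpa using h2
    · intro j hj hj0
      have haj : a ^ j ≠ 1 := fun h => by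
        haveI := Fact.mk hq
        have h3 := orderOf_dvd_of_pow_eq_one h
        rw [orderOf_eq_prime (hA a) ha] at h3
        exact absurd (Nat.le_of_dvd (Nat.pos_of_ne_zero hj0) h3) (by simp at hj; omega)
      have h4 : ∀ i, f ((t * a ^ i) ^ j) x = f (t ^ j) (f ((a ^ j) ^ i) x) := fun i => by
        rw [mul_pow, ← pow_mul, mul_comm i j, pow_mul, map_mul, MulAut.mul_apply]
      simp_rw [h4]
      rw [← map_prod, hnorm _ haj, map_one]
    · intro h; exact absurd (Finset.mem_range.mpr hq.pos) h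
  obtain ⟨x, hx1⟩ := exists_ne (1 : N)
  haveI := Fact.mk hq
  have h5 := orderOf_eq_prime (hx x) hx1
  have h6 : q ∣ r := h5 ▸ orderOf_dvd_of_pow_eq_one (hN x)
  exact hqr ((Nat.prime_dvd_prime_iff_eq hq hr).mp h6)

/-- The consequences of `operator_facts` for an automorphism of an elementary abelian group. -/
theorem aut_facts {p q d : ℕ} [Fact p.Prime] (hq : q.Prime) {N : Type*} [CommGroup N] [Finite N]
    [Nontrivial N] [Module (ZMod p) (Additive N)] (φ : MulAut N) (hφq : φ ^ q = 1) (hφ1 : φ ≠ 1)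
    (hirr : ∀ L : Subgroup N, (∀ x ∈ L, φ x ∈ L) → L = ⊥ ∨ L = ⊤) (hcard : Nat.card N = p ^ d) :
    (∀ i : ℕ, 0 < i → i < d → ¬ q ∣ p ^ i - 1) ∧
      ∀ (k : ℕ) (ψ : MulAut N), ψ * φ = φ ^ k * ψ → ∃ j : ℕ, φ ^ k = φ ^ (p ^ j) := by
  let ρ : MulAut N →* Module.End (ZMod p) (Additive N) :=
    { toFun := fun σ => (MonoidHom.toAdditive σ.toMonoidHom).toZModLinearMap p
      map_one' := LinearMap.ext fun _ => rfl
      map_mul' := fun _ _ => LinearMap.ext fun _ => rfl }
  have hρ : Function.Injective ρ := fun σ τ h => MulEquiv.ext fun a =>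
    congrArg Additive.toMul (LinearMap.congr_fun h (Additive.ofMul a))
  have hirr' : ∀ W : Submodule (ZMod p) (Additive N), (∀ x ∈ W, ρ φ x ∈ W) → W = ⊥ ∨ W = ⊤ := by
    intro W hW
    let L : Subgroup N :=
      { carrier := {x | Additive.ofMul x ∈ W}
        one_mem' := W.zero_mem
        mul_mem' := fun ha hb => W.add_mem ha hb
        inv_mem' := fun ha => W.neg_mem ha }
    rcases hirr L (fun x hx => hW _ hx) with h | h
    · refine Or.inl ((Submodule.eq_bot_iff W).mpr fun w hw => ?_)
      have : w.toMul ∈ L := hw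
      rw [h, Subgroup.mem_bot] at this
      exact Additive.toMul.injective this
    · exact Or.inr (eq_top_iff.mpr fun w _ => (h ▸ Subgroup.mem_top w.toMul : w.toMul ∈ L))
  obtain ⟨h1, h2⟩ := operator_facts (V := Additive N) (d := d) hq (ρ φ) (by rw [← map_pow, hφq, map_one])
    (fun h => hφ1 (hρ (h.trans (map_one ρ).symm))) hirr' ((Nat.card_congr Additive.toMul).trans hcard)
  refine ⟨h1, fun k ψ hk => ?_⟩
  obtain ⟨j, hj⟩ := h2 k (ρ ψ) (fun x y hxy => Additive.toMul.injective (ψ.injective (congrArg Additive.toMul hxy)))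
    (by rw [← map_mul, hk, map_mul, map_pow])
  exact ⟨j, hρ (by rw [map_pow, map_pow, hj])⟩

theorem aut_facts' {p q d : ℕ} [Fact p.Prime] (hq : q.Prime) {N : Type*} [CommGroup N] [Finite N]
    [Nontrivial N] (hexp : ∀ n : N, n ^ p = 1) (φ : MulAut N) (hφq : φ ^ q = 1) (hφ1 : φ ≠ 1)
    (hirr : ∀ L : Subgroup N, (∀ x ∈ L, φ x ∈ L) → L = ⊥ ∨ L = ⊤) (hcard : Nat.card N = p ^ d) :
    (∀ i : ℕ, 0 < i → i < d → ¬ q ∣ p ^ i - 1) ∧
      ∀ (k : ℕ) (ψ : MulAut N), ψ * φ = φ ^ k * ψ → ∃ j : ℕ, φ ^ k = φ ^ (p ^ j) :=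
  @aut_facts p q d _ hq N _ _ _
    (AddCommGroup.zmodModule fun x => Additive.toMul.injective (hexp x.toMul)) φ hφq hφ1 hirr hcard


/-- The soluble extremely primitive groups. Let a finite solvable group G act faithfully and primitively on a finite set Ω with p ^ d points (p prime), with non-trivial point stabilizers each acting primitively on every one of its orbits. Then there is a prime q such that every orbit of a point stabilizer G_α other than {α} has exactly q points, q divides p ^ d − 1 but no p ^ i − 1 with 0 < i < d, and G_α has a normal subgroup T of order q with G_α generated by T and one further element and the order of G_α dividing q·d (so G_α is cyclic of order q, or an extension of T by a cyclic group of order dividing d). -/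
theorem result {G : Type*} [Group G] [Finite G] {Ω : Type*} [Fintype Ω] [MulAction G Ω] [FaithfulSMul G Ω] [Group.IsSolvable G] (p d : ℕ) (hp : p.Prime) (hcard : Fintype.card Ω = p ^ d)
    (hprim : MulAction.IsPreprimitive G Ω) (hH : ∀ α : Ω, MulAction.stabilizer G α ≠ ⊥) (hep : ∀ (α : Ω) (ω : Ω), MulAction.IsPreprimitive (MulAction.stabilizer G α) (MulAction.orbit (MulAction.stabilizer G α) ω)) (α : Ω) :
    ∃ q : ℕ, q.Prime ∧ (∀ ω : Ω, ω ≠ α → Nat.card (MulAction.orbit (MulAction.stabilizer G α) ω) = q) ∧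
      q ∣ p ^ d - 1 ∧ (∀ i : ℕ, 0 < i → i < d → ¬ q ∣ p ^ i - 1) ∧
      ∃ T : Subgroup G, T ≤ MulAction.stabilizer G α ∧ MulAction.stabilizer G α ≤ Subgroup.normalizer (T : Set G) ∧ Nat.card T = q ∧
        (∃ h : G, MulAction.stabilizer G α = T ⊔ Subgroup.zpowers h) ∧ Nat.card (MulAction.stabilizer G α) ∣ q * d := by
  classical
  haveI := Fact.mk hp
  have hα := hH α
  haveI : Nontrivial Ω := by
    by_contra h
    rw [not_nontrivial_iff_subsingleton] at h
    exact hα ((Subgroup.eq_bot_iff_forall _).mpr fun x _ =>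
      eq_of_smul_eq_smul (α := Ω) fun v => Subsingleton.elim _ _)
  have hd : d ≠ 0 := fun h => by
    have := Fintype.one_lt_card (α := Ω)
    rw [hcard, h, pow_zero] at this
    exact lt_irrefl 1 this
  obtain ⟨ω₀, hω₀⟩ := exists_ne α
  haveI : Nontrivial G := by
    by_contra h
    rw [not_nontrivial_iff_subsingleton] at h
    exact hα (Subsingleton.elim _ _)
  obtain ⟨N, r, hNn, hN0, hr, hNc, hNexp⟩ :=
    Cfsg.Agent.S3444.exists_elementary_abelian (⊤ : Subgroup G) top_ne_bot inferInstance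
  haveI := hNn
  have hNc' : IsMulCommutative N := ⟨⟨hNc⟩⟩
  obtain ⟨htr, hreg⟩ := CfsgLib.Recog.abelian_regular (Ω := Ω) hprim N hN0 hNc'
  have hNcard : Nat.card N = p ^ d := (CfsgLib.Recog.regular_card htr hreg).trans hcard
  have hrp : r = p := by
    haveI := Fact.mk hr
    haveI : Nontrivial N := (Subgroup.nontrivial_iff_ne_bot N).mpr hN0
    obtain ⟨x, hx⟩ := exists_ne (1 : N)
    have h1 := orderOf_eq_prime (hNexp x) hx
    have h2 := orderOf_dvd_natCard x
    rw [h1, hNcard] at h2
    exact (Nat.prime_dvd_prime_iff_eq hr hp).mp (hr.dvd_of_dvd_pow h2)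
  have hNexp : ∀ x : N, x ^ p = 1 := fun x => hrp ▸ hNexp x
  obtain ⟨h₀, hh₀, hmv⟩ := CfsgLib.Recog.exists_moved hprim hα hω₀
  haveI : Nontrivial (MulAction.orbit (MulAction.stabilizer G α) ω₀) :=
    CfsgLib.Recog.nontrivial_suborbit hh₀ hmv
  haveI := CfsgLib.Recog.faithfulSMul_suborbit hprim hα (hep α) hω₀
  obtain ⟨A, q, hAn, hA0, hq, hAc, hAexp⟩ := Cfsg.Agent.S3444.exists_elementary_abelian
    (⊤ : Subgroup (MulAction.stabilizer G α))
    (fun h => hα (by rw [← Subgroup.card_eq_one, ← Subgroup.card_top, h, Subgroup.card_bot]))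
    inferInstance
  haveI := hAn
  haveI := Fact.mk hq
  set T := A.map (MulAction.stabilizer G α).subtype with hT
  have hTle : T ≤ MulAction.stabilizer G α := Subgroup.map_subtype_le A
  have hTn : MulAction.stabilizer G α ≤ Subgroup.normalizer (T : Set G) := by
    refine (Subgroup.normal_subgroupOf_iff_le_normalizer hTle).mp ?_
    rw [hT, Subgroup.subgroupOf, Subgroup.comap_map_eq_self_of_injective (Subgroup.subtype_injective _)]
    exact hAn
  have hT0 : T ≠ ⊥ := by rwa [hT, Ne, Subgroup.map_eq_bot_iff_of_injective _ (Subgroup.subtype_injective _)]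
  have hTc : ∀ a ∈ T, ∀ b ∈ T, a * b = b * a := by
    rintro _ ⟨a, ha, rfl⟩ _ ⟨b, hb, rfl⟩
    exact congrArg Subtype.val (congrArg Subtype.val (hAc ⟨a, ha⟩ ⟨b, hb⟩))
  have hTexp : ∀ a ∈ T, a ^ q = 1 := by
    rintro _ ⟨a, ha, rfl⟩
    exact congrArg Subtype.val (congrArg Subtype.val (hAexp ⟨a, ha⟩))
  have hsr : ∀ a ∈ T, a ≠ 1 → ∀ ω : Ω, ω ≠ α → a • ω ≠ ω := fun a ha ha1 ω hω =>
    CfsgLib.Recog.abelian_normal_semiregular hprim hα (hep α) hT0 hTle hTn hTc ha ha1 hω
  have horb : ∀ ω : Ω, ω ≠ α → Nat.card (MulAction.orbit (MulAction.stabilizer G α) ω) = Nat.card T := by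
    intro ω hω
    rw [← CfsgLib.Recog.orbit_eq_of_normalized hprim hα (hep α) hT0 hTle hTn ω,
      Nat.card_congr (MulAction.orbitEquivQuotientStabilizer T ω), ← Subgroup.index_eq_card,
      show MulAction.stabilizer T ω = ⊥ from (Subgroup.eq_bot_iff_forall _).mpr fun a ha => by
        by_contra h
        exact hsr a a.2 (fun h' => h (Subtype.ext h')) ω hω ha,
      Subgroup.index_bot]
  have hfpf : ∀ a ∈ T, a ≠ 1 → ∀ n : N, a * n * a⁻¹ = (n : G) → n = 1 := by
    intro a ha ha1 n hn
    have h1 : a • ((n : G) • α) = (n : G) • α := by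
      rw [← mul_smul, mul_inv_eq_iff_eq_mul.mp hn, mul_smul, show a • α = α from hTle ha]
    have h2 : (n : G) • α = α := by
      by_contra h
      exact hsr a ha ha1 _ h h1
    have h3 : n ∈ MulAction.stabilizer N α := h2
    rwa [hreg, Subgroup.mem_bot] at h3
  obtain ⟨e, he⟩ : ∃ e, Nat.card T = q ^ e :=
    (IsPGroup.iff_card (p := q)).mp fun a => ⟨1, Subtype.ext (by simpa using hTexp a a.2)⟩
  have he0 : e ≠ 0 := fun h => hT0 (Subgroup.card_eq_one.mp (by rw [he, h, pow_zero]))
  have hqd : q ∣ p ^ d - 1 := by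
    letI : MulAction T {x : Ω // x ≠ α} :=
      { smul := fun a x => ⟨(a : G) • x.1, fun h => x.2 (MulAction.injective (a : G) (h.trans (hTle a.2).symm))⟩
        one_smul := fun x => Subtype.ext (one_smul G x.1)
        mul_smul := fun a b x => Subtype.ext (mul_smul (a : G) b x.1) }
    have hfree : ∀ x : {x : Ω // x ≠ α}, MulAction.stabilizer T x = ⊥ := fun x => by
      rw [Subgroup.eq_bot_iff_forall]
      intro a ha
      by_contra h
      exact hsr a a.2 (fun h' => h (Subtype.ext h')) x.1 x.2 (congrArg Subtype.val ha)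
    have h1 := Nat.card_congr (MulAction.selfEquivOrbitsQuotientProd hfree)
    rw [Nat.card_prod, he, Nat.card_eq_fintype_card (α := {x : Ω // x ≠ α}),
      Fintype.card_subtype_compl, Fintype.card_subtype_eq, hcard] at h1
    rw [h1]
    exact Dvd.dvd.mul_left (dvd_pow_self q he0) _
  have hqp : q ≠ p := by
    rintro rfl
    have h1 : q ∣ q ^ d := dvd_pow_self q hd
    have h2 : 1 ≤ q ^ d := Nat.one_le_pow _ _ hq.pos
    have h3 := Nat.dvd_sub h1 hqd
    rw [Nat.sub_sub_self h2] at h3
    exact hq.not_dvd_one h3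
  letI : CommGroup N := { (inferInstance : Group N) with mul_comm := hNc }
  letI : CommGroup T :=
    { (inferInstance : Group T) with mul_comm := fun a b => Subtype.ext (hTc a a.2 b b.2) }
  haveI : Nontrivial N := (Subgroup.nontrivial_iff_ne_bot N).mpr hN0
  obtain ⟨t, ht1⟩ : ∃ t : T, t ≠ 1 := by
    haveI : Nontrivial T := (Subgroup.nontrivial_iff_ne_bot T).mpr hT0
    exact exists_ne 1
  have hall : ∀ s : T, s ∈ Subgroup.zpowers t :=
    fpf_mem_zpowers hq hp hqp ((MulAut.conjNormal : G →* MulAut N).comp T.subtype)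
      (fun a => Subtype.ext (hTexp a a.2)) hNexp
      (fun a ha n hn => hfpf a a.2 (fun h => ha (Subtype.ext h)) n (congrArg Subtype.val hn)) ht1
  have hTq : Nat.card T = q := by
    rw [← orderOf_eq_card_of_forall_mem_zpowers hall, orderOf_eq_prime (Subtype.ext (hTexp t t.2)) ht1]
  set φ : MulAut N := MulAut.conjNormal (t : G) with hφ
  have hφq : φ ^ q = 1 := by rw [hφ, ← map_pow, hTexp t t.2, map_one]
  have hφ1 : φ ≠ 1 := fun h => by
    obtain ⟨n, hn⟩ := exists_ne (1 : N)
    exact hn (hfpf t t.2 (fun h' => ht1 (Subtype.ext h')) n (congrArg Subtype.val (DFunLike.congr_fun h n)))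
  have hirr : ∀ L : Subgroup N, (∀ x ∈ L, φ x ∈ L) → L = ⊥ ∨ L = ⊤ := by
    intro L hL
    have hTL : T ≤ Subgroup.normalizer ((L.map N.subtype : Subgroup G) : Set G) := by
      intro s hs
      obtain ⟨z, hz⟩ := hall ⟨s, hs⟩
      have htn : (t : G) ∈ Subgroup.normalizer ((L.map N.subtype : Subgroup G) : Set G) := by
        have hle : (L.map N.subtype).map (MulAut.conj (t : G)).toMonoidHom ≤ L.map N.subtype := by
          rintro _ ⟨_, ⟨x, hx, rfl⟩, rfl⟩
          exact ⟨φ x, hL x hx, rfl⟩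
        have heq := Subgroup.eq_of_le_of_card_ge hle
          (Subgroup.card_map_of_injective (f := (MulAut.conj (t : G)).toMonoidHom) (K := L.map N.subtype) (MulAut.conj (t : G)).injective).ge
        rw [Subgroup.mem_normalizer_iff]
        intro y
        constructor
        · intro hy; exact heq ▸ ⟨y, hy, rfl⟩
        · intro hy
          rw [← heq] at hy
          obtain ⟨y', hy', he'⟩ := hy
          rwa [← (MulAut.conj (t : G)).injective he']
      have hse : s = (t : G) ^ z := (congrArg Subtype.val hz).symm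
      rw [hse]
      exact zpow_mem htn z
    rcases (Cfsg.Agent.S3495.result hprim hH hep N hNc' p hp (fun n hn => congrArg Subtype.val (hNexp ⟨n, hn⟩))
      htr hreg α T hT0 hTle hTn).2 _ (Subgroup.map_subtype_le L) hTL with h | h
    · exact Or.inl ((Subgroup.map_eq_bot_iff_of_injective _ N.subtype_injective).mp h)
    · refine Or.inr (eq_top_iff.mpr fun x _ => ?_)
      have hx : (x : G) ∈ L.map N.subtype := by rw [h]; exact x.2
      obtain ⟨y, hy, hyx⟩ := hx
      rwa [← Subtype.ext hyx]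
  obtain ⟨hprim_div, hfrob⟩ := aut_facts' (d := d) hq hNexp φ hφq hφ1 hirr hNcard
  refine ⟨q, hq, fun ω hω => by rw [horb ω hω, hTq], hqd, hprim_div, T, hTle, hTn, hTq, ?_⟩
  let c : MulAction.stabilizer G α →* MulAut A := MulAut.conjNormal
  have hker : c.ker = A := by
    refine le_antisymm (fun x hx => ?_) (fun x hx => ?_)
    · rw [← CfsgLib.Recog.centralizer_eq_self (hep α ω₀) A hA0 ⟨⟨hAc⟩⟩]
      intro y hy
      have h2 := congrArg Subtype.val (DFunLike.congr_fun (MonoidHom.mem_ker.mp hx) ⟨y, hy⟩)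
      rw [MulAut.conjNormal_apply, MulAut.one_apply, mul_inv_eq_iff_eq_mul] at h2
      exact h2.symm
    · refine MonoidHom.mem_ker.mpr (MulEquiv.ext fun y => Subtype.ext ?_)
      rw [MulAut.conjNormal_apply, MulAut.one_apply,
        show x * (y : MulAction.stabilizer G α) = y * x from congrArg Subtype.val (hAc ⟨x, hx⟩ y),
        mul_inv_cancel_right]
  have hAq : Nat.card A = q := by rw [← hTq, hT, Subgroup.card_map_of_injective (Subgroup.subtype_injective _)]
  letI : CommGroup A := { (inferInstance : Group A) with mul_comm := hAc }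
  have hcop : Nat.Coprime (Nat.card A) p := by rw [hAq]; exact (Nat.coprime_primes hq hp).mpr hqp
  let π : MulAut A := MulEquiv.ofBijective (powMonoidHom p) (powCoprime hcop).bijective
  have hπ : ∀ (j : ℕ) (a : A), (π ^ j) a = a ^ (p ^ j) := by
    intro j
    induction j with
    | zero => intro a; simp
    | succ j ih =>
      intro a
      rw [pow_succ', MulAut.mul_apply, ih, pow_succ, pow_mul]
      rfl
  have hπd : π ^ d = 1 := MulEquiv.ext fun a => by
    rw [hπ, MulAut.one_apply, show p ^ d = (p ^ d - 1) + 1 by have := Nat.one_le_pow d p hp.pos; omega,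
      pow_succ, orderOf_dvd_iff_pow_eq_one.mp (((orderOf_dvd_natCard a).trans (by rw [hAq])).trans hqd), one_mul]
  have hrange : c.range ≤ Subgroup.zpowers π := by
    rintro _ ⟨x, rfl⟩
    have htT : (x : G) * t * (x : G)⁻¹ ∈ T := (Subgroup.mem_normalizer_iff.mp (hTn x.2) t).mp t.2
    obtain ⟨k, hk⟩ := mem_powers_iff_mem_zpowers.mpr (hall ⟨_, htT⟩)
    have hk' : (t : G) ^ k = (x : G) * t * (x : G)⁻¹ := congrArg Subtype.val hk
    obtain ⟨j, hj⟩ := hfrob k (MulAut.conjNormal (x : G)) (by
      rw [hφ, ← map_pow, hk', ← map_mul, ← map_mul, inv_mul_cancel_right])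
    have htk : (x : G) * t * (x : G)⁻¹ = (t : G) ^ (p ^ j) := by
      rw [← hk', pow_eq_pow_iff_modEq, Subgroup.orderOf_coe, orderOf_eq_prime (Subtype.ext (hTexp t t.2)) ht1]
      have hφord : orderOf φ = q := orderOf_eq_prime hφq hφ1
      rw [pow_eq_pow_iff_modEq, hφord] at hj
      exact hj
    refine ⟨(j : ℤ), ?_⟩
    change π ^ (j : ℤ) = c x
    rw [zpow_natCast]
    refine MulEquiv.ext fun a => Subtype.ext (Subtype.ext ?_)
    obtain ⟨i, hi⟩ := mem_powers_iff_mem_zpowers.mpr (hall ⟨_, ⟨a, a.2, rfl⟩⟩)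
    have hi' : (t : G) ^ i = ((a : MulAction.stabilizer G α) : G) := congrArg Subtype.val hi
    rw [hπ]
    simp only [c, MulAut.conjNormal_apply, Subgroup.coe_mul, Subgroup.coe_inv, SubmonoidClass.coe_pow]
    rw [← hi', ← conj_pow, htk, ← pow_mul, ← pow_mul, mul_comm]
  haveI : IsCyclic c.range := by
    haveI : IsCyclic (Subgroup.zpowers π) := Subgroup.isCyclic_zpowers π
    exact isCyclic_of_injective (Subgroup.inclusion hrange) (Subgroup.inclusion_injective hrange)
  obtain ⟨⟨gπ, hgmem⟩, hgen⟩ := IsCyclic.exists_generator (α := c.range)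
  obtain ⟨h, rfl⟩ := hgmem
  refine ⟨⟨(h : G), le_antisymm (fun x hx => ?_) (sup_le hTle (Subgroup.zpowers_le.mpr h.2))⟩, ?_⟩
  · obtain ⟨z, hz⟩ := hgen ⟨c ⟨x, hx⟩, ⟨_, rfl⟩⟩
    have hz' : c h ^ z = c ⟨x, hx⟩ := congrArg Subtype.val hz
    have hmem : (⟨x, hx⟩ : MulAction.stabilizer G α) * (h ^ z)⁻¹ ∈ A := by
      rw [← hker, MonoidHom.mem_ker, map_mul, map_inv, map_zpow, hz', mul_inv_cancel]
    rw [show x = (x * ((h : G) ^ z)⁻¹) * (h : G) ^ z by group]
    refine mul_mem (Subgroup.mem_sup_left ?_) (Subgroup.mem_sup_right ⟨z, rfl⟩)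
    exact ⟨_, hmem, rfl⟩
  · have h1 := Subgroup.card_mul_index c.ker
    rw [Subgroup.index_ker, hker, hAq] at h1
    rw [← h1]
    exact Nat.mul_dvd_mul_left q ((Subgroup.card_dvd_of_le hrange).trans
      (by rw [Nat.card_zpowers]; exact orderOf_dvd_of_pow_eq_one hπd))

end Cfsg.Agent.S3496
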