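import Cfsg.Statements.S3497
import Cfsg.Agent.Lib.Recog.ExtremelyPrimitive
import Cfsg.Agent.Lib.Solvable.Core

set_option autoImplicit false
open Cfsg

namespace Cfsg.Agent.S3497

theorem exists_hom_GL {p e : ℕ} [Fact p.Prime] {A : Type*} [CommGroup A] [Finite A]
    [Module (ZMod p) (Additive A)] (hA : Nat.card A = p ^ e) :
    ∃ φ : MulAut A →* Matrix.GeneralLinearGroup (Fin e) (ZMod p), Function.Injective φ := by
  have hfr : Module.finrank (ZMod p) (Additive A) = e := by
    have h := Module.natCard_eq_pow_finrank (K := ZMod p) (V := Additive A)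
    rw [Nat.card_congr Additive.toMul, hA, Nat.card_zmod] at h
    exact (Nat.pow_right_injective (Fact.out : p.Prime).two_le h).symm
  let b := Module.finBasisOfFinrankEq (ZMod p) (Additive A) hfr
  let ρ : MulAut A →* Module.End (ZMod p) (Additive A) :=
    { toFun := fun σ => (MonoidHom.toAdditive σ.toMonoidHom).toZModLinearMap p
      map_one' := LinearMap.ext fun _ => rfl
      map_mul' := fun _ _ => LinearMap.ext fun _ => rfl }
  let μ : MulAut A →* Matrix (Fin e) (Fin e) (ZMod p) :=
    ((LinearMap.toMatrixAlgEquiv b).toAlgHom.toRingHom.toMonoidHom).comp ρ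
  refine ⟨μ.toHomUnits, fun σ τ h => MulEquiv.ext fun a => ?_⟩
  have h1 : μ σ = μ τ := by rw [← MonoidHom.coe_toHomUnits, h, MonoidHom.coe_toHomUnits]
  have h2 := LinearMap.congr_fun ((LinearMap.toMatrixAlgEquiv b).injective h1) (Additive.ofMul a)
  exact congrArg Additive.toMul h2

theorem exists_hom_GL' {p e : ℕ} [Fact p.Prime] {A : Type*} [CommGroup A] [Finite A]
    (hexp : ∀ a : A, a ^ p = 1) (hA : Nat.card A = p ^ e) :
    ∃ φ : MulAut A →* Matrix.GeneralLinearGroup (Fin e) (ZMod p), Function.Injective φ :=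
  @exists_hom_GL p e _ A _ _
    (AddCommGroup.zmodModule fun x => Additive.toMul.injective (hexp x.toMul)) hA


/-- Restrictions on the point stabilizer of an extremely primitive group. Let a finite group G act faithfully and primitively on a finite set Ω with point stabilizers H = G_α whose order is neither 1 nor a prime, each acting primitively on every one of its orbits. Then H has trivial center, the Fitting subgroup F(H) is an elementary abelian p-group for some prime p, and if F(H) ≠ 1 has order p ^ e then p ^ e divides the number of points minus one and H / F(H) embeds in GL_e(p) (there is a homomorphism from H to GL_e(p) with kernel exactly F(H)). -/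
theorem result {G : Type*} [Group G] [Finite G] {Ω : Type*} [Fintype Ω] [MulAction G Ω] [FaithfulSMul G Ω] (hprim : MulAction.IsPreprimitive G Ω) (hep : ∀ (α : Ω) (ω : Ω), MulAction.IsPreprimitive (MulAction.stabilizer G α) (MulAction.orbit (MulAction.stabilizer G α) ω)) (α : Ω)
    (hH1 : MulAction.stabilizer G α ≠ ⊥) (hHp : ¬ (Nat.card (MulAction.stabilizer G α)).Prime) :
    Subgroup.center (MulAction.stabilizer G α) = ⊥ ∧
    IsMulCommutative (Cfsg.fittingSubgroup (MulAction.stabilizer G α)) ∧
    ∃ p e : ℕ, p.Prime ∧ Nat.card (Cfsg.fittingSubgroup (MulAction.stabilizer G α)) = p ^ e ∧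
      (∀ x ∈ Cfsg.fittingSubgroup (MulAction.stabilizer G α), x ^ p = 1) ∧
      (Cfsg.fittingSubgroup (MulAction.stabilizer G α) ≠ ⊥ →
        p ^ e ∣ Fintype.card Ω - 1 ∧
        ∃ φ : MulAction.stabilizer G α →* GL (Fin e) (ZMod p), φ.ker = Cfsg.fittingSubgroup (MulAction.stabilizer G α)) := by
  classical
  haveI : Nontrivial Ω := by
    by_contra h
    rw [not_nontrivial_iff_subsingleton] at h
    exact hH1 ((Subgroup.eq_bot_iff_forall _).mpr fun x _ =>
      eq_of_smul_eq_smul (α := Ω) fun v => Subsingleton.elim _ _)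
  obtain ⟨ω, hω⟩ := exists_ne α
  obtain ⟨h0, hh0, hmv⟩ := CfsgLib.Recog.exists_moved hprim hH1 hω
  haveI hnt : Nontrivial (MulAction.orbit (MulAction.stabilizer G α) ω) :=
    CfsgLib.Recog.nontrivial_suborbit hh0 hmv
  haveI hfaith := CfsgLib.Recog.faithfulSMul_suborbit hprim hH1 (hep α) hω
  set H := MulAction.stabilizer G α with hH
  have hpr := hep α ω
  refine ⟨CfsgLib.Recog.center_eq_bot_of_primitive (H := H) hpr hHp, ?_⟩
  set F := Cfsg.fittingSubgroup H with hF
  haveI hFn : F.Normal := CfsgLib.Solvable.fittingSubgroup_normal H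
  by_cases hF0 : F = ⊥
  · refine ⟨⟨⟨fun a b => ?_⟩⟩, 2, 0, Nat.prime_two, by rw [hF0, Subgroup.card_bot, pow_zero], ?_,
      fun hne => absurd hF0 hne⟩
    · have ha := a.2
      have hb := b.2
      simp only [hF0, Subgroup.mem_bot] at ha hb
      exact Subtype.ext (by simp [ha, hb])
    · intro x hx
      rw [hF0, Subgroup.mem_bot] at hx
      rw [hx, one_pow]
  haveI : Group.IsNilpotent F := CfsgLib.Solvable.fittingSubgroup_isNilpotent H
  haveI : Nontrivial F := (Subgroup.nontrivial_iff_ne_bot F).mpr hF0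
  set A := (Subgroup.center F).map F.subtype with hA
  haveI : A.Normal := inferInstance
  have hA0 : A ≠ ⊥ := by
    rw [hA, Ne, Subgroup.map_eq_bot_iff_of_injective _ F.subtype_injective]
    exact Group.IsNilpotent.center_ne_bot F
  have hAc : IsMulCommutative A := ⟨⟨by
    rintro ⟨_, a, ha, rfl⟩ ⟨_, b, hb, rfl⟩
    refine Subtype.ext ?_
    change F.subtype a * F.subtype b = F.subtype b * F.subtype a
    rw [← map_mul, ← map_mul, Subgroup.mem_center_iff.mp hb a]⟩⟩
  have hFA : F ≤ A := by
    rw [← CfsgLib.Recog.centralizer_eq_self hpr A hA0 hAc]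
    rintro x hx _ ⟨a, ha, rfl⟩
    exact (congrArg Subtype.val (Subgroup.mem_center_iff.mp ha ⟨x, hx⟩)).symm
  have hFc : IsMulCommutative F := ⟨⟨fun a b => Subtype.ext
    (congrArg Subtype.val (hAc.is_comm.comm ⟨a, hFA a.2⟩ ⟨b, hFA b.2⟩) :)⟩⟩
  refine ⟨hFc, ?_⟩
  obtain ⟨p, hp, hexp, e, he, hcard⟩ := CfsgLib.Recog.abelian_normal_exponent hpr F hF0 hFc
  haveI := Fact.mk hp
  refine ⟨p, e, hp, hcard, hexp, fun _ => ⟨?_, ?_⟩⟩
  · set F' := F.map H.subtype with hF'
    have hle : F' ≤ H := Subgroup.map_subtype_le F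
    have hnorm : H ≤ Subgroup.normalizer (F' : Set G) := by
      refine (Subgroup.normal_subgroupOf_iff_le_normalizer hle).mp ?_
      rw [hF', Subgroup.subgroupOf, Subgroup.comap_map_eq_self_of_injective H.subtype_injective]
      exact hFn
    have hne : F' ≠ ⊥ := by rwa [hF', Ne, Subgroup.map_eq_bot_iff_of_injective _ H.subtype_injective]
    have hcm : ∀ a ∈ F', ∀ b ∈ F', a * b = b * a := by
      rintro _ ⟨a, ha, rfl⟩ _ ⟨b, hb, rfl⟩
      change ((a * b : H) : G) = ((b * a : H) : G)
      rw [show a * b = b * a from congrArg Subtype.val (hFc.is_comm.comm ⟨a, ha⟩ ⟨b, hb⟩)]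
    letI : MulAction F' {x : Ω // x ≠ α} :=
      { smul := fun a x => ⟨(a : G) • x.1, fun h => x.2 (MulAction.injective (a : G) (h.trans (hle a.2).symm))⟩
        one_smul := fun x => Subtype.ext (one_smul G x.1)
        mul_smul := fun a b x => Subtype.ext (mul_smul (a : G) b x.1) }
    have hfree : ∀ x : {x : Ω // x ≠ α}, MulAction.stabilizer F' x = ⊥ := fun x => by
      rw [Subgroup.eq_bot_iff_forall]
      intro a ha
      by_contra hne1
      exact CfsgLib.Recog.abelian_normal_semiregular hprim hH1 (hep α) hne hle hnorm hcm a.2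
        (fun h => hne1 (Subtype.ext h)) x.2 (congrArg Subtype.val ha)
    have h1 := Nat.card_congr (MulAction.selfEquivOrbitsQuotientProd hfree)
    have hcard' : Nat.card F' = p ^ e := by rw [hF', Subgroup.card_map_of_injective H.subtype_injective, hcard]
    rw [Nat.card_prod, hcard',
      Nat.card_eq_fintype_card (α := {x : Ω // x ≠ α}), Fintype.card_subtype_compl,
      Fintype.card_subtype_eq] at h1
    rw [h1]
    exact dvd_mul_left _ _
  · letI : CommGroup F := { (inferInstance : Group F) with mul_comm := hFc.is_comm.comm }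
    obtain ⟨φ, hφ⟩ := exists_hom_GL' (A := F) (p := p) (e := e) (fun a => Subtype.ext (hexp a a.2)) hcard
    refine ⟨φ.comp (MulAut.conjNormal : H →* MulAut F), ?_⟩
    rw [MonoidHom.ker_comp_of_injective _ _ hφ]
    refine le_antisymm (fun x hx => ?_) (fun x hx => ?_)
    · rw [← CfsgLib.Recog.centralizer_eq_self hpr F hF0 hFc]
      intro y hy
      have h2 := congrArg Subtype.val (DFunLike.congr_fun (MonoidHom.mem_ker.mp hx) ⟨y, hy⟩)
      rw [MulAut.conjNormal_apply, MulAut.one_apply, mul_inv_eq_iff_eq_mul] at h2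
      exact h2.symm
    · refine MonoidHom.mem_ker.mpr (MulEquiv.ext fun y => Subtype.ext ?_)
      rw [MulAut.conjNormal_apply, MulAut.one_apply,
        show x * (y : H) = y * x from congrArg Subtype.val (hFc.is_comm.comm ⟨x, hx⟩ y),
        mul_inv_cancel_right]

end Cfsg.Agent.S3497
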