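import Cfsg.Statements.S3498

set_option autoImplicit false
open Cfsg

namespace Cfsg.Agent.S3498


/-- A maximal subgroup of a finite almost simple group does not have prime order. Here G is almost simple in the sense that it has a non-abelian simple normal subgroup T with trivial centralizer. -/
theorem result {G : Type*} [Group G] [Finite G] (T : Subgroup G) [T.Normal] (hT : IsSimpleGroup T) (hTc : ¬ IsMulCommutative T)
    (hC : Subgroup.centralizer (T : Set G) = ⊥) (H : Subgroup G) (hmax : IsCoatom H) : ¬ (Nat.card H).Prime := by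
  intro hp
  set p := Nat.card H with hpdef
  haveI := Fact.mk hp
  have hT0 : T ≠ ⊥ := (Subgroup.nontrivial_iff_ne_bot T).mp inferInstance
  have hTH : ¬ T ≤ H := by
    intro hle
    haveI : IsCyclic T := by
      refine isCyclic_of_prime_card (p := p) ?_
      rcases (Nat.dvd_prime hp).mp (Subgroup.card_dvd_of_le hle) with h | h
      · exact absurd (Subgroup.card_eq_one.mp h) hT0
      · exact h
    exact hTc inferInstance
  have hHcyc : IsCyclic H := isCyclic_of_prime_card (p := p) hpdef.symm
  have hHn : Subgroup.normalizer (H : Set G) = H := by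
    rcases hmax.le_iff.mp (Subgroup.le_normalizer (H := H)) with h | h
    · exfalso
      haveI : H.Normal := Subgroup.normalizer_eq_top_iff.mp h
      have hdisj : Disjoint H T := by
        rw [disjoint_iff]
        rcases hT.eq_bot_or_eq_top_of_normal ((H ⊓ T).subgroupOf T) inferInstance with h' | h'
        · rw [Subgroup.subgroupOf_eq_bot] at h'
          exact le_bot_iff.mp (h' le_rfl inf_le_right)
        · rw [Subgroup.subgroupOf_eq_top] at h'
          exact absurd (h'.trans inf_le_left) hTH
      have hle : H ≤ Subgroup.centralizer (T : Set G) := fun x hx y hy =>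
        ((Subgroup.commute_of_normal_of_disjoint H T inferInstance inferInstance hdisj x y hx hy).eq).symm
      rw [hC, le_bot_iff] at hle
      rw [hpdef, Subgroup.card_eq_one.mpr hle] at hp
      exact Nat.not_prime_one hp
    · exact h
  -- `H` is a Sylow subgroup
  obtain ⟨P, hHP⟩ := (IsPGroup.of_card (p := p) (n := 1) (by rw [pow_one, hpdef] : Nat.card H = p ^ 1)).exists_le_sylow
  have hPH : (P : Subgroup G) = H := by
    refine le_antisymm ?_ hHP
    by_contra hnot
    haveI : Group.IsNilpotent (P : Subgroup G) := P.isPGroup'.isNilpotent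
    have hne : H.subgroupOf P ≠ ⊤ := fun h => hnot (Subgroup.subgroupOf_eq_top.mp h)
    have hlt := Group.normalizerCondition_of_isNilpotent (G := (P : Subgroup G)) _ (Ne.lt_top hne)
    refine hlt.not_ge (le_of_eq ?_)
    rw [← Subgroup.subgroupOf_normalizer_eq hHP, hHn]
  -- Burnside transfer
  have hPc : Subgroup.normalizer ((P : Subgroup G) : Set G) ≤ Subgroup.centralizer ((P : Subgroup G) : Set G) := by
    rw [hPH, hHn]
    exact Subgroup.le_centralizer_iff_isMulCommutative.mpr inferInstance
  have hcompl := MonoidHom.ker_transferSylow_isComplement' P hPc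
  set K := (MonoidHom.transferSylow P hPc).ker with hK
  rw [hPH] at hcompl
  have hKcard : Nat.card K * p = Nat.card G := hcompl.card_mul
  have hpK : ¬ p ∣ Nat.card K := MonoidHom.not_dvd_card_ker_transferSylow P hPc
  have hTK : T ≤ K := by
    rcases hT.eq_bot_or_eq_top_of_normal (K.subgroupOf T) inferInstance with h | h
    · exfalso
      rw [Subgroup.subgroupOf_eq_bot, disjoint_iff] at h
      let f := (MonoidHom.transferSylow P hPc).comp T.subtype
      have hf : Function.Injective f := by
        rw [← MonoidHom.ker_eq_bot_iff, MonoidHom.ker, Subgroup.eq_bot_iff_forall]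
        intro x hx
        have : (x : G) ∈ K ⊓ T := ⟨hx, x.2⟩
        rw [h, Subgroup.mem_bot] at this
        exact Subtype.ext this
      haveI : IsMulCommutative (P : Subgroup G) := by rw [hPH]; infer_instance
      exact hTc ⟨⟨fun a b => hf (by rw [map_mul, map_mul, mul_comm'])⟩⟩
    · exact Subgroup.subgroupOf_eq_top.mp h
  have hsup : H ⊔ T = ⊤ := by
    rcases hmax.le_iff.mp (le_sup_left : H ≤ H ⊔ T) with h | h
    · exact h
    · exact absurd (le_sup_right.trans h.le) hTH
  have hKT : K = T := by
    refine (Subgroup.eq_of_le_of_card_ge hTK ?_).symm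
    refine Nat.le_of_mul_le_mul_right ?_ hp.pos
    rw [hKcard, hpdef]
    have h1 : T.index ∣ p := by
      rw [← Subgroup.relIndex_top_right, ← hsup, Subgroup.relIndex_sup_right, hpdef]
      exact Subgroup.relIndex_dvd_card T H
    rw [← T.card_mul_index]
    exact Nat.mul_le_mul_left _ (Nat.le_of_dvd hp.pos h1)
  -- a Sylow subgroup of `T` normalised by `H`
  obtain ⟨q, hq, hqT⟩ := Nat.exists_prime_and_dvd (fun h : Nat.card T = 1 => hT0 (Subgroup.card_eq_one.mp h))
  haveI := Fact.mk hq
  let Q : Sylow q T := default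
  set Q₁ : Subgroup G := (Q : Subgroup T).map T.subtype with hQ₁
  have hfr : Subgroup.normalizer (Q₁ : Set G) ⊔ T = ⊤ := Sylow.normalizer_sup_eq_top Q
  have hQT : Q₁ ≤ T := Subgroup.map_subtype_le _
  have hQp : IsPGroup q Q₁ := Q.isPGroup'.map _
  have hQne : Q₁ ≠ ⊥ := by
    rw [hQ₁, Ne, Subgroup.map_eq_bot_iff_of_injective _ T.subtype_injective]
    exact Sylow.ne_bot_of_dvd_card Q hqT
  have hdvd : p ∣ Nat.card (Subgroup.normalizer (Q₁ : Set G)) := by
    have h1 : T.index = p := by
      have := T.card_mul_index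
      rw [← hKcard, hKT] at this
      exact Nat.eq_of_mul_eq_mul_left Nat.card_pos this
    rw [← h1, ← Subgroup.relIndex_top_right, ← hfr, Subgroup.relIndex_sup_right]
    exact Subgroup.relIndex_dvd_card T _
  obtain ⟨x, hx⟩ := exists_prime_orderOf_dvd_card' p hdvd
  obtain ⟨P', hxP'⟩ := (IsPGroup.of_card (p := p) (n := 1)
    (by rw [Nat.card_zpowers, Subgroup.orderOf_coe, hx, pow_one] :
      Nat.card (Subgroup.zpowers (x : G)) = p ^ 1)).exists_le_sylow
  have hP'eq : (P' : Subgroup G) = Subgroup.zpowers (x : G) := by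
    refine (Subgroup.eq_of_le_of_card_ge hxP' ?_).symm
    rw [Nat.card_zpowers, Subgroup.orderOf_coe, hx, Sylow.card_eq_multiplicity, ← Sylow.card_eq_multiplicity P, hPH]
  obtain ⟨g, hg⟩ := MulAction.exists_smul_eq G P' P
  have hsub : H ≤ (Subgroup.normalizer (Q₁ : Set G)).map (MulAut.conj g).toMonoidHom := by
    rw [← hPH, ← hg]
    change (P' : Subgroup G).map (MulAut.conj g).toMonoidHom ≤ _
    rw [hP'eq]
    exact Subgroup.map_mono ((Subgroup.zpowers_le).mpr x.2)
  rcases hmax.le_iff.mp hsub with h | h
  · have hn : Subgroup.normalizer (Q₁ : Set G) = ⊤ := by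
      rw [← Subgroup.map_top_of_surjective (MulAut.conj g).toMonoidHom (MulAut.conj g).surjective] at h
      exact Subgroup.map_injective (MulAut.conj g).injective h
    haveI : Q₁.Normal := Subgroup.normalizer_eq_top_iff.mp hn
    have hQeq : Q₁ = T := by
      rcases hT.eq_bot_or_eq_top_of_normal (Q₁.subgroupOf T) inferInstance with h' | h'
      · rw [Subgroup.subgroupOf_eq_bot] at h'
        exact absurd (le_bot_iff.mp (h' le_rfl hQT)) hQne
      · exact le_antisymm hQT (Subgroup.subgroupOf_eq_top.mp h')
    rw [hQeq] at hQp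
    haveI : Group.IsNilpotent T := hQp.isNilpotent
    exact hTc ⟨⟨IsSimpleGroup.comm_iff_isSolvable.mpr inferInstance⟩⟩
  · have hcardN : Nat.card (Subgroup.normalizer (Q₁ : Set G)) = p := by
      rw [← Subgroup.card_map_of_injective (f := (MulAut.conj g).toMonoidHom) (MulAut.conj g).injective, h]
    have hle : Q₁ ≤ Subgroup.normalizer (Q₁ : Set G) := Subgroup.le_normalizer
    rcases (Nat.dvd_prime hp).mp (hcardN ▸ Subgroup.card_dvd_of_le hle) with h1 | h1
    · exact hQne (Subgroup.card_eq_one.mp h1)
    · exact hpK (hKT ▸ h1 ▸ Subgroup.card_dvd_of_le hQT)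

end Cfsg.Agent.S3498
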