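import Cfsg.Statements.S3501
import Cfsg.Agent.Lib.Recog.DerangementAffine

set_option autoImplicit false
open Cfsg

namespace Cfsg.Agent.S3501

open MulAction in
theorem sharply_two_transitive_unique_class {G : Type*} [Group G] [Finite G] {Ω : Type*} [Fintype Ω]
    [MulAction G Ω] [FaithfulSMul G Ω] (hΩ : 2 ≤ Fintype.card Ω) (h2t : IsMultiplyPretransitive G Ω 2)
    (hsharp : ∀ g : G, g ≠ 1 → ∀ a b : Ω, a ≠ b → g • a = a → g • b ≠ b) :
    Nat.card {c : ConjClasses G // ∃ g : G, ConjClasses.mk g = c ∧ ∀ ω : Ω, g • ω ≠ ω} = 1 := by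
  classical
  haveI : Nontrivial Ω := Fintype.one_lt_card_iff_nontrivial.mp hΩ
  haveI : IsPretransitive G Ω := isPretransitive_of_is_two_pretransitive
  haveI : Fintype G := Fintype.ofFinite G
  obtain ⟨a₀, b₀, hab₀⟩ := exists_pair_ne Ω
  set n := Fintype.card Ω with hn
  have hG : Nat.card G + n = n * n := by
    let T := {x : Ω × Ω // x.1 ≠ x.2}
    let f : G → T := fun g => ⟨(g • a₀, g • b₀), fun h => hab₀ (MulAction.injective g h)⟩
    have hf : Function.Bijective f := by
      refine ⟨fun g h hgh => ?_, fun ⟨⟨c, d⟩, hcd⟩ => ?_⟩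
      · have h1 : (h⁻¹ * g) • a₀ = a₀ := by
          rw [mul_smul, show g • a₀ = h • a₀ from congrArg (fun z => z.1.1) hgh, inv_smul_smul]
        have h2 : (h⁻¹ * g) • b₀ = b₀ := by
          rw [mul_smul, show g • b₀ = h • b₀ from congrArg (fun z => z.1.2) hgh, inv_smul_smul]
        by_contra hne
        exact hsharp _ (fun h0 => hne (inv_mul_eq_one.mp h0).symm) a₀ b₀ hab₀ h1 h2
      · obtain ⟨g, h1, h2⟩ := (is_two_pretransitive_iff.mp h2t) hab₀ hcd
        exact ⟨g, Subtype.ext (Prod.ext h1 h2)⟩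
    have h1 := Fintype.card_subtype_compl (fun x : Ω × Ω => x.1 = x.2)
    have h2 : Fintype.card {x : Ω × Ω // x.1 = x.2} = n :=
      Fintype.card_congr ⟨fun x => x.1.1, fun a => ⟨(a, a), rfl⟩,
        fun x => Subtype.ext (Prod.ext rfl x.2), fun a => rfl⟩
    rw [Nat.card_eq_of_bijective f hf, Nat.card_eq_fintype_card, h1, h2, Fintype.card_prod,
      Nat.sub_add_cancel (Nat.le_mul_self n)]
  set D := Finset.univ.filter (fun g : G => ∀ ω : Ω, g • ω ≠ ω) with hD
  have hD1 : D.card + 1 = n := by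
    have hsum := CfsgLib.PermDerange.sum_card_fixedBy_transitive (G := G) (Ω := Ω)
    have hfix : ∀ g : G, g ≠ 1 → Nat.card (fixedBy Ω g) + (if g ∈ D then 1 else 0) = 1 := by
      intro g hg
      by_cases hgD : g ∈ D
      · rw [if_pos hgD, (CfsgLib.PermDerange.card_fixedBy_eq_zero_iff g).mpr (Finset.mem_filter.mp hgD).2]
      · rw [if_neg hgD, add_zero, Nat.card_eq_one_iff_unique]
        simp only [hD, Finset.mem_filter, Finset.mem_univ, true_and, not_forall, not_not] at hgD
        obtain ⟨ω, hω⟩ := hgD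
        refine ⟨⟨fun x y => ?_⟩, ⟨ω, hω⟩⟩
        by_contra hne
        exact hsharp g hg x.1 y.1 (fun h => hne (Subtype.ext h)) x.2 y.2
    have h1 : Nat.card (fixedBy Ω (1 : G)) = n := by
      rw [show fixedBy Ω (1 : G) = Set.univ from Set.eq_univ_of_forall fun x => one_smul G x,
        Nat.card_congr (Equiv.Set.univ Ω), Nat.card_eq_fintype_card]
    have h1D : (1 : G) ∉ D := fun h => (Finset.mem_filter.mp h).2 a₀ (one_smul G a₀)
    have h2 : ∑ g : G, (Nat.card (fixedBy Ω g) + if g ∈ D then 1 else 0) + 1 = Nat.card G + n := by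
      rw [← Finset.add_sum_erase _ _ (Finset.mem_univ (1 : G)), h1, if_neg h1D, add_zero,
        Finset.sum_congr rfl (fun g hg => hfix g (Finset.ne_of_mem_erase hg)), Finset.sum_const,
        smul_eq_mul, mul_one, Finset.card_erase_of_mem (Finset.mem_univ _), Finset.card_univ,
        Nat.card_eq_fintype_card]
      have : 0 < Fintype.card G := Fintype.card_pos
      omega
    rw [Finset.sum_add_distrib, hsum, Finset.sum_boole, Finset.filter_univ_mem] at h2
    simp only [Nat.cast_id] at h2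
    omega
  obtain ⟨d, hd⟩ : D.Nonempty := Finset.card_pos.mp (by omega)
  have hdd := (Finset.mem_filter.mp hd).2
  set C := Subgroup.centralizer ({d} : Set G) with hC
  have hCn : Nat.card C ≤ n := by
    rw [hn, ← Nat.card_eq_fintype_card]
    refine Nat.card_le_card_of_injective (fun c : C => (c : G) • a₀) fun c c' h => ?_
    by_contra hne
    have h1 : ((c' : G)⁻¹ * c) • a₀ = a₀ := by
      rw [mul_smul, show (c : G) • a₀ = (c' : G) • a₀ from h, inv_smul_smul]
    have hcm : ((c' : G)⁻¹ * c) * d = d * ((c' : G)⁻¹ * c) :=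
      (Subgroup.mem_centralizer_singleton_iff.mp (C.mul_mem (C.inv_mem c'.2) c.2))
    refine hsharp _ (fun h0 => hne (Subtype.ext (inv_mul_eq_one.mp h0).symm)) a₀ (d • a₀)
      (Ne.symm (hdd a₀)) h1 ?_
    rw [← mul_smul, hcm, mul_smul, h1]
  let cl : G ⧸ C → D := Quotient.lift
    (fun g : G => (⟨g * d * g⁻¹, Finset.mem_filter.mpr ⟨Finset.mem_univ _, fun ω h => hdd (g⁻¹ • ω)
      (by rwa [eq_inv_smul_iff, ← mul_smul, ← mul_smul])⟩⟩ : D))
    (fun g g' hgg => by
      have h := Subgroup.mem_centralizer_singleton_iff.mp (QuotientGroup.leftRel_apply.mp hgg)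
      refine Subtype.ext ?_
      calc g * d * g⁻¹ = g' * (g'⁻¹ * g * d) * g⁻¹ := by group
        _ = g' * ((g⁻¹ * g')⁻¹ * d) * g⁻¹ := by group
        _ = g' * (d * (g⁻¹ * g')⁻¹) * g⁻¹ := by
            rw [show (g⁻¹ * g')⁻¹ * d = d * (g⁻¹ * g')⁻¹ from (Commute.inv_left h).eq]
        _ = g' * d * g'⁻¹ := by group)
  have hclinj : Function.Injective cl := by
    intro x y
    induction x using QuotientGroup.induction_on with
    | H g =>
    induction y using QuotientGroup.induction_on with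
    | H g' =>
    intro h
    have h' : g * d * g⁻¹ = g' * d * g'⁻¹ := congrArg Subtype.val h
    rw [QuotientGroup.eq, Subgroup.mem_centralizer_singleton_iff]
    calc g⁻¹ * g' * d = g⁻¹ * (g' * d * g'⁻¹) * g' := by group
      _ = d * (g⁻¹ * g') := by rw [← h']; group
  have hbij : Function.Bijective cl := by
    refine ⟨hclinj, (Nat.bijective_iff_injective_and_card cl).mpr ⟨hclinj, ?_⟩ |>.2⟩
    have hle : Nat.card (G ⧸ C) ≤ Nat.card D := Nat.card_le_card_of_injective cl hclinj
    refine le_antisymm hle ?_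
    rw [Nat.card_eq_fintype_card (α := D), Fintype.card_coe, ← Subgroup.index_eq_card]
    by_contra hlt
    push Not at hlt
    have h1 := C.card_mul_index
    have h2 : Nat.card C * C.index ≤ n * (D.card - 1) := Nat.mul_le_mul hCn (by omega)
    rw [h1, Nat.mul_sub_one] at h2
    have : n * n = n * D.card + n := by
      calc n * n = n * (D.card + 1) := by rw [hD1]
        _ = _ := by ring
    have : n ≤ n * D.card := Nat.le_mul_of_pos_right _ (by omega)
    omega
  have hall : ∀ g : G, (∀ ω : Ω, g • ω ≠ ω) → IsConj d g := by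
    intro g hg
    obtain ⟨x, hx⟩ := hbij.2 ⟨g, Finset.mem_filter.mpr ⟨Finset.mem_univ _, hg⟩⟩
    induction x using QuotientGroup.induction_on with
    | H c => exact isConj_iff.mpr ⟨c, congrArg Subtype.val hx⟩
  rw [Nat.card_eq_one_iff_unique]
  refine ⟨⟨fun ⟨x, a, hax, had⟩ ⟨y, b, hby, hbd⟩ => Subtype.ext ?_⟩, ⟨⟨ConjClasses.mk d, d, rfl, hdd⟩⟩⟩
  change x = y
  rw [← hax, ← hby]
  exact ConjClasses.mk_eq_mk_iff_isConj.mpr ((hall a had).symm.trans (hall b hbd))


/-- Let a finite group G act faithfully and primitively on a finite set Ω with at least two points, and suppose G is not almost simple (it has no non-abelian simple normal subgroup with trivial centralizer). Then the derangements of G form a single conjugacy class if and only if G is sharply 2-transitive (2-transitive, and no non-identity element fixes two points). -/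
theorem result {G : Type*} [Group G] [Finite G] {Ω : Type*} [Fintype Ω] [MulAction G Ω] [FaithfulSMul G Ω] (hΩ : 2 ≤ Fintype.card Ω) (hprim : MulAction.IsPreprimitive G Ω) (hnas : ¬ ∃ T : Subgroup G, T.Normal ∧ IsSimpleGroup T ∧ ¬ IsMulCommutative T ∧ Subgroup.centralizer (T : Set G) = ⊥) :
    Nat.card {c : ConjClasses G // ∃ g : G, ConjClasses.mk g = c ∧ ∀ ω : Ω, g • ω ≠ ω} = 1 ↔ (MulAction.IsMultiplyPretransitive G Ω 2 ∧ ∀ g : G, g ≠ 1 → ∀ a b : Ω, a ≠ b → g • a = a → g • b ≠ b) := by
  classical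
  haveI : Nontrivial Ω := Fintype.one_lt_card_iff_nontrivial.mp hΩ
  constructor
  · intro hκ
    obtain ⟨A, hAn, hAc, hA0⟩ : ∃ A : Subgroup G, A.Normal ∧ IsMulCommutative A ∧ A ≠ ⊥ := by
      by_contra h
      push Not at h
      have := CfsgLib.Recog.three_le_derangement_classes hprim hnas h
      omega
    haveI := hAn
    obtain ⟨htr, hreg⟩ := CfsgLib.Recog.abelian_regular (Ω := Ω) hprim A hA0 hAc
    have hsame : ∀ a b : G, (∀ ω : Ω, a • ω ≠ ω) → (∀ ω : Ω, b • ω ≠ ω) → IsConj a b := by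
      intro a b ha hb
      have := (Nat.card_eq_one_iff_unique.mp hκ).1.elim
        ⟨ConjClasses.mk a, a, rfl, ha⟩ ⟨ConjClasses.mk b, b, rfl, hb⟩
      exact ConjClasses.mk_eq_mk_iff_isConj.mp (congrArg Subtype.val this)
    obtain ⟨a₀, ha₀, ha₁⟩ : ∃ a ∈ A, a ≠ 1 := by
      by_contra h
      push Not at h
      exact hA0 ((Subgroup.eq_bot_iff_forall A).mpr h)
    have hout : ∀ g : G, g ∉ A → 1 ≤ Nat.card (MulAction.fixedBy Ω g) := by
      intro g hg
      by_contra h
      have hd := (CfsgLib.PermDerange.card_fixedBy_eq_zero_iff (Ω := Ω) g).mp (by omega)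
      obtain ⟨c, hc⟩ := isConj_iff.mp (hsame a₀ g (CfsgLib.Recog.regular_derangement hreg ha₀ ha₁) hd)
      exact hg (hc ▸ hAn.conj_mem a₀ ha₀ c)
    refine ⟨CfsgLib.Recog.two_pretransitive_of_conj A hAc htr fun a ha b hb ha1 hb1 =>
      hsame a b (CfsgLib.Recog.regular_derangement hreg ha ha1)
        (CfsgLib.Recog.regular_derangement hreg hb hb1), fun g hg a b hab hga hgb => ?_⟩
    have hgA : g ∉ A := fun h => CfsgLib.Recog.regular_derangement hreg h hg a hga
    have h1 := CfsgLib.Recog.fix_eq_one_outside A htr hreg hout g hgA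
    exact hab (congrArg Subtype.val
      ((Nat.card_eq_one_iff_unique.mp h1).1.elim ⟨a, hga⟩ ⟨b, hgb⟩))
  · rintro ⟨h2t, hsharp⟩
    exact sharply_two_transitive_unique_class hΩ h2t hsharp

end Cfsg.Agent.S3501
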