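import Cfsg.Statements.S3504

set_option autoImplicit false
open Cfsg

namespace Cfsg.Agent.S3504

open Equiv in
theorem prime_derangement_cycleType {n : ℕ} {g : Perm (Fin n)} (hp : (orderOf g).Prime)
    (hd : ∀ i, g i ≠ i) : orderOf g ∣ n ∧ g.cycleType = Multiset.replicate (n / orderOf g) (orderOf g) := by
  obtain ⟨k, hk⟩ := Perm.cycleType_prime_order hp
  have hs : g.support = Finset.univ := Finset.eq_univ_of_forall fun i => Perm.mem_support.mpr (hd i)
  have hsum := Perm.sum_cycleType g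
  rw [hs, hk, Multiset.sum_replicate, Finset.card_univ, Fintype.card_fin, smul_eq_mul] at hsum
  refine ⟨⟨k + 1, by rw [mul_comm]; exact hsum.symm⟩, ?_⟩
  rw [hk, Nat.div_eq_of_eq_mul_left hp.pos hsum.symm]

open Equiv in
theorem exists_prime_derangement {n r : ℕ} (hn : n ≠ 0) (hr : r.Prime) (hdvd : r ∣ n) :
    ∃ g : Perm (Fin n), orderOf g = r ∧ ∀ i, g i ≠ i := by
  haveI := Fact.mk hr
  obtain ⟨m, rfl⟩ := hdvd
  haveI : NeZero r := ⟨hr.ne_zero⟩
  have hm : m ≠ 0 := by rintro rfl; simp at hn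
  let e : Fin (r * m) ≃ Fin m × ZMod r := Fintype.equivOfCardEq (by simp [ZMod.card, mul_comm])
  let s : Perm (Fin m × ZMod r) := Equiv.prodCongr (Equiv.refl _) (Equiv.addRight 1)
  have hs : ∀ (k : ℕ) x, (s ^ k) x = (x.1, x.2 + k) := by
    intro k
    induction k with
    | zero => intro x; simp
    | succ k ih =>
      intro x
      rw [pow_succ', Perm.mul_apply, ih]
      simp [s, add_assoc]
  have h1 : ∀ x, s x ≠ x := fun x h => by
    have := congrArg Prod.snd h
    simp [s] at this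
  have hord : orderOf s = r := by
    refine orderOf_eq_prime (Equiv.ext fun x => ?_) (fun h => ?_)
    · rw [hs, ZMod.natCast_self, add_zero]; rfl
    · exact h1 (⟨0, Nat.pos_of_ne_zero hm⟩, 0) (by rw [h]; rfl)
  refine ⟨e.symm.permCongrHom s, ?_, fun i h => h1 (e i) ?_⟩
  · rw [MulEquiv.orderOf_eq, hord]
  · simpa [Equiv.permCongrHom, Equiv.permCongr_apply, Equiv.symm_apply_eq] using h


/-- For n ≥ 5, the fixed-point-free permutations of prime order in the symmetric group of degree n form a single conjugacy class if and only if n is a prime power. -/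
theorem result (n : ℕ) (hn : 5 ≤ n) :
    Nat.card {c : ConjClasses (Equiv.Perm (Fin n)) // ∃ g : Equiv.Perm (Fin n), ConjClasses.mk g = c ∧ (orderOf g).Prime ∧ ∀ i : Fin n, g i ≠ i} = 1 ↔ IsPrimePow n := by
  classical
  have hn0 : n ≠ 0 := by omega
  rw [isPrimePow_iff_card_primeFactors_eq_one]
  let C := {c : ConjClasses (Equiv.Perm (Fin n)) // ∃ g : Equiv.Perm (Fin n), ConjClasses.mk g = c ∧ (orderOf g).Prime ∧ ∀ i : Fin n, g i ≠ i}
  have hex : ∀ r : n.primeFactors, ∃ g : Equiv.Perm (Fin n), orderOf g = r ∧ ∀ i, g i ≠ i := fun r =>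
    exists_prime_derangement hn0 (Nat.prime_of_mem_primeFactors r.2) (Nat.dvd_of_mem_primeFactors r.2)
  choose g hg hgd using hex
  let f : n.primeFactors → C := fun r =>
    ⟨ConjClasses.mk (g r), g r, rfl, by rw [hg]; exact Nat.prime_of_mem_primeFactors r.2, hgd r⟩
  have hf : Function.Bijective f := by
    refine ⟨fun r s h => Subtype.ext ?_, ?_⟩
    · have h1 := ConjClasses.mk_eq_mk_iff_isConj.mp (congrArg Subtype.val h)
      have h2 := Equiv.Perm.isConj_iff_cycleType_eq.mp h1
      rw [← hg r, ← hg s, ← Equiv.Perm.lcm_cycleType, ← Equiv.Perm.lcm_cycleType, h2]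
    · rintro ⟨c, x, rfl, hx, hxd⟩
      obtain ⟨hdvd, hct⟩ := prime_derangement_cycleType hx hxd
      let r : n.primeFactors := ⟨orderOf x, Nat.mem_primeFactors.mpr ⟨hx, hdvd, hn0⟩⟩
      refine ⟨r, Subtype.ext (ConjClasses.mk_eq_mk_iff_isConj.mpr (Equiv.Perm.isConj_iff_cycleType_eq.mpr ?_))⟩
      obtain ⟨-, hct'⟩ := prime_derangement_cycleType (g := g r) (by rw [hg]; exact hx) (hgd r)
      rw [hct', hct, hg r]
  change Nat.card C = 1 ↔ _
  rw [← Nat.card_eq_of_bijective f hf, Nat.card_eq_fintype_card, Fintype.card_coe]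

end Cfsg.Agent.S3504
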