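import Cfsg.Statements.S3508

set_option autoImplicit false
open Cfsg

namespace Cfsg.Agent.S3508

open Polynomial in
theorem geom_sum_eq_pow_sub_one {p : ℕ} [Fact p.Prime] (j : ℕ) :
    ∑ i ∈ Finset.range (p ^ j), (X : (ZMod p)[X]) ^ i = (X - 1) ^ (p ^ j - 1) := by
  have hq : 0 < p ^ j := pow_pos (Fact.out : p.Prime).pos j
  have hX : (X - 1 : (ZMod p)[X]) ≠ 0 := by simpa using X_sub_C_ne_zero (1 : ZMod p)
  refine mul_right_cancel₀ hX ?_
  rw [geom_sum_mul, ← pow_succ, show p ^ j - 1 + 1 = p ^ j by omega, sub_pow_char_pow, one_pow]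

/-- A unipotent automorphism of an elementary abelian group of order `p ^ m`. -/
theorem unipotent_facts {p m : ℕ} [Fact p.Prime] {V : Type*} [AddCommGroup V] [Module (ZMod p) V] [Finite V]
    (hV : Nat.card V = p ^ m) (T : Module.End (ZMod p) V) {r : ℕ} (hT : T ^ (p ^ r) = 1) (j : ℕ)
    (hj : m < p ^ j) : T ^ (p ^ j) = 1 ∧ ∑ i ∈ Finset.range (p ^ j), T ^ i = 0 := by
  open Polynomial in
  have hmap : ∀ f g : (ZMod p)[X], f = g → aeval T f = aeval T g := fun f g h => by rw [h]
  have hfr : ∀ k, (T - 1) ^ (p ^ k) = T ^ (p ^ k) - 1 := fun k => by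
    simpa using hmap _ _ (sub_pow_char_pow (R := (ZMod p)[X]) X 1 (p := p) (n := k))
  have hsum : ∑ i ∈ Finset.range (p ^ j), T ^ i = (T - 1) ^ (p ^ j - 1) := by
    simpa using hmap _ _ (geom_sum_eq_pow_sub_one (p := p) j)
  have hm : Module.finrank (ZMod p) V = m := by
    have := Module.natCard_eq_pow_finrank (K := ZMod p) (V := V)
    rw [hV, Nat.card_zmod] at this
    exact (Nat.pow_right_injective (Fact.out : p.Prime).two_le this).symm
  have hnil : (T - 1) ^ (p ^ r) = 0 := by rw [hfr, hT, sub_self]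
  have hzero : (T - 1) ^ m = 0 := by
    rw [← LinearMap.ker_eq_top, eq_top_iff, ← hm, ← LinearMap.ker_eq_top.mpr hnil]
    exact Module.End.ker_pow_le_ker_pow_finrank (T - 1) (p ^ r)
  constructor
  · rw [← sub_eq_zero, ← hfr, ← Nat.sub_add_cancel hj.le, pow_add, hzero, mul_zero]
  · rw [hsum, ← Nat.sub_add_cancel (show m ≤ p ^ j - 1 by omega), pow_add, hzero, mul_zero]

theorem unipotent_hom_facts_aux {p m : ℕ} [Fact p.Prime] {A : Type*} [CommGroup A] [Finite A]
    [Module (ZMod p) (Additive A)] (hA : Nat.card A = p ^ m) (φ : A →* A) {r : ℕ}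
    (hφ : ∀ a, φ^[p ^ r] a = a) (j : ℕ) (hj : m < p ^ j) (a : A) :
    φ^[p ^ j] a = a ∧ ∏ i ∈ Finset.range (p ^ j), φ^[i] a = 1 := by
  let T : Module.End (ZMod p) (Additive A) := φ.toAdditive.toZModLinearMap p
  have hpow : ∀ (k : ℕ) (x : A), ((T ^ k) (Additive.ofMul x)).toMul = φ^[k] x := by
    intro k
    induction k with
    | zero => intro x; rfl
    | succ k ih =>
      intro x
      rw [pow_succ, Module.End.mul_apply, Function.iterate_succ_apply, ← ih]
      rfl
  have hTr : T ^ p ^ r = 1 := LinearMap.ext fun x => Additive.toMul.injective (by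
    rw [← ofMul_toMul x, hpow, hφ]; rfl)
  obtain ⟨h1, h2⟩ := unipotent_facts (V := Additive A) hA T hTr j hj
  refine ⟨by rw [← hpow, h1]; rfl, ?_⟩
  have h3 := LinearMap.congr_fun h2 (Additive.ofMul a)
  rw [LinearMap.sum_apply, LinearMap.zero_apply] at h3
  have h4 := congrArg Additive.toMul h3
  rw [toMul_sum, toMul_zero] at h4
  simpa only [hpow] using h4

theorem unipotent_hom_facts {p m : ℕ} [Fact p.Prime] {A : Type*} [CommGroup A] [Finite A]
    (hexp : ∀ a : A, a ^ p = 1) (hA : Nat.card A = p ^ m) (φ : A →* A) {r : ℕ}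
    (hφ : ∀ a, φ^[p ^ r] a = a) (j : ℕ) (hj : m < p ^ j) (a : A) :
    φ^[p ^ j] a = a ∧ ∏ i ∈ Finset.range (p ^ j), φ^[i] a = 1 :=
  @unipotent_hom_facts_aux p m _ A _ _
    (AddCommGroup.zmodModule fun x => Additive.toMul.injective (hexp x.toMul)) hA φ r hφ j hj a


/-- Let a finite group G act faithfully on a set Ω with p ^ m points (p prime) and have an elementary abelian normal p-subgroup N acting regularly on Ω (so G is a group of affine transformations of an m-dimensional space over the field with p elements). If G contains an element of order p ^ r with r ≥ 1, then p ^ (r − 1) ≤ m. In particular an element of order p ^ m forces m ≤ 2, and m ≤ 1 when p is odd. -/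
theorem result {G : Type*} [Group G] [Finite G] {Ω : Type*} [Fintype Ω] [MulAction G Ω] [FaithfulSMul G Ω] (p m : ℕ) (hp : p.Prime) (hcard : Fintype.card Ω = p ^ m)
    (N : Subgroup G) [N.Normal] (hNc : IsMulCommutative N) (hNp : ∀ n ∈ N, n ^ p = 1)
    (hNtr : MulAction.IsPretransitive N Ω) (hNreg : ∀ ω : Ω, MulAction.stabilizer N ω = ⊥)
    (g : G) (r : ℕ) (hr : 1 ≤ r) (hg : orderOf g = p ^ r) :
    p ^ (r - 1) ≤ m ∧ (r = m → m ≤ 2 ∧ (2 < p → m ≤ 1)) := by
  haveI := Fact.mk hp
  obtain ⟨α⟩ : Nonempty Ω := Fintype.card_pos_iff.mp (hcard ▸ pow_pos hp.pos m)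
  letI : CommGroup N := { (inferInstance : Group N) with mul_comm := hNc.is_comm.comm }
  have hcardN : Nat.card N = p ^ m := by
    rw [← hcard, ← Nat.card_eq_fintype_card]
    refine Nat.card_eq_of_bijective (fun n : N => n • α) ⟨fun a b h => ?_, fun ω => hNtr.exists_smul_eq α ω⟩
    have : b⁻¹ * a ∈ MulAction.stabilizer N α := by
      rw [MulAction.mem_stabilizer_iff, mul_smul, show a • α = b • α from h, inv_smul_smul]
    rw [hNreg, Subgroup.mem_bot, inv_mul_eq_one] at this
    exact this.symm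
  have hNfix : ∀ n : N, (n : G) • α = α → n = 1 := fun n h => by
    have : n ∈ MulAction.stabilizer N α := h
    rwa [hNreg, Subgroup.mem_bot] at this
  obtain ⟨n₀, hn₀⟩ := hNtr.exists_smul_eq α (g • α)
  set h : G := (n₀ : G)⁻¹ * g with hh
  have hhα : h • α = α := by
    rw [hh, mul_smul, ← hn₀]; exact inv_smul_smul (n₀ : G) α
  have hgh : g = n₀ * h := by rw [hh, mul_inv_cancel_left]
  let φ : N →* N := (MulAut.conjNormal h : MulAut N).toMonoidHom
  have hTpow : ∀ (k : ℕ) (x : N), ((φ^[k] x : N) : G) = h ^ k * x * (h ^ k)⁻¹ := by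
    intro k
    induction k with
    | zero => intro x; simp
    | succ k ih =>
      intro x
      rw [Function.iterate_succ_apply', show φ (φ^[k] x) = MulAut.conjNormal h (φ^[k] x) from rfl,
        MulAut.conjNormal_apply, ih, pow_succ']
      group
  have hgpow : ∀ k : ℕ, g ^ k = ((∏ i ∈ Finset.range k, φ^[i] n₀ : N) : G) * h ^ k := by
    intro k
    induction k with
    | zero => simp
    | succ k ih =>
      rw [pow_succ, ih, hgh, Finset.prod_range_succ, Subgroup.coe_mul, hTpow, pow_succ]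
      group
  have hpowα : ∀ k : ℕ, (h ^ k) • α = α := by
    intro k
    induction k with
    | zero => simp
    | succ k ih => rw [pow_succ, mul_smul, hhα, ih]
  have hhr : h ^ p ^ r = 1 := by
    have h1 := hgpow (p ^ r)
    rw [← hg, pow_orderOf_eq_one] at h1
    rw [hg] at h1
    set z : N := ∏ i ∈ Finset.range (p ^ r), φ^[i] n₀
    have hz : z = 1 := hNfix z (by
      have h2 := congrArg (· • α) h1
      simp only [one_smul, mul_smul, hpowα] at h2
      exact h2.symm)
    rw [hz, Subgroup.coe_one, one_mul] at h1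
    exact h1.symm
  have hTr : ∀ x : N, φ^[p ^ r] x = x := fun x => Subtype.ext (by
    rw [hTpow, hhr, one_mul, inv_one, mul_one])
  have key : p ^ (r - 1) ≤ m := by
    by_contra hlt
    rw [not_le] at hlt
    have hU := unipotent_hom_facts (fun x : N => Subtype.ext (hNp _ x.2)) hcardN φ hTr (r - 1) hlt
    have hfix : h ^ p ^ (r - 1) = 1 := by
      refine eq_of_smul_eq_smul (α := Ω) fun ω => ?_
      obtain ⟨n, rfl⟩ := hNtr.exists_smul_eq α ω
      have h3 := hTpow (p ^ (r - 1)) n
      rw [(hU n).1, eq_mul_inv_iff_mul_eq] at h3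
      rw [one_smul]
      change h ^ p ^ (r - 1) • (n : G) • α = (n : G) • α
      rw [← mul_smul, ← h3, mul_smul, hpowα]
    have h1 := hgpow (p ^ (r - 1))
    rw [(hU n₀).2, hfix, mul_one, Subgroup.coe_one] at h1
    have h2 := Nat.le_of_dvd (pow_pos hp.pos _) (hg ▸ orderOf_dvd_of_pow_eq_one h1)
    exact absurd h2 (not_le.mpr (Nat.pow_lt_pow_right hp.one_lt (by omega)))
  refine ⟨key, fun hrm => ?_⟩
  subst hrm
  constructor
  · by_contra hm3
    have h1 : 2 ^ (r - 1) ≤ p ^ (r - 1) := Nat.pow_le_pow_left hp.two_le _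
    have h2 : r - 2 < 2 ^ (r - 2) := Nat.lt_two_pow_self
    rw [show r - 1 = (r - 2) + 1 by omega, pow_succ] at h1
    rw [show r - 1 = (r - 2) + 1 by omega] at key
    omega
  · intro hp2
    by_contra hm2
    have h1 : 3 ^ (r - 1) ≤ p ^ (r - 1) := Nat.pow_le_pow_left hp2 _
    have h2 : r - 2 < 3 ^ (r - 2) := Nat.lt_pow_self (by norm_num)
    rw [show r - 1 = (r - 2) + 1 by omega, pow_succ] at h1
    rw [show r - 1 = (r - 2) + 1 by omega] at key
    omega

end Cfsg.Agent.S3508
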