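import Cfsg.Statements.S3511
import Mathlib

set_option autoImplicit false
open Cfsg

namespace Cfsg.Agent.S3511


/-- Let a finite group G act faithfully on a set Ω. If every element of G of square-free order has a regular cycle (an orbit of the cyclic group it generates with trivial stabilizer), then every element of G has a regular cycle. -/
theorem result {G : Type*} [Group G] [Finite G] {Ω : Type*} [MulAction G Ω] [FaithfulSMul G Ω]
    (h : ∀ g : G, Squarefree (orderOf g) → ∃ ω : Ω, MulAction.stabilizer (Subgroup.zpowers g) ω = ⊥) (g : G) :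
    ∃ ω : Ω, MulAction.stabilizer (Subgroup.zpowers g) ω = ⊥ := by
  classical
  set o := orderOf g with ho
  have ho0 : o ≠ 0 := (orderOf_pos g).ne'
  set s := ∏ p ∈ o.primeFactors, p with hs
  have hso : s ∣ o := Nat.prod_primeFactors_dvd o
  obtain ⟨ω, hω⟩ := h (g ^ (o / s)) (by
    rw [orderOf_pow_orderOf_div ho0 hso, hs]
    refine Finset.squarefree_prod_of_pairwise_isCoprime (fun a ha b hb hab => ?_)
      (fun a ha => (Nat.prime_of_mem_primeFactors ha).squarefree)
    rw [Function.onFun, ← Nat.coprime_iff_isRelPrime]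
    exact (Nat.coprime_primes (Nat.prime_of_mem_primeFactors ha) (Nat.prime_of_mem_primeFactors hb)).mpr hab)
  refine ⟨ω, ?_⟩
  by_contra hne
  obtain ⟨p, hp, hdvd⟩ := Nat.exists_prime_and_dvd (fun h1 => hne (Subgroup.card_eq_one.mp h1))
  haveI := Fact.mk hp
  obtain ⟨x, hx⟩ := exists_prime_orderOf_dvd_card' p hdvd
  have hx1 : orderOf ((x : Subgroup.zpowers g) : G) = p := by
    rw [Subgroup.orderOf_coe, Subgroup.orderOf_coe, hx]
  obtain ⟨k, hk⟩ : ∃ k : ℕ, g ^ k = ((x : Subgroup.zpowers g) : G) :=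
    mem_powers_iff_mem_zpowers.mpr (x : Subgroup.zpowers g).2
  have hpo : p ∣ o := hx1 ▸ (orderOf_dvd_iff_pow_eq_one.mpr (by
    rw [← hk, ← pow_mul, mul_comm, pow_mul, pow_orderOf_eq_one, one_pow]))
  have hps : p ∣ s := Finset.dvd_prod_of_mem _ (Nat.mem_primeFactors.mpr ⟨hp, hpo, ho0⟩)
  have hkp : o ∣ k * p := by
    rw [ho, orderOf_dvd_iff_pow_eq_one, pow_mul, hk, ← hx1, pow_orderOf_eq_one]
  obtain ⟨c, rfl⟩ : o / s ∣ k := (Nat.dvd_trans (b := o / p) (by
    obtain ⟨a, ha⟩ := hps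
    obtain ⟨b, hb⟩ := hso
    refine ⟨a, ?_⟩
    rw [hb, ha, Nat.mul_div_cancel_left _ (Nat.pos_of_ne_zero (mul_ne_zero hp.ne_zero (fun h0 => ho0 (by rw [hb, ha, h0, mul_zero, zero_mul])))),
      mul_assoc, Nat.mul_div_cancel_left _ hp.pos]
    ring) (by
    obtain ⟨e, he⟩ := hpo
    rw [he] at hkp ⊢
    rw [Nat.mul_div_cancel_left _ hp.pos]
    exact Nat.dvd_of_mul_dvd_mul_left hp.pos (by rwa [mul_comm k p] at hkp)))
  have hmem : ((x : Subgroup.zpowers g) : G) ∈ Subgroup.zpowers (g ^ (o / s)) := by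
    rw [← hk, pow_mul]; exact Subgroup.npow_mem_zpowers _ _
  have : (⟨_, hmem⟩ : Subgroup.zpowers (g ^ (o / s))) ∈ MulAction.stabilizer (Subgroup.zpowers (g ^ (o / s))) ω := x.2
  rw [hω, Subgroup.mem_bot] at this
  have h1 : ((x : Subgroup.zpowers g) : G) = 1 := congrArg Subtype.val this
  rw [h1, orderOf_one] at hx1
  exact hp.one_lt.ne' hx1.symm

end Cfsg.Agent.S3511
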