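import Cfsg.Statements.S3514

set_option autoImplicit false
open Cfsg

namespace Cfsg.Agent.S3514

open Subgroup in
theorem relIndex_sup_eq {M : Type*} [Group M] [Finite M] (S K : Subgroup M) [K.Normal] :
    S.relIndex (S ⊔ K) = S.relIndex K := by
  have h1 := relIndex_mul_relIndex (⊥ : Subgroup M) S (S ⊔ K) bot_le le_sup_left
  have h2 := relIndex_mul_relIndex (⊥ : Subgroup M) K (S ⊔ K) bot_le le_sup_right
  have h3 := relIndex_mul_relIndex (⊥ : Subgroup M) (S ⊓ K) S bot_le inf_le_left
  have h4 := relIndex_mul_relIndex (⊥ : Subgroup M) (S ⊓ K) K bot_le inf_le_right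
  rw [relIndex_sup_right, ← h4, inf_relIndex_right, mul_assoc] at h2
  rw [inf_comm, inf_relIndex_right] at h3
  rw [inf_comm K S] at h3
  rw [← h3, ← h2, mul_assoc, mul_comm (K.relIndex S)] at h1
  have h0 : (⊥ : Subgroup M).relIndex (S ⊓ K) ≠ 0 := by
    rw [relIndex_bot_left]; exact Nat.card_pos.ne'
  have hk : K.relIndex S ≠ 0 := Subgroup.index_ne_zero_of_finite (H := K.subgroupOf S)
  exact Nat.eq_of_mul_eq_mul_right (Nat.pos_of_ne_zero hk) (Nat.eq_of_mul_eq_mul_left (Nat.pos_of_ne_zero h0) h1)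

theorem relIndex_dvd_relIndex_of_normal {M : Type*} [Group M] [Finite M] (S K H : Subgroup M)
    (hKH : K ≤ H) (hn : H ≤ Subgroup.normalizer (K : Set M)) : S.relIndex K ∣ S.relIndex H := by
  haveI : (K.subgroupOf H).Normal := Subgroup.normal_subgroupOf_of_le_normalizer hn
  have h1 := relIndex_sup_eq (S.subgroupOf H) (K.subgroupOf H)
  rw [Subgroup.relIndex_subgroupOf hKH] at h1
  change S.relIndex K ∣ (S.subgroupOf H).index
  rw [← h1]
  exact Dvd.intro _ (Subgroup.relIndex_mul_index le_sup_left)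

theorem relIndex_sup_dvd {M : Type*} [Group M] [Finite M] (S N H : Subgroup M)
    (hn : H ≤ Subgroup.normalizer (N : Set M)) :
    ∃ a b : ℕ, a ∣ Nat.card N ∧ b ∣ S.relIndex H ∧ S.relIndex (N ⊔ H) = a * b := by
  have hle : N ⊔ H ≤ Subgroup.normalizer (N : Set M) := sup_le Subgroup.le_normalizer hn
  haveI : (N.subgroupOf (N ⊔ H)).Normal := Subgroup.normal_subgroupOf_of_le_normalizer hle
  set S' := S.subgroupOf (N ⊔ H)
  set N' := N.subgroupOf (N ⊔ H)
  set H' := H.subgroupOf (N ⊔ H)
  refine ⟨S'.relIndex N', (S' ⊔ N').index, ?_, ?_, ?_⟩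
  · rw [Subgroup.relIndex_subgroupOf le_sup_left]
    exact Subgroup.relIndex_dvd_card S N
  · let f : H' →* (↥(N ⊔ H) ⧸ N') := (QuotientGroup.mk' N').comp H'.subtype
    have hf : Function.Surjective f := by
      rw [← MonoidHom.range_eq_top, MonoidHom.range_comp, Subgroup.range_subtype,
        Subgroup.map_eq_range_iff.mpr, MonoidHom.range_eq_top.mpr (QuotientGroup.mk'_surjective _)]
      rw [QuotientGroup.ker_mk', codisjoint_iff, ← Subgroup.subgroupOf_sup le_sup_right le_sup_left,
        sup_comm H N, Subgroup.subgroupOf_self]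
    have h1 : (S' ⊔ N').index = ((S' ⊔ N').map (QuotientGroup.mk' N')).index :=
      (Subgroup.index_map_eq _ (QuotientGroup.mk'_surjective _)
        (by rw [QuotientGroup.ker_mk']; exact le_sup_right)).symm
    have h2 : ((S' ⊔ N').map (QuotientGroup.mk' N')).comap f = (S' ⊔ N').subgroupOf H' := by
      rw [← Subgroup.comap_comap, Subgroup.comap_map_eq, QuotientGroup.ker_mk']
      rw [sup_assoc, sup_idem]; rfl
    rw [h1, ← Subgroup.index_comap_of_surjective _ hf, h2,
      ← Subgroup.relIndex_subgroupOf (le_sup_right : H ≤ N ⊔ H) (H := S)]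
    exact Subgroup.relIndex_dvd_of_le_left H' le_sup_left
  · rw [← relIndex_sup_eq S' N']
    exact (Subgroup.relIndex_mul_index le_sup_left).symm

theorem card_orbit_eq {p : ℕ} {V : Type*} [AddCommGroup V] [Module (ZMod p) V] [Finite V]
    (M : Subgroup (V ≃ₗ[ZMod p] V)) (v : V) :
    Nat.card {u : V | ∃ h ∈ M, h v = u} =
      (MulAction.stabilizer (V ≃ₗ[ZMod p] V) v).relIndex M := by
  have h1 : {u : V | ∃ h ∈ M, h v = u} = MulAction.orbit M v := by
    ext u
    exact ⟨fun ⟨h, hh, e⟩ => ⟨⟨h, hh⟩, e⟩, fun ⟨⟨h, hh⟩, e⟩ => ⟨h, hh, e⟩⟩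
  have h2 : (MulAction.stabilizer (V ≃ₗ[ZMod p] V) v).subgroupOf M = MulAction.stabilizer M v := rfl
  rw [h1, Subgroup.relIndex, h2, MulAction.index_stabilizer, Nat.card_coe_set_eq]


/-- Let p be a prime, V a finite vector space over the field with p elements, and H a group of linear transformations of V all of whose orbits on V have size coprime to p. (i) Every normal subgroup K of H has all its orbits on V of size coprime to p. (ii) If N is a group of linear transformations of V of order coprime to p that is normalized by H, then the group generated by N and H has all its orbits on V of size coprime to p. -/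
theorem result (p : ℕ) [Fact p.Prime] {V : Type*} [AddCommGroup V] [Module (ZMod p) V] [Finite V]
    (H : Subgroup (V ≃ₗ[ZMod p] V)) (hH : ∀ v : V, ¬ p ∣ Nat.card {u : V | ∃ h ∈ H, h v = u}) :
    (∀ K : Subgroup (V ≃ₗ[ZMod p] V), K ≤ H → H ≤ Subgroup.normalizer (K : Set (V ≃ₗ[ZMod p] V)) →
        ∀ v : V, ¬ p ∣ Nat.card {u : V | ∃ k ∈ K, k v = u}) ∧
    (∀ N : Subgroup (V ≃ₗ[ZMod p] V), ¬ p ∣ Nat.card N → H ≤ Subgroup.normalizer (N : Set (V ≃ₗ[ZMod p] V)) →
        ∀ v : V, ¬ p ∣ Nat.card {u : V | ∃ x ∈ N ⊔ H, x v = u}) := by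
  haveI : Finite (V ≃ₗ[ZMod p] V) := Finite.of_injective _ DFunLike.coe_injective
  constructor
  · intro K hKH hn v hp
    refine hH v ?_
    rw [card_orbit_eq] at hp ⊢
    exact hp.trans (relIndex_dvd_relIndex_of_normal _ K H hKH hn)
  · intro N hN hn v hp
    obtain ⟨a, b, ha, hb, hab⟩ := relIndex_sup_dvd (MulAction.stabilizer (V ≃ₗ[ZMod p] V) v) N H hn
    rw [card_orbit_eq, hab] at hp
    rcases (Fact.out : p.Prime).dvd_mul.mp hp with h | h
    · exact hN (h.trans ha)
    · exact hH v (by rw [card_orbit_eq]; exact h.trans hb)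

end Cfsg.Agent.S3514
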