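import Cfsg.Statements.S3515
import Cfsg.Agent.Lib.Recog.AffineRigid

set_option autoImplicit false
open Cfsg

namespace Cfsg.Agent.S3515

theorem zmod_two_plane : ∀ x : Fin 2 → ZMod 2,
    x = 0 ∨ x = Pi.single 0 1 ∨ x = Pi.single 1 1 ∨ x = 1 := by decide

theorem zmod_two_plane_ne : (1 : Fin 2 → ZMod 2) ≠ 0 ∧ (1 : Fin 2 → ZMod 2) ≠ Pi.single 0 1 ∧
    (1 : Fin 2 → ZMod 2) ≠ Pi.single 1 1 := by decide


/-- Every primitive affine permutation group of degree p² is 3-closed. Let p be a prime and G a group of permutations of the plane V = F_p² consisting of affine maps x ↦ Ax + b, containing all translations, and acting primitively on V. Then any permutation σ of V that agrees on every triple of points with some element of G (σ preserves every G-orbit on ordered triples) already lies in G. -/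
theorem result (p : ℕ) [Fact p.Prime] (G : Subgroup (Equiv.Perm (Fin 2 → ZMod p)))
    (haff : (G : Set (Equiv.Perm (Fin 2 → ZMod p))) ⊆ {τ : Equiv.Perm (Fin 2 → ZMod p) | ∃ (A : (Fin 2 → ZMod p) ≃ₗ[ZMod p] (Fin 2 → ZMod p)) (b : Fin 2 → ZMod p), ∀ x, τ x = A x + b})
    (htrans : ∀ b : Fin 2 → ZMod p, ∃ g ∈ G, ∀ x, g x = x + b) (hprim : MulAction.IsPreprimitive G (Fin 2 → ZMod p))
    (σ : Equiv.Perm (Fin 2 → ZMod p)) (hσ : (∀ t : Fin 3 → (Fin 2 → ZMod p), ∃ g ∈ G, ∀ i, σ (t i) = g (t i))) : σ ∈ G := by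
  obtain ⟨g, hg, hgσ⟩ := hσ ![0, Pi.single 0 1, Pi.single 1 1]
  suffices h : ∀ x, σ x = g x by rw [Equiv.ext h]; exact hg
  set τ : Equiv.Perm (Fin 2 → ZMod p) := g⁻¹ * σ with hτ
  have h0 : τ 0 = 0 := by
    rw [hτ, Equiv.Perm.mul_apply, show σ 0 = g 0 from hgσ 0, Equiv.Perm.inv_def, Equiv.symm_apply_apply]
  have h1 : τ (Pi.single 0 1) = Pi.single 0 1 := by
    rw [hτ, Equiv.Perm.mul_apply, show σ (Pi.single 0 1) = g (Pi.single 0 1) from hgσ 1,
      Equiv.Perm.inv_def, Equiv.symm_apply_apply]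
  have h2 : τ (Pi.single 1 1) = Pi.single 1 1 := by
    rw [hτ, Equiv.Perm.mul_apply, show σ (Pi.single 1 1) = g (Pi.single 1 1) from hgσ 2,
      Equiv.Perm.inv_def, Equiv.symm_apply_apply]
  suffices h : ∀ x, τ x = x by
    intro x
    have hx := h x
    rwa [hτ, Equiv.Perm.mul_apply, Equiv.Perm.inv_def, Equiv.symm_apply_eq] at hx
  by_cases hp : p = 2
  · subst hp
    have key := zmod_two_plane
    intro x
    rcases key x with rfl | rfl | rfl | rfl
    · exact h0
    · exact h1
    · exact h2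
    · rcases key (τ 1) with h | h | h | h
      · exact absurd (τ.injective (h.trans h0.symm)) zmod_two_plane_ne.1
      · exact absurd (τ.injective (h.trans h1.symm)) zmod_two_plane_ne.2.1
      · exact absurd (τ.injective (h.trans h2.symm)) zmod_two_plane_ne.2.2
      · exact h
  · obtain ⟨A, b, hA⟩ := CfsgLib.Recog.affine_of_agree hp τ fun t => by
      obtain ⟨g', hg', hgt⟩ := hσ t
      obtain ⟨A, b, hA⟩ := haff (G.mul_mem (G.inv_mem hg) hg')
      exact ⟨A, b, fun i => by rw [hτ, ← hA, Equiv.Perm.mul_apply, Equiv.Perm.mul_apply, hgt i]⟩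
    have hb : b = 0 := by rw [hA 0, map_zero, zero_add] at h0; exact h0
    rw [hA, hb, add_zero] at h1 h2
    intro x
    rw [hA, hb, add_zero]
    have hx : x = x 0 • Pi.single 0 1 + x 1 • Pi.single 1 1 := by
      funext i; fin_cases i <;> simp
    rw [hx, map_add, map_smul, map_smul, h1, h2]

end Cfsg.Agent.S3515
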