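import Cfsg.Statements.S3516
import Cfsg.Agent.Lib.Recog.AffineRigid
import Cfsg.Agent.Lib.Recog.LinearExtend

set_option autoImplicit false
open Cfsg

namespace Cfsg.Agent.S3516


/-- Let p be an odd prime, d ≥ 3, and G a group of affine permutations x ↦ Ax + b of V = F_p^d containing all translations and all maps x ↦ Ax with A of determinant 1. Then the 3-closure of G is the full affine group: a permutation σ of V agrees on every triple of points with some element of G if and only if σ is an affine map. -/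
theorem result (p : ℕ) [Fact p.Prime] (hp : p ≠ 2) (d : ℕ) (hd : 3 ≤ d) (G : Subgroup (Equiv.Perm (Fin d → ZMod p)))
    (haff : (G : Set (Equiv.Perm (Fin d → ZMod p))) ⊆ {τ : Equiv.Perm (Fin d → ZMod p) | ∃ (A : (Fin d → ZMod p) ≃ₗ[ZMod p] (Fin d → ZMod p)) (b : Fin d → ZMod p), ∀ x, τ x = A x + b})
    (htrans : ∀ b : Fin d → ZMod p, ∃ g ∈ G, ∀ x, g x = x + b)
    (hsl : ∀ A : (Fin d → ZMod p) ≃ₗ[ZMod p] (Fin d → ZMod p), LinearMap.det (A : (Fin d → ZMod p) →ₗ[ZMod p] (Fin d → ZMod p)) = 1 → ∃ g ∈ G, ∀ x, g x = A x)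
    (σ : Equiv.Perm (Fin d → ZMod p)) :
    (∀ t : Fin 3 → (Fin d → ZMod p), ∃ g ∈ G, ∀ i, σ (t i) = g (t i)) ↔ σ ∈ {τ : Equiv.Perm (Fin d → ZMod p) | ∃ (A : (Fin d → ZMod p) ≃ₗ[ZMod p] (Fin d → ZMod p)) (b : Fin d → ZMod p), ∀ x, τ x = A x + b} := by
  classical
  constructor
  · intro hσ
    refine CfsgLib.Recog.affine_of_agree hp σ fun t => ?_
    obtain ⟨g, hg, hgt⟩ := hσ t
    obtain ⟨A, b, hA⟩ := haff hg
    exact ⟨A, b, fun i => by rw [hgt i, hA]⟩
  · rintro ⟨A, b, hA⟩ t
    let U := Submodule.span (ZMod p) ({t 1 - t 0, t 2 - t 0} : Set (Fin d → ZMod p))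
    have hU : U ≠ ⊤ := fun htop => by
      have h1 : Module.finrank (ZMod p) U ≤ 2 := by
        have hs := finrank_span_finset_le_card (R := ZMod p)
          ({t 1 - t 0, t 2 - t 0} : Finset (Fin d → ZMod p))
        rw [Finset.coe_insert, Finset.coe_singleton] at hs
        exact hs.trans Finset.card_le_two
      rw [htop, finrank_top, Module.finrank_fin_fun] at h1
      omega
    obtain ⟨S, hS, hdet⟩ := CfsgLib.Recog.exists_fix_with_det hU (LinearEquiv.det A)⁻¹
    obtain ⟨g₁, hg₁, hg₁x⟩ := hsl (S.trans A) (by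
      rw [LinearEquiv.coe_trans, LinearMap.det_comp, hdet, ← LinearEquiv.coe_det, Units.mul_inv])
    obtain ⟨g₂, hg₂, hg₂x⟩ := htrans (σ (t 0) - A (S (t 0)))
    refine ⟨g₂ * g₁, G.mul_mem hg₂ hg₁, fun i => ?_⟩
    have hm : t i - t 0 ∈ U := by
      fin_cases i
      · simp
      · exact Submodule.subset_span (by simp)
      · exact Submodule.subset_span (by simp)
    have h1 : A (S (t i)) - A (S (t 0)) = A (t i) - A (t 0) := by
      rw [← map_sub, ← map_sub, hS _ hm, map_sub]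
    rw [Equiv.Perm.mul_apply, hg₂x, hg₁x, LinearEquiv.trans_apply, hA, hA]
    linear_combination (norm := abel) -h1

end Cfsg.Agent.S3516
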