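import Cfsg.Statements.S3517
import Cfsg.Agent.Lib.Recog.LinearExtend

set_option autoImplicit false
open Cfsg

namespace Cfsg.Agent.S3517


/-- For d ≥ 3, the 3-closure of the affine group AGL_d(2) acting on F_2^d is the full symmetric group: every permutation of F_2^d agrees on every ordered triple of points with some affine map (AGL_d(2) is 3-transitive). -/
theorem result (d : ℕ) (hd : 3 ≤ d) (σ : Equiv.Perm (Fin d → ZMod 2)) (t : Fin 3 → (Fin d → ZMod 2)) :
    ∃ (A : (Fin d → ZMod 2) ≃ₗ[ZMod 2] (Fin d → ZMod 2)) (b : Fin d → ZMod 2), ∀ i, σ (t i) = A (t i) + b := by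
  classical
  suffices h : ∃ A : (Fin d → ZMod 2) ≃ₗ[ZMod 2] (Fin d → ZMod 2),
      A (t 1 - t 0) = σ (t 1) - σ (t 0) ∧ A (t 2 - t 0) = σ (t 2) - σ (t 0) by
    obtain ⟨A, h1, h2⟩ := h
    refine ⟨A, σ (t 0) - A (t 0), fun i => ?_⟩
    rw [map_sub] at h1 h2
    fin_cases i
    · simp
    · simp only [Fin.mk_one]; linear_combination (norm := abel) -h1
    · simp only [show (⟨2, by norm_num⟩ : Fin 3) = 2 from rfl]; linear_combination (norm := abel) -h2
  have hne : ∀ i j, t i ≠ t j → t i - t j ≠ 0 ∧ σ (t i) - σ (t j) ≠ 0 := fun i j h =>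
    ⟨sub_ne_zero.mpr h, sub_ne_zero.mpr fun h' => h (σ.injective h')⟩
  by_cases h1 : t 1 = t 0
  · by_cases h2 : t 2 = t 0
    · exact ⟨LinearEquiv.refl _ _, by simp [h1], by simp [h2]⟩
    · obtain ⟨A, hA⟩ := CfsgLib.Recog.exists_linearEquiv_apply_eq (K := ZMod 2) (hne 2 0 h2).1 (hne 2 0 h2).2
      exact ⟨A, by simp [h1], hA⟩
  by_cases h2 : t 2 = t 0
  · obtain ⟨A, hA⟩ := CfsgLib.Recog.exists_linearEquiv_apply_eq (K := ZMod 2) (hne 1 0 h1).1 (hne 1 0 h1).2
    exact ⟨A, hA, by simp [h2]⟩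
  by_cases h12 : t 1 = t 2
  · obtain ⟨A, hA⟩ := CfsgLib.Recog.exists_linearEquiv_apply_eq (K := ZMod 2) (hne 1 0 h1).1 (hne 1 0 h1).2
    exact ⟨A, hA, by rw [← h12]; exact hA⟩
  have li : ∀ x y : Fin d → ZMod 2, x ≠ 0 → y ≠ 0 → x ≠ y → LinearIndependent (ZMod 2) ![x, y] := by
    intro x y hx hy hxy
    rw [LinearIndependent.pair_iff]
    intro a b hab
    have hc : ∀ c : ZMod 2, c = 0 ∨ c = 1 := by decide
    rcases hc a with rfl | rfl <;> rcases hc b with rfl | rfl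
    · exact ⟨rfl, rfl⟩
    · simp at hab; exact absurd hab hy
    · simp at hab; exact absurd hab hx
    · rw [one_smul, one_smul] at hab
      exact absurd (funext fun i => (((by decide : ∀ u v : ZMod 2, u + v = 0 → u = v)) _ _ (congrFun hab i))) hxy
  obtain ⟨A, hA⟩ := CfsgLib.Recog.exists_linearEquiv_of_li
    (li _ _ (hne 1 0 h1).1 (hne 2 0 h2).1 (fun h => h12 (sub_left_inj.mp h)))
    (li _ _ (hne 1 0 h1).2 (hne 2 0 h2).2 (fun h => h12 (σ.injective (sub_left_inj.mp h))))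
  exact ⟨A, hA 0, hA 1⟩

end Cfsg.Agent.S3517
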