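import Cfsg.Statements.S3518
import Cfsg.Agent.Lib.Recog.AffineRigid

set_option autoImplicit false
open Cfsg

namespace Cfsg.Agent.S3518

open Polynomial in
/-- The averaging operator over the `e`-th roots of unity detects polynomials of degree `< e`. -/
theorem sum_shift_eq_iff {p : ℕ} [Fact p.Prime] (M : Subgroup (ZMod p)ˣ) [Fintype M]
    (h : (ZMod p)[X]) (hdeg : h.natDegree < p) :
    (∀ x, ∑ a : M, h.eval (x + ((a : (ZMod p)ˣ) : ZMod p)) = (Fintype.card M : ZMod p) * h.eval x) ↔
      h.natDegree < Fintype.card M := by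
  classical
  set e := Fintype.card M with he
  have he0 : 0 < e := Fintype.card_pos
  set H : (ZMod p)[X] := ∑ a : M, taylor ((a : (ZMod p)ˣ) : ZMod p) h with hH
  have hpow : ∀ i, 0 < i → i < e → ∑ a : M, ((a : (ZMod p)ˣ) : ZMod p) ^ i = 0 := by
    intro i hi0 hie
    obtain ⟨g, hg⟩ := IsCyclic.exists_generator (α := M)
    have hgi : ((g : (ZMod p)ˣ) : ZMod p) ^ i ≠ 1 := by
      intro hone
      have : g ^ i = 1 := Subtype.ext (Units.ext (by simpa using hone))
      have hd := orderOf_dvd_of_pow_eq_one this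
      rw [orderOf_eq_card_of_forall_mem_zpowers hg, Nat.card_eq_fintype_card] at hd
      exact absurd (Nat.le_of_dvd hi0 hd) (by omega)
    have hshift : ∑ a : M, ((a : (ZMod p)ˣ) : ZMod p) ^ i =
        ((g : (ZMod p)ˣ) : ZMod p) ^ i * ∑ a : M, ((a : (ZMod p)ˣ) : ZMod p) ^ i := by
      rw [Finset.mul_sum, ← Equiv.sum_comp (Equiv.mulLeft g) (fun a : M => ((a : (ZMod p)ˣ) : ZMod p) ^ i)]
      simp [mul_pow]
    by_contra hne
    exact hgi (mul_eq_right₀ hne |>.mp hshift.symm)
  have hcoef : ∀ k, H.coeff k = ∑ j ∈ Finset.range (h.natDegree + 1),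
      (hasseDeriv k h).coeff j * ∑ a : M, ((a : (ZMod p)ˣ) : ZMod p) ^ j := by
    intro k
    simp_rw [hH, finsetSum_coeff, taylor_coeff]
    have hlt : (hasseDeriv k h).natDegree < h.natDegree + 1 := by
      have := natDegree_hasseDeriv_le h k; omega
    simp_rw [eval_eq_sum_range' hlt]
    rw [Finset.sum_comm]
    simp_rw [Finset.mul_sum]
  have hHeval : ∀ x, H.eval x = ∑ a : M, h.eval (x + ((a : (ZMod p)ˣ) : ZMod p)) := by
    intro x
    simp [hH, eval_finsetSum, taylor_eval]
  constructor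
  · intro hx
    by_contra hge
    set n := h.natDegree with hn
    have hh0 : h ≠ 0 := by rintro rfl; simp at hn; omega
    have hHdeg : (H - C (e : ZMod p) * h).natDegree < p := by
      refine lt_of_le_of_lt (natDegree_sub_le_of_le (m := n) (n := n) ?_ ?_) (by simpa using hdeg)
      · rw [hH]
        exact natDegree_sum_le_of_forall_le _ _ fun a _ => (natDegree_taylor _ _).le
      · exact natDegree_C_mul_le _ _
    have hzero : H - C (e : ZMod p) * h = 0 := by
      refine eq_zero_of_natDegree_lt_card_of_eval_eq_zero' _ Finset.univ (fun x _ => ?_) (by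
        rw [Finset.card_univ, ZMod.card]; exact hHdeg)
      rw [eval_sub, eval_C_mul, hHeval, hx x, sub_self]
    have hk := congrArg (coeff · (n - e)) hzero
    simp only [coeff_sub, coeff_C_mul, coeff_zero, hcoef] at hk
    rw [Finset.sum_eq_add_of_mem (0 : ℕ) e (by simp) (by simp; omega) (by omega)] at hk
    · simp only [hasseDeriv_coeff, pow_zero, Finset.sum_const, Finset.card_univ, zero_add,
        Nat.choose_self, Nat.cast_one, one_mul, nsmul_one, ← he] at hk
      have hall : ∀ a : M, ((a : (ZMod p)ˣ) : ZMod p) ^ e = 1 := fun a => by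
        rw [← Units.val_pow_eq_pow_val, ← Subgroup.coe_pow, he, pow_card_eq_one, Subgroup.coe_one,
          Units.val_one]
      simp only [hall, Finset.sum_const, Finset.card_univ, nsmul_one, ← he] at hk
      rw [show e + (n - e) = n by omega] at hk
      have hne : ((n.choose (n - e) : ℕ) : ZMod p) * h.coeff n * (e : ZMod p) ≠ 0 := by
        refine mul_ne_zero (mul_ne_zero ?_ (leadingCoeff_ne_zero.mpr hh0)) ?_
        · rw [Ne, ZMod.natCast_eq_zero_iff]
          intro hd
          have h2 : n.choose (n - e) ∣ n.factorial :=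
            Dvd.intro _ (by rw [← mul_assoc]; exact Nat.choose_mul_factorial_mul_factorial (Nat.sub_le n e))
          exact absurd ((Fact.out : p.Prime).dvd_factorial.mp (hd.trans h2)) (by omega)
        · rw [Ne, ZMod.natCast_eq_zero_iff]
          intro hd
          exact absurd (Nat.le_of_dvd he0 hd) (by omega)
      exact hne (by linear_combination hk)
    · intro j hj hj0
      rcases lt_or_gt_of_ne hj0.2 with hlt | hgt
      · rw [hpow j (Nat.pos_of_ne_zero hj0.1) hlt, mul_zero]
      · rw [hasseDeriv_coeff, coeff_eq_zero_of_natDegree_lt (show h.natDegree < j + (n - e) by omega),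
          mul_zero, zero_mul]
  · intro hlt x
    rw [← hHeval]
    have : H = C (e : ZMod p) * h := by
      ext k
      rw [hcoef, coeff_C_mul, Finset.sum_eq_single 0]
      · simp [hasseDeriv_coeff, he, mul_comm]
      · intro j hj hj0
        rw [hpow j (Nat.pos_of_ne_zero hj0) (by simp at hj; omega), mul_zero]
      · simp
    rw [this, eval_C_mul]

open Polynomial in
/-- Burnside: a permutation of a prime field respecting a proper slope group is affine. -/
theorem affine_of_slopes {p : ℕ} [Fact p.Prime] (M : Subgroup (ZMod p)ˣ) (hM : M ≠ ⊤)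
    (σ : Equiv.Perm (ZMod p))
    (hσ : ∀ x, ∀ a ∈ M, ∃ b ∈ M, σ (x + ((a : (ZMod p)ˣ) : ZMod p)) = σ x + ((b : (ZMod p)ˣ) : ZMod p)) :
    ∃ a ∈ M, ∃ b : ZMod p, ∀ x, σ x = ((a : (ZMod p)ˣ) : ZMod p) * x + b := by
  classical
  haveI : Fintype M := Fintype.ofFinite M
  set e := Fintype.card M with he
  have hp2 : 2 * e ≤ p - 1 := by
    have h1 := M.card_mul_index
    rw [Nat.card_eq_fintype_card, Nat.card_units, Nat.card_zmod, ← he] at h1
    have h2 : M.index ≠ 1 := fun h => hM (Subgroup.index_eq_one.mp h)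
    have h3 : M.index ≠ 0 := Subgroup.index_ne_zero_of_finite
    calc 2 * e ≤ M.index * e := Nat.mul_le_mul_right e (by omega)
      _ = p - 1 := by rw [mul_comm]; exact h1
  have hp : 2 ≤ p := (Fact.out : p.Prime).two_le
  suffices hlin : ∃ c b : ZMod p, ∀ x, σ x = c * x + b by
    obtain ⟨c, b, hcb⟩ := hlin
    obtain ⟨a, ha, heq⟩ := hσ 0 1 M.one_mem
    refine ⟨a, ha, b, fun x => ?_⟩
    rw [hcb, hcb] at heq
    simp only [Units.val_one, zero_add, mul_one, mul_zero] at heq
    rw [hcb, show c = (a : ZMod p) by linear_combination heq]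
  let S : ∀ x : ZMod p, M ≃ M := fun x =>
    Equiv.ofBijective (fun a => ⟨(hσ x a a.2).choose, (hσ x a a.2).choose_spec.1⟩) (by
      refine Finite.injective_iff_bijective.mp fun a a' haa => Subtype.ext (Units.ext ?_)
      have h1 := (hσ x a a.2).choose_spec.2
      have h2 := (hσ x a' a'.2).choose_spec.2
      rw [show (hσ x a a.2).choose = (hσ x a' a'.2).choose from congrArg Subtype.val haa, ← h2] at h1
      simpa using σ.injective h1)
  have hS : ∀ x (a : M), σ (x + ((a : (ZMod p)ˣ) : ZMod p)) = σ x + (((S x a : M) : (ZMod p)ˣ) : ZMod p) :=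
    fun x a => (hσ x a a.2).choose_spec.2
  rcases Nat.lt_or_ge e 2 with he1 | he2
  · have h1 : ∀ x, σ (x + 1) = σ x + 1 := by
      intro x
      obtain ⟨b, hb, hb'⟩ := hσ x 1 M.one_mem
      have : (⟨b, hb⟩ : M) = 1 := (Fintype.card_le_one_iff_subsingleton.mp (by omega)).elim _ _
      rw [show b = 1 from congrArg Subtype.val this] at hb'
      simpa using hb'
    refine ⟨1, σ 0, fun x => ?_⟩
    have : ∀ k : ℕ, σ (k : ZMod p) = (k : ZMod p) + σ 0 := by
      intro k
      induction k with
      | zero => simp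
      | succ k ih => rw [Nat.cast_succ, h1, ih]; ring
    simpa using this x.val
  obtain ⟨f, hfdeg, hf⟩ : ∃ f : (ZMod p)[X], f.natDegree < p ∧ ∀ x, f.eval x = σ x := by
    refine ⟨Lagrange.interpolate Finset.univ id σ, ?_, fun x => ?_⟩
    · have := Lagrange.degree_interpolate_lt (F := ZMod p) (s := Finset.univ) (v := id) σ (Function.injective_id.injOn)
      rw [Finset.card_univ, ZMod.card] at this
      by_cases h0 : Lagrange.interpolate Finset.univ id σ = 0
      · rw [h0, natDegree_zero]; omega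
      · exact (natDegree_lt_iff_degree_lt h0).mpr this
    · exact Lagrange.eval_interpolate_at_node (v := id) σ (Function.injective_id.injOn) (Finset.mem_univ x)
  have key : ∀ j, 1 ≤ j → j < e → (f ^ j).natDegree < p → (f ^ j).natDegree < e := by
    intro j hj1 hje hdj
    rw [← sum_shift_eq_iff M (f ^ j) hdj]
    intro x
    have hXj := (sum_shift_eq_iff M ((X : (ZMod p)[X]) ^ j) (by rw [natDegree_X_pow]; omega)).mpr
      (by rw [natDegree_X_pow]; exact hje) (σ x)
    simp only [eval_pow, eval_X] at hXj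
    simp only [eval_pow, hf, hS]
    rw [← hXj]
    exact Equiv.sum_comp (S x) (fun a : M => (σ x + ((a : (ZMod p)ˣ) : ZMod p)) ^ j)
  have h1 : f.natDegree < e := by simpa using key 1 le_rfl (by omega) (by simpa using hfdeg)
  have hj : ∀ j, j < e → j * f.natDegree < e := by
    intro j
    induction j with
    | zero => intro _; omega
    | succ j ih =>
      intro hje
      have := ih (by omega)
      rw [← natDegree_pow]
      refine key (j + 1) (by omega) hje ?_
      rw [natDegree_pow, add_mul, one_mul]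
      omega
  have hn : f.natDegree ≤ 1 := by
    by_contra hgt
    have := hj (e - 1) (by omega)
    have h3 : (e - 1) * 2 ≤ (e - 1) * f.natDegree := Nat.mul_le_mul_left _ (by omega)
    omega
  obtain ⟨c, b, hcb⟩ := exists_eq_X_add_C_of_natDegree_le_one hn
  exact ⟨c, b, fun x => by rw [← hf, hcb]; simp⟩

theorem zmod_two_ne : ∀ u v : ZMod 2, u ≠ v → v = 1 + u := by decide

theorem zmod_two_cases : ∀ x : ZMod 2, x = 0 ∨ x = 1 := by decide


/-- Closures of subgroups of the one-dimensional affine group. Let p be a prime and G a group of permutations of F_p lying in the affine group AGL₁(p) = {x ↦ ax + b, a ≠ 0} and containing all translations. (1) If G is a proper subgroup of AGL₁(p), then G is 2-closed: a permutation of F_p agreeing on every ordered pair of points with some element of G lies in G. (2) Every permutation of F_p agrees on every ordered pair with some element of AGL₁(p) (the 2-closure of AGL₁(p) is the symmetric group). (3) AGL₁(p) is 3-closed: a permutation agreeing on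 every ordered triple with some affine map is affine. -/
theorem result (p : ℕ) [Fact p.Prime] (G : Subgroup (Equiv.Perm (ZMod p))) (hG : G ≤ Cfsg.affineGroup (ZMod p))
    (htrans : ∀ b : ZMod p, ∃ g ∈ G, ∀ x, g x = x + b) :
    (G ≠ Cfsg.affineGroup (ZMod p) → ∀ σ : Equiv.Perm (ZMod p), (∀ t : Fin 2 → ZMod p, ∃ g ∈ G, ∀ i, σ (t i) = g (t i)) → σ ∈ G) ∧
    (∀ σ : Equiv.Perm (ZMod p), (∀ t : Fin 2 → ZMod p, ∃ g ∈ Cfsg.affineGroup (ZMod p), ∀ i, σ (t i) = g (t i))) ∧
    (∀ σ : Equiv.Perm (ZMod p), (∀ t : Fin 3 → ZMod p, ∃ g ∈ Cfsg.affineGroup (ZMod p), ∀ i, σ (t i) = g (t i)) → σ ∈ Cfsg.affineGroup (ZMod p)) := by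
  have htr : ∀ b : ZMod p, ∀ g ∈ G, ∃ g' ∈ G, ∀ x, g' x = g x + b := fun b g hg => by
    obtain ⟨t, ht, htx⟩ := htrans b
    exact ⟨t * g, G.mul_mem ht hg, fun x => by rw [Equiv.Perm.mul_apply, htx]⟩
  refine ⟨fun hne σ hσ => ?_, fun σ t => ?_, fun σ hσ => ?_⟩
  · let M : Subgroup (ZMod p)ˣ :=
      { carrier := {a | ∃ g ∈ G, ∀ x, g x = (a : ZMod p) * x}
        one_mem' := ⟨1, G.one_mem, fun x => by simp⟩
        mul_mem' := fun {a b} ⟨g, hg, hgx⟩ ⟨h, hh, hhx⟩ =>
          ⟨g * h, G.mul_mem hg hh, fun x => by rw [Equiv.Perm.mul_apply, hhx, hgx, Units.val_mul, mul_assoc]⟩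
        inv_mem' := fun {a} ⟨g, hg, hgx⟩ => ⟨g⁻¹, G.inv_mem hg, fun x => by
          rw [Equiv.Perm.inv_def, Equiv.symm_apply_eq, hgx, ← mul_assoc, Units.mul_inv, one_mul]⟩ }
    have hmem : ∀ g ∈ G, ∃ a ∈ M, ∃ b : ZMod p, ∀ x, g x = ((a : (ZMod p)ˣ) : ZMod p) * x + b := fun g hg => by
      obtain ⟨a, b, hab⟩ := hG hg
      obtain ⟨g', hg', hg'x⟩ := htr (-b) g hg
      exact ⟨a, ⟨g', hg', fun x => by rw [hg'x, hab]; ring⟩, b, hab⟩
    have hback : ∀ (σ : Equiv.Perm (ZMod p)) (a : (ZMod p)ˣ), a ∈ M → ∀ b : ZMod p,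
        (∀ x, σ x = (a : ZMod p) * x + b) → σ ∈ G := fun σ a ⟨g, hg, hgx⟩ b hx => by
      obtain ⟨g', hg', hg'x⟩ := htr b g hg
      rwa [show σ = g' from Equiv.ext fun x => by rw [hx, hg'x, hgx]]
    have hM : M ≠ ⊤ := fun htop => hne (le_antisymm hG fun τ hτ => by
      obtain ⟨a, b, hab⟩ := hτ
      exact hback τ a (htop ▸ Subgroup.mem_top a) b hab)
    obtain ⟨a, ha, b, hab⟩ := affine_of_slopes M hM σ fun x a ha => by
      obtain ⟨g, hg, hgt⟩ := hσ ![x, x + (a : ZMod p)]
      obtain ⟨c, hc, d, hcd⟩ := hmem g hg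
      refine ⟨c * a, M.mul_mem hc ha, ?_⟩
      rw [show σ (x + (a : ZMod p)) = g (x + a) from hgt 1, show σ x = g x from hgt 0, hcd, hcd,
        Units.val_mul]
      ring
    exact hback σ a ha b hab
  · suffices h : ∃ (a : (ZMod p)ˣ) (b : ZMod p), ∀ i, σ (t i) = (a : ZMod p) * t i + b by
      obtain ⟨a, b, hab⟩ := h
      exact ⟨(Equiv.mulLeft₀ (a : ZMod p) a.ne_zero).trans (Equiv.addRight b), ⟨a, b, fun x => rfl⟩, hab⟩
    by_cases h01 : t 1 = t 0
    · exact ⟨1, σ (t 0) - t 0, fun i => by fin_cases i <;> simp [h01]⟩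
    · have h1 : t 1 - t 0 ≠ 0 := sub_ne_zero.mpr h01
      have h2 : σ (t 1) - σ (t 0) ≠ 0 := sub_ne_zero.mpr fun h => h01 (σ.injective h)
      refine ⟨Units.mk0 _ h2 / Units.mk0 _ h1,
        σ (t 0) - (σ (t 1) - σ (t 0)) / (t 1 - t 0) * t 0, fun i => ?_⟩
      rw [Units.val_div_eq_div_val, Units.val_mk0, Units.val_mk0]
      fin_cases i
      · simp
      · simp only [Fin.mk_one]
        linear_combination -(div_mul_cancel₀ (σ (t 1) - σ (t 0)) h1)
  · by_cases hp : p = 2
    · subst hp
      refine ⟨1, σ 0, fun x => ?_⟩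
      have h := zmod_two_ne
      have hx := zmod_two_cases
      rcases hx x with rfl | rfl
      · simp
      · rw [Units.val_one, one_mul]
        exact h _ _ fun h' => zero_ne_one (σ.injective h')
    · obtain ⟨A, b, hAb⟩ := CfsgLib.Recog.affine_of_agree hp σ fun t => by
        obtain ⟨g, ⟨a, c, hac⟩, hgt⟩ := hσ t
        exact ⟨LinearEquiv.smulOfUnit a, c, fun i => by rw [hgt i, hac]; rfl⟩
      have h1 : A 1 ≠ 0 := fun h => one_ne_zero (A.injective (h.trans (map_zero A).symm))
      refine ⟨Units.mk0 (A 1) h1, b, fun x => ?_⟩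
      rw [hAb, Units.val_mk0]
      have h2 := map_smul A x (1 : ZMod p)
      rw [smul_eq_mul, smul_eq_mul, mul_one] at h2
      rw [h2, mul_comm]

end Cfsg.Agent.S3518
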