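import Cfsg.Statements.S3520
import Cfsg.Agent.Lib.Recog.DerangementAffine

set_option autoImplicit false
open Cfsg

namespace Cfsg.Agent.S3520


/-- Let a finite group G act faithfully and primitively on a finite set Ω with at least two points, suppose G is not almost simple (no non-abelian simple normal subgroup with trivial centralizer), and suppose the derangements of G form exactly two conjugacy classes. Then either Ω has 3 points and G has order 3; or G has a non-trivial abelian normal subgroup N acting regularly, every non-identity element of G fixes at most one point (so, when n > 3, G is a Frobenius group with kernel N), the number n of points is odd and a point stabilizer has order (n − 1)/2; or G is 2-transitive with a non-trivial abelian regular normal subgroup and some non-identity element fixes at least two points (a non-Frobenius 2-transitive affine group). -/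
theorem result {G : Type*} [Group G] [Finite G] {Ω : Type*} [Fintype Ω] [MulAction G Ω] [FaithfulSMul G Ω] (hΩ : 2 ≤ Fintype.card Ω) (hprim : MulAction.IsPreprimitive G Ω) (hnas : ¬ ∃ T : Subgroup G, T.Normal ∧ IsSimpleGroup T ∧ ¬ IsMulCommutative T ∧ Subgroup.centralizer (T : Set G) = ⊥)
    (hκ : Nat.card {c : ConjClasses G // ∃ g : G, ConjClasses.mk g = c ∧ ∀ ω : Ω, g • ω ≠ ω} = 2) (α : Ω) :
    (Fintype.card Ω = 3 ∧ Nat.card G = 3) ∨
    ((∃ N : Subgroup G, N.Normal ∧ N ≠ ⊥ ∧ IsMulCommutative N ∧ ∀ ω : Ω, MulAction.stabilizer N ω = ⊥) ∧ (∀ g : G, g ≠ 1 → Nat.card (MulAction.fixedBy Ω g) ≤ 1) ∧ ¬ 2 ∣ Fintype.card Ω ∧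
        2 * Nat.card (MulAction.stabilizer G α) = Fintype.card Ω - 1) ∨
    ((∃ N : Subgroup G, N.Normal ∧ N ≠ ⊥ ∧ IsMulCommutative N ∧ ∀ ω : Ω, MulAction.stabilizer N ω = ⊥) ∧ MulAction.IsMultiplyPretransitive G Ω 2 ∧ ∃ g : G, g ≠ 1 ∧ 2 ≤ Nat.card (MulAction.fixedBy Ω g)) := by
  classical
  haveI : Nontrivial Ω := Fintype.one_lt_card_iff_nontrivial.mp hΩ
  haveI : Fintype G := Fintype.ofFinite G
  obtain ⟨A, hAn, hAc, hA0⟩ : ∃ A : Subgroup G, A.Normal ∧ IsMulCommutative A ∧ A ≠ ⊥ := by
    by_contra h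
    push Not at h
    have := CfsgLib.Recog.three_le_derangement_classes hprim hnas h
    omega
  haveI := hAn
  obtain ⟨htr, hreg⟩ := CfsgLib.Recog.abelian_regular (Ω := Ω) hprim A hA0 hAc
  have hAex : ∃ N : Subgroup G, N.Normal ∧ N ≠ ⊥ ∧ IsMulCommutative N ∧ ∀ ω : Ω, MulAction.stabilizer N ω = ⊥ :=
    ⟨A, hAn, hA0, hAc, hreg⟩
  have hn : Nat.card A = Fintype.card Ω := CfsgLib.Recog.regular_card htr hreg
  have hder : ∀ a ∈ A, a ≠ 1 → ∀ ω : Ω, a • ω ≠ ω := fun a ha h1 =>
    CfsgLib.Recog.regular_derangement hreg ha h1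
  let K := {c : ConjClasses G // ∃ g : G, ConjClasses.mk g = c ∧ ∀ ω : Ω, g • ω ≠ ω}
  by_cases hone : ∀ a ∈ A, ∀ b ∈ A, a ≠ 1 → b ≠ 1 → IsConj a b
  · refine Or.inr (Or.inr ⟨hAex, CfsgLib.Recog.two_pretransitive_of_conj A hAc htr hone, ?_⟩)
    obtain ⟨a₀, ha₀, ha₁⟩ : ∃ a ∈ A, a ≠ 1 := by
      by_contra h
      push Not at h
      exact hA0 ((Subgroup.eq_bot_iff_forall A).mpr h)
    by_contra hcon
    have hin : ∀ g : G, (∀ ω : Ω, g • ω ≠ ω) → g ∈ A := fun g hg => by
      by_contra hgA
      exact hcon (CfsgLib.Recog.exists_two_fix_outside A htr hreg hgA hg)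
    have hsub : Subsingleton K := ⟨fun ⟨x, a, hax, had⟩ ⟨y, b, hby, hbd⟩ => by
      refine Subtype.ext ?_
      change x = y
      rw [← hax, ← hby]
      refine ConjClasses.mk_eq_mk_iff_isConj.mpr (hone a (hin a had) b (hin b hbd) ?_ ?_)
      · exact fun h => had α (by rw [h, one_smul])
      · exact fun h => hbd α (by rw [h, one_smul])⟩
    have : Nat.card K ≤ 1 := Finite.card_le_one_iff_subsingleton.mpr hsub
    rw [show Nat.card K = 2 from hκ] at this
    omega
  · push Not at hone
    obtain ⟨a, ha, b, hb, ha1, hb1, hnc⟩ := hone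
    refine Or.inr (Or.inl ⟨hAex, ?_⟩)
    let ka : K := ⟨ConjClasses.mk a, a, rfl, hder a ha ha1⟩
    let kb : K := ⟨ConjClasses.mk b, b, rfl, hder b hb hb1⟩
    have hkab : ka ≠ kb := fun h => hnc (ConjClasses.mk_eq_mk_iff_isConj.mp (congrArg Subtype.val h))
    have hall : ∀ g : G, (∀ ω : Ω, g • ω ≠ ω) → IsConj a g ∨ IsConj b g := by
      intro g hg
      obtain ⟨x, y, hxy, huniv⟩ := Nat.card_eq_two_iff.mp hκ
      let kg : K := ⟨ConjClasses.mk g, g, rfl, hg⟩
      have m : ∀ z : K, z = x ∨ z = y := fun z => by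
        have : z ∈ ({x, y} : Set K) := huniv.symm ▸ Set.mem_univ z
        simpa using this
      have : kg = ka ∨ kg = kb := by
        rcases m ka with h1 | h1 <;> rcases m kb with h2 | h2 <;> rcases m kg with h3 | h3
        all_goals first
          | exact absurd (h1.trans h2.symm) hkab
          | exact Or.inl (h3.trans h1.symm)
          | exact Or.inr (h3.trans h2.symm)
      rcases this with h | h
      · exact Or.inl (ConjClasses.mk_eq_mk_iff_isConj.mp (congrArg Subtype.val h)).symm
      · exact Or.inr (ConjClasses.mk_eq_mk_iff_isConj.mp (congrArg Subtype.val h)).symm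
    have hout : ∀ g : G, g ∉ A → 1 ≤ Nat.card (MulAction.fixedBy Ω g) := by
      intro g hg
      by_contra h
      rcases hall g ((CfsgLib.PermDerange.card_fixedBy_eq_zero_iff (Ω := Ω) g).mp (by omega)) with h' | h'
      · obtain ⟨c, hc⟩ := isConj_iff.mp h'
        exact hg (hc ▸ hAn.conj_mem a ha c)
      · obtain ⟨c, hc⟩ := isConj_iff.mp h'
        exact hg (hc ▸ hAn.conj_mem b hb c)
    have hfix1 := CfsgLib.Recog.fix_eq_one_outside A htr hreg hout
    have hle1 : ∀ g : G, g ≠ 1 → Nat.card (MulAction.fixedBy Ω g) ≤ 1 := fun g hg => by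
      by_cases hgA : g ∈ A
      · rw [(CfsgLib.PermDerange.card_fixedBy_eq_zero_iff g).mpr (hder g hgA hg)]; norm_num
      · rw [hfix1 g hgA]
    have hcent : ∀ x ∈ A, x ≠ 1 → ∀ g : G, g * x = x * g → g ∈ A := by
      intro x hx hx1 g hgx
      by_contra hgA
      obtain ⟨hsub, ⟨ω, hω⟩⟩ := Nat.card_eq_one_iff_unique.mp (hfix1 g hgA)
      have hω2 : g • x • ω = x • ω := by rw [← mul_smul, hgx, mul_smul, show g • ω = ω from hω]
      exact hder x hx hx1 ω (congrArg Subtype.val (hsub.elim ⟨x • ω, hω2⟩ ⟨ω, hω⟩))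
    have hclass : ∀ x ∈ A, x ≠ 1 → ∃ f : G ⧸ A → G, Function.Injective f ∧ ∀ y, y ∈ Set.range f ↔ IsConj x y := by
      intro x hx hx1
      refine ⟨Quotient.lift (fun g : G => g * x * g⁻¹) fun g g' h => ?_, ?_, fun y => ?_⟩
      · have hm : g⁻¹ * g' ∈ A := QuotientGroup.leftRel_apply.mp h
        have hcomm : (g⁻¹ * g') * x = x * (g⁻¹ * g') := congrArg Subtype.val (hAc.is_comm.comm ⟨_, hm⟩ ⟨x, hx⟩)
        calc g * x * g⁻¹ = g * (x * (g⁻¹ * g')) * g'⁻¹ := by group
          _ = g * ((g⁻¹ * g') * x) * g'⁻¹ := by rw [hcomm]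
          _ = g' * x * g'⁻¹ := by group
      · intro u v
        induction u using QuotientGroup.induction_on with
        | H g =>
        induction v using QuotientGroup.induction_on with
        | H g' =>
        intro h
        have h' : g * x * g⁻¹ = g' * x * g'⁻¹ := h
        rw [QuotientGroup.eq]
        refine hcent x hx hx1 _ ?_
        calc g⁻¹ * g' * x = g⁻¹ * (g' * x * g'⁻¹) * g' := by group
          _ = x * (g⁻¹ * g') := by rw [← h']; group
      · constructor
        · rintro ⟨u, rfl⟩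
          induction u using QuotientGroup.induction_on with
          | H g => exact isConj_iff.mpr ⟨g, rfl⟩
        · intro h
          obtain ⟨g, hg⟩ := isConj_iff.mp h
          exact ⟨(g : G ⧸ A), hg⟩
    obtain ⟨fa, hfa, hra⟩ := hclass a ha ha1
    obtain ⟨fb, hfb, hrb⟩ := hclass b hb hb1
    have hcount : Nat.card A = 2 * A.index + 1 := by
      have hfa' : ∀ u, fa u ∈ A ∧ fa u ≠ 1 := fun u => by
        obtain ⟨c, hc⟩ := isConj_iff.mp ((hra _).mp ⟨u, rfl⟩)
        rw [← hc]
        exact ⟨hAn.conj_mem a ha c, fun h => ha1 (conj_eq_one_iff.mp h)⟩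
      have hfb' : ∀ u, fb u ∈ A ∧ fb u ≠ 1 := fun u => by
        obtain ⟨c, hc⟩ := isConj_iff.mp ((hrb _).mp ⟨u, rfl⟩)
        rw [← hc]
        exact ⟨hAn.conj_mem b hb c, fun h => hb1 (conj_eq_one_iff.mp h)⟩
      let F : Option ((G ⧸ A) ⊕ (G ⧸ A)) → A := fun o => match o with
        | none => 1
        | some (Sum.inl u) => ⟨fa u, (hfa' u).1⟩
        | some (Sum.inr u) => ⟨fb u, (hfb' u).1⟩
      have hF : Function.Bijective F := by
        refine ⟨?_, fun ⟨y, hy⟩ => ?_⟩
        · rintro (_ | u | u) (_ | v | v) h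
          all_goals simp only [F, Subtype.ext_iff, Subgroup.coe_one] at h
          all_goals first
            | rfl
            | exact absurd h.symm (hfa' _).2
            | exact absurd h (hfa' _).2
            | exact absurd h.symm (hfb' _).2
            | exact absurd h (hfb' _).2
            | rw [hfa h]
            | rw [hfb h]
            | exact absurd (((hra _).mp ⟨_, h⟩).trans ((hrb _).mp ⟨_, rfl⟩).symm) hnc
            | exact absurd (((hra _).mp ⟨_, rfl⟩).trans ((hrb _).mp ⟨_, h⟩).symm) hnc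
        · by_cases hy1 : y = 1
          · exact ⟨none, Subtype.ext hy1.symm⟩
          rcases hall y (hder y hy hy1) with h | h
          · obtain ⟨u, hu⟩ := (hra y).mpr h
            exact ⟨some (Sum.inl u), Subtype.ext hu⟩
          · obtain ⟨u, hu⟩ := (hrb y).mpr h
            exact ⟨some (Sum.inr u), Subtype.ext hu⟩
      rw [← Nat.card_eq_of_bijective F hF, Finite.card_option, Nat.card_sum, ← Subgroup.index_eq_card]
      ring
    haveI : MulAction.IsPretransitive G Ω := hprim.toIsPretransitive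
    have hH : Nat.card (MulAction.stabilizer G α) = A.index := by
      have h1 := (MulAction.stabilizer G α).card_mul_index
      rw [MulAction.index_stabilizer_of_transitive, Nat.card_eq_fintype_card (α := Ω), ← hn,
        ← A.card_mul_index, mul_comm] at h1
      exact Nat.eq_of_mul_eq_mul_left Nat.card_pos h1
    rw [hn] at hcount
    exact ⟨hle1, by omega, by omega⟩

end Cfsg.Agent.S3520
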