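import Cfsg.Statements.S3532
import Cfsg.Agent.Lib.SL2Trace.Orders
import Mathlib.GroupTheory.SemidirectProduct
import Mathlib.FieldTheory.Finite.GaloisField
import Mathlib.GroupTheory.Solvable
import Mathlib.Algebra.Group.TypeTags.Finite

set_option autoImplicit false
open Cfsg

namespace Cfsg.Agent.S3532

variable {E : Type} [Field E]

/-- the acting group: powers of two chosen units -/
abbrev Cyc (u1 u2 : Eˣ) := Subgroup.zpowers u1 × Subgroup.zpowers u2

/-- componentwise multiplication on `E × E` -/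
def act (u1 u2 : Eˣ) : Cyc u1 u2 →* MulAut (Multiplicative (E × E)) where
  toFun c :=
    { toFun := fun v => Multiplicative.ofAdd ((c.1.1 : E) * v.toAdd.1, (c.2.1 : E) * v.toAdd.2)
      invFun := fun v => Multiplicative.ofAdd (((c.1.1⁻¹ : Eˣ) : E) * v.toAdd.1, ((c.2.1⁻¹ : Eˣ) : E) * v.toAdd.2)
      left_inv := fun v => by simp
      right_inv := fun v => by simp
      map_mul' := fun v w => Multiplicative.toAdd.injective (Prod.ext (mul_add _ _ _) (mul_add _ _ _)) }
  map_one' := by
    refine MulEquiv.ext fun v => ?_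
    apply Multiplicative.toAdd.injective
    simp
  map_mul' c e := by
    refine MulEquiv.ext fun v => ?_
    apply Multiplicative.toAdd.injective
    simp [mul_assoc]

/-- the witness -/
abbrev Grp (u1 u2 : Eˣ) := Multiplicative (E × E) ⋊[act u1 u2] Cyc u1 u2

instance instFiniteGrpWitness [Finite E] (u1 u2 : Eˣ) : Finite (Grp u1 u2) :=
  Finite.of_injective (fun g : Grp u1 u2 => (g.left, g.right))
    (fun x y h => SemidirectProduct.ext (congrArg Prod.fst h) (congrArg Prod.snd h))

theorem isSolvable_grp (u1 u2 : Eˣ) : Group.IsSolvable (Grp u1 u2) := by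
  haveI : Group.IsSolvable (Multiplicative (E × E)) := Group.isSolvable_of_comm fun a b => mul_comm a b
  haveI : Group.IsSolvable (Cyc u1 u2) := Group.isSolvable_of_comm fun a b => mul_comm a b
  exact Group.isSolvable_of_ker_le_range (SemidirectProduct.inl : Multiplicative (E × E) →* Grp u1 u2)
    (SemidirectProduct.rightHom : Grp u1 u2 →* Cyc u1 u2)
    (le_of_eq SemidirectProduct.range_inl_eq_ker_rightHom.symm)

theorem range_grp [Finite E] (p : ℕ) [Fact p.Prime] [CharP E p] (u1 u2 : Eˣ)
    (hcop : Nat.Coprime (orderOf u1) (orderOf u2)) :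
    Set.range (orderOf : Grp u1 u2 → ℕ) = {m | m ∣ orderOf u1 * orderOf u2 ∨ m ∣ p * orderOf u1 ∨ m ∣ p * orderOf u2} := by
  have hpz : ∀ v : Multiplicative (E × E), v ^ p = 1 := fun v => by
    apply Multiplicative.toAdd.injective
    rw [toAdd_pow, toAdd_one]
    exact Prod.ext (by simp [nsmul_eq_mul, CharP.cast_eq_zero]) (by simp [nsmul_eq_mul, CharP.cast_eq_zero])
  have hd1 : ∀ a : Subgroup.zpowers u1, orderOf a ∣ orderOf u1 := fun a => by
    have h := orderOf_dvd_natCard a; rwa [Nat.card_zpowers] at h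
  have hd2 : ∀ a : Subgroup.zpowers u2, orderOf a ∣ orderOf u2 := fun a => by
    have h := orderOf_dvd_natCard a; rwa [Nat.card_zpowers] at h
  ext m
  constructor
  · rintro ⟨g, rfl⟩
    by_cases h : g.right.1 ≠ 1 ∧ g.right.2 ≠ 1
    · refine Or.inl ?_
      obtain ⟨d, hd⟩ : ∃ d, d = orderOf g.right := ⟨_, rfl⟩
      have hr : (g ^ d).right = 1 := by
        show SemidirectProduct.rightHom (g ^ d) = 1
        rw [map_pow, hd]
        exact pow_orderOf_eq_one g.right
      have hgd : g ^ d = SemidirectProduct.inl (g ^ d).left := SemidirectProduct.ext rfl (by simp [hr])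
      have hcomm : g * g ^ d = g ^ d * g := (Commute.self_pow g d).eq
      rw [hgd] at hcomm
      have hfix := congrArg SemidirectProduct.left hcomm
      simp only [SemidirectProduct.mul_left, SemidirectProduct.left_inl, SemidirectProduct.right_inl,
        map_one, MulAut.one_apply] at hfix
      rw [mul_comm, mul_left_inj] at hfix
      have h0 : (g ^ d).left = 1 := by
        obtain ⟨e, he⟩ : ∃ e, e = ((g ^ d).left).toAdd := ⟨_, rfl⟩
        have ha : (g.right.1.1 : E) * e.1 = e.1 := by
          rw [he]; exact congrArg (fun v => (Multiplicative.toAdd v).1) hfix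
        have hb : (g.right.2.1 : E) * e.2 = e.2 := by
          rw [he]; exact congrArg (fun v => (Multiplicative.toAdd v).2) hfix
        have e1 : e.1 = 0 := by
          by_contra hne
          exact h.1 (Subtype.ext (Units.ext (by simpa using mul_right_cancel₀ hne (ha.trans (one_mul _).symm))))
        have e2 : e.2 = 0 := by
          by_contra hne
          exact h.2 (Subtype.ext (Units.ext (by simpa using mul_right_cancel₀ hne (hb.trans (one_mul _).symm))))
        apply Multiplicative.toAdd.injective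
        rw [← he, toAdd_one]
        exact Prod.ext e1 e2
      refine (orderOf_dvd_of_pow_eq_one (show g ^ d = 1 by rw [hgd, h0, map_one])).trans ?_
      rw [hd, Prod.orderOf]
      exact Nat.lcm_dvd ((hd1 _).mul_right _) ((hd2 _).mul_left _)
    · have hord : orderOf g ∣ orderOf g.right * p := by
        apply orderOf_dvd_of_pow_eq_one
        have hr : (g ^ orderOf g.right).right = 1 := by
          show SemidirectProduct.rightHom (g ^ orderOf g.right) = 1
          rw [map_pow]
          exact pow_orderOf_eq_one g.right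
        have hgd : g ^ orderOf g.right = SemidirectProduct.inl (g ^ orderOf g.right).left :=
          SemidirectProduct.ext rfl (by simp [hr])
        rw [pow_mul, hgd, ← map_pow, hpz, map_one]
      rw [Prod.orderOf, mul_comm] at hord
      by_cases h1 : g.right.1 = 1
      · rw [h1, orderOf_one, Nat.lcm_one_left] at hord
        exact Or.inr (Or.inr (hord.trans (mul_dvd_mul_left p (hd2 _))))
      · have h2 : g.right.2 = 1 := by by_contra h'; exact h ⟨h1, h'⟩
        rw [h2, orderOf_one, Nat.lcm_one_right] at hord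
        exact Or.inr (Or.inl (hord.trans (mul_dvd_mul_left p (hd1 _))))
  · intro hm
    have key : ∃ g : Grp u1 u2, m ∣ orderOf g := by
      let g1 : Subgroup.zpowers u1 := ⟨u1, Subgroup.mem_zpowers u1⟩
      let g2 : Subgroup.zpowers u2 := ⟨u2, Subgroup.mem_zpowers u2⟩
      have hg1 : orderOf g1 = orderOf u1 := Subgroup.orderOf_mk u1 _
      have hg2 : orderOf g2 = orderOf u2 := Subgroup.orderOf_mk u2 _
      have hinl : ∀ v : E × E, v ≠ 0 → orderOf (SemidirectProduct.inl (φ := act u1 u2) (Multiplicative.ofAdd v)) = p := by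
        intro v hv
        rw [orderOf_injective _ SemidirectProduct.inl_injective]
        exact orderOf_eq_prime (hpz _) (fun h => hv (Multiplicative.ofAdd.injective h))
      have hpc : ∀ u : Eˣ, Nat.Coprime p (orderOf u) := fun u => by
        refine (Fact.out : p.Prime).coprime_iff_not_dvd.2 fun h => ?_
        obtain ⟨w, hw⟩ : ∃ w : Eˣ, orderOf w = p :=
          ⟨u ^ (orderOf u / p), orderOf_pow_orderOf_div (orderOf_pos u).ne' h⟩
        have h1 : (w : E) ^ p = 1 := by rw [← Units.val_pow_eq_pow_val, ← hw, pow_orderOf_eq_one, Units.val_one]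
        have : ((w : E) - 1) ^ p = 0 := by rw [sub_pow_char, h1, one_pow, sub_self]
        have hw1 : w = 1 := Units.ext (sub_eq_zero.1 (eq_zero_of_pow_eq_zero this))
        rw [hw1, orderOf_one] at hw
        exact (Fact.out : p.Prime).one_lt.ne' hw.symm
      rcases hm with h | h | h
      · refine ⟨SemidirectProduct.inr (g1, g2), ?_⟩
        rw [orderOf_injective _ SemidirectProduct.inr_injective, Prod.orderOf, hg1, hg2, hcop.lcm_eq_mul]
        exact h
      · refine ⟨SemidirectProduct.inl (Multiplicative.ofAdd ((0 : E), (1 : E))) * SemidirectProduct.inr (g1, 1), ?_⟩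
        have hcomm : Commute (SemidirectProduct.inl (φ := act u1 u2) (Multiplicative.ofAdd ((0 : E), (1 : E))))
            (SemidirectProduct.inr (g1, 1)) := by
          apply SemidirectProduct.ext
          · simp only [SemidirectProduct.mul_left, SemidirectProduct.left_inl, SemidirectProduct.right_inl, SemidirectProduct.left_inr, SemidirectProduct.right_inr, map_one, MulAut.one_apply, mul_one, one_mul]
            apply Multiplicative.toAdd.injective
            simp [act]
          · simp
        have hi : orderOf (SemidirectProduct.inr (φ := act u1 u2) ((g1, 1) : Cyc u1 u2)) = orderOf u1 := by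
          rw [orderOf_injective _ SemidirectProduct.inr_injective, Prod.orderOf, hg1, orderOf_one, Nat.lcm_one_right]
        rw [hcomm.orderOf_mul_eq_mul_orderOf_of_coprime (by rw [hinl _ (by simp), hi]; exact hpc u1),
          hinl _ (by simp), hi]
        exact h
      · refine ⟨SemidirectProduct.inl (Multiplicative.ofAdd ((1 : E), (0 : E))) * SemidirectProduct.inr (1, g2), ?_⟩
        have hcomm : Commute (SemidirectProduct.inl (φ := act u1 u2) (Multiplicative.ofAdd ((1 : E), (0 : E))))
            (SemidirectProduct.inr (1, g2)) := by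
          apply SemidirectProduct.ext
          · simp only [SemidirectProduct.mul_left, SemidirectProduct.left_inl, SemidirectProduct.right_inl, SemidirectProduct.left_inr, SemidirectProduct.right_inr, map_one, MulAut.one_apply, mul_one, one_mul]
            apply Multiplicative.toAdd.injective
            simp [act]
          · simp
        have hi : orderOf (SemidirectProduct.inr (φ := act u1 u2) ((1, g2) : Cyc u1 u2)) = orderOf u2 := by
          rw [orderOf_injective _ SemidirectProduct.inr_injective, Prod.orderOf, hg2, orderOf_one, Nat.lcm_one_left]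
        rw [hcomm.orderOf_mul_eq_mul_orderOf_of_coprime (by rw [hinl _ (by simp), hi]; exact hpc u2),
          hinl _ (by simp), hi]
        exact h
    obtain ⟨g, hg⟩ := key
    exact CfsgLib.SL2Trace.mem_range_of_dvd hg (orderOf_pos g).ne'

/-- Let q ≥ 4 be a prime power and L = PSL(2,q). There is a finite solvable group with the same set of element orders as L × L (so L × L is not determined by its spectrum). -/
theorem result {F : Type*} [Field F] [Fintype F] (hF : 4 ≤ Fintype.card F) :
    ∃ (H : Type) (_ : Group H) (_ : Finite H), Group.IsSolvable H ∧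
      Set.range (orderOf : H → ℕ) = Set.range (orderOf : Matrix.ProjectiveSpecialLinearGroup (Fin 2) F × Matrix.ProjectiveSpecialLinearGroup (Fin 2) F → ℕ) := by
  classical
  obtain ⟨p, hchar, f, hp, hq⟩ := FiniteField.card' F
  haveI := Fact.mk hp
  obtain ⟨f', hf'⟩ : ∃ f' : ℕ, (f : ℕ) = f' := ⟨f, rfl⟩
  rw [hf'] at hq
  obtain ⟨q, hqF⟩ : ∃ q, q = Fintype.card F := ⟨_, rfl⟩
  rw [← hqF] at hq hF
  obtain ⟨d, hd⟩ : ∃ d, d = Nat.gcd 2 (q - 1) := ⟨_, rfl⟩
  have hf0 : f' ≠ 0 := by rintro rfl; rw [pow_zero] at hq; omega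
  have hd1 : d ∣ q - 1 := hd ▸ Nat.gcd_dvd_right _ _
  have hd2 : d ∣ q + 1 := by
    have h2 : d ∣ 2 := hd ▸ Nat.gcd_dvd_left _ _
    have := dvd_add hd1 h2
    rwa [show q - 1 + 2 = q + 1 by omega] at this
  have hd0 : 0 < d := hd ▸ Nat.gcd_pos_of_pos_left _ two_pos
  obtain ⟨n1, hn1⟩ := hd1
  obtain ⟨n2, hn2⟩ := hd2
  have hn10 : 0 < n1 := Nat.pos_of_ne_zero fun h => by rw [h, mul_zero] at hn1; omega
  have hn20 : 0 < n2 := Nat.pos_of_ne_zero fun h => by rw [h, mul_zero] at hn2; omega
  have hpq : p ∣ q := hq ▸ dvd_pow_self p hf0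
  have hcp : ∀ n, n ∣ q - 1 ∨ n ∣ q + 1 → Nat.Coprime p n := fun n hn => by
    refine hp.coprime_iff_not_dvd.2 fun h => ?_
    rcases hn with hn | hn
    · have := Nat.dvd_sub hpq (h.trans hn)
      rw [show q - (q - 1) = 1 by omega] at this
      exact hp.one_lt.ne' (Nat.dvd_one.1 this)
    · have := Nat.dvd_sub (h.trans hn) hpq
      rw [show q + 1 - q = 1 by omega] at this
      exact hp.one_lt.ne' (Nat.dvd_one.1 this)
  have hc1 : Nat.Coprime p n1 := hcp _ (Or.inl (Dvd.intro_left d hn1.symm))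
  have hc2 : Nat.Coprime p n2 := hcp _ (Or.inr (Dvd.intro_left d hn2.symm))
  have h12 : Nat.Coprime n1 n2 := by
    have hg : d * Nat.gcd n1 n2 ∣ d * 1 := by
      rw [← Nat.gcd_mul_left, ← hn1, ← hn2, mul_one, hd]
      refine Nat.dvd_gcd ?_ (Nat.gcd_dvd_left _ _)
      have := Nat.dvd_sub (Nat.gcd_dvd_right (q - 1) (q + 1)) (Nat.gcd_dvd_left _ _)
      rwa [show q + 1 - (q - 1) = 2 by omega] at this
    exact Nat.dvd_one.1 (Nat.dvd_of_mul_dvd_mul_left hd0 hg)
  let E := GaloisField p (2 * f')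
  haveI : Fintype E := Fintype.ofFinite E
  have hE : Fintype.card E = q ^ 2 := by
    rw [← Nat.card_eq_fintype_card, GaloisField.card p _ (by omega), hq, ← pow_mul, mul_comm]
  obtain ⟨ζ, hζ⟩ := IsCyclic.exists_generator (α := Eˣ)
  have hEu : orderOf ζ = q ^ 2 - 1 := by
    rw [orderOf_eq_card_of_forall_mem_zpowers hζ, Nat.card_eq_fintype_card, Fintype.card_units, hE]
  have hsq : q ^ 2 - 1 = (q + 1) * (q - 1) := by
    have := Nat.sq_sub_sq q 1
    simpa using this
  have hex : ∀ n, 0 < n → n ∣ q ^ 2 - 1 → ∃ u : Eˣ, orderOf u = n := fun n _ h =>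
    ⟨ζ ^ (orderOf ζ / n), orderOf_pow_orderOf_div (orderOf_pos ζ).ne' (hEu ▸ h)⟩
  obtain ⟨u1, hu1⟩ := hex n1 hn10 (hsq ▸ (Dvd.intro_left d hn1.symm).trans (Dvd.intro_left _ rfl))
  obtain ⟨u2, hu2⟩ := hex n2 hn20 (hsq ▸ (Dvd.intro_left d hn2.symm).trans (Dvd.intro _ rfl))
  refine ⟨Grp u1 u2, inferInstance, inferInstance, isSolvable_grp u1 u2, ?_⟩
  haveI : CharP E p := inferInstance
  rw [range_grp p u1 u2 (by rw [hu1, hu2]; exact h12), hu1, hu2]
  ext m
  simp only [Set.mem_ofPred_eq, Set.mem_range, Prod.orderOf]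
  have hL : ∀ g : Matrix.ProjectiveSpecialLinearGroup (Fin 2) F,
      orderOf g ∣ p ∨ orderOf g ∣ n1 ∨ orderOf g ∣ n2 := by
    intro g
    rcases CfsgLib.SL2Trace.psl_pow_cases p g with h | h | h
    · exact Or.inl (orderOf_dvd_of_pow_eq_one h)
    · refine Or.inr (Or.inl ?_)
      have h' := orderOf_dvd_of_pow_eq_one h
      rwa [← hqF, ← hd, hn1, Nat.mul_div_cancel_left _ hd0] at h'
    · refine Or.inr (Or.inr ?_)
      have h' := orderOf_dvd_of_pow_eq_one h
      rwa [← hqF, ← hd, hn2, Nat.mul_div_cancel_left _ hd0] at h'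
  have hexL : ∀ a, a ∣ p ∨ a ∣ n1 ∨ a ∣ n2 →
      ∃ g : Matrix.ProjectiveSpecialLinearGroup (Fin 2) F, orderOf g = a := by
    intro a ha
    obtain ⟨τ1, hτ1, hu⟩ := CfsgLib.SL2Trace.exists_isotropic_trace (F := F) (hqF ▸ hF)
    obtain ⟨τ2, hτ2⟩ := CfsgLib.SL2Trace.exists_anisotropic_trace (F := F)
    have hτ24 : τ2 ^ 2 ≠ 4 := fun h => hτ2 (CfsgLib.SL2Trace.exists_root_of_sq_eq_four τ2 h)
    rcases ha with ha | ha | ha
    · obtain ⟨g, hg⟩ := CfsgLib.SL2Trace.exists_orderOf_char (F := F) p
      exact CfsgLib.SL2Trace.mem_range_of_dvd (hg ▸ ha) (by rw [hg]; exact hp.ne_zero)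
    · obtain ⟨g, hg⟩ := CfsgLib.SL2Trace.exists_orderOf_toPSL τ1 hτ1 (q - 1)
        ((CfsgLib.SL2Trace.card_centralizer_comp τ1 hτ1).1 hu |>.trans (by rw [hqF])) (by rw [hqF])
      rw [← hqF, ← hd, hn1, Nat.mul_div_cancel_left _ hd0] at hg
      exact CfsgLib.SL2Trace.mem_range_of_dvd (hg ▸ ha) (by omega)
    · obtain ⟨g, hg⟩ := CfsgLib.SL2Trace.exists_orderOf_toPSL τ2 hτ24 (q + 1)
        ((CfsgLib.SL2Trace.card_centralizer_comp τ2 hτ24).2 hτ2 |>.trans (by rw [hqF]))
        (by rw [hqF]; omega)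
      rw [← hqF, ← hd, hn2, Nat.mul_div_cancel_left _ hd0] at hg
      exact CfsgLib.SL2Trace.mem_range_of_dvd (hg ▸ ha) (by omega)
  constructor
  · intro hm
    have mk : ∀ a b, (a ∣ p ∨ a ∣ n1 ∨ a ∣ n2) → (b ∣ p ∨ b ∣ n1 ∨ b ∣ n2) → Nat.Coprime a b →
        m = a * b → ∃ x : Matrix.ProjectiveSpecialLinearGroup (Fin 2) F ×
          Matrix.ProjectiveSpecialLinearGroup (Fin 2) F, Nat.lcm (orderOf x.1) (orderOf x.2) = m := by
      intro a b ha hb hab he
      obtain ⟨x, hx⟩ := hexL a ha
      obtain ⟨y, hy⟩ := hexL b hb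
      exact ⟨(x, y), by rw [hx, hy, hab.lcm_eq_mul, he]⟩
    rcases hm with h | h | h
    · obtain ⟨a, b, ha, hb, rfl⟩ := Nat.dvd_mul.1 h
      exact mk a b (Or.inr (Or.inl ha)) (Or.inr (Or.inr hb)) ((h12.of_dvd_left ha).of_dvd_right hb) rfl
    · obtain ⟨a, b, ha, hb, rfl⟩ := Nat.dvd_mul.1 h
      exact mk a b (Or.inl ha) (Or.inr (Or.inl hb)) ((hc1.of_dvd_left ha).of_dvd_right hb) rfl
    · obtain ⟨a, b, ha, hb, rfl⟩ := Nat.dvd_mul.1 h
      exact mk a b (Or.inl ha) (Or.inr (Or.inr hb)) ((hc2.of_dvd_left ha).of_dvd_right hb) rfl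
  · rintro ⟨⟨x, y⟩, rfl⟩
    have l : ∀ {a b A : ℕ}, a ∣ A → b ∣ A → Nat.lcm a b ∣ A := fun h h' => Nat.lcm_dvd h h'
    rcases hL x with hx | hx | hx <;> rcases hL y with hy | hy | hy
    · exact Or.inr (Or.inl (l (hx.mul_right n1) (hy.mul_right n1)))
    · exact Or.inr (Or.inl (l (hx.mul_right n1) (hy.mul_left p)))
    · exact Or.inr (Or.inr (l (hx.mul_right n2) (hy.mul_left p)))
    · exact Or.inr (Or.inl (l (hx.mul_left p) (hy.mul_right n1)))
    · exact Or.inl (l (hx.mul_right n2) (hy.mul_right n2))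
    · exact Or.inl (l (hx.mul_right n2) (hy.mul_left n1))
    · exact Or.inr (Or.inr (l (hx.mul_left p) (hy.mul_right n2)))
    · exact Or.inl (l (hx.mul_left n1) (hy.mul_right n2))
    · exact Or.inl (l (hx.mul_left n1) (hy.mul_left n1))

end Cfsg.Agent.S3532
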