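import Cfsg.Statements.S3548
import Cfsg.Agent.Lib.Derange.Basic
import Mathlib.GroupTheory.Perm.Cycle.Type
import Mathlib.Algebra.IsPrimePow
import Mathlib.GroupTheory.PGroup
import Mathlib.GroupTheory.OrderOfElement

set_option autoImplicit false
open Cfsg

namespace Cfsg.Agent.S3548
open MulAction CfsgLib.Derange

section aux
variable {G Ω : Type*} [Group G] [Finite G] [MulAction G Ω] [Finite Ω]

/-- The index of the derangement subgroup equals the index in the point stabiliser. -/
lemma relIndex_stab [IsPretransitive G Ω] (a : Ω) :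
    (derSubgroup G Ω).relIndex (stabilizer G a) = (derSubgroup G Ω).index := by
  haveI : Nonempty Ω := ⟨a⟩
  haveI := (derSubgroup_transitive_and_fix (G := G) (Ω := Ω)).1
  set D := derSubgroup G Ω
  have h : stabilizer G a ⊔ D = ⊤ := by
    rw [eq_top_iff]
    intro g _
    obtain ⟨d, hd⟩ := exists_smul_eq ↥D (g • a) a
    have : (d : G) * g ∈ stabilizer G a := by
      rw [mem_stabilizer_iff, mul_smul]; exact hd
    have hg : g = (d : G)⁻¹ * ((d : G) * g) := by group
    rw [hg]
    exact mul_mem (Subgroup.mem_sup_right (inv_mem d.2)) (Subgroup.mem_sup_left this)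
  rw [← Subgroup.relIndex_sup_right, h, Subgroup.relIndex_top_right]

/-- The index of the derangement subgroup divides every nontrivial subdegree. -/
lemma index_dvd_subdegree [IsPretransitive G Ω] {a b : Ω} (hab : b ≠ a) :
    (derSubgroup G Ω).index ∣ Nat.card (orbit (stabilizer G a) b) := by
  haveI : Nonempty Ω := ⟨a⟩
  rw [← relIndex_stab a, Subgroup.relIndex]
  rw [Nat.card_congr (orbitEquivQuotientStabilizer ↥(stabilizer G a) b)]
  apply Subgroup.index_dvd_of_le
  intro g hg
  rw [Subgroup.mem_subgroupOf]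
  by_contra h
  exact hab (eq_of_fixed_of_not_mem h hg g.2)

lemma index_dvd (htrans : IsPretransitive G Ω) (a : Ω) :
    (derSubgroup G Ω).index ∣ Nat.card Ω - 1 := by
  classical
  haveI := Fintype.ofFinite Ω
  have h := selfEquivSigmaOrbits ↥(stabilizer G a) Ω
  haveI := Fintype.ofFinite (orbitRel.Quotient ↥(stabilizer G a) Ω)
  rw [Nat.card_congr h, Nat.card_sigma]
  set q0 : orbitRel.Quotient ↥(stabilizer G a) Ω := Quotient.mk'' a
  rw [← Finset.add_sum_erase _ _ (Finset.mem_univ q0)]
  have h1 : Nat.card (orbit ↥(stabilizer G a) q0.out) = 1 := by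
    have h' : q0.out ∈ orbit ↥(stabilizer G a) a := orbitRel_apply.1 (Quotient.exact' q0.out_eq')
    obtain ⟨g, hg⟩ := h'
    have hq : q0.out = a := by rw [← hg]; exact g.2
    rw [hq, Nat.card_eq_one_iff_unique]
    refine ⟨⟨fun x y => ?_⟩, ⟨⟨a, mem_orbit_self a⟩⟩⟩
    obtain ⟨g1, h1⟩ := x.2
    obtain ⟨g2, h2⟩ := y.2
    exact Subtype.ext (h1.symm.trans (g1.2.trans (g2.2.symm.trans h2)))
  rw [h1, Nat.add_sub_cancel_left]
  refine Finset.dvd_sum fun q hq => ?_
  haveI := htrans
  apply index_dvd_subdegree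
  intro hqa
  apply (Finset.mem_erase.1 hq).1
  rw [← q.out_eq', hqa]

lemma prime_pow [IsPretransitive G Ω] [FaithfulSMul G Ω] (hΩ : 2 ≤ Nat.card Ω) (a : Ω)
    (he : (derSubgroup G Ω).index = Nat.card Ω - 1) : IsPrimePow (Nat.card Ω) := by
  classical
  haveI := Fintype.ofFinite Ω
  haveI : Nonempty Ω := ⟨a⟩
  haveI hDt := (derSubgroup_transitive_and_fix (G := G) (Ω := Ω)).1
  set D := derSubgroup G Ω with hDdef
  -- every nontrivial suborbit is everything else
  have horb : ∀ a b : Ω, b ≠ a → ∀ c : Ω, c ≠ a → c ∈ orbit (stabilizer G a) b := by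
    intro a b hb c hc
    have hsub : orbit (stabilizer G a) b ⊆ {x | x ≠ a} := by
      rintro x ⟨g, rfl⟩ hx
      apply hb
      have hx' : (g : G) • b = (g : G) • a := hx.trans g.2.symm
      exact smul_left_cancel _ hx'
    have hd := index_dvd_subdegree hb (G := G)
    rw [he] at hd
    haveI : Nonempty (orbit (stabilizer G a) b) := ⟨⟨b, mem_orbit_self b⟩⟩
    have hle := Nat.le_of_dvd Nat.card_pos hd
    have hc2 : Nat.card {x : Ω | x ≠ a} = Nat.card Ω - 1 := by
      rw [Nat.card_coe_set_eq, show {x : Ω | x ≠ a} = {a}ᶜ from rfl, Set.ncard_compl, Set.ncard_singleton]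
    have := Set.eq_of_subset_of_ncard_le hsub (by
      rw [← Nat.card_coe_set_eq, ← Nat.card_coe_set_eq, hc2]; exact hle) (Set.toFinite _)
    rw [this]; exact hc
  -- D is regular
  have hreg : ∀ a : Ω, ∀ g : G, g ∈ D → g • a = a → g = 1 := by
    intro a g hg hga
    apply FaithfulSMul.eq_of_smul_eq_smul (α := Ω)
    intro b
    rw [one_smul]
    rcases eq_or_ne b a with rfl | hb
    · exact hga
    -- |G_a : G_ab| = n - 1 = |G_a : D_a| and G_ab ≤ D_a
    have hle : stabilizer ↥(stabilizer G a) b ≤ D.subgroupOf (stabilizer G a) := by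
      intro x hx
      rw [Subgroup.mem_subgroupOf]
      by_contra h
      exact hb (eq_of_fixed_of_not_mem h hx x.2)
    have hc2 : Nat.card {x : Ω | x ≠ a} = Nat.card Ω - 1 := by
      rw [Nat.card_coe_set_eq, show {x : Ω | x ≠ a} = {a}ᶜ from rfl, Set.ncard_compl, Set.ncard_singleton]
    have hidx : (stabilizer ↥(stabilizer G a) b).index ≤ (D.subgroupOf (stabilizer G a)).index := by
      rw [Subgroup.index, ← Nat.card_congr (orbitEquivQuotientStabilizer ↥(stabilizer G a) b)]
      rw [show (D.subgroupOf (stabilizer G a)).index = D.index from relIndex_stab a, he, ← hc2]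
      refine Nat.card_mono (Set.toFinite _) ?_
      rintro x ⟨g, rfl⟩ hx
      apply hb
      have hx' : (g : G) • b = (g : G) • a := hx.trans g.2.symm
      exact smul_left_cancel _ hx'
    have heq : stabilizer ↥(stabilizer G a) b = D.subgroupOf (stabilizer G a) := by
      have h1 := Subgroup.relIndex_mul_index hle
      have h2 : 0 < (D.subgroupOf (stabilizer G a)).index :=
        Nat.pos_of_ne_zero Subgroup.index_ne_zero_of_finite
      have h3 : (stabilizer ↥(stabilizer G a) b).relIndex (D.subgroupOf (stabilizer G a)) ≠ 0 := by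
        intro h; rw [h, zero_mul] at h1; exact Subgroup.index_ne_zero_of_finite h1.symm
      refine le_antisymm hle (Subgroup.relIndex_eq_one.1 ?_)
      by_contra h4
      have : 2 ≤ (stabilizer ↥(stabilizer G a) b).relIndex (D.subgroupOf (stabilizer G a)) := by omega
      nlinarith
    have : (⟨g, hga⟩ : ↥(stabilizer G a)) ∈ stabilizer ↥(stabilizer G a) b := by
      rw [heq, Subgroup.mem_subgroupOf]; exact hg
    exact this
  have hbij : Function.Bijective (fun d : ↥D => (d : G) • a) := by
    constructor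
    · intro d e h
      apply Subtype.ext
      have := hreg a ((e : G)⁻¹ * d) (mul_mem (inv_mem e.2) d.2)
        (by rw [mul_smul]; exact inv_smul_eq_iff.2 h)
      exact (inv_mul_eq_one.1 this).symm
    · intro b; exact exists_smul_eq ↥D a b
  have hcard : Nat.card ↥D = Nat.card Ω := Nat.card_congr (Equiv.ofBijective _ hbij)
  -- all nontrivial elements of D are conjugate
  have hord : ∀ d e : ↥D, d ≠ 1 → e ≠ 1 → orderOf (d : G) = orderOf (e : G) := by
    intro d e hd he'
    have hd' : (d : G) • a ≠ a := fun h => hd (Subtype.ext (hreg a _ d.2 h))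
    have he'' : (e : G) • a ≠ a := fun h => he' (Subtype.ext (hreg a _ e.2 h))
    obtain ⟨g, hg⟩ := horb a _ hd' _ he''
    have hga : (g : G)⁻¹ • a = a := inv_smul_eq_iff.2 g.2.symm
    have hmem : (g : G) * d * (g : G)⁻¹ ∈ D := (inferInstance : D.Normal).conj_mem _ d.2 _
    have : (⟨_, hmem⟩ : ↥D) = e := by
      apply hbij.1
      show ((g : G) * d * (g : G)⁻¹) • a = (e : G) • a
      rw [mul_smul, mul_smul, hga]; exact hg
    rw [← this]
    exact (MulEquiv.orderOf_eq (MulAut.conj (g : G)) (d : G)).symm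
  obtain ⟨r, hr, hrd⟩ := Nat.exists_prime_and_dvd (show Nat.card ↥D ≠ 1 by omega)
  haveI := Fact.mk hr
  obtain ⟨d0, hd0⟩ := exists_prime_orderOf_dvd_card' r hrd
  have hP : IsPGroup r ↥D := by
    intro d
    rcases eq_or_ne d 1 with rfl | hd
    · exact ⟨0, by simp⟩
    · refine ⟨1, ?_⟩
      have : orderOf d = r := by
        rw [← hd0, ← Subgroup.orderOf_coe, ← Subgroup.orderOf_coe]
        exact hord d d0 hd (fun h => hr.ne_one (by rw [← hd0, h, orderOf_one]))
      rw [pow_one, ← this, pow_orderOf_eq_one]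
  obtain ⟨k, hk⟩ := hP.exists_card_eq
  rw [← hcard, hk]
  refine IsPrimePow.pow hr.prime.isPrimePow ?_
  intro hk0; rw [hk0, pow_zero] at hk; omega

end aux


/-- Let G act faithfully and transitively on a finite set with n ≥ 2 points and let D be the subgroup generated by the derangements. Then the index of D in G divides n − 1, and if it equals n − 1 then n is a prime power. -/
theorem result {G Ω : Type*} [Group G] [Finite G] [MulAction G Ω] [FaithfulSMul G Ω] [Finite Ω]
    (htrans : MulAction.IsPretransitive G Ω) (hΩ : 2 ≤ Nat.card Ω) :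
    (Subgroup.closure {g : G | ∀ ω : Ω, g • ω ≠ ω}).index ∣ Nat.card Ω - 1 ∧
    ((Subgroup.closure {g : G | ∀ ω : Ω, g • ω ≠ ω}).index = Nat.card Ω - 1 → IsPrimePow (Nat.card Ω)) := by
  haveI := htrans
  obtain ⟨a⟩ : Nonempty Ω := (Nat.card_pos_iff.1 (by omega)).1
  refine ⟨index_dvd htrans a, fun he => prime_pow hΩ a he⟩

end Cfsg.Agent.S3548
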