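import Cfsg.Statements.S3549
import Cfsg.Agent.S3548
import Mathlib.Analysis.Real.Sqrt

set_option autoImplicit false
open Cfsg

namespace Cfsg.Agent.S3549
open MulAction CfsgLib.Derange
open scoped Pointwise

section aux
variable {G Ω : Type*} [Group G] [Finite G] [MulAction G Ω] [Finite Ω]

/-- The index divides the size of every set avoiding `a` that is invariant under the stabiliser. -/
lemma index_dvd_invariant [IsPretransitive G Ω] {a : Ω} : ∀ (N : ℕ) (S : Set Ω), S.ncard ≤ N → a ∉ S →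
    (∀ g ∈ stabilizer G a, ∀ x ∈ S, g • x ∈ S) → (derSubgroup G Ω).index ∣ S.ncard := by
  intro N
  induction N with
  | zero => intro S hS _ _; simp [Nat.le_zero.1 hS]
  | succ N ih =>
    intro S hS ha hinv
    rcases S.eq_empty_or_nonempty with rfl | ⟨b, hb⟩
    · simp
    · set O := orbit ↥(stabilizer G a) b with hO
      have hsub : O ⊆ S := by
        rintro _ ⟨g, rfl⟩; exact hinv g g.2 b hb
      have hOc := Set.ncard_sdiff_add_ncard_of_subset hsub (Set.toFinite _)
      have hpos : 0 < O.ncard := (Set.ncard_pos (Set.toFinite _)).2 ⟨b, mem_orbit_self b⟩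
      rw [← hOc]
      refine Dvd.dvd.add (ih _ (by omega) (fun h => ha h.1) ?_) ?_
      · intro g hg x hx
        refine ⟨hinv g hg x hx.1, fun h => hx.2 ?_⟩
        have hx2 : (⟨g, hg⟩ : ↥(stabilizer G a))⁻¹ • g • x ∈ O := mem_orbit_of_mem_orbit _ h
        rwa [Subgroup.smul_def, InvMemClass.coe_inv, inv_smul_smul] at hx2
      · rw [← Nat.card_coe_set_eq]
        exact Cfsg.Agent.S3548.index_dvd_subdegree (fun h => ha (h ▸ hb))

lemma params (htrans : IsPretransitive G Ω) (himp : ¬ IsPreprimitive G Ω) :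
    ∃ d k m : ℕ, (derSubgroup G Ω).index = d ∧ 2 ≤ k ∧ 2 ≤ m ∧ k * m = Nat.card Ω ∧ d ∣ k - 1 := by
  haveI := htrans
  by_contra hc
  apply himp
  refine ⟨fun {B} hB => ?_⟩
  by_contra hB'
  unfold IsTrivialBlock at hB'
  push Not at hB'
  obtain ⟨hns, hnu⟩ := hB'
  obtain ⟨a, ha⟩ := hns.nonempty
  have hk : 2 ≤ B.ncard := by
    rw [Nat.succ_le_iff]
    exact (Set.one_lt_ncard (Set.toFinite _)).2 hns
  have hm : 2 ≤ (orbit G B).ncard := by
    have h := hB.ncard_block_mul_ncard_orbit_eq ⟨a, ha⟩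
    by_contra hlt
    apply hnu
    apply Set.eq_of_subset_of_ncard_le (Set.subset_univ _) _ (Set.toFinite _)
    rw [Set.ncard_univ, ← h]
    calc B.ncard * (orbit G B).ncard ≤ B.ncard * 1 := Nat.mul_le_mul_left _ (by omega)
      _ = B.ncard := mul_one _
  refine hc ⟨_, B.ncard, (orbit G B).ncard, rfl, hk, hm, hB.ncard_block_mul_ncard_orbit_eq ⟨a, ha⟩, ?_⟩
  rw [← Set.ncard_sdiff_singleton_of_mem ha]
  refine index_dvd_invariant (a := a) _ _ le_rfl (fun h => h.2 rfl) ?_
  intro g hg x hx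
  refine ⟨?_, fun h => hx.2 ?_⟩
  · rw [← hB.smul_eq_of_mem ha (by rw [hg]; exact ha)]
    exact Set.smul_mem_smul_set hx.1
  · exact smul_left_cancel g ((Set.mem_singleton_iff.1 h).trans hg.symm)

end aux


/-- Let G act faithfully, transitively but imprimitively on a finite set with n points, and let D be the subgroup generated by the derangements. Then the index of D in G is at most √n − 1. -/
theorem result {G Ω : Type*} [Group G] [Finite G] [MulAction G Ω] [FaithfulSMul G Ω] [Finite Ω]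
    (htrans : MulAction.IsPretransitive G Ω) (himp : ¬ MulAction.IsPreprimitive G Ω) :
    ((Subgroup.closure {g : G | ∀ ω : Ω, g • ω ≠ ω}).index : ℝ) ≤ Real.sqrt (Nat.card Ω) - 1 := by
  haveI := htrans
  obtain ⟨d, k, m, hd, hk, hm, hkm, hdk⟩ := params htrans himp
  rw [le_sub_iff_add_le, Real.le_sqrt (by positivity) (by positivity)]
  have hd' : d ∣ m - 1 := by
    have h1 := Cfsg.Agent.S3548.index_dvd htrans
      (Classical.choice (Nat.card_pos_iff.1 (show 0 < Nat.card Ω by rw [← hkm]; positivity)).1)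
    change (CfsgLib.Derange.derSubgroup G Ω).index ∣ Nat.card Ω - 1 at h1
    rw [hd, ← hkm] at h1
    obtain ⟨u, rfl⟩ := Nat.exists_eq_add_of_le (show 1 ≤ k by omega)
    obtain ⟨v, rfl⟩ := Nat.exists_eq_add_of_le (show 1 ≤ m by omega)
    rw [Nat.add_sub_cancel_left] at hdk ⊢
    have he : (1 + u) * (1 + v) - 1 = v + u * (1 + v) := by
      rw [show (1 + u) * (1 + v) = 1 + (v + u * (1 + v)) by ring, Nat.add_sub_cancel_left]
    rw [he] at h1
    exact (Nat.dvd_add_iff_left (hdk.mul_right _)).2 h1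
  have hk' : d + 1 ≤ k := by have := Nat.le_of_dvd (by omega) hdk; omega
  have hm' : d + 1 ≤ m := by have := Nat.le_of_dvd (by omega) hd'; omega
  have hfinal : (d + 1) ^ 2 ≤ Nat.card Ω := by
    rw [← hkm, sq]; exact Nat.mul_le_mul hk' hm'
  change (((CfsgLib.Derange.derSubgroup G Ω).index : ℝ) + 1) ^ 2 ≤ _
  rw [hd]
  exact_mod_cast hfinal

end Cfsg.Agent.S3549
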