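import Cfsg.Statements.S3554
import Mathlib.GroupTheory.SpecificGroups.Cyclic
import Mathlib.GroupTheory.Perm.Cycle.Type

set_option autoImplicit false
open Cfsg

namespace Cfsg.Agent.S3554

/-- Let G act faithfully and transitively on a finite set and suppose G has a non-trivial cyclic normal subgroup. Then some element of G of prime order fixes no point. -/
theorem result {G Ω : Type*} [Group G] [Finite G] [MulAction G Ω] [FaithfulSMul G Ω] [Finite Ω]
    (htrans : MulAction.IsPretransitive G Ω) (C : Subgroup G) (hC : C.Normal) (hC1 : C ≠ ⊥) (hcyc : IsCyclic ↥C) :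
    ∃ g : G, (orderOf g).Prime ∧ ∀ ω : Ω, g • ω ≠ ω := by
  haveI := htrans
  have hc : Nat.card ↥C ≠ 1 := fun h => hC1 (Subgroup.card_eq_one.1 h)
  obtain ⟨p, hp, hpd⟩ := Nat.exists_prime_and_dvd hc
  haveI := Fact.mk hp
  obtain ⟨x, hx⟩ := exists_prime_orderOf_dvd_card' p hpd
  refine ⟨(x : G), by rw [Subgroup.orderOf_coe, hx]; exact hp, fun ω hω => ?_⟩
  -- the subgroup generated by `x` is normal
  have hfix : ∀ g : G, (g * (x : G) * g⁻¹) • ω = ω := by
    intro g
    have hy : g * (x : G) * g⁻¹ ∈ C := hC.conj_mem _ x.2 g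
    have hord : orderOf (⟨_, hy⟩ : ↥C) = p := by
      rw [← Subgroup.orderOf_coe, ← hx, ← Subgroup.orderOf_coe x]
      exact MulEquiv.orderOf_eq (MulAut.conj g) (x : G)
    have hz : Subgroup.zpowers (⟨_, hy⟩ : ↥C) = Subgroup.zpowers x := by
      haveI := hcyc
      classical
      haveI := Fintype.ofFinite ↥C
      have hle := IsCyclic.card_pow_eq_one_le (α := ↥C) hp.pos
      have hsub : ∀ w : ↥C, orderOf w = p →
          (Subgroup.zpowers w : Set ↥C) ⊆ ↑(Finset.univ.filter fun z : ↥C => z ^ p = 1) := by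
        intro w hw z hz
        obtain ⟨i, rfl⟩ := Subgroup.mem_zpowers_iff.1 hz
        rw [Finset.coe_filter, Set.mem_ofPred_eq]
        refine ⟨Finset.mem_univ _, ?_⟩
        rw [← zpow_natCast, ← zpow_mul, mul_comm, zpow_mul, zpow_natCast, ← hw, pow_orderOf_eq_one, one_zpow]
      have heq : ∀ w : ↥C, orderOf w = p →
          (Subgroup.zpowers w : Set ↥C) = ↑(Finset.univ.filter fun z : ↥C => z ^ p = 1) := by
        intro w hw
        refine Set.eq_of_subset_of_ncard_le (hsub w hw) ?_ (Set.toFinite _)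
        rw [Set.ncard_coe_finset, ← Nat.card_coe_set_eq]
        have : Nat.card ↥(Subgroup.zpowers w) = p := by rw [Nat.card_zpowers, hw]
        exact hle.trans this.ge
      exact SetLike.coe_injective ((heq _ hord).trans (heq _ hx).symm)
    obtain ⟨i, hi⟩ := Subgroup.mem_zpowers_iff.1 (hz ▸ Subgroup.mem_zpowers (⟨_, hy⟩ : ↥C))
    have h' : (x : G) ^ i = g * (x : G) * g⁻¹ := by simpa using congrArg Subtype.val hi
    rw [← h']
    exact MulAction.mem_stabilizer_iff.1 (zpow_mem (MulAction.mem_stabilizer_iff.2 hω) i)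
  have h1 : (x : G) = 1 := by
    apply FaithfulSMul.eq_of_smul_eq_smul (α := Ω)
    intro b
    obtain ⟨g, rfl⟩ := MulAction.exists_smul_eq G ω b
    rw [one_smul]
    have := hfix g⁻¹
    rw [inv_inv, mul_smul, mul_smul, inv_smul_eq_iff] at this
    exact this
  have : orderOf x = 1 := by rw [← Subgroup.orderOf_coe, h1, orderOf_one]
  exact hp.ne_one (hx ▸ this)

end Cfsg.Agent.S3554
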