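import Cfsg.Statements.S3555
import Mathlib

set_option autoImplicit false
open Cfsg

namespace Cfsg.Agent.S3555
open scoped Pointwise
open MulAction

section aux
variable {G Ω : Type*} [Group G] [MulAction G Ω]

lemma stabilizer_smul_eq_stabilizer_map_conj_aux' (g : G) (a : Ω) :
    stabilizer G (g • a) = MulAut.conj g • stabilizer G a :=
  stabilizer_smul_eq_stabilizer_map_conj g a

lemma kernel_derange [IsPretransitive G Ω] (a : Ω) {x : G}
    (hx : ∀ g : G, x ∉ MulAut.conj g • stabilizer G a) : ∀ ω : Ω, x • ω ≠ ω := by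
  intro ω hω
  obtain ⟨c, rfl⟩ := exists_smul_eq G a ω
  exact hx c (by rw [← stabilizer_smul_eq_stabilizer_map_conj_aux']; exact hω)

lemma derange_commute (hfree : ∀ g : G, g ≠ 1 → ∀ u v : Ω, g • u = u → g • v = v → u = v)
    (hsq : ∀ g : G, (∀ ω : Ω, g • ω ≠ ω) → g * g = 1) {x y : G}
    (hx : ∀ ω : Ω, x • ω ≠ ω) (hy : ∀ ω : Ω, y • ω ≠ ω) : x * y = y * x := by
  have hx2 := hsq x hx
  have hy2 := hsq y hy
  by_cases h1 : x * y = 1
  · have : y = x := by
      calc y = (x * x) * y := by rw [hx2, one_mul]
        _ = x := by rw [mul_assoc, h1, mul_one]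
    rw [this]
  · have hd : ∀ ω : Ω, (x * y) • ω ≠ ω := by
      intro b hb
      apply hx b
      apply hfree _ h1 _ _ _ hb
      rw [mul_smul] at hb
      have : x • b = y • b := by
        calc x • b = x • (x • y • b) := by rw [hb]
          _ = y • b := by rw [smul_smul, hx2, one_smul]
      rw [mul_smul, this, smul_smul y y, hy2, one_smul, this]
    have h2 := hsq _ hd
    calc x * y = (x * y) * ((x * y) * (x * y))⁻¹ := by rw [h2, inv_one, mul_one]
      _ = (x * y)⁻¹ := by group
      _ = y * x := by
        rw [mul_inv_rev, inv_eq_of_mul_eq_one_right hx2, inv_eq_of_mul_eq_one_right hy2]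

open Classical in
/-- If all derangements are involutions, a nonidentity element fixes at most one point. -/
lemma two_fixed [Finite G] [Finite Ω] [FaithfulSMul G Ω] [IsPretransitive G Ω]
    (hinv : ∀ g : G, (∀ ω : Ω, g • ω ≠ ω) → orderOf g = 2) :
    ∀ g : G, g ≠ 1 → ∀ u v : Ω, g • u = u → g • v = v → u = v := by
  haveI := Fintype.ofFinite G
  haveI := Fintype.ofFinite Ω
  intro g0 hg0 u v hu hv
  haveI : Nonempty Ω := ⟨u⟩
  let f : G → ℕ := fun g => (Finset.univ.filter fun x : Ω => g • x = x).card
  let n : ℕ := Fintype.card Ω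
  have hfn : ∀ g, f g ≤ n := fun g => Finset.card_le_univ _
  have hf1 : ∑ g : G, f g = Fintype.card G := by
    have h := sum_card_fixedBy_eq_card_orbits_mul_card_group G Ω
    have hone : Fintype.card (orbitRel.Quotient G Ω) = 1 := by
      rw [Fintype.card_eq_one_iff]
      exact ⟨Quotient.mk'' u, fun q => by
        haveI := (pretransitive_iff_subsingleton_quotient G Ω).1 inferInstance
        exact Subsingleton.elim _ _⟩
    rw [hone, one_mul] at h
    rw [← h]
    exact Finset.sum_congr rfl fun g _ => by
      show _ = Fintype.card {x : Ω // g • x = x}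
      rw [Fintype.card_subtype]
  have hkey : ∑ g : G, f (g * g) ≤ ∑ g : G, f g * f g := by
    have e1 : ∀ g : G, f (g * g) =
        (Finset.univ.filter fun x : Ω × Ω => g • x.1 = x.2 ∧ g • x.2 = x.1).card := by
      intro g
      refine Finset.card_bij' (fun a _ => (a, g • a)) (fun x _ => x.1) ?_ ?_ ?_ ?_
      · intro a ha; simpa [mul_smul] using ha
      · intro x hx
        simp only [Finset.mem_filter, Finset.mem_univ, true_and] at hx ⊢
        rw [mul_smul, hx.1, hx.2]
      · intro a _; rfl
      · intro x hx
        simp only [Finset.mem_filter, Finset.mem_univ, true_and] at hx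
        exact Prod.ext rfl hx.1
    have e2 : ∀ g : G, f g * f g =
        (Finset.univ.filter fun x : Ω × Ω => g • x.1 = x.1 ∧ g • x.2 = x.2).card := by
      intro g
      rw [← Finset.card_product]
      congr 1
      ext x
      simp
    simp only [e1, e2, Finset.card_filter]
    rw [Finset.sum_comm]
    conv_rhs => rw [Finset.sum_comm]
    refine Finset.sum_le_sum fun x _ => ?_
    rw [← Finset.card_filter, ← Finset.card_filter]
    rcases (Finset.univ.filter fun g : G => g • x.1 = x.2 ∧ g • x.2 = x.1).eq_empty_or_nonempty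
      with h | ⟨c, hc⟩
    · rw [h]; simp
    · refine Finset.card_le_card_of_injOn (fun g => c⁻¹ * g) ?_ (mul_right_injective _).injOn
      intro g hg
      simp only [Finset.coe_filter, Finset.mem_univ, true_and, Set.mem_setOf_eq,
        Finset.mem_filter] at hg hc ⊢
      exact ⟨by rw [mul_smul, hg.1, inv_smul_eq_iff, hc.1],
        by rw [mul_smul, hg.2, inv_smul_eq_iff, hc.2]⟩
  have hpt : ∀ g : G, f g * f g + n + f g ≤ f (g * g) + f g * n + f g ∧
      (f g * f g + n + f g = f (g * g) + f g * n + f g → f g = 0 ∨ f g = 1 ∨ f g = n) := by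
    intro g
    by_cases hd : f g = 0
    · have h1 : g * g = 1 := by
        rw [← sq, ← hinv g ?_, pow_orderOf_eq_one]
        intro ω hω
        exact absurd hd (Finset.card_pos.2 ⟨ω, by simpa using hω⟩).ne'
      have : f (g * g) = n := by simp [f, n, h1]
      constructor
      · rw [hd, this]; simp
      · intro _; exact Or.inl hd
    · have hmono : f g ≤ f (g * g) := Finset.card_le_card fun x hx => by
        simp only [Finset.mem_filter, Finset.mem_univ, true_and] at hx ⊢
        rw [mul_smul, hx, hx]
      obtain ⟨i, hi⟩ : ∃ i, f g = i + 1 := ⟨f g - 1, by omega⟩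
      obtain ⟨j, hj⟩ : ∃ j, n = f g + j := ⟨n - f g, by have := hfn g; omega⟩
      constructor
      · rw [hj, hi]; rw [hi] at hmono; nlinarith
      · intro he
        have hij : i * j = 0 := by rw [hj, hi] at he; rw [hi] at hmono; nlinarith
        rcases mul_eq_zero.1 hij with h | h
        · exact Or.inr (Or.inl (by omega))
        · exact Or.inr (Or.inr (by omega))
  have hs : ∑ g : G, (f g * f g + n + f g) = ∑ g : G, (f (g * g) + f g * n + f g) := by
    refine le_antisymm (Finset.sum_le_sum fun g _ => (hpt g).1) ?_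
    simp only [Finset.sum_add_distrib, ← Finset.sum_mul, hf1, Finset.sum_const, Finset.card_univ,
      smul_eq_mul]
    omega
  have hone := (hpt g0).2 ((Finset.sum_eq_sum_iff_of_le fun g _ => (hpt g).1).1 hs g0 (Finset.mem_univ _))
  have hu' : u ∈ Finset.univ.filter fun x : Ω => g0 • x = x := by simpa using hu
  have hv' : v ∈ Finset.univ.filter fun x : Ω => g0 • x = x := by simpa using hv
  rcases hone with h | h | h
  · exact absurd h (Finset.card_pos.2 ⟨u, hu'⟩).ne'
  · exact Finset.card_le_one.1 h.le _ hu' _ hv'
  · exfalso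
    apply hg0
    apply FaithfulSMul.eq_of_smul_eq_smul (α := Ω)
    intro b
    have := Finset.eq_univ_of_card _ h
    have hb : b ∈ Finset.univ.filter fun x : Ω => g0 • x = x := Finset.eq_univ_iff_forall.1 this b
    rw [one_smul]; simpa using hb

end aux


/-- Let G act faithfully and transitively on a finite set and suppose every element of G fixing no point is an involution. Then either G is an elementary abelian 2-group, or G is a Frobenius group whose Frobenius kernel is an elementary abelian 2-group: G has a Frobenius complement H, and the elements lying in no conjugate of H, together with the identity, pairwise commute and square to the identity. -/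
theorem result {G Ω : Type*} [Group G] [Finite G] [MulAction G Ω] [FaithfulSMul G Ω] [Finite Ω]
    (htrans : MulAction.IsPretransitive G Ω) (hinv : ∀ g : G, (∀ ω : Ω, g • ω ≠ ω) → orderOf g = 2) :
    (IsMulCommutative G ∧ ∀ g : G, g ^ 2 = 1) ∨
    (∃ H : Subgroup G, Cfsg.IsFrobeniusComplement H ∧
      (∀ x ∈ Cfsg.frobeniusKernel H, x ^ 2 = 1) ∧
      ∀ x ∈ Cfsg.frobeniusKernel H, ∀ y ∈ Cfsg.frobeniusKernel H, x * y = y * x) := by
  classical
  haveI := htrans
  rcases isEmpty_or_nonempty Ω with hΩ | hΩ
  · haveI : Subsingleton G :=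
      ⟨fun g h => FaithfulSMul.eq_of_smul_eq_smul (α := Ω) fun x => hΩ.elim x⟩
    exact Or.inl ⟨⟨⟨fun x y => Subsingleton.elim _ _⟩⟩, fun g => Subsingleton.elim _ _⟩
  obtain ⟨a⟩ := hΩ
  have hfree := two_fixed hinv
  have hsq : ∀ g : G, (∀ ω : Ω, g • ω ≠ ω) → g * g = 1 := fun g hg => by
    rw [← sq, ← hinv g hg, pow_orderOf_eq_one]
  by_cases hH : MulAction.stabilizer G a = ⊥
  · left
    have hsq' : ∀ g : G, g * g = 1 := by
      intro g
      by_cases hg : g = 1
      · simp [hg]
      · refine hsq g fun ω hω => hg ?_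
        obtain ⟨c, rfl⟩ := MulAction.exists_smul_eq G a ω
        have : c⁻¹ * g * c ∈ MulAction.stabilizer G a := by
          rw [MulAction.mem_stabilizer_iff, mul_smul, mul_smul, hω, inv_smul_smul]
        rw [hH, Subgroup.mem_bot] at this
        calc g = c * (c⁻¹ * g * c) * c⁻¹ := by group
          _ = 1 := by rw [this]; group
    have hinv' : ∀ g : G, g⁻¹ = g := fun g => inv_eq_of_mul_eq_one_right (hsq' g)
    refine ⟨⟨⟨fun x y => ?_⟩⟩, fun g => by rw [sq]; exact hsq' g⟩
    calc x * y = (x * y)⁻¹ := (hinv' _).symm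
      _ = y * x := by rw [mul_inv_rev, hinv', hinv']
  · right
    refine ⟨MulAction.stabilizer G a, ⟨hH, ?_, ?_⟩, ?_, ?_⟩
    · intro h
      apply hH
      rw [eq_bot_iff]
      intro g _
      rw [Subgroup.mem_bot]
      apply FaithfulSMul.eq_of_smul_eq_smul (α := Ω)
      intro b
      obtain ⟨c, rfl⟩ := MulAction.exists_smul_eq G a b
      have hc : c • a = a := MulAction.mem_stabilizer_iff.1 (h ▸ Subgroup.mem_top c)
      have hg : g • a = a := MulAction.mem_stabilizer_iff.1 (h ▸ Subgroup.mem_top g)
      rw [hc, hg, one_smul]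
    · intro g hg
      rw [eq_bot_iff, ← stabilizer_smul_eq_stabilizer_map_conj_aux' g a]
      intro x hx
      rw [Subgroup.mem_bot]
      by_contra hx1
      exact hg (hfree x hx1 _ _ hx.2 hx.1)
    · intro x hx
      rcases hx with rfl | hx
      · exact one_pow 2
      · rw [sq]; exact hsq x (kernel_derange a hx)
    · intro x hx y hy
      rcases hx with rfl | hx
      · simp
      rcases hy with rfl | hy
      · simp
      exact derange_commute hfree hsq (kernel_derange a hx) (kernel_derange a hy)

end Cfsg.Agent.S3555
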