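import Cfsg.Statements.S3556
import Mathlib.GroupTheory.PGroup
import Mathlib.GroupTheory.NoncommCoprod
import Mathlib.GroupTheory.GroupAction.Primitive
import Mathlib.GroupTheory.GroupAction.Quotient
import Mathlib.GroupTheory.Index
import Mathlib.Order.Minimal

set_option autoImplicit false
open Cfsg

namespace Cfsg.Agent.S3556
open MulAction

section aux
variable {G Ω : Type*} [Group G] [MulAction G Ω]

lemma exists_minimal_of [Finite G] (P : Subgroup G → Prop) (h : ∃ M, P M) :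
    ∃ N, P N ∧ ∀ {M}, P M → M ≤ N → N ≤ M := by
  obtain ⟨N, hN⟩ := Set.Finite.exists_minimal (Set.toFinite {M | P M}) h
  exact ⟨N, hN.1, fun hM hle => hN.2 hM hle⟩

lemma trans_of_normal [IsPreprimitive G Ω] [FaithfulSMul G Ω] (N : Subgroup G) [N.Normal] (hN : N ≠ ⊥) :
    IsPretransitive ↥N Ω := by
  apply IsQuasiPreprimitive.isPretransitive_of_normal (G := G) (X := Ω)
  intro h
  apply hN
  rw [eq_bot_iff]
  intro x hx
  rw [Subgroup.mem_bot]
  apply FaithfulSMul.eq_of_smul_eq_smul (α := Ω)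
  intro b
  rw [one_smul]
  exact (Set.eq_univ_iff_forall.1 h b) ⟨x, hx⟩

/-- An element fixing a point and commuting with a transitive subgroup is trivial. -/
lemma fix_eq_one [FaithfulSMul G Ω] (M : Subgroup G) [IsPretransitive ↥M Ω] (x : G) (a : Ω)
    (hx : x • a = a) (hc : ∀ m ∈ M, x * m = m * x) : x = 1 := by
  apply FaithfulSMul.eq_of_smul_eq_smul (α := Ω)
  intro b
  obtain ⟨m, rfl⟩ := exists_smul_eq ↥M a b
  rw [one_smul, Subgroup.smul_def, smul_smul, hc _ m.2, mul_smul, hx]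

/-- A minimal normal `p`-subgroup is elementary abelian. -/
lemma elemAbelian [Finite G] {p : ℕ} (hp : p.Prime) (N : Subgroup G) [N.Normal] (hN : N ≠ ⊥)
    (hmin : ∀ M : Subgroup G, M.Normal → M ≤ N → M = ⊥ ∨ M = N) (hNp : IsPGroup p ↥N) :
    Cfsg.IsElementaryAbelian p N := by
  haveI := Fact.mk hp
  haveI : Nontrivial ↥N := N.nontrivial_iff_ne_bot.2 hN
  haveI := hNp.center_nontrivial
  obtain ⟨z, hz⟩ := exists_ne (1 : ↥(Subgroup.center ↥N))
  have hcn : ((Subgroup.center ↥N).map N.subtype).Normal := by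
    refine ⟨?_⟩
    rintro _ ⟨x, hx, rfl⟩ g
    refine ⟨⟨g * (x : G) * g⁻¹, ‹N.Normal›.conj_mem _ x.2 g⟩, ?_, rfl⟩
    rw [SetLike.mem_coe, Subgroup.mem_center_iff] at hx ⊢
    intro y
    have hy : g⁻¹ * (y : G) * g ∈ N := by
      simpa using ‹N.Normal›.conj_mem _ y.2 g⁻¹
    have := congrArg Subtype.val (hx ⟨_, hy⟩)
    apply Subtype.ext
    simp only [Subgroup.coe_mul] at this ⊢
    calc (y : G) * (g * (x : G) * g⁻¹) = g * (g⁻¹ * (y : G) * g * (x : G)) * g⁻¹ := by group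
      _ = g * ((x : G) * (g⁻¹ * (y : G) * g)) * g⁻¹ := by rw [this]
      _ = g * (x : G) * g⁻¹ * (y : G) := by group
  have hcN : (Subgroup.center ↥N).map N.subtype = N := by
    refine (hmin _ hcn ?_).resolve_left ?_
    · rintro _ ⟨x, _, rfl⟩; exact x.2
    · intro h
      apply hz
      have : ((z : ↥N) : G) ∈ (Subgroup.center ↥N).map N.subtype := ⟨_, z.2, rfl⟩
      rw [h, Subgroup.mem_bot] at this
      exact Subtype.ext (Subtype.ext this)
  have hab : ∀ x ∈ N, ∀ y ∈ N, x * y = y * x := by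
    intro x hx y hy
    obtain ⟨u, hu, rfl⟩ : x ∈ (Subgroup.center ↥N).map N.subtype := hcN.symm ▸ hx
    exact (congrArg Subtype.val (Subgroup.mem_center_iff.1 hu ⟨y, hy⟩)).symm
  refine ⟨⟨⟨fun x y => Subtype.ext (hab _ x.2 _ y.2)⟩⟩, ?_⟩
  let E : Subgroup G :=
    { carrier := {x | x ∈ N ∧ x ^ p = 1}
      one_mem' := ⟨one_mem _, one_pow _⟩
      mul_mem' := fun {x y} hx hy => ⟨mul_mem hx.1 hy.1, by
        rw [(show Commute x y from hab _ hx.1 _ hy.1).mul_pow, hx.2, hy.2, one_mul]⟩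
      inv_mem' := fun {x} hx => ⟨inv_mem hx.1, by rw [inv_pow, hx.2, inv_one]⟩ }
  have hEn : E.Normal := ⟨fun x hx g => ⟨‹N.Normal›.conj_mem _ hx.1 g, by
    rw [conj_pow, hx.2, mul_one, mul_inv_cancel]⟩⟩
  have hE : E = N := by
    refine (hmin E hEn fun x hx => hx.1).resolve_left ?_
    obtain ⟨k, hk⟩ := hNp.exists_card_eq
    have hk0 : k ≠ 0 := by
      intro h; rw [h, pow_zero, Subgroup.card_eq_one] at hk; exact hN hk
    obtain ⟨w, hw⟩ := exists_prime_orderOf_dvd_card' p (G := ↥N) (hk ▸ dvd_pow_self p hk0)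
    intro h
    have hmem : (w : G) ∈ E := ⟨w.2, by rw [← hw, ← Subgroup.orderOf_coe, pow_orderOf_eq_one]⟩
    rw [h, Subgroup.mem_bot] at hmem
    rw [← Subgroup.orderOf_coe, hmem, orderOf_one] at hw
    exact hp.ne_one hw.symm
  intro x hx
  exact (hE.symm ▸ hx : x ∈ E).2

/-- Jordan: a proper subgroup misses a conjugacy class. -/
lemma exists_no_conj {T : Type*} [Group T] [Finite T] (U : Subgroup T) (hU : U ≠ ⊤) :
    ∃ t : T, ∀ s : T, s⁻¹ * t * s ∉ U := by
  by_contra h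
  push Not at h
  classical
  haveI := Fintype.ofFinite T
  haveI := Fintype.ofFinite (T ⧸ U)
  have hsum := sum_card_fixedBy_eq_card_orbits_mul_card_group T (T ⧸ U)
  have hone : Fintype.card (orbitRel.Quotient T (T ⧸ U)) = 1 := by
    rw [Fintype.card_eq_one_iff]
    exact ⟨Quotient.mk'' ((1 : T) : T ⧸ U), fun q => by
      haveI := (pretransitive_iff_subsingleton_quotient T (T ⧸ U)).1 inferInstance
      exact Subsingleton.elim _ _⟩
  rw [hone, one_mul] at hsum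
  have hle : ∀ t ∈ (Finset.univ : Finset T), 1 ≤ Fintype.card (fixedBy (T ⧸ U) t) := by
    intro t _
    obtain ⟨s, hs⟩ := h t
    haveI : Nonempty (fixedBy (T ⧸ U) t) := by
      refine ⟨⟨(s : T ⧸ U), ?_⟩⟩
      show t • (s : T ⧸ U) = s
      rw [MulAction.Quotient.smul_coe, QuotientGroup.eq, smul_eq_mul]
      simpa [mul_assoc] using inv_mem hs
    exact Fintype.card_pos
  have heq := (Finset.sum_eq_sum_iff_of_le hle).1 (by rw [hsum]; simp) 1 (Finset.mem_univ _)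
  have h1 : Fintype.card (fixedBy (T ⧸ U) (1 : T)) = Fintype.card (T ⧸ U) := by
    rw [← Set.toFinset_card]
    simp
  apply hU
  apply Subgroup.index_eq_one.1
  rw [Subgroup.index, Nat.card_eq_fintype_card, ← h1, ← heq]

/-- One factor is a `p`-group if the other projection of the stabiliser is proper. -/
lemma proj_pgroup [Finite G] {p : ℕ}
    (hder : ∀ g : G, (∀ ω : Ω, g • ω ≠ ω) → ∃ k : ℕ, orderOf g = p ^ k)
    (N T C : Subgroup G) [IsPretransitive ↥N Ω] (hcomm : ∀ t ∈ T, ∀ c ∈ C, t * c = c * t)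
    (hdis : ∀ x, x ∈ T → x ∈ C → x = 1) (hN : ∀ n ∈ N, ∃ t ∈ T, ∃ c ∈ C, t * c = n) (a : Ω)
    (hproj : ∃ t ∈ T, ∀ c ∈ C, (t * c) • a ≠ a) : IsPGroup p ↥C := by
  let U : Subgroup ↥T :=
    { carrier := {t | ∃ c ∈ C, ((t : G) * c) • a = a}
      one_mem' := ⟨1, one_mem _, by simp⟩
      mul_mem' := fun {x y} hx hy => by
        obtain ⟨c, hc, hxc⟩ := hx
        obtain ⟨d, hd, hyd⟩ := hy
        refine ⟨c * d, mul_mem hc hd, ?_⟩
        have : ((x * y : ↥T) : G) * (c * d) = ((x : G) * c) * ((y : G) * d) := by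
          rw [Subgroup.coe_mul, mul_assoc, ← mul_assoc (y : G), hcomm _ y.2 _ hc]
          simp only [mul_assoc]
        rw [this, mul_smul, hyd, hxc]
      inv_mem' := fun {x} hx => by
        obtain ⟨c, hc, hxc⟩ := hx
        refine ⟨c⁻¹, inv_mem hc, ?_⟩
        rw [Subgroup.coe_inv, ← mul_inv_rev, ← hcomm _ x.2 _ hc, inv_smul_eq_iff, hxc] }
  have hU : U ≠ ⊤ := by
    intro h
    obtain ⟨t, ht, htc⟩ := hproj
    obtain ⟨c, hc, hca⟩ := (h.symm ▸ Subgroup.mem_top (⟨t, ht⟩ : ↥T) : (⟨t, ht⟩ : ↥T) ∈ U)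
    exact htc c hc hca
  obtain ⟨t, ht⟩ := exists_no_conj U hU
  have hpe : ∀ c ∈ C, ∃ k : ℕ, ((t : G) * c) ^ (p ^ k) = 1 := by
    intro c hc
    obtain ⟨k, hk⟩ := hder ((t : G) * c) fun b hb => by
      obtain ⟨n, rfl⟩ := exists_smul_eq ↥N a b
      obtain ⟨t0, ht0, c0, hc0, hn⟩ := hN n n.2
      apply ht ⟨t0, ht0⟩
      refine ⟨c0⁻¹ * c * c0, mul_mem (mul_mem (inv_mem hc0) hc) hc0, ?_⟩
      rw [Subgroup.smul_def, ← hn, smul_smul, ← inv_smul_eq_iff, smul_smul] at hb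
      refine Eq.trans (congrArg (· • a) ?_) hb
      simp only [Subgroup.coe_mul, Subgroup.coe_inv]
      have e1 : t0⁻¹ * (t : G) * t0 * c0⁻¹ = c0⁻¹ * (t0⁻¹ * (t : G) * t0) :=
        hcomm _ (mul_mem (mul_mem (inv_mem ht0) t.2) ht0) _ (inv_mem hc0)
      calc t0⁻¹ * (t : G) * t0 * (c0⁻¹ * c * c0)
          = (t0⁻¹ * (t : G) * t0 * c0⁻¹) * (c * c0) := by group
        _ = c0⁻¹ * t0⁻¹ * (t : G) * (t0 * c) * c0 := by rw [e1]; group
        _ = c0⁻¹ * t0⁻¹ * (t : G) * (c * t0) * c0 := by rw [hcomm _ ht0 _ hc]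
        _ = (t0 * c0)⁻¹ * ((t : G) * c * (t0 * c0)) := by group
    exact ⟨k, by rw [← hk, pow_orderOf_eq_one]⟩
  rintro ⟨c, hc⟩
  obtain ⟨k, hk⟩ := hpe c hc
  rw [(show Commute (t : G) c from hcomm _ t.2 _ hc).mul_pow] at hk
  have : c ^ (p ^ k) = 1 := hdis _ (by
    rw [eq_inv_of_mul_eq_one_right hk]; exact inv_mem (pow_mem t.2 _)) (pow_mem hc _)
  exact ⟨k, Subtype.ext this⟩

lemma simple_of_derange [Finite G] [FaithfulSMul G Ω] {p : ℕ} (hp : p.Prime)
    (hder : ∀ g : G, (∀ ω : Ω, g • ω ≠ ω) → ∃ k : ℕ, orderOf g = p ^ k)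
    (N : Subgroup G) [hNn : N.Normal] [IsPretransitive ↥N Ω] (hN : N ≠ ⊥)
    (hmin : ∀ M : Subgroup G, M.Normal → M ≤ N → M = ⊥ ∨ M = N)
    (hnonab : ¬ (∀ x ∈ N, ∀ y ∈ N, x * y = y * x)) (a : Ω) : IsSimpleGroup ↥N := by
  haveI := Fact.mk hp
  haveI : Nontrivial ↥N := N.nontrivial_iff_ne_bot.2 hN
  let P : Subgroup G → Prop :=
    fun M => M ≤ N ∧ M ≠ ⊥ ∧ ∀ n ∈ N, ∀ x ∈ M, n * x * n⁻¹ ∈ M
  obtain ⟨T, ⟨hTN, hTb, hTn⟩, hTmin⟩ := exists_minimal_of P
    ⟨N, le_rfl, hN, fun n hn x hx => mul_mem (mul_mem hn hx) (inv_mem hn)⟩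
  have hTmin' : ∀ M : Subgroup G, M ≤ T → (∀ n ∈ N, ∀ x ∈ M, n * x * n⁻¹ ∈ M) → M = ⊥ ∨ M = T := by
    intro M hM hMn
    rcases eq_or_ne M ⊥ with h | h
    · exact Or.inl h
    · exact Or.inr (le_antisymm hM (hTmin ⟨hM.trans hTN, h, hMn⟩ hM))
  by_cases hTN' : T = N
  · refine ⟨fun K hK => ?_⟩
    have hmap := hTmin' (K.map N.subtype) (by rintro _ ⟨x, _, rfl⟩; exact hTN' ▸ x.2) (by
      rintro n hn _ ⟨x, hx, rfl⟩
      exact ⟨⟨n, hn⟩ * x * ⟨n, hn⟩⁻¹, hK.conj_mem x hx ⟨n, hn⟩, rfl⟩)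
    rcases hmap with h | h
    · exact Or.inl ((Subgroup.map_eq_bot_iff_of_injective _ N.subtype_injective).1 h)
    · refine Or.inr ((Subgroup.eq_top_iff' _).2 fun x => ?_)
      obtain ⟨y, hy, hyx⟩ : (x : G) ∈ K.map N.subtype := h.symm ▸ (hTN'.symm ▸ x.2)
      rwa [← Subtype.ext (show (y : G) = (x : G) from hyx)]
  exfalso
  let C : Subgroup G := N ⊓ Subgroup.centralizer (T : Set G)
  have hCn : ∀ n ∈ N, ∀ x ∈ C, n * x * n⁻¹ ∈ C := by
    intro n hn x hx
    refine ⟨N.mul_mem (N.mul_mem hn hx.1) (N.inv_mem hn), Subgroup.mem_centralizer_iff.2 fun t ht => ?_⟩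
    have h1 := Subgroup.mem_centralizer_iff.1 hx.2 (n⁻¹ * t * n)
      (by simpa using hTn n⁻¹ (inv_mem hn) t ht)
    calc t * (n * x * n⁻¹) = n * ((n⁻¹ * t * n) * x) * n⁻¹ := by group
      _ = n * (x * (n⁻¹ * t * n)) * n⁻¹ := by rw [h1]
      _ = n * x * n⁻¹ * t := by group
  have hcomm : ∀ t ∈ T, ∀ c ∈ C, t * c = c * t := fun t ht c hc =>
    Subgroup.mem_centralizer_iff.1 hc.2 t ht
  have hconj : ∀ g : G, (∀ t ∈ T, g * t * g⁻¹ ∈ T) ∨ (∀ t ∈ T, g * t * g⁻¹ ∈ C) := by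
    intro g
    have hSn : ∀ n ∈ N, ∀ x ∈ T.map (MulAut.conj g).toMonoidHom,
        n * x * n⁻¹ ∈ T.map (MulAut.conj g).toMonoidHom := by
      rintro n hn _ ⟨t, ht, rfl⟩
      refine ⟨(g⁻¹ * n * g) * t * (g⁻¹ * n * g)⁻¹,
        hTn _ (by simpa using hNn.conj_mem n hn g⁻¹) t ht, ?_⟩
      simp [MulAut.conj_apply, mul_assoc]
    rcases hTmin' (T ⊓ T.map (MulAut.conj g).toMonoidHom) inf_le_left
      (fun n hn x hx => ⟨hTn n hn x hx.1, hSn n hn x hx.2⟩) with h | h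
    · right
      intro t ht
      refine ⟨hNn.conj_mem t (hTN ht) g, Subgroup.mem_centralizer_iff.2 fun u hu => ?_⟩
      have hs : g * t * g⁻¹ ∈ T.map (MulAut.conj g).toMonoidHom := ⟨t, ht, rfl⟩
      have hsN : g * t * g⁻¹ ∈ N := hNn.conj_mem t (hTN ht) g
      have : u * (g * t * g⁻¹) * u⁻¹ * (g * t * g⁻¹)⁻¹ ∈ T ⊓ T.map (MulAut.conj g).toMonoidHom := by
        constructor
        · rw [mul_assoc u, mul_assoc u]
          exact mul_mem hu (hTn _ hsN _ (inv_mem hu))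
        · exact Subgroup.mul_mem _ (hSn u (hTN hu) _ hs) (Subgroup.inv_mem _ hs)
      rw [h, Subgroup.mem_bot, mul_inv_eq_one, mul_inv_eq_iff_eq_mul] at this
      exact this
    · left
      intro t ht
      have hcard : Nat.card ↥(T.map (MulAut.conj g).toMonoidHom) = Nat.card ↥T :=
        (Nat.card_congr (T.equivMapOfInjective _ (MulAut.conj g).injective).toEquiv).symm
      have hle : T ≤ T.map (MulAut.conj g).toMonoidHom := inf_eq_left.1 h
      have heq := Subgroup.eq_of_le_of_card_ge hle hcard.le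
      exact heq.symm ▸ (⟨t, ht, rfl⟩ : g * t * g⁻¹ ∈ T.map (MulAut.conj g).toMonoidHom)
  have hnc : Subgroup.normalClosure (T : Set G) = N := by
    refine (hmin _ Subgroup.normalClosure_normal (Subgroup.normalClosure_le_normal hTN)).resolve_left ?_
    intro h; apply hTb; rw [eq_bot_iff, ← h]; exact Subgroup.le_normalClosure
  have hTC : ∀ n ∈ N, ∃ t ∈ T, ∃ c ∈ C, t * c = n := by
    let f : ↥T × ↥C →* G := MonoidHom.noncommCoprod T.subtype C.subtype
      (fun t c => hcomm _ t.2 _ c.2)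
    have hle : N ≤ f.range := by
      rw [← hnc, Subgroup.normalClosure, Subgroup.closure_le]
      intro x hx
      obtain ⟨t, ht, htx⟩ := Group.mem_conjugatesOfSet_iff.1 hx
      obtain ⟨g, rfl⟩ := isConj_iff.1 htx
      rcases hconj g with h | h
      · exact ⟨(⟨_, h t ht⟩, 1), by
          show (g * t * g⁻¹) * ((1 : ↥C) : G) = g * t * g⁻¹
          simp⟩
      · exact ⟨(1, ⟨_, h t ht⟩), by
          show ((1 : ↥T) : G) * (g * t * g⁻¹) = g * t * g⁻¹
          simp⟩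
    intro n hn
    obtain ⟨⟨t, c⟩, h⟩ := hle hn
    exact ⟨t, t.2, c, c.2, h⟩
  have hTab : ¬ (∀ x ∈ T, ∀ y ∈ T, x * y = y * x) := by
    intro hab
    have hTc : T ≤ C := fun x hx => ⟨hTN hx, Subgroup.mem_centralizer_iff.2 fun y hy => hab y hy x hx⟩
    let Z : Subgroup G := N ⊓ Subgroup.centralizer (N : Set G)
    have hZn : Z.Normal := ⟨fun z hz g => ⟨hNn.conj_mem z hz.1 g,
      Subgroup.mem_centralizer_iff.2 fun n hn => by
        have h1 := Subgroup.mem_centralizer_iff.1 hz.2 (g⁻¹ * n * g)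
          (by simpa using hNn.conj_mem n hn g⁻¹)
        calc n * (g * z * g⁻¹) = g * ((g⁻¹ * n * g) * z) * g⁻¹ := by group
          _ = g * (z * (g⁻¹ * n * g)) * g⁻¹ := by rw [h1]
          _ = g * z * g⁻¹ * n := by group⟩⟩
    have hTZ : T ≤ Z := fun x hx => ⟨hTN hx, Subgroup.mem_centralizer_iff.2 fun n hn => by
      obtain ⟨t, ht, c, hc, rfl⟩ := hTC n hn
      rw [mul_assoc, ← hcomm x hx c hc, ← mul_assoc, hab t ht x hx, mul_assoc]⟩
    rcases hmin Z hZn inf_le_left with h | h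
    · exact hTb (le_bot_iff.1 (h ▸ hTZ))
    · exact hnonab fun x hx y hy => (Subgroup.mem_centralizer_iff.1 (h.symm ▸ hy : y ∈ Z).2 x hx)
  have hdis : ∀ x, x ∈ T → x ∈ C → x = 1 := by
    rcases hTmin' (T ⊓ C) inf_le_left (fun n hn x hx => ⟨hTn n hn x hx.1, hCn n hn x hx.2⟩) with h | h
    · intro x hx hx'
      exact Subgroup.mem_bot.1 (h ▸ (⟨hx, hx'⟩ : x ∈ T ⊓ C))
    · exact absurd (fun x hx y hy => hcomm x hx y (inf_eq_left.1 h hy)) hTab
  have hTp : ¬ IsPGroup p ↥T := by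
    intro hTp
    haveI : Nontrivial ↥T := T.nontrivial_iff_ne_bot.2 hTb
    haveI := hTp.center_nontrivial
    obtain ⟨z, hz⟩ := exists_ne (1 : ↥(Subgroup.center ↥T))
    apply hz
    refine Subtype.ext (Subtype.ext (hdis _ (z : ↥T).2 ⟨hTN (z : ↥T).2,
      Subgroup.mem_centralizer_iff.2 fun t ht => ?_⟩))
    exact congrArg Subtype.val (Subgroup.mem_center_iff.1 z.2 ⟨t, ht⟩)
  apply hTp
  by_cases hp1 : ∃ t ∈ T, ∀ c ∈ C, (t * c) • a ≠ a
  · have hC := proj_pgroup hder N T C hcomm hdis hTC a hp1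
    -- some conjugate of `T` lies in `C`
    obtain ⟨g, hg⟩ : ∃ g : G, ∀ t ∈ T, g * t * g⁻¹ ∈ C := by
      by_contra hne
      apply hTN'
      have hTnormal : T.Normal := ⟨fun t ht g => ((hconj g).resolve_right fun h => hne ⟨g, h⟩) t ht⟩
      exact (hmin T hTnormal hTN).resolve_left hTb
    let φ : ↥T →* ↥C :=
      { toFun := fun t => ⟨g * t * g⁻¹, hg t t.2⟩
        map_one' := Subtype.ext (by simp)
        map_mul' := fun s t => Subtype.ext (by simp [mul_assoc]) }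
    exact hC.of_injective φ fun s t h => Subtype.ext (by
      simpa [φ] using congrArg Subtype.val h)
  by_cases hp2 : ∃ c ∈ C, ∀ t ∈ T, (c * t) • a ≠ a
  · exact proj_pgroup hder N C T (fun c hc t ht => (hcomm t ht c hc).symm)
      (fun x h1 h2 => hdis x h2 h1) (fun n hn => by
        obtain ⟨t, ht, c, hc, rfl⟩ := hTC n hn
        exact ⟨c, hc, t, ht, (hcomm t ht c hc).symm⟩) a hp2
  push Not at hp1 hp2
  -- both projections are onto
  have hmov : ∀ x ∈ T, x • a = a → x = 1 := by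
    intro x hx hxa
    apply FaithfulSMul.eq_of_smul_eq_smul (α := Ω)
    intro b
    obtain ⟨n, rfl⟩ := exists_smul_eq ↥N a b
    obtain ⟨t, ht, c, hc, hn⟩ := hTC n n.2
    obtain ⟨d, hd, hda⟩ := hp1 t ht
    rw [one_smul, Subgroup.smul_def, ← hn]
    have hxd : (t * d)⁻¹ * x * (t * d) = t⁻¹ * x * t := by
      calc (t * d)⁻¹ * x * (t * d) = d⁻¹ * ((t⁻¹ * x * t) * d) := by group
        _ = d⁻¹ * (d * (t⁻¹ * x * t)) := by
          rw [hcomm _ (mul_mem (mul_mem (inv_mem ht) hx) ht) d hd]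
        _ = t⁻¹ * x * t := by group
    have hfix : (t⁻¹ * x * t) • a = a := by
      rw [← hxd, mul_smul, mul_smul, hda, hxa, inv_smul_eq_iff, hda]
    have hxc : (t * c)⁻¹ * x * (t * c) = t⁻¹ * x * t := by
      calc (t * c)⁻¹ * x * (t * c) = c⁻¹ * ((t⁻¹ * x * t) * c) := by group
        _ = c⁻¹ * (c * (t⁻¹ * x * t)) := by
          rw [hcomm _ (mul_mem (mul_mem (inv_mem ht) hx) ht) c hc]
        _ = t⁻¹ * x * t := by group
    have : ((t * c)⁻¹ * x * (t * c)) • a = a := by rw [hxc, hfix]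
    rwa [mul_smul, mul_smul, inv_smul_eq_iff] at this
  rintro ⟨x, hx⟩
  by_cases hx1 : x = 1
  · exact ⟨0, Subtype.ext (by simp [hx1])⟩
  obtain ⟨k, hk⟩ := hder x fun b hb => by
    obtain ⟨n, rfl⟩ := exists_smul_eq ↥N a b
    obtain ⟨t, ht, c, hc, hn⟩ := hTC n n.2
    apply hx1
    have hy : (n : G)⁻¹ * x * n ∈ T := by simpa using hTn _ (inv_mem n.2) x hx
    have h1 := hmov _ hy (by rw [mul_smul, mul_smul]; exact inv_smul_eq_iff.2 hb)
    calc x = (n : G) * ((n : G)⁻¹ * x * n) * (n : G)⁻¹ := by group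
      _ = 1 := by rw [h1]; group
  exact ⟨k, Subtype.ext (by rw [Subgroup.coe_pow, ← hk]; exact pow_orderOf_eq_one x)⟩

end aux


/-- Let G act faithfully and primitively on a finite set with at least two points, and suppose that for some fixed prime p every element of G fixing no point has order a power of p. Then G is of affine type (it has a regular normal subgroup that is an elementary abelian r-group for some prime r) or almost simple (it has a non-abelian simple normal subgroup with trivial centralizer). -/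
theorem result {G Ω : Type*} [Group G] [Finite G] [MulAction G Ω] [FaithfulSMul G Ω] [Finite Ω]
    (hprim : MulAction.IsPreprimitive G Ω) (hΩ : 2 ≤ Nat.card Ω) (p : ℕ) (hp : p.Prime)
    (hder : ∀ g : G, (∀ ω : Ω, g • ω ≠ ω) → ∃ k : ℕ, orderOf g = p ^ k) :
    (∃ (N : Subgroup G) (r : ℕ), r.Prime ∧ N.Normal ∧ Cfsg.IsElementaryAbelian r N ∧
      MulAction.IsPretransitive N Ω ∧ ∀ a : Ω, MulAction.stabilizer N a = ⊥) ∨
    (∃ T : Subgroup G, T.Normal ∧ IsSimpleGroup ↥T ∧ ¬ IsMulCommutative ↥T ∧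
      Subgroup.centralizer (T : Set G) = ⊥) := by
  haveI := hprim
  haveI : Nontrivial Ω := (Finite.one_lt_card_iff_nontrivial).1 hΩ
  haveI : Nontrivial G := by
    obtain ⟨a, b, hab⟩ := exists_pair_ne Ω
    obtain ⟨g, hg⟩ := exists_smul_eq G a b
    exact ⟨⟨g, 1, fun h => hab (by rw [← hg, h, one_smul])⟩⟩
  obtain ⟨N, ⟨hNn, hNbot⟩, hmin⟩ := exists_minimal_of (fun M : Subgroup G => M.Normal ∧ M ≠ ⊥)
    ⟨⊤, inferInstance, top_ne_bot⟩
  haveI := hNn
  have hNmin : ∀ M : Subgroup G, M.Normal → M ≤ N → M = ⊥ ∨ M = N := fun M hM hle => by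
    rcases eq_or_ne M ⊥ with h | h
    · exact Or.inl h
    · exact Or.inr (le_antisymm hle (hmin ⟨hM, h⟩ hle))
  haveI hNt : IsPretransitive ↥N Ω := trans_of_normal (G := G) N hNbot
  by_cases hreg : ∀ a : Ω, stabilizer ↥N a = ⊥
  · left
    have hNp : IsPGroup p ↥N := by
      intro x
      rcases eq_or_ne x 1 with rfl | hx
      · exact ⟨0, one_pow _⟩
      · obtain ⟨k, hk⟩ := hder (x : G) (fun ω hω => hx (by
          have : x ∈ stabilizer ↥N ω := hω
          rw [hreg ω, Subgroup.mem_bot] at this; exact this))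
        exact ⟨k, by rw [← hk, Subgroup.orderOf_coe, pow_orderOf_eq_one]⟩
    exact ⟨N, p, hp, hNn, elemAbelian hp N hNbot hNmin hNp, hNt, hreg⟩
  · right
    push Not at hreg
    obtain ⟨a, ha⟩ := hreg
    have hnonab : ¬ (∀ x ∈ N, ∀ y ∈ N, x * y = y * x) := by
      intro hab
      apply ha
      rw [eq_bot_iff]
      intro x hx
      rw [Subgroup.mem_bot]
      apply Subtype.ext
      exact fix_eq_one N (x : G) a hx (fun n hn => hab _ x.2 _ hn)
    have hcent : Subgroup.centralizer (N : Set G) = ⊥ := by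
      by_contra hC
      haveI := trans_of_normal (G := G) (Ω := Ω) (Subgroup.centralizer (N : Set G)) hC
      apply ha
      rw [eq_bot_iff]
      intro x hx
      rw [Subgroup.mem_bot]
      apply Subtype.ext
      exact fix_eq_one (Subgroup.centralizer (N : Set G)) (x : G) a hx
        (fun n hn => Subgroup.mem_centralizer_iff.1 hn _ x.2)
    have hnotp : ¬ IsPGroup p ↥N := by
      intro h
      obtain ⟨hab, -⟩ := elemAbelian hp N hNbot hNmin h
      exact hnonab fun x hx y hy => congrArg Subtype.val (hab.is_comm.comm ⟨x, hx⟩ ⟨y, hy⟩)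
    refine ⟨N, hNn, ?_, ?_, hcent⟩
    · exact simple_of_derange hp hder N hNbot hNmin hnonab a
    · intro h
      exact hnonab fun x hx y hy => congrArg Subtype.val (h.is_comm.comm ⟨x, hx⟩ ⟨y, hy⟩)

end Cfsg.Agent.S3556
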