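import Cfsg.Statements.S3557
import Mathlib.GroupTheory.Sylow
import Mathlib.GroupTheory.IndexNormal
import Mathlib.GroupTheory.GroupAction.Quotient
import Mathlib.GroupTheory.Perm.Basic
import Mathlib.GroupTheory.PGroup

set_option autoImplicit false
open Cfsg

namespace Cfsg.Agent.S3557
open MulAction

section aux
variable {G Ω : Type*} [Group G] [Finite G] [MulAction G Ω] [Finite Ω]

/-- The `p`-part of the degree divides the size of every orbit of a Sylow `p`-subgroup. -/
lemma pow_dvd_orbit [IsPretransitive G Ω] {p : ℕ} [Fact p.Prime] (P : Sylow p G) {e : ℕ}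
    (he : p ^ e ∣ Nat.card Ω) (a : Ω) : p ^ e ∣ Nat.card (orbit ↥(P : Subgroup G) a) := by
  have hp : p.Prime := Fact.out
  rw [Nat.card_congr (orbitEquivQuotientStabilizer ↥(P : Subgroup G) a)]
  set H := stabilizer ↥(P : Subgroup G) a
  have h1 : H.index * Nat.card ↥H = Nat.card ↥(P : Subgroup G) := Subgroup.index_mul_card H
  have h2 : Nat.card ↥H ∣ Nat.card ↥(stabilizer G a) := by
    have hle : H.map (P : Subgroup G).subtype ≤ stabilizer G a := by
      rintro _ ⟨x, hx, rfl⟩; exact hx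
    have := Subgroup.card_dvd_of_le hle
    rwa [Subgroup.card_map_of_injective (P : Subgroup G).subtype_injective] at this
  have h3 : Nat.card Ω * Nat.card ↥(stabilizer G a) = Nat.card G := by
    rw [← index_stabilizer_of_transitive G a]; exact Subgroup.index_mul_card _
  have h4 : ∀ k, p ^ k ∣ Nat.card G → p ^ k ∣ Nat.card ↥(P : Subgroup G) := fun k hk =>
    P.pow_dvd_card_of_pow_dvd_card hk
  obtain ⟨j, hj⟩ := P.2.exists_card_eq
  have hHp : IsPGroup p ↥H := P.2.to_subgroup H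
  obtain ⟨i, hi⟩ := hHp.exists_card_eq
  have h5 : p ^ (e + i) ∣ Nat.card G := by
    rw [pow_add, ← h3, ← hi]; exact Nat.mul_dvd_mul he h2
  have h6 := h4 _ h5
  rw [← h1, hi, pow_add] at h6
  exact Nat.dvd_of_mul_dvd_mul_right (pow_pos hp.pos i) h6

lemma derange_of {p : ℕ} (hp : p.Prime) {g : G} (hg : g ^ p = 1) (hd : ∀ ω : Ω, g • ω ≠ ω)
    (a : Ω) : ∃ g : G, (orderOf g).Prime ∧ ∀ ω : Ω, g • ω ≠ ω := by
  refine ⟨g, ?_, hd⟩
  rcases (Nat.dvd_prime hp).1 (orderOf_dvd_of_pow_eq_one hg) with h | h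
  · exact absurd (by rw [orderOf_eq_one_iff.1 h, one_smul] : g • a = a) (hd a)
  · rw [h]; exact hp

variable (p : ℕ) [Fact p.Prime]

lemma exists_central_lift {P : Type*} [Group P] [Finite P] [MulAction P Ω] (hP : IsPGroup p P)
    (K : Subgroup P) [K.Normal] (b : Ω) (hb : ∃ k ∈ K, k • b ≠ b) :
    ∃ g ∈ K, g • b ≠ b ∧
      (∀ h : P, ∀ y ∈ orbit P b, g • h • y = h • g • y) ∧ (∀ y ∈ orbit P b, (g ^ p) • y = y) := by
  have hp : p.Prime := Fact.out
  let φ : P →* Equiv.Perm (orbit P b) := MulAction.toPermHom P (orbit P b)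
  have hR : IsPGroup p ↥φ.range := hP.of_surjective φ.rangeRestrict φ.rangeRestrict_surjective
  let L : Subgroup ↥φ.range := K.map φ.rangeRestrict
  haveI hLn : L.Normal := Subgroup.Normal.map inferInstance _ φ.rangeRestrict_surjective
  have hLb : L ≠ ⊥ := by
    obtain ⟨k, hk, hkb⟩ := hb
    intro h
    have : φ.rangeRestrict k ∈ L := ⟨k, hk, rfl⟩
    rw [h, Subgroup.mem_bot] at this
    apply hkb
    have h1 : φ k = 1 := congrArg Subtype.val this
    exact congrArg Subtype.val (Equiv.ext_iff.1 h1 ⟨b, mem_orbit_self b⟩)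
  have hLp : IsPGroup p ↥L := hR.to_subgroup L
  obtain ⟨n, hn⟩ := hLp.exists_card_eq
  have hn0 : n ≠ 0 := by
    intro h; rw [h, pow_zero, Subgroup.card_eq_one] at hn; exact hLb hn
  letI : MulAction ↥φ.range ↥L := MulAction.compHom ↥L (MulAut.conjNormal (H := L))
  obtain ⟨z, hz, hz1⟩ := hR.exists_fixed_point_of_prime_dvd_card_of_fixed_point ↥L
    (hn ▸ dvd_pow_self p hn0) (a := 1) (fun x => map_one (MulAut.conjNormal (H := L) x))
  have hzc : ∀ x : ↥φ.range, x * (z : ↥φ.range) = (z : ↥φ.range) * x := by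
    intro x
    have h := congrArg Subtype.val (show MulAut.conjNormal (H := L) x z = z from hz x)
    rw [MulAut.conjNormal_apply] at h
    exact mul_inv_eq_iff_eq_mul.1 h
  obtain ⟨k, hk⟩ := hLp z
  -- an element of order `p` among the powers of `z`
  obtain ⟨i, hi⟩ : ∃ i, orderOf ((z : ↥φ.range) ^ i) = p := by
    have hord : orderOf z ∣ p ^ k := orderOf_dvd_of_pow_eq_one hk
    obtain ⟨j, -, hj⟩ := (Nat.dvd_prime_pow hp).1 hord
    have hj0 : j ≠ 0 := by
      intro h; rw [h, pow_zero, orderOf_eq_one_iff] at hj; exact hz1 hj.symm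
    refine ⟨p ^ (j - 1), ?_⟩
    rw [orderOf_pow' _ (pow_ne_zero _ hp.ne_zero), Subgroup.orderOf_coe, hj]
    rw [Nat.gcd_eq_right (pow_dvd_pow p (by omega)), Nat.pow_div (by omega) hp.pos]
    rw [show j - (j - 1) = 1 by omega, pow_one]
  obtain ⟨g, hg, hgz⟩ : ((z : ↥φ.range) ^ i) ∈ L := pow_mem z.2 i
  have hgc : ∀ h : P, φ g * φ h = φ h * φ g := by
    intro h
    have := congrArg Subtype.val ((show Commute (φ.rangeRestrict h) (z : ↥φ.range) from hzc _).pow_right i).eq
    rw [← hgz] at this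
    exact this.symm
  have happ : ∀ (h : P) (y : orbit P b), ((φ h y : orbit P b) : Ω) = h • (y : Ω) := fun h y => rfl
  refine ⟨g, hg, ?_, ?_, ?_⟩
  · intro hgb
    have h1 : φ g = 1 := by
      ext ⟨y, hy⟩
      obtain ⟨h, rfl⟩ := hy
      have := congrArg Subtype.val (Equiv.ext_iff.1 (hgc h) ⟨b, mem_orbit_self b⟩)
      rw [Equiv.Perm.mul_apply, Equiv.Perm.mul_apply, happ, happ, happ, happ] at this
      show g • h • b = h • b
      rw [this, hgb]
    have : (z : ↥φ.range) ^ i = 1 := by rw [← hgz]; exact Subtype.ext h1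
    rw [this, orderOf_one] at hi
    exact hp.ne_one hi.symm
  · intro h y hy
    have := congrArg Subtype.val (Equiv.ext_iff.1 (hgc h) ⟨y, hy⟩)
    rwa [Equiv.Perm.mul_apply, Equiv.Perm.mul_apply, happ, happ, happ, happ] at this
  · intro y hy
    have h1 : φ (g ^ p) = 1 := by
      have : φ.rangeRestrict (g ^ p) = 1 := by rw [map_pow, hgz, ← hi, pow_orderOf_eq_one]
      exact congrArg Subtype.val this
    exact congrArg Subtype.val (Equiv.ext_iff.1 h1 ⟨y, hy⟩)

open scoped Classical in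
lemma glue [FaithfulSMul G Ω]
    (hcl : ∀ σ : Equiv.Perm Ω, (∀ a b : Ω, ∃ g : G, σ a = g • a ∧ σ b = g • b) →
      ∃ g : G, ∀ a : Ω, σ a = g • a)
    (P : Subgroup G) (a b : Ω) (hcov : ∀ x : Ω, x ∈ orbit P a ∨ x ∈ orbit P b)
    (hdis : ∀ x : Ω, ¬ (x ∈ orbit P a ∧ x ∈ orbit P b))
    (z g0 : P) (hza : ∀ h : P, ∀ x ∈ orbit P a, z • h • x = h • z • x) (hza' : z • a ≠ a)
    (hzp : ∀ x ∈ orbit P a, (z ^ p) • x = x)
    (hgb : ∀ h : P, ∀ x ∈ orbit P b, g0 • h • x = h • g0 • x) (hgb' : g0 • b ≠ b)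
    (hgp : ∀ x ∈ orbit P b, (g0 ^ p) • x = x)
    (hcross : ∀ x ∈ orbit P a, ∀ y ∈ orbit P b, ∃ g : P, g • x = z • x ∧ g • y = g0 • y) :
    ∃ g : G, (orderOf g).Prime ∧ ∀ ω : Ω, g • ω ≠ ω := by
  let f : Ω → Ω := fun x => if x ∈ orbit P a then z • x else g0 • x
  have hmemA : ∀ (h : P) (x : Ω), h • x ∈ orbit P a ↔ x ∈ orbit P a := fun h x => by
    constructor
    · intro hx; simpa using mem_orbit_of_mem_orbit h⁻¹ hx
    · exact mem_orbit_of_mem_orbit h
  have hfA : ∀ x, x ∈ orbit P a → f x = z • x := fun x hx => if_pos hx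
  have hfB : ∀ x, x ∈ orbit P b → f x = g0 • x := fun x hx => if_neg fun h => hdis x ⟨h, hx⟩
  have hfinj : Function.Injective f := by
    intro x y hxy
    by_cases hx : x ∈ orbit P a <;> by_cases hy : y ∈ orbit P a <;>
      simp only [f, hx, hy, if_true, if_false] at hxy
    · exact smul_left_cancel z hxy
    · exact absurd ((hmemA g0 y).1 (hxy ▸ (hmemA z x).2 hx)) hy
    · exact absurd ((hmemA g0 x).1 (hxy.symm ▸ (hmemA z y).2 hy)) hx
    · exact smul_left_cancel g0 hxy
  let σ : Equiv.Perm Ω := Equiv.ofBijective f (Finite.injective_iff_bijective.1 hfinj)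
  obtain ⟨g, hg⟩ := hcl σ (fun x y => by
    rcases hcov x with hx | hx <;> rcases hcov y with hy | hy
    · exact ⟨(z : G), hfA x hx, hfA y hy⟩
    · obtain ⟨h, h1, h2⟩ := hcross x hx y hy
      exact ⟨(h : G), (hfA x hx).trans h1.symm, (hfB y hy).trans h2.symm⟩
    · obtain ⟨h, h1, h2⟩ := hcross y hy x hx
      exact ⟨(h : G), (hfB x hx).trans h2.symm, (hfA y hy).trans h1.symm⟩
    · exact ⟨(g0 : G), hfB x hx, hfB y hy⟩)
  have hit : ∀ (n : ℕ) (x : Ω), (x ∈ orbit P a → (g ^ n) • x = (z ^ n) • x) ∧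
      (x ∈ orbit P b → (g ^ n) • x = (g0 ^ n) • x) := by
    intro n
    induction n with
    | zero => intro x; simp
    | succ n ih =>
      intro x
      constructor
      · intro hx
        rw [pow_succ, mul_smul, ← hg x, show σ x = z • x from hfA x hx,
          (ih _).1 (mem_orbit_of_mem_orbit z hx), pow_succ, mul_smul]
      · intro hx
        rw [pow_succ, mul_smul, ← hg x, show σ x = g0 • x from hfB x hx,
          (ih _).2 (mem_orbit_of_mem_orbit g0 hx), pow_succ, mul_smul]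
  refine derange_of (p := p) Fact.out (g := g) ?_ (fun ω hω => ?_) a
  · apply FaithfulSMul.eq_of_smul_eq_smul (α := Ω)
    intro x
    rw [one_smul]
    rcases hcov x with hx | hx
    · rw [(hit p x).1 hx, hzp x hx]
    · rw [(hit p x).2 hx, hgp x hx]
  · rcases hcov ω with hx | hx
    · rw [← hg, show σ ω = z • ω from hfA ω hx] at hω
      obtain ⟨h, rfl⟩ := hx
      exact hza' (smul_left_cancel h ((hza h a (mem_orbit_self a)).symm.trans hω))
    · rw [← hg, show σ ω = g0 • ω from hfB ω hx] at hω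
      obtain ⟨h, rfl⟩ := hx
      exact hgb' (smul_left_cancel h ((hgb h b (mem_orbit_self b)).symm.trans hω))

lemma main [FaithfulSMul G Ω] [IsPretransitive G Ω] (hcard : Nat.card Ω = 2 * p ^ 2)
    (hcl : ∀ σ : Equiv.Perm Ω, (∀ a b : Ω, ∃ g : G, σ a = g • a ∧ σ b = g • b) →
      ∃ g : G, ∀ a : Ω, σ a = g • a)
    (P : Sylow p G) (a0 : Ω) : ∃ g : G, (orderOf g).Prime ∧ ∀ ω : Ω, g • ω ≠ ω := by
  have hp : p.Prime := Fact.out
  have horb : ∀ x : Ω, p ^ 2 ∣ Nat.card (orbit ↥(P : Subgroup G) x) := fun x =>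
    pow_dvd_orbit P ⟨2, by rw [hcard]; ring⟩ x
  have horbp : ∀ x : Ω, ∃ k, Nat.card (orbit ↥(P : Subgroup G) x) = p ^ k := fun x => by
    haveI := Fintype.ofFinite (orbit ↥(P : Subgroup G) x)
    obtain ⟨k, hk⟩ := P.2.card_orbit x
    exact ⟨k, hk⟩
  have hle : ∀ x : Ω, Nat.card (orbit ↥(P : Subgroup G) x) ≤ 2 * p ^ 2 := fun x => by
    rw [← hcard]; exact Finite.card_subtype_le _
  -- central elements of order `p`
  haveI hPnt : Nontrivial ↥(P : Subgroup G) := by
    by_contra hP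
    rw [not_nontrivial_iff_subsingleton] at hP
    haveI : Subsingleton (orbit ↥(P : Subgroup G) a0) :=
      ⟨by rintro ⟨_, x, rfl⟩ ⟨_, y, rfl⟩; exact Subtype.ext (congrArg (· • a0) (Subsingleton.elim x y))⟩
    have h1 : Nat.card (orbit ↥(P : Subgroup G) a0) ≤ 1 := Finite.card_le_one_iff_subsingleton.2 ‹_›
    have h2 := Nat.le_of_dvd (by
      haveI : Nonempty (orbit ↥(P : Subgroup G) a0) := ⟨⟨a0, mem_orbit_self a0⟩⟩
      exact Nat.card_pos) (horb a0)
    have := hp.two_le
    nlinarith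
  obtain ⟨z, hzc, hzo⟩ : ∃ z : ↥(P : Subgroup G),
      z ∈ Subgroup.center ↥(P : Subgroup G) ∧ orderOf z = p := by
    haveI := P.2.center_nontrivial
    obtain ⟨n, hn⟩ := (P.2.to_subgroup (Subgroup.center ↥(P : Subgroup G))).exists_card_eq
    have hn0 : n ≠ 0 := by
      intro h
      rw [h, pow_zero] at hn
      have := Finite.one_lt_card (α := ↥(Subgroup.center ↥(P : Subgroup G)))
      omega
    obtain ⟨w, hw⟩ := exists_prime_orderOf_dvd_card' p
      (G := ↥(Subgroup.center ↥(P : Subgroup G))) (hn ▸ dvd_pow_self p hn0)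
    exact ⟨w, w.2, by rw [Subgroup.orderOf_coe, hw]⟩
  have hzp : z ^ p = 1 := by
    have := pow_orderOf_eq_one z
    rwa [hzo] at this
  have hcomm : ∀ w : ↥(P : Subgroup G), w ∈ Subgroup.center ↥(P : Subgroup G) →
      ∀ (h : ↥(P : Subgroup G)) (x : Ω), w • h • x = h • w • x := fun w hw h x => by
    rw [smul_smul, smul_smul, Subgroup.mem_center_iff.1 hw h]
  have hmove : ∀ w : ↥(P : Subgroup G), w ∈ Subgroup.center ↥(P : Subgroup G) →
      ∀ x y : Ω, y ∈ orbit ↥(P : Subgroup G) x → w • y = y → w • x = x := by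
    rintro w hw x _ ⟨h, rfl⟩ hfix
    exact smul_left_cancel h ((hcomm w hw h x).symm.trans hfix)
  by_cases htr : ∀ x : Ω, x ∈ orbit ↥(P : Subgroup G) a0
  · refine derange_of hp (g := (z : G)) (by rw [← Subgroup.coe_pow, hzp]; rfl) (fun ω hω => ?_) a0
    have h0 : z • a0 = a0 := hmove z hzc a0 ω (htr ω) hω
    have hz1 : (z : G) = 1 := by
      apply FaithfulSMul.eq_of_smul_eq_smul (α := Ω)
      intro x
      obtain ⟨h, rfl⟩ := htr x
      rw [one_smul]
      exact (hcomm z hzc h a0).trans (by rw [h0])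
    rw [← Subgroup.orderOf_coe, hz1, orderOf_one] at hzo
    exact hp.ne_one hzo.symm
  push Not at htr
  obtain ⟨b0, hb0⟩ := htr
  have hd0 : Disjoint (orbit ↥(P : Subgroup G) a0) (orbit ↥(P : Subgroup G) b0) :=
    Set.disjoint_left.2 fun x hx hx' => hb0 (by
      rw [← orbit_eq_iff.2 hx, orbit_eq_iff.2 hx']; exact mem_orbit_self b0)
  have hsum : (orbit ↥(P : Subgroup G) a0).ncard + (orbit ↥(P : Subgroup G) b0).ncard ≤ 2 * p ^ 2 := by
    rw [← Set.ncard_union_eq hd0 (Set.toFinite _) (Set.toFinite _), ← hcard, ← Set.ncard_univ]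
    exact Set.ncard_le_ncard (Set.subset_univ _) (Set.toFinite _)
  have hge : ∀ x : Ω, p ^ 2 ≤ (orbit ↥(P : Subgroup G) x).ncard := fun x => by
    rw [← Nat.card_coe_set_eq]
    haveI : Nonempty (orbit ↥(P : Subgroup G) x) := ⟨⟨x, mem_orbit_self x⟩⟩
    exact Nat.le_of_dvd Nat.card_pos (horb x)
  have ha0 : (orbit ↥(P : Subgroup G) a0).ncard = p ^ 2 := by
    have := hge a0; have := hge b0; omega
  have hb0' : (orbit ↥(P : Subgroup G) b0).ncard = p ^ 2 := by
    have := hge a0; have := hge b0; omega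
  have hcov : ∀ x, x ∈ orbit ↥(P : Subgroup G) a0 ∨ x ∈ orbit ↥(P : Subgroup G) b0 := by
    intro x
    have : orbit ↥(P : Subgroup G) a0 ∪ orbit ↥(P : Subgroup G) b0 = Set.univ := by
      apply Set.eq_of_subset_of_ncard_le (Set.subset_univ _) _ (Set.toFinite _)
      rw [Set.ncard_univ, Set.ncard_union_eq hd0 (Set.toFinite _) (Set.toFinite _), hcard, ha0, hb0']
      omega
    have hx := Set.mem_univ x
    rw [← this] at hx
    exact hx
  have hfree : ∀ w : ↥(P : Subgroup G), w ∈ Subgroup.center ↥(P : Subgroup G) →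
      w • a0 = a0 → w • b0 = b0 → w = 1 := by
    intro w hw h1 h2
    apply Subtype.ext
    apply FaithfulSMul.eq_of_smul_eq_smul (α := Ω)
    intro x
    rw [Subgroup.coe_one, one_smul]
    rcases hcov x with ⟨h, rfl⟩ | ⟨h, rfl⟩
    · exact (hcomm w hw h a0).trans (by rw [h1])
    · exact (hcomm w hw h b0).trans (by rw [h2])
  by_cases hboth : z • a0 ≠ a0 ∧ z • b0 ≠ b0
  · refine derange_of hp (g := (z : G)) (by rw [← Subgroup.coe_pow, hzp]; rfl) (fun ω hω => ?_) a0
    rcases hcov ω with h | h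
    · exact hboth.1 (hmove z hzc a0 ω h hω)
    · exact hboth.2 (hmove z hzc b0 ω h hω)
  have hz1 : z ≠ 1 := fun h => by rw [h, orderOf_one] at hzo; exact hp.ne_one hzo.symm
  obtain ⟨a, b, hab, hza, hzb, hcov', haorb⟩ : ∃ a b : Ω,
      (∀ x, ¬ (x ∈ orbit ↥(P : Subgroup G) a ∧ x ∈ orbit ↥(P : Subgroup G) b)) ∧
      z • a ≠ a ∧ z • b = b ∧
      (∀ x, x ∈ orbit ↥(P : Subgroup G) a ∨ x ∈ orbit ↥(P : Subgroup G) b) ∧
      (orbit ↥(P : Subgroup G) a).ncard = p ^ 2 := by
    by_cases h : z • a0 = a0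
    · exact ⟨b0, a0, fun x hx => Set.disjoint_left.1 hd0 hx.2 hx.1,
        fun h' => hz1 (hfree z hzc h h'), h, fun x => (hcov x).symm, hb0'⟩
    · exact ⟨a0, b0, fun x hx => Set.disjoint_left.1 hd0 hx.1 hx.2, h,
        by by_contra h'; exact hboth ⟨h, h'⟩, hcov, ha0⟩
  have hzfix : ∀ y ∈ orbit ↥(P : Subgroup G) b, z • y = y := by
    rintro _ ⟨h, rfl⟩
    exact (hcomm z hzc h b).trans (by rw [hzb])
  by_cases hI : ∀ x ∈ orbit ↥(P : Subgroup G) a,
      x ∈ orbit ↥(stabilizer ↥(P : Subgroup G) b) a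
  · obtain ⟨g0, -, hg0b, hg0c, hg0p⟩ := exists_central_lift (Ω := Ω) p P.2 ⊤ b (by
      by_contra hno
      push Not at hno
      have h1 : orbit ↥(P : Subgroup G) b = {b} := by
        ext x; constructor
        · rintro ⟨h, rfl⟩; exact hno h trivial
        · rintro rfl; exact mem_orbit_self _
      have h2 := hge b
      rw [h1, Set.ncard_singleton] at h2
      have := hp.two_le
      nlinarith)
    refine glue p hcl (P : Subgroup G) a b hcov' hab z g0 (fun h x _ => hcomm z hzc h x) hza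
      (fun x _ => by rw [hzp, one_smul]) hg0c hg0b hg0p ?_
    intro x hx y hy
    obtain ⟨u, rfl⟩ := hy
    obtain ⟨s1, hs1⟩ := hI _ (show (u⁻¹ * g0⁻¹ * z) • x ∈ orbit ↥(P : Subgroup G) a from
      mem_orbit_of_mem_orbit _ hx)
    obtain ⟨s2, hs2⟩ := hI _ (show u⁻¹ • x ∈ orbit ↥(P : Subgroup G) a from
      mem_orbit_of_mem_orbit _ hx)
    refine ⟨g0 * (u * ((s1 : ↥(P : Subgroup G)) * (s2 : ↥(P : Subgroup G))⁻¹) * u⁻¹), ?_, ?_⟩
    · change (s2 : ↥(P : Subgroup G)) • a = u⁻¹ • x at hs2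
      change (s1 : ↥(P : Subgroup G)) • a = (u⁻¹ * g0⁻¹ * z) • x at hs1
      rw [mul_smul, mul_smul, mul_smul, mul_smul, ← hs2, inv_smul_smul, hs1, mul_smul, mul_smul,
        smul_inv_smul, smul_inv_smul]
    · have hb1 : (s1 : ↥(P : Subgroup G)) • b = b := s1.2
      have hb2 : (s2 : ↥(P : Subgroup G))⁻¹ • b = b := inv_smul_eq_iff.2 (Eq.symm s2.2)
      rw [mul_smul, mul_smul, mul_smul, mul_smul, inv_smul_smul, hb2, hb1]
  · push Not at hI
    obtain ⟨x0, hx0, hx0'⟩ := hI
    -- the orbit of the stabiliser of `b` on the orbit of `a` is the orbit of `z`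
    set Pb := stabilizer ↥(P : Subgroup G) b
    let B : Set Ω := orbit ↥(Subgroup.zpowers z) a
    have hBsub : B ⊆ orbit ↥Pb a := by
      rintro _ ⟨⟨w, hw⟩, rfl⟩
      have hw' : w ∈ Pb := (Subgroup.zpowers_le.2 (show z ∈ Pb from hzb)) hw
      exact ⟨⟨w, hw'⟩, rfl⟩
    have hPbsub : orbit ↥Pb a ⊆ orbit ↥(P : Subgroup G) a := by
      rintro _ ⟨w, rfl⟩; exact mem_orbit a (w : ↥(P : Subgroup G))
    have hlt : (orbit ↥Pb a).ncard < p ^ 2 := by
      rw [← haorb]
      exact Set.ncard_lt_ncard ((Set.ssubset_iff_of_subset hPbsub).2 ⟨x0, hx0, hx0'⟩) (Set.toFinite _)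
    have hBp : B.ncard = p := by
      haveI := Fintype.ofFinite B
      obtain ⟨k, hk⟩ := (P.2.to_subgroup (Subgroup.zpowers z)).card_orbit a
      have hk1 : k ≠ 0 := by
        intro hk0
        rw [hk0, pow_zero, Nat.card_eq_one_iff_unique] at hk
        apply hza
        exact congrArg Subtype.val (@Subsingleton.elim _ hk.1
          (⟨z • a, ⟨⟨z, Subgroup.mem_zpowers z⟩, rfl⟩⟩ : B) ⟨a, mem_orbit_self a⟩)
      have hk2 : k < 2 := (Nat.pow_lt_pow_iff_right hp.one_lt).1 (by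
        rw [← hk, Nat.card_coe_set_eq]
        exact lt_of_le_of_lt (Set.ncard_le_ncard hBsub (Set.toFinite _)) hlt)
      rw [← Nat.card_coe_set_eq, hk, show k = 1 by omega, pow_one]
    have hBeq : orbit ↥Pb a = B := by
      haveI := Fintype.ofFinite (orbit ↥Pb a)
      obtain ⟨k, hk⟩ := (P.2.to_subgroup Pb).card_orbit a
      rw [Nat.card_coe_set_eq] at hk
      have hk2 : k < 2 := (Nat.pow_lt_pow_iff_right hp.one_lt).1 (hk ▸ hlt)
      refine (Set.eq_of_subset_of_ncard_le hBsub ?_ (Set.toFinite _)).symm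
      rw [hBp, hk]
      exact le_of_le_of_eq (Nat.pow_le_pow_right hp.pos (by omega)) (pow_one p)
    let S : Subgroup ↥(P : Subgroup G) :=
      { carrier := {g | g • a ∈ B}
        one_mem' := by simp [B]
        mul_mem' := fun {g h} hg hh => by
          obtain ⟨⟨u, hu⟩, hua⟩ := hg
          obtain ⟨⟨v, hv⟩, hva⟩ := hh
          refine ⟨⟨v * u, mul_mem hv hu⟩, ?_⟩
          change (v * u) • a = (g * h) • a
          obtain ⟨i, rfl⟩ := Subgroup.mem_zpowers_iff.1 hv
          change u • a = g • a at hua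
          change (z ^ i) • a = h • a at hva
          rw [mul_smul, mul_smul, hua, ← hva, hcomm _ (zpow_mem hzc i) g a]
        inv_mem' := fun {g} hg => by
          obtain ⟨⟨u, hu⟩, hua⟩ := hg
          refine ⟨⟨u⁻¹, inv_mem hu⟩, ?_⟩
          change u⁻¹ • a = g⁻¹ • a
          change u • a = g • a at hua
          obtain ⟨i, rfl⟩ := Subgroup.mem_zpowers_iff.1 hu
          rw [eq_inv_smul_iff, ← hcomm _ (inv_mem (zpow_mem hzc i)) g a, ← hua, inv_smul_smul] }
    have hSidx : S.index = p := by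
      have h1 : (stabilizer ↥(P : Subgroup G) a).index = p ^ 2 := by
        rw [index_stabilizer, haorb]
      have hle' : stabilizer ↥(P : Subgroup G) a ≤ S := fun g hg => by
        show g • a ∈ B
        rw [show g • a = a from hg]; exact mem_orbit_self a
      have h2 := Subgroup.relIndex_mul_index hle'
      have h3 : (stabilizer ↥(P : Subgroup G) a).relIndex S = p := by
        rw [Subgroup.relIndex]
        have he : (stabilizer ↥(P : Subgroup G) a).subgroupOf S = stabilizer ↥S a := by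
          ext x; rfl
        rw [he, index_stabilizer]
        refine Eq.trans ?_ hBp
        congr 1
        ext x; constructor
        · rintro ⟨⟨g, hg⟩, rfl⟩; exact hg
        · rintro ⟨⟨w, hw⟩, rfl⟩
          exact ⟨⟨w, ⟨⟨w, hw⟩, rfl⟩⟩, rfl⟩
      rw [h3, h1, sq] at h2
      exact Nat.eq_of_mul_eq_mul_left hp.pos h2
    haveI hSn : S.Normal := Subgroup.normal_of_index_eq_minFac_card (by
      rw [hSidx]
      obtain ⟨n, hn⟩ := P.2.exists_card_eq
      have hn0 : n ≠ 0 := by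
        intro h
        rw [h, pow_zero] at hn
        have := Finite.one_lt_card (α := ↥(P : Subgroup G))
        omega
      rw [hn, hp.pow_minFac hn0])
    have hPbS : Pb ≤ S := fun g hg => by
      show g • a ∈ B
      rw [← hBeq]; exact ⟨⟨g, hg⟩, rfl⟩
    obtain ⟨g0, hg0S, hg0b, hg0c, hg0p⟩ := exists_central_lift (Ω := Ω) p P.2 S b (by
      by_contra hno
      push Not at hno
      have hS : S = Pb := le_antisymm hno hPbS
      have h1 : p ^ 2 ≤ p := by
        have h2 := hge b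
        rw [← index_stabilizer] at h2
        exact h2.trans_eq ((congrArg Subgroup.index hS).symm.trans hSidx)
      have := hp.two_le
      nlinarith)
    refine glue p hcl (P : Subgroup G) a b hcov' hab z g0 (fun h x _ => hcomm z hzc h x) hza
      (fun x _ => by rw [hzp, one_smul]) hg0c hg0b hg0p ?_
    intro x hx y _
    obtain ⟨u, rfl⟩ := hx
    have hmem : u⁻¹ * g0 * u ∈ S := by simpa using hSn.conj_mem _ hg0S u⁻¹
    obtain ⟨⟨w, hw⟩, hwa⟩ := (hmem : (u⁻¹ * g0 * u) • a ∈ B)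
    obtain ⟨i, rfl⟩ := Subgroup.mem_zpowers_iff.1 hw
    change (z ^ i) • a = (u⁻¹ * g0 * u) • a at hwa
    have hgx : g0 • u • a = (z ^ i) • u • a := by
      rw [hcomm _ (zpow_mem hzc i) u a, hwa, mul_smul, mul_smul, smul_inv_smul]
    refine ⟨(z * (z ^ i)⁻¹) * g0, ?_, ?_⟩
    · rw [mul_smul, hgx, mul_smul, inv_smul_smul]
    · rw [mul_smul]
      have hy : g0 • y ∈ orbit ↥(P : Subgroup G) b := mem_orbit_of_mem_orbit g0 ‹_›
      have h1 : (z * (z ^ i)⁻¹) ∈ stabilizer ↥(P : Subgroup G) (g0 • y) := by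
        have hz' : z ∈ stabilizer ↥(P : Subgroup G) (g0 • y) := hzfix _ hy
        exact mul_mem hz' (inv_mem (zpow_mem hz' i))
      exact h1

end aux


/-- Let G act faithfully and transitively on a finite set with 2p² points, p a prime, and suppose G is 2-closed: every permutation of the set which, on each ordered pair of points, agrees with some element of G, is itself induced by an element of G. Then some element of G of prime order fixes no point. -/
theorem result {G Ω : Type*} [Group G] [Finite G] [MulAction G Ω] [FaithfulSMul G Ω] [Finite Ω]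
    (htrans : MulAction.IsPretransitive G Ω) (p : ℕ) (hp : p.Prime) (hcard : Nat.card Ω = 2 * p ^ 2)
    (hcl : ∀ σ : Equiv.Perm Ω, (∀ a b : Ω, ∃ g : G, σ a = g • a ∧ σ b = g • b) → ∃ g : G, ∀ a : Ω, σ a = g • a) :
    ∃ g : G, (orderOf g).Prime ∧ ∀ ω : Ω, g • ω ≠ ω := by
  classical
  haveI := Fact.mk hp
  haveI := htrans
  haveI : Nonempty Ω := (Nat.card_pos_iff.1 (by rw [hcard]; have := hp.pos; positivity)).1
  obtain ⟨P⟩ : Nonempty (Sylow p G) := inferInstance
  exact main p hcard hcl P (Classical.arbitrary Ω)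

end Cfsg.Agent.S3557
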