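import Cfsg.Statements.S3559
import Cfsg.Agent.Lib.BGroup.CyclicSylow
import Mathlib.GroupTheory.SpecificGroups.Cyclic

set_option autoImplicit false
open Cfsg

namespace Cfsg.Agent.S3559

/-- Let G act faithfully and transitively on a finite set whose number of points n ≥ 2 is not a prime power, and suppose G has a cyclic subgroup acting regularly (transitively with trivial point stabilizers). Then G is imprimitive or doubly transitive. -/
theorem result {G Ω : Type*} [Group G] [Finite G] [MulAction G Ω] [FaithfulSMul G Ω] [Finite Ω]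
    (htrans : MulAction.IsPretransitive G Ω) (hn : 2 ≤ Nat.card Ω) (hnp : ¬ IsPrimePow (Nat.card Ω))
    (C : Subgroup G) (hcyc : IsCyclic ↥C) (hC : MulAction.IsPretransitive ↥C Ω ∧ ∀ a : Ω, MulAction.stabilizer ↥C a = ⊥) :
    ¬ MulAction.IsPreprimitive G Ω ∨ MulAction.IsMultiplyPretransitive G Ω 2 := by
  refine or_iff_not_imp_left.2 fun hprim => ?_
  rw [not_not] at hprim
  haveI := hcyc
  haveI := hC.1
  haveI : Nonempty Ω := (Nat.card_pos_iff.1 (by omega : 0 < Nat.card Ω)).1
  obtain ⟨a⟩ := ‹Nonempty Ω›
  have hcard : Nat.card C = Nat.card Ω := Nat.card_eq_of_bijective (fun c : C => c • a)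
    ⟨fun x y h => by
      have hm : y⁻¹ * x ∈ MulAction.stabilizer C a := by
        simp only [MulAction.mem_stabilizer_iff, mul_smul] at *
        rw [h, inv_smul_smul]
      rw [hC.2 a, Subgroup.mem_bot, inv_mul_eq_one] at hm
      exact hm.symm, fun w => MulAction.exists_smul_eq C a w⟩
  obtain ⟨p, hp, hpd⟩ := Nat.exists_prime_and_dvd (show Nat.card C ≠ 1 by omega)
  haveI := Fact.mk hp
  haveI : IsMulCommutative C := IsCyclic.isMulCommutative
  refine CfsgLib.BGroup.two_pretransitive_of_regular C hC.2 p ?_ ?_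
  · letI : CommGroup C := IsCyclic.commGroup
    have h := IsCyclic.card_powMonoidHom_ker C p
    rw [Nat.gcd_eq_right hpd] at h
    exact (Nat.card_congr (Equiv.subtypeEquivRight fun x => by simp [MonoidHom.mem_ker])).trans h
  · intro h
    exact hnp (hcard ▸ h.symm ▸ hp.isPrimePow)

end Cfsg.Agent.S3559
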