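import Cfsg.Statements.S3560
import Mathlib.GroupTheory.GroupAction.MultipleTransitivity
import Mathlib.GroupTheory.GroupAction.Primitive
import Mathlib.Logic.Equiv.Fintype
import Mathlib.Algebra.Group.Subgroup.Finite

set_option autoImplicit false
open Cfsg

namespace Cfsg.Agent.S3560
open MulAction
open scoped Pointwise

section aux

/-- Transport of primitivity along a bijection. -/
lemma prim_transfer {X Y : Type*} (G : Subgroup (Equiv.Perm X)) (v : X ≃ Y)
    (hG : IsPreprimitive ↥G X) : IsPreprimitive ↥(G.map v.permCongrHom.toMonoidHom) Y := by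
  let f : X →ₑ[fun g : ↥G => (⟨v.permCongrHom g, g, g.2, rfl⟩ : ↥(G.map v.permCongrHom.toMonoidHom))] Y :=
    { toFun := v
      map_smul' := fun g x => by
        show v ((g : Equiv.Perm X) x) = v ((g : Equiv.Perm X) (v.symm (v x)))
        rw [Equiv.symm_apply_apply] }
  refine (isPreprimitive_congr (f := f) ?_ v.bijective).1 hG
  rintro ⟨_, g, hg, rfl⟩
  exact ⟨⟨g, hg⟩, rfl⟩

open scoped Classical in
lemma hamming_main {ι : Type*} [Fintype ι] (F : ι → Type*) [∀ i, Group (F i)] [∀ i, Finite (F i)]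
    (hr : 2 ≤ Fintype.card ι) (m : ℕ) (hm : 3 ≤ m) (hcard : ∀ i, Nat.card (F i) = m) :
    ∃ (G R : Subgroup (Equiv.Perm (∀ i, F i))) (_ : R ≤ G) (_ : ↥R ≃* (∀ i, F i)),
      (∀ a b : ∀ i, F i, ∃ g : ↥R, (g : Equiv.Perm (∀ i, F i)) a = b) ∧
      (∀ (g : ↥R) (a : ∀ i, F i), (g : Equiv.Perm (∀ i, F i)) a = a → (g : Equiv.Perm (∀ i, F i)) = 1) ∧
      IsPreprimitive ↥G (∀ i, F i) ∧
      ¬ (∀ a b c d : ∀ i, F i, a ≠ b → c ≠ d →
        ∃ g : ↥G, (g : Equiv.Perm (∀ i, F i)) a = c ∧ (g : Equiv.Perm (∀ i, F i)) b = d) := by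
  let dist : (∀ i, F i) → (∀ i, F i) → ℕ := fun x y => (Finset.univ.filter fun k => x k ≠ y k).card
  let G : Subgroup (Equiv.Perm (∀ i, F i)) :=
    { carrier := {σ | ∀ x y, dist (σ x) (σ y) = dist x y}
      one_mem' := fun x y => rfl
      mul_mem' := fun {σ τ} hσ hτ x y => (hσ _ _).trans (hτ x y)
      inv_mem' := fun {σ} hσ x y => by
        rw [← hσ (σ⁻¹ x) (σ⁻¹ y)]
        simp }
  let lam : (∀ i, F i) →* Equiv.Perm (∀ i, F i) := MulAction.toPermHom (∀ i, F i) (∀ i, F i)
  have hlam : Function.Injective lam := fun x y h => by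
    simpa [lam] using Equiv.ext_iff.1 h 1
  have hlamG : lam.range ≤ G := by
    rintro _ ⟨g, rfl⟩ x y
    show (Finset.univ.filter fun k => g k * x k ≠ g k * y k).card = _
    simp only [ne_eq, mul_right_inj]
    rfl
  refine ⟨G, lam.range, hlamG, (MonoidHom.ofInjective hlam).symm, fun a b => ⟨⟨_, b * a⁻¹, rfl⟩, ?_⟩,
    ?_, ?_, ?_⟩
  · show (b * a⁻¹) * a = b
    group
  · rintro ⟨_, g, rfl⟩ a h
    have h' : g * a = a := h
    show lam g = 1
    rw [mul_eq_right.1 h', map_one]
  · have hcoord : ∀ π : ∀ i, Equiv.Perm (F i), Equiv.piCongrRight π ∈ G := by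
      intro π x y
      show (Finset.univ.filter fun k => π k (x k) ≠ π k (y k)).card = _
      simp only [ne_eq, EmbeddingLike.apply_eq_iff_eq]
      rfl
    haveI : IsPretransitive ↥G (∀ i, F i) :=
      ⟨fun a b => ⟨⟨lam (b * a⁻¹), hlamG ⟨_, rfl⟩⟩, by show (b * a⁻¹) * a = b; group⟩⟩
    refine IsPreprimitive.of_isTrivialBlock_base (1 : ∀ i, F i) fun {B} h1 hB => ?_
    rw [IsTrivialBlock]
    by_contra hnt
    push Not at hnt
    obtain ⟨hns, hnu⟩ := hnt
    obtain ⟨x, hx, hx1⟩ : ∃ x ∈ B, x ≠ 1 := by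
      by_contra h; push Not at h
      exact Set.not_subsingleton_iff.2 hns (fun a ha b hb => (h a ha).trans (h b hb).symm)
    have hmove : ∀ σ : Equiv.Perm (∀ i, F i), σ ∈ G → ∀ a ∈ B, σ a ∈ B → ∀ b ∈ B, σ b ∈ B := by
      intro σ hσ a ha ha' b hb
      have := hB.smul_eq_of_mem (g := (⟨σ, hσ⟩ : ↥G)) ha ha'
      rw [← this]; exact Set.smul_mem_smul_set hb
    obtain ⟨i, hi⟩ : ∃ i, x i ≠ 1 := by
      by_contra h; push Not at h; exact hx1 (funext h)
    have hthree : ∀ (j : ι) (u : F j), u ≠ 1 → ∃ w, w ≠ 1 ∧ w ≠ u := by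
      intro j u _
      haveI := Fintype.ofFinite (F j)
      have h2 : ({1, u} : Finset (F j)).card < (Finset.univ : Finset (F j)).card := by
        rw [Finset.card_univ, ← Nat.card_eq_fintype_card, hcard j]
        exact lt_of_le_of_lt Finset.card_le_two (by omega)
      obtain ⟨w, -, hw⟩ := Finset.exists_mem_notMem_of_card_lt_card h2
      simp only [Finset.mem_insert, Finset.mem_singleton, not_or] at hw
      exact ⟨w, hw.1, hw.2⟩
    obtain ⟨w, hw1, hwx⟩ := hthree i (x i) hi
    -- `x` with the `i`-th coordinate changed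
    let π : ∀ k, Equiv.Perm (F k) := fun k => if h : k = i then h.symm ▸ Equiv.swap (x i) w else 1
    have hπi : π i = Equiv.swap (x i) w := by simp [π]
    have hπk : ∀ k, k ≠ i → π k = 1 := fun k hk => by simp [π, hk]
    have hπ1 : Equiv.piCongrRight π 1 = 1 := by
      funext k
      show π k 1 = 1
      by_cases hk : k = i
      · subst hk; rw [hπi]; exact Equiv.swap_apply_of_ne_of_ne (Ne.symm hi) (Ne.symm hw1)
      · rw [hπk k hk]; rfl
    have hy : Equiv.piCongrRight π x ∈ B := hmove _ (hcoord π) 1 h1 (by rw [hπ1]; exact h1) x hx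
    have hsingle : ∃ z : F i, z ≠ 1 ∧ Pi.mulSingle i z ∈ B := by
      refine ⟨(x i)⁻¹ * w, fun h => hwx (inv_mul_eq_one.1 h).symm, ?_⟩
      have h2 := hmove (lam x⁻¹) (hlamG ⟨_, rfl⟩) x hx (by show x⁻¹ * x ∈ B; rw [inv_mul_cancel]; exact h1) _ hy
      convert h2 using 1
      funext k
      show _ = (x k)⁻¹ * π k (x k)
      by_cases hk : k = i
      · subst hk; rw [hπi, Equiv.swap_apply_left, Pi.mulSingle_eq_same]
      · rw [hπk k hk, Pi.mulSingle_eq_of_ne hk]
        show (1 : F k) = (x k)⁻¹ * x k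
        rw [inv_mul_cancel]
    obtain ⟨z, hz, hzB⟩ := hsingle
    have hall_i : ∀ u : F i, Pi.mulSingle i u ∈ B := by
      intro u
      by_cases hu : u = 1
      · subst hu; rw [Pi.mulSingle_one]; exact h1
      let π' : ∀ k, Equiv.Perm (F k) := fun k => if h : k = i then h.symm ▸ Equiv.swap z u else 1
      have hπ'i : π' i = Equiv.swap z u := by simp [π']
      have hπ'k : ∀ k, k ≠ i → π' k = 1 := fun k hk => by simp [π', hk]
      have hfix : Equiv.piCongrRight π' 1 = 1 := by
        funext k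
        show π' k 1 = 1
        by_cases hk : k = i
        · subst hk; rw [hπ'i]; exact Equiv.swap_apply_of_ne_of_ne (Ne.symm hz) (Ne.symm hu)
        · rw [hπ'k k hk]; rfl
      have h2 := hmove _ (hcoord π') 1 h1 (by rw [hfix]; exact h1) _ hzB
      convert h2 using 1
      funext k
      show _ = π' k (Pi.mulSingle (M := F) i z k)
      by_cases hk : k = i
      · subst hk; rw [hπ'i]; simp
      · rw [hπ'k k hk, Pi.mulSingle_eq_of_ne hk, Pi.mulSingle_eq_of_ne hk]; rfl
    have heps : ∀ k, ∃ ε : F k ≃ Fin m, ε 1 = (⟨0, by omega⟩ : Fin m) := by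
      intro k
      let ε0 : F k ≃ Fin m := Finite.equivFinOfCardEq (hcard k)
      exact ⟨(Equiv.swap 1 (ε0.symm ⟨0, by omega⟩)).trans ε0, by simp⟩
    choose ε hε using heps
    have hall : ∀ (j : ι) (u : F j), Pi.mulSingle j u ∈ B := by
      intro j u
      let s : Equiv.Perm ι := Equiv.swap i j
      have hss : ∀ k, s (s k) = k := Equiv.swap_apply_self i j
      let f : (∀ k, F k) → (∀ k, F k) := fun y k => (ε k).symm (ε (s k) (y (s k)))
      have hf : Function.Involutive f := fun y => by
        funext k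
        show (ε k).symm (ε (s k) ((ε (s k)).symm (ε (s (s k)) (y (s (s k)))))) = y k
        rw [Equiv.apply_symm_apply, Equiv.symm_apply_eq]
        exact congrArg (fun a => ε a (y a)) (hss k)
      have hfG : hf.toPerm f ∈ G := by
        intro y y'
        refine Finset.card_bij' (fun k _ => s k) (fun k _ => s k) ?_ ?_ (fun k _ => hss k) (fun k _ => hss k)
        · intro k hk
          simp only [Finset.mem_filter, Finset.mem_univ, true_and, ne_eq] at hk ⊢
          exact fun h => hk (congrArg (fun a => (ε k).symm (ε (s k) a)) h)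
        · intro k hk
          simp only [Finset.mem_filter, Finset.mem_univ, true_and, ne_eq] at hk ⊢
          intro h
          apply hk
          change (ε (s k)).symm (ε (s (s k)) (y (s (s k)))) = (ε (s k)).symm (ε (s (s k)) (y' (s (s k)))) at h
          have h' := (ε (s k)).symm.injective h
          rw [(ε (s (s k))).injective.eq_iff] at h'
          exact (congr_arg (fun a => y a = y' a) (hss k)).mp h'
      have hf1 : f 1 = 1 := by
        funext k
        show (ε k).symm (ε (s k) 1) = 1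
        rw [hε, ← hε k, Equiv.symm_apply_apply]
      have hfs : f (Pi.mulSingle i ((ε i).symm (ε j u))) = Pi.mulSingle j u := by
        funext k
        show (ε k).symm (ε (s k) (Pi.mulSingle (M := F) i ((ε i).symm (ε j u)) (s k))) = _
        by_cases hk : k = j
        · subst hk
          rw [Equiv.symm_apply_eq]
          have hs' : s k = i := Equiv.swap_apply_right i k
          rw [Pi.mulSingle_eq_same]
          refine (congrArg (fun a => ε a (Pi.mulSingle (M := F) i ((ε i).symm (ε k u)) a)) hs').trans ?_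
          simp
        · have hs' : s k ≠ i := by
            intro h
            apply hk
            have := hss k
            rw [h] at this
            exact this.symm.trans (Equiv.swap_apply_left i j)
          rw [Pi.mulSingle_eq_of_ne hs', Pi.mulSingle_eq_of_ne hk, hε, ← hε k, Equiv.symm_apply_apply]
      rw [← hfs]
      exact hmove _ hfG 1 h1 (by show f 1 ∈ B; rw [hf1]; exact h1) _ (hall_i _)
    apply hnu
    let S : Subgroup (∀ k, F k) :=
      { carrier := {g | g ∈ B}
        one_mem' := h1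
        mul_mem' := fun {g h} hg hh =>
          hmove (lam g) (hlamG ⟨_, rfl⟩) 1 h1 (by show g * 1 ∈ B; rw [mul_one]; exact hg) h hh
        inv_mem' := fun {g} hg => by
          have := hmove (lam g⁻¹) (hlamG ⟨_, rfl⟩) g hg
            (by show g⁻¹ * g ∈ B; rw [inv_mul_cancel]; exact h1) 1 h1
          show g⁻¹ ∈ B
          have h' : g⁻¹ * 1 ∈ B := this
          rwa [mul_one] at h' }
    exact Set.eq_univ_iff_forall.2 fun y =>
      show y ∈ S from Subgroup.pi_mem_of_mulSingle_mem y fun k => hall k (y k)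
  · intro h
    obtain ⟨i, j, hij⟩ := Fintype.one_lt_card_iff.1 (show 1 < Fintype.card ι by omega)
    have hne : ∀ k, ∃ u : F k, u ≠ 1 := fun k => by
      haveI : Nontrivial (F k) := Finite.one_lt_card_iff_nontrivial.1 (by rw [hcard k]; omega)
      exact exists_ne 1
    obtain ⟨u, hu⟩ := hne i
    obtain ⟨w, hw⟩ := hne j
    let x : ∀ k, F k := Pi.mulSingle i u
    let y : ∀ k, F k := Pi.mulSingle i u * Pi.mulSingle j w
    have hxi : x i = u := Pi.mulSingle_eq_same ..
    have hyi : y i = u := by simp [y, Pi.mulSingle_eq_of_ne hij]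
    have hyj : y j = w := by simp [y, Pi.mulSingle_eq_of_ne (Ne.symm hij)]
    obtain ⟨⟨g, hg⟩, hg1, hg2⟩ := h 1 x 1 y
      (fun he => hu (by rw [← hxi, ← he]; rfl)) (fun he => hu (by rw [← hyi, ← he]; rfl))
    have hd := hg 1 x
    rw [show g 1 = 1 from hg1, show g x = y from hg2] at hd
    have h1' : dist 1 x = 1 := by
      rw [Finset.card_eq_one]
      refine ⟨i, ?_⟩
      ext k
      by_cases hk : k = i
      · subst hk; simp [x, Ne.symm hu]
      · simp [x, hk, Pi.mulSingle_eq_of_ne hk]
    have h2' : 2 ≤ dist 1 y := by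
      have : ({i, j} : Finset ι) ⊆ Finset.univ.filter fun k => (1 : ∀ k, F k) k ≠ y k := by
        intro k hk
        rcases Finset.mem_insert.1 hk with rfl | hk
        · simp [hyi, Ne.symm hu]
        · rw [Finset.mem_singleton.1 hk]; simp [hyj, Ne.symm hw]
      exact (Finset.card_pair hij).symm.le.trans (Finset.card_le_card this)
    omega

end aux


/-- Let K be a finite group isomorphic to a direct product of r ≥ 2 groups all of the same order m ≥ 3. Then K is not a B-group: there is a primitive but not doubly transitive permutation group (on some finite set) containing a regular subgroup isomorphic to K. -/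
theorem result {K : Type*} [Group K] [Finite K] {ι : Type*} [Fintype ι] (F : ι → Type*) [∀ i, Group (F i)]
    (hr : 2 ≤ Fintype.card ι) (m : ℕ) (hm : 3 ≤ m) (hcard : ∀ i, Nat.card (F i) = m) (e : K ≃* (∀ i, F i)) :
    ∃ (n : ℕ) (G R : Subgroup (Equiv.Perm (Fin n))), R ≤ G ∧ Nonempty (↥R ≃* K) ∧
      MulAction.IsPretransitive ↥R (Fin n) ∧ (∀ a : Fin n, MulAction.stabilizer ↥R a = ⊥) ∧
      MulAction.IsPreprimitive ↥G (Fin n) ∧ ¬ MulAction.IsMultiplyPretransitive ↥G (Fin n) 2 := by
  classical
  haveI : ∀ i, Finite (F i) := fun i => Nat.finite_of_card_ne_zero (by rw [hcard i]; omega)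
  haveI := fun i => Fintype.ofFinite (F i)
  let v : (∀ i, F i) ≃ Fin (Fintype.card (∀ i, F i)) := Fintype.equivFin _
  let φ := v.permCongrHom.toMonoidHom
  obtain ⟨G, R, hRG, eR, hRt, hRs, hGp, hG2⟩ := hamming_main F hr m hm hcard
  refine ⟨_, G.map φ, R.map φ, Subgroup.map_mono hRG,
    ⟨(R.equivMapOfInjective φ v.permCongrHom.injective).symm.trans (eR.trans e.symm)⟩, ?_, ?_, ?_, ?_⟩
  · refine ⟨fun a b => ?_⟩
    obtain ⟨⟨g, hg⟩, hgab⟩ := hRt (v.symm a) (v.symm b)
    refine ⟨⟨φ g, g, hg, rfl⟩, ?_⟩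
    show v (g (v.symm a)) = b
    rw [show g (v.symm a) = v.symm b from hgab, Equiv.apply_symm_apply]
  · intro a
    rw [eq_bot_iff]
    rintro ⟨_, g, hg, rfl⟩ hga
    rw [Subgroup.mem_bot]
    apply Subtype.ext
    have h1 : v (g (v.symm a)) = a := hga
    have h2 : g (v.symm a) = v.symm a := v.injective (by rw [h1, Equiv.apply_symm_apply])
    show φ g = 1
    have h3 : g = 1 := hRs ⟨g, hg⟩ (v.symm a) h2
    rw [h3, map_one]
  · exact prim_transfer G v hGp
  · intro h
    apply hG2
    intro a b c d hab hcd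
    haveI := h
    obtain ⟨⟨_, g, hg, rfl⟩, h1, h2⟩ :=
      MulAction.is_two_pretransitive_iff.1 h (v.injective.ne hab) (v.injective.ne hcd)
    refine ⟨⟨g, hg⟩, ?_, ?_⟩
    · have h1' : v (g (v.symm (v a))) = v c := h1
      rw [Equiv.symm_apply_apply] at h1'
      exact v.injective h1'
    · have h2' : v (g (v.symm (v b))) = v d := h2
      rw [Equiv.symm_apply_apply] at h2'
      exact v.injective h2'

end Cfsg.Agent.S3560
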