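import Cfsg.Statements.S3571
import Cfsg.Agent.Lib.SylvesterSchur
import Cfsg.Agent.Lib.Alt.Aut
import Cfsg.Agent.Lib.AltHall.Primitive
import Cfsg.Agent.S0713

set_option autoImplicit false
open Cfsg

namespace Cfsg.Agent.S3571


open Equiv MulAction
open scoped Pointwise

/-- A primitive permutation group containing an element of some class misses the alternating
group only if the class is neither a three-cycle class nor a short prime cycle class. -/
theorem exists_class {m : ℕ} (hm : 5 ≤ m) (Hs R : Subgroup (Perm (Fin m)))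
    (hAR : alternatingGroup (Fin m) ≤ R) (hHR : Hs ≤ R) (hAH : ¬ alternatingGroup (Fin m) ≤ Hs)
    (hmaxH : ∀ K : Subgroup (Perm (Fin m)), Hs ≤ K → K ≤ R → K = Hs ∨ K = R)
    (r : ℕ) (hr : r.Prime) (hrd : r ∣ Hs.relIndex R)
    (hmax : ∀ s : ℕ, s.Prime → s ∣ Hs.relIndex R → s ≤ r) :
    ∃ h ∈ R, orderOf h = r ∧ ∀ s ∈ Hs, s.cycleType ≠ h.cycleType := by
  classical
  haveI := Fact.mk hr
  have hRcard : Nat.card R ∣ m.factorial := by
    have := R.card_subgroup_dvd_card
    rwa [Nat.card_perm, Nat.card_fin] at this
  have hsplit : Nat.card Hs * Hs.relIndex R = Nat.card R := by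
    rw [Subgroup.relIndex, ← Subgroup.card_mul_index (Hs.subgroupOf R),
      Nat.card_congr (Subgroup.subgroupOfEquivOfLe hHR).toEquiv]
  have hrm : r ≤ m := (hr.dvd_factorial).1
    ((hrd.trans (Dvd.intro_left _ hsplit)).trans hRcard)
  have hcyc : ∀ c : ℕ, c * r ≤ m → 1 ≤ c → (r = 2 → Even c) →
      ∃ h ∈ R, orderOf h = r ∧ h.cycleType = Multiset.replicate c r := by
    intro c hc hc1 hev
    obtain ⟨h, hh⟩ := (Equiv.Perm.exists_with_cycleType_iff (α := Fin m)
      (m := Multiset.replicate c r)).2 ⟨by simpa using hc,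
        fun a ha => by rw [Multiset.eq_of_mem_replicate ha]; exact hr.two_le⟩
    refine ⟨h, hAR ?_, ?_, hh⟩
    · rw [Perm.mem_alternatingGroup, Perm.sign_of_cycleType, hh, Multiset.sum_replicate,
        Multiset.card_replicate, smul_eq_mul]
      refine Even.neg_one_pow ?_
      rcases hr.eq_two_or_odd' with rfl | ho
      · obtain ⟨d, rfl⟩ := hev rfl
        exact ⟨d * 2 + d, by ring⟩
      · obtain ⟨d, rfl⟩ := ho
        exact ⟨c * d + c, by ring⟩
    · rw [← Perm.lcm_cycleType, hh]
      exact Nat.dvd_antisymm (Multiset.lcm_dvd.2 fun b hb => (Multiset.eq_of_mem_replicate hb).dvd)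
        (Multiset.dvd_lcm (Multiset.mem_replicate.2 ⟨by omega, rfl⟩))
  have hclass : ∀ h : Perm (Fin m), orderOf h = r → ¬ r ∣ Nat.card Hs →
      ∀ s ∈ Hs, s.cycleType ≠ h.cycleType := by
    intro h ho hnd s hs he
    refine hnd ?_
    rw [← ho, ← Perm.lcm_cycleType, ← he, Perm.lcm_cycleType]
    exact Subgroup.orderOf_dvd_natCard _ hs
  -- the case of a large prime
  by_cases hbig : m < 2 * r
  · have hr2 : r ≠ 2 := by omega
    obtain ⟨h, hhR, ho, hh⟩ := hcyc 1 (by omega) le_rfl (fun e => absurd e hr2)
    refine ⟨h, hhR, ho, hclass h ho fun hd => ?_⟩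
    have h2 : r * r ∣ m.factorial := by
      refine dvd_trans ?_ hRcard
      rw [← hsplit]
      exact mul_dvd_mul hd hrd
    have h3 : (r ^ 2).factorization r ≤ (m.factorial).factorization r :=
      (Nat.factorization_le_iff_dvd (pow_ne_zero _ hr.ne_zero) (Nat.factorial_ne_zero m)).2
        (by rwa [pow_two]) r
    rw [hr.factorization_pow, Finsupp.single_eq_same] at h3
    have h4 : (m.factorial).factorization r ≤ (m / r) + 0 := by
      have hlog : Nat.log r m < 2 := Nat.log_lt_of_lt_pow (by omega) (by
        rw [pow_two]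
        have := Nat.mul_le_mul_right r hr.two_le
        omega)
      rw [Nat.factorization_factorial hr hlog]
      simp
    have h5 : m / r < 2 := Nat.div_lt_of_lt_mul (by omega)
    omega
  rw [not_lt] at hbig
  -- a large prime divides the order of the point stabiliser
  obtain ⟨p, hp, hp1, hp2⟩ : ∃ p, p.Prime ∧ m / 2 < p ∧ p ≤ m := by
    obtain ⟨p, hp, h1, h2⟩ := Nat.exists_prime_lt_and_le_two_mul (m / 2) (by omega)
    exact ⟨p, hp, h1, by omega⟩
  haveI := Fact.mk hp
  obtain ⟨σ, hσH, hσo⟩ : ∃ σ ∈ Hs, orderOf σ = p := by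
    have hpR : p ∣ Nat.card R := by
      refine dvd_trans ?_ (Subgroup.card_dvd_of_le hAR)
      haveI : Nontrivial (Fin m) := Fin.nontrivial_iff_two_le.2 (by omega)
      have h2 : p ∣ 2 * Nat.card (alternatingGroup (Fin m)) := by
        rw [Nat.card_eq_fintype_card, two_mul_card_alternatingGroup, Fintype.card_perm,
          Fintype.card_fin]
        exact Nat.dvd_factorial hp.pos hp2
      rcases hp.dvd_mul.1 h2 with h | h
      · exact absurd (Nat.le_of_dvd two_pos h) (by omega)
      · exact h
    have hpH : p ∣ Nat.card Hs := by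
      rw [← hsplit] at hpR
      rcases hp.dvd_mul.1 hpR with h | h
      · exact h
      · have := hmax p hp h
        omega
    obtain ⟨σ, hσ⟩ := exists_prime_orderOf_dvd_card' p hpH
    exact ⟨σ, σ.2, by rwa [Subgroup.orderOf_coe]⟩
  have hσc : σ.IsCycle ∧ σ.support.card = p := by
    obtain ⟨n, hn⟩ := Perm.cycleType_prime_order (σ := σ) (by rw [hσo]; exact hp)
    have hsum := Perm.sum_cycleType σ
    have hle := Finset.card_le_univ σ.support
    rw [hn, Multiset.sum_replicate, hσo, smul_eq_mul] at hsum
    rw [Fintype.card_fin, ← hsum] at hle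
    have hn0 : n = 0 := by
      by_contra h
      have : 2 * p ≤ (n + 1) * p := Nat.mul_le_mul_right p (by omega)
      omega
    subst hn0
    refine ⟨?_, by simpa using hsum.symm⟩
    rw [← Perm.card_cycleType_eq_one, hn]
    simp
  by_cases htr : IsPretransitive Hs (Fin m)
  · by_cases hpr : IsPreprimitive Hs (Fin m)
    · -- primitive
      rcases hr.eq_two_or_odd' with rfl | ho
      · exfalso
        have h3 : 3 ∣ Nat.card Hs := by
          have h3R : 3 ∣ Nat.card R := by
            refine dvd_trans ?_ (Subgroup.card_dvd_of_le hAR)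
            haveI : Nontrivial (Fin m) := Fin.nontrivial_iff_two_le.2 (by omega)
            have h2 : 3 ∣ 2 * Nat.card (alternatingGroup (Fin m)) := by
              rw [Nat.card_eq_fintype_card, two_mul_card_alternatingGroup, Fintype.card_perm,
                Fintype.card_fin]
              exact Nat.dvd_factorial (by norm_num) (by omega)
            rcases Nat.prime_three.dvd_mul.1 h2 with h | h
            · norm_num at h
            · exact h
          rw [← hsplit] at h3R
          rcases Nat.prime_three.dvd_mul.1 h3R with h | h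
          · exact h
          · have := hmax 3 Nat.prime_three h
            omega
        haveI : Fact (Nat.Prime 3) := ⟨Nat.prime_three⟩
        have hn3 : ¬ 3 ∣ Hs.relIndex R := fun h => by
          have := hmax 3 Nat.prime_three h
          omega
        -- a Sylow subgroup of `Hs` is a Sylow subgroup of `R`
        let S : Sylow 3 (Hs.subgroupOf R) := default
        have hS : ¬ 3 ∣ ((S : Subgroup (Hs.subgroupOf R)).map (Hs.subgroupOf R).subtype).index := by
          rw [Subgroup.index_map_subtype]
          intro h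
          rcases Nat.prime_three.dvd_mul.1 h with h | h
          · exact S.not_dvd_index h
          · exact hn3 h
        let S' : Sylow 3 R := (IsPGroup.map S.isPGroup' _).toSylow hS
        obtain ⟨c, hc⟩ := (Perm.exists_with_cycleType_iff (α := Fin m) (m := ({3} : Multiset ℕ))).2
          ⟨by simp; omega, by simp⟩
        have hc3 : c.IsThreeCycle := hc
        have hcR : c ∈ R := hAR hc3.mem_alternatingGroup
        have hcP : IsPGroup 3 (Subgroup.zpowers (⟨c, hcR⟩ : R)) := by
          refine IsPGroup.of_card (n := 1) ?_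
          rw [Nat.card_zpowers, Subgroup.orderOf_mk, hc3.orderOf, pow_one]
        obtain ⟨T, hT⟩ := hcP.exists_le_sylow
        obtain ⟨g, hg⟩ := MulAction.exists_smul_eq R T S'
        have hmem : g * ⟨c, hcR⟩ * g⁻¹ ∈ (S' : Subgroup R) := by
          rw [← hg, Sylow.coe_subgroup_smul]
          exact ⟨⟨c, hcR⟩, hT (Subgroup.mem_zpowers _), rfl⟩
        obtain ⟨y, -, hy⟩ := hmem
        have hyH : ((g * ⟨c, hcR⟩ * g⁻¹ : R) : Perm (Fin m)) ∈ Hs := by
          rw [← hy]
          exact y.2
        have h3c : ((g * ⟨c, hcR⟩ * g⁻¹ : R) : Perm (Fin m)).IsThreeCycle := by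
          show Perm.cycleType ((g : Perm (Fin m)) * c * (g : Perm (Fin m))⁻¹) = {3}
          rw [Perm.cycleType_conj]
          exact hc
        exact hAH (Perm.alternatingGroup_le_of_isPreprimitive_of_isThreeCycle_mem hpr h3c hyH)
      · have hm3 : r + 3 ≤ m := by
          have := hr.two_le
          obtain ⟨d, rfl⟩ := ho
          omega
        obtain ⟨h, hhR, hord, hh⟩ := hcyc 1 (by omega) le_rfl (fun e => absurd ho (by rw [e]; decide))
        refine ⟨h, hhR, hord, fun s hs he => hAH ?_⟩
        rw [hh, Multiset.replicate_one] at he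
        refine S0713.result Hs hpr hr (by simpa using hm) (by simpa using hm3) ?_ ?_ hs
        · rw [← Perm.card_cycleType_eq_one, he]; simp
        · rw [← Perm.sum_cycleType, he]; simp
    · -- imprimitive
      exfalso
      obtain ⟨B, hB, hBn⟩ : ∃ B : Set (Fin m), IsBlock Hs B ∧ ¬ IsTrivialBlock B := by
        by_contra hno
        push Not at hno
        exact hpr { toIsPretransitive := htr, isTrivialBlock_of_isBlock := fun {B} hB => hno B hB }
      simp only [IsTrivialBlock, not_or] at hBn
      obtain ⟨a, ha⟩ : σ.support.Nonempty := Finset.card_pos.1 (by rw [hσc.2]; exact hp.pos)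
      obtain ⟨b, hb⟩ : B.Nonempty := by
        rw [Set.nonempty_iff_ne_empty]
        rintro rfl
        exact hBn.1 Set.subsingleton_empty
      obtain ⟨τ, hτ⟩ := htr.exists_smul_eq b a
      set D := τ • B with hD
      have hDB : IsBlock Hs D := hB.translate τ
      have haD : a ∈ D := ⟨b, hb, hτ⟩
      have hDn : D.ncard = B.ncard := Set.ncard_smul_set τ B
      have hblk : CfsgLib.AltHall.IsBlk Hs D.toFinset := by
        intro g hg x hx hgx y hy
        rw [Set.mem_toFinset] at hx hgx hy ⊢
        have he : (⟨g, hg⟩ : Hs) • D = D := by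
          rcases (isBlock_iff_smul_eq_or_disjoint.1 hDB) ⟨g, hg⟩ with h | h
          · exact h
          · exact absurd hgx (Set.disjoint_left.1 h ⟨x, hx, rfl⟩)
        rw [← he]
        exact ⟨y, hy, rfl⟩
      have h2 : 2 ≤ D.ncard := by
        rw [hDn]
        by_contra h
        exact hBn.1 (Set.ncard_le_one_iff_subsingleton.1 (by omega))
      have hsub : σ.support ⊆ D.toFinset := CfsgLib.AltHall.block_of_cycle hblk
        (by rwa [← Set.ncard_eq_toFinset_card']) hσH hσc.1 (by rw [hσc.2]; exact hp)
        (Set.mem_toFinset.2 haD) (Perm.mem_support.1 ha)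
      obtain ⟨z, hz⟩ : ∃ z, z ∉ B := by
        by_contra h
        push Not at h
        exact hBn.2 (Set.eq_univ_of_forall h)
      obtain ⟨η, hη⟩ := htr.exists_smul_eq b z
      have hdis : Disjoint B (η • B) := by
        rcases (isBlock_iff_smul_eq_or_disjoint.1 hB) η with h | h
        · refine absurd ?_ hz
          rw [← h]
          exact ⟨b, hb, hη⟩
        · exact h.symm
      have h3 := Set.ncard_union_eq hdis (Set.toFinite _) (Set.toFinite _)
      rw [Set.ncard_smul_set] at h3
      have h4 := Set.ncard_le_ncard (Set.subset_univ (B ∪ η • B)) (Set.toFinite _)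
      rw [Set.ncard_univ, Nat.card_fin, h3] at h4
      have h5 := Finset.card_le_card hsub
      rw [hσc.2, ← Set.ncard_eq_toFinset_card', hDn] at h5
      omega
  · -- intransitive
    obtain ⟨B, hB0, hB2, hBinv⟩ : ∃ B : Finset (Fin m), B.Nonempty ∧ 2 * B.card ≤ m ∧
        Hs ≤ stabilizer (Perm (Fin m)) B := by
      let O : Fin m → Finset (Fin m) := fun x => Finset.univ.filter fun y => y ∈ orbit Hs x
      have hinv : ∀ x, Hs ≤ stabilizer (Perm (Fin m)) (O x) := by
        intro x g hg
        rw [mem_stabilizer_iff]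
        refine Finset.eq_of_subset_of_card_le (fun y hy => ?_) (by rw [Finset.card_smul_finset])
        obtain ⟨z, hz, rfl⟩ := Finset.mem_smul_finset.1 hy
        simp only [O, Finset.mem_filter, Finset.mem_univ, true_and] at hz ⊢
        obtain ⟨u, rfl⟩ := hz
        exact ⟨⟨g, hg⟩ * u, mul_smul _ _ _⟩
      have hx0 : ∀ x, x ∈ O x := fun x => by
        simp [O, mem_orbit_self]
      obtain ⟨x, hx⟩ : ∃ x, O x ≠ Finset.univ := by
        by_contra h
        push Not at h
        refine htr ⟨fun x y => ?_⟩
        have := (h x).symm ▸ Finset.mem_univ y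
        simpa [O, mem_orbit_iff] using this
      by_cases hsmall : 2 * (O x).card ≤ m
      · exact ⟨O x, ⟨x, hx0 x⟩, hsmall, hinv x⟩
      · refine ⟨(O x)ᶜ, ?_, ?_, ?_⟩
        · rw [Finset.nonempty_iff_ne_empty, Ne, Finset.compl_eq_empty_iff]
          exact hx
        · rw [Finset.card_compl, Fintype.card_fin]; omega
        · intro g hg
          have h := hinv x hg
          rw [mem_stabilizer_iff] at h ⊢
          refine Finset.eq_of_subset_of_card_le (fun y hy => ?_) (by rw [Finset.card_smul_finset])
          obtain ⟨z, hz, rfl⟩ := Finset.mem_smul_finset.1 hy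
          rw [Finset.mem_compl] at hz ⊢
          intro hc
          rw [← h, Finset.smul_mem_smul_finset_iff] at hc
          exact hz hc
    set k := B.card with hk
    have hk1 : 1 ≤ k := hB0.card_pos
    have htk : IsPretransitive (alternatingGroup (Fin m)) (Set.powersetCard (Fin m) k) :=
      Set.powersetCard.isPretransitive_alternatingGroup (by rw [Nat.card_fin]; omega)
    have hmove : ∀ C : Finset (Fin m), C.card = k → ∃ g ∈ R, g • B = C := by
      intro C hC
      obtain ⟨g, hg⟩ := htk.exists_smul_eq ⟨B, rfl⟩ ⟨C, hC⟩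
      refine ⟨g, hAR g.2, ?_⟩
      have h : (g : Perm (Fin m)) • B = C := congrArg Subtype.val hg
      exact h
    have hne : ∃ C : Finset (Fin m), C.card = k ∧ C ≠ B ∧ C ≠ Bᶜ := by
      obtain ⟨a, ha⟩ := hB0
      have hcc : k ≤ Bᶜ.card := by rw [Finset.card_compl, Fintype.card_fin]; omega
      obtain ⟨b, hb⟩ : Bᶜ.Nonempty := Finset.card_pos.1 (by omega)
      by_cases hk2 : 2 ≤ k
      · refine ⟨insert b (B.erase a), ?_, ?_, ?_⟩
        · rw [Finset.card_insert_of_notMem (fun h => Finset.mem_compl.1 hb (Finset.mem_of_mem_erase h)),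
            Finset.card_erase_of_mem ha]
          omega
        · intro h
          exact Finset.mem_compl.1 hb (h ▸ Finset.mem_insert_self _ _)
        · intro h
          obtain ⟨c, hc, hca⟩ := Finset.exists_mem_ne (by omega : 1 < B.card) a
          have : c ∈ Bᶜ := h ▸ Finset.mem_insert_of_mem (Finset.mem_erase.2 ⟨hca, hc⟩)
          exact Finset.mem_compl.1 this hc
      · refine ⟨{b}, by simp; omega, ?_, ?_⟩
        · intro h
          exact Finset.mem_compl.1 hb (h ▸ Finset.mem_singleton_self b)
        · intro h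
          have := congrArg Finset.card h
          rw [Finset.card_singleton, Finset.card_compl, Fintype.card_fin] at this
          omega
    obtain ⟨C, hCk, hCB, hCc⟩ := hne
    obtain ⟨g₁, hg₁, hg₁C⟩ := hmove C hCk
    have hk2m : 2 * k < m := by
      by_contra hle
      have hcard : Bᶜ.card = k := by rw [Finset.card_compl, Fintype.card_fin]; omega
      obtain ⟨g₂, hg₂, hg₂C⟩ := hmove _ hcard
      have hcompl : ∀ (g : Perm (Fin m)) (D : Finset (Fin m)), g • Dᶜ = (g • D)ᶜ := by
        intro g D
        ext y
        simp [← Finset.inv_smul_mem_iff]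
      let K : Subgroup (Perm (Fin m)) := stabilizer (Perm (Fin m)) ({B, Bᶜ} : Finset (Finset (Fin m)))
      have hK : ∀ g : Perm (Fin m), (g • B = B ∨ g • B = Bᶜ) → g ∈ K := by
        intro g hg
        rw [mem_stabilizer_iff, Finset.smul_finset_insert, Finset.smul_finset_singleton, hcompl]
        rcases hg with h | h <;> rw [h]
        rw [compl_compl, Finset.pair_comm]
      rcases hmaxH (K ⊓ R) (le_inf (fun g hg => hK g (Or.inl (hBinv hg))) hHR) inf_le_right with h | h
      · have : g₂ ∈ Hs := h ▸ (⟨hK g₂ (Or.inr hg₂C), hg₂⟩ : g₂ ∈ K ⊓ R)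
        have e := hBinv this
        rw [mem_stabilizer_iff, hg₂C] at e
        obtain ⟨a, ha⟩ := hB0
        exact Finset.mem_compl.1 (e.symm ▸ ha) ha
      · have : g₁ ∈ K := (h.symm ▸ hg₁ : g₁ ∈ K ⊓ R).1
        rw [mem_stabilizer_iff, Finset.smul_finset_insert, Finset.smul_finset_singleton] at this
        have hmem : C ∈ ({B, Bᶜ} : Finset (Finset (Fin m))) := by
          rw [← this, hg₁C]; exact Finset.mem_insert_self _ _
        simp [hCB, hCc] at hmem
    have hHK : stabilizer (Perm (Fin m)) B ⊓ R = Hs := by
      rcases hmaxH _ (le_inf hBinv hHR) inf_le_right with h | h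
      · exact h
      · exfalso
        have : g₁ ∈ stabilizer (Perm (Fin m)) B := (h.symm ▸ hg₁ : g₁ ∈ stabilizer _ B ⊓ R).1
        rw [mem_stabilizer_iff, hg₁C] at this
        exact hCB this
    have hidx : Hs.relIndex R = m.choose k := by
      rw [← hHK, Subgroup.inf_relIndex_right, Subgroup.relIndex]
      have e : (stabilizer (Perm (Fin m)) B).subgroupOf R = stabilizer R B := by
        ext g; rfl
      rw [e, index_stabilizer]
      have : orbit R B = (Finset.powersetCard k (Finset.univ : Finset (Fin m)) : Set (Finset (Fin m))) := by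
        ext D
        simp only [Finset.mem_coe, Finset.mem_powersetCard, Finset.subset_univ, true_and]
        constructor
        · rintro ⟨g, rfl⟩
          exact Finset.card_smul_finset _ _
        · intro hD
          obtain ⟨g, hg, hgD⟩ := hmove D hD
          exact ⟨⟨g, hg⟩, hgD⟩
      rw [this, Set.ncard_coe_finset, Finset.card_powersetCard, Finset.card_univ, Fintype.card_fin]
    rw [hidx] at hrd hmax
    have hkr : k < r := by
      obtain ⟨q, hq, hkq, hqd⟩ := CfsgLib.SylvesterSchur.exists_prime_gt_dvd_choose hk1 (by omega)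
      exact lt_of_lt_of_le hkq (hmax q hq hqd)
    have hmod : m % r < k := by
      by_contra hle
      have hd : r ∣ m.descFactorial k := by
        rw [Nat.descFactorial_eq_factorial_mul_choose]
        exact dvd_mul_of_dvd_right hrd _
      rw [Nat.descFactorial_eq_prod_range, (Nat.prime_iff.1 hr).dvd_finsetProd_iff] at hd
      obtain ⟨i, hi, d, hd⟩ := hd
      rw [Finset.mem_range] at hi
      have : m = i + r * d := by omega
      rw [this, Nat.add_mul_mod_self_left, Nat.mod_eq_of_lt (by omega)] at hle
      omega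
    have hev : r = 2 → Even (m / r) := by
      rintro rfl
      have hk1' : k = 1 := by omega
      rw [hk1', Nat.choose_one_right] at hrd hmax
      obtain ⟨n, rfl⟩ := hrd
      rw [Nat.mul_div_cancel_left _ two_pos]
      by_contra hodd
      obtain ⟨q, hq, hqd⟩ := Nat.exists_prime_and_dvd (n := n) (by omega)
      have hq2 := hmax q hq (dvd_mul_of_dvd_right hqd 2)
      have := hq.two_le
      obtain rfl : q = 2 := by omega
      exact hodd ((even_iff_two_dvd).2 hqd)
    have hc1 : 1 ≤ m / r := Nat.div_pos hrm hr.pos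
    obtain ⟨h, hhR, hord, hh⟩ := hcyc (m / r) (Nat.div_mul_le_self m r) hc1 hev
    refine ⟨h, hhR, hord, fun s hs he => ?_⟩
    have hsr : s ^ r ^ 1 = 1 := by
      rw [pow_one, ← hord, ← Perm.lcm_cycleType, ← he, Perm.lcm_cycleType, pow_orderOf_eq_one]
    have hsB : ∀ x, s x ∈ B ↔ x ∈ B := by
      intro x
      have e := hBinv hs
      rw [mem_stabilizer_iff] at e
      conv_lhs => rw [← e]
      exact Finset.smul_mem_smul_finset_iff s
    let t : Perm {x // x ∈ B} := s.subtypePerm hsB
    have ht : t ^ r ^ 1 = 1 := by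
      rw [show t = s.subtypePerm hsB from rfl, Perm.subtypePerm_pow]
      ext x
      show (((s ^ r ^ 1) (x : Fin m) : Fin m) : ℕ) = ((x : Fin m) : ℕ)
      rw [hsr]
      rfl
    have h1 := Perm.card_compl_support_modEq ht
    rw [Fintype.card_coe] at h1
    have h2 : t.supportᶜ.card ≤ s.supportᶜ.card := by
      refine Finset.card_le_card_of_injOn Subtype.val (fun x hx => ?_) (Subtype.val_injective.injOn)
      simp only [Finset.coe_compl, Set.mem_compl_iff, Finset.mem_coe, Perm.mem_support, not_not,
        t, Perm.subtypePerm_apply, Subtype.ext_iff] at hx ⊢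
      exact hx
    have h3 : s.supportᶜ.card = m % r := by
      rw [Finset.card_compl, ← Perm.sum_cycleType, he, hh, Multiset.sum_replicate, Fintype.card_fin,
        smul_eq_mul]
      have := Nat.div_add_mod m r
      rw [mul_comm]
      omega
    rw [h3] at h2
    unfold Nat.ModEq at h1
    rw [Nat.mod_eq_of_lt (by omega : t.supportᶜ.card < r), Nat.mod_eq_of_lt hkr] at h1
    omega

/-- Statement for a group embedded in a symmetric group. -/
theorem of_embedding {G Ω : Type*} [Group G] [Finite G] [MulAction G Ω] [FaithfulSMul G Ω] [Finite Ω]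
    {m : ℕ} (hm : 5 ≤ m) (j : G →* Perm (Fin m)) (hj : Function.Injective j)
    (hA : alternatingGroup (Fin m) ≤ j.range) (hprim : IsPreprimitive G Ω) (hΩ : 2 ≤ Nat.card Ω)
    (r : ℕ) (hr : r.Prime) (hrd : r ∣ Nat.card Ω)
    (hmax : ∀ s : ℕ, s.Prime → s ∣ Nat.card Ω → s ≤ r) :
    ∃ g : G, orderOf g = r ∧ ∀ ω : Ω, g • ω ≠ ω := by
  classical
  haveI : Nontrivial Ω := (Finite.one_lt_card_iff_nontrivial).1 (by omega)
  have := hprim.toIsPretransitive
  obtain ⟨a⟩ : Nonempty Ω := inferInstance
  have hco : IsCoatom (stabilizer G a) := (isCoatom_stabilizer_iff_preprimitive G a).2 hprim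
  set Hs := (stabilizer G a).map j with hHs
  have hrel : Hs.relIndex j.range = Nat.card Ω := by
    rw [hHs, MonoidHom.range_eq_map, Subgroup.relIndex_map_map_of_injective _ _ hj,
      Subgroup.relIndex_top_right, index_stabilizer_of_transitive]
  have hAH : ¬ alternatingGroup (Fin m) ≤ Hs := by
    intro hle
    have hN : (alternatingGroup (Fin m)).comap j ≤ stabilizer G a := by
      intro g hg
      obtain ⟨g', hg', he⟩ := hle hg
      rwa [← hj he]
    have hfix : ∀ g ∈ (alternatingGroup (Fin m)).comap j, ∀ ω : Ω, g • ω = ω := by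
      intro g hg ω
      obtain ⟨x, rfl⟩ := MulAction.exists_smul_eq G a ω
      have := hN ((inferInstance : ((alternatingGroup (Fin m)).comap j).Normal).conj_mem g hg x⁻¹)
      rw [mem_stabilizer_iff, inv_inv, mul_smul, mul_smul, inv_smul_eq_iff] at this
      exact this
    obtain ⟨c, hc⟩ := (Perm.exists_with_cycleType_iff (α := Fin m) (m := ({3} : Multiset ℕ))).2
      ⟨by simp; omega, by simp⟩
    have hc3 : c.IsThreeCycle := hc
    obtain ⟨g, rfl⟩ := hA hc3.mem_alternatingGroup
    have : g = 1 := FaithfulSMul.eq_of_smul_eq_smul (α := Ω) fun ω => by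
      rw [hfix g hc3.mem_alternatingGroup ω, one_smul]
    rw [this, map_one, Perm.cycleType_one] at hc
    exact absurd hc.symm (Multiset.singleton_ne_zero 3)
  have hmaxH : ∀ K : Subgroup (Perm (Fin m)), Hs ≤ K → K ≤ j.range → K = Hs ∨ K = j.range := by
    intro K h1 h2
    rcases hco.le_iff.1 (show stabilizer G a ≤ K.comap j from fun g hg => h1 ⟨g, hg, rfl⟩) with h | h
    · right
      refine le_antisymm h2 ?_
      rintro _ ⟨g, rfl⟩
      exact (h.symm ▸ Subgroup.mem_top g : g ∈ K.comap j)
    · left
      rw [hHs, ← h, Subgroup.map_comap_eq_self h2]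
  obtain ⟨h, hhR, ho, hcls⟩ := exists_class hm Hs j.range hA (Subgroup.map_le_range _ _) hAH hmaxH r hr
    (hrel ▸ hrd) (hrel ▸ hmax)
  obtain ⟨g, rfl⟩ := hhR
  refine ⟨g, (orderOf_injective j hj g).symm.trans ho, fun ω hω => ?_⟩
  obtain ⟨x, rfl⟩ := MulAction.exists_smul_eq G a ω
  refine hcls (j (x⁻¹ * g * x)) ⟨_, ?_, rfl⟩ ?_
  · rw [SetLike.mem_coe, mem_stabilizer_iff, mul_smul, mul_smul, hω, inv_smul_smul]
  · rw [map_mul, map_mul, map_inv]
    conv_rhs => rw [← Perm.cycleType_conj (σ := j g) (τ := (j x)⁻¹), inv_inv]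

theorem no_fifteen : ∀ x : Perm (Fin 6), x ^ 15 = 1 → x ^ 5 = 1 ∨ x ^ 3 = 1 := by decide +kernel

theorem not_fifteen_dvd {T : Type*} [Group T] [Finite T] (eT : T ≃* alternatingGroup (Fin 6))
    (X : Subgroup T) (h15 : 15 ∣ Nat.card X) (h6 : 6 < X.index) : False := by
  classical
  haveI : Fact (Nat.Prime 5) := ⟨by norm_num⟩
  haveI : Fact (Nat.Prime 3) := ⟨Nat.prime_three⟩
  have hcomm : ∀ a b : T, orderOf a = 5 → orderOf b = 3 → a * b = b * a → False := by
    intro a b ha hb hab
    have ho : orderOf (a * b) = 15 := by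
      rw [(show Commute a b from hab).orderOf_mul_eq_mul_orderOf_of_coprime (by rw [ha, hb]; norm_num),
        ha, hb]
    rw [← orderOf_injective eT.toMonoidHom eT.injective, ← Subgroup.orderOf_coe] at ho
    rcases no_fifteen _ (orderOf_dvd_iff_pow_eq_one.1 (by rw [ho]) :) with h | h <;>
    · have := orderOf_dvd_of_pow_eq_one h
      rw [ho] at this
      norm_num at this
  have hT : Nat.card T = 360 := by
    rw [Nat.card_congr eT.toEquiv, nat_card_alternatingGroup]
    simp [Nat.factorial]
  have hXd := Subgroup.card_mul_index X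
  rw [hT] at hXd
  have hle : Nat.card X ≤ 51 := by
    by_contra h
    have := Nat.mul_le_mul (show 52 ≤ Nat.card X by omega) (show 7 ≤ X.index by omega)
    omega
  have hX : Nat.card X = 15 ∨ Nat.card X = 30 ∨ Nat.card X = 45 := by
    obtain ⟨d, hd⟩ := h15
    have : d ≤ 3 := by omega
    have hpos : 0 < Nat.card X := Nat.card_pos
    interval_cases d <;> omega
  -- a Sylow subgroup of order five or three is normalised by an element of coprime order
  have hconj : ∀ {q : ℕ} [Fact q.Prime] (Y : Subgroup T) (P : Sylow q Y) (b : Y),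
      Nat.card (P : Subgroup Y) = q → (P : Subgroup Y).Normal → (orderOf b).Coprime (q - 1) →
      ∀ a ∈ (P : Subgroup Y), a * b = b * a := by
    intro q hq Y P b hP hN hco a ha
    haveI := hN
    haveI : IsCyclic (P : Subgroup Y) := isCyclic_of_prime_card hP
    have h1 := orderOf_map_dvd (MulAut.conjNormal (H := (P : Subgroup Y))) b
    have h2 : orderOf (MulAut.conjNormal (H := (P : Subgroup Y)) b) ∣ q - 1 := by
      have := orderOf_dvd_natCard (MulAut.conjNormal (H := (P : Subgroup Y)) b)
      rwa [IsCyclic.card_mulAut, hP, Nat.totient_prime hq.out] at this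
    have h3 : MulAut.conjNormal (H := (P : Subgroup Y)) b = 1 :=
      orderOf_eq_one_iff.1 (Nat.eq_one_of_dvd_coprimes hco h1 h2)
    have h4 := congrArg (fun f : MulAut (P : Subgroup Y) => ((f ⟨a, ha⟩ : (P : Subgroup Y)) : Y)) h3
    simp only [MulAut.conjNormal_apply, MulAut.one_apply] at h4
    exact (mul_inv_eq_iff_eq_mul.1 h4).symm
  let P : Sylow 5 X := default
  have hP : Nat.card (P : Subgroup X) = 5 := by
    rw [P.card_eq_multiplicity]
    rcases hX with h | h | h <;> rw [h]
    · rw [show (15 : ℕ) = 3 * 5 by norm_num, Nat.factorization_mul (by norm_num) (by norm_num)]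
      simp [Nat.Prime.factorization, Nat.prime_three, (by norm_num : Nat.Prime 5)]
    · rw [show (30 : ℕ) = 6 * 5 by norm_num, Nat.factorization_mul (by norm_num) (by norm_num)]
      simp [Nat.factorization_eq_zero_of_not_dvd, (by norm_num : Nat.Prime 5).factorization_self]
    · rw [show (45 : ℕ) = 9 * 5 by norm_num, Nat.factorization_mul (by norm_num) (by norm_num)]
      simp [Nat.factorization_eq_zero_of_not_dvd, (by norm_num : Nat.Prime 5).factorization_self]
  obtain ⟨a, ha⟩ := exists_prime_orderOf_dvd_card' (G := (P : Subgroup X)) 5 (by rw [hP])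
  obtain ⟨b, hb⟩ := exists_prime_orderOf_dvd_card' (G := X) 3 (by rcases hX with h | h | h <;> rw [h] <;> norm_num)
  by_cases hN : (P : Subgroup X).Normal
  · have h := hconj X P b hP hN (by rw [hb]; norm_num) a a.2
    refine hcomm ((a : X) : T) (b : T) ?_ ?_ (congrArg Subtype.val h)
    · rw [Subgroup.orderOf_coe, Subgroup.orderOf_coe, ha]
    · rw [Subgroup.orderOf_coe, hb]
  · -- six Sylow subgroups in a group of order thirty
    have hn1 : Nat.card (Sylow 5 X) ≠ 1 := fun h => hN (by
      haveI : Subsingleton (Sylow 5 X) := (Nat.card_eq_one_iff_unique.1 h).1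
      exact Sylow.normal_of_subsingleton P)
    have hd : Nat.card (Sylow 5 X) ∣ (P : Subgroup X).index := P.card_dvd_index
    have hmod := card_sylow_modEq_one 5 X
    have hPi := Subgroup.card_mul_index (P : Subgroup X)
    rw [hP] at hPi
    unfold Nat.ModEq at hmod
    have h30 : Nat.card X = 30 ∧ Nat.card (Sylow 5 X) = 6 := by
      have hle2 := Nat.le_of_dvd (by omega) hd
      obtain ⟨d, hd⟩ := hd
      rcases hX with h | h | h <;> rw [h] at hPi <;>
        (have h9 : (P : Subgroup X).index ≤ 9 := by omega
         have : Nat.card (Sylow 5 X) ≤ 9 := by omega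
         interval_cases hs : Nat.card (Sylow 5 X) <;> omega)
    obtain ⟨Q₀⟩ : Nonempty (Sylow 3 X) := inferInstance
    have hQ : Nat.card (Q₀ : Subgroup X) = 3 := by
      rw [Q₀.card_eq_multiplicity, h30.1, show (30 : ℕ) = 10 * 3 by norm_num,
        Nat.factorization_mul (by norm_num) (by norm_num)]
      simp [Nat.factorization_eq_zero_of_not_dvd, Nat.prime_three.factorization_self]
    by_cases hQN : (Q₀ : Subgroup X).Normal
    · obtain ⟨c, hc⟩ := exists_prime_orderOf_dvd_card' (G := (Q₀ : Subgroup X)) 3 (by rw [hQ])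
      have h := hconj X Q₀ (a : X) hQ hQN (by rw [Subgroup.orderOf_coe, ha]; norm_num) c c.2
      refine hcomm ((a : X) : T) ((c : X) : T) ?_ ?_ (congrArg Subtype.val h).symm
      · rw [Subgroup.orderOf_coe, Subgroup.orderOf_coe, ha]
      · rw [Subgroup.orderOf_coe, Subgroup.orderOf_coe, hc]
    · -- counting elements of order five and three
      let f5 : (Σ S : Sylow 5 X, {x : (S : Subgroup X) // x ≠ 1}) → X := fun p => (p.2.1 : X)
      let f3 : (Σ S : Sylow 3 X, {x : (S : Subgroup X) // x ≠ 1}) → X := fun p => (p.2.1 : X)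
      have hinj : ∀ {q : ℕ} [Fact q.Prime] (hq : ∀ S : Sylow q X, Nat.card (S : Subgroup X) = q),
          Function.Injective (fun p : (Σ S : Sylow q X, {x : (S : Subgroup X) // x ≠ 1}) => (p.2.1 : X)) := by
        intro q hq' hq
        rintro ⟨S, ⟨x, hxS⟩, hx⟩ ⟨S', ⟨y, hyS⟩, hy⟩ (he : x = y)
        subst he
        have h1 : ∀ U : Sylow q X, x ∈ (U : Subgroup X) → Subgroup.zpowers x = U := by
          intro U hU
          refine Subgroup.eq_of_le_of_card_ge (Subgroup.zpowers_le.2 hU) ?_
          rw [hq U, Nat.card_zpowers]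
          rcases (Nat.dvd_prime hq'.out).1 (hq U ▸ Subgroup.orderOf_dvd_natCard _ hU) with h | h
          · exact absurd (orderOf_eq_one_iff.1 h) (fun e => hx (Subtype.ext e))
          · omega
        obtain rfl : S = S' := Sylow.ext ((h1 S hxS).symm.trans (h1 S' hyS))
        rfl
      have hcard : ∀ {q : ℕ} [Fact q.Prime] (hq : ∀ S : Sylow q X, Nat.card (S : Subgroup X) = q),
          Nat.card (Σ S : Sylow q X, {x : (S : Subgroup X) // x ≠ 1}) = Nat.card (Sylow q X) * (q - 1) := by
        intro q hq' hq
        haveI := Fintype.ofFinite (Sylow q X)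
        rw [Nat.card_sigma]
        have : ∀ S : Sylow q X, Nat.card {x : (S : Subgroup X) // x ≠ 1} = q - 1 := by
          intro S
          haveI := Fintype.ofFinite (S : Subgroup X)
          rw [Nat.card_eq_fintype_card, Fintype.card_subtype_compl, Fintype.card_subtype_eq,
            ← Nat.card_eq_fintype_card, hq S]
        simp [this]
      have hq5 : ∀ S : Sylow 5 X, Nat.card (S : Subgroup X) = 5 := fun S => by
        rw [S.card_eq_multiplicity, ← P.card_eq_multiplicity, hP]
      have hq3 : ∀ S : Sylow 3 X, Nat.card (S : Subgroup X) = 3 := fun S => by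
        rw [S.card_eq_multiplicity, ← Q₀.card_eq_multiplicity, hQ]
      have hdis : ∀ u v, f5 u ≠ f3 v := by
        rintro ⟨S, ⟨x, hxS⟩, hx⟩ ⟨S', ⟨y, hyS⟩, hy⟩ (he : x = y)
        subst he
        have h5 : orderOf x ∣ 5 := hq5 S ▸ Subgroup.orderOf_dvd_natCard _ hxS
        have h3 : orderOf x ∣ 3 := hq3 S' ▸ Subgroup.orderOf_dvd_natCard _ hyS
        exact hx (Subtype.ext (orderOf_eq_one_iff.1
          (Nat.eq_one_of_dvd_coprimes (by norm_num) h5 h3)))
      have htot := Nat.card_le_card_of_injective (Sum.elim f5 f3)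
        ((hinj hq5).sumElim (hinj hq3) hdis)
      rw [Nat.card_sum, hcard hq5, hcard hq3, h30.1, h30.2] at htot
      have h3 : 4 ≤ Nat.card (Sylow 3 X) := by
        have hmod3 := card_sylow_modEq_one 3 X
        unfold Nat.ModEq at hmod3
        have : Nat.card (Sylow 3 X) ≠ 1 := fun h => hQN (by
          haveI : Subsingleton (Sylow 3 X) := (Nat.card_eq_one_iff_unique.1 h).1
          exact Sylow.normal_of_subsingleton Q₀)
        omega
      omega

/-- Let G be an almost simple group whose socle is an alternating group of degree m ≥ 5 (G has a normal subgroup T isomorphic to that alternating group with trivial centralizer), acting faithfully and primitively on a finite set Ω with at least two points, and let r be the largest prime divisor of the number of points. Then G contains an element of order r fixing no point. -/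
theorem result {G Ω : Type*} [Group G] [Finite G] [MulAction G Ω] [FaithfulSMul G Ω] [Finite Ω]
    (T : Subgroup G) (hT : T.Normal) (hTc : Subgroup.centralizer (T : Set G) = ⊥) (m : ℕ) (hm : 5 ≤ m)
    (eT : ↥T ≃* ↥(alternatingGroup (Fin m))) (hprim : MulAction.IsPreprimitive G Ω) (hΩ : 2 ≤ Nat.card Ω)
    (r : ℕ) (hr : r.Prime) (hrd : r ∣ Nat.card Ω) (hmax : ∀ s : ℕ, s.Prime → s ∣ Nat.card Ω → s ≤ r) :
    ∃ g : G, orderOf g = r ∧ ∀ ω : Ω, g • ω ≠ ω := by
  classical
  haveI := hT
  let φ : G →* MulAut (alternatingGroup (Fin m)) :=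
    (MulAut.congr eT).toMonoidHom.comp (MulAut.conjNormal (H := T))
  have hφi : Function.Injective φ := by
    rw [injective_iff_map_eq_one]
    intro g hg
    have h1 : MulAut.conjNormal (H := T) g = 1 := by
      apply (MulAut.congr eT).injective
      rw [map_one]
      exact hg
    refine Subgroup.mem_bot.1 (hTc ▸ Subgroup.mem_centralizer_iff.2 fun t ht => ?_)
    have h2 := congrArg (fun f : MulAut T => ((f ⟨t, ht⟩ : T) : G)) h1
    simp only [MulAut.conjNormal_apply, MulAut.one_apply] at h2
    exact (mul_inv_eq_iff_eq_mul.1 h2).symm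
  have hφT : ∀ t : T, φ t = MulAut.conjNormal (H := alternatingGroup (Fin m)) (eT t : Perm (Fin m)) := by
    intro t
    refine MulEquiv.ext fun y => Subtype.ext ?_
    rw [MulAut.conjNormal_apply]
    have : φ t y = eT t * y * (eT t)⁻¹ := by
      show eT (MulAut.conjNormal (t : G) (eT.symm y)) = _
      have h3 : MulAut.conjNormal (t : G) (eT.symm y) = t * eT.symm y * t⁻¹ := Subtype.ext (by
        rw [MulAut.conjNormal_apply]; rfl)
      rw [h3, map_mul, map_mul, map_inv, MulEquiv.apply_symm_apply]
    rw [this]
    rfl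
  by_cases hm6 : m = 6
  · subst hm6
    have := hprim.toIsPretransitive
    haveI : Nontrivial Ω := (Finite.one_lt_card_iff_nontrivial).1 (by omega)
    haveI hTt : IsPretransitive T Ω := by
      haveI := hprim
      refine IsQuasiPreprimitive.isPretransitive_of_normal (N := T) ?_
      intro h
      have hA : ∀ g ∈ T, g = 1 := fun g hg => FaithfulSMul.eq_of_smul_eq_smul (α := Ω) fun ω => by
        have hω : ω ∈ fixedPoints T Ω := h ▸ Set.mem_univ ω
        rw [one_smul]
        exact hω ⟨g, hg⟩
      have : Nat.card T = 1 := Nat.card_eq_one_iff_unique.2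
        ⟨⟨fun a b => Subtype.ext ((hA a a.2).trans (hA b b.2).symm)⟩, ⟨1⟩⟩
      rw [Nat.card_congr eT.toEquiv, nat_card_alternatingGroup] at this
      simp [Nat.factorial] at this
    obtain ⟨a⟩ : Nonempty Ω := inferInstance
    have hn : (stabilizer T a).index = Nat.card Ω := index_stabilizer_of_transitive T a
    have hT360 : Nat.card T = 360 := by
      rw [Nat.card_congr eT.toEquiv, nat_card_alternatingGroup]
      simp [Nat.factorial]
    have hXd := Subgroup.card_mul_index (stabilizer T a)
    rw [hn, hT360] at hXd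
    let ψ := (MulAction.toPermHom G Ω)
    have hψ : Function.Injective ψ := MulAction.toPerm_injective
    have hfact : 360 ∣ (Nat.card Ω).factorial := by
      rw [← hT360, ← Nat.card_perm]
      exact Subgroup.card_dvd_of_injective (ψ.comp T.subtype) (fun _ _ h => Subtype.ext (hψ h))
    have hn6 : 6 ≤ Nat.card Ω := by
      by_contra h
      interval_cases Nat.card Ω <;> norm_num [Nat.factorial] at hfact
    haveI := Fact.mk hr
    rcases Nat.eq_or_lt_of_le hn6 with h6 | h6
    · -- degree six
      haveI := Fintype.ofFinite Ω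
      have hA : alternatingGroup Ω ≤ (ψ.comp T.subtype).range := by
        refine Perm.alternatingGroup_le_of_index_le_two ?_
        have h1 := Subgroup.card_mul_index (ψ.comp T.subtype).range
        rw [← Nat.card_congr (MonoidHom.ofInjective (fun _ _ h => Subtype.ext (hψ h))).toEquiv, hT360,
          Nat.card_perm, ← h6] at h1
        norm_num [Nat.factorial] at h1
        omega
      have hcard : Fintype.card Ω = 6 := by rw [← Nat.card_eq_fintype_card]; omega
      have hr3 : r = 3 := by
        have h3 := hmax 3 Nat.prime_three (by rw [← h6]; norm_num)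
        have hle := Nat.le_of_dvd (by omega) hrd
        rw [← h6] at hrd hle
        interval_cases r
        all_goals first | rfl | omega | (norm_num at hr) | (norm_num at hrd)
      subst hr3
      obtain ⟨σ, hσ⟩ := (Perm.exists_with_cycleType_iff (α := Ω) (m := ({3, 3} : Multiset ℕ))).2
        ⟨by simp [hcard], by simp⟩
      obtain ⟨t, ht⟩ := hA (show σ ∈ alternatingGroup Ω by
        rw [Perm.mem_alternatingGroup, Perm.sign_of_cycleType, hσ]; decide)
      refine ⟨t, ?_, fun ω hω => ?_⟩
      · rw [← orderOf_injective ψ hψ]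
        show orderOf ((ψ.comp T.subtype) t) = 3
        rw [ht, ← Perm.lcm_cycleType, hσ]
        decide
      · have hsup : σ.support = Finset.univ := Finset.eq_univ_of_card _ (by
          rw [← Perm.sum_cycleType, hσ, hcard]; rfl)
        have hmem : ω ∈ σ.support := hsup ▸ Finset.mem_univ ω
        rw [Perm.mem_support, ← ht] at hmem
        exact hmem hω
    · have hno : ¬ r ∣ Nat.card (stabilizer T a) := by
        intro hd
        by_cases h5 : r = 5
        · subst h5
          have := mul_dvd_mul hd hrd
          rw [hXd] at this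
          norm_num at this
        · have h5X : 5 ∣ Nat.card (stabilizer T a) := by
            rcases (by norm_num : Nat.Prime 5).dvd_mul.1
              (show 5 ∣ Nat.card (stabilizer T a) * Nat.card Ω by rw [hXd]; norm_num) with h | h
            · exact h
            · have hle5 := hmax 5 (by norm_num) h
              have hr360 : r ∣ 360 := hXd ▸ dvd_mul_of_dvd_right hrd _
              have hr5 : r ≤ 5 := by
                rw [show (360 : ℕ) = 8 * 9 * 5 by norm_num] at hr360
                rcases hr.dvd_mul.1 hr360 with h' | h'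
                · rcases hr.dvd_mul.1 h' with h'' | h''
                  · have := (Nat.prime_dvd_prime_iff_eq hr Nat.prime_two).1
                      (hr.dvd_of_dvd_pow (n := 3) h'')
                    omega
                  · have := (Nat.prime_dvd_prime_iff_eq hr Nat.prime_three).1
                      (hr.dvd_of_dvd_pow (n := 2) h'')
                    omega
                · exact Nat.le_of_dvd (by norm_num) h'
              omega
          have h3X : 3 ∣ Nat.card (stabilizer T a) := by
            rcases Nat.lt_or_ge r 3 with h | h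
            · rcases Nat.prime_three.dvd_mul.1
                (show 3 ∣ Nat.card (stabilizer T a) * Nat.card Ω by rw [hXd]; norm_num) with h' | h'
              · exact h'
              · have := hmax 3 Nat.prime_three h'
                omega
            · have hr360 : r ∣ 360 := hXd ▸ dvd_mul_of_dvd_right hrd _
              rw [show (360 : ℕ) = 8 * 9 * 5 by norm_num] at hr360
              rcases hr.dvd_mul.1 hr360 with h' | h'
              · rcases hr.dvd_mul.1 h' with h'' | h''
                · have := (Nat.prime_dvd_prime_iff_eq hr Nat.prime_two).1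
                    (hr.dvd_of_dvd_pow (n := 3) h'')
                  omega
                · have := (Nat.prime_dvd_prime_iff_eq hr Nat.prime_three).1
                    (hr.dvd_of_dvd_pow (n := 2) h'')
                  subst this
                  exact hd
              · exact absurd ((Nat.prime_dvd_prime_iff_eq hr (by norm_num)).1 h') h5
          exact not_fifteen_dvd eT (stabilizer T a)
            (Nat.Coprime.mul_dvd_of_dvd_of_dvd (by norm_num) h5X h3X)
            (by rw [hn]; exact h6)
      obtain ⟨t, ht⟩ := exists_prime_orderOf_dvd_card' (G := T) r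
        (hT360 ▸ hXd ▸ dvd_mul_of_dvd_right hrd _)
      refine ⟨t, by rw [Subgroup.orderOf_coe, ht], fun ω hω => hno ?_⟩
      have hst : orderOf t ∣ Nat.card (stabilizer T ω) := Subgroup.orderOf_dvd_natCard _ hω
      rw [ht] at hst
      obtain ⟨x, rfl⟩ := MulAction.exists_smul_eq T a ω
      rwa [stabilizer_smul_eq_stabilizer_map_conj,
        Subgroup.card_map_of_injective (MulEquiv.injective _)] at hst
  · obtain ⟨e, he⟩ : ∃ e : Perm (Fin m) ≃* MulAut (alternatingGroup (Fin m)),
        ∀ x, e x = MulAut.conjNormal x :=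
      ⟨MulEquiv.ofBijective _ (CfsgLib.AltAut.conjNormal_bijective
        (by simp; omega) (by simpa using hm6)), fun x => rfl⟩
    refine of_embedding hm (e.symm.toMonoidHom.comp φ) (e.symm.injective.comp hφi) ?_ hprim hΩ r hr hrd hmax
    intro x hx
    obtain ⟨t, ht⟩ := eT.surjective ⟨x, hx⟩
    refine ⟨t, ?_⟩
    show e.symm (φ t) = x
    rw [hφT, ← he, MulEquiv.symm_apply_apply, ht]

end Cfsg.Agent.S3571
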