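import Cfsg.Statements.S3572
import Mathlib.GroupTheory.GroupAction.MultipleTransitivity
import Cfsg.Agent.Lib.DihB.Main

set_option autoImplicit false
set_option linter.style.haveILetI false
open Cfsg

namespace Cfsg.Agent.S3572

/-- A finite primitive permutation group containing a dihedral subgroup that acts regularly (transitively with trivial point stabilizers) is doubly transitive. -/
theorem result {G Ω : Type*} [Group G] [Finite G] [MulAction G Ω] [FaithfulSMul G Ω] [Finite Ω]
    (hprim : MulAction.IsPreprimitive G Ω) (D : Subgroup G) (m : ℕ) (hD : Nonempty (↥D ≃* DihedralGroup m))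
    (hDreg : MulAction.IsPretransitive ↥D Ω ∧ ∀ a : Ω, MulAction.stabilizer ↥D a = ⊥) :
    MulAction.IsMultiplyPretransitive G Ω 2 := by
  rw [MulAction.is_two_pretransitive_iff]
  intro a b c d hab hcd
  obtain ⟨φ⟩ := hD
  haveI : Finite (DihedralGroup m) := Finite.of_equiv _ φ.toEquiv
  haveI : NeZero m := ⟨by
    rintro rfl
    exact not_finite (DihedralGroup 0)⟩
  obtain ⟨htr, hfree⟩ := hDreg
  haveI := htr
  haveI := hprim
  have hbij : Function.Bijective fun r : DihedralGroup m => φ.symm r • a := by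
    refine ⟨fun x y h => ?_, fun w => ?_⟩
    · have hm : (φ.symm y)⁻¹ * φ.symm x ∈ MulAction.stabilizer (↥D) a := by
        rw [MulAction.mem_stabilizer_iff, mul_smul]
        exact (congrArg ((φ.symm y)⁻¹ • ·) h).trans (inv_smul_smul _ _)
      rw [hfree, Subgroup.mem_bot, inv_mul_eq_one] at hm
      exact φ.symm.injective hm.symm
    · obtain ⟨r, hr⟩ := MulAction.exists_smul_eq (↥D) a w
      exact ⟨φ r, by simp [hr]⟩
  let e : DihedralGroup m ≃ Ω := Equiv.ofBijective _ hbij
  letI : MulAction G (DihedralGroup m) :=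
    { smul := fun g r => e.symm (g • e r)
      one_smul := fun r => by show e.symm ((1 : G) • e r) = r; simp
      mul_smul := fun g h r => by
        show e.symm ((g * h) • e r) = e.symm (g • e (e.symm (h • e r)))
        rw [e.apply_symm_apply, mul_smul] }
  have he : ∀ (g : G) (r : DihedralGroup m), e (g • r) = g • e r := fun g r => e.apply_symm_apply _
  let ψ : DihedralGroup m →ₑ[(id : G → G)] Ω := ⟨e, he⟩
  haveI : MulAction.IsPreprimitive G (DihedralGroup m) :=
    (MulAction.isPreprimitive_congr (f := ψ) Function.surjective_id e.bijective).2 inferInstance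
  have hT : CfsgLib.DihB.Trans G (DihedralGroup m) := fun k => ⟨(φ.symm k : G), fun x =>
    e.injective (by
      rw [he]
      show (φ.symm k : G) • ((φ.symm x : G) • a) = (φ.symm (k * x) : G) • a
      rw [map_mul, Subgroup.coe_mul, mul_smul])⟩
  obtain ⟨r, rfl⟩ := e.surjective c
  obtain ⟨t, rfl⟩ := e.surjective d
  obtain ⟨s, rfl⟩ := e.surjective b
  have ha : e 1 = a := by
    show φ.symm 1 • a = a
    rw [map_one, one_smul]
  obtain ⟨g2, hg2⟩ := hT r
  have hs : s ≠ 1 := fun h => hab (by rw [h, ha])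
  have ht : r⁻¹ * t ≠ 1 := fun h => hcd (congrArg e (inv_mul_eq_one.1 h))
  obtain ⟨g, hg, hgs⟩ : ∃ g : G, g • (1 : DihedralGroup m) = 1 ∧ g • s = r⁻¹ * t := by
    rcases Nat.lt_or_ge 1 m with hm | hm
    · exact CfsgLib.DihB.transitive_stabilizer hT hm hs ht
    · have hm1 : m = 1 := le_antisymm hm (Nat.pos_of_ne_zero (NeZero.ne m))
      subst hm1
      refine ⟨1, one_smul _ _, ?_⟩
      rw [one_smul]
      have key : ∀ x : DihedralGroup 1, x ≠ 1 → x = DihedralGroup.sr 0 := by decide
      rw [key s hs, key _ ht]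
  refine ⟨g2 * g, ?_, ?_⟩
  · rw [← ha, ← he, mul_smul, hg, hg2, mul_one]
  · rw [← he, mul_smul, hgs, hg2, mul_inv_cancel_left]

end Cfsg.Agent.S3572
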