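import Cfsg.Statements.S3573
import Cfsg.Agent.Lib.PrimeOrderPerm.Invariant
import Mathlib.Data.Nat.Choose.Lucas

set_option autoImplicit false
open Cfsg

namespace Cfsg.Agent.S3573

/-- Let 1 ≤ k with 2k < n and consider the symmetric group of degree n acting on the k-subsets of an n-set. Let r be a prime dividing the number C(n,k) of k-subsets. If r is odd, then every permutation of order r fixes some k-subset if and only if r ≤ k and the remainder of k modulo r is at most the remainder of n modulo r. If r = 2, then every involution fixes some k-subset if and only if k is even or n is odd. -/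
theorem result (n k : ℕ) (hk : 1 ≤ k) (hkn : 2 * k < n) (r : ℕ) (hr : r.Prime) (hrd : r ∣ Nat.choose n k) :
    (r ≠ 2 → ((∀ σ : Equiv.Perm (Fin n), orderOf σ = r → ∃ s : Finset (Fin n), s.card = k ∧ s.image σ = s) ↔
      (r ≤ k ∧ k % r ≤ n % r))) ∧
    (r = 2 → ((∀ σ : Equiv.Perm (Fin n), orderOf σ = 2 → ∃ s : Finset (Fin n), s.card = k ∧ s.image σ = s) ↔
      (Even k ∨ Odd n))) := by
  haveI := Fact.mk hr
  have hrn : r ≤ n := by
    by_contra h
    push Not at h
    have h1 : Nat.choose n k ∣ n.factorial :=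
      Dvd.intro _ (by rw [← mul_assoc]; exact Nat.choose_mul_factorial_mul_factorial (by omega : k ≤ n))
    exact absurd (hr.dvd_factorial.1 (hrd.trans h1)) (by omega)
  have main : (∀ σ : Equiv.Perm (Fin n), orderOf σ = r → ∃ s : Finset (Fin n), s.card = k ∧ s.image σ = s)
      ↔ k % r ≤ n % r := by
    have hinv : ∀ (σ : Equiv.Perm (Fin n)) (s : Finset (Fin n)),
        s.image σ = s ↔ ∀ y, σ y ∈ s ↔ y ∈ s := by
      intro σ s
      constructor
      · intro h y
        conv_lhs => rw [← h]
        simp
      · intro h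
        ext y
        obtain ⟨x, rfl⟩ := σ.surjective y
        simp [h]
    constructor
    · intro h
      obtain ⟨σ, hσ, hmax⟩ := CfsgLib.PrimeOrderPerm.exists_max_support (α := Fin n) hr (by simpa using hrn)
      obtain ⟨s, hs, hs'⟩ := h σ hσ
      have := hmax s ((hinv σ s).1 hs')
      rwa [hs, Fintype.card_fin] at this
    · intro h σ hσ
      obtain ⟨s, hs, hs'⟩ := CfsgLib.PrimeOrderPerm.exists_invariant_of_mod_le hr hσ (k := k)
        (by rw [Fintype.card_fin]; omega) (by rwa [Fintype.card_fin])
      exact ⟨s, hs, (hinv σ s).2 hs'⟩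
  refine ⟨fun _ => main.trans ⟨fun h => ⟨?_, h⟩, And.right⟩, fun h2 => ?_⟩
  · by_contra hlt
    push Not at hlt
    rw [Nat.mod_eq_of_lt hlt] at h
    have hl := Choose.choose_modEq_choose_mod_mul_choose_div_nat (p := r) (n := n) (k := k)
    rw [Nat.mod_eq_of_lt hlt, Nat.div_eq_of_lt hlt, Nat.choose_zero_right, mul_one] at hl
    have hd : r ∣ Nat.choose (n % r) k := (Nat.ModEq.dvd_iff hl dvd_rfl).1 hrd
    have h1 : Nat.choose (n % r) k ∣ (n % r).factorial :=
      Dvd.intro _ (by rw [← mul_assoc]; exact Nat.choose_mul_factorial_mul_factorial h)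
    exact absurd (hr.dvd_factorial.1 (hd.trans h1)) (by have := Nat.mod_lt n hr.pos; omega)
  · subst h2
    rw [main, Nat.even_iff, Nat.odd_iff]
    omega

end Cfsg.Agent.S3573
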