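import Cfsg.Statements.S3575
import Cfsg.Agent.Lib.PrimeOrderPerm.UniformPartition
import Mathlib.Combinatorics.Enumerative.Bell

set_option autoImplicit false
open Cfsg

namespace Cfsg.Agent.S3575

theorem cover_iff {r K k q l : ℕ} (hr : 0 < r) (_hk : k < r) (_hl : l < r) :
    (∀ j, 1 ≤ j → j * r ≤ (q * r + l) * (K * r + k) →
      ∃ m, m * r ≤ K * r + k ∧ m * (q * r + l) ≤ j ∧ j ≤ (K * r + k) * q + m * l) ↔
    (k * l < r ∧ (K = 0 ∨ l ≤ k * q + 1)) := by
  have hexp : (q * r + l) * (K * r + k) = ((K * r + k) * q + K * l) * r + k * l := by ring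
  constructor
  · intro h
    have hle : ∀ m, m * r ≤ K * r + k → m ≤ K := by
      intro m hm
      by_contra hlt
      push Not at hlt
      have := Nat.mul_le_mul_right r hlt
      rw [Nat.succ_mul] at this
      omega
    refine ⟨?_, ?_⟩
    · by_contra hkl
      push Not at hkl
      obtain ⟨m, hm, -, hm3⟩ := h ((K * r + k) * q + K * l + 1) (by omega)
        (by rw [hexp, Nat.succ_mul]; omega)
      have := Nat.mul_le_mul_right l (hle m hm)
      omega
    · rcases Nat.eq_zero_or_pos K with hK | hK
      · exact Or.inl hK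
      right
      by_contra hlt
      push Not at hlt
      obtain ⟨K', rfl⟩ : ∃ K', K = K' + 1 := ⟨K - 1, by omega⟩
      obtain ⟨m, hm, hm2, hm3⟩ := h (((K' + 1) * r + k) * q + K' * l + 1) (by omega) (by
        rw [hexp]
        have h1 : ((K' + 1) * r + k) * q + K' * l + 1 ≤ ((K' + 1) * r + k) * q + (K' + 1) * l := by
          rw [Nat.succ_mul K' l]; omega
        exact (Nat.mul_le_mul_right r h1).trans (Nat.le_add_right _ _))
      rcases Nat.lt_or_ge m (K' + 1) with hmK | hmK
      · have := Nat.mul_le_mul_right l (Nat.lt_succ_iff.1 hmK)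
        omega
      · have := Nat.mul_le_mul_right (q * r + l) hmK
        nlinarith
  · rintro ⟨hkl, hK⟩ j _ hj
    have htop : j ≤ (K * r + k) * q + K * l := by
      by_contra hlt
      push Not at hlt
      have := Nat.mul_le_mul_right r hlt
      rw [Nat.succ_mul] at this
      omega
    have key : ∀ M, M ≤ K → j ≤ (K * r + k) * q + M * l →
        ∃ m, m * r ≤ K * r + k ∧ m * (q * r + l) ≤ j ∧ j ≤ (K * r + k) * q + m * l := by
      intro M
      induction M with
      | zero => exact fun _ hj => ⟨0, by omega, by omega, hj⟩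
      | succ M ih =>
        intro hMK hj
        by_cases hjM : j ≤ (K * r + k) * q + M * l
        · exact ih (by omega) hjM
        push Not at hjM
        refine ⟨M + 1, (Nat.mul_le_mul_right r hMK).trans (Nat.le_add_right _ _), ?_, hj⟩
        rcases hK with hK | hK
        · omega
        · obtain ⟨D, rfl⟩ := Nat.exists_eq_add_of_le hMK
          nlinarith [Nat.zero_le (D * r * q)]
    exact key K le_rfl htop

/-- Let a, b ≥ 2 and consider the symmetric group of degree a·b acting on the partitions of an (a·b)-set into b parts of size a (encoded as maps onto a b-element set all of whose fibres have a elements; a permutation fixes such a partition when it permutes the fibres). Let r be a prime dividing the number (ab)!/((a!)^b·b!) of such partitions, and let ℓ and k be the remainders of a and b modulo r. Then every permutation of order r fixes some such partition if and only if r ≤ a and one of the following holds: ℓ = 0; or k = 0 and ℓ = 1; or ℓ and k are non-zero, k·ℓ < r, and either b < r or (k + r)·ℓ ≤ k·a + r. -/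
theorem result (a b : ℕ) (ha : 2 ≤ a) (hb : 2 ≤ b) (r : ℕ) (hr : r.Prime)
    (hrd : r ∣ (a * b).factorial / (a.factorial ^ b * b.factorial)) :
    (∀ σ : Equiv.Perm (Fin (a * b)), orderOf σ = r →
        ∃ f : Fin (a * b) → Fin b, (∀ j : Fin b, Nat.card {x : Fin (a * b) // f x = j} = a) ∧
          ∃ π : Equiv.Perm (Fin b), ∀ x : Fin (a * b), f (σ x) = π (f x)) ↔
      (r ≤ a ∧ (a % r = 0 ∨ (b % r = 0 ∧ a % r = 1) ∨
        (a % r ≠ 0 ∧ b % r ≠ 0 ∧ (b % r) * (a % r) < r ∧ (b < r ∨ (b % r + r) * (a % r) ≤ (b % r) * a + r)))) := by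
  haveI := Fact.mk hr
  have hrn : r ≤ a * b := by
    have hdvd : (a * b).factorial / (a.factorial ^ b * b.factorial) ∣ (a * b).factorial := by
      have h := Nat.uniformBell_mul_eq b (show a ≠ 0 by omega)
      rw [mul_comm b a] at h
      refine Nat.div_dvd_of_dvd ⟨Nat.uniformBell b a, ?_⟩
      rw [← h]; ring
    exact hr.dvd_factorial.1 (hrd.trans hdvd)
  have hdiva := Nat.div_add_mod' a r
  have hdivb := Nat.div_add_mod' b r
  have hla : a % r < r := Nat.mod_lt _ hr.pos
  have hkb : b % r < r := Nat.mod_lt _ hr.pos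
  -- all admissible numbers of cycles are covered
  have main : (∀ σ : Equiv.Perm (Fin (a * b)), orderOf σ = r →
        ∃ f : Fin (a * b) → Fin b, (∀ j : Fin b, Nat.card {x : Fin (a * b) // f x = j} = a) ∧
          ∃ π : Equiv.Perm (Fin b), ∀ x : Fin (a * b), f (σ x) = π (f x)) ↔
      (∀ j, 1 ≤ j → j * r ≤ a * b → ∃ m, m * r ≤ b ∧ m * a ≤ j ∧ j ≤ b * (a / r) + m * (a % r)) := by
    constructor
    · intro h j hj1 hj2
      obtain ⟨σ, hσ, hc⟩ := CfsgLib.PrimeOrderPerm.exists_with_cycles (α := Fin (a * b)) hr (j := j)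
        (by rw [Fintype.card_fin]; exact hj2)
      have hne : σ ≠ 1 := by
        intro h1
        rw [h1, Equiv.Perm.support_one, Finset.card_empty] at hc
        exact absurd hc.symm (Nat.mul_ne_zero (by omega) hr.ne_zero)
      exact CfsgLib.PrimeOrderPerm.interval_of_fixesPartition hr (by omega) hσ hc
        (h σ (orderOf_eq_prime hσ hne))
    · intro h σ hσ
      have hσr : σ ^ r = 1 := hσ ▸ pow_orderOf_eq_one σ
      obtain ⟨j, hj⟩ := CfsgLib.PrimeOrderPerm.dvd_card_support hr hσr
      rw [mul_comm r j] at hj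
      have hj1 : 1 ≤ j := by
        rcases Nat.eq_zero_or_pos j with h0 | h0
        · rw [h0, zero_mul, Finset.card_eq_zero, Equiv.Perm.support_eq_empty_iff] at hj
          rw [hj, orderOf_one] at hσ
          exact absurd hσ.symm hr.ne_one
        · exact h0
      obtain ⟨m, hm1, hm2, hm3⟩ := h j hj1 (by
        rw [← hj]; exact (Finset.card_le_univ _).trans (by rw [Fintype.card_fin]))
      exact CfsgLib.PrimeOrderPerm.fixesPartition_of_interval hr (Fintype.card_fin _) hσr hj hm1 hm2 hm3
  rw [main]
  have arith := cover_iff (K := b / r) (k := b % r) (q := a / r) (l := a % r) hr.pos hkb hla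
  simp only [hdiva, hdivb] at arith
  rw [arith]
  constructor
  · rintro ⟨h1, h2⟩
    have hra : r ≤ a := by
      by_contra hlt
      push Not at hlt
      rw [Nat.mod_eq_of_lt hlt] at h1 h2
      rw [Nat.div_eq_of_lt hlt] at h2
      rcases h2 with h2 | h2
      · have hbr : b < r := by
          rcases lt_or_ge b r with h | h
          · exact h
          · have := Nat.div_pos h hr.pos; omega
        rw [Nat.mod_eq_of_lt hbr, mul_comm] at h1
        omega
      · omega
    refine ⟨hra, ?_⟩
    by_cases hl : a % r = 0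
    · exact Or.inl hl
    by_cases hk : b % r = 0
    · rcases h2 with h2 | h2
      · exfalso; rw [h2, hk] at hdivb; omega
      · right; left; refine ⟨hk, ?_⟩; rw [hk] at h2; omega
    refine Or.inr (Or.inr ⟨hl, hk, h1, ?_⟩)
    rcases h2 with h2 | h2
    · left; rw [h2] at hdivb; omega
    · right; nlinarith [Nat.mul_le_mul_left r h2]
  · rintro ⟨hra, h⟩
    rcases h with h | ⟨hk, hl⟩ | ⟨hl, hk, h1, h2⟩
    · rw [h]; exact ⟨by simp [hr.pos], Or.inr (Nat.zero_le _)⟩
    · rw [hk, hl]; exact ⟨by simp [hr.pos], Or.inr (by omega)⟩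
    · refine ⟨h1, ?_⟩
      rcases h2 with h2 | h2
      · exact Or.inl (Nat.div_eq_of_lt h2)
      · refine Or.inr (Nat.le_of_mul_le_mul_left ?_ hr.pos)
        nlinarith [h2, hdiva]

end Cfsg.Agent.S3575
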