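import Cfsg.Statements.S3593
import Cfsg.Agent.Lib.M12Counts.Main
import Cfsg.Agent.Lib.M12Counts.Model

set_option autoImplicit false
open Cfsg

namespace Cfsg.Agent.S3593

/-- Let M be the Mathieu group M₁₂ (order 95040). If a finite group G has the same order as M and the same set of values of the function 'number of elements of order n' (taken over the element orders n that occur), then G is isomorphic to M. -/
theorem result {G : Type*} [Group G] [Finite G]
    (hcard : Nat.card G = Nat.card ↥Cfsg.Spor.M12)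
    (hnse : {c : ℕ | 0 < c ∧ ∃ n : ℕ, c = Nat.card {g : G // orderOf g = n}} =
      {c : ℕ | 0 < c ∧ ∃ n : ℕ, c = Nat.card {g : ↥Cfsg.Spor.M12 // orderOf g = n}}) :
    Nonempty (G ≃* ↥Cfsg.Spor.M12) := by
  refine CfsgLib.M12Counts.nonempty_equiv_M12 ⟨hcard.trans CfsgLib.Golay.card_M12, fun n hn => ?_⟩
  have h : CfsgLib.Recog.OrderCounts.cnt G n ∈
      {c : ℕ | 0 < c ∧ ∃ n : ℕ, c = Nat.card {g : G // orderOf g = n}} :=
    ⟨Nat.pos_of_ne_zero hn, n, rfl⟩
  rw [hnse] at h
  obtain ⟨h0, m, hm⟩ := h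
  rw [hm] at h0 ⊢
  exact CfsgLib.M12Counts.count_mem_model m h0.ne'

end Cfsg.Agent.S3593
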