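import Cfsg.Statements.S3598
import Cfsg.Agent.Lib.DegMultiset.Main
import Cfsg.Agent.Lib.DegMultiset.Model
import Cfsg.Agent.Lib.Present.BinIcosahedral
-- import your own Cfsg.Agent.* helpers here

set_option autoImplicit false
open Cfsg

namespace Cfsg.Agent.S3598

/-- Let p be a prime and F a field with p² elements. If a finite group G has, for every d, the same number of irreducible complex characters of degree d as PSL(2,F) (the same first column of the character table, with multiplicities), then G is isomorphic to PSL(2,F). -/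
theorem result {F : Type*} [Field F] [Fintype F] (p : ℕ) (hp : p.Prime)
    (hF : Fintype.card F = p ^ 2) {G : Type*} [Group G] [Finite G]
    (h : ∀ d : ℕ, Nat.card {χ : Cfsg.IrrCharacter G // (χ : G → ℂ) 1 = (d : ℂ)} =
      Nat.card {χ : Cfsg.IrrCharacter (Matrix.ProjectiveSpecialLinearGroup (Fin 2) F) // (χ : Matrix.ProjectiveSpecialLinearGroup (Fin 2) F → ℂ) 1 = (d : ℂ)}) :
    Nonempty (G ≃* Matrix.ProjectiveSpecialLinearGroup (Fin 2) F) := by
  classical
  set H := Matrix.ProjectiveSpecialLinearGroup (Fin 2) F with hH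
  obtain ⟨hcard, hdeg⟩ := CfsgLib.DegMultiset.card_eq_of_counts (G := G) (H := H) h
  have hlin : (∀ ψ : Cfsg.IrrCharacter H, Cfsg.charDegree (ψ : H → ℂ) = 1 →
      ψ = CfsgLib.Char.principalIrr) → ∀ χ : Cfsg.IrrCharacter G,
        Cfsg.charDegree (χ : G → ℂ) = 1 → χ = CfsgLib.Char.principalIrr := by
    intro hH1 χ hχ
    have h1 := h 1
    haveI hsub : Subsingleton {ψ : Cfsg.IrrCharacter H // (ψ : H → ℂ) 1 = ((1 : ℕ) : ℂ)} := by
      refine ⟨fun x y => Subtype.ext ?_⟩
      rw [hH1 x.1 (CfsgLib.SL2Deg.charDegree_eq x.2), hH1 y.1 (CfsgLib.SL2Deg.charDegree_eq y.2)]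
    have h2 := Finite.card_le_one_iff_subsingleton.mpr hsub
    haveI := Finite.card_le_one_iff_subsingleton.mp (h1 ▸ h2)
    have h3 := Subsingleton.elim
      (⟨χ, by rw [← CfsgLib.BlockReg.deg_cast χ, hχ]⟩ :
        {ψ : Cfsg.IrrCharacter G // (ψ : G → ℂ) 1 = ((1 : ℕ) : ℂ)})
      ⟨CfsgLib.Char.principalIrr, by rw [Nat.cast_one]; exact CfsgLib.Char.principalIrr_apply 1⟩
    exact congrArg Subtype.val h3
  rcases hp.eq_two_or_odd' with rfl | hodd
  · -- four elements
    have h4 : Fintype.card F = 4 := hF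
    haveI : IsSimpleGroup H := CfsgLib.Linear.isSimpleGroup_PSL_fin 2 le_rfl fun _ => by
      rw [Nat.card_eq_fintype_card, h4]
    have hc : Nat.card H = 60 := by
      have h1 := CfsgLib.Linear.card_PSL_mul (n := Fin 2) (F := F)
      rw [CfsgLib.Linear.card_SL_two, h4, Fintype.card_fin, show Nat.gcd 2 (4 - 1) = 1 from rfl,
        one_mul] at h1
      exact h1
    have hH1 : ∀ ψ : Cfsg.IrrCharacter H, Cfsg.charDegree (ψ : H → ℂ) = 1 →
        ψ = CfsgLib.Char.principalIrr := by
      intro ψ hψ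
      refine Subtype.ext (funext fun x => ?_)
      obtain ⟨η, hη⟩ := CfsgLib.SL2Deg.exists_inflate ψ
      obtain ⟨g, rfl⟩ := QuotientGroup.mk_surjective x
      rw [← hη g, CfsgLib.SL2Deg.eq_one_of_degree_one h4.ge η.2 (by
        rw [hη, QuotientGroup.mk_one, ← CfsgLib.BlockReg.deg_cast ψ, hψ, Nat.cast_one]),
        CfsgLib.Char.principalIrr_apply]
    have hns : ¬ Group.IsSolvable G := by
      intro hs
      haveI : Nontrivial G := Finite.one_lt_card_iff_nontrivial.mp (by omega)
      have hlt := (Group.IsSolvable.commutator_lt_top_of_nontrivial G).ne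
      obtain ⟨χ, hne, -, -, hab⟩ := CfsgLib.DegMultiset.exists_inflated (commutator G) hlt
      exact hne (hlin hH1 χ (hab fun x y => (inferInstance :
        IsMulCommutative (Abelianization G)).is_comm.comm x y))
    obtain ⟨e⟩ := CfsgLib.Present.nonsolvable_sixty (hcard.trans hc) hns
    obtain ⟨e'⟩ := Cfsg.Agent.S0494.result hc
    exact ⟨e.trans e'.symm⟩
  · obtain ⟨k, hk⟩ := hodd
    set a := 2 * k * (k + 1) with ha
    have hq : Fintype.card F = 2 * a + 1 := by rw [hF, hk, ha]; ring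
    have hk0 : 0 < k := by have := hp.two_le; omega
    have ha4 : 4 ≤ a := by rw [ha]; nlinarith
    have ha2 : 2 ∣ a := ⟨k * (k + 1), by rw [ha]; ring⟩
    have hdata : CfsgLib.DegMultiset.Data G p a := by
      refine ⟨hp, hF ▸ hq, ha2, ha4, ?_, fun χ => ?_,
        hlin fun ψ hψ => (CfsgLib.DegMultiset.psl_degrees hq ha2 ha4 ψ).2 hψ⟩
      · have h1 := CfsgLib.PSL2Spec.card_psl_odd (F := F) (by omega)
        rw [show Nat.card (Matrix.ProjectiveSpecialLinearGroup (Fin 2) F) = Nat.card H from rfl,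
          ← hcard, hq, show (2 * a + 1) ^ 2 = 4 * (a * (a + 1)) + 1 by ring, Nat.add_sub_cancel] at h1
        linarith
      · obtain ⟨ψ, hψ⟩ := hdeg χ
        rw [← hψ]
        exact (CfsgLib.DegMultiset.psl_degrees hq ha2 ha4 ψ).1
    obtain ⟨K, iK, fK, hK, ⟨φ⟩⟩ := hdata.nonempty_equiv
    obtain ⟨ψ⟩ := CfsgLib.PSL2Spec.nonempty_psl_equiv_of_card_eq (K := K) (F := F) (hK.trans hq.symm)
    exact ⟨φ.trans ψ⟩

end Cfsg.Agent.S3598
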