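import Cfsg.Statements.S3599
import Mathlib.NumberTheory.Cyclotomic.Basic
import Mathlib.RingTheory.RootsOfUnity.PrimitiveRoots
import Mathlib.GroupTheory.SemidirectProduct
import Mathlib.GroupTheory.OrderOfElement
import Mathlib.Algebra.Ring.GeomSum
import Mathlib.Algebra.BigOperators.Fin
import Mathlib.Algebra.Field.ZMod
import Mathlib.Algebra.Group.Subgroup.Finite
import Mathlib.GroupTheory.Perm.Cycle.Type

set_option autoImplicit false
open Cfsg

namespace Cfsg.Agent.S3599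
section aux

/-- The properties of a minimal Frobenius group with spectrum `{1, p, q}`. -/
structure Blk (T : Type) [Group T] (p q : ℕ) : Prop where
  ord : ∀ x : T, orderOf x = 1 ∨ orderOf x = p ∨ orderOf x = q
  exP : ∃ x : T, orderOf x = p
  exQ : ∃ x : T, orderOf x = q
  comm : ∀ x y : T, x ^ p = 1 → y ^ p = 1 → x * y = y * x
  gen : ∀ U : Subgroup T, (∃ x ∈ U, orderOf x = p) → (∃ x ∈ U, orderOf x = q) → U = ⊤
  normal : ∀ N : Subgroup T, N.Normal → N ≠ ⊥ → ∀ x : T, x ^ p = 1 → x ∈ N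
  centerless : ∀ x : T, (∀ y, x * y = y * x) → x = 1
  noncomm : ∃ x y : T, x * y ≠ y * x ∧ x ^ q = 1 ∧ y ^ q = 1

variable {K : Type} [Field K]

/-- Multiplication by a unit as an automorphism of the additive group. -/
def mulAction' : Kˣ →* MulAut (Multiplicative K) where
  toFun u :=
    { toFun := fun a => Multiplicative.ofAdd ((u : K) * a.toAdd)
      invFun := fun a => Multiplicative.ofAdd ((↑u⁻¹ : K) * a.toAdd)
      left_inv := fun a => by simp
      right_inv := fun a => by simp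
      map_mul' := fun a b => by simp [mul_add, ofAdd_add] }
  map_one' := by ext a; simp
  map_mul' u v := by ext a; simp [mul_assoc]

/-- The translations and multiplications by `q`-th roots of unity. -/
abbrev Aff (K : Type) [Field K] (q : ℕ) :=
  Multiplicative K ⋊[(mulAction' (K := K)).comp (rootsOfUnity q K).subtype] ↥(rootsOfUnity q K)

variable {q : ℕ}

/-- Constructor. -/
def mkA (a : K) (c : ↥(rootsOfUnity q K)) : Aff K q := ⟨Multiplicative.ofAdd a, c⟩

lemma mkA_mul (a b : K) (c d : ↥(rootsOfUnity q K)) :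
    mkA a c * mkA b d = mkA (a + ((c : Kˣ) : K) * b) (c * d) :=
  SemidirectProduct.ext rfl rfl

lemma mkA_one : mkA (0 : K) (1 : ↥(rootsOfUnity q K)) = 1 := rfl

lemma mkA_eq (x : Aff K q) : x = mkA x.left.toAdd x.right := rfl

lemma mkA_inj {a b : K} {c d : ↥(rootsOfUnity q K)} (h : mkA a c = mkA b d) : a = b ∧ c = d :=
  ⟨congrArg (fun x : Aff K q => x.left.toAdd) h, congrArg (fun x : Aff K q => x.right) h⟩

lemma mkA_inv (a : K) (c : ↥(rootsOfUnity q K)) :
    (mkA a c)⁻¹ = mkA (-(((c⁻¹ : ↥(rootsOfUnity q K)) : Kˣ) : K) * a) c⁻¹ := by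
  apply inv_eq_of_mul_eq_one_right
  rw [mkA_mul, mul_inv_cancel, ← mkA_one]
  congr 1
  simp

lemma mkA_pow (a : K) (c : ↥(rootsOfUnity q K)) (n : ℕ) :
    mkA a c ^ n = mkA (a * ∑ i ∈ Finset.range n, ((c : Kˣ) : K) ^ i) (c ^ n) := by
  induction n with
  | zero => simp [← mkA_one]
  | succ n ih =>
    rw [pow_succ, ih, mkA_mul, ← pow_succ, Finset.sum_range_succ]
    congr 1
    rw [SubmonoidClass.coe_pow, Units.val_pow_eq_pow_val]
    ring

open scoped Classical in
lemma exists_blk {p q : ℕ} (hp : p.Prime) (hq : q.Prime) (hpq : p ≠ q) :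
    ∃ (T : Type) (_ : Group T) (_ : Fintype T), Blk T p q := by
  haveI := Fact.mk hp
  haveI : NeZero q := ⟨hq.ne_zero⟩
  haveI : NeZero (q : ZMod p) := ⟨by
    rw [Ne, ZMod.natCast_eq_zero_iff]
    exact fun h => hpq ((Nat.prime_dvd_prime_iff_eq hp hq).1 h)⟩
  let K := CyclotomicField q (ZMod p)
  haveI : FiniteDimensional (ZMod p) K := IsCyclotomicExtension.finiteDimensional {q} (ZMod p) K
  haveI : Finite K := Module.finite_of_finite (ZMod p)
  haveI : CharP K p := charP_of_injective_algebraMap (algebraMap (ZMod p) K).injective p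
  obtain ⟨z0, hz0⟩ := IsCyclotomicExtension.exists_isPrimitiveRoot (ZMod p) K
    (Set.mem_singleton q) hq.ne_zero
  have hz0u : IsUnit z0 := hz0.isUnit hq.ne_zero
  let ζ : ↥(rootsOfUnity q K) := ⟨hz0u.unit, by
    rw [mem_rootsOfUnity]; exact Units.ext (by simp [hz0.pow_eq_one])⟩
  have hζ : ((ζ : Kˣ) : K) = z0 := rfl
  haveI : Finite (Aff K q) :=
    Finite.of_injective (fun x : Aff K q => (x.left, x.right))
      (fun x y h => SemidirectProduct.ext (congrArg Prod.fst h) (congrArg Prod.snd h))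
  have hcq : ∀ c : ↥(rootsOfUnity q K), c ^ q = 1 := fun c => Subtype.ext ((mem_rootsOfUnity q _).1 c.2)
  have hval : ∀ c : ↥(rootsOfUnity q K), c ≠ 1 → ((c : Kˣ) : K) ≠ 1 := fun c hc h =>
    hc (Subtype.ext (Units.ext h))
  have hpowP : ∀ a : K, mkA a (1 : ↥(rootsOfUnity q K)) ^ p = 1 := fun a => by
    rw [mkA_pow, one_pow, ← mkA_one]
    simp
  have hpowQ : ∀ (a : K) (c : ↥(rootsOfUnity q K)), c ≠ 1 → mkA a c ^ q = 1 := fun a c hc => by
    rw [mkA_pow, hcq, ← mkA_one]
    congr 1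
    have h1 : (∑ i ∈ Finset.range q, ((c : Kˣ) : K) ^ i) * (((c : Kˣ) : K) - 1) = 0 := by
      rw [geom_sum_mul, ← Units.val_pow_eq_pow_val, (mem_rootsOfUnity q _).1 c.2]
      simp
    rw [(mul_eq_zero.1 h1).resolve_right (sub_ne_zero.2 (hval c hc)), mul_zero]
  have hordP : ∀ a : K, a ≠ 0 → orderOf (mkA a (1 : ↥(rootsOfUnity q K))) = p := fun a ha =>
    orderOf_eq_prime (hpowP a) fun h => ha (mkA_inj (h.trans mkA_one.symm)).1
  haveI := Fact.mk hq
  have hordQ : ∀ (a : K) (c : ↥(rootsOfUnity q K)), c ≠ 1 → orderOf (mkA a c) = q := fun a c hc =>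
    orderOf_eq_prime (hpowQ a c hc) fun h => hc (mkA_inj (h.trans mkA_one.symm)).2
  have hζ1 : ζ ≠ 1 := by
    intro h
    apply hz0.ne_one hq.one_lt
    rw [← hζ, h]; rfl
  have hshape : ∀ x : Aff K q, x ^ p = 1 → ∃ a : K, x = mkA a 1 := by
    intro x hx
    refine ⟨x.left.toAdd, ?_⟩
    by_cases hc : x.right = 1
    · rw [← hc]; exact mkA_eq x
    · exfalso
      have h1 := hordQ x.left.toAdd x.right hc
      rw [← mkA_eq] at h1
      exact hpq ((Nat.prime_dvd_prime_iff_eq hq hp).1 (h1 ▸ orderOf_dvd_of_pow_eq_one hx)).symm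
  have hzeta : ∀ c : ↥(rootsOfUnity q K), c ≠ 1 → ∀ d, d ∈ Subgroup.zpowers c := by
    have hcard : Nat.card ↥(rootsOfUnity q K) = q := by
      exact hz0.card_rootsOfUnity
    intro c hc d
    exact mem_zpowers_of_prime_card hcard hc
  have hconjT : ∀ (a x : K) (c : ↥(rootsOfUnity q K)),
      mkA a c * mkA x 1 * (mkA a c)⁻¹ = mkA (((c : Kˣ) : K) * x) 1 := fun a x c => by
    rw [mul_inv_eq_iff_eq_mul, mkA_mul, mkA_mul, mul_one, one_mul]
    congr 1
    simp [add_comm]
  -- an additive subgroup of translations invariant under `ζ` is everything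
  have hfull : ∀ U : Subgroup (Aff K q), (∃ a : K, a ≠ 0 ∧ mkA a 1 ∈ U) →
      (∀ x : K, mkA x 1 ∈ U → mkA (z0 * x) 1 ∈ U) → ∀ x : K, mkA x 1 ∈ U := by
    intro U ⟨a, ha, haU⟩ hinv
    let W : Submodule (ZMod p) K := AddSubgroup.toZModSubmodule p
      ({ carrier := {x | mkA x 1 ∈ U}
         zero_mem' := U.one_mem
         add_mem' := fun {x y} hx hy => by
          have := U.mul_mem hx hy
          rwa [mkA_mul, mul_one, OneMemClass.coe_one, Units.val_one, one_mul] at this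
         neg_mem' := fun {x} hx => by
          have := U.inv_mem hx
          rw [mkA_inv] at this
          simpa [neg_one_mul] using this } : AddSubgroup K)
    let A : Subalgebra (ZMod p) K :=
      { carrier := {r | ∀ w ∈ W, r * w ∈ W}
        mul_mem' := fun {r r'} hr hr' w hw => by rw [mul_assoc]; exact hr _ (hr' w hw)
        add_mem' := fun {r r'} hr hr' w hw => by rw [add_mul]; exact W.add_mem (hr w hw) (hr' w hw)
        algebraMap_mem' := fun r w hw => by
          rw [← Algebra.smul_def]; exact W.smul_mem r hw }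
    have htop : A = ⊤ := by
      rw [eq_top_iff, ← IsCyclotomicExtension.adjoin_primitive_root_eq_top (A := ZMod p) hz0,
        Algebra.adjoin_le_iff, Set.singleton_subset_iff]
      exact fun w hw => hinv w hw
    intro x
    have hxA : x * a⁻¹ ∈ A := htop ▸ Algebra.mem_top
    have := hxA a haU
    rwa [mul_assoc, inv_mul_cancel₀ ha, mul_one] at this
  refine ⟨Aff K q, inferInstance, Fintype.ofFinite _, ?_, ⟨_, hordP 1 one_ne_zero⟩,
    ⟨_, hordQ 0 ζ hζ1⟩, ?_, ?_, ?_, ?_, ?_⟩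
  · intro x
    rw [mkA_eq x]
    by_cases hc : x.right = 1
    · rw [hc]
      by_cases ha : x.left.toAdd = 0
      · rw [ha, mkA_one]; exact Or.inl orderOf_one
      · exact Or.inr (Or.inl (hordP _ ha))
    · exact Or.inr (Or.inr (hordQ _ _ hc))
  · intro x y hx hy
    obtain ⟨a, rfl⟩ := hshape x hx
    obtain ⟨b, rfl⟩ := hshape y hy
    rw [mkA_mul, mkA_mul]
    simp [add_comm]
  · intro U ⟨x, hxU, hx⟩ ⟨y, hyU, hy⟩
    obtain ⟨a, rfl⟩ := hshape x (by have := pow_orderOf_eq_one x; rwa [hx] at this)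
    have ha : a ≠ 0 := by
      rintro rfl; rw [mkA_one, orderOf_one] at hx; exact hp.ne_one hx.symm
    have hyc : y.right ≠ 1 := by
      intro hc
      rw [mkA_eq y, hc] at hy
      have := orderOf_dvd_of_pow_eq_one (hpowP y.left.toAdd)
      rw [hy] at this
      exact hpq ((Nat.prime_dvd_prime_iff_eq hq hp).1 this).symm
    have hinv : ∀ v : K, mkA v 1 ∈ U → mkA (z0 * v) 1 ∈ U := by
      intro v hv
      obtain ⟨i, hi⟩ := Subgroup.mem_zpowers_iff.1 (hzeta _ hyc ζ)
      have h2 := U.mul_mem (U.mul_mem (U.zpow_mem hyU i) hv) (U.inv_mem (U.zpow_mem hyU i))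
      rw [mkA_eq (y ^ i), hconjT] at h2
      have h3 : (y ^ i).right = ζ := by
        rw [← hi]; exact map_zpow SemidirectProduct.rightHom y i
      rwa [h3, hζ] at h2
    have hall := hfull U ⟨a, ha, hxU⟩ hinv
    rw [eq_top_iff]
    intro w _
    obtain ⟨i, hi⟩ := Subgroup.mem_zpowers_iff.1 (hzeta _ hyc w.right)
    have h3 : (w * (y ^ i)⁻¹).right = 1 := by
      show SemidirectProduct.rightHom (w * (y ^ i)⁻¹) = 1
      rw [map_mul, map_inv, map_zpow, mul_inv_eq_one]
      exact hi.symm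
    have h4 : w * (y ^ i)⁻¹ ∈ U := by rw [mkA_eq (w * (y ^ i)⁻¹), h3]; exact hall _
    simpa using U.mul_mem h4 (U.zpow_mem hyU i)
  · intro N hN hN1 x hx
    obtain ⟨b, rfl⟩ := hshape x hx
    obtain ⟨n, hn, hn1⟩ := (Subgroup.ne_bot_iff_exists_ne_one.1 hN1) |> fun ⟨n, hn⟩ =>
      (⟨(n : Aff K q), n.2, fun h => hn (Subtype.ext h)⟩ : ∃ n : Aff K q, n ∈ N ∧ n ≠ 1)
    refine hfull N ?_ (fun v hv => ?_) b
    · by_cases hc : n.right = 1
      · refine ⟨n.left.toAdd, fun h => hn1 ?_, by rw [← hc, ← mkA_eq]; exact hn⟩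
        rw [mkA_eq n, hc, h, mkA_one]
      · refine ⟨((n.right : Kˣ) : K) - 1, sub_ne_zero.2 (hval _ hc), ?_⟩
        have h2 : n * (mkA (1 : K) 1 * n⁻¹ * (mkA (1 : K) 1)⁻¹) ∈ N :=
          N.mul_mem hn (hN.conj_mem _ (N.inv_mem hn) _)
        rw [← mul_assoc, ← mul_assoc, mkA_eq n, hconjT, mkA_inv, mkA_mul] at h2
        simpa [sub_eq_add_neg] using h2
    · have h2 := hN.conj_mem _ hv (mkA 0 ζ)
      rwa [hconjT, hζ] at h2
  · intro x hx
    have h1 := hx (mkA 1 1)
    have h2 := hx (mkA 0 ζ)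
    rw [mkA_eq x, mkA_mul, mkA_mul] at h1 h2
    have hc : ((x.right : Kˣ) : K) = 1 := by
      have h' := (mkA_inj h1).1
      rw [mul_one, OneMemClass.coe_one, Units.val_one, one_mul, add_comm (1 : K)] at h'
      exact add_left_cancel h'
    have hc' : x.right = 1 := Subtype.ext (Units.ext hc)
    have ha : (((ζ : Kˣ) : K) - 1) * x.left.toAdd = 0 := by
      have h' := (mkA_inj h2).1
      rw [mul_zero, add_zero, zero_add] at h'
      rw [sub_mul, one_mul, sub_eq_zero]; exact h'.symm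
    rw [mkA_eq x, hc', (mul_eq_zero.1 ha).resolve_left (sub_ne_zero.2 (hval _ hζ1)), mkA_one]
  · refine ⟨mkA 0 ζ, mkA 1 ζ, fun h => ?_, hpowQ _ _ hζ1, hpowQ _ _ hζ1⟩
    rw [mkA_mul, mkA_mul] at h
    have h' := (mkA_inj h).1
    rw [zero_add, mul_one, mul_zero, add_zero] at h'
    exact hval _ hζ1 h'

open scoped Classical in
lemma product_props {s : ℕ} (p : Fin s → Fin 2 → ℕ) (hp : ∀ j i, (p j i).Prime)
    (hinj : ∀ j i j' i', p j i = p j' i' → j = j' ∧ i = i') (σ : Fin s → Fin 2)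
    (T : Fin s → Type) [∀ j, Group (T j)] [∀ j, Fintype (T j)]
    (hT : ∀ j, Blk (T j) (p j (σ j)) (p j (1 - σ j))) :
    Set.range (orderOf : (∀ j, T j) → ℕ) =
        {m : ℕ | ∃ c : Fin s → ℕ, (∀ j, c j = 1 ∨ c j = p j 0 ∨ c j = p j 1) ∧ m = ∏ j, c j} ∧
      ∀ (H : Subgroup (∀ j, T j)) (N : Subgroup ↥H) [N.Normal], (H ≠ ⊤ ∨ N ≠ ⊥) →
        Set.range (orderOf : (↥H ⧸ N) → ℕ) ≠
          {m : ℕ | ∃ c : Fin s → ℕ, (∀ j, c j = 1 ∨ c j = p j 0 ∨ c j = p j 1) ∧ m = ∏ j, c j} := by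
  have htwo : ∀ u : Fin 2, (u = 0 ∧ 1 - u = 1) ∨ (u = 1 ∧ 1 - u = 0) := by decide
  have hopt : ∀ (j : Fin s) (m : ℕ), (m = 1 ∨ m = p j 0 ∨ m = p j 1) ↔
      (m = 1 ∨ m = p j (σ j) ∨ m = p j (1 - σ j)) := by
    intro j m
    rcases htwo (σ j) with ⟨h1, h2⟩ | ⟨h1, h2⟩ <;> rw [h1] <;> simp only [h1] at h2 <;>
      rw [show ((1 : Fin 2) - _) = _ from h2] <;> tauto
  have hdvd : ∀ (j k : Fin s) (m : ℕ) (i : Fin 2), (m = 1 ∨ m = p k 0 ∨ m = p k 1) →
      p j i ∣ m → k = j := by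
    intro j k m i hm hd
    rcases hm with rfl | rfl | rfl
    · exact absurd (Nat.dvd_one.1 hd) (hp j i).ne_one
    · exact ((hinj _ _ _ _ ((Nat.prime_dvd_prime_iff_eq (hp j i) (hp k 0)).1 hd)).1).symm
    · exact ((hinj _ _ _ _ ((Nat.prime_dvd_prime_iff_eq (hp j i) (hp k 1)).1 hd)).1).symm
  have hord : ∀ x : (∀ j, T j), orderOf x = ∏ j, orderOf (x j) := by
    intro x
    apply Nat.dvd_antisymm
    · refine orderOf_dvd_of_pow_eq_one (funext fun j => ?_)
      exact orderOf_dvd_iff_pow_eq_one.1 (Finset.dvd_prod_of_mem _ (Finset.mem_univ j))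
    · refine Fintype.prod_dvd_of_isRelPrime ?_ fun j => orderOf_dvd_of_pow_eq_one
        (congrFun (pow_orderOf_eq_one x) j)
      intro j k hjk
      rw [Function.onFun, ← Nat.coprime_iff_isRelPrime]
      apply Nat.coprime_of_dvd
      intro r hr hj hk
      rcases (hT j).ord (x j) with h | h | h <;> rw [h] at hj
      · exact hr.ne_one (Nat.dvd_one.1 hj)
      all_goals
        rw [(Nat.prime_dvd_prime_iff_eq hr (hp j _)).1 hj] at hk
        exact hjk (hdvd j k _ _ ((hopt k _).2 ((hT k).ord (x k))) hk).symm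
  set S := {m : ℕ | ∃ c : Fin s → ℕ, (∀ j, c j = 1 ∨ c j = p j 0 ∨ c j = p j 1) ∧ m = ∏ j, c j}
  have hS : Set.range (orderOf : (∀ j, T j) → ℕ) = S := by
    ext m
    constructor
    · rintro ⟨x, rfl⟩
      exact ⟨fun j => orderOf (x j), fun j => (hopt j _).2 ((hT j).ord (x j)), hord x⟩
    · rintro ⟨c, hc, rfl⟩
      have : ∀ j, ∃ x : T j, orderOf x = c j := by
        intro j
        rcases (hopt j _).1 (hc j) with h | h | h
        · exact ⟨1, by rw [h, orderOf_one]⟩
        · rw [h]; exact (hT j).exP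
        · rw [h]; exact (hT j).exQ
      choose x hx using this
      exact ⟨x, by rw [hord]; exact Finset.prod_congr rfl fun j _ => hx j⟩
  refine ⟨hS, fun H N _ hne heq => ?_⟩
  have hsingle : ∀ j (i : Fin 2), ∃ w : ↥H ⧸ N, orderOf w = p j i := by
    intro j i
    have : p j i ∈ S := ⟨fun k => if k = j then p j i else 1, fun k => by
      by_cases h : k = j
      · subst h; simp only [if_true]
        rcases htwo i with ⟨rfl, -⟩ | ⟨rfl, -⟩
        · exact Or.inr (Or.inl rfl)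
        · exact Or.inr (Or.inr rfl)
      · exact Or.inl (if_neg h), by rw [Finset.prod_ite_eq' Finset.univ j]; simp⟩
    rw [← heq] at this
    exact this
  have hH : H = ⊤ := by
    rw [eq_top_iff]
    intro x _
    apply Subgroup.pi_mem_of_mulSingle_mem
    intro j
    have hU : H.comap (MonoidHom.mulSingle T j) = ⊤ := by
      have hel : ∀ i : Fin 2, ∃ u ∈ H.comap (MonoidHom.mulSingle T j), orderOf u = p j i := by
        intro i
        obtain ⟨w, hw⟩ := hsingle j i
        obtain ⟨h, rfl⟩ := QuotientGroup.mk_surjective w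
        have hd : p j i ∣ orderOf h := hw ▸ orderOf_map_dvd (QuotientGroup.mk' N) h
        haveI := Fact.mk (hp j i)
        obtain ⟨g, hg⟩ : ∃ g : ↥H, orderOf g = p j i :=
          ⟨h ^ (orderOf h / p j i), orderOf_pow_orderOf_div (orderOf_pos h).ne' hd⟩
        rw [← Subgroup.orderOf_coe] at hg
        have hk1 : ∀ k, k ≠ j → (g : ∀ j, T j) k = 1 := by
          intro k hk
          rw [← orderOf_eq_one_iff]
          have h1 : orderOf ((g : ∀ j, T j) k) ∣ p j i := by
            rw [← hg, hord]; exact Finset.dvd_prod_of_mem _ (Finset.mem_univ k)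
          rcases (Nat.dvd_prime (hp j i)).1 h1 with h2 | h2
          · exact h2
          · exact absurd (hdvd j k _ i ((hopt k _).2 ((hT k).ord _)) h2.symm.dvd) hk
        have hgs : Pi.mulSingle j ((g : ∀ j, T j) j) = (g : ∀ j, T j) := by
          funext k
          by_cases hk : k = j
          · subst hk; simp
          · rw [Pi.mulSingle_eq_of_ne hk, hk1 k hk]
        refine ⟨(g : ∀ j, T j) j, ?_, ?_⟩
        · show Pi.mulSingle j ((g : ∀ j, T j) j) ∈ H
          rw [hgs]; exact g.2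
        · rw [← hg, hord, Finset.prod_eq_single j (fun k _ hk => by rw [hk1 k hk, orderOf_one])
            (fun h => absurd (Finset.mem_univ j) h)]
      exact (hT j).gen _ (hel (σ j)) (hel (1 - σ j))
    exact (hU.symm ▸ Subgroup.mem_top (x j) : x j ∈ H.comap (MonoidHom.mulSingle T j))
  have hN : N ≠ ⊥ := hne.resolve_left (fun h => h hH)
  obtain ⟨n, hn⟩ := Subgroup.ne_bot_iff_exists_ne_one.1 hN
  obtain ⟨j, hj⟩ : ∃ j, ((n : ↥H) : ∀ j, T j) j ≠ 1 := by
    by_contra h
    push Not at h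
    exact hn (Subtype.ext (Subtype.ext (funext h)))
  obtain ⟨y, hy⟩ : ∃ y : T j, ((n : ↥H) : ∀ j, T j) j * y ≠ y * ((n : ↥H) : ∀ j, T j) j := by
    by_contra h
    push Not at h
    exact hj ((hT j).centerless _ h)
  have hmemH : ∀ z : ∀ j, T j, z ∈ H := fun z => hH ▸ Subgroup.mem_top z
  let ι : T j →* ↥H := (MonoidHom.mulSingle T j).codRestrict H fun z => hmemH _
  have hι : N.comap ι ≠ ⊥ := by
    intro hb
    apply hy
    have hmem : (n : ↥H) * ι y * (n : ↥H)⁻¹ * (ι y)⁻¹ ∈ N := by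
      rw [mul_assoc, mul_assoc, ← mul_assoc (ι y)]
      exact N.mul_mem n.2 (‹N.Normal›.conj_mem _ (N.inv_mem n.2) (ι y))
    have heq' : (n : ↥H) * ι y * (n : ↥H)⁻¹ * (ι y)⁻¹ =
        ι (((n : ↥H) : ∀ j, T j) j * y * (((n : ↥H) : ∀ j, T j) j)⁻¹ * y⁻¹) := by
      apply Subtype.ext
      funext k
      by_cases hk : k = j
      · subst hk; simp [ι]
      · simp [ι, Pi.mulSingle_eq_of_ne hk]
    rw [heq', ← Subgroup.mem_comap, hb, Subgroup.mem_bot, mul_inv_eq_one, mul_inv_eq_iff_eq_mul] at hmem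
    exact hmem
  obtain ⟨w, hw⟩ := hsingle j (σ j)
  obtain ⟨h, rfl⟩ := QuotientGroup.mk_surjective w
  have hd : p j (σ j) ∣ orderOf h := hw ▸ orderOf_map_dvd (QuotientGroup.mk' N) h
  rw [← Subgroup.orderOf_coe] at hd
  rw [hord] at hd
  obtain ⟨k, -, hk⟩ := ((hp j (σ j)).prime.dvd_finsetProd_iff _).1 hd
  obtain rfl : k = j := hdvd j k _ _ ((hopt k _).2 ((hT k).ord _)) hk
  have hjp : ((h : ∀ j, T j) k) ^ p k (σ k) = 1 := by
    rcases (hT k).ord ((h : ∀ j, T j) k) with h1 | h1 | h1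
    · rw [h1] at hk; exact absurd (Nat.dvd_one.1 hk) (hp k _).ne_one
    · rw [← h1, pow_orderOf_eq_one]
    · rw [h1, Nat.prime_dvd_prime_iff_eq (hp k _) (hp k _)] at hk
      have h3 : ∀ u : Fin 2, u ≠ 1 - u := by decide
      exact absurd (hinj _ _ _ _ hk).2 (h3 _)
  have hin : ι ((h : ∀ j, T j) k) ∈ N :=
    (hT k).normal _ (‹N.Normal›.comap ι) hι _ hjp
  have heq2 : ((h : ↥H) : ↥H ⧸ N) = (((ι ((h : ∀ j, T j) k))⁻¹ * h : ↥H) : ↥H ⧸ N) := by
    rw [QuotientGroup.mk_mul, QuotientGroup.mk_inv, (QuotientGroup.eq_one_iff _).2 hin, inv_one, one_mul]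
  rw [heq2] at hw
  have hd2 : p k (σ k) ∣ orderOf ((ι ((h : ∀ j, T j) k))⁻¹ * h) :=
    hw ▸ orderOf_map_dvd (QuotientGroup.mk' N) _
  rw [← Subgroup.orderOf_coe, hord] at hd2
  obtain ⟨l, -, hl⟩ := ((hp k (σ k)).prime.dvd_finsetProd_iff _).1 hd2
  obtain rfl : l = k := hdvd k l _ _ ((hopt l _).2 ((hT l).ord _)) hl
  rw [show (((ι ((h : ∀ j, T j) l))⁻¹ * h : ↥H) : ∀ j, T j) l = 1 by simp [ι], orderOf_one] at hl
  exact (hp l _).ne_one (Nat.dvd_one.1 hl)

end aux


/-- A finite group is critical with respect to a set Ω of natural numbers when its set of element orders is Ω while no proper section H/N (H a subgroup, N normal in H, (H, N) ≠ (whole group, 1)) has Ω as its set of element orders. Let s ≥ 1 and let p(j,0), p(j,1) (j < s) be 2s pairwise distinct primes, and let Ω be the set of all products c(0)·…·c(s−1) with each c(j) ∈ {1, p(j,0), p(j,1)}. Then there are 2^s pairwise non-isomorphic finite groups critical with respect to Ω. -/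
theorem result (s : ℕ) (hs : 1 ≤ s) (p : Fin s → Fin 2 → ℕ)
    (hp : ∀ j i, (p j i).Prime) (hinj : ∀ j i j' i', p j i = p j' i' → j = j' ∧ i = i') :
    ∃ (G : Fin (2 ^ s) → Type) (_ : ∀ a, Group (G a)) (_ : ∀ a, Fintype (G a)),
      (∀ a b, a ≠ b → ¬ Nonempty (G a ≃* G b)) ∧
      ∀ a, Set.range (orderOf : (G a) → ℕ) = {m : ℕ | ∃ c : Fin s → ℕ, (∀ j, c j = 1 ∨ c j = p j 0 ∨ c j = p j 1) ∧ m = ∏ j, c j} ∧
      ∀ (H : Subgroup (G a)) (N : Subgroup ↥H) [N.Normal], (H ≠ ⊤ ∨ N ≠ ⊥) → Set.range (orderOf : (↥H ⧸ N) → ℕ) ≠ {m : ℕ | ∃ c : Fin s → ℕ, (∀ j, c j = 1 ∨ c j = p j 0 ∨ c j = p j 1) ∧ m = ∏ j, c j} := by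
  classical
  have hne : ∀ (j : Fin s) (i i' : Fin 2), p j i = p j i' → i = i' := fun j i i' h => (hinj _ _ _ _ h).2
  have hblk : ∀ (j : Fin s) (i : Fin 2), ∃ (T : Type) (_ : Group T) (_ : Fintype T),
      Blk T (p j i) (p j (1 - i)) := fun j i => by
    refine exists_blk (hp j i) (hp j (1 - i)) fun h => ?_
    have h3 : ∀ u : Fin 2, u ≠ 1 - u := by decide
    exact h3 i (hne j i (1 - i) h)
  choose T iG iF hT using hblk
  let e : Fin (2 ^ s) ≃ (Fin s → Fin 2) := finFunctionFinEquiv.symm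
  let G : Fin (2 ^ s) → Type := fun a => ∀ j, T j (e a j)
  letI iGG : ∀ a, Group (G a) := fun a => @Pi.group _ _ (fun j => iG j (e a j))
  letI iFF : ∀ a, Fintype (G a) := fun a => @Pi.instFintype _ _ _ _ (fun j => iF j (e a j))
  refine ⟨G, iGG, iFF, ?_, fun a => ?_⟩
  · intro a b hab ⟨φ⟩
    obtain ⟨j, hj⟩ : ∃ j, e a j ≠ e b j := by
      by_contra h
      push Not at h
      exact hab (e.injective (funext h))
    letI := fun k => iG k (e a k)
    letI := fun k => iG k (e b k)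
    letI := fun k => iF k (e a k)
    letI := fun k => iF k (e b k)
    have hbe : (1 : Fin 2) - e b j = e a j := by
      revert hj; generalize e a j = u; generalize e b j = v; revert u v; decide
    obtain ⟨x, y, hxy, hx, hy⟩ := (hT j (e b j)).noncomm
    rw [hbe] at hx hy
    have key : ∀ z : (∀ k, T k (e a k)), z ^ p j (e a j) = 1 → ∀ k, k ≠ j → z k = 1 := by
      intro z hz k hk
      have h1 : orderOf (z k) ∣ p j (e a j) := orderOf_dvd_of_pow_eq_one (congrFun hz k)
      rw [← orderOf_eq_one_iff]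
      rcases (Nat.dvd_prime (hp _ _)).1 h1 with h | h
      · exact h
      · rcases (hT k (e a k)).ord (z k) with h2 | h2 | h2
        · exact h2
        · exact absurd (hinj _ _ _ _ (h2.symm.trans h)).1 hk
        · exact absurd (hinj _ _ _ _ (h2.symm.trans h)).1 hk
    let X : ∀ k, T k (e b k) := Pi.mulSingle j x
    let Y : ∀ k, T k (e b k) := Pi.mulSingle j y
    have hX : (φ.symm X : ∀ k, T k (e a k)) ^ p j (e a j) = 1 := by
      show (φ.symm X) ^ p j (e a j) = 1
      rw [← map_pow, show X ^ p j (e a j) = 1 from by rw [← Pi.mulSingle_pow, hx, Pi.mulSingle_one]]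
      exact map_one _
    have hY : (φ.symm Y : ∀ k, T k (e a k)) ^ p j (e a j) = 1 := by
      show (φ.symm Y) ^ p j (e a j) = 1
      rw [← map_pow, show Y ^ p j (e a j) = 1 from by rw [← Pi.mulSingle_pow, hy, Pi.mulSingle_one]]
      exact map_one _
    have hc : φ.symm X * φ.symm Y = φ.symm Y * φ.symm X := by
      funext k
      show φ.symm X k * φ.symm Y k = φ.symm Y k * φ.symm X k
      by_cases hk : k = j
      · subst hk
        exact (hT k (e a k)).comm _ _ (congrFun hX k) (congrFun hY k)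
      · rw [key _ hX k hk, key _ hY k hk]
    apply hxy
    have hXY : X * Y = Y * X := φ.symm.injective (by rw [map_mul, map_mul]; exact hc)
    simpa [X, Y] using congrFun hXY j
  · letI := fun k => iG k (e a k)
    letI := fun k => iF k (e a k)
    exact product_props p hp hinj (e a) (fun k => T k (e a k)) (fun k => hT k (e a k))

end Cfsg.Agent.S3599
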