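import Cfsg.Statements.S3600
import Cfsg.Agent.S3433
import Cfsg.Agent.Lib.SpecFive.Critical
-- import your own Cfsg.Agent.* helpers here

set_option autoImplicit false
set_option linter.style.haveILetI false
open Cfsg

namespace Cfsg.Agent.S3600

/-- A finite group is critical with respect to a set Ω of natural numbers when its set of element orders is Ω while no proper section has Ω as its set of element orders. A finite group critical with respect to {1, 2, 3, 4, 5} (the set of element orders of the alternating group of degree 6) is isomorphic either to the alternating group of degree 6 or to the affine group F² ⋊ SL(2,F) over the field F with four elements (realised as the matrices of SL(3,F) with last row (0, 0, 1)). -/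
theorem result {G : Type*} [Group G] [Finite G]
    (hcrit : Set.range (orderOf : G → ℕ) = ({1, 2, 3, 4, 5} : Set ℕ) ∧
      ∀ (H : Subgroup G) (N : Subgroup ↥H) [N.Normal], (H ≠ ⊤ ∨ N ≠ ⊥) → Set.range (orderOf : (↥H ⧸ N) → ℕ) ≠ ({1, 2, 3, 4, 5} : Set ℕ)) :
    Nonempty (G ≃* alternatingGroup (Fin 6)) ∨
      ∃ (F : Type) (_ : Field F) (_ : Fintype F), Fintype.card F = 4 ∧
        Nonempty (G ≃* ↥(Subgroup.closure {M : Matrix.SpecialLinearGroup (Fin 3) F |
          (M : Matrix (Fin 3) (Fin 3) F) 2 0 = 0 ∧ (M : Matrix (Fin 3) (Fin 3) F) 2 1 = 0 ∧ (M : Matrix (Fin 3) (Fin 3) F) 2 2 = 1})) := by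
  obtain ⟨hspec, hcrit⟩ := hcrit
  have hset : ({1, 2, 3, 4, 5} : Set ℕ) = {k : ℕ | 1 ≤ k ∧ k ≤ 5} := by
    ext k; simp; omega
  rw [hset] at hspec hcrit
  have hs : CfsgLib.SpecFive.Small G := fun g =>
    (hspec ▸ Set.mem_range_self g : orderOf g ∈ {k : ℕ | 1 ≤ k ∧ k ≤ 5}).2
  obtain ⟨R, hRn, ⟨rfl, ⟨e⟩⟩ | ⟨hR, ⟨e⟩⟩⟩ := Cfsg.Agent.S3433.main hspec
  · exact Or.inl ⟨QuotientGroup.quotientBot.symm.trans e⟩
  right
  haveI := hRn
  obtain ⟨σ₀, hσ₀⟩ := CfsgLib.SpecFive.exists_section hs R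
    (fun r => ⟨1, Subtype.ext (by
      show (r : G) ^ 2 ^ 1 = 1
      rw [pow_one]; exact hR.2 _ r.2)⟩) e
  have hR1 : R ≠ ⊥ := by
    rintro rfl
    obtain ⟨g, hg⟩ : (4 : ℕ) ∈ Set.range (orderOf : G → ℕ) := by rw [hspec]; exact ⟨by norm_num, by norm_num⟩
    have h4 : orderOf (e (QuotientGroup.quotientBot.symm g)) = 4 := by
      rw [MulEquiv.orderOf_eq, MulEquiv.orderOf_eq, hg]
    refine CfsgLib.SpecFive.a5_orders (e (QuotientGroup.quotientBot.symm g)) ⟨fun h => ?_, ?_⟩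
    · have := orderOf_dvd_of_pow_eq_one ((pow_two _).trans h)
      rw [h4] at this
      norm_num at this
    · have := pow_orderOf_eq_one (e (QuotientGroup.quotientBot.symm g))
      rwa [h4, show 4 = 2 * 2 from rfl, pow_mul, pow_two, pow_two] at this
  have hmin : ∀ (W : Subgroup G) [W.Normal], W ≤ R → W ≠ ⊥ → W = R := by
    intro W hWn hW hW1
    by_contra hne
    obtain ⟨w, hw⟩ := CfsgLib.SpecFive.exists_order_four hs R hR e W hW hne
    have hWsmall := hs.quotient W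
    let f : (⊤ : Subgroup G) ⧸ W.subgroupOf ⊤ ≃* G ⧸ W :=
      QuotientGroup.congr _ _ Subgroup.topEquiv (by
        ext x
        constructor
        · rintro ⟨a, ha, rfl⟩; exact ha
        · exact fun hx => ⟨⟨x, Subgroup.mem_top x⟩, hx, rfl⟩)
    refine hcrit ⊤ (W.subgroupOf ⊤) (Or.inr fun h => hW1 ?_) ?_
    · rwa [Subgroup.subgroupOf_eq_bot, disjoint_top] at h
    · ext k
      simp only [Set.mem_range]
      constructor
      · rintro ⟨x, rfl⟩
        refine ⟨orderOf_pos x, ?_⟩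
        rw [← f.orderOf_eq x]
        exact hWsmall _
      · rintro ⟨hk1, hk5⟩
        obtain ⟨g, hg⟩ : ∃ g : G ⧸ W, orderOf g = k := by
          obtain rfl | rfl | hk | rfl : k = 1 ∨ k = 2 ∨ (k = 3 ∨ k = 5) ∧ 3 ≤ k ∨ k = 4 := by omega
          · exact ⟨1, orderOf_one⟩
          · exact ⟨w ^ 2, by rw [orderOf_pow, hw]; rfl⟩
          · obtain ⟨g, hg⟩ : k ∈ Set.range (orderOf : G → ℕ) := by rw [hspec]; exact ⟨hk1, hk5⟩
            refine ⟨QuotientGroup.mk' W g, ?_⟩
            haveI : Fact k.Prime := ⟨by rcases hk.1 with rfl | rfl <;> norm_num⟩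
            refine orderOf_eq_prime (by rw [← map_pow, ← hg, pow_orderOf_eq_one, map_one]) fun h => ?_
            have h2 := hR.2 g (hW ((QuotientGroup.eq_one_iff g).1 h))
            have h3 := orderOf_dvd_of_pow_eq_one h2
            rw [hg] at h3
            have := Nat.le_of_dvd two_pos h3
            omega
          · exact ⟨w, hw⟩
        exact ⟨f.symm g, by rw [f.symm.orderOf_eq, hg]⟩
  letI : Fintype (GaloisField 2 2) := Fintype.ofFinite _
  have h4 : Fintype.card (GaloisField 2 2) = 4 := by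
    rw [← Nat.card_eq_fintype_card, GaloisField.card 2 2 (by norm_num)]; norm_num
  obtain ⟨ψ⟩ := Cfsg.Agent.S0252.result h4
  have hz : Subgroup.center (Matrix.SpecialLinearGroup (Fin 2) (GaloisField 2 2)) = ⊥ := by
    rw [← Subgroup.card_eq_one, CfsgLib.Linear.card_center_SL, h4, Fintype.card_fin]; rfl
  let j : Matrix.SpecialLinearGroup (Fin 2) (GaloisField 2 2) ≃* alternatingGroup (Fin 5) :=
    ((QuotientGroup.quotientMulEquivOfEq hz).trans QuotientGroup.quotientBot).symm.trans ψ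
  let σ := σ₀.comp j.toMonoidHom
  have hσ : ∀ g, σ g ∈ R → g = 1 := by
    intro g hg
    have h := hσ₀ (j g)
    rw [show QuotientGroup.mk' R (σ₀ (j g)) = 1 from (QuotientGroup.eq_one_iff _).2 hg, map_one] at h
    exact j.injective (h.symm.trans (map_one j).symm)
  have hσR : ∀ g : G, ∃ s, g * (σ s)⁻¹ ∈ R := by
    intro g
    refine ⟨j.symm (e (QuotientGroup.mk' R g)), ?_⟩
    rw [← QuotientGroup.eq_one_iff]
    show QuotientGroup.mk' R (g * (σ₀ (j (j.symm (e (QuotientGroup.mk' R g)))))⁻¹) = 1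
    rw [j.apply_symm_apply, map_mul, map_inv, e.injective (hσ₀ _), mul_inv_cancel]
  obtain ⟨φ, hφi, hφR, hφe⟩ := CfsgLib.SpecFive.exists_natural hs R hR hR1 h4 σ hσ
  have hle : φ.range ≤ R := by rintro _ ⟨a, rfl⟩; exact hφR a
  have hn : φ.range.Normal := ⟨by
    rintro _ ⟨a, rfl⟩ g
    obtain ⟨s, hs'⟩ := hσR g
    refine ⟨Multiplicative.ofAdd ((s : Matrix (Fin 2) (Fin 2) (GaloisField 2 2)).mulVec a.toAdd), ?_⟩
    rw [← hφe, ofAdd_toAdd]
    have hc := congrArg Subtype.val (hR.1.is_comm.comm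
      ⟨σ s * φ a * (σ s)⁻¹, hRn.conj_mem _ (hφR a) _⟩ ⟨g * (σ s)⁻¹, hs'⟩)
    change σ s * φ a * (σ s)⁻¹ * (g * (σ s)⁻¹) = g * (σ s)⁻¹ * (σ s * φ a * (σ s)⁻¹) at hc
    calc σ s * φ a * (σ s)⁻¹
        = σ s * φ a * (σ s)⁻¹ * (g * (σ s)⁻¹) * (g * (σ s)⁻¹)⁻¹ := (mul_inv_cancel_right _ _).symm
      _ = g * φ a * g⁻¹ := by rw [hc]; group⟩
  have hne : φ.range ≠ ⊥ := by
    intro h
    have h1 : φ (Multiplicative.ofAdd ![1, 0]) = 1 := Subgroup.mem_bot.1 (h ▸ ⟨_, rfl⟩)
    have h2 := congrArg Multiplicative.toAdd (hφi (h1.trans (map_one φ).symm))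
    exact one_ne_zero (congrFun h2 0)
  haveI := hn
  obtain ⟨E⟩ := CfsgLib.SpecFive.affine_equiv R σ hσ hσR φ hφi (hmin φ.range hle hne) hφe
  exact ⟨GaloisField 2 2, inferInstance, inferInstance, h4, ⟨E.symm⟩⟩

end Cfsg.Agent.S3600
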