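import Cfsg.Statements.S3611
import Cfsg.Agent.Lib.Perm.PrimeHalf

set_option autoImplicit false
open Cfsg

namespace Cfsg.Agent.S3611

/-- Let G be an insoluble group acting faithfully and transitively on a finite set of prime size p, and suppose the normalizer of a Sylow p-subgroup of G has order p(p-1)/2. If p ≡ 3 (mod 4), then G is triply transitive, or for any two distinct points the stabilizer of both has exactly four orbits on the set (the two fixed points and exactly two orbits on the remaining p - 2 points). -/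
theorem result {G Ω : Type*} [Group G] [Finite G] [MulAction G Ω] [FaithfulSMul G Ω] [Finite Ω]
    (p : ℕ) (hp : p.Prime) (hΩ : Nat.card Ω = p) (htrans : MulAction.IsPretransitive G Ω)
    (hins : ¬ Group.IsSolvable G) (P : Sylow p G)
    (hN : 2 * Nat.card ↥(Subgroup.normalizer ((P : Subgroup G) : Set G)) = p * (p - 1))
    (hp3 : p % 4 = 3) :
    MulAction.IsMultiplyPretransitive G Ω 3 ∨
    ∀ α β : Ω, α ≠ β →
      Nat.card (MulAction.orbitRel.Quotient ↥(MulAction.stabilizer G α ⊓ MulAction.stabilizer G β) Ω) = 4 := by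
  classical
  haveI := Fintype.ofFinite Ω
  haveI : Fact p.Prime := ⟨hp⟩
  haveI := htrans
  have hΩ' : Fintype.card Ω = p := by rw [← Nat.card_eq_fintype_card]; exact hΩ
  obtain ⟨h2, h5⟩ := CfsgLib.Perm.two_transitive_of_not_isSolvable' (G := G) hΩ' hins
  haveI := h2
  have h2t : ∀ {a b c d : Ω}, a ≠ b → c ≠ d → ∃ g : G, g • a = c ∧ g • b = d :=
    fun {a b c d} h h' => MulAction.is_two_pretransitive_iff.mp inferInstance h h'
  rw [or_iff_not_imp_left]
  intro h3 α β hαβ
  set S := MulAction.stabilizer G α ⊓ MulAction.stabilizer G β with hS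
  have hrel : ∀ a b, (Quotient.mk'' a : MulAction.orbitRel.Quotient S Ω) = Quotient.mk'' b ↔
      ∃ g : G, g • α = α ∧ g • β = β ∧ g • b = a := fun a b => by
    rw [Quotient.eq'', MulAction.orbitRel_apply, MulAction.mem_orbit_iff]
    constructor
    · rintro ⟨⟨g, h1, h2⟩, h⟩
      exact ⟨g, h1, h2, h⟩
    · rintro ⟨g, h1, h2, h⟩
      exact ⟨⟨g, h1, h2⟩, h⟩
  -- a third point
  obtain ⟨γ₁, hγ₁⟩ : ∃ c : Ω, c ∉ ({α, β} : Finset Ω) :=
    (Finset.exists_mem_notMem_of_card_lt_card (t := Finset.univ)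
      (lt_of_le_of_lt Finset.card_le_two (by rw [Finset.card_univ, hΩ']; omega))).imp fun c h => h.2
  simp only [Finset.mem_insert, Finset.mem_singleton, not_or] at hγ₁
  -- a fourth one, in a different orbit
  obtain ⟨γ₂, hγ₂α, hγ₂β, hγ₂⟩ : ∃ c : Ω, c ≠ α ∧ c ≠ β ∧
      (Quotient.mk'' c : MulAction.orbitRel.Quotient S Ω) ≠ Quotient.mk'' γ₁ := by
    by_contra hcon
    push Not at hcon
    apply h3
    have key : ∀ u : Fin 3 ↪ Ω, ∃ g : G, g • u 0 = α ∧ g • u 1 = β ∧ g • u 2 = γ₁ := fun u => by
      obtain ⟨g, hg0, hg1⟩ := h2t (u.injective.ne (by decide : (0 : Fin 3) ≠ 1)) hαβ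
      obtain ⟨k, hk0, hk1, hk⟩ := (hrel _ _).mp (hcon (g • u 2)
        (fun h => u.injective.ne (by decide : (2 : Fin 3) ≠ 0) (MulAction.injective g (h.trans hg0.symm)))
        (fun h => u.injective.ne (by decide : (2 : Fin 3) ≠ 1) (MulAction.injective g (h.trans hg1.symm))))
      refine ⟨k⁻¹ * g, ?_, ?_, ?_⟩ <;> rw [mul_smul, inv_smul_eq_iff]
      · rw [hg0, hk0]
      · rw [hg1, hk1]
      · exact hk.symm
    refine ⟨fun u v => ?_⟩
    obtain ⟨g, a0, a1, a2⟩ := key u
    obtain ⟨k, b0, b1, b2⟩ := key v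
    refine ⟨k⁻¹ * g, ?_⟩
    ext i
    show (k⁻¹ * g) • u i = v i
    rw [mul_smul, inv_smul_eq_iff]
    fin_cases i
    · exact a0.trans b0.symm
    · exact a1.trans b1.symm
    · exact a2.trans b2.symm
  let q : Ω → MulAction.orbitRel.Quotient S Ω := Quotient.mk''
  have hfixα : ∀ c, q c = q α → c = α := fun c h => by
    obtain ⟨g, h1, -, h⟩ := (hrel _ _).mp h
    exact h.symm.trans h1
  have hfixβ : ∀ c, q c = q β → c = β := fun c h => by
    obtain ⟨g, -, h1, h⟩ := (hrel _ _).mp h
    exact h.symm.trans h1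
  rw [← Nat.card_fin 4]
  refine (Nat.card_congr (Equiv.ofBijective (fun i : Fin 4 => q (![α, β, γ₁, γ₂] i)) ⟨?_, ?_⟩)).symm
  · intro i j h
    fin_cases i <;> fin_cases j <;> simp at h <;>
      first
        | rfl
        | exact absurd (hfixβ _ h) hαβ
        | exact absurd (hfixβ _ h.symm) hαβ
        | exact absurd (hfixα _ h) hγ₁.1
        | exact absurd (hfixα _ h.symm) hγ₁.1
        | exact absurd (hfixβ _ h) hγ₁.2
        | exact absurd (hfixβ _ h.symm) hγ₁.2
        | exact absurd (hfixα _ h) hγ₂α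
        | exact absurd (hfixα _ h.symm) hγ₂α
        | exact absurd (hfixβ _ h) hγ₂β
        | exact absurd (hfixβ _ h.symm) hγ₂β
        | exact absurd h hγ₂
        | exact absurd h.symm hγ₂
  · intro y
    induction y using Quotient.inductionOn' with
    | h c =>
      by_contra hcon
      push Not at hcon
      have hcα : c ≠ α := fun h => hcon 0 (by simp [q, h])
      have hcβ : c ≠ β := fun h => hcon 1 (by simp [q, h])
      have hc1 : q c ≠ q γ₁ := fun h => hcon 2 h.symm
      have hc2 : q c ≠ q γ₂ := fun h => hcon 3 h.symm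
      refine CfsgLib.Perm.two_point_stabilizer_not_three_orbits hΩ' hins P (le_of_eq hN.symm) α β
        hαβ ![γ₁, γ₂, c] ?_ ?_ ?_
      · intro i; fin_cases i <;> [exact hγ₁.1; exact hγ₂α; exact hcα]
      · intro i; fin_cases i <;> [exact hγ₁.2; exact hγ₂β; exact hcβ]
      · intro i j g hgα hgβ h
        have h' : q (![γ₁, γ₂, c] j) = q (![γ₁, γ₂, c] i) := (hrel _ _).mpr ⟨g, hgα, hgβ, h⟩
        fin_cases i <;> fin_cases j <;>
          first
            | rfl
            | exact absurd h' hγ₂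
            | exact absurd h'.symm hγ₂
            | exact absurd h' hc1
            | exact absurd h'.symm hc1
            | exact absurd h' hc2
            | exact absurd h'.symm hc2

end Cfsg.Agent.S3611
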