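import Cfsg.Statements.S3613
import Cfsg.Agent.Lib.Perm.TwinPrimeFive

set_option autoImplicit false
open Cfsg

namespace Cfsg.Agent.S3613

/-- Let G be an insoluble group acting faithfully and transitively on a finite set of prime size p, and suppose the normalizer of a Sylow p-subgroup of G has order p(p-1)/2. If p = q + 2 for a prime q > 5, then G is 5-fold transitive. -/
theorem result {G Ω : Type*} [Group G] [Finite G] [MulAction G Ω] [FaithfulSMul G Ω] [Finite Ω]
    (p : ℕ) (hp : p.Prime) (hΩ : Nat.card Ω = p) (htrans : MulAction.IsPretransitive G Ω)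
    (hins : ¬ Group.IsSolvable G) (P : Sylow p G)
    (hN : 2 * Nat.card ↥(Subgroup.normalizer ((P : Subgroup G) : Set G)) = p * (p - 1))
    (q : ℕ) (hq : q.Prime) (hq5 : 5 < q) (hpq : p = q + 2) :
    MulAction.IsMultiplyPretransitive G Ω 5 := by
  classical
  haveI : Fact p.Prime := ⟨hp⟩
  letI := Fintype.ofFinite Ω
  haveI := htrans
  set H : Subgroup (Equiv.Perm Ω) := (MulAction.toPermHom G Ω).range with hH
  haveI : MulAction.IsPretransitive H Ω := ⟨fun a b => by
    obtain ⟨g, hg⟩ := MulAction.exists_smul_eq G a b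
    exact ⟨⟨MulAction.toPermHom G Ω g, g, rfl⟩, hg⟩⟩
  let e : G ≃* H := MonoidHom.ofInjective (f := MulAction.toPermHom G Ω) MulAction.toPerm_injective
  have hnsol : ¬ Group.IsSolvable H := fun h =>
    hins (Group.isSolvable_of_isSolvable_injective (f := e.toMonoidHom) e.injective)
  let Q : Sylow p H := P.mapSurjective (f := e.toMonoidHom) e.surjective
  have hQ : (Q : Subgroup H) = (P : Subgroup G).map e.toMonoidHom := rfl
  have hQN : 2 * Nat.card ↥(Subgroup.normalizer ((Q : Subgroup H) : Set H)) = p * (p - 1) := by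
    rw [hQ, ← Subgroup.map_equiv_normalizer_eq, Subgroup.card_map_of_injective (f := e.toMonoidHom) e.injective]
    exact hN
  have h5 := CfsgLib.Perm.Twin.five_key hq hq5 hpq (by rw [← Nat.card_eq_fintype_card, hΩ]) H
    hnsol Q hQN
  refine ⟨fun u v => ?_⟩
  obtain ⟨⟨_, g, rfl⟩, hg⟩ := MulAction.exists_smul_eq H u v
  refine ⟨g, ?_⟩
  ext i
  exact DFunLike.congr_fun hg i

end Cfsg.Agent.S3613
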