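import Cfsg.Statements.S3614
import Cfsg.Agent.S3613
import Cfsg.Agent.Lib.Perm.SmallOrbitAlt
import Cfsg.Agent.S0989

set_option autoImplicit false
open Cfsg

namespace Cfsg.Agent.S3614

/-- Let G be an insoluble group acting faithfully and transitively on a finite set of prime size p, and suppose the normalizer of a Sylow p-subgroup of G has order p(p-1)/2. If p = q + 2 = 2r + 3 > 9 or p = q + 2 = 3r + 4 > 13 with q and r prime, then G is isomorphic to the alternating group of degree p. -/
theorem result {G Ω : Type*} [Group G] [Finite G] [MulAction G Ω] [FaithfulSMul G Ω] [Finite Ω]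
    (p : ℕ) (hp : p.Prime) (hΩ : Nat.card Ω = p) (htrans : MulAction.IsPretransitive G Ω)
    (hins : ¬ Group.IsSolvable G) (P : Sylow p G)
    (hN : 2 * Nat.card ↥(Subgroup.normalizer ((P : Subgroup G) : Set G)) = p * (p - 1))
    (q r : ℕ) (hq : q.Prime) (hr : r.Prime)
    (hcases : (p = q + 2 ∧ p = 2 * r + 3 ∧ 9 < p) ∨ (p = q + 2 ∧ p = 3 * r + 4 ∧ 13 < p)) :
    Nonempty (G ≃* alternatingGroup (Fin p)) := by
  classical
  haveI : Fact p.Prime := ⟨hp⟩
  letI := Fintype.ofFinite Ω
  haveI := htrans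
  obtain ⟨hpq, hq5, hr5, j, t, hjt, hcard⟩ : p = q + 2 ∧ 5 < q ∧ 5 ≤ r ∧
      ∃ j t : ℕ, (j = 2 ∧ t = 3 ∨ j = 3 ∧ t = 4) ∧ p = t + j * r := by
    have h2 := hr.two_le
    rcases hcases with ⟨h1, h3, h4⟩ | ⟨h1, h3, h4⟩
    · refine ⟨h1, by omega, ?_, 2, 3, Or.inl ⟨rfl, rfl⟩, by omega⟩
      by_contra h
      interval_cases r <;> first | omega | exact absurd hr (by decide)
    · refine ⟨h1, by omega, ?_, 3, 4, Or.inr ⟨rfl, rfl⟩, by omega⟩
      by_contra h
      interval_cases r <;> first | omega | exact absurd hr (by decide)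
  have h5 := Cfsg.Agent.S3613.result p hp hΩ htrans hins P hN q hq hq5 hpq
  set H : Subgroup (Equiv.Perm Ω) := (MulAction.toPermHom G Ω).range with hH
  have h5H : MulAction.IsMultiplyPretransitive H Ω 5 := ⟨fun u v => by
    obtain ⟨g, hg⟩ := MulAction.exists_smul_eq G u v
    refine ⟨⟨MulAction.toPermHom G Ω g, g, rfl⟩, ?_⟩
    ext i
    exact DFunLike.congr_fun hg i⟩
  have hΩ' : Fintype.card Ω = p := by rw [← Nat.card_eq_fintype_card, hΩ]
  have halt := CfsgLib.Perm.Twin.alternatingGroup_le_of_small_orbits hr hr5 hjt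
    (hΩ'.trans hcard) H h5H
  let e : G ≃* H := MonoidHom.ofInjective (f := MulAction.toPermHom G Ω) MulAction.toPerm_injective
  have hne : H ≠ ⊤ := by
    intro htop
    let f : G ≃* Equiv.Perm Ω := e.trans ((MulEquiv.subgroupCongr htop).trans Subgroup.topEquiv)
    let Q : Sylow p (Equiv.Perm Ω) := P.mapSurjective (f := f.toMonoidHom) f.surjective
    have h := Cfsg.Agent.S0989.result p (Or.inl hΩ') Q
    have hQ : (Q : Subgroup (Equiv.Perm Ω)) = (P : Subgroup G).map f.toMonoidHom := rfl
    rw [hQ, ← Subgroup.map_equiv_normalizer_eq,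
      Subgroup.card_map_of_injective (f := f.toMonoidHom) f.injective] at h
    rw [h] at hN
    have : 0 < p * (p - 1) := Nat.mul_pos hp.pos (by omega)
    omega
  have hHalt : H = alternatingGroup Ω := by
    haveI : Nontrivial Ω := Fintype.one_lt_card_iff_nontrivial.mp (by omega)
    have hd := Subgroup.index_dvd_of_le halt
    rw [alternatingGroup.index_eq_two] at hd
    rcases (Nat.dvd_prime Nat.prime_two).mp hd with h | h
    · exact absurd (Subgroup.index_eq_one.mp h) hne
    · exact Equiv.Perm.eq_alternatingGroup_of_index_eq_two h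
  exact ⟨e.trans ((MulEquiv.subgroupCongr hHalt).trans
    (Equiv.altCongrHom (Fintype.equivFinOfCardEq hΩ')))⟩

end Cfsg.Agent.S3614
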