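import Cfsg.Statements.S3619
import Mathlib.GroupTheory.GroupAction.Jordan
import Mathlib.GroupTheory.GroupAction.MultiplePrimitivity

set_option autoImplicit false
open Cfsg

namespace Cfsg.Agent.S3619
open MulAction SubMulAction
open scoped Pointwise

section aux
variable {G Ω : Type*} [Group G] [MulAction G Ω] [FaithfulSMul G Ω] [Finite Ω]

lemma primitive_of_jordan (hqp : ∀ N : Subgroup G, N.Normal → N ≠ ⊥ → IsPretransitive ↥N Ω)
    (Γ : Set Ω) (hΓ1 : 1 < Γ.ncard)
    (hJ : IsPretransitive ↥(fixingSubgroup G Γᶜ) ↥(ofFixingSubgroup G Γᶜ))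
    (hJp : IsPreprimitive ↥(fixingSubgroup G Γᶜ) ↥(ofFixingSubgroup G Γᶜ)) :
    IsPreprimitive G Ω := by
  set H := fixingSubgroup G Γᶜ
  obtain ⟨x, hx, y, hy, hxy⟩ := (Set.one_lt_ncard (Set.toFinite _)).1 hΓ1
  obtain ⟨h0, hh0⟩ := @exists_smul_eq ↥H ↥(ofFixingSubgroup G Γᶜ) _ hJ
    ⟨x, by simpa [mem_ofFixingSubgroup_iff] using hx⟩ ⟨y, by simpa [mem_ofFixingSubgroup_iff] using hy⟩
  have hh0' : (h0 : G) • x = y := congrArg Subtype.val hh0
  have hne : (h0 : G) ≠ 1 := fun h => hxy (by rw [← hh0', h, one_smul])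
  haveI : IsPretransitive G Ω := by
    have htop : (⊤ : Subgroup G) ≠ ⊥ := fun h =>
      hne (Subgroup.mem_bot.1 (h ▸ Subgroup.mem_top (h0 : G)))
    haveI := hqp ⊤ inferInstance htop
    exact ⟨fun a b => by obtain ⟨g, hg⟩ := exists_smul_eq ↥(⊤ : Subgroup G) a b; exact ⟨g, hg⟩⟩
  refine ⟨fun {B} hB => ?_⟩
  by_contra hB'
  unfold IsTrivialBlock at hB'
  push Not at hB'
  obtain ⟨hns, hnu⟩ := hB'
  have hfix : ∀ h ∈ H, ∀ c : G, h • (c • B) = c • B := by
    intro h hh c
    have hBc : IsBlock G (c • B) := hB.translate c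
    by_cases hout : ∃ a ∈ c • B, a ∉ Γ
    · obtain ⟨a, ha, haΓ⟩ := hout
      have hha : h • a = a := (mem_fixingSubgroup_iff G).1 hh a haΓ
      exact hBc.smul_eq_of_mem ha (by rw [hha]; exact ha)
    · push Not at hout
      let B' : Set ↥(ofFixingSubgroup G Γᶜ) := Subtype.val ⁻¹' (c • B)
      have hmem : ∀ a ∈ c • B, a ∈ ofFixingSubgroup G Γᶜ := fun a ha => by
        simpa [mem_ofFixingSubgroup_iff] using hout a ha
      have hB'b : IsBlock ↥H B' := by
        rw [isBlock_iff_smul_eq_of_mem]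
        intro k a ha hka
        have hk : (k : G) • (c • B) = c • B := hBc.smul_eq_of_mem ha hka
        ext b
        constructor
        · rintro ⟨d, hd, rfl⟩
          show (k : G) • (d : Ω) ∈ c • B
          rw [← hk]; exact Set.smul_mem_smul_set hd
        · intro hb
          have hb' : (b : Ω) ∈ (k : G) • (c • B) := by rw [hk]; exact hb
          obtain ⟨d, hd, hdb⟩ := hb'
          exact ⟨⟨d, hmem d hd⟩, hd, Subtype.ext hdb⟩
      obtain ⟨u, hu, v, hv, huv⟩ := hns
      rcases hJp.isTrivialBlock_of_isBlock hB'b with htriv | htriv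
      · exfalso
        apply huv
        have := congrArg Subtype.val (htriv (show (⟨c • u, hmem _ (Set.smul_mem_smul_set hu)⟩ :
          ↥(ofFixingSubgroup G Γᶜ)) ∈ B' from Set.smul_mem_smul_set hu)
          (show (⟨c • v, hmem _ (Set.smul_mem_smul_set hv)⟩ :
          ↥(ofFixingSubgroup G Γᶜ)) ∈ B' from Set.smul_mem_smul_set hv))
        exact smul_left_cancel c this
      · have hΓB : ∀ a, a ∈ ofFixingSubgroup G Γᶜ → a ∈ c • B := fun a ha =>
          Set.eq_univ_iff_forall.1 htriv ⟨a, ha⟩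
        ext b
        constructor
        · rintro ⟨d, hd, rfl⟩
          exact hΓB _ (((⟨h, hh⟩ : ↥H) • (⟨d, hmem d hd⟩ : ↥(ofFixingSubgroup G Γᶜ)))).2
        · intro hb
          refine ⟨h⁻¹ • b, hΓB _ (((⟨h⁻¹, inv_mem hh⟩ : ↥H) •
            (⟨b, hmem b hb⟩ : ↥(ofFixingSubgroup G Γᶜ)))).2, smul_inv_smul h b⟩
  let K : Subgroup G := ⨅ c : G, stabilizer G (c • B)
  have hKn : K.Normal := by
    refine ⟨fun k hk g => ?_⟩
    rw [Subgroup.mem_iInf] at hk ⊢
    intro c
    have := mem_stabilizer_iff.1 (hk (g⁻¹ * c))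
    rw [mem_stabilizer_iff, mul_smul, mul_smul, smul_smul g⁻¹ c B, this, smul_smul, mul_inv_cancel_left]
  have hKbot : K ≠ ⊥ := by
    intro h
    have hm : (h0 : G) ∈ K := Subgroup.mem_iInf.2 fun c => hfix _ h0.2 c
    rw [h, Subgroup.mem_bot] at hm
    exact hne hm
  haveI := hqp K hKn hKbot
  apply hnu
  obtain ⟨u, hu⟩ := hns.nonempty
  rw [Set.eq_univ_iff_forall]
  intro b
  obtain ⟨k, hk⟩ := exists_smul_eq ↥K u b
  have h1 : (k : G) • B = B := by
    have := mem_stabilizer_iff.1 (Subgroup.mem_iInf.1 k.2 1)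
    rwa [one_smul] at this
  rw [← hk, ← h1]
  exact Set.smul_mem_smul_set hu

end aux


/-- Let G act faithfully on a finite set in such a way that every non-trivial normal subgroup of G is transitive (G is quasiprimitive). Let Γ be a subset with more than one point and not the whole set, such that the pointwise stabilizer of the complement of Γ acts transitively on Γ (a Jordan set). If that pointwise stabilizer acts primitively on Γ, then G is k-fold transitive where k is one more than the number of points outside Γ (the Jordan set is a trivial one). -/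
theorem result {G Ω : Type*} [Group G] [Finite G] [MulAction G Ω] [FaithfulSMul G Ω] [Finite Ω]
    (hqp : ∀ N : Subgroup G, N.Normal → N ≠ ⊥ → MulAction.IsPretransitive ↥N Ω)
    (Γ : Set Ω) (hΓ1 : 1 < Γ.ncard) (hΓ2 : Γ.ncard < Nat.card Ω)
    (hJ : MulAction.IsPretransitive ↥(fixingSubgroup G Γᶜ) ↥(SubMulAction.ofFixingSubgroup G Γᶜ))
    (hJp : MulAction.IsPreprimitive ↥(fixingSubgroup G Γᶜ) ↥(SubMulAction.ofFixingSubgroup G Γᶜ)) :
    MulAction.IsMultiplyPretransitive G Ω (Nat.card Ω - Γ.ncard + 1) := by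
  have hG := primitive_of_jordan hqp Γ hΓ1 hJ hJp
  have hc : Γᶜ.ncard = Nat.card Ω - Γ.ncard := Set.ncard_compl Γ
  obtain ⟨n, hn⟩ : ∃ n, Γᶜ.ncard = n + 1 := ⟨Γᶜ.ncard - 1, by omega⟩
  haveI := hG.isMultiplyPreprimitive hn (by omega) hJp
  rw [show Nat.card Ω - Γ.ncard + 1 = n + 2 by omega]
  exact MulAction.IsMultiplyPreprimitive.isMultiplyPretransitive G Ω (n + 2)

end Cfsg.Agent.S3619
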