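import Cfsg.Statements.S3620
import Cfsg.Agent.Lib.JordanSet.Primitive
import Mathlib.GroupTheory.GroupAction.Primitive
import Mathlib.GroupTheory.GroupAction.Quotient

set_option autoImplicit false
open Cfsg

namespace Cfsg.Agent.S3620
open MulAction CfsgLib.JordanSet
open scoped Pointwise

section aux
variable {G Ω : Type*} [Group G] [MulAction G Ω] [FaithfulSMul G Ω] [Fintype G] [Fintype Ω] [DecidableEq Ω]

/-- A three-cycle is inverted by a transposition. -/
lemma threeCycle_inverted {α : Type*} [Fintype α] [DecidableEq α] {σ : Equiv.Perm α}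
    (hσ : σ.IsThreeCycle) : ∃ s : Equiv.Perm α, s.IsSwap ∧ s * σ * s = σ⁻¹ := by
  obtain ⟨a, ha⟩ := hσ.isCycle.nonempty_support
  have hsupp := hσ.support_eq_iff_mem_support.mpr ha
  have hab : a ≠ σ a := fun h => Equiv.Perm.mem_support.1 ha h.symm
  have h3 : ∀ z, σ (σ (σ z)) = z := fun z => by
    have h := congrFun (congrArg DFunLike.coe (show σ ^ 3 = 1 by
      rw [← hσ.orderOf, pow_orderOf_eq_one])) z
    simpa [pow_succ] using h
  refine ⟨Equiv.swap a (σ a), ⟨a, σ a, hab, rfl⟩, ?_⟩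
  have hbb : σ (σ a) ≠ σ a := fun h => hab (σ.injective h).symm
  have hba : σ (σ a) ≠ a := fun h => hab (by have := h3 a; rw [h] at this; exact this.symm)
  symm
  rw [inv_eq_iff_mul_eq_one]
  ext z
  simp only [Equiv.Perm.mul_apply, Equiv.Perm.one_apply]
  rcases eq_or_ne z a with rfl | h1
  · rw [Equiv.swap_apply_left, Equiv.swap_apply_of_ne_of_ne hba hbb, h3]
  rcases eq_or_ne z (σ a) with rfl | h2
  · rw [Equiv.swap_apply_right, Equiv.swap_apply_right]
  rw [Equiv.swap_apply_of_ne_of_ne h1 h2]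
  by_cases hz : σ z = z
  · rw [hz, Equiv.swap_apply_of_ne_of_ne h1 h2, hz]
  · have hzs : z ∈ σ.support := Equiv.Perm.mem_support.2 hz
    rw [hsupp] at hzs
    simp only [Finset.mem_insert, Finset.mem_singleton] at hzs
    obtain rfl : z = σ (σ a) := (hzs.resolve_left h1).resolve_left h2
    rw [h3, Equiv.swap_apply_left]

/-- The subgroup of permutations of `X ∖ C` induced by elements fixing a fibre pointwise. -/
lemma fibre_fixers {G Ω X : Type*} [Group G] [MulAction G Ω] [MulAction G X] [Fintype X]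
    [DecidableEq X] (π : Ω → X) (hπ : ∀ (g : G) (z : Ω), π (g • z) = g • π z) (C : X)
    (halt : ∀ σ : Equiv.Perm X, Equiv.Perm.sign σ = 1 → ∃ g : G, MulAction.toPerm g = σ)
    (h : G) (hfib : ∀ z, π z = C → h • z = z) (hmove : ∃ x : X, h • x ≠ x)
    (Gam : Finset X) (hC : C ∉ Gam) (hsupp : ∀ x, h • x ≠ x → x ∈ Gam) (h2 : 2 ≤ Gam.card)
    (hn : 2 * Gam.card + 1 ≤ Fintype.card X)
    (c : Equiv.Perm {x : X // x ≠ C}) (hc : Equiv.Perm.sign c = 1) :
    ∃ g : G, (∀ z, π z = C → g • z = z) ∧ MulAction.toPerm g = Equiv.Perm.ofSubtype c := by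
  classical
  let K : Subgroup (Equiv.Perm {x : X // x ≠ C}) :=
    { carrier := {c | ∃ g : G, (∀ z, π z = C → g • z = z) ∧ MulAction.toPerm g = Equiv.Perm.ofSubtype c}
      one_mem' := ⟨1, fun z _ => one_smul G z, by ext x; simp⟩
      mul_mem' := fun {c d} ⟨g, hg, hgc⟩ ⟨k, hk, hkd⟩ => ⟨g * k, fun z hz => by
        rw [mul_smul, hk z hz, hg z hz], by
        rw [map_mul, ← hgc, ← hkd]; ext x; simp [mul_smul]⟩
      inv_mem' := fun {c} ⟨g, hg, hgc⟩ => ⟨g⁻¹, fun z hz => inv_smul_eq_iff.2 (hg z hz).symm, by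
        rw [map_inv, ← hgc]; ext x; rfl⟩ }
  have hnorm : ∀ c : Equiv.Perm {x : X // x ≠ C}, Equiv.Perm.sign c = 1 → ∀ d ∈ K, c * d * c⁻¹ ∈ K := by
    rintro c hc d ⟨g, hg, hgd⟩
    obtain ⟨k, hk⟩ := halt (Equiv.Perm.ofSubtype c) (by rw [Equiv.Perm.sign_ofSubtype]; exact hc)
    have hkC : k • C = C := by
      have := congrFun (congrArg DFunLike.coe hk) C
      rw [MulAction.toPerm_apply, Equiv.Perm.ofSubtype_apply_of_not_mem _ (fun h => h rfl)] at this
      exact this
    refine ⟨k * g * k⁻¹, fun z hz => ?_, ?_⟩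
    · have h1 : π (k⁻¹ • z) = C := by rw [hπ, hz, inv_smul_eq_iff, hkC]
      rw [mul_smul, mul_smul, hg _ h1, smul_inv_smul]
    · rw [map_mul, map_mul, map_inv, ← hgd, ← hk]
      ext x; simp [mul_smul]
  -- the restriction of `h`
  have hCfix : h • C = C := by
    by_contra h'; exact hC (hsupp C h')
  let h' : Equiv.Perm {x : X // x ≠ C} :=
    (MulAction.toPerm h : Equiv.Perm X).subtypePerm (p := fun x => x ≠ C)
      (fun x => ⟨fun hx h1 => hx (by simp [h1, hCfix]),
        fun hx h1 => hx (MulAction.injective h (h1.trans hCfix.symm))⟩)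
  have hh'K : h' ∈ K := ⟨h, hfib, by
    rw [Equiv.Perm.ofSubtype_subtypePerm]
    intro x hx h1; apply hx; rw [h1]; exact hCfix⟩
  have hh'a : ∀ x : {x : X // x ≠ C}, ((h' x : {x : X // x ≠ C}) : X) = h • (x : X) := fun x => rfl
  obtain ⟨x0, hx0⟩ := hmove
  have hx0C : x0 ≠ C := fun h1 => hx0 (by rw [h1, hCfix])
  let a : {x : X // x ≠ C} := ⟨x0, hx0C⟩
  have ha : h' a ≠ a := fun h1 => hx0 (congrArg Subtype.val h1)
  let Gam' : Finset {x : X // x ≠ C} := Finset.univ.filter fun x => (x : X) ∈ Gam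
  have hGam' : Gam'.card ≤ Gam.card :=
    Finset.card_le_card_of_injOn Subtype.val (fun x hx => (Finset.mem_filter.1 hx).2)
      Subtype.val_injective.injOn
  have hsub : ∀ x, h' x ≠ x → x ∈ Gam' := fun x hx =>
    Finset.mem_filter.2 ⟨Finset.mem_univ _, hsupp x fun h1 => hx (Subtype.ext h1)⟩
  have haG : a ∈ Gam' := hsub a ha
  have hX' : Fintype.card {x : X // x ≠ C} = Fintype.card X - 1 := by
    rw [Fintype.card_subtype_compl, Fintype.card_subtype_eq]
  obtain ⟨t, ht, htc⟩ := Finset.exists_subset_card_eq (s := Gam'ᶜ) (n := (Gam'.erase a).card)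
    (by rw [Finset.card_compl, Finset.card_erase_of_mem haG, hX']; omega)
  let e0 := Finset.equivOfCardEq htc.symm
  let f : ↥Gam' → {x : X // x ≠ C} := fun i =>
    if hi : (i : {x : X // x ≠ C}) = a then a
    else (e0 ⟨i, Finset.mem_erase.2 ⟨hi, i.2⟩⟩ : {x : X // x ≠ C})
  have hfne : ∀ (i : ↥Gam') (hi : (i : {x : X // x ≠ C}) ≠ a), f i ∉ Gam' := fun i hi => by
    simp only [f, dif_neg hi]
    exact Finset.mem_compl.1 (ht (Subtype.coe_prop _))
  have hfinj : Function.Injective f := by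
    intro i j hij
    by_cases hi : (i : {x : X // x ≠ C}) = a <;> by_cases hj : (j : {x : X // x ≠ C}) = a
    · exact Subtype.ext (hi.trans hj.symm)
    · exact absurd (hij ▸ (by simp only [f, dif_pos hi]; exact haG) : f j ∈ Gam') (hfne j hj)
    · exact absurd (hij.symm ▸ (by simp only [f, dif_pos hj]; exact haG) : f i ∈ Gam') (hfne i hi)
    · simp only [f, dif_neg hi, dif_neg hj] at hij
      have := congrArg Subtype.val (e0.injective (Subtype.ext hij))
      exact Subtype.ext this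
  obtain ⟨c0, hc0⟩ := Equiv.Perm.exists_extending_pair (fun i : ↥Gam' => (i : {x : X // x ≠ C})) f
    Subtype.val_injective hfinj
  obtain ⟨c1, hc1, hc1e⟩ : ∃ c1 : Equiv.Perm {x : X // x ≠ C}, Equiv.Perm.sign c1 = 1 ∧
      ∀ i : ↥Gam', c1 i = f i := by
    rcases Int.units_eq_one_or (Equiv.Perm.sign c0) with h1 | h1
    · exact ⟨c0, h1, hc0⟩
    · have him : (Finset.univ.image f).card = Gam'.card := by
        rw [Finset.card_image_of_injective _ hfinj, Finset.card_univ, Fintype.card_coe]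
      obtain ⟨u, hu, v, hv, huv⟩ := Finset.one_lt_card.1
        (show 1 < (Finset.univ.image f)ᶜ.card by rw [Finset.card_compl, him, hX']; omega)
      refine ⟨Equiv.swap u v * c0, by rw [map_mul, Equiv.Perm.sign_swap huv, h1]; rfl, fun i => ?_⟩
      rw [Equiv.Perm.mul_apply, hc0, Equiv.swap_apply_of_ne_of_ne]
      · exact fun h2 => Finset.mem_compl.1 hu (Finset.mem_image.2 ⟨i, Finset.mem_univ _, h2⟩)
      · exact fun h2 => Finset.mem_compl.1 hv (Finset.mem_image.2 ⟨i, Finset.mem_univ _, h2⟩)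
  have hca : c1 a = a := by rw [hc1e ⟨a, haG⟩]; simp [f]
  have h3 := isThreeCycle_commutator (h := h') (x := c1 * h' * c1⁻¹) (a := a) ha
    (by
      intro h1
      apply ha
      have hcinv : c1⁻¹ a = a := by rw [Equiv.Perm.inv_eq_iff_eq, hca]
      rw [Equiv.Perm.mul_apply, Equiv.Perm.mul_apply, hcinv] at h1
      exact c1.injective (h1.trans hca.symm))
    (fun z hz1 hz2 => by
      have hw : h' (c1⁻¹ z) ≠ c1⁻¹ z := by
        intro h1
        apply hz2
        rw [Equiv.Perm.mul_apply, Equiv.Perm.mul_apply, h1]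
        exact c1.apply_symm_apply z
      have hwG := hsub _ hw
      by_contra hza
      have hwa : c1⁻¹ z ≠ a := fun h1 => hza (by
        rw [← c1.apply_symm_apply z]; exact (congrArg c1 h1).trans hca)
      have := hfne ⟨_, hwG⟩ hwa
      rw [← hc1e] at this
      exact this (by
        show c1 (c1⁻¹ z) ∈ Gam'
        rw [show c1 (c1⁻¹ z) = z from c1.apply_symm_apply z]; exact hsub z hz1))
  set σ := h' * (c1 * h' * c1⁻¹) * h'⁻¹ * (c1 * h' * c1⁻¹)⁻¹ with hσdef
  have hσK : σ ∈ K :=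
    mul_mem (mul_mem (mul_mem hh'K (hnorm c1 hc1 _ hh'K)) (inv_mem hh'K)) (inv_mem (hnorm c1 hc1 _ hh'K))
  have hall : ∀ τ : Equiv.Perm {x : X // x ≠ C}, τ.IsThreeCycle → τ ∈ K := by
    intro τ hτ
    obtain ⟨d, hd⟩ := isConj_iff.1 (Equiv.Perm.isConj_iff_cycleType_eq.2 (h3.trans hτ.symm))
    rcases Int.units_eq_one_or (Equiv.Perm.sign d) with h1 | h1
    · rw [← hd]; exact hnorm d h1 _ hσK
    · obtain ⟨s, hs, hsσ⟩ := threeCycle_inverted h3
      have hs2 : s⁻¹ = s := by
        obtain ⟨u, v, -, rfl⟩ := hs; exact Equiv.swap_inv u v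
      have hd2 : d * s * σ⁻¹ * (d * s)⁻¹ = τ := by
        rw [← hd, ← hsσ, mul_inv_rev, hs2]
        have hss : s * s = 1 := by nth_rw 1 [← hs2]; rw [inv_mul_cancel]
        calc d * s * (s * σ * s) * (s * d⁻¹) = d * ((s * s) * σ * (s * s)) * d⁻¹ := by group
          _ = d * σ * d⁻¹ := by rw [hss, one_mul, mul_one]
      rw [← hd2]
      exact hnorm _ (by rw [map_mul, h1, hs.sign_eq]; rfl) _ (inv_mem hσK)
  have hle : alternatingGroup {x : X // x ≠ C} ≤ K := by
    rw [← Equiv.Perm.closure_three_cycles_eq_alternating, Subgroup.closure_le]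
    exact hall
  exact hle (Equiv.Perm.mem_alternatingGroup.2 hc)

lemma main (hqp : ∀ N : Subgroup G, N.Normal → N ≠ ⊥ → IsPretransitive ↥N Ω)
    (Γ : Finset Ω) (hΓ1 : 1 < Γ.card) (hΓ2 : 2 * Γ.card < Fintype.card Ω) (hJ : IsJordan G Γ) :
    ∀ σ : Equiv.Perm Ω, Equiv.Perm.sign σ = 1 →
      ∃ x : G, (MulAction.toPerm x : Equiv.Perm Ω) = σ := by
  classical
  obtain ⟨u, hu, u', hu', huu'⟩ := Finset.one_lt_card.1 hΓ1
  obtain ⟨h0, hh0, hh0u⟩ := hJ u hu u' hu'
  have hne : h0 ≠ 1 := fun h => huu' (by rw [← hh0u, h, one_smul])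
  haveI : IsPretransitive G Ω := by
    haveI := hqp ⊤ inferInstance (fun h => hne (Subgroup.mem_bot.1 (h ▸ Subgroup.mem_top h0)))
    exact ⟨fun a b => by obtain ⟨g, hg⟩ := exists_smul_eq ↥(⊤ : Subgroup G) a b; exact ⟨g, hg⟩⟩
  obtain ⟨H, hH, hHle⟩ := (eq_top_or_exists_le_coatom (stabilizer G u)).resolve_left
    (fun h => huu' (by
      have : h0 ∈ stabilizer G u := h ▸ Subgroup.mem_top h0
      rw [← hh0u]; exact (mem_stabilizer_iff.1 this).symm))
  haveI : Fintype (G ⧸ H) := Fintype.ofFinite _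
  have hrep : ∀ z : Ω, ∃ g : G, g • u = z := exists_smul_eq G u
  choose c hc using hrep
  let π : Ω → G ⧸ H := fun z => (c z : G ⧸ H)
  have hπu : ∀ g : G, π (g • u) = (g : G ⧸ H) := by
    intro g
    apply QuotientGroup.eq.2
    apply hHle
    rw [mem_stabilizer_iff, mul_smul]
    exact inv_smul_eq_iff.2 (hc _).symm
  have hπ : ∀ (g : G) (z : Ω), π (g • z) = g • π z := fun g z => by
    rw [← hc z, smul_smul, hπu, hπu]; rfl
  have hπsurj : Function.Surjective π := fun x => by
    obtain ⟨g, rfl⟩ := QuotientGroup.mk_surjective x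
    exact ⟨g • u, hπu g⟩
  haveI : Nontrivial (G ⧸ H) := by
    refine Finite.one_lt_card_iff_nontrivial.1 ?_
    show 1 < H.index
    exact Subgroup.one_lt_index_of_ne_top hH.1
  haveI hprimX : IsPreprimitive G (G ⧸ H) :=
    (isCoatom_stabilizer_iff_preprimitive G ((1 : G) : G ⧸ H)).1 (by rw [stabilizer_quotient]; exact hH)
  have hfaith : ∀ g : G, (∀ x : G ⧸ H, g • x = x) → g = 1 := by
    intro g hg
    by_contra hg1
    haveI := hqp (MulAction.toPermHom G (G ⧸ H)).ker inferInstance (fun h => hg1 (Subgroup.mem_bot.1 (h ▸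
      (MonoidHom.mem_ker.2 (Equiv.ext hg) : g ∈ (MulAction.toPermHom G (G ⧸ H)).ker))))
    obtain ⟨p, q, hpq⟩ := exists_pair_ne (G ⧸ H)
    obtain ⟨zp, rfl⟩ := hπsurj p
    obtain ⟨zq, rfl⟩ := hπsurj q
    obtain ⟨⟨k, hk⟩, hkz⟩ := exists_smul_eq ↥(MulAction.toPermHom G (G ⧸ H)).ker zp zq
    apply hpq
    rw [← hkz, Subgroup.smul_def, hπ]
    exact (congrFun (congrArg DFunLike.coe (MonoidHom.mem_ker.1 hk)) (π zp)).symm
  set Γb := Γ.image π
  have hout : ∀ (g : G), (∀ z, z ∉ Γ → g • z = z) → ∀ x, x ∉ Γb → g • x = x := by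
    intro g hg x hx
    obtain ⟨z, rfl⟩ := hπsurj x
    rw [← hπ, hg z fun h => hx (Finset.mem_image_of_mem π h)]
  have hΓb1 : 1 < Γb.card := by
    by_contra hle
    apply hne
    apply hfaith
    intro x
    by_cases hx : x ∈ Γb
    · obtain ⟨z, hz, rfl⟩ := Finset.mem_image.1 hx
      rw [← hπ]
      refine Finset.card_le_one.1 (not_lt.1 hle) _ ?_ _ hx
      by_cases hz' : h0 • z ∈ Γ
      · exact Finset.mem_image_of_mem π hz'
      · have := hh0 _ hz'
        rw [smul_left_cancel_iff] at this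
        exact absurd (this.symm ▸ hz) hz'
    · exact hout h0 hh0 x hx
  have hsat : ∀ z w : Ω, w ∈ Γ → π z = π w → z ∈ Γ := by
    intro z w hw hzw
    by_contra hz
    obtain ⟨p, hp, q, hq, hpq⟩ := Finset.one_lt_card.1 hΓb1
    apply hpq
    have hall : ∀ v ∈ Γ, π v = π w := fun v hv => by
      obtain ⟨g, hg, hgv⟩ := hJ w hw v hv
      rw [← hgv, hπ, ← hzw, ← hπ, hg z hz]
    obtain ⟨v, hv, rfl⟩ := Finset.mem_image.1 hp
    obtain ⟨v', hv', rfl⟩ := Finset.mem_image.1 hq
    rw [hall v hv, hall v' hv']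
  have hJb : IsJordan G Γb := by
    intro p hp q hq
    obtain ⟨v, hv, rfl⟩ := Finset.mem_image.1 hp
    obtain ⟨v', hv', rfl⟩ := Finset.mem_image.1 hq
    obtain ⟨g, hg, hgv⟩ := hJ v hv v' hv'
    exact ⟨g, hout g hg, by rw [← hπ, hgv]⟩
  have hfib : ∀ x : G ⧸ H, (Finset.univ.filter fun z => π z = x).card =
      (Finset.univ.filter fun z => π z = π u).card := by
    intro x
    obtain ⟨g, hg⟩ := exists_smul_eq G (π u) x
    refine Finset.card_bij' (fun z _ => g⁻¹ • z) (fun z _ => g • z) ?_ ?_ ?_ ?_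
    · intro z hz
      simp only [Finset.mem_filter, Finset.mem_univ, true_and] at hz ⊢
      rw [hπ, hz, inv_smul_eq_iff, hg]
    · intro z hz
      simp only [Finset.mem_filter, Finset.mem_univ, true_and] at hz ⊢
      rw [hπ, hz, hg]
    · intro z _; simp
    · intro z _; simp
  have hΓb2 : 2 * Γb.card < Fintype.card (G ⧸ H) := by
    have h1 : Γ.card = Γb.card * (Finset.univ.filter fun z => π z = π u).card := by
      rw [Finset.card_eq_sum_card_image π Γ, Finset.sum_const_nat fun x hx => ?_]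
      rw [← hfib x]
      obtain ⟨w, hw, rfl⟩ := Finset.mem_image.1 hx
      congr 1
      ext z
      simp only [Finset.mem_filter, Finset.mem_univ, true_and, and_iff_right_iff_imp]
      exact hsat z w hw
    have h2 : Fintype.card Ω = Fintype.card (G ⧸ H) * (Finset.univ.filter fun z => π z = π u).card := by
      rw [← Finset.card_univ, Finset.card_eq_sum_card_fiberwise (f := π) (t := Finset.univ)
        (fun z _ => Finset.mem_coe.2 (Finset.mem_univ _)), Finset.sum_const_nat fun x _ => hfib x,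
        Finset.card_univ]
    rw [h1, h2, ← mul_assoc] at hΓ2
    exact lt_of_mul_lt_mul_right hΓ2 (Nat.zero_le _)
  have halt := alternating_le (G := G) hJb hΓb1 hΓb2
  -- the fibres are trivial
  have hinj : Function.Injective π := by
    obtain ⟨C, -, hC⟩ := Finset.exists_mem_notMem_of_card_lt_card
      (s := Γb) (t := Finset.univ) (by rw [Finset.card_univ]; omega)
    obtain ⟨zC, hzC⟩ := hπsurj C
    have hone : ∀ w, π w = C → w = zC := by
      intro w hw
      let ε : G →* ℤˣ := Equiv.Perm.sign.comp (MulAction.toPermHom G (G ⧸ H))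
      have hεb : ε.ker ≠ ⊥ := by
        intro hb
        obtain ⟨p, hp, q, hq, hpq⟩ := Finset.one_lt_card.1 hΓb1
        have hpC : p ≠ C := fun h => hC (h ▸ hp)
        have hqC : q ≠ C := fun h => hC (h ▸ hq)
        have h3 := Equiv.Perm.isThreeCycle_swap_mul_swap_same hpq hpC hqC
        obtain ⟨g, hg⟩ := halt _ h3.sign
        have hgk : g ∈ ε.ker := by
          rw [MonoidHom.mem_ker]
          show Equiv.Perm.sign (MulAction.toPerm g : Equiv.Perm (G ⧸ H)) = 1
          rw [hg]; exact h3.sign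
        rw [hb, Subgroup.mem_bot] at hgk
        subst hgk
        exact h3.isCycle.ne_one (hg.symm.trans (by ext x; simp))
      haveI := hqp ε.ker inferInstance hεb
      obtain ⟨⟨n, hn⟩, hnz⟩ := exists_smul_eq ↥ε.ker zC w
      change n • zC = w at hnz
      have hnC : n • C = C := by rw [← hzC, ← hπ, hnz, hw, hzC]
      let n' : Equiv.Perm {x : G ⧸ H // x ≠ C} :=
        (MulAction.toPerm n : Equiv.Perm (G ⧸ H)).subtypePerm (p := fun x => x ≠ C)
          (fun x => ⟨fun hx h1 => hx (by simp [h1, hnC]),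
            fun hx h1 => hx (MulAction.injective n (h1.trans hnC.symm))⟩)
      have hn' : Equiv.Perm.ofSubtype n' = (MulAction.toPerm n : Equiv.Perm (G ⧸ H)) := by
        rw [Equiv.Perm.ofSubtype_subtypePerm]
        intro x hx h1; apply hx; rw [h1]; exact hnC
      obtain ⟨g, hgfix, hg⟩ := fibre_fixers π hπ C halt h0 (fun z hz => hh0 z fun hzΓ =>
          hC (hz ▸ Finset.mem_image_of_mem π hzΓ))
        (by
          by_contra h
          push Not at h
          exact hne (hfaith h0 h))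
        Γb hC (fun x hx => by by_contra h; exact hx (hout h0 hh0 x h)) hΓb1 hΓb2
        n' (by rw [← Equiv.Perm.sign_ofSubtype, hn']; exact MonoidHom.mem_ker.1 hn)
      have hgn : g = n := by
        rw [← inv_mul_eq_one]
        apply hfaith
        intro x
        rw [mul_smul, inv_smul_eq_iff]
        exact (congrFun (congrArg DFunLike.coe (hg.trans hn')) x).symm
      rw [← hnz, ← hgn, hgfix zC hzC]
    intro z w hzw
    obtain ⟨g, hg⟩ := exists_smul_eq G (π z) C
    apply smul_left_cancel g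
    rw [hone (g • z) (by rw [hπ, hg]), hone (g • w) (by rw [hπ, ← hzw, hg])]
  intro σ hσ
  let e := Equiv.ofBijective π ⟨hinj, hπsurj⟩
  obtain ⟨g, hg⟩ := halt (e.permCongr σ) (by rw [Equiv.Perm.sign_permCongr]; exact hσ)
  refine ⟨g, ?_⟩
  ext z
  apply hinj
  have h1 := congrFun (congrArg DFunLike.coe hg) (e z)
  rw [Equiv.permCongr_apply, Equiv.symm_apply_apply] at h1
  rw [MulAction.toPerm_apply] at h1 ⊢
  rw [hπ]
  exact h1

end aux


/-- Let G act faithfully on a finite set in such a way that every non-trivial normal subgroup of G is transitive (G is quasiprimitive). Let Γ be a subset with more than one point and fewer than half of the points, such that the pointwise stabilizer of the complement of Γ acts transitively on Γ. Then G induces every even permutation of the set (G is the alternating or the symmetric group). -/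
theorem result {G Ω : Type*} [Group G] [Finite G] [MulAction G Ω] [FaithfulSMul G Ω] [Fintype Ω] [DecidableEq Ω]
    (hqp : ∀ N : Subgroup G, N.Normal → N ≠ ⊥ → MulAction.IsPretransitive ↥N Ω)
    (Γ : Set Ω) (hΓ1 : 1 < Γ.ncard) (hΓ2 : 2 * Γ.ncard < Fintype.card Ω)
    (hJ : MulAction.IsPretransitive ↥(fixingSubgroup G Γᶜ) ↥(SubMulAction.ofFixingSubgroup G Γᶜ)) :
    ∀ σ : Equiv.Perm Ω, Equiv.Perm.sign σ = 1 → ∃ x : G, (MulAction.toPerm x : Equiv.Perm Ω) = σ := by
  classical
  haveI := Fintype.ofFinite G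
  have hcard : Γ.toFinset.card = Γ.ncard := (Set.ncard_eq_toFinset_card' Γ).symm
  refine main hqp Γ.toFinset (by omega) (by omega) ?_
  intro x hx y hy
  rw [Set.mem_toFinset] at hx hy
  obtain ⟨⟨g, hg⟩, hgx⟩ := @MulAction.exists_smul_eq ↥(fixingSubgroup G Γᶜ) ↥(SubMulAction.ofFixingSubgroup G Γᶜ) _ hJ
    ⟨x, by simpa [SubMulAction.mem_ofFixingSubgroup_iff] using hx⟩
    ⟨y, by simpa [SubMulAction.mem_ofFixingSubgroup_iff] using hy⟩
  exact ⟨g, fun z hz => (mem_fixingSubgroup_iff G).1 hg z (fun h => hz (Set.mem_toFinset.2 h)),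
    congrArg Subtype.val hgx⟩

end Cfsg.Agent.S3620
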