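import Cfsg.Statements.S3627
import Cfsg.Agent.Lib.Sporadic.J1.Spectrum
import Cfsg.Agent.Lib.AlmostAll.ProperDivisors

set_option autoImplicit false
open Cfsg

namespace Cfsg.Agent.S3627

open CfsgLib.J1 (orders)

/-- least common multiples of two element orders -/
def pairs : List ℕ := (orders.flatMap fun a => orders.map fun b => Nat.lcm a b).dedup

theorem pairs_mem (a : ℕ) (ha : a ∈ orders) (b : ℕ) (hb : b ∈ orders) : Nat.lcm a b ∈ pairs := by
  simp only [pairs, List.mem_dedup, List.mem_flatMap, List.mem_map]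
  exact ⟨a, ha, b, hb, rfl⟩

theorem pairs_check : ∀ u ∈ pairs, ∀ v ∈ pairs, Nat.lcm u v ∣ 43890 ∧ Nat.lcm u v ≠ 43890 := by
  decide +kernel

theorem lcm_mem (a : ℕ) (ha : a ∈ orders) (b : ℕ) (hb : b ∈ orders) (c : ℕ) (hc : c ∈ orders) (d : ℕ)
    (hd : d ∈ orders) :
    Nat.lcm a (Nat.lcm b (Nat.lcm c d)) ∣ 43890 ∧ Nat.lcm a (Nat.lcm b (Nat.lcm c d)) ≠ 43890 := by
  rw [← Nat.lcm_assoc]
  exact pairs_check _ (pairs_mem a ha b hb) _ (pairs_mem c hc d hd)

/-- the divisors of 43890 -/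
def divs : List ℕ :=
  [1, 2].flatMap fun a => [1, 3].flatMap fun b => [1, 5].flatMap fun c => [1, 7].flatMap fun d =>
    [1, 11].flatMap fun e => [1, 19].map fun f => a * b * c * d * e * f

theorem mem_divs {m : ℕ} (hm : m ∣ 43890) : m ∈ divs := by
  rw [show 43890 = 2 * 3 * 5 * 7 * 11 * 19 from rfl] at hm
  obtain ⟨x1, f, hx1, hf, rfl⟩ := Nat.dvd_mul.1 hm
  obtain ⟨x2, e, hx2, he, rfl⟩ := Nat.dvd_mul.1 hx1
  obtain ⟨x3, d, hx3, hd, rfl⟩ := Nat.dvd_mul.1 hx2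
  obtain ⟨x4, c, hx4, hc, rfl⟩ := Nat.dvd_mul.1 hx3
  obtain ⟨a, b, ha, hb, rfl⟩ := Nat.dvd_mul.1 hx4
  rw [Nat.dvd_prime Nat.prime_two] at ha
  rw [Nat.dvd_prime Nat.prime_three] at hb
  rw [Nat.dvd_prime Nat.prime_five] at hc
  rw [Nat.dvd_prime (show Nat.Prime 7 by norm_num)] at hd
  rw [Nat.dvd_prime (show Nat.Prime 11 by norm_num)] at he
  rw [Nat.dvd_prime (show Nat.Prime 19 by norm_num)] at hf
  simp only [divs, List.mem_flatMap, List.mem_map, List.mem_cons, List.not_mem_nil, or_false]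
  exact ⟨a, ha, b, hb, c, hc, d, hd, e, he, f, hf, rfl⟩

/-- four element orders with least common multiple `m` -/
def split (m : ℕ) : ℕ × ℕ × ℕ × ℕ :=
  if m % 30 = 0 then
    (Nat.gcd m 6, Nat.gcd m 5,
      if m % 7 = 0 then 7 else Nat.gcd m 11,
      if m % 19 = 0 then 19 else Nat.gcd m 11)
  else (Nat.gcd m 30, Nat.gcd m 7, Nat.gcd m 11, Nat.gcd m 19)

theorem split_check : ∀ m ∈ divs, m ≠ 43890 → (split m).1 ∈ orders ∧ (split m).2.1 ∈ orders ∧
    (split m).2.2.1 ∈ orders ∧ (split m).2.2.2 ∈ orders ∧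
    Nat.lcm (split m).1 (Nat.lcm (split m).2.1 (Nat.lcm (split m).2.2.1 (split m).2.2.2)) = m := by
  decide +kernel

theorem exists_lcm (m : ℕ) (hm : m ∣ 43890) (hne : m ≠ 43890) :
    ∃ a ∈ orders, ∃ b ∈ orders, ∃ c ∈ orders, ∃ d ∈ orders,
      Nat.lcm a (Nat.lcm b (Nat.lcm c d)) = m := by
  obtain ⟨h1, h2, h3, h4, h5⟩ := split_check m (mem_divs hm) hne
  exact ⟨_, h1, _, h2, _, h3, _, h4, h5⟩

/-- Let J be the first Janko group. Then there are finite groups of arbitrarily large order with exactly the same set of element orders as J × J × J × J. -/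
theorem result (N : ℕ) : ∃ (H : Type) (_ : Group H) (_ : Fintype H), N < Fintype.card H ∧
      Set.range (orderOf : H → ℕ) = Set.range (orderOf : ↥Cfsg.Spor.J1 × ↥Cfsg.Spor.J1 × ↥Cfsg.Spor.J1 × ↥Cfsg.Spor.J1 → ℕ) := by
  classical
  let q : Fin 5 → ℕ := ![2, 3, 5, 7, 11]
  have hq : ∀ i, (q i).Prime := fun i => by fin_cases i <;> norm_num [q]
  have hinj : Function.Injective q := by decide
  haveI : ∀ i, NeZero (q i) := fun i => ⟨(hq i).ne_zero⟩
  haveI : Fact (Nat.Prime 19) := ⟨by norm_num⟩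
  have hp : ∀ i, q i ≠ 19 := fun i => by fin_cases i <;> norm_num [q]
  refine ⟨CfsgLib.AlmostAll.Grp q 19 (N + 1), inferInstance, Fintype.ofFinite _, ?_, ?_⟩
  · have h := CfsgLib.AlmostAll.card_ge (p := 19) (t := N + 1) (0 : Fin 5) (hq 0).two_le
    rw [← @Nat.card_eq_fintype_card _ (Fintype.ofFinite _)]
    exact lt_of_lt_of_le ((Nat.lt_succ_self N).trans (Nat.lt_pow_self (by norm_num))) h
  · refine CfsgLib.AlmostAll.range_orderOf hq hinj hp (Nat.succ_pos N) _ fun m => ?_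
    have hN : 19 * ∏ i, q i = 43890 := by simp [q, Fin.prod_univ_five, Fin.isValue, Matrix.cons_val]
    rw [hN, Set.mem_range]
    constructor
    · rintro ⟨⟨a, b, c, d⟩, rfl⟩
      simp only [Prod.orderOf]
      exact lcm_mem _ (CfsgLib.J1.orderOf_mem a) _ (CfsgLib.J1.orderOf_mem b)
        _ (CfsgLib.J1.orderOf_mem c) _ (CfsgLib.J1.orderOf_mem d)
    · rintro ⟨hm, hne⟩
      obtain ⟨a, ha, b, hb, c, hc, d, hd, he⟩ := exists_lcm m hm hne
      obtain ⟨x, rfl⟩ := CfsgLib.J1.exists_orderOf ha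
      obtain ⟨y, rfl⟩ := CfsgLib.J1.exists_orderOf hb
      obtain ⟨z, rfl⟩ := CfsgLib.J1.exists_orderOf hc
      obtain ⟨w, rfl⟩ := CfsgLib.J1.exists_orderOf hd
      exact ⟨(x, y, z, w), by simpa only [Prod.orderOf] using he⟩
end Cfsg.Agent.S3627
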