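import Cfsg.Statements.S3634
import Cfsg.Agent.Lib.Recog.Action

set_option autoImplicit false
open Cfsg

namespace Cfsg.Agent.S3634

/-- Let G be a finite group with normal subgroups K ≤ M, and let p, q, r be distinct primes with p dividing the order of K, q dividing the order of M/K and r dividing the order of G/M. Then p, q, r are not pairwise non-adjacent in the prime graph of G: G has an element of order pq, pr or qr. -/
theorem result {G : Type*} [Group G] [Finite G] (K M : Subgroup G) [K.Normal] [M.Normal] (hKM : K ≤ M)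
    (p q r : ℕ) (hp : p.Prime) (hq : q.Prime) (hr : r.Prime) (hpq : p ≠ q) (hpr : p ≠ r) (hqr : q ≠ r)
    (hpK : p ∣ Nat.card ↥K) (hqM : q ∣ Nat.card ↥M / Nat.card ↥K) (hrG : r ∣ Nat.card G / Nat.card ↥M) :
    (∃ x : G, orderOf x = p * q) ∨ (∃ x : G, orderOf x = p * r) ∨ (∃ x : G, orderOf x = q * r) := by
  classical
  haveI := Fact.mk hp
  haveI := Fact.mk hq
  haveI := Fact.mk hr
  let P : Sylow p K := default
  set P' : Subgroup G := (P : Subgroup K).map K.subtype with hP'
  have hP'p : IsPGroup p P' := P.2.map _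
  have hP'1 : P' ≠ ⊥ := by
    rw [hP', ne_eq, Subgroup.map_eq_bot_iff_of_injective _ K.subtype_injective]
    exact P.ne_bot_of_dvd_card hpK
  set N := Subgroup.normalizer (P' : Set G) with hN
  have hKN : K ⊔ N = ⊤ := sup_comm K N ▸ Sylow.normalizer_sup_eq_top P
  -- a `q`-subgroup of `M ⊓ N`
  have hM' : q ∣ Nat.card (M ⊓ N : Subgroup G) := by
    have hsup : (M ⊓ N) ⊔ K = M := by
      refine le_antisymm (sup_le inf_le_left hKM) fun m hm => ?_
      have hm' : m ∈ K ⊔ N := hKN ▸ Subgroup.mem_top m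
      obtain ⟨k, hk, n, hn, rfl⟩ := Subgroup.mem_sup_of_normal_left.1 hm'
      have : n ∈ M := (M.mul_mem_cancel_left (hKM hk)).1 hm
      exact Subgroup.mul_mem _ (Subgroup.mem_sup_right hk) (Subgroup.mem_sup_left ⟨this, hn⟩)
    have h1 : K.relIndex M = K.relIndex (M ⊓ N) := by
      conv_lhs => rw [← hsup]
      exact Subgroup.relIndex_sup_right (H := M ⊓ N) (K := K)
    have h2 : K.relIndex M = Nat.card M / Nat.card K := by
      have := Subgroup.card_mul_index (K.subgroupOf M)
      rw [Nat.card_congr (Subgroup.subgroupOfEquivOfLe hKM).toEquiv] at this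
      exact (Nat.div_eq_of_eq_mul_right Nat.card_pos this.symm).symm
    rw [← h2, h1] at hqM
    exact hqM.trans (Subgroup.relIndex_dvd_card _ _)
  set MN : Subgroup N := M.subgroupOf N with hMN
  have hMNcard : Nat.card MN = Nat.card (M ⊓ N : Subgroup G) := by
    rw [hMN, ← Subgroup.inf_subgroupOf_right, Nat.card_congr (Subgroup.subgroupOfEquivOfLe inf_le_right).toEquiv]
  let Q : Sylow q MN := default
  set Q' : Subgroup N := (Q : Subgroup MN).map MN.subtype with hQ'
  have hQ'q : IsPGroup q Q' := Q.2.map _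
  have hQ'1 : Q' ≠ ⊥ := by
    rw [hQ', ne_eq, Subgroup.map_eq_bot_iff_of_injective _ MN.subtype_injective]
    exact Q.ne_bot_of_dvd_card (hMNcard ▸ hM')
  set N₂ := Subgroup.normalizer (Q' : Set N) with hN₂
  have hsupN : N₂ ⊔ MN = ⊤ := Sylow.normalizer_sup_eq_top Q
  have hM2 : N₂.map N.subtype ⊔ M = ⊤ := by
    rw [eq_top_iff, ← hKN, sup_le_iff]
    refine ⟨hKM.trans le_sup_right, fun n hn => ?_⟩
    have : (⟨n, hn⟩ : N) ∈ N₂ ⊔ MN := hsupN ▸ Subgroup.mem_top _
    obtain ⟨u, hu, w, hw, he⟩ := Subgroup.mem_sup_of_normal_right.1 this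
    have h' : (u : G) * (w : G) = n := congrArg Subtype.val he
    rw [← h']
    exact mul_mem (Subgroup.mem_sup_left ⟨u, hu, rfl⟩) (Subgroup.mem_sup_right hw)
  have hrN2 : r ∣ Nat.card N₂ := by
    have h1 : M.index = M.relIndex (N₂.map N.subtype) := by
      rw [← Subgroup.relIndex_top_right, ← hM2, Subgroup.relIndex_sup_right]
    have h2 : M.index = Nat.card G / Nat.card M :=
      (Nat.div_eq_of_eq_mul_right Nat.card_pos M.card_mul_index.symm).symm
    rw [← h2, h1] at hrG
    have := hrG.trans (Subgroup.relIndex_dvd_card _ _)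
    rwa [← Nat.card_congr (N₂.equivMapOfInjective _ N.subtype_injective).toEquiv] at this
  obtain ⟨y₂, hy₂⟩ := exists_prime_orderOf_dvd_card' r hrN2
  -- work with the centre of `P'`
  set W : Subgroup G := (Subgroup.center P').map P'.subtype with hW
  have hWP : W ≤ P' := Subgroup.map_subtype_le _
  have hWp : IsPGroup p W := hP'p.to_le hWP
  have hW1 : Nontrivial W := by
    rw [Subgroup.nontrivial_iff_ne_bot, hW, ne_eq,
      Subgroup.map_eq_bot_iff_of_injective _ P'.subtype_injective]
    haveI : Nontrivial P' := (Subgroup.nontrivial_iff_ne_bot _).2 hP'1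
    exact (Subgroup.nontrivial_iff_ne_bot _).1 hP'p.center_nontrivial
  letI : CommGroup W :=
    { (inferInstance : Group W) with
      mul_comm := fun a b => by
        obtain ⟨a, a', ha, rfl⟩ := a
        obtain ⟨b, b', hb, rfl⟩ := b
        exact Subtype.ext (congrArg P'.subtype (Subgroup.mem_center_iff.1 hb a')) }
  have hNW : N ≤ Subgroup.normalizer (W : Set G) := by
    intro n hn
    apply Subgroup.mem_normalizer_fintype
    rintro w ⟨w', hw', rfl⟩
    have hn' := Subgroup.mem_normalizer_iff.1 hn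
    refine ⟨⟨n * (w' : G) * n⁻¹, (hn' w').1 w'.2⟩, Subgroup.mem_center_iff.2 fun z => Subtype.ext ?_, rfl⟩
    have hz' : n⁻¹ * (z : G) * n ∈ P' := by
      refine (hn' _).2 ?_
      rw [show n * (n⁻¹ * (z : G) * n) * n⁻¹ = z by group]
      exact z.2
    have h : n⁻¹ * (z : G) * n * w' = w' * (n⁻¹ * (z : G) * n) :=
      congrArg Subtype.val (Subgroup.mem_center_iff.1 hw' ⟨_, hz'⟩)
    show (z : G) * (n * (w' : G) * n⁻¹) = n * (w' : G) * n⁻¹ * z
    calc (z : G) * (n * (w' : G) * n⁻¹) = n * (n⁻¹ * (z : G) * n * w') * n⁻¹ := by group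
      _ = n * ((w' : G) * (n⁻¹ * (z : G) * n)) * n⁻¹ := by rw [h]
      _ = n * (w' : G) * n⁻¹ * z := by group
  let φ : N →* MulAut W := W.normalizerMonoidHom.comp (Subgroup.inclusion hNW)
  have hφ : ∀ (n : N) (w : W), (φ n w : G) = (n : G) * w * (n : G)⁻¹ := fun n w => rfl
  have ord : ∀ n : N, orderOf (n : G) = orderOf n := fun n => Subgroup.orderOf_coe n
  set y : N := (y₂ : N)
  have hy : orderOf y = r := by rw [Subgroup.orderOf_coe]; exact hy₂
  by_contra hcon
  push Not at hcon
  obtain ⟨nopq, nopr, noqr⟩ := hcon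
  haveI : Fintype Q' := Fintype.ofFinite _
  haveI : Fintype (Subgroup.zpowers y) := Fintype.ofFinite _
  refine (CfsgLib.Recog.exists_norm_ne_one φ Q' (Subgroup.zpowers y) ?_ ?_ ?_ ?_).elim fun w hw => ?_
  · intro h hh f hf
    have : h ∈ N₂ := (Subgroup.zpowers_le.2 y₂.2) hh
    exact (Subgroup.mem_normalizer_iff.1 this f).1 hf
  · intro f hf h hh h1 hc
    by_contra hf1
    obtain ⟨g, hg⟩ := CfsgLib.Recog.exists_orderOf_mul hq hr hqr (a := (f : G)) (b := (h : G))
      (ord f ▸ CfsgLib.Recog.prime_dvd_orderOf_of_isPGroup hQ'q hf hf1)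
      (ord h ▸ CfsgLib.Recog.prime_dvd_orderOf_of_isPGroup
        (IsPGroup.of_card (n := 1) (by rw [Nat.card_zpowers, hy, pow_one])) hh h1)
      (congrArg Subtype.val hc.symm)
    exact noqr g hg
  · exact IsPGroup.coprime_card_of_ne q p hpq.symm _ _ hQ'q hWp
  · by_contra hcon2
    push Not at hcon2
    obtain ⟨f, hf, hf1⟩ : ∃ f ∈ Q', f ≠ 1 := by
      by_contra h
      push Not at h
      exact hQ'1 ((Subgroup.eq_bot_iff_forall _).2 h)
    obtain ⟨v, hv⟩ := exists_ne (1 : W)
    have hc : Commute (v : G) (f : G) := by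
      have := congrArg Subtype.val (hcon2 f hf v)
      rw [hφ] at this
      exact (mul_inv_eq_iff_eq_mul.1 this).symm
    obtain ⟨g, hg⟩ := CfsgLib.Recog.exists_orderOf_mul hp hq hpq
      (CfsgLib.Recog.prime_dvd_orderOf_of_isPGroup hWp v.2 (fun e => hv (Subtype.ext e)))
      (ord f ▸ CfsgLib.Recog.prime_dvd_orderOf_of_isPGroup hQ'q hf hf1) hc
    exact nopq g hg
  · set u := ∏ h : Subgroup.zpowers y, φ (h : N) w with hu
    have hfix : φ y u = u := by
      rw [hu, map_prod]
      exact Fintype.prod_equiv (Equiv.mulLeft (⟨y, Subgroup.mem_zpowers y⟩ : Subgroup.zpowers y)) _ _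
        fun h => by simp [MulAut.mul_apply]
    have hc : Commute (u : G) (y : G) := by
      have := congrArg Subtype.val hfix
      rw [hφ] at this
      exact (mul_inv_eq_iff_eq_mul.1 this).symm
    obtain ⟨g, hg⟩ := CfsgLib.Recog.exists_orderOf_mul hp hr hpr
      (CfsgLib.Recog.prime_dvd_orderOf_of_isPGroup hWp u.2 (fun e => hw (Subtype.ext e)))
      (show r ∣ orderOf (y : G) by rw [ord, hy]) hc
    exact nopr g hg

end Cfsg.Agent.S3634
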