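import Cfsg.Statements.S3633
import Cfsg.Agent.S3634
import Mathlib.GroupTheory.Solvable
import Mathlib.GroupTheory.Perm.Cycle.Type
import Mathlib.GroupTheory.QuotientGroup.Finite

set_option autoImplicit false
open Cfsg

namespace Cfsg.Agent.S3633
section aux
variable {G : Type*} [Group G] [Finite G]

open scoped Classical in
lemma one_prime (ρ : Finset ℕ) (hρ : 3 ≤ ρ.card) (hprime : ∀ r ∈ ρ, r.Prime ∧ r ∣ Nat.card G)
    (hadj : ∀ r ∈ ρ, ∀ s ∈ ρ, r ≠ s → ¬ ∃ x : G, orderOf x = r * s)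
    (K : Subgroup G) [K.Normal] (hK : Group.IsSolvable ↥K) :
    ∀ r ∈ ρ, ∀ s ∈ ρ, r ∣ Nat.card ↥K → s ∣ Nat.card ↥K → r = s := by
  let P : Subgroup G → Prop := fun M => M.Normal ∧ M ≤ K ∧
    ∀ r ∈ ρ, ∀ s ∈ ρ, r ∣ Nat.card ↥M → s ∣ Nat.card ↥M → r = s
  obtain ⟨M, hM, hMmax⟩ := Set.Finite.exists_maximal (Set.toFinite {M | P M})
    ⟨⊥, inferInstance, bot_le, fun r hr s hs h => by
      rw [Subgroup.card_bot, Nat.dvd_one] at h; exact absurd h (hprime r hr).1.ne_one⟩
  obtain ⟨hMn, hMK, hM1⟩ := hM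
  by_contra hcon
  haveI := hMn
  have hne : M < K := lt_of_le_of_ne hMK fun h => hcon (h ▸ hM1)
  obtain ⟨M2, ⟨hn2, hlt2, hle2⟩, hmin⟩ := Set.Finite.exists_minimal
    (Set.toFinite {N : Subgroup G | N.Normal ∧ M < N ∧ N ≤ K}) ⟨K, inferInstance, hne, le_rfl⟩
  haveI := hn2
  have hmin' : ∀ L : Subgroup G, L.Normal → M ≤ L → L ≤ M2 → L = M ∨ L = M2 := by
    intro L hL h1 h2
    rcases eq_or_lt_of_le h1 with h | h
    · exact Or.inl h.symm
    · exact Or.inr (le_antisymm h2 (hmin ⟨hL, h, h2.trans hle2⟩ h2))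
  -- the factor is abelian
  have hcm : ∀ x ∈ M2, ∀ y ∈ M2, x * y * x⁻¹ * y⁻¹ ∈ M := by
    intro x hx y hy
    rcases hmin' (M ⊔ ⁅M2, M2⁆) inferInstance le_sup_left
      (sup_le hlt2.le (Subgroup.commutator_le_right M2 M2)) with h | h
    · rw [← h]
      exact Subgroup.mem_sup_right (Subgroup.commutator_mem_commutator hx hy)
    · exfalso
      haveI hS : Group.IsSolvable ↥M2 :=
        solvable_of_solvable_injective (Subgroup.inclusion_injective hle2)
      let f : ↥M2 →* G ⧸ M := (QuotientGroup.mk' M).comp M2.subtype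
      haveI : Group.IsSolvable ↥f.range := solvable_of_surjective f.rangeRestrict_surjective
      haveI : Nontrivial ↥f.range := by
        refine (Subgroup.nontrivial_iff_ne_bot _).2 fun hb => hlt2.ne ?_
        refine le_antisymm hlt2.le fun z hz => ?_
        have : f ⟨z, hz⟩ ∈ f.range := ⟨_, rfl⟩
        rw [hb, Subgroup.mem_bot] at this
        exact (QuotientGroup.eq_one_iff z).1 this
      have hlt := Group.IsSolvable.commutator_lt_top_of_nontrivial (G := ↥f.range)
      apply hlt.ne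
      rw [eq_top_iff]
      rintro ⟨_, z, rfl⟩ -
      have hz : (z : G) ∈ M ⊔ ⁅M2, M2⁆ := h.symm ▸ z.2
      have hrange : f.range = M2.map (QuotientGroup.mk' M) := by
        rw [MonoidHom.range_comp, Subgroup.range_subtype]
      have h2 : f z ∈ (commutator ↥f.range).map f.range.subtype := by
        rw [commutator_def, Subgroup.map_commutator, ← MonoidHom.range_eq_map,
          Subgroup.range_subtype, hrange, ← Subgroup.map_commutator]
        have : (M ⊔ ⁅M2, M2⁆).map (QuotientGroup.mk' M) = (⁅M2, M2⁆).map (QuotientGroup.mk' M) := by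
          rw [Subgroup.map_sup, QuotientGroup.map_mk'_self, bot_sup_eq]
        rw [← this]
        exact ⟨z, hz, rfl⟩
      obtain ⟨w, hw, hwz⟩ := h2
      rwa [show (⟨f z, z, rfl⟩ : ↥f.range) = w from Subtype.ext hwz.symm]
  -- the factor is a `p`-group
  let f : ↥M2 →* G ⧸ M := (QuotientGroup.mk' M).comp M2.subtype
  have hrange : Nat.card ↥f.range * Nat.card ↥M = Nat.card ↥M2 := by
    have h1 := Subgroup.card_eq_card_quotient_mul_card_subgroup f.ker
    rw [Nat.card_congr (QuotientGroup.quotientKerEquivRange f).toEquiv] at h1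
    rw [h1]
    congr 1
    have hker : f.ker = M.subgroupOf M2 := by
      ext z; simp [f, Subgroup.mem_subgroupOf]
    rw [hker]
    exact (Nat.card_congr (Subgroup.subgroupOfEquivOfLe hlt2.le).toEquiv).symm
  obtain ⟨p, hp, hpd⟩ : ∃ p, p.Prime ∧ p ∣ Nat.card ↥f.range := by
    apply Nat.exists_prime_and_dvd
    intro h
    rw [h, one_mul] at hrange
    exact hlt2.ne (Subgroup.eq_of_le_of_card_ge hlt2.le hrange.ge)
  have hpow : ∀ x ∈ M2, x ^ p ∈ M := by
    haveI := Fact.mk hp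
    let L : Subgroup G :=
      { carrier := {x | x ∈ M2 ∧ x ^ p ∈ M}
        one_mem' := ⟨one_mem _, by simp⟩
        mul_mem' := fun {x y} hx hy => ⟨M2.mul_mem hx.1 hy.1, by
          have hcomm : Commute (x : G ⧸ M) (y : G ⧸ M) := by
            show (x : G ⧸ M) * y = y * x
            rw [← QuotientGroup.mk_mul, ← QuotientGroup.mk_mul, QuotientGroup.eq]
            have := hcm _ (inv_mem hy.1) _ (inv_mem hx.1)
            simpa [mul_assoc] using this
          rw [← QuotientGroup.eq_one_iff, QuotientGroup.mk_pow, QuotientGroup.mk_mul, hcomm.mul_pow,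
            ← QuotientGroup.mk_pow, ← QuotientGroup.mk_pow, (QuotientGroup.eq_one_iff _).2 hx.2,
            (QuotientGroup.eq_one_iff _).2 hy.2, one_mul]⟩
        inv_mem' := fun {x} hx => ⟨M2.inv_mem hx.1, by rw [inv_pow]; exact M.inv_mem hx.2⟩ }
    have hLn : L.Normal := ⟨fun x hx g => ⟨hn2.conj_mem _ hx.1 g, by
      rw [conj_pow]; exact hMn.conj_mem _ hx.2 g⟩⟩
    have hL : L = M2 := by
      refine (hmin' L hLn (fun x hx => ⟨hlt2.le hx, M.pow_mem hx p⟩) (fun x hx => hx.1)).resolve_left ?_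
      intro hL
      obtain ⟨⟨w, z, rfl⟩, hw⟩ := exists_prime_orderOf_dvd_card' p hpd
      rw [← Subgroup.orderOf_coe] at hw
      have hmem : (z : G) ∈ L := ⟨z.2, by
        rw [← QuotientGroup.eq_one_iff, QuotientGroup.mk_pow]
        show f z ^ p = 1
        rw [← hw, pow_orderOf_eq_one]⟩
      rw [hL, ← QuotientGroup.eq_one_iff] at hmem
      have h1 : f z = 1 := hmem
      change orderOf (f z) = p at hw
      rw [h1, orderOf_one] at hw
      exact hp.ne_one hw.symm
    intro x hx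
    exact ((hL.symm ▸ hx : x ∈ L)).2
  have hprimes : ∀ r ∈ ρ, r ∣ Nat.card ↥M2 → r ∣ Nat.card ↥M ∨ r = p := by
    intro r hr h
    haveI := Fact.mk (hprime r hr).1
    rcases (hprime r hr).1.dvd_mul.1 (hrange.symm ▸ h) with h1 | h1
    · right
      obtain ⟨⟨w, z, rfl⟩, hw⟩ := exists_prime_orderOf_dvd_card' r h1
      rw [← Subgroup.orderOf_coe] at hw
      have hz : f z ^ p = 1 := by
        show ((z : G) : G ⧸ M) ^ p = 1
        rw [← QuotientGroup.mk_pow, QuotientGroup.eq_one_iff]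
        exact hpow _ z.2
      have := orderOf_dvd_of_pow_eq_one hz
      rw [hw] at this
      exact (Nat.prime_dvd_prime_iff_eq (hprime r hr).1 hp).1 this
    · exact Or.inl h1
  have hnot2 : ¬ P M2 := fun h => hlt2.not_ge (hMmax h hlt2.le)
  have : ∃ r ∈ ρ, ∃ s ∈ ρ, r ∣ Nat.card ↥M2 ∧ s ∣ Nat.card ↥M2 ∧ r ≠ s := by
    by_contra h
    refine hnot2 ⟨hn2, hle2, fun r hr s hs h1 h2 => ?_⟩
    by_contra h3
    exact h ⟨r, hr, s, hs, h1, h2, h3⟩
  obtain ⟨r, hr, hrM, hpρ, hrp, hpM⟩ :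
      ∃ r ∈ ρ, r ∣ Nat.card ↥M ∧ p ∈ ρ ∧ r ≠ p ∧ ¬ p ∣ Nat.card ↥M := by
    obtain ⟨r, hr, s, hs, h1, h2, h3⟩ := this
    rcases hprimes r hr h1 with a | a <;> rcases hprimes s hs h2 with b | b
    · exact absurd (hM1 r hr s hs a b) h3
    · subst b
      exact ⟨r, hr, a, hs, h3, fun h => h3 (hM1 r hr s hs a h)⟩
    · subst a
      exact ⟨s, hs, b, hr, Ne.symm h3, fun h => h3 (hM1 r hr s hs h b)⟩
    · exact absurd (a.trans b.symm) h3
  obtain ⟨t, ht, htr, htp⟩ : ∃ t ∈ ρ, t ≠ r ∧ t ≠ p := by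
    by_contra h
    push Not at h
    have : ρ ⊆ {r, p} := fun t ht => by
      rcases eq_or_ne t r with h1 | h1
      · simp [h1]
      · simp [h t ht h1]
    have := (Finset.card_le_card this).trans Finset.card_le_two
    omega
  have htM : ¬ t ∣ Nat.card ↥M2 := fun h => by
    rcases hprimes t ht h with h1 | h1
    · exact htr (hM1 t ht r hr h1 hrM)
    · exact htp h1
  rcases Cfsg.Agent.S3634.result M M2 hlt2.le r p t (hprime r hr).1 hp (hprime t ht).1 hrp
      (Ne.symm htr) (Ne.symm htp) hrM (by rw [← hrange, Nat.mul_div_cancel _ Nat.card_pos]; exact hpd)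
      (by
        obtain ⟨k, hk⟩ := Subgroup.card_subgroup_dvd_card M2
        rw [hk, Nat.mul_div_cancel_left _ Nat.card_pos]
        exact ((hprime t ht).1.dvd_mul.1 (hk ▸ (hprime t ht).2)).resolve_left htM)
    with ⟨x, hx⟩ | ⟨x, hx⟩ | ⟨x, hx⟩
  · exact hadj r hr p hpρ hrp ⟨x, hx⟩
  · exact hadj r hr t ht (Ne.symm htr) ⟨x, hx⟩
  · exact hadj p hpρ t ht (Ne.symm htp) ⟨x, hx⟩

end aux


/-- Let G be a finite group and ρ a set of at least three prime divisors of the order of G that are pairwise non-adjacent in the prime graph (no element of order rs for distinct r, s ∈ ρ). Then at most one prime of ρ divides the order of any given solvable normal subgroup of G; in particular G is not solvable. -/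
theorem result {G : Type*} [Group G] [Finite G] (ρ : Finset ℕ) (hρ : 3 ≤ ρ.card) (hc : ((∀ r ∈ ρ, r.Prime ∧ r ∣ Nat.card G) ∧ (∀ r ∈ ρ, ∀ s ∈ ρ, r ≠ s → ¬ ∃ x : G, orderOf x = r * s)))
    (K : Subgroup G) [K.Normal] (hK : Group.IsSolvable ↥K) :
    (∀ r ∈ ρ, ∀ s ∈ ρ, r ∣ Nat.card ↥K → s ∣ Nat.card ↥K → r = s) ∧ ¬ Group.IsSolvable G := by
  refine ⟨fun r hr s hs hrK hsK => one_prime ρ hρ hc.1 hc.2 K hK r hr s hs hrK hsK, fun hG => ?_⟩
  haveI := hG
  have hT : Group.IsSolvable ↥(⊤ : Subgroup G) := inferInstance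
  obtain ⟨r, hr, s, hs, hrs⟩ := Finset.one_lt_card.1 (show 1 < ρ.card by omega)
  exact hrs (one_prime ρ hρ hc.1 hc.2 ⊤ hT r hr s hs
    (by rw [Subgroup.card_top]; exact (hc.1 r hr).2) (by rw [Subgroup.card_top]; exact (hc.1 s hs).2))

end Cfsg.Agent.S3633
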