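import Cfsg.Statements.S3639
import Cfsg.Agent.Lib.SuzukiMatrix.Bridge
import Cfsg.Agent.Lib.Suzuki.Centralizer
import Cfsg.Agent.Lib.Suzuki.Sylow
import Cfsg.Agent.Lib.Recog.PrimeGraph

set_option autoImplicit false
open Cfsg

namespace Cfsg.Agent.S3639

open Matrix CfsgLib.Suzuki

variable {F : Type*} [Field F] [Fintype F] {m : ℕ}

/-- An element of odd prime order of the Suzuki group fixes no nonzero vector. -/
theorem fixed_eq_zero_of_odd (h : SzHyp F m) {g : Cfsg.Sz F m} {s : ℕ} (hs : s.Prime) (hs2 : s ≠ 2)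
    (hg : orderOf g = s) {v : Fin 4 → F}
    (hv : (g : SpecialLinearGroup (Fin 4) F) • v = v) : v = 0 := by
  haveI := Fact.mk hs
  by_cases hd : s ∣ (2 ^ (2 * m + 1)) ^ 2 + 1
  · exact CfsgLib.Suzuki.fixed_eq_zero _ hs2 (by rw [h.card]; exact hd)
      (by rw [Subgroup.orderOf_coe, hg]) hv
  obtain ⟨pt, hpt, he⟩ := exists_fix_of_prime h hg hd
  obtain ⟨x, hx⟩ := exists_smul_pInf h hpt
  have hfix : (x⁻¹ * g * x) • (pInf : Projectivization F (Fin 4 → F)) = pInf := by
    rw [mul_smul, mul_smul, hx, he, inv_smul_eq_iff, hx]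
  have hord : orderOf (x⁻¹ * g * x) = s := by
    rw [show x⁻¹ * g * x = MulAut.conj x⁻¹ g by simp, MulEquiv.orderOf_eq, hg]
  rcases borel_conj h hfix with ht | ⟨y, k, hk, hy⟩
  · exfalso
    have h4 : orderOf (x⁻¹ * g * x) ∣ 4 := by
      have h1 := Monoid.order_dvd_exponent (⟨_, ht⟩ : tGroup h)
      rw [tGroup_exponent h] at h1
      rwa [← Subgroup.orderOf_coe] at h1
    rw [hord] at h4
    have : s ∣ 2 ^ 2 := by norm_num; exact h4
    exact hs2 ((Nat.prime_dvd_prime_iff_eq hs Nat.prime_two).1 (hs.dvd_of_dvd_pow this))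
  -- the fixed vector of the torus element
  set z : SpecialLinearGroup (Fin 4) F := ((x * y : Cfsg.Sz F m) : SpecialLinearGroup (Fin 4) F)
  have hgz : (g : SpecialLinearGroup (Fin 4) F) = z * dMat m k * z⁻¹ := by
    have : g = (x * y) * dS h k * (x * y)⁻¹ := by
      rw [show g = x * (x⁻¹ * g * x) * x⁻¹ by group, hy]; group
    exact congrArg Subtype.val this
  set w := z⁻¹ • v with hw
  have hdw : dMat m k • w = w := by
    rw [hw, ← mul_smul]
    rw [hgz, mul_smul, mul_smul] at hv
    rw [mul_smul]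
    exact eq_inv_smul_iff.mpr hv
  have hsig : sig m (k : F) ≠ 1 := by
    intro e
    have h2 := h.sig_sig (k : F)
    rw [e, sig_one] at h2
    exact hk (Units.ext (h.pow_sq_inj (h2.symm.trans (one_pow 2).symm)))
  have hrho : ((rho m k : Fˣ) : F) ≠ 1 := fun e => hsig (by
    rw [← h.units_rho_sq, e, one_pow])
  have hkr : ((k * rho m k : Fˣ) : F) ≠ 1 := fun e =>
    hk (h.units_mul_rho_injective (Units.val_eq_one.1 e))
  have hw0 : w = 0 := by
    funext i
    have hi := congrFun hdw i
    change ((dMat m k : SpecialLinearGroup (Fin 4) F) : Matrix (Fin 4) (Fin 4) F).mulVec w i =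
      w i at hi
    have key : ∀ c : F, c ≠ 1 → c * w i = w i → w i = 0 := fun c hc e => by
      by_contra hne
      exact hc (mul_right_cancel₀ hne (e.trans (one_mul _).symm))
    fin_cases i
    · refine key _ hkr ?_
      simpa [dMat, Matrix.mulVec, dotProduct, Fin.sum_univ_four] using hi
    · refine key _ hrho ?_
      simpa [dMat, Matrix.mulVec, dotProduct, Fin.sum_univ_four] using hi
    · refine key (((rho m k)⁻¹ : Fˣ) : F) ?_ ?_
      · exact fun e => hrho (Units.val_eq_one.2 (inv_eq_one.1 (Units.val_eq_one.1 e)))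
      · simpa [dMat, Matrix.mulVec, dotProduct, Fin.sum_univ_four] using hi
    · refine key (((k * rho m k)⁻¹ : Fˣ) : F) ?_ ?_
      · exact fun e => hkr (Units.val_eq_one.2 (inv_eq_one.1 (Units.val_eq_one.1 e)))
      · simpa [dMat, Matrix.mulVec, dotProduct, Fin.sum_univ_four] using hi
  rw [hw, inv_smul_eq_iff, smul_zero] at hw0
  exact hw0

/-- Let S be the Suzuki group over the field with q = 2^(2m+1) ≥ 8 elements. Then there are finite groups of arbitrarily large order with the same prime graph as S. -/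
theorem result {F : Type*} [Field F] [Fintype F] {m : ℕ} (hm : 1 ≤ m) (hF : Fintype.card F = 2 ^ (2 * m + 1)) (N : ℕ) :
    ∃ (H : Type) (_ : Group H) (_ : Fintype H), N < Fintype.card H ∧ ((∀ r : ℕ, r.Prime → (r ∣ Nat.card ↥(Cfsg.Lie.Sz F (2 ^ (m + 1))) ↔ r ∣ Nat.card H)) ∧
      (∀ r s : ℕ, r.Prime → s.Prime → r ≠ s → ((∃ x : ↥(Cfsg.Lie.Sz F (2 ^ (m + 1))), orderOf x = r * s) ↔ (∃ y : H, orderOf y = r * s)))) := by
  classical
  have h : SzHyp F m := ⟨hm, hF⟩
  let e := CfsgLib.SuzukiMatrix.szEquiv h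
  haveI : Fact (Nat.Prime 2) := ⟨Nat.prime_two⟩
  -- the natural module
  let T : ↥(Cfsg.Lie.Sz F (2 ^ (m + 1))) →* MulAut (Multiplicative (Fin 4 → F)) :=
    { toFun := fun g =>
        AddEquiv.toMultiplicative
          { toFun := fun v => (e.symm g : SpecialLinearGroup (Fin 4) F) • v
            invFun := fun v => (e.symm g : SpecialLinearGroup (Fin 4) F)⁻¹ • v
            left_inv := fun v => inv_smul_smul _ _
            right_inv := fun v => smul_inv_smul _ _
            map_add' := fun u v => smul_add _ _ _ }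
      map_one' := by
        ext v
        simp
      map_mul' := fun a b => by
        ext v
        simp [mul_smul] }
  have hW : IsPGroup 2 (Multiplicative (Fin 4 → F)) := by
    refine IsPGroup.of_card (n := (2 * m + 1) * 4) ?_
    rw [Nat.card_eq_fintype_card, Fintype.card_multiplicative, Fintype.card_fun, Fintype.card_fin,
      hF, pow_mul]
  have h2 : 2 ∣ Nat.card ↥(Cfsg.Lie.Sz F (2 ^ (m + 1))) := by
    rw [CfsgLib.SuzukiMatrix.card_lieSz h]
    exact Dvd.dvd.mul_right (Dvd.dvd.mul_right (dvd_pow (dvd_pow_self 2 (by omega)) two_ne_zero) _) _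
  obtain ⟨H, iG, iF, hcard, hsame⟩ := CfsgLib.Recog.exists_large_samePrimeGraph hW h2 T
    (fun g s hs hs2 hg v hv => Multiplicative.toAdd.injective
      (fixed_eq_zero_of_odd h hs hs2 ((MulEquiv.orderOf_eq e.symm g).trans hg)
        (v := Multiplicative.toAdd v) (congrArg Multiplicative.toAdd hv))) N
  exact ⟨H, iG, iF, by rwa [← Nat.card_eq_fintype_card], hsame.1, hsame.2⟩

end Cfsg.Agent.S3639
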