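import Cfsg.Statements.S3641
import Cfsg.Agent.Lib.PSL17.Action
import Mathlib.FieldTheory.Finite.GaloisField

set_option autoImplicit false
open Cfsg

namespace Cfsg.Agent.S3641

/-- An element of `K` in a `p`-subgroup normalising a Sylow subgroup lies in it. -/
theorem le_sylow {G : Type*} [Group G] {p : ℕ} [Fact p.Prime] [Finite G] {Q : Subgroup G}
    (hQ : IsPGroup p Q) (R : Sylow p G) (hn : Q ≤ Subgroup.normalizer ((R : Subgroup G) : Set G)) :
    Q ≤ (R : Subgroup G) := fun x hx => ((hQ.inf_normalizer_sylow R).le ⟨hx, hn hx⟩).2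

/-- If `K` normalises every Sylow `p`-subgroup, then `K ⊓ R` is normal. -/
theorem inf_normal {G : Type*} [Group G] [Finite G] {p : ℕ} [Fact p.Prime] (K : Subgroup G) [K.Normal]
    (hK : ∀ R : Sylow p G, K ≤ Subgroup.normalizer ((R : Subgroup G) : Set G)) (R : Sylow p G) :
    (K ⊓ (R : Subgroup G)).Normal := by
  refine ⟨fun a ha g => ⟨(inferInstance : K.Normal).conj_mem a ha.1 g, ?_⟩⟩
  have hQ : IsPGroup p (((K ⊓ (R : Subgroup G))).map (MulAut.conj g).toMonoidHom) :=
    (R.isPGroup'.to_le inf_le_right).map _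
  have hle : ((K ⊓ (R : Subgroup G))).map (MulAut.conj g).toMonoidHom ≤ K := by
    rintro _ ⟨b, hb, rfl⟩
    exact (inferInstance : K.Normal).conj_mem b hb.1 g
  exact le_sylow hQ R (hle.trans (hK R)) ⟨a, ha, rfl⟩

/-- A group whose order divides into the Sylow subgroups contained in `H`. -/
theorem eq_top_of_sylow {G : Type*} [Group G] [Finite G] (H : Subgroup G)
    (h : ∀ r, r.Prime → r ∣ Nat.card G → ∃ R : Sylow r G, (R : Subgroup G) ≤ H) : H = ⊤ := by
  by_contra hne
  have hi : H.index ≠ 1 := fun h1 => hne (Subgroup.index_eq_one.1 h1)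
  obtain ⟨r, hr, hrd⟩ := Nat.exists_prime_and_dvd hi
  haveI := Fact.mk hr
  obtain ⟨R, hR⟩ := h r hr (hrd.trans H.index_dvd_card)
  exact R.not_dvd_index (hrd.trans (Subgroup.index_dvd_of_le hR))

/-- With trivial centre, a normal `r`-subgroup centralised by all other Sylow subgroups is trivial. -/
theorem eq_bot_of_centralized {G : Type*} [Group G] [Finite G] (hZ : Subgroup.center G = ⊥) {r : ℕ}
    [Fact r.Prime] (R : Sylow r G) (A : Subgroup G) [A.Normal] (hAR : A ≤ (R : Subgroup G))
    (h : ∀ s, s.Prime → s ∣ Nat.card G → s ≠ r →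
      ∃ S : Sylow s G, ∀ x ∈ (S : Subgroup G), ∀ a ∈ A, x * a = a * x) : A = ⊥ := by
  classical
  by_contra hne
  haveI : (A.subgroupOf (R : Subgroup G)).Normal := Subgroup.normal_subgroupOf
  haveI : Nontrivial (A.subgroupOf (R : Subgroup G)) := by
    rw [Subgroup.nontrivial_iff_ne_bot, Ne, Subgroup.subgroupOf_eq_bot, disjoint_iff, inf_of_le_left hAR]
    exact hne
  obtain ⟨c, hc, hc1⟩ : ∃ c : G, (c ∈ A ∧ ∀ y ∈ (R : Subgroup G), y * c = c * y) ∧ c ≠ 1 := by
    letI : MulAction (R : Subgroup G) A :=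
      { smul := fun y a => ⟨(y : G) * a * (y : G)⁻¹, (inferInstance : A.Normal).conj_mem _ a.2 _⟩
        one_smul := fun a => Subtype.ext (show (1 : G) * a * (1 : G)⁻¹ = a by simp)
        mul_smul := fun y z a => Subtype.ext (show ((y : G) * z) * a * ((y : G) * z)⁻¹ =
          (y : G) * ((z : G) * a * (z : G)⁻¹) * (y : G)⁻¹ by simp [mul_assoc]) }
    have hdvd : r ∣ Nat.card A := by
      obtain ⟨n, hn⟩ := IsPGroup.iff_card.1 (R.isPGroup'.to_le hAR)
      rw [hn]
      refine dvd_pow_self r ?_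
      rintro rfl
      exact hne (A.eq_bot_of_card_eq (by simpa using hn))
    have h1 : (1 : A) ∈ MulAction.fixedPoints (R : Subgroup G) A := fun y =>
      Subtype.ext (show (y : G) * 1 * (y : G)⁻¹ = 1 by simp)
    obtain ⟨b, hb, hb1⟩ := R.isPGroup'.exists_fixed_point_of_prime_dvd_card_of_fixed_point A hdvd h1
    refine ⟨b, ⟨b.2, fun y hy => ?_⟩, fun h => hb1 (Subtype.ext h.symm)⟩
    exact mul_inv_eq_iff_eq_mul.1 (congrArg Subtype.val (hb ⟨y, hy⟩))
  apply hc1
  have htop : Subgroup.centralizer ({c} : Set G) = ⊤ := by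
    refine eq_top_of_sylow _ fun s hs hsd => ?_
    by_cases hsr : s = r
    · subst hsr
      exact ⟨R, fun y hy => Subgroup.mem_centralizer_singleton_iff.2 (hc.2 y hy)⟩
    · obtain ⟨S, hS⟩ := h s hs hsd hsr
      exact ⟨S, fun y hy => Subgroup.mem_centralizer_singleton_iff.2 (hS y hy c hc.1)⟩
  have hcc : c ∈ Subgroup.center G := Subgroup.mem_center_iff.2 fun g => by
    have : g ∈ Subgroup.centralizer ({c} : Set G) := htop ▸ Subgroup.mem_top g
    exact Subgroup.mem_centralizer_singleton_iff.1 this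
  rwa [hZ, Subgroup.mem_bot] at hcc

/-- A Sylow `s`-subgroup centralises a normal `q`-subgroup when the `q`-part of its Sylow number is
at most `q` and `q ≢ 1 (mod s)`. -/
theorem centralizes {G : Type*} [Group G] [Finite G] {s q : ℕ} [Fact s.Prime] [Fact q.Prime]
    (hsq : s ≠ q) (hmod : q % s ≠ 1) (R : Sylow s G) (O : Subgroup G) [O.Normal] (hO : IsPGroup q O)
    (hn : ¬ q ^ 2 ∣ Nat.card (Sylow s G)) :
    ∀ x ∈ (R : Subgroup G), ∀ a ∈ O, x * a = a * x := by
  classical
  set N := Subgroup.normalizer ((R : Subgroup G) : Set G) with hN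
  letI : MulAction (R : Subgroup G) O :=
    { smul := fun y a => ⟨(y : G) * a * (y : G)⁻¹, (inferInstance : O.Normal).conj_mem _ a.2 _⟩
      one_smul := fun a => Subtype.ext (show (1 : G) * a * (1 : G)⁻¹ = a by simp)
      mul_smul := fun y z a => Subtype.ext (show ((y : G) * z) * a * ((y : G) * z)⁻¹ =
        (y : G) * ((z : G) * a * (z : G)⁻¹) * (y : G)⁻¹ by simp [mul_assoc]) }
  have hdis : Disjoint (R : Subgroup G) O := IsPGroup.disjoint_of_ne s q hsq _ _ R.isPGroup' hO
  have hfix : ∀ a : O, a ∈ MulAction.fixedPoints (R : Subgroup G) O ↔ (a : G) ∈ N := by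
    intro a
    constructor
    · intro h
      refine Subgroup.mem_normalizer_iff.2 fun y => ?_
      have key : ∀ y ∈ (R : Subgroup G), (a : G) * y * (a : G)⁻¹ = y := by
        intro y hy
        have e1 : y * (a : G) = a * y := mul_inv_eq_iff_eq_mul.1 (congrArg Subtype.val (h ⟨y, hy⟩))
        rw [← e1, mul_inv_cancel_right]
      constructor
      · intro hy; rw [key y hy]; exact hy
      · intro hy
        have h1 := key _ hy
        have h2 : (a : G) * y * (a : G)⁻¹ = y := by
          have h3 : (a : G)⁻¹ * ((a : G) * ((a : G) * y * (a : G)⁻¹) * (a : G)⁻¹) * a =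
              (a : G)⁻¹ * ((a : G) * y * (a : G)⁻¹) * a := by rw [h1]
          simpa [mul_assoc] using h3
        rwa [h2] at hy
    · intro h y
      refine Subtype.ext (show (y : G) * a * (y : G)⁻¹ = a from ?_)
      have h1 : (y : G) * a * (y : G)⁻¹ * (a : G)⁻¹ ∈ (R : Subgroup G) ⊓ O := by
        refine ⟨?_, O.mul_mem ((inferInstance : O.Normal).conj_mem _ a.2 _) (O.inv_mem a.2)⟩
        rw [mul_assoc, mul_assoc, ← mul_assoc (a : G)]
        exact (R : Subgroup G).mul_mem y.2
          ((Subgroup.mem_normalizer_iff.1 h _).1 ((R : Subgroup G).inv_mem y.2))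
      rw [hdis.eq_bot, Subgroup.mem_bot, mul_inv_eq_one] at h1
      exact h1
  have hfc : Nat.card (MulAction.fixedPoints (R : Subgroup G) O) = Nat.card (N.subgroupOf O) :=
    Nat.card_congr (Equiv.subtypeEquivRight fun a => by rw [hfix a]; rfl)
  have hrel : N.relIndex O ∣ Nat.card (Sylow s G) := by
    rw [show Nat.card (Sylow s G) = N.index from R.card_eq_index_normalizer,
      ← Subgroup.relIndex_top_right N]
    have h1 : N.relIndex O = N.relIndex (N ⊔ O) := by
      have e1 : O.relIndex N * Nat.card (O ⊓ N : Subgroup G) = Nat.card N := by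
        rw [Subgroup.relIndex, ← (O.subgroupOf N).index_mul_card,
          ← Subgroup.inf_subgroupOf_right O N,
          Nat.card_congr (Subgroup.subgroupOfEquivOfLe (H := O ⊓ N) inf_le_right).toEquiv]
      have e2 : N.relIndex O * Nat.card (O ⊓ N : Subgroup G) = Nat.card O := by
        rw [inf_comm, Subgroup.relIndex, ← (N.subgroupOf O).index_mul_card,
          ← Subgroup.inf_subgroupOf_right N O,
          Nat.card_congr (Subgroup.subgroupOfEquivOfLe (H := N ⊓ O) inf_le_right).toEquiv]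
      have e3 : O.relIndex N * Nat.card O = Nat.card (N ⊔ O : Subgroup G) := by
        rw [← Subgroup.relIndex_sup_right, Subgroup.relIndex, ← (O.subgroupOf (N ⊔ O)).index_mul_card,
          Nat.card_congr (Subgroup.subgroupOfEquivOfLe (H := O) le_sup_right).toEquiv]
      have e4 : N.relIndex (N ⊔ O) * Nat.card N = Nat.card (N ⊔ O : Subgroup G) := by
        rw [Subgroup.relIndex, ← (N.subgroupOf (N ⊔ O)).index_mul_card,
          Nat.card_congr (Subgroup.subgroupOfEquivOfLe (H := N) le_sup_left).toEquiv]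
      refine Nat.eq_of_mul_eq_mul_right (m := Nat.card N) Nat.card_pos ?_
      rw [e4, ← e3, ← e2]
      nth_rewrite 1 [← e1]
      ring
    rw [h1]
    exact Dvd.intro _ (Subgroup.relIndex_mul_relIndex N (N ⊔ O) ⊤ le_sup_left le_top)
  obtain ⟨n, hn'⟩ := IsPGroup.iff_card.1 hO
  have hcO : N.relIndex O * Nat.card (N.subgroupOf O) = Nat.card O := (N.subgroupOf O).index_mul_card
  have hone : N.relIndex O = 1 := by
    obtain ⟨i, -, hi⟩ := (Nat.dvd_prime_pow Fact.out).1 (show N.relIndex O ∣ q ^ n from hn' ▸ ⟨_, hcO.symm⟩)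
    rcases Nat.lt_or_ge i 2 with hi2 | hi2
    · interval_cases i
      · simpa using hi
      · exfalso
        rw [pow_one] at hi
        have hM := R.isPGroup'.card_modEq_card_fixedPoints O
        rw [← hcO, hfc, hi] at hM
        have hM' : q * Nat.card (N.subgroupOf O) ≡ 1 * Nat.card (N.subgroupOf O) [MOD s] := by
          rwa [one_mul]
        have hcop : Nat.gcd s (Nat.card (N.subgroupOf O)) = 1 := by
          refine ((Fact.out : s.Prime).coprime_iff_not_dvd.2 fun hd => hsq ?_)
          have hd' : s ∣ q ^ n := hd.trans (hn' ▸ Subgroup.card_subgroup_dvd_card _)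
          exact (Nat.prime_dvd_prime_iff_eq Fact.out Fact.out).1 ((Fact.out : s.Prime).dvd_of_dvd_pow hd')
        have hq1 := Nat.ModEq.cancel_right_of_coprime hcop hM'
        exact hmod (Eq.trans hq1 (Nat.mod_eq_of_lt (Fact.out : s.Prime).one_lt))
    · exact absurd ((pow_dvd_pow q hi2).trans (hi ▸ hrel)) hn
  intro x hx a ha
  have haN : a ∈ N := Subgroup.relIndex_eq_one.1 hone ha
  exact mul_inv_eq_iff_eq_mul.1 (congrArg Subtype.val ((hfix ⟨a, ha⟩).2 haN ⟨x, hx⟩))

/-- The Sylow subgroups are normalised by the kernel when the quotient has the same Sylow number. -/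
theorem kernel_le_normalizer {G X : Type*} [Group G] [Group X] [Finite G] (π : G →* X)
    (hπ : Function.Surjective π) {r : ℕ} [Fact r.Prime] (R : Sylow r G) :
    Nat.card (Sylow r X) ∣ Nat.card (Sylow r G) ∧
      (Nat.card (Sylow r X) = Nat.card (Sylow r G) →
        π.ker ≤ Subgroup.normalizer ((R : Subgroup G) : Set G)) := by
  haveI : Finite X := Finite.of_surjective π hπ
  set W := (Subgroup.normalizer (((R : Subgroup G).map π : Subgroup X) : Set X)).comap π with hW
  have hle : Subgroup.normalizer ((R : Subgroup G) : Set G) ≤ W :=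
    Subgroup.map_le_iff_le_comap.1 (Subgroup.le_normalizer_map π)
  have hG : Nat.card (Sylow r G) = (Subgroup.normalizer ((R : Subgroup G) : Set G)).index :=
    R.card_eq_index_normalizer
  have hX : Nat.card (Sylow r X) = W.index := by
    rw [hW, Subgroup.index_comap_of_surjective _ hπ]
    exact (R.mapSurjective hπ).card_eq_index_normalizer
  rw [hG, hX]
  refine ⟨Subgroup.index_dvd_of_le hle, fun h => ?_⟩
  have heq : Subgroup.normalizer ((R : Subgroup G) : Set G) = W := by
    rcases hle.eq_or_lt with e | e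
    · exact e
    · exact absurd (Subgroup.index_strictAnti e) (by omega)
  rw [heq]
  intro k hk
  rw [hW, Subgroup.mem_comap, MonoidHom.mem_ker.1 hk]
  exact Subgroup.one_mem _

open CfsgLib.PSL17 CfsgLib.PSL2Sub in
/-- Let G be a finite group with trivial centre whose set of Sylow numbers (numbers of Sylow r-subgroups, r over the prime divisors of its order) is exactly {18, 136, 153}. Then G is isomorphic to PSL(2, 17) or to PGL(2, 17). -/
theorem result {G : Type*} [Group G] [Finite G] (hZ : Subgroup.center G = ⊥) (hNS : {c : ℕ | ∃ r : ℕ, r.Prime ∧ r ∣ Nat.card G ∧ c = Nat.card (Sylow r G)} = ({18, 136, 153} : Set ℕ))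
    {F : Type*} [Field F] [Fintype F] (hF : Fintype.card F = 17) :
    Nonempty (G ≃* Matrix.ProjectiveSpecialLinearGroup (Fin 2) F) ∨ Nonempty (G ≃* (GL (Fin 2) F ⧸ Subgroup.center (GL (Fin 2) F))) := by
  classical
  -- the primes and their Sylow numbers
  have hval : ∀ r, r.Prime → r ∣ Nat.card G →
      (r = 17 ∧ Nat.card (Sylow r G) = 18) ∨
      ((r = 3 ∨ r = 5) ∧ Nat.card (Sylow r G) = 136) ∨
      ((r = 2 ∨ r = 19) ∧ Nat.card (Sylow r G) = 153) := by
    intro r hr hrd
    haveI := Fact.mk hr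
    have hm : Nat.card (Sylow r G) ≡ 1 [MOD r] := card_sylow_modEq_one r G
    have hmem : Nat.card (Sylow r G) ∈ ({18, 136, 153} : Set ℕ) := hNS ▸ ⟨r, hr, hrd, rfl⟩
    have hd := (Nat.modEq_iff_dvd' Nat.card_pos).1 hm.symm
    rcases hmem with h | h | h
    · rw [h] at hd
      exact Or.inl ⟨(Nat.prime_dvd_prime_iff_eq hr (by norm_num)).1 hd, h⟩
    · rw [h] at hd
      refine Or.inr (Or.inl ⟨?_, h⟩)
      rcases (Nat.Prime.dvd_mul hr).1 (show r ∣ 3 ^ 3 * 5 from hd) with h | h
      · exact Or.inl ((Nat.prime_dvd_prime_iff_eq hr Nat.prime_three).1 (hr.dvd_of_dvd_pow h))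
      · exact Or.inr ((Nat.prime_dvd_prime_iff_eq hr (by norm_num)).1 h)
    · simp only [Set.mem_singleton_iff] at h
      rw [h] at hd
      refine Or.inr (Or.inr ⟨?_, h⟩)
      rcases (Nat.Prime.dvd_mul hr).1 (show r ∣ 2 ^ 3 * 19 from hd) with h | h
      · exact Or.inl ((Nat.prime_dvd_prime_iff_eq hr Nat.prime_two).1 (hr.dvd_of_dvd_pow h))
      · exact Or.inr ((Nat.prime_dvd_prime_iff_eq hr (by norm_num)).1 h)
  haveI := Fact.mk Nat.prime_two
  haveI := Fact.mk Nat.prime_three
  haveI h17p : Fact (Nat.Prime 17) := ⟨by norm_num⟩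
  obtain ⟨r, hr, hrd, h18⟩ : (18 : ℕ) ∈ {c : ℕ | ∃ r : ℕ, r.Prime ∧ r ∣ Nat.card G ∧ c = Nat.card (Sylow r G)} := by
    rw [hNS]; simp
  have n17 : Nat.card (Sylow 17 G) = 18 := by
    rcases hval r hr hrd with ⟨rfl, h⟩ | ⟨-, h⟩ | ⟨-, h⟩
    · exact h
    · omega
    · omega
  have h18d : 18 ∣ Nat.card G := by
    obtain ⟨P⟩ : Nonempty (Sylow 17 G) := inferInstance
    rw [← n17, show Nat.card (Sylow 17 G) = (Subgroup.normalizer ((P : Subgroup G) : Set G)).index from
      P.card_eq_index_normalizer]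
    exact Subgroup.index_dvd_card _
  have n2 : Nat.card (Sylow 2 G) = 153 := by
    rcases hval 2 Nat.prime_two ((by norm_num : 2 ∣ 18).trans h18d) with ⟨h, -⟩ | ⟨h, -⟩ | ⟨-, h⟩
    · omega
    · omega
    · exact h
  have n3 : Nat.card (Sylow 3 G) = 136 := by
    rcases hval 3 Nat.prime_three ((by norm_num : 3 ∣ 18).trans h18d) with ⟨h, -⟩ | ⟨-, h⟩ | ⟨h, -⟩
    · omega
    · exact h
    · omega
  -- the image of the permutation representation
  obtain ⟨hiso, T, hTn, hTi, ⟨eT⟩⟩ := range_classify n17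
  haveI := hTn
  set π := (rep (G := G)).rangeRestrict with hπdef
  have hπ : Function.Surjective π := (rep (G := G)).rangeRestrict_surjective
  set K := π.ker with hK
  have hK17 : ∀ P : Sylow 17 G, K ≤ Subgroup.normalizer ((P : Subgroup G) : Set G) := by
    intro P k hk
    refine Sylow.smul_eq_iff_mem_normalizer.1 ?_
    have h1 : rep k = 1 := congrArg Subtype.val (show π k = 1 from hk)
    exact Equiv.congr_fun h1 P
  have hK2 : ∀ S : Sylow 2 G, K ≤ Subgroup.normalizer ((S : Subgroup G) : Set G) := fun S =>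
    (kernel_le_normalizer π hπ S).2 (by
      rw [sylow_number T eT hTi 2 153 (Or.inl ⟨rfl, rfl⟩) (n2 ▸ (kernel_le_normalizer π hπ S).1), n2])
  have hK3 : ∀ S : Sylow 3 G, K ≤ Subgroup.normalizer ((S : Subgroup G) : Set G) := fun S =>
    (kernel_le_normalizer π hπ S).2 (by
      rw [sylow_number T eT hTi 3 136 (Or.inr ⟨rfl, rfl⟩) (n3 ▸ (kernel_le_normalizer π hπ S).1), n3])
  -- Sylow subgroups for different small primes centralise each other's trace on `K`
  have hcomm : ∀ (p q : ℕ) [Fact p.Prime] [Fact q.Prime], p ≠ q →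
      (∀ R : Sylow p G, K ≤ Subgroup.normalizer ((R : Subgroup G) : Set G)) →
      (∀ R : Sylow q G, K ≤ Subgroup.normalizer ((R : Subgroup G) : Set G)) →
      ∀ (R : Sylow p G) (S : Sylow q G), ∀ x ∈ (S : Subgroup G), ∀ a ∈ K ⊓ (R : Subgroup G),
        x * a = a * x := by
    intro p q _ _ hpq hp hq R S x hx a ha
    haveI := inf_normal K hp R
    have h1 : x * a * x⁻¹ * a⁻¹ ∈ (K ⊓ (R : Subgroup G)) ⊓ (S : Subgroup G) := by
      refine ⟨(K ⊓ (R : Subgroup G)).mul_mem ((inferInstance : (K ⊓ (R : Subgroup G)).Normal).conj_mem a ha x)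
        ((K ⊓ (R : Subgroup G)).inv_mem ha), ?_⟩
      rw [mul_assoc, mul_assoc, ← mul_assoc a]
      exact (S : Subgroup G).mul_mem hx
        ((Subgroup.mem_normalizer_iff.1 (hq S ha.1) _).1 ((S : Subgroup G).inv_mem hx))
    have hdis := IsPGroup.disjoint_of_ne p q hpq _ _
      (R.isPGroup'.to_le (inf_le_right : K ⊓ (R : Subgroup G) ≤ R)) S.isPGroup'
    rw [hdis.eq_bot, Subgroup.mem_bot, mul_inv_eq_one] at h1
    exact mul_inv_eq_iff_eq_mul.1 h1
  obtain ⟨P⟩ : Nonempty (Sylow 17 G) := inferInstance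
  haveI hOn := inf_normal K hK17 P
  have hO : K ⊓ (P : Subgroup G) = ⊥ := by
    refine eq_bot_of_centralized hZ P _ inf_le_right fun s hs hsd hne => ?_
    haveI := Fact.mk hs
    obtain ⟨S⟩ : Nonempty (Sylow s G) := inferInstance
    refine ⟨S, ?_⟩
    rcases hval s hs hsd with ⟨h, -⟩ | ⟨rfl | rfl, h⟩ | ⟨rfl | rfl, h⟩
    · exact absurd h hne
    · exact hcomm 17 3 (by norm_num) hK17 hK3 P S
    · exact centralizes (q := 17) (by norm_num) (by norm_num) S _ (P.isPGroup'.to_le inf_le_right)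
        (by rw [h]; norm_num)
    · exact hcomm 17 2 (by norm_num) hK17 hK2 P S
    · exact centralizes (q := 17) (by norm_num) (by norm_num) S _ (P.isPGroup'.to_le inf_le_right)
        (by rw [h]; norm_num)
  have hK17' : ¬ 17 ∣ Nat.card K := by
    intro hd
    obtain ⟨x, hx⟩ := exists_prime_orderOf_dvd_card' 17 hd
    have hp : IsPGroup 17 (Subgroup.zpowers (x : G)) := by
      refine IsPGroup.of_card (n := 1) ?_
      rw [Nat.card_zpowers, Subgroup.orderOf_coe, hx, pow_one]
    have hxK : Subgroup.zpowers (x : G) ≤ K := Subgroup.zpowers_le.2 x.2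
    have h1 : (x : G) ∈ K ⊓ (P : Subgroup G) :=
      ⟨x.2, le_sylow hp P (hxK.trans (hK17 P)) (Subgroup.mem_zpowers _)⟩
    rw [hO, Subgroup.mem_bot] at h1
    rw [Subtype.ext (show (x : G) = ((1 : K) : G) from h1), orderOf_one] at hx
    omega
  have hXc : Nat.card (rep (G := G)).range ∣ 4896 := by
    rcases hiso with ⟨⟨e⟩⟩ | ⟨⟨e⟩⟩
    · rw [Nat.card_congr e.toEquiv, card_PS17]; norm_num
    · rw [Nat.card_congr e.toEquiv]
      show Nat.card (Matrix.ProjGenLinGroup (Fin 2) (ZMod 17)) ∣ 4896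
      rw [CfsgLib.Linear.card_PGL, CfsgLib.Linear.card_SL_two, ZMod.card]
      norm_num
  have hprimes : ∀ s, s.Prime → s ∣ Nat.card G → s = 2 ∨ s = 3 ∨ s = 17 := by
    intro s hs hsd
    haveI := Fact.mk hs
    by_contra hcon
    push_neg at hcon
    obtain ⟨R⟩ : Nonempty (Sylow s G) := inferInstance
    have hsX : ¬ s ∣ 4896 := by
      rcases hval s hs hsd with ⟨h, -⟩ | ⟨h | h, -⟩ | ⟨h | h, -⟩ <;> subst h <;>
        first | omega | norm_num
    have hRK : (R : Subgroup G) ≤ K := by
      intro y hy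
      obtain ⟨a, ha⟩ := IsPGroup.iff_card.1 ((R.isPGroup').map π)
      have h1 : Nat.card ((R : Subgroup G).map π) = 1 := by
        rcases Nat.eq_zero_or_pos a with rfl | hpos
        · simpa using ha
        · exact absurd ((dvd_pow_self s hpos.ne').trans
            (ha ▸ ((R : Subgroup G).map π).card_subgroup_dvd_card.trans hXc)) hsX
      exact Subgroup.mem_bot.1 (Subgroup.eq_bot_of_card_eq _ h1 ▸ Subgroup.mem_map_of_mem π hy)
    have h17n : 17 ∣ Nat.card (Sylow s G) := by
      rcases hval s hs hsd with ⟨h, -⟩ | ⟨-, h⟩ | ⟨-, h⟩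
      · exact absurd h hcon.2.2
      · rw [h]; norm_num
      · rw [h]; norm_num
    apply hK17'
    refine h17n.trans ?_
    rw [show Nat.card (Sylow s G) = (Subgroup.normalizer ((R : Subgroup G) : Set G)).index from
      R.card_eq_index_normalizer]
    have hf : Subgroup.normalizer ((R : Subgroup G) : Set G) ⊔ K = ⊤ := Sylow.normalizer_sup_eq_top' R hRK
    have e1 : K.relIndex (Subgroup.normalizer ((R : Subgroup G) : Set G)) = K.index := by
      rw [← Subgroup.relIndex_sup_right, hf, Subgroup.relIndex_top_right]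
    set N := Subgroup.normalizer ((R : Subgroup G) : Set G) with hN
    have e3 : (K ⊓ N).index = K.index * N.index := by
      rw [← e1, ← Subgroup.inf_relIndex_right K N, Subgroup.relIndex_mul_index inf_le_right]
    have e4 : N.index ∣ (K ⊓ N).relIndex K := by
      refine ⟨1, Nat.eq_of_mul_eq_mul_right (Nat.pos_of_ne_zero K.index_ne_zero_of_finite) ?_⟩
      rw [mul_one, Subgroup.relIndex_mul_index inf_le_left, e3, mul_comm]
    exact e4.trans (Subgroup.relIndex_dvd_card _ _)
  have hKbot : K = ⊥ := by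
    by_contra hne
    have hc1 : Nat.card K ≠ 1 := fun h => hne (K.eq_bot_of_card_eq h)
    obtain ⟨s, hs, hsd⟩ := Nat.exists_prime_and_dvd hc1
    haveI := Fact.mk hs
    have hsG := hsd.trans K.card_subgroup_dvd_card
    obtain ⟨x, hx⟩ := exists_prime_orderOf_dvd_card' s hsd
    obtain ⟨R⟩ : Nonempty (Sylow s G) := inferInstance
    have hKs : ∀ p, p = 2 ∨ p = 3 ∨ p = 17 → ∀ [Fact p.Prime] (R : Sylow p G),
        K ≤ Subgroup.normalizer ((R : Subgroup G) : Set G) := by
      intro p hp _ R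
      rcases hp with rfl | rfl | rfl
      · exact hK2 R
      · exact hK3 R
      · exact hK17 R
    haveI hAn := inf_normal K (fun R => hKs s (hprimes s hs hsG) R) R
    have hA : K ⊓ (R : Subgroup G) = ⊥ := by
      refine eq_bot_of_centralized hZ R _ inf_le_right fun p hp hpd hne => ?_
      haveI := Fact.mk hp
      obtain ⟨S⟩ : Nonempty (Sylow p G) := inferInstance
      exact ⟨S, hcomm s p hne.symm (fun R => hKs s (hprimes s hs hsG) R)
        (fun R => hKs p (hprimes p hp hpd) R) R S⟩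
    have hp : IsPGroup s (Subgroup.zpowers (x : G)) := by
      refine IsPGroup.of_card (n := 1) ?_
      rw [Nat.card_zpowers, Subgroup.orderOf_coe, hx, pow_one]
    have hxK : Subgroup.zpowers (x : G) ≤ K := Subgroup.zpowers_le.2 x.2
    have h1 : (x : G) ∈ K ⊓ (R : Subgroup G) :=
      ⟨x.2, le_sylow hp R (hxK.trans (hKs s (hprimes s hs hsG) R)) (Subgroup.mem_zpowers _)⟩
    rw [hA, Subgroup.mem_bot] at h1
    rw [Subtype.ext (show (x : G) = ((1 : K) : G) from h1), orderOf_one] at hx
    exact hs.one_lt.ne hx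
  have eG : G ≃* (rep (G := G)).range :=
    MulEquiv.ofBijective π ⟨(MonoidHom.ker_eq_bot_iff π).1 hKbot, hπ⟩
  have eF : ZMod 17 ≃+* F := FiniteField.ringEquivOfCardEq (K := ZMod 17) (K' := F) (by rw [ZMod.card, hF])
  rcases hiso with ⟨⟨e⟩⟩ | ⟨⟨e⟩⟩
  · obtain ⟨f⟩ := nonempty_pslEquiv eF
    exact Or.inl ⟨(eG.trans e).trans f⟩
  · obtain ⟨f⟩ := nonempty_pgEquiv eF
    exact Or.inr ⟨((eG.trans e).trans f : G ≃* Matrix.ProjGenLinGroup (Fin 2) F)⟩

end Cfsg.Agent.S3641
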