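import Cfsg.Statements.S3643
import Cfsg.Agent.Lib.DegM12.Facts
import Cfsg.Agent.Lib.DegM12.Orders
import Cfsg.Agent.Lib.DegM12.Product
import Cfsg.Agent.Lib.M12Order.Invol
import Cfsg.Agent.Lib.M12Order.Assembly

set_option autoImplicit false
set_option linter.style.haveILetI false
open Cfsg

namespace Cfsg.Agent.S3643

/-- Let G be a finite group of the same order as the Mathieu group M₁₂ whose character degree graph equals that of M₁₂ (same primes dividing some irreducible complex character degree, same pairs of distinct primes whose product divides some degree). Then G is isomorphic to M₁₂ or to the direct product of the alternating group of degree 4 with M₁₁. -/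
theorem result {G : Type*} [Group G] [Finite G] (hcard : Nat.card G = Nat.card ↥Cfsg.Spor.M12) (hΔ : Cfsg.degreePrimes G = Cfsg.degreePrimes ↥Cfsg.Spor.M12 ∧ Cfsg.degreeGraph G = Cfsg.degreeGraph ↥Cfsg.Spor.M12) :
    Nonempty (G ≃* ↥Cfsg.Spor.M12) ∨ Nonempty (G ≃* alternatingGroup (Fin 4) × ↥Cfsg.Spor.M11) := by
  rw [CfsgLib.Golay.card_M12] at hcard
  obtain ⟨h11, h511, h311⟩ := CfsgLib.DegM12.degree_facts_M12
  rw [← hΔ.1] at h11
  rw [← hΔ.2] at h511 h311
  rcases CfsgLib.DegM12.main hcard h11 h511
      (fun T _ _ _ hd h h' => CfsgLib.DegM12.simple_orders hd h h') with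
    hs | ⟨R, L, hRn, hLn, hdis, hsup, hR, hL⟩
  · haveI := hs
    haveI : Fintype G := Fintype.ofFinite G
    obtain ⟨K, hW, hL, h5⟩ := CfsgLib.M12Order.exists_census hcard
    have h11' : ∀ z : G, orderOf z = 11 → Nat.card ↥(Subgroup.centralizer ({z} : Set G)) = 11 :=
      fun z hz => (CfsgLib.M12Order.eleven_data hcard hz).1
    exact Or.inl (CfsgLib.M12Order.nonempty_equiv_of_census hcard h11' h5
      (fun y s hy hs hc => CfsgLib.M12Order.card_centralizer_invol hcard K hW hL h5 h11' hy hs hc)
      (CfsgLib.M12Order.card_involutions_le hcard K hW hL h5 h11'))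
  · haveI := hRn
    haveI := hLn
    exact Or.inr (CfsgLib.DegM12.nonempty_prod R L hdis hsup hR hL h311)

end Cfsg.Agent.S3643
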