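import Cfsg.Statements.S3648
import Cfsg.Agent.Lib.RecogPGL2.Action
import Cfsg.Agent.Lib.RecogPGL2.Model

set_option autoImplicit false
open Cfsg

namespace Cfsg.Agent.S3648

/-- For a finite group X let nse(X) be the set of values of the function 'number of elements of order k' over the element orders k that occur. Let F be a finite field of odd order q > 3 and P = PGL(2, F) = GL(2, F) modulo its centre. If G is a finite group with the same order as P and nse(G) = nse(P), then G is isomorphic to P. -/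
theorem result {F : Type*} [Field F] [Fintype F] (hodd : Odd (Fintype.card F)) (h3 : 3 < Fintype.card F)
    {G : Type*} [Group G] [Finite G] (hcard : Nat.card G = Nat.card (GL (Fin 2) F ⧸ Subgroup.center (GL (Fin 2) F)))
    (hnse : {c : ℕ | 0 < c ∧ ∃ n : ℕ, c = Nat.card {g : G // orderOf g = n}} = {c : ℕ | 0 < c ∧ ∃ n : ℕ, c = Nat.card {g : (GL (Fin 2) F ⧸ Subgroup.center (GL (Fin 2) F)) // orderOf g = n}}) :
    Nonempty (G ≃* (GL (Fin 2) F ⧸ Subgroup.center (GL (Fin 2) F))) := by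
  classical
  obtain ⟨p, hpc⟩ := CharP.exists F
  haveI := hpc
  obtain ⟨⟨n, hn⟩, hp, hF⟩ := FiniteField.card F p
  haveI := Fact.mk hp
  have hn0 : n ≠ 0 := Nat.pos_iff_ne_zero.1 hn
  have hF' : Fintype.card F = p ^ n := hF
  have hp2 : p ≠ 2 := by
    rintro rfl
    rw [hF', Nat.odd_pow_iff hn0] at hodd
    exact absurd hodd (by decide)
  have hval : ∀ m, CfsgLib.Recog.OrderCounts.cnt G m = 1 ∨
      CfsgLib.Recog.OrderCounts.cnt G m = (p ^ n) ^ 2 - 1 ∨
      p ^ n ∣ CfsgLib.Recog.OrderCounts.cnt G m := by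
    intro m
    rcases Nat.eq_zero_or_pos (Nat.card {g : G // orderOf g = m}) with h | h
    · exact Or.inr (Or.inr (by unfold CfsgLib.Recog.OrderCounts.cnt; rw [h]; exact dvd_zero _))
    · have hmem : Nat.card {g : G // orderOf g = m} ∈
          {c : ℕ | 0 < c ∧ ∃ n : ℕ, c = Nat.card {g : G // orderOf g = n}} := ⟨h, m, rfl⟩
      rw [hnse] at hmem
      obtain ⟨-, k, hk⟩ := hmem
      have := CfsgLib.RecogPGL2.values (F := F) hp hF' hn0 k
      unfold CfsgLib.Recog.OrderCounts.cnt at this ⊢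
      rw [hk]
      exact this
  have hsq : ∃ m, CfsgLib.Recog.OrderCounts.cnt G m = (p ^ n) ^ 2 := by
    have h2 : Nat.card {g : (GL (Fin 2) F ⧸ Subgroup.center (GL (Fin 2) F)) // orderOf g = 2} = (p ^ n) ^ 2 :=
      (CfsgLib.RecogPGL2.cnt_invol (F := F) hodd).trans (by rw [hF'])
    have hmem : (p ^ n) ^ 2 ∈ {c : ℕ | 0 < c ∧ ∃ n : ℕ,
        c = Nat.card {g : (GL (Fin 2) F ⧸ Subgroup.center (GL (Fin 2) F)) // orderOf g = n}} :=
      ⟨pow_pos (pow_pos hp.pos _) _, 2, h2.symm⟩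
    rw [← hnse] at hmem
    obtain ⟨-, k, hk⟩ := hmem
    exact ⟨k, hk.symm⟩
  have H : CfsgLib.RecogPGL2.Hyp G p n :=
    { prime := hp, odd := hp2, npos := hn0, three := hF' ▸ h3,
      card := hcard.trans ((CfsgLib.RecogPGL2.card_pgl (F := F)).trans (by rw [hF'])),
      vals := hval, sq := hsq }
  obtain ⟨K, iK, iKf, hK, ⟨φ⟩⟩ := CfsgLib.RecogPGL2.exists_mulEquiv H
  obtain ⟨ψ⟩ := CfsgLib.RecogPGL2.pgl_congr
    (FiniteField.ringEquivOfCardEq (K := K) (K' := F) (by rw [hK, hF']))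
  exact ⟨φ.trans ψ⟩

end Cfsg.Agent.S3648
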