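import Cfsg.Statements.S3662
import Cfsg.Agent.Lib.Recog.G2FourGraph
import Cfsg.Agent.Lib.Chevalley.FieldMap
import Cfsg.Agent.S1059

set_option autoImplicit false
open Cfsg

namespace Cfsg.Agent.S3662

/-- The prime graph of a finite group has the prime divisors of its order as vertices, two distinct primes p, q being joined when the group has an element of order pq; two groups have the same prime graph when they have the same prime divisors and the same joined pairs. Let F be the field with 4 elements and L the Chevalley group of type G₂ over F. There are finite groups of arbitrarily large order with the same prime graph as L. -/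
theorem result {F : Type*} [Field F] [Fintype F] (hF : Fintype.card F = 4) (N : ℕ) :
    ∃ (H : Type) (_ : Group H) (_ : Finite H), N < Nat.card H ∧
      ((∀ p : ℕ, p.Prime → (p ∣ Nat.card ↥(Cfsg.Lie.chevG2.group F) ↔ p ∣ Nat.card H)) ∧
      (∀ p q : ℕ, p.Prime → q.Prime → p ≠ q → ((∃ g : ↥(Cfsg.Lie.chevG2.group F), orderOf g = p * q) ↔ (∃ g : H, orderOf g = p * q)))) := by
  let e : F ≃+* CfsgLib.Recog.GF4.K4 :=
    FiniteField.ringEquivOfCardEq (hF.trans CfsgLib.Recog.GF4.card_K4.symm)
  let f := CfsgLib.Chevalley.groupFieldEquiv Cfsg.Lie.chevG2 e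
  have hc : Nat.card CfsgLib.Recog.GF4.G24 = 4 ^ 6 * (4 ^ 2 - 1) * (4 ^ 6 - 1) :=
    Cfsg.Agent.S1059.result CfsgLib.Recog.GF4.card_K4
  obtain ⟨H, iG, iF, hN, hs⟩ := CfsgLib.Recog.GF4.exists_large hc N
  exact ⟨H, iG, inferInstance, hN, ((CfsgLib.Recog.SamePrimeGraph.of_mulEquiv f).trans hs).1,
    ((CfsgLib.Recog.SamePrimeGraph.of_mulEquiv f).trans hs).2⟩

end Cfsg.Agent.S3662
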