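import Cfsg.Statements.S3663
import Cfsg.Agent.Lib.Recog.U34Graph

set_option autoImplicit false
open Cfsg

namespace Cfsg.Agent.S3663

open CfsgLib.Recog CfsgLib.Recog.GF16

theorem form_map {F K : Type*} [Field F] [Field K] (e : F ≃+* K) (q : ℕ)
    (u v : Fin 3 → F) :
    Cfsg.hermForm 3 K q (e ∘ u) (e ∘ v) = e (Cfsg.hermForm 3 F q u v) := by
  simp [Cfsg.hermForm, map_sum, map_mul, map_pow]

theorem map_mem_su {F K : Type*} [Field F] [Field K] (e : F ≃+* K) (q : ℕ)
    {g : Matrix.SpecialLinearGroup (Fin 3) F} (hg : g ∈ Cfsg.SU 3 F q) :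
    Matrix.SpecialLinearGroup.map e.toRingHom g ∈ Cfsg.SU 3 K q := by
  intro u v
  obtain ⟨u', rfl⟩ : ∃ u' : Fin 3 → F, e ∘ u' = u := ⟨e.symm ∘ u, by funext i; simp⟩
  obtain ⟨v', rfl⟩ : ∃ v' : Fin 3 → F, e ∘ v' = v := ⟨e.symm ∘ v, by funext i; simp⟩
  have hv : ∀ w : Fin 3 → F,
      Matrix.mulVec (Cfsg.slToMat 3 K (Matrix.SpecialLinearGroup.map e.toRingHom g)) (e ∘ w) =
        e ∘ Matrix.mulVec (Cfsg.slToMat 3 F g) w := fun w => by
    funext i
    exact (RingHom.map_mulVec e.toRingHom _ w i).symm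
  rw [hv, hv, form_map, form_map, hg u' v']

/-- Isomorphic fields give isomorphic unitary groups. -/
def suCongr {F K : Type*} [Field F] [Field K] (e : F ≃+* K) (q : ℕ) :
    ↥(Cfsg.SU 3 F q) ≃* ↥(Cfsg.SU 3 K q) where
  toFun g := ⟨Matrix.SpecialLinearGroup.map e.toRingHom g.1, map_mem_su e q g.2⟩
  invFun g := ⟨Matrix.SpecialLinearGroup.map e.symm.toRingHom g.1, map_mem_su e.symm q g.2⟩
  left_inv g := by
    apply Subtype.ext
    apply Subtype.ext
    ext i j
    exact e.symm_apply_apply _
  right_inv g := by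
    apply Subtype.ext
    apply Subtype.ext
    ext i j
    exact e.apply_symm_apply _
  map_mul' a b := Subtype.ext (map_mul _ _ _)

/-- The prime graph of a finite group has the prime divisors of its order as vertices, two distinct primes p, q being joined when the group has an element of order pq; two groups have the same prime graph when they have the same prime divisors and the same joined pairs. Let F be the field with 16 elements and L = PSU(3,4) realised over F. There are finite groups of arbitrarily large order with the same prime graph as L. -/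
theorem result {F : Type*} [Field F] [Fintype F] (hF : Fintype.card F = 16) (N : ℕ) :
    ∃ (H : Type) (_ : Group H) (_ : Finite H), N < Nat.card H ∧
      ((∀ p : ℕ, p.Prime → (p ∣ Nat.card (Cfsg.PSU 3 F 4) ↔ p ∣ Nat.card H)) ∧
      (∀ p q : ℕ, p.Prime → q.Prime → p ≠ q → ((∃ g : (Cfsg.PSU 3 F 4), orderOf g = p * q) ↔ (∃ g : H, orderOf g = p * q)))) := by
  let e : F ≃+* K16 := FiniteField.ringEquivOfCardEq (hF.trans card_K16.symm)
  have hFq : Fintype.card F = 4 ^ 2 := by rw [hF]; norm_num
  have hbot : Subgroup.center ↥(Cfsg.SU 3 F 4) = ⊥ := by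
    apply Subgroup.eq_bot_of_card_eq
    rw [CfsgLib.Classical.Herm.card_center_su hFq le_rfl]
    norm_num
  let f : Cfsg.PSU 3 F 4 ≃* U34 :=
    ((QuotientGroup.quotientMulEquivOfEq hbot).trans QuotientGroup.quotientBot).trans (suCongr e 4)
  obtain ⟨H, iG, iF, hN, hs⟩ := exists_large N
  exact ⟨H, iG, inferInstance, hN, ((SamePrimeGraph.of_mulEquiv f).trans hs).1,
    ((SamePrimeGraph.of_mulEquiv f).trans hs).2⟩

end Cfsg.Agent.S3663
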