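import Cfsg.Statements.S3664
import Cfsg.Agent.Lib.Recog.SpSixGraph
import Cfsg.Agent.Lib.Recog.SzEightExt

set_option autoImplicit false
open Cfsg

namespace Cfsg.Agent.S3664

open Matrix CfsgLib.Recog

theorem map_mem_symplectic {R S : Type*} [CommRing R] [CommRing S] (e : R →+* S) {m : ℕ}
    {A : Matrix (Fin m ⊕ Fin m) (Fin m ⊕ Fin m) R} (hA : A ∈ Matrix.symplecticGroup (Fin m) R) :
    A.map e ∈ Matrix.symplecticGroup (Fin m) S := by
  rw [SymplecticGroup.mem_iff] at hA ⊢
  have hJ : (Matrix.J (Fin m) R).map e = Matrix.J (Fin m) S := by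
    ext i j
    rcases i with i | i <;> rcases j with j | j <;> simp [Matrix.J, Matrix.one_apply, apply_ite e]
  have h := congrArg (fun M : Matrix _ _ R => M.map e) hA
  simp only [Matrix.map_mul, hJ, Matrix.transpose_map] at h
  exact h

/-- Isomorphic rings give isomorphic symplectic groups. -/
def sympCongr {R S : Type*} [CommRing R] [CommRing S] (e : R ≃+* S) (m : ℕ) :
    ↥(Matrix.symplecticGroup (Fin m) R) ≃* ↥(Matrix.symplecticGroup (Fin m) S) where
  toFun g := ⟨g.1.map e.toRingHom, map_mem_symplectic e.toRingHom g.2⟩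
  invFun g := ⟨g.1.map e.symm.toRingHom, map_mem_symplectic e.symm.toRingHom g.2⟩
  left_inv g := by
    apply Subtype.ext
    ext i j
    exact e.symm_apply_apply _
  right_inv g := by
    apply Subtype.ext
    ext i j
    exact e.apply_symm_apply _
  map_mul' a b := Subtype.ext (Matrix.map_mul (f := e.toRingHom))

theorem map_center {G H : Type*} [Group G] [Group H] (f : G ≃* H) :
    (Subgroup.center G).map f.toMonoidHom = Subgroup.center H := by
  ext y
  constructor
  · rintro ⟨x, hx, rfl⟩
    refine Subgroup.mem_center_iff.2 fun h => ?_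
    obtain ⟨g, rfl⟩ := f.surjective h
    show f g * f x = f x * f g
    rw [← map_mul, Subgroup.mem_center_iff.1 hx g, map_mul]
  · intro hy
    refine ⟨f.symm y, Subgroup.mem_center_iff.2 fun g => f.injective ?_, f.apply_symm_apply y⟩
    rw [map_mul, map_mul, f.apply_symm_apply]
    exact Subgroup.mem_center_iff.1 hy (f g)

/-- The prime graph of a finite group has the prime divisors of its order as vertices, two distinct primes p, q being joined when the group has an element of order pq; two groups have the same prime graph when they have the same prime divisors and the same joined pairs. Let F be the field with 3 elements and L = PSp(6,F). There are finite groups of arbitrarily large order with the same prime graph as L (a prime graph shared by the orthogonal groups Ω₇(3) and PΩ⁺₈(3)). -/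
theorem result {F : Type*} [Field F] [Fintype F] (hF : Fintype.card F = 3) (N : ℕ) :
    ∃ (H : Type) (_ : Group H) (_ : Finite H), N < Nat.card H ∧
      ((∀ p : ℕ, p.Prime → (p ∣ Nat.card (Cfsg.PSp 3 F) ↔ p ∣ Nat.card H)) ∧
      (∀ p q : ℕ, p.Prime → q.Prime → p ≠ q → ((∃ g : (Cfsg.PSp 3 F), orderOf g = p * q) ↔ (∃ g : H, orderOf g = p * q)))) := by
  let e : F ≃+* ZMod 3 := (ZMod.ringEquivOfPrime F Nat.prime_three hF).symm
  let f : Cfsg.PSp 3 F ≃* SpSix.P63 :=
    QuotientGroup.congr _ _ (sympCongr e 3) (map_center (sympCongr e 3))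
  obtain ⟨H, iG, iF, hN, hp, hadj⟩ := GF8.exists_large N
  refine ⟨H, iG, iF, hN, fun r hr => ?_, fun r s hr hs hne => ?_⟩
  · rw [Nat.card_congr f.toEquiv, SpSix.primes_P63 hr, hp r hr]
  · exact (((SamePrimeGraph.of_mulEquiv f).2 r s hr hs hne).trans (SpSix.adj_P63 hr hs hne)).trans
      (hadj r s hr hs hne).symm

end Cfsg.Agent.S3664
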