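import Cfsg.Statements.S3668
import Cfsg.Agent.S0496
import Cfsg.Agent.S0983
import Cfsg.Agent.Lib.SmallSimple.Models
import Cfsg.Agent.Lib.SmallSimple.Range1093A
import Cfsg.Agent.Lib.SmallSimple.Range1093B
import Cfsg.Agent.Lib.SmallSimple.Range1093C
import Cfsg.Agent.Lib.SmallSimple.Range1093D
import Cfsg.Agent.Lib.SmallSimple.NonSimplePrime
import Cfsg.Agent.Lib.SmallSimple.NonSimpleChief
import Cfsg.Agent.Lib.SmallSimple.NonSimple2520
import Cfsg.Agent.Lib.SmallSimple.NonSimple360
import Cfsg.Agent.Lib.SmallSimple.Order1344
import Cfsg.Agent.Lib.SmallSimple.Order1512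
import Cfsg.Agent.Lib.SmallSimple.Order1680
import Cfsg.Agent.Lib.SmallSimple.Order1800
import Cfsg.Agent.Lib.SmallSimple.Order2700
import Cfsg.Agent.Lib.SmallSimple.Order3360
import Cfsg.Agent.Lib.SmallSimple.Order3600

set_option autoImplicit false
open Cfsg CfsgLib.SmallOrder CfsgLib.SmallSimple

namespace Cfsg.Agent.S3668

/-- The orders of the non-abelian simple groups below 6000. -/
theorem card_cases {S : Type*} [Group S] [Finite S] [IsSimpleGroup S] (hS : ¬ IsMulCommutative S)
    (hlt : Nat.card S < 6000) :
    Nat.card S ∈ [60, 168, 360, 504, 660, 1092, 2448, 2520, 3420, 4080, 5616] := by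
  by_cases h1 : Nat.card S ≤ 1092
  · rcases Cfsg.Agent.S0496.result hS h1 with h | h | h | h | h | h <;> rw [h] <;> simp
  by_cases h2 : 3640 < Nat.card S
  · rcases Cfsg.Agent.S0983.result hS h2 (by omega) with h | h | h | h
    · rw [h]; simp
    · rw [h]; simp
    · omega
    · omega
  have hmem : Nat.card S ∈ [1344, 1512, 1680, 1800, 2448, 2520, 2700, 3360, 3420, 3600] := by
    by_cases h1093 : Nat.card S < 1309
    · exact card_mem_of_rangeExcluded hS rangeExcluded_1093 (by omega) h1093
    by_cases h1309 : Nat.card S < 1525
    · exact card_mem_of_rangeExcluded hS rangeExcluded_1309 (by omega) h1309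
    by_cases h1525 : Nat.card S < 1741
    · exact card_mem_of_rangeExcluded hS rangeExcluded_1525 (by omega) h1525
    by_cases h1741 : Nat.card S < 1957
    · exact card_mem_of_rangeExcluded hS rangeExcluded_1741 (by omega) h1741
    by_cases h1957 : Nat.card S < 2173
    · exact card_mem_of_rangeExcluded hS rangeExcluded_1957 (by omega) h1957
    by_cases h2173 : Nat.card S < 2389
    · exact card_mem_of_rangeExcluded hS rangeExcluded_2173 (by omega) h2173
    by_cases h2389 : Nat.card S < 2605
    · exact card_mem_of_rangeExcluded hS rangeExcluded_2389 (by omega) h2389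
    by_cases h2605 : Nat.card S < 2821
    · exact card_mem_of_rangeExcluded hS rangeExcluded_2605 (by omega) h2605
    by_cases h2821 : Nat.card S < 3037
    · exact card_mem_of_rangeExcluded hS rangeExcluded_2821 (by omega) h2821
    by_cases h3037 : Nat.card S < 3253
    · exact card_mem_of_rangeExcluded hS rangeExcluded_3037 (by omega) h3037
    by_cases h3253 : Nat.card S < 3469
    · exact card_mem_of_rangeExcluded hS rangeExcluded_3253 (by omega) h3253
    exact card_mem_of_rangeExcluded hS rangeExcluded_3469 (by omega) (by omega)
  simp only [List.mem_cons, List.not_mem_nil, or_false] at hmem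
  rcases hmem with h | h | h | h | h | h | h | h | h | h
  · exact absurd h card_ne_1344
  · exact absurd h card_ne_1512
  · exact absurd h card_ne_1680
  · exact absurd h card_ne_1800
  · rw [h]; simp
  · rw [h]; simp
  · exact absurd h card_ne_2700
  · exact absurd h card_ne_3360
  · rw [h]; simp
  · exact absurd h card_ne_3600

/-- The character degree graph of a finite group has as vertices the primes dividing some irreducible complex character degree, two distinct primes being joined when their product divides some irreducible character degree; two groups have the same character degree graph when they have the same vertices and the same joined pairs. Let S be a finite non-abelian simple group of order less than 6000. If a finite group G has the same order as S and the same character degree graph as S, then G is isomorphic to S. -/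
theorem result {S : Type*} [Group S] [Finite S] [IsSimpleGroup S] (hS : ¬ IsMulCommutative S)
    (hlt : Nat.card S < 6000) {G : Type*} [Group G] [Finite G] (hcard : Nat.card G = Nat.card S) (hΓ : Cfsg.degreePrimes G = Cfsg.degreePrimes S ∧ Cfsg.degreeGraph G = Cfsg.degreeGraph S) :
    Nonempty (G ≃* S) := by
  obtain ⟨hV, hA⟩ := hΓ
  have hmem := card_cases hS hlt
  simp only [List.mem_cons, List.not_mem_nil, or_false] at hmem
  rcases hmem with h | h | h | h | h | h | h | h | h | h | h <;> rw [h] at hcard
  · have := simple_60 hcard (hV ▸ vertices_60 h)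
    exact iso_60 h hcard
  · have := simple_168 hcard (hV ▸ (vertices_168 h).1) (hV ▸ (vertices_168 h).2)
    exact iso_168 h hcard
  · obtain ⟨-, -, h5, h25, h23⟩ := graph_360 h
    have := simple_360 hcard (hV ▸ h5) (hA ▸ h25) (hA ▸ h23)
    exact iso_360 h hcard
  · obtain ⟨h2, h7, h23⟩ := graph_504 h
    have := simple_504 hcard (hV ▸ h2) (hV ▸ h7) (hA ▸ h23)
    exact iso_504 h hcard
  · have := simple_660 hcard (hV ▸ vertices_660 h)
    exact iso_660 h hcard
  · have := simple_1092 hcard (hV ▸ vertices_1092 h)
    exact iso_1092 h hcard
  · have := simple_2448 hcard (hV ▸ vertices_2448 h)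
    exact iso_2448 h hcard
  · have := simple_2520 hcard (hV ▸ (vertices_2520 h).1) (hV ▸ (vertices_2520 h).2)
    exact iso_2520 h hcard
  · have := simple_3420 hcard (hV ▸ vertices_3420 h)
    exact iso_3420 h hcard
  · have := simple_4080 hcard (hV ▸ vertices_4080 h)
    exact iso_4080 h hcard
  · have := simple_5616 hcard (hV ▸ (vertices_5616 h).1) (hV ▸ (vertices_5616 h).2)
    exact iso_5616 h hcard

end Cfsg.Agent.S3668
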