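import Cfsg.Statements.S3670
import Cfsg.Agent.Lib.UnitaryThreeThree.Chars
import Cfsg.Agent.Lib.UnitaryThreeThree.Witness
import Cfsg.Agent.Lib.CharTools.Basic

set_option autoImplicit false
open Cfsg

namespace Cfsg.Agent.S3670

/-- Prime divisors of character degrees of a group of order 6048. -/
theorem prime_dvd_degree {X : Type*} [Group X] [Finite X] (hX : Nat.card X = 6048) (p : ℕ) (hp : p.Prime)
    (hd : ∃ d ∈ Cfsg.charDegrees X, p ∣ d) : p = 2 ∨ p = 3 ∨ p = 7 := by
  obtain ⟨d, ⟨χ, rfl⟩, hpd⟩ := hd
  have h := (hpd.trans (CfsgLib.CharTools.degree_dvd_card χ)).trans (dvd_of_eq hX)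
  rw [show (6048 : ℕ) = 2 ^ 5 * (3 ^ 3 * 7) by norm_num] at h
  rcases hp.dvd_mul.1 h with h | h
  · exact Or.inl ((Nat.prime_dvd_prime_iff_eq hp Nat.prime_two).1 (hp.dvd_of_dvd_pow h))
  · rcases hp.dvd_mul.1 h with h | h
    · exact Or.inr (Or.inl ((Nat.prime_dvd_prime_iff_eq hp Nat.prime_three).1 (hp.dvd_of_dvd_pow h)))
    · exact Or.inr (Or.inr ((Nat.prime_dvd_prime_iff_eq hp (by norm_num)).1 h))

/-- The character degree graph of a finite group has as vertices the primes dividing some irreducible complex character degree, two distinct primes being joined when their product divides some irreducible character degree; two groups have the same character degree graph when they have the same vertices and the same joined pairs. Let F be the field with 9 elements and L = PSU(3,3) realised over F (order 6048). There is a finite solvable group of order 6048 with the same character degree graph as L; so L is not determined by its order together with its character degree graph. -/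
theorem result {F : Type*} [Field F] [Fintype F] (hF : Fintype.card F = 9) :
    ∃ (H : Type) (_ : Group H) (_ : Fintype H), Group.IsSolvable H ∧ Nat.card H = 6048 ∧ Cfsg.degreePrimes H = Cfsg.degreePrimes (Cfsg.PSU 3 F 3) ∧ Cfsg.degreeGraph H = Cfsg.degreeGraph (Cfsg.PSU 3 F 3) := by
  classical
  obtain ⟨D⟩ := CfsgLib.UThree.exists_nine hF
  letI : Fintype CfsgLib.UThree.Witness.H := Fintype.ofFinite _
  refine ⟨CfsgLib.UThree.Witness.H, inferInstance, inferInstance, CfsgLib.UThree.Witness.isSolvable_H,
    CfsgLib.UThree.Witness.card_H, ?_⟩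
  have hz := CfsgLib.UThree.center_SU D
  let e : Cfsg.PSU 3 F 3 ≃* Cfsg.SU 3 F 3 :=
    (QuotientGroup.quotientMulEquivOfEq hz).trans QuotientGroup.quotientBot
  letI : Fintype (Cfsg.SU 3 F 3) := Fintype.ofFinite _
  letI : Fintype (Cfsg.PSU 3 F 3) := Fintype.ofFinite _
  have hcard : Nat.card (Cfsg.PSU 3 F 3) = 6048 := by
    rw [Nat.card_congr e.toEquiv, CfsgLib.UThree.card_SU D]
  have transfer : ∀ (θ : Cfsg.SU 3 F 3 → ℂ) (f : ℕ → GaussianInt) (d : ℕ), 0 < d →
      Cfsg.IsGeneralizedCharacter (Cfsg.SU 3 F 3) θ →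
      (∀ c : Fin 14, θ (D.repG c) = GaussianInt.toComplex (f c.val)) →
      CfsgLib.UThree.gnorm f = 6048 → f 12 = (d : GaussianInt) → d ∈ Cfsg.charDegrees (Cfsg.PSU 3 F 3) := by
    intro θ f d hd hg hv hn h1
    obtain ⟨hirr, hdeg⟩ := CfsgLib.UThree.isIrr_of_table D hg hd hv hn h1
    have h := CfsgLib.GLFlags.isIrrCharacter_of_norm_one
      (θ := fun x => θ (e.toMonoidHom x))
      (CfsgLib.Char.IsGeneralizedCharacter.comp hg e.toMonoidHom)
      (by rw [CfsgLib.CharTools.classInner_comp_surjective e.toMonoidHom e.surjective θ θ]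
          exact CfsgLib.Char.classInner_irr_self hirr)
      ⟨d, by exact_mod_cast hd, by
        rw [map_one, ← CfsgLib.CharTools.degree_cast (CfsgLib.Char.IsIrrCharacter.isCharacter hirr), hdeg]
        simp⟩
    refine ⟨⟨_, h⟩, ?_⟩
    show Cfsg.charDegree (fun x => θ (e.toMonoidHom x)) = d
    rw [Cfsg.charDegree, map_one]
    exact hdeg
  obtain ⟨-, ⟨n28, n21, n6⟩, ⟨o28, o21, o6⟩⟩ := CfsgLib.UThree.tables
  obtain ⟨g28, g21, g6⟩ := CfsgLib.UThree.gen_chars D
  have d28 := transfer _ _ 28 (by norm_num) g28 (fun c => (CfsgLib.UThree.rep_values D c).1) n28 (by simpa using o28)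
  have d21 := transfer _ _ 21 (by norm_num) g21 (fun c => (CfsgLib.UThree.rep_values D c).2.1) n21 (by simpa using o21)
  have d6 := transfer _ _ 6 (by norm_num) g6 (fun c => (CfsgLib.UThree.rep_values D c).2.2) n6 (by simpa using o6)
  have d42 := CfsgLib.UThree.Witness.exists_degree
  constructor
  · ext p
    constructor
    · rintro ⟨hp, hd⟩
      refine ⟨hp, ?_⟩
      rcases prime_dvd_degree CfsgLib.UThree.Witness.card_H p hp hd with rfl | rfl | rfl
      · exact ⟨6, d6, by norm_num⟩
      · exact ⟨6, d6, by norm_num⟩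
      · exact ⟨28, d28, by norm_num⟩
    · rintro ⟨hp, hd⟩
      refine ⟨hp, 42, d42, ?_⟩
      rcases prime_dvd_degree hcard p hp hd with rfl | rfl | rfl <;> norm_num
  · apply SimpleGraph.ext
    funext p q
    apply propext
    constructor
    · rintro ⟨hne, hp, hq, d, hd, hpq⟩
      refine ⟨hne, hp, hq, ?_⟩
      have hp' := prime_dvd_degree CfsgLib.UThree.Witness.card_H p hp ⟨d, hd, (dvd_mul_right p q).trans hpq⟩
      have hq' := prime_dvd_degree CfsgLib.UThree.Witness.card_H q hq ⟨d, hd, (dvd_mul_left q p).trans hpq⟩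
      rcases hp' with rfl | rfl | rfl <;> rcases hq' with rfl | rfl | rfl <;>
        first
          | exact absurd rfl hne
          | (refine ⟨6, d6, ?_⟩; norm_num; done)
          | (refine ⟨21, d21, ?_⟩; norm_num; done)
          | (refine ⟨28, d28, ?_⟩; norm_num; done)
    · rintro ⟨hne, hp, hq, d, hd, hpq⟩
      refine ⟨hne, hp, hq, 42, d42, ?_⟩
      have hp' := prime_dvd_degree hcard p hp ⟨d, hd, (dvd_mul_right p q).trans hpq⟩
      have hq' := prime_dvd_degree hcard q hq ⟨d, hd, (dvd_mul_left q p).trans hpq⟩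
      rcases hp' with rfl | rfl | rfl <;> rcases hq' with rfl | rfl | rfl <;>
        first
          | exact absurd rfl hne
          | norm_num

end Cfsg.Agent.S3670
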