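import Cfsg.Statements.S3680
import Cfsg.Agent.Lib.CharSimple.Basic
import Cfsg.Agent.Lib.Perm.Basic

set_option autoImplicit false
open Cfsg

namespace Cfsg.Agent.S3680

/-- The socle of a finite primitive permutation group. Let a finite group G act faithfully and primitively on a set Ω, and let N be the subgroup generated by the minimal normal subgroups of G. Then either N is an elementary abelian p-group for some prime p and acts regularly on Ω (transitively with trivial point stabilizers), or N is isomorphic to a direct product of m ≥ 1 copies of a non-abelian simple group. -/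
theorem result {G Ω : Type*} [Group G] [Finite G] [MulAction G Ω] [FaithfulSMul G Ω] [Finite Ω]
    (hprim : MulAction.IsPreprimitive G Ω) (N : Subgroup G)
    (hN : N = sSup {V : Subgroup G | V.Normal ∧ V ≠ ⊥ ∧ ∀ M : Subgroup G, M.Normal → M ≤ V → M = ⊥ ∨ M = V}) :
    (∃ p : ℕ, p.Prime ∧ IsMulCommutative N ∧ (∀ x : N, x ^ p = 1) ∧
      MulAction.IsPretransitive N Ω ∧ ∀ ω : Ω, MulAction.stabilizer N ω = ⊥) ∨
    (∃ (T : Type) (_ : Group T) (m : ℕ), 1 ≤ m ∧ IsSimpleGroup T ∧ ¬ IsMulCommutative T ∧ Nonempty (N ≃* (Fin m → T))) := by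
  classical
  haveI := hprim
  set 𝓜 := {V : Subgroup G | V.Normal ∧ V ≠ ⊥ ∧ ∀ M : Subgroup G, M.Normal → M ≤ V → M = ⊥ ∨ M = V}
  by_cases hex : ∃ M, M ∈ 𝓜
  swap
  · push Not at hex
    have hGbot : (⊤ : Subgroup G) = ⊥ := by
      by_contra hne
      haveI : Finite (Subgroup G) := Finite.of_injective _ SetLike.coe_injective
      obtain ⟨M, ⟨hMn, hM⟩, hleast⟩ := Set.exists_min_image {V : Subgroup G | V.Normal ∧ V ≠ ⊥}
        (fun V => Nat.card V) (Set.toFinite _) ⟨⊤, inferInstance, hne⟩
      exact hex M ⟨hMn, hM, fun L hL hle => or_iff_not_imp_left.2 fun hL0 =>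
        Subgroup.eq_of_le_of_card_ge hle (hleast L ⟨hL, hL0⟩)⟩
    left
    have hsub : ∀ g : G, g = 1 := fun g => by
      have : g ∈ (⊤ : Subgroup G) := Subgroup.mem_top g
      rwa [hGbot, Subgroup.mem_bot] at this
    refine ⟨2, Nat.prime_two, ⟨⟨fun a b => Subtype.ext ((hsub _).trans (hsub _).symm)⟩⟩,
      fun x => Subtype.ext (hsub _), ⟨fun a b => ?_⟩, fun ω => ?_⟩
    · obtain ⟨g, hg⟩ := MulAction.exists_smul_eq G a b
      rw [hsub g, one_smul] at hg
      exact ⟨1, by rw [one_smul]; exact hg⟩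
    · exact (Subgroup.eq_bot_iff_forall _).2 fun x _ => Subtype.ext (hsub _)
  have htrans : ∀ M ∈ 𝓜, MulAction.IsPretransitive M Ω := fun M hM => by
    haveI := hM.1
    exact CfsgLib.Perm.isPretransitive_of_normal M hM.2.1
  have hcomm : ∀ M ∈ 𝓜, ∀ L ∈ 𝓜, M ≠ L → ∀ m ∈ M, ∀ l ∈ L, m * l = l * m := fun M hM L hL hne => by
    haveI := hM.1
    haveI := hL.1
    refine CfsgLib.Perm.commute_of_minimal_normal hM.2.2 fun hle => ?_
    rcases hL.2.2 M hM.1 hle with h | h
    · exact hM.2.1 h
    · exact hne h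
  rcases isEmpty_or_nonempty Ω with hΩ | hΩ
  · obtain ⟨M, hM⟩ := hex
    exact absurd ((Subgroup.eq_bot_iff_forall M).2 fun m _ =>
      FaithfulSMul.eq_of_smul_eq_smul (α := Ω) fun x => hΩ.elim x) hM.2.1
  by_cases hab : ∃ M ∈ 𝓜, IsMulCommutative M
  · obtain ⟨M, hM, hMab⟩ := hab
    haveI := hM.1
    haveI := htrans M hM
    have hNM : N = M := by
      rw [hN]
      refine le_antisymm (sSup_le fun L hL => ?_) (le_sSup hM)
      by_cases h : M = L
      · rw [h]
      intro l hl
      exact CfsgLib.Perm.mem_of_commute_of_transitive (α := Ω) M M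
        (fun m hm n hn => congrArg Subtype.val (hMab.is_comm.comm ⟨m, hm⟩ ⟨n, hn⟩))
        (fun m hm => hcomm M hM L hL h m hm l hl)
    left
    obtain ⟨p, hp, hpe⟩ := CfsgLib.Perm.exists_prime_exponent_of_minimal hM.2.1 hM.2.2 hMab
    subst hNM
    exact ⟨p, hp, hMab, fun x => Subtype.ext (hpe x x.2), inferInstance,
      fun ω => CfsgLib.Perm.stabilizer_eq_bot_of_commutative N hMab ω⟩
  right
  push Not at hab
  obtain ⟨M, hM⟩ := hex
  haveI := hM.1
  haveI := htrans M hM
  haveI : Nontrivial M := (Subgroup.nontrivial_iff_ne_bot M).2 hM.2.1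
  obtain ⟨T, iT, hT, n, hn, ⟨e⟩⟩ := CfsgLib.CharSimple.exists_simple_mulEquiv_pi (G := M) fun H hH => by
    haveI := hH
    have h := hM.2.2 (H.map M.subtype) inferInstance (Subgroup.map_subtype_le H)
    rcases h with h | h
    · exact Or.inl ((Subgroup.map_eq_bot_iff_of_injective H M.subtype_injective).1 h)
    · refine Or.inr (Subgroup.map_injective M.subtype_injective ?_)
      rw [h, ← MonoidHom.range_eq_map, Subgroup.range_subtype]
  have hTna : ¬ IsMulCommutative T := fun h => hab M hM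
    ⟨⟨fun a b => e.injective (by
      rw [map_mul, map_mul]
      funext i
      exact h.is_comm.comm _ _)⟩⟩
  by_cases huniq : ∀ L ∈ 𝓜, L = M
  · have hNM : N = M := by
      rw [hN]
      exact le_antisymm (sSup_le fun L hL => (huniq L hL).le) (le_sSup hM)
    exact ⟨T, iT, n, hn, hT, hTna, ⟨(MulEquiv.subgroupCongr hNM).trans e⟩⟩
  push Not at huniq
  obtain ⟨L, hL, hLM⟩ := huniq
  haveI := hL.1
  haveI := htrans L hL
  have hC : ∀ c : G, (∀ m ∈ M, m * c = c * m) → c ∈ L := fun c hc =>
    CfsgLib.Perm.mem_of_commute_of_transitive (α := Ω) M L (hcomm M hM L hL hLM.symm) hc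
  have hNML : N = M ⊔ L := by
    rw [hN]
    refine le_antisymm (sSup_le fun K hK => ?_) (sup_le (le_sSup hM) (le_sSup hL))
    by_cases h : M = K
    · exact h ▸ le_sup_left
    · exact fun k hk => Subgroup.mem_sup_right (hC k fun m hm => hcomm M hM K hK h m hm k hk)
  have hd : Disjoint M L := disjoint_iff.2 (by
    rcases hM.2.2 (M ⊓ L) inferInstance inf_le_left with h | h
    · exact h
    · rcases hL.2.2 M hM.1 (inf_eq_left.1 h) with h' | h'
      · exact absurd h' hM.2.1
      · exact absurd h'.symm hLM)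
  -- two minimal normal subgroups are isomorphic regular subgroups
  obtain ⟨a⟩ := hΩ
  have hsM := CfsgLib.Perm.stabilizer_eq_bot_of_commute L M (hcomm L hL M hM hLM) a
  have hsL := CfsgLib.Perm.stabilizer_eq_bot_of_commute M L (hcomm M hM L hL hLM.symm) a
  let bM := CfsgLib.Perm.regularEquiv M a (htrans M hM) hsM
  let bL := CfsgLib.Perm.regularEquiv L a (htrans L hL) hsL
  let f : M → L := fun m => bL.symm (bM m⁻¹)
  have hf : ∀ m, (f m : G) • a = (m : G)⁻¹ • a := fun m =>
    (bL.apply_symm_apply (bM m⁻¹) : f m • a = m⁻¹ • a)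
  have hmul : ∀ x y, f (x * y) = f x * f y := fun x y => bL.injective (by
    show (f (x * y) : G) • a = ((f x * f y : L) : G) • a
    rw [hf, Subgroup.coe_mul, Subgroup.coe_mul, mul_smul, hf, smul_smul,
      ← hcomm M hM L hL hLM.symm _ (M.inv_mem y.2) _ (f x).2, mul_smul, hf, smul_smul, mul_inv_rev])
  have hbij : Function.Bijective f := bL.symm.bijective.comp (bM.bijective.comp inv_involutive.bijective)
  let eML : M ≃* L := MulEquiv.mk' (Equiv.ofBijective f hbij) hmul
  obtain ⟨eN⟩ := CfsgLib.CharSimple.nonempty_sup_mulEquiv_prod M L hd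
  let pp : (Fin n → T) × (Fin n → T) ≃* (Fin (n + n) → T) :=
    MulEquiv.mk' (Fin.appendEquiv n n) (fun u v => by
      funext i
      induction i using Fin.addCases <;> simp [Fin.appendEquiv, Fin.append, Fin.addCases])
  exact ⟨T, iT, n + n, by omega, hT, hTna,
    ⟨((MulEquiv.subgroupCongr hNML).trans eN).trans ((e.prodCongr (eML.symm.trans e)).trans pp)⟩⟩

end Cfsg.Agent.S3680
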