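import Cfsg.Statements.S3682
import Cfsg.Agent.Lib.Recog.OrbitalKernels

set_option autoImplicit false
open Cfsg

namespace Cfsg.Agent.S3682

open CfsgLib.Recog.TW

/-- Wielandt's bound toward the Sims conjecture. Let a finite group G act faithfully and primitively on a set Ω, let a and b be points, and suppose the orbit of b under the stabilizer of a has length d ≥ 2. Then there are a prime p and a normal p-subgroup P of the stabilizer of a, all of whose elements fix b, such that the index of P in the stabilizer of a divides d! · ((d - 1)!)^d. -/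
theorem result {G Ω : Type*} [Group G] [Finite G] [MulAction G Ω] [FaithfulSMul G Ω] [Finite Ω]
    (hprim : MulAction.IsPreprimitive G Ω) (a b : Ω) (d : ℕ) (hd : Nat.card (MulAction.orbit (MulAction.stabilizer G a) b) = d) (h2 : 2 ≤ d) :
    ∃ p : ℕ, p.Prime ∧ ∃ P : Subgroup (MulAction.stabilizer G a), P.Normal ∧ IsPGroup p P ∧ (∀ g : P, ((g : MulAction.stabilizer G a) : G) • b = b) ∧
      P.index ∣ Nat.factorial d * (Nat.factorial (d - 1)) ^ d := by
  haveI := hprim
  have hr := inv_orb (G := G) a b
  have hdeg := fun v => card_out_orb hprim a b v hd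
  have hbound := relIndex_RR_dvd hr a d (hdeg a).1 fun v _ => (hdeg v).2
  have hbound' := relIndex_RR_dvd hr.flip a d (hdeg a).2 fun v _ => (hdeg v).1
  set A := MulAction.stabilizer G a with hA
  have hXb : K G (orb G a b) a ≤ MulAction.stabilizer G b := K_le_stabilizer_out (orb_self a b)
  -- it suffices to give a suitable subgroup of `G`
  suffices h : ∃ p : ℕ, p.Prime ∧ ∃ P : Subgroup G, P ≤ K G (orb G a b) a ∧
      A ≤ Subgroup.normalizer (P : Set G) ∧ IsPGroup p P ∧
      P.relIndex A ∣ Nat.factorial d * (Nat.factorial (d - 1)) ^ d by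
    obtain ⟨p, hp, P, hPX, hPn, hPp, hPi⟩ := h
    have hPA : P ≤ A := hPX.trans (K_le_stabilizer _ _)
    refine ⟨p, hp, P.subgroupOf A, (Subgroup.normal_subgroupOf_iff_le_normalizer hPA).mpr hPn,
      hPp.comap_of_injective _ A.subtype_injective, fun g => ?_, hPi⟩
    exact MulAction.mem_stabilizer_iff.mp (hXb (hPX g.2))
  rcases dichotomy hprim a b hd h2 with h | h | ⟨p, hp, -, -, -, hpR | hpR⟩
  · refine ⟨2, Nat.prime_two, ⊥, bot_le, ?_, IsPGroup.of_bot, h ▸ hbound⟩
    exact le_top.trans (Subgroup.normalizer_eq_top (H := (⊥ : Subgroup G))).ge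
  · refine ⟨2, Nat.prime_two, ⊥, bot_le, ?_, IsPGroup.of_bot, h ▸ hbound'⟩
    exact le_top.trans (Subgroup.normalizer_eq_top (H := (⊥ : Subgroup G))).ge
  · exact ⟨p, hp, RR G (orb G a b) a, RR_le_K _ _, stabilizer_le_normalizer_RR hr a, hpR, hbound⟩
  · haveI := Fact.mk hp
    set X := K G (orb G a b) a with hX
    set PA := O p A with hPA
    refine ⟨p, hp, PA ⊓ X, inf_le_right, ?_, (isPGroup_O p A).to_le inf_le_left, ?_⟩
    · exact (le_inf (le_normalizer_O p A) (stabilizer_le_normalizer_K hr a)).trans
        Subgroup.inf_normalizer_le_normalizer_inf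
    refine dvd_trans ?_ hbound'
    set R' := RR G (flip (orb G a b)) a with hR'
    have hR'P : R' ≤ PA := le_O ((RR_le_K _ _).trans (K_le_stabilizer _ _))
      (stabilizer_le_normalizer_RR hr.flip a) hpR
    -- an in-neighbour `g • a` of `a`
    obtain ⟨g, hg⟩ := MulAction.exists_smul_eq G b a
    set c := g • a with hc
    have hca : orb G a b c a := ⟨g, rfl, hg⟩
    set S := PA ⊓ K G (orb G a b) c with hS
    have hR'S : R' ≤ S := le_inf hR'P (RR_le_K_flip (r := flip (orb G a b)) hca)
    have hKcA : K G (orb G a b) c ≤ A := K_le_stabilizer_out hca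
    have hST : S ≤ O p (MulAction.stabilizer G c) ⊓ K G (orb G a b) c := by
      refine le_inf ?_ inf_le_right
      refine le_O_of_isSubnormal (inf_le_right.trans (K_le_stabilizer _ _)) ?_
        ((isPGroup_O p A).to_le inf_le_left)
      have hKc : K G (orb G a b) c ≤ MulAction.stabilizer G c := K_le_stabilizer _ _
      refine Subgroup.IsSubnormal.trans (fun x hx => hx.2 :
          S.subgroupOf (MulAction.stabilizer G c) ≤
          (K G (orb G a b) c).subgroupOf (MulAction.stabilizer G c)) ?_
        ((Subgroup.normal_subgroupOf_iff_le_normalizer hKc).mpr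
          (stabilizer_le_normalizer_K hr c)).isSubnormal
      have hle : (S.subgroupOf (MulAction.stabilizer G c)).subgroupOf
          ((K G (orb G a b) c).subgroupOf (MulAction.stabilizer G c)) =
          (S.subgroupOf (K G (orb G a b) c)).comap
            (Subgroup.subgroupOfEquivOfLe hKc).toMonoidHom := by
        ext x; rfl
      rw [hle]
      exact (((Subgroup.normal_subgroupOf_iff_le_normalizer inf_le_right).mpr
        ((le_inf (hKcA.trans (le_normalizer_O p A)) Subgroup.le_normalizer).trans
          Subgroup.inf_normalizer_le_normalizer_inf)).comap _).isSubnormal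
    have hcard : Nat.card ↥(O p (MulAction.stabilizer G c) ⊓ K G (orb G a b) c : Subgroup G) =
        Nat.card ↥(PA ⊓ X : Subgroup G) := by
      rw [hc, ← map_conj_K hr, ← map_conj_stabilizer, ← O_map_conj,
        ← Subgroup.map_inf _ _ _ (MulAut.conj g).injective, CfsgLib.Components.card_map_conj]
    rw [← Subgroup.relIndex_mul_relIndex (PA ⊓ X) PA A inf_le_left (O_le p A),
      ← Subgroup.relIndex_mul_relIndex R' PA A hR'P (O_le p A)]
    refine Nat.mul_dvd_mul ?_ dvd_rfl
    refine dvd_trans ?_ (Subgroup.relIndex_dvd_of_le_left PA hR'S)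
    have e1 : Nat.card ↥(PA ⊓ X : Subgroup G) * (PA ⊓ X).relIndex PA = Nat.card ↥PA := by
      rw [← Subgroup.relIndex_bot_left, ← Subgroup.relIndex_bot_left,
        Subgroup.relIndex_mul_relIndex _ _ _ bot_le inf_le_left]
    have e2 : Nat.card ↥S * S.relIndex PA = Nat.card ↥PA := by
      rw [← Subgroup.relIndex_bot_left, ← Subgroup.relIndex_bot_left,
        Subgroup.relIndex_mul_relIndex _ _ _ bot_le inf_le_left]
    obtain ⟨k, hk⟩ : Nat.card ↥S ∣ Nat.card ↥(PA ⊓ X : Subgroup G) :=
      hcard ▸ Subgroup.card_dvd_of_le hST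
    refine ⟨k, Nat.eq_of_mul_eq_mul_left (Nat.card_pos (α := ↥S)) ?_⟩
    rw [e2, ← e1, hk]
    ring

end Cfsg.Agent.S3682
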