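import Cfsg.Statements.S3683
-- import your own Cfsg.Agent.* helpers here

set_option autoImplicit false
open Cfsg

namespace Cfsg.Agent.S3683

/-- Let a finite group G act faithfully and primitively on a set Ω, and suppose the stabilizer of a point a fixes a second point b ≠ a (a suborbit of length 1 other than {a}). Then the stabilizer of a is trivial and G is cyclic of prime order. -/
theorem result {G Ω : Type*} [Group G] [Finite G] [MulAction G Ω] [FaithfulSMul G Ω] [Finite Ω]
    (hprim : MulAction.IsPreprimitive G Ω) (a b : Ω) (hab : a ≠ b) (hfix : ∀ g : G, g • a = a → g • b = b) :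
    MulAction.stabilizer G a = ⊥ ∧ IsCyclic G ∧ (Nat.card G).Prime := by
  classical
  haveI : Nontrivial Ω := ⟨⟨a, b, hab⟩⟩
  haveI := hprim
  have hle : MulAction.stabilizer G a ≤ MulAction.stabilizer G b := fun g hg => hfix g hg
  have hmax : IsCoatom (MulAction.stabilizer G a) := MulAction.IsPreprimitive.isCoatom_stabilizer_of_isPreprimitive (G := G) a
  have hmaxb : IsCoatom (MulAction.stabilizer G b) := MulAction.IsPreprimitive.isCoatom_stabilizer_of_isPreprimitive (G := G) b
  have heq : MulAction.stabilizer G a = MulAction.stabilizer G b := by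
    rcases hle.eq_or_lt with e | l
    · exact e
    · exact absurd (hmax.2 _ l) hmaxb.1
  obtain ⟨g, hg⟩ := MulAction.exists_smul_eq G a b
  -- g normalizes the stabilizer but is not in it
  have hgn : g ∈ Subgroup.normalizer (MulAction.stabilizer G a : Set G) := by
    rw [Subgroup.mem_normalizer_iff]
    intro h
    conv_rhs => rw [heq]
    simp only [SetLike.mem_coe, MulAction.mem_stabilizer_iff]
    rw [← hg, mul_smul, mul_smul, inv_smul_smul, smul_left_cancel_iff]
  have hnot : g ∉ MulAction.stabilizer G a := fun h => hab (h.symm.trans hg)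
  have hN : (MulAction.stabilizer G a).Normal := by
    rw [← Subgroup.normalizer_eq_top_iff]
    rcases (Subgroup.le_normalizer (H := MulAction.stabilizer G a)).eq_or_lt with e | l
    · exact absurd (e ▸ hgn) hnot
    · exact hmax.2 _ l
  have hbot : MulAction.stabilizer G a = ⊥ := by
    rw [Subgroup.eq_bot_iff_forall]
    intro h hh
    apply FaithfulSMul.eq_of_smul_eq_smul (α := Ω)
    intro x
    obtain ⟨k, rfl⟩ := MulAction.exists_smul_eq G a x
    have := hN.conj_mem h hh k⁻¹
    rw [inv_inv, MulAction.mem_stabilizer_iff, mul_smul, mul_smul, inv_smul_eq_iff] at this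
    rw [this, one_smul]
  refine ⟨hbot, ?_⟩
  rw [hbot] at hmax
  have hz : ∀ x : G, x ≠ 1 → Subgroup.zpowers x = ⊤ := fun x hx =>
    hmax.2 _ (bot_lt_iff_ne_bot.2 (by simpa [Subgroup.zpowers_eq_bot] using hx))
  have hg1 : g ≠ 1 := fun e => hab (by simpa [e] using hg)
  haveI hnt : Nontrivial G := ⟨⟨g, 1, hg1⟩⟩
  haveI : IsCyclic G := ⟨⟨g, fun y => Subgroup.mem_zpowers_iff.1 (by rw [hz g hg1]; exact Subgroup.mem_top y)⟩⟩
  letI : CommGroup G := IsCyclic.commGroup
  haveI : IsSimpleGroup G := ⟨fun K _ => by
    by_cases hK : K = ⊥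
    · exact Or.inl hK
    · exact Or.inr (hmax.2 _ (bot_lt_iff_ne_bot.2 hK))⟩
  exact ⟨inferInstance, IsSimpleGroup.prime_card⟩

end Cfsg.Agent.S3683
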