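import Cfsg.Statements.S3684
-- import your own Cfsg.Agent.* helpers here

set_option autoImplicit false
open Cfsg

namespace Cfsg.Agent.S3684

theorem dihedral_of_two_involutions {G : Type*} [Group G] [Finite G] (t s : G) (ht : t * t = 1)
    (hts : t * s * t = s⁻¹) (hnot : t ∉ Subgroup.zpowers s)
    (hgen : ∀ K : Subgroup G, t ∈ K → s ∈ K → K = ⊤) :
    Nonempty (G ≃* DihedralGroup (orderOf s)) := by
  set m := orderOf s with hm
  haveI : NeZero m := ⟨(orderOf_pos s).ne'⟩
  have hsm : s ^ m = 1 := pow_orderOf_eq_one s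
  let e : ZMod m → G := fun i => s ^ i.val
  have e_add : ∀ i j, e (i + j) = e i * e j := fun i j => by
    simp only [e, ← pow_add, ZMod.val_add]
    exact (pow_mod_orderOf s _)
  have e_zero : e 0 = 1 := by simp [e]
  have e_neg : ∀ i, e (-i) = (e i)⁻¹ := fun i => eq_inv_of_mul_eq_one_left (by rw [← e_add, neg_add_cancel, e_zero])
  have et : ∀ i, e i * t = t * (e i)⁻¹ := by
    intro i
    have h1 : t * e i * t = (e i)⁻¹ := by
      simp only [e]
      rw [← inv_pow, ← hts]
      have := conj_pow (a := t) (b := s) (i := i.val)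
      rw [inv_eq_of_mul_eq_one_right ht] at this
      exact this.symm
    rw [← h1, ← mul_assoc, ← mul_assoc, ht, one_mul]
  let f : DihedralGroup m → G := fun x => match x with
    | .r i => e i
    | .sr i => t * e i
  have fmul : ∀ x y, f (x * y) = f x * f y := by
    rintro (i | i) (j | j)
    · rw [DihedralGroup.r_mul_r]; exact e_add i j
    · rw [DihedralGroup.r_mul_sr]
      show t * e (j - i) = e i * (t * e j)
      rw [← mul_assoc, et, mul_assoc, sub_eq_neg_add, e_add, e_neg]
    · rw [DihedralGroup.sr_mul_r]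
      show t * e (i + j) = t * e i * e j
      rw [e_add, mul_assoc]
    · rw [DihedralGroup.sr_mul_sr]
      show e (j - i) = t * e i * (t * e j)
      rw [mul_assoc, ← mul_assoc (e i), et, mul_assoc t (e i)⁻¹, ← mul_assoc t t, ht, one_mul,
        sub_eq_neg_add, e_add, e_neg]
  let φ : DihedralGroup m →* G := MonoidHom.mk' f fmul
  refine ⟨(MulEquiv.ofBijective φ ⟨?_, ?_⟩).symm⟩
  · rw [injective_iff_map_eq_one]
    rintro (i | i) hi
    · replace hi : s ^ i.val = 1 := hi
      have h1 : m ∣ i.val := orderOf_dvd_of_pow_eq_one hi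
      have h2 : i = 0 := (ZMod.val_eq_zero i).1 (Nat.eq_zero_of_dvd_of_lt h1 (ZMod.val_lt i))
      rw [h2, DihedralGroup.r_zero]
    · replace hi : t * s ^ i.val = 1 := hi
      refine absurd ?_ hnot
      rw [eq_inv_of_mul_eq_one_left hi]
      exact inv_mem (Subgroup.npow_mem_zpowers s _)
  · rw [← MonoidHom.range_eq_top]
    refine hgen _ ⟨.sr 0, ?_⟩ ⟨.r 1, ?_⟩
    · show t * e 0 = t
      rw [e_zero, mul_one]
    · show s ^ (1 : ZMod m).val = s
      rw [ZMod.val_one_eq_one_mod, hm, pow_mod_orderOf, pow_one]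


/-- Let a finite group G act faithfully and primitively on a set Ω, and suppose the stabilizer of a point a has an orbit of length 2. Then the stabilizer of a has order 2 and G is isomorphic to the dihedral group of order 2p for some prime p. -/
theorem result {G Ω : Type*} [Group G] [Finite G] [MulAction G Ω] [FaithfulSMul G Ω] [Finite Ω]
    (hprim : MulAction.IsPreprimitive G Ω) (a b : Ω) (h2 : Nat.card (MulAction.orbit (MulAction.stabilizer G a) b) = 2) :
    Nat.card (MulAction.stabilizer G a) = 2 ∧ ∃ p : ℕ, p.Prime ∧ Nonempty (G ≃* DihedralGroup p) := by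
  classical
  set A := MulAction.stabilizer G a
  set B := MulAction.stabilizer G b
  have hne : ¬ A ≤ B := by
    intro hle
    have : MulAction.orbit A b = {b} := by
      ext x
      constructor
      · rintro ⟨g, rfl⟩
        exact MulAction.mem_stabilizer_iff.1 (hle g.2)
      · rintro rfl
        exact MulAction.mem_orbit_self _
    rw [this] at h2
    simp at h2
  haveI := hprim
  have hab : a ≠ b := fun e => hne (show MulAction.stabilizer G a ≤ MulAction.stabilizer G b by rw [e])
  haveI : Nontrivial Ω := ⟨⟨a, b, hab⟩⟩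
  have hAmax : IsCoatom A := MulAction.IsPreprimitive.isCoatom_stabilizer_of_isPreprimitive (G := G) a
  have hiA : (B.subgroupOf A).index = 2 := by
    rw [← h2]
    have : B.subgroupOf A = MulAction.stabilizer A b := by
      ext g; rfl
    rw [this, MulAction.index_stabilizer, Nat.card_coe_set_eq]
  obtain ⟨g, hg⟩ := MulAction.exists_smul_eq G a b
  have hBA : B = A.map (MulAut.conj g).toMonoidHom := by
    show MulAction.stabilizer G b = _
    rw [← hg, MulAction.stabilizer_smul_eq_stabilizer_map_conj]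
  have hcard : Nat.card B = Nat.card A := by
    rw [hBA]
    exact (Nat.card_congr (A.equivMapOfInjective _ (MulAut.conj g).injective).toEquiv).symm
  have hiB : (A.subgroupOf B).index = 2 := by
    have e1 := Subgroup.card_mul_index (A.subgroupOf B)
    have e2 := Subgroup.card_mul_index (B.subgroupOf A)
    have c1 : Nat.card (A.subgroupOf B) = Nat.card (A ⊓ B : Subgroup G) := by
      rw [← Subgroup.inf_subgroupOf_right, Nat.card_congr (Subgroup.subgroupOfEquivOfLe inf_le_right).toEquiv]
    have c2 : Nat.card (B.subgroupOf A) = Nat.card (A ⊓ B : Subgroup G) := by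
      rw [← Subgroup.inf_subgroupOf_left, Nat.card_congr (Subgroup.subgroupOfEquivOfLe inf_le_left).toEquiv]
    rw [c1] at e1
    rw [c2, hiA, ← hcard] at e2
    exact Nat.eq_of_mul_eq_mul_left (Nat.card_pos) (e1.trans e2.symm)
  have hsupAB : ∀ K : Subgroup G, A ≤ K → ∀ x ∈ K, x ∉ A → K = ⊤ := fun K hAK x hx hxA =>
    hAmax.2 K (lt_of_le_of_ne hAK fun e => hxA (e ▸ hx))
  obtain ⟨u, huB, huA⟩ : ∃ u ∈ B, u ∉ A := by
    by_contra hcon
    push Not at hcon
    have : A.subgroupOf B = ⊤ := Subgroup.subgroupOf_eq_top.2 hcon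
    rw [this, Subgroup.index_top] at hiB
    omega
  -- the two-point stabilizer is normal in G
  set K := A ⊓ B
  have hnA : A ≤ Subgroup.normalizer (K : Set G) := by
    have hn : (B.subgroupOf A).Normal := Subgroup.normal_of_index_eq_two hiA
    intro x hx
    refine Subgroup.mem_normalizer_fintype fun y hy => ?_
    exact ⟨A.mul_mem (A.mul_mem hx hy.1) (A.inv_mem hx),
      hn.conj_mem ⟨y, hy.1⟩ hy.2 ⟨x, hx⟩⟩
  have hnB : u ∈ Subgroup.normalizer (K : Set G) := by
    have hn : (A.subgroupOf B).Normal := Subgroup.normal_of_index_eq_two hiB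
    refine Subgroup.mem_normalizer_fintype fun y hy => ?_
    exact ⟨hn.conj_mem ⟨y, hy.2⟩ hy.1 ⟨u, huB⟩,
      B.mul_mem (B.mul_mem huB hy.2) (B.inv_mem huB)⟩
  have hKn : K.Normal := Subgroup.normalizer_eq_top_iff.1 (hsupAB _ hnA u hnB huA)
  have hK : K = ⊥ := by
    rw [Subgroup.eq_bot_iff_forall]
    intro x hx
    apply FaithfulSMul.eq_of_smul_eq_smul (α := Ω)
    intro y
    obtain ⟨k, rfl⟩ := MulAction.exists_smul_eq G a y
    have h1 : k⁻¹ * x * k⁻¹⁻¹ ∈ A := (hKn.conj_mem x hx k⁻¹).1
    rw [inv_inv] at h1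
    have h3 : (k⁻¹ * x * k) • a = a := h1
    rw [mul_smul, mul_smul, inv_smul_eq_iff] at h3
    rw [h3, one_smul]
  have hA2 : Nat.card A = 2 := by
    have e2 := Subgroup.card_mul_index (B.subgroupOf A)
    have : B.subgroupOf A = ⊥ := by
      rw [← Subgroup.inf_subgroupOf_left, show A ⊓ B = ⊥ from hK, Subgroup.bot_subgroupOf]
    rw [hiA, this, Subgroup.card_bot] at e2
    omega
  refine ⟨hA2, ?_⟩
  have hB2 : Nat.card B = 2 := hcard.trans hA2
  have hgenA : ∀ (C : Subgroup G), Nat.card C = 2 → ∀ x ∈ C, x ≠ 1 → x * x = 1 ∧ C = Subgroup.zpowers x := by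
    intro C hC x hx hx1
    have h2 : orderOf x = 2 := by
      have h : orderOf x ∣ 2 := by
        have h' := orderOf_dvd_natCard (⟨x, hx⟩ : C)
        rwa [Subgroup.orderOf_mk, hC] at h'
      rcases (Nat.dvd_prime Nat.prime_two).1 h with h | h
      · exact absurd (orderOf_eq_one_iff.1 h) hx1
      · exact h
    refine ⟨?_, (Subgroup.eq_of_le_of_card_ge (Subgroup.zpowers_le.2 hx) ?_).symm⟩
    · rw [← pow_two, ← h2, pow_orderOf_eq_one]
    · rw [hC, Nat.card_zpowers, h2]
  obtain ⟨t, htA, ht1⟩ : ∃ t ∈ A, t ≠ 1 := by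
    by_contra hcon
    push Not at hcon
    have := (Subgroup.eq_bot_iff_forall A).2 hcon
    rw [this, Subgroup.card_bot] at hA2
    omega
  obtain ⟨htt, hAt⟩ := hgenA A hA2 t htA ht1
  have hu1 : u ≠ 1 := fun e => huA (e ▸ A.one_mem)
  obtain ⟨huu, -⟩ := hgenA B hB2 u huB hu1
  set s := t * u with hs
  have hts : t * s * t = s⁻¹ := by
    rw [hs, mul_inv_rev, inv_eq_of_mul_eq_one_right huu, inv_eq_of_mul_eq_one_right htt, ← mul_assoc t t u, htt,
      one_mul]
  have hus : u = t * s := by rw [hs, ← mul_assoc, htt, one_mul]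
  have hgen : ∀ L : Subgroup G, t ∈ L → s ∈ L → L = ⊤ := fun L h1 h2 =>
    hsupAB L (hAt.trans_le (Subgroup.zpowers_le.2 h1)) u (hus ▸ L.mul_mem h1 h2) huA
  have hnot : t ∉ Subgroup.zpowers s := by
    intro hmem
    have htop : Subgroup.zpowers s = ⊤ := hgen _ hmem (Subgroup.mem_zpowers s)
    have hcomm : t * s = s * t := by
      obtain ⟨k, hk⟩ := Subgroup.mem_zpowers_iff.1 hmem
      rw [← hk]
      exact ((Commute.refl s).zpow_left k).eq
    -- `A` is then normal, so fixes every point
    have hAn : A.Normal := by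
      refine ⟨fun x hx y => ?_⟩
      obtain ⟨k, rfl⟩ := Subgroup.mem_zpowers_iff.1 (hAt ▸ hx : x ∈ Subgroup.zpowers t)
      obtain ⟨l, rfl⟩ := Subgroup.mem_zpowers_iff.1 (htop ▸ Subgroup.mem_top y : y ∈ Subgroup.zpowers s)
      have : Commute (s ^ l) (t ^ k) := ((show Commute s t from hcomm.symm).zpow_left l).zpow_right k
      rw [this.eq, mul_inv_cancel_right]
      exact hx
    apply ht1
    apply FaithfulSMul.eq_of_smul_eq_smul (α := Ω)
    intro y
    obtain ⟨k, rfl⟩ := MulAction.exists_smul_eq G a y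
    have h1 := hAn.conj_mem t htA k⁻¹
    rw [inv_inv] at h1
    have h3 : (k⁻¹ * t * k) • a = a := h1
    rw [mul_smul, mul_smul, inv_smul_eq_iff] at h3
    rw [h3, one_smul]
  refine ⟨orderOf s, ?_, dihedral_of_two_involutions t s htt hts hnot hgen⟩
  have hs1 : orderOf s ≠ 1 := by
    rw [ne_eq, orderOf_eq_one_iff]
    intro e
    exact huA (by rw [hus, e, mul_one]; exact htA)
  rw [Nat.prime_def]
  refine ⟨?_, fun q hq => ?_⟩
  · have := orderOf_pos s
    omega
  · -- the subgroup generated by `A` and `s ^ q`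
    have hinv : ∀ k : ℤ, t * s ^ k * t = (s ^ k)⁻¹ := by
      intro k
      have := conj_zpow (a := t) (b := s) (i := k)
      rw [inv_eq_of_mul_eq_one_right htt] at this
      rw [← this, hts, inv_zpow]
    have htinv : t⁻¹ = t := inv_eq_of_mul_eq_one_right htt
    let L : Subgroup G :=
      { carrier := {x | ∃ k : ℤ, x = s ^ ((q : ℤ) * k) ∨ x = t * s ^ ((q : ℤ) * k)}
        one_mem' := ⟨0, Or.inl (by simp)⟩
        inv_mem' := by
          rintro x ⟨k, rfl | rfl⟩
          · exact ⟨-k, Or.inl (by rw [mul_neg, zpow_neg])⟩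
          · refine ⟨k, Or.inr ?_⟩
            have h := hinv ((q : ℤ) * k)
            rw [mul_inv_rev, htinv, ← h, mul_assoc, htt, mul_one]
        mul_mem' := by
          rintro x y ⟨k, rfl | rfl⟩ ⟨l, rfl | rfl⟩
          · exact ⟨k + l, Or.inl (by rw [mul_add, zpow_add])⟩
          · refine ⟨-k + l, Or.inr ?_⟩
            rw [mul_add, zpow_add, mul_neg, zpow_neg, ← hinv, ← mul_assoc, ← mul_assoc, ← mul_assoc, ← mul_assoc, htt,
              one_mul]
          · exact ⟨k + l, Or.inr (by rw [mul_add, zpow_add, mul_assoc])⟩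
          · refine ⟨-k + l, Or.inl ?_⟩
            rw [mul_add, zpow_add, mul_neg, zpow_neg, ← hinv, mul_assoc]
            simp only [mul_assoc] }
    have htL : t ∈ L := ⟨0, Or.inr (by simp)⟩
    by_cases hsL : s ∈ L
    · obtain ⟨k, hk | hk⟩ := hsL
      · left
        have h1 : s ^ ((q : ℤ) * k - 1) = 1 := by rw [zpow_sub, ← hk, zpow_one, mul_inv_cancel]
        have h2 : (q : ℤ) ∣ (q : ℤ) * k - 1 :=
          (Int.natCast_dvd_natCast.2 hq).trans (orderOf_dvd_iff_zpow_eq_one.2 h1)
        have h3 : (q : ℤ) ∣ 1 := (dvd_sub_right (dvd_mul_right _ _)).1 h2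
        exact Nat.dvd_one.1 (by exact_mod_cast h3)
      · refine absurd ?_ hnot
        rw [show t = s * (s ^ ((q : ℤ) * k))⁻¹ from eq_mul_inv_of_mul_eq hk.symm]
        exact mul_mem (Subgroup.mem_zpowers s) (inv_mem (Subgroup.zpow_mem_zpowers s _))
    · right
      have hsq : s ^ q ∈ L := ⟨1, Or.inl (by simp)⟩
      by_cases hsqA : s ^ q ∈ A
      · obtain ⟨k, hk⟩ := Subgroup.mem_zpowers_iff.1 (hAt ▸ hsqA : s ^ q ∈ Subgroup.zpowers t)
        rcases Int.even_or_odd' k with ⟨j, rfl | rfl⟩
        · rw [zpow_mul, zpow_ofNat, pow_two, htt, one_zpow] at hk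
          exact Nat.dvd_antisymm hq (orderOf_dvd_of_pow_eq_one hk.symm)
        · rw [zpow_add, zpow_mul, zpow_ofNat, pow_two, htt, one_zpow, one_mul, zpow_one] at hk
          exact absurd (hk ▸ Subgroup.npow_mem_zpowers s q) hnot
      · have := hsupAB L (hAt.trans_le (Subgroup.zpowers_le.2 htL)) _ hsq hsqA
        exact absurd (this ▸ Subgroup.mem_top s) hsL

end Cfsg.Agent.S3684
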