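import Cfsg.Statements.S3693
import Cfsg.Agent.Lib.Recog.OrbitalKernels

set_option autoImplicit false
open Cfsg

namespace Cfsg.Agent.S3693

open CfsgLib.Recog.TW

/-- Let a finite group G act faithfully and primitively on a set Ω, let a and b be points such that the orbit Δ of b under the stabilizer H of a has length d ≥ 2, and consider the permutation group induced on Δ by the elements of H fixing b. If that induced group has trivial Fitting subgroup (no non-trivial nilpotent normal subgroup), then the two-point stabilizer of a and b has trivial Fitting subgroup and the order of H divides d! · ((d - 1)!)^d. -/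
theorem result {G Ω : Type*} [Group G] [Finite G] [MulAction G Ω] [FaithfulSMul G Ω] [Finite Ω]
    (hprim : MulAction.IsPreprimitive G Ω) (a b : Ω) (d : ℕ) (hd : Nat.card (MulAction.orbit (MulAction.stabilizer G a) b) = d) (h2 : 2 ≤ d)
    (hF : Cfsg.fittingSubgroup ↥(((MulAction.stabilizer G b).subgroupOf (MulAction.stabilizer G a)).map (MulAction.toPermHom (MulAction.stabilizer G a) (MulAction.orbit (MulAction.stabilizer G a) b))) = ⊥) :
    Cfsg.fittingSubgroup ↥(MulAction.stabilizer G a ⊓ MulAction.stabilizer G b) = ⊥ ∧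
      Nat.card (MulAction.stabilizer G a) ∣ Nat.factorial d * (Nat.factorial (d - 1)) ^ d := by
  haveI := hprim
  have hr := inv_orb (G := G) a b
  have hdeg := fun v => card_out_orb hprim a b v hd
  obtain ⟨hab, hne⟩ := ne_of_two_le (G := G) a b hd h2
  haveI : Nontrivial Ω := ⟨⟨a, b, hab⟩⟩
  set A := MulAction.stabilizer G a with hA
  set B := MulAction.stabilizer G b with hB
  set φ := MulAction.toPermHom ↥A (MulAction.orbit ↥A b) with hφ
  -- normal subgroups of prime power order of the two-point stabilizer fix the suborbit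
  have hker : ∀ t : ℕ, t.Prime → ∀ U : Subgroup G, IsPGroup t U → U ≤ A ⊓ B →
      A ⊓ B ≤ Subgroup.normalizer (U : Set G) → U ≤ K G (orb G a b) a := by
    intro t ht U hU hUC hUn
    haveI := Fact.mk ht
    set S := B.subgroupOf A with hS
    have hSn : S ≤ Subgroup.normalizer (U.subgroupOf A : Set ↥A) := by
      intro x hx
      refine mem_normalizer_of_map_conj fun y hy => ?_
      exact (Subgroup.mem_normalizer_iff.mp (hUn ⟨x.2, hx⟩) y).mp hy
    have hUS : U.subgroupOf A ≤ S := fun x hx => (hUC hx).2
    haveI hn := (Subgroup.normal_subgroupOf_iff_le_normalizer hUS).mpr hSn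
    have hnil : Group.IsNilpotent ↥(((U.subgroupOf A).subgroupOf S).map (φ.subgroupMap S)) :=
      (((hU.comap_of_injective _ A.subtype_injective).comap_of_injective _
        S.subtype_injective).map _).isNilpotent
    have hle := CfsgLib.Components.le_fitting_of_normal
      (hn.map _ (φ.subgroupMap_surjective S)) hnil
    rw [hF] at hle
    intro x hx
    refine mem_K_iff.mpr ⟨(hUC hx).1, fun v hv => ?_⟩
    have hv' : v ∈ MulAction.orbit ↥A b := out_orb_eq (G := G) a b ▸ hv
    have hxS : (⟨x, (hUC hx).1⟩ : ↥A) ∈ S := (hUC hx).2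
    have h1 : φ.subgroupMap S ⟨_, hxS⟩ = 1 :=
      Subgroup.mem_bot.mp (hle ⟨⟨⟨x, (hUC hx).1⟩, hxS⟩, hx, rfl⟩)
    exact congrArg Subtype.val (Equiv.Perm.congr_fun (congrArg Subtype.val h1) ⟨v, hv'⟩)
  have hOC : ∀ t : ℕ, t.Prime → O t (A ⊓ B) = ⊥ := by
    intro t ht
    haveI := Fact.mk ht
    set U := O t (A ⊓ B) with hU
    by_contra hU0
    have hUX : U ≤ K G (orb G a b) a :=
      hker t ht U (isPGroup_O t _) (O_le t _) (le_normalizer_O t _)
    have hKA : K G (orb G a b) a ≤ A := K_le_stabilizer _ _
    have hKC : K G (orb G a b) a ≤ A ⊓ B := le_inf hKA (K_le_stabilizer_out (orb_self a b))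
    have hsn : (U.subgroupOf A).IsSubnormal := by
      refine Subgroup.IsSubnormal.trans (fun x hx => hUX hx : U.subgroupOf A ≤
        (K G (orb G a b) a).subgroupOf A) ?_
        ((Subgroup.normal_subgroupOf_iff_le_normalizer hKA).mpr
          (stabilizer_le_normalizer_K hr a)).isSubnormal
      have hle : (U.subgroupOf A).subgroupOf ((K G (orb G a b) a).subgroupOf A) =
          (U.subgroupOf (K G (orb G a b) a)).comap
            (Subgroup.subgroupOfEquivOfLe hKA).toMonoidHom := by
        ext x; rfl
      rw [hle]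
      exact (((Subgroup.normal_subgroupOf_iff_le_normalizer hUX).mpr
        (hKC.trans (le_normalizer_O t _))).comap _).isSubnormal
    have hUP : U ≤ O t A :=
      le_O_of_isSubnormal ((O_le t _).trans inf_le_left) hsn (isPGroup_O t _)
    have hPB : O t A ⊓ B ≤ U :=
      le_O (le_inf (inf_le_left.trans (O_le t A)) inf_le_right)
        ((le_inf (inf_le_left.trans (le_normalizer_O t A))
          (inf_le_right.trans Subgroup.le_normalizer)).trans
          Subgroup.inf_normalizer_le_normalizer_inf)
        ((isPGroup_O t A).to_le inf_le_left)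
    have hUeq : U = O t A ⊓ K G (orb G a b) a := le_antisymm (le_inf hUP hUX)
      ((inf_le_inf_left _ (hKC.trans inf_le_right)).trans hPB)
    have hUn : A ≤ Subgroup.normalizer (U : Set G) := by
      rw [hUeq]
      exact (le_inf (le_normalizer_O t A) (stabilizer_le_normalizer_K hr a)).trans
        Subgroup.inf_normalizer_le_normalizer_inf
    have hUA : U ≤ A := (O_le t _).trans inf_le_left
    have hNU := normalizer_le_stabilizer hprim a U hU0 hUA hUn
    set Q := O t B with hQ
    have hQA : Q ⊓ A ≤ U :=
      le_O (le_inf inf_le_right (inf_le_left.trans (O_le t B)))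
        ((le_inf (inf_le_right.trans (le_normalizer_O t B))
          (inf_le_left.trans Subgroup.le_normalizer)).trans
          Subgroup.inf_normalizer_le_normalizer_inf)
        ((isPGroup_O t B).to_le inf_le_left)
    have hUQ : U ≤ Subgroup.normalizer (Q : Set G) :=
      ((O_le t _).trans inf_le_right).trans (le_normalizer_O t B)
    have hT : IsPGroup t ↥(Q ⊔ U) := by
      rw [sup_comm]
      exact (isPGroup_O t _).to_sup_of_normal_right' (isPGroup_O t B) hUQ
    -- `N_T(U) = U` in the `t`-group `T = Q U`
    have hTA : (Q ⊔ U) ⊓ A ≤ U := by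
      rintro x ⟨hx, hxA⟩
      obtain ⟨q, hq, u, hu, rfl⟩ :=
        (CfsgLib.Solvable.mem_sup_of_le_normalizer hUQ).mp (hx : x ∈ Q ⊔ U)
      refine U.mul_mem (hQA ⟨hq, ?_⟩) hu
      have := A.mul_mem hxA (A.inv_mem (hUA hu))
      rwa [mul_inv_cancel_right] at this
    have hQU : Q ≤ U := by
      haveI := hT.isNilpotent
      by_contra hnot
      have hlt : U.subgroupOf (Q ⊔ U) < ⊤ := lt_top_iff_ne_top.mpr fun h =>
        hnot (le_sup_left.trans (Subgroup.subgroupOf_eq_top.mp h))
      obtain ⟨x, hx, hxU⟩ := SetLike.exists_of_lt (Group.normalizerCondition_of_isNilpotent _ hlt)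
      refine hxU (hTA ⟨x.2, hNU (mem_normalizer_of_map_conj fun y hy => ?_)⟩)
      exact (Subgroup.mem_normalizer_iff.mp hx ⟨y, le_sup_right (a := Q) hy⟩).mp hy
    obtain ⟨g, hg⟩ := MulAction.exists_smul_eq G a b
    have hBA : B.map (MulAut.conj g⁻¹).toMonoidHom = A := by
      rw [hB, map_conj_stabilizer, ← hg, inv_smul_smul]
    have heq : Q = O t A := by
      refine Subgroup.eq_of_le_of_card_ge (hQU.trans hUP) (le_of_eq ?_)
      rw [← hBA, ← O_map_conj, CfsgLib.Components.card_map_conj]
    have hP0 : O t A ≠ ⊥ := fun h => hU0 (le_bot_iff.mp (hUP.trans h.le))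
    refine hne (le_antisymm ?_ ?_)
    · exact (le_normalizer_O t A).trans (normalizer_le_stabilizer hprim b (O t A) hP0
        (heq ▸ O_le t B) (heq ▸ le_normalizer_O t B))
    · exact (heq ▸ le_normalizer_O t B : B ≤ Subgroup.normalizer (O t A : Set G)).trans
        (normalizer_le_stabilizer hprim a (O t A) hP0 (O_le t A) (le_normalizer_O t A))
  refine ⟨?_, ?_⟩
  · rw [eq_bot_iff]
    refine CfsgLib.Components.fitting_le_of_pCore_le fun t ht => le_of_eq ?_
    exact (Subgroup.map_eq_bot_iff_of_injective _ (A ⊓ B).subtype_injective).mp (hOC t ht)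
  rcases dichotomy hprim a b hd h2 with h | h | ⟨p, hp, -, -, hpR, -⟩
  · have := relIndex_RR_dvd hr a d (hdeg a).1 fun v _ => (hdeg v).2
    rwa [h, Subgroup.relIndex_bot_left] at this
  · have := relIndex_RR_dvd hr.flip a d (hdeg a).2 fun v _ => (hdeg v).1
    rwa [h, Subgroup.relIndex_bot_left] at this
  · haveI := Fact.mk hp
    refine absurd (le_bot_iff.mp ((le_O ?_ ?_ (isPGroup_O p _)).trans (hOC p hp).le)) hpR
    · exact (O_le p _).trans ((RR_le_K _ _).trans
        (le_inf (K_le_stabilizer _ _) (K_le_stabilizer_out (orb_self a b))))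
    · exact (inf_le_left.trans (stabilizer_le_normalizer_RR hr a)).trans
        (normalizer_le_normalizer_O p _)

end Cfsg.Agent.S3693
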