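import Cfsg.Statements.S3687
import Cfsg.Agent.S3693
import Cfsg.Agent.Lib.Recog.UnfaithfulAlt

set_option autoImplicit false
open Cfsg

namespace Cfsg.Agent.S3687

set_option linter.style.haveILetI false
set_option maxHeartbeats 400000

open CfsgLib.Recog.TW CfsgLib.Recog.BigPerm Subgroup

theorem classify {α β : Type*} [Fintype α] [DecidableEq α] [Fintype β] [DecidableEq β]
    (H : Subgroup (Equiv.Perm α × Equiv.Perm β))
    (hl : ∀ s ∈ alternatingGroup α, ((s, 1) : Equiv.Perm α × Equiv.Perm β) ∈ H)
    (hr : ∀ t ∈ alternatingGroup β, ((1, t) : Equiv.Perm α × Equiv.Perm β) ∈ H)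
    (h1 : H.map (MonoidHom.fst _ _) = ⊤) (h2 : H.map (MonoidHom.snd _ _) = ⊤) :
    H = ⊤ ∨ H = ((Equiv.Perm.sign.comp (MonoidHom.fst (Equiv.Perm α) (Equiv.Perm β))) *
      (Equiv.Perm.sign.comp (MonoidHom.snd (Equiv.Perm α) (Equiv.Perm β)))).ker := by
  -- membership depends only on the pair of signs
  have hsame : ∀ p ∈ H, ∀ q : Equiv.Perm α × Equiv.Perm β,
      Equiv.Perm.sign q.1 = Equiv.Perm.sign p.1 → Equiv.Perm.sign q.2 = Equiv.Perm.sign p.2 →
      q ∈ H := by
    intro p hp q e1 e2
    have ha : q.1 * p.1⁻¹ ∈ alternatingGroup α := by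
      rw [Equiv.Perm.mem_alternatingGroup, map_mul, map_inv, e1, mul_inv_cancel]
    have hb : q.2 * p.2⁻¹ ∈ alternatingGroup β := by
      rw [Equiv.Perm.mem_alternatingGroup, map_mul, map_inv, e2, mul_inv_cancel]
    have := H.mul_mem (H.mul_mem (hl _ ha) (hr _ hb)) hp
    convert this using 1
    exact Prod.ext (by simp) (by simp)
  have hex1 : ∀ s, ∃ p ∈ H, Equiv.Perm.sign p.1 = Equiv.Perm.sign s := fun s => by
    obtain ⟨p, hp, he⟩ := (h1.symm ▸ mem_top s : s ∈ H.map (MonoidHom.fst _ _))
    exact ⟨p, hp, congrArg _ he⟩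
  have hex2 : ∀ s, ∃ p ∈ H, Equiv.Perm.sign p.2 = Equiv.Perm.sign s := fun s => by
    obtain ⟨p, hp, he⟩ := (h2.symm ▸ mem_top s : s ∈ H.map (MonoidHom.snd _ _))
    exact ⟨p, hp, congrArg _ he⟩
  set σ := (Equiv.Perm.sign.comp (MonoidHom.fst (Equiv.Perm α) (Equiv.Perm β))) *
      (Equiv.Perm.sign.comp (MonoidHom.snd (Equiv.Perm α) (Equiv.Perm β))) with hσ
  have hmem : ∀ q, q ∈ σ.ker ↔ Equiv.Perm.sign q.1 * Equiv.Perm.sign q.2 = 1 := fun q => Iff.rfl
  by_cases hle : H ≤ σ.ker
  · right
    refine le_antisymm hle fun q hq => ?_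
    obtain ⟨p, hp, he⟩ := hex1 q.1
    refine hsame p hp q he.symm ?_
    have h3 := (hmem p).mp (hle hp)
    have h4 := (hmem q).mp hq
    rw [he] at h3
    exact mul_left_cancel (h4.trans h3.symm)
  · left
    obtain ⟨x, hx, hxk⟩ := SetLike.not_le_iff_exists.mp hle
    rw [hmem] at hxk
    refine eq_top_iff.mpr fun q _ => ?_
    obtain ⟨p, hp, hep⟩ := hex1 q.1
    obtain ⟨y, hy, hey⟩ := hex2 q.2
    by_cases hu : Equiv.Perm.sign p.2 = Equiv.Perm.sign q.2
    · exact hsame p hp q hep.symm hu.symm
    by_cases hv : Equiv.Perm.sign y.1 = Equiv.Perm.sign q.1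
    · exact hsame y hy q hv.symm hey.symm
    replace hu := Int.units_ne_iff_eq_neg.mp hu
    replace hv := Int.units_ne_iff_eq_neg.mp hv
    rcases Int.units_eq_one_or (Equiv.Perm.sign x.1) with c | c <;>
      rcases Int.units_eq_one_or (Equiv.Perm.sign x.2) with e | e
    · exact absurd (by rw [c, e]; rfl) hxk
    · exact hsame (p * x) (mul_mem hp hx) q (by simp [c, hep]) (by simp [e, hu])
    · refine hsame (p * (x * (p * y⁻¹))) (mul_mem hp (mul_mem hx (mul_mem hp (inv_mem hy)))) q ?_ ?_
      · rcases Int.units_eq_one_or (Equiv.Perm.sign q.1) with g | g <;> simp [c, hep, hv, g]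
      · rcases Int.units_eq_one_or (Equiv.Perm.sign q.2) with g | g <;> simp [e, hu, hey, g]
    · exact absurd (by rw [c, e]; rfl) hxk


/-- Let a finite group G act faithfully and primitively on a set Ω, let a and b be points such that the orbit Δ of b under the stabilizer H of a has d ≥ 6 elements, and suppose that the permutation group induced by H on Δ contains the alternating group of Δ (the image of H in the symmetric group of Δ has index at most 2) while H does not act faithfully on Δ. Then either H induces exactly the alternating group of Δ and H is isomorphic to the direct product of the alternating groups of degrees d and d - 1; or H induces the full symmetric group of Δ and H is isomorphic to one of: the direct product of the symmetric groups of degrees d and d - 1, the direct product of the symmetric group of degree d with the alternating group of degree d - 1, or the subgroup of the direct product of the symmetric groups of degrees d and d - 1 consisting of the pairs of permutations with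 equal signs. -/
theorem result {G Ω : Type*} [Group G] [Finite G] [MulAction G Ω] [FaithfulSMul G Ω] [Finite Ω]
    (hprim : MulAction.IsPreprimitive G Ω) (a b : Ω) (d : ℕ) (hd : Nat.card (MulAction.orbit (MulAction.stabilizer G a) b) = d) (h6 : 6 ≤ d)
    (halt : (MulAction.toPermHom (MulAction.stabilizer G a) (MulAction.orbit (MulAction.stabilizer G a) b)).range.index ≤ 2)
    (hunf : ¬ Function.Injective (MulAction.toPermHom (MulAction.stabilizer G a) (MulAction.orbit (MulAction.stabilizer G a) b))) :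
    ((MulAction.toPermHom (MulAction.stabilizer G a) (MulAction.orbit (MulAction.stabilizer G a) b)).range.index = 2 ∧
      Nonempty (MulAction.stabilizer G a ≃* alternatingGroup (Fin d) × alternatingGroup (Fin (d - 1)))) ∨
    ((MulAction.toPermHom (MulAction.stabilizer G a) (MulAction.orbit (MulAction.stabilizer G a) b)).range = ⊤ ∧
      (Nonempty (MulAction.stabilizer G a ≃* Equiv.Perm (Fin d) × Equiv.Perm (Fin (d - 1))) ∨
       Nonempty (MulAction.stabilizer G a ≃* Equiv.Perm (Fin d) × alternatingGroup (Fin (d - 1))) ∨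
       Nonempty (MulAction.stabilizer G a ≃* ((Equiv.Perm.sign.comp (MonoidHom.fst (Equiv.Perm (Fin d)) (Equiv.Perm (Fin (d - 1))))) *
         (Equiv.Perm.sign.comp (MonoidHom.snd (Equiv.Perm (Fin d)) (Equiv.Perm (Fin (d - 1)))))).ker))) := by
  classical
  haveI := hprim
  haveI : Fintype Ω := Fintype.ofFinite _
  have h2 : 2 ≤ d := by omega
  obtain ⟨hab, hne⟩ := ne_of_two_le (G := G) a b hd h2
  haveI : Nontrivial Ω := ⟨⟨a, b, hab⟩⟩
  set r := orb G a b with hrdef
  have hr : Inv G r := inv_orb a b
  have hedge : r a b := orb_self a b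
  set A := MulAction.stabilizer G a with hA
  set B := MulAction.stabilizer G b with hB
  set φ := MulAction.toPermHom ↥A (MulAction.orbit ↥A b) with hφdef
  have hout : ∀ v, Nat.card ↥(out r v) = d := fun v => (card_out_orb hprim a b v hd).1
  have hin : ∀ v, Nat.card ↥(out (flip r) v) = d := fun v => (card_out_orb hprim a b v hd).2
  have hφker : φ.ker = (K G r a).subgroupOf A := by
    ext x
    rw [MonoidHom.mem_ker, Equiv.ext_iff, mem_subgroupOf, mem_K_iff]
    refine ⟨fun h => ⟨x.2, fun v hv => ?_⟩, fun h v => Subtype.ext (h.2 v ?_)⟩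
    · exact congrArg Subtype.val (h ⟨v, out_orb_eq (G := G) a b ▸ hv⟩)
    · show (v : Ω) ∈ out r a
      rw [hrdef, out_orb_eq]; exact v.2
  have hφbig : Big φ.range := big_iff_index.mpr halt
  have hφcard : Nat.card ↥φ.range * Nat.card ↥(K G r a) = Nat.card ↥A := by
    have := card_map_mul φ A le_rfl hφker
    rwa [subgroupOf_self, ← MonoidHom.range_eq_map, inf_eq_right.mpr (K_le_stabilizer r a)] at this
  have hbig : ∀ v, d.factorial * Nat.card ↥(K G r v) ≤ 2 * Nat.card ↥(MulAction.stabilizer G v) := by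
    intro v
    rw [card_stabilizer_eq v a, card_K_eq hr v a, ← hA, ← hφcard, ← mul_assoc]
    refine Nat.mul_le_mul_right _ ?_
    have h := hφbig
    unfold Big at h
    rwa [hd] at h
  have hKne : ∀ v, K G r v ≠ ⊥ := by
    intro v hv
    refine hunf ((MonoidHom.ker_eq_bot_iff φ).mp ?_)
    have h1 : K G r a = ⊥ := by
      rw [← card_eq_one, card_K_eq hr a v, hv, Subgroup.card_bot]
    rw [hφker, h1, bot_subgroupOf]
  have hloc : ∀ v, Big (loc hr v).range := fun v => big_loc hr v (hout v) (hbig v)
  have hne' : ∀ v w, r v w → MulAction.stabilizer G v ≠ MulAction.stabilizer G w := by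
    rintro _ _ ⟨g, rfl, rfl⟩ he
    rw [← map_conj_stabilizer, ← map_conj_stabilizer] at he
    exact hne (map_injective (MulAut.conj g).injective he)
  -- the Fitting subgroup of the arc stabilizer is trivial
  have hFit : Cfsg.fittingSubgroup ↥(A ⊓ B) = ⊥ := by
    refine (S3693.result hprim a b d hd h2 ?_).1
    set X := (B.subgroupOf A).map φ with hX
    let ν : ↥(A ⊓ B) →* ↥X :=
      { toFun := fun c => ⟨φ ⟨c, c.2.1⟩,
          mem_map_of_mem φ (show (⟨c, c.2.1⟩ : ↥A) ∈ B.subgroupOf A from c.2.2)⟩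
        map_one' := Subtype.ext (map_one φ)
        map_mul' := fun x y => Subtype.ext (map_mul φ ⟨x, x.2.1⟩ ⟨y, y.2.1⟩) }
    have hνs : Function.Surjective ν := by
      rintro ⟨_, x, hx, rfl⟩
      exact ⟨⟨x, x.2, hx⟩, rfl⟩
    have hνk : ν.ker = (side hr a b).ker := by
      ext c
      rw [ker_side hr hedge, mem_subgroupOf]
      refine Subtype.ext_iff.trans ?_
      show φ ⟨c, c.2.1⟩ = 1 ↔ _
      rw [← MonoidHom.mem_ker, hφker]
      rfl
    set f := ν.liftOfSurjective hνs ⟨side hr a b, hνk.le⟩ with hf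
    have hfν : ∀ c, f (ν c) = side hr a b c := fun c => by
      rw [hf]; exact MonoidHom.liftOfRightInverse_comp_apply _ _ _ _ c
    refine fitting_eq_bot_of_big (α := ↥(out r a \ {b})) ?_ f ?_ ?_
    · rw [card_out_sdiff (hout a) hedge]; omega
    · rw [injective_iff_map_eq_one]
      intro y hy
      obtain ⟨c, rfl⟩ := hνs y
      rw [hfν] at hy
      exact MonoidHom.mem_ker.mp (hνk ▸ (MonoidHom.mem_ker.mpr hy))
    · have hrange : f.range = (side hr a b).range := by
        ext p
        exact ⟨fun ⟨y, hy⟩ => by obtain ⟨c, rfl⟩ := hνs y; exact ⟨c, (hfν c).symm.trans hy⟩,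
          fun ⟨c, hc⟩ => ⟨ν c, (hfν c).trans hc⟩⟩
      rw [hrange]
      have h1 := card_map_mul (side hr a b) _ le_rfl (ker_side hr hedge)
      rw [subgroupOf_self, ← MonoidHom.range_eq_map, inf_eq_right.mpr
        (le_inf (K_le_stabilizer r a) (K_le_stabilizer_out hedge))] at h1
      have h3 := hbig a
      rw [← card_orbit_stabilizer a b, hd, ← h1] at h3
      unfold Big
      rw [card_out_sdiff (hout a) hedge]
      obtain ⟨n, hn⟩ : ∃ n, d = n + 1 := ⟨d - 1, by omega⟩
      rw [hn, Nat.add_sub_cancel]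
      rw [hn, Nat.factorial_succ, mul_assoc (n + 1), mul_left_comm 2] at h3
      have h4 := Nat.le_of_mul_le_mul_left h3 n.succ_pos
      rw [← mul_assoc] at h4
      exact Nat.le_of_mul_le_mul_right h4 Nat.card_pos
  have hnilN : ∀ N : Subgroup G, N ≤ A ⊓ B → A ⊓ B ≤ normalizer (N : Set G) →
      Group.IsNilpotent ↥N → N = ⊥ := by
    intro N hN hn hnil
    haveI := hnil
    have h1 := CfsgLib.Components.le_fitting_of_normal
      ((normal_subgroupOf_iff_le_normalizer hN).mpr hn)
      (Group.nilpotent_of_mulEquiv (subgroupOfEquivOfLe hN).symm)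
    rw [hFit, le_bot_iff, subgroupOf_eq_bot] at h1
    exact le_bot_iff.mp (disjoint_iff.mp h1 ▸ le_inf le_rfl hN)
  have hff : ∀ N : Subgroup G, N ≤ A ⊓ B → A ⊓ B ≤ normalizer (N : Set G) → ⁅N, N⁆ = ⊥ →
      N = ⊥ := by
    intro N hN hn hc
    refine hnilN N hN hn ?_
    letI : CommGroup ↥N := { (inferInstance : Group ↥N) with
      mul_comm := fun x y => Subtype.ext ((Subgroup.mem_centralizer_iff.mp
        (commutator_eq_bot_iff_le_centralizer.mp hc x.2) y y.2).symm) }
    exact CommGroup.isNilpotent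
  have hR : RR G r a = ⊥ ∨ RR G (flip r) a = ⊥ := by
    rcases dichotomy hprim a b hd h2 with h | h | ⟨p, hp, -, -, hpR, -⟩
    · exact Or.inl h
    · exact Or.inr h
    · haveI := Fact.mk hp
      refine absurd (hnilN _ ?_ ?_ (isPGroup_O p _).isNilpotent) hpR
      · exact (O_le p _).trans ((RR_le_K _ _).trans
          (le_inf (K_le_stabilizer _ _) (K_le_stabilizer_out hedge)))
      · exact (inf_le_left.trans (stabilizer_le_normalizer_RR hr a)).trans
          (normalizer_le_normalizer_O p _)
  have hRall : (∀ v, RR G r v = ⊥) ∨ (∀ v, RR G (flip r) v = ⊥) := by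
    rcases hR with h | h <;> [left; right] <;> intro v <;>
      obtain ⟨g, rfl⟩ := MulAction.exists_smul_eq G a v
    · rw [← map_conj_RR hr, h, Subgroup.map_bot]
    · rw [← map_conj_RR hr.flip, h, Subgroup.map_bot]
  -- the two kernels at a point coincide
  have hKeq : ∀ v, K G (flip r) v = K G r v := by
    intro v
    have hnb : ∀ c, r c v → ¬ Big (((MulAction.stabilizer G c ⊓ MulAction.stabilizer G v).subgroupOf
        (MulAction.stabilizer G v)).map (loc hr v)) := by
      intro c hc hBig
      set C' := MulAction.stabilizer G c ⊓ MulAction.stabilizer G v with hC'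
      set ψ := (loc hr v).comp (Subgroup.inclusion (inf_le_right : C' ≤ _)) with hψ
      have hψr : Big ψ.range := by
        rwa [hψ, MonoidHom.range_comp, Subgroup.inclusion_range]
      rcases hRall with h | h
      · exact not_big_of_RR_eq_bot hr h6 hout hin hc (h c) (hout v) ψ hψr
      · refine not_big_of_RR_eq_bot hr.flip h6 hin hout (show flip r v c from hc) (h v) (hout v)
          (ψ.comp (MulEquiv.subgroupCongr (inf_comm _ _)).toMonoidHom) ?_
        rwa [MonoidHom.range_comp, MonoidHom.range_eq_top.mpr (MulEquiv.surjective _),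
          ← MonoidHom.range_eq_map]
    have hle : K G r v ≤ K G (flip r) v := by
      intro x hx
      refine mem_K_iff.mpr ⟨(mem_K_iff.mp hx).1, fun c hc => ?_⟩
      change r c v at hc
      set C' := MulAction.stabilizer G c ⊓ MulAction.stabilizer G v with hC'
      have h1 := card_map_mul (loc hr v) C' inf_le_right (ker_loc hr v)
      have h4 := card_mul_le_of_not_big (by rw [hout v]; omega) (hloc v) (map_le_range _ _)
        (hnb c hc)
      rw [hout v] at h4
      have h5 : d * Nat.card ↥C' = Nat.card ↥(MulAction.stabilizer G v) := by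
        rw [card_stabilizer_eq v c, ← card_orbit_stabilizer c v,
          orbit_eq_out hr (hloc c) (by rw [hout c]; omega) hc, hout c]
      rw [← h1, ← card_range_loc hr v] at h5
      have h6' : Nat.card ↥(K G r v) ≤ Nat.card ↥(C' ⊓ K G r v) := by
        refine Nat.le_of_mul_le_mul_left (show Nat.card ↥(loc hr v).range * Nat.card ↥(K G r v) ≤
          Nat.card ↥(loc hr v).range * Nat.card ↥(C' ⊓ K G r v) from ?_) Nat.card_pos
        rw [← h5, ← mul_assoc, mul_comm d]
        exact Nat.mul_le_mul_right _ h4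
      have h7 := eq_of_le_of_card_ge (inf_le_right : C' ⊓ K G r v ≤ K G r v) h6'
      have h8 : x ∈ C' ⊓ K G r v := h7.symm ▸ hx
      exact MulAction.mem_stabilizer_iff.mp h8.1.1
    refine le_antisymm ?_ hle
    obtain ⟨⟨c, hc⟩⟩ : Nonempty ↥(out (flip r) v) :=
      (Nat.card_pos_iff.mp (by rw [hin v]; omega)).1
    change r c v at hc
    have hKC : K G (flip r) v ≤ MulAction.stabilizer G c ⊓ MulAction.stabilizer G v :=
      le_inf (K_le_stabilizer_out (r := flip r) hc) (K_le_stabilizer _ _)
    rcases (hloc v).normal (by rw [hout v]; omega)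
      (map_le_range (loc hr v) ((K G (flip r) v).subgroupOf (MulAction.stabilizer G v))) (by
        rw [MonoidHom.range_eq_map]
        refine le_trans (map_mono fun x _ => mem_normalizer_iff.mpr fun y => ?_)
          (le_normalizer_map _)
        exact mem_normalizer_iff.mp (stabilizer_le_normalizer_K hr.flip v x.2) y) with h0 | h0
    · rw [Subgroup.map_eq_bot_iff, ker_loc] at h0
      exact fun x hx => h0 (show (⟨x, K_le_stabilizer _ _ hx⟩ :
        ↥(MulAction.stabilizer G v)) ∈ _ from hx)
    · exact absurd (h0.mono (map_mono fun x hx => hKC hx)) (hnb c hc)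
  have hcfg : AltCfg G r d :=
    { inv := hr, six := h6, trans := inferInstance, out_card := hout, in_card := hin, big := hbig
      ne := hne', max := fun v U h1 h2' h3 => normalizer_le_stabilizer hprim v U h1 h2' h3
      K_ne := hKne, K_eq := hKeq }
  have hD : K G r a ⊓ K G r b = ⊥ := by
    rcases hRall with h | h
    · exact hcfg.inf_eq_bot h hedge hff
    · have := hcfg.flip.inf_eq_bot h (show flip r b a from hedge) fun N h1 h2' h3 =>
        hff N (inf_comm B A ▸ h1) (inf_comm B A ▸ h2') h3
      rwa [hKeq, hKeq, inf_comm] at this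
  -- the centralizer of the kernel
  have hf := hcfg.flip
  have hba : flip r b a := hedge
  set C := B ⊓ A with hC
  set χ : ↥C →* Equiv.Perm ↥(out (flip r) b \ {a}) := side hf.inv b a with hχ
  have hχker : χ.ker = (K G r b).subgroupOf C := by
    rw [hχ, ker_side hf.inv hba, hKeq]
  have hKaC : K G r a ≤ C := (hcfg.K_self_le hedge).trans (inf_comm _ _).le
  have hKbC : K G r b ≤ C := (hcfg.K_out_le hedge).trans (inf_comm _ _).le
  have hχKa : Big (((K G r a).subgroupOf C).map χ) := by
    have := hf.big_im_K hba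
    rwa [hKeq] at this
  set Zc := A ⊓ Subgroup.centralizer (K G r a : Set G) with hZc
  have hZA : Zc ≤ A := inf_le_left
  have hKbZ : K G r b ≤ Zc := by
    refine le_inf (hKbC.trans inf_le_right) ?_
    rw [← commutator_eq_bot_iff_le_centralizer, eq_bot_iff, ← hD]
    exact le_inf (le_normalizer_iff_commutator_le_right.mp
      (hKbC.trans (inf_le_right.trans (stabilizer_le_normalizer_K hr a))))
      (le_normalizer_iff_commutator_le_left.mp
        (hKaC.trans (inf_le_left.trans (stabilizer_le_normalizer_K hr b))))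
  have hcomm : ∀ z ∈ Zc, ∀ k ∈ K G r a, k * z = z * k := fun z hz k hk =>
    Subgroup.mem_centralizer_iff.mp hz.2 k hk
  have hΓcard : Nat.card ↥(out (flip r) b \ {a}) = d - 1 := card_out_sdiff (hin b) hba
  have hZC : ∀ z ∈ Zc, z ∈ C → z ∈ K G r b := by
    intro z hz hzC
    have h1 : χ ⟨z, hzC⟩ ∈ Subgroup.centralizer
        (alternatingGroup ↥(out (flip r) b \ {a}) : Set (Equiv.Perm ↥(out (flip r) b \ {a}))) := by
      refine Subgroup.mem_centralizer_iff.mpr fun s hs => ?_
      obtain ⟨k, hk, rfl⟩ := hχKa.alt_le hs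
      rw [← map_mul, ← map_mul]
      exact congrArg χ (Subtype.ext (hcomm z hz k hk))
    rw [centralizer_alt (by rw [hΓcard]; omega), mem_bot, ← MonoidHom.mem_ker, hχker] at h1
    exact h1
  have hZn : A ≤ normalizer (Zc : Set G) := by
    intro g hg
    refine mem_normalizer_of_map_conj fun z hz => ?_
    refine ⟨A.mul_mem (A.mul_mem hg hz.1) (A.inv_mem hg), Subgroup.mem_centralizer_iff.mpr
      fun k hk => ?_⟩
    have hk' : g⁻¹ * k * g ∈ K G r a := by
      have := (mem_normalizer_iff.mp (stabilizer_le_normalizer_K hr a (A.inv_mem hg)) k).mp hk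
      rwa [inv_inv] at this
    have := hcomm z hz _ hk'
    calc k * (g * z * g⁻¹) = g * ((g⁻¹ * k * g) * z) * g⁻¹ := by group
      _ = g * (z * (g⁻¹ * k * g)) * g⁻¹ := by rw [this]
      _ = (g * z * g⁻¹) * k := by group
  have hZK : Zc ⊓ K G r a = ⊥ := by
    refine hff _ (inf_le_right.trans (hKaC.trans (inf_comm _ _).le)) ?_ ?_
    · exact (le_inf (inf_le_left.trans hZn)
        (inf_le_left.trans (stabilizer_le_normalizer_K hr a))).trans
        Subgroup.inf_normalizer_le_normalizer_inf
    · rw [commutator_eq_bot_iff_le_centralizer]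
      exact fun x hx => Subgroup.mem_centralizer_iff.mpr fun y hy => hcomm x hx.1 y hy.2
  haveI hZnorm : (Zc.subgroupOf A).Normal := (normal_subgroupOf_iff_le_normalizer hZA).mpr hZn
  have hΔcard : 5 ≤ Nat.card ↥(MulAction.orbit ↥A b) := by omega
  have hφZ : Big ((Zc.subgroupOf A).map φ) := by
    rcases hφbig.normal hΔcard (map_le_range φ (Zc.subgroupOf A)) (by
      rw [MonoidHom.range_eq_map, ← normalizer_eq_top (H := Zc.subgroupOf A)]
      exact le_normalizer_map _) with h0 | h0
    · rw [Subgroup.map_eq_bot_iff, hφker] at h0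
      exact absurd (fun x hx => h0 (show (⟨x, (hKbC hx).2⟩ : ↥A) ∈ Zc.subgroupOf A from hKbZ hx))
        (hcfg.not_K_out_le hedge)
    · exact h0
  let f : ↥C →* ↥A ⧸ (Zc.subgroupOf A) :=
    (QuotientGroup.mk' _).comp (Subgroup.inclusion (inf_le_right : C ≤ A))
  have hfs : Function.Surjective f := by
    intro y
    obtain ⟨x, rfl⟩ := QuotientGroup.mk_surjective y
    obtain ⟨_, ⟨z, hz, rfl⟩, hzb⟩ := hφZ.exists_apply_eq (by omega)
      ⟨b, MulAction.mem_orbit_self b⟩ ⟨(x : G) • b, ⟨x, rfl⟩⟩
    have hzb' : (z : G) • b = (x : G) • b := congrArg Subtype.val hzb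
    have hzx : (z : G)⁻¹ * x ∈ C := ⟨MulAction.mem_stabilizer_iff.mpr
      (by rw [mul_smul, ← hzb', inv_smul_smul]), A.mul_mem (A.inv_mem z.2) x.2⟩
    refine ⟨⟨_, hzx⟩, ?_⟩
    refine QuotientGroup.eq.mpr ?_
    rw [mem_subgroupOf]
    have h1 : (x : G)⁻¹ * (z : G) * x ∈ Zc := by
      have := (mem_normalizer_iff.mp (hZn (A.inv_mem x.2)) z).mp hz
      rwa [inv_inv] at this
    show ((z : G)⁻¹ * x)⁻¹ * x ∈ Zc
    rwa [mul_inv_rev, inv_inv]
  have hfk : f.ker ≤ χ.ker := by
    intro c hc
    rw [hχker, mem_subgroupOf]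
    refine hZC _ ?_ c.2
    exact mem_subgroupOf.mp ((QuotientGroup.eq_one_iff (N := Zc.subgroupOf A)
      (Subgroup.inclusion (inf_le_right : C ≤ A) c)).mp hc)
  set g := f.liftOfSurjective hfs ⟨χ, hfk⟩ with hg
  have hgf : ∀ c, g (f c) = χ c := fun c => by
    rw [hg]; exact MonoidHom.liftOfRightInverse_comp_apply _ _ _ _ c
  set Φ : ↥A →* Equiv.Perm ↥(MulAction.orbit ↥A b) × Equiv.Perm ↥(out (flip r) b \ {a}) :=
    φ.prod (g.comp (QuotientGroup.mk' _)) with hΦ
  have hΦinj : Function.Injective Φ := by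
    rw [injective_iff_map_eq_one]
    intro x hx
    have h1 : φ x = 1 := congrArg Prod.fst hx
    have h2' : g (QuotientGroup.mk' _ x) = 1 := congrArg Prod.snd hx
    have hxK : (x : G) ∈ K G r a := by
      have : x ∈ φ.ker := h1
      rwa [hφker] at this
    have hxZ : (x : G) ∈ Zc := by
      obtain ⟨c, hc⟩ := hfs (QuotientGroup.mk' _ x)
      rw [← hc, hgf] at h2'
      have hcK : (c : G) ∈ K G r b := by
        have : c ∈ χ.ker := h2'
        rwa [hχker] at this
      have hc1 : f c = 1 := (QuotientGroup.eq_one_iff _).mpr (hKbZ hcK)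
      rw [hc1] at hc
      exact mem_subgroupOf.mp ((QuotientGroup.eq_one_iff (N := Zc.subgroupOf A) x).mp hc.symm)
    exact Subtype.ext (mem_bot.mp (hZK ▸ (⟨hxZ, hxK⟩ : (x : G) ∈ Zc ⊓ K G r a)))
  -- transport to standard permutation groups
  let e1 := (Finite.equivFinOfCardEq hd).permCongrHom
  let e2 := (Finite.equivFinOfCardEq hΓcard).permCongrHom
  set Ψ : ↥A →* Equiv.Perm (Fin d) × Equiv.Perm (Fin (d - 1)) :=
    (e1.toMonoidHom.prodMap e2.toMonoidHom).comp Φ with hΨ
  have hΨinj : Function.Injective Ψ := by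
    intro x y hxy
    exact hΦinj (Prod.ext (e1.injective (congrArg Prod.fst hxy))
      (e2.injective (congrArg Prod.snd hxy)))
  have hfst : Ψ.range.map (MonoidHom.fst _ _) = φ.range.map e1.toMonoidHom := by
    rw [MonoidHom.map_range, MonoidHom.map_range]; rfl
  have hsnd : Ψ.range.map (MonoidHom.snd _ _) = χ.range.map e2.toMonoidHom := by
    rw [MonoidHom.map_range, MonoidHom.map_range]
    ext p
    constructor
    · rintro ⟨x, rfl⟩
      obtain ⟨c, hc⟩ := hfs (QuotientGroup.mk' _ x)
      exact ⟨c, (congrArg e2 (hgf c)).symm.trans (congrArg (fun y => e2 (g y)) hc)⟩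
    · rintro ⟨c, rfl⟩
      exact ⟨Subgroup.inclusion inf_le_right c, congrArg e2 (hgf c)⟩
  have halt1 : ∀ s ∈ alternatingGroup (Fin d),
      ((s, 1) : Equiv.Perm (Fin d) × Equiv.Perm (Fin (d - 1))) ∈ Ψ.range := by
    intro s hs
    have hbig' : Big (((Zc.subgroupOf A).map φ).map e1.toMonoidHom) := by
      have := hφZ
      unfold Big at this ⊢
      rwa [card_map_of_injective (f := e1.toMonoidHom) e1.injective, Nat.card_fin, ← hd]
    obtain ⟨_, ⟨x, hx, rfl⟩, rfl⟩ := hbig'.alt_le hs
    refine ⟨x, Prod.ext rfl ?_⟩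
    show e2 (g (QuotientGroup.mk' _ x)) = 1
    rw [QuotientGroup.mk'_apply, (QuotientGroup.eq_one_iff x).mpr hx, map_one, map_one]
  have halt2 : ∀ t ∈ alternatingGroup (Fin (d - 1)),
      ((1, t) : Equiv.Perm (Fin d) × Equiv.Perm (Fin (d - 1))) ∈ Ψ.range := by
    intro t ht
    have hbig' : Big ((((K G r a).subgroupOf C).map χ).map e2.toMonoidHom) := by
      have := hχKa
      unfold Big at this ⊢
      rwa [card_map_of_injective (f := e2.toMonoidHom) e2.injective, Nat.card_fin, ← hΓcard]
    obtain ⟨_, ⟨c, hc, rfl⟩, rfl⟩ := hbig'.alt_le ht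
    refine ⟨Subgroup.inclusion inf_le_right c, Prod.ext ?_ (congrArg e2 (hgf c))⟩
    show e1 (φ (Subgroup.inclusion inf_le_right c)) = 1
    have : Subgroup.inclusion (inf_le_right : C ≤ A) c ∈ φ.ker := by
      rw [hφker]; exact hc
    rw [MonoidHom.mem_ker.mp this, map_one]
  have hcardM : d * Nat.card ↥χ.range = Nat.card ↥φ.range := by
    have h1 := hf.card_range_side hba
    rw [← hχ] at h1
    have h3 := card_range_loc hf.inv b
    rw [← h1, hKeq, card_K_eq hr b a, card_stabilizer_eq b a] at h3
    exact Nat.eq_of_mul_eq_mul_right Nat.card_pos (h3.trans hφcard.symm)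
  have e : ↥A ≃* ↥Ψ.range := MonoidHom.ofInjective hΨinj
  obtain ⟨n, hn⟩ : ∃ n, d = n + 1 := ⟨d - 1, by omega⟩
  have hn' : d - 1 = n := by omega
  rcases hφbig.eq_top_or_eq_alt with hT | hAl
  · right
    refine ⟨hT, ?_⟩
    have hM : χ.range = ⊤ := by
      rw [← card_eq_iff_eq_top, Nat.card_perm, hΓcard]
      rw [hT, Subgroup.card_top, Nat.card_perm, hd, hn, Nat.factorial_succ] at hcardM
      rw [hn']
      exact Nat.eq_of_mul_eq_mul_left n.succ_pos hcardM
    rcases classify Ψ.range halt1 halt2
      (by rw [hfst, hT, map_top_of_surjective e1.toMonoidHom e1.surjective])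
      (by rw [hsnd, hM, map_top_of_surjective e2.toMonoidHom e2.surjective]) with h | h
    · exact Or.inl ⟨e.trans ((MulEquiv.subgroupCongr h).trans topEquiv)⟩
    · exact Or.inr (Or.inr ⟨e.trans (MulEquiv.subgroupCongr h)⟩)
  · left
    haveI : Nontrivial ↥(MulAction.orbit ↥A b) := Finite.one_lt_card_iff_nontrivial.mp (by omega)
    refine ⟨by rw [hAl, alternatingGroup.index_eq_two], ⟨e.trans ?_⟩⟩
    haveI : Nontrivial (Fin (d - 1)) := Fin.nontrivial_iff_two_le.mpr (by omega)
    haveI : Nontrivial (Fin d) := Fin.nontrivial_iff_two_le.mpr (by omega)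
    have hL2 : 2 * Nat.card ↥φ.range = d.factorial := by
      rw [hAl, two_mul_nat_card_alternatingGroup, Nat.card_perm, hd]
    have hM2 : 2 * Nat.card ↥χ.range = n.factorial := by
      rw [← hcardM, hn, Nat.factorial_succ, mul_left_comm] at hL2
      exact Nat.eq_of_mul_eq_mul_left n.succ_pos hL2
    have h1 : φ.range.map e1.toMonoidHom = alternatingGroup (Fin d) := by
      refine Equiv.Perm.eq_alternatingGroup_of_index_eq_two ?_
      have := (φ.range.map e1.toMonoidHom).card_mul_index
      rw [card_map_of_injective (f := e1.toMonoidHom) e1.injective, Nat.card_perm, Nat.card_fin,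
        ← hL2, mul_comm 2] at this
      exact Nat.eq_of_mul_eq_mul_left Nat.card_pos this
    have h2' : χ.range.map e2.toMonoidHom = alternatingGroup (Fin (d - 1)) := by
      refine Equiv.Perm.eq_alternatingGroup_of_index_eq_two ?_
      have := (χ.range.map e2.toMonoidHom).card_mul_index
      rw [card_map_of_injective (f := e2.toMonoidHom) e2.injective, Nat.card_perm, Nat.card_fin,
        show (d - 1).factorial = n.factorial by rw [hn'], ← hM2, mul_comm 2] at this
      exact Nat.eq_of_mul_eq_mul_left Nat.card_pos this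
    have h : Ψ.range = (alternatingGroup (Fin d)).prod (alternatingGroup (Fin (d - 1))) := by
      refine le_antisymm (fun x hx => ?_) fun x hx => ?_
      · have a1 : x.1 ∈ alternatingGroup (Fin d) :=
          h1 ▸ hfst ▸ mem_map_of_mem (MonoidHom.fst _ _) hx
        have a2 : x.2 ∈ alternatingGroup (Fin (d - 1)) :=
          h2' ▸ hsnd ▸ mem_map_of_mem (MonoidHom.snd _ _) hx
        exact ⟨a1, a2⟩
      · have := Ψ.range.mul_mem (halt1 _ hx.1) (halt2 _ hx.2)
        simpa [Prod.mk_mul_mk] using this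
    exact (MulEquiv.subgroupCongr h).trans (Subgroup.prodEquiv _ _)

end Cfsg.Agent.S3687
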