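import Cfsg.Statements.S3696
-- import your own Cfsg.Agent.* helpers here

set_option autoImplicit false
open Cfsg

namespace Cfsg.Agent.S3696

theorem prod_mul_pow_le (l : List ℕ) :
    l.prod * l.length ^ l.length ≤ l.sum ^ l.length := by
  rcases Nat.eq_zero_or_pos l.length with h | h
  · simp [List.length_eq_zero_iff.1 h]
  have key := Real.geom_mean_le_arith_mean (Finset.univ : Finset (Fin l.length)) (fun _ => 1)
    (fun i => (l[(i : ℕ)] : ℝ)) (fun _ _ => zero_le_one) (by simpa using (by exact_mod_cast h : (0 : ℝ) < l.length))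
    (fun i _ => by positivity)
  simp only [Finset.sum_const, Finset.card_univ, Fintype.card_fin, nsmul_eq_mul, mul_one, Real.rpow_one,
    one_mul] at key
  have hp : (∏ i : Fin l.length, (l[(i : ℕ)] : ℝ)) = (l.prod : ℝ) := by
    rw [← Fin.prod_univ_getElem]; push_cast; rfl
  have hs : (∑ i : Fin l.length, (l[(i : ℕ)] : ℝ)) = (l.sum : ℝ) := by
    rw [← Fin.sum_univ_getElem]; push_cast; rfl
  rw [hp, hs] at key
  have h0 : (0 : ℝ) ≤ (l.prod : ℝ) := by positivity
  have h1 := pow_le_pow_left₀ (Real.rpow_nonneg h0 _) key l.length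
  rw [Real.rpow_inv_natCast_pow h0 h.ne', div_pow, le_div_iff₀ (by positivity)] at h1
  exact_mod_cast h1

theorem split_bound {p : ℕ} (hp : 2 ≤ p) (k : ℕ) : ∀ (d : ℕ) (l : List ℕ), l.length + d = k →
    k ≤ l.sum → (∀ e ∈ l, 1 ≤ e) →
    p ^ l.sum * k ^ k ≤ ((l.map (p ^ ·)).sum) ^ k := by
  intro d
  induction d with
  | zero =>
    intro l hl _ _
    have h := prod_mul_pow_le (l.map (p ^ ·))
    rw [List.length_map, show l.length = k by omega] at h
    have : ∀ m : List ℕ, (m.map (p ^ ·)).prod = p ^ m.sum := fun m => by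
      induction m with
      | nil => simp
      | cons a t ih => simp [ih, pow_add]
    rwa [this] at h
  | succ d ih =>
    intro l hl hk h1
    obtain ⟨e, he, h2⟩ : ∃ e ∈ l, 2 ≤ e := by
      by_contra hcon
      push Not at hcon
      have : l.sum ≤ l.length := by
        have hle := List.sum_le_card_nsmul l 1 fun x hx => Nat.lt_succ_iff.1 (hcon x hx)
        simpa using hle
      omega
    obtain ⟨s, t, rfl⟩ := List.append_of_mem he
    have hsum : (1 :: (e - 1) :: (s ++ t)).sum = (s ++ e :: t).sum := by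
      simp only [List.sum_cons, List.sum_append]
      omega
    have := ih (1 :: (e - 1) :: (s ++ t)) (by simp at hl ⊢; omega) (by omega) (by
      intro x hx
      simp only [List.mem_cons, List.mem_append] at hx
      rcases hx with rfl | rfl | hx | hx
      · exact le_rfl
      · omega
      · exact h1 x (by simp [hx])
      · exact h1 x (by simp [hx]))
    rw [hsum] at this
    refine this.trans (Nat.pow_le_pow_left ?_ k)
    simp only [List.map_cons, List.map_append, List.sum_cons, List.sum_append, pow_one]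
    have h4 : p + p ^ (e - 1) ≤ p ^ e := by
      have h5 : p ≤ p ^ (e - 1) := Nat.le_self_pow (by omega) p
      have h6 : p ^ e = p ^ (e - 1) * p := by rw [← pow_succ]; congr 1; omega
      calc p + p ^ (e - 1) ≤ p ^ (e - 1) * 2 := by omega
        _ ≤ _ := h6 ▸ Nat.mul_le_mul_left _ hp
    omega


/-- Let p be a prime, Ω a finite set with n ≥ p elements, and A an abelian p-subgroup of the symmetric group on Ω whose elements of order dividing p number p^k (so k is the rank of A). Then |A| · k^k ≤ n^k, that is, |A| ≤ (n/k)^k. -/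
theorem result {Ω : Type*} [Fintype Ω] [DecidableEq Ω]
    (p : ℕ) (hp : p.Prime) (hn : p ≤ Fintype.card Ω) (A : Subgroup (Equiv.Perm Ω)) (hA : IsPGroup p A) (hab : IsMulCommutative A)
    (k : ℕ) (hk : Nat.card {x : A // x ^ p = 1} = p ^ k) :
    Nat.card A * k ^ k ≤ Fintype.card Ω ^ k := by
  classical
  haveI := Fact.mk hp
  letI : CommGroup A := { (inferInstance : Group A) with mul_comm := hab.is_comm.comm }
  let P : Finset Ω → Prop := fun S => ∀ x : A, x ^ p = 1 → (∀ ω ∈ S, x • ω = ω) → x = 1
  have hex : ∃ m, ∃ S : Finset Ω, S.card = m ∧ P S :=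
    ⟨_, Finset.univ, rfl, fun x _ hx => Subtype.ext (Equiv.ext fun ω => hx ω (Finset.mem_univ ω))⟩
  obtain ⟨S, hSm, hS⟩ := Nat.find_spec hex
  have hmin : ∀ ω ∈ S, ∃ x : A, x ^ p = 1 ∧ (∀ o ∈ S.erase ω, x • o = o) ∧ x ≠ 1 := by
    intro ω hω
    by_contra hcon
    push Not at hcon
    have h := Nat.find_min' hex ⟨S.erase ω, rfl, hcon⟩
    rw [← hSm, Finset.card_erase_of_mem hω] at h
    have := Finset.card_pos.2 ⟨ω, hω⟩
    omega
  choose x hxp hxS hx1 using fun ω : S => hmin ω ω.2
  have hxω : ∀ ω : S, x ω • (ω : Ω) ≠ ω := fun ω e => hx1 ω (hS _ (hxp ω) fun o ho => by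
    by_cases h : o = (ω : Ω)
    · rw [h]; exact e
    · exact hxS ω o (Finset.mem_erase.2 ⟨h, ho⟩))
  -- elements fixing `S` pointwise are trivial
  have hfix : ∀ a : A, (∀ ω ∈ S, a • ω = ω) → a = 1 := by
    intro a ha
    by_contra hne
    obtain ⟨m, hm⟩ := hA a
    obtain ⟨j, -, hj⟩ := (Nat.dvd_prime_pow hp).1 (orderOf_dvd_of_pow_eq_one hm)
    have hj0 : j ≠ 0 := fun e => hne (by rwa [e, pow_zero, orderOf_eq_one_iff] at hj)
    have hb : orderOf (a ^ (orderOf a / p)) = p :=
      orderOf_pow_orderOf_div (orderOf_pos a).ne' (hj ▸ dvd_pow_self p hj0)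
    have := hS _ (by conv_lhs => rw [← hb]
                     exact pow_orderOf_eq_one _) fun ω hω => by
      show a ^ (orderOf a / p) ∈ MulAction.stabilizer A ω
      exact pow_mem (show a ∈ MulAction.stabilizer A ω from ha ω hω) _
    rw [this, orderOf_one] at hb
    exact hp.one_lt.ne hb
  -- `#S ≤ k`
  have hcardS : S.card ≤ k := by
    let f : (S → Fin p) → {y : A // y ^ p = 1} := fun c =>
      ⟨∏ ω, x ω ^ (c ω : ℕ), by
        rw [← Finset.prod_pow]
        exact Finset.prod_eq_one fun ω _ => by rw [← pow_mul, mul_comm, pow_mul, hxp, one_pow]⟩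
    have hf : Function.Injective f := by
      intro c d hcd
      funext ω
      set K := MulAction.stabilizer A (ω : Ω)
      let π := QuotientGroup.mk' K
      have h1 : ∀ c : S → Fin p, π (∏ o, x o ^ (c o : ℕ)) = π (x ω) ^ (c ω : ℕ) := by
        intro c
        rw [map_prod, Finset.prod_eq_single ω]
        · rw [map_pow]
        · intro o _ ho
          rw [map_pow]
          have : π (x o) = 1 := (QuotientGroup.eq_one_iff _).2
            (hxS o ω (Finset.mem_erase.2 ⟨fun e => ho (Subtype.ext e).symm, ω.2⟩))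
          rw [this, one_pow]
        · intro h; exact absurd (Finset.mem_univ _) h
      have h2 := congrArg π (congrArg Subtype.val hcd)
      simp only [f, h1] at h2
      have hord : orderOf (π (x ω)) = p := orderOf_eq_prime (by rw [← map_pow, hxp, map_one])
        fun e => hxω ω ((QuotientGroup.eq_one_iff (x ω)).1 e)
      exact Fin.ext (pow_injOn_Iio_orderOf (by rw [hord]; exact (c ω).2) (by rw [hord]; exact (d ω).2) h2)
    have h := Nat.card_le_card_of_injective f hf
    rw [Nat.card_fun, hk, Nat.card_fin, Nat.card_eq_fintype_card, Fintype.card_coe] at h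
    exact (Nat.pow_le_pow_iff_right hp.one_lt).1 h
  -- orbit lengths
  have horb : ∀ ω : Ω, ∃ e, Nat.card (MulAction.orbit A ω) = p ^ e := fun ω =>
    hA.card_orbit ω
  choose e he using horb
  have hepos : ∀ ω ∈ S, 1 ≤ e ω := by
    intro ω hω
    by_contra h
    have hc := he ω
    rw [show e ω = 0 by omega, pow_zero, Nat.card_eq_one_iff_unique] at hc
    exact hxω ⟨ω, hω⟩ (congrArg Subtype.val (hc.1.elim ⟨x ⟨ω, hω⟩ • ω, MulAction.mem_orbit _ _⟩
      ⟨ω, MulAction.mem_orbit_self _⟩))
  have hAle : Nat.card A ≤ p ^ (∑ ω ∈ S, e ω) := by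
    have hi : Function.Injective (fun (a : A) (ω : S) =>
        (⟨a • (ω : Ω), MulAction.mem_orbit _ _⟩ : MulAction.orbit A (ω : Ω))) := by
      intro a b hab
      have : b⁻¹ * a = 1 := hfix _ fun ω hω => by
        have := congrArg Subtype.val (congrFun hab ⟨ω, hω⟩)
        simp only at this
        rw [mul_smul, this, inv_smul_smul]
      exact (inv_mul_eq_one.1 this).symm
    have h := Nat.card_le_card_of_injective _ hi
    rw [Nat.card_pi] at h
    simp only [he] at h
    rwa [Finset.prod_pow_eq_pow_sum, Finset.sum_coe_sort S e] at h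
  have hksum : k ≤ ∑ ω ∈ S, e ω := by
    rw [← Nat.pow_le_pow_iff_right hp.one_lt, ← hk]
    exact (Finite.card_subtype_le _).trans hAle
  have hdisj : ∑ ω ∈ S, p ^ e ω ≤ Fintype.card Ω := by
    have hi : Function.Injective (fun z : Σ ω : S, MulAction.orbit A (ω : Ω) => (z.2 : Ω)) := by
      rintro ⟨ω, u, hu⟩ ⟨o, v, hv⟩ (rfl : u = v)
      have hωo : (ω : Ω) = o := by
        by_contra hne
        obtain ⟨a, rfl⟩ := hu
        obtain ⟨b, hb⟩ := hv
        have hb' : b • (o : Ω) = a • (ω : Ω) := hb
        apply hxω ω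
        have : (ω : Ω) = (a⁻¹ * b) • (o : Ω) := by rw [mul_smul, hb', inv_smul_smul]
        rw [this, smul_smul, mul_comm (x ω), ← smul_smul,
          hxS ω o (Finset.mem_erase.2 ⟨fun h => hne h.symm, o.2⟩)]
      obtain rfl : ω = o := Subtype.ext hωo
      rfl
    have h := Nat.card_le_card_of_injective _ hi
    rw [Nat.card_sigma, Nat.card_eq_fintype_card (α := Ω)] at h
    simp only [he] at h
    rwa [Finset.sum_coe_sort S (fun ω => p ^ e ω)] at h
  have hmain := split_bound hp.two_le k (k - S.card) (S.toList.map e)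
    (by simp only [List.length_map, Finset.length_toList]; omega) (by rwa [Finset.sum_map_toList]) (by
      intro v hv
      obtain ⟨ω, hω, rfl⟩ := List.mem_map.1 hv
      exact hepos ω (Finset.mem_toList.1 hω))
  rw [Finset.sum_map_toList, List.map_map, Finset.sum_map_toList] at hmain
  exact (Nat.mul_le_mul_right _ hAle).trans (hmain.trans (Nat.pow_le_pow_left hdisj k))

end Cfsg.Agent.S3696
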