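import Cfsg.Statements.S3701
import Cfsg.Agent.Lib.Recog.ThreeCubeMain

set_option autoImplicit false
open Cfsg

namespace Cfsg.Agent.S3701

open CfsgLib.ThreeCube in
/-- the model as permutations of nine points -/
def nine : Md →* Equiv.Perm (Fin 9) :=
  MonoidHom.mk' (fun x => finProdFinEquiv.permCongr
      (Equiv.prodShear (Equiv.refl (Fin 3)) fun c => dperm (co c x)))
    fun x y => by
      refine Equiv.ext fun n => ?_
      obtain ⟨⟨c, j⟩, rfl⟩ := finProdFinEquiv.surjective n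
      simp [Equiv.permCongr_apply, co_mul, dperm_spec.1]

open CfsgLib.ThreeCube in
/-- a lifted generator -/
def ga : Md := ⟨(.sr 2, .sr 2, 1), rfl⟩

open CfsgLib.ThreeCube in
/-- a lifted generator -/
def gb : Md := ⟨(.sr 2, 1, .sr 2), rfl⟩

open CfsgLib.ThreeCube in
theorem nine_gen :
    nine (pt 0) = Equiv.swap (0 : Fin 9) 1 * Equiv.swap 1 2 ∧
      nine (pt 1) = Equiv.swap (3 : Fin 9) 4 * Equiv.swap 4 5 ∧
      nine (pt 2) = Equiv.swap (6 : Fin 9) 7 * Equiv.swap 7 8 ∧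
      nine ga = Equiv.swap (0 : Fin 9) 1 * Equiv.swap 3 4 ∧
      nine gb = Equiv.swap (0 : Fin 9) 1 * Equiv.swap 6 7 := by
  refine ⟨Equiv.ext ?_, Equiv.ext ?_, Equiv.ext ?_, Equiv.ext ?_, Equiv.ext ?_⟩ <;> decide +kernel

open CfsgLib.ThreeCube in
theorem nine_inj : ∀ x : Md, (∀ n : Fin 9, nine x n = n) → x = 1 := by decide +kernel

open CfsgLib.ThreeCube in
theorem words : ∀ x : Md, ∃ i j k : Fin 3, ∃ l m : Fin 2,
    x = pt 0 ^ (i : ℕ) * pt 1 ^ (j : ℕ) * pt 2 ^ (k : ℕ) * ga ^ (l : ℕ) * gb ^ (m : ℕ) := by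
  decide +kernel

/-- Let H₀ ≤ Sym(9) be generated by the 3-cycles (1 2 3), (4 5 6), (7 8 9) and the involutions (1 2)(4 5), (1 2)(7 8) (a group of order 108, elementary abelian of order 27 extended by a four-group). Let G be a finite group with a subgroup H ≅ H₀, and T ≤ H of order 27 (a Sylow 3-subgroup of H) with N_G(T) = H and C_G(t) ≤ H for every t ≠ 1 in T. Then G = H. -/
theorem result {G : Type*} [Group G] [Finite G] (H : Subgroup G)
    (hH : Nonempty (↥H ≃* ↥(Subgroup.closure ({Equiv.swap (0 : Fin 9) 1 * Equiv.swap 1 2, Equiv.swap (3 : Fin 9) 4 * Equiv.swap 4 5, Equiv.swap (6 : Fin 9) 7 * Equiv.swap 7 8,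
        Equiv.swap (0 : Fin 9) 1 * Equiv.swap 3 4, Equiv.swap (0 : Fin 9) 1 * Equiv.swap 6 7} : Set (Equiv.Perm (Fin 9))))))
    (T : Subgroup G) (hTH : T ≤ H) (hT : Nat.card T = 27) (hN : Subgroup.normalizer (T : Set G) = H)
    (hC : ∀ t ∈ T, t ≠ 1 → Subgroup.centralizer ({t} : Set G) ≤ H) : H = ⊤ := by
  classical
  cases nonempty_fintype G
  obtain ⟨e₀⟩ := hH
  obtain ⟨g0, g1, g2, g3, g4⟩ := nine_gen
  have hr : nine.range = Subgroup.closure ({Equiv.swap (0 : Fin 9) 1 * Equiv.swap 1 2,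
      Equiv.swap (3 : Fin 9) 4 * Equiv.swap 4 5, Equiv.swap (6 : Fin 9) 7 * Equiv.swap 7 8,
      Equiv.swap (0 : Fin 9) 1 * Equiv.swap 3 4, Equiv.swap (0 : Fin 9) 1 * Equiv.swap 6 7} :
        Set (Equiv.Perm (Fin 9))) := by
    apply le_antisymm
    · rintro _ ⟨x, rfl⟩
      obtain ⟨i, j, k, l, m, rfl⟩ := words x
      simp only [map_mul, map_pow, g0, g1, g2, g3, g4]
      refine mul_mem (mul_mem (mul_mem (mul_mem ?_ ?_) ?_) ?_) ?_ <;>
        refine pow_mem (Subgroup.subset_closure ?_) _ <;> simp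
    · rw [Subgroup.closure_le]
      rintro _ (rfl | rfl | rfl | rfl | rfl)
      exacts [⟨_, g0⟩, ⟨_, g1⟩, ⟨_, g2⟩, ⟨_, g3⟩, ⟨_, g4⟩]
  have hinj : Function.Injective nine := (injective_iff_map_eq_one nine).2 fun x hx =>
    nine_inj x fun n => by rw [hx]; rfl
  exact CfsgLib.ThreeCube.eq_top H
    ((e₀.trans (MulEquiv.subgroupCongr hr.symm)).trans (MonoidHom.ofInjective hinj).symm) T hTH hT hN hC

end Cfsg.Agent.S3701
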