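import Cfsg.Statements.S3703
import Cfsg.Agent.Lib.Recog.Action

set_option autoImplicit false
open Cfsg

namespace Cfsg.Agent.S3703

open scoped Pointwise

theorem eq_of_card_dvd {G : Type*} [Group G] [Finite G] {H K : Subgroup G} (hle : H ≤ K)
    (h : ∀ q : ℕ, q.Prime → q ^ (Nat.card K).factorization q ∣ Nat.card H) : H = K := by
  refine Subgroup.eq_of_le_of_card_ge hle (Nat.le_of_dvd Nat.card_pos ?_)
  rw [← Nat.factorization_le_iff_dvd Nat.card_pos.ne' Nat.card_pos.ne']
  intro q
  by_cases hq : q.Prime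
  · exact (hq.pow_dvd_iff_le_factorization Nat.card_pos.ne').1 (h q hq)
  · simp [Nat.factorization_eq_zero_of_not_prime _ hq]

open Finset in
theorem exists_norm_section {G : Type*} [Group G] [Finite G] {p q : ℕ} [Fact p.Prime] [Fact q.Prime] (hqp : q ≠ p)
    (R : Subgroup G) (hR : IsPGroup q R) (h : G)
    (hhR : ∀ r ∈ R, h * r * h⁻¹ ∈ R)
    (hfix : ∀ r ∈ R, ∀ k ∈ Subgroup.zpowers h, k ≠ 1 → k * r = r * k → r = 1) :
    ∀ c : ℕ, ∀ P : Subgroup G, Nat.card P = c → IsPGroup p P → h ∈ Subgroup.normalizer (P : Set G) →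
      R ≤ Subgroup.normalizer (P : Set G) → (∃ r ∈ R, ∃ x ∈ P, r * x ≠ x * r) →
      ∃ x ∈ P, (x * h) ^ orderOf h ≠ 1 := by
  classical
  intro c
  induction c using Nat.strong_induction_on with
  | _ c ih =>
    intro P hc hP hhP hRP hne
    set D : Subgroup G := ⁅P, P⁆
    have hDP : D ≤ P := Subgroup.commutator_le.2 fun a ha b hb =>
      P.mul_mem (P.mul_mem (P.mul_mem ha hb) (P.inv_mem ha)) (P.inv_mem hb)
    have hnD : Subgroup.normalizer (P : Set G) ≤ Subgroup.normalizer (D : Set G) := by
      intro g hg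
      have e : P.map (MulAut.conj g).toMonoidHom = P := by
        refine Subgroup.eq_of_le_of_card_ge ?_
          (Nat.card_congr (P.equivMapOfInjective _ (MulAut.conj g).injective).toEquiv).le
        rintro _ ⟨x, hx, rfl⟩
        exact (Subgroup.mem_normalizer_iff.1 hg x).1 hx
      refine Subgroup.mem_normalizer_fintype fun d hd => ?_
      have h1 : (MulAut.conj g).toMonoidHom d ∈ (⁅P, P⁆ : Subgroup G).map (MulAut.conj g).toMonoidHom :=
        Subgroup.mem_map_of_mem _ hd
      rw [Subgroup.map_commutator, e] at h1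
      exact h1
    by_cases hDc : ∃ r ∈ R, ∃ x ∈ D, r * x ≠ x * r
    · have hlt : Nat.card D < c := by
        rw [← hc]
        by_contra hge
        push Not at hge
        have hDe : D = P := Subgroup.eq_of_le_of_card_ge hDP hge
        obtain ⟨r, -, x, hx, hne'⟩ := hDc
        haveI : Group.IsNilpotent P := hP.isNilpotent
        haveI : Group.IsSolvable P := inferInstance
        have hP1 : Nontrivial P := ⟨⟨⟨x, hDP hx⟩, 1, fun e => hne' (by
          rw [show x = 1 from congrArg Subtype.val e, mul_one, one_mul])⟩⟩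
        apply Group.IsSolvable.commutator_lt_top_of_nontrivial P |>.ne
        apply Subgroup.map_injective P.subtype_injective
        rw [commutator_def, Subgroup.map_commutator, ← MonoidHom.range_eq_map, Subgroup.range_subtype]
        exact hDe
      obtain ⟨x, hx, hx'⟩ := ih _ hlt D rfl (hP.to_le hDP) (hnD hhP) (hRP.trans hnD) hDc
      exact ⟨x, hDP hx, hx'⟩
    push Not at hDc
    let ab : MulAut P →* MulAut (Abelianization P) :=
      { toFun := fun e => e.abelianizationCongr
        map_one' := by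
          apply MulEquiv.ext
          intro v
          induction v using QuotientGroup.induction_on with
          | _ a => rfl
        map_mul' := fun e f => by
          apply MulEquiv.ext
          intro v
          induction v using QuotientGroup.induction_on with
          | _ a => rfl }
    let φ : (Subgroup.normalizer (P : Set G)) →* MulAut (Abelianization P) := ab.comp P.normalizerMonoidHom
    have hφ : ∀ (n : Subgroup.normalizer (P : Set G)) (x : P), φ n (Abelianization.of x) =
        Abelianization.of (P.normalizerMonoidHom n x) := fun n x => rfl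
    haveI : Finite (Abelianization P) := Quotient.finite _
    have hof : ∀ a b : P, Abelianization.of a = Abelianization.of b → (a : G)⁻¹ * b ∈ D := by
      intro a b hab
      have h1 : a⁻¹ * b ∈ commutator P := QuotientGroup.eq.1 hab
      have h2 : P.subtype (a⁻¹ * b) ∈ (commutator P).map P.subtype := Subgroup.mem_map_of_mem _ h1
      rw [commutator_def, Subgroup.map_commutator, ← MonoidHom.range_eq_map, Subgroup.range_subtype] at h2
      exact h2
    set R' := R.subgroupOf (Subgroup.normalizer (P : Set G))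
    set h' : Subgroup.normalizer (P : Set G) := ⟨h, hhP⟩
    haveI : Fintype R' := Fintype.ofFinite _
    haveI : Fintype (Subgroup.zpowers h') := Fintype.ofFinite _
    have hnorm : ∀ k ∈ Subgroup.zpowers h', ∀ f ∈ R', k * f * k⁻¹ ∈ R' := by
      intro k hk f hf
      have : Subgroup.zpowers h ≤ Subgroup.normalizer (R : Set G) :=
        Subgroup.zpowers_le.2 (Subgroup.mem_normalizer_fintype hhR)
      have hk' : (k : G) ∈ Subgroup.zpowers h := by
        obtain ⟨i, rfl⟩ := Subgroup.mem_zpowers_iff.1 hk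
        exact ⟨i, rfl⟩
      exact (Subgroup.mem_normalizer_iff.1 (this hk') f).1 hf
    obtain ⟨w, hw⟩ := CfsgLib.Recog.exists_norm_ne_one φ R' (Subgroup.zpowers h') hnorm
      (fun f hf k hk hk1 e => by
        have hk' : (k : G) ∈ Subgroup.zpowers h := by
          obtain ⟨i, rfl⟩ := Subgroup.mem_zpowers_iff.1 hk
          exact ⟨i, rfl⟩
        exact Subtype.ext (hfix f hf k hk' (fun e1 => hk1 (Subtype.ext e1)) (congrArg Subtype.val e)))
      (by
        have hR' : IsPGroup q R' := hR.of_equiv (Subgroup.subgroupOfEquivOfLe hRP).symm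
        have h0 := IsPGroup.coprime_card_of_ne q p hqp _ (⊤ : Subgroup (Abelianization P)) hR'
          ((hP.of_surjective Abelianization.of Quotient.mk_surjective).to_subgroup ⊤)
        rwa [Subgroup.card_top] at h0)
      (by
        by_contra hcon
        push Not at hcon
        obtain ⟨r, hr, x, hx, hne'⟩ := hne
        have hmem : r * x * r⁻¹ ∈ P := (Subgroup.mem_normalizer_iff.1 (hRP hr) x).1 hx
        have hz : x⁻¹ * (r * x * r⁻¹) ∈ D :=
          hof ⟨x, hx⟩ ⟨r * x * r⁻¹, hmem⟩ ((hcon ⟨r, hRP hr⟩ hr (Abelianization.of ⟨x, hx⟩)).symm)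
        set z := x⁻¹ * (r * x * r⁻¹)
        have hzc : Commute r z := hDc r hr z hz
        have hpow : ∀ k : ℕ, r ^ k * x * (r ^ k)⁻¹ = x * z ^ k := by
          intro k
          induction k with
          | zero => simp
          | succ k ihk =>
            calc r ^ (k + 1) * x * (r ^ (k + 1))⁻¹ = r * (r ^ k * x * (r ^ k)⁻¹) * r⁻¹ := by
                  rw [pow_succ']; group
              _ = r * x * r⁻¹ * (r * z ^ k * r⁻¹) := by rw [ihk]; group
              _ = x * z ^ (k + 1) := by
                  rw [(hzc.pow_right k).eq, mul_inv_cancel_right, pow_succ', ← mul_assoc x z, show x * z = r * x * r⁻¹ by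
                    simp [z]]
        obtain ⟨k, hk⟩ := hR ⟨r, hr⟩
        have hk' : r ^ q ^ k = 1 := congrArg Subtype.val hk
        have h2 := hpow (q ^ k)
        rw [hk', one_mul, inv_one, mul_one, eq_comm, mul_eq_left] at h2
        have hz1 : z = 1 := by
          obtain ⟨j, hj⟩ := hP ⟨z, hDP hz⟩
          have hj' : z ^ p ^ j = 1 := congrArg Subtype.val hj
          have hc' : (q ^ k).Coprime (p ^ j) := Nat.Coprime.pow _ _ ((Nat.coprime_primes Fact.out Fact.out).2 hqp)
          rw [← orderOf_eq_one_iff]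
          exact Nat.eq_one_of_dvd_coprimes hc' (orderOf_dvd_of_pow_eq_one h2) (orderOf_dvd_of_pow_eq_one hj')
        apply hne'
        rw [inv_mul_eq_one] at hz1
        conv_rhs => rw [hz1]
        group)
    obtain ⟨x, rfl⟩ := Abelianization.of.range_eq_top.1 (MonoidHom.range_eq_top.2 Quotient.mk_surjective) w
    refine ⟨x, x.2, fun hxn => hw ?_⟩
    have hy : ∀ k : ℕ, ∃ y : P, ((x : G) * h) ^ k = y * h ^ k ∧
        Abelianization.of y = ∏ i ∈ range k, φ (h' ^ i) (Abelianization.of x) := by
      intro k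
      induction k with
      | zero => exact ⟨1, by simp, by simp⟩
      | succ k ihk =>
        obtain ⟨y, hy1, hy2⟩ := ihk
        refine ⟨y * P.normalizerMonoidHom (h' ^ k) x, ?_, ?_⟩
        · rw [pow_succ, hy1, pow_succ]
          show (y : G) * h ^ k * (x * h) = (y : G) * (((h' ^ k : Subgroup.normalizer (P : Set G)) : G) * x *
            ((h' ^ k : Subgroup.normalizer (P : Set G)) : G)⁻¹) * (h ^ k * h)
          rw [SubmonoidClass.coe_pow]
          show (y : G) * h ^ k * (x * h) = (y : G) * (h ^ k * x * (h ^ k)⁻¹) * (h ^ k * h)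
          group
        · rw [map_mul, hy2, prod_range_succ, hφ]
    obtain ⟨y, hy1, hy2⟩ := hy (orderOf h)
    rw [hxn, pow_orderOf_eq_one, mul_one] at hy1
    have : y = 1 := Subtype.ext hy1.symm
    rw [this, map_one] at hy2
    have hord : orderOf h' = orderOf h := (Subgroup.orderOf_coe h').symm
    rw [hy2, ← hord, prod_range]
    exact (Fintype.prod_equiv (finEquivZPowers (isOfFinOrder_of_finite h')) _ _ fun i => rfl).symm


/-- Let N be a normal subgroup of the finite group G such that G/N is a Frobenius group with kernel F and cyclic complement H, where the order of F is coprime to that of N and F is not contained in the image of C_G(N) in G/N. Then G has an element of order p·#H for some prime p dividing the order of N. (A standard tool in recognising groups by their element orders.) -/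
theorem result {G : Type*} [Group G] [Finite G] (N : Subgroup G) [N.Normal]
    (Fb Hb : Subgroup (G ⧸ N)) [Fb.Normal] (hHb : Cfsg.IsFrobeniusComplement Hb) (hker : Cfsg.frobeniusKernel Hb = (Fb : Set (G ⧸ N)))
    (hcyc : IsCyclic Hb) (hcop : (Nat.card Fb).Coprime (Nat.card N))
    (hnot : ¬ Fb ≤ (Subgroup.centralizer (N : Set G)).map (QuotientGroup.mk' N)) :
    ∃ p : ℕ, p.Prime ∧ p ∣ Nat.card N ∧ ∃ g : G, orderOf g = p * Nat.card Hb := by
  classical
  set π := QuotientGroup.mk' N with hπ
  set n := Nat.card Hb with hn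
  obtain ⟨g₀, hg₀⟩ := isCyclic_iff_exists_zpowers_eq_top.1 hcyc
  have hg₀n : orderOf g₀ = n := by rw [← Nat.card_zpowers, hg₀, Subgroup.card_top]
  have hgn : orderOf (g₀ : G ⧸ N) = n := by rw [Subgroup.orderOf_coe]; exact hg₀n
  have hn1 : n ≠ 1 := fun e => hHb.1 (Subgroup.card_eq_one.1 e)
  have hdisj : ∀ f ∈ Fb, f ∈ Hb → f = 1 := by
    intro f hf hfH
    have : f ∈ Cfsg.frobeniusKernel Hb := by rw [hker]; exact hf
    rcases this with h | h
    · exact h
    · exact absurd (by simpa using hfH) (h 1)
  have hfp : ∀ f ∈ Fb, ∀ k ∈ Hb, k ≠ 1 → k * f = f * k → f = 1 := by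
    intro f hf k hk hk1 e
    by_cases hfH : f ∈ Hb
    · exact hdisj f hf hfH
    · exfalso
      apply hk1
      have hm : k ∈ Hb ⊓ MulAut.conj f • Hb := by
        refine ⟨hk, ?_⟩
        show k ∈ MulAut.conj f • Hb
        rw [Subgroup.mem_pointwise_smul_iff_inv_smul_mem, MulAut.smul_def, MulAut.inv_def, MulAut.conj_symm_apply,
          mul_assoc, e, ← mul_assoc, inv_mul_cancel, one_mul]
        exact hk
      rwa [hHb.2.2 f hfH, Subgroup.mem_bot] at hm
  by_contra hcon
  push Not at hcon
  -- no element lies over a generator of a conjugate of `Hb` with non-trivial `n`-th power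
  have hdone : ∀ g : G, orderOf (π g) = n → g ^ n = 1 := by
    intro g hg
    by_contra hne
    obtain ⟨p, hp, hpd⟩ := Nat.exists_prime_and_dvd (mt orderOf_eq_one_iff.1 hne)
    have hmem : g ^ n ∈ N := by
      rw [← QuotientGroup.eq_one_iff, QuotientGroup.mk_pow]
      show π g ^ n = 1
      rw [← hg, pow_orderOf_eq_one]
    have hpN : p ∣ Nat.card N := hpd.trans (by
      rw [← Subgroup.orderOf_mk (ha := hmem)]
      exact orderOf_dvd_natCard _)
    have hng : n ∣ orderOf g := hg ▸ orderOf_map_dvd π g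
    rw [orderOf_pow' _ (by rw [← hgn]; exact (orderOf_pos _).ne'), Nat.gcd_eq_right hng] at hpd
    have : p * n ∣ orderOf g := by
      have := Nat.mul_dvd_mul_right hpd n
      rwa [Nat.div_mul_cancel hng] at this
    exact hcon p hp hpN _ (orderOf_pow_orderOf_div (orderOf_pos g).ne' this)
  set Fp : Subgroup G := Fb.comap π with hFp
  have hFpN : N ≤ Fp := fun x hx => by
    show π x ∈ Fb
    rw [show π x = 1 from (QuotientGroup.eq_one_iff x).2 hx]
    exact Fb.one_mem
  have hFpcard : Nat.card Fp = Nat.card N * Nat.card Fb := QuotientGroup.card_preimage_mk N (Fb : Set (G ⧸ N))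
  apply hnot
  -- it suffices to centralise `N` by a Sylow subgroup of `Fp` for each prime of `Fb`
  suffices hsuf : ∀ q : ℕ, q.Prime → q ∣ Nat.card Fb →
      ∀ R₀ : Sylow q Fp, (R₀ : Subgroup Fp).map Fp.subtype ≤ Subgroup.centralizer (N : Set G) by
    have : (Subgroup.centralizer (N : Set G)).map π ⊓ Fb = Fb := by
      refine eq_of_card_dvd inf_le_right fun q hq => ?_
      by_cases hqF : q ∣ Nat.card Fb
      · haveI := Fact.mk hq
        let R₀ : Sylow q Fp := default
        set S := (R₀ : Subgroup Fp).map Fp.subtype with hS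
        have hScard : Nat.card S = q ^ (Nat.card Fb).factorization q := by
          rw [hS, ← Nat.card_congr ((R₀ : Subgroup Fp).equivMapOfInjective _ Fp.subtype_injective).toEquiv,
            R₀.card_eq_multiplicity, hFpcard, Nat.factorization_mul Nat.card_pos.ne' Nat.card_pos.ne']
          congr 1
          simp only [Finsupp.coe_add, Pi.add_apply]
          rw [Nat.factorization_eq_zero_of_not_dvd (n := Nat.card N) ?_, zero_add]
          intro h
          exact hq.one_lt.ne' (Nat.eq_one_of_dvd_coprimes hcop hqF h)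
        have hinj : ∀ x : S, π (x : G) = 1 → x = 1 := by
          intro x hx
          apply Subtype.ext
          rw [OneMemClass.coe_one, ← orderOf_eq_one_iff]
          have hxN : (x : G) ∈ N := (QuotientGroup.eq_one_iff _).1 hx
          have h1 : orderOf (x : G) ∣ Nat.card N := by
            rw [← Subgroup.orderOf_mk (ha := hxN)]
            exact orderOf_dvd_natCard _
          have h2 : orderOf (x : G) ∣ q ^ (Nat.card Fb).factorization q := by
            rw [← hScard, Subgroup.orderOf_coe]
            exact orderOf_dvd_natCard _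
          exact Nat.eq_one_of_dvd_coprimes
            ((hcop.coprime_dvd_left (Nat.ordProj_dvd _ q)).symm) h1 h2
        have : S.map π ≤ (Subgroup.centralizer (N : Set G)).map π ⊓ Fb := by
          refine le_inf (Subgroup.map_mono (hsuf q hq hqF R₀)) ?_
          rintro _ ⟨_, ⟨x, -, rfl⟩, rfl⟩
          exact x.2
        rw [← hScard]
        refine (Nat.card_congr ?_).dvd.trans (Subgroup.card_dvd_of_le this)
        exact (Equiv.ofBijective (fun x : S => (⟨π (x : G), x, x.2, rfl⟩ : S.map π))
          ⟨fun a b e => by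
            have e' : π (a : G) = π (b : G) := congrArg Subtype.val e
            have := hinj (a⁻¹ * b) (by simp [e'])
            exact inv_mul_eq_one.1 this,
           fun ⟨_, a, ha, rfl⟩ => ⟨⟨a, ha⟩, rfl⟩⟩)
      · rw [Nat.factorization_eq_zero_of_not_dvd hqF, pow_zero]
        exact one_dvd _
    rw [← this]
    exact inf_le_left
  intro q hq hqF R₀
  haveI := Fact.mk hq
  have hqN : ¬ q ∣ Nat.card N := fun h => hq.one_lt.ne' (Nat.eq_one_of_dvd_coprimes hcop hqF h)
  set S := (R₀ : Subgroup Fp).map Fp.subtype with hS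
  rw [Subgroup.le_centralizer_iff]
  have : N ⊓ Subgroup.centralizer (S : Set G) = N := by
    refine eq_of_card_dvd inf_le_left fun p hp => ?_
    by_cases hpN : p ∣ Nat.card N
    swap
    · rw [Nat.factorization_eq_zero_of_not_dvd hpN, pow_zero]
      exact one_dvd _
    haveI := Fact.mk hp
    let P₀ : Sylow p N := default
    set P := (P₀ : Subgroup N).map N.subtype with hP
    have hPp : IsPGroup p P := P₀.2.map _
    have hPcard : Nat.card P = p ^ (Nat.card N).factorization p := by
      rw [hP, ← Nat.card_congr ((P₀ : Subgroup N).equivMapOfInjective _ N.subtype_injective).toEquiv,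
        P₀.card_eq_multiplicity]
    set M := Subgroup.normalizer (P : Set G) with hM
    have hMN : M ⊔ N = ⊤ := Sylow.normalizer_sup_eq_top P₀
    set MF : Subgroup M := Fp.subgroupOf M with hMF
    haveI : Fp.Normal := Subgroup.Normal.comap inferInstance _
    let R₁ : Sylow q MF := default
    set R' : Subgroup M := (R₁ : Subgroup MF).map MF.subtype with hR'
    set R : Subgroup G := R'.map M.subtype with hR
    have hMR : Subgroup.normalizer (R' : Set M) ⊔ MF = ⊤ := Sylow.normalizer_sup_eq_top R₁
    have hRq : IsPGroup q R := (R₁.2.map _).map _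
    have hRFp : R ≤ Fp := by
      rintro _ ⟨_, ⟨y, -, rfl⟩, rfl⟩
      exact y.2
    have hRM : R ≤ M := Subgroup.map_subtype_le _
    -- an element over `g₀` normalising `P` and `R`
    obtain ⟨m, hm⟩ := QuotientGroup.mk'_surjective N (g₀ : G ⧸ N)
    have hm' : m ∈ M ⊔ N := hMN ▸ Subgroup.mem_top m
    obtain ⟨m₁, hm₁, c, hc, rfl⟩ := Subgroup.mem_sup_of_normal_right.1 hm'
    have hm₁π : π m₁ = (g₀ : G ⧸ N) := by
      rw [← hm, map_mul, show QuotientGroup.mk' N c = 1 from (QuotientGroup.eq_one_iff c).2 hc, mul_one]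
    have hm₁' : (⟨m₁, hm₁⟩ : M) ∈ Subgroup.normalizer (R' : Set M) ⊔ MF := hMR ▸ Subgroup.mem_top _
    obtain ⟨h, hh, a, ha, hha⟩ := Subgroup.mem_sup_of_normal_right.1 hm₁'
    set f := π (a : G) with hf
    have hfF : f ∈ Fb := ha
    have hhπ : π (h : G) = (g₀ : G ⧸ N) * f⁻¹ := by
      rw [← hm₁π, show m₁ = (h : G) * (a : G) from (congrArg Subtype.val hha).symm, map_mul, mul_inv_cancel_right]
    have hg₀1 : (g₀ : G ⧸ N) ≠ 1 := fun e => hn1 (by rw [← hgn, e, orderOf_one])
    obtain ⟨x, hxF, hx⟩ : ∃ x ∈ Fb, π (h : G) = x * (g₀ : G ⧸ N) * x⁻¹ := by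
      let c : Fb → Fb := fun x => ⟨(g₀ : G ⧸ N)⁻¹ * x * g₀ * (x : G ⧸ N)⁻¹, Fb.mul_mem (by
        have := Subgroup.Normal.conj_mem ‹Fb.Normal› x x.2 (g₀ : G ⧸ N)⁻¹
        rwa [inv_inv] at this) (Fb.inv_mem x.2)⟩
      have hc : Function.Bijective c := by
        refine Finite.injective_iff_bijective.1 fun u v huv => ?_
        have h1 : (g₀ : G ⧸ N)⁻¹ * u * g₀ * (u : G ⧸ N)⁻¹ = (g₀ : G ⧸ N)⁻¹ * v * g₀ * (v : G ⧸ N)⁻¹ :=
          congrArg Subtype.val huv
        have e : (u : G ⧸ N) * g₀ * (u : G ⧸ N)⁻¹ = v * g₀ * (v : G ⧸ N)⁻¹ := by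
          have := congrArg ((g₀ : G ⧸ N) * ·) h1
          simpa only [mul_assoc, mul_inv_cancel_left] using this
        have h2 : (v : G ⧸ N)⁻¹ * u = 1 := by
          refine hfp _ (Fb.mul_mem (Fb.inv_mem v.2) u.2) g₀ g₀.2 hg₀1 ?_
          calc (g₀ : G ⧸ N) * ((v : G ⧸ N)⁻¹ * u)
              = (v : G ⧸ N)⁻¹ * ((v : G ⧸ N) * g₀ * (v : G ⧸ N)⁻¹) * u := by group
            _ = (v : G ⧸ N)⁻¹ * ((u : G ⧸ N) * g₀ * (u : G ⧸ N)⁻¹) * u := by rw [e]
            _ = (v : G ⧸ N)⁻¹ * u * g₀ := by group
        exact Subtype.ext (inv_mul_eq_one.1 h2).symm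
      obtain ⟨x, hx⟩ := hc.2 ⟨f⁻¹, Fb.inv_mem hfF⟩
      refine ⟨x, x.2, ?_⟩
      rw [hhπ, ← show (g₀ : G ⧸ N)⁻¹ * x * g₀ * (x : G ⧸ N)⁻¹ = f⁻¹ from congrArg Subtype.val hx]
      group
    have hx' : π (h : G) = MulAut.conj x (g₀ : G ⧸ N) := by rw [hx]; rfl
    have hhn : orderOf (π (h : G)) = n := by rw [hx', MulEquiv.orderOf_eq, hgn]
    have hordh : orderOf (h : G) = n :=
      Nat.dvd_antisymm (orderOf_dvd_of_pow_eq_one (hdone _ hhn)) (hhn ▸ orderOf_map_dvd π (h : G))
    have hcentr : ∀ r ∈ R, ∀ y ∈ P, r * y = y * r := by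
      by_contra hne
      push Not at hne
      have hqp : q ≠ p := fun e => hqN (e ▸ hpN)
      refine (exists_norm_section hqp R hRq (h : G) ?_ ?_ _ P rfl hPp h.2 hRM hne).elim fun y hyy => ?_
      · rintro _ ⟨r, hr, rfl⟩
        exact ⟨h * r * h⁻¹, (Subgroup.mem_normalizer_iff.1 hh r).1 hr, by simp⟩
      · intro r hr k hk hk1 e
        have hrN : r ∈ N → r = 1 := by
          intro hrN
          rw [← orderOf_eq_one_iff]
          obtain ⟨j, hj⟩ := hRq ⟨r, hr⟩
          have hj' : r ^ q ^ j = 1 := congrArg Subtype.val hj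
          exact Nat.eq_one_of_dvd_coprimes ((Nat.Prime.coprime_iff_not_dvd hq).2 hqN |>.pow_left j)
            (orderOf_dvd_of_pow_eq_one hj') (by rw [← Subgroup.orderOf_mk (ha := hrN)]; exact orderOf_dvd_natCard _)
        apply hrN
        rw [← QuotientGroup.eq_one_iff]
        show π r = 1
        have e1 : π k * π r = π r * π k := by rw [← map_mul, e, map_mul]
        obtain ⟨i, hi⟩ := Subgroup.mem_zpowers_iff.1 hk
        have hk2 : π k = MulAut.conj x ((g₀ : G ⧸ N) ^ i) := by rw [← hi, map_zpow, hx', map_zpow]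
        have h3 : (MulAut.conj x).symm (π r) = 1 := by
          refine hfp _ ?_ ((g₀ : G ⧸ N) ^ i) (Hb.zpow_mem g₀.2 i) ?_ ?_
          · rw [MulAut.conj_symm_apply]
            exact Fb.mul_mem (Fb.mul_mem (Fb.inv_mem hxF) (hRFp hr)) hxF
          · intro e0
            apply hk1
            rw [← hi]
            rw [← orderOf_dvd_iff_zpow_eq_one] at e0 ⊢
            rwa [hordh, ← hgn]
          · apply (MulAut.conj x).injective
            rw [map_mul, map_mul, MulEquiv.apply_symm_apply, ← hk2, e1]
        exact (MulAut.conj x).symm.injective (by rw [h3, map_one])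
      · obtain ⟨hy, hy1⟩ := hyy
        refine hy1 (hordh.symm ▸ hdone _ ?_)
        have : π y = 1 := by
          obtain ⟨y', -, rfl⟩ := hy
          exact (QuotientGroup.eq_one_iff _).2 y'.2
        simp only [map_mul, this, one_mul, hhn]
    -- `R` is a Sylow subgroup of `Fp`
    have hRcard : Nat.card R₀ ≤ Nat.card R := by
      refine Nat.le_of_dvd Nat.card_pos ?_
      rw [hR, ← Nat.card_congr (R'.equivMapOfInjective _ M.subtype_injective).toEquiv, hR',
        ← Nat.card_congr ((R₁ : Subgroup MF).equivMapOfInjective _ MF.subtype_injective).toEquiv,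
        R₁.card_eq_multiplicity, R₀.card_eq_multiplicity]
      refine pow_dvd_pow q ?_
      have hsub : (M ⊓ Fp) ⊔ N = Fp := by
        refine le_antisymm (sup_le inf_le_right hFpN) fun y hy => ?_
        have hy' : y ∈ M ⊔ N := hMN ▸ Subgroup.mem_top y
        obtain ⟨u, hu, v, hv, rfl⟩ := Subgroup.mem_sup_of_normal_right.1 hy'
        exact Subgroup.mul_mem_sup ⟨hu, (Fp.mul_mem_cancel_right (hFpN hv)).1 hy⟩ hv
      have h1 : N.relIndex Fp = N.relIndex (M ⊓ Fp) := by
        conv_lhs => rw [← hsub]
        exact Subgroup.relIndex_sup_right (H := M ⊓ Fp) (K := N)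
      have h2 : Nat.card N * N.relIndex Fp = Nat.card Fp := by
        have := Subgroup.card_mul_index (N.subgroupOf Fp)
        rwa [Nat.card_congr (Subgroup.subgroupOfEquivOfLe hFpN).toEquiv] at this
      have h3 : Nat.card MF = Nat.card (M ⊓ Fp : Subgroup G) := by
        rw [hMF, ← Subgroup.inf_subgroupOf_left, Nat.card_congr (Subgroup.subgroupOfEquivOfLe inf_le_left).toEquiv]
      have h4 : N.relIndex Fp ∣ Nat.card MF := by
        rw [h1, h3]
        exact Subgroup.relIndex_dvd_card _ _
      have h5 : N.relIndex Fp ≠ 0 := fun e => by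
        rw [e, Nat.mul_zero] at h2
        exact Nat.card_pos.ne' h2.symm
      have h6 := Nat.factorization_mul (a := Nat.card N) Nat.card_pos.ne' h5
      rw [h2] at h6
      rw [h6, Finsupp.coe_add, Pi.add_apply, Nat.factorization_eq_zero_of_not_dvd hqN, zero_add]
      exact (Nat.factorization_le_iff_dvd h5 Nat.card_pos.ne').2 h4 q
    let RF : Subgroup Fp := R.subgroupOf Fp
    have hRF : IsPGroup q RF := hRq.of_equiv (Subgroup.subgroupOfEquivOfLe hRFp).symm
    obtain ⟨R₂, hR₂⟩ := hRF.exists_le_sylow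
    have hR₂e : RF = R₂ := by
      refine Subgroup.eq_of_le_of_card_ge hR₂ ?_
      rw [Nat.card_congr (Subgroup.subgroupOfEquivOfLe hRFp).toEquiv, R₂.card_eq_multiplicity,
        ← R₀.card_eq_multiplicity]
      exact hRcard
    obtain ⟨y, hy⟩ := MulAction.exists_smul_eq Fp R₂ R₀
    -- a conjugate of `P` is centralised by `S`
    set P' := P.map (MulAut.conj (y : G)).toMonoidHom
    have hP'le : P' ≤ N ⊓ Subgroup.centralizer (S : Set G) := by
      rintro _ ⟨u, hu, rfl⟩
      refine ⟨?_, ?_⟩
      · obtain ⟨u', -, rfl⟩ := hu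
        exact Subgroup.Normal.conj_mem ‹N.Normal› _ u'.2 _
      · rintro _ ⟨s, hs, rfl⟩
        have hs2 : s ∈ ((y • R₂ : Sylow q Fp) : Subgroup Fp) := by rw [hy]; exact hs
        rw [Sylow.smul_def, Sylow.pointwise_smul_def] at hs2
        obtain ⟨r, hr, rfl⟩ := hs2
        rw [← hR₂e] at hr
        have he : Fp.subtype r * u = u * Fp.subtype r := hcentr _ hr u hu
        show (y : G) * (r : G) * (y : G)⁻¹ * ((y : G) * u * (y : G)⁻¹) =
          (y : G) * u * (y : G)⁻¹ * ((y : G) * (r : G) * (y : G)⁻¹)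
        calc (y : G) * (r : G) * (y : G)⁻¹ * ((y : G) * u * (y : G)⁻¹)
            = (y : G) * ((r : G) * u) * (y : G)⁻¹ := by group
          _ = (y : G) * (u * (r : G)) * (y : G)⁻¹ := by rw [show (r : G) * u = u * (r : G) from he]
          _ = _ := by group
    rw [← hPcard, Nat.card_congr (P.equivMapOfInjective (MulAut.conj (y : G)).toMonoidHom (MulAut.conj (y : G)).injective).toEquiv]
    exact Subgroup.card_dvd_of_le hP'le
  rw [← this]
  exact inf_le_right

end Cfsg.Agent.S3703
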