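import Cfsg.Statements.S3704
-- import your own Cfsg.Agent.* helpers here

set_option autoImplicit false
open Cfsg

namespace Cfsg.Agent.S3704

/-- Let G be a finite group acting faithfully and 2-transitively on a finite set Ω of size n, and let H be a subgroup of index n in G which is not transitive on Ω and fixes no point of Ω. Then H has exactly two orbits on Ω. -/
theorem result {G Ω : Type*} [Group G] [Finite G] [MulAction G Ω] [FaithfulSMul G Ω] [Finite Ω] (h2 : MulAction.IsMultiplyPretransitive G Ω 2) (H : Subgroup G) (hidx : H.index = Nat.card Ω) (hnt : ¬ MulAction.IsPretransitive H Ω) (hfix : ∀ a : Ω, ∃ h : H, h • a ≠ a) : Nat.card (MulAction.orbitRel.Quotient H Ω) = 2 := by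
  classical
  haveI : Fintype Ω := Fintype.ofFinite Ω
  haveI : Fintype (G ⧸ H) := Fintype.ofFinite _
  set Q := MulAction.orbitRel.Quotient H Ω
  -- `cnt s c x` : membership of `x` in the translate by `c` of the orbit `s`
  let mem : Q → G ⧸ H → Ω → Prop := fun s c x =>
    (Quotient.mk'' (c.out⁻¹ • x) : Q) = s
  have memmk : ∀ (s : Q) (g : G) (x : Ω), mem s (g : G ⧸ H) x ↔ (Quotient.mk'' (g⁻¹ • x) : Q) = s := by
    intro s g x
    obtain ⟨h, hh⟩ := QuotientGroup.mk_out_eq_mul H g
    have : (Quotient.mk'' (((g : G ⧸ H).out)⁻¹ • x) : Q) = Quotient.mk'' (g⁻¹ • x) := by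
      apply Quotient.sound'
      rw [MulAction.orbitRel_apply, MulAction.mem_orbit_iff]
      refine ⟨h⁻¹, ?_⟩
      rw [hh, mul_inv_rev, mul_smul]
      rfl
    simp only [mem, this]
  have htr : ∀ (s : Q) (g : G) (c : G ⧸ H) (x : Ω), mem s (g • c) (g • x) ↔ mem s c x := by
    intro s g c x
    induction c using QuotientGroup.induction_on with
    | H k =>
      rw [MulAction.Quotient.smul_coe, memmk, memmk, smul_eq_mul, mul_inv_rev, mul_smul, inv_smul_smul]
  let M : Q → Matrix Ω (G ⧸ H) ℚ := fun s => Matrix.of fun x c => if mem s c x then 1 else 0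
  let P : Matrix Ω Ω ℚ := Matrix.of fun x y => if x = y then 0 else 1
  have h2' : ∀ {a b c d : Ω}, a ≠ b → c ≠ d → ∃ g : G, g • a = c ∧ g • b = d :=
    MulAction.is_two_pretransitive_iff.1 h2
  have hprod : ∀ s t : Q, s ≠ t → ∃ b : ℚ, b ≠ 0 ∧ M s * (M t).transpose = b • P := by
    intro s t hst
    obtain ⟨x, rfl⟩ := Quotient.exists_rep s
    obtain ⟨y, rfl⟩ := Quotient.exists_rep t
    have hxy : x ≠ y := fun e => hst (by rw [e])
    refine ⟨(M (Quotient.mk _ x) * (M (Quotient.mk _ y)).transpose) x y, ?_, ?_⟩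
    · rw [Matrix.mul_apply]
      apply ne_of_gt
      refine Finset.sum_pos' (fun c _ => ?_) ⟨((1 : G) : G ⧸ H), Finset.mem_univ _, ?_⟩
      · simp only [M, Matrix.transpose_apply, Matrix.of_apply]
        split_ifs <;> norm_num
      · simp [M, memmk]
    · ext u v
      rw [Matrix.smul_apply, Matrix.mul_apply, Matrix.mul_apply]
      by_cases huv : u = v
      · subst huv
        simp only [P, if_true, smul_eq_mul, mul_zero, M, Matrix.transpose_apply, Matrix.of_apply]
        refine Finset.sum_eq_zero fun c _ => ?_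
        split_ifs with ha hb <;> norm_num
        exact absurd (ha.symm.trans hb) hst
      · obtain ⟨g, hgu, hgv⟩ := h2' hxy huv
        simp only [P, if_neg huv, smul_eq_mul, mul_one, M, Matrix.transpose_apply, Matrix.of_apply]
        symm
        refine Fintype.sum_equiv (MulAction.toPerm g) _ _ fun c => ?_
        simp only [MulAction.toPerm_apply, ← hgu, ← hgv, htr]
  by_contra hne
  have hQ : 2 < Nat.card Q := by
    rcases Nat.lt_or_gt_of_ne hne with hlt | hgt
    · exfalso
      refine hnt ⟨fun x y => ?_⟩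
      have : Subsingleton Q := Finite.card_le_one_iff_subsingleton.1 (by omega)
      have he : (Quotient.mk'' y : Q) = Quotient.mk'' x := Subsingleton.elim _ _
      exact MulAction.mem_orbit_iff.1 (MulAction.orbitRel_apply.1 (Quotient.exact' he))
    · exact hgt
  haveI : Fintype Q := Fintype.ofFinite Q
  rw [Nat.card_eq_fintype_card, Fintype.two_lt_card_iff] at hQ
  obtain ⟨s, t, u, hst, hsu, htu⟩ := hQ
  obtain ⟨x₀, hx₀⟩ := Quotient.exists_rep s
  obtain ⟨y₀, hy₀⟩ := Quotient.exists_rep t
  have hxy₀ : x₀ ≠ y₀ := fun e => hst (by rw [← hx₀, ← hy₀, e])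
  -- `P` is invertible
  set n : ℚ := (Fintype.card Ω : ℚ)
  have hn1 : n ≠ 1 := by
    have : 1 < Fintype.card Ω := Fintype.one_lt_card_iff.2 ⟨x₀, y₀, hxy₀⟩
    intro e
    have : Fintype.card Ω = 1 := Nat.cast_injective (R := ℚ) (e.trans Nat.cast_one.symm)
    omega
  have hn1' : n - 1 ≠ 0 := sub_ne_zero.2 hn1
  let P' : Matrix Ω Ω ℚ := Matrix.of fun x y => 1 / (n - 1) - if x = y then 1 else 0
  have hPP : P * P' = 1 := by
    ext a b
    rw [Matrix.mul_apply]
    have e1 : ∀ z, P a z * P' z b = 1 / (n - 1) - (if a = z then 1 / (n - 1) else 0) -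
        (if z = b then 1 else 0) + (if a = z then (if a = b then 1 else 0) else 0) := by
      intro z
      simp only [P, P', Matrix.of_apply]
      split_ifs <;> simp_all
    rw [Finset.sum_congr rfl fun z _ => e1 z]
    simp only [Finset.sum_add_distrib, Finset.sum_sub_distrib, Finset.sum_const, Finset.card_univ,
      Finset.sum_ite_eq, Finset.sum_ite_eq', Finset.mem_univ, if_true, nsmul_eq_mul, Matrix.one_apply]
    show n * (1 / (n - 1)) - 1 / (n - 1) - 1 + (if a = b then (1:ℚ) else 0) = _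
    rw [← sub_one_mul, mul_one_div_cancel hn1']
    ring
  obtain ⟨b₁, hb₁, e₁⟩ := hprod t s hst.symm
  obtain ⟨b₂, hb₂, e₂⟩ := hprod u s hsu.symm
  have hcardeq : Fintype.card Ω = Fintype.card (G ⧸ H) := by
    rw [← Nat.card_eq_fintype_card, ← Nat.card_eq_fintype_card, ← hidx, Subgroup.index_eq_card]
  -- `(M s).transpose` has a right inverse
  have hinv : (b₁⁻¹ • (P' * M t)) * (M s).transpose = 1 := by
    rw [Matrix.smul_mul, Matrix.mul_assoc, e₁, Matrix.mul_smul, smul_smul, inv_mul_cancel₀ hb₁, one_smul,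
      mul_eq_one_comm.1 hPP]
  have hinv' : (M s).transpose * (b₁⁻¹ • (P' * M t)) = 1 :=
    (Matrix.mul_eq_one_comm_of_equiv (Fintype.equivOfCardEq hcardeq)).1 hinv
  have hrel : M u = (b₂ * b₁⁻¹) • M t := by
    calc M u = M u * ((M s).transpose * (b₁⁻¹ • (P' * M t))) := by rw [hinv', Matrix.mul_one]
      _ = (b₂ • P) * (b₁⁻¹ • (P' * M t)) := by rw [← Matrix.mul_assoc, e₂]
      _ = (b₂ * b₁⁻¹) • M t := by
          rw [Matrix.smul_mul, Matrix.mul_smul, smul_smul, ← Matrix.mul_assoc, hPP, Matrix.one_mul]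
  have := congrFun (congrFun hrel y₀) ((1 : G) : G ⧸ H)
  simp only [M, Matrix.smul_apply, Matrix.of_apply, memmk, inv_one, one_smul] at this
  have hy₀' : (Quotient.mk'' y₀ : Q) = t := hy₀
  rw [hy₀', if_neg htu, if_pos rfl] at this
  simp [hb₁, hb₂] at this

end Cfsg.Agent.S3704
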