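import Cfsg.Statements.S3713
import Cfsg.Agent.Lib.SympAmalgam.Main

set_option autoImplicit false
open Cfsg

namespace Cfsg.Agent.S3713

/-- A presentation of the symplectic group as the universal completion of an amalgam of small subgroups. Let F be a field with more than two elements, n ≥ 2, and Sp the group of 2n × 2n matrices over F preserving the standard alternating form, acting on column vectors; write e_k, f_k for the standard basis vectors of the two halves (a hyperbolic basis). For each k let S_k be the subgroup of Sp fixing e_l and f_l for all l ≠ k (a copy of SL(2, F) on the plane of e_k, f_k), and for each i with i + 1 < n let M_i be the subgroup fixing every e_l and fixing f_l for all l other than i, i+1 (an abelian group isomorphic to the additive group of F³). Then Sp is the universal completion of the amalgam formed by the S_k, the M_i and the subgroups generated by two of them: for every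 group H and homomorphisms σ_k : S_k → H, μ_i : M_i → H such that for each pair of these subgroups some homomorphism on the subgroup they generate restricts to the given ones, there is exactly one homomorphism Sp → H restricting to every σ_k and μ_i. -/
theorem result
    (F : Type*) [Field F] (hF : ∃ a : F, a ≠ 0 ∧ a ≠ 1) (n : ℕ) (hn : 2 ≤ n)
    (S M : Fin n → Subgroup ↥(Matrix.symplecticGroup (Fin n) F))
    (hS : ∀ j : Fin n, S j = Subgroup.closure {A : ↥(Matrix.symplecticGroup (Fin n) F) | ∀ k : Fin n, k ≠ j →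
      ((A : ↥(Matrix.symplecticGroup (Fin n) F)) : Matrix (Fin n ⊕ Fin n) (Fin n ⊕ Fin n) F).mulVec (Pi.single (Sum.inl k) (1 : F)) = (Pi.single (Sum.inl k) (1 : F)) ∧ ((A : ↥(Matrix.symplecticGroup (Fin n) F)) : Matrix (Fin n ⊕ Fin n) (Fin n ⊕ Fin n) F).mulVec (Pi.single (Sum.inr k) (1 : F)) = (Pi.single (Sum.inr k) (1 : F))})
    (hM : ∀ i : Fin n, (i : ℕ) + 1 < n → M i = Subgroup.closure {A : ↥(Matrix.symplecticGroup (Fin n) F) |
      (∀ k : Fin n, ((A : ↥(Matrix.symplecticGroup (Fin n) F)) : Matrix (Fin n ⊕ Fin n) (Fin n ⊕ Fin n) F).mulVec (Pi.single (Sum.inl k) (1 : F)) = (Pi.single (Sum.inl k) (1 : F))) ∧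
        ∀ k : Fin n, (k : ℕ) ≠ i → (k : ℕ) ≠ (i : ℕ) + 1 → ((A : ↥(Matrix.symplecticGroup (Fin n) F)) : Matrix (Fin n ⊕ Fin n) (Fin n ⊕ Fin n) F).mulVec (Pi.single (Sum.inr k) (1 : F)) = (Pi.single (Sum.inr k) (1 : F))})
    {H : Type*} [Group H] (σ : ∀ j : Fin n, ↥(S j) →* H) (μ : ∀ i : Fin n, ↥(M i) →* H)
    (hSS : ∀ j l : Fin n, j ≠ l → ∃ Ψ : ↥(S j ⊔ S l) →* H,
      (∀ (g : ↥(Matrix.symplecticGroup (Fin n) F)) (hg : g ∈ S j), Ψ ⟨g, Subgroup.mem_sup_left hg⟩ = σ j ⟨g, hg⟩) ∧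
        (∀ (g : ↥(Matrix.symplecticGroup (Fin n) F)) (hg : g ∈ S l), Ψ ⟨g, Subgroup.mem_sup_right hg⟩ = σ l ⟨g, hg⟩))
    (hMM : ∀ i i' : Fin n, i ≠ i' → (i : ℕ) + 1 < n → (i' : ℕ) + 1 < n → ∃ Ψ : ↥(M i ⊔ M i') →* H,
      (∀ (g : ↥(Matrix.symplecticGroup (Fin n) F)) (hg : g ∈ M i), Ψ ⟨g, Subgroup.mem_sup_left hg⟩ = μ i ⟨g, hg⟩) ∧
        (∀ (g : ↥(Matrix.symplecticGroup (Fin n) F)) (hg : g ∈ M i'), Ψ ⟨g, Subgroup.mem_sup_right hg⟩ = μ i' ⟨g, hg⟩))
    (hMS : ∀ i j : Fin n, (i : ℕ) + 1 < n → ∃ Ψ : ↥(M i ⊔ S j) →* H,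
      (∀ (g : ↥(Matrix.symplecticGroup (Fin n) F)) (hg : g ∈ M i), Ψ ⟨g, Subgroup.mem_sup_left hg⟩ = μ i ⟨g, hg⟩) ∧
        (∀ (g : ↥(Matrix.symplecticGroup (Fin n) F)) (hg : g ∈ S j), Ψ ⟨g, Subgroup.mem_sup_right hg⟩ = σ j ⟨g, hg⟩)) :
    ∃! Φ : ↥(Matrix.symplecticGroup (Fin n) F) →* H,
      (∀ (j : Fin n) (g : ↥(Matrix.symplecticGroup (Fin n) F)) (hg : g ∈ S j), Φ g = σ j ⟨g, hg⟩) ∧
        (∀ (i : Fin n), (i : ℕ) + 1 < n → ∀ (g : ↥(Matrix.symplecticGroup (Fin n) F)) (hg : g ∈ M i), Φ g = μ i ⟨g, hg⟩) := by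
  have eS : ∀ j, S j = CfsgLib.SympAmalgam.Sset F j := fun j => by
    rw [hS j, ← Subgroup.closure_eq (CfsgLib.SympAmalgam.Sset F j)]
    refine congrArg Subgroup.closure (Set.ext fun A => ?_)
    exact CfsgLib.SympAmalgam.mem_Sset.symm
  have eM : ∀ i : Fin n, (i : ℕ) + 1 < n → M i = CfsgLib.SympAmalgam.Mset F i := fun i hi => by
    rw [hM i hi, ← Subgroup.closure_eq (CfsgLib.SympAmalgam.Mset F i)]
    refine congrArg Subgroup.closure (Set.ext fun A => ?_)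
    exact CfsgLib.SympAmalgam.mem_Mset.symm
  let f : ∀ a : CfsgLib.SympAmalgam.Idx n, ↥(CfsgLib.SympAmalgam.fam F a) →* H := fun a =>
    match a with
    | .inl j => (σ j).comp (Subgroup.inclusion (eS j).ge)
    | .inr i => (μ i.1).comp (Subgroup.inclusion (eM i.1 i.2).ge)
  have coh : ∀ a b : CfsgLib.SympAmalgam.Idx n,
      ∃ Φ : ↥(CfsgLib.SympAmalgam.fam F a ⊔ CfsgLib.SympAmalgam.fam F b) →* H,
        (∀ g (hg : g ∈ CfsgLib.SympAmalgam.fam F a), Φ ⟨g, Subgroup.mem_sup_left hg⟩ = f a ⟨g, hg⟩) ∧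
          (∀ g (hg : g ∈ CfsgLib.SympAmalgam.fam F b), Φ ⟨g, Subgroup.mem_sup_right hg⟩ = f b ⟨g, hg⟩) := by
    intro a b
    by_cases hab : a = b
    · subst hab
      exact ⟨(f a).comp (Subgroup.inclusion (sup_le le_rfl le_rfl)), fun _ _ => rfl, fun _ _ => rfl⟩
    rcases a with j | ⟨i, hi⟩ <;> rcases b with l | ⟨i', hi'⟩
    · obtain ⟨Ψ, h1, h2⟩ := hSS j l (fun e => hab (by rw [e]))
      exact ⟨Ψ.comp (Subgroup.inclusion (sup_le_sup (eS j).ge (eS l).ge)),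
        fun g hg => h1 g ((eS j).ge hg), fun g hg => h2 g ((eS l).ge hg)⟩
    · obtain ⟨Ψ, h1, h2⟩ := hMS i' j hi'
      exact ⟨Ψ.comp (Subgroup.inclusion (sup_le (le_sup_of_le_right (eS j).ge)
          (le_sup_of_le_left (eM i' hi').ge))),
        fun g hg => h2 g ((eS j).ge hg), fun g hg => h1 g ((eM i' hi').ge hg)⟩
    · obtain ⟨Ψ, h1, h2⟩ := hMS i l hi
      exact ⟨Ψ.comp (Subgroup.inclusion (sup_le_sup (eM i hi).ge (eS l).ge)),
        fun g hg => h1 g ((eM i hi).ge hg), fun g hg => h2 g ((eS l).ge hg)⟩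
    · obtain ⟨Ψ, h1, h2⟩ := hMM i i' (fun e => hab (congrArg Sum.inr (Subtype.ext e))) hi hi'
      exact ⟨Ψ.comp (Subgroup.inclusion (sup_le_sup (eM i hi).ge (eM i' hi').ge)),
        fun g hg => h1 g ((eM i hi).ge hg), fun g hg => h2 g ((eM i' hi').ge hg)⟩
  obtain ⟨Φ, hΦ, huniq⟩ := CfsgLib.SympAmalgam.Coh.existsUnique (C := ⟨f, coh⟩) hF
  refine ⟨Φ, ⟨fun j g hg => hΦ (.inl j) g ((eS j).le hg),
    fun i hi g hg => hΦ (.inr ⟨i, hi⟩) g ((eM i hi).le hg)⟩, fun Ψ hΨ => huniq Ψ ?_⟩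
  rintro (j | ⟨i, hi⟩) g hg
  · exact hΨ.1 j g ((eS j).ge hg)
  · exact hΨ.2 i hi g ((eM i hi).ge hg)

end Cfsg.Agent.S3713
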