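import Cfsg.Statements.S3733
import Cfsg.Agent.Lib.Recog.Action

set_option autoImplicit false
open Cfsg

namespace Cfsg.Agent.S3733

/-- Let A and V be subgroups of a finite group with V abelian and nontrivial and A normalizing V. Suppose a nonempty finite family of proper subgroups of A partitions A: every non-identity element of A lies in exactly one member. If the number of members minus one is coprime to the order of V, then some member B of the family has a non-identity fixed point on V, that is V ∩ C(B) ≠ 1. -/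
theorem result {G : Type*} [Group G] [Finite G] (A V : Subgroup G) (hVab : IsMulCommutative V) (hV : V ≠ ⊥) (hAV : A ≤ Subgroup.normalizer (V : Set G)) (𝒜 : Finset (Subgroup G)) (hne : 𝒜.Nonempty) (hprop : ∀ B ∈ 𝒜, B < A) (hpart : ∀ a ∈ A, a ≠ 1 → ∃! B, B ∈ 𝒜 ∧ a ∈ B) (hk : (𝒜.card - 1).Coprime (Nat.card V)) : ∃ B ∈ 𝒜, V ⊓ Subgroup.centralizer (B : Set G) ≠ ⊥ := by
  classical
  haveI : Fintype A := Fintype.ofFinite _
  letI : CommGroup V := { (inferInstance : Group V) with mul_comm := fun a b => hVab.is_comm.comm a b }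
  haveI : Nontrivial V := (Subgroup.nontrivial_iff_ne_bot V).2 hV
  let φ : A →* MulAut V := V.normalizerMonoidHom.comp (Subgroup.inclusion hAV)
  have hinj : Set.InjOn (fun B : Subgroup G => B.subgroupOf A) ↑𝒜 := by
    intro B hB C hC h
    have := congrArg (Subgroup.map A.subtype) h
    simp only [Subgroup.subgroupOf_map_subtype] at this
    rwa [inf_eq_left.2 (hprop B hB).le, inf_eq_left.2 (hprop C hC).le] at this
  set 𝒜' := 𝒜.image (fun B : Subgroup G => B.subgroupOf A) with h𝒜'
  have hcard : 𝒜'.card = 𝒜.card := Finset.card_image_of_injOn hinj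
  have hpart' : ∀ a : A, a ≠ 1 → ∃! B, B ∈ 𝒜' ∧ a ∈ B := by
    intro a ha
    obtain ⟨B, ⟨hB, haB⟩, hu⟩ := hpart a a.2 (fun e => ha (Subtype.ext e))
    refine ⟨B.subgroupOf A, ⟨Finset.mem_image_of_mem _ hB, haB⟩, ?_⟩
    rintro C ⟨hC, haC⟩
    obtain ⟨D, hD, rfl⟩ := Finset.mem_image.1 hC
    rw [hu D ⟨hD, haC⟩]
  obtain ⟨B', hB', v, hv1, hv⟩ := CfsgLib.Recog.exists_fixed_of_partition φ 𝒜' (hne.image _) hpart'
    (by rw [hcard]; exact hk)
  obtain ⟨B, hB, rfl⟩ := Finset.mem_image.1 hB'
  refine ⟨B, hB, fun h => hv1 (Subtype.ext ?_)⟩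
  have hm : (v : G) ∈ V ⊓ Subgroup.centralizer (B : Set G) := by
    refine ⟨v.2, fun b hb => ?_⟩
    have := congrArg Subtype.val (hv ⟨b, (hprop B hB).le hb⟩ hb)
    replace this : b * (v : G) * b⁻¹ = (v : G) := this
    exact mul_inv_eq_iff_eq_mul.1 this
  rw [h] at hm
  exact hm

end Cfsg.Agent.S3733
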