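import Cfsg.Statements.S3734
import Cfsg.Agent.Lib.Solvable.CoprimeGeneration

set_option autoImplicit false
open Cfsg

namespace Cfsg.Agent.S3734

open scoped commutatorElement

/-- Let A and G be subgroups of a finite group with A abelian, A normalizing G and the orders of A and G coprime. Then G is generated by the fixed-point subgroups C_G(B) of those subgroups B of A for which A/B is cyclic (that is, A = ⟨B, a⟩ for some a), and [G, A] is generated by the commutator subgroups [C_G(B), A] over the same subgroups B. -/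
theorem result {X : Type*} [Group X] [Finite X] (A G : Subgroup X) (hAab : IsMulCommutative A) (hAG : A ≤ Subgroup.normalizer (G : Set X)) (hcop : (Nat.card A).Coprime (Nat.card G)) : (⨆ B ∈ {B : Subgroup X | B ≤ A ∧ ∃ a ∈ A, B ⊔ Subgroup.zpowers a = A}, G ⊓ Subgroup.centralizer (B : Set X)) = G ∧ (⨆ B ∈ {B : Subgroup X | B ≤ A ∧ ∃ a ∈ A, B ⊔ Subgroup.zpowers a = A}, ⁅G ⊓ Subgroup.centralizer (B : Set X), A⁆) = ⁅G, A⁆ := by
  classical
  haveI := hAab
  have hsolvA : Group.IsSolvable A ∨ Group.IsSolvable G := by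
    left
    letI : CommGroup A := { (inferInstance : Group A) with mul_comm := hAab.is_comm.comm }
    infer_instance
  have hsol : ∀ K : Subgroup X, Group.IsSolvable A ∨ Group.IsSolvable K := fun K => by
    left
    letI : CommGroup A := { (inferInstance : Group A) with mul_comm := hAab.is_comm.comm }
    infer_instance
  have hnc : ∀ B : Subgroup X, B ≤ A → ∀ K : Subgroup X, A ≤ Subgroup.normalizer (K : Set X) →
      A ≤ Subgroup.normalizer ((K ⊓ Subgroup.centralizer (B : Set X) : Subgroup X) : Set X) := by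
    intro B hB K hK a ha
    refine Subgroup.mem_normalizer_fintype fun k hk => ⟨(Subgroup.mem_normalizer_iff.1 (hK ha) k).1 hk.1, ?_⟩
    intro b hb
    have hab : a * b = b * a := congrArg Subtype.val (hAab.is_comm.comm ⟨a, ha⟩ ⟨b, hB hb⟩)
    have hab' : Commute b a⁻¹ := (show Commute b a from hab.symm).inv_right
    exact (((show Commute b a from hab.symm).mul_right (hk.2 b hb)).mul_right hab').eq
  set S := {B : Subgroup X | B ≤ A ∧ ∃ a ∈ A, B ⊔ Subgroup.zpowers a = A}
  have hS : ∀ B ≤ A, (∃ a ∈ A, A ≤ B ⊔ Subgroup.zpowers a) → B ∈ S := fun B hB ⟨a, ha, h⟩ =>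
    ⟨hB, a, ha, le_antisymm (sup_le hB (Subgroup.zpowers_le.2 ha)) h⟩
  constructor
  · refine le_antisymm (iSup₂_le fun B _ => inf_le_left) ?_
    exact CfsgLib.Solvable.le_of_cyclic_quotient_centralizer_le hAG hcop fun B hB h =>
      le_iSup₂ (f := fun B (_ : B ∈ S) => G ⊓ Subgroup.centralizer (B : Set X)) B (hS B hB h)
  · set L := ⨆ B ∈ S, ⁅G ⊓ Subgroup.centralizer (B : Set X), A⁆
    refine le_antisymm (iSup₂_le fun B _ => Subgroup.commutator_mono inf_le_left le_rfl) ?_
    set K := ⁅G, A⁆
    have hKG : K ≤ G := CfsgLib.Solvable.commutator_le_of_normalizes hAG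
    have hAK : A ≤ Subgroup.normalizer (K : Set X) := CfsgLib.Solvable.le_normalizer_commutator_right G A
    have hcopK : (Nat.card A).Coprime (Nat.card K) := hcop.coprime_dvd_right (Subgroup.card_dvd_of_le hKG)
    set C₀ := K ⊓ Subgroup.centralizer (A : Set X)
    have hK : K ≤ L ⊔ C₀ := by
      refine CfsgLib.Solvable.le_of_cyclic_quotient_centralizer_le hAK hcopK fun B hB h => ?_
      conv_lhs => rw [← CfsgLib.Solvable.commutator_sup_centralizer (hnc B hB K hAK)
        (hcop.coprime_dvd_right (Subgroup.card_dvd_of_le (inf_le_left.trans hKG))) (hsol _)]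
      refine sup_le ?_ ((inf_le_inf_right _ inf_le_left).trans le_sup_right)
      exact ((Subgroup.commutator_mono (inf_le_inf_right _ hKG) le_rfl).trans
        (le_iSup₂ (f := fun B (_ : B ∈ S) => ⁅G ⊓ Subgroup.centralizer (B : Set X), A⁆) B (hS B hB h))).trans le_sup_left
    have hnormL : ∀ x : X, (∀ B ∈ S, x ∈ Subgroup.normalizer ((⁅G ⊓ Subgroup.centralizer (B : Set X), A⁆ : Subgroup X) : Set X)) →
        x ∈ Subgroup.normalizer (L : Set X) := by
      intro x hx
      refine Subgroup.mem_normalizer_fintype fun l hl => ?_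
      have : L ≤ L.comap (MulAut.conj x).toMonoidHom := iSup₂_le fun B hB y hy =>
        le_iSup₂ (f := fun B (_ : B ∈ S) => ⁅G ⊓ Subgroup.centralizer (B : Set X), A⁆) B hB
          ((Subgroup.mem_normalizer_iff.1 (hx B hB) y).1 hy)
      exact this hl
    have hCL : C₀ ≤ Subgroup.normalizer (L : Set X) := fun c hc => hnormL c fun B hB =>
      CfsgLib.Solvable.le_normalizer_commutator_left _ A ⟨hKG hc.1, fun b hb => hc.2 b (hB.1 hb)⟩
    have hAL : A ≤ Subgroup.normalizer (L : Set X) := fun a ha => hnormL a fun B _ =>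
      CfsgLib.Solvable.le_normalizer_commutator_right _ A ha
    rw [show K = ⁅K, A⁆ from (CfsgLib.Solvable.commutator_commutator_eq hAG hcop hsolvA).symm,
      Subgroup.commutator_le]
    intro k hk a ha
    obtain ⟨l, hl, c, hc, rfl⟩ : ∃ l ∈ L, ∃ c ∈ C₀, l * c = k := by
      have := hK hk
      rw [← SetLike.mem_coe, Subgroup.coe_mul_of_right_le_normalizer_left L C₀ hCL] at this
      exact Set.mem_mul.1 this
    have hca : c * a * c⁻¹ = a := mul_inv_eq_iff_eq_mul.2 (hc.2 a ha).symm
    have : ⁅l * c, a⁆ = l * (a * l⁻¹ * a⁻¹) := by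
      rw [commutatorElement_def]
      calc l * c * a * (l * c)⁻¹ * a⁻¹ = l * (c * a * c⁻¹) * l⁻¹ * a⁻¹ := by group
        _ = l * (a * l⁻¹ * a⁻¹) := by rw [hca]; group
    rw [this]
    exact L.mul_mem hl ((Subgroup.mem_normalizer_iff.1 (hAL ha) _).1 (L.inv_mem hl))

end Cfsg.Agent.S3734
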