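import Cfsg.Statements.S3735
import Mathlib

set_option autoImplicit false
open Cfsg

namespace Cfsg.Agent.S3735

/-- Subgroups normalising two subgroups normalise their join. -/
theorem le_normalizer_sup {G : Type*} [Group G] {A U W : Subgroup G}
    (hU : A ≤ Subgroup.normalizer (U : Set G)) (hW : A ≤ Subgroup.normalizer (W : Set G)) :
    A ≤ Subgroup.normalizer ((U ⊔ W : Subgroup G) : Set G) := fun a ha =>
  Subgroup.mem_normalizer_iff_map_conj_eq.2 (by
    have h1 := Subgroup.mem_normalizer_iff_map_conj_eq.1 (hU ha)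
    have h2 := Subgroup.mem_normalizer_iff_map_conj_eq.1 (hW ha)
    rw [Subgroup.map_sup]
    exact congrArg₂ (· ⊔ ·) h1 h2)


/-- Clifford's Theorem for actions on finite abelian groups, first part. Let H and V be subgroups of a finite group with V abelian and H normalizing V, and let A be a normal subgroup of H. If every H-invariant subgroup of V has an H-invariant complement in V, then every A-invariant subgroup of V has an A-invariant complement in V. -/
theorem result {G : Type*} [Group G] [Finite G] (H A V : Subgroup G) (hVab : IsMulCommutative V) (hHV : H ≤ Subgroup.normalizer (V : Set G)) (hAH : A ≤ H) (hAn : H ≤ Subgroup.normalizer (A : Set G)) (hss : ∀ U : Subgroup G, U ≤ V → H ≤ Subgroup.normalizer (U : Set G) → ∃ W : Subgroup G, W ≤ V ∧ H ≤ Subgroup.normalizer (W : Set G) ∧ U ⊓ W = ⊥ ∧ U ⊔ W = V) (U : Subgroup G) (hUV : U ≤ V) (hAU : A ≤ Subgroup.normalizer (U : Set G)) : ∃ W : Subgroup G, W ≤ V ∧ A ≤ Subgroup.normalizer (W : Set G) ∧ U ⊓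 W = ⊥ ∧ U ⊔ W = V := by
  classical
  have hcom : ∀ a ∈ V, ∀ b ∈ V, a * b = b * a := fun a ha b hb =>
    congrArg Subtype.val (hVab.1.comm ⟨a, ha⟩ ⟨b, hb⟩)
  let S : Set (Subgroup G) := {W | W ≤ V ∧ A ≤ Subgroup.normalizer (W : Set G) ∧ W ≠ ⊥ ∧
    ∀ W' : Subgroup G, W' ≤ W → A ≤ Subgroup.normalizer (W' : Set G) → W' ≠ ⊥ → W' = W}
  have hatom : ∀ W : Subgroup G, W ≤ V → A ≤ Subgroup.normalizer (W : Set G) → W ≠ ⊥ →
      ∃ T ∈ S, T ≤ W := by
    intro W hW hA hne
    obtain ⟨T, ⟨hT1, hT2, hT3⟩, hmin⟩ := Set.Finite.exists_minimal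
      (s := {T : Subgroup G | T ≤ W ∧ A ≤ Subgroup.normalizer (T : Set G) ∧ T ≠ ⊥})
      (Set.toFinite _) ⟨W, le_rfl, hA, hne⟩
    exact ⟨T, ⟨hT1.trans hW, hT2, hT3, fun W' h1 h2 h3 =>
      le_antisymm h1 (hmin ⟨h1.trans hT1, h2, h3⟩ h1)⟩, hT1⟩
  have hnorm_conj : ∀ (g : G), g ∈ H → ∀ W : Subgroup G, A ≤ Subgroup.normalizer (W : Set G) →
      A ≤ Subgroup.normalizer ((W.map (MulAut.conj g).toMonoidHom : Subgroup G) : Set G) := by
    intro g hg W hW a ha
    have h1 : g⁻¹ * a * g ∈ A := by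
      have := (Subgroup.mem_normalizer_iff.1 (hAn (inv_mem hg)) a).1 ha
      simpa using this
    have h2 := Subgroup.mem_normalizer_iff_map_conj_eq.1 (hW h1)
    refine Subgroup.mem_normalizer_iff_map_conj_eq.2 ?_
    have e : ((MulAut.conj a).toMonoidHom).comp (MulAut.conj g).toMonoidHom =
        ((MulAut.conj g).toMonoidHom).comp (MulAut.conj (g⁻¹ * a * g)).toMonoidHom := by
      ext x
      simp [mul_assoc]
    calc (W.map (MulAut.conj g).toMonoidHom).map (MulAut.conj a).toMonoidHom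
        = (W.map (MulAut.conj (g⁻¹ * a * g)).toMonoidHom).map (MulAut.conj g).toMonoidHom := by
          rw [Subgroup.map_map, e, ← Subgroup.map_map]
      _ = _ := by
          congr 1
  have hS : ∀ g ∈ H, ∀ T ∈ S, T.map (MulAut.conj g).toMonoidHom ∈ S := by
    intro g hg T hT
    have hback : ∀ W : Subgroup G, (W.map (MulAut.conj g⁻¹).toMonoidHom).map (MulAut.conj g).toMonoidHom = W := by
      intro W
      rw [Subgroup.map_map]
      convert W.map_id using 2
      ext x
      simp [mul_assoc]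
    refine ⟨?_, hnorm_conj g hg T hT.2.1, ?_, fun W h1 h2 h3 => ?_⟩
    · rintro _ ⟨x, hx, rfl⟩
      exact (Subgroup.mem_normalizer_iff.1 (hHV hg) x).1 (hT.1 hx)
    · exact fun h => hT.2.2.1 ((Subgroup.map_eq_bot_iff_of_injective _ (MulAut.conj g).injective).1 h)
    · have := hT.2.2.2 (W.map (MulAut.conj g⁻¹).toMonoidHom) ?_ (hnorm_conj _ (inv_mem hg) W h2) ?_
      · rw [← this, hback]
      · rintro _ ⟨x, hx, rfl⟩
        obtain ⟨t, ht, rfl⟩ := h1 hx
        simpa [mul_assoc] using ht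
      · exact fun h => h3 (by rw [← hback W, h, Subgroup.map_bot])
  set P := sSup S
  have hPV : P ≤ V := sSup_le fun T hT => hT.1
  have hPH : H ≤ Subgroup.normalizer (P : Set G) := by
    have h1 : ∀ g ∈ H, ∀ x ∈ P, g * x * g⁻¹ ∈ P := by
      intro g hg x hx
      have : P ≤ P.comap (MulAut.conj g).toMonoidHom := sSup_le fun T hT => by
        rw [← Subgroup.map_le_iff_le_comap]
        exact le_sSup (hS g hg T hT)
      exact this hx
    intro g hg
    rw [Subgroup.mem_normalizer_iff]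
    refine fun x => ⟨h1 g hg x, fun hx => ?_⟩
    have := h1 g⁻¹ (inv_mem hg) _ hx
    rw [inv_inv] at this
    convert this using 1
    group
  have hPtop : P = V := by
    obtain ⟨W, hW, hWH, hWP, hsup⟩ := hss P hPV hPH
    rcases eq_or_ne W ⊥ with rfl | hne
    · rwa [sup_bot_eq] at hsup
    · obtain ⟨T, hT, hTW⟩ := hatom W hW (hAH.trans hWH) hne
      exact absurd (eq_bot_iff.2 (hWP ▸ le_inf (le_sSup hT) hTW)) hT.2.2.1
  obtain ⟨W, ⟨hW1, hW2, hW3⟩, hmax⟩ := Set.Finite.exists_maximal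
    (s := {W : Subgroup G | W ≤ V ∧ A ≤ Subgroup.normalizer (W : Set G) ∧ U ⊓ W = ⊥})
    (Set.toFinite _) ⟨⊥, bot_le, le_top.trans (Subgroup.normalizer_eq_top ⊥).ge, inf_bot_eq _⟩
  refine ⟨W, hW1, hW2, hW3, le_antisymm (sup_le hUV hW1) ?_⟩
  conv_lhs => rw [← hPtop]
  refine sSup_le fun T hT => ?_
  by_contra hnle
  have hsupn : A ≤ Subgroup.normalizer ((U ⊔ W : Subgroup G) : Set G) :=
    le_normalizer_sup hAU hW2
  have hTUW : T ⊓ (U ⊔ W) = ⊥ := by
    by_contra hne
    have := hT.2.2.2 (T ⊓ (U ⊔ W)) inf_le_left (fun a ha => ?_) hne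
    · exact hnle (this ▸ inf_le_right)
    · rw [Subgroup.mem_normalizer_iff]
      intro x
      exact and_congr (Subgroup.mem_normalizer_iff.1 (hT.2.1 ha) x) (Subgroup.mem_normalizer_iff.1 (hsupn ha) x)
  have hnew : U ⊓ (W ⊔ T) = ⊥ := by
    refine eq_bot_iff.2 fun u hu => ?_
    have hwt : W ≤ Subgroup.normalizer (T : Set G) := fun w hw => by
      rw [Subgroup.mem_normalizer_iff]
      intro x
      constructor
      · intro hx
        rwa [hcom w (hW1 hw) x (hT.1 hx), mul_inv_cancel_right]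
      · intro hx
        have : w⁻¹ * (w * x * w⁻¹) = (w * x * w⁻¹) * w⁻¹ := hcom _ (inv_mem (hW1 hw)) _ (hT.1 hx)
        have e : x = w * x * w⁻¹ := by
          calc x = w⁻¹ * (w * x * w⁻¹) * w := by group
            _ = _ := by rw [this]; group
        rwa [e]
    obtain ⟨w, hw, t, ht, e⟩ : ∃ w ∈ W, ∃ t ∈ T, w * t = u := by
      have h1 := hu.2
      change u ∈ ((W ⊔ T : Subgroup G) : Set G) at h1
      rw [Subgroup.coe_mul_of_left_le_normalizer_right _ _ hwt] at h1
      exact h1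
    have ht1 : t ∈ T ⊓ (U ⊔ W) := by
      refine ⟨ht, ?_⟩
      have : t = w⁻¹ * u := by rw [← e]; group
      rw [this]
      exact mul_mem (Subgroup.mem_sup_right (inv_mem hw)) (Subgroup.mem_sup_left hu.1)
    rw [hTUW, Subgroup.mem_bot] at ht1
    rw [ht1, mul_one] at e
    rw [← hW3]
    exact ⟨hu.1, e ▸ hw⟩
  exact hnle (le_sup_right.trans ((hmax ⟨sup_le hW1 hT.1, le_normalizer_sup hW2 hT.2.1, hnew⟩ le_sup_left).trans le_sup_right))

end Cfsg.Agent.S3735
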