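import Cfsg.Statements.S3737
import Cfsg.Agent.S3736
import Mathlib

set_option autoImplicit false
open Cfsg
open scoped commutatorElement

namespace Cfsg.Agent.S3737

variable {X : Type*} [Group X] [Finite X] {p : ℕ} [Fact p.Prime]

/-- A group of class two with a parameter `k` for Baer's sum. -/
structure Baer (G : Type*) [Group G] where
  /-- the element -/
  val : G

/-- Baer's abelian group of a group of class two in which `c ^ (2 k - 1) = 1` for commutators. -/
@[reducible] def baerGroup {G : Type*} [Group G] (hcl : ∀ u v w : G, ⁅⁅u, v⁆, w⁆ = 1) (k : ℕ)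
    (hk : ∀ u v : G, ⁅u, v⁆ ^ (2 * k) = ⁅u, v⁆) : CommGroup (Baer G) :=
  have hc : ∀ u v w : G, Commute ⁅u, v⁆ w := fun u v w => commutatorElement_eq_one_iff_mul_comm.1 (hcl u v w)
  have hl : ∀ a b c : G, ⁅a * b, c⁆ = ⁅a, c⁆ * ⁅b, c⁆ := fun a b c => by
    calc ⁅a * b, c⁆ = a * ⁅b, c⁆ * a⁻¹ * ⁅a, c⁆ := by simp [commutatorElement_def, mul_assoc]
      _ = _ := by rw [(hc b c a).symm.eq, mul_inv_cancel_right, (hc b c _).eq]
  have hr : ∀ a b c : G, ⁅c, a * b⁆ = ⁅c, a⁆ * ⁅c, b⁆ := fun a b c => by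
    calc ⁅c, a * b⁆ = ⁅c, a⁆ * (a * ⁅c, b⁆ * a⁻¹) := by simp [commutatorElement_def, mul_assoc]
      _ = _ := by rw [(hc c b a).symm.eq, mul_inv_cancel_right]
  have hpl : ∀ (u v c : G) (m : ℕ), ⁅⁅u, v⁆ ^ m, c⁆ = 1 := fun u v c m =>
    commutatorElement_eq_one_iff_mul_comm.2 ((hc u v c).pow_left m)
  have hpr : ∀ (u v c : G) (m : ℕ), ⁅c, ⁅u, v⁆ ^ m⁆ = 1 := fun u v c m =>
    commutatorElement_eq_one_iff_mul_comm.2 ((hc u v c).pow_left m).symm
  { mul := fun a b => ⟨a.val * b.val * ⁅b.val, a.val⁆ ^ k⟩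
    one := ⟨1⟩
    inv := fun a => ⟨a.val⁻¹⟩
    mul_assoc := fun a b c => by
      show Baer.mk _ = Baer.mk _
      congr 1
      show a.val * b.val * ⁅b.val, a.val⁆ ^ k * c.val * ⁅c.val, a.val * b.val * ⁅b.val, a.val⁆ ^ k⁆ ^ k =
        a.val * (b.val * c.val * ⁅c.val, b.val⁆ ^ k) * ⁅b.val * c.val * ⁅c.val, b.val⁆ ^ k, a.val⁆ ^ k
      rw [hr, hr, hl, hl, hpl, hpr, mul_one, mul_one, (hc c.val a.val _).mul_pow, (hc b.val a.val _).mul_pow]
      have h1 : ∀ w : G, ⁅b.val, a.val⁆ ^ k * w = w * ⁅b.val, a.val⁆ ^ k := fun w => ((hc _ _ w).pow_left k).eq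
      have h2 : ∀ w : G, ⁅c.val, b.val⁆ ^ k * w = w * ⁅c.val, b.val⁆ ^ k := fun w => ((hc _ _ w).pow_left k).eq
      have h3 : ∀ w : G, ⁅c.val, a.val⁆ ^ k * w = w * ⁅c.val, a.val⁆ ^ k := fun w => ((hc _ _ w).pow_left k).eq
      calc a.val * b.val * ⁅b.val, a.val⁆ ^ k * c.val * (⁅c.val, a.val⁆ ^ k * ⁅c.val, b.val⁆ ^ k)
          = a.val * b.val * c.val * (⁅b.val, a.val⁆ ^ k * (⁅c.val, a.val⁆ ^ k * ⁅c.val, b.val⁆ ^ k)) := by
            rw [mul_assoc (a.val * b.val), h1]; simp [mul_assoc]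
        _ = a.val * b.val * c.val * (⁅c.val, b.val⁆ ^ k * (⁅b.val, a.val⁆ ^ k * ⁅c.val, a.val⁆ ^ k)) := by
            rw [← mul_assoc (⁅b.val, a.val⁆ ^ k) (⁅c.val, a.val⁆ ^ k), ← h2]
        _ = _ := by simp [mul_assoc]
    one_mul := fun a => by
      show Baer.mk (1 * a.val * ⁅a.val, (1 : G)⁆ ^ k) = a
      simp
    mul_one := fun a => by
      show Baer.mk (a.val * 1 * ⁅(1 : G), a.val⁆ ^ k) = a
      simp
    inv_mul_cancel := fun a => by
      show Baer.mk (a.val⁻¹ * a.val * ⁅a.val, a.val⁻¹⁆ ^ k) = ⟨1⟩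
      simp [commutatorElement_def]
    mul_comm := fun a b => by
      show Baer.mk _ = Baer.mk _
      congr 1
      show a.val * b.val * ⁅b.val, a.val⁆ ^ k = b.val * a.val * ⁅a.val, b.val⁆ ^ k
      have hinv : ⁅b.val, a.val⁆ = ⁅a.val, b.val⁆⁻¹ := (commutatorElement_inv _ _).symm
      have hab : a.val * b.val = ⁅a.val, b.val⁆ * (b.val * a.val) := by simp [commutatorElement_def, mul_assoc]
      rw [hinv, inv_pow, mul_inv_eq_iff_eq_mul, hab, mul_assoc (b.val * a.val), ← pow_add, ← two_mul, hk,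
        (hc _ _ (b.val * a.val)).eq] }

/-- The key step: the class two case. -/
theorem baer_step (hp : p ≠ 2) {P Q G : Subgroup X} (hG : IsPGroup p G)
    (hPQ : P ≤ Subgroup.normalizer (Q : Set X)) (hPG : P ≤ Subgroup.normalizer (G : Set X))
    (hQG : Q ≤ Subgroup.normalizer (G : Set X)) (hP : IsPGroup p P) (hQ : (Nat.card Q).Coprime p)
    (hC : G ⊓ Subgroup.centralizer (P : Set X) ≤ Subgroup.centralizer (Q : Set X))
    (hcl : ∀ u v w : G, ⁅⁅u, v⁆, w⁆ = 1) : ⁅G, Q⁆ = ⊥ := by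
  classical
  have hpp : p.Prime := Fact.out
  obtain ⟨e, he⟩ := hG.exists_card_eq
  have hodd : Odd (Nat.card G) := by rw [he]; exact (hpp.odd_of_ne_two hp).pow
  obtain ⟨t, ht⟩ := hodd
  have hk : ∀ u v : G, ⁅u, v⁆ ^ (2 * (t + 1)) = ⁅u, v⁆ := fun u v => by
    rw [show 2 * (t + 1) = Nat.card G + 1 by omega, pow_succ, pow_card_eq_one', one_mul]
  letI := baerGroup hcl (t + 1) hk
  have hval : ∀ a b : Baer G, (a * b).val = a.val * b.val * ⁅b.val, a.val⁆ ^ (t + 1) := fun _ _ => rfl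
  let act : Subgroup.normalizer (G : Set X) → Baer G →* Baer G := fun n =>
    { toFun := fun a => ⟨G.normalizerMonoidHom n a.val⟩
      map_one' := by
        show Baer.mk (G.normalizerMonoidHom n 1) = ⟨1⟩
        rw [map_one]
      map_mul' := fun a b => by
        show Baer.mk (G.normalizerMonoidHom n (a.val * b.val * ⁅b.val, a.val⁆ ^ (t + 1))) = Baer.mk _
        congr 1
        rw [map_mul, map_mul, map_pow, map_commutatorElement] }
  have hactmul : ∀ m n a, act m (act n a) = act (m * n) a := fun m n a => by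
    show Baer.mk _ = Baer.mk _
    rw [map_mul]
    rfl
  haveI := Fintype.ofFinite Q
  haveI : Finite (Baer G) := Finite.of_injective Baer.val fun a b h => by cases a; cases b; simp_all
  let q' : Q → Subgroup.normalizer (G : Set X) := fun q => ⟨q, hQG q.2⟩
  let τ : Baer G →* Baer G :=
    { toFun := fun a => ∏ q : Q, act (q' q) a
      map_one' := Finset.prod_eq_one fun q _ => map_one _
      map_mul' := fun a b => by simp only [map_mul, Finset.prod_mul_distrib] }
  have hcommQ : ∀ (q : Q) (a : Baer G), τ (act (q' q) a) = τ a := fun q a => by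
    show ∏ r : Q, act (q' r) (act (q' q) a) = ∏ r : Q, act (q' r) a
    refine Fintype.prod_equiv (Equiv.mulRight q) _ _ fun r => ?_
    rw [hactmul]
    rfl
  have hcommP : ∀ (s : P) (a : Baer G), τ (act ⟨s, hPG s.2⟩ a) = act ⟨s, hPG s.2⟩ (τ a) := fun s a => by
    show ∏ r : Q, act (q' r) (act ⟨s, hPG s.2⟩ a) = act ⟨s, hPG s.2⟩ (∏ r : Q, act (q' r) a)
    rw [map_prod]
    refine (Fintype.prod_equiv
      { toFun := fun r : Q => ⟨s * r * (s : X)⁻¹, (Subgroup.mem_normalizer_iff.1 (hPQ s.2) r).1 r.2⟩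
        invFun := fun r : Q => ⟨(s : X)⁻¹ * r * s, by
          have := (Subgroup.mem_normalizer_iff.1 (hPQ (inv_mem s.2)) r).1 r.2
          simpa using this⟩
        left_inv := fun r => Subtype.ext (by simp [mul_assoc])
        right_inv := fun r => Subtype.ext (by simp [mul_assoc]) } _ _ fun r => ?_).symm
    rw [hactmul, hactmul]
    exact congrArg (fun n => act n a) (Subtype.ext (by simp [q', mul_assoc]))
  by_contra hnt
  obtain ⟨x, hx, y, hy, hxy⟩ : ∃ x ∈ G, ∃ y ∈ Q, y * x ≠ x * y := by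
    by_contra h
    push Not at h
    exact hnt (Subgroup.commutator_eq_bot_iff_le_centralizer.2 fun x hx =>
      Subgroup.mem_centralizer_iff.2 fun y hy => h x hx y hy)
  let K := τ.ker
  have hKp : IsPGroup p K := by
    refine IsPGroup.to_subgroup ?_ K
    have : Nat.card (Baer G) = p ^ e :=
      (Nat.card_congr ⟨Baer.val, Baer.mk, fun _ => rfl, fun _ => rfl⟩).trans he
    exact IsPGroup.of_card this
  have hKne : K ≠ ⊥ := by
    intro hb
    have h1 : act (q' ⟨y, hy⟩) ⟨⟨x, hx⟩⟩ / ⟨⟨x, hx⟩⟩ ∈ K := by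
      rw [MonoidHom.mem_ker, map_div, hcommQ, div_self']
    rw [hb, Subgroup.mem_bot, div_eq_one] at h1
    have h2 : y * x * y⁻¹ = x := congrArg (fun a => ((Baer.val a : G) : X)) h1
    exact hxy (mul_inv_eq_iff_eq_mul.1 h2)
  letI : MulAction P K :=
    { smul := fun s a => ⟨act ⟨s, hPG s.2⟩ a, by
        rw [MonoidHom.mem_ker, hcommP, MonoidHom.mem_ker.1 a.2, map_one]⟩
      one_smul := fun a => Subtype.ext (by
        show Baer.mk (G.normalizerMonoidHom ⟨((1 : P) : X), _⟩ a.1.val) = a.1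
        have : (⟨((1 : P) : X), hPG (1 : P).2⟩ : Subgroup.normalizer (G : Set X)) = 1 := rfl
        rw [this, map_one]
        rfl)
      mul_smul := fun s r a => Subtype.ext (hactmul ⟨s, hPG s.2⟩ ⟨r, hPG r.2⟩ a).symm }
  obtain ⟨j, hj⟩ := hKp.exists_card_eq
  have hj0 : j ≠ 0 := fun h => hKne (Subgroup.card_eq_one.1 (by rw [hj, h, pow_zero]))
  obtain ⟨b, hb, hb1⟩ := hP.exists_fixed_point_of_prime_dvd_card_of_fixed_point K
    (by rw [hj]; exact dvd_pow_self p hj0) (a := 1) (fun s => Subtype.ext (map_one (act ⟨s, hPG s.2⟩)))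
  have hbC : ((b.1.val : G) : X) ∈ Subgroup.centralizer (P : Set X) := by
    refine Subgroup.mem_centralizer_iff.2 fun s hs => ?_
    have h1 := congrArg (fun a : K => (((a : Baer G).val : G) : X)) (hb ⟨s, hs⟩)
    exact mul_inv_eq_iff_eq_mul.1 h1
  have hbQ := hC ⟨(b.1.val).2, hbC⟩
  have hτb : τ b.1 = b.1 ^ Nat.card Q := by
    rw [Nat.card_eq_fintype_card, ← Finset.card_univ, ← Finset.prod_const]
    refine Finset.prod_congr rfl fun q _ => ?_
    show Baer.mk _ = b.1
    congr 1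
    apply Subtype.ext
    show (q : X) * (b.1.val : G) * (q : X)⁻¹ = _
    rw [Subgroup.mem_centralizer_iff.1 hbQ q q.2, mul_inv_cancel_right]
  have hone : b.1 ^ Nat.card Q = 1 := hτb.symm.trans b.2
  obtain ⟨i, hi⟩ := hKp b
  have : orderOf b = 1 := Nat.eq_one_of_dvd_coprimes (hQ.symm.pow_left i)
    (orderOf_dvd_of_pow_eq_one hi) (orderOf_dvd_of_pow_eq_one (Subtype.ext (by simpa using hone)))
  exact hb1 (orderOf_eq_one_iff.1 this).symm


/-- Thompson's strengthening of the P × Q lemma for odd primes. Let p be an odd prime and let P, Q and G be subgroups of a finite group with P a p-group, Q of order prime to p and normalized by P, and G a p-group normalized by both P and Q. If every element of G centralized by P is centralized by Q, then Q centralizes G. -/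
theorem result {X : Type*} [Group X] [Finite X] {p : ℕ} [Fact p.Prime] (hp : p ≠ 2) (P Q G : Subgroup X) (hP : IsPGroup p P) (hQ : (Nat.card Q).Coprime p) (hPQ : P ≤ Subgroup.normalizer (Q : Set X)) (hG : IsPGroup p G) (hPG : P ≤ Subgroup.normalizer (G : Set X)) (hQG : Q ≤ Subgroup.normalizer (G : Set X)) (hC : G ⊓ Subgroup.centralizer (P : Set X) ≤ Subgroup.centralizer (Q : Set X)) : Q ≤ Subgroup.centralizer (G : Set X) := by
  suffices h : ∀ (n : ℕ) (G' : Subgroup X), Nat.card G' = n → IsPGroup p G' →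
      P ≤ Subgroup.normalizer (G' : Set X) → Q ≤ Subgroup.normalizer (G' : Set X) →
      G' ⊓ Subgroup.centralizer (P : Set X) ≤ Subgroup.centralizer (Q : Set X) →
      ⁅G', Q⁆ = ⊥ by
    have := h _ G rfl hG hPG hQG hC
    exact Subgroup.le_centralizer_iff.1 (Subgroup.commutator_eq_bot_iff_le_centralizer.1 this)
  intro n
  induction n using Nat.strong_induction_on with
  | _ n ih =>
  intro G' hn hG' hPG' hQG' hC'
  by_contra hnt
  have hB : P ⊔ Q ≤ Subgroup.normalizer (Q : Set X) := sup_le hPQ Subgroup.le_normalizer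
  obtain ⟨-, hstr, -, -⟩ := Cfsg.Agent.S3736.result (p := p) (P ⊔ Q) Q G' hG' (sup_le hPG' hQG')
    le_sup_right hB hQ hnt (by
      intro U hU hBU
      refine ih (Nat.card U) ?_ U rfl (hG'.to_le hU.le) (le_sup_left.trans hBU) (le_sup_right.trans hBU)
        ((inf_le_inf_right _ hU.le).trans hC')
      rw [← hn]
      exact Set.Finite.card_lt_card (Set.toFinite _) hU)
  have hcl : ∀ u v w : G', ⁅⁅u, v⁆, w⁆ = 1 := by
    intro u v w
    rw [commutatorElement_eq_one_iff_mul_comm]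
    rcases hstr with h | h
    · have hab : ∀ s t : G', s * t = t * s := fun s t => h.1.1.comm s t
      rw [hab]
    · have : ⁅u, v⁆ ∈ Subgroup.center ↥G' := by
        rw [← h.2.2, commutator_def]
        exact Subgroup.commutator_mem_commutator (Subgroup.mem_top _) (Subgroup.mem_top _)
      exact (Subgroup.mem_center_iff.1 this w).symm
  exact hnt (baer_step hp hG' hPQ hPG' hQG' hP hQ hC' hcl)

end Cfsg.Agent.S3737
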