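import Cfsg.Statements.S3738
import Cfsg.Agent.Lib.FGS68.RankTwoAction

set_option autoImplicit false
open Cfsg

namespace Cfsg.Agent.S3738

/-- Let d be a non-identity 3-element of a finite group and P a 2-subgroup normalized by d on which ⟨d⟩ acts faithfully (no non-identity power of d centralizes P) and without non-identity fixed points (C_P(d) = 1). If every abelian subgroup of P has 2-rank at most 2, then d has order 3. -/
theorem result {X : Type*} [Group X] [Finite X] (d : X) (n : ℕ) (hn : 1 ≤ n) (hd : orderOf d = 3 ^ n) (P : Subgroup X) (hP : IsPGroup 2 P) (hdP : d ∈ Subgroup.normalizer (P : Set X)) (hfaith : Subgroup.zpowers d ⊓ Subgroup.centralizer (P : Set X) = ⊥) (hfpf : P ⊓ Subgroup.centralizer {d} = ⊥) (hrank : ∀ V : Subgroup X, V ≤ P → IsMulCommutative V → Cfsg.PRankLE 2 2 V) : orderOf d = 3 := by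
  classical
  haveI : Fact (Nat.Prime 2) := ⟨Nat.prime_two⟩
  haveI : Fact (Nat.Prime 3) := ⟨Nat.prime_three⟩
  by_contra hne
  have hd1 : d ≠ 1 := by
    rintro rfl
    rw [orderOf_one] at hd
    have := Nat.le_self_pow (show n ≠ 0 by omega) 3
    omega
  have hn2 : 2 ≤ n := by
    by_contra h
    obtain rfl : n = 1 := by omega
    exact hne (by rw [hd, pow_one])
  -- the involutions of the centre
  let Ω : Subgroup P :=
    { carrier := {x | x ∈ Subgroup.center P ∧ x ^ 2 = 1}
      one_mem' := ⟨one_mem _, one_pow 2⟩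
      mul_mem' := fun {a b} ha hb => ⟨mul_mem ha.1 hb.1, by
        rw [(show Commute a b from (Subgroup.mem_center_iff.1 ha.1 b).symm).mul_pow, ha.2, hb.2, one_mul]⟩
      inv_mem' := fun {a} ha => ⟨inv_mem ha.1, by rw [inv_pow, ha.2, inv_one]⟩ }
  haveI : Ω.Characteristic := Subgroup.characteristic_iff_le_map.2 fun φ x hx => by
    refine ⟨φ.symm x, ⟨Subgroup.mem_center_iff.2 fun g => φ.injective ?_, ?_⟩, φ.apply_symm_apply x⟩
    · rw [map_mul, map_mul, φ.apply_symm_apply]; exact Subgroup.mem_center_iff.1 hx.1 _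
    · rw [← map_pow, hx.2, map_one]
  set W := Ω.map P.subtype with hWdef
  have hdW : d ∈ Subgroup.normalizer (W : Set X) := CfsgLib.FGS68.normalizer_le_map_of_char P Ω hdP
  have hWP : W ≤ P := Subgroup.map_subtype_le _
  have hWab : IsMulCommutative W := IsMulCommutative.of_comm fun a b => Subtype.ext (by
    obtain ⟨x, hx, hxa⟩ := a.2
    obtain ⟨y, hy, hyb⟩ := b.2
    show (a : X) * b = b * a
    rw [← hxa, ← hyb]
    exact congrArg Subtype.val ((Subgroup.mem_center_iff.1 hx.1 y).symm))
  have hW2 : ∀ w ∈ W, w ^ 2 = 1 := by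
    rintro _ ⟨x, hx, rfl⟩
    exact congrArg Subtype.val hx.2
  have hfix1 : W ⊓ Subgroup.centralizer {d} = ⊥ :=
    eq_bot_iff.2 (le_trans (inf_le_inf_right _ hWP) hfpf.le)
  have hbound : ∀ V : Subgroup X, V ≤ P → IsMulCommutative V → (∀ x ∈ V, x ^ 2 = 1) → Nat.card V ≤ 4 := by
    intro V hV hVab hV2
    have h := hrank V hV hVab ⊤ inferInstance (fun a _ => Subtype.ext (hV2 a a.2))
    rwa [Subgroup.card_top] at h
  -- its order is four
  have hW : Nat.card W = 4 := by
    have hPne : Nontrivial P := by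
      rw [Subgroup.nontrivial_iff_ne_bot]
      rintro rfl
      refine hd1 (Subgroup.mem_bot.1 (hfaith ▸ ⟨Subgroup.mem_zpowers d, ?_⟩))
      refine Subgroup.mem_centralizer_iff.2 fun h hh => ?_
      simp only [Subgroup.coe_bot, Set.mem_singleton_iff] at hh
      simp [hh]
    have := hP.center_nontrivial
    obtain ⟨k, hk, hcard⟩ := (hP.to_subgroup (Subgroup.center P)).nontrivial_iff_card.1 this
    obtain ⟨z, hz⟩ := exists_prime_orderOf_dvd_card' (G := Subgroup.center P) 2
      (by rw [hcard]; exact dvd_pow_self _ (by omega))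
    have hz2 : z ^ 2 = 1 := by rw [← hz]; exact pow_orderOf_eq_one z
    have hzm : (z : P) ∈ Ω := ⟨z.2, by rw [← SubmonoidClass.coe_pow, hz2]; rfl⟩
    have hzW : ((z : P) : X) ∈ W := ⟨_, hzm, rfl⟩
    have hz1 : ((z : P) : X) ≠ 1 := fun h => by
      rw [orderOf_eq_one_iff.2 (show z = 1 from Subtype.ext (Subtype.ext h))] at hz
      omega
    have h2 : 2 ≤ Nat.card W := Finite.one_lt_card_iff_nontrivial.2
      ((Subgroup.nontrivial_iff_ne_bot W).2 fun h => hz1 (by rw [h] at hzW; exact hzW))
    obtain ⟨m, hm⟩ := (hP.to_le hWP).exists_card_eq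
    have h4 := hbound W hWP hWab hW2
    have h1 : Nat.card W ≠ 2 := by
      intro h
      obtain ⟨a, c, -, huniv⟩ := Nat.card_eq_two_iff.1 h
      have hmem : ∀ v : W, v = a ∨ v = c := fun v => by
        have : v ∈ ({a, c} : Set W) := huniv ▸ Set.mem_univ v
        simpa using this
      have hdz : d * ((z : P) : X) * d⁻¹ ∈ W := (Subgroup.mem_normalizer_iff.1 hdW _).1 hzW
      have : d * ((z : P) : X) * d⁻¹ = ((z : P) : X) := by
        rcases hmem ⟨_, hzW⟩ with e1 | e1 <;> rcases hmem ⟨_, hdz⟩ with e2 | e2 <;>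
          rcases hmem 1 with e3 | e3
        all_goals first
          | exact congrArg Subtype.val (e2.trans e1.symm)
          | exact absurd (congrArg Subtype.val (e1.trans e3.symm)) hz1
          | exact absurd (conj_eq_one_iff.1 (congrArg Subtype.val (e2.trans e3.symm))) hz1
      have h' : ((z : P) : X) ∈ W ⊓ Subgroup.centralizer {d} :=
        ⟨hzW, Subgroup.mem_centralizer_singleton_iff.2 (mul_inv_eq_iff_eq_mul.1 this).symm⟩
      rw [hfix1] at h'
      exact hz1 h'
    rw [hm] at h4 h1 h2 ⊢
    have : m ≤ 2 := (Nat.pow_le_pow_iff_right (by norm_num : 1 < 2)).1 (h4.trans (by norm_num))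
    interval_cases m <;> simp_all
  obtain ⟨hcent, hinv⟩ := CfsgLib.FGS68.four_central hP hWP hW hWab hW2 hdP hfix1 hbound hdW
  -- `d ^ 3` centralises `W`
  have hd3 : ∀ w ∈ W, Commute (d ^ 3) w := by
    intro w hw
    let f : W → W := fun v => ⟨d * v * d⁻¹, (Subgroup.mem_normalizer_iff.1 hdW v).1 v.2⟩
    have hf : ∀ v, f v = v → v = 1 := fun v hv => Subtype.ext (by
      have : (v : X) ∈ W ⊓ Subgroup.centralizer {d} :=
        ⟨v.2, Subgroup.mem_centralizer_singleton_iff.2
          (mul_inv_eq_iff_eq_mul.1 (congrArg Subtype.val hv)).symm⟩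
      rwa [hfix1] at this)
    have hfinj : Function.Injective f := fun a b hab => Subtype.ext (by
      have h := congrArg Subtype.val hab
      simp only [f, mul_left_inj, mul_right_inj] at h
      exact h)
    classical
    haveI := Fintype.ofFinite W
    have hf1 : f 1 = 1 := Subtype.ext (by simp [f])
    by_cases hw1 : w = 1
    · rw [hw1]; exact Commute.one_right _
    set v : W := ⟨w, hw⟩
    have hv1 : v ≠ 1 := fun h => hw1 (congrArg Subtype.val h)
    have a1 : f v ≠ v := fun h => hv1 (hf v h)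
    have a0 : f v ≠ 1 := fun h => hv1 (hfinj (h.trans hf1.symm))
    have b1 : f (f v) ≠ f v := fun h => a1 (hfinj h)
    have b0 : f (f v) ≠ 1 := fun h => a0 (hfinj (h.trans hf1.symm))
    have b2 : f (f v) ≠ v := by
      -- otherwise the product would be fixed
      intro h
      have hc : IsMulCommutative W := hWab
      have hm : f (v * f v) = v * f v := by
        have e : f (v * f v) = f v * f (f v) := Subtype.ext (by simp [f, mul_assoc])
        rw [e, h, mul_comm']
      have h1 := congrArg Subtype.val (hf _ hm)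
      apply a1
      refine Subtype.ext ?_
      have h2 := hW2 w hw
      rw [pow_two] at h2
      have e3 : ((f v : W) : X) = w⁻¹ := eq_inv_of_mul_eq_one_right (by simpa [v] using h1)
      rw [e3, inv_eq_of_mul_eq_one_right h2]
    have hcard : Fintype.card W = 4 := by rw [← Nat.card_eq_fintype_card, hW]
    have huniv : ∀ u : W, u = 1 ∨ u = v ∨ u = f v ∨ u = f (f v) := by
      intro u
      have : ({1, v, f v, f (f v)} : Finset W) = Finset.univ := by
        apply Finset.eq_univ_of_card
        rw [hcard, Finset.card_insert_of_notMem (by simp [hv1.symm, a0.symm, b0.symm]),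
          Finset.card_insert_of_notMem (by simp [a1.symm, b2.symm]),
          Finset.card_insert_of_notMem (by simp [b1.symm]), Finset.card_singleton]
      have hu : u ∈ ({1, v, f v, f (f v)} : Finset W) := this ▸ Finset.mem_univ u
      simpa using hu
    have hfff : f (f (f v)) = v := by
      rcases huniv (f (f (f v))) with h | h | h | h
      · exact absurd (hfinj (h.trans hf1.symm)) b0
      · exact h
      · exact absurd (hfinj h) b2
      · exact absurd (hfinj h) b1
    have h3 : d ^ 3 * w * (d ^ 3)⁻¹ = w := by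
      have := congrArg Subtype.val hfff
      simp only [f, v] at this
      rw [pow_succ, pow_succ, pow_one]
      simpa [mul_assoc] using this
    exact mul_inv_eq_iff_eq_mul.1 h3
  set e := d ^ 3 ^ (n - 1) with he
  have heord : orderOf e = 3 := by
    rw [he, orderOf_pow, hd, Nat.gcd_eq_right (pow_dvd_pow 3 (by omega)), Nat.pow_div (by omega) (by norm_num),
      show n - (n - 1) = 1 by omega, pow_one]
  refine CfsgLib.FGS68.false_of_nine_dvd (B := Subgroup.zpowers d) (e := e) hP hWP hW hW2 hinv ?_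
    (Subgroup.zpowers_le.2 hdP) ?_ ?_ (pow_mem (Subgroup.mem_zpowers d) _) heord ?_ ?_ ?_
  · rintro _ ⟨i, rfl⟩ _ ⟨j, rfl⟩
    exact Commute.zpow_zpow_self d i j
  · intro w hw h
    have : w ∈ W ⊓ Subgroup.centralizer {d} :=
      ⟨hw, Subgroup.mem_centralizer_singleton_iff.2 (h d (Subgroup.mem_zpowers d)).eq.symm⟩
    rwa [hfix1] at this
  · rw [Nat.card_zpowers, hd]
    exact pow_dvd_pow 3 hn2
  · intro w hw
    have e1 : e = (d ^ 3) ^ 3 ^ (n - 2) := by
      rw [he, ← pow_mul, ← pow_succ', show n - 2 + 1 = n - 1 by omega]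
    rw [e1]
    exact (hd3 w hw).pow_left _
  · by_contra h
    push Not at h
    have hm : e ∈ Subgroup.zpowers d ⊓ Subgroup.centralizer (P : Set X) :=
      ⟨pow_mem (Subgroup.mem_zpowers d) _, Subgroup.mem_centralizer_iff.2 fun x hx => (h x hx).eq.symm⟩
    rw [hfaith, Subgroup.mem_bot] at hm
    rw [hm, orderOf_one] at heord
    omega
  · rintro f hf hf1 -
    obtain ⟨i, hi⟩ := (show f ∈ Submonoid.powers d from (mem_powers_iff_mem_zpowers).2 hf)
    obtain ⟨a, m, hm, him⟩ := Nat.exists_eq_pow_mul_and_not_dvd (n := i) (by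
      rintro rfl
      exact hf1 (by simpa using hi.symm)) 3 (by norm_num)
    have han : a < n := by
      by_contra h
      apply hf1
      rw [← hi]
      show d ^ i = 1
      rw [him, ← orderOf_dvd_iff_pow_eq_one, hd]
      exact (pow_dvd_pow 3 (by omega)).trans (Dvd.intro _ rfl)
    -- `d ^ (3 ^ a)` is a power of `f`
    have hcop : m.Coprime (orderOf (d ^ 3 ^ a)) := by
      have : orderOf (d ^ 3 ^ a) ∣ 3 ^ n := hd ▸ orderOf_pow_dvd _
      exact Nat.Coprime.coprime_dvd_right this (Nat.Coprime.pow_right n ((Nat.prime_three.coprime_iff_not_dvd.2 hm).symm))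
    obtain ⟨j, hj⟩ := exists_pow_eq_self_of_coprime hcop
    refine Subgroup.mem_zpowers_iff.2 ⟨(j * 3 ^ (n - 1 - a) : ℕ), ?_⟩
    rw [zpow_natCast, pow_mul, ← hi]
    show ((d ^ i) ^ j) ^ 3 ^ (n - 1 - a) = e
    rw [him, pow_mul d (3 ^ a) m, hj, he, ← pow_mul, ← pow_add, show a + (n - 1 - a) = n - 1 by omega]


end Cfsg.Agent.S3738
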