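import Cfsg.Statements.S3739
import Cfsg.Agent.Lib.FGS68.RankTwoAction
import Cfsg.Agent.Lib.Solvable.CoprimeAction
import Cfsg.Agent.Lib.Solvable.Core
import Cfsg.Agent.S3738

set_option autoImplicit false
open Cfsg

namespace Cfsg.Agent.S3739

/-- Let G be a finite group with C_G(O₂(G)) ≤ O₂(G) containing an element of order 6, and let d be a non-identity 3-element of G normalizing a nontrivial elementary abelian 2-subgroup W with C_W(d) = 1. Then G has an elementary abelian subgroup of order 8. -/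
theorem result {G : Type*} [Group G] [Finite G] (hchar : Subgroup.centralizer (Cfsg.pCore 2 G : Set G) ≤ Cfsg.pCore 2 G) (hsix : ∃ g : G, orderOf g = 6) (d : G) (hd1 : d ≠ 1) (hd : IsPGroup 3 ↥(Subgroup.zpowers d)) (W : Subgroup G) (hW : Cfsg.IsElementaryAbelian 2 W) (hW1 : W ≠ ⊥) (hdW : d ∈ Subgroup.normalizer (W : Set G)) (hfpf : W ⊓ Subgroup.centralizer {d} = ⊥) : ∃ E : Subgroup G, Cfsg.IsElementaryAbelian 2 E ∧ Nat.card E = 8 := by
  classical
  haveI : Fact (Nat.Prime 2) := ⟨Nat.prime_two⟩
  haveI : Fact (Nat.Prime 3) := ⟨Nat.prime_three⟩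
  by_contra hno
  have hrk : ∀ E : Subgroup G, IsMulCommutative E → (∀ x ∈ E, x ^ 2 = 1) → Nat.card E ≤ 4 := by
    intro E hE hE2
    by_contra hlt
    push Not at hlt
    have hp2 : IsPGroup 2 E := fun x => ⟨1, Subtype.ext (by simpa using hE2 x x.2)⟩
    obtain ⟨k, hk⟩ := hp2.exists_card_eq
    have h3 : 3 ≤ k := by
      by_contra h
      have := Nat.pow_le_pow_right (two_pos) (show k ≤ 2 by omega)
      omega
    obtain ⟨K, hK⟩ := Sylow.exists_subgroup_card_pow_prime 2 (G := E) (hk ▸ pow_dvd_pow 2 h3)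
    refine hno ⟨K.map E.subtype, ⟨?_, ?_⟩, ?_⟩
    · haveI := hE
      infer_instance
    · rintro _ ⟨x, -, rfl⟩
      exact hE2 x x.2
    · rw [Subgroup.card_map_of_injective E.subtype_injective, hK]; rfl
  obtain ⟨hWab, hW2⟩ := hW
  have hWp : IsPGroup 2 W := fun x => ⟨1, Subtype.ext (by simpa using hW2 x x.2)⟩
  obtain ⟨k, hk⟩ := IsPGroup.iff_orderOf.1 hd ⟨d, Subgroup.mem_zpowers d⟩
  rw [Subgroup.orderOf_mk] at hk
  -- order of `W`
  have hW4 : Nat.card W = 4 := by
    let φ : Subgroup.zpowers d →* MulAut W :=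
      W.normalizerMonoidHom.comp (Subgroup.inclusion (Subgroup.zpowers_le.2 hdW))
    letI : MulAction (Subgroup.zpowers d) W := MulAction.compHom W φ
    have hmod := hd.card_modEq_card_fixedPoints W
    have hfixed : MulAction.fixedPoints (Subgroup.zpowers d) W = {1} := by
      ext w
      simp only [MulAction.mem_fixedPoints, Set.mem_singleton_iff]
      constructor
      · intro h
        have h' : (w : G) ∈ W ⊓ Subgroup.centralizer {d} := ⟨w.2, Subgroup.mem_centralizer_singleton_iff.2
          (mul_inv_eq_iff_eq_mul.1 (congrArg Subtype.val (h ⟨d, Subgroup.mem_zpowers d⟩))).symm⟩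
        rw [hfpf] at h'
        exact Subtype.ext h'
      · rintro rfl g
        exact map_one (φ g)
    rw [hfixed, Nat.card_coe_set_eq, Set.ncard_singleton] at hmod
    obtain ⟨m, hm⟩ := hWp.exists_card_eq
    have h2 : 2 ≤ Nat.card W := Finite.one_lt_card_iff_nontrivial.2 ((Subgroup.nontrivial_iff_ne_bot W).2 hW1)
    have h4 := hrk W hWab hW2
    rw [hm] at h2 h4 hmod ⊢
    have : m ≤ 2 := (Nat.pow_le_pow_iff_right (by norm_num : 1 < 2)).1 (h4.trans (by norm_num))
    unfold Nat.ModEq at hmod
    interval_cases m <;> simp_all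
  set Q := Cfsg.pCore 2 G
  haveI hQn : Q.Normal := CfsgLib.Solvable.pCore_normal (p := 2) G
  have hQp : IsPGroup 2 Q := CfsgLib.Solvable.pCore_isPGroup (p := 2) G
  have hnorm : ∀ (T : Subgroup G) (g : G), g ∈ Subgroup.normalizer (T : Set G) →
      g ∈ Subgroup.normalizer ((Q ⊔ T : Subgroup G) : Set G) := fun T g hg => by
    rw [Subgroup.mem_normalizer_iff_map_conj_eq, Subgroup.map_sup,
      Subgroup.mem_normalizer_iff_map_conj_eq.1 hg,
      Subgroup.mem_normalizer_iff_map_conj_eq.1 (Subgroup.le_normalizer_of_normal (Subgroup.mem_top g))]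
  -- `W` lies in `Q`
  obtain ⟨hWc, hWinv⟩ := CfsgLib.FGS68.four_central (T := Q ⊔ W) (hQp.to_sup_of_normal_left hWp)
    le_sup_right hW4 hWab hW2 (hnorm W d hdW) hfpf (fun E _ h1 h2 => hrk E h1 h2) hdW
  have hWQ : W ≤ Q := fun w hw => hchar (Subgroup.mem_centralizer_iff.2 fun q hq =>
    (hWc w hw q (Subgroup.mem_sup_left hq)).eq)
  have hQinv : ∀ x ∈ Q, x ^ 2 = 1 → x ∈ W := fun x hx => hWinv x (Subgroup.mem_sup_left hx)
  have hWn : ∀ g : G, g ∈ Subgroup.normalizer (W : Set G) := by
    intro g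
    refine Subgroup.mem_normalizer_iff.2 fun x => ⟨fun hx => ?_, fun hx => ?_⟩
    · exact hQinv _ (hQn.conj_mem x (hWQ hx) g) (by rw [conj_pow, hW2 x hx, mul_one, mul_inv_cancel])
    · have h := hQn.conj_mem _ (hWQ hx) g⁻¹
      have h2 := hW2 _ hx
      rw [conj_pow, conj_eq_one_iff] at h2
      exact hQinv x (by simpa [mul_assoc] using h) h2
  haveI hWnor : W.Normal := ⟨fun x hx g => (Subgroup.mem_normalizer_iff.1 (hWn g) x).1 hx⟩
  set K := Subgroup.centralizer (W : Set G)
  have hdK : d ∉ K := by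
    intro h
    refine hW1 (eq_bot_iff.2 fun w hw => ?_)
    have : w ∈ W ⊓ Subgroup.centralizer {d} :=
      ⟨hw, Subgroup.mem_centralizer_singleton_iff.2 (Subgroup.mem_centralizer_iff.1 h w hw)⟩
    rwa [hfpf] at this
  have hfix_of : ∀ e : G, orderOf e = 3 → e ∉ K → W ⊓ Subgroup.centralizer {e} = ⊥ := by
    intro e he heK
    letI : MulAction (Subgroup.zpowers e) W := MulAction.compHom W
      (W.normalizerMonoidHom.comp (Subgroup.inclusion (Subgroup.zpowers_le.2 (hWn e))))
    have hep : IsPGroup 3 (Subgroup.zpowers e) := IsPGroup.of_card (n := 1) (by rw [Nat.card_zpowers, he, pow_one])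
    have hmod := hep.card_modEq_card_fixedPoints W
    set F := W ⊓ Subgroup.centralizer {e}
    have hF : Nat.card (MulAction.fixedPoints (Subgroup.zpowers e) W) = Nat.card F := by
      refine Nat.card_congr
        { toFun := fun w => ⟨(w.1 : G), w.1.2, Subgroup.mem_centralizer_singleton_iff.2
            (mul_inv_eq_iff_eq_mul.1 (congrArg Subtype.val (w.2 ⟨e, Subgroup.mem_zpowers e⟩))).symm⟩
          invFun := fun w => ⟨⟨(w : G), w.2.1⟩, fun g => by
            obtain ⟨g, i, rfl⟩ := g
            apply Subtype.ext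
            show e ^ i * (w : G) * (e ^ i)⁻¹ = w
            rw [((show Commute e (w : G) from (Subgroup.mem_centralizer_singleton_iff.1 w.2.2).symm).zpow_left i).eq,
              mul_inv_cancel_right]⟩
          left_inv := fun w => rfl
          right_inv := fun w => rfl }
    rw [hF, hW4] at hmod
    unfold Nat.ModEq at hmod
    rcases CfsgLib.FGS68.card_subgroup_of_four hW4 F inf_le_left with h | h | h
    · exact Subgroup.card_eq_one.1 h
    · rw [h] at hmod; omega
    · exact absurd (Subgroup.mem_centralizer_iff.2 fun w hw => by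
        have := (Subgroup.eq_of_le_of_card_ge (inf_le_left : F ≤ W) (by rw [hW4]; exact h.ge)).ge hw
        exact Subgroup.mem_centralizer_singleton_iff.1 this.2) heK
  by_cases h3K : 3 ∣ Nat.card K
  · -- a central element of order three in a Sylow subgroup containing `d`
    obtain ⟨S, hS⟩ := hd.exists_le_sylow
    have hdS : d ∈ (S : Subgroup G) := hS (Subgroup.mem_zpowers d)
    have hKn : K.Normal := inferInstance
    have hne : ((S : Subgroup G) ⊓ K).subgroupOf (S : Subgroup G) ≠ ⊥ := by
      intro h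
      obtain ⟨x, hx⟩ := exists_prime_orderOf_dvd_card' (G := K) 3 h3K
      have hxp : IsPGroup 3 (Subgroup.zpowers (x : G)) :=
        IsPGroup.of_card (n := 1) (by rw [Nat.card_zpowers, Subgroup.orderOf_coe, hx, pow_one])
      obtain ⟨S', hS'⟩ := hxp.exists_le_sylow
      obtain ⟨g, hg⟩ := MulAction.exists_smul_eq G S' S
      have hm : g * x * g⁻¹ ∈ (S : Subgroup G) ⊓ K := by
        refine ⟨?_, hKn.conj_mem _ x.2 g⟩
        rw [← hg, Sylow.coe_subgroup_smul]
        exact ⟨x, hS' (Subgroup.mem_zpowers _), rfl⟩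
      have h1 : (⟨g * x * g⁻¹, hm.1⟩ : (S : Subgroup G)) ∈ ((S : Subgroup G) ⊓ K).subgroupOf (S : Subgroup G) := hm
      rw [h, Subgroup.mem_bot] at h1
      have h2 := conj_eq_one_iff.1 (congrArg Subtype.val h1)
      rw [orderOf_eq_one_iff.2 (Subtype.ext h2)] at hx
      omega
    haveI : (((S : Subgroup G) ⊓ K).subgroupOf (S : Subgroup G)).Normal := by
      rw [Subgroup.inf_subgroupOf_left]
      exact hKn.comap _
    obtain ⟨c, ⟨hcm, hcz⟩, hc1⟩ := CfsgLib.Solvable.exists_ne_one_mem_inf_center_of_normal S.isPGroup' hne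
    have hc : c ∈ ((S : Subgroup G) ⊓ K).subgroupOf (S : Subgroup G) ∧ c ∈ Subgroup.center (S : Subgroup G) := ⟨hcm, hcz⟩
    obtain ⟨a, hz⟩ := IsPGroup.iff_orderOf.1 S.isPGroup' c
    have ha : a ≠ 0 := by rintro rfl; rw [pow_zero, orderOf_eq_one_iff] at hz; exact hc1 hz
    set e : G := ((c : (S : Subgroup G)) : G) ^ 3 ^ (a - 1) with hedef
    have heord : orderOf e = 3 := by
      rw [hedef, orderOf_pow, Subgroup.orderOf_coe, hz, Nat.gcd_eq_right (pow_dvd_pow 3 (by omega)),
        Nat.pow_div (by omega) (by norm_num), show a - (a - 1) = 1 by omega, pow_one]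
    have heK : e ∈ K := pow_mem hc.1.2 _
    have hed : Commute e d :=
      ((congrArg Subtype.val (Subgroup.mem_center_iff.1 hc.2 ⟨d, hdS⟩) :
        d * ((c : (S : Subgroup G)) : G) = c * d) |> fun h => (show Commute ((c : (S : Subgroup G)) : G) d from h.symm).pow_left _)
    -- `d` has order three
    have hdord : orderOf d = 3 := by
      have hk1 : 1 ≤ k := by
        by_contra h
        obtain rfl : k = 0 := by omega
        exact hd1 (orderOf_eq_one_iff.1 (by rw [hk, pow_zero]))
      refine Cfsg.Agent.S3738.result d k hk1 hk Q hQp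
        (Subgroup.le_normalizer_of_normal (Subgroup.mem_top d)) ?_ ?_ ?_
      · rw [eq_bot_iff]
        intro x hx
        rw [Subgroup.mem_bot]
        obtain ⟨i, hi⟩ := IsPGroup.iff_orderOf.1 hd ⟨x, hx.1⟩
        obtain ⟨j, hj⟩ := IsPGroup.iff_orderOf.1 hQp ⟨x, hchar hx.2⟩
        rw [Subgroup.orderOf_mk] at hi hj
        exact orderOf_eq_one_iff.1 (Nat.eq_one_of_dvd_coprimes (show (3 ^ i).Coprime (2 ^ j) from
          Nat.Coprime.pow i j (by norm_num)) hi.dvd hj.dvd)
      · by_contra hne
        obtain ⟨x, hx, hx1⟩ := (Subgroup.bot_or_exists_ne_one _).resolve_left hne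
        obtain ⟨j, hj⟩ := IsPGroup.iff_orderOf.1 hQp ⟨x, hx.1⟩
        rw [Subgroup.orderOf_mk] at hj
        have hj0 : j ≠ 0 := by rintro rfl; rw [pow_zero, orderOf_eq_one_iff] at hj; exact hx1 hj
        have hord : orderOf (x ^ 2 ^ (j - 1)) = 2 := by
          rw [orderOf_pow, hj, Nat.gcd_eq_right (pow_dvd_pow 2 (by omega)), Nat.pow_div (by omega) two_pos,
            show j - (j - 1) = 1 by omega, pow_one]
        have hm : x ^ 2 ^ (j - 1) ∈ W ⊓ Subgroup.centralizer {d} :=
          ⟨hQinv _ (pow_mem hx.1 _) (by have h := pow_orderOf_eq_one (x ^ 2 ^ (j - 1)); rwa [hord] at h), pow_mem hx.2 _⟩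
        rw [hfpf, Subgroup.mem_bot] at hm
        rw [hm, orderOf_one] at hord
        omega
      · intro V _ hV A hA hA2
        refine le_trans ?_ (hrk (A.map V.subtype) ?_ ?_)
        · rw [Subgroup.card_map_of_injective V.subtype_injective]
        · haveI := hA; infer_instance
        · rintro _ ⟨x, hx, rfl⟩
          exact congrArg Subtype.val (hA2 x hx)
    set B := Subgroup.closure ({e, d} : Set G) with hB
    haveI hBc : IsMulCommutative B := Subgroup.isMulCommutative_closure (by
      rintro x (rfl | rfl) y (rfl | rfl)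
      · rfl
      · exact hed.eq
      · exact hed.eq.symm
      · rfl)
    have hBab : ∀ x ∈ B, ∀ y ∈ B, Commute x y := fun x hx y hy =>
      congrArg Subtype.val (mul_comm' (⟨x, hx⟩ : B) ⟨y, hy⟩)
    have heB : e ∈ B := Subgroup.subset_closure (Set.mem_insert _ _)
    have hdB : d ∈ B := Subgroup.subset_closure (Set.mem_insert_of_mem _ rfl)
    have hB3 : ∀ x ∈ B, x ^ 3 = 1 := by
      intro x hx
      rw [hB] at hx
      induction hx using Subgroup.closure_induction with
      | mem y hy =>
        rcases hy with rfl | rfl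
        · rw [← heord]; exact pow_orderOf_eq_one _
        · rw [← hdord]; exact pow_orderOf_eq_one _
      | one => exact one_pow 3
      | mul u v hu hv h1 h2 => rw [(hBab u hu v hv).mul_pow, h1, h2, one_mul]
      | inv u _ h1 => rw [inv_pow, h1, inv_one]
    have hBform : ∀ x ∈ B, ∃ i j : ℤ, x = e ^ i * d ^ j := by
      intro x hx
      rw [hB] at hx
      induction hx using Subgroup.closure_induction with
      | mem y hy =>
        rcases hy with rfl | rfl
        · exact ⟨1, 0, by simp⟩
        · exact ⟨0, 1, by simp⟩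
      | one => exact ⟨0, 0, by simp⟩
      | mul u v hu hv h1 h2 =>
        obtain ⟨i, j, rfl⟩ := h1
        obtain ⟨i', j', rfl⟩ := h2
        refine ⟨i + i', j + j', ?_⟩
        rw [zpow_add, zpow_add, mul_assoc, ← mul_assoc (d ^ j), (hed.symm.zpow_zpow j i').eq]
        simp [mul_assoc]
      | inv u _ h1 =>
        obtain ⟨i, j, rfl⟩ := h1
        exact ⟨-i, -j, by rw [mul_inv_rev, ← zpow_neg, ← zpow_neg, (hed.symm.zpow_zpow (-j) (-i)).eq]⟩
    refine CfsgLib.FGS68.false_of_nine_dvd (P := Q) (B := B) (e := e) hQp hWQ hW4 hW2 hQinv hBab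
      (fun x _ => Subgroup.le_normalizer_of_normal (Subgroup.mem_top x)) ?_ ?_ heB heord
      (fun w hw => (Subgroup.mem_centralizer_iff.1 heK w hw).symm) ?_ ?_
    · intro w hw h
      have : w ∈ W ⊓ Subgroup.centralizer {d} :=
        ⟨hw, Subgroup.mem_centralizer_singleton_iff.2 (h d hdB).eq.symm⟩
      rwa [hfpf] at this
    · have hBp : IsPGroup 3 B := fun x => ⟨1, Subtype.ext (by simpa using hB3 x x.2)⟩
      obtain ⟨j, hj⟩ := hBp.exists_card_eq
      have hlt : Nat.card (Subgroup.zpowers e) < Nat.card B :=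
        Set.Finite.card_lt_card (Set.toFinite _) (lt_of_le_of_ne (Subgroup.zpowers_le.2 heB)
          fun h => hdK ((Subgroup.zpowers_le.2 heK) (show d ∈ ((Subgroup.zpowers e : Subgroup G) : Set G) by rw [h]; exact hdB)))
      rw [Nat.card_zpowers, heord, hj] at hlt
      rw [hj]
      have : 2 ≤ j := by
        by_contra h
        have := Nat.pow_le_pow_right (show 1 ≤ 3 by norm_num) (show j ≤ 1 by omega)
        omega
      exact pow_dvd_pow 3 this
    · by_contra h
      push Not at h
      obtain ⟨j, hj⟩ := IsPGroup.iff_orderOf.1 hQp ⟨e, hchar (Subgroup.mem_centralizer_iff.2 fun x hx => (h x hx).eq.symm)⟩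
      rw [Subgroup.orderOf_mk, heord] at hj
      have : 2 ∣ 3 ∨ j = 0 := by
        rcases Nat.eq_zero_or_pos j with h | h
        · exact Or.inr h
        · exact Or.inl (hj ▸ dvd_pow_self 2 (by omega))
      rcases this with h | h
      · norm_num at h
      · rw [h] at hj; norm_num at hj
    · intro f hf hf1 hfW
      obtain ⟨i, j, rfl⟩ := hBform f hf
      have hdj : d ^ j ∈ K := by
        have h1 : e ^ i * d ^ j ∈ K := Subgroup.mem_centralizer_iff.2 fun w hw => (hfW w hw).eq.symm
        simpa using mul_mem (inv_mem (zpow_mem heK i)) h1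
      have hj0 : d ^ j = 1 := by
        by_contra h
        refine hdK ((Subgroup.zpowers_le.2 hdj) ?_)
        have hcop := orderOf_eq_prime (by rw [← zpow_natCast, ← zpow_mul, mul_comm, zpow_mul, zpow_natCast, ← hdord, pow_orderOf_eq_one, one_zpow]) h (p := 3)
        have hsub : Subgroup.zpowers (d ^ j) = Subgroup.zpowers d := Subgroup.eq_of_le_of_card_ge
          (Subgroup.zpowers_le.2 (zpow_mem (Subgroup.mem_zpowers d) j)) (by
            rw [Nat.card_zpowers, Nat.card_zpowers, hcop, hdord])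
        rw [hsub]
        exact Subgroup.mem_zpowers d
      rw [hj0, mul_one] at hf1 ⊢
      have hsub : Subgroup.zpowers (e ^ i) = Subgroup.zpowers e := Subgroup.eq_of_le_of_card_ge
        (Subgroup.zpowers_le.2 (zpow_mem (Subgroup.mem_zpowers e) i)) (by
          rw [Nat.card_zpowers, Nat.card_zpowers, heord,
            orderOf_eq_prime (by rw [← zpow_natCast, ← zpow_mul, mul_comm, zpow_mul, zpow_natCast, ← heord, pow_orderOf_eq_one, one_zpow]) hf1 (p := 3)])
      rw [hsub]
      exact Subgroup.mem_zpowers e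
  · -- the element of order six
    obtain ⟨g, hg⟩ := hsix
    set e := g ^ 2
    set t := g ^ 3
    have he : orderOf e = 3 := by
      rw [orderOf_pow, hg]; rfl
    have ht : orderOf t = 2 := by
      rw [orderOf_pow, hg]; rfl
    have heK : e ∉ K := fun h => h3K (he ▸ (Subgroup.orderOf_dvd_natCard K h))
    have htp : IsPGroup 2 (Subgroup.zpowers t) := IsPGroup.of_card (n := 1) (by rw [Nat.card_zpowers, ht, pow_one])
    have het : e ∈ Subgroup.normalizer ((Subgroup.zpowers t : Subgroup G) : Set G) := by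
      refine Subgroup.centralizer_le_normalizer _ (Subgroup.mem_centralizer_iff.2 ?_)
      rintro _ ⟨i, rfl⟩
      exact ((Commute.pow_pow_self g 3 2).zpow_left i).eq
    obtain ⟨hc, hinv⟩ := CfsgLib.FGS68.four_central (T := Q ⊔ Subgroup.zpowers t)
      (hQp.to_sup_of_normal_left htp) (hWQ.trans le_sup_left) hW4 hWab hW2 (hnorm _ e het)
      (hfix_of e he heK) (fun E _ h1 h2 => hrk E h1 h2) (hWn e)
    have htW : t ∈ W := hinv t (Subgroup.mem_sup_right (Subgroup.mem_zpowers t))
      (by rw [← ht]; exact pow_orderOf_eq_one t)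
    have : t ∈ W ⊓ Subgroup.centralizer {e} :=
      ⟨htW, Subgroup.mem_centralizer_singleton_iff.2 (Commute.pow_pow_self g 3 2).eq⟩
    rw [hfix_of e he heK, Subgroup.mem_bot] at this
    rw [this, orderOf_one] at ht
    omega


end Cfsg.Agent.S3739
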