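import Cfsg.Statements.S3740
import Cfsg.Agent.Lib.Solvable.CoprimeAction
import Cfsg.Agent.Lib.Solvable.UniqueInvolution
import Mathlib

set_option autoImplicit false
open Cfsg

set_option linter.style.haveILetI false
open scoped commutatorElement MatrixGroups

namespace Cfsg.Agent.S3740

variable {F : Type} [Field F]

theorem exists_affine_of_commute {A B : Matrix (Fin 2) (Fin 2) F}
    (hA : ∀ c : F, A ≠ c • 1) (h : A * B = B * A) : ∃ α β : F, B = α • 1 + β • A := by
  have h00 := congrFun (congrFun h 0) 0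
  have h01 := congrFun (congrFun h 0) 1
  have h10 := congrFun (congrFun h 1) 0
  simp only [Matrix.mul_apply, Fin.sum_univ_two] at h00 h01 h10
  by_cases hb : A 0 1 = 0
  · by_cases hc : A 1 0 = 0
    · have had : A 0 0 - A 1 1 ≠ 0 := fun e => hA (A 0 0) (by
        ext i j; fin_cases i <;> fin_cases j <;> simp [hb, hc, sub_eq_zero.1 e])
      refine ⟨B 0 0 - (B 0 0 - B 1 1) / (A 0 0 - A 1 1) * A 0 0,
        (B 0 0 - B 1 1) / (A 0 0 - A 1 1), ?_⟩
      have e01 : B 0 1 = 0 :=
        (mul_eq_zero.1 (show (A 0 0 - A 1 1) * B 0 1 = 0 by linear_combination h01 + (B 0 0 - B 1 1) * hb)).resolve_left had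
      have e10 : B 1 0 = 0 :=
        (mul_eq_zero.1 (show (A 0 0 - A 1 1) * B 1 0 = 0 by linear_combination -h10 + (B 0 0 - B 1 1) * hc)).resolve_left had
      ext i j
      fin_cases i <;> fin_cases j <;> simp [hb, hc, e01, e10] <;> field_simp <;> ring
    · refine ⟨B 0 0 - B 1 0 / A 1 0 * A 0 0, B 1 0 / A 1 0, ?_⟩
      ext i j
      fin_cases i <;> fin_cases j <;> simp <;> field_simp <;> grind
  · refine ⟨B 0 0 - B 0 1 / A 0 1 * A 0 0, B 0 1 / A 0 1, ?_⟩
    ext i j
    fin_cases i <;> fin_cases j <;> simp <;> field_simp <;> grind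

/-- An element is scalar. -/
def IsScal (x : SL(2, F)) : Prop := ∃ c : F, (x : Matrix (Fin 2) (Fin 2) F) = c • 1

theorem IsScal.comm {x : SL(2, F)} (h : IsScal x) (y : SL(2, F)) : x * y = y * x := by
  obtain ⟨c, hc⟩ := h
  apply Subtype.ext
  show (x : Matrix (Fin 2) (Fin 2) F) * y = y * x
  rw [hc, smul_mul_assoc, one_mul, mul_smul_comm, mul_one]

theorem isScal_one : IsScal (1 : SL(2, F)) := ⟨1, by simp⟩

theorem IsScal.eq_or {x : SL(2, F)} (h : IsScal x) : x = 1 ∨ x = -1 := by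
  obtain ⟨c, hc⟩ := h
  have hd := x.2
  rw [hc, Matrix.det_smul, Matrix.det_one, mul_one, Fintype.card_fin] at hd
  rcases sq_eq_one_iff.1 hd with rfl | rfl
  · left; apply Subtype.ext; rw [hc, one_smul]; rfl
  · right; apply Subtype.ext; rw [hc, neg_smul, one_smul]; rfl

theorem not_isScal_coe {x : SL(2, F)} (h : ¬ IsScal x) :
    ∀ c : F, (x : Matrix (Fin 2) (Fin 2) F) ≠ c • 1 := fun c hc => h ⟨c, hc⟩

/-- Cayley-Hamilton. -/
theorem sq_eq (A : Matrix (Fin 2) (Fin 2) F) : A * A = A.trace • A - A.det • 1 := by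
  ext i j
  fin_cases i <;> fin_cases j <;>
    simp [Matrix.mul_apply, Fin.sum_univ_two, Matrix.trace_fin_two, Matrix.det_fin_two] <;> ring

theorem coe_sq (x : SL(2, F)) : ((x ^ 2 : SL(2, F)) : Matrix (Fin 2) (Fin 2) F) =
    (x : Matrix (Fin 2) (Fin 2) F).trace • (x : Matrix (Fin 2) (Fin 2) F) - 1 := by
  rw [Matrix.SpecialLinearGroup.coe_pow, pow_two, sq_eq, x.2, one_smul]

/-- An involution is scalar in odd characteristic. -/
theorem isScal_of_sq_eq_one (h2 : (2 : F) ≠ 0) {x : SL(2, F)} (h : x ^ 2 = 1) : IsScal x := by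
  have h1 := coe_sq x
  rw [h, Matrix.SpecialLinearGroup.coe_one, eq_sub_iff_add_eq] at h1
  refine ⟨2 / (x : Matrix (Fin 2) (Fin 2) F).trace, ?_⟩
  have ht : (x : Matrix (Fin 2) (Fin 2) F).trace ≠ 0 := by
    intro ht
    rw [ht, zero_smul] at h1
    have := congrFun (congrFun h1 0) 0
    simp at this
    exact h2 (by linear_combination this)
  conv_lhs => rw [← inv_smul_smul₀ ht (x : Matrix (Fin 2) (Fin 2) F), ← h1]
  rw [div_eq_inv_mul, mul_smul, two_smul]

/-- An element of order four has trace zero. -/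
theorem trace_eq_zero {x : SL(2, F)} (h : x ^ 2 = -1) (hx : ¬ IsScal x) :
    (x : Matrix (Fin 2) (Fin 2) F).trace = 0 := by
  have h1 := coe_sq x
  rw [h, Matrix.SpecialLinearGroup.coe_neg, Matrix.SpecialLinearGroup.coe_one] at h1
  by_contra ht
  have h2 : (x : Matrix (Fin 2) (Fin 2) F).trace • (x : Matrix (Fin 2) (Fin 2) F) = 0 := by
    calc _ = (x : Matrix (Fin 2) (Fin 2) F).trace • (x : Matrix (Fin 2) (Fin 2) F) - 1 + 1 := by abel
      _ = 0 := by rw [← h1]; abel
  refine hx ⟨0, ?_⟩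
  rw [zero_smul]
  exact (smul_eq_zero.1 h2).resolve_left ht

theorem commute_of_commute_nonscalar {z x y : SL(2, F)} (hz : ¬ IsScal z) (hx : x * z = z * x)
    (hy : y * z = z * y) : x * y = y * x := by
  obtain ⟨a, b, hab⟩ := exists_affine_of_commute (not_isScal_coe hz)
    (congrArg Subtype.val hx.symm : (z : Matrix (Fin 2) (Fin 2) F) * x = x * z)
  have hy' : (y : Matrix (Fin 2) (Fin 2) F) * z = z * y := congrArg Subtype.val hy
  apply Subtype.ext
  show (x : Matrix (Fin 2) (Fin 2) F) * y = y * x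
  rw [hab, add_mul, mul_add, smul_mul_assoc, one_mul, mul_smul_comm, mul_one, smul_mul_assoc,
    mul_smul_comm, hy']

variable {p : ℕ} [Fact p.Prime] [CharP F p]

theorem add_smul_one_pow (A : Matrix (Fin 2) (Fin 2) F) (c : F) :
    (c • (1 : Matrix (Fin 2) (Fin 2) F) + A) ^ p = c ^ p • 1 + A ^ p := by
  have h : Commute (c • (1 : Matrix (Fin 2) (Fin 2) F)) A := (Commute.one_left A).smul_left c
  rw [add_pow_char_of_commute _ h, smul_pow, one_pow]

theorem mat_sub_one_sq_eq_zero {a : SL(2, F)} (ha : IsPGroup p (Subgroup.zpowers a)) :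
    ((a : Matrix (Fin 2) (Fin 2) F) - 1) * ((a : Matrix (Fin 2) (Fin 2) F) - 1) = 0 := by
  obtain ⟨k, hk⟩ := ha ⟨a, Subgroup.mem_zpowers a⟩
  have h1 : (a : Matrix (Fin 2) (Fin 2) F) ^ p ^ k = 1 := by
    rw [← Matrix.SpecialLinearGroup.coe_pow]
    have : a ^ p ^ k = 1 := by simpa using congrArg Subtype.val hk
    rw [this, Matrix.SpecialLinearGroup.coe_one]
  have hn : IsNilpotent ((a : Matrix (Fin 2) (Fin 2) F) - 1) := ⟨p ^ k, by
    rw [sub_pow_char_pow_of_commute _ _ (Commute.one_right _), h1, one_pow, sub_self]⟩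
  set N := (a : Matrix (Fin 2) (Fin 2) F) - 1
  have h2 := sq_eq N
  have hd : N.det = 0 := by
    obtain ⟨m, hm⟩ := hn
    have h3 := congrArg Matrix.det hm
    rw [Matrix.det_pow, Matrix.det_zero] at h3
    exact pow_eq_zero_iff'.1 h3 |>.1
  have ht : N.trace = 0 := (Matrix.isNilpotent_trace_of_isNilpotent hn).eq_zero
  rw [h2, hd, ht, zero_smul, zero_smul, sub_zero]

theorem isScal_of_commute {a x : SL(2, F)} (ha : IsPGroup p (Subgroup.zpowers a)) (ha1 : a ≠ 1)
    (hx : (orderOf x).Coprime p) (hxa : x * a = a * x) : IsScal x := by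
  set N := (a : Matrix (Fin 2) (Fin 2) F) - 1 with hN
  have hNN : N * N = 0 := mat_sub_one_sq_eq_zero ha
  have hnsc : ∀ c : F, N ≠ c • 1 := fun c hc => by
    rw [hc, smul_mul_smul_comm, one_mul, smul_eq_zero] at hNN
    rcases hNN with h | h
    · rw [mul_self_eq_zero.1 h, zero_smul, sub_eq_zero] at hc
      exact ha1 (Subtype.ext hc)
    · exact one_ne_zero h
  have hc : N * (x : Matrix (Fin 2) (Fin 2) F) = x * N := by
    rw [hN, sub_mul, mul_sub, one_mul, mul_one]
    exact congrArg (· - (x : Matrix (Fin 2) (Fin 2) F)) (congrArg Subtype.val hxa.symm)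
  obtain ⟨α, β, h⟩ := exists_affine_of_commute hnsc hc
  have hNp : N ^ p = 0 := by
    obtain ⟨m, hm⟩ := Nat.exists_eq_add_of_le (Fact.out : p.Prime).two_le
    rw [hm, pow_add, pow_two, hNN, zero_mul]
  have hxp : IsScal (x ^ p) := ⟨α ^ p, by
    rw [Matrix.SpecialLinearGroup.coe_pow, h, add_smul_one_pow, smul_pow, hNp, smul_zero, add_zero]⟩
  obtain ⟨j, hj⟩ := exists_pow_eq_self_of_coprime (x := x) (n := p) hx.symm
  obtain ⟨c, hc⟩ := hxp
  exact ⟨c ^ j, by rw [← hj, Matrix.SpecialLinearGroup.coe_pow, hc, smul_pow, one_pow]⟩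

theorem commute_of_conj_commute (h2 : (2 : F) ≠ 0) {a z : SL(2, F)}
    (ha : Odd (orderOf a)) (hzp : (orderOf z).Coprime p) (hz : ¬ IsScal z)
    (h : a * z * a⁻¹ * z = z * (a * z * a⁻¹)) : a * z = z * a := by
  set w := a * z * a⁻¹ with hw
  obtain ⟨α, β, hab⟩ := exists_affine_of_commute (not_isScal_coe hz)
    (congrArg Subtype.val h.symm : (z : Matrix (Fin 2) (Fin 2) F) * w = w * z)
  set t := (z : Matrix (Fin 2) (Fin 2) F).trace
  have htw : (w : Matrix (Fin 2) (Fin 2) F).trace = t := by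
    rw [hw, Matrix.SpecialLinearGroup.coe_mul, Matrix.SpecialLinearGroup.coe_mul, mul_assoc,
      Matrix.trace_mul_comm, mul_assoc, ← Matrix.SpecialLinearGroup.coe_mul, inv_mul_cancel,
      Matrix.SpecialLinearGroup.coe_one, mul_one]
  have htr : t = 2 * α + β * t := by
    conv_lhs => rw [← htw, hab]
    simp [Matrix.trace_add, Matrix.trace_smul, t]
    ring
  set Z₀ : Matrix (Fin 2) (Fin 2) F := (z : Matrix (Fin 2) (Fin 2) F) - (t / 2) • 1 with hZ₀
  have hW₀ : (w : Matrix (Fin 2) (Fin 2) F) - (t / 2) • 1 = β • Z₀ := by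
    have hα : α = t / 2 - β * (t / 2) := by field_simp; linear_combination -htr
    rw [hab, hZ₀, smul_sub, smul_smul, hα, sub_smul]
    abel
  have hsq : ∀ g : SL(2, F), (g : Matrix (Fin 2) (Fin 2) F).trace = t →
      ((g : Matrix (Fin 2) (Fin 2) F) - (t / 2) • 1) * ((g : Matrix (Fin 2) (Fin 2) F) - (t / 2) • 1) =
        ((t / 2) ^ 2 - 1) • (1 : Matrix (Fin 2) (Fin 2) F) := by
    intro g hg
    rw [sub_mul, mul_sub, mul_sub, sq_eq, g.2, hg]
    simp only [smul_mul_assoc, mul_smul_comm, one_mul, mul_one, smul_smul, one_smul]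
    rw [sub_smul, one_smul, show t • (g : Matrix (Fin 2) (Fin 2) F) =
      (t / 2) • (g : Matrix (Fin 2) (Fin 2) F) + (t / 2) • (g : Matrix (Fin 2) (Fin 2) F) by
        rw [← add_smul]; congr 1; field_simp; ring, pow_two]
    abel
  have hD : (t / 2) ^ 2 - 1 ≠ 0 := by
    intro hD
    have hz2 : Z₀ * Z₀ = 0 := by rw [hZ₀, hsq z rfl, hD, zero_smul]
    have hzP : IsScal (z ^ p) := ⟨(t / 2) ^ p, by
      rw [Matrix.SpecialLinearGroup.coe_pow,
        show (z : Matrix (Fin 2) (Fin 2) F) = (t / 2) • 1 + Z₀ by rw [hZ₀]; abel, add_smul_one_pow]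
      obtain ⟨m, hm⟩ := Nat.exists_eq_add_of_le (Fact.out : p.Prime).two_le
      rw [show Z₀ ^ p = 0 by rw [hm, pow_add, pow_two, hz2, zero_mul], add_zero]⟩
    obtain ⟨j, hj⟩ := exists_pow_eq_self_of_coprime (x := z) (n := p) hzp.symm
    obtain ⟨c, hc⟩ := hzP
    exact hz ⟨c ^ j, by rw [← hj, Matrix.SpecialLinearGroup.coe_pow, hc, smul_pow, one_pow]⟩
  have hβ : β * β = 1 := by
    have h1 := hsq w htw
    rw [hW₀, smul_mul_smul_comm, hZ₀, hsq z rfl, smul_smul] at h1
    have h3 := congrFun (congrFun h1 0) 0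
    simp at h3
    exact mul_right_cancel₀ hD (h3.trans (one_mul _).symm)
  have ha2 : a ^ 2 * z = z * a ^ 2 := by
    have key : a * w * a⁻¹ = z := by
      apply Subtype.ext
      have h5 : (w : Matrix (Fin 2) (Fin 2) F) = α • 1 + β • (z : Matrix (Fin 2) (Fin 2) F) := hab
      have h6 : ((a * w * a⁻¹ : SL(2, F)) : Matrix (Fin 2) (Fin 2) F) =
          α • 1 + β • ((a * z * a⁻¹ : SL(2, F)) : Matrix (Fin 2) (Fin 2) F) := by
        simp only [Matrix.SpecialLinearGroup.coe_mul, h5, mul_add, add_mul, mul_smul_comm, smul_mul_assoc,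
          mul_one]
        rw [← Matrix.SpecialLinearGroup.coe_mul a a⁻¹, mul_inv_cancel, Matrix.SpecialLinearGroup.coe_one]
      rw [← hw, h5] at h6
      rw [h6, smul_add, smul_smul, smul_smul, hβ, one_smul, ← add_assoc, ← add_smul]
      rcases mul_self_eq_one_iff.1 hβ with rfl | rfl
      · have : (2 : F) * α = 0 := by linear_combination -htr
        rw [(mul_eq_zero.1 this).resolve_left h2]
        simp
      · simp
    calc a ^ 2 * z = a * (a * z * a⁻¹) * a⁻¹ * a ^ 2 := by rw [pow_two]; group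
      _ = z * a ^ 2 := by rw [← hw, key]
  obtain ⟨m, hm⟩ := ha
  have h7 : a = (a ^ 2) ^ (m + 1) := by
    rw [← pow_mul, show 2 * (m + 1) = orderOf a + 1 by omega, pow_succ, pow_orderOf_eq_one, one_mul]
  have h8 : Commute ((a ^ 2) ^ (m + 1)) z := Commute.pow_left ha2 _
  rw [← h7] at h8
  exact h8


/-- Let F be a finite field of odd characteristic p and let a be a p-element of SL₂(F) normalizing a subgroup R of order prime to p with [R, a] ≠ 1. Then p = 3, R is a quaternion group of order 8, and R⟨a⟩ is isomorphic to SL₂(3). -/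
theorem result (F : Type) [Field F] [Fintype F] {p : ℕ} [Fact p.Prime] [CharP F p] (hp : p ≠ 2) (a : Matrix.SpecialLinearGroup (Fin 2) F) (ha : IsPGroup p ↥(Subgroup.zpowers a)) (R : Subgroup (Matrix.SpecialLinearGroup (Fin 2) F)) (hR : (Nat.card R).Coprime p) (haR : a ∈ Subgroup.normalizer (R : Set (Matrix.SpecialLinearGroup (Fin 2) F))) (hnt : ⁅R, Subgroup.zpowers a⁆ ≠ ⊥) : p = 3 ∧ Nonempty (↥R ≃* QuaternionGroup 2) ∧ Nonempty (↥(R ⊔ Subgroup.zpowers a) ≃* Matrix.SpecialLinearGroup (Fin 2) (ZMod 3)) := by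
  classical
  have hp' : p.Prime := Fact.out
  have h2 : (2 : F) ≠ 0 := by
    intro h
    have h1 : ((2 : ℕ) : F) = 0 := by simpa using h
    rw [CharP.cast_eq_zero_iff F p] at h1
    exact hp ((Nat.prime_dvd_prime_iff_eq hp' Nat.prime_two).1 h1)
  have hodd : Odd (orderOf a) := by
    obtain ⟨k, hk⟩ := IsPGroup.iff_card.1 ha
    rw [Nat.card_zpowers] at hk
    rw [hk]; exact (hp'.odd_of_ne_two hp).pow
  have ha1 : a ≠ 1 := fun h => hnt (by rw [h, Subgroup.zpowers_one_eq_bot, Subgroup.commutator_bot_right])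
  have hpord : p ∣ orderOf a := by
    obtain ⟨k, hk⟩ := IsPGroup.iff_card.1 ha
    rw [Nat.card_zpowers] at hk
    rw [hk]
    exact dvd_pow_self p fun h0 => ha1 (orderOf_eq_one_iff.1 (by rw [hk, h0, pow_zero]))
  have hRp : ∀ x ∈ R, (orderOf x).Coprime p := fun x hx =>
    Nat.Coprime.coprime_dvd_left (Subgroup.orderOf_dvd_natCard R hx) hR
  have hAR : Subgroup.zpowers a ≤ Subgroup.normalizer (R : Set SL(2, F)) := Subgroup.zpowers_le.2 haR
  -- invariant abelian subgroups consist of scalars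
  have habsc : ∀ U ≤ R, a ∈ Subgroup.normalizer (U : Set SL(2, F)) →
      (∀ x ∈ U, ∀ y ∈ U, x * y = y * x) → ∀ x ∈ U, IsScal x := by
    intro U hUR haU hcomm x hx
    by_contra hsc
    have h1 := commute_of_conj_commute (p := p) h2 hodd (hRp x (hUR hx)) hsc
      (hcomm _ ((Subgroup.mem_normalizer_iff.1 haU x).1 hx) x hx)
    exact hsc (isScal_of_commute ha ha1 (hRp x (hUR hx)) h1.symm)
  have hcopA : (Nat.card (Subgroup.zpowers a)).Coprime (Nat.card R) := by
    obtain ⟨k, hk⟩ := IsPGroup.iff_card.1 ha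
    rw [hk]
    exact Nat.Coprime.pow_left _ hR.symm
  haveI hAsol : Group.IsSolvable (Subgroup.zpowers a) :=
    Group.isSolvable_of_comm IsCyclic.commGroup.mul_comm
  -- only the prime two divides the order of `R`
  have hR2 : IsPGroup 2 R := by
    rw [IsPGroup.iff_card]
    refine ⟨_, Nat.eq_prime_pow_of_unique_prime_dvd Nat.card_pos.ne' fun {q} hq hqR => ?_⟩
    by_contra hq2
    haveI : Fact q.Prime := ⟨hq⟩
    obtain ⟨Q, hQ⟩ := CfsgLib.Solvable.exists_invariant_sylow hAR hcopA (Or.inl hAsol) q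
    have hQq : IsPGroup q (Q : Subgroup R) := Q.isPGroup'
    haveI hQnt : Nontrivial (Q : Subgroup R) :=
      (Subgroup.nontrivial_iff_ne_bot _).2 (Q.ne_bot_of_dvd_card hqR)
    have hsc : ∀ w : R, w ∈ (Q : Subgroup R) → IsScal (w : SL(2, F)) → w = 1 := by
      intro w hw hws
      rcases hws.eq_or with h | h
      · exact Subtype.ext h
      · exfalso
        have h3 : (w : SL(2, F)) ^ 2 = 1 := by rw [h, neg_one_sq]
        obtain ⟨k, hk⟩ := hQq ⟨w, hw⟩
        have h4 : (w : SL(2, F)) ^ q ^ k = 1 := by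
          have := congrArg (fun v : (Q : Subgroup R) => ((v : R) : SL(2, F))) hk
          simpa using this
        have h5 : orderOf (w : SL(2, F)) = 1 := Nat.eq_one_of_dvd_coprimes
          (Nat.Coprime.pow_right k ((Nat.coprime_primes Nat.prime_two hq).2 (fun e => hq2 e.symm)))
          (orderOf_dvd_of_pow_eq_one h3) (orderOf_dvd_of_pow_eq_one h4)
        rw [orderOf_eq_one_iff, h] at h5
        have h6 := congrFun (congrFun (congrArg Subtype.val h5) 0) 0
        simp at h6
        exact h2 (by linear_combination -h6)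
    haveI := hQq.center_nontrivial
    obtain ⟨⟨z, hzc⟩, hz1⟩ := exists_ne (1 : Subgroup.center (Q : Subgroup R))
    have hzns : ¬ IsScal (((z : R)) : SL(2, F)) := fun h => hz1 (Subtype.ext (Subtype.ext (hsc _ z.2 h)))
    have hcomm : ∀ x ∈ (Q : Subgroup R).map R.subtype, ∀ y ∈ (Q : Subgroup R).map R.subtype,
        x * y = y * x := by
      rintro _ ⟨x, hx, rfl⟩ _ ⟨y, hy, rfl⟩
      exact commute_of_commute_nonscalar hzns
        (congrArg (fun v : (Q : Subgroup R) => ((v : R) : SL(2, F))) (Subgroup.mem_center_iff.1 hzc ⟨x, hx⟩))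
        (congrArg (fun v : (Q : Subgroup R) => ((v : R) : SL(2, F))) (Subgroup.mem_center_iff.1 hzc ⟨y, hy⟩))
    exact hzns (habsc _ (Subgroup.map_subtype_le _) (hQ (Subgroup.mem_zpowers a)) hcomm _ ⟨(z : R), z.2, rfl⟩)
  -- `R` is not commutative
  have hns : ∃ x ∈ R, ¬ IsScal x := by
    by_contra h
    push Not at h
    apply hnt
    rw [Subgroup.commutator_eq_bot_iff_le_centralizer]
    exact fun x hx y _ => ((h x hx).comm y).symm
  have hnab : ¬ ∀ x ∈ R, ∀ y ∈ R, x * y = y * x := fun h => by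
    obtain ⟨x, hx, hxs⟩ := hns
    exact hxs (habsc R le_rfl haR h x hx)
  rcases CfsgLib.Solvable.isCyclic_or_quaternion_of_unique_involution hR2 (fun u v hu hu1 hv hv1 => by
      have key : ∀ w : R, w ^ 2 = 1 → w ≠ 1 → (w : SL(2, F)) = -1 := fun w hw hw1 =>
        (isScal_of_sq_eq_one h2 (congrArg Subtype.val hw)).eq_or.resolve_left fun e => hw1 (Subtype.ext e)
      exact Subtype.ext ((key u hu hu1).trans (key v hv hv1).symm)) with hcyc | ⟨k, ⟨e⟩⟩
  · exact absurd (fun x hx y hy =>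
      congrArg Subtype.val (IsCyclic.commGroup.mul_comm (⟨x, hx⟩ : R) ⟨y, hy⟩)) hnab
  have hk1 : k ≠ 0 := by
    rintro rfl
    apply hnab
    intro x hx y hy
    have h := (by decide : ∀ u v : QuaternionGroup 1, u * v = v * u) (e ⟨x, hx⟩) (e ⟨y, hy⟩)
    rw [← map_mul, ← map_mul] at h
    exact congrArg Subtype.val (e.injective h)
  have hk2 : k < 2 := by
    by_contra hk2
    push Not at hk2
    haveI : NeZero (2 ^ k) := ⟨pow_ne_zero _ two_ne_zero⟩
    have hm : 4 ≤ 2 ^ k := le_trans (by norm_num) (Nat.pow_le_pow_right (by norm_num : 0 < 2) hk2)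
    set y := e.symm (QuaternionGroup.a 1) with hy
    have hyo : orderOf y = 2 * 2 ^ k := by
      rw [hy, MulEquiv.orderOf_eq]; exact QuaternionGroup.orderOf_a_one
    have hbig : ∀ w : R, orderOf w = 2 * 2 ^ k → w ∈ Subgroup.zpowers y := by
      intro w hw
      rw [← MulEquiv.orderOf_eq e] at hw
      cases hew : e w with
      | a i =>
        refine Subgroup.mem_zpowers_iff.2 ⟨(i.val : ℤ), ?_⟩
        rw [zpow_natCast, hy, ← map_pow, QuaternionGroup.a_one_pow, ZMod.natCast_zmod_val, ← hew,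
          MulEquiv.symm_apply_apply]
      | xa i =>
        rw [hew, QuaternionGroup.orderOf_xa] at hw
        omega
    have hU : a ∈ Subgroup.normalizer (((Subgroup.zpowers y).map R.subtype : Subgroup SL(2, F)) : Set SL(2, F)) := by
      refine Subgroup.mem_normalizer_iff_map_conj_eq.2 (Subgroup.eq_of_le_of_card_ge ?_ ?_)
      · rw [MonoidHom.map_zpowers, MonoidHom.map_zpowers, Subgroup.zpowers_le]
        set w : R := R.normalizerMonoidHom ⟨a, haR⟩ y
        have hw : orderOf w = 2 * 2 ^ k := by rw [MulEquiv.orderOf_eq, hyo]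
        obtain ⟨j, hj⟩ := Subgroup.mem_zpowers_iff.1 (hbig w hw)
        exact Subgroup.mem_zpowers_iff.2 ⟨j, by rw [← map_zpow, hj]; rfl⟩
      · exact (Subgroup.card_map_of_injective (MulAut.conj a).injective).ge
    have hys := habsc _ (Subgroup.map_subtype_le _) hU (by
      rintro _ ⟨u, hu, rfl⟩ _ ⟨v, hv, rfl⟩
      rw [← map_mul, ← map_mul]
      congr 1
      obtain ⟨i, rfl⟩ := Subgroup.mem_zpowers_iff.1 hu
      obtain ⟨j, rfl⟩ := Subgroup.mem_zpowers_iff.1 hv
      rw [← zpow_add, ← zpow_add, add_comm]) _ ⟨y, Subgroup.mem_zpowers y, rfl⟩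
    have h3 : (y : SL(2, F)) ^ 2 = 1 := by
      rcases hys.eq_or with h | h <;> rw [show (y : SL(2, F)) = _ from h] <;> simp
    have h4 : orderOf y ≤ 2 := orderOf_le_of_pow_eq_one two_pos (Subtype.ext h3)
    omega
  obtain rfl : k = 1 := by omega
  -- `R` is quaternion of order eight
  have hcardR : Nat.card R = 8 := by
    rw [Nat.card_congr e.toEquiv, Nat.card_eq_fintype_card, QuaternionGroup.card]
    norm_num
  have hsq : ∀ x ∈ R, IsScal x ∨ (x ^ 2 = -1 ∧ ¬ IsScal x) := by
    intro x hx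
    by_cases hs : IsScal x
    · exact Or.inl hs
    refine Or.inr ⟨?_, hs⟩
    have h4 : (x ^ 2) ^ 2 = 1 := by
      have h := (by decide : ∀ u : QuaternionGroup (2 ^ 1), (u ^ 2) ^ 2 = 1) (e ⟨x, hx⟩)
      rw [← map_pow, ← map_pow, ← map_one e] at h
      exact congrArg Subtype.val (e.injective h)
    rcases (isScal_of_sq_eq_one h2 h4).eq_or with h | h
    · exact absurd (isScal_of_sq_eq_one h2 h) hs
    · exact h
  -- the characteristic is three
  have hp3 : p = 3 := by
    let Y := {x : R // ¬ IsScal (x : SL(2, F))}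
    have hst : ∀ (g : Subgroup.zpowers a) (x : Y), ¬ IsScal ((g : SL(2, F)) * (x.1 : SL(2, F)) * (g : SL(2, F))⁻¹) := by
      intro g x h
      refine x.2 ?_
      have := h.comm (g : SL(2, F))
      have h5 : (x.1 : SL(2, F)) = (g : SL(2, F))⁻¹ * ((g : SL(2, F)) * x.1 * (g : SL(2, F))⁻¹) * g := by group
      rw [h5, mul_assoc, this, inv_mul_cancel_left]
      exact h
    letI iY : MulAction (Subgroup.zpowers a) Y :=
      { smul := fun g x => ⟨⟨(g : SL(2, F)) * x.1 * (g : SL(2, F))⁻¹,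
          (Subgroup.mem_normalizer_iff.1 (hAR g.2) _).1 x.1.2⟩, hst g x⟩
        one_smul := fun x => Subtype.ext (Subtype.ext (by
          show ((1 : Subgroup.zpowers a) : SL(2, F)) * x.1 * ((1 : Subgroup.zpowers a) : SL(2, F))⁻¹ = x.1
          simp))
        mul_smul := fun g g' x => Subtype.ext (Subtype.ext (by
          show ((g * g' : Subgroup.zpowers a) : SL(2, F)) * x.1 * ((g * g' : Subgroup.zpowers a) : SL(2, F))⁻¹ =
            (g : SL(2, F)) * ((g' : SL(2, F)) * x.1 * (g' : SL(2, F))⁻¹) * (g : SL(2, F))⁻¹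
          rw [Subgroup.coe_mul]; group)) }
    have hfp : MulAction.fixedPoints (Subgroup.zpowers a) Y = ∅ := by
      refine Set.eq_empty_iff_forall_notMem.2 fun x hx => x.2 ?_
      have h1 := congrArg (fun y : Y => (y.1 : SL(2, F))) (hx ⟨a, Subgroup.mem_zpowers a⟩)
      exact isScal_of_commute ha ha1 (hRp _ x.1.2) (mul_inv_eq_iff_eq_mul.1 h1).symm
    have hmod := ha.card_modEq_card_fixedPoints Y
    rw [show Nat.card (MulAction.fixedPoints (Subgroup.zpowers a) Y) = 0 by rw [hfp]; simp] at hmod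
    obtain ⟨u, hu⟩ := hns
    have hneg : (-1 : SL(2, F)) ∈ R := by
      rcases hsq u hu.1 with h | h
      · exact absurd h hu.2
      · exact h.1 ▸ R.pow_mem hu.1 2
    have hne1 : (1 : SL(2, F)) ≠ -1 := fun h => by
      have h6 := congrFun (congrFun (congrArg Subtype.val h) 0) 0
      simp at h6
      exact h2 (by linear_combination h6)
    have hY : Nat.card Y = 6 := by
      haveI : Fintype R := Fintype.ofFinite R
      have hset : (Finset.univ.filter fun x : R => IsScal (x : SL(2, F))) = {1, ⟨-1, hneg⟩} := by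
        ext x
        simp only [Finset.mem_filter, Finset.mem_univ, true_and, Finset.mem_insert, Finset.mem_singleton]
        refine ⟨fun h => h.eq_or.imp (fun e => Subtype.ext e) (fun e => Subtype.ext e), ?_⟩
        rintro (rfl | rfl)
        · exact isScal_one
        · exact ⟨-1, by simp⟩
      rw [Nat.card_eq_fintype_card, Fintype.card_subtype_compl,
        Fintype.card_subtype (fun x : R => IsScal (x : SL(2, F))), hset,
        Finset.card_pair (fun h => hne1 (congrArg Subtype.val h)),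
        ← Nat.card_eq_fintype_card, hcardR]
    rw [hY] at hmod
    have h6 : p ∣ 2 * 3 := Nat.modEq_zero_iff_dvd.1 hmod
    rcases hp'.dvd_mul.1 h6 with h | h
    · exact absurd ((Nat.prime_dvd_prime_iff_eq hp' Nat.prime_two).1 h) hp
    · exact (Nat.prime_dvd_prime_iff_eq hp' Nat.prime_three).1 h
  subst hp3
  refine ⟨rfl, ⟨e⟩, ?_⟩
  -- a basis in which `R` and `a` have entries in the prime field
  obtain ⟨i, hiR, hins⟩ := hns
  have hisq : i ^ 2 = -1 := ((hsq i hiR).resolve_left hins).1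
  set N := (a : Matrix (Fin 2) (Fin 2) F) - 1 with hNdef
  have hNN : N * N = 0 := mat_sub_one_sq_eq_zero ha
  have hN0 : N ≠ 0 := fun h => ha1 (Subtype.ext (sub_eq_zero.1 h))
  have hI2 : (i : Matrix (Fin 2) (Fin 2) F) * i = -1 := by
    rw [← Matrix.SpecialLinearGroup.coe_mul, ← pow_two, hisq]; simp
  obtain ⟨v, hv⟩ : ∃ v : Fin 2 → F, N.mulVec v ≠ 0 := by
    by_contra h
    push Not at h
    exact hN0 (Matrix.toLin'.injective (LinearMap.ext fun v => by simp [h v]))
  set e₁ := N.mulVec v with he₁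
  set e₂ := (i : Matrix (Fin 2) (Fin 2) F).mulVec e₁ with he₂
  have hNe : N.mulVec e₁ = 0 := by rw [he₁, Matrix.mulVec_mulVec, hNN, Matrix.zero_mulVec]
  have hie : (i : Matrix (Fin 2) (Fin 2) F).mulVec e₂ = -e₁ := by
    rw [he₂, Matrix.mulVec_mulVec, hI2, Matrix.neg_mulVec, Matrix.one_mulVec]
  -- the two vectors are independent
  have hindep : ∀ c : F, e₂ ≠ c • e₁ := by
    intro c hc
    set j := a * i * a⁻¹ with hj
    have hjR : j ∈ R := (Subgroup.mem_normalizer_iff.1 haR i).1 hiR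
    have hjs : ¬ IsScal j := by
      intro h
      refine hins ?_
      have h5 : i = a⁻¹ * j * a := by rw [hj]; group
      rw [h5, mul_assoc, h.comm, inv_mul_cancel_left]
      exact h
    have hae : (a : Matrix (Fin 2) (Fin 2) F).mulVec e₁ = e₁ := by
      rw [show (a : Matrix (Fin 2) (Fin 2) F) = 1 + N by rw [hNdef]; abel, Matrix.add_mulVec,
        Matrix.one_mulVec, hNe, add_zero]
    have hae' : ((a⁻¹ : SL(2, F)) : Matrix (Fin 2) (Fin 2) F).mulVec e₁ = e₁ := by
      conv_lhs => rw [← hae]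
      rw [Matrix.mulVec_mulVec, ← Matrix.SpecialLinearGroup.coe_mul, inv_mul_cancel,
        Matrix.SpecialLinearGroup.coe_one, Matrix.one_mulVec]
    have hje : (j : Matrix (Fin 2) (Fin 2) F).mulVec e₁ = c • e₁ := by
      rw [hj, Matrix.SpecialLinearGroup.coe_mul, Matrix.SpecialLinearGroup.coe_mul, ← Matrix.mulVec_mulVec,
        hae', ← Matrix.mulVec_mulVec, ← he₂, hc, Matrix.mulVec_smul, hae]
    have hc2 : c * c = -1 := by
      have h1 : (c * c - -1) • e₁ = 0 := by
        have h0 : c • c • e₁ = -e₁ := by rw [← hie, hc, Matrix.mulVec_smul, ← he₂, hc]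
        rw [sub_smul, mul_smul, h0]; simp
      exact sub_eq_zero.1 ((smul_eq_zero.1 h1).resolve_right hv)
    -- `i * j` fixes the line with eigenvalue `-1`
    have hij : ((i * j : SL(2, F)) : Matrix (Fin 2) (Fin 2) F).mulVec e₁ = -e₁ := by
      rw [Matrix.SpecialLinearGroup.coe_mul, ← Matrix.mulVec_mulVec, hje, Matrix.mulVec_smul, ← he₂, hc,
        smul_smul, hc2, neg_smul, one_smul]
    rcases hsq _ (R.mul_mem hiR hjR) with h | h
    · -- then `j = ± i`, so `a` normalizes a cyclic group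
      have hcomm : i * j = j * i := by
        have h7 : j = i⁻¹ * (i * j) := (inv_mul_cancel_left i j).symm
        calc i * j = i * j * (i⁻¹ * i) := by rw [inv_mul_cancel, mul_one]
          _ = i⁻¹ * (i * j) * i := by rw [← mul_assoc, h.comm i⁻¹]
          _ = j * i := by rw [← h7]
      exact hins (isScal_of_commute ha ha1 (hRp i hiR)
        (commute_of_conj_commute (p := 3) h2 hodd (hRp i hiR) hins hcomm.symm).symm)
    · have h8 : ((i * j) ^ 2 : SL(2, F)) = -1 := h.1
      have h9 := congrArg (fun g : SL(2, F) => (g : Matrix (Fin 2) (Fin 2) F).mulVec e₁) h8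
      simp only [pow_two] at h9
      rw [Matrix.SpecialLinearGroup.coe_mul (i * j), ← Matrix.mulVec_mulVec, hij, Matrix.mulVec_neg, hij,
        neg_neg, Matrix.SpecialLinearGroup.coe_neg, Matrix.SpecialLinearGroup.coe_one, Matrix.neg_mulVec,
        Matrix.one_mulVec] at h9
      have h10 : (2 : F) • e₁ = 0 := by
        rw [two_smul]
        nth_rewrite 1 [h9]
        exact neg_add_cancel _
      exact hv ((smul_eq_zero.1 h10).resolve_left h2)
  set P : Matrix (Fin 2) (Fin 2) F := !![e₁ 0, e₂ 0; e₁ 1, e₂ 1] with hP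
  have hPdet : P.det ≠ 0 := by
    rw [hP, Matrix.det_fin_two_of]
    intro hd
    by_cases h0 : e₁ 0 = 0
    · have h11 : e₁ 1 ≠ 0 := fun h11 => hv (funext fun r => by fin_cases r <;> simp [h0, h11])
      refine hindep (e₂ 1 / e₁ 1) (funext fun r => ?_)
      have h20 : e₂ 0 = 0 := by
        have : e₂ 0 * e₁ 1 = 0 := by rw [h0] at hd; linear_combination -hd
        exact (mul_eq_zero.1 this).resolve_right h11
      fin_cases r <;> simp [h0, h20, h11]
    · refine hindep (e₂ 0 / e₁ 0) (funext fun r => ?_)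
      fin_cases r
      · simp [h0]
      · simp only [Pi.smul_apply, smul_eq_mul, Fin.mk_one]
        field_simp
        linear_combination hd
  have hPmul : ∀ (A : Matrix (Fin 2) (Fin 2) F) (x y z w : F),
      A.mulVec e₁ = x • e₁ + z • e₂ → A.mulVec e₂ = y • e₁ + w • e₂ → A * P = P * !![x, y; z, w] := by
    intro A x y z w h1 h3
    have h10 := congrFun h1 0; have h11 := congrFun h1 1
    have h30 := congrFun h3 0; have h31 := congrFun h3 1
    simp [Matrix.mulVec, dotProduct, Fin.sum_univ_two] at h10 h11 h30 h31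
    ext r s
    fin_cases r <;> fin_cases s <;> simp [hP, Matrix.mul_apply, Fin.sum_univ_two] <;>
      first | linear_combination h10 | linear_combination h11 | linear_combination h30 | linear_combination h31
  have hPi : (i : Matrix (Fin 2) (Fin 2) F) * P = P * !![0, -1; 1, 0] :=
    hPmul _ 0 (-1) 1 0 (by simp [he₂]) (by simp [hie])
  obtain ⟨t, ht⟩ : ∃ t : F, N.mulVec e₂ = t • e₁ := by
    obtain ⟨Pi, hPi'⟩ : ∃ w, P.mulVec w = N.mulVec e₂ :=
      ⟨P⁻¹.mulVec (N.mulVec e₂), by
        rw [Matrix.mulVec_mulVec, Matrix.mul_nonsing_inv _ (isUnit_iff_ne_zero.2 hPdet), Matrix.one_mulVec]⟩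
    have hexp : N.mulVec e₂ = Pi 0 • e₁ + Pi 1 • e₂ := by
      rw [← hPi']
      funext r
      fin_cases r <;> simp [hP, Matrix.mulVec, dotProduct, Fin.sum_univ_two, mul_comm]
    have h3 : Pi 1 • N.mulVec e₂ = 0 := by
      have h4 := congrArg N.mulVec hexp
      rw [Matrix.mulVec_mulVec, hNN, Matrix.zero_mulVec, Matrix.mulVec_add, Matrix.mulVec_smul,
        Matrix.mulVec_smul, hNe, smul_zero, zero_add] at h4
      exact h4.symm
    rcases smul_eq_zero.1 h3 with h | h
    · exact ⟨Pi 0, by rw [hexp, h, zero_smul, add_zero]⟩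
    · exact ⟨0, by rw [h, zero_smul]⟩
  have hPa : (a : Matrix (Fin 2) (Fin 2) F) * P = P * !![1, t; 0, 1] := by
    have ha' : (a : Matrix (Fin 2) (Fin 2) F) = 1 + N := by rw [hNdef]; abel
    exact hPmul _ 1 t 0 1 (by rw [ha', Matrix.add_mulVec, Matrix.one_mulVec, hNe]; simp)
      (by rw [ha', Matrix.add_mulVec, Matrix.one_mulVec, ht]; simp [add_comm])
  -- `t = ± 1`
  have ht2 : t * t = 1 := by
    set j := a * i * a⁻¹ with hj
    have hjR : j ∈ R := (Subgroup.mem_normalizer_iff.1 haR i).1 hiR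
    have hPinv : ((a⁻¹ : SL(2, F)) : Matrix (Fin 2) (Fin 2) F) * P = P * !![1, -t; 0, 1] := by
      have h : (a : Matrix (Fin 2) (Fin 2) F) * (P * !![1, -t; 0, 1]) = P := by
        rw [← mul_assoc, hPa, mul_assoc]
        simp [Matrix.mul_fin_two, ← Matrix.one_fin_two]
      conv_lhs => rw [← h]
      rw [← mul_assoc, ← Matrix.SpecialLinearGroup.coe_mul, inv_mul_cancel, Matrix.SpecialLinearGroup.coe_one,
        one_mul]
    have hPij : ((i * j : SL(2, F)) : Matrix (Fin 2) (Fin 2) F) * P =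
        P * (!![0, -1; 1, 0] * !![1, t; 0, 1] * !![0, -1; 1, 0] * !![1, -t; 0, 1]) := by
      simp only [hj, Matrix.SpecialLinearGroup.coe_mul, mul_assoc, hPinv]
      rw [← mul_assoc (i : Matrix (Fin 2) (Fin 2) F) P, hPi, mul_assoc, ← mul_assoc (a : Matrix (Fin 2) (Fin 2) F) P,
        hPa, mul_assoc, ← mul_assoc (i : Matrix (Fin 2) (Fin 2) F) P, hPi, mul_assoc]
    set M := !![0, -1; 1, 0] * !![1, t; 0, 1] * !![0, -1; 1, 0] * !![1, -t; (0 : F), 1] with hM
    have htr : (((i * j : SL(2, F)) : Matrix (Fin 2) (Fin 2) F)).trace = M.trace := by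
      have hu : IsUnit P.det := isUnit_iff_ne_zero.2 hPdet
      calc _ = (((i * j : SL(2, F)) : Matrix (Fin 2) (Fin 2) F) * P * P⁻¹).trace := by
            rw [mul_assoc, Matrix.mul_nonsing_inv _ hu, mul_one]
        _ = M.trace := by
            rw [hPij, Matrix.trace_mul_cycle, Matrix.nonsing_inv_mul _ hu, one_mul]
    have hns' : ¬ IsScal (i * j) := by
      intro h
      have hcomm : i * j = j * i := by
        have h7 : j = i⁻¹ * (i * j) := (inv_mul_cancel_left i j).symm
        calc i * j = i * j * (i⁻¹ * i) := by rw [inv_mul_cancel, mul_one]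
          _ = i⁻¹ * (i * j) * i := by rw [← mul_assoc, h.comm i⁻¹]
          _ = j * i := by rw [← h7]
      exact hins (isScal_of_commute ha ha1 (hRp i hiR)
        (commute_of_conj_commute (p := 3) h2 hodd (hRp i hiR) hins hcomm.symm).symm)
    rw [trace_eq_zero ((hsq _ (R.mul_mem hiR hjR)).resolve_left hns').1 hns'] at htr
    simp [hM, Matrix.mul_fin_two, Matrix.trace_fin_two] at htr
    have h3 : (3 : F) = 0 := by exact_mod_cast CharP.cast_eq_zero F 3
    linear_combination htr - h3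
  -- the map from `SL(2,3)`
  let c : ZMod 3 →+* F := ZMod.castHom dvd_rfl F
  have hu : IsUnit P.det := isUnit_iff_ne_zero.2 hPdet
  let ψ : SL(2, ZMod 3) →* SL(2, F) := MonoidHom.mk'
    (fun g => ⟨P * (g : Matrix (Fin 2) (Fin 2) (ZMod 3)).map c * P⁻¹, by
      rw [Matrix.det_mul, Matrix.det_mul, mul_comm P.det, mul_assoc, ← Matrix.det_mul P,
        Matrix.mul_nonsing_inv _ hu, Matrix.det_one, mul_one]
      exact (RingHom.map_det c _).symm.trans (by rw [g.2, map_one])⟩)
    (fun g g' => Subtype.ext (by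
      show P * ((g * g' : SL(2, ZMod 3)) : Matrix (Fin 2) (Fin 2) (ZMod 3)).map c * P⁻¹ =
        (P * (g : Matrix (Fin 2) (Fin 2) (ZMod 3)).map c * P⁻¹) *
          (P * (g' : Matrix (Fin 2) (Fin 2) (ZMod 3)).map c * P⁻¹)
      rw [Matrix.SpecialLinearGroup.coe_mul, Matrix.map_mul]
      simp only [mul_assoc]
      rw [← mul_assoc P⁻¹ P, Matrix.nonsing_inv_mul _ hu, one_mul]))
  have hψ : Function.Injective ψ := by
    intro g g' h
    have h1 : P * (g : Matrix (Fin 2) (Fin 2) (ZMod 3)).map c * P⁻¹ =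
        P * (g' : Matrix (Fin 2) (Fin 2) (ZMod 3)).map c * P⁻¹ := congrArg Subtype.val h
    have h4 := congrArg (fun M => P⁻¹ * M * P) h1
    simp only [mul_assoc, Matrix.nonsing_inv_mul _ hu, mul_one] at h4
    rw [← mul_assoc P⁻¹, ← mul_assoc P⁻¹ P, Matrix.nonsing_inv_mul _ hu, one_mul, one_mul] at h4
    exact Subtype.ext (Matrix.map_injective c.injective h4)
  have hmem : ∀ (g : SL(2, F)) (M : SL(2, ZMod 3)),
      (g : Matrix (Fin 2) (Fin 2) F) * P = P * (M : Matrix (Fin 2) (Fin 2) (ZMod 3)).map c → g ∈ ψ.range := by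
    intro g M h
    refine ⟨M, Subtype.ext ?_⟩
    show P * (M : Matrix (Fin 2) (Fin 2) (ZMod 3)).map c * P⁻¹ = g
    rw [← h, mul_assoc, Matrix.mul_nonsing_inv _ hu, mul_one]
  have hS : Nat.card SL(2, ZMod 3) = 24 := by
    rw [Nat.card_eq_fintype_card]; decide +kernel
  have hrange : Nat.card ψ.range = 24 := by
    rw [← Nat.card_congr (MonoidHom.ofInjective hψ).toEquiv, hS]
  have hiψ : i ∈ ψ.range := hmem i ⟨!![0, -1; 1, 0], by simp [Matrix.det_fin_two_of]⟩ (by
    rw [hPi]
    congr 1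
    ext r s; fin_cases r <;> fin_cases s <;> simp)
  have haψ : a ∈ ψ.range := by
    rcases mul_self_eq_one_iff.1 ht2 with rfl | rfl
    · exact hmem a ⟨!![1, 1; 0, 1], by simp [Matrix.det_fin_two_of]⟩ (by
        rw [hPa]; congr 1; ext r s; fin_cases r <;> fin_cases s <;> simp)
    · exact hmem a ⟨!![1, -1; 0, 1], by simp [Matrix.det_fin_two_of]⟩ (by
        rw [hPa]; congr 1; ext r s; fin_cases r <;> fin_cases s <;> simp)
  -- `R` is generated by `i` and its conjugate
  have hsub : R ≤ ψ.range := by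
    set j := a * i * a⁻¹ with hj
    have hjR : j ∈ R := (Subgroup.mem_normalizer_iff.1 haR i).1 hiR
    have hjψ : j ∈ ψ.range := mul_mem (mul_mem haψ hiψ) (inv_mem haψ)
    have hD : R ⊓ ψ.range = R := by
      refine Subgroup.eq_of_le_of_card_ge inf_le_left ?_
      have hd : Nat.card ↥(R ⊓ ψ.range) ∣ 2 ^ 3 := by
        rw [show (2 : ℕ) ^ 3 = Nat.card R by rw [hcardR]; rfl]
        exact Subgroup.card_dvd_of_le inf_le_left
      obtain ⟨m, hm, hm'⟩ := (Nat.dvd_prime_pow Nat.prime_two).1 hd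
      by_contra hlt
      push Not at hlt
      rw [hm', hcardR, show (8 : ℕ) = 2 ^ 3 by rfl] at hlt
      have hm2 : m ≤ 2 := by
        have := (Nat.pow_lt_pow_iff_right (by norm_num : 1 < 2)).1 hlt
        omega
      have hcomm : ∀ x ∈ R ⊓ ψ.range, ∀ y ∈ R ⊓ ψ.range, x * y = y * x := by
        intro x hx y hy
        interval_cases m
        · have h1 := Subgroup.card_eq_one.1 (hm'.trans (pow_zero 2))
          rw [h1, Subgroup.mem_bot] at hx hy
          rw [hx, hy]
        · haveI : Fact (Nat.Prime 2) := ⟨Nat.prime_two⟩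
          haveI : IsCyclic ↥(R ⊓ ψ.range) := isCyclic_of_prime_card (p := 2) (hm'.trans (pow_one 2))
          exact congrArg Subtype.val (IsCyclic.commGroup.mul_comm (⟨x, hx⟩ : ↥(R ⊓ ψ.range)) ⟨y, hy⟩)
        · haveI : Fact (Nat.Prime 2) := ⟨Nat.prime_two⟩
          exact congrArg Subtype.val (IsPGroup.commutative_of_card_eq_prime_sq (p := 2) hm' ⟨x, hx⟩ ⟨y, hy⟩)
      exact hins (isScal_of_commute ha ha1 (hRp i hiR)
        (commute_of_conj_commute (p := 3) h2 hodd (hRp i hiR) hins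
          (hcomm j ⟨hjR, hjψ⟩ i ⟨hiR, hiψ⟩)).symm)
    exact inf_eq_left.1 hD
  have hle : R ⊔ Subgroup.zpowers a ≤ ψ.range := sup_le hsub (Subgroup.zpowers_le.2 haψ)
  have heq : R ⊔ Subgroup.zpowers a = ψ.range := by
    refine Subgroup.eq_of_le_of_card_ge hle ?_
    rw [hrange]
    have h3 : 3 ∣ Nat.card ↥(R ⊔ Subgroup.zpowers a) := hpord.trans
      (Subgroup.orderOf_dvd_natCard _ (Subgroup.mem_sup_right (Subgroup.mem_zpowers a)))
    have h8 : 8 ∣ Nat.card ↥(R ⊔ Subgroup.zpowers a) := hcardR ▸ Subgroup.card_dvd_of_le le_sup_left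
    exact Nat.le_of_dvd Nat.card_pos (Nat.Coprime.mul_dvd_of_dvd_of_dvd (m := 8) (n := 3) (by norm_num) h8 h3)
  exact ⟨(MulEquiv.subgroupCongr heq).trans (MonoidHom.ofInjective hψ).symm⟩

end Cfsg.Agent.S3740
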