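import Cfsg.Statements.S3741
import Mathlib

set_option autoImplicit false
open Cfsg
open scoped commutatorElement

namespace Cfsg.Agent.S3741

variable {G : Type*} [Group G] [Finite G] {p : ℕ} [Fact p.Prime]

/-- A subgroup of order at most `p` of a `p`-group is centralised by every element normalising it. -/
theorem centralizes_small (hG : IsPGroup p G) (Z A : Subgroup G) (hZ : Nat.card Z ≤ p)
    (hA : A ≤ Subgroup.normalizer (Z : Set G)) (hZA : Z ≤ A) :
    ∀ a ∈ A, ∀ z ∈ Z, a * z = z * a := by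
  intro a ha z hz
  have hn : (Z.subgroupOf A).Normal := Subgroup.normal_subgroupOf_of_le_normalizer hA
  rcases eq_or_ne z 1 with rfl | hz1
  · simp
  have hbot : Z.subgroupOf A ≠ ⊥ := by
    intro h
    have : (⟨z, hZA hz⟩ : A) ∈ Z.subgroupOf A := hz
    rw [h, Subgroup.mem_bot] at this
    exact hz1 (congrArg Subtype.val this)
  have hc : Nat.card ↥(Z.subgroupOf A) ≤ p := by
    rw [Nat.card_congr (Subgroup.subgroupOfEquivOfLe hZA).toEquiv]
    exact hZ
  have hP : IsPGroup p A := hG.to_subgroup A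
  have : Nontrivial ↥(Z.subgroupOf A) := (Subgroup.nontrivial_iff_ne_bot _).2 hbot
  obtain ⟨k, hk, hcardk⟩ := (hP.to_subgroup (Z.subgroupOf A)).nontrivial_iff_card.1 this
  have hk1 : Nat.card ↥(Z.subgroupOf A) = p := by
    rw [hcardk] at hc ⊢
    exact le_antisymm hc (Nat.le_self_pow (by omega) p)
  have hcen : Z.subgroupOf A ≤ Subgroup.center A := by
    have hle : ⁅Z.subgroupOf A, (⊤ : Subgroup A)⁆ ≤ Z.subgroupOf A := Subgroup.commutator_le_left _ _
    have h1 := Subgroup.card_dvd_of_le hle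
    rw [hk1, Nat.dvd_prime (Fact.out : p.Prime)] at h1
    rcases h1 with h1 | h1
    · rw [Subgroup.card_eq_one] at h1
      have h2 := Subgroup.commutator_eq_bot_iff_le_centralizer.1 h1
      rwa [Subgroup.coe_top, Subgroup.centralizer_univ] at h2
    · have heq := Subgroup.eq_of_le_of_card_ge hle (by rw [h1, hk1])
      obtain ⟨c, hc'⟩ := Subgroup.nilpotent_iff_lowerCentralSeries.1 hP.isNilpotent
      have : ∀ m, Z.subgroupOf A ≤ (⊤ : Subgroup A).lowerCentralSeries m := by
        intro m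
        induction m with
        | zero => exact le_top
        | succ m ih => exact heq.symm.le.trans (Subgroup.commutator_mono ih le_rfl)
      exact absurd (eq_bot_iff.2 (hc' ▸ this c)) hbot
  exact congrArg Subtype.val (Subgroup.mem_center_iff.1 (hcen (show (⟨z, hZA hz⟩ : A) ∈ Z.subgroupOf A from hz)) ⟨a, ha⟩)

instance finite_hom (H Z : Type*) [Group H] [Group Z] [Finite H] [Finite Z] : Finite (H →* Z) :=
  Finite.of_injective (fun f => (f : H → Z)) DFunLike.coe_injective

/-- Homomorphisms into a group of order at most `p`, trivial on `D`, are at most `|H : D|` many. -/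
theorem card_hom_le (hG : IsPGroup p G) (Z : Type*) [Group Z] [Finite Z] (hZ : Nat.card Z ≤ p)
    (D H : Subgroup G) (hDH : D ≤ H) :
    Nat.card {f : H →* Z // ∀ d : H, (d : G) ∈ D → f d = 1} ≤ D.relIndex H := by
  induction H using WellFoundedLT.induction with
  | ind H ih =>
    rcases eq_or_lt_of_le hDH with rfl | hlt
    · rw [Subgroup.relIndex_self]
      have : Subsingleton {f : D →* Z // ∀ d : D, (d : G) ∈ D → f d = 1} :=
        ⟨fun f g => Subtype.ext (MonoidHom.ext fun d => by rw [f.2 d d.2, g.2 d d.2])⟩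
      exact Finite.card_le_one_iff_subsingleton.2 this
    · obtain ⟨M, ⟨hDM, hMH⟩, hmax⟩ := Set.Finite.exists_maximal
        (s := {M : Subgroup G | D ≤ M ∧ M < H}) (Set.toFinite _) ⟨D, le_rfl, hlt⟩
      obtain ⟨x, hxH, hxM⟩ := SetLike.exists_of_lt hMH
      let res : {f : H →* Z // ∀ d : H, (d : G) ∈ D → f d = 1} →
          {f : M →* Z // ∀ d : M, (d : G) ∈ D → f d = 1} × Z := fun f =>
        (⟨f.1.comp (Subgroup.inclusion hMH.le), fun d hd => f.2 _ hd⟩, f.1 ⟨x, hxH⟩)
      have hinj : Function.Injective res := by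
        intro f g hfg
        simp only [res, Prod.mk.injEq, Subtype.mk.injEq] at hfg
        apply Subtype.ext
        let E := (f.1.eqLocus g.1).map H.subtype
        have hME : M ≤ E := fun m hm =>
          ⟨⟨m, hMH.le hm⟩, (DFunLike.congr_fun hfg.1 ⟨m, hm⟩ :), rfl⟩
        have hxE : x ∈ E := ⟨⟨x, hxH⟩, hfg.2, rfl⟩
        have hEH : E = H := by
          rcases eq_or_lt_of_le (Subgroup.map_subtype_le _ : E ≤ H) with h | h
          · exact h
          · exact absurd (hmax ⟨hDM.trans hME, h⟩ hME hxE) hxM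
        ext h
        obtain ⟨h', hh', he⟩ : (h : G) ∈ E := hEH.symm ▸ h.2
        obtain rfl : h' = h := Subtype.ext he
        exact hh'
      have h1 := (Nat.card_le_card_of_injective res hinj).trans_eq (Nat.card_prod _ _)
      have h2 : p ≤ M.relIndex H := by
        obtain ⟨j, hj⟩ := (hG.to_subgroup H).index (M.subgroupOf H)
        rcases eq_or_ne j 0 with rfl | hj0
        · exact absurd (Subgroup.relIndex_eq_one.1 hj) hMH.not_ge
        · exact (Nat.le_self_pow hj0 p).trans_eq hj.symm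
      calc _ ≤ _ := h1
        _ ≤ D.relIndex M * M.relIndex H := Nat.mul_le_mul (ih M hMH hDM) (hZ.trans h2)
        _ = D.relIndex H := Subgroup.relIndex_mul_relIndex D M H hDM hMH.le

theorem half (hG : IsPGroup p G) (A B : Subgroup G) (hAB : ⁅A, B⁆ ≤ A ⊓ B)
    (hcard : Nat.card ↥⁅A, B⁆ ≤ p) :
    (A ⊓ Subgroup.centralizer (B : Set G)).relIndex A ≤
      (B ⊓ Subgroup.centralizer (A : Set G)).relIndex B := by
  set D := B ⊓ Subgroup.centralizer (A : Set G)
  set C := A ⊓ Subgroup.centralizer (B : Set G)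
  have hnorm : A ⊔ B ≤ Subgroup.normalizer ((⁅A, B⁆ : Subgroup G) : Set G) :=
    sup_le (Subgroup.normalizer_commutator_ge_left A B) (Subgroup.normalizer_commutator_ge_right A B)
  have hB : ∀ b ∈ B, ∀ z ∈ ⁅A, B⁆, b * z = z * b :=
    centralizes_small hG _ B hcard (le_sup_right.trans hnorm) (hAB.trans inf_le_right)
  let φ : A → {f : B →* ↥⁅A, B⁆ // ∀ d : B, (d : G) ∈ D → f d = 1} := fun a =>
    ⟨{ toFun := fun b => ⟨⁅(a : G), (b : G)⁆, Subgroup.commutator_mem_commutator a.2 b.2⟩
       map_one' := Subtype.ext (by simp)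
       map_mul' := fun b c => Subtype.ext (by
         show ⁅(a : G), (b : G) * c⁆ = ⁅(a : G), (b : G)⁆ * ⁅(a : G), (c : G)⁆
         have h := hB b b.2 ⁅(a : G), (c : G)⁆ (Subgroup.commutator_mem_commutator a.2 c.2)
         calc ⁅(a : G), (b : G) * c⁆ = ⁅(a : G), (b : G)⁆ * ((b : G) * ⁅(a : G), (c : G)⁆ * (b : G)⁻¹) := by
               simp [commutatorElement_def, mul_assoc]
           _ = _ := by rw [h, mul_inv_cancel_right]) },
      fun d hd => Subtype.ext (commutatorElement_eq_one_iff_mul_comm.2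
        (Subgroup.mem_centralizer_iff.1 hd.2 a a.2))⟩
  have hφ : ∀ a a' : A, φ a = φ a' → a'⁻¹ * a ∈ C.subgroupOf A := by
    intro a a' h
    refine ⟨(a'⁻¹ * a).2, Subgroup.mem_centralizer_iff.2 fun b hb => ?_⟩
    have h1 : ⁅(a : G), b⁆ = ⁅(a' : G), b⁆ :=
      congrArg (fun f => ((f.1 ⟨b, hb⟩ : ↥⁅A, B⁆) : G)) h
    simp only [commutatorElement_def, mul_left_inj] at h1
    have h2 : (a : G) * b = a' * b * (a' : G)⁻¹ * a := by rw [← h1]; group
    show b * ((a' : G)⁻¹ * a) = (a' : G)⁻¹ * a * b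
    rw [mul_assoc ((a' : G)⁻¹), h2]
    group
  show Nat.card (A ⧸ C.subgroupOf A) ≤ _
  refine le_trans (Nat.card_le_card_of_injective (fun q : A ⧸ C.subgroupOf A => φ q.out) ?_)
    (card_hom_le hG _ hcard D B inf_le_left)
  intro q r h
  have := hφ _ _ h
  rw [← QuotientGroup.out_eq' q, ← QuotientGroup.out_eq' r]
  exact (QuotientGroup.eq.2 this).symm


/-- Let A and B be subgroups of a finite p-group with [A, B] ≤ A ∩ B and [A, B] of order at most p. Then |A : C_A(B)| = |B : C_B(A)|. -/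
theorem result {G : Type*} [Group G] [Finite G] {p : ℕ} [Fact p.Prime] (hG : IsPGroup p G) (A B : Subgroup G) (hAB : ⁅A, B⁆ ≤ A ⊓ B) (hcard : Nat.card ↥⁅A, B⁆ ≤ p) : (A ⊓ Subgroup.centralizer (B : Set G)).relIndex A = (B ⊓ Subgroup.centralizer (A : Set G)).relIndex B := by
  have key : ∀ A B : Subgroup G, ⁅A, B⁆ ≤ A ⊓ B → Nat.card ↥⁅A, B⁆ ≤ p →
      (A ⊓ Subgroup.centralizer (B : Set G)).relIndex A ≤
        (B ⊓ Subgroup.centralizer (A : Set G)).relIndex B := by
    intro A B hAB hcard
    exact half hG A B hAB hcard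
  refine le_antisymm (key A B hAB hcard) (key B A ?_ ?_)
  · rw [Subgroup.commutator_comm, inf_comm]
    exact hAB
  · rw [Subgroup.commutator_comm]
    exact hcard

end Cfsg.Agent.S3741
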