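import Cfsg.Statements.S3743
import Cfsg.Agent.Lib.Solvable.Core
import Cfsg.Agent.Lib.OddOrder.PiCore
import Mathlib

set_option autoImplicit false
open Cfsg

namespace Cfsg.Agent.S3743

/-- A characteristic subgroup of a normal subgroup of `L` is normal in `L`. -/
theorem normal_of_char {G : Type*} [Group G] {K L : Subgroup G} (hKL : K ≤ L)
    (hKn : (K.subgroupOf L).Normal) (C : Subgroup K) [C.Characteristic] :
    ((C.map K.subtype).subgroupOf L).Normal := by
  set e := Subgroup.subgroupOfEquivOfLe hKL
  have : (C.comap e.toMonoidHom).Characteristic := by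
    rw [Subgroup.characteristic_iff_map_le]
    intro φ x hx
    obtain ⟨y, hy, rfl⟩ := hx
    have := Subgroup.characteristic_iff_map_le.1 ‹C.Characteristic› ((e.symm.trans φ).trans e) ⟨e y, hy, rfl⟩
    simpa using this
  have h : (C.map K.subtype).subgroupOf L = (C.comap e.toMonoidHom).map (K.subgroupOf L).subtype := by
    ext l
    constructor
    · rintro ⟨c, hc, hcl⟩
      refine ⟨⟨l, ?_⟩, ?_, rfl⟩
      · show (l : G) ∈ K
        have : (l : G) = (c : G) := hcl.symm
        rw [this]
        exact c.2
      · have hlc : (l : G) = (c : G) := hcl.symm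
        have hl : l ∈ K.subgroupOf L := by
          rw [Subgroup.mem_subgroupOf, hlc]
          exact c.2
        show e ⟨l, hl⟩ ∈ C
        have he : e ⟨l, hl⟩ = c := Subtype.ext hlc
        rw [he]
        exact hc
    · rintro ⟨x, hx, rfl⟩
      exact ⟨e x, hx, rfl⟩
  rw [h]
  infer_instance



/-- In a finite group G, every subnormal nilpotent subgroup lies in the Fitting subgroup F(G), and, for a set of primes π, every subnormal subgroup all of whose prime divisors lie in π lies in O_π(G). -/
theorem result {G : Type*} [Group G] [Finite G] (A : Subgroup G) (hA : A.IsSubnormal) : (Group.IsNilpotent A → A ≤ Cfsg.fittingSubgroup G) ∧ ∀ π : Set ℕ, (∀ p : ℕ, p.Prime → p ∣ Nat.card A → p ∈ π) → A ≤ Cfsg.piCore π G := by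
  have hn : ∀ (K : Subgroup G), K.IsSubnormal → ∀ H : Subgroup G, H ≤ K → (H.subgroupOf K).Normal →
      Group.IsNilpotent H → H ≤ Cfsg.fittingSubgroup G := by
    intro K hK
    induction hK with
    | top =>
      intro H _ hHn hnil
      refine CfsgLib.Solvable.le_fittingSubgroup ⟨fun h hh g => ?_⟩ hnil
      exact hHn.conj_mem ⟨h, trivial⟩ hh ⟨g, trivial⟩
    | step K L hKL hL hKn ih =>
      intro H hHK hHn hnil
      have hH' : Group.IsNilpotent (H.subgroupOf K) :=
        Group.nilpotent_of_mulEquiv (Subgroup.subgroupOfEquivOfLe hHK).symm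
      set F := (Cfsg.fittingSubgroup K).map K.subtype
      have hHF : H ≤ F := (Subgroup.map_subgroupOf_eq_of_le hHK).ge.trans
        (Subgroup.map_mono (CfsgLib.Solvable.le_fittingSubgroup hHn hH'))
      refine hHF.trans (ih F ((Subgroup.map_subtype_le _).trans hKL) ?_ ?_)
      · have := CfsgLib.Solvable.fittingSubgroup_characteristic K
        exact normal_of_char hKL hKn _
      · have := CfsgLib.Solvable.fittingSubgroup_isNilpotent K
        exact Group.nilpotent_of_mulEquiv ((Cfsg.fittingSubgroup K).equivMapOfInjective K.subtype K.subtype_injective)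
  have hp : ∀ (K : Subgroup G), K.IsSubnormal → ∀ H : Subgroup G, H ≤ K → (H.subgroupOf K).Normal →
      ∀ π : Set ℕ, (∀ p : ℕ, p.Prime → p ∣ Nat.card H → p ∈ π) → H ≤ Cfsg.piCore π G := by
    intro K hK
    induction hK with
    | top =>
      intro H _ hHn π hπ
      exact CfsgLib.OddOrder.le_piCore (π := π) ⟨fun h hh g => hHn.conj_mem ⟨h, trivial⟩ hh ⟨g, trivial⟩⟩ hπ
    | step K L hKL hL hKn ih =>
      intro H hHK hHn π hπ
      set F := (Cfsg.piCore π K).map K.subtype
      have hHF : H ≤ F := (Subgroup.map_subgroupOf_eq_of_le hHK).ge.trans (Subgroup.map_mono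
        (CfsgLib.OddOrder.le_piCore (π := π) hHn (fun p hp hd => hπ p hp (by
          rwa [Nat.card_congr (Subgroup.subgroupOfEquivOfLe hHK).toEquiv] at hd))))
      refine hHF.trans (ih F ((Subgroup.map_subtype_le _).trans hKL) ?_ π ?_)
      · have := CfsgLib.OddOrder.piCore_characteristic π K
        exact normal_of_char hKL hKn _
      · intro p hp hd
        rw [Subgroup.card_map_of_injective K.subtype_injective] at hd
        exact CfsgLib.OddOrder.piCore_isPiSubgroup π K p hp hd
  cases hA with
  | top =>
    exact ⟨fun hnil => hn ⊤ .top ⊤ le_rfl inferInstance hnil, fun π hπ => hp ⊤ .top ⊤ le_rfl inferInstance π hπ⟩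
  | step H K hle hK hN =>
    exact ⟨fun hnil => hn K hK A hle hN hnil, fun π hπ => hp K hK A hle hN π hπ⟩

end Cfsg.Agent.S3743
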