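import Cfsg.Statements.S3746
import Cfsg.Agent.Lib.Components.Layer
import Mathlib

set_option autoImplicit false
open Cfsg
open scoped commutatorElement

namespace Cfsg.Agent.S3746

/-- Let Z ≤ Z(G) be a central subgroup of a finite group G and E a subgroup of G containing Z whose image E/Z is a component of G/Z (subnormal and quasisimple). Then the derived subgroup [E, E] is a component of G. -/
theorem result {G : Type*} [Group G] [Finite G] (Z : Subgroup G) (hZ : Z ≤ Subgroup.center G) [Z.Normal] (E : Subgroup G) (hZE : Z ≤ E) (hE : Cfsg.IsComponent (E.map (QuotientGroup.mk' Z))) : Cfsg.IsComponent ⁅E, E⁆ := by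
  set π := QuotientGroup.mk' Z
  have hEsub : E.IsSubnormal := by
    have h := hE.1.comap π
    rwa [Subgroup.comap_map_eq, QuotientGroup.ker_mk', sup_eq_left.2 hZE] at h
  obtain ⟨hperf, hsimple⟩ := hE.2
  set f : E →* ↥(E.map π) := π.subgroupMap E
  have hf : Function.Surjective f := π.subgroupMap_surjective E
  set g : ↥(E.map π) →* ↥(E.map π) ⧸ Subgroup.center ↥(E.map π) := QuotientGroup.mk' _
  have hgf : Function.Surjective (g.comp f) := (QuotientGroup.mk'_surjective _).comp hf
  have hker : (g.comp f).ker = Subgroup.center E := by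
    rw [← MonoidHom.comap_ker, QuotientGroup.ker_mk']
    have hkc : f.ker ≤ Subgroup.center E := fun x hx => Subgroup.mem_center_iff.2 fun y => by
      have : (x : G) ∈ Z := by
        rw [← QuotientGroup.eq_one_iff]
        exact congrArg Subtype.val hx
      exact Subtype.ext (Subgroup.mem_center_iff.1 (hZ this) y)
    refine le_antisymm ?_ ?_
    · set C := (Subgroup.center ↥(E.map π)).comap f
      have h1 : ⁅⁅C, (⊤ : Subgroup E)⁆, (⊤ : Subgroup E)⁆ = ⊥ := by
        have : ⁅C, (⊤ : Subgroup E)⁆ ≤ f.ker := by
          rw [Subgroup.commutator_le]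
          intro c hc t _
          rw [MonoidHom.mem_ker, map_commutatorElement, commutatorElement_eq_one_iff_mul_comm]
          exact (Subgroup.mem_center_iff.1 hc _).symm
        rw [Subgroup.commutator_eq_bot_iff_le_centralizer, Subgroup.coe_top, Subgroup.centralizer_univ]
        exact this.trans hkc
      have h2 : ⁅⁅(⊤ : Subgroup E), C⁆, (⊤ : Subgroup E)⁆ = ⊥ := by
        rwa [Subgroup.commutator_comm ⊤ C]
      have h3 : ⁅⁅(⊤ : Subgroup E), (⊤ : Subgroup E)⁆, C⁆ = ⊥ :=
        Subgroup.commutator_commutator_eq_bot_of_rotate h2 h1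
      have htop : (commutator E) ⊔ f.ker = ⊤ := by
        rw [← Subgroup.comap_map_eq, commutator_def, Subgroup.map_commutator,
          Subgroup.map_top_of_surjective f hf, ← commutator_def,
          Group.IsPerfect.commutator_eq_top, Subgroup.comap_top]
      intro c hc
      rw [Subgroup.mem_center_iff]
      intro e
      have he : e ∈ Subgroup.centralizer ({c} : Set E) := by
        have : commutator E ⊔ f.ker ≤ Subgroup.centralizer ({c} : Set E) := by
          refine sup_le (fun a ha => ?_) (fun a ha => ?_)
          · rw [Subgroup.mem_centralizer_iff]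
            intro b hb
            rw [Set.mem_singleton_iff.1 hb]
            have := Subgroup.commutator_mem_commutator (show a ∈ ⁅(⊤ : Subgroup E), (⊤ : Subgroup E)⁆ from ha) hc
            rw [h3, Subgroup.mem_bot, commutatorElement_eq_one_iff_mul_comm] at this
            exact this.symm
          · rw [Subgroup.mem_centralizer_iff]
            intro b hb
            exact Subgroup.mem_center_iff.1 (hkc ha) b
        exact this (htop ▸ Subgroup.mem_top e)
      exact ((Subgroup.mem_centralizer_iff.1 he c rfl)).symm
    · intro x hx
      rw [Subgroup.mem_comap, Subgroup.mem_center_iff]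
      intro y
      obtain ⟨y', rfl⟩ := hf y
      rw [← map_mul, ← map_mul, Subgroup.mem_center_iff.1 hx y']
  let e : E ⧸ Subgroup.center E ≃* ↥(E.map π) ⧸ Subgroup.center ↥(E.map π) :=
    (QuotientGroup.quotientMulEquivOfEq hker.symm).trans
      (QuotientGroup.quotientKerEquivOfSurjective _ hgf)
  have hs : IsSimpleGroup (E ⧸ Subgroup.center E) := e.isSimpleGroup
  have hna : ¬ IsMulCommutative (E ⧸ Subgroup.center E) := by
    intro h
    have hQ : IsMulCommutative (↥(E.map π) ⧸ Subgroup.center ↥(E.map π)) :=
      ⟨⟨fun a b => e.symm.injective (by rw [map_mul, map_mul, h.1.comm])⟩⟩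
    have hQp : Group.IsPerfect (↥(E.map π) ⧸ Subgroup.center ↥(E.map π)) := by
      constructor
      rw [commutator_def, ← Subgroup.map_top_of_surjective g (QuotientGroup.mk'_surjective _),
        ← Subgroup.map_commutator, ← commutator_def, Group.IsPerfect.commutator_eq_top]
    have : Nontrivial (↥(E.map π) ⧸ Subgroup.center ↥(E.map π)) := IsSimpleGroup.toNontrivial
    exact Group.IsPerfect.not_isMulCommutative _ hQ
  obtain ⟨-, hq⟩ := CfsgLib.Components.commutator_quasisimple_of_central_quotient_simple hs hna
  have hmap : (commutator E).map E.subtype = ⁅E, E⁆ := Subgroup.map_subtype_commutator E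
  refine ⟨?_, ?_⟩
  · refine CfsgLib.Components.isSubnormal_of_le_normalizer (Subgroup.commutator_le_self E) ?_ hEsub
    exact Subgroup.normalizer_commutator_ge_left E E
  · rw [← hmap]
    exact (CfsgLib.Components.quasisimple_congr
      ((commutator E).equivMapOfInjective E.subtype E.subtype_injective)).mp hq

end Cfsg.Agent.S3746
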