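import Cfsg.Statements.S3747
import Cfsg.Agent.Lib.Components.GenFitting
import Cfsg.Agent.Lib.Solvable.Core
import Mathlib

set_option autoImplicit false
open Cfsg
open scoped commutatorElement

namespace Cfsg.Agent.S3747

/-- A join of centre-free components meets its centralizer trivially. -/
theorem inf_centralizer_eq_bot {G : Type*} [Group G] [Finite G] (S : Set (Subgroup G))
    (hS : ∀ L ∈ S, Cfsg.IsComponent L ∧ Subgroup.center ↥L = ⊥) :
    sSup S ⊓ Subgroup.centralizer ((sSup S : Subgroup G) : Set G) = ⊥ := by
  induction S, Set.toFinite S using Set.Finite.induction_on with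
  | empty => simp
  | @insert L S hLS _ ih =>
    have hL := hS L (Set.mem_insert _ _)
    have ihS := ih fun M hM => hS M (Set.mem_insert_of_mem _ hM)
    rw [sSup_insert, eq_bot_iff]
    set T := sSup S
    intro x hx
    have hLT : ⁅L, T⁆ = ⊥ := CfsgLib.Components.commutator_sSup_eq_bot fun M hM =>
      CfsgLib.Components.component_commutator_of_ne hL.1 (hS M (Set.mem_insert_of_mem _ hM)).1
        fun e => hLS (e ▸ hM)
    have hn := CfsgLib.Components.le_normalizer_of_commutator_eq_bot hLT
    have hx1 : x ∈ ((L ⊔ T : Subgroup G) : Set G) := hx.1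
    rw [Subgroup.coe_mul_of_left_le_normalizer_right _ _ hn] at hx1
    obtain ⟨l, hl, t, ht, rfl⟩ := hx1
    have hcomm : ∀ a ∈ L, ∀ b ∈ T, a * b = b * a := fun a ha b hb =>
      commutatorElement_eq_one_iff_mul_comm.1 (Subgroup.mem_bot.1
        (hLT ▸ Subgroup.commutator_mem_commutator ha hb))
    have hlc : (⟨l, hl⟩ : L) ∈ Subgroup.center L := by
      rw [Subgroup.mem_center_iff]
      intro m
      apply Subtype.ext
      show (m : G) * l = l * m
      have h1 := Subgroup.mem_centralizer_iff.1 hx.2 (m : G) (Subgroup.mem_sup_left m.2)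
      calc (m : G) * l = (m : G) * (l * t) * t⁻¹ := by group
        _ = l * t * m * t⁻¹ := by rw [h1]
        _ = l * (t * m) * t⁻¹ := by group
        _ = _ := by rw [← hcomm m m.2 t ht]; group
    rw [hL.2, Subgroup.mem_bot] at hlc
    have hl1 : l = 1 := congrArg Subtype.val hlc
    subst hl1
    have : (1 : G) * t ∈ T ⊓ Subgroup.centralizer (T : Set G) := by
      refine ⟨by simpa using ht, Subgroup.mem_centralizer_iff.2 fun b hb => ?_⟩
      exact Subgroup.mem_centralizer_iff.1 hx.2 b (Subgroup.mem_sup_right hb)
    rw [ihS] at this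
    exact this

theorem center_map_conj {G : Type*} [Group G] {K : Subgroup G} (hZ : Subgroup.center ↥K = ⊥) (g : G) :
    Subgroup.center ↥(K.map (MulAut.conj g).toMonoidHom) = ⊥ := by
  set e := K.equivMapOfInjective (MulAut.conj g).toMonoidHom (MulAut.conj g).injective
  rw [eq_bot_iff]
  intro x hx
  obtain ⟨y, rfl⟩ := e.surjective x
  have : y ∈ Subgroup.center K := Subgroup.mem_center_iff.2 fun z => e.injective (by
    rw [map_mul, map_mul, Subgroup.mem_center_iff.1 hx (e z)])
  rw [hZ, Subgroup.mem_bot] at this
  rw [this, map_one]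
  exact one_mem _

/-- The normal closure of a centre-free component is minimal normal. -/
theorem minimal {G : Type*} [Group G] [Finite G] (K : Subgroup G) (hK : Cfsg.IsComponent K)
    (hZ : Subgroup.center ↥K = ⊥) :
    Subgroup.normalClosure (K : Set G) ≠ ⊥ ∧ ∀ N : Subgroup G, N.Normal →
      N ≤ Subgroup.normalClosure (K : Set G) → N = ⊥ ∨ N = Subgroup.normalClosure (K : Set G) := by
  refine ⟨fun h => CfsgLib.Components.component_ne_bot hK
    (eq_bot_iff.2 (h ▸ Subgroup.le_normalClosure)), fun M hM hle => ?_⟩
  set N := Subgroup.normalClosure (K : Set G)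
  by_cases hKM : K ≤ M
  · right
    have := hM
    exact le_antisymm hle (Subgroup.normalClosure_le_normal hKM)
  left
  set S : Set (Subgroup G) := Set.range fun g : G => K.map (MulAut.conj g).toMonoidHom
  have hS : ∀ L ∈ S, Cfsg.IsComponent L ∧ Subgroup.center ↥L = ⊥ := by
    rintro _ ⟨g, rfl⟩
    exact ⟨CfsgLib.Components.component_map_conj hK g, center_map_conj hZ g⟩
  have hN : N ≤ sSup S := by
    refine (Subgroup.closure_le _).2 fun x hx => ?_
    obtain ⟨k, hk, hkx⟩ := Group.mem_conjugatesOfSet_iff.1 hx
    obtain ⟨g, rfl⟩ := isConj_iff.1 hkx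
    exact le_sSup (show K.map (MulAut.conj g).toMonoidHom ∈ S from ⟨g, rfl⟩) ⟨k, hk, rfl⟩
  have hcomm : ∀ L ∈ S, ⁅L, M⁆ = ⊥ := by
    rintro _ ⟨g, rfl⟩
    rcases CfsgLib.Components.component_le_or_commutator_normal
      (CfsgLib.Components.component_map_conj hK g) hM with h | h
    · refine absurd (fun k hk => ?_) hKM
      have := hM.conj_mem _ (h ⟨k, hk, rfl⟩) g⁻¹
      simpa [mul_assoc] using this
    · exact h
  have hMc : M ≤ Subgroup.centralizer ((sSup S : Subgroup G) : Set G) := by
    rw [Subgroup.le_centralizer_iff]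
    refine sSup_le fun L hL => ?_
    exact CfsgLib.Components.le_centralizer_of_commutator_eq_bot (hcomm L hL)
  rw [eq_bot_iff, ← inf_centralizer_eq_bot S hS]
  exact le_inf (hle.trans hN) hMc


/-- Let G be a finite group. (a) If K is a component of G with trivial centre, then the normal closure of K in G is a minimal normal subgroup of G. (b) If the Fitting subgroup of G is trivial, then the layer E(G) is generated by the minimal normal subgroups of G. -/
theorem result {G : Type*} [Group G] [Finite G] : (∀ K : Subgroup G, Cfsg.IsComponent K → Subgroup.center ↥K = ⊥ → (Subgroup.normalClosure (K : Set G) ≠ ⊥ ∧ ∀ N : Subgroup G, N.Normal → N ≤ Subgroup.normalClosure (K : Set G) → N = ⊥ ∨ N = Subgroup.normalClosure (K : Set G))) ∧ (Cfsg.fittingSubgroup G = ⊥ → sSup {N : Subgroup G | N ≠ ⊥ ∧ N.Normal ∧ ∀ N' : Subgroup G, N'.Normal → N' ≤ N → N' = ⊥ ∨ N' = N} = Cfsg.layer G) := by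
  refine ⟨fun K hK hZ => ?_, fun hF => ?_⟩
  · exact minimal K hK hZ
  · have hcf : ∀ K : Subgroup G, Cfsg.IsComponent K → Subgroup.center ↥K = ⊥ := by
      intro K hK
      have hsub : ((Subgroup.center ↥K).map K.subtype).IsSubnormal := by
        refine CfsgLib.Components.isSubnormal_of_le_normalizer (Subgroup.map_subtype_le _) ?_ hK.1
        refine (Subgroup.normal_subgroupOf_iff_le_normalizer (Subgroup.map_subtype_le _)).1 ?_
        rw [Subgroup.subgroupOf, Subgroup.comap_map_eq_self_of_injective K.subtype_injective]
        infer_instance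
      haveI : Group.IsNilpotent ↥(Subgroup.center ↥K) :=
        CfsgLib.Solvable.isNilpotent_of_comm fun a b => Subtype.ext (Subgroup.mem_center_iff.1 b.2 a)
      have hnil : Group.IsNilpotent ↥((Subgroup.center ↥K).map K.subtype) :=
        Group.nilpotent_of_mulEquiv ((Subgroup.center ↥K).equivMapOfInjective K.subtype K.subtype_injective)
      have := CfsgLib.Components.le_fitting_of_isSubnormal hsub hnil
      rw [hF, le_bot_iff, Subgroup.map_eq_bot_iff_of_injective _ K.subtype_injective] at this
      exact this
    refine le_antisymm (sSup_le fun N hN => ?_) (sSup_le fun K hK => ?_)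
    · obtain ⟨hne, hn, hmin⟩ := hN
      have := hn
      rcases hmin (N ⊓ Cfsg.layer G) inferInstance inf_le_left with h | h
      · exfalso
        have : Nontrivial N := (Subgroup.nontrivial_iff_ne_bot N).2 hne
        have hlay : Cfsg.layer N = ⊥ := CfsgLib.Components.layer_eq_bot_iff.2 fun K hK => by
          have hK' := CfsgLib.Components.component_map_subtype hn.isSubnormal hK
          refine CfsgLib.Components.component_ne_bot hK' (eq_bot_iff.2 ?_)
          rw [← h]
          exact le_inf (Subgroup.map_subtype_le K) (CfsgLib.Components.component_le_layer hK')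
        have hfit : Cfsg.fittingSubgroup N = ⊥ := by
          have hle : (Cfsg.fittingSubgroup N).map N.subtype ≤ Cfsg.fittingSubgroup G := by
            refine CfsgLib.Components.le_fitting_of_normal inferInstance ?_
            have := CfsgLib.Solvable.fittingSubgroup_isNilpotent N
            exact Group.nilpotent_of_mulEquiv
              ((Cfsg.fittingSubgroup N).equivMapOfInjective N.subtype N.subtype_injective)
          rw [hF, le_bot_iff, Subgroup.map_eq_bot_iff_of_injective _ N.subtype_injective] at hle
          exact hle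
        exact CfsgLib.Components.genFitting_ne_bot (G := N)
          (by rw [Cfsg.generalizedFittingSubgroup, hlay, hfit, sup_bot_eq])
      · exact h ▸ inf_le_right
    · refine Subgroup.le_normalClosure.trans (le_sSup ?_)
      exact ⟨(minimal K hK (hcf K hK)).1, Subgroup.normalClosure_normal, (minimal K hK (hcf K hK)).2⟩

end Cfsg.Agent.S3747
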