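import Cfsg.Statements.S3748
import Cfsg.Agent.Lib.Components.GenFitting
import Cfsg.Agent.Lib.Solvable.Core
import Mathlib

set_option autoImplicit false
open Cfsg

namespace Cfsg.Agent.S3748

/-- Call a proper subgroup M of G primitive when M = N_G(N) for every non-trivial normal subgroup N of M. If M is a primitive subgroup of the finite group G, then no non-trivial subnormal subgroup of G is contained in M; in particular M ∩ F(G) = 1. -/
theorem result {G : Type*} [Group G] [Finite G] (M : Subgroup G) (hM : M ≠ ⊤) (hprim : ∀ N : Subgroup G, N ≤ M → M ≤ Subgroup.normalizer (N : Set G) → N ≠ ⊥ → Subgroup.normalizer (N : Set G) = M) : (∀ L : Subgroup G, L.IsSubnormal → L ≤ M → L = ⊥) ∧ M ⊓ Cfsg.fittingSubgroup G = ⊥ := by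
  set F := Cfsg.fittingSubgroup G
  have hFnorm : ∀ g : G, ∀ x ∈ F, g * x * g⁻¹ ∈ F := fun g x hx =>
    (inferInstance : F.Normal).conj_mem x hx g
  have hMF : M ⊓ F = ⊥ := by
    by_contra hne
    have hN : M ≤ Subgroup.normalizer ((M ⊓ F : Subgroup G) : Set G) := by
      intro m hm
      rw [Subgroup.mem_normalizer_iff]
      intro x
      refine ⟨fun hx => ⟨M.mul_mem (M.mul_mem hm hx.1) (M.inv_mem hm), hFnorm m x hx.2⟩, fun hx => ?_⟩
      have e : x = m⁻¹ * (m * x * m⁻¹) * m := by group
      rw [e]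
      refine ⟨M.mul_mem (M.mul_mem (M.inv_mem hm) hx.1) hm, ?_⟩
      have := hFnorm m⁻¹ _ hx.2
      rwa [inv_inv] at this
    have hNM := hprim _ inf_le_left hN hne
    have hFM : ¬ F ≤ M := by
      intro hle
      have hFbot : F ≠ ⊥ := fun h => hne (by rw [h, inf_bot_eq])
      exact hM (by rw [← hprim F hle (by rw [Subgroup.normalizer_eq_top]; exact le_top) hFbot,
        Subgroup.normalizer_eq_top])
    have hnil : Group.IsNilpotent F := CfsgLib.Solvable.fittingSubgroup_isNilpotent G
    have hlt : (M ⊓ F).subgroupOf F < ⊤ := by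
      refine lt_top_iff_ne_top.2 fun h => hFM ?_
      rw [Subgroup.subgroupOf_eq_top] at h
      exact h.trans inf_le_left
    obtain ⟨y, hy, hyn⟩ := SetLike.exists_of_lt (Group.normalizerCondition_of_isNilpotent (G := F) _ hlt)
    refine hyn ⟨?_, y.2⟩
    show (y : G) ∈ M
    rw [← hNM, Subgroup.mem_normalizer_iff]
    intro x
    constructor
    · intro hx
      exact (Subgroup.mem_normalizer_iff.1 hy ⟨x, hx.2⟩).1 hx
    · intro hx
      have hxF : x ∈ F := by
        have := hFnorm (y : G)⁻¹ _ hx.2
        rw [inv_inv] at this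
        convert this using 1
        group
      exact (Subgroup.mem_normalizer_iff.1 hy ⟨x, hxF⟩).2 hx
  refine ⟨fun L hL hLM => ?_, hMF⟩
  by_contra hL1
  -- some component of `G` lies in `M`
  obtain ⟨K, hK, hKM⟩ : ∃ K : Subgroup G, Cfsg.IsComponent K ∧ K ≤ M := by
    by_contra hno
    push Not at hno
    have hlay : Cfsg.layer L = ⊥ := CfsgLib.Components.layer_eq_bot_iff.2 fun K hK =>
      hno _ (CfsgLib.Components.component_map_subtype hL hK) ((Subgroup.map_subtype_le K).trans hLM)
    have hfit : (Cfsg.fittingSubgroup L).map L.subtype ≤ F := by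
      refine CfsgLib.Components.le_fitting_of_isSubnormal
        (CfsgLib.Components.isSubnormal_of_le_normalizer (Subgroup.map_subtype_le _) ?_ hL) ?_
      · refine (Subgroup.normal_subgroupOf_iff_le_normalizer (Subgroup.map_subtype_le _)).1 ?_
        rw [Subgroup.subgroupOf, Subgroup.comap_map_eq_self_of_injective L.subtype_injective]
        infer_instance
      · have := CfsgLib.Solvable.fittingSubgroup_isNilpotent L
        exact Group.nilpotent_of_mulEquiv
          ((Cfsg.fittingSubgroup L).equivMapOfInjective L.subtype L.subtype_injective)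
    have hbot : Cfsg.fittingSubgroup L = ⊥ := by
      apply Subgroup.map_injective L.subtype_injective
      rw [Subgroup.map_bot, eq_bot_iff, ← hMF]
      exact le_inf ((Subgroup.map_subtype_le _).trans hLM) hfit
    have : Nontrivial L := (Subgroup.nontrivial_iff_ne_bot L).2 hL1
    exact CfsgLib.Components.genFitting_ne_bot (G := L)
      (by rw [Cfsg.generalizedFittingSubgroup, hlay, hbot, sup_bot_eq])
  set N : Subgroup G := sSup {C : Subgroup G | Cfsg.IsComponent C ∧ C ≤ M}
  have hKN : K ≤ N := le_sSup (⟨hK, hKM⟩ : K ∈ {C : Subgroup G | Cfsg.IsComponent C ∧ C ≤ M})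
  have hNM' : N ≤ M := sSup_le fun C hC => hC.2
  have hNne : N ≠ ⊥ := fun h => CfsgLib.Components.component_ne_bot hK (eq_bot_iff.2 (h ▸ hKN))
  have hconj : ∀ g : G, (∀ C : Subgroup G, Cfsg.IsComponent C → C ≤ M →
      C.map (MulAut.conj g).toMonoidHom ≤ N) → ∀ x ∈ N, g * x * g⁻¹ ∈ N := by
    intro g hg x hx
    have : N ≤ N.comap (MulAut.conj g).toMonoidHom := by
      refine sSup_le fun C hC => ?_
      rw [← Subgroup.map_le_iff_le_comap]
      exact hg C hC.1 hC.2
    exact this hx
  have hMN : M ≤ Subgroup.normalizer (N : Set G) := by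
    have h1 : ∀ g ∈ M, ∀ x ∈ N, g * x * g⁻¹ ∈ N := fun g hg => hconj g fun C hC hCM => by
      refine le_sSup (a := C.map (MulAut.conj g).toMonoidHom) ⟨CfsgLib.Components.component_map_conj hC g, ?_⟩
      rintro _ ⟨c, hc, rfl⟩
      exact mul_mem (mul_mem hg (hCM hc)) (inv_mem hg)
    intro m hm
    rw [Subgroup.mem_normalizer_iff]
    refine fun x => ⟨h1 m hm x, fun hx => ?_⟩
    have := h1 m⁻¹ (inv_mem hm) _ hx
    rw [inv_inv] at this
    convert this using 1
    group
  have hlayN : Cfsg.layer G ≤ Subgroup.normalizer (N : Set G) := by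
    have h1 : ∀ g ∈ Cfsg.layer G, ∀ x ∈ N, g * x * g⁻¹ ∈ N := fun g hg => hconj g fun C hC hCM => by
      rintro _ ⟨c, hc, rfl⟩
      have := CfsgLib.Components.layer_le_normalizer_component hC hg
      exact (le_sSup (show C ∈ {C : Subgroup G | Cfsg.IsComponent C ∧ C ≤ M} from ⟨hC, hCM⟩) :
        C ≤ N) ((Subgroup.mem_normalizer_iff.1 this c).1 hc)
    intro m hm
    rw [Subgroup.mem_normalizer_iff]
    refine fun x => ⟨h1 m hm x, fun hx => ?_⟩
    have := h1 m⁻¹ (inv_mem hm) _ hx
    rw [inv_inv] at this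
    convert this using 1
    group
  rw [hprim N hNM' hMN hNne] at hlayN
  have hlne : Cfsg.layer G ≠ ⊥ := fun h =>
    CfsgLib.Components.component_ne_bot hK (eq_bot_iff.2 (h ▸ CfsgLib.Components.component_le_layer hK))
  exact hM (by rw [← hprim _ hlayN (by rw [Subgroup.normalizer_eq_top]; exact le_top) hlne,
    Subgroup.normalizer_eq_top])

end Cfsg.Agent.S3748
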