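import Cfsg.Statements.S3749
import Cfsg.Agent.Lib.Solvable.CoprimeAction
import Cfsg.Agent.Lib.Solvable.Core
import Mathlib

set_option autoImplicit false
open Cfsg

namespace Cfsg.Agent.S3749

/-- Call a proper subgroup M of G primitive when M = N_G(N) for every non-trivial normal subgroup N of M. Let M be a primitive subgroup of the finite group G, p a prime with O_p(M) ≠ 1, and N a normal subgroup of G with M ∩ N = 1. Then p does not divide the order of N; for every prime q there is exactly one Sylow q-subgroup of N normalized by M; and if the order of N has at least two prime divisors then M is not a maximal subgroup of G. -/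
theorem result {G : Type*} [Group G] [Finite G] (M : Subgroup G) (hM : M ≠ ⊤) (hprim : ∀ N : Subgroup G, N ≤ M → M ≤ Subgroup.normalizer (N : Set G) → N ≠ ⊥ → Subgroup.normalizer (N : Set G) = M) {p : ℕ} [Fact p.Prime] (hOp : Cfsg.pCore p ↥M ≠ ⊥) (N : Subgroup G) [N.Normal] (hMN : M ⊓ N = ⊥) : ¬ p ∣ Nat.card N ∧ (∀ q : ℕ, [Fact q.Prime] → ∃! Q : Sylow q ↥N, M ≤ Subgroup.normalizer ((Q : Subgroup ↥N).map N.subtype : Set G)) ∧ ((∃ q r : ℕ, q.Prime ∧ r.Prime ∧ q ≠ r ∧ q ∣ Nat.card N ∧ r ∣ Nat.card N) → ¬ IsCoatom M) := by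
  have hpp : p.Prime := Fact.out
  set P := (Cfsg.pCore p ↥M).map M.subtype with hP
  have hPM : P ≤ M := Subgroup.map_subtype_le _
  have hPp : IsPGroup p P := (CfsgLib.Solvable.pCore_isPGroup (p := p) M).map _
  have hMP : M ≤ Subgroup.normalizer (P : Set G) := by
    refine (Subgroup.normal_subgroupOf_iff_le_normalizer hPM).1 ?_
    rw [Subgroup.subgroupOf, hP, Subgroup.comap_map_eq_self_of_injective M.subtype_injective]
    exact CfsgLib.Solvable.pCore_normal (p := p) M
  have hNGP : Subgroup.normalizer (P : Set G) = M := hprim P hPM hMP fun h =>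
    hOp ((Subgroup.map_eq_bot_iff_of_injective _ M.subtype_injective).1 h)
  have hfix : ∀ c ∈ N, c ∈ Subgroup.centralizer (P : Set G) → c = 1 := by
    intro c hcN hcP
    have : c ∈ M ⊓ N := ⟨hNGP ▸ Subgroup.centralizer_le_normalizer _ hcP, hcN⟩
    rwa [hMN, Subgroup.mem_bot] at this
  have hpN : ¬ p ∣ Nat.card N := by
    intro hdvd
    obtain ⟨S, hS⟩ := hPp.exists_le_sylow
    have hne : N.subgroupOf (S : Subgroup G) ≠ ⊥ := by
      intro h
      rw [Subgroup.subgroupOf_eq_bot, disjoint_iff] at h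
      obtain ⟨c, hc⟩ := exists_prime_orderOf_dvd_card' p hdvd
      obtain ⟨T, hT⟩ := (show IsPGroup p ↥(Subgroup.zpowers (c : G)) from
        IsPGroup.of_card (n := 1) (by rw [Nat.card_zpowers, Subgroup.orderOf_coe, hc, pow_one])).exists_le_sylow
      obtain ⟨g, hg⟩ := MulAction.exists_smul_eq G T S
      have hc2 : g * (c : G) * g⁻¹ ∈ (S : Subgroup G) := by
        rw [← hg]
        exact Subgroup.smul_mem_pointwise_smul (c : G) (MulAut.conj g) _ (hT (Subgroup.mem_zpowers _))
      have hc3 : g * (c : G) * g⁻¹ ∈ N ⊓ (S : Subgroup G) := ⟨‹N.Normal›.conj_mem _ c.2 g, hc2⟩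
      rw [h, Subgroup.mem_bot, conj_eq_one_iff] at hc3
      rw [← Subgroup.orderOf_coe, hc3, orderOf_one] at hc
      exact hpp.one_lt.ne hc
    have : (N.subgroupOf (S : Subgroup G)).Normal := ‹N.Normal›.comap _
    obtain ⟨z, hz, hz1⟩ := CfsgLib.Solvable.exists_ne_one_mem_inf_center_of_normal S.2 hne
    refine hz1 (Subtype.ext (hfix z hz.1 (Subgroup.mem_centralizer_iff.2 fun a ha => ?_)))
    exact congrArg Subtype.val (Subgroup.mem_center_iff.1 hz.2 ⟨a, hS ha⟩)
  obtain ⟨n, hn⟩ := hPp.exists_card_eq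
  have hcop : (Nat.card P).Coprime (Nat.card N) := by
    rw [hn]
    exact ((hpp.coprime_iff_not_dvd.2 hpN).pow_left n)
  have hsolv : Group.IsSolvable P ∨ Group.IsSolvable N := by
    have := hPp.isNilpotent
    exact Or.inl inferInstance
  have hPN : P ≤ Subgroup.normalizer (N : Set G) := Subgroup.le_normalizer_of_normal
  have huniq : ∀ q : ℕ, [Fact q.Prime] → ∃! Q : Sylow q ↥N,
      M ≤ Subgroup.normalizer ((Q : Subgroup ↥N).map N.subtype : Set G) := by
    intro q hq
    have huniqP : ∀ Q R : Sylow q N, P ≤ Subgroup.normalizer ((Q : Subgroup N).map N.subtype : Set G) →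
        P ≤ Subgroup.normalizer ((R : Subgroup N).map N.subtype : Set G) → Q = R := by
      intro Q R hQ hR
      obtain ⟨c, hc, hcQ⟩ := CfsgLib.Solvable.exists_invariant_sylow_conj hPN hcop hsolv Q R hQ hR
      obtain rfl : c = 1 := Subtype.ext (hfix c c.2 hc)
      rwa [map_one, one_smul] at hcQ
    obtain ⟨Q, hQ⟩ := CfsgLib.Solvable.exists_invariant_sylow hPN hcop hsolv q
    refine ⟨Q, ?_, fun R hR => huniqP R Q (hPM.trans hR) hQ⟩
    intro m hm
    obtain ⟨R, hR⟩ := CfsgLib.Solvable.conj_smul_map_sylow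
      (g := m) (Subgroup.le_normalizer_of_normal (Subgroup.mem_top m)) Q
    rw [CfsgLib.Solvable.conj_smul_eq_map] at hR
    have hRP : P ≤ Subgroup.normalizer ((R : Subgroup N).map N.subtype : Set G) := by
      intro a ha
      rw [hR]
      have h1 : m⁻¹ * a * m ∈ P := by
        have := (Subgroup.mem_normalizer_iff.1 (hMP (inv_mem hm)) a).1 ha
        simpa using this
      have h2 := Subgroup.mem_normalizer_iff_map_conj_eq.1 (hQ h1)
      refine Subgroup.mem_normalizer_iff_map_conj_eq.2 ?_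
      have e : ((MulAut.conj a).toMonoidHom).comp (MulAut.conj m).toMonoidHom =
          ((MulAut.conj m).toMonoidHom).comp (MulAut.conj (m⁻¹ * a * m)).toMonoidHom := by
        ext x
        simp [mul_assoc]
      calc (((Q : Subgroup N).map N.subtype).map (MulAut.conj m).toMonoidHom).map (MulAut.conj a).toMonoidHom
          = (((Q : Subgroup N).map N.subtype).map (MulAut.conj (m⁻¹ * a * m)).toMonoidHom).map (MulAut.conj m).toMonoidHom := by
            rw [Subgroup.map_map, e, ← Subgroup.map_map]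
        _ = _ := by congr 1
    have := huniqP R Q hRP hQ
    subst this
    exact Subgroup.mem_normalizer_iff_map_conj_eq.2 hR.symm
  refine ⟨hpN, huniq, ?_⟩
  rintro ⟨q, r, hq, hr, hqr, hqN, hrN⟩ hco
  haveI := Fact.mk hq
  obtain ⟨Q, hQ, -⟩ := huniq q
  set Q₀ := (Q : Subgroup N).map N.subtype with hQ₀
  have hQN : Q₀ ≤ N := Subgroup.map_subtype_le _
  have hQcard : Nat.card Q₀ = Nat.card (Q : Subgroup N) := Subgroup.card_map_of_injective N.subtype_injective
  have hnle : ¬ Q₀ ≤ M := by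
    intro hle
    have : Q₀ = ⊥ := eq_bot_iff.2 (hMN ▸ le_inf hle hQN)
    rw [Subgroup.map_eq_bot_iff_of_injective _ N.subtype_injective] at this
    exact Q.ne_bot_of_dvd_card hqN this
  have htop : M ⊔ Q₀ = ⊤ := hco.2 _ (lt_of_le_of_ne le_sup_left fun h => hnle (h ▸ le_sup_right))
  have hNQ : N ≤ Q₀ := by
    intro x hx
    have hx1 : x ∈ ((M ⊔ Q₀ : Subgroup G) : Set G) := by rw [htop]; trivial
    rw [Subgroup.coe_mul_of_left_le_normalizer_right _ _ hQ] at hx1
    obtain ⟨m, hm, y, hy, rfl⟩ := hx1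
    have hm1 : m ∈ M ⊓ N := ⟨hm, by simpa using N.mul_mem hx (N.inv_mem (hQN hy))⟩
    rw [hMN, Subgroup.mem_bot] at hm1
    subst hm1
    simpa using hy
  have heq : Q₀ = N := le_antisymm hQN hNQ
  obtain ⟨k, hk⟩ := Q.2.exists_card_eq
  rw [← hQcard, heq] at hk
  rw [hk] at hrN
  exact hqr ((Nat.prime_dvd_prime_iff_eq hr hq).1 (hr.dvd_of_dvd_pow hrN)).symm

end Cfsg.Agent.S3749
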