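import Cfsg.Statements.S3750
import Cfsg.Agent.S3748
import Cfsg.Agent.Lib.Components.GenFitting
import Cfsg.Agent.Lib.Solvable.Core
import Mathlib

set_option autoImplicit false
open Cfsg

namespace Cfsg.Agent.S3750

/-- Call a proper subgroup M of G primitive when M = N_G(N) for every non-trivial normal subgroup N of M. Let M be a primitive subgroup of the finite group G and N a normal subgroup of G with M ∩ F*(N) ≠ 1. Then F(G) = 1 and F*(N) = F*(G) = E(G); in particular every minimal normal subgroup of G is contained in N. -/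
theorem result {G : Type*} [Group G] [Finite G] (M : Subgroup G) (hM : M ≠ ⊤) (hprim : ∀ N : Subgroup G, N ≤ M → M ≤ Subgroup.normalizer (N : Set G) → N ≠ ⊥ → Subgroup.normalizer (N : Set G) = M) (N : Subgroup G) [N.Normal] (hMF : M ⊓ (Cfsg.generalizedFittingSubgroup ↥N).map N.subtype ≠ ⊥) : Cfsg.fittingSubgroup G = ⊥ ∧ (Cfsg.generalizedFittingSubgroup ↥N).map N.subtype = Cfsg.generalizedFittingSubgroup G ∧ Cfsg.generalizedFittingSubgroup G = Cfsg.layer G ∧ ∀ K : Subgroup G, K.Normal → K ≠ ⊥ → (∀ K' : Subgroup G, K'.Normal → K' ≤ K → K' = ⊥ ∨ K' = K) → K ≤ N := by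
  obtain ⟨hsn, hMF0⟩ := Cfsg.Agent.S3748.result M hM hprim
  set FN := (Cfsg.generalizedFittingSubgroup ↥N).map N.subtype with hFN
  have hFNn : FN.Normal := inferInstance
  set X := M ⊓ FN
  have hXn : M ≤ Subgroup.normalizer (X : Set G) :=
    (le_inf Subgroup.le_normalizer Subgroup.le_normalizer_of_normal).trans
      Subgroup.inf_normalizer_le_normalizer_inf
  have hCM : ∀ A : Subgroup G, A ≤ Subgroup.centralizer (FN : Set G) → A ≤ M := by
    intro A hA
    rw [← hprim X inf_le_left hXn hMF]
    exact hA.trans ((Subgroup.centralizer_le (fun x hx => hx.2)).trans (Subgroup.centralizer_le_normalizer _))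
  have hkill : ∀ A : Subgroup G, A.IsSubnormal → ⁅A, N⁆ = ⊥ → A = ⊥ := fun A hA h =>
    hsn A hA (hCM A ((CfsgLib.Components.le_centralizer_of_commutator_eq_bot h).trans
      (Subgroup.centralizer_le (fun x hx => Subgroup.map_subtype_le _ hx))))
  have hdisj : ∀ K : Subgroup G, K.Normal → K ⊓ N = ⊥ → ⁅K, N⁆ = ⊥ := fun K hK h =>
    eq_bot_iff.2 (h ▸ (haveI := hK; Subgroup.commutator_le_inf K N))
  have hmin : ∀ K : Subgroup G, K.Normal → K ≠ ⊥ →
      (∀ K' : Subgroup G, K'.Normal → K' ≤ K → K' = ⊥ ∨ K' = K) → K ≤ N := by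
    intro K hK hne hm
    rcases hm (K ⊓ N) (haveI := hK; inferInstance) inf_le_left with h | h
    · exact absurd (hkill K hK.isSubnormal (hdisj K hK h)) hne
    · exact h ▸ inf_le_right
  have hNs : N.IsSubnormal := (inferInstance : N.Normal).isSubnormal
  have hF : Cfsg.fittingSubgroup G = ⊥ := by
    by_contra hne
    set F := Cfsg.fittingSubgroup G
    set A := (Subgroup.center ↥F).map F.subtype
    have hnil : Group.IsNilpotent F := CfsgLib.Solvable.fittingSubgroup_isNilpotent G
    have : Nontrivial F := (Subgroup.nontrivial_iff_ne_bot _).2 hne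
    have hAne : A ≠ ⊥ := by
      rw [Ne, Subgroup.map_eq_bot_iff_of_injective _ F.subtype_injective]
      exact fun h => Group.IsNilpotent.center_ne_bot (G := F) h
    have hAn : A.Normal := inferInstance
    have hA'ne : A ⊓ N ≠ ⊥ := fun h => hAne (hkill A hAn.isSubnormal (hdisj A hAn h))
    refine hA'ne (hsn _ (inferInstance : (A ⊓ N).Normal).isSubnormal (hCM _ (Subgroup.le_centralizer_iff.1 ?_)))
    rw [hFN, Cfsg.generalizedFittingSubgroup, Subgroup.map_sup, sup_le_iff]
    constructor
    · rw [Subgroup.map_le_iff_le_comap]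
      refine sSup_le fun K hK => ?_
      rw [← Subgroup.map_le_iff_le_comap]
      refine (CfsgLib.Components.le_centralizer_of_commutator_eq_bot
        (CfsgLib.Components.component_commutator_fitting
          (CfsgLib.Components.component_map_subtype hNs hK))).trans (Subgroup.centralizer_le ?_)
      exact fun x hx => Subgroup.map_subtype_le _ hx.1
    · have hle : (Cfsg.fittingSubgroup N).map N.subtype ≤ F := by
        refine CfsgLib.Components.le_fitting_of_normal inferInstance ?_
        have := CfsgLib.Solvable.fittingSubgroup_isNilpotent N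
        exact Group.nilpotent_of_mulEquiv
          ((Cfsg.fittingSubgroup N).equivMapOfInjective N.subtype N.subtype_injective)
      refine hle.trans ?_
      intro f hf
      rw [Subgroup.mem_centralizer_iff]
      rintro a ⟨⟨z, hz, rfl⟩, -⟩
      exact (congrArg Subtype.val (Subgroup.mem_center_iff.1 hz ⟨f, hf⟩)).symm
  have hFNbot : (Cfsg.fittingSubgroup N).map N.subtype = ⊥ := by
    rw [eq_bot_iff, ← hF]
    refine CfsgLib.Components.le_fitting_of_normal inferInstance ?_
    have := CfsgLib.Solvable.fittingSubgroup_isNilpotent N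
    exact Group.nilpotent_of_mulEquiv
      ((Cfsg.fittingSubgroup N).equivMapOfInjective N.subtype N.subtype_injective)
  have hGstar : Cfsg.generalizedFittingSubgroup G = Cfsg.layer G := by
    rw [Cfsg.generalizedFittingSubgroup, hF, sup_bot_eq]
  have hlay : FN = Cfsg.layer G := by
    rw [hFN, Cfsg.generalizedFittingSubgroup, Subgroup.map_sup, hFNbot, sup_bot_eq]
    refine le_antisymm ?_ (sSup_le fun K hK => ?_)
    · rw [Subgroup.map_le_iff_le_comap]
      refine sSup_le fun K hK => ?_
      rw [← Subgroup.map_le_iff_le_comap]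
      exact CfsgLib.Components.component_le_layer (CfsgLib.Components.component_map_subtype hNs hK)
    · rcases CfsgLib.Components.component_le_or_commutator_normal hK ‹N.Normal› with h | h
      · rw [← Subgroup.map_subgroupOf_eq_of_le h]
        exact Subgroup.map_mono
          (CfsgLib.Components.component_le_layer (CfsgLib.Components.component_subgroupOf hK h))
      · exact absurd (hkill K hK.1 h) (CfsgLib.Components.component_ne_bot hK)
  exact ⟨hF, hlay.trans hGstar.symm, hGstar, hmin⟩

end Cfsg.Agent.S3750
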