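import Cfsg.Statements.S3751
import Cfsg.Agent.Lib.FGS68.Basic
import Cfsg.Agent.Lib.Solvable.Core
import Mathlib

set_option autoImplicit false
open Cfsg

namespace Cfsg.Agent.S3751

variable {G : Type*} [Group G] [Finite G] {p : ℕ} [Fact p.Prime]

/-- The normaliser of a nontrivial `p`-subgroup. -/
def IsLoc (p : ℕ) (M : Subgroup G) : Prop :=
  ∃ T : Subgroup G, IsPGroup p T ∧ T ≠ ⊥ ∧ M = Subgroup.normalizer (T : Set G)

/-- A maximal `p`-local subgroup. -/
def IsMaxLoc (p : ℕ) (M : Subgroup G) : Prop :=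
  IsLoc p M ∧ ∀ L : Subgroup G, IsLoc p L → M ≤ L → L = M

theorem hloc_char (hloc : Cfsg.IsOfLocalCharacteristic p G) {M : Subgroup G} (hM : IsMaxLoc p M) :
    Subgroup.centralizer (Cfsg.pCore p ↥M : Set ↥M) ≤ Cfsg.pCore p ↥M := by
  obtain ⟨T, hT, hT1, rfl⟩ := hM.1
  exact hloc.2 T hT hT1

/-- A nontrivial normal subgroup of a maximal local subgroup has that subgroup as normaliser. -/
theorem normalizer_eq {M : Subgroup G} (hM : IsMaxLoc p M) (hloc : Cfsg.IsOfLocalCharacteristic p G)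
    (A : Subgroup G) (hA : A ≠ ⊥) (hAM : A ≤ M) (hMA : M ≤ Subgroup.normalizer (A : Set G)) :
    Subgroup.normalizer (A : Set G) = M := by
  set C := (Cfsg.pCore p ↥A).map A.subtype
  have hchar : (Cfsg.pCore p ↥A).Characteristic := CfsgLib.Solvable.pCore_characteristic (p := p) A
  have hle : Subgroup.normalizer (A : Set G) ≤ Subgroup.normalizer (C : Set G) :=
    CfsgLib.FGS68.normalizer_le_map_of_char A _
  have hCp : IsPGroup p C := (CfsgLib.Solvable.pCore_isPGroup (p := p) A).map _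
  have hC1 : C ≠ ⊥ := by
    intro hC
    have hC' : Cfsg.pCore p ↥A = ⊥ :=
      (Subgroup.map_eq_bot_iff_of_injective _ A.subtype_injective).1 hC
    set P := Cfsg.pCore p ↥M
    have hP : P.Normal := CfsgLib.Solvable.pCore_normal (p := p) M
    have hAn : (A.subgroupOf M).Normal := (Subgroup.normal_subgroupOf_iff_le_normalizer hAM).2 hMA
    have hint : A.subgroupOf M ⊓ P = ⊥ := by
      let f : ↥(A.subgroupOf M) ≃* A := Subgroup.subgroupOfEquivOfLe hAM
      have hn : ((P.subgroupOf (A.subgroupOf M)).map f.toMonoidHom).Normal :=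
        (hP.comap _).map _ f.surjective
      have hp : IsPGroup p ↥((P.subgroupOf (A.subgroupOf M)).map f.toMonoidHom) :=
        ((CfsgLib.Solvable.pCore_isPGroup (p := p) M).comap_of_injective _ Subtype.coe_injective).map _
      have := CfsgLib.Solvable.le_pCore hn hp
      rw [hC', le_bot_iff, Subgroup.map_eq_bot_iff_of_injective _ f.injective,
        Subgroup.subgroupOf_eq_bot, disjoint_iff, inf_comm] at this
      exact this
    have hcen : A.subgroupOf M ≤ Subgroup.centralizer (P : Set M) := fun a ha => by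
      rw [Subgroup.mem_centralizer_iff]
      intro x hx
      exact (Subgroup.commute_of_normal_of_disjoint _ _ hP hAn
        (disjoint_iff.2 (by rw [inf_comm]; exact hint)) x a hx ha).eq
    have : A.subgroupOf M = ⊥ := eq_bot_iff.2 (hint ▸ le_inf le_rfl (hcen.trans (hloc_char hloc hM)))
    rw [Subgroup.subgroupOf_eq_bot, disjoint_iff, inf_eq_left.2 hAM] at this
    exact hA this
  exact le_antisymm (hle.trans (hM.2 _ ⟨C, hCp, hC1, rfl⟩ (hMA.trans hle)).le) hMA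

theorem map_conj (g : G) {M : Subgroup G} (hM : IsMaxLoc p M) :
    IsMaxLoc p (M.map (MulAut.conj g).toMonoidHom) := by
  have key : ∀ (h : G) (L : Subgroup G), IsLoc p L → IsLoc p (L.map (MulAut.conj h).toMonoidHom) := by
    rintro h _ ⟨T, hT, hT1, rfl⟩
    exact ⟨T.map (MulAut.conj h).toMonoidHom, hT.map _,
      fun hb => hT1 ((Subgroup.map_eq_bot_iff_of_injective _ (MulAut.conj h).injective).1 hb),
      (CfsgLib.FGS68.normalizer_map_conj h T).symm⟩
  refine ⟨key g M hM.1, fun L hL hle => ?_⟩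
  have h2 : (L.map (MulAut.conj g⁻¹).toMonoidHom) = M := hM.2 _ (key _ L hL) fun x hx => by
    rw [CfsgLib.FGS68.mem_map_conj_iff, inv_inv]
    exact hle ⟨x, hx, rfl⟩
  rw [← h2, CfsgLib.FGS68.map_conj_inv]

theorem pcore_le_of_sylow {M S : Subgroup G} (hSp : IsPGroup p S) (hSM : S ≤ M)
    (hsyl : ∀ R : Subgroup G, IsPGroup p R → S ≤ R → R ≤ M → R = S) :
    (Cfsg.pCore p ↥M).map M.subtype ≤ S := by
  set P := (Cfsg.pCore p ↥M).map M.subtype
  have hPM : P ≤ M := Subgroup.map_subtype_le _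
  have hn : M ≤ Subgroup.normalizer (P : Set G) := by
    refine (Subgroup.normal_subgroupOf_iff_le_normalizer hPM).1 ?_
    rw [Subgroup.subgroupOf, Subgroup.comap_map_eq_self_of_injective M.subtype_injective]
    exact CfsgLib.Solvable.pCore_normal (p := p) M
  have hR : IsPGroup p ↥(S ⊔ P) :=
    hSp.to_sup_of_normal_right' ((CfsgLib.Solvable.pCore_isPGroup (p := p) M).map _) (hSM.trans hn)
  exact le_sup_right.trans (hsyl _ hR le_sup_left (sup_le hSM hPM)).le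

theorem exists_larger {M S : Subgroup G} (hSp : IsPGroup p S) (hSM : S ≤ M)
    (h : ¬ ∀ R : Subgroup G, IsPGroup p R → S ≤ R → R ≤ M → R = S) :
    ∃ R : Subgroup G, IsPGroup p R ∧ S < R ∧ R ≤ M ∧ R ≤ Subgroup.normalizer (S : Set G) := by
  push Not at h
  obtain ⟨R, hR, hSR, hRM, hne⟩ := h
  have hlt : S.subgroupOf R < ⊤ := lt_top_iff_ne_top.2 fun e =>
    hne (le_antisymm (Subgroup.subgroupOf_eq_top.1 e) hSR)
  have : Group.IsNilpotent R := hR.isNilpotent
  obtain ⟨x, hx, hxS⟩ := SetLike.exists_of_lt (Group.normalizerCondition_of_isNilpotent (G := R) _ hlt)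
  refine ⟨S ⊔ Subgroup.zpowers (x : G), hR.to_le (sup_le hSR (Subgroup.zpowers_le.2 x.2)),
    lt_of_le_of_ne le_sup_left fun e => hxS (show (x : G) ∈ S from
      e ▸ Subgroup.mem_sup_right (Subgroup.mem_zpowers _)),
    sup_le hSM (Subgroup.zpowers_le.2 (hRM x.2)), sup_le Subgroup.le_normalizer (Subgroup.zpowers_le.2 ?_)⟩
  rw [← Subgroup.map_subgroupOf_eq_of_le hSR]
  exact Subgroup.le_normalizer_map R.subtype ⟨x, hx, rfl⟩

theorem twist {M S : Subgroup G} (hSp : IsPGroup p S) (hM : IsMaxLoc p M) (hSM : S ≤ M)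
    (hsyl : ∀ R : Subgroup G, IsPGroup p R → S ≤ R → R ≤ M → R = S)
    (R : Subgroup G) (hR : IsPGroup p R) (hlt : S < R) (hRn : R ≤ Subgroup.normalizer (S : Set G)) :
    ∃ M₁ M₂ : Subgroup G, IsMaxLoc p M₁ ∧ IsMaxLoc p M₂ ∧ M₁ ≠ M₂ ∧
      (Cfsg.pCore p ↥M₁).map M₁.subtype ≤ M₂ ∧ (Cfsg.pCore p ↥M₂).map M₂.subtype ≤ M₁ := by
  obtain ⟨r, hr, hrS⟩ := SetLike.exists_of_lt hlt
  have hSr : S.map (MulAut.conj r).toMonoidHom = S := Subgroup.mem_normalizer_iff_map_conj_eq.1 (hRn hr)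
  have hO := pcore_le_of_sylow hSp hSM hsyl
  set M' := M.map (MulAut.conj r).toMonoidHom
  have hSM' : S ≤ M' := hSr.ge.trans (Subgroup.map_mono hSM)
  refine ⟨M, M', hM, map_conj r hM, ?_, hO.trans hSM', ?_⟩
  · intro he
    -- `r` fixes `M`, hence lies in it
    have hrn : r ∈ Subgroup.normalizer (M : Set G) := Subgroup.mem_normalizer_iff_map_conj_eq.2 he.symm
    obtain ⟨T, hT, hT1, hMT⟩ := hM.1
    set P := (Cfsg.pCore p ↥M).map M.subtype
    have hTP : T ≤ P := by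
      have hTM : T ≤ M := hMT ▸ Subgroup.le_normalizer
      rw [← Subgroup.map_subgroupOf_eq_of_le hTM]
      refine Subgroup.map_mono (CfsgLib.Solvable.le_pCore ?_ (hT.of_equiv (Subgroup.subgroupOfEquivOfLe hTM).symm))
      exact (Subgroup.normal_subgroupOf_iff_le_normalizer hTM).2 hMT.le
    have hchar : (Cfsg.pCore p ↥M).Characteristic := CfsgLib.Solvable.pCore_characteristic (p := p) M
    have hle : Subgroup.normalizer (M : Set G) ≤ Subgroup.normalizer (P : Set G) :=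
      CfsgLib.FGS68.normalizer_le_map_of_char M _
    have hP1 : P ≠ ⊥ := fun h => hT1 (eq_bot_iff.2 (h ▸ hTP))
    have hPM : Subgroup.normalizer (P : Set G) = M :=
      hM.2 _ ⟨P, (CfsgLib.Solvable.pCore_isPGroup (p := p) M).map _, hP1, rfl⟩ (Subgroup.le_normalizer.trans hle)
    have hrM : r ∈ M := hPM ▸ hle hrn
    have hle2 : S ⊔ Subgroup.zpowers r ≤ M := sup_le hSM (Subgroup.zpowers_le.2 hrM)
    have := hsyl _ (hR.to_le (sup_le hlt.le (Subgroup.zpowers_le.2 hr))) le_sup_left hle2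
    exact hrS (this ▸ Subgroup.mem_sup_right (Subgroup.mem_zpowers r))
  · refine le_trans ?_ hSM
    rw [← hSr]
    refine pcore_le_of_sylow (hSp.map _) (Subgroup.map_mono hSM) fun R' hR' hle hle' => ?_
    have h2 := hsyl (R'.map (MulAut.conj r⁻¹).toMonoidHom) (hR'.map _) (fun x hx => by
        rw [CfsgLib.FGS68.mem_map_conj_iff, inv_inv]
        exact hle ⟨x, hx, rfl⟩)
      (fun x hx => by
        rw [CfsgLib.FGS68.mem_map_conj_iff, inv_inv] at hx
        have := CfsgLib.FGS68.mem_map_conj_iff.1 (hle' hx)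
        simpa [mul_assoc] using this)
    rw [← h2, CfsgLib.FGS68.map_conj_inv]

theorem exists_pair (hB : ∃ M L : Subgroup G, IsMaxLoc p M ∧ IsMaxLoc p L ∧ M ≠ L ∧ p ∣ Nat.card ↥(M ⊓ L)) :
    ∃ M₁ M₂ : Subgroup G, IsMaxLoc p M₁ ∧ IsMaxLoc p M₂ ∧ M₁ ≠ M₂ ∧
      (Cfsg.pCore p ↥M₁).map M₁.subtype ≤ M₂ ∧ (Cfsg.pCore p ↥M₂).map M₂.subtype ≤ M₁ := by
  classical
  have hpp : p.Prime := Fact.out
  obtain ⟨M₀, L₀, hM₀, hL₀, hne₀, hdvd⟩ := hB
  obtain ⟨x, hx⟩ := exists_prime_orderOf_dvd_card' p hdvd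
  let F : Set (Subgroup G) := {S | IsPGroup p S ∧ S ≠ ⊥ ∧
    ∃ M L : Subgroup G, IsMaxLoc p M ∧ IsMaxLoc p L ∧ M ≠ L ∧ S ≤ M ⊓ L}
  have hFne : F.Nonempty := by
    refine ⟨Subgroup.zpowers (x : G), IsPGroup.of_card (n := 1)
      (by rw [Nat.card_zpowers, Subgroup.orderOf_coe, hx, pow_one]), ?_, M₀, L₀, hM₀, hL₀, hne₀,
      Subgroup.zpowers_le.2 x.2⟩
    rw [Ne, Subgroup.zpowers_eq_bot]
    intro h
    rw [← Subgroup.orderOf_coe, h, orderOf_one] at hx
    exact hpp.one_lt.ne hx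
  obtain ⟨S, ⟨hSp, hS1, M, L, hM, hL, hne, hSML⟩, hmax⟩ :=
    Set.Finite.exists_maximal (s := F) (Set.toFinite _) hFne
  have big : ∀ (R A B : Subgroup G), IsPGroup p R → S < R → IsMaxLoc p A → IsMaxLoc p B → R ≤ A → R ≤ B →
      A = B := by
    intro R A B hR hlt hA hB hRA hRB
    by_contra hne
    exact hlt.not_ge (hmax ⟨hR, fun h => hS1 (eq_bot_iff.2 (h ▸ hlt.le)), A, B, hA, hB, hne, le_inf hRA hRB⟩ hlt.le)
  by_cases hsM : ∀ R : Subgroup G, IsPGroup p R → S ≤ R → R ≤ M → R = S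
  · by_cases hsL : ∀ R : Subgroup G, IsPGroup p R → S ≤ R → R ≤ L → R = S
    · exact ⟨M, L, hM, hL, hne, (pcore_le_of_sylow hSp (hSML.trans inf_le_left) hsM).trans (hSML.trans inf_le_right),
        (pcore_le_of_sylow hSp (hSML.trans inf_le_right) hsL).trans (hSML.trans inf_le_left)⟩
    · obtain ⟨R, hR, hlt, hRL, hRn⟩ := exists_larger hSp (hSML.trans inf_le_right) hsL
      exact twist hSp hM (hSML.trans inf_le_left) hsM R hR hlt hRn
  · obtain ⟨R, hR, hlt, hRM, hRn⟩ := exists_larger hSp (hSML.trans inf_le_left) hsM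
    by_cases hsL : ∀ R : Subgroup G, IsPGroup p R → S ≤ R → R ≤ L → R = S
    · exact twist hSp hL (hSML.trans inf_le_right) hsL R hR hlt hRn
    · obtain ⟨R', hR', hlt', hRL', hRn'⟩ := exists_larger hSp (hSML.trans inf_le_right) hsL
      obtain ⟨H, ⟨hHl, hHle⟩, hHmax⟩ := Set.Finite.exists_maximal
        (s := {H : Subgroup G | IsLoc p H ∧ Subgroup.normalizer (S : Set G) ≤ H}) (Set.toFinite _)
        ⟨_, ⟨S, hSp, hS1, rfl⟩, le_rfl⟩
      have hH : IsMaxLoc p H := ⟨hHl, fun K hK hle =>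
        le_antisymm (hHmax ⟨hK, hHle.trans hle⟩ hle) hle⟩
      exact absurd ((big R M H hR hlt hM hH hRM (hRn.trans hHle)).trans
        (big R' H L hR' hlt' hH hL (hRn'.trans hHle) hRL')) hne


/-- Two distinct subgroups M₁, M₂ of G form a primitive pair when, for {i, j} = {1, 2}, every non-trivial normal subgroup A of M_i contained in M₁ ∩ M₂ satisfies N_{M_j}(A) = M₁ ∩ M₂; the pair has characteristic p when moreover C_{M_i}(O_p(M_i)) ≤ O_p(M_i) for both i and O_p(M₁)O_p(M₂) ≤ M₁ ∩ M₂. Let G be a finite group, p a prime dividing its order, with O_p(G) = 1 and every p-local subgroup of characteristic p. Then either G has a primitive pair of characteristic p, or every maximal p-local subgroup M of G is strongly p-embedded in G: M is a proper subgroup, p divides its order, and for every g ∉ M the order of M ∩ gMg⁻¹ is prime to p. -/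
theorem result {G : Type*} [Group G] [Finite G] {p : ℕ} [Fact p.Prime] (hloc : Cfsg.IsOfLocalCharacteristic p G) (hOp : Cfsg.pCore p G = ⊥) : (∃ M₁ M₂ : Subgroup G, M₁ ≠ M₂ ∧ (∀ A : Subgroup G, A ≠ ⊥ → A ≤ M₁ ⊓ M₂ → (M₁ ≤ Subgroup.normalizer (A : Set G) → M₂ ⊓ Subgroup.normalizer (A : Set G) = M₁ ⊓ M₂) ∧ (M₂ ≤ Subgroup.normalizer (A : Set G) → M₁ ⊓ Subgroup.normalizer (A : Set G) = M₁ ⊓ M₂)) ∧ Subgroup.centralizer (Cfsg.pCore p ↥M₁ : Set ↥M₁) ≤ Cfsg.pCore p ↥M₁ ∧ Subgroup.centralizer (Cfsg.pCore p ↥M₂ : Set ↥M₂) ≤ Cfsg.pCore p ↥M₂ ∧ (Cfsg.pCore p ↥M₁).map M₁.subtype ⊔ (Cfsg.pCore p ↥M₂).map M₂.subtype ≤ M₁ ⊓ M₂) ∨ (∀ M : Subgroup G, (∃ T : Subgroup G, IsPGroup p T ∧ T ≠ ⊥ ∧ M = Subgroup.normalizer (T : Set G)) → (∀ L : Subgroup G, (∃ T : Subgroup G, IsPGroup p T ∧ T ≠ ⊥ ∧ L = Subgroup.normalizer (T : Set G)) → M ≤ L → L = M) → M ≠ ⊤ ∧ p ∣ Nat.card M ∧ ∀ g : G, g ∉ M → ¬ p ∣ Nat.card ↥(M ⊓ M.map (MulAut.conj g).toMonoidHom))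 := by
  have hpp : p.Prime := Fact.out
  classical
  by_cases hB : ∃ M L : Subgroup G, IsMaxLoc p M ∧ IsMaxLoc p L ∧ M ≠ L ∧ p ∣ Nat.card ↥(M ⊓ L)
  · left
    obtain ⟨M₁, M₂, h₁, h₂, hne, ho₁, ho₂⟩ := exists_pair hB
    refine ⟨M₁, M₂, hne, ?_, hloc_char hloc h₁, hloc_char hloc h₂, ?_⟩
    · intro A hA hA12
      refine ⟨fun hM => ?_, fun hM => ?_⟩
      · rw [normalizer_eq h₁ hloc A hA (hA12.trans inf_le_left) hM, inf_comm]
      · rw [normalizer_eq h₂ hloc A hA (hA12.trans inf_le_right) hM]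
    · exact sup_le (le_inf (Subgroup.map_subtype_le _) ho₁) (le_inf ho₂ (Subgroup.map_subtype_le _))
  · right
    intro M hM hmax
    have hML : IsMaxLoc p M := ⟨hM, hmax⟩
    obtain ⟨T, hT, hT1, rfl⟩ := hM
    refine ⟨fun htop => hT1 ?_, ?_, fun g hg hdvd => hB ⟨_, _, hML, map_conj g hML, ?_, hdvd⟩⟩
    · have : T.Normal := Subgroup.normalizer_eq_top_iff.1 htop
      exact eq_bot_iff.2 (hOp ▸ CfsgLib.Solvable.le_pCore this hT)
    · obtain ⟨k, hk⟩ := hT.exists_card_eq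
      have hk0 : k ≠ 0 := fun h => hT1 (Subgroup.card_eq_one.1 (by rw [hk, h, pow_zero]))
      exact ((dvd_pow_self p hk0).trans (dvd_of_eq hk.symm)).trans (Subgroup.card_dvd_of_le Subgroup.le_normalizer)
    · intro h
      have hgn : g ∈ Subgroup.normalizer ((Subgroup.normalizer (T : Set G) : Subgroup G) : Set G) :=
        Subgroup.mem_normalizer_iff_map_conj_eq.2 h.symm
      have := normalizer_eq hML hloc _ ?_ le_rfl Subgroup.le_normalizer
      · exact hg (this.le hgn)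
      · intro hb
        exact hT1 (eq_bot_iff.2 (hb ▸ Subgroup.le_normalizer))

end Cfsg.Agent.S3751
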