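import Cfsg.Statements.S3752
import Cfsg.Agent.Lib.FGS68.Basic
import Cfsg.Agent.Lib.Components.GenFitting
import Cfsg.Agent.Lib.Solvable.Core
import Mathlib

set_option autoImplicit false
open Cfsg
open scoped commutatorElement

namespace Cfsg.Agent.S3752

variable {G : Type*} [Group G] [Finite G]

/-- `O_q(M)` inside `G`. -/
def O (M : Subgroup G) (q : ℕ) : Subgroup G := (Cfsg.pCore q ↥M).map M.subtype

/-- Generated by the elements of order prime to `p` of `M` centralising `O_p(M)`. -/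
def KK (M : Subgroup G) (p : ℕ) : Subgroup G :=
  Subgroup.closure {c | c ∈ M ∧ (∀ x ∈ O M p, c * x = x * c) ∧ (orderOf c).Coprime p}

theorem normal_map (M : Subgroup G) (C : Subgroup M) [C.Normal] :
    M ≤ Subgroup.normalizer ((C.map M.subtype : Subgroup G) : Set G) := by
  refine (Subgroup.normal_subgroupOf_iff_le_normalizer (Subgroup.map_subtype_le _)).1 ?_
  rw [Subgroup.subgroupOf, Subgroup.comap_map_eq_self_of_injective M.subtype_injective]
  infer_instance

theorem O_normal (M : Subgroup G) (q : ℕ) : M ≤ Subgroup.normalizer (O M q : Set G) := by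
  haveI := CfsgLib.Solvable.pCore_normal (p := q) M
  exact normal_map M _

theorem isPGroup_O (M : Subgroup G) (q : ℕ) : IsPGroup q (O M q) :=
  (CfsgLib.Solvable.pCore_isPGroup (p := q) M).map _

theorem kk_le_self (M : Subgroup G) (p : ℕ) : KK M p ≤ M := by
  rw [KK, Subgroup.closure_le]
  exact fun c hc => hc.1

theorem kk_normal (M : Subgroup G) (p : ℕ) : M ≤ Subgroup.normalizer (KK M p : Set G) := by
  have h1 : ∀ m ∈ M, ∀ y ∈ KK M p, m * y * m⁻¹ ∈ KK M p := by
    intro m hm y hy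
    have : KK M p ≤ (KK M p).comap (MulAut.conj m).toMonoidHom := by
      conv_lhs => rw [KK]
      rw [Subgroup.closure_le]
      rintro c ⟨hc, hcx, hco⟩
      refine Subgroup.subset_closure ⟨?_, fun x hx => ?_, ?_⟩
      · exact M.mul_mem (M.mul_mem hm hc) (M.inv_mem hm)
      · have hx' : m⁻¹ * x * m ∈ O M p := by
          have := (Subgroup.mem_normalizer_iff.1 (O_normal M p (M.inv_mem hm)) x).1 hx
          simpa using this
        have := hcx _ hx'
        show m * c * m⁻¹ * x = x * (m * c * m⁻¹)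
        calc m * c * m⁻¹ * x = m * (c * (m⁻¹ * x * m)) * m⁻¹ := by group
          _ = m * ((m⁻¹ * x * m) * c) * m⁻¹ := by rw [this]
          _ = _ := by group
      · have : orderOf (m * c * m⁻¹) = orderOf c := MulEquiv.orderOf_eq (MulAut.conj m) c
        show (orderOf (m * c * m⁻¹)).Coprime p
        rwa [this]
    exact this hy
  intro m hm
  rw [Subgroup.mem_normalizer_iff]
  refine fun x => ⟨h1 m hm x, fun hx => ?_⟩
  have := h1 m⁻¹ (M.inv_mem hm) _ hx
  rw [inv_inv] at this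
  convert this using 1
  group

/-- Different cores of two subgroups, each lying in the other, commute. -/
theorem commute_cores {M M' : Subgroup G} {p q : ℕ} [Fact p.Prime] [Fact q.Prime] (hne : q ≠ p)
    (hq : O M q ≤ M') (hp : O M' p ≤ M) {c x : G} (hc : c ∈ O M q) (hx : x ∈ O M' p) :
    c * x = x * c := by
  have hcM : c ∈ M := Subgroup.map_subtype_le _ hc
  have hxM : x ∈ M' := Subgroup.map_subtype_le _ hx
  have hdis := IsPGroup.disjoint_of_ne q p hne _ _ (isPGroup_O M q) (isPGroup_O M' p)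
  have h : ⁅c, x⁆ ∈ O M q ⊓ O M' p := by
    constructor
    · have h1 := (Subgroup.mem_normalizer_iff.1 (O_normal M q (hp hx)) c⁻¹).1 ((O M q).inv_mem hc)
      have := (O M q).mul_mem hc h1
      simpa [commutatorElement_def, mul_assoc] using this
    · have h1 := (Subgroup.mem_normalizer_iff.1 (O_normal M' p (hq hc)) x).1 hx
      exact (O M' p).mul_mem h1 ((O M' p).inv_mem hx)
  rw [hdis.eq_bot, Subgroup.mem_bot, commutatorElement_eq_one_iff_mul_comm] at h
  exact h

theorem fitting_centralizer {M : Subgroup G}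
    (hF : Subgroup.centralizer (Cfsg.fittingSubgroup ↥M : Set ↥M) ≤ Cfsg.fittingSubgroup ↥M)
    {c : M} (hc : ∀ q : ℕ, q.Prime → ∀ x ∈ O M q, (c : G) * x = x * c) :
    c ∈ Cfsg.fittingSubgroup M ∧ c ∈ Subgroup.centralizer (Cfsg.fittingSubgroup ↥M : Set ↥M) := by
  have hle : Cfsg.fittingSubgroup M ≤ Subgroup.centralizer ({c} : Set M) :=
    CfsgLib.Components.fitting_le_of_pCore_le fun q hq y hy => Subgroup.mem_centralizer_iff.2 fun z hz => by
      rw [Set.mem_singleton_iff.1 hz]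
      exact Subtype.ext (hc q hq (y : G) ⟨y, hy, rfl⟩)
  have hcc : c ∈ Subgroup.centralizer (Cfsg.fittingSubgroup ↥M : Set ↥M) :=
    Subgroup.mem_centralizer_iff.2 fun y hy => (Subgroup.mem_centralizer_iff.1 (hle hy) c rfl).symm
  exact ⟨hF hcc, hcc⟩

theorem pPart_mem {M : Subgroup G} {p : ℕ} [Fact p.Prime] {z : M} (hz : z ∈ Cfsg.fittingSubgroup M)
    (hord : ∃ k, z ^ p ^ k = 1) : z ∈ Cfsg.pCore p M := by
  obtain ⟨k, hk⟩ := hord
  haveI := CfsgLib.Solvable.fittingSubgroup_isNilpotent M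
  obtain ⟨P, hP⟩ := (IsPGroup.of_card (p := p) (G := ↥(Subgroup.zpowers (⟨z, hz⟩ : Cfsg.fittingSubgroup M)))
    (n := (Nat.log p (orderOf z))) (by
      rw [Nat.card_zpowers, Subgroup.orderOf_mk]
      obtain ⟨j, -, hj⟩ := (Nat.dvd_prime_pow (Fact.out : p.Prime)).1 (orderOf_dvd_of_pow_eq_one hk)
      rw [hj, Nat.log_pow (Fact.out : p.Prime).one_lt])).exists_le_sylow
  haveI : (P : Subgroup (Cfsg.fittingSubgroup M)).Characteristic :=
    Sylow.characteristic_of_normal _ inferInstance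
  have hle : (P : Subgroup (Cfsg.fittingSubgroup M)).map (Cfsg.fittingSubgroup M).subtype ≤ Cfsg.pCore p M :=
    CfsgLib.Solvable.le_pCore inferInstance (P.2.map _)
  exact hle ⟨⟨z, hz⟩, hP (Subgroup.mem_zpowers _), rfl⟩

theorem other_eq_bot {M M' : Subgroup G} {p : ℕ}
    (hF : Subgroup.centralizer (Cfsg.fittingSubgroup ↥M' : Set ↥M') ≤ Cfsg.fittingSubgroup ↥M')
    (hO : ∀ q : ℕ, q.Prime → O M q ≤ M') (hO' : ∀ q : ℕ, q.Prime → O M' q ≤ M)
    (hp : p.Prime) (h : O M' p = ⊥) : O M p = ⊥ := by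
  haveI := Fact.mk hp
  rw [eq_bot_iff]
  intro x hx
  have hx' : x ∈ M' := hO p hp hx
  obtain ⟨hxF, -⟩ := fitting_centralizer hF (c := ⟨x, hx'⟩) fun q hq y hy => by
    by_cases hqp : q = p
    · subst hqp
      rw [h, Subgroup.mem_bot] at hy
      simp [hy]
    · haveI := Fact.mk hq
      exact commute_cores (Ne.symm hqp) (hO p hp) (hO' q hq) hx hy
  have := pPart_mem (p := p) hxF (by
    obtain ⟨k, hk⟩ := isPGroup_O M p ⟨x, hx⟩
    exact ⟨k, Subtype.ext (congrArg Subtype.val hk :)⟩)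
  exact h ▸ ⟨_, this, rfl⟩

theorem char_p {M : Subgroup G} {p : ℕ} (hp : p.Prime)
    (hF : Subgroup.centralizer (Cfsg.fittingSubgroup ↥M : Set ↥M) ≤ Cfsg.fittingSubgroup ↥M)
    (hq : ∀ q : ℕ, q.Prime → q ≠ p → O M q = ⊥) :
    Subgroup.centralizer (Cfsg.pCore p ↥M : Set ↥M) ≤ Cfsg.pCore p ↥M := by
  haveI := Fact.mk hp
  have : Cfsg.fittingSubgroup M = Cfsg.pCore p M := by
    refine le_antisymm (CfsgLib.Components.fitting_le_of_pCore_le fun q hq' => ?_)
      (CfsgLib.Components.pCore_le_fitting p)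
    by_cases hqp : q = p
    · rw [hqp]
    · exact ((Subgroup.map_eq_bot_iff_of_injective _ M.subtype_injective).1 (hq q hq' hqp)).le.trans bot_le
  rwa [this] at hF

theorem kk_le {M M' : Subgroup G} {p : ℕ} (hp : p.Prime)
    (hF : Subgroup.centralizer (Cfsg.fittingSubgroup ↥M : Set ↥M) ≤ Cfsg.fittingSubgroup ↥M)
    (hO : ∀ q : ℕ, q.Prime → O M q ≤ M') (hO' : ∀ q : ℕ, q.Prime → O M' q ≤ M)
    (hP : ∀ A : Subgroup G, A ≠ ⊥ → A ≤ M' ⊓ M → (M' ≤ Subgroup.normalizer (A : Set G) →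
      M ⊓ Subgroup.normalizer (A : Set G) = M' ⊓ M))
    (hp2 : O M' p ≠ ⊥) : KK M p ≤ KK M' p := by
  haveI := Fact.mk hp
  conv_lhs => rw [KK]
  rw [Subgroup.closure_le]
  rintro c ⟨hcM, hcP, hco⟩
  have hcomm : ∀ x ∈ O M' p, c * x = x * c := by
    intro x hx
    have hxM : x ∈ M := hO' p hp hx
    set P := O M p
    -- `z = [c, x]` is central in the Fitting subgroup
    obtain ⟨hzF, hzC⟩ := fitting_centralizer hF
      (c := ⁅(⟨c, hcM⟩ : M), (⟨x, hxM⟩ : M)⁆) fun q hq y hy => by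
        set z : G := ⁅c, x⁆
        show z * y = y * z
        have hconj : ∀ g : G, g ∈ M → g⁻¹ * y * g ∈ O M q := fun g hg => by
          have := (Subgroup.mem_normalizer_iff.1 (O_normal M q (M.inv_mem hg)) y).1 hy
          simpa using this
        by_cases hqp : q = p
        · subst hqp
          have h1 : Commute c (x⁻¹ * y * x) := hcP _ (hconj x hxM)
          have h2 : Commute c y := hcP y hy
          have h3 : Commute (x * c * x⁻¹) y := by
            have h1' := h1.map (MulAut.conj x).toMonoidHom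
            simpa [mul_assoc] using h1'
          have : Commute (c * (x * c * x⁻¹)⁻¹) y := h2.mul_left h3.inv_left
          have e : z = c * (x * c * x⁻¹)⁻¹ := by simp [z, commutatorElement_def, mul_assoc]
          rw [e]
          exact this.eq
        · haveI := Fact.mk hq
          have hxq : ∀ w ∈ O M q, Commute x w := fun w hw =>
            (commute_cores hqp (hO q hq) (hO' p hp) hw hx).symm
          have h3 : Commute (c * x * c⁻¹) y := by
            have h1' := (hxq _ (hconj c hcM)).map (MulAut.conj c).toMonoidHom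
            simpa [mul_assoc] using h1'
          have : Commute ((c * x * c⁻¹) * x⁻¹) y := h3.mul_left (hxq y hy).inv_left
          exact this.eq
    -- it is a `p`-element
    set z : M := ⁅(⟨c, hcM⟩ : M), (⟨x, hxM⟩ : M)⁆
    have hzp : z ∈ Cfsg.pCore p M := by
      set P0 := Cfsg.pCore p M
      haveI : P0.Normal := CfsgLib.Solvable.pCore_normal (p := p) M
      obtain ⟨n, hn⟩ := (CfsgLib.Solvable.pCore_isPGroup (p := p) M).exists_card_eq
      have hzx : (z : M ⧸ P0) * ((⟨x, hxM⟩ : M) : M ⧸ P0) = ((⟨x, hxM⟩ : M) : M ⧸ P0) * (z : M ⧸ P0) := by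
        have hle : Cfsg.fittingSubgroup M ≤
            P0 ⊔ Subgroup.centralizer ({(⟨x, hxM⟩ : M)} : Set M) :=
          CfsgLib.Components.fitting_le_of_pCore_le fun q hq => by
            by_cases hqp : q = p
            · subst hqp; exact le_sup_left
            · haveI := Fact.mk hq
              refine le_trans (fun w hw => Subgroup.mem_centralizer_iff.2 fun t ht => ?_) le_sup_right
              rw [Set.mem_singleton_iff.1 ht]
              exact Subtype.ext (commute_cores hqp (hO q hq) (hO' p hp) ⟨w, hw, rfl⟩ hx).symm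
        have hz1 := hle hzF
        rw [← SetLike.mem_coe, Subgroup.normal_mul] at hz1
        obtain ⟨a, ha, b, hb, e⟩ := hz1
        have e2 : (z : M ⧸ P0) = (b : M ⧸ P0) := by
          rw [← e]
          show ((a * b : M) : M ⧸ P0) = _
          rw [QuotientGroup.mk_mul, (QuotientGroup.eq_one_iff a).2 ha, one_mul]
        rw [e2, ← QuotientGroup.mk_mul, ← QuotientGroup.mk_mul, Subgroup.mem_centralizer_iff.1 hb _ rfl]
      obtain ⟨j, hj⟩ := isPGroup_O M' p ⟨x, hx⟩
      have hxj : (⟨x, hxM⟩ : M) ^ p ^ j = 1 := Subtype.ext (congrArg Subtype.val hj :)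
      have h1 : ((z * ⟨x, hxM⟩ : M) : M ⧸ P0) ^ p ^ j = 1 := by
        have e : z * ⟨x, hxM⟩ = (⟨c, hcM⟩ : M) * ⟨x, hxM⟩ * (⟨c, hcM⟩ : M)⁻¹ := by
          simp [z, commutatorElement_def, mul_assoc]
        rw [e, ← QuotientGroup.mk_pow, conj_pow, hxj, mul_one, mul_inv_cancel, QuotientGroup.mk_one]
      rw [QuotientGroup.mk_mul, (show Commute _ _ from hzx).mul_pow, ← QuotientGroup.mk_pow,
        ← QuotientGroup.mk_pow, hxj, QuotientGroup.mk_one, mul_one, QuotientGroup.eq_one_iff] at h1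
      obtain ⟨k, hk⟩ := CfsgLib.Solvable.pCore_isPGroup (p := p) M ⟨_, h1⟩
      refine pPart_mem hzF ⟨j + k, ?_⟩
      rw [pow_add, pow_mul]
      exact (congrArg Subtype.val hk :)
    have hcz : c * (z : G) = (z : G) * c := hcP _ ⟨z, hzp, rfl⟩
    have hex : c * x * c⁻¹ = (z : G) * x := by simp [z, commutatorElement_def, mul_assoc]
    have hiter : ∀ n : ℕ, c ^ n * x * (c ^ n)⁻¹ = (z : G) ^ n * x := by
      intro n
      induction n with
      | zero => simp
      | succ n ih =>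
        have hzn : Commute c ((z : G) ^ n) := (show Commute c (z : G) from hcz).pow_right n
        calc c ^ (n + 1) * x * (c ^ (n + 1))⁻¹ = c * (c ^ n * x * (c ^ n)⁻¹) * c⁻¹ := by rw [pow_succ']; group
          _ = (z : G) ^ n * (c * x * c⁻¹) := by rw [ih, ← mul_assoc c, hzn.eq]; group
          _ = _ := by rw [hex, pow_succ, mul_assoc]
    have h1 := hiter (orderOf c)
    rw [pow_orderOf_eq_one, one_mul, inv_one, mul_one] at h1
    have hzo : orderOf (z : G) ∣ orderOf c := orderOf_dvd_of_pow_eq_one (mul_eq_right.1 h1.symm)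
    obtain ⟨i, hi⟩ := CfsgLib.Solvable.pCore_isPGroup (p := p) M ⟨z, hzp⟩
    have hz2 : orderOf (z : G) ∣ p ^ i := by
      rw [Subgroup.orderOf_coe]
      exact orderOf_dvd_of_pow_eq_one (congrArg Subtype.val hi :)
    have hz1 : (z : G) = 1 := orderOf_eq_one_iff.1
      (Nat.eq_one_of_dvd_coprimes ((hco.pow_right i)) hzo hz2)
    rw [hz1, one_mul, mul_inv_eq_iff_eq_mul] at hex
    exact hex
  refine Subgroup.subset_closure ⟨?_, hcomm, hco⟩
  have : c ∈ M ⊓ Subgroup.normalizer (O M' p : Set G) := by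
    refine ⟨hcM, Subgroup.centralizer_le_normalizer _ ?_⟩
    exact Subgroup.mem_centralizer_iff.2 fun x hx => (hcomm x hx).symm
  rw [hP _ hp2 (le_inf (Subgroup.map_subtype_le _) (hO' p hp)) (O_normal M' p)] at this
  exact this.1

/-- The layer of `M` is that of any subgroup of `M` containing `F*(M)`. -/
theorem layer_map {M M' : Subgroup G} (h : (Cfsg.generalizedFittingSubgroup ↥M).map M.subtype ≤ M') :
    (Cfsg.layer ↥M).map M.subtype = (Cfsg.layer ↥(M ⊓ M')).map (M ⊓ M').subtype := by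
  set Y : Subgroup M := (M ⊓ M').subgroupOf M with hY
  have hFY : Cfsg.generalizedFittingSubgroup M ≤ Y := fun x hx => ⟨x.2, h ⟨x, hx, rfl⟩⟩
  have h1 : (Cfsg.layer Y).map Y.subtype = Cfsg.layer M := by
    refine le_antisymm ?_ (sSup_le fun K hK => ?_)
    · rw [Subgroup.map_le_iff_le_comap]
      refine sSup_le fun K hK => ?_
      rw [← Subgroup.map_le_iff_le_comap]
      set F := Cfsg.generalizedFittingSubgroup M
      have hsub : K.map Y.subtype ≤ F := by
        have hn : (F.subgroupOf Y).Normal := inferInstance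
        rcases CfsgLib.Components.component_le_or_commutator_normal hK hn with hle | hc
        · exact (Subgroup.map_mono hle).trans (Subgroup.map_subgroupOf_eq_of_le hFY).le
        · have hc' : ⁅K.map Y.subtype, F⁆ = ⊥ := by
            rw [← Subgroup.map_subgroupOf_eq_of_le hFY, ← Subgroup.map_commutator, hc, Subgroup.map_bot]
          exact (CfsgLib.Components.le_centralizer_of_commutator_eq_bot hc').trans
            CfsgLib.Components.centralizer_genFitting_le
      have hKY : (K.map Y.subtype).subgroupOf Y = K :=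
        Subgroup.comap_map_eq_self_of_injective Y.subtype_injective K
      refine CfsgLib.Components.component_le_layer ⟨?_, (CfsgLib.Components.quasisimple_congr
        (K.equivMapOfInjective Y.subtype Y.subtype_injective)).mp hK.2⟩
      refine Subgroup.IsSubnormal.trans hsub ?_ (inferInstance : F.Normal).isSubnormal
      have hi := hK.1.comap (Subgroup.inclusion hFY)
      convert hi using 1
      ext x
      constructor
      · rintro ⟨k, hk, hkx⟩
        have : Subgroup.inclusion hFY x = k := Subtype.ext hkx.symm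
        rw [Subgroup.mem_comap, this]
        exact hk
      · intro hx
        exact ⟨_, hx, rfl⟩
    · have hKY : K ≤ Y := (CfsgLib.Components.component_le_genFitting hK).trans hFY
      rw [← Subgroup.map_subgroupOf_eq_of_le hKY]
      exact Subgroup.map_mono
        (CfsgLib.Components.component_le_layer (CfsgLib.Components.component_subgroupOf hK hKY))
  rw [← h1, ← CfsgLib.Components.layer_map_equiv (Subgroup.subgroupOfEquivOfLe (inf_le_left : M ⊓ M' ≤ M)),
    Subgroup.map_map, Subgroup.map_map]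
  rfl


/-- Bender's Theorem on primitive pairs. Two distinct subgroups M₁, M₂ of G form a primitive pair when, for {i, j} = {1, 2}, every non-trivial normal subgroup A of M_i contained in M₁ ∩ M₂ satisfies N_{M_j}(A) = M₁ ∩ M₂; the pair has characteristic p when moreover C_{M_i}(O_p(M_i)) ≤ O_p(M_i) for both i and O_p(M₁)O_p(M₂) ≤ M₁ ∩ M₂. If (M₁, M₂) is a primitive pair of the finite group G with F*(M₁) ≤ M₂ and F*(M₂) ≤ M₁, then for some prime p the pair has characteristic p. -/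
theorem result {G : Type*} [Group G] [Finite G] (M₁ M₂ : Subgroup G) (hne : M₁ ≠ M₂) (hP : ∀ A : Subgroup G, A ≠ ⊥ → A ≤ M₁ ⊓ M₂ → (M₁ ≤ Subgroup.normalizer (A : Set G) → M₂ ⊓ Subgroup.normalizer (A : Set G) = M₁ ⊓ M₂) ∧ (M₂ ≤ Subgroup.normalizer (A : Set G) → M₁ ⊓ Subgroup.normalizer (A : Set G) = M₁ ⊓ M₂)) (h₁ : (Cfsg.generalizedFittingSubgroup ↥M₁).map M₁.subtype ≤ M₂) (h₂ : (Cfsg.generalizedFittingSubgroup ↥M₂).map M₂.subtype ≤ M₁) : ∃ p : ℕ, p.Prime ∧ Subgroup.centralizer (Cfsg.pCore p ↥M₁ : Set ↥M₁) ≤ Cfsg.pCore p ↥M₁ ∧ Subgroup.centralizer (Cfsg.pCore p ↥M₂ : Set ↥M₂) ≤ Cfsg.pCore p ↥M₂ ∧ (Cfsg.pCore p ↥M₁).map M₁.subtype ⊔ (Cfsg.pCore p ↥M₂).map M₂.subtype ≤ M₁ ⊓ M₂ := by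
  have hsame : ∀ A : Subgroup G, A ≠ ⊥ → A ≤ M₁ ⊓ M₂ → M₁ ≤ Subgroup.normalizer (A : Set G) →
      M₂ ≤ Subgroup.normalizer (A : Set G) → False := by
    intro A hA hle hn₁ hn₂
    have e1 := (hP A hA hle).1 hn₁
    have e2 := (hP A hA hle).2 hn₂
    rw [inf_eq_left.2 hn₂] at e1
    rw [inf_eq_left.2 hn₁] at e2
    exact hne (e2.trans e1.symm)
  have hX₁ : M₂ ⊓ M₁ = M₁ ⊓ M₂ := inf_comm _ _
  -- the layers coincide
  have hl₁ := layer_map h₁
  have hl₂ := layer_map h₂
  have hlay : (Cfsg.layer ↥M₁).map M₁.subtype = (Cfsg.layer ↥M₂).map M₂.subtype := by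
    rw [hl₁, hl₂, hX₁]
  have hE₁ : Cfsg.layer ↥M₁ = ⊥ := by
    by_contra h
    refine hsame _ (fun hb => h ((Subgroup.map_eq_bot_iff_of_injective _ M₁.subtype_injective).1 hb)) ?_
      (normal_map M₁ _) ?_
    · exact le_inf (Subgroup.map_subtype_le _) (hlay ▸ Subgroup.map_subtype_le _)
    · rw [hlay]; exact normal_map M₂ _
  have hE₂ : Cfsg.layer ↥M₂ = ⊥ := by
    rw [hE₁, Subgroup.map_bot] at hlay
    exact (Subgroup.map_eq_bot_iff_of_injective _ M₂.subtype_injective).1 hlay.symm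
  have hF₁ := CfsgLib.Components.centralizer_fitting_le_iff.2 hE₁
  have hF₂ := CfsgLib.Components.centralizer_fitting_le_iff.2 hE₂
  have hO : ∀ (M M' : Subgroup G), (Cfsg.generalizedFittingSubgroup ↥M).map M.subtype ≤ M' →
      ∀ q : ℕ, q.Prime → O M q ≤ M' := by
    intro M M' h q hq
    haveI := Fact.mk hq
    exact ((Subgroup.map_mono ((CfsgLib.Components.pCore_le_fitting q).trans
      CfsgLib.Components.fitting_le_genFitting))).trans h
  have hO₁ := hO M₁ M₂ h₁
  have hO₂ := hO M₂ M₁ h₂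
  -- Bender's argument
  have key : ∀ p q : ℕ, p.Prime → q.Prime → p ≠ q → O M₁ p ≠ ⊥ → O M₁ q ≠ ⊥ → False := by
    intro p q hp hq hpq hp1 hq1
    haveI := Fact.mk hp
    haveI := Fact.mk hq
    have hp2 : O M₂ p ≠ ⊥ := fun h => hp1 (other_eq_bot hF₂ hO₁ hO₂ hp h)
    have hq2 : O M₂ q ≠ ⊥ := fun h => hq1 (other_eq_bot hF₂ hO₁ hO₂ hq h)
    have hP' : ∀ A : Subgroup G, A ≠ ⊥ → A ≤ M₂ ⊓ M₁ → (M₂ ≤ Subgroup.normalizer (A : Set G) →
        M₁ ⊓ Subgroup.normalizer (A : Set G) = M₂ ⊓ M₁) := fun A hA hle h => by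
      rw [(hP A hA (hX₁ ▸ hle)).2 h, hX₁]
    have hP'' : ∀ A : Subgroup G, A ≠ ⊥ → A ≤ M₁ ⊓ M₂ → (M₁ ≤ Subgroup.normalizer (A : Set G) →
        M₂ ⊓ Subgroup.normalizer (A : Set G) = M₁ ⊓ M₂) := fun A hA hle h => (hP A hA hle).1 h
    have e1 := kk_le hp hF₁ hO₁ hO₂ hP' hp2
    have e2 := kk_le hp hF₂ hO₂ hO₁ hP'' hp1
    have heq : KK M₁ p = KK M₂ p := le_antisymm e1 e2
    have hsub : O M₁ q ≤ KK M₁ p := by
      intro c hc
      refine Subgroup.subset_closure ⟨Subgroup.map_subtype_le _ hc, fun x hx => ?_, ?_⟩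
      · exact commute_cores (M := M₁) (M' := M₁) hpq.symm (Subgroup.map_subtype_le _) (Subgroup.map_subtype_le _) hc hx
      · obtain ⟨⟨c', hc'⟩, rfl⟩ : ∃ c' : O M₁ q, (c' : G) = c := ⟨⟨c, hc⟩, rfl⟩
        obtain ⟨k, hk⟩ := IsPGroup.iff_orderOf.1 (isPGroup_O M₁ q) ⟨c', hc'⟩
        rw [Subgroup.orderOf_mk] at hk
        rw [hk]
        exact ((Nat.coprime_primes hq hp).2 hpq.symm).pow_left k
    refine hsame (KK M₁ p) (fun h => hq1 (eq_bot_iff.2 (h ▸ hsub))) (le_inf (kk_le_self M₁ p) ?_)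
      (kk_normal M₁ p) ?_
    · exact heq ▸ kk_le_self M₂ p
    · exact heq ▸ kk_normal M₂ p
  by_cases hM₁ : ∀ p : ℕ, p.Prime → O M₁ p = ⊥
  · exfalso
    have hF : Cfsg.fittingSubgroup M₁ = ⊥ := by
      refine eq_bot_iff.2 (CfsgLib.Components.fitting_le_of_pCore_le fun q hq => ?_)
      exact ((Subgroup.map_eq_bot_iff_of_injective _ M₁.subtype_injective).1 (hM₁ q hq)).le
    rw [hF] at hF₁
    have hM1 : M₁ = ⊥ := by
      rw [eq_bot_iff]
      intro x hx
      exact congrArg Subtype.val (Subgroup.mem_bot.1 (hF₁ (show (⟨x, hx⟩ : M₁) ∈ _ from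
        Subgroup.mem_centralizer_iff.2 (by simp))))
    have hM2 : Cfsg.generalizedFittingSubgroup M₂ = ⊥ := by
      rw [eq_bot_iff]
      intro x hx
      have := h₂ ⟨x, hx, rfl⟩
      rw [hM1] at this
      exact Subtype.ext this
    rcases subsingleton_or_nontrivial M₂ with h | h
    · exact hne (hM1.trans (Subgroup.eq_bot_of_subsingleton M₂).symm)
    · exact CfsgLib.Components.genFitting_ne_bot hM2
  push Not at hM₁
  obtain ⟨p, hp, hp1⟩ := hM₁
  haveI := Fact.mk hp
  have hq₁ : ∀ q : ℕ, q.Prime → q ≠ p → O M₁ q = ⊥ := fun q hq hqp => by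
    by_contra h
    exact key p q hp hq hqp.symm hp1 h
  have hq₂ : ∀ q : ℕ, q.Prime → q ≠ p → O M₂ q = ⊥ := fun q hq hqp =>
    other_eq_bot hF₁ hO₂ hO₁ hq (hq₁ q hq hqp)
  refine ⟨p, hp, char_p hp hF₁ hq₁, char_p hp hF₂ hq₂,
    sup_le (le_inf (Subgroup.map_subtype_le _) (hO₁ p hp)) (le_inf (hO₂ p hp) (Subgroup.map_subtype_le _))⟩

end Cfsg.Agent.S3752
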