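import Cfsg.Statements.S3755
import Cfsg.Agent.Lib.Solvable.CoprimeGeneration
import Cfsg.Agent.Lib.Solvable.Core
import Mathlib

set_option autoImplicit false
open Cfsg

namespace Cfsg.Agent.S3755

variable {X : Type*} [Group X] [Finite X]

/-- A prime order element inverted by an involution, of order three, gives a section isomorphic to `S₃`. -/
theorem involves_s3 (M : Subgroup X) {a z : X} (ha : a ∈ M) (hz : z ∈ M) (ha1 : a ≠ 1) (ha2 : a * a = 1)
    (hz3 : orderOf z = 3) (haz : a * z * a = z⁻¹) : Cfsg.Involves (Equiv.Perm (Fin 3)) ↥M := by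
  set a' : M := ⟨a, ha⟩
  set z' : M := ⟨z, hz⟩
  have ha2' : a' * a' = 1 := Subtype.ext ha2
  have hainv : a'⁻¹ = a' := inv_eq_of_mul_eq_one_right ha2'
  have haz' : a' * z' * a' = z'⁻¹ := Subtype.ext haz
  have hoa : orderOf a' = 2 := orderOf_eq_prime (by rw [sq, ha2']) (fun h => ha1 (congrArg Subtype.val h))
  have hoz : orderOf z' = 3 := by rw [← Subgroup.orderOf_coe]; exact hz3
  have hn : Subgroup.zpowers a' ≤ Subgroup.normalizer ((Subgroup.zpowers z' : Subgroup M) : Set M) := by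
    rw [Subgroup.zpowers_le, Subgroup.mem_normalizer_iff_map_conj_eq, MonoidHom.map_zpowers]
    show Subgroup.zpowers (a' * z' * a'⁻¹) = _
    rw [hainv, haz', Subgroup.zpowers_inv]
  set H := Subgroup.zpowers z' ⊔ Subgroup.zpowers a' with hH
  have hcard : Nat.card H = 6 := by
    have hcop : (Nat.card (Subgroup.zpowers z')).Coprime (Nat.card (Subgroup.zpowers a')) := by
      rw [Nat.card_zpowers, Nat.card_zpowers, hoa, hoz]; norm_num
    rw [hH, CfsgLib.Solvable.card_sup_of_disjoint hn (Subgroup.disjoint_of_coprime_natCard hcop),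
      Nat.card_zpowers, Nat.card_zpowers, hoa, hoz]
  set A' := (Subgroup.zpowers a').subgroupOf H
  have hA' : Nat.card A' = 2 := by
    rw [Nat.card_congr (Subgroup.subgroupOfEquivOfLe (le_sup_right : _ ≤ H)).toEquiv, Nat.card_zpowers, hoa]
  have hidx : Nat.card (H ⧸ A') = 3 := by
    have := A'.index_mul_card
    rw [hA', hcard] at this
    show A'.index = 3
    omega
  have hcore : A'.normalCore = ⊥ := by
    rw [eq_bot_iff]
    intro c hc
    have hzH : z' ∈ H := Subgroup.mem_sup_left (Subgroup.mem_zpowers _)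
    obtain ⟨k, hk⟩ := (Subgroup.normalCore_le A' hc : (c : M) ∈ Subgroup.zpowers a')
    have hc2 : (z' * (c : M) * z'⁻¹) ∈ Subgroup.zpowers a' :=
      Subgroup.normalCore_le A' ((Subgroup.normalCore_normal A').conj_mem c hc ⟨z', hzH⟩)
    change a' ^ k = (c : M) at hk
    rcases Int.even_or_odd' k with ⟨j, rfl | rfl⟩
    · rw [Subgroup.mem_bot]
      refine Subtype.ext ?_
      rw [← hk, zpow_mul, zpow_ofNat, sq, ha2', one_zpow]
      rfl
    · exfalso
      have hca : (c : M) = a' := by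
        rw [← hk, zpow_add, zpow_mul, zpow_ofNat, sq, ha2', one_zpow, one_mul, zpow_one]
      rw [hca] at hc2
      obtain ⟨l, hl⟩ := hc2
      change a' ^ l = z' * a' * z'⁻¹ at hl
      have hcomm : z' * a' = a' * z' := by
        rcases Int.even_or_odd' l with ⟨i, rfl | rfl⟩
        · rw [zpow_mul, zpow_ofNat, sq, ha2', one_zpow] at hl
          have : a' = 1 := conj_eq_one_iff.1 hl.symm
          simp [this]
        · rw [zpow_add, zpow_mul, zpow_ofNat, sq, ha2', one_zpow, one_mul, zpow_one, eq_mul_inv_iff_mul_eq] at hl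
          exact hl.symm
      have h2 : z' * z' = 1 := by
        have : a' * z' * a' = z' := by rw [← hcomm, mul_assoc, ha2', mul_one]
        rw [haz'] at this
        nth_rewrite 1 [← this]
        exact inv_mul_cancel z'
      have := orderOf_dvd_of_pow_eq_one (show z' ^ 2 = 1 by rw [sq]; exact h2)
      rw [hoz] at this
      norm_num at this
  obtain ⟨e⟩ : Nonempty (H ⧸ A' ≃ Fin 3) := ⟨Finite.equivFinOfCardEq hidx⟩
  let φ : H →* Equiv.Perm (Fin 3) := e.permCongrHom.toMonoidHom.comp (MulAction.toPermHom H (H ⧸ A'))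
  have hinj : Function.Injective φ := by
    rw [← MonoidHom.ker_eq_bot_iff, eq_bot_iff, ← hcore, Subgroup.normalCore_eq_ker]
    intro c hc
    exact e.permCongrHom.injective (hc.trans (map_one _).symm)
  have hbij : Function.Bijective φ := (Nat.bijective_iff_injective_and_card φ).2 ⟨hinj, by
    rw [hcard, Nat.card_perm, Nat.card_eq_fintype_card, Fintype.card_fin]; rfl⟩
  refine ⟨H, ⊥, inferInstance, ⟨?_⟩⟩
  exact ((QuotientGroup.quotientMulEquivOfEq (Subgroup.bot_subgroupOf H)).trans QuotientGroup.quotientBot).trans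
    (MulEquiv.ofBijective φ hbij)

/-- A commuting 2-group fixes a vector moved by an element of odd prime order. -/
theorem exists_moved {V B₀ : Subgroup X} (hV : Cfsg.IsElementaryAbelian 2 V)
    (hB₀ : B₀ ≤ Subgroup.normalizer (V : Set X)) {z : X} (hzn : z ∈ Subgroup.normalizer (V : Set X))
    {r : ℕ} (hr : r.Prime) (hr2 : r ≠ 2) (hzr : orderOf z = r) (hcomm : ∀ b ∈ B₀, b * z = z * b)
    (hB2 : ∀ b ∈ B₀, b ^ 2 = 1) {v : X} (hv : v ∈ V) (hvz : z * v ≠ v * z) :
    ∃ u ∈ V ⊓ Subgroup.centralizer (B₀ : Set X), z * u ≠ u * z := by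
  classical
  haveI : Fact (Nat.Prime 2) := ⟨Nat.prime_two⟩
  have hVc : ∀ u ∈ V, ∀ w ∈ V, u * w = w * u := fun u hu w hw =>
    congrArg Subtype.val (hV.1.1.comm ⟨u, hu⟩ ⟨w, hw⟩)
  have hzV : ∀ w ∈ V, z * w * z⁻¹ ∈ V := fun w hw => (Subgroup.mem_normalizer_iff.1 hzn w).1 hw
  let f : V →* X :=
    { toFun := fun w => z * (w : X) * z⁻¹ * (w : X)⁻¹
      map_one' := by simp
      map_mul' := fun s t => by
        have h1 := hVc _ (hzV s s.2) _ (hzV t t.2)
        have h2 : (z * (t : X) * z⁻¹) * (s : X)⁻¹ = (s : X)⁻¹ * (z * (t : X) * z⁻¹) :=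
          hVc _ (hzV t t.2) _ (inv_mem s.2)
        have h3 : ((t : X))⁻¹ * ((s : X))⁻¹ = ((s : X))⁻¹ * ((t : X))⁻¹ := hVc _ (inv_mem t.2) _ (inv_mem s.2)
        calc z * ((s * t : V) : X) * z⁻¹ * ((s * t : V) : X)⁻¹
            = (z * (s : X) * z⁻¹) * ((z * (t : X) * z⁻¹) * (((t : X))⁻¹ * ((s : X))⁻¹)) := by
              push_cast; group
          _ = (z * (s : X) * z⁻¹) * (((z * (t : X) * z⁻¹) * ((s : X))⁻¹) * ((t : X))⁻¹) := by rw [h3]; group
          _ = _ := by rw [h2]; group }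
  set I := f.range
  have hIV : I ≤ V := by rintro _ ⟨w, rfl⟩; exact mul_mem (hzV w w.2) (inv_mem w.2)
  have hI : ∀ b ∈ B₀, ∀ w ∈ I, b * w * b⁻¹ ∈ I := by
    rintro b hb _ ⟨w, rfl⟩
    refine ⟨⟨b * w * b⁻¹, (Subgroup.mem_normalizer_iff.1 (hB₀ hb) w).1 w.2⟩, ?_⟩
    show z * (b * w * b⁻¹) * z⁻¹ * (b * w * b⁻¹)⁻¹ = b * (z * (w : X) * z⁻¹ * (w : X)⁻¹) * b⁻¹
    have h1 : z * b = b * z := (hcomm b hb).symm
    have h2 : b⁻¹ * z⁻¹ = z⁻¹ * b⁻¹ := by rw [← mul_inv_rev, h1, mul_inv_rev]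
    calc z * (b * w * b⁻¹) * z⁻¹ * (b * w * b⁻¹)⁻¹ = (z * b) * w * (b⁻¹ * z⁻¹) * (b * (w : X)⁻¹ * b⁻¹) := by group
      _ = (b * z) * w * (z⁻¹ * b⁻¹) * (b * (w : X)⁻¹ * b⁻¹) := by rw [h1, h2]
      _ = _ := by group
  have hInb : B₀ ≤ Subgroup.normalizer (I : Set X) := by
    intro b hb
    rw [Subgroup.mem_normalizer_iff]
    refine fun w => ⟨hI b hb w, fun hw => ?_⟩
    have := hI b⁻¹ (inv_mem hb) _ hw
    rw [inv_inv] at this
    convert this using 1
    group
  have hpI : IsPGroup 2 I := fun w => ⟨1, Subtype.ext (by simpa using hV.2 _ (hIV w.2))⟩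
  have hpB : IsPGroup 2 B₀ := fun b => ⟨1, Subtype.ext (by simpa using hB2 _ b.2)⟩
  have hR : IsPGroup 2 ↥(B₀ ⊔ I) := hpB.to_sup_of_normal_right' hpI hInb
  haveI : (I.subgroupOf (B₀ ⊔ I)).Normal :=
    Subgroup.normal_subgroupOf_of_le_normalizer (sup_le hInb Subgroup.le_normalizer)
  have hne : I.subgroupOf (B₀ ⊔ I) ≠ ⊥ := by
    intro h
    have hm : f ⟨v, hv⟩ ∈ I := ⟨_, rfl⟩
    have hm' : (⟨f ⟨v, hv⟩, Subgroup.mem_sup_right hm⟩ : ↥(B₀ ⊔ I)) ∈ I.subgroupOf (B₀ ⊔ I) := hm
    rw [h, Subgroup.mem_bot] at hm'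
    have h1 : z * v * z⁻¹ * v⁻¹ = 1 := congrArg Subtype.val hm'
    rw [mul_inv_eq_one, mul_inv_eq_iff_eq_mul] at h1
    exact hvz h1
  obtain ⟨⟨u, huR⟩, ⟨huI, huc⟩, hu1⟩ := CfsgLib.Solvable.exists_ne_one_mem_inf_center_of_normal hR hne
  refine ⟨u, ⟨hIV huI, Subgroup.mem_centralizer_iff.2 fun b hb =>
    congrArg Subtype.val (Subgroup.mem_center_iff.1 huc ⟨b, Subgroup.mem_sup_left hb⟩)⟩, fun hzu => ?_⟩
  have huV : u ∈ V := hIV huI
  obtain ⟨⟨w, hw⟩, hwu⟩ := (huI : u ∈ I)
  change z * w * z⁻¹ * w⁻¹ = u at hwu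
  have hzw : z * w * z⁻¹ = u * w := mul_inv_eq_iff_eq_mul.1 hwu
  have hiter : ∀ n : ℕ, z ^ n * w * (z ^ n)⁻¹ = u ^ n * w := by
    intro n
    induction n with
    | zero => simp
    | succ n ih =>
      have hzn : Commute z (u ^ n) := (show Commute z u from hzu).pow_right n
      calc z ^ (n + 1) * w * (z ^ (n + 1))⁻¹ = z * (z ^ n * w * (z ^ n)⁻¹) * z⁻¹ := by rw [pow_succ']; group
        _ = u ^ n * (z * w * z⁻¹) := by rw [ih, ← mul_assoc z, hzn.eq]; group
        _ = _ := by rw [hzw, pow_succ, mul_assoc]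
  have h1 := hiter r
  rw [← hzr, pow_orderOf_eq_one, one_mul, inv_one, mul_one] at h1
  have hur : u ^ r = 1 := by rw [← hzr]; exact (mul_eq_right.1 h1.symm)
  have hu2 : u ^ 2 = 1 := hV.2 u huV
  have : orderOf u = 1 := Nat.eq_one_of_dvd_coprimes ((Nat.coprime_primes hr Nat.prime_two).2 hr2)
    (orderOf_dvd_of_pow_eq_one hur) (orderOf_dvd_of_pow_eq_one hu2)
  exact hu1 (Subtype.ext (orderOf_eq_one_iff.1 this))

/-- An involution inverting an element of prime order at least five has commutator space of order at least four. -/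
theorem four_le {a z : X} {r : ℕ} (hr : r.Prime) (hr5 : 5 ≤ r) (hzr : orderOf z = r) (ha2 : a * a = 1)
    (haz : a * z * a = z⁻¹) (W C : Subgroup X) (hCW : C ≤ W) (hcomm : ∀ w ∈ W, ∀ w' ∈ W, w * w' = w' * w)
    (h2 : ∀ w ∈ W, w ^ 2 = 1) (hzW : ∀ w ∈ W, z * w * z⁻¹ ∈ W) (haC : ∀ c ∈ C, a * c = c * a)
    (hu : ∃ u ∈ W, z * u ≠ u * z) (hlt : C.relIndex W < 4) : False := by
  classical
  set φ := (MulAut.conj z).toMonoidHom
  set C' := C.map φ
  have hC'W : C' ≤ W := by rintro _ ⟨c, hc, rfl⟩; exact hzW c (hCW hc)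
  have hWφ : W.map φ = W := Subgroup.eq_of_le_of_card_ge (by rintro _ ⟨w, hw, rfl⟩; exact hzW w hw)
    (Subgroup.card_map_of_injective (MulAut.conj z).injective).ge
  have hC'rel : C'.relIndex W = C.relIndex W := by
    conv_lhs => rw [← hWφ]
    exact Subgroup.relIndex_map_map_of_injective C W (MulAut.conj z).injective
  -- the intersection is centralised by `z`
  have hcent : ∀ c ∈ C ⊓ C', z * c = c * z := by
    rintro c ⟨hc, c₀, hc₀, hcc⟩
    change z * c₀ * z⁻¹ = c at hcc
    have hcc' : c₀ = z⁻¹ * c * z := by rw [← hcc]; group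
    have hainv : a⁻¹ = a := inv_eq_of_mul_eq_one_right ha2
    have e1 : a * c * a = c := by rw [haC c hc, mul_assoc, ha2, mul_one]
    have e2 : a * c₀ * a = c₀ := by rw [haC c₀ hc₀, mul_assoc, ha2, mul_one]
    have e3 : a * z⁻¹ * a = z := by
      calc a * z⁻¹ * a = a * (a * z * a) * a := by rw [haz]
        _ = (a * a) * z * (a * a) := by group
        _ = z := by rw [ha2, one_mul, mul_one]
    have e4 : a * c₀ * a = z * c * z⁻¹ := by
      rw [hcc']
      calc a * (z⁻¹ * c * z) * a = (a * z⁻¹ * a) * (a⁻¹ * c * a⁻¹) * (a * z * a) := by group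
        _ = _ := by rw [e3, hainv, e1, haz]
    have hz2 : Commute (z ^ 2) c := by
      have : z⁻¹ * c * z = z * c * z⁻¹ := hcc'.symm.trans (e2.symm.trans e4)
      show z ^ 2 * c = c * z ^ 2
      calc z ^ 2 * c = z * (z * c * z⁻¹) * z := by rw [sq]; group
        _ = z * (z⁻¹ * c * z) * z := by rw [this]
        _ = _ := by rw [sq]; group
    obtain ⟨m, hm⟩ := exists_pow_eq_self_of_coprime (x := z) (n := 2)
      (by rw [hzr]; exact (Nat.coprime_primes hr Nat.prime_two).2 (by omega) |>.symm)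
    exact hm ▸ (hz2.pow_left m).eq
  -- hence `z` moves at most four cosets
  set D := (C ⊓ C').subgroupOf W
  have hD : Nat.card (W ⧸ D) ≤ 4 := by
    show D.index ≤ 4
    have h := Subgroup.relIndex_inf_le (H := C) (K := C') (L := W)
    rw [hC'rel] at h
    refine h.trans ?_
    have hp : C.relIndex W ∣ Nat.card W := Subgroup.relIndex_dvd_card C W
    have hW2 : IsPGroup 2 W := fun w => ⟨1, Subtype.ext (by simpa using h2 w w.2)⟩
    haveI : Fact (Nat.Prime 2) := ⟨Nat.prime_two⟩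
    obtain ⟨k, hk⟩ := hW2.index (C.subgroupOf W)
    change C.relIndex W = 2 ^ k at hk
    rw [hk] at hlt ⊢
    have : k < 2 := (Nat.pow_lt_pow_iff_right one_lt_two).1 (by simpa using hlt)
    interval_cases k <;> norm_num
  have hDc : ∀ d : W, d ∈ D → z * (d : X) = d * z := fun d hd => hcent _ hd
  let σ : Equiv.Perm (W ⧸ D) :=
    Equiv.ofBijective (Quotient.map' (fun w : W => (⟨z * w * z⁻¹, hzW w w.2⟩ : W)) (by
      intro s t hst
      rw [QuotientGroup.leftRel_apply] at hst ⊢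
      have e : (⟨z * s * z⁻¹, hzW s s.2⟩ : W)⁻¹ * ⟨z * t * z⁻¹, hzW t t.2⟩ = s⁻¹ * t := by
        apply Subtype.ext
        show (z * (s : X) * z⁻¹)⁻¹ * (z * t * z⁻¹) = (s : X)⁻¹ * t
        have := hDc _ hst
        push_cast at this
        calc (z * (s : X) * z⁻¹)⁻¹ * (z * t * z⁻¹) = z * ((s : X)⁻¹ * t) * z⁻¹ := by group
          _ = _ := by rw [this, mul_inv_cancel_right]
      rwa [e])) (Finite.surjective_iff_bijective.1 (by
        intro q
        induction q using QuotientGroup.induction_on with | _ t => ?_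
        obtain ⟨s, hs, hst⟩ : (t : X) ∈ W.map φ := hWφ.symm ▸ t.2
        exact ⟨QuotientGroup.mk ⟨s, hs⟩, congrArg QuotientGroup.mk (Subtype.ext hst)⟩))
  have hiter : ∀ (n : ℕ) (w : W), ∃ hw : z ^ n * (w : X) * (z ^ n)⁻¹ ∈ W,
      (σ ^ n) (QuotientGroup.mk w) = QuotientGroup.mk ⟨_, hw⟩ := by
    intro n w
    induction n with
    | zero => exact ⟨by simp, by simp⟩
    | succ n ih =>
      obtain ⟨hw, ih⟩ := ih
      have e : z ^ (n + 1) * (w : X) * (z ^ (n + 1))⁻¹ = z * (z ^ n * w * (z ^ n)⁻¹) * z⁻¹ := by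
        rw [pow_succ']; group
      refine ⟨e ▸ hzW _ hw, ?_⟩
      rw [pow_succ', Equiv.Perm.mul_apply, ih]
      exact congrArg QuotientGroup.mk (Subtype.ext e.symm)
  have hσ : σ ^ r = 1 := by
    ext q
    induction q using QuotientGroup.induction_on with | _ w => ?_
    obtain ⟨hw, h⟩ := hiter r w
    rw [h]
    simp [← hzr, pow_orderOf_eq_one]
  have hσ1 : σ = 1 := by
    classical
    haveI := Fintype.ofFinite (W ⧸ D)
    rw [← orderOf_eq_one_iff]
    rcases (Nat.dvd_prime hr).1 (orderOf_dvd_of_pow_eq_one hσ) with h | h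
    · exact h
    · exfalso
      have h1 : r ∣ Nat.card (Equiv.Perm (W ⧸ D)) := h ▸ orderOf_dvd_natCard σ
      rw [Nat.card_perm] at h1
      have := (hr.dvd_factorial).1 h1
      omega
  obtain ⟨u, huW, hu⟩ := hu
  have h := Equiv.congr_fun hσ1 (QuotientGroup.mk ⟨u, huW⟩)
  have hd : u⁻¹ * (z * u * z⁻¹) ∈ C ⊓ C' := by
    have h' : (QuotientGroup.mk (⟨z * u * z⁻¹, hzW u huW⟩ : W) : W ⧸ D) = QuotientGroup.mk ⟨u, huW⟩ := h
    rw [eq_comm, QuotientGroup.eq] at h'
    exact h'
  set d := u⁻¹ * (z * u * z⁻¹) with hdd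
  have hzd := hcent d hd
  have hzu : z * u * z⁻¹ = u * d := by rw [hdd]; group
  have hiter2 : ∀ n : ℕ, z ^ n * u * (z ^ n)⁻¹ = u * d ^ n := by
    intro n
    induction n with
    | zero => simp
    | succ n ih =>
      have hzn : Commute z (d ^ n) := (show Commute z d from hzd).pow_right n
      calc z ^ (n + 1) * u * (z ^ (n + 1))⁻¹ = z * (z ^ n * u * (z ^ n)⁻¹) * z⁻¹ := by rw [pow_succ']; group
        _ = z * u * (d ^ n * z⁻¹) := by rw [ih]; group
        _ = z * u * z⁻¹ * d ^ n := by rw [← hzn.inv_left.eq, mul_assoc, mul_assoc, mul_assoc]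
        _ = _ := by rw [hzu, pow_succ', mul_assoc]
  have h1 := hiter2 r
  rw [← hzr, pow_orderOf_eq_one, one_mul, inv_one, mul_one, hzr] at h1
  have hdr : d ^ r = 1 := mul_eq_left.1 h1.symm
  have hd2 : d ^ 2 = 1 := h2 _ (hCW hd.1)
  have : orderOf d = 1 := Nat.eq_one_of_dvd_coprimes ((Nat.coprime_primes hr Nat.prime_two).2 (by omega))
    (orderOf_dvd_of_pow_eq_one hdr) (orderOf_dvd_of_pow_eq_one hd2)
  rw [orderOf_eq_one_iff.1 this, mul_one, mul_inv_eq_iff_eq_mul] at hzu
  exact hu hzu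


/-- Let M and V be subgroups of a finite group with V an elementary abelian 2-group, M normalizing V and acting faithfully on it (M ∩ C(V) = 1), and C_M(O_{2'}(M)) ≤ O_{2'}(M). If some elementary abelian 2-subgroup A of M satisfies |V : C_V(A)| < |A|², then M has a section isomorphic to the symmetric group of degree 3. -/
theorem result {X : Type*} [Group X] [Finite X] (M V : Subgroup X) (hV : Cfsg.IsElementaryAbelian 2 V) (hMV : M ≤ Subgroup.normalizer (V : Set X)) (hfaith : M ⊓ Subgroup.centralizer (V : Set X) = ⊥) (hcon : Subgroup.centralizer (Cfsg.pPrimeCore 2 ↥M : Set ↥M) ≤ Cfsg.pPrimeCore 2 ↥M) (A : Subgroup X) (hAM : A ≤ M) (hA : Cfsg.IsElementaryAbelian 2 A) (hsmall : (V ⊓ Subgroup.centralizer (A : Set X)).relIndex V < Nat.card A ^ 2) : Cfsg.Involves (Equiv.Perm (Fin 3)) ↥M := by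
  classical
  by_contra hno
  set K : Subgroup X := (Cfsg.pPrimeCore 2 ↥M).map M.subtype with hK
  have hKM : K ≤ M := Subgroup.map_subtype_le _
  have hMK : M ≤ Subgroup.normalizer (K : Set X) := by
    refine (Subgroup.normal_subgroupOf_iff_le_normalizer hKM).1 ?_
    rw [Subgroup.subgroupOf, hK, Subgroup.comap_map_eq_self_of_injective M.subtype_injective]
    exact CfsgLib.Solvable.pPrimeCore_normal 2 M
  have hKodd : (Nat.card K).Coprime 2 := by
    rw [hK, Subgroup.card_map_of_injective M.subtype_injective]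
    exact CfsgLib.Solvable.pPrimeCore_card_coprime 2 M
  have hCK : ∀ m ∈ M, m ∈ Subgroup.centralizer (K : Set X) → m ∈ K := by
    intro m hm hc
    refine ⟨⟨m, hm⟩, hcon (Subgroup.mem_centralizer_iff.2 fun y hy => Subtype.ext ?_), rfl⟩
    exact Subgroup.mem_centralizer_iff.1 hc (y : X) ⟨y, hy, rfl⟩
  have key : ∀ n : ℕ, ∀ B : Subgroup X, B ≤ A → Nat.card B = n →
      Nat.card B ^ 2 ≤ (V ⊓ Subgroup.centralizer (B : Set X)).relIndex V := by
    intro n
    induction n using Nat.strong_induction_on with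
    | _ n ih =>
    intro B hBA hn
    have hBM : B ≤ M := hBA.trans hAM
    have hB2 : ∀ b ∈ B, b ^ 2 = 1 := fun b hb => hA.2 b (hBA hb)
    have hBcomm : IsMulCommutative B :=
      ⟨⟨fun a b => Subtype.ext (congrArg Subtype.val (hA.1.1.comm ⟨a, hBA a.2⟩ ⟨b, hBA b.2⟩) :)⟩⟩
    have hBp : IsPGroup 2 B := fun b => ⟨1, Subtype.ext (by simpa using hB2 b b.2)⟩
    rcases eq_or_ne B ⊥ with rfl | hB1
    · rw [Subgroup.card_bot, one_pow]
      exact Nat.pos_of_ne_zero Subgroup.index_ne_zero_of_finite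
    -- a hyperplane whose centralizer in `K` is moved
    obtain ⟨B₀, hB₀, a, haB, hgen, x, hx, hax⟩ : ∃ B₀ ≤ B, ∃ a ∈ B, B ≤ B₀ ⊔ Subgroup.zpowers a ∧
        ∃ x ∈ K ⊓ Subgroup.centralizer (B₀ : Set X), a * x * a⁻¹ ≠ x := by
      by_contra hcontra
      push Not at hcontra
      haveI := hBcomm
      obtain ⟨k, hk⟩ := hBp.exists_card_eq
      have hcop : (Nat.card B).Coprime (Nat.card K) := by
        rw [hk]; exact hKodd.symm.pow_left k
      have hW : K ≤ Subgroup.centralizer (B : Set X) :=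
        CfsgLib.Solvable.le_of_cyclic_quotient_centralizer_le (hBM.trans hMK) hcop (by
          rintro B₀ hB₀ ⟨a, ha, hgen⟩ x hx
          rw [Subgroup.mem_centralizer_iff]
          intro b hb
          have hle : B₀ ⊔ Subgroup.zpowers a ≤ Subgroup.centralizer ({x} : Set X) := by
            rw [sup_le_iff, Subgroup.zpowers_le]
            constructor
            · intro c hc
              rw [Subgroup.mem_centralizer_iff]
              intro y hy
              rw [Set.mem_singleton_iff.1 hy]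
              exact (Subgroup.mem_centralizer_iff.1 hx.2 c hc).symm
            · rw [Subgroup.mem_centralizer_iff]
              intro y hy
              rw [Set.mem_singleton_iff.1 hy]
              exact (mul_inv_eq_iff_eq_mul.1 (hcontra B₀ hB₀ a ha hgen x hx)).symm
          exact (Subgroup.mem_centralizer_iff.1 (hle (hgen hb)) x rfl).symm)
      refine hB1 (eq_bot_iff.2 fun b hb => ?_)
      have hbK : b ∈ K := hCK b (hBM hb) (Subgroup.le_centralizer_iff.1 hW hb)
      have := Subgroup.inf_eq_bot_of_coprime hcop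
      rw [← this]
      exact ⟨hb, hbK⟩
    have haB₀ : ∀ b ∈ B₀, a * b = b * a := fun b hb =>
      congrArg Subtype.val (hBcomm.1.comm ⟨a, haB⟩ ⟨b, hB₀ hb⟩)
    have ha2 : a * a = 1 := by rw [← sq]; exact hB2 a haB
    have hainv : a⁻¹ = a := inv_eq_of_mul_eq_one_right ha2
    rw [hainv] at hax
    have ha0 : a ∉ B₀ := fun h => hax (by
      rw [Subgroup.mem_centralizer_iff.1 hx.2 a h, mul_assoc, ha2, mul_one])
    have hcardB : Nat.card B = 2 * Nat.card B₀ := by
      have hnorm : Subgroup.zpowers a ≤ Subgroup.normalizer (B₀ : Set X) := by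
        rw [Subgroup.zpowers_le, Subgroup.mem_normalizer_iff]
        intro h
        refine ⟨fun hh => ?_, fun hh => ?_⟩
        · rwa [haB₀ h hh, mul_inv_cancel_right]
        · have e : a * (a * h * a⁻¹) * a⁻¹ = h := by
            rw [hainv]
            calc a * (a * h * a) * a = (a * a) * h * (a * a) := by group
              _ = h := by rw [ha2, one_mul, mul_one]
          rw [← e, haB₀ _ hh, mul_inv_cancel_right]
          exact hh
      have hdis : Disjoint B₀ (Subgroup.zpowers a) := by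
        rw [disjoint_iff, eq_bot_iff]
        rintro y ⟨hy, k, rfl⟩
        rcases Int.even_or_odd' k with ⟨j, rfl | rfl⟩
        · show a ^ (2 * j) ∈ _
          rw [zpow_mul, zpow_ofNat, sq, ha2, one_zpow]
          exact one_mem _
        · refine absurd ?_ ha0
          simpa [zpow_add, zpow_mul, sq, ha2] using hy
      have := CfsgLib.Solvable.card_sup_of_disjoint hnorm hdis
      have hBeq : B₀ ⊔ Subgroup.zpowers a = B :=
        le_antisymm (sup_le hB₀ (Subgroup.zpowers_le.2 haB)) hgen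
      rw [hBeq, Nat.card_zpowers, orderOf_eq_prime (p := 2) (hB2 a haB) (fun h => ha0 (h ▸ one_mem _))] at this
      rw [this, mul_comm]
    have hlt : Nat.card B₀ < n := by
      have : 0 < Nat.card B₀ := Nat.card_pos
      omega
    have ih₀ := ih _ hlt B₀ (hB₀.trans hBA) rfl
    -- an element of prime order inverted by `a`
    set y := x⁻¹ * (a * x * a) with hy
    have hy1 : y ≠ 1 := fun h => hax (inv_mul_eq_one.1 h).symm
    have hay : a * y * a = y⁻¹ := by
      rw [hy]
      calc a * (x⁻¹ * (a * x * a)) * a = a * x⁻¹ * a * (x * (a * a)) := by group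
        _ = a * x⁻¹ * a * x := by rw [ha2, mul_one]
        _ = _ := by simp [mul_assoc, hainv]
    have hyK : y ∈ K ⊓ Subgroup.centralizer (B₀ : Set X) := by
      refine mul_mem (inv_mem hx) ⟨?_, Subgroup.mem_centralizer_iff.2 fun b hb => ?_⟩
      · have := (Subgroup.mem_normalizer_iff.1 (hMK (hBM haB)) x).1 hx.1
        rwa [hainv] at this
      · have hb1 : b * x = x * b := Subgroup.mem_centralizer_iff.1 hx.2 b hb
        calc b * (a * x * a) = a * (b * x) * a := by rw [← mul_assoc, ← mul_assoc, ← haB₀ b hb]; group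
          _ = a * x * (b * a) := by rw [hb1]; group
          _ = a * x * (a * b) := by rw [← haB₀ b hb]
          _ = _ := by group
    obtain ⟨r, hr, hrd⟩ := Nat.exists_prime_and_dvd (fun h => hy1 (orderOf_eq_one_iff.1 h) : orderOf y ≠ 1)
    set z := y ^ (orderOf y / r) with hz
    have hzr : orderOf z = r := by
      rw [hz, orderOf_pow_of_dvd (Nat.div_ne_zero_iff.2 ⟨hr.ne_zero, Nat.le_of_dvd (orderOf_pos y) hrd⟩)
        (Nat.div_dvd_of_dvd hrd), Nat.div_div_self hrd (orderOf_pos y).ne']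
    have hzK : z ∈ K ⊓ Subgroup.centralizer (B₀ : Set X) := pow_mem hyK _
    have hzM : z ∈ M := hKM hzK.1
    have haz : a * z * a = z⁻¹ := by
      have h1 := conj_pow (i := orderOf y / r) (a := a) (b := y)
      rw [hainv, hay] at h1
      rw [hz, ← h1, inv_pow]
    have hr2 : r ≠ 2 := by
      intro h
      have hd : 2 ∣ Nat.card K := by
        rw [← h, ← hzr]
        exact Subgroup.orderOf_dvd_natCard K hzK.1
      exact absurd (Nat.eq_one_of_dvd_coprimes hKodd hd dvd_rfl) (by norm_num)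
    have hr3 : r ≠ 3 := fun h => hno (involves_s3 M (hBM haB) hzM (fun h => ha0 (h ▸ one_mem _)) ha2 (h ▸ hzr) haz)
    have hr5 : 5 ≤ r := by
      have := hr.two_le
      by_contra hlt5
      interval_cases r <;> first | (norm_num at hr; done) | omega
    -- the module
    set W := V ⊓ Subgroup.centralizer (B₀ : Set X)
    have hVc : ∀ u ∈ V, ∀ v ∈ V, u * v = v * u := fun u hu v hv =>
      congrArg Subtype.val (hV.1.1.comm ⟨u, hu⟩ ⟨v, hv⟩)
    have h4 : 4 ≤ (V ⊓ Subgroup.centralizer (B : Set X)).relIndex W := by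
      have hinvW : ∀ g ∈ M, g ∈ Subgroup.centralizer (B₀ : Set X) → ∀ w ∈ W, g * w * g⁻¹ ∈ W := by
        intro g hg hgc w hw
        exact ⟨(Subgroup.mem_normalizer_iff.1 (hMV hg) w).1 hw.1,
          (Subgroup.centralizer (B₀ : Set X)).mul_mem ((Subgroup.centralizer (B₀ : Set X)).mul_mem hgc hw.2)
            ((Subgroup.centralizer (B₀ : Set X)).inv_mem hgc)⟩
      obtain ⟨v, hv, hvz⟩ : ∃ v ∈ V, z * v ≠ v * z := by
        by_contra hh
        push Not at hh
        have : z ∈ M ⊓ Subgroup.centralizer (V : Set X) :=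
          ⟨hzM, Subgroup.mem_centralizer_iff.2 fun v hv => (hh v hv).symm⟩
        rw [hfaith, Subgroup.mem_bot] at this
        rw [this, orderOf_one] at hzr
        exact hr.one_lt.ne hzr
      obtain ⟨u, hu, hu1⟩ := exists_moved hV (hB₀.trans hBM |>.trans hMV) (hMV hzM) hr hr2 hzr
        (fun b hb => (Subgroup.mem_centralizer_iff.1 hzK.2 b hb)) (fun b hb => hB2 b (hB₀ hb)) hv hvz
      have hle : V ⊓ Subgroup.centralizer (B : Set X) ≤ W :=
        inf_le_inf_left _ (Subgroup.centralizer_le hB₀)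
      set C := V ⊓ Subgroup.centralizer (B : Set X)
      by_contra hlt4
      rw [not_le] at hlt4
      exact four_le hr hr5 hzr ha2 haz W C hle (fun w hw w' hw' => hVc w hw.1 w' hw'.1)
        (fun w hw => hV.2 w hw.1) (hinvW z hzM hzK.2)
        (fun c hc => (Subgroup.mem_centralizer_iff.1 hc.2 a haB)) ⟨u, hu, hu1⟩ hlt4
    have hmul := Subgroup.relIndex_mul_relIndex (V ⊓ Subgroup.centralizer (B : Set X)) W V
      (inf_le_inf_left _ (Subgroup.centralizer_le hB₀)) inf_le_left
    calc Nat.card B ^ 2 = 4 * Nat.card B₀ ^ 2 := by rw [hcardB]; ring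
      _ ≤ _ * W.relIndex V := Nat.mul_le_mul h4 ih₀
      _ = _ := hmul
  exact (key _ A le_rfl rfl).not_gt hsmall

end Cfsg.Agent.S3755
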