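import Cfsg.Statements.S3759
import Cfsg.Agent.Lib.SmithTwo.BigRank

set_option autoImplicit false
set_option linter.style.haveILetI false
open Cfsg

namespace Cfsg.Agent.S3759

open Subgroup in
/-- Let G be a finite group of even order in which the centralizer of every involution is solvable and C_G(Ω₁(Z(S))) ≤ N_G(S) for every Sylow 2-subgroup S, with O_{2'}(G) = 1 = O₂(G). Fix a Sylow 2-subgroup S and put Z = Ω₁(Z(S)), H = O²(G), R = S ∩ H. Then H has a strongly embedded subgroup; or Z ∩ R has order 2 and is weakly closed in R with respect to H; or Z has order 4 and equals the subgroup generated by the involutions of R; or the subgroup HZ has local characteristic 2: it has even order and every 2-local subgroup L of HZ satisfies C_L(O₂(L)) ≤ O₂(L). -/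
theorem result {G : Type*} [Group G] [Finite G] (heven : Even (Nat.card G)) (hC : ∀ t : G, orderOf t = 2 → Group.IsSolvable ↥(Subgroup.centralizer ({t} : Set G))) (hZ : ∀ S : Sylow 2 G, Subgroup.centralizer (Cfsg.omegaOne 2 ((S : Subgroup G) ⊓ Subgroup.centralizer ((S : Subgroup G) : Set G)) : Set G) ≤ Subgroup.normalizer ((S : Subgroup G) : Set G)) (hO' : Cfsg.pPrimeCore 2 G = ⊥) (hO : Cfsg.pCore 2 G = ⊥) (S : Sylow 2 G) : (∃ M : Subgroup ↥(Cfsg.pResidual 2 G), Cfsg.IsStronglyEmbedded M) ∨ (Nat.card ↥(Cfsg.omegaOne 2 ((S : Subgroup G) ⊓ Subgroup.centralizer ((S : Subgroup G) : Set G)) ⊓ Cfsg.pResidual 2 G) = 2 ∧ ∀ h ∈ Cfsg.pResidual 2 G, ∀ z ∈ Cfsg.omegaOne 2 ((S : Subgroup G) ⊓ Subgroup.centralizer ((S : Subgroup G) : Set G)) ⊓ Cfsg.pResidual 2 G, h * z * h⁻¹ ∈ (S : Subgroup G) → h * z * h⁻¹ ∈ Cfsg.omegaOne 2 ((S : Subgroup G) ⊓ Subgroup.centralizer ((S : Subgroup G) : Set G))) ∨ (Nat.card ↥(Cfsg.omegaOne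 2 ((S : Subgroup G) ⊓ Subgroup.centralizer ((S : Subgroup G) : Set G))) = 4 ∧ Cfsg.omegaOne 2 ((S : Subgroup G) ⊓ Cfsg.pResidual 2 G) = Cfsg.omegaOne 2 ((S : Subgroup G) ⊓ Subgroup.centralizer ((S : Subgroup G) : Set G))) ∨ Cfsg.IsCharacteristicTwoType ↥(Cfsg.pResidual 2 G ⊔ Cfsg.omegaOne 2 ((S : Subgroup G) ⊓ Subgroup.centralizer ((S : Subgroup G) : Set G))) := by
  open CfsgLib.SmithTwo in
  have hyp : Hyp G := ⟨heven, hC, hZ, hO', hO⟩
  haveI : Fact (Nat.Prime 2) := ⟨Nat.prime_two⟩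
  haveI hHn := CfsgLib.LocalStr.pResidual_normal G 2
  change (∃ M : Subgroup ↥(Cfsg.pResidual 2 G), Cfsg.IsStronglyEmbedded M) ∨
    (Nat.card ↥(CfsgLib.SmithTwo.Om S ⊓ Cfsg.pResidual 2 G) = 2 ∧
      ∀ h ∈ Cfsg.pResidual 2 G, ∀ z ∈ CfsgLib.SmithTwo.Om S ⊓ Cfsg.pResidual 2 G,
        h * z * h⁻¹ ∈ (S : Subgroup G) → h * z * h⁻¹ ∈ CfsgLib.SmithTwo.Om S) ∨
    (Nat.card ↥(CfsgLib.SmithTwo.Om S) = 4 ∧
      Cfsg.omegaOne 2 ((S : Subgroup G) ⊓ Cfsg.pResidual 2 G) = CfsgLib.SmithTwo.Om S) ∨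
    Cfsg.IsCharacteristicTwoType ↥(Cfsg.pResidual 2 G ⊔ CfsgLib.SmithTwo.Om S)
  set H := Cfsg.pResidual 2 G with hH
  set Z := CfsgLib.SmithTwo.Om S with hZdef
  haveI hN : (H ⊔ Z).Normal := ⟨fun n hn g => by
    obtain ⟨a, ha, b, hb, rfl⟩ := mem_sup_of_normal_left.1 hn
    obtain ⟨h, hh, s, hs, rfl⟩ := CfsgLib.SmithTwo.residual_mul S g
    have hsb : s * b = b * s := (CfsgLib.SmithTwo.mem_Om.1 hb).2.1 s hs
    have e : h * s * (a * b) * (h * s)⁻¹ = (h * s * a * (h * s)⁻¹) * (h * b * h⁻¹) := by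
      calc h * s * (a * b) * (h * s)⁻¹ = h * s * a * (h * s)⁻¹ * (h * (s * b) * s⁻¹ * h⁻¹) := by group
        _ = (h * s * a * (h * s)⁻¹) * (h * b * h⁻¹) := by rw [hsb]; group
    rw [e]
    exact mul_mem (mem_sup_left (hHn.conj_mem a ha _))
      (mul_mem (mul_mem (mem_sup_left hh) (mem_sup_right hb)) (inv_mem (mem_sup_left hh)))⟩
  have hNev : Even (Nat.card ↥(H ⊔ Z)) := by
    obtain ⟨z, hz, hz1, -⟩ := CfsgLib.SmithTwo.Hyp.exists_Om_residual hyp S
    rw [even_iff_two_dvd, ← CfsgLib.SmithTwo.orderOf_two (CfsgLib.SmithTwo.mem_Om.1 hz).2.2 hz1]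
    exact Subgroup.orderOf_dvd_natCard _ (mem_sup_right hz)
  have fin : (∀ t ∈ H ⊔ Z, orderOf t = 2 → Cfsg.centralizerPPrimeCore 2 t = ⊥) →
      Cfsg.IsCharacteristicTwoType ↥(H ⊔ Z) := fun h =>
    CfsgLib.SmithTwo.Hyp.charTwoType_normal hyp (H ⊔ Z) hNev h
  rcases Nat.lt_or_ge 2 (Nat.card Z) with hcard | hcard
  · by_cases hrk : Cfsg.PRankLE 2 2 G
    · exact Or.inr (Or.inr (Or.inl (CfsgLib.SmithTwo.rankTwo_large hyp hrk S hcard)))
    · have hall := CfsgLib.SmithTwo.dom_of_large hyp hrk S hcard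
      rcases CfsgLib.SmithTwo.bigRank hyp hrk S (fun t _ ht => hall t ht) with h | h
      · exact Or.inl h
      · exact Or.inr (Or.inr (Or.inr (fin fun t _ ht => h t (hall t ht))))
  · obtain ⟨z, hz, hzH⟩ := CfsgLib.SmithTwo.exists_center2 hyp S hcard
    have hZH : Z ≤ H := fun t ht => by
      rcases hz.2.2 t ht with rfl | rfl
      · exact one_mem _
      · exact hzH
    by_cases hrk : Cfsg.PRankLE 2 2 G
    · by_cases hwc : ∀ h ∈ H, h * z * h⁻¹ ∈ (S : Subgroup G) → h * z * h⁻¹ ∈ Z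
      · refine Or.inr (Or.inl ⟨?_, fun h hh t ht hts => ?_⟩)
        · rw [inf_eq_left.2 hZH]
          refine le_antisymm hcard ?_
          rw [← hz.1]
          exact Nat.le_of_dvd Nat.card_pos (Subgroup.orderOf_dvd_natCard _ hz.2.1)
        · rcases hz.2.2 t ht.1 with rfl | rfl
          · rw [mul_one, mul_inv_cancel]; exact one_mem _
          · exact hwc h hh hts
      · push Not at hwc
        obtain ⟨h, -, hhS, hhZ⟩ := hwc
        rcases CfsgLib.SmithTwo.rankTwo_small hyp hrk hz hhS (isConj_iff.2 ⟨h, rfl⟩)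
          (fun e => hhZ (by rw [e]; exact hz.2.1)) with h' | h'
        · exact Or.inl h'
        · refine Or.inr (Or.inr (Or.inr (fin fun t ht ht2 => h' t ?_ ht2)))
          exact (sup_le le_rfl hZH : H ⊔ Z ≤ H) ht
    · have hall := CfsgLib.SmithTwo.dom_of_small hyp hrk S hcard
      rcases CfsgLib.SmithTwo.bigRank hyp hrk S hall with h | h
      · exact Or.inl h
      · refine Or.inr (Or.inr (Or.inr (fin fun t ht ht2 => h t (hall t ?_ ht2))))
        exact (sup_le le_rfl hZH : H ⊔ Z ≤ H) ht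

end Cfsg.Agent.S3759
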