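import Cfsg.Statements.S3758
import Cfsg.Agent.S3759
import Cfsg.Agent.Lib.SmithN.Final
-- import your own Cfsg.Agent.* helpers here

set_option autoImplicit false
set_option linter.style.haveILetI false
open Cfsg

namespace Cfsg.Agent.S3758

open Subgroup CfsgLib.SmithN

theorem amb_normal {G : Type*} [Group G] [Finite G] (N : Subgroup G) [N.Normal]
    (hCT : Cfsg.IsCharacteristicTwoType ↥N)
    (hN : ∀ L : Subgroup G, Cfsg.IsTwoLocal L → Group.IsSolvable L)
    (hZ : ∀ S : Sylow 2 G, centralizer (Oz (S : Subgroup G) : Set G) ≤ normalizer ((S : Subgroup G) : Set G))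
    (hZN : ∀ S : Sylow 2 G, Oz (S : Subgroup G) ≤ N) (hO : Cfsg.pCore 2 G = ⊥) : Amb ↥N := by
  haveI := Fact.mk Nat.prime_two
  refine ⟨fun T hT hT1 => (CfsgLib.Even.hasCharP_iff _).2 (hCT.2 T hT hT1), fun T hT hT1 => ?_, fun P => ?_, ?_⟩
  · have hT1' : T.map N.subtype ≠ ⊥ := fun h => hT1 ((map_eq_bot_iff_of_injective _ N.subtype_injective).1 h)
    have := hN _ ⟨T.map N.subtype, hT.map _, hT1', rfl⟩
    let f : ↥(normalizer (T : Set ↥N)) →* ↥(normalizer ((T.map N.subtype : Subgroup G) : Set G)) :=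
      (N.subtype.comp (normalizer (T : Set ↥N)).subtype).codRestrict _ fun x =>
        le_normalizer_map N.subtype ⟨x, x.2, rfl⟩
    exact Group.isSolvable_of_isSolvable_injective (f := f) fun a b h =>
      Subtype.ext (Subtype.ext (congrArg (fun c : ↥(normalizer ((T.map N.subtype : Subgroup G) : Set G)) => (c : G)) h))
  · obtain ⟨S', hS'⟩ := (P.isPGroup'.map N.subtype).exists_le_sylow
    have hmax : ∀ x : ↥N, (x : G) ∈ (S' : Subgroup G) → x ∈ (P : Subgroup ↥N) := fun x hx => by
      have h := P.3 (S'.isPGroup'.comap_of_injective N.subtype N.subtype_injective)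
        (fun y hy => hS' ⟨y, hy, rfl⟩)
      exact h.le hx
    intro g hg
    have hg' : (g : G) ∈ normalizer ((S' : Subgroup G) : Set G) := by
      refine hZ S' (mem_centralizer_iff.2 fun z hz => ?_)
      obtain ⟨z1, z2, z3⟩ := mem_Oz.1 hz
      have hzP : (⟨z, hZN S' hz⟩ : ↥N) ∈ Oz (P : Subgroup ↥N) := mem_Oz.2
        ⟨hmax _ z1, fun s hs => Subtype.ext (z2 _ (hS' ⟨s, hs, rfl⟩)), Subtype.ext z3⟩
      exact congrArg Subtype.val (mem_centralizer_iff.1 hg _ hzP)
    refine mem_normalizer_fintype fun x hx => hmax _ ?_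
    exact (mem_normalizer_iff.1 hg' (x : G)).1 (hS' ⟨x, hx, rfl⟩)
  · haveI := CfsgLib.Solvable.pCore_characteristic 2 ↥N
    haveI hn : ((Cfsg.pCore 2 ↥N).map N.subtype).Normal := CfsgLib.Solvable.normal_map_subtype_of_characteristic N _
    refine (map_eq_bot_iff_of_injective _ N.subtype_injective).1 (le_bot_iff.1 (hO ▸ ?_))
    exact le_sSup ⟨hn, (CfsgLib.Solvable.pCore_isPGroup 2 ↥N).map _⟩


/-- Let G be a finite group of even order in which every 2-local subgroup is solvable and C_G(Ω₁(Z(S))) ≤ N_G(S) for every Sylow 2-subgroup S, and suppose O_{2'}(G) = 1 = O₂(G). Fix a Sylow 2-subgroup S, put Z = Ω₁(Z(S)), H = O²(G) (generated by the elements of odd order) and R = S ∩ H. Then one of the following holds: H has a strongly embedded subgroup; R is dihedral (of order at least 4) or semidihedral; Z ∩ R has order 2 and is weakly closed in R with respect to H; or Z has order 4 and is exactly the subgroup generated by the involutions of R. -/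
theorem result {G : Type*} [Group G] [Finite G] (heven : Even (Nat.card G)) (hN : ∀ L : Subgroup G, Cfsg.IsTwoLocal L → Group.IsSolvable L) (hZ : ∀ S : Sylow 2 G, Subgroup.centralizer (Cfsg.omegaOne 2 ((S : Subgroup G) ⊓ Subgroup.centralizer ((S : Subgroup G) : Set G)) : Set G) ≤ Subgroup.normalizer ((S : Subgroup G) : Set G)) (hO' : Cfsg.pPrimeCore 2 G = ⊥) (hO : Cfsg.pCore 2 G = ⊥) (S : Sylow 2 G) : (∃ M : Subgroup ↥(Cfsg.pResidual 2 G), Cfsg.IsStronglyEmbedded M) ∨ ((∃ n : ℕ, 2 ≤ n ∧ Nonempty (↥((S : Subgroup G) ⊓ Cfsg.pResidual 2 G) ≃* DihedralGroup n)) ∨ Cfsg.IsQuasiDihedral ↥((S : Subgroup G) ⊓ Cfsg.pResidual 2 G)) ∨ (Nat.card ↥(Cfsg.omegaOne 2 ((S : Subgroup G) ⊓ Subgroup.centralizer ((S : Subgroup G) : Set G)) ⊓ Cfsg.pResidual 2 G) = 2 ∧ ∀ h ∈ Cfsg.pResidual 2 G, ∀ z ∈ Cfsg.omegaOne 2 ((S : Subgroup G) ⊓ Subgroup.centralizer ((S : Subgroup G) : Set G)) ⊓ Cfsg.pResidual 2 G, h * z * h⁻¹ ∈ (S : Subgroup G) → h * z * h⁻¹ ∈ Cfsg.omegaOne 2 ((S : Subgroup G) ⊓ Subgroup.centralizer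 ((S : Subgroup G) : Set G))) ∨ (Nat.card ↥(Cfsg.omegaOne 2 ((S : Subgroup G) ⊓ Subgroup.centralizer ((S : Subgroup G) : Set G))) = 4 ∧ Cfsg.omegaOne 2 ((S : Subgroup G) ⊓ Cfsg.pResidual 2 G) = Cfsg.omegaOne 2 ((S : Subgroup G) ⊓ Subgroup.centralizer ((S : Subgroup G) : Set G))) := by
  haveI := Fact.mk Nat.prime_two
  have hC : ∀ t : G, orderOf t = 2 → Group.IsSolvable ↥(Subgroup.centralizer ({t} : Set G)) := by
    intro t ht
    have hz : IsPGroup 2 (Subgroup.zpowers t) :=
      IsPGroup.of_card (n := 1) (by rw [Nat.card_zpowers, ht, pow_one])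
    have hne : Subgroup.zpowers t ≠ ⊥ := fun h => by
      rw [zpowers_eq_bot] at h
      rw [h, orderOf_one] at ht
      exact absurd ht (by decide)
    have := hN _ ⟨_, hz, hne, rfl⟩
    have hle : centralizer ({t} : Set G) ≤ normalizer ((zpowers t : Subgroup G) : Set G) := fun c hc =>
      centralizer_le_normalizer _ (mem_centralizer_iff.2 fun z hz' => by
        obtain ⟨i, rfl⟩ := mem_zpowers_iff.1 hz'
        exact ((show Commute t c from (mem_centralizer_singleton_iff.1 hc).symm).zpow_left i).eq)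
    exact Group.isSolvable_of_isSolvable_injective (f := Subgroup.inclusion hle) (Subgroup.inclusion_injective hle)
  rcases Cfsg.Agent.S3759.result heven hC hZ hO' hO S with h | h | h | h
  · exact Or.inl h
  · exact Or.inr (Or.inr (Or.inl h))
  · exact Or.inr (Or.inr (Or.inr h))
  haveI hHn := CfsgLib.LocalStr.pResidual_normal G 2
  set H := Cfsg.pResidual 2 G with hH
  set Z := Oz (S : Subgroup G) with hZdef
  change Cfsg.IsCharacteristicTwoType ↥(H ⊔ Z) at h
  have hnorm : (H ⊔ Z).Normal := ⟨fun x hx g => by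
    obtain ⟨a, ha, b, hb, rfl⟩ := mem_sup_of_normal_left.1 hx
    obtain ⟨k, hk, s, hs, rfl⟩ := CfsgLib.SmithTwo.residual_mul S g
    have hsb : s * b = b * s := (mem_Oz.1 hb).2.1 s hs
    have e : k * s * (a * b) * (k * s)⁻¹ = (k * s * a * (k * s)⁻¹) * (k * b * k⁻¹) := by
      calc k * s * (a * b) * (k * s)⁻¹ = k * s * a * (k * s)⁻¹ * (k * (s * b) * s⁻¹ * k⁻¹) := by group
        _ = (k * s * a * (k * s)⁻¹) * (k * b * k⁻¹) := by rw [hsb]; group
    rw [e]
    exact mul_mem (mem_sup_left (hHn.conj_mem a ha _))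
      (mul_mem (mul_mem (mem_sup_left hk) (mem_sup_right hb)) (inv_mem (mem_sup_left hk)))⟩
  set N := H ⊔ Z with hNdef
  haveI := hnorm
  have hZN : ∀ S' : Sylow 2 G, Oz (S' : Subgroup G) ≤ N := by
    intro S' x hx
    obtain ⟨g, rfl⟩ := MulAction.exists_smul_eq G S S'
    have h1 : g⁻¹ * x * g ∈ Z := CfsgLib.SmithTwo.mem_Om_smul.1 hx
    have h2 := hnorm.conj_mem _ (mem_sup_right (S := H) h1) g
    simpa [mul_assoc] using h2
  have amb : Amb ↥N := amb_normal N h hN hZ hZN hO
  obtain ⟨P, hP⟩ := Cfsg.Agent.S4302.exists_sylow_map_eq_inf S N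
  -- the residual of `N` is `H`
  have hres : (Cfsg.pResidual 2 ↥N).map N.subtype = H := by
    apply le_antisymm
    · rw [Cfsg.pResidual, MonoidHom.map_closure, closure_le]
      rintro _ ⟨x, hx, rfl⟩
      refine subset_closure ?_
      show Nat.Coprime (orderOf (N.subtype x)) 2
      rw [orderOf_injective N.subtype N.subtype_injective x]
      exact hx
    · rw [hH, Cfsg.pResidual, closure_le]
      intro x hx
      have hxN : x ∈ N := mem_sup_left (subset_closure hx)
      refine ⟨⟨x, hxN⟩, subset_closure ?_, rfl⟩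
      show Nat.Coprime (orderOf (⟨x, hxN⟩ : ↥N)) 2
      rw [Subgroup.orderOf_mk]
      exact hx
  rcases global amb h.1 P with ⟨M, hM, hNM, hcM⟩ | ⟨B, X, Y, hBP, hX, hY, hgX, hgY, hno⟩
  · left
    have hypN : CfsgLib.SmithTwo.Hyp ↥N := by
      refine ⟨h.1, fun t ht => ?_, fun P' => amb.cent P', ?_, amb.twoCore⟩
      · have hz : IsPGroup 2 (zpowers t) := IsPGroup.of_card (n := 1) (by rw [Nat.card_zpowers, ht, pow_one])
        have hne : zpowers t ≠ ⊥ := fun e => by
          rw [zpowers_eq_bot] at e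
          rw [e, orderOf_one] at ht
          exact absurd ht (by decide)
        have := amb.solv _ hz hne
        have hle : centralizer ({t} : Set ↥N) ≤ normalizer ((zpowers t : Subgroup ↥N) : Set ↥N) := fun c hc =>
          centralizer_le_normalizer _ (mem_centralizer_iff.2 fun z hz' => by
            obtain ⟨i, rfl⟩ := mem_zpowers_iff.1 hz'
            exact ((show Commute t c from (mem_centralizer_singleton_iff.1 hc).symm).zpow_left i).eq)
        exact Group.isSolvable_of_isSolvable_injective (f := Subgroup.inclusion hle)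
          (Subgroup.inclusion_injective hle)
      · exact CfsgLib.Balance.pPrimeCore_subnormal_eq_bot hO' hnorm.isSubnormal
    obtain ⟨M', hM'⟩ := hypN.stronglyEmbedded_of hM hNM (fun t _ htM ht => hcM t htM ht)
    exact ⟨_, stronglyEmbedded_congr (((Cfsg.pResidual 2 ↥N).equivMapOfInjective N.subtype N.subtype_injective).trans
      (MulEquiv.subgroupCongr hres)) hM'⟩
  · right; left
    obtain ⟨WX, WY, fX, -, -, -⟩ := structure_four amb P hBP hX hY hgX hgY hno
    set R := (S : Subgroup G) ⊓ H with hR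
    have hWR : WX.map N.subtype ≤ R := by
      rintro _ ⟨w, hw, rfl⟩
      refine ⟨?_, hres ▸ mem_map_of_mem _ (fX.le hw).2⟩
      exact (hP.le (mem_map_of_mem N.subtype (fX.le hw).1)).1
    have hc : centralizer (((WX.map N.subtype).subgroupOf R : Subgroup ↥R) : Set ↥R) = (WX.map N.subtype).subgroupOf R := by
      apply le_antisymm
      · intro x hx
        have hxN : (x : G) ∈ N := mem_sup_left x.2.2
        have hxres : (⟨(x : G), hxN⟩ : ↥N) ∈ Cfsg.pResidual 2 ↥N := by
          obtain ⟨y, hy, hyx⟩ := hres.ge x.2.2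
          rwa [show (⟨(x : G), hxN⟩ : ↥N) = y from Subtype.ext hyx.symm]
        have hmem : (⟨(x : G), hxN⟩ : ↥N) ∈ WX := fX.cent.le ⟨mem_centralizer_iff.2 fun w hw => by
          exact Subtype.ext (congrArg Subtype.val (mem_centralizer_iff.1 hx
            ⟨(w : G), hWR (mem_map_of_mem N.subtype hw)⟩ (mem_map_of_mem N.subtype hw)) :), hxres⟩
        exact mem_map_of_mem N.subtype hmem
      · intro x hx
        rw [mem_centralizer_iff]
        intro y hy
        obtain ⟨a, ha, hax⟩ := hx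
        obtain ⟨b, hb, hby⟩ := hy
        apply Subtype.ext
        show (y : G) * x = x * y
        have hax' : (a : G) = (x : G) := hax
        have hby' : (b : G) = (y : G) := hby
        rw [← hax', ← hby']
        have h1 := fX.cent.ge ha
        exact congrArg Subtype.val (mem_centralizer_iff.1 h1.1 b hb)
    have hW4 : Nat.card ↥((WX.map N.subtype).subgroupOf R) = 4 := by
      rw [Nat.card_congr (subgroupOfEquivOfLe hWR).toEquiv, card_map_of_injective N.subtype_injective, fX.card]
    have hsq : ∀ w ∈ (WX.map N.subtype).subgroupOf R, w * w = 1 := by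
      intro w hw
      obtain ⟨a, ha, hax⟩ := hw
      apply Subtype.ext
      show (w : G) * w = 1
      have hax' : (a : G) = (w : G) := hax
      rw [← hax']
      exact congrArg Subtype.val (fX.sq a ha)
    rcases isDQ_of_selfCentralizing_four (S.isPGroup'.to_le inf_le_left) _ hW4 hsq hc with ⟨m, hm, e⟩ | hq
    · exact Or.inl ⟨m, hm, e⟩
    · exact Or.inr hq

end Cfsg.Agent.S3758
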