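import Cfsg.Statements.S3760
import Mathlib

set_option autoImplicit false
open Cfsg

namespace Cfsg.Agent.S3760



/-- Let the group G act transitively on a set X, let x ∈ X with stabilizer H = G_x, and let K ≤ H. Then N_G(K) acts transitively on the set of fixed points of K if and only if every G-conjugate of K contained in H is already an H-conjugate of K. -/
theorem result {G : Type*} [Group G] {X : Type*} [MulAction G X] (htrans : ∀ a b : X, ∃ g : G, g • a = b) (x : X) (K : Subgroup G) (hK : K ≤ MulAction.stabilizer G x) : (∀ a b : X, (∀ k ∈ K, k • a = a) → (∀ k ∈ K, k • b = b) → ∃ g ∈ Subgroup.normalizer (K : Set G), g • a = b) ↔ ∀ g : G, K.map (MulAut.conj g).toMonoidHom ≤ MulAction.stabilizer G x → ∃ h ∈ MulAction.stabilizer G x, K.map (MulAut.conj g).toMonoidHom = K.map (MulAut.conj h).toMonoidHom := by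
  have key : ∀ (g : G) (c : X), (∀ k ∈ K.map (MulAut.conj g).toMonoidHom, k • c = c) ↔
      (∀ k ∈ K, k • (g⁻¹ • c) = g⁻¹ • c) := by
    intro g c
    constructor
    · intro h k hk
      have := h (g * k * g⁻¹) ⟨k, hk, rfl⟩
      rw [mul_smul, mul_smul, smul_eq_iff_eq_inv_smul] at this
      exact this
    · rintro h _ ⟨k, hk, rfl⟩
      show (g * k * g⁻¹) • c = c
      rw [mul_smul, mul_smul, h k hk, smul_inv_smul]
  constructor
  · intro h g hg
    have hfix : ∀ k ∈ K, k • (g⁻¹ • x) = g⁻¹ • x :=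
      (key g x).1 (fun k hk => hg hk)
    obtain ⟨m, hm, hmx⟩ := h (g⁻¹ • x) x hfix (fun k hk => hK hk)
    refine ⟨g * m⁻¹, ?_, ?_⟩
    · rw [MulAction.mem_stabilizer_iff, mul_smul]
      conv_lhs => rw [← hmx]
      rw [inv_smul_smul, smul_inv_smul]
    · rw [map_mul, MulEquiv.toMonoidHom_eq_coe, MulEquiv.toMonoidHom_eq_coe]
      have h2 : K.map (MulAut.conj m⁻¹).toMonoidHom = K :=
        Subgroup.mem_normalizer_iff_map_conj_eq.1 (inv_mem hm)
      conv_lhs => rw [← h2]
      rw [Subgroup.map_map]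
      congr 1
  · intro h a b ha hb
    obtain ⟨g₁, rfl⟩ := htrans x a
    obtain ⟨g₂, rfl⟩ := htrans x b
    have fix : ∀ g : G, (∀ k ∈ K, k • (g • x) = g • x) →
        ∃ m ∈ Subgroup.normalizer (K : Set G), m • x = g • x := by
      intro g hg
      have hle : K.map (MulAut.conj g⁻¹).toMonoidHom ≤ MulAction.stabilizer G x := by
        intro k hk
        have := (key g⁻¹ x).2 (by simpa using hg)
        exact this k hk
      obtain ⟨s, hs, hseq⟩ := h g⁻¹ hle
      refine ⟨g * s, ?_, by rw [mul_smul, MulAction.mem_stabilizer_iff.1 hs]⟩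
      refine Subgroup.mem_normalizer_iff_map_conj_eq.2 ?_
      have h2 := congrArg (Subgroup.map (MulAut.conj g).toMonoidHom) hseq
      rw [Subgroup.map_map, Subgroup.map_map] at h2
      refine Eq.trans ?_ (h2.symm.trans ?_)
      · congr 1
        ext k
        simp [MulAut.conj_apply, mul_assoc]
      · convert K.map_id using 2
        ext k
        simp [MulAut.conj_apply, mul_assoc]
    obtain ⟨m₁, hm₁, e₁⟩ := fix g₁ ha
    obtain ⟨m₂, hm₂, e₂⟩ := fix g₂ hb
    refine ⟨m₂ * m₁⁻¹, mul_mem hm₂ (inv_mem hm₁), ?_⟩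
    rw [← e₁, mul_smul, inv_smul_smul, e₂]

end Cfsg.Agent.S3760
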