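import Cfsg.Statements.S3764
import Cfsg.Agent.Lib.Frobenius.PrimeActionFixed
import Cfsg.Agent.Lib.Solvable.CoprimeAction

set_option autoImplicit false
open Cfsg

set_option linter.style.haveILetI false
open scoped commutatorElement

namespace Cfsg.Agent.S3764

/-- Let p, q, r be distinct primes and let X, Q, V be subgroups of a finite group with X of order r, Q an extraspecial q-group normalized by X with C_Q(X) = Z(Q), and V an elementary abelian p-group normalized by X and Q on which XQ acts faithfully ((X ⊔ Q) ∩ C(V) = 1). If C_V(X) = 1, then q = 2, r = 2^n + 1 for some n, and Q has order 2^(2n+1). -/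
theorem result {G : Type*} [Group G] [Finite G] {p q r : ℕ} (hp : p.Prime) (hq : q.Prime) (hr : r.Prime) (hpq : p ≠ q) (hpr : p ≠ r) (hqr : q ≠ r) (X Q V : Subgroup G) (hX : Nat.card X = r) (hQ : Cfsg.IsExtraspecial q ↥Q) (hXQ : X ≤ Subgroup.normalizer (Q : Set G)) (hCQ : Q ⊓ Subgroup.centralizer (X : Set G) = (Subgroup.center ↥Q).map Q.subtype) (hV : Cfsg.IsElementaryAbelian p V) (hXV : X ≤ Subgroup.normalizer (V : Set G)) (hQV : Q ≤ Subgroup.normalizer (V : Set G)) (hfaith : (X ⊔ Q) ⊓ Subgroup.centralizer (V : Set G) = ⊥) (hCV : V ⊓ Subgroup.centralizer (X : Set G) = ⊥) : q = 2 ∧ ∃ n : ℕ, r = 2 ^ n + 1 ∧ Nat.card Q = 2 ^ (2 * n + 1) := by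
  haveI : Fact p.Prime := ⟨hp⟩
  haveI : Fact q.Prime := ⟨hq⟩
  haveI := hV.1
  letI : CommGroup V :=
    { (inferInstance : Group V) with mul_comm := fun a b => Subtype.ext (setLike_mul_comm a.2 b.2) }
  have hW : X ⊔ Q ≤ Subgroup.normalizer (V : Set G) := sup_le hXV hQV
  set L := X ⊔ Q with hL
  let φ : ↥L →* MulAut V := V.normalizerMonoidHom.comp (Subgroup.inclusion hW)
  have hconj : ∀ (g : ↥L) (a : V), φ g a = a → (g : G) * a = (a : G) * g := fun g a h =>
    mul_inv_eq_iff_eq_mul.1 (congrArg Subtype.val h)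
  obtain ⟨x, hxX, hx1⟩ : ∃ x ∈ X, x ≠ 1 := (X.bot_or_exists_ne_one).resolve_left fun h =>
    hr.one_lt.ne' (by rw [← hX, h, Subgroup.card_bot])
  have hXx : X = Subgroup.zpowers x := by
    refine (Subgroup.eq_of_le_of_card_ge (Subgroup.zpowers_le.2 hxX) ?_).symm
    rw [Nat.card_zpowers, hX]
    exact ((hr.eq_one_or_self_of_dvd _ (hX ▸ Subgroup.orderOf_dvd_natCard X hxX)).resolve_left
      (fun h => hx1 (orderOf_eq_one_iff.1 h))).ge
  have hxr : x ^ r = 1 := by
    have := pow_card_eq_one' (x := (⟨x, hxX⟩ : X))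
    rw [hX] at this
    exact congrArg Subtype.val this
  let x' : L := ⟨x, Subgroup.mem_sup_left hxX⟩
  -- a generator of the centre
  obtain ⟨z, hzc, hz1⟩ : ∃ z : Q, z ∈ Subgroup.center Q ∧ z ≠ 1 :=
    ((Subgroup.center Q).bot_or_exists_ne_one).resolve_left fun h =>
      hq.one_lt.ne' (by rw [← hQ.2, h, Subgroup.card_bot])
  have hzq : z ^ q = 1 := by
    have := pow_card_eq_one' (x := (⟨z, hzc⟩ : Subgroup.center Q))
    rw [hQ.2] at this
    exact congrArg Subtype.val this
  have hxcent : ∀ w : Q, w ∈ Subgroup.center Q → Commute x (w : G) := fun w hw => by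
    have h1 : (w : G) ∈ Q ⊓ Subgroup.centralizer (X : Set G) := by
      rw [hCQ]; exact ⟨w, hw, rfl⟩
    exact h1.2 x hxX
  let z' : L := ⟨(z : G), Subgroup.mem_sup_right z.2⟩
  have hzall : ∀ g : L, g * z' = z' * g := by
    rintro ⟨g, hg⟩
    apply Subtype.ext
    rw [hL, sup_comm] at hg
    obtain ⟨u, hu, y, hy, rfl⟩ := (CfsgLib.Solvable.mem_sup_of_le_normalizer hXQ).1 hg
    have h1 : Commute u (z : G) := congrArg Subtype.val (Subgroup.mem_center_iff.1 hzc ⟨u, hu⟩)
    have h2 : Commute y (z : G) := by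
      rw [hXx] at hy
      obtain ⟨j, rfl⟩ := Subgroup.mem_zpowers_iff.1 hy
      exact Commute.zpow_left (hxcent z hzc) j
    exact (h1.mul_left h2).eq
  have hfix : ∀ a : V, φ x' a = a → a = 1 := fun a ha => by
    have h1 : (a : G) ∈ V ⊓ Subgroup.centralizer (X : Set G) := by
      refine ⟨a.2, fun y hy => ?_⟩
      rw [hXx] at hy
      obtain ⟨j, rfl⟩ := Subgroup.mem_zpowers_iff.1 hy
      exact (Commute.zpow_left (hconj x' a ha) j).eq
    rw [hCV, Subgroup.mem_bot] at h1
    exact Subtype.ext h1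
  have hqp : (q : ZMod p) ≠ 0 := by
    rw [Ne, ZMod.natCast_eq_zero_iff]
    exact fun h => hpq ((Nat.prime_dvd_prime_iff_eq hp hq).1 h)
  obtain ⟨m, W, a, hWn, hsum, hscal, c, hc1, hcq, hca⟩ := CfsgLib.Frobenius.exists_scalar_rep
    (p := p) (fun a : V => Subtype.ext (hV.2 a a.2)) φ x' (r := r) (Subtype.ext hxr) hfix (z := z') (q := q)
    hqp hzall (Subtype.ext (by rw [Subgroup.coe_pow]; exact congrArg Subtype.val hzq))
    (fun h => hz1 (Subtype.ext (by
      have h1 : (z : G) ∈ L ⊓ Subgroup.centralizer (V : Set G) := ⟨z'.2, fun v hv =>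
        (hconj z' ⟨v, hv⟩ (by rw [h]; rfl)).symm⟩
      rw [hL, hfaith, Subgroup.mem_bot] at h1
      exact h1)))
  haveI := hWn
  have hrK : (r : AlgebraicClosure (ZMod p)) ≠ 0 := fun h => hpr <| (Nat.prime_dvd_prime_iff_eq hp hr).1 <| by
    rw [← ZMod.natCast_eq_zero_iff]
    exact (algebraMap (ZMod p) (AlgebraicClosure (ZMod p))).injective (by rw [map_natCast, h, map_zero])
  have hqK : (q : AlgebraicClosure (ZMod p)) ≠ 0 := fun h =>
    hqp ((algebraMap (ZMod p) (AlgebraicClosure (ZMod p))).injective (by rw [map_natCast, h, map_zero]))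
  let Q' := Q.subgroupOf L
  let e : Q' ≃* Q := Subgroup.subgroupOfEquivOfLe le_sup_right
  have hecen : ∀ w : Q', w ∈ Subgroup.center Q' ↔ e w ∈ Subgroup.center Q := fun w => by
    simp only [Subgroup.mem_center_iff]
    exact ⟨fun h g => by simpa using congrArg e (h (e.symm g)),
      fun h g => e.injective (by simpa using h (e g))⟩
  have hcl : ∀ u v : Q', ⁅u, v⁆ ∈ Subgroup.center Q' := fun u v => by
    rw [hecen, map_commutatorElement, ← hQ.1.2.2]
    exact Subgroup.commutator_mem_commutator (Subgroup.mem_top _) (Subgroup.mem_top _)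
  have hcomm : (commutator Q').map e.toMonoidHom = commutator Q := by
    rw [commutator_def, Subgroup.map_commutator, Subgroup.map_top_of_surjective _ e.surjective]
    rfl
  have hcardc : Nat.card (commutator Q') = q := by
    rw [← Subgroup.card_map_of_injective (f := e.toMonoidHom) e.injective, hcomm, hQ.1.2.2, hQ.2]
  have hinj : ∀ g ∈ commutator Q', a (g : L) = 1 → g = 1 := by
    intro g hg hag
    have h1 : e g ∈ Subgroup.center Q := by
      rw [← hQ.1.2.2, ← hcomm]; exact ⟨g, hg, rfl⟩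
    obtain ⟨j, hj⟩ : ∃ j : ℕ, z ^ j = e g := by
      have h2 := mem_powers_of_prime_card (p := q) hQ.2 (g := (⟨z, hzc⟩ : Subgroup.center Q))
        (g' := ⟨e g, h1⟩) (fun h => hz1 (congrArg Subtype.val h))
      obtain ⟨j, hj⟩ := h2
      exact ⟨j, congrArg Subtype.val hj⟩
    have h3 : (g : L) = z' ^ j := by
      apply Subtype.ext
      rw [Subgroup.coe_pow]
      show ((e g : Q) : G) = (z : G) ^ j
      rw [← hj, Subgroup.coe_pow]
    rw [h3, map_pow, hca, smul_pow, one_pow] at hag
    obtain ⟨w, hw⟩ := exists_ne (0 : W)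
    have h4 : c ^ j = 1 := smul_left_injective _ hw ((LinearMap.congr_fun hag w).trans (one_smul _ w).symm)
    have h5 : q ∣ j := by
      have hord : orderOf c = q := orderOf_eq_prime hcq hc1
      rw [← hord]
      exact orderOf_dvd_of_pow_eq_one h4
    obtain ⟨i, rfl⟩ := h5
    apply e.injective
    rw [← hj, pow_mul, hzq, one_pow, map_one]
  obtain ⟨hq2, n, -, hrn, hcard⟩ := CfsgLib.Frobenius.class_two_prime_bound hr hqr hrK hqK a Q' x'
    (hQ.1.1.of_equiv e.symm)
    (by
      rw [show Subgroup.zpowers x' = X.subgroupOf L from Subgroup.map_injective L.subtype_injective (by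
          rw [MonoidHom.map_zpowers, Subgroup.map_subgroupOf_eq_of_le le_sup_left]
          exact hXx.symm),
        ← Subgroup.subgroupOf_sup le_sup_right le_sup_left, sup_comm, Subgroup.subgroupOf_self])
    (Subtype.ext hxr)
    (Subgroup.mem_normalizer_iff.2 fun g => Subgroup.mem_normalizer_iff.1 (hXQ hxX) (g : G))
    hcl hcardc
    (fun w hw => Subtype.ext (hxcent (e w) ((hecen w).1 hw)).eq)
    (fun w hw => by
      rw [hecen]
      have h1 : ((w : L) : G) ∈ Q ⊓ Subgroup.centralizer (X : Set G) := by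
        refine ⟨w.2, fun y hy => ?_⟩
        rw [hXx] at hy
        obtain ⟨j, rfl⟩ := Subgroup.mem_zpowers_iff.1 hy
        exact (Commute.zpow_left (congrArg Subtype.val hw : Commute x ((w : L) : G)) j).eq
      rw [hCQ] at h1
      obtain ⟨w', hw', he⟩ := h1
      rwa [show e w = w' from Subtype.ext he.symm])
    (fun g hg => hscal g fun h => by rw [← map_mul, hg, map_mul]) hinj hsum
  subst hq2
  refine ⟨rfl, n, hrn, ?_⟩
  have hidx : Nat.card (Q' ⧸ Subgroup.center Q') = Nat.card (Q ⧸ Subgroup.center Q) :=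
    Nat.card_congr (QuotientGroup.congr _ _ e (by
      ext w
      constructor
      · rintro ⟨v, hv, rfl⟩; exact (hecen v).1 hv
      · intro hw; exact ⟨e.symm w, (hecen _).2 (by simpa using hw), by simp⟩)).toEquiv
  rw [Subgroup.card_eq_card_quotient_mul_card_subgroup (Subgroup.center Q), ← hidx, hcard, hQ.2, pow_succ]

end Cfsg.Agent.S3764
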