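import Cfsg.Statements.S3765
import Cfsg.Agent.Lib.Frobenius.PrimeActionFixed
import Cfsg.Agent.Lib.Solvable.CoprimeAction

set_option autoImplicit false
open Cfsg

set_option linter.style.haveILetI false

namespace Cfsg.Agent.S3765

/-- Let p, q, r be distinct primes and let X, Q, V be subgroups of a finite group with X of order r normalizing the q-group Q and acting faithfully on it (X ∩ C(Q) = 1), and V a nontrivial elementary abelian p-group normalized by X and Q on which XQ acts faithfully. If q = 2 and r has the form 2^n + 1, assume in addition that Q is abelian. Then C_V(X) ≠ 1. -/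
theorem result {G : Type*} [Group G] [Finite G] {p q r : ℕ} (hp : p.Prime) (hq : q.Prime) (hr : r.Prime) (hpq : p ≠ q) (hpr : p ≠ r) (hqr : q ≠ r) (X Q V : Subgroup G) (hX : Nat.card X = r) (hQ : IsPGroup q Q) (hXQ : X ≤ Subgroup.normalizer (Q : Set G)) (hXfaith : X ⊓ Subgroup.centralizer (Q : Set G) = ⊥) (hV : Cfsg.IsElementaryAbelian p V) (hV1 : V ≠ ⊥) (hXV : X ≤ Subgroup.normalizer (V : Set G)) (hQV : Q ≤ Subgroup.normalizer (V : Set G)) (hfaith : (X ⊔ Q) ⊓ Subgroup.centralizer (V : Set G) = ⊥) (hexc : q = 2 → (∃ n : ℕ, r = 2 ^ n + 1) → IsMulCommutative Q) : V ⊓ Subgroup.centralizer (X : Set G) ≠ ⊥ := by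
  haveI : Fact p.Prime := ⟨hp⟩
  haveI : Fact q.Prime := ⟨hq⟩
  haveI := hV.1
  letI : CommGroup V :=
    { (inferInstance : Group V) with mul_comm := fun a b => Subtype.ext (setLike_mul_comm a.2 b.2) }
  have hW : X ⊔ Q ≤ Subgroup.normalizer (V : Set G) := sup_le hXV hQV
  let φ : ↥(X ⊔ Q) →* MulAut V := V.normalizerMonoidHom.comp (Subgroup.inclusion hW)
  have hconj : ∀ (g : ↥(X ⊔ Q)) (a : V), φ g a = a → (g : G) * a = (a : G) * g := fun g a h =>
    mul_inv_eq_iff_eq_mul.1 (congrArg Subtype.val h)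
  have hXn : X.subgroupOf (X ⊔ Q) ≤ Subgroup.normalizer (Q.subgroupOf (X ⊔ Q) : Set ↥(X ⊔ Q)) :=
    fun g hg => Subgroup.mem_normalizer_iff.2 fun w => Subgroup.mem_normalizer_iff.1 (hXQ hg) (w : G)
  obtain ⟨a, ha1, ha⟩ := CfsgLib.Frobenius.exists_fixed_of_prime_action (p := p) (q := q) hr hpq hpr hqr
    (fun a => Subtype.ext (hV.2 a a.2)) φ (Q.subgroupOf (X ⊔ Q)) (X.subgroupOf (X ⊔ Q))
    (by rw [Nat.card_congr (Subgroup.subgroupOfEquivOfLe le_sup_left).toEquiv, hX]) hXn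
    (hQ.of_equiv (Subgroup.subgroupOfEquivOfLe le_sup_right).symm)
    (fun g _ hg => by
      have h1 : (g : G) ∈ (X ⊔ Q) ⊓ Subgroup.centralizer (V : Set G) := ⟨g.2, fun v hv =>
        (hconj g ⟨v, hv⟩ (by rw [hg]; rfl)).symm⟩
      rw [hfaith, Subgroup.mem_bot] at h1
      exact Subtype.ext h1)
    (fun h => by
      have hX1 : X ≠ ⊥ := fun h0 => hr.one_lt.ne' (by rw [← hX, h0, Subgroup.card_bot])
      obtain ⟨x, hx, hx1⟩ := (X.bot_or_exists_ne_one).resolve_left hX1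
      have h1 : x ∈ X ⊓ Subgroup.centralizer (Q : Set G) := ⟨hx, fun y hy =>
        congrArg Subtype.val (h (show (⟨x, Subgroup.mem_sup_left hx⟩ : ↥(X ⊔ Q)) ∈ X.subgroupOf _ from hx)
          ⟨y, Subgroup.mem_sup_right hy⟩ hy)⟩
      rw [hXfaith, Subgroup.mem_bot] at h1
      exact hx1 h1)
    (fun h1 h2 => by
      haveI := hexc h1 h2
      exact ⟨⟨fun u v => Subtype.ext (Subtype.ext (setLike_mul_comm (s := Q) u.2 v.2))⟩⟩)
  intro hbot
  refine ha1 (Subtype.ext ?_)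
  have h1 : (a : G) ∈ V ⊓ Subgroup.centralizer (X : Set G) := ⟨a.2, fun x hx =>
    hconj ⟨x, Subgroup.mem_sup_left hx⟩ a (ha _ hx)⟩
  rw [hbot, Subgroup.mem_bot] at h1
  exact h1

end Cfsg.Agent.S3765
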