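import Cfsg.Statements.S3766
import Cfsg.Agent.Lib.Solvable.ChiefFitting

set_option autoImplicit false
open Cfsg

set_option linter.style.haveILetI false

open scoped commutatorElement

namespace Cfsg.Agent.S3766

/-- Let G be a finite solvable group and N a normal subgroup of G. Call a pair V < U of normal subgroups of G a chief factor of G when no normal subgroup of G lies strictly between them; an element g centralizes the chief factor U/V when u g u⁻¹ g⁻¹ ∈ V for all u ∈ U. Then an element of G lies in the Fitting subgroup F(N) if and only if it lies in N and centralizes every chief factor of G; and also if and only if it lies in N and centralizes every chief factor U/V of G with U ≤ F(N). -/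
theorem result {G : Type*} [Group G] [Finite G] (hG : Group.IsSolvable G) (N : Subgroup G) [N.Normal] (g : G) : (g ∈ (Cfsg.fittingSubgroup ↥N).map N.subtype ↔ g ∈ N ∧ ∀ U V : Subgroup G, (U.Normal ∧ V.Normal ∧ V < U ∧ ∀ W : Subgroup G, W.Normal → V ≤ W → W ≤ U → W = V ∨ W = U) → ∀ u ∈ U, u * g * u⁻¹ * g⁻¹ ∈ V) ∧ (g ∈ (Cfsg.fittingSubgroup ↥N).map N.subtype ↔ g ∈ N ∧ ∀ U V : Subgroup G, (U.Normal ∧ V.Normal ∧ V < U ∧ ∀ W : Subgroup G, W.Normal → V ≤ W → W ≤ U → W = V ∨ W = U) → U ≤ (Cfsg.fittingSubgroup ↥N).map N.subtype → ∀ u ∈ U, u * g * u⁻¹ * g⁻¹ ∈ V) := by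
  haveI := hG
  rw [CfsgLib.Solvable.map_subtype_fittingSubgroup_eq N]
  have hfwd : g ∈ Cfsg.fittingSubgroup G ⊓ N → g ∈ N ∧ ∀ U V : Subgroup G,
      (U.Normal ∧ V.Normal ∧ V < U ∧ ∀ W : Subgroup G, W.Normal → V ≤ W → W ≤ U → W = V ∨ W = U) →
      ∀ u ∈ U, u * g * u⁻¹ * g⁻¹ ∈ V := fun hg => ⟨hg.2, fun U V h u hu =>
    CfsgLib.Solvable.commutator_chiefFactor_fitting_le ⟨h.2.2.1, h.1, h.2.1, h.2.2.2⟩
      (Subgroup.commutator_mem_commutator hu hg.1)⟩
  have hbwd : (g ∈ N ∧ ∀ U V : Subgroup G,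
      (U.Normal ∧ V.Normal ∧ V < U ∧ ∀ W : Subgroup G, W.Normal → V ≤ W → W ≤ U → W = V ∨ W = U) →
      U ≤ Cfsg.fittingSubgroup G ⊓ N → ∀ u ∈ U, u * g * u⁻¹ * g⁻¹ ∈ V) →
      g ∈ Cfsg.fittingSubgroup G ⊓ N := by
    rintro ⟨hgN, hg⟩
    haveI := CfsgLib.Solvable.fittingSubgroup_normal G
    have hgC : g ∈ Subgroup.normalClosure ({g} : Set G) :=
      Subgroup.subset_normalClosure (Set.mem_singleton g)
    have hCN : Subgroup.normalClosure ({g} : Set G) ≤ N :=
      Subgroup.normalClosure_le_normal (Set.singleton_subset_iff.2 hgN)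
    refine ⟨CfsgLib.Solvable.le_fittingSubgroup_of_commutator_chiefFactor
      (fun U V hc hU => ?_) hgC, hgN⟩
    haveI := hc.2.1
    haveI := hc.2.2.1
    haveI : (U.map (QuotientGroup.mk' V)).Normal :=
      hc.2.1.map _ (QuotientGroup.mk'_surjective V)
    set K := (Subgroup.centralizer
      (U.map (QuotientGroup.mk' V) : Set (G ⧸ V))).comap (QuotientGroup.mk' V)
    have hK : Subgroup.normalClosure ({g} : Set G) ≤ K := by
      refine Subgroup.normalClosure_le_normal (Set.singleton_subset_iff.2 ?_)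
      rintro _ ⟨u, hu, rfl⟩
      have h1 := hg U V ⟨hc.2.1, hc.2.2.1, hc.1, hc.2.2.2⟩
        (le_inf (hU.trans inf_le_right) ((hU.trans inf_le_left).trans hCN)) u hu
      rw [← QuotientGroup.eq_one_iff] at h1
      rw [← mul_inv_eq_one]
      rw [← h1]
      show _ = QuotientGroup.mk' V _
      simp only [map_mul, map_inv]
      group
    rw [Subgroup.commutator_le]
    intro u hu x hx
    rw [← QuotientGroup.eq_one_iff, ← QuotientGroup.mk'_apply, map_commutatorElement,
      commutatorElement_eq_one_iff_mul_comm]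
    exact Subgroup.mem_centralizer_iff.1 (hK hx) _ ⟨u, hu, rfl⟩
  exact ⟨⟨hfwd, fun h => hbwd ⟨h.1, fun U V hc _ => h.2 U V hc⟩⟩,
    ⟨fun h => ⟨h.2, fun U V hc _ => (hfwd h).2 U V hc⟩, hbwd⟩⟩

end Cfsg.Agent.S3766
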