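import Cfsg.Statements.S3767
import Cfsg.Agent.Lib.Frobenius.PrimeActionFixed
import Cfsg.Agent.Lib.Extraspecial.Card

set_option autoImplicit false
open Cfsg

set_option linter.style.haveILetI false
open scoped commutatorElement

namespace Cfsg.Agent.S3767

theorem arith {h : ℕ} (m : Fin h → ℕ) {d O : ℕ} (hh : 0 < h) (hd : ∑ j, m j = d)
    (hm : ∑ j, m j * m j ≤ 1 + O) (hN : d * d = 1 + O * h) (hcop : h.Coprime d) :
    h ∣ d + 1 ∨ h ∣ d - 1 := by
  set k := d / h
  set s := d % h
  have hks : d = h * k + s := (Nat.div_add_mod d h).symm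
  have hs : s < h := Nat.mod_lt _ hh
  have h1 : ∀ j, (2 * k + 1) * m j ≤ m j * m j + k * (k + 1) := by
    intro j
    rcases le_or_gt (m j) k with h2 | h2
    · obtain ⟨t, ht⟩ := Nat.exists_eq_add_of_le h2
      rw [ht]; nlinarith
    · obtain ⟨t, ht⟩ := Nat.exists_eq_add_of_le (Nat.succ_le_of_lt h2)
      rw [ht]; nlinarith
  have h2 := Finset.sum_le_sum fun j (_ : j ∈ (Finset.univ : Finset (Fin h))) => h1 j
  rw [← Finset.mul_sum, hd, Finset.sum_add_distrib, Finset.sum_const, Finset.card_univ,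
    Fintype.card_fin, smul_eq_mul] at h2
  obtain ⟨u, hu⟩ : ∃ u, h = s + (u + 1) := ⟨h - s - 1, by omega⟩
  have h3 : h * ((2 * k + 1) * d) ≤ h * (1 + O + h * (k * (k + 1))) :=
    Nat.mul_le_mul_left h (h2.trans (Nat.add_le_add_right hm _))
  have h4 : s * (u + 1) + 1 ≤ s + (u + 1) := by
    rw [hks] at h3 hN
    rw [hu] at h3 hN
    nlinarith
  rcases Nat.eq_zero_or_pos s with h5 | h5
  · left
    have hd' : h ∣ d := ⟨k, by omega⟩
    rw [Nat.eq_one_of_dvd_coprimes hcop dvd_rfl hd']
    exact one_dvd _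
  · obtain ⟨s', hs'⟩ : ∃ s', s = s' + 1 := ⟨s - 1, by omega⟩
    have h6 : s' * u = 0 := by rw [hs'] at h4; nlinarith
    rcases Nat.mul_eq_zero.1 h6 with h7 | h7
    · right
      exact ⟨k, by omega⟩
    · left
      refine ⟨k + 1, ?_⟩
      rw [Nat.mul_succ]; omega


/-- Let P be an extraspecial p-group of order p^(2n+1) and H a cyclic group of order h prime to p acting on P (inside a common finite group: H normalizes P) so that C_P(x) = Z(P) for every non-identity x ∈ H. Then h divides p^n + 1 or h divides p^n − 1. -/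
theorem result {G : Type*} [Group G] [Finite G] {p : ℕ} [Fact p.Prime] (P H : Subgroup G) (hP : Cfsg.IsExtraspecial p ↥P) (n : ℕ) (hn : Nat.card P = p ^ (2 * n + 1)) (hH : IsCyclic H) (hcop : (Nat.card H).Coprime p) (hHP : H ≤ Subgroup.normalizer (P : Set G)) (hfix : ∀ x ∈ H, x ≠ 1 → P ⊓ Subgroup.centralizer {x} = (Subgroup.center ↥P).map P.subtype) : Nat.card H ∣ p ^ n + 1 ∨ Nat.card H ∣ p ^ n - 1 := by
  classical
  by_cases hh1 : Nat.card H ≤ 1
  · left
    rw [show Nat.card H = 1 by have := Nat.card_pos (α := H); omega]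
    exact one_dvd _
  set h := Nat.card H with hh
  have hpos : 0 < h := Nat.card_pos
  obtain ⟨⟨x, hxH⟩, hgen⟩ := hH.exists_generator
  have hord : orderOf x = h := by
    rw [hh, ← orderOf_eq_card_of_forall_mem_zpowers hgen, ← Subgroup.orderOf_coe]
  haveI : Fintype P := Fintype.ofFinite P
  let σ : MulAut P := P.normalizerMonoidHom ⟨x, hHP hxH⟩
  have hσval : ∀ (i : ℕ) (u : P), (((σ ^ i) u : P) : G) = x ^ i * u * (x ^ i)⁻¹ := fun i u => by
    rw [← map_pow]
    rfl
  have hσh : σ ^ h = 1 := MulEquiv.ext fun u => Subtype.ext (by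
    rw [hσval, ← hord, pow_orderOf_eq_one]; simp)
  have hfree : ∀ i : ℕ, 0 < i → i < h → ∀ u : P, u⁻¹ * (σ ^ i) u ∈ Subgroup.center P →
      u ∈ Subgroup.center P := by
    intro i hi hih u hu
    set c : P := u⁻¹ * (σ ^ i) u with hcdef
    have hy : x ^ i ≠ 1 := pow_ne_one_of_lt_orderOf hi.ne' (hord ▸ hih)
    have hcx : Commute (x ^ i) (c : G) := by
      have h1 : (c : G) ∈ P ⊓ Subgroup.centralizer {x ^ i} := by
        rw [hfix _ (pow_mem hxH i) hy]; exact ⟨c, hu, rfl⟩
      exact (Subgroup.mem_centralizer_singleton_iff.1 h1.2).symm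
    obtain ⟨k, hk⟩ := hP.1.1 c
    have h1 : x ^ i * u * (x ^ i)⁻¹ = (u : G) * (c : G) := by
      rw [hcdef, Subgroup.coe_mul, Subgroup.coe_inv, mul_inv_cancel_left, hσval]
    have h2 := CfsgLib.Frobenius.fixed_coset (r := h) (q := p ^ k) (Nat.Coprime.pow_right _ hcop)
      (by rw [← pow_mul, mul_comm, pow_mul, ← hord, pow_orderOf_eq_one, one_pow]) h1 hcx
      (by rw [← Subgroup.coe_pow, hk, Subgroup.coe_one])
    have h3 : (u : G) ∈ P ⊓ Subgroup.centralizer {x ^ i} :=
      ⟨u.2, Subgroup.mem_centralizer_singleton_iff.2 h2.symm⟩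
    rw [hfix _ (pow_mem hxH i) hy] at h3
    obtain ⟨w, hw, he⟩ := h3
    rwa [P.subtype_injective he] at hw
  have hσZ : ∀ w : P, w ∈ Subgroup.center P → σ w = w := fun w hw => Subtype.ext (by
    have h1 : (w : G) ∈ P ⊓ Subgroup.centralizer {x} := by
      rw [hfix x hxH (fun e => hh1 (by rw [← hord, e, orderOf_one]))]; exact ⟨w, hw, rfl⟩
    have h2 : (w : G) * x = x * w := Subgroup.mem_centralizer_singleton_iff.1 h1.2
    show x * w * x⁻¹ = w
    rw [← h2, mul_inv_cancel_right])
  -- a faithful irreducible representation in characteristic zero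
  let K := AlgebraicClosure ℚ
  let M : P →* Module.End K (P → K) :=
    { toFun := fun g => LinearMap.funLeft K K (fun w => g⁻¹ * w)
      map_one' := by ext f w; simp [LinearMap.funLeft]
      map_mul' := fun g g' => by ext f w; simp [LinearMap.funLeft, mul_assoc] }
  obtain ⟨z, hzc, hz1⟩ : ∃ z : P, z ∈ Subgroup.center P ∧ z ≠ 1 :=
    ((Subgroup.center P).bot_or_exists_ne_one).resolve_left fun e =>
      (Fact.out : p.Prime).one_lt.ne' (by rw [← hP.2, e, Subgroup.card_bot])
  have hzp : z ^ p = 1 := by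
    have := pow_card_eq_one' (x := (⟨z, hzc⟩ : Subgroup.center P))
    rw [hP.2] at this
    exact congrArg Subtype.val this
  have hMz : M z ≠ 1 := by
    intro e
    have h1 := congrFun (LinearMap.congr_fun e (fun w => if w = 1 then 1 else 0)) z
    simp [M, LinearMap.funLeft, hz1] at h1
  have hpK : (p : K) ≠ 0 := Nat.cast_ne_zero.2 (Fact.out : p.Prime).ne_zero
  obtain ⟨W, a, hWn, -, hirr, hscal, c, hc1, hcp, hca⟩ := CfsgLib.Frobenius.exists_irreducible_eigen M hpK
    (fun g => Subgroup.mem_center_iff.1 hzc g) hzp hMz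
  haveI := hWn
  have hsinj : ∀ s t : K, s • (1 : Module.End K W) = t • 1 → s = t := fun s t e => by
    obtain ⟨w, hw⟩ := exists_ne (0 : W)
    exact smul_left_injective K hw (LinearMap.congr_fun e w)
  have hnd : ∀ w : P, w ∈ Subgroup.center P → w ≠ 1 → a w ≠ 1 := by
    intro w hw hw1 e
    obtain ⟨j, hj⟩ : ∃ j : ℕ, (⟨w, hw⟩ : Subgroup.center P) ^ j = ⟨z, hzc⟩ :=
      mem_powers_of_prime_card (p := p) hP.2 (fun e => hw1 (congrArg Subtype.val e))
    have h1 : w ^ j = z := congrArg Subtype.val hj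
    apply hc1
    apply hsinj
    rw [← hca, ← h1, map_pow, e, one_pow, one_smul]
  have S : CfsgLib.Twisted.Setting a := by
    refine ⟨CfsgLib.Extraspecial.commutatorElement_mem_center hP, fun w hw => hscal _ fun g => by
      rw [← map_mul, Subgroup.mem_center_iff.1 hw g, map_mul], fun e he => ?_,
      Nat.cast_ne_zero.2 Fintype.card_ne_zero⟩
    by_contra hcon
    push Not at hcon
    refine he (Subgroup.mem_center_iff.2 fun u => commutatorElement_eq_one_iff_mul_comm.1 ?_)
    by_contra hne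
    exact hnd _ (CfsgLib.Extraspecial.commutatorElement_mem_center hP u e) hne (hcon u)
  -- the intertwiner
  let T₀ : Module.End K W := ∑ u : P, a (σ u * u⁻¹)
  have hT₀ : ∀ w, T₀ * a w = a (σ w) * T₀ := by
    intro w
    simp only [T₀, Finset.sum_mul, Finset.mul_sum, ← map_mul]
    refine Fintype.sum_equiv (Equiv.mulLeft w⁻¹) _ _ fun u => ?_
    simp only [Equiv.coe_mulLeft, ← map_mul]
    congr 1
    simp only [map_mul, map_inv]
    group
  have hT₀ne : T₀ ≠ 0 := by
    intro e
    have h1 := congrArg (CfsgLib.Twisted.coord a 1) e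
    have hone : (1 : Module.End K W) ∈ CfsgLib.Twisted.commEnd a := fun u => by rw [mul_one, one_mul]
    have h2 : ∀ u : P, CfsgLib.Twisted.coord a 1 (a (σ u * u⁻¹)) =
        if u ∈ Subgroup.center P then (Fintype.card P : K) • (1 : Module.End K W) else 0 := by
      intro u
      conv_lhs => rw [← one_mul (a (σ u * u⁻¹))]
      rw [CfsgLib.Twisted.coord_mul S hone, inv_one, mul_one]
      by_cases hu : u ∈ Subgroup.center P
      · rw [if_pos hu, hσZ u hu, mul_inv_cancel]
        simp [Nat.cast_smul_eq_nsmul]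
      · rw [if_neg hu, CfsgLib.Twisted.sum_pairing S _ ?_, zero_mul, mul_zero]
        intro hmem
        refine hu (hfree 1 one_pos (by omega) u ?_)
        have h3 := (inferInstance : (Subgroup.center P).Normal).conj_mem _ hmem u⁻¹
        rw [pow_one]
        simpa [mul_assoc] using h3
    rw [map_zero, map_sum, Finset.sum_congr rfl fun u _ => h2 u, ← Finset.sum_filter,
      Finset.sum_const, ← Nat.cast_smul_eq_nsmul K, smul_smul] at h1
    refine mul_ne_zero ?_ S.card_ne ((smul_eq_zero.1 h1).resolve_right one_ne_zero)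
    exact Nat.cast_ne_zero.2 (Finset.card_ne_zero.2 ⟨1, Finset.mem_filter.2 ⟨Finset.mem_univ _, one_mem _⟩⟩)
  have hinj : Function.Injective T₀ := by
    rw [← LinearMap.ker_eq_bot]
    refine (hirr _ fun g u hu => ?_).resolve_right fun e => hT₀ne (LinearMap.ker_eq_top.1 e)
    rw [LinearMap.mem_ker] at hu ⊢
    rw [← Module.End.mul_apply, hT₀, Module.End.mul_apply, hu, map_zero]
  have hpow : ∀ i w, T₀ ^ i * a w = a ((σ ^ i) w) * T₀ ^ i := by
    intro i
    induction i with
    | zero => intro w; simp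
    | succ i ih =>
      intro w
      rw [pow_succ' T₀, mul_assoc, ih, ← mul_assoc, hT₀, mul_assoc, pow_succ' σ, MulAut.mul_apply]
  obtain ⟨e, he⟩ := hscal (T₀ ^ h) fun g => by
    rw [hpow, hσh]; rfl
  have he0 : e ≠ 0 := by
    intro e0
    rw [e0, zero_smul] at he
    obtain ⟨w, hw⟩ := exists_ne (0 : W)
    apply hw
    have : ∀ i, Function.Injective (T₀ ^ i : Module.End K W) := fun i => by
      rw [Module.End.coe_pow]; exact hinj.iterate i
    exact this h (by rw [he, LinearMap.zero_apply, LinearMap.zero_apply])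
  obtain ⟨t, ht⟩ := IsAlgClosed.exists_pow_nat_eq e hpos
  have ht0 : t ≠ 0 := fun e0 => he0 (by rw [← ht, e0, zero_pow hpos.ne'])
  have hT : (t⁻¹ • T₀) ^ h = 1 := by
    rw [smul_pow, he, smul_smul, inv_pow, ht, inv_mul_cancel₀ he0, one_smul]
  have hK : (h : K) ≠ 0 := Nat.cast_ne_zero.2 hpos.ne'
  haveI : NeZero (h : K) := ⟨hK⟩
  obtain ⟨ω, hω⟩ := HasEnoughRootsOfUnity.exists_primitiveRoot K h
  obtain ⟨m, hm1, hm2, -⟩ := CfsgLib.Twisted.exists_eigen_split (t⁻¹ • T₀) hpos hT hK hω
  obtain ⟨O, hO, hC⟩ := CfsgLib.Twisted.finrank_centEnd_le S (t⁻¹ • T₀) σ hpos hσh hfree hT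
    (fun u => by rw [smul_mul_assoc, hT₀, mul_smul_comm])
  have hE := CfsgLib.Twisted.finrank_end_eq S
  have hb : Module.finrank K (CfsgLib.Twisted.commEnd a) = 1 := by
    have h1 : CfsgLib.Twisted.commEnd a = Submodule.span K {(1 : Module.End K W)} := by
      refine le_antisymm (fun f hf => ?_) ?_
      · obtain ⟨s, rfl⟩ := hscal f hf
        exact Submodule.smul_mem _ _ (Submodule.mem_span_singleton_self _)
      · rw [Submodule.span_le, Set.singleton_subset_iff]
        exact fun u => by rw [mul_one, one_mul]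
    rw [h1]
    refine finrank_span_singleton (K := K) (v := (1 : Module.End K W)) ?_
    intro e0
    obtain ⟨w, hw⟩ := exists_ne (0 : W)
    exact hw (LinearMap.congr_fun e0 w)
  rw [hb, mul_one] at hC hE
  have hN : Nat.card (P ⧸ Subgroup.center P) = p ^ n * p ^ n := by
    have h1 := Subgroup.card_eq_card_quotient_mul_card_subgroup (Subgroup.center P)
    rw [hn, hP.2, pow_succ] at h1
    rw [← pow_add, ← two_mul]
    exact (Nat.eq_of_mul_eq_mul_right (Fact.out : p.Prime).pos h1).symm
  have hd : Module.finrank K W = p ^ n := Nat.mul_self_inj.1 (hE.trans hN)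
  exact arith m hpos (hm1.trans hd) (hm2.trans hC) (by rw [← hN, hO]) (Nat.Coprime.pow_right _ hcop)

end Cfsg.Agent.S3767
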