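import Cfsg.Statements.S3768
import Cfsg.Agent.Lib.Frobenius.Theorem
import Cfsg.Agent.S3383

set_option autoImplicit false
open Cfsg

set_option linter.style.haveILetI false

namespace Cfsg.Agent.S3768

/-- Let G be a finite Frobenius group with Frobenius complement R and Frobenius kernel K (the identity together with the elements in no conjugate of R), and let N be a normal subgroup of G not containing K. Then G/N is a Frobenius group with Frobenius complement RN/N whose Frobenius kernel is the image of K. -/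
theorem result {G : Type*} [Group G] [Finite G] (R : Subgroup G) (hR : Cfsg.IsFrobeniusComplement R) (N : Subgroup G) [N.Normal] (hKN : ¬ Cfsg.frobeniusKernel R ⊆ N) : Cfsg.IsFrobeniusComplement (R.map (QuotientGroup.mk' N)) ∧ Cfsg.frobeniusKernel (R.map (QuotientGroup.mk' N)) = QuotientGroup.mk' N '' Cfsg.frobeniusKernel R := by
  obtain ⟨K, hK, hKn, hc⟩ := CfsgLib.Frobenius.exists_kernel_subgroup hR
  haveI := hKn
  have hKN' : ¬ K ≤ N := fun h => hKN (hK ▸ h)
  have hNK : N ≤ K := ((Cfsg.Agent.S3383.result R hR K hK).2 N inferInstance).resolve_left hKN'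
  have hdisj : ∀ g ∈ K, g ∈ R → g = 1 := fun g h1 h2 =>
    (Subgroup.disjoint_def.1 hc.disjoint) h1 h2
  have hπ : Function.Surjective (QuotientGroup.mk' N) := QuotientGroup.mk'_surjective N
  haveI hKm : (K.map (QuotientGroup.mk' N)).Normal := hKn.map _ hπ
  have hcm : Subgroup.IsComplement' (K.map (QuotientGroup.mk' N)) (R.map (QuotientGroup.mk' N)) := by
    refine Subgroup.isComplement'_of_disjoint_and_mul_eq_univ ?_ ?_
    · rw [Subgroup.disjoint_def]
      rintro _ ⟨k, hk, rfl⟩ ⟨r, hr, hrk⟩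
      have h1 : r⁻¹ * k ∈ N := QuotientGroup.eq.1 hrk
      have h2 : r ∈ K := by
        simpa using K.mul_mem hk (K.inv_mem (hNK h1))
      rw [← hrk, hdisj r h2 hr, map_one]
    · rw [← Subgroup.normal_mul, ← Subgroup.map_sup, hc.sup_eq_top,
        Subgroup.map_top_of_surjective _ hπ, Subgroup.coe_top]
  have hne : K.map (QuotientGroup.mk' N) ≠ ⊥ := fun h => hKN' fun k hk => by
    have := Subgroup.mem_map_of_mem (QuotientGroup.mk' N) hk
    rw [h, Subgroup.mem_bot] at this
    exact (QuotientGroup.eq_one_iff k).1 this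
  have hRne : R.map (QuotientGroup.mk' N) ≠ ⊥ := fun h => hR.1 (eq_bot_iff.2 fun r hr => by
    have := Subgroup.mem_map_of_mem (QuotientGroup.mk' N) hr
    rw [h, Subgroup.mem_bot] at this
    exact hdisj r (hNK ((QuotientGroup.eq_one_iff r).1 this)) hr)
  have hfpf : ∀ h ∈ R.map (QuotientGroup.mk' N), h ≠ 1 →
      K.map (QuotientGroup.mk' N) ⊓ Subgroup.centralizer {h} = ⊥ := by
    rintro _ ⟨r, hr, rfl⟩ hr1
    rw [eq_bot_iff]
    rintro _ ⟨⟨k, hk, rfl⟩, hkc⟩
    have hr0 : r ≠ 1 := fun h => hr1 (by rw [h, map_one])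
    have hfix := CfsgLib.Frobenius.fpf_of_isFrobeniusComplement hc hR hr hr0
    let f : N → N := fun n => ⟨(n : G)⁻¹ * (r * n * r⁻¹),
      N.mul_mem (N.inv_mem n.2) ((inferInstance : N.Normal).conj_mem _ n.2 r)⟩
    have hinjK : ∀ a ∈ K, ∀ b ∈ K, a⁻¹ * (r * a * r⁻¹) = b⁻¹ * (r * b * r⁻¹) → a = b := by
      intro a ha b hb hab
      have h3 : Commute (b * a⁻¹) r := by
        have h4 : b * a⁻¹ * r = r * (b * a⁻¹) := by
          calc b * a⁻¹ * r = b * (a⁻¹ * (r * a * r⁻¹)) * r * a⁻¹ := by group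
            _ = b * (b⁻¹ * (r * b * r⁻¹)) * r * a⁻¹ := by rw [hab]
            _ = r * (b * a⁻¹) := by group
        exact h4
      have h5 : b * a⁻¹ ∈ K ⊓ Subgroup.centralizer {r} :=
        ⟨K.mul_mem hb (K.inv_mem ha), Subgroup.mem_centralizer_singleton_iff.2 h3.eq⟩
      rw [hfix, Subgroup.mem_bot, mul_inv_eq_one] at h5
      exact h5.symm
    have hf : Function.Surjective f := Finite.surjective_of_injective fun a b hab =>
      Subtype.ext (hinjK _ (hNK a.2) _ (hNK b.2) (congrArg Subtype.val hab))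
    have hmem : k⁻¹ * (r * k * r⁻¹) ∈ N := by
      rw [← QuotientGroup.eq_one_iff]
      have h6 : QuotientGroup.mk' N k * QuotientGroup.mk' N r =
          QuotientGroup.mk' N r * QuotientGroup.mk' N k :=
        Subgroup.mem_centralizer_singleton_iff.1 hkc
      show QuotientGroup.mk' N (k⁻¹ * (r * k * r⁻¹)) = 1
      simp only [map_mul, map_inv, ← h6]
      group
    obtain ⟨n, hn⟩ := hf ⟨_, hmem⟩
    have hkn : (n : G) = k := hinjK _ (hNK n.2) _ hk (congrArg Subtype.val hn)
    rw [Subgroup.mem_bot]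
    exact (QuotientGroup.eq_one_iff k).2 (hkn ▸ n.2)
  have hF := CfsgLib.Frobenius.isFrobeniusComplement_of_fpf hcm hne hRne hfpf
  exact ⟨hF, by rw [← CfsgLib.Frobenius.kernel_eq_of_isComplement' hcm hF, Subgroup.coe_map, hK]⟩

end Cfsg.Agent.S3768
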