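import Cfsg.Statements.S3769
import Cfsg.Agent.Lib.Frobenius.PrimeActionFixed
import Cfsg.Agent.Lib.Solvable.CoprimeAction

set_option autoImplicit false
open Cfsg

set_option linter.style.haveILetI false
open scoped commutatorElement

namespace Cfsg.Agent.S3769

/-- Let G and V be subgroups of a finite group with G solvable of odd order normalizing V, V an elementary abelian ℓ-group for a prime ℓ not dividing the order of G, and suppose G has a normal Hall subgroup K with a complement R of prime order. If C_V(R) = 1, then [R, K] centralizes V. -/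
theorem result {X : Type*} [Group X] [Finite X] (G : Subgroup X) (hsolv : Group.IsSolvable G) (hodd : Odd (Nat.card G)) (V : Subgroup X) {ℓ : ℕ} (hℓ : ℓ.Prime) (hV : Cfsg.IsElementaryAbelian ℓ V) (hℓG : ¬ ℓ ∣ Nat.card G) (hGV : G ≤ Subgroup.normalizer (V : Set X)) (K R : Subgroup X) (hKG : K ≤ G) (hKn : G ≤ Subgroup.normalizer (K : Set X)) (hHall : (Nat.card K).Coprime (K.relIndex G)) (hRG : R ≤ G) (hR : (Nat.card R).Prime) (hKR : K ⊓ R = ⊥) (hKRG : K ⊔ R = G) (hCV : V ⊓ Subgroup.centralizer (R : Set X) = ⊥) : ⁅R, K⁆ ≤ Subgroup.centralizer (V : Set X) := by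
  haveI : Fact ℓ.Prime := ⟨hℓ⟩
  haveI := hV.1
  letI : CommGroup V :=
    { (inferInstance : Group V) with mul_comm := fun a b => Subtype.ext (setLike_mul_comm a.2 b.2) }
  let φ : G →* MulAut V := V.normalizerMonoidHom.comp (Subgroup.inclusion hGV)
  have hφker : ∀ g : G, φ g = 1 → (g : X) ∈ Subgroup.centralizer (V : Set X) := fun g hg v hv => by
    have h1 : φ g ⟨v, hv⟩ = ⟨v, hv⟩ := by rw [hg]; rfl
    exact (mul_inv_eq_iff_eq_mul.1 (congrArg Subtype.val h1)).symm
  let Kb : Subgroup (MulAut V) := (K.subgroupOf G).map φ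
  let Rb : Subgroup (MulAut V) := (R.subgroupOf G).map φ
  haveI : Finite (MulAut V) := Finite.of_injective (fun f => (f : V → V)) DFunLike.coe_injective
  have hRK : Rb ≤ Subgroup.normalizer (Kb : Set (MulAut V)) := by
    refine le_trans (Subgroup.map_mono fun g hg => ?_) (Subgroup.le_normalizer_map φ)
    exact Subgroup.mem_normalizer_iff.2 fun w => Subgroup.mem_normalizer_iff.1 (hKn (hRG hg)) (w : X)
  suffices hcom : Rb ≤ Subgroup.centralizer (Kb : Set (MulAut V)) by
    rw [Subgroup.commutator_le]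
    intro y hy k hk
    refine hφker ⟨⁅y, k⁆, ?_⟩ ?_
    · exact G.mul_mem (G.mul_mem (G.mul_mem (hRG hy) (hKG hk)) (G.inv_mem (hRG hy))) (G.inv_mem (hKG hk))
    · show φ ⁅(⟨y, hRG hy⟩ : G), (⟨k, hKG hk⟩ : G)⁆ = 1
      rw [map_commutatorElement, commutatorElement_eq_one_iff_mul_comm]
      exact (hcom ⟨⟨y, hRG hy⟩, hy, rfl⟩ _ ⟨⟨k, hKG hk⟩, hk, rfl⟩).symm
  by_cases hRb : Rb = ⊥
  · rw [hRb]; exact bot_le
  have hRbc : Nat.card Rb = Nat.card R := by
    have h1 : Nat.card Rb ∣ Nat.card R :=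
      (Subgroup.card_map_dvd _ _).trans (Nat.card_congr (Subgroup.subgroupOfEquivOfLe hRG).toEquiv).dvd
    exact (hR.eq_one_or_self_of_dvd _ h1).resolve_left fun h => hRb (Subgroup.card_eq_one.1 h)
  have hKbd : Nat.card Kb ∣ Nat.card K :=
    (Subgroup.card_map_dvd _ _).trans (Nat.card_congr (Subgroup.subgroupOfEquivOfLe hKG).toEquiv).dvd
  have hcop : (Nat.card R).Coprime (Nat.card K) := by
    refine hR.coprime_iff_not_dvd.2 fun h => ?_
    have h1 : K.relIndex G = Nat.card R := by
      rw [← hKRG]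
      have hle : R ≤ Subgroup.normalizer (K : Set X) := hRG.trans hKn
      rw [← Nat.mul_right_inj (Nat.card_pos (α := K)).ne',
        ← CfsgLib.Solvable.card_sup_of_disjoint hle (disjoint_iff.2 hKR),
        ← Subgroup.relIndex_bot_left K, Subgroup.relIndex_mul_relIndex ⊥ K (K ⊔ R) bot_le le_sup_left,
        Subgroup.relIndex_bot_left]
    rw [h1] at hHall
    exact hR.one_lt.ne' (Nat.eq_one_of_dvd_coprimes hHall h dvd_rfl)
  have hcopb : (Nat.card Rb).Coprime (Nat.card Kb) := by
    rw [hRbc]; exact hcop.coprime_dvd_right hKbd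
  have hsolR : Group.IsSolvable Rb := by
    haveI : Fact (Nat.card R).Prime := ⟨hR⟩
    haveI : IsCyclic Rb := isCyclic_of_prime_card (p := Nat.card R) hRbc
    exact Group.isSolvable_of_comm IsCyclic.commGroup.mul_comm
  -- the centralizer contains a Sylow subgroup for every prime
  have hdvd : Nat.card Kb ∣ Nat.card ↥(Kb ⊓ Subgroup.centralizer (Rb : Set (MulAut V))) := by
    refine (Nat.factorization_le_iff_dvd Nat.card_pos.ne' Nat.card_pos.ne').1 fun q => ?_
    by_cases hq : q ∈ (Nat.card Kb).primeFactors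
    swap
    · rw [← Nat.support_factorization, Finsupp.notMem_support_iff] at hq
      rw [hq]; exact Nat.zero_le _
    have hqp : q.Prime := Nat.prime_of_mem_primeFactors hq
    haveI : Fact q.Prime := ⟨hqp⟩
    obtain ⟨P, hP⟩ := CfsgLib.Solvable.exists_invariant_sylow hRK hcopb (Or.inl hsolR) q
    have hqK : q ∣ Nat.card Kb := Nat.dvd_of_mem_primeFactors hq
    have hKGc : Nat.card K ∣ Nat.card G := Subgroup.card_dvd_of_le hKG
    have hPc : Rb ≤ Subgroup.centralizer (((P : Subgroup Kb).map Kb.subtype : Subgroup (MulAut V)) : Set (MulAut V)) := by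
      by_contra hne
      obtain ⟨a, ha1, ha⟩ := CfsgLib.Frobenius.exists_fixed_of_prime_action (p := ℓ) (q := q) hR
        (fun h => hℓG (h ▸ hqK.trans (hKbd.trans hKGc)))
        (fun h => hℓG (h ▸ Subgroup.card_dvd_of_le hRG))
        (fun h => hR.one_lt.ne' (Nat.eq_one_of_dvd_coprimes hcop dvd_rfl (h ▸ hqK.trans hKbd)))
        (fun a : V => Subtype.ext (hV.2 a a.2)) (MonoidHom.id (MulAut V))
        ((P : Subgroup Kb).map Kb.subtype) Rb hRbc hP (P.isPGroup'.map _) (fun g _ hg => hg) hne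
        (fun h2 _ => absurd (h2 ▸ hqK.trans (hKbd.trans hKGc))
          (fun h => Nat.not_even_iff_odd.2 hodd (even_iff_two_dvd.2 h)))
      refine ha1 (Subtype.ext ?_)
      have h1 : (a : X) ∈ V ⊓ Subgroup.centralizer (R : Set X) := ⟨a.2, fun y hy =>
        mul_inv_eq_iff_eq_mul.1 (congrArg Subtype.val (ha (φ ⟨y, hRG hy⟩) ⟨_, hy, rfl⟩))⟩
      rw [hCV, Subgroup.mem_bot] at h1
      exact h1
    have hle : (P : Subgroup Kb).map Kb.subtype ≤ Kb ⊓ Subgroup.centralizer (Rb : Set (MulAut V)) :=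
      le_inf (Subgroup.map_subtype_le _) (Subgroup.le_centralizer_iff.1 hPc)
    have h2 := Subgroup.card_dvd_of_le hle
    rw [Subgroup.card_map_of_injective Kb.subtype_injective, P.card_eq_multiplicity] at h2
    exact (hqp.pow_dvd_iff_le_factorization Nat.card_pos.ne').1 h2
  have heq : Kb ⊓ Subgroup.centralizer (Rb : Set (MulAut V)) = Kb :=
    Subgroup.eq_of_le_of_card_ge inf_le_left (Nat.le_of_dvd Nat.card_pos hdvd)
  rw [Subgroup.le_centralizer_iff]
  exact inf_eq_left.1 heq

end Cfsg.Agent.S3769
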