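import Cfsg.Statements.S3770
import Cfsg.Agent.Lib.Frobenius.SmallFixed
import Cfsg.Agent.Lib.Frobenius.Theorem

set_option autoImplicit false
open Cfsg

set_option linter.style.haveILetI false

namespace Cfsg.Agent.S3770

/-- Let G and V be subgroups of a finite group with G a Frobenius group with complement R of prime order and kernel K, G normalizing V, and V an elementary abelian ℓ-group for a prime ℓ not dividing the order of G. If C_V(R) has order ℓ, then the derived subgroup of K centralizes V. -/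
theorem result {X : Type*} [Group X] [Finite X] (G : Subgroup X) (V : Subgroup X) {ℓ : ℕ} (hℓ : ℓ.Prime) (hV : Cfsg.IsElementaryAbelian ℓ V) (hℓG : ¬ ℓ ∣ Nat.card G) (hGV : G ≤ Subgroup.normalizer (V : Set X)) (R : Subgroup ↥G) (hR : Cfsg.IsFrobeniusComplement R) (hRp : (Nat.card R).Prime) (hCV : Nat.card ↥(V ⊓ Subgroup.centralizer ((R.map G.subtype : Subgroup X) : Set X)) = ℓ) : ⁅Subgroup.closure (Subtype.val '' Cfsg.frobeniusKernel R), Subgroup.closure (Subtype.val '' Cfsg.frobeniusKernel R)⁆ ≤ Subgroup.centralizer (V : Set X) := by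
  haveI : Fact ℓ.Prime := ⟨hℓ⟩
  obtain ⟨N, hN, hNn, hc⟩ := CfsgLib.Frobenius.exists_kernel_subgroup hR
  haveI := hNn
  set K := N.map G.subtype with hKdef
  set Rx := R.map G.subtype with hRdef
  have hKimg : Subgroup.closure (Subtype.val '' Cfsg.frobeniusKernel R) = K := by
    rw [← hN, show (Subtype.val '' (N : Set G) : Set X) = (K : Set X) from
      (Subgroup.coe_map G.subtype N).symm, Subgroup.closure_eq]
  have hKG : K ≤ G := Subgroup.map_subtype_le N
  have hRG : Rx ≤ G := Subgroup.map_subtype_le R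
  have hsup : K ⊔ Rx = G := by
    rw [hKdef, hRdef, ← Subgroup.map_sup, hc.sup_eq_top, ← MonoidHom.range_eq_map,
      Subgroup.range_subtype]
  have hN1 : N ≠ ⊥ := fun h => hR.2.1 (by simpa [h] using hc.sup_eq_top)
  have hK : K ≠ ⊥ := by rwa [Ne, hKdef, Subgroup.map_eq_bot_iff_of_injective _ G.subtype_injective]
  have hRK : Rx ≤ Subgroup.normalizer (K : Set X) := by
    rintro _ ⟨r, -, rfl⟩
    rw [Subgroup.mem_normalizer_iff]
    intro z
    constructor
    · rintro ⟨n, hn, rfl⟩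
      exact ⟨r * n * r⁻¹, hNn.conj_mem n hn r, rfl⟩
    · rintro ⟨n, hn, he⟩
      refine ⟨r⁻¹ * n * r⁻¹⁻¹, hNn.conj_mem n hn r⁻¹, ?_⟩
      simp only [map_mul, map_inv, inv_inv, he]
      group
  have hRc : (Nat.card Rx).Prime := by
    rwa [hRdef, Subgroup.card_map_of_injective G.subtype_injective]
  have hKR : K ⊓ Rx = ⊥ := by
    rw [hKdef, hRdef, ← Subgroup.map_inf _ _ _ G.subtype_injective, hc.disjoint.eq_bot, Subgroup.map_bot]
  have hfpf : ∀ r ∈ Rx, r ≠ 1 → K ⊓ Subgroup.centralizer {r} = ⊥ := by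
    rintro _ ⟨r, hr, rfl⟩ hr1
    rw [eq_bot_iff]
    rintro _ ⟨⟨n, hn, rfl⟩, hcn⟩
    have h1 : n ∈ N ⊓ Subgroup.centralizer {r} := ⟨hn, Subgroup.mem_centralizer_singleton_iff.2
      (G.subtype_injective (by simpa using Subgroup.mem_centralizer_singleton_iff.1 hcn))⟩
    rw [CfsgLib.Frobenius.fpf_of_isFrobeniusComplement hc hR hr
      (fun h => hr1 (by rw [h, map_one])), Subgroup.mem_bot] at h1
    simp [h1]
  rw [hKimg]
  exact CfsgLib.Frobenius.commutator_le_centralizer_of_card_fixed hV.1 hV.2 (hKG.trans hGV)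
    (hRG.trans hGV) hRK hK hRc hKR hfpf (hsup ▸ hℓG) hCV

end Cfsg.Agent.S3770
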