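import Cfsg.Statements.S3772
import Cfsg.Agent.Lib.PGroup.Basic
import Cfsg.Agent.Lib.Transfer.ClassTwo

set_option autoImplicit false
open Cfsg
open scoped commutatorElement


namespace Cfsg.Agent.S3772

/-- Let G be a finite 2-group whose Frattini subgroup Φ(G) has order 2, with |G : Φ(G)| = 2^d, and let j be the number of elements x of G with x² = 1. Then j = 2^d, or j = 2^d + 2^(d−r) or j = 2^d − 2^(d−r) for some positive integer r with 2r ≤ d. Moreover if d = 2r and j is 2^d + 2^r or 2^d − 2^r, then G is extraspecial. -/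
theorem result {G : Type*} [Group G] [Finite G] (hG : IsPGroup 2 G) (hΦ : Nat.card (frattini G) = 2) (d : ℕ) (hd : (frattini G).index = 2 ^ d) : (Nat.card {x : G // x ^ 2 = 1} = 2 ^ d ∨ ∃ r : ℕ, 1 ≤ r ∧ 2 * r ≤ d ∧ (Nat.card {x : G // x ^ 2 = 1} = 2 ^ d + 2 ^ (d - r) ∨ Nat.card {x : G // x ^ 2 = 1} + 2 ^ (d - r) = 2 ^ d)) ∧ (∀ r : ℕ, d = 2 * r → (Nat.card {x : G // x ^ 2 = 1} = 2 ^ d + 2 ^ r ∨ Nat.card {x : G // x ^ 2 = 1} + 2 ^ r = 2 ^ d) → Cfsg.IsExtraspecial 2 G) := by
  classical
  haveI : Fact (Nat.Prime 2) := ⟨Nat.prime_two⟩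
  letI := Fintype.ofFinite G
  set Φ := frattini G
  haveI : Φ.Normal := by infer_instance
  -- the generator of the Frattini subgroup
  haveI : Nontrivial Φ := Finite.one_lt_card_iff_nontrivial.mp (by omega)
  obtain ⟨⟨z, hzΦ⟩, hz'⟩ := exists_ne (1 : Φ)
  have hz1 : z ≠ 1 := fun h => hz' (Subtype.ext h)
  have hΦc : ∀ w ∈ Φ, w = 1 ∨ w = z := by
    intro w hw
    obtain ⟨a, b, hab, huniv⟩ := Nat.card_eq_two_iff.1 hΦ
    have hmem : ∀ v : Φ, v = a ∨ v = b := fun v => by
      have : v ∈ ({a, b} : Set Φ) := huniv ▸ Set.mem_univ v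
      simpa using this
    by_contra hne
    push Not at hne
    rcases hmem ⟨w, hw⟩ with hw' | hw' <;> rcases hmem ⟨z, hzΦ⟩ with hz'' | hz'' <;>
      rcases hmem 1 with h1 | h1
    all_goals first
      | exact hne.1 (congrArg Subtype.val (hw'.trans h1.symm))
      | exact hne.2 (congrArg Subtype.val (hw'.trans hz''.symm))
      | exact hz1 (congrArg Subtype.val (hz''.trans h1.symm))
  have hsq : ∀ g : G, g ^ 2 = 1 ∨ g ^ 2 = z := fun g => hΦc _ (CfsgLib.PGroup.pow_mem_frattini hG g)
  have hΦz : Φ ≤ Subgroup.center G := fun w hw => Subgroup.mem_center_iff.2 fun g => by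
    rcases hΦc w hw with rfl | hwz
    · rw [mul_one, one_mul]
    · have hconj : g * w * g⁻¹ ∈ Φ := (inferInstance : Φ.Normal).conj_mem w hw g
      rcases hΦc _ hconj with h | h
      · rw [conj_eq_one_iff] at h
        exact absurd (hwz.symm.trans h) hz1
      · rw [← hwz] at h
        exact mul_inv_eq_iff_eq_mul.1 h
  have hcl : commutator G ≤ Subgroup.center G := (CfsgLib.PGroup.commutator_le_frattini hG).trans hΦz
  have hzc : z ∈ Subgroup.center G := hΦz hzΦ
  have hzz : z * z = 1 := by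
    rcases hΦc _ (mul_mem hzΦ hzΦ) with h | h
    · exact h
    · exact absurd (mul_eq_left.1 h) hz1
  -- the sign on the Frattini subgroup
  let ε : G → ℤ := fun w => if w = 1 then 1 else -1
  have εmul : ∀ a ∈ Φ, ∀ b ∈ Φ, ε (a * b) = ε a * ε b := by
    intro a ha b hb
    rcases hΦc a ha with rfl | rfl <;> rcases hΦc b hb with rfl | rfl
    all_goals simp [ε, hz1, hzz]
  have hsqΦ : ∀ g : G, g ^ 2 ∈ Φ := CfsgLib.PGroup.pow_mem_frattini hG
  have hcomΦ : ∀ g t : G, ⁅g, t⁆ ∈ Φ := fun g t =>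
    CfsgLib.PGroup.commutator_le_frattini hG
      (Subgroup.commutator_mem_commutator (Subgroup.mem_top g) (Subgroup.mem_top t))
  set S : ℤ := ∑ g : G, ε (g ^ 2) with hS
  set j := Nat.card {x : G // x ^ 2 = 1} with hj
  have hG' : Fintype.card G = 2 ^ (d + 1) := by
    rw [← Nat.card_eq_fintype_card, ← Φ.card_mul_index, hΦ, hd]; ring
  have hSj : S = 2 * (j : ℤ) - 2 ^ (d + 1) := by
    have e : ∀ g : G, ε (g ^ 2) = 2 * (if g ^ 2 = 1 then (1 : ℤ) else 0) - 1 := fun g => by
      simp only [ε]; split_ifs <;> norm_num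
    rw [hS, Finset.sum_congr rfl fun g _ => e g, Finset.sum_sub_distrib, ← Finset.mul_sum,
      Finset.sum_boole, hj, Nat.card_eq_fintype_card, Fintype.card_subtype]
    simp [hG']
  have hSS : S * S = ∑ t : G, ε (t ^ 2) * ∑ g : G, ε ⁅g, t⁆ := by
    have h0 : S * S = ∑ g : G, ∑ t : G, ε (g ^ 2) * ε ((g * t) ^ 2) := by
      rw [hS, Finset.sum_mul]
      refine Finset.sum_congr rfl fun g _ => ?_
      rw [Finset.mul_sum]
      exact (Equiv.sum_comp (Equiv.mulLeft g) fun h => ε (g ^ 2) * ε (h ^ 2)).symm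
    rw [h0, Finset.sum_comm]
    refine Finset.sum_congr rfl fun t _ => ?_
    rw [Finset.mul_sum]
    refine Finset.sum_congr rfl fun g _ => ?_
    have e : (g * t) ^ 2 = g ^ 2 * t ^ 2 * ⁅g, t⁆ := by
      have hc : Commute ⁅t, g⁆ (g * t) := (Subgroup.mem_center_iff.1
        (hΦz (hcomΦ t g)) _).symm
      have hinv : ⁅g, t⁆ = ⁅t, g⁆ := by
        rw [← commutatorElement_inv t g]
        rcases hΦc _ (hcomΦ t g) with h | h
        · rw [h, inv_one]
        · rw [h]; exact inv_eq_of_mul_eq_one_left hzz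
      have h1 : g * t * (g * t) = g * (⁅t, g⁆ * (g * t)) * t := by
        rw [commutatorElement_def]; group
      rw [hinv, pow_two, pow_two, pow_two, h1, hc.eq]
      have hc2 := Subgroup.mem_center_iff.1 (hΦz (hcomΦ t g)) t
      rw [show g * (g * t * ⁅t, g⁆) * t = g * g * t * (⁅t, g⁆ * t) by group, ← hc2]
      group
    rw [e, εmul _ (mul_mem (hsqΦ g) (hsqΦ t)) _ (hcomΦ g t), εmul _ (hsqΦ g) _ (hsqΦ t)]
    have : ε (g ^ 2) * ε (g ^ 2) = 1 := by simp only [ε]; split_ifs <;> norm_num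
    linear_combination (ε (t ^ 2) * ε ⁅g, t⁆) * this
  -- the inner sum
  have hinner : ∀ t : G, ∑ g : G, ε ⁅g, t⁆ =
      if t ∈ Subgroup.center G then (2 ^ (d + 1) : ℤ) else 0 := by
    intro t
    split_ifs with ht
    · rw [Finset.sum_congr rfl fun g _ => show ε ⁅g, t⁆ = 1 by
        rw [commutatorElement_eq_one_iff_mul_comm.2 (Subgroup.mem_center_iff.1 ht g)]; simp [ε]]
      simp [hG']
    · obtain ⟨g₀, hg₀⟩ : ∃ g₀ : G, ⁅g₀, t⁆ ≠ 1 := by
        by_contra hno
        push Not at hno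
        exact ht (Subgroup.mem_center_iff.2 fun g => commutatorElement_eq_one_iff_mul_comm.1 (hno g))
      have h1 : ∑ g : G, ε ⁅g, t⁆ = ∑ g : G, - ε ⁅g, t⁆ := by
        refine (Equiv.sum_comp (Equiv.mulLeft g₀) _).symm.trans (Finset.sum_congr rfl fun g _ => ?_)
        rw [Equiv.coe_mulLeft, CfsgLib.Transfer.commutatorElement_mul_left_central
          (hΦz (hcomΦ g t)), εmul _ (hcomΦ _ _) _ (hcomΦ _ _)]
        simp only [ε, if_neg hg₀]
        split_ifs <;> norm_num
      rw [Finset.sum_neg_distrib] at h1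
      omega
  obtain ⟨s, hs⟩ := (IsPGroup.to_subgroup hG (Subgroup.center G)).exists_card_eq
  set T : ℤ := ∑ t : G, if t ∈ Subgroup.center G then ε (t ^ 2) else 0 with hT
  have hST : S * S = T * 2 ^ (d + 1) := by
    rw [hSS, hT, Finset.sum_mul]
    refine Finset.sum_congr rfl fun t _ => ?_
    rw [hinner]
    split_ifs <;> simp
  have hTval : T = 0 ∨ (T = 2 ^ s ∧ ∀ t ∈ Subgroup.center G, t ^ 2 = 1) := by
    by_cases hall : ∀ t ∈ Subgroup.center G, t ^ 2 = 1
    · refine Or.inr ⟨?_, hall⟩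
      rw [hT, Finset.sum_congr rfl fun t _ => show (if t ∈ Subgroup.center G then ε (t ^ 2) else 0) =
        if t ∈ Subgroup.center G then (1 : ℤ) else 0 by
          split_ifs with ht
          · simp [ε, hall t ht]
          · rfl, Finset.sum_boole]
      rw [← Fintype.card_subtype, ← Nat.card_eq_fintype_card]
      exact_mod_cast hs
    · push Not at hall
      obtain ⟨t₀, ht₀, ht₀'⟩ := hall
      refine Or.inl ?_
      have h1 : T = -T := by
        rw [hT, ← Finset.sum_neg_distrib]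
        refine (Equiv.sum_comp (Equiv.mulLeft t₀) _).symm.trans (Finset.sum_congr rfl fun t _ => ?_)
        rw [Equiv.coe_mulLeft]
        by_cases ht : t ∈ Subgroup.center G
        · rw [if_pos (mul_mem ht₀ ht), if_pos ht,
            (show Commute t₀ t from Subgroup.mem_center_iff.1 ht t₀).mul_pow,
            εmul _ (hsqΦ _) _ (hsqΦ _)]
          simp only [ε, if_neg ht₀']
          split_ifs <;> norm_num
        · rw [if_neg (fun h => ht ((Subgroup.center G).mul_mem_cancel_left ht₀ |>.1 h)), if_neg ht,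
            neg_zero]
      omega
  have hs1 : 1 ≤ s := by
    have h : Nat.card Φ ≤ Nat.card (Subgroup.center G) := Subgroup.card_le_of_le hΦz
    rw [hΦ, hs] at h
    by_contra h0
    obtain rfl : s = 0 := by omega
    simp at h
  have key : j = 2 ^ d ∨ ∃ r : ℕ, 2 * r + s = d + 1 ∧ 1 ≤ r ∧
      (j = 2 ^ d + 2 ^ (d - r) ∨ j + 2 ^ (d - r) = 2 ^ d) := by
    rcases hTval with h | ⟨h, hall⟩
    · left
      rw [h, zero_mul, mul_self_eq_zero, hSj] at hST
      have : (2 * j : ℤ) = 2 * (2 ^ d : ℕ) := by push_cast; rw [pow_succ] at hST; omega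
      omega
    · right
      rw [h, ← pow_add] at hST
      have hdvd : S.natAbs * S.natAbs = 2 ^ (s + (d + 1)) := by
        rw [← Int.natAbs_mul, hST, Int.natAbs_pow]; rfl
      obtain ⟨k, -, hk⟩ := (Nat.dvd_prime_pow Nat.prime_two).1 (hdvd ▸ Dvd.intro _ rfl :
        S.natAbs ∣ 2 ^ (s + (d + 1)))
      rw [hk, ← pow_add] at hdvd
      have hk2 := Nat.pow_right_injective le_rfl hdvd
      have hsd : s < d + 1 := by
        have hle : 2 ^ s ≤ 2 ^ (d + 1) := by
          rw [← hs, ← hG', ← Nat.card_eq_fintype_card]; exact Subgroup.card_le_card_group _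
        rcases ((Nat.pow_le_pow_iff_right (by norm_num : 1 < 2)).1 hle).lt_or_eq with h | h
        · exact h
        exfalso
        -- then the group is elementary abelian
        have hall' : ∀ t : G, t ^ 2 = 1 := fun t => hall t (by
          rw [Subgroup.eq_top_of_card_eq (Subgroup.center G) (by rw [hs, h, Nat.card_eq_fintype_card, hG'])]
          trivial)
        have htop : j = 2 ^ (d + 1) := by
          rw [hj, ← hG', ← Nat.card_eq_fintype_card]
          exact Nat.card_congr (Equiv.subtypeUnivEquiv hall')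
        have hbot : Φ = ⊥ := le_bot_iff.1 (CfsgLib.PGroup.frattini_le_of_elementary (p := 2) (fun a b =>
          Subgroup.mem_bot.2 (commutatorElement_eq_one_iff_mul_comm.2 (Subgroup.mem_center_iff.1 (by
          rw [Subgroup.eq_top_of_card_eq (Subgroup.center G) (by rw [hs, h, Nat.card_eq_fintype_card, hG'])]
          trivial) a))) fun a => Subgroup.mem_bot.2 (hall' a))
        rw [hbot, Subgroup.card_bot] at hΦ
        omega
      refine ⟨d + 1 - k, by omega, by omega, ?_⟩
      have e1 : d - (d + 1 - k) = k - 1 := by omega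
      have e2 : (2 ^ k : ℕ) = 2 * 2 ^ (k - 1) := by
        rw [← pow_succ', show k - 1 + 1 = k by omega]
      rw [e1]
      rw [e2, hSj] at hk
      have e3 : (2 : ℤ) ^ (d + 1) = 2 * ((2 ^ d : ℕ) : ℤ) := by push_cast; rw [pow_succ']
      rw [e3] at hk
      omega
  refine ⟨?_, ?_⟩
  · rcases key with h | ⟨r, h1, h2, h3⟩
    · exact Or.inl h
    · exact Or.inr ⟨r, h2, by omega, h3⟩
  · intro r hdr hjr
    have hpos : 0 < 2 ^ r := Nat.pow_pos two_pos
    rcases key with h | ⟨r', h1, h2, h3⟩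
    · omega
    have hrr : d - r' = r := by
      refine Nat.pow_right_injective le_rfl (show 2 ^ (d - r') = 2 ^ r from ?_)
      have : 0 < 2 ^ (d - r') := Nat.pow_pos two_pos
      omega
    have hsone : s = 1 := by omega
    have hZ : Φ = Subgroup.center G := Subgroup.eq_of_le_of_card_ge hΦz (by
      rw [hΦ, hs, hsone, pow_one])
    refine ⟨⟨hG, hZ, ?_⟩, by rw [← hZ, hΦ]⟩
    refine le_antisymm hcl ?_
    rw [← hZ]
    intro w hw
    rcases hΦc w hw with rfl | hwz
    · exact one_mem _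
    have hne : commutator G ≠ ⊥ := by
      intro hb
      have hctop : Subgroup.center G = ⊤ := eq_top_iff.2 fun a _ => Subgroup.mem_center_iff.2 fun b =>
        commutatorElement_eq_one_iff_mul_comm.1 (Subgroup.mem_bot.1 (hb ▸
          Subgroup.commutator_mem_commutator (Subgroup.mem_top b) (Subgroup.mem_top a)))
      rw [hctop, Subgroup.card_top, Nat.card_eq_fintype_card, hG'] at hs
      have := Nat.pow_right_injective le_rfl hs
      omega
    obtain ⟨c, hc, hc1⟩ := (Subgroup.bot_or_exists_ne_one _).resolve_left hne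
    rcases hΦc c (CfsgLib.PGroup.commutator_le_frattini hG hc) with h | h
    · exact absurd h hc1
    · rw [hwz, ← h]; exact hc


end Cfsg.Agent.S3772
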