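import Cfsg.Statements.S3773
import Cfsg.Agent.Lib.FGS68.F2Quad
import Cfsg.Agent.Lib.PGroup.Basic
import Mathlib

set_option autoImplicit false
open Cfsg
open scoped commutatorElement

namespace Cfsg.Agent.S3773

theorem relIndex_sup_eq {G : Type*} [Group G] (N H : Subgroup G)
    (hH : H ≤ Subgroup.normalizer (N : Set G)) : N.relIndex (N ⊔ H) = N.relIndex H := by
  have : (N.subgroupOf (Subgroup.normalizer (N : Set G))).Normal := Subgroup.normal_in_normalizer
  have hN : N ≤ Subgroup.normalizer (N : Set G) := Subgroup.le_normalizer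
  rw [← Subgroup.relIndex_subgroupOf (sup_le hN hH), Subgroup.subgroupOf_sup hN hH,
    Subgroup.relIndex_sup_left, Subgroup.relIndex_subgroupOf hH]

/-- Let G be a finite 2-group of nilpotency class at most 2 and exponent dividing 4 in which the elements x with x² = 1 form a subgroup N. Then |G| ≤ |N|³, and |G| < |N|³ unless G is special. -/
theorem result {G : Type*} [Group G] [Finite G] (hG : IsPGroup 2 G) (hcl : (⊤ : Subgroup G).lowerCentralSeries 2 = ⊥) (hexp : ∀ x : G, x ^ 4 = 1) (hN : ∀ x y : G, x ^ 2 = 1 → y ^ 2 = 1 → (x * y) ^ 2 = 1) : Nat.card G ≤ Nat.card {x : G // x ^ 2 = 1} ^ 3 ∧ (¬ Cfsg.IsSpecial 2 G → Nat.card G < Nat.card {x : G // x ^ 2 = 1} ^ 3) := by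
  let Ω : Subgroup G :=
    { carrier := {x | x ^ 2 = 1}
      one_mem' := one_pow 2
      mul_mem' := fun {a b} ha hb => hN a b ha hb
      inv_mem' := fun {a} ha => by
        show a⁻¹ ^ 2 = 1
        rw [inv_pow, ha, inv_one] }
  have hΩ : ∀ x, x ∈ Ω ↔ x ^ 2 = 1 := fun _ => Iff.rfl
  have hcomm : ∀ x y : G, ⁅x, y⁆ ∈ Subgroup.center G := by
    intro x y
    rw [Subgroup.mem_center_iff]
    intro g
    have h1 : ⁅x, y⁆ ∈ (⊤ : Subgroup G).lowerCentralSeries 1 :=
      Subgroup.commutator_mem_commutator (show x ∈ (⊤ : Subgroup G) from trivial) trivial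
    have h2 : ⁅⁅x, y⁆, g⁆ ∈ (⊤ : Subgroup G).lowerCentralSeries 2 :=
      Subgroup.commutator_mem_commutator h1 trivial
    rw [hcl, Subgroup.mem_bot, commutatorElement_eq_one_iff_mul_comm] at h2
    exact h2.symm
  have hmul : ∀ x y : G, (x * y) ^ 2 = x ^ 2 * y ^ 2 * ⁅y, x⁆ := by
    intro x y
    have h := Subgroup.mem_center_iff.1 (hcomm y x)
    calc (x * y) ^ 2 = x * (⁅y, x⁆ * x * y) * y := by simp [sq, commutatorElement_def, mul_assoc]
      _ = ⁅y, x⁆ * (x * x * (y * y)) := by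
        rw [show x * (⁅y, x⁆ * x * y) * y = x * ⁅y, x⁆ * (x * y * y) by simp [mul_assoc], h x]
        simp [mul_assoc]
      _ = _ := by rw [← sq, ← sq, h]
  have hc2 : ∀ x y : G, ⁅x, y⁆ ^ 2 = 1 := by
    intro x y
    have hs : ∀ a b : G, (a * b) ^ 4 = (a ^ 2 * b ^ 2) ^ 2 * ⁅b, a⁆ ^ 2 := fun a b => by
      rw [show (4 : ℕ) = 2 * 2 from rfl, pow_mul, hmul,
        (show Commute (a ^ 2 * b ^ 2) ⁅b, a⁆ from Subgroup.mem_center_iff.1 (hcomm b a) _).mul_pow]
    have h := hs y x
    rw [hexp, hmul, ← pow_mul, ← pow_mul, hexp, hexp, one_mul, one_mul] at h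
    have h2 : ⁅x ^ 2, y ^ 2⁆ = ⁅x, y⁆ ^ 4 := by
      have hl : ∀ a b c : G, ⁅a * b, c⁆ = ⁅a, c⁆ * ⁅b, c⁆ := fun a b c => by
        calc ⁅a * b, c⁆ = a * ⁅b, c⁆ * a⁻¹ * ⁅a, c⁆ := by simp [commutatorElement_def, mul_assoc]
          _ = _ := by
            rw [Subgroup.mem_center_iff.1 (hcomm b c) a, mul_inv_cancel_right,
              Subgroup.mem_center_iff.1 (hcomm a c)]
      have hr : ∀ a b c : G, ⁅c, a * b⁆ = ⁅c, a⁆ * ⁅c, b⁆ := fun a b c => by
        calc ⁅c, a * b⁆ = ⁅c, a⁆ * (a * ⁅c, b⁆ * a⁻¹) := by simp [commutatorElement_def, mul_assoc]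
          _ = _ := by rw [Subgroup.mem_center_iff.1 (hcomm c b) a, mul_inv_cancel_right]
      simp only [sq, hl, hr]
      simp [pow_succ, mul_assoc]
    rw [h2, hexp, one_mul] at h
    exact h.symm
  -- the subgroup generated by the squares
  set W : Subgroup G := Subgroup.closure (Set.range fun x : G => x ^ 2)
  have hsq : ∀ x : G, x ^ 2 ∈ W := fun x => Subgroup.subset_closure ⟨x, rfl⟩
  have hWc : W ≤ Subgroup.center G := by
    rw [Subgroup.closure_le]
    rintro _ ⟨x, rfl⟩
    rw [SetLike.mem_coe, Subgroup.mem_center_iff]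
    intro g
    have : ⁅x ^ 2, g⁆ = 1 := by
      calc ⁅x ^ 2, g⁆ = x * ⁅x, g⁆ * x⁻¹ * ⁅x, g⁆ := by simp [sq, commutatorElement_def, mul_assoc]
        _ = _ := by rw [Subgroup.mem_center_iff.1 (hcomm x g) x, mul_inv_cancel_right, ← sq, hc2]
    rw [commutatorElement_eq_one_iff_mul_comm] at this
    exact this.symm
  have hW2 : ∀ w ∈ W, w ^ 2 = 1 := by
    intro w hw
    induction hw using Subgroup.closure_induction with
    | mem y hy => obtain ⟨x, rfl⟩ := hy; rw [← pow_mul]; exact hexp x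
    | one => exact one_pow 2
    | mul a b _ _ ha hb => exact hN a b ha hb
    | inv a _ ha => rw [inv_pow, ha, inv_one]
  have hWΩ : W ≤ Ω := hW2
  have hΩpos : 0 < Nat.card Ω := Nat.card_pos
  have hWcard : Nat.card W ≤ Nat.card Ω := Subgroup.card_le_of_le hWΩ
  have h1 : Nat.card G ≤ Nat.card Ω * Nat.card W ^ 2 := by
    have := CfsgLib.FGS68.card_le_of_sq_central W ⊥ Ω hWc hW2 hsq bot_le hWΩ
      (fun x hx => Subgroup.mem_bot.1 hx)
    rwa [Subgroup.relIndex_bot_left] at this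
  show Nat.card G ≤ Nat.card Ω ^ 3 ∧ (¬ Cfsg.IsSpecial 2 G → Nat.card G < Nat.card Ω ^ 3)
  have hle : Nat.card G ≤ Nat.card Ω ^ 3 :=
    h1.trans (by rw [pow_succ' (Nat.card Ω) 2]; exact Nat.mul_le_mul_left _ (Nat.pow_le_pow_left hWcard 2))
  refine ⟨hle, fun hns => lt_of_le_of_ne hle fun heq => hns ?_⟩
  have hWeq : W = Ω := by
    refine Subgroup.eq_of_le_of_card_ge hWΩ ?_
    by_contra hlt
    have h2 : Nat.card W ^ 2 < Nat.card Ω ^ 2 := Nat.pow_lt_pow_left (not_le.1 hlt) two_ne_zero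
    have h3 := Nat.mul_lt_mul_of_pos_left h2 hΩpos
    rw [← pow_succ', show (2 : ℕ) + 1 = 3 from rfl] at h3
    omega
  have hΩc : Ω ≤ Subgroup.center G := hWeq ▸ hWc
  have hcW : ∀ x y : G, ⁅x, y⁆ ∈ W := fun x y => hWeq ▸ (hΩ _).2 (hc2 x y)
  -- the centre is elementary
  have hZ : Subgroup.center G ≤ Ω := by
    intro z hz
    by_contra hzΩ
    have hz2 : z ^ 2 ∈ Ω := hWΩ (hsq z)
    have hzc : ∀ g : G, Commute g z := Subgroup.mem_center_iff.1 hz
    let W₀ := Subgroup.zpowers (z ^ 2)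
    have hW₀ : W₀ ≤ W := Subgroup.zpowers_le.2 (hsq z)
    let U : Subgroup G := Ω ⊔ Subgroup.zpowers z
    have hb := CfsgLib.FGS68.card_le_of_sq_central W W₀ U hWc hW2 hsq hW₀ (hWΩ.trans le_sup_left) ?_
    · have hU : Nat.card U ≤ 2 * Nat.card Ω := by
        have hnorm : Subgroup.zpowers z ≤ Subgroup.normalizer (Ω : Set G) := by
          rw [Subgroup.zpowers_le, Subgroup.mem_normalizer_iff]
          intro h
          rw [(hzc h).eq.symm, mul_inv_cancel_right]
        have e1 : Ω.relIndex U = Ω.relIndex (Subgroup.zpowers z) := relIndex_sup_eq Ω _ hnorm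
        have e2 : Ω.relIndex (Subgroup.zpowers z) ≤ 2 := by
          have hdiv : Ω.relIndex (Subgroup.zpowers z) ∣ (Subgroup.zpowers (z ^ 2)).relIndex (Subgroup.zpowers z) :=
            Subgroup.relIndex_dvd_of_le_left _ (Subgroup.zpowers_le.2 hz2)
          have hmul2 := Subgroup.relIndex_mul_relIndex ⊥ (Subgroup.zpowers (z ^ 2)) (Subgroup.zpowers z) bot_le
            (Subgroup.zpowers_le.2 (pow_mem (Subgroup.mem_zpowers z) 2))
          simp only [Subgroup.relIndex_bot_left, Nat.card_zpowers] at hmul2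
          have hz4 : orderOf z = 4 := orderOf_eq_prime_pow (p := 2) (n := 1) (by simpa using (hΩ z).not.1 hzΩ) (hexp z)
          have hz22 : orderOf (z ^ 2) = 2 := orderOf_eq_prime (by rw [← pow_mul]; exact hexp z) (fun h => hzΩ h)
          rw [hz4, hz22] at hmul2
          exact Nat.le_of_dvd two_pos (hdiv.trans (dvd_of_eq (by omega)))
        have := Subgroup.relIndex_mul_relIndex ⊥ Ω U bot_le le_sup_left
        rw [Subgroup.relIndex_bot_left, Subgroup.relIndex_bot_left, e1] at this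
        rw [← this, mul_comm 2]
        exact Nat.mul_le_mul_left _ e2
      have hW₀card : Nat.card W₀ = 2 := by
        rw [Nat.card_zpowers]
        exact orderOf_eq_prime (by rw [← pow_mul]; exact hexp z) (fun h => hzΩ h)
      have hrel := Subgroup.relIndex_mul_relIndex ⊥ W₀ W bot_le hW₀
      rw [Subgroup.relIndex_bot_left, Subgroup.relIndex_bot_left, hW₀card, hWeq] at hrel
      rw [hWeq] at hb
      set r := W₀.relIndex Ω
      have h5 : Nat.card G ≤ 2 * Nat.card Ω * r ^ 2 := hb.trans (Nat.mul_le_mul_right _ hU)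
      rw [heq, ← hrel] at h5
      have hr : 0 < r := by
        rcases Nat.eq_zero_or_pos r with h0 | h0
        · rw [h0] at hrel; omega
        · exact h0
      nlinarith [pow_pos hr 3]
    · intro x hx
      have hv : (z ^ 2) ^ 2 = 1 := by rw [← pow_mul]; exact hexp z
      obtain ⟨k, hk⟩ := hx
      rcases Int.even_or_odd' k with ⟨j, rfl | rfl⟩
      · refine Subgroup.mem_sup_left ((hΩ x).2 ?_)
        rw [← hk]
        show (z ^ 2) ^ (2 * j) = 1
        rw [zpow_mul, zpow_ofNat, hv, one_zpow]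
      · have hx2 : x ^ 2 = z ^ 2 := by
          rw [← hk]
          show (z ^ 2) ^ (2 * j + 1) = z ^ 2
          rw [zpow_add, zpow_mul, zpow_ofNat, hv, one_zpow, one_mul, zpow_one]
        have h3 : (x * z) ^ 2 = 1 := by rw [(hzc x).mul_pow, hx2, ← sq, hv]
        have e : x = x * z * z⁻¹ := by group
        rw [e]
        exact mul_mem (Subgroup.mem_sup_left ((hΩ _).2 h3))
          (Subgroup.mem_sup_right (inv_mem (Subgroup.mem_zpowers z)))
  have hCW : commutator G ≤ W := by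
    rw [commutator_def, Subgroup.commutator_le]
    exact fun x _ y _ => hcW x y
  have hWC : W ≤ commutator G := by
    by_contra hne
    obtain ⟨W₀, ⟨hW₀l, hW₀u⟩, hW₀max⟩ := Set.Finite.exists_maximal
      (s := {T : Subgroup G | commutator G ≤ T ∧ T < W}) (Set.toFinite _)
      ⟨commutator G, le_rfl, lt_of_le_of_ne hCW (fun h => hne h.ge)⟩
    obtain ⟨w₁, hw₁, hw₁n⟩ := SetLike.exists_of_lt hW₀u
    have hjoin : W₀ ⊔ Subgroup.zpowers w₁ = W := by
      have hle' : W₀ ⊔ Subgroup.zpowers w₁ ≤ W := sup_le hW₀u.le (Subgroup.zpowers_le.2 hw₁)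
      rcases eq_or_lt_of_le hle' with h | h
      · exact h
      · exact absurd (hW₀max ⟨hW₀l.trans le_sup_left, h⟩ le_sup_left
          (Subgroup.mem_sup_right (Subgroup.mem_zpowers w₁))) hw₁n
    have htwo : ∀ w ∈ W, w ∈ W₀ ∨ w * w₁ ∈ W₀ := by
      intro w hw
      have hn : Subgroup.zpowers w₁ ≤ Subgroup.normalizer (W₀ : Set G) := by
        rw [Subgroup.zpowers_le, Subgroup.mem_normalizer_iff]
        intro h
        rw [← (Subgroup.mem_center_iff.1 (hWc hw₁) h), mul_inv_cancel_right]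
      rw [← hjoin, sup_comm, ← SetLike.mem_coe, Subgroup.coe_mul_of_left_le_normalizer_right _ _ hn] at hw
      obtain ⟨c, ⟨k, rfl⟩, t, ht, rfl⟩ := hw
      have hw2 : w₁ ^ 2 = 1 := hW2 _ hw₁
      rcases Int.even_or_odd' k with ⟨j, rfl | rfl⟩
      · left
        show w₁ ^ (2 * j) * t ∈ W₀
        rwa [zpow_mul, zpow_ofNat, hw2, one_zpow, one_mul]
      · right
        show w₁ ^ (2 * j + 1) * t * w₁ ∈ W₀
        rw [zpow_add, zpow_mul, zpow_ofNat, hw2, one_zpow, one_mul, zpow_one, mul_assoc,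
          Subgroup.mem_center_iff.1 (hWc hw₁) t, ← mul_assoc, ← sq, hw2, one_mul]
        exact ht
    have hcm : ∀ x y : G, ⁅x, y⁆ ∈ W₀ := fun x y => hW₀l (by
      rw [commutator_def]
      exact Subgroup.commutator_mem_commutator trivial trivial)
    let H : Subgroup G :=
      { carrier := {x | x ^ 2 ∈ W₀}
        one_mem' := by simp [one_mem]
        mul_mem' := fun {a b} ha hb => by
          show (a * b) ^ 2 ∈ W₀
          rw [hmul]
          exact mul_mem (mul_mem ha hb) (hcm b a)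
        inv_mem' := fun {a} ha => by
          show a⁻¹ ^ 2 ∈ W₀
          rw [inv_pow]; exact inv_mem ha }
    have hH : H.index ≤ 2 := by
      by_cases hex : ∃ a : G, a ^ 2 ∉ W₀
      · obtain ⟨a, ha⟩ := hex
        refine le_of_eq ((Subgroup.index_eq_two_iff).2 ⟨a, fun b => ?_⟩)
        rw [xor_iff_iff_not]
        have hxa : a ^ 2 * w₁ ∈ W₀ := (htwo _ (hsq a)).resolve_left ha
        show (b * a) ^ 2 ∈ W₀ ↔ ¬ b ^ 2 ∈ W₀
        rw [hmul, mul_mem_cancel_right (hcm a b)]
        constructor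
        · intro h hb
          exact ha ((mul_mem_cancel_left hb).1 h)
        · intro hb
          have hb1 := (htwo _ (hsq b)).resolve_left hb
          have e : b ^ 2 * a ^ 2 = (b ^ 2 * w₁) * (a ^ 2 * w₁) := by
            have hw2 : w₁ ^ 2 = 1 := hW2 _ hw₁
            calc b ^ 2 * a ^ 2 = b ^ 2 * a ^ 2 * w₁ ^ 2 := by rw [hw2, mul_one]
              _ = b ^ 2 * (a ^ 2 * w₁) * w₁ := by simp [sq, mul_assoc]
              _ = _ := by rw [mul_assoc (b ^ 2), Subgroup.mem_center_iff.1 (hWc hw₁) (a ^ 2 * w₁)]; simp [mul_assoc]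
          rw [e]
          exact mul_mem hb1 hxa
      · push Not at hex
        have : H = ⊤ := eq_top_iff.2 fun x _ => hex x
        rw [this, Subgroup.index_top]; omega
    have hW₀H : W₀ ≤ H := fun x hx => by
      show x ^ 2 ∈ W₀
      exact pow_mem hx 2
    have hb := CfsgLib.FGS68.card_le_of_sq_central (G := H) (W₀.subgroupOf H) ⊥ (Ω.subgroupOf H)
      (fun x hx => Subgroup.mem_center_iff.2 fun g => Subtype.ext
        (Subgroup.mem_center_iff.1 (hWc (hW₀u.le hx)) g))
      (fun x hx => Subtype.ext (hW2 _ (hW₀u.le hx))) (fun x => x.2) bot_le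
      (fun x hx => hWΩ (hW₀u.le hx))
      (fun x hx => (hΩ _).2 (congrArg Subtype.val (Subgroup.mem_bot.1 hx)))
    rw [Subgroup.relIndex_bot_left, Nat.card_congr (Subgroup.subgroupOfEquivOfLe hW₀H).toEquiv] at hb
    have hΩH : Ω ≤ H := fun x hx => by
      show x ^ 2 ∈ W₀
      rw [(hΩ x).1 hx]; exact one_mem _
    rw [Nat.card_congr (Subgroup.subgroupOfEquivOfLe hΩH).toEquiv] at hb
    have hG' : Nat.card G ≤ 2 * (Nat.card Ω * Nat.card W₀ ^ 2) := by
      rw [← Subgroup.index_mul_card H]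
      exact Nat.mul_le_mul hH hb
    have hhalf : Nat.card W₀ * 2 ≤ Nat.card Ω := by
      rw [← hWeq]
      have hdiv := Subgroup.card_dvd_of_le hW₀u.le
      obtain ⟨c, hc⟩ := hdiv
      rw [hc]
      refine Nat.mul_le_mul_left _ ?_
      by_contra hc2
      have : Nat.card W ≤ Nat.card W₀ := by
        rw [hc]
        exact (Nat.mul_le_mul_left _ (show c ≤ 1 by omega)).trans_eq (mul_one _)
      exact hW₀u.ne (Subgroup.eq_of_le_of_card_ge hW₀u.le this)
    rw [heq] at hG'
    nlinarith [Nat.mul_le_mul hhalf hhalf]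
  have hcz : commutator G = Subgroup.center G :=
    le_antisymm (hCW.trans hWc) (hZ.trans (hWeq ▸ hWC))
  refine ⟨hG, le_antisymm ?_ ?_, hcz⟩
  · -- the quotient by `W` is elementary abelian
    refine le_trans ?_ hWc
    intro x hx
    by_contra hxW
    have hWn : W.Normal := ⟨fun w hw g => by
      rw [Subgroup.mem_center_iff.1 (hWc hw) g, mul_inv_cancel_right]; exact hw⟩
    obtain ⟨M, ⟨hWM, hxM⟩, hmax⟩ := Set.Finite.exists_maximal
      (s := {M : Subgroup G | W ≤ M ∧ x ∉ M}) (Set.toFinite _) ⟨W, le_rfl, hxW⟩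
    have hMn : ∀ g : G, Subgroup.zpowers g ≤ Subgroup.normalizer (M : Set G) := fun g => by
      rw [Subgroup.zpowers_le, Subgroup.mem_normalizer_iff]
      intro h
      have e : g * h * g⁻¹ = ⁅g, h⁆ * h := by simp [commutatorElement_def, mul_assoc]
      rw [e, mul_mem_cancel_left (hWM (hcW g h))]
    have hco : IsCoatom M := by
      refine ⟨fun h => hxM (h ▸ Subgroup.mem_top x), fun M' hlt => ?_⟩
      have hxM' : x ∈ M' := by
        by_contra h
        exact hlt.not_ge (hmax ⟨hWM.trans hlt.le, h⟩ hlt.le)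
      refine eq_top_iff.2 fun g _ => ?_
      by_cases hgM : g ∈ M
      · exact hlt.le hgM
      have hxg : x ∈ Subgroup.zpowers g ⊔ M := by
        by_contra h
        exact hgM (hmax ⟨hWM.trans le_sup_right, h⟩ le_sup_right
          (Subgroup.mem_sup_left (Subgroup.mem_zpowers g)))
      rw [← SetLike.mem_coe, Subgroup.coe_mul_of_left_le_normalizer_right _ _ (hMn g)] at hxg
      obtain ⟨c, ⟨k, rfl⟩, m, hm, e⟩ := hxg
      rcases Int.even_or_odd' k with ⟨j, rfl | rfl⟩
      · refine absurd ?_ hxM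
        rw [← e]
        show g ^ (2 * j) * m ∈ M
        rw [zpow_mul, zpow_ofNat]
        exact mul_mem (zpow_mem (hWM (hsq g)) j) hm
      · have e2 : g = ((g ^ 2) ^ j)⁻¹ * (x * m⁻¹) := by
          rw [← e]
          show g = ((g ^ 2) ^ j)⁻¹ * (g ^ (2 * j + 1) * m * m⁻¹)
          rw [mul_inv_cancel_right, zpow_add, zpow_mul, zpow_ofNat, zpow_one, inv_mul_cancel_left]
        rw [e2]
        exact mul_mem (inv_mem (hlt.le (zpow_mem (hWM (hsq g)) j)))
          (mul_mem hxM' (inv_mem (hlt.le hm)))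
    exact hxM ((frattini_le_coatom hco) hx)
  · rw [← hcz]
    exact CfsgLib.PGroup.commutator_le_frattini (p := 2) hG

end Cfsg.Agent.S3773
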