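import Cfsg.Statements.S3774
import Mathlib

set_option autoImplicit false
open Cfsg

namespace Cfsg.Agent.S3774



/-- Let G be a nontrivial finite 2-group whose automorphism group permutes the involutions of G transitively. Then every involution of G is central, so that the involutions together with 1 form the subgroup Ω₁(Z(G)), and if this subgroup has order q then |G| is a power of q. -/
theorem result {G : Type*} [Group G] [Finite G] [Nontrivial G] (hG : IsPGroup 2 G) (htrans : ∀ x y : G, x ≠ 1 → x ^ 2 = 1 → y ≠ 1 → y ^ 2 = 1 → ∃ a : MulAut G, a x = y) : (∀ x : G, x ^ 2 = 1 → x ∈ Subgroup.center G) ∧ ∃ m : ℕ, Nat.card G = Nat.card {z : G // z ^ 2 = 1} ^ m := by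
  have hp : Fact (Nat.Prime 2) := ⟨Nat.prime_two⟩
  have hc : Nontrivial (Subgroup.center G) := hG.center_nontrivial
  obtain ⟨z, hz⟩ : ∃ z : Subgroup.center G, orderOf z = 2 := by
    have hZ := hG.to_subgroup (Subgroup.center G)
    obtain ⟨k, hk, hcard⟩ := hZ.nontrivial_iff_card.1 hc
    exact exists_prime_orderOf_dvd_card' 2 (by rw [hcard]; exact dvd_pow_self _ (by omega))
  have hz1 : (z : G) ≠ 1 := by
    intro h
    have : z = 1 := Subtype.ext h
    simp [this] at hz
  have hz2 : (z : G) ^ 2 = 1 := by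
    have := pow_orderOf_eq_one z
    rw [hz] at this
    simpa using congrArg Subtype.val this
  have hcent : ∀ x : G, x ^ 2 = 1 → x ∈ Subgroup.center G := by
    intro x hx
    rcases eq_or_ne x 1 with rfl | hx1
    · exact one_mem _
    obtain ⟨a, rfl⟩ := htrans z x hz1 hz2 hx1 hx
    rw [Subgroup.mem_center_iff]
    intro g
    obtain ⟨y, rfl⟩ := a.surjective g
    rw [← map_mul, ← map_mul, Subgroup.mem_center_iff.1 z.2 y]
  refine ⟨hcent, ?_⟩
  let Ω : Subgroup G :=
    { carrier := {x | x ^ 2 = 1}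
      one_mem' := one_pow 2
      mul_mem' := fun {a b} ha hb => by
        show (a * b) ^ 2 = 1
        have : Commute a b := (Subgroup.mem_center_iff.1 (hcent a ha) b).symm
        rw [this.mul_pow, ha, hb, mul_one]
      inv_mem' := fun {a} ha => by
        show a⁻¹ ^ 2 = 1
        rw [inv_pow, ha, inv_one] }
  obtain ⟨k, hk⟩ := (hG.to_subgroup Ω).exists_card_eq
  obtain ⟨N, hN⟩ := hG.exists_card_eq
  have hT : Nat.card {z : G // z ^ 2 = 1} = 2 ^ k := hk
  have hk0 : k ≠ 0 := by
    intro h0
    rw [h0, pow_zero, Subgroup.card_eq_one] at hk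
    have : (z : G) ∈ Ω := hz2
    rw [hk, Subgroup.mem_bot] at this
    exact hz1 this
  classical
  have := Fintype.ofFinite G
  let I : Finset G := Finset.univ.filter (fun x => x ≠ 1 ∧ x ^ 2 = 1)
  have hI : I.card = 2 ^ k - 1 := by
    have h1 : (Finset.univ.filter (fun x : G => x ^ 2 = 1)) = insert 1 I := by
      ext x
      rcases eq_or_ne x 1 with rfl | hx <;> simp [I, *]
    have h2 : (Finset.univ.filter (fun x : G => x ^ 2 = 1)).card = 2 ^ k := by
      rw [← hT, Nat.card_eq_fintype_card, Fintype.card_subtype]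
    rw [h1, Finset.card_insert_of_notMem (by simp [I])] at h2
    omega
  let f : G → G := fun g => g ^ (orderOf g / 2)
  have hf : ∀ g : G, g ≠ 1 → f g ∈ I := by
    intro g hg
    obtain ⟨m, hm⟩ := hG g
    have hdvd : orderOf g ∣ 2 ^ m := orderOf_dvd_of_pow_eq_one hm
    obtain ⟨j, -, hj⟩ := (Nat.dvd_prime_pow Nat.prime_two).1 hdvd
    have hj0 : j ≠ 0 := by
      intro h0
      rw [h0, pow_zero, orderOf_eq_one_iff] at hj
      exact hg hj
    obtain ⟨i, rfl⟩ := Nat.exists_eq_succ_of_ne_zero hj0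
    have hdiv : orderOf g / 2 = 2 ^ i := by rw [hj, pow_succ, Nat.mul_div_cancel _ (by norm_num)]
    simp only [I, f, Finset.mem_filter, Finset.mem_univ, true_and, hdiv]
    refine ⟨fun h => ?_, ?_⟩
    · have := Nat.le_of_dvd (by positivity) (orderOf_dvd_of_pow_eq_one h)
      rw [hj, pow_succ] at this
      have : 0 < 2 ^ i := by positivity
      omega
    · rw [← pow_mul, ← pow_succ, ← hj, pow_orderOf_eq_one]
  let S : Finset G := Finset.univ.erase 1
  obtain ⟨i₀, hi₀⟩ : I.Nonempty := ⟨z, by simp [I, hz1, hz2]⟩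
  have hfib : ∀ i ∈ I, (S.filter (fun g => f g = i)).card = (S.filter (fun g => f g = i₀)).card := by
    intro i hi
    simp only [I, Finset.mem_filter, Finset.mem_univ, true_and] at hi hi₀
    obtain ⟨a, ha⟩ := htrans i₀ i hi₀.1 hi₀.2 hi.1 hi.2
    have hfa : ∀ g, f (a g) = a (f g) := fun g => by
      simp only [f, map_pow, MulEquiv.orderOf_eq]
    symm
    refine Finset.card_bij' (fun g _ => a g) (fun g _ => a.symm g) ?_ ?_
      (fun g _ => a.symm_apply_apply g) (fun g _ => a.apply_symm_apply g)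
    · intro g hg
      simp only [S, Finset.mem_filter, Finset.mem_erase, Finset.mem_univ, and_true] at hg ⊢
      exact ⟨by simpa using hg.1, by rw [hfa, hg.2, ha]⟩
    · intro g hg
      simp only [S, Finset.mem_filter, Finset.mem_erase, Finset.mem_univ, and_true] at hg ⊢
      refine ⟨by simpa using hg.1, a.injective ?_⟩
      rw [← hfa, a.apply_symm_apply, hg.2, ha]
  have hsum := Finset.card_eq_sum_card_fiberwise (f := f) (s := S) (t := I)
    (fun g hg => hf g (Finset.ne_of_mem_erase hg))
  rw [Finset.sum_congr rfl hfib, Finset.sum_const, hI, smul_eq_mul] at hsum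
  have hS : S.card = 2 ^ N - 1 := by
    rw [Finset.card_erase_of_mem (Finset.mem_univ 1), Finset.card_univ, ← Nat.card_eq_fintype_card, hN]
  have hdvd : (2 ^ k - 1) ∣ (2 ^ N - 1) := ⟨_, hS ▸ hsum⟩
  have hmod := Nat.mod_eq_zero_of_dvd hdvd
  rw [Nat.pow_sub_one_mod_pow_sub_one] at hmod
  have hNk : N % k = 0 := by
    by_contra hne
    have : 2 ≤ 2 ^ (N % k) := Nat.le_self_pow hne 2
    omega
  obtain ⟨m, rfl⟩ := Nat.dvd_of_mod_eq_zero hNk
  exact ⟨m, by rw [hN, hT, pow_mul]⟩

end Cfsg.Agent.S3774
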