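import Cfsg.Statements.S3775
import Cfsg.Agent.Lib.Solvable.AbelianModule

set_option autoImplicit false
open Cfsg

namespace Cfsg.Agent.S3775

/-- Let A be a finite abelian p-group and X a group of automorphisms of A of order prime to p. Call a subgroup of A invariant when every element of X maps it onto itself. Then the following are equivalent: (i) A is not the direct product of two nontrivial invariant subgroups; (ii) every invariant subgroup of A is one of the subgroups Ω_i(A) = {a : a^(p^i) = 1}; (iii) the subgroup Ω₁(A) of elements of order dividing p has no invariant subgroups other than 1 and itself. -/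
theorem result {A : Type*} [CommGroup A] [Finite A] {p : ℕ} [Fact p.Prime] (hA : IsPGroup p A) (X : Subgroup (MulAut A)) (hX : (Nat.card X).Coprime p) : ((¬ ∃ B C : Subgroup A, B ≠ ⊥ ∧ C ≠ ⊥ ∧ (∀ x ∈ X, B.map x.toMonoidHom = B) ∧ (∀ x ∈ X, C.map x.toMonoidHom = C) ∧ B ⊓ C = ⊥ ∧ B ⊔ C = ⊤) ↔ (∀ B : Subgroup A, (∀ x ∈ X, B.map x.toMonoidHom = B) → ∃ i : ℕ, ∀ a : A, a ∈ B ↔ a ^ p ^ i = 1)) ∧ ((∀ B : Subgroup A, (∀ x ∈ X, B.map x.toMonoidHom = B) → ∃ i : ℕ, ∀ a : A, a ∈ B ↔ a ^ p ^ i = 1) ↔ (∀ B : Subgroup A, (∀ x ∈ X, B.map x.toMonoidHom = B) → (∀ b ∈ B, b ^ p = 1) → B = ⊥ ∨ ∀ a : A, a ∈ B ↔ a ^ p = 1)) := by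
  simp only [← CfsgLib.Solvable.AbelianModule.inv_iff]
  obtain ⟨N, hN⟩ := IsPGroup.iff_card.mp hA
  have h23 : ∀ (h : ∀ B : Subgroup A, CfsgLib.Solvable.AbelianModule.Inv X B → (∀ b ∈ B, b ^ p = 1) →
      B = ⊥ ∨ ∀ a : A, a ∈ B ↔ a ^ p = 1) (B : Subgroup A),
      CfsgLib.Solvable.AbelianModule.Inv X B → ∃ i : ℕ, ∀ a : A, a ∈ B ↔ a ^ p ^ i = 1 :=
    fun h B hB => CfsgLib.Solvable.AbelianModule.eq_omega_of_irreducible h N B hB
      fun b _ => by rw [← hN, pow_card_eq_one']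
  refine ⟨⟨fun hnd => h23 fun B hB hBp => ?_, ?_⟩, ⟨fun h B hB hBp => ?_, h23⟩⟩
  · by_contra hc
    simp only [not_or] at hc
    exact hnd (CfsgLib.Solvable.AbelianModule.exists_decomposition hA hX hB hBp hc.1 hc.2)
  · rintro h ⟨B, C, hB1, hC1, hB, hC, hinf, -⟩
    obtain ⟨i, hi⟩ := h B hB
    obtain ⟨j, hj⟩ := h C hC
    rcases le_total i j with hij | hij
    · refine hB1 (le_bot_iff.mp (hinf ▸ le_inf le_rfl fun a ha => (hj a).mpr ?_))
      obtain ⟨d, rfl⟩ := Nat.exists_eq_add_of_le hij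
      rw [pow_add, pow_mul, (hi a).mp ha, one_pow]
    · refine hC1 (le_bot_iff.mp (hinf ▸ le_inf (fun a ha => (hi a).mpr ?_) le_rfl))
      obtain ⟨d, rfl⟩ := Nat.exists_eq_add_of_le hij
      rw [pow_add, pow_mul, (hj a).mp ha, one_pow]
  · obtain ⟨i, hi⟩ := h B hB
    rcases Nat.eq_zero_or_pos i with rfl | hpos
    · exact Or.inl ((Subgroup.eq_bot_iff_forall B).mpr fun b hb => by simpa using (hi b).mp hb)
    · refine Or.inr fun a => ⟨hBp a, fun ha => (hi a).mpr ?_⟩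
      obtain ⟨d, rfl⟩ := Nat.exists_eq_succ_of_ne_zero hpos.ne'
      rw [pow_succ', pow_mul, ha, one_pow]

end Cfsg.Agent.S3775
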