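import Cfsg.Statements.S3776
import Cfsg.Agent.Lib.FGS68.SuzukiStructure

set_option autoImplicit false
open Cfsg
open scoped commutatorElement

namespace Cfsg.Agent.S3776

/-- Let G be a finite non-abelian 2-group with more than one involution admitting a solvable group of automorphisms that permutes its involutions transitively. Then the derived subgroup, the Frattini subgroup and the centre of G coincide and consist exactly of the elements x with x² = 1. -/
theorem result {G : Type*} [Group G] [Finite G] (hG : IsPGroup 2 G) (hna : ¬ IsMulCommutative G) (htwo : ∃ x y : G, x ≠ y ∧ x ≠ 1 ∧ x ^ 2 = 1 ∧ y ≠ 1 ∧ y ^ 2 = 1) (hY : ∃ Y : Subgroup (MulAut G), Group.IsSolvable Y ∧ ∀ x y : G, x ≠ 1 → x ^ 2 = 1 → y ≠ 1 → y ^ 2 = 1 → ∃ a ∈ Y, a x = y) : commutator G = frattini G ∧ frattini G = Subgroup.center G ∧ ∀ x : G, x ∈ Subgroup.center G ↔ x ^ 2 = 1 := by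
  haveI : Fact (Nat.Prime 2) := ⟨Nat.prime_two⟩
  obtain ⟨Y, hYs, hYt⟩ := hY
  have hR : CfsgLib.FGS68.SuzukiGen.TransInv Y :=
    ⟨inferInstance, hG, by
      obtain ⟨x, y, h1, h2, h3, h4, h5⟩ := htwo
      exact ⟨x, y, h1, h2, by rw [← sq]; exact h3, h4, by rw [← sq]; exact h5⟩, hYs,
      fun x y h1 h2 h3 h4 => hYt x y h1 (by rw [sq]; exact h2) h3 (by rw [sq]; exact h4)⟩
  have hna' : ∃ x y : G, x * y ≠ y * x := by
    by_contra h
    push Not at h
    exact hna ⟨⟨h⟩⟩
  obtain ⟨hsq, hcomm, hcen⟩ := CfsgLib.FGS68.SuzukiGen.structure_theorem hR hna'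
  have hcom_le : commutator G ≤ Subgroup.center G := by
    rw [commutator_def, Subgroup.commutator_le]
    exact fun g _ h _ => (hcomm g h).1
  have hfrat_le : frattini G ≤ Subgroup.center G :=
    CfsgLib.PGroup.frattini_le_of_elementary (p := 2) (fun x y => (hcomm x y).1)
      (fun x => by rw [sq]; exact (hsq x).1)
  have hcom_frat : commutator G ≤ frattini G := CfsgLib.PGroup.commutator_le_frattini hG
  have hcen_com : Subgroup.center G ≤ commutator G := by
    obtain ⟨x, y, hxy⟩ := hna'
    have hne : ⁅x, y⁆ ≠ 1 := fun h => hxy (commutatorElement_eq_one_iff_mul_comm.1 h)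
    have hmem : ⁅x, y⁆ ∈ commutator G := by
      rw [commutator_def]
      exact Subgroup.commutator_mem_commutator (Subgroup.mem_top _) (Subgroup.mem_top _)
    have hinv : CfsgLib.SuzukiTwo.KInv Y (commutator G) := by
      intro k _ z hz
      have h1 : (commutator G).map k.toMonoidHom ≤ commutator G := by
        rw [commutator_def, Subgroup.map_commutator]
        exact Subgroup.commutator_mono le_top le_top
      exact h1 ⟨z, hz, rfl⟩
    intro z hz
    exact CfsgLib.FGS68.SuzukiGen.omega_le hR hinv hmem hne ⟨hz, (hcen z).1 hz⟩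
  refine ⟨le_antisymm hcom_frat (hfrat_le.trans hcen_com), le_antisymm hfrat_le (hcen_com.trans hcom_frat),
    fun x => ?_⟩
  rw [sq]
  exact hcen x

end Cfsg.Agent.S3776
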