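import Cfsg.Statements.S3783
import Cfsg.Agent.Lib.FGS68.PLength

set_option autoImplicit false
open Cfsg

namespace Cfsg.Agent.S3783

/-- Let G be a finite p-soluble group in which, for every prime q ≠ p, the Sylow q-subgroups are abelian. If the Sylow p-subgroups of G have exponent dividing p^n, then G has p-length at most n. -/
theorem result {G : Type*} [Group G] [Finite G] {p : ℕ} [Fact p.Prime] (hG : Cfsg.IsPSolvable p G) (hab : ∀ (q : ℕ) [Fact q.Prime], q ≠ p → ∀ Q : Sylow q G, IsMulCommutative (Q : Subgroup G)) (n : ℕ) (hexp : ∀ (P : Sylow p G), ∀ x ∈ (P : Subgroup G), x ^ p ^ n = 1) : Cfsg.PLengthLE p n G := by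
  suffices key : ∀ n, ∀ (G : Type u_1) [Group G] [Finite G], Cfsg.IsPSolvable p G →
      (∀ (q : ℕ) [Fact q.Prime], q ≠ p → ∀ Q : Sylow q G, IsMulCommutative (Q : Subgroup G)) →
      CfsgLib.FGS68.ExpLE p n G → Cfsg.PLengthLE p n G from
    key n G hG hab (CfsgLib.FGS68.expLE_of_sylow hexp)
  intro n
  induction n with
  | zero =>
    intro G _ _ _ _ he
    exact CfsgLib.FGS68.pLengthLE_zero_of_not_dvd (CfsgLib.FGS68.not_dvd_card_of_expLE_zero he)
  | succ n ih =>
    intro G _ _ hG hab he
    have habq : ∀ (N : Subgroup G) [N.Normal] (q : ℕ) [Fact q.Prime], q ≠ p →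
        ∀ Q : Sylow q (G ⧸ N), IsMulCommutative (Q : Subgroup (G ⧸ N)) := by
      intro N _ q _ hq Q
      obtain ⟨S, rfl⟩ := Sylow.mapSurjective_surjective (QuotientGroup.mk'_surjective N) q Q
      haveI := hab q hq S
      rw [Sylow.coe_mapSurjective]
      infer_instance
    haveI : (Cfsg.pPrimeCore p G).Normal := CfsgLib.Solvable.pPrimeCore_normal p G
    haveI : (Cfsg.pPrimePCore p G).Normal := by
      have := CfsgLib.Solvable.pCore_normal (p := p) (G ⧸ Cfsg.pPrimeCore p G)
      exact this.comap _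
    refine CfsgLib.FGS68.pLengthLE_succ (ih _ (CfsgLib.PLoc.isPSolvable_of_surjective
      (QuotientGroup.mk'_surjective _) hG) (habq _) ?_)
    refine CfsgLib.FGS68.expLE_pred (n := n + 1) (by omega) he (CfsgLib.FGS68.regularCond_of_abelian
      (CfsgLib.PLoc.isPSolvable_of_surjective (QuotientGroup.mk'_surjective _) hG)
      (CfsgLib.PLoc.pPrimeCore_quotient_eq_bot (QuotientGroup.mk'_surjective _) (QuotientGroup.ker_mk' _))
      (habq _) (n + 1) (by omega))


end Cfsg.Agent.S3783
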