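import Cfsg.Statements.S3784
import Mathlib

set_option autoImplicit false
open Cfsg

namespace Cfsg.Agent.S3784



/-- Let p, q be primes and a, b positive integers with p^a = q^b + 1. Then either p = 2, b = 1, a is prime and q = 2^a − 1; or q = 2, a = 1, b is a power of 2 and p = 2^b + 1; or p^a = 9 and q^b = 8. -/
theorem result (p q a b : ℕ) (hp : p.Prime) (hq : q.Prime) (ha : 1 ≤ a) (hb : 1 ≤ b) (h : p ^ a = q ^ b + 1) : (p = 2 ∧ b = 1 ∧ a.Prime ∧ q + 1 = 2 ^ a) ∨ (q = 2 ∧ a = 1 ∧ (∃ m : ℕ, b = 2 ^ m) ∧ p = 2 ^ b + 1) ∨ (p ^ a = 9 ∧ q ^ b = 8) := by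
  rcases hp.eq_two_or_odd' with rfl | hpodd
  · left
    have hqodd : Odd q := by
      rcases hq.eq_two_or_odd' with rfl | h'
      · have h1 : 2 ∣ 2 ^ a := dvd_pow_self 2 (by omega)
        have h2 : 2 ∣ 2 ^ b := dvd_pow_self 2 (by omega)
        omega
      · exact h'
    have hq3 : 3 ≤ q := by
      obtain ⟨c, rfl⟩ := hqodd
      have := hq.two_le
      omega
    have hbodd : Odd b := by
      by_contra hev
      rw [Nat.not_odd_iff_even] at hev
      obtain ⟨c, rfl⟩ := hev
      obtain ⟨d, hd⟩ := (hqodd.pow (n := c))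
      have hsq : q ^ (c + c) + 1 = 4 * (d * d + d) + 2 := by rw [pow_add, hd]; ring
      have h3 : 3 ≤ q ^ (c + c) := hq3.trans (Nat.le_self_pow (by omega) q)
      obtain ⟨e, rfl⟩ : ∃ e, a = e + 2 := ⟨a - 2, by
        have : a ≠ 1 := by rintro rfl; omega
        omega⟩
      rw [pow_add] at h
      omega
    have hb1 : b = 1 := by
      by_contra hne
      have hid : ((q : ℤ) + 1) * ∑ i ∈ Finset.range b, (-(q : ℤ)) ^ i = (q : ℤ) ^ b + 1 := by
        have := geom_sum_mul (-(q : ℤ)) b
        rw [hbodd.neg_pow] at this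
        linarith
      have hS : Odd (∑ i ∈ Finset.range b, (-(q : ℤ)) ^ i) := by
        have : ∀ n, Odd (∑ i ∈ Finset.range n, (-(q : ℤ)) ^ i) ↔ Odd n := by
          intro n
          induction n with
          | zero => simp
          | succ n ih =>
            have hh : Odd ((-(q : ℤ)) ^ n) := ((Int.odd_coe_nat q).2 hqodd).neg.pow
            rw [Finset.sum_range_succ, Int.odd_add, ← Int.not_odd_iff_even, Nat.odd_add_one, ← ih]
            tauto
        exact (this b).2 hbodd
      set T := ∑ i ∈ Finset.range b, (-(q : ℤ)) ^ i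
      have hdvd : T.natAbs ∣ 2 ^ a := by
        refine Int.natCast_dvd_natCast.1 ?_
        rw [Int.natAbs_dvd]
        refine ⟨(q : ℤ) + 1, ?_⟩
        rw [mul_comm, hid]
        exact_mod_cast h
      obtain ⟨j, -, hj⟩ := (Nat.dvd_prime_pow Nat.prime_two).1 hdvd
      have hodd : Odd T.natAbs := Int.natAbs_odd.2 hS
      rcases eq_or_ne j 0 with rfl | hj0
      · rw [pow_zero] at hj
        have h5 : q ^ 2 ≤ q ^ b := Nat.pow_le_pow_right hq.pos (by omega)
        have h6 : (q : ℤ) ^ b + 1 ≤ (q : ℤ) + 1 := by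
          rcases Int.natAbs_eq_iff.1 hj with h7 | h7 <;> rw [h7] at hid <;> push_cast at hid <;>
            nlinarith [pow_nonneg (Int.natCast_nonneg q) b]
        have h8 : q ^ b ≤ q := by
          have : (q : ℤ) ^ b ≤ q := by linarith
          exact_mod_cast this
        nlinarith
      · rw [hj] at hodd
        exact Nat.not_even_iff_odd.2 hodd (Nat.even_pow.2 ⟨even_two, hj0⟩)
    subst hb1
    rw [pow_one] at h
    have ha1 : a ≠ 1 := by rintro rfl; omega
    refine ⟨rfl, rfl, ?_, h.symm⟩
    exact (Nat.prime_of_pow_sub_one_prime ha1 (a := 2) (by rw [h]; simpa using hq)).2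
  · right
    have hqeven : q = 2 := by
      rcases hq.eq_two_or_odd' with rfl | h'
      · rfl
      · have h1 := (hpodd.pow (n := a))
        have h2 := (h'.pow (n := b))
        obtain ⟨c, hc⟩ := h1
        obtain ⟨d, hd⟩ := h2
        omega
    subst hqeven
    rcases Nat.even_or_odd a with hae | hao
    · right
      obtain ⟨c, rfl⟩ := hae
      obtain ⟨d, hd⟩ : ∃ d, p ^ c = d + 1 :=
        ⟨p ^ c - 1, (Nat.sub_add_cancel (Nat.one_le_pow _ _ hp.pos)).symm⟩
      have hmul : d * (d + 2) = 2 ^ b := by
        rw [pow_add, hd] at h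
        linarith
      obtain ⟨i, -, hi⟩ := (Nat.dvd_prime_pow Nat.prime_two).1 (Dvd.intro _ hmul)
      obtain ⟨j, -, hj⟩ := (Nat.dvd_prime_pow Nat.prime_two).1 (Dvd.intro_left _ hmul)
      have hc0 : c ≠ 0 := by omega
      have hd2 : d = 2 := by
        have hp3 : 3 ≤ d + 1 := by
          rw [← hd]
          obtain ⟨k, rfl⟩ := hpodd
          have := hp.two_le
          exact le_trans (by omega) (Nat.le_self_pow hc0 _)
        rcases i with _ | _ | i
        · rw [pow_zero] at hi; omega
        · simpa using hi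
        · rcases j with _ | _ | j
          · rw [pow_zero] at hj; omega
          · rw [zero_add, pow_one] at hj; omega
          · rw [pow_add] at hi hj; omega
      subst hd2
      have h9 : p ^ (c + c) = 9 := by norm_num [pow_add, hd]
      omega
    · left
      have ha1 : a = 1 := by
        by_contra hne
        have hid : (∑ i ∈ Finset.range a, p ^ i) * (p - 1) = 2 ^ b := by
          have := Nat.geomSum_eq hp.two_le a
          have hdiv := Nat.sub_one_dvd_pow_sub_one p a
          rw [this, Nat.div_mul_cancel hdiv, h]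
          simp
        obtain ⟨j, -, hj⟩ := (Nat.dvd_prime_pow Nat.prime_two).1 (Dvd.intro _ hid)
        have hS : Odd (∑ i ∈ Finset.range a, p ^ i) := by
          rw [← Nat.not_even_iff_odd, Finset.even_sum_iff_even_card_odd,
            Finset.filter_true_of_mem (fun i _ => hpodd.pow), Finset.card_range, Nat.not_even_iff_odd]
          exact hao
        rcases eq_or_ne j 0 with rfl | hj0
        · rw [pow_zero] at hj
          have h2 : ∑ i ∈ Finset.range 2, p ^ i ≤ ∑ i ∈ Finset.range a, p ^ i :=
            Finset.sum_le_sum_of_subset (Finset.range_subset_range.2 (by omega))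
          simp [Finset.sum_range_succ] at h2
          have := hp.two_le
          omega
        · rw [hj] at hS
          exact Nat.not_even_iff_odd.2 hS (Nat.even_pow.2 ⟨even_two, hj0⟩)
      subst ha1
      rw [pow_one] at h
      refine ⟨rfl, rfl, ?_, h⟩
      exact Nat.pow_of_pow_add_prime (a := 2) (by norm_num) (by omega) (h ▸ hp)

end Cfsg.Agent.S3784
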