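import Cfsg.Statements.S3785
import Cfsg.Agent.Lib.FGS68.ChiefCentral
import Cfsg.Agent.Lib.OddOrder.OmegaFix
import Cfsg.Agent.Lib.Solvable.Core
import Mathlib

set_option autoImplicit false
open Cfsg

namespace Cfsg.Agent.S3785

/-- Let G be a finite solvable group whose Fitting subgroup F(G) has odd order. If an element g of G commutes with every element of prime order of F(G), then g ∈ F(G). -/
theorem result {G : Type*} [Group G] [Finite G] (hG : Group.IsSolvable G) (hodd : Odd (Nat.card (Cfsg.fittingSubgroup G))) (g : G) (hg : ∀ x ∈ Cfsg.fittingSubgroup G, (orderOf x).Prime → g * x = x * g) : g ∈ Cfsg.fittingSubgroup G := by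
  haveI := hG
  classical
  set F := Cfsg.fittingSubgroup G
  have hFn : F.Normal := CfsgLib.Solvable.fittingSubgroup_normal G
  have hFnil : Group.IsNilpotent F := CfsgLib.Solvable.fittingSubgroup_isNilpotent G
  let C : Subgroup G := Subgroup.centralizer {x : G | x ∈ F ∧ (orderOf x).Prime}
  have hgC : g ∈ C := Subgroup.mem_centralizer_iff.2 fun x hx => (hg x hx.1 hx.2).symm
  have hCn : C.Normal := ⟨fun c hc a => Subgroup.mem_centralizer_iff.2 fun x hx => by
    have hx' : a⁻¹ * x * a ∈ {x : G | x ∈ F ∧ (orderOf x).Prime} := by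
      refine ⟨by simpa using hFn.conj_mem x hx.1 a⁻¹, ?_⟩
      have : orderOf (a⁻¹ * x * a) = orderOf x := by
        simpa using MulEquiv.orderOf_eq (MulAut.conj a⁻¹) x
      rw [this]
      exact hx.2
    have h := Subgroup.mem_centralizer_iff.1 hc _ hx'
    calc x * (a * c * a⁻¹) = a * ((a⁻¹ * x * a) * c) * a⁻¹ := by group
      _ = a * (c * (a⁻¹ * x * a)) * a⁻¹ := by rw [h]
      _ = _ := by group⟩
  -- elements of order prime to `p` centralise `O_p`
  have hfix : ∀ p : ℕ, p.Prime → ∀ c ∈ C, (orderOf c).Coprime p → ∀ x ∈ Cfsg.pCore p G, Commute c x := by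
    intro p hp c hc hco x hx
    haveI := Fact.mk hp
    rcases eq_or_ne (Cfsg.pCore p G) ⊥ with hb | hb
    · rw [hb, Subgroup.mem_bot] at hx
      rw [hx]; exact Commute.one_right c
    have hPF : Cfsg.pCore p G ≤ F := CfsgLib.Solvable.pCore_le_fittingSubgroup
    have hPn : (Cfsg.pCore p G).Normal := CfsgLib.Solvable.pCore_normal (p := p) G
    have hp2 : p ≠ 2 := by
      rintro rfl
      obtain ⟨k, hk⟩ := (CfsgLib.Solvable.pCore_isPGroup (p := 2) G).exists_card_eq
      have hk0 : k ≠ 0 := fun h => hb (Subgroup.card_eq_one.1 (by rw [hk, h, pow_zero]))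
      have h2 : 2 ∣ Nat.card F :=
        ((dvd_pow_self 2 hk0).trans hk.symm.dvd).trans (Subgroup.card_dvd_of_le hPF)
      exact (Nat.not_even_iff_odd.2 hodd) (even_iff_two_dvd.2 h2)
    refine CfsgLib.OddOrder.commute_of_fix_pow_eq_one hp2 _ (CfsgLib.Solvable.pCore_isPGroup (p := p) G)
      (Subgroup.le_normalizer_of_normal (Subgroup.mem_top c)) hco (fun y hy hyp => ?_) x hx
    rcases eq_or_ne y 1 with rfl | hy1
    · exact Commute.one_right c
    · exact (Subgroup.mem_centralizer_iff.1 hc y ⟨hPF hy, by rw [orderOf_eq_prime hyp hy1]; exact hp⟩).symm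
  refine CfsgLib.FGS68.mem_of_centralizes_chief F ⊤
    (fun D hD _ hnil => CfsgLib.Solvable.le_fittingSubgroup hD hnil) trivial ?_
  intro U V hUV hUF u hu
  exact CfsgLib.FGS68.centralizes_chief_of_coprime_fix C U V hUV
    (Group.nilpotent_of_mulEquiv (Subgroup.subgroupOfEquivOfLe hUF)) hfix hgC hu

end Cfsg.Agent.S3785
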