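import Cfsg.Statements.S3788
import Cfsg.Agent.Lib.FGS68.CyclicNormal

set_option autoImplicit false
open Cfsg
open scoped commutatorElement

namespace Cfsg.Agent.S3788

/-- Let G be a finite p-soluble group, P a Sylow p-subgroup of G and A a cyclic normal subgroup of P. If p is odd, or if no section of G is isomorphic to the symmetric group of degree 4, then A ≤ O_{p',p}(G). -/
theorem result {G : Type*} [Group G] [Finite G] {p : ℕ} [Fact p.Prime] (hG : Cfsg.IsPSolvable p G) (P : Sylow p G) (A : Subgroup G) (hAP : A ≤ (P : Subgroup G)) (hAn : (P : Subgroup G) ≤ Subgroup.normalizer (A : Set G)) (hA : IsCyclic A) (h : p ≠ 2 ∨ ¬ Cfsg.Involves (Equiv.Perm (Fin 4)) G) : A ≤ Cfsg.pPrimePCore p G := by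
  classical
  haveI : (Cfsg.pPrimeCore p G).Normal := CfsgLib.Solvable.pPrimeCore_normal p G
  let K := G ⧸ Cfsg.pPrimeCore p G
  set π₁ := QuotientGroup.mk' (Cfsg.pPrimeCore p G)
  have hsolK : Cfsg.IsPSolvable p K := CfsgLib.PLoc.isPSolvable_of_surjective (QuotientGroup.mk'_surjective _) hG
  have hOK : Cfsg.pPrimeCore p K = ⊥ :=
    CfsgLib.PLoc.pPrimeCore_quotient_eq_bot (QuotientGroup.mk'_surjective _) (QuotientGroup.ker_mk' _)
  set P₀ := Cfsg.pCore p K
  haveI hP₀n : P₀.Normal := CfsgLib.Solvable.pCore_normal (p := p) K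
  have hP₀p : IsPGroup p P₀ := CfsgLib.Solvable.pCore_isPGroup (p := p) K
  haveI := hP₀p.isNilpotent
  set N := (frattini ↥P₀).map P₀.subtype
  haveI hNn : N.Normal := by infer_instance
  have hNP : N ≤ P₀ := Subgroup.map_subtype_le _
  set π := QuotientGroup.mk' N
  have hπ : Function.Surjective π := QuotientGroup.mk'_surjective N
  set V := P₀.map π with hVdef
  haveI hVn : V.Normal := hP₀n.map π hπ
  have hVcomap : V.comap π = P₀ := by
    rw [hVdef, Subgroup.comap_map_eq, QuotientGroup.ker_mk', sup_eq_left.2 hNP]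
  have hVp : ∀ v ∈ V, v ^ p = 1 := by
    rintro _ ⟨v, hv, rfl⟩
    rw [← map_pow]
    exact (QuotientGroup.eq_one_iff _).2 ⟨_, CfsgLib.Transfer.pow_mem_frattini hP₀p ⟨v, hv⟩, rfl⟩
  have hVab : IsMulCommutative V := IsMulCommutative.of_comm fun u w => Subtype.ext (by
    obtain ⟨u', hu', hu⟩ := u.2
    obtain ⟨w', hw', hw⟩ := w.2
    show (u : K ⧸ N) * w = w * u
    rw [← hu, ← hw, ← commutatorElement_eq_one_iff_mul_comm, ← map_commutatorElement]
    exact (QuotientGroup.eq_one_iff _).2 ⟨⁅(⟨u', hu'⟩ : P₀), ⟨w', hw'⟩⁆, CfsgLib.Transfer.commutator_le_frattini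
      (Subgroup.commutator_mem_commutator (Subgroup.mem_top _) (Subgroup.mem_top _)), rfl⟩)
  have hC : Subgroup.centralizer (V : Set (K ⧸ N)) ≤ V := by
    set C₀ := (Subgroup.centralizer (V : Set (K ⧸ N))).comap π
    suffices h0 : C₀ ≤ P₀ by
      intro c hc
      obtain ⟨k, rfl⟩ := hπ c
      exact ⟨k, h0 hc, rfl⟩
    haveI : (Subgroup.centralizer (V : Set (K ⧸ N))).Normal := inferInstance
    refine CfsgLib.Solvable.le_pCore inferInstance ?_
    rw [IsPGroup.iff_orderOf]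
    intro g
    obtain ⟨e, m, hm, hem⟩ := Nat.exists_eq_pow_mul_and_not_dvd (orderOf_pos (g : K)).ne' p
      (Fact.out : p.Prime).ne_one
    suffices h0 : (g : K) ^ p ^ e = 1 by
      obtain ⟨b, -, hb⟩ := (Nat.dvd_prime_pow Fact.out).1 (orderOf_dvd_of_pow_eq_one h0)
      exact ⟨b, by rw [← Subgroup.orderOf_coe, hb]⟩
    set g' := (g : K) ^ p ^ e
    have hg' : orderOf g' ∣ m := orderOf_dvd_of_pow_eq_one (by rw [← pow_mul, ← hem, pow_orderOf_eq_one])
    obtain ⟨b, hb⟩ := (hP₀p.to_subgroup (frattini ↥P₀)).exists_card_eq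
    have hpm : p.Coprime m := (Fact.out : p.Prime).coprime_iff_not_dvd.2 hm
    have hcm : (orderOf g').Coprime (p ^ b) :=
      Nat.Coprime.coprime_dvd_left hg' (Nat.Coprime.pow_right b hpm.symm)
    have hcent := CfsgLib.Solvable.le_centralizer_of_trivial_on_frattini_quotient
      (A := Subgroup.zpowers g') (K := P₀) (by rw [Nat.card_zpowers, hb]; exact hcm)
      (fun x hx k hk => by
        have hx' : x ∈ C₀ := (Subgroup.zpowers_le.2 (pow_mem g.2 _)) hx
        have h1 := Subgroup.mem_centralizer_iff.1 hx' (π k) ⟨k, hk, rfl⟩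
        refine (QuotientGroup.eq_one_iff (N := N) _).1 ?_
        show π _ = 1
        simp only [map_mul, map_inv]
        rw [← h1]
        simp) (Subgroup.mem_zpowers g')
    have hgP : g' ∈ P₀ := CfsgLib.PLoc.centralizer_pCore_le_self hsolK hOK hcent
    obtain ⟨f, hf⟩ := IsPGroup.iff_orderOf.1 hP₀p ⟨g', hgP⟩
    rw [Subgroup.orderOf_mk] at hf
    rw [← orderOf_eq_one_iff]
    exact Nat.eq_one_of_dvd_coprimes (Nat.Coprime.pow_left f hpm) hf.dvd hg'
  have hO : Cfsg.pCore p ((K ⧸ N) ⧸ V) = ⊥ := by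
    rw [eq_bot_iff]
    intro b hb
    obtain ⟨c, rfl⟩ := QuotientGroup.mk'_surjective V b
    obtain ⟨k, rfl⟩ := hπ c
    set f := (QuotientGroup.mk' V).comp π
    have hker : f.ker = P₀ := by
      rw [← MonoidHom.comap_ker, QuotientGroup.ker_mk']
      exact hVcomap
    have hle : (Cfsg.pCore p ((K ⧸ N) ⧸ V)).comap f ≤ P₀ := CfsgLib.Solvable.le_pCore
      ((CfsgLib.Solvable.pCore_normal (p := p) _).comap f)
      ((CfsgLib.Solvable.pCore_isPGroup (p := p) _).comap_of_ker_isPGroup f (by rw [hker]; exact hP₀p))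
    exact Subgroup.mem_bot.2 ((QuotientGroup.eq_one_iff _).2 ⟨k, hle hb, rfl⟩)
  set φ := π.comp π₁
  have hφ : Function.Surjective φ := hπ.comp (QuotientGroup.mk'_surjective _)
  obtain ⟨g₀, hg₀⟩ := hA.exists_generator
  suffices hmem : φ (g₀ : G) ∈ V by
    have h1 : π₁ (g₀ : G) ∈ P₀ := hVcomap.le hmem
    intro x hx
    obtain ⟨i, hi⟩ := Subgroup.mem_zpowers_iff.1 (hg₀ ⟨x, hx⟩)
    have h2 := congrArg Subtype.val hi
    rw [Subgroup.coe_zpow] at h2
    simp only at h2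
    rw [← h2]
    exact zpow_mem (show (g₀ : G) ∈ Cfsg.pPrimePCore p G from h1) i
  by_contra hgV
  set g := φ (g₀ : G)
  have hgp : ∃ j, g ^ p ^ j ∈ V := by
    obtain ⟨j, hj⟩ := P.isPGroup' ⟨_, hAP g₀.2⟩
    exact ⟨j, by rw [← map_pow, show (g₀ : G) ^ p ^ j = 1 from congrArg Subtype.val hj, map_one]; exact one_mem _⟩
  set j := Nat.find hgp
  have hj : g ^ p ^ j ∈ V := Nat.find_spec hgp
  have hj0 : j ≠ 0 := fun h0 => hgV (by rw [h0, pow_zero, pow_one] at hj; exact hj)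
  have hj1 : g ^ p ^ (j - 1) ∉ V := Nat.find_min hgp (show j - 1 < j by omega)
  have hord : orderOf (g : (K ⧸ N) ⧸ V) = p ^ (j - 1 + 1) := by
    refine orderOf_eq_prime_pow ?_ ?_
    · rw [← QuotientGroup.mk_pow, QuotientGroup.eq_one_iff]; exact hj1
    · rw [← QuotientGroup.mk_pow, QuotientGroup.eq_one_iff, show j - 1 + 1 = j by omega]; exact hj
  set a := g ^ p ^ (j - 1) with ha
  have hap : a ^ p = g ^ p ^ j := by rw [← pow_mul, ← pow_succ, show j - 1 + 1 = j by omega]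
  have hline : ∀ v ∈ V, a * v * a⁻¹ * v⁻¹ ∈ Subgroup.zpowers (a ^ p) := by
    intro v hv
    -- `v` normalises the image of `A`
    have hvP : v ∈ (P : Subgroup G).map φ := by
      have hle : V ≤ Cfsg.pCore p (K ⧸ N) := CfsgLib.Solvable.le_pCore hVn (hP₀p.map π)
      have h1 := CfsgLib.Solvable.pCore_le_sylow (P.mapSurjective hφ) (hle hv)
      rwa [Sylow.coe_mapSurjective] at h1
    obtain ⟨x, hx, rfl⟩ := hvP
    have hmemA : ∀ u ∈ Subgroup.zpowers g, u ∈ A.map φ := by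
      rintro _ ⟨i, rfl⟩
      exact ⟨(g₀ : G) ^ i, zpow_mem g₀.2 i, map_zpow φ _ i⟩
    have hz : φ x * a⁻¹ * (φ x)⁻¹ ∈ A.map φ := by
      obtain ⟨u, hu, hue⟩ := hmemA _ (inv_mem (pow_mem (Subgroup.mem_zpowers g) _) : a⁻¹ ∈ Subgroup.zpowers g)
      exact ⟨x * u * x⁻¹, (Subgroup.mem_normalizer_iff.1 (hAn hx) u).1 hu, by simp [hue]⟩
    obtain ⟨u, hu, hue⟩ : a * φ x * a⁻¹ * (φ x)⁻¹ ∈ A.map φ := by
      have := mul_mem (hmemA a (pow_mem (Subgroup.mem_zpowers g) _)) hz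
      simpa [mul_assoc] using this
    obtain ⟨i, hi⟩ := Subgroup.mem_zpowers_iff.1 (hg₀ ⟨u, hu⟩)
    have hi' : a * φ x * a⁻¹ * (φ x)⁻¹ = g ^ i := by
      rw [← hue, ← map_zpow]
      have h2 := congrArg Subtype.val hi
      rw [Subgroup.coe_zpow] at h2
      exact congrArg φ h2.symm
    have hiV : g ^ i ∈ V := hi' ▸ mul_mem (hVn.conj_mem _ hv a) (inv_mem hv)
    obtain ⟨c, hc⟩ : ((p ^ j : ℕ) : ℤ) ∣ i := by
      rw [show j = j - 1 + 1 by omega, ← hord, orderOf_dvd_iff_zpow_eq_one, ← QuotientGroup.mk_zpow,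
        QuotientGroup.eq_one_iff]
      exact hiV
    refine ⟨c, ?_⟩
    show (a ^ p) ^ c = _
    rw [hi', hap, hc, zpow_mul, zpow_natCast]
  have hapV : a ^ p ∈ V := hap ▸ hj
  rcases eq_or_ne p 2 with hp2 | hp2
  · have hinv := CfsgLib.FGS68.involves_perm_four_of_line V hp2
      (CfsgLib.PLoc.isPSolvable_of_surjective hπ hsolK) hVab hVp hC hO hj1 hapV hline
    refine (h.resolve_left fun h' => h' hp2) ?_
    obtain ⟨L, f, hf⟩ := CfsgLib.LocalEven.exists_surjective_of_involves hinv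
    exact CfsgLib.LocalEven.involves_of_surjective (L.comap φ) (f.comp (φ.subgroupComap L))
      (hf.comp (φ.subgroupComap_surjective_of_surjective L hφ))
  · exact CfsgLib.FGS68.not_line_odd V hp2 (CfsgLib.PLoc.isPSolvable_of_surjective hπ hsolK) hVab hVp hC hO
      hj1 hapV hline


end Cfsg.Agent.S3788
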