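import Cfsg.Statements.S3794
import Mathlib.GroupTheory.Solvable
import Mathlib.GroupTheory.Nilpotent
import Mathlib.GroupTheory.PGroup
import Mathlib.GroupTheory.Sylow
import Mathlib.Algebra.CharP.Lemmas
import Mathlib.Algebra.Group.Subgroup.ZPowers.Lemmas
import Mathlib.Tactic.Group
import Mathlib.Tactic.NoncommRing
import Mathlib.Tactic.LinearCombination

set_option autoImplicit false
open Cfsg
open scoped commutatorElement

namespace Cfsg.Agent.S3794

universe u

section Ring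

variable {E : Type*} [Ring E]

/-- Elimination of two unknowns from three twisted relations. -/
theorem elim_step {S1 S2 S3 a1 a2 a3 b1 b2 b3 : E}
    (ha : (a1 - 1) * S1 + (a2 - 1) * S2 + (a3 - 1) * S3 = 0)
    (hb : (b1 - 1) * S1 + (b2 - 1) * S2 + (b3 - 1) * S3 = 0)
    (hab : (a1 * b1 - 1) * S1 + (a2 * b2 - 1) * S2 + (a3 * b3 - 1) * S3 = 0) :
    (a2 - a1) * (b2 - 1) * S2 + (a3 - a1) * (b3 - 1) * S3 = 0 := by
  have e : (a2 - a1) * (b2 - 1) * S2 + (a3 - a1) * (b3 - 1) * S3 =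
      ((a1 * b1 - 1) * S1 + (a2 * b2 - 1) * S2 + (a3 * b3 - 1) * S3) -
        ((a1 - 1) * S1 + (a2 - 1) * S2 + (a3 - 1) * S3) -
        a1 * ((b1 - 1) * S1 + (b2 - 1) * S2 + (b3 - 1) * S3) := by
    noncomm_ring
  rw [e, ha, hb, hab, mul_zero, sub_zero, sub_zero]

theorem elim_final {S2 S3 a1 a2 a3 b2 b3 c2 c3 : E} (hcomm : Commute b3 (a2 - a1))
    (hcomm' : Commute b3 (a3 - a1))
    (hb : (a2 - a1) * (b2 - 1) * S2 + (a3 - a1) * (b3 - 1) * S3 = 0)
    (hc : (a2 - a1) * (c2 - 1) * S2 + (a3 - a1) * (c3 - 1) * S3 = 0)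
    (hbc : (a2 - a1) * (b2 * c2 - 1) * S2 + (a3 - a1) * (b3 * c3 - 1) * S3 = 0) :
    (a2 - a1) * (b2 - b3) * (c2 - 1) * S2 = 0 := by
  have e : (a2 - a1) * (b2 - b3) * (c2 - 1) * S2 =
      ((a2 - a1) * (b2 * c2 - 1) * S2 + (a3 - a1) * (b3 * c3 - 1) * S3) -
        ((a2 - a1) * (b2 - 1) * S2 + (a3 - a1) * (b3 - 1) * S3) -
        ((a2 - a1) * b3 * (c2 - 1) * S2 + (a3 - a1) * b3 * (c3 - 1) * S3) := by
    noncomm_ring
  rw [e, hb, hbc, ← hcomm.eq, ← hcomm'.eq, zero_sub, neg_zero, zero_sub, neg_eq_zero]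
  calc b3 * (a2 - a1) * (c2 - 1) * S2 + b3 * (a3 - a1) * (c3 - 1) * S3
      = b3 * ((a2 - a1) * (c2 - 1) * S2 + (a3 - a1) * (c3 - 1) * S3) := by noncomm_ring
    _ = 0 := by rw [hc, mul_zero]

theorem pow_prime_eq_one {p : ℕ} (hp : p.Prime) (hp3 : 3 ≤ p) (hchar : (p : E) = 0) {z : E}
    (h : (z - 1) ^ 3 = 0) : z ^ p = 1 := by
  obtain ⟨r, hr⟩ := (Commute.one_right (z - 1)).exists_add_pow_prime_eq hp
  rw [sub_add_cancel, pow_eq_zero_of_le hp3 h, hchar, one_pow] at hr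
  simpa using hr

end Ring

variable {G : Type u} [Group G] [Finite G]

theorem exists_eq_inv_mul (σ : MulAut G) (hfpf : ∀ g : G, σ g = g → g = 1) (A : Subgroup G)
    (hA : ∀ x ∈ A, σ x ∈ A) {z : G} (hz : z ∈ A) : ∃ x ∈ A, x⁻¹ * σ x = z := by
  let f : A → A := fun x => ⟨(x : G)⁻¹ * σ x, mul_mem (inv_mem x.2) (hA x x.2)⟩
  have hinj : Function.Injective f := by
    intro a b h
    have h1 : (a : G)⁻¹ * σ a = (b : G)⁻¹ * σ b := congrArg Subtype.val h
    have h2 : σ ((b : G) * (a : G)⁻¹) = (b : G) * (a : G)⁻¹ := by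
      rw [map_mul, map_inv]
      calc σ b * (σ a)⁻¹ = b * ((b : G)⁻¹ * σ b) * ((a : G)⁻¹ * σ a)⁻¹ * (a : G)⁻¹ := by group
        _ = (b : G) * (a : G)⁻¹ := by rw [h1]; group
    exact Subtype.ext (mul_inv_eq_one.mp (hfpf _ h2)).symm
  obtain ⟨x, hx⟩ := Finite.surjective_of_injective hinj ⟨z, hz⟩
  exact ⟨x, x.2, congrArg Subtype.val hx⟩

theorem mem_of_inv_mul_mem (σ : MulAut G) (hfpf : ∀ g : G, σ g = g → g = 1) (A : Subgroup G)
    (hA : ∀ x ∈ A, σ x ∈ A) {y : G} (hy : y⁻¹ * σ y ∈ A) : y ∈ A := by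
  obtain ⟨x, hx, he⟩ := exists_eq_inv_mul σ hfpf A hA hy
  have h2 : σ (y * x⁻¹) = y * x⁻¹ := by
    rw [map_mul, map_inv]
    calc σ y * (σ x)⁻¹ = y * (y⁻¹ * σ y) * (x⁻¹ * σ x)⁻¹ * x⁻¹ := by group
      _ = y * x⁻¹ := by rw [he]; group
  rwa [mul_inv_eq_one.mp (hfpf _ h2)]

theorem pow_four_apply (σ : MulAut G) (hσ : σ ^ 4 = 1) (x : G) : σ (σ (σ (σ x))) = x := by
  have h := congrArg (fun f : MulAut G => f x) hσ
  simpa [pow_succ] using h

theorem odd_card (σ : MulAut G) (hσ : σ ^ 4 = 1) (hfpf : ∀ g : G, σ g = g → g = 1) :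
    ¬ 2 ∣ Nat.card G := by
  intro hdvd
  have hp2 : IsPGroup 2 (Subgroup.zpowers σ) := by
    rintro ⟨_, k, rfl⟩
    refine ⟨2, Subtype.ext ?_⟩
    show (σ ^ k) ^ (2 ^ 2) = 1
    rw [← zpow_natCast, ← zpow_mul, mul_comm, zpow_mul, zpow_natCast]
    simp [hσ]
  have : Fact (Nat.Prime 2) := ⟨Nat.prime_two⟩
  obtain ⟨b, hb, hb1⟩ := hp2.exists_fixed_point_of_prime_dvd_card_of_fixed_point G hdvd
    (a := (1 : G)) (fun g => map_one (g : MulAut G))
  exact hb1 (hfpf b (hb ⟨σ, Subgroup.mem_zpowers σ⟩)).symm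

/-- A subgroup which is its own commutator in a solvable group is trivial. -/
theorem eq_bot_of_le_commutator {H : Type*} [Group H] [hH : Group.IsSolvable H] {K : Subgroup H}
    (h : K ≤ ⁅K, K⁆) : K = ⊥ := by
  obtain ⟨n, hn⟩ := (Group.isSolvable_def H).mp hH
  have key : ∀ m, K ≤ derivedSeries H m := by
    intro m
    induction m with
    | zero => exact le_top
    | succ m ih => exact h.trans (Subgroup.commutator_mono ih ih)
  exact eq_bot_iff.mpr (hn ▸ key n)

/-- The main step: `G'` centralizes every minimal invariant normal subgroup. -/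
theorem commutator_le_centralizer [Group.IsSolvable G] (σ : MulAut G) (hσ : σ ^ 4 = 1)
    (hfpf : ∀ g : G, σ g = g → g = 1) (V : Subgroup G) [hVn : V.Normal] (hVσ : ∀ x ∈ V, σ x ∈ V)
    (hVmin : ∀ W : Subgroup G, W.Normal → (∀ x ∈ W, σ x ∈ W) → W ≤ V → W = ⊥ ∨ W = V)
    {p : ℕ} (hp : p.Prime) (hp3 : 3 ≤ p) (hV1 : V ≠ ⊥) (hexp : ∀ v ∈ V, v ^ p = 1)
    (hab : ∀ a ∈ V, ∀ b ∈ V, a * b = b * a) :
    commutator G ≤ Subgroup.centralizer (V : Set G) := by
  set C := Subgroup.centralizer (V : Set G) with hC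
  have hCn : C.Normal := Subgroup.normal_centralizer
  have hVinv : ∀ x ∈ V, σ.symm x ∈ V := by
    intro x hx
    have h1 : σ (σ (σ x)) ∈ V := hVσ _ (hVσ _ (hVσ _ hx))
    have h2 : σ.symm x = σ (σ (σ x)) := (MulEquiv.symm_apply_eq σ).mpr (pow_four_apply σ hσ x).symm
    rwa [h2]
  have hCσ : ∀ x ∈ C, σ x ∈ C := by
    intro x hx
    refine Subgroup.mem_centralizer_iff.mpr fun v hv => ?_
    have h1 := congrArg σ (Subgroup.mem_centralizer_iff.mp hx _ (hVinv v hv))
    simpa using h1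
  by_cases hCtop : C = ⊤
  · rw [hCtop]; exact le_top
  -- a minimal invariant normal subgroup above `C`
  obtain ⟨A, ⟨hAn, hAσ, hCA⟩, hAmin⟩ := Set.Finite.exists_minimal (Set.toFinite
    {A : Subgroup G | A.Normal ∧ (∀ x ∈ A, σ x ∈ A) ∧ C < A})
    ⟨⊤, inferInstance, fun _ _ => Subgroup.mem_top _, lt_top_iff_ne_top.mpr hCtop⟩
  -- the action on `V`
  letI : CommGroup V := { V.toGroup with mul_comm := fun a b => Subtype.ext (hab _ a.2 _ b.2) }
  let act : G → AddMonoid.End (Additive V) := fun g =>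
    MonoidHom.toAdditive
      (MonoidHom.mk' (fun v : V => (⟨g * v * g⁻¹, hVn.conj_mem _ v.2 g⟩ : V))
        (fun a b => Subtype.ext (by simp [mul_assoc])))
  let r : G →* AddMonoid.End (Additive V) :=
    { toFun := act
      map_one' := by
        ext v
        show (1 : G) * (Additive.toMul v : V) * (1 : G)⁻¹ = _
        simp
      map_mul' := fun g h => by
        ext v
        show (g * h) * (Additive.toMul v : V) * (g * h)⁻¹ = g * (h * (Additive.toMul v : V) * h⁻¹) * g⁻¹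
        group }
  let s : AddMonoid.End (Additive V) :=
    MonoidHom.toAdditive (MonoidHom.mk' (fun v : V => (⟨σ v, hVσ _ v.2⟩ : V))
      (fun a b => Subtype.ext (map_mul σ _ _)))
  have hr : ∀ g, r g = 1 ↔ g ∈ C := by
    intro g
    rw [hC, Subgroup.mem_centralizer_iff]
    constructor
    · intro h v hv
      have h1 : g * v * g⁻¹ = v :=
        congrArg (fun f : AddMonoid.End (Additive V) => ((Additive.toMul (f (Additive.ofMul ⟨v, hv⟩)) : V) : G)) h
      exact (mul_inv_eq_iff_eq_mul.mp h1).symm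
    · intro h
      ext v
      show g * (Additive.toMul v : V) * g⁻¹ = _
      rw [← h _ (Additive.toMul v : V).2, mul_inv_cancel_right]
      rfl
  have hsr : ∀ g, s * r g = r (σ g) * s := by
    intro g
    ext v
    show σ (g * (Additive.toMul v : V) * g⁻¹) = σ g * σ (Additive.toMul v : V) * (σ g)⁻¹
    rw [map_mul, map_mul, map_inv]
  have hcancel : ∀ {g h : G}, r g = r h → g⁻¹ * h ∈ C := by
    intro g h e
    rw [← hr, map_mul, ← e, ← map_mul, inv_mul_cancel, map_one]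
  have hs4 : s * s * (s * s) = 1 := by
    ext v
    show σ (σ (σ (σ (Additive.toMul v : V)))) = _
    exact pow_four_apply σ hσ _
  have hsum : 1 + s + s * s + s * s * s = 0 := by
    ext v
    set w : V := Additive.toMul v
    show (w : G) * σ w * σ (σ w) * σ (σ (σ w)) = 1
    apply hfpf
    simp only [map_mul, pow_four_apply σ hσ]
    have h1 := hVσ _ w.2
    have h2 := hVσ _ h1
    have h3 := hVσ _ h2
    have hm : σ (w : G) * σ (σ w) * σ (σ (σ w)) ∈ V := mul_mem (mul_mem h1 h2) h3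
    rw [hab _ hm _ w.2]
    simp only [mul_assoc]
  -- the twisted relations
  let q : G → G → AddMonoid.End (Additive V) := fun a b => r (a * b⁻¹)
  have hE : ∀ a : G, (q a (σ a) - 1) * s + (q a (σ (σ a)) - 1) * (s * s) +
      (q a (σ (σ (σ a))) - 1) * (s * s * s) = 0 := by
    intro a
    have h0 : r a * (1 + s + s * s + s * s * s) * r a⁻¹ = 0 := by rw [hsum, mul_zero, zero_mul]
    have k1 : r a * s * r a⁻¹ = q a (σ a) * s := by
      rw [mul_assoc, hsr, ← mul_assoc, ← map_mul, map_inv]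
    have k2 : r a * (s * s) * r a⁻¹ = q a (σ (σ a)) * (s * s) := by
      rw [mul_assoc, mul_assoc s s, hsr, ← mul_assoc s, hsr]
      simp only [q, map_inv, map_mul, mul_assoc]
    have k3 : r a * (s * s * s) * r a⁻¹ = q a (σ (σ (σ a))) * (s * s * s) := by
      rw [mul_assoc (r a), mul_assoc (s * s) s, hsr, ← mul_assoc (s * s), mul_assoc s s, hsr,
        ← mul_assoc s, hsr]
      simp only [q, map_inv, map_mul, mul_assoc]
    have k0 : r a * 1 * r a⁻¹ = 1 := by rw [mul_one, ← map_mul, mul_inv_cancel, map_one]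
    simp only [mul_add, add_mul, k0, k1, k2, k3] at h0
    have e : (q a (σ a) - 1) * s + (q a (σ (σ a)) - 1) * (s * s) +
        (q a (σ (σ (σ a))) - 1) * (s * s * s) =
        (1 + q a (σ a) * s + q a (σ (σ a)) * (s * s) + q a (σ (σ (σ a))) * (s * s * s)) -
          (1 + s + s * s + s * s * s) := by
      simp only [sub_mul, one_mul]
      abel
    rw [e, h0, hsum, sub_zero]
  -- `A` is abelian modulo `C`
  have hcomm : ∀ a ∈ A, ∀ b ∈ A, Commute (r a) (r b) := by
    have hlt : ⁅A, A⁆ ≤ C := by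
      by_contra hle
      have hD : C ⊔ ⁅A, A⁆ = A := by
        refine le_antisymm (sup_le hCA.le (Subgroup.commutator_le_self A)) (hAmin ⟨inferInstance, ?_, ?_⟩
          (sup_le hCA.le (Subgroup.commutator_le_self A)))
        · have h1 : (C ⊔ ⁅A, A⁆).map σ.toMonoidHom ≤ C ⊔ ⁅A, A⁆ := by
            rw [Subgroup.map_sup, Subgroup.map_commutator]
            have hA' : A.map σ.toMonoidHom ≤ A := by
              rintro _ ⟨x, hx, rfl⟩
              exact hAσ x hx
            refine sup_le_sup ?_ (Subgroup.commutator_mono hA' hA')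
            rintro _ ⟨x, hx, rfl⟩
            exact hCσ x hx
          exact fun x hx => h1 ⟨x, hx, rfl⟩
        · exact lt_of_le_of_ne le_sup_left fun e => hle (e ▸ le_sup_right)
      have h2 := congrArg (Subgroup.map (QuotientGroup.mk' C)) hD
      rw [Subgroup.map_sup, QuotientGroup.map_mk'_self, bot_sup_eq, Subgroup.map_commutator] at h2
      have h3 := eq_bot_of_le_commutator h2.ge
      rw [Subgroup.map_eq_bot_iff, QuotientGroup.ker_mk'] at h3
      exact not_le_of_gt hCA h3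
    intro a ha b hb
    have h1 : r ⁅a, b⁆ = 1 := (hr _).mpr (hlt (Subgroup.commutator_mem_commutator ha hb))
    show r a * r b = r b * r a
    rw [← map_mul, ← map_mul, show a * b = ⁅a, b⁆ * (b * a) by rw [commutatorElement_def]; group,
      map_mul, h1, one_mul]
  have hAinv : ∀ x ∈ A, σ.symm x ∈ A := by
    intro x hx
    have h1 : σ (σ (σ x)) ∈ A := hAσ _ (hAσ _ (hAσ _ hx))
    have h2 : σ.symm x = σ (σ (σ x)) := (MulEquiv.symm_apply_eq σ).mpr (pow_four_apply σ hσ x).symm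
    rwa [h2]
  -- no `p`-elements in `A` modulo `C`
  have hprime : ∀ x ∈ A, ∀ k : ℕ, r x ^ p ^ k = 1 → x ∈ C := by
    let B : Subgroup G :=
      { carrier := {x | x ∈ A ∧ ∃ k : ℕ, r x ^ p ^ k = 1}
        one_mem' := ⟨one_mem _, 0, by rw [map_one, one_pow]⟩
        mul_mem' := by
          rintro x y ⟨hx, k, hk⟩ ⟨hy, l, hl⟩
          refine ⟨mul_mem hx hy, k + l, ?_⟩
          rw [map_mul, (hcomm x hx y hy).mul_pow, pow_add, pow_mul, hk, one_pow, one_mul,
            mul_comm (p ^ k), pow_mul, hl, one_pow]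
        inv_mem' := by
          rintro x ⟨hx, k, hk⟩
          refine ⟨inv_mem hx, k, ?_⟩
          rw [← map_pow, inv_pow]
          refine (hr _).mpr (inv_mem ((hr _).mp ?_))
          rw [map_pow, hk] }
    have hBn : B.Normal := by
      refine ⟨fun x hx g => ?_⟩
      obtain ⟨hx, k, hk⟩ := hx
      refine ⟨hAn.conj_mem x hx g, k, ?_⟩
      rw [← map_pow, conj_pow]
      exact (hr _).mpr (hCn.conj_mem _ ((hr _).mp (by rw [map_pow, hk])) g)
    have hBσ : ∀ x ∈ B, σ x ∈ B := by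
      intro x hx
      obtain ⟨hx, k, hk⟩ := hx
      refine ⟨hAσ x hx, k, ?_⟩
      rw [← map_pow, ← map_pow]
      exact (hr _).mpr (hCσ _ ((hr _).mp (by rw [map_pow, hk])))
    have hCB : C ≤ B := fun x hx => ⟨hCA.le hx, 0, by rw [(hr x).mpr hx, one_pow]⟩
    intro x hx k hk
    by_contra hxC
    have hBA : A ≤ B := hAmin ⟨hBn, hBσ, lt_of_le_of_ne hCB fun e => hxC (e ▸ (⟨hx, k, hk⟩ : x ∈ B))⟩
      (fun y hy => hy.1)
    -- the `p`-group `A/C` has a fixed point in `V`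
    have : Fact p.Prime := ⟨hp⟩
    letI : MulAction A V :=
      { smul := fun a v => ⟨(a : G) * v * (a : G)⁻¹, hVn.conj_mem _ v.2 _⟩
        one_smul := fun v => Subtype.ext (show (1 : G) * v * (1 : G)⁻¹ = v by simp)
        mul_smul := fun a b v => Subtype.ext
          (show ((a : G) * b) * v * ((a : G) * b)⁻¹ = a * (b * v * (b : G)⁻¹) * (a : G)⁻¹ by group) }
    let f : A →* Equiv.Perm V := MulAction.toPermHom A V
    have hfp : IsPGroup p f.range := by
      rintro ⟨_, a, rfl⟩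
      obtain ⟨-, l, hl⟩ := hBA a.2
      refine ⟨l, Subtype.ext ?_⟩
      rw [SubmonoidClass.coe_pow, ← map_pow]
      refine Equiv.ext fun v => Subtype.ext ?_
      show ((a ^ p ^ l : A) : G) * v * ((a ^ p ^ l : A) : G)⁻¹ = v
      rw [SubmonoidClass.coe_pow]
      rw [← map_pow] at hl
      rw [← Subgroup.mem_centralizer_iff.mp ((hr _).mp hl) v v.2, mul_inv_cancel_right]
    have hdvd : p ∣ Nat.card V := by
      obtain ⟨v, hv, hv1⟩ := (V.bot_or_exists_ne_one).resolve_left hV1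
      have h1 := Subgroup.orderOf_dvd_natCard V hv
      rwa [orderOf_eq_prime (hexp v hv) hv1] at h1
    obtain ⟨w, hw, hw1⟩ := hfp.exists_fixed_point_of_prime_dvd_card_of_fixed_point V hdvd
      (a := (1 : V)) (by
        rintro ⟨_, a, rfl⟩
        exact Subtype.ext (show (a : G) * 1 * (a : G)⁻¹ = 1 by simp))
    have hWn : (V ⊓ Subgroup.centralizer (A : Set G)).Normal := inferInstance
    have hWσ : ∀ y ∈ V ⊓ Subgroup.centralizer (A : Set G), σ y ∈ V ⊓ Subgroup.centralizer (A : Set G) := by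
      rintro y ⟨hy, hyc⟩
      refine ⟨hVσ y hy, Subgroup.mem_centralizer_iff.mpr fun a ha => ?_⟩
      have h1 := congrArg σ (Subgroup.mem_centralizer_iff.mp hyc _ (hAinv a ha))
      simpa using h1
    rcases hVmin _ hWn hWσ inf_le_left with h | h
    · have hwc : (w : G) ∈ V ⊓ Subgroup.centralizer (A : Set G) := by
        refine ⟨w.2, Subgroup.mem_centralizer_iff.mpr fun a ha => ?_⟩
        have h1 : a * (w : G) * a⁻¹ = w := congrArg Subtype.val (hw ⟨_, ⟨a, ha⟩, rfl⟩)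
        exact mul_inv_eq_iff_eq_mul.mp h1
      rw [h, Subgroup.mem_bot] at hwc
      exact hw1 (Subtype.ext hwc).symm
    · refine not_le_of_gt hCA fun a ha => Subgroup.mem_centralizer_iff.mpr fun v hv => ?_
      rw [← h] at hv
      exact (Subgroup.mem_centralizer_iff.mp hv.2 a ha).symm
  -- `σ²` is trivial on `A/C`
  have hchar : (p : AddMonoid.End (Additive V)) = 0 := by
    ext v
    rw [AddMonoid.End.natCast_apply]
    show (((Additive.toMul v : V) ^ p : V) : G) = 1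
    rw [SubmonoidClass.coe_pow]
    exact hexp _ (Additive.toMul v : V).2
  have htau : ∀ c ∈ A, r (c * (σ (σ c))⁻¹) = 1 := by
    intro c hc
    have hz : c * (σ (σ c))⁻¹ ∈ A := mul_mem hc (inv_mem (hAσ _ (hAσ _ hc)))
    obtain ⟨x, hx, hxz⟩ := exists_eq_inv_mul σ hfpf A hAσ hz
    set a := σ.symm x⁻¹ with ha_def
    set b := σ.symm (σ.symm x) with hb_def
    have ha : a ∈ A := hAinv _ (inv_mem hx)
    have hb : b ∈ A := hAinv _ (hAinv _ hx)
    have hqmul : ∀ (φ : G →* G), (∀ y ∈ A, φ y ∈ A) → ∀ y ∈ A, ∀ y' ∈ A,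
        q (y * y') (φ (y * y')) = q y (φ y) * q y' (φ y') := by
      intro φ hφ y hy y' hy'
      have c1 : Commute (r (φ y)⁻¹) (r (y' * (φ y')⁻¹)) :=
        hcomm _ (inv_mem (hφ y hy)) _ (mul_mem hy' (inv_mem (hφ y' hy')))
      calc r (y * y' * (φ (y * y'))⁻¹) = r y * (r (y' * (φ y')⁻¹) * r (φ y)⁻¹) := by
            rw [← map_mul r, ← map_mul r, map_mul φ]; congr 1; group
        _ = r y * (r (φ y)⁻¹ * r (y' * (φ y')⁻¹)) := by rw [c1.eq]
        _ = r (y * (φ y)⁻¹) * r (y' * (φ y')⁻¹) := by rw [← mul_assoc, ← map_mul r]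
    let φ1 : G →* G := σ.toMonoidHom
    let φ2 : G →* G := φ1.comp φ1
    let φ3 : G →* G := φ1.comp φ2
    have hm1 : ∀ y ∈ A, φ1 y ∈ A := hAσ
    have hm2 : ∀ y ∈ A, φ2 y ∈ A := fun y hy => hAσ _ (hAσ _ hy)
    have hm3 : ∀ y ∈ A, φ3 y ∈ A := fun y hy => hAσ _ (hAσ _ (hAσ _ hy))
    have hEmul : ∀ y ∈ A, ∀ y' ∈ A, (q y (φ1 y) * q y' (φ1 y') - 1) * s +
        (q y (φ2 y) * q y' (φ2 y') - 1) * (s * s) +
        (q y (φ3 y) * q y' (φ3 y') - 1) * (s * s * s) = 0 := by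
      intro y hy y' hy'
      rw [← hqmul φ1 hm1 y hy y' hy', ← hqmul φ2 hm2 y hy y' hy', ← hqmul φ3 hm3 y hy y' hy']
      exact hE (y * y')
    have hF : ∀ y' ∈ A, (q a (φ2 a) - q a (φ1 a)) * (q y' (φ2 y') - 1) * (s * s) +
        (q a (φ3 a) - q a (φ1 a)) * (q y' (φ3 y') - 1) * (s * s * s) = 0 := fun y' hy' =>
      elim_step (hE a) (hE y') (hEmul a ha y' hy')
    have hbc := hF (b * c) (mul_mem hb hc)
    rw [hqmul φ2 hm2 b hb c hc, hqmul φ3 hm3 b hb c hc] at hbc
    have hq : ∀ (φ : G →* G), (∀ y ∈ A, φ y ∈ A) → ∀ y ∈ A, y * (φ y)⁻¹ ∈ A :=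
      fun φ hφ y hy => mul_mem hy (inv_mem (hφ y hy))
    have hmain := elim_final
      ((hcomm _ (hq φ3 hm3 b hb) _ (hq φ2 hm2 a ha)).sub_right (hcomm _ (hq φ3 hm3 b hb) _ (hq φ1 hm1 a ha)))
      ((hcomm _ (hq φ3 hm3 b hb) _ (hq φ3 hm3 a ha)).sub_right (hcomm _ (hq φ3 hm3 b hb) _ (hq φ1 hm1 a ha)))
      (hF b hb) (hF c hc) hbc
    set Z := r (c * (σ (σ c))⁻¹) with hZ
    have e1 : q a (φ2 a) = q a (φ1 a) * Z := by
      show r (a * (σ (σ a))⁻¹) = r (a * (σ a)⁻¹) * r (c * (σ (σ c))⁻¹)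
      rw [← hxz, ← map_mul, ha_def, MulEquiv.apply_symm_apply, map_inv σ, inv_inv, inv_inv]
      congr 1
      group
    have e2 : q b (φ2 b) = q b (φ3 b) * Z := by
      show r (b * (σ (σ b))⁻¹) = r (b * (σ (σ (σ b)))⁻¹) * r (c * (σ (σ c))⁻¹)
      rw [← hxz, hb_def, MulEquiv.apply_symm_apply, MulEquiv.apply_symm_apply]
      have c1 : Commute (r (σ x)⁻¹) (r x⁻¹) := hcomm _ (inv_mem (hAσ x hx)) _ (inv_mem hx)
      calc r (σ.symm (σ.symm x) * x⁻¹)
          = r (σ.symm (σ.symm x)) * (r x⁻¹ * r (σ x)⁻¹) * r (σ x) := by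
            rw [← map_mul, ← map_mul, ← map_mul]; congr 1; group
        _ = r (σ.symm (σ.symm x)) * (r (σ x)⁻¹ * r x⁻¹) * r (σ x) := by rw [c1.eq]
        _ = r (σ.symm (σ.symm x) * (σ x)⁻¹) * r (x⁻¹ * σ x) := by
            simp only [← map_mul, mul_assoc]
    have e3 : q c (φ2 c) = Z := rfl
    change (q a (φ2 a) - q a (φ1 a)) * (q b (φ2 b) - q b (φ3 b)) * (q c (φ2 c) - 1) * (s * s) = 0 at hmain
    rw [e1, e2, e3, ← mul_sub_one, ← mul_sub_one] at hmain
    have hu : ∀ g : G, r g⁻¹ * r g = 1 := fun g => by rw [← map_mul, inv_mul_cancel, map_one]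
    have hcz : Commute (Z - 1) (q b (φ3 b)) :=
      (hcomm _ hz _ (hq φ3 hm3 b hb)).sub_left (Commute.one_left _)
    have hmain2 : q a (φ1 a) * q b (φ3 b) * ((Z - 1) ^ 3 * (s * s)) = 0 := by
      rw [← hmain]
      calc q a (φ1 a) * q b (φ3 b) * ((Z - 1) ^ 3 * (s * s))
          = q a (φ1 a) * (q b (φ3 b) * (Z - 1)) * (Z - 1) * (Z - 1) * (s * s) := by
            simp only [pow_succ, pow_zero, one_mul, mul_assoc]
        _ = q a (φ1 a) * ((Z - 1) * q b (φ3 b)) * (Z - 1) * (Z - 1) * (s * s) := by rw [hcz.eq]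
        _ = q a (φ1 a) * (Z - 1) * (q b (φ3 b) * (Z - 1)) * (Z - 1) * (s * s) := by
            simp only [mul_assoc]
    have h3 : (Z - 1) ^ 3 = 0 := by
      have h4 := congrArg (fun t => r (b * (φ3 b)⁻¹)⁻¹ * r (a * (φ1 a)⁻¹)⁻¹ * t * (s * s)) hmain2
      simp only [mul_zero, zero_mul] at h4
      rw [← h4]
      calc (Z - 1) ^ 3 = (1 : AddMonoid.End (Additive V)) * (Z - 1) ^ 3 * 1 := by rw [one_mul, mul_one]
        _ = (r (b * (φ3 b)⁻¹)⁻¹ * (r (a * (φ1 a)⁻¹)⁻¹ * r (a * (φ1 a)⁻¹)) * r (b * (φ3 b)⁻¹)) *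
              (Z - 1) ^ 3 * (s * s * (s * s)) := by simp only [hu, mul_one, hs4]
        _ = _ := by simp only [q, mul_assoc]
    have h5 := pow_prime_eq_one hp hp3 hchar h3
    exact (hr _).mpr (hprime _ hz 1 (by rw [pow_one]; exact h5))
  have hrtau : ∀ c ∈ A, r (σ (σ c)) = r c := by
    intro c hc
    have h := htau c hc
    calc r (σ (σ c)) = r (c * (σ (σ c))⁻¹) * r (σ (σ c)) := by rw [h, one_mul]
      _ = r c := by rw [← map_mul, inv_mul_cancel_right]
  have hrinv : ∀ c ∈ A, r (σ c) = r c⁻¹ := by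
    intro c hc
    have hy : σ c * c ∈ C := by
      refine mem_of_inv_mul_mem σ hfpf C hCσ (hcancel ?_)
      rw [map_mul σ, map_mul r, map_mul r, hrtau c hc]
      exact (hcomm _ (hAσ c hc) _ hc).eq
    calc r (σ c) = r (σ c * c) * r c⁻¹ := by rw [← map_mul, mul_inv_cancel_right]
      _ = r c⁻¹ := by rw [(hr _).mpr hy, one_mul]
  have heq : ∀ {g h : G}, r g = r h → ∀ v ∈ V, g * v * g⁻¹ = h * v * h⁻¹ := fun {g h} e v hv =>
    congrArg (fun f : AddMonoid.End (Additive V) => ((Additive.toMul (f (Additive.ofMul ⟨v, hv⟩)) : V) : G)) e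
  have hneg : ∀ v ∈ V, σ (σ v) = v → σ v = v⁻¹ := by
    intro v hv h
    refine (inv_eq_of_mul_eq_one_right (hfpf _ ?_)).symm
    rw [map_mul, h]
    exact hab _ (hVσ v hv) _ hv
  have hodd := odd_card σ hσ hfpf
  have hfix : ∀ v ∈ V, σ (σ v) = v → v = 1 := by
    intro v hv h
    have hvA : v ∈ V ⊓ Subgroup.centralizer (A : Set G) := by
      refine ⟨hv, Subgroup.mem_centralizer_iff.mpr fun c hc => ?_⟩
      have h1 : c * v * c⁻¹ ∈ V := hVn.conj_mem v hv c
      have h2 : σ (σ (c * v * c⁻¹)) = c * v * c⁻¹ := by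
        rw [map_mul, map_mul, map_inv, map_mul, map_mul, map_inv, h]
        exact heq (hrtau c hc) v hv
      have h3 := hneg _ h1 h2
      rw [map_mul, map_mul, map_inv, hneg v hv h, heq (hrinv c hc) _ (inv_mem hv)] at h3
      have h4 : c⁻¹ * v * c⁻¹⁻¹ = c * v * c⁻¹ := by
        apply inv_injective
        rw [← h3]
        group
      have h5 : (c * c) * v = v * (c * c) := by
        calc (c * c) * v = c * (c * v * c⁻¹) * c := by group
          _ = c * (c⁻¹ * v * c⁻¹⁻¹) * c := by rw [h4]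
          _ = v * (c * c) := by group
      -- `c` is a power of `c * c`
      have hcop : (2 : ℕ).Coprime (orderOf c) := (Nat.prime_two.coprime_iff_not_dvd).mpr
        fun hd => hodd (hd.trans (orderOf_dvd_natCard c))
      obtain ⟨m, hm⟩ := exists_pow_eq_self_of_coprime hcop
      rw [← hm, sq]
      exact ((Commute.pow_left h5 m).eq).symm.symm
    rcases hVmin (V ⊓ Subgroup.centralizer (A : Set G)) inferInstance (by
      rintro y ⟨hy, hyc⟩
      refine ⟨hVσ y hy, Subgroup.mem_centralizer_iff.mpr fun a ha => ?_⟩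
      have h1 := congrArg σ (Subgroup.mem_centralizer_iff.mp hyc _ (hAinv a ha))
      simpa using h1) inf_le_left with h' | h'
    · rw [h', Subgroup.mem_bot] at hvA
      exact hvA
    · exfalso
      refine not_le_of_gt hCA fun a ha => Subgroup.mem_centralizer_iff.mpr fun u hu => ?_
      rw [← h'] at hu
      exact (Subgroup.mem_centralizer_iff.mp hu.2 a ha).symm
  have hminus : ∀ v ∈ V, σ (σ v) = v⁻¹ := by
    intro v hv
    refine (inv_eq_of_mul_eq_one_right (hfix _ (mul_mem hv (hVσ _ (hVσ v hv))) ?_)).symm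
    rw [map_mul, map_mul, pow_four_apply σ hσ]
    exact hab _ (hVσ _ (hVσ v hv)) _ hv
  have hrG : ∀ g : G, r (σ (σ g)) = r g := by
    intro g
    ext v
    set w : V := Additive.toMul v
    show σ (σ g) * (w : G) * (σ (σ g))⁻¹ = g * w * g⁻¹
    have h1 := hminus _ (hVn.conj_mem _ w.2 g)
    rw [map_mul, map_mul, map_inv, map_mul, map_mul, map_inv, hminus _ w.2] at h1
    apply inv_injective
    rw [← h1]
    group
  have hinvG : ∀ g : G, r (σ g) = r g⁻¹ := by
    intro g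
    obtain ⟨x, -, rfl⟩ := exists_eq_inv_mul σ hfpf ⊤ (fun _ _ => Subgroup.mem_top _) (Subgroup.mem_top g)
    rw [map_mul, map_inv, mul_inv_rev, inv_inv, map_mul r, map_mul r, hrG]
  rw [commutator, Subgroup.commutator_le]
  intro a _ b _
  rw [← hr]
  have h1 : r (a⁻¹ * b⁻¹) = r (b⁻¹ * a⁻¹) := by
    rw [map_mul, ← hinvG, ← hinvG, ← map_mul, ← map_mul σ, hinvG, mul_inv_rev]
  calc r ⁅a, b⁆ = r (a * b) * r (a⁻¹ * b⁻¹) := by rw [← map_mul, commutatorElement_def]; congr 1; group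
    _ = r (a * b) * r (b⁻¹ * a⁻¹) := by rw [h1]
    _ = 1 := by rw [← map_mul]; simp [mul_assoc]

theorem aux : ∀ (n : ℕ) {G : Type u} [Group G] [Finite G], Nat.card G ≤ n → Group.IsSolvable G →
    ∀ σ : MulAut G, σ ^ 4 = 1 → (∀ g : G, σ g = g → g = 1) → Group.IsNilpotent (commutator G) := by
  intro n
  induction n with
  | zero =>
    intro G _ _ hcard
    have := Nat.card_pos (α := G)
    omega
  | succ n ih =>
  intro G _ _ hcard hsol σ hσ hfpf
  rcases subsingleton_or_nontrivial G with hss | hnt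
  · infer_instance
  obtain ⟨V, ⟨hVn, hVσ, hV0⟩, hVmin⟩ := Set.Finite.exists_minimal (Set.toFinite
    {V : Subgroup G | V.Normal ∧ (∀ x ∈ V, σ x ∈ V) ∧ V ≠ ⊥})
    ⟨⊤, inferInstance, fun _ _ => Subgroup.mem_top _, top_ne_bot⟩
  have hmin : ∀ W : Subgroup G, W.Normal → (∀ x ∈ W, σ x ∈ W) → W ≤ V → W = ⊥ ∨ W = V := by
    intro W hW hWσ hWV
    by_cases h : W = ⊥
    · exact Or.inl h
    · exact Or.inr (le_antisymm hWV (hVmin ⟨hW, hWσ, h⟩ hWV))
  have hab : ∀ a ∈ V, ∀ b ∈ V, a * b = b * a := by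
    rcases hmin ⁅V, V⁆ inferInstance (fun x hx => by
      have h1 : (⁅V, V⁆ : Subgroup G).map σ.toMonoidHom ≤ ⁅V, V⁆ := by
        have hV' : V.map σ.toMonoidHom ≤ V := by
          rintro _ ⟨y, hy, rfl⟩
          exact hVσ y hy
        rw [Subgroup.map_commutator]
        exact Subgroup.commutator_mono hV' hV'
      exact h1 ⟨x, hx, rfl⟩) (Subgroup.commutator_le_self V) with h | h
    · intro a ha b hb
      have h1 : ⁅a, b⁆ ∈ (⊥ : Subgroup G) := h ▸ Subgroup.commutator_mem_commutator ha hb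
      exact commutatorElement_eq_one_iff_mul_comm.mp (Subgroup.mem_bot.mp h1)
    · exact absurd (eq_bot_of_le_commutator h.ge) hV0
  obtain ⟨p, hp, hpd⟩ := Nat.exists_prime_and_dvd (show Nat.card V ≠ 1 from fun h => hV0 (Subgroup.card_eq_one.mp h))
  have hodd := odd_card σ hσ hfpf
  have hp3 : 3 ≤ p := by
    have hpG := hpd.trans (Subgroup.card_subgroup_dvd_card V)
    have : p ≠ 2 := fun e => hodd (e ▸ hpG)
    have := hp.two_le
    omega
  have hexp : ∀ v ∈ V, v ^ p = 1 := by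
    let W : Subgroup G :=
      { carrier := {x | x ∈ V ∧ x ^ p = 1}
        one_mem' := ⟨one_mem _, one_pow _⟩
        mul_mem' := by
          rintro x y ⟨hx, hx'⟩ ⟨hy, hy'⟩
          exact ⟨mul_mem hx hy, by rw [Commute.mul_pow (hab x hx y hy), hx', hy', one_mul]⟩
        inv_mem' := by
          rintro x ⟨hx, hx'⟩
          exact ⟨inv_mem hx, by rw [inv_pow, hx', inv_one]⟩ }
    have hWn : W.Normal := ⟨fun x ⟨hx, hx'⟩ g => ⟨hVn.conj_mem x hx g, by rw [conj_pow, hx', mul_one, mul_inv_cancel]⟩⟩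
    rcases hmin W hWn (fun x ⟨hx, hx'⟩ => ⟨hVσ x hx, by rw [← map_pow, hx', map_one]⟩) (fun x hx => hx.1)
      with h | h
    · have : Fact p.Prime := ⟨hp⟩
      obtain ⟨z, hz⟩ := exists_prime_orderOf_dvd_card' p hpd
      have hzW : (z : G) ∈ W :=
        ⟨z.2, by rw [← SubmonoidClass.coe_pow, ← hz, pow_orderOf_eq_one]; rfl⟩
      rw [h, Subgroup.mem_bot] at hzW
      rw [← Subgroup.orderOf_coe, hzW, orderOf_one] at hz
      exact absurd hz.symm hp.ne_one
    · exact fun v hv => (h.ge hv).2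
  have hle := commutator_le_centralizer σ hσ hfpf V hVσ hmin hp hp3 hV0 hexp hab
  -- the quotient
  have hVmap : V.map σ.toMonoidHom = V := by
    refine le_antisymm ?_ fun x hx => ?_
    · rintro _ ⟨y, hy, rfl⟩
      exact hVσ y hy
    · exact ⟨σ (σ (σ x)), hVσ _ (hVσ _ (hVσ _ hx)), pow_four_apply σ hσ x⟩
  let σ' : MulAut (G ⧸ V) := QuotientGroup.congr V V σ hVmap
  have hmk : ∀ x : G, σ' (QuotientGroup.mk x) = QuotientGroup.mk (σ x) := fun x => rfl
  have hσ' : σ' ^ 4 = 1 := by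
    refine MulEquiv.ext fun y => ?_
    obtain ⟨x, rfl⟩ := QuotientGroup.mk_surjective y
    show σ' (σ' (σ' (σ' (QuotientGroup.mk x)))) = QuotientGroup.mk x
    rw [hmk, hmk, hmk, hmk, pow_four_apply σ hσ]
  have hfpf' : ∀ y, σ' y = y → y = 1 := by
    intro y
    obtain ⟨x, rfl⟩ := QuotientGroup.mk_surjective y
    intro h
    rw [hmk, eq_comm, QuotientGroup.eq] at h
    exact (QuotientGroup.eq_one_iff x).mpr (mem_of_inv_mul_mem σ hfpf V hVσ h)
  have hlt : Nat.card (G ⧸ V) ≤ n := by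
    have h1 := Subgroup.card_eq_card_quotient_mul_card_subgroup V
    have h2 : 1 < Nat.card V := lt_of_le_of_ne Nat.card_pos fun h => hV0 (Subgroup.eq_bot_of_card_eq _ h.symm)
    have h3 : 0 < Nat.card (G ⧸ V) := Nat.card_pos
    nlinarith
  have hnil := ih hlt inferInstance σ' hσ' hfpf'
  let f : commutator G →* commutator (G ⧸ V) :=
    ((QuotientGroup.mk' V).comp (commutator G).subtype).codRestrict (commutator (G ⧸ V)) fun x =>
      Subgroup.commutator_mono le_top le_top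
        ((Subgroup.map_commutator ⊤ ⊤ (QuotientGroup.mk' V)).le ⟨(x : G), x.2, rfl⟩)
  refine Subgroup.isNilpotent_of_ker_le_center f ?_
  intro x hx
  have hxV : (x : G) ∈ V := (QuotientGroup.eq_one_iff _).mp (congrArg Subtype.val hx)
  rw [Subgroup.mem_center_iff]
  exact fun y => Subtype.ext (Subgroup.mem_centralizer_iff.mp (hle y.2) _ hxV).symm

/-- Let G be a finite solvable group with an automorphism σ satisfying σ⁴ = 1 and fixing only the identity. Then the derived subgroup G' is nilpotent. -/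
theorem result {G : Type*} [Group G] [Finite G] (hG : Group.IsSolvable G) (σ : MulAut G) (hσ : σ ^ 4 = 1) (hfpf : ∀ g : G, σ g = g → g = 1) : Group.IsNilpotent (commutator G) :=
  aux (Nat.card G) le_rfl hG σ hσ hfpf

end Cfsg.Agent.S3794
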