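import Cfsg.Statements.S3795
import Cfsg.Agent.S3793
import Cfsg.Agent.S3794
import Cfsg.Agent.Lib.ShultGross.Layer

set_option autoImplicit false
set_option linter.style.haveILetI false
open Cfsg
open scoped Pointwise commutatorElement

namespace Cfsg.Agent.S3795

open Cfsg.Agent.S3793 (not_dvd_card map_lowerCentralSeries exists_lowerCentralSeries_eq_bot pow_congr
  mem_pCore_of_mem_fitting char_mem char_map)

universe u

variable {G : Type u} [Group G] [Finite G]

/-- An element centralizing the cores for the other primes and lying over the `t`-core is in the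
Fitting subgroup. -/
theorem mem_fitting_of_centralizes {t : ℕ} [ht : Fact t.Prime] [hFn : (Cfsg.fittingSubgroup G).Normal]
    {h : G} (hhP : (h : G ⧸ Cfsg.fittingSubgroup G) ∈ Cfsg.pCore t (G ⧸ Cfsg.fittingSubgroup G))
    (hcen : ∀ l ∈ (Nat.card G).primeFactors, l ≠ t →
      h ∈ Subgroup.centralizer (Cfsg.pCore l G : Set G)) : h ∈ Cfsg.fittingSubgroup G := by
  classical
  set F0 := Cfsg.fittingSubgroup G
  set R := Cfsg.pCore t (G ⧸ F0)
  let S := {l // l ∈ (Nat.card G).primeFactors ∧ l ≠ t}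
  haveI : ∀ l : S, (Subgroup.centralizer (Cfsg.pCore (l : ℕ) G : Set G)).Normal := fun l => by
    haveI := CfsgLib.Solvable.pCore_normal (p := (l : ℕ)) G
    infer_instance
  haveI := CfsgLib.Solvable.pCore_normal (p := t) (G ⧸ F0)
  haveI : (R.comap (QuotientGroup.mk' F0)).Normal := inferInstance
  haveI : (⨅ l : S, Subgroup.centralizer (Cfsg.pCore (l : ℕ) G : Set G)).Normal :=
    Subgroup.normal_iInf_normal fun l => inferInstance
  set Cc := R.comap (QuotientGroup.mk' F0) ⊓ ⨅ l : S, Subgroup.centralizer (Cfsg.pCore (l : ℕ) G : Set G)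
    with hCc
  haveI : Cc.Normal := Subgroup.normal_inf_normal _ _
  have hcent : ∀ w ∈ Cc, (orderOf w).Coprime t → ∀ v ∈ Cc, v * w = w * v := by
    intro w hw hwr v hv
    have key : w ∈ Subgroup.centralizer ({v} : Set G) := by
      refine CfsgLib.CN.mem_of_pElem_pow fun s j hs hsj => ?_
      rw [Subgroup.mem_centralizer_singleton_iff]
      haveI := Fact.mk hs
      by_cases hone : w ^ j = 1
      · rw [hone, one_mul, mul_one]
      have hst : s ≠ t := by
        rintro rfl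
        obtain ⟨i, hi⟩ := hsj
        refine hone (orderOf_eq_one_iff.1 (Nat.eq_one_of_dvd_coprimes (Nat.Coprime.pow_right i hwr)
          (orderOf_pow_dvd j) (orderOf_dvd_of_pow_eq_one hi)))
      have hmem : w ^ j ∈ F0 := by
        rw [← QuotientGroup.eq_one_iff]
        have h1 : ((w ^ j : G) : G ⧸ F0) ∈ R := pow_mem hw.1 j
        obtain ⟨i, hi⟩ := hsj
        refine CfsgLib.CN.PElem.eq_one (p := s) (q := t) hst
          ⟨i, by rw [← QuotientGroup.mk_pow, hi, QuotientGroup.mk_one]⟩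
          (CfsgLib.CN.pElem_of_mem (CfsgLib.Solvable.pCore_isPGroup _ (G ⧸ F0)) h1)
      have hO := mem_pCore_of_mem_fitting hmem hsj
      have hsd : s ∈ (Nat.card G).primeFactors := by
        refine Nat.mem_primeFactors.2 ⟨hs, ?_, Nat.card_pos.ne'⟩
        obtain ⟨q, hq, hqd⟩ := Nat.exists_prime_and_dvd (n := orderOf (w ^ j)) (mt orderOf_eq_one_iff.1 hone)
        rw [← hsj.orderOf_dvd hq hqd]
        exact hqd.trans (orderOf_dvd_natCard _)
      exact Subgroup.mem_centralizer_iff.1 (Subgroup.mem_iInf.1 hv.2 ⟨s, hsd, hst⟩) _ hO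
    exact (Subgroup.mem_centralizer_singleton_iff.1 key).symm
  have hnil : Group.IsNilpotent Cc := by
    refine Group.of_quotient_center_nilpotent (IsPGroup.isNilpotent (p := t) ?_)
    intro x
    obtain ⟨c, rfl⟩ := QuotientGroup.mk_surjective x
    obtain ⟨e', m', hm', hem'⟩ := Nat.exists_eq_pow_mul_and_not_dvd (orderOf_pos c).ne' t ht.out.ne_one
    refine ⟨e', ?_⟩
    rw [← QuotientGroup.mk_pow, QuotientGroup.eq_one_iff, Subgroup.mem_center_iff]
    intro v
    refine Subtype.ext (hcent _ (c ^ t ^ e').2 ?_ v v.2)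
    rw [Subgroup.orderOf_coe]
    refine Nat.Coprime.coprime_dvd_left ?_ ((ht.out.coprime_iff_not_dvd.2 hm').symm)
    exact orderOf_dvd_of_pow_eq_one (by rw [← pow_mul, ← hem', pow_orderOf_eq_one])
  exact CfsgLib.Solvable.le_fittingSubgroup inferInstance hnil
    ⟨hhP, Subgroup.mem_iInf.2 fun l => hcen l l.2.1 l.2.2⟩

/-- An element over the `t`-core trivial on the Frattini quotients of the other cores is trivial. -/
theorem mem_fitting_of_layers {t : ℕ} [ht : Fact t.Prime] [hFn : (Cfsg.fittingSubgroup G).Normal]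
    {g : G} (hgP : (g : G ⧸ Cfsg.fittingSubgroup G) ∈ Cfsg.pCore t (G ⧸ Cfsg.fittingSubgroup G))
    (hlay : ∀ l ∈ (Nat.card G).primeFactors, l ≠ t → ∀ k ∈ Cfsg.pCore l G,
      g * k * g⁻¹ * k⁻¹ ∈ (frattini (Cfsg.pCore l G : Subgroup G)).map (Cfsg.pCore l G).subtype) :
    g ∈ Cfsg.fittingSubgroup G := by
  classical
  set F0 := Cfsg.fittingSubgroup G
  obtain ⟨e, m, hm, hem⟩ := Nat.exists_eq_pow_mul_and_not_dvd (orderOf_pos g).ne' t ht.out.ne_one
  have hgm : g ^ m ∈ F0 := by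
    refine mem_fitting_of_centralizes (t := t) (pow_mem hgP m) fun l hl hlt => ?_
    haveI := Fact.mk (Nat.prime_of_mem_primeFactors hl)
    haveI := CfsgLib.Solvable.pCore_normal (p := l) G
    have hhr : (g ^ m) ^ t ^ e = 1 := by rw [← pow_mul, mul_comm, ← hem, pow_orderOf_eq_one]
    refine (CfsgLib.Solvable.le_centralizer_of_trivial_on_frattini_quotient
      (A := Subgroup.zpowers (g ^ m)) ?_ ?_ (Subgroup.mem_zpowers _))
    · obtain ⟨i, hi⟩ := ((CfsgLib.Solvable.pCore_isPGroup (p := l) G).to_subgroup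
        (frattini (Cfsg.pCore l G : Subgroup G))).exists_card_eq
      rw [hi, Nat.card_zpowers]
      exact Nat.Coprime.coprime_dvd_left (orderOf_dvd_of_pow_eq_one hhr)
        (Nat.Coprime.pow e i ((Nat.coprime_primes ht.out (Fact.out : l.Prime)).2 (Ne.symm hlt)))
    · intro a ha k hk
      obtain ⟨j, rfl⟩ := (mem_powers_iff_mem_zpowers (x := g ^ m)).2 ha
      show (g ^ m) ^ j * k * ((g ^ m) ^ j)⁻¹ * k⁻¹ ∈ _
      have hind : ∀ i : ℕ, ∀ k ∈ Cfsg.pCore l G, g ^ i * k * (g ^ i)⁻¹ * k⁻¹ ∈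
          (frattini (Cfsg.pCore l G : Subgroup G)).map (Cfsg.pCore l G).subtype := by
        intro i
        induction i with
        | zero => intro k _; simp
        | succ i ih =>
          intro k hk
          have hk' : g * k * g⁻¹ ∈ Cfsg.pCore l G := Subgroup.Normal.conj_mem inferInstance k hk g
          have := mul_mem (ih _ hk') (hlay l hl hlt k hk)
          rw [show g ^ i * (g * k * g⁻¹) * (g ^ i)⁻¹ * (g * k * g⁻¹)⁻¹ * (g * k * g⁻¹ * k⁻¹) =
            g ^ (i + 1) * k * (g ^ (i + 1))⁻¹ * k⁻¹ by rw [pow_succ]; group] at this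
          exact this
      rw [← pow_mul]
      exact hind _ k hk
  have hy' : (g : G ⧸ F0) ^ m = 1 := by rw [← QuotientGroup.mk_pow, QuotientGroup.eq_one_iff]; exact hgm
  obtain ⟨i, hi⟩ := CfsgLib.CN.pElem_of_mem (CfsgLib.Solvable.pCore_isPGroup _ (G ⧸ F0)) hgP
  have h2 := pow_gcd_eq_one.2 ⟨hy', hi⟩
  rw [(Nat.Coprime.pow_right i (ht.out.coprime_iff_not_dvd.2 hm).symm).gcd_eq_one, pow_one] at h2
  exact (QuotientGroup.eq_one_iff g).1 h2

/-- The operators on the Frattini quotient of a core. -/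
theorem exists_layer_rep {p k l : ℕ} [hp : Fact p.Prime] [hl : Fact l.Prime] (σ : MulAut G)
    (hσ : σ ^ p ^ k = 1) (hfpf : ∀ g, σ g = g → g = 1) [hFn : (Cfsg.fittingSubgroup G).Normal]
    (hF : (Cfsg.fittingSubgroup G).map (σ : G →* G) = Cfsg.fittingSubgroup G) :
    ∃ (m : ℕ) (ρ : G ⧸ Cfsg.fittingSubgroup G →*
        Module.End (AlgebraicClosure (ZMod l)) (Fin m → AlgebraicClosure (ZMod l)))
      (X : Module.End (AlgebraicClosure (ZMod l)) (Fin m → AlgebraicClosure (ZMod l))),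
      (∀ h, X * ρ h = ρ (QuotientGroup.congr _ _ σ hF h) * X) ∧ X ^ p ^ k = 1 ∧
      ∑ i ∈ Finset.range (p ^ k), X ^ i = 0 ∧
      ∀ g : G, ρ g = 1 → ∀ x ∈ Cfsg.pCore l G, g * x * g⁻¹ * x⁻¹ ∈
        (frattini (Cfsg.pCore l G : Subgroup G)).map (Cfsg.pCore l G).subtype := by
  classical
  haveI := CfsgLib.Solvable.pCore_normal (p := l) G
  have hpG := not_dvd_card σ hσ hfpf
  set O := Cfsg.pCore l G with hO
  have hOp : IsPGroup l O := CfsgLib.Solvable.pCore_isPGroup _ G
  set Φ := frattini O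
  letI : CommGroup (O ⧸ Φ) := { (inferInstance : Group (O ⧸ Φ)) with
    mul_comm := fun a b => by
      obtain ⟨x, rfl⟩ := QuotientGroup.mk_surjective a
      obtain ⟨y, rfl⟩ := QuotientGroup.mk_surjective b
      rw [← commutatorElement_eq_one_iff_mul_comm]
      refine (QuotientGroup.eq_one_iff _).2 (CfsgLib.PGroup.commutator_le_frattini hOp ?_)
      exact Subgroup.commutator_mem_commutator (Subgroup.mem_top x) (Subgroup.mem_top y) }
  have hexp : ∀ a : O ⧸ Φ, a ^ l = 1 := fun a => by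
    obtain ⟨x, rfl⟩ := QuotientGroup.mk_surjective a
    exact (QuotientGroup.eq_one_iff _).2 (CfsgLib.PGroup.pow_mem_frattini hOp x)
  have hΦchar : Φ.Characteristic := inferInstance
  let bar : MulAut O →* MulAut (O ⧸ Φ) :=
    { toFun := fun α => QuotientGroup.congr _ _ α (char_map hΦchar α)
      map_one' := MulEquiv.ext fun v => by
        obtain ⟨x, rfl⟩ := QuotientGroup.mk_surjective v
        rfl
      map_mul' := fun α β => MulEquiv.ext fun v => by
        obtain ⟨x, rfl⟩ := QuotientGroup.mk_surjective v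
        rfl }
  let act : G →* MulAut (O ⧸ Φ) := bar.comp MulAut.conjNormal
  have hact : ∀ (h : G) (x : O), act h (x : O ⧸ Φ) = ((MulAut.conjNormal h x : O) : O ⧸ Φ) := fun _ _ => rfl
  have hFker : Cfsg.fittingSubgroup G ≤ act.ker := by
    intro y hy
    refine CfsgLib.CN.mem_of_pElem_pow fun s m hs hsm => ?_
    haveI := Fact.mk hs
    have hys : y ^ m ∈ Cfsg.pCore s G := mem_pCore_of_mem_fitting (pow_mem hy m) hsm
    rw [MonoidHom.mem_ker]
    refine MulEquiv.ext fun v => ?_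
    obtain ⟨x, rfl⟩ := QuotientGroup.mk_surjective v
    rw [hact, MulAut.one_apply]
    by_cases hst : s = l
    · subst hst
      have e : MulAut.conjNormal (y ^ m) x = (⟨y ^ m, hys⟩ : O) * x * (⟨y ^ m, hys⟩ : O)⁻¹ :=
        Subtype.ext (by rw [MulAut.conjNormal_apply]; rfl)
      rw [e, QuotientGroup.mk_mul, QuotientGroup.mk_mul, QuotientGroup.mk_inv, mul_comm,
        inv_mul_cancel_left]
    · haveI := CfsgLib.Solvable.pCore_normal (p := s) G
      have hc : Commute (y ^ m) (x : G) := Subgroup.commute_of_normal_of_disjoint _ _ inferInstance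
        inferInstance (disjoint_iff.2 (Subgroup.inf_eq_bot_of_coprime
          (CfsgLib.FourPrimes.coprime_card hs hl.out hst (CfsgLib.Solvable.pCore_isPGroup _ G) hOp)))
        _ _ hys x.2
      congr 1
      refine Subtype.ext ?_
      rw [MulAut.conjNormal_apply, hc.eq, mul_inv_cancel_right]
  let actQ : G ⧸ (Cfsg.fittingSubgroup G) →* MulAut (O ⧸ Φ) :=
    QuotientGroup.lift (Cfsg.fittingSubgroup G) act hFker
  obtain ⟨σO, hσO⟩ := CfsgLib.Solvable.exists_restrict σ O
    fun x hx => char_mem (CfsgLib.Solvable.pCore_characteristic _ G) σ hx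
  set σA := bar σO with hσA
  have hσAapp : ∀ x : O, σA (x : O ⧸ Φ) = ((σO x : O) : O ⧸ Φ) := fun x => rfl
  have hσON : σO ^ p ^ k = 1 :=
    MulEquiv.ext fun x => Subtype.ext (by rw [CfsgLib.Solvable.restrict_pow hσO, hσ]; rfl)
  have hσAN : σA ^ p ^ k = 1 := by rw [hσA, ← map_pow, hσON, map_one]
  have hσAfpf : ∀ a, σA a = a → a = 1 := by
    intro a ha
    obtain ⟨x, rfl⟩ := QuotientGroup.mk_surjective a
    rw [hσAapp] at ha
    have hncop : ¬ p ∣ Nat.card Φ := fun hd => hpG <| hd.trans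
      ((Subgroup.card_subgroup_dvd_card Φ).trans (Subgroup.card_subgroup_dvd_card O))
    obtain ⟨c, hc, hxc⟩ := CfsgLib.ShultGross.exists_fixed_mem_coset (p := p) (k := k) σO hσON Φ
      (fun y hy => char_mem hΦchar σO hy) hncop (QuotientGroup.eq.1 ha.symm)
    have h1 : ((x * c : O) : G) = 1 := hfpf _ ((hσO _).symm.trans (congrArg Subtype.val hxc))
    rw [(mul_eq_one_iff_eq_inv.1 (Subtype.ext h1 : x * c = 1))]
    exact (QuotientGroup.eq_one_iff _).2 (inv_mem hc)
  obtain ⟨d, M, hM, hMsum⟩ := CfsgLib.ShultGross.exists_rep (t := l) hexp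
  refine ⟨d, M.comp actQ, M σA, fun h => ?_, by rw [← map_pow, hσAN, map_one], hMsum σA _ hσAN hσAfpf,
    fun g hg x hx => ?_⟩
  · rw [MonoidHom.comp_apply, MonoidHom.comp_apply, ← map_mul, ← map_mul]
    congr 1
    obtain ⟨h, rfl⟩ := QuotientGroup.mk_surjective h
    refine MulEquiv.ext fun v => ?_
    obtain ⟨x, rfl⟩ := QuotientGroup.mk_surjective v
    show σA (act h (x : O ⧸ Φ)) = act (σ h) (σA (x : O ⧸ Φ))
    rw [hact, hσAapp, hσAapp, hact]
    congr 1
    refine Subtype.ext ?_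
    simp [hσO, MulAut.conjNormal_apply]
  · have h1 : act g = 1 := hM (hg.trans (map_one M).symm)
    have h2 := DFunLike.congr_fun h1 ((⟨x, hx⟩ : O) : O ⧸ Φ)
    rw [hact, MulAut.one_apply, ← mul_inv_eq_one, ← QuotientGroup.mk_inv, ← QuotientGroup.mk_mul,
      QuotientGroup.eq_one_iff] at h2
    exact ⟨_, h2, by simp [MulAut.conjNormal_apply]⟩

omit [Finite G] in
theorem congr_fpf [Finite G] {p k : ℕ} [hp : Fact p.Prime] (σ : MulAut G) (hσ : σ ^ p ^ k = 1)
    (hfpf : ∀ g, σ g = g → g = 1) (M : Subgroup G) [M.Normal] (hM : M.map (σ : G →* G) = M) :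
    QuotientGroup.congr M M σ hM ^ p ^ k = 1 ∧ ∀ x, QuotientGroup.congr M M σ hM x = x → x = 1 := by
  refine ⟨MulEquiv.ext fun x => ?_, fun x hx => ?_⟩
  · obtain ⟨y, rfl⟩ := QuotientGroup.mk_surjective x
    rw [pow_congr, hσ]; rfl
  · obtain ⟨y, rfl⟩ := QuotientGroup.mk_surjective x
    obtain ⟨c, hc, hyc⟩ := CfsgLib.ShultGross.exists_fixed_mem_coset (p := p) (k := k) σ hσ M
      (fun z hz => hM.le ⟨z, hz, rfl⟩)
      (fun hd => not_dvd_card σ hσ hfpf (hd.trans (Subgroup.card_subgroup_dvd_card M)))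
      (QuotientGroup.eq.1 hx.symm)
    rw [mul_eq_one_iff_eq_inv.1 (hfpf _ hyc)]
    exact (QuotientGroup.eq_one_iff _).2 (inv_mem hc)

/-- The involutory power fixes the cores of the second Fitting quotient. -/
theorem core_fixed {N r : ℕ} [hr : Fact r.Prime] (hr2 : r ≠ 2) (σ : MulAut G)
    (hσ : σ ^ 2 ^ (N + 1) = 1) (hfpf : ∀ g, σ g = g → g = 1)
    [hFn : (Cfsg.fittingSubgroup G).Normal]
    (hF : (Cfsg.fittingSubgroup G).map (σ : G →* G) = Cfsg.fittingSubgroup G)
    [hFn' : (Cfsg.fittingSubgroup (G ⧸ Cfsg.fittingSubgroup G)).Normal]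
    (hF' : (Cfsg.fittingSubgroup (G ⧸ Cfsg.fittingSubgroup G)).map
      ((QuotientGroup.congr _ _ σ hF : MulAut _) : _ →* _) = Cfsg.fittingSubgroup (G ⧸ Cfsg.fittingSubgroup G)) :
    ∀ u ∈ Cfsg.pCore r ((G ⧸ Cfsg.fittingSubgroup G) ⧸ Cfsg.fittingSubgroup (G ⧸ Cfsg.fittingSubgroup G)),
      ((QuotientGroup.congr _ _ (QuotientGroup.congr _ _ σ hF) hF') ^ 2 ^ N) u = u := by
  classical
  haveI : Fact (Nat.Prime 2) := ⟨Nat.prime_two⟩
  have h2G := not_dvd_card σ hσ hfpf
  obtain ⟨hσ1N, hσ1fpf⟩ := congr_fpf σ hσ hfpf _ hF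
  set σ1 : MulAut (G ⧸ Cfsg.fittingSubgroup G) := QuotientGroup.congr _ _ σ hF with hσ1
  set F1 := Cfsg.fittingSubgroup (G ⧸ Cfsg.fittingSubgroup G) with hF1
  set Or := Cfsg.pCore r ((G ⧸ Cfsg.fittingSubgroup G) ⧸ F1) with hOr
  intro u hu
  set σ2 : MulAut ((G ⧸ Cfsg.fittingSubgroup G) ⧸ F1) := QuotientGroup.congr _ _ σ1 hF' with hσ2
  set P := Or.comap (QuotientGroup.mk' F1) with hP
  have hPinv : ∀ x ∈ P, σ1 x ∈ P := fun x hx => by
    show ((σ1 x : G ⧸ Cfsg.fittingSubgroup G) : (G ⧸ Cfsg.fittingSubgroup G) ⧸ F1) ∈ Or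
    exact char_mem (CfsgLib.Solvable.pCore_characteristic _ _) σ2 hx
  obtain ⟨σP, hσP⟩ := CfsgLib.Solvable.exists_restrict σ1 P hPinv
  have hσPfpf : ∀ x, σP x = x → x = 1 := fun x hx =>
    Subtype.ext (hσ1fpf _ ((hσP x).symm.trans (congrArg Subtype.val hx)))
  obtain ⟨R, hR⟩ := CfsgLib.Solvable.exists_invariant_sylow_of_fpf hσPfpf r
  let f : P →* Or := ((QuotientGroup.mk' F1).comp P.subtype).codRestrict Or fun x => x.2
  have hf : Function.Surjective f := by
    rintro ⟨y, hy⟩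
    obtain ⟨x, rfl⟩ := QuotientGroup.mk_surjective y
    exact ⟨⟨x, hy⟩, rfl⟩
  have hOrp : IsPGroup r Or := CfsgLib.Solvable.pCore_isPGroup _ _
  have htop : (R : Subgroup P).map f = ⊤ := by
    rw [← Sylow.coe_mapSurjective hf]
    exact ((R.mapSurjective hf).3 (hOrp.to_subgroup ⊤) le_top).symm
  obtain ⟨g, hgR, hgu⟩ := (htop.ge (Subgroup.mem_top (⟨u, hu⟩ : Or)))
  have hgu' : ((g : G ⧸ Cfsg.fittingSubgroup G) : (G ⧸ Cfsg.fittingSubgroup G) ⧸ F1) = u :=
    congrArg Subtype.val hgu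
  set RG := (R : Subgroup P).map P.subtype with hRG
  have hRGp : IsPGroup r RG := R.2.map P.subtype
  have hRGinv : ∀ x ∈ RG, σ1 x ∈ RG := by
    rintro _ ⟨x, hx, rfl⟩
    exact ⟨σP x, hR x hx, hσP x⟩
  set y : G ⧸ Cfsg.fittingSubgroup G :=
    (g : G ⧸ Cfsg.fittingSubgroup G)⁻¹ * (σ1 ^ 2 ^ N) (g : G ⧸ Cfsg.fittingSubgroup G) with hy
  have hgRG : (g : G ⧸ Cfsg.fittingSubgroup G) ∈ RG := ⟨g, hgR, rfl⟩
  have hyRG : y ∈ RG := mul_mem (inv_mem hgRG) (CfsgLib.Solvable.pow_mem_of_invariant hRGinv _ hgRG)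
  suffices hyF : y ∈ F1 by
    rw [← hgu', hσ2, pow_congr]
    exact (QuotientGroup.eq.2 hyF).symm
  refine mem_fitting_of_centralizes (t := r) ?_ fun t ht htr => ?_
  · obtain ⟨x, -, hx⟩ := hyRG
    rw [← hx]
    exact x.2
  haveI := Fact.mk (Nat.prime_of_mem_primeFactors ht)
  have ht2 : t ≠ 2 := fun e => h2G (e ▸ (Nat.dvd_of_mem_primeFactors ht).trans
    (Subgroup.card_quotient_dvd_card _))
  haveI := CfsgLib.Solvable.pCore_normal (p := t) (G ⧸ Cfsg.fittingSubgroup G)
  set T := Cfsg.pCore t (G ⧸ Cfsg.fittingSubgroup G) with hT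
  obtain ⟨s, hs⟩ := CfsgLib.Solvable.exists_restrict σ1 T
    fun x hx => char_mem (CfsgLib.Solvable.pCore_characteristic _ _) σ1 hx
  let act : G ⧸ Cfsg.fittingSubgroup G →* MulAut T := MulAut.conjNormal
  have hact : ∀ h, s * act h * s⁻¹ = act (σ1 h) := fun h => by
    rw [mul_inv_eq_iff_eq_mul]
    refine MulEquiv.ext fun x => Subtype.ext ?_
    simp [act, hs, MulAut.conjNormal_apply]
  have hfix := CfsgLib.ShultGross.layer_fixed (N := N) (r := r) ht2 hr2 (Ne.symm htr)
    (CfsgLib.Solvable.pCore_isPGroup _ _) s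
    (MulEquiv.ext fun x => Subtype.ext (by rw [CfsgLib.Solvable.restrict_pow hs, hσ1N]; rfl))
    (fun x hx => Subtype.ext (hσ1fpf _ ((hs x).symm.trans (congrArg Subtype.val hx))))
    (fun k hk => by
      obtain ⟨g', hg'⟩ := QuotientGroup.mk_surjective (k : G ⧸ Cfsg.fittingSubgroup G)
      by_contra hno
      refine hk (Subtype.ext ?_)
      rw [← hg', Subgroup.coe_one, QuotientGroup.eq_one_iff]
      refine mem_fitting_of_layers (t := t) (by rw [hg']; exact k.2) fun l hl hlt => ?_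
      haveI := Fact.mk (Nat.prime_of_mem_primeFactors hl)
      obtain ⟨m, ρ, X, hconj, hX, hsum, htriv⟩ := exists_layer_rep (l := l) σ hσ hfpf hF
      refine htriv g' ?_
      by_contra hρ
      refine hno ⟨l, inferInstance, m, ρ.comp T.subtype, X, hlt,
        fun e => h2G (e ▸ Nat.dvd_of_mem_primeFactors hl), fun x => ?_, hX, hsum, ?_⟩
      · rw [MonoidHom.comp_apply, MonoidHom.comp_apply, Subgroup.subtype_apply, Subgroup.subtype_apply, hs]
        exact hconj x
      · rw [MonoidHom.comp_apply, Subgroup.subtype_apply, ← hg']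
        exact hρ)
    (RG.map act) (hRGp.map act)
    (by rintro _ ⟨h, hh, rfl⟩; exact ⟨σ1 h, hRGinv h hh, (hact h).symm⟩)
    (act (g : G ⧸ Cfsg.fittingSubgroup G)) ⟨_, hgRG, rfl⟩
  have hactpow : ∀ (i : ℕ) h, s ^ i * act h * (s ^ i)⁻¹ = act ((σ1 ^ i) h) := by
    intro i
    induction i with
    | zero => intro h; simp
    | succ i ih =>
      intro h
      rw [pow_succ σ1, MulAut.mul_apply, ← ih, ← hact, pow_succ s]
      group
  have h1 : act y = 1 := by
    rw [hy, map_mul, map_inv, ← hactpow, hfix.eq, mul_inv_cancel_right, inv_mul_cancel]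
  refine Subgroup.mem_centralizer_iff.2 fun x hx => ?_
  have h2 := congrArg Subtype.val (DFunLike.congr_fun h1 (⟨x, hx⟩ : T))
  simp only [act, MulAut.conjNormal_apply, MulAut.one_apply] at h2
  exact (mul_inv_eq_iff_eq_mul.1 h2).symm

/-- A chain of normal subgroups with nilpotent factors. -/
def Chain (G : Type u) [Group G] (m : ℕ) : Prop :=
  ∃ F : Fin (m + 1) → Subgroup G, F 0 = ⊥ ∧ F (Fin.last m) = ⊤ ∧ Monotone F ∧ (∀ i, (F i).Normal) ∧
    ∀ i : Fin m, ∃ k : ℕ, (F i.succ).lowerCentralSeries k ≤ F i.castSucc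

theorem chain_fitting [hFn : (Cfsg.fittingSubgroup G).Normal] {m : ℕ}
    (h : Chain (G ⧸ Cfsg.fittingSubgroup G) m) : Chain G (m + 1) := by
  obtain ⟨F', h0, h1, hmono, hn, hk⟩ := h
  set F0 := Cfsg.fittingSubgroup G
  set q := QuotientGroup.mk' F0
  refine ⟨Fin.cases ⊥ fun i => (F' i).comap q, rfl, ?_, ?_, ?_, ?_⟩
  · simp only [← Fin.succ_last, Fin.cases_succ, h1, Subgroup.comap_top]
  · intro i j hij
    cases i using Fin.cases with
    | zero => simp
    | succ i =>
      cases j using Fin.cases with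
      | zero => exact absurd hij (by simp [Fin.le_def])
      | succ j =>
        simp only [Fin.cases_succ]
        exact Subgroup.comap_mono (hmono (Fin.succ_le_succ_iff.1 hij))
  · intro i
    cases i using Fin.cases with
    | zero => simp only [Fin.cases_zero]; infer_instance
    | succ i => simp only [Fin.cases_succ]; exact (hn i).comap q
  · intro i
    cases i using Fin.cases with
    | zero =>
      obtain ⟨k, hk⟩ := exists_lowerCentralSeries_eq_bot F0 (CfsgLib.Solvable.fittingSubgroup_isNilpotent G)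
      refine ⟨k, ?_⟩
      simp only [Fin.cases_succ, Fin.castSucc_zero, Fin.cases_zero, h0, MonoidHom.comap_bot, q,
        QuotientGroup.ker_mk', hk, le_refl]
    | succ i =>
      obtain ⟨k, hk⟩ := hk i
      refine ⟨k, ?_⟩
      simp only [Fin.cases_succ, Fin.castSucc_succ]
      rw [← Subgroup.map_le_iff_le_comap, ← map_lowerCentralSeries,
        Subgroup.map_comap_eq_self_of_surjective (QuotientGroup.mk'_surjective F0)]
      exact hk

/-- The bound. -/
theorem height : ∀ (N : ℕ) (G : Type u) [Group G] [Finite G] [Group.IsSolvable G] (σ : MulAut G),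
    σ ^ 2 ^ (N + 2) = 1 → (∀ g, σ g = g → g = 1) → Chain G (2 * N + 2) := by
  intro N
  induction N with
  | zero =>
    intro G _ _ _ σ hσ hfpf
    have hnil : Group.IsNilpotent (commutator G) :=
      Cfsg.Agent.S3794.result inferInstance σ (by simpa using hσ) hfpf
    obtain ⟨k, hk⟩ := exists_lowerCentralSeries_eq_bot (commutator G) hnil
    refine ⟨![⊥, commutator G, ⊤], rfl, rfl, ?_, ?_, ?_⟩
    · intro i j hij
      fin_cases i <;> fin_cases j <;> simp_all
    · intro i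
      fin_cases i <;> simp <;> infer_instance
    · intro i
      fin_cases i
      · exact ⟨k, by simp [hk]⟩
      · refine ⟨1, ?_⟩
        simp [Subgroup.lowerCentralSeries_succ, commutator_def]
  | succ N ih =>
    intro G _ _ _ σ hσ hfpf
    haveI : Fact (Nat.Prime 2) := ⟨Nat.prime_two⟩
    have h2G := not_dvd_card σ hσ hfpf
    haveI hFn := CfsgLib.Solvable.fittingSubgroup_normal G
    have hF := char_map (CfsgLib.Solvable.fittingSubgroup_characteristic G) σ
    obtain ⟨hσ1N, hσ1fpf⟩ := congr_fpf σ hσ hfpf _ hF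
    set σ1 : MulAut (G ⧸ Cfsg.fittingSubgroup G) := QuotientGroup.congr _ _ σ hF with hσ1
    haveI hFn' := CfsgLib.Solvable.fittingSubgroup_normal (G ⧸ Cfsg.fittingSubgroup G)
    have hF' := char_map (CfsgLib.Solvable.fittingSubgroup_characteristic (G ⧸ Cfsg.fittingSubgroup G)) σ1
    obtain ⟨hσ2N, hσ2fpf⟩ := congr_fpf σ1 hσ1N hσ1fpf _ hF'
    set F1 := Cfsg.fittingSubgroup (G ⧸ Cfsg.fittingSubgroup G) with hF1
    set σ2 : MulAut ((G ⧸ Cfsg.fittingSubgroup G) ⧸ F1) := QuotientGroup.congr _ _ σ1 hF' with hσ2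
    set z := σ2 ^ 2 ^ (N + 2) with hzdef
    have hz2 : z ^ 2 ^ 1 = 1 := by rw [pow_one, hzdef, ← pow_mul, ← pow_succ, hσ2N]
    set G2 := (G ⧸ Cfsg.fittingSubgroup G) ⧸ F1
    have h2G2 : ¬ 2 ∣ Nat.card G2 := not_dvd_card σ2 hσ2N hσ2fpf
    have hFfix : ∀ x ∈ Cfsg.fittingSubgroup G2, z x = x := by
      have hle : Cfsg.fittingSubgroup G2 ≤ z.toMonoidHom.eqLocus (MonoidHom.id _) := by
        refine (CfsgLib.Solvable.fittingSubgroup_eq_iSup_pCore (G := G2)).trans_le (iSup_le fun r x hx => ?_)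
        haveI := Fact.mk (Nat.prime_of_mem_primeFactors r.2)
        exact core_fixed (N := N + 2) (fun e => h2G2 (e ▸ Nat.dvd_of_mem_primeFactors r.2)) σ hσ hfpf hF hF' x hx
      exact fun x hx => hle hx
    have hz1 : z = 1 := by
      haveI := CfsgLib.Solvable.fittingSubgroup_normal G2
      refine MulEquiv.ext fun g => ?_
      have hyC : g⁻¹ * z g ∈ Subgroup.centralizer (Cfsg.fittingSubgroup G2 : Set G2) := by
        rw [Subgroup.mem_centralizer_iff]
        intro f hf
        have h1 := hFfix _ (Subgroup.Normal.conj_mem inferInstance f hf g)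
        rw [map_mul, map_mul, map_inv, hFfix f hf] at h1
        calc f * (g⁻¹ * z g) = g⁻¹ * (g * f * g⁻¹) * z g := by group
          _ = g⁻¹ * z g * f := by rw [← h1]; group
      obtain ⟨c, hc, hgc⟩ := CfsgLib.ShultGross.exists_fixed_mem_coset (p := 2) (k := 1) z hz2
        (Cfsg.fittingSubgroup G2) (fun x hx => by rw [hFfix x hx]; exact hx)
        (fun hd => h2G2 (hd.trans (Subgroup.card_subgroup_dvd_card _)))
        (CfsgLib.Solvable.centralizer_fittingSubgroup_le hyC)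
      rw [map_mul, hFfix c hc] at hgc
      exact mul_right_cancel hgc
    exact chain_fitting (chain_fitting (ih G2 σ2 hz1 hσ2fpf))

/-- Gross's Theorem: let G be a finite solvable group with an automorphism σ of order 2^n, n > 1, fixing only the identity. Then G has Fitting height at most 2n − 2: G has Fitting height at most m when there is a chain of normal subgroups 1 = F₀ ≤ F₁ ≤ ⋯ ≤ F_m = G with each F_{i+1}/F_i nilpotent. -/
theorem result {G : Type*} [Group G] [Finite G] (hG : Group.IsSolvable G) (σ : MulAut G) (n : ℕ) (hn : 1 < n) (hσ : orderOf σ = 2 ^ n) (hfpf : ∀ g : G, σ g = g → g = 1) : ∃ F : Fin ((2 * n - 2) + 1) → Subgroup G, F 0 = ⊥ ∧ F (Fin.last (2 * n - 2)) = ⊤ ∧ Monotone F ∧ (∀ i, (F i).Normal) ∧ ∀ i : Fin (2 * n - 2), ∃ k : ℕ, (F i.succ).lowerCentralSeries k ≤ F i.castSucc := by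
  haveI := hG
  obtain ⟨N, rfl⟩ : ∃ N, n = N + 2 := ⟨n - 2, by omega⟩
  rw [show 2 * (N + 2) - 2 = 2 * N + 2 by omega]
  exact height N G σ (by rw [← hσ, pow_orderOf_eq_one]) hfpf

end Cfsg.Agent.S3795
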