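import Cfsg.Statements.S3796
import Cfsg.Agent.Lib.Solvable.FixedPointFree
import Cfsg.Agent.Lib.Solvable.CoprimeMulAction
import Cfsg.Agent.Lib.OddOrder.Fitting
import Mathlib.GroupTheory.Solvable
import Mathlib.GroupTheory.Nilpotent
import Mathlib.GroupTheory.PGroup
import Mathlib.GroupTheory.Sylow
import Mathlib.Algebra.CharP.Lemmas
import Mathlib.Algebra.Ring.Subring.Basic
import Mathlib.RingTheory.Nilpotent.Lemmas
import Mathlib.RingTheory.Ideal.Quotient.Basic
import Mathlib.Tactic.Group
import Mathlib.Tactic.NoncommRing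

set_option autoImplicit false
open Cfsg
open scoped commutatorElement IsMulCommutative

namespace Cfsg.Agent.S3796

universe u

variable {G : Type u} [Group G] [Finite G]

/-- The hypotheses of Ward's theorem on the group of automorphisms. -/
structure Hyp (p : ℕ) (A : Subgroup (MulAut G)) : Prop where
  prime : p.Prime
  comm : ∀ a b : A, a * b = b * a
  pow : ∀ a : A, a ^ p = 1
  card : Nat.card A = p ^ 2
  fpf : ∀ g : G, (∀ a : A, (a : MulAut G) g = g) → g = 1

variable {p : ℕ} {A : Subgroup (MulAut G)}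

theorem Hyp.isPGroup (h : Hyp p A) : IsPGroup p A := fun a => ⟨1, by rw [pow_one]; exact h.pow a⟩

theorem Hyp.not_dvd_card (h : Hyp p A) : ¬ p ∣ Nat.card G := by
  intro hd
  have : Fact p.Prime := ⟨h.prime⟩
  obtain ⟨b, hb, hb1⟩ := h.isPGroup.exists_fixed_point_of_prime_dvd_card_of_fixed_point G hd
    (a := (1 : G)) (fun g => map_one (g : MulAut G))
  exact hb1 (h.fpf b fun a => hb a).symm

theorem Hyp.coprime (h : Hyp p A) (H : Subgroup G) : (Nat.card A).Coprime (Nat.card H) := by
  rw [h.card]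
  exact Nat.Coprime.pow_left 2 (h.prime.coprime_iff_not_dvd.mpr fun hd =>
    h.not_dvd_card (hd.trans (Subgroup.card_subgroup_dvd_card H)))

theorem Hyp.apply_comm (h : Hyp p A) (a b : A) (x : G) :
    (a : MulAut G) ((b : MulAut G) x) = (b : MulAut G) ((a : MulAut G) x) :=
  congrArg (fun f : A => (f : MulAut G) x) (h.comm a b)

theorem Hyp.card_zpowers (h : Hyp p A) {b : A} (hb : b ≠ 1) : Nat.card (Subgroup.zpowers b) = p := by
  have : Fact p.Prime := ⟨h.prime⟩
  rw [Nat.card_zpowers, orderOf_eq_prime (h.pow b) hb]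

theorem Hyp.eq_top (h : Hyp p A) {S : Subgroup A} {b c : A} (hb : b ∈ S) (hc : c ∈ S) (hb1 : b ≠ 1)
    (hcb : c ∉ Subgroup.zpowers b) : S = ⊤ := by
  obtain ⟨i, hi, hiS⟩ := (Nat.dvd_prime_pow h.prime).mp (h.card ▸ Subgroup.card_subgroup_dvd_card S)
  rcases Nat.lt_or_eq_of_le hi with hlt | heq
  · have hle : Subgroup.zpowers b ≤ S := Subgroup.zpowers_le.mpr hb
    have hcard : Nat.card S ≤ Nat.card (Subgroup.zpowers b) := by
      rw [h.card_zpowers hb1, hiS]
      calc p ^ i ≤ p ^ 1 := Nat.pow_le_pow_right h.prime.pos (Nat.lt_succ_iff.mp hlt)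
        _ = p := pow_one p
    exact absurd ((Subgroup.eq_of_le_of_card_ge hle hcard).ge hc) hcb
  · exact Subgroup.eq_top_of_card_eq S (by rw [hiS, heq, h.card])

theorem Hyp.mem_zpowers_symm (h : Hyp p A) {b c : A} (hb : b ∈ Subgroup.zpowers c) (hb1 : b ≠ 1) :
    c ∈ Subgroup.zpowers b := by
  have hc1 : c ≠ 1 := by
    rintro rfl
    rw [Subgroup.zpowers_one_eq_bot, Subgroup.mem_bot] at hb
    exact hb1 hb
  have he := Subgroup.eq_of_le_of_card_ge (Subgroup.zpowers_le.mpr hb)
    (by rw [h.card_zpowers hb1, h.card_zpowers hc1])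
  rw [he]
  exact Subgroup.mem_zpowers c

theorem Hyp.exists_not_mem (h : Hyp p A) (b : A) : ∃ c : A, c ∉ Subgroup.zpowers b := by
  by_contra hno
  push Not at hno
  have htop : Subgroup.zpowers b = ⊤ := eq_top_iff.mpr fun x _ => hno x
  have hcard : Nat.card (Subgroup.zpowers b) = p ^ 2 := by rw [htop, Subgroup.card_top, h.card]
  rw [Nat.card_zpowers] at hcard
  have hle : orderOf b ≤ p := Nat.le_of_dvd h.prime.pos (orderOf_dvd_of_pow_eq_one (h.pow b))
  nlinarith [h.prime.two_le]

/-- The automorphisms fixing a given element. -/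
def fixer (A : Subgroup (MulAut G)) (x : G) : Subgroup A where
  carrier := {a | (a : MulAut G) x = x}
  one_mem' := rfl
  mul_mem' := fun {a b} ha hb => by
    show (a : MulAut G) ((b : MulAut G) x) = x
    rw [show (b : MulAut G) x = x from hb]
    exact ha
  inv_mem' := fun {a} ha => by
    show (a : MulAut G).symm x = x
    exact (MulEquiv.symm_apply_eq _).mpr (Eq.symm ha)

theorem Hyp.eq_one_of_fix (h : Hyp p A) {x : G} {b d : A} (hb1 : b ≠ 1)
    (hd : d ∉ Subgroup.zpowers b) (hbx : (b : MulAut G) x = x) (hdx : (d : MulAut G) x = x) :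
    x = 1 := by
  have e := h.eq_top (S := fixer A x) hbx hdx hb1 hd
  exact h.fpf x fun a => (e ▸ Subgroup.mem_top a : a ∈ fixer A x)

/-- A coset invariant under some automorphisms has a point fixed by them. -/
theorem Hyp.exists_fixed (h : Hyp p A) (B : Subgroup A) (C : Subgroup G)
    (hC : ∀ a : A, ∀ x ∈ C, (a : MulAut G) x ∈ C) (x : G)
    (hx : ∀ b ∈ B, x⁻¹ * (b : MulAut G) x ∈ C) :
    ∃ y, x⁻¹ * y ∈ C ∧ ∀ b ∈ B, (b : MulAut G) y = y := by
  have : Fact p.Prime := ⟨h.prime⟩
  have hcl : ∀ b ∈ B, ∀ y, x⁻¹ * y ∈ C → x⁻¹ * (b : MulAut G) y ∈ C := by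
    intro b hb y hy
    have e : x⁻¹ * (b : MulAut G) y = (x⁻¹ * (b : MulAut G) x) * (b : MulAut G) (x⁻¹ * y) := by
      simp [mul_assoc]
    rw [e]
    exact mul_mem (hx b hb) (hC b _ hy)
  letI : MulAction B {y : G // x⁻¹ * y ∈ C} :=
    { smul := fun b y => ⟨((b : A) : MulAut G) y, hcl b b.2 y y.2⟩
      one_smul := fun y => Subtype.ext rfl
      mul_smul := fun b b' y => Subtype.ext rfl }
  have hcard : Nat.card {y : G // x⁻¹ * y ∈ C} = Nat.card C :=
    Nat.card_congr ((Equiv.mulLeft x⁻¹).subtypeEquiv fun y => Iff.rfl)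
  obtain ⟨y, hy⟩ := (h.isPGroup.to_subgroup B).nonempty_fixed_point_of_prime_not_dvd_card
    {y : G // x⁻¹ * y ∈ C}
    (by rw [hcard]; exact fun hd => h.not_dvd_card (hd.trans (Subgroup.card_subgroup_dvd_card C)))
  exact ⟨y, y.2, fun b hb => congrArg Subtype.val (hy ⟨b, hb⟩)⟩

theorem Hyp.mem_of_forall (h : Hyp p A) (C : Subgroup G)
    (hC : ∀ a : A, ∀ x ∈ C, (a : MulAut G) x ∈ C) {x : G}
    (hx : ∀ a : A, x⁻¹ * (a : MulAut G) x ∈ C) : x ∈ C := by
  obtain ⟨y, hy, hfix⟩ := h.exists_fixed ⊤ C hC x fun b _ => hx b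
  rw [h.fpf y fun a => hfix a (Subgroup.mem_top a), mul_one] at hy
  exact inv_mem_iff.mp hy

/-- The fixed subgroup of an automorphism. -/
def fixSub (σ : MulAut G) : Subgroup G where
  carrier := {x | σ x = x}
  one_mem' := map_one σ
  mul_mem' := fun {x y} hx hy => by
    show σ (x * y) = x * y
    rw [map_mul, show σ x = x from hx, show σ y = y from hy]
  inv_mem' := fun {x} hx => by
    show σ x⁻¹ = x⁻¹
    rw [map_inv, show σ x = x from hx]

theorem Hyp.nilpotent_fix (h : Hyp p A) [Group.IsSolvable G] {b : A} (hb1 : b ≠ 1) :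
    Group.IsNilpotent (fixSub (b : MulAut G)) := by
  obtain ⟨c, hc⟩ := h.exists_not_mem b
  have hinv : ∀ x ∈ fixSub (b : MulAut G), (c : MulAut G) x ∈ fixSub (b : MulAut G) := by
    intro x hx
    show (b : MulAut G) ((c : MulAut G) x) = (c : MulAut G) x
    rw [h.apply_comm, show (b : MulAut G) x = x from hx]
  obtain ⟨ψ, hψ⟩ := CfsgLib.Solvable.exists_restrict (c : MulAut G) _ hinv
  refine CfsgLib.Solvable.isNilpotent_of_fpf_solvable h.prime _ _ ψ rfl ?_ ?_
  · refine MulEquiv.ext fun x => Subtype.ext ?_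
    rw [CfsgLib.Solvable.restrict_pow hψ, ← SubmonoidClass.coe_pow, h.pow c]
    rfl
  · intro x hx
    exact Subtype.ext (h.eq_one_of_fix hb1 hc x.2 (by rw [← hψ, hx]))

/-- An invariant subgroup is generated by its centralizers of non-identity automorphisms. -/
theorem Hyp.gen (h : Hyp p A) (N W : Subgroup G) (hN : ∀ a : A, ∀ x ∈ N, (a : MulAut G) x ∈ N)
    (hW : ∀ b : A, b ≠ 1 → ∀ x ∈ N, (b : MulAut G) x = x → x ∈ W) : N ≤ W := by
  letI : MulDistribMulAction A N :=
    { smul := fun a x => ⟨(a : MulAut G) x, hN a x x.2⟩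
      one_smul := fun x => Subtype.ext rfl
      mul_smul := fun a b x => Subtype.ext rfl
      smul_mul := fun a x y => Subtype.ext (map_mul (a : MulAut G) _ _)
      smul_one := fun a => Subtype.ext (map_one (a : MulAut G)) }
  have : IsMulCommutative A := ⟨⟨h.comm⟩⟩
  have hnc : ¬ IsCyclic A := by
    intro hcyc
    obtain ⟨g, hg⟩ := hcyc.exists_generator
    obtain ⟨c, hc⟩ := h.exists_not_mem g
    exact hc (hg c)
  have e := CfsgLib.Solvable.eq_top_of_smul_fixed_mem (A := A) (K := N) hnc (h.coprime N)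
    (W.subgroupOf N) fun a ha x hx => hW a ha x x.2 (congrArg Subtype.val hx)
  exact Subgroup.subgroupOf_eq_top.mp e

/-- The main step, for an abstract irreducible module. -/
theorem key [Group.IsSolvable G] (h : Hyp p A) {E : Type u} [Ring E] (r : G →* E) (s : A →* E)
    (hsr : ∀ (a : A) (g : G), s a * r g = r ((a : MulAut G) g) * s a)
    {q : ℕ} (hq : q.Prime) (hqE : (q : E) = 0) [Fintype A] (hsum : ∑ a : A, s a = 0)
    (hfix : ∀ b : A, b ≠ 1 → ∀ x : G, (b : MulAut G) x = x → (orderOf x).Coprime q →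
      ∀ e : E, s b * e = e → r x * e = e)
    (hpg : ∀ B : Subgroup G, B.Normal → (∀ a : A, ∀ x ∈ B, (a : MulAut G) x ∈ B) →
      (∀ x ∈ B, ∃ k, r x ^ q ^ k = 1) → ∀ x ∈ B, r x = 1)
    (hirr : ∀ B : Subgroup G, B.Normal → (∀ a : A, ∀ x ∈ B, (a : MulAut G) x ∈ B) →
      (∃ x ∈ B, r x ≠ 1) → ∀ e : E, (∀ x ∈ B, r x * e = e) → e = 0) :
    ∃ N : ℕ, (⊤ : Subgroup G).lowerCentralSeries N ≤ r.ker := by
  classical
  have : Fact p.Prime := ⟨h.prime⟩
  have : Fact q.Prime := ⟨hq⟩
  set C := r.ker with hCdef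
  have hC : ∀ {x}, x ∈ C ↔ r x = 1 := fun {x} => MonoidHom.mem_ker
  by_cases hCtop : C = ⊤
  · exact ⟨0, le_top.trans hCtop.ge⟩
  have hru : ∀ g, r g * r g⁻¹ = 1 := fun g => by rw [← map_mul, mul_inv_cancel, map_one]
  have hru' : ∀ g, r g⁻¹ * r g = 1 := fun g => by rw [← map_mul, inv_mul_cancel, map_one]
  have hsu : ∀ a : A, s a * s a⁻¹ = 1 := fun a => by rw [← map_mul, mul_inv_cancel, map_one]
  have hsu' : ∀ a : A, s a⁻¹ * s a = 1 := fun a => by rw [← map_mul, inv_mul_cancel, map_one]
  have hrinv : ∀ {g k : G}, r g = r k → r g⁻¹ = r k⁻¹ := by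
    intro g k e
    calc r g⁻¹ = r g⁻¹ * (r k * r k⁻¹) := by rw [hru, mul_one]
      _ = r k⁻¹ := by rw [← e, ← mul_assoc, hru', one_mul]
  have hreq : ∀ {g k : G}, r g = r k ↔ g⁻¹ * k ∈ C := by
    intro g k
    constructor
    · intro e
      rw [hC, map_mul, ← e, hru']
    · intro e
      calc r g = r g * r (g⁻¹ * k) := by rw [hC.mp e, mul_one]
        _ = r k := by rw [← map_mul, mul_inv_cancel_left]
  have hequiv : ∀ (a : A) {g k : G}, r g = r k → r ((a : MulAut G) g) = r ((a : MulAut G) k) := by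
    intro a g k e
    calc r ((a : MulAut G) g) = r ((a : MulAut G) g) * s a * s a⁻¹ := by rw [mul_assoc, hsu, mul_one]
      _ = r ((a : MulAut G) k) * s a * s a⁻¹ := by rw [← hsr, ← hsr, e]
      _ = r ((a : MulAut G) k) := by rw [mul_assoc, hsu, mul_one]
  have hCA : ∀ a : A, ∀ x ∈ C, (a : MulAut G) x ∈ C := by
    intro a x hx
    rw [hC] at hx ⊢
    rw [hequiv a (show r x = r 1 by rw [hx, map_one]), map_one, map_one]
  have hCn : C.Normal := MonoidHom.normal_ker r
  -- a minimal invariant normal subgroup above `C`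
  obtain ⟨A0, ⟨hA0n, hA0i, hCA0⟩, hA0min⟩ := Set.Finite.exists_minimal (Set.toFinite
    {B : Subgroup G | B.Normal ∧ (∀ a : A, ∀ x ∈ B, (a : MulAut G) x ∈ B) ∧ C < B})
    ⟨⊤, inferInstance, fun _ _ _ => Subgroup.mem_top _, lt_top_iff_ne_top.mpr hCtop⟩
  have hcomm : ∀ a ∈ A0, ∀ b ∈ A0, r a * r b = r b * r a := by
    have hlt : ⁅A0, A0⁆ ≤ C := by
      by_contra hle
      have hD : C ⊔ ⁅A0, A0⁆ = A0 := by
        refine le_antisymm (sup_le hCA0.le (Subgroup.commutator_le_self A0)) (hA0min
          ⟨inferInstance, ?_, ?_⟩ (sup_le hCA0.le (Subgroup.commutator_le_self A0)))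
        · intro a x hx
          have h1 : (C ⊔ ⁅A0, A0⁆).map (a : MulAut G).toMonoidHom ≤ C ⊔ ⁅A0, A0⁆ := by
            rw [Subgroup.map_sup, Subgroup.map_commutator]
            have hA' : A0.map (a : MulAut G).toMonoidHom ≤ A0 := by
              rintro _ ⟨x, hx, rfl⟩
              exact hA0i a x hx
            refine sup_le_sup ?_ (Subgroup.commutator_mono hA' hA')
            rintro _ ⟨x, hx, rfl⟩
            exact hCA a x hx
          exact h1 ⟨x, hx, rfl⟩
        · exact lt_of_le_of_ne le_sup_left fun e => hle (e ▸ le_sup_right)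
      have h2 := congrArg (Subgroup.map (QuotientGroup.mk' C)) hD
      rw [Subgroup.map_sup, QuotientGroup.map_mk'_self, bot_sup_eq, Subgroup.map_commutator] at h2
      have h3 : A0.map (QuotientGroup.mk' C) = ⊥ := by
        obtain ⟨n, hn⟩ := (Group.isSolvable_def (G ⧸ C)).mp inferInstance
        have hk : ∀ m, A0.map (QuotientGroup.mk' C) ≤ derivedSeries (G ⧸ C) m := by
          intro m
          induction m with
          | zero => exact le_top
          | succ m ih => exact h2.ge.trans (Subgroup.commutator_mono ih ih)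
        exact eq_bot_iff.mpr (hn ▸ hk n)
      rw [Subgroup.map_eq_bot_iff, QuotientGroup.ker_mk'] at h3
      exact not_le_of_gt hCA0 h3
    intro a ha b hb
    have h1 : r ⁅a, b⁆ = 1 := hC.mp (hlt (Subgroup.commutator_mem_commutator ha hb))
    rw [← map_mul, ← map_mul, show a * b = ⁅a, b⁆ * (b * a) by rw [commutatorElement_def]; group,
      map_mul, h1, one_mul]
  obtain ⟨x0, hx0, hx0C⟩ := SetLike.exists_of_lt hCA0
  have hnzA0 : ∃ x ∈ A0, r x ≠ 1 := ⟨x0, hx0, fun e => hx0C (hC.mpr e)⟩
  have hprime : ∀ x ∈ A0, ∀ k : ℕ, r x ^ q ^ k = 1 → r x = 1 := by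
    let B : Subgroup G :=
      { carrier := {x | x ∈ A0 ∧ ∃ k : ℕ, r x ^ q ^ k = 1}
        one_mem' := ⟨one_mem _, 0, by rw [map_one, one_pow]⟩
        mul_mem' := by
          rintro x y ⟨hx, k, hk⟩ ⟨hy, l, hl⟩
          refine ⟨mul_mem hx hy, k + l, ?_⟩
          rw [map_mul, (show Commute (r x) (r y) from hcomm x hx y hy).mul_pow, pow_add, pow_mul, hk,
            one_pow, one_mul, mul_comm (q ^ k), pow_mul, hl, one_pow]
        inv_mem' := by
          rintro x ⟨hx, k, hk⟩
          refine ⟨inv_mem hx, k, ?_⟩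
          rw [← map_pow, inv_pow, ← hC]
          exact inv_mem (hC.mpr (by rw [map_pow, hk])) }
    intro x hx k hk
    refine hpg B ⟨fun y hy g => ?_⟩ ?_ (fun y hy => hy.2) x ⟨hx, k, hk⟩
    · obtain ⟨hy, k, hk⟩ := hy
      refine ⟨hA0n.conj_mem y hy g, k, ?_⟩
      rw [← map_pow, conj_pow, ← hC]
      exact hCn.conj_mem _ (hC.mpr (by rw [map_pow, hk])) g
    · rintro a y ⟨hy, k, hk⟩
      refine ⟨hA0i a y hy, k, ?_⟩
      rw [← map_pow, ← map_pow, ← hC]
      exact hCA a _ (hC.mpr (by rw [map_pow, hk]))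
  -- the commutative ring
  let R : Subring E := Subring.closure (r '' (A0 : Set G))
  haveI : IsMulCommutative R := Subring.isMulCommutative_closure (by
    rintro _ ⟨a, ha, rfl⟩ _ ⟨b, hb, rfl⟩
    exact hcomm a ha b hb)
  have hRq : (q : R) = 0 := Subtype.ext (by simpa using hqE)
  let ρ : G → R := fun m =>
    if hm : m ∈ A0 then ⟨r m, Subring.subset_closure ⟨m, hm, rfl⟩⟩ else 1
  have hρ : ∀ {m}, m ∈ A0 → ((ρ m : R) : E) = r m := fun {m} hm => by simp [ρ, hm]
  have hρmul : ∀ {m n}, m ∈ A0 → n ∈ A0 → ρ (m * n) = ρ m * ρ n := fun {m n} hm hn =>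
    Subtype.ext (by rw [hρ (mul_mem hm hn), Subring.coe_mul, hρ hm, hρ hn, map_mul])
  have hρone : ρ 1 = 1 := Subtype.ext (by rw [hρ (one_mem _), map_one]; rfl)
  have hρinj : ∀ {m n}, m ∈ A0 → n ∈ A0 → r m = r n → ρ m = ρ n := fun {m n} hm hn e =>
    Subtype.ext (by rw [hρ hm, hρ hn, e])
  have hρpow : ∀ {m}, m ∈ A0 → ∀ k : ℕ, ρ (m ^ k) = ρ m ^ k := by
    intro m hm k
    induction k with
    | zero => rw [pow_zero, pow_zero, hρone]
    | succ k ih => rw [pow_succ, pow_succ, hρmul (pow_mem hm k) hm, ih]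
  have hconj : ∀ f : G → G, (∀ m ∈ A0, f m ∈ A0) → ∀ u u' : E, u' * u = 1 → u * u' = 1 →
      (∀ m ∈ A0, u * r m = r (f m) * u) → ∃ φ : R →+* R, ∀ m ∈ A0, φ (ρ m) = ρ (f m) := by
    intro f hf u u' h1 h2 hu
    let γ : E →+* E :=
      { toFun := fun y => u * y * u'
        map_one' := by rw [mul_one, h2]
        map_mul' := fun y z => by
          calc u * (y * z) * u' = u * y * 1 * z * u' := by rw [mul_one, mul_assoc u y z]
            _ = u * y * u' * (u * z * u') := by rw [← h1]; simp only [mul_assoc]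
        map_zero' := by rw [mul_zero, zero_mul]
        map_add' := fun y z => by rw [mul_add, add_mul] }
    have hγ : ∀ y ∈ R, γ y ∈ R := by
      intro y hy
      have hle : R.map γ ≤ R := by
        rw [RingHom.map_closure]
        refine Subring.closure_mono ?_
        rintro _ ⟨_, ⟨m, hm, rfl⟩, rfl⟩
        refine ⟨f m, hf m hm, ?_⟩
        show r (f m) = u * r m * u'
        rw [hu m hm, mul_assoc, h2, mul_one]
      exact hle ⟨y, hy, rfl⟩
    refine ⟨(γ.comp R.subtype).codRestrict R fun y => hγ y y.2, fun m hm => Subtype.ext ?_⟩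
    show u * ((ρ m : R) : E) * u' = _
    rw [hρ hm, hρ (hf m hm), hu m hm, mul_assoc, h2, mul_one]
  have hprodmem : ∀ {ι : Type u} (I : Finset ι) (f : ι → G), (∀ i, f i ∈ A0) →
      ∃ g ∈ A0, ρ g = ∏ i ∈ I, ρ (f i) := by
    intro ι I f hf
    refine Finset.prod_induction _ (fun u => ∃ g ∈ A0, ρ g = u) ?_ ⟨1, one_mem _, hρone⟩
      (fun i _ => ⟨f i, hf i, rfl⟩)
    rintro _ _ ⟨g, hg, rfl⟩ ⟨k, hk, rfl⟩
    exact ⟨g * k, mul_mem hg hk, hρmul hg hk⟩
  -- the product over all automorphisms is trivial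
  have hNorm : ∀ m ∈ A0, ∏ a : A, ρ ((a : MulAut G) m) = 1 := by
    intro m hm
    obtain ⟨g, hg, hge⟩ := hprodmem Finset.univ (fun a : A => (a : MulAut G) m) fun a => hA0i a m hm
    have hgfix : ∀ a : A, g⁻¹ * (a : MulAut G) g ∈ C := by
      intro a
      obtain ⟨φ, hφ⟩ := hconj _ (fun n hn => hA0i a n hn) (s a) (s a⁻¹) (hsu' a) (hsu a)
        (fun n _ => hsr a n)
      have e : φ (ρ g) = ρ g := by
        rw [hge, map_prod]
        refine Fintype.prod_equiv (Equiv.mulLeft a) _ _ fun b => ?_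
        rw [hφ _ (hA0i b m hm)]
        rfl
      rw [← hreq, ← hρ hg, ← hρ (hA0i a g hg), ← hφ g hg, e]
    rw [← hge]
    exact Subtype.ext (by rw [hρ hg, hC.mp (h.mem_of_forall C hCA hgfix)]; rfl)
  -- elimination
  have helim : ∀ (I : Finset A) (y : E) (mm : A → G), (∀ i, mm i ∈ A0) →
      (∀ m ∈ A0, y * r m = r m * y) → ∑ i ∈ I, y * s i = 0 → (1 : A) ∈ I →
      ((∏ j ∈ I.erase 1, (ρ (mm j) - ρ ((j : MulAut G) (mm j))) : R) : E) * y = 0 := by
    intro I y mm hmm hy hyI h1I
    have claim : ∀ J : Finset A, ∑ i ∈ I,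
        ((∏ j ∈ J, (ρ ((i : MulAut G) (mm j)) - ρ ((j : MulAut G) (mm j))) : R) : E) * (y * s i) = 0 := by
      intro J
      induction J using Finset.induction_on with
      | empty => simpa using hyI
      | @insert j J hj ih =>
        have h1 := congrArg (fun Z : E => Z * r (mm j) - r ((j : MulAut G) (mm j)) * Z) ih
        simp only [Finset.sum_mul, Finset.mul_sum, zero_mul, mul_zero, sub_zero,
          ← Finset.sum_sub_distrib] at h1
        rw [← h1]
        refine Finset.sum_congr rfl fun i _ => ?_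
        set c : R := ∏ k ∈ J, (ρ ((i : MulAut G) (mm k)) - ρ ((k : MulAut G) (mm k))) with hc
        rw [Finset.prod_insert hj, ← hc, mul_comm _ c, mul_sub, AddSubgroupClass.coe_sub,
          sub_mul]
        congr 1
        · rw [Subring.coe_mul, hρ (hA0i i _ (hmm j)), mul_assoc (c : E) (y * s i), mul_assoc y (s i),
            hsr, ← mul_assoc y, hy _ (hA0i i _ (hmm j))]
          simp only [mul_assoc]
        · rw [mul_comm c, Subring.coe_mul, hρ (hA0i j _ (hmm j))]
          simp only [mul_assoc]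
    have h2 := claim (I.erase 1)
    rw [Finset.sum_eq_single_of_mem (1 : A) h1I] at h2
    · rw [map_one, mul_one] at h2
      exact h2
    · intro i hi hi1
      rw [Finset.prod_eq_zero (Finset.mem_erase.mpr ⟨hi1, hi⟩) (sub_self _)]
      simp
  -- no weight is trivial
  have hzero : ∀ {K : Type u} [CommRing K] [IsDomain K] (lam : R →+* K),
      ∃ m ∈ A0, lam (ρ m) ≠ 1 := by
    intro K _ _ lam
    by_contra hall
    push Not at hall
    set T0 := A0.map r.toHomUnits
    have : Fintype A0 := Fintype.ofFinite A0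
    have : Fintype T0 := Fintype.ofSurjective
      (fun m : A0 => (⟨r.toHomUnits m, Subgroup.mem_map_of_mem _ m.2⟩ : T0))
      (fun u => by obtain ⟨m, hm, he⟩ := u.2; exact ⟨⟨m, hm⟩, Subtype.ext he⟩)
    have hmem : ∀ u : T0, ((u : Eˣ) : E) ∈ R := by
      rintro ⟨_, m, hm, rfl⟩
      exact Subring.subset_closure ⟨m, hm, rfl⟩
    let S : R := ∑ u : T0, ⟨((u : Eˣ) : E), hmem u⟩
    have hS : (S : E) = ∑ u : T0, ((u : Eˣ) : E) := by
      simp [S]
    have hS0 : (S : E) = 0 := by
      refine hirr A0 hA0n hA0i hnzA0 _ fun m hm => ?_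
      rw [hS, Finset.mul_sum]
      exact Fintype.sum_equiv (Equiv.mulLeft (⟨r.toHomUnits m, Subgroup.mem_map_of_mem _ hm⟩ : T0))
        _ _ fun u => rfl
    have hcop : (Fintype.card T0).Coprime q := by
      refine Nat.Coprime.symm ((hq.coprime_iff_not_dvd).mpr fun hd => ?_)
      obtain ⟨u, hu⟩ := exists_prime_orderOf_dvd_card q hd
      obtain ⟨m, hm, he⟩ := u.2
      have e1 : r m = ((u : Eˣ) : E) := by rw [← he]; rfl
      have e2 : r m ^ q ^ 1 = 1 := by
        rw [pow_one, e1, ← Units.val_pow_eq_pow_val, ← SubmonoidClass.coe_pow, ← hu,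
          pow_orderOf_eq_one]
        rfl
      have e3 : u = 1 := Subtype.ext (Units.ext (by rw [← e1, hprime m hm 1 e2]; rfl))
      rw [e3, orderOf_one] at hu
      exact hq.ne_one hu.symm
    have hlamS : lam S = (Fintype.card T0 : K) := by
      simp only [S, map_sum]
      rw [Finset.sum_congr rfl (g := fun _ => (1 : K)) fun u _ => ?_]
      · simp
      · obtain ⟨m, hm, he⟩ := u.2
        rw [← hall m hm]
        congr 1
        refine Subtype.ext ?_
        rw [hρ hm]
        exact (congrArg Units.val he).symm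
    rw [show S = 0 from Subtype.ext hS0, map_zero] at hlamS
    have hqK : (q : K) = 0 := by rw [← map_natCast lam, hRq, map_zero]
    have hb := congrArg (Int.cast : ℤ → K) (Nat.gcd_eq_gcd_ab (Fintype.card T0) q)
    rw [show Nat.gcd (Fintype.card T0) q = 1 from hcop] at hb
    push_cast at hb
    rw [← hlamS, hqK, zero_mul, zero_mul, add_zero] at hb
    exact one_ne_zero hb
  -- the automorphisms fixing a weight
  let St : ∀ {K : Type u} [CommRing K] [IsDomain K], (R →+* K) → Subgroup A := fun {K} _ _ lam =>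
    { carrier := {a | ∀ m ∈ A0, lam (ρ ((a : MulAut G) m)) = lam (ρ m)}
      one_mem' := fun m _ => rfl
      mul_mem' := fun {a b} ha hb m hm => (ha _ (hA0i b m hm)).trans (hb m hm)
      inv_mem' := fun {a} ha m hm => by
        have e := ha _ (hA0i a⁻¹ m hm)
        have e' : (a : MulAut G) (((a⁻¹ : A) : MulAut G) m) = m :=
          (a : MulAut G).apply_symm_apply m
        rw [e'] at e
        exact e.symm }
  have hone : ∀ {K : Type u} [CommRing K] [IsDomain K] (lam : R →+* K) (m : G), m ∈ A0 →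
      (∀ a : A, lam (ρ ((a : MulAut G) m)) = lam (ρ m)) → lam (ρ m) = 1 := by
    intro K _ _ lam m hm hinv
    have e := congrArg lam (hNorm m hm)
    rw [map_one, map_prod, Finset.prod_congr rfl fun a _ => hinv a, Finset.prod_const,
      Finset.card_univ, ← Nat.card_eq_fintype_card, h.card] at e
    have e' : lam (ρ m) ^ orderOf m = 1 := by
      rw [← map_pow, ← hρpow hm, pow_orderOf_eq_one, hρone, map_one]
    have e'' := pow_gcd_eq_one.mpr ⟨e, e'⟩
    rwa [show Nat.gcd (p ^ 2) (orderOf m) = 1 from Nat.Coprime.pow_left 2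
      (h.prime.coprime_iff_not_dvd.mpr fun hd => h.not_dvd_card (hd.trans (orderOf_dvd_natCard m))),
      pow_one] at e''
  have hSttop : ∀ {K : Type u} [CommRing K] [IsDomain K] (lam : R →+* K), St lam ≠ ⊤ := by
    intro K _ _ lam e
    obtain ⟨m, hm, hm1⟩ := hzero lam
    exact hm1 (hone lam m hm fun a => (e ▸ Subgroup.mem_top a : a ∈ St lam) m hm)
  have hStne : ∀ {K : Type u} [CommRing K] [IsDomain K] (lam : R →+* K),
      ∃ d : A, d ≠ 1 ∧ d ∈ St lam := by
    intro K _ _ lam
    by_contra hno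
    push Not at hno
    have hch : ∀ a : A, a ≠ 1 → ∃ m ∈ A0, lam (ρ m) - lam (ρ ((a : MulAut G) m)) ≠ 0 := by
      intro a ha
      by_contra hh
      push Not at hh
      exact hno a ha fun m hm => (sub_eq_zero.mp (hh m hm)).symm
    let mm : A → G := fun a => if ha : a ≠ 1 then (hch a ha).choose else 1
    have hmm : ∀ i, mm i ∈ A0 := by
      intro i
      by_cases hi : i = 1
      · simp [mm, hi]
      · simp only [mm, dif_pos hi]; exact (hch i hi).choose_spec.1
    have e := helim Finset.univ 1 mm hmm (fun m _ => by rw [one_mul, mul_one])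
      (by simpa using hsum) (Finset.mem_univ _)
    rw [mul_one] at e
    have e' := congrArg lam (Subtype.ext e :
      (∏ j ∈ Finset.univ.erase 1, (ρ (mm j) - ρ ((j : MulAut G) (mm j)))) = (0 : R))
    rw [map_zero, map_prod, Finset.prod_eq_zero_iff] at e'
    obtain ⟨j, hj, hj0⟩ := e'
    have hj1 := (Finset.mem_erase.mp hj).1
    simp only [mm, dif_pos hj1, map_sub] at hj0
    exact (hch j hj1).choose_spec.2 hj0
  -- the weights are fixed by the centralizers
  have hL : ∀ {K : Type u} [CommRing K] [IsDomain K] (lam : R →+* K) (b d : A) (x : G), b ≠ 1 →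
      (b : MulAut G) x = x → d ∈ St lam → d ∉ Subgroup.zpowers b →
      ∀ m ∈ A0, lam (ρ (x * m * x⁻¹)) = lam (ρ m) := by
    intro K _ _ lam b d x hb1 hbx hd hdb
    let Sg : Subgroup G :=
      { carrier := {g | ∀ m ∈ A0, lam (ρ (g * m * g⁻¹)) = lam (ρ m)}
        one_mem' := fun m _ => by simp
        mul_mem' := fun {g k} hg hk m hm => by
          rw [show g * k * m * (g * k)⁻¹ = g * (k * m * k⁻¹) * g⁻¹ by group,
            hg _ (hA0n.conj_mem m hm k), hk m hm]
        inv_mem' := fun {g} hg m hm => by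
          have e := hg _ (hA0n.conj_mem m hm g⁻¹)
          rw [show g * (g⁻¹ * m * g⁻¹⁻¹) * g⁻¹ = m by group] at e
          exact e.symm }
    show x ∈ Sg
    obtain ⟨φ, hφ⟩ := hconj (fun m => x * m * x⁻¹) (fun m hm => hA0n.conj_mem m hm x) (r x) (r x⁻¹)
      (hru' x) (hru x) (fun m _ => by rw [← map_mul, ← map_mul, inv_mul_cancel_right])
    by_cases hd' : d ∈ St (lam.comp φ)
    · have hz : (d : MulAut G) x * x⁻¹ ∈ Sg := by
        intro m hm
        have hn0 : x⁻¹ * m * x ∈ A0 := by simpa using hA0n.conj_mem m hm x⁻¹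
        set n := ((d⁻¹ : A) : MulAut G) (x⁻¹ * m * x) with hn
        have hnA : n ∈ A0 := hA0i _ _ hn0
        have hdn : (d : MulAut G) n = x⁻¹ * m * x := (d : MulAut G).apply_symm_apply _
        have e1 : lam (ρ ((d : MulAut G) (x * n * x⁻¹))) = lam (ρ (x * n * x⁻¹)) :=
          hd _ (hA0n.conj_mem n hnA x)
        have e2 := hd' n hnA
        simp only [RingHom.comp_apply, hφ n hnA, hφ _ (hA0i d n hnA)] at e2
        rw [hdn, show x * (x⁻¹ * m * x) * x⁻¹ = m by group] at e2
        rw [e2, ← e1, map_mul, map_mul, map_inv, hdn]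
        congr 2
        group
      let S' : Subgroup G := Sg ⊓ fixSub (b : MulAut G)
      have hS'i : ∀ y ∈ S', (d : MulAut G) y * y⁻¹ ∈ S' := by
        intro y hy
        obtain ⟨hy1, hy2⟩ := Subgroup.mem_inf.mp hy
        refine Subgroup.mem_inf.mpr ⟨Subgroup.mul_mem _ ?_ (Subgroup.inv_mem _ hy1),
          Subgroup.mul_mem _ ?_ (Subgroup.inv_mem _ hy2)⟩
        · intro m hm
          set m' := ((d⁻¹ : A) : MulAut G) m with hm'
          have hm'A : m' ∈ A0 := hA0i _ _ hm
          have hdm : (d : MulAut G) m' = m := (d : MulAut G).apply_symm_apply _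
          rw [← hdm, ← map_inv, ← map_mul, ← map_mul, hd _ (hA0n.conj_mem m' hm'A y), hy1 m' hm'A,
            hd m' hm'A]
        · show (b : MulAut G) ((d : MulAut G) y) = (d : MulAut G) y
          rw [h.apply_comm, show (b : MulAut G) y = y from hy2]
      let f : S' → S' := fun y => ⟨(d : MulAut G) y * (y : G)⁻¹, hS'i y y.2⟩
      have hfix' : ∀ y z : G, (b : MulAut G) y = y → (b : MulAut G) z = z →
          (d : MulAut G) y * y⁻¹ = (d : MulAut G) z * z⁻¹ → y = z := by
        intro y z hy hz e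
        refine inv_mul_eq_one.mp (h.eq_one_of_fix hb1 hdb ?_ ?_)
        · rw [map_mul, map_inv, hy, hz]
        · rw [map_mul, map_inv, show (d : MulAut G) z = (d : MulAut G) z * z⁻¹ * z by group, ← e]
          group
      have hinj : Function.Injective f := fun y z e =>
        Subtype.ext (hfix' y z y.2.2 z.2.2 (congrArg Subtype.val e))
      have hzb : (b : MulAut G) ((d : MulAut G) x * x⁻¹) = (d : MulAut G) x * x⁻¹ := by
        rw [map_mul, map_inv, h.apply_comm, hbx]
      obtain ⟨y, hy⟩ := Finite.surjective_of_injective hinj ⟨_, hz, hzb⟩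
      rw [← hfix' y x y.2.2 hbx (congrArg Subtype.val hy)]
      exact y.2.1
    · exfalso
      obtain ⟨d', hd'1, hd'm⟩ := hStne (lam.comp φ)
      have hd1 : d ≠ 1 := fun e => hdb (e ▸ one_mem _)
      have hdd : d' ∉ Subgroup.zpowers d := fun e =>
        hd' (Subgroup.zpowers_le.mpr hd'm (h.mem_zpowers_symm e hd'1))
      have htop : St lam ⊔ St (lam.comp φ) = ⊤ :=
        h.eq_top (Subgroup.mem_sup_left hd) (Subgroup.mem_sup_right hd'm) hd1 hdd
      letI : CommGroup A := { (inferInstance : Group A) with mul_comm := h.comm }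
      obtain ⟨g, hg, e, he, hge⟩ := Subgroup.mem_sup.mp (htop ▸ Subgroup.mem_top b)
      set u := ((e⁻¹ : A) : MulAut G) x with hu
      have hbu : (b : MulAut G) u = u := by rw [hu, h.apply_comm, hbx]
      have heu : (e : MulAut G) u = x := (e : MulAut G).apply_symm_apply _
      set y := x * u⁻¹ with hy
      have hby : (b : MulAut G) y = y := by rw [hy, map_mul, map_inv, hbx, hbu]
      have hstep : ∀ m ∈ A0, lam (ρ ((b : MulAut G) m)) = lam (ρ (y * m * y⁻¹)) := by
        intro m hm
        set n := u⁻¹ * m * u with hn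
        have hnA : n ∈ A0 := by simpa [hn] using hA0n.conj_mem m hm u⁻¹
        have e2 := he n hnA
        simp only [RingHom.comp_apply, hφ n hnA, hφ _ (hA0i e n hnA)] at e2
        rw [show x * (e : MulAut G) n * x⁻¹ = (e : MulAut G) m by
          rw [← heu, ← map_inv, ← map_mul, ← map_mul, hn]; congr 1; group] at e2
        have e3 : lam (ρ ((b : MulAut G) m)) = lam (ρ ((e : MulAut G) m)) := by
          rw [← hge]
          exact hg _ (hA0i e m hm)
        rw [e3, e2, hn, hy]
        congr 2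
        group
      have hiter : ∀ k : ℕ, ∀ m ∈ A0,
          lam (ρ (((b ^ k : A) : MulAut G) m)) = lam (ρ (y ^ k * m * (y ^ k)⁻¹)) := by
        intro k
        induction k with
        | zero => intro m _; simp
        | succ k ih =>
          intro m hm
          rw [pow_succ b, Subgroup.coe_mul, MulAut.mul_apply, ih _ (hA0i b m hm)]
          have hbyk : (b : MulAut G) (y ^ k) = y ^ k := by rw [map_pow, hby]
          rw [← hbyk, ← map_inv, ← map_mul, ← map_mul, hstep _ (hA0n.conj_mem m hm _)]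
          congr 2
          rw [pow_succ' y]
          group
      have hyp : y ^ p ∈ Sg := by
        intro m hm
        rw [← hiter p m hm, h.pow b]
        rfl
      have hyS : y ∈ Sg := by
        obtain ⟨k, hk⟩ := exists_pow_eq_self_of_coprime (x := y) (n := p)
          (h.prime.coprime_iff_not_dvd.mpr fun hdv => h.not_dvd_card (hdv.trans (orderOf_dvd_natCard y)))
        rw [← hk]
        exact pow_mem hyp k
      have hbSt : b ∈ St lam := fun m hm => (hstep m hm).trans (hyS m hm)
      exact hSttop lam (h.eq_top hbSt hd hb1 hdb)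
  -- a nilpotency criterion
  have hrad : ∀ m ∈ A0, ∀ n ∈ A0,
      (∀ P : Ideal R, P.IsPrime → Ideal.Quotient.mk P (ρ m) = Ideal.Quotient.mk P (ρ n)) →
      r m = r n := by
    intro m hm n hn hP
    have hz : n⁻¹ * m ∈ A0 := mul_mem (inv_mem hn) hm
    have hnil : IsNilpotent (ρ (n⁻¹ * m) - 1) := by
      rw [← mem_nilradical, nilradical_eq_sInf, Submodule.mem_sInf]
      intro P hPp
      have e : Ideal.Quotient.mk P (ρ (n⁻¹ * m)) = Ideal.Quotient.mk P 1 := by
        rw [hρmul (inv_mem hn) hm, map_mul, hP P hPp, ← map_mul, ← hρmul (inv_mem hn) hn,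
          inv_mul_cancel, hρone]
      exact (Ideal.Quotient.mk_eq_mk_iff_sub_mem _ _).mp e
    obtain ⟨k, hk⟩ := hnil
    obtain ⟨t, ht⟩ := exists_add_pow_prime_pow_eq hq (ρ (n⁻¹ * m) - 1) (1 : R) k
    rw [sub_add_cancel, pow_eq_zero_of_le (Nat.lt_pow_self hq.one_lt).le hk, hRq, one_pow, zero_mul,
      zero_mul, zero_mul, zero_add, add_zero] at ht
    have e1 : r (n⁻¹ * m) ^ q ^ k = 1 := by
      rw [← hρ hz, ← SubmonoidClass.coe_pow, ht]
      rfl
    exact (hreq.mpr (hC.mpr (hprime _ hz k e1))).symm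
  -- some automorphism centralizes `A0` modulo `C`
  obtain ⟨c, hc1, hcA0⟩ : ∃ c : A, c ≠ 1 ∧ ∀ m ∈ A0, r ((c : MulAut G) m) = r m := by
    have : Nontrivial E := by
      by_contra hE
      rw [not_nontrivial_iff_subsingleton] at hE
      exact hx0C (hC.mpr (Subsingleton.elim _ _))
    obtain ⟨P, hPmax⟩ := Ideal.exists_maximal R
    obtain ⟨d, hd1, hd⟩ := hStne (Ideal.Quotient.mk P)
    refine ⟨d, hd1, ?_⟩
    let T : Subgroup G :=
      { carrier := {m | m ∈ A0 ∧ r ((d : MulAut G) m) = r m}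
        one_mem' := ⟨one_mem _, by rw [map_one]⟩
        mul_mem' := fun {m n} hm hn =>
          ⟨mul_mem hm.1 hn.1, by rw [map_mul, map_mul, hm.2, hn.2, ← map_mul]⟩
        inv_mem' := fun {m} hm => ⟨inv_mem hm.1, by rw [map_inv]; exact hrinv hm.2⟩ }
    have hCT : C ≤ T := fun x hx => ⟨hCA0.le hx, by rw [hC.mp (hCA d x hx), hC.mp hx]⟩
    have hTi : ∀ a : A, ∀ m ∈ T, (a : MulAut G) m ∈ T := by
      rintro a m ⟨hm, hm'⟩
      refine ⟨hA0i a m hm, ?_⟩
      rw [h.apply_comm]
      exact hequiv a hm'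
    have hTn : T.Normal := by
      suffices hW : ⊤ ≤ Subgroup.normalizer (T : Set G) from
        Subgroup.normalizer_eq_top_iff.mp (top_le_iff.mp hW)
      refine h.gen ⊤ _ (fun _ _ _ => Subgroup.mem_top _) fun b hb1 x _ hbx => ?_
      have hmain : ∀ x, (b : MulAut G) x = x → ∀ m ∈ T, x * m * x⁻¹ ∈ T := by
        rintro x hbx m ⟨hm, hm'⟩
        refine ⟨hA0n.conj_mem m hm x, ?_⟩
        by_cases hbd : d ∈ Subgroup.zpowers b
        · have hdx : (d : MulAut G) x = x :=
            (Subgroup.zpowers_le.mpr (show b ∈ fixer A x from hbx)) hbd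
          rw [map_mul (d : MulAut G), map_mul (d : MulAut G), map_inv, hdx, map_mul r, map_mul r, hm',
            ← map_mul, ← map_mul]
        · suffices e : r (x * m * x⁻¹) = r m by rw [hequiv d e, hm', e]
          refine hrad _ (hA0n.conj_mem m hm x) _ hm fun Q hQ => ?_
          set lam := Ideal.Quotient.mk Q
          by_cases hsub : St lam ≤ Subgroup.zpowers b
          · obtain ⟨φ, hφ⟩ := hconj (fun n => x * n * x⁻¹) (fun n hn => hA0n.conj_mem n hn x) (r x)
              (r x⁻¹) (hru' x) (hru x) (fun n _ => by rw [← map_mul, ← map_mul, inv_mul_cancel_right])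
            have hfix2 : ∀ lam' : R →+* R ⧸ Q, b ∈ St lam' → lam' (ρ m) = 1 := by
              intro lam' hb'
              refine hone lam' m hm fun a => ?_
              let W : Subgroup A :=
                { carrier := {a | ∀ n ∈ T, lam' (ρ ((a : MulAut G) n)) = lam' (ρ n)}
                  one_mem' := fun _ _ => rfl
                  mul_mem' := fun {a a'} ha ha' n hn => (ha _ (hTi a' n hn)).trans (ha' n hn)
                  inv_mem' := fun {a} ha n hn => by
                    have e := ha _ (hTi a⁻¹ n hn)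
                    have e' : (a : MulAut G) (((a⁻¹ : A) : MulAut G) n) = n :=
                      (a : MulAut G).apply_symm_apply n
                    rw [e'] at e
                    exact e.symm }
              have hW : W = ⊤ := h.eq_top (b := b) (c := d) (fun n hn => hb' n hn.1)
                (fun n hn => by rw [hρinj (hA0i d n hn.1) hn.1 hn.2]) hb1 hbd
              exact (hW ▸ Subgroup.mem_top a : a ∈ W) m ⟨hm, hm'⟩
            have hbmem : ∀ lam' : R →+* R ⧸ Q, St lam' ≤ Subgroup.zpowers b → b ∈ St lam' := by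
              intro lam' hle
              obtain ⟨e, he1, he⟩ := hStne lam'
              exact Subgroup.zpowers_le.mpr he (h.mem_zpowers_symm (hle he) he1)
            have hsub' : St (lam.comp φ) ≤ Subgroup.zpowers b := by
              intro e he
              by_contra heb
              have hcomp : lam.comp φ = lam.comp φ := rfl
              have hinvx : (b : MulAut G) x⁻¹ = x⁻¹ := by rw [map_inv, hbx]
              have key1 := hL (lam.comp φ) b e x⁻¹ hb1 hinvx he heb
              refine heb (hsub ?_)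
              intro n hn
              have e1 := key1 n hn
              simp only [RingHom.comp_apply, hφ n hn, hφ _ (hA0n.conj_mem n hn x⁻¹)] at e1
              rw [show x * (x⁻¹ * n * x⁻¹⁻¹) * x⁻¹ = n by group] at e1
              have hen := hA0i e n hn
              have e2 := key1 _ hen
              simp only [RingHom.comp_apply, hφ _ hen, hφ _ (hA0n.conj_mem _ hen x⁻¹)] at e2
              rw [show x * (x⁻¹ * (e : MulAut G) n * x⁻¹⁻¹) * x⁻¹ = (e : MulAut G) n by group] at e2
              have e3 := he n hn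
              simp only [RingHom.comp_apply, hφ n hn, hφ _ hen] at e3
              rw [e1, e2, e3]
            have e1 := hfix2 _ (hbmem _ hsub')
            rw [RingHom.comp_apply, hφ m hm] at e1
            rw [e1, hfix2 lam (hbmem lam hsub)]
          · obtain ⟨e, he, heb⟩ := SetLike.not_le_iff_exists.mp hsub
            exact hL lam b e x hb1 hbx he heb m hm
      refine Subgroup.mem_normalizer_iff.mpr fun m => ⟨hmain x hbx m, fun hm => ?_⟩
      have e := hmain x⁻¹ (by rw [map_inv, hbx]) _ hm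
      rwa [show x⁻¹ * (x * m * x⁻¹) * x⁻¹⁻¹ = m by group] at e
    have hTne : C ≠ T := by
      intro e
      obtain ⟨m, hm, hm1⟩ := hzero (Ideal.Quotient.mk P)
      have hdp : ∀ i : ℕ, ((d ^ i : A) : MulAut G) m ∈ A0 := fun i => hA0i _ m hm
      obtain ⟨g, hg, hge⟩ := hprodmem (ι := ULift.{u} ℕ) ((Finset.range p).map ⟨ULift.up,
        ULift.up_injective⟩) (fun i => ((d ^ i.down : A) : MulAut G) m) fun i => hdp _
      rw [Finset.prod_map] at hge
      simp only [Function.Embedding.coeFn_mk] at hge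
      obtain ⟨φ, hφ⟩ := hconj _ (fun n hn => hA0i d n hn) (s d) (s d⁻¹) (hsu' d) (hsu d)
        (fun n _ => hsr d n)
      have hgT : g ∈ T := by
        refine ⟨hg, ?_⟩
        rw [← hρ hg, ← hρ (hA0i d g hg), ← hφ g hg, hge, map_prod]
        congr 1
        have h1 := Finset.prod_range_succ' (fun i => ρ (((d ^ i : A) : MulAut G) m)) p
        rw [Finset.prod_range_succ, h.pow d] at h1
        simp only [pow_zero] at h1
        have hstep : ∀ i ∈ Finset.range p, φ (ρ (((d ^ i : A) : MulAut G) m)) =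
            ρ (((d ^ (i + 1) : A) : MulAut G) m) := by
          intro i _
          rw [hφ _ (hdp i), pow_succ' d]
          rfl
        rw [Finset.prod_congr rfl hstep]
        have hu1 : IsUnit (ρ (((1 : A) : MulAut G) m)) :=
          IsUnit.of_mul_eq_one (ρ m⁻¹) (by
            show ρ m * ρ m⁻¹ = 1
            rw [← hρmul hm (inv_mem hm), mul_inv_cancel, hρone])
        exact (hu1.mul_right_cancel h1).symm
      rw [← e] at hgT
      have hg1 : ρ g = 1 := Subtype.ext (by rw [hρ hg, hC.mp hgT]; rfl)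
      have hdi : ∀ i : ℕ, Ideal.Quotient.mk P (ρ (((d ^ i : A) : MulAut G) m)) =
          Ideal.Quotient.mk P (ρ m) := fun i => (pow_mem hd i) m hm
      have e2 := congrArg (Ideal.Quotient.mk P) hge
      rw [hg1, map_one, map_prod, Finset.prod_congr rfl fun i _ => hdi i, Finset.prod_const,
        Finset.card_range] at e2
      have e' : Ideal.Quotient.mk P (ρ m) ^ orderOf m = 1 := by
        rw [← map_pow, ← hρpow hm, pow_orderOf_eq_one, hρone, map_one]
      have e'' := pow_gcd_eq_one.mpr ⟨e2.symm, e'⟩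
      rw [show Nat.gcd p (orderOf m) = 1 from
        h.prime.coprime_iff_not_dvd.mpr fun hd => h.not_dvd_card (hd.trans (orderOf_dvd_natCard m)),
        pow_one] at e''
      exact hm1 e''
    have hle := hA0min ⟨hTn, hTi, lt_of_le_of_ne hCT hTne⟩ (fun x hx => hx.1)
    exact fun m hm => (hle hm).2
  have hStc : ∀ {K : Type u} [CommRing K] [IsDomain K] (lam : R →+* K) (b : A),
      b ∈ St lam → b ∈ Subgroup.zpowers c := by
    intro K _ _ lam b hb
    by_contra hbc
    exact hSttop lam (h.eq_top (b := c) (c := b)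
      (fun m hm => by rw [hρinj (hA0i c m hm) hm (hcA0 m hm)]) hb hc1 hbc)
  -- elements of order prime to `q` centralized by the other automorphisms are trivial
  have hqpart : ∀ b : A, b ∉ Subgroup.zpowers c → ∀ x : G, (b : MulAut G) x = x →
      (orderOf x).Coprime q → r x = 1 := by
    intro b hbc x hbx hxq
    have hb1 : b ≠ 1 := fun e => hbc (e ▸ one_mem _)
    have hcb : c ∉ Subgroup.zpowers b := fun e => hbc (h.mem_zpowers_symm e hc1)
    have hcentral : ∀ m ∈ A0, r (x * m * x⁻¹) = r m := fun m hm =>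
      hrad _ (hA0n.conj_mem m hm x) _ hm fun Q hQ =>
        hL (Ideal.Quotient.mk Q) b c x hb1 hbx
          (fun n hn => by rw [hρinj (hA0i c n hn) hn (hcA0 n hn)]) hcb m hm
    set y := r x - 1 with hy
    have hyc : ∀ m ∈ A0, y * r m = r m * y := by
      intro m hm
      have e : r x * r m = r m * r x := by
        calc r x * r m = r (x * m * x⁻¹) * r x := by rw [← map_mul, ← map_mul]; group
          _ = r m * r x := by rw [hcentral m hm]
      rw [hy, sub_mul, mul_sub, e, one_mul, mul_one]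
    set I := Finset.univ.filter fun a : A => a ∈ Subgroup.zpowers b with hI
    have hIfix : s b * ∑ i ∈ I, s i = ∑ i ∈ I, s i := by
      rw [Finset.mul_sum]
      refine Finset.sum_equiv (Equiv.mulLeft b) (fun i => ?_) fun i _ => (map_mul s b i).symm
      simp only [hI, Finset.mem_filter, Finset.mem_univ, true_and, Equiv.coe_mulLeft]
      exact (Subgroup.mul_mem_cancel_left _ (Subgroup.mem_zpowers b)).symm
    have hyI : ∑ i ∈ I, y * s i = 0 := by
      rw [← Finset.mul_sum, hy, sub_mul, one_mul, hfix b hb1 x hbx hxq _ hIfix, sub_self]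
    let J : Ideal R :=
      { carrier := {v | ((v : R) : E) * y = 0}
        add_mem' := fun {v w} hv hw => by
          show ((v + w : R) : E) * y = 0
          rw [Subring.coe_add, add_mul, hv, hw, add_zero]
        zero_mem' := by simp
        smul_mem' := fun t v hv => by
          show ((t * v : R) : E) * y = 0
          rw [Subring.coe_mul, mul_assoc, hv, mul_zero] }
    have hJ : J = ⊤ := by
      by_contra hJ
      obtain ⟨P, hP, hJP⟩ := Ideal.exists_le_maximal J hJ
      set lam := Ideal.Quotient.mk P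
      have hch : ∀ a ∈ I.erase 1, ∃ m ∈ A0, lam (ρ m) - lam (ρ ((a : MulAut G) m)) ≠ 0 := by
        intro a ha
        obtain ⟨ha1, haI⟩ := Finset.mem_erase.mp ha
        have hab : a ∈ Subgroup.zpowers b := (Finset.mem_filter.mp haI).2
        by_contra hh
        push Not at hh
        have hac : a ∈ Subgroup.zpowers c :=
          hStc lam a fun m hm => (sub_eq_zero.mp (hh m hm)).symm
        exact hbc (Subgroup.zpowers_le.mpr hac (h.mem_zpowers_symm hab ha1))
      let mm : A → G := fun a => if ha : a ∈ I.erase 1 then (hch a ha).choose else 1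
      have hmm : ∀ i, mm i ∈ A0 := by
        intro i
        by_cases hi : i ∈ I.erase 1
        · simp only [mm, dif_pos hi]; exact (hch i hi).choose_spec.1
        · simp only [mm, dif_neg hi]; exact one_mem _
      have e := helim I y mm hmm hyc hyI
        (Finset.mem_filter.mpr ⟨Finset.mem_univ _, one_mem _⟩)
      have e' := Ideal.Quotient.eq_zero_iff_mem.mpr (hJP (show _ ∈ J from e))
      rw [map_prod, Finset.prod_eq_zero_iff] at e'
      obtain ⟨j, hj, hj0⟩ := e'
      simp only [mm, dif_pos hj, map_sub] at hj0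
      exact (hch j hj).choose_spec.2 hj0
    have e : ((1 : R) : E) * y = 0 := (hJ ▸ Submodule.mem_top : (1 : R) ∈ J)
    rw [OneMemClass.coe_one, one_mul, hy, sub_eq_zero] at e
    exact e
  have hqpow : ∀ b : A, b ∉ Subgroup.zpowers c → ∀ x : G, (b : MulAut G) x = x →
      ∃ k : ℕ, r x ^ q ^ k = 1 := by
    intro b hbc x hbx
    refine ⟨(orderOf x).factorization q, ?_⟩
    rw [← map_pow]
    refine hqpart b hbc _ (by rw [map_pow, hbx]) ?_
    rw [orderOf_pow_of_dvd (pow_ne_zero _ hq.ne_zero) (Nat.ordProj_dvd _ _)]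
    exact (Nat.coprime_ordCompl hq (orderOf_pos x).ne').symm
  -- the Fitting subgroup
  let π := QuotientGroup.mk' C
  have hmapC : ∀ a : A, C.map (a : MulAut G).toMonoidHom = C := by
    intro a
    refine Subgroup.eq_of_le_of_card_ge ?_ (Subgroup.card_map_of_injective
      (f := (a : MulAut G).toMonoidHom) (a : MulAut G).injective).ge
    rintro _ ⟨x, hx, rfl⟩
    exact hCA a x hx
  let ψ : A → MulAut (G ⧸ C) := fun a => QuotientGroup.congr C C (a : MulAut G) (hmapC a)
  have hψ : ∀ (a : A) (g : G), ψ a (π g) = π ((a : MulAut G) g) := fun a g => rfl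
  have hπ : ∀ g, π g = 1 ↔ r g = 1 := fun g => (QuotientGroup.eq_one_iff g).trans hC
  have hQbot : Cfsg.pCore q (G ⧸ C) = ⊥ := by
    have hQc := CfsgLib.Solvable.pCore_characteristic (p := q) (G ⧸ C)
    have hQn := CfsgLib.Solvable.pCore_normal (p := q) (G ⧸ C)
    rw [eq_bot_iff]
    intro z hz
    obtain ⟨x, rfl⟩ := QuotientGroup.mk'_surjective C z
    rw [Subgroup.mem_bot, hπ]
    refine hpg ((Cfsg.pCore q (G ⧸ C)).comap π) inferInstance (fun a y hy => ?_) (fun y hy => ?_) x hz
    · rw [Subgroup.mem_comap] at hy ⊢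
      rw [← hψ]
      exact CfsgLib.Solvable.apply_mem_of_characteristic _ _ hy
    · obtain ⟨k, hk⟩ := CfsgLib.Solvable.pCore_isPGroup (p := q) (G ⧸ C) ⟨π y, hy⟩
      refine ⟨k, ?_⟩
      rw [← map_pow, ← hπ, map_pow]
      exact congrArg Subtype.val hk
  have hFc := CfsgLib.Solvable.fittingSubgroup_characteristic (G ⧸ C)
  set F := Cfsg.fittingSubgroup (G ⧸ C) with hF
  have hFq : ∀ z ∈ F, ∀ k : ℕ, z ^ q ^ k = 1 → z = 1 := by
    intro z hz k hk
    have hall := ((Group.isNilpotent_of_finite_tfae (G := F)).out 0 3).mp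
      (CfsgLib.Solvable.fittingSubgroup_isNilpotent (G ⧸ C))
    have hzp : IsPGroup q (Subgroup.zpowers (⟨z, hz⟩ : F)) := by
      intro w
      obtain ⟨i, hi⟩ := Subgroup.mem_zpowers_iff.mp w.2
      refine ⟨k, Subtype.ext ?_⟩
      rw [SubmonoidClass.coe_pow, ← hi, ← zpow_natCast, ← zpow_mul, mul_comm, zpow_mul, zpow_natCast,
        show (⟨z, hz⟩ : F) ^ q ^ k = 1 from Subtype.ext hk, one_zpow]
      rfl
    obtain ⟨Q, hQ⟩ := hzp.exists_le_sylow
    have hQn : (Q : Subgroup F).Normal := hall q inferInstance Q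
    have := Sylow.characteristic_of_normal Q hQn
    have hFn := CfsgLib.Solvable.fittingSubgroup_normal (G ⧸ C)
    have hmn := CfsgLib.Solvable.normal_map_subtype_of_characteristic F (Q : Subgroup F)
    have hle := CfsgLib.Solvable.le_pCore hmn (Q.2.map F.subtype)
    rw [hQbot] at hle
    exact Subgroup.mem_bot.mp (hle ⟨⟨z, hz⟩, hQ (Subgroup.mem_zpowers _), rfl⟩)
  let Tc : Subgroup G :=
    { carrier := {g | r ((c : MulAut G) g) = r g}
      one_mem' := show r ((c : MulAut G) 1) = r 1 by rw [map_one]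
      mul_mem' := fun {m n} hm hn => by
        show r ((c : MulAut G) (m * n)) = r (m * n)
        rw [map_mul, map_mul, hm, hn, ← map_mul]
      inv_mem' := fun {m} hm => by
        show r ((c : MulAut G) m⁻¹) = r m⁻¹
        rw [map_inv]
        exact hrinv hm }
  have hFi : ∀ a : A, ∀ x ∈ F.comap π, (a : MulAut G) x ∈ F.comap π := by
    intro a x hx
    show π ((a : MulAut G) x) ∈ F
    rw [← hψ]
    exact CfsgLib.Solvable.apply_mem_of_characteristic _ _ hx
  have hFT : F.comap π ≤ Tc := by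
    refine h.gen _ _ hFi fun b hb1 x hx hbx => ?_
    by_cases hbc : b ∈ Subgroup.zpowers c
    · have hcx : (c : MulAut G) x = x :=
        (Subgroup.zpowers_le.mpr (show b ∈ fixer A x from hbx)) (h.mem_zpowers_symm hbc hb1)
      show r ((c : MulAut G) x) = r x
      rw [hcx]
    · obtain ⟨k, hk⟩ := hqpow b hbc x hbx
      have hx1 : r x = 1 := (hπ x).mp (hFq _ hx k (by rw [← map_pow, hπ, map_pow, hk]))
      show r ((c : MulAut G) x) = r x
      rw [hC.mp (hCA c x (hC.mpr hx1)), hx1]
  have hTtop : ∀ g : G, r ((c : MulAut G) g) = r g := by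
    intro g
    have hFn := CfsgLib.Solvable.fittingSubgroup_normal (G ⧸ C)
    have hzF : π (g⁻¹ * (c : MulAut G) g) ∈ F := by
      refine CfsgLib.Solvable.centralizer_fittingSubgroup_le (G := G ⧸ C)
        (Subgroup.mem_centralizer_iff.mpr fun v hv => ?_)
      obtain ⟨f, rfl⟩ := QuotientGroup.mk'_surjective C v
      have hf : r ((c : MulAut G) f) = r f := hFT (show f ∈ F.comap π from hv)
      have hfg : r ((c : MulAut G) (g * f * g⁻¹)) = r (g * f * g⁻¹) :=
        hFT (show g * f * g⁻¹ ∈ F.comap π from (inferInstance : (F.comap π).Normal).conj_mem f hv g)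
      rw [map_mul, map_mul, map_inv, map_mul, map_mul, hf, ← map_mul, ← map_mul] at hfg
      show π f * π _ = π _ * π f
      rw [← map_mul, ← map_mul]
      refine QuotientGroup.eq.mpr ?_
      rw [← hreq]
      calc r (f * (g⁻¹ * (c : MulAut G) g))
          = r g⁻¹ * r (g * f * g⁻¹) * r ((c : MulAut G) g) := by
            rw [← map_mul, ← map_mul]; congr 1; group
        _ = r g⁻¹ * r ((c : MulAut G) g * f * ((c : MulAut G) g)⁻¹) * r ((c : MulAut G) g) := by
            rw [hfg]
        _ = r (g⁻¹ * (c : MulAut G) g * f) := by rw [← map_mul, ← map_mul]; congr 1; group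
    set z := g⁻¹ * (c : MulAut G) g with hz
    have hcz : r ((c : MulAut G) z) = r z := hFT hzF
    have hk : ∀ k : ℕ, r (((c ^ k : A) : MulAut G) g) = r (g * z ^ k) := by
      intro k
      induction k with
      | zero => simp
      | succ k ih =>
        rw [pow_succ' c, Subgroup.coe_mul, MulAut.mul_apply, hequiv c ih, map_mul,
          show (c : MulAut G) g = g * z by rw [hz, mul_inv_cancel_left], map_pow, map_mul, map_pow r,
          hcz, ← map_pow r, ← map_mul, pow_succ' z, mul_assoc]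
    have hzp : z ^ p ∈ C := by
      have e := hk p
      rw [h.pow c] at e
      have e' := hreq.mp (show r g = r (g * z ^ p) from e)
      rwa [inv_mul_cancel_left] at e'
    obtain ⟨k, hk'⟩ := exists_pow_eq_self_of_coprime (x := z) (n := p)
      (h.prime.coprime_iff_not_dvd.mpr fun hd => h.not_dvd_card (hd.trans (orderOf_dvd_natCard z)))
    have hzC : z ∈ C := by rw [← hk']; exact pow_mem hzp k
    exact (hreq.mpr hzC).symm
  -- conclusion
  have hKnil := h.nilpotent_fix hc1
  set Kc := fixSub (c : MulAut G)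
  obtain ⟨N, hN⟩ := (Subgroup.isNilpotent_iff_lowerCentralSeries Kc).mp hKnil
  have hsurj : Kc.map π = ⊤ := by
    rw [eq_top_iff]
    intro v _
    obtain ⟨g, rfl⟩ := QuotientGroup.mk'_surjective C v
    let B : Subgroup A :=
      { carrier := {b | g⁻¹ * (b : MulAut G) g ∈ C}
        one_mem' := show g⁻¹ * g ∈ C by rw [inv_mul_cancel]; exact one_mem C
        mul_mem' := fun {a b} ha hb => by
          show g⁻¹ * (a : MulAut G) ((b : MulAut G) g) ∈ C
          have e : g⁻¹ * (a : MulAut G) ((b : MulAut G) g) =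
              (g⁻¹ * (a : MulAut G) g) * (a : MulAut G) (g⁻¹ * (b : MulAut G) g) := by
            simp [mul_assoc]
          rw [e]
          exact mul_mem ha (hCA a _ hb)
        inv_mem' := fun {a} ha => by
          show g⁻¹ * ((a⁻¹ : A) : MulAut G) g ∈ C
          have e : g⁻¹ * ((a⁻¹ : A) : MulAut G) g =
              ((a⁻¹ : A) : MulAut G) ((g⁻¹ * (a : MulAut G) g)⁻¹) := by
            rw [mul_inv_rev, inv_inv, map_mul, map_inv,
              show ((a⁻¹ : A) : MulAut G) ((a : MulAut G) g) = g from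
                (a : MulAut G).symm_apply_apply g]
          rw [e]
          exact hCA _ _ (inv_mem ha) }
    obtain ⟨y, hy, hyfix⟩ := h.exists_fixed B C hCA g fun b hb => hb
    exact ⟨y, hyfix c (hreq.mp (hTtop g).symm), (QuotientGroup.eq.mpr hy).symm⟩
  refine ⟨N, fun x hx => ?_⟩
  have h1 : π x ∈ ((⊤ : Subgroup G).lowerCentralSeries N).map π := ⟨x, hx, rfl⟩
  rw [Subgroup.map_lowerCentralSeries, Subgroup.map_top_of_surjective _
    (QuotientGroup.mk'_surjective C), ← hsurj, ← Subgroup.map_lowerCentralSeries, hN,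
    Subgroup.map_bot, Subgroup.mem_bot, hπ] at h1
  exact hC.mpr h1

theorem aux : ∀ (n : ℕ) {G : Type u} [Group G] [Finite G], Nat.card G ≤ n → Group.IsSolvable G →
    ∀ (p : ℕ) (A : Subgroup (MulAut G)), Hyp p A →
      ∃ N : ℕ, Group.IsNilpotent ((⊤ : Subgroup G).lowerCentralSeries N) := by
  intro n
  induction n with
  | zero =>
    intro G _ _ hcard
    have := Nat.card_pos (α := G)
    omega
  | succ n ih =>
  intro G _ _ hcard hsol p A h
  classical
  rcases subsingleton_or_nontrivial G with hss | hnt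
  · exact ⟨0, inferInstance⟩
  obtain ⟨V, ⟨hVn, hVA, hV0⟩, hVmin⟩ := Set.Finite.exists_minimal (Set.toFinite
    {V : Subgroup G | V.Normal ∧ (∀ a : A, ∀ x ∈ V, (a : MulAut G) x ∈ V) ∧ V ≠ ⊥})
    ⟨⊤, inferInstance, fun _ _ _ => Subgroup.mem_top _, top_ne_bot⟩
  have hmin : ∀ W : Subgroup G, W.Normal → (∀ a : A, ∀ x ∈ W, (a : MulAut G) x ∈ W) → W ≤ V →
      W = ⊥ ∨ W = V := by
    intro W hW hWσ hWV
    by_cases hb : W = ⊥
    · exact Or.inl hb
    · exact Or.inr (le_antisymm hWV (hVmin ⟨hW, hWσ, hb⟩ hWV))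
  have hab : ∀ a ∈ V, ∀ b ∈ V, a * b = b * a := by
    rcases hmin ⁅V, V⁆ inferInstance (fun a x hx => by
      have h1 : (⁅V, V⁆ : Subgroup G).map (a : MulAut G).toMonoidHom ≤ ⁅V, V⁆ := by
        have hV' : V.map (a : MulAut G).toMonoidHom ≤ V := by
          rintro _ ⟨y, hy, rfl⟩
          exact hVA a y hy
        rw [Subgroup.map_commutator]
        exact Subgroup.commutator_mono hV' hV'
      exact h1 ⟨x, hx, rfl⟩) (Subgroup.commutator_le_self V) with hb | hb
    · intro a ha b hb'
      have h1 : ⁅a, b⁆ ∈ (⊥ : Subgroup G) := hb ▸ Subgroup.commutator_mem_commutator ha hb'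
      exact commutatorElement_eq_one_iff_mul_comm.mp (Subgroup.mem_bot.mp h1)
    · obtain ⟨m, hm⟩ := (Group.isSolvable_def G).mp hsol
      have hk : ∀ i, V ≤ derivedSeries G i := by
        intro i
        induction i with
        | zero => exact le_top
        | succ i ih => exact hb.ge.trans (Subgroup.commutator_mono ih ih)
      exact absurd (eq_bot_iff.mpr (hm ▸ hk m)) hV0
  obtain ⟨q, hq, hqd⟩ := Nat.exists_prime_and_dvd
    (show Nat.card V ≠ 1 from fun e => hV0 (Subgroup.card_eq_one.mp e))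
  have hexp : ∀ v ∈ V, v ^ q = 1 := by
    let W : Subgroup G :=
      { carrier := {x | x ∈ V ∧ x ^ q = 1}
        one_mem' := ⟨one_mem _, one_pow _⟩
        mul_mem' := by
          rintro x y ⟨hx, hx'⟩ ⟨hy, hy'⟩
          exact ⟨mul_mem hx hy, by rw [Commute.mul_pow (hab x hx y hy), hx', hy', one_mul]⟩
        inv_mem' := by
          rintro x ⟨hx, hx'⟩
          exact ⟨inv_mem hx, by rw [inv_pow, hx', inv_one]⟩ }
    have hWn : W.Normal :=
      ⟨fun x ⟨hx, hx'⟩ g => ⟨hVn.conj_mem x hx g, by rw [conj_pow, hx', mul_one, mul_inv_cancel]⟩⟩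
    rcases hmin W hWn (fun a x ⟨hx, hx'⟩ => ⟨hVA a x hx, by rw [← map_pow, hx', map_one]⟩)
      (fun x hx => hx.1) with hb | hb
    · have : Fact q.Prime := ⟨hq⟩
      obtain ⟨z, hz⟩ := exists_prime_orderOf_dvd_card' q hqd
      have hzW : (z : G) ∈ W :=
        ⟨z.2, by rw [← SubmonoidClass.coe_pow, ← hz, pow_orderOf_eq_one]; rfl⟩
      rw [hb, Subgroup.mem_bot] at hzW
      rw [← Subgroup.orderOf_coe, hzW, orderOf_one] at hz
      exact absurd hz.symm hq.ne_one
    · exact fun v hv => (hb.ge hv).2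
  letI : CommGroup V := { V.toGroup with mul_comm := fun a b => Subtype.ext (hab _ a.2 _ b.2) }
  let act : G → AddMonoid.End (Additive V) := fun g =>
    MonoidHom.toAdditive
      (MonoidHom.mk' (fun v : V => (⟨g * v * g⁻¹, hVn.conj_mem _ v.2 g⟩ : V))
        (fun a b => Subtype.ext (by simp [mul_assoc])))
  let r : G →* AddMonoid.End (Additive V) :=
    { toFun := act
      map_one' := by
        ext v
        show (1 : G) * (Additive.toMul v : V) * (1 : G)⁻¹ = _
        simp
      map_mul' := fun g k => by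
        ext v
        show (g * k) * (Additive.toMul v : V) * (g * k)⁻¹ = g * (k * (Additive.toMul v : V) * k⁻¹) * g⁻¹
        group }
  let sact : A → AddMonoid.End (Additive V) := fun a =>
    MonoidHom.toAdditive (MonoidHom.mk' (fun v : V => (⟨(a : MulAut G) v, hVA a _ v.2⟩ : V))
      (fun x y => Subtype.ext (map_mul (a : MulAut G) _ _)))
  let s : A →* AddMonoid.End (Additive V) :=
    { toFun := sact
      map_one' := by ext v; rfl
      map_mul' := fun a b => by ext v; rfl }
  have hr : ∀ g, r g = 1 ↔ g ∈ Subgroup.centralizer (V : Set G) := by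
    intro g
    rw [Subgroup.mem_centralizer_iff]
    constructor
    · intro e v hv
      have h1 : g * v * g⁻¹ = v := congrArg (fun f : AddMonoid.End (Additive V) =>
        ((Additive.toMul (f (Additive.ofMul ⟨v, hv⟩)) : V) : G)) e
      exact (mul_inv_eq_iff_eq_mul.mp h1).symm
    · intro e
      ext v
      show g * (Additive.toMul v : V) * g⁻¹ = _
      rw [← e _ (Additive.toMul v : V).2, mul_inv_cancel_right]
      rfl
  have : Fintype A := Fintype.ofFinite A
  have hsr : ∀ (a : A) (g : G), s a * r g = r ((a : MulAut G) g) * s a := by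
    intro a g
    ext v
    show (a : MulAut G) (g * (Additive.toMul v : V) * g⁻¹) =
      (a : MulAut G) g * (a : MulAut G) (Additive.toMul v : V) * ((a : MulAut G) g)⁻¹
    rw [map_mul, map_mul, map_inv]
  have hqE : (q : AddMonoid.End (Additive V)) = 0 := by
    ext v
    rw [AddMonoid.End.natCast_apply]
    show (((Additive.toMul v : V) ^ q : V) : G) = 1
    rw [SubmonoidClass.coe_pow]
    exact hexp _ (Additive.toMul v : V).2
  have hsum : ∑ a : A, s a = 0 := by
    ext v
    set w := (∑ a : A, s a) v with hw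
    have hwfix : ∀ b : A, s b w = w := by
      intro b
      show (s b * ∑ a : A, s a) v = (∑ a : A, s a) v
      congr 1
      rw [Finset.mul_sum]
      exact Fintype.sum_equiv (Equiv.mulLeft b) _ _ fun a => (map_mul s b a).symm
    have : ((Additive.toMul w : V) : G) = 1 := h.fpf _ fun b =>
      congrArg (fun t : Additive V => ((Additive.toMul t : V) : G)) (hwfix b)
    exact this
  have hfix : ∀ b : A, b ≠ 1 → ∀ x : G, (b : MulAut G) x = x → (orderOf x).Coprime q →
      ∀ e : AddMonoid.End (Additive V), s b * e = e → r x * e = e := by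
    intro b hb1 x hbx hxq e he
    ext v
    have hbw := congrArg (fun f : AddMonoid.End (Additive V) =>
      ((Additive.toMul (f v) : V) : G)) he
    set w : V := Additive.toMul (e v) with hw
    change (b : MulAut G) (w : G) = (w : G) at hbw
    show x * (w : G) * x⁻¹ = (w : G)
    have hN := h.nilpotent_fix hb1
    have h1 : (w : G) ∈ Cfsg.piCoreOf {q} (fixSub (b : MulAut G)) :=
      CfsgLib.OddOrder.mem_piCoreOf_of_nilpotent hN hbw fun t ht htd =>
        (Nat.prime_dvd_prime_iff_eq ht hq).mp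
          (htd.trans (orderOf_dvd_of_pow_eq_one (hexp _ w.2)))
    have h2 : x ∈ Cfsg.piCoreOf {t | t ≠ q} (fixSub (b : MulAut G)) :=
      CfsgLib.OddOrder.mem_piCoreOf_of_nilpotent hN hbx fun t ht htd e =>
        hq.ne_one (Nat.eq_one_of_dvd_coprimes hxq (e ▸ htd) dvd_rfl)
    have h3 := CfsgLib.OddOrder.piCoreOf_le_centralizer_piCoreOf (π := {t | t ≠ q}) (ρ := {q})
      (fixSub (b : MulAut G)) (fun t ht ht' => absurd ht' ht) h2 _ h1
    rw [← h3, mul_inv_cancel_right]
  have hcentV : ∀ B : Subgroup G, B.Normal → (∀ a : A, ∀ x ∈ B, (a : MulAut G) x ∈ B) →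
      ∀ w ∈ V, w ≠ 1 → (∀ x ∈ B, x * w * x⁻¹ = w) → ∀ x ∈ B, r x = 1 := by
    intro B hBn hBi w hw hw1 hwc x hx
    have hWi : ∀ a : A, ∀ y ∈ V ⊓ Subgroup.centralizer (B : Set G),
        (a : MulAut G) y ∈ V ⊓ Subgroup.centralizer (B : Set G) := by
      rintro a y ⟨hy, hyc⟩
      refine ⟨hVA a y hy, Subgroup.mem_centralizer_iff.mpr fun z hz => ?_⟩
      have h1 := congrArg (a : MulAut G) (Subgroup.mem_centralizer_iff.mp hyc _ (hBi a⁻¹ z hz))
      rw [map_mul, map_mul, show (a : MulAut G) (((a⁻¹ : A) : MulAut G) z) = z from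
        (a : MulAut G).apply_symm_apply z] at h1
      exact h1
    have hwW : w ∈ V ⊓ Subgroup.centralizer (B : Set G) :=
      ⟨hw, Subgroup.mem_centralizer_iff.mpr fun z hz => mul_inv_eq_iff_eq_mul.mp (hwc z hz)⟩
    rcases hmin _ inferInstance hWi inf_le_left with e | e
    · rw [e, Subgroup.mem_bot] at hwW
      exact absurd hwW hw1
    · rw [hr, Subgroup.mem_centralizer_iff]
      intro v hv
      rw [← e] at hv
      exact (Subgroup.mem_centralizer_iff.mp hv.2 x hx).symm
  have hpg : ∀ B : Subgroup G, B.Normal → (∀ a : A, ∀ x ∈ B, (a : MulAut G) x ∈ B) →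
      (∀ x ∈ B, ∃ k, r x ^ q ^ k = 1) → ∀ x ∈ B, r x = 1 := by
    intro B hBn hBi hBq
    have : Fact q.Prime := ⟨hq⟩
    letI : MulAction B V :=
      { smul := fun a v => ⟨(a : G) * v * (a : G)⁻¹, hVn.conj_mem _ v.2 _⟩
        one_smul := fun v => Subtype.ext (show (1 : G) * v * (1 : G)⁻¹ = v by simp)
        mul_smul := fun a b v => Subtype.ext
          (show ((a : G) * b) * v * ((a : G) * b)⁻¹ = a * (b * v * (b : G)⁻¹) * (a : G)⁻¹ by group) }
    let f : B →* Equiv.Perm V := MulAction.toPermHom B V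
    have hfp : IsPGroup q f.range := by
      rintro ⟨_, a, rfl⟩
      obtain ⟨l, hl⟩ := hBq a a.2
      refine ⟨l, Subtype.ext ?_⟩
      rw [SubmonoidClass.coe_pow, ← map_pow]
      refine Equiv.ext fun v => Subtype.ext ?_
      show ((a ^ q ^ l : B) : G) * v * ((a ^ q ^ l : B) : G)⁻¹ = v
      rw [SubmonoidClass.coe_pow]
      rw [← map_pow] at hl
      rw [← Subgroup.mem_centralizer_iff.mp ((hr _).mp hl) v v.2, mul_inv_cancel_right]
    obtain ⟨w, hw, hw1⟩ := hfp.exists_fixed_point_of_prime_dvd_card_of_fixed_point V hqd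
      (a := (1 : V)) (by
        rintro ⟨_, a, rfl⟩
        exact Subtype.ext (show (a : G) * 1 * (a : G)⁻¹ = 1 by simp))
    exact hcentV B hBn hBi w w.2 (fun e => hw1 (Subtype.ext e).symm)
      fun x hx => congrArg Subtype.val (hw ⟨_, ⟨x, hx⟩, rfl⟩)
  have hirr : ∀ B : Subgroup G, B.Normal → (∀ a : A, ∀ x ∈ B, (a : MulAut G) x ∈ B) →
      (∃ x ∈ B, r x ≠ 1) → ∀ e : AddMonoid.End (Additive V), (∀ x ∈ B, r x * e = e) → e = 0 := by
    intro B hBn hBi ⟨x, hx, hx1⟩ e he
    ext v
    show ((Additive.toMul (e v) : V) : G) = 1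
    by_contra hne
    refine hx1 (hcentV B hBn hBi _ (Additive.toMul (e v) : V).2 hne (fun y hy => ?_) x hx)
    exact congrArg (fun f : AddMonoid.End (Additive V) => ((Additive.toMul (f v) : V) : G)) (he y hy)
  obtain ⟨N, hN⟩ := key h r s hsr hq hqE hsum hfix hpg hirr
  -- the quotient
  have hVmap : ∀ a : A, V.map (a : MulAut G).toMonoidHom = V := by
    intro a
    refine Subgroup.eq_of_le_of_card_ge ?_ (Subgroup.card_map_of_injective
      (f := (a : MulAut G).toMonoidHom) (a : MulAut G).injective).ge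
    rintro _ ⟨x, hx, rfl⟩
    exact hVA a x hx
  let ψ : A →* MulAut (G ⧸ V) :=
    { toFun := fun a => QuotientGroup.congr V V (a : MulAut G) (hVmap a)
      map_one' := MulEquiv.ext fun y => by
        obtain ⟨x, rfl⟩ := QuotientGroup.mk_surjective y
        rfl
      map_mul' := fun a b => MulEquiv.ext fun y => by
        obtain ⟨x, rfl⟩ := QuotientGroup.mk_surjective y
        rfl }
  have hfpf' : ∀ y : G ⧸ V, (∀ a : A, ψ a y = y) → y = 1 := by
    intro y
    obtain ⟨x, rfl⟩ := QuotientGroup.mk_surjective y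
    intro hy
    exact (QuotientGroup.eq_one_iff x).mpr
      (h.mem_of_forall V hVA fun a => QuotientGroup.eq.mp (hy a).symm)
  have hlt : Nat.card (G ⧸ V) ≤ n := by
    have h1 := Subgroup.card_eq_card_quotient_mul_card_subgroup V
    have h2 : 1 < Nat.card V :=
      lt_of_le_of_ne Nat.card_pos fun e => hV0 (Subgroup.eq_bot_of_card_eq _ e.symm)
    have h3 : 0 < Nat.card (G ⧸ V) := Nat.card_pos
    nlinarith
  have hquot : ∃ N : ℕ, Group.IsNilpotent ((⊤ : Subgroup (G ⧸ V)).lowerCentralSeries N) := by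
    by_cases hinj : Function.Injective ψ
    · refine ih hlt inferInstance p ψ.range ⟨h.prime, ?_, ?_, ?_, fun y hy => hfpf' y fun a =>
        hy ⟨_, a, rfl⟩⟩
      · rintro ⟨_, a, rfl⟩ ⟨_, b, rfl⟩
        exact Subtype.ext (show ψ a * ψ b = ψ b * ψ a by rw [← map_mul, ← map_mul, h.comm])
      · rintro ⟨_, a, rfl⟩
        exact Subtype.ext (show ψ a ^ p = 1 by rw [← map_pow, h.pow, map_one])
      · rw [← h.card]
        exact (Nat.card_congr (MonoidHom.ofInjective hinj).toEquiv).symm
    · obtain ⟨d, hd, hd1⟩ := (Subgroup.bot_or_exists_ne_one ψ.ker).resolve_left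
        fun e => hinj ((MonoidHom.ker_eq_bot_iff ψ).mp e)
      obtain ⟨c, hc⟩ := h.exists_not_mem d
      have hnil : Group.IsNilpotent (G ⧸ V) := by
        refine CfsgLib.Solvable.isNilpotent_of_fpf_solvable h.prime _ _ (ψ c) rfl
          (by rw [← map_pow, h.pow, map_one]) fun y hy => hfpf' y fun a => ?_
        let W : Subgroup A := (fixer ψ.range y).comap ψ.rangeRestrict
        have hW : W = ⊤ := h.eq_top (b := d) (c := c)
          (show ψ d y = y by rw [MonoidHom.mem_ker.mp hd]; rfl) hy hd1 hc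
        exact (hW ▸ Subgroup.mem_top a : a ∈ W)
      exact ⟨0, inferInstance⟩
  obtain ⟨N', hN'⟩ := hquot
  refine ⟨max N N', ?_⟩
  let π := QuotientGroup.mk' V
  set L := (⊤ : Subgroup G).lowerCentralSeries (max N N')
  have hLmap : ∀ x ∈ L, π x ∈ (⊤ : Subgroup (G ⧸ V)).lowerCentralSeries N' := by
    intro x hx
    have h1 : π x ∈ ((⊤ : Subgroup G).lowerCentralSeries N').map π :=
      ⟨x, Subgroup.lowerCentralSeries_antitone _ (le_max_right N N') hx, rfl⟩
    rwa [Subgroup.map_lowerCentralSeries, Subgroup.map_top_of_surjective _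
      (QuotientGroup.mk'_surjective V)] at h1
  let f : L →* ((⊤ : Subgroup (G ⧸ V)).lowerCentralSeries N') :=
    (π.comp L.subtype).codRestrict _ fun x => hLmap x x.2
  refine Subgroup.isNilpotent_of_ker_le_center f ?_
  intro x hx
  have hxV : (x : G) ∈ V := (QuotientGroup.eq_one_iff _).mp (congrArg Subtype.val hx)
  rw [Subgroup.mem_center_iff]
  intro y
  have hyC := (hr _).mp (MonoidHom.mem_ker.mp
    (hN (Subgroup.lowerCentralSeries_antitone _ (le_max_left N N') y.2)))
  exact Subtype.ext (Subgroup.mem_centralizer_iff.mp hyC _ hxV).symm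

/-- Ward's Theorem: let G be a finite solvable group and A an elementary abelian group of automorphisms of G of order p² (p a prime) with no non-identity common fixed point. Then G has Fitting height at most 2: G has Fitting height at most m when there is a chain of normal subgroups 1 = F₀ ≤ F₁ ≤ ⋯ ≤ F_m = G with each F_{i+1}/F_i nilpotent. -/
theorem result {G : Type*} [Group G] [Finite G] (hG : Group.IsSolvable G) {p : ℕ} (hp : p.Prime) (A : Subgroup (MulAut G)) (hA : Cfsg.IsElementaryAbelian p A) (hcard : Nat.card A = p ^ 2) (hfpf : ∀ g : G, (∀ a ∈ A, a g = g) → g = 1) : ∃ F : Fin (2 + 1) → Subgroup G, F 0 = ⊥ ∧ F (Fin.last 2) = ⊤ ∧ Monotone F ∧ (∀ i, (F i).Normal) ∧ ∀ i : Fin 2, ∃ k : ℕ, (F i.succ).lowerCentralSeries k ≤ F i.castSucc := by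
  have := hA.1
  have h : Hyp p A := ⟨hp, fun a b => mul_comm' a b, fun a => Subtype.ext (hA.2 a a.2), hcard,
    fun g hg => hfpf g fun a ha => hg ⟨a, ha⟩⟩
  obtain ⟨N, hN⟩ := aux (Nat.card G) le_rfl hG p A h
  obtain ⟨k, hk⟩ := (Subgroup.isNilpotent_iff_lowerCentralSeries _).mp hN
  set L := (⊤ : Subgroup G).lowerCentralSeries N with hL
  refine ⟨![⊥, L, ⊤], rfl, rfl, ?_, ?_, ?_⟩
  · refine Fin.monotone_iff_le_succ.mpr fun i => ?_
    fin_cases i <;> simp
  · intro i
    fin_cases i
    · exact (inferInstance : (⊥ : Subgroup G).Normal)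
    · exact Subgroup.normal_of_characteristic L
    · exact (inferInstance : (⊤ : Subgroup G).Normal)
  · intro i
    fin_cases i
    · exact ⟨k, hk.le⟩
    · exact ⟨N, le_rfl⟩

end Cfsg.Agent.S3796
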