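import Cfsg.Statements.S3797
import Cfsg.Agent.Lib.OneInvolClass

set_option autoImplicit false
open Cfsg

namespace Cfsg.Agent.S3797

/-- Let G be a finite solvable group of even order whose Sylow 2-subgroups contain more than one involution, and suppose all involutions of G are conjugate. Then G has 2-length at most 1, and a Sylow 2-subgroup S of G is either homocyclic (a direct product of cyclic groups of one common order) or a non-abelian 2-group with more than one involution admitting a solvable group of automorphisms transitive on its involutions. -/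
theorem result {G : Type*} [Group G] [Finite G] (hG : Group.IsSolvable G) (heven : Even (Nat.card G)) (S : Sylow 2 G) (htwo : ∃ x y : G, x ∈ (S : Subgroup G) ∧ y ∈ (S : Subgroup G) ∧ x ≠ y ∧ x ≠ 1 ∧ x ^ 2 = 1 ∧ y ≠ 1 ∧ y ^ 2 = 1) (hconj : ∀ x y : G, x ≠ 1 → x ^ 2 = 1 → y ≠ 1 → y ^ 2 = 1 → IsConj x y) : Cfsg.PLengthLE 2 1 G ∧ ((∃ m r : ℕ, Nonempty (↥(S : Subgroup G) ≃* (Fin r → Multiplicative (ZMod (2 ^ m))))) ∨ (¬ IsMulCommutative (S : Subgroup G) ∧ ∃ Y : Subgroup (MulAut ↥(S : Subgroup G)), Group.IsSolvable Y ∧ ∀ x y : ↥(S : Subgroup G), x ≠ 1 → x ^ 2 = 1 → y ≠ 1 → y ^ 2 = 1 → ∃ a ∈ Y, a x = y)) := by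
  classical
  haveI : Fact (Nat.Prime 2) := ⟨Nat.prime_two⟩
  set O := Cfsg.pPrimeCore 2 G with hOdef
  haveI hOn : O.Normal := CfsgLib.Solvable.pPrimeCore_normal 2 G
  set f := QuotientGroup.mk' O with hfdef
  have hf : Function.Surjective f := QuotientGroup.mk'_surjective O
  have hOcop : (Nat.card O).Coprime 2 := CfsgLib.Solvable.pPrimeCore_card_coprime 2 G
  haveI : Group.IsSolvable (G ⧸ O) := Group.isSolvable_of_surjective hf
  set T : Sylow 2 (G ⧸ O) := S.mapSurjective hf with hT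
  have hinj : ∀ x ∈ (S : Subgroup G), f x = 1 → x = 1 := by
    intro x hx h
    have hxO : x ∈ O := (QuotientGroup.eq_one_iff x).1 h
    obtain ⟨k, hk⟩ := IsPGroup.iff_orderOf.mp S.isPGroup' ⟨x, hx⟩
    rw [← Subgroup.orderOf_coe] at hk
    refine orderOf_eq_one_iff.1 (Nat.dvd_one.1 ?_)
    have h1 : orderOf x ∣ Nat.card O := by rw [← Subgroup.orderOf_mk x hxO]; exact orderOf_dvd_natCard _
    have h2 := (hOcop.symm.pow_left k)
    rw [← hk] at h2
    exact h2 ▸ Nat.dvd_gcd dvd_rfl h1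
  let φ : ↥(S : Subgroup G) →* ↥(T : Subgroup (G ⧸ O)) :=
    (f.comp (S : Subgroup G).subtype).codRestrict _ (fun x => ⟨x, x.2, rfl⟩)
  have hφ : Function.Bijective φ := by
    refine ⟨(injective_iff_map_eq_one φ).2 fun x hx => Subtype.ext (hinj x x.2 (congrArg Subtype.val hx)), ?_⟩
    rintro ⟨y, hy⟩
    rw [hT, Sylow.coe_mapSurjective] at hy
    obtain ⟨x, hx, rfl⟩ := hy
    exact ⟨⟨x, hx⟩, rfl⟩
  let e := MulEquiv.ofBijective φ hφ
  have hlift : ∀ y : G ⧸ O, y ≠ 1 → y ^ 2 = 1 → ∃ x : G, x ≠ 1 ∧ x ^ 2 = 1 ∧ f x = y := by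
    intro y hy1 hy2
    obtain ⟨x, ⟨k, hk⟩, rfl⟩ := CfsgLib.FGS68.exists_pElement_lift (p := 2) f hf (y := y)
      ⟨1, by rw [pow_one]; exact hy2⟩
    refine ⟨x, fun h => hy1 (by rw [h, map_one]), ?_, rfl⟩
    have hxO : x ^ 2 ∈ O := (QuotientGroup.eq_one_iff _).1
      (show f (x ^ 2) = 1 by rw [map_pow, hy2])
    refine orderOf_eq_one_iff.1 (Nat.dvd_one.1 ?_)
    have h1 : orderOf (x ^ 2) ∣ Nat.card O := by
      rw [← Subgroup.orderOf_mk (x ^ 2) hxO]; exact orderOf_dvd_natCard _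
    have h2 : orderOf (x ^ 2) ∣ 2 ^ k := orderOf_dvd_of_pow_eq_one (by
      rw [← pow_mul, mul_comm, pow_mul, hk, one_pow])
    exact (hOcop.pow_right k) ▸ Nat.dvd_gcd h1 h2
  have hconj' : ∀ x y : G ⧸ O, x ≠ 1 → x ^ 2 = 1 → y ≠ 1 → y ^ 2 = 1 → IsConj x y := by
    intro x y hx1 hx2 hy1 hy2
    obtain ⟨a, ha1, ha2, rfl⟩ := hlift x hx1 hx2
    obtain ⟨b, hb1, hb2, rfl⟩ := hlift y hy1 hy2
    exact f.map_isConj (hconj a b ha1 ha2 hb1 hb2)
  have htwo' : ∃ x y : G ⧸ O, x ∈ (T : Subgroup (G ⧸ O)) ∧ y ∈ (T : Subgroup (G ⧸ O)) ∧ x ≠ y ∧ x ≠ 1 ∧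
      x ^ 2 = 1 ∧ y ≠ 1 ∧ y ^ 2 = 1 := by
    obtain ⟨x, y, hx, hy, hxy, hx1, hx2, hy1, hy2⟩ := htwo
    exact ⟨f x, f y, (φ ⟨x, hx⟩).2, (φ ⟨y, hy⟩).2,
      fun h => hxy (congrArg Subtype.val (hφ.1 (Subtype.ext h : φ ⟨x, hx⟩ = φ ⟨y, hy⟩))),
      fun h => hx1 (hinj x hx h), by rw [← map_pow, hx2, map_one],
      fun h => hy1 (hinj y hy h), by rw [← map_pow, hy2, map_one]⟩
  have hTn : (T : Subgroup (G ⧸ O)).Normal := CfsgLib.OneInvolClass.sylow_normal_and_trans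
    (CfsgLib.Solvable.pPrimeCore_quotient_eq_bot O hOdef) T htwo' hconj'
  haveI := hTn
  let ρ : (G ⧸ O) →* MulAut ↥(T : Subgroup (G ⧸ O)) := MulAut.conjNormal
  let Y : Subgroup (MulAut ↥(S : Subgroup G)) := ((MulAut.congr e.symm).toMonoidHom.comp ρ).range
  have hYs : Group.IsSolvable Y := Group.isSolvable_of_surjective
    ((MulAut.congr e.symm).toMonoidHom.comp ρ).rangeRestrict_surjective
  have hYt : ∀ x y : ↥(S : Subgroup G), x ≠ 1 → x ^ 2 = 1 → y ≠ 1 → y ^ 2 = 1 → ∃ a ∈ Y, a x = y := by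
    intro x y hx1 hx2 hy1 hy2
    obtain ⟨c, hc⟩ := isConj_iff.1 (hconj' ((e x : (T : Subgroup (G ⧸ O))) : G ⧸ O) (e y : (T : Subgroup (G ⧸ O)))
      (fun h => hx1 ((MulEquiv.map_eq_one_iff e).1 (Subtype.ext h)))
      (by rw [← SubmonoidClass.coe_pow, ← map_pow, hx2, map_one, OneMemClass.coe_one])
      (fun h => hy1 ((MulEquiv.map_eq_one_iff e).1 (Subtype.ext h)))
      (by rw [← SubmonoidClass.coe_pow, ← map_pow, hy2, map_one, OneMemClass.coe_one]))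
    refine ⟨_, ⟨c, rfl⟩, e.injective ?_⟩
    show e (e.symm (ρ c (e.symm.symm x))) = e y
    rw [MulEquiv.apply_symm_apply]
    exact Subtype.ext hc
  haveI : (Cfsg.pPrimePCore 2 G).Normal := by
    rw [Cfsg.pPrimePCore]
    haveI := CfsgLib.Solvable.pCore_normal 2 (G ⧸ Cfsg.pPrimeCore 2 G)
    infer_instance
  refine ⟨?_, ?_⟩
  · refine CfsgLib.FGS68.pLengthLE_succ (k := 0) ?_
    refine CfsgLib.FGS68.pLengthLE_zero_of_not_dvd ?_
    rw [← Subgroup.index_eq_card]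
    intro h
    have hle : (T : Subgroup (G ⧸ O)) ≤ Cfsg.pCore 2 (G ⧸ O) :=
      CfsgLib.Solvable.le_pCore hTn T.isPGroup'
    have h1 : (Cfsg.pPrimePCore 2 G).index ∣ (T : Subgroup (G ⧸ O)).index := by
      rw [Cfsg.pPrimePCore, Subgroup.index_comap_of_surjective _ (QuotientGroup.mk'_surjective _)]
      exact Subgroup.index_dvd_of_le hle
    exact T.not_dvd_index (h.trans h1)
  · by_cases hab : IsMulCommutative (S : Subgroup G)
    · left
      letI : CommGroup ↥(S : Subgroup G) := { mul_comm := fun a b => hab.is_comm.comm a b }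
      exact CfsgLib.OneInvolClass.homocyclic S.isPGroup' fun x y h1 h2 h3 h4 =>
        (hYt x y h1 h2 h3 h4).imp fun a ha => ha.2
    · exact Or.inr ⟨hab, Y, hYs, hYt⟩


end Cfsg.Agent.S3797
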