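import Cfsg.Statements.S3798
import Cfsg.Agent.S0120
import Cfsg.Agent.Lib.PLocal.PSolvable
import Cfsg.Agent.Lib.PLocal.UpperSeries
import Cfsg.Agent.Lib.Solvable.SchurZassenhaus
import Cfsg.Agent.Lib.PGroup.Basic

set_option autoImplicit false
open Cfsg
open scoped Pointwise

namespace Cfsg.Agent.S3798

theorem char_map {G : Type*} [Group G] {K : Subgroup G} (hK : K.Characteristic) (a : MulAut G) :
    K.map a.toMonoidHom = K :=
  Subgroup.characteristic_iff_map_eq.mp hK a

/-- The core case: `O_{p'}(X) = 1`. -/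
theorem sylow_le_pCore {X : Type*} [Group X] [Finite X] {p : ℕ} [hpf : Fact p.Prime] (hp : p ≠ 2)
    (hX : Cfsg.IsPSolvable p X) (hO : Cfsg.pPrimeCore p X = ⊥)
    (htrans : ∀ U V : Subgroup X, Nat.card U = p → Nat.card V = p → ∃ a : MulAut X, U.map a.toMonoidHom = V)
    (S : Sylow p X) : (S : Subgroup X) ≤ Cfsg.pCore p X := by
  set P := Cfsg.pCore p X with hP
  have hPn : P.Normal := CfsgLib.Solvable.pCore_normal (p := p) X
  have hPc : P.Characteristic := CfsgLib.Solvable.pCore_characteristic (p := p) X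
  have hPp : IsPGroup p P := CfsgLib.Solvable.pCore_isPGroup (p := p) X
  have hC : Subgroup.centralizer (P : Set X) ≤ P := CfsgLib.PLoc.centralizer_pCore_le_self hX hO
  by_cases hP0 : P = ⊥
  · intro x _
    refine hC (Subgroup.mem_centralizer_iff.mpr fun y hy => ?_)
    rw [hP0, Subgroup.coe_bot, Set.mem_singleton_iff] at hy
    simp [hy]
  -- every element of order `p` is central in `P`
  obtain ⟨z₀, hz₀P, hz₀c, hz₀⟩ : ∃ z ∈ P, (∀ y ∈ P, y * z = z * y) ∧ orderOf z = p := by
    have hne : (⊤ : Subgroup P) ≠ ⊥ := fun e => hP0 (by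
      rw [eq_bot_iff]
      intro x hx
      have : (⟨x, hx⟩ : P) ∈ (⊥ : Subgroup P) := e ▸ Subgroup.mem_top _
      exact congrArg Subtype.val (Subgroup.mem_bot.mp this))
    obtain ⟨z, -, hzc, hord⟩ := CfsgLib.PGroup.exists_central_orderOf_eq (p := p) hPp ⊤ hne
    exact ⟨z, z.2, fun y hy => congrArg Subtype.val (Subgroup.mem_center_iff.mp hzc ⟨y, hy⟩),
      by rw [Subgroup.orderOf_coe]; exact hord⟩
  have hconj : ∀ z : X, orderOf z = p → ∃ a : MulAut X, ∃ k : ℤ, a (z₀ ^ k) = z := by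
    intro z hz
    obtain ⟨a, ha⟩ := htrans (Subgroup.zpowers z₀) (Subgroup.zpowers z)
      (by rw [Nat.card_zpowers, hz₀]) (by rw [Nat.card_zpowers, hz])
    obtain ⟨w, ⟨k, rfl⟩, hw⟩ := ha.symm ▸ Subgroup.mem_zpowers z
    exact ⟨a, k, hw⟩
  have hPmem : ∀ (a : MulAut X) (y : X), y ∈ P → a y ∈ P := fun a y hy =>
    (char_map hPc a).le ⟨y, hy, rfl⟩
  have hPcentral : ∀ z : X, orderOf z = p → z ∈ P ∧ ∀ y ∈ P, y * z = z * y := by
    intro z hz
    obtain ⟨a, k, rfl⟩ := hconj z hz
    refine ⟨hPmem a _ (zpow_mem hz₀P k), fun y hy => ?_⟩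
    have h1 := congrArg a ((Commute.zpow_right (hz₀c (a⁻¹ y) (hPmem a⁻¹ y hy)) k).eq)
    simpa using h1
  by_contra hS
  -- the quotient by `P`
  set π := QuotientGroup.mk' P with hπ
  have hπs : Function.Surjective π := QuotientGroup.mk'_surjective P
  set Qb := Cfsg.pPrimeCore p (X ⧸ P) with hQb
  have hQb0 : Qb ≠ ⊥ := by
    intro e
    have hOp : Cfsg.pCore p (X ⧸ P) = ⊥ := CfsgLib.Solvable.pCore_quotient_eq_bot P rfl
    have h := CfsgLib.PLocal.centralizer_pPrimeCore_le_self
      (CfsgLib.PLoc.isPSolvable_of_surjective hπs hX) hOp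
    rw [← hQb, e] at h
    refine hS fun x _ => ?_
    have h1 : π x ∈ (⊥ : Subgroup (X ⧸ P)) := h (Subgroup.mem_centralizer_iff.mpr fun y hy => by
      rw [Subgroup.coe_bot, Set.mem_singleton_iff] at hy
      simp [hy])
    rw [Subgroup.mem_bot] at h1
    exact (QuotientGroup.eq_one_iff x).mp h1
  set Qh := Qb.comap π with hQh
  have hQhn : Qh.Normal := (CfsgLib.Solvable.pPrimeCore_normal p (X ⧸ P)).comap π
  have hPQh : P ≤ Qh := fun x hx => by
    rw [hQh, Subgroup.mem_comap, show π x = 1 from (QuotientGroup.eq_one_iff x).mpr hx]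
    exact one_mem _
  have hQha : ∀ (a : MulAut X) (y : X), y ∈ Qh → a y ∈ Qh := by
    intro a y hy
    let e : X ⧸ P ≃* X ⧸ P := QuotientGroup.congr P P a (char_map hPc a)
    have h1 : e (π y) ∈ Qb :=
      (char_map (CfsgLib.Solvable.pPrimeCore_characteristic p (X ⧸ P)) e).le ⟨π y, hy, rfl⟩
    exact h1
  -- a complement
  obtain ⟨j, hj⟩ := IsPGroup.iff_card.mp hPp
  have hQcop : (Nat.card Qb).Coprime p := CfsgLib.Solvable.pPrimeCore_card_coprime p _
  have hidx : (P.subgroupOf Qh).index = Nat.card Qb := by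
    show P.relIndex Qh = _
    rw [← Subgroup.relIndex_bot_left Qb, hQh]
    have h2 := Subgroup.relIndex_comap (H := (⊥ : Subgroup (X ⧸ P))) π (Qb.comap π)
    rw [MonoidHom.comap_bot, QuotientGroup.ker_mk', Subgroup.map_comap_eq_self_of_surjective hπs Qb] at h2
    exact h2
  obtain ⟨Q0, hQ0⟩ := Subgroup.exists_right_complement'_of_coprime (N := P.subgroupOf Qh) (by
    rw [Nat.card_congr (Subgroup.subgroupOfEquivOfLe hPQh).toEquiv, hidx, hj]
    exact (hQcop.pow_right j).symm)
  set Q := Q0.map Qh.subtype with hQdef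
  have hQle : Q ≤ Qh := Subgroup.map_subtype_le _
  have hQcard : Nat.card Q = Nat.card Qb := by
    rw [← Nat.card_congr (Subgroup.equivMapOfInjective Q0 _ Qh.subtype_injective).toEquiv, ← hidx,
      hQ0.symm.index_eq_card]
  have hsup : P ⊔ Q = Qh := by
    refine le_antisymm (sup_le hPQh hQle) fun x hx => ?_
    obtain ⟨u, hu, v, hv, huv⟩ := Subgroup.mem_sup_of_normal_left.mp
      (hQ0.sup_eq_top.symm ▸ Subgroup.mem_top (⟨x, hx⟩ : Qh) : (⟨x, hx⟩ : Qh) ∈ P.subgroupOf Qh ⊔ Q0)
    rw [show x = (u : X) * (v : X) from (congrArg Subtype.val huv).symm]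
    exact Subgroup.mul_mem_sup hu ⟨v, hv, rfl⟩
  have hcop : (Nat.card P).Coprime (Nat.card Q) := by
    rw [hj, hQcard]
    exact (hQcop.pow_right j).symm
  -- no element of order `p` centralizes `Qh`
  have hfix : ∀ z : X, orderOf z = p → ∃ y ∈ Qh, y * z ≠ z * y := by
    intro z hz
    by_contra hc
    push Not at hc
    have hall : ∀ w : X, orderOf w = p → ∀ y ∈ Qh, y * w = w * y := by
      intro w hw y hy
      obtain ⟨a, ha⟩ := htrans (Subgroup.zpowers z) (Subgroup.zpowers w)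
        (by rw [Nat.card_zpowers, hz]) (by rw [Nat.card_zpowers, hw])
      obtain ⟨_, ⟨k, rfl⟩, hk⟩ := ha.symm ▸ Subgroup.mem_zpowers w
      have h1 := congrArg a ((Commute.zpow_right (hc (a⁻¹ y) (hQha a⁻¹ y hy)) k).eq)
      simp only [map_mul, MulAut.apply_inv_self] at h1
      simp only [MulEquiv.coe_toMonoidHom] at hk
      rwa [hk] at h1
    refine hQb0 (Subgroup.eq_bot_of_card_eq _ (hQcard ▸ ?_))
    rw [Subgroup.card_eq_one, eq_bot_iff]
    intro y hy
    have hn : y ∈ Subgroup.normalizer (P : Set X) := by rw [Subgroup.normalizer_eq_top P]; trivial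
    let β : MulAut P := Subgroup.normalizerMonoidHom P ⟨y, hn⟩
    have hord : Nat.Coprime (orderOf β) p := by
      refine Nat.Coprime.coprime_dvd_left ((orderOf_map_dvd _ _).trans ?_) (hQcard ▸ hQcop)
      rw [Subgroup.orderOf_mk]
      exact Q.orderOf_dvd_natCard hy
    have hβ := Cfsg.Agent.S0120.result hp hPp β hord (fun w hw => by
      by_cases hw1 : w = 1
      · rw [hw1, map_one]
      apply Subtype.ext
      show y * (w : X) * y⁻¹ = w
      rw [hall w (by rw [Subgroup.orderOf_coe]; exact orderOf_eq_prime hw hw1) y (hQle hy), mul_inv_cancel_right])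
    have hyP : y ∈ P := hC (Subgroup.mem_centralizer_iff.mpr fun w hw => by
      have h1 : y * w * y⁻¹ = w := congrArg (fun f : MulAut P => ((f ⟨w, hw⟩ : P) : X)) hβ
      exact (mul_inv_eq_iff_eq_mul.mp h1).symm)
    exact Subgroup.disjoint_def.mp (disjoint_iff.mpr (Subgroup.inf_eq_bot_of_coprime hcop)) hyP hy
  -- `N(Q)` meets `P` trivially
  have hNP : ∀ x ∈ P, x ∈ Subgroup.normalizer (Q : Set X) → x = 1 := by
    intro x hxP hxN
    by_contra hx1
    obtain ⟨k, hk⟩ := IsPGroup.iff_orderOf.mp hPp ⟨x, hxP⟩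
    rw [Subgroup.orderOf_mk] at hk
    have hd : p ∣ orderOf x := by
      rw [hk]
      refine dvd_pow_self p fun e => hx1 ?_
      rw [e, pow_zero, orderOf_eq_one_iff] at hk
      exact hk
    have hz := orderOf_pow_orderOf_div (orderOf_pos x).ne' hd
    set z := x ^ (orderOf x / p) with hzdef
    obtain ⟨y, hy, hne⟩ := hfix z hz
    apply hne
    have hzP := hPcentral z hz
    have hzN : z ∈ Subgroup.normalizer (Q : Set X) := pow_mem hxN _
    rw [← hsup] at hy
    obtain ⟨u, hu, v, hv, rfl⟩ := Subgroup.mem_sup_of_normal_left.mp hy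
    have h1 : z * v * z⁻¹ * v⁻¹ ∈ Q :=
      mul_mem ((Subgroup.mem_normalizer_iff.mp hzN v).mp hv) (inv_mem hv)
    have h2 : z * v * z⁻¹ * v⁻¹ ∈ P := by
      have := mul_mem hzP.1 (hPn.conj_mem _ (inv_mem hzP.1) v)
      simpa [mul_assoc] using this
    have h3 := Subgroup.disjoint_def.mp (disjoint_iff.mpr (Subgroup.inf_eq_bot_of_coprime hcop)) h2 h1
    rw [mul_inv_eq_one, mul_inv_eq_iff_eq_mul] at h3
    exact (Commute.mul_left (hzP.2 u hu) (show Commute v z from h3.symm)).eq
  -- Frattini argument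
  have hsolP : Group.IsSolvable P := by
    have := hPp.isNilpotent
    infer_instance
  have hfr : ∀ g : X, π g ∈ (Subgroup.normalizer (Q : Set X)).map π := by
    intro g
    have hle : MulAut.conj g • Q ≤ P ⊔ Q := by
      rw [hsup]
      intro w hw
      rw [CfsgLib.Solvable.mem_conj_smul] at hw
      have := hQhn.conj_mem _ (hQle hw) g
      simpa [mul_assoc] using this
    obtain ⟨n, hn, hc⟩ := CfsgLib.Solvable.exists_conj_eq_of_coprime
      (by rw [Subgroup.normalizer_eq_top P]; exact le_top) hle (CfsgLib.Solvable.card_conj_smul g Q) hcop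
      (Or.inl hsolP)
    refine ⟨n⁻¹ * g, ?_, ?_⟩
    · rw [SetLike.mem_coe, ← CfsgLib.Solvable.conj_smul_eq_self_iff, ← CfsgLib.Solvable.conj_smul_conj_smul,
        ← hc, CfsgLib.Solvable.conj_smul_conj_smul, inv_mul_cancel, map_one, one_smul]
    · rw [map_mul, map_inv, show π n = 1 from (QuotientGroup.eq_one_iff n).mpr hn, inv_one, one_mul]
  obtain ⟨s, hs, hsP⟩ := SetLike.not_le_iff_exists.mp hS
  obtain ⟨t, ht, hts⟩ := hfr s
  have ht1 : orderOf t ∣ orderOf t := dvd_rfl
  obtain ⟨k, hk⟩ := IsPGroup.iff_orderOf.mp S.2 ⟨s, hs⟩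
  have hd : p ∣ orderOf t := by
    have h1 : orderOf (π t) ∣ orderOf t := orderOf_map_dvd π t
    have h2 : orderOf (π t) ∣ p ^ k := by
      rw [hts, ← hk, Subgroup.orderOf_mk]
      exact orderOf_map_dvd π s
    obtain ⟨i, -, hi⟩ := (Nat.dvd_prime_pow hpf.out).mp h2
    refine dvd_trans ?_ h1
    rw [hi]
    refine dvd_pow_self p fun e => hsP ?_
    rw [e, pow_zero, orderOf_eq_one_iff, hts] at hi
    exact (QuotientGroup.eq_one_iff s).mp hi
  have hz := orderOf_pow_orderOf_div (orderOf_pos t).ne' hd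
  have h1 := hNP _ (hPcentral _ hz).1 (pow_mem ht _)
  rw [h1, orderOf_one] at hz
  exact hpf.out.ne_one hz.symm

/-- The Gaschütz–Yen Theorem: let G be a finite p-soluble group, p an odd prime dividing its order, such that the automorphism group of G permutes the subgroups of G of order p transitively. Then G has p-length at most 1. -/
theorem result {G : Type*} [Group G] [Finite G] {p : ℕ} [Fact p.Prime] (hp : p ≠ 2) (hdvd : p ∣ Nat.card G) (hG : Cfsg.IsPSolvable p G) (htrans : ∀ U V : Subgroup G, Nat.card U = p → Nat.card V = p → ∃ a : MulAut G, U.map a.toMonoidHom = V) : Cfsg.PLengthLE p 1 G := by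
  obtain ⟨S⟩ : Nonempty (Sylow p G) := inferInstance
  set K := Cfsg.pPrimeCore p G with hKdef
  have hKn : K.Normal := CfsgLib.Solvable.pPrimeCore_normal p G
  have hKc : K.Characteristic := CfsgLib.Solvable.pPrimeCore_characteristic p G
  set f := QuotientGroup.mk' K
  have hf : Function.Surjective f := QuotientGroup.mk'_surjective K
  have hlift : ∀ U : Subgroup (G ⧸ K), Nat.card U = p →
      ∃ U' : Subgroup G, Nat.card U' = p ∧ U'.map f = U := by
    intro U hU
    obtain ⟨T, hT⟩ := (IsPGroup.of_card (n := 1) (by rw [hU, pow_one]) : IsPGroup p U).exists_le_sylow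
    obtain ⟨T', rfl⟩ := Sylow.mapSurjective_surjective hf p T
    refine ⟨U.comap f ⊓ (T' : Subgroup G), ?_, ?_⟩
    · have hinj : Function.Injective (f.domRestrict (T' : Subgroup G)) := by
        rw [← MonoidHom.ker_eq_bot_iff, eq_bot_iff]
        intro x hx
        have hxK : (x : G) ∈ K := (QuotientGroup.eq_one_iff _).mp hx
        obtain ⟨i, hi⟩ := IsPGroup.iff_card.mp T'.2
        have := Subgroup.disjoint_def.mp (disjoint_iff.mpr (Subgroup.inf_eq_bot_of_coprime
          (hi ▸ (CfsgLib.Solvable.pPrimeCore_card_coprime p G).pow_right i :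
            (Nat.card K).Coprime (Nat.card (T' : Subgroup G))))) hxK x.2
        exact Subgroup.mem_bot.mpr (Subtype.ext this)
      refine (Nat.card_congr (Equiv.ofBijective (β := U) (fun x => ⟨f x.1, x.2.1⟩) ⟨?_, ?_⟩)).trans hU
      · intro a b h
        have := hinj (a₁ := ⟨a.1, a.2.2⟩) (a₂ := ⟨b.1, b.2.2⟩) (congrArg Subtype.val h)
        exact Subtype.ext (congrArg (fun z : (T' : Subgroup G) => (z : G)) this)
      · rintro ⟨w, hw⟩
        obtain ⟨x, hx, rfl⟩ := hT hw
        exact ⟨⟨x, hw, hx⟩, rfl⟩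
    · refine le_antisymm ?_ ?_
      · rintro _ ⟨x, hx, rfl⟩
        exact hx.1
      · intro w hw
        obtain ⟨x, hx, rfl⟩ := hT hw
        exact ⟨x, ⟨hw, hx⟩, rfl⟩
  have hmain := sylow_le_pCore hp (CfsgLib.PLoc.isPSolvable_of_surjective hf hG)
    (CfsgLib.PLoc.pPrimeCore_quotient_eq_bot hf (QuotientGroup.ker_mk' K))
    (fun U V hU hV => by
      obtain ⟨U', hU', rfl⟩ := hlift U hU
      obtain ⟨V', hV', rfl⟩ := hlift V hV
      obtain ⟨a, ha⟩ := htrans U' V' hU' hV'
      refine ⟨QuotientGroup.congr K K a (char_map hKc a), ?_⟩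
      rw [← ha, Subgroup.map_map, Subgroup.map_map]
      rfl)
    (S.mapSurjective hf)
  -- translate to the upper p-series
  have hU1 : (Cfsg.upperPSeries p G 1).1 = K := by
    rw [show 1 = 2 * 0 + 1 from rfl, CfsgLib.PLoc.upperPSeries_odd]
    refine (CfsgLib.PLoc.pPrimeCore_eq_comap (QuotientGroup.mk'_surjective _) ?_).symm
    rw [QuotientGroup.ker_mk']
    show (Nat.card (⊥ : Subgroup G)).Coprime p
    rw [Subgroup.card_bot]
    exact Nat.coprime_one_left p
  have hS : (S : Subgroup G) ≤ (Cfsg.upperPSeries p G 2).1 := by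
    rw [show 2 = 2 * 0 + 2 from rfl, CfsgLib.PLoc.upperPSeries_even]
    rw [CfsgLib.PLoc.comap_pCore_congr (QuotientGroup.mk'_surjective _) hf (by
      rw [QuotientGroup.ker_mk', QuotientGroup.ker_mk']; exact hU1)]
    intro x hx
    exact hmain ⟨x, hx, rfl⟩
  show (Cfsg.upperPSeries p G (2 * 1 + 1)).1 = ⊤
  rw [CfsgLib.PLoc.upperPSeries_odd, eq_top_iff]
  intro x _
  refine CfsgLib.PLoc.le_pPrimeCore_of (N := ⊤) inferInstance ?_ (Subgroup.mem_top _)
  rw [Subgroup.card_top, ← Subgroup.index_eq_card]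
  exact Nat.Coprime.coprime_dvd_left (Subgroup.index_dvd_of_le hS)
    ((Nat.Prime.coprime_iff_not_dvd Fact.out).mpr S.not_dvd_index).symm

end Cfsg.Agent.S3798
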