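import Cfsg.Statements.S3799
import Mathlib.LinearAlgebra.Matrix.GeneralLinearGroup.Defs
import Mathlib.Data.Matrix.Mul
import Mathlib.GroupTheory.Frattini
import Mathlib.GroupTheory.PGroup
import Mathlib.Data.Nat.Choose.Dvd
import Mathlib.Tactic.LinearCombination

set_option autoImplicit false
open Cfsg

namespace Cfsg.Agent.S3799

open Matrix
open scoped commutatorElement

section Heis

variable {F : Type*} [CommRing F] {n : ℕ}

/-- Extend a vector on `Fin n` by zero at both ends. -/
def extVec (x : Fin n → F) : Fin (n + 2) → F := Fin.cases 0 (Fin.snoc x 0)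

@[simp] theorem extVec_zero (x : Fin n → F) : extVec x 0 = 0 := rfl

@[simp] theorem extVec_last (x : Fin n → F) : extVec x (Fin.last (n + 1)) = 0 := by
  rw [← Fin.succ_last, extVec, Fin.cases_succ, Fin.snoc_last]

@[simp] theorem extVec_mid (x : Fin n → F) (i : Fin n) : extVec x i.castSucc.succ = x i := by
  rw [extVec, Fin.cases_succ, Fin.snoc_castSucc]

theorem extVec_add (x x' : Fin n → F) : extVec (x + x') = extVec x + extVec x' := by
  funext k
  refine Fin.cases (by simp) (fun j => ?_) k
  refine Fin.lastCases ?_ (fun i => by simp) j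
  simp

theorem extVec_dot (x y : Fin n → F) : extVec x ⬝ᵥ extVec y = x ⬝ᵥ y := by
  simp [dotProduct, Fin.sum_univ_succ (n := n + 1), Fin.sum_univ_castSucc (n := n)]

/-- The nilpotent part of a Heisenberg matrix. -/
def nilPart (x y : Fin n → F) (z : F) : Matrix (Fin (n + 2)) (Fin (n + 2)) F :=
  vecMulVec (Pi.single 0 1) (extVec x + z • Pi.single (Fin.last (n + 1)) 1) +
    vecMulVec (extVec y) (Pi.single (Fin.last (n + 1)) 1)

/-- A Heisenberg matrix. -/
def heis (x y : Fin n → F) (z : F) : Matrix (Fin (n + 2)) (Fin (n + 2)) F := 1 + nilPart x y z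

theorem nilPart_mul (x y x' y' : Fin n → F) (z z' : F) :
    nilPart x y z * nilPart x' y' z' = nilPart 0 0 (x ⬝ᵥ y') := by
  have h0 : extVec (0 : Fin n → F) = 0 := by
    funext k
    refine Fin.cases (by simp) (fun j => ?_) k
    refine Fin.lastCases ?_ (fun i => by simp) j
    simp
  have hne : (0 : Fin (n + 2)) ≠ Fin.last (n + 1) := by simp [Fin.ext_iff]
  simp [nilPart, add_mul, mul_add, vecMulVec_mul_vecMulVec, add_dotProduct, smul_dotProduct,
    dotProduct_single, single_dotProduct, extVec_dot, h0, hne, hne.symm, vecMulVec_smul']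

theorem nilPart_add (x y x' y' : Fin n → F) (z z' : F) :
    nilPart x y z + nilPart x' y' z' = nilPart (x + x') (y + y') (z + z') := by
  simp only [nilPart, extVec_add, vecMulVec_add, add_vecMulVec, add_smul]
  abel

theorem heis_mul (x y x' y' : Fin n → F) (z z' : F) :
    heis x y z * heis x' y' z' = heis (x + x') (y + y') (z + z' + x ⬝ᵥ y') := by
  simp only [heis, mul_add, add_mul, one_mul, mul_one, nilPart_mul]
  rw [add_assoc, add_comm (nilPart x' y' z'), ← add_assoc, ← add_assoc]
  have h1 := nilPart_add x y x' y' z z'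
  have h2 := nilPart_add (x + x') (y + y') 0 0 (z + z') (x ⬝ᵥ y')
  rw [add_zero, add_zero] at h2
  rw [← h2, ← h1]
  abel

theorem heis_zero : heis (0 : Fin n → F) 0 0 = 1 := by
  have h := nilPart_add (0 : Fin n → F) 0 0 0 0 0
  rw [add_zero, add_zero, add_eq_left] at h
  rw [heis, h, add_zero]

theorem heis_inj {x y x' y' : Fin n → F} {z z' : F} (h : heis x y z = heis x' y' z') :
    x = x' ∧ y = y' ∧ z = z' := by
  have hn : nilPart x y z = nilPart x' y' z' := add_left_cancel h
  have hne : (0 : Fin (n + 2)) ≠ Fin.last (n + 1) := by simp [Fin.ext_iff]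
  have hmid : ∀ i : Fin n, (i.castSucc.succ : Fin (n + 2)) ≠ Fin.last (n + 1) := fun i => by
    simp [Fin.ext_iff]; omega
  refine ⟨funext fun i => ?_, funext fun i => ?_, ?_⟩
  · simpa [nilPart, vecMulVec_apply, hmid i] using congrFun₂ hn 0 i.castSucc.succ
  · simpa [nilPart, vecMulVec_apply, hmid i] using congrFun₂ hn i.castSucc.succ (Fin.last (n + 1))
  · simpa [nilPart, vecMulVec_apply, hne] using congrFun₂ hn 0 (Fin.last (n + 1))

/-- Heisenberg matrices as units. -/
def heisUnit (t : (Fin n → F) × (Fin n → F) × F) : GL (Fin (n + 2)) F :=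
  ⟨heis t.1 t.2.1 t.2.2, heis (-t.1) (-t.2.1) (-t.2.2 + t.1 ⬝ᵥ t.2.1),
    by rw [heis_mul, add_neg_cancel, add_neg_cancel, dotProduct_neg]; rw [← heis_zero]; congr 1; ring,
    by rw [heis_mul, neg_add_cancel, neg_add_cancel, neg_dotProduct]; rw [← heis_zero]; congr 1; ring⟩

theorem heisUnit_inj : Function.Injective (heisUnit (F := F) (n := n)) := by
  rintro ⟨x, y, z⟩ ⟨x', y', z'⟩ h
  obtain ⟨h1, h2, h3⟩ := heis_inj (congrArg Units.val h)
  subst h1 h2 h3
  rfl

theorem heisUnit_mul (x y x' y' : Fin n → F) (z z' : F) :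
    heisUnit (x, y, z) * heisUnit (x', y', z') = heisUnit (x + x', y + y', z + z' + x ⬝ᵥ y') :=
  Units.ext (heis_mul x y x' y' z z')

theorem heisUnit_zero : heisUnit ((0, 0, 0) : (Fin n → F) × (Fin n → F) × F) = 1 :=
  Units.ext heis_zero

theorem heisUnit_inv (x y : Fin n → F) (z : F) :
    (heisUnit (x, y, z))⁻¹ = heisUnit (-x, -y, -z + x ⬝ᵥ y) :=
  Units.ext rfl

theorem heisUnit_pow (x y : Fin n → F) (z : F) (k : ℕ) :
    heisUnit (x, y, z) ^ k = heisUnit ((k : F) • x, (k : F) • y, (k : F) * z + (k.choose 2 : F) * (x ⬝ᵥ y)) := by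
  induction k with
  | zero => simp [heisUnit_zero]
  | succ k ih =>
    rw [pow_succ, ih, heisUnit_mul, Nat.choose_succ_succ k 1, Nat.choose_one_right]
    congr 1
    simp only [Prod.mk.injEq, smul_dotProduct, smul_eq_mul, Nat.cast_succ, Nat.cast_add, add_smul, one_smul]
    exact ⟨trivial, trivial, by ring⟩

end Heis

/-- For every odd prime p and every n ≥ 1 there is an extraspecial p-group of order p^(1+2n) and exponent p; concretely, the general linear group of degree n + 2 over the field with p elements contains such a subgroup. -/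
theorem result (p : ℕ) [Fact p.Prime] (hp : p ≠ 2) (n : ℕ) (hn : 1 ≤ n) : ∃ E : Subgroup (Matrix.GeneralLinearGroup (Fin (n + 2)) (ZMod p)), Cfsg.IsExtraspecial p ↥E ∧ Nat.card E = p ^ (1 + 2 * n) ∧ ∀ x ∈ E, x ^ p = 1 := by
  let F := ZMod p
  let E : Subgroup (Matrix.GeneralLinearGroup (Fin (n + 2)) F) :=
    { carrier := Set.range (heisUnit (F := F) (n := n))
      one_mem' := ⟨(0, 0, 0), heisUnit_zero⟩
      mul_mem' := by
        rintro _ _ ⟨⟨x, y, z⟩, rfl⟩ ⟨⟨x', y', z'⟩, rfl⟩
        exact ⟨_, (heisUnit_mul x y x' y' z z').symm⟩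
      inv_mem' := by
        rintro _ ⟨⟨x, y, z⟩, rfl⟩
        exact ⟨_, (heisUnit_inv x y z).symm⟩ }
  have hcard : Nat.card E = p ^ (1 + 2 * n) := by
    have h1 : Nat.card E = Nat.card ((Fin n → F) × (Fin n → F) × F) :=
      (Nat.card_congr (Equiv.ofInjective _ (heisUnit_inj (F := F) (n := n)))).symm
    rw [h1, Nat.card_prod, Nat.card_prod, Nat.card_fun, Nat.card_fin, Nat.card_zmod]
    ring
  have hp2 : 2 < p := lt_of_le_of_ne (Fact.out : p.Prime).two_le (Ne.symm hp)
  have hexp : ∀ x ∈ E, x ^ p = 1 := by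
    rintro _ ⟨⟨x, y, z⟩, rfl⟩
    have h2 : ((p.choose 2 : ℕ) : F) = 0 := (ZMod.natCast_eq_zero_iff _ _).mpr
      ((Fact.out : p.Prime).dvd_choose_self two_ne_zero hp2) |> id
    have h1 : ((p : ℕ) : F) = 0 := ZMod.natCast_self p
    rw [heisUnit_pow, h1, h2, zero_smul, zero_smul, zero_mul, zero_mul, add_zero, heisUnit_zero]
  refine ⟨E, ⟨⟨IsPGroup.of_card hcard, ?_⟩, ?_⟩, hcard, hexp⟩
  rotate_left
  all_goals
    let el : (Fin n → F) → (Fin n → F) → F → E := fun x y z => ⟨heisUnit (x, y, z), _, rfl⟩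
    have hel : ∀ g : E, ∃ x y z, g = el x y z := by
      rintro ⟨_, ⟨⟨x, y, z⟩, rfl⟩⟩
      exact ⟨x, y, z, rfl⟩
    have hmul : ∀ x y z x' y' z', el x y z * el x' y' z' = el (x + x') (y + y') (z + z' + x ⬝ᵥ y') :=
      fun x y z x' y' z' => Subtype.ext (heisUnit_mul x y x' y' z z')
    have hinj : ∀ x y z x' y' z', el x y z = el x' y' z' → x = x' ∧ y = y' ∧ z = z' :=
      fun x y z x' y' z' h => by simpa using heisUnit_inj (congrArg Subtype.val h)
    have hcen : ∀ g : E, g ∈ Subgroup.center E ↔ ∃ z, g = el 0 0 z := by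
      intro g
      obtain ⟨x, y, z, rfl⟩ := hel g
      rw [Subgroup.mem_center_iff]
      constructor
      · intro h
        have key : ∀ x' y', x' ⬝ᵥ y = x ⬝ᵥ y' := by
          intro x' y'
          have := h (el x' y' 0)
          rw [hmul, hmul] at this
          have h3 := (hinj _ _ _ _ _ _ this).2.2
          linear_combination h3
        have hx : x = 0 := funext fun i => by simpa using (key 0 (Pi.single i 1)).symm
        have hy : y = 0 := funext fun i => by simpa using key (Pi.single i 1) 0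
        exact ⟨z, by rw [hx, hy]⟩
      · rintro ⟨w, hw⟩ g'
        obtain ⟨x', y', z', rfl⟩ := hel g'
        rw [hw, hmul, hmul]
        simp [add_comm w]
  · -- the centre has order `p`
    refine ((Nat.card_congr (Equiv.ofBijective
      (fun z : F => (⟨el 0 0 z, (hcen _).mpr ⟨z, rfl⟩⟩ : Subgroup.center E)) ⟨?_, ?_⟩)).symm).trans (Nat.card_zmod p)
    · intro a b h
      exact (hinj _ _ _ _ _ _ (congrArg Subtype.val h)).2.2
    · rintro ⟨g, hg⟩
      obtain ⟨z, rfl⟩ := (hcen g).mp hg
      exact ⟨z, rfl⟩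
  · -- special
    have hcomm : commutator E = Subgroup.center E := by
      refine le_antisymm (Subgroup.commutator_le.mpr ?_) ?_
      · intro a _ b _
        obtain ⟨x, y, z, rfl⟩ := hel a
        obtain ⟨x', y', z', rfl⟩ := hel b
        refine (hcen _).mpr ⟨x ⬝ᵥ y' - x' ⬝ᵥ y, ?_⟩
        rw [commutatorElement_def, mul_inv_eq_iff_eq_mul, mul_inv_eq_iff_eq_mul, hmul, hmul, hmul]
        congr 1
        · simp [add_comm]
        · simp [add_comm]
        · simp [zero_dotProduct]; ring
      · intro g hg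
        obtain ⟨z, rfl⟩ := (hcen g).mp hg
        have h : el 0 0 z = ⁅el (Pi.single (⟨0, hn⟩ : Fin n) 1) 0 0,
            el 0 (Pi.single (⟨0, hn⟩ : Fin n) z) 0⁆ := by
          rw [commutatorElement_def, eq_mul_inv_iff_mul_eq, eq_mul_inv_iff_mul_eq, hmul, hmul, hmul]
          congr 1 <;> simp
        rw [h]
        exact Subgroup.commutator_mem_commutator (Subgroup.mem_top _) (Subgroup.mem_top _)
    refine ⟨le_antisymm ?_ ?_, hcomm⟩
    · intro g hg
      obtain ⟨x, y, z, rfl⟩ := hel g
      refine (hcen _).mpr ⟨z, ?_⟩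
      have main : ∀ (φ : (Fin n → F) → (Fin n → F) → F),
          (∀ a b c d, φ (a + c) (b + d) = φ a b + φ c d) → (∃ a b, φ a b = 1) → φ x y = 0 := by
        intro φ hadd hsurj
        let P : E → Prop := fun g => ∀ a b c, g = el a b c → φ a b = 0
        have h00 : φ 0 0 = 0 := by
          have := hadd 0 0 0 0
          rw [add_zero] at this
          exact (add_eq_left).mp this.symm
        let M : Subgroup E :=
          { carrier := {g | P g}
            one_mem' := fun a b c h => by
              have h0 : el 0 0 0 = el a b c := (Subtype.ext heisUnit_zero : el 0 0 0 = 1).trans h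
              obtain ⟨rfl, rfl, -⟩ := hinj _ _ _ _ _ _ h0
              exact h00
            mul_mem' := by
              intro g g' hg hg' a b c h
              obtain ⟨a1, b1, c1, rfl⟩ := hel g
              obtain ⟨a2, b2, c2, rfl⟩ := hel g'
              rw [hmul] at h
              obtain ⟨rfl, rfl, -⟩ := hinj _ _ _ _ _ _ h
              rw [hadd, hg a1 b1 c1 rfl, hg' a2 b2 c2 rfl, add_zero]
            inv_mem' := by
              intro g hg a b c h
              obtain ⟨a1, b1, c1, rfl⟩ := hel g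
              have h' : el (-a1) (-b1) (-c1 + a1 ⬝ᵥ b1) = el a b c :=
                (Subtype.ext (heisUnit_inv a1 b1 c1).symm).trans h
              obtain ⟨rfl, rfl, -⟩ := hinj _ _ _ _ _ _ h'
              have := hadd a1 b1 (-a1) (-b1)
              rw [add_neg_cancel, add_neg_cancel, h00, hg a1 b1 c1 rfl, zero_add] at this
              exact this.symm }
        obtain ⟨a, b, hab⟩ := hsurj
        have hMtop : M ≠ ⊤ := fun h => by
          have : φ a b = 0 := (h ▸ Subgroup.mem_top (el a b 0) : el a b 0 ∈ M) a b 0 rfl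
          rw [hab] at this
          exact one_ne_zero this
        have hmax : IsCoatom M := by
          refine ⟨hMtop, fun K hK => ?_⟩
          obtain ⟨k, hkK, hkM⟩ := SetLike.exists_of_lt hK
          refine eq_top_iff.mpr fun g _ => ?_
          obtain ⟨a1, b1, c1, rfl⟩ := hel k
          obtain ⟨a2, b2, c2, rfl⟩ := hel g
          have hne : φ a1 b1 ≠ 0 := fun h0 => hkM (fun a b c h => by
            obtain ⟨rfl, rfl, -⟩ := hinj _ _ _ _ _ _ h
            exact h0)
          obtain ⟨m, hm⟩ : ∃ m : ℕ, (m : F) * φ a1 b1 = φ a2 b2 :=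
            ⟨(φ a2 b2 / φ a1 b1).val, by rw [ZMod.natCast_zmod_val, div_mul_cancel₀ _ hne]⟩
          have hpowφ : ∀ m : ℕ, ∃ a b c, el a1 b1 c1 ^ m = el a b c ∧ φ a b = (m : F) * φ a1 b1 := by
            intro m
            induction m with
            | zero => exact ⟨0, 0, 0, (Subtype.ext heisUnit_zero.symm), by simp [h00]⟩
            | succ m ih =>
              obtain ⟨a, b, c, h1, h2⟩ := ih
              exact ⟨_, _, _, by rw [pow_succ, h1, hmul], by rw [hadd, h2]; push_cast; ring⟩
          obtain ⟨a, b, c, h1, h2⟩ := hpowφ m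
          have hmem : (el a b c)⁻¹ * el a2 b2 c2 ∈ M := by
            intro u v w h
            rw [inv_mul_eq_iff_eq_mul, hmul] at h
            obtain ⟨ha, hb, -⟩ := hinj _ _ _ _ _ _ h
            have := hadd a b u v
            rw [← ha, ← hb, h2, hm] at this
            exact left_eq_add.mp this
          have := mul_mem (pow_mem hkK m) (hK.le hmem)
          rwa [h1, mul_inv_cancel_left] at this
        exact (frattini_le_coatom hmax hg) x y z rfl
      have hx : x = 0 := funext fun i => main (fun a _ => a i) (fun _ _ _ _ => rfl)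
        ⟨Pi.single i 1, 0, by simp⟩
      have hy : y = 0 := funext fun i => main (fun _ b => b i) (fun _ _ _ _ => rfl)
        ⟨0, Pi.single i 1, by simp⟩
      rw [hx, hy]
    · unfold frattini Order.radical
      refine le_iInf₂ fun M hM => ?_
      by_contra hle
      have htop : M ⊔ Subgroup.center E = ⊤ := hM.2 _ (lt_of_le_of_ne le_sup_left fun h =>
        hle (h ▸ le_sup_right))
      refine hle ?_
      rw [← hcomm]
      refine Subgroup.commutator_le.mpr fun a _ b _ => ?_
      obtain ⟨m, hm, w, hw, rfl⟩ := Subgroup.mem_sup_of_normal_right.mp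
        (htop ▸ Subgroup.mem_top a : a ∈ M ⊔ Subgroup.center E)
      obtain ⟨m', hm', w', hw', rfl⟩ := Subgroup.mem_sup_of_normal_right.mp
        (htop ▸ Subgroup.mem_top b : b ∈ M ⊔ Subgroup.center E)
      have c1 := fun g => Subgroup.mem_center_iff.mp hw g
      have c2 := fun g => Subgroup.mem_center_iff.mp hw' g
      have : ⁅m * w, m' * w'⁆ = ⁅m, m'⁆ := by
        simp only [commutatorElement_def, _root_.mul_inv_rev]
        calc m * w * (m' * w') * (w⁻¹ * m⁻¹) * (w'⁻¹ * m'⁻¹)
            = m * (w * m') * (w' * w⁻¹) * m⁻¹ * (w'⁻¹ * m'⁻¹) := by group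
          _ = m * (m' * w) * (w⁻¹ * w') * m⁻¹ * (w'⁻¹ * m'⁻¹) := by rw [c1 m', c2 w⁻¹]
          _ = m * m' * (w' * m⁻¹) * (w'⁻¹ * m'⁻¹) := by group
          _ = m * m' * (m⁻¹ * w') * (w'⁻¹ * m'⁻¹) := by rw [c2 m⁻¹]
          _ = m * m' * m⁻¹ * m'⁻¹ := by group
      rw [this]
      exact mul_mem (mul_mem (mul_mem hm hm') (inv_mem hm)) (inv_mem hm')

end Cfsg.Agent.S3799
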