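import Cfsg.Statements.S3801
import Cfsg.Agent.Lib.GrossTwo.Step
-- import your own Cfsg.Agent.* helpers here

set_option autoImplicit false
open Cfsg

namespace Cfsg.Agent.S3801

open CfsgLib.PLengthHH CfsgLib.GrossTwo CfsgLib.FGS68

universe u

theorem bound : ∀ (e : ℕ) (G : Type u) [Group G] [Finite G], Group.IsSolvable G →
    CfsgLib.FGS68.ExpLE 2 (e + 1) G → Cfsg.PLengthLE 2 (2 * e + 1) G := by
  haveI : Fact (Nat.Prime 2) := ⟨Nat.prime_two⟩
  intro e
  induction e with
  | zero =>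
    intro G _ _ hG hexp
    obtain ⟨D⟩ := exists_stepData (p := 2) (CfsgLib.ThompsonFactor.isPSolvable_of_isSolvable hG)
    have htriv : ∀ x ∈ (⊤ : Subgroup D.H), IsPEl 2 x → x = 1 := fun x _ hx => by
      have h := D.degree hexp hx
      rw [show 2 ^ (0 + 1) - 1 = 1 by norm_num, pow_one, sub_eq_zero] at h
      exact D.ρ_inj (h.trans (map_one D.ρ).symm)
    have hcop := card_coprime_of_pel (p := 2) htriv
    rw [Subgroup.card_top] at hcop
    exact D.pLengthLE_succ (pLengthLE_zero_of_not_dvd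
      ((Nat.Prime.coprime_iff_not_dvd Nat.prime_two).1 hcop.symm))
  | succ e ih =>
    intro G _ _ hG hexp
    obtain ⟨D⟩ := exists_stepData (p := 2) (CfsgLib.ThompsonFactor.isPSolvable_of_isSolvable hG)
    haveI := hG
    haveI : Group.IsSolvable D.H := Group.isSolvable_of_surjective D.comp_surj
    have hD : SmallDeg D.ρ (e + 1) :=
      ⟨D.hOp, D.ρ_inj, fun x hx => D.expH hexp x hx, fun x hx => D.degree hexp hx⟩
    obtain ⟨H₂, i1, i2, f, hf, hker, hexp'⟩ := two_step hD (by omega)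
    have h1 := pLengthLE_succ' hf hker (ih H₂ (Group.isSolvable_of_surjective hf) hexp')
    exact D.pLengthLE_succ h1

/-- Gross's bound on 2-length: if G is a finite solvable group whose Sylow 2-subgroups have exponent dividing 2^e with e ≥ 1, then G has 2-length at most 2e − 1. -/
theorem result {G : Type*} [Group G] [Finite G] (hG : Group.IsSolvable G) (e : ℕ) (he : 1 ≤ e) (hexp : ∀ (P : Sylow 2 G), ∀ x ∈ (P : Subgroup G), x ^ 2 ^ e = 1) : Cfsg.PLengthLE 2 (2 * e - 1) G := by
  obtain ⟨n, rfl⟩ : ∃ n, e = n + 1 := ⟨e - 1, by omega⟩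
  haveI : Fact (Nat.Prime 2) := ⟨Nat.prime_two⟩
  rw [show 2 * (n + 1) - 1 = 2 * n + 1 by omega]
  exact bound n G hG (CfsgLib.FGS68.expLE_of_sylow hexp)

end Cfsg.Agent.S3801
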