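import Cfsg.Statements.S3802
import Cfsg.Agent.Lib.Subnormal.MinimalNormal

set_option autoImplicit false
open Cfsg

namespace Cfsg.Agent.S3802

/-- Let G be a finite group, M a maximal subgroup of G and N a subnormal subgroup of G contained in M. Then N is contained in every conjugate of M, that is, N lies in the core of M in G. -/
theorem result {G : Type*} [Group G] [Finite G] (M N : Subgroup G) (hM : IsCoatom M) (hN : N.IsSubnormal) (hNM : N ≤ M) :
    N ≤ Subgroup.normalCore M := by
  set C := Subgroup.normalCore M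
  let q := QuotientGroup.mk' C
  have hq : Function.Surjective q := QuotientGroup.mk'_surjective C
  have hcomap : (M.map q).comap q = M := by
    rw [Subgroup.comap_map_eq, QuotientGroup.ker_mk']
    exact sup_eq_left.mpr (Subgroup.normalCore_le M)
  rcases (N.map q).bot_or_exists_ne_one with hbot | ⟨_, ⟨n₀, hn₀, rfl⟩, hne⟩
  · rw [Subgroup.map_eq_bot_iff, QuotientGroup.ker_mk'] at hbot
    exact hbot
  have hMtop : M.map q ≠ ⊤ := fun h => hM.1 (by rw [← hcomap, h, Subgroup.comap_top])
  obtain ⟨A, ⟨hAn, hA0⟩, hAmin⟩ := Set.Finite.exists_minimal (Set.toFinite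
    {A : Subgroup (G ⧸ C) | A.Normal ∧ A ≠ ⊥})
    ⟨⊤, inferInstance, fun h => hne (by
      have := h ▸ Subgroup.mem_top (q n₀); simpa using this)⟩
  have hAnorm := CfsgLib.Subnormal.minimalNormal_le_normalizer A hAn hA0
    (fun B hB hB0 hBA => le_antisymm hBA (hAmin ⟨hB, hB0⟩ hBA)) (hN.map hq)
  have hAM : ¬ A ≤ M.map q := by
    intro hle
    obtain ⟨_, ha, hane⟩ := (A.bot_or_exists_ne_one.resolve_left hA0)
    refine hA0 ?_
    have h1 : A.comap q ≤ C := by
      refine (Subgroup.normal_le_normalCore (H := M)).mpr ?_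
      exact (Subgroup.comap_mono hle).trans hcomap.le
    rw [← Subgroup.map_comap_eq_self_of_surjective hq A, Subgroup.map_eq_bot_iff,
      QuotientGroup.ker_mk']
    exact h1
  intro x hx g
  have htop : A ⊔ M.map q = ⊤ := by
    have h2 : M < (A ⊔ M.map q).comap q := by
      refine lt_of_le_of_ne ?_ ?_
      · exact hcomap.symm.le.trans (Subgroup.comap_mono le_sup_right)
      · intro h3
        refine hAM ?_
        have : A ⊔ M.map q = M.map q :=
          (Subgroup.map_comap_eq_self_of_surjective hq _).symm.trans (congrArg (Subgroup.map q) h3).symm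
        exact this ▸ le_sup_left
    have h4 := hM.2 _ h2
    rw [← Subgroup.map_comap_eq_self_of_surjective hq (A ⊔ M.map q), h4,
      Subgroup.map_top_of_surjective q hq]
  have hg : q g ∈ M.map q ⊔ A := by rw [sup_comm, htop]; trivial
  obtain ⟨m, hm, a, ha, hma⟩ := Subgroup.mem_sup_of_normal_right.mp hg
  have h5 : a * q x * a⁻¹ ∈ N.map q :=
    (Subgroup.mem_normalizer_iff.mp (hAnorm ha) _).mp (Subgroup.mem_map_of_mem q hx)
  have h6 : m * (a * q x * a⁻¹) * m⁻¹ ∈ M.map q :=
    mul_mem (mul_mem hm (Subgroup.map_mono hNM h5)) (inv_mem hm)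
  show g * x * g⁻¹ ∈ M
  refine hcomap.le ?_
  rw [Subgroup.mem_comap, map_mul, map_mul, map_inv, ← hma]
  simpa [mul_assoc] using h6

end Cfsg.Agent.S3802
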