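import Cfsg.Statements.S3803
import Cfsg.Agent.Lib.StdForm.TwoGroupAut
import Cfsg.Agent.Lib.Solvable.CoprimeAction
import Cfsg.Agent.Lib.PGroup.Basic

set_option autoImplicit false
open Cfsg
open scoped Pointwise

namespace Cfsg.Agent.S3803

/-- An automorphism of odd order of a finite 2-group fixing all elements of order dividing 4 is trivial. -/
theorem eq_self_of_fix_order_four {C : Type*} [Group C] [Finite C] (h2 : IsPGroup 2 C) (β : MulAut C)
    {r : ℕ} (hr : Odd r) (hβ : β ^ r = 1) (h : ∀ x : C, x ^ 4 = 1 → β x = x) (g : C) : β g = g := by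
  obtain ⟨A, D, hAc, hDc, hAD, hAcD, hDsq, hDcomm, hCD, -⟩ :=
    CfsgLib.StdForm.exists_class_two_selfCentralizing h2
  have done : ∀ x m : C, β x = x * m → β m = m → β x = x := by
    intro x m h1 h3
    have := CfsgLib.StdForm.eq_one_of_pow_odd_of_isPGroup h2 hr
      (CfsgLib.StdForm.disp_pow_eq_one β hβ h1 h3)
    rw [h1, this, mul_one]
  have hAmem : ∀ a ∈ A, β a ∈ A := fun a ha => Subgroup.characteristic_iff_le_comap.mp hAc β ha
  have hAfix : ∀ k : ℕ, ∀ a ∈ A, a ^ 2 ^ k = 1 → β a = a := by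
    intro k
    induction k with
    | zero =>
      intro a _ ha
      rw [pow_zero, pow_one] at ha
      rw [ha, map_one]
    | succ k ih =>
      intro a ha hk
      have hsq : β (a ^ 2) = a ^ 2 := ih _ (pow_mem ha 2) (by rw [← pow_mul, ← pow_succ']; exact hk)
      refine done a (a⁻¹ * β a) (by group) (h _ ?_)
      have hm : a⁻¹ * β a ∈ A := mul_mem (inv_mem ha) (hAmem a ha)
      have hcomm : Commute a⁻¹ (β a) := hAcD _ (inv_mem ha) _ (hAD (hAmem a ha))
      have h2' : (a⁻¹ * β a) ^ 2 = 1 := by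
        rw [hcomm.mul_pow, ← map_pow, hsq, inv_pow, inv_mul_cancel]
      rw [show (4 : ℕ) = 2 * 2 from rfl, pow_mul, h2', one_pow]
  have hA : ∀ a ∈ A, β a = a := fun a ha => by
    obtain ⟨k, hk⟩ := h2 a
    exact hAfix k a ha hk
  have hDmem : ∀ d ∈ D, β d ∈ D := fun d hd => Subgroup.characteristic_iff_le_comap.mp hDc β hd
  have hD : ∀ d ∈ D, β d = d := by
    intro d hd
    obtain ⟨m, hmdef⟩ : ∃ m, m = d⁻¹ * β d := ⟨_, rfl⟩
    have hm : m ∈ D := hmdef ▸ mul_mem (inv_mem hd) (hDmem d hd)
    have hbd : β d = d * m := by rw [hmdef]; group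
    refine done d m hbd (h m ?_)
    have h1 : (d * m) * (d * m) = d * d := by
      rw [← hbd, ← map_mul, hA _ (hDsq d hd)]
    have h2' : m * (d * m) = d := mul_left_cancel (a := d) (by rw [← mul_assoc]; exact h1)
    have hdm : d * m * d⁻¹ = m⁻¹ := by
      rw [mul_inv_eq_iff_eq_mul, eq_inv_mul_iff_mul_eq]
      exact h2'
    have hz : d * (m * m) * d⁻¹ = m⁻¹ * m⁻¹ := by
      rw [← hdm]; group
    rw [← hAcD _ (hDsq m hm) d hd, mul_inv_cancel_right] at hz
    calc m ^ 4 = (m * m) * (m * m) := by simp [pow_succ, mul_assoc]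
      _ = (m⁻¹ * m⁻¹) * (m * m) := by rw [← hz]
      _ = 1 := by group
  obtain ⟨m, hmdef⟩ : ∃ m, m = g⁻¹ * β g := ⟨_, rfl⟩
  have hbg : β g = g * m := by rw [hmdef]; group
  have hDn : D.Normal := by
    have := hDc
    infer_instance
  refine done g m hbg (hA m (hCD (Subgroup.mem_centralizer_iff.mpr fun d hd => ?_)))
  have h3 := hD _ (hDn.conj_mem d hd g)
  rw [map_mul, map_mul, map_inv, hD d hd, hbg] at h3
  -- `g m d m⁻¹ g⁻¹ = g d g⁻¹`
  have h4 : g * (m * d) * m⁻¹ * g⁻¹ = g * (d * m) * m⁻¹ * g⁻¹ := by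
    calc g * (m * d) * m⁻¹ * g⁻¹ = g * m * d * (g * m)⁻¹ := by group
      _ = g * d * g⁻¹ := h3
      _ = g * (d * m) * m⁻¹ * g⁻¹ := by group
  exact (mul_left_cancel (mul_right_cancel (mul_right_cancel h4))).symm

/-- If `A` of odd order normalizes the 2-group `K` and all its subgroups of index 2, it centralizes `K`. -/
theorem le_centralizer_of_index_two {X : Type*} [Group X] [Finite X] (A K : Subgroup X)
    (hA : Odd (Nat.card A)) (hK : IsPGroup 2 K) (hAK : A ≤ Subgroup.normalizer (K : Set X))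
    (hM : ∀ M : Subgroup X, M ≤ K → 2 * Nat.card M = Nat.card K → A ≤ Subgroup.normalizer (M : Set X)) :
    A ≤ Subgroup.centralizer (K : Set X) := by
  refine CfsgLib.Solvable.le_centralizer_of_trivial_on_frattini_quotient ?_ fun a ha k hk => ?_
  · obtain ⟨j, hj⟩ := IsPGroup.iff_card.mp (hK.to_subgroup (frattini K))
    rw [hj]
    exact (Nat.coprime_two_right.mpr hA).pow_right j
  have hc : a * k * a⁻¹ * k⁻¹ ∈ K :=
    mul_mem ((Subgroup.mem_normalizer_iff.mp (hAK ha) k).mp hk) (inv_mem hk)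
  refine ⟨⟨_, hc⟩, ?_, rfl⟩
  simp only [SetLike.mem_coe, frattini, Order.radical, Subgroup.mem_iInf, Set.mem_setOf_eq]
  intro M hMc
  have := hK.isNilpotent
  have hMn : M.Normal := Subgroup.NormalizerCondition.normal_of_coatom M
    (Group.normalizerCondition_of_isNilpotent (G := K)) hMc
  obtain ⟨n, hn⟩ := hK.index M
  have hidx : M.index = 2 := by
    -- a maximal normal subgroup of a 2-group has index 2
    have hne : M.index ≠ 1 := fun e => hMc.1 (Subgroup.index_eq_one.mp e)
    have hdvd : 2 ∣ Nat.card (K ⧸ M) := by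
      show 2 ∣ M.index
      rw [hn]
      exact dvd_pow_self 2 (fun e => hne (by rw [hn, e, pow_zero]))
    have : Fact (Nat.Prime 2) := ⟨Nat.prime_two⟩
    obtain ⟨q, hq⟩ := exists_prime_orderOf_dvd_card' 2 hdvd
    have hlt : M < (Subgroup.zpowers q).comap (QuotientGroup.mk' M) := by
      refine lt_of_le_of_ne (fun x hx => ?_) fun e => ?_
      · rw [Subgroup.mem_comap, show QuotientGroup.mk' M x = 1 from (QuotientGroup.eq_one_iff x).mpr hx]
        exact one_mem _
      · obtain ⟨y, rfl⟩ := QuotientGroup.mk'_surjective M q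
        have h5 : y ∈ M := e.symm ▸ Subgroup.mem_zpowers (QuotientGroup.mk' M y)
        rw [show QuotientGroup.mk' M y = 1 from (QuotientGroup.eq_one_iff y).mpr h5, orderOf_one] at hq
        omega
    have htop := congrArg (Subgroup.map (QuotientGroup.mk' M)) (hMc.2 _ hlt)
    rw [Subgroup.map_comap_eq_self_of_surjective (QuotientGroup.mk'_surjective M),
      Subgroup.map_top_of_surjective _ (QuotientGroup.mk'_surjective M)] at htop
    show Nat.card (K ⧸ M) = 2
    rw [← Subgroup.card_top, ← htop, Nat.card_zpowers, hq]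
  have hMX := hM (M.map K.subtype) (Subgroup.map_subtype_le _) (by
    rw [← Nat.card_congr (Subgroup.equivMapOfInjective M _ K.subtype_injective).toEquiv, ← hidx,
      Subgroup.index_mul_card])
  have hk1 : a * k * a⁻¹ ∈ K := (Subgroup.mem_normalizer_iff.mp (hAK ha) k).mp hk
  have hiff : ((⟨_, hk1⟩ : K) ∈ M ↔ (⟨k, hk⟩ : K) ∈ M) := by
    have h1 := Subgroup.mem_normalizer_iff.mp (hMX ha) k
    constructor
    · intro h2
      obtain ⟨z, hz, hzk⟩ := h1.mpr ⟨_, h2, rfl⟩
      rwa [show z = ⟨k, hk⟩ from Subtype.ext hzk] at hz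
    · intro h2
      obtain ⟨z, hz, hzk⟩ := h1.mp ⟨_, h2, rfl⟩
      rwa [show z = ⟨a * k * a⁻¹, hk1⟩ from Subtype.ext hzk] at hz
  have e : (⟨_, hc⟩ : K) = ⟨_, hk1⟩ * (⟨k, hk⟩ : K)⁻¹ := rfl
  rw [e, Subgroup.mul_mem_iff_of_index_two hidx, inv_mem_iff]
  exact hiff

theorem cyclic_subgroup_eq {C : Type*} [Group C] [Finite C] [IsCyclic C] (H K : Subgroup C)
    (h : Nat.card H = Nat.card K) : H = K := by
  classical
  have := Fintype.ofFinite C
  have key : ∀ L : Subgroup C, Nat.card L = Nat.card K →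
      (L : Set C) = ↑(Finset.univ.filter fun x : C => x ^ Nat.card K = 1) := by
    intro L hL
    refine Set.eq_of_subset_of_ncard_le (fun x hx => ?_) ?_ (Set.toFinite _)
    · simp only [Finset.coe_filter, Finset.mem_univ, true_and, Set.mem_setOf_eq]
      rw [← orderOf_dvd_iff_pow_eq_one, ← hL]
      exact L.orderOf_dvd_natCard hx
    · rw [Set.ncard_coe_finset, ← Nat.card_coe_set_eq]
      exact le_trans (IsCyclic.card_pow_eq_one_le Nat.card_pos) hL.ge
  exact SetLike.coe_injective ((key H h).trans (key K rfl).symm)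

/-- Let P be a 2-subgroup and A a subgroup of odd order of a finite group, with A normalizing P. Let D ≤ P with 1 < |D| < |P|. If every subgroup of P of order |D|, and also every subgroup of P of order 4 in case |D| = 2, is normalized by A, then A centralizes P. -/
theorem result {X : Type*} [Group X] [Finite X] (P A D : Subgroup X) (hP : IsPGroup 2 P) (hA : Odd (Nat.card A))
    (hAP : A ≤ Subgroup.normalizer (P : Set X)) (hDP : D ≤ P) (hD1 : 1 < Nat.card D) (hD2 : Nat.card D < Nat.card P)
    (hinv : ∀ E : Subgroup X, E ≤ P → (Nat.card E = Nat.card D ∨ (Nat.card D = 2 ∧ Nat.card E = 4)) → A ≤ Subgroup.normalizer (E : Set X)) :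
    A ≤ Subgroup.centralizer (P : Set X) := by
  intro a ha
  have : Fact (Nat.Prime 2) := ⟨Nat.prime_two⟩
  have hodd : Odd (orderOf a) := hA.of_dvd_nat (A.orderOf_dvd_natCard ha)
  obtain ⟨k, hk⟩ := IsPGroup.iff_card.mp (hP.to_le hDP)
  obtain ⟨l, hl⟩ := IsPGroup.iff_card.mp hP
  have hk0 : k ≠ 0 := fun e => by rw [e, pow_zero] at hk; omega
  have hkl : k < l := by
    rw [hk, hl] at hD2
    exact (Nat.pow_lt_pow_iff_right (by norm_num)).mp hD2
  -- all elements of `P` of order dividing 4 are centralized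
  have h4 : ∀ x ∈ P, x ^ 4 = 1 → a * x * a⁻¹ = x := by
    intro x hx hx4
    suffices ∃ K : Subgroup X, x ∈ K ∧ A ≤ Subgroup.centralizer (K : Set X) by
      obtain ⟨K, hxK, hAK⟩ := this
      rw [← Subgroup.mem_centralizer_iff.mp (hAK ha) x hxK, mul_inv_cancel_right]
    have hz : Subgroup.zpowers x ≤ P := Subgroup.zpowers_le.mpr hx
    obtain ⟨i, hi, hix⟩ := (Nat.dvd_prime_pow Nat.prime_two).mp
      (show orderOf x ∣ 2 ^ 2 from orderOf_dvd_of_pow_eq_one hx4)
    have hcz : Nat.card (Subgroup.zpowers x) = 2 ^ i := by rw [Nat.card_zpowers, hix]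
    by_cases hk1 : k = 1
    · refine ⟨Subgroup.zpowers x, Subgroup.mem_zpowers x, ?_⟩
      subst hk1
      rcases (show i = 0 ∨ i = 1 ∨ i = 2 by omega) with rfl | hi'
      · have hx1 : x = 1 := orderOf_eq_one_iff.mp (by simpa using hix)
        subst hx1
        intro b _
        rw [Subgroup.zpowers_one_eq_bot]
        refine Subgroup.mem_centralizer_iff.mpr fun y hy => ?_
        rw [SetLike.mem_coe, Subgroup.mem_bot] at hy
        simp [hy]
      refine le_centralizer_of_index_two A _ hA (hP.to_le hz) (hinv _ hz ?_) fun M hM hMc => ?_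
      · rcases hi' with rfl | rfl
        · exact Or.inl (by rw [hcz, hk])
        · exact Or.inr ⟨by rw [hk, pow_one], by rw [hcz]; norm_num⟩
      · rcases hi' with rfl | rfl
        · have hM1 : M = ⊥ := Subgroup.eq_bot_of_card_eq _ (by rw [hcz] at hMc; omega)
          rw [hM1, Subgroup.normalizer_eq_top]
          exact le_top
        · exact hinv M (hM.trans hz) (Or.inl (by rw [hk, pow_one]; rw [hcz] at hMc; omega))
    -- now subgroups of order `|D| ≥ 4`
    have hik : i ≤ k := by omega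
    obtain ⟨E', hE'c, hE'le⟩ := Sylow.exists_subgroup_card_pow_prime_le 2 (G := P) (n := i) (m := k)
      (hl ▸ pow_dvd_pow 2 hkl.le) ((Subgroup.zpowers x).subgroupOf P)
      (by rw [Nat.card_congr (Subgroup.subgroupOfEquivOfLe hz).toEquiv, hcz]) hik
    obtain ⟨F', hF'c, hF'le⟩ := Sylow.exists_subgroup_card_pow_succ (G := P) (p := 2) (n := k)
      (hl ▸ pow_dvd_pow 2 hkl) hE'c
    set E := E'.map P.subtype with hEdef
    set F := F'.map P.subtype with hFdef
    have hEc : Nat.card E = 2 ^ k := by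
      rw [← Nat.card_congr (Subgroup.equivMapOfInjective E' _ P.subtype_injective).toEquiv, hE'c]
    have hFc : Nat.card F = 2 ^ (k + 1) := by
      rw [← Nat.card_congr (Subgroup.equivMapOfInjective F' _ P.subtype_injective).toEquiv, hF'c]
    have hEF : E ≤ F := Subgroup.map_mono hF'le
    have hFP : F ≤ P := Subgroup.map_subtype_le _
    have hxE : x ∈ E := ⟨⟨x, hx⟩, hE'le (Subgroup.mem_zpowers x), rfl⟩
    have hinvM : ∀ M : Subgroup X, M ≤ F → 2 * Nat.card M = Nat.card F → A ≤ Subgroup.normalizer (M : Set X) := by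
      intro M hM hMc
      refine hinv M (hM.trans hFP) (Or.inl ?_)
      rw [hFc, pow_succ, hk] at *
      omega
    by_cases hF : ∃ M : Subgroup X, M ≤ F ∧ 2 * Nat.card M = Nat.card F ∧ M ≠ E
    · obtain ⟨M, hMF, hMc, hME⟩ := hF
      have hgen : M ⊔ E = F := by
        have hlt : E < M ⊔ E := lt_of_le_of_ne le_sup_right fun e =>
          hME (Subgroup.eq_of_le_of_card_ge (e ▸ le_sup_left) (by rw [hFc, pow_succ] at hMc; omega))
        refine Subgroup.eq_of_le_of_card_ge (sup_le hMF hEF) ?_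
        obtain ⟨j, hj⟩ := IsPGroup.iff_card.mp (hP.to_le ((sup_le hMF hEF).trans hFP))
        have h1 : Nat.card E < Nat.card ↥(M ⊔ E) :=
          lt_of_le_of_ne (Subgroup.card_le_of_le hlt.le) fun e => hlt.ne
            (Subgroup.eq_of_le_of_card_ge hlt.le e.ge)
        rw [hEc, hj] at h1
        have := (Nat.pow_lt_pow_iff_right (by norm_num)).mp h1
        rw [hj, hFc]
        exact Nat.pow_le_pow_right (by norm_num) this
      have hnF : A ≤ Subgroup.normalizer (F : Set X) := by
        intro b hb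
        rw [← hgen, ← CfsgLib.Solvable.conj_smul_eq_self_iff, Subgroup.smul_sup,
          CfsgLib.Solvable.conj_smul_eq_self_iff.mpr (hinvM M hMF hMc hb),
          CfsgLib.Solvable.conj_smul_eq_self_iff.mpr (hinv E (hEF.trans hFP) (Or.inl (hEc.trans hk.symm)) hb)]
      exact ⟨F, hEF hxE, le_centralizer_of_index_two A F hA (hP.to_le hFP) hnF hinvM⟩
    · push Not at hF
      have hEinv := hinv E (hEF.trans hFP) (Or.inl (hEc.trans hk.symm))
      refine ⟨E, hxE, le_centralizer_of_index_two A E hA (hP.to_le (hEF.trans hFP)) hEinv fun M hM hMc => ?_⟩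
      -- `F` is cyclic
      obtain ⟨g, hgF, hgE⟩ := SetLike.exists_of_lt (show E < F from lt_of_le_of_ne hEF fun e => by
        rw [e, hFc, pow_succ] at hEc
        have := Nat.pow_pos (n := k) (show 0 < 2 by norm_num)
        omega)
      have hgF' : Subgroup.zpowers g ≤ F := Subgroup.zpowers_le.mpr hgF
      have hgen : Subgroup.zpowers g = F := by
        obtain ⟨j, hj, hjg⟩ := (Nat.dvd_prime_pow Nat.prime_two).mp (hFc ▸ Subgroup.card_dvd_of_le hgF')
        rcases hj.eq_or_lt with h | h
        · exact Subgroup.eq_of_le_of_card_ge hgF' (by rw [hjg, hFc, h])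
        exfalso
        obtain ⟨M', hM'c, hM'le⟩ := Sylow.exists_subgroup_card_pow_prime_le 2 (G := F) (n := j) (m := k)
          (hFc ▸ pow_dvd_pow 2 (Nat.le_succ k)) ((Subgroup.zpowers g).subgroupOf F)
          (by rw [Nat.card_congr (Subgroup.subgroupOfEquivOfLe hgF').toEquiv, hjg]) (by omega)
        have h3 := hF (M'.map F.subtype) (Subgroup.map_subtype_le _) (by
          rw [← Nat.card_congr (Subgroup.equivMapOfInjective M' _ F.subtype_injective).toEquiv, hM'c, hFc,
            pow_succ']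
        )
        exact hgE (h3 ▸ ⟨⟨g, hgF⟩, hM'le (Subgroup.mem_zpowers g), rfl⟩)
      have hFcyc : IsCyclic F := hgen ▸ Subgroup.isCyclic_zpowers g
      intro b hb
      rw [← CfsgLib.Solvable.conj_smul_eq_self_iff]
      have hle : MulAut.conj b • M ≤ F := by
        refine le_trans ?_ hEF
        rw [← CfsgLib.Solvable.conj_smul_eq_self_iff.mpr (hEinv hb)]
        exact Subgroup.pointwise_smul_le_pointwise_smul_iff.mpr hM
      have hMF := hM.trans hEF
      have h5 : (MulAut.conj b • M).subgroupOf F = M.subgroupOf F := by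
        refine cyclic_subgroup_eq _ _ ?_
        rw [Nat.card_congr (Subgroup.subgroupOfEquivOfLe hle).toEquiv,
          Nat.card_congr (Subgroup.subgroupOfEquivOfLe hMF).toEquiv, CfsgLib.Solvable.card_conj_smul]
      have h6 := congrArg (Subgroup.map F.subtype) h5
      rwa [Subgroup.subgroupOf_map_subtype, Subgroup.subgroupOf_map_subtype, inf_eq_left.mpr hle,
        inf_eq_left.mpr hMF] at h6
  refine Subgroup.mem_centralizer_iff.mpr fun g hg => ?_
  let β : MulAut P := Subgroup.normalizerMonoidHom P ⟨a, hAP ha⟩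
  have hβ : β ^ orderOf a = 1 := by
    rw [← map_pow]
    convert map_one (Subgroup.normalizerMonoidHom P) using 2
    exact Subtype.ext (pow_orderOf_eq_one a)
  have h5 := eq_self_of_fix_order_four hP β hodd hβ
    (fun x hx => Subtype.ext (h4 x x.2 (congrArg Subtype.val hx))) ⟨g, hg⟩
  have h6 : a * g * a⁻¹ = g := congrArg Subtype.val h5
  exact (mul_inv_eq_iff_eq_mul.mp h6).symm

end Cfsg.Agent.S3803
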