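import Cfsg.Statements.S3804
import Cfsg.Agent.Lib.LocEven.Measure
import Mathlib.Analysis.SpecialFunctions.Pow.Real

set_option autoImplicit false
open Cfsg

namespace Cfsg.Agent.S3804

theorem exists_mul_of_card_eq_le {X : Type*} [Group X] [Finite X] {A B L : Subgroup X} (hA : A ≤ L)
    (hB : B ≤ L) (h : Nat.card A * Nat.card B = Nat.card ↥(A ⊓ B) * Nat.card L) (g : X) (hg : g ∈ L) :
    ∃ b ∈ B, ∃ a ∈ A, g = b * a := by
  have cardEq : ∀ C : Subgroup X, C ≤ L → Nat.card ↥(C.subgroupOf L) = Nat.card C := fun C hC =>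
    Nat.card_congr (Subgroup.subgroupOfEquivOfLe hC).toEquiv
  have h' : Nat.card ↥(A.subgroupOf L) * Nat.card ↥(B.subgroupOf L) =
      Nat.card ↥(A.subgroupOf L ⊓ B.subgroupOf L) * Nat.card L := by
    have e : A.subgroupOf L ⊓ B.subgroupOf L = (A ⊓ B).subgroupOf L := rfl
    rw [e, cardEq _ hA, cardEq _ hB, cardEq _ (inf_le_left.trans hA), h]
  obtain ⟨b, hb, a, ha, hg'⟩ := CfsgLib.LocEven.exists_mul_of_card_eq h' ⟨g, hg⟩
  exact ⟨b, hb, a, ha, congrArg Subtype.val hg'⟩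

/-- Let G and H be subgroups of a finite group with G normalizing H, fix a real number α > 0, and for a subgroup A of G put m(A) = |A|^α · |C_H(A)|. Let A and B be nontrivial subgroups of G at which m attains its maximum over all nontrivial subgroups of G, and assume that A ∩ B ≠ 1 or that this maximum is at least |H|. Then AB = BA is a subgroup at which m is again maximal, C_H(A ∩ B) = C_H(A) C_H(B), and if A ∩ B ≠ 1 then m is maximal at A ∩ B as well. -/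
theorem result {X : Type*} [Group X] [Finite X] (G H : Subgroup X) (hGH : G ≤ Subgroup.normalizer (H : Set X)) (α : ℝ) (hα : 0 < α)
    (A B : Subgroup X) (hA : A ≤ G) (hB : B ≤ G) (hA1 : A ≠ ⊥) (hB1 : B ≠ ⊥)
    (hAmax : ∀ A' : Subgroup X, A' ≤ G → A' ≠ ⊥ → (fun A : Subgroup X => ((Nat.card A : ℝ) ^ α) * (Nat.card ↥(H ⊓ Subgroup.centralizer (A : Set X)) : ℝ)) A' ≤ (fun A : Subgroup X => ((Nat.card A : ℝ) ^ α) * (Nat.card ↥(H ⊓ Subgroup.centralizer (A : Set X)) : ℝ)) A)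
    (hBmax : ∀ A' : Subgroup X, A' ≤ G → A' ≠ ⊥ → (fun A : Subgroup X => ((Nat.card A : ℝ) ^ α) * (Nat.card ↥(H ⊓ Subgroup.centralizer (A : Set X)) : ℝ)) A' ≤ (fun A : Subgroup X => ((Nat.card A : ℝ) ^ α) * (Nat.card ↥(H ⊓ Subgroup.centralizer (A : Set X)) : ℝ)) B)
    (hcase : A ⊓ B ≠ ⊥ ∨ (Nat.card H : ℝ) ≤ (fun A : Subgroup X => ((Nat.card A : ℝ) ^ α) * (Nat.card ↥(H ⊓ Subgroup.centralizer (A : Set X)) : ℝ)) A) :
    (∀ a ∈ A, ∀ b ∈ B, ∃ b' ∈ B, ∃ a' ∈ A, a * b = b' * a') ∧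
    (∀ A' : Subgroup X, A' ≤ G → A' ≠ ⊥ → (fun A : Subgroup X => ((Nat.card A : ℝ) ^ α) * (Nat.card ↥(H ⊓ Subgroup.centralizer (A : Set X)) : ℝ)) A' ≤ (fun A : Subgroup X => ((Nat.card A : ℝ) ^ α) * (Nat.card ↥(H ⊓ Subgroup.centralizer (A : Set X)) : ℝ)) (A ⊔ B)) ∧
    (∀ h ∈ H ⊓ Subgroup.centralizer ((A ⊓ B : Subgroup X) : Set X), ∃ u ∈ H ⊓ Subgroup.centralizer (A : Set X), ∃ v ∈ H ⊓ Subgroup.centralizer (B : Set X), h = u * v) ∧
    (A ⊓ B ≠ ⊥ → ∀ A' : Subgroup X, A' ≤ G → A' ≠ ⊥ → (fun A : Subgroup X => ((Nat.card A : ℝ) ^ α) * (Nat.card ↥(H ⊓ Subgroup.centralizer (A : Set X)) : ℝ)) A' ≤ (fun A : Subgroup X => ((Nat.card A : ℝ) ^ α) * (Nat.card ↥(H ⊓ Subgroup.centralizer (A : Set X)) : ℝ)) (A ⊓ B)) := by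
  set f : Subgroup X → ℝ := fun A : Subgroup X =>
    ((Nat.card A : ℝ) ^ α) * (Nat.card ↥(H ⊓ Subgroup.centralizer (A : Set X)) : ℝ) with hf
  have hfAB : f B = f A := le_antisymm (hAmax B hB hB1) (hBmax A hA hA1)
  have hsupG : A ⊔ B ≤ G := sup_le hA hB
  have hsup1 : A ⊔ B ≠ ⊥ := fun h => hA1 (le_bot_iff.mp (h ▸ le_sup_left))
  have hs : f (A ⊔ B) ≤ f A := hAmax _ hsupG hsup1
  have hi : f (A ⊓ B) ≤ f A := by
    by_cases h : A ⊓ B = ⊥
    · have he : f (A ⊓ B) = (Nat.card H : ℝ) := by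
        have hc : H ⊓ Subgroup.centralizer ((⊥ : Subgroup X) : Set X) = H :=
          inf_eq_left.mpr fun x _ => by simp [Subgroup.mem_centralizer_iff]
        rw [h]
        show ((Nat.card (⊥ : Subgroup X) : ℝ) ^ α) * _ = _
        rw [hc]
        simp
      rw [he]
      exact hcase.resolve_left (not_not.mpr h)
    · exact hAmax _ (inf_le_left.trans hA) h
  have cpos : ∀ C : Subgroup X, (0 : ℝ) < Nat.card C := fun C => Nat.cast_pos.mpr Nat.card_pos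
  have fpos : ∀ C : Subgroup X, 0 < f C := fun C =>
    mul_pos (Real.rpow_pos_of_pos (cpos C) α) (cpos _)
  have hprod := CfsgLib.LocEven.card_mul_card_le_card_inf_mul_sup A B
  have hcent := CfsgLib.LocEven.card_inf_centralizer_mul_le H A B
  have e1 : f A * f B = ((Nat.card A * Nat.card B : ℕ) : ℝ) ^ α *
      ((Nat.card ↥(H ⊓ Subgroup.centralizer (A : Set X)) *
        Nat.card ↥(H ⊓ Subgroup.centralizer (B : Set X)) : ℕ) : ℝ) := by
    push_cast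
    rw [Real.mul_rpow (cpos A).le (cpos B).le, hf]
    ring
  have e2 : f (A ⊓ B) * f (A ⊔ B) = ((Nat.card ↥(A ⊓ B) * Nat.card ↥(A ⊔ B) : ℕ) : ℝ) ^ α *
      ((Nat.card ↥(H ⊓ Subgroup.centralizer ((A ⊔ B : Subgroup X) : Set X)) *
        Nat.card ↥(H ⊓ Subgroup.centralizer ((A ⊓ B : Subgroup X) : Set X)) : ℕ) : ℝ) := by
    rw [Nat.cast_mul, Nat.cast_mul]
    rw [Real.mul_rpow (cpos (A ⊓ B)).le (cpos (A ⊔ B)).le, hf]
    ring
  have hle1 : ((Nat.card A * Nat.card B : ℕ) : ℝ) ^ α ≤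
      ((Nat.card ↥(A ⊓ B) * Nat.card ↥(A ⊔ B) : ℕ) : ℝ) ^ α :=
    Real.rpow_le_rpow (Nat.cast_nonneg _) (Nat.cast_le.mpr hprod) hα.le
  have hge : f (A ⊓ B) * f (A ⊔ B) ≤ f A * f B := by
    rw [hfAB]
    exact mul_le_mul hi hs (fpos _).le (fpos A).le
  have hpos1 : (0 : ℝ) < ((Nat.card A * Nat.card B : ℕ) : ℝ) ^ α :=
    Real.rpow_pos_of_pos (Nat.cast_pos.mpr (Nat.mul_pos Nat.card_pos Nat.card_pos)) α
  have hc2 : (0 : ℝ) < ((Nat.card ↥(H ⊓ Subgroup.centralizer (A : Set X)) *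
      Nat.card ↥(H ⊓ Subgroup.centralizer (B : Set X)) : ℕ) : ℝ) :=
    Nat.cast_pos.mpr (Nat.mul_pos Nat.card_pos Nat.card_pos)
  rw [e1, e2] at hge
  have hcard : Nat.card A * Nat.card B = Nat.card ↥(A ⊓ B) * Nat.card ↥(A ⊔ B) := by
    refine le_antisymm hprod (Nat.le_of_not_lt fun hlt => ?_)
    have h1 := Real.rpow_lt_rpow (Nat.cast_nonneg _) (Nat.cast_lt.mpr hlt) hα
    exact absurd hge (not_le.mpr
      (mul_lt_mul h1 (Nat.cast_le.mpr hcent) hc2 (Real.rpow_nonneg (Nat.cast_nonneg _) α)))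
  have hcardC : Nat.card ↥(H ⊓ Subgroup.centralizer (A : Set X)) *
      Nat.card ↥(H ⊓ Subgroup.centralizer (B : Set X)) =
      Nat.card ↥(H ⊓ Subgroup.centralizer ((A ⊔ B : Subgroup X) : Set X)) *
        Nat.card ↥(H ⊓ Subgroup.centralizer ((A ⊓ B : Subgroup X) : Set X)) := by
    refine le_antisymm hcent (Nat.le_of_not_lt fun hlt => ?_)
    rw [← hcard] at hge
    exact absurd hge (not_le.mpr (mul_lt_mul_of_pos_left (Nat.cast_lt.mpr hlt) hpos1))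
  have heq : f (A ⊓ B) * f (A ⊔ B) = f A * f A := by
    conv_rhs => enter [2]; rw [← hfAB]
    rw [e1, e2, hcard, hcardC]
  have hsEq : f (A ⊔ B) = f A := by
    refine le_antisymm hs (le_of_not_gt fun hlt => ?_)
    exact absurd heq (ne_of_lt ((mul_le_mul_of_nonneg_right hi (fpos _).le).trans_lt
      (mul_lt_mul_of_pos_left hlt (fpos A))))
  have hiEq : f (A ⊓ B) = f A := by
    rw [hsEq] at heq
    exact mul_right_cancel₀ (fpos A).ne' heq
  refine ⟨?_, ?_, ?_, ?_⟩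
  · intro a ha b hb
    exact exists_mul_of_card_eq_le le_sup_left le_sup_right hcard _ (Subgroup.mul_mem_sup ha hb)
  · intro A' hA' hA'1
    exact (hAmax A' hA' hA'1).trans hsEq.ge
  · intro h hh
    refine exists_mul_of_card_eq_le (A := H ⊓ Subgroup.centralizer (B : Set X))
      (B := H ⊓ Subgroup.centralizer (A : Set X)) ?_ ?_ ?_ h hh
    · exact inf_le_inf_left H (Subgroup.centralizer_le fun x (hx : x ∈ A ⊓ B) => hx.2)
    · exact inf_le_inf_left H (Subgroup.centralizer_le fun x (hx : x ∈ A ⊓ B) => hx.1)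
    · rw [mul_comm, hcardC, CfsgLib.LocEven.centralizer_sup, inf_inf_distrib_left, inf_comm]
  · intro _ A' hA' hA'1
    exact (hAmax A' hA' hA'1).trans hiEq.ge

end Cfsg.Agent.S3804
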