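import Cfsg.Statements.S3806
import Cfsg.Agent.Lib.FusionMaxClass.Basic
import Cfsg.Agent.Lib.PGroup.HallPetrescu
import Cfsg.Agent.Lib.PGroup.RegularBasic
import Cfsg.Agent.Lib.FGStruct.Commutators

set_option autoImplicit false
open Cfsg Subgroup
open scoped commutatorElement

namespace Cfsg.Agent.S3806

universe u

variable {S : Type u} [Group S]

local notation "L" => Subgroup.lowerCentralSeries (⊤ : Subgroup S)

theorem exists_avoid [Finite S] {p : ℕ} [Fact p.Prime] {m : ℕ} (hS : Nat.card S = p ^ m)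
    {ι : Type} (I : Finset ι) (C : ι → Subgroup S) (hC : ∀ i ∈ I, C i ≠ ⊤) (hI : I.card ≤ p) :
    ∃ x : S, ∀ i ∈ I, x ∉ C i := by
  classical
  by_contra hno
  push Not at hno
  have hp : p.Prime := Fact.out
  haveI : Fintype S := Fintype.ofFinite S
  have hle : (Finset.univ : Finset S).erase 1 ⊆
      I.biUnion fun i => (Finset.univ.filter fun x => x ∈ C i).erase 1 := by
    intro x hx
    obtain ⟨i, hi, hxi⟩ := hno x
    exact Finset.mem_biUnion.mpr ⟨i, hi,
      Finset.mem_erase.mpr ⟨(Finset.mem_erase.mp hx).1, Finset.mem_filter.mpr ⟨Finset.mem_univ _, hxi⟩⟩⟩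
  have h1 := (Finset.card_le_card hle).trans Finset.card_biUnion_le
  rw [Finset.card_erase_of_mem (Finset.mem_univ _), Finset.card_univ, ← Nat.card_eq_fintype_card] at h1
  rcases I.eq_empty_or_nonempty with h0 | ⟨i0, hi0⟩
  · obtain ⟨i, hi, -⟩ := hno 1
    rw [h0] at hi
    exact absurd hi (Finset.notMem_empty i)
  have hdiv : p ∣ Nat.card S := by
    obtain ⟨k, hk⟩ := ((IsPGroup.of_card hS).index (C i0))
    rcases k with _ | k
    · exact absurd (Subgroup.index_eq_one.mp (by rw [hk, pow_zero])) (hC i0 hi0)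
    · exact (Dvd.intro_left _ (pow_succ p k).symm).trans (hk ▸ (C i0).index_dvd_card)
  obtain ⟨d, hd⟩ := hdiv
  have hb : ∀ i ∈ I, ((Finset.univ.filter fun x => x ∈ C i).erase 1).card ≤ d - 1 := by
    intro i hi
    rw [Finset.card_erase_of_mem (Finset.mem_filter.mpr ⟨Finset.mem_univ _, one_mem _⟩)]
    have e : (Finset.univ.filter fun x => x ∈ C i).card = Nat.card (C i) := by
      rw [Nat.card_eq_fintype_card, Fintype.card_subtype]
    have h2 := CfsgLib.FusionMaxClass.mul_card_le hS (lt_top_iff_ne_top.mpr (hC i hi))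
    rw [Subgroup.card_top, hd] at h2
    refine Nat.sub_le_sub_right ?_ 1
    convert Nat.le_of_mul_le_mul_left h2 hp.pos using 1
  have h3 := h1.trans (Finset.sum_le_card_nsmul _ _ _ hb)
  rw [smul_eq_mul, hd] at h3
  have h4 : I.card * (d - 1) ≤ p * (d - 1) := Nat.mul_le_mul_right _ hI
  have h5 : p * (d - 1) = p * d - p := by rw [Nat.mul_sub, mul_one]
  have : 0 < d := by
    rcases Nat.eq_zero_or_pos d with e | e
    · rw [e, mul_zero] at hd
      exact absurd hd Nat.card_pos.ne'
    · exact e
  have : p * 1 ≤ p * d := Nat.mul_le_mul_left _ this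
  have := hp.two_le
  omega

/-- In a nilpotent group the derived group can be omitted from a generating set. -/
theorem eq_top_of_sup_commutator [Finite S] [Group.IsNilpotent S] {W : Subgroup S}
    (h : W ⊔ commutator S = ⊤) : W = ⊤ := by
  by_contra hne
  obtain ⟨M, hM, hWM⟩ := (eq_top_or_exists_le_coatom W).resolve_left hne
  have hMn : M.Normal := NormalizerCondition.normal_of_coatom M Group.normalizerCondition_of_isNilpotent hM
  have hsimple : ∀ K : Subgroup (S ⧸ M), K = ⊥ ∨ K = ⊤ := by
    intro K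
    have hle : M ≤ K.comap (QuotientGroup.mk' M) := fun m hm => by
      rw [mem_comap, QuotientGroup.mk'_apply, (QuotientGroup.eq_one_iff m).2 hm]
      exact one_mem K
    rcases hle.eq_or_lt with heq | hlt
    · left
      rw [eq_bot_iff]
      intro q hq
      induction q using QuotientGroup.induction_on with
      | H g => exact mem_bot.2 ((QuotientGroup.eq_one_iff g).2 (heq.symm.le hq))
    · right
      apply comap_injective (QuotientGroup.mk'_surjective M)
      rw [hM.2 _ hlt, comap_top]
  have hc : commutator S ≤ M := by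
    rw [_root_.commutator_def]
    refine commutator_le.2 fun g _ k _ => (QuotientGroup.eq_one_iff _).1 ?_
    rw [← QuotientGroup.mk'_apply M ⁅g, k⁆, map_commutatorElement, commutatorElement_eq_one_iff_mul_comm]
    rcases hsimple (zpowers (QuotientGroup.mk' M g)) with h1 | h1
    · rw [zpowers_eq_bot.1 h1, one_mul, mul_one]
    · obtain ⟨i, hi⟩ := mem_zpowers_iff.1 (h1.symm ▸ mem_top (QuotientGroup.mk' M k) :
        QuotientGroup.mk' M k ∈ zpowers (QuotientGroup.mk' M g))
      rw [← hi]
      exact (Commute.self_zpow _ i).eq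
  exact hM.1 (top_le_iff.1 (h ▸ sup_le hWM hc))

/-- A `p`-group of maximal class, described by its lower central series. -/
structure MaxClass (p n : ℕ) (S : Type u) [Group S] : Prop where
  card : Nat.card S = p ^ n
  three : 3 ≤ n
  top : (⊤ : Subgroup S).lowerCentralSeries (n - 1) = ⊥
  ne : (⊤ : Subgroup S).lowerCentralSeries (n - 2) ≠ ⊥

variable [Finite S] {p n : ℕ} [Fact p.Prime]

theorem MaxClass.nilpotent (h : MaxClass p n S) : Group.IsNilpotent S :=
  (IsPGroup.of_card h.card).isNilpotent

theorem MaxClass.lt (h : MaxClass p n S) {i : ℕ} (hi : i < n - 1) : L (i + 1) < L i := by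
  refine lt_of_le_of_ne (Subgroup.lowerCentralSeries_antitone _ (Nat.le_succ i)) fun e => h.ne ?_
  have hc : ∀ j, L (i + j) = L i := by
    intro j
    induction j with
    | zero => rfl
    | succ j ih =>
      rw [← add_assoc, Subgroup.lowerCentralSeries_succ, ih, ← Subgroup.lowerCentralSeries_succ]
      exact e
  have e2 : L i = ⊥ := by rw [← hc (n - 1 - i), Nat.add_sub_cancel' hi.le, h.top]
  exact eq_bot_iff.mpr (e2 ▸ Subgroup.lowerCentralSeries_antitone _ (by omega : i ≤ n - 2))

theorem MaxClass.step (h : MaxClass p n S) : ∀ (k i : ℕ), i + k ≤ n - 1 →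
    p ^ k * Nat.card (L (i + k)) ≤ Nat.card (L i) := by
  intro k
  induction k with
  | zero => intro i _; simp
  | succ k ih =>
    intro i hi
    rw [pow_succ, mul_assoc, ← add_assoc]
    exact (Nat.mul_le_mul_left _ (CfsgLib.FusionMaxClass.mul_card_le h.card (h.lt (by omega)))).trans
      (ih i (by omega))

theorem MaxClass.not_cyclic_top (h : MaxClass p n S) (x : S) : zpowers x ⊔ L 1 ≠ ⊤ := by
  intro e
  have := h.nilpotent
  rw [Subgroup.top_lowerCentralSeries_one] at e
  have ez := CfsgLib.PGroup.zpowers_eq_top_of_sup_commutator e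
  refine h.ne (eq_bot_iff.mpr ((Subgroup.lowerCentralSeries_antitone _
    (by have := h.three; omega : 1 ≤ n - 2)).trans ?_))
  rw [Subgroup.top_lowerCentralSeries_one, commutator_def, Subgroup.commutator_le]
  intro a _ b _
  obtain ⟨i, rfl⟩ := mem_zpowers_iff.1 (ez ▸ mem_top a : a ∈ zpowers x)
  obtain ⟨j, rfl⟩ := mem_zpowers_iff.1 (ez ▸ mem_top b : b ∈ zpowers x)
  rw [mem_bot, commutatorElement_eq_one_iff_mul_comm]
  exact (Commute.zpow_zpow_self x i j).eq

theorem MaxClass.card_one (h : MaxClass p n S) : Nat.card (L 1) = p ^ (n - 2) := by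
  have hp : p.Prime := Fact.out
  refine le_antisymm ?_ ?_
  · obtain ⟨k, hk⟩ := (IsPGroup.of_card h.card).index (L 1)
    have hmul := (L 1).card_mul_index
    rw [hk, h.card] at hmul
    have hk2 : 2 ≤ k := by
      by_contra hk2
      obtain rfl | rfl : k = 0 ∨ k = 1 := by omega
      · exact h.not_cyclic_top 1 (top_le_iff.mp ((Subgroup.index_eq_one.mp (by rw [hk, pow_zero])).ge.trans
          le_sup_right))
      · obtain ⟨x, hx⟩ : ∃ x : S, x ∉ L 1 := by
          by_contra hh
          push Not at hh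
          have e : (L 1).index = 1 := Subgroup.index_eq_one.mpr (eq_top_iff.mpr fun x _ => hh x)
          rw [hk, pow_one] at e
          exact hp.ne_one e
        refine h.not_cyclic_top x ?_
        have hlt : L 1 < zpowers x ⊔ L 1 :=
          lt_of_le_of_ne le_sup_right fun e => hx (e ▸ mem_sup_left (mem_zpowers x))
        have h1 := CfsgLib.FusionMaxClass.mul_card_le h.card hlt
        refine eq_top_of_le_card _ ?_
        rw [h.card, ← hmul, pow_one, mul_comm]
        exact h1
    calc Nat.card (L 1) = p ^ n / p ^ k := by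
          rw [← hmul, Nat.mul_div_cancel _ (pow_pos hp.pos k)]
      _ ≤ p ^ n / p ^ 2 := Nat.div_le_div_left (Nat.pow_le_pow_right hp.pos hk2) (pow_pos hp.pos 2)
      _ = p ^ (n - 2) := Nat.pow_div (by have := h.three; omega) hp.pos
  · have h1 := h.step (n - 2) 1 (by have := h.three; omega)
    rw [show 1 + (n - 2) = n - 1 by have := h.three; omega, h.top, card_bot, mul_one] at h1
    exact h1

theorem MaxClass.card_layer (h : MaxClass p n S) {i : ℕ} (hi1 : 1 ≤ i) (hi : i ≤ n - 1) :
    Nat.card (L i) = p ^ (n - 1 - i) := by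
  have hp : p.Prime := Fact.out
  refine le_antisymm ?_ ?_
  · have h1 := h.step (i - 1) 1 (by omega)
    rw [show 1 + (i - 1) = i by omega, h.card_one, show n - 2 = i - 1 + (n - 1 - i) by omega,
      pow_add] at h1
    exact Nat.le_of_mul_le_mul_left h1 (pow_pos hp.pos _)
  · have h1 := h.step (n - 1 - i) i (by omega)
    rw [show i + (n - 1 - i) = n - 1 by omega, h.top, card_bot, mul_one] at h1
    exact h1

theorem MaxClass.pow_mem_one (h : MaxClass p n S) (x : S) : x ^ p ∈ L 1 := by
  have hp : p.Prime := Fact.out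
  by_contra hx
  haveI : (L 1).Normal := normal_of_characteristic _
  have hidx : Nat.card (S ⧸ L 1) = p ^ 2 := by
    have hmul := (L 1).card_mul_index
    rw [h.card_one, h.card, show n = (n - 2) + 2 by have := h.three; omega, pow_add, Nat.add_sub_cancel,
      index_eq_card] at hmul
    exact Nat.eq_of_mul_eq_mul_left (pow_pos hp.pos _) hmul
  have hord : orderOf (QuotientGroup.mk' (L 1) x) = p ^ 2 := by
    refine orderOf_eq_prime_pow (p := p) (n := 1) ?_ ?_
    · rw [pow_one, ← map_pow, QuotientGroup.mk'_apply, QuotientGroup.eq_one_iff]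
      exact hx
    · rw [← hidx]
      exact pow_card_eq_one'
  refine h.not_cyclic_top x ?_
  have ez : zpowers (QuotientGroup.mk' (L 1) x) = ⊤ :=
    eq_top_of_card_eq _ (by rw [Nat.card_zpowers, hord, hidx])
  have e2 : comap (QuotientGroup.mk' (L 1)) (zpowers (QuotientGroup.mk' (L 1) x)) = ⊤ := by
    rw [ez, comap_top]
  rwa [← MonoidHom.map_zpowers, comap_map_eq, QuotientGroup.ker_mk'] at e2

/-- The two-step centralizers. -/
def twoStep (i : ℕ) : Subgroup S where
  carrier := {x | ∀ z ∈ L i, ⁅z, x⁆ ∈ L (i + 2)}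
  one_mem' := fun z _ => by simp [one_mem]
  mul_mem' := fun {x y} hx hy z hz => by
    rw [show ⁅z, x * y⁆ = ⁅z, x⁆ * (x * ⁅z, y⁆ * x⁻¹) by simp only [commutatorElement_def]; group]
    exact mul_mem (hx z hz) ((normal_of_characteristic _).conj_mem _ (hy z hz) x)
  inv_mem' := fun {x} hx z hz => by
    rw [show ⁅z, x⁻¹⁆ = x⁻¹ * ⁅z, x⁆⁻¹ * x⁻¹⁻¹ by simp only [commutatorElement_def]; group]
    exact (normal_of_characteristic _).conj_mem _ (inv_mem (hx z hz)) x⁻¹

theorem MaxClass.twoStep_ne_top (h : MaxClass p n S) {i : ℕ} (hi : i + 1 < n - 1) :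
    twoStep (S := S) i ≠ ⊤ := by
  intro e
  refine not_le_of_gt (h.lt hi) ?_
  rw [Subgroup.lowerCentralSeries_succ, Subgroup.commutator_le]
  exact fun z hz x _ => (e ▸ mem_top x : x ∈ twoStep i) z hz

theorem MaxClass.comm_notMem (h : MaxClass p n S) {i : ℕ} (hi1 : 1 ≤ i) (hi : i + 1 ≤ n - 1) {x y : S}
    (hx : x ∉ twoStep (S := S) i) (hy : y ∈ L i) (hy' : y ∉ L (i + 1)) : ⁅y, x⁆ ∉ L (i + 2) := by
  intro hc
  have hp : p.Prime := Fact.out
  let D : Subgroup S :=
    { carrier := {z | z ∈ L i ∧ ⁅z, x⁆ ∈ L (i + 2)}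
      one_mem' := ⟨one_mem _, by simp [one_mem]⟩
      mul_mem' := fun {z w} hz hw => ⟨mul_mem hz.1 hw.1, by
        rw [show ⁅z * w, x⁆ = z * ⁅w, x⁆ * z⁻¹ * ⁅z, x⁆ by simp only [commutatorElement_def]; group]
        exact mul_mem ((normal_of_characteristic _).conj_mem _ hw.2 z) hz.2⟩
      inv_mem' := fun {z} hz => ⟨inv_mem hz.1, by
        rw [show ⁅z⁻¹, x⁆ = z⁻¹ * ⁅z, x⁆⁻¹ * z⁻¹⁻¹ by simp only [commutatorElement_def]; group]
        exact (normal_of_characteristic _).conj_mem _ (inv_mem hz.2) z⁻¹⟩ }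
  have hlt : L (i + 1) < D := by
    refine lt_of_le_of_ne (fun z hz => ⟨Subgroup.lowerCentralSeries_antitone _ (Nat.le_succ i) hz, ?_⟩) fun e =>
      hy' (e ▸ (⟨hy, hc⟩ : y ∈ D))
    rw [Subgroup.lowerCentralSeries_succ _ (i + 1)]
    exact commutator_mem_commutator hz (mem_top x)
  have h1 := CfsgLib.FusionMaxClass.mul_card_le h.card hlt
  rw [h.card_layer (by omega) (by omega), ← pow_succ', show n - 1 - (i + 1) + 1 = n - 1 - i by omega,
    ← h.card_layer hi1 (by omega)] at h1
  have e : D = L i := eq_of_le_of_card_ge (fun z hz => hz.1) h1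
  exact hx fun z hz => (e.ge hz).2

theorem MaxClass.promote (h : MaxClass p n S) {i : ℕ} (hi1 : 1 ≤ i) (hi : i + 1 ≤ n - 1) {x t : S}
    (hx : x ∉ twoStep (S := S) i) (ht : t ∈ L i) (htx : Commute t x) : t ∈ L (i + 1) := by
  by_contra hcon
  exact h.comm_notMem hi1 hi hx ht hcon (by rw [commutatorElement_eq_one_iff_commute.mpr htx]; exact one_mem _)

theorem MaxClass.exists_gen (h : MaxClass p n S) {i : ℕ} (hi : i + 1 < n - 1) {x : S}
    (hx : x ∉ twoStep (S := S) i) : ∃ y, ⁅y, x⁆ ∈ L (i + 1) ∧ ⁅y, x⁆ ∉ L (i + 2) ∧ y ∈ L i ∧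
      L (i + 1) ≤ zpowers ⁅y, x⁆ ⊔ L (i + 2) := by
  obtain ⟨y, hy, hyx⟩ : ∃ y ∈ L i, ⁅y, x⁆ ∉ L (i + 2) := by
    by_contra hh
    push Not at hh
    exact hx hh
  have hmem : ⁅y, x⁆ ∈ L (i + 1) := by
    rw [Subgroup.lowerCentralSeries_succ]
    exact commutator_mem_commutator hy (mem_top x)
  have hle : zpowers ⁅y, x⁆ ⊔ L (i + 2) ≤ L (i + 1) :=
    sup_le (zpowers_le.mpr hmem) (Subgroup.lowerCentralSeries_antitone _ (by omega))
  refine ⟨y, hmem, hyx, hy, (eq_of_le_of_card_ge hle ?_).ge⟩
  have hlt : L (i + 2) < zpowers ⁅y, x⁆ ⊔ L (i + 2) :=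
    lt_of_le_of_ne le_sup_right fun e => hyx (e ▸ mem_sup_left (mem_zpowers _))
  have h1 := CfsgLib.FusionMaxClass.mul_card_le h.card hlt
  rw [h.card_layer (by omega) (by omega), ← pow_succ', show n - 1 - (i + 2) + 1 = n - 1 - (i + 1) by omega,
    ← h.card_layer (i := i + 1) (by omega) (by omega)] at h1
  exact h1

/-- The quotients of small class have exponent `p`. -/
theorem MaxClass.pow_mem (h : MaxClass p n S) : ∀ l, 1 ≤ l → l + 1 ≤ p → l < n - 1 → ∀ x : S, x ^ p ∈ L l := by
  intro l
  induction l with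
  | zero => intro h0; omega
  | succ l ih =>
    intro _ hlp hln
    rcases Nat.eq_zero_or_pos l with hl0 | hl1
    · subst hl0
      exact h.pow_mem_one
    have hprev := ih hl1 (by omega) (by omega)
    have hlt : l + 1 < n - 1 := hln
    haveI : (L (l + 1)).Normal := normal_of_characteristic _
    let π := QuotientGroup.mk' (L (l + 1))
    have hcl : (⊤ : Subgroup (S ⧸ L (l + 1))).lowerCentralSeries (p - 1) = ⊥ := by
      rw [← Subgroup.map_top_of_surjective π (QuotientGroup.mk'_surjective _),
        ← Subgroup.map_lowerCentralSeries, Subgroup.map_eq_bot_iff, QuotientGroup.ker_mk']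
      exact Subgroup.lowerCentralSeries_antitone _ (by omega)
    have hreg := CfsgLib.PGroup.isRegularPGroup_of_class_lt
      ((IsPGroup.of_card h.card).to_quotient (L (l + 1))) hcl
    let W := (CfsgLib.PGroup.regularOmega hreg 1).comap π
    have hkill : ∀ s, s ∉ twoStep (S := S) l → s ∈ W := by
      intro s hs
      show π s ^ p ^ 1 = 1
      rw [pow_one, ← map_pow, QuotientGroup.mk'_apply, QuotientGroup.eq_one_iff]
      exact h.promote hl1 (by omega) hs (hprev s) ((Commute.refl s).pow_left p)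
    obtain ⟨s, hs⟩ : ∃ s, s ∉ twoStep (S := S) l := by
      by_contra hh
      push Not at hh
      exact h.twoStep_ne_top hlt (eq_top_iff.mpr fun x _ => hh x)
    obtain ⟨u, hu⟩ := exists_avoid h.card (Finset.univ : Finset Bool)
      (fun b => if b then twoStep (S := S) l else zpowers s ⊔ L 1)
      (fun b _ => by cases b; exacts [h.not_cyclic_top s, h.twoStep_ne_top hlt])
      (by simpa using (Fact.out : p.Prime).two_le)
    have hu1 : u ∉ twoStep (S := S) l := by simpa using hu true (Finset.mem_univ _)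
    have hu2 : u ∉ zpowers s ⊔ L 1 := by simpa using hu false (Finset.mem_univ _)
    haveI := h.nilpotent
    have hW : W = ⊤ := by
      refine eq_top_of_sup_commutator ?_
      rw [← Subgroup.top_lowerCentralSeries_one]
      refine eq_top_of_le_card _ ?_
      have hlt1 : L 1 < zpowers s ⊔ L 1 := by
        refine lt_of_le_of_ne le_sup_right fun e => hs fun z hz => ?_
        have hsL : s ∈ L 1 := e ▸ mem_sup_left (mem_zpowers s)
        exact CfsgLib.FGStruct.commutator_lcs_le ⊤ l 1 (commutator_mem_commutator hz hsL)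
      have hlt2 : zpowers s ⊔ L 1 < W ⊔ L 1 := by
        refine lt_of_le_of_ne (sup_le_sup_right (zpowers_le.mpr (hkill s hs)) _) fun e => hu2 ?_
        rw [e]
        exact mem_sup_left (hkill u hu1)
      have h1 := CfsgLib.FusionMaxClass.mul_card_le h.card hlt1
      have h2 := CfsgLib.FusionMaxClass.mul_card_le h.card hlt2
      rw [h.card, show n = (n - 2) + 2 by have := h.three; omega, pow_add, ← h.card_one, sq,
        mul_comm, mul_assoc]
      exact (Nat.mul_le_mul_left _ h1).trans h2
    intro x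
    have hx : π x ^ p ^ 1 = 1 := (hW ▸ mem_top x : x ∈ W)
    rwa [pow_one, ← map_pow, QuotientGroup.mk'_apply, QuotientGroup.eq_one_iff] at hx

/-- A maximal class group of order `p ^ (2 k + 1)` with `k + 2 ≤ p` has an elementary abelian
term of order `p ^ (k + 1)`. -/
theorem MaxClass.elementary {k : ℕ} (h : MaxClass p (2 * k + 1) S) (hk : 2 ≤ k) (hpk : k + 2 ≤ p) :
    ∃ A : Subgroup S, IsMulCommutative A ∧ (∀ a ∈ A, a ^ p = 1) ∧ Nat.card A = p ^ (k + 1) := by
  have hp : p.Prime := Fact.out
  obtain ⟨s, hs⟩ := exists_avoid h.card (Finset.Icc (k - 2) (2 * k - 2)) (twoStep (S := S))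
    (fun i hi => h.twoStep_ne_top (by rw [Finset.mem_Icc] at hi; omega))
    (by rw [Nat.card_Icc]; omega)
  have hs' : ∀ i, k - 2 ≤ i → i ≤ 2 * k - 2 → s ∉ twoStep (S := S) i := fun i h1 h2 =>
    hs i (Finset.mem_Icc.mpr ⟨h1, h2⟩)
  have htop : L (2 * k) = ⊥ := h.top
  have ht : ∀ d, d ≤ k → s ^ p ∈ L (k - 1 + d) := by
    intro d
    induction d with
    | zero => exact fun _ => h.pow_mem (k - 1) (by omega) (by omega) (by omega) s
    | succ d ih =>
      exact fun hd => h.promote (i := k - 1 + d) (by omega) (by omega) (hs' _ (by omega) (by omega))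
        (ih (by omega))
        ((Commute.refl s).pow_left p)
  have ht2 : s ^ p ∈ L (2 * k - 1) := by
    have := ht k le_rfl
    rwa [show k - 1 + k = 2 * k - 1 by omega] at this
  have htc : ∀ y, y * s ^ p * y⁻¹ = s ^ p := by
    intro y
    have h1 : ⁅s ^ p, y⁆ ∈ L (2 * k) := by
      rw [show 2 * k = (2 * k - 1) + 1 by omega, Subgroup.lowerCentralSeries_succ]
      exact commutator_mem_commutator ht2 (mem_top y)
    rw [htop, mem_bot, commutatorElement_eq_one_iff_mul_comm] at h1
    rw [← h1, mul_inv_cancel_right]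
  -- the regular subgroup
  set N := zpowers s ⊔ L (k - 1) with hN
  have hsN : s ∈ N := mem_sup_left (mem_zpowers s)
  have hNj : ∀ j, N.lowerCentralSeries (j + 1) ≤ L (k + j) := by
    intro j
    induction j with
    | zero =>
      rw [Subgroup.lowerCentralSeries_succ, Subgroup.lowerCentralSeries_zero, Nat.add_zero]
      haveI : (L k).Normal := normal_of_characteristic _
      set π := QuotientGroup.mk' (L k)
      have hc : ∀ a ∈ L (k - 1), ∀ b, π a * π b = π b * π a := by
        intro a ha b
        rw [← commutatorElement_eq_one_iff_mul_comm, ← map_commutatorElement, QuotientGroup.mk'_apply,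
          QuotientGroup.eq_one_iff, show k = (k - 1) + 1 by omega, Subgroup.lowerCentralSeries_succ]
        exact commutator_mem_commutator ha (mem_top b)
      have hle : N ≤ (centralizer (N.map π : Set (S ⧸ L k))).comap π := by
        refine sup_le (zpowers_le.mpr (mem_centralizer_iff.mpr ?_)) fun a ha => mem_centralizer_iff.mpr ?_
        · rintro _ ⟨b, hb, rfl⟩
          have hbs : b ∈ (centralizer ({π s} : Set (S ⧸ L k))).comap π := by
            refine sup_le (zpowers_le.mpr ?_) (fun a ha => ?_) hb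
            · exact mem_centralizer_singleton_iff.mpr rfl
            · exact mem_centralizer_singleton_iff.mpr (hc a ha s)
          exact mem_centralizer_singleton_iff.mp hbs
        · rintro _ ⟨b, -, rfl⟩
          exact (hc a ha b).symm
      rw [commutator_le]
      intro a ha b hb
      rw [← QuotientGroup.eq_one_iff, ← QuotientGroup.mk'_apply, map_commutatorElement,
        commutatorElement_eq_one_iff_mul_comm]
      exact ((mem_centralizer_iff.mp (hle ha)) _ ⟨b, hb, rfl⟩).symm
    | succ j ih =>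
      rw [Subgroup.lowerCentralSeries_succ, ← add_assoc, Subgroup.lowerCentralSeries_succ]
      exact commutator_mono ih le_top
  have hcl : (⊤ : Subgroup N).lowerCentralSeries (p - 1) = ⊥ := by
    apply map_injective N.subtype_injective
    rw [Subgroup.top_subtype_lowerCentralSeries, Subgroup.map_bot, eq_bot_iff, ← htop]
    refine (Subgroup.lowerCentralSeries_antitone _ (by omega : k + 1 ≤ p - 1)).trans ?_
    have := hNj k
    rwa [show k + k = 2 * k by omega] at this
  have hreg := CfsgLib.PGroup.isRegularPGroup_of_class_lt ((IsPGroup.of_card h.card).to_subgroup N) hcl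
  have hxp : ∀ y : S, ⁅y, s⁆ ∈ L (k - 1) → ⁅y, s⁆ ^ p = 1 := by
    intro y hy
    have hm : y * s * y⁻¹ ∈ N := by
      rw [show y * s * y⁻¹ = ⁅y, s⁆ * s by simp only [commutatorElement_def]; group]
      exact mul_mem (mem_sup_right hy) hsN
    have e : (⟨_, hm⟩ : N) ^ p ^ 1 = (⟨s, hsN⟩ : N) ^ p ^ 1 := by
      refine Subtype.ext ?_
      simp only [SubmonoidClass.coe_pow, pow_one, conj_pow, htc]
    have e2 := congrArg Subtype.val ((CfsgLib.PGroup.regular_pow_eq_iff hreg 1 _ _).1 e)
    simpa [commutatorElement_def, mul_assoc] using e2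
  -- abelian
  obtain ⟨y0, hy0, -, -, hgen0⟩ := h.exists_gen (i := k - 2) (by omega) (hs' _ le_rfl (by omega))
  rw [show k - 2 + 1 = k - 1 by omega, show k - 2 + 2 = k by omega] at hgen0
  rw [show k - 2 + 1 = k - 1 by omega] at hy0
  have hcent : ∀ a ∈ L (k - 1), ∀ b ∈ L k, a * b = b * a := by
    intro a ha b hb
    have h1 := CfsgLib.FGStruct.commutator_lcs_le ⊤ (k - 1) k (commutator_mem_commutator ha hb)
    rw [show k - 1 + k + 1 = 2 * k by omega, htop, mem_bot] at h1
    exact commutatorElement_eq_one_iff_mul_comm.mp h1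
  set x0 := ⁅y0, s⁆
  have hkle : L k ≤ L (k - 1) := Subgroup.lowerCentralSeries_antitone _ (by omega)
  have hx0 : x0 ∈ L (k - 1) := hy0
  have hab : ∀ a ∈ L (k - 1), ∀ b ∈ L (k - 1), a * b = b * a := by
    intro a ha b hb
    have hax : a ∈ centralizer ({x0} : Set S) := by
      refine (sup_le (zpowers_le.mpr (mem_centralizer_singleton_iff.mpr rfl)) fun c hc => ?_ :
        zpowers x0 ⊔ L k ≤ centralizer ({x0} : Set S)) (hgen0 ha)
      exact mem_centralizer_singleton_iff.mpr (hcent x0 hx0 c hc).symm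
    have hba : b ∈ centralizer ({a} : Set S) := by
      refine (sup_le (zpowers_le.mpr (mem_centralizer_singleton_iff.mpr
        (mem_centralizer_singleton_iff.mp hax).symm)) fun c hc => ?_ :
        zpowers x0 ⊔ L k ≤ centralizer ({a} : Set S)) (hgen0 hb)
      exact mem_centralizer_singleton_iff.mpr (hcent a ha c hc).symm
    exact (mem_centralizer_singleton_iff.mp hba).symm
  let E : Subgroup S :=
    { carrier := {x | x ∈ L (k - 1) ∧ x ^ p = 1}
      one_mem' := ⟨one_mem _, one_pow _⟩
      mul_mem' := fun {x y} hx hy => ⟨mul_mem hx.1 hy.1, by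
        rw [(show Commute x y from hab x hx.1 y hy.1).mul_pow, hx.2, hy.2, one_mul]⟩
      inv_mem' := fun {x} hx => ⟨inv_mem hx.1, by rw [inv_pow, hx.2, inv_one]⟩ }
  have hE : ∀ d i, k - 1 ≤ i → i + d = 2 * k → L i ≤ E := by
    intro d
    induction d with
    | zero =>
      intro i _ hi
      rw [Nat.add_zero] at hi
      rw [hi, htop]
      exact bot_le
    | succ d ih =>
      intro i hi hid
      obtain ⟨y, hy1, -, -, hy4⟩ := h.exists_gen (i := i - 1) (by omega) (hs' _ (by omega) (by omega))
      rw [show i - 1 + 1 = i by omega] at hy1 hy4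
      rw [show i - 1 + 2 = i + 1 by omega] at hy4
      refine hy4.trans (sup_le (zpowers_le.mpr ⟨Subgroup.lowerCentralSeries_antitone _ hi hy1, ?_⟩)
        (ih (i + 1) (by omega) (by omega)))
      exact hxp y (Subgroup.lowerCentralSeries_antitone _ hi hy1)
  refine ⟨L (k - 1), ⟨⟨fun a b => Subtype.ext (hab a a.2 b b.2)⟩⟩,
    fun a ha => (hE (2 * k - (k - 1)) (k - 1) le_rfl (by omega) ha).2, ?_⟩
  rw [h.card_layer (by omega) (by omega), show 2 * k + 1 - 1 - (k - 1) = k + 1 by omega]

omit [Finite S] [Fact p.Prime] in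
/-- Abelian sections of exponent `p` are bounded by the sectional rank. -/
theorem card_le_of_sectional {k : ℕ} (hk : Cfsg.SectionalPRankLE p k S) {Q : Type u} [Group Q]
    (f : S →* Q) (hf : Function.Surjective f) (A : Subgroup Q) (hA : IsMulCommutative A)
    (hAp : ∀ a ∈ A, a ^ p = 1) : Nat.card A ≤ p ^ k := by
  let H := A.comap f
  let g : H →* A := (f.comp H.subtype).codRestrict A fun x => x.2
  have hg : Function.Surjective g := fun a => by
    obtain ⟨x, hx⟩ := hf a
    exact ⟨⟨x, show f x ∈ A by rw [hx]; exact a.2⟩, Subtype.ext hx⟩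
  let e := QuotientGroup.quotientKerEquivOfSurjective g hg
  have h1 := hk H g.ker ⊤ ⟨⟨fun x y => Subtype.ext (e.injective (by
    rw [Subgroup.coe_mul, Subgroup.coe_mul, map_mul, map_mul]
    exact hA.is_comm.comm _ _))⟩⟩ fun x _ => e.injective (by
      rw [map_pow, map_one]
      exact Subtype.ext (hAp _ (e x).2))
  rw [card_top, Nat.card_congr e.toEquiv] at h1
  exact h1

/-- Let p be a prime and S a finite p-group of order pⁿ (n ≥ 2) of maximal nilpotency class n − 1 whose sectional p-rank is exactly k (every section has p-rank at most k, and some section has p-rank k). If p ≥ k + 2 then the order of S is at most p^(2k). -/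
theorem result {S : Type*} [Group S] [Finite S] (p : ℕ) [Fact p.Prime] (hS : IsPGroup p S) [Group.IsNilpotent S]
    (n : ℕ) (hn : 2 ≤ n) (hcard : Nat.card S = p ^ n) (hmax : Group.nilpotencyClass S = n - 1)
    (k : ℕ) (hk : 1 ≤ k) (hsr : Cfsg.SectionalPRankLE p k S ∧ ¬ Cfsg.SectionalPRankLE p (k - 1) S)
    (hpk : k + 2 ≤ p) : Nat.card S ≤ p ^ (2 * k) := by
  have hp : p.Prime := Fact.out
  by_contra hcon
  have hnk : 2 * k + 1 ≤ n := by
    by_contra hle
    exact hcon (hcard ▸ Nat.pow_le_pow_right hp.pos (by omega))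
  have h : MaxClass p n S := ⟨hcard, by omega,
    Subgroup.lowerCentralSeries_eq_bot_iff_nilpotencyClass_le.mpr hmax.le,
    fun e => by have := Subgroup.lowerCentralSeries_eq_bot_iff_nilpotencyClass_le.mp e; omega⟩
  rcases Nat.lt_or_ge k 2 with hk1 | hk2
  · obtain rfl : k = 1 := by omega
    haveI : ((⊤ : Subgroup S).lowerCentralSeries 1).Normal := normal_of_characteristic _
    have hQ := card_le_of_sectional hsr.1 (QuotientGroup.mk' ((⊤ : Subgroup S).lowerCentralSeries 1))
      (QuotientGroup.mk'_surjective _) ⊤ ⟨⟨fun x y => Subtype.ext (by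
        obtain ⟨a, ha⟩ := QuotientGroup.mk'_surjective _ (x : S ⧸ (⊤ : Subgroup S).lowerCentralSeries 1)
        obtain ⟨b, hb⟩ := QuotientGroup.mk'_surjective _ (y : S ⧸ (⊤ : Subgroup S).lowerCentralSeries 1)
        show (x : S ⧸ (⊤ : Subgroup S).lowerCentralSeries 1) * y = y * x
        rw [← ha, ← hb, ← commutatorElement_eq_one_iff_mul_comm, ← map_commutatorElement,
          QuotientGroup.mk'_apply, QuotientGroup.eq_one_iff, Subgroup.lowerCentralSeries_succ,
          Subgroup.lowerCentralSeries_zero]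
        exact commutator_mem_commutator (mem_top a) (mem_top b))⟩⟩ (fun x _ => by
        obtain ⟨a, rfl⟩ := QuotientGroup.mk'_surjective _ x
        rw [← map_pow, QuotientGroup.mk'_apply, QuotientGroup.eq_one_iff]
        exact h.pow_mem_one a)
    have hmul := ((⊤ : Subgroup S).lowerCentralSeries 1).card_mul_index
    rw [h.card_one, hcard, index_eq_card] at hmul
    rw [card_top] at hQ
    have h2 := Nat.mul_le_mul_left (p ^ (n - 2)) hQ
    rw [hmul, ← pow_add] at h2
    exact absurd ((Nat.pow_le_pow_iff_right hp.one_lt).mp h2) (by omega)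
  haveI : ((⊤ : Subgroup S).lowerCentralSeries (2 * k)).Normal := normal_of_characteristic _
  set π := QuotientGroup.mk' ((⊤ : Subgroup S).lowerCentralSeries (2 * k)) with hπ
  have hmap : ∀ j, ((⊤ : Subgroup S).lowerCentralSeries j).map π =
      (⊤ : Subgroup (S ⧸ (⊤ : Subgroup S).lowerCentralSeries (2 * k))).lowerCentralSeries j := by
    intro j
    rw [Subgroup.map_lowerCentralSeries, Subgroup.map_top_of_surjective π (QuotientGroup.mk'_surjective _)]
  have hQ : MaxClass p (2 * k + 1) (S ⧸ (⊤ : Subgroup S).lowerCentralSeries (2 * k)) := by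
    refine ⟨?_, by omega, ?_, fun e => ?_⟩
    · have hmul := ((⊤ : Subgroup S).lowerCentralSeries (2 * k)).card_mul_index
      rw [h.card_layer (by omega) (by omega), hcard, index_eq_card,
        show n = (n - 1 - 2 * k) + (2 * k + 1) by omega, pow_add,
        show n - 1 - 2 * k + (2 * k + 1) - 1 - 2 * k = n - 1 - 2 * k by omega] at hmul
      exact Nat.eq_of_mul_eq_mul_left (pow_pos hp.pos _) hmul
    · rw [← hmap, Subgroup.map_eq_bot_iff, QuotientGroup.ker_mk']
      rfl
    · rw [← hmap, Subgroup.map_eq_bot_iff, QuotientGroup.ker_mk', show 2 * k + 1 - 2 = 2 * k - 1 by omega] at e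
      have hlt := h.lt (i := 2 * k - 1) (by omega)
      rw [show 2 * k - 1 + 1 = 2 * k by omega] at hlt
      exact not_le_of_gt hlt e
  obtain ⟨A, hA, hAp, hAc⟩ := hQ.elementary hk2 hpk
  have h1 := card_le_of_sectional hsr.1 π (QuotientGroup.mk'_surjective _) A hA hAp
  rw [hAc] at h1
  exact absurd ((Nat.pow_le_pow_iff_right hp.one_lt).mp h1) (by omega)

end Cfsg.Agent.S3806
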