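import Cfsg.Statements.S3807
import Cfsg.Agent.Lib.PGroup.AbelianMax
import Cfsg.Agent.Lib.Solvable.Basic

set_option autoImplicit false
open Cfsg
open scoped commutatorElement

namespace Cfsg.Agent.S3807

theorem normal_of_index {S : Type*} [Group S] [Finite S] {p : ℕ} [Fact p.Prime] (hS : IsPGroup p S)
    (A : Subgroup S) (hA : A.index = p) : A.Normal := by
  have := hS.isNilpotent
  refine Subgroup.NormalizerCondition.normal_of_coatom A
    (Group.normalizerCondition_of_isNilpotent (G := S))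
    ⟨fun e => (Fact.out : p.Prime).ne_one (by rw [← hA, e, Subgroup.index_top]), fun K hK => ?_⟩
  rcases (Nat.dvd_prime Fact.out).mp (hA ▸ Subgroup.index_dvd_of_le hK.le) with h2 | h2
  · exact Subgroup.index_eq_one.mp h2
  · have h3 := Subgroup.index_strictAnti hK
    omega

theorem card_not_mem {S : Type*} [Group S] [Finite S] (Z B : Subgroup S) (h : Z ≤ B) :
    Nat.card {x : S // x ∈ B ∧ x ∉ Z} + Nat.card Z = Nat.card B := by
  rw [← Nat.card_sum]
  refine Nat.card_congr ?_
  classical
  exact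
    { toFun := Sum.elim (fun x => ⟨x.1, x.2.1⟩) (fun z => ⟨z.1, h z.2⟩)
      invFun := fun b => if hb : (b : S) ∈ Z then Sum.inr ⟨b, hb⟩ else Sum.inl ⟨b, b.2, hb⟩
      left_inv := by
        rintro (⟨x, hx⟩ | ⟨z, hz⟩)
        · simp [hx.2]
        · simp [hz]
      right_inv := by
        intro b
        by_cases hb : (b : S) ∈ Z <;> simp [hb] }

/-- Let S be a non-abelian finite p-group with an abelian subgroup A of index p. Then [S : Z(S)] = p·#[S,S], and either [S,S] has order p, S/Z(S) is elementary abelian of order p², and S has exactly p + 1 abelian subgroups of index p; or [S,S] has order at least p² and A is the only abelian subgroup of index p in S. -/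
theorem result {S : Type*} [Group S] [Finite S] (p : ℕ) [Fact p.Prime] (hS : IsPGroup p S) (hna : ¬ IsMulCommutative S)
    (A : Subgroup S) (hA : IsMulCommutative ↥A) (hAi : A.index = p) :
    (Subgroup.center S).index = p * Nat.card (commutator S) ∧
      ((Nat.card (commutator S) = p ∧ Cfsg.IsElementaryAbelian p (⊤ : Subgroup (S ⧸ Subgroup.center S)) ∧
          Nat.card (S ⧸ Subgroup.center S) = p ^ 2 ∧
          Nat.card {B : Subgroup S // IsMulCommutative ↥B ∧ B.index = p} = p + 1) ∨
        (p ^ 2 ≤ Nat.card (commutator S) ∧ ∀ B : Subgroup S, IsMulCommutative ↥B → B.index = p → B = A)) := by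
  have hp := (Fact.out : p.Prime)
  have hAn := normal_of_index hS A hAi
  have hab : ∀ a ∈ A, ∀ b ∈ A, a * b = b * a := fun a ha b hb =>
    congrArg Subtype.val (hA.1.1 (⟨a, ha⟩ : A) ⟨b, hb⟩)
  have hZtop : Subgroup.center S ≠ ⊤ := fun e => hna ⟨⟨fun a b =>
    Subgroup.mem_center_iff.mp (e ▸ Subgroup.mem_top b) a⟩⟩
  have hAcard := CfsgLib.PGroup.AbelianMax.card_eq_card_commutator_mul_card_center A hab (hAi ▸ hp) hZtop
  have hidx : (Subgroup.center S).index = p * Nat.card (commutator S) := by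
    have h1 := (Subgroup.center S).index_mul_card
    rw [← A.index_mul_card, hAi, hAcard, ← mul_assoc] at h1
    exact Nat.eq_of_mul_eq_mul_right Nat.card_pos h1
  refine ⟨hidx, ?_⟩
  obtain ⟨k, hk⟩ := IsPGroup.iff_card.mp (hS.to_subgroup (commutator S))
  rcases Nat.lt_or_ge k 1 with hk0 | hk1
  · exfalso
    have hk0' : k = 0 := by omega
    subst hk0'
    have h1 : commutator S = ⊥ := Subgroup.eq_bot_of_card_eq _ (by rw [hk, pow_zero])
    refine hna ⟨⟨fun a b => ?_⟩⟩
    have h2 : ⁅a, b⁆ ∈ commutator S :=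
      Subgroup.commutator_mem_commutator (Subgroup.mem_top _) (Subgroup.mem_top _)
    rw [h1, Subgroup.mem_bot, commutatorElement_eq_one_iff_mul_comm] at h2
    exact h2
  rcases Nat.lt_or_ge k 2 with hk2 | hk2
  swap
  · right
    refine ⟨hk ▸ Nat.pow_le_pow_right hp.pos hk2, fun B hB hBi => ?_⟩
    by_contra hne
    have hBab : ∀ a ∈ B, ∀ b ∈ B, a * b = b * a := fun a ha b hb =>
      congrArg Subtype.val (hB.1.1 (⟨a, ha⟩ : B) ⟨b, hb⟩)
    have hlt : A < A ⊔ B := lt_of_le_of_ne le_sup_left fun e => by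
      have hBA : B ≤ A := e ▸ le_sup_right
      rcases hBA.eq_or_lt with h | h
      · exact hne h
      · have := Subgroup.index_strictAnti h; omega
    have hsup : A ⊔ B = ⊤ := by
      rcases (Nat.dvd_prime hp).mp (hAi ▸ Subgroup.index_dvd_of_le hlt.le) with h | h
      · exact Subgroup.index_eq_one.mp h
      · have := Subgroup.index_strictAnti hlt; omega
    have hle : A ⊓ B ≤ Subgroup.center S := by
      rintro z ⟨hzA, hzB⟩
      rw [Subgroup.mem_center_iff]
      intro g
      have h1 : (⊤ : Subgroup S) ≤ Subgroup.centralizer ({z} : Set S) := by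
        rw [← hsup]
        exact sup_le (fun a ha => Subgroup.mem_centralizer_singleton_iff.mpr (hab a ha z hzA))
          (fun b hb => Subgroup.mem_centralizer_singleton_iff.mpr (hBab b hb z hzB))
      exact Subgroup.mem_centralizer_singleton_iff.mp (h1 (Subgroup.mem_top g))
    have h4 : (Subgroup.center S).index ∣ p * p := by
      refine (Subgroup.index_dvd_of_le hle).trans ?_
      rw [← Subgroup.relIndex_mul_index (inf_le_right : A ⊓ B ≤ B), hBi, Subgroup.inf_relIndex_right]
      exact mul_dvd_mul_right (hAi ▸ Subgroup.relIndex_dvd_index_of_normal A B) p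
    rw [hidx] at h4
    have h5 : Nat.card (commutator S) ∣ p := Nat.dvd_of_mul_dvd_mul_left hp.pos h4
    have h6 := Nat.le_of_dvd hp.pos h5
    have h7 := Nat.pow_le_pow_right hp.pos hk2
    nlinarith [hp.two_le]
  left
  have hk' : Nat.card (commutator S) = p := by
    rw [hk, show k = 1 by omega, pow_one]
  have hZi : (Subgroup.center S).index = p ^ 2 := by rw [hidx, hk', sq]
  have hcardQ : Nat.card (S ⧸ Subgroup.center S) = p ^ 2 := hZi
  have hcomm : ∀ x y : S ⧸ Subgroup.center S, x * y = y * x :=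
    IsPGroup.commutative_of_card_eq_prime_sq hcardQ
  have hnc : ¬ IsCyclic (S ⧸ Subgroup.center S) := fun hc => hna ⟨⟨fun a b =>
    commutative_of_cyclic_center_quotient (QuotientGroup.mk' (Subgroup.center S))
      (by rw [QuotientGroup.ker_mk']) a b⟩⟩
  refine ⟨hk', ⟨⟨⟨fun a b => Subtype.ext (hcomm a b)⟩⟩, fun x _ => ?_⟩, hcardQ, ?_⟩
  · obtain ⟨i, hi, hix⟩ := (Nat.dvd_prime_pow hp).mp (hcardQ ▸ orderOf_dvd_natCard x)
    rcases (show i ≤ 1 ∨ i = 2 by omega) with h | h
    · rw [← orderOf_dvd_iff_pow_eq_one, hix]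
      calc p ^ i ∣ p ^ 1 := pow_dvd_pow p h
        _ = p := pow_one p
    · exact absurd (isCyclic_of_orderOf_eq_card x (by rw [hix, h, hcardQ])) hnc
  -- counting
  set Z := Subgroup.center S with hZ
  let T := {B : Subgroup S // IsMulCommutative ↥B ∧ B.index = p}
  have hB : ∀ B : T, Z ≤ B.1 := by
    rintro ⟨B, hBc, hBi⟩ z hz
    by_contra hzB
    have htop := CfsgLib.PGroup.AbelianMax.sup_zpowers_eq_top B (hBi ▸ hp) z hzB
    refine hna ⟨⟨fun a b => ?_⟩⟩
    have h1 : (⊤ : Subgroup S) ≤ Subgroup.centralizer ((B ⊔ Subgroup.zpowers z : Subgroup S) : Set S) := by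
      conv_lhs => rw [← htop]
      refine sup_le ?_ (Subgroup.zpowers_le.mpr ?_)
      · rw [Subgroup.le_centralizer_iff]
        refine sup_le ?_ (Subgroup.zpowers_le.mpr ?_)
        · exact fun u hu => Subgroup.mem_centralizer_iff.mpr fun v hv =>
            congrArg Subtype.val (hBc.1.1 (⟨v, hv⟩ : B) ⟨u, hu⟩)
        · exact Subgroup.center_le_centralizer _ hz
      · exact Subgroup.center_le_centralizer _ hz
    exact (Subgroup.mem_centralizer_iff.mp (h1 (Subgroup.mem_top b)) a (htop.symm ▸ Subgroup.mem_top a))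
  have hjoin : ∀ x : S, x ∉ Z → IsMulCommutative ↥(Z ⊔ Subgroup.zpowers x) ∧ (Z ⊔ Subgroup.zpowers x).index = p := by
    intro x hx
    have hc : ∀ a ∈ Z ⊔ Subgroup.zpowers x, ∀ b ∈ Z ⊔ Subgroup.zpowers x, a * b = b * a := by
      have h1 : Z ⊔ Subgroup.zpowers x ≤
          Subgroup.centralizer ((Z ⊔ Subgroup.zpowers x : Subgroup S) : Set S) := by
        refine sup_le (Subgroup.center_le_centralizer _) (Subgroup.zpowers_le.mpr ?_)
        have h2 : Z ⊔ Subgroup.zpowers x ≤ Subgroup.centralizer ({x} : Set S) :=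
          sup_le (Subgroup.center_le_centralizer _)
            (Subgroup.zpowers_le.mpr (Subgroup.mem_centralizer_singleton_iff.mpr rfl))
        exact Subgroup.mem_centralizer_iff.mpr fun v hv =>
          Subgroup.mem_centralizer_singleton_iff.mp (h2 hv)
      exact fun a ha b hb => Subgroup.mem_centralizer_iff.mp (h1 hb) a ha
    refine ⟨⟨⟨fun a b => Subtype.ext (hc _ a.2 _ b.2)⟩⟩, ?_⟩
    have hlt : Z < Z ⊔ Subgroup.zpowers x := lt_of_le_of_ne le_sup_left fun e =>
      hx (e ▸ Subgroup.mem_sup_right (Subgroup.mem_zpowers x))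
    obtain ⟨i, hi, hix⟩ := (Nat.dvd_prime_pow hp).mp (hZi ▸ Subgroup.index_dvd_of_le hlt.le)
    have h3 := Subgroup.index_strictAnti hlt
    rw [hZi] at h3
    rcases (show i = 0 ∨ i = 1 ∨ i = 2 by omega) with h | h | h
    · refine absurd ?_ hna
      have htop : Z ⊔ Subgroup.zpowers x = ⊤ := Subgroup.index_eq_one.mp (by rw [hix, h, pow_zero])
      exact ⟨⟨fun a b => hc a (htop ▸ Subgroup.mem_top a) b (htop ▸ Subgroup.mem_top b)⟩⟩
    · rw [hix, h, pow_one]
    · rw [hix, h] at h3; omega
  let e : {x : S // x ∈ (⊤ : Subgroup S) ∧ x ∉ Z} ≃ Σ B : T, {x : S // x ∈ B.1 ∧ x ∉ Z} :=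
    { toFun := fun x => ⟨⟨Z ⊔ Subgroup.zpowers x.1, hjoin x.1 x.2.2⟩,
        ⟨x.1, Subgroup.mem_sup_right (Subgroup.mem_zpowers x.1), x.2.2⟩⟩
      invFun := fun x => ⟨x.2.1, Subgroup.mem_top _, x.2.2.2⟩
      left_inv := fun x => rfl
      right_inv := by
        rintro ⟨⟨B, hBc, hBi⟩, x, hxB, hxZ⟩
        have heq : Z ⊔ Subgroup.zpowers x = B := by
          have hle : Z ⊔ Subgroup.zpowers x ≤ B :=
            sup_le (hB ⟨B, hBc, hBi⟩) (Subgroup.zpowers_le.mpr hxB)
          rcases hle.eq_or_lt with h | h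
          · exact h
          · have h4 := Subgroup.index_strictAnti h
            rw [(hjoin x hxZ).2, hBi] at h4
            omega
        subst heq
        rfl }
  have hcount := Nat.card_congr e
  have := Fintype.ofFinite T
  rw [Nat.card_sigma] at hcount
  have hzpos : 0 < Nat.card Z := Nat.card_pos
  have hfib : ∀ B : T, Nat.card {x : S // x ∈ B.1 ∧ x ∉ Z} = Nat.card Z * (p - 1) := by
    intro B
    have h1 := card_not_mem Z B.1 (hB B)
    have h2 := B.1.index_mul_card
    rw [B.2.2, ← Z.index_mul_card, hZi, sq, mul_assoc] at h2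
    have h3 := Nat.eq_of_mul_eq_mul_left hp.pos h2
    rw [h3] at h1
    rw [Nat.mul_sub_one, mul_comm (Nat.card Z) p]
    omega
  rw [Finset.sum_congr rfl (fun B _ => hfib B), Finset.sum_const, Finset.card_univ, smul_eq_mul,
    ← Nat.card_eq_fintype_card] at hcount
  have h0 := card_not_mem Z ⊤ le_top
  rw [Subgroup.card_top, ← Z.index_mul_card, hZi, hcount] at h0
  show Nat.card T = p + 1
  have hp1 : 0 < p - 1 := by have := hp.two_le; omega
  refine Nat.eq_of_mul_eq_mul_right (Nat.mul_pos hzpos hp1) (Nat.add_right_cancel (h0.trans ?_))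
  obtain ⟨q, rfl⟩ : ∃ q, p = q + 1 := ⟨p - 1, by omega⟩
  simp only [Nat.add_sub_cancel]
  ring

end Cfsg.Agent.S3807
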