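import Cfsg.Statements.S3808
import Cfsg.Agent.Lib.Extraspecial.Card
import Cfsg.Agent.Lib.Solvable.Basic

set_option autoImplicit false
open Cfsg

namespace Cfsg.Agent.S3808

theorem normal_of_index {S : Type*} [Group S] [Finite S] {p : ℕ} [Fact p.Prime] (hS : IsPGroup p S)
    (A : Subgroup S) (hA : A.index = p) : A.Normal := by
  have := hS.isNilpotent
  refine Subgroup.NormalizerCondition.normal_of_coatom A
    (Group.normalizerCondition_of_isNilpotent (G := S))
    ⟨fun e => (Fact.out : p.Prime).ne_one (by rw [← hA, e, Subgroup.index_top]), fun K hK => ?_⟩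
  rcases (Nat.dvd_prime Fact.out).mp (hA ▸ Subgroup.index_dvd_of_le hK.le) with h2 | h2
  · exact Subgroup.index_eq_one.mp h2
  · have h3 := Subgroup.index_strictAnti hK
    omega

/-- Let S be a finite p-group with an extraspecial subgroup Q of index p. Then either Z(S) = Z(Q), or S = Q·Z(S) and Z(S) has order p². -/
theorem result {S : Type*} [Group S] [Finite S] (p : ℕ) [Fact p.Prime] (hS : IsPGroup p S) (Q : Subgroup S) (hQ : Cfsg.IsExtraspecial p ↥Q) (hQi : Q.index = p) :
    Subgroup.center S = (Subgroup.center ↥Q).map Q.subtype ∨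
      (Q ⊔ Subgroup.center S = ⊤ ∧ Nat.card (Subgroup.center S) = p ^ 2) := by
  have hQn := normal_of_index hS Q hQi
  set Zq := (Subgroup.center ↥Q).map Q.subtype with hZq
  have hcardZq : Nat.card Zq = p :=
    (Nat.card_congr (Subgroup.equivMapOfInjective _ _ Q.subtype_injective).toEquiv).symm.trans hQ.2
  have hZn : Zq.Normal := by
    refine ⟨?_⟩
    rintro _ ⟨z, hz, rfl⟩ g
    refine ⟨⟨g * z * g⁻¹, hQn.conj_mem _ z.2 g⟩, ?_, rfl⟩
    rw [SetLike.mem_coe, Subgroup.mem_center_iff] at hz ⊢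
    intro w
    have h1 := congrArg Subtype.val (hz ⟨g⁻¹ * w * g, by simpa using hQn.conj_mem _ w.2 g⁻¹⟩)
    apply Subtype.ext
    simp only [Subgroup.coe_mul] at h1 ⊢
    calc (w : S) * (g * z * g⁻¹) = g * (g⁻¹ * w * g * z) * g⁻¹ := by group
      _ = g * (z * (g⁻¹ * w * g)) * g⁻¹ := by rw [h1]
      _ = g * z * g⁻¹ * w := by group
  have hZqle : Zq ≤ Subgroup.center S := by
    obtain ⟨z, hz, hzc, hord⟩ := CfsgLib.PGroup.exists_central_orderOf_eq hS Zq fun e =>
      (Fact.out : p.Prime).ne_one (by rw [← hcardZq, e, Subgroup.card_bot])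
    have h2 : Subgroup.zpowers z = Zq := Subgroup.eq_of_le_of_card_ge (Subgroup.zpowers_le.mpr hz)
      (by rw [Nat.card_zpowers, hord, hcardZq])
    rw [← h2]
    exact Subgroup.zpowers_le.mpr hzc
  have hinf : Subgroup.center S ⊓ Q = Zq := by
    refine le_antisymm ?_ (le_inf hZqle (Subgroup.map_subtype_le _))
    rintro z ⟨hz, hzQ⟩
    exact ⟨⟨z, hzQ⟩, Subgroup.mem_center_iff.mpr fun w => Subtype.ext (Subgroup.mem_center_iff.mp hz w), rfl⟩
  by_cases hle : Subgroup.center S ≤ Q
  · left
    rw [← hinf, inf_eq_left.mpr hle]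
  · right
    have htop : Q ⊔ Subgroup.center S = ⊤ := by
      rcases (Nat.dvd_prime (Fact.out : p.Prime)).mp
        (hQi ▸ Subgroup.index_dvd_of_le (le_sup_left : Q ≤ Q ⊔ Subgroup.center S)) with h2 | h2
      · exact Subgroup.index_eq_one.mp h2
      · exfalso
        have hlt : Q < Q ⊔ Subgroup.center S :=
          lt_of_le_of_ne le_sup_left fun e => hle (e ▸ le_sup_right)
        have h3 := Subgroup.index_strictAnti hlt
        omega
    refine ⟨htop, ?_⟩
    have h1 := CfsgLib.Solvable.card_inf_mul_relIndex Q (Subgroup.center S)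
    rw [inf_comm, hinf, hcardZq] at h1
    rw [← h1, ← Subgroup.relIndex_sup_right, sup_comm, htop, Subgroup.relIndex_top_right, hQi, sq]

end Cfsg.Agent.S3808
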