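import Cfsg.Statements.S3809
import Cfsg.Agent.Lib.Extraspecial.Card
import Cfsg.Agent.Lib.Solvable.Basic
import Mathlib.GroupTheory.Solvable

set_option autoImplicit false
open Cfsg

namespace Cfsg.Agent.S3809

open scoped commutatorElement

theorem normal_of_index {S : Type*} [Group S] [Finite S] {p : ℕ} [Fact p.Prime] (hS : IsPGroup p S)
    (A : Subgroup S) (hA : A.index = p) : A.Normal := by
  have := hS.isNilpotent
  refine Subgroup.NormalizerCondition.normal_of_coatom A
    (Group.normalizerCondition_of_isNilpotent (G := S))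
    ⟨fun e => (Fact.out : p.Prime).ne_one (by rw [← hA, e, Subgroup.index_top]), fun K hK => ?_⟩
  rcases (Nat.dvd_prime Fact.out).mp (hA ▸ Subgroup.index_dvd_of_le hK.le) with h2 | h2
  · exact Subgroup.index_eq_one.mp h2
  · have h3 := Subgroup.index_strictAnti hK
    omega

/-- Let S be a finite p-group with an extraspecial subgroup of index p. Then S has order p^(2+2n) for some n ≥ 1, derived length at most 3, and exponent dividing p³. -/
theorem result {S : Type*} [Group S] [Finite S] (p : ℕ) [Fact p.Prime] (hS : IsPGroup p S) (Q : Subgroup S) (hQ : Cfsg.IsExtraspecial p ↥Q) (hQi : Q.index = p) :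
    (∃ n : ℕ, 1 ≤ n ∧ Nat.card S = p ^ (2 + 2 * n)) ∧ derivedSeries S 3 = ⊥ ∧ ∀ x : S, x ^ (p ^ 3) = 1 := by
  have hQn := normal_of_index hS Q hQi
  obtain ⟨n, hn, hcard⟩ := CfsgLib.Extraspecial.exists_card hQ
  have hpow : ∀ x : S, x ^ p ∈ Q := fun x => hQi ▸ Subgroup.pow_index_mem Q x
  refine ⟨⟨n, hn, ?_⟩, ?_, fun x => ?_⟩
  · rw [← Q.index_mul_card, hQi, hcard]
    ring
  · have h1 : derivedSeries S 1 ≤ Q := by
      rw [derivedSeries_one]
      have hc : IsCyclic (S ⧸ Q) := isCyclic_of_prime_card (p := p) hQi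
      rw [commutator, Subgroup.commutator_le]
      intro a _ b _
      rw [← QuotientGroup.eq_one_iff, ← QuotientGroup.mk'_apply, map_commutatorElement,
        commutatorElement_eq_one_iff_mul_comm]
      exact hc.commGroup.mul_comm _ _
    have h2 : derivedSeries S 2 ≤ (Subgroup.center ↥Q).map Q.subtype := by
      refine (Subgroup.commutator_mono h1 h1).trans ?_
      rw [← hQ.1.2.2, Subgroup.map_subtype_commutator]
    rw [eq_bot_iff]
    refine (Subgroup.commutator_mono h2 h2).trans ?_
    rw [Subgroup.commutator_le]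
    rintro _ ⟨a, ha, rfl⟩ _ ⟨b, hb, rfl⟩
    exact Subgroup.mem_bot.mpr (commutatorElement_eq_one_iff_mul_comm.mpr
      (congrArg Subtype.val (Subgroup.mem_center_iff.mp hb a)))
  · have h1 := congrArg Subtype.val (CfsgLib.Extraspecial.pow_sq_eq_one hQ ⟨x ^ p, hpow x⟩)
    rw [pow_succ', pow_mul]
    simpa using h1

end Cfsg.Agent.S3809
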