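import Cfsg.Statements.S3810
import Cfsg.Agent.Lib.Extraspecial.Card
import Cfsg.Agent.Lib.Solvable.Basic

set_option autoImplicit false
open Cfsg

namespace Cfsg.Agent.S3810

open scoped commutatorElement

theorem normal_of_index {S : Type*} [Group S] [Finite S] {p : ℕ} [Fact p.Prime] (hS : IsPGroup p S)
    (A : Subgroup S) (hA : A.index = p) : A.Normal := by
  have := hS.isNilpotent
  refine Subgroup.NormalizerCondition.normal_of_coatom A
    (Group.normalizerCondition_of_isNilpotent (G := S))
    ⟨fun e => (Fact.out : p.Prime).ne_one (by rw [← hA, e, Subgroup.index_top]), fun K hK => ?_⟩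
  rcases (Nat.dvd_prime Fact.out).mp (hA ▸ Subgroup.index_dvd_of_le hK.le) with h2 | h2
  · exact Subgroup.index_eq_one.mp h2
  · have h3 := Subgroup.index_strictAnti hK
    omega

/-- Let S be a finite p-group with an extraspecial subgroup of index p. Then S has an abelian subgroup of index p if and only if S has order p⁴. -/
theorem result {S : Type*} [Group S] [Finite S] (p : ℕ) [Fact p.Prime] (hS : IsPGroup p S) (Q : Subgroup S) (hQ : Cfsg.IsExtraspecial p ↥Q) (hQi : Q.index = p) :
    (∃ A : Subgroup S, IsMulCommutative ↥A ∧ A.index = p) ↔ Nat.card S = p ^ 4 := by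
  constructor
  · rintro ⟨A, hA, hAi⟩
    have hAn := normal_of_index hS A hAi
    have hQna : ¬ Q ≤ A := fun hle => by
      obtain ⟨x, y, hxy⟩ := CfsgLib.Extraspecial.not_forall_commute hQ
      refine hxy (commutatorElement_eq_one_iff_mul_comm.mpr (Subtype.ext ?_))
      exact (congrArg Subtype.val (hA.1.1 (⟨x, hle x.2⟩ : A) ⟨y, hle y.2⟩) :)
    have hidx : (A.subgroupOf Q).index = p := by
      rcases (Nat.dvd_prime (Fact.out : p.Prime)).mp
        (show (A.subgroupOf Q).index ∣ p from hAi ▸ Subgroup.relIndex_dvd_index_of_normal A Q) with h2 | h2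
      · exact absurd (Subgroup.relIndex_eq_one.mp h2) hQna
      · exact h2
    have hQcard := CfsgLib.Extraspecial.card_eq_of_abelian_index hQ (A.subgroupOf Q)
      (fun a ha b hb => Subtype.ext
        (congrArg Subtype.val (hA.1.1 (⟨a, ha⟩ : A) ⟨b, hb⟩) :)) hidx
    rw [← Q.index_mul_card, hQi, hQcard]
    ring
  · intro h
    obtain ⟨A, -, hab, hi⟩ := CfsgLib.PGroup.AbelianMax.exists_abelian_index_prime p h
    exact ⟨A, ⟨⟨fun a b => Subtype.ext (hab _ a.2 _ b.2)⟩⟩, hi⟩

end Cfsg.Agent.S3810
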