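import Mathlib
import Cfsg.Statements.S3811

set_option autoImplicit false
open Cfsg

namespace Cfsg.Agent.S3811

open scoped commutatorElement

section
variable {P : Type*} [Group P]

theorem le_of_relIndex_prime {p : ℕ} (hp : p.Prime) {A B C : Subgroup P} (hAB : A ≤ B)
    (h : A.relIndex B = p) (hAC : A ≤ C) (hCB : C ≤ B) (hne : A < C) : B ≤ C := by
  have h1 := Subgroup.relIndex_mul_relIndex A C B hAC hCB
  rw [h] at h1
  rcases hp.eq_one_or_self_of_dvd _ ⟨_, h1.symm⟩ with h2 | h2
  · exact absurd (Subgroup.relIndex_eq_one.mp h2) hne.not_ge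
  · rw [h2] at h1
    exact Subgroup.relIndex_eq_one.mp (mul_eq_left₀ hp.ne_zero |>.mp h1)

variable [Finite P] {p : ℕ} [Fact p.Prime]

theorem exists_mem_normalizer_of_lt (hP : IsPGroup p P) {H L : Subgroup P} (h : H < L) :
    ∃ l ∈ L, l ∉ H ∧ l ∈ Subgroup.normalizer (H : Set P) := by
  have : Group.IsNilpotent P := hP.isNilpotent
  have : Group.IsNilpotent L := (hP.to_subgroup L).isNilpotent
  have hlt : H.subgroupOf L < ⊤ := by
    rw [lt_top_iff_ne_top, ne_eq, Subgroup.subgroupOf_eq_top]
    exact h.not_ge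
  obtain ⟨x, hx, hxH⟩ := SetLike.exists_of_lt (Group.normalizerCondition_of_isNilpotent _ hlt)
  refine ⟨x, x.2, fun hc => hxH (Subgroup.mem_subgroupOf.mpr hc), ?_⟩
  rw [Subgroup.mem_normalizer_iff]
  intro y
  have key := Subgroup.mem_normalizer_iff.mp hx
  constructor
  · intro hy
    have := (key ⟨y, h.le hy⟩).mp (Subgroup.mem_subgroupOf.mpr hy)
    exact Subgroup.mem_subgroupOf.mp this
  · intro hy
    have hyL : y ∈ L := by
      have := L.mul_mem (L.mul_mem (L.inv_mem x.2) (h.le hy)) x.2
      simpa [mul_assoc] using this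
    exact Subgroup.mem_subgroupOf.mp ((key ⟨y, hyL⟩).mpr (Subgroup.mem_subgroupOf.mpr hy))

/-- Under the index-`p` normalizer condition, a proper overgroup contains the normalizer. -/
theorem normalizer_le_of_lt (hP : IsPGroup p P) {H L : Subgroup P} (h : H < L)
    (hH : H.relIndex (Subgroup.normalizer (H : Set P)) = p) :
    Subgroup.normalizer (H : Set P) ≤ L := by
  obtain ⟨l, hl, hlH, hlN⟩ := exists_mem_normalizer_of_lt hP h
  have hlt : H < L ⊓ Subgroup.normalizer (H : Set P) :=
    lt_of_le_of_ne (le_inf h.le Subgroup.le_normalizer) (fun e => hlH (e.symm ▸ ⟨hl, hlN⟩))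
  exact (le_of_relIndex_prime (Fact.out (p := p.Prime)) Subgroup.le_normalizer hH
    hlt.le inf_le_right hlt).trans inf_le_left

omit [Finite P] in
theorem normalizer_top' : Subgroup.normalizer ((⊤ : Subgroup P) : Set P) = ⊤ := by
  rw [eq_top_iff]; intro x _; rw [Subgroup.mem_normalizer_iff]; simp

/-- Overgroups of `E` are comparable once the small ones have normalizer index `p`. -/
theorem comparable (hP : IsPGroup p P) (E : Subgroup P) {L L' : Subgroup P}
    (hEL : E ≤ L) (hEL' : E ≤ L')
    (h : ∀ J : Subgroup P, E ≤ J → J < L → J.relIndex (Subgroup.normalizer (J : Set P)) = p) :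
    L ≤ L' ∨ L' ≤ L := by
  by_contra hc
  rw [not_or] at hc
  have h1 : L ⊓ L' < L := lt_of_le_of_ne inf_le_left (fun e => hc.1 (e ▸ inf_le_right))
  have h2 : L ⊓ L' < L' := lt_of_le_of_ne inf_le_right (fun e => hc.2 (e ▸ inf_le_left))
  have hJ := h _ (le_inf hEL hEL') h1
  have h3 := le_inf (normalizer_le_of_lt hP h1 hJ) (normalizer_le_of_lt hP h2 hJ)
  obtain ⟨l, -, hl, hlN⟩ := exists_mem_normalizer_of_lt hP h1
  exact hl (h3 hlN)

omit [Finite P] in
theorem normalizer_le_of_index {L M : Subgroup P} (hML : M ≤ L)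
    (h : (M.subgroupOf L).Normal) : L ≤ Subgroup.normalizer (M : Set P) :=
  (Subgroup.normal_subgroupOf_iff_le_normalizer hML).mp h

theorem exists_normal_maximal (hP : IsPGroup p P) {E K : Subgroup P} (hEK : E < K) :
    ∃ M : Subgroup P, E ≤ M ∧ M < K ∧ M.relIndex K = p ∧
      K ≤ Subgroup.normalizer (M : Set P) := by
  have hp : p.Prime := Fact.out
  have : Group.IsNilpotent K := (hP.to_subgroup K).isNilpotent
  have hne : E.subgroupOf K ≠ ⊤ := by
    rw [ne_eq, Subgroup.subgroupOf_eq_top]; exact hEK.not_ge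
  obtain hh | ⟨M', hM', hle⟩ := eq_top_or_exists_le_coatom (E.subgroupOf K)
  · exact absurd hh hne
  have hn : M'.Normal := Subgroup.NormalizerCondition.normal_of_coatom M'
    Group.normalizerCondition_of_isNilpotent hM'
  refine ⟨M'.map K.subtype, ?_, ?_, ?_, ?_⟩
  · intro x hx
    exact ⟨⟨x, hEK.le hx⟩, hle (Subgroup.mem_subgroupOf.mpr hx), rfl⟩
  · refine lt_of_le_of_ne (Subgroup.map_subtype_le M') fun e => hM'.1 ?_
    rw [eq_top_iff]
    intro x _
    obtain ⟨y, hy, hyx⟩ := (e.symm ▸ x.2 : (x : P) ∈ M'.map K.subtype)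
    exact Subtype.ext hyx ▸ hy
  · have := hn
    have : IsSimpleGroup (↥K ⧸ M') := by
      have : Nontrivial (↥K ⧸ M') := QuotientGroup.nontrivial_iff.mpr hM'.1
      refine ⟨fun H _ => ?_⟩
      rcases eq_or_lt_of_le (QuotientGroup.le_comap_mk' M' H) with h | h
      · left
        rw [← Subgroup.map_comap_eq_self_of_surjective (QuotientGroup.mk'_surjective M') H, ← h]
        exact QuotientGroup.map_mk'_self M'
      · right
        rw [← Subgroup.map_comap_eq_self_of_surjective (QuotientGroup.mk'_surjective M') H,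
          hM'.2 _ h, Subgroup.map_top_of_surjective _ (QuotientGroup.mk'_surjective M')]
    have hq : IsPGroup p (↥K ⧸ M') := (hP.to_subgroup K).to_quotient M'
    have : Group.IsNilpotent (↥K ⧸ M') := hq.isNilpotent
    have hcomm : Group.IsSolvable (↥K ⧸ M') := inferInstance
    let _ : CommGroup (↥K ⧸ M') :=
      { (inferInstance : Group (↥K ⧸ M')) with
        mul_comm := IsSimpleGroup.comm_iff_isSolvable.mpr hcomm }
    have hpr := IsSimpleGroup.prime_card (α := ↥K ⧸ M')
    obtain ⟨j, hj⟩ := IsPGroup.iff_card.mp hq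
    rw [hj] at hpr
    have hj1 : j = 1 := by
      rcases Nat.lt_trichotomy j 1 with h | h | h
      · interval_cases j
        simp [Nat.not_prime_one] at hpr
      · exact h
      · exact absurd hpr (Nat.Prime.not_prime_pow h)
    rw [Subgroup.relIndex, ← Subgroup.comap_subtype,
      Subgroup.comap_map_eq_self_of_injective K.subtype_injective,
      Subgroup.index_eq_card, hj, hj1, pow_one]
  · refine normalizer_le_of_index (Subgroup.map_subtype_le M') ?_
    rw [← Subgroup.comap_subtype, Subgroup.comap_map_eq_self_of_injective K.subtype_injective]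
    exact hn

omit [Finite P] in
theorem relIndex_conj (A B : Subgroup P) (g : P) :
    (A.map (MulAut.conj g).toMonoidHom).relIndex (B.map (MulAut.conj g).toMonoidHom)
      = A.relIndex B :=
  Subgroup.relIndex_map_map_of_injective _ _ (MulAut.conj g).injective

omit [Finite P] in
theorem map_conj_eq_of_mem {H : Subgroup P} {g : P} (hg : g ∈ Subgroup.normalizer (H : Set P)) :
    H.map (MulAut.conj g).toMonoidHom = H := by
  ext x
  rw [Subgroup.mem_map]
  constructor
  · rintro ⟨h, hh, rfl⟩
    exact (Subgroup.mem_normalizer_iff.mp hg h).mp hh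
  · intro hx
    refine ⟨g⁻¹ * x * g, (Subgroup.mem_normalizer_iff.mp hg _).mpr (by simpa [mul_assoc] using hx), ?_⟩
    simp [mul_assoc]

omit [Finite P] in
theorem mem_normalizer_of_map_conj {H : Subgroup P} {g : P}
    (h : H.map (MulAut.conj g).toMonoidHom = H) : g ∈ Subgroup.normalizer (H : Set P) := by
  rw [Subgroup.mem_normalizer_iff]
  intro x
  constructor
  · intro hx
    rw [← h]; exact ⟨x, hx, rfl⟩
  · intro hx
    rw [← h, Subgroup.mem_map] at hx
    obtain ⟨y, hy, hyx⟩ := hx
    have : y = x := (MulAut.conj g).injective hyx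
    exact this ▸ hy

omit [Finite P] in
theorem map_center_eq {M : Subgroup P} {x : P}
    (h : M.map (MulAut.conj x).toMonoidHom = M) :
    (M ⊓ Subgroup.centralizer (M : Set P)).map (MulAut.conj x).toMonoidHom
      = M ⊓ Subgroup.centralizer (M : Set P) := by
  apply le_antisymm
  · rintro _ ⟨z, hz, rfl⟩
    refine Subgroup.mem_inf.mpr ⟨h.le ⟨z, hz.1, rfl⟩, Subgroup.mem_centralizer_iff.mpr ?_⟩
    intro m hm
    obtain ⟨m', hm', rfl⟩ := h.ge hm
    rw [← map_mul, ← map_mul, Subgroup.mem_centralizer_iff.mp hz.2 m' hm']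
  · intro z hz
    obtain ⟨z', hz', rfl⟩ := h.ge hz.1
    refine ⟨z', Subgroup.mem_inf.mpr ⟨hz', Subgroup.mem_centralizer_iff.mpr ?_⟩, rfl⟩
    intro m hm
    apply (MulAut.conj x).injective
    have := Subgroup.mem_centralizer_iff.mp hz.2 ((MulAut.conj x) m) (h.le ⟨m, hm, rfl⟩)
    simpa only [map_mul, MulEquiv.coe_toMonoidHom] using this

/-- The commutator of `E` with its normalizer is centralized by every proper overgroup. -/
theorem central_commutator (hP : IsPGroup p P) (E : Subgroup P) (hEab : IsMulCommutative ↥E)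
    (hC : Subgroup.centralizer (E : Set P) ≤ E)
    (hN : E.relIndex (Subgroup.normalizer (E : Set P)) = p) (K : Subgroup P) (hEK : E ≤ K)
    (hKt : K ≠ ⊤)
    (hIH : ∀ J : Subgroup P, E ≤ J → J < K → J.relIndex (Subgroup.normalizer (J : Set P)) = p) :
    K ≤ Subgroup.centralizer ((⁅E, Subgroup.normalizer (E : Set P)⁆ : Subgroup P) : Set P) := by
  set N1 := Subgroup.normalizer (E : Set P) with hN1
  set D := ⁅E, N1⁆ with hD
  have hDE : D ≤ E := by
    rw [hD, Subgroup.commutator_le]
    intro e he n hn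
    rw [commutatorElement_def, show e * n * e⁻¹ * n⁻¹ = e * (n * e⁻¹ * n⁻¹) by group]
    exact E.mul_mem he ((Subgroup.mem_normalizer_iff.mp hn _).mp (E.inv_mem he))
  induction K using WellFoundedLT.induction with
  | ind K ih =>
  rcases eq_or_lt_of_le hEK with h | h
  · subst h
    intro x hx
    rw [Subgroup.mem_centralizer_iff]
    intro d hd
    exact setLike_mul_comm (hDE hd) hx
  obtain ⟨M, hEM, hMK, hMi, hKM⟩ := exists_normal_maximal hP h
  have hMt : M ≠ ⊤ := fun e => not_top_lt (e ▸ hMK)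
  have hMc : M ≤ Subgroup.centralizer (D : Set P) :=
    ih M hMK hEM hMt (fun J hJ hJM => hIH J hJ (hJM.trans hMK))
  have hNM : Subgroup.normalizer (M : Set P) ≤ K :=
    normalizer_le_of_lt hP hMK (hIH M hEM hMK)
  have : Group.IsNilpotent P := hP.isNilpotent
  obtain ⟨g, hgN, hgK⟩ := SetLike.exists_of_lt
    (Group.normalizerCondition_of_isNilpotent K (lt_top_iff_ne_top.mpr hKt))
  set c := (MulAut.conj g).toMonoidHom with hc
  have hKc : K.map c = K := map_conj_eq_of_mem hgN
  have hMne : M.map c ≠ M := fun e => hgK (hNM (mem_normalizer_of_map_conj e))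
  have hMcK : M.map c ≤ K := hKc ▸ Subgroup.map_mono hMK.le
  have hgen : ∀ X : Subgroup P, X ≤ K → ¬ X ≤ M → K ≤ M ⊔ X := fun X hX hXM =>
    le_of_relIndex_prime (Fact.out (p := p.Prime)) hMK.le hMi le_sup_left (sup_le hMK.le hX)
      (lt_of_le_of_ne le_sup_left fun e => hXM (e.symm ▸ le_sup_right))
  have hMcM : ¬ M.map c ≤ M := fun e => hMne (Subgroup.eq_of_le_of_card_ge e
    (le_of_eq (Subgroup.card_map_of_injective (MulAut.conj g).injective).symm))
  set Y := M ⊓ Subgroup.centralizer (M : Set P) with hY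
  have hYE : Y ≤ E := fun y hy => hC (Subgroup.centralizer_le hEM hy.2)
  by_cases hYc : Y ≤ E.map c
  · have hDY : D ≤ Y := by
      refine le_inf (hDE.trans hEM) fun d hd => ?_
      rw [Subgroup.mem_centralizer_iff]
      intro m hm
      exact (Subgroup.mem_centralizer_iff.mp (hMc hm) d hd).symm
    have hEc : E.map c ≤ Subgroup.centralizer (D : Set P) := by
      rintro _ ⟨e, he, rfl⟩
      rw [Subgroup.mem_centralizer_iff]
      intro d hd
      obtain ⟨e', he', hde⟩ := hYc (hDY hd)
      rw [← hde, ← map_mul, ← map_mul, setLike_mul_comm he' he]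
    have hEcM : ¬ E.map c ≤ M := by
      intro hle
      set M' := M.map (MulAut.conj g⁻¹).toMonoidHom with hM'
      have hEM' : E ≤ M' := by
        intro x hx
        refine ⟨c x, hle ⟨x, hx, rfl⟩, ?_⟩
        simp [hc, mul_assoc]
      have hcard : Nat.card M' = Nat.card M :=
        Subgroup.card_map_of_injective (MulAut.conj g⁻¹).injective
      have heq : M' = M := by
        rcases comparable hP E hEM hEM' (fun J hJ hJM => hIH J hJ (hJM.trans hMK)) with e | e
        · exact (Subgroup.eq_of_le_of_card_ge e hcard.le).symm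
        · exact Subgroup.eq_of_le_of_card_ge e hcard.ge
      have := (Subgroup.normalizer (M : Set P)).inv_mem (mem_normalizer_of_map_conj heq)
      rw [inv_inv] at this
      exact hgK (hNM this)
    exact (hgen _ ((Subgroup.map_mono hEK).trans hKc.le) hEcM).trans (sup_le hMc hEc)
  · have hEc : E.map c < E.map c ⊔ Y :=
      lt_of_le_of_ne le_sup_left fun e => hYc (e.symm ▸ le_sup_right)
    have hnE : Subgroup.normalizer ((E.map c : Subgroup P) : Set P) = N1.map c :=
      (Subgroup.map_equiv_normalizer_eq E (MulAut.conj g)).symm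
    have hidx : (E.map c).relIndex (Subgroup.normalizer ((E.map c : Subgroup P) : Set P)) = p := by
      rw [hnE, relIndex_conj, hN]
    have hle : N1.map c ≤ E.map c ⊔ Y := hnE ▸ normalizer_le_of_lt hP hEc hidx
    have hDc : D.map c ≤ Y := by
      rw [hD, Subgroup.map_commutator, Subgroup.commutator_le]
      intro a ha b hb
      have hnor : E.map c ≤ Subgroup.normalizer (Y : Set P) := by
        intro x hx
        have hxM : x ∈ Subgroup.normalizer (M : Set P) :=
          hKM (hKc.le (Subgroup.map_mono hEK hx))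
        refine Subgroup.mem_normalizer_iff.mpr fun y => ?_
        have h1 := map_conj_eq_of_mem hxM
        have h2 : Y.map (MulAut.conj x).toMonoidHom = Y := map_center_eq h1
        exact Subgroup.mem_normalizer_iff.mp (mem_normalizer_of_map_conj h2) y
      have hb' := hle hb
      rw [← SetLike.mem_coe, Subgroup.coe_mul_of_left_le_normalizer_right _ _ hnor,
        Set.mem_mul] at hb'
      obtain ⟨e, he, y, hy, rfl⟩ := hb'
      have hae : a * e = e * a := by
        obtain ⟨a', ha', rfl⟩ := ha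
        obtain ⟨e', he', rfl⟩ := he
        rw [← map_mul, ← map_mul, setLike_mul_comm ha' he']
      have key : ⁅a, e * y⁆ = e * (a * y * a⁻¹ * y⁻¹) * e⁻¹ := by
        rw [commutatorElement_def]
        calc a * (e * y) * a⁻¹ * (e * y)⁻¹ = (a * e) * y * a⁻¹ * y⁻¹ * e⁻¹ := by group
          _ = (e * a) * y * a⁻¹ * y⁻¹ * e⁻¹ := by rw [hae]
          _ = _ := by group
      rw [key]
      exact (Subgroup.mem_normalizer_iff.mp (hnor he) _).mp
        (Y.mul_mem ((Subgroup.mem_normalizer_iff.mp (hnor ha) y).mp hy) (Y.inv_mem hy))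
    have hMDc : M ≤ Subgroup.centralizer (D.map c : Set P) := by
      intro m hm
      rw [Subgroup.mem_centralizer_iff]
      intro d hd
      exact (Subgroup.mem_centralizer_iff.mp (hDc hd).2 m hm).symm
    have hMcDc : M.map c ≤ Subgroup.centralizer (D.map c : Set P) := by
      rintro _ ⟨m, hm, rfl⟩
      rw [Subgroup.mem_centralizer_iff]
      rintro _ ⟨d, hd, rfl⟩
      rw [← map_mul, ← map_mul, Subgroup.mem_centralizer_iff.mp (hMc hm) d hd]
    have hKD : K ≤ Subgroup.centralizer (D.map c : Set P) :=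
      (hgen _ hMcK hMcM).trans (sup_le hMDc hMcDc)
    intro k hk
    rw [Subgroup.mem_centralizer_iff]
    intro d hd
    apply (MulAut.conj g).injective
    have h1 := Subgroup.mem_centralizer_iff.mp (hKD (hKc.le ⟨k, hk, rfl⟩)) (c d) ⟨d, hd, rfl⟩
    simpa only [map_mul, hc, MulEquiv.coe_toMonoidHom] using h1

/-- `E` has at most `p + 1` conjugates inside its normalizer `N1`, hence the index of `N1` in its
normalizer is at most `p`. -/
theorem relIndex_second (hP : IsPGroup p P) (E : Subgroup P) (hEab : IsMulCommutative ↥E)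
    (hC : Subgroup.centralizer (E : Set P) ≤ E)
    (hN : E.relIndex (Subgroup.normalizer (E : Set P)) = p)
    (hNt : Subgroup.normalizer (E : Set P) ≠ ⊤) :
    (Subgroup.normalizer (E : Set P)).relIndex
      (Subgroup.normalizer ((Subgroup.normalizer (E : Set P) : Subgroup P) : Set P)) = p := by
  classical
  have hp : p.Prime := Fact.out
  have : Group.IsNilpotent P := hP.isNilpotent
  set N1 := Subgroup.normalizer (E : Set P) with hN1
  set N2 := Subgroup.normalizer (N1 : Set P) with hN2
  have hlt : N1 < N2 :=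
    Group.normalizerCondition_of_isNilpotent N1 (lt_top_iff_ne_top.mpr hNt)
  have hEN : E < N1 := lt_of_le_of_ne Subgroup.le_normalizer fun e => by
    rw [← e, Subgroup.relIndex_self] at hN; exact hp.ne_one hN.symm
  set Z := N1 ⊓ Subgroup.centralizer (N1 : Set P) with hZ
  have hZE : Z ≤ E := fun z hz => hC (Subgroup.centralizer_le Subgroup.le_normalizer hz.2)
  obtain ⟨x, hxN, hxE⟩ := SetLike.exists_of_lt hEN
  have hsup : ∀ F : Subgroup P, F ≤ N1 → ¬ F ≤ E → N1 ≤ E ⊔ F := fun F hF hFE =>
    le_of_relIndex_prime hp Subgroup.le_normalizer hN le_sup_left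
      (sup_le Subgroup.le_normalizer hF)
      (lt_of_le_of_ne le_sup_left fun e => hFE (e.symm ▸ le_sup_right))
  -- the conjugates
  have hconj : ∀ g ∈ N2, E.map (MulAut.conj g).toMonoidHom ≠ E →
      ∃ e ∈ E, e * x ∈ E.map (MulAut.conj g).toMonoidHom := by
    intro g hg hne
    set F := E.map (MulAut.conj g).toMonoidHom with hF
    have hFN : F ≤ N1 := (Subgroup.map_mono Subgroup.le_normalizer).trans
      (map_conj_eq_of_mem hg).le
    have hFE : ¬ F ≤ E := fun e => hne (Subgroup.eq_of_le_of_card_ge e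
      (le_of_eq (Subgroup.card_map_of_injective (MulAut.conj g).injective).symm))
    have hx' := hsup F hFN hFE hxN
    rw [← SetLike.mem_coe, Subgroup.coe_mul_of_right_le_normalizer_left _ _ hFN,
      Set.mem_mul] at hx'
    obtain ⟨e, he, f, hf, hef⟩ := hx'
    refine ⟨e⁻¹, E.inv_mem he, ?_⟩
    rw [← hef, inv_mul_cancel_left]
    exact hf
  -- two different conjugates meet in `Z`
  have hmeet : ∀ g ∈ N2, ∀ h ∈ N2,
      E.map (MulAut.conj g).toMonoidHom ≠ E.map (MulAut.conj h).toMonoidHom →
      E.map (MulAut.conj g).toMonoidHom ⊓ E.map (MulAut.conj h).toMonoidHom ≤ Z := by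
    intro g hg h hh hne
    set F := E.map (MulAut.conj g).toMonoidHom with hF
    set F' := E.map (MulAut.conj h).toMonoidHom with hF'
    have hFN : ∀ u ∈ N2, E.map (MulAut.conj u).toMonoidHom ≤ N1 := fun u hu =>
      (Subgroup.map_mono Subgroup.le_normalizer).trans (map_conj_eq_of_mem hu).le
    have hFi : F.relIndex N1 = p := by
      conv_lhs => rw [← map_conj_eq_of_mem hg]
      rw [relIndex_conj, hN]
    have hne' : ¬ F' ≤ F := fun e => hne (Subgroup.eq_of_le_of_card_ge e (le_of_eq (by
      rw [hF, hF', Subgroup.card_map_of_injective (f := (MulAut.conj g).toMonoidHom)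
        (MulAut.conj g).injective, Subgroup.card_map_of_injective
        (f := (MulAut.conj h).toMonoidHom) (MulAut.conj h).injective]))).symm
    have hN' : N1 ≤ F ⊔ F' :=
      le_of_relIndex_prime hp (hFN g hg) hFi le_sup_left (sup_le (hFN g hg) (hFN h hh))
        (lt_of_le_of_ne le_sup_left fun e => hne' (le_sup_right.trans e.ge))
    intro z hz
    refine Subgroup.mem_inf.mpr ⟨hFN g hg hz.1, Subgroup.mem_centralizer_iff.mpr ?_⟩
    intro n hn
    have hle : F ⊔ F' ≤ Subgroup.centralizer {z} := by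
      refine sup_le ?_ ?_ <;>
      · intro f hf
        rw [Subgroup.mem_centralizer_iff]
        intro z' hz'
        rw [Set.mem_singleton_iff] at hz'
        subst hz'
        first
          | (obtain ⟨a, ha, rfl⟩ := hf; obtain ⟨b, hb, hbz⟩ := hz.1
             rw [← hbz, ← map_mul, ← map_mul, setLike_mul_comm hb ha])
          | (obtain ⟨a, ha, rfl⟩ := hf; obtain ⟨b, hb, hbz⟩ := hz.2
             rw [← hbz, ← map_mul, ← map_mul, setLike_mul_comm hb ha])
    exact (Subgroup.mem_centralizer_iff.mp (hle (hN' hn)) z rfl).symm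
  -- `E / Z` has order at most `p`
  obtain ⟨g₀, hg₀, hg₀N⟩ := SetLike.exists_of_lt hlt
  have hE₀ : E.map (MulAut.conj g₀).toMonoidHom ≠ E :=
    fun e => hg₀N (mem_normalizer_of_map_conj e)
  have hEZ : Z.relIndex E ≤ p := by
    set F := E.map (MulAut.conj g₀).toMonoidHom with hF
    have hFN : F ≤ N1 := (Subgroup.map_mono Subgroup.le_normalizer).trans
      (map_conj_eq_of_mem hg₀).le
    have hFi : F.relIndex N1 = p := by
      conv_lhs => rw [← map_conj_eq_of_mem hg₀]
      rw [relIndex_conj, hN]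
    have h1 : E ⊓ F ≤ Z := by
      have h1 : E.map (MulAut.conj (1 : P)).toMonoidHom = E :=
        map_conj_eq_of_mem (one_mem _)
      have := hmeet 1 N2.one_mem g₀ hg₀ (by rw [h1]; exact hE₀.symm)
      rwa [h1] at this
    calc Z.relIndex E ≤ (E ⊓ F).relIndex E :=
          Subgroup.relIndex_le_of_le_left h1 Subgroup.FiniteIndex.index_ne_zero
      _ = F.relIndex E := Subgroup.inf_relIndex_left E F
      _ ≤ F.relIndex N1 :=
          Subgroup.relIndex_le_of_le_right Subgroup.le_normalizer Subgroup.FiniteIndex.index_ne_zero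
      _ = p := hFi
  -- injection
  let R := ↥N2 ⧸ N1.subgroupOf N2
  let F : R → Subgroup P := fun r => E.map (MulAut.conj (Quotient.out r : ↥N2).1).toMonoidHom
  have hFinj : Function.Injective F := by
    intro r s hrs
    rw [← Quotient.out_eq r, ← Quotient.out_eq s]
    apply QuotientGroup.eq.mpr
    rw [Subgroup.mem_subgroupOf]
    have : E.map (MulAut.conj ((Quotient.out r : ↥N2).1⁻¹ * (Quotient.out s : ↥N2).1)).toMonoidHom
        = E := by
      have h2 := congrArg (Subgroup.map (MulAut.conj (Quotient.out r : ↥N2).1⁻¹).toMonoidHom) hrs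
      simp only [F, Subgroup.map_map] at h2
      convert h2.symm using 1
      · congr 1
        ext z; simp [mul_assoc]
      · conv_lhs => rw [← Subgroup.map_id E]
        congr 1
        ext z; simp [mul_assoc]
    simpa using mem_normalizer_of_map_conj this
  have hex : ∀ r : R, F r ≠ E → ∃ e : ↥E, (e : P) * x ∈ F r := fun r hr => by
    obtain ⟨e, he, hex⟩ := hconj _ (Quotient.out r : ↥N2).2 hr
    exact ⟨⟨e, he⟩, hex⟩
  choose ε hε using hex
  let Φ : {r : R // F r ≠ E} → ↥E ⧸ Z.subgroupOf E := fun r => QuotientGroup.mk (ε r.1 r.2)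
  have hΦ : Function.Injective Φ := by
    rintro ⟨r, hr⟩ ⟨s, hs⟩ he
    apply Subtype.ext
    apply hFinj
    by_contra hne
    have hz := QuotientGroup.eq.mp he
    rw [Subgroup.mem_subgroupOf] at hz
    have hd := hmeet _ (Quotient.out r : ↥N2).2 _ (Quotient.out s : ↥N2).2 hne
    have hzF : (ε r hr : P)⁻¹ * ε s hs ∈ F r := by
      have hu := (map_center_eq (map_conj_eq_of_mem (Quotient.out r : ↥N2).2)).ge hz
      exact Subgroup.map_mono hZE hu
    have hcm : x * ((ε r hr : P)⁻¹ * ε s hs) = ((ε r hr : P)⁻¹ * ε s hs) * x :=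
      Subgroup.mem_centralizer_iff.mp hz.2 x hxN
    have h1 : (ε s hs : P) * x = ((ε r hr : P) * x) * ((ε r hr : P)⁻¹ * ε s hs) := by
      rw [mul_assoc, hcm]; group
    have hmem : (ε s hs : P) * x ∈ F r := h1 ▸ (F r).mul_mem (hε r hr) hzF
    have := hZE (hd ⟨hmem, hε s hs⟩)
    exact hxE ((Subgroup.mul_mem_cancel_left E (ε s hs).2).mp this)
  have hcard : Nat.card {r : R // F r ≠ E} ≤ p :=
    (Nat.card_le_card_of_injective Φ hΦ).trans hEZ
  have hR : Nat.card R ≤ p + 1 := by
    have h1 : Nat.card {r : R // F r = E} ≤ 1 := by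
      rw [Finite.card_le_one_iff_subsingleton]
      exact ⟨fun a b => Subtype.ext (hFinj (a.2.trans b.2.symm))⟩
    have h2 := Nat.card_congr (Equiv.sumCompl (fun r : R => F r = E))
    rw [Nat.card_sum] at h2
    change Nat.card {r : R // F r = E} + Nat.card {r : R // F r ≠ E} = Nat.card R at h2
    omega
  obtain ⟨j, hj⟩ := IsPGroup.iff_card.mp (hP.to_subgroup N2)
  obtain ⟨k, -, hk⟩ := (Nat.dvd_prime_pow hp).mp (hj ▸ Subgroup.relIndex_dvd_card N1 N2)
  rw [hk]
  have hk2 : p ^ k ≤ p + 1 := hk ▸ hR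
  rcases k with - | _ | k
  · exfalso
    rw [pow_zero] at hk
    exact hlt.not_ge (Subgroup.relIndex_eq_one.mp hk)
  · simp
  · exfalso
    have h3 : p ^ 2 ≤ p ^ (k + 2) := Nat.pow_le_pow_right hp.pos (by omega)
    have h4 := hp.two_le
    nlinarith

end

universe u

theorem class_le_of_ker {G H : Type u} [Group G] [Group H] [Group.IsNilpotent H] [Group.IsNilpotent G]
    (f : G →* H) (hf : f.ker ≤ Subgroup.center G) {m : ℕ} (hm : Group.nilpotencyClass H ≤ m) :
    Group.nilpotencyClass G ≤ m + 1 :=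
  (Group.nilpotencyClass_le_of_ker_le_center f hf).trans (Nat.add_le_add_right hm 1)

theorem class_le_one_of_comm {G : Type u} [Group G] [Group.IsNilpotent G]
    (h : ∀ a b : G, a * b = b * a) : Group.nilpotencyClass G ≤ 1 := by
  rw [← Subgroup.upperCentralSeries_eq_top_iff_nilpotencyClass_le, Subgroup.upperCentralSeries_one, eq_top_iff]
  exact fun a _ => Subgroup.mem_center_iff.mpr fun b => h b a

theorem main {p : ℕ} [Fact p.Prime] : ∀ n : ℕ, ∀ (P : Type u) [Group P] [Finite P],
    Nat.card P = n → IsPGroup p P → ∀ E : Subgroup P, IsMulCommutative ↥E →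
    Subgroup.centralizer (E : Set P) ≤ E →
    E.relIndex (Subgroup.normalizer (E : Set P)) = p →
    ∀ K : Subgroup P, E ≤ K → K ≠ ⊤ →
      K.relIndex (Subgroup.normalizer (K : Set P)) = p ∧
      ∀ (i : ℕ) [Group.IsNilpotent ↥K], E.relIndex K = p ^ i →
        Group.nilpotencyClass ↥K ≤ i + 1 := by
  intro n
  induction n using Nat.strong_induction_on with
  | _ n ihn =>
  intro P _ _ hn hP E hEab hC hN K hEK hKt
  have hp : p.Prime := Fact.out
  induction K using WellFoundedLT.induction with
  | ind K ih =>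
  rcases eq_or_lt_of_le hEK with h | h
  · subst h
    exact ⟨hN, fun i _ _ =>
      (class_le_one_of_comm fun a b => Subtype.ext (setLike_mul_comm a.2 b.2)).trans
        (Nat.le_add_left 1 i)⟩
  set N1 := Subgroup.normalizer (E : Set P) with hN1
  have hEN : E < N1 := lt_of_le_of_ne Subgroup.le_normalizer fun e => by
    rw [← e, Subgroup.relIndex_self] at hN; exact hp.ne_one hN.symm
  have hN1K : N1 ≤ K := normalizer_le_of_lt hP h hN
  have hIH : ∀ J : Subgroup P, E ≤ J → J < K →
      J.relIndex (Subgroup.normalizer (J : Set P)) = p :=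
    fun J hJ hJK => (ih J hJK hJ fun e => not_top_lt (e ▸ hJK)).1
  have hcen := central_commutator hP E hEab hC hN K hEK hKt hIH
  set Q := Subgroup.normalizer (K : Set P) with hQ
  have hKQ : K ≤ Q := Subgroup.le_normalizer
  set Z := K ⊓ Subgroup.centralizer (K : Set P) with hZ
  have hZE : Z ≤ E := fun z hz => hC (Subgroup.centralizer_le hEK hz.2)
  have hcomm : ∀ e ∈ E, ∀ m ∈ N1, ⁅e, m⁆ ∈ Z := by
    intro e he m hm
    refine Subgroup.mem_inf.mpr ⟨?_, Subgroup.mem_centralizer_iff.mpr fun k hk =>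
      (Subgroup.mem_centralizer_iff.mp (hcen hk) _ (Subgroup.commutator_mem_commutator he hm)).symm⟩
    rw [commutatorElement_def]
    exact K.mul_mem (K.mul_mem (K.mul_mem (hEK he) (hN1K hm)) (K.inv_mem (hEK he)))
      (K.inv_mem (hN1K hm))
  let Z0 : Subgroup ↥Q := Z.subgroupOf Q
  have : Z0.Normal := ⟨fun z hz g => by
    simp only [Z0, Subgroup.mem_subgroupOf] at hz ⊢
    exact (map_center_eq (map_conj_eq_of_mem g.2)).le ⟨_, hz, rfl⟩⟩
  let π : ↥Q →* ↥Q ⧸ Z0 := QuotientGroup.mk' Z0
  have hπs : Function.Surjective π := QuotientGroup.mk'_surjective Z0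
  -- subgroups between `Z` and `Q`
  have hpull : ∀ L : Subgroup P, Z ≤ L →
      ((L.subgroupOf Q).map π).comap π = L.subgroupOf Q := by
    intro L hL
    apply Subgroup.comap_map_eq_self
    rw [QuotientGroup.ker_mk']
    exact fun z hz => hL hz
  have hnorm : ∀ L : Subgroup P, Z ≤ L → L ≤ Q → Subgroup.normalizer (L : Set P) ≤ Q →
      ((L.subgroupOf Q).map π).relIndex
        (Subgroup.normalizer (((L.subgroupOf Q).map π : Subgroup (↥Q ⧸ Z0)) : Set (↥Q ⧸ Z0)))
      = L.relIndex (Subgroup.normalizer (L : Set P)) := by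
    intro L hL hLQ hNQ
    conv_lhs => rw [← Subgroup.map_comap_eq_self_of_surjective hπs
      (Subgroup.normalizer (((L.subgroupOf Q).map π : Subgroup (↥Q ⧸ Z0)) : Set (↥Q ⧸ Z0))),
      ← Subgroup.relIndex_comap, Subgroup.comap_normalizer_eq_of_surjective _ hπs, hpull L hL,
      ← Subgroup.subgroupOf_normalizer_eq hLQ, Subgroup.relIndex_subgroupOf hNQ]
  set Kb := (K.subgroupOf Q).map π with hKb
  set Eb := (N1.subgroupOf Q).map π with hEb
  let f : ↥K →* ↥Kb :=
    (π.comp (Subgroup.inclusion hKQ)).codRestrict Kb fun k =>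
      ⟨Subgroup.inclusion hKQ k, k.2, rfl⟩
  have hf : f.ker ≤ Subgroup.center ↥K := by
    intro k hk
    rw [MonoidHom.mem_ker] at hk
    have h1 : π (Subgroup.inclusion hKQ k) = 1 := congrArg Subtype.val hk
    rw [QuotientGroup.mk'_apply, QuotientGroup.eq_one_iff] at h1
    exact Subgroup.mem_center_iff.mpr fun k' =>
      Subtype.ext (Subgroup.mem_centralizer_iff.mp h1.2 k' k'.2)
  have hQp : IsPGroup p (↥Q ⧸ Z0) := (hP.to_subgroup Q).to_quotient Z0
  obtain ⟨x, hxN, hxE⟩ := SetLike.exists_of_lt hEN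
  have hgen : N1 ≤ E ⊔ Subgroup.zpowers x :=
    le_of_relIndex_prime hp hEN.le hN le_sup_left
      (sup_le hEN.le (Subgroup.zpowers_le.mpr hxN))
      (lt_of_le_of_ne le_sup_left fun e => hxE
        ((le_sup_right.trans e.ge) (Subgroup.mem_zpowers x)))
  -- images of `N1` commute
  have hEbc : ∀ a b : ↥Q, (a : P) ∈ N1 → (b : P) ∈ N1 → π a * π b = π b * π a := by
    have key : ∀ a b : ↥Q, ⁅(a : P), (b : P)⁆ ∈ Z → π a * π b = π b * π a := by
      intro a b hab
      rw [← commutatorElement_eq_one_iff_mul_comm, ← map_commutatorElement,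
        QuotientGroup.mk'_apply, QuotientGroup.eq_one_iff, Subgroup.mem_subgroupOf]
      simpa [commutatorElement_def] using hab
    have hEN' : ∀ a b : ↥Q, (a : P) ∈ E → (b : P) ∈ N1 → π a * π b = π b * π a :=
      fun a b ha hb => key a b (hcomm _ ha _ hb)
    intro a b ha hb
    -- `b` commutes with `E` and with `x`
    have step : ∀ c : ↥Q, (c : P) ∈ N1 → (∀ e : ↥Q, (e : P) ∈ E → π e * π c = π c * π e) →
        π ⟨x, hKQ (hN1K hxN)⟩ * π c = π c * π ⟨x, hKQ (hN1K hxN)⟩ →
        ∀ d : ↥Q, (d : P) ∈ N1 → π d * π c = π c * π d := by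
      intro c _ h1 h2 d hd
      have hle : N1 ≤ ((Subgroup.centralizer {π c}).comap π).map Q.subtype := by
        refine hgen.trans (sup_le (fun e he => ⟨⟨e, hKQ (hEK he)⟩, ?_, rfl⟩)
          (Subgroup.zpowers_le.mpr ⟨⟨x, hKQ (hN1K hxN)⟩, ?_, rfl⟩))
        · exact Subgroup.mem_centralizer_iff.mpr fun z hz => by
            rw [Set.mem_singleton_iff.mp hz]; exact (h1 _ he).symm
        · exact Subgroup.mem_centralizer_iff.mpr fun z hz => by
            rw [Set.mem_singleton_iff.mp hz]; exact h2.symm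
      obtain ⟨d', hd', hdd⟩ := hle hd
      have : d' = d := Subtype.ext hdd
      subst this
      exact (Subgroup.mem_centralizer_iff.mp hd' _ rfl).symm
    have hx1 : ∀ d : ↥Q, (d : P) ∈ N1 →
        π d * π ⟨x, hKQ (hN1K hxN)⟩ = π ⟨x, hKQ (hN1K hxN)⟩ * π d :=
      step _ hxN (fun e he => hEN' e _ he hxN) rfl
    exact step b hb (fun e he => hEN' e b he hb) (hx1 b hb).symm a ha
  rcases eq_or_lt_of_le hN1K with heq | hlt
  · -- the second term
    subst heq
    refine ⟨relIndex_second hP E hEab hC hN hKt, fun i _ hi => ?_⟩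
    have hi1 : i = 1 := by
      rw [hN] at hi
      exact Nat.pow_right_injective hp.two_le (hi.symm.trans (pow_one p).symm)
    subst hi1
    have : Group.IsNilpotent ↥Kb := (hQp.to_subgroup Kb).isNilpotent
    refine class_le_of_ker f hf (class_le_one_of_comm ?_)
    rintro ⟨_, a, ha, rfl⟩ ⟨_, b, hb, rfl⟩
    exact Subtype.ext (hEbc a b ha hb)
  · have hNN : Subgroup.normalizer (N1 : Set P) ≤ K :=
      normalizer_le_of_lt hP hlt (hIH N1 hEN.le hlt)
    have hZN : Z ≤ N1 := hZE.trans hEN.le
    have hEbab : IsMulCommutative ↥Eb := by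
      constructor; constructor
      rintro ⟨_, a, ha, rfl⟩ ⟨_, b, hb, rfl⟩
      exact Subtype.ext (hEbc a b ha hb)
    have hEbC : Subgroup.centralizer (Eb : Set (↥Q ⧸ Z0)) ≤ Eb := by
      intro q hq
      obtain ⟨q, rfl⟩ := hπs q
      refine ⟨q, mem_normalizer_of_map_conj (Subgroup.eq_of_le_of_card_ge ?_
        (Subgroup.card_map_of_injective (MulAut.conj (q : P)).injective).ge), rfl⟩
      rintro _ ⟨e, he, rfl⟩
      have h1 := Subgroup.mem_centralizer_iff.mp hq (π ⟨e, hKQ (hEK he)⟩)
        ⟨⟨e, hKQ (hEK he)⟩, hEN.le he, rfl⟩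
      rw [eq_comm, ← commutatorElement_eq_one_iff_mul_comm, ← map_commutatorElement,
        QuotientGroup.mk'_apply, QuotientGroup.eq_one_iff, Subgroup.mem_subgroupOf] at h1
      have h2 := E.mul_mem (hZE h1) he
      simpa [commutatorElement_def, mul_assoc] using h2
    have hEbN : Eb.relIndex (Subgroup.normalizer (Eb : Set (↥Q ⧸ Z0))) = p := by
      rw [hEb, hnorm N1 hZN (hN1K.trans hKQ) (hNN.trans hKQ)]
      exact hIH N1 hEN.le hlt
    have hlt' : Nat.card (↥Q ⧸ Z0) < n := by
      have hne : Z0 ≠ ⊥ := by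
        intro hbot
        refine hxE (hC (Subgroup.mem_centralizer_iff.mpr fun e he => ?_))
        have hm := hcomm e he x hxN
        have h2 : (⟨_, hKQ hm.1⟩ : ↥Q) ∈ Z0 := Subgroup.mem_subgroupOf.mpr hm
        rw [hbot, Subgroup.mem_bot] at h2
        exact commutatorElement_eq_one_iff_mul_comm.mp (congrArg Subtype.val h2)
      have h1 := Subgroup.card_eq_card_quotient_mul_card_subgroup Z0
      have h2 : 1 < Nat.card Z0 := Finite.one_lt_card_iff_nontrivial.mpr
        ((Subgroup.nontrivial_iff_ne_bot _).mpr hne)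
      have h3 : Nat.card ↥Q ≤ n := hn ▸ Q.card_le_card_group
      have h4 : 0 < Nat.card (↥Q ⧸ Z0) := Nat.card_pos
      nlinarith
    have : Group.IsNilpotent P := hP.isNilpotent
    have hKQ' : K < Q := Group.normalizerCondition_of_isNilpotent K (lt_top_iff_ne_top.mpr hKt)
    have hKbt : Kb ≠ ⊤ := by
      intro e
      have := hpull K inf_le_left
      rw [← hKb, e, Subgroup.comap_top, eq_comm, Subgroup.subgroupOf_eq_top] at this
      exact hKQ'.not_ge this
    obtain ⟨hr, hcl⟩ := ihn _ hlt' (↥Q ⧸ Z0) rfl hQp Eb hEbab hEbC hEbN Kb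
      (Subgroup.map_mono fun a ha => hN1K ha) hKbt
    refine ⟨?_, fun i _ hi => ?_⟩
    · rwa [hKb, hnorm K inf_le_left hKQ le_rfl] at hr
    · have h1 := Subgroup.relIndex_mul_relIndex E N1 K hEN.le hN1K
      rw [hN, hi] at h1
      rcases i with - | j
      · exact absurd (Nat.eq_one_of_mul_eq_one_right (h1.trans (pow_zero p))) hp.ne_one
      rw [pow_succ', Nat.mul_left_cancel_iff hp.pos] at h1
      have : Group.IsNilpotent ↥Kb := (hQp.to_subgroup Kb).isNilpotent
      refine class_le_of_ker f hf (hcl j ?_)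
      rw [hKb, ← Subgroup.relIndex_comap, hpull N1 hZN, Subgroup.relIndex_subgroupOf hKQ, h1]

theorem add_one_le_class {P : Type u} [Group P] [Finite P] {p : ℕ} [Fact p.Prime]
    (E : Subgroup P) (hC : Subgroup.centralizer (E : Set P) ≤ E)
    (hrel : ∀ J : Subgroup P, E ≤ J → J ≠ ⊤ → J.relIndex (Subgroup.normalizer (J : Set P)) = p)
    (K : Subgroup P) [Group.IsNilpotent ↥K] (hEK : E ≤ K) (hKt : K ≠ ⊤) {i : ℕ}
    (hi : E.relIndex K = p ^ i) : i + 1 ≤ Group.nilpotencyClass ↥K := by
  have hp : p.Prime := Fact.out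
  let L : ℕ → Subgroup P := fun j => E ⊔ (Subgroup.upperCentralSeries ↥K j).map K.subtype
  have hEL : ∀ j, E ≤ L j := fun j => le_sup_left
  have hLK : ∀ j, L j ≤ K := fun j => sup_le hEK (Subgroup.map_subtype_le _)
  have hb : ∀ j, E.relIndex (L (j + 1)) ≤ p ^ j := by
    intro j
    induction j with
    | zero =>
      rw [pow_zero, Subgroup.relIndex_eq_one.mpr]
      refine sup_le le_rfl ?_
      rintro _ ⟨z, hz, rfl⟩
      rw [SetLike.mem_coe, Subgroup.upperCentralSeries_one] at hz
      exact hC (Subgroup.mem_centralizer_iff.mpr fun e he =>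
        congrArg Subtype.val (Subgroup.mem_center_iff.mp hz ⟨e, hEK he⟩))
    | succ j ihj =>
      have hle : L (j + 2) ≤ Subgroup.normalizer (L (j + 1) : Set P) := by
        refine sup_le ((hEL _).trans Subgroup.le_normalizer) ?_
        rintro _ ⟨z, hz, rfl⟩
        apply mem_normalizer_of_map_conj
        refine Subgroup.eq_of_le_of_card_ge ?_
          (Subgroup.card_map_of_injective (MulAut.conj (K.subtype z)).injective).ge
        rintro _ ⟨l, hl, rfl⟩
        have hc := Subgroup.mem_upperCentralSeries_succ_iff.mp hz ⟨l, hLK _ hl⟩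
        have hc' : ⁅(z : P), l⁆ ∈ L (j + 1) :=
          Subgroup.mem_sup_right ⟨_, hc, by simp [commutatorElement_def]⟩
        have := (L (j + 1)).mul_mem hc' hl
        simpa [commutatorElement_def, mul_assoc] using this
      calc E.relIndex (L (j + 2)) ≤ E.relIndex (Subgroup.normalizer (L (j + 1) : Set P)) :=
            Subgroup.relIndex_le_of_le_right hle Subgroup.FiniteIndex.index_ne_zero
        _ = E.relIndex (L (j + 1)) * p := by
            rw [← Subgroup.relIndex_mul_relIndex _ _ _ (hEL (j + 1)) Subgroup.le_normalizer,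
              hrel _ (hEL _) fun e => hKt (top_le_iff.mp (e ▸ hLK (j + 1)))]
        _ ≤ p ^ j * p := Nat.mul_le_mul_right p ihj
        _ = p ^ (j + 1) := (pow_succ p j).symm
  have htop : L (Group.nilpotencyClass ↥K) = K := by
    refine le_antisymm (hLK _) fun k hk => Subgroup.mem_sup_right ⟨⟨k, hk⟩, ?_, rfl⟩
    rw [Subgroup.upperCentralSeries_nilpotencyClass]
    trivial
  obtain hc | ⟨c, hc⟩ := Nat.eq_zero_or_eq_succ_pred (Group.nilpotencyClass ↥K) |>.imp id
      fun h => (⟨_, h⟩ : ∃ c, Group.nilpotencyClass ↥K = c + 1)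
  · exfalso
    have : Subsingleton ↥K := nilpotencyClass_zero_iff_subsingleton.mp hc
    have hK1 : K = ⊥ := K.eq_bot_of_subsingleton
    refine hKt (top_le_iff.mp fun g _ => hEK (hC (Subgroup.mem_centralizer_iff.mpr fun e he => ?_)))
    have he' : e ∈ (⊥ : Subgroup P) := hK1 ▸ hEK he
    rw [Subgroup.mem_bot.mp he', mul_one, one_mul]
  · have h1 := hb c
    rw [← hc, htop, hi] at h1
    have := (Nat.pow_le_pow_iff_right hp.one_lt).mp h1
    omega

/-- Let P be a finite p-group and E an abelian subgroup of P that contains its centralizer, has index p in its normalizer, and has index at least p² in P. Then the subgroups of P containing E are totally ordered by inclusion, each proper one has index p in its normalizer (so they form the normalizer tower of E, with all steps of index p), and the i-th member of the tower above E has nilpotency class i + 1 whenever it is a proper subgroup of P. -/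
theorem result {P : Type*} [Group P] [Finite P] (p : ℕ) [Fact p.Prime] (hP : IsPGroup p P)
    (E : Subgroup P) (hEab : IsMulCommutative ↥E) (hC : Subgroup.centralizer (E : Set P) ≤ E)
    (hN : (E.subgroupOf (Subgroup.normalizer (E : Set P))).index = p) (hidx : p ^ 2 ≤ E.index) :
    (∀ K L : Subgroup P, E ≤ K → E ≤ L → K ≤ L ∨ L ≤ K) ∧
      (∀ K : Subgroup P, E ≤ K → K ≠ ⊤ → (K.subgroupOf (Subgroup.normalizer (K : Set P))).index = p) ∧
      ∀ (i : ℕ) (K : Subgroup P) [Group.IsNilpotent ↥K], E ≤ K → K ≠ ⊤ → K.index * p ^ i = E.index →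
        Group.nilpotencyClass ↥K = i + 1 := by
  have hm := main (p := p) _ P rfl hP E hEab hC hN
  refine ⟨fun K L hK hL => comparable hP E hK hL fun J hJ hJK =>
      (hm J hJ fun e => not_top_lt (e ▸ hJK)).1, fun K hK hKt => (hm K hK hKt).1, ?_⟩
  intro i K _ hK hKt hi
  have hi' : E.relIndex K = p ^ i := by
    have h1 := Subgroup.relIndex_mul_index hK
    rw [← hi, mul_comm K.index] at h1
    exact Nat.eq_of_mul_eq_mul_right (Nat.pos_of_ne_zero Subgroup.FiniteIndex.index_ne_zero) h1
  exact le_antisymm ((hm K hK hKt).2 i hi')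
    (add_one_le_class E hC (fun J hJ hJt => (hm J hJ hJt).1) K hK hKt hi')

end Cfsg.Agent.S3811
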