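import Cfsg.Statements.S3814
import Cfsg.Agent.Lib.FourPrimes.Basic
import Cfsg.Agent.Lib.Solvable.CoprimeAction
import Cfsg.Agent.Lib.RankOne.ConstStab
import Mathlib.Tactic.Group

set_option autoImplicit false
open Cfsg Subgroup CfsgLib.FourPrimes
open scoped commutatorElement Pointwise

namespace Cfsg.Agent.S3814

universe u

variable {G : Type u} [Group G]

/-- No element has order a product of three distinct primes. -/
def NT (G : Type u) [Group G] : Prop :=
  ∀ a b c : ℕ, a.Prime → b.Prime → c.Prime → a ≠ b → b ≠ c → a ≠ c → ∀ g : G, orderOf g ≠ a * b * c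

theorem NT.triple (h : NT G) {a b c : ℕ} (ha : a.Prime) (hb : b.Prime) (hc : c.Prime) (hab : a ≠ b)
    (hbc : b ≠ c) (hac : a ≠ c) {x y z : G} (hxa : x ^ a = 1) (hx : x ≠ 1) (hyb : y ^ b = 1) (hy : y ≠ 1)
    (hzc : z ^ c = 1) (hz : z ≠ 1) (hxy : Commute x y) (hyz : Commute y z) (hxz : Commute x z) : False := by
  haveI : Fact a.Prime := ⟨ha⟩
  haveI : Fact b.Prime := ⟨hb⟩
  haveI : Fact c.Prime := ⟨hc⟩
  have ox := orderOf_eq_prime hxa hx
  have oy := orderOf_eq_prime hyb hy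
  have oz' := orderOf_eq_prime hzc hz
  have hco : (orderOf x).Coprime (orderOf y) := by rw [ox, oy]; exact (Nat.coprime_primes ha hb).mpr hab
  have hoxy : orderOf (x * y) = a * b := by rw [hxy.orderOf_mul_eq_mul_orderOf_of_coprime hco, ox, oy]
  refine h a b c ha hb hc hab hbc hac (x * y * z) ?_
  rw [(hxz.mul_left hyz).orderOf_mul_eq_mul_orderOf_of_coprime (by
    rw [hoxy, oz']
    exact Nat.Coprime.mul_left ((Nat.coprime_primes ha hc).mpr hac) ((Nat.coprime_primes hb hc).mpr hbc)),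
    hoxy, oz']

section Cores

/-- The `t`-core of `L` inside `G`. -/
def core (t : ℕ) (L : Subgroup G) : Subgroup G := (Cfsg.pCore t L).map L.subtype

theorem core_le (t : ℕ) (L : Subgroup G) : core t L ≤ L := map_subtype_le _

theorem isPGroup_core (t : ℕ) (L : Subgroup G) : IsPGroup t (core t L) :=
  (CfsgLib.Solvable.pCore_isPGroup (p := t) L).map _

theorem le_normalizer_core (t : ℕ) (L : Subgroup G) : L ≤ normalizer (core t L : Set G) := by
  haveI := CfsgLib.Solvable.pCore_normal (p := t) L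
  have h := le_normalizer_map L.subtype (H := Cfsg.pCore t L)
  rwa [normalizer_eq_top, ← MonoidHom.range_eq_map, range_subtype] at h

theorem le_core {t : ℕ} {L M : Subgroup G} (hML : M ≤ L) (hn : L ≤ normalizer (M : Set G))
    (hM : IsPGroup t M) : M ≤ core t L := by
  have h := CfsgLib.Solvable.le_pCore (p := t) (normal_subgroupOf_of_le_normalizer hn)
    (hM.of_equiv (subgroupOfEquivOfLe hML).symm)
  intro x hx
  exact ⟨⟨x, hML hx⟩, h (mem_subgroupOf.mpr hx), rfl⟩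

variable [Finite G] [Group.IsSolvable G]

theorem mem_fitting {L : Subgroup G} {x : G} (hx : x ∈ L)
    (hc : ∀ t : ℕ, t.Prime → ∀ y ∈ core t L, Commute x y) :
    (⟨x, hx⟩ : L) ∈ Cfsg.fittingSubgroup L := by
  refine CfsgLib.Solvable.centralizer_fittingSubgroup_le ?_
  have hle : Cfsg.fittingSubgroup L ≤ centralizer ({⟨x, hx⟩} : Set L) := by
    rw [CfsgLib.Solvable.fittingSubgroup_eq_iSup_pCore]
    refine iSup_le fun t y hy => mem_centralizer_singleton_iff.mpr (Subtype.ext ?_)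
    exact (hc t (Nat.prime_of_mem_primeFactors t.2) y ⟨y, hy, rfl⟩).eq.symm
  exact mem_centralizer_iff.mpr fun y hy => (mem_centralizer_singleton_iff.mp (hle hy))

theorem mem_of_cores {L W : Subgroup G} {x : G} (hx : x ∈ L)
    (hc : ∀ t : ℕ, t.Prime → ∀ y ∈ core t L, Commute x y)
    (hW : ∀ t : ℕ, t.Prime → t ∣ Nat.card L → core t L ≤ W) : x ∈ W := by
  have h := mem_fitting hx hc
  have hle : Cfsg.fittingSubgroup L ≤ W.subgroupOf L := by
    rw [CfsgLib.Solvable.fittingSubgroup_eq_iSup_pCore]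
    refine iSup_le fun t y hy => mem_subgroupOf.mpr ?_
    exact hW t (Nat.prime_of_mem_primeFactors t.2) (Nat.dvd_of_mem_primeFactors t.2) ⟨y, hy, rfl⟩
  exact mem_subgroupOf.mp (hle h)

theorem mem_core {L : Subgroup G} {t : ℕ} [Fact t.Prime] {x : G} (hx : x ∈ L) (hxt : x ^ t = 1)
    (hc : ∀ t : ℕ, t.Prime → ∀ y ∈ core t L, Commute x y) : x ∈ core t L := by
  have h := mem_fitting hx hc
  haveI := CfsgLib.Solvable.fittingSubgroup_characteristic L
  haveI := CfsgLib.Solvable.fittingSubgroup_normal L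
  set F := Cfsg.fittingSubgroup L
  have hall := ((Group.isNilpotent_of_finite_tfae (G := F)).out 0 3).mp
    (CfsgLib.Solvable.fittingSubgroup_isNilpotent L)
  have hzp : IsPGroup t (zpowers (⟨⟨x, hx⟩, h⟩ : F)) :=
    isPGroup_zpowers (Subtype.ext (Subtype.ext (by simpa using hxt)))
  obtain ⟨Q, hQ⟩ := hzp.exists_le_sylow
  have hQn : (Q : Subgroup F).Normal := hall t inferInstance Q
  haveI := Sylow.characteristic_of_normal Q hQn
  have hmn := CfsgLib.Solvable.normal_map_subtype_of_characteristic F (Q : Subgroup F)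
  exact ⟨⟨x, hx⟩, CfsgLib.Solvable.le_pCore hmn (Q.2.map F.subtype)
    ⟨_, hQ (mem_zpowers _), rfl⟩, rfl⟩

theorem exists_core {L : Subgroup G} (hL : L ≠ ⊥) :
    ∃ t : ℕ, t.Prime ∧ t ∣ Nat.card L ∧ core t L ≠ ⊥ := by
  haveI := (nontrivial_iff_ne_bot L).mpr hL
  obtain ⟨t, N, ht, hN, hNp, hN1⟩ := CfsgLib.Solvable.exists_normal_pgroup_ne_bot (G := L)
  haveI : Fact t.Prime := ⟨ht⟩
  obtain ⟨k, hk⟩ := hNp.exists_card_eq
  refine ⟨t, ht, (dvd_pow_self t ?_).trans (hk ▸ card_subgroup_dvd_card N), fun e => hN1 ?_⟩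
  · rintro rfl
    exact hN1 (card_eq_one.mp (by rw [hk, pow_zero]))
  · exact eq_bot_iff.mpr ((CfsgLib.Solvable.le_pCore hN hNp).trans
      ((map_eq_bot_iff_of_injective _ L.subtype_injective).mp e).le)

omit [Group.IsSolvable G] in
theorem core_eq_bot_of_not_dvd {t : ℕ} (ht : t.Prime) {L : Subgroup G} (h : ¬ t ∣ Nat.card L) :
    core t L = ⊥ := by
  haveI : Fact t.Prime := ⟨ht⟩
  obtain ⟨k, hk⟩ := (isPGroup_core t L).exists_card_eq
  rcases k with _ | k
  · exact card_eq_one.mp (by rw [hk, pow_zero])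
  · exact absurd (((Dvd.intro_left _ (pow_succ t k).symm).trans (dvd_of_eq hk.symm)).trans
      (card_dvd_of_le (core_le t L))) h

/-- A Hall subgroup of `K` containing a given one, with dominance. -/
theorem exists_hall_in (K : Subgroup G) (π : Set ℕ) (J : Subgroup G) (hJK : J ≤ K)
    (hJ : ∀ t : ℕ, t.Prime → t ∣ Nat.card J → t ∈ π) :
    ∃ T ≤ K, J ≤ T ∧ (∀ t : ℕ, t.Prime → t ∣ Nat.card T → t ∈ π) ∧
      ∀ J' ≤ K, (∀ t : ℕ, t.Prime → t ∣ Nat.card J' → t ∈ π) → ∃ k ∈ K, ∀ x ∈ J', k * x * k⁻¹ ∈ T := by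
  obtain ⟨H, hH, hJH⟩ := CfsgLib.Solvable.exists_isPiHall_ge (G := K) (π := π) (K := J.subgroupOf K)
    (fun t ht hd => hJ t ht (by rwa [Nat.card_congr (subgroupOfEquivOfLe hJK).toEquiv] at hd))
  refine ⟨H.map K.subtype, map_subtype_le _, fun x hx => ⟨⟨x, hJK hx⟩, hJH (mem_subgroupOf.mpr hx), rfl⟩,
    fun t ht hd => hH.1 t ht (by rwa [card_subtype] at hd), fun J' hJ'K hJ' => ?_⟩
  obtain ⟨g, hg⟩ := CfsgLib.Solvable.exists_conj_le_isPiHall hH (K := J'.subgroupOf K)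
    (fun t ht hd => hJ' t ht (by rwa [Nat.card_congr (subgroupOfEquivOfLe hJ'K).toEquiv] at hd))
  refine ⟨g, g.2, fun x hx => ⟨g * ⟨x, hJ'K hx⟩ * g⁻¹, hg ?_, rfl⟩⟩
  rw [CfsgLib.Solvable.mem_conj_smul]
  rw [mem_subgroupOf]
  simpa [mul_assoc] using hx

omit [Finite G] [Group.IsSolvable G] in
theorem le_of_conj {K J T : Subgroup G} (hJ : K ≤ normalizer (J : Set G))
    (h : ∃ k ∈ K, ∀ x ∈ J, k * x * k⁻¹ ∈ T) : J ≤ T := by
  obtain ⟨k, hk, hkT⟩ := h
  intro x hx
  have h1 := hkT _ (conj_mem' (hJ hk) hx)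
  rwa [show k * (k⁻¹ * x * k) * k⁻¹ = x by group] at h1

theorem rk_hall {K T : Subgroup G} {π : Set ℕ} {r : ℕ} (hr : r.Prime) (hrπ : r ∈ π)
    (hT : ∀ J' ≤ K, (∀ t : ℕ, t.Prime → t ∣ Nat.card J' → t ∈ π) → ∃ k ∈ K, ∀ x ∈ J', k * x * k⁻¹ ∈ T)
    (h : Rk r K) : Rk r T := by
  obtain ⟨E, hEK, hE⟩ := h
  obtain ⟨k, -, hk⟩ := hT E hEK (fun t ht hd => by
    rw [hE.card] at hd
    exact (Nat.prime_dvd_prime_iff_eq ht hr).mp (ht.dvd_of_dvd_pow hd) ▸ hrπ)
  refine ⟨E.map (MulAut.conj k).toMonoidHom, ?_, hE.map _ fun x _ hx => (MulAut.conj k).injective (by rw [map_one]; exact hx)⟩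
  rintro _ ⟨x, hx, rfl⟩
  exact hk x hx

end Cores

section Lucido

variable [Finite G]

/-- Lucido's three primes lemma. -/
theorem exists_commute_pair {G : Type u} [Group G] [Finite G] [Group.IsSolvable G] {σ : Finset ℕ}
    (h3 : 3 ≤ σ.card) (hσ : ∀ t ∈ σ, t.Prime ∧ t ∣ Nat.card G)
    (hπ : ∀ t : ℕ, t.Prime → t ∣ Nat.card G → t ∈ σ) :
    ∃ t ∈ σ, ∃ t' ∈ σ, t ≠ t' ∧ ∃ x y : G, x ^ t = 1 ∧ x ≠ 1 ∧ y ^ t' = 1 ∧ y ≠ 1 ∧ Commute x y := by
  classical
  obtain ⟨a, ha⟩ := Finset.card_pos.mp (by omega : 0 < σ.card)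
  have hnt : Nontrivial G := by
    haveI : Fact a.Prime := ⟨(hσ a ha).1⟩
    obtain ⟨x, hx⟩ := exists_prime_orderOf_dvd_card' a (hσ a ha).2
    exact ⟨x, 1, fun e => (hσ a ha).1.ne_one (by rw [← hx, e, orderOf_one])⟩
  obtain ⟨t, N, ht, hN, hNp, hN1⟩ := CfsgLib.Solvable.exists_normal_pgroup_ne_bot (G := G)
  haveI : Fact t.Prime := ⟨ht⟩
  obtain ⟨J, hJ⟩ := CfsgLib.Solvable.exists_isPiHall (G := G) {l | l ∈ σ ∧ l ≠ t}
  have hJd : ∀ l ∈ σ, l ≠ t → l ∣ Nat.card J := fun l hl hlt => by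
    have h2 := hJ.2 l (hσ l hl).1 ⟨hl, hlt⟩
    have h3 := (hσ l hl).2
    rw [← J.card_mul_index] at h3
    exact ((hσ l hl).1.dvd_mul.mp h3).resolve_right h2
  have hJ1 : J ≠ ⊥ := by
    intro e
    obtain ⟨l, hl, hlt⟩ := Finset.exists_mem_ne (by omega : 1 < σ.card) t
    have := hJd l hl hlt
    rw [e, card_bot] at this
    exact (hσ l hl).1.not_dvd_one this
  obtain ⟨t1, ht1, ht1d, hcore⟩ := exists_core hJ1
  obtain ⟨ht1σ, ht1t⟩ := hJ.1 t1 ht1 ht1d
  haveI : Fact t1.Prime := ⟨ht1⟩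
  set A := oz t1 (core t1 J) with hA
  have hA1 := oz_ne_bot (isPGroup_core t1 J) hcore
  obtain ⟨t2, ht2σ, ht2t, ht21⟩ : ∃ t2 ∈ σ, t2 ≠ t ∧ t2 ≠ t1 := by
    by_contra hno
    push Not at hno
    have hsub : σ ⊆ {t, t1} := fun l hl => by
      by_cases hlt : l = t
      · simp [hlt]
      · simp [hno l hl hlt]
    have h4 := (Finset.card_le_card hsub).trans Finset.card_le_two
    omega
  haveI : Fact t2.Prime := ⟨(hσ t2 ht2σ).1⟩
  obtain ⟨y, hy⟩ := exists_prime_orderOf_dvd_card' t2 (hJd t2 ht2σ ht2t)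
  have hyp : (y : G) ^ t2 = 1 := by
    rw [← SubmonoidClass.coe_pow, ← hy, pow_orderOf_eq_one]; rfl
  have hy1 : (y : G) ≠ 1 := fun e => (hσ t2 ht2σ).1.ne_one (by
    rw [← hy, show y = 1 from Subtype.ext e, orderOf_one])
  have htσ : t ∈ σ := by
    obtain ⟨k, hk⟩ := hNp.exists_card_eq
    refine hπ t ht ((dvd_pow_self t ?_).trans (hk ▸ card_subgroup_dvd_card N))
    rintro rfl
    exact hN1 (card_eq_one.mp (by rw [hk, pow_zero]))
  by_cases hm : Meet t N (y : G)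
  · obtain ⟨x, -, hx1, hxt, hc⟩ := hm
    exact ⟨t2, ht2σ, t, htσ, ht2t, y, x, hyp, hy1, hxt, hx1, hc⟩
  have hyA : (y : G) ∈ normalizer (A : Set G) := normalizer_le_oz _ _ (le_normalizer_core t1 J y.2)
  have hF := fpf_lemma (hσ t2 ht2σ).1 ht ht1 (Ne.symm ht2t) (Ne.symm ht21) (Ne.symm ht1t) hNp
    (isPGroup_oz t1 _) (oz_comm t1 _) hyp (le_normalizer_of_normal (mem_top _)) hyA
    le_normalizer_of_normal hm
  obtain ⟨a, ha, ha1⟩ := (bot_or_exists_ne_one A).resolve_left hA1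
  by_cases hc : (y : G) * a * (y : G)⁻¹ * a⁻¹ = 1
  · exact ⟨t2, ht2σ, t1, ht1σ, ht21, y, a, hyp, hy1, ha.2.2, ha1, commute_of_comm_eq hc⟩
  have hcA : (y : G) * a * (y : G)⁻¹ * a⁻¹ ∈ A := mul_mem (conj_mem hyA ha) (inv_mem ha)
  obtain ⟨m, hm', hm1⟩ := (bot_or_exists_ne_one N).resolve_left hN1
  obtain ⟨k, hk1, hk2⟩ := exists_pow_prime hNp hm' hm1
  exact ⟨t, htσ, t1, ht1σ, Ne.symm ht1t, m ^ k, _, hk2, hk1, hcA.2.2, hc,
    (show Commute (m ^ k) _ from mem_centralizer_iff.mp (hF a ha) _ (pow_mem hm' k))⟩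

theorem luc [Group.IsSolvable G] (h : NT G) {d a b c : ℕ} (hd : d.Prime) (ha : a.Prime) (hb : b.Prime)
    (hc : c.Prime) (hda : d ≠ a) (hdb : d ≠ b) (hdc : d ≠ c) (hab : a ≠ b) (hbc : b ≠ c) (hac : a ≠ c)
    {x : G} (hx : x ^ d = 1) (hx1 : x ≠ 1) {ya yb yc : G} (hya : ya ^ a = 1) (hya1 : ya ≠ 1)
    (hxa : Commute x ya) (hyb : yb ^ b = 1) (hyb1 : yb ≠ 1) (hxb : Commute x yb) (hyc : yc ^ c = 1)
    (hyc1 : yc ≠ 1) (hxc : Commute x yc) : False := by
  classical
  set D := centralizer ({x} : Set G)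
  obtain ⟨H, hH⟩ := CfsgLib.Solvable.exists_isPiHall (G := D) {l | l ∈ ({a, b, c} : Finset ℕ)}
  have hdvd : ∀ (t : ℕ) (y : G), t.Prime → t ∈ ({a, b, c} : Finset ℕ) → y ^ t = 1 → y ≠ 1 → Commute x y →
      t ∣ Nat.card H := by
    intro t y ht htσ hy hy1 hxy
    haveI : Fact t.Prime := ⟨ht⟩
    have h1 : t ∣ Nat.card D := by
      have := D.orderOf_dvd_natCard (x := y) (mem_centralizer_singleton_iff.mpr hxy.eq.symm)
      rwa [orderOf_eq_prime hy hy1] at this
    rw [← H.card_mul_index] at h1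
    exact (ht.dvd_mul.mp h1).resolve_right (hH.2 t ht htσ)
  have hσ : ∀ t ∈ ({a, b, c} : Finset ℕ), t.Prime ∧ t ∣ Nat.card H := by
    intro t ht
    rcases Finset.mem_insert.mp ht with rfl | ht'
    · exact ⟨ha, hdvd t ya ha ht hya hya1 hxa⟩
    rcases Finset.mem_insert.mp ht' with rfl | ht''
    · exact ⟨hb, hdvd t yb hb ht hyb hyb1 hxb⟩
    obtain rfl := Finset.mem_singleton.mp ht''
    exact ⟨hc, hdvd t yc hc ht hyc hyc1 hxc⟩
  obtain ⟨t, ht, t', ht', hne, u, v, hu, hu1, hv, hv1, huv⟩ := exists_commute_pair (G := H)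
    (σ := {a, b, c}) (by rw [Finset.card_insert_of_notMem (by simp [hab, hac]),
      Finset.card_insert_of_notMem (by simp [hbc]), Finset.card_singleton]) hσ hH.1
  have hdne : ∀ l ∈ ({a, b, c} : Finset ℕ), d ≠ l := by
    intro l hl
    simp only [Finset.mem_insert, Finset.mem_singleton] at hl
    rcases hl with rfl | rfl | rfl <;> assumption
  refine h.triple hd (hσ t ht).1 (hσ t' ht').1 (hdne t ht) hne (hdne t' ht') (x := x)
    (y := ((u : D) : G)) (z := ((v : D) : G)) hx hx1 (by simpa using congrArg (fun z : H => ((z : D) : G)) hu)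
    (fun e => hu1 (Subtype.ext (Subtype.ext e)))
    (by simpa using congrArg (fun z : H => ((z : D) : G)) hv)
    (fun e => hv1 (Subtype.ext (Subtype.ext e)))
    (mem_centralizer_singleton_iff.mp (u : D).2).symm ?_
    (mem_centralizer_singleton_iff.mp (v : D).2).symm
  exact congrArg (fun z : H => ((z : D) : G)) huv.eq

end Lucido

variable [Finite G] [Group.IsSolvable G]

/-- `E` centralizes a nontrivial element of order `t` of `M`. -/
def CE (t : ℕ) (M E : Subgroup G) : Prop := ∃ x ∈ M, x ≠ 1 ∧ x ^ t = 1 ∧ ∀ e ∈ E, Commute e x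

theorem CE.meet {t : ℕ} {M E : Subgroup G} (h : CE t M E) {w : G} (hw : w ∈ E) : Meet t M w := by
  obtain ⟨x, hx, hx1, hxt, hc⟩ := h
  exact ⟨x, hx, hx1, hxt, hc w hw⟩

/-- Two coprime modules meeting the same element. -/
theorem common (hnt : NT G) {a b s : ℕ} (ha : a.Prime) (hb : b.Prime) (hab : a ≠ b) (has : a ≠ s)
    (hbs : b ≠ s) {M1 M2 E : Subgroup G} (hE : El s E) (hM1 : IsPGroup a M1) (hM2 : IsPGroup b M2)
    (hE1 : E ≤ normalizer (M1 : Set G)) (hE2 : E ≤ normalizer (M2 : Set G))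
    (h21 : M2 ≤ normalizer (M1 : Set G)) {w : G} (hw : w ∈ E) (hw1 : w ≠ 1) (hm1 : Meet a M1 w)
    (hm2 : Meet b M2 w) : CE a M1 E ∨ CE b M2 E := by
  haveI : Fact a.Prime := ⟨ha⟩
  haveI : Fact b.Prime := ⟨hb⟩
  set Y := M2 ⊓ centralizer ({w} : Set G) with hY
  set N := M1 ⊓ centralizer ({w} : Set G) with hN
  have hY1 : Y ≠ ⊥ := by
    obtain ⟨x, hx, hx1, -, hwx⟩ := hm2
    exact fun e => hx1 (mem_bot.mp (e ▸ (⟨hx, mem_centralizer_singleton_iff.mpr hwx.eq.symm⟩ : x ∈ Y)))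
  set A := oz b Y with hA
  have hA1 := oz_ne_bot (hM2.to_le inf_le_left) hY1
  obtain ⟨w', hw', hw'w⟩ := hE.exists_not_mem w
  have hEc : ∀ y ∈ ({w} : Set G), Commute w' y := by
    rintro y rfl
    exact hE.comm w' hw' y hw
  by_cases hall : ∀ x ∈ A, Commute w' x
  · obtain ⟨x, hx, hx1⟩ := (bot_or_exists_ne_one A).resolve_left hA1
    exact Or.inr ⟨x, hx.1.1, hx1, hx.2.2, hE.commute_all hw hw'
      (mem_centralizer_singleton_iff.mp hx.1.2).symm (hall x hx) hw1 hw'w⟩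
  push Not at hall
  obtain ⟨x, hx, hxw⟩ := hall
  by_cases hm : Meet a N w'
  · obtain ⟨m, hm, hm1', hma, hwm⟩ := hm
    exact Or.inl ⟨m, hm.1, hm1', hma, hE.commute_all hw hw'
      (mem_centralizer_singleton_iff.mp hm.2).symm hwm hw1 hw'w⟩
  exfalso
  have hw'A : w' ∈ normalizer (A : Set G) :=
    normalizer_le_oz b Y (mem_normalizer_inf_centralizer (hE2 hw') hEc)
  have hAN : A ≤ normalizer (N : Set G) := fun y hy => by
    refine mem_normalizer_inf_centralizer (h21 hy.1.1) fun z hz => ?_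
    rw [Set.mem_singleton_iff.mp hz]
    exact mem_centralizer_singleton_iff.mp hy.1.2
  have hF := fpf_lemma hE.prime ha hb has hbs hab (hM1.to_le inf_le_left) (isPGroup_oz b Y) (oz_comm b Y)
    (hE.pow w' hw') (mem_normalizer_inf_centralizer (hE1 hw') hEc) hw'A hAN hm x hx
  obtain ⟨m, hm', hm1', hma, hwm⟩ := hm1
  have hcA : w' * x * w'⁻¹ * x⁻¹ ∈ A := mul_mem (conj_mem hw'A hx) (inv_mem hx)
  exact hnt.triple ha hb hE.prime hab hbs has hma hm1' hcA.2.2 (fun e => hxw (commute_of_comm_eq e))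
    (hE.pow w hw) hw1 (mem_centralizer_iff.mp hF m ⟨hm', mem_centralizer_singleton_iff.mpr hwm.eq.symm⟩)
    (mem_centralizer_singleton_iff.mp hcA.1.2) hwm.symm

/-- An element commuting with an element of order prime `t` of a group meets it. -/
theorem exists_triple_of_el (hnt : NT G) {p r d : ℕ} (hp : p.Prime) (hd : d.Prime) (hrp : r ≠ p)
    (hrd : r ≠ d) (hpd : p ≠ d) {A M : Subgroup G} (hA : El r A) (hM : IsPGroup p M) {x : G}
    (hxd : x ^ d = 1) (hx1 : x ≠ 1) (hxA : ∀ a ∈ A, Commute x a) (hAM : A ≤ normalizer (M : Set G))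
    (hm : Meet p M x) : False := by
  obtain ⟨m, hm, hm1, hmp, hxm⟩ := hm
  set N := M ⊓ centralizer ({x} : Set G)
  have hN1 : N ≠ ⊥ := fun e =>
    hm1 (mem_bot.mp (e ▸ (⟨hm, mem_centralizer_singleton_iff.mpr hxm.eq.symm⟩ : m ∈ N)))
  have hAN : A ≤ normalizer (N : Set G) := fun a ha =>
    mem_normalizer_inf_centralizer (hAM ha) fun y hy => by
      rw [Set.mem_singleton_iff.mp hy]; exact (hxA a ha).symm
  obtain ⟨a, ha, ha1, n, hn, hn1, hnp, han⟩ := hA.exists_meet hp hrp (hM.to_le inf_le_left) hN1 hAN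
  exact hnt.triple hA.prime hp hd hrp hpd hrd (hA.pow a ha) ha1 hnp hn1 hxd hx1 han
    (mem_centralizer_singleton_iff.mp hn.2) (hxA a ha).symm

/-- The case of two primes in the Fitting subgroup: centres of the cores. -/
theorem side (hnt : NT G) {p q r s : ℕ} (hp : p.Prime) (hq : q.Prime) (hr : r.Prime) (hpq : p ≠ q)
    (hpr : p ≠ r) (hps : p ≠ s) (hqr : q ≠ r) (hqs : q ≠ s) (hrs : r ≠ s) {P Q : Subgroup G}
    [P.Normal] [Q.Normal] (hP : IsPGroup p P) (hQ : IsPGroup q Q) (hP1 : P ≠ ⊥) (hQ1 : Q ≠ ⊥)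
    (hPQ : ∀ a ∈ P, ∀ b ∈ Q, Commute a b) {R : Subgroup G} (hR : IsPGroup r R) (hR1 : R ≠ ⊥)
    (hf : ∀ x ∈ R, x ∈ centralizer (P : Set G) → x ∈ centralizer (Q : Set G) → x = 1)
    {E : Subgroup G} (hE : El s E) (hER : E ≤ normalizer (R : Set G)) :
    ∃ u ∈ R, u ≠ 1 ∧ u ^ r = 1 ∧ oz r R = zpowers u ∧ (∀ w ∈ E, Commute w u) ∧
      ¬ Meet p P u ∧ ¬ Meet q Q u := by
  haveI : Fact r.Prime := ⟨hr⟩
  set Z := oz r R with hZ
  have hEZ : E ≤ normalizer (Z : Set G) := hER.trans (normalizer_le_oz r R)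
  have step1 : ∀ {p' q' : ℕ} (_ : p'.Prime) (_ : q'.Prime) (_ : p' ≠ q') (_ : p' ≠ r) (_ : p' ≠ s)
      (_ : q' ≠ r) (_ : q' ≠ s) (M M' : Subgroup G) (_ : M.Normal) (_ : M'.Normal) (_ : IsPGroup p' M)
      (_ : IsPGroup q' M') (_ : M ≠ ⊥) (_ : ∀ a ∈ M, ∀ b ∈ M', Commute a b)
      (_ : ∀ x ∈ Z, x ∈ centralizer (M : Set G) → x ∈ centralizer (M' : Set G) → x = 1),
      ∀ u ∈ Z, u ∈ centralizer (M : Set G) → u = 1 := by
    intro p' q' hp' hq' hpq' hpr' hps' hqr' hqs' M M' hMn hMn' hM hM' hM1 hMM hfZ u hu huM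
    by_contra hu1
    obtain ⟨w, hw, hw1, t, ht, ht1, htp, hwt⟩ := hE.exists_meet hp' (Ne.symm hps') hM hM1 le_normalizer_of_normal
    by_cases hfixed : ∃ a ∈ Z, a ∈ centralizer (M : Set G) ∧ a ≠ 1 ∧ Commute w a
    · obtain ⟨a, ha, haM, ha1, hwa⟩ := hfixed
      exact hnt.triple hr hp' hE.prime (Ne.symm hpr') hps' hrs ha.2.2 ha1 htp ht1 (hE.pow w hw) hw1
        (mem_centralizer_iff.mp haM t ht).symm hwt.symm hwa.symm
    push Not at hfixed
    have hA : Z ⊓ centralizer (M : Set G) ≤ normalizer (M' : Set G) := le_normalizer_of_normal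
    have hwA : w ∈ normalizer ((Z ⊓ centralizer (M : Set G) : Subgroup G) : Set G) :=
      inf_normalizer_le_normalizer_inf ⟨hEZ hw,
        (le_normalizer_of_normal : (⊤ : Subgroup G) ≤ normalizer (centralizer (M : Set G) : Set G)) (mem_top w)⟩
    by_cases hm : Meet q' M' w
    · obtain ⟨t', ht', ht'1, htq, hwt'⟩ := hm
      exact hnt.triple hp' hq' hE.prime hpq' hqs' hps' htp ht1 htq ht'1 (hE.pow w hw) hw1
        (hMM t ht t' ht') hwt'.symm hwt.symm
    have hF := fpf_lemma hE.prime hq' hr hqs' hrs hqr' hM' ((isPGroup_oz r R).to_le inf_le_left)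
      (fun a ha b hb => oz_comm r R a ha.1 b hb.1) (hE.pow w hw) (le_normalizer_of_normal (mem_top w)) hwA
      hA hm u ⟨hu, huM⟩
    have hc := mul_mem (conj_mem hwA (⟨hu, huM⟩ : u ∈ Z ⊓ centralizer (M : Set G)))
      (inv_mem (⟨hu, huM⟩ : u ∈ Z ⊓ centralizer (M : Set G)))
    exact hfixed u hu huM hu1 (commute_of_comm_eq (hfZ _ hc.1 hc.2 hF))
  have hfZ : ∀ x ∈ Z, x ∈ centralizer (P : Set G) → x ∈ centralizer (Q : Set G) → x = 1 :=
    fun x hx => hf x hx.1
  have hZP := step1 hp hq hpq hpr hps hqr hqs P Q inferInstance inferInstance hP hQ hP1 hPQ hfZ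
  have hZQ := step1 hq hp (Ne.symm hpq) hqr hqs hpr hps Q P inferInstance inferInstance hQ hP hQ1
    (fun a ha b hb => (hPQ b hb a ha).symm) (fun x hx h1 h2 => hfZ x hx h2 h1)
  have hcent : ∀ w ∈ E, ∀ a ∈ Z, Commute w a := by
    intro w hw a ha
    by_cases hw1 : w = 1
    · rw [hw1]; exact Commute.one_left a
    have hc : w * a * w⁻¹ * a⁻¹ ∈ Z := mul_mem (conj_mem (hEZ hw) ha) (inv_mem ha)
    refine commute_of_comm_eq ?_
    by_cases hm : Meet p P w
    · by_cases hm' : Meet q Q w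
      · obtain ⟨t, ht, ht1, htp, hwt⟩ := hm
        obtain ⟨t', ht', ht'1, htq, hwt'⟩ := hm'
        exact (hnt.triple hp hq hE.prime hpq hqs hps htp ht1 htq ht'1 (hE.pow w hw) hw1
          (hPQ t ht t' ht') hwt'.symm hwt.symm).elim
      exact hZQ _ hc (fpf_lemma hE.prime hq hr hqs hrs hqr hQ (isPGroup_oz r R) (oz_comm r R)
        (hE.pow w hw) (le_normalizer_of_normal (mem_top w)) (hEZ hw) le_normalizer_of_normal hm' a ha)
    exact hZP _ hc (fpf_lemma hE.prime hp hr hps hrs hpr hP (isPGroup_oz r R) (oz_comm r R)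
      (hE.pow w hw) (le_normalizer_of_normal (mem_top w)) (hEZ hw) le_normalizer_of_normal hm a ha)
  obtain ⟨u, hu, hu1⟩ := (bot_or_exists_ne_one Z).resolve_left (oz_ne_bot hR hR1)
  have hfpf : ∀ a ∈ Z, a ≠ 1 → ¬ Meet p P a ∧ ¬ Meet q Q a := fun a ha ha1 =>
    ⟨fun hm => exists_triple_of_el hnt hp hr (Ne.symm hps) (Ne.symm hrs) hpr hE hP ha.2.2 ha1
      (fun w hw => (hcent w hw a ha).symm) le_normalizer_of_normal hm,
    fun hm => exists_triple_of_el hnt hq hr (Ne.symm hqs) (Ne.symm hrs) hqr hE hQ ha.2.2 ha1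
      (fun w hw => (hcent w hw a ha).symm) le_normalizer_of_normal hm⟩
  refine ⟨u, hu.1, hu1, hu.2.2, le_antisymm (fun a ha => ?_) (zpowers_le.mpr hu),
    fun w hw => hcent w hw u hu, hfpf u hu hu1⟩
  by_contra hau
  obtain ⟨A, hAZ, hA, -, -, -⟩ := exists_el hr hu.2.2 hu1 ha.2.2 (hu.2.1 a ha.1) hau (L := Z) hu ha
  obtain ⟨x, hx, hx1, hxm⟩ := hA.exists_meet hp (Ne.symm hpr) hP hP1 le_normalizer_of_normal
  exact (hfpf x (hAZ hx) hx1).1 hxm

theorem isPiSet_zpowers {π : Set ℕ} {t : ℕ} {x : G} (hx : x ^ t = 1) (ht : t.Prime) (htπ : t ∈ π) :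
    ∀ l : ℕ, l.Prime → l ∣ Nat.card (zpowers x) → l ∈ π := by
  intro l hl hd
  rw [Nat.card_zpowers] at hd
  exact (Nat.prime_dvd_prime_iff_eq hl ht).mp (hd.trans (orderOf_dvd_of_pow_eq_one hx)) ▸ htπ

theorem isPiSet_pGroup {π : Set ℕ} {t : ℕ} {M : Subgroup G} (hM : IsPGroup t M) (ht : t.Prime)
    (htπ : t ∈ π) : ∀ l : ℕ, l.Prime → l ∣ Nat.card M → l ∈ π := by
  intro l hl hd
  haveI : Fact t.Prime := ⟨ht⟩
  exact CfsgLib.Solvable.isPGroup_prime_eq hM hl hd ▸ htπ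

theorem isPGroup_of_pi {t : ℕ} (ht : t.Prime) {M : Subgroup G}
    (h : ∀ l : ℕ, l.Prime → l ∣ Nat.card M → l ∈ ({t} : Set ℕ)) : IsPGroup t M := by
  haveI : Fact t.Prime := ⟨ht⟩
  exact CfsgLib.CN.isPGroup_of_forall fun l hl y hy ho =>
    h l hl (by rw [← ho]; exact Subgroup.orderOf_dvd_natCard M hy)

theorem coprime_of_pi {A B : Subgroup G}
    (h : ∀ l : ℕ, l.Prime → l ∣ Nat.card A → ¬ l ∣ Nat.card B) : (Nat.card A).Coprime (Nat.card B) :=
  Nat.coprime_of_dvd fun l hl h1 h2 => h l hl h1 h2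

/-- The case of two primes in the Fitting subgroup. -/
theorem caseI_aux (hnt : NT G) {p q r s : ℕ} (hp : p.Prime) (hq : q.Prime) (hr : r.Prime) (hs : s.Prime)
    (hpq : p ≠ q) (hpr : p ≠ r) (hps : p ≠ s) (hqr : q ≠ r) (hqs : q ≠ s) (hrs : r ≠ s)
    {P Q : Subgroup G} [P.Normal] [Q.Normal] (hP : IsPGroup p P) (hQ : IsPGroup q Q) (hP1 : P ≠ ⊥)
    (hQ1 : Q ≠ ⊥) (hPQ : ∀ a ∈ P, ∀ b ∈ Q, Commute a b) {T : Subgroup G}
    (hT : ∀ t : ℕ, t.Prime → t ∣ Nat.card T → t = r ∨ t = s)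
    (hf : ∀ x ∈ T, x ∈ centralizer (P : Set G) → x ∈ centralizer (Q : Set G) → x = 1)
    (hEr : Rk r T) (hEs : Rk s T) (hR1 : core r T ≠ ⊥) (hord : core s T = ⊥ ∨ r < s) : False := by
  haveI : Fact r.Prime := ⟨hr⟩
  haveI : Fact s.Prime := ⟨hs⟩
  obtain ⟨E, hET, hE⟩ := hEs
  set R := core r T with hR
  obtain ⟨u, huR, hu1, hur, hZ, -, huP, huQ⟩ := side hnt hp hq hr hpq hpr hps hqr hqs hrs hP hQ hP1 hQ1
    hPQ (isPGroup_core r T) hR1 (fun x hx => hf x (core_le r T hx)) hE (hET.trans (le_normalizer_core r T))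
  obtain ⟨X, hXT, hRX, hXπ, hXdom⟩ := exists_hall_in T {r} R (core_le r T)
    (isPiSet_pGroup (isPGroup_core r T) hr rfl)
  have hX : IsPGroup r X := isPGroup_of_pi hr hXπ
  have hucent : ∀ x ∈ X, Commute u x := commute_of_normal_prime hr hX (hRX huR) hur
    ((hXT.trans (le_normalizer_core r T)).trans (hZ ▸ normalizer_le_oz r R))
  obtain ⟨A, hAX, hA⟩ := rk_hall (π := ({r} : Set ℕ)) hr rfl hXdom hEr
  obtain ⟨c, hcA, hcu⟩ := hA.exists_not_mem u
  have huZ : u ∈ oz r X := ⟨hRX huR, hucent, hur⟩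
  have htrans : ∀ {t : ℕ} (_ : t.Prime) (_ : p ≠ t) (_ : q ≠ t) (Y : Subgroup G) (_ : IsPGroup t Y) (u c : G),
      oz t Y ≤ zpowers u → u ∈ oz t Y → c ∈ Y → c ^ t = 1 → c ∉ zpowers u → ¬ Meet p P u →
      ¬ Meet q Q u → False := by
    intro t ht hpt hqt Y hY u c hZle huZ hcY hct hcu huP huQ
    obtain ⟨c', v, u', hc'Y, hc'r, hc'u, hv, hu'm, hu', hvc⟩ := exists_translation ht hY hZle huZ hcY hct hcu
    obtain ⟨m, hm, hm1, hmp, hcm⟩ := meet_translation ht hp (Ne.symm hpt) hP hP1 huZ.2.2 hu'm hu' hc'r hc'u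
      (huZ.2.1 c' hc'Y) (huZ.2.1 v hv).symm hvc (le_normalizer_of_normal (mem_top u))
      (le_normalizer_of_normal (mem_top c')) (le_normalizer_of_normal (mem_top v)) huP
    obtain ⟨m', hm', hm'1, hmq, hcm'⟩ := meet_translation ht hq (Ne.symm hqt) hQ hQ1 huZ.2.2 hu'm hu' hc'r
      hc'u (huZ.2.1 c' hc'Y) (huZ.2.1 v hv).symm hvc (le_normalizer_of_normal (mem_top u))
      (le_normalizer_of_normal (mem_top c')) (le_normalizer_of_normal (mem_top v)) huQ
    exact hnt.triple hp hq ht hpq hqt hpt hmp hm1 hmq hm'1 hc'r (fun e => hc'u (e ▸ one_mem _))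
      (hPQ m hm m' hm') hcm'.symm hcm.symm
  by_cases hle : oz r X ≤ zpowers u
  · exact htrans hr hpr hqr X hX u c hle huZ (hAX hcA) (hA.pow c hcA) hcu huP huQ
  obtain ⟨c2, hc2, hc2u⟩ := SetLike.not_le_iff_exists.mp hle
  have hc2R : ∀ y ∈ R, Commute c2 y := fun y hy => hc2.2.1 y (hRX hy)
  have hnotR : c2 ∉ R := fun h => hc2u (hZ ▸ (⟨h, hc2R, hc2.2.2⟩ : c2 ∈ oz r R))
  have hcores : (∀ y ∈ core s T, Commute c2 y) → False := by
    intro hS0
    refine hnotR (mem_core (hXT hc2.1) hc2.2.2 fun t ht y hy => ?_)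
    by_cases hd : t ∣ Nat.card T
    · rcases hT t ht hd with rfl | rfl
      · exact hc2R y hy
      · exact hS0 y hy
    · rw [core_eq_bot_of_not_dvd ht hd, mem_bot] at hy
      rw [hy]; exact Commute.one_right c2
  rcases hord with hS | hlt
  · exact hcores fun y hy => by rw [hS, mem_bot] at hy; rw [hy]; exact Commute.one_right c2
  by_cases hS : core s T = ⊥
  · exact hcores fun y hy => by rw [hS, mem_bot] at hy; rw [hy]; exact Commute.one_right c2
  set S0 := core s T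
  obtain ⟨B, hBX, hB, -, hc2B, -⟩ := exists_el hr hur hu1 hc2.2.2 (hucent c2 hc2.1) hc2u (L := X)
    (hRX huR) hc2.1
  obtain ⟨us, husS, hus1, huss, hZs, hcs, husP, husQ⟩ := side hnt hp hq hs hpq hps hpr hqs hqr (Ne.symm hrs)
    hP hQ hP1 hQ1 hPQ (isPGroup_core s T) hS (fun x hx => hf x (core_le s T hx)) hB
    ((hBX.trans hXT).trans (le_normalizer_core s T))
  have husZ : us ∈ oz s S0 := hZs ▸ mem_zpowers us
  have huniq : ∀ x ∈ S0, x ^ s = 1 → x ∈ zpowers us := by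
    intro x hx hxs
    by_contra hxu
    exact htrans hs hps hqs S0 (isPGroup_core s T) us x hZs.le husZ hx hxs hxu husP husQ
  have hs2 : s ≠ 2 := by have := hr.two_le; omega
  haveI : IsCyclic S0 := by
    refine CfsgLib.PGroup.isCyclic_of_unique_order_prime hs2 (isPGroup_core s T) fun x y hx hx1 hy => ?_
    have h1 := huniq y y.2 (by rw [← SubmonoidClass.coe_pow, hy]; rfl)
    have h2 := huniq x x.2 (by rw [← SubmonoidClass.coe_pow, hx]; rfl)
    obtain ⟨k, hk⟩ := mem_zpowers_iff.mp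
      ((zpowers_le.mpr (mem_zpowers_symm hs huss h2 fun e => hx1 (Subtype.ext e))) h1)
    exact mem_zpowers_iff.mpr ⟨k, Subtype.ext (by simpa using hk)⟩
  haveI : IsMulCommutative S0 := inferInstance
  have hcS : zpowers c2 ≤ centralizer (S0 : Set G) := by
    refine CfsgLib.Solvable.le_centralizer_of_fix_prime_order
      (zpowers_le.mpr (le_normalizer_core s T (hXT hc2.1)))
      (coprime_card hr hs hrs (isPGroup_zpowers hc2.2.2) (isPGroup_core s T)) fun v hv hvp a ha => ?_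
    have hvs : v ^ s = 1 := by
      have hd := Subgroup.orderOf_dvd_natCard S0 hv
      rw [← CfsgLib.Solvable.isPGroup_prime_eq (isPGroup_core s T) hvp hd]
      exact pow_orderOf_eq_one v
    obtain ⟨j, rfl⟩ := mem_zpowers_iff.mp ha
    obtain ⟨k, rfl⟩ := mem_zpowers_iff.mp (huniq v hv hvs)
    exact ((hcs c2 hc2B).zpow_zpow j k).eq
  exact hcores fun y hy => (mem_centralizer_iff.mp (hcS (mem_zpowers c2)) y hy).symm

theorem mem_zpowers_two {z x : G} (hz : z ^ 2 = 1) (hx : x ∈ zpowers z) : x = 1 ∨ x = z := by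
  obtain ⟨k, rfl⟩ := mem_zpowers_iff.mp hx
  rcases Int.even_or_odd' k with ⟨m, rfl | rfl⟩
  · left; rw [zpow_mul, zpow_ofNat, hz, one_zpow]
  · right; rw [zpow_add, zpow_mul, zpow_ofNat, hz, one_zpow, one_mul, zpow_one]

theorem ne_two_of_moved {E : Subgroup G} {z : G} {q : ℕ} (hzq : z ^ q = 1)
    (hn : E ≤ normalizer (zpowers z : Set G)) (hmove : ∃ w ∈ E, ¬ Commute w z) : q ≠ 2 := by
  rintro rfl
  obtain ⟨w, hw, hwz⟩ := hmove
  rcases mem_zpowers_two hzq (conj_mem (hn hw) (mem_zpowers z)) with h | h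
  · exact hwz (by
      have : z = 1 := by rwa [mul_inv_eq_one, mul_eq_left] at h
      rw [this]; exact Commute.one_right w)
  · exact hwz (mul_inv_eq_iff_eq_mul.mp h)

/-- A class two product of two elements of order an odd prime. -/
theorem mul_pow_odd {r : ℕ} (hr : r.Prime) (hr2 : r ≠ 2) {x y c : G} (hx : x ^ r = 1) (hy : y ^ r = 1)
    (hc : y * x = x * y * c) (hcx : Commute c x) (hcy : Commute c y) (hcr : c ^ r = 1) :
    (x * y) ^ r = 1 := by
  have h1 : ∀ n : ℕ, y ^ n * x = x * y ^ n * c ^ n := by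
    intro n
    induction n with
    | zero => simp
    | succ n ih =>
      calc y ^ (n + 1) * x = y ^ n * (y * x) := by rw [pow_succ, mul_assoc]
        _ = y ^ n * x * y * c := by rw [hc]; group
        _ = x * y ^ n * c ^ n * y * c := by rw [ih]
        _ = x * (y ^ n * y) * (c ^ n * c) := by
          rw [mul_assoc (x * y ^ n), (hcy.pow_left n).eq]; group
        _ = x * y ^ (n + 1) * c ^ (n + 1) := by rw [← pow_succ, ← pow_succ]
  have h2 : ∀ n : ℕ, (x * y) ^ n = x ^ n * y ^ n * c ^ n.choose 2 := by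
    intro n
    induction n with
    | zero => simp
    | succ n ih =>
      calc (x * y) ^ (n + 1) = x ^ n * y ^ n * (c ^ n.choose 2 * (x * y)) := by
            rw [pow_succ, ih]; group
        _ = x ^ n * (y ^ n * x) * y * c ^ n.choose 2 := by
            rw [((hcx.mul_right hcy).pow_left _).eq]; group
        _ = x ^ n * x * y ^ n * (c ^ n * y) * c ^ n.choose 2 := by rw [h1]; group
        _ = x ^ (n + 1) * y ^ (n + 1) * (c ^ n * c ^ n.choose 2) := by
            rw [(hcy.pow_left n).eq, pow_succ, pow_succ]; group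
        _ = x ^ (n + 1) * y ^ (n + 1) * c ^ (n + 1).choose 2 := by
            rw [← pow_add, Nat.choose_succ_succ', Nat.choose_one_right]
  obtain ⟨d, hd⟩ := hr.dvd_choose_self (by norm_num : (2 : ℕ) ≠ 0) (by have := hr.two_le; omega)
  rw [h2, hx, hy, hd, pow_mul, hcr, one_pow, one_mul, one_mul]

/-- The elements of order dividing `r` in the second centre relative to `y`. -/
def omegaTwo {r : ℕ} (hr : r.Prime) (hr2 : r ≠ 2) (R : Subgroup G) {y : G} (hy : y ∈ oz r R) :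
    Subgroup G where
  carrier := {x | x ∈ R ∧ x ^ r = 1 ∧ ∀ g ∈ R, g * x * g⁻¹ * x⁻¹ ∈ zpowers y}
  one_mem' := ⟨one_mem _, one_pow r, fun g _ => by simp⟩
  mul_mem' := fun {a b} ha hb => by
    have hcen : ∀ c ∈ zpowers y, ∀ g ∈ R, Commute c g ∧ c ^ r = 1 := by
      intro c hc g hg
      have hc' : c ∈ oz r R := zpowers_le.mpr hy hc
      exact ⟨hc'.2.1 g hg, hc'.2.2⟩
    refine ⟨mul_mem ha.1 hb.1, ?_, fun g hg => ?_⟩
    · set c := b⁻¹ * a⁻¹ * b * a with hc
      have hcm : c ∈ zpowers y := by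
        have h := ha.2.2 _ (mul_mem (inv_mem hb.1) (inv_mem ha.1))
        have e : b⁻¹ * a⁻¹ * a * (b⁻¹ * a⁻¹)⁻¹ * a⁻¹ = (b⁻¹ * a * b * a⁻¹) := by group
        rw [e] at h
        have h' := inv_mem h
        have e' : (b⁻¹ * a * b * a⁻¹)⁻¹ = a * b⁻¹ * a⁻¹ * b := by group
        rw [e'] at h'
        have hcc := (hcen _ h' a⁻¹ (inv_mem ha.1)).1
        have : c = a⁻¹ * (a * b⁻¹ * a⁻¹ * b) * a := by rw [hc]; group
        rw [this, ← hcc.eq, inv_mul_cancel_right]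
        exact h'
      exact mul_pow_odd hr hr2 ha.2.1 hb.2.1 (by rw [hc]; group) (hcen c hcm a ha.1).1
        (hcen c hcm b hb.1).1 (hcen c hcm a ha.1).2
    · rw [show g * (a * b) * g⁻¹ * (a * b)⁻¹ = (g * a * g⁻¹ * a⁻¹) * (a * (g * b * g⁻¹ * b⁻¹) * a⁻¹) by group]
      refine mul_mem (ha.2.2 g hg) ?_
      rw [← (hcen _ (hb.2.2 g hg) a ha.1).1.eq, mul_inv_cancel_right]
      exact hb.2.2 g hg
  inv_mem' := fun {a} ha => by
    refine ⟨inv_mem ha.1, by rw [inv_pow, ha.2.1, inv_one], fun g hg => ?_⟩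
    have hc := inv_mem (ha.2.2 g hg)
    have hcen : Commute (g * a * g⁻¹ * a⁻¹)⁻¹ a := (zpowers_le.mpr hy hc : _ ∈ oz r R).2.1 a ha.1
    have e : g * a⁻¹ * g⁻¹ * a⁻¹⁻¹ = a⁻¹ * (g * a * g⁻¹ * a⁻¹)⁻¹ * a := by group
    rw [e, mul_assoc, hcen.eq, inv_mul_cancel_left]
    exact hc

theorem exists_omegaTwo {r : ℕ} (hr : r.Prime) (hr2 : r ≠ 2) {R : Subgroup G} (hR : IsPGroup r R)
    (hnc : ¬ IsCyclic R) {y : G} (hy : y ∈ oz r R) :
    ∃ x ∈ omegaTwo hr hr2 R hy, x ∉ zpowers y := by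
  haveI : Fact r.Prime := ⟨hr⟩
  obtain ⟨T0, hT0n, hT0, hT0card⟩ := CfsgLib.RankOne.ConstStab.exists_normal_exponent_prime hr2 hR hnc
  set U0 := zpowers (⟨y, hy.1⟩ : R) with hU0
  haveI : U0.Normal := by
    refine ⟨fun x hx g => ?_⟩
    obtain ⟨k, rfl⟩ := mem_zpowers_iff.mp hx
    rw [show g * (⟨y, hy.1⟩ : R) ^ k * g⁻¹ = (⟨y, hy.1⟩ : R) ^ k from by
      have hc : Commute (⟨y, hy.1⟩ : R) g := Subtype.ext (hy.2.1 g g.2).eq
      rw [← (hc.zpow_left k).eq, mul_inv_cancel_right]]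
    exact zpow_mem (mem_zpowers _) k
  haveI := hT0n
  haveI : (T0.map (QuotientGroup.mk' U0)).Normal := hT0n.map _ (QuotientGroup.mk'_surjective U0)
  have hne : T0.map (QuotientGroup.mk' U0) ≠ ⊥ := by
    intro e
    rw [Subgroup.map_eq_bot_iff, QuotientGroup.ker_mk'] at e
    have h2 : Nat.card U0 ≤ r := by
      rw [hU0, Nat.card_zpowers]
      exact Nat.le_of_dvd hr.pos (orderOf_dvd_of_pow_eq_one (Subtype.ext hy.2.2))
    exact absurd ((card_le_of_le e).trans h2) (not_le.mpr hT0card)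
  obtain ⟨z, ⟨⟨x, hx, rfl⟩, hzc⟩, hz1⟩ :=
    CfsgLib.Solvable.exists_ne_one_mem_inf_center_of_normal (hR.to_quotient U0) hne
  refine ⟨x, ⟨x.2, congrArg Subtype.val (hT0 x hx), fun g hg => ?_⟩, fun hxy => hz1 ?_⟩
  · have h := mem_center_iff.mp hzc (QuotientGroup.mk' U0 ⟨g, hg⟩)
    have h2 : (⟨g, hg⟩ : R) * x * (⟨g, hg⟩ : R)⁻¹ * x⁻¹ ∈ U0 := by
      rw [← QuotientGroup.eq_one_iff]
      show QuotientGroup.mk' U0 _ = 1
      rw [map_mul, map_mul, map_mul, map_inv, map_inv, h, mul_inv_cancel_right, mul_inv_cancel]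
    obtain ⟨k, hk⟩ := mem_zpowers_iff.mp h2
    exact mem_zpowers_iff.mpr ⟨k, congrArg Subtype.val hk⟩
  · refine (QuotientGroup.eq_one_iff x).mpr ?_
    obtain ⟨k, hk⟩ := mem_zpowers_iff.mp hxy
    exact mem_zpowers_iff.mpr ⟨k, Subtype.ext hk⟩

/-- The Frattini step for a composite fixed-point-free element. -/
theorem frattini_step {p q r s : ℕ} (hp : p.Prime) (hq : q.Prime) (hr : r.Prime) (hs : s.Prime)
    (hpq : p ≠ q) (hpr : p ≠ r) (hps : p ≠ s) (hqs : q ≠ s) {P A : Subgroup G} [P.Normal]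
    (hP : IsPGroup p P) (hA : IsPGroup r A) (hAc : ∀ a ∈ A, ∀ b ∈ A, a * b = b * a)
    (hfA : ∀ a ∈ A, a ∈ centralizer (P : Set G) → a = 1) {u b : G} (hu : u ^ q = 1) (hb : b ^ s = 1)
    (hub : Commute u b) (huA : u ∈ normalizer (A : Set G)) (hbA : b ∈ normalizer (A : Set G))
    (hufix : ∀ a ∈ A, Commute u a → a = 1) (hbfix : ∀ a ∈ A, Commute b a → a = 1)
    (hfix : ∀ v ∈ P, Commute u v → Commute b v → v = 1) : A = ⊥ := by
  haveI : Fact p.Prime := ⟨hp⟩
  set Φ := (frattini P).map P.subtype with hΦ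
  haveI : Φ.Normal := CfsgLib.Solvable.normal_map_subtype_of_characteristic P (frattini P)
  have hΦP : Φ ≤ P := map_subtype_le _
  set π := QuotientGroup.mk' Φ
  set V := P.map π with hV
  have hVc : ∀ a ∈ V, ∀ c ∈ V, a * c = c * a := by
    rintro _ ⟨a, ha, rfl⟩ _ ⟨c, hc, rfl⟩
    rw [← commutatorElement_eq_one_iff_mul_comm, ← map_commutatorElement, QuotientGroup.mk'_apply,
      QuotientGroup.eq_one_iff]
    haveI := hP.isNilpotent
    have hcomm : commutator P ≤ frattini P := by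
      refine le_iInf₂ fun M hM => ?_
      have hMn := NormalizerCondition.normal_of_coatom M Group.normalizerCondition_of_isNilpotent hM
      haveI := hMn
      obtain ⟨k, hk⟩ := hP.index M
      haveI : Fact (Nat.card (P ⧸ M)).Prime := ⟨by
        rw [← index_eq_card]
        have hsimple : ∀ L : Subgroup (P ⧸ M), L = ⊥ ∨ L = ⊤ := by
          intro L
          have hle : M ≤ L.comap (QuotientGroup.mk' M) := fun m hm => by
            rw [mem_comap, QuotientGroup.mk'_apply, (QuotientGroup.eq_one_iff m).2 hm]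
            exact one_mem L
          rcases hle.eq_or_lt with heq | hlt
          · left
            rw [eq_bot_iff]
            intro x hx
            induction x using QuotientGroup.induction_on with
            | H g => exact mem_bot.2 ((QuotientGroup.eq_one_iff g).2 (heq.symm.le hx))
          · right
            apply comap_injective (QuotientGroup.mk'_surjective M)
            rw [hM.2 _ hlt, comap_top]
        have hk0 : k ≠ 0 := fun e => hM.1 (index_eq_one.mp (by rw [hk, e, pow_zero]))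
        have hd : p ∣ Nat.card (P ⧸ M) := by rw [← index_eq_card, hk]; exact dvd_pow_self p hk0
        obtain ⟨x, hx⟩ := exists_prime_orderOf_dvd_card' p hd
        rcases hsimple (zpowers x) with h | h
        · rw [zpowers_eq_bot.mp h, orderOf_one] at hx; exact absurd hx.symm hp.ne_one
        · rw [index_eq_card, ← card_top (G := P ⧸ M), ← h, Nat.card_zpowers, hx]; exact hp⟩
      haveI : IsCyclic (P ⧸ M) := isCyclic_of_prime_card rfl
      rw [_root_.commutator_def]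
      refine commutator_le.2 fun g _ k _ => (QuotientGroup.eq_one_iff _).1 ?_
      rw [← QuotientGroup.mk'_apply M ⁅g, k⁆, map_commutatorElement, commutatorElement_eq_one_iff_mul_comm]
      letI := IsCyclic.commGroup (α := P ⧸ M)
      exact mul_comm _ _
    exact ⟨⁅⟨a, ha⟩, ⟨c, hc⟩⁆, hcomm (commutator_mem_commutator (mem_top _) (mem_top _)), rfl⟩
  have htriv : ∀ a ∈ A, π a ∈ centralizer (V : Set (G ⧸ Φ)) → a = 1 := by
    intro a ha hac
    refine hfA a ha ?_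
    refine CfsgLib.Solvable.le_centralizer_of_trivial_on_frattini_quotient (A := zpowers a)
      ((coprime_card hr hp (Ne.symm hpr) (hA.to_le (zpowers_le.mpr ha)) hP).coprime_dvd_right
        (card_subgroup_dvd_card _)) (fun c hc k hk => ?_) (mem_zpowers a)
    obtain ⟨j, rfl⟩ := mem_zpowers_iff.mp hc
    rw [← hΦ, ← QuotientGroup.eq_one_iff]
    show π (a ^ j * k * (a ^ j)⁻¹ * k⁻¹) = 1
    have h1 : Commute (π a) (π k) := (mem_centralizer_iff.mp hac _ (mem_map_of_mem π hk)).symm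
    rw [map_mul, map_mul, map_mul, map_inv, map_inv, map_zpow, (h1.zpow_left j).eq, mul_inv_cancel_right,
      mul_inv_cancel]
  set g := u * b with hg
  have hgn : g ^ (q * s) = 1 := by
    rw [hg, hub.mul_pow, pow_mul, hu, one_pow, one_mul, mul_comm q, pow_mul, hb, one_pow]
  have hcommu : ∀ {x : G}, Commute g x → Commute u x ∧ Commute b x := by
    intro x hx
    have h1 : Commute (u ^ s) x := by
      have := hx.pow_left s
      rwa [hg, hub.mul_pow, hb, mul_one] at this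
    obtain ⟨k, hk⟩ := exists_pow_eq_self_of_coprime (x := u) (n := s)
      (((Nat.coprime_primes hq hs).mpr hqs).symm.coprime_dvd_right (orderOf_dvd_of_pow_eq_one hu))
    have h2 : Commute u x := hk ▸ h1.pow_left k
    refine ⟨h2, ?_⟩
    have := h2.inv_left.mul_left hx
    rwa [hg, inv_mul_cancel_left] at this
  have hfixV : ∀ v ∈ V, Commute (π g) v → v = 1 := by
    rintro _ ⟨x, hx, rfl⟩ hc
    have hcopg : (Nat.card (zpowers g)).Coprime (Nat.card P) := by
      refine Nat.Coprime.coprime_dvd_left (k := q * s) ?_ (Nat.Coprime.mul_left ?_ ?_)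
      · rw [Nat.card_zpowers]; exact orderOf_dvd_of_pow_eq_one hgn
      all_goals
        obtain ⟨k, hk⟩ := hP.exists_card_eq
        rw [hk]
        refine Nat.Coprime.pow_right k ?_
      · exact (Nat.coprime_primes hq hp).mpr (Ne.symm hpq)
      · exact (Nat.coprime_primes hs hp).mpr (Ne.symm hps)
    obtain ⟨c, hc', hcx⟩ := CfsgLib.Solvable.exists_fixed_of_fixed_mod (A := zpowers g) (K := P) (N := Φ)
      le_normalizer_of_normal hcopg (Or.inl (Group.isSolvable_of_comm fun a b => mul_comm' a b)) hΦP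
      le_normalizer_of_normal le_normalizer_of_normal hx fun a ha => by
        obtain ⟨j, rfl⟩ := mem_zpowers_iff.mp ha
        rw [← QuotientGroup.eq_one_iff]
        show π (g ^ j * x * (g ^ j)⁻¹ * x⁻¹) = 1
        rw [map_mul, map_mul, map_mul, map_inv, map_inv, map_zpow, (hc.zpow_left j).eq,
          mul_inv_cancel_right, mul_inv_cancel]
    obtain ⟨h1, h2⟩ := hcommu (mem_centralizer_iff.mp hc'.2 g (mem_zpowers g))
    rw [hfix c hc'.1 h1 h2, mul_one] at hcx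
    exact (QuotientGroup.eq_one_iff x).mpr (inv_mem_iff.mp hcx)
  have hgA : g ∈ normalizer (A : Set G) := mul_mem huA hbA
  have hres := fpf_abelian (V := V) (A := A.map π) hVc
    ((((coprime_card hr hp (Ne.symm hpr) hA hP).coprime_dvd_left (card_map_dvd _ _)).coprime_dvd_right
      (card_map_dvd _ _)))
    ((map_mono le_normalizer_of_normal).trans (le_normalizer_map π))
    (by
      rintro _ ⟨a, ha, rfl⟩ _ ⟨c, hc, rfl⟩
      rw [← map_mul, hAc a ha c hc, map_mul, mul_inv_cancel_right, mul_inv_cancel]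
      exact one_mem _)
    (g := π g) (n := q * s) (Nat.mul_pos hq.pos hs.pos) (by rw [← map_pow, hgn, map_one])
    (le_normalizer_map π (mem_map_of_mem π (le_normalizer_of_normal (mem_top g))))
    (le_normalizer_map π (mem_map_of_mem π hgA)) hfixV
    (by
      rintro i hi0 hin _ ⟨a, ha, rfl⟩ hc
      rw [← map_pow, ← map_mul, ← map_inv, ← map_mul, ← map_inv, ← map_mul] at hc
      have hm : g ^ i * a * (g ^ i)⁻¹ * a⁻¹ ∈ A :=
        mul_mem (conj_mem (pow_mem hgA i) ha) (inv_mem ha)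
      have h1 : Commute (g ^ i) a := commute_of_comm_eq (htriv _ hm hc)
      have ha1 : a = 1 := by
        by_cases hsi : s ∣ i
        · have hqi : ¬ q ∣ i := fun hd => by
            have := Nat.Coprime.mul_dvd_of_dvd_of_dvd ((Nat.coprime_primes hq hs).mpr hqs) hd hsi
            have := Nat.le_of_dvd hi0 this
            omega
          refine hufix a ha ?_
          obtain ⟨j, hj⟩ := hsi
          have h2 : Commute (u ^ i) a := by
            rwa [hg, hub.mul_pow, hj, pow_mul b, hb, one_pow, mul_one, ← hj] at h1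
          obtain ⟨k, hk⟩ := exists_pow_eq_self_of_coprime (x := u) (n := i)
            ((hq.coprime_iff_not_dvd.mpr hqi).symm.coprime_dvd_right (orderOf_dvd_of_pow_eq_one hu))
          exact hk ▸ h2.pow_left k
        · refine hbfix a ha ?_
          have h2 : Commute (b ^ (i * q)) a := by
            have := h1.pow_left q
            rwa [hg, hub.mul_pow, (hub.pow_pow i i).mul_pow, ← pow_mul, ← pow_mul, mul_comm i q, pow_mul u, hu,
              one_pow, one_mul, mul_comm q i] at this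
          obtain ⟨k, hk⟩ := exists_pow_eq_self_of_coprime (x := b) (n := i * q)
            (((hs.coprime_iff_not_dvd.mpr hsi).symm.mul_left ((Nat.coprime_primes hq hs).mpr hqs)).coprime_dvd_right
              (orderOf_dvd_of_pow_eq_one hb))
          exact hk ▸ h2.pow_left k
      rw [ha1]
      simp)
  rw [eq_bot_iff]
  intro a ha
  have h := hres (π a) (mem_map_of_mem π ha)
  rw [← map_mul, ← map_inv, ← map_mul, ← map_inv, ← map_mul] at h
  exact mem_bot.mpr (hbfix a ha (hcommu (commute_of_comm_eq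
    (htriv _ (mul_mem (conj_mem hgA ha) (inv_mem ha)) h))).2)

section Assembly

omit [Group.IsSolvable G] in
/-- A nontrivial power of an element of prime order has the same centralizer. -/
theorem commute_base {t : ℕ} (ht : t.Prime) {a b x : G} (ha : a ^ t = 1) (hb : b ∈ zpowers a) (hb1 : b ≠ 1)
    (h : Commute b x) : Commute a x := by
  obtain ⟨k, hk⟩ := mem_zpowers_iff.mp (mem_zpowers_symm ht ha hb hb1)
  exact hk ▸ h.zpow_left k

omit [Finite G] [Group.IsSolvable G] in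
theorem zpowers_comm (z : G) : ∀ a ∈ zpowers z, ∀ b ∈ zpowers z, a * b = b * a := by
  rintro _ ⟨i, rfl⟩ _ ⟨j, rfl⟩
  exact ((Commute.refl z).zpow_zpow i j).eq

theorem core_commute {L : Subgroup G} {a b : ℕ} (ha : a.Prime) (hb : b.Prime) (hab : a ≠ b) :
    ∀ x ∈ core a L, ∀ y ∈ core b L, Commute x y := by
  intro x hx y hy
  refine commute_of_comm_eq (disjoint_def.mp (disjoint_of_coprime_natCard
    (coprime_card ha hb hab (isPGroup_core a L) (isPGroup_core b L))) ?_ ?_)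
  · rw [show x * y * x⁻¹ * y⁻¹ = x * (y * x⁻¹ * y⁻¹) by group]
    exact mul_mem hx (conj_mem (le_normalizer_core a L (core_le b L hy)) (inv_mem hx))
  · exact mul_mem (conj_mem (le_normalizer_core b L (core_le a L hx)) hy) (inv_mem hy)

omit [Group.IsSolvable G] in
theorem not_rk_cyclic {t : ℕ} {M : Subgroup G} [IsCyclic M] (h : Rk t M) : False := by
  obtain ⟨A, hAM, hA⟩ := h
  obtain ⟨g, hg⟩ := IsCyclic.exists_generator (α := M)
  obtain ⟨c, hc, hcg⟩ := hA.exists_not_mem (g : G)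
  obtain ⟨k, hk⟩ := mem_zpowers_iff.mp (hg ⟨c, hAM hc⟩)
  exact hcg (mem_zpowers_iff.mpr ⟨k, congrArg Subtype.val hk⟩)

omit [Group.IsSolvable G] in
theorem oz_cases {t : ℕ} (ht : t.Prime) {M : Subgroup G} (hM : IsPGroup t M) (h1 : M ≠ ⊥) :
    (∃ y, y ≠ 1 ∧ y ∈ oz t M ∧ oz t M = zpowers y) ∨ Rk t (oz t M) := by
  haveI : Fact t.Prime := ⟨ht⟩
  obtain ⟨y, hy, hy1⟩ := (bot_or_exists_ne_one _).resolve_left (oz_ne_bot hM h1)
  by_cases h : oz t M ≤ zpowers y
  · exact Or.inl ⟨y, hy1, hy, le_antisymm h (zpowers_le.mpr hy)⟩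
  obtain ⟨a, ha, hay⟩ := SetLike.not_le_iff_exists.mp h
  obtain ⟨A, hAL, hA, -⟩ := exists_el ht hy.2.2 hy1 ha.2.2 (hy.2.1 a ha.1) hay (L := oz t M) hy ha
  exact Or.inr ⟨A, hAL, hA⟩

omit [Finite G] [Group.IsSolvable G] in
theorem commute_of_fixed_comm {g a c : G} {n q : ℕ} (hn : g ^ n = 1) (hc : g * a * g⁻¹ = c * a)
    (hgc : Commute g c) (hcq : c ^ q = 1) (hco : Nat.Coprime n q) : Commute g a := by
  have h : ∀ j : ℕ, g ^ j * a * (g ^ j)⁻¹ = c ^ j * a := by
    intro j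
    induction j with
    | zero => simp
    | succ j ih =>
      calc g ^ (j + 1) * a * (g ^ (j + 1))⁻¹ = g ^ j * (g * a * g⁻¹) * (g ^ j)⁻¹ := by
            rw [pow_succ]; group
        _ = g ^ j * c * (g ^ j)⁻¹ * (g ^ j * a * (g ^ j)⁻¹) := by rw [hc]; group
        _ = c ^ (j + 1) * a := by
            rw [(hgc.pow_left j).eq, mul_inv_cancel_right, ih, ← mul_assoc, ← pow_succ']
  have h1 := h n
  rw [hn, one_mul, inv_one, mul_one, right_eq_mul] at h1
  have h2 := pow_gcd_eq_one.mpr ⟨h1, hcq⟩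
  rw [hco.gcd_eq_one, pow_one] at h2
  rw [h2, one_mul] at hc
  exact mul_inv_eq_iff_eq_mul.mp hc

/-- The primes of a join of two commuting subgroups. -/
theorem eq_one_of_mem_sup {p q : ℕ} (hp : p.Prime) (hq : q.Prime) (hpq : p ≠ q) {P Q T : Subgroup G}
    (hP : IsPGroup p P) (hQ : IsPGroup q Q) (hn : Q ≤ normalizer (P : Set G)) (hpT : ¬ p ∣ Nat.card T)
    (hqT : ¬ q ∣ Nat.card T) {x : G} (hxT : x ∈ T) (hx : x ∈ P ⊔ Q) : x = 1 := by
  haveI : Fact p.Prime := ⟨hp⟩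
  haveI : Fact q.Prime := ⟨hq⟩
  refine disjoint_def.mp (disjoint_of_coprime_natCard (coprime_of_pi fun l hl hlT hl2 => ?_)) hxT hx
  rw [CfsgLib.Solvable.card_sup_of_disjoint hn
    (disjoint_of_coprime_natCard (coprime_card hp hq hpq hP hQ))] at hl2
  rcases hl.dvd_mul.mp hl2 with h | h
  · exact hpT (CfsgLib.Solvable.isPGroup_prime_eq hP hl h ▸ hlT)
  · exact hqT (CfsgLib.Solvable.isPGroup_prime_eq hQ hl h ▸ hlT)

theorem eq_one_of_mem_pGroup {q : ℕ} (hq : q.Prime) {Q T : Subgroup G}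
    (hQ : IsPGroup q Q) (hqT : ¬ q ∣ Nat.card T) {x : G} (hxT : x ∈ T) (hx : x ∈ Q) : x = 1 := by
  haveI : Fact q.Prime := ⟨hq⟩
  refine disjoint_def.mp (disjoint_of_coprime_natCard (coprime_of_pi fun l hl hlT hl2 => ?_)) hxT hx
  exact hqT (CfsgLib.Solvable.isPGroup_prime_eq hQ hl hl2 ▸ hlT)

theorem caseII1 (hnt : NT G) {p q r s : ℕ} (hp : p.Prime) (hq : q.Prime) (hr : r.Prime) (hs : s.Prime)
    (hpq : p ≠ q) (hpr : p ≠ r) (hps : p ≠ s) (hqr : q ≠ r) (hqs : q ≠ s) (hrs : r ≠ s)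
    {P Q : Subgroup G} [P.Normal] (hP : IsPGroup p P) (hQ : IsPGroup q Q) (hP1 : P ≠ ⊥) (hQ1 : Q ≠ ⊥)
    {T : Subgroup G} (hTQ : T ≤ normalizer (Q : Set G))
    (hT : ∀ t : ℕ, t.Prime → t ∣ Nat.card T → t = r ∨ t = s)
    (hfP : ∀ x ∈ Q, x ∈ centralizer (P : Set G) → x = 1)
    (hfQ : ∀ x ∈ T, x ∈ centralizer (Q : Set G) → x = 1)
    (hEs : Rk s T) (hR1 : core r T ≠ ⊥) (hord : core s T = ⊥ ∨ r < s) : False := by
  haveI : Fact p.Prime := ⟨hp⟩
  haveI : Fact q.Prime := ⟨hq⟩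
  haveI : Fact r.Prime := ⟨hr⟩
  haveI : Fact s.Prime := ⟨hs⟩
  obtain ⟨E, hET, hE⟩ := hEs
  set R := core r T with hRdef
  have hRp : IsPGroup r R := isPGroup_core r T
  have hTR : T ≤ normalizer (R : Set G) := le_normalizer_core r T
  have hEP : E ≤ normalizer (P : Set G) := le_normalizer_of_normal
  have hER := hET.trans hTR
  have hEQ := hET.trans hTQ
  have hRQ : R ≤ normalizer (Q : Set G) := (core_le r T).trans hTQ
  have hEZQ := hEQ.trans (normalizer_le_oz q Q)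
  have hEZR := hER.trans (normalizer_le_oz r R)
  have noPQR : ∀ w ∈ E, w ≠ 1 → Meet p P w → Meet q Q w → Meet r R w → False := by
    rintro w hw hw1 ⟨a, -, ha1, hap, hwa⟩ ⟨b, -, hb1, hbq, hwb⟩ ⟨c, -, hc1, hcr, hwc⟩
    exact luc hnt hs hp hq hr (Ne.symm hps) (Ne.symm hqs) (Ne.symm hrs) hpq hqr hpr (hE.pow w hw) hw1
      hap ha1 hwa hbq hb1 hwb hcr hc1 hwc
  have factA : ∀ w ∈ E, ¬ Meet p P w → ∀ a ∈ oz q Q, Commute w a := by
    intro w hw hm a ha
    have hc := mul_mem (conj_mem (hEZQ hw) ha) (inv_mem ha)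
    exact commute_of_comm_eq (hfP _ hc.1 (fpf_lemma hs hp hq hps hqs hpq hP (isPGroup_oz q Q)
      (oz_comm q Q) (hE.pow w hw) (hEP hw) (hEZQ hw) le_normalizer_of_normal hm a ha))
  have factB : ∀ w ∈ E, ¬ Meet q Q w → ∀ a ∈ oz r R, Commute w a := by
    intro w hw hm a ha
    have hc := mul_mem (conj_mem (hEZR hw) ha) (inv_mem ha)
    exact commute_of_comm_eq (hfQ _ (core_le r T hc.1) (fpf_lemma hs hq hr hqs hrs hqr hQ (isPGroup_oz r R)
      (oz_comm r R) (hE.pow w hw) (hEQ hw) (hEZR hw) ((oz_le r R).trans hRQ) hm a ha))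
  obtain ⟨z, hz, hz1⟩ := (bot_or_exists_ne_one _).resolve_left (oz_ne_bot hQ hQ1)
  obtain ⟨y, hy, hy1⟩ := (bot_or_exists_ne_one _).resolve_left (oz_ne_bot hRp hR1)
  have singleR : ∀ (m : ℕ) (M : Subgroup G), m.Prime → m ≠ r → m ≠ s → IsPGroup m M →
      T ≤ normalizer (M : Set G) → ∀ B ∈ E, B ≠ 1 → Meet m M B →
      (∀ w ∈ E, Meet r R w → w ∈ zpowers B) → False := by
    intro m M hm hmr hms hM hTM B hB hB1 hBM hsing
    have hRB : R ≤ centralizer ({B} : Set G) := hE.gen hr (Ne.symm hrs) hRp hER fun w hw hw1 x hx hwx => by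
      by_cases hx1 : x = 1
      · rw [hx1]; exact one_mem _
      refine mem_centralizer_singleton_iff.mpr (Eq.symm ?_)
      exact commute_base hs (hE.pow B hB) (hsing w hw (meet_of_mem hRp hx hx1 hwx)) hw1 hwx
    have hRB' : ∀ x ∈ R, Commute B x := fun x hx => (mem_centralizer_singleton_iff.mp (hRB hx)).symm
    rcases oz_cases hr hRp hR1 with ⟨u, hu1, hu, hZ⟩ | ⟨A, hAZ, hA⟩
    · rcases hord with hS | hlt
      · have h : B ∈ core s T := mem_core (hET hB) (hE.pow B hB) fun t ht x hx => by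
          by_cases hd : t ∣ Nat.card T
          · rcases hT t ht hd with rfl | rfl
            · exact hRB' x hx
            · rw [hS, mem_bot] at hx
              rw [hx]; exact Commute.one_right B
          · rw [core_eq_bot_of_not_dvd ht hd, mem_bot] at hx
            rw [hx]; exact Commute.one_right B
        rw [hS, mem_bot] at h
        exact hB1 h
      · obtain ⟨w, hw, hwB⟩ := hE.exists_not_mem B
        refine hwB (hsing w hw ⟨u, hu.1, hu1, hu.2.2, ?_⟩)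
        exact mem_zpowers_of_commute_lt hr hs hlt.le hu.2.2 (hE.pow w hw) (hZ ▸ hEZR hw)
    · exact exists_triple_of_el hnt hm hs (Ne.symm hmr) hrs hms hA hM (hE.pow B hB) hB1
        (fun a ha => hRB' a (hAZ ha).1) ((hAZ.trans (oz_le r R)).trans ((core_le r T).trans hTM)) hBM
  have caseR : CE r R E → False := by
    intro hce
    obtain ⟨B, hB, hB1, hBQ⟩ := hE.exists_meet hq (Ne.symm hqs) hQ hQ1 hEQ
    have hcent : ∀ w ∈ E, Meet q Q w → w ≠ 1 → Commute w z := fun w hw hm hw1 =>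
      factA w hw (fun hp' => noPQR w hw hw1 hp' hm (hce.meet hw)) z hz
    have hsing : ∀ w ∈ E, Meet q Q w → w ∈ zpowers B := by
      intro w hw hm
      by_contra hwB
      have hall := hE.commute_all hB hw (hcent B hB hBQ hB1)
        (hcent w hw hm fun e => hwB (e ▸ one_mem _)) hB1 hwB
      obtain ⟨v, hv, hv1, hvP⟩ := hE.exists_meet hp (Ne.symm hps) hP hP1 hEP
      exact noPQR v hv hv1 hvP ⟨z, hz.1, hz1, hz.2.2, hall v hv⟩ (hce.meet hv)
    refine hB1 (hfQ B (hET hB) (mem_centralizer_iff.mpr fun x hx => ?_))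
    refine mem_centralizer_singleton_iff.mp (hE.gen hq (Ne.symm hqs) hQ hEQ (W := centralizer ({B} : Set G))
      (fun w hw hw1 x hx hwx => ?_) hx)
    by_cases hx1 : x = 1
    · rw [hx1]; exact one_mem _
    exact mem_centralizer_singleton_iff.mpr
      (commute_base hs (hE.pow B hB) (hsing w hw (meet_of_mem hQ hx hx1 hwx)) hw1 hwx).symm.eq
  have caseP : CE p P E → False := by
    intro hce
    obtain ⟨B, hB, hB1, hBR⟩ := hE.exists_meet hr (Ne.symm hrs) hRp hR1 hER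
    have hcent : ∀ w ∈ E, Meet r R w → w ≠ 1 → Commute w y := fun w hw hm hw1 =>
      factB w hw (fun hq' => noPQR w hw hw1 (hce.meet hw) hq' hm) y hy
    refine singleR p P hp hpr hps hP le_normalizer_of_normal B hB hB1 (hce.meet hB) fun w hw hm => ?_
    by_contra hwB
    have hall := hE.commute_all hB hw (hcent B hB hBR hB1)
      (hcent w hw hm fun e => hwB (e ▸ one_mem _)) hB1 hwB
    obtain ⟨v, hv, hv1, hvQ⟩ := hE.exists_meet hq (Ne.symm hqs) hQ hQ1 hEQ
    exact noPQR v hv hv1 (hce.meet hv) hvQ ⟨y, hy.1, hy1, hy.2.2, hall v hv⟩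
  have caseQ : CE q Q E → False := by
    intro hce
    obtain ⟨B, hB, hB1, hBR⟩ := hE.exists_meet hr (Ne.symm hrs) hRp hR1 hER
    have hcent : ∀ w ∈ E, Meet r R w → w ≠ 1 → ∀ a ∈ oz q Q, Commute w a := fun w hw hm hw1 =>
      factA w hw fun hp' => noPQR w hw hw1 hp' (hce.meet hw) hm
    refine singleR q Q hq hqr hqs hQ hTQ B hB hB1 (hce.meet hB) fun w hw hm => ?_
    by_contra hwB
    have hall : ∀ a ∈ oz q Q, ∀ e ∈ E, Commute e a := fun a ha =>
      hE.commute_all hB hw (hcent B hB hBR hB1 a ha)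
        (hcent w hw hm (fun e => hwB (e ▸ one_mem _)) a ha) hB1 hwB
    have hfpf : ∀ a ∈ oz q Q, a ≠ 1 → ¬ Meet p P a := fun a ha ha1 hm =>
      exists_triple_of_el hnt hp hq (Ne.symm hps) (Ne.symm hqs) hpq hE hP ha.2.2 ha1
        (fun e he => (hall a ha e he).symm) hEP hm
    rcases oz_cases hq hQ hQ1 with ⟨z', hz'1, hz', hZ⟩ | ⟨A, hAZ, hA⟩
    · obtain ⟨v, hv, hv1, hvP⟩ := hE.exists_meet hp (Ne.symm hps) hP hP1 hEP
      have hmove : ¬ Commute v y := fun hvy =>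
        noPQR v hv hv1 hvP (hce.meet hv) ⟨y, hy.1, hy1, hy.2.2, hvy⟩
      set c := v * y * v⁻¹ * y⁻¹ with hc
      have hcR : c ∈ R := mul_mem (conj_mem (hER hv) hy.1) (inv_mem hy.1)
      have hn : T ≤ normalizer (zpowers z' : Set G) := hZ ▸ hTQ.trans (normalizer_le_oz q Q)
      have hcz : Commute c z' := (mem_centralizer_iff.mp (comm_mem_centralizer_of_cyclic (hn (hET hv))
        (hn (core_le r T hy.1))) z' (mem_zpowers z')).symm
      have hne : R ⊓ centralizer ({z'} : Set G) ≠ ⊥ := fun e => hmove (commute_of_comm_eq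
        (mem_bot.mp (e ▸ (⟨hcR, mem_centralizer_singleton_iff.mpr hcz.eq⟩ :
          c ∈ R ⊓ centralizer ({z'} : Set G)))))
      have hn' : E ≤ normalizer ((R ⊓ centralizer ({z'} : Set G) : Subgroup G) : Set G) := fun e he =>
        mem_normalizer_inf_centralizer (hER he) fun x hx => by
          rw [Set.mem_singleton_iff.mp hx]; exact hall z' hz' e he
      obtain ⟨e, he, he1, x, hx, hx1, hxr, hex⟩ := hE.exists_meet hr (Ne.symm hrs) (hRp.to_le inf_le_left) hne hn'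
      exact hnt.triple hs hq hr (Ne.symm hqs) hqr (Ne.symm hrs) (hE.pow e he) he1 hz'.2.2 hz'1 hxr hx1
        (hall z' hz' e he) (mem_centralizer_singleton_iff.mp hx.2).symm hex
    · obtain ⟨a, ha, ha1, ham⟩ := hA.exists_meet hp (Ne.symm hpq) hP hP1 le_normalizer_of_normal
      exact hfpf a (hAZ ha) ha1 ham
  obtain ⟨w, hw, hw1, hwP⟩ := hE.exists_meet hp (Ne.symm hps) hP hP1 hEP
  by_cases hwQ : Meet q Q w
  · exact (common hnt hp hq hpq hps hqs hE hP hQ hEP hEQ le_normalizer_of_normal hw hw1 hwP hwQ).elim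
      caseP caseQ
  · exact (common hnt hp hr hpr hps hrs hE hP hRp hEP hER le_normalizer_of_normal hw hw1 hwP
      ⟨y, hy.1, hy1, hy.2.2, factB w hw hwQ y hy⟩).elim caseP caseR

/-- Two cores in the complement of `P`. -/
structure Conf (p q r s : ℕ) (P K E : Subgroup G) : Prop where
  hp : p.Prime
  hq : q.Prime
  hr : r.Prime
  hs : s.Prime
  hpq : p ≠ q
  hpr : p ≠ r
  hps : p ≠ s
  hqr : q ≠ r
  hqs : q ≠ s
  hrs : r ≠ s
  nP : P.Normal
  hP : IsPGroup p P
  hP1 : P ≠ ⊥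
  faith : ∀ x ∈ K, x ∈ centralizer (P : Set G) → x = 1
  pi : ∀ t : ℕ, t.Prime → t ∣ Nat.card K → t = q ∨ t = r ∨ t = s
  hQ1 : core q K ≠ ⊥
  hR1 : core r K ≠ ⊥
  hS : core s K = ⊥
  hEK : E ≤ K
  hE : El s E
  rkq : Rk q K
  rkr : Rk r K

namespace Conf

variable {p q r s : ℕ} {P K E : Subgroup G}

theorem symm (c : Conf p q r s P K E) : Conf p r q s P K E :=
  { c with
    hq := c.hr, hr := c.hq, hpq := c.hpr, hpr := c.hpq, hqr := Ne.symm c.hqr, hqs := c.hrs, hrs := c.hqs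
    pi := fun t ht hd => by rcases c.pi t ht hd with h | h | h <;> simp [h]
    hQ1 := c.hR1, hR1 := c.hQ1, rkq := c.rkr, rkr := c.rkq }

theorem moved (c : Conf p q r s P K E) (hnt : NT G) {z : G} (hz : z ∈ core q K) (hzq : z ^ q = 1)
    (hz1 : z ≠ 1) : ∃ w ∈ E, ¬ Commute w z := by
  by_contra hall
  push Not at hall
  obtain ⟨w, hw, hw1, x, hx, hx1, hxr, hwx⟩ := c.hE.exists_meet c.hr (Ne.symm c.hrs) (isPGroup_core r K)
    c.hR1 (c.hEK.trans (le_normalizer_core r K))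
  exact hnt.triple c.hs c.hq c.hr (Ne.symm c.hqs) c.hqr (Ne.symm c.hrs) (c.hE.pow w hw) hw1 hzq hz1 hxr hx1
    (hall w hw) (core_commute c.hq c.hr c.hqr z hz x hx) hwx

theorem not_meet (c : Conf p q r s P K E) (hnt : NT G) {z y : G} (hZ : oz q (core q K) = zpowers z)
    (hz1 : z ≠ 1) (hY : oz r (core r K) = zpowers y) (hy1 : y ≠ 1) : ¬ Meet p P y := by
  haveI := c.nP
  haveI : Fact p.Prime := ⟨c.hp⟩
  have hz : z ∈ oz q (core q K) := hZ ▸ mem_zpowers z
  have hy : y ∈ oz r (core r K) := hY ▸ mem_zpowers y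
  rintro ⟨m, hm, hm1, hmp, hym⟩
  have hn : E ≤ normalizer (zpowers y : Set G) :=
    hY ▸ (c.hEK.trans (le_normalizer_core r K)).trans (normalizer_le_oz r _)
  obtain ⟨b, hb, hb1, x, hx, hx1, hxr, hbx⟩ := c.hE.exists_meet c.hr (Ne.symm c.hrs)
    (isPGroup_zpowers hy.2.2) (by rwa [Ne, zpowers_eq_bot]) hn
  have hby : Commute b y := (commute_base c.hr hy.2.2 hx hx1 hbx.symm).symm
  have hzy : Commute z y := core_commute c.hq c.hr c.hqr z hz.1 y hy.1
  have hbz : ¬ Commute b z := fun h =>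
    hnt.triple c.hs c.hq c.hr (Ne.symm c.hqs) c.hqr (Ne.symm c.hrs) (c.hE.pow b hb) hb1 hz.2.2 hz1 hy.2.2
      hy1 h hzy hby
  set N := P ⊓ centralizer ({y} : Set G) with hN
  have hmN : m ∈ N := ⟨hm, mem_centralizer_singleton_iff.mpr hym.eq.symm⟩
  have hbN : b ∈ normalizer (N : Set G) := mem_normalizer_inf_centralizer (le_normalizer_of_normal (mem_top b))
    fun v hv => by rw [Set.mem_singleton_iff.mp hv]; exact hby
  have hzN : zpowers z ≤ normalizer (N : Set G) := zpowers_le.mpr <|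
    mem_normalizer_inf_centralizer (le_normalizer_of_normal (mem_top z))
      fun v hv => by rw [Set.mem_singleton_iff.mp hv]; exact hzy
  have hbn : b ∈ normalizer (zpowers z : Set G) :=
    hZ ▸ (le_normalizer_core q K).trans (normalizer_le_oz q _) (c.hEK hb)
  have hno : ¬ Meet p N b := by
    rintro ⟨n, hn', hn1, hnp, hbn'⟩
    exact hnt.triple c.hs c.hp c.hr (Ne.symm c.hps) c.hpr (Ne.symm c.hrs) (c.hE.pow b hb) hb1 hnp hn1
      hy.2.2 hy1 hbn' (mem_centralizer_singleton_iff.mp hn'.2) hby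
  have hcm := fpf_lemma c.hs c.hp c.hq c.hps c.hqs c.hpq (c.hP.to_le inf_le_left) (isPGroup_zpowers hz.2.2)
    (zpowers_comm z) (c.hE.pow b hb) hbN hbn hzN hno z (mem_zpowers z)
  have hc1 : b * z * b⁻¹ * z⁻¹ ≠ 1 := fun e => hbz (commute_of_comm_eq e)
  have hzm : Commute z m := commute_base c.hq hz.2.2
    (mul_mem (conj_mem hbn (mem_zpowers z)) (inv_mem (mem_zpowers z))) hc1
    (mem_centralizer_iff.mp hcm m hmN).symm
  exact hnt.triple c.hq c.hr c.hp c.hqr (Ne.symm c.hpr) (Ne.symm c.hpq) hz.2.2 hz1 hy.2.2 hy1 hmp hm1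
    hzy hym hzm

theorem cyclic_core (c : Conf p q r s P K E) (hnt : NT G) {z y : G} (hZ : oz q (core q K) = zpowers z)
    (hz1 : z ≠ 1) (hY : oz r (core r K) = zpowers y) (hy1 : y ≠ 1) : IsCyclic (core r K) := by
  haveI := c.nP
  haveI : Fact p.Prime := ⟨c.hp⟩
  have hz : z ∈ oz q (core q K) := hZ ▸ mem_zpowers z
  have hy : y ∈ oz r (core r K) := hY ▸ mem_zpowers y
  have hER := c.hEK.trans (le_normalizer_core r K)
  have hEy : E ≤ normalizer (zpowers y : Set G) := hY ▸ hER.trans (normalizer_le_oz r _)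
  have hr2 := ne_two_of_moved hy.2.2 hEy (c.symm.moved hnt hy.1 hy.2.2 hy1)
  have hfpf := c.not_meet hnt hZ hz1 hY hy1
  by_contra hcyc
  set U := omegaTwo c.hr hr2 (core r K) hy
  obtain ⟨x, hxU, hxy⟩ := exists_omegaTwo c.hr hr2 (isPGroup_core r K) hcyc hy
  have hEU : E ≤ normalizer (U : Set G) := by
    rw [le_normalizer_iff]
    intro e he a ha
    refine ⟨conj_mem (hER he) ha.1, by rw [conj_pow, ha.2.1, mul_one, mul_inv_cancel], fun g hg => ?_⟩
    rw [show g * (e * a * e⁻¹) * g⁻¹ * (e * a * e⁻¹)⁻¹ =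
      e * ((e⁻¹ * g * e) * a * (e⁻¹ * g * e)⁻¹ * a⁻¹) * e⁻¹ by group]
    exact conj_mem (hEy he) (ha.2.2 _ (conj_mem' (hER he) hg))
  obtain ⟨w, hw, hw1, a, ha, hwa, hay⟩ : ∃ w ∈ E, w ≠ 1 ∧ ∃ a ∈ U, Commute w a ∧ a ∉ zpowers y := by
    by_contra hno
    push Not at hno
    exact hxy (c.hE.gen c.hr (Ne.symm c.hrs) ((isPGroup_core r K).to_le (show U ≤ core r K from fun a ha => ha.1))
      hEU hno hxU)
  obtain ⟨g, hg, hga⟩ : ∃ g ∈ core r K, ¬ Commute g a := by
    by_contra hall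
    push Not at hall
    exact hay (hY ▸ (⟨ha.1, fun g hg => (hall g hg).symm, ha.2.1⟩ : a ∈ oz r (core r K)))
  have hcy := ha.2.2 g hg
  have hc1 : g * a * g⁻¹ * a⁻¹ ≠ 1 := fun e => hga (commute_of_comm_eq e)
  have hca : Commute (g * a * g⁻¹ * a⁻¹) a := (zpowers_le.mpr hy hcy : _ ∈ oz r (core r K)).2.1 a ha.1
  obtain ⟨m, hm, hm1, hmp, ham⟩ := meet_translation c.hr c.hp (Ne.symm c.hpr) c.hP c.hP1 hy.2.2 hcy hc1
    ha.2.1 hay (hy.2.1 a ha.1) (hy.2.1 g hg).symm (by rw [← hca.eq]; group)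
    (le_normalizer_of_normal (mem_top y)) (le_normalizer_of_normal (mem_top a))
    (le_normalizer_of_normal (mem_top g)) hfpf
  have ha1 : a ≠ 1 := fun e => hay (e ▸ one_mem _)
  set N := P ⊓ centralizer ({a} : Set G) with hN
  have hza : Commute z a := core_commute c.hq c.hr c.hqr z hz.1 a ha.1
  have hmN : m ∈ N := ⟨hm, mem_centralizer_singleton_iff.mpr ham.eq.symm⟩
  have hwN : w ∈ normalizer (N : Set G) := mem_normalizer_inf_centralizer (le_normalizer_of_normal (mem_top w))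
    fun v hv => by rw [Set.mem_singleton_iff.mp hv]; exact hwa
  have hzN : zpowers z ≤ normalizer (N : Set G) := zpowers_le.mpr <|
    mem_normalizer_inf_centralizer (le_normalizer_of_normal (mem_top z))
      fun v hv => by rw [Set.mem_singleton_iff.mp hv]; exact hza
  have hwn : w ∈ normalizer (zpowers z : Set G) :=
    hZ ▸ (le_normalizer_core q K).trans (normalizer_le_oz q _) (c.hEK hw)
  by_cases hwz : Commute w z
  · exact hnt.triple c.hs c.hq c.hr (Ne.symm c.hqs) c.hqr (Ne.symm c.hrs) (c.hE.pow w hw) hw1 hz.2.2 hz1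
      ha.2.1 ha1 hwz hza hwa
  have hno : ¬ Meet p N w := by
    rintro ⟨n, hn', hn1, hnp, hwn'⟩
    exact hnt.triple c.hs c.hp c.hr (Ne.symm c.hps) c.hpr (Ne.symm c.hrs) (c.hE.pow w hw) hw1 hnp hn1
      ha.2.1 ha1 hwn' (mem_centralizer_singleton_iff.mp hn'.2) hwa
  have hcm := fpf_lemma c.hs c.hp c.hq c.hps c.hqs c.hpq (c.hP.to_le inf_le_left) (isPGroup_zpowers hz.2.2)
    (zpowers_comm z) (c.hE.pow w hw) hwN hwn hzN hno z (mem_zpowers z)
  have hzm : Commute z m := commute_base c.hq hz.2.2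
    (mul_mem (conj_mem hwn (mem_zpowers z)) (inv_mem (mem_zpowers z))) (fun e => hwz (commute_of_comm_eq e))
    (mem_centralizer_iff.mp hcm m hmN).symm
  exact hnt.triple c.hq c.hr c.hp c.hqr (Ne.symm c.hpr) (Ne.symm c.hpq) hz.2.2 hz1 ha.2.1 ha1 hmp hm1
    hza ham hzm

theorem both_cyclic (c : Conf p q r s P K E) (hnt : NT G) {z y : G} (hZ : oz q (core q K) = zpowers z)
    (hz1 : z ≠ 1) (hY : oz r (core r K) = zpowers y) (hy1 : y ≠ 1) (hlt : q < r) : False := by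
  haveI : Fact q.Prime := ⟨c.hq⟩
  haveI : Fact r.Prime := ⟨c.hr⟩
  haveI := c.cyclic_core hnt hZ hz1 hY hy1
  haveI := c.symm.cyclic_core hnt hY hy1 hZ hz1
  have hz : z ∈ oz q (core q K) := hZ ▸ mem_zpowers z
  have hKz : K ≤ normalizer (zpowers z : Set G) := hZ ▸ (le_normalizer_core q K).trans (normalizer_le_oz q _)
  obtain ⟨B, hB, hB1, x, hx, hx1, -, hBx⟩ := c.hE.exists_meet c.hq (Ne.symm c.hqs)
    (isPGroup_zpowers hz.2.2) (by rwa [Ne, zpowers_eq_bot]) (c.hEK.trans hKz)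
  have hBz : Commute B z := (commute_base c.hq hz.2.2 hx hx1 hBx.symm).symm
  obtain ⟨T, hTK, hBT, hTπ, hTdom⟩ := exists_hall_in K {t | t = r ∨ t = s} (zpowers B)
    (zpowers_le.mpr (c.hEK hB)) (isPiSet_zpowers (c.hE.pow B hB) c.hs (Or.inr rfl))
  have hqT : ¬ q ∣ Nat.card T := fun hd => (hTπ q c.hq hd).elim c.hqr c.hqs
  have hRT : core r K ≤ T := le_of_conj (le_normalizer_core r K)
    (hTdom _ (core_le r K) (isPiSet_pGroup (isPGroup_core r K) c.hr (Or.inl rfl)))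
  obtain ⟨X, hXT, hRX, hXπ, hXdom⟩ := exists_hall_in T {r} (core r K) hRT
    (isPiSet_pGroup (isPGroup_core r K) c.hr rfl)
  have hXp : IsPGroup r X := isPGroup_of_pi c.hr hXπ
  have hrk : Rk r X := rk_hall (π := ({r} : Set ℕ)) c.hr rfl hXdom
    (rk_hall (π := {t | t = r ∨ t = s}) c.hr (Or.inl rfl) hTdom c.rkr)
  have hfix : ∀ v ∈ X, Commute B v → v = 1 := by
    intro v hv hBv
    by_contra hv1
    obtain ⟨k, hk1, hkr⟩ := exists_pow_prime hXp hv hv1
    have hvz : Commute (v ^ k) z := mem_zpowers_of_commute_lt c.hq c.hr hlt.le hz.2.2 hkr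
      (hKz (pow_mem (hTK (hXT hv)) k))
    exact hnt.triple c.hs c.hr c.hq (Ne.symm c.hrs) (Ne.symm c.hqr) (Ne.symm c.hqs) (c.hE.pow B hB) hB1
      hkr hk1 hz.2.2 hz1 (hBv.pow_right k) hvz hBz
  have hmem : ∀ v ∈ X, B * v * B⁻¹ * v⁻¹ ∈ core r K := by
    intro v hv
    have hBT' : B ∈ T := hBT (mem_zpowers B)
    set d := B * v * B⁻¹ * v⁻¹ with hd
    have hdT : d ∈ T := mul_mem (mul_mem (mul_mem hBT' (hXT hv)) (inv_mem hBT')) (inv_mem (hXT hv))
    have hc : ∀ t : ℕ, t.Prime → ∀ a ∈ core t K, Commute d a := by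
      intro t ht a ha
      have hBn := le_normalizer_core t K (c.hEK hB)
      have hvn := le_normalizer_core t K (hTK (hXT hv))
      by_cases hd' : t ∣ Nat.card K
      · rcases c.pi t ht hd' with rfl | rfl | rfl
        · exact (mem_centralizer_iff.mp (comm_mem_centralizer_of_cyclic hBn hvn) a ha).symm
        · exact (mem_centralizer_iff.mp (comm_mem_centralizer_of_cyclic hBn hvn) a ha).symm
        · rw [c.hS, mem_bot] at ha
          rw [ha]; exact Commute.one_right d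
      · rw [core_eq_bot_of_not_dvd ht hd', mem_bot] at ha
        rw [ha]; exact Commute.one_right d
    have hsup : d ∈ core q K ⊔ core r K := mem_of_cores (hTK hdT) hc fun t ht hd' => by
      rcases c.pi t ht hd' with rfl | rfl | rfl
      · exact le_sup_left
      · exact le_sup_right
      · rw [c.hS]; exact bot_le
    obtain ⟨a, ha, b, hb, hab⟩ := (CfsgLib.Solvable.mem_sup_of_le_normalizer
      ((core_le r K).trans (le_normalizer_core q K))).mp hsup
    have haT : a ∈ T := by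
      have e : a = d * b⁻¹ := eq_mul_inv_iff_mul_eq.mpr hab
      rw [e]; exact mul_mem hdT (inv_mem (hRT hb))
    rw [← hab, eq_one_of_mem_pGroup c.hq (isPGroup_core q K) hqT haT ha, one_mul]
    exact hb
  have hinj : Function.Injective (fun v : X => (⟨B * v * B⁻¹ * (v : G)⁻¹, hmem v v.2⟩ : core r K)) := by
    intro v v' e
    have e' : B * (v : G) * B⁻¹ * (v : G)⁻¹ = B * v' * B⁻¹ * (v' : G)⁻¹ := congrArg Subtype.val e
    refine Subtype.ext (inv_mul_eq_one.mp (hfix _ (mul_mem (inv_mem v'.2) v.2) (mul_inv_eq_iff_eq_mul.mp ?_))).symm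
    calc B * ((v' : G)⁻¹ * v) * B⁻¹
        = (B * v' * B⁻¹)⁻¹ * (B * (v : G) * B⁻¹ * (v : G)⁻¹) * v := by group
      _ = (v' : G)⁻¹ * v := by rw [e']; group
  have hXR := eq_of_le_of_card_ge hRX (Nat.card_le_card_of_injective _ hinj)
  rw [← hXR] at hrk
  exact not_rk_cyclic hrk

theorem finish (c : Conf p q r s P K E) (hnt : NT G) {z : G} (hz1 : z ≠ 1) (hzq : z ^ q = 1)
    (hfpf : ∀ v ∈ core r K, v ≠ 1 → ∀ b : G, b ^ s = 1 → b ≠ 1 → Commute b z → Commute b v → False)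
    (hnoR : ∀ x ∈ K, x ^ q = 1 → Commute x z → x ∈ centralizer (oz r (core r K) : Set G) → x ∈ zpowers z)
    {x b : G} (hxK : x ∈ K) (hx : x ^ q = 1) (hxz : Commute x z) (hxn : x ∉ zpowers z) (hbK : b ∈ K)
    (hb : b ^ s = 1) (hb1 : b ≠ 1) (hbz : Commute b z) (hbx : Commute x b) : False := by
  haveI := c.nP
  haveI : Fact p.Prime := ⟨c.hp⟩
  set Z := oz r (core r K) with hZdef
  have hKZ : K ≤ normalizer (Z : Set G) := (le_normalizer_core r K).trans (normalizer_le_oz r _)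
  haveI : IsMulCommutative Z := ⟨⟨fun a b => Subtype.ext (oz_comm r (core r K) (a : G) a.2 (b : G) b.2)⟩⟩
  set A1 := ⁅Z, zpowers x⁆ with hA1
  have hA1Z : A1 ≤ Z := CfsgLib.Solvable.commutator_le_of_normalizes (zpowers_le.mpr (hKZ hxK))
  have hxA : x ∈ normalizer (A1 : Set G) :=
    CfsgLib.Solvable.le_normalizer_commutator_right Z (zpowers x) (mem_zpowers x)
  have hbA : b ∈ normalizer (A1 : Set G) := by
    refine (le_normalizer_iff.mpr ?_ : K ⊓ centralizer ({x} : Set G) ≤ normalizer (A1 : Set G))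
      ⟨hbK, mem_centralizer_singleton_iff.mpr hbx.eq.symm⟩
    intro g hg a ha
    have hle : A1 ≤ A1.comap (MulAut.conj g).toMonoidHom := by
      refine commutator_le.mpr fun a ha v hv => ?_
      rw [mem_comap, map_commutatorElement]
      refine commutator_mem_commutator (conj_mem (hKZ hg.1) ha) ?_
      obtain ⟨k, rfl⟩ := mem_zpowers_iff.mp hv
      show g * x ^ k * g⁻¹ ∈ zpowers x
      have hgx : Commute g x := mem_centralizer_singleton_iff.mp hg.2
      rw [(hgx.zpow_right k).eq, mul_inv_cancel_right]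
      exact zpow_mem (mem_zpowers x) k
    exact hle ha
  have hxfix : ∀ a ∈ A1, Commute x a → a = 1 := by
    intro a ha hc
    have h1 : a ∈ Z ⊓ centralizer (zpowers x : Set G) ⊓ A1 := by
      refine ⟨⟨hA1Z ha, mem_centralizer_iff.mpr ?_⟩, ha⟩
      rintro _ ⟨k, rfl⟩
      exact (hc.zpow_left k).eq
    rwa [CfsgLib.Solvable.centralizer_inf_commutator_eq_bot (zpowers_le.mpr (hKZ hxK))
      (coprime_card c.hq c.hr c.hqr (isPGroup_zpowers hx) (isPGroup_oz r _)), mem_bot] at h1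
  have hbfix : ∀ a ∈ A1, Commute b a → a = 1 := fun a ha hba => by
    by_contra ha1
    exact hfpf a (hA1Z ha).1 ha1 b hb hb1 hbz hba
  have hA1bot := frattini_step c.hp c.hq c.hr c.hs c.hpq c.hpr c.hps c.hqs c.hP
    ((isPGroup_oz r _).to_le hA1Z) (fun a ha a' ha' => oz_comm r _ a (hA1Z ha) a' (hA1Z ha'))
    (fun a ha => c.faith a (core_le r K (hA1Z ha).1)) hx hb hbx hxA hbA hxfix hbfix
    (fun v hv hxv hbv => by
      by_contra hv1
      obtain ⟨k, hk1, hkp⟩ := exists_pow_prime c.hP hv hv1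
      have hx1 : x ≠ 1 := fun e => hxn (e ▸ one_mem _)
      exact hnt.triple c.hq c.hs c.hp c.hqs (Ne.symm c.hps) (Ne.symm c.hpq) hx hx1 hb hb1 hkp hk1 hbx
        (hbv.pow_right k) (hxv.pow_right k))
  rw [hA1, commutator_eq_bot_iff_le_centralizer] at hA1bot
  exact hxn (hnoR x hxK hx hxz (mem_centralizer_iff.mpr fun a ha =>
    (mem_centralizer_iff.mp (hA1bot ha) x (mem_zpowers x)).symm))

theorem noncyclic (c : Conf p q r s P K E) (hnt : NT G) (hA : Rk r (oz r (core r K))) : False := by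
  haveI := c.nP
  haveI : Fact p.Prime := ⟨c.hp⟩
  haveI : Fact q.Prime := ⟨c.hq⟩
  haveI : Fact r.Prime := ⟨c.hr⟩
  haveI : Fact s.Prime := ⟨c.hs⟩
  obtain ⟨A, hAZ, hA⟩ := hA
  set Q := core q K with hQdef
  set R := core r K with hRdef
  have hQR : ∀ a ∈ Q, ∀ b ∈ R, Commute a b := core_commute c.hq c.hr c.hqr
  have hzfpf : ∀ v ∈ oz q Q, v ≠ 1 → ¬ Meet p P v := fun v hv hv1 hm =>
    exists_triple_of_el hnt c.hp c.hq (Ne.symm c.hpr) (Ne.symm c.hqr) c.hpq hA c.hP hv.2.2 hv1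
      (fun a ha => hQR v hv.1 a (hAZ ha).1) le_normalizer_of_normal hm
  rcases oz_cases c.hq (isPGroup_core q K) c.hQ1 with ⟨z, hz1, hz, hZ⟩ | ⟨A', hA'Z, hA'⟩
  swap
  · obtain ⟨a, ha, ha1, ham⟩ := hA'.exists_meet c.hp (Ne.symm c.hpq) c.hP c.hP1 le_normalizer_of_normal
    exact hzfpf a (hA'Z ha) ha1 ham
  have hKz : K ≤ normalizer (zpowers z : Set G) := hZ ▸ (le_normalizer_core q K).trans (normalizer_le_oz q _)
  obtain ⟨w0, hw0, hw0z⟩ := c.moved hnt hz.1 hz.2.2 hz1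
  have hsq : s < q := by
    by_contra hle
    exact hw0z (mem_zpowers_of_commute_lt c.hq c.hs (by omega) hz.2.2 (c.hE.pow w0 hw0) (hKz (c.hEK hw0)))
  have hq2 : q ≠ 2 := by have := c.hs.two_le; omega
  have hfpf : ∀ v ∈ R, v ≠ 1 → ∀ b : G, b ^ s = 1 → b ≠ 1 → Commute b z → Commute b v → False := by
    intro v hv hv1 b hb hb1 hbz hbv
    obtain ⟨k, hk1, hkr⟩ := exists_pow_prime (isPGroup_core r K) hv hv1
    exact hnt.triple c.hs c.hq c.hr (Ne.symm c.hqs) c.hqr (Ne.symm c.hrs) hb hb1 hz.2.2 hz1 hkr hk1 hbz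
      ((hQR z hz.1 v hv).pow_right k) (hbv.pow_right k)
  have hnoR : ∀ x ∈ K, x ^ q = 1 → Commute x z → x ∈ centralizer (oz r R : Set G) → x ∈ zpowers z := by
    intro x _ hx hxz hxR
    by_contra hxn
    obtain ⟨A', -, hA', -, -, hA'min⟩ := exists_el c.hq hz.2.2 hz1 hx hxz.symm hxn (L := ⊤) (mem_top z)
      (mem_top x)
    have hle : A' ≤ centralizer (oz r R : Set G) :=
      hA'min _ (mem_centralizer_iff.mpr fun a ha => (hQR z hz.1 a ha.1).eq.symm) hxR
    obtain ⟨a, ha, ha1, ham⟩ := hA'.exists_meet c.hp (Ne.symm c.hpq) c.hP c.hP1 le_normalizer_of_normal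
    exact exists_triple_of_el hnt c.hp c.hq (Ne.symm c.hpr) (Ne.symm c.hqr) c.hpq hA c.hP (hA'.pow a ha)
      ha1 (fun v hv => (mem_centralizer_iff.mp (hle ha) v (hAZ hv)).symm) le_normalizer_of_normal ham
  obtain ⟨B, hB, hB1, v, hv, hv1, -, hBv⟩ := c.hE.exists_meet c.hq (Ne.symm c.hqs)
    (isPGroup_zpowers hz.2.2) (by rwa [Ne, zpowers_eq_bot]) (c.hEK.trans hKz)
  have hBz : Commute B z := (commute_base c.hq hz.2.2 hv hv1 hBv.symm).symm
  set D := K ⊓ centralizer ({z} : Set G) with hD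
  have hrkD : Rk q D := by
    obtain ⟨A', hA'K, hA'⟩ := c.rkq
    exact ⟨A', fun a ha => ⟨hA'K ha, mem_centralizer_singleton_iff.mpr
      (mem_zpowers_of_commute_lt c.hq c.hq le_rfl hz.2.2 (hA'.pow a ha) (hKz (hA'K ha))).eq⟩, hA'⟩
  have hBD : zpowers B ≤ D :=
    zpowers_le.mpr ⟨c.hEK hB, mem_centralizer_singleton_iff.mpr hBz.eq⟩
  obtain ⟨T, hTD, hBT, hTπ, hTdom⟩ := exists_hall_in D {t | t = q ∨ t = s} (zpowers B) hBD
    (isPiSet_zpowers (c.hE.pow B hB) c.hs (Or.inr rfl))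
  have hBT' : B ∈ T := hBT (mem_zpowers B)
  have hTz : ∀ g ∈ T, Commute g z := fun g hg => mem_centralizer_singleton_iff.mp (hTD hg).2
  have hTK : T ≤ K := fun g hg => (hTD hg).1
  have hQD : Q ≤ D := fun a ha => ⟨core_le q K ha, mem_centralizer_singleton_iff.mpr (hz.2.1 a ha).eq.symm⟩
  have hQT : Q ≤ T := le_of_conj (inf_le_left.trans (le_normalizer_core q K))
    (hTdom _ hQD (isPiSet_pGroup (isPGroup_core q K) c.hq (Or.inl rfl)))
  have hrkT : Rk q T := rk_hall (π := {t | t = q ∨ t = s}) c.hq (Or.inl rfl) hTdom hrkD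
  by_cases hS : core s T = ⊥
  swap
  · rcases oz_cases c.hs (isPGroup_core s T) hS with ⟨b, hb1, hb, hZb⟩ | ⟨A', hA'Z, hA'⟩
    · obtain ⟨A', hA'T, hA'⟩ := hrkT
      obtain ⟨x, hx, hxn⟩ := hA'.exists_not_mem z
      have hxb : Commute x b := mem_zpowers_of_commute_lt c.hs c.hq hsq.le hb.2.2 (hA'.pow x hx)
        (hZb ▸ (le_normalizer_core s T).trans (normalizer_le_oz s _) (hA'T hx))
      exact c.finish hnt hz1 hz.2.2 hfpf hnoR (hTK (hA'T hx)) (hA'.pow x hx) (hTz x (hA'T hx)) hxn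
        (hTK (core_le s T hb.1)) hb.2.2 hb1 (hTz b (core_le s T hb.1)) hxb
    · obtain ⟨a, ha, ha1, v, hv, hv1, -, hav⟩ := hA'.exists_meet c.hr (Ne.symm c.hrs) (isPGroup_core r K)
        c.hR1 (fun a ha => le_normalizer_core r K (hTK (core_le s T (hA'Z ha).1)))
      exact hfpf v hv hv1 a (hA'.pow a ha) ha1 (hTz a (core_le s T (hA'Z ha).1)) hav
  set X0 := core q T with hX0
  have hcores : ∀ t : ℕ, t.Prime → t ∣ Nat.card T → core t T ≤ X0 := by
    intro t ht hd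
    rcases hTπ t ht hd with rfl | rfl
    · exact le_rfl
    · rw [hS]; exact bot_le
  have hQX : Q ≤ X0 := le_core hQT (hTK.trans (le_normalizer_core q K)) (isPGroup_core q K)
  have hzX : z ∈ oz q X0 := ⟨hQX hz.1, fun g hg => (hTz g (core_le q T hg)).symm, hz.2.2⟩
  have hnc : ¬ IsCyclic X0 := by
    intro hcyc
    obtain ⟨Xq, hXT, hX0X, hXπ, hXdom⟩ := exists_hall_in T {q} X0 (core_le q T)
      (isPiSet_pGroup (isPGroup_core q T) c.hq rfl)
    have hn : T ≤ normalizer (Xq : Set G) := by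
      rw [le_normalizer_iff]
      intro g hg a ha
      have hd : g * a * g⁻¹ * a⁻¹ ∈ X0 := by
        refine mem_of_cores (mul_mem (mul_mem (mul_mem hg (hXT ha)) (inv_mem hg)) (inv_mem (hXT ha)))
          (fun t ht v hv => ?_) hcores
        by_cases hd : t ∣ Nat.card T
        · rcases hTπ t ht hd with rfl | rfl
          · exact (mem_centralizer_iff.mp (comm_mem_centralizer_of_cyclic (le_normalizer_core t T hg)
              (le_normalizer_core t T (hXT ha))) v hv).symm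
          · rw [hS, mem_bot] at hv
            rw [hv]; exact Commute.one_right _
        · rw [core_eq_bot_of_not_dvd ht hd, mem_bot] at hv
          rw [hv]; exact Commute.one_right _
      have := mul_mem (hX0X hd) ha
      rwa [inv_mul_cancel_right] at this
    obtain ⟨A', hA'X, hA'⟩ := rk_hall (π := ({q} : Set ℕ)) c.hq rfl hXdom hrkT
    exact not_rk_cyclic (M := X0) ⟨A', hA'X.trans (le_core hXT hn (isPGroup_of_pi c.hq hXπ)), hA'⟩
  obtain ⟨x, hxU, hxn⟩ := exists_omegaTwo c.hq hq2 (isPGroup_core q T) hnc hzX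
  set U := omegaTwo c.hq hq2 X0 hzX with hU
  have hUT : ∀ a ∈ U, a ∈ T := fun a ha => core_le q T ha.1
  have hTU : T ≤ normalizer (U : Set G) := by
    rw [le_normalizer_iff]
    intro e he a ha
    have hen := le_normalizer_core q T he
    refine ⟨conj_mem hen ha.1, by rw [conj_pow, ha.2.1, mul_one, mul_inv_cancel], fun g hg => ?_⟩
    obtain ⟨k, hk⟩ := mem_zpowers_iff.mp (ha.2.2 _ (conj_mem' hen hg))
    rw [show g * (e * a * e⁻¹) * g⁻¹ * (e * a * e⁻¹)⁻¹ =
      e * ((e⁻¹ * g * e) * a * (e⁻¹ * g * e)⁻¹ * a⁻¹) * e⁻¹ by group, ← hk,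
      ((hTz e he).zpow_right k).eq, mul_inv_cancel_right]
    exact zpow_mem (mem_zpowers z) k
  have hKV : K ≤ normalizer (oz r R : Set G) := (le_normalizer_core r K).trans (normalizer_le_oz r _)
  have hzV : zpowers z ≤ centralizer (oz r R : Set G) :=
    zpowers_le.mpr (mem_centralizer_iff.mpr fun a ha => (hQR z hz.1 a ha.1).eq.symm)
  have hfix : ∀ (g : G), g ∈ T → g ^ s = 1 → ∀ a ∈ U,
      g * a * g⁻¹ * a⁻¹ ∈ centralizer (oz r R : Set G) → Commute g a := by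
    intro g hg hgs a ha hc
    have hd : g * a * g⁻¹ * a⁻¹ ∈ U := mul_mem (conj_mem (hTU hg) ha) (inv_mem ha)
    obtain ⟨k, hk⟩ := mem_zpowers_iff.mp (hnoR _ (hTK (hUT _ hd)) hd.2.1 (hTz _ (hUT _ hd)) hc)
    refine commute_of_fixed_comm hgs (c := g * a * g⁻¹ * a⁻¹) (by rw [inv_mul_cancel_right]) ?_ hd.2.1
      ((Nat.coprime_primes c.hs c.hq).mpr (Ne.symm c.hqs))
    rw [← hk]
    exact (hTz g hg).zpow_right k
  have hBs := c.hE.pow B hB
  have hres := fpf_abelian (V := oz r R) (A := U) (oz_comm r R)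
    (coprime_card c.hq c.hr c.hqr ((isPGroup_core q T).to_le fun a ha => ha.1) (isPGroup_oz r R))
    (fun a ha => hKV (hTK (hUT a ha))) (fun a ha b hb => hzV (hb.2.2 a ha.1)) c.hs.pos hBs
    (hKV (c.hEK hB)) (hTU hBT')
    (fun v hv hBv => by
      by_contra hv1
      exact hfpf v hv.1 hv1 B hBs hB1 hBz hBv)
    (fun i hi0 his a ha hc => by
      have hg : (B ^ i) ^ s = 1 := by rw [← pow_mul, mul_comm, pow_mul, hBs, one_pow]
      have hBi : B ^ i ≠ 1 := pow_ne_one_of_lt_orderOf (by omega) (by rw [orderOf_eq_prime hBs hB1]; exact his)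
      rw [comm_of_commute (commute_base c.hs hBs (pow_mem (mem_zpowers B) i) hBi
        (hfix _ (pow_mem hBT' i) hg a ha hc))]
      exact one_mem _)
  exact c.finish hnt hz1 hz.2.2 hfpf hnoR (hTK (hUT x hxU)) hxU.2.1 (hTz x (hUT x hxU)) hxn (c.hEK hB) hBs hB1
    hBz (hfix B hBT' hBs x hxU (hres x hxU)).symm

theorem false (c : Conf p q r s P K E) (hnt : NT G) : False := by
  rcases oz_cases c.hr (isPGroup_core r K) c.hR1 with ⟨y, hy1, -, hY⟩ | hA
  swap
  · exact c.noncyclic hnt hA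
  rcases oz_cases c.hq (isPGroup_core q K) c.hQ1 with ⟨z, hz1, -, hZ⟩ | hA
  swap
  · exact c.symm.noncyclic hnt hA
  rcases lt_or_gt_of_ne c.hqr with h | h
  · exact c.both_cyclic hnt hZ hz1 hY hy1 h
  · exact c.symm.both_cyclic hnt hY hy1 hZ hz1 h

end Conf

theorem rk_top (hnt : NT G) {σ : Finset ℕ} (hσ : σ.card = 4) (hσp : ∀ t ∈ σ, t.Prime)
    (h2 : ∀ a ∈ σ, ∀ b ∈ σ, a ≠ b → ∃ g : G, orderOf g = a * b) {r : ℕ} (hr : r ∈ σ) :
    Rk r (⊤ : Subgroup G) := by
  classical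
  have hr' := hσp r hr
  haveI : Fact r.Prime := ⟨hr'⟩
  obtain ⟨X, -, -, hXπ, hXdom⟩ := exists_hall_in (⊤ : Subgroup G) {r} ⊥ le_top
    (fun t ht hd => by rw [card_bot] at hd; exact absurd hd ht.not_dvd_one)
  have hX : IsPGroup r X := isPGroup_of_pi hr' hXπ
  have hrest : (σ.erase r).card = 3 := by rw [Finset.card_erase_of_mem hr, hσ]
  obtain ⟨a, b, d, hab, had, hbd, he⟩ := Finset.card_eq_three.mp hrest
  have hmem : ∀ t ∈ ({a, b, d} : Finset ℕ), t ∈ σ ∧ r ≠ t := fun t ht => by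
    rw [← he, Finset.mem_erase] at ht
    exact ⟨ht.2, Ne.symm ht.1⟩
  have hpair : ∀ t ∈ ({a, b, d} : Finset ℕ), ∃ u v : G, u ∈ X ∧ u ^ r = 1 ∧ u ≠ 1 ∧ v ^ t = 1 ∧ v ≠ 1 ∧
      Commute u v := by
    intro t ht
    obtain ⟨g, hg⟩ := h2 r hr t (hmem t ht).1 (hmem t ht).2
    have htp := hσp t (hmem t ht).1
    obtain ⟨k, -, hk⟩ := hXdom (zpowers (g ^ t)) le_top (isPiSet_zpowers (t := r)
      (by rw [← pow_mul, mul_comm, ← hg, pow_orderOf_eq_one]) hr' rfl)
    refine ⟨k * g ^ t * k⁻¹, k * g ^ r * k⁻¹, hk _ (mem_zpowers _), ?_, ?_, ?_, ?_, ?_⟩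
    · rw [conj_pow, ← pow_mul, mul_comm t, ← hg, pow_orderOf_eq_one, mul_one, mul_inv_cancel]
    · rw [Ne, mul_inv_eq_one, mul_eq_left]
      exact pow_ne_one_of_lt_orderOf htp.ne_zero (by rw [hg]; exact lt_mul_left htp.pos hr'.one_lt)
    · rw [conj_pow, ← pow_mul, ← hg, pow_orderOf_eq_one, mul_one, mul_inv_cancel]
    · rw [Ne, mul_inv_eq_one, mul_eq_left]
      exact pow_ne_one_of_lt_orderOf hr'.ne_zero (by rw [hg]; exact lt_mul_right hr'.pos htp.one_lt)
    · exact (((Commute.refl g).pow_pow t r)).map (MulAut.conj k).toMonoidHom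
  obtain ⟨ua, va, hua, huar, hua1, hva, hva1, hca⟩ := hpair a (by simp)
  have hX1 : X ≠ ⊥ := fun e => hua1 (by rwa [e, mem_bot] at hua)
  obtain ⟨z, hz, hz1⟩ := (bot_or_exists_ne_one _).resolve_left (oz_ne_bot hX hX1)
  by_cases huniq : ∀ u ∈ X, u ^ r = 1 → u ∈ zpowers z
  swap
  · push Not at huniq
    obtain ⟨u, hu, hur, hun⟩ := huniq
    obtain ⟨A, -, hA, -⟩ := exists_el hr' hz.2.2 hz1 hur (hz.2.1 u hu) hun (L := ⊤) (mem_top z) (mem_top u)
    exact ⟨A, le_top, hA⟩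
  exfalso
  obtain ⟨ub, vb, hub, hubr, hub1, hvb, hvb1, hcb⟩ := hpair b (by simp)
  obtain ⟨ud, vd, hud, hudr, hud1, hvd, hvd1, hcd⟩ := hpair d (by simp)
  exact luc hnt hr' (hσp a (hmem a (by simp)).1) (hσp b (hmem b (by simp)).1) (hσp d (hmem d (by simp)).1)
    (hmem a (by simp)).2 (hmem b (by simp)).2 (hmem d (by simp)).2 hab hbd had hz.2.2 hz1
    hva hva1 (commute_base hr' hz.2.2 (huniq ua hua huar) hua1 hca)
    hvb hvb1 (commute_base hr' hz.2.2 (huniq ub hub hubr) hub1 hcb)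
    hvd hvd1 (commute_base hr' hz.2.2 (huniq ud hud hudr) hud1 hcd)

/-- At most two cores are nontrivial. -/
theorem no_three_cores (hnt : NT G) {L : Subgroup G} {a b c : ℕ} (ha : a.Prime) (hb : b.Prime)
    (hc : c.Prime) (hab : a ≠ b) (hbc : b ≠ c) (hac : a ≠ c) (h1 : core a L ≠ ⊥) (h2 : core b L ≠ ⊥)
    (h3 : core c L ≠ ⊥) : False := by
  haveI : Fact a.Prime := ⟨ha⟩
  haveI : Fact b.Prime := ⟨hb⟩
  haveI : Fact c.Prime := ⟨hc⟩
  obtain ⟨x, hx, hx1⟩ := (bot_or_exists_ne_one _).resolve_left h1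
  obtain ⟨y, hy, hy1⟩ := (bot_or_exists_ne_one _).resolve_left h2
  obtain ⟨z, hz, hz1⟩ := (bot_or_exists_ne_one _).resolve_left h3
  obtain ⟨i, hi1, hi⟩ := exists_pow_prime (isPGroup_core a L) hx hx1
  obtain ⟨j, hj1, hj⟩ := exists_pow_prime (isPGroup_core b L) hy hy1
  obtain ⟨k, hk1, hk⟩ := exists_pow_prime (isPGroup_core c L) hz hz1
  exact hnt.triple ha hb hc hab hbc hac hi hi1 hj hj1 hk hk1 ((core_commute ha hb hab x hx y hy).pow_pow i j)
    ((core_commute hb hc hbc y hy z hz).pow_pow j k) ((core_commute ha hc hac x hx z hz).pow_pow i k)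

/-- Two cores and two further primes. -/
theorem caseI (hnt : NT G) {p q r s : ℕ} (hp : p.Prime) (hq : q.Prime) (hr : r.Prime) (hs : s.Prime)
    (hpq : p ≠ q) (hpr : p ≠ r) (hps : p ≠ s) (hqr : q ≠ r) (hqs : q ≠ s) (hrs : r ≠ s)
    (hπ : ∀ t : ℕ, t.Prime → t ∣ Nat.card (⊤ : Subgroup G) → t = p ∨ t = q ∨ t = r ∨ t = s)
    (hP1 : core p (⊤ : Subgroup G) ≠ ⊥) (hQ1 : core q (⊤ : Subgroup G) ≠ ⊥)
    (hrk : ∀ t, t = r ∨ t = s → Rk t (⊤ : Subgroup G)) : False := by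
  obtain ⟨T, -, -, hTπ, hTdom⟩ := exists_hall_in (⊤ : Subgroup G) {t | t = r ∨ t = s} ⊥ le_top
    (fun t ht hd => by rw [card_bot] at hd; exact absurd hd ht.not_dvd_one)
  have hR0 : core r (⊤ : Subgroup G) = ⊥ := by
    by_contra h; exact no_three_cores hnt hp hq hr hpq hqr hpr hP1 hQ1 h
  have hS0 : core s (⊤ : Subgroup G) = ⊥ := by
    by_contra h; exact no_three_cores hnt hp hq hs hpq hqs hps hP1 hQ1 h
  haveI : (core p (⊤ : Subgroup G)).Normal := normalizer_eq_top_iff.mp (top_le_iff.mp (le_normalizer_core p ⊤))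
  haveI : (core q (⊤ : Subgroup G)).Normal := normalizer_eq_top_iff.mp (top_le_iff.mp (le_normalizer_core q ⊤))
  have hpT : ¬ p ∣ Nat.card T := fun hd => (hTπ p hp hd).elim hpr hps
  have hqT : ¬ q ∣ Nat.card T := fun hd => (hTπ q hq hd).elim hqr hqs
  have hf : ∀ x ∈ T, x ∈ centralizer (core p (⊤ : Subgroup G) : Set G) →
      x ∈ centralizer (core q (⊤ : Subgroup G) : Set G) → x = 1 := by
    intro x hx h1 h2
    refine eq_one_of_mem_sup hp hq hpq (isPGroup_core p ⊤) (isPGroup_core q ⊤) le_normalizer_of_normal hpT hqT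
      hx (mem_of_cores (mem_top x) (fun t ht y hy => ?_) fun t ht hd => ?_)
    · by_cases hd : t ∣ Nat.card (⊤ : Subgroup G)
      · rcases hπ t ht hd with rfl | rfl | rfl | rfl
        · exact (mem_centralizer_iff.mp h1 y hy).symm
        · exact (mem_centralizer_iff.mp h2 y hy).symm
        · rw [hR0, mem_bot] at hy; rw [hy]; exact Commute.one_right x
        · rw [hS0, mem_bot] at hy; rw [hy]; exact Commute.one_right x
      · rw [core_eq_bot_of_not_dvd ht hd, mem_bot] at hy; rw [hy]; exact Commute.one_right x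
    · rcases hπ t ht hd with rfl | rfl | rfl | rfl
      · exact le_sup_left
      · exact le_sup_right
      · rw [hR0]; exact bot_le
      · rw [hS0]; exact bot_le
  have hEr : Rk r T := rk_hall (π := {t | t = r ∨ t = s}) hr (Or.inl rfl) hTdom (hrk r (Or.inl rfl))
  have hEs : Rk s T := rk_hall (π := {t | t = r ∨ t = s}) hs (Or.inr rfl) hTdom (hrk s (Or.inr rfl))
  have hT1 : T ≠ ⊥ := by
    rintro rfl
    obtain ⟨A, hA, hA'⟩ := hEr
    obtain ⟨c, hc, hc1⟩ := hA'.exists_not_mem 1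
    exact hc1 (by rw [mem_bot.mp (hA hc)]; exact one_mem _)
  obtain ⟨t, ht, htd, ht1⟩ := exists_core hT1
  by_cases hr1 : core r T = ⊥
  · have hts : t = s := (hTπ t ht htd).resolve_left fun e => ht1 (e ▸ hr1)
    exact caseI_aux hnt hp hq hs hr hpq hps hpr hqs hqr (Ne.symm hrs) (isPGroup_core p ⊤) (isPGroup_core q ⊤)
      hP1 hQ1 (core_commute hp hq hpq) (fun l hl hd => (hTπ l hl hd).symm) hf hEs hEr (hts ▸ ht1) (Or.inl hr1)
  by_cases hs1 : core s T = ⊥ ∨ r < s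
  · exact caseI_aux hnt hp hq hr hs hpq hpr hps hqr hqs hrs (isPGroup_core p ⊤) (isPGroup_core q ⊤)
      hP1 hQ1 (core_commute hp hq hpq) hTπ hf hEr hEs hr1 hs1
  push Not at hs1
  exact caseI_aux hnt hp hq hs hr hpq hps hpr hqs hqr (Ne.symm hrs) (isPGroup_core p ⊤) (isPGroup_core q ⊤)
    hP1 hQ1 (core_commute hp hq hpq) (fun l hl hd => (hTπ l hl hd).symm) hf hEs hEr hs1.1
    (Or.inr (lt_of_le_of_ne hs1.2 (Ne.symm hrs)))

/-- One core in `G`. -/
theorem caseII (hnt : NT G) {p q r s : ℕ} (hp : p.Prime) (hq : q.Prime) (hr : r.Prime) (hs : s.Prime)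
    (hpq : p ≠ q) (hpr : p ≠ r) (hps : p ≠ s) (hqr : q ≠ r) (hqs : q ≠ s) (hrs : r ≠ s)
    {P K : Subgroup G} [P.Normal] (hP : IsPGroup p P) (hP1 : P ≠ ⊥)
    (hπ : ∀ t : ℕ, t.Prime → t ∣ Nat.card K → t = q ∨ t = r ∨ t = s)
    (hfaith : ∀ x ∈ K, x ∈ centralizer (P : Set G) → x = 1)
    (hrk : ∀ t, t = q ∨ t = r ∨ t = s → Rk t K) (hQ1 : core q K ≠ ⊥) : False := by
  by_cases hR : core r K = ⊥
  swap
  · have hS : core s K = ⊥ := by
      by_contra h; exact no_three_cores hnt hq hr hs hqr hrs hqs hQ1 hR h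
    obtain ⟨E, hEK, hE⟩ := hrk s (Or.inr (Or.inr rfl))
    exact Conf.false (p := p) (P := P) (K := K) (E := E) ⟨hp, hq, hr, hs, hpq, hpr, hps, hqr, hqs, hrs,
      inferInstance, hP, hP1, hfaith, hπ, hQ1, hR, hS, hEK, hE, hrk q (Or.inl rfl),
      hrk r (Or.inr (Or.inl rfl))⟩ hnt
  by_cases hS : core s K = ⊥
  swap
  · obtain ⟨E, hEK, hE⟩ := hrk r (Or.inr (Or.inl rfl))
    exact Conf.false (p := p) (P := P) (K := K) (E := E) ⟨hp, hq, hs, hr, hpq, hps, hpr, hqs, hqr, Ne.symm hrs,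
      inferInstance, hP, hP1, hfaith,
      fun t ht hd => by rcases hπ t ht hd with h | h | h <;> simp [h], hQ1, hS, hR, hEK, hE, hrk q (Or.inl rfl),
      hrk s (Or.inr (Or.inr rfl))⟩ hnt
  obtain ⟨T, hTK, -, hTπ, hTdom⟩ := exists_hall_in K {t | t = r ∨ t = s} ⊥ bot_le
    (fun t ht hd => by rw [card_bot] at hd; exact absurd hd ht.not_dvd_one)
  have hqT : ¬ q ∣ Nat.card T := fun hd => (hTπ q hq hd).elim hqr hqs
  have hfQ : ∀ x ∈ T, x ∈ centralizer (core q K : Set G) → x = 1 := by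
    intro x hx h1
    refine eq_one_of_mem_pGroup hq (isPGroup_core q K) hqT hx
      (mem_of_cores (hTK hx) (fun t ht y hy => ?_) fun t ht hd => ?_)
    · by_cases hd : t ∣ Nat.card K
      · rcases hπ t ht hd with rfl | rfl | rfl
        · exact (mem_centralizer_iff.mp h1 y hy).symm
        · rw [hR, mem_bot] at hy; rw [hy]; exact Commute.one_right x
        · rw [hS, mem_bot] at hy; rw [hy]; exact Commute.one_right x
      · rw [core_eq_bot_of_not_dvd ht hd, mem_bot] at hy; rw [hy]; exact Commute.one_right x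
    · rcases hπ t ht hd with rfl | rfl | rfl
      · exact le_rfl
      · rw [hR]; exact bot_le
      · rw [hS]; exact bot_le
  have hfP : ∀ x ∈ core q K, x ∈ centralizer (P : Set G) → x = 1 := fun x hx => hfaith x (core_le q K hx)
  have hTQ : T ≤ normalizer (core q K : Set G) := hTK.trans (le_normalizer_core q K)
  have hEr : Rk r T := rk_hall (π := {t | t = r ∨ t = s}) hr (Or.inl rfl) hTdom (hrk r (Or.inr (Or.inl rfl)))
  have hEs : Rk s T := rk_hall (π := {t | t = r ∨ t = s}) hs (Or.inr rfl) hTdom (hrk s (Or.inr (Or.inr rfl)))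
  have hT1 : T ≠ ⊥ := by
    rintro rfl
    obtain ⟨A, hA, hA'⟩ := hEr
    obtain ⟨c, hc, hc1⟩ := hA'.exists_not_mem 1
    exact hc1 (by rw [mem_bot.mp (hA hc)]; exact one_mem _)
  obtain ⟨t, ht, htd, ht1⟩ := exists_core hT1
  by_cases hr1 : core r T = ⊥
  · have hts : t = s := (hTπ t ht htd).resolve_left fun e => ht1 (e ▸ hr1)
    exact caseII1 hnt hp hq hs hr hpq hps hpr hqs hqr (Ne.symm hrs) hP (isPGroup_core q K) hP1 hQ1 hTQ
      (fun l hl hd => (hTπ l hl hd).symm) hfP hfQ hEr (hts ▸ ht1) (Or.inl hr1)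
  by_cases hs1 : core s T = ⊥ ∨ r < s
  · exact caseII1 hnt hp hq hr hs hpq hpr hps hqr hqs hrs hP (isPGroup_core q K) hP1 hQ1 hTQ hTπ hfP hfQ
      hEs hr1 hs1
  push Not at hs1
  exact caseII1 hnt hp hq hs hr hpq hps hpr hqs hqr (Ne.symm hrs) hP (isPGroup_core q K) hP1 hQ1 hTQ
    (fun l hl hd => (hTπ l hl hd).symm) hfP hfQ hEr hs1.1 (Or.inr (lt_of_le_of_ne hs1.2 (Ne.symm hrs)))

theorem solvable_false (hnt : NT G) (σ : Finset ℕ) (hσ : σ.card = 4) (hσp : ∀ t ∈ σ, t.Prime)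
    (hπ : ∀ t : ℕ, t.Prime → t ∣ Nat.card G → t ∈ σ)
    (h2 : ∀ a ∈ σ, ∀ b ∈ σ, a ≠ b → ∃ g : G, orderOf g = a * b) : False := by
  classical
  have hrk : ∀ t ∈ σ, Rk t (⊤ : Subgroup G) := fun t ht => rk_top hnt hσ hσp h2 ht
  have htop : (⊤ : Subgroup G) ≠ ⊥ := by
    intro e
    obtain ⟨t, ht⟩ := Finset.card_pos.mp (by omega : 0 < σ.card)
    obtain ⟨A, hA, hA'⟩ := hrk t ht
    obtain ⟨c, hc, hc1⟩ := hA'.exists_not_mem 1
    exact hc1 (by rw [mem_bot.mp (e ▸ hA hc : c ∈ (⊥ : Subgroup G))]; exact one_mem _)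
  obtain ⟨p, hp, hpd, hP1⟩ := exists_core htop
  rw [Subgroup.card_top] at hpd
  have hpσ : p ∈ σ := hπ p hp hpd
  obtain ⟨a, b, d, hab, had, hbd, he⟩ := Finset.card_eq_three.mp
    (show (σ.erase p).card = 3 by rw [Finset.card_erase_of_mem hpσ, hσ])
  have hmem : ∀ t ∈ ({a, b, d} : Finset ℕ), t ∈ σ ∧ t.Prime ∧ p ≠ t := fun t ht => by
    rw [← he, Finset.mem_erase] at ht
    exact ⟨ht.2, hσp t ht.2, Ne.symm ht.1⟩
  obtain ⟨haσ, ha, hpa⟩ := hmem a (by simp)
  obtain ⟨hbσ, hb, hpb⟩ := hmem b (by simp)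
  obtain ⟨hdσ, hd, hpd'⟩ := hmem d (by simp)
  have hπ' : ∀ t : ℕ, t.Prime → t ∣ Nat.card (⊤ : Subgroup G) → t = p ∨ t = a ∨ t = b ∨ t = d := by
    intro t ht htd
    rw [Subgroup.card_top] at htd
    by_cases htp : t = p
    · exact Or.inl htp
    · have := Finset.mem_erase.mpr ⟨htp, hπ t ht htd⟩
      rw [he] at this
      exact Or.inr (by simpa using this)
  by_cases hA : core a (⊤ : Subgroup G) = ⊥
  swap
  · exact caseI hnt hp ha hb hd hpa hpb hpd' hab had hbd hπ' hP1 hA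
      (fun t ht => ht.elim (fun e => e ▸ hrk b hbσ) (fun e => e ▸ hrk d hdσ))
  by_cases hB : core b (⊤ : Subgroup G) = ⊥
  swap
  · exact caseI hnt hp hb ha hd hpb hpa hpd' (Ne.symm hab) hbd had
      (fun t ht h => by rcases hπ' t ht h with h | h | h | h <;> simp [h]) hP1 hB
      (fun t ht => ht.elim (fun e => e ▸ hrk a haσ) (fun e => e ▸ hrk d hdσ))
  by_cases hD : core d (⊤ : Subgroup G) = ⊥
  swap
  · exact caseI hnt hp hd ha hb hpd' hpa hpb (Ne.symm had) (Ne.symm hbd) hab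
      (fun t ht h => by rcases hπ' t ht h with h | h | h | h <;> simp [h]) hP1 hD
      (fun t ht => ht.elim (fun e => e ▸ hrk a haσ) (fun e => e ▸ hrk b hbσ))
  haveI : (core p (⊤ : Subgroup G)).Normal := normalizer_eq_top_iff.mp (top_le_iff.mp (le_normalizer_core p ⊤))
  obtain ⟨K, -, -, hKπ, hKdom⟩ := exists_hall_in (⊤ : Subgroup G) {t | t = a ∨ t = b ∨ t = d} ⊥ le_top
    (fun t ht h => by rw [card_bot] at h; exact absurd h ht.not_dvd_one)
  have hpK : ¬ p ∣ Nat.card K := fun h => by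
    rcases hKπ p hp h with e | e | e
    exacts [hpa e, hpb e, hpd' e]
  have hfaith : ∀ x ∈ K, x ∈ centralizer (core p (⊤ : Subgroup G) : Set G) → x = 1 := by
    intro x hx h1
    refine eq_one_of_mem_pGroup hp (isPGroup_core p ⊤) hpK hx
      (mem_of_cores (mem_top x) (fun t ht y hy => ?_) fun t ht h => ?_)
    · by_cases h : t ∣ Nat.card (⊤ : Subgroup G)
      · rcases hπ' t ht h with rfl | rfl | rfl | rfl
        · exact (mem_centralizer_iff.mp h1 y hy).symm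
        all_goals
          first | rw [hA, mem_bot] at hy | rw [hB, mem_bot] at hy | rw [hD, mem_bot] at hy
          rw [hy]; exact Commute.one_right x
      · rw [core_eq_bot_of_not_dvd ht h, mem_bot] at hy; rw [hy]; exact Commute.one_right x
    · rcases hπ' t ht h with rfl | rfl | rfl | rfl
      · exact le_rfl
      · rw [hA]; exact bot_le
      · rw [hB]; exact bot_le
      · rw [hD]; exact bot_le
  have hrkK : ∀ t, t = a ∨ t = b ∨ t = d → Rk t K := fun t ht => by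
    have htσ : t ∈ σ := by rcases ht with rfl | rfl | rfl <;> assumption
    exact rk_hall (π := {t | t = a ∨ t = b ∨ t = d}) (hσp t htσ) ht hKdom (hrk t htσ)
  have hK1 : K ≠ ⊥ := by
    rintro rfl
    obtain ⟨A, hA, hA'⟩ := hrkK a (Or.inl rfl)
    obtain ⟨c, hc, hc1⟩ := hA'.exists_not_mem 1
    exact hc1 (by rw [mem_bot.mp (hA hc)]; exact one_mem _)
  obtain ⟨t, ht, htd, ht1⟩ := exists_core hK1
  rcases hKπ t ht htd with rfl | rfl | rfl
  · exact caseII hnt hp ha hb hd hpa hpb hpd' hab had hbd (isPGroup_core p ⊤) hP1 hKπ hfaith hrkK ht1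
  · exact caseII hnt hp hb ha hd hpb hpa hpd' (Ne.symm hab) hbd had (isPGroup_core p ⊤) hP1
      (fun l hl h => by rcases hKπ l hl h with h | h | h <;> simp [h]) hfaith
      (fun l hl => hrkK l (by rcases hl with h | h | h <;> simp [h])) ht1
  · exact caseII hnt hp hd ha hb hpd' hpa hpb (Ne.symm had) (Ne.symm hbd) hab (isPGroup_core p ⊤) hP1
      (fun l hl h => by rcases hKπ l hl h with h | h | h <;> simp [h]) hfaith
      (fun l hl => hrkK l (by rcases hl with h | h | h <;> simp [h])) ht1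

end Assembly

/-- A criterion for nonsolvability from element orders: let G be a finite group and σ a set of at least four primes such that for all distinct p, q ∈ σ the product pq is the order of some element of G, while for all pairwise distinct p, q, r ∈ σ no element of G has order pqr. Then G is not solvable. -/
theorem result {G : Type*} [Group G] [Finite G]
    (σ : Finset ℕ) (hσ : 4 ≤ σ.card) (hprime : ∀ p ∈ σ, p.Prime)
    (h2 : ∀ p ∈ σ, ∀ q ∈ σ, p ≠ q → ∃ g : G, orderOf g = p * q)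
    (h3 : ∀ p ∈ σ, ∀ q ∈ σ, ∀ r ∈ σ, p ≠ q → q ≠ r → p ≠ r → ∀ g : G, orderOf g ≠ p * q * r) :
    ¬ Group.IsSolvable G := by
  intro hsol
  classical
  obtain ⟨τ, hτσ, hτ⟩ := Finset.exists_subset_card_eq hσ
  obtain ⟨H, hH⟩ := CfsgLib.Solvable.exists_isPiHall (G := G) (τ : Set ℕ)
  have hπ : ∀ t : ℕ, t.Prime → t ∣ Nat.card H → t ∈ τ := fun t ht hd => by simpa using hH.1 t ht hd
  refine solvable_false (G := H) ?_ τ hτ (fun t ht => hprime t (hτσ ht)) hπ ?_
  · intro a b c ha hb hc hab hbc hac g hg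
    have hd : ∀ t : ℕ, t.Prime → t ∣ a * b * c → t ∈ τ := fun t ht h =>
      hπ t ht (h.trans (hg ▸ orderOf_dvd_natCard g))
    exact h3 a (hτσ (hd a ha ⟨b * c, mul_assoc a b c⟩)) b (hτσ (hd b hb ⟨a * c, by ring⟩))
      c (hτσ (hd c hc (dvd_mul_left c _))) hab hbc hac g (by rw [Subgroup.orderOf_coe]; exact hg)
  · intro a ha b hb hab
    obtain ⟨g, hg⟩ := h2 a (hτσ ha) b (hτσ hb) hab
    obtain ⟨k, hk⟩ := CfsgLib.Solvable.exists_conj_le_isPiHall hH (K := zpowers g) (fun t ht hd => by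
      rw [Nat.card_zpowers, hg] at hd
      rcases ht.dvd_mul.mp hd with h | h
      · simpa [(Nat.prime_dvd_prime_iff_eq ht (hprime a (hτσ ha))).mp h] using ha
      · simpa [(Nat.prime_dvd_prime_iff_eq ht (hprime b (hτσ hb))).mp h] using hb)
    have hmem : k * g * k⁻¹ ∈ H := hk (by
      rw [CfsgLib.Solvable.mem_conj_smul]
      simp [mul_assoc])
    refine ⟨⟨_, hmem⟩, ?_⟩
    rw [← Subgroup.orderOf_coe]
    exact (MulEquiv.orderOf_eq (MulAut.conj k) g).trans hg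

end Cfsg.Agent.S3814
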