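import Cfsg.Statements.S3815


set_option autoImplicit false
open Cfsg

namespace Cfsg.Agent.S3815

/-- Let G be a finite group, p a prime and d ∈ G an element of order prime to p. If dg has order prime to p for every element g ∈ G of order prime to p, then d ∈ O_{p'}(G). -/
theorem result {G : Type*} [Group G] [Finite G] {p : ℕ} [Fact p.Prime]
    (d : G) (hd : (orderOf d).Coprime p)
    (h : ∀ g : G, (orderOf g).Coprime p → (orderOf (d * g)).Coprime p) :
    d ∈ Cfsg.pPrimeCore p G := by
  have horder : (orderOf d).Coprime p := hd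
  let D : Submonoid G :=
    { carrier := {d | (orderOf d).Coprime p ∧
        ∀ g : G, (orderOf g).Coprime p → (orderOf (d * g)).Coprime p}
      one_mem' := ⟨by simp, fun g hg => by simpa using hg⟩
      mul_mem' := by
        rintro a b ⟨-, ha⟩ ⟨hb, hb'⟩
        refine ⟨ha b hb, fun g hg => ?_⟩
        rw [mul_assoc]
        exact ha _ (hb' g hg) }
  have hpow : ∀ x ∈ D, x⁻¹ ∈ D := by
    intro x hx
    have h1 : x * x ^ (orderOf x - 1) = 1 := by
      rw [← pow_succ', Nat.sub_add_cancel (orderOf_pos x)]
      exact pow_orderOf_eq_one x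
    rw [inv_eq_of_mul_eq_one_right h1]
    exact pow_mem hx _
  let N : Subgroup G := { D with inv_mem' := fun {x} hx => hpow x hx }
  have hconj : ∀ x y : G, orderOf (y * x * y⁻¹) = orderOf x := fun x y => by
    exact orderOf_injective (MulAut.conj y).toMonoidHom (MulAut.conj y).injective x
  have hN : N.Normal := by
    refine ⟨fun x hx y => ⟨by rw [hconj]; exact hx.1, fun g hg => ?_⟩⟩
    have : y * x * y⁻¹ * g = y * (x * (y⁻¹ * g * y)) * y⁻¹ := by group
    rw [this, hconj]
    refine hx.2 _ ?_
    have h2 := hconj g y⁻¹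
    rw [inv_inv] at h2
    rwa [h2]
  have hcop : (Nat.card N).Coprime p := by
    refine (Nat.coprime_comm.mp ((Fact.out : p.Prime).coprime_iff_not_dvd.mpr fun hdvd => ?_))
    obtain ⟨z, hz⟩ := exists_prime_orderOf_dvd_card' p hdvd
    have h3 : (orderOf (z : G)).Coprime p := z.2.1
    rw [Subgroup.orderOf_coe, hz, Nat.coprime_self] at h3
    exact (Fact.out : p.Prime).ne_one h3
  exact (le_sSup (show N ∈ {N : Subgroup G | N.Normal ∧ (Nat.card N).Coprime p} from ⟨hN, hcop⟩) :
    N ≤ pPrimeCore p G) ⟨horder, h⟩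

end Cfsg.Agent.S3815
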