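import Cfsg.Statements.S3816
import Cfsg.Agent.Lib.Solvable.FlavellFixedMain

set_option autoImplicit false
open Cfsg

namespace Cfsg.Agent.S3816

/-- Let p be an odd prime, H a finite solvable group of order prime to p, and x an automorphism of H of order p (so P = ⟨x⟩ has prime order p > 2 and acts coprimely on H). For h ∈ H let [h, P] be the subgroup generated by the commutators h⁻¹·xⁱ(h), and let [H, P] be the subgroup generated by all of these. Then the fixed points of x in [H, P] are generated by the fixed points of x in the subgroups [h, P], h ∈ H. -/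
theorem result {H : Type*} [Group H] [Finite H]
    [Group.IsSolvable H] {p : ℕ} [Fact p.Prime] (hp : p ≠ 2) (hcop : (Nat.card H).Coprime p)
    (x : MulAut H) (hx : orderOf x = p) :
    Subgroup.closure {c : H | ∃ h : H, ∃ i : ℕ, c = h⁻¹ * (x ^ i) h} ⊓ (x : H →* H).eqLocus (MonoidHom.id H) =
      ⨆ h : H, Subgroup.closure {c : H | ∃ i : ℕ, c = h⁻¹ * (x ^ i) h} ⊓ (x : H →* H).eqLocus (MonoidHom.id H) := by
  classical
  have hpp : p.Prime := Fact.out
  set P := Subgroup.zpowers x
  let G := H ⋊[P.subtype] P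
  haveI : Finite (MulAut H) := Finite.of_injective (fun f => (f : H → H)) DFunLike.coe_injective
  haveI : Finite G := Finite.of_equiv _ SemidirectProduct.equivProd.symm
  let i : H →* G := SemidirectProduct.inl
  let y : G := SemidirectProduct.inr ⟨x, Subgroup.mem_zpowers x⟩
  set N := i.range with hN
  haveI : N.Normal := by
    rw [hN, SemidirectProduct.range_inl_eq_ker_rightHom]
    exact MonoidHom.normal_ker _
  have hconj : ∀ (k : ℕ) (h : H), y ^ k * i h * (y ^ k)⁻¹ = i ((x ^ k) h) := by
    intro k h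
    have := SemidirectProduct.inl_aut (φ := P.subtype) ((⟨x, Subgroup.mem_zpowers x⟩ : P) ^ k) h
    simp only [map_inv, map_pow] at this
    exact this.symm
  have hxp : y ^ p = 1 := by
    show SemidirectProduct.inr _ ^ p = (1 : G)
    rw [← map_pow, show (⟨x, Subgroup.mem_zpowers x⟩ : P) ^ p = 1 from
      Subtype.ext (by rw [SubgroupClass.coe_pow, ← hx, pow_orderOf_eq_one]; rfl), map_one]
  have hinr : ∀ a : P, (SemidirectProduct.inr a : G) ∈ Subgroup.zpowers y := by
    intro a
    obtain ⟨k, hk⟩ := Subgroup.mem_zpowers_iff.1 a.2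
    refine Subgroup.mem_zpowers_iff.2 ⟨k, ?_⟩
    show SemidirectProduct.inr _ ^ k = (SemidirectProduct.inr a : G)
    rw [← map_zpow]
    exact congrArg _ (Subtype.ext hk)
  have htop : N ⊔ Subgroup.zpowers y = ⊤ := by
    rw [eq_top_iff]
    intro g _
    rw [← SemidirectProduct.inl_left_mul_inr_right g]
    exact Subgroup.mul_mem_sup ⟨g.left, rfl⟩ (hinr g.right)
  have hinj : Function.Injective i := SemidirectProduct.inl_injective
  have hcard : Nat.card N = Nat.card H := Nat.card_congr (MonoidHom.ofInjective hinj).toEquiv.symm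
  have hclaim := CfsgLib.Solvable.Flavell.claim_of_coprime hpp hp hxp htop
    (Group.isSolvable_of_surjective (f := i.rangeRestrict) i.rangeRestrict_surjective) (hcard ▸ hcop)
  have hfix : ∀ c : H, i c ∈ Subgroup.centralizer ({y} : Set G) ↔ c ∈ (x : H →* H).eqLocus (MonoidHom.id H) := by
    intro c
    have h1 := hconj 1 c
    simp only [pow_one] at h1
    rw [Subgroup.mem_centralizer_singleton_iff]
    constructor
    · intro h
      show x c = c
      apply hinj
      rw [← h1, mul_inv_eq_iff_eq_mul]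
      exact h.symm
    · intro h
      have h' : x c = c := h
      rw [h', mul_inv_eq_iff_eq_mul] at h1
      exact h1.symm
  have hbrk : ∀ h : H, CfsgLib.Solvable.Flavell.brk y (i h) =
      (Subgroup.closure {c : H | ∃ k : ℕ, c = h⁻¹ * (x ^ k) h}).map i := by
    intro h
    rw [CfsgLib.Solvable.Flavell.brk, MonoidHom.map_closure]
    congr 1
    ext g
    constructor
    · rintro ⟨k, rfl⟩
      exact ⟨_, ⟨k, rfl⟩, by rw [map_mul, map_inv, ← hconj]⟩
    · rintro ⟨_, ⟨k, rfl⟩, rfl⟩
      exact ⟨k, by show _ = i _; rw [map_mul, map_inv, ← hconj]⟩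
  refine le_antisymm ?_ (iSup_le fun h => inf_le_inf_right _ (Subgroup.closure_mono ?_))
  · rintro c ⟨hc, hcx⟩
    have h1 : i c ∈ ⁅N, Subgroup.zpowers y⁆ := by
      have hle : (Subgroup.closure {c : H | ∃ h : H, ∃ k : ℕ, c = h⁻¹ * (x ^ k) h}).map i ≤ ⁅N, Subgroup.zpowers y⁆ := by
        rw [MonoidHom.map_closure, Subgroup.closure_le]
        rintro _ ⟨_, ⟨h, k, rfl⟩, rfl⟩
        have := Subgroup.commutator_mem_commutator (show i h⁻¹ ∈ N from ⟨h⁻¹, rfl⟩)
          (pow_mem (Subgroup.mem_zpowers y) k)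
        rw [commutatorElement_def, map_inv, inv_inv] at this
        rw [map_mul, map_inv, ← hconj]
        simpa only [SetLike.mem_coe, mul_assoc] using this
      exact hle (Subgroup.mem_map_of_mem i hc)
    have h2 := hclaim ⟨h1, (hfix c).2 hcx⟩
    have hle : CfsgLib.Solvable.Flavell.fixGen y N ≤ (⨆ h : H, Subgroup.closure {c : H | ∃ k : ℕ, c = h⁻¹ * (x ^ k) h} ⊓
        (x : H →* H).eqLocus (MonoidHom.id H)).map i := by
      refine iSup_le ?_
      rintro ⟨_, h, rfl⟩ g ⟨hg, hgx⟩
      have hg' : g ∈ (Subgroup.closure {c : H | ∃ k : ℕ, c = h⁻¹ * (x ^ k) h}).map i := hbrk h ▸ hg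
      obtain ⟨c', hc', rfl⟩ := hg'
      exact ⟨c', le_iSup (fun h : H => Subgroup.closure {c : H | ∃ k : ℕ, c = h⁻¹ * (x ^ k) h} ⊓
        (x : H →* H).eqLocus (MonoidHom.id H)) h ⟨hc', (hfix c').1 hgx⟩, rfl⟩
    obtain ⟨c', hc', e⟩ := hle h2
    rw [← hinj e]
    exact hc'
  · rintro c ⟨k, rfl⟩
    exact ⟨h, k, rfl⟩

end Cfsg.Agent.S3816
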