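import Cfsg.Statements.S3818
import Cfsg.Agent.Lib.Solvable.FixedSpaceGeneral

set_option autoImplicit false
open Cfsg

namespace Cfsg.Agent.S3818

/-- Let G be a finite solvable group and P a subgroup of G of prime order p > 3 whose conjugates generate G. Let V be a faithful irreducible representation of G over a field of positive characteristic, finite-dimensional. Then the subspace of V fixed by P has dimension less than half the dimension of V. -/
theorem result {G : Type*} [Group G] [Finite G] [Group.IsSolvable G]
    {p : ℕ} [Fact p.Prime] (hp : 3 < p) (P : Subgroup G) (hP : Nat.card P = p) (hgen : Subgroup.normalClosure (P : Set G) = ⊤)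
    {k : Type*} [Field k] (ℓ : ℕ) [Fact ℓ.Prime] [CharP k ℓ]
    {V : Type*} [AddCommGroup V] [Module k V] [FiniteDimensional k V]
    (ρ : Representation k G V) [ρ.IsIrreducible] (hfaith : Function.Injective ρ) :
    2 * Module.finrank k ↥(⨅ g : ↥P, LinearMap.ker (ρ (g : G) - LinearMap.id)) < Module.finrank k V := by
  classical
  have hp' : p.Prime := Fact.out
  haveI : Nontrivial P := by
    rw [← Finite.one_lt_card_iff_nontrivial, hP]; omega
  obtain ⟨x, hx⟩ := exists_ne (1 : P)
  have hx1 : (x : G) ≠ 1 := fun h => hx (Subtype.ext h)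
  have hxp : (x : G) ^ p = 1 := by
    rw [← Subgroup.coe_pow, ← hP, pow_card_eq_one', OneMemClass.coe_one]
  have hgen' : Subgroup.normalClosure ({(x : G)} : Set G) = ⊤ := by
    rw [eq_top_iff, ← hgen]
    refine Subgroup.normalClosure_le_normal fun g hg => ?_
    have hmem : (⟨g, hg⟩ : P) ∈ Subgroup.zpowers x := mem_zpowers_of_prime_card hP hx
    obtain ⟨i, hi⟩ := hmem
    rw [show g = (x : G) ^ i from (congrArg Subtype.val hi).symm]
    exact Subgroup.zpow_mem _ (Subgroup.subset_normalClosure (Set.mem_singleton _)) i
  haveI : Nontrivial V := by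
    by_contra h
    rw [not_nontrivial_iff_subsingleton] at h
    exact hx1 (hfaith (LinearMap.ext fun v => Subsingleton.elim _ _))
  have hirr : ∀ U : Submodule k V, (∀ g, ∀ u ∈ U, ρ g u ∈ U) → U = ⊥ ∨ U = ⊤ := by
    intro U hU
    rcases eq_bot_or_eq_top (⟨U, fun g v hv => hU g v hv⟩ : Subrepresentation ρ) with h | h
    · exact Or.inl (congrArg Subrepresentation.toSubmodule h)
    · exact Or.inr (congrArg Subrepresentation.toSubmodule h)
  refine lt_of_le_of_lt (Nat.mul_le_mul_left 2 (Submodule.finrank_mono (iInf_le _ x))) ?_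
  exact CfsgLib.Solvable.FixedSpace.two_mul_fixed_lt ℓ ρ hfaith hirr hp' (by
    rcases Nat.lt_or_ge p 5 with h | h
    · have h4 : p = 4 := by omega
      rw [h4] at hp'
      exact absurd hp' (by norm_num)
    · exact h) hxp hx1 hgen'

end Cfsg.Agent.S3818
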